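-- Common root: realises equation lemmas once, so that no two modules hold their own copy.
import Mathlib
import Cfsg.Prelude.Def_AlmostLie
import Cfsg.Prelude.Def_Amalgam
import Cfsg.Prelude.Def_AxialAlgebras
import Cfsg.Prelude.Def_Balance
import Cfsg.Prelude.Def_BaumannBlocks
import Cfsg.Prelude.Def_BlockFusion
import Cfsg.Prelude.Def_BlockLocal
import Cfsg.Prelude.Def_BlockRank
import Cfsg.Prelude.Def_Blocks
import Cfsg.Prelude.Def_BrauerPairs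
import Cfsg.Prelude.Def_CaseTheorems
import Cfsg.Prelude.Def_CharExt
import Cfsg.Prelude.Def_Characters
import Cfsg.Prelude.Def_ChevAutomorphisms
import Cfsg.Prelude.Def_ChevB2
import Cfsg.Prelude.Def_ChevD4
import Cfsg.Prelude.Def_ChevE6
import Cfsg.Prelude.Def_ChevE7
import Cfsg.Prelude.Def_ChevE8
import Cfsg.Prelude.Def_ChevF4
import Cfsg.Prelude.Def_ChevG2
import Cfsg.Prelude.Def_ChevStructure
import Cfsg.Prelude.Def_ChevWords
import Cfsg.Prelude.Def_Chevalley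
import Cfsg.Prelude.Def_Classical
import Cfsg.Prelude.Def_ClassicalGeometry
import Cfsg.Prelude.Def_Classification2
import Cfsg.Prelude.Def_ClassificationK
import Cfsg.Prelude.Def_ClassificationStages
import Cfsg.Prelude.Def_ConjugacyFunctors
import Cfsg.Prelude.Def_CoprimeAction
import Cfsg.Prelude.Def_CurtisTits
import Cfsg.Prelude.Def_DStar
import Cfsg.Prelude.Def_DegreeGraph
import Cfsg.Prelude.Def_E6
import Cfsg.Prelude.Def_EvenTechniques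
import Cfsg.Prelude.Def_EvenType
import Cfsg.Prelude.Def_Exceptional
import Cfsg.Prelude.Def_FischerSpaces
import Cfsg.Prelude.Def_FusionComponents
import Cfsg.Prelude.Def_FusionFitting
import Cfsg.Prelude.Def_FusionReduction
import Cfsg.Prelude.Def_FusionSystem
import Cfsg.Prelude.Def_G2
import Cfsg.Prelude.Def_GeometricClasses
import Cfsg.Prelude.Def_HallClasses
import Cfsg.Prelude.Def_Involutions
import Cfsg.Prelude.Def_IsolatedElements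
import Cfsg.Prelude.Def_JComponents
import Cfsg.Prelude.Def_JankoFourType
import Cfsg.Prelude.Def_JordanBlocks
import Cfsg.Prelude.Def_KGroupFacts
import Cfsg.Prelude.Def_LieChev
import Cfsg.Prelude.Def_LieClassical
import Cfsg.Prelude.Def_LieExceptional
import Cfsg.Prelude.Def_LieRecognition
import Cfsg.Prelude.Def_LieTwisted
import Cfsg.Prelude.Def_LieTypeChar
import Cfsg.Prelude.Def_LieTypeDatum
import Cfsg.Prelude.Def_LieTypes
import Cfsg.Prelude.Def_LinearParabolics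
import Cfsg.Prelude.Def_Local
import Cfsg.Prelude.Def_LocalEven
import Cfsg.Prelude.Def_LocalStructure
import Cfsg.Prelude.Def_MonsterType
import Cfsg.Prelude.Def_OddOrder
import Cfsg.Prelude.Def_OddOrderChar
import Cfsg.Prelude.Def_OddOrderLocal
import Cfsg.Prelude.Def_PLocal
import Cfsg.Prelude.Def_ParabolicCharacters
import Cfsg.Prelude.Def_Perm
import Cfsg.Prelude.Def_PhanSystems
import Cfsg.Prelude.Def_Quasithin
import Cfsg.Prelude.Def_QuasithinSetup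
import Cfsg.Prelude.Def_RootSubgroups
import Cfsg.Prelude.Def_SevenCases
import Cfsg.Prelude.Def_Solvable
import Cfsg.Prelude.Def_SolvableStructure
import Cfsg.Prelude.Def_SporCoxeter
import Cfsg.Prelude.Def_Spor_B
import Cfsg.Prelude.Def_Spor_Conway
import Cfsg.Prelude.Def_Spor_Fi22
import Cfsg.Prelude.Def_Spor_Fi23
import Cfsg.Prelude.Def_Spor_Fi24
import Cfsg.Prelude.Def_Spor_HN
import Cfsg.Prelude.Def_Spor_He
import Cfsg.Prelude.Def_Spor_J1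
import Cfsg.Prelude.Def_Spor_J2
import Cfsg.Prelude.Def_Spor_J3
import Cfsg.Prelude.Def_Spor_J4
import Cfsg.Prelude.Def_Spor_Ly
import Cfsg.Prelude.Def_Spor_M
import Cfsg.Prelude.Def_Spor_Mathieu
import Cfsg.Prelude.Def_Spor_ON
import Cfsg.Prelude.Def_Spor_Ru
import Cfsg.Prelude.Def_Spor_Suz
import Cfsg.Prelude.Def_Spor_Th
import Cfsg.Prelude.Def_Sporadic
import Cfsg.Prelude.Def_SporadicB
import Cfsg.Prelude.Def_SporadicCombinatorics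
import Cfsg.Prelude.Def_Sporadic_a
import Cfsg.Prelude.Def_StandardType
import Cfsg.Prelude.Def_Steinberg
import Cfsg.Prelude.Def_SteinbergCover
import Cfsg.Prelude.Def_SubgroupEmbedding
import Cfsg.Prelude.Def_SylowChains
import Cfsg.Prelude.Def_SylowControl
import Cfsg.Prelude.Def_Sz
import Cfsg.Prelude.Def_Transfer
import Cfsg.Prelude.Def_TwoFusion

set_option autoImplicit false
namespace Cfsg.Agent.EqLemmas

theorem touch0 : True := by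
  have := @AddMonoid.toZero.eq_1.{0}
  have := @AddMonoid.toZero.eq_def.{0}
  have := @AddSubgroup.closure.eq_1.{0}
  have := @AddSubgroup.closure.eq_def.{0}
  have := @Additive.eq_1.{0}
  have := @Additive.eq_def.{0}
  have := @Additive.ofMul.eq_1.{0}
  have := @Additive.ofMul.eq_def.{0}
  have := @AlgEquiv.toMulEquiv.eq_1.{0,0,0}
  have := @AlgEquiv.toMulEquiv.eq_def.{0,0,0}
  have := @Algebra.algebraMap.eq_1.{0,0}
  have := @Algebra.algebraMap.eq_def.{0,0}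
  have := @Array.getD.eq_1.{0}
  have := @Array.getD.eq_def.{0}
  have := @Array.toList.eq_1.{0}
  have := @Array.toList.eq_def.{0}
  have := @BEq.beq.eq_1.{0}
  have := @BEq.beq.eq_def.{0}
  have := @Bind.bind.eq_1.{0,0}
  have := @Bind.bind.eq_def.{0,0}
  have := @Bool.and.eq_1
  have := @Bool.and.eq_2
  have := @Bool.and.eq_def
  have := @Bool.not.eq_1
  have := @Bool.not.eq_2
  have := @Bool.not.eq_def
  have := @Bot.bot.eq_1.{0}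
  have := @Bot.bot.eq_def.{0}
  have := @Bracket.bracket.eq_1.{0,0}
  have := @Bracket.bracket.eq_def.{0,0}
  have := @Cfsg.ActsAsOddPermModuleOnSection.eq_1.{0}
  have := @Cfsg.ActsAsOddPermModuleOnSection.eq_def.{0}
  have := @Cfsg.ActsAsSL2OnSection.eq_1.{0,0}
  have := @Cfsg.ActsAsSL2OnSection.eq_def.{0,0}
  have := @Cfsg.AlgInt.eq_1
  have := @Cfsg.AlgInt.eq_def
  have := @Cfsg.ArrayPt.eq_1
  have := @Cfsg.ArrayPt.eq_def
  have := @Cfsg.Axial.IsAxis.eq_1.{0,0}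
  have := @Cfsg.Axial.IsAxis.eq_def.{0,0}
  trivial

theorem touch1 : True := by
  have := @Cfsg.Axial.IsCommMul.eq_1.{0,0}
  have := @Cfsg.Axial.IsCommMul.eq_def.{0,0}
  have := @Cfsg.Axial.IsFrobeniusForm.eq_1.{0,0}
  have := @Cfsg.Axial.IsFrobeniusForm.eq_def.{0,0}
  have := @Cfsg.Axial.IsIdeal.eq_1.{0,0}
  have := @Cfsg.Axial.IsIdeal.eq_def.{0,0}
  have := @Cfsg.Axial.IsMajoranaAmbient.eq_1.{0}
  have := @Cfsg.Axial.IsMajoranaAmbient.eq_def.{0}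
  have := @Cfsg.Axial.IsMajoranaPair.eq_1.{0}
  have := @Cfsg.Axial.IsMajoranaPair.eq_def.{0}
  have := @Cfsg.Axial.IsMiyamotoMap.eq_1.{0,0}
  have := @Cfsg.Axial.IsMiyamotoMap.eq_def.{0,0}
  have := @Cfsg.Axial.IsMulClosed.eq_1.{0,0}
  have := @Cfsg.Axial.IsMulClosed.eq_def.{0,0}
  have := @Cfsg.Axial.IsPrimitiveAxialAlgebra.eq_1.{0,0}
  have := @Cfsg.Axial.IsPrimitiveAxialAlgebra.eq_def.{0,0}
  have := @Cfsg.Axial.IsPrimitiveAxis.eq_1.{0,0}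
  have := @Cfsg.Axial.IsPrimitiveAxis.eq_def.{0,0}
  have := @Cfsg.Axial.eigen.eq_1.{0,0}
  have := @Cfsg.Axial.eigen.eq_def.{0,0}
  have := @Cfsg.Axial.eigenSum.eq_1.{0,0}
  have := @Cfsg.Axial.eigenSum.eq_def.{0,0}
  have := @Cfsg.Axial.jordanLaw.eq_1.{0}
  have := @Cfsg.Axial.jordanLaw.eq_def.{0}
  have := @Cfsg.Axial.majoranaSpectrum.eq_1
  have := @Cfsg.Axial.majoranaSpectrum.eq_def
  have := @Cfsg.Axial.monsterLaw.eq_1.{0}
  have := @Cfsg.Axial.monsterLaw.eq_def.{0}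
  have := @Cfsg.Axial.subalgebraGen.eq_1.{0,0}
  have := @Cfsg.Axial.subalgebraGen.eq_def.{0,0}
  have := @Cfsg.BNPair.B.eq_1.{0}
  have := @Cfsg.BNPair.B.eq_def.{0}
  have := @Cfsg.BNPair.Irreducible.eq_1.{0}
  have := @Cfsg.BNPair.Irreducible.eq_def.{0}
  have := @Cfsg.BNPair.IsSplit.eq_1.{0}
  have := @Cfsg.BNPair.IsSplit.eq_def.{0}
  have := @Cfsg.BNPair.N.eq_1.{0}
  have := @Cfsg.BNPair.N.eq_def.{0}
  have := @Cfsg.BNPair.S.eq_1.{0}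
  have := @Cfsg.BNPair.S.eq_def.{0}
  trivial

theorem touch2 : True := by
  have := @Cfsg.BNPair.casesOn.eq_1.{0,0}
  have := @Cfsg.BNPair.casesOn.eq_def.{0,0}
  have := @Cfsg.BNPair.ctorIdx.eq_1.{0}
  have := @Cfsg.BNPair.ctorIdx.eq_def.{0}
  have := @Cfsg.BNPair.mk.noConfusion.eq_1.{0,0}
  have := @Cfsg.BNPair.mk.noConfusion.eq_def.{0,0}
  have := @Cfsg.BNPair.noConfusion.eq_1.{0,0}
  have := @Cfsg.BNPair.noConfusion.eq_def.{0,0}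
  have := @Cfsg.BNPair.noConfusionType.eq_1.{0,0}
  have := @Cfsg.BNPair.noConfusionType.eq_def.{0,0}
  have := @Cfsg.BNPair.parabolic.eq_1.{0}
  have := @Cfsg.BNPair.parabolic.eq_def.{0}
  have := @Cfsg.BNPair.rank.eq_1.{0}
  have := @Cfsg.BNPair.rank.eq_def.{0}
  have := @Cfsg.BNPair.recOn.eq_1.{0,0}
  have := @Cfsg.BNPair.recOn.eq_def.{0,0}
  have := @Cfsg.BrauerPairIdx.eq_1.{0}
  have := @Cfsg.BrauerPairIdx.eq_def.{0}
  have := @Cfsg.CentralizesModPPrimeCore.eq_1.{0}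
  have := @Cfsg.CentralizesModPPrimeCore.eq_def.{0}
  have := @Cfsg.Co0.eq_1
  have := @Cfsg.Co0.eq_def
  have := @Cfsg.CommAdj.eq_1.{0}
  have := @Cfsg.CommAdj.eq_def.{0}
  have := @Cfsg.ControlsFusion.eq_1.{0}
  have := @Cfsg.ControlsFusion.eq_def.{0}
  have := @Cfsg.ControlsRankOneFusion.eq_1.{0}
  have := @Cfsg.ControlsRankOneFusion.eq_def.{0}
  have := @Cfsg.ControlsRankTwoFusion.eq_1.{0}
  have := @Cfsg.ControlsRankTwoFusion.eq_def.{0}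
  have := @Cfsg.ControlsStrongFusion.eq_1.{0}
  have := @Cfsg.ControlsStrongFusion.eq_def.{0}
  have := @Cfsg.ControlsStrongFusionIn.eq_1.{0}
  have := @Cfsg.ControlsStrongFusionIn.eq_def.{0}
  have := @Cfsg.ControlsStrongFusionOf.eq_1.{0}
  have := @Cfsg.ControlsStrongFusionOf.eq_def.{0}
  have := @Cfsg.ControlsSylowIntersections.eq_1.{0}
  have := @Cfsg.ControlsSylowIntersections.eq_def.{0}
  have := @Cfsg.ControlsTransferIn.eq_1.{0}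
  have := @Cfsg.ControlsTransferIn.eq_def.{0}
  trivial

theorem touch3 : True := by
  have := @Cfsg.ControlsWeakClosureOfElementsIn.eq_1.{0}
  have := @Cfsg.ControlsWeakClosureOfElementsIn.eq_def.{0}
  have := @Cfsg.CosetVertex.eq_1.{0}
  have := @Cfsg.CosetVertex.eq_def.{0}
  have := @Cfsg.CubicParamLE.eq_1.{0}
  have := @Cfsg.CubicParamLE.eq_def.{0}
  have := @Cfsg.DAdj.eq_1.{0}
  have := @Cfsg.DAdj.eq_def.{0}
  have := @Cfsg.DadeHypothesis.casesOn.eq_1.{0,0}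
  have := @Cfsg.DadeHypothesis.casesOn.eq_def.{0,0}
  have := @Cfsg.DadeHypothesis.recOn.eq_1.{0,0}
  have := @Cfsg.DadeHypothesis.recOn.eq_def.{0,0}
  have := @Cfsg.DualAffinePoint.eq_1
  have := @Cfsg.DualAffinePoint.eq_def
  have := @Cfsg.EAdj.eq_1.{0}
  have := @Cfsg.EAdj.eq_def.{0}
  have := @Cfsg.FAdj.eq_1.{0}
  have := @Cfsg.FAdj.eq_def.{0}
  have := @Cfsg.FamilyControlsFusion.eq_1.{0}
  have := @Cfsg.FamilyControlsFusion.eq_def.{0}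
  have := @Cfsg.FamilyControlsStrongFusionIn.eq_1.{0}
  have := @Cfsg.FamilyControlsStrongFusionIn.eq_def.{0}
  have := @Cfsg.FamilyControlsTransferIn.eq_1.{0}
  have := @Cfsg.FamilyControlsTransferIn.eq_def.{0}
  have := @Cfsg.FamilyStronglyControlsFusion.eq_1.{0}
  have := @Cfsg.FamilyStronglyControlsFusion.eq_def.{0}
  have := @Cfsg.FusionSystem.HasPPowerIndexIn.eq_1.{0}
  have := @Cfsg.FusionSystem.HasPPowerIndexIn.eq_def.{0}
  have := @Cfsg.FusionSystem.HasPrimeToPIndexIn.eq_1.{0}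
  have := @Cfsg.FusionSystem.HasPrimeToPIndexIn.eq_def.{0}
  have := @Cfsg.FusionSystem.Hom.eq_1.{0}
  have := @Cfsg.FusionSystem.Hom.eq_def.{0}
  have := @Cfsg.FusionSystem.InducedAlong.eq_1.{0,0}
  have := @Cfsg.FusionSystem.InducedAlong.eq_def.{0,0}
  have := @Cfsg.FusionSystem.IsCentral.eq_1.{0}
  have := @Cfsg.FusionSystem.IsCentral.eq_def.{0}
  have := @Cfsg.FusionSystem.IsCentralProductOf.eq_1.{0}
  have := @Cfsg.FusionSystem.IsCentralProductOf.eq_def.{0}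
  have := @Cfsg.FusionSystem.IsCentralizerSystem.eq_1.{0}
  have := @Cfsg.FusionSystem.IsCentralizerSystem.eq_def.{0}
  trivial

theorem touch4 : True := by
  have := @Cfsg.FusionSystem.IsCentric.eq_1.{0}
  have := @Cfsg.FusionSystem.IsCentric.eq_def.{0}
  have := @Cfsg.FusionSystem.IsComponentIn.eq_1.{0}
  have := @Cfsg.FusionSystem.IsComponentIn.eq_def.{0}
  have := @Cfsg.FusionSystem.IsConj.eq_1.{0}
  have := @Cfsg.FusionSystem.IsConj.eq_def.{0}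
  have := @Cfsg.FusionSystem.IsConjElt.eq_1.{0}
  have := @Cfsg.FusionSystem.IsConjElt.eq_def.{0}
  have := @Cfsg.FusionSystem.IsConstrained.eq_1.{0}
  have := @Cfsg.FusionSystem.IsConstrained.eq_def.{0}
  have := @Cfsg.FusionSystem.IsEssential.eq_1.{0}
  have := @Cfsg.FusionSystem.IsEssential.eq_def.{0}
  have := @Cfsg.FusionSystem.IsExotic.eq_1.{0}
  have := @Cfsg.FusionSystem.IsExotic.eq_def.{0}
  have := @Cfsg.FusionSystem.IsFactorSystem.eq_1.{0,0}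
  have := @Cfsg.FusionSystem.IsFactorSystem.eq_def.{0,0}
  have := @Cfsg.FusionSystem.IsFullyAutomized.eq_1.{0}
  have := @Cfsg.FusionSystem.IsFullyAutomized.eq_def.{0}
  have := @Cfsg.FusionSystem.IsFullyCentralized.eq_1.{0}
  have := @Cfsg.FusionSystem.IsFullyCentralized.eq_def.{0}
  have := @Cfsg.FusionSystem.IsFullyNormalized.eq_1.{0}
  have := @Cfsg.FusionSystem.IsFullyNormalized.eq_def.{0}
  have := @Cfsg.FusionSystem.IsGeneralizedFittingOf.eq_1.{0}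
  have := @Cfsg.FusionSystem.IsGeneralizedFittingOf.eq_def.{0}
  have := @Cfsg.FusionSystem.IsInvariantIn.eq_1.{0}
  have := @Cfsg.FusionSystem.IsInvariantIn.eq_def.{0}
  have := @Cfsg.FusionSystem.IsLayerOf.eq_1.{0}
  have := @Cfsg.FusionSystem.IsLayerOf.eq_def.{0}
  have := @Cfsg.FusionSystem.IsModel.eq_1.{0,0}
  have := @Cfsg.FusionSystem.IsModel.eq_def.{0,0}
  have := @Cfsg.FusionSystem.IsMorphism.eq_1.{0,0}
  have := @Cfsg.FusionSystem.IsMorphism.eq_def.{0,0}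
  have := @Cfsg.FusionSystem.IsNormal.eq_1.{0}
  have := @Cfsg.FusionSystem.IsNormal.eq_def.{0}
  have := @Cfsg.FusionSystem.IsNormalIn.eq_1.{0}
  have := @Cfsg.FusionSystem.IsNormalIn.eq_def.{0}
  have := @Cfsg.FusionSystem.IsNormalizerSystem.eq_1.{0}
  have := @Cfsg.FusionSystem.IsNormalizerSystem.eq_def.{0}
  have := @Cfsg.FusionSystem.IsOfCharacteristicPType.eq_1.{0}
  have := @Cfsg.FusionSystem.IsOfCharacteristicPType.eq_def.{0}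
  trivial

theorem touch5 : True := by
  have := @Cfsg.FusionSystem.IsOfComponentType.eq_1.{0}
  have := @Cfsg.FusionSystem.IsOfComponentType.eq_def.{0}
  have := @Cfsg.FusionSystem.IsPPrimeResidual.eq_1.{0}
  have := @Cfsg.FusionSystem.IsPPrimeResidual.eq_def.{0}
  have := @Cfsg.FusionSystem.IsPResidual.eq_1.{0}
  have := @Cfsg.FusionSystem.IsPResidual.eq_def.{0}
  have := @Cfsg.FusionSystem.IsProductSystem.eq_1.{0,0}
  have := @Cfsg.FusionSystem.IsProductSystem.eq_def.{0,0}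
  have := @Cfsg.FusionSystem.IsRadical.eq_1.{0}
  have := @Cfsg.FusionSystem.IsRadical.eq_def.{0}
  have := @Cfsg.FusionSystem.IsRealizable.eq_1.{0}
  have := @Cfsg.FusionSystem.IsRealizable.eq_def.{0}
  have := @Cfsg.FusionSystem.IsRealizedBy.eq_1.{0,0}
  have := @Cfsg.FusionSystem.IsRealizedBy.eq_def.{0,0}
  have := @Cfsg.FusionSystem.IsReceptive.eq_1.{0}
  have := @Cfsg.FusionSystem.IsReceptive.eq_def.{0}
  have := @Cfsg.FusionSystem.IsReduced.eq_1.{0}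
  have := @Cfsg.FusionSystem.IsReduced.eq_def.{0}
  have := @Cfsg.FusionSystem.IsSaturated.eq_1.{0}
  have := @Cfsg.FusionSystem.IsSaturated.eq_def.{0}
  have := @Cfsg.FusionSystem.IsSectionFree.eq_1.{0,0}
  have := @Cfsg.FusionSystem.IsSectionFree.eq_def.{0,0}
  have := @Cfsg.FusionSystem.IsSimple.eq_1.{0}
  have := @Cfsg.FusionSystem.IsSimple.eq_def.{0}
  have := @Cfsg.FusionSystem.IsSolvableSystem.eq_1.{0}
  have := @Cfsg.FusionSystem.IsSolvableSystem.eq_def.{0}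
  have := @Cfsg.FusionSystem.IsSubsystemOf.eq_1.{0}
  have := @Cfsg.FusionSystem.IsSubsystemOf.eq_def.{0}
  have := @Cfsg.FusionSystem.IsSurjectiveMorphism.eq_1.{0,0}
  have := @Cfsg.FusionSystem.IsSurjectiveMorphism.eq_def.{0,0}
  have := @Cfsg.FusionSystem.IsWeaklyNormalIn.eq_1.{0}
  have := @Cfsg.FusionSystem.IsWeaklyNormalIn.eq_def.{0}
  have := @Cfsg.FusionSystem.Quasisimple.eq_1.{0}
  have := @Cfsg.FusionSystem.Quasisimple.eq_def.{0}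
  have := @Cfsg.FusionSystem.StronglyClosed.eq_1.{0}
  have := @Cfsg.FusionSystem.StronglyClosed.eq_def.{0}
  have := @Cfsg.FusionSystem.WeaklyClosed.eq_1.{0}
  have := @Cfsg.FusionSystem.WeaklyClosed.eq_def.{0}
  have := @Cfsg.FusionSystem.autGroup.eq_1.{0}
  have := @Cfsg.FusionSystem.autGroup.eq_def.{0}
  trivial

theorem touch6 : True := by
  have := @Cfsg.FusionSystem.casesOn.eq_1.{0,0}
  have := @Cfsg.FusionSystem.casesOn.eq_def.{0,0}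
  have := @Cfsg.FusionSystem.center.eq_1.{0}
  have := @Cfsg.FusionSystem.center.eq_def.{0}
  have := @Cfsg.FusionSystem.centralizerHom.eq_1.{0}
  have := @Cfsg.FusionSystem.centralizerHom.eq_def.{0}
  have := @Cfsg.FusionSystem.centralizerIn.eq_1.{0}
  have := @Cfsg.FusionSystem.centralizerIn.eq_def.{0}
  have := @Cfsg.FusionSystem.core.eq_1.{0}
  have := @Cfsg.FusionSystem.core.eq_def.{0}
  have := @Cfsg.FusionSystem.ctorIdx.eq_1.{0}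
  have := @Cfsg.FusionSystem.ctorIdx.eq_def.{0}
  have := @Cfsg.FusionSystem.extender.eq_1.{0}
  have := @Cfsg.FusionSystem.extender.eq_def.{0}
  have := @Cfsg.FusionSystem.focalSubgroup.eq_1.{0}
  have := @Cfsg.FusionSystem.focalSubgroup.eq_def.{0}
  have := @Cfsg.FusionSystem.homSet.eq_1.{0}
  have := @Cfsg.FusionSystem.homSet.eq_def.{0}
  have := @Cfsg.FusionSystem.hyperfocalSubgroup.eq_1.{0}
  have := @Cfsg.FusionSystem.hyperfocalSubgroup.eq_def.{0}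
  have := @Cfsg.FusionSystem.imageAlong.eq_1.{0,0}
  have := @Cfsg.FusionSystem.imageAlong.eq_def.{0,0}
  have := @Cfsg.FusionSystem.instLE.eq_1.{0}
  have := @Cfsg.FusionSystem.instLE.eq_def.{0}
  have := @Cfsg.FusionSystem.mk.noConfusion.eq_1.{0,0}
  have := @Cfsg.FusionSystem.mk.noConfusion.eq_def.{0,0}
  have := @Cfsg.FusionSystem.noConfusion.eq_1.{0,0}
  have := @Cfsg.FusionSystem.noConfusion.eq_def.{0,0}
  have := @Cfsg.FusionSystem.noConfusionType.eq_1.{0,0}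
  have := @Cfsg.FusionSystem.noConfusionType.eq_def.{0,0}
  have := @Cfsg.FusionSystem.normalizerHom.eq_1.{0}
  have := @Cfsg.FusionSystem.normalizerHom.eq_def.{0}
  have := @Cfsg.FusionSystem.normalizerIn.eq_1.{0}
  have := @Cfsg.FusionSystem.normalizerIn.eq_def.{0}
  have := @Cfsg.FusionSystem.preimageAlong.eq_1.{0,0}
  have := @Cfsg.FusionSystem.preimageAlong.eq_def.{0,0}
  have := @Cfsg.FusionSystem.recOn.eq_1.{0,0}
  have := @Cfsg.FusionSystem.recOn.eq_def.{0,0}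
  have := @Cfsg.GSp.eq_1.{0}
  have := @Cfsg.GSp.eq_def.{0}
  trivial

theorem touch7 : True := by
  have := @Cfsg.GU.eq_1.{0}
  have := @Cfsg.GU.eq_def.{0}
  have := @Cfsg.Geo.ActsAbsolutelyIrreducibly.eq_1.{0}
  have := @Cfsg.Geo.ActsAbsolutelyIrreducibly.eq_def.{0}
  have := @Cfsg.Geo.ActsIrreducibly.eq_1.{0}
  have := @Cfsg.Geo.ActsIrreducibly.eq_def.{0}
  have := @Cfsg.Geo.AreIsometricFor.eq_1.{0}
  have := @Cfsg.Geo.AreIsometricFor.eq_def.{0}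
  have := @Cfsg.Geo.AreOrthogonalFor.eq_1.{0}
  have := @Cfsg.Geo.AreOrthogonalFor.eq_def.{0}
  have := @Cfsg.Geo.FixesForm.eq_1.{0}
  have := @Cfsg.Geo.FixesForm.eq_def.{0}
  have := @Cfsg.Geo.FixesQuadForm.eq_1.{0}
  have := @Cfsg.Geo.FixesQuadForm.eq_def.{0}
  have := @Cfsg.Geo.HasSquareDiscriminant.eq_1.{0}
  have := @Cfsg.Geo.HasSquareDiscriminant.eq_def.{0}
  have := @Cfsg.Geo.InLinearClass.eq_1.{0}
  have := @Cfsg.Geo.InLinearClass.eq_def.{0}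
  have := @Cfsg.Geo.InLinearResidualClass.eq_1.{0}
  have := @Cfsg.Geo.InLinearResidualClass.eq_def.{0}
  have := @Cfsg.Geo.InOrthogonalOddClass.eq_1.{0}
  have := @Cfsg.Geo.InOrthogonalOddClass.eq_def.{0}
  have := @Cfsg.Geo.InOrthogonalResidualClass.eq_1.{0}
  have := @Cfsg.Geo.InOrthogonalResidualClass.eq_def.{0}
  have := @Cfsg.Geo.InSymplecticClass.eq_1.{0}
  have := @Cfsg.Geo.InSymplecticClass.eq_def.{0}
  have := @Cfsg.Geo.InSymplecticPartialClass.eq_1.{0}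
  have := @Cfsg.Geo.InSymplecticPartialClass.eq_def.{0}
  have := @Cfsg.Geo.InSymplecticResidualClass.eq_1.{0}
  have := @Cfsg.Geo.InSymplecticResidualClass.eq_def.{0}
  have := @Cfsg.Geo.InUnitaryClass.eq_1.{0}
  have := @Cfsg.Geo.InUnitaryClass.eq_def.{0}
  have := @Cfsg.Geo.InUnitaryPartialClass.eq_1.{0}
  have := @Cfsg.Geo.InUnitaryPartialClass.eq_def.{0}
  have := @Cfsg.Geo.InUnitaryResidualClass.eq_1.{0}
  have := @Cfsg.Geo.InUnitaryResidualClass.eq_def.{0}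
  have := @Cfsg.Geo.IsAdjointClosedFor.eq_1.{0}
  have := @Cfsg.Geo.IsAdjointClosedFor.eq_def.{0}
  have := @Cfsg.Geo.IsBilinearForm.casesOn.eq_1.{0,0}
  have := @Cfsg.Geo.IsBilinearForm.casesOn.eq_def.{0,0}
  trivial

theorem touch8 : True := by
  have := @Cfsg.Geo.IsBilinearForm.recOn.eq_1.{0,0}
  have := @Cfsg.Geo.IsBilinearForm.recOn.eq_def.{0,0}
  have := @Cfsg.Geo.IsFactorPermutation.eq_1.{0}
  have := @Cfsg.Geo.IsFactorPermutation.eq_def.{0}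
  have := @Cfsg.Geo.IsFieldSubalgebra.casesOn.eq_1.{0,0}
  have := @Cfsg.Geo.IsFieldSubalgebra.casesOn.eq_def.{0,0}
  have := @Cfsg.Geo.IsFieldSubalgebra.recOn.eq_1.{0,0}
  have := @Cfsg.Geo.IsFieldSubalgebra.recOn.eq_def.{0,0}
  have := @Cfsg.Geo.IsFormRationalStructure.eq_1.{0}
  have := @Cfsg.Geo.IsFormRationalStructure.eq_def.{0}
  have := @Cfsg.Geo.IsLinearSymplecticTypeData.casesOn.eq_1.{0,0}
  have := @Cfsg.Geo.IsLinearSymplecticTypeData.casesOn.eq_def.{0,0}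
  have := @Cfsg.Geo.IsLinearSymplecticTypeData.recOn.eq_1.{0,0}
  have := @Cfsg.Geo.IsLinearSymplecticTypeData.recOn.eq_def.{0,0}
  have := @Cfsg.Geo.IsMDecomposition.casesOn.eq_1.{0,0}
  have := @Cfsg.Geo.IsMDecomposition.casesOn.eq_def.{0,0}
  have := @Cfsg.Geo.IsMDecomposition.recOn.eq_1.{0,0}
  have := @Cfsg.Geo.IsMDecomposition.recOn.eq_def.{0,0}
  have := @Cfsg.Geo.IsMaximalIn.eq_1.{0}
  have := @Cfsg.Geo.IsMaximalIn.eq_def.{0}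
  have := @Cfsg.Geo.IsMinimalFieldFor.eq_1.{0}
  have := @Cfsg.Geo.IsMinimalFieldFor.eq_def.{0}
  have := @Cfsg.Geo.IsNondegenerateForm.eq_1.{0}
  have := @Cfsg.Geo.IsNondegenerateForm.eq_def.{0}
  have := @Cfsg.Geo.IsNondegenerateMDecomposition.casesOn.eq_1.{0,0}
  have := @Cfsg.Geo.IsNondegenerateMDecomposition.casesOn.eq_def.{0,0}
  have := @Cfsg.Geo.IsNondegenerateMDecomposition.recOn.eq_1.{0,0}
  have := @Cfsg.Geo.IsNondegenerateMDecomposition.recOn.eq_def.{0,0}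
  have := @Cfsg.Geo.IsNondegenerateOn.eq_1.{0}
  have := @Cfsg.Geo.IsNondegenerateOn.eq_def.{0}
  have := @Cfsg.Geo.IsNondegenerateQuadraticForm.casesOn.eq_1.{0,0}
  have := @Cfsg.Geo.IsNondegenerateQuadraticForm.casesOn.eq_def.{0,0}
  have := @Cfsg.Geo.IsNondegenerateQuadraticForm.recOn.eq_1.{0,0}
  have := @Cfsg.Geo.IsNondegenerateQuadraticForm.recOn.eq_def.{0,0}
  have := @Cfsg.Geo.IsOfMinusType.eq_1.{0}
  have := @Cfsg.Geo.IsOfMinusType.eq_def.{0}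
  have := @Cfsg.Geo.IsOfPlusType.eq_1.{0}
  have := @Cfsg.Geo.IsOfPlusType.eq_def.{0}
  have := @Cfsg.Geo.IsOrthogonalMDecomposition.casesOn.eq_1.{0,0}
  have := @Cfsg.Geo.IsOrthogonalMDecomposition.casesOn.eq_def.{0,0}
  trivial

theorem touch9 : True := by
  have := @Cfsg.Geo.IsOrthogonalMDecomposition.recOn.eq_1.{0,0}
  have := @Cfsg.Geo.IsOrthogonalMDecomposition.recOn.eq_def.{0,0}
  have := @Cfsg.Geo.IsPlusTypeOn.eq_1.{0}
  have := @Cfsg.Geo.IsPlusTypeOn.eq_def.{0}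
  have := @Cfsg.Geo.IsPureTensor.eq_1.{0}
  have := @Cfsg.Geo.IsPureTensor.eq_def.{0}
  have := @Cfsg.Geo.IsQuadFormRationalStructure.eq_1.{0}
  have := @Cfsg.Geo.IsQuadFormRationalStructure.eq_def.{0}
  have := @Cfsg.Geo.IsResidualCore.casesOn.eq_1.{0,0}
  have := @Cfsg.Geo.IsResidualCore.casesOn.eq_def.{0,0}
  have := @Cfsg.Geo.IsResidualCore.recOn.eq_1.{0,0}
  have := @Cfsg.Geo.IsResidualCore.recOn.eq_def.{0,0}
  have := @Cfsg.Geo.IsSelfAdjointFor.eq_1.{0}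
  have := @Cfsg.Geo.IsSelfAdjointFor.eq_def.{0}
  have := @Cfsg.Geo.IsSymmetricForm.casesOn.eq_1.{0,0}
  have := @Cfsg.Geo.IsSymmetricForm.casesOn.eq_def.{0,0}
  have := @Cfsg.Geo.IsSymmetricForm.recOn.eq_1.{0,0}
  have := @Cfsg.Geo.IsSymmetricForm.recOn.eq_def.{0,0}
  have := @Cfsg.Geo.IsSymplecticForm.casesOn.eq_1.{0,0}
  have := @Cfsg.Geo.IsSymplecticForm.casesOn.eq_def.{0,0}
  have := @Cfsg.Geo.IsSymplecticForm.recOn.eq_1.{0,0}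
  have := @Cfsg.Geo.IsSymplecticForm.recOn.eq_def.{0,0}
  have := @Cfsg.Geo.IsSymplecticTypeGroup.casesOn.eq_1.{0,0}
  have := @Cfsg.Geo.IsSymplecticTypeGroup.casesOn.eq_def.{0,0}
  have := @Cfsg.Geo.IsSymplecticTypeGroup.recOn.eq_1.{0,0}
  have := @Cfsg.Geo.IsSymplecticTypeGroup.recOn.eq_def.{0,0}
  have := @Cfsg.Geo.IsTensorFormStructure.eq_1.{0}
  have := @Cfsg.Geo.IsTensorFormStructure.eq_def.{0}
  have := @Cfsg.Geo.IsTensorPowerFormStructure.eq_1.{0}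
  have := @Cfsg.Geo.IsTensorPowerFormStructure.eq_def.{0}
  have := @Cfsg.Geo.IsTotallySingularFor.eq_1.{0}
  have := @Cfsg.Geo.IsTotallySingularFor.eq_def.{0}
  have := @Cfsg.Geo.IsTotallySingularQuad.eq_1.{0}
  have := @Cfsg.Geo.IsTotallySingularQuad.eq_def.{0}
  have := @Cfsg.Geo.IsUnitaryForm.casesOn.eq_1.{0,0}
  have := @Cfsg.Geo.IsUnitaryForm.casesOn.eq_def.{0,0}
  have := @Cfsg.Geo.IsUnitaryForm.recOn.eq_1.{0,0}
  have := @Cfsg.Geo.IsUnitaryForm.recOn.eq_def.{0,0}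
  have := @Cfsg.Geo.IsUnitaryFormPow.casesOn.eq_1.{0,0}
  have := @Cfsg.Geo.IsUnitaryFormPow.casesOn.eq_def.{0,0}
  trivial

theorem touch10 : True := by
  have := @Cfsg.Geo.IsUnitaryFormPow.recOn.eq_1.{0,0}
  have := @Cfsg.Geo.IsUnitaryFormPow.recOn.eq_def.{0,0}
  have := @Cfsg.Geo.RealisableOver.eq_1.{0}
  have := @Cfsg.Geo.RealisableOver.eq_def.{0}
  have := @Cfsg.Geo.decompositionStabilizer.eq_1.{0}
  have := @Cfsg.Geo.decompositionStabilizer.eq_def.{0}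
  have := @Cfsg.Geo.formOfGram.eq_1.{0}
  have := @Cfsg.Geo.formOfGram.eq_def.{0}
  have := @Cfsg.Geo.glReindex.eq_1.{0}
  have := @Cfsg.Geo.glReindex.eq_def.{0}
  have := @Cfsg.Geo.gramMatrix.eq_1.{0}
  have := @Cfsg.Geo.gramMatrix.eq_def.{0}
  have := @Cfsg.Geo.kroneckerSubgroup.eq_1.{0}
  have := @Cfsg.Geo.kroneckerSubgroup.eq_def.{0}
  have := @Cfsg.Geo.matrixSet.eq_1.{0}
  have := @Cfsg.Geo.matrixSet.eq_def.{0}
  have := @Cfsg.Geo.omegaGL.eq_1.{0}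
  have := @Cfsg.Geo.omegaGL.eq_def.{0}
  have := @Cfsg.Geo.quadSimilarityGroup.eq_1.{0}
  have := @Cfsg.Geo.quadSimilarityGroup.eq_def.{0}
  have := @Cfsg.Geo.scalars.eq_1.{0}
  have := @Cfsg.Geo.scalars.eq_def.{0}
  have := @Cfsg.Geo.similarityGroup.eq_1.{0}
  have := @Cfsg.Geo.similarityGroup.eq_def.{0}
  have := @Cfsg.Geo.specialLinear.eq_1.{0}
  have := @Cfsg.Geo.specialLinear.eq_def.{0}
  have := @Cfsg.Geo.subalgebraNormalizer.eq_1.{0}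
  have := @Cfsg.Geo.subalgebraNormalizer.eq_def.{0}
  have := @Cfsg.Geo.subfieldSubgroup.eq_1.{0}
  have := @Cfsg.Geo.subfieldSubgroup.eq_def.{0}
  have := @Cfsg.Geo.subgroupNormalizer.eq_1.{0}
  have := @Cfsg.Geo.subgroupNormalizer.eq_def.{0}
  have := @Cfsg.Geo.subspaceStabilizer.eq_1.{0}
  have := @Cfsg.Geo.subspaceStabilizer.eq_def.{0}
  have := @Cfsg.Geo.tensorProductSubgroup.eq_1.{0}
  have := @Cfsg.Geo.tensorProductSubgroup.eq_def.{0}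
  have := @Cfsg.Geo.tensorWreathStandard.eq_1.{0}
  have := @Cfsg.Geo.tensorWreathStandard.eq_def.{0}
  have := @Cfsg.Geo.tensorWreathSubgroup.eq_1.{0}
  have := @Cfsg.Geo.tensorWreathSubgroup.eq_def.{0}
  trivial

theorem touch11 : True := by
  have := @Cfsg.GolayPt.eq_1
  have := @Cfsg.GolayPt.eq_def
  have := @Cfsg.HalfSplits.eq_1.{0}
  have := @Cfsg.HalfSplits.eq_def.{0}
  have := @Cfsg.HalfSplitsType.eq_1
  have := @Cfsg.HalfSplitsType.eq_def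
  have := @Cfsg.HasAbelianUnipotents.eq_1.{0}
  have := @Cfsg.HasAbelianUnipotents.eq_def.{0}
  have := @Cfsg.HasBProperty.eq_1.{0}
  have := @Cfsg.HasBProperty.eq_def.{0}
  have := @Cfsg.HasBaumannBlockStructure.eq_1.{0}
  have := @Cfsg.HasBaumannBlockStructure.eq_def.{0}
  have := @Cfsg.HasBpProperty.eq_1.{0}
  have := @Cfsg.HasBpProperty.eq_def.{0}
  have := @Cfsg.HasComponent.eq_1.{0}
  have := @Cfsg.HasComponent.eq_def.{0}
  have := @Cfsg.HasCyclicSchurMultiplier.eq_1.{0}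
  have := @Cfsg.HasCyclicSchurMultiplier.eq_def.{0}
  have := @Cfsg.HasNormalPComplement.eq_1.{0}
  have := @Cfsg.HasNormalPComplement.eq_def.{0}
  have := @Cfsg.HasProperTwoGeneratedCore.eq_1.{0}
  have := @Cfsg.HasProperTwoGeneratedCore.eq_def.{0}
  have := @Cfsg.HasQuasisimpleGeneralizedFitting.eq_1.{0}
  have := @Cfsg.HasQuasisimpleGeneralizedFitting.eq_def.{0}
  have := @Cfsg.HasSchurMultiplier.eq_1.{0,0}
  have := @Cfsg.HasSchurMultiplier.eq_def.{0,0}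
  have := @Cfsg.HasSpeResidue.eq_1.{0}
  have := @Cfsg.HasSpeResidue.eq_def.{0}
  have := @Cfsg.HasStrongBProperty.eq_1.{0}
  have := @Cfsg.HasStrongBProperty.eq_def.{0}
  have := @Cfsg.HasSubgroupOfEveryOrder.eq_1.{0}
  have := @Cfsg.HasSubgroupOfEveryOrder.eq_def.{0}
  have := @Cfsg.InBTwo.eq_1.{0}
  have := @Cfsg.InBTwo.eq_def.{0}
  have := @Cfsg.InBmax.eq_1.{0}
  have := @Cfsg.InBmax.eq_def.{0}
  have := @Cfsg.InC.eq_1.{0}
  have := @Cfsg.InC.eq_def.{0}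
  have := @Cfsg.InCT.eq_1.{0}
  have := @Cfsg.InCT.eq_def.{0}
  trivial

theorem touch12 : True := by
  have := @Cfsg.InChev.eq_1.{0}
  have := @Cfsg.InChev.eq_def.{0}
  have := @Cfsg.InGp.eq_1.{0}
  have := @Cfsg.InGp.eq_def.{0}
  have := @Cfsg.InResidualCase.eq_1.{0}
  have := @Cfsg.InResidualCase.eq_def.{0}
  have := @Cfsg.InSHat.eq_1.{0}
  have := @Cfsg.InSHat.eq_def.{0}
  have := @Cfsg.InSStar.eq_1.{0}
  have := @Cfsg.InSStar.eq_def.{0}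
  have := @Cfsg.InSp.eq_1.{0}
  have := @Cfsg.InSp.eq_def.{0}
  have := @Cfsg.InT.eq_1.{0}
  have := @Cfsg.InT.eq_def.{0}
  have := @Cfsg.InTargetFive.eq_1.{0}
  have := @Cfsg.InTargetFive.eq_def.{0}
  have := @Cfsg.InTargetFour.eq_1.{0}
  have := @Cfsg.InTargetFour.eq_def.{0}
  have := @Cfsg.InTargetSeven.eq_1.{0}
  have := @Cfsg.InTargetSeven.eq_def.{0}
  have := @Cfsg.InTargetThree.eq_1.{0}
  have := @Cfsg.InTargetThree.eq_def.{0}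
  have := @Cfsg.InTargetTwo.eq_1.{0}
  have := @Cfsg.InTargetTwo.eq_def.{0}
  have := @Cfsg.InTargetTwoStar.eq_1.{0}
  have := @Cfsg.InTargetTwoStar.eq_def.{0}
  have := @Cfsg.InTargetZero.eq_1.{0}
  have := @Cfsg.InTargetZero.eq_def.{0}
  have := @Cfsg.InUniqueMaximal.eq_1.{0}
  have := @Cfsg.InUniqueMaximal.eq_def.{0}
  have := @Cfsg.InZStar.eq_1.{0}
  have := @Cfsg.InZStar.eq_def.{0}
  have := @Cfsg.InducedBlockDefined.eq_1.{0}
  have := @Cfsg.InducedBlockDefined.eq_def.{0}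
  have := @Cfsg.InducesElemAbelianTwoGroupOn.eq_1.{0}
  have := @Cfsg.InducesElemAbelianTwoGroupOn.eq_def.{0}
  have := @Cfsg.InducesInnerDiagonal.eq_1.{0}
  have := @Cfsg.InducesInnerDiagonal.eq_def.{0}
  have := @Cfsg.InducesNontrivialFieldAut.eq_1.{0}
  have := @Cfsg.InducesNontrivialFieldAut.eq_def.{0}
  trivial

theorem touch13 : True := by
  have := @Cfsg.InducesOnCentralQuotient.eq_1.{0}
  have := @Cfsg.InducesOnCentralQuotient.eq_def.{0}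
  have := @Cfsg.InducesUnitaryTypeAut.eq_1.{0}
  have := @Cfsg.InducesUnitaryTypeAut.eq_def.{0}
  have := @Cfsg.Inn.eq_1.{0}
  have := @Cfsg.Inn.eq_def.{0}
  have := @Cfsg.Involves.eq_1.{0,0}
  have := @Cfsg.Involves.eq_def.{0,0}
  have := @Cfsg.IrrCharacter.eq_1.{0}
  have := @Cfsg.IrrCharacter.eq_def.{0}
  have := @Cfsg.Is2DOrder.eq_1.{0}
  have := @Cfsg.Is2DOrder.eq_def.{0}
  have := @Cfsg.Is2E6.eq_1.{0}
  have := @Cfsg.Is2E6.eq_def.{0}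
  have := @Cfsg.Is3D4.eq_1.{0}
  have := @Cfsg.Is3D4.eq_def.{0}
  have := @Cfsg.IsAbelianFamily.eq_1.{0}
  have := @Cfsg.IsAbelianFamily.eq_def.{0}
  have := @Cfsg.IsActionPStable.eq_1.{0}
  have := @Cfsg.IsActionPStable.eq_def.{0}
  have := @Cfsg.IsAlmostLieTypeWith.eq_1.{0}
  have := @Cfsg.IsAlmostLieTypeWith.eq_def.{0}
  have := @Cfsg.IsAlmostPConstrained.eq_1.{0}
  have := @Cfsg.IsAlmostPConstrained.eq_def.{0}
  have := @Cfsg.IsAlmostStronglyPEmbedded.eq_1.{0}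
  have := @Cfsg.IsAlmostStronglyPEmbedded.eq_def.{0}
  have := @Cfsg.IsAlternating.eq_1.{0}
  have := @Cfsg.IsAlternating.eq_def.{0}
  have := @Cfsg.IsAmalgamPair.eq_1.{0}
  have := @Cfsg.IsAmalgamPair.eq_def.{0}
  have := @Cfsg.IsB.eq_1.{0}
  have := @Cfsg.IsB.eq_def.{0}
  have := @Cfsg.IsBOrder.eq_1.{0}
  have := @Cfsg.IsBOrder.eq_def.{0}
  have := @Cfsg.IsBalanced.eq_1.{0}
  have := @Cfsg.IsBalanced.eq_def.{0}
  have := @Cfsg.IsBalancedFor.eq_1.{0}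
  have := @Cfsg.IsBalancedFor.eq_def.{0}
  have := @Cfsg.IsBaumannBlock.eq_1.{0}
  have := @Cfsg.IsBaumannBlock.eq_def.{0}
  trivial

theorem touch14 : True := by
  have := @Cfsg.IsBenderGroup.eq_1.{0}
  have := @Cfsg.IsBenderGroup.eq_def.{0}
  have := @Cfsg.IsBestOffenderOn.eq_1.{0}
  have := @Cfsg.IsBestOffenderOn.eq_def.{0}
  have := @Cfsg.IsBlockFusionSystemOn.eq_1.{0}
  have := @Cfsg.IsBlockFusionSystemOn.eq_def.{0}
  have := @Cfsg.IsBrauerPair.eq_1.{0}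
  have := @Cfsg.IsBrauerPair.eq_def.{0}
  have := @Cfsg.IsBrauerPairOf.eq_1.{0}
  have := @Cfsg.IsBrauerPairOf.eq_def.{0}
  have := @Cfsg.IsCFiveListed.eq_1.{0}
  have := @Cfsg.IsCFiveListed.eq_def.{0}
  have := @Cfsg.IsCNGroup.eq_1.{0}
  have := @Cfsg.IsCNGroup.eq_def.{0}
  have := @Cfsg.IsCPiGroup.eq_1.{0}
  have := @Cfsg.IsCPiGroup.eq_def.{0}
  have := @Cfsg.IsCThreeListed.eq_1.{0}
  have := @Cfsg.IsCThreeListed.eq_def.{0}
  have := @Cfsg.IsCTwoListed.eq_1.{0}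
  have := @Cfsg.IsCTwoListed.eq_def.{0}
  have := @Cfsg.IsCarterSubgroup.eq_1.{0}
  have := @Cfsg.IsCarterSubgroup.eq_def.{0}
  have := @Cfsg.IsCentralizerLarge.eq_1.{0}
  have := @Cfsg.IsCentralizerLarge.eq_def.{0}
  have := @Cfsg.IsCentrallyLarge.eq_1.{0}
  have := @Cfsg.IsCentrallyLarge.eq_def.{0}
  have := @Cfsg.IsCharPAmalgamPair.eq_1.{0}
  have := @Cfsg.IsCharPAmalgamPair.eq_def.{0}
  have := @Cfsg.IsCharPFunctor.eq_1.{0}
  have := @Cfsg.IsCharPFunctor.eq_def.{0}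
  have := @Cfsg.IsCharPTall.eq_1.{0}
  have := @Cfsg.IsCharPTall.eq_def.{0}
  have := @Cfsg.IsCharacter.eq_1.{0}
  have := @Cfsg.IsCharacter.eq_def.{0}
  have := @Cfsg.IsCharacteristicTwoType.eq_1.{0}
  have := @Cfsg.IsCharacteristicTwoType.eq_def.{0}
  have := @Cfsg.IsChevSimple.eq_1.{0}
  have := @Cfsg.IsChevSimple.eq_def.{0}
  have := @Cfsg.IsChevalleyGroupOfType.eq_1.{0}
  have := @Cfsg.IsChevalleyGroupOfType.eq_10.{0}
  trivial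

theorem touch15 : True := by
  have := @Cfsg.IsChevalleyGroupOfType.eq_11.{0}
  have := @Cfsg.IsChevalleyGroupOfType.eq_12.{0}
  have := @Cfsg.IsChevalleyGroupOfType.eq_13.{0}
  have := @Cfsg.IsChevalleyGroupOfType.eq_14.{0}
  have := @Cfsg.IsChevalleyGroupOfType.eq_2.{0}
  have := @Cfsg.IsChevalleyGroupOfType.eq_3.{0}
  have := @Cfsg.IsChevalleyGroupOfType.eq_4.{0}
  have := @Cfsg.IsChevalleyGroupOfType.eq_5.{0}
  have := @Cfsg.IsChevalleyGroupOfType.eq_6.{0}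
  have := @Cfsg.IsChevalleyGroupOfType.eq_7.{0}
  have := @Cfsg.IsChevalleyGroupOfType.eq_8.{0}
  have := @Cfsg.IsChevalleyGroupOfType.eq_9.{0}
  have := @Cfsg.IsChevalleyGroupOfType.eq_def.{0}
  have := @Cfsg.IsChiefFactor.eq_1.{0}
  have := @Cfsg.IsChiefFactor.eq_def.{0}
  have := @Cfsg.IsClassFunction.eq_1.{0}
  have := @Cfsg.IsClassFunction.eq_def.{0}
  have := @Cfsg.IsClassicalInvolution.eq_1.{0}
  have := @Cfsg.IsClassicalInvolution.eq_def.{0}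
  have := @Cfsg.IsCo1.eq_1.{0}
  have := @Cfsg.IsCo1.eq_def.{0}
  have := @Cfsg.IsCo2.eq_1.{0}
  have := @Cfsg.IsCo2.eq_def.{0}
  have := @Cfsg.IsCo3.eq_1.{0}
  have := @Cfsg.IsCo3.eq_def.{0}
  have := @Cfsg.IsCoherenceSystem.casesOn.eq_1.{0,0,0}
  have := @Cfsg.IsCoherenceSystem.casesOn.eq_def.{0,0,0}
  have := @Cfsg.IsCoherenceSystem.recOn.eq_1.{0,0,0}
  have := @Cfsg.IsCoherenceSystem.recOn.eq_def.{0,0,0}
  have := @Cfsg.IsCoherent.eq_1.{0,0}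
  have := @Cfsg.IsCoherent.eq_def.{0,0}
  have := @Cfsg.IsComplIn.eq_1.{0}
  have := @Cfsg.IsComplIn.eq_def.{0}
  have := @Cfsg.IsComplementSystem.eq_1.{0}
  have := @Cfsg.IsComplementSystem.eq_def.{0}
  have := @Cfsg.IsCompleteSignalizerFunctor.eq_1.{0}
  have := @Cfsg.IsCompleteSignalizerFunctor.eq_def.{0}
  have := @Cfsg.IsComponent.eq_1.{0}
  have := @Cfsg.IsComponent.eq_def.{0}
  have := @Cfsg.IsComponentOf.eq_1.{0}
  trivial

theorem touch16 : True := by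
  have := @Cfsg.IsComponentOf.eq_def.{0}
  have := @Cfsg.IsComponentType.eq_1.{0}
  have := @Cfsg.IsComponentType.eq_def.{0}
  have := @Cfsg.IsCompositionKGroup.eq_1.{0}
  have := @Cfsg.IsCompositionKGroup.eq_def.{0}
  have := @Cfsg.IsCompositionKGroupWith.eq_1.{0}
  have := @Cfsg.IsCompositionKGroupWith.eq_def.{0}
  have := @Cfsg.IsCompositionKProper.eq_1.{0}
  have := @Cfsg.IsCompositionKProper.eq_def.{0}
  have := @Cfsg.IsConjCharOf.eq_1.{0}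
  have := @Cfsg.IsConjCharOf.eq_def.{0}
  have := @Cfsg.IsConjClassOfSubgroups.eq_1.{0}
  have := @Cfsg.IsConjClassOfSubgroups.eq_def.{0}
  have := @Cfsg.IsConjUnder.eq_1.{0}
  have := @Cfsg.IsConjUnder.eq_def.{0}
  have := @Cfsg.IsConjugacyFunctor.eq_1.{0}
  have := @Cfsg.IsConjugacyFunctor.eq_def.{0}
  have := @Cfsg.IsConjugationFamily.eq_1.{0}
  have := @Cfsg.IsConjugationFamily.eq_def.{0}
  have := @Cfsg.IsConnectedFamily.eq_1.{0}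
  have := @Cfsg.IsConnectedFamily.eq_def.{0}
  have := @Cfsg.IsConnectedSet.eq_1.{0}
  have := @Cfsg.IsConnectedSet.eq_def.{0}
  have := @Cfsg.IsCoreSeparated.eq_1.{0}
  have := @Cfsg.IsCoreSeparated.eq_def.{0}
  have := @Cfsg.IsCoveringGroupOfLieTypeTwo.eq_1.{0}
  have := @Cfsg.IsCoveringGroupOfLieTypeTwo.eq_def.{0}
  have := @Cfsg.IsCoveringGroupOfType.eq_1.{0}
  have := @Cfsg.IsCoveringGroupOfType.eq_def.{0}
  have := @Cfsg.IsCpException.eq_1.{0}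
  have := @Cfsg.IsCpException.eq_def.{0}
  have := @Cfsg.IsCpSimple.eq_1.{0}
  have := @Cfsg.IsCpSimple.eq_def.{0}
  have := @Cfsg.IsCriticalPair.eq_1.{0}
  have := @Cfsg.IsCriticalPair.eq_def.{0}
  have := @Cfsg.IsCyclicTIFamily.casesOn.eq_1.{0,0}
  have := @Cfsg.IsCyclicTIFamily.casesOn.eq_def.{0,0}
  have := @Cfsg.IsCyclicTIFamily.recOn.eq_1.{0,0}
  have := @Cfsg.IsCyclicTIFamily.recOn.eq_def.{0,0}
  have := @Cfsg.IsDOrder.eq_1.{0}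
  trivial

theorem touch17 : True := by
  have := @Cfsg.IsDOrder.eq_def.{0}
  have := @Cfsg.IsDPiGroup.eq_1.{0}
  have := @Cfsg.IsDPiGroup.eq_def.{0}
  have := @Cfsg.IsDSubgroup.eq_1.{0}
  have := @Cfsg.IsDSubgroup.eq_def.{0}
  have := @Cfsg.IsDefectClass.eq_1.{0}
  have := @Cfsg.IsDefectClass.eq_def.{0}
  have := @Cfsg.IsDefectGroup.eq_1.{0}
  have := @Cfsg.IsDefectGroup.eq_def.{0}
  have := @Cfsg.IsDegenerateRootSet.eq_1.{0}
  have := @Cfsg.IsDegenerateRootSet.eq_def.{0}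
  have := @Cfsg.IsDoublyTransitiveSuzukiType.eq_1.{0}
  have := @Cfsg.IsDoublyTransitiveSuzukiType.eq_def.{0}
  have := @Cfsg.IsE6.eq_1.{0}
  have := @Cfsg.IsE6.eq_def.{0}
  have := @Cfsg.IsE7.eq_1.{0}
  have := @Cfsg.IsE7.eq_def.{0}
  have := @Cfsg.IsE8.eq_1.{0}
  have := @Cfsg.IsE8.eq_def.{0}
  have := @Cfsg.IsEGroup.eq_1.{0}
  have := @Cfsg.IsEGroup.eq_def.{0}
  have := @Cfsg.IsEPiGroup.eq_1.{0}
  have := @Cfsg.IsEPiGroup.eq_def.{0}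
  have := @Cfsg.IsElementary.eq_1.{0}
  have := @Cfsg.IsElementary.eq_def.{0}
  have := @Cfsg.IsElementaryAbelian.eq_1.{0}
  have := @Cfsg.IsElementaryAbelian.eq_def.{0}
  have := @Cfsg.IsExceptionalChevChar.eq_1.{0}
  have := @Cfsg.IsExceptionalChevChar.eq_def.{0}
  have := @Cfsg.IsExceptionalLieType.eq_1.{0}
  have := @Cfsg.IsExceptionalLieType.eq_def.{0}
  have := @Cfsg.IsExtraspecial.eq_1.{0}
  have := @Cfsg.IsExtraspecial.eq_def.{0}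
  have := @Cfsg.IsExtraspecialCentralizerSetting.eq_1.{0}
  have := @Cfsg.IsExtraspecialCentralizerSetting.eq_def.{0}
  have := @Cfsg.IsExtremelyClosed.eq_1.{0}
  have := @Cfsg.IsExtremelyClosed.eq_def.{0}
  have := @Cfsg.IsF4.eq_1.{0}
  have := @Cfsg.IsF4.eq_def.{0}
  have := @Cfsg.IsFFModuleFor.eq_1.{0}
  trivial

theorem touch18 : True := by
  have := @Cfsg.IsFFModuleFor.eq_def.{0}
  have := @Cfsg.IsFFOffenderOn.eq_1.{0}
  have := @Cfsg.IsFFOffenderOn.eq_def.{0}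
  have := @Cfsg.IsFM9.eq_1
  have := @Cfsg.IsFM9.eq_def
  have := @Cfsg.IsFi22.eq_1.{0}
  have := @Cfsg.IsFi22.eq_def.{0}
  have := @Cfsg.IsFi23.eq_1.{0}
  have := @Cfsg.IsFi23.eq_def.{0}
  have := @Cfsg.IsFi24'.eq_1.{0}
  have := @Cfsg.IsFi24'.eq_def.{0}
  have := @Cfsg.IsFieldAutClassPOmega.eq_1.{0}
  have := @Cfsg.IsFieldAutClassPOmega.eq_def.{0}
  have := @Cfsg.IsFieldAutClassPOmegaMinus.eq_1.{0}
  have := @Cfsg.IsFieldAutClassPOmegaMinus.eq_def.{0}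
  have := @Cfsg.IsFieldAutClassPSL.eq_1.{0}
  have := @Cfsg.IsFieldAutClassPSL.eq_def.{0}
  have := @Cfsg.IsFieldAutClassPSU.eq_1.{0}
  have := @Cfsg.IsFieldAutClassPSU.eq_def.{0}
  have := @Cfsg.IsFieldAutClassPSp.eq_1.{0}
  have := @Cfsg.IsFieldAutClassPSp.eq_def.{0}
  have := @Cfsg.IsFieldAutPOmegaOf.eq_1.{0}
  have := @Cfsg.IsFieldAutPOmegaOf.eq_def.{0}
  have := @Cfsg.IsFieldAutPSL.eq_1.{0}
  have := @Cfsg.IsFieldAutPSL.eq_def.{0}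
  have := @Cfsg.IsFieldAutPSUOf.eq_1.{0}
  have := @Cfsg.IsFieldAutPSUOf.eq_def.{0}
  have := @Cfsg.IsFieldAutPSp.eq_1.{0}
  have := @Cfsg.IsFieldAutPSp.eq_def.{0}
  have := @Cfsg.IsFischerSpace.eq_1.{0}
  have := @Cfsg.IsFischerSpace.eq_def.{0}
  have := @Cfsg.IsFourConnected.eq_1.{0}
  have := @Cfsg.IsFourConnected.eq_def.{0}
  have := @Cfsg.IsFrobeniusComplement.eq_1.{0}
  have := @Cfsg.IsFrobeniusComplement.eq_def.{0}
  have := @Cfsg.IsFunctorRegular.eq_1.{0}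
  have := @Cfsg.IsFunctorRegular.eq_def.{0}
  have := @Cfsg.IsG2.eq_1.{0}
  have := @Cfsg.IsG2.eq_def.{0}
  have := @Cfsg.IsGeneralizedCharacter.eq_1.{0}
  trivial

theorem touch19 : True := by
  have := @Cfsg.IsGeneralizedCharacter.eq_def.{0}
  have := @Cfsg.IsGeneratedByMembers.eq_1.{0}
  have := @Cfsg.IsGeneratedByMembers.eq_def.{0}
  have := @Cfsg.IsGenericEvenType.eq_1.{0}
  have := @Cfsg.IsGenericEvenType.eq_def.{0}
  have := @Cfsg.IsGenericOddType.eq_1.{0}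
  have := @Cfsg.IsGenericOddType.eq_def.{0}
  have := @Cfsg.IsGenericType.eq_1.{0}
  have := @Cfsg.IsGenericType.eq_def.{0}
  have := @Cfsg.IsGoldschmidtGroup.eq_1.{0}
  have := @Cfsg.IsGoldschmidtGroup.eq_def.{0}
  have := @Cfsg.IsGraphAutClassPOmegaMinus.eq_1.{0}
  have := @Cfsg.IsGraphAutClassPOmegaMinus.eq_def.{0}
  have := @Cfsg.IsGraphAutClassPSL.eq_1.{0}
  have := @Cfsg.IsGraphAutClassPSL.eq_def.{0}
  have := @Cfsg.IsGraphAutClassPSU.eq_1.{0}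
  have := @Cfsg.IsGraphAutClassPSU.eq_def.{0}
  have := @Cfsg.IsGraphFieldAutClassPOmegaPlus.eq_1.{0}
  have := @Cfsg.IsGraphFieldAutClassPOmegaPlus.eq_def.{0}
  have := @Cfsg.IsGraphFieldAutClassPSL.eq_1.{0}
  have := @Cfsg.IsGraphFieldAutClassPSL.eq_def.{0}
  have := @Cfsg.IsGroupOfMonsterType.eq_1.{0}
  have := @Cfsg.IsGroupOfMonsterType.eq_def.{0}
  have := @Cfsg.IsHN.eq_1.{0}
  have := @Cfsg.IsHN.eq_def.{0}
  have := @Cfsg.IsHS.eq_1.{0}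
  have := @Cfsg.IsHS.eq_def.{0}
  have := @Cfsg.IsHatA6.eq_1.{0}
  have := @Cfsg.IsHatA6.eq_def.{0}
  have := @Cfsg.IsHe.eq_1.{0}
  have := @Cfsg.IsHe.eq_def.{0}
  have := @Cfsg.IsIdealPrime.eq_1.{0}
  have := @Cfsg.IsIdealPrime.eq_def.{0}
  have := @Cfsg.IsInFrakH.eq_1.{0}
  have := @Cfsg.IsInFrakH.eq_def.{0}
  have := @Cfsg.IsInFrakL.eq_1.{0}
  have := @Cfsg.IsInFrakL.eq_def.{0}
  have := @Cfsg.IsInFrakM.eq_1.{0}
  have := @Cfsg.IsInFrakM.eq_def.{0}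
  have := @Cfsg.IsInducedBlock.eq_1.{0}
  trivial

theorem touch20 : True := by
  have := @Cfsg.IsInducedBlock.eq_def.{0}
  have := @Cfsg.IsInducedBlockIn.eq_1.{0}
  have := @Cfsg.IsInducedBlockIn.eq_def.{0}
  have := @Cfsg.IsInducedBySemilinearPOmega.eq_1.{0}
  have := @Cfsg.IsInducedBySemilinearPOmega.eq_def.{0}
  have := @Cfsg.IsInducedBySemilinearPSL.eq_1.{0}
  have := @Cfsg.IsInducedBySemilinearPSL.eq_def.{0}
  have := @Cfsg.IsInducedBySemilinearPSU.eq_1.{0}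
  have := @Cfsg.IsInducedBySemilinearPSU.eq_def.{0}
  have := @Cfsg.IsInducedBySemilinearPSp.eq_1.{0}
  have := @Cfsg.IsInducedBySemilinearPSp.eq_def.{0}
  have := @Cfsg.IsInnerAut.eq_1.{0}
  have := @Cfsg.IsInnerAut.eq_def.{0}
  have := @Cfsg.IsInnerDiagonalAutCharTwo.eq_1.{0}
  have := @Cfsg.IsInnerDiagonalAutCharTwo.eq_def.{0}
  have := @Cfsg.IsInnerDiagonalAutOfType.eq_1.{0}
  have := @Cfsg.IsInnerDiagonalAutOfType.eq_10.{0}
  have := @Cfsg.IsInnerDiagonalAutOfType.eq_11.{0}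
  have := @Cfsg.IsInnerDiagonalAutOfType.eq_12.{0}
  have := @Cfsg.IsInnerDiagonalAutOfType.eq_13.{0}
  have := @Cfsg.IsInnerDiagonalAutOfType.eq_14.{0}
  have := @Cfsg.IsInnerDiagonalAutOfType.eq_15.{0}
  have := @Cfsg.IsInnerDiagonalAutOfType.eq_16.{0}
  have := @Cfsg.IsInnerDiagonalAutOfType.eq_2.{0}
  have := @Cfsg.IsInnerDiagonalAutOfType.eq_3.{0}
  have := @Cfsg.IsInnerDiagonalAutOfType.eq_4.{0}
  have := @Cfsg.IsInnerDiagonalAutOfType.eq_5.{0}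
  have := @Cfsg.IsInnerDiagonalAutOfType.eq_6.{0}
  have := @Cfsg.IsInnerDiagonalAutOfType.eq_7.{0}
  have := @Cfsg.IsInnerDiagonalAutOfType.eq_8.{0}
  have := @Cfsg.IsInnerDiagonalAutOfType.eq_9.{0}
  have := @Cfsg.IsInnerDiagonalAutOfType.eq_def.{0}
  have := @Cfsg.IsInnerDiagonalAutPOmegaMinus.eq_1.{0}
  have := @Cfsg.IsInnerDiagonalAutPOmegaMinus.eq_def.{0}
  have := @Cfsg.IsInnerDiagonalAutPOmegaOdd.eq_1.{0}
  have := @Cfsg.IsInnerDiagonalAutPOmegaOdd.eq_def.{0}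
  have := @Cfsg.IsInnerDiagonalAutPOmegaPlus.eq_1.{0}
  have := @Cfsg.IsInnerDiagonalAutPOmegaPlus.eq_def.{0}
  have := @Cfsg.IsInnerDiagonalAutPSL.eq_1.{0}
  have := @Cfsg.IsInnerDiagonalAutPSL.eq_def.{0}
  trivial

theorem touch21 : True := by
  have := @Cfsg.IsInnerDiagonalAutPSU.eq_1.{0}
  have := @Cfsg.IsInnerDiagonalAutPSU.eq_def.{0}
  have := @Cfsg.IsInnerDiagonalAutPSp.eq_1.{0}
  have := @Cfsg.IsInnerDiagonalAutPSp.eq_def.{0}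
  have := @Cfsg.IsInternalDirectProduct.eq_1.{0}
  have := @Cfsg.IsInternalDirectProduct.eq_def.{0}
  have := @Cfsg.IsInverseTransposeAutPSL.eq_1.{0}
  have := @Cfsg.IsInverseTransposeAutPSL.eq_def.{0}
  have := @Cfsg.IsIrrCharacter.eq_1.{0}
  have := @Cfsg.IsIrrCharacter.eq_def.{0}
  have := @Cfsg.IsIrreducibleFor.eq_1.{0,0}
  have := @Cfsg.IsIrreducibleFor.eq_def.{0,0}
  have := @Cfsg.IsIsolated.eq_1.{0}
  have := @Cfsg.IsIsolated.eq_def.{0}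
  have := @Cfsg.IsIsolatedElem.eq_1.{0}
  have := @Cfsg.IsIsolatedElem.eq_def.{0}
  have := @Cfsg.IsIsolatedIn.eq_1.{0}
  have := @Cfsg.IsIsolatedIn.eq_def.{0}
  have := @Cfsg.IsIsolatedInvolution.eq_1.{0}
  have := @Cfsg.IsIsolatedInvolution.eq_def.{0}
  have := @Cfsg.IsIsometryInducedAutPOmega.eq_1.{0}
  have := @Cfsg.IsIsometryInducedAutPOmega.eq_def.{0}
  have := @Cfsg.IsJ1.eq_1.{0}
  have := @Cfsg.IsJ1.eq_def.{0}
  have := @Cfsg.IsJ2.eq_1.{0}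
  have := @Cfsg.IsJ2.eq_def.{0}
  have := @Cfsg.IsJ3.eq_1.{0}
  have := @Cfsg.IsJ3.eq_def.{0}
  have := @Cfsg.IsJ4.eq_1.{0}
  have := @Cfsg.IsJ4.eq_def.{0}
  have := @Cfsg.IsJComponent.eq_1.{0}
  have := @Cfsg.IsJComponent.eq_def.{0}
  have := @Cfsg.IsKBalanced.eq_1.{0}
  have := @Cfsg.IsKBalanced.eq_def.{0}
  have := @Cfsg.IsKBalancedWrt.eq_1.{0}
  have := @Cfsg.IsKBalancedWrt.eq_def.{0}
  have := @Cfsg.IsKConnected.eq_1.{0}
  have := @Cfsg.IsKConnected.eq_def.{0}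
  have := @Cfsg.IsKGroup.eq_1.{0}
  have := @Cfsg.IsKGroup.eq_def.{0}
  trivial

theorem touch22 : True := by
  have := @Cfsg.IsKGroupWith.eq_1.{0}
  have := @Cfsg.IsKGroupWith.eq_def.{0}
  have := @Cfsg.IsKHalfBalancedWrt.eq_1.{0}
  have := @Cfsg.IsKHalfBalancedWrt.eq_def.{0}
  have := @Cfsg.IsKProper.eq_1.{0}
  have := @Cfsg.IsKProper.eq_def.{0}
  have := @Cfsg.IsKProperWith.eq_1.{0}
  have := @Cfsg.IsKProperWith.eq_def.{0}
  have := @Cfsg.IsKRootSubgroupSet.eq_1.{0,0}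
  have := @Cfsg.IsKRootSubgroupSet.eq_def.{0,0}
  have := @Cfsg.IsKnownSimple'.eq_1.{0}
  have := @Cfsg.IsKnownSimple'.eq_def.{0}
  have := @Cfsg.IsKpGroup.eq_1.{0}
  have := @Cfsg.IsKpGroup.eq_def.{0}
  have := @Cfsg.IsLBTwoType.eq_1.{0}
  have := @Cfsg.IsLBTwoType.eq_def.{0}
  have := @Cfsg.IsLCpType.eq_1.{0}
  have := @Cfsg.IsLCpType.eq_def.{0}
  have := @Cfsg.IsLCpUniquenessSubgroup.eq_1.{0}
  have := @Cfsg.IsLCpUniquenessSubgroup.eq_def.{0}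
  have := @Cfsg.IsLTTwoType.eq_1.{0}
  have := @Cfsg.IsLTTwoType.eq_def.{0}
  have := @Cfsg.IsLTpType.eq_1.{0}
  have := @Cfsg.IsLTpType.eq_def.{0}
  have := @Cfsg.IsLTwoSpecialType.eq_1.{0}
  have := @Cfsg.IsLTwoSpecialType.eq_def.{0}
  have := @Cfsg.IsLarge.eq_1.{0}
  have := @Cfsg.IsLarge.eq_def.{0}
  have := @Cfsg.IsLargeExtraspecial.eq_1.{0}
  have := @Cfsg.IsLargeExtraspecial.eq_def.{0}
  have := @Cfsg.IsLargeRee.eq_1.{0}
  have := @Cfsg.IsLargeRee.eq_def.{0}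
  have := @Cfsg.IsLeechModTwoIso.eq_1.{0}
  have := @Cfsg.IsLeechModTwoIso.eq_def.{0}
  have := @Cfsg.IsLeechPerpModTwoIso.eq_1.{0}
  have := @Cfsg.IsLeechPerpModTwoIso.eq_def.{0}
  have := @Cfsg.IsLieRankAtLeastThreeChar.eq_1.{0}
  have := @Cfsg.IsLieRankAtLeastThreeChar.eq_def.{0}
  have := @Cfsg.IsLieRankAtLeastTwoChar.eq_1.{0}
  have := @Cfsg.IsLieRankAtLeastTwoChar.eq_def.{0}
  trivial

theorem touch23 : True := by
  have := @Cfsg.IsLieRankLETwoCharTwo.eq_1.{0}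
  have := @Cfsg.IsLieRankLETwoCharTwo.eq_def.{0}
  have := @Cfsg.IsLieRankOneChar.eq_1.{0}
  have := @Cfsg.IsLieRankOneChar.eq_def.{0}
  have := @Cfsg.IsLieRankTwoCharTwo.eq_1.{0}
  have := @Cfsg.IsLieRankTwoCharTwo.eq_def.{0}
  have := @Cfsg.IsLieRankTwoCharTwoLargeField.eq_1.{0}
  have := @Cfsg.IsLieRankTwoCharTwoLargeField.eq_def.{0}
  have := @Cfsg.IsLieTypeChar.eq_1.{0}
  have := @Cfsg.IsLieTypeChar.eq_def.{0}
  have := @Cfsg.IsLinearIsometryOn.eq_1.{0,0}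
  have := @Cfsg.IsLinearIsometryOn.eq_def.{0,0}
  have := @Cfsg.IsLocalSubgroup.eq_1.{0}
  have := @Cfsg.IsLocalSubgroup.eq_def.{0}
  have := @Cfsg.IsLocallyBalanced.eq_1.{0}
  have := @Cfsg.IsLocallyBalanced.eq_def.{0}
  have := @Cfsg.IsLocallyKBalanced.eq_1.{0}
  have := @Cfsg.IsLocallyKBalanced.eq_def.{0}
  have := @Cfsg.IsLpSpecialType.eq_1.{0}
  have := @Cfsg.IsLpSpecialType.eq_def.{0}
  have := @Cfsg.IsLy.eq_1.{0}
  have := @Cfsg.IsLy.eq_def.{0}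
  have := @Cfsg.IsM.eq_1.{0}
  have := @Cfsg.IsM.eq_def.{0}
  have := @Cfsg.IsM11.eq_1.{0}
  have := @Cfsg.IsM11.eq_def.{0}
  have := @Cfsg.IsM12.eq_1.{0}
  have := @Cfsg.IsM12.eq_def.{0}
  have := @Cfsg.IsM22.eq_1.{0}
  have := @Cfsg.IsM22.eq_def.{0}
  have := @Cfsg.IsM23.eq_1.{0}
  have := @Cfsg.IsM23.eq_def.{0}
  have := @Cfsg.IsM24.eq_1.{0}
  have := @Cfsg.IsM24.eq_def.{0}
  have := @Cfsg.IsMaxTotallySingular.eq_1.{0}
  have := @Cfsg.IsMaxTotallySingular.eq_def.{0}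
  have := @Cfsg.IsMaximalBrauerPair.eq_1.{0}
  have := @Cfsg.IsMaximalBrauerPair.eq_def.{0}
  have := @Cfsg.IsMaximalPLocal.eq_1.{0}
  have := @Cfsg.IsMaximalPLocal.eq_def.{0}
  trivial

theorem touch24 : True := by
  have := @Cfsg.IsMaximalTwoLocal.eq_1.{0}
  have := @Cfsg.IsMaximalTwoLocal.eq_def.{0}
  have := @Cfsg.IsMcL.eq_1.{0}
  have := @Cfsg.IsMcL.eq_def.{0}
  have := @Cfsg.IsMetacyclic.eq_1.{0}
  have := @Cfsg.IsMetacyclic.eq_def.{0}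
  have := @Cfsg.IsMinCounterexample.eq_1.{0}
  have := @Cfsg.IsMinCounterexample.eq_def.{0}
  have := @Cfsg.IsMinCounterexampleWith.eq_1.{0}
  have := @Cfsg.IsMinCounterexampleWith.eq_def.{0}
  have := @Cfsg.IsMinSimpleOddOrder.eq_1.{0}
  have := @Cfsg.IsMinSimpleOddOrder.eq_def.{0}
  have := @Cfsg.IsMinimalCentrallyLarge.eq_1.{0}
  have := @Cfsg.IsMinimalCentrallyLarge.eq_def.{0}
  have := @Cfsg.IsMinimalNonNilpotent.eq_1.{0}
  have := @Cfsg.IsMinimalNonNilpotent.eq_def.{0}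
  have := @Cfsg.IsMinimalOver.eq_1.{0}
  have := @Cfsg.IsMinimalOver.eq_def.{0}
  have := @Cfsg.IsMinimalSimple.eq_1.{0}
  have := @Cfsg.IsMinimalSimple.eq_def.{0}
  have := @Cfsg.IsNGroup.eq_1.{0}
  have := @Cfsg.IsNGroup.eq_def.{0}
  have := @Cfsg.IsNarrow.eq_1.{0}
  have := @Cfsg.IsNarrow.eq_def.{0}
  have := @Cfsg.IsNaturalSL2Module.eq_1.{0,0}
  have := @Cfsg.IsNaturalSL2Module.eq_def.{0,0}
  have := @Cfsg.IsNearComponent.eq_1.{0}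
  have := @Cfsg.IsNearComponent.eq_def.{0}
  have := @Cfsg.IsNearComponentOf.eq_1.{0}
  have := @Cfsg.IsNearComponentOf.eq_def.{0}
  have := @Cfsg.IsNeighbor.eq_1.{0}
  have := @Cfsg.IsNeighbor.eq_def.{0}
  have := @Cfsg.IsNeighborWrt.eq_1.{0}
  have := @Cfsg.IsNeighborWrt.eq_def.{0}
  have := @Cfsg.IsNilpotentBlock.eq_1.{0}
  have := @Cfsg.IsNilpotentBlock.eq_def.{0}
  have := @Cfsg.IsNondegenerateRootInvolutionSet.eq_1.{0}
  have := @Cfsg.IsNondegenerateRootInvolutionSet.eq_def.{0}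
  have := @Cfsg.IsNondegenerateRootSet.eq_1.{0}
  have := @Cfsg.IsNondegenerateRootSet.eq_def.{0}
  trivial

theorem touch25 : True := by
  have := @Cfsg.IsNonsplitDoubleCover.eq_1.{0,0}
  have := @Cfsg.IsNonsplitDoubleCover.eq_def.{0,0}
  have := @Cfsg.IsNontrivialFieldAutCharTwo.eq_1.{0}
  have := @Cfsg.IsNontrivialFieldAutCharTwo.eq_def.{0}
  have := @Cfsg.IsNormalSet.eq_1.{0}
  have := @Cfsg.IsNormalSet.eq_def.{0}
  have := @Cfsg.IsNormalSubpair.eq_1.{0}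
  have := @Cfsg.IsNormalSubpair.eq_def.{0}
  have := @Cfsg.IsNormalizerFunctor.eq_1.{0}
  have := @Cfsg.IsNormalizerFunctor.eq_def.{0}
  have := @Cfsg.IsNormalizerPStable.eq_1.{0}
  have := @Cfsg.IsNormalizerPStable.eq_def.{0}
  have := @Cfsg.IsON.eq_1.{0}
  have := @Cfsg.IsON.eq_def.{0}
  have := @Cfsg.IsOddTranspositionSet.eq_1.{0}
  have := @Cfsg.IsOddTranspositionSet.eq_def.{0}
  have := @Cfsg.IsOfBabyMonsterType.eq_1.{0}
  have := @Cfsg.IsOfBabyMonsterType.eq_def.{0}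
  have := @Cfsg.IsOfCharacteristicTwo.eq_1.{0}
  have := @Cfsg.IsOfCharacteristicTwo.eq_def.{0}
  have := @Cfsg.IsOfEvenCharacteristic.eq_1.{0}
  have := @Cfsg.IsOfEvenCharacteristic.eq_def.{0}
  have := @Cfsg.IsOfEvenType.eq_1.{0}
  have := @Cfsg.IsOfEvenType.eq_def.{0}
  have := @Cfsg.IsOfGF2Type.eq_1.{0}
  have := @Cfsg.IsOfGF2Type.eq_def.{0}
  have := @Cfsg.IsOfHaradaNortonType.eq_1.{0}
  have := @Cfsg.IsOfHaradaNortonType.eq_def.{0}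
  have := @Cfsg.IsOfHeldType.eq_1.{0}
  have := @Cfsg.IsOfHeldType.eq_def.{0}
  have := @Cfsg.IsOfJankoFourType.eq_1.{0}
  have := @Cfsg.IsOfJankoFourType.eq_def.{0}
  have := @Cfsg.IsOfJankoFourTypeAt.eq_1.{0}
  have := @Cfsg.IsOfJankoFourTypeAt.eq_def.{0}
  have := @Cfsg.IsOfJankoFourTypeWith.eq_1.{0}
  have := @Cfsg.IsOfJankoFourTypeWith.eq_def.{0}
  have := @Cfsg.IsOfLargeFischerType.eq_1.{0}
  have := @Cfsg.IsOfLargeFischerType.eq_def.{0}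
  have := @Cfsg.IsOfLargeFischerTypeAt.eq_1.{0}
  have := @Cfsg.IsOfLargeFischerTypeAt.eq_def.{0}
  trivial

theorem touch26 : True := by
  have := @Cfsg.IsOfLieType.eq_1.{0}
  have := @Cfsg.IsOfLieType.eq_10.{0}
  have := @Cfsg.IsOfLieType.eq_11.{0}
  have := @Cfsg.IsOfLieType.eq_12.{0}
  have := @Cfsg.IsOfLieType.eq_13.{0}
  have := @Cfsg.IsOfLieType.eq_14.{0}
  have := @Cfsg.IsOfLieType.eq_15.{0}
  have := @Cfsg.IsOfLieType.eq_16.{0}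
  have := @Cfsg.IsOfLieType.eq_2.{0}
  have := @Cfsg.IsOfLieType.eq_3.{0}
  have := @Cfsg.IsOfLieType.eq_4.{0}
  have := @Cfsg.IsOfLieType.eq_5.{0}
  have := @Cfsg.IsOfLieType.eq_6.{0}
  have := @Cfsg.IsOfLieType.eq_7.{0}
  have := @Cfsg.IsOfLieType.eq_8.{0}
  have := @Cfsg.IsOfLieType.eq_9.{0}
  have := @Cfsg.IsOfLieType.eq_def.{0}
  have := @Cfsg.IsOfLocalCharacteristic.eq_1.{0}
  have := @Cfsg.IsOfLocalCharacteristic.eq_def.{0}
  have := @Cfsg.IsOfMonsterType.eq_1.{0}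
  have := @Cfsg.IsOfMonsterType.eq_def.{0}
  have := @Cfsg.IsOfParabolicCharacteristic.eq_1.{0}
  have := @Cfsg.IsOfParabolicCharacteristic.eq_def.{0}
  have := @Cfsg.IsOfQTEvenType.eq_1.{0}
  have := @Cfsg.IsOfQTEvenType.eq_def.{0}
  have := @Cfsg.IsOfQuasithinType.eq_1.{0}
  have := @Cfsg.IsOfQuasithinType.eq_def.{0}
  have := @Cfsg.IsOfRestrictedEvenType.eq_1.{0}
  have := @Cfsg.IsOfRestrictedEvenType.eq_def.{0}
  have := @Cfsg.IsOfSomeLieType.eq_1.{0}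
  have := @Cfsg.IsOfSomeLieType.eq_def.{0}
  have := @Cfsg.IsOfStandardType.eq_1.{0}
  have := @Cfsg.IsOfStandardType.eq_def.{0}
  have := @Cfsg.IsOfSymplecticType.eq_1.{0}
  have := @Cfsg.IsOfSymplecticType.eq_def.{0}
  have := @Cfsg.IsOfThompsonType.eq_1.{0}
  have := @Cfsg.IsOfThompsonType.eq_def.{0}
  have := @Cfsg.IsOfTypeF.eq_1.{0}
  have := @Cfsg.IsOfTypeF.eq_def.{0}
  have := @Cfsg.IsOfTypeI.eq_1.{0}
  trivial

theorem touch27 : True := by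
  have := @Cfsg.IsOfTypeI.eq_def.{0}
  have := @Cfsg.IsOfTypeII.eq_1.{0}
  have := @Cfsg.IsOfTypeII.eq_def.{0}
  have := @Cfsg.IsOfTypeIII.eq_1.{0}
  have := @Cfsg.IsOfTypeIII.eq_def.{0}
  have := @Cfsg.IsOfTypeIV.eq_1.{0}
  have := @Cfsg.IsOfTypeIV.eq_def.{0}
  have := @Cfsg.IsOfTypeM22.eq_1.{0}
  have := @Cfsg.IsOfTypeM22.eq_def.{0}
  have := @Cfsg.IsOfTypeM23.eq_1.{0}
  have := @Cfsg.IsOfTypeM23.eq_def.{0}
  have := @Cfsg.IsOfTypeM24.eq_1.{0}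
  have := @Cfsg.IsOfTypeM24.eq_def.{0}
  have := @Cfsg.IsOfTypeP.eq_1.{0}
  have := @Cfsg.IsOfTypeP.eq_def.{0}
  have := @Cfsg.IsOfTypeV.eq_1.{0}
  have := @Cfsg.IsOfTypeV.eq_def.{0}
  have := @Cfsg.IsOnQTKEList.eq_1.{0}
  have := @Cfsg.IsOnQTKEList.eq_def.{0}
  have := @Cfsg.IsPBlock.eq_1.{0}
  have := @Cfsg.IsPBlock.eq_def.{0}
  have := @Cfsg.IsPCentral.eq_1.{0}
  have := @Cfsg.IsPCentral.eq_def.{0}
  have := @Cfsg.IsPClosed.eq_1.{0}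
  have := @Cfsg.IsPClosed.eq_def.{0}
  have := @Cfsg.IsPComponent.eq_1.{0}
  have := @Cfsg.IsPComponent.eq_def.{0}
  have := @Cfsg.IsPComponentOf.eq_1.{0}
  have := @Cfsg.IsPComponentOf.eq_def.{0}
  have := @Cfsg.IsPConstrained.eq_1.{0}
  have := @Cfsg.IsPConstrained.eq_def.{0}
  have := @Cfsg.IsPIrreducible.eq_1.{0}
  have := @Cfsg.IsPIrreducible.eq_def.{0}
  have := @Cfsg.IsPLocal.eq_1.{0}
  have := @Cfsg.IsPLocal.eq_def.{0}
  have := @Cfsg.IsPMinimal.eq_1.{0}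
  have := @Cfsg.IsPMinimal.eq_def.{0}
  have := @Cfsg.IsPModular.eq_1
  have := @Cfsg.IsPModular.eq_def
  have := @Cfsg.IsPOmegaMinus.eq_1.{0}
  trivial

theorem touch28 : True := by
  have := @Cfsg.IsPOmegaMinus.eq_def.{0}
  have := @Cfsg.IsPOmegaMinusChar.eq_1.{0}
  have := @Cfsg.IsPOmegaMinusChar.eq_def.{0}
  have := @Cfsg.IsPOmegaOdd.eq_1.{0}
  have := @Cfsg.IsPOmegaOdd.eq_def.{0}
  have := @Cfsg.IsPOmegaOddChar.eq_1.{0}
  have := @Cfsg.IsPOmegaOddChar.eq_def.{0}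
  have := @Cfsg.IsPOmegaPlus.eq_1.{0}
  have := @Cfsg.IsPOmegaPlus.eq_def.{0}
  have := @Cfsg.IsPOmegaPlusChar.eq_1.{0}
  have := @Cfsg.IsPOmegaPlusChar.eq_def.{0}
  have := @Cfsg.IsPPart.eq_1.{0}
  have := @Cfsg.IsPPart.eq_def.{0}
  have := @Cfsg.IsPReducedNormal.eq_1.{0}
  have := @Cfsg.IsPReducedNormal.eq_def.{0}
  have := @Cfsg.IsPRegular.eq_1.{0}
  have := @Cfsg.IsPRegular.eq_def.{0}
  have := @Cfsg.IsPSL.eq_1.{0}
  have := @Cfsg.IsPSL.eq_def.{0}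
  have := @Cfsg.IsPSL2PairOver.eq_1.{0,0}
  have := @Cfsg.IsPSL2PairOver.eq_def.{0,0}
  have := @Cfsg.IsPSLChar.eq_1.{0}
  have := @Cfsg.IsPSLChar.eq_def.{0}
  have := @Cfsg.IsPSU.eq_1.{0}
  have := @Cfsg.IsPSU.eq_def.{0}
  have := @Cfsg.IsPSUChar.eq_1.{0}
  have := @Cfsg.IsPSUChar.eq_def.{0}
  have := @Cfsg.IsPSolvable.eq_1.{0}
  have := @Cfsg.IsPSolvable.eq_def.{0}
  have := @Cfsg.IsPSp.eq_1.{0}
  have := @Cfsg.IsPSp.eq_def.{0}
  have := @Cfsg.IsPSpChar.eq_1.{0}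
  have := @Cfsg.IsPSpChar.eq_def.{0}
  have := @Cfsg.IsPStable.eq_1.{0}
  have := @Cfsg.IsPStable.eq_def.{0}
  have := @Cfsg.IsPStableOn.eq_1.{0}
  have := @Cfsg.IsPStableOn.eq_def.{0}
  have := @Cfsg.IsPStableOnSection.eq_1.{0}
  have := @Cfsg.IsPStableOnSection.eq_def.{0}
  have := @Cfsg.IsPTerminal.eq_1.{0}
  trivial

theorem touch29 : True := by
  have := @Cfsg.IsPTerminal.eq_def.{0}
  have := @Cfsg.IsPUniquenessSubgroup.eq_1.{0}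
  have := @Cfsg.IsPUniquenessSubgroup.eq_def.{0}
  have := @Cfsg.IsParabolic.eq_1.{0}
  have := @Cfsg.IsParabolic.eq_def.{0}
  have := @Cfsg.IsParabolicType.eq_1.{0}
  have := @Cfsg.IsParabolicType.eq_def.{0}
  have := @Cfsg.IsPerfectFun.eq_1.{0,0}
  have := @Cfsg.IsPerfectFun.eq_def.{0,0}
  have := @Cfsg.IsPerfectIsometry.eq_1.{0,0}
  have := @Cfsg.IsPerfectIsometry.eq_def.{0,0}
  have := @Cfsg.IsPiHall.eq_1.{0}
  have := @Cfsg.IsPiHall.eq_def.{0}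
  have := @Cfsg.IsPiHallOf.eq_1.{0}
  have := @Cfsg.IsPiHallOf.eq_def.{0}
  have := @Cfsg.IsPiSubgroup.eq_1.{0}
  have := @Cfsg.IsPiSubgroup.eq_def.{0}
  have := @Cfsg.IsPreuniquenessSubgroup.eq_1.{0}
  have := @Cfsg.IsPreuniquenessSubgroup.eq_def.{0}
  have := @Cfsg.IsPrimeCyclic.eq_1.{0}
  have := @Cfsg.IsPrimeCyclic.eq_def.{0}
  have := @Cfsg.IsPrimitiveUnderConj.eq_1.{0}
  have := @Cfsg.IsPrimitiveUnderConj.eq_def.{0}
  have := @Cfsg.IsProjReflectionGroupModThree.eq_1.{0}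
  have := @Cfsg.IsProjReflectionGroupModThree.eq_def.{0}
  have := @Cfsg.IsPronormal.eq_1.{0}
  have := @Cfsg.IsPronormal.eq_def.{0}
  have := @Cfsg.IsPushingUpSituation.eq_1.{0}
  have := @Cfsg.IsPushingUpSituation.eq_def.{0}
  have := @Cfsg.IsQTEvenTypeComponent.eq_1.{0}
  have := @Cfsg.IsQTEvenTypeComponent.eq_def.{0}
  have := @Cfsg.IsQTKE.eq_1.{0}
  have := @Cfsg.IsQTKE.eq_def.{0}
  have := @Cfsg.IsQuadraticOn.eq_1.{0,0}
  have := @Cfsg.IsQuadraticOn.eq_def.{0,0}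
  have := @Cfsg.IsQuadraticPair.eq_1.{0,0}
  have := @Cfsg.IsQuadraticPair.eq_def.{0,0}
  have := @Cfsg.IsQuasiDihedral.eq_1.{0}
  have := @Cfsg.IsQuasiDihedral.eq_def.{0}
  have := @Cfsg.IsQuasisimple.eq_1.{0}
  trivial

theorem touch30 : True := by
  have := @Cfsg.IsQuasisimple.eq_def.{0}
  have := @Cfsg.IsQuasithin.eq_1.{0}
  have := @Cfsg.IsQuasithin.eq_def.{0}
  have := @Cfsg.IsRankGraphConnected.eq_1.{0}
  have := @Cfsg.IsRankGraphConnected.eq_def.{0}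
  have := @Cfsg.IsRankGraphVertex.eq_1.{0}
  have := @Cfsg.IsRankGraphVertex.eq_def.{0}
  have := @Cfsg.IsRankOneGroup.eq_1.{0}
  have := @Cfsg.IsRankOneGroup.eq_def.{0}
  have := @Cfsg.IsRankOneOverDegreeRField.eq_1.{0}
  have := @Cfsg.IsRankOneOverDegreeRField.eq_def.{0}
  have := @Cfsg.IsRankOnePair.casesOn.eq_1.{0,0}
  have := @Cfsg.IsRankOnePair.casesOn.eq_def.{0,0}
  have := @Cfsg.IsRankOnePair.recOn.eq_1.{0,0}
  have := @Cfsg.IsRankOnePair.recOn.eq_def.{0,0}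
  have := @Cfsg.IsRankOneSetup.casesOn.eq_1.{0,0,0}
  have := @Cfsg.IsRankOneSetup.casesOn.eq_def.{0,0,0}
  have := @Cfsg.IsRankOneSetup.recOn.eq_1.{0,0,0}
  have := @Cfsg.IsRankOneSetup.recOn.eq_def.{0,0,0}
  have := @Cfsg.IsRee.eq_1.{0}
  have := @Cfsg.IsRee.eq_def.{0}
  have := @Cfsg.IsReeType.eq_1.{0}
  have := @Cfsg.IsReeType.eq_def.{0}
  have := @Cfsg.IsReflectionGroupModThree.eq_1.{0}
  have := @Cfsg.IsReflectionGroupModThree.eq_def.{0}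
  have := @Cfsg.IsRegularPGroup.eq_1.{0}
  have := @Cfsg.IsRegularPGroup.eq_def.{0}
  have := @Cfsg.IsRootInvolutionClass.eq_1.{0}
  have := @Cfsg.IsRootInvolutionClass.eq_def.{0}
  have := @Cfsg.IsRootInvolutionSet.casesOn.eq_1.{0,0}
  have := @Cfsg.IsRootInvolutionSet.casesOn.eq_def.{0,0}
  have := @Cfsg.IsRootInvolutionSet.recOn.eq_1.{0,0}
  have := @Cfsg.IsRootInvolutionSet.recOn.eq_def.{0,0}
  have := @Cfsg.IsRootSubgroupClass.eq_1.{0}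
  have := @Cfsg.IsRootSubgroupClass.eq_def.{0}
  have := @Cfsg.IsRootSubgroupSet.casesOn.eq_1.{0,0}
  have := @Cfsg.IsRootSubgroupSet.casesOn.eq_def.{0,0}
  have := @Cfsg.IsRootSubgroupSet.recOn.eq_1.{0,0}
  have := @Cfsg.IsRootSubgroupSet.recOn.eq_def.{0,0}
  have := @Cfsg.IsRu.eq_1.{0}
  trivial

theorem touch31 : True := by
  have := @Cfsg.IsRu.eq_def.{0}
  have := @Cfsg.IsSCN.eq_1.{0}
  have := @Cfsg.IsSCN.eq_def.{0}
  have := @Cfsg.IsSelfNormalizingCyclic.eq_1.{0}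
  have := @Cfsg.IsSelfNormalizingCyclic.eq_def.{0}
  have := @Cfsg.IsSemiExtraspecial.eq_1.{0}
  have := @Cfsg.IsSemiExtraspecial.eq_def.{0}
  have := @Cfsg.IsSemisimilarityPair.eq_1.{0}
  have := @Cfsg.IsSemisimilarityPair.eq_def.{0}
  have := @Cfsg.IsSidkiPair.eq_1.{0}
  have := @Cfsg.IsSidkiPair.eq_def.{0}
  have := @Cfsg.IsSigmaDecomposition.casesOn.eq_1.{0,0}
  have := @Cfsg.IsSigmaDecomposition.casesOn.eq_def.{0,0}
  have := @Cfsg.IsSigmaDecomposition.recOn.eq_1.{0,0}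
  have := @Cfsg.IsSigmaDecomposition.recOn.eq_def.{0,0}
  have := @Cfsg.IsSignalizerFunctor.eq_1.{0}
  have := @Cfsg.IsSignalizerFunctor.eq_def.{0}
  have := @Cfsg.IsSimilarityGraphAutPOmegaPlus.eq_1.{0}
  have := @Cfsg.IsSimilarityGraphAutPOmegaPlus.eq_def.{0}
  have := @Cfsg.IsSimilarityInducedAutPOmega.eq_1.{0}
  have := @Cfsg.IsSimilarityInducedAutPOmega.eq_def.{0}
  have := @Cfsg.IsSolvableSignalizerFunctor.eq_1.{0}
  have := @Cfsg.IsSolvableSignalizerFunctor.eq_def.{0}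
  have := @Cfsg.IsSpeAmalgamPair.eq_1.{0}
  have := @Cfsg.IsSpeAmalgamPair.eq_def.{0}
  have := @Cfsg.IsSpecial.eq_1.{0}
  have := @Cfsg.IsSpecial.eq_def.{0}
  have := @Cfsg.IsSpecialEvenType.eq_1.{0}
  have := @Cfsg.IsSpecialEvenType.eq_def.{0}
  have := @Cfsg.IsSpecialIsometryInducedAutPOmega.eq_1.{0}
  have := @Cfsg.IsSpecialIsometryInducedAutPOmega.eq_def.{0}
  have := @Cfsg.IsSpecialOddType.eq_1.{0}
  have := @Cfsg.IsSpecialOddType.eq_def.{0}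
  have := @Cfsg.IsSpecialRankOnePair.eq_1.{0}
  have := @Cfsg.IsSpecialRankOnePair.eq_def.{0}
  have := @Cfsg.IsSporadic.eq_1.{0}
  have := @Cfsg.IsSporadic.eq_def.{0}
  have := @Cfsg.IsSporadicGroup.eq_1.{0}
  have := @Cfsg.IsSporadicGroup.eq_def.{0}
  have := @Cfsg.IsStableEmbedding.eq_1.{0}
  trivial

theorem touch32 : True := by
  have := @Cfsg.IsStableEmbedding.eq_def.{0}
  have := @Cfsg.IsStandardSubcomponent.eq_1.{0}
  have := @Cfsg.IsStandardSubcomponent.eq_def.{0}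
  have := @Cfsg.IsStandardSubcomponentCore.eq_1.{0}
  have := @Cfsg.IsStandardSubcomponentCore.eq_def.{0}
  have := @Cfsg.IsStandardSubgroup.eq_1.{0}
  have := @Cfsg.IsStandardSubgroup.eq_def.{0}
  have := @Cfsg.IsStandardUnitaryPair.eq_1.{0,0}
  have := @Cfsg.IsStandardUnitaryPair.eq_def.{0,0}
  have := @Cfsg.IsStandardWrt.eq_1.{0}
  have := @Cfsg.IsStandardWrt.eq_def.{0}
  have := @Cfsg.IsStdFieldAutPSL.eq_1.{0}
  have := @Cfsg.IsStdFieldAutPSL.eq_def.{0}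
  have := @Cfsg.IsStdFieldAutPSp.eq_1.{0}
  have := @Cfsg.IsStdFieldAutPSp.eq_def.{0}
  have := @Cfsg.IsSteinerSystem.eq_1.{0}
  have := @Cfsg.IsSteinerSystem.eq_def.{0}
  have := @Cfsg.IsStemExtension.eq_1.{0,0}
  have := @Cfsg.IsStemExtension.eq_def.{0,0}
  have := @Cfsg.IsStrongPUniquenessSubgroup.eq_1.{0}
  have := @Cfsg.IsStrongPUniquenessSubgroup.eq_def.{0}
  have := @Cfsg.IsStronglyClosed.eq_1.{0}
  have := @Cfsg.IsStronglyClosed.eq_def.{0}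
  have := @Cfsg.IsStronglyClosedType.eq_1.{0}
  have := @Cfsg.IsStronglyClosedType.eq_def.{0}
  have := @Cfsg.IsStronglyEmbedded.eq_1.{0}
  have := @Cfsg.IsStronglyEmbedded.eq_def.{0}
  have := @Cfsg.IsStronglyPEmbedded.eq_1.{0}
  have := @Cfsg.IsStronglyPEmbedded.eq_def.{0}
  have := @Cfsg.IsStronglyPIrreducible.eq_1.{0}
  have := @Cfsg.IsStronglyPIrreducible.eq_def.{0}
  have := @Cfsg.IsStronglyQuasithin.eq_1.{0}
  have := @Cfsg.IsStronglyQuasithin.eq_def.{0}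
  have := @Cfsg.IsStronglyZEmbedded.eq_1.{0}
  have := @Cfsg.IsStronglyZEmbedded.eq_def.{0}
  have := @Cfsg.IsSubgroupPartition.eq_1.{0}
  have := @Cfsg.IsSubgroupPartition.eq_def.{0}
  have := @Cfsg.IsSupersolvable.eq_1.{0}
  have := @Cfsg.IsSupersolvable.eq_def.{0}
  have := @Cfsg.IsSuz.eq_1.{0}
  trivial

theorem touch33 : True := by
  have := @Cfsg.IsSuz.eq_def.{0}
  have := @Cfsg.IsSuzuki.eq_1.{0}
  have := @Cfsg.IsSuzuki.eq_def.{0}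
  have := @Cfsg.IsSuzukiOrPSL2OddPowerThree.eq_1.{0}
  have := @Cfsg.IsSuzukiOrPSL2OddPowerThree.eq_def.{0}
  have := @Cfsg.IsSuzukiTwoGroup.eq_1.{0}
  have := @Cfsg.IsSuzukiTwoGroup.eq_def.{0}
  have := @Cfsg.IsSylowChainConnected.eq_1.{0}
  have := @Cfsg.IsSylowChainConnected.eq_def.{0}
  have := @Cfsg.IsSylowTwoIn.eq_1.{0}
  have := @Cfsg.IsSylowTwoIn.eq_def.{0}
  have := @Cfsg.IsSymmetricIn.eq_1.{0}
  have := @Cfsg.IsSymmetricIn.eq_def.{0}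
  have := @Cfsg.IsTISubset.eq_1.{0}
  have := @Cfsg.IsTISubset.eq_def.{0}
  have := @Cfsg.IsTall.eq_1.{0}
  have := @Cfsg.IsTall.eq_def.{0}
  have := @Cfsg.IsTerminalPair.eq_1.{0}
  have := @Cfsg.IsTerminalPair.eq_def.{0}
  have := @Cfsg.IsTernaryGolayWord.eq_1
  have := @Cfsg.IsTernaryGolayWord.eq_def
  have := @Cfsg.IsTh.eq_1.{0}
  have := @Cfsg.IsTh.eq_def.{0}
  have := @Cfsg.IsThompsonFactorizable.eq_1.{0}
  have := @Cfsg.IsThompsonFactorizable.eq_def.{0}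
  have := @Cfsg.IsThreeFourPlusTranspositionSet.eq_1.{0}
  have := @Cfsg.IsThreeFourPlusTranspositionSet.eq_def.{0}
  have := @Cfsg.IsThreeStepGroup.eq_1.{0}
  have := @Cfsg.IsThreeStepGroup.eq_def.{0}
  have := @Cfsg.IsThreeTranspositionClass.eq_1.{0}
  have := @Cfsg.IsThreeTranspositionClass.eq_def.{0}
  have := @Cfsg.IsThreeTranspositionGroup.eq_1.{0}
  have := @Cfsg.IsThreeTranspositionGroup.eq_def.{0}
  have := @Cfsg.IsThreeTranspositionSet.eq_1.{0}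
  have := @Cfsg.IsThreeTranspositionSet.eq_def.{0}
  have := @Cfsg.IsTightlyEmbedded.eq_1.{0}
  have := @Cfsg.IsTightlyEmbedded.eq_def.{0}
  have := @Cfsg.IsTits.eq_1.{0}
  have := @Cfsg.IsTits.eq_def.{0}
  have := @Cfsg.IsTransvection.eq_1.{0}
  trivial

theorem touch34 : True := by
  have := @Cfsg.IsTransvection.eq_def.{0}
  have := @Cfsg.IsTwistedE6D4Char.eq_1.{0}
  have := @Cfsg.IsTwistedE6D4Char.eq_def.{0}
  have := @Cfsg.IsTwoCentralInvolution.eq_1.{0}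
  have := @Cfsg.IsTwoCentralInvolution.eq_def.{0}
  have := @Cfsg.IsTwoFModuleFor.eq_1.{0}
  have := @Cfsg.IsTwoFModuleFor.eq_def.{0}
  have := @Cfsg.IsTwoFOffenderOn.eq_1.{0}
  have := @Cfsg.IsTwoFOffenderOn.eq_def.{0}
  have := @Cfsg.IsTwoLocal.eq_1.{0}
  have := @Cfsg.IsTwoLocal.eq_def.{0}
  have := @Cfsg.IsTwoPowerNeighbourPrime.eq_1
  have := @Cfsg.IsTwoPowerNeighbourPrime.eq_def
  have := @Cfsg.IsTwoTerminalLTTwoType.eq_1.{0}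
  have := @Cfsg.IsTwoTerminalLTTwoType.eq_def.{0}
  have := @Cfsg.IsTwoUniquenessSubgroup.eq_1.{0}
  have := @Cfsg.IsTwoUniquenessSubgroup.eq_def.{0}
  have := @Cfsg.IsTypePWith.casesOn.eq_1.{0,0}
  have := @Cfsg.IsTypePWith.casesOn.eq_def.{0,0}
  have := @Cfsg.IsTypePWith.recOn.eq_1.{0,0}
  have := @Cfsg.IsTypePWith.recOn.eq_def.{0,0}
  have := @Cfsg.IsUnipotentOn.eq_1.{0,0}
  have := @Cfsg.IsUnipotentOn.eq_def.{0,0}
  have := @Cfsg.IsUniquenessSubgroup.eq_1.{0}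
  have := @Cfsg.IsUniquenessSubgroup.eq_def.{0}
  have := @Cfsg.IsUnitaryFourTwoOrAltSix.eq_1.{0}
  have := @Cfsg.IsUnitaryFourTwoOrAltSix.eq_def.{0}
  have := @Cfsg.IsWeakTISubset.eq_1.{0}
  have := @Cfsg.IsWeakTISubset.eq_def.{0}
  have := @Cfsg.IsWeakTISubsetOfElements.eq_1.{0}
  have := @Cfsg.IsWeakTISubsetOfElements.eq_def.{0}
  have := @Cfsg.IsWeaklyClosed.eq_1.{0}
  have := @Cfsg.IsWeaklyClosed.eq_def.{0}
  have := @Cfsg.IsWeaklyClosedSubgroup.eq_1.{0}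
  have := @Cfsg.IsWeaklyClosedSubgroup.eq_def.{0}
  have := @Cfsg.IsWeaklyKBalancedWrt.eq_1.{0}
  have := @Cfsg.IsWeaklyKBalancedWrt.eq_def.{0}
  have := @Cfsg.IsWeaklyLocallyKBalanced.eq_1.{0}
  have := @Cfsg.IsWeaklyLocallyKBalanced.eq_def.{0}
  have := @Cfsg.IsWellPlaced.eq_1.{0}
  trivial

theorem touch35 : True := by
  have := @Cfsg.IsWellPlaced.eq_def.{0}
  have := @Cfsg.IsWreathed.eq_1.{0}
  have := @Cfsg.IsWreathed.eq_def.{0}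
  have := @Cfsg.IsWreathedPreuniqueness.eq_1.{0}
  have := @Cfsg.IsWreathedPreuniqueness.eq_def.{0}
  have := @Cfsg.IsZassenhausGroup.eq_1.{0,0}
  have := @Cfsg.IsZassenhausGroup.eq_def.{0,0}
  have := @Cfsg.Lie.ChevalleyDatum.CurtisTitsGroup.eq_1.{0}
  have := @Cfsg.Lie.ChevalleyDatum.CurtisTitsGroup.eq_def.{0}
  have := @Cfsg.Lie.ChevalleyDatum.Idx.eq_1
  have := @Cfsg.Lie.ChevalleyDatum.Idx.eq_def
  have := @Cfsg.Lie.ChevalleyDatum.InRankTwoSub.eq_1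
  have := @Cfsg.Lie.ChevalleyDatum.InRankTwoSub.eq_def
  have := @Cfsg.Lie.ChevalleyDatum.InRootSub.eq_1
  have := @Cfsg.Lie.ChevalleyDatum.InRootSub.eq_def
  have := @Cfsg.Lie.ChevalleyDatum.IsDiagonalAut.eq_1.{0}
  have := @Cfsg.Lie.ChevalleyDatum.IsDiagonalAut.eq_def.{0}
  have := @Cfsg.Lie.ChevalleyDatum.IsDiagramSymmetry.eq_1
  have := @Cfsg.Lie.ChevalleyDatum.IsDiagramSymmetry.eq_def
  have := @Cfsg.Lie.ChevalleyDatum.IsFieldAut.eq_1.{0}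
  have := @Cfsg.Lie.ChevalleyDatum.IsFieldAut.eq_def.{0}
  have := @Cfsg.Lie.ChevalleyDatum.IsFieldAutClass.eq_1.{0}
  have := @Cfsg.Lie.ChevalleyDatum.IsFieldAutClass.eq_def.{0}
  have := @Cfsg.Lie.ChevalleyDatum.IsGraphAut.eq_1.{0}
  have := @Cfsg.Lie.ChevalleyDatum.IsGraphAut.eq_def.{0}
  have := @Cfsg.Lie.ChevalleyDatum.IsGroupOver.eq_1.{0}
  have := @Cfsg.Lie.ChevalleyDatum.IsGroupOver.eq_def.{0}
  have := @Cfsg.Lie.ChevalleyDatum.IsInnerDiagonalAutOn.eq_1.{0}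
  have := @Cfsg.Lie.ChevalleyDatum.IsInnerDiagonalAutOn.eq_def.{0}
  have := @Cfsg.Lie.ChevalleyDatum.IsNegRoot.eq_1
  have := @Cfsg.Lie.ChevalleyDatum.IsNegRoot.eq_def
  have := @Cfsg.Lie.ChevalleyDatum.IsPosRoot.eq_1
  have := @Cfsg.Lie.ChevalleyDatum.IsPosRoot.eq_def
  have := @Cfsg.Lie.ChevalleyDatum.IsRootCharacter.eq_1.{0}
  have := @Cfsg.Lie.ChevalleyDatum.IsRootCharacter.eq_def.{0}
  have := @Cfsg.Lie.ChevalleyDatum.SteinbergCover.eq_1.{0}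
  have := @Cfsg.Lie.ChevalleyDatum.SteinbergCover.eq_def.{0}
  have := @Cfsg.Lie.ChevalleyDatum.SteinbergGroup.eq_1.{0}
  have := @Cfsg.Lie.ChevalleyDatum.SteinbergGroup.eq_def.{0}
  have := @Cfsg.Lie.ChevalleyDatum.bonds.eq_1
  trivial

theorem touch36 : True := by
  have := @Cfsg.Lie.ChevalleyDatum.bonds.eq_def
  have := @Cfsg.Lie.ChevalleyDatum.borelSubgroup.eq_1.{0}
  have := @Cfsg.Lie.ChevalleyDatum.borelSubgroup.eq_def.{0}
  have := @Cfsg.Lie.ChevalleyDatum.cartan.eq_1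
  have := @Cfsg.Lie.ChevalleyDatum.cartan.eq_def
  have := @Cfsg.Lie.ChevalleyDatum.cartanSR.eq_1
  have := @Cfsg.Lie.ChevalleyDatum.cartanSR.eq_def
  have := @Cfsg.Lie.ChevalleyDatum.casesOn.eq_1.{0}
  have := @Cfsg.Lie.ChevalleyDatum.casesOn.eq_def.{0}
  have := @Cfsg.Lie.ChevalleyDatum.chain.eq_1
  have := @Cfsg.Lie.ChevalleyDatum.chain.eq_def
  have := @Cfsg.Lie.ChevalleyDatum.chainCoeff.eq_1
  have := @Cfsg.Lie.ChevalleyDatum.chainCoeff.eq_def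
  have := @Cfsg.Lie.ChevalleyDatum.chainEntry.eq_1
  have := @Cfsg.Lie.ChevalleyDatum.chainEntry.eq_def
  have := @Cfsg.Lie.ChevalleyDatum.chainM.eq_1
  have := @Cfsg.Lie.ChevalleyDatum.chainM.eq_def
  have := @Cfsg.Lie.ChevalleyDatum.chainRoot.eq_1
  have := @Cfsg.Lie.ChevalleyDatum.chainRoot.eq_def
  have := @Cfsg.Lie.ChevalleyDatum.charDiag.eq_1.{0}
  have := @Cfsg.Lie.ChevalleyDatum.charDiag.eq_def.{0}
  have := @Cfsg.Lie.ChevalleyDatum.commTerms.eq_1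
  have := @Cfsg.Lie.ChevalleyDatum.commTerms.eq_def
  have := @Cfsg.Lie.ChevalleyDatum.commWord.eq_1.{0}
  have := @Cfsg.Lie.ChevalleyDatum.commWord.eq_def.{0}
  have := @Cfsg.Lie.ChevalleyDatum.coroot.eq_1
  have := @Cfsg.Lie.ChevalleyDatum.coroot.eq_def
  have := @Cfsg.Lie.ChevalleyDatum.ctorIdx.eq_1
  have := @Cfsg.Lie.ChevalleyDatum.ctorIdx.eq_def
  have := @Cfsg.Lie.ChevalleyDatum.curtisTitsRels.eq_1.{0}
  have := @Cfsg.Lie.ChevalleyDatum.curtisTitsRels.eq_def.{0}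
  have := @Cfsg.Lie.ChevalleyDatum.diagonalSubgroup.eq_1.{0}
  have := @Cfsg.Lie.ChevalleyDatum.diagonalSubgroup.eq_def.{0}
  have := @Cfsg.Lie.ChevalleyDatum.genSubgroup.eq_1.{0}
  have := @Cfsg.Lie.ChevalleyDatum.genSubgroup.eq_def.{0}
  have := @Cfsg.Lie.ChevalleyDatum.graphExp.eq_1
  have := @Cfsg.Lie.ChevalleyDatum.graphExp.eq_def
  have := @Cfsg.Lie.ChevalleyDatum.group.eq_1.{0}
  have := @Cfsg.Lie.ChevalleyDatum.group.eq_def.{0}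
  have := @Cfsg.Lie.ChevalleyDatum.hMat.eq_1.{0}
  trivial

theorem touch37 : True := by
  have := @Cfsg.Lie.ChevalleyDatum.hMat.eq_def.{0}
  have := @Cfsg.Lie.ChevalleyDatum.hWord.eq_1.{0}
  have := @Cfsg.Lie.ChevalleyDatum.hWord.eq_def.{0}
  have := @Cfsg.Lie.ChevalleyDatum.inndiag.eq_1.{0}
  have := @Cfsg.Lie.ChevalleyDatum.inndiag.eq_def.{0}
  have := @Cfsg.Lie.ChevalleyDatum.instDecidableIsNegRoot.eq_1
  have := @Cfsg.Lie.ChevalleyDatum.instDecidableIsNegRoot.eq_def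
  have := @Cfsg.Lie.ChevalleyDatum.instDecidableIsPosRoot.eq_1
  have := @Cfsg.Lie.ChevalleyDatum.instDecidableIsPosRoot.eq_def
  have := @Cfsg.Lie.ChevalleyDatum.isLong.eq_1
  have := @Cfsg.Lie.ChevalleyDatum.isLong.eq_def
  have := @Cfsg.Lie.ChevalleyDatum.leviSubgroup.eq_1.{0}
  have := @Cfsg.Lie.ChevalleyDatum.leviSubgroup.eq_def.{0}
  have := @Cfsg.Lie.ChevalleyDatum.mk.noConfusion.eq_1.{0}
  have := @Cfsg.Lie.ChevalleyDatum.mk.noConfusion.eq_def.{0}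
  have := @Cfsg.Lie.ChevalleyDatum.monomialSubgroup.eq_1.{0}
  have := @Cfsg.Lie.ChevalleyDatum.monomialSubgroup.eq_def.{0}
  have := @Cfsg.Lie.ChevalleyDatum.nMat.eq_1.{0}
  have := @Cfsg.Lie.ChevalleyDatum.nMat.eq_def.{0}
  have := @Cfsg.Lie.ChevalleyDatum.nWord.eq_1.{0}
  have := @Cfsg.Lie.ChevalleyDatum.nWord.eq_def.{0}
  have := @Cfsg.Lie.ChevalleyDatum.neg.eq_1
  have := @Cfsg.Lie.ChevalleyDatum.neg.eq_def
  have := @Cfsg.Lie.ChevalleyDatum.negIdx.eq_1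
  have := @Cfsg.Lie.ChevalleyDatum.negIdx.eq_def
  have := @Cfsg.Lie.ChevalleyDatum.negRoots.eq_1
  have := @Cfsg.Lie.ChevalleyDatum.negRoots.eq_def
  have := @Cfsg.Lie.ChevalleyDatum.negUnipotent.eq_1.{0}
  have := @Cfsg.Lie.ChevalleyDatum.negUnipotent.eq_def.{0}
  have := @Cfsg.Lie.ChevalleyDatum.negWord.eq_1.{0}
  have := @Cfsg.Lie.ChevalleyDatum.negWord.eq_def.{0}
  have := @Cfsg.Lie.ChevalleyDatum.noConfusion.eq_1.{0}
  have := @Cfsg.Lie.ChevalleyDatum.noConfusion.eq_def.{0}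
  have := @Cfsg.Lie.ChevalleyDatum.noConfusionType.eq_1.{0}
  have := @Cfsg.Lie.ChevalleyDatum.noConfusionType.eq_def.{0}
  have := @Cfsg.Lie.ChevalleyDatum.nroots.eq_1
  have := @Cfsg.Lie.ChevalleyDatum.nroots.eq_def
  have := @Cfsg.Lie.ChevalleyDatum.pairing.eq_1
  have := @Cfsg.Lie.ChevalleyDatum.pairing.eq_def
  have := @Cfsg.Lie.ChevalleyDatum.parabolicIn.eq_1.{0}
  trivial

theorem touch38 : True := by
  have := @Cfsg.Lie.ChevalleyDatum.parabolicIn.eq_def.{0}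
  have := @Cfsg.Lie.ChevalleyDatum.parabolicSubgroup.eq_1.{0}
  have := @Cfsg.Lie.ChevalleyDatum.parabolicSubgroup.eq_def.{0}
  have := @Cfsg.Lie.ChevalleyDatum.permRoot.eq_1
  have := @Cfsg.Lie.ChevalleyDatum.permRoot.eq_def
  have := @Cfsg.Lie.ChevalleyDatum.posRoots.eq_1
  have := @Cfsg.Lie.ChevalleyDatum.posRoots.eq_def
  have := @Cfsg.Lie.ChevalleyDatum.posUnipotent.eq_1.{0}
  have := @Cfsg.Lie.ChevalleyDatum.posUnipotent.eq_def.{0}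
  have := @Cfsg.Lie.ChevalleyDatum.rank.eq_1
  have := @Cfsg.Lie.ChevalleyDatum.rank.eq_def
  have := @Cfsg.Lie.ChevalleyDatum.recOn.eq_1.{0}
  have := @Cfsg.Lie.ChevalleyDatum.recOn.eq_def.{0}
  have := @Cfsg.Lie.ChevalleyDatum.reflectRoot.eq_1
  have := @Cfsg.Lie.ChevalleyDatum.reflectRoot.eq_def
  have := @Cfsg.Lie.ChevalleyDatum.rootSubgroup.eq_1.{0}
  have := @Cfsg.Lie.ChevalleyDatum.rootSubgroup.eq_def.{0}
  have := @Cfsg.Lie.ChevalleyDatum.scGen.eq_1.{0}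
  have := @Cfsg.Lie.ChevalleyDatum.scGen.eq_def.{0}
  have := @Cfsg.Lie.ChevalleyDatum.simple.eq_1
  have := @Cfsg.Lie.ChevalleyDatum.simple.eq_def
  have := @Cfsg.Lie.ChevalleyDatum.simpleIdx.eq_1
  have := @Cfsg.Lie.ChevalleyDatum.simpleIdx.eq_def
  have := @Cfsg.Lie.ChevalleyDatum.stGen.eq_1.{0}
  have := @Cfsg.Lie.ChevalleyDatum.stGen.eq_def.{0}
  have := @Cfsg.Lie.ChevalleyDatum.stH.eq_1.{0}
  have := @Cfsg.Lie.ChevalleyDatum.stH.eq_def.{0}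
  have := @Cfsg.Lie.ChevalleyDatum.stN.eq_1.{0}
  have := @Cfsg.Lie.ChevalleyDatum.stN.eq_def.{0}
  have := @Cfsg.Lie.ChevalleyDatum.stWord.eq_1.{0}
  have := @Cfsg.Lie.ChevalleyDatum.stWord.eq_def.{0}
  have := @Cfsg.Lie.ChevalleyDatum.stX.eq_1.{0}
  have := @Cfsg.Lie.ChevalleyDatum.stX.eq_def.{0}
  have := @Cfsg.Lie.ChevalleyDatum.steinbergCharacter.eq_1.{0}
  have := @Cfsg.Lie.ChevalleyDatum.steinbergCharacter.eq_def.{0}
  have := @Cfsg.Lie.ChevalleyDatum.steinbergRels.eq_1.{0}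
  have := @Cfsg.Lie.ChevalleyDatum.steinbergRels.eq_def.{0}
  have := @Cfsg.Lie.ChevalleyDatum.steinbergRelsAB.eq_1.{0}
  have := @Cfsg.Lie.ChevalleyDatum.steinbergRelsAB.eq_def.{0}
  have := @Cfsg.Lie.ChevalleyDatum.unipotentRadical.eq_1.{0}
  trivial

theorem touch39 : True := by
  have := @Cfsg.Lie.ChevalleyDatum.unipotentRadical.eq_def.{0}
  have := @Cfsg.Lie.ChevalleyDatum.wordMat.eq_1.{0}
  have := @Cfsg.Lie.ChevalleyDatum.wordMat.eq_def.{0}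
  have := @Cfsg.Lie.ChevalleyDatum.x.eq_1.{0}
  have := @Cfsg.Lie.ChevalleyDatum.x.eq_def.{0}
  have := @Cfsg.Lie.ChevalleyDatum.xMat.eq_1.{0}
  have := @Cfsg.Lie.ChevalleyDatum.xMat.eq_def.{0}
  have := @Cfsg.Lie.E6.eq_1.{0}
  have := @Cfsg.Lie.E6.eq_def.{0}
  have := @Cfsg.Lie.E6univ.eq_1.{0}
  have := @Cfsg.Lie.E6univ.eq_def.{0}
  have := @Cfsg.Lie.G2.eq_1.{0}
  have := @Cfsg.Lie.G2.eq_def.{0}
  have := @Cfsg.Lie.I27.eq_1
  have := @Cfsg.Lie.I27.eq_def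
  have := @Cfsg.Lie.IsEntrywiseFieldAutOn.eq_1.{0}
  have := @Cfsg.Lie.IsEntrywiseFieldAutOn.eq_def.{0}
  have := @Cfsg.Lie.IsEntrywiseFieldAutOnOf.eq_1.{0}
  have := @Cfsg.Lie.IsEntrywiseFieldAutOnOf.eq_def.{0}
  have := @Cfsg.Lie.Iso2E6.eq_1.{0}
  have := @Cfsg.Lie.Iso2E6.eq_def.{0}
  have := @Cfsg.Lie.Iso2F4.eq_1.{0}
  have := @Cfsg.Lie.Iso2F4.eq_def.{0}
  have := @Cfsg.Lie.Iso3D4.eq_1.{0}
  have := @Cfsg.Lie.Iso3D4.eq_def.{0}
  have := @Cfsg.Lie.IsoChevE6.eq_1.{0}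
  have := @Cfsg.Lie.IsoChevE6.eq_def.{0}
  have := @Cfsg.Lie.IsoChevG2.eq_1.{0}
  have := @Cfsg.Lie.IsoChevG2.eq_def.{0}
  have := @Cfsg.Lie.IsoE6.eq_1.{0}
  have := @Cfsg.Lie.IsoE6.eq_def.{0}
  have := @Cfsg.Lie.IsoE7.eq_1.{0}
  have := @Cfsg.Lie.IsoE7.eq_def.{0}
  have := @Cfsg.Lie.IsoE8.eq_1.{0}
  have := @Cfsg.Lie.IsoE8.eq_def.{0}
  have := @Cfsg.Lie.IsoF4.eq_1.{0}
  have := @Cfsg.Lie.IsoF4.eq_def.{0}
  have := @Cfsg.Lie.IsoG2.eq_1.{0}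
  have := @Cfsg.Lie.IsoG2.eq_def.{0}
  have := @Cfsg.Lie.IsoRee.eq_1.{0}
  trivial

theorem touch40 : True := by
  have := @Cfsg.Lie.IsoRee.eq_def.{0}
  have := @Cfsg.Lie.IsoSuzuki.eq_1.{0}
  have := @Cfsg.Lie.IsoSuzuki.eq_def.{0}
  have := @Cfsg.Lie.IsoTits.eq_1.{0}
  have := @Cfsg.Lie.IsoTits.eq_def.{0}
  have := @Cfsg.Lie.Sp4.eq_1.{0}
  have := @Cfsg.Lie.Sp4.eq_def.{0}
  have := @Cfsg.Lie.Sz.eq_1.{0}
  have := @Cfsg.Lie.Sz.eq_def.{0}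
  have := @Cfsg.Lie.TitsGroup.eq_1
  have := @Cfsg.Lie.TitsGroup.eq_def
  have := @Cfsg.Lie.altForm4.eq_1.{0}
  have := @Cfsg.Lie.altForm4.eq_def.{0}
  have := @Cfsg.Lie.b2ClassWord.eq_1.{0}
  have := @Cfsg.Lie.b2ClassWord.eq_def.{0}
  have := @Cfsg.Lie.chevB2.eq_1
  have := @Cfsg.Lie.chevB2.eq_def
  have := @Cfsg.Lie.chevB2CartanSR.eq_1
  have := @Cfsg.Lie.chevB2CartanSR.eq_def
  have := @Cfsg.Lie.chevB2Chain.eq_1
  have := @Cfsg.Lie.chevB2Chain.eq_def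
  have := @Cfsg.Lie.chevB2Chain0.eq_1
  have := @Cfsg.Lie.chevB2Chain0.eq_def
  have := @Cfsg.Lie.chevB2Chain1.eq_1
  have := @Cfsg.Lie.chevB2Chain1.eq_def
  have := @Cfsg.Lie.chevB2Chain2.eq_1
  have := @Cfsg.Lie.chevB2Chain2.eq_def
  have := @Cfsg.Lie.chevB2Chain3.eq_1
  have := @Cfsg.Lie.chevB2Chain3.eq_def
  have := @Cfsg.Lie.chevB2Chain4.eq_1
  have := @Cfsg.Lie.chevB2Chain4.eq_def
  have := @Cfsg.Lie.chevB2Chain5.eq_1
  have := @Cfsg.Lie.chevB2Chain5.eq_def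
  have := @Cfsg.Lie.chevB2Chain6.eq_1
  have := @Cfsg.Lie.chevB2Chain6.eq_def
  have := @Cfsg.Lie.chevB2Chain7.eq_1
  have := @Cfsg.Lie.chevB2Chain7.eq_def
  have := @Cfsg.Lie.chevB2Coroot.eq_1
  have := @Cfsg.Lie.chevB2Coroot.eq_def
  have := @Cfsg.Lie.chevB2NegIdx.eq_1
  trivial

theorem touch41 : True := by
  have := @Cfsg.Lie.chevB2NegIdx.eq_def
  have := @Cfsg.Lie.chevB2SimpleIdx.eq_1
  have := @Cfsg.Lie.chevB2SimpleIdx.eq_def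
  have := @Cfsg.Lie.chevD4.eq_1
  have := @Cfsg.Lie.chevD4.eq_def
  have := @Cfsg.Lie.chevD4CartanSR.eq_1
  have := @Cfsg.Lie.chevD4CartanSR.eq_def
  have := @Cfsg.Lie.chevD4Chain.eq_1
  have := @Cfsg.Lie.chevD4Chain.eq_def
  have := @Cfsg.Lie.chevD4Chain0.eq_1
  have := @Cfsg.Lie.chevD4Chain0.eq_def
  have := @Cfsg.Lie.chevD4Chain1.eq_1
  have := @Cfsg.Lie.chevD4Chain1.eq_def
  have := @Cfsg.Lie.chevD4Chain10.eq_1
  have := @Cfsg.Lie.chevD4Chain10.eq_def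
  have := @Cfsg.Lie.chevD4Chain11.eq_1
  have := @Cfsg.Lie.chevD4Chain11.eq_def
  have := @Cfsg.Lie.chevD4Chain12.eq_1
  have := @Cfsg.Lie.chevD4Chain12.eq_def
  have := @Cfsg.Lie.chevD4Chain13.eq_1
  have := @Cfsg.Lie.chevD4Chain13.eq_def
  have := @Cfsg.Lie.chevD4Chain14.eq_1
  have := @Cfsg.Lie.chevD4Chain14.eq_def
  have := @Cfsg.Lie.chevD4Chain15.eq_1
  have := @Cfsg.Lie.chevD4Chain15.eq_def
  have := @Cfsg.Lie.chevD4Chain16.eq_1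
  have := @Cfsg.Lie.chevD4Chain16.eq_def
  have := @Cfsg.Lie.chevD4Chain17.eq_1
  have := @Cfsg.Lie.chevD4Chain17.eq_def
  have := @Cfsg.Lie.chevD4Chain18.eq_1
  have := @Cfsg.Lie.chevD4Chain18.eq_def
  have := @Cfsg.Lie.chevD4Chain19.eq_1
  have := @Cfsg.Lie.chevD4Chain19.eq_def
  have := @Cfsg.Lie.chevD4Chain2.eq_1
  have := @Cfsg.Lie.chevD4Chain2.eq_def
  have := @Cfsg.Lie.chevD4Chain20.eq_1
  have := @Cfsg.Lie.chevD4Chain20.eq_def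
  have := @Cfsg.Lie.chevD4Chain21.eq_1
  have := @Cfsg.Lie.chevD4Chain21.eq_def
  have := @Cfsg.Lie.chevD4Chain22.eq_1
  trivial

theorem touch42 : True := by
  have := @Cfsg.Lie.chevD4Chain22.eq_def
  have := @Cfsg.Lie.chevD4Chain23.eq_1
  have := @Cfsg.Lie.chevD4Chain23.eq_def
  have := @Cfsg.Lie.chevD4Chain3.eq_1
  have := @Cfsg.Lie.chevD4Chain3.eq_def
  have := @Cfsg.Lie.chevD4Chain4.eq_1
  have := @Cfsg.Lie.chevD4Chain4.eq_def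
  have := @Cfsg.Lie.chevD4Chain5.eq_1
  have := @Cfsg.Lie.chevD4Chain5.eq_def
  have := @Cfsg.Lie.chevD4Chain6.eq_1
  have := @Cfsg.Lie.chevD4Chain6.eq_def
  have := @Cfsg.Lie.chevD4Chain7.eq_1
  have := @Cfsg.Lie.chevD4Chain7.eq_def
  have := @Cfsg.Lie.chevD4Chain8.eq_1
  have := @Cfsg.Lie.chevD4Chain8.eq_def
  have := @Cfsg.Lie.chevD4Chain9.eq_1
  have := @Cfsg.Lie.chevD4Chain9.eq_def
  have := @Cfsg.Lie.chevD4Coroot.eq_1
  have := @Cfsg.Lie.chevD4Coroot.eq_def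
  have := @Cfsg.Lie.chevD4NegIdx.eq_1
  have := @Cfsg.Lie.chevD4NegIdx.eq_def
  have := @Cfsg.Lie.chevD4SimpleIdx.eq_1
  have := @Cfsg.Lie.chevD4SimpleIdx.eq_def
  have := @Cfsg.Lie.chevE6.eq_1
  have := @Cfsg.Lie.chevE6.eq_def
  have := @Cfsg.Lie.chevE6CartanSR.eq_1
  have := @Cfsg.Lie.chevE6CartanSR.eq_def
  have := @Cfsg.Lie.chevE6Chain.eq_1
  have := @Cfsg.Lie.chevE6Chain.eq_def
  have := @Cfsg.Lie.chevE6Chain0.eq_1
  have := @Cfsg.Lie.chevE6Chain0.eq_def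
  have := @Cfsg.Lie.chevE6Chain1.eq_1
  have := @Cfsg.Lie.chevE6Chain1.eq_def
  have := @Cfsg.Lie.chevE6Chain10.eq_1
  have := @Cfsg.Lie.chevE6Chain10.eq_def
  have := @Cfsg.Lie.chevE6Chain11.eq_1
  have := @Cfsg.Lie.chevE6Chain11.eq_def
  have := @Cfsg.Lie.chevE6Chain12.eq_1
  have := @Cfsg.Lie.chevE6Chain12.eq_def
  have := @Cfsg.Lie.chevE6Chain13.eq_1
  trivial

theorem touch43 : True := by
  have := @Cfsg.Lie.chevE6Chain13.eq_def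
  have := @Cfsg.Lie.chevE6Chain14.eq_1
  have := @Cfsg.Lie.chevE6Chain14.eq_def
  have := @Cfsg.Lie.chevE6Chain15.eq_1
  have := @Cfsg.Lie.chevE6Chain15.eq_def
  have := @Cfsg.Lie.chevE6Chain16.eq_1
  have := @Cfsg.Lie.chevE6Chain16.eq_def
  have := @Cfsg.Lie.chevE6Chain17.eq_1
  have := @Cfsg.Lie.chevE6Chain17.eq_def
  have := @Cfsg.Lie.chevE6Chain18.eq_1
  have := @Cfsg.Lie.chevE6Chain18.eq_def
  have := @Cfsg.Lie.chevE6Chain19.eq_1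
  have := @Cfsg.Lie.chevE6Chain19.eq_def
  have := @Cfsg.Lie.chevE6Chain2.eq_1
  have := @Cfsg.Lie.chevE6Chain2.eq_def
  have := @Cfsg.Lie.chevE6Chain20.eq_1
  have := @Cfsg.Lie.chevE6Chain20.eq_def
  have := @Cfsg.Lie.chevE6Chain21.eq_1
  have := @Cfsg.Lie.chevE6Chain21.eq_def
  have := @Cfsg.Lie.chevE6Chain22.eq_1
  have := @Cfsg.Lie.chevE6Chain22.eq_def
  have := @Cfsg.Lie.chevE6Chain23.eq_1
  have := @Cfsg.Lie.chevE6Chain23.eq_def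
  have := @Cfsg.Lie.chevE6Chain24.eq_1
  have := @Cfsg.Lie.chevE6Chain24.eq_def
  have := @Cfsg.Lie.chevE6Chain25.eq_1
  have := @Cfsg.Lie.chevE6Chain25.eq_def
  have := @Cfsg.Lie.chevE6Chain26.eq_1
  have := @Cfsg.Lie.chevE6Chain26.eq_def
  have := @Cfsg.Lie.chevE6Chain27.eq_1
  have := @Cfsg.Lie.chevE6Chain27.eq_def
  have := @Cfsg.Lie.chevE6Chain28.eq_1
  have := @Cfsg.Lie.chevE6Chain28.eq_def
  have := @Cfsg.Lie.chevE6Chain29.eq_1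
  have := @Cfsg.Lie.chevE6Chain29.eq_def
  have := @Cfsg.Lie.chevE6Chain3.eq_1
  have := @Cfsg.Lie.chevE6Chain3.eq_def
  have := @Cfsg.Lie.chevE6Chain30.eq_1
  have := @Cfsg.Lie.chevE6Chain30.eq_def
  have := @Cfsg.Lie.chevE6Chain31.eq_1
  trivial

theorem touch44 : True := by
  have := @Cfsg.Lie.chevE6Chain31.eq_def
  have := @Cfsg.Lie.chevE6Chain32.eq_1
  have := @Cfsg.Lie.chevE6Chain32.eq_def
  have := @Cfsg.Lie.chevE6Chain33.eq_1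
  have := @Cfsg.Lie.chevE6Chain33.eq_def
  have := @Cfsg.Lie.chevE6Chain34.eq_1
  have := @Cfsg.Lie.chevE6Chain34.eq_def
  have := @Cfsg.Lie.chevE6Chain35.eq_1
  have := @Cfsg.Lie.chevE6Chain35.eq_def
  have := @Cfsg.Lie.chevE6Chain36.eq_1
  have := @Cfsg.Lie.chevE6Chain36.eq_def
  have := @Cfsg.Lie.chevE6Chain37.eq_1
  have := @Cfsg.Lie.chevE6Chain37.eq_def
  have := @Cfsg.Lie.chevE6Chain38.eq_1
  have := @Cfsg.Lie.chevE6Chain38.eq_def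
  have := @Cfsg.Lie.chevE6Chain39.eq_1
  have := @Cfsg.Lie.chevE6Chain39.eq_def
  have := @Cfsg.Lie.chevE6Chain4.eq_1
  have := @Cfsg.Lie.chevE6Chain4.eq_def
  have := @Cfsg.Lie.chevE6Chain40.eq_1
  have := @Cfsg.Lie.chevE6Chain40.eq_def
  have := @Cfsg.Lie.chevE6Chain41.eq_1
  have := @Cfsg.Lie.chevE6Chain41.eq_def
  have := @Cfsg.Lie.chevE6Chain42.eq_1
  have := @Cfsg.Lie.chevE6Chain42.eq_def
  have := @Cfsg.Lie.chevE6Chain43.eq_1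
  have := @Cfsg.Lie.chevE6Chain43.eq_def
  have := @Cfsg.Lie.chevE6Chain44.eq_1
  have := @Cfsg.Lie.chevE6Chain44.eq_def
  have := @Cfsg.Lie.chevE6Chain45.eq_1
  have := @Cfsg.Lie.chevE6Chain45.eq_def
  have := @Cfsg.Lie.chevE6Chain46.eq_1
  have := @Cfsg.Lie.chevE6Chain46.eq_def
  have := @Cfsg.Lie.chevE6Chain47.eq_1
  have := @Cfsg.Lie.chevE6Chain47.eq_def
  have := @Cfsg.Lie.chevE6Chain48.eq_1
  have := @Cfsg.Lie.chevE6Chain48.eq_def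
  have := @Cfsg.Lie.chevE6Chain49.eq_1
  have := @Cfsg.Lie.chevE6Chain49.eq_def
  have := @Cfsg.Lie.chevE6Chain5.eq_1
  trivial

theorem touch45 : True := by
  have := @Cfsg.Lie.chevE6Chain5.eq_def
  have := @Cfsg.Lie.chevE6Chain50.eq_1
  have := @Cfsg.Lie.chevE6Chain50.eq_def
  have := @Cfsg.Lie.chevE6Chain51.eq_1
  have := @Cfsg.Lie.chevE6Chain51.eq_def
  have := @Cfsg.Lie.chevE6Chain52.eq_1
  have := @Cfsg.Lie.chevE6Chain52.eq_def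
  have := @Cfsg.Lie.chevE6Chain53.eq_1
  have := @Cfsg.Lie.chevE6Chain53.eq_def
  have := @Cfsg.Lie.chevE6Chain54.eq_1
  have := @Cfsg.Lie.chevE6Chain54.eq_def
  have := @Cfsg.Lie.chevE6Chain55.eq_1
  have := @Cfsg.Lie.chevE6Chain55.eq_def
  have := @Cfsg.Lie.chevE6Chain56.eq_1
  have := @Cfsg.Lie.chevE6Chain56.eq_def
  have := @Cfsg.Lie.chevE6Chain57.eq_1
  have := @Cfsg.Lie.chevE6Chain57.eq_def
  have := @Cfsg.Lie.chevE6Chain58.eq_1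
  have := @Cfsg.Lie.chevE6Chain58.eq_def
  have := @Cfsg.Lie.chevE6Chain59.eq_1
  have := @Cfsg.Lie.chevE6Chain59.eq_def
  have := @Cfsg.Lie.chevE6Chain6.eq_1
  have := @Cfsg.Lie.chevE6Chain6.eq_def
  have := @Cfsg.Lie.chevE6Chain60.eq_1
  have := @Cfsg.Lie.chevE6Chain60.eq_def
  have := @Cfsg.Lie.chevE6Chain61.eq_1
  have := @Cfsg.Lie.chevE6Chain61.eq_def
  have := @Cfsg.Lie.chevE6Chain62.eq_1
  have := @Cfsg.Lie.chevE6Chain62.eq_def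
  have := @Cfsg.Lie.chevE6Chain63.eq_1
  have := @Cfsg.Lie.chevE6Chain63.eq_def
  have := @Cfsg.Lie.chevE6Chain64.eq_1
  have := @Cfsg.Lie.chevE6Chain64.eq_def
  have := @Cfsg.Lie.chevE6Chain65.eq_1
  have := @Cfsg.Lie.chevE6Chain65.eq_def
  have := @Cfsg.Lie.chevE6Chain66.eq_1
  have := @Cfsg.Lie.chevE6Chain66.eq_def
  have := @Cfsg.Lie.chevE6Chain67.eq_1
  have := @Cfsg.Lie.chevE6Chain67.eq_def
  have := @Cfsg.Lie.chevE6Chain68.eq_1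
  trivial

theorem touch46 : True := by
  have := @Cfsg.Lie.chevE6Chain68.eq_def
  have := @Cfsg.Lie.chevE6Chain69.eq_1
  have := @Cfsg.Lie.chevE6Chain69.eq_def
  have := @Cfsg.Lie.chevE6Chain7.eq_1
  have := @Cfsg.Lie.chevE6Chain7.eq_def
  have := @Cfsg.Lie.chevE6Chain70.eq_1
  have := @Cfsg.Lie.chevE6Chain70.eq_def
  have := @Cfsg.Lie.chevE6Chain71.eq_1
  have := @Cfsg.Lie.chevE6Chain71.eq_def
  have := @Cfsg.Lie.chevE6Chain8.eq_1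
  have := @Cfsg.Lie.chevE6Chain8.eq_def
  have := @Cfsg.Lie.chevE6Chain9.eq_1
  have := @Cfsg.Lie.chevE6Chain9.eq_def
  have := @Cfsg.Lie.chevE6Coroot.eq_1
  have := @Cfsg.Lie.chevE6Coroot.eq_def
  have := @Cfsg.Lie.chevE6NegIdx.eq_1
  have := @Cfsg.Lie.chevE6NegIdx.eq_def
  have := @Cfsg.Lie.chevE6SimpleIdx.eq_1
  have := @Cfsg.Lie.chevE6SimpleIdx.eq_def
  have := @Cfsg.Lie.chevE7.eq_1
  have := @Cfsg.Lie.chevE7.eq_def
  have := @Cfsg.Lie.chevE7CartanSR.eq_1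
  have := @Cfsg.Lie.chevE7CartanSR.eq_def
  have := @Cfsg.Lie.chevE7Chain.eq_1
  have := @Cfsg.Lie.chevE7Chain.eq_def
  have := @Cfsg.Lie.chevE7Chain0.eq_1
  have := @Cfsg.Lie.chevE7Chain0.eq_def
  have := @Cfsg.Lie.chevE7Chain1.eq_1
  have := @Cfsg.Lie.chevE7Chain1.eq_def
  have := @Cfsg.Lie.chevE7Chain10.eq_1
  have := @Cfsg.Lie.chevE7Chain10.eq_def
  have := @Cfsg.Lie.chevE7Chain100.eq_1
  have := @Cfsg.Lie.chevE7Chain100.eq_def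
  have := @Cfsg.Lie.chevE7Chain101.eq_1
  have := @Cfsg.Lie.chevE7Chain101.eq_def
  have := @Cfsg.Lie.chevE7Chain102.eq_1
  have := @Cfsg.Lie.chevE7Chain102.eq_def
  have := @Cfsg.Lie.chevE7Chain103.eq_1
  have := @Cfsg.Lie.chevE7Chain103.eq_def
  have := @Cfsg.Lie.chevE7Chain104.eq_1
  trivial

theorem touch47 : True := by
  have := @Cfsg.Lie.chevE7Chain104.eq_def
  have := @Cfsg.Lie.chevE7Chain105.eq_1
  have := @Cfsg.Lie.chevE7Chain105.eq_def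
  have := @Cfsg.Lie.chevE7Chain106.eq_1
  have := @Cfsg.Lie.chevE7Chain106.eq_def
  have := @Cfsg.Lie.chevE7Chain107.eq_1
  have := @Cfsg.Lie.chevE7Chain107.eq_def
  have := @Cfsg.Lie.chevE7Chain108.eq_1
  have := @Cfsg.Lie.chevE7Chain108.eq_def
  have := @Cfsg.Lie.chevE7Chain109.eq_1
  have := @Cfsg.Lie.chevE7Chain109.eq_def
  have := @Cfsg.Lie.chevE7Chain11.eq_1
  have := @Cfsg.Lie.chevE7Chain11.eq_def
  have := @Cfsg.Lie.chevE7Chain110.eq_1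
  have := @Cfsg.Lie.chevE7Chain110.eq_def
  have := @Cfsg.Lie.chevE7Chain111.eq_1
  have := @Cfsg.Lie.chevE7Chain111.eq_def
  have := @Cfsg.Lie.chevE7Chain112.eq_1
  have := @Cfsg.Lie.chevE7Chain112.eq_def
  have := @Cfsg.Lie.chevE7Chain113.eq_1
  have := @Cfsg.Lie.chevE7Chain113.eq_def
  have := @Cfsg.Lie.chevE7Chain114.eq_1
  have := @Cfsg.Lie.chevE7Chain114.eq_def
  have := @Cfsg.Lie.chevE7Chain115.eq_1
  have := @Cfsg.Lie.chevE7Chain115.eq_def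
  have := @Cfsg.Lie.chevE7Chain116.eq_1
  have := @Cfsg.Lie.chevE7Chain116.eq_def
  have := @Cfsg.Lie.chevE7Chain117.eq_1
  have := @Cfsg.Lie.chevE7Chain117.eq_def
  have := @Cfsg.Lie.chevE7Chain118.eq_1
  have := @Cfsg.Lie.chevE7Chain118.eq_def
  have := @Cfsg.Lie.chevE7Chain119.eq_1
  have := @Cfsg.Lie.chevE7Chain119.eq_def
  have := @Cfsg.Lie.chevE7Chain12.eq_1
  have := @Cfsg.Lie.chevE7Chain12.eq_def
  have := @Cfsg.Lie.chevE7Chain120.eq_1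
  have := @Cfsg.Lie.chevE7Chain120.eq_def
  have := @Cfsg.Lie.chevE7Chain121.eq_1
  have := @Cfsg.Lie.chevE7Chain121.eq_def
  have := @Cfsg.Lie.chevE7Chain122.eq_1
  trivial

theorem touch48 : True := by
  have := @Cfsg.Lie.chevE7Chain122.eq_def
  have := @Cfsg.Lie.chevE7Chain123.eq_1
  have := @Cfsg.Lie.chevE7Chain123.eq_def
  have := @Cfsg.Lie.chevE7Chain124.eq_1
  have := @Cfsg.Lie.chevE7Chain124.eq_def
  have := @Cfsg.Lie.chevE7Chain125.eq_1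
  have := @Cfsg.Lie.chevE7Chain125.eq_def
  have := @Cfsg.Lie.chevE7Chain13.eq_1
  have := @Cfsg.Lie.chevE7Chain13.eq_def
  have := @Cfsg.Lie.chevE7Chain14.eq_1
  have := @Cfsg.Lie.chevE7Chain14.eq_def
  have := @Cfsg.Lie.chevE7Chain15.eq_1
  have := @Cfsg.Lie.chevE7Chain15.eq_def
  have := @Cfsg.Lie.chevE7Chain16.eq_1
  have := @Cfsg.Lie.chevE7Chain16.eq_def
  have := @Cfsg.Lie.chevE7Chain17.eq_1
  have := @Cfsg.Lie.chevE7Chain17.eq_def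
  have := @Cfsg.Lie.chevE7Chain18.eq_1
  have := @Cfsg.Lie.chevE7Chain18.eq_def
  have := @Cfsg.Lie.chevE7Chain19.eq_1
  have := @Cfsg.Lie.chevE7Chain19.eq_def
  have := @Cfsg.Lie.chevE7Chain2.eq_1
  have := @Cfsg.Lie.chevE7Chain2.eq_def
  have := @Cfsg.Lie.chevE7Chain20.eq_1
  have := @Cfsg.Lie.chevE7Chain20.eq_def
  have := @Cfsg.Lie.chevE7Chain21.eq_1
  have := @Cfsg.Lie.chevE7Chain21.eq_def
  have := @Cfsg.Lie.chevE7Chain22.eq_1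
  have := @Cfsg.Lie.chevE7Chain22.eq_def
  have := @Cfsg.Lie.chevE7Chain23.eq_1
  have := @Cfsg.Lie.chevE7Chain23.eq_def
  have := @Cfsg.Lie.chevE7Chain24.eq_1
  have := @Cfsg.Lie.chevE7Chain24.eq_def
  have := @Cfsg.Lie.chevE7Chain25.eq_1
  have := @Cfsg.Lie.chevE7Chain25.eq_def
  have := @Cfsg.Lie.chevE7Chain26.eq_1
  have := @Cfsg.Lie.chevE7Chain26.eq_def
  have := @Cfsg.Lie.chevE7Chain27.eq_1
  have := @Cfsg.Lie.chevE7Chain27.eq_def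
  have := @Cfsg.Lie.chevE7Chain28.eq_1
  trivial

theorem touch49 : True := by
  have := @Cfsg.Lie.chevE7Chain28.eq_def
  have := @Cfsg.Lie.chevE7Chain29.eq_1
  have := @Cfsg.Lie.chevE7Chain29.eq_def
  have := @Cfsg.Lie.chevE7Chain3.eq_1
  have := @Cfsg.Lie.chevE7Chain3.eq_def
  have := @Cfsg.Lie.chevE7Chain30.eq_1
  have := @Cfsg.Lie.chevE7Chain30.eq_def
  have := @Cfsg.Lie.chevE7Chain31.eq_1
  have := @Cfsg.Lie.chevE7Chain31.eq_def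
  have := @Cfsg.Lie.chevE7Chain32.eq_1
  have := @Cfsg.Lie.chevE7Chain32.eq_def
  have := @Cfsg.Lie.chevE7Chain33.eq_1
  have := @Cfsg.Lie.chevE7Chain33.eq_def
  have := @Cfsg.Lie.chevE7Chain34.eq_1
  have := @Cfsg.Lie.chevE7Chain34.eq_def
  have := @Cfsg.Lie.chevE7Chain35.eq_1
  have := @Cfsg.Lie.chevE7Chain35.eq_def
  have := @Cfsg.Lie.chevE7Chain36.eq_1
  have := @Cfsg.Lie.chevE7Chain36.eq_def
  have := @Cfsg.Lie.chevE7Chain37.eq_1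
  have := @Cfsg.Lie.chevE7Chain37.eq_def
  have := @Cfsg.Lie.chevE7Chain38.eq_1
  have := @Cfsg.Lie.chevE7Chain38.eq_def
  have := @Cfsg.Lie.chevE7Chain39.eq_1
  have := @Cfsg.Lie.chevE7Chain39.eq_def
  have := @Cfsg.Lie.chevE7Chain4.eq_1
  have := @Cfsg.Lie.chevE7Chain4.eq_def
  have := @Cfsg.Lie.chevE7Chain40.eq_1
  have := @Cfsg.Lie.chevE7Chain40.eq_def
  have := @Cfsg.Lie.chevE7Chain41.eq_1
  have := @Cfsg.Lie.chevE7Chain41.eq_def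
  have := @Cfsg.Lie.chevE7Chain42.eq_1
  have := @Cfsg.Lie.chevE7Chain42.eq_def
  have := @Cfsg.Lie.chevE7Chain43.eq_1
  have := @Cfsg.Lie.chevE7Chain43.eq_def
  have := @Cfsg.Lie.chevE7Chain44.eq_1
  have := @Cfsg.Lie.chevE7Chain44.eq_def
  have := @Cfsg.Lie.chevE7Chain45.eq_1
  have := @Cfsg.Lie.chevE7Chain45.eq_def
  have := @Cfsg.Lie.chevE7Chain46.eq_1
  trivial

theorem touch50 : True := by
  have := @Cfsg.Lie.chevE7Chain46.eq_def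
  have := @Cfsg.Lie.chevE7Chain47.eq_1
  have := @Cfsg.Lie.chevE7Chain47.eq_def
  have := @Cfsg.Lie.chevE7Chain48.eq_1
  have := @Cfsg.Lie.chevE7Chain48.eq_def
  have := @Cfsg.Lie.chevE7Chain49.eq_1
  have := @Cfsg.Lie.chevE7Chain49.eq_def
  have := @Cfsg.Lie.chevE7Chain5.eq_1
  have := @Cfsg.Lie.chevE7Chain5.eq_def
  have := @Cfsg.Lie.chevE7Chain50.eq_1
  have := @Cfsg.Lie.chevE7Chain50.eq_def
  have := @Cfsg.Lie.chevE7Chain51.eq_1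
  have := @Cfsg.Lie.chevE7Chain51.eq_def
  have := @Cfsg.Lie.chevE7Chain52.eq_1
  have := @Cfsg.Lie.chevE7Chain52.eq_def
  have := @Cfsg.Lie.chevE7Chain53.eq_1
  have := @Cfsg.Lie.chevE7Chain53.eq_def
  have := @Cfsg.Lie.chevE7Chain54.eq_1
  have := @Cfsg.Lie.chevE7Chain54.eq_def
  have := @Cfsg.Lie.chevE7Chain55.eq_1
  have := @Cfsg.Lie.chevE7Chain55.eq_def
  have := @Cfsg.Lie.chevE7Chain56.eq_1
  have := @Cfsg.Lie.chevE7Chain56.eq_def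
  have := @Cfsg.Lie.chevE7Chain57.eq_1
  have := @Cfsg.Lie.chevE7Chain57.eq_def
  have := @Cfsg.Lie.chevE7Chain58.eq_1
  have := @Cfsg.Lie.chevE7Chain58.eq_def
  have := @Cfsg.Lie.chevE7Chain59.eq_1
  have := @Cfsg.Lie.chevE7Chain59.eq_def
  have := @Cfsg.Lie.chevE7Chain6.eq_1
  have := @Cfsg.Lie.chevE7Chain6.eq_def
  have := @Cfsg.Lie.chevE7Chain60.eq_1
  have := @Cfsg.Lie.chevE7Chain60.eq_def
  have := @Cfsg.Lie.chevE7Chain61.eq_1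
  have := @Cfsg.Lie.chevE7Chain61.eq_def
  have := @Cfsg.Lie.chevE7Chain62.eq_1
  have := @Cfsg.Lie.chevE7Chain62.eq_def
  have := @Cfsg.Lie.chevE7Chain63.eq_1
  have := @Cfsg.Lie.chevE7Chain63.eq_def
  have := @Cfsg.Lie.chevE7Chain64.eq_1
  trivial

theorem touch51 : True := by
  have := @Cfsg.Lie.chevE7Chain64.eq_def
  have := @Cfsg.Lie.chevE7Chain65.eq_1
  have := @Cfsg.Lie.chevE7Chain65.eq_def
  have := @Cfsg.Lie.chevE7Chain66.eq_1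
  have := @Cfsg.Lie.chevE7Chain66.eq_def
  have := @Cfsg.Lie.chevE7Chain67.eq_1
  have := @Cfsg.Lie.chevE7Chain67.eq_def
  have := @Cfsg.Lie.chevE7Chain68.eq_1
  have := @Cfsg.Lie.chevE7Chain68.eq_def
  have := @Cfsg.Lie.chevE7Chain69.eq_1
  have := @Cfsg.Lie.chevE7Chain69.eq_def
  have := @Cfsg.Lie.chevE7Chain7.eq_1
  have := @Cfsg.Lie.chevE7Chain7.eq_def
  have := @Cfsg.Lie.chevE7Chain70.eq_1
  have := @Cfsg.Lie.chevE7Chain70.eq_def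
  have := @Cfsg.Lie.chevE7Chain71.eq_1
  have := @Cfsg.Lie.chevE7Chain71.eq_def
  have := @Cfsg.Lie.chevE7Chain72.eq_1
  have := @Cfsg.Lie.chevE7Chain72.eq_def
  have := @Cfsg.Lie.chevE7Chain73.eq_1
  have := @Cfsg.Lie.chevE7Chain73.eq_def
  have := @Cfsg.Lie.chevE7Chain74.eq_1
  have := @Cfsg.Lie.chevE7Chain74.eq_def
  have := @Cfsg.Lie.chevE7Chain75.eq_1
  have := @Cfsg.Lie.chevE7Chain75.eq_def
  have := @Cfsg.Lie.chevE7Chain76.eq_1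
  have := @Cfsg.Lie.chevE7Chain76.eq_def
  have := @Cfsg.Lie.chevE7Chain77.eq_1
  have := @Cfsg.Lie.chevE7Chain77.eq_def
  have := @Cfsg.Lie.chevE7Chain78.eq_1
  have := @Cfsg.Lie.chevE7Chain78.eq_def
  have := @Cfsg.Lie.chevE7Chain79.eq_1
  have := @Cfsg.Lie.chevE7Chain79.eq_def
  have := @Cfsg.Lie.chevE7Chain8.eq_1
  have := @Cfsg.Lie.chevE7Chain8.eq_def
  have := @Cfsg.Lie.chevE7Chain80.eq_1
  have := @Cfsg.Lie.chevE7Chain80.eq_def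
  have := @Cfsg.Lie.chevE7Chain81.eq_1
  have := @Cfsg.Lie.chevE7Chain81.eq_def
  have := @Cfsg.Lie.chevE7Chain82.eq_1
  trivial

theorem touch52 : True := by
  have := @Cfsg.Lie.chevE7Chain82.eq_def
  have := @Cfsg.Lie.chevE7Chain83.eq_1
  have := @Cfsg.Lie.chevE7Chain83.eq_def
  have := @Cfsg.Lie.chevE7Chain84.eq_1
  have := @Cfsg.Lie.chevE7Chain84.eq_def
  have := @Cfsg.Lie.chevE7Chain85.eq_1
  have := @Cfsg.Lie.chevE7Chain85.eq_def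
  have := @Cfsg.Lie.chevE7Chain86.eq_1
  have := @Cfsg.Lie.chevE7Chain86.eq_def
  have := @Cfsg.Lie.chevE7Chain87.eq_1
  have := @Cfsg.Lie.chevE7Chain87.eq_def
  have := @Cfsg.Lie.chevE7Chain88.eq_1
  have := @Cfsg.Lie.chevE7Chain88.eq_def
  have := @Cfsg.Lie.chevE7Chain89.eq_1
  have := @Cfsg.Lie.chevE7Chain89.eq_def
  have := @Cfsg.Lie.chevE7Chain9.eq_1
  have := @Cfsg.Lie.chevE7Chain9.eq_def
  have := @Cfsg.Lie.chevE7Chain90.eq_1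
  have := @Cfsg.Lie.chevE7Chain90.eq_def
  have := @Cfsg.Lie.chevE7Chain91.eq_1
  have := @Cfsg.Lie.chevE7Chain91.eq_def
  have := @Cfsg.Lie.chevE7Chain92.eq_1
  have := @Cfsg.Lie.chevE7Chain92.eq_def
  have := @Cfsg.Lie.chevE7Chain93.eq_1
  have := @Cfsg.Lie.chevE7Chain93.eq_def
  have := @Cfsg.Lie.chevE7Chain94.eq_1
  have := @Cfsg.Lie.chevE7Chain94.eq_def
  have := @Cfsg.Lie.chevE7Chain95.eq_1
  have := @Cfsg.Lie.chevE7Chain95.eq_def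
  have := @Cfsg.Lie.chevE7Chain96.eq_1
  have := @Cfsg.Lie.chevE7Chain96.eq_def
  have := @Cfsg.Lie.chevE7Chain97.eq_1
  have := @Cfsg.Lie.chevE7Chain97.eq_def
  have := @Cfsg.Lie.chevE7Chain98.eq_1
  have := @Cfsg.Lie.chevE7Chain98.eq_def
  have := @Cfsg.Lie.chevE7Chain99.eq_1
  have := @Cfsg.Lie.chevE7Chain99.eq_def
  have := @Cfsg.Lie.chevE7Coroot.eq_1
  have := @Cfsg.Lie.chevE7Coroot.eq_def
  have := @Cfsg.Lie.chevE7NegIdx.eq_1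
  trivial

theorem touch53 : True := by
  have := @Cfsg.Lie.chevE7NegIdx.eq_def
  have := @Cfsg.Lie.chevE7SimpleIdx.eq_1
  have := @Cfsg.Lie.chevE7SimpleIdx.eq_def
  have := @Cfsg.Lie.chevE8.eq_1
  have := @Cfsg.Lie.chevE8.eq_def
  have := @Cfsg.Lie.chevE8CartanSR.eq_1
  have := @Cfsg.Lie.chevE8CartanSR.eq_def
  have := @Cfsg.Lie.chevE8Chain.eq_1
  have := @Cfsg.Lie.chevE8Chain.eq_def
  have := @Cfsg.Lie.chevE8Chain0.eq_1
  have := @Cfsg.Lie.chevE8Chain0.eq_def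
  have := @Cfsg.Lie.chevE8Chain1.eq_1
  have := @Cfsg.Lie.chevE8Chain1.eq_def
  have := @Cfsg.Lie.chevE8Chain10.eq_1
  have := @Cfsg.Lie.chevE8Chain10.eq_def
  have := @Cfsg.Lie.chevE8Chain100.eq_1
  have := @Cfsg.Lie.chevE8Chain100.eq_def
  have := @Cfsg.Lie.chevE8Chain101.eq_1
  have := @Cfsg.Lie.chevE8Chain101.eq_def
  have := @Cfsg.Lie.chevE8Chain102.eq_1
  have := @Cfsg.Lie.chevE8Chain102.eq_def
  have := @Cfsg.Lie.chevE8Chain103.eq_1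
  have := @Cfsg.Lie.chevE8Chain103.eq_def
  have := @Cfsg.Lie.chevE8Chain104.eq_1
  have := @Cfsg.Lie.chevE8Chain104.eq_def
  have := @Cfsg.Lie.chevE8Chain105.eq_1
  have := @Cfsg.Lie.chevE8Chain105.eq_def
  have := @Cfsg.Lie.chevE8Chain106.eq_1
  have := @Cfsg.Lie.chevE8Chain106.eq_def
  have := @Cfsg.Lie.chevE8Chain107.eq_1
  have := @Cfsg.Lie.chevE8Chain107.eq_def
  have := @Cfsg.Lie.chevE8Chain108.eq_1
  have := @Cfsg.Lie.chevE8Chain108.eq_def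
  have := @Cfsg.Lie.chevE8Chain109.eq_1
  have := @Cfsg.Lie.chevE8Chain109.eq_def
  have := @Cfsg.Lie.chevE8Chain11.eq_1
  have := @Cfsg.Lie.chevE8Chain11.eq_def
  have := @Cfsg.Lie.chevE8Chain110.eq_1
  have := @Cfsg.Lie.chevE8Chain110.eq_def
  have := @Cfsg.Lie.chevE8Chain111.eq_1
  trivial

theorem touch54 : True := by
  have := @Cfsg.Lie.chevE8Chain111.eq_def
  have := @Cfsg.Lie.chevE8Chain112.eq_1
  have := @Cfsg.Lie.chevE8Chain112.eq_def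
  have := @Cfsg.Lie.chevE8Chain113.eq_1
  have := @Cfsg.Lie.chevE8Chain113.eq_def
  have := @Cfsg.Lie.chevE8Chain114.eq_1
  have := @Cfsg.Lie.chevE8Chain114.eq_def
  have := @Cfsg.Lie.chevE8Chain115.eq_1
  have := @Cfsg.Lie.chevE8Chain115.eq_def
  have := @Cfsg.Lie.chevE8Chain116.eq_1
  have := @Cfsg.Lie.chevE8Chain116.eq_def
  have := @Cfsg.Lie.chevE8Chain117.eq_1
  have := @Cfsg.Lie.chevE8Chain117.eq_def
  have := @Cfsg.Lie.chevE8Chain118.eq_1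
  have := @Cfsg.Lie.chevE8Chain118.eq_def
  have := @Cfsg.Lie.chevE8Chain119.eq_1
  have := @Cfsg.Lie.chevE8Chain119.eq_def
  have := @Cfsg.Lie.chevE8Chain12.eq_1
  have := @Cfsg.Lie.chevE8Chain12.eq_def
  have := @Cfsg.Lie.chevE8Chain120.eq_1
  have := @Cfsg.Lie.chevE8Chain120.eq_def
  have := @Cfsg.Lie.chevE8Chain121.eq_1
  have := @Cfsg.Lie.chevE8Chain121.eq_def
  have := @Cfsg.Lie.chevE8Chain122.eq_1
  have := @Cfsg.Lie.chevE8Chain122.eq_def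
  have := @Cfsg.Lie.chevE8Chain123.eq_1
  have := @Cfsg.Lie.chevE8Chain123.eq_def
  have := @Cfsg.Lie.chevE8Chain124.eq_1
  have := @Cfsg.Lie.chevE8Chain124.eq_def
  have := @Cfsg.Lie.chevE8Chain125.eq_1
  have := @Cfsg.Lie.chevE8Chain125.eq_def
  have := @Cfsg.Lie.chevE8Chain126.eq_1
  have := @Cfsg.Lie.chevE8Chain126.eq_def
  have := @Cfsg.Lie.chevE8Chain127.eq_1
  have := @Cfsg.Lie.chevE8Chain127.eq_def
  have := @Cfsg.Lie.chevE8Chain128.eq_1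
  have := @Cfsg.Lie.chevE8Chain128.eq_def
  have := @Cfsg.Lie.chevE8Chain129.eq_1
  have := @Cfsg.Lie.chevE8Chain129.eq_def
  have := @Cfsg.Lie.chevE8Chain13.eq_1
  trivial

theorem touch55 : True := by
  have := @Cfsg.Lie.chevE8Chain13.eq_def
  have := @Cfsg.Lie.chevE8Chain130.eq_1
  have := @Cfsg.Lie.chevE8Chain130.eq_def
  have := @Cfsg.Lie.chevE8Chain131.eq_1
  have := @Cfsg.Lie.chevE8Chain131.eq_def
  have := @Cfsg.Lie.chevE8Chain132.eq_1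
  have := @Cfsg.Lie.chevE8Chain132.eq_def
  have := @Cfsg.Lie.chevE8Chain133.eq_1
  have := @Cfsg.Lie.chevE8Chain133.eq_def
  have := @Cfsg.Lie.chevE8Chain134.eq_1
  have := @Cfsg.Lie.chevE8Chain134.eq_def
  have := @Cfsg.Lie.chevE8Chain135.eq_1
  have := @Cfsg.Lie.chevE8Chain135.eq_def
  have := @Cfsg.Lie.chevE8Chain136.eq_1
  have := @Cfsg.Lie.chevE8Chain136.eq_def
  have := @Cfsg.Lie.chevE8Chain137.eq_1
  have := @Cfsg.Lie.chevE8Chain137.eq_def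
  have := @Cfsg.Lie.chevE8Chain138.eq_1
  have := @Cfsg.Lie.chevE8Chain138.eq_def
  have := @Cfsg.Lie.chevE8Chain139.eq_1
  have := @Cfsg.Lie.chevE8Chain139.eq_def
  have := @Cfsg.Lie.chevE8Chain14.eq_1
  have := @Cfsg.Lie.chevE8Chain14.eq_def
  have := @Cfsg.Lie.chevE8Chain140.eq_1
  have := @Cfsg.Lie.chevE8Chain140.eq_def
  have := @Cfsg.Lie.chevE8Chain141.eq_1
  have := @Cfsg.Lie.chevE8Chain141.eq_def
  have := @Cfsg.Lie.chevE8Chain142.eq_1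
  have := @Cfsg.Lie.chevE8Chain142.eq_def
  have := @Cfsg.Lie.chevE8Chain143.eq_1
  have := @Cfsg.Lie.chevE8Chain143.eq_def
  have := @Cfsg.Lie.chevE8Chain144.eq_1
  have := @Cfsg.Lie.chevE8Chain144.eq_def
  have := @Cfsg.Lie.chevE8Chain145.eq_1
  have := @Cfsg.Lie.chevE8Chain145.eq_def
  have := @Cfsg.Lie.chevE8Chain146.eq_1
  have := @Cfsg.Lie.chevE8Chain146.eq_def
  have := @Cfsg.Lie.chevE8Chain147.eq_1
  have := @Cfsg.Lie.chevE8Chain147.eq_def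
  have := @Cfsg.Lie.chevE8Chain148.eq_1
  trivial

theorem touch56 : True := by
  have := @Cfsg.Lie.chevE8Chain148.eq_def
  have := @Cfsg.Lie.chevE8Chain149.eq_1
  have := @Cfsg.Lie.chevE8Chain149.eq_def
  have := @Cfsg.Lie.chevE8Chain15.eq_1
  have := @Cfsg.Lie.chevE8Chain15.eq_def
  have := @Cfsg.Lie.chevE8Chain150.eq_1
  have := @Cfsg.Lie.chevE8Chain150.eq_def
  have := @Cfsg.Lie.chevE8Chain151.eq_1
  have := @Cfsg.Lie.chevE8Chain151.eq_def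
  have := @Cfsg.Lie.chevE8Chain152.eq_1
  have := @Cfsg.Lie.chevE8Chain152.eq_def
  have := @Cfsg.Lie.chevE8Chain153.eq_1
  have := @Cfsg.Lie.chevE8Chain153.eq_def
  have := @Cfsg.Lie.chevE8Chain154.eq_1
  have := @Cfsg.Lie.chevE8Chain154.eq_def
  have := @Cfsg.Lie.chevE8Chain155.eq_1
  have := @Cfsg.Lie.chevE8Chain155.eq_def
  have := @Cfsg.Lie.chevE8Chain156.eq_1
  have := @Cfsg.Lie.chevE8Chain156.eq_def
  have := @Cfsg.Lie.chevE8Chain157.eq_1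
  have := @Cfsg.Lie.chevE8Chain157.eq_def
  have := @Cfsg.Lie.chevE8Chain158.eq_1
  have := @Cfsg.Lie.chevE8Chain158.eq_def
  have := @Cfsg.Lie.chevE8Chain159.eq_1
  have := @Cfsg.Lie.chevE8Chain159.eq_def
  have := @Cfsg.Lie.chevE8Chain16.eq_1
  have := @Cfsg.Lie.chevE8Chain16.eq_def
  have := @Cfsg.Lie.chevE8Chain160.eq_1
  have := @Cfsg.Lie.chevE8Chain160.eq_def
  have := @Cfsg.Lie.chevE8Chain161.eq_1
  have := @Cfsg.Lie.chevE8Chain161.eq_def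
  have := @Cfsg.Lie.chevE8Chain162.eq_1
  have := @Cfsg.Lie.chevE8Chain162.eq_def
  have := @Cfsg.Lie.chevE8Chain163.eq_1
  have := @Cfsg.Lie.chevE8Chain163.eq_def
  have := @Cfsg.Lie.chevE8Chain164.eq_1
  have := @Cfsg.Lie.chevE8Chain164.eq_def
  have := @Cfsg.Lie.chevE8Chain165.eq_1
  have := @Cfsg.Lie.chevE8Chain165.eq_def
  have := @Cfsg.Lie.chevE8Chain166.eq_1
  trivial

theorem touch57 : True := by
  have := @Cfsg.Lie.chevE8Chain166.eq_def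
  have := @Cfsg.Lie.chevE8Chain167.eq_1
  have := @Cfsg.Lie.chevE8Chain167.eq_def
  have := @Cfsg.Lie.chevE8Chain168.eq_1
  have := @Cfsg.Lie.chevE8Chain168.eq_def
  have := @Cfsg.Lie.chevE8Chain169.eq_1
  have := @Cfsg.Lie.chevE8Chain169.eq_def
  have := @Cfsg.Lie.chevE8Chain17.eq_1
  have := @Cfsg.Lie.chevE8Chain17.eq_def
  have := @Cfsg.Lie.chevE8Chain170.eq_1
  have := @Cfsg.Lie.chevE8Chain170.eq_def
  have := @Cfsg.Lie.chevE8Chain171.eq_1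
  have := @Cfsg.Lie.chevE8Chain171.eq_def
  have := @Cfsg.Lie.chevE8Chain172.eq_1
  have := @Cfsg.Lie.chevE8Chain172.eq_def
  have := @Cfsg.Lie.chevE8Chain173.eq_1
  have := @Cfsg.Lie.chevE8Chain173.eq_def
  have := @Cfsg.Lie.chevE8Chain174.eq_1
  have := @Cfsg.Lie.chevE8Chain174.eq_def
  have := @Cfsg.Lie.chevE8Chain175.eq_1
  have := @Cfsg.Lie.chevE8Chain175.eq_def
  have := @Cfsg.Lie.chevE8Chain176.eq_1
  have := @Cfsg.Lie.chevE8Chain176.eq_def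
  have := @Cfsg.Lie.chevE8Chain177.eq_1
  have := @Cfsg.Lie.chevE8Chain177.eq_def
  have := @Cfsg.Lie.chevE8Chain178.eq_1
  have := @Cfsg.Lie.chevE8Chain178.eq_def
  have := @Cfsg.Lie.chevE8Chain179.eq_1
  have := @Cfsg.Lie.chevE8Chain179.eq_def
  have := @Cfsg.Lie.chevE8Chain18.eq_1
  have := @Cfsg.Lie.chevE8Chain18.eq_def
  have := @Cfsg.Lie.chevE8Chain180.eq_1
  have := @Cfsg.Lie.chevE8Chain180.eq_def
  have := @Cfsg.Lie.chevE8Chain181.eq_1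
  have := @Cfsg.Lie.chevE8Chain181.eq_def
  have := @Cfsg.Lie.chevE8Chain182.eq_1
  have := @Cfsg.Lie.chevE8Chain182.eq_def
  have := @Cfsg.Lie.chevE8Chain183.eq_1
  have := @Cfsg.Lie.chevE8Chain183.eq_def
  have := @Cfsg.Lie.chevE8Chain184.eq_1
  trivial

theorem touch58 : True := by
  have := @Cfsg.Lie.chevE8Chain184.eq_def
  have := @Cfsg.Lie.chevE8Chain185.eq_1
  have := @Cfsg.Lie.chevE8Chain185.eq_def
  have := @Cfsg.Lie.chevE8Chain186.eq_1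
  have := @Cfsg.Lie.chevE8Chain186.eq_def
  have := @Cfsg.Lie.chevE8Chain187.eq_1
  have := @Cfsg.Lie.chevE8Chain187.eq_def
  have := @Cfsg.Lie.chevE8Chain188.eq_1
  have := @Cfsg.Lie.chevE8Chain188.eq_def
  have := @Cfsg.Lie.chevE8Chain189.eq_1
  have := @Cfsg.Lie.chevE8Chain189.eq_def
  have := @Cfsg.Lie.chevE8Chain19.eq_1
  have := @Cfsg.Lie.chevE8Chain19.eq_def
  have := @Cfsg.Lie.chevE8Chain190.eq_1
  have := @Cfsg.Lie.chevE8Chain190.eq_def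
  have := @Cfsg.Lie.chevE8Chain191.eq_1
  have := @Cfsg.Lie.chevE8Chain191.eq_def
  have := @Cfsg.Lie.chevE8Chain192.eq_1
  have := @Cfsg.Lie.chevE8Chain192.eq_def
  have := @Cfsg.Lie.chevE8Chain193.eq_1
  have := @Cfsg.Lie.chevE8Chain193.eq_def
  have := @Cfsg.Lie.chevE8Chain194.eq_1
  have := @Cfsg.Lie.chevE8Chain194.eq_def
  have := @Cfsg.Lie.chevE8Chain195.eq_1
  have := @Cfsg.Lie.chevE8Chain195.eq_def
  have := @Cfsg.Lie.chevE8Chain196.eq_1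
  have := @Cfsg.Lie.chevE8Chain196.eq_def
  have := @Cfsg.Lie.chevE8Chain197.eq_1
  have := @Cfsg.Lie.chevE8Chain197.eq_def
  have := @Cfsg.Lie.chevE8Chain198.eq_1
  have := @Cfsg.Lie.chevE8Chain198.eq_def
  have := @Cfsg.Lie.chevE8Chain199.eq_1
  have := @Cfsg.Lie.chevE8Chain199.eq_def
  have := @Cfsg.Lie.chevE8Chain2.eq_1
  have := @Cfsg.Lie.chevE8Chain2.eq_def
  have := @Cfsg.Lie.chevE8Chain20.eq_1
  have := @Cfsg.Lie.chevE8Chain20.eq_def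
  have := @Cfsg.Lie.chevE8Chain200.eq_1
  have := @Cfsg.Lie.chevE8Chain200.eq_def
  have := @Cfsg.Lie.chevE8Chain201.eq_1
  trivial

theorem touch59 : True := by
  have := @Cfsg.Lie.chevE8Chain201.eq_def
  have := @Cfsg.Lie.chevE8Chain202.eq_1
  have := @Cfsg.Lie.chevE8Chain202.eq_def
  have := @Cfsg.Lie.chevE8Chain203.eq_1
  have := @Cfsg.Lie.chevE8Chain203.eq_def
  have := @Cfsg.Lie.chevE8Chain204.eq_1
  have := @Cfsg.Lie.chevE8Chain204.eq_def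
  have := @Cfsg.Lie.chevE8Chain205.eq_1
  have := @Cfsg.Lie.chevE8Chain205.eq_def
  have := @Cfsg.Lie.chevE8Chain206.eq_1
  have := @Cfsg.Lie.chevE8Chain206.eq_def
  have := @Cfsg.Lie.chevE8Chain207.eq_1
  have := @Cfsg.Lie.chevE8Chain207.eq_def
  have := @Cfsg.Lie.chevE8Chain208.eq_1
  have := @Cfsg.Lie.chevE8Chain208.eq_def
  have := @Cfsg.Lie.chevE8Chain209.eq_1
  have := @Cfsg.Lie.chevE8Chain209.eq_def
  have := @Cfsg.Lie.chevE8Chain21.eq_1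
  have := @Cfsg.Lie.chevE8Chain21.eq_def
  have := @Cfsg.Lie.chevE8Chain210.eq_1
  have := @Cfsg.Lie.chevE8Chain210.eq_def
  have := @Cfsg.Lie.chevE8Chain211.eq_1
  have := @Cfsg.Lie.chevE8Chain211.eq_def
  have := @Cfsg.Lie.chevE8Chain212.eq_1
  have := @Cfsg.Lie.chevE8Chain212.eq_def
  have := @Cfsg.Lie.chevE8Chain213.eq_1
  have := @Cfsg.Lie.chevE8Chain213.eq_def
  have := @Cfsg.Lie.chevE8Chain214.eq_1
  have := @Cfsg.Lie.chevE8Chain214.eq_def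
  have := @Cfsg.Lie.chevE8Chain215.eq_1
  have := @Cfsg.Lie.chevE8Chain215.eq_def
  have := @Cfsg.Lie.chevE8Chain216.eq_1
  have := @Cfsg.Lie.chevE8Chain216.eq_def
  have := @Cfsg.Lie.chevE8Chain217.eq_1
  have := @Cfsg.Lie.chevE8Chain217.eq_def
  have := @Cfsg.Lie.chevE8Chain218.eq_1
  have := @Cfsg.Lie.chevE8Chain218.eq_def
  have := @Cfsg.Lie.chevE8Chain219.eq_1
  have := @Cfsg.Lie.chevE8Chain219.eq_def
  have := @Cfsg.Lie.chevE8Chain22.eq_1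
  trivial

theorem touch60 : True := by
  have := @Cfsg.Lie.chevE8Chain22.eq_def
  have := @Cfsg.Lie.chevE8Chain220.eq_1
  have := @Cfsg.Lie.chevE8Chain220.eq_def
  have := @Cfsg.Lie.chevE8Chain221.eq_1
  have := @Cfsg.Lie.chevE8Chain221.eq_def
  have := @Cfsg.Lie.chevE8Chain222.eq_1
  have := @Cfsg.Lie.chevE8Chain222.eq_def
  have := @Cfsg.Lie.chevE8Chain223.eq_1
  have := @Cfsg.Lie.chevE8Chain223.eq_def
  have := @Cfsg.Lie.chevE8Chain224.eq_1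
  have := @Cfsg.Lie.chevE8Chain224.eq_def
  have := @Cfsg.Lie.chevE8Chain225.eq_1
  have := @Cfsg.Lie.chevE8Chain225.eq_def
  have := @Cfsg.Lie.chevE8Chain226.eq_1
  have := @Cfsg.Lie.chevE8Chain226.eq_def
  have := @Cfsg.Lie.chevE8Chain227.eq_1
  have := @Cfsg.Lie.chevE8Chain227.eq_def
  have := @Cfsg.Lie.chevE8Chain228.eq_1
  have := @Cfsg.Lie.chevE8Chain228.eq_def
  have := @Cfsg.Lie.chevE8Chain229.eq_1
  have := @Cfsg.Lie.chevE8Chain229.eq_def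
  have := @Cfsg.Lie.chevE8Chain23.eq_1
  have := @Cfsg.Lie.chevE8Chain23.eq_def
  have := @Cfsg.Lie.chevE8Chain230.eq_1
  have := @Cfsg.Lie.chevE8Chain230.eq_def
  have := @Cfsg.Lie.chevE8Chain231.eq_1
  have := @Cfsg.Lie.chevE8Chain231.eq_def
  have := @Cfsg.Lie.chevE8Chain232.eq_1
  have := @Cfsg.Lie.chevE8Chain232.eq_def
  have := @Cfsg.Lie.chevE8Chain233.eq_1
  have := @Cfsg.Lie.chevE8Chain233.eq_def
  have := @Cfsg.Lie.chevE8Chain234.eq_1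
  have := @Cfsg.Lie.chevE8Chain234.eq_def
  have := @Cfsg.Lie.chevE8Chain235.eq_1
  have := @Cfsg.Lie.chevE8Chain235.eq_def
  have := @Cfsg.Lie.chevE8Chain236.eq_1
  have := @Cfsg.Lie.chevE8Chain236.eq_def
  have := @Cfsg.Lie.chevE8Chain237.eq_1
  have := @Cfsg.Lie.chevE8Chain237.eq_def
  have := @Cfsg.Lie.chevE8Chain238.eq_1
  trivial

theorem touch61 : True := by
  have := @Cfsg.Lie.chevE8Chain238.eq_def
  have := @Cfsg.Lie.chevE8Chain239.eq_1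
  have := @Cfsg.Lie.chevE8Chain239.eq_def
  have := @Cfsg.Lie.chevE8Chain24.eq_1
  have := @Cfsg.Lie.chevE8Chain24.eq_def
  have := @Cfsg.Lie.chevE8Chain25.eq_1
  have := @Cfsg.Lie.chevE8Chain25.eq_def
  have := @Cfsg.Lie.chevE8Chain26.eq_1
  have := @Cfsg.Lie.chevE8Chain26.eq_def
  have := @Cfsg.Lie.chevE8Chain27.eq_1
  have := @Cfsg.Lie.chevE8Chain27.eq_def
  have := @Cfsg.Lie.chevE8Chain28.eq_1
  have := @Cfsg.Lie.chevE8Chain28.eq_def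
  have := @Cfsg.Lie.chevE8Chain29.eq_1
  have := @Cfsg.Lie.chevE8Chain29.eq_def
  have := @Cfsg.Lie.chevE8Chain3.eq_1
  have := @Cfsg.Lie.chevE8Chain3.eq_def
  have := @Cfsg.Lie.chevE8Chain30.eq_1
  have := @Cfsg.Lie.chevE8Chain30.eq_def
  have := @Cfsg.Lie.chevE8Chain31.eq_1
  have := @Cfsg.Lie.chevE8Chain31.eq_def
  have := @Cfsg.Lie.chevE8Chain32.eq_1
  have := @Cfsg.Lie.chevE8Chain32.eq_def
  have := @Cfsg.Lie.chevE8Chain33.eq_1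
  have := @Cfsg.Lie.chevE8Chain33.eq_def
  have := @Cfsg.Lie.chevE8Chain34.eq_1
  have := @Cfsg.Lie.chevE8Chain34.eq_def
  have := @Cfsg.Lie.chevE8Chain35.eq_1
  have := @Cfsg.Lie.chevE8Chain35.eq_def
  have := @Cfsg.Lie.chevE8Chain36.eq_1
  have := @Cfsg.Lie.chevE8Chain36.eq_def
  have := @Cfsg.Lie.chevE8Chain37.eq_1
  have := @Cfsg.Lie.chevE8Chain37.eq_def
  have := @Cfsg.Lie.chevE8Chain38.eq_1
  have := @Cfsg.Lie.chevE8Chain38.eq_def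
  have := @Cfsg.Lie.chevE8Chain39.eq_1
  have := @Cfsg.Lie.chevE8Chain39.eq_def
  have := @Cfsg.Lie.chevE8Chain4.eq_1
  have := @Cfsg.Lie.chevE8Chain4.eq_def
  have := @Cfsg.Lie.chevE8Chain40.eq_1
  trivial

theorem touch62 : True := by
  have := @Cfsg.Lie.chevE8Chain40.eq_def
  have := @Cfsg.Lie.chevE8Chain41.eq_1
  have := @Cfsg.Lie.chevE8Chain41.eq_def
  have := @Cfsg.Lie.chevE8Chain42.eq_1
  have := @Cfsg.Lie.chevE8Chain42.eq_def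
  have := @Cfsg.Lie.chevE8Chain43.eq_1
  have := @Cfsg.Lie.chevE8Chain43.eq_def
  have := @Cfsg.Lie.chevE8Chain44.eq_1
  have := @Cfsg.Lie.chevE8Chain44.eq_def
  have := @Cfsg.Lie.chevE8Chain45.eq_1
  have := @Cfsg.Lie.chevE8Chain45.eq_def
  have := @Cfsg.Lie.chevE8Chain46.eq_1
  have := @Cfsg.Lie.chevE8Chain46.eq_def
  have := @Cfsg.Lie.chevE8Chain47.eq_1
  have := @Cfsg.Lie.chevE8Chain47.eq_def
  have := @Cfsg.Lie.chevE8Chain48.eq_1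
  have := @Cfsg.Lie.chevE8Chain48.eq_def
  have := @Cfsg.Lie.chevE8Chain49.eq_1
  have := @Cfsg.Lie.chevE8Chain49.eq_def
  have := @Cfsg.Lie.chevE8Chain5.eq_1
  have := @Cfsg.Lie.chevE8Chain5.eq_def
  have := @Cfsg.Lie.chevE8Chain50.eq_1
  have := @Cfsg.Lie.chevE8Chain50.eq_def
  have := @Cfsg.Lie.chevE8Chain51.eq_1
  have := @Cfsg.Lie.chevE8Chain51.eq_def
  have := @Cfsg.Lie.chevE8Chain52.eq_1
  have := @Cfsg.Lie.chevE8Chain52.eq_def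
  have := @Cfsg.Lie.chevE8Chain53.eq_1
  have := @Cfsg.Lie.chevE8Chain53.eq_def
  have := @Cfsg.Lie.chevE8Chain54.eq_1
  have := @Cfsg.Lie.chevE8Chain54.eq_def
  have := @Cfsg.Lie.chevE8Chain55.eq_1
  have := @Cfsg.Lie.chevE8Chain55.eq_def
  have := @Cfsg.Lie.chevE8Chain56.eq_1
  have := @Cfsg.Lie.chevE8Chain56.eq_def
  have := @Cfsg.Lie.chevE8Chain57.eq_1
  have := @Cfsg.Lie.chevE8Chain57.eq_def
  have := @Cfsg.Lie.chevE8Chain58.eq_1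
  have := @Cfsg.Lie.chevE8Chain58.eq_def
  have := @Cfsg.Lie.chevE8Chain59.eq_1
  trivial

theorem touch63 : True := by
  have := @Cfsg.Lie.chevE8Chain59.eq_def
  have := @Cfsg.Lie.chevE8Chain6.eq_1
  have := @Cfsg.Lie.chevE8Chain6.eq_def
  have := @Cfsg.Lie.chevE8Chain60.eq_1
  have := @Cfsg.Lie.chevE8Chain60.eq_def
  have := @Cfsg.Lie.chevE8Chain61.eq_1
  have := @Cfsg.Lie.chevE8Chain61.eq_def
  have := @Cfsg.Lie.chevE8Chain62.eq_1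
  have := @Cfsg.Lie.chevE8Chain62.eq_def
  have := @Cfsg.Lie.chevE8Chain63.eq_1
  have := @Cfsg.Lie.chevE8Chain63.eq_def
  have := @Cfsg.Lie.chevE8Chain64.eq_1
  have := @Cfsg.Lie.chevE8Chain64.eq_def
  have := @Cfsg.Lie.chevE8Chain65.eq_1
  have := @Cfsg.Lie.chevE8Chain65.eq_def
  have := @Cfsg.Lie.chevE8Chain66.eq_1
  have := @Cfsg.Lie.chevE8Chain66.eq_def
  have := @Cfsg.Lie.chevE8Chain67.eq_1
  have := @Cfsg.Lie.chevE8Chain67.eq_def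
  have := @Cfsg.Lie.chevE8Chain68.eq_1
  have := @Cfsg.Lie.chevE8Chain68.eq_def
  have := @Cfsg.Lie.chevE8Chain69.eq_1
  have := @Cfsg.Lie.chevE8Chain69.eq_def
  have := @Cfsg.Lie.chevE8Chain7.eq_1
  have := @Cfsg.Lie.chevE8Chain7.eq_def
  have := @Cfsg.Lie.chevE8Chain70.eq_1
  have := @Cfsg.Lie.chevE8Chain70.eq_def
  have := @Cfsg.Lie.chevE8Chain71.eq_1
  have := @Cfsg.Lie.chevE8Chain71.eq_def
  have := @Cfsg.Lie.chevE8Chain72.eq_1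
  have := @Cfsg.Lie.chevE8Chain72.eq_def
  have := @Cfsg.Lie.chevE8Chain73.eq_1
  have := @Cfsg.Lie.chevE8Chain73.eq_def
  have := @Cfsg.Lie.chevE8Chain74.eq_1
  have := @Cfsg.Lie.chevE8Chain74.eq_def
  have := @Cfsg.Lie.chevE8Chain75.eq_1
  have := @Cfsg.Lie.chevE8Chain75.eq_def
  have := @Cfsg.Lie.chevE8Chain76.eq_1
  have := @Cfsg.Lie.chevE8Chain76.eq_def
  have := @Cfsg.Lie.chevE8Chain77.eq_1
  trivial

theorem touch64 : True := by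
  have := @Cfsg.Lie.chevE8Chain77.eq_def
  have := @Cfsg.Lie.chevE8Chain78.eq_1
  have := @Cfsg.Lie.chevE8Chain78.eq_def
  have := @Cfsg.Lie.chevE8Chain79.eq_1
  have := @Cfsg.Lie.chevE8Chain79.eq_def
  have := @Cfsg.Lie.chevE8Chain8.eq_1
  have := @Cfsg.Lie.chevE8Chain8.eq_def
  have := @Cfsg.Lie.chevE8Chain80.eq_1
  have := @Cfsg.Lie.chevE8Chain80.eq_def
  have := @Cfsg.Lie.chevE8Chain81.eq_1
  have := @Cfsg.Lie.chevE8Chain81.eq_def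
  have := @Cfsg.Lie.chevE8Chain82.eq_1
  have := @Cfsg.Lie.chevE8Chain82.eq_def
  have := @Cfsg.Lie.chevE8Chain83.eq_1
  have := @Cfsg.Lie.chevE8Chain83.eq_def
  have := @Cfsg.Lie.chevE8Chain84.eq_1
  have := @Cfsg.Lie.chevE8Chain84.eq_def
  have := @Cfsg.Lie.chevE8Chain85.eq_1
  have := @Cfsg.Lie.chevE8Chain85.eq_def
  have := @Cfsg.Lie.chevE8Chain86.eq_1
  have := @Cfsg.Lie.chevE8Chain86.eq_def
  have := @Cfsg.Lie.chevE8Chain87.eq_1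
  have := @Cfsg.Lie.chevE8Chain87.eq_def
  have := @Cfsg.Lie.chevE8Chain88.eq_1
  have := @Cfsg.Lie.chevE8Chain88.eq_def
  have := @Cfsg.Lie.chevE8Chain89.eq_1
  have := @Cfsg.Lie.chevE8Chain89.eq_def
  have := @Cfsg.Lie.chevE8Chain9.eq_1
  have := @Cfsg.Lie.chevE8Chain9.eq_def
  have := @Cfsg.Lie.chevE8Chain90.eq_1
  have := @Cfsg.Lie.chevE8Chain90.eq_def
  have := @Cfsg.Lie.chevE8Chain91.eq_1
  have := @Cfsg.Lie.chevE8Chain91.eq_def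
  have := @Cfsg.Lie.chevE8Chain92.eq_1
  have := @Cfsg.Lie.chevE8Chain92.eq_def
  have := @Cfsg.Lie.chevE8Chain93.eq_1
  have := @Cfsg.Lie.chevE8Chain93.eq_def
  have := @Cfsg.Lie.chevE8Chain94.eq_1
  have := @Cfsg.Lie.chevE8Chain94.eq_def
  have := @Cfsg.Lie.chevE8Chain95.eq_1
  trivial

theorem touch65 : True := by
  have := @Cfsg.Lie.chevE8Chain95.eq_def
  have := @Cfsg.Lie.chevE8Chain96.eq_1
  have := @Cfsg.Lie.chevE8Chain96.eq_def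
  have := @Cfsg.Lie.chevE8Chain97.eq_1
  have := @Cfsg.Lie.chevE8Chain97.eq_def
  have := @Cfsg.Lie.chevE8Chain98.eq_1
  have := @Cfsg.Lie.chevE8Chain98.eq_def
  have := @Cfsg.Lie.chevE8Chain99.eq_1
  have := @Cfsg.Lie.chevE8Chain99.eq_def
  have := @Cfsg.Lie.chevE8Coroot.eq_1
  have := @Cfsg.Lie.chevE8Coroot.eq_def
  have := @Cfsg.Lie.chevE8NegIdx.eq_1
  have := @Cfsg.Lie.chevE8NegIdx.eq_def
  have := @Cfsg.Lie.chevE8SimpleIdx.eq_1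
  have := @Cfsg.Lie.chevE8SimpleIdx.eq_def
  have := @Cfsg.Lie.chevF4.eq_1
  have := @Cfsg.Lie.chevF4.eq_def
  have := @Cfsg.Lie.chevF4CartanSR.eq_1
  have := @Cfsg.Lie.chevF4CartanSR.eq_def
  have := @Cfsg.Lie.chevF4Chain.eq_1
  have := @Cfsg.Lie.chevF4Chain.eq_def
  have := @Cfsg.Lie.chevF4Chain0.eq_1
  have := @Cfsg.Lie.chevF4Chain0.eq_def
  have := @Cfsg.Lie.chevF4Chain1.eq_1
  have := @Cfsg.Lie.chevF4Chain1.eq_def
  have := @Cfsg.Lie.chevF4Chain10.eq_1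
  have := @Cfsg.Lie.chevF4Chain10.eq_def
  have := @Cfsg.Lie.chevF4Chain11.eq_1
  have := @Cfsg.Lie.chevF4Chain11.eq_def
  have := @Cfsg.Lie.chevF4Chain12.eq_1
  have := @Cfsg.Lie.chevF4Chain12.eq_def
  have := @Cfsg.Lie.chevF4Chain13.eq_1
  have := @Cfsg.Lie.chevF4Chain13.eq_def
  have := @Cfsg.Lie.chevF4Chain14.eq_1
  have := @Cfsg.Lie.chevF4Chain14.eq_def
  have := @Cfsg.Lie.chevF4Chain15.eq_1
  have := @Cfsg.Lie.chevF4Chain15.eq_def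
  have := @Cfsg.Lie.chevF4Chain16.eq_1
  have := @Cfsg.Lie.chevF4Chain16.eq_def
  have := @Cfsg.Lie.chevF4Chain17.eq_1
  trivial

theorem touch66 : True := by
  have := @Cfsg.Lie.chevF4Chain17.eq_def
  have := @Cfsg.Lie.chevF4Chain18.eq_1
  have := @Cfsg.Lie.chevF4Chain18.eq_def
  have := @Cfsg.Lie.chevF4Chain19.eq_1
  have := @Cfsg.Lie.chevF4Chain19.eq_def
  have := @Cfsg.Lie.chevF4Chain2.eq_1
  have := @Cfsg.Lie.chevF4Chain2.eq_def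
  have := @Cfsg.Lie.chevF4Chain20.eq_1
  have := @Cfsg.Lie.chevF4Chain20.eq_def
  have := @Cfsg.Lie.chevF4Chain21.eq_1
  have := @Cfsg.Lie.chevF4Chain21.eq_def
  have := @Cfsg.Lie.chevF4Chain22.eq_1
  have := @Cfsg.Lie.chevF4Chain22.eq_def
  have := @Cfsg.Lie.chevF4Chain23.eq_1
  have := @Cfsg.Lie.chevF4Chain23.eq_def
  have := @Cfsg.Lie.chevF4Chain24.eq_1
  have := @Cfsg.Lie.chevF4Chain24.eq_def
  have := @Cfsg.Lie.chevF4Chain25.eq_1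
  have := @Cfsg.Lie.chevF4Chain25.eq_def
  have := @Cfsg.Lie.chevF4Chain26.eq_1
  have := @Cfsg.Lie.chevF4Chain26.eq_def
  have := @Cfsg.Lie.chevF4Chain27.eq_1
  have := @Cfsg.Lie.chevF4Chain27.eq_def
  have := @Cfsg.Lie.chevF4Chain28.eq_1
  have := @Cfsg.Lie.chevF4Chain28.eq_def
  have := @Cfsg.Lie.chevF4Chain29.eq_1
  have := @Cfsg.Lie.chevF4Chain29.eq_def
  have := @Cfsg.Lie.chevF4Chain3.eq_1
  have := @Cfsg.Lie.chevF4Chain3.eq_def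
  have := @Cfsg.Lie.chevF4Chain30.eq_1
  have := @Cfsg.Lie.chevF4Chain30.eq_def
  have := @Cfsg.Lie.chevF4Chain31.eq_1
  have := @Cfsg.Lie.chevF4Chain31.eq_def
  have := @Cfsg.Lie.chevF4Chain32.eq_1
  have := @Cfsg.Lie.chevF4Chain32.eq_def
  have := @Cfsg.Lie.chevF4Chain33.eq_1
  have := @Cfsg.Lie.chevF4Chain33.eq_def
  have := @Cfsg.Lie.chevF4Chain34.eq_1
  have := @Cfsg.Lie.chevF4Chain34.eq_def
  have := @Cfsg.Lie.chevF4Chain35.eq_1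
  trivial

theorem touch67 : True := by
  have := @Cfsg.Lie.chevF4Chain35.eq_def
  have := @Cfsg.Lie.chevF4Chain36.eq_1
  have := @Cfsg.Lie.chevF4Chain36.eq_def
  have := @Cfsg.Lie.chevF4Chain37.eq_1
  have := @Cfsg.Lie.chevF4Chain37.eq_def
  have := @Cfsg.Lie.chevF4Chain38.eq_1
  have := @Cfsg.Lie.chevF4Chain38.eq_def
  have := @Cfsg.Lie.chevF4Chain39.eq_1
  have := @Cfsg.Lie.chevF4Chain39.eq_def
  have := @Cfsg.Lie.chevF4Chain4.eq_1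
  have := @Cfsg.Lie.chevF4Chain4.eq_def
  have := @Cfsg.Lie.chevF4Chain40.eq_1
  have := @Cfsg.Lie.chevF4Chain40.eq_def
  have := @Cfsg.Lie.chevF4Chain41.eq_1
  have := @Cfsg.Lie.chevF4Chain41.eq_def
  have := @Cfsg.Lie.chevF4Chain42.eq_1
  have := @Cfsg.Lie.chevF4Chain42.eq_def
  have := @Cfsg.Lie.chevF4Chain43.eq_1
  have := @Cfsg.Lie.chevF4Chain43.eq_def
  have := @Cfsg.Lie.chevF4Chain44.eq_1
  have := @Cfsg.Lie.chevF4Chain44.eq_def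
  have := @Cfsg.Lie.chevF4Chain45.eq_1
  have := @Cfsg.Lie.chevF4Chain45.eq_def
  have := @Cfsg.Lie.chevF4Chain46.eq_1
  have := @Cfsg.Lie.chevF4Chain46.eq_def
  have := @Cfsg.Lie.chevF4Chain47.eq_1
  have := @Cfsg.Lie.chevF4Chain47.eq_def
  have := @Cfsg.Lie.chevF4Chain5.eq_1
  have := @Cfsg.Lie.chevF4Chain5.eq_def
  have := @Cfsg.Lie.chevF4Chain6.eq_1
  have := @Cfsg.Lie.chevF4Chain6.eq_def
  have := @Cfsg.Lie.chevF4Chain7.eq_1
  have := @Cfsg.Lie.chevF4Chain7.eq_def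
  have := @Cfsg.Lie.chevF4Chain8.eq_1
  have := @Cfsg.Lie.chevF4Chain8.eq_def
  have := @Cfsg.Lie.chevF4Chain9.eq_1
  have := @Cfsg.Lie.chevF4Chain9.eq_def
  have := @Cfsg.Lie.chevF4Coroot.eq_1
  have := @Cfsg.Lie.chevF4Coroot.eq_def
  have := @Cfsg.Lie.chevF4NegIdx.eq_1
  trivial

theorem touch68 : True := by
  have := @Cfsg.Lie.chevF4NegIdx.eq_def
  have := @Cfsg.Lie.chevF4SimpleIdx.eq_1
  have := @Cfsg.Lie.chevF4SimpleIdx.eq_def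
  have := @Cfsg.Lie.chevG2.eq_1
  have := @Cfsg.Lie.chevG2.eq_def
  have := @Cfsg.Lie.chevG2CartanSR.eq_1
  have := @Cfsg.Lie.chevG2CartanSR.eq_def
  have := @Cfsg.Lie.chevG2Chain.eq_1
  have := @Cfsg.Lie.chevG2Chain.eq_def
  have := @Cfsg.Lie.chevG2Chain0.eq_1
  have := @Cfsg.Lie.chevG2Chain0.eq_def
  have := @Cfsg.Lie.chevG2Chain1.eq_1
  have := @Cfsg.Lie.chevG2Chain1.eq_def
  have := @Cfsg.Lie.chevG2Chain10.eq_1
  have := @Cfsg.Lie.chevG2Chain10.eq_def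
  have := @Cfsg.Lie.chevG2Chain11.eq_1
  have := @Cfsg.Lie.chevG2Chain11.eq_def
  have := @Cfsg.Lie.chevG2Chain2.eq_1
  have := @Cfsg.Lie.chevG2Chain2.eq_def
  have := @Cfsg.Lie.chevG2Chain3.eq_1
  have := @Cfsg.Lie.chevG2Chain3.eq_def
  have := @Cfsg.Lie.chevG2Chain4.eq_1
  have := @Cfsg.Lie.chevG2Chain4.eq_def
  have := @Cfsg.Lie.chevG2Chain5.eq_1
  have := @Cfsg.Lie.chevG2Chain5.eq_def
  have := @Cfsg.Lie.chevG2Chain6.eq_1
  have := @Cfsg.Lie.chevG2Chain6.eq_def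
  have := @Cfsg.Lie.chevG2Chain7.eq_1
  have := @Cfsg.Lie.chevG2Chain7.eq_def
  have := @Cfsg.Lie.chevG2Chain8.eq_1
  have := @Cfsg.Lie.chevG2Chain8.eq_def
  have := @Cfsg.Lie.chevG2Chain9.eq_1
  have := @Cfsg.Lie.chevG2Chain9.eq_def
  have := @Cfsg.Lie.chevG2Coroot.eq_1
  have := @Cfsg.Lie.chevG2Coroot.eq_def
  have := @Cfsg.Lie.chevG2NegIdx.eq_1
  have := @Cfsg.Lie.chevG2NegIdx.eq_def
  have := @Cfsg.Lie.chevG2SimpleIdx.eq_1
  have := @Cfsg.Lie.chevG2SimpleIdx.eq_def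
  have := @Cfsg.Lie.coxeterD4.eq_1
  trivial

theorem touch69 : True := by
  have := @Cfsg.Lie.coxeterD4.eq_def
  have := @Cfsg.Lie.cross3.eq_1.{0}
  have := @Cfsg.Lie.cross3.eq_def.{0}
  have := @Cfsg.Lie.cubicT.eq_1.{0}
  have := @Cfsg.Lie.cubicT.eq_def.{0}
  have := @Cfsg.Lie.d4Words.eq_1.{0}
  have := @Cfsg.Lie.d4Words.eq_def.{0}
  have := @Cfsg.Lie.d4m1.eq_1
  have := @Cfsg.Lie.d4m1.eq_def
  have := @Cfsg.Lie.d4m2.eq_1
  have := @Cfsg.Lie.d4m2.eq_def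
  have := @Cfsg.Lie.d4m3.eq_1
  have := @Cfsg.Lie.d4m3.eq_def
  have := @Cfsg.Lie.d4m4.eq_1
  have := @Cfsg.Lie.d4m4.eq_def
  have := @Cfsg.Lie.d4p1.eq_1
  have := @Cfsg.Lie.d4p1.eq_def
  have := @Cfsg.Lie.d4p2.eq_1
  have := @Cfsg.Lie.d4p2.eq_def
  have := @Cfsg.Lie.d4p3.eq_1
  have := @Cfsg.Lie.d4p3.eq_def
  have := @Cfsg.Lie.d4p4.eq_1
  have := @Cfsg.Lie.d4p4.eq_def
  have := @Cfsg.Lie.dot3.eq_1.{0}
  have := @Cfsg.Lie.dot3.eq_def.{0}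
  have := @Cfsg.Lie.e6Words.eq_1.{0}
  have := @Cfsg.Lie.e6Words.eq_def.{0}
  have := @Cfsg.Lie.e6m1.eq_1
  have := @Cfsg.Lie.e6m1.eq_def
  have := @Cfsg.Lie.e6m2.eq_1
  have := @Cfsg.Lie.e6m2.eq_def
  have := @Cfsg.Lie.e6m3.eq_1
  have := @Cfsg.Lie.e6m3.eq_def
  have := @Cfsg.Lie.e6m4.eq_1
  have := @Cfsg.Lie.e6m4.eq_def
  have := @Cfsg.Lie.e6m5.eq_1
  have := @Cfsg.Lie.e6m5.eq_def
  have := @Cfsg.Lie.e6m6.eq_1
  have := @Cfsg.Lie.e6m6.eq_def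
  have := @Cfsg.Lie.e6p1.eq_1
  trivial

theorem touch70 : True := by
  have := @Cfsg.Lie.e6p1.eq_def
  have := @Cfsg.Lie.e6p2.eq_1
  have := @Cfsg.Lie.e6p2.eq_def
  have := @Cfsg.Lie.e6p3.eq_1
  have := @Cfsg.Lie.e6p3.eq_def
  have := @Cfsg.Lie.e6p4.eq_1
  have := @Cfsg.Lie.e6p4.eq_def
  have := @Cfsg.Lie.e6p5.eq_1
  have := @Cfsg.Lie.e6p5.eq_def
  have := @Cfsg.Lie.e6p6.eq_1
  have := @Cfsg.Lie.e6p6.eq_def
  have := @Cfsg.Lie.f4PairWord.eq_1.{0}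
  have := @Cfsg.Lie.f4PairWord.eq_def.{0}
  have := @Cfsg.Lie.f4Words.eq_1.{0}
  have := @Cfsg.Lie.f4Words.eq_def.{0}
  have := @Cfsg.Lie.f4a.eq_1
  have := @Cfsg.Lie.f4a.eq_def
  have := @Cfsg.Lie.f4aab.eq_1
  have := @Cfsg.Lie.f4aab.eq_def
  have := @Cfsg.Lie.f4ab.eq_1
  have := @Cfsg.Lie.f4ab.eq_def
  have := @Cfsg.Lie.f4b.eq_1
  have := @Cfsg.Lie.f4b.eq_def
  have := @Cfsg.Lie.f4m1.eq_1
  have := @Cfsg.Lie.f4m1.eq_def
  have := @Cfsg.Lie.f4m4.eq_1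
  have := @Cfsg.Lie.f4m4.eq_def
  have := @Cfsg.Lie.f4ma.eq_1
  have := @Cfsg.Lie.f4ma.eq_def
  have := @Cfsg.Lie.f4maab.eq_1
  have := @Cfsg.Lie.f4maab.eq_def
  have := @Cfsg.Lie.f4mab.eq_1
  have := @Cfsg.Lie.f4mab.eq_def
  have := @Cfsg.Lie.f4mb.eq_1
  have := @Cfsg.Lie.f4mb.eq_def
  have := @Cfsg.Lie.f4p1.eq_1
  have := @Cfsg.Lie.f4p1.eq_def
  have := @Cfsg.Lie.f4p4.eq_1
  have := @Cfsg.Lie.f4p4.eq_def
  have := @Cfsg.Lie.formStab.eq_1.{0}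
  trivial

theorem touch71 : True := by
  have := @Cfsg.Lie.formStab.eq_def.{0}
  have := @Cfsg.Lie.funStab.eq_1.{0}
  have := @Cfsg.Lie.funStab.eq_def.{0}
  have := @Cfsg.Lie.g2Words.eq_1.{0}
  have := @Cfsg.Lie.g2Words.eq_def.{0}
  have := @Cfsg.Lie.g2a.eq_1
  have := @Cfsg.Lie.g2a.eq_def
  have := @Cfsg.Lie.g2aaab.eq_1
  have := @Cfsg.Lie.g2aaab.eq_def
  have := @Cfsg.Lie.g2aaabb.eq_1
  have := @Cfsg.Lie.g2aaabb.eq_def
  have := @Cfsg.Lie.g2aab.eq_1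
  have := @Cfsg.Lie.g2aab.eq_def
  have := @Cfsg.Lie.g2ab.eq_1
  have := @Cfsg.Lie.g2ab.eq_def
  have := @Cfsg.Lie.g2b.eq_1
  have := @Cfsg.Lie.g2b.eq_def
  have := @Cfsg.Lie.g2ma.eq_1
  have := @Cfsg.Lie.g2ma.eq_def
  have := @Cfsg.Lie.g2maaab.eq_1
  have := @Cfsg.Lie.g2maaab.eq_def
  have := @Cfsg.Lie.g2maaabb.eq_1
  have := @Cfsg.Lie.g2maaabb.eq_def
  have := @Cfsg.Lie.g2maab.eq_1
  have := @Cfsg.Lie.g2maab.eq_def
  have := @Cfsg.Lie.g2mab.eq_1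
  have := @Cfsg.Lie.g2mab.eq_def
  have := @Cfsg.Lie.g2mb.eq_1
  have := @Cfsg.Lie.g2mb.eq_def
  have := @Cfsg.Lie.mat3.eq_1.{0}
  have := @Cfsg.Lie.mat3.eq_def.{0}
  have := @Cfsg.Lie.mulAut.eq_1.{0}
  have := @Cfsg.Lie.mulAut.eq_def.{0}
  have := @Cfsg.Lie.pairOf.eq_1
  have := @Cfsg.Lie.pairOf.eq_def
  have := @Cfsg.Lie.reeWordU.eq_1.{0}
  have := @Cfsg.Lie.reeWordU.eq_def.{0}
  have := @Cfsg.Lie.reeWordV.eq_1.{0}
  have := @Cfsg.Lie.reeWordV.eq_def.{0}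
  have := @Cfsg.Lie.star4.eq_1.{0}
  trivial

theorem touch72 : True := by
  have := @Cfsg.Lie.star4.eq_def.{0}
  have := @Cfsg.Lie.twistedD4.eq_1.{0}
  have := @Cfsg.Lie.twistedD4.eq_def.{0}
  have := @Cfsg.Lie.twistedE6.eq_1.{0}
  have := @Cfsg.Lie.twistedE6.eq_def.{0}
  have := @Cfsg.Lie.twistedF4.eq_1.{0}
  have := @Cfsg.Lie.twistedF4.eq_def.{0}
  have := @Cfsg.Lie.twistedG2.eq_1.{0}
  have := @Cfsg.Lie.twistedG2.eq_def.{0}
  have := @Cfsg.Lie.zA.eq_1.{0}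
  have := @Cfsg.Lie.zA.eq_def.{0}
  have := @Cfsg.Lie.zB.eq_1.{0}
  have := @Cfsg.Lie.zB.eq_def.{0}
  have := @Cfsg.Lie.zornMul.eq_1.{0}
  have := @Cfsg.Lie.zornMul.eq_def.{0}
  have := @Cfsg.LieFamily.A.elim.eq_1.{0}
  have := @Cfsg.LieFamily.A.elim.eq_def.{0}
  have := @Cfsg.LieFamily.A.noConfusion.eq_1.{0}
  have := @Cfsg.LieFamily.A.noConfusion.eq_def.{0}
  have := @Cfsg.LieFamily.B.elim.eq_1.{0}
  have := @Cfsg.LieFamily.B.elim.eq_def.{0}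
  have := @Cfsg.LieFamily.B.noConfusion.eq_1.{0}
  have := @Cfsg.LieFamily.B.noConfusion.eq_def.{0}
  have := @Cfsg.LieFamily.C.elim.eq_1.{0}
  have := @Cfsg.LieFamily.C.elim.eq_def.{0}
  have := @Cfsg.LieFamily.C.noConfusion.eq_1.{0}
  have := @Cfsg.LieFamily.C.noConfusion.eq_def.{0}
  have := @Cfsg.LieFamily.D.elim.eq_1.{0}
  have := @Cfsg.LieFamily.D.elim.eq_def.{0}
  have := @Cfsg.LieFamily.D.noConfusion.eq_1.{0}
  have := @Cfsg.LieFamily.D.noConfusion.eq_def.{0}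
  have := @Cfsg.LieFamily.E6.elim.eq_1.{0}
  have := @Cfsg.LieFamily.E6.elim.eq_def.{0}
  have := @Cfsg.LieFamily.E7.elim.eq_1.{0}
  have := @Cfsg.LieFamily.E7.elim.eq_def.{0}
  have := @Cfsg.LieFamily.E8.elim.eq_1.{0}
  have := @Cfsg.LieFamily.E8.elim.eq_def.{0}
  have := @Cfsg.LieFamily.F4.elim.eq_1.{0}
  have := @Cfsg.LieFamily.F4.elim.eq_def.{0}
  have := @Cfsg.LieFamily.G2.elim.eq_1.{0}
  trivial

theorem touch73 : True := by
  have := @Cfsg.LieFamily.G2.elim.eq_def.{0}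
  have := @Cfsg.LieFamily.casesOn.eq_1.{0}
  have := @Cfsg.LieFamily.casesOn.eq_def.{0}
  have := @Cfsg.LieFamily.ctorElim.eq_1.{0}
  have := @Cfsg.LieFamily.ctorElim.eq_def.{0}
  have := @Cfsg.LieFamily.ctorElimType.eq_1.{0}
  have := @Cfsg.LieFamily.ctorElimType.eq_def.{0}
  have := @Cfsg.LieFamily.ctorIdx.eq_1
  have := @Cfsg.LieFamily.ctorIdx.eq_def
  have := @Cfsg.LieFamily.noConfusion.eq_1.{0}
  have := @Cfsg.LieFamily.noConfusion.eq_def.{0}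
  have := @Cfsg.LieFamily.noConfusionType.eq_1.{0}
  have := @Cfsg.LieFamily.noConfusionType.eq_def.{0}
  have := @Cfsg.LieFamily.recOn.eq_1.{0}
  have := @Cfsg.LieFamily.recOn.eq_def.{0}
  have := @Cfsg.LieFamily.reeF4.elim.eq_1.{0}
  have := @Cfsg.LieFamily.reeF4.elim.eq_def.{0}
  have := @Cfsg.LieFamily.reeG2.elim.eq_1.{0}
  have := @Cfsg.LieFamily.reeG2.elim.eq_def.{0}
  have := @Cfsg.LieFamily.suzuki.elim.eq_1.{0}
  have := @Cfsg.LieFamily.suzuki.elim.eq_def.{0}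
  have := @Cfsg.LieFamily.trialityD4.elim.eq_1.{0}
  have := @Cfsg.LieFamily.trialityD4.elim.eq_def.{0}
  have := @Cfsg.LieFamily.twistedA.elim.eq_1.{0}
  have := @Cfsg.LieFamily.twistedA.elim.eq_def.{0}
  have := @Cfsg.LieFamily.twistedA.noConfusion.eq_1.{0}
  have := @Cfsg.LieFamily.twistedA.noConfusion.eq_def.{0}
  have := @Cfsg.LieFamily.twistedD.elim.eq_1.{0}
  have := @Cfsg.LieFamily.twistedD.elim.eq_def.{0}
  have := @Cfsg.LieFamily.twistedD.noConfusion.eq_1.{0}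
  have := @Cfsg.LieFamily.twistedD.noConfusion.eq_def.{0}
  have := @Cfsg.LieFamily.twistedE6.elim.eq_1.{0}
  have := @Cfsg.LieFamily.twistedE6.elim.eq_def.{0}
  have := @Cfsg.LieFamilyTwo.A.elim.eq_1.{0}
  have := @Cfsg.LieFamilyTwo.A.elim.eq_def.{0}
  have := @Cfsg.LieFamilyTwo.A.noConfusion.eq_1.{0}
  have := @Cfsg.LieFamilyTwo.A.noConfusion.eq_def.{0}
  have := @Cfsg.LieFamilyTwo.B.elim.eq_1.{0}
  have := @Cfsg.LieFamilyTwo.B.elim.eq_def.{0}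
  have := @Cfsg.LieFamilyTwo.B.noConfusion.eq_1.{0}
  trivial

theorem touch74 : True := by
  have := @Cfsg.LieFamilyTwo.B.noConfusion.eq_def.{0}
  have := @Cfsg.LieFamilyTwo.D.elim.eq_1.{0}
  have := @Cfsg.LieFamilyTwo.D.elim.eq_def.{0}
  have := @Cfsg.LieFamilyTwo.D.noConfusion.eq_1.{0}
  have := @Cfsg.LieFamilyTwo.D.noConfusion.eq_def.{0}
  have := @Cfsg.LieFamilyTwo.E6.elim.eq_1.{0}
  have := @Cfsg.LieFamilyTwo.E6.elim.eq_def.{0}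
  have := @Cfsg.LieFamilyTwo.E7.elim.eq_1.{0}
  have := @Cfsg.LieFamilyTwo.E7.elim.eq_def.{0}
  have := @Cfsg.LieFamilyTwo.E8.elim.eq_1.{0}
  have := @Cfsg.LieFamilyTwo.E8.elim.eq_def.{0}
  have := @Cfsg.LieFamilyTwo.F4.elim.eq_1.{0}
  have := @Cfsg.LieFamilyTwo.F4.elim.eq_def.{0}
  have := @Cfsg.LieFamilyTwo.G2.elim.eq_1.{0}
  have := @Cfsg.LieFamilyTwo.G2.elim.eq_def.{0}
  have := @Cfsg.LieFamilyTwo.casesOn.eq_1.{0}
  have := @Cfsg.LieFamilyTwo.casesOn.eq_def.{0}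
  have := @Cfsg.LieFamilyTwo.ctorElim.eq_1.{0}
  have := @Cfsg.LieFamilyTwo.ctorElim.eq_def.{0}
  have := @Cfsg.LieFamilyTwo.ctorElimType.eq_1.{0}
  have := @Cfsg.LieFamilyTwo.ctorElimType.eq_def.{0}
  have := @Cfsg.LieFamilyTwo.ctorIdx.eq_1
  have := @Cfsg.LieFamilyTwo.ctorIdx.eq_def
  have := @Cfsg.LieFamilyTwo.noConfusion.eq_1.{0}
  have := @Cfsg.LieFamilyTwo.noConfusion.eq_def.{0}
  have := @Cfsg.LieFamilyTwo.noConfusionType.eq_1.{0}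
  have := @Cfsg.LieFamilyTwo.noConfusionType.eq_def.{0}
  have := @Cfsg.LieFamilyTwo.recOn.eq_1.{0}
  have := @Cfsg.LieFamilyTwo.recOn.eq_def.{0}
  have := @Cfsg.LieFamilyTwo.reeF4.elim.eq_1.{0}
  have := @Cfsg.LieFamilyTwo.reeF4.elim.eq_def.{0}
  have := @Cfsg.LieFamilyTwo.suzuki.elim.eq_1.{0}
  have := @Cfsg.LieFamilyTwo.suzuki.elim.eq_def.{0}
  have := @Cfsg.LieFamilyTwo.trialityD4.elim.eq_1.{0}
  have := @Cfsg.LieFamilyTwo.trialityD4.elim.eq_def.{0}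
  have := @Cfsg.LieFamilyTwo.twisted.eq_1
  have := @Cfsg.LieFamilyTwo.twisted.eq_2
  have := @Cfsg.LieFamilyTwo.twisted.eq_3
  have := @Cfsg.LieFamilyTwo.twisted.eq_4
  have := @Cfsg.LieFamilyTwo.twisted.eq_5
  trivial

theorem touch75 : True := by
  have := @Cfsg.LieFamilyTwo.twisted.eq_6
  have := @Cfsg.LieFamilyTwo.twisted.eq_7
  have := @Cfsg.LieFamilyTwo.twisted.eq_def
  have := @Cfsg.LieFamilyTwo.twistedA.elim.eq_1.{0}
  have := @Cfsg.LieFamilyTwo.twistedA.elim.eq_def.{0}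
  have := @Cfsg.LieFamilyTwo.twistedA.noConfusion.eq_1.{0}
  have := @Cfsg.LieFamilyTwo.twistedA.noConfusion.eq_def.{0}
  have := @Cfsg.LieFamilyTwo.twistedD.elim.eq_1.{0}
  have := @Cfsg.LieFamilyTwo.twistedD.elim.eq_def.{0}
  have := @Cfsg.LieFamilyTwo.twistedD.noConfusion.eq_1.{0}
  have := @Cfsg.LieFamilyTwo.twistedD.noConfusion.eq_def.{0}
  have := @Cfsg.LieFamilyTwo.twistedE6.elim.eq_1.{0}
  have := @Cfsg.LieFamilyTwo.twistedE6.elim.eq_def.{0}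
  have := @Cfsg.LineSystem.Collinear.eq_1.{0}
  have := @Cfsg.LineSystem.Collinear.eq_def.{0}
  have := @Cfsg.LineSystem.IsIso.eq_1.{0,0}
  have := @Cfsg.LineSystem.IsIso.eq_def.{0,0}
  have := @Cfsg.LineSystem.IsNondegenerate.eq_1.{0}
  have := @Cfsg.LineSystem.IsNondegenerate.eq_def.{0}
  have := @Cfsg.LineSystem.IsPartialLinear.eq_1.{0}
  have := @Cfsg.LineSystem.IsPartialLinear.eq_def.{0}
  have := @Cfsg.LineSystem.IsSubspace.eq_1.{0}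
  have := @Cfsg.LineSystem.IsSubspace.eq_def.{0}
  have := @Cfsg.LineSystem.Isomorphic.eq_1.{0,0}
  have := @Cfsg.LineSystem.Isomorphic.eq_def.{0,0}
  have := @Cfsg.LineSystem.lineMap.eq_1.{0}
  have := @Cfsg.LineSystem.lineMap.eq_def.{0}
  have := @Cfsg.LineSystem.restrict.eq_1.{0}
  have := @Cfsg.LineSystem.restrict.eq_def.{0}
  have := @Cfsg.LineSystem.span.eq_1.{0}
  have := @Cfsg.LineSystem.span.eq_def.{0}
  have := @Cfsg.LpAll.eq_1.{0}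
  have := @Cfsg.LpAll.eq_def.{0}
  have := @Cfsg.LpExists.eq_1.{0}
  have := @Cfsg.LpExists.eq_def.{0}
  have := @Cfsg.LpoAll.eq_1.{0}
  have := @Cfsg.LpoAll.eq_def.{0}
  have := @Cfsg.LpoExists.eq_1.{0}
  have := @Cfsg.LpoExists.eq_def.{0}
  have := @Cfsg.M24.eq_1
  trivial

theorem touch76 : True := by
  have := @Cfsg.M24.eq_def
  have := @Cfsg.MemLocalIdeal.eq_1
  have := @Cfsg.MemLocalIdeal.eq_def
  have := @Cfsg.MemLocalRing.eq_1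
  have := @Cfsg.MemLocalRing.eq_def
  have := @Cfsg.NearField.casesOn.eq_1.{0,0}
  have := @Cfsg.NearField.casesOn.eq_def.{0,0}
  have := @Cfsg.NearField.ctorIdx.eq_1.{0}
  have := @Cfsg.NearField.ctorIdx.eq_def.{0}
  have := @Cfsg.NearField.mk.noConfusion.eq_1.{0,0}
  have := @Cfsg.NearField.mk.noConfusion.eq_def.{0,0}
  have := @Cfsg.NearField.noConfusion.eq_1.{0,0}
  have := @Cfsg.NearField.noConfusion.eq_def.{0,0}
  have := @Cfsg.NearField.noConfusionType.eq_1.{0,0}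
  have := @Cfsg.NearField.noConfusionType.eq_def.{0,0}
  have := @Cfsg.NearField.recOn.eq_1.{0,0}
  have := @Cfsg.NearField.recOn.eq_def.{0,0}
  have := @Cfsg.NearField.toAddGroup.eq_1.{0}
  have := @Cfsg.NearField.toAddGroup.eq_def.{0}
  have := @Cfsg.NearField.toMonoid.eq_1.{0}
  have := @Cfsg.NearField.toMonoid.eq_def.{0}
  have := @Cfsg.NormalSubpairRel.eq_1.{0}
  have := @Cfsg.NormalSubpairRel.eq_def.{0}
  have := @Cfsg.OddAdj.eq_1.{0}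
  have := @Cfsg.OddAdj.eq_def.{0}
  have := @Cfsg.OddTwoLocalRankLE.eq_1.{0}
  have := @Cfsg.OddTwoLocalRankLE.eq_def.{0}
  have := @Cfsg.Omega.eq_1.{0}
  have := @Cfsg.Omega.eq_def.{0}
  have := @Cfsg.Out.eq_1.{0}
  have := @Cfsg.Out.eq_def.{0}
  have := @Cfsg.PGO.eq_1.{0}
  have := @Cfsg.PGO.eq_def.{0}
  have := @Cfsg.PGSp.eq_1.{0}
  have := @Cfsg.PGSp.eq_def.{0}
  have := @Cfsg.PGU.eq_1.{0}
  have := @Cfsg.PGU.eq_def.{0}
  have := @Cfsg.PLengthLE.eq_1.{0}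
  have := @Cfsg.PLengthLE.eq_def.{0}
  have := @Cfsg.PO.eq_1.{0}
  trivial

theorem touch77 : True := by
  have := @Cfsg.PO.eq_def.{0}
  have := @Cfsg.POmega.eq_1.{0}
  have := @Cfsg.POmega.eq_def.{0}
  have := @Cfsg.PRankAtLeast.eq_1.{0}
  have := @Cfsg.PRankAtLeast.eq_def.{0}
  have := @Cfsg.PRankLE.eq_1.{0}
  have := @Cfsg.PRankLE.eq_def.{0}
  have := @Cfsg.PSO.eq_1.{0}
  have := @Cfsg.PSO.eq_def.{0}
  have := @Cfsg.PSU.eq_1.{0}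
  have := @Cfsg.PSU.eq_def.{0}
  have := @Cfsg.PSp.eq_1.{0}
  have := @Cfsg.PSp.eq_def.{0}
  have := @Cfsg.PreservesSingularClasses.eq_1.{0}
  have := @Cfsg.PreservesSingularClasses.eq_def.{0}
  have := @Cfsg.PreservesSingularClassesMinus.eq_1.{0}
  have := @Cfsg.PreservesSingularClassesMinus.eq_def.{0}
  have := @Cfsg.PreuniquenessHypothesis.eq_1.{0}
  have := @Cfsg.PreuniquenessHypothesis.eq_def.{0}
  have := @Cfsg.ProdAdj.eq_1.{0}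
  have := @Cfsg.ProdAdj.eq_def.{0}
  have := @Cfsg.QuadParamLE.eq_1.{0}
  have := @Cfsg.QuadParamLE.eq_def.{0}
  have := @Cfsg.RankLE.eq_1.{0}
  have := @Cfsg.RankLE.eq_def.{0}
  have := @Cfsg.RankOneCondition.eq_1.{0}
  have := @Cfsg.RankOneCondition.eq_def.{0}
  have := @Cfsg.RootCommutatorCase.eq_1.{0}
  have := @Cfsg.RootCommutatorCase.eq_def.{0}
  have := @Cfsg.SU.eq_1.{0}
  have := @Cfsg.SU.eq_def.{0}
  have := @Cfsg.SameBlock.eq_1.{0}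
  have := @Cfsg.SameBlock.eq_def.{0}
  have := @Cfsg.SameCentralizerInvolutionPattern.eq_1.{0,0}
  have := @Cfsg.SameCentralizerInvolutionPattern.eq_def.{0,0}
  have := @Cfsg.SameInvolutionFusionPattern.eq_1.{0,0}
  have := @Cfsg.SameInvolutionFusionPattern.eq_def.{0,0}
  have := @Cfsg.SameParityClass.eq_1.{0}
  have := @Cfsg.SameParityClass.eq_def.{0}
  have := @Cfsg.SectionalPRankLE.eq_1.{0}
  trivial

theorem touch78 : True := by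
  have := @Cfsg.SectionalPRankLE.eq_def.{0}
  have := @Cfsg.SetSystemIso.eq_1.{0,0}
  have := @Cfsg.SetSystemIso.eq_def.{0,0}
  have := @Cfsg.Splits.eq_1.{0}
  have := @Cfsg.Splits.eq_def.{0}
  have := @Cfsg.SplitsType.eq_1
  have := @Cfsg.SplitsType.eq_def
  have := @Cfsg.Spor.BabyMonster.Gen.casesOn.eq_1.{0}
  have := @Cfsg.Spor.BabyMonster.Gen.casesOn.eq_def.{0}
  have := @Cfsg.Spor.BabyMonster.Gen.ctorElim.eq_1.{0}
  have := @Cfsg.Spor.BabyMonster.Gen.ctorElim.eq_def.{0}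
  have := @Cfsg.Spor.BabyMonster.Gen.ctorElimType.eq_1.{0}
  have := @Cfsg.Spor.BabyMonster.Gen.ctorElimType.eq_def.{0}
  have := @Cfsg.Spor.BabyMonster.Gen.ctorIdx.eq_1
  have := @Cfsg.Spor.BabyMonster.Gen.ctorIdx.eq_def
  have := @Cfsg.Spor.BabyMonster.Gen.noConfusion.eq_1.{0}
  have := @Cfsg.Spor.BabyMonster.Gen.noConfusion.eq_def.{0}
  have := @Cfsg.Spor.BabyMonster.Gen.noConfusionType.eq_1.{0}
  have := @Cfsg.Spor.BabyMonster.Gen.noConfusionType.eq_def.{0}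
  have := @Cfsg.Spor.BabyMonster.Gen.ofNat.eq_1
  have := @Cfsg.Spor.BabyMonster.Gen.ofNat.eq_def
  have := @Cfsg.Spor.BabyMonster.Gen.recOn.eq_1.{0}
  have := @Cfsg.Spor.BabyMonster.Gen.recOn.eq_def.{0}
  have := @Cfsg.Spor.BabyMonster.Gen.t1.elim.eq_1.{0}
  have := @Cfsg.Spor.BabyMonster.Gen.t1.elim.eq_def.{0}
  have := @Cfsg.Spor.BabyMonster.Gen.t10.elim.eq_1.{0}
  have := @Cfsg.Spor.BabyMonster.Gen.t10.elim.eq_def.{0}
  have := @Cfsg.Spor.BabyMonster.Gen.t11.elim.eq_1.{0}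
  have := @Cfsg.Spor.BabyMonster.Gen.t11.elim.eq_def.{0}
  have := @Cfsg.Spor.BabyMonster.Gen.t2.elim.eq_1.{0}
  have := @Cfsg.Spor.BabyMonster.Gen.t2.elim.eq_def.{0}
  have := @Cfsg.Spor.BabyMonster.Gen.t3.elim.eq_1.{0}
  have := @Cfsg.Spor.BabyMonster.Gen.t3.elim.eq_def.{0}
  have := @Cfsg.Spor.BabyMonster.Gen.t4.elim.eq_1.{0}
  have := @Cfsg.Spor.BabyMonster.Gen.t4.elim.eq_def.{0}
  have := @Cfsg.Spor.BabyMonster.Gen.t5.elim.eq_1.{0}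
  have := @Cfsg.Spor.BabyMonster.Gen.t5.elim.eq_def.{0}
  have := @Cfsg.Spor.BabyMonster.Gen.t6.elim.eq_1.{0}
  have := @Cfsg.Spor.BabyMonster.Gen.t6.elim.eq_def.{0}
  have := @Cfsg.Spor.BabyMonster.Gen.t7.elim.eq_1.{0}
  trivial

theorem touch79 : True := by
  have := @Cfsg.Spor.BabyMonster.Gen.t7.elim.eq_def.{0}
  have := @Cfsg.Spor.BabyMonster.Gen.t8.elim.eq_1.{0}
  have := @Cfsg.Spor.BabyMonster.Gen.t8.elim.eq_def.{0}
  have := @Cfsg.Spor.BabyMonster.Gen.t9.elim.eq_1.{0}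
  have := @Cfsg.Spor.BabyMonster.Gen.t9.elim.eq_def.{0}
  have := @Cfsg.Spor.BabyMonster.Gen.toCtorIdx.eq_1
  have := @Cfsg.Spor.BabyMonster.Gen.toCtorIdx.eq_def
  have := @Cfsg.Spor.BabyMonster.edges.eq_1
  have := @Cfsg.Spor.BabyMonster.edges.eq_def
  have := @Cfsg.Spor.BabyMonster.eq_1
  have := @Cfsg.Spor.BabyMonster.eq_def
  have := @Cfsg.Spor.BabyMonster.extra.eq_1
  have := @Cfsg.Spor.BabyMonster.extra.eq_def
  have := @Cfsg.Spor.BabyMonster.instDecidableEqGen.eq_1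
  have := @Cfsg.Spor.BabyMonster.instDecidableEqGen.eq_def
  have := @Cfsg.Spor.BabyMonster.t1.eq_1
  have := @Cfsg.Spor.BabyMonster.t1.eq_def
  have := @Cfsg.Spor.BabyMonster.t10.eq_1
  have := @Cfsg.Spor.BabyMonster.t10.eq_def
  have := @Cfsg.Spor.BabyMonster.t11.eq_1
  have := @Cfsg.Spor.BabyMonster.t11.eq_def
  have := @Cfsg.Spor.BabyMonster.t2.eq_1
  have := @Cfsg.Spor.BabyMonster.t2.eq_def
  have := @Cfsg.Spor.BabyMonster.t3.eq_1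
  have := @Cfsg.Spor.BabyMonster.t3.eq_def
  have := @Cfsg.Spor.BabyMonster.t4.eq_1
  have := @Cfsg.Spor.BabyMonster.t4.eq_def
  have := @Cfsg.Spor.BabyMonster.t5.eq_1
  have := @Cfsg.Spor.BabyMonster.t5.eq_def
  have := @Cfsg.Spor.BabyMonster.t6.eq_1
  have := @Cfsg.Spor.BabyMonster.t6.eq_def
  have := @Cfsg.Spor.BabyMonster.t7.eq_1
  have := @Cfsg.Spor.BabyMonster.t7.eq_def
  have := @Cfsg.Spor.BabyMonster.t8.eq_1
  have := @Cfsg.Spor.BabyMonster.t8.eq_def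
  have := @Cfsg.Spor.BabyMonster.t9.eq_1
  have := @Cfsg.Spor.BabyMonster.t9.eq_def
  have := @Cfsg.Spor.Bimonster.Gen.a.elim.eq_1.{0}
  have := @Cfsg.Spor.Bimonster.Gen.a.elim.eq_def.{0}
  have := @Cfsg.Spor.Bimonster.Gen.b1.elim.eq_1.{0}
  trivial

theorem touch80 : True := by
  have := @Cfsg.Spor.Bimonster.Gen.b1.elim.eq_def.{0}
  have := @Cfsg.Spor.Bimonster.Gen.b2.elim.eq_1.{0}
  have := @Cfsg.Spor.Bimonster.Gen.b2.elim.eq_def.{0}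
  have := @Cfsg.Spor.Bimonster.Gen.b3.elim.eq_1.{0}
  have := @Cfsg.Spor.Bimonster.Gen.b3.elim.eq_def.{0}
  have := @Cfsg.Spor.Bimonster.Gen.c1.elim.eq_1.{0}
  have := @Cfsg.Spor.Bimonster.Gen.c1.elim.eq_def.{0}
  have := @Cfsg.Spor.Bimonster.Gen.c2.elim.eq_1.{0}
  have := @Cfsg.Spor.Bimonster.Gen.c2.elim.eq_def.{0}
  have := @Cfsg.Spor.Bimonster.Gen.c3.elim.eq_1.{0}
  have := @Cfsg.Spor.Bimonster.Gen.c3.elim.eq_def.{0}
  have := @Cfsg.Spor.Bimonster.Gen.casesOn.eq_1.{0}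
  have := @Cfsg.Spor.Bimonster.Gen.casesOn.eq_def.{0}
  have := @Cfsg.Spor.Bimonster.Gen.ctorElim.eq_1.{0}
  have := @Cfsg.Spor.Bimonster.Gen.ctorElim.eq_def.{0}
  have := @Cfsg.Spor.Bimonster.Gen.ctorElimType.eq_1.{0}
  have := @Cfsg.Spor.Bimonster.Gen.ctorElimType.eq_def.{0}
  have := @Cfsg.Spor.Bimonster.Gen.ctorIdx.eq_1
  have := @Cfsg.Spor.Bimonster.Gen.ctorIdx.eq_def
  have := @Cfsg.Spor.Bimonster.Gen.d1.elim.eq_1.{0}
  have := @Cfsg.Spor.Bimonster.Gen.d1.elim.eq_def.{0}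
  have := @Cfsg.Spor.Bimonster.Gen.d2.elim.eq_1.{0}
  have := @Cfsg.Spor.Bimonster.Gen.d2.elim.eq_def.{0}
  have := @Cfsg.Spor.Bimonster.Gen.d3.elim.eq_1.{0}
  have := @Cfsg.Spor.Bimonster.Gen.d3.elim.eq_def.{0}
  have := @Cfsg.Spor.Bimonster.Gen.e1.elim.eq_1.{0}
  have := @Cfsg.Spor.Bimonster.Gen.e1.elim.eq_def.{0}
  have := @Cfsg.Spor.Bimonster.Gen.e2.elim.eq_1.{0}
  have := @Cfsg.Spor.Bimonster.Gen.e2.elim.eq_def.{0}
  have := @Cfsg.Spor.Bimonster.Gen.e3.elim.eq_1.{0}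
  have := @Cfsg.Spor.Bimonster.Gen.e3.elim.eq_def.{0}
  have := @Cfsg.Spor.Bimonster.Gen.f1.elim.eq_1.{0}
  have := @Cfsg.Spor.Bimonster.Gen.f1.elim.eq_def.{0}
  have := @Cfsg.Spor.Bimonster.Gen.f2.elim.eq_1.{0}
  have := @Cfsg.Spor.Bimonster.Gen.f2.elim.eq_def.{0}
  have := @Cfsg.Spor.Bimonster.Gen.f3.elim.eq_1.{0}
  have := @Cfsg.Spor.Bimonster.Gen.f3.elim.eq_def.{0}
  have := @Cfsg.Spor.Bimonster.Gen.noConfusion.eq_1.{0}
  have := @Cfsg.Spor.Bimonster.Gen.noConfusion.eq_def.{0}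
  have := @Cfsg.Spor.Bimonster.Gen.noConfusionType.eq_1.{0}
  trivial

theorem touch81 : True := by
  have := @Cfsg.Spor.Bimonster.Gen.noConfusionType.eq_def.{0}
  have := @Cfsg.Spor.Bimonster.Gen.ofNat.eq_1
  have := @Cfsg.Spor.Bimonster.Gen.ofNat.eq_def
  have := @Cfsg.Spor.Bimonster.Gen.recOn.eq_1.{0}
  have := @Cfsg.Spor.Bimonster.Gen.recOn.eq_def.{0}
  have := @Cfsg.Spor.Bimonster.Gen.toCtorIdx.eq_1
  have := @Cfsg.Spor.Bimonster.Gen.toCtorIdx.eq_def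
  have := @Cfsg.Spor.Bimonster.a.eq_1
  have := @Cfsg.Spor.Bimonster.a.eq_def
  have := @Cfsg.Spor.Bimonster.b1.eq_1
  have := @Cfsg.Spor.Bimonster.b1.eq_def
  have := @Cfsg.Spor.Bimonster.b2.eq_1
  have := @Cfsg.Spor.Bimonster.b2.eq_def
  have := @Cfsg.Spor.Bimonster.b3.eq_1
  have := @Cfsg.Spor.Bimonster.b3.eq_def
  have := @Cfsg.Spor.Bimonster.c1.eq_1
  have := @Cfsg.Spor.Bimonster.c1.eq_def
  have := @Cfsg.Spor.Bimonster.c2.eq_1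
  have := @Cfsg.Spor.Bimonster.c2.eq_def
  have := @Cfsg.Spor.Bimonster.c3.eq_1
  have := @Cfsg.Spor.Bimonster.c3.eq_def
  have := @Cfsg.Spor.Bimonster.d1.eq_1
  have := @Cfsg.Spor.Bimonster.d1.eq_def
  have := @Cfsg.Spor.Bimonster.d2.eq_1
  have := @Cfsg.Spor.Bimonster.d2.eq_def
  have := @Cfsg.Spor.Bimonster.d3.eq_1
  have := @Cfsg.Spor.Bimonster.d3.eq_def
  have := @Cfsg.Spor.Bimonster.e1.eq_1
  have := @Cfsg.Spor.Bimonster.e1.eq_def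
  have := @Cfsg.Spor.Bimonster.e2.eq_1
  have := @Cfsg.Spor.Bimonster.e2.eq_def
  have := @Cfsg.Spor.Bimonster.e3.eq_1
  have := @Cfsg.Spor.Bimonster.e3.eq_def
  have := @Cfsg.Spor.Bimonster.edges.eq_1
  have := @Cfsg.Spor.Bimonster.edges.eq_def
  have := @Cfsg.Spor.Bimonster.eq_1
  have := @Cfsg.Spor.Bimonster.eq_def
  have := @Cfsg.Spor.Bimonster.extra.eq_1
  have := @Cfsg.Spor.Bimonster.extra.eq_def
  have := @Cfsg.Spor.Bimonster.f1.eq_1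
  trivial

theorem touch82 : True := by
  have := @Cfsg.Spor.Bimonster.f1.eq_def
  have := @Cfsg.Spor.Bimonster.f2.eq_1
  have := @Cfsg.Spor.Bimonster.f2.eq_def
  have := @Cfsg.Spor.Bimonster.f3.eq_1
  have := @Cfsg.Spor.Bimonster.f3.eq_def
  have := @Cfsg.Spor.Bimonster.instDecidableEqGen.eq_1
  have := @Cfsg.Spor.Bimonster.instDecidableEqGen.eq_def
  have := @Cfsg.Spor.Co1.eq_1
  have := @Cfsg.Spor.Co1.eq_def
  have := @Cfsg.Spor.Co2.eq_1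
  have := @Cfsg.Spor.Co2.eq_def
  have := @Cfsg.Spor.Co3.eq_1
  have := @Cfsg.Spor.Co3.eq_def
  have := @Cfsg.Spor.CoxPresented.eq_1.{0}
  have := @Cfsg.Spor.CoxPresented.eq_def.{0}
  have := @Cfsg.Spor.F9.I.eq_1
  have := @Cfsg.Spor.F9.I.eq_def
  have := @Cfsg.Spor.F9.div.eq_1
  have := @Cfsg.Spor.F9.div.eq_def
  have := @Cfsg.Spor.F9.eq_1
  have := @Cfsg.Spor.F9.eq_def
  have := @Cfsg.Spor.F9.inv.eq_1
  have := @Cfsg.Spor.F9.inv.eq_def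
  have := @Cfsg.Spor.F9.mul.eq_1
  have := @Cfsg.Spor.F9.mul.eq_def
  have := @Cfsg.Spor.F9.one.eq_1
  have := @Cfsg.Spor.F9.one.eq_def
  have := @Cfsg.Spor.Fi22.Gen.a.elim.eq_1.{0}
  have := @Cfsg.Spor.Fi22.Gen.a.elim.eq_def.{0}
  have := @Cfsg.Spor.Fi22.Gen.b.elim.eq_1.{0}
  have := @Cfsg.Spor.Fi22.Gen.b.elim.eq_def.{0}
  have := @Cfsg.Spor.Fi22.Gen.c.elim.eq_1.{0}
  have := @Cfsg.Spor.Fi22.Gen.c.elim.eq_def.{0}
  have := @Cfsg.Spor.Fi22.Gen.casesOn.eq_1.{0}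
  have := @Cfsg.Spor.Fi22.Gen.casesOn.eq_def.{0}
  have := @Cfsg.Spor.Fi22.Gen.ctorElim.eq_1.{0}
  have := @Cfsg.Spor.Fi22.Gen.ctorElim.eq_def.{0}
  have := @Cfsg.Spor.Fi22.Gen.ctorElimType.eq_1.{0}
  have := @Cfsg.Spor.Fi22.Gen.ctorElimType.eq_def.{0}
  have := @Cfsg.Spor.Fi22.Gen.ctorIdx.eq_1
  trivial

theorem touch83 : True := by
  have := @Cfsg.Spor.Fi22.Gen.ctorIdx.eq_def
  have := @Cfsg.Spor.Fi22.Gen.d.elim.eq_1.{0}
  have := @Cfsg.Spor.Fi22.Gen.d.elim.eq_def.{0}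
  have := @Cfsg.Spor.Fi22.Gen.e.elim.eq_1.{0}
  have := @Cfsg.Spor.Fi22.Gen.e.elim.eq_def.{0}
  have := @Cfsg.Spor.Fi22.Gen.f.elim.eq_1.{0}
  have := @Cfsg.Spor.Fi22.Gen.f.elim.eq_def.{0}
  have := @Cfsg.Spor.Fi22.Gen.g.elim.eq_1.{0}
  have := @Cfsg.Spor.Fi22.Gen.g.elim.eq_def.{0}
  have := @Cfsg.Spor.Fi22.Gen.h.elim.eq_1.{0}
  have := @Cfsg.Spor.Fi22.Gen.h.elim.eq_def.{0}
  have := @Cfsg.Spor.Fi22.Gen.i.elim.eq_1.{0}
  have := @Cfsg.Spor.Fi22.Gen.i.elim.eq_def.{0}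
  have := @Cfsg.Spor.Fi22.Gen.noConfusion.eq_1.{0}
  have := @Cfsg.Spor.Fi22.Gen.noConfusion.eq_def.{0}
  have := @Cfsg.Spor.Fi22.Gen.noConfusionType.eq_1.{0}
  have := @Cfsg.Spor.Fi22.Gen.noConfusionType.eq_def.{0}
  have := @Cfsg.Spor.Fi22.Gen.ofNat.eq_1
  have := @Cfsg.Spor.Fi22.Gen.ofNat.eq_def
  have := @Cfsg.Spor.Fi22.Gen.recOn.eq_1.{0}
  have := @Cfsg.Spor.Fi22.Gen.recOn.eq_def.{0}
  have := @Cfsg.Spor.Fi22.Gen.toCtorIdx.eq_1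
  have := @Cfsg.Spor.Fi22.Gen.toCtorIdx.eq_def
  have := @Cfsg.Spor.Fi22.a.eq_1
  have := @Cfsg.Spor.Fi22.a.eq_def
  have := @Cfsg.Spor.Fi22.b.eq_1
  have := @Cfsg.Spor.Fi22.b.eq_def
  have := @Cfsg.Spor.Fi22.c.eq_1
  have := @Cfsg.Spor.Fi22.c.eq_def
  have := @Cfsg.Spor.Fi22.d.eq_1
  have := @Cfsg.Spor.Fi22.d.eq_def
  have := @Cfsg.Spor.Fi22.e.eq_1
  have := @Cfsg.Spor.Fi22.e.eq_def
  have := @Cfsg.Spor.Fi22.edges.eq_1
  have := @Cfsg.Spor.Fi22.edges.eq_def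
  have := @Cfsg.Spor.Fi22.eq_1
  have := @Cfsg.Spor.Fi22.eq_def
  have := @Cfsg.Spor.Fi22.extra.eq_1
  have := @Cfsg.Spor.Fi22.extra.eq_def
  have := @Cfsg.Spor.Fi22.f.eq_1
  trivial

theorem touch84 : True := by
  have := @Cfsg.Spor.Fi22.f.eq_def
  have := @Cfsg.Spor.Fi22.g.eq_1
  have := @Cfsg.Spor.Fi22.g.eq_def
  have := @Cfsg.Spor.Fi22.h.eq_1
  have := @Cfsg.Spor.Fi22.h.eq_def
  have := @Cfsg.Spor.Fi22.i.eq_1
  have := @Cfsg.Spor.Fi22.i.eq_def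
  have := @Cfsg.Spor.Fi22.instDecidableEqGen.eq_1
  have := @Cfsg.Spor.Fi22.instDecidableEqGen.eq_def
  have := @Cfsg.Spor.Fi23.Gen.a.elim.eq_1.{0}
  have := @Cfsg.Spor.Fi23.Gen.a.elim.eq_def.{0}
  have := @Cfsg.Spor.Fi23.Gen.b.elim.eq_1.{0}
  have := @Cfsg.Spor.Fi23.Gen.b.elim.eq_def.{0}
  have := @Cfsg.Spor.Fi23.Gen.c.elim.eq_1.{0}
  have := @Cfsg.Spor.Fi23.Gen.c.elim.eq_def.{0}
  have := @Cfsg.Spor.Fi23.Gen.casesOn.eq_1.{0}
  have := @Cfsg.Spor.Fi23.Gen.casesOn.eq_def.{0}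
  have := @Cfsg.Spor.Fi23.Gen.ctorElim.eq_1.{0}
  have := @Cfsg.Spor.Fi23.Gen.ctorElim.eq_def.{0}
  have := @Cfsg.Spor.Fi23.Gen.ctorElimType.eq_1.{0}
  have := @Cfsg.Spor.Fi23.Gen.ctorElimType.eq_def.{0}
  have := @Cfsg.Spor.Fi23.Gen.ctorIdx.eq_1
  have := @Cfsg.Spor.Fi23.Gen.ctorIdx.eq_def
  have := @Cfsg.Spor.Fi23.Gen.d.elim.eq_1.{0}
  have := @Cfsg.Spor.Fi23.Gen.d.elim.eq_def.{0}
  have := @Cfsg.Spor.Fi23.Gen.e.elim.eq_1.{0}
  have := @Cfsg.Spor.Fi23.Gen.e.elim.eq_def.{0}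
  have := @Cfsg.Spor.Fi23.Gen.f.elim.eq_1.{0}
  have := @Cfsg.Spor.Fi23.Gen.f.elim.eq_def.{0}
  have := @Cfsg.Spor.Fi23.Gen.g.elim.eq_1.{0}
  have := @Cfsg.Spor.Fi23.Gen.g.elim.eq_def.{0}
  have := @Cfsg.Spor.Fi23.Gen.h.elim.eq_1.{0}
  have := @Cfsg.Spor.Fi23.Gen.h.elim.eq_def.{0}
  have := @Cfsg.Spor.Fi23.Gen.i.elim.eq_1.{0}
  have := @Cfsg.Spor.Fi23.Gen.i.elim.eq_def.{0}
  have := @Cfsg.Spor.Fi23.Gen.j.elim.eq_1.{0}
  have := @Cfsg.Spor.Fi23.Gen.j.elim.eq_def.{0}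
  have := @Cfsg.Spor.Fi23.Gen.noConfusion.eq_1.{0}
  have := @Cfsg.Spor.Fi23.Gen.noConfusion.eq_def.{0}
  have := @Cfsg.Spor.Fi23.Gen.noConfusionType.eq_1.{0}
  trivial

theorem touch85 : True := by
  have := @Cfsg.Spor.Fi23.Gen.noConfusionType.eq_def.{0}
  have := @Cfsg.Spor.Fi23.Gen.ofNat.eq_1
  have := @Cfsg.Spor.Fi23.Gen.ofNat.eq_def
  have := @Cfsg.Spor.Fi23.Gen.recOn.eq_1.{0}
  have := @Cfsg.Spor.Fi23.Gen.recOn.eq_def.{0}
  have := @Cfsg.Spor.Fi23.Gen.toCtorIdx.eq_1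
  have := @Cfsg.Spor.Fi23.Gen.toCtorIdx.eq_def
  have := @Cfsg.Spor.Fi23.a.eq_1
  have := @Cfsg.Spor.Fi23.a.eq_def
  have := @Cfsg.Spor.Fi23.b.eq_1
  have := @Cfsg.Spor.Fi23.b.eq_def
  have := @Cfsg.Spor.Fi23.c.eq_1
  have := @Cfsg.Spor.Fi23.c.eq_def
  have := @Cfsg.Spor.Fi23.d.eq_1
  have := @Cfsg.Spor.Fi23.d.eq_def
  have := @Cfsg.Spor.Fi23.e.eq_1
  have := @Cfsg.Spor.Fi23.e.eq_def
  have := @Cfsg.Spor.Fi23.edges.eq_1
  have := @Cfsg.Spor.Fi23.edges.eq_def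
  have := @Cfsg.Spor.Fi23.eq_1
  have := @Cfsg.Spor.Fi23.eq_def
  have := @Cfsg.Spor.Fi23.extra.eq_1
  have := @Cfsg.Spor.Fi23.extra.eq_def
  have := @Cfsg.Spor.Fi23.f.eq_1
  have := @Cfsg.Spor.Fi23.f.eq_def
  have := @Cfsg.Spor.Fi23.g.eq_1
  have := @Cfsg.Spor.Fi23.g.eq_def
  have := @Cfsg.Spor.Fi23.h.eq_1
  have := @Cfsg.Spor.Fi23.h.eq_def
  have := @Cfsg.Spor.Fi23.i.eq_1
  have := @Cfsg.Spor.Fi23.i.eq_def
  have := @Cfsg.Spor.Fi23.instDecidableEqGen.eq_1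
  have := @Cfsg.Spor.Fi23.instDecidableEqGen.eq_def
  have := @Cfsg.Spor.Fi23.j.eq_1
  have := @Cfsg.Spor.Fi23.j.eq_def
  have := @Cfsg.Spor.Fi24'.eq_1
  have := @Cfsg.Spor.Fi24'.eq_def
  have := @Cfsg.Spor.Fi24.Gen.a.elim.eq_1.{0}
  have := @Cfsg.Spor.Fi24.Gen.a.elim.eq_def.{0}
  have := @Cfsg.Spor.Fi24.Gen.b.elim.eq_1.{0}
  trivial

theorem touch86 : True := by
  have := @Cfsg.Spor.Fi24.Gen.b.elim.eq_def.{0}
  have := @Cfsg.Spor.Fi24.Gen.c.elim.eq_1.{0}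
  have := @Cfsg.Spor.Fi24.Gen.c.elim.eq_def.{0}
  have := @Cfsg.Spor.Fi24.Gen.casesOn.eq_1.{0}
  have := @Cfsg.Spor.Fi24.Gen.casesOn.eq_def.{0}
  have := @Cfsg.Spor.Fi24.Gen.ctorElim.eq_1.{0}
  have := @Cfsg.Spor.Fi24.Gen.ctorElim.eq_def.{0}
  have := @Cfsg.Spor.Fi24.Gen.ctorElimType.eq_1.{0}
  have := @Cfsg.Spor.Fi24.Gen.ctorElimType.eq_def.{0}
  have := @Cfsg.Spor.Fi24.Gen.ctorIdx.eq_1
  have := @Cfsg.Spor.Fi24.Gen.ctorIdx.eq_def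
  have := @Cfsg.Spor.Fi24.Gen.d.elim.eq_1.{0}
  have := @Cfsg.Spor.Fi24.Gen.d.elim.eq_def.{0}
  have := @Cfsg.Spor.Fi24.Gen.e.elim.eq_1.{0}
  have := @Cfsg.Spor.Fi24.Gen.e.elim.eq_def.{0}
  have := @Cfsg.Spor.Fi24.Gen.f.elim.eq_1.{0}
  have := @Cfsg.Spor.Fi24.Gen.f.elim.eq_def.{0}
  have := @Cfsg.Spor.Fi24.Gen.g.elim.eq_1.{0}
  have := @Cfsg.Spor.Fi24.Gen.g.elim.eq_def.{0}
  have := @Cfsg.Spor.Fi24.Gen.h.elim.eq_1.{0}
  have := @Cfsg.Spor.Fi24.Gen.h.elim.eq_def.{0}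
  have := @Cfsg.Spor.Fi24.Gen.i.elim.eq_1.{0}
  have := @Cfsg.Spor.Fi24.Gen.i.elim.eq_def.{0}
  have := @Cfsg.Spor.Fi24.Gen.j.elim.eq_1.{0}
  have := @Cfsg.Spor.Fi24.Gen.j.elim.eq_def.{0}
  have := @Cfsg.Spor.Fi24.Gen.k.elim.eq_1.{0}
  have := @Cfsg.Spor.Fi24.Gen.k.elim.eq_def.{0}
  have := @Cfsg.Spor.Fi24.Gen.l.elim.eq_1.{0}
  have := @Cfsg.Spor.Fi24.Gen.l.elim.eq_def.{0}
  have := @Cfsg.Spor.Fi24.Gen.noConfusion.eq_1.{0}
  have := @Cfsg.Spor.Fi24.Gen.noConfusion.eq_def.{0}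
  have := @Cfsg.Spor.Fi24.Gen.noConfusionType.eq_1.{0}
  have := @Cfsg.Spor.Fi24.Gen.noConfusionType.eq_def.{0}
  have := @Cfsg.Spor.Fi24.Gen.ofNat.eq_1
  have := @Cfsg.Spor.Fi24.Gen.ofNat.eq_def
  have := @Cfsg.Spor.Fi24.Gen.recOn.eq_1.{0}
  have := @Cfsg.Spor.Fi24.Gen.recOn.eq_def.{0}
  have := @Cfsg.Spor.Fi24.Gen.toCtorIdx.eq_1
  have := @Cfsg.Spor.Fi24.Gen.toCtorIdx.eq_def
  have := @Cfsg.Spor.Fi24.a.eq_1
  trivial

theorem touch87 : True := by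
  have := @Cfsg.Spor.Fi24.a.eq_def
  have := @Cfsg.Spor.Fi24.b.eq_1
  have := @Cfsg.Spor.Fi24.b.eq_def
  have := @Cfsg.Spor.Fi24.c.eq_1
  have := @Cfsg.Spor.Fi24.c.eq_def
  have := @Cfsg.Spor.Fi24.d.eq_1
  have := @Cfsg.Spor.Fi24.d.eq_def
  have := @Cfsg.Spor.Fi24.e.eq_1
  have := @Cfsg.Spor.Fi24.e.eq_def
  have := @Cfsg.Spor.Fi24.edges.eq_1
  have := @Cfsg.Spor.Fi24.edges.eq_def
  have := @Cfsg.Spor.Fi24.eq_1
  have := @Cfsg.Spor.Fi24.eq_def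
  have := @Cfsg.Spor.Fi24.extra.eq_1
  have := @Cfsg.Spor.Fi24.extra.eq_def
  have := @Cfsg.Spor.Fi24.f.eq_1
  have := @Cfsg.Spor.Fi24.f.eq_def
  have := @Cfsg.Spor.Fi24.g.eq_1
  have := @Cfsg.Spor.Fi24.g.eq_def
  have := @Cfsg.Spor.Fi24.h.eq_1
  have := @Cfsg.Spor.Fi24.h.eq_def
  have := @Cfsg.Spor.Fi24.i.eq_1
  have := @Cfsg.Spor.Fi24.i.eq_def
  have := @Cfsg.Spor.Fi24.instDecidableEqGen.eq_1
  have := @Cfsg.Spor.Fi24.instDecidableEqGen.eq_def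
  have := @Cfsg.Spor.Fi24.j.eq_1
  have := @Cfsg.Spor.Fi24.j.eq_def
  have := @Cfsg.Spor.Fi24.k.eq_1
  have := @Cfsg.Spor.Fi24.k.eq_def
  have := @Cfsg.Spor.Fi24.l.eq_1
  have := @Cfsg.Spor.Fi24.l.eq_def
  have := @Cfsg.Spor.HN.Gen.casesOn.eq_1.{0}
  have := @Cfsg.Spor.HN.Gen.casesOn.eq_def.{0}
  have := @Cfsg.Spor.HN.Gen.ctorElim.eq_1.{0}
  have := @Cfsg.Spor.HN.Gen.ctorElim.eq_def.{0}
  have := @Cfsg.Spor.HN.Gen.ctorElimType.eq_1.{0}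
  have := @Cfsg.Spor.HN.Gen.ctorElimType.eq_def.{0}
  have := @Cfsg.Spor.HN.Gen.ctorIdx.eq_1
  have := @Cfsg.Spor.HN.Gen.ctorIdx.eq_def
  have := @Cfsg.Spor.HN.Gen.noConfusion.eq_1.{0}
  trivial

theorem touch88 : True := by
  have := @Cfsg.Spor.HN.Gen.noConfusion.eq_def.{0}
  have := @Cfsg.Spor.HN.Gen.noConfusionType.eq_1.{0}
  have := @Cfsg.Spor.HN.Gen.noConfusionType.eq_def.{0}
  have := @Cfsg.Spor.HN.Gen.ofNat.eq_1
  have := @Cfsg.Spor.HN.Gen.ofNat.eq_def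
  have := @Cfsg.Spor.HN.Gen.recOn.eq_1.{0}
  have := @Cfsg.Spor.HN.Gen.recOn.eq_def.{0}
  have := @Cfsg.Spor.HN.Gen.t.elim.eq_1.{0}
  have := @Cfsg.Spor.HN.Gen.t.elim.eq_def.{0}
  have := @Cfsg.Spor.HN.Gen.toCtorIdx.eq_1
  have := @Cfsg.Spor.HN.Gen.toCtorIdx.eq_def
  have := @Cfsg.Spor.HN.Gen.x.elim.eq_1.{0}
  have := @Cfsg.Spor.HN.Gen.x.elim.eq_def.{0}
  have := @Cfsg.Spor.HN.Gen.y.elim.eq_1.{0}
  have := @Cfsg.Spor.HN.Gen.y.elim.eq_def.{0}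
  have := @Cfsg.Spor.HN.Gen.z.elim.eq_1.{0}
  have := @Cfsg.Spor.HN.Gen.z.elim.eq_def.{0}
  have := @Cfsg.Spor.HN.edges.eq_1
  have := @Cfsg.Spor.HN.edges.eq_def
  have := @Cfsg.Spor.HN.eq_1
  have := @Cfsg.Spor.HN.eq_def
  have := @Cfsg.Spor.HN.extra.eq_1
  have := @Cfsg.Spor.HN.extra.eq_def
  have := @Cfsg.Spor.HN.instDecidableEqGen.eq_1
  have := @Cfsg.Spor.HN.instDecidableEqGen.eq_def
  have := @Cfsg.Spor.HN.t.eq_1
  have := @Cfsg.Spor.HN.t.eq_def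
  have := @Cfsg.Spor.HN.x.eq_1
  have := @Cfsg.Spor.HN.x.eq_def
  have := @Cfsg.Spor.HN.y.eq_1
  have := @Cfsg.Spor.HN.y.eq_def
  have := @Cfsg.Spor.HN.z.eq_1
  have := @Cfsg.Spor.HN.z.eq_def
  have := @Cfsg.Spor.HS.eq_1
  have := @Cfsg.Spor.HS.eq_def
  have := @Cfsg.Spor.He.Gen.a.elim.eq_1.{0}
  have := @Cfsg.Spor.He.Gen.a.elim.eq_def.{0}
  have := @Cfsg.Spor.He.Gen.b.elim.eq_1.{0}
  have := @Cfsg.Spor.He.Gen.b.elim.eq_def.{0}
  have := @Cfsg.Spor.He.Gen.c.elim.eq_1.{0}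
  trivial

theorem touch89 : True := by
  have := @Cfsg.Spor.He.Gen.c.elim.eq_def.{0}
  have := @Cfsg.Spor.He.Gen.casesOn.eq_1.{0}
  have := @Cfsg.Spor.He.Gen.casesOn.eq_def.{0}
  have := @Cfsg.Spor.He.Gen.ctorElim.eq_1.{0}
  have := @Cfsg.Spor.He.Gen.ctorElim.eq_def.{0}
  have := @Cfsg.Spor.He.Gen.ctorElimType.eq_1.{0}
  have := @Cfsg.Spor.He.Gen.ctorElimType.eq_def.{0}
  have := @Cfsg.Spor.He.Gen.ctorIdx.eq_1
  have := @Cfsg.Spor.He.Gen.ctorIdx.eq_def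
  have := @Cfsg.Spor.He.Gen.d.elim.eq_1.{0}
  have := @Cfsg.Spor.He.Gen.d.elim.eq_def.{0}
  have := @Cfsg.Spor.He.Gen.e.elim.eq_1.{0}
  have := @Cfsg.Spor.He.Gen.e.elim.eq_def.{0}
  have := @Cfsg.Spor.He.Gen.f.elim.eq_1.{0}
  have := @Cfsg.Spor.He.Gen.f.elim.eq_def.{0}
  have := @Cfsg.Spor.He.Gen.g.elim.eq_1.{0}
  have := @Cfsg.Spor.He.Gen.g.elim.eq_def.{0}
  have := @Cfsg.Spor.He.Gen.noConfusion.eq_1.{0}
  have := @Cfsg.Spor.He.Gen.noConfusion.eq_def.{0}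
  have := @Cfsg.Spor.He.Gen.noConfusionType.eq_1.{0}
  have := @Cfsg.Spor.He.Gen.noConfusionType.eq_def.{0}
  have := @Cfsg.Spor.He.Gen.ofNat.eq_1
  have := @Cfsg.Spor.He.Gen.ofNat.eq_def
  have := @Cfsg.Spor.He.Gen.recOn.eq_1.{0}
  have := @Cfsg.Spor.He.Gen.recOn.eq_def.{0}
  have := @Cfsg.Spor.He.Gen.toCtorIdx.eq_1
  have := @Cfsg.Spor.He.Gen.toCtorIdx.eq_def
  have := @Cfsg.Spor.He.a.eq_1
  have := @Cfsg.Spor.He.a.eq_def
  have := @Cfsg.Spor.He.b.eq_1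
  have := @Cfsg.Spor.He.b.eq_def
  have := @Cfsg.Spor.He.c.eq_1
  have := @Cfsg.Spor.He.c.eq_def
  have := @Cfsg.Spor.He.d.eq_1
  have := @Cfsg.Spor.He.d.eq_def
  have := @Cfsg.Spor.He.e.eq_1
  have := @Cfsg.Spor.He.e.eq_def
  have := @Cfsg.Spor.He.edges.eq_1
  have := @Cfsg.Spor.He.edges.eq_def
  have := @Cfsg.Spor.He.eq_1
  trivial

theorem touch90 : True := by
  have := @Cfsg.Spor.He.eq_def
  have := @Cfsg.Spor.He.extra.eq_1
  have := @Cfsg.Spor.He.extra.eq_def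
  have := @Cfsg.Spor.He.f.eq_1
  have := @Cfsg.Spor.He.f.eq_def
  have := @Cfsg.Spor.He.g.eq_1
  have := @Cfsg.Spor.He.g.eq_def
  have := @Cfsg.Spor.He.instDecidableEqGen.eq_1
  have := @Cfsg.Spor.He.instDecidableEqGen.eq_def
  have := @Cfsg.Spor.IsIcoReflection.eq_1
  have := @Cfsg.Spor.IsIcoReflection.eq_def
  have := @Cfsg.Spor.IsoB.eq_1.{0}
  have := @Cfsg.Spor.IsoB.eq_def.{0}
  have := @Cfsg.Spor.IsoCo1.eq_1.{0}
  have := @Cfsg.Spor.IsoCo1.eq_def.{0}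
  have := @Cfsg.Spor.IsoCo2.eq_1.{0}
  have := @Cfsg.Spor.IsoCo2.eq_def.{0}
  have := @Cfsg.Spor.IsoCo3.eq_1.{0}
  have := @Cfsg.Spor.IsoCo3.eq_def.{0}
  have := @Cfsg.Spor.IsoFi22.eq_1.{0}
  have := @Cfsg.Spor.IsoFi22.eq_def.{0}
  have := @Cfsg.Spor.IsoFi23.eq_1.{0}
  have := @Cfsg.Spor.IsoFi23.eq_def.{0}
  have := @Cfsg.Spor.IsoFi24'.eq_1.{0}
  have := @Cfsg.Spor.IsoFi24'.eq_def.{0}
  have := @Cfsg.Spor.IsoHN.eq_1.{0}
  have := @Cfsg.Spor.IsoHN.eq_def.{0}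
  have := @Cfsg.Spor.IsoHS.eq_1.{0}
  have := @Cfsg.Spor.IsoHS.eq_def.{0}
  have := @Cfsg.Spor.IsoHe.eq_1.{0}
  have := @Cfsg.Spor.IsoHe.eq_def.{0}
  have := @Cfsg.Spor.IsoJ1.eq_1.{0}
  have := @Cfsg.Spor.IsoJ1.eq_def.{0}
  have := @Cfsg.Spor.IsoJ2.eq_1.{0}
  have := @Cfsg.Spor.IsoJ2.eq_def.{0}
  have := @Cfsg.Spor.IsoJ3.eq_1.{0}
  have := @Cfsg.Spor.IsoJ3.eq_def.{0}
  have := @Cfsg.Spor.IsoJ4.eq_1.{0}
  have := @Cfsg.Spor.IsoJ4.eq_def.{0}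
  have := @Cfsg.Spor.IsoLy.eq_1.{0}
  trivial

theorem touch91 : True := by
  have := @Cfsg.Spor.IsoLy.eq_def.{0}
  have := @Cfsg.Spor.IsoM.eq_1.{0}
  have := @Cfsg.Spor.IsoM.eq_def.{0}
  have := @Cfsg.Spor.IsoM11.eq_1.{0}
  have := @Cfsg.Spor.IsoM11.eq_def.{0}
  have := @Cfsg.Spor.IsoM12.eq_1.{0}
  have := @Cfsg.Spor.IsoM12.eq_def.{0}
  have := @Cfsg.Spor.IsoM22.eq_1.{0}
  have := @Cfsg.Spor.IsoM22.eq_def.{0}
  have := @Cfsg.Spor.IsoM23.eq_1.{0}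
  have := @Cfsg.Spor.IsoM23.eq_def.{0}
  have := @Cfsg.Spor.IsoM24.eq_1.{0}
  have := @Cfsg.Spor.IsoM24.eq_def.{0}
  have := @Cfsg.Spor.IsoMcL.eq_1.{0}
  have := @Cfsg.Spor.IsoMcL.eq_def.{0}
  have := @Cfsg.Spor.IsoON.eq_1.{0}
  have := @Cfsg.Spor.IsoON.eq_def.{0}
  have := @Cfsg.Spor.IsoRu.eq_1.{0}
  have := @Cfsg.Spor.IsoRu.eq_def.{0}
  have := @Cfsg.Spor.IsoSuz.eq_1.{0}
  have := @Cfsg.Spor.IsoSuz.eq_def.{0}
  have := @Cfsg.Spor.IsoTh.eq_1.{0}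
  have := @Cfsg.Spor.IsoTh.eq_def.{0}
  have := @Cfsg.Spor.J1.eq_1
  have := @Cfsg.Spor.J1.eq_def
  have := @Cfsg.Spor.J2.eq_1
  have := @Cfsg.Spor.J2.eq_def
  have := @Cfsg.Spor.J3.eq_1.{0}
  have := @Cfsg.Spor.J3.eq_def.{0}
  have := @Cfsg.Spor.J4.Gen.casesOn.eq_1.{0}
  have := @Cfsg.Spor.J4.Gen.casesOn.eq_def.{0}
  have := @Cfsg.Spor.J4.Gen.ctorElim.eq_1.{0}
  have := @Cfsg.Spor.J4.Gen.ctorElim.eq_def.{0}
  have := @Cfsg.Spor.J4.Gen.ctorElimType.eq_1.{0}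
  have := @Cfsg.Spor.J4.Gen.ctorElimType.eq_def.{0}
  have := @Cfsg.Spor.J4.Gen.ctorIdx.eq_1
  have := @Cfsg.Spor.J4.Gen.ctorIdx.eq_def
  have := @Cfsg.Spor.J4.Gen.noConfusion.eq_1.{0}
  have := @Cfsg.Spor.J4.Gen.noConfusion.eq_def.{0}
  have := @Cfsg.Spor.J4.Gen.noConfusionType.eq_1.{0}
  trivial

theorem touch92 : True := by
  have := @Cfsg.Spor.J4.Gen.noConfusionType.eq_def.{0}
  have := @Cfsg.Spor.J4.Gen.ofNat.eq_1
  have := @Cfsg.Spor.J4.Gen.ofNat.eq_def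
  have := @Cfsg.Spor.J4.Gen.recOn.eq_1.{0}
  have := @Cfsg.Spor.J4.Gen.recOn.eq_def.{0}
  have := @Cfsg.Spor.J4.Gen.t.elim.eq_1.{0}
  have := @Cfsg.Spor.J4.Gen.t.elim.eq_def.{0}
  have := @Cfsg.Spor.J4.Gen.toCtorIdx.eq_1
  have := @Cfsg.Spor.J4.Gen.toCtorIdx.eq_def
  have := @Cfsg.Spor.J4.Gen.x.elim.eq_1.{0}
  have := @Cfsg.Spor.J4.Gen.x.elim.eq_def.{0}
  have := @Cfsg.Spor.J4.Gen.y.elim.eq_1.{0}
  have := @Cfsg.Spor.J4.Gen.y.elim.eq_def.{0}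
  have := @Cfsg.Spor.J4.edges.eq_1
  have := @Cfsg.Spor.J4.edges.eq_def
  have := @Cfsg.Spor.J4.eq_1
  have := @Cfsg.Spor.J4.eq_def
  have := @Cfsg.Spor.J4.extra.eq_1
  have := @Cfsg.Spor.J4.extra.eq_def
  have := @Cfsg.Spor.J4.instDecidableEqGen.eq_1
  have := @Cfsg.Spor.J4.instDecidableEqGen.eq_def
  have := @Cfsg.Spor.J4.t.eq_1
  have := @Cfsg.Spor.J4.t.eq_def
  have := @Cfsg.Spor.J4.x.eq_1
  have := @Cfsg.Spor.J4.x.eq_def
  have := @Cfsg.Spor.J4.y.eq_1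
  have := @Cfsg.Spor.J4.y.eq_def
  have := @Cfsg.Spor.Ly.Gen.a.elim.eq_1.{0}
  have := @Cfsg.Spor.Ly.Gen.a.elim.eq_def.{0}
  have := @Cfsg.Spor.Ly.Gen.a1.elim.eq_1.{0}
  have := @Cfsg.Spor.Ly.Gen.a1.elim.eq_def.{0}
  have := @Cfsg.Spor.Ly.Gen.a2.elim.eq_1.{0}
  have := @Cfsg.Spor.Ly.Gen.a2.elim.eq_def.{0}
  have := @Cfsg.Spor.Ly.Gen.a3.elim.eq_1.{0}
  have := @Cfsg.Spor.Ly.Gen.a3.elim.eq_def.{0}
  have := @Cfsg.Spor.Ly.Gen.a4.elim.eq_1.{0}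
  have := @Cfsg.Spor.Ly.Gen.a4.elim.eq_def.{0}
  have := @Cfsg.Spor.Ly.Gen.b.elim.eq_1.{0}
  have := @Cfsg.Spor.Ly.Gen.b.elim.eq_def.{0}
  have := @Cfsg.Spor.Ly.Gen.c.elim.eq_1.{0}
  trivial

theorem touch93 : True := by
  have := @Cfsg.Spor.Ly.Gen.c.elim.eq_def.{0}
  have := @Cfsg.Spor.Ly.Gen.c1.elim.eq_1.{0}
  have := @Cfsg.Spor.Ly.Gen.c1.elim.eq_def.{0}
  have := @Cfsg.Spor.Ly.Gen.c2.elim.eq_1.{0}
  have := @Cfsg.Spor.Ly.Gen.c2.elim.eq_def.{0}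
  have := @Cfsg.Spor.Ly.Gen.c3.elim.eq_1.{0}
  have := @Cfsg.Spor.Ly.Gen.c3.elim.eq_def.{0}
  have := @Cfsg.Spor.Ly.Gen.c4.elim.eq_1.{0}
  have := @Cfsg.Spor.Ly.Gen.c4.elim.eq_def.{0}
  have := @Cfsg.Spor.Ly.Gen.c5.elim.eq_1.{0}
  have := @Cfsg.Spor.Ly.Gen.c5.elim.eq_def.{0}
  have := @Cfsg.Spor.Ly.Gen.casesOn.eq_1.{0}
  have := @Cfsg.Spor.Ly.Gen.casesOn.eq_def.{0}
  have := @Cfsg.Spor.Ly.Gen.ctorElim.eq_1.{0}
  have := @Cfsg.Spor.Ly.Gen.ctorElim.eq_def.{0}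
  have := @Cfsg.Spor.Ly.Gen.ctorElimType.eq_1.{0}
  have := @Cfsg.Spor.Ly.Gen.ctorElimType.eq_def.{0}
  have := @Cfsg.Spor.Ly.Gen.ctorIdx.eq_1
  have := @Cfsg.Spor.Ly.Gen.ctorIdx.eq_def
  have := @Cfsg.Spor.Ly.Gen.d.elim.eq_1.{0}
  have := @Cfsg.Spor.Ly.Gen.d.elim.eq_def.{0}
  have := @Cfsg.Spor.Ly.Gen.e.elim.eq_1.{0}
  have := @Cfsg.Spor.Ly.Gen.e.elim.eq_def.{0}
  have := @Cfsg.Spor.Ly.Gen.noConfusion.eq_1.{0}
  have := @Cfsg.Spor.Ly.Gen.noConfusion.eq_def.{0}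
  have := @Cfsg.Spor.Ly.Gen.noConfusionType.eq_1.{0}
  have := @Cfsg.Spor.Ly.Gen.noConfusionType.eq_def.{0}
  have := @Cfsg.Spor.Ly.Gen.ofNat.eq_1
  have := @Cfsg.Spor.Ly.Gen.ofNat.eq_def
  have := @Cfsg.Spor.Ly.Gen.recOn.eq_1.{0}
  have := @Cfsg.Spor.Ly.Gen.recOn.eq_def.{0}
  have := @Cfsg.Spor.Ly.Gen.toCtorIdx.eq_1
  have := @Cfsg.Spor.Ly.Gen.toCtorIdx.eq_def
  have := @Cfsg.Spor.Ly.Gen.u.elim.eq_1.{0}
  have := @Cfsg.Spor.Ly.Gen.u.elim.eq_def.{0}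
  have := @Cfsg.Spor.Ly.Gen.x129.elim.eq_1.{0}
  have := @Cfsg.Spor.Ly.Gen.x129.elim.eq_def.{0}
  have := @Cfsg.Spor.Ly.Gen.x162.elim.eq_1.{0}
  have := @Cfsg.Spor.Ly.Gen.x162.elim.eq_def.{0}
  have := @Cfsg.Spor.Ly.Gen.x163.elim.eq_1.{0}
  trivial

theorem touch94 : True := by
  have := @Cfsg.Spor.Ly.Gen.x163.elim.eq_def.{0}
  have := @Cfsg.Spor.Ly.Gen.x164.elim.eq_1.{0}
  have := @Cfsg.Spor.Ly.Gen.x164.elim.eq_def.{0}
  have := @Cfsg.Spor.Ly.Gen.x165.elim.eq_1.{0}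
  have := @Cfsg.Spor.Ly.Gen.x165.elim.eq_def.{0}
  have := @Cfsg.Spor.Ly.Gen.x166.elim.eq_1.{0}
  have := @Cfsg.Spor.Ly.Gen.x166.elim.eq_def.{0}
  have := @Cfsg.Spor.Ly.Gen.x167.elim.eq_1.{0}
  have := @Cfsg.Spor.Ly.Gen.x167.elim.eq_def.{0}
  have := @Cfsg.Spor.Ly.Gen.x168.elim.eq_1.{0}
  have := @Cfsg.Spor.Ly.Gen.x168.elim.eq_def.{0}
  have := @Cfsg.Spor.Ly.Gen.x169.elim.eq_1.{0}
  have := @Cfsg.Spor.Ly.Gen.x169.elim.eq_def.{0}
  have := @Cfsg.Spor.Ly.Gen.x23.elim.eq_1.{0}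
  have := @Cfsg.Spor.Ly.Gen.x23.elim.eq_def.{0}
  have := @Cfsg.Spor.Ly.Gen.x24.elim.eq_1.{0}
  have := @Cfsg.Spor.Ly.Gen.x24.elim.eq_def.{0}
  have := @Cfsg.Spor.Ly.Gen.x25.elim.eq_1.{0}
  have := @Cfsg.Spor.Ly.Gen.x25.elim.eq_def.{0}
  have := @Cfsg.Spor.Ly.Gen.x29.elim.eq_1.{0}
  have := @Cfsg.Spor.Ly.Gen.x29.elim.eq_def.{0}
  have := @Cfsg.Spor.Ly.Gen.x364.elim.eq_1.{0}
  have := @Cfsg.Spor.Ly.Gen.x364.elim.eq_def.{0}
  have := @Cfsg.Spor.Ly.Gen.x365.elim.eq_1.{0}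
  have := @Cfsg.Spor.Ly.Gen.x365.elim.eq_def.{0}
  have := @Cfsg.Spor.Ly.Gen.x366.elim.eq_1.{0}
  have := @Cfsg.Spor.Ly.Gen.x366.elim.eq_def.{0}
  have := @Cfsg.Spor.Ly.Gen.x367.elim.eq_1.{0}
  have := @Cfsg.Spor.Ly.Gen.x367.elim.eq_def.{0}
  have := @Cfsg.Spor.Ly.Gen.x368.elim.eq_1.{0}
  have := @Cfsg.Spor.Ly.Gen.x368.elim.eq_def.{0}
  have := @Cfsg.Spor.Ly.Gen.x369.elim.eq_1.{0}
  have := @Cfsg.Spor.Ly.Gen.x369.elim.eq_def.{0}
  have := @Cfsg.Spor.Ly.Gen.x370.elim.eq_1.{0}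
  have := @Cfsg.Spor.Ly.Gen.x370.elim.eq_def.{0}
  have := @Cfsg.Spor.Ly.Gen.x371.elim.eq_1.{0}
  have := @Cfsg.Spor.Ly.Gen.x371.elim.eq_def.{0}
  have := @Cfsg.Spor.Ly.Gen.x47.elim.eq_1.{0}
  have := @Cfsg.Spor.Ly.Gen.x47.elim.eq_def.{0}
  have := @Cfsg.Spor.Ly.Gen.x96.elim.eq_1.{0}
  trivial

theorem touch95 : True := by
  have := @Cfsg.Spor.Ly.Gen.x96.elim.eq_def.{0}
  have := @Cfsg.Spor.Ly.Gen.z.elim.eq_1.{0}
  have := @Cfsg.Spor.Ly.Gen.z.elim.eq_def.{0}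
  have := @Cfsg.Spor.Ly.a.eq_1
  have := @Cfsg.Spor.Ly.a.eq_def
  have := @Cfsg.Spor.Ly.a1.eq_1
  have := @Cfsg.Spor.Ly.a1.eq_def
  have := @Cfsg.Spor.Ly.a2.eq_1
  have := @Cfsg.Spor.Ly.a2.eq_def
  have := @Cfsg.Spor.Ly.a3.eq_1
  have := @Cfsg.Spor.Ly.a3.eq_def
  have := @Cfsg.Spor.Ly.a4.eq_1
  have := @Cfsg.Spor.Ly.a4.eq_def
  have := @Cfsg.Spor.Ly.b.eq_1
  have := @Cfsg.Spor.Ly.b.eq_def
  have := @Cfsg.Spor.Ly.c.eq_1
  have := @Cfsg.Spor.Ly.c.eq_def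
  have := @Cfsg.Spor.Ly.c1.eq_1
  have := @Cfsg.Spor.Ly.c1.eq_def
  have := @Cfsg.Spor.Ly.c2.eq_1
  have := @Cfsg.Spor.Ly.c2.eq_def
  have := @Cfsg.Spor.Ly.c3.eq_1
  have := @Cfsg.Spor.Ly.c3.eq_def
  have := @Cfsg.Spor.Ly.c4.eq_1
  have := @Cfsg.Spor.Ly.c4.eq_def
  have := @Cfsg.Spor.Ly.c5.eq_1
  have := @Cfsg.Spor.Ly.c5.eq_def
  have := @Cfsg.Spor.Ly.d.eq_1
  have := @Cfsg.Spor.Ly.d.eq_def
  have := @Cfsg.Spor.Ly.e.eq_1
  have := @Cfsg.Spor.Ly.e.eq_def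
  have := @Cfsg.Spor.Ly.edges.eq_1
  have := @Cfsg.Spor.Ly.edges.eq_def
  have := @Cfsg.Spor.Ly.eq_1
  have := @Cfsg.Spor.Ly.eq_def
  have := @Cfsg.Spor.Ly.extra.eq_1
  have := @Cfsg.Spor.Ly.extra.eq_def
  have := @Cfsg.Spor.Ly.instDecidableEqGen.eq_1
  have := @Cfsg.Spor.Ly.instDecidableEqGen.eq_def
  have := @Cfsg.Spor.Ly.u.eq_1
  trivial

theorem touch96 : True := by
  have := @Cfsg.Spor.Ly.u.eq_def
  have := @Cfsg.Spor.Ly.x129.eq_1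
  have := @Cfsg.Spor.Ly.x129.eq_def
  have := @Cfsg.Spor.Ly.x162.eq_1
  have := @Cfsg.Spor.Ly.x162.eq_def
  have := @Cfsg.Spor.Ly.x163.eq_1
  have := @Cfsg.Spor.Ly.x163.eq_def
  have := @Cfsg.Spor.Ly.x164.eq_1
  have := @Cfsg.Spor.Ly.x164.eq_def
  have := @Cfsg.Spor.Ly.x165.eq_1
  have := @Cfsg.Spor.Ly.x165.eq_def
  have := @Cfsg.Spor.Ly.x166.eq_1
  have := @Cfsg.Spor.Ly.x166.eq_def
  have := @Cfsg.Spor.Ly.x167.eq_1
  have := @Cfsg.Spor.Ly.x167.eq_def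
  have := @Cfsg.Spor.Ly.x168.eq_1
  have := @Cfsg.Spor.Ly.x168.eq_def
  have := @Cfsg.Spor.Ly.x169.eq_1
  have := @Cfsg.Spor.Ly.x169.eq_def
  have := @Cfsg.Spor.Ly.x23.eq_1
  have := @Cfsg.Spor.Ly.x23.eq_def
  have := @Cfsg.Spor.Ly.x24.eq_1
  have := @Cfsg.Spor.Ly.x24.eq_def
  have := @Cfsg.Spor.Ly.x25.eq_1
  have := @Cfsg.Spor.Ly.x25.eq_def
  have := @Cfsg.Spor.Ly.x29.eq_1
  have := @Cfsg.Spor.Ly.x29.eq_def
  have := @Cfsg.Spor.Ly.x364.eq_1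
  have := @Cfsg.Spor.Ly.x364.eq_def
  have := @Cfsg.Spor.Ly.x365.eq_1
  have := @Cfsg.Spor.Ly.x365.eq_def
  have := @Cfsg.Spor.Ly.x366.eq_1
  have := @Cfsg.Spor.Ly.x366.eq_def
  have := @Cfsg.Spor.Ly.x367.eq_1
  have := @Cfsg.Spor.Ly.x367.eq_def
  have := @Cfsg.Spor.Ly.x368.eq_1
  have := @Cfsg.Spor.Ly.x368.eq_def
  have := @Cfsg.Spor.Ly.x369.eq_1
  have := @Cfsg.Spor.Ly.x369.eq_def
  have := @Cfsg.Spor.Ly.x370.eq_1
  trivial

theorem touch97 : True := by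
  have := @Cfsg.Spor.Ly.x370.eq_def
  have := @Cfsg.Spor.Ly.x371.eq_1
  have := @Cfsg.Spor.Ly.x371.eq_def
  have := @Cfsg.Spor.Ly.x47.eq_1
  have := @Cfsg.Spor.Ly.x47.eq_def
  have := @Cfsg.Spor.Ly.x96.eq_1
  have := @Cfsg.Spor.Ly.x96.eq_def
  have := @Cfsg.Spor.Ly.z.eq_1
  have := @Cfsg.Spor.Ly.z.eq_def
  have := @Cfsg.Spor.M11.eq_1
  have := @Cfsg.Spor.M11.eq_def
  have := @Cfsg.Spor.M12.eq_1
  have := @Cfsg.Spor.M12.eq_def
  have := @Cfsg.Spor.M22.eq_1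
  have := @Cfsg.Spor.M22.eq_def
  have := @Cfsg.Spor.M23.eq_1
  have := @Cfsg.Spor.M23.eq_def
  have := @Cfsg.Spor.McL.eq_1
  have := @Cfsg.Spor.McL.eq_def
  have := @Cfsg.Spor.Monster.eq_1
  have := @Cfsg.Spor.Monster.eq_def
  have := @Cfsg.Spor.ON.Gen.a.elim.eq_1.{0}
  have := @Cfsg.Spor.ON.Gen.a.elim.eq_def.{0}
  have := @Cfsg.Spor.ON.Gen.b.elim.eq_1.{0}
  have := @Cfsg.Spor.ON.Gen.b.elim.eq_def.{0}
  have := @Cfsg.Spor.ON.Gen.c.elim.eq_1.{0}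
  have := @Cfsg.Spor.ON.Gen.c.elim.eq_def.{0}
  have := @Cfsg.Spor.ON.Gen.casesOn.eq_1.{0}
  have := @Cfsg.Spor.ON.Gen.casesOn.eq_def.{0}
  have := @Cfsg.Spor.ON.Gen.ctorElim.eq_1.{0}
  have := @Cfsg.Spor.ON.Gen.ctorElim.eq_def.{0}
  have := @Cfsg.Spor.ON.Gen.ctorElimType.eq_1.{0}
  have := @Cfsg.Spor.ON.Gen.ctorElimType.eq_def.{0}
  have := @Cfsg.Spor.ON.Gen.ctorIdx.eq_1
  have := @Cfsg.Spor.ON.Gen.ctorIdx.eq_def
  have := @Cfsg.Spor.ON.Gen.d.elim.eq_1.{0}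
  have := @Cfsg.Spor.ON.Gen.d.elim.eq_def.{0}
  have := @Cfsg.Spor.ON.Gen.e.elim.eq_1.{0}
  have := @Cfsg.Spor.ON.Gen.e.elim.eq_def.{0}
  have := @Cfsg.Spor.ON.Gen.f.elim.eq_1.{0}
  trivial

theorem touch98 : True := by
  have := @Cfsg.Spor.ON.Gen.f.elim.eq_def.{0}
  have := @Cfsg.Spor.ON.Gen.g.elim.eq_1.{0}
  have := @Cfsg.Spor.ON.Gen.g.elim.eq_def.{0}
  have := @Cfsg.Spor.ON.Gen.noConfusion.eq_1.{0}
  have := @Cfsg.Spor.ON.Gen.noConfusion.eq_def.{0}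
  have := @Cfsg.Spor.ON.Gen.noConfusionType.eq_1.{0}
  have := @Cfsg.Spor.ON.Gen.noConfusionType.eq_def.{0}
  have := @Cfsg.Spor.ON.Gen.ofNat.eq_1
  have := @Cfsg.Spor.ON.Gen.ofNat.eq_def
  have := @Cfsg.Spor.ON.Gen.recOn.eq_1.{0}
  have := @Cfsg.Spor.ON.Gen.recOn.eq_def.{0}
  have := @Cfsg.Spor.ON.Gen.toCtorIdx.eq_1
  have := @Cfsg.Spor.ON.Gen.toCtorIdx.eq_def
  have := @Cfsg.Spor.ON.a.eq_1
  have := @Cfsg.Spor.ON.a.eq_def
  have := @Cfsg.Spor.ON.b.eq_1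
  have := @Cfsg.Spor.ON.b.eq_def
  have := @Cfsg.Spor.ON.c.eq_1
  have := @Cfsg.Spor.ON.c.eq_def
  have := @Cfsg.Spor.ON.d.eq_1
  have := @Cfsg.Spor.ON.d.eq_def
  have := @Cfsg.Spor.ON.e.eq_1
  have := @Cfsg.Spor.ON.e.eq_def
  have := @Cfsg.Spor.ON.edges.eq_1
  have := @Cfsg.Spor.ON.edges.eq_def
  have := @Cfsg.Spor.ON.eq_1
  have := @Cfsg.Spor.ON.eq_def
  have := @Cfsg.Spor.ON.extra.eq_1
  have := @Cfsg.Spor.ON.extra.eq_def
  have := @Cfsg.Spor.ON.f.eq_1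
  have := @Cfsg.Spor.ON.f.eq_def
  have := @Cfsg.Spor.ON.g.eq_1
  have := @Cfsg.Spor.ON.g.eq_def
  have := @Cfsg.Spor.ON.instDecidableEqGen.eq_1
  have := @Cfsg.Spor.ON.instDecidableEqGen.eq_def
  have := @Cfsg.Spor.Ru.eq_1
  have := @Cfsg.Spor.Ru.eq_def
  have := @Cfsg.Spor.RuIdx.eq_1
  have := @Cfsg.Spor.RuIdx.eq_def
  have := @Cfsg.Spor.RuVec.eq_1
  trivial

theorem touch99 : True := by
  have := @Cfsg.Spor.RuVec.eq_def
  have := @Cfsg.Spor.Suz.Gen.a.elim.eq_1.{0}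
  have := @Cfsg.Spor.Suz.Gen.a.elim.eq_def.{0}
  have := @Cfsg.Spor.Suz.Gen.b.elim.eq_1.{0}
  have := @Cfsg.Spor.Suz.Gen.b.elim.eq_def.{0}
  have := @Cfsg.Spor.Suz.Gen.c.elim.eq_1.{0}
  have := @Cfsg.Spor.Suz.Gen.c.elim.eq_def.{0}
  have := @Cfsg.Spor.Suz.Gen.casesOn.eq_1.{0}
  have := @Cfsg.Spor.Suz.Gen.casesOn.eq_def.{0}
  have := @Cfsg.Spor.Suz.Gen.ctorElim.eq_1.{0}
  have := @Cfsg.Spor.Suz.Gen.ctorElim.eq_def.{0}
  have := @Cfsg.Spor.Suz.Gen.ctorElimType.eq_1.{0}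
  have := @Cfsg.Spor.Suz.Gen.ctorElimType.eq_def.{0}
  have := @Cfsg.Spor.Suz.Gen.ctorIdx.eq_1
  have := @Cfsg.Spor.Suz.Gen.ctorIdx.eq_def
  have := @Cfsg.Spor.Suz.Gen.d.elim.eq_1.{0}
  have := @Cfsg.Spor.Suz.Gen.d.elim.eq_def.{0}
  have := @Cfsg.Spor.Suz.Gen.e.elim.eq_1.{0}
  have := @Cfsg.Spor.Suz.Gen.e.elim.eq_def.{0}
  have := @Cfsg.Spor.Suz.Gen.f.elim.eq_1.{0}
  have := @Cfsg.Spor.Suz.Gen.f.elim.eq_def.{0}
  have := @Cfsg.Spor.Suz.Gen.g.elim.eq_1.{0}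
  have := @Cfsg.Spor.Suz.Gen.g.elim.eq_def.{0}
  have := @Cfsg.Spor.Suz.Gen.noConfusion.eq_1.{0}
  have := @Cfsg.Spor.Suz.Gen.noConfusion.eq_def.{0}
  have := @Cfsg.Spor.Suz.Gen.noConfusionType.eq_1.{0}
  have := @Cfsg.Spor.Suz.Gen.noConfusionType.eq_def.{0}
  have := @Cfsg.Spor.Suz.Gen.ofNat.eq_1
  have := @Cfsg.Spor.Suz.Gen.ofNat.eq_def
  have := @Cfsg.Spor.Suz.Gen.recOn.eq_1.{0}
  have := @Cfsg.Spor.Suz.Gen.recOn.eq_def.{0}
  have := @Cfsg.Spor.Suz.Gen.toCtorIdx.eq_1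
  have := @Cfsg.Spor.Suz.Gen.toCtorIdx.eq_def
  have := @Cfsg.Spor.Suz.a.eq_1
  have := @Cfsg.Spor.Suz.a.eq_def
  have := @Cfsg.Spor.Suz.b.eq_1
  have := @Cfsg.Spor.Suz.b.eq_def
  have := @Cfsg.Spor.Suz.c.eq_1
  have := @Cfsg.Spor.Suz.c.eq_def
  have := @Cfsg.Spor.Suz.d.eq_1
  trivial

theorem touch100 : True := by
  have := @Cfsg.Spor.Suz.d.eq_def
  have := @Cfsg.Spor.Suz.e.eq_1
  have := @Cfsg.Spor.Suz.e.eq_def
  have := @Cfsg.Spor.Suz.edges.eq_1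
  have := @Cfsg.Spor.Suz.edges.eq_def
  have := @Cfsg.Spor.Suz.eq_1
  have := @Cfsg.Spor.Suz.eq_def
  have := @Cfsg.Spor.Suz.extra.eq_1
  have := @Cfsg.Spor.Suz.extra.eq_def
  have := @Cfsg.Spor.Suz.f.eq_1
  have := @Cfsg.Spor.Suz.f.eq_def
  have := @Cfsg.Spor.Suz.g.eq_1
  have := @Cfsg.Spor.Suz.g.eq_def
  have := @Cfsg.Spor.Suz.instDecidableEqGen.eq_1
  have := @Cfsg.Spor.Suz.instDecidableEqGen.eq_def
  have := @Cfsg.Spor.Th.Gen.a.elim.eq_1.{0}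
  have := @Cfsg.Spor.Th.Gen.a.elim.eq_def.{0}
  have := @Cfsg.Spor.Th.Gen.b.elim.eq_1.{0}
  have := @Cfsg.Spor.Th.Gen.b.elim.eq_def.{0}
  have := @Cfsg.Spor.Th.Gen.c.elim.eq_1.{0}
  have := @Cfsg.Spor.Th.Gen.c.elim.eq_def.{0}
  have := @Cfsg.Spor.Th.Gen.casesOn.eq_1.{0}
  have := @Cfsg.Spor.Th.Gen.casesOn.eq_def.{0}
  have := @Cfsg.Spor.Th.Gen.ctorElim.eq_1.{0}
  have := @Cfsg.Spor.Th.Gen.ctorElim.eq_def.{0}
  have := @Cfsg.Spor.Th.Gen.ctorElimType.eq_1.{0}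
  have := @Cfsg.Spor.Th.Gen.ctorElimType.eq_def.{0}
  have := @Cfsg.Spor.Th.Gen.ctorIdx.eq_1
  have := @Cfsg.Spor.Th.Gen.ctorIdx.eq_def
  have := @Cfsg.Spor.Th.Gen.d.elim.eq_1.{0}
  have := @Cfsg.Spor.Th.Gen.d.elim.eq_def.{0}
  have := @Cfsg.Spor.Th.Gen.e.elim.eq_1.{0}
  have := @Cfsg.Spor.Th.Gen.e.elim.eq_def.{0}
  have := @Cfsg.Spor.Th.Gen.noConfusion.eq_1.{0}
  have := @Cfsg.Spor.Th.Gen.noConfusion.eq_def.{0}
  have := @Cfsg.Spor.Th.Gen.noConfusionType.eq_1.{0}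
  have := @Cfsg.Spor.Th.Gen.noConfusionType.eq_def.{0}
  have := @Cfsg.Spor.Th.Gen.ofNat.eq_1
  have := @Cfsg.Spor.Th.Gen.ofNat.eq_def
  have := @Cfsg.Spor.Th.Gen.recOn.eq_1.{0}
  trivial

theorem touch101 : True := by
  have := @Cfsg.Spor.Th.Gen.recOn.eq_def.{0}
  have := @Cfsg.Spor.Th.Gen.s.elim.eq_1.{0}
  have := @Cfsg.Spor.Th.Gen.s.elim.eq_def.{0}
  have := @Cfsg.Spor.Th.Gen.t.elim.eq_1.{0}
  have := @Cfsg.Spor.Th.Gen.t.elim.eq_def.{0}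
  have := @Cfsg.Spor.Th.Gen.toCtorIdx.eq_1
  have := @Cfsg.Spor.Th.Gen.toCtorIdx.eq_def
  have := @Cfsg.Spor.Th.Gen.u.elim.eq_1.{0}
  have := @Cfsg.Spor.Th.Gen.u.elim.eq_def.{0}
  have := @Cfsg.Spor.Th.a.eq_1
  have := @Cfsg.Spor.Th.a.eq_def
  have := @Cfsg.Spor.Th.b.eq_1
  have := @Cfsg.Spor.Th.b.eq_def
  have := @Cfsg.Spor.Th.c.eq_1
  have := @Cfsg.Spor.Th.c.eq_def
  have := @Cfsg.Spor.Th.d.eq_1
  have := @Cfsg.Spor.Th.d.eq_def
  have := @Cfsg.Spor.Th.e.eq_1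
  have := @Cfsg.Spor.Th.e.eq_def
  have := @Cfsg.Spor.Th.edges.eq_1
  have := @Cfsg.Spor.Th.edges.eq_def
  have := @Cfsg.Spor.Th.eq_1
  have := @Cfsg.Spor.Th.eq_def
  have := @Cfsg.Spor.Th.extra.eq_1
  have := @Cfsg.Spor.Th.extra.eq_def
  have := @Cfsg.Spor.Th.instDecidableEqGen.eq_1
  have := @Cfsg.Spor.Th.instDecidableEqGen.eq_def
  have := @Cfsg.Spor.Th.s.eq_1
  have := @Cfsg.Spor.Th.s.eq_def
  have := @Cfsg.Spor.Th.t.eq_1
  have := @Cfsg.Spor.Th.t.eq_def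
  have := @Cfsg.Spor.Th.u.eq_1
  have := @Cfsg.Spor.Th.u.eq_def
  have := @Cfsg.Spor.coxLabel.eq_1.{0}
  have := @Cfsg.Spor.coxLabel.eq_def.{0}
  have := @Cfsg.Spor.coxNodes.eq_1.{0}
  have := @Cfsg.Spor.coxNodes.eq_def.{0}
  have := @Cfsg.Spor.coxRelators.eq_1.{0}
  have := @Cfsg.Spor.coxRelators.eq_def.{0}
  have := @Cfsg.Spor.fourRu.eq_1
  trivial

theorem touch102 : True := by
  have := @Cfsg.Spor.fourRu.eq_def
  have := @Cfsg.Spor.gI.eq_1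
  have := @Cfsg.Spor.gI.eq_def
  have := @Cfsg.Spor.icoH.eq_1
  have := @Cfsg.Spor.icoH.eq_def
  have := @Cfsg.Spor.icoLeech.eq_1
  have := @Cfsg.Spor.icoLeech.eq_def
  have := @Cfsg.Spor.icosians.eq_1
  have := @Cfsg.Spor.icosians.eq_def
  have := @Cfsg.Spor.j3A.eq_1.{0}
  have := @Cfsg.Spor.j3A.eq_def.{0}
  have := @Cfsg.Spor.j3B.eq_1.{0}
  have := @Cfsg.Spor.j3B.eq_def.{0}
  have := @Cfsg.Spor.j3C.eq_1.{0}
  have := @Cfsg.Spor.j3C.eq_def.{0}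
  have := @Cfsg.Spor.j3D.eq_1.{0}
  have := @Cfsg.Spor.j3D.eq_def.{0}
  have := @Cfsg.Spor.j3E.eq_1.{0}
  have := @Cfsg.Spor.j3E.eq_def.{0}
  have := @Cfsg.Spor.j3Gens.eq_1.{0}
  have := @Cfsg.Spor.j3Gens.eq_def.{0}
  have := @Cfsg.Spor.j3Lam.eq_1.{0}
  have := @Cfsg.Spor.j3Lam.eq_def.{0}
  have := @Cfsg.Spor.jankoX.eq_1
  have := @Cfsg.Spor.jankoX.eq_def
  have := @Cfsg.Spor.jankoY.eq_1
  have := @Cfsg.Spor.jankoY.eq_def
  have := @Cfsg.Spor.leechU'.eq_1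
  have := @Cfsg.Spor.leechU'.eq_def
  have := @Cfsg.Spor.leechU.eq_1
  have := @Cfsg.Spor.leechU.eq_def
  have := @Cfsg.Spor.leechV.eq_1
  have := @Cfsg.Spor.leechV.eq_def
  have := @Cfsg.Spor.leftIdeal.eq_1
  have := @Cfsg.Spor.leftIdeal.eq_def
  have := @Cfsg.Spor.omegaPow.eq_1.{0}
  have := @Cfsg.Spor.omegaPow.eq_def.{0}
  have := @Cfsg.Spor.qI.eq_1
  have := @Cfsg.Spor.qI.eq_def
  have := @Cfsg.Spor.qip.eq_1
  trivial

theorem touch103 : True := by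
  have := @Cfsg.Spor.qip.eq_def
  have := @Cfsg.Spor.qrefl.eq_1
  have := @Cfsg.Spor.qrefl.eq_def
  have := @Cfsg.Spor.ruClosed.eq_1
  have := @Cfsg.Spor.ruClosed.eq_def
  have := @Cfsg.Spor.ruI.eq_1
  have := @Cfsg.Spor.ruI.eq_def
  have := @Cfsg.Spor.ruLattice.eq_1
  have := @Cfsg.Spor.ruLattice.eq_def
  have := @Cfsg.Spor.ruNorm.eq_1
  have := @Cfsg.Spor.ruNorm.eq_def
  have := @Cfsg.Spor.ruOfArray.eq_1
  have := @Cfsg.Spor.ruOfArray.eq_def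
  have := @Cfsg.Spor.ruRj.eq_1
  have := @Cfsg.Spor.ruRj.eq_def
  have := @Cfsg.Spor.ruRk.eq_1
  have := @Cfsg.Spor.ruRk.eq_def
  have := @Cfsg.Spor.ruShift.eq_1
  have := @Cfsg.Spor.ruShift.eq_def
  have := @Cfsg.Spor.ruSign.eq_1
  have := @Cfsg.Spor.ruSign.eq_def
  have := @Cfsg.Spor.ruTable.eq_1
  have := @Cfsg.Spor.ruTable.eq_def
  have := @Cfsg.Spor.sig.eq_1
  have := @Cfsg.Spor.sig.eq_def
  have := @Cfsg.Spor.squareDodecad.eq_1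
  have := @Cfsg.Spor.squareDodecad.eq_def
  have := @Cfsg.Spor.tau.eq_1
  have := @Cfsg.Spor.tau.eq_def
  have := @Cfsg.Spor.threeJ3.eq_1.{0}
  have := @Cfsg.Spor.threeJ3.eq_def.{0}
  have := @Cfsg.Spor.twoJ2.eq_1
  have := @Cfsg.Spor.twoJ2.eq_def
  have := @Cfsg.Spor.vecU'.eq_1
  have := @Cfsg.Spor.vecU'.eq_def
  have := @Cfsg.Spor.vecU.eq_1
  have := @Cfsg.Spor.vecU.eq_def
  have := @Cfsg.Spor.vecV.eq_1
  have := @Cfsg.Spor.vecV.eq_def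
  have := @Cfsg.StabilizesBlock.eq_1.{0}
  trivial

theorem touch104 : True := by
  have := @Cfsg.StabilizesBlock.eq_def.{0}
  have := @Cfsg.SubpairLE.eq_1.{0}
  have := @Cfsg.SubpairLE.eq_def.{0}
  have := @Cfsg.Supports.eq_1.{0}
  have := @Cfsg.Supports.eq_def.{0}
  have := @Cfsg.SylowTwoMeetSuccEq.eq_1.{0}
  have := @Cfsg.SylowTwoMeetSuccEq.eq_def.{0}
  have := @Cfsg.Sz.eq_1.{0}
  have := @Cfsg.Sz.eq_def.{0}
  have := @Cfsg.TransitivityHypothesis.eq_1.{0}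
  have := @Cfsg.TransitivityHypothesis.eq_def.{0}
  have := @Cfsg.TwoLocalPRankLE.eq_1.{0}
  have := @Cfsg.TwoLocalPRankLE.eq_def.{0}
  have := @Cfsg.Xi.eq_1.{0}
  have := @Cfsg.Xi.eq_def.{0}
  have := @Cfsg.XiStar.eq_1.{0}
  have := @Cfsg.XiStar.eq_def.{0}
  have := @Cfsg.affineGroup.eq_1.{0}
  have := @Cfsg.affineGroup.eq_def.{0}
  have := @Cfsg.affinePlaneThree.eq_1
  have := @Cfsg.affinePlaneThree.eq_def
  have := @Cfsg.agConjFamily.eq_1.{0}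
  have := @Cfsg.agConjFamily.eq_def.{0}
  have := @Cfsg.alpha.eq_1.{0}
  have := @Cfsg.alpha.eq_def.{0}
  have := @Cfsg.alphaCore.eq_1.{0}
  have := @Cfsg.alphaCore.eq_def.{0}
  have := @Cfsg.alternatingFiveWreathTwo.eq_1
  have := @Cfsg.alternatingFiveWreathTwo.eq_def
  have := @Cfsg.autInducedBy.eq_1.{0}
  have := @Cfsg.autInducedBy.eq_def.{0}
  have := @Cfsg.autSubgroupOf.eq_1.{0}
  have := @Cfsg.autSubgroupOf.eq_def.{0}
  have := @Cfsg.baumannSubgroup.eq_1.{0}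
  have := @Cfsg.baumannSubgroup.eq_def.{0}
  have := @Cfsg.baumannSubgroupOf.eq_1.{0}
  have := @Cfsg.baumannSubgroupOf.eq_def.{0}
  have := @Cfsg.beta.eq_1.{0}
  have := @Cfsg.beta.eq_def.{0}
  have := @Cfsg.blockCoeff.eq_1.{0}
  trivial

theorem touch105 : True := by
  have := @Cfsg.blockCoeff.eq_def.{0}
  have := @Cfsg.blockDefect.eq_1.{0}
  have := @Cfsg.blockDefect.eq_def.{0}
  have := @Cfsg.blockGraph.eq_1.{0}
  have := @Cfsg.blockGraph.eq_def.{0}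
  have := @Cfsg.blockHeight.eq_1.{0}
  have := @Cfsg.blockHeight.eq_def.{0}
  have := @Cfsg.blockKer.eq_1.{0}
  have := @Cfsg.blockKer.eq_def.{0}
  have := @Cfsg.blockOf.eq_1.{0}
  have := @Cfsg.blockOf.eq_def.{0}
  have := @Cfsg.blockPart.eq_1.{0}
  have := @Cfsg.blockPart.eq_def.{0}
  have := @Cfsg.blockRank.eq_1.{0}
  have := @Cfsg.blockRank.eq_def.{0}
  have := @Cfsg.blockStabilizerS4wr2.eq_1
  have := @Cfsg.blockStabilizerS4wr2.eq_def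
  have := @Cfsg.brauerCentralChar.eq_1.{0}
  have := @Cfsg.brauerCentralChar.eq_def.{0}
  have := @Cfsg.brauerOmega.eq_1.{0}
  have := @Cfsg.brauerOmega.eq_def.{0}
  have := @Cfsg.cStarOf.eq_1.{0}
  have := @Cfsg.cStarOf.eq_def.{0}
  have := @Cfsg.cStarStarOf.eq_1.{0}
  have := @Cfsg.cStarStarOf.eq_def.{0}
  have := @Cfsg.calC.eq_1.{0}
  have := @Cfsg.calC.eq_def.{0}
  have := @Cfsg.calH.eq_1.{0}
  have := @Cfsg.calH.eq_def.{0}
  have := @Cfsg.calHMin.eq_1.{0}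
  have := @Cfsg.calHMin.eq_def.{0}
  have := @Cfsg.calHOver.eq_1.{0}
  have := @Cfsg.calHOver.eq_def.{0}
  have := @Cfsg.calHOverNotLE.eq_1.{0}
  have := @Cfsg.calHOverNotLE.eq_def.{0}
  have := @Cfsg.calHe.eq_1.{0}
  have := @Cfsg.calHe.eq_def.{0}
  have := @Cfsg.calL.eq_1.{0}
  have := @Cfsg.calL.eq_def.{0}
  have := @Cfsg.calLMax.eq_1.{0}
  trivial

theorem touch106 : True := by
  have := @Cfsg.calLMax.eq_def.{0}
  have := @Cfsg.calLf.eq_1.{0}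
  have := @Cfsg.calLf.eq_def.{0}
  have := @Cfsg.calLfMax.eq_1.{0}
  have := @Cfsg.calLfMax.eq_def.{0}
  have := @Cfsg.calR2.eq_1.{0}
  have := @Cfsg.calR2.eq_def.{0}
  have := @Cfsg.calX.eq_1.{0}
  have := @Cfsg.calX.eq_def.{0}
  have := @Cfsg.calXf.eq_1.{0}
  have := @Cfsg.calXf.eq_def.{0}
  have := @Cfsg.centerThompsonAOf.eq_1.{0}
  have := @Cfsg.centerThompsonAOf.eq_def.{0}
  have := @Cfsg.centerThompsonOf.eq_1.{0}
  have := @Cfsg.centerThompsonOf.eq_def.{0}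
  have := @Cfsg.centralChar.eq_1.{0}
  have := @Cfsg.centralChar.eq_def.{0}
  have := @Cfsg.centralizerModCore.eq_1.{0}
  have := @Cfsg.centralizerModCore.eq_def.{0}
  have := @Cfsg.centralizerOfPComponent.eq_1.{0}
  have := @Cfsg.centralizerOfPComponent.eq_def.{0}
  have := @Cfsg.centralizerPPrimeCore.eq_1.{0}
  have := @Cfsg.centralizerPPrimeCore.eq_def.{0}
  have := @Cfsg.centralizerSubgroupPPrimeCore.eq_1.{0}
  have := @Cfsg.centralizerSubgroupPPrimeCore.eq_def.{0}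
  have := @Cfsg.centralizingMembers.eq_1.{0}
  have := @Cfsg.centralizingMembers.eq_def.{0}
  have := @Cfsg.centrallyLargeJoin.eq_1.{0}
  have := @Cfsg.centrallyLargeJoin.eq_def.{0}
  have := @Cfsg.charCore.eq_1.{0}
  have := @Cfsg.charCore.eq_def.{0}
  have := @Cfsg.charDegree.eq_1.{0}
  have := @Cfsg.charDegree.eq_def.{0}
  have := @Cfsg.charDegrees.eq_1.{0}
  have := @Cfsg.charDegrees.eq_def.{0}
  have := @Cfsg.charNormalizersJoin.eq_1.{0}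
  have := @Cfsg.charNormalizersJoin.eq_def.{0}
  have := @Cfsg.charPSubgroups.eq_1.{0}
  have := @Cfsg.charPSubgroups.eq_def.{0}
  have := @Cfsg.classInner.eq_1.{0}
  trivial

theorem touch107 : True := by
  have := @Cfsg.classInner.eq_def.{0}
  have := @Cfsg.classTwoSubgroups.eq_1.{0}
  have := @Cfsg.classTwoSubgroups.eq_def.{0}
  have := @Cfsg.commonDivisorGraph.eq_1
  have := @Cfsg.commonDivisorGraph.eq_def
  have := @Cfsg.commutatorPartners.eq_1.{0}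
  have := @Cfsg.commutatorPartners.eq_def.{0}
  have := @Cfsg.commutatorRank.eq_1.{0,0}
  have := @Cfsg.commutatorRank.eq_def.{0,0}
  have := @Cfsg.commutatorSubmodule.eq_1.{0,0}
  have := @Cfsg.commutatorSubmodule.eq_def.{0,0}
  have := @Cfsg.commutingGraph.eq_1.{0}
  have := @Cfsg.commutingGraph.eq_def.{0}
  have := @Cfsg.commutingMembers.eq_1.{0}
  have := @Cfsg.commutingMembers.eq_def.{0}
  have := @Cfsg.commutingOthers.eq_1.{0}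
  have := @Cfsg.commutingOthers.eq_def.{0}
  have := @Cfsg.commutingPartners.eq_1.{0}
  have := @Cfsg.commutingPartners.eq_def.{0}
  have := @Cfsg.commutingProducts.eq_1.{0}
  have := @Cfsg.commutingProducts.eq_def.{0}
  have := @Cfsg.commutingWidth.eq_1.{0}
  have := @Cfsg.commutingWidth.eq_def.{0}
  have := @Cfsg.compLabel.eq_1
  have := @Cfsg.compLabel.eq_def
  have := @Cfsg.componentOf.eq_1.{0}
  have := @Cfsg.componentOf.eq_def.{0}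
  have := @Cfsg.conjBlock.eq_1.{0}
  have := @Cfsg.conjBlock.eq_def.{0}
  have := @Cfsg.conjBy.eq_1.{0}
  have := @Cfsg.conjBy.eq_def.{0}
  have := @Cfsg.conjClosure.eq_1.{0}
  have := @Cfsg.conjClosure.eq_def.{0}
  have := @Cfsg.conjFun.eq_1.{0}
  have := @Cfsg.conjFun.eq_def.{0}
  have := @Cfsg.conjHom.eq_1.{0}
  have := @Cfsg.conjHom.eq_def.{0}
  have := @Cfsg.conjRight.eq_1.{0}
  have := @Cfsg.conjRight.eq_def.{0}
  have := @Cfsg.conjugateClosure.eq_1.{0}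
  trivial

theorem touch108 : True := by
  have := @Cfsg.conjugateClosure.eq_def.{0}
  have := @Cfsg.cosetGraph.eq_1.{0}
  have := @Cfsg.cosetGraph.eq_def.{0}
  have := @Cfsg.criticalDistance.eq_1.{0}
  have := @Cfsg.criticalDistance.eq_def.{0}
  have := @Cfsg.criticalDistanceAt.eq_1.{0}
  have := @Cfsg.criticalDistanceAt.eq_def.{0}
  have := @Cfsg.cross.eq_1
  have := @Cfsg.cross.eq_def
  have := @Cfsg.crosses.eq_1
  have := @Cfsg.crosses.eq_def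
  have := @Cfsg.cubeTwist.eq_1
  have := @Cfsg.cubeTwist.eq_def
  have := @Cfsg.cubeTwistFun.eq_1
  have := @Cfsg.cubeTwistFun.eq_2
  have := @Cfsg.cubeTwistFun.eq_def
  have := @Cfsg.dStar.eq_1.{0}
  have := @Cfsg.dStar.eq_def.{0}
  have := @Cfsg.dStarFamily.eq_1.{0}
  have := @Cfsg.dStarFamily.eq_def.{0}
  have := @Cfsg.dStarOf.eq_1.{0}
  have := @Cfsg.dStarOf.eq_def.{0}
  have := @Cfsg.dadeIsometry.eq_1.{0}
  have := @Cfsg.dadeIsometry.eq_def.{0}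
  have := @Cfsg.degreeGraph.eq_1.{0}
  have := @Cfsg.degreeGraph.eq_def.{0}
  have := @Cfsg.degreePrimes.eq_1.{0}
  have := @Cfsg.degreePrimes.eq_def.{0}
  have := @Cfsg.detChar.eq_1.{0}
  have := @Cfsg.detChar.eq_def.{0}
  have := @Cfsg.detOrder.eq_1.{0}
  have := @Cfsg.detOrder.eq_def.{0}
  have := @Cfsg.dodecads.eq_1
  have := @Cfsg.dodecads.eq_def
  have := @Cfsg.dotInt.eq_1.{0}
  have := @Cfsg.dotInt.eq_def.{0}
  have := @Cfsg.dualAffinePlaneTwo.eq_1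
  have := @Cfsg.dualAffinePlaneTwo.eq_def
  have := @Cfsg.edgeStabilizer.eq_1.{0}
  have := @Cfsg.edgeStabilizer.eq_def.{0}
  trivial

theorem touch109 : True := by
  have := @Cfsg.elemComponentOf.eq_1.{0}
  have := @Cfsg.elemComponentOf.eq_def.{0}
  have := @Cfsg.extendByZero.eq_1.{0}
  have := @Cfsg.extendByZero.eq_def.{0}
  have := @Cfsg.extendedPLayer.eq_1.{0}
  have := @Cfsg.extendedPLayer.eq_def.{0}
  have := @Cfsg.extendedTwoLayer.eq_1.{0}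
  have := @Cfsg.extendedTwoLayer.eq_def.{0}
  have := @Cfsg.fOver.eq_1.{0}
  have := @Cfsg.fOver.eq_def.{0}
  have := @Cfsg.fittingHall.eq_1.{0}
  have := @Cfsg.fittingHall.eq_def.{0}
  have := @Cfsg.fittingHallOf.eq_1.{0}
  have := @Cfsg.fittingHallOf.eq_def.{0}
  have := @Cfsg.fittingOf.eq_1.{0}
  have := @Cfsg.fittingOf.eq_def.{0}
  have := @Cfsg.fittingSubgroup.eq_1.{0}
  have := @Cfsg.fittingSubgroup.eq_def.{0}
  have := @Cfsg.fixedPointCharacter.eq_1.{0}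
  have := @Cfsg.fixedPointCharacter.eq_def.{0}
  have := @Cfsg.fixedSubgroup.eq_1.{0}
  have := @Cfsg.fixedSubgroup.eq_def.{0}
  have := @Cfsg.fixedSubmodule.eq_1.{0,0}
  have := @Cfsg.fixedSubmodule.eq_def.{0,0}
  have := @Cfsg.fourPartners.eq_1.{0}
  have := @Cfsg.fourPartners.eq_def.{0}
  have := @Cfsg.frattiniOfMinimalCLJoin.eq_1.{0}
  have := @Cfsg.frattiniOfMinimalCLJoin.eq_def.{0}
  have := @Cfsg.frobeniusKernel.eq_1.{0}
  have := @Cfsg.frobeniusKernel.eq_def.{0}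
  have := @Cfsg.functorFamily.eq_1.{0}
  have := @Cfsg.functorFamily.eq_def.{0}
  have := @Cfsg.functorTower.eq_1.{0}
  have := @Cfsg.functorTower.eq_2.{0}
  have := @Cfsg.functorTower.eq_def.{0}
  have := @Cfsg.fusionSystemOfSubgroup.eq_1.{0}
  have := @Cfsg.fusionSystemOfSubgroup.eq_def.{0}
  have := @Cfsg.gammaPOmega.eq_1.{0}
  have := @Cfsg.gammaPOmega.eq_def.{0}
  have := @Cfsg.gammaPSL.eq_1.{0}
  trivial

theorem touch110 : True := by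
  have := @Cfsg.gammaPSL.eq_def.{0}
  have := @Cfsg.gammaPSU.eq_1.{0}
  have := @Cfsg.gammaPSU.eq_def.{0}
  have := @Cfsg.gammaPSp.eq_1.{0}
  have := @Cfsg.gammaPSp.eq_def.{0}
  have := @Cfsg.gammaTwoCirc.eq_1.{0}
  have := @Cfsg.gammaTwoCirc.eq_def.{0}
  have := @Cfsg.generalizedFittingSubgroup.eq_1.{0}
  have := @Cfsg.generalizedFittingSubgroup.eq_def.{0}
  have := @Cfsg.glToMat.eq_1.{0}
  have := @Cfsg.glToMat.eq_def.{0}
  have := @Cfsg.golayCode.eq_1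
  have := @Cfsg.golayCode.eq_def
  have := @Cfsg.golayMonomialMaps.eq_1
  have := @Cfsg.golayMonomialMaps.eq_def
  have := @Cfsg.groupFusionSystem.eq_1.{0}
  have := @Cfsg.groupFusionSystem.eq_def.{0}
  have := @Cfsg.hatPLayer.eq_1.{0}
  have := @Cfsg.hatPLayer.eq_def.{0}
  have := @Cfsg.hermForm.eq_1.{0}
  have := @Cfsg.hermForm.eq_def.{0}
  have := @Cfsg.hexacode.eq_1.{0}
  have := @Cfsg.hexacode.eq_def.{0}
  have := @Cfsg.hexadsOn.eq_1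
  have := @Cfsg.hexadsOn.eq_def
  have := @Cfsg.imageSubmodule.eq_1.{0}
  have := @Cfsg.imageSubmodule.eq_def.{0}
  have := @Cfsg.indFun.eq_1.{0}
  have := @Cfsg.indFun.eq_def.{0}
  have := @Cfsg.inducedCentralChar.eq_1.{0}
  have := @Cfsg.inducedCentralChar.eq_def.{0}
  have := @Cfsg.inducedCentralCharIn.eq_1.{0}
  have := @Cfsg.inducedCentralCharIn.eq_def.{0}
  have := @Cfsg.inducedFunctor.eq_1.{0}
  have := @Cfsg.inducedFunctor.eq_def.{0}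
  have := @Cfsg.inducedIrrAbove.eq_1.{0}
  have := @Cfsg.inducedIrrAbove.eq_def.{0}
  have := @Cfsg.inndiagPOmegaMinus.eq_1.{0}
  have := @Cfsg.inndiagPOmegaMinus.eq_def.{0}
  have := @Cfsg.inndiagPOmegaOdd.eq_1.{0}
  trivial

theorem touch111 : True := by
  have := @Cfsg.inndiagPOmegaOdd.eq_def.{0}
  have := @Cfsg.inndiagPOmegaPlus.eq_1.{0}
  have := @Cfsg.inndiagPOmegaPlus.eq_def.{0}
  have := @Cfsg.inndiagPSL.eq_1.{0}
  have := @Cfsg.inndiagPSL.eq_def.{0}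
  have := @Cfsg.inndiagPSU.eq_1.{0}
  have := @Cfsg.inndiagPSU.eq_def.{0}
  have := @Cfsg.inndiagPSp.eq_1.{0}
  have := @Cfsg.inndiagPSp.eq_def.{0}
  have := @Cfsg.innerFusionSystem.eq_1.{0}
  have := @Cfsg.innerFusionSystem.eq_def.{0}
  have := @Cfsg.instDecidableEqLieFamily.decEq.eq_1
  have := @Cfsg.instDecidableEqLieFamily.decEq.eq_def
  have := @Cfsg.instDecidableEqLieFamily.eq_1
  have := @Cfsg.instDecidableEqLieFamily.eq_def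
  have := @Cfsg.instDecidableEqLieFamilyTwo.decEq.eq_1
  have := @Cfsg.instDecidableEqLieFamilyTwo.decEq.eq_def
  have := @Cfsg.instDecidableEqLieFamilyTwo.eq_1
  have := @Cfsg.instDecidableEqLieFamilyTwo.eq_def
  have := @Cfsg.invSubgroups.eq_1.{0}
  have := @Cfsg.invSubgroups.eq_def.{0}
  have := @Cfsg.invertedBy.eq_1.{0}
  have := @Cfsg.invertedBy.eq_def.{0}
  have := @Cfsg.involutionsIn.eq_1.{0}
  have := @Cfsg.involutionsIn.eq_def.{0}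
  have := @Cfsg.isometryGroup.eq_1.{0}
  have := @Cfsg.isometryGroup.eq_def.{0}
  have := @Cfsg.iterCommutator.eq_1.{0}
  have := @Cfsg.iterCommutator.eq_2.{0}
  have := @Cfsg.iterCommutator.eq_def.{0}
  have := @Cfsg.jComponentsOutside.eq_1.{0}
  have := @Cfsg.jComponentsOutside.eq_def.{0}
  have := @Cfsg.jComponentsZero.eq_1.{0}
  have := @Cfsg.jComponentsZero.eq_def.{0}
  have := @Cfsg.jHat.eq_1.{0}
  have := @Cfsg.jHat.eq_def.{0}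
  have := @Cfsg.jOvergroups.eq_1.{0}
  have := @Cfsg.jOvergroups.eq_def.{0}
  have := @Cfsg.jankoMatrixX.eq_1
  have := @Cfsg.jankoMatrixX.eq_def
  trivial

theorem touch112 : True := by
  have := @Cfsg.jankoMatrixY.eq_1
  have := @Cfsg.jankoMatrixY.eq_def
  have := @Cfsg.jordanBlock.eq_1.{0}
  have := @Cfsg.jordanBlock.eq_def.{0}
  have := @Cfsg.jordanTypeMatrix.eq_1.{0}
  have := @Cfsg.jordanTypeMatrix.eq_def.{0}
  have := @Cfsg.kBalancedTheta.eq_1.{0}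
  have := @Cfsg.kBalancedTheta.eq_def.{0}
  have := @Cfsg.kGeneratedCore.eq_1.{0}
  have := @Cfsg.kGeneratedCore.eq_def.{0}
  have := @Cfsg.kInfLower.eq_1.{0}
  have := @Cfsg.kInfLower.eq_def.{0}
  have := @Cfsg.kInfUpper.eq_1.{0}
  have := @Cfsg.kInfUpper.eq_def.{0}
  have := @Cfsg.kLowerStarFamily.eq_1.{0}
  have := @Cfsg.kLowerStarFamily.eq_def.{0}
  have := @Cfsg.kSeqEven.eq_1.{0}
  have := @Cfsg.kSeqEven.eq_def.{0}
  have := @Cfsg.kSeqOdd.eq_1.{0}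
  have := @Cfsg.kSeqOdd.eq_2.{0}
  have := @Cfsg.kSeqOdd.eq_def.{0}
  have := @Cfsg.kUpperStarFamily.eq_1.{0}
  have := @Cfsg.kUpperStarFamily.eq_def.{0}
  have := @Cfsg.kappa.eq_1.{0}
  have := @Cfsg.kappa.eq_def.{0}
  have := @Cfsg.largeBullet.eq_1.{0}
  have := @Cfsg.largeBullet.eq_def.{0}
  have := @Cfsg.largestPReduced.eq_1.{0}
  have := @Cfsg.largestPReduced.eq_def.{0}
  have := @Cfsg.largestPReducedOf.eq_1.{0}
  have := @Cfsg.largestPReducedOf.eq_def.{0}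
  have := @Cfsg.layer.eq_1.{0}
  have := @Cfsg.layer.eq_def.{0}
  have := @Cfsg.leadsTo.eq_1.{0}
  have := @Cfsg.leadsTo.eq_def.{0}
  have := @Cfsg.leechLattice.eq_1
  have := @Cfsg.leechLattice.eq_def
  have := @Cfsg.leechPerpU.eq_1
  have := @Cfsg.leechPerpU.eq_def
  have := @Cfsg.leechSet.eq_1
  trivial

theorem touch113 : True := by
  have := @Cfsg.leechSet.eq_def
  have := @Cfsg.linePartners.eq_1.{0}
  have := @Cfsg.linePartners.eq_def.{0}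
  have := @Cfsg.lowerUnipotentSL2.eq_1.{0}
  have := @Cfsg.lowerUnipotentSL2.eq_def.{0}
  have := @Cfsg.maxAbelianSubgroups.eq_1.{0}
  have := @Cfsg.maxAbelianSubgroups.eq_def.{0}
  have := @Cfsg.maxCentralProduct.eq_1.{0}
  have := @Cfsg.maxCentralProduct.eq_def.{0}
  have := @Cfsg.maxCentralizerProduct.eq_1.{0}
  have := @Cfsg.maxCentralizerProduct.eq_def.{0}
  have := @Cfsg.maxCharPSubgroups.eq_1.{0}
  have := @Cfsg.maxCharPSubgroups.eq_def.{0}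
  have := @Cfsg.maxElemAbelianOrder.eq_1.{0}
  have := @Cfsg.maxElemAbelianOrder.eq_def.{0}
  have := @Cfsg.maxElementaryAbelianSubgroups.eq_1.{0}
  have := @Cfsg.maxElementaryAbelianSubgroups.eq_def.{0}
  have := @Cfsg.maxInvSubgroups.eq_1.{0}
  have := @Cfsg.maxInvSubgroups.eq_def.{0}
  have := @Cfsg.maxOmegaCenterOfMinimalCL.eq_1.{0}
  have := @Cfsg.maxOmegaCenterOfMinimalCL.eq_def.{0}
  have := @Cfsg.maxStraddlingTwoSubgroups.eq_1.{0}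
  have := @Cfsg.maxStraddlingTwoSubgroups.eq_def.{0}
  have := @Cfsg.maxTwoLocalsContaining.eq_1.{0}
  have := @Cfsg.maxTwoLocalsContaining.eq_def.{0}
  have := @Cfsg.maxTwoLocalsNear.eq_1.{0}
  have := @Cfsg.maxTwoLocalsNear.eq_def.{0}
  have := @Cfsg.maxTwoLocalsOver.eq_1.{0}
  have := @Cfsg.maxTwoLocalsOver.eq_def.{0}
  have := @Cfsg.membersIn.eq_1.{0}
  have := @Cfsg.membersIn.eq_def.{0}
  have := @Cfsg.minimalCentrallyLargeJoin.eq_1.{0}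
  have := @Cfsg.minimalCentrallyLargeJoin.eq_def.{0}
  have := @Cfsg.minimalQuadraticElements.eq_1.{0,0}
  have := @Cfsg.minimalQuadraticElements.eq_def.{0,0}
  have := @Cfsg.moduleV.eq_1.{0}
  have := @Cfsg.moduleV.eq_def.{0}
  have := @Cfsg.monomialMap.eq_1.{0,0}
  have := @Cfsg.monomialMap.eq_def.{0,0}
  have := @Cfsg.nearUniquenessLocals.eq_1.{0}
  trivial

theorem touch114 : True := by
  have := @Cfsg.nearUniquenessLocals.eq_def.{0}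
  have := @Cfsg.nearUniquenessLocalsMax.eq_1.{0}
  have := @Cfsg.nearUniquenessLocalsMax.eq_def.{0}
  have := @Cfsg.neighbourKernel.eq_1.{0}
  have := @Cfsg.neighbourKernel.eq_def.{0}
  have := @Cfsg.nonQuasisimplePLayer.eq_1.{0}
  have := @Cfsg.nonQuasisimplePLayer.eq_def.{0}
  have := @Cfsg.nonidentity.eq_1.{0}
  have := @Cfsg.nonidentity.eq_def.{0}
  have := @Cfsg.normalizingMembers.eq_1.{0}
  have := @Cfsg.normalizingMembers.eq_def.{0}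
  have := @Cfsg.octads.eq_1
  have := @Cfsg.octads.eq_def
  have := @Cfsg.oddCore.eq_1.{0}
  have := @Cfsg.oddCore.eq_def.{0}
  have := @Cfsg.oddGenerated.eq_1.{0}
  have := @Cfsg.oddGenerated.eq_def.{0}
  have := @Cfsg.oddPartners.eq_1.{0}
  have := @Cfsg.oddPartners.eq_def.{0}
  have := @Cfsg.omegaCenterOf.eq_1.{0}
  have := @Cfsg.omegaCenterOf.eq_def.{0}
  have := @Cfsg.omegaCenterThompson.eq_1.{0}
  have := @Cfsg.omegaCenterThompson.eq_def.{0}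
  have := @Cfsg.omegaOne.eq_1.{0}
  have := @Cfsg.omegaOne.eq_def.{0}
  have := @Cfsg.omegaOneCenter.eq_1.{0}
  have := @Cfsg.omegaOneCenter.eq_def.{0}
  have := @Cfsg.omegaOneOf.eq_1.{0}
  have := @Cfsg.omegaOneOf.eq_def.{0}
  have := @Cfsg.pCore.eq_1.{0}
  have := @Cfsg.pCore.eq_def.{0}
  have := @Cfsg.pCoreOf.eq_1.{0}
  have := @Cfsg.pCoreOf.eq_def.{0}
  have := @Cfsg.pCoreTwoOf.eq_1.{0}
  have := @Cfsg.pCoreTwoOf.eq_def.{0}
  have := @Cfsg.pElementClosure.eq_1.{0}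
  have := @Cfsg.pElementClosure.eq_def.{0}
  have := @Cfsg.pLayer.eq_1.{0}
  have := @Cfsg.pLayer.eq_def.{0}
  have := @Cfsg.pLayerOf.eq_1.{0}
  trivial

theorem touch115 : True := by
  have := @Cfsg.pLayerOf.eq_def.{0}
  have := @Cfsg.pPrimeCore.eq_1.{0}
  have := @Cfsg.pPrimeCore.eq_def.{0}
  have := @Cfsg.pPrimePCore.eq_1.{0}
  have := @Cfsg.pPrimePCore.eq_def.{0}
  have := @Cfsg.pRank.eq_1.{0}
  have := @Cfsg.pRank.eq_def.{0}
  have := @Cfsg.pRegularPart.eq_1.{0}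
  have := @Cfsg.pRegularPart.eq_def.{0}
  have := @Cfsg.pResidual.eq_1.{0}
  have := @Cfsg.pResidual.eq_def.{0}
  have := @Cfsg.pResidualOf.eq_1.{0}
  have := @Cfsg.pResidualOf.eq_def.{0}
  have := @Cfsg.parabolicGL.eq_1.{0}
  have := @Cfsg.parabolicGL.eq_def.{0}
  have := @Cfsg.perfectCore.eq_1.{0}
  have := @Cfsg.perfectCore.eq_def.{0}
  have := @Cfsg.permConstants.eq_1.{0,0,0}
  have := @Cfsg.permConstants.eq_def.{0,0,0}
  have := @Cfsg.permRep.eq_1.{0,0,0}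
  have := @Cfsg.permRep.eq_def.{0,0,0}
  have := @Cfsg.permSumZero.eq_1.{0,0,0}
  have := @Cfsg.permSumZero.eq_def.{0,0,0}
  have := @Cfsg.pgoAut.eq_1.{0}
  have := @Cfsg.pgoAut.eq_def.{0}
  have := @Cfsg.piCore.eq_1.{0}
  have := @Cfsg.piCore.eq_def.{0}
  have := @Cfsg.piCoreOf.eq_1.{0}
  have := @Cfsg.piCoreOf.eq_def.{0}
  have := @Cfsg.poAut.eq_1.{0}
  have := @Cfsg.poAut.eq_def.{0}
  have := @Cfsg.pointBlockGraph.eq_1.{0}
  have := @Cfsg.pointBlockGraph.eq_def.{0}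
  have := @Cfsg.pointBlockRel.eq_1.{0}
  have := @Cfsg.pointBlockRel.eq_2.{0}
  have := @Cfsg.pointBlockRel.eq_3.{0}
  have := @Cfsg.pointBlockRel.eq_4.{0}
  have := @Cfsg.pointBlockRel.eq_def.{0}
  have := @Cfsg.pointStabilizer.eq_1.{0}
  have := @Cfsg.pointStabilizer.eq_def.{0}
  trivial

theorem touch116 : True := by
  have := @Cfsg.polarGramDet.eq_1.{0}
  have := @Cfsg.polarGramDet.eq_def.{0}
  have := @Cfsg.polarVec.eq_1.{0}
  have := @Cfsg.polarVec.eq_def.{0}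
  have := @Cfsg.powerClosure.eq_1.{0}
  have := @Cfsg.powerClosure.eq_def.{0}
  have := @Cfsg.preserving.eq_1.{0,0}
  have := @Cfsg.preserving.eq_def.{0,0}
  have := @Cfsg.primesNotDvd.eq_1
  have := @Cfsg.primesNotDvd.eq_def
  have := @Cfsg.principalBlock.eq_1.{0}
  have := @Cfsg.principalBlock.eq_def.{0}
  have := @Cfsg.productPartners.eq_1.{0}
  have := @Cfsg.productPartners.eq_def.{0}
  have := @Cfsg.projInv.eq_1
  have := @Cfsg.projInv.eq_def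
  have := @Cfsg.projInvFun.eq_1
  have := @Cfsg.projInvFun.eq_2
  have := @Cfsg.projInvFun.eq_def
  have := @Cfsg.projQuot.eq_1.{0}
  have := @Cfsg.projQuot.eq_def.{0}
  have := @Cfsg.psoAut.eq_1.{0}
  have := @Cfsg.psoAut.eq_def.{0}
  have := @Cfsg.puigLower.eq_1.{0}
  have := @Cfsg.puigLower.eq_def.{0}
  have := @Cfsg.puigSeq.eq_1.{0}
  have := @Cfsg.puigSeq.eq_2.{0}
  have := @Cfsg.puigSeq.eq_def.{0}
  have := @Cfsg.puigStep.eq_1.{0}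
  have := @Cfsg.puigStep.eq_def.{0}
  have := @Cfsg.puigSubgroup.eq_1.{0}
  have := @Cfsg.puigSubgroup.eq_def.{0}
  have := @Cfsg.qd.eq_1
  have := @Cfsg.qd.eq_def
  have := @Cfsg.qdOver.eq_1.{0}
  have := @Cfsg.qdOver.eq_def.{0}
  have := @Cfsg.qrWord.eq_1
  have := @Cfsg.qrWord.eq_2
  have := @Cfsg.qrWord.eq_def
  have := @Cfsg.quadFormMinus.eq_1.{0}
  trivial

theorem touch117 : True := by
  have := @Cfsg.quadFormMinus.eq_def.{0}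
  have := @Cfsg.quadFormOdd.eq_1.{0}
  have := @Cfsg.quadFormOdd.eq_def.{0}
  have := @Cfsg.quadFormPlus.eq_1.{0}
  have := @Cfsg.quadFormPlus.eq_def.{0}
  have := @Cfsg.quadraticElements.eq_1.{0,0}
  have := @Cfsg.quadraticElements.eq_def.{0,0}
  have := @Cfsg.quadraticRootSubgroups.eq_1.{0,0}
  have := @Cfsg.quadraticRootSubgroups.eq_def.{0,0}
  have := @Cfsg.quadraticUnipotentCore.eq_1.{0,0}
  have := @Cfsg.quadraticUnipotentCore.eq_def.{0,0}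
  have := @Cfsg.quartets.eq_1
  have := @Cfsg.quartets.eq_def
  have := @Cfsg.rankOneDiagonal.eq_1.{0}
  have := @Cfsg.rankOneDiagonal.eq_def.{0}
  have := @Cfsg.rankOnePartners.eq_1.{0}
  have := @Cfsg.rankOnePartners.eq_def.{0}
  have := @Cfsg.reflectionMatrix.eq_1.{0}
  have := @Cfsg.reflectionMatrix.eq_def.{0}
  have := @Cfsg.reflectionSubgroup.eq_1.{0}
  have := @Cfsg.reflectionSubgroup.eq_def.{0}
  have := @Cfsg.reflectionsOfNorm.eq_1.{0}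
  have := @Cfsg.reflectionsOfNorm.eq_def.{0}
  have := @Cfsg.relCharDegrees.eq_1.{0}
  have := @Cfsg.relCharDegrees.eq_def.{0}
  have := @Cfsg.rootElements.eq_1.{0}
  have := @Cfsg.rootElements.eq_def.{0}
  have := @Cfsg.sameActionClass.eq_1.{0,0}
  have := @Cfsg.sameActionClass.eq_def.{0,0}
  have := @Cfsg.sameActionSubgroup.eq_1.{0,0}
  have := @Cfsg.sameActionSubgroup.eq_def.{0,0}
  have := @Cfsg.sameCommutingClass.eq_1.{0}
  have := @Cfsg.sameCommutingClass.eq_def.{0}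
  have := @Cfsg.sameCommutingSubgroup.eq_1.{0}
  have := @Cfsg.sameCommutingSubgroup.eq_def.{0}
  have := @Cfsg.scalarFamily.eq_1.{0,0}
  have := @Cfsg.scalarFamily.eq_def.{0,0}
  have := @Cfsg.sectionKernel.eq_1.{0}
  have := @Cfsg.sectionKernel.eq_def.{0}
  have := @Cfsg.semiaffineGroup.eq_1.{0}
  trivial

theorem touch118 : True := by
  have := @Cfsg.semiaffineGroup.eq_def.{0}
  have := @Cfsg.setSystemAut.eq_1.{0}
  have := @Cfsg.setSystemAut.eq_def.{0}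
  have := @Cfsg.sextets.eq_1
  have := @Cfsg.sextets.eq_def
  have := @Cfsg.siegelMatrix.eq_1.{0}
  have := @Cfsg.siegelMatrix.eq_def.{0}
  have := @Cfsg.sigma.eq_1.{0}
  have := @Cfsg.sigma.eq_def.{0}
  have := @Cfsg.sigmaA.eq_1.{0}
  have := @Cfsg.sigmaA.eq_def.{0}
  have := @Cfsg.sigmaA0.eq_1.{0}
  have := @Cfsg.sigmaA0.eq_def.{0}
  have := @Cfsg.sigmaCore.eq_1.{0}
  have := @Cfsg.sigmaCore.eq_def.{0}
  have := @Cfsg.sigmaHat.eq_1.{0}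
  have := @Cfsg.sigmaHat.eq_def.{0}
  have := @Cfsg.sigmaSet.eq_1.{0}
  have := @Cfsg.sigmaSet.eq_def.{0}
  have := @Cfsg.sigmaZeroSet.eq_1.{0}
  have := @Cfsg.sigmaZeroSet.eq_def.{0}
  have := @Cfsg.signalizerClosure.eq_1.{0}
  have := @Cfsg.signalizerClosure.eq_def.{0}
  have := @Cfsg.signalizerDelta.eq_1.{0}
  have := @Cfsg.signalizerDelta.eq_def.{0}
  have := @Cfsg.signalizerFamily.eq_1.{0}
  have := @Cfsg.signalizerFamily.eq_def.{0}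
  have := @Cfsg.signalizerInf.eq_1.{0}
  have := @Cfsg.signalizerInf.eq_def.{0}
  have := @Cfsg.signedBijectionKernel.eq_1.{0,0}
  have := @Cfsg.signedBijectionKernel.eq_def.{0,0}
  have := @Cfsg.signedPerm.eq_1
  have := @Cfsg.signedPerm.eq_def
  have := @Cfsg.slToMat.eq_1.{0}
  have := @Cfsg.slToMat.eq_def.{0}
  have := @Cfsg.solvableRadical.eq_1.{0}
  have := @Cfsg.solvableRadical.eq_def.{0}
  have := @Cfsg.spGL.eq_1.{0}
  have := @Cfsg.spGL.eq_def.{0}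
  have := @Cfsg.spToMat.eq_1.{0}
  trivial

theorem touch119 : True := by
  have := @Cfsg.spToMat.eq_def.{0}
  have := @Cfsg.specialIsometryGL.eq_1.{0}
  have := @Cfsg.specialIsometryGL.eq_def.{0}
  have := @Cfsg.specialIsometryGroup.eq_1.{0}
  have := @Cfsg.specialIsometryGroup.eq_def.{0}
  have := @Cfsg.splitClassCount.eq_1.{0}
  have := @Cfsg.splitClassCount.eq_def.{0}
  have := @Cfsg.sqNorm.eq_1.{0}
  have := @Cfsg.sqNorm.eq_def.{0}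
  have := @Cfsg.stabilizing.eq_1.{0,0}
  have := @Cfsg.stabilizing.eq_def.{0,0}
  have := @Cfsg.stableNormalClosure.eq_1.{0}
  have := @Cfsg.stableNormalClosure.eq_def.{0}
  have := @Cfsg.stdCross.eq_1
  have := @Cfsg.stdCross.eq_def
  have := @Cfsg.straddlingTwoSubgroups.eq_1.{0}
  have := @Cfsg.straddlingTwoSubgroups.eq_def.{0}
  have := @Cfsg.suBlock.eq_1.{0}
  have := @Cfsg.suBlock.eq_def.{0}
  have := @Cfsg.subgroupBlockCoeff.eq_1.{0}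
  have := @Cfsg.subgroupBlockCoeff.eq_def.{0}
  have := @Cfsg.subgroupConjRight.eq_1.{0}
  have := @Cfsg.subgroupConjRight.eq_def.{0}
  have := @Cfsg.subgroupLayer.eq_1.{0}
  have := @Cfsg.subgroupLayer.eq_def.{0}
  have := @Cfsg.subnormalClosure.eq_1.{0}
  have := @Cfsg.subnormalClosure.eq_def.{0}
  have := @Cfsg.supportR.eq_1.{0}
  have := @Cfsg.supportR.eq_def.{0}
  have := @Cfsg.supports.eq_1.{0}
  have := @Cfsg.supports.eq_def.{0}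
  have := @Cfsg.support₂.eq_1.{0}
  have := @Cfsg.support₂.eq_def.{0}
  have := @Cfsg.suzukiForm.eq_1.{0}
  have := @Cfsg.suzukiForm.eq_def.{0}
  have := @Cfsg.suzukiOvoid.eq_1.{0}
  have := @Cfsg.suzukiOvoid.eq_def.{0}
  have := @Cfsg.suzukiPointInfinity.eq_1.{0}
  have := @Cfsg.suzukiPointInfinity.eq_def.{0}
  have := @Cfsg.suzukiPointZero.eq_1.{0}
  trivial

theorem touch120 : True := by
  have := @Cfsg.suzukiPointZero.eq_def.{0}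
  have := @Cfsg.suzukiTypeA.eq_1.{0}
  have := @Cfsg.suzukiTypeA.eq_def.{0}
  have := @Cfsg.sylowCenterClosure.eq_1.{0}
  have := @Cfsg.sylowCenterClosure.eq_def.{0}
  have := @Cfsg.sylowMembers.eq_1.{0}
  have := @Cfsg.sylowMembers.eq_def.{0}
  have := @Cfsg.sympForm.eq_1.{0}
  have := @Cfsg.sympForm.eq_def.{0}
  have := @Cfsg.sympTransvection.eq_1.{0}
  have := @Cfsg.sympTransvection.eq_def.{0}
  have := @Cfsg.systemNormalizer.eq_1.{0}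
  have := @Cfsg.systemNormalizer.eq_def.{0}
  have := @Cfsg.tau1.eq_1.{0}
  have := @Cfsg.tau1.eq_def.{0}
  have := @Cfsg.tau2.eq_1.{0}
  have := @Cfsg.tau2.eq_def.{0}
  have := @Cfsg.tau3.eq_1.{0}
  have := @Cfsg.tau3.eq_def.{0}
  have := @Cfsg.ternaryGolayCode.eq_1
  have := @Cfsg.ternaryGolayCode.eq_def
  have := @Cfsg.ternarySupport.eq_1.{0}
  have := @Cfsg.ternarySupport.eq_def.{0}
  have := @Cfsg.tetracode.eq_1
  have := @Cfsg.tetracode.eq_def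
  have := @Cfsg.thetaHalf.eq_1.{0}
  have := @Cfsg.thetaHalf.eq_def.{0}
  have := @Cfsg.thompsonSubgroup.eq_1.{0}
  have := @Cfsg.thompsonSubgroup.eq_def.{0}
  have := @Cfsg.thompsonSubgroupA.eq_1.{0}
  have := @Cfsg.thompsonSubgroupA.eq_def.{0}
  have := @Cfsg.thompsonSubgroupAOf.eq_1.{0}
  have := @Cfsg.thompsonSubgroupAOf.eq_def.{0}
  have := @Cfsg.thompsonSubgroupOf.eq_1.{0}
  have := @Cfsg.thompsonSubgroupOf.eq_def.{0}
  have := @Cfsg.threeTranspositionLines.eq_1.{0}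
  have := @Cfsg.threeTranspositionLines.eq_def.{0}
  have := @Cfsg.tildeOf.eq_1.{0}
  have := @Cfsg.tildeOf.eq_def.{0}
  have := @Cfsg.transportAut.eq_1.{0,0}
  trivial

theorem touch121 : True := by
  have := @Cfsg.transportAut.eq_def.{0,0}
  have := @Cfsg.trios.eq_1
  have := @Cfsg.trios.eq_def
  have := @Cfsg.twoCoreOfCentralizer.eq_1.{0}
  have := @Cfsg.twoCoreOfCentralizer.eq_def.{0}
  have := @Cfsg.twoPhiCore.eq_1.{0}
  have := @Cfsg.twoPhiCore.eq_def.{0}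
  have := @Cfsg.twoZCore.eq_1.{0}
  have := @Cfsg.twoZCore.eq_def.{0}
  have := @Cfsg.typeA.eq_1.{0}
  have := @Cfsg.typeA.eq_def.{0}
  have := @Cfsg.typeA0.eq_1.{0}
  have := @Cfsg.typeA0.eq_def.{0}
  have := @Cfsg.typeA1.eq_1.{0}
  have := @Cfsg.typeA1.eq_def.{0}
  have := @Cfsg.typeCore.eq_1.{0}
  have := @Cfsg.typeCore.eq_def.{0}
  have := @Cfsg.unipotentCharacterGL.eq_1.{0}
  have := @Cfsg.unipotentCharacterGL.eq_def.{0}
  have := @Cfsg.unipotentSubgroups.eq_1.{0}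
  have := @Cfsg.unipotentSubgroups.eq_def.{0}
  have := @Cfsg.unitaryTransvection.eq_1.{0}
  have := @Cfsg.unitaryTransvection.eq_def.{0}
  have := @Cfsg.upperPSeries.eq_1.{0}
  have := @Cfsg.upperPSeries.eq_2.{0}
  have := @Cfsg.upperPSeries.eq_def.{0}
  have := @Cfsg.upperTriangularGL.eq_1.{0}
  have := @Cfsg.upperTriangularGL.eq_def.{0}
  have := @Cfsg.upperUnipotentSL2.eq_1.{0}
  have := @Cfsg.upperUnipotentSL2.eq_def.{0}
  have := @Cfsg.vertexQ.eq_1.{0}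
  have := @Cfsg.vertexQ.eq_def.{0}
  have := @Cfsg.vertexStabilizer.eq_1.{0}
  have := @Cfsg.vertexStabilizer.eq_def.{0}
  have := @Cfsg.vertexVIter.eq_1.{0}
  have := @Cfsg.vertexVIter.eq_def.{0}
  have := @Cfsg.vertexZ.eq_1.{0}
  have := @Cfsg.vertexZ.eq_def.{0}
  have := @Cfsg.wOf.eq_1.{0}
  have := @Cfsg.wOf.eq_def.{0}
  trivial

theorem touch122 : True := by
  have := @Cfsg.weakClosure.eq_1.{0}
  have := @Cfsg.weakClosure.eq_def.{0}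
  have := @Cfsg.weaklyKBalancedTheta.eq_1.{0}
  have := @Cfsg.weaklyKBalancedTheta.eq_def.{0}
  have := @Cfsg.wordsOfWeight.eq_1.{0}
  have := @Cfsg.wordsOfWeight.eq_def.{0}
  have := @Cfsg.youngSubgroup.eq_1
  have := @Cfsg.youngSubgroup.eq_def
  have := @Cfsg.zspan.eq_1.{0}
  have := @Cfsg.zspan.eq_def.{0}
  have := @Cfsg.zspanOn.eq_1.{0}
  have := @Cfsg.zspanOn.eq_def.{0}
  have := @Classical.choose.eq_1.{0}
  have := @Classical.choose.eq_def.{0}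
  have := @Classical.propDecidable.eq_1
  have := @Classical.propDecidable.eq_def
  have := @Commute.eq_1.{0}
  have := @Commute.eq_def.{0}
  have := @Compl.compl.eq_1.{0}
  have := @Compl.compl.eq_def.{0}
  have := @Complex.re.eq_1
  have := @Complex.re.eq_def
  have := @DFunLike.coe.eq_1.{0,0,0}
  have := @DFunLike.coe.eq_def.{0,0,0}
  have := @Decidable.casesOn.eq_1.{0}
  have := @Decidable.casesOn.eq_def.{0}
  have := @Decidable.decide.eq_1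
  have := @Decidable.decide.eq_def
  have := @DecidableEq.eq_1.{0}
  have := @DecidableEq.eq_def.{0}
  have := @Disjoint.eq_1.{0}
  have := @Disjoint.eq_def.{0}
  have := @DoubleCoset.doubleCoset.eq_1.{0}
  have := @DoubleCoset.doubleCoset.eq_def.{0}
  have := @Dvd.dvd.eq_1.{0}
  have := @Dvd.dvd.eq_def.{0}
  have := @EmptyCollection.emptyCollection.eq_1.{0}
  have := @EmptyCollection.emptyCollection.eq_def.{0}
  have := @Eq.ndrec.eq_1.{0,0}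
  have := @Eq.ndrec.eq_def.{0,0}
  trivial

theorem touch123 : True := by
  have := @Equiv.Perm.eq_1.{0}
  have := @Equiv.Perm.eq_def.{0}
  have := @Equiv.Perm.sign.eq_1.{0}
  have := @Equiv.Perm.sign.eq_def.{0}
  have := @Equiv.Perm.sumCongr.eq_1.{0,0}
  have := @Equiv.Perm.sumCongr.eq_def.{0,0}
  have := @Equiv.ofBijective.eq_1.{0,0}
  have := @Equiv.ofBijective.eq_def.{0,0}
  have := @Equiv.sumComm.eq_1.{0,0}
  have := @Equiv.sumComm.eq_def.{0,0}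
  have := @Equiv.symm.eq_1.{0,0}
  have := @Equiv.symm.eq_def.{0,0}
  have := @Even.eq_1.{0}
  have := @Even.eq_def.{0}
  have := @Exists.choose.eq_1.{0}
  have := @Exists.choose.eq_def.{0}
  have := @ExistsUnique.eq_1.{0}
  have := @ExistsUnique.eq_def.{0}
  have := @False.elim.eq_1.{0}
  have := @False.elim.eq_def.{0}
  have := @Fin.casesOn.eq_1.{0}
  have := @Fin.casesOn.eq_def.{0}
  have := @Fin.castSucc.eq_1
  have := @Fin.castSucc.eq_def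
  have := @Fin.last.eq_1
  have := @Fin.last.eq_def
  have := @Fin.succ.eq_1
  have := @Fin.succ.eq_def
  have := @Fin.val.eq_1
  have := @Fin.val.eq_def
  have := @Finset.card.eq_1.{0}
  have := @Finset.card.eq_def.{0}
  have := @Finset.filter.eq_1.{0}
  have := @Finset.filter.eq_def.{0}
  have := @Finset.image.eq_1.{0,0}
  have := @Finset.image.eq_def.{0,0}
  have := @Finset.mulActionFinset.eq_1.{0,0}
  have := @Finset.mulActionFinset.eq_def.{0,0}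
  have := @Finset.powerset.eq_1.{0}
  have := @Finset.powerset.eq_def.{0}
  trivial

theorem touch124 : True := by
  have := @Finset.prod.eq_1.{0,0}
  have := @Finset.prod.eq_def.{0,0}
  have := @Finset.range.eq_1
  have := @Finset.range.eq_def
  have := @Finset.sum.eq_1.{0,0}
  have := @Finset.sum.eq_def.{0,0}
  have := @Finset.univ.eq_1.{0}
  have := @Finset.univ.eq_def.{0}
  have := @Fintype.card.eq_1.{0}
  have := @Fintype.card.eq_def.{0}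
  have := @Fintype.ofFinite.eq_1.{0}
  have := @Fintype.ofFinite.eq_def.{0}
  have := @FreeGroup.eq_1.{0}
  have := @FreeGroup.eq_def.{0}
  have := @FreeGroup.of.eq_1.{0}
  have := @FreeGroup.of.eq_def.{0}
  have := @FunLike.eq_1.{0,0,0}
  have := @FunLike.eq_def.{0,0,0}
  have := @Function.Bijective.eq_1.{0,0}
  have := @Function.Bijective.eq_def.{0,0}
  have := @Function.Injective.eq_1.{0,0}
  have := @Function.Injective.eq_def.{0,0}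
  have := @Function.LeftInverse.eq_1.{0,0}
  have := @Function.LeftInverse.eq_def.{0,0}
  have := @Function.RightInverse.eq_1.{0,0}
  have := @Function.RightInverse.eq_def.{0,0}
  have := @Function.Surjective.eq_1.{0,0}
  have := @Function.Surjective.eq_def.{0,0}
  have := @Function.comp.eq_1.{0,0,0}
  have := @Function.comp.eq_def.{0,0,0}
  have := @Function.extend.eq_1.{0,0,0}
  have := @Function.extend.eq_def.{0,0,0}
  have := @GT.gt.eq_1.{0}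
  have := @GT.gt.eq_def.{0}
  have := @GaloisField.eq_1
  have := @GaloisField.eq_def
  have := @GaussianInt.eq_1
  have := @GaussianInt.eq_def
  have := @GetElem?.getElem?.eq_1.{0,0,0}
  have := @GetElem?.getElem?.eq_def.{0,0,0}
  trivial

theorem touch125 : True := by
  have := @HAdd.hAdd.eq_1.{0,0,0}
  have := @HAdd.hAdd.eq_def.{0,0,0}
  have := @HAppend.hAppend.eq_1.{0,0,0}
  have := @HAppend.hAppend.eq_def.{0,0,0}
  have := @HDiv.hDiv.eq_1.{0,0,0}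
  have := @HDiv.hDiv.eq_def.{0,0,0}
  have := @HMod.hMod.eq_1.{0,0,0}
  have := @HMod.hMod.eq_def.{0,0,0}
  have := @HMul.hMul.eq_1.{0,0,0}
  have := @HMul.hMul.eq_def.{0,0,0}
  have := @HPow.hPow.eq_1.{0,0,0}
  have := @HPow.hPow.eq_def.{0,0,0}
  have := @HSMul.hSMul.eq_1.{0,0,0}
  have := @HSMul.hSMul.eq_def.{0,0,0}
  have := @HSub.hSub.eq_1.{0,0,0}
  have := @HSub.hSub.eq_def.{0,0,0}
  have := @HasQuotient.Quotient.eq_1.{0,0}
  have := @HasQuotient.Quotient.eq_def.{0,0}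
  have := @Ideal.eq_1.{0}
  have := @Ideal.eq_def.{0}
  have := @InfSet.sInf.eq_1.{0}
  have := @InfSet.sInf.eq_def.{0}
  have := @Insert.insert.eq_1.{0,0}
  have := @Insert.insert.eq_def.{0,0}
  have := @Int.ModEq.eq_1
  have := @Int.ModEq.eq_def
  have := @Int.cast.eq_1.{0}
  have := @Int.cast.eq_def.{0}
  have := @Int.natAbs.eq_1
  have := @Int.natAbs.eq_2
  have := @Int.natAbs.eq_def
  have := @Int.toNat.eq_1
  have := @Int.toNat.eq_2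
  have := @Int.toNat.eq_def
  have := @Inter.inter.eq_1.{0}
  have := @Inter.inter.eq_def.{0}
  have := @Inv.inv.eq_1.{0}
  have := @Inv.inv.eq_def.{0}
  have := @IsCoatom.eq_1.{0}
  have := @IsCoatom.eq_def.{0}
  trivial

theorem touch126 : True := by
  have := @IsConj.eq_1.{0}
  have := @IsConj.eq_def.{0}
  have := @IsPGroup.eq_1.{0}
  have := @IsPGroup.eq_def.{0}
  have := @IsPrimePow.eq_1.{0}
  have := @IsPrimePow.eq_def.{0}
  have := @IsSquare.eq_1.{0}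
  have := @IsSquare.eq_def.{0}
  have := @LE.le.eq_1.{0}
  have := @LE.le.eq_def.{0}
  have := @LT.lt.eq_1.{0}
  have := @LT.lt.eq_def.{0}
  have := @LinearEquiv.toLinearMap.eq_1.{0,0,0,0}
  have := @LinearEquiv.toLinearMap.eq_def.{0,0,0,0}
  have := @LinearMap.BilinForm.eq_1.{0,0}
  have := @LinearMap.BilinForm.eq_def.{0,0}
  have := @LinearMap.GeneralLinearGroup.eq_1.{0,0}
  have := @LinearMap.GeneralLinearGroup.eq_def.{0,0}
  have := @LinearMap.Nondegenerate.eq_1.{0,0,0,0,0,0}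
  have := @LinearMap.Nondegenerate.eq_def.{0,0,0,0,0,0}
  have := @LinearMap.det.eq_def.{0,0}
  have := @LinearMap.det_def.{0,0}
  have := @LinearMap.ker.eq_1.{0,0,0,0}
  have := @LinearMap.ker.eq_def.{0,0,0,0}
  have := @LinearMap.range.eq_1.{0,0,0,0}
  have := @LinearMap.range.eq_def.{0,0,0,0}
  have := @List.all.eq_1.{0}
  have := @List.all.eq_2.{0}
  have := @List.all.eq_def.{0}
  have := @List.any.eq_1.{0}
  have := @List.any.eq_2.{0}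
  have := @List.any.eq_def.{0}
  have := @List.filter.eq_1.{0}
  have := @List.filter.eq_2.{0}
  have := @List.filter.eq_def.{0}
  have := @List.filterMap.eq_1.{0,0}
  have := @List.filterMap.eq_2.{0,0}
  have := @List.filterMap.eq_def.{0,0}
  have := @List.finRange.eq_1
  have := @List.finRange.eq_def
  trivial

theorem touch127 : True := by
  have := @List.find?.eq_1.{0}
  have := @List.find?.eq_2.{0}
  have := @List.find?.eq_def.{0}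
  have := @List.flatMap.eq_1.{0,0}
  have := @List.flatMap.eq_def.{0,0}
  have := @List.length.eq_1.{0}
  have := @List.length.eq_2.{0}
  have := @List.length.eq_def.{0}
  have := @List.map.eq_1.{0,0}
  have := @List.map.eq_2.{0,0}
  have := @List.map.eq_def.{0,0}
  have := @List.ofFn.eq_1.{0}
  have := @List.ofFn.eq_def.{0}
  have := @List.prod.eq_1.{0}
  have := @List.prod.eq_def.{0}
  have := @List.range.eq_1
  have := @List.range.eq_def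
  have := @List.sum.eq_1.{0}
  have := @List.sum.eq_def.{0}
  have := @List.take.eq_1.{0}
  have := @List.take.eq_2.{0}
  have := @List.take.eq_3.{0}
  have := @List.take.eq_def.{0}
  have := @List.toArray.eq_1.{0}
  have := @List.toArray.eq_def.{0}
  have := @List.zipIdx.eq_1.{0}
  have := @List.zipIdx.eq_2.{0}
  have := @List.zipIdx.eq_def.{0}
  have := @Matrix.BlockTriangular.eq_1.{0,0,0}
  have := @Matrix.BlockTriangular.eq_def.{0,0,0}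
  have := @Matrix.GeneralLinearGroup.det.eq_1.{0,0}
  have := @Matrix.GeneralLinearGroup.det.eq_def.{0,0}
  have := @Matrix.GeneralLinearGroup.eq_1.{0,0}
  have := @Matrix.GeneralLinearGroup.eq_def.{0,0}
  have := @Matrix.GeneralLinearGroup.map.eq_1.{0,0,0}
  have := @Matrix.GeneralLinearGroup.map.eq_def.{0,0,0}
  have := @Matrix.IsSymm.eq_1.{0,0}
  have := @Matrix.IsSymm.eq_def.{0,0}
  have := @Matrix.J.eq_1.{0,0}
  have := @Matrix.J.eq_def.{0,0}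
  trivial

theorem touch128 : True := by
  have := @Matrix.ProjectiveSpecialLinearGroup.eq_1.{0,0}
  have := @Matrix.ProjectiveSpecialLinearGroup.eq_def.{0,0}
  have := @Matrix.SpecialLinearGroup.eq_1.{0,0}
  have := @Matrix.SpecialLinearGroup.eq_def.{0,0}
  have := @Matrix.SpecialLinearGroup.toGL.eq_1.{0,0}
  have := @Matrix.SpecialLinearGroup.toGL.eq_def.{0,0}
  have := @Matrix.blockDiagonal'.eq_1.{0,0,0,0}
  have := @Matrix.blockDiagonal'.eq_def.{0,0,0,0}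
  have := @Matrix.det.eq_1.{0,0}
  have := @Matrix.det.eq_def.{0,0}
  have := @Matrix.diagonal.eq_1.{0,0}
  have := @Matrix.diagonal.eq_def.{0,0}
  have := @Matrix.eq_1.{0,0,0}
  have := @Matrix.eq_def.{0,0,0}
  have := @Matrix.kroneckerMap.eq_1.{0,0,0,0,0,0,0}
  have := @Matrix.kroneckerMap.eq_def.{0,0,0,0,0,0,0}
  have := @Matrix.map.eq_1.{0,0,0,0}
  have := @Matrix.map.eq_def.{0,0,0,0}
  have := @Matrix.mulVec.eq_1.{0,0,0}
  have := @Matrix.mulVec.eq_def.{0,0,0}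
  have := @Matrix.of.eq_1.{0,0,0}
  have := @Matrix.of.eq_def.{0,0,0}
  have := @Matrix.rank.eq_1.{0,0,0}
  have := @Matrix.rank.eq_def.{0,0,0}
  have := @Matrix.reindexAlgEquiv.eq_1.{0,0,0,0}
  have := @Matrix.reindexAlgEquiv.eq_def.{0,0,0,0}
  have := @Matrix.scalar.eq_1.{0,0}
  have := @Matrix.scalar.eq_def.{0,0}
  have := @Matrix.symplecticGroup.eq_1.{0,0}
  have := @Matrix.symplecticGroup.eq_def.{0,0}
  have := @Matrix.toLin'.eq_1.{0,0,0}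
  have := @Matrix.toLin'.eq_def.{0,0,0}
  have := @Matrix.trace.eq_1.{0,0}
  have := @Matrix.trace.eq_def.{0,0}
  have := @Matrix.transpose.eq_1.{0,0,0}
  have := @Matrix.transpose.eq_def.{0,0,0}
  have := @Matrix.vecCons.eq_1.{0}
  have := @Matrix.vecCons.eq_def.{0}
  have := @Matrix.vecEmpty.eq_1.{0}
  have := @Matrix.vecEmpty.eq_def.{0}
  trivial

theorem touch129 : True := by
  have := @Matrix.vecMulVec.eq_1.{0,0,0}
  have := @Matrix.vecMulVec.eq_def.{0,0,0}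
  have := @Max.max.eq_1.{0}
  have := @Max.max.eq_def.{0}
  have := @Maximal.eq_1.{0}
  have := @Maximal.eq_def.{0}
  have := @Membership.mem.eq_1.{0,0}
  have := @Membership.mem.eq_def.{0,0}
  have := @Min.min.eq_1.{0}
  have := @Min.min.eq_def.{0}
  have := @Module.End.eigenspace.eq_1.{0,0}
  have := @Module.End.eigenspace.eq_def.{0,0}
  have := @Module.finrank.eq_1.{0,0}
  have := @Module.finrank.eq_def.{0,0}
  have := @Monoid.exponent.eq_1.{0}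
  have := @Monoid.exponent.eq_def.{0}
  have := @Monoid.toOne.eq_1.{0}
  have := @Monoid.toOne.eq_def.{0}
  have := @MonoidHom.codRestrict.eq_1.{0,0,0}
  have := @MonoidHom.codRestrict.eq_def.{0,0,0}
  have := @MonoidHom.comp.eq_1.{0,0,0}
  have := @MonoidHom.comp.eq_def.{0,0,0}
  have := @MonoidHom.fst.eq_1.{0,0}
  have := @MonoidHom.fst.eq_def.{0,0}
  have := @MonoidHom.ker.eq_1.{0,0}
  have := @MonoidHom.ker.eq_def.{0,0}
  have := @MonoidHom.range.eq_1.{0,0}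
  have := @MonoidHom.range.eq_def.{0,0}
  have := @MonoidHom.snd.eq_1.{0,0}
  have := @MonoidHom.snd.eq_def.{0,0}
  have := @Monotone.eq_1.{0,0}
  have := @Monotone.eq_def.{0,0}
  have := @MulAction.IsMultiplyPretransitive.eq_1.{0,0}
  have := @MulAction.IsMultiplyPretransitive.eq_def.{0,0}
  have := @MulAction.fixedBy.eq_1.{0,0}
  have := @MulAction.fixedBy.eq_def.{0,0}
  have := @MulAction.stabilizer.eq_1.{0,0}
  have := @MulAction.stabilizer.eq_def.{0,0}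
  have := @MulAut.conj.eq_1.{0}
  have := @MulAut.conj.eq_def.{0}
  trivial

theorem touch130 : True := by
  have := @MulAut.eq_1.{0}
  have := @MulAut.eq_def.{0}
  have := @MulEquiv.refl.eq_1.{0}
  have := @MulEquiv.refl.eq_def.{0}
  have := @MulEquiv.symm.eq_1.{0,0}
  have := @MulEquiv.symm.eq_def.{0,0}
  have := @MulEquiv.toMonoidHom.eq_1.{0,0}
  have := @MulEquiv.toMonoidHom.eq_def.{0,0}
  have := @MulEquiv.trans.eq_1.{0,0,0}
  have := @MulEquiv.trans.eq_def.{0,0,0}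
  have := @Multiplicative.eq_1.{0}
  have := @Multiplicative.eq_def.{0}
  have := @Multiplicative.toAdd.eq_1.{0}
  have := @Multiplicative.toAdd.eq_def.{0}
  have := @Nat.Coprime.eq_1
  have := @Nat.Coprime.eq_def
  have := @Nat.Internal.elimOffset.eq_1.{0}
  have := @Nat.Internal.elimOffset.eq_def.{0}
  have := @Nat.Prime.eq_1
  have := @Nat.Prime.eq_def
  have := @Nat.Primes.eq_1
  have := @Nat.Primes.eq_def
  have := @Nat.add.eq_1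
  have := @Nat.add.eq_2
  have := @Nat.add.eq_def
  have := @Nat.below.eq_1.{0}
  have := @Nat.below.eq_def.{0}
  have := @Nat.ble.eq_1
  have := @Nat.ble.eq_2
  have := @Nat.ble.eq_3
  have := @Nat.ble.eq_def
  have := @Nat.brecOn.eq_1.{0}
  have := @Nat.brecOn.eq_def.{0}
  have := @Nat.card.eq_1.{0}
  have := @Nat.card.eq_def.{0}
  have := @Nat.casesOn.eq_1.{0}
  have := @Nat.casesOn.eq_def.{0}
  have := @Nat.cast.eq_1.{0}
  have := @Nat.cast.eq_def.{0}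
  have := @Nat.ctorIdx.eq_1
  trivial

theorem touch131 : True := by
  have := @Nat.ctorIdx.eq_def
  have := @Nat.decEq.eq_1
  have := @Nat.decEq.eq_def
  have := @Nat.factorization.eq_1
  have := @Nat.factorization.eq_def
  have := @Nat.floor.eq_1.{0}
  have := @Nat.floor.eq_def.{0}
  have := @Nat.gcd.eq_1
  have := @Nat.gcd.eq_def
  have := @Nat.hasNotBit.eq_1
  have := @Nat.hasNotBit.eq_def
  have := @Nat.land.eq_1
  have := @Nat.land.eq_def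
  have := @Nat.shiftRight.eq_1
  have := @Nat.shiftRight.eq_2
  have := @Nat.shiftRight.eq_def
  have := @Ne.eq_1.{0}
  have := @Ne.eq_def.{0}
  have := @Neg.neg.eq_1.{0}
  have := @Neg.neg.eq_def.{0}
  have := @Not.eq_1
  have := @Not.eq_def
  have := @Odd.eq_1.{0}
  have := @Odd.eq_def.{0}
  have := @OfNat.ofNat.eq_1.{0}
  have := @OfNat.ofNat.eq_def.{0}
  have := @Option.bind.eq_1.{0,0}
  have := @Option.bind.eq_2.{0,0}
  have := @Option.bind.eq_def.{0,0}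
  have := @Option.casesOn.eq_1.{0,0}
  have := @Option.casesOn.eq_def.{0,0}
  have := @Option.ctorIdx.eq_1.{0}
  have := @Option.ctorIdx.eq_def.{0}
  have := @Option.getD.eq_1.{0}
  have := @Option.getD.eq_2.{0}
  have := @Option.getD.eq_def.{0}
  have := @Option.map.eq_1.{0,0}
  have := @Option.map.eq_2.{0,0}
  have := @Option.map.eq_def.{0,0}
  have := @PULift.down.eq_1.{0,0}
  trivial

theorem touch132 : True := by
  have := @PULift.down.eq_def.{0,0}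
  have := @Pi.single.eq_1.{0,0}
  have := @Pi.single.eq_def.{0,0}
  have := @PresentedGroup.eq_1.{0}
  have := @PresentedGroup.eq_def.{0}
  have := @PresentedGroup.mk.eq_1.{0}
  have := @PresentedGroup.mk.eq_def.{0}
  have := @PresentedGroup.of.eq_1.{0}
  have := @PresentedGroup.of.eq_def.{0}
  have := @Prod.fst.eq_1.{0,0}
  have := @Prod.fst.eq_def.{0,0}
  have := @Prod.snd.eq_1.{0,0}
  have := @Prod.snd.eq_def.{0,0}
  have := @Projectivization.eq_1.{0,0}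
  have := @Projectivization.eq_def.{0,0}
  have := @Projectivization.mk.eq_1.{0,0}
  have := @Projectivization.mk.eq_def.{0,0}
  have := @Pure.pure.eq_1.{0,0}
  have := @Pure.pure.eq_def.{0,0}
  have := @QuadraticForm.eq_1.{0,0}
  have := @QuadraticForm.eq_def.{0,0}
  have := @QuadraticMap.polar.eq_1.{0,0}
  have := @QuadraticMap.polar.eq_def.{0,0}
  have := @QuadraticMap.polarBilin.eq_1.{0,0,0}
  have := @QuadraticMap.polarBilin.eq_def.{0,0,0}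
  have := @Quaternion.eq_1.{0}
  have := @Quaternion.eq_def.{0}
  have := @QuotientGroup.mk'.eq_1.{0}
  have := @QuotientGroup.mk'.eq_def.{0}
  have := @QuotientGroup.mk.eq_1.{0}
  have := @QuotientGroup.mk.eq_def.{0}
  have := @Real.sqrt.eq_1
  have := @Real.sqrt.eq_def
  have := @Representation.IsIrreducible.eq_1.{0,0,0}
  have := @Representation.IsIrreducible.eq_def.{0,0,0}
  have := @Representation.character.eq_1.{0,0,0}
  have := @Representation.character.eq_def.{0,0,0}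
  have := @Representation.eq_1.{0,0,0}
  have := @Representation.eq_def.{0,0,0}
  have := @RingEquiv.refl.eq_1.{0}
  trivial

theorem touch133 : True := by
  have := @RingEquiv.refl.eq_def.{0}
  have := @RingHom.id.eq_1.{0}
  have := @RingHom.id.eq_def.{0}
  have := @RingHom.toMonoidHom.eq_1.{0,0}
  have := @RingHom.toMonoidHom.eq_def.{0,0}
  have := @SDiff.sdiff.eq_1.{0}
  have := @SDiff.sdiff.eq_def.{0}
  have := @Set.BijOn.eq_1.{0,0}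
  have := @Set.BijOn.eq_def.{0,0}
  have := @Set.Elem.eq_1.{0}
  have := @Set.Elem.eq_def.{0}
  have := @Set.Finite.eq_1.{0}
  have := @Set.Finite.eq_def.{0}
  have := @Set.Nonempty.eq_1.{0}
  have := @Set.Nonempty.eq_def.{0}
  have := @Set.Subsingleton.eq_1.{0}
  have := @Set.Subsingleton.eq_def.{0}
  have := @Set.eq_1.{0}
  have := @Set.eq_def.{0}
  have := @Set.image.eq_1.{0,0}
  have := @Set.image.eq_def.{0,0}
  have := @Set.mulActionSet.eq_1.{0,0}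
  have := @Set.mulActionSet.eq_def.{0,0}
  have := @Set.ncard.eq_1.{0}
  have := @Set.ncard.eq_def.{0}
  have := @Set.ofPred.eq_1.{0}
  have := @Set.ofPred.eq_def.{0}
  have := @Set.range.eq_1.{0,0}
  have := @Set.range.eq_def.{0,0}
  have := @Set.sInter.eq_1.{0}
  have := @Set.sInter.eq_def.{0}
  have := @SetLike.coe.eq_1.{0,0}
  have := @SetLike.coe.eq_def.{0,0}
  have := @Sigma.fst.eq_1.{0,0}
  have := @Sigma.fst.eq_def.{0,0}
  have := @Sigma.snd.eq_1.{0,0}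
  have := @Sigma.snd.eq_def.{0,0}
  have := @SimpleGraph.dist.eq_1.{0}
  have := @SimpleGraph.dist.eq_def.{0}
  have := @SimpleGraph.fromRel.eq_1.{0}
  trivial

theorem touch134 : True := by
  have := @SimpleGraph.fromRel.eq_def.{0}
  have := @SimpleGraph.neighborSet.eq_1.{0}
  have := @SimpleGraph.neighborSet.eq_def.{0}
  have := @Singleton.singleton.eq_1.{0,0}
  have := @Singleton.singleton.eq_def.{0,0}
  have := @SizeOf.sizeOf.eq_1.{0}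
  have := @SizeOf.sizeOf.eq_def.{0}
  have := @Star.star.eq_1.{0}
  have := @Star.star.eq_def.{0}
  have := @SubNegMonoid.sub'.eq_1.{0}
  have := @SubNegMonoid.sub'.eq_def.{0}
  have := @Subfield.subtype.eq_1.{0}
  have := @Subfield.subtype.eq_def.{0}
  have := @Subgroup.IsComplement'.eq_1.{0}
  have := @Subgroup.IsComplement'.eq_def.{0}
  have := @Subgroup.center.eq_1.{0}
  have := @Subgroup.center.eq_def.{0}
  have := @Subgroup.centralizer.eq_1.{0}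
  have := @Subgroup.centralizer.eq_def.{0}
  have := @Subgroup.closure.eq_1.{0}
  have := @Subgroup.closure.eq_def.{0}
  have := @Subgroup.comap.eq_1.{0,0}
  have := @Subgroup.comap.eq_def.{0,0}
  have := @Subgroup.inclusion.eq_1.{0}
  have := @Subgroup.inclusion.eq_def.{0}
  have := @Subgroup.index.eq_1.{0}
  have := @Subgroup.index.eq_def.{0}
  have := @Subgroup.map.eq_1.{0,0}
  have := @Subgroup.map.eq_def.{0,0}
  have := @Subgroup.normalClosure.eq_1.{0}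
  have := @Subgroup.normalClosure.eq_def.{0}
  have := @Subgroup.normalizer.eq_1.{0}
  have := @Subgroup.normalizer.eq_def.{0}
  have := @Subgroup.pointwiseMulAction.eq_1.{0,0}
  have := @Subgroup.pointwiseMulAction.eq_def.{0,0}
  have := @Subgroup.prod.eq_1.{0,0}
  have := @Subgroup.prod.eq_def.{0,0}
  have := @Subgroup.relIndex.eq_1.{0}
  have := @Subgroup.relIndex.eq_def.{0}
  have := @Subgroup.subgroupOf.eq_1.{0}
  trivial

theorem touch135 : True := by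
  have := @Subgroup.subgroupOf.eq_def.{0}
  have := @Subgroup.subtype.eq_1.{0}
  have := @Subgroup.subtype.eq_def.{0}
  have := @Subgroup.zpowers.eq_1.{0}
  have := @Subgroup.zpowers.eq_def.{0}
  have := @Submodule.map.eq_1.{0,0,0,0}
  have := @Submodule.map.eq_def.{0,0,0,0}
  have := @Submodule.span.eq_1.{0,0}
  have := @Submodule.span.eq_def.{0,0}
  have := @Submonoid.subtype.eq_1.{0}
  have := @Submonoid.subtype.eq_def.{0}
  have := @Subring.closure.eq_1.{0}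
  have := @Subring.closure.eq_def.{0}
  have := @Subtype.val.eq_1.{0}
  have := @Subtype.val.eq_def.{0}
  have := @Sum.casesOn.eq_1.{0,0,0}
  have := @Sum.casesOn.eq_def.{0,0,0}
  have := @Sum.ctorIdx.eq_1.{0,0}
  have := @Sum.ctorIdx.eq_def.{0,0}
  have := @Sum.elim.eq_1.{0,0,0}
  have := @Sum.elim.eq_def.{0,0,0}
  have := @SupSet.sSup.eq_1.{0}
  have := @SupSet.sSup.eq_def.{0}
  have := @Sylow.toSubgroup.eq_1.{0}
  have := @Sylow.toSubgroup.eq_def.{0}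
  have := @Top.top.eq_1.{0}
  have := @Top.top.eq_def.{0}
  have := @Union.union.eq_1.{0}
  have := @Union.union.eq_def.{0}
  have := @Unit.eq_1
  have := @Unit.eq_def
  have := @Unit.unit.eq_1
  have := @Unit.unit.eq_def
  have := @Units.coeHom.eq_1.{0}
  have := @Units.coeHom.eq_def.{0}
  have := @Units.map.eq_1.{0,0}
  have := @Units.map.eq_def.{0,0}
  have := @Units.mapEquiv.eq_1.{0,0}
  have := @Units.mapEquiv.eq_def.{0,0}
  have := @Units.val.eq_1.{0}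
  trivial

theorem touch136 : True := by
  have := @Units.val.eq_def.{0}
  have := @ZMod.eq_1
  have := @ZMod.eq_2
  have := @ZMod.eq_def
  have := @ZMod.val.eq_1
  have := @ZMod.val.eq_2
  have := @ZMod.val.eq_def
  have := @Zsqrtd.norm.eq_1
  have := @Zsqrtd.norm.eq_def
  have := @alternatingGroup.eq_1.{0}
  have := @alternatingGroup.eq_def.{0}
  have := @autoParam.eq_1.{0}
  have := @autoParam.eq_def.{0}
  have := @bne.eq_1.{0}
  have := @bne.eq_def.{0}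
  have := @commutator.eq_1.{0}
  have := @commutator.eq_def.{0}
  have := @cond.eq_1.{0}
  have := @cond.eq_2.{0}
  have := @cond.eq_def.{0}
  have := @conjugatesOf.eq_1.{0}
  have := @conjugatesOf.eq_def.{0}
  have := @decEq.eq_1.{0}
  have := @decEq.eq_def.{0}
  have := @dite.eq_1.{0}
  have := @dite.eq_def.{0}
  have := @dotProduct.eq_1.{0,0}
  have := @dotProduct.eq_def.{0,0}
  have := @finsum.eq_def.{0,0}
  have := @finsum_def'.{0,0}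
  have := @frattini.eq_1.{0}
  have := @frattini.eq_def.{0}
  have := @iInf.eq_1.{0,0}
  have := @iInf.eq_def.{0,0}
  have := @iSup.eq_1.{0,0}
  have := @iSup.eq_def.{0,0}
  have := @iSupIndep.eq_1.{0,0}
  have := @iSupIndep.eq_def.{0,0}
  have := @id.eq_1.{0}
  have := @id.eq_def.{0}
  trivial

theorem touch137 : True := by
  have := @inferInstance.eq_1.{0}
  have := @inferInstance.eq_def.{0}
  have := @integralClosure.eq_1.{0,0}
  have := @integralClosure.eq_def.{0,0}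
  have := @ite.eq_1.{0}
  have := @ite.eq_def.{0}
  have := @noConfusionEnum.eq_1.{0,0,0}
  have := @noConfusionEnum.eq_def.{0,0,0}
  have := @noConfusionTypeEnum.eq_1.{0,0,0}
  have := @noConfusionTypeEnum.eq_def.{0,0,0}
  have := @npowRecAuto.eq_1.{0}
  have := @npowRecAuto.eq_def.{0}
  have := @orderOf.eq_1.{0}
  have := @orderOf.eq_def.{0}
  have := @ringChar.eq_1.{0}
  have := @ringChar.eq_def.{0}
  have := @starRingEnd.eq_1.{0}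
  have := @starRingEnd.eq_def.{0}
  trivial

end Cfsg.Agent.EqLemmas
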