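import Cfsg.Statements.S0727
import Cfsg.Agent.Lib.Perm.SharpThreeExchange
import Cfsg.Agent.EqLemmas

set_option autoImplicit false
open Cfsg

namespace Cfsg.Agent.S0727

/-- A sharply triply transitive permutation group of degree `2^f + 1` is isomorphic to the projective general linear group of degree 2 over the field with `2^f` elements. -/
theorem result {α : Type*} [Fintype α] [DecidableEq α] {f : ℕ} (hf : 1 ≤ f) (hα : Fintype.card α = 2 ^ f + 1) (G : Subgroup (Equiv.Perm α)) (h3 : MulAction.IsMultiplyPretransitive G α 3) (hsharp : ∀ x : Fin 3 ↪ α, MulAction.stabilizer G x = ⊥) : ∃ (F : Type) (_ : Field F) (_ : Fintype F), Fintype.card F = 2 ^ f ∧ Nonempty (G ≃* Matrix.ProjGenLinGroup (Fin 2) F) := by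
  classical
  have hq : 2 ≤ 2 ^ f := le_self_pow₀ one_le_two (by omega)
  obtain ⟨a, b, c, hab, hac, hbc⟩ :=
    Fintype.two_lt_card_iff.mp (show 2 < Fintype.card α by omega)
  obtain ⟨s, hsa, hsb, hsc⟩ := Perm.exists_smul_three h3 hab hac hbc hab.symm hbc hac
  have hs2 := Perm.sq_eq_one_of_exchange hsharp hab hac hbc hsa hsb hsc
  have hs1 : s ≠ 1 := fun e => hab (by rw [← hsa, e, one_smul])
  have hfix : ∀ d : α, s • d = d → d = c := by
    intro d hd
    by_contra hdc
    have heven := Perm.even_support_of_sq_eq_one (t := (s : Equiv.Perm α))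
      (by rw [← Subgroup.coe_mul, hs2, Subgroup.coe_one])
    have hsub : ({c, d} : Finset α) ⊆ (s : Equiv.Perm α).supportᶜ := by
      intro w hw
      simp only [Finset.mem_insert, Finset.mem_singleton] at hw
      simp only [Finset.mem_compl, Equiv.Perm.notMem_support]
      rcases hw with rfl | rfl
      exacts [hsc, hd]
    have hle := Finset.card_le_card hsub
    rw [Finset.card_pair (Ne.symm hdc), Finset.card_compl] at hle
    have h3' : 2 < (s : Equiv.Perm α).supportᶜ.card := by
      rw [Finset.card_compl]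
      obtain ⟨k, hk⟩ := heven
      obtain ⟨j, hj⟩ := (dvd_pow_self 2 (show f ≠ 0 by omega))
      omega
    obtain ⟨x, y, z, hx, hy, hz, hxy, hxz, hyz⟩ := Finset.two_lt_card_iff.mp h3'
    simp only [Finset.mem_compl, Equiv.Perm.notMem_support] at hx hy hz
    exact hs1 (Perm.key_of_sharp hsharp s x y z hxy hxz hyz hx hy hz)
  have hfpf : MonoidHom.FixedPointFree (Perm.exchConj hsa hsb) := fun g hg => by
    refine Subtype.ext (Perm.key_of_sharp hsharp _ a b c hab hac hbc g.2.1 g.2.2 ?_)
    exact hfix _ (Perm.fix_of_exchConj_eq hsa hsb hsc hg)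
  have hinv : ∀ h ∈ MulAction.stabilizer G a ⊓ MulAction.stabilizer G b, s * h * s⁻¹ = h⁻¹ :=
    fun h hh => congrArg Subtype.val (congrFun
      (hfpf.coe_eq_inv_of_involutive (Perm.exchConj_involutive hsa hsb hs2)) ⟨h, hh⟩)
  obtain ⟨F, iF, iFt, hc, he⟩ :=
    Perm.exists_mulEquiv_pgl G h3 (Perm.key_of_sharp hsharp) hab hac hbc s hsa hsb hsc hinv
  exact ⟨F, iF, iFt, by omega, he⟩

end Cfsg.Agent.S0727
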