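import Cfsg.Statements.S0950
import Cfsg.Agent.Lib.Transfer.Alperin

set_option autoImplicit false
open Cfsg

namespace Cfsg.Agent.S0950

variable {G : Type*} [Group G]

theorem commute_of_sq {n x : G} (hn : Odd (orderOf n)) (h : Commute (n * n) x) : Commute n x := by
  obtain ⟨k, hk⟩ := hn
  have e : n = (n * n) ^ (k + 1) := by
    rw [← pow_two, ← pow_mul, show 2 * (k + 1) = orderOf n + 1 by omega, pow_succ,
      pow_orderOf_eq_one, one_mul]
  rw [e]
  exact h.pow_left _

theorem eq_or_inv_of_mem_zpowers {t x : G} (ht : orderOf t = 4) (hx : x ∈ Subgroup.zpowers t)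
    (hx4 : orderOf x = 4) : x = t ∨ x = t⁻¹ := by
  obtain ⟨k, rfl⟩ := Subgroup.mem_zpowers_iff.1 hx
  obtain ⟨q, r, rfl, hr⟩ : ∃ q r : ℤ, k = 4 * q + r ∧ (r = 0 ∨ r = 1 ∨ r = 2 ∨ r = 3) :=
    ⟨k / 4, k % 4, by omega, by omega⟩
  have h4 : t ^ (4 : ℤ) = 1 := by
    rw [show (4 : ℤ) = ((orderOf t : ℕ) : ℤ) by rw [ht]; rfl, zpow_natCast, pow_orderOf_eq_one]
  rw [zpow_add, zpow_mul, h4, one_zpow, one_mul] at hx4 ⊢
  rcases hr with rfl | rfl | rfl | rfl
  · simp at hx4
  · exact Or.inl (zpow_one t)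
  · exfalso
    have h2 : (t ^ (2 : ℤ)) ^ 2 = 1 := by rw [← zpow_natCast, ← zpow_mul]; exact h4
    have := Nat.le_of_dvd two_pos (orderOf_dvd_of_pow_eq_one h2)
    omega
  · refine Or.inr (eq_inv_of_mul_eq_one_left ?_)
    rw [← zpow_add_one]
    exact h4

theorem commute_of_fix {n t : G} (hn : Odd (orderOf n)) (ht : orderOf t = 4)
    (h : (Subgroup.zpowers t).map (MulAut.conj n).toMonoidHom = Subgroup.zpowers t) : Commute n t := by
  have hm : n * t * n⁻¹ ∈ Subgroup.zpowers t := h ▸ ⟨t, Subgroup.mem_zpowers t, rfl⟩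
  have ho : orderOf (n * t * n⁻¹) = 4 := ((MulAut.conj n).orderOf_eq t).trans ht
  rcases eq_or_inv_of_mem_zpowers ht hm ho with e | e
  · exact mul_inv_eq_iff_eq_mul.1 e
  · refine commute_of_sq hn ?_
    have e2 : n * n * t * (n * n)⁻¹ = t := by
      rw [show n * n * t * (n * n)⁻¹ = n * (n * t * n⁻¹) * n⁻¹ by group, e,
        show n * t⁻¹ * n⁻¹ = (n * t * n⁻¹)⁻¹ by group, e, inv_inv]
    exact mul_inv_eq_iff_eq_mul.1 e2


/-- Let S be a Sylow 2-subgroup of the finite group G that is isomorphic to the quaternion group of order 8, and suppose S has no normal complement in G. Then any two subgroups of order 4 of S are conjugate by an element of the normalizer of S. -/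
theorem result {G : Type*} [Group G] [Finite G] (S : Sylow 2 G) (e : (S : Subgroup G) ≃* QuaternionGroup 2) (hnc : ∀ N : Subgroup G, N.Normal → ¬ Subgroup.IsComplement' N (S : Subgroup G)) (A B : Subgroup G) (hA : A ≤ S) (hB : B ≤ S) (hA4 : Nat.card A = 4) (hB4 : Nat.card B = 4) : ∃ n ∈ Subgroup.normalizer ((S : Subgroup G) : Set G), B = A.map (MulAut.conj n).toMonoidHom := by
  classical
  haveI : Fact (Nat.Prime 2) := ⟨Nat.prime_two⟩
  let g : Fin 3 → QuaternionGroup 2 := ![QuaternionGroup.a 1, QuaternionGroup.xa 0, QuaternionGroup.xa 1]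
  have hgcover : ∀ q : QuaternionGroup 2, ∃ i, ∃ k : Fin 4, g i ^ (k : ℕ) = q := by decide
  have hg4 : ∀ i, g i ^ 4 = 1 ∧ g i ^ 2 ≠ 1 := by decide
  have hginj : ∀ i j, g i = g j ∨ g i = (g j)⁻¹ → i = j := by decide
  have hinv : ∀ q : QuaternionGroup 2, q = 1 ∨ q = QuaternionGroup.a 2 ∨
      ∃ i, g i = q ∨ g i = q⁻¹ := by decide
  have hfix : ∀ σ : Fin 3 → Fin 3, Function.Injective σ → ∀ i, σ i = i → ∀ l, σ (σ l) = l := by decide
  have hcyc : ∀ σ : Fin 3 → Fin 3, Function.Injective σ → (∀ i, σ i ≠ i) →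
      ∀ i l, l = i ∨ l = σ i ∨ l = σ (σ i) := by decide
  let t : Fin 3 → G := fun i => (e.symm (g i) : G)
  have ht : ∀ i, orderOf (t i) = 4 := by
    intro i
    show orderOf ((e.symm (g i) : (S : Subgroup G)) : G) = 4
    rw [Subgroup.orderOf_coe, e.symm.orderOf_eq]
    exact orderOf_eq_prime_pow (p := 2) (n := 1) (by simpa using (hg4 i).2) (hg4 i).1
  have htS : ∀ i, Subgroup.zpowers (t i) ≤ (S : Subgroup G) :=
    fun i => Subgroup.zpowers_le.2 (e.symm (g i)).2
  have htinj : ∀ i j, Subgroup.zpowers (t i) = Subgroup.zpowers (t j) → i = j := by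
    intro i j h
    rcases eq_or_inv_of_mem_zpowers (ht j) (h ▸ Subgroup.mem_zpowers (t i)) (ht i) with h1 | h1
    · exact hginj i j (Or.inl (e.symm.injective (Subtype.ext h1)))
    · exact hginj i j (Or.inr (e.symm.injective (Subtype.ext
        (h1.trans (by rw [map_inv]; rfl)))))
  have hcover : ∀ x ∈ (S : Subgroup G), ∃ i, x ∈ Subgroup.zpowers (t i) := by
    intro x hx
    obtain ⟨i, k, hk⟩ := hgcover (e ⟨x, hx⟩)
    refine ⟨i, ⟨(k : ℕ), ?_⟩⟩
    show t i ^ ((k : ℕ) : ℤ) = x
    rw [zpow_natCast]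
    show ((e.symm (g i) : (S : Subgroup G)) : G) ^ (k : ℕ) = x
    rw [← SubgroupClass.coe_pow, ← map_pow, hk, e.symm_apply_apply]
  have hfour : ∀ R : Subgroup G, R ≤ S → Nat.card R = 4 → ∃ i, R = Subgroup.zpowers (t i) := by
    intro R hR h4
    obtain ⟨x, hxR, hx1, hx2⟩ :
        ∃ x, x ∈ R ∧ x ≠ 1 ∧ x ≠ ((e.symm (QuaternionGroup.a 2) : (S : Subgroup G)) : G) := by
      by_contra hc
      push Not at hc
      have hsub : (R : Set G) ⊆ {1, ((e.symm (QuaternionGroup.a 2) : (S : Subgroup G)) : G)} := by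
        intro y hy
        by_cases h1 : y = 1
        · exact Or.inl h1
        · exact Or.inr (hc y hy h1)
      have := (Set.ncard_le_ncard hsub (Set.toFinite _)).trans
        ((Set.ncard_insert_le _ _).trans (Nat.add_le_add_right (Set.ncard_singleton _).le 1))
      rw [← Nat.card_coe_set_eq] at this
      change Nat.card R ≤ 2 at this
      omega
    rcases hinv (e ⟨x, hR hxR⟩) with h | h | ⟨i, h⟩
    · exact absurd (congrArg Subtype.val (e.injective (h.trans e.map_one.symm))) hx1
    · exact absurd (congrArg Subtype.val ((e.symm_apply_apply _).symm.trans (congrArg e.symm h))) hx2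
    refine ⟨i, (Subgroup.eq_of_le_of_card_ge (Subgroup.zpowers_le.2 ?_) ?_).symm⟩
    · rcases h with h | h
      · show ((e.symm (g i) : (S : Subgroup G)) : G) ∈ R
        rw [h, e.symm_apply_apply]; exact hxR
      · show ((e.symm (g i) : (S : Subgroup G)) : G) ∈ R
        rw [h, ← map_inv, e.symm_apply_apply]; exact R.inv_mem hxR
    · rw [h4, Nat.card_zpowers, ht]
  have hS8 : Nat.card (S : Subgroup G) = 8 := by
    rw [Nat.card_congr e.toEquiv, Nat.card_eq_fintype_card, QuaternionGroup.card]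
  -- an element of odd order of `N(S)` not centralising `S`
  obtain ⟨n, hnN, hn, hnC⟩ : ∃ n ∈ Subgroup.normalizer ((S : Subgroup G) : Set G),
      Odd (orderOf n) ∧ n ∉ Subgroup.centralizer ((S : Subgroup G) : Set G) := by
    by_contra hc
    push Not at hc
    obtain ⟨N, hN, hNS⟩ := (Agent.Transfer.hasNormalPComplement_iff_sylow S).mp
      (Agent.Transfer.hasNormalPComplement_of_local S fun R hR _ n hn hco => by
        have hodd : Odd (orderOf n) := Nat.coprime_two_right.1 hco
        have hdvd : Nat.card R ∣ 2 ^ 3 := by norm_num; exact hS8 ▸ Subgroup.card_dvd_of_le hR.1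
        obtain ⟨r, hr3, hr⟩ := (Nat.dvd_prime_pow Nat.prime_two).1 hdvd
        interval_cases r
        · rw [Subgroup.card_eq_one.1 hr]
          exact Subgroup.mem_centralizer_iff.2 fun x hx => by rw [Subgroup.mem_bot.1 hx, one_mul, mul_one]
        · refine Subgroup.mem_centralizer_iff.2 fun x hx => ?_
          by_cases hx1 : x = 1
          · rw [hx1, one_mul, mul_one]
          have hx' : n * x * n⁻¹ ∈ R := (Subgroup.mem_normalizer_iff.1 hn x).1 hx
          obtain ⟨a, b, hab, hR2⟩ := Nat.card_eq_two_iff.1 hr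
          have key : ∀ p q r : R, p ≠ q → p ≠ r → q = r := by
            intro p q r hpq hpr
            have hp := Set.mem_univ p
            have hq := Set.mem_univ q
            have hr := Set.mem_univ r
            rw [← hR2] at hp hq hr
            rcases hp with rfl | rfl <;> rcases hq with rfl | rfl <;> rcases hr with rfl | rfl <;>
              first | rfl | contradiction
          have hc1 : n * x * n⁻¹ ≠ 1 := fun e1 => hx1 (by simpa using e1)
          have h1 : x = n * x * n⁻¹ := congrArg Subtype.val (key 1 ⟨x, hx⟩ ⟨_, hx'⟩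
            (fun e1 => hx1 (congrArg Subtype.val e1).symm) (fun e1 => hc1 (congrArg Subtype.val e1).symm))
          exact eq_mul_inv_iff_mul_eq.1 h1
        · obtain ⟨i, rfl⟩ := hfour R hR.1 hr
          have h1 := commute_of_fix hodd (ht i) (Agent.Transfer.map_conj_eq_iff_mem_normalizer.mpr hn)
          refine Subgroup.mem_centralizer_iff.2 fun x hx => ?_
          obtain ⟨k, rfl⟩ := Subgroup.mem_zpowers_iff.1 hx
          exact (h1.zpow_right k).eq.symm
        · have hRe : R = (S : Subgroup G) :=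
            Subgroup.eq_of_le_of_card_ge hR.1 (by rw [hS8, hr]; norm_num)
          subst hRe
          exact hc n hn hodd)
    exact hnc N hN hNS
  have hmap : ∀ i, ∃ j, (Subgroup.zpowers (t i)).map (MulAut.conj n).toMonoidHom = Subgroup.zpowers (t j) :=
    fun i => hfour _ ((Subgroup.map_mono (htS i)).trans
      (Agent.Transfer.map_conj_eq_iff_mem_normalizer.mpr hnN).le)
      ((Subgroup.card_map_of_injective (MulAut.conj n).injective).trans ((Nat.card_zpowers _).trans (ht i)))
  choose σ hσ using hmap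
  have hσinj : Function.Injective σ := fun i j h => htinj i j
    (Subgroup.map_injective (MulAut.conj n).injective (by rw [hσ i, hσ j, h]))
  have hσ2 : ∀ i, (Subgroup.zpowers (t i)).map (MulAut.conj (n * n)).toMonoidHom =
      Subgroup.zpowers (t (σ (σ i))) := fun i => by
    rw [← hσ (σ i), ← hσ i, Subgroup.map_map]
    congr 1
    ext x
    simp [mul_assoc]
  have hnofix : ∀ i, σ i ≠ i := by
    intro i hi
    apply hnC
    refine Subgroup.mem_centralizer_iff.2 fun x hx => ?_
    obtain ⟨l, hl⟩ := hcover x hx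
    have hn2 : Odd (orderOf (n * n)) := by
      refine Odd.of_dvd_nat hn ?_
      rw [← pow_two]
      exact orderOf_pow_dvd 2
    have key : Commute n (t l) :=
      commute_of_sq hn (commute_of_fix hn2 (ht l) (by rw [hσ2, hfix σ hσinj i hi l]))
    obtain ⟨k, rfl⟩ := Subgroup.mem_zpowers_iff.1 hl
    exact (key.zpow_right k).eq.symm
  obtain ⟨i, rfl⟩ := hfour A hA hA4
  obtain ⟨l, rfl⟩ := hfour B hB hB4
  rcases hcyc σ hσinj hnofix i l with h | h | h
  · exact ⟨1, one_mem _, by rw [Agent.Transfer.map_conj_one, h]⟩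
  · exact ⟨n, hnN, by rw [h, hσ]⟩
  · exact ⟨n * n, mul_mem hnN hnN, by rw [h, hσ2]⟩

end Cfsg.Agent.S0950
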