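import Cfsg.Statements.S0158
import Cfsg.Agent.Lib.CharApp.Unitary

set_option autoImplicit false
open Cfsg

namespace Cfsg.Agent.S0158

open scoped Matrix

variable {n : ℕ}

/-- The map `X ↦ A X Aᵀ`. -/
def cong (A : Matrix (Fin n) (Fin n) ℂ) : Module.End ℂ (Matrix (Fin n) (Fin n) ℂ) where
  toFun X := A * X * A.transpose
  map_add' X Y := by simp [mul_add, add_mul]
  map_smul' c X := by simp

/-- Transposition as a linear map. -/
def transposeMap : Module.End ℂ (Matrix (Fin n) (Fin n) ℂ) where
  toFun X := X.transpose
  map_add' X Y := by simp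
  map_smul' c X := by simp

/-- The congruence representation on matrices attached to a matrix representation. -/
def congrRep {G : Type*} [Group G] (M : G → Matrix (Fin n) (Fin n) ℂ)
    (hmul : ∀ x y, M (x * y) = M x * M y) (hone : M 1 = 1) :
    Representation ℂ G (Matrix (Fin n) (Fin n) ℂ) where
  toFun g := cong (M g)
  map_one' := LinearMap.ext fun X => by simp [cong, hone]
  map_mul' x y := LinearMap.ext fun X => by
    simp [cong, hmul, Matrix.transpose_mul, mul_assoc]

theorem cong_single_apply (A : Matrix (Fin n) (Fin n) ℂ) (i j k l : Fin n) :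
    cong A (Matrix.single i j 1) k l = A k i * A l j := by
  change (A * Matrix.single i j (1 : ℂ) * A.transpose : Matrix (Fin n) (Fin n) ℂ) k l = A k i * A l j
  rw [Matrix.mul_apply, Finset.sum_eq_single j]
  · simp
  · intro b _ hb; simp [hb]
  · simp

theorem trace_cong (A : Matrix (Fin n) (Fin n) ℂ) :
    LinearMap.trace ℂ _ (cong A) = A.trace * A.trace := by
  rw [LinearMap.trace_eq_matrix_trace ℂ (Matrix.stdBasis ℂ (Fin n) (Fin n)), Matrix.trace,
    Fintype.sum_prod_type, Matrix.trace, Finset.sum_mul_sum]
  refine Finset.sum_congr rfl fun i _ => Finset.sum_congr rfl fun j _ => ?_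
  rw [Matrix.diag_apply, LinearMap.toMatrix_apply, Matrix.stdBasis_eq_single]
  exact cong_single_apply A i j i j

theorem trace_transpose_cong (A : Matrix (Fin n) (Fin n) ℂ) :
    LinearMap.trace ℂ _ (transposeMap * cong A) = (A * A).trace := by
  rw [LinearMap.trace_eq_matrix_trace ℂ (Matrix.stdBasis ℂ (Fin n) (Fin n)), Matrix.trace,
    Fintype.sum_prod_type, Matrix.trace]
  refine Finset.sum_congr rfl fun i _ => ?_
  rw [Matrix.diag_apply, Matrix.mul_apply]
  refine Finset.sum_congr rfl fun j _ => ?_
  rw [Matrix.diag_apply, LinearMap.toMatrix_apply, Matrix.stdBasis_eq_single]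
  show cong A (Matrix.single i j 1) j i = _
  rw [cong_single_apply, mul_comm]


/-- The Frobenius–Schur indicator of an irreducible complex representation of a finite group — the average over s of the character at s * s — is 0, 1 or −1, and it vanishes exactly when some character value is not real. -/
theorem result {G : Type*} [Group G] [Fintype G] {V : Type*} [AddCommGroup V] [Module ℂ V] [FiniteDimensional ℂ V] (ρ : Representation ℂ G V) [ρ.IsIrreducible] : ((Nat.card G : ℂ)⁻¹ * ∑ s : G, ρ.character (s * s) = 0 ∨ (Nat.card G : ℂ)⁻¹ * ∑ s : G, ρ.character (s * s) = 1 ∨ (Nat.card G : ℂ)⁻¹ * ∑ s : G, ρ.character (s * s) = -1) ∧ ((Nat.card G : ℂ)⁻¹ * ∑ s : G, ρ.character (s * s) = 0 ↔ ∃ s : G, (ρ.character s).im ≠ 0) := by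
  classical
  let b := Module.finBasis ℂ V
  let M : G → Matrix (Fin (Module.finrank ℂ V)) (Fin (Module.finrank ℂ V)) ℂ :=
    fun x => LinearMap.toMatrix b b (ρ x)
  have hmul : ∀ x y, M (x * y) = M x * M y := fun x y => by
    simp only [M, map_mul]; exact LinearMap.toMatrix_mul b _ _
  have hone : M 1 = 1 := by simp only [M, map_one]; exact LinearMap.toMatrix_one b
  have ht : ∀ x, ρ.character x = (M x).trace := fun x => LinearMap.trace_eq_matrix_trace ℂ b (ρ x)
  let σ := congrRep M hmul hone
  set d := Module.finrank ℂ (Representation.invariants σ) with hd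
  -- the average of the squares of the values
  have hsq : ∑ s : G, ρ.character s * ρ.character s = (Nat.card G : ℂ) * (d : ℂ) := by
    rw [hd, ← CharApp.sum_char_eq_card_mul σ]
    exact Finset.sum_congr rfl fun s _ => by
      show _ = LinearMap.trace ℂ _ (cong (M s))
      rw [trace_cong, ← ht]
  have hsq_re : ∑ s : G, ((ρ.character s).re ^ 2 - (ρ.character s).im ^ 2)
      = (Nat.card G : ℝ) * (d : ℝ) := by
    have := congrArg Complex.re hsq
    simp only [Complex.re_sum, Complex.mul_re, Complex.natCast_re, Complex.natCast_im, mul_zero,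
      sub_zero] at this
    rw [← this]
    exact Finset.sum_congr rfl fun s _ => by ring
  have hnorm : ∑ s : G, ((ρ.character s).re ^ 2 + (ρ.character s).im ^ 2) = (Nat.card G : ℝ) := by
    rw [← CharApp.sum_normSq_eq_card ρ]
    exact Finset.sum_congr rfl fun s _ => by rw [Complex.normSq_apply]; ring
  have hcardpos : (0 : ℝ) < Nat.card G := Nat.cast_pos.mpr Nat.card_pos
  have him : 2 * ∑ s : G, (ρ.character s).im ^ 2 = (Nat.card G : ℝ) * (1 - (d : ℝ)) := by
    rw [mul_sub, mul_one, ← hsq_re, ← hnorm, ← Finset.sum_sub_distrib, Finset.mul_sum]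
    exact Finset.sum_congr rfl fun s _ => by ring
  have hdle : d ≤ 1 := by
    have h0 : 0 ≤ ∑ s : G, (ρ.character s).im ^ 2 := Finset.sum_nonneg fun s _ => sq_nonneg _
    have : (d : ℝ) ≤ 1 := by nlinarith
    exact_mod_cast this
  have hreal : (∃ s : G, (ρ.character s).im ≠ 0) ↔ d = 0 := by
    constructor
    · rintro ⟨s, hs⟩
      by_contra hd0
      have h1 : d = 1 := by omega
      rw [h1, Nat.cast_one, sub_self, mul_zero] at him
      have h2 : ∑ s : G, (ρ.character s).im ^ 2 = 0 := by linarith
      rw [Finset.sum_eq_zero_iff_of_nonneg fun s _ => sq_nonneg _] at h2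
      exact hs (pow_eq_zero_iff (two_ne_zero) |>.mp (h2 s (Finset.mem_univ s)))
    · intro h0
      by_contra hall
      push Not at hall
      rw [h0, Nat.cast_zero, sub_zero, mul_one] at him
      simp only [hall] at him
      simp at him
      exact Fintype.card_ne_zero (α := G) (by exact_mod_cast him.symm)

  haveI : Invertible (Fintype.card G : ℂ) :=
    invertibleOfNonzero (Nat.cast_ne_zero.mpr Fintype.card_ne_zero)
  -- the averaging projection
  let P := Representation.averageMap σ
  have hPproj := Representation.isProj_averageMap σ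
  have hnu : (Nat.card G : ℂ)⁻¹ * ∑ s : G, ρ.character (s * s) =
      LinearMap.trace ℂ _ (transposeMap * P) := by
    rw [Nat.card_eq_fintype_card]
    simp only [P, Representation.averageMap, GroupAlgebra.average, map_smul, map_sum,
      Finset.mul_sum, invOf_eq_inv, mul_smul_comm, smul_eq_mul]
    refine Finset.sum_congr rfl fun s _ => ?_
    rw [Representation.asAlgebraHom_of]
    show _ = _ * LinearMap.trace ℂ _ (transposeMap * cong (M s))
    rw [trace_transpose_cong, ← hmul, ← ht]
  rw [hnu]
  rcases Nat.le_one_iff_eq_zero_or_eq_one.mp hdle with h0 | h1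
  · have hP0 : P = 0 := by
      refine LinearMap.ext fun x => ?_
      have hx := hPproj.map_mem x
      rw [Submodule.finrank_eq_zero.mp (hd.symm.trans h0), Submodule.mem_bot] at hx
      exact hx
    have hz : LinearMap.trace ℂ _ (transposeMap * P) = 0 := by rw [hP0, mul_zero, map_zero]
    exact ⟨Or.inl hz, fun _ => hreal.mpr h0, fun _ => hz⟩
  · obtain ⟨⟨X, hX⟩, hX0, hXspan⟩ := finrank_eq_one_iff'.mp (hd.symm.trans h1)
    have hXne : X ≠ 0 := fun h => hX0 (Subtype.ext h)
    -- the transpose of an invariant matrix is invariant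
    have hXT : X.transpose ∈ Representation.invariants σ := by
      intro s
      show M s * X.transpose * (M s).transpose = X.transpose
      have h := congrArg Matrix.transpose (show M s * X * (M s).transpose = X from hX s)
      rw [Matrix.transpose_mul, Matrix.transpose_mul, Matrix.transpose_transpose] at h
      rw [mul_assoc]; exact h
    obtain ⟨ε, hε⟩ := hXspan ⟨_, hXT⟩
    have hε' : ε • X = X.transpose := congrArg Subtype.val hε
    have hε2 : ε * ε = 1 := by
      have h := congrArg Matrix.transpose hε'
      rw [Matrix.transpose_smul, Matrix.transpose_transpose, ← hε', smul_smul] at h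
      nth_rewrite 2 [← one_smul ℂ X] at h
      exact smul_left_injective ℂ hXne h
    have htau : transposeMap * P = ε • P := by
      refine LinearMap.ext fun Y => ?_
      obtain ⟨c, hc⟩ := hXspan ⟨P Y, hPproj.map_mem Y⟩
      have hc' : c • X = P Y := congrArg Subtype.val hc
      show (P Y).transpose = ε • P Y
      rw [← hc', Matrix.transpose_smul, ← hε', smul_comm]
    have hPtr : LinearMap.trace ℂ _ P = 1 := by
      rw [hPproj.trace]
      exact_mod_cast congrArg (fun k : ℕ => (k : ℂ)) (hd.symm.trans h1)
    have hval : LinearMap.trace ℂ _ (transposeMap * P) = ε := by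
      rw [htau, map_smul, hPtr, smul_eq_mul, mul_one]
    rw [hval]
    refine ⟨Or.inr (mul_self_eq_one_iff.mp hε2), fun h => ?_, fun h => ?_⟩
    · rw [h, mul_zero] at hε2; exact absurd hε2 zero_ne_one
    · exact absurd (hreal.mp h) (by omega)

end Cfsg.Agent.S0158
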