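import Cfsg.Statements.S1121
import Cfsg.Agent.Lib.Involution.StronglyEmbedded

set_option autoImplicit false
open Cfsg

namespace Cfsg.Agent.S1121

/-- In the rank-one set-up (`G` finite and doubly transitive on `Ω`, `t` an involution moving `a`, `Q` normal in `G_a` with `G_a = Q D`, `Q ⊓ D = 1` for the two-point stabiliser `D = G_a ⊓ G_{t • a}`, `|Q|` even, `|D|` odd): if `s` is an involution of `G_a` and `u` an involution outside `G_a`, then `s u` has odd order; and any two involutions of `G` are conjugate. -/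
theorem result {G Ω : Type*} [Group G] [Finite G] [MulAction G Ω] {a : Ω} {t : G} {Q : Subgroup G}
    (hS : Cfsg.IsRankOneSetup G Ω a t Q) :
    (∀ s u : G, s ∈ MulAction.stabilizer G a → s ≠ 1 → s * s = 1 → u ∉ MulAction.stabilizer G a → u ≠ 1 → u * u = 1 → Odd (orderOf (s * u))) ∧
      ∀ u v : G, u ≠ 1 → u * u = 1 → v ≠ 1 → v * v = 1 → ∃ g : G, g * u * g⁻¹ = v := by
  haveI := hS.two_transitive
  obtain ⟨q, hqQ, hq⟩ := Involution.exists_involution_mem hS.even_card
  have hmem : ∀ (g x : G) (c : Ω), x ∈ MulAction.stabilizer G c →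
      g * x * g⁻¹ ∈ MulAction.stabilizer G (g • c) := by
    intro g x c hx
    rw [MulAction.mem_stabilizer_iff] at hx ⊢
    rw [mul_smul, mul_smul, inv_smul_smul, hx]
  have hSE : Cfsg.IsStronglyEmbedded (MulAction.stabilizer G a) := by
    refine Involution.isStronglyEmbedded_iff_forall.2 ⟨?_, ?_, ?_⟩
    · exact fun h => hS.not_mem (h ▸ Subgroup.mem_top t)
    · exact even_iff_two_dvd.2 (hq ▸ Subgroup.orderOf_dvd_natCard _ (hS.le hqQ))
    · intro g x hx hxa hgx
      by_contra hg
      have hga : g⁻¹ • a ≠ a := by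
        intro h
        apply hg
        rw [MulAction.mem_stabilizer_iff]
        conv_lhs => rw [← h]
        rw [smul_inv_smul]
      have hta : t • a ≠ a := hS.not_mem
      obtain ⟨k, hk1, hk2⟩ := (MulAction.is_two_pretransitive_iff.1 hS.two_transitive)
        hga.symm hta.symm
      have hxb : x ∈ MulAction.stabilizer G (g⁻¹ • a) := by
        have h := hmem g⁻¹ (g * x * g⁻¹) a hgx
        simpa [mul_assoc] using h
      have h3 := hmem k x a hxa
      have h4 := hmem k x _ hxb
      rw [hk1] at h3
      rw [hk2] at h4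
      exact (Involution.odd_iff_no_involution _).1 hS.odd_card _ ⟨h3, h4⟩
        (by rw [Involution.orderOf_conj, hx])
  constructor
  · intro s u hs hs1 hs2 hu hu1 hu2
    exact Involution.not_mem_mul_odd hSE (Involution.orderOf_of_sq hs2 hs1) hs
      (Involution.orderOf_of_sq hu2 hu1) hu
  · intro u v hu1 hu2 hv1 hv2
    exact isConj_iff.1 (Involution.isConj_involutions hSE (Involution.orderOf_of_sq hu2 hu1)
      (Involution.orderOf_of_sq hv2 hv1))

end Cfsg.Agent.S1121
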