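import Cfsg.Statements.S1127
import Cfsg.Agent.Lib.RankOne.SetupInvolutions

set_option autoImplicit false
open Cfsg Cfsg.Agent Cfsg.Agent.RankOne

namespace Cfsg.Agent.S1127

/-- In the rank-one set-up (`G` finite and doubly transitive on `Ω`, `t` an involution moving `a`, `Q` normal in `G_a` with `G_a = Q D`, `Q ⊓ D = 1` for the two-point stabiliser `D = G_a ⊓ G_{t • a}`, `|Q|` even, `|D|` odd): if `s` is an involution of `G_a` and `r ∈ Q` satisfy `t s t = r⁻¹ t r`, then `C_D(t) = C_D(s)`; moreover `C_D(t) ⊓ C_D(K) = C_D(I ∩ G_a)`, where `K` is the set of elements of `D` inverted by `t` and `I ∩ G_a` the set of involutions of `G_a`. -/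
theorem result {G Ω : Type*} [Group G] [Finite G] [MulAction G Ω] {a : Ω} {t : G} {Q : Subgroup G}
    (hS : Cfsg.IsRankOneSetup G Ω a t Q) :
    (∀ s r : G, s ∈ Cfsg.involutionsIn (MulAction.stabilizer G a : Set G) → r ∈ Q → t * s * t = r⁻¹ * t * r →
        (MulAction.stabilizer G a ⊓ MulAction.stabilizer G (t • a)) ⊓ Subgroup.centralizer {t} = (MulAction.stabilizer G a ⊓ MulAction.stabilizer G (t • a)) ⊓ Subgroup.centralizer {s}) ∧
      (MulAction.stabilizer G a ⊓ MulAction.stabilizer G (t • a)) ⊓ Subgroup.centralizer {t} ⊓ Subgroup.centralizer (Cfsg.invertedBy (MulAction.stabilizer G a ⊓ MulAction.stabilizer G (t • a)) t) =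
        (MulAction.stabilizer G a ⊓ MulAction.stabilizer G (t • a)) ⊓ Subgroup.centralizer (Cfsg.involutionsIn (MulAction.stabilizer G a : Set G)) := by
  have hmem : ∀ {g d : G}, d ∈ Subgroup.centralizer {g} ↔ g * d = d * g := fun {g d} =>
    ⟨fun hd => Subgroup.mem_centralizer_iff.1 hd g rfl, fun hd => Subgroup.mem_centralizer_iff.2
      fun x hx => by obtain rfl : x = g := hx; exact hd⟩
  refine ⟨fun s r hs hr he => ?_, ?_⟩
  · ext d
    refine and_congr_right fun hd => ?_
    exact hmem.trans ((Setup.commute_iff hS hs hr he hd).trans hmem.symm)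
  · obtain ⟨⟨s, r⟩, ⟨hs, hr, he⟩, -⟩ := Setup.existsUnique_pair hS
    ext d
    constructor
    · rintro ⟨⟨hdD, hdt⟩, hdK⟩
      refine ⟨hdD, Subgroup.mem_centralizer_iff.2 fun s' hs' => ?_⟩
      obtain ⟨k, hk, rfl⟩ := Setup.exists_conj_kk hS hs hs'
      have h1 : Commute s d := (Setup.commute_iff hS hs hr he hdD).1 (hmem.1 hdt)
      have h2 : Commute k d := Subgroup.mem_centralizer_iff.1 hdK k hk
      exact ((h2.inv_left.mul_left h1).mul_left h2).eq
    · rintro ⟨hdD, hdI⟩
      have hdt : t * d = d * t :=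
        (Setup.commute_iff hS hs hr he hdD).2 (Subgroup.mem_centralizer_iff.1 hdI s hs)
      have ht2 : t * d * t = d := by rw [hdt, mul_assoc, hS.mul_self, mul_one]
      refine ⟨⟨hdD, hmem.2 hdt⟩, Subgroup.mem_centralizer_iff.2 fun k hk => ?_⟩
      obtain ⟨s', hs', r', hp⟩ := (Setup.part_bijective hS).1 k hk
      have hp' := Setup.isPart_conj hS hp hdD
      rw [ht2, mul_assoc d⁻¹ s', Subgroup.mem_centralizer_iff.1 hdI s' hs', inv_mul_cancel_left] at hp'
      have e := (Setup.isPart_unique hS hp' hp).2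
      rw [mul_assoc, inv_mul_eq_iff_eq_mul] at e
      exact e

end Cfsg.Agent.S1127
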