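import Cfsg.Statements.S0111
import Cfsg.Agent.EqLemmas

set_option autoImplicit false
open Cfsg

namespace Cfsg.Agent.S0111

/-- The Thompson transfer lemma states that an involution of a Sylow 2-subgroup P lying outside a subgroup Q of index 2 in P either lies outside some normal subgroup of index 2 in G or is conjugate to an element of Q. -/
theorem result {G : Type*} [Group G] [Finite G] (P : Sylow 2 G) (Q : Subgroup G) (hQP : Q ≤ (P : Subgroup G)) (hQi : Q.relIndex (P : Subgroup G) = 2) (u : G) (hu : orderOf u = 2) (huP : u ∈ (P : Subgroup G)) (huQ : u ∉ Q) : (∃ M : Subgroup G, M.Normal ∧ M.index = 2 ∧ u ∉ M) ∨ ∃ g : G, g * u * g⁻¹ ∈ Q := by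
  classical
  by_cases hc : ∃ g : G, g * u * g⁻¹ ∈ Q
  · exact Or.inr hc
  refine Or.inl ?_
  haveI : Fintype (G ⧸ Q) := Fintype.ofFinite _
  set σ : Equiv.Perm (G ⧸ Q) := MulAction.toPermHom G (G ⧸ Q) u with hσ
  have hfix : ∀ c : G ⧸ Q, σ c ≠ c := by
    intro c
    induction c using QuotientGroup.induction_on with
    | H x =>
      intro h
      refine hc ⟨x⁻¹, ?_⟩
      have h' : ((u * x : G) : G ⧸ Q) = ((x : G) : G ⧸ Q) := h
      have h'' := QuotientGroup.eq.mp h'.symm
      simpa [mul_assoc] using h''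
  have hu2 : u ^ 2 = 1 := by rw [← hu]; exact pow_orderOf_eq_one u
  have hσne : σ ≠ 1 := fun h => hfix ((1 : G) : G ⧸ Q) (by rw [h]; rfl)
  have hσo : orderOf σ = 2 :=
    orderOf_eq_prime (by rw [hσ, ← map_pow, hu2, map_one]) hσne
  obtain ⟨m, hm⟩ := Equiv.Perm.cycleType_prime_order (hσo ▸ Nat.prime_two)
  rw [hσo] at hm
  have hsupp : σ.support = Finset.univ := by
    ext c; simp [Equiv.Perm.mem_support, hfix c]
  have hsum : Q.index = 2 * (m + 1) := by
    have h := σ.sum_cycleType
    rw [hm, hsupp, Finset.card_univ, Multiset.sum_replicate, smul_eq_mul] at h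
    rw [Subgroup.index_eq_card, Nat.card_eq_fintype_card]
    omega
  have hodd : ¬ 2 ∣ m + 1 := by
    intro hd
    have h := Subgroup.relIndex_mul_index hQP
    rw [hQi, hsum] at h
    exact P.not_dvd_index (by omega)
  have hsign : Equiv.Perm.sign σ = -1 := by
    rw [Equiv.Perm.sign_of_cycleType, hm, Multiset.sum_replicate, Multiset.card_replicate, smul_eq_mul]
    exact Odd.neg_one_pow (Nat.odd_iff.mpr (by omega))
  set ε : G →* ℤˣ := Equiv.Perm.sign.comp (MulAction.toPermHom G (G ⧸ Q)) with hε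
  have hεu : ε u = -1 := hsign
  refine ⟨ε.ker, inferInstance, ?_, ?_⟩
  · have hr : ε.range = ⊤ := by
      rw [eq_top_iff]
      intro z _
      rcases Int.units_eq_one_or z with rfl | rfl
      · exact one_mem _
      · exact ⟨u, hεu⟩
    rw [Subgroup.index_ker, hr, Subgroup.card_top, Nat.card_eq_fintype_card]
    rfl
  · rw [MonoidHom.mem_ker, hεu]
    decide

end Cfsg.Agent.S0111
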