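import Cfsg.Statements.S1270
import Cfsg.Agent.Lib.Components.LocalLayer

set_option autoImplicit false
open Cfsg

namespace Cfsg.Agent.S1270

/-- Let G be finite with O_{p'}(G) = 1, x of order p, and L a component with ⁅L, ⟨x⟩⁆ ≠ L. Then ⁅L, O_{p'}(C_G(x))⁆ = 1. -/
theorem result {G : Type*} [Group G] [Finite G] (p : ℕ) [Fact p.Prime] (hO : Cfsg.pPrimeCore p G = ⊥) (x : G) (hx : orderOf x = p) (L : Subgroup G) (hL : Cfsg.IsComponent L) (hne : ⁅L, Subgroup.zpowers x⁆ ≠ L) : ⁅L, Cfsg.centralizerPPrimeCore p x⁆ = ⊥ := by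
  have hxp : IsPGroup p ↥(Subgroup.zpowers x) :=
    IsPGroup.of_card (n := 1) (by rw [Nat.card_zpowers, hx, pow_one])
  set C := Subgroup.centralizer ({x} : Set G) with hC
  have hperf := Cfsg.Agent.Components.IsComponent.perfect hL
  by_cases hxL : x ∈ Subgroup.normalizer (L : Set G)
  · -- `x` normalises, hence centralises `L`
    have hD : ⁅L, Subgroup.zpowers x⁆ ≤ L :=
      Subgroup.le_normalizer_iff_commutator_le_left.mp (Subgroup.zpowers_le.mpr hxL)
    have hDn : ((⁅L, Subgroup.zpowers x⁆).subgroupOf L).Normal :=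
      Subgroup.normal_subgroupOf_of_le_normalizer
        (Subgroup.normalizer_commutator_ge_left L (Subgroup.zpowers x))
    have h1 : ⁅L, Subgroup.zpowers x⁆ = ⊥ := by
      rcases Cfsg.Agent.Components.IsQuasisimple.normal_eq_top_or_le_center hL.2
        ((⁅L, Subgroup.zpowers x⁆).subgroupOf L) with h | h
      · exact absurd (le_antisymm hD (Subgroup.subgroupOf_eq_top.mp h)) hne
      · refine Cfsg.Agent.Components.commutator_eq_bot_of_perfect hperf ?_
        rw [Cfsg.Agent.Components.le_center_iff_commutator_eq_bot,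
          Subgroup.map_subgroupOf_eq_of_le hD] at h
        exact h
    have hLC : L ≤ C := by
      rw [Subgroup.commutator_eq_bot_iff_le_centralizer, Subgroup.zpowers_eq_closure,
        Subgroup.centralizer_closure] at h1
      exact h1
    have hLc := Cfsg.Agent.Components.IsComponent.subgroupOf hL hLC
    rcases Cfsg.Agent.Components.IsComponent.le_or_commutes hLc
      (Cfsg.Agent.Cores.pPrimeCore_normal p ↥C).isSubnormal with h | h
    · refine absurd ?_ (Cfsg.Agent.Components.IsComponent.not_coprime hO hL)
      rw [← Cfsg.Agent.Cores.card_subgroupOf hLC]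
      exact (Cfsg.Agent.Cores.coprime_card_pPrimeCore p).coprime_dvd_left
        (Subgroup.card_dvd_of_le h)
    · have h2 := Cfsg.Agent.Components.map_subtype_commutator_eq_bot h
      rwa [Subgroup.map_subgroupOf_eq_of_le hLC] at h2
  · -- `x` moves `L`: use the diagonal of the orbit
    let e : ZMod p → G := fun i => x ^ i.val
    have hstep : ∀ i : ZMod p, x * e i = e (i + 1) := by
      intro i
      show x * x ^ i.val = x ^ (i + 1).val
      rw [← pow_succ', ZMod.val_add, ZMod.val_one, ← pow_mod_orderOf x (i.val + 1), hx]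
    have he0 : e 0 = 1 := by simp [e]
    have hd : ∀ i : ZMod p, i ≠ 0 → e i ∉ Subgroup.normalizer (L : Set G) := by
      intro i hi h
      apply hxL
      have hco : (orderOf x).Coprime i.val := by
        rw [hx, (Fact.out (p := p.Prime)).coprime_iff_not_dvd]
        intro hdvd
        rcases Nat.eq_zero_or_pos i.val with h0 | h0
        · exact hi ((ZMod.val_eq_zero i).mp h0)
        · exact absurd (Nat.le_of_dvd h0 hdvd) (not_le.mpr i.val_lt)
      obtain ⟨m, hm⟩ := exists_pow_eq_self_of_coprime hco.symm
      rw [← hm]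
      exact pow_mem h m
    let φ : ∀ _ : ZMod p, ↥L →* G := fun i => (MulAut.conj (e i)).toMonoidHom.comp L.subtype
    have hφ : ∀ i (a : ↥L), φ i a = e i * (a : G) * (e i)⁻¹ := fun _ _ => rfl
    have hcomm : Pairwise fun i j => ∀ a b, Commute (φ i a) (φ j b) := by
      intro i j hij a b
      have hne' : L.map (MulAut.conj (e i)).toMonoidHom ≠ L.map (MulAut.conj (e j)).toMonoidHom := by
        intro heq
        apply hd (j - i) (sub_ne_zero.mpr hij.symm)
        have hji : e j = e i * e (j - i) := by
          show x ^ j.val = x ^ i.val * x ^ (j - i).val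
          rw [← pow_add, ← pow_mod_orderOf x (i.val + (j - i).val), hx, ← ZMod.val_add,
            add_sub_cancel]
        have hmap : L.map (MulAut.conj (e (j - i))).toMonoidHom = L := by
          apply Subgroup.map_injective (f := (MulAut.conj (e i)).toMonoidHom) (MulAut.conj (e i)).injective
          rw [Subgroup.map_map, heq, hji]
          congr 1
          ext g
          simp [mul_assoc]
        rw [Subgroup.mem_normalizer_iff]
        refine fun g => ⟨fun hg => hmap ▸ ⟨g, hg, rfl⟩, fun hg => ?_⟩
        obtain ⟨g', hg', hgg⟩ := hmap.symm ▸ hg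
        simp only [MulEquiv.coe_toMonoidHom, MulAut.conj_apply] at hgg
        rwa [mul_left_cancel (mul_right_cancel hgg)] at hg'
      have h := Subgroup.commutator_eq_bot_iff_le_centralizer.mp
        (Cfsg.Agent.Components.IsComponent.commutator_eq_bot
          (Cfsg.Agent.Components.IsComponent.conj hL (e i))
          (Cfsg.Agent.Components.IsComponent.conj hL (e j)) hne')
      exact (h ⟨a, a.2, rfl⟩ _ ⟨b, b.2, rfl⟩).symm
    set Φ := MonoidHom.noncommPiCoprod φ hcomm with hΦ
    let π : ↥L →* G := Φ.comp (MonoidHom.mk' (fun l _ => l) fun _ _ => rfl)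
    have hπ : ∀ l : ↥L, π l = Φ fun _ => l := fun _ => rfl
    have hshift : ∀ f : ZMod p → ↥L, x * Φ f * x⁻¹ = Φ fun j => f (j - 1) := by
      let sh : (ZMod p → ↥L) →* (ZMod p → ↥L) := MonoidHom.mk' (fun f j => f (j - 1)) fun _ _ => rfl
      have : (MulAut.conj x).toMonoidHom.comp Φ = Φ.comp sh := by
        refine MonoidHom.pi_ext fun i a => ?_
        have hsh : sh (Pi.mulSingle i a) = Pi.mulSingle (i + 1) a := by
          funext j
          show (Pi.mulSingle i a : ZMod p → ↥L) (j - 1) = _
          by_cases h : j = i + 1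
          · subst h; simp
          · rw [Pi.mulSingle_eq_of_ne h, Pi.mulSingle_eq_of_ne (fun h' => h (sub_eq_iff_eq_add.mp h'))]
        simp only [MonoidHom.comp_apply, hsh, hΦ, MonoidHom.noncommPiCoprod_mulSingle,
          MulEquiv.coe_toMonoidHom, MulAut.conj_apply, hφ]
        rw [← hstep]
        group
      exact fun f => DFunLike.congr_fun this f
    have hπC : ∀ l, π l ∈ C := by
      intro l y hy
      rw [Set.mem_singleton_iff] at hy
      subst hy
      calc y * π l = y * π l * y⁻¹ * y := by group
        _ = π l * y := by rw [hπ, hshift]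
    have hconjL : ∀ (l : ↥L) (m : G), m ∈ L → π l * m * (π l)⁻¹ = (l : G) * m * (l : G)⁻¹ := by
      intro l m hm
      classical
      have hdec : (fun _ => l) = (Pi.mulSingle 0 l : ZMod p → ↥L) * Function.update (fun _ => l) 0 1 := by
        funext j
        by_cases h : j = 0
        · subst h; simp
        · simp [h]
      have hc : Commute (Φ (Function.update (fun _ => l) 0 1)) m := by
        rw [hΦ, MonoidHom.noncommPiCoprod_apply]
        refine (Finset.noncommProd_commute _ _ _ _ fun i _ => ?_).symm
        by_cases h : i = 0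
        · subst h; simp
        · have := hcomm (Ne.symm h) ⟨m, hm⟩ ((Function.update (fun _ => l) 0 1 : ZMod p → ↥L) i)
          rwa [hφ 0, he0, inv_one, one_mul, mul_one] at this
      rw [hπ, hdec, map_mul, hΦ, MonoidHom.noncommPiCoprod_mulSingle, ← hΦ, hφ, he0, inv_one,
        one_mul, mul_one]
      calc (l : G) * Φ (Function.update (fun _ => l) 0 1) * m *
            ((l : G) * Φ (Function.update (fun _ => l) 0 1))⁻¹
          = (l : G) * (Φ (Function.update (fun _ => l) 0 1) * m *
              (Φ (Function.update (fun _ => l) 0 1))⁻¹) * (l : G)⁻¹ := by group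
        _ = (l : G) * m * (l : G)⁻¹ := by rw [hc.eq, mul_inv_cancel_right]
    set O := Cfsg.centralizerPPrimeCore p x with hOdef
    have hOC : O ≤ C := Subgroup.map_subtype_le _
    have hOn : ∀ c ∈ C, ∀ y ∈ O, c * y * c⁻¹ ∈ O := by
      rintro c hc _ ⟨y, hy, rfl⟩
      exact ⟨⟨c, hc⟩ * y * ⟨c, hc⟩⁻¹,
        (Cfsg.Agent.Cores.pPrimeCore_normal p ↥C).conj_mem y hy _, rfl⟩
    have hOcard : (Nat.card O).Coprime p := by
      rw [hOdef, Cfsg.centralizerPPrimeCore, Cfsg.Agent.Cores.card_map_subtype]
      exact Cfsg.Agent.Cores.coprime_card_pPrimeCore p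
    let A : Subgroup ↥L := O.comap π
    have hAn : A.Normal := ⟨fun a ha l => by
      show π (l * a * l⁻¹) ∈ O
      rw [map_mul, map_mul, map_inv]
      exact hOn _ (hπC l) _ ha⟩
    rcases Cfsg.Agent.Components.IsQuasisimple.normal_eq_top_or_le_center hL.2 A with hA | hA
    · exfalso
      obtain ⟨s, hs, ⟨j, hj⟩, hsc⟩ :=
        Cfsg.Agent.Components.IsComponent.exists_pElement_not_central hO hL
      refine hsc fun m hm => ?_
      have h1 : π ⟨s, hs⟩ = 1 := by
        have hmem : π ⟨s, hs⟩ ∈ O := (hA ▸ Subgroup.mem_top (⟨s, hs⟩ : ↥L) : (⟨s, hs⟩ : ↥L) ∈ A)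
        have h2 : π ⟨s, hs⟩ ^ p ^ j = 1 := by
          rw [← map_pow, show (⟨s, hs⟩ : ↥L) ^ p ^ j = 1 from Subtype.ext hj, map_one]
        have h3 := pow_gcd_eq_one.mpr
          ⟨orderOf_dvd_iff_pow_eq_one.mp (Subgroup.orderOf_dvd_natCard O hmem), h2⟩
        rwa [(hOcard.pow_right j).gcd_eq_one, pow_one] at h3
      have h4 := hconjL ⟨s, hs⟩ m hm
      rw [h1, one_mul, inv_one, mul_one] at h4
      calc m * s = s * m * s⁻¹ * s := by rw [← h4]
        _ = s * m := by group
    · -- `O` normalises and centralises `L`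
      refine Cfsg.Agent.Components.commutator_eq_bot_of_perfect_of_le hperf
        (Z := (Subgroup.center ↥L).map L.subtype) ?_ ?_
      · rw [Subgroup.commutator_le]
        intro l hl y hy
        have hyn : L.map (MulAut.conj y).toMonoidHom = L :=
          Cfsg.Agent.Components.centralizerPPrimeCore_conj_component hO hxp hy hL
        let ψ : ↥L →* ↥L :=
          ((MulAut.conj y).toMonoidHom.comp L.subtype).codRestrict L fun a => hyn.le ⟨a, a.2, rfl⟩
        have hψ : ∀ a : ↥L, (ψ a : G) = y * (a : G) * y⁻¹ := fun _ => rfl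
        have hye : ∀ i, y * e i = e i * y := fun i => by
          have h : Commute x y := hOC hy x rfl
          exact (h.pow_left i.val).eq.symm
        have hyπ : ∀ a, y * π a * y⁻¹ = π (ψ a) := by
          have : (MulAut.conj y).toMonoidHom.comp Φ = Φ.comp (ψ.compLeft (ZMod p)) := by
            refine MonoidHom.pi_ext fun i a => ?_
            have hsh : ψ.compLeft (ZMod p) (Pi.mulSingle i a) = Pi.mulSingle i (ψ a) := by
              funext j
              by_cases h : j = i
              · subst h; simp
              · simp [h]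
            simp only [MonoidHom.comp_apply, hsh, hΦ, MonoidHom.noncommPiCoprod_mulSingle,
              MulEquiv.coe_toMonoidHom, MulAut.conj_apply, hφ, hψ]
            calc y * (e i * (a : G) * (e i)⁻¹) * y⁻¹ = (y * e i) * a * (y * e i)⁻¹ := by group
              _ = (e i * y) * a * (e i * y)⁻¹ := by rw [hye]
              _ = e i * (y * a * y⁻¹) * (e i)⁻¹ := by group
          exact fun a => DFunLike.congr_fun this fun _ => a
        have hmem : (⟨l, hl⟩ : ↥L) * (ψ ⟨l, hl⟩)⁻¹ ∈ A := by
          show π _ ∈ O
          rw [map_mul, map_inv, ← hyπ]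
          have h5 := O.mul_mem (hOn _ (hπC ⟨l, hl⟩) y hy) (O.inv_mem hy)
          convert h5 using 1
          group
        refine ⟨_, hA hmem, ?_⟩
        show l * (y * l * y⁻¹)⁻¹ = _
        group
      · exact Cfsg.Agent.Components.le_center_iff_commutator_eq_bot.mp le_rfl

end Cfsg.Agent.S1270
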