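import Cfsg.Statements.S0949
import Cfsg.Agent.Lib.BrauerHomo.Local

set_option autoImplicit false
open Cfsg

namespace Cfsg.Agent.S0949

/-- Let the finite group G have a Sylow 2-subgroup P isomorphic to Z/2^m × Z/2^m with m ≥ 2, and suppose G has no nontrivial normal subgroup of odd order. Then P is normal in G, C_G(P) = P, and the index of P is 1 or 3. -/
theorem result {G : Type*} [Group G] [Finite G] (P : Sylow 2 G) (m : ℕ) (hm : 2 ≤ m) (e : (P : Subgroup G) ≃* Multiplicative (ZMod (2 ^ m) × ZMod (2 ^ m))) (hO : ∀ N : Subgroup G, N.Normal → Odd (Nat.card N) → N = ⊥) : (P : Subgroup G).Normal ∧ Subgroup.centralizer (P : Set G) = (P : Subgroup G) ∧ ((P : Subgroup G).index = 1 ∨ (P : Subgroup G).index = 3) := by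
  haveI : Fact (Nat.Prime 2) := ⟨Nat.prime_two⟩
  haveI hPn : (P : Subgroup G).Normal := Cfsg.Agent.BrauerHomo.normal_of_homocyclic hm _ G rfl P e hO
  obtain ⟨hcomm, hq, hΩ, -⟩ := Cfsg.Agent.BrauerHomo.homo_facts hm e
  haveI : IsMulCommutative (P : Subgroup G) := ⟨⟨hcomm⟩⟩
  set C := Subgroup.centralizer ((P : Subgroup G) : Set G)
  have hPC : (P : Subgroup G) ≤ C := P.le_centralizer
  have hC : C = (P : Subgroup G) := by
    let Q : Sylow 2 C := P.subtype hPC
    have hNC : Subgroup.normalizer ((Q : Subgroup C) : Set C) ≤ Subgroup.centralizer ((Q : Subgroup C) : Set C) :=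
      fun c _ => Subgroup.mem_centralizer_iff.2 fun a ha =>
        Subtype.ext (Subgroup.mem_centralizer_iff.1 c.2 (a : G) ha)
    have hcompl := MonoidHom.ker_transferSylow_isComplement' Q hNC
    haveI := MonoidHom.normal_ker (MonoidHom.transferSylow Q hNC)
    have hK := Cfsg.Agent.Transfer.complement_eq_pResidual Q hcompl
    have hbot : pResidual 2 C = ⊥ := (Subgroup.map_eq_bot_iff_of_injective _ C.subtype_injective).1
      (hO _ inferInstance (by
        rw [Subgroup.card_map_of_injective C.subtype_injective, ← hK]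
        exact Nat.not_even_iff_odd.1 fun h =>
          MonoidHom.not_dvd_card_ker_transferSylow Q hNC (even_iff_two_dvd.1 h)))
    rw [hK, hbot, Subgroup.isComplement'_bot_left] at hcompl
    refine le_antisymm (fun c hc => ?_) hPC
    have : (⟨c, hc⟩ : C) ∈ (Q : Subgroup C) := hcompl ▸ Subgroup.mem_top _
    exact this
  refine ⟨hPn, hC, ?_⟩
  have h := Cfsg.Agent.BrauerHomo.aut_odd hcomm hq hΩ _ (Cfsg.Agent.BrauerHomo.range_odd P hcomm)
  have hidx : Nat.card (P : Subgroup G).normalizerMonoidHom.range = (P : Subgroup G).index := by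
    rw [← Subgroup.index_ker, Subgroup.normalizerMonoidHom_ker, ← Subgroup.relIndex,
      Subgroup.normalizer_eq_top, Subgroup.relIndex_top_right]
    exact congrArg Subgroup.index hC
  rw [hidx] at h
  exact h.1

end Cfsg.Agent.S0949
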