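import Cfsg.Statements.S5913
import Cfsg.Agent.EqLemmas

set_option autoImplicit false
open Cfsg

namespace Cfsg.Agent.S5913


/-- Let S be a non-abelian simple group and n a natural number. Every normal subgroup N of the direct power S^n (functions Fin n → S) is a subproduct: there is a set T of coordinates such that N consists exactly of the elements whose coordinates outside T are trivial. In particular the minimal normal subgroups of S^n are its n factors. -/
theorem result {S : Type*} [Group S] [IsSimpleGroup S] (hS : ¬ IsMulCommutative S) (n : ℕ)
    (N : Subgroup (Fin n → S)) [N.Normal] :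
    ∃ T : Finset (Fin n), ∀ x : Fin n → S, x ∈ N ↔ ∀ i, i ∉ T → x i = 1 := by
  classical
  haveI : Nontrivial S := IsSimpleGroup.toNontrivial
  have hcen : Subgroup.center S = ⊥ := by
    rcases IsSimpleGroup.eq_bot_or_eq_top_of_normal (H := Subgroup.center S) inferInstance with h | h
    · exact h
    · exact absurd ⟨⟨fun a b => (Subgroup.mem_center_iff.1 (h ▸ Subgroup.mem_top b) a)⟩⟩ hS
  -- the coordinates contained in `N`
  let T : Finset (Fin n) := Finset.univ.filter fun i => ∀ s : S, Pi.mulSingle i s ∈ N
  refine ⟨T, fun x => ⟨fun hx i hi => ?_, fun hx => ?_⟩⟩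
  · by_contra hne
    apply hi
    simp only [T, Finset.mem_filter, Finset.mem_univ, true_and]
    obtain ⟨s, hs⟩ : ∃ s : S, s * x i ≠ x i * s := by
      by_contra h
      push Not at h
      have : x i ∈ Subgroup.center S := Subgroup.mem_center_iff.2 h
      rw [hcen, Subgroup.mem_bot] at this
      exact hne this
    let K : Subgroup S := N.comap (MonoidHom.mulSingle (fun _ : Fin n => S) i)
    have hKn : K.Normal := inferInstance
    have hmem : s * x i * s⁻¹ * (x i)⁻¹ ∈ K := by
      show Pi.mulSingle i _ ∈ N
      have : Pi.mulSingle i s * x * (Pi.mulSingle i s)⁻¹ * x⁻¹ ∈ N :=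
        N.mul_mem (Subgroup.Normal.conj_mem inferInstance x hx _) (N.inv_mem hx)
      convert this using 1
      ext j
      by_cases hj : j = i
      · subst hj; simp
      · simp [Pi.mulSingle_eq_of_ne hj]
    rcases IsSimpleGroup.eq_bot_or_eq_top_of_normal (H := K) hKn with h | h
    · rw [h, Subgroup.mem_bot, mul_inv_eq_one, mul_inv_eq_iff_eq_mul] at hmem
      exact absurd hmem hs
    · intro t
      have : t ∈ K := h ▸ Subgroup.mem_top t
      exact this
  · suffices H : ∀ u : Finset (Fin n), ∀ y : Fin n → S, (∀ i, i ∉ u → y i = 1) → u ⊆ T → y ∈ N from
      H T x hx Finset.Subset.rfl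
    intro u
    induction u using Finset.induction_on with
    | empty =>
      intro y hy _
      have : y = 1 := funext fun i => hy i (by simp)
      rw [this]; exact N.one_mem
    | insert i u hiu ih =>
      intro y hy hsub
      have hsplit : y = Pi.mulSingle i (y i) * Function.update y i 1 := by
        ext j
        by_cases hj : j = i
        · subst hj; simp
        · simp [Pi.mulSingle_eq_of_ne hj, Function.update_of_ne hj]
      rw [hsplit]
      refine N.mul_mem ?_ (ih _ (fun j hj => ?_) fun j hj => hsub (Finset.mem_insert_of_mem hj))
      · have := hsub (Finset.mem_insert_self i u)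
        simp only [T, Finset.mem_filter, Finset.mem_univ, true_and] at this
        exact this _
      · by_cases hji : j = i
        · subst hji; simp
        · rw [Function.update_of_ne hji]
          exact hy j (by simp [hji, hj])

end Cfsg.Agent.S5913
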