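import Cfsg.Statements.S0944
import Cfsg.Agent.EqLemmas

set_option autoImplicit false
open Cfsg

namespace Cfsg.Agent.S0944

/-- Let χ be an irreducible character of the finite group G and u an involution. Then χ u is a rational integer n with n ≡ χ 1 (mod 2). -/
theorem result {G : Type*} [Group G] [Finite G] (χ : Cfsg.IrrCharacter G) (u : G) (hu : orderOf u = 2) : ∃ n : ℤ, (χ : G → ℂ) u = (n : ℂ) ∧ (2 : ℤ) ∣ (Cfsg.charDegree (χ : G → ℂ) : ℤ) - n := by
  obtain ⟨n, ρ, -, hρ⟩ := χ.2
  have hu2 : u * u = 1 := by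
    rw [← pow_two, ← hu]; exact pow_orderOf_eq_one u
  set A : Module.End ℂ (Fin n → ℂ) := ρ u with hA
  have hA2 : A * A = 1 := by rw [hA, ← map_mul, hu2, map_one]
  set E : Module.End ℂ (Fin n → ℂ) := (2⁻¹ : ℂ) • (1 + A) with hE
  have hEE : IsIdempotentElem E := by
    show E * E = E
    rw [hE, smul_mul_smul_comm, mul_add, add_mul, add_mul, one_mul, one_mul, mul_one, hA2]
    module
  have htr : LinearMap.trace ℂ (Fin n → ℂ) E = (Module.finrank ℂ (LinearMap.range E) : ℂ) :=
    (LinearMap.IsIdempotentElem.isProj_range _ hEE).trace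
  have h1 : (χ : G → ℂ) 1 = (n : ℂ) := by
    rw [← hρ, Representation.char_one]; simp
  have hval : (χ : G → ℂ) u = 2 * (Module.finrank ℂ (LinearMap.range E) : ℂ) - n := by
    rw [← htr, hE, map_smul, map_add, ← hρ]
    simp only [Representation.character, LinearMap.trace_one, Module.finrank_fin_fun, smul_eq_mul, hA]
    ring
  refine ⟨2 * (Module.finrank ℂ (LinearMap.range E) : ℤ) - n, by rw [hval]; push_cast; ring, ?_⟩
  have hd : Cfsg.charDegree (χ : G → ℂ) = n := by
    simp [Cfsg.charDegree, h1]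
  rw [hd]
  exact ⟨(n : ℤ) - (Module.finrank ℂ (LinearMap.range E) : ℤ), by ring⟩


end Cfsg.Agent.S0944
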