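import Cfsg.Statements.S0276
import Cfsg.Agent.Lib.PSL2.Basic
import Cfsg.Agent.Lib.GLOrder.Basic

set_option autoImplicit false
open Cfsg

namespace Cfsg.Agent.S0276

/-- For q = 3 or 5 mod 8 the Sylow 2-subgroups of PSL_2(q) are elementary abelian of order 4. -/
theorem result {F : Type*} [Field F] [Fintype F] {q : ℕ} (hF : Fintype.card F = q) (hq : q % 8 = 3 ∨ q % 8 = 5) (P : Sylow 2 (Matrix.ProjectiveSpecialLinearGroup (Fin 2) F)) : IsKleinFour (P : Subgroup (Matrix.ProjectiveSpecialLinearGroup (Fin 2) F)) := by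
  have hq' : Nat.card F = q := by rw [Nat.card_eq_fintype_card, hF]
  have hodd : Odd q := by rcases hq with h | h <;> exact Nat.odd_iff.2 (by omega)
  have hcard := Cfsg.Agent.GLOrder.card_PSL_two_of_odd (F := F) (hq' ▸ hodd)
  rw [hq'] at hcard
  obtain ⟨m, hm⟩ : ∃ m, q = 2 * m + 1 := hodd
  subst hm
  have hsq : (2 * m + 1) ^ 2 - 1 = 4 * (m * (m + 1)) := by
    have : (2 * m + 1) ^ 2 = 4 * (m * (m + 1)) + 1 := by ring
    omega
  rw [hsq] at hcard
  obtain ⟨r, hr⟩ : ∃ r, m * (m + 1) = 2 * r ∧ Odd r := by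
    have h4 : m % 4 = 1 ∨ m % 4 = 2 := by omega
    rcases h4 with h | h
    · obtain ⟨j, rfl⟩ : ∃ j, m = 4 * j + 1 := ⟨m / 4, by omega⟩
      exact ⟨(4 * j + 1) * (2 * j + 1), by ring, Nat.odd_iff.2 (by simp [Nat.mul_mod, Nat.add_mod])⟩
    · obtain ⟨j, rfl⟩ : ∃ j, m = 4 * j + 2 := ⟨m / 4, by omega⟩
      exact ⟨(2 * j + 1) * (4 * j + 3), by ring, Nat.odd_iff.2 (by simp [Nat.mul_mod, Nat.add_mod])⟩
  have hG : Nat.card (Matrix.ProjectiveSpecialLinearGroup (Fin 2) F) = 4 * ((2 * m + 1) * r) := by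
    rw [hr.1] at hcard
    linarith
  have hP : Nat.card (P : Subgroup (Matrix.ProjectiveSpecialLinearGroup (Fin 2) F)) = 4 := by
    rw [P.card_eq_multiplicity, hG]
    have hu : Odd ((2 * m + 1) * r) := (Nat.odd_iff.2 (by omega)).mul hr.2
    rw [Nat.factorization_mul (by norm_num) (by intro h0; simp [h0] at hu), Finsupp.add_apply,
      Nat.factorization_eq_zero_of_not_dvd (n := (2 * m + 1) * r) (by
        rintro ⟨k, hk⟩; rw [hk, Nat.odd_iff] at hu; omega),
      show (4 : ℕ) = 2 ^ 2 by norm_num, Nat.factorization_pow,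
      Finsupp.smul_apply, Nat.Prime.factorization_self Nat.prime_two]
    norm_num
  have hexp : ∀ x : P, x ^ 2 = 1 := by
    intro x
    have h4 : orderOf x ∣ 4 := hP ▸ orderOf_dvd_natCard x
    rw [← orderOf_dvd_iff_pow_eq_one]
    by_contra h2
    have hx : orderOf x = 4 := by
      have := Nat.le_of_dvd (by norm_num) h4
      have h0 : 0 < orderOf x := Nat.pos_of_dvd_of_pos h4 (by norm_num)
      interval_cases h : orderOf x <;> simp_all (config := { decide := true })
    obtain ⟨p', hp'⟩ := CharP.exists F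
    have hpp : Fact p'.Prime := ⟨CharP.char_is_prime F p'⟩
    rw [← Subgroup.orderOf_coe] at hx
    rcases Cfsg.Agent.PSL2.psl_orderOf_cases p' (x : Matrix.ProjectiveSpecialLinearGroup (Fin 2) F)
      with h | h | h <;> rw [hx] at h
    · rw [hq'] at h
      rw [show Nat.gcd 2 (2 * m + 1 - 1) = 2 from Nat.gcd_eq_left (by omega)] at h
      omega
    · rw [hq'] at h
      rw [show Nat.gcd 2 (2 * m + 1 - 1) = 2 from Nat.gcd_eq_left (by omega)] at h
      omega
    · have := (hpp.out.eq_one_or_self_of_dvd 4 h).resolve_left (by norm_num)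
      exact absurd (this ▸ hpp.out) (by norm_num)
  refine ⟨hP, ?_⟩
  apply Nat.dvd_antisymm
  · exact Monoid.exponent_dvd_of_forall_pow_eq_one hexp
  · have h2 : Nat.Prime 2 := Nat.prime_two
    obtain ⟨x, hx⟩ := exists_prime_orderOf_dvd_card' (G := P) 2 (by rw [hP]; norm_num)
    have h := Monoid.order_dvd_exponent x
    rwa [hx] at h

end Cfsg.Agent.S0276
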