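import Cfsg.Statements.S2791
import Cfsg.Agent.Lib.PReduced.Local
import Cfsg.Agent.Lib.WeaklyClosed.Basic

set_option autoImplicit false
open Cfsg

namespace Cfsg.Agent.S2791

open Subgroup Cfsg.Agent.PReduced
open scoped commutatorElement

open Cfsg.Agent.WeaklyClosed

/-- Conjugation maps between subgroups of `S` are induced by `N(A)`. -/
theorem exists_agree {G : Type*} [Group G] [Finite G] {p : ℕ} [Fact p.Prime] (S : Sylow p G)
    {A : Subgroup G} (hA : IsMulCommutative ↥A) (hsc : Cfsg.IsStronglyClosed A (S : Subgroup G)) :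
    ∀ (n : ℕ) (R : Subgroup G), Nat.card ↥(S : Subgroup G) ≤ n + Nat.card R →
      R ≤ (S : Subgroup G) → ∀ g : G, cj g R ≤ (S : Subgroup G) →
      ∃ x ∈ normalizer (A : Set G), ∀ r ∈ R, g * r * g⁻¹ = x * r * x⁻¹ := by
  have hSA : (S : Subgroup G) ≤ normalizer (A : Set G) := fun s hs => by
    refine mem_normalizer_of_cj_le ?_
    rintro _ ⟨a, ha, rfl⟩
    exact hsc.2 a ha s (mul_mem (mul_mem hs (hsc.1 ha)) (inv_mem hs))
  have hbase : ∀ R : Subgroup G, A ≤ R → ∀ g : G, cj g R ≤ (S : Subgroup G) →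
      ∃ x ∈ normalizer (A : Set G), ∀ r ∈ R, g * r * g⁻¹ = x * r * x⁻¹ := by
    intro R hAR g hg
    refine ⟨g, mem_normalizer_of_cj_le ?_, fun r _ => rfl⟩
    rintro _ ⟨a, ha, rfl⟩
    exact hsc.2 a ha g (hg (conj_mem_cj (hAR ha)))
  intro n
  induction n with
  | zero =>
    intro R hR hRS
    have hRS' : R = (S : Subgroup G) := Subgroup.eq_of_le_of_card_ge hRS (by omega)
    exact hbase R (hRS' ▸ hsc.1)
  | succ n ih =>
    intro R hR hRS g hg
    by_cases hAR : A ≤ R
    · exact hbase R hAR g hg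
    -- a fully normalised conjugate
    obtain ⟨R', ⟨h, hR'⟩, hhS, hex⟩ : ∃ R' : Subgroup G, (∃ h : G, R' = cj h R) ∧
        R' ≤ (S : Subgroup G) ∧ ∃ P : Sylow p ↥(normalizer (R' : Set G)),
          (P : Subgroup ↥(normalizer (R' : Set G))) =
            (S : Subgroup G).subgroupOf (normalizer (R' : Set G)) := by
      set N := normalizer (R : Set G)
      obtain ⟨P⟩ : Nonempty (Sylow p ↥N) := inferInstance
      set P₀ := (P : Subgroup ↥N).map N.subtype with hP₀
      have hRP : R ≤ P₀ := by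
        intro r hr
        have h1 : R.subgroupOf N ≤ (P : Subgroup ↥N) :=
          (Cores.le_pCore normal_in_normalizer (IsPGroup.comap_subtype (S.2.to_le hRS))).trans (Cores.pCore_le_sylow P)
        exact ⟨⟨r, le_normalizer hr⟩, h1 hr, rfl⟩
      obtain ⟨Q, hQ⟩ := (P.2.map N.subtype).exists_le_sylow
      obtain ⟨h, hh⟩ := MulAction.exists_smul_eq G Q S
      have hhQ : cj h (Q : Subgroup G) = (S : Subgroup G) := congrArg Sylow.toSubgroup hh
      refine ⟨cj h R, ⟨h, rfl⟩, (cj_mono h (hRP.trans hQ)).trans hhQ.le, ?_⟩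
      set N' := normalizer ((cj h R : Subgroup G) : Set G)
      have hN' : N' = cj h N := (map_normalizer_eq_of_bijective _ (MulAut.conj h).bijective).symm
      refine ⟨IsPGroup.toSylow (IsPGroup.comap_subtype S.2) fun hd => P.not_dvd_index ?_, rfl⟩
      refine hd.trans ?_
      have h1 : (cj h P₀).relIndex N' = (P : Subgroup ↥N).index := by
        rw [hN', cj, cj, relIndex_map_map_of_injective _ _ (MulAut.conj h).injective, hP₀,
          ← relIndex_top_right, ← relIndex_map_map_of_injective (P : Subgroup ↥N) ⊤ N.subtype_injective,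
          ← MonoidHom.range_eq_map, range_subtype]
      rw [← h1]
      exact relIndex_dvd_of_le_left N' ((cj_mono h hQ).trans hhQ.le)
    set L := normalizer (R' : Set G) with hL
    obtain ⟨P, hP⟩ := hex
    have hhS' : cj h R ≤ (S : Subgroup G) := hR' ▸ hhS
    have hcard : ∀ k : G, Nat.card ↥(cj k R) = Nat.card R := fun k =>
      (Nat.card_congr (R.equivMapOfInjective _ (MulAut.conj k).injective).toEquiv).symm
    have hne : ∀ k : G, cj k R ≤ (S : Subgroup G) → ¬ A ≤ cj k R := fun k _ hle => hAR <| by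
      intro a ha
      have h1 : cj k⁻¹ A ≤ R := by
        have := cj_mono k⁻¹ hle
        rwa [← cj_mul, inv_mul_cancel, cj_one] at this
      have h2 : cj k⁻¹ A = A := Subgroup.eq_of_le_of_card_ge (fun y hy => by
          obtain ⟨a', ha', rfl⟩ := hy
          exact hsc.2 a' ha' k⁻¹ (hRS (h1 (conj_mem_cj ha'))))
        (Nat.card_congr (A.equivMapOfInjective _ (MulAut.conj k⁻¹).injective).toEquiv).le
      exact h1 (h2.ge ha)
    -- some element of `A` normalises but does not lie in a conjugate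
    have hgrow : ∀ k : G, cj k R ≤ (S : Subgroup G) →
        ∃ a ∈ A, a ∈ normalizer ((cj k R : Subgroup G) : Set G) ∧ a ∉ cj k R := by
      intro k hk
      set R₁ := cj k R
      set J := R₁ ⊔ A with hJ
      have hJp : IsPGroup p ↥J := S.2.to_le (sup_le hk hsc.1)
      haveI := hJp.isNilpotent
      have hlt : R₁.subgroupOf J < normalizer ((R₁.subgroupOf J : Subgroup ↥J) : Set ↥J) :=
        normalizerCondition_of_isNilpotent _ (lt_of_le_of_ne le_top fun e =>
          hne k hk (le_sup_right.trans (subgroupOf_eq_top.1 e)))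
      obtain ⟨y, hy, hyn⟩ := SetLike.exists_of_lt hlt
      obtain ⟨r, hr, a, ha, e⟩ := mem_mul_of_le_normalizer (hk.trans hSA) y.2
      have hyN : (y : G) ∈ normalizer (R₁ : Set G) := by
        refine mem_normalizer_of_cj_le ?_
        rintro _ ⟨r', hr', rfl⟩
        exact (mem_normalizer_iff.1 hy ⟨r', mem_sup_left hr'⟩).1 hr'
      refine ⟨a, ha, ?_, fun haR => hyn (mem_subgroupOf.2 (e ▸ mul_mem hr haR))⟩
      have : a = r⁻¹ * y := by rw [e, inv_mul_cancel_left]
      rw [this]
      exact mul_mem (inv_mem (le_normalizer hr)) hyN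
    -- transport of each conjugate to `R'`
    have htrans : ∀ k : G, cj k R ≤ (S : Subgroup G) →
        ∃ x ∈ normalizer (A : Set G), cj x (cj k R) = R' := by
      intro k hk
      set R₁ := cj k R with hR₁
      set U := (S : Subgroup G) ⊓ normalizer (R₁ : Set G) with hU
      have h0 : cj (h * k⁻¹) R₁ = R' := by rw [hR₁, ← cj_mul, inv_mul_cancel_right, hR']
      have hUp : IsPGroup p ↥((cj (h * k⁻¹) U).subgroupOf L) :=
        IsPGroup.comap_subtype ((S.2.to_le inf_le_left).map _)
      obtain ⟨Q, hQ⟩ := hUp.exists_le_sylow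
      obtain ⟨m, hm⟩ := MulAction.exists_smul_eq ↥L Q P
      set h1 := (m : G) * (h * k⁻¹) with hh1
      have hUS : cj h1 U ≤ (S : Subgroup G) := by
        rw [hh1, cj_mul]
        rintro _ ⟨u, hu, rfl⟩
        have huL : u ∈ L := by
          have h2 : cj (h * k⁻¹) U ≤ L := by
            rw [hL, ← h0]
            exact (cj_mono _ inf_le_right).trans
              (map_normalizer_eq_of_bijective _ (MulAut.conj (h * k⁻¹)).bijective).le
          exact h2 hu
        have h3 : MulAut.conj m • (⟨u, huL⟩ : ↥L) ∈ ((m • Q : Sylow p ↥L) : Subgroup ↥L) :=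
          smul_mem_pointwise_smul _ _ _ (hQ (show (⟨u, huL⟩ : ↥L) ∈ (cj (h * k⁻¹) U).subgroupOf L from hu))
        rw [hm, hP] at h3
        exact mem_subgroupOf.1 h3
      obtain ⟨a, haA, haN, haR⟩ := hgrow k hk
      have hlt : R₁ < U := lt_of_le_of_ne (le_inf hk le_normalizer) fun e =>
        haR (by show a ∈ R₁; rw [e]; exact mem_inf.2 ⟨hsc.1 haA, haN⟩)
      obtain ⟨x, hx, hxa⟩ := ih U (by
        have h4 : Nat.card R₁ < Nat.card U := by
          by_contra hc
          exact hlt.ne (Subgroup.eq_of_le_of_card_ge hlt.le (by omega))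
        rw [hR₁, hcard] at h4; omega) inf_le_left h1 hUS
      refine ⟨x, hx, ?_⟩
      have h5 : cj x R₁ = cj h1 R₁ := by
        ext y
        constructor <;> rintro ⟨r, hr, rfl⟩
        · exact ⟨r, hr, hxa r (hlt.le hr)⟩
        · exact ⟨r, hr, (hxa r (hlt.le hr)).symm⟩
      rw [h5, hh1, cj_mul, h0, cj_of_mem m.2]
    -- automorphisms of `R'`
    have haut : ∀ m ∈ L, ∃ x ∈ normalizer (A : Set G), ∀ r ∈ R', m * r * m⁻¹ = x * r * x⁻¹ := by
      intro m hm
      set A₀ := A ⊓ R' with hA₀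
      set D := stab R' A₀ ⊓ centralizer (A₀ : Set G) with hD
      have hLA₀ : L ≤ normalizer (A₀ : Set G) := fun l hl => by
        refine mem_normalizer_of_cj_le ?_
        rintro _ ⟨y, hy, rfl⟩
        have h1 : l * y * l⁻¹ ∈ R' := (mem_normalizer_iff.1 hl y).1 (mem_inf.1 hy).2
        exact mem_inf.2 ⟨hsc.2 y (mem_inf.1 hy).1 l (hhS h1), h1⟩
      have hDL : D ≤ L := fun d hd => (mem_stab.1 (mem_inf.1 hd).1).1
      have hLD : L ≤ normalizer (D : Set G) := fun l hl => by
        refine mem_normalizer_of_cj_le ?_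
        rintro _ ⟨d, hd, rfl⟩
        exact mem_inf.2 ⟨conj_mem_stab (mem_inf.1 hd).1 hl (hLA₀ hl),
          (mem_normalizer_iff.1 (le_normalizer_centralizer hLA₀ hl) d).1 (mem_inf.1 hd).2⟩
      haveI hDn : (D.subgroupOf L).Normal := (normal_subgroupOf_iff_le_normalizer hDL).2 hLD
      set C := (centralizer (R' : Set G)).subgroupOf L with hC
      haveI : C.Normal := (normal_subgroupOf_iff_le_normalizer (centralizer_le_normalizer _)).2
        (le_normalizer_centralizer le_rfl)
      have hCD : C ≤ D.subgroupOf L := fun c hc => mem_inf.2 ⟨mem_stab.2 ⟨c.2, hLA₀ c.2, fun u hu => by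
          show (c : G) * u * (c : G)⁻¹ * u⁻¹ ∈ A₀
          rw [show (c : G) * u = u * c from (hc u hu).symm, mul_inv_cancel_right, mul_inv_cancel]
          exact one_mem _⟩, centralizer_le (fun y hy => (mem_inf.1 hy).2) hc⟩
      have hmod : pMod p C (D.subgroupOf L) := by
        intro d hd
        obtain ⟨j, hj⟩ := pMod_of_stabilizes (C := D) (S.2.to_le hhS) (inf_le_right : A₀ ≤ R')
          (fun c hc => (mem_inf.1 hc).2) (fun c hc => (mem_stab.1 (mem_inf.1 hc).1).2.2) d hd
        exact ⟨j, hj⟩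
      have hDeq := eq_sup_sylow_inf_of_pMod P hCD hmod
      obtain ⟨a, ha, d, hd, e⟩ := frattini_sylow_inf_mul P (D.subgroupOf L) ⟨m, hm⟩
      have hd' : d ∈ ((P : Subgroup ↥L) ⊓ D.subgroupOf L) ⊔ C := by rw [sup_comm, ← hDeq]; exact hd
      obtain ⟨t, ht, c, hc, rfl⟩ := mem_mul_of_le_normalizer (le_normalizer_of_normal (H := C)) hd'
      set b := a * t with hb
      have hbN : b ∈ normalizer (((P : Subgroup ↥L) ⊓ D.subgroupOf L : Subgroup ↥L) : Set ↥L) :=
        mul_mem ha (le_normalizer ht)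
      set U := R' ⊔ ((S : Subgroup G) ⊓ D) with hU
      obtain ⟨a₁, ha₁, ha₁N, ha₁R⟩ := hgrow h hhS'
      rw [← hR'] at ha₁N ha₁R
      have ha₁D : a₁ ∈ D := by
        refine mem_inf.2 ⟨mem_stab.2 ⟨ha₁N, hLA₀ ha₁N, fun u hu => mem_inf.2 ⟨?_, ?_⟩⟩, fun y hy =>
          commute_of_isMulCommutative hA (mem_inf.1 hy).1 ha₁⟩
        · rw [mul_assoc, mul_assoc, ← mul_assoc u]
          exact mul_mem ha₁ ((mem_normalizer_iff.1 (hSA (hhS hu)) _).1 (inv_mem ha₁))
        · exact mul_mem ((mem_normalizer_iff.1 ha₁N u).1 hu) (inv_mem hu)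
      have hlt : R' < U := lt_of_le_of_ne le_sup_left fun e' =>
        ha₁R (by rw [e']; exact mem_sup_right (mem_inf.2 ⟨hsc.1 ha₁, ha₁D⟩))
      have hbU : cj (b : G) U ≤ U := by
        rw [cj, hU, Subgroup.map_sup]
        refine sup_le (le_sup_of_le_left (cj_of_mem b.2).le) (le_sup_of_le_right ?_)
        rintro _ ⟨u, hu, rfl⟩
        have h1 : (⟨u, hDL (mem_inf.1 hu).2⟩ : ↥L) ∈ (P : Subgroup ↥L) ⊓ D.subgroupOf L :=
          mem_inf.2 ⟨by rw [hP]; exact mem_subgroupOf.2 (mem_inf.1 hu).1, (mem_inf.1 hu).2⟩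
        have h2 := (mem_normalizer_iff.1 hbN _).1 h1
        rw [hP] at h2
        exact ⟨(mem_inf.1 h2).1, (mem_inf.1 h2).2⟩
      have hUS : U ≤ (S : Subgroup G) := sup_le hhS inf_le_left
      obtain ⟨x, hx, hxa⟩ := ih U (by
        have h4 : Nat.card R' < Nat.card U := by
          by_contra hc'
          exact hlt.ne (Subgroup.eq_of_le_of_card_ge hlt.le (by omega))
        rw [hR', hcard] at h4; omega) hUS (b : G) (hbU.trans hUS)
      refine ⟨x, hx, fun r hr => ?_⟩
      rw [← hxa r (hlt.le hr)]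
      have hcr : (c : G) * r = r * c := (hc r hr).symm
      have em : m = (a : G) * ((t : G) * c) := congrArg Subtype.val e
      calc m * r * m⁻¹ = (a : G) * t * ((c : G) * r) * (c : G)⁻¹ * ((a : G) * t)⁻¹ := by rw [em]; group
        _ = (a : G) * t * r * ((a : G) * t)⁻¹ := by rw [hcr]; group
    obtain ⟨u, hu, hu'⟩ := htrans 1 (by rw [cj_one]; exact hRS)
    rw [cj_one] at hu'
    obtain ⟨v, hv, hv'⟩ := htrans g hg
    have hm : v * g * u⁻¹ ∈ L := by
      rw [hL, ← cj_eq_self_iff]
      conv_lhs => rw [← hu']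
      rw [← cj_mul, inv_mul_cancel_right, cj_mul]
      exact hv'
    obtain ⟨x, hx, hxa⟩ := haut _ hm
    refine ⟨v⁻¹ * x * u, mul_mem (mul_mem (inv_mem hv) hx) hu, fun r hr => ?_⟩
    have h1 := hxa (u * r * u⁻¹) (hu' ▸ conj_mem_cj hr)
    calc g * r * g⁻¹ = v⁻¹ * ((v * g * u⁻¹) * (u * r * u⁻¹) * (v * g * u⁻¹)⁻¹) * v := by group
      _ = v⁻¹ * (x * (u * r * u⁻¹) * x⁻¹) * v := by rw [h1]
      _ = v⁻¹ * x * u * r * (v⁻¹ * x * u)⁻¹ := by group

/-- Let S be a Sylow p-subgroup of the finite group G and A an abelian subgroup of S that is strongly closed in S with respect to G. Then A controls strong fusion in G: for some Sylow p-subgroup T containing A, whenever a subset of T is conjugated into T by an element of G, the same elementwise conjugation is induced by an element of N_G(A). -/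
theorem result {G : Type*} [Group G] [Finite G] {p : ℕ} [Fact p.Prime] (S : Sylow p G) (A : Subgroup G) (hA : IsMulCommutative ↥A) (hsc : Cfsg.IsStronglyClosed A (S : Subgroup G)) : Cfsg.ControlsStrongFusion p A := by
  refine ⟨S, hsc.1, fun B hB => ⟨hB, fun g hg => ?_⟩⟩
  have hR : closure B ≤ (S : Subgroup G) := (closure_le _).2 hB
  obtain ⟨x, hx, hxa⟩ := exists_agree S hA hsc (Nat.card ↥(S : Subgroup G)) (closure B) (by omega) hR g (by
    rw [Cfsg.Agent.WeaklyClosed.cj, MonoidHom.map_closure, closure_le]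
    exact hg)
  exact ⟨x, hx, fun a ha => hxa a (subset_closure ha)⟩

end Cfsg.Agent.S2791
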