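import Cfsg.Statements.S2970
import Cfsg.Agent.Lib.Isolated.Basic
import Cfsg.Agent.Lib.CharP.Basic

set_option autoImplicit false
open Cfsg

namespace Cfsg.Agent.S2970

/-- In a cyclic group the solutions of `c ^ p = 1` are the powers of any element of order `p`. -/
theorem mem_zpowers_of_pow_eq_one {A : Type*} [Group A] [Finite A] [IsCyclic A] {p : ℕ}
    [Fact p.Prime] {z c : A} (hz : orderOf z = p) (hc : c ^ p = 1) : c ∈ Subgroup.zpowers z := by
  classical
  haveI := Fintype.ofFinite A
  have h1 := IsCyclic.card_pow_eq_one_le (α := A) (Fact.out : p.Prime).pos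
  have hsub : (Subgroup.zpowers z : Set A).toFinset ⊆ Finset.univ.filter (fun a : A => a ^ p = 1) := by
    intro a ha
    rw [Set.mem_toFinset] at ha
    obtain ⟨i, rfl⟩ := Subgroup.mem_zpowers_iff.mp ha
    refine Finset.mem_filter.mpr ⟨Finset.mem_univ _, ?_⟩
    rw [← zpow_natCast, ← zpow_mul, mul_comm, zpow_mul, zpow_natCast, ← hz, pow_orderOf_eq_one,
      one_zpow]
  have h2 : (Subgroup.zpowers z : Set A).toFinset.card = p := by
    rw [← Set.ncard_eq_toFinset_card', ← Nat.card_coe_set_eq]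
    exact (Nat.card_zpowers z).trans hz
  have heq := Finset.eq_of_subset_of_card_le hsub (h1.trans h2.ge)
  have : c ∈ Finset.univ.filter (fun a : A => a ^ p = 1) :=
    Finset.mem_filter.mpr ⟨Finset.mem_univ _, hc⟩
  rw [← heq, Set.mem_toFinset] at this
  exact this

/-- An element normalising a cyclic Sylow subgroup and fixing a nontrivial element of it centralises it. -/
theorem centralizes_of_normalizes {G : Type*} [Group G] [Finite G] {p : ℕ} [Fact p.Prime]
    {P : Sylow p G} [IsCyclic (P : Subgroup G)] {x : G}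
    (_hle : Subgroup.zpowers x ≤ (P : Subgroup G)) (hx1 : x ≠ 1)
    (hP : IsPGroup p (P : Subgroup G)) (hxP : x ∈ (P : Subgroup G)) {g : G}
    (hg : g ∈ Subgroup.normalizer ((P : Subgroup G) : Set G))
    (hgx : g ∈ Subgroup.centralizer ({x} : Set G)) :
    g ∈ Subgroup.centralizer ((P : Subgroup G) : Set G) := by
  obtain ⟨a, ha⟩ := IsCyclic.exists_generator (α := ↥(P : Subgroup G))
  have hab : ∀ s ∈ (P : Subgroup G), ∀ t ∈ (P : Subgroup G), Commute s t := by
    intro s hs t ht
    obtain ⟨i, hi⟩ := Subgroup.mem_zpowers_iff.mp (ha ⟨s, hs⟩)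
    obtain ⟨j, hj⟩ := Subgroup.mem_zpowers_iff.mp (ha ⟨t, ht⟩)
    have h := Commute.zpow_zpow_self a i j
    rw [hi, hj] at h
    exact congrArg Subtype.val h.eq
  obtain ⟨u, v, huv, hu, hv, ⟨l, hl⟩, hvp⟩ := Cfsg.Agent.Transfer.exists_pPart_mul (p := p) g
  have huN := (Subgroup.zpowers_le.mpr hg) hu
  have hvN := (Subgroup.zpowers_le.mpr hg) hv
  have hvx : Commute v x :=
    Subgroup.mem_centralizer_singleton_iff.mp ((Subgroup.zpowers_le.mpr hgx) hv)
  have huP : u ∈ (P : Subgroup G) := by
    have h1 := hP.to_sup_of_normal_left' (Cfsg.Agent.Isolated.isPGroup_zpowers hl)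
      (Subgroup.zpowers_le.mpr huN)
    have h2 := P.is_maximal' h1 le_sup_left
    exact h2 ▸ Subgroup.mem_sup_right (Subgroup.mem_zpowers u)
  -- an element of order `p` in `⟨x⟩`
  obtain ⟨⟨z, hz⟩, hzo⟩ := exists_prime_orderOf_dvd_card' (G := Subgroup.zpowers x) p (by
    haveI : Nontrivial (Subgroup.zpowers x) :=
      (Subgroup.nontrivial_iff_ne_bot _).mpr (Subgroup.zpowers_ne_bot.mpr hx1)
    obtain ⟨n, hn, hc⟩ :=
      (hP.to_le (Subgroup.zpowers_le.mpr hxP)).nontrivial_iff_card.mp inferInstance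
    exact hc ▸ dvd_pow_self p hn.ne')
  have hzo' : orderOf z = p := by rwa [← Subgroup.orderOf_coe] at hzo
  have hzP : z ∈ (P : Subgroup G) := (Subgroup.zpowers_le.mpr hxP) hz
  have hvz : Commute v z := by
    obtain ⟨i, rfl⟩ := Subgroup.mem_zpowers_iff.mp hz
    exact hvx.zpow_right i
  have key : ∀ (n : ℕ), ∀ b ∈ (P : Subgroup G), b ^ p ^ n = 1 → Commute v b := by
    intro n
    induction n with
    | zero => intro b _ hb; rw [pow_zero, pow_one] at hb; rw [hb]; exact Commute.one_right v
    | succ n ih =>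
      intro b hb hbp
      have h1 : Commute v (b ^ p) := ih _ (pow_mem hb p) (by rw [← pow_mul, ← pow_succ']; exact hbp)
      have hb' : v * b * v⁻¹ ∈ (P : Subgroup G) := (Subgroup.mem_normalizer_iff.mp hvN b).mp hb
      set c := b * v * b⁻¹ * v⁻¹ with hc
      have hcP : c ∈ (P : Subgroup G) := by
        simpa [hc, mul_assoc] using mul_mem hb (inv_mem hb')
      have hcp : c ^ p = 1 := by
        have e : c = b * (v * b * v⁻¹)⁻¹ := by rw [hc]; group
        have hcomm : Commute b (v * b * v⁻¹)⁻¹ := (hab b hb _ hb').inv_right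
        rw [e, hcomm.mul_pow, inv_pow, conj_pow, h1.eq, mul_inv_cancel_right, mul_inv_cancel]
      have hcz : (⟨c, hcP⟩ : (P : Subgroup G)) ∈ Subgroup.zpowers (⟨z, hzP⟩ : (P : Subgroup G)) :=
        mem_zpowers_of_pow_eq_one (p := p) ((Subgroup.orderOf_mk z hzP).trans hzo')
          (Subtype.ext hcp)
      obtain ⟨i, hi⟩ := Subgroup.mem_zpowers_iff.mp hcz
      have hci : z ^ i = c := by simpa using congrArg Subtype.val hi
      have hcv : Commute c v := hci ▸ (hvz.zpow_right i).symm
      exact (Cfsg.Agent.CharP.eq_one_of_commute hvp ⟨1, by rw [pow_one]; exact hcp⟩ hcv).symm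
  refine Subgroup.mem_centralizer_iff.mpr fun b hb => ?_
  obtain ⟨n, hn⟩ := hP ⟨b, hb⟩
  have h2 : Commute v b := key n b hb (by simpa using congrArg Subtype.val hn)
  rw [huv]
  exact ((hab u huP b hb).mul_left h2).symm

/-- Let G be a finite group, p a prime and x ∈ G an element of p-power order which is isolated in G. Then the image of x in any quotient G ⧸ N is isolated in G ⧸ N; and if x ≠ 1 and the Sylow p-subgroups of G are cyclic, then G has a normal p-complement. -/
theorem result {G : Type*} [Group G] [Finite G] {p : ℕ} [Fact p.Prime] (x : G) (hx : ∃ k : ℕ, orderOf x = p ^ k) (hiso : Cfsg.IsIsolated x) : (∀ (N : Subgroup G) [N.Normal], Cfsg.IsIsolated (QuotientGroup.mk x : G ⧸ N)) ∧ (x ≠ 1 → (∀ P : Sylow p G, IsCyclic ↥(P : Subgroup G)) → Cfsg.HasNormalPComplement p G) := by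
  refine ⟨fun N _ => ?_, fun hx1 hcyc => ?_⟩
  · refine QuotientGroup.mk_surjective.forall.mpr fun g hg => ?_
    set f := QuotientGroup.mk' N with hf
    have hg' : Commute (f x) (f (g * x * g⁻¹)) := by simpa [hf] using hg
    set A := Subgroup.closure ({f x, f (g * x * g⁻¹)} : Set (G ⧸ N)) with hA
    have hAc : IsMulCommutative A := by
      refine Subgroup.isMulCommutative_closure ?_
      rintro s (rfl | rfl) t (rfl | rfl) <;> first | rfl | exact hg'.eq | exact hg'.eq.symm
    have h1 : x ∈ A.comap f := Subgroup.subset_closure (Set.mem_insert _ _)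
    have h2 : g * x * g⁻¹ ∈ A.comap f :=
      Subgroup.subset_closure (Set.mem_insert_of_mem _ rfl)
    obtain ⟨n, hn, hnx⟩ := Cfsg.Agent.Isolated.exists_conj_eq_of_mem hx hiso h1 h2
    have hc : Commute (f n) (f (g * x * g⁻¹)) :=
      congrArg Subtype.val (hAc.is_comm.comm (⟨f n, hn⟩ : A) ⟨_, h2⟩)
    have h3 := congrArg f hnx
    rw [map_mul, map_mul, map_inv, hc.eq, mul_inv_cancel_right] at h3
    simpa [hf] using h3
  · obtain ⟨k, hk⟩ := hx
    obtain ⟨P, hP⟩ := (Cfsg.Agent.Isolated.isPGroup_zpowers hk).exists_le_sylow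
    have hxP : x ∈ (P : Subgroup G) := hP (Subgroup.mem_zpowers x)
    haveI := hcyc P
    refine ⟨P, _, MonoidHom.normal_ker _, MonoidHom.ker_transferSylow_isComplement' P ?_⟩
    intro g hg
    have hgx := Cfsg.Agent.Isolated.normalizer_le_centralizer hiso P.isPGroup' hxP hg
    exact centralizes_of_normalizes hP hx1 P.isPGroup' hxP hg hgx

end Cfsg.Agent.S2970
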