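import Cfsg.Statements.S3183
import Cfsg.Agent.EqLemmas

set_option autoImplicit false
open Cfsg

namespace Cfsg.Agent.S3183

theorem mem_center_map_iff {G : Type*} [Group G] (U : Subgroup G) (d : G) :
    d ∈ (Subgroup.center ↥U).map U.subtype ↔ d ∈ U ∧ ∀ u ∈ U, u * d = d * u := by
  constructor
  · rintro ⟨w, hw, rfl⟩
    exact ⟨w.2, fun u hu => congrArg Subtype.val (Subgroup.mem_center_iff.mp hw ⟨u, hu⟩)⟩
  · rintro ⟨h1, h2⟩
    exact ⟨⟨d, h1⟩, Subgroup.mem_center_iff.mpr fun u => Subtype.ext (h2 u u.2), rfl⟩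

/-- If a subgroup is central in a Sylow 2-subgroup then 2-subgroups normalising it centralise it. -/
theorem le_centralizer_of_le_center {G : Type*} [Group G] [Finite G] (D : Subgroup G) (U : Sylow 2 G)
    (hD : D ≤ (Subgroup.center ↥(U : Subgroup G)).map (U : Subgroup G).subtype)
    (P : Subgroup G) (hP : IsPGroup 2 ↥P) (hPN : P ≤ Subgroup.normalizer (D : Set G)) :
    P ≤ Subgroup.centralizer (D : Set G) := by
  set N := Subgroup.normalizer (D : Set G)
  set C := Subgroup.centralizer (D : Set G)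
  have hUC : (U : Subgroup G) ≤ C := fun u hu d hd => (((mem_center_map_iff _ d).mp (hD hd)).2 u hu).symm
  have hCN : C ≤ N := Subgroup.centralizer_le_normalizer _
  obtain ⟨P', hP'⟩ := (hP.of_equiv (Subgroup.subgroupOfEquivOfLe hPN).symm).exists_le_sylow
  let U' : Sylow 2 ↥N := U.subtype (hUC.trans hCN)
  obtain ⟨n, hn⟩ := MulAction.exists_smul_eq ↥N U' P'
  have hCnorm : (C.subgroupOf N).Normal := inferInstance
  intro p hp
  have h1 : (⟨p, hPN hp⟩ : ↥N) ∈ ((n • U' : Sylow 2 ↥N) : Subgroup ↥N) := hn ▸ hP' hp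
  obtain ⟨u, hu, hue⟩ := h1
  have hu' : n * u * n⁻¹ = ⟨p, hPN hp⟩ := hue
  have h2 : n * u * n⁻¹ ∈ C.subgroupOf N := hCnorm.conj_mem u (hUC hu) n
  rw [hu'] at h2
  exact h2

theorem inf_le_center {G : Type*} [Group G] [Finite G]
    (hCI : ∀ S T : Sylow 2 G, S ≠ T → ∃ U : Sylow 2 G,
      (S : Subgroup G) ⊓ (T : Subgroup G) ≤ (Subgroup.center ↥(U : Subgroup G)).map (U : Subgroup G).subtype)
    (S T : Sylow 2 G) (hST : S ≠ T) :
    (S : Subgroup G) ⊓ (T : Subgroup G) ≤ (Subgroup.center ↥(S : Subgroup G)).map (S : Subgroup G).subtype := by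
  set D := (S : Subgroup G) ⊓ (T : Subgroup G) with hDdef
  by_cases hS : (S : Subgroup G) ≤ Subgroup.centralizer (D : Set G)
  · intro d hd
    exact (mem_center_map_iff _ d).mpr ⟨hd.1, fun u hu => (hS hu d hd).symm⟩
  exfalso
  obtain ⟨U, hU⟩ := hCI S T hST
  set E := (S : Subgroup G) ⊓ Subgroup.centralizer (D : Set G) with hEdef
  have hDE : D ≤ E := le_inf inf_le_left fun d hd e he =>
    ((mem_center_map_iff _ e).mp (hU he)).2 d ((mem_center_map_iff _ d).mp (hU hd)).1 |>.symm
  have hnil : Group.IsNilpotent ↥(S : Subgroup G) := S.isPGroup'.isNilpotent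
  -- normalizers grow inside `S`
  have grow : ∀ F : Subgroup G, F < (S : Subgroup G) →
      ¬ ((S : Subgroup G) ⊓ Subgroup.normalizer (F : Set G) ≤ F) := by
    intro F hF hle
    have hK : F.subgroupOf (S : Subgroup G) < ⊤ := by
      rw [lt_top_iff_ne_top]
      intro he
      rw [Subgroup.subgroupOf_eq_top] at he
      exact absurd he (not_le_of_gt hF)
    obtain ⟨x, hxN, hxK⟩ := SetLike.exists_of_lt (Group.normalizerCondition_of_isNilpotent (G := ↥(S : Subgroup G)) _ hK)
    refine hxK (hle ⟨x.2, ?_⟩)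
    rw [SetLike.mem_coe, Subgroup.mem_toSubmonoid, Subgroup.mem_normalizer_iff]
    intro z
    by_cases hz : z ∈ (S : Subgroup G)
    · have := Subgroup.mem_normalizer_iff.mp hxN ⟨z, hz⟩
      simpa [Subgroup.mem_subgroupOf] using this
    · refine ⟨fun h => absurd (hF.le h) hz, fun h => absurd ?_ hz⟩
      have := mul_mem (mul_mem (inv_mem x.2) (hF.le h)) x.2
      simpa [mul_assoc] using this
  have hDS : D < (S : Subgroup G) := by
    refine lt_of_le_of_ne inf_le_left fun he => hST ?_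
    have h1 : (S : Subgroup G) ≤ T := inf_eq_left.mp he
    exact Sylow.ext (S.is_maximal' T.isPGroup' h1).symm
  have hSN : ∀ F : Subgroup G, ∀ V : Sylow 2 G, F ≤ (Subgroup.center ↥(V : Subgroup G)).map (V : Subgroup G).subtype →
      (S : Subgroup G) ⊓ Subgroup.normalizer (F : Set G) ≤ Subgroup.centralizer (F : Set G) := fun F V hV =>
    le_centralizer_of_le_center F V hV _ (S.isPGroup'.to_le inf_le_left) inf_le_right
  have hlt : D < E := lt_of_le_of_ne hDE fun he =>
    grow D hDS ((le_inf inf_le_left (hSN D U hU)).trans he.ge)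
  have hES : E < (S : Subgroup G) := lt_of_le_of_ne inf_le_left fun he => hS (inf_eq_left.mp he)
  -- a Sylow subgroup of the centralizer of `D` containing `E`
  set C := Subgroup.centralizer (D : Set G)
  have hUC : (U : Subgroup G) ≤ C := fun u hu d hd => (((mem_center_map_iff _ d).mp (hU hd)).2 u hu).symm
  have hE2 : IsPGroup 2 ↥E := S.isPGroup'.to_le inf_le_left
  obtain ⟨Q, hQ⟩ := (hE2.of_equiv (Subgroup.subgroupOfEquivOfLe (inf_le_right : E ≤ C)).symm).exists_le_sylow
  obtain ⟨V, hV⟩ := (Q.isPGroup'.map C.subtype).exists_le_sylow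
  have hcard : Nat.card ↥(V : Subgroup G) ≤ Nat.card ↥((Q : Subgroup ↥C).map C.subtype) := by
    rw [Subgroup.card_map_of_injective (Subgroup.subtype_injective C),
      Nat.card_congr (V.equiv U).toEquiv, Nat.card_congr (Q.equiv (U.subtype hUC)).toEquiv,
      Sylow.coe_subtype, Nat.card_congr (Subgroup.subgroupOfEquivOfLe hUC).toEquiv]
  have hVC : (V : Subgroup G) ≤ C := by
    rw [← Subgroup.eq_of_le_of_card_ge hV hcard]
    exact Subgroup.map_subtype_le _
  have hne : S ≠ V := by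
    rintro rfl
    exact hS hVC
  have hEV : E ≤ (V : Subgroup G) := fun z hz =>
    hV ⟨⟨z, hz.2⟩, hQ (show (⟨z, hz.2⟩ : ↥C) ∈ E.subgroupOf C from hz), rfl⟩
  obtain ⟨W, hW⟩ := hCI S V hne
  set D2 := (S : Subgroup G) ⊓ (V : Subgroup G)
  have hEeq : D2 = E := le_antisymm (le_inf inf_le_left (inf_le_right.trans hVC)) (le_inf inf_le_left hEV)
  rw [hEeq] at hW
  refine grow E hES ?_
  intro z hz
  refine ⟨hz.1, fun d hd => hSN E W hW hz d (hDE hd)⟩

/-- Let G be a finite group in which the intersection of any two distinct Sylow 2-subgroups is contained in the centre of some Sylow 2-subgroup, and let S be a Sylow 2-subgroup. Then for every x in S the centralizer of x in S is a Sylow 2-subgroup of the centralizer of x in G (no 2-subgroup centralizing x is larger), and for every other Sylow 2-subgroup T the intersection S ∩ T lies in both the centre of S and the centre of T. -/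
theorem result {G : Type*} [Group G] [Finite G]
    (hCI : ∀ S T : Sylow 2 G, S ≠ T → ∃ U : Sylow 2 G,
      (S : Subgroup G) ⊓ (T : Subgroup G) ≤ (Subgroup.center ↥(U : Subgroup G)).map (U : Subgroup G).subtype)
    (S : Sylow 2 G) :
    (∀ x ∈ (S : Subgroup G), ∀ P : Subgroup G, IsPGroup 2 ↥P → P ≤ Subgroup.centralizer ({x} : Set G) →
        Nat.card ↥P ≤ Nat.card ↥((S : Subgroup G) ⊓ Subgroup.centralizer ({x} : Set G))) ∧
    (∀ T : Sylow 2 G, T ≠ S →
        (S : Subgroup G) ⊓ (T : Subgroup G) ≤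
          (Subgroup.center ↥(S : Subgroup G)).map (S : Subgroup G).subtype ⊓
            (Subgroup.center ↥(T : Subgroup G)).map (T : Subgroup G).subtype) := by
  have key := fun U V hUV => inf_le_center hCI U V hUV
  refine ⟨?_, fun T hT => le_inf (key S T hT.symm) (by rw [inf_comm]; exact key T S hT)⟩
  intro x hx P hP hPC
  by_contra hlt
  push Not at hlt
  -- a Sylow 2-subgroup of the centralizer of `x`
  set C := Subgroup.centralizer ({x} : Set G)
  have hCS : IsPGroup 2 ↥((S : Subgroup G) ⊓ C) := S.isPGroup'.to_le inf_le_left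
  obtain ⟨Q, hQ⟩ := (hCS.of_equiv (Subgroup.subgroupOfEquivOfLe (inf_le_right : (S : Subgroup G) ⊓ C ≤ C)).symm).exists_le_sylow
  obtain ⟨T, hT⟩ := (Q.isPGroup'.map C.subtype).exists_le_sylow
  have hPle : Nat.card ↥P ≤ Nat.card ↥(Q : Subgroup ↥C) := by
    obtain ⟨R, hR⟩ := (hP.of_equiv (Subgroup.subgroupOfEquivOfLe hPC).symm).exists_le_sylow
    calc Nat.card ↥P = Nat.card ↥(P.subgroupOf C) := (Nat.card_congr (Subgroup.subgroupOfEquivOfLe hPC).toEquiv).symm
      _ ≤ Nat.card ↥(R : Subgroup ↥C) := Subgroup.card_le_of_le hR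
      _ = Nat.card ↥(Q : Subgroup ↥C) := Nat.card_congr (R.equiv Q).toEquiv
  have hne : S ≠ T := by
    rintro rfl
    refine absurd (Subgroup.card_le_of_le (le_inf hT (Subgroup.map_subtype_le _))) ?_
    rw [Subgroup.card_map_of_injective (Subgroup.subtype_injective C)]
    omega
  have hD : (S : Subgroup G) ⊓ C ≤ (S : Subgroup G) ⊓ (T : Subgroup G) :=
    le_inf inf_le_left fun z hz => hT ⟨⟨z, hz.2⟩, hQ (show (⟨z, hz.2⟩ : ↥C) ∈ ((S : Subgroup G) ⊓ C).subgroupOf C from hz), rfl⟩
  have hxD : x ∈ (S : Subgroup G) ⊓ C := ⟨hx, Subgroup.mem_centralizer_singleton_iff.mpr rfl⟩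
  obtain ⟨w, hw, hwx⟩ := key S T hne (hD hxD)
  -- so `x` is central in `S`
  have hSC : (S : Subgroup G) ≤ C := by
    intro s hs
    rw [Subgroup.mem_centralizer_singleton_iff, ← hwx]
    exact congrArg Subtype.val (Subgroup.mem_center_iff.mp hw ⟨s, hs⟩)
  rw [inf_eq_left.mpr hSC] at hlt
  obtain ⟨T', hT'⟩ := hP.exists_le_sylow
  have := Subgroup.card_le_of_le hT'
  rw [Nat.card_congr (T'.equiv S).toEquiv] at this
  omega

end Cfsg.Agent.S3183
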