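import Cfsg.Statements.S1242
import Cfsg.Agent.Lib.TwoFusion.Transfer

set_option autoImplicit false
open Cfsg

namespace Cfsg.Agent.S1242

/-- Let G be a finite group, p a prime and H a subgroup of index prime to p such that any two elements of H of p-power order that are conjugate in G are conjugate in H. Then (O^p(G)·G') ∩ H = O^p(H)·H', where O^p denotes the subgroup generated by the elements of order prime to p. -/
theorem result {G : Type*} [Group G] [Finite G] {p : ℕ} [Fact p.Prime] (H : Subgroup G) (hidx : Nat.Coprime p H.index) (hfus : ∀ g ∈ H, (∃ k : ℕ, orderOf g = p ^ k) → ∀ a : G, a * g * a⁻¹ ∈ H → ∃ h ∈ H, h * g * h⁻¹ = a * g * a⁻¹) : (Cfsg.pResidual p G ⊔ commutator G) ⊓ H = (Cfsg.pResidual p ↥H ⊔ commutator ↥H).map H.subtype := by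
  let M : Subgroup H := Cfsg.pResidual p ↥H ⊔ commutator ↥H
  apply le_antisymm
  · haveI : M.Normal := Subgroup.Normal.of_commutator_le (↥H) le_sup_right
    letI : CommGroup (H ⧸ M) :=
      { (inferInstance : Group (H ⧸ M)) with
        mul_comm := by
          intro x y
          induction x using QuotientGroup.induction_on with
          | H x =>
            induction y using QuotientGroup.induction_on with
            | H y =>
              rw [← QuotientGroup.mk_mul, ← QuotientGroup.mk_mul, QuotientGroup.eq]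
              refine Subgroup.mem_sup_right ?_
              have := Subgroup.commutator_mem_commutator (Subgroup.mem_top y⁻¹) (Subgroup.mem_top x⁻¹)
              simpa [commutatorElement_def, commutator_def, mul_assoc] using this }
    let φ : H →* H ⧸ M := QuotientGroup.mk' M
    have hp : p.Prime := Fact.out
    have hsplit : ∀ h : H, ∃ k m : ℕ, ¬ p ∣ m ∧ orderOf h = p ^ k * m := by
      intro h
      obtain ⟨k, m, hm, hkm⟩ :=
        Nat.exists_eq_pow_mul_and_not_dvd (orderOf_pos h).ne' p hp.ne_one
      exact ⟨k, m, hm, hkm⟩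
    have hppow : ∀ h : H, ∃ k : ℕ, φ h ^ p ^ k = 1 := by
      intro h
      obtain ⟨k, m, hm, hkm⟩ := hsplit h
      refine ⟨k, ?_⟩
      rw [← map_pow]
      refine (QuotientGroup.eq_one_iff _).mpr (Subgroup.mem_sup_left (Subgroup.subset_closure ?_))
      rw [Set.mem_ofPred_eq, orderOf_pow_of_dvd (pow_ne_zero _ hp.ne_zero) (hkm ▸ dvd_mul_right _ m), hkm,
        Nat.mul_div_cancel_left _ (Nat.pos_of_ne_zero (pow_ne_zero _ hp.ne_zero))]
      exact Nat.Coprime.symm (hp.coprime_iff_not_dvd.mpr hm)
    have hV : Cfsg.pResidual p G ⊔ commutator G ≤ (MonoidHom.transfer φ).ker := by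
      refine sup_le ?_ (Abelianization.commutator_subset_ker _)
      rw [Cfsg.pResidual, Subgroup.closure_le]
      intro g hg
      obtain ⟨h, hh⟩ := QuotientGroup.mk'_surjective M (MonoidHom.transfer φ g)
      obtain ⟨k, hk⟩ := hppow h
      rw [SetLike.mem_coe, MonoidHom.mem_ker]
      refine TwoFusion.eq_one_of_pow_eq_one_of_coprime (m := orderOf g) (n := p ^ k) ?_ ?_
        (Nat.Coprime.pow_right k hg)
      · rw [← map_pow, pow_orderOf_eq_one, map_one]
      · rw [← hh]; exact hk
    intro g hg
    obtain ⟨hgN, hgH⟩ := Subgroup.mem_inf.mp hg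
    let h : H := ⟨g, hgH⟩
    obtain ⟨k, m, hm, hkm⟩ := hsplit h
    let u : H := h ^ m
    have hupow : u ^ p ^ k = 1 := by
      rw [← pow_mul, mul_comm, ← hkm, pow_orderOf_eq_one]
    have hev := TwoFusion.transfer_eq_pow_of_controlled φ u (fun j a hj => by
      rw [← map_pow]
      have hgp : ∃ k : ℕ, orderOf ((u : G) ^ j) = p ^ k := by
        have h1 : ((u : G) ^ j) ^ p ^ k = 1 := by
          rw [← pow_mul, mul_comm, pow_mul, ← Subgroup.coe_pow H u (p ^ k), hupow, Subgroup.coe_one, one_pow]
        obtain ⟨i, _, hi⟩ := (Nat.dvd_prime_pow hp).mp (orderOf_dvd_of_pow_eq_one h1)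
        exact ⟨i, hi⟩
      obtain ⟨c, hc, hcj⟩ := hfus _ (H.pow_mem u.2 j) hgp a hj
      have heq : (⟨a * (u : G) ^ j * a⁻¹, hj⟩ : H) = ⟨c, hc⟩ * u ^ j * ⟨c, hc⟩⁻¹ :=
        Subtype.ext (by simp [← hcj])
      rw [heq, map_mul, map_mul, map_inv]
      simp [mul_comm, mul_assoc])
    have hVu : MonoidHom.transfer φ (u : G) = 1 := by
      have : MonoidHom.transfer φ g = 1 := hV hgN
      simp [u, h, map_pow, this]
    have hφu : φ u = 1 := TwoFusion.eq_one_of_pow_eq_one_of_coprime (m := p ^ k) (n := H.index)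
      (by rw [← map_pow, hupow, map_one]) (by rw [← hev]; exact hVu) (hidx.pow_left k)
    obtain ⟨k', hk'⟩ := hppow h
    have hφh : φ h = 1 := TwoFusion.eq_one_of_pow_eq_one_of_coprime (m := p ^ k') (n := m)
      hk' (by rw [← map_pow]; exact hφu) ((hp.coprime_iff_not_dvd.mpr hm).pow_left k')
    exact ⟨h, (QuotientGroup.eq_one_iff h).mp hφh, rfl⟩
  · rw [Subgroup.map_le_iff_le_comap, Subgroup.comap_inf, sup_le_iff]
    have hs : ∀ K : Subgroup G, H.subtype ⁻¹' K = K.comap H.subtype := fun K => rfl
    refine ⟨le_inf ?_ ?_, le_inf ?_ ?_⟩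
    · refine le_trans ?_ (Subgroup.comap_mono le_sup_left)
      rw [Cfsg.pResidual, Subgroup.closure_le]
      intro x hx
      refine Subgroup.subset_closure ?_
      simpa [Subgroup.orderOf_coe] using hx
    · intro x _; exact x.2
    · refine le_trans ?_ (Subgroup.comap_mono le_sup_right)
      rw [← Subgroup.map_le_iff_le_comap]
      exact (Subgroup.map_commutator ⊤ ⊤ H.subtype).le.trans (Subgroup.commutator_mono le_top le_top)
    · intro x _; exact x.2

end Cfsg.Agent.S1242
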