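import Cfsg.Statements.S0895
import Cfsg.Agent.S0158

set_option autoImplicit false
open Cfsg

namespace Cfsg.Agent.S0895

/-- Let χ be a real-valued irreducible character of a finite group G whose degree is an odd natural number. Then the average over s in G of χ (s * s) equals 1. -/
theorem result {G : Type*} [Group G] [Fintype G] (χ : G → ℂ) (hχ : Cfsg.IsIrrCharacter G χ) (hreal : ∀ g : G, (χ g).im = 0) (d : ℕ) (hd : χ 1 = d) (hodd : Odd d) : (Nat.card G : ℂ)⁻¹ * ∑ s : G, χ (s * s) = 1 := by
  classical
  obtain ⟨n, ρ, hirr, rfl⟩ := hχ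
  haveI := hirr
  have hdn : d = n := by
    rw [Representation.char_one, Module.finrank_fin_fun] at hd
    exact_mod_cast hd.symm
  subst hdn
  obtain ⟨htri, hzero⟩ := Cfsg.Agent.S0158.result ρ
  have hne0 : (Nat.card G : ℂ)⁻¹ * ∑ s : G, ρ.character (s * s) ≠ 0 := fun h => by
    obtain ⟨s, hs⟩ := hzero.mp h
    exact hs (hreal s)
  -- matrices
  let b := Pi.basisFun ℂ (Fin d)
  let M : G → Matrix (Fin d) (Fin d) ℂ := fun x => LinearMap.toMatrix b b (ρ x)
  have hmul : ∀ x y, M (x * y) = M x * M y := fun x y => by
    simp only [M, map_mul]; exact LinearMap.toMatrix_mul b _ _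
  have hone : M 1 = 1 := by simp only [M, map_one]; exact LinearMap.toMatrix_one b
  have ht : ∀ x, ρ.character x = (M x).trace := fun x => LinearMap.trace_eq_matrix_trace ℂ b (ρ x)
  let σ := Cfsg.Agent.S0158.congrRep M hmul hone
  haveI : Invertible (Fintype.card G : ℂ) :=
    invertibleOfNonzero (Nat.cast_ne_zero.mpr Fintype.card_ne_zero)
  let P := Representation.averageMap σ
  have hPproj := Representation.isProj_averageMap σ
  have hnu : (Nat.card G : ℂ)⁻¹ * ∑ s : G, ρ.character (s * s) =
      LinearMap.trace ℂ _ (Cfsg.Agent.S0158.transposeMap * P) := by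
    rw [Nat.card_eq_fintype_card]
    simp only [P, Representation.averageMap, GroupAlgebra.average, map_smul, map_sum,
      Finset.mul_sum, invOf_eq_inv, mul_smul_comm, smul_eq_mul]
    refine Finset.sum_congr rfl fun s _ => ?_
    rw [Representation.asAlgebraHom_of]
    show _ = _ * LinearMap.trace ℂ _ (Cfsg.Agent.S0158.transposeMap * Cfsg.Agent.S0158.cong (M s))
    rw [Cfsg.Agent.S0158.trace_transpose_cong, ← hmul, ← ht]
  -- invariant matrices are symmetric
  have hsym : ∀ X : Matrix (Fin d) (Fin d) ℂ, X ∈ Representation.invariants σ → X.transpose = X := by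
    intro X hX
    by_contra hne
    set Y := X - X.transpose with hY
    have hY0 : Y ≠ 0 := sub_ne_zero.mpr (Ne.symm hne)
    have hYinv : ∀ s, M s * Y * (M s).transpose = Y := by
      intro s
      have h1 : M s * X * (M s).transpose = X := hX s
      have h2 := congrArg Matrix.transpose h1
      rw [Matrix.transpose_mul, Matrix.transpose_mul, Matrix.transpose_transpose] at h2
      rw [hY, mul_sub, sub_mul, h1, mul_assoc (M s) X.transpose, h2]
    have hskew : Y.transpose = -Y := by
      rw [hY, Matrix.transpose_sub, Matrix.transpose_transpose, neg_sub]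
    have hinvar : ∀ s : G, ∀ v ∈ LinearMap.range (Matrix.toLin b b Y),
        ρ s v ∈ LinearMap.range (Matrix.toLin b b Y) := by
      rintro s _ ⟨w, rfl⟩
      have h1 : M s * Y = Y * (M s⁻¹).transpose := by
        calc M s * Y = M s * Y * (M (s⁻¹ * s)).transpose := by rw [inv_mul_cancel, hone, Matrix.transpose_one, mul_one]
          _ = M s * Y * (M s).transpose * (M s⁻¹).transpose := by rw [hmul, Matrix.transpose_mul, mul_assoc (M s * Y)]
          _ = Y * (M s⁻¹).transpose := by rw [hYinv]
      refine ⟨Matrix.toLin b b (M s⁻¹).transpose w, ?_⟩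
      rw [← LinearMap.comp_apply, ← Matrix.toLin_mul, ← h1, Matrix.toLin_mul b b b, LinearMap.comp_apply,
        Matrix.toLin_toMatrix]
    rcases Cfsg.Agent.CharApp.eq_bot_or_top_of_invariant ρ _ hinvar with h | h
    · exact hY0 ((Matrix.toLin b b).map_eq_zero_iff.mp (LinearMap.range_eq_bot.mp h))
    · have hdet : Y.det ≠ 0 := by
        intro h0
        obtain ⟨v, hv0, hv⟩ := Matrix.exists_mulVec_eq_zero_iff.mpr h0
        have hsurj : Function.Surjective (Matrix.toLin b b Y) := LinearMap.range_eq_top.mp h
        refine hv0 (LinearMap.injective_iff_surjective.mpr hsurj (a₂ := 0) ?_)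
        rw [map_zero, Matrix.toLin_eq_toLin', Matrix.toLin'_apply, hv]
      have h2 := congrArg Matrix.det hskew
      rw [Matrix.det_transpose, Matrix.det_neg, Fintype.card_fin, hodd.neg_one_pow, neg_one_mul] at h2
      exact hdet (CharZero.eq_neg_self_iff.mp h2)
  have hval : (Nat.card G : ℂ)⁻¹ * ∑ s : G, ρ.character (s * s) = (Module.finrank ℂ (Representation.invariants σ) : ℂ) := by
    rw [hnu, show Cfsg.Agent.S0158.transposeMap * P = P from
      LinearMap.ext fun X => hsym _ (hPproj.map_mem X)]
    exact hPproj.trace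
  rcases htri with h | h | h
  · exact absurd h hne0
  · exact h
  · exfalso
    rw [hval] at h
    have h' := congrArg Complex.re h
    simp at h'
    have := Nat.cast_nonneg (α := ℝ) (Module.finrank ℂ (Representation.invariants σ))
    linarith


end Cfsg.Agent.S0895
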