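import Cfsg.Statements.S4481
import Cfsg.Agent.Lib.SecondMain.DihedralBlock
-- import your own Cfsg.Agent.* helpers here

set_option autoImplicit false
open Cfsg

namespace Cfsg.Agent.S4481

/-- The principal 2-block of a group with dihedral Sylow 2-subgroups. Let G be a finite group whose Sylow 2-subgroup P is dihedral of order 2^n ≥ 8, let σ be an element of P of order 2^(n−1), ζ a primitive 2^(n−1)-th root of unity, and M a maximal ideal of the algebraic integers containing 2. Then the principal 2-block consists of exactly 3 + 2^(n−2) irreducible characters, which can be labelled 1, χ₁, χ₂, χ₃ and χ^(j) for 1 ≤ j ≤ 2^(n−2) − 1 (all distinct), with signs δ₁, δ₂, δ₃ such that for 0 < λ < 2^(n−1): χ₁(σ^λ) = δ₁, χ₂(σ^λ) = δ₂(−1)^(λ+1), χ₃(σ^λ) = δ₃(−1)^(λ+1) and χ^(j)(σ^λ) = δ₁(ζ^(jλ) + ζ^(−jλ)); and for every element ρ of odd order and every j: 1 + δ₁χ₁(ρ) = −δ₂χ₂(ρ) − δ₃χ₃(ρ) = δ₁χ^(j)(ρ). -/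
theorem result {G : Type*} [Group G] [Finite G] (M : Ideal Cfsg.AlgInt) (hM : Cfsg.IsPModular 2 M) (n : ℕ) (hn : 3 ≤ n) (P : Sylow 2 G) (hP : Nonempty ((P : Subgroup G) ≃* DihedralGroup (2 ^ (n - 1)))) (σ : G) (hσ : σ ∈ (P : Subgroup G)) (hσo : orderOf σ = 2 ^ (n - 1)) (ζ : ℂ) (hζ : IsPrimitiveRoot ζ (2 ^ (n - 1))) : Nat.card (Cfsg.principalBlock M G) = 3 + 2 ^ (n - 2) ∧ ∃ (χ₁ χ₂ χ₃ : Cfsg.IrrCharacter G) (χ' : Fin (2 ^ (n - 2) - 1) → Cfsg.IrrCharacter G) (δ₁ δ₂ δ₃ : ℤ), (δ₁ = 1 ∨ δ₁ = -1) ∧ (δ₂ = 1 ∨ δ₂ = -1) ∧ (δ₃ = 1 ∨ δ₃ = -1) ∧ Function.Injective χ' ∧ (χ₁ : G → ℂ) ≠ (fun _ => 1) ∧ (χ₂ : G → ℂ) ≠ (fun _ => 1) ∧ (χ₃ : G → ℂ) ≠ (fun _ => 1) ∧ χ₁ ≠ χ₂ ∧ χ₁ ≠ χ₃ ∧ χ₂ ≠ χ₃ ∧ (∀ j, χ' j ≠ χ₁ ∧ χ' j ≠ χ₂ ∧ χ' j ≠ χ₃ ∧ (χ' j : G → ℂ) ≠ (fun _ => 1)) ∧ Cfsg.principalBlock M G = {χ : Cfsg.IrrCharacter G | (χ : G → ℂ) = (fun _ => 1) ∨ χ = χ₁ ∨ χ = χ₂ ∨ χ = χ₃ ∨ ∃ j, χ = χ' j} ∧ (∀ l : ℕ, 0 < l → l < 2 ^ (n - 1) → (χ₁ : G → ℂ) (σ ^ l) = δ₁ ∧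 (χ₂ : G → ℂ) (σ ^ l) = δ₂ * (-1) ^ (l + 1) ∧ (χ₃ : G → ℂ) (σ ^ l) = δ₃ * (-1) ^ (l + 1) ∧ ∀ j : Fin (2 ^ (n - 2) - 1), (χ' j : G → ℂ) (σ ^ l) = δ₁ * (ζ ^ (((j : ℕ) + 1) * l) + (ζ ^ (((j : ℕ) + 1) * l))⁻¹)) ∧ ∀ ρ : G, Odd (orderOf ρ) → ∀ j : Fin (2 ^ (n - 2) - 1), 1 + δ₁ * (χ₁ : G → ℂ) ρ = -δ₂ * (χ₂ : G → ℂ) ρ - δ₃ * (χ₃ : G → ℂ) ρ ∧ 1 + δ₁ * (χ₁ : G → ℂ) ρ = δ₁ * (χ' j : G → ℂ) ρ := by
  classical
  obtain ⟨a, rfl⟩ : ∃ a, n = a + 3 := ⟨n - 3, by omega⟩
  simp only [show a + 3 - 1 = a + 2 by omega, show a + 3 - 2 = a + 1 by omega] at *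
  rw [show a + 3 - 2 = a + 1 by omega]
  have D : SecondMain.DihedralData P a σ := ⟨hP, hσ, hσo⟩
  obtain ⟨Φ, hΦ1, hΦsymm, hΦval, hΦone, hΦgram, hΦweak⟩ := D.exists_rot_coeff hM hζ
  have := Fintype.ofFinite (IrrCharacter G)
  set m := 2 ^ (a + 2) with hmdef
  set h := 2 ^ (a + 1) with hhdef
  have hm : m = 2 * h := by rw [hmdef, hhdef]; ring
  have h2 : 2 ≤ h := le_self_pow₀ one_le_two (by omega)
  have hev : Even h := ⟨2 ^ a, by rw [hhdef]; ring⟩
  choose dg hdg using fun χ : IrrCharacter G => Char.IsIrrCharacter.exists_degree χ.2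
  have hweak : ∀ ρ : G, Odd (orderOf ρ) → ∀ j,
      ∑ i : principalBlock M G, (Φ i.1 j : ℂ) * (i.1 : G → ℂ) ρ = 0 := fun ρ hρ j => by
    have := hΦweak ρ hρ j
    rwa [← finsum_set_coe_eq_finsum_mem, finsum_eq_sum_of_fintype] at this
  obtain ⟨ε, β, γ, A, B, C, E, F, hε, hβ, hγ, hoA, hoB, hoC, hoE, hAB, hAC, hAE, hBC, hBE, hCE, hF, hFi,
      hv0, hvh, hvj⟩ := SecondMain.exists_dihedral_shape h hev h2
    (fun j (i : principalBlock M G) => Φ i.1 j) ⟨_, BrauerPairs.oneIrr_mem_principal hM⟩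
    (fun i => (dg i.1 : ℤ))
    (fun i => by
      refine Int.natCast_pos.mpr (Nat.pos_of_ne_zero fun e => Char.IsIrrCharacter.apply_one_ne_zero i.1.2 ?_)
      rw [(hdg i.1).2, e, Nat.cast_zero])
    (by
      refine Int.cast_injective (α := ℂ) ?_
      push_cast
      rw [← (hdg _).2]
      rfl)
    hΦone
    (fun j k hj hj1 hk hk1 => by
      have := hΦgram j k hj hj1 hk hk1
      rwa [← finsum_set_coe_eq_finsum_mem, finsum_eq_sum_of_fintype] at this)
    (fun j _ _ => by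
      refine Int.cast_injective (α := ℂ) ?_
      push_cast
      rw [← hweak 1 (by simp) j]
      exact Finset.sum_congr rfl fun i _ => by rw [(hdg _).2])
  set o : principalBlock M G := ⟨_, BrauerPairs.oneIrr_mem_principal hM⟩
  -- the values at the rotations, from the coefficients
  have hvals : ∀ (i : principalBlock M G) (c : ℕ → ℤ), (∀ j, j ≤ h → j ≠ 1 → Φ i.1 j = c j) → c 1 = 0 →
      (∀ j, h < j → j < m → c j = c (m - j)) → ∀ l, 0 < l → l < m →
      (i.1 : G → ℂ) (σ ^ l) = ∑ j ∈ Finset.range m, (c j : ℂ) * (ζ ^ l) ^ j := by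
    intro i c hc hc1 hcs l hl hlm
    rw [hΦval i.1 l hl hlm]
    refine Finset.sum_congr rfl fun j hj => ?_
    congr 2
    have hjm := Finset.mem_range.mp hj
    have key : ∀ k, k ≤ h → Φ i.1 k = c k := fun k hk => by
      by_cases e : k = 1
      · rw [e, hΦ1, hc1]
      · exact hc k hk e
    by_cases e : j ≤ h
    · exact key j e
    · rw [← hΦsymm i.1 j hjm.le, hcs j (by omega) hjm]
      exact key _ (by omega)
  -- the coefficients of each character
  have hcases : ∀ (i : principalBlock M G) (c : ℕ → ℤ),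
      ((if i = o then 1 else if i = A then ε else if i = E then -ε else 0) = c 0) →
      ((if i = B then β else if i = C then γ else if i = E then -ε else 0) = c h) →
      (∀ j, 2 ≤ j → j < h → (if i = E then -ε else if i = F j then ε else 0) = c j) →
      ∀ j, j ≤ h → j ≠ 1 → Φ i.1 j = c j := by
    intro i c c0 ch cj j hj hj1
    rcases eq_or_ne j 0 with rfl | hj0
    · exact (hv0 i).trans c0
    rcases eq_or_ne j h with rfl | hjh
    · exact (hvh i).trans ch
    exact (hvj j (by omega) (by omega) i).trans (cj j (by omega) (by omega))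
  have hζm : ∀ l, (ζ ^ l) ^ m = 1 := fun l => by rw [← pow_mul, mul_comm, pow_mul, hζ.pow_eq_one, one_pow]
  have hζh : ζ ^ h = -1 := by
    have h1 : ζ ^ h * ζ ^ h = 1 := by rw [← pow_add, ← two_mul, ← hm, hζ.pow_eq_one]
    exact (mul_self_eq_one_iff.mp h1).resolve_left (hζ.pow_ne_one_of_pos_of_lt (by omega) (by omega))
  have hA : ∀ l, 0 < l → l < m → (A.1 : G → ℂ) (σ ^ l) = (ε : ℂ) := by
    intro l hl hlm
    rw [hvals A (fun j => if j = 0 then ε else 0) (hcases A _ ?_ ?_ ?_) (by simp) (fun j a b => ?_) l hl hlm,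
      Finset.sum_eq_single 0]
    · simp
    · intro j _ hj; simp [hj]
    · intro hh; exact absurd (Finset.mem_range.mpr (by omega)) hh
    · simp [Ne.symm hoA]
    · simp [hAB, hAC, hAE, show h ≠ 0 by omega]
    · intro j a b; simp [hAE, Ne.symm (hF j a b).2.1, show j ≠ 0 by omega]
    · simp [show j ≠ 0 by omega, show m - j ≠ 0 by omega]
  have hBv : ∀ l, 0 < l → l < m → (B.1 : G → ℂ) (σ ^ l) = (β : ℂ) * (-1) ^ l := by
    intro l hl hlm
    rw [hvals B (fun j => if j = h then β else 0) (hcases B _ ?_ ?_ ?_) (by simp [show (1 : ℕ) ≠ h by omega])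
      (fun j a b => ?_) l hl hlm, Finset.sum_eq_single h]
    · simp [← pow_mul, mul_comm l h]
      left
      rw [pow_mul, hζh]
    · intro j _ hj; simp [hj]
    · intro hh; exact absurd (Finset.mem_range.mpr (by omega)) hh
    · simp [Ne.symm hoB, Ne.symm hAB, hBE, show 0 ≠ h by omega]
    · simp
    · intro j a b; simp [hBE, Ne.symm (hF j a b).2.2.1, show j ≠ h by omega]
    · simp [show j ≠ h by omega, show m - j ≠ h by omega]
  have hCv : ∀ l, 0 < l → l < m → (C.1 : G → ℂ) (σ ^ l) = (γ : ℂ) * (-1) ^ l := by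
    intro l hl hlm
    rw [hvals C (fun j => if j = h then γ else 0) (hcases C _ ?_ ?_ ?_) (by simp [show (1 : ℕ) ≠ h by omega])
      (fun j a b => ?_) l hl hlm, Finset.sum_eq_single h]
    · simp [← pow_mul, mul_comm l h]
      left
      rw [pow_mul, hζh]
    · intro j _ hj; simp [hj]
    · intro hh; exact absurd (Finset.mem_range.mpr (by omega)) hh
    · simp [Ne.symm hoC, Ne.symm hAC, hCE, show 0 ≠ h by omega]
    · simp [Ne.symm hBC]
    · intro j a b; simp [hCE, Ne.symm (hF j a b).2.2.2.1, show j ≠ h by omega]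
    · simp [show j ≠ h by omega, show m - j ≠ h by omega]
  let X : Fin (h - 1) → principalBlock M G := fun j => if (j : ℕ) = 0 then E else F (j + 1)
  have hX : ∀ j : Fin (h - 1), X j ≠ o ∧ X j ≠ A ∧ X j ≠ B ∧ X j ≠ C := by
    intro j
    by_cases e : (j : ℕ) = 0
    · simp only [X, if_pos e]
      exact ⟨hoE.symm, hAE.symm, hBE.symm, hCE.symm⟩
    · simp only [X, if_neg e]
      obtain ⟨f1, f2, f3, f4, -⟩ := hF (j + 1) (by omega) (by omega)
      exact ⟨f1, f2, f3, f4⟩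
  have hXi : Function.Injective X := by
    intro j k hjk
    by_cases ej : (j : ℕ) = 0 <;> by_cases ek : (k : ℕ) = 0
    · exact Fin.ext (ej.trans ek.symm)
    · simp only [X, if_pos ej, if_neg ek] at hjk
      exact absurd hjk.symm (hF (k + 1) (by omega) (by omega)).2.2.2.2
    · simp only [X, if_neg ej, if_pos ek] at hjk
      exact absurd hjk (hF (j + 1) (by omega) (by omega)).2.2.2.2
    · simp only [X, if_neg ej, if_neg ek] at hjk
      exact Fin.ext (Nat.succ_injective (hFi _ _ (by omega) (by omega) (by omega) (by omega) hjk))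
  have hXv : ∀ (j : Fin (h - 1)) (l : ℕ), 0 < l → l < m →
      ((X j).1 : G → ℂ) (σ ^ l) = (ε : ℂ) * (ζ ^ (((j : ℕ) + 1) * l) + (ζ ^ (((j : ℕ) + 1) * l))⁻¹) := by
    intro j l hl hlm
    obtain ⟨hxo, hxA, hxB, hxC⟩ := hX j
    set k := (j : ℕ) + 1 with hk
    have hkh : k < h := by omega
    have hXE : X j = E ↔ k = 1 := by
      by_cases e : (j : ℕ) = 0
      · simp [X, e, hk]
      · simp only [X, if_neg e]
        exact iff_of_false (hF k (by omega) hkh).2.2.2.2 (by omega)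
    rw [hvals (X j) (fun i => (if k = 1 then -ε else 0) + ((if i = k then ε else 0) + if i = m - k then ε else 0))
      (hcases (X j) _ ?_ ?_ ?_) ?_ (fun i a b => ?_) l hl hlm]
    · push_cast
      simp only [apply_ite (Int.cast : ℤ → ℂ), Int.cast_zero, add_mul, ite_mul, zero_mul, Finset.sum_add_distrib,
        Finset.sum_ite_eq', Finset.mem_range, show k < m by omega, show m - k < m by omega, if_true]
      have hgeom : ∑ i ∈ Finset.range m, (ζ ^ l) ^ i = 0 := by
        rw [CycloTrace.geom_sum_of_pow_eq_one (hζm l), if_neg]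
        exact hζ.pow_ne_one_of_pos_of_lt (by omega) hlm
      have hinv : (ζ ^ l) ^ (m - k) = ((ζ ^ l) ^ k)⁻¹ :=
        eq_inv_of_mul_eq_one_left (by rw [← pow_add, Nat.sub_add_cancel (by omega), hζm])
      rw [hinv, ← pow_mul ζ l k, mul_comm l k]
      split_ifs with e
      · rw [← Finset.mul_sum, hgeom]; ring
      · simp; ring
    · simp only [if_neg hxo, if_neg hxA, hXE]
      split_ifs <;> first | omega | contradiction
    · simp only [if_neg hxB, if_neg hxC, hXE]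
      split_ifs <;> omega
    · intro i a b
      have hXF : k ≠ 1 → (X j = F i ↔ i = k) := fun e => by
        simp only [X, if_neg (show (j : ℕ) ≠ 0 by omega)]
        exact ⟨fun x => (hFi _ _ (by omega) hkh a b x).symm, fun x => by rw [x]⟩
      by_cases e : k = 1
      · simp only [hXE, if_pos e]
        split_ifs <;> omega
      · simp only [hXE, if_neg e, hXF e]
        split_ifs <;> omega
    · split_ifs <;> omega
    · split_ifs <;> omega
  -- nothing else
  have hall : ∀ i : principalBlock M G, i = o ∨ i = A ∨ i = B ∨ i = C ∨ ∃ j, i = X j := by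
    intro i
    by_contra hne
    simp only [not_or, not_exists] at hne
    obtain ⟨no, nA, nB, nC, nX⟩ := hne
    have nE : i ≠ E := by simpa [X] using nX ⟨0, by omega⟩
    have nF : ∀ j, 2 ≤ j → j < h → i ≠ F j := fun j ja jb => by
      simpa [X, show j - 1 ≠ 0 by omega, show j - 1 + 1 = j by omega] using nX ⟨j - 1, by omega⟩
    have hz := hvals i (fun _ => 0) (hcases i _ (by simp [no, nA, nE]) (by simp [nB, nC, nE])
      (fun j ja jb => by simp [nE, nF j ja jb])) rfl (fun _ _ _ => rfl)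
    refine D.false_of_vanish_rot hM i.2 (fun l hl hlm => by rw [hz l hl hlm]; simp) ({o.1, A.1, B.1, C.1} : Finset _)
      ?_ ?_ ?_ ?_
    · simp
    · simp [Subtype.val_inj, hoA, hoB, hoC, hAB, hAC, hBC]
    · simp [Subtype.val_inj, no, nA, nB, nC]
    · have hh1 : (-1 : ℂ) ^ h = 1 := hev.neg_one_pow
      simp only [Finset.mem_insert, Finset.mem_singleton, SecondMain.midRot, ← hhdef]
      rintro φ (rfl | rfl | rfl | rfl)
      · exact ⟨1, odd_one, by simp [o, BrauerPairs.oneIrr]⟩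
      · exact ⟨ε, by rcases hε with rfl | rfl <;> decide, hA h (by omega) (by omega)⟩
      · exact ⟨β, by rcases hβ with rfl | rfl <;> decide, by rw [hBv h (by omega) (by omega), hh1, mul_one]⟩
      · exact ⟨γ, by rcases hγ with rfl | rfl <;> decide, by rw [hCv h (by omega) (by omega), hh1, mul_one]⟩
  have hne1 : ∀ i : principalBlock M G, o ≠ i → (i.1 : G → ℂ) ≠ fun _ => 1 := fun i hi e =>
    hi (Subtype.ext (Subtype.ext e.symm))
  refine ⟨?_, A.1, B.1, C.1, fun j => (X j).1, ε, -β, -γ, hε, by omega, by omega,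
    fun j k e => hXi (Subtype.ext e), hne1 A hoA, hne1 B hoB, hne1 C hoC,
    fun e => hAB (Subtype.ext e), fun e => hAC (Subtype.ext e), fun e => hBC (Subtype.ext e),
    fun j => ⟨fun e => (hX j).2.1 (Subtype.ext e), fun e => (hX j).2.2.1 (Subtype.ext e),
      fun e => (hX j).2.2.2 (Subtype.ext e), hne1 _ (hX j).1.symm⟩, ?_, fun l hl hlm => ?_, fun ρ hρ j => ?_⟩
  · let g : Fin 4 ⊕ Fin (h - 1) → principalBlock M G := Sum.elim ![o, A, B, C] X
    have hg : Function.Bijective g := by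
      refine ⟨Function.Injective.sumElim ?_ hXi ?_, fun i => ?_⟩
      · intro p q
        fin_cases p <;> fin_cases q <;> simp [hoA, hoB, hoC, hAB, hAC, hBC, hoA.symm, hoB.symm, hoC.symm, hAB.symm, hAC.symm, hBC.symm]
      · intro p j
        obtain ⟨x1, x2, x3, x4⟩ := hX j
        fin_cases p <;> simp [x1.symm, x2.symm, x3.symm, x4.symm]
      · rcases hall i with rfl | rfl | rfl | rfl | ⟨j, rfl⟩
        exacts [⟨.inl 0, rfl⟩, ⟨.inl 1, rfl⟩, ⟨.inl 2, rfl⟩, ⟨.inl 3, rfl⟩, ⟨.inr j, rfl⟩]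
    rw [← Nat.card_congr (Equiv.ofBijective g hg), Nat.card_sum, Nat.card_eq_fintype_card,
      Nat.card_eq_fintype_card, Fintype.card_fin, Fintype.card_fin]
    omega
  · ext χ
    constructor
    · intro hχ
      rcases hall ⟨χ, hχ⟩ with e | e | e | e | ⟨j, e⟩
      · exact Or.inl (congrArg (fun i : principalBlock M G => (i.1 : G → ℂ)) e)
      · exact Or.inr (Or.inl (congrArg Subtype.val e))
      · exact Or.inr (Or.inr (Or.inl (congrArg Subtype.val e)))
      · exact Or.inr (Or.inr (Or.inr (Or.inl (congrArg Subtype.val e))))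
      · exact Or.inr (Or.inr (Or.inr (Or.inr ⟨j, congrArg Subtype.val e⟩)))
    · rintro (e | rfl | rfl | rfl | ⟨j, rfl⟩)
      · rw [show χ = BrauerPairs.oneIrr G from Subtype.ext e]
        exact BrauerPairs.oneIrr_mem_principal hM
      exacts [A.2, B.2, C.2, (X j).2]
  · refine ⟨hA l hl hlm, ?_, ?_, fun j => hXv j l hl hlm⟩
    · rw [hBv l hl hlm, pow_succ]; push_cast; ring
    · rw [hCv l hl hlm, pow_succ]; push_cast; ring
  · -- orthogonality to the elements of odd order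
    have h0 : 1 + (ε : ℂ) * (A.1 : G → ℂ) ρ - (ε : ℂ) * (E.1 : G → ℂ) ρ = 0 := by
      rw [← hweak ρ hρ 0, ← Finset.sum_subset (Finset.subset_univ {o, A, E}) fun i _ hi => by
        simp only [Finset.mem_insert, Finset.mem_singleton, not_or] at hi
        simp [hv0 i, hi.1, hi.2.1, hi.2.2]]
      rw [Finset.sum_insert (by simp [hoA, hoE]), Finset.sum_pair hAE, hv0, hv0, hv0]
      have ho : (o.1 : G → ℂ) ρ = 1 := rfl
      simp [Ne.symm hoA, Ne.symm hoE, Ne.symm hAE, ho]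
      ring
    have h1 : (β : ℂ) * (B.1 : G → ℂ) ρ + (γ : ℂ) * (C.1 : G → ℂ) ρ - (ε : ℂ) * (E.1 : G → ℂ) ρ = 0 := by
      rw [← hweak ρ hρ h, ← Finset.sum_subset (Finset.subset_univ {B, C, E}) fun i _ hi => by
        simp only [Finset.mem_insert, Finset.mem_singleton, not_or] at hi
        simp [hvh i, hi.1, hi.2.1, hi.2.2]]
      rw [Finset.sum_insert (by simp [hBC, hBE]), Finset.sum_pair hCE, hvh, hvh, hvh]
      simp [Ne.symm hBC, Ne.symm hBE, Ne.symm hCE]
      ring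
    have h3 : (ε : ℂ) * ((X j).1 : G → ℂ) ρ = (ε : ℂ) * (E.1 : G → ℂ) ρ := by
      by_cases e : (j : ℕ) = 0
      · simp only [X, if_pos e]
      · simp only [X, if_neg e]
        have hk : 2 ≤ (j : ℕ) + 1 := by omega
        have hkh : (j : ℕ) + 1 < h := by omega
        have hne := (hF _ hk hkh).2.2.2.2
        have := hweak ρ hρ ((j : ℕ) + 1)
        rw [← Finset.sum_subset (Finset.subset_univ {E, F ((j : ℕ) + 1)}) fun i _ hi => by
          simp only [Finset.mem_insert, Finset.mem_singleton, not_or] at hi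
          simp [hvj _ hk hkh i, hi.1, hi.2]] at this
        rw [Finset.sum_pair hne.symm, hvj _ hk hkh, hvj _ hk hkh, if_pos rfl, if_neg hne, if_pos rfl] at this
        push_cast at this
        linear_combination this
    push_cast
    constructor
    · linear_combination h0 - h1
    · linear_combination h0 - h3

end Cfsg.Agent.S4481
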