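import Cfsg.Statements.S0213
import Cfsg.Agent.Lib.Involution.Real

set_option autoImplicit false
open Cfsg

namespace Cfsg.Agent.S0213

/-- Thompson Order Formula, two-class case: if every involution of the finite group G is conjugate to exactly one of the non-conjugate involutions x₁, x₂, and nᵢ is the number of pairs (u, v) with u conjugate to x₁, v conjugate to x₂ and xᵢ in the cyclic group generated by uv, then |G| = |C(x₂)| n₁ + |C(x₁)| n₂. -/
theorem result {G : Type*} [Group G] [Finite G] (x₁ x₂ : G) (h₁ : orderOf x₁ = 2) (h₂ : orderOf x₂ = 2) (hnc : ¬ IsConj x₁ x₂) (hall : ∀ t : G, orderOf t = 2 → IsConj x₁ t ∨ IsConj x₂ t) : Nat.card G = Nat.card (Subgroup.centralizer ({x₂} : Set G)) * Nat.card {p : G × G // IsConj x₁ p.1 ∧ IsConj x₂ p.2 ∧ x₁ ∈ Subgroup.zpowers (p.1 * p.2)} + Nat.card (Subgroup.centralizer ({x₁} : Set G)) * Nat.card {p : G × G // IsConj x₁ p.1 ∧ IsConj x₂ p.2 ∧ x₂ ∈ Subgroup.zpowers (p.1 * p.2)} := by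
  classical
  haveI := Fintype.ofFinite G
  set c₁ := Nat.card (Subgroup.centralizer ({x₁} : Set G)) with hc₁
  set c₂ := Nat.card (Subgroup.centralizer ({x₂} : Set G)) with hc₂
  -- class sizes
  have hclass : ∀ x : G, Nat.card (Subgroup.centralizer ({x} : Set G)) *
      Nat.card {t : G // IsConj x t} = Nat.card G := by
    intro x
    rw [← Subgroup.card_mul_index (Subgroup.centralizer ({x} : Set G))]
    congr 1
    refine (Nat.card_congr (Equiv.ofBijective (fun q : G ⧸ Subgroup.centralizer ({x} : Set G) =>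
      (⟨q.out * x * q.out⁻¹, isConj_iff.2 ⟨q.out, rfl⟩⟩ : {t : G // IsConj x t})) ⟨?_, ?_⟩)).symm
    · intro a b h
      simp only [Subtype.mk.injEq] at h
      rw [← a.out_eq, ← b.out_eq]
      apply QuotientGroup.eq.2
      rw [Involution.mem_centralizer_singleton]
      calc a.out⁻¹ * b.out * x = a.out⁻¹ * (b.out * x * b.out⁻¹) * b.out := by group
        _ = a.out⁻¹ * (a.out * x * a.out⁻¹) * b.out := by rw [h]
        _ = x * (a.out⁻¹ * b.out) := by group
    · rintro ⟨t, ht⟩
      obtain ⟨g, rfl⟩ := isConj_iff.1 ht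
      refine ⟨(g : G ⧸ Subgroup.centralizer ({x} : Set G)), Subtype.ext ?_⟩
      obtain ⟨⟨h, hh⟩, he⟩ := QuotientGroup.mk_out_eq_mul (Subgroup.centralizer ({x} : Set G)) g
      rw [Involution.mem_centralizer_singleton] at hh
      simp only [he]
      calc g * h * x * (g * h)⁻¹ = g * (h * x) * h⁻¹ * g⁻¹ := by group
        _ = g * x * g⁻¹ := by rw [hh]; group
  let N : G → ℕ := fun z => Nat.card {p : G × G // IsConj x₁ p.1 ∧ IsConj x₂ p.2 ∧ z ∈ Subgroup.zpowers (p.1 * p.2)}
  have hNinv : ∀ z z' : G, IsConj z z' → N z = N z' := by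
    intro z z' hz
    obtain ⟨g, rfl⟩ := isConj_iff.1 hz
    refine Nat.card_congr (Equiv.subtypeEquiv
      ((MulAut.conj g).toEquiv.prodCongr (MulAut.conj g).toEquiv) fun p => ?_)
    have e : ∀ a b : G, IsConj a b ↔ IsConj a (g * b * g⁻¹) := fun a b =>
      ⟨fun h => h.trans (isConj_iff.2 ⟨g, rfl⟩), fun h => h.trans (isConj_iff.2 ⟨g, rfl⟩).symm⟩
    show _ ↔ IsConj x₁ (g * p.1 * g⁻¹) ∧ IsConj x₂ (g * p.2 * g⁻¹) ∧
      g * z * g⁻¹ ∈ Subgroup.zpowers ((g * p.1 * g⁻¹) * (g * p.2 * g⁻¹))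
    rw [← e, ← e, show (g * p.1 * g⁻¹) * (g * p.2 * g⁻¹) = (MulAut.conj g).toMonoidHom (p.1 * p.2) by
      simp [mul_assoc], ← MonoidHom.map_zpowers]
    exact and_congr_right fun _ => and_congr_right fun _ =>
      (Subgroup.mem_map_iff_mem (f := (MulAut.conj g).toMonoidHom) (MulAut.conj g).injective).symm
  -- each pair determines exactly one involution of the cyclic group it generates
  have hinv : ∀ p : {p : G × G // IsConj x₁ p.1 ∧ IsConj x₂ p.2},
      ∃! z : {z : G // orderOf z = 2}, (z : G) ∈ Subgroup.zpowers (p.1.1 * p.1.2) := by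
    rintro ⟨⟨u, v⟩, hu, hv⟩
    have hu2 : orderOf u = 2 := (Involution.orderOf_eq_of_isConj hu).symm.trans h₁
    have hv2 : orderOf v = 2 := (Involution.orderOf_eq_of_isConj hv).symm.trans h₂
    have he := Involution.even_of_not_isConj hu2 hv2 fun h => hnc ((hu.trans h).trans hv.symm)
    obtain ⟨z, hz, -, -, hzm⟩ := Involution.exists_commuting_involution hu2 hv2 he
    refine ⟨⟨z, hz⟩, hzm, fun w hw => Subtype.ext ?_⟩
    haveI := Fintype.ofFinite (Subgroup.zpowers (u * v))
    have h1 := IsCyclic.card_orderOf_eq_totient (α := Subgroup.zpowers (u * v)) (d := 2)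
      (by rw [← Nat.card_eq_fintype_card, Nat.card_zpowers]; exact even_iff_two_dvd.1 he)
    rw [Nat.totient_two, Finset.card_eq_one] at h1
    obtain ⟨a, ha⟩ := h1
    have hw' : (⟨w.1, hw⟩ : Subgroup.zpowers (u * v)) = a := by
      have := (Finset.mem_filter (p := fun a => orderOf a = 2)).2 (⟨Finset.mem_univ _, by rw [Subgroup.orderOf_mk]; exact w.2⟩ :
        (⟨w.1, hw⟩ : Subgroup.zpowers (u * v)) ∈ Finset.univ ∧ orderOf (⟨w.1, hw⟩ : Subgroup.zpowers (u * v)) = 2)
      rw [ha] at this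
      exact Finset.mem_singleton.1 this
    have hz' : (⟨z, hzm⟩ : Subgroup.zpowers (u * v)) = a := by
      have := (Finset.mem_filter (p := fun a => orderOf a = 2)).2 (⟨Finset.mem_univ _, by rw [Subgroup.orderOf_mk]; exact hz⟩ :
        (⟨z, hzm⟩ : Subgroup.zpowers (u * v)) ∈ Finset.univ ∧ orderOf (⟨z, hzm⟩ : Subgroup.zpowers (u * v)) = 2)
      rw [ha] at this
      exact Finset.mem_singleton.1 this
    have e := congrArg Subtype.val (hw'.trans hz'.symm)
    exact e
  have hsum : Nat.card {t : G // IsConj x₁ t} * Nat.card {t : G // IsConj x₂ t} =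
      ∑ z : {z : G // orderOf z = 2}, N z := by
    rw [← Nat.card_prod, ← Nat.card_sigma]
    refine Nat.card_congr ?_
    choose f hf hfu using hinv
    exact
      { toFun := fun q => ⟨f ⟨(q.1.1, q.2.1), q.1.2, q.2.2⟩, (q.1.1, q.2.1), q.1.2, q.2.2,
          hf ⟨(q.1.1, q.2.1), q.1.2, q.2.2⟩⟩
        invFun := fun r => (⟨r.2.1.1, r.2.2.1⟩, ⟨r.2.1.2, r.2.2.2.1⟩)
        left_inv := fun q => rfl
        right_inv := by
          rintro ⟨z, ⟨u, v⟩, hu, hv, hz⟩
          obtain rfl : z = f ⟨(u, v), hu, hv⟩ := hfu ⟨(u, v), hu, hv⟩ z hz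
          rfl }
  have hsplit : ∑ z : {z : G // orderOf z = 2}, N z =
      Nat.card {t : G // IsConj x₁ t} * N x₁ + Nat.card {t : G // IsConj x₂ t} * N x₂ := by
    rw [← Finset.sum_filter_add_sum_filter_not Finset.univ (fun z : {z : G // orderOf z = 2} => IsConj x₁ z.1),
      Finset.sum_congr rfl (fun z hz => hNinv z.1 x₁ (Finset.mem_filter.1 hz).2.symm),
      Finset.sum_congr (s₂ := Finset.univ.filter fun z : {z : G // orderOf z = 2} => IsConj x₂ z.1)
        ?_ (fun z hz => hNinv z.1 x₂ (Finset.mem_filter.1 hz).2.symm)]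
    · rw [Finset.sum_const, Finset.sum_const, smul_eq_mul, smul_eq_mul]
      congr 2 <;> rw [← Fintype.card_subtype, ← Nat.card_eq_fintype_card] <;>
        refine Nat.card_congr ((Equiv.subtypeSubtypeEquivSubtype ?_))
      · intro t ht; exact (Involution.orderOf_eq_of_isConj ht).symm.trans h₁
      · intro t ht; exact (Involution.orderOf_eq_of_isConj ht).symm.trans h₂
    · ext z
      simp only [Finset.mem_filter, Finset.mem_univ, true_and]
      exact ⟨fun h => (hall z.1 z.2).resolve_left h, fun h h' => hnc (h'.trans h.symm)⟩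
  rw [hsplit] at hsum
  have e1 := hclass x₁
  have e2 := hclass x₂
  rw [← hc₁] at e1
  rw [← hc₂] at e2
  change Nat.card G = c₂ * N x₁ + c₁ * N x₂
  generalize Nat.card {t : G // IsConj x₁ t} = A at hsum e1
  generalize Nat.card {t : G // IsConj x₂ t} = B at hsum e2
  refine Nat.eq_of_mul_eq_mul_left (show 0 < Nat.card G from Nat.card_pos) ?_
  calc Nat.card G * Nat.card G = (c₁ * A) * (c₂ * B) := by rw [e1, e2]
    _ = c₁ * c₂ * (A * B) := by ring
    _ = c₁ * c₂ * (A * N x₁ + B * N x₂) := by rw [hsum]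
    _ = (c₁ * A) * (c₂ * N x₁) + (c₂ * B) * (c₁ * N x₂) := by ring
    _ = Nat.card G * (c₂ * N x₁ + c₁ * N x₂) := by rw [e1, e2, mul_add]

end Cfsg.Agent.S0213
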