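import Cfsg.Statements.S3224
import Cfsg.Agent.EqLemmas
import Cfsg.Agent.Lib.Involution.Basic

set_option autoImplicit false
open Cfsg

namespace Cfsg.Agent.S3224


/-- A noncentral involution with centralizer of order 4 lies outside a cyclic subgroup of index 2. -/
theorem exists_cyclic_index_two : ∀ (k : ℕ) {S : Type*} [Group S] [Finite S], IsPGroup 2 S →
    Nat.card S = 2 ^ k → ∀ x : S, orderOf x = 2 →
    Nat.card ↥(Subgroup.centralizer ({x} : Set S)) = 4 → 4 < Nat.card S →
    ∃ c : S, orderOf c * 2 = Nat.card S ∧ x ∉ Subgroup.zpowers c := by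
  intro k
  induction k with
  | zero => intro S _ _ _ hk x _ _ h4; rw [hk] at h4; norm_num at h4
  | succ k ih =>
    intro S _ _ hS hk x hx hC h4
    have hx2 : x * x = 1 := Involution.mul_self hx
    have hxi : x⁻¹ = x := Involution.inv_eq hx
    have hnc : ∃ g : S, g * x ≠ x * g := by
      by_contra! hall
      have : Subgroup.centralizer ({x} : Set S) = ⊤ := by
        rw [eq_top_iff]; intro g _; exact Subgroup.mem_centralizer_singleton_iff.mpr (hall g)
      rw [this, Subgroup.card_top] at hC
      omega
    have hk3 : 3 ≤ k + 1 := by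
      by_contra h
      have := Nat.pow_le_pow_right (show 0 < 2 by norm_num) (show k + 1 ≤ 2 by omega)
      norm_num at this
      omega
    by_cases h8 : k + 1 = 3
    · have hex : ∃ g : S, g ^ 2 ≠ 1 := by
        by_contra! hall
        obtain ⟨g, hg⟩ := hnc
        exact hg (by
          have h1 := hall g; have h2 := hall x; have h3 := hall (g * x)
          rw [pow_two] at h1 h2 h3
          calc g * x = g * (g * x * (g * x)) * x := by rw [h3, mul_one]
            _ = (g * g) * x * g * (x * x) := by group
            _ = x * g := by rw [h1, h2, one_mul, mul_one])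
      obtain ⟨c, hc⟩ := hex
      have hdvd := orderOf_dvd_natCard c
      rw [hk, h8] at hdvd
      obtain ⟨j, hj, hco⟩ := (Nat.dvd_prime_pow Nat.prime_two).mp hdvd
      have hc1 : 2 ≤ j := by
        by_contra h
        refine hc (orderOf_dvd_iff_pow_eq_one.mp ?_)
        rw [hco]
        simpa using pow_dvd_pow 2 (show j ≤ 1 by omega)
      have hc2 : j ≠ 3 := by
        rintro rfl
        obtain ⟨g, hg⟩ := hnc
        have : IsCyclic S := isCyclic_of_orderOf_eq_card c (by rw [hco, hk, h8])
        letI := IsCyclic.commGroup (α := S)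
        exact hg (mul_comm g x)
      obtain rfl : j = 2 := by omega
      refine ⟨c, by rw [hco, hk, h8]; norm_num, fun hxc => ?_⟩
      have hidx : (Subgroup.zpowers c).index = 2 := by
        have h := (Subgroup.zpowers c).card_mul_index
        rw [Nat.card_zpowers, hco, hk, h8] at h
        omega
      haveI := Subgroup.normal_of_index_eq_two hidx
      obtain ⟨g, hg⟩ := hnc
      apply hg
      have hmem := (inferInstance : (Subgroup.zpowers c).Normal).conj_mem x hxc g
      have key : ∀ a ∈ Subgroup.zpowers c, orderOf a = 2 → a = c ^ 2 := by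
        intro a ha hao
        obtain ⟨i, hi⟩ := Submonoid.mem_powers_iff _ _ |>.mp (mem_powers_iff_mem_zpowers.mpr ha)
        rw [← pow_mod_orderOf, hco] at hi
        have := Nat.mod_lt i (show 2 ^ 2 > 0 by norm_num)
        generalize i % 2 ^ 2 = i' at hi this
        subst hi
        norm_num at this
        interval_cases i'
        · simp at hao
        · rw [pow_one, hco] at hao; norm_num at hao
        · rfl
        · rw [orderOf_pow, hco] at hao; norm_num at hao
      have h1 := key _ hmem (by rw [Involution.orderOf_conj, hx])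
      rw [← key x hxc hx] at h1
      calc g * x = g * x * g⁻¹ * g := by group
        _ = x * g := by rw [h1]
    -- the case of order at least 16
    haveI : Nontrivial S := Finite.one_lt_card_iff_nontrivial.mp (by omega)
    haveI := hS.center_nontrivial
    obtain ⟨⟨z, hzc⟩, hz⟩ := exists_prime_orderOf_dvd_card' (G := ↥(Subgroup.center S)) 2 (by
      obtain ⟨m, hm⟩ := (hS.to_subgroup (Subgroup.center S)).exists_card_eq
      rcases Nat.eq_zero_or_pos m with rfl | hm0
      · have := Finite.one_lt_card (α := ↥(Subgroup.center S))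
        rw [hm] at this
        norm_num at this
      · rw [hm]; exact dvd_pow_self 2 (by omega))
    rw [Subgroup.orderOf_mk] at hz
    have hzcomm : ∀ g : S, g * z = z * g := Subgroup.mem_center_iff.mp hzc
    set Z := Subgroup.zpowers z with hZ
    have hZcard : Nat.card ↥Z = 2 := by rw [hZ, Nat.card_zpowers, hz]
    have hZmem : ∀ a, a ∈ Z → a = 1 ∨ a = z := by
      intro a ha
      obtain ⟨i, hi⟩ := Submonoid.mem_powers_iff _ _ |>.mp (mem_powers_iff_mem_zpowers.mpr ha)
      rw [← pow_mod_orderOf, hz] at hi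
      rcases Nat.mod_two_eq_zero_or_one i with h | h <;> rw [h] at hi <;> simp at hi
      · exact Or.inl hi.symm
      · exact Or.inr hi.symm
    haveI hZn : Z.Normal := ⟨fun a ha g => by
      rcases hZmem a ha with rfl | rfl
      · simp
      · rw [hzcomm g, mul_inv_cancel_right]; exact ha⟩
    have hxZ : x ∉ Z := by
      intro h
      rcases hZmem x h with h | h
      · exact Involution.ne_one hx h
      · obtain ⟨g, hg⟩ := hnc
        exact hg (h ▸ hzcomm g)
    set q := QuotientGroup.mk' Z with hq
    have hqcard : Nat.card (S ⧸ Z) * 2 = Nat.card S := by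
      rw [Subgroup.card_eq_card_quotient_mul_card_subgroup Z, hZcard]
    have hxq : q x ≠ 1 := fun h => hxZ ((QuotientGroup.eq_one_iff x).mp h)
    have hxo : orderOf (q x) = 2 :=
      Involution.orderOf_of_sq (by rw [← map_mul, hx2, map_one]) hxq
    set D := (Subgroup.centralizer ({q x} : Set (S ⧸ Z))).comap q with hD
    have hDmem : ∀ g ∈ D, g * x * g⁻¹ * x⁻¹ ∈ Z := by
      intro g hg
      rw [hD, Subgroup.mem_comap, Subgroup.mem_centralizer_singleton_iff] at hg
      rw [← QuotientGroup.eq_one_iff]
      show q (g * x * g⁻¹ * x⁻¹) = 1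
      rw [map_mul, map_mul, map_mul, hg, map_inv, map_inv]
      group
    let f : ↥D →* S :=
      { toFun := fun g => (g : S) * x * (g : S)⁻¹ * x⁻¹
        map_one' := by simp
        map_mul' := fun a b => by
          have hb := hDmem b b.2
          have hcen : ∀ u : S, u * ((b : S) * x * (b : S)⁻¹ * x⁻¹) = ((b : S) * x * (b : S)⁻¹ * x⁻¹) * u := by
            intro u
            rcases hZmem _ hb with h | h <;> rw [h]
            · simp
            · exact hzcomm u
          simp only [Subgroup.coe_mul]
          generalize hfb : (b : S) * x * (b : S)⁻¹ * x⁻¹ = w at hcen ⊢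
          calc (a : S) * b * x * ((a : S) * b)⁻¹ * x⁻¹
              = (a : S) * w * (x * (a : S)⁻¹ * x⁻¹) := by rw [← hfb]; group
            _ = w * ((a : S) * x * (a : S)⁻¹ * x⁻¹) := by rw [hcen (a : S)]; group
            _ = _ := (hcen _).symm }
    have hDcard : Nat.card ↥D ≤ 8 := by
      have h := f.ker.card_mul_index
      rw [Subgroup.index_ker] at h
      have h1 : Nat.card ↥f.ker ≤ 4 := by
        rw [← hC, Nat.card_congr (f.ker.equivMapOfInjective D.subtype D.subtype_injective).toEquiv]
        refine Subgroup.card_le_of_le ?_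
        rintro _ ⟨g, hg, rfl⟩
        have hg' : (g : S) * x * (g : S)⁻¹ * x⁻¹ = 1 := hg
        refine Subgroup.mem_centralizer_singleton_iff.mpr ?_
        calc (g : S) * x = (g : S) * x * (g : S)⁻¹ * x⁻¹ * (x * g) := by group
          _ = _ := by rw [hg', one_mul]; rfl
      have h2 : Nat.card ↥f.range ≤ 2 := by
        rw [← hZcard]
        refine Subgroup.card_le_of_le ?_
        rintro _ ⟨g, rfl⟩
        exact hDmem _ g.2
      calc Nat.card ↥D = _ := h.symm
        _ ≤ 4 * 2 := Nat.mul_le_mul h1 h2
    have hZD : Z ≤ D := by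
      intro a ha
      rw [hD, Subgroup.mem_comap]
      rw [show q a = 1 from (QuotientGroup.eq_one_iff a).mpr ha]
      exact one_mem _
    have hCimg : Nat.card ↥(Subgroup.centralizer ({q x} : Set (S ⧸ Z))) * 2 = Nat.card ↥D := by
      have h := (q.subgroupComap (Subgroup.centralizer ({q x} : Set (S ⧸ Z)))).ker.card_mul_index
      rw [Subgroup.index_ker, MonoidHom.range_eq_top.mpr
        (MonoidHom.subgroupComap_surjective_of_surjective _ _ (QuotientGroup.mk'_surjective Z)),
        Subgroup.card_top] at h
      rw [← h, mul_comm]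
      congr 1
      rw [← hZcard]
      refine Nat.card_congr ⟨fun u => ⟨⟨(u : S), hZD u.2⟩, ?_⟩, fun u => ⟨((u : ↥D) : S), ?_⟩, ?_, ?_⟩
      · exact Subtype.ext ((QuotientGroup.eq_one_iff _).mpr u.2)
      · exact (QuotientGroup.eq_one_iff _).mp (congrArg Subtype.val u.2)
      · intro u; rfl
      · intro u; rfl
    have hS' : IsPGroup 2 (S ⧸ Z) := hS.to_quotient Z
    have hk' : Nat.card (S ⧸ Z) = 2 ^ k := by rw [pow_succ] at hk; omega
    have h4' : 4 < Nat.card (S ⧸ Z) := by
      rw [hk']
      calc 4 < 2 ^ 3 := by norm_num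
        _ ≤ _ := Nat.pow_le_pow_right (by norm_num) (by omega)
    have hCq : Nat.card ↥(Subgroup.centralizer ({q x} : Set (S ⧸ Z))) = 4 := by
      obtain ⟨m, hm⟩ := (hS'.to_subgroup (Subgroup.centralizer ({q x} : Set (S ⧸ Z)))).exists_card_eq
      have hle : Subgroup.zpowers (q x) ≤ Subgroup.centralizer ({q x} : Set (S ⧸ Z)) := by
        rw [Subgroup.zpowers_le]
        exact Subgroup.mem_centralizer_singleton_iff.mpr rfl
      have h2 : 2 ≤ Nat.card ↥(Subgroup.centralizer ({q x} : Set (S ⧸ Z))) := by
        rw [← hxo, ← Nat.card_zpowers]; exact Subgroup.card_le_of_le hle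
      rcases Nat.lt_or_ge m 2 with h | h
      · exfalso
        have h2' : Nat.card ↥(Subgroup.centralizer ({q x} : Set (S ⧸ Z))) = 2 := by
          have := Nat.pow_le_pow_right (show 0 < 2 by norm_num) (show m ≤ 1 by omega)
          rw [pow_one, ← hm] at this
          omega
        have heq : Subgroup.zpowers (q x) = Subgroup.centralizer ({q x} : Set (S ⧸ Z)) :=
          Subgroup.eq_of_le_of_card_ge hle (by rw [h2', Nat.card_zpowers, hxo])
        haveI : Nontrivial (S ⧸ Z) := Finite.one_lt_card_iff_nontrivial.mp (by omega)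
        haveI := hS'.center_nontrivial
        obtain ⟨w, hw⟩ := exists_ne (1 : ↥(Subgroup.center (S ⧸ Z)))
        have hwm : (w : S ⧸ Z) ∈ Subgroup.zpowers (q x) := by
          rw [heq]
          exact Subgroup.mem_centralizer_singleton_iff.mpr (Subgroup.mem_center_iff.mp w.2 (q x)).symm
        obtain ⟨i, hi⟩ := Submonoid.mem_powers_iff _ _ |>.mp (mem_powers_iff_mem_zpowers.mpr hwm)
        rw [← pow_mod_orderOf, hxo] at hi
        rcases Nat.mod_two_eq_zero_or_one i with hi' | hi' <;> rw [hi'] at hi <;> simp at hi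
        · exact hw (Subtype.ext hi.symm)
        · have hxcen : q x ∈ Subgroup.center (S ⧸ Z) := hi ▸ w.2
          have htop : Subgroup.centralizer ({q x} : Set (S ⧸ Z)) = ⊤ := by
            rw [eq_top_iff]; intro g _
            exact Subgroup.mem_centralizer_singleton_iff.mpr (Subgroup.mem_center_iff.mp hxcen g)
          rw [htop, Subgroup.card_top] at h2'
          omega
      · have := Nat.pow_le_pow_right (show 0 < 2 by norm_num) h
        omega
    obtain ⟨cq, hcq, hxcq⟩ := ih hS' hk' (q x) hxo hCq h4'
    obtain ⟨c, rfl⟩ := QuotientGroup.mk'_surjective Z cq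
    have hxc : x ∉ Subgroup.zpowers c := fun h =>
      hxcq (by rw [← MonoidHom.map_zpowers]; exact Subgroup.mem_map_of_mem _ h)
    have hqcp : orderOf (q c) = 2 ^ (k - 1) := by
      have h := hcq
      have h2k : 2 ^ k = 2 ^ (k - 1) * 2 := by rw [← pow_succ]; congr 1; omega
      rw [hk', h2k] at h
      exact Nat.eq_of_mul_eq_mul_right (by norm_num) h
    have hcd : orderOf (q c) ∣ orderOf c := orderOf_map_dvd q c
    have hdvd2 : orderOf c ∣ orderOf (q c) * 2 := by
      apply orderOf_dvd_of_pow_eq_one
      have h : c ^ orderOf (q c) ∈ Z := by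
        rw [← QuotientGroup.eq_one_iff]
        show q (c ^ orderOf (q c)) = 1
        rw [map_pow, pow_orderOf_eq_one]
      rw [pow_mul]
      rcases hZmem _ h with h | h <;> rw [h]
      · simp
      · rw [pow_two]; exact Involution.mul_self hz
    rcases (Nat.dvd_prime_pow Nat.prime_two).mp (by
        have := hdvd2; rwa [hqcp, ← pow_succ] at this : orderOf c ∣ 2 ^ (k - 1 + 1)) with ⟨j, hj, hjeq⟩
    have hj' : k - 1 ≤ j := by
      have := hcd
      rw [hqcp, hjeq] at this
      exact (Nat.pow_dvd_pow_iff_le_right (by norm_num)).mp this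
    rcases Nat.eq_or_lt_of_le hj' with hjk | hjk
    swap
    · exact ⟨c, by rw [hjeq, hk, ← pow_succ]; congr 1; omega, hxc⟩
    exfalso
    set e := 2 ^ (k - 2) with he
    set w := c ^ e with hw
    have he2 : e * 2 = 2 ^ (k - 1) := by rw [he, ← pow_succ]; congr 1; omega
    have he0 : 0 < e := by positivity
    have hcord : orderOf c = 2 ^ (k - 1) := by rw [hjeq, hjk]
    have hw2 : w * w = 1 := by rw [hw, ← pow_add, ← mul_two, he2, ← hcord, pow_orderOf_eq_one]
    have hw1 : w ≠ 1 := pow_ne_one_of_lt_orderOf he0.ne' (by omega)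
    have hqw : q w ≠ 1 := by
      rw [hw, map_pow]
      exact pow_ne_one_of_lt_orderOf he0.ne' (by omega)
    have hCle : (Subgroup.centralizer ({x} : Set S)).map q ≤ Subgroup.centralizer ({q x} : Set (S ⧸ Z)) := by
      rintro _ ⟨g, hg, rfl⟩
      refine Subgroup.mem_centralizer_singleton_iff.mpr ?_
      rw [← map_mul, Subgroup.mem_centralizer_singleton_iff.mp hg, map_mul]
    -- the involution w commutes with x
    have hidx : (Subgroup.zpowers (q c)).index = 2 := by
      have h := (Subgroup.zpowers (q c)).card_mul_index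
      rw [Nat.card_zpowers] at h
      rw [← hcq] at h
      exact Nat.eq_of_mul_eq_mul_left (orderOf_pos _) h
    haveI := Subgroup.normal_of_index_eq_two hidx
    have hconj : q (x * c * x) ∈ Subgroup.zpowers (q c) := by
      have h := (inferInstance : (Subgroup.zpowers (q c)).Normal).conj_mem _ (Subgroup.mem_zpowers (q c)) (q x)
      rw [← map_inv, hxi] at h
      rwa [map_mul, map_mul]
    obtain ⟨i, hi⟩ := Submonoid.mem_powers_iff _ _ |>.mp (mem_powers_iff_mem_zpowers.mpr hconj)
    obtain ⟨ζ, hζ, hci⟩ : ∃ ζ ∈ Z, x * c * x = c ^ i * ζ := by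
      refine ⟨(c ^ i)⁻¹ * (x * c * x), ?_, by group⟩
      rw [← QuotientGroup.eq]
      show q (c ^ i) = q (x * c * x)
      rw [map_pow, hi]
    have hzeta : ζ ^ e = 1 := by
      have hev : 2 ∣ e := dvd_pow_self 2 (by omega)
      obtain ⟨m, hm⟩ := hev
      rw [hm, pow_mul, pow_two]
      rcases hZmem ζ hζ with h | h <;> rw [h]
      · simp
      · rw [Involution.mul_self hz, one_pow]
    have hxwx : x * w * x = w ^ i := by
      have h1 := conj_pow (i := e) (a := x) (b := c)
      rw [hxi] at h1
      have hcom : Commute (c ^ i) ζ := by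
        rcases hZmem ζ hζ with h | h <;> rw [h]
        · exact Commute.one_right _
        · exact hzcomm _
      rw [hw, ← h1, hci, hcom.mul_pow, hzeta, mul_one, ← pow_mul, ← pow_mul, mul_comm]
    have hxw : x * w * x = w := by
      rcases Nat.even_or_odd' i with ⟨a, rfl | rfl⟩
      · exfalso
        rw [pow_mul, pow_two, hw2, one_pow] at hxwx
        apply hw1
        calc w = x * x * w * (x * x) := by rw [hx2, one_mul, mul_one]
          _ = x * (x * w * x) * x := by group
          _ = 1 := by rw [hxwx, mul_one, hx2]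
      · rw [hxwx, pow_succ, pow_mul, pow_two, hw2, one_pow, one_mul]
    have hwC : w ∈ Subgroup.centralizer ({x} : Set S) := by
      refine Subgroup.mem_centralizer_singleton_iff.mpr ?_
      calc w * x = x * w * x * x := by rw [hxw]
        _ = x * w := by rw [mul_assoc, hx2, mul_one]
    -- the image of C(x) has order at most two
    set C := Subgroup.centralizer ({x} : Set S) with hCdef
    have hzC : z ∈ C := Subgroup.mem_centralizer_singleton_iff.mpr (hzcomm x).symm
    have hcardimg := (q.subgroupMap C).ker.card_mul_index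
    rw [Subgroup.index_ker, MonoidHom.range_eq_top.mpr (MonoidHom.subgroupMap_surjective q C),
      Subgroup.card_top] at hcardimg
    have hker2 : 2 ≤ Nat.card ↥(q.subgroupMap C).ker := by
      have : Nontrivial ↥(q.subgroupMap C).ker :=
        ⟨⟨⟨⟨z, hzC⟩, Subtype.ext ((QuotientGroup.eq_one_iff z).mpr (Subgroup.mem_zpowers z))⟩, 1,
          fun h => Involution.ne_one hz (congrArg (fun u : ↥(q.subgroupMap C).ker => ((u : ↥C) : S)) h)⟩⟩
      exact Finite.one_lt_card
    have himg : Nat.card ↥(C.map q) ≤ 2 := by nlinarith [hC]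
    have hxC : x ∈ C := Subgroup.mem_centralizer_singleton_iff.mpr rfl
    have hthree : Nat.card ↥({1, q x, q w} : Set (S ⧸ Z)) ≤ Nat.card ↥(C.map q) := by
      refine Nat.card_mono (Set.toFinite _) ?_
      rintro a (rfl | rfl | rfl)
      · exact one_mem _
      · exact Subgroup.mem_map_of_mem q hxC
      · exact Subgroup.mem_map_of_mem q hwC
    have hne : q x ≠ q w := by
      intro h
      apply hxcq
      rw [h, hw, map_pow]
      exact pow_mem (Subgroup.mem_zpowers (q c)) _
    rw [Nat.card_coe_set_eq, Set.ncard_eq_three.mpr ⟨1, q x, q w, Ne.symm hxq, Ne.symm hqw, hne, rfl⟩] at hthree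
    omega

/-- A finite 2-group containing an involution whose centralizer has order 4 is dihedral, quasi-dihedral (semidihedral), or of order 4. -/
theorem result {S : Type*} [Group S] [Finite S] (hS : IsPGroup 2 S)
    (x : S) (hx : orderOf x = 2) (hC : Nat.card ↥(Subgroup.centralizer ({x} : Set S)) = 4) :
    (∃ n : ℕ, Nonempty (S ≃* DihedralGroup n)) ∨ Cfsg.IsQuasiDihedral S ∨ Nat.card S = 4 := by
  classical
  obtain ⟨k, hk⟩ := hS.exists_card_eq
  by_cases h4 : Nat.card S ≤ 4
  · refine Or.inr (Or.inr ?_)
    have := Nat.card_le_card_of_injective _ (Subgroup.centralizer ({x} : Set S)).subtype_injective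
    omega
  obtain ⟨c, hc, hxc⟩ := exists_cyclic_index_two k hS hk x hx hC (by omega)
  have hx2 : x * x = 1 := Involution.mul_self hx
  have hxi : x⁻¹ = x := Involution.inv_eq hx
  have hk3 : 3 ≤ k := by
    by_contra h
    have := Nat.pow_le_pow_right (show 0 < 2 by norm_num) (show k ≤ 2 by omega)
    omega
  obtain ⟨n, rfl⟩ : ∃ n, k = n + 1 := ⟨k - 1, by omega⟩
  have hN : orderOf c = 2 ^ n := by rw [pow_succ] at hk; omega
  have hN0 : 0 < orderOf c := orderOf_pos c
  have hidx : (Subgroup.zpowers c).index = 2 := by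
    have h := (Subgroup.zpowers c).card_mul_index
    rw [Nat.card_zpowers, ← hc] at h
    exact Nat.eq_of_mul_eq_mul_left hN0 h
  haveI := Subgroup.normal_of_index_eq_two hidx
  have hconj : x * c * x ∈ Subgroup.zpowers c := by
    have h := (inferInstance : (Subgroup.zpowers c).Normal).conj_mem _ (Subgroup.mem_zpowers c) x
    rwa [hxi] at h
  obtain ⟨i0, hi0⟩ := Submonoid.mem_powers_iff _ _ |>.mp (mem_powers_iff_mem_zpowers.mpr hconj)
  set i := i0 % orderOf c with hi
  have hilt : i < 2 ^ n := by rw [← hN]; exact Nat.mod_lt _ hN0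
  have hci : x * c * x = c ^ i := by rw [hi, pow_mod_orderOf, hi0]
  have hpow : ∀ m : ℕ, x * c ^ m * x = c ^ (i * m) := by
    intro m
    have h1 := conj_pow (i := m) (a := x) (b := c)
    rw [hxi] at h1
    rw [← h1, hci, ← pow_mul]
  have hsq : c ^ (i * i) = c ^ 1 := by
    rw [← hpow, ← hci, pow_one]
    calc x * (x * c * x) * x = (x * x) * c * (x * x) := by group
      _ = c := by rw [hx2, one_mul, mul_one]
  rw [pow_eq_pow_iff_modEq, hN] at hsq
  have hno4 : ∀ m : ℕ, c ^ (i * m) = c ^ m → (c ^ m) ^ 2 = 1 := by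
    intro m hm
    by_contra hne
    set C := Subgroup.centralizer ({x} : Set S) with hCdef
    have hdC : c ^ m ∈ C := by
      refine Subgroup.mem_centralizer_singleton_iff.mpr ?_
      calc c ^ m * x = x * c ^ m * x * x := by rw [hpow, hm]
        _ = x * c ^ m := by rw [mul_assoc, hx2, mul_one]
    have hle : Subgroup.zpowers (c ^ m) ≤ C := Subgroup.zpowers_le.mpr hdC
    have hdv : orderOf (c ^ m) ∣ 2 ^ n := by rw [← hN]; exact orderOf_pow_dvd m
    obtain ⟨j, -, hj⟩ := (Nat.dvd_prime_pow Nat.prime_two).mp hdv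
    have hj2 : 2 ≤ j := by
      by_contra h
      apply hne
      apply orderOf_dvd_iff_pow_eq_one.mp
      rw [hj]
      simpa using pow_dvd_pow 2 (show j ≤ 1 by omega)
    have heq : Subgroup.zpowers (c ^ m) = C := Subgroup.eq_of_le_of_card_ge hle (by
      rw [hC, Nat.card_zpowers, hj]
      exact Nat.pow_le_pow_right (show 0 < 2 by norm_num) hj2)
    have hxC : x ∈ C := Subgroup.mem_centralizer_singleton_iff.mpr rfl
    rw [← heq] at hxC
    exact hxc ((Subgroup.zpowers_le.mpr (pow_mem (Subgroup.mem_zpowers c) m)) hxC)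
  have h3 : i % 4 = 3 := by
    have hodd : i % 2 = 1 := by
      have h2 : (i * i) % 2 = 1 % 2 := hsq.of_dvd (dvd_pow_self 2 (by omega))
      rcases Nat.mod_two_eq_zero_or_one i with h | h
      · rw [Nat.mul_mod, h] at h2; simp at h2
      · exact h
    by_contra h
    have h1 : i % 4 = 1 := by omega
    obtain ⟨a, ha⟩ : ∃ a, i = 4 * a + 1 := ⟨i / 4, by omega⟩
    have h2n : (2 : ℕ) ^ n = 2 ^ (n - 2) * 4 := by
      rw [show (4 : ℕ) = 2 ^ 2 by norm_num, ← pow_add]; congr 1; omega
    have hfix : c ^ (i * 2 ^ (n - 2)) = c ^ 2 ^ (n - 2) := by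
      rw [ha, add_mul, one_mul, pow_add, show 4 * a * 2 ^ (n - 2) = 2 ^ n * a by rw [h2n]; ring,
        pow_mul, ← hN, pow_orderOf_eq_one, one_pow, one_mul]
    have h4' := hno4 _ hfix
    rw [← pow_mul] at h4'
    refine pow_ne_one_of_lt_orderOf (by positivity) ?_ h4'
    rw [hN, h2n]
    have : 0 < 2 ^ (n - 2) := by positivity
    omega
  -- i ^ 2 ≡ 1 and i ≡ 3 mod 4
  obtain ⟨a, ha⟩ : ∃ a, i = 2 * a + 1 := ⟨i / 2, by omega⟩
  have hdv : 2 ^ n ∣ (i - 1) * (i + 1) := by
    have := (Nat.modEq_iff_dvd' (show 1 ≤ i * i by nlinarith [show 1 ≤ i by omega])).mp hsq.symm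
    convert this using 1
    rw [ha]; simp; ring_nf; omega
  have hhalf : 2 ^ (n - 1) ∣ i + 1 := by
    have hd : 2 ^ (n - 1) * 2 ∣ a * (i + 1) * 2 := by
      rw [← pow_succ, show n - 1 + 1 = n by omega, show a * (i + 1) * 2 = (i - 1) * (i + 1) by rw [ha]; simp; ring]
      exact hdv
    have hd' : 2 ^ (n - 1) ∣ a * (i + 1) := Nat.dvd_of_mul_dvd_mul_right (by norm_num) hd
    refine (Nat.Coprime.pow_left (n - 1) ?_).dvd_of_dvd_mul_left hd'
    rw [Nat.coprime_two_left, Nat.odd_iff]
    omega
  obtain ⟨m, hm⟩ := hhalf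
  have h2n1 : (2 : ℕ) ^ n = 2 ^ (n - 1) * 2 := by rw [← pow_succ]; congr 1; omega
  have hpn : 2 ≤ 2 ^ (n - 1) := by
    calc 2 = 2 ^ 1 := rfl
      _ ≤ _ := Nat.pow_le_pow_right (by norm_num) (by omega)
  have hm12 : m = 1 ∨ m = 2 := by
    have h1 : m < 3 := by
      by_contra h
      have := Nat.mul_le_mul_left (2 ^ (n - 1)) (show 3 ≤ m by omega)
      omega
    interval_cases m
    · omega
    · exact Or.inl rfl
    · exact Or.inr rfl
  rcases hm12 with rfl | rfl
  · refine Or.inr (Or.inl ⟨n, ?_, by rw [hk], c, x, hN, hx, ?_⟩)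
    · by_contra h
      interval_cases n
      all_goals simp_all
      all_goals omega
    · rw [hxi, hci]; congr 1; omega
  · refine Or.inl ⟨orderOf c, ?_⟩
    have hinvc : x * c * x = c⁻¹ := by
      rw [hci]
      apply eq_inv_of_mul_eq_one_left
      rw [← pow_succ, show i + 1 = orderOf c by omega, pow_orderOf_eq_one]
    have hxy : orderOf (x * c) = 2 := by
      refine Involution.orderOf_of_sq ?_ ?_
      · rw [show x * c * (x * c) = (x * c * x) * c by group, hinvc, inv_mul_cancel]
      · intro h
        apply hxc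
        rw [eq_inv_of_mul_eq_one_left h]
        exact inv_mem (Subgroup.mem_zpowers c)
    have hne : x ≠ x * c := by
      intro h
      have : c = 1 := by simpa using h
      rw [this, orderOf_one] at hN
      have := Nat.one_lt_two_pow (show n ≠ 0 by omega)
      omega
    have htop : Subgroup.closure ({x, x * c} : Set S) = ⊤ := by
      set H := Subgroup.closure ({x, x * c} : Set S) with hH
      have hxH : x ∈ H := Subgroup.subset_closure (by simp)
      have hcH : c ∈ H := by
        have : x * c ∈ H := Subgroup.subset_closure (by simp)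
        simpa [← mul_assoc, hx2] using mul_mem hxH this
      by_contra hne'
      have hle : Subgroup.zpowers c ≤ H := Subgroup.zpowers_le.mpr hcH
      have h1 := Subgroup.relIndex_mul_index hle
      rw [hidx] at h1
      have h2 : H.index ≠ 1 := fun h => hne' (Subgroup.index_eq_one.mp h)
      have h3 : H.index ∣ 2 := ⟨_, (by rw [← h1]; ring)⟩
      rcases (Nat.dvd_prime Nat.prime_two).mp h3 with h | h
      · exact h2 h
      · rw [h] at h1
        have h4 : H ≤ Subgroup.zpowers c := Subgroup.relIndex_eq_one.mp (by omega)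
        exact hxc (h4 hxH)
    have e := Involution.dihedralEquiv hx hxy hne
    rw [show x * (x * c) = c by rw [← mul_assoc, hx2, one_mul]] at e
    exact ⟨((Subgroup.topEquiv).symm.trans (MulEquiv.subgroupCongr htop.symm)).trans e.symm⟩

end Cfsg.Agent.S3224
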