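import Cfsg.Statements.S0595
import Cfsg.Agent.Lib.Quadratic.Stable

set_option autoImplicit false
open Cfsg

namespace Cfsg.Agent.S0595

open Quadratic

/-- For odd p, a faithful action on an elementary abelian p-group that is not p-stable forces non-abelian Sylow 2-subgroups. -/
theorem result {G : Type*} [Group G] [Finite G] {p : ℕ} [Fact p.Prime] (hp : p ≠ 2) (V H : Subgroup G) (hV : Cfsg.IsElementaryAbelian p V) (hHV : H ≤ Subgroup.normalizer (V : Set G)) (hf : H ⊓ Subgroup.centralizer (V : Set G) = ⊥) (a : G) (haH : a ∈ H) (hq : ⁅⁅V, Subgroup.zpowers a⁆, Subgroup.zpowers a⁆ = ⊥) (hna : a ∉ (Cfsg.pCore p H).map H.subtype) (T : Sylow 2 H) : ¬ IsMulCommutative T := by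
  obtain ⟨g, hg⟩ := exists_pair_of_not_mem_pCore (p := p) (x := (⟨a, haH⟩ : H))
    fun h => hna ⟨_, h, rfl⟩
  have hqa := commute_of_quad hq
  set b : G := (g : G) * a * (g : G)⁻¹
  set H₀ := Subgroup.closure ({a, b} : Set G) with hH₀
  have hmap : (Subgroup.closure ({⟨a, haH⟩, g * ⟨a, haH⟩ * g⁻¹} : Set H)).map H.subtype = H₀ := by
    rw [MonoidHom.map_closure, Set.image_pair]
    rfl
  have hle : H₀ ≤ H := hmap ▸ Subgroup.map_subtype_le _
  obtain ⟨K, L, hL, hK, h⟩ := section_sl2_of_faithful hp hV (hle.trans hHV)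
    (le_bot_iff.1 (hf ▸ inf_le_inf_right _ hle)) hH₀ hqa (commute_of_quad_conj (hHV g.2) hqa)
    (fun hP => hg (by
      have := (hP.to_le (le_of_eq hmap))
      exact this.of_equiv (Subgroup.equivMapOfInjective _ _ H.subtype_injective).symm))
  exact not_comm_sylow_two_of_section hp ⟨K, L, hL, hK.trans hle, h⟩ T

end Cfsg.Agent.S0595
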