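import Cfsg.Statements.S0596
import Cfsg.Agent.Lib.Quadratic.Section
import Cfsg.Agent.Lib.Solvable.Fitting

set_option autoImplicit false
open Cfsg

namespace Cfsg.Agent.S0596

open Quadratic

/-- For odd p, a p-separable group with a faithful action on an elementary abelian p-group that is not p-stable has p = 3 and involves SL(2,3). -/
theorem result {G : Type*} [Group G] [Finite G] {p : ℕ} [Fact p.Prime] (hp : p ≠ 2) (V H : Subgroup G) (hV : Cfsg.IsElementaryAbelian p V) (hHV : H ≤ Subgroup.normalizer (V : Set G)) (hf : H ⊓ Subgroup.centralizer (V : Set G) = ⊥) (hsep : Cfsg.IsPSolvable p H) (a : G) (haH : a ∈ H) (hq : ⁅⁅V, Subgroup.zpowers a⁆, Subgroup.zpowers a⁆ = ⊥) (hna : a ∉ (Cfsg.pCore p H).map H.subtype) : p = 3 ∧ ∃ (K L : Subgroup G) (hL : (L.subgroupOf K).Normal), K ≤ H ∧ Nonempty ((K ⧸ L.subgroupOf K) ≃* Matrix.SpecialLinearGroup (Fin 2) (ZMod 3)) := by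
  have hpp : p.Prime := Fact.out
  have hqa := commute_of_quad hq
  have haR : (⟨a, haH⟩ : H) ∉ pCore p H := fun h => hna ⟨_, h, rfl⟩
  set R := pCore p H with hRdef
  set a' : H := ⟨a, haH⟩
  set π := QuotientGroup.mk' R with hπ
  -- a moves some element of O_{p'}(H/R)
  set P := pPrimeCore p (H ⧸ R) with hPdef
  have hcent : Subgroup.centralizer (P : Set (H ⧸ R)) ≤ P := by
    rw [hPdef, ← Solvable.piCore_compl_singleton_eq_pPrimeCore]
    refine Solvable.centralizer_piCore_le ((Solvable.IsPiSeparable.quotient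
      (Solvable.isPiSeparable_of_isPSolvable hsep) R).compl) ?_
    rw [compl_compl, ← Cores.pCore_eq_piCore]
    exact Cores.pCore_quotient_self p H
  have hap : a' ^ p = 1 := Subtype.ext (by
    rw [OneMemClass.coe_one, SubgroupClass.coe_pow, ← Subgroup.mem_bot (G := G), ← hf]
    exact ⟨pow_mem haH p, pow_mem_centralizer_of_quad hV (hHV haH) hqa⟩)
  have hPcop : (Nat.card P).Coprime p := Cores.coprime_card_pPrimeCore p
  have hπa : π a' ≠ 1 := fun h => haR ((QuotientGroup.eq_one_iff a').1 h)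
  obtain ⟨x, hxP, hx⟩ : ∃ x ∈ P, ¬ Commute (π a') x := by
    by_contra h
    push Not at h
    apply hπa
    have hmem : π a' ∈ P := hcent (Subgroup.mem_centralizer_iff.2 fun y hy => (h y hy).eq.symm)
    refine orderOf_eq_one_iff.1 (Nat.eq_one_of_dvd_coprimes hPcop
      (P.orderOf_dvd_natCard hmem) (orderOf_dvd_of_pow_eq_one ?_))
    rw [← map_pow, hap, map_one]
  obtain ⟨q, rfl⟩ := QuotientGroup.mk'_surjective R x
  -- the commutator is still moved
  set c := a' * q * a'⁻¹ * q⁻¹ with hc
  have hcmove : ¬ Commute (π a') (π c) := by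
    intro hcom
    have hrec : ∀ i : ℕ, π a' ^ i * π q * (π a' ^ i)⁻¹ = π c ^ i * π q := by
      intro i
      induction i with
      | zero => simp
      | succ i ih =>
        calc π a' ^ (i + 1) * π q * (π a' ^ (i + 1))⁻¹
            = π a' * (π a' ^ i * π q * (π a' ^ i)⁻¹) * (π a')⁻¹ := by rw [pow_succ']; group
          _ = (π a' * π c ^ i) * π q * (π a')⁻¹ := by rw [ih]; group
          _ = π c ^ i * (π a' * π q * (π a')⁻¹) := by rw [(hcom.pow_right i).eq]; group
          _ = π c ^ i * (π c * π q) := by simp [hc, mul_assoc]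
          _ = π c ^ (i + 1) * π q := by rw [pow_succ]; group
    have h := hrec p
    rw [← map_pow π a', hap, map_one, one_mul, inv_one, mul_one, right_eq_mul] at h
    have hcP : π c ∈ P := by
      rw [hc, map_mul, map_mul, map_mul, map_inv, map_inv]
      exact mul_mem (Subgroup.Normal.conj_mem inferInstance _ hxP _) (inv_mem hxP)
    have h1 : π c = 1 := orderOf_eq_one_iff.1 (Nat.eq_one_of_dvd_coprimes hPcop
      (P.orderOf_dvd_natCard hcP) (orderOf_dvd_of_pow_eq_one h))
    apply hx
    rw [hc, map_mul, map_mul, map_mul, map_inv, map_inv, mul_inv_eq_one] at h1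
    exact mul_inv_eq_iff_eq_mul.1 h1
  -- the pair
  set b : G := (q : G) * a * (q : G)⁻¹
  have hbH : b ∈ H := mul_mem (mul_mem q.2 haH) (inv_mem q.2)
  set H₀ := Subgroup.closure ({a, b} : Set G) with hH₀
  have haH₀ : a ∈ H₀ := Subgroup.subset_closure (Set.mem_insert _ _)
  have hbH₀ : b ∈ H₀ := Subgroup.subset_closure (Set.mem_insert_of_mem _ rfl)
  have hH₀H : H₀ ≤ H := by
    rw [hH₀, Subgroup.closure_le, Set.insert_subset_iff, Set.singleton_subset_iff]
    exact ⟨haH, hbH⟩
  have hgen : Subgroup.closure ({⟨a, haH₀⟩, ⟨b, hbH₀⟩} : Set H₀) = ⊤ := by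
    apply Subgroup.map_injective H₀.subtype_injective
    rw [MonoidHom.map_closure, Set.image_pair, ← MonoidHom.range_eq_map, Subgroup.range_subtype]
    exact hH₀.symm
  let i : H₀ →* H := Subgroup.inclusion hH₀H
  have hcH₀ : (c : G) ∈ H₀ := by
    have : (c : G) = a * b⁻¹ := by
      simp [hc, a', b, mul_assoc]
    rw [this]
    exact mul_mem haH₀ (inv_mem hbH₀)
  have hcQ : c ∈ P.comap π := by
    rw [Subgroup.mem_comap, hc, map_mul, map_mul, map_mul, map_inv, map_inv]
    exact mul_mem (Subgroup.Normal.conj_mem inferInstance _ hxP _) (inv_mem hxP)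
  obtain ⟨hp3, K, L, hL, hK, h⟩ := section_of_move hp hV (hH₀H.trans hHV)
    (le_bot_iff.1 (hf ▸ inf_le_inf_right _ hH₀H)) hgen hqa
    (commute_of_quad_conj (hHV q.2) hqa)
    (Q := (P.comap π).comap i) (R := R.comap i)
    (Subgroup.comap_mono (fun r hr => by
      rw [Subgroup.mem_comap, hπ, QuotientGroup.mk'_apply, (QuotientGroup.eq_one_iff r).2 hr]
      exact one_mem _))
    ((Cores.isPGroup_pCore p H).comap_of_injective i (Subgroup.inclusion_injective hH₀H))
    (by
      have h : R.comap i = (π.comp i).ker := by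
        rw [← MonoidHom.comap_ker, hπ, QuotientGroup.ker_mk']
      rw [Subgroup.comap_comap, h, Subgroup.relIndex_ker]
      exact hPcop.coprime_dvd_left (Subgroup.card_dvd_of_le (Subgroup.map_comap_le _ _)))
    (q := ⟨(c : G), hcH₀⟩) hcQ
    (fun h => hcmove (by
      have h' : (QuotientGroup.mk (a' * c * a'⁻¹ * c⁻¹) : H ⧸ R) = 1 :=
        (QuotientGroup.eq_one_iff _).2 h
      rw [← QuotientGroup.mk'_apply, ← hπ, map_mul, map_mul, map_mul, map_inv, map_inv,
        mul_inv_eq_one] at h'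
      exact mul_inv_eq_iff_eq_mul.1 h'))
  subst hp3
  exact ⟨rfl, K, L, hL, hK.trans hH₀H, h⟩

end Cfsg.Agent.S0596
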