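import Cfsg.Statements.S1237
import Cfsg.Agent.Lib.SuzukiTwo.SixtyFour
import Cfsg.Agent.Lib.SuzukiTwo.Order
import Cfsg.Agent.Lib.Unitary.SylowThree

set_option autoImplicit false
open Cfsg
open scoped commutatorElement

namespace Cfsg.Agent.S1237

open Cfsg.Agent.SuzukiTwo

theorem abelian_case {T : Type*} [Group T] [Finite T] (hT : IsPGroup 2 T) (hab : ∀ x y : T, x * y = y * x)
    {u : T} (hu1 : u ≠ 1) (hu2 : u * u = 1) (h4 : Nat.card {x : T // x * x = 1} = 4)
    (φ : MulAut T) (htrans : ∀ x y : T, x ≠ 1 → x * x = 1 → y ≠ 1 → y * y = 1 → ∃ j : ℕ, (φ ^ j) x = y) :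
    ∃ n : ℕ, 1 ≤ n ∧ Nonempty (T ≃* Multiplicative (ZMod (2 ^ n) × ZMod (2 ^ n))) := by
  classical
  letI : CommGroup T := { (inferInstance : Group T) with mul_comm := hab }
  have hex : ∃ n, ∀ x : T, x ^ 2 ^ n = 1 := by
    obtain ⟨m, hm⟩ := IsPGroup.iff_card.1 hT
    exact ⟨m, fun x => by rw [← hm]; exact pow_card_eq_one'⟩
  set n := Nat.find hex with hn
  have hspec : ∀ x : T, x ^ 2 ^ n = 1 := Nat.find_spec hex
  have hn1 : 1 ≤ n := by
    rcases Nat.eq_zero_or_pos n with h0 | h0
    · refine absurd ?_ hu1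
      have := hspec u
      rw [h0, pow_zero, pow_one] at this
      exact this
    · exact h0
  obtain ⟨a, ha⟩ : ∃ a : T, a ^ 2 ^ (n - 1) ≠ 1 := by
    by_contra hc
    push Not at hc
    exact Nat.find_min hex (show n - 1 < n by omega) hc
  set v0 := a ^ 2 ^ (n - 1) with hv0
  have sqv : ∀ x : T, x ^ 2 ^ (n - 1) * x ^ 2 ^ (n - 1) = 1 := fun x => by
    rw [← pow_add, ← two_mul, ← pow_succ', Nat.sub_add_cancel hn1]; exact hspec x
  obtain ⟨v1, hv12, hv11, hv10⟩ : ∃ v1 : T, v1 * v1 = 1 ∧ v1 ≠ 1 ∧ v1 ≠ v0 := by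
    by_contra hc
    push Not at hc
    have : Nat.card {x : T // x * x = 1} ≤ Nat.card Bool :=
      Nat.card_le_card_of_injective (fun x => decide (x.1 = 1)) fun x y h => by
        simp only [decide_eq_decide] at h
        refine Subtype.ext ?_
        by_cases hx : x.1 = 1
        · rw [hx, h.mp hx]
        · rw [hc _ x.2 hx, hc _ y.2 (fun e => hx (h.mpr e))]
    rw [h4, Nat.card_eq_fintype_card, Fintype.card_bool] at this
    omega
  obtain ⟨j, hj⟩ := htrans v0 v1 ha (sqv a) hv11 hv12
  set b := (φ ^ j) a with hb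
  have hbv : b ^ 2 ^ (n - 1) = v1 := by rw [hb, ← map_pow]; exact hj
  have hmod : ∀ (x : T) (i k : ZMod (2 ^ n)), x ^ (i + k).val = x ^ i.val * x ^ k.val := fun x i k => by
    rw [← pow_add, ZMod.val_add]
    conv_rhs => rw [← Nat.mod_add_div (i.val + k.val) (2 ^ n), pow_add, pow_mul, hspec, one_pow, mul_one]
  haveI : NeZero (2 ^ n) := ⟨by positivity⟩
  let f : Multiplicative (ZMod (2 ^ n) × ZMod (2 ^ n)) →* T := MonoidHom.mk'
    (fun p => a ^ (Multiplicative.toAdd p).1.val * b ^ (Multiplicative.toAdd p).2.val) fun p q => by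
      simp only [toAdd_mul, Prod.fst_add, Prod.snd_add, hmod]
      exact mul_mul_mul_comm _ _ _ _
  have hfi : Function.Injective f := by
    refine (injective_iff_map_eq_one f).mpr fun p hp => ?_
    set i := (Multiplicative.toAdd p).1.val with hi
    set k := (Multiplicative.toAdd p).2.val with hk
    have hp' : a ^ i * b ^ k = 1 := hp
    have hdiv : ∀ m, m ≤ n → 2 ^ m ∣ i ∧ 2 ^ m ∣ k := by
      intro m
      induction m with
      | zero => simp
      | succ m ih =>
        intro hm
        obtain ⟨⟨i', hi'⟩, ⟨k', hk'⟩⟩ := ih (by omega)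
        have h1 : v0 ^ i' * v1 ^ k' = 1 := by
          have := congrArg (fun t => t ^ 2 ^ (n - 1 - m)) hp'
          simp only [one_pow, mul_pow, ← pow_mul] at this
          have e : 2 ^ m * 2 ^ (n - 1 - m) = 2 ^ (n - 1) := by rw [← pow_add]; congr 1; omega
          rw [hi', hk', mul_right_comm _ i', e, mul_right_comm _ k', e, pow_mul, pow_mul, hbv] at this
          exact this
        have par : ∀ {v : T}, v * v = 1 → ∀ l, v ^ l = if l % 2 = 0 then 1 else v := fun {v} hv l => by
          conv_lhs => rw [← Nat.mod_add_div l 2, pow_add, pow_mul, pow_two, hv, one_pow, mul_one]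
          rcases Nat.mod_two_eq_zero_or_one l with e | e <;> simp [e]
        rw [par (sqv a) i', par hv12 k'] at h1
        rcases Nat.mod_two_eq_zero_or_one i' with e1 | e1 <;> rcases Nat.mod_two_eq_zero_or_one k' with e2 | e2 <;>
          simp only [e1, e2, if_true, one_ne_zero, if_false, one_mul, mul_one] at h1
        · rw [pow_succ]
          exact ⟨hi' ▸ Nat.mul_dvd_mul_left _ (Nat.dvd_of_mod_eq_zero e1),
            hk' ▸ Nat.mul_dvd_mul_left _ (Nat.dvd_of_mod_eq_zero e2)⟩
        · exact absurd h1 hv11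
        · exact absurd h1 ha
        · exact absurd ((eq_inv_of_mul_eq_one_right h1).trans (inv_eq_of_mul_eq_one_right (sqv a))) hv10
    obtain ⟨di, dk⟩ := hdiv n le_rfl
    have h1 : i = 0 := Nat.eq_zero_of_dvd_of_lt di (ZMod.val_lt _)
    have h2 : k = 0 := Nat.eq_zero_of_dvd_of_lt dk (ZMod.val_lt _)
    exact Multiplicative.toAdd.injective (Prod.ext ((ZMod.val_eq_zero _).mp h1) ((ZMod.val_eq_zero _).mp h2))
  have hle : ∀ m, Nat.card {x : T // x ^ 2 ^ m = 1} ≤ 4 ^ m := by
    intro m
    induction m with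
    | zero =>
      haveI : Subsingleton {x : T // x ^ 2 ^ 0 = 1} := ⟨fun x y => Subtype.ext (by
        have hx : x.1 = 1 := by simpa using x.2
        have hy : y.1 = 1 := by simpa using y.2
        rw [hx, hy])⟩
      exact (Finite.card_le_one_iff_subsingleton.mpr this).trans (by simp)
    | succ m ih =>
      let g : {x : T // x ^ 2 ^ (m + 1) = 1} → {x : T // x ^ 2 ^ m = 1} := fun x =>
        ⟨x.1 * x.1, by rw [← pow_two, ← pow_mul, ← pow_succ']; exact x.2⟩
      have hfib : ∀ y, Nat.card {x // g x = y} ≤ 4 := fun y => by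
        rcases isEmpty_or_nonempty {x // g x = y} with he | ⟨⟨x0, hx0⟩⟩
        · simp
        · rw [← h4]
          refine Nat.card_le_card_of_injective (fun x => ⟨x.1.1 * x0.1⁻¹, ?_⟩) fun x x' h => ?_
          · have e : x.1.1 * x.1.1 = x0.1 * x0.1 := congrArg Subtype.val (x.2.trans hx0.symm)
            rw [mul_mul_mul_comm, e, ← mul_inv, mul_inv_cancel]
          · exact Subtype.ext (Subtype.ext (mul_right_cancel (congrArg Subtype.val h)))
      haveI : Fintype {x : T // x ^ 2 ^ m = 1} := Fintype.ofFinite _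
      rw [← Nat.card_congr (Equiv.sigmaFiberEquiv g), Nat.card_sigma]
      refine (Finset.sum_le_sum fun y _ => hfib y).trans ?_
      rw [Finset.sum_const, Finset.card_univ, smul_eq_mul, ← Nat.card_eq_fintype_card, pow_succ]
      exact Nat.mul_le_mul_right _ ih
  have hcT : Nat.card T ≤ Nat.card (Multiplicative (ZMod (2 ^ n) × ZMod (2 ^ n))) := by
    rw [Nat.card_congr Multiplicative.toAdd, Nat.card_prod, Nat.card_zmod, ← mul_pow]
    refine le_trans (le_of_eq (Nat.card_congr (Equiv.subtypeUnivEquiv hspec)).symm) ((hle n).trans ?_)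
    norm_num
  exact ⟨n, hn1, ⟨(MulEquiv.ofBijective f (hfi.bijective_of_nat_card_le hcT)).symm⟩⟩

theorem not_sixteen {T : Type*} [Group T] [Finite T] {V : Subgroup T} (hmem : ∀ x, x ∈ V ↔ x * x = 1)
    (hcen : ∀ v ∈ V, ∀ x, x * v = v * x) (hV4 : Nat.card V = 4) (hsq : ∀ x, x * x ∈ V)
    (hcomm : ∀ x y : T, ⁅x, y⁆ ∈ V)
    (hroots : ∀ v ∈ V, v ≠ 1 → Nat.card {x : T // x * x = v} = 4) : ∀ x y : T, x * y = y * x := by
  classical
  obtain ⟨v1, hv1, h11, -, -, -⟩ : ∃ v ∈ V, v ≠ 1 ∧ v ≠ 1 ∧ v ≠ 1 ∧ v ≠ 1 := by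
    by_contra hc
    push Not at hc
    have : V = ⊥ := eq_bot_iff.mpr fun w hw => Subgroup.mem_bot.mpr (by_contra fun h => h (hc w hw h h h))
    rw [this, Subgroup.card_bot] at hV4
    omega
  obtain ⟨v2, hv2, h21, h22⟩ : ∃ v ∈ V, v ≠ 1 ∧ v ≠ v1 := by
    by_contra hc
    push Not at hc
    have hsub : (V : Set T) ⊆ (({1, v1} : Finset T) : Set T) := fun w hw => by
      simp only [Finset.coe_insert, Finset.coe_singleton, Set.mem_insert_iff, Set.mem_singleton_iff]
      exact or_iff_not_imp_left.mpr (hc w hw)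
    have := Set.ncard_le_ncard hsub (Set.toFinite _)
    rw [Set.ncard_coe_finset, ← Nat.card_coe_set_eq, SetLike.coe_sort_coe, hV4] at this
    exact absurd (this.trans Finset.card_le_two) (by norm_num)
  have hex : ∀ v ∈ V, v ≠ 1 → ∃ x, x * x = v := fun v hv h1 => by
    by_contra hc
    haveI : IsEmpty {x : T // x * x = v} := ⟨fun x => hc ⟨x.1, x.2⟩⟩
    have := hroots v hv h1
    simp at this
  obtain ⟨x, hx⟩ := hex v1 hv1 h11
  obtain ⟨y, hy⟩ := hex v2 hv2 h21
  have hmul : ∀ a b : T, (a * b) * (a * b) = (a * a) * (b * b) * ⁅a, b⁆ := fun a b => by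
    have hc := hcen _ (hcomm a b)
    have hcc : ⁅a, b⁆ * ⁅a, b⁆ = 1 := (hmem _).mp (hcomm a b)
    have e : b * a = ⁅a, b⁆ * (a * b) := by
      rw [← inv_eq_of_mul_eq_one_right hcc, commutatorElement_inv, commutatorElement_def]; group
    calc a * b * (a * b) = a * (b * a) * b := by group
      _ = a * ⁅a, b⁆ * a * (b * b) := by rw [e]; group
      _ = (a * a) * ⁅a, b⁆ * (b * b) := by rw [mul_assoc a ⁅a, b⁆ a, ← hc a, ← mul_assoc]; group
      _ = _ := by rw [mul_assoc, ← hc (b * b), ← mul_assoc]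
  -- roots of an involution form one coset
  have hcoset : ∀ {v a t : T}, v ∈ V → v ≠ 1 → a * a = v → t * t = v → ∃ z ∈ V, t = a * z := by
    intro v a t hv h1 ha ht
    have hf : ∀ z : V, (a * z) * (a * z) = v := fun z => by
      rw [hmul, ha, (hmem _).mp z.2, mul_one, commutatorElement_eq_one_iff_mul_comm.mpr (hcen _ z.2 a), mul_one]
    let g : V → {x : T // x * x = v} := fun z => ⟨a * z, hf z⟩
    have hg : Function.Bijective g := (Nat.bijective_iff_injective_and_card g).mpr
      ⟨fun z z' h => Subtype.ext (mul_left_cancel (congrArg Subtype.val h)), by rw [hV4, hroots v hv h1]⟩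
    obtain ⟨z, hz⟩ := hg.2 ⟨t, ht⟩
    exact ⟨z, z.2, (congrArg Subtype.val hz).symm⟩
  have hxy : x * y = y * x := by
    by_contra hne
    have hc1 : ⁅x, y⁆ ≠ 1 := fun e => hne (commutatorElement_eq_one_iff_mul_comm.mp e)
    have hxV : x ∉ V := fun e => h11 (by rw [← hx]; exact (hmem x).mp e)
    have hyV : y ∉ V := fun e => h21 (by rw [← hy]; exact (hmem y).mp e)
    have n0 : (x * y) * (x * y) ≠ 1 := fun e => by
      have he := (hmem _).mpr e
      refine hne ?_
      have hc := hcen _ he x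
      rw [mul_assoc x y x] at hc
      exact mul_left_cancel hc
    have n1 : (x * y) * (x * y) ≠ v1 := fun e => by
      obtain ⟨z, hz, ez⟩ := hcoset hv1 h11 hx e
      exact hyV (mul_left_cancel ez ▸ hz)
    have n2 : (x * y) * (x * y) ≠ v2 := fun e => by
      obtain ⟨z, hz, ez⟩ := hcoset hv2 h21 hy e
      refine hne ?_
      have hx' : x = y * z * y⁻¹ := by rw [← ez, mul_inv_cancel_right]
      rw [hcen z hz y, mul_inv_cancel_right] at hx'
      rw [hx', hcen z hz y]
    have hsub : (({1, v1, v2, v1 * v2, (x * y) * (x * y)} : Finset T) : Set T) ⊆ (V : Set T) := by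
      intro w hw
      simp only [Finset.coe_insert, Finset.coe_singleton, Set.mem_insert_iff, Set.mem_singleton_iff] at hw
      rcases hw with rfl | rfl | rfl | rfl | rfl
      · exact one_mem V
      · exact hv1
      · exact hv2
      · exact mul_mem hv1 hv2
      · exact hsq _
    have h5 : ({1, v1, v2, v1 * v2, (x * y) * (x * y)} : Finset T).card = 5 := by
      have a1 : (1 : T) ≠ v1 * v2 := fun e => h22 (by
        rw [eq_inv_of_mul_eq_one_right e.symm]; exact inv_eq_of_mul_eq_one_right ((hmem v1).mp hv1))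
      have a2 : v1 ≠ v1 * v2 := fun e => h21 (mul_eq_left.mp e.symm)
      have a3 : v2 ≠ v1 * v2 := fun e => h11 (mul_eq_right.mp e.symm)
      have a4 : v1 * v2 ≠ (x * y) * (x * y) := fun e => hc1 (by
        rw [hmul, hx, hy] at e
        exact mul_eq_left.mp e.symm)
      rw [Finset.card_insert_of_notMem (by simp [h11.symm, h21.symm, a1, n0.symm]),
        Finset.card_insert_of_notMem (by simp [h22.symm, a2, n1.symm]),
        Finset.card_insert_of_notMem (by simp [a3, n2.symm]), Finset.card_pair a4]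
    have := Set.ncard_le_ncard hsub (Set.toFinite _)
    rw [Set.ncard_coe_finset, h5, ← Nat.card_coe_set_eq, SetLike.coe_sort_coe, hV4] at this
    omega
  -- four cosets
  have hall : ∀ t : T, ∃ z ∈ V, t = z ∨ t = x * z ∨ t = y * z ∨ t = x * y * z := by
    intro t
    by_cases h0 : t * t = 1
    · exact ⟨t, (hmem t).mpr h0, Or.inl rfl⟩
    by_cases h1 : t * t = v1
    · obtain ⟨z, hz, e⟩ := hcoset hv1 h11 hx h1
      exact ⟨z, hz, Or.inr (Or.inl e)⟩
    by_cases h2 : t * t = v2
    · obtain ⟨z, hz, e⟩ := hcoset hv2 h21 hy h2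
      exact ⟨z, hz, Or.inr (Or.inr (Or.inl e))⟩
    have hsub : (({1, v1, v2, v1 * v2} : Finset T) : Set T) ⊆ (V : Set T) := by
      intro w hw
      simp only [Finset.coe_insert, Finset.coe_singleton, Set.mem_insert_iff, Set.mem_singleton_iff] at hw
      rcases hw with rfl | rfl | rfl | rfl
      · exact one_mem V
      · exact hv1
      · exact hv2
      · exact mul_mem hv1 hv2
    have a1 : (1 : T) ≠ v1 * v2 := fun e => h22 (by
      rw [eq_inv_of_mul_eq_one_right e.symm]; exact inv_eq_of_mul_eq_one_right ((hmem v1).mp hv1))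
    have a2 : v1 ≠ v1 * v2 := fun e => h21 (mul_eq_left.mp e.symm)
    have a3 : v2 ≠ v1 * v2 := fun e => h11 (mul_eq_right.mp e.symm)
    have h4' : ({1, v1, v2, v1 * v2} : Finset T).card = 4 := by
      rw [Finset.card_insert_of_notMem (by simp [h11.symm, h21.symm, a1]),
        Finset.card_insert_of_notMem (by simp [h22.symm, a2]), Finset.card_pair a3]
    have heq := Set.eq_of_subset_of_ncard_le hsub (by
      rw [Set.ncard_coe_finset, h4', ← Nat.card_coe_set_eq, SetLike.coe_sort_coe, hV4]) (Set.toFinite _)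
    have ht := (Set.ext_iff.mp heq (t * t)).mpr (hsq t)
    simp only [Finset.coe_insert, Finset.coe_singleton, Set.mem_insert_iff, Set.mem_singleton_iff] at ht
    obtain ⟨z, hz, e⟩ := hcoset (mul_mem hv1 hv2) a1.symm
      (show (x * y) * (x * y) = v1 * v2 by
        rw [hmul, hx, hy, commutatorElement_eq_one_iff_mul_comm.mpr hxy, mul_one])
      (ht.resolve_left h0 |>.resolve_left h1 |>.resolve_left h2)
    exact ⟨z, hz, Or.inr (Or.inr (Or.inr e))⟩
  intro s t
  let A : Subgroup T := Subgroup.closure ({x, y} ∪ (V : Set T))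
  have hA : ∀ t : T, t ∈ A := fun t => by
    have hxA : x ∈ A := Subgroup.subset_closure (Or.inl (Or.inl rfl))
    have hyA : y ∈ A := Subgroup.subset_closure (Or.inl (Or.inr rfl))
    obtain ⟨z, hz, rfl | rfl | rfl | rfl⟩ := hall t
    · exact Subgroup.subset_closure (Or.inr hz)
    · exact mul_mem hxA (Subgroup.subset_closure (Or.inr hz))
    · exact mul_mem hyA (Subgroup.subset_closure (Or.inr hz))
    · exact mul_mem (mul_mem hxA hyA) (Subgroup.subset_closure (Or.inr hz))
  have hg : ∀ t ∈ ({x, y} ∪ (V : Set T) : Set T), t ∈ Subgroup.center T := by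
    rintro t ((rfl | ht) | ht)
    · refine Subgroup.mem_center_iff.mpr fun g => ?_
      obtain ⟨z, hz, rfl | rfl | rfl | rfl⟩ := hall g
      · exact (hcen _ hz t).symm
      · exact Commute.mul_left (Commute.refl t) (hcen z hz t : Commute t z).symm
      · exact Commute.mul_left (hxy : Commute t y).symm (hcen z hz t : Commute t z).symm
      · exact Commute.mul_left (Commute.mul_left (Commute.refl t) (hxy : Commute t y).symm)
          (hcen z hz t : Commute t z).symm
    · rw [Set.mem_singleton_iff] at ht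
      subst ht
      refine Subgroup.mem_center_iff.mpr fun g => ?_
      obtain ⟨z, hz, rfl | rfl | rfl | rfl⟩ := hall g
      · exact (hcen _ hz t).symm
      · exact Commute.mul_left (hxy : Commute x t) (hcen z hz t : Commute t z).symm
      · exact Commute.mul_left (Commute.refl t) (hcen z hz t : Commute t z).symm
      · exact Commute.mul_left (Commute.mul_left (hxy : Commute x t) (Commute.refl t))
          (hcen z hz t : Commute t z).symm
    · exact Subgroup.mem_center_iff.mpr fun g => hcen t ht g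
  exact (Subgroup.mem_center_iff.mp ((Subgroup.closure_le _).mpr hg (hA t)) s)

/-- Let T be a finite 2-group of 2-rank exactly 2 (it has a Klein four-subgroup but no elementary abelian subgroup of order 8) admitting an automorphism φ such that any two involutions of T are carried to one another by a power of φ. Then T ≅ Z_{2^n} × Z_{2^n} for some n ≥ 1, or T is isomorphic to a Sylow 2-subgroup of PSU(3) over the field with 16 elements. -/
theorem result {T : Type*} [Group T] [Finite T] (hT : IsPGroup 2 T) (h2 : Cfsg.PRankLE 2 2 T) (h1 : ¬ Cfsg.PRankLE 2 1 T) (φ : MulAut T) (htrans : ∀ s t : T, orderOf s = 2 → orderOf t = 2 → ∃ k : ℕ, (φ ^ k) s = t) {F : Type*} [Field F] [Fintype F] (hF : Fintype.card F = 16) (P : Sylow 2 (Cfsg.PSU 3 F 4)) : (∃ n : ℕ, 1 ≤ n ∧ Nonempty (T ≃* Multiplicative (ZMod (2 ^ n) × ZMod (2 ^ n)))) ∨ Nonempty (T ≃* (P : Subgroup (Cfsg.PSU 3 F 4))) := by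
  classical
  have : Fact (Nat.Prime 2) := ⟨Nat.prime_two⟩
  obtain ⟨A, hA, hA2, hAlt⟩ : ∃ A : Subgroup T, IsMulCommutative A ∧ (∀ a ∈ A, a ^ 2 = 1) ∧ 2 ^ 1 < Nat.card A := by
    unfold Cfsg.PRankLE at h1
    push Not at h1
    exact h1
  have hord : ∀ {x : T}, x ≠ 1 → x * x = 1 → orderOf x = 2 := fun hx hx2 =>
    orderOf_eq_prime (by rw [pow_two]; exact hx2) hx
  have htr : ∀ x y : T, x ≠ 1 → x * x = 1 → y ≠ 1 → y * y = 1 → ∃ j : ℕ, (φ ^ j) x = y :=
    fun x y a b c d => htrans x y (hord a b) (hord c d)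
  haveI : Nontrivial A := Finite.one_lt_card_iff_nontrivial.mp (by omega)
  obtain ⟨⟨u, huA⟩, hu⟩ := exists_ne (1 : A)
  have hu1 : u ≠ 1 := fun e => hu (Subtype.ext e)
  have hu2 : u * u = 1 := by rw [← pow_two]; exact hA2 u huA
  obtain ⟨c, -, hc, hco⟩ := Cfsg.Agent.PGroup.exists_central_order_p hT (N := (⊤ : Subgroup T)) (fun h => hu1 (by
    have := Subgroup.mem_top u
    rwa [h, Subgroup.mem_bot] at this))
  have hcen : ∀ v : T, v * v = 1 → ∀ x, x * v = v * x := by
    intro v hv x
    by_cases hv1 : v = 1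
    · rw [hv1, one_mul, mul_one]
    obtain ⟨j, rfl⟩ := htr c v (fun h => by rw [h, orderOf_one] at hco; norm_num at hco)
      (by rw [← pow_two, ← hco, pow_orderOf_eq_one]) hv1 hv
    rw [← (φ ^ j).apply_symm_apply x, ← map_mul, ← map_mul, Subgroup.mem_center_iff.1 hc]
  let V : Subgroup T :=
    { carrier := {v | v * v = 1}
      one_mem' := mul_one 1
      mul_mem' := fun {v w} hv hw => by
        show v * w * (v * w) = 1
        calc v * w * (v * w) = v * (w * v) * w := by group
          _ = v * (v * w) * w := by rw [hcen v hv w]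
          _ = (v * v) * (w * w) := by group
          _ = 1 := by rw [show v * v = 1 from hv, show w * w = 1 from hw, mul_one]
      inv_mem' := fun {v} hv => by
        show v⁻¹ * v⁻¹ = 1
        rw [← mul_inv_rev, show v * v = 1 from hv, inv_one] }
  have hV4 : Nat.card V = 4 := by
    have h4 := h2 V ⟨⟨fun a b => Subtype.ext (hcen b b.2 a)⟩⟩ (fun a ha => by rw [pow_two]; exact ha)
    have h3 := Subgroup.card_le_of_le (show A ≤ V from fun a ha => by show a * a = 1; rw [← pow_two]; exact hA2 a ha)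
    obtain ⟨k, hk⟩ := IsPGroup.iff_card.mp (hT.to_subgroup V)
    rw [hk] at h4 h3 ⊢
    have hk2 : k ≤ 2 := (Nat.pow_le_pow_iff_right (by norm_num : 1 < 2)).mp h4
    have hk1 : 1 < k := (Nat.pow_lt_pow_iff_right (by norm_num : 1 < 2)).mp (hAlt.trans_le h3)
    rw [show k = 2 by omega]
    norm_num
  by_cases hab : ∀ x y : T, x * y = y * x
  · exact Or.inl (abelian_case hT hab hu1 hu2 hV4 φ htr)
  push Not at hab
  obtain ⟨u', hu'1, hu'2, huu'⟩ : ∃ u' : T, u' ≠ 1 ∧ u' * u' = 1 ∧ u ≠ u' := by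
    by_contra hcon
    push Not at hcon
    have hsub : (V : Set T) ⊆ (({1, u} : Finset T) : Set T) := fun w hw => by
      simp only [Finset.coe_insert, Finset.coe_singleton, Set.mem_insert_iff, Set.mem_singleton_iff]
      exact or_iff_not_imp_left.mpr fun h => (hcon w h hw).symm
    have := Set.ncard_le_ncard hsub (Set.toFinite _)
    rw [Set.ncard_coe_finset, ← Nat.card_coe_set_eq, SetLike.coe_sort_coe, hV4] at this
    exact absurd (this.trans Finset.card_le_two) (by norm_num)
  obtain ⟨E, _, _, _, ⟨d⟩⟩ := exists_suzData_of_transitive hT hab φ huu' hu1 hu2 hu'1 hu'2 htr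
  have hcV : Nat.card (Subgroup.center T) = 4 := by rw [d.center_eq_V]; exact hV4
  have hsq : ∀ x : T, x * x ∈ V := fun x => d.sq_mem_V x
  have hr : ∀ v : V, v ≠ 1 → Nat.card {x : T // x * x = (v : T)} = Nat.card {x : T // x * x = u} := by
    intro v hv
    obtain ⟨j, hj⟩ := htr u v hu1 hu2 (fun e => hv (Subtype.ext e)) v.2
    refine (Nat.card_congr ((φ ^ j).toEquiv.subtypeEquiv fun x => ?_)).symm
    show x * x = u ↔ (φ ^ j) x * (φ ^ j) x = v
    rw [← map_mul, ← hj]
    exact ((φ ^ j).injective.eq_iff).symm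
  have htot : Nat.card T = 4 + 3 * Nat.card {x : T // x * x = u} := by
    haveI : Fintype V := Fintype.ofFinite _
    rw [← Nat.card_congr (Equiv.sigmaFiberEquiv fun x : T => (⟨x * x, hsq x⟩ : V)), Nat.card_sigma,
      ← Finset.add_sum_erase _ _ (Finset.mem_univ (1 : V))]
    have e : ∀ v : V, Nat.card {x : T // (⟨x * x, hsq x⟩ : V) = v} = Nat.card {x : T // x * x = (v : T)} :=
      fun v => Nat.card_congr (Equiv.subtypeEquivRight fun x => ⟨congrArg Subtype.val, fun h => Subtype.ext h⟩)
    congr 1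
    · rw [e]; exact hV4
    · rw [Finset.sum_congr rfl fun v hv => (e v).trans (hr v (Finset.ne_of_mem_erase hv)), Finset.sum_const,
        Finset.card_erase_of_mem (Finset.mem_univ _), Finset.card_univ, ← Nat.card_eq_fintype_card, hV4, smul_eq_mul]
  rcases d.card_eq with hT16 | hT64
  · rw [hcV] at hT16
    obtain ⟨x, y, hxy⟩ := hab
    exact absurd (not_sixteen (V := V) (fun z => Iff.rfl) (fun v hv => hcen v hv) hV4 hsq (fun a b => d.comm_mem_V a b)
      (fun v hv hv1 => (hr ⟨v, hv⟩ fun e => hv1 (congrArg Subtype.val e)).trans (by omega)) x y) hxy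
  rw [hcV] at hT64
  right
  have hF' : Fintype.card F = 4 ^ 2 := by rw [hF]; rfl
  have hF2 : (2 : F) = 0 := by
    obtain ⟨p, hp⟩ := CharP.exists F
    haveI := hp
    obtain ⟨n, hpn, hn⟩ := FiniteField.card F p
    have hdvd : p ∣ 2 ^ 4 := by
      rw [show 2 ^ 4 = Fintype.card F by rw [hF]; rfl, hn]
      exact dvd_pow_self p n.ne_zero
    have := (Nat.prime_dvd_prime_iff_eq hpn Nat.prime_two).mp (hpn.dvd_of_dvd_pow hdvd)
    subst this
    exact_mod_cast CharP.cast_eq_zero F 2
  obtain ⟨eP⟩ := Cfsg.Agent.Unitary.exists_equiv (n := 2) (by norm_num) (by norm_num) hF' hF2 P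
  have S1 : SixtyFour.Sixty T V := ⟨hT64, fun z => Iff.rfl, fun v hv => hcen v hv, hV4, hsq,
    fun v hv hv1 => (hr ⟨v, hv⟩ fun e => hv1 (congrArg Subtype.val e)).trans (by omega)⟩
  have S2 : SixtyFour.Sixty (Cfsg.Agent.Unitary.sylThree hF' hF2)
      (Subgroup.center (Cfsg.Agent.Unitary.sylThree hF' hF2)) :=
    ⟨by rw [Cfsg.Agent.Unitary.card_sylThree]; norm_num,
     fun z => (Cfsg.Agent.Unitary.mem_center_iff z).trans (Cfsg.Agent.Unitary.sq_eq_one_iff z).symm,
     fun v hv g => Subgroup.mem_center_iff.mp hv g, Cfsg.Agent.Unitary.card_center,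
     fun g => (Cfsg.Agent.Unitary.mem_center_iff _).mpr (Cfsg.Agent.Unitary.coord_sq g).1,
     fun v hv hv1 => by rw [Cfsg.Agent.Unitary.card_sqrt hv hv1]⟩
  obtain ⟨e⟩ := SixtyFour.nonempty_mulEquiv S1 S2
  exact ⟨e.trans eP⟩

end Cfsg.Agent.S1237
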