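import Cfsg.Statements.S0204
import Cfsg.Agent.S0016
import Cfsg.Agent.S0201
import Cfsg.Agent.Lib.ZStarPrimePower.UniqueInvolution
import Cfsg.Agent.Lib.OddOrderTheorem.Basic

set_option autoImplicit false
open Cfsg

namespace Cfsg.Agent.S0204

/-- Two commuting involutions generate a Klein four-group. -/
theorem klein_of_pair {G : Type*} [Group G] {a b : G} (ha : orderOf a = 2) (hb : orderOf b = 2)
    (hne : a ≠ b) (hc : a * b = b * a) : ∃ E : Subgroup G, IsKleinFour E := by
  classical
  have ha2 : a * a = 1 := by rw [← pow_two, ← ha, pow_orderOf_eq_one]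
  have hb2 : b * b = 1 := by rw [← pow_two, ← hb, pow_orderOf_eq_one]
  have ha1 : a ≠ 1 := fun e => by simp [e] at ha
  have hb1 : b ≠ 1 := fun e => by simp [e] at hb
  have hab : a * (a * b) = b := by rw [← mul_assoc, ha2, one_mul]
  have hba : b * (a * b) = a := by rw [hc, ← mul_assoc, hb2, one_mul]
  have haba : a * b * a = b := by rw [hc, mul_assoc, ha2, mul_one]
  have habb : a * b * b = a := by rw [mul_assoc, hb2, mul_one]
  have habab : a * b * (a * b) = 1 := by rw [← mul_assoc, haba, hb2]
  let s : Finset G := {1, a, b, a * b}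
  have hmem : ∀ x, x ∈ s ↔ x = 1 ∨ x = a ∨ x = b ∨ x = a * b := fun x => by simp [s]
  have hclosed : ∀ x ∈ s, ∀ y ∈ s, x * y ∈ s := by
    intro x hx y hy
    rw [hmem] at hx hy ⊢
    rcases hx with rfl | rfl | rfl | rfl <;> rcases hy with rfl | rfl | rfl | rfl <;>
      simp [ha2, hb2, hab, hba, haba, habb, habab, ← hc]
  have hsq : ∀ x ∈ s, x * x = 1 := by
    intro x hx
    rw [hmem] at hx
    rcases hx with rfl | rfl | rfl | rfl <;> simp [ha2, hb2, habab]
  let E : Subgroup G :=
    { carrier := (s : Set G)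
      one_mem' := by simp [s]
      mul_mem' := fun hx hy => hclosed _ hx _ hy
      inv_mem' := fun {x} hx => by rw [inv_eq_of_mul_eq_one_right (hsq x hx)]; exact hx }
  have hcard : s.card = 4 := by
    have h1 : (1 : G) ≠ a * b := fun e => hne ((mul_left_cancel (ha2.trans e)))
    simp [s, Finset.card_insert_of_notMem, ha1.symm, hb1.symm, hne, h1, ha1, hb1]
  have hE : Nat.card E = 4 := by
    rw [← hcard, ← Nat.card_eq_finsetCard]
    rfl
  haveI : Finite E := Nat.finite_of_card_ne_zero (by omega)
  haveI : Nontrivial E := Finite.one_lt_card_iff_nontrivial.1 (by omega)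
  refine ⟨E, hE, (Monoid.exponent_eq_prime_iff Nat.prime_two).2 fun g hg => ?_⟩
  refine orderOf_eq_prime (Subtype.ext ?_) hg
  rw [pow_two]
  exact hsq _ g.2

/-- A non-cyclic finite simple group contains a subgroup which is a Klein four-group; this combines the Odd Order Theorem, Burnside's transfer argument for cyclic Sylow 2-subgroups and the Brauer–Suzuki Theorem. -/
theorem result {G : Type*} [Group G] [Finite G] [IsSimpleGroup G] (hG : ¬ IsCyclic G) : ∃ E : Subgroup G, IsKleinFour E := by
  have hG' : ¬ IsMulCommutative G := fun h => by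
    haveI := h
    letI : CommGroup G := { (inferInstance : Group G) with mul_comm := fun a b => mul_comm' a b }
    exact hG IsSimpleGroup.isCyclic
  have heven : 2 ∣ Nat.card G := by
    by_contra h2
    have hsol := OddOrderTheorem.solvable (Nat.odd_iff.2 (by omega) : Odd (Nat.card G))
    exact hG' ⟨⟨(IsSimpleGroup.comm_iff_isSolvable (G := G)).2 hsol⟩⟩
  haveI : Fact (Nat.Prime 2) := ⟨Nat.prime_two⟩
  by_contra hno
  have huniq : ∀ a b : G, orderOf a = 2 → orderOf b = 2 → a * b = b * a → a = b := fun a b ha hb hc => by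
    by_contra hne
    exact hno (klein_of_pair ha hb hne hc)
  obtain ⟨T⟩ : Nonempty (Sylow 2 G) := inferInstance
  have hTne : Nontrivial ↥(T : Subgroup G) := by
    rw [← Finite.one_lt_card_iff_nontrivial]
    exact lt_of_lt_of_le one_lt_two (Nat.le_of_dvd Nat.card_pos (T.dvd_card_of_dvd_card heven))
  haveI := T.isPGroup'.center_nontrivial
  obtain ⟨z, hz⟩ := exists_prime_orderOf_dvd_card' (G := Subgroup.center ↥(T : Subgroup G)) 2 (by
    obtain ⟨k, hk⟩ := (T.isPGroup'.to_subgroup (Subgroup.center ↥(T : Subgroup G))).exists_card_eq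
    rw [hk]
    refine dvd_pow_self 2 fun e => ?_
    rw [e, pow_zero, Nat.card_eq_one_iff_unique] at hk
    exact not_nontrivial_iff_subsingleton.2 hk.1 inferInstance)
  set d : G := ((z : ↥(T : Subgroup G)) : G) with hd
  have hd2 : orderOf d = 2 := by rw [hd, Subgroup.orderOf_coe, Subgroup.orderOf_coe]; exact hz
  have hdT : d ∈ T := (z : ↥(T : Subgroup G)).2
  obtain ⟨N, hN, hodd, hcomm⟩ := ZStarPrimePower.uniqueInvolutionZStar
    (fun Q _ _ hQ hu => (S0016.result 2 hQ hu).imp id And.right)
    (fun K _ _ S n e h => S0201.result S n e h) G d T hd2 hdT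
    (fun t ht ht2 => huniq t d ht2 hd2
      (congrArg Subtype.val (Subgroup.mem_center_iff.1 z.2 ⟨t, ht⟩)))
  rcases hN.eq_bot_or_eq_top with rfl | rfl
  · have hdc : d ∈ Subgroup.center G := Subgroup.mem_center_iff.2 fun g => by
      have := Subgroup.mem_bot.1 (hcomm g)
      exact (commutatorElement_eq_one_iff_commute.1 this).eq.symm
    rcases (inferInstance : (Subgroup.center G).Normal).eq_bot_or_eq_top with h | h
    · rw [h, Subgroup.mem_bot] at hdc
      rw [hdc, orderOf_one] at hd2
      exact absurd hd2 (by norm_num)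
    · exact hG' ⟨⟨fun a b => (Subgroup.mem_center_iff.1 (h ▸ Subgroup.mem_top b : b ∈ Subgroup.center G) a)⟩⟩
  · rw [Subgroup.card_top] at hodd
    exact (Nat.not_even_iff_odd.2 hodd) (even_iff_two_dvd.2 heven)

end Cfsg.Agent.S0204
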