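import Cfsg.Statements.S0516
import Cfsg.Agent.Lib.AlperinRankTwo.Group
import Cfsg.Agent.S0215
import Cfsg.Agent.S0204
import Cfsg.Agent.S0949
-- import your own Cfsg.Agent.* helpers here

set_option autoImplicit false
open Cfsg

namespace Cfsg.Agent.S0516

/-- In a non-abelian finite simple group of 2-rank at most 2, a Sylow 2-subgroup is dihedral (of order at least 4),
quasi-dihedral, wreathed, or isomorphic to a Sylow 2-subgroup of the projective special unitary group of dimension 3
over the field with 16 elements. -/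
theorem result {G : Type*} [Group G] [Finite G] [IsSimpleGroup G]
    (hG : ¬ IsMulCommutative G) (h2 : Cfsg.PRankLE 2 2 G) (S : Sylow 2 G) {F : Type*} [Field F] [Fintype F]
    (hF : Fintype.card F = 16) (P : Sylow 2 (Cfsg.PSU 3 F 4)) :
    (∃ n : ℕ, 2 ≤ n ∧ Nonempty ((S : Subgroup G) ≃* DihedralGroup n)) ∨ Cfsg.IsQuasiDihedral (S : Subgroup G) ∨
      Cfsg.IsWreathed (S : Subgroup G) ∨ Nonempty ((S : Subgroup G) ≃* (P : Subgroup (Cfsg.PSU 3 F 4))) := by
  haveI : Fact (Nat.Prime 2) := ⟨Nat.prime_two⟩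
  have hcyc : ¬ IsCyclic G := fun h => hG (by
    letI := h.commGroup
    exact ⟨⟨fun a b => mul_comm a b⟩⟩)
  obtain ⟨E, hE⟩ := S0204.result hcyc
  have h1 : ¬ Cfsg.PRankLE 2 1 G := fun h => by
    haveI := hE
    have := h E ⟨⟨fun a b => IsKleinFour.isMulCommutative.is_comm.comm a b⟩⟩ (fun a ha => by
      have h' := Monoid.pow_exponent_eq_one (⟨a, ha⟩ : E)
      rw [IsKleinFour.exponent_two] at h'
      exact congrArg Subtype.val h')
    rw [IsKleinFour.card_four] at this
    norm_num at this
  have hiso : ∀ z : G, ¬ Cfsg.IsIsolatedInvolution z := by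
    rintro z ⟨hz, hzi⟩
    -- a Sylow 2-subgroup through a Sylow 2-subgroup of the centralizer
    obtain ⟨P₀, hP₀⟩ := (show IsPGroup 2 (Subgroup.zpowers z) from
      IsPGroup.of_card (n := 1) (by rw [Nat.card_zpowers, hz, pow_one])).exists_le_sylow
    have hzP : z ∈ P₀ := hP₀ (Subgroup.mem_zpowers z)
    have hfix : ∀ g : G, g * z * g⁻¹ ∈ P₀ → g * z * g⁻¹ = z := by
      -- `z` is central in `P₀`
      have hcen : ∀ p ∈ (P₀ : Subgroup G), p * z * p⁻¹ = z := by
        intro p hp
        let H : Subgroup ↥(P₀ : Subgroup G) := Subgroup.centralizer {⟨z, hzP⟩}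
        by_contra hne
        have hH : H ≠ ⊤ := fun h => hne (by
          have h' : (⟨p, hp⟩ : ↥(P₀ : Subgroup G)) ∈ H := h ▸ Subgroup.mem_top _
          have h'' : p * z = z * p := congrArg Subtype.val (Subgroup.mem_centralizer_singleton_iff.1 h')
          rw [h'', mul_inv_cancel_right])
        haveI := P₀.isPGroup'.isNilpotent
        obtain ⟨n, hn, hnH⟩ := SetLike.exists_of_lt ((Group.normalizerCondition_of_isNilpotent (G := ↥(P₀ : Subgroup G))) H (lt_top_iff_ne_top.2 hH))
        have hcz : n * ⟨z, hzP⟩ * n⁻¹ ∈ H :=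
          (Subgroup.mem_normalizer_iff.1 hn _).1 (Subgroup.mem_centralizer_singleton_iff.2 rfl)
        have h' : ((n : G) * z * (n : G)⁻¹) * z = z * ((n : G) * z * (n : G)⁻¹) :=
          congrArg Subtype.val (Subgroup.mem_centralizer_singleton_iff.1 hcz)
        have h'' := hzi (n : G) h'.symm
        exact hnH (Subgroup.mem_centralizer_singleton_iff.2 (Subtype.ext (mul_inv_eq_iff_eq_mul.1 h'')))
      intro g hg
      exact hzi g (mul_inv_eq_iff_eq_mul.1 (hcen _ hg)).symm
    obtain ⟨N, hN, hNodd, hNc⟩ := S0215.result P₀ z hz hzP hfix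
    rcases hN.eq_bot_or_eq_top with h | h
    · have hcent : ∀ g : G, z * g = g * z := fun g => by
        have := hNc g
        rw [h, Subgroup.mem_bot] at this
        exact commutatorElement_eq_one_iff_mul_comm.1 (by rw [commutatorElement_def]; exact this)
      have hzc : z ∈ Subgroup.center G := Subgroup.mem_center_iff.2 fun g => (hcent g).symm
      rcases (inferInstance : (Subgroup.center G).Normal).eq_bot_or_eq_top with h' | h'
      · rw [h', Subgroup.mem_bot] at hzc
        rw [hzc, orderOf_one] at hz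
        norm_num at hz
      · exact hG ⟨⟨fun a b => Subgroup.mem_center_iff.1 (h' ▸ Subgroup.mem_top b) a⟩⟩
    · rw [h, Subgroup.card_top] at hNodd
      exact (Nat.not_even_iff_odd.2 hNodd) (even_iff_two_dvd.2 (hz ▸ orderOf_dvd_natCard z))
  rcases AlperinRankTwo.group_conclusion S h2 h1 hiso hF P with h | h | h | ⟨n, hn, ⟨e⟩⟩ | h
  · exact Or.inl h
  · exact Or.inr (Or.inl h)
  · exact Or.inr (Or.inr (Or.inl h))
  · -- Brauer: a homocyclic Sylow 2-subgroup is normal
    exfalso
    obtain ⟨hn', -, -⟩ := S0949.result S n hn e (fun N hN hodd => hN.eq_bot_or_eq_top.resolve_right fun h => by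
      rw [h, Subgroup.card_top] at hodd
      haveI := hE
      haveI : Nontrivial E := Finite.one_lt_card_iff_nontrivial.1 (by rw [IsKleinFour.card_four]; norm_num)
      obtain ⟨⟨x, hx⟩, hx1⟩ := exists_ne (1 : E)
      have h' := Monoid.pow_exponent_eq_one (⟨x, hx⟩ : E)
      rw [IsKleinFour.exponent_two] at h'
      have ho : orderOf x = 2 := orderOf_eq_prime (congrArg Subtype.val h') fun h => hx1 (Subtype.ext h)
      exact (Nat.not_even_iff_odd.2 hodd) (even_iff_two_dvd.2 (ho ▸ orderOf_dvd_natCard x)))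
    rcases hn'.eq_bot_or_eq_top with h | h
    · have hc := Nat.card_congr e.toEquiv
      rw [h, Subgroup.card_bot, Nat.card_congr Multiplicative.toAdd, Nat.card_prod, Nat.card_zmod] at hc
      have : 2 ^ 2 ≤ 2 ^ n := Nat.pow_le_pow_right (by norm_num) hn
      nlinarith
    · refine hG ⟨⟨fun a b => ?_⟩⟩
      have := mul_comm (e ⟨a, h ▸ Subgroup.mem_top a⟩) (e ⟨b, h ▸ Subgroup.mem_top b⟩)
      rw [← map_mul, ← map_mul] at this
      exact congrArg Subtype.val (e.injective this)
  · exact Or.inr (Or.inr (Or.inr h))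

end Cfsg.Agent.S0516
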