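import Cfsg.Statements.S0107
import Cfsg.Agent.S0111

set_option autoImplicit false
open Cfsg

namespace Cfsg.Agent.S0107

/-- A finite group with no nontrivial 2-group quotient and dihedral Sylow 2-subgroups of order at least 8 has a single class of involutions. -/
theorem result {G : Type*} [Group G] [Finite G] (T : Sylow 2 G) (n : ℕ) (hn : 2 ≤ n) (hT : Nonempty ((T : Subgroup G) ≃* DihedralGroup (2 ^ n))) (hO : Cfsg.pResidual 2 G = ⊤) (x y : G) (hx : orderOf x = 2) (hy : orderOf y = 2) : ∃ g : G, g * x * g⁻¹ = y := by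
  classical
  obtain ⟨e⟩ := hT
  have hno : ¬ ∃ M : Subgroup G, M.Normal ∧ M.index = 2 := by
    rintro ⟨M, hM, hMi⟩
    have hle : Cfsg.pResidual 2 G ≤ M := by
      rw [Cfsg.pResidual, Subgroup.closure_le]
      intro g hg
      have hgo : Nat.Coprime (orderOf g) 2 := hg
      have h1 : orderOf (QuotientGroup.mk' M g) ∣ Nat.gcd (orderOf g) 2 := by
        refine Nat.dvd_gcd (orderOf_map_dvd _ _) ?_
        have := orderOf_dvd_natCard (QuotientGroup.mk' M g)
        rwa [← Subgroup.index_eq_card, hMi] at this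
      rw [hgo.gcd_eq_one, Nat.dvd_one, orderOf_eq_one_iff] at h1
      exact (QuotientGroup.eq_one_iff g).mp h1
    rw [hO, top_le_iff] at hle
    rw [hle, Subgroup.index_top] at hMi
    omega
  obtain ⟨k, rfl⟩ : ∃ k, n = k + 1 := ⟨n - 1, by omega⟩
  set c : ZMod (2 ^ (k + 1)) := ((2 ^ k : ℕ) : ZMod (2 ^ (k + 1))) with hc
  set z : G := (e.symm (DihedralGroup.r c) : G) with hz
  have hzero : ∀ i : ZMod (2 ^ (k + 1)), i + i = 0 → i = 0 ∨ i = c := by
    intro i hi
    obtain ⟨a, rfl⟩ := ZMod.natCast_zmod_surjective i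
    rw [← Nat.cast_add, ZMod.natCast_eq_zero_iff, pow_succ'] at hi
    obtain ⟨b, hb⟩ := hi
    have ha : a = 2 ^ k * b := by nlinarith
    rcases Nat.even_or_odd b with ⟨d, hd⟩ | ⟨d, hd⟩
    · left
      rw [ZMod.natCast_eq_zero_iff, ha, hd, pow_succ']
      exact ⟨d, by ring⟩
    · right
      have hh : a = 2 ^ k + d * 2 ^ (k + 1) := by rw [ha, hd, pow_succ']; ring
      rw [hc, hh, Nat.cast_add, Nat.cast_mul, ZMod.natCast_self, mul_zero, add_zero]
  let R : Subgroup (DihedralGroup (2 ^ (k + 1))) := Subgroup.zpowers (DihedralGroup.r 1)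
  have hR : ∀ d, d ∈ R ↔ ∃ i, d = DihedralGroup.r i := by
    intro d
    constructor
    · rintro ⟨m, rfl⟩
      exact ⟨(m : ZMod (2 ^ (k + 1))), DihedralGroup.r_one_zpow m⟩
    · rintro ⟨i, rfl⟩
      obtain ⟨m, rfl⟩ := ZMod.intCast_surjective i
      exact ⟨m, DihedralGroup.r_one_zpow m⟩
  let Q' : Subgroup (T : Subgroup G) := R.comap e.toMonoidHom
  let Q : Subgroup G := Q'.map (T : Subgroup G).subtype
  have hQT : Q ≤ (T : Subgroup G) := Subgroup.map_subtype_le _
  have hQi : Q.relIndex (T : Subgroup G) = 2 := by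
    have h1 : Q.relIndex (T : Subgroup G) = Q'.index := by
      rw [Subgroup.relIndex, Subgroup.subgroupOf, Subgroup.comap_map_eq_self_of_injective Subtype.val_injective]
    rw [h1]
    show (R.comap e.toMonoidHom).index = 2
    rw [Subgroup.index_comap_of_surjective _ e.surjective]
    have h2 := R.index_mul_card
    rw [Nat.card_zpowers, DihedralGroup.orderOf_r_one, DihedralGroup.nat_card] at h2
    exact Nat.eq_of_mul_eq_mul_right (by positivity) h2
  have hkey : ∀ u : G, orderOf u = 2 → ∃ g : G, g * u * g⁻¹ = z := by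
    intro u hu
    have hu2 : IsPGroup 2 (Subgroup.zpowers u) :=
      IsPGroup.of_card (n := 1) (by rw [Nat.card_zpowers, hu, pow_one])
    obtain ⟨R', hR'⟩ := hu2.exists_le_sylow
    obtain ⟨g, hg⟩ := MulAction.exists_smul_eq G R' T
    set v := g * u * g⁻¹ with hv
    have hvT : v ∈ (T : Subgroup G) := by
      rw [← hg, Sylow.coe_subgroup_smul]
      exact Subgroup.smul_mem_pointwise_smul _ _ _ (hR' (Subgroup.mem_zpowers u))
    have hord : ∀ b : G, orderOf (b * u * b⁻¹) = 2 := by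
      intro b
      have hsc : SemiconjBy b u (b * u * b⁻¹) := by rw [SemiconjBy]; group
      rw [← SemiconjBy.orderOf_eq b hsc, hu]
    have hinQ : ∀ w : G, w ∈ Q → orderOf w = 2 → w = z := by
      intro w hw hwo
      obtain ⟨w', hw', rfl⟩ := hw
      obtain ⟨i, hi⟩ := (hR _).mp hw'
      have hwi : e w' = DihedralGroup.r i := hi
      have hwo' : orderOf (DihedralGroup.r i) = 2 := by
        rw [← hwi, MulEquiv.orderOf_eq, ← Subgroup.orderOf_coe]; exact hwo
      have hii : i + i = 0 := by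
        have := pow_orderOf_eq_one (DihedralGroup.r i)
        rw [hwo', pow_two, DihedralGroup.r_mul_r, DihedralGroup.one_def] at this
        exact DihedralGroup.r.inj this
      rcases hzero i hii with rfl | rfl
      · rw [← DihedralGroup.one_def, orderOf_one] at hwo'; omega
      · rw [hz, ← hwi, MulEquiv.symm_apply_apply]; rfl
    by_cases hvQ : v ∈ Q
    · exact ⟨g, hinQ v hvQ (hord g)⟩
    · rcases S0111.result T Q hQT hQi v (hord g) hvT hvQ with ⟨M, hM, hMi, -⟩ | ⟨b, hb⟩
      · exact absurd ⟨M, hM, hMi⟩ hno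
      · have hb' : (b * g) * u * (b * g)⁻¹ ∈ Q := by
          rw [show (b * g) * u * (b * g)⁻¹ = b * v * b⁻¹ by rw [hv]; group]; exact hb
        exact ⟨b * g, hinQ _ hb' (hord _)⟩
  obtain ⟨a, ha⟩ := hkey x hx
  obtain ⟨b, hb⟩ := hkey y hy
  refine ⟨b⁻¹ * a, ?_⟩
  calc b⁻¹ * a * x * (b⁻¹ * a)⁻¹ = b⁻¹ * (a * x * a⁻¹) * b := by group
    _ = b⁻¹ * (b * y * b⁻¹) * b := by rw [ha, hb]
    _ = y := by group

end Cfsg.Agent.S0107
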