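import Cfsg.Statements.S3920
import Cfsg.Agent.EqLemmas

set_option autoImplicit false
open Cfsg

namespace Cfsg.Agent.S3920

open DihedralGroup

theorem rot_isCyclic {n : ℕ} (H : Subgroup (DihedralGroup n)) (h : ∀ x ∈ H, ∃ i, x = r i) :
    IsCyclic ↥H := by
  have hle : H ≤ Subgroup.zpowers (r 1 : DihedralGroup n) := fun x hx => by
    obtain ⟨i, rfl⟩ := h x hx
    exact ⟨(i.cast : ℤ), by simp⟩
  exact isCyclic_of_injective (Subgroup.inclusion hle) (Subgroup.inclusion_injective hle)

theorem half_add_half {n : ℕ} {i : ZMod n} (h : i + i = 0) : i.val * 2 % n = 0 ∨ n = 0 := by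
  by_cases hn : n = 0
  · exact Or.inr hn
  · have : NeZero n := ⟨hn⟩
    left
    have h1 := congrArg ZMod.val h
    rw [ZMod.val_add, ZMod.val_zero] at h1
    rw [mul_two]; exact h1

theorem eq_half {n : ℕ} [NeZero n] {i : ZMod n} (h : i + i = 0) (h0 : i ≠ 0) :
    2 * i.val = n := by
  rcases half_add_half h with h1 | h1
  · obtain ⟨t, ht⟩ := Nat.dvd_of_mod_eq_zero h1
    have hlt : i.val < n := ZMod.val_lt i
    have hpos : 0 < i.val := Nat.pos_of_ne_zero (fun h => h0 ((ZMod.val_eq_zero i).1 h))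
    rcases t with _ | _ | t
    · omega
    · omega
    · nlinarith
  · exact absurd h1 (NeZero.ne n)

theorem half_unique {n : ℕ} [NeZero n] {i j : ZMod n} (hi : i + i = 0) (hi0 : i ≠ 0)
    (hj : j + j = 0) (hj0 : j ≠ 0) : i = j :=
  ZMod.val_injective n (by have := eq_half hi hi0; have := eq_half hj hj0; omega)

/-- Say that a group has self-centralizing non-cyclic subgroups when every non-cyclic subgroup H satisfies C_G(H) ≤ H. For n ≥ 3, the dihedral group of order 2n has self-centralizing non-cyclic subgroups if and only if n is odd or a power of 2. -/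
theorem result (n : ℕ) (hn : 3 ≤ n) : (∀ H : Subgroup (DihedralGroup n), ¬ IsCyclic ↥H → Subgroup.centralizer (H : Set (DihedralGroup n)) ≤ H) ↔ (Odd n ∨ ∃ k : ℕ, n = 2 ^ k) := by
  have : NeZero n := ⟨by omega⟩
  constructor
  · intro h
    by_contra hc
    push Not at hc
    obtain ⟨hodd, hpow⟩ := hc
    obtain ⟨k, m, hm, hnm⟩ := Nat.exists_eq_two_pow_mul_odd (by omega : n ≠ 0)
    have hm1 : m ≠ 1 := fun h1 => hpow k (by rw [hnm, h1, mul_one])
    have hk : k ≠ 0 := fun h1 => hodd (by rw [hnm, h1, pow_zero, one_mul]; exact hm)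
    set a : ZMod n := ((2 ^ k : ℕ) : ZMod n) with ha
    let H : Subgroup (DihedralGroup n) :=
      { carrier := {x | ∃ t : ZMod n, x = r (a * t) ∨ x = sr (a * t)}
        one_mem' := ⟨0, Or.inl (by rw [mul_zero, r_zero])⟩
        mul_mem' := by
          rintro _ _ ⟨t, rfl | rfl⟩ ⟨u, rfl | rfl⟩
          · exact ⟨t + u, Or.inl (by simp [mul_add])⟩
          · exact ⟨u - t, Or.inr (by simp [mul_sub])⟩
          · exact ⟨t + u, Or.inr (by simp [mul_add])⟩
          · exact ⟨u - t, Or.inl (by simp [mul_sub])⟩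
        inv_mem' := by
          rintro _ ⟨t, rfl | rfl⟩
          · exact ⟨-t, Or.inl (by simp)⟩
          · exact ⟨t, Or.inr (by simp)⟩ }
    have hrH : r a ∈ H := ⟨1, Or.inl (by simp)⟩
    have hsH : sr 0 ∈ H := ⟨0, Or.inr (by simp)⟩
    have hnc : ¬ IsCyclic ↥H := by
      intro hcyc
      have h1 : (⟨r a, hrH⟩ : H) * ⟨sr 0, hsH⟩ = ⟨sr 0, hsH⟩ * ⟨r a, hrH⟩ :=
        (IsCyclic.isMulCommutative (α := H)).is_comm.comm _ _
      have h2 := congrArg Subtype.val h1
      simp only [Subgroup.coe_mul, r_mul_sr, sr_mul_r, DihedralGroup.sr.injEq, zero_add, zero_sub] at h2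
      have h3 : ((2 ^ (k + 1) : ℕ) : ZMod n) = 0 := by
        have : a + a = 0 := by linear_combination (-1 : ZMod n) * h2
        rw [ha, ← Nat.cast_add] at this
        rwa [pow_succ, mul_two]
      rw [ZMod.natCast_eq_zero_iff, hnm] at h3
      have h4 : m ∣ 2 := (Nat.mul_dvd_mul_iff_left (pow_pos two_pos k)).1 (by rwa [pow_succ] at h3)
      rcases (Nat.dvd_prime Nat.prime_two).1 h4 with rfl | rfl
      · exact hm1 rfl
      · exact (Nat.not_even_iff_odd.2 hm) even_two
    have hn2 : 2 * (n / 2) = n := by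
      have : 2 ∣ n := hnm ▸ (dvd_pow_self 2 hk).mul_right m
      omega
    have hz2 : ((n / 2 : ℕ) : ZMod n) + ((n / 2 : ℕ) : ZMod n) = 0 := by
      rw [← Nat.cast_add, ← two_mul, hn2, ZMod.natCast_self]
    have hz : r ((n / 2 : ℕ) : ZMod n) ∈ Subgroup.centralizer (H : Set (DihedralGroup n)) := by
      rintro _ ⟨t, rfl | rfl⟩
      · simp [add_comm]
      · simp only [r_mul_sr, sr_mul_r, DihedralGroup.sr.injEq]
        linear_combination hz2
    obtain ⟨t, ht⟩ := h H hnc hz
    simp only [DihedralGroup.r.injEq, reduceCtorEq, or_false] at ht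
    have h5 : ((2 ^ k : ℕ) : ℤ) ∣ ((n / 2 : ℕ) : ℤ) := by
      have h6 : (n : ℤ) ∣ ((n / 2 : ℕ) : ℤ) - (2 ^ k : ℕ) * (t.val : ℤ) := by
        rw [← ZMod.intCast_zmod_eq_zero_iff_dvd]
        simp only [Int.cast_sub, Int.cast_mul, Int.cast_natCast]
        rw [ZMod.natCast_zmod_val, ht, ha]
        ring
      have h7 : ((2 ^ k : ℕ) : ℤ) ∣ (n : ℤ) := Int.natCast_dvd_natCast.2 (hnm ▸ dvd_mul_right _ _)
      have h8 := (h7.trans h6).add (dvd_mul_right ((2 ^ k : ℕ) : ℤ) (t.val : ℤ))
      simpa using h8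
    obtain ⟨j, hj⟩ := Int.natCast_dvd_natCast.1 h5
    have h9 : 2 ^ k * (2 * j) = 2 ^ k * m := by
      rw [← hnm, ← mul_assoc, mul_comm _ 2, mul_assoc, ← hj, hn2]
    have h10 := Nat.eq_of_mul_eq_mul_left (pow_pos two_pos k) h9
    exact (Nat.not_even_iff_odd.2 hm) ⟨j, by omega⟩
  · intro hn' H hH c hc
    obtain ⟨j, hj⟩ : ∃ j, sr j ∈ H := by
      by_contra hno
      exact hH (rot_isCyclic H fun x hx => by
        cases x with
        | r i => exact ⟨i, rfl⟩
        | sr i => exact absurd ⟨i, hx⟩ hno)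
    obtain ⟨i, hi, hi0⟩ : ∃ i, r i ∈ H ∧ i ≠ 0 := by
      by_contra hno
      push Not at hno
      refine hH ⟨⟨⟨sr j, hj⟩, ?_⟩⟩
      rintro ⟨x, hx⟩
      cases x with
      | r i =>
        obtain rfl := hno i hx
        exact ⟨0, Subtype.ext (by rw [SubgroupClass.coe_zpow, zpow_zero]; exact r_zero.symm)⟩
      | sr i =>
        have := hno (i - j) (by simpa using H.mul_mem hj hx)
        obtain rfl := sub_eq_zero.1 this
        exact ⟨1, by simp⟩
    have hci := hc (r i) hi
    have hcj := hc (sr j) hj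
    cases c with
    | r l =>
      by_cases hl0 : l = 0
      · subst hl0; exact H.one_mem
      have hl : l + l = 0 := by
        simp only [r_mul_sr, sr_mul_r, DihedralGroup.sr.injEq] at hcj
        linear_combination hcj
      have hn2 := eq_half hl hl0
      rcases hn' with ho | ⟨k, hk⟩
      · exact absurd ⟨l.val, by omega⟩ (Nat.not_even_iff_odd.2 ho)
      · -- some multiple of i is n/2
        obtain ⟨d, e, he, hde⟩ := Nat.exists_eq_two_pow_mul_odd
          (fun h => hi0 ((ZMod.val_eq_zero i).1 h) : i.val ≠ 0)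
        have hdk : d < k := by
          have h1 : 2 ^ d ≤ i.val := hde ▸ Nat.le_mul_of_pos_right _ he.pos
          have h2 := ZMod.val_lt i
          have h3 : 2 ^ d < 2 ^ k := by omega
          exact (Nat.pow_lt_pow_iff_right (by norm_num)).1 h3
        have hm : (r i) ^ (2 ^ (k - 1 - d)) = r l := by
          rw [DihedralGroup.r_pow]
          refine congrArg r ?_
          have hl2 : l.val = 2 ^ (k - 1) := by
            have : 2 ^ k = 2 * 2 ^ (k - 1) := by rw [← pow_succ', Nat.sub_add_cancel (by omega)]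
            omega
          obtain ⟨e', rfl⟩ := he
          rw [← ZMod.natCast_zmod_val i, hde, ← ZMod.natCast_zmod_val l, hl2, ← Nat.cast_mul]
          have h4 : 2 ^ d * (2 * e' + 1) * 2 ^ (k - 1 - d) = n * e' + 2 ^ (k - 1) := by
            rw [hk, mul_right_comm, ← pow_add, show d + (k - 1 - d) = k - 1 by omega, mul_add, mul_one,
              ← mul_assoc, ← pow_succ, Nat.sub_add_cancel (by omega : 1 ≤ k)]
          rw [h4]
          simp
        exact hm ▸ H.pow_mem hi _
    | sr l =>
      have hi2 : i + i = 0 := by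
        simp only [r_mul_sr, sr_mul_r, DihedralGroup.sr.injEq] at hci
        linear_combination (-1 : ZMod n) * hci
      by_cases hlj : l = j
      · subst hlj; exact hj
      have hd : (l - j) + (l - j) = 0 := by
        simp only [sr_mul_sr, DihedralGroup.r.injEq] at hcj
        linear_combination hcj
      have heq : i = l - j := half_unique hi2 hi0 hd (sub_ne_zero.2 hlj)
      have := H.mul_mem hj hi
      rw [sr_mul_r, heq, add_sub_cancel] at this
      exact this

end Cfsg.Agent.S3920
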