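import Cfsg.Statements.S0562
import Cfsg.Agent.EqLemmas

set_option autoImplicit false
open Cfsg

namespace Cfsg.Agent.S0562

/-- Let the finite group G be the product HK of subgroups, A normal in H, B normal in K, and L the normalizer of the subgroup generated by A and B. Then every element of L is a product of an element of L ∩ H and an element of L ∩ K. -/
theorem result {G : Type*} [Group G] [Finite G] (H K A B : Subgroup G) (hHK : ∀ g : G, ∃ h ∈ H, ∃ k ∈ K, g = h * k) (hA : A ≤ H) (hAn : (A.subgroupOf H).Normal) (hB : B ≤ K) (hBn : (B.subgroupOf K).Normal) : ∀ g ∈ Subgroup.normalizer ((A ⊔ B : Subgroup G) : Set G), ∃ h ∈ Subgroup.normalizer ((A ⊔ B : Subgroup G) : Set G) ⊓ H, ∃ k ∈ Subgroup.normalizer ((A ⊔ B : Subgroup G) : Set G) ⊓ K, g = h * k := by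
  intro g hg
  obtain ⟨h, hh, k, hk, rfl⟩ := hHK g
  have key : ∀ j ∈ A ⊔ B, k⁻¹ * j * k ∈ A ⊔ B := by
    have : A ⊔ B ≤ (A ⊔ B).comap (MulAut.conj k⁻¹).toMonoidHom := by
      refine sup_le (fun a ha => ?_) (fun b hb => ?_)
      · have h1 : h * a * h⁻¹ ∈ A := by
          have := hAn.conj_mem ⟨a, hA ha⟩ (by simpa [Subgroup.mem_subgroupOf] using ha) ⟨h, hh⟩
          simpa [Subgroup.mem_subgroupOf] using this
        have h2 : (h * k)⁻¹ * (h * a * h⁻¹) * (h * k) ∈ A ⊔ B :=
          (Subgroup.mem_normalizer_iff''.1 hg _).1 (Subgroup.mem_sup_left h1)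
        simpa [Subgroup.mem_comap, mul_assoc] using h2
      · have h1 : k⁻¹ * b * k ∈ B := by
          have := hBn.conj_mem ⟨b, hB hb⟩ (by simpa [Subgroup.mem_subgroupOf] using hb)
            ⟨k⁻¹, K.inv_mem hk⟩
          simpa [Subgroup.mem_subgroupOf, mul_assoc] using this
        have h3 : k⁻¹ * b * k ∈ A ⊔ B := Subgroup.mem_sup_right h1
        simpa [Subgroup.mem_comap, mul_assoc] using h3
    intro j hj
    simpa [Subgroup.mem_comap, mul_assoc] using this hj
  have hkN : k ∈ Subgroup.normalizer ((A ⊔ B : Subgroup G) : Set G) := by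
    have heq : (A ⊔ B).map (MulAut.conj k⁻¹).toMonoidHom = A ⊔ B := by
      refine Subgroup.eq_of_le_of_card_ge ?_ ?_
      · rintro _ ⟨j, hj, rfl⟩
        simpa [mul_assoc] using key j hj
      · exact (Subgroup.card_map_of_injective (MulAut.conj k⁻¹).injective).ge
    rw [Subgroup.mem_normalizer_iff'']
    intro j
    constructor
    · exact key j
    · intro hj
      rw [← heq] at hj
      obtain ⟨i, hi, hij⟩ := hj
      have : i = j := by simpa [mul_assoc] using hij
      exact this ▸ hi
  have hhN : h ∈ Subgroup.normalizer ((A ⊔ B : Subgroup G) : Set G) := by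
    have := Subgroup.mul_mem _ hg (Subgroup.inv_mem _ hkN)
    rwa [mul_inv_cancel_right] at this
  exact ⟨h, ⟨hhN, hh⟩, k, ⟨hkN, hk⟩, rfl⟩

end Cfsg.Agent.S0562
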