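import Cfsg.Statements.S1475
import Cfsg.Agent.Lib.FpfAction.Basic
import Cfsg.Agent.Lib.Solvable.Basic
import Cfsg.Agent.Lib.Cores.Basic

set_option autoImplicit false
open Cfsg

namespace Cfsg.Agent.S1475

theorem no_commute {G : Type*} [Group G] [Finite G]
    (h : ∀ g : G, IsPrimePow (orderOf g) ∨ g = 1) {p q : ℕ} (hp : p.Prime) (hq : q.Prime)
    (hne : p ≠ q) {a b : G} {i j : ℕ} (ha : orderOf a = p ^ i) (hb : orderOf b = q ^ j)
    (hc : Commute a b) : a = 1 ∨ b = 1 := by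
  by_contra hh
  push Not at hh
  have hi : i ≠ 0 := by rintro rfl; exact hh.1 (orderOf_eq_one_iff.1 (by simpa using ha))
  have hj : j ≠ 0 := by rintro rfl; exact hh.2 (orderOf_eq_one_iff.1 (by simpa using hb))
  have hcop : (orderOf a).Coprime (orderOf b) :=
    ha ▸ hb ▸ Nat.Coprime.pow _ _ ((Nat.coprime_primes hp hq).2 hne)
  have hord := hc.orderOf_mul_eq_mul_orderOf_of_coprime hcop
  rcases h (a * b) with hpp | h1
  · rw [hord, ha, hb] at hpp
    obtain ⟨r, hr, huniq⟩ := isPrimePow_iff_unique_prime_dvd.1 hpp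
    exact hne ((huniq p ⟨hp, (dvd_pow_self p hi).mul_right _⟩).trans
      (huniq q ⟨hq, (dvd_pow_self q hj).mul_left _⟩).symm)
  · rw [h1, orderOf_one, eq_comm, mul_eq_one, orderOf_eq_one_iff] at hord
    exact hh.1 hord.1

theorem inf_centralizer_eq_bot {G : Type*} [Group G] [Finite G]
    (h : ∀ g : G, IsPrimePow (orderOf g) ∨ g = 1) {p q : ℕ} [hp : Fact p.Prime] [hq : Fact q.Prime]
    (hne : p ≠ q) {V : Subgroup G} (hV : IsPGroup p V) {a : G} {j : ℕ} (ha : orderOf a = q ^ j)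
    (ha1 : a ≠ 1) : V ⊓ Subgroup.centralizer ({a} : Set G) = ⊥ := by
  rw [eq_bot_iff]
  rintro v ⟨hv, hva⟩
  obtain ⟨i, hi⟩ := IsPGroup.iff_orderOf.1 hV ⟨v, hv⟩
  rw [Subgroup.orderOf_mk] at hi
  rcases no_commute h hp.out hq.out hne hi ha
    (Subgroup.mem_centralizer_singleton_iff.1 hva) with h1 | h1
  · exact Subgroup.mem_bot.2 h1
  · exact absurd h1 ha1

/-- Let G be a finite solvable group such that the order of every element is a prime power (1 included). Then at most two distinct primes divide the order of G. -/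
theorem result {G : Type*} [Group G] [Finite G] [Group.IsSolvable G] (h : ∀ g : G, IsPrimePow (orderOf g) ∨ g = 1) :
    (Nat.card G).primeFactors.card ≤ 2 := by
  by_contra hgt
  push Not at hgt
  have : Nontrivial G := by
    by_contra hn
    rw [not_nontrivial_iff_subsingleton] at hn
    rw [Nat.card_eq_one_iff_unique.2 ⟨hn, ⟨1⟩⟩] at hgt
    simp at hgt
  obtain ⟨p, hp, M₀, hM₀n, hM₀1, hM₀p⟩ := Solvable.exists_normal_pGroup_ne_bot G
  haveI : Fact p.Prime := ⟨hp⟩
  set N := pCore p G with hN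
  have hNp : IsPGroup p N := Cores.isPGroup_pCore p G
  have hN1 : N ≠ ⊥ := fun h0 => hM₀1 (le_bot_iff.1 (h0 ▸ Cores.le_pCore hM₀n hM₀p))
  obtain ⟨n, hn⟩ := IsPGroup.iff_card.1 hNp
  -- the quotient
  obtain ⟨s, hs, hsp⟩ := Finset.exists_mem_ne (s := (Nat.card G).primeFactors) (by omega) p
  have hsG := Nat.dvd_of_mem_primeFactors hs
  have hs' := Nat.prime_of_mem_primeFactors hs
  have hpN : ∀ t : ℕ, t.Prime → t ≠ p → ¬ t ∣ Nat.card N := fun t ht htp hd => by
    rw [hn] at hd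
    exact htp ((Nat.prime_dvd_prime_iff_eq ht hp).1 (ht.dvd_of_dvd_pow hd))
  have hNT : N ≠ ⊤ := fun h0 => hpN s hs' hsp (by rw [h0, Subgroup.card_top]; exact hsG)
  haveI : Nontrivial (G ⧸ N) := QuotientGroup.nontrivial_iff.2 hNT
  obtain ⟨q, hq, Mb, hMbn, hMb1, hMbq⟩ := Solvable.exists_normal_pGroup_ne_bot (G ⧸ N)
  haveI : Fact q.Prime := ⟨hq⟩
  have hqp : q ≠ p := by
    rintro rfl
    exact hMb1 (Cores.pCore_eq_bot_iff.1 (Cores.pCore_quotient_self q G) Mb hMbn hMbq)
  set M := Mb.comap (QuotientGroup.mk' N) with hM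
  have hNM : N ≤ M := QuotientGroup.le_comap_mk' N Mb
  obtain ⟨m, hm⟩ := IsPGroup.iff_card.1 hMbq
  have hMcard : Nat.card M = q ^ m * p ^ n := by
    rw [← hm, ← hn]
    have := Solvable.card_eq_card_map_mul (QuotientGroup.mk' N) M
    rwa [hM, Subgroup.map_comap_eq_self_of_surjective (QuotientGroup.mk'_surjective N),
      QuotientGroup.ker_mk', inf_of_le_right hNM] at this
  obtain ⟨P⟩ : Nonempty (Sylow q M) := inferInstance
  set Q := (P : Subgroup M).map M.subtype with hQ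
  have hQq : IsPGroup q Q := P.isPGroup'.map _
  obtain ⟨m', hm'⟩ := IsPGroup.iff_card.1 hQq
  have hm0 : m ≠ 0 := by
    rintro rfl
    exact hMb1 (Subgroup.eq_bot_of_card_eq _ (by simpa using hm))
  have hQ1 : Q ≠ ⊥ := by
    intro h0
    rw [hQ, Subgroup.map_eq_bot_iff_of_injective _ M.subtype_injective] at h0
    have hd : q ∣ Nat.card M := hMcard ▸ (dvd_pow_self q hm0).mul_right _
    have h2 := P.card_eq_multiplicity
    rw [h0, Subgroup.card_bot] at h2
    have h3 : 1 ≤ (Nat.card M).factorization q :=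
      (hq.dvd_iff_one_le_factorization Nat.card_pos.ne').1 hd
    exact absurd h2.symm (Nat.one_lt_pow (by omega) hq.one_lt).ne'
  -- a third prime
  obtain ⟨r, hr, hrp, hrq⟩ : ∃ r ∈ (Nat.card G).primeFactors, r ≠ p ∧ r ≠ q := by
    by_contra hh
    push Not at hh
    have hsub : (Nat.card G).primeFactors ⊆ {p, q} := fun t ht => by
      by_cases htp : t = p
      · simp [htp]
      · simp [hh t ht htp]
    exact absurd (Finset.card_le_card hsub) (by rw [Finset.card_pair hqp.symm]; omega)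
  have hrG := Nat.dvd_of_mem_primeFactors hr
  haveI : Fact r.Prime := ⟨Nat.prime_of_mem_primeFactors hr⟩
  have hfr : Subgroup.normalizer (Q : Set G) ⊔ M = ⊤ := Sylow.normalizer_sup_eq_top P
  have hdvd : Nat.card G ∣ Nat.card (Subgroup.normalizer (Q : Set G)) * Nat.card M := by
    have := Solvable.card_sup_dvd (Subgroup.normalizer (Q : Set G)) M
    rwa [hfr, Subgroup.card_top] at this
  have hrN : r ∣ Nat.card (Subgroup.normalizer (Q : Set G)) := by
    refine (((Fact.out : r.Prime).dvd_mul.1 (hrG.trans hdvd))).resolve_right fun hd => ?_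
    rw [hMcard] at hd
    rcases (Fact.out : r.Prime).dvd_mul.1 hd with h' | h'
    · exact hrq ((Nat.prime_dvd_prime_iff_eq Fact.out hq).1 ((Fact.out : r.Prime).dvd_of_dvd_pow h'))
    · exact hrp ((Nat.prime_dvd_prime_iff_eq Fact.out hp).1 ((Fact.out : r.Prime).dvd_of_dvd_pow h'))
  obtain ⟨x, hx⟩ := exists_prime_orderOf_dvd_card' r hrN
  set X := Subgroup.zpowers (x : G) with hX
  have hXr : IsPGroup r X := IsPGroup.of_card (n := 1) (by
    rw [hX, Nat.card_zpowers, Subgroup.orderOf_coe, hx, pow_one])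
  -- the abelian normal subgroup
  haveI : Nontrivial N := (Subgroup.nontrivial_iff_ne_bot N).2 hN1
  set V := (Subgroup.center N).map N.subtype with hV
  haveI : IsMulCommutative V := Subgroup.map_isMulCommutative _ _
  have hVn : V.Normal := Cores.map_subtype_normal_of_characteristic N _
  have hV1 : V ≠ ⊥ := by
    haveI := hNp.center_nontrivial
    intro h0
    rw [hV, Subgroup.map_eq_bot_iff_of_injective _ N.subtype_injective] at h0
    exact (Subgroup.nontrivial_iff_ne_bot _).1 inferInstance h0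
  have hVp : IsPGroup p V := hNp.to_le (Subgroup.map_subtype_le _)
  have hfix : ∀ (t : ℕ) [Fact t.Prime], t ≠ p → ∀ A : Subgroup G, IsPGroup t A → A ≠ ⊥ →
      V ⊓ Subgroup.centralizer (A : Set G) = ⊥ := by
    intro t _ htp A hA hA1
    obtain ⟨a, ha, ha1⟩ := A.bot_or_exists_ne_one.resolve_left hA1
    obtain ⟨j, hj⟩ := IsPGroup.iff_orderOf.1 hA ⟨a, ha⟩
    rw [Subgroup.orderOf_mk] at hj
    rw [eq_bot_iff, ← inf_centralizer_eq_bot h htp.symm hVp hj ha1]
    exact inf_le_inf_left _ (Subgroup.centralizer_le (Set.singleton_subset_iff.2 ha))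
  have hVnorm : ∀ A : Subgroup G, A ≤ Subgroup.normalizer (V : Set G) := fun A => by
    haveI := hVn
    rw [Subgroup.normalizer_eq_top]; exact le_top
  have hfree : ∀ y ∈ X, y ≠ 1 → Q ⊓ Subgroup.centralizer ({y} : Set G) = ⊥ := by
    intro y hy hy1
    obtain ⟨j, hj⟩ := IsPGroup.iff_orderOf.1 hXr ⟨y, hy⟩
    rw [Subgroup.orderOf_mk] at hj
    exact inf_centralizer_eq_bot h hrq.symm hQq hj hy1
  have hXne : X ≠ ⊥ := by
    rw [hX, Ne, Subgroup.zpowers_eq_bot]
    intro h1
    rw [OneMemClass.coe_eq_one] at h1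
    rw [h1, orderOf_one] at hx
    exact (Fact.out : r.Prime).ne_one hx.symm
  obtain ⟨v, hv, hv1⟩ := V.bot_or_exists_ne_one.resolve_left hV1
  have hpow := FpfAction.pow_card_eq_one (V := V) (Subgroup.zpowers_le.2 x.2 : X ≤ _)
    (hVnorm Q) (hVnorm X) hfree (hfix q hqp Q hQq hQ1) (hfix r hrp X hXr hXne) ⟨v, hv⟩
  obtain ⟨i, hi⟩ := IsPGroup.iff_orderOf.1 hVp ⟨v, hv⟩
  have hd := orderOf_dvd_of_pow_eq_one hpow
  rw [hi, hm'] at hd
  have h1 : p ^ i = 1 :=
    Nat.eq_one_of_dvd_coprimes (Nat.Coprime.pow _ _ ((Nat.coprime_primes hp hq).2 hqp.symm))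
      dvd_rfl hd
  rw [← hi, orderOf_eq_one_iff] at h1
  exact hv1 (congrArg Subtype.val h1)

end Cfsg.Agent.S1475
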