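import Cfsg.Statements.S0739
import Cfsg.Agent.Lib.Zassenhaus.Basic
import Cfsg.Agent.Lib.Frobenius.Structure

set_option autoImplicit false
open Cfsg

namespace Cfsg.Agent.S0739

open MulAction in
theorem isFrobeniusComplement_pair {G Ω : Type*} [Group G] [Finite G] [MulAction G Ω] [Finite Ω]
    (hZ : Cfsg.IsZassenhausGroup G Ω) {a b : Ω} (hab : a ≠ b) :
    Cfsg.IsFrobeniusComplement
      ((stabilizer G a ⊓ stabilizer G b).subgroupOf (stabilizer G a)) := by
  have hn := Zassenhaus.three_le_card hZ
  refine ⟨?_, ?_, ?_⟩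
  · intro h
    obtain ⟨x, hx1, hxa, hxb⟩ := Zassenhaus.exists_fix_pair hZ hab
    have : (⟨x, hxa⟩ : stabilizer G a) ∈ (stabilizer G a ⊓ stabilizer G b).subgroupOf (stabilizer G a) :=
      ⟨hxa, hxb⟩
    rw [h, Subgroup.mem_bot] at this
    exact hx1 (congrArg Subtype.val this)
  · intro h
    have := Zassenhaus.relIndex_pair_stab hZ hab
    rw [Subgroup.relIndex, h, Subgroup.index_top] at this
    omega
  · intro g hg
    rw [Subgroup.eq_bot_iff_forall]
    rintro x ⟨hx, hx'⟩
    by_contra hx1
    apply hg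
    rw [Subgroup.mem_subgroupOf]
    refine ⟨g.2, ?_⟩
    obtain ⟨y, hy, rfl⟩ := hx'
    have hne : ((MulAut.conj g y : stabilizer G a) : G) ≠ 1 := fun e => hx1 (Subtype.ext e)
    have hfix : ((MulAut.conj g y : stabilizer G a) : G) • ((g : G) • b) = (g : G) • b := by
      simp only [MulAut.conj_apply, Subgroup.coe_mul, Subgroup.coe_inv, mul_smul, inv_smul_smul]
      rw [show (y : G) • b = b from hy.2]
    rcases Zassenhaus.eq_left_or_eq_right hZ hne hab hx.1 hx.2 hfix with h | h
    · exact absurd (smul_left_cancel (g : G) (h.trans (show (g : G) • a = a from g.2).symm)) hab.symm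
    · exact h

theorem cyclic_inv_or_id {P : Type*} [Group P] [IsCyclic P] [Finite P] {q k : ℕ} (hq : q.Prime) (hq2 : q ≠ 2)
    (hP : Nat.card P = q ^ k) (σ : P →* P) (hσ : ∀ x, σ (σ x) = x) :
    (∀ x, σ x = x) ∨ ∀ x, σ x = x⁻¹ := by
  obtain ⟨g, hg⟩ := IsCyclic.exists_generator (α := P)
  obtain ⟨i, hi⟩ := Subgroup.mem_zpowers_iff.1 (hg (σ g))
  have hgo : orderOf g = q ^ k := hP ▸ orderOf_eq_card_of_forall_mem_zpowers hg
  have hii : ((q ^ k : ℕ) : ℤ) ∣ i * i - 1 := by
    rw [← hgo, orderOf_dvd_iff_zpow_eq_one, zpow_sub, zpow_mul, hi, ← map_zpow, hi, hσ, zpow_one,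
      mul_inv_cancel]
  have hcases : ((q ^ k : ℕ) : ℤ) ∣ i - 1 ∨ ((q ^ k : ℕ) : ℤ) ∣ i + 1 := by
    rw [show i * i - 1 = (i - 1) * (i + 1) by ring] at hii
    push_cast at hii ⊢
    by_cases h : (q : ℤ) ∣ i - 1
    · refine Or.inl ((Prime.pow_dvd_of_dvd_mul_right (Nat.prime_iff_prime_int.1 hq) k ?_ hii))
      intro h'
      have h2 : (q : ℤ) ∣ ((2 : ℕ) : ℤ) := by
        have := dvd_sub h' h
        simpa using this
      exact hq2 ((Nat.prime_dvd_prime_iff_eq hq Nat.prime_two).1 (Int.natCast_dvd_natCast.1 h2))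
    · exact Or.inr ((Prime.pow_dvd_of_dvd_mul_left (Nat.prime_iff_prime_int.1 hq) k h hii))
  rw [← hgo] at hcases
  rcases hcases with h | h
  · left
    intro x
    obtain ⟨j, rfl⟩ := Subgroup.mem_zpowers_iff.1 (hg x)
    have hg' : σ g = g := by
      rw [← hi, ← mul_inv_eq_one, ← zpow_sub_one, ← orderOf_dvd_iff_zpow_eq_one]; exact h
    rw [map_zpow, hg']
  · right
    intro x
    obtain ⟨j, rfl⟩ := Subgroup.mem_zpowers_iff.1 (hg x)
    have hg' : σ g = g⁻¹ := by
      rw [← hi, eq_inv_iff_mul_eq_one, ← zpow_add_one, ← orderOf_dvd_iff_zpow_eq_one]; exact h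
    rw [map_zpow, hg', inv_zpow]


/-- In a finite Zassenhaus group whose two-point stabiliser `H = G_{a,b}` has odd order `d`, and which has no normal `q`-complement for any prime `q ∣ d`, `H` is cyclic, `C_G(H) = H`, and every element swapping `a` and `b` inverts each element of `H`. -/
theorem result {G Ω : Type*} [Group G] [Finite G] [MulAction G Ω] [Fintype Ω] (hZ : Cfsg.IsZassenhausGroup G Ω) {a b : Ω} (hab : a ≠ b) (hodd : Odd (Nat.card ↥(MulAction.stabilizer G a ⊓ MulAction.stabilizer G b))) (hnil : ∀ q : ℕ, q.Prime → q ∣ Nat.card ↥(MulAction.stabilizer G a ⊓ MulAction.stabilizer G b) → ¬ ∃ N : Subgroup G, N.Normal ∧ N.index = q ^ (Nat.card G).factorization q) : IsCyclic ↥(MulAction.stabilizer G a ⊓ MulAction.stabilizer G b) ∧ Subgroup.centralizer ((MulAction.stabilizer G a ⊓ MulAction.stabilizer G b : Subgroup G) : Set G) = MulAction.stabilizer G a ⊓ MulAction.stabilizer G b ∧ ∀ s : G, s • a = b → s • b = a → ∀ h ∈ MulAction.stabilizer G a ⊓ MulAction.stabilizer G b, s * h * s⁻¹ = h⁻¹ := by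
  classical
  set H := MulAction.stabilizer G a ⊓ MulAction.stabilizer G b with hH
  obtain ⟨x₀, hx₀, hx₀a, hx₀b⟩ := Zassenhaus.exists_fix_pair hZ hab
  have hn := Zassenhaus.three_le_card hZ
  have hsmall : Frobenius.SmallCyclic H :=
    (Frobenius.smallCyclic_complement (isFrobeniusComplement_pair hZ hab)).of_injective
      (f := (Subgroup.subgroupOfEquivOfLe (inf_le_left : H ≤ MulAction.stabilizer G a)).symm.toMonoidHom)
      (Subgroup.subgroupOfEquivOfLe (inf_le_left : H ≤ MulAction.stabilizer G a)).symm.injective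
  haveI : IsZGroup H := hsmall.isZGroup_of_odd (Nat.not_even_iff_odd.2 hodd |> fun h h' => h (even_iff_two_dvd.2 h'))
  have hswap : ∀ g : G, g • a = b → g • b = a → ∀ x ∈ H, g * x * g⁻¹ ∈ H := by
    intro g h1 h2 x hx
    have hxa : x • a = a := hx.1
    have hxb : x • b = b := hx.2
    refine ⟨?_, ?_⟩
    · show (g * x * g⁻¹) • a = a
      rw [mul_smul, mul_smul, inv_smul_eq_iff.2 h2.symm, hxb, h2]
    · show (g * x * g⁻¹) • b = b
      rw [mul_smul, mul_smul, inv_smul_eq_iff.2 h1.symm, hxa, h1]
  have hpair : ∀ g x : G, x ∈ H → x ≠ 1 → g * x * g⁻¹ ∈ H → g ∈ H ∨ (g • a = b ∧ g • b = a) := by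
    intro g x hx hx1 hgx
    have h1 : g * x * g⁻¹ ≠ 1 := fun h => hx1 (by simpa [mul_inv_eq_one] using h)
    have ha := Zassenhaus.eq_left_or_eq_right hZ h1 hab hgx.1 hgx.2 (c := g • a)
      (by rw [mul_smul, mul_smul, inv_smul_smul, show x • a = a from hx.1])
    have hb := Zassenhaus.eq_left_or_eq_right hZ h1 hab hgx.1 hgx.2 (c := g • b)
      (by rw [mul_smul, mul_smul, inv_smul_smul, show x • b = b from hx.2])
    have hne : g • a ≠ g • b := fun h => hab (smul_left_cancel g h)
    rcases ha with ha | ha <;> rcases hb with hb | hb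
    · exact absurd (ha.trans hb.symm) hne
    · exact Or.inl ⟨ha, hb⟩
    · exact Or.inr ⟨ha, hb⟩
    · exact absurd (ha.trans hb.symm) hne
  have hcop : ∀ q : ℕ, q.Prime → q ∣ Nat.card H →
      q ≠ 2 ∧ (Nat.card G).factorization q = (Nat.card H).factorization q := by
    intro q hq hqd
    have hq2 : q ≠ 2 := by
      rintro rfl
      exact Nat.not_even_iff_odd.2 hodd (even_iff_two_dvd.2 hqd)
    have hd2 := hqd.trans (Zassenhaus.card_pair_dvd_sub_two hZ hab)
    have h1 : ¬ q ∣ Nat.card Ω := by
      intro h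
      have := Nat.dvd_sub h hd2
      rw [show Nat.card Ω - (Nat.card Ω - 2) = 2 by omega] at this
      exact hq2 ((Nat.prime_dvd_prime_iff_eq hq Nat.prime_two).1 this)
    have h2 : ¬ q ∣ Nat.card Ω - 1 := by
      intro h
      have := Nat.dvd_sub h hd2
      rw [show Nat.card Ω - 1 - (Nat.card Ω - 2) = 1 by omega] at this
      exact hq.not_dvd_one this
    refine ⟨hq2, ?_⟩
    rw [Zassenhaus.card_eq hZ hab, Nat.factorization_mul (by omega) (Nat.mul_ne_zero (by omega) Nat.card_pos.ne'),
      Nat.factorization_mul (by omega) Nat.card_pos.ne', Finsupp.add_apply, Finsupp.add_apply,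
      Nat.factorization_eq_zero_of_not_dvd h1, Nat.factorization_eq_zero_of_not_dvd h2, zero_add, zero_add]
  have main : ∀ s : G, s • a = b → s • b = a → (∀ x ∈ H, s * x * s⁻¹ = x⁻¹) ∧
      ∀ x y : H, x * y = y * x := by
    intro s hsa hsb
    let c : H →* H :=
      { toFun := fun x => ⟨s * x * s⁻¹, hswap s hsa hsb x x.2⟩
        map_one' := Subtype.ext (by simp)
        map_mul' := fun x y => Subtype.ext (by simp [mul_assoc]) }
    let ψ : H →* Abelianization H := (Abelianization.of.comp c) * Abelianization.of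
    have hψ : ∀ x : H, ψ x = Abelianization.of (c x * x) := fun x => by simp [ψ]
    have hker : ∀ q : ℕ, q.Prime → q ∣ Nat.card H →
        q ^ (Nat.card H).factorization q ∣ Nat.card ψ.ker := by
      intro q hq hqd
      haveI := Fact.mk hq
      obtain ⟨hq2, hfac⟩ := hcop q hq hqd
      obtain ⟨Q⟩ : Nonempty (Sylow q H) := inferInstance
      rw [← Q.card_eq_multiplicity]
      refine Subgroup.card_dvd_of_le ?_
      have hcom : commutator H ≤ ψ.ker := fun x hx => by
        rw [MonoidHom.mem_ker]
        have := Abelianization.commutator_subset_ker ψ hx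
        exact this
      by_cases hqK : q ∣ Nat.card (commutator H)
      · refine le_trans ?_ hcom
        have hidx : ¬ q ∣ (commutator H).index := fun h =>
          hq.one_lt.ne' (Nat.eq_one_of_dvd_coprimes (IsZGroup.coprime_commutator_index H) hqK h)
        intro x hx
        rw [← QuotientGroup.eq_one_iff, ← orderOf_eq_one_iff]
        obtain ⟨i, hi⟩ := Q.2 ⟨x, hx⟩
        have d1 : orderOf (QuotientGroup.mk' (commutator H) x) ∣ q ^ i :=
          orderOf_dvd_of_pow_eq_one (by rw [← map_pow, show x ^ q ^ i = 1 from congrArg Subtype.val hi, map_one])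
        have d2 : orderOf (QuotientGroup.mk' (commutator H) x) ∣ (commutator H).index := orderOf_dvd_natCard _
        exact Nat.eq_one_of_dvd_coprimes (((hq.coprime_iff_not_dvd).2 hidx).pow_left i) d1 d2
      -- a swapping element normalising Q
      let e : H ≃* H :=
        { toFun := fun x => ⟨s * x * s⁻¹, hswap s hsa hsb x x.2⟩
          invFun := fun x => ⟨s⁻¹ * x * s, by
            have := hswap s⁻¹ (inv_smul_eq_iff.2 hsb.symm) (inv_smul_eq_iff.2 hsa.symm) x x.2
            rwa [inv_inv] at this⟩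
          left_inv := fun x => Subtype.ext (by simp [mul_assoc])
          right_inv := fun x => Subtype.ext (by simp [mul_assoc])
          map_mul' := fun x y => Subtype.ext (by simp [mul_assoc]) }
      let Q' : Subgroup H := (Q : Subgroup H).map e.toMonoidHom
      have hQ'card : Nat.card Q' = q ^ (Nat.card H).factorization q := by
        rw [← Q.card_eq_multiplicity]
        exact Nat.card_congr ((Q : Subgroup H).equivMapOfInjective _ e.injective).toEquiv.symm
      obtain ⟨h, hh⟩ := MulAction.exists_smul_eq H (Sylow.ofCard Q' hQ'card) Q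
      let s' : G := (h : G) * s
      have hs'a : s' • a = b := by
        rw [show s' = (h : G) * s from rfl, mul_smul, hsa]; exact h.2.2
      have hs'b : s' • b = a := by
        rw [show s' = (h : G) * s from rfl, mul_smul, hsb]; exact h.2.1
      have hs'Q : ∀ x ∈ (Q : Subgroup H), ∀ hx : s' * (x : G) * s'⁻¹ ∈ H,
          (⟨s' * (x : G) * s'⁻¹, hx⟩ : H) ∈ (Q : Subgroup H) := by
        intro x hx hmem
        rw [← hh]
        change _ ∈ Q'.map (MulAut.conj h).toMonoidHom
        refine ⟨e x, ⟨x, hx, rfl⟩, Subtype.ext ?_⟩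
        simp [e, s', MulAut.conj_apply, mul_assoc]
      let σ : (Q : Subgroup H) →* (Q : Subgroup H) :=
        { toFun := fun x => ⟨⟨s' * (x.1 : G) * s'⁻¹, hswap s' hs'a hs'b _ x.1.2⟩, hs'Q _ x.2 _⟩
          map_one' := Subtype.ext (Subtype.ext (by simp))
          map_mul' := fun x y => Subtype.ext (Subtype.ext (by simp [mul_assoc])) }
      have hcomm : ∀ g : H, (∀ x ∈ (Q : Subgroup H), g * x * g⁻¹ ∈ (Q : Subgroup H)) →
          ∀ x ∈ (Q : Subgroup H), g * x * g⁻¹ = x := by
        intro g hg x hx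
        have h1 : g * x * g⁻¹ * x⁻¹ ∈ commutator H := by
          rw [commutator_def, ← commutatorElement_def]
          exact Subgroup.commutator_mem_commutator (Subgroup.mem_top _) (Subgroup.mem_top _)
        have h2 : g * x * g⁻¹ * x⁻¹ ∈ (Q : Subgroup H) := mul_mem (hg x hx) (inv_mem hx)
        have h3 : orderOf (g * x * g⁻¹ * x⁻¹) = 1 :=
          Nat.eq_one_of_dvd_coprimes
            (((hq.coprime_iff_not_dvd).2 hqK).pow_left ((Nat.card H).factorization q))
            (Q.card_eq_multiplicity ▸ Subgroup.orderOf_dvd_natCard _ h2)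
            (Subgroup.orderOf_dvd_natCard _ h1)
        exact mul_inv_eq_one.1 (orderOf_eq_one_iff.1 h3)
      have hs2 : s' * s' ∈ H := ⟨show (s' * s') • a = a by rw [mul_smul, hs'a, hs'b],
        show (s' * s') • b = b by rw [mul_smul, hs'b, hs'a]⟩
      have hσσ : ∀ x, σ (σ x) = x := by
        intro x
        refine Subtype.ext ?_
        rw [← hcomm ⟨s' * s', hs2⟩ (fun y hy => by
          have e1 := (σ (σ ⟨y, hy⟩)).2
          convert e1 using 1
          exact Subtype.ext (by simp [σ, mul_assoc])) x.1 x.2]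
        exact Subtype.ext (by simp [σ, mul_assoc])
      have hQk : Nat.card (Q : Subgroup H) = q ^ (Nat.card H).factorization q := Q.card_eq_multiplicity
      haveI : IsCyclic (Q : Subgroup H) := IsPGroup.isCyclic_of_isZGroup Q.2
      rcases cyclic_inv_or_id hq hq2 hQk σ hσσ with hid | hinv
      · exfalso
        let QG : Subgroup G := (Q : Subgroup H).map H.subtype
        have hQGcard : Nat.card QG = q ^ (Nat.card G).factorization q := by
          rw [hfac, ← hQk]
          exact Nat.card_congr ((Q : Subgroup H).equivMapOfInjective _ H.subtype_injective).toEquiv.symm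
        let P : Sylow q G := Sylow.ofCard QG hQGcard
        have hnc : Subgroup.normalizer ((P : Subgroup G) : Set G) ≤
            Subgroup.centralizer ((P : Subgroup G) : Set G) := by
          intro g hg
          have hgN : ∀ x ∈ (Q : Subgroup H), g * (x : G) * g⁻¹ ∈ QG := fun x hx =>
            (Subgroup.mem_normalizer_iff.1 hg _).1 ⟨x, hx, rfl⟩
          obtain ⟨x₁, hx₁, hx₁1⟩ : ∃ x ∈ (Q : Subgroup H), (x : G) ≠ 1 := by
            obtain ⟨⟨x, hx⟩, hx1⟩ := Subgroup.ne_bot_iff_exists_ne_one.1 (Q.ne_bot_of_dvd_card hqd)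
            exact ⟨x, hx, fun e => hx1 (Subtype.ext (Subtype.ext e))⟩
          rw [Subgroup.mem_centralizer_iff]
          rintro _ ⟨x, hx, rfl⟩
          suffices g * (x : G) * g⁻¹ = x from (mul_inv_eq_iff_eq_mul.1 this).symm
          have inH : ∀ k : H, (∀ y ∈ (Q : Subgroup H), (k : G) * y * (k : G)⁻¹ ∈ QG) →
              (k : G) * x * (k : G)⁻¹ = x := by
            intro k hk
            have := hcomm k (fun y hy => by
              obtain ⟨z, hz, hzz⟩ := hk y hy
              have hzy : z = k * y * k⁻¹ := Subtype.ext hzz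
              rw [← hzy]
              exact hz) x hx
            exact congrArg Subtype.val this
          have hgx : g * (x₁ : G) * g⁻¹ ∈ H := by
            obtain ⟨z, _, hz⟩ := hgN x₁ hx₁
            rw [← hz]; exact z.2
          rcases hpair g _ x₁.2 hx₁1 hgx with hgH | ⟨h1, h2⟩
          · exact inH ⟨g, hgH⟩ hgN
          · have hk : s'⁻¹ * g ∈ H := ⟨show (s'⁻¹ * g) • a = a by rw [mul_smul, h1, inv_smul_eq_iff, hs'a],
              show (s'⁻¹ * g) • b = b by rw [mul_smul, h2, inv_smul_eq_iff, hs'b]⟩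
            have hs'fix : ∀ y ∈ (Q : Subgroup H), s' * (y : G) * s'⁻¹ = y := fun y hy =>
              congrArg (fun z : (Q : Subgroup H) => ((z : H) : G)) (hid ⟨y, hy⟩)
            have := inH ⟨s'⁻¹ * g, hk⟩ (fun y hy => by
              obtain ⟨z, hz, hzz⟩ := hgN y hy
              refine ⟨z, hz, ?_⟩
              have hz' := hs'fix z hz
              change (z : G) = g * y * g⁻¹ at hzz
              change (z : G) = s'⁻¹ * g * y * (s'⁻¹ * g)⁻¹
              calc (z : G) = s'⁻¹ * (s' * z * s'⁻¹) * s' := by group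
                _ = s'⁻¹ * z * s' := by rw [hz']
                _ = _ := by rw [hzz]; group)
            calc g * (x : G) * g⁻¹ = s' * ((s'⁻¹ * g) * x * (s'⁻¹ * g)⁻¹) * s'⁻¹ := by group
              _ = s' * x * s'⁻¹ := by rw [this]
              _ = x := hs'fix x hx
        refine hnil q hq hqd ⟨(MonoidHom.transferSylow P hnc).ker, inferInstance, ?_⟩
        rw [(MonoidHom.ker_transferSylow_isComplement' P hnc).symm.index_eq_card]
        exact hQGcard
      · intro x hx
        rw [MonoidHom.mem_ker, hψ]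
        have h1 := congrArg (fun z : (Q : Subgroup H) => (z : H)) (hinv ⟨x, hx⟩)
        have h2 : (⟨(s' * (x : G) * s'⁻¹), hswap s' hs'a hs'b _ x.2⟩ : H) = x⁻¹ := h1
        have h3 : (⟨(s' * (x : G) * s'⁻¹), hswap s' hs'a hs'b _ x.2⟩ : H) = h * c x * h⁻¹ :=
          Subtype.ext (by simp [s', c, mul_assoc])
        rw [h3] at h2
        rw [map_mul, show Abelianization.of (c x) = Abelianization.of (h * c x * h⁻¹) by
          rw [map_mul, map_mul, map_inv, mul_comm (Abelianization.of h), mul_inv_cancel_right], h2, map_inv,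
          inv_mul_cancel]
    have htop : ψ.ker = ⊤ := by
      apply Subgroup.eq_top_of_card_eq
      apply Nat.dvd_antisymm (Subgroup.card_subgroup_dvd_card _)
      rw [← Nat.factorization_le_iff_dvd Nat.card_pos.ne' Nat.card_pos.ne']
      intro q
      by_cases hqd : q ∣ Nat.card H
      · by_cases hq : q.Prime
        · exact (hq.pow_dvd_iff_le_factorization Nat.card_pos.ne').1 (hker q hq hqd)
        · simp [Nat.factorization_eq_zero_of_not_prime _ hq]
      · simp [Nat.factorization_eq_zero_of_not_dvd hqd]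
    have hK : ∀ x : H, c x * x ∈ commutator H := by
      intro x
      rw [← Abelianization.ker_of, MonoidHom.mem_ker, ← hψ, ← MonoidHom.mem_ker, htop]
      exact Subgroup.mem_top x
    haveI := IsZGroup.isCyclic_commutator H
    let _ : CommGroup (commutator H) := IsCyclic.commGroup
    have hKab : ∀ v w : H, v ∈ commutator H → w ∈ commutator H → v * w = w * v := fun v w hv hw =>
      congrArg Subtype.val (mul_comm (⟨v, hv⟩ : commutator H) ⟨w, hw⟩)
    have hcenter : commutator H ≤ Subgroup.center H := by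
      intro w hw
      obtain ⟨⟨z, hz⟩, hgen⟩ := IsCyclic.exists_generator (α := commutator H)
      have hzall : ∀ v ∈ commutator H, ∃ i : ℤ, z ^ i = v := fun v hv => by
        obtain ⟨i, hi⟩ := Subgroup.mem_zpowers_iff.1 (hgen ⟨v, hv⟩)
        exact ⟨i, congrArg Subtype.val hi⟩
      have hcK : ∀ v ∈ commutator H, c v ∈ commutator H := fun v hv => by
        have := mul_mem (hK v) (inv_mem hv)
        rwa [mul_inv_cancel_right] at this
      rw [Subgroup.mem_center_iff]
      intro x
      obtain ⟨i, hi⟩ := hzall (c z) (hcK z hz)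
      obtain ⟨j, hj⟩ := hzall (x * z * x⁻¹) ((inferInstance : (commutator H).Normal).conj_mem z hz x)
      have h1 : c x * c z * (c x)⁻¹ = x * c z * x⁻¹ := by
        rw [← map_mul, ← map_inv, ← map_mul, ← hj, map_zpow, ← hi, ← zpow_mul, ← conj_zpow, ← hj, ← zpow_mul,
          mul_comm]
      have hcz : ∀ v ∈ commutator H, c x * v * (c x)⁻¹ = x * v * x⁻¹ := by
        intro v hv
        obtain ⟨l, hl⟩ := hzall v hv
        have hinj : Function.Injective c := fun u v h => by
          have : (s : G) * u * s⁻¹ = s * v * s⁻¹ := congrArg Subtype.val h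
          exact Subtype.ext (mul_left_cancel (mul_right_cancel this))
        have hzc : ∀ v ∈ commutator H, ∃ m : ℤ, (c z) ^ m = v := by
          let cK : commutator H → commutator H := fun u => ⟨c u, hcK u u.2⟩
          have hs : Function.Surjective cK := Finite.injective_iff_surjective.1
            (fun u v h => Subtype.ext (hinj (congrArg Subtype.val h)))
          intro v hv
          obtain ⟨u, hu⟩ := hs ⟨v, hv⟩
          obtain ⟨m, hm⟩ := hzall u u.2
          exact ⟨m, by rw [← map_zpow, hm]; exact congrArg Subtype.val hu⟩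
        obtain ⟨m, hm⟩ := hzc v hv
        rw [← hm, ← conj_zpow, h1, conj_zpow]
      have hx2 : x⁻¹ * w * x = x * w * x⁻¹ := by
        rw [← hcz w hw, show c x = (c x * x) * x⁻¹ by simp]
        have hv : x⁻¹ * w * x ∈ commutator H := by
          simpa using (inferInstance : (commutator H).Normal).conj_mem w hw x⁻¹
        have := hKab _ _ (hK x) hv
        calc x⁻¹ * w * x = (c x * x) * (x⁻¹ * w * x) * (c x * x)⁻¹ := by rw [this, mul_inv_cancel_right]
          _ = _ := by group
      have hsq : Commute (x ^ 2) w := by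
        change x ^ 2 * w = w * x ^ 2
        calc x ^ 2 * w = x * (x * w * x⁻¹) * x := by simp [pow_two, mul_assoc]
          _ = x * (x⁻¹ * w * x) * x := by rw [hx2]
          _ = w * x ^ 2 := by simp [pow_two, mul_assoc]
      obtain ⟨m, hm⟩ : ∃ m, (x ^ 2) ^ m = x := by
        obtain ⟨l, hl⟩ := hodd
        refine ⟨l + 1, ?_⟩
        rw [← pow_mul, show 2 * (l + 1) = Nat.card H + 1 by rw [hl]; ring, pow_succ, pow_card_eq_one', one_mul]
      have := (hsq.pow_left m).eq
      rwa [hm] at this
    have hab' : ∀ x y : H, x * y = y * x :=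
      commutative_of_cyclic_center_quotient Abelianization.of (by rw [Abelianization.ker_of]; exact hcenter)
    refine ⟨fun x hx => ?_, hab'⟩
    have hbot : commutator H = ⊥ := by
      rw [commutator_def, Subgroup.commutator_eq_bot_iff_le_centralizer]
      intro u _
      rw [Subgroup.mem_centralizer_iff]
      exact fun v _ => hab' v u
    have := hK ⟨x, hx⟩
    rw [hbot, Subgroup.mem_bot, mul_eq_one_iff_eq_inv] at this
    exact congrArg Subtype.val this
  obtain ⟨s, _, hsa, hsb⟩ := Zassenhaus.exists_involution_swap hZ hab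
  obtain ⟨hinv, hcomm⟩ := main s hsa hsb
  refine ⟨?_, ?_, fun s' h1 h2 => (main s' h1 h2).1⟩
  · haveI : IsMulCommutative H := ⟨⟨hcomm⟩⟩
    exact hsmall.isCyclic_of_isMulCommutative
  · refine le_antisymm (fun g hg => ?_) (fun g hg => ?_)
    · have hxH : x₀ ∈ H := ⟨hx₀a, hx₀b⟩
      have hc : x₀ * g = g * x₀ := (Subgroup.mem_centralizer_iff.1 hg) x₀ hxH
      have hconj : g * x₀ * g⁻¹ = x₀ := by rw [← hc, mul_inv_cancel_right]
      rcases hpair g x₀ hxH hx₀ (by rw [hconj]; exact hxH) with h | ⟨h1, h2⟩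
      · exact h
      · exfalso
        have h3 := (main g h1 h2).1 x₀ hxH
        rw [hconj] at h3
        have h4 : orderOf x₀ ∣ 2 := orderOf_dvd_of_pow_eq_one (by rw [pow_two]; nth_rw 1 [h3]; exact inv_mul_cancel x₀)
        have h5 : orderOf x₀ ∣ Nat.card H := Subgroup.orderOf_dvd_natCard H hxH
        rcases (Nat.dvd_prime Nat.prime_two).1 h4 with h | h
        · exact hx₀ (orderOf_eq_one_iff.1 h)
        · exact Nat.not_even_iff_odd.2 hodd (even_iff_two_dvd.2 (h ▸ h5))
    · rw [Subgroup.mem_centralizer_iff]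
      exact fun x hx => congrArg Subtype.val (hcomm ⟨x, hx⟩ ⟨g, hg⟩)

end Cfsg.Agent.S0739
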