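import Cfsg.Statements.S0738
import Cfsg.Agent.Lib.Zassenhaus.Basic

set_option autoImplicit false
open Cfsg

namespace Cfsg.Agent.S0738

/-- Let a finite Zassenhaus group of degree `n + 1` have two-point stabilisers of order `d` with `2d ≥ n - 1`. Then a normal subgroup of a point stabiliser acting regularly on the remaining points is elementary abelian, and the degree is a prime power plus one. -/
theorem result {G Ω : Type*} [Group G] [Finite G] [MulAction G Ω] [Fintype Ω] (hZ : Cfsg.IsZassenhausGroup G Ω) {a b : Ω} (hab : a ≠ b) (hd : Fintype.card Ω - 2 ≤ 2 * Nat.card ↥(MulAction.stabilizer G a ⊓ MulAction.stabilizer G b)) (F : Subgroup G) (hFle : F ≤ MulAction.stabilizer G a) (hFn : (F.subgroupOf (MulAction.stabilizer G a)).Normal) (hreg : ∀ y z : Ω, y ≠ a → z ≠ a → ∃! u : F, (u : G) • y = z) : IsMulCommutative F ∧ ∃ p f : ℕ, p.Prime ∧ (∀ u ∈ F, u ^ p = 1) ∧ Fintype.card Ω = p ^ f + 1 := by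
  classical
  have := Fintype.ofFinite G
  set n := Fintype.card Ω with hndef
  set d := Nat.card ↥(MulAction.stabilizer G a ⊓ MulAction.stabilizer G b) with hdd
  have hn : 3 ≤ n := by rw [hndef, ← Nat.card_eq_fintype_card]; exact Zassenhaus.three_le_card hZ
  -- F is the point kernel
  let φ : F → {y : Ω // y ≠ a} := fun u => ⟨(u : G) • b, fun h => hab
    (smul_left_cancel (u : G) (h.trans (show (u : G) • a = a from hFle u.2).symm)).symm⟩
  have hφ : Function.Bijective φ := by
    constructor
    · intro u v h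
      have h' : (u : G) • b = (v : G) • b := congrArg Subtype.val h
      exact (hreg b _ hab.symm (φ u).2).unique rfl h'.symm
    · intro y
      obtain ⟨u, hu, _⟩ := hreg b y.1 hab.symm y.2
      exact ⟨u, Subtype.ext hu⟩
  have hcard : Nat.card F = n - 1 := by
    rw [Nat.card_eq_of_bijective φ hφ, Nat.card_eq_fintype_card, Fintype.card_subtype_compl,
      Fintype.card_subtype_eq]
  have hfix : ∀ u ∈ F, u ≠ 1 → ∀ c : Ω, u • c = c → c = a := by
    intro u hu hu1 c hc
    by_contra hca
    have := (hreg c c hca hca).unique (y₁ := (⟨u, hu⟩ : F)) (y₂ := 1) hc (one_smul G c)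
    exact hu1 (congrArg Subtype.val this)
  have hK := Zassenhaus.coe_eq_pointKernel hZ F hFle (by rw [hcard, hndef, Nat.card_eq_fintype_card]) hfix
  set T := MulAction.stabilizer G a with hT
  have hd0 : 0 < d := Nat.card_pos
  have hTcard : Nat.card T = (n - 1) * d := by
    rw [hT, Zassenhaus.card_stab hZ hab, Nat.card_eq_fintype_card (α := Ω)]
  have hnorm : ∀ t ∈ T, ∀ u ∈ F, t * u * t⁻¹ ∈ F := by
    intro t ht u hu
    have := hFn.conj_mem (⟨u, hFle hu⟩ : T) hu (⟨t, ht⟩ : T)
    exact this
  -- the class of u in T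
  have hclass : ∀ u : F, u ≠ 1 → ∃ O : Finset G, O ⊆ (Finset.univ.filter (fun x => x ∈ F)).erase 1 ∧
      (u : G) ∈ O ∧ (∀ x ∈ O, ∃ t ∈ T, t * u * t⁻¹ = x) ∧
      O.card = d * (Subgroup.centralizer ({u} : Set F)).index := by
    intro u hu
    let t0 : T := ⟨(u : G), hFle u.2⟩
    let C : Subgroup T := Subgroup.centralizer ({t0} : Set T)
    have hCF : ∀ c : T, c ∈ C → (c : G) ∈ F := by
      intro c hc
      rw [Subgroup.mem_centralizer_singleton_iff] at hc
      have hc' : (c : G) * u = u * c := congrArg Subtype.val hc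
      change (c : G) ∈ (F : Set G)
      rw [hK]
      refine ⟨c.2, ?_⟩
      by_contra h
      push Not at h
      obtain ⟨hc1, y, hy, hya⟩ := h
      have hu1 : (u : G) ≠ 1 := fun h => hu (Subtype.ext h)
      have hy2 : (c : G) • ((u : G) • y) = (u : G) • y := by rw [← mul_smul, hc', mul_smul, hy]
      rcases Zassenhaus.eq_left_or_eq_right hZ hc1 (Ne.symm hya) c.2 hy hy2 with h | h
      · exact hya (smul_left_cancel (u : G) (h.trans (show (u : G) • a = a from hFle u.2).symm) )
      · exact hya (hfix _ u.2 hu1 y h)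
    have hCcard : Nat.card C = Nat.card (Subgroup.centralizer ({u} : Set F)) := by
      refine Nat.card_congr
        { toFun := fun c => ⟨⟨(c : G), hCF c.1 c.2⟩, ?_⟩
          invFun := fun c => ⟨⟨(c : G), hFle c.1.2⟩, ?_⟩
          left_inv := fun c => rfl
          right_inv := fun c => rfl }
      · rw [Subgroup.mem_centralizer_singleton_iff]
        have h := Subgroup.mem_centralizer_singleton_iff.1 c.2
        exact Subtype.ext (congrArg Subtype.val h :)
      · rw [Subgroup.mem_centralizer_singleton_iff]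
        have h := Subgroup.mem_centralizer_singleton_iff.1 c.2
        exact Subtype.ext (congrArg Subtype.val h :)
    have horb := Subgroup.card_mul_index (MulAction.stabilizer (ConjAct T) t0)
    rw [MulAction.index_stabilizer] at horb
    have hstab : Nat.card (MulAction.stabilizer (ConjAct T) t0) = Nat.card C :=
      Nat.card_congr (Equiv.subtypeEquiv ConjAct.ofConjAct.toEquiv (fun x => by
        rw [MulAction.mem_stabilizer_iff, ConjAct.smul_def, Subgroup.mem_centralizer_singleton_iff]
        exact mul_inv_eq_iff_eq_mul))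
    rw [hstab, hCcard, show Nat.card (ConjAct T) = Nat.card T from rfl, hTcard, ← hcard,
      ← Subgroup.card_mul_index (Subgroup.centralizer ({u} : Set F)), mul_assoc] at horb
    refine ⟨((MulAction.orbit (ConjAct T) t0).toFinset.image Subtype.val), ?_, ?_, ?_, ?_⟩
    · intro x hx
      obtain ⟨y, hy, rfl⟩ := Finset.mem_image.1 hx
      obtain ⟨k, rfl⟩ := Set.mem_toFinset.1 hy
      rw [Finset.mem_erase, Finset.mem_filter]
      refine ⟨fun h => hu (Subtype.ext ?_), Finset.mem_univ _, ?_⟩
      · change ((ConjAct.ofConjAct k : T) : G) * u * ((ConjAct.ofConjAct k : T) : G)⁻¹ = 1 at h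
        change (u : G) = 1
        simpa [mul_inv_eq_one] using h
      · exact hnorm _ (ConjAct.ofConjAct k).2 u u.2
    · exact Finset.mem_image.2 ⟨t0, Set.mem_toFinset.2 (MulAction.mem_orbit_self t0), rfl⟩
    · intro x hx
      obtain ⟨y, hy, rfl⟩ := Finset.mem_image.1 hx
      obtain ⟨k, rfl⟩ := Set.mem_toFinset.1 hy
      exact ⟨_, (ConjAct.ofConjAct k).2, rfl⟩
    · rw [Finset.card_image_of_injective _ Subtype.val_injective, ← Set.ncard_eq_toFinset_card']
      exact (Nat.eq_of_mul_eq_mul_left Nat.card_pos horb).trans (mul_comm _ _)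
  have hFs : ((Finset.univ.filter (fun x => x ∈ F)).erase 1).card = n - 2 := by
    rw [Finset.card_erase_of_mem (by simp [F.one_mem]), ← Fintype.card_subtype, ← Nat.card_eq_fintype_card]
    omega
  have hab' : IsMulCommutative F := by
    refine ⟨⟨fun u v => ?_⟩⟩
    by_cases hu : u = 1
    · simp [hu]
    obtain ⟨O, hO, _, _, hOc⟩ := hclass u hu
    set i := (Subgroup.centralizer ({u} : Set F)).index with hi
    have hle : d * i ≤ n - 2 := by rw [← hOc, ← hFs]; exact Finset.card_le_card hO
    have hidvd : i ∣ n - 1 := hcard ▸ Subgroup.index_dvd_card _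
    have hipos : i ≠ 0 := Subgroup.index_ne_zero_of_finite
    have hi1 : i = 1 := by
      rcases Nat.lt_or_ge i 3 with h | h
      · interval_cases i
        · omega
        · rfl
        · exfalso; omega
      · exfalso
        have := Nat.mul_le_mul_left d h
        omega
    rw [Subgroup.index_eq_one] at hi1
    have : v ∈ Subgroup.centralizer ({u} : Set F) := hi1 ▸ Subgroup.mem_top v
    exact (Subgroup.mem_centralizer_singleton_iff.1 this).symm
  refine ⟨hab', ?_⟩
  obtain ⟨p, hp, hpd⟩ := Nat.exists_prime_and_dvd (show n - 1 ≠ 1 by omega)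
  haveI := Fact.mk hp
  obtain ⟨u, hu⟩ := exists_prime_orderOf_dvd_card' (G := F) p (hcard ▸ hpd)
  have hu1 : u ≠ 1 := fun h => by rw [h, orderOf_one] at hu; exact hp.ne_one hu.symm
  let E : Subgroup F :=
    { carrier := {x | x ^ p = 1}
      one_mem' := one_pow p
      mul_mem' := fun {x y} (hx : x ^ p = 1) (hy : y ^ p = 1) => by
        change (x * y) ^ p = 1
        rw [(show Commute x y from hab'.1.1 x y).mul_pow, hx, hy, one_mul]
      inv_mem' := fun {x} (hx : x ^ p = 1) => by change x⁻¹ ^ p = 1; rw [inv_pow, hx, inv_one] }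
  have hE : E = ⊤ := by
    obtain ⟨O, hO, _, hOconj, hOc⟩ := hclass u hu1
    have hupow : (u : G) ^ p = 1 := by
      rw [← Subgroup.coe_pow, ← hu, pow_orderOf_eq_one]; rfl
    have hOE : O ⊆ ((Finset.univ.filter (fun x : G => x ∈ E.map F.subtype))).erase 1 := by
      intro x hx
      have hxF := hO hx
      rw [Finset.mem_erase, Finset.mem_filter] at hxF ⊢
      refine ⟨hxF.1, Finset.mem_univ _, ⟨x, hxF.2.2⟩, ?_, rfl⟩
      obtain ⟨t, _, rfl⟩ := hOconj x hx
      change (⟨t * u * t⁻¹, hxF.2.2⟩ : F) ^ p = 1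
      refine Subtype.ext ?_
      rw [Subgroup.coe_pow]
      change (t * u * t⁻¹) ^ p = 1
      rw [conj_pow, hupow]
      group
    by_contra hne
    have h1 := Finset.card_le_card hOE
    rw [hOc, Finset.card_erase_of_mem (Finset.mem_filter.2 ⟨Finset.mem_univ _, one_mem _⟩), ← Fintype.card_subtype,
      ← Nat.card_eq_fintype_card] at h1
    rw [show Nat.card {x // x ∈ E.map F.subtype} = Nat.card E from
      Nat.card_congr (Subgroup.equivMapOfInjective E _ F.subtype_injective).toEquiv.symm] at h1
    have h2 : Nat.card E * 2 ≤ n - 1 := by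
      rw [← hcard, ← E.card_mul_index]
      exact Nat.mul_le_mul_left _ (Subgroup.one_lt_index_of_ne_top hne)
    have : (Subgroup.centralizer ({u} : Set F)).index ≥ 1 := Nat.one_le_iff_ne_zero.2 Subgroup.index_ne_zero_of_finite
    have hdle : d ≤ d * (Subgroup.centralizer ({u} : Set F)).index := Nat.le_mul_of_pos_right _ this
    omega
  have hpow : ∀ x ∈ F, x ^ p = 1 := by
    intro x hx
    have : (⟨x, hx⟩ : F) ∈ E := hE ▸ Subgroup.mem_top _
    exact congrArg Subtype.val this
  obtain ⟨f, hf⟩ := IsPGroup.exists_card_eq (p := p) (G := F)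
    (fun x => ⟨1, by rw [pow_one]; exact Subtype.ext (hpow x x.2)⟩)
  exact ⟨p, f, hp, hpow, by omega⟩

end Cfsg.Agent.S0738
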