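import Cfsg.Statements.S0741
import Cfsg.Agent.Lib.Zassenhaus.Basic

set_option autoImplicit false
open Cfsg

namespace Cfsg.Agent.S0741

/-- If the two-point stabilisers of a finite Zassenhaus group of degree `n + 1` have even order `d`, then `2d ≥ n - 1`. -/
theorem result {G Ω : Type*} [Group G] [Finite G] [MulAction G Ω] [Fintype Ω] (hZ : Cfsg.IsZassenhausGroup G Ω) {a b : Ω} (hab : a ≠ b) (heven : Even (Nat.card ↥(MulAction.stabilizer G a ⊓ MulAction.stabilizer G b))) : Fintype.card Ω - 2 ≤ 2 * Nat.card ↥(MulAction.stabilizer G a ⊓ MulAction.stabilizer G b) := by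
  classical
  have := Fintype.ofFinite G
  set d := Nat.card ↥(MulAction.stabilizer G a ⊓ MulAction.stabilizer G b) with hd
  set I : Finset G := Finset.univ.filter
    (fun t => orderOf t = 2 ∧ Nat.card (MulAction.fixedBy Ω t) = 2) with hI
  set P : Finset (Ω × Ω) := (Finset.univ : Finset Ω).offDiag with hP
  have hfixcard : ∀ t ∈ I, (Finset.univ.filter (fun c : Ω => t • c = c)).card = 2 := by
    intro t ht
    simp only [I, Finset.mem_filter, Finset.mem_univ, true_and] at ht
    have h2 := ht.2
    rw [Nat.card_eq_fintype_card] at h2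
    rw [← Fintype.card_subtype]
    exact (Fintype.card_congr (Equiv.refl _)).trans h2
  have hle1 : P.card * 1 ≤ I.card * 2 := by
    refine Finset.card_mul_le_card_mul (fun p t => t • p.1 = p.1 ∧ t • p.2 = p.2) ?_ ?_
    · intro p hp
      have hp' : p.1 ≠ p.2 := (Finset.mem_offDiag.1 hp).2.2
      rw [Finset.one_le_card]
      obtain ⟨t, ht⟩ := exists_prime_orderOf_dvd_card' 2 (show 2 ∣ Nat.card ↥(MulAction.stabilizer G p.1 ⊓ MulAction.stabilizer G p.2) by
        rw [Zassenhaus.card_pair_stab_eq hZ hab hp']; exact heven.two_dvd)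
      have ht' : orderOf (t : G) = 2 := by rw [Subgroup.orderOf_coe]; exact ht
      have ht1 : (t : G) ≠ 1 := fun h => by simp [h] at ht'
      refine ⟨t, ?_⟩
      simp only [I, Finset.mem_bipartiteAbove, Finset.mem_filter, Finset.mem_univ, true_and]
      refine ⟨⟨ht', le_antisymm (Zassenhaus.card_fixedBy_le_two hZ ht1) ?_⟩, t.2.1, t.2.2⟩
      rw [Nat.card_coe_set_eq, ← Set.ncard_pair hp']
      refine Set.ncard_le_ncard ?_ (Set.toFinite _)
      rintro c (rfl | rfl)
      · exact t.2.1
      · exact t.2.2
    · intro t ht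
      have e : P.bipartiteBelow (fun p t => t • p.1 = p.1 ∧ t • p.2 = p.2) t =
          (Finset.univ.filter (fun c : Ω => t • c = c)).offDiag := by
        ext p
        simp only [P, Finset.mem_bipartiteBelow, Finset.mem_offDiag, Finset.mem_filter, Finset.mem_univ, true_and]
        tauto
      rw [e, Finset.offDiag_card, hfixcard t ht]
  have hle2 : I.card * (Fintype.card Ω - 2) ≤ P.card * d := by
    refine Finset.card_mul_le_card_mul (fun t p => t • p.1 = p.2 ∧ t • p.2 = p.1) ?_ ?_
    · intro t ht
      have htt : t * t = 1 := by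
        have h := pow_orderOf_eq_one t
        rw [(Finset.mem_filter.1 ht).2.1, pow_two] at h
        exact h
      rw [← Finset.card_univ, ← hfixcard t ht, ← Finset.card_sdiff_of_subset (Finset.filter_subset _ _)]
      refine Finset.card_le_card_of_injOn (fun c => (c, t • c)) ?_ (fun x _ y _ h => congrArg Prod.fst h)
      intro c hc
      simp only [Finset.mem_coe, Finset.mem_sdiff, Finset.mem_filter, Finset.mem_univ, true_and] at hc
      simp only [P, Finset.mem_coe, Finset.mem_bipartiteAbove, Finset.mem_offDiag, Finset.mem_univ, true_and,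
        ← mul_smul, htt, one_smul, and_true]
      exact fun h => hc h.symm
    · intro p hp
      have hp' : p.1 ≠ p.2 := (Finset.mem_offDiag.1 hp).2.2
      obtain ⟨s, _, hs1, hs2⟩ := Zassenhaus.exists_involution_swap hZ hp'
      calc _ ≤ (Finset.univ.filter (fun g : G => g • p.1 = p.2 ∧ g • p.2 = p.1)).card := by
            apply Finset.card_le_card
            intro g hg
            simp only [Finset.mem_bipartiteBelow, Finset.mem_filter, Finset.mem_univ, true_and] at hg ⊢
            exact hg.2
        _ = d := by
          rw [← Fintype.card_subtype, ← Nat.card_eq_fintype_card, Zassenhaus.card_swap hs1 hs2, hd,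
            Zassenhaus.card_pair_stab_eq hZ hab hp']
  have hPpos : 0 < P.card := by
    rw [Finset.card_pos]; exact ⟨(a, b), by simp [P, hab]⟩
  have hIpos : 0 < I.card := by omega
  have : I.card * (Fintype.card Ω - 2) ≤ I.card * (2 * d) :=
    hle2.trans ((Nat.mul_le_mul_right d (by omega : P.card ≤ I.card * 2)).trans (le_of_eq (mul_assoc _ _ _)))
  exact Nat.le_of_mul_le_mul_left this hIpos

end Cfsg.Agent.S0741
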