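import Cfsg.Statements.S1515
import Cfsg.Agent.Lib.Coherence.Virtual

set_option autoImplicit false
open Cfsg

namespace Cfsg.Agent.S1515

open Cfsg.Agent.Char Cfsg.Agent.Coherence

/-- Let (S, τ, R) be a coherence system from L to G, χ ∈ S, and ψ an integer combination of S with ⟨χ, ψ⟩ = ⟨conj χ, ψ⟩ = 0. Let τ₁ be a linear isometry on the integer combinations of χ − ψ and χ − conj χ, with virtual-character values, agreeing with τ on integer multiples of χ − conj χ. Then the sum over α ∈ R χ of the squared absolute values of ⟨τ₁(χ − ψ), α⟩ is at least ⟨χ, χ⟩; and if ⟨τ₁(χ − ψ), τ₁(χ − ψ)⟩ minus that sum is at least ⟨ψ, ψ⟩, then the sum equals ⟨χ, χ⟩ and every ⟨τ₁(χ − ψ), α⟩ with α ∈ R χ is 0 or 1. -/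
theorem result {L : Type*} [Group L] [Fintype L] {G : Type*} [Group G] [Fintype G] (S : Set (L → ℂ)) (τ : (L → ℂ) → (G → ℂ)) (R : (L → ℂ) → Finset (G → ℂ)) (hS : Cfsg.IsCoherenceSystem S τ R) (χ : L → ℂ) (hχ : χ ∈ S) (ψ : L → ℂ) (hψ : ψ ∈ Cfsg.zspan S) (h1 : Cfsg.classInner χ ψ = 0) (h2 : Cfsg.classInner (Cfsg.conjFun χ) ψ = 0) (τ₁ : (L → ℂ) → (G → ℂ)) (hτ₁ : Cfsg.IsLinearIsometryOn (Cfsg.zspan {χ - ψ, χ - Cfsg.conjFun χ}) τ₁) (hagree : ∀ n : ℤ, τ₁ (n • (χ - Cfsg.conjFun χ)) = τ (n • (χ - Cfsg.conjFun χ))) : (Cfsg.classInner χ χ).re ≤ ∑ α ∈ R χ, ‖Cfsg.classInner (τ₁ (χ - ψ)) α‖ ^ 2 ∧ ((Cfsg.classInner ψ ψ).re ≤ (Cfsg.classInner (τ₁ (χ - ψ)) (τ₁ (χ - ψ))).re - ∑ α ∈ R χ, ‖Cfsg.classInner (τ₁ (χ - ψ)) α‖ ^ 2 → (∑ α ∈ R χ, ‖Cfsg.classInner (τ₁ (χ - ψ)) α‖ ^ 2 = (Cfsg.classInner χ χ).re ∧ ∀ α ∈ R χ, Cfsg.classInner (τ₁ (χ - ψ)) α = 0 ∨ Cfsg.classInner (τ₁ (χ - ψ)) α =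 1)) := by
  obtain ⟨-, -, hiso, hgc⟩ := hτ₁
  set X := τ₁ (χ - ψ) with hX
  have m1 : χ - ψ ∈ Cfsg.zspan {χ - ψ, χ - Cfsg.conjFun χ} := subset_zspan (Set.mem_insert _ _)
  have m2 : χ - Cfsg.conjFun χ ∈ Cfsg.zspan {χ - ψ, χ - Cfsg.conjFun χ} :=
    subset_zspan (Set.mem_insert_of_mem _ (Set.mem_singleton _))
  have e2 : τ₁ (χ - Cfsg.conjFun χ) = ∑ α ∈ R χ, α := by
    rw [← hS.sum_eq χ hχ]; simpa using hagree 1
  have hc := hS.conj_mem χ hχ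
  have hne := hS.conj_ne χ hχ
  have h1' : Cfsg.classInner ψ χ = 0 := by rw [← classInner_conj_symm, h1, map_zero]
  have h2' : Cfsg.classInner ψ (Cfsg.conjFun χ) = 0 := by rw [← classInner_conj_symm, h2, map_zero]
  choose! a ha using fun α (hα : α ∈ R χ) =>
    classInner_gc_int (hgc _ m1) (hS.virtual χ hχ α hα)
  have hsum : ((∑ α ∈ R χ, a α : ℤ) : ℂ) = Cfsg.classInner χ χ := by
    rw [Int.cast_sum, ← Finset.sum_congr rfl ha, ← classInner_sum_right, ← e2, hiso _ m1 _ m2]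
    simp only [classInner_sub_left, classInner_sub_right, h1', h2', hS.orthogonal χ hχ _ hc hne.symm,
      sub_zero]
  have hsumR : ∑ α ∈ R χ, (a α : ℝ) = (Cfsg.classInner χ χ).re := by
    rw [← hsum]; simp
  have hXX : (Cfsg.classInner X X).re = (Cfsg.classInner χ χ).re + (Cfsg.classInner ψ ψ).re := by
    rw [hX, hiso _ m1 _ m1]
    simp only [classInner_sub_left, classInner_sub_right, h1, h1', Complex.sub_re, Complex.zero_re]
    ring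
  have hsq : ∀ α ∈ R χ, ‖Cfsg.classInner X α‖ ^ 2 = (a α : ℝ) ^ 2 := fun α hα => by
    rw [ha α hα, Complex.norm_intCast, sq_abs]
  have hle : ∀ α ∈ R χ, (a α : ℝ) ≤ ‖Cfsg.classInner X α‖ ^ 2 := fun α hα => by
    rw [hsq α hα]; exact_mod_cast Int.le_self_sq (a α)
  have hge : (Cfsg.classInner χ χ).re ≤ ∑ α ∈ R χ, ‖Cfsg.classInner X α‖ ^ 2 :=
    hsumR ▸ Finset.sum_le_sum hle
  refine ⟨hge, fun h => ?_⟩
  have heq : ∑ α ∈ R χ, ‖Cfsg.classInner X α‖ ^ 2 = (Cfsg.classInner χ χ).re := by linarith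
  refine ⟨heq, fun α hα => ?_⟩
  have := (Finset.sum_eq_sum_iff_of_le hle).mp (hsumR.trans heq.symm) α hα
  rw [hsq α hα] at this
  rw [ha α hα]
  rcases eq_or_ne (a α) 0 with h0 | h0
  · simp [h0]
  · right
    have h2 : a α * a α = a α * 1 := by
      rw [mul_one]
      have : ((a α * a α : ℤ) : ℝ) = (a α : ℝ) := by push_cast; rw [← sq]; exact this.symm
      exact_mod_cast this
    simp [mul_left_cancel₀ h0 h2]

end Cfsg.Agent.S1515
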