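import Cfsg.Statements.S1486
import Cfsg.Agent.Lib.CliffordChar.Basic

set_option autoImplicit false
open Cfsg

namespace Cfsg.Agent.S1486

open Cfsg.Agent Cfsg.Agent.Char

/-- Let H be a normal subgroup of the finite group G and θ, φ irreducible characters of H. If φ is a G-conjugate of θ then the functions induced from θ and φ coincide; if φ is not a G-conjugate of θ then the induced functions are orthogonal. -/
theorem result {G : Type*} [Group G] [Fintype G] (H : Subgroup G) [hN : H.Normal] (θ φ : H → ℂ) (hθ : Cfsg.IsIrrCharacter H θ) (hφ : Cfsg.IsIrrCharacter H φ) : ((∃ g : G, φ = fun h : H => θ ⟨g * h * g⁻¹, hN.conj_mem h h.2 g⟩) → Cfsg.indFun H φ = Cfsg.indFun H θ) ∧ ((¬ ∃ g : G, φ = fun h : H => θ ⟨g * h * g⁻¹, hN.conj_mem h h.2 g⟩) → Cfsg.classInner (Cfsg.indFun H φ) (Cfsg.indFun H θ) = 0) := by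
  classical
  refine ⟨?_, fun hne => ?_⟩
  · rintro ⟨g, rfl⟩
    funext y
    unfold Cfsg.indFun
    congr 1
    refine Fintype.sum_equiv (Equiv.mulRight g⁻¹) _ _ fun x => ?_
    simp only [Equiv.coe_mulRight]
    by_cases hm : x⁻¹ * y * x ∈ H
    · have hm' : (x * g⁻¹)⁻¹ * y * (x * g⁻¹) ∈ H := by
        have := hN.conj_mem _ hm g
        simpa [mul_assoc] using this
      rw [extendByZero_mem _ _ hm, extendByZero_mem _ _ hm']
      congr 1
      ext
      simp only
      group
    · rw [extendByZero_not_mem _ _ hm, extendByZero_not_mem]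
      intro h
      have := hN.conj_mem _ h g⁻¹
      exact hm (by simpa [mul_assoc] using this)
  · have : (fun n : H => Cfsg.indFun H θ (n : G)) =
        (Nat.card H : ℂ)⁻¹ • CliffordChar.orbitSum H θ :=
      funext fun n => CliffordChar.indFun_coe H θ n
    rw [frobenius_reciprocity H φ (indFun_isClassFunction H θ), this, classInner_smul_right,
      ← classInner_conj_symm (CliffordChar.orbitSum H θ) φ, CliffordChar.classInner_orbitSum H hθ hφ,
      Finset.filter_false_of_mem]
    · simp
    · intro x _ hx
      refine hne ⟨x⁻¹, ?_⟩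
      rw [← hx]
      funext h
      rw [CliffordChar.conjFun_apply]
      congr 1
      ext
      simp

end Cfsg.Agent.S1486
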