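import Cfsg.Statements.S1492
import Cfsg.Agent.Lib.Char.Induced
import Cfsg.Agent.Lib.CharApp.Schur
import Cfsg.Agent.Lib.CharApp.Unitary

set_option autoImplicit false
open Cfsg

namespace Cfsg.Agent.S1492

open Cfsg.Agent.Char

/-- Let ψ be an irreducible character of the finite group G and B ≤ D ≤ C subgroups with B normal in C, every commutator of an element of D with an element of C lying in B (so D/B is central in C/B), and ψ constant equal to ψ 1 on B. Then ψ(1) ^ 2 * |C| * |D| ≤ |G| ^ 2. -/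
theorem result {G : Type*} [Group G] [Finite G] (ψ : G → ℂ) (hψ : Cfsg.IsIrrCharacter G ψ) (B C D : Subgroup G) (hBD : B ≤ D) (hDC : D ≤ C) (hBn : ∀ c ∈ C, ∀ b ∈ B, c * b * c⁻¹ ∈ B) (hcent : ∀ d ∈ D, ∀ c ∈ C, d * c * d⁻¹ * c⁻¹ ∈ B) (hker : ∀ b ∈ B, ψ b = ψ 1) : ‖ψ 1‖ ^ 2 * (Nat.card C : ℝ) * (Nat.card D : ℝ) ≤ (Nat.card G : ℝ) ^ 2 := by
  classical
  have : Fintype G := Fintype.ofFinite G
  have : Fintype (IrrCharacter C) := Fintype.ofFinite _
  have : Fintype (IrrCharacter G) := Fintype.ofFinite _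
  have hψc := IsIrrCharacter.isCharacter hψ
  have hres : IsCharacter C (fun c : C => ψ c) := IsCharacter.restrict hψc C
  obtain ⟨m, hm, hmφ⟩ := IsCharacter.decompose hres
  obtain ⟨φ, hφ⟩ : ∃ φ, m φ ≠ 0 := by
    by_contra h
    push_neg at h
    have := congrFun hm 1
    simp [h] at this
    exact IsIrrCharacter.apply_one_ne_zero hψ this
  obtain ⟨dψ, hdψ⟩ := IsCharacter.exists_degree hψc
  choose d hd using fun χ : IrrCharacter C => IsCharacter.exists_degree (IsIrrCharacter.isCharacter χ.2)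
  have hind : dψ ≤ C.index * d φ := by
    have hindc : IsCharacter G (Cfsg.indFun C (φ : C → ℂ)) :=
      IsCharacter.indFun C (IsIrrCharacter.isCharacter φ.2)
    obtain ⟨a, ha, haψ⟩ := IsCharacter.decompose hindc
    have h1 : a ⟨ψ, hψ⟩ = m φ := by
      have := haψ ⟨ψ, hψ⟩
      rw [frobenius_reciprocity C _ (IsIrrCharacter.isClassFunction hψ),
        ← classInner_conj_symm (fun c : C => ψ c), hmφ φ, Complex.conj_natCast] at this
      exact_mod_cast this.symm
    choose e he using fun χ : IrrCharacter G => IsCharacter.exists_degree (IsIrrCharacter.isCharacter χ.2)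
    have h2 := congrFun ha 1
    rw [indFun_one_apply, hd φ] at h2
    simp only [Finset.sum_apply, Pi.smul_apply, smul_eq_mul, he] at h2
    have h3 : C.index * d φ = ∑ χ, a χ * e χ := by exact_mod_cast h2
    have h4 : e ⟨ψ, hψ⟩ = dψ := by exact_mod_cast (he ⟨ψ, hψ⟩).symm.trans hdψ
    rw [h3, ← h4]
    refine le_trans ?_ (Finset.single_le_sum (f := fun χ => a χ * e χ) (fun _ _ => Nat.zero_le _)
      (Finset.mem_univ ⟨ψ, hψ⟩))
    exact Nat.le_mul_of_pos_left _ (by rw [h1]; exact Nat.pos_of_ne_zero hφ)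
  have hkerφ : ∀ b : C, (b : G) ∈ B → (φ : C → ℂ) b = (φ : C → ℂ) 1 := by
    intro b hb
    have h0 := congrArg Complex.re ((congrFun hm b).symm.trans
      (((hker (b : G) hb).trans (by simp)).trans (congrFun hm 1)))
    simp only [Finset.sum_apply, Pi.smul_apply, smul_eq_mul, Complex.re_sum, hd, Complex.mul_re,
      Complex.natCast_re, Complex.natCast_im, zero_mul, sub_zero, mul_zero] at h0
    have hle : ∀ χ ∈ (Finset.univ : Finset (IrrCharacter C)),
        (m χ : ℝ) * ((χ : C → ℂ) b).re ≤ (m χ : ℝ) * (d χ : ℝ) := by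
      intro χ _
      refine mul_le_mul_of_nonneg_left ((Complex.re_le_norm _).trans ?_) (Nat.cast_nonneg _)
      have := IsCharacter.norm_le (IsIrrCharacter.isCharacter χ.2) b
      rw [hd χ] at this; simpa using this
    have h1 := (Finset.sum_eq_sum_iff_of_le hle).mp h0 φ (Finset.mem_univ _)
    have hre : ((φ : C → ℂ) b).re = d φ := mul_left_cancel₀ (Nat.cast_ne_zero.mpr hφ) h1
    have hn := IsCharacter.norm_le (IsIrrCharacter.isCharacter φ.2) b
    rw [hd φ, Complex.natCast_re] at hn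
    rw [hd φ]
    have hsq := pow_le_pow_left₀ (norm_nonneg _) hn 2
    rw [Complex.sq_norm, Complex.normSq_apply, hre] at hsq
    refine Complex.ext (by simpa using hre) ?_
    simp only [Complex.natCast_im]
    nlinarith
  obtain ⟨n, ρ, hρ, hρφ⟩ := φ.2
  haveI := nontrivial_of_isIrreducible ρ
  have hn : d φ = n := by
    have : ρ.character 1 = (n : ℂ) := by simp
    rw [hρφ, hd φ] at this; exact_mod_cast this
  have hB1 : ∀ b : C, (b : G) ∈ B → ρ b = LinearMap.id := fun b hb => by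
    rw [← character_eq_finrank_iff, hρφ, hkerφ b hb, hd φ, hn, Module.finrank_fin_fun]
  have hDnorm : ∀ x : C, (x : G) ∈ D → (n : ℝ) ^ 2 ≤ Complex.normSq ((φ : C → ℂ) x) := by
    intro x hx
    obtain ⟨c, hc⟩ := Cfsg.Agent.CharApp.exists_scalar_of_commute (ρ := ρ) (ρ x) fun g => by
      rw [← map_mul, ← map_mul]
      have := hB1 (x * g * x⁻¹ * g⁻¹) (by simpa using hcent (x : G) hx (g : G) g.2)
      rw [show x * g = (x * g * x⁻¹ * g⁻¹) * (g * x) by group, map_mul, this]
      rfl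
    have hnorm : ‖ρ.character x‖ = (Module.finrank ℂ (Fin n → ℂ) : ℝ) :=
      (norm_character_eq_iff ρ x).mpr ⟨c, hc⟩
    rw [hρφ, Module.finrank_fin_fun] at hnorm
    rw [← Complex.sq_norm, hnorm]
  have hsum : (Nat.card D : ℝ) * (n : ℝ) ^ 2 ≤ Nat.card C := by
    rw [← Cfsg.Agent.CharApp.sum_normSq_eq_card (ρ := ρ), hρφ,
      ← Nat.card_congr (Subgroup.subgroupOfEquivOfLe hDC).toEquiv, Nat.card_eq_fintype_card,
      ← Finset.card_univ, ← nsmul_eq_mul, ← Finset.sum_const]
    refine le_trans (Finset.sum_le_sum (g := fun x : D.subgroupOf C => Complex.normSq ((φ : C → ℂ) x))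
      fun x _ => hDnorm x x.2) ?_
    refine le_of_eq_of_le (Finset.sum_map Finset.univ ⟨_, Subtype.val_injective (p := (· ∈ D.subgroupOf C))⟩
      (fun x => Complex.normSq ((φ : C → ℂ) x))).symm ?_
    exact Finset.sum_le_sum_of_subset_of_nonneg (Finset.subset_univ _) fun x _ _ => Complex.normSq_nonneg _
  have hidx : (C.index : ℝ) * Nat.card C = Nat.card G := by exact_mod_cast C.index_mul_card
  have hind' : (dψ : ℝ) ≤ (C.index : ℝ) * n := by exact_mod_cast hn ▸ hind
  rw [hdψ, Complex.norm_natCast, ← hidx]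
  calc (dψ : ℝ) ^ 2 * Nat.card C * Nat.card D
      ≤ ((C.index : ℝ) * n) ^ 2 * Nat.card C * Nat.card D := by gcongr
    _ = (C.index : ℝ) ^ 2 * Nat.card C * ((Nat.card D : ℝ) * (n : ℝ) ^ 2) := by ring
    _ ≤ (C.index : ℝ) ^ 2 * Nat.card C * Nat.card C := by gcongr
    _ = ((C.index : ℝ) * Nat.card C) ^ 2 := by ring

end Cfsg.Agent.S1492
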