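import Cfsg.Statements.S1519
import Cfsg.Agent.Lib.Coherence.InducedSet
import Cfsg.Agent.S1492

set_option autoImplicit false
open Cfsg

namespace Cfsg.Agent.S1519

/-- Let K be a solvable normal subgroup of the finite group L and (S, τ, R) a coherence system from L to G where S is the set of functions induced from non-principal irreducible characters of K; write S(A) for those induced from characters whose kernel contains A. Let A, B, C, D be normal subgroups of L with A < K, B < K, B ≤ D ≤ C ≤ K and every commutator of D with C in B. If S(A) is coherent and 4 * [L:C]^2 * [C:D] < ([K:A] − 1)^2, then S(B) is coherent. -/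
theorem result {L : Type*} [Group L] [Fintype L] {G : Type*} [Group G] [Fintype G] (K : Subgroup L) [hK : K.Normal] (hsolv : Group.IsSolvable K) (τ : (L → ℂ) → (G → ℂ)) (R : (L → ℂ) → Finset (G → ℂ)) (hS : Cfsg.IsCoherenceSystem (Cfsg.inducedIrrAbove K ⊥) τ R) (A B C D : Subgroup L) [A.Normal] [B.Normal] [C.Normal] [D.Normal] (hAK : A < K) (hBK : B < K) (hBD : B ≤ D) (hDC : D ≤ C) (hCK : C ≤ K) (hcent : ∀ x ∈ D, ∀ y ∈ C, x * y * x⁻¹ * y⁻¹ ∈ B) (hA : Cfsg.IsCoherent (Cfsg.inducedIrrAbove K A) {1}ᶜ τ) (hlt : 4 * C.index ^ 2 * D.relIndex C < (A.relIndex K - 1) ^ 2) : Cfsg.IsCoherent (Cfsg.inducedIrrAbove K B) {1}ᶜ τ := by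
  classical
  refine Coherence.adjoin hsolv hS A hAK hA (Coherence.inducedSet_le_bot B) ?_
    (fun φ hφ => Coherence.inducedSet_conj_mem B hφ) ?_
  · obtain ⟨φ, hφ, -⟩ := Coherence.exists_linear_mem B hsolv hBK
    exact ⟨φ, hφ⟩
  intro φ hφ _
  obtain ⟨θ, rfl, -, hker, hd⟩ := Coherence.inducedSet_degree B hφ
  have h92 := S1492.result (θ : ↥K → ℂ) θ.2 (B.subgroupOf K) (C.subgroupOf K) (D.subgroupOf K)
    (fun x hx => hBD hx) (fun x hx => hDC hx)
    (fun c _ b hb => (inferInstance : B.Normal).conj_mem _ hb (c : L))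
    (fun d hd c hc => hcent _ hd _ hc) (fun b hb => hker b hb)
  rw [TwoClassChar.deg_eq θ.2, Complex.norm_natCast,
    Nat.card_congr (Subgroup.subgroupOfEquivOfLe hCK).toEquiv,
    Nat.card_congr (Subgroup.subgroupOfEquivOfLe (hDC.trans hCK)).toEquiv] at h92
  set t := Cfsg.charDegree (θ : ↥K → ℂ) with ht
  have h92' : t ^ 2 * Nat.card C * Nat.card D ≤ Nat.card K ^ 2 := by exact_mod_cast h92
  have eC : Nat.card K = Nat.card C * C.relIndex K := by
    rw [Subgroup.relIndex, ← Nat.card_congr (Subgroup.subgroupOfEquivOfLe hCK).toEquiv,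
      Subgroup.card_mul_index]
  have eD : Nat.card C = Nat.card D * D.relIndex C := by
    rw [Subgroup.relIndex, ← Nat.card_congr (Subgroup.subgroupOfEquivOfLe hDC).toEquiv,
      Subgroup.card_mul_index]
  have ht2 : t ^ 2 ≤ C.relIndex K ^ 2 * D.relIndex C := by
    have hj : 0 < D.relIndex C := Nat.pos_of_ne_zero Subgroup.index_ne_zero_of_finite
    refine Nat.le_of_mul_le_mul_right ?_ (Nat.mul_pos (Nat.pow_pos Nat.card_pos : 0 < Nat.card D ^ 2) hj)
    calc t ^ 2 * (Nat.card D ^ 2 * D.relIndex C) = t ^ 2 * Nat.card C * Nat.card D := by rw [eD]; ring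
      _ ≤ Nat.card K ^ 2 := h92'
      _ = _ := by rw [eC, eD]; ring
  have hidx : C.index = C.relIndex K * K.index := (Subgroup.relIndex_mul_index hCK).symm
  have hlt' : (2 * (K.index * t)) ^ 2 < (A.relIndex K - 1) ^ 2 := by
    refine lt_of_le_of_lt ?_ hlt
    rw [hidx]
    calc (2 * (K.index * t)) ^ 2 = 4 * K.index ^ 2 * t ^ 2 := by ring
      _ ≤ 4 * K.index ^ 2 * (C.relIndex K ^ 2 * D.relIndex C) := Nat.mul_le_mul_left _ ht2
      _ = _ := by ring
  have hlt2 : 2 * (K.index * t) < A.relIndex K - 1 := lt_of_pow_lt_pow_left' 2 hlt'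
  rw [hd, Complex.natCast_re]
  have h3 : 2 * (K.index * t) + 1 < A.relIndex K := by omega
  have h4 : ((2 * (K.index * t) + 1 : ℕ) : ℝ) < (A.relIndex K : ℝ) := by exact_mod_cast h3
  push_cast at h4 ⊢
  linarith

end Cfsg.Agent.S1519
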