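import Cfsg.Statements.S1520
import Cfsg.Agent.S1519

set_option autoImplicit false
open Cfsg

namespace Cfsg.Agent.S1520

/-- A section `A/B` of a nilpotent section `H/M` is not equal to `[A/B, H/B]` unless trivial. -/
theorem le_of_commutator_sup {L : Type*} [Group L] (M H : Subgroup L) [(M.subgroupOf H).Normal]
    (hnil : Group.IsNilpotent (↥H ⧸ M.subgroupOf H)) {A B : Subgroup L} [B.Normal] (hMB : M ≤ B)
    (hAH : A ≤ H) (h : A ≤ ⁅A, H⁆ ⊔ B) : A ≤ B := by
  have key : ∀ n, A ≤ H.lowerCentralSeries n ⊔ B := by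
    intro n
    induction n with
    | zero => exact le_sup_of_le_left hAH
    | succ n ih =>
      refine h.trans (sup_le ((Subgroup.commutator_mono ih le_rfl).trans ?_) le_sup_right)
      rw [Subgroup.commutator_le]
      intro x hx y hy
      rw [Subgroup.mem_sup_of_normal_right] at hx
      obtain ⟨u, hu, b, hb, rfl⟩ := hx
      have hy1 : u * y * u⁻¹ * y⁻¹ ∈ H.lowerCentralSeries (n + 1) :=
        Subgroup.commutator_mem_commutator hu hy
      have hy2 : b * y * b⁻¹ * y⁻¹ ∈ B := by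
        have := mul_mem hb ((inferInstance : B.Normal).conj_mem _ (inv_mem hb) y)
        simpa [mul_assoc] using this
      rw [commutatorElement_def,
        show u * b * y * (u * b)⁻¹ * y⁻¹ =
          (u * (b * y * b⁻¹ * y⁻¹) * u⁻¹) * (u * y * u⁻¹ * y⁻¹) by group]
      exact mul_mem (le_sup_right (a := H.lowerCentralSeries (n + 1))
          ((inferInstance : B.Normal).conj_mem _ hy2 u))
        (le_sup_left (b := B) hy1)
  obtain ⟨n, hn⟩ := Subgroup.nilpotent_iff_lowerCentralSeries.1 hnil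
  refine (key n).trans (sup_le (le_trans ?_ hMB) le_rfl)
  rw [← Subgroup.top_subtype_lowerCentralSeries, Subgroup.map_le_iff_le_comap]
  have h1 : ((⊤ : Subgroup H).lowerCentralSeries n).map (QuotientGroup.mk' (M.subgroupOf H)) = ⊥ := by
    rw [Subgroup.map_lowerCentralSeries,
      Subgroup.map_top_of_surjective _ (QuotientGroup.mk'_surjective _)]
    exact hn
  rw [Subgroup.map_eq_bot_iff, QuotientGroup.ker_mk'] at h1
  exact h1

/-- Let K be a solvable normal subgroup of the finite group L and (S, τ, R) a coherence system from L to G with S the functions induced from non-principal irreducible characters of K; S(A) the members of S induced from characters whose kernel contains A. Let M ≤ H₁ ≤ H ≤ K be normal subgroups of L such that every term of the lower central series of H eventually lies in M (H/M nilpotent), S(H₁) is coherent and [H:H₁] > 4 * [L:K]^2 + 1. Then S(M) is coherent. -/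
theorem result {L : Type*} [Group L] [Fintype L] {G : Type*} [Group G] [Fintype G] (K : Subgroup L) [hK : K.Normal] (hsolv : Group.IsSolvable K) (τ : (L → ℂ) → (G → ℂ)) (R : (L → ℂ) → Finset (G → ℂ)) (hS : Cfsg.IsCoherenceSystem (Cfsg.inducedIrrAbove K ⊥) τ R) (M H₁ H : Subgroup L) [M.Normal] [H₁.Normal] [H.Normal] (hMH₁ : M ≤ H₁) (hH₁H : H₁ ≤ H) (hHK : H ≤ K) [(M.subgroupOf H).Normal] (hnil : Group.IsNilpotent (↥H ⧸ M.subgroupOf H)) (hcoh : Cfsg.IsCoherent (Cfsg.inducedIrrAbove K H₁) {1}ᶜ τ) (hbig : 4 * K.index ^ 2 + 1 < H₁.relIndex H) : Cfsg.IsCoherent (Cfsg.inducedIrrAbove K M) {1}ᶜ τ := by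
  classical
  have hH₁K : H₁ < K := by
    refine lt_of_le_of_ne (hH₁H.trans hHK) fun e => ?_
    have : H₁.relIndex H = 1 := Subgroup.relIndex_eq_one.2 (e ▸ hHK)
    omega
  let P : Set (Subgroup L) := {A | A.Normal ∧ M ≤ A ∧ A ≤ H₁ ∧
    Cfsg.IsCoherent (Cfsg.inducedIrrAbove K A) {1}ᶜ τ}
  obtain ⟨A, ⟨hAn, hMA, hAH₁, hA⟩, hmin⟩ := Set.Finite.exists_minimal (s := P) (Set.toFinite _)
    ⟨H₁, inferInstance, hMH₁, le_rfl, hcoh⟩
  by_cases hAM : A = M
  · exact hAM ▸ hA
  exfalso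
  let Q : Set (Subgroup L) := {B | B.Normal ∧ M ≤ B ∧ B < A}
  obtain ⟨B, ⟨hBn, hMB, hBA⟩, hmax⟩ := Set.Finite.exists_maximal (s := Q) (Set.toFinite _)
    ⟨M, inferInstance, le_rfl, lt_of_le_of_ne hMA (Ne.symm hAM)⟩
  haveI := hAn
  haveI := hBn
  have hAH : A ≤ H := hAH₁.trans hH₁H
  have hcent : ⁅A, H⁆ ≤ B := by
    by_contra hne
    have hBC : B < ⁅A, H⁆ ⊔ B :=
      lt_of_le_of_ne le_sup_right fun e => hne (le_sup_left.trans e.ge)
    have hCA : ⁅A, H⁆ ⊔ B ≤ A := sup_le (Subgroup.commutator_le_left A H) hBA.le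
    rcases hCA.lt_or_eq with h | h
    · exact hBC.not_ge (hmax ⟨inferInstance, hMB.trans le_sup_right, h⟩ hBC.le)
    · exact hBA.not_ge (le_of_commutator_sup M H hnil hMB hAH h.ge)
  have hlt : 4 * H.index ^ 2 * A.relIndex H < (A.relIndex K - 1) ^ 2 := by
    rw [← Subgroup.relIndex_mul_relIndex A H K hAH hHK, ← Subgroup.relIndex_mul_index hHK]
    have hx : 4 * K.index ^ 2 + 1 < A.relIndex H := by
      refine lt_of_lt_of_le hbig (Nat.le_of_dvd ?_ ?_)
      · exact Nat.pos_of_ne_zero Subgroup.index_ne_zero_of_finite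
      · exact Subgroup.relIndex_dvd_of_le_left H hAH₁
    have hk : 1 ≤ H.relIndex K := Nat.pos_of_ne_zero Subgroup.index_ne_zero_of_finite
    obtain ⟨y, hy⟩ : ∃ y, A.relIndex H = 4 * K.index ^ 2 + 2 + y :=
      ⟨A.relIndex H - (4 * K.index ^ 2 + 2), by omega⟩
    rw [hy]
    obtain ⟨k, hk'⟩ : ∃ k, H.relIndex K = k + 1 := ⟨H.relIndex K - 1, by omega⟩
    rw [hk']
    have e : (4 * K.index ^ 2 + 2 + y) * (k + 1) - 1 =
        (k + 1) * (4 * K.index ^ 2 + 1 + y) + k := by
      have : (4 * K.index ^ 2 + 2 + y) * (k + 1) = (k + 1) * (4 * K.index ^ 2 + 1 + y) + k + 1 := by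
        ring
      omega
    rw [e]
    refine lt_of_lt_of_le ?_ (Nat.pow_le_pow_left (Nat.le_add_right _ k) 2)
    rw [mul_pow, mul_pow]
    have h2 : 4 * K.index ^ 2 * (4 * K.index ^ 2 + 2 + y) < (4 * K.index ^ 2 + 1 + y) ^ 2 := by
      nlinarith
    calc 4 * ((k + 1) ^ 2 * K.index ^ 2) * (4 * K.index ^ 2 + 2 + y)
        = (k + 1) ^ 2 * (4 * K.index ^ 2 * (4 * K.index ^ 2 + 2 + y)) := by ring
      _ < _ := Nat.mul_lt_mul_of_pos_left h2 (Nat.pow_pos (Nat.succ_pos k))
  have hAK : A < K := lt_of_le_of_lt hAH₁ hH₁K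
  have hcoB := S1519.result K hsolv τ R hS A B H A hAK (hBA.trans hAK) hBA.le hAH hHK
    (fun x hx y hy => hcent (Subgroup.commutator_mem_commutator hx hy)) hA hlt
  exact hBA.not_ge (hmin ⟨hBn, hMB, hBA.le.trans hAH₁, hcoB⟩ hBA.le)

end Cfsg.Agent.S1520
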