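import Cfsg.Statements.S1521
import Cfsg.Agent.S1517
import Cfsg.Agent.S1520
import Cfsg.Agent.Lib.Cores.Frattini
import Cfsg.Agent.EqLemmas

set_option autoImplicit false
open Cfsg

namespace Cfsg.Agent.S1521

open Cfsg
open scoped commutatorElement

universe u v
variable {L : Type u} [Group L] [Finite L] {K H₁ : Subgroup L}

omit [Finite L] in
theorem dvd_card_of_orbits {Γ X : Type*} [Group Γ] [MulAction Γ X] [Finite X] {e : ℕ}
    (h : ∀ x : X, Nat.card (MulAction.orbit Γ x) = e) : e ∣ Nat.card X := by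
  classical
  haveI := Fintype.ofFinite (Quotient (MulAction.orbitRel Γ X))
  rw [Nat.card_congr (MulAction.selfEquivSigmaOrbits Γ X), Nat.card_sigma]
  exact Finset.dvd_sum fun ω _ => dvd_of_eq (h _).symm

/-- `[N : H₁] ≡ 1` modulo `[L : K]` for normal `N` between `H₁` and `K`. -/
theorem dvd_relIndex_sub_one [K.Normal] [H₁.Normal] (hle : H₁ ≤ K) (hab : ⁅K, K⁆ ≤ H₁)
    (hfrob : ∀ k ∈ K, k ∉ H₁ → ∀ x : L, x * k * x⁻¹ * k⁻¹ ∈ H₁ → x ∈ K)
    (N : Subgroup L) [N.Normal] (hHN : H₁ ≤ N) (hNK : N ≤ K) :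
    K.index ∣ H₁.relIndex N - 1 := by
  classical
  let f := QuotientGroup.mk' H₁
  have hcardN : Nat.card (N.map f) = H₁.relIndex N := by
    rw [← Subgroup.relIndex_ker, QuotientGroup.ker_mk']
  let X := {a : L ⧸ H₁ // a ∈ N.map f ∧ a ≠ 1}
  haveI : (N.map f).Normal := Subgroup.Normal.map inferInstance f (QuotientGroup.mk'_surjective H₁)
  letI : MulAction L X :=
    { smul := fun g a => ⟨f g * a.1 * (f g)⁻¹,
        (inferInstance : (N.map f).Normal).conj_mem _ a.2.1 _,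
        fun e => a.2.2 (by simpa using e)⟩
      one_smul := fun a => Subtype.ext (show f 1 * a.1 * (f 1)⁻¹ = a.1 by simp)
      mul_smul := fun g h a => Subtype.ext
        (show f (g * h) * a.1 * (f (g * h))⁻¹ = f g * (f h * a.1 * (f h)⁻¹) * (f g)⁻¹ by
          rw [map_mul, mul_inv_rev]; simp only [mul_assoc]) }
  have hstab : ∀ a : X, MulAction.stabilizer L a = K := by
    rintro ⟨a, ⟨k, hk, rfl⟩, ha⟩
    have hk1 : k ∉ H₁ := fun h => ha ((QuotientGroup.eq_one_iff k).2 h)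
    ext x
    rw [MulAction.mem_stabilizer_iff, Subtype.ext_iff]
    show f x * f k * (f x)⁻¹ = f k ↔ _
    rw [← mul_inv_eq_one, ← map_mul, ← map_inv, ← map_mul, ← map_inv, ← map_mul]
    show ((x * k * x⁻¹ * k⁻¹ : L) : L ⧸ H₁) = 1 ↔ _
    rw [QuotientGroup.eq_one_iff]
    exact ⟨hfrob k (hNK hk) hk1 x, fun hx => hab (Subgroup.commutator_mem_commutator hx (hNK hk))⟩
  have hX : Nat.card X = H₁.relIndex N - 1 := by
    haveI := Fintype.ofFinite (L ⧸ H₁)
    rw [← hcardN, Nat.card_eq_fintype_card, Nat.card_eq_fintype_card, Fintype.card_subtype,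
      Fintype.card_subtype, ← Finset.card_erase_of_mem (a := (1 : L ⧸ H₁))
        (Finset.mem_filter.2 ⟨Finset.mem_univ _, one_mem (N.map f)⟩)]
    congr 1
    ext a
    simp [and_comm]
  rw [← hX]
  exact dvd_card_of_orbits (Γ := L) fun a => by
    rw [Nat.card_coe_set_eq, ← MulAction.index_stabilizer, hstab a]

theorem le_of_dvd_sub_one {e n : ℕ} (he : Odd e) (hn : Odd n) (h1 : 1 < n) (h : e ∣ n - 1) :
    2 * e + 1 ≤ n := by
  have h2 : 2 ∣ n - 1 := (Nat.Odd.sub_odd hn odd_one).two_dvd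
  have h3 : 2 * e ∣ n - 1 := (Nat.coprime_two_left.2 he).mul_dvd_of_dvd_of_dvd h2 h
  have := Nat.le_of_dvd (by omega) h3
  omega

/-- A normal subgroup strictly between `H₁` and `K` makes the index large. -/
theorem big_of_between [K.Normal] [H₁.Normal] (hle : H₁ ≤ K) (hab : ⁅K, K⁆ ≤ H₁)
    (hodd : Odd (Nat.card L))
    (hfrob : ∀ k ∈ K, k ∉ H₁ → ∀ x : L, x * k * x⁻¹ * k⁻¹ ∈ H₁ → x ∈ K)
    (N : Subgroup L) [N.Normal] (hHN : H₁ < N) (hNK : N < K) :
    4 * K.index ^ 2 + 1 < H₁.relIndex K := by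
  have hd1 := dvd_relIndex_sub_one hle hab hfrob N hHN.le hNK.le
  have hd2 := dvd_relIndex_sub_one hle hab hfrob K hle le_rfl
  have hm := Subgroup.relIndex_mul_relIndex H₁ N K hHN.le hNK.le
  set a := H₁.relIndex N
  set b := N.relIndex K
  have ha0 : a ≠ 0 := Subgroup.index_ne_zero_of_finite
  have hb0 : b ≠ 0 := Subgroup.index_ne_zero_of_finite
  have ha1 : a ≠ 1 := fun h => hHN.not_ge (Subgroup.relIndex_eq_one.1 h)
  have hb1 : b ≠ 1 := fun h => hNK.not_ge (Subgroup.relIndex_eq_one.1 h)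
  have hab' : a * b ∣ Nat.card L := by
    rw [hm]
    exact (Subgroup.index_dvd_card _).trans (Subgroup.card_subgroup_dvd_card K)
  have hoa := hodd.of_dvd_nat ((dvd_mul_right a b).trans hab')
  have hob := hodd.of_dvd_nat ((dvd_mul_left b a).trans hab')
  have he := hodd.of_dvd_nat K.index_dvd_card
  have hdb : K.index ∣ b - 1 := by
    rw [← hm] at hd2
    have e : a * b - 1 = (a - 1) * b + (b - 1) := by
      rw [Nat.sub_mul, one_mul]
      have : b ≤ a * b := Nat.le_mul_of_pos_left b (Nat.pos_of_ne_zero ha0)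
      omega
    rw [e] at hd2
    exact (Nat.dvd_add_right (dvd_mul_of_dvd_left hd1 b)).1 hd2
  have h1 := le_of_dvd_sub_one he hoa (by omega) hd1
  have h2 := le_of_dvd_sub_one he hob (by omega) hdb
  have h3 := Nat.mul_le_mul h1 h2
  rw [← hm]
  have := he.pos
  nlinarith


/-- Let K be a solvable normal subgroup of the finite group L of odd order and (S, τ, R) a coherence system from L to G with S the functions induced from non-principal irreducible characters of K; S(A) as before. Let M ≤ K be normal in L with K/M nilpotent, H₁ = [K, K] ⊔ M, H₁ < K < L, and suppose every element of K outside H₁ is centralised modulo H₁ only from inside K (L/H₁ is a Frobenius group with kernel K/H₁). Suppose one of the following: some normal subgroup of L lies strictly between H₁ and K; or [K:H₁] > 4[L:K]^2 + 1; or [K:M] is not a prime power; or [K,K] ≤ M; or [K:M] is a power of a prime p with [L:K] dividing p − 1. Then S(M) is coherent. -/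
theorem result {L : Type*} [Group L] [Fintype L] {G : Type*} [Group G] [Fintype G] (K : Subgroup L) [hK : K.Normal] (hsolv : Group.IsSolvable K) (τ : (L → ℂ) → (G → ℂ)) (R : (L → ℂ) → Finset (G → ℂ)) (hS : Cfsg.IsCoherenceSystem (Cfsg.inducedIrrAbove K ⊥) τ R) (hodd : Odd (Nat.card L)) (M : Subgroup L) [M.Normal] (hMK : M ≤ K) [(M.subgroupOf K).Normal] (hnil : Group.IsNilpotent (↥K ⧸ M.subgroupOf K)) (H₁ : Subgroup L) (hH₁ : H₁ = ⁅K, K⁆ ⊔ M) (hH₁K : H₁ < K) (hKL : K < ⊤) (hfrob : ∀ k ∈ K, k ∉ H₁ → ∀ x : L, x * k * x⁻¹ * k⁻¹ ∈ H₁ → x ∈ K) (hgood : (∃ N : Subgroup L, N.Normal ∧ H₁ < N ∧ N < K) ∨ 4 * K.index ^ 2 + 1 < H₁.relIndex K ∨ (¬ ∃ p m : ℕ, p.Prime ∧ M.relIndex K = p ^ m) ∨ ⁅K, K⁆ ≤ M ∨ (∃ p m : ℕ, p.Prime ∧ M.relIndex K = p ^ m ∧ K.index ∣ p - 1)) : Cfsg.IsCoherent (Cfsg.inducedIrrAbove K M) {1}ᶜ τ := by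
  classical
  haveI hH₁n : H₁.Normal := by rw [hH₁]; infer_instance
  have hab : ⁅K, K⁆ ≤ H₁ := hH₁ ▸ le_sup_left
  have hMH : M ≤ H₁ := hH₁ ▸ le_sup_right
  -- `S(H₁)` is coherent
  obtain ⟨φ₀, hφ₀, -⟩ := Coherence.exists_linear_mem H₁ hsolv hH₁K
  have hsys := Coherence.sys_subset hS (Coherence.inducedSet_le_bot H₁) ⟨φ₀, hφ₀⟩
    (fun φ hφ => Coherence.inducedSet_conj_mem H₁ hφ)
  have hdeg : ∀ φ ∈ inducedIrrAbove K H₁, φ 1 = (K.index : ℂ) := by
    intro φ hφ
    obtain ⟨θ, rfl, -, hker, -⟩ := Coherence.inducedSet_degree H₁ hφ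
    have hk : commutator K ≤ Codegree.kerSub θ := by
      refine le_trans (fun k hk => ?_) (show H₁.subgroupOf K ≤ Codegree.kerSub θ from fun a ha => hker a ha)
      refine hab ?_
      rw [← Subgroup.map_subtype_commutator]
      exact Subgroup.mem_map_of_mem _ hk
    obtain ⟨ψ, hψ⟩ := Codegree.exists_quot θ (commutator K) hk
    have h1 := Char.apply_one_eq_one_of_comm
      (fun a b => mul_comm (G := Abelianization K) a b) ψ
    replace h1 : (θ : K → ℂ) 1 = 1 := (hψ 1).symm.trans h1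
    rw [Char.indFun_one_apply, h1, mul_one]
  have hcoh : IsCoherent (inducedIrrAbove K H₁) {1}ᶜ τ :=
    S1517.result _ τ R hsys fun φ hφ ψ hψ => (hdeg φ hφ).trans (hdeg ψ hψ).symm
  by_cases hc : ⁅K, K⁆ ≤ M
  · rw [show M = H₁ from le_antisymm hMH (hH₁ ▸ sup_le hc le_rfl)]
    exact hcoh
  by_cases hbig : 4 * K.index ^ 2 + 1 < H₁.relIndex K
  · exact S1520.result K hsolv τ R hS M H₁ K hMH hH₁K.le le_rfl hnil hcoh hbig
  exfalso
  have hnoN : ∀ N : Subgroup L, N.Normal → H₁ < N → ¬ N < K := fun N hN h1 h2 =>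
    haveI := hN
    hbig (big_of_between hH₁K.le hab hodd hfrob N h1 h2)
  -- the quotient `Q = K ⧸ M`
  let f := QuotientGroup.mk' (M.subgroupOf K)
  have hsub : H₁.subgroupOf K = commutator K ⊔ M.subgroupOf K := by
    apply Subgroup.map_injective K.subtype_injective
    rw [Subgroup.map_sup, Subgroup.map_subtype_commutator, Subgroup.map_subgroupOf_eq_of_le hH₁K.le,
      Subgroup.map_subgroupOf_eq_of_le hMK, hH₁]
  have hidx : (commutator (↥K ⧸ M.subgroupOf K)).index = H₁.relIndex K := by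
    rw [Subgroup.relIndex, hsub, commutator_def (↥K ⧸ M.subgroupOf K),
      ← Subgroup.map_top_of_surjective f (QuotientGroup.mk'_surjective _), ← Subgroup.map_commutator,
      ← commutator_def, Subgroup.index_map, QuotientGroup.ker_mk',
      MonoidHom.range_eq_top.2 (QuotientGroup.mk'_surjective _), Subgroup.index_top, mul_one]
  have hcardQ : M.relIndex K = Nat.card (↥K ⧸ M.subgroupOf K) := Subgroup.index_eq_card _
  haveI := hnil
  have hgen : ∀ A : Subgroup (↥K ⧸ M.subgroupOf K),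
      A ⊔ commutator (↥K ⧸ M.subgroupOf K) = ⊤ → A = ⊤ := fun A hA =>
    frattini_nongenerating (top_unique (hA.symm.le.trans
      (sup_le_sup_left Cores.commutator_le_frattini A)))
  set n := H₁.relIndex K with hn
  have hn0 : n ≠ 0 := Subgroup.index_ne_zero_of_finite
  have hn1 : n ≠ 1 := fun h => hH₁K.not_ge (Subgroup.relIndex_eq_one.1 h)
  -- `K ⧸ M` has prime power order
  obtain ⟨p, hp, hpn⟩ : ∃ p, p.Prime ∧ p ∣ n := ⟨n.minFac, Nat.minFac_prime hn1, n.minFac_dvd⟩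
  haveI := Fact.mk hp
  have habK : ∀ a b : ↥K ⧸ H₁.subgroupOf K, a * b = b * a := by
    intro a b
    obtain ⟨a, rfl⟩ := QuotientGroup.mk_surjective a
    obtain ⟨b, rfl⟩ := QuotientGroup.mk_surjective b
    rw [← commutatorElement_eq_one_iff_mul_comm]
    show ((⁅a, b⁆ : K) : ↥K ⧸ H₁.subgroupOf K) = 1
    rw [QuotientGroup.eq_one_iff]
    exact hab (Subgroup.commutator_mem_commutator a.2 b.2)
  have hpow : ∀ k : K, (k : L) ^ p ∈ H₁ ↔ ((k : K) : ↥K ⧸ H₁.subgroupOf K) ^ p = 1 := fun k => by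
    rw [← QuotientGroup.mk_pow, QuotientGroup.eq_one_iff, Subgroup.mem_subgroupOf, Subgroup.coe_pow]
  let N : Subgroup L :=
    { carrier := {k | k ∈ K ∧ k ^ p ∈ H₁}
      one_mem' := ⟨one_mem K, by rw [one_pow]; exact one_mem H₁⟩
      mul_mem' := fun {a b} ha hb => ⟨mul_mem ha.1 hb.1, by
        have h1 := (hpow ⟨a, ha.1⟩).1 ha.2
        have h2 := (hpow ⟨b, hb.1⟩).1 hb.2
        refine (hpow (⟨a, ha.1⟩ * ⟨b, hb.1⟩)).2 ?_
        rw [QuotientGroup.mk_mul, Commute.mul_pow (habK _ _), h1, h2, one_mul]⟩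
      inv_mem' := fun {a} ha => ⟨inv_mem ha.1, by rw [inv_pow]; exact inv_mem ha.2⟩ }
  have hNn : N.Normal := ⟨fun k hk g => ⟨hK.conj_mem k hk.1 g, by
    rw [conj_pow]; exact hH₁n.conj_mem _ hk.2 g⟩⟩
  have hHN : H₁ < N := by
    refine lt_of_le_of_ne (fun h hh => ⟨hH₁K.le hh, pow_mem hh p⟩) fun e => ?_
    obtain ⟨q, hq⟩ := exists_prime_orderOf_dvd_card' (G := ↥K ⧸ H₁.subgroupOf K) p
      (by rw [← Subgroup.index_eq_card]; exact hpn)
    obtain ⟨k, rfl⟩ := QuotientGroup.mk_surjective q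
    have hmem : (k : L) ∈ N := ⟨k.2, (hpow k).2 (hq ▸ pow_orderOf_eq_one _)⟩
    rw [← e] at hmem
    rw [(QuotientGroup.eq_one_iff (N := H₁.subgroupOf K) k).2 hmem, orderOf_one] at hq
    exact hp.one_lt.ne hq
  obtain ⟨m, hm⟩ : ∃ m, n = p ^ m := by
    have hNK : K ≤ N := not_not.1 fun h =>
      hnoN N hNn hHN (lt_of_le_not_ge (fun k hk => hk.1) h)
    have hP : IsPGroup p (↥K ⧸ H₁.subgroupOf K) := by
      intro q
      obtain ⟨k, rfl⟩ := QuotientGroup.mk_surjective q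
      exact ⟨1, by rw [pow_one]; exact (hpow k).1 (hNK k.2).2⟩
    obtain ⟨m, hm⟩ := IsPGroup.iff_card.1 hP
    exact ⟨m, by rw [← hm, ← Subgroup.index_eq_card]; rfl⟩
  obtain ⟨r, hr⟩ : ∃ r, M.relIndex K = p ^ r := by
    obtain ⟨P⟩ : Nonempty (Sylow p (↥K ⧸ M.subgroupOf K)) := inferInstance
    have hPtop : (P : Subgroup (↥K ⧸ M.subgroupOf K)) = ⊤ := by
      refine hgen _ (Subgroup.index_eq_one.1 ?_)
      have h1 := Subgroup.index_dvd_of_le (le_sup_left (a := (P : Subgroup (↥K ⧸ M.subgroupOf K)))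
        (b := commutator (↥K ⧸ M.subgroupOf K)))
      have h2 := Subgroup.index_dvd_of_le (le_sup_right (a := (P : Subgroup (↥K ⧸ M.subgroupOf K)))
        (b := commutator (↥K ⧸ M.subgroupOf K)))
      rw [hidx, hm] at h2
      obtain ⟨i, -, e⟩ := (Nat.dvd_prime_pow hp).1 h2
      rcases i with _ | i
      · simpa using e
      · exact absurd ((dvd_pow_self p i.succ_ne_zero).trans (e ▸ h1)) P.not_dvd_index
    obtain ⟨r, hr⟩ := IsPGroup.iff_card.1 P.2
    refine ⟨r, ?_⟩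
    rw [hcardQ, ← hr, hPtop, Subgroup.card_top]
  -- the last hypothesis
  obtain ⟨N', hN', h1, h2⟩ | h | h | h | ⟨p', r', hp', hr', hdvd⟩ := hgood
  · exact hnoN N' hN' h1 h2
  · exact hbig h
  · exact h ⟨p, r, hp, hr⟩
  · exact hc h
  have hr0 : r ≠ 0 := fun h => by
    rw [h, pow_zero, Subgroup.relIndex_eq_one] at hr
    exact hH₁K.not_ge (hr.trans hMH)
  obtain rfl : p = p' :=
    (Nat.prime_dvd_prime_iff_eq hp hp').1 (hp.dvd_of_dvd_pow ((dvd_pow_self p hr0).trans
      (dvd_of_eq (hr.symm.trans hr'))))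
  have hodp : Odd p := hodd.of_dvd_nat (hpn.trans ((Subgroup.index_dvd_card _).trans
    (Subgroup.card_subgroup_dvd_card K)))
  have h2e := le_of_dvd_sub_one (hodd.of_dvd_nat K.index_dvd_card) hodp hp.one_lt hdvd
  have hm1 : m = 1 := by
    by_contra hne
    have hm2 : 2 ≤ m := by
      rcases m with _ | _ | m
      · exact absurd (by simpa using hm) hn1
      · omega
      · omega
    have h3 : (2 * K.index + 1) ^ 2 ≤ p ^ m :=
      (Nat.pow_le_pow_left h2e 2).trans (Nat.pow_le_pow_right hp.pos hm2)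
    rw [← hm] at h3
    have := Nat.pos_of_ne_zero (Subgroup.index_ne_zero_of_finite (H := K))
    exact hbig (by nlinarith)
  rw [hm1, pow_one] at hm
  -- cyclic abelianization forces `K ⧸ M` to be abelian
  apply hc
  have hC : (commutator (↥K ⧸ M.subgroupOf K)) ≠ ⊤ := fun e => hp.ne_one (by
    rw [← hm, ← hidx, e, Subgroup.index_top])
  obtain ⟨g, -, hg⟩ := SetLike.exists_of_lt (lt_top_iff_ne_top.2 hC)
  have hsup : Subgroup.zpowers g ⊔ commutator (↥K ⧸ M.subgroupOf K) = ⊤ := by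
    have h1 := Subgroup.index_dvd_of_le (le_sup_right (a := Subgroup.zpowers g)
      (b := commutator (↥K ⧸ M.subgroupOf K)))
    rw [hidx, hm] at h1
    rcases (Nat.dvd_prime hp).1 h1 with e | e
    · exact Subgroup.index_eq_one.1 e
    · exfalso
      have h2 := Subgroup.relIndex_mul_index (le_sup_right (a := Subgroup.zpowers g)
        (b := commutator (↥K ⧸ M.subgroupOf K)))
      rw [hidx, hm, e, Nat.mul_eq_right hp.ne_zero, Subgroup.relIndex_eq_one] at h2
      exact hg (h2 (Subgroup.mem_sup_left (Subgroup.mem_zpowers g)))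
  have htop := hgen _ hsup
  rw [Subgroup.commutator_le]
  intro a ha b hb
  have hcomm : ∀ x y : ↥K ⧸ M.subgroupOf K, x * y = y * x := by
    intro x y
    obtain ⟨i, rfl⟩ : x ∈ Subgroup.zpowers g := htop ▸ Subgroup.mem_top x
    obtain ⟨j, rfl⟩ : y ∈ Subgroup.zpowers g := htop ▸ Subgroup.mem_top y
    exact ((Commute.refl g).zpow_zpow i j).eq
  have := hcomm (f ⟨a, ha⟩) (f ⟨b, hb⟩)
  rw [← commutatorElement_eq_one_iff_mul_comm, ← map_commutatorElement,
    QuotientGroup.mk'_apply, QuotientGroup.eq_one_iff] at this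
  exact this

end Cfsg.Agent.S1521
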