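import Cfsg.Statements.S1536
import Cfsg.Agent.Lib.CharApp.PermLemma
import Cfsg.Agent.Lib.Coprime.Invariant
import Cfsg.Agent.EqLemmas

set_option autoImplicit false
open Cfsg

namespace Cfsg.Agent.S1536

/-- Let H be a normal subgroup of the finite group M whose order is coprime to its index. For x ∈ M: some non-principal irreducible character of H is unchanged under h ↦ θ(x h x⁻¹) if and only if some non-identity element of H commutes with x. -/
theorem result {M : Type*} [Group M] [Finite M] (H : Subgroup M) [hN : H.Normal] (hHall : Nat.Coprime (Nat.card H) H.index) (x : M) : (∃ θ : H → ℂ, Cfsg.IsIrrCharacter H θ ∧ θ ≠ (fun _ => 1) ∧ (fun h : H => θ ⟨x * h * x⁻¹, hN.conj_mem h h.2 x⟩) = θ) ↔ ∃ h ∈ H, h ≠ 1 ∧ x * h = h * x := by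
  classical
  let α : H ≃* H := MulAut.conjNormal x
  have hα : ∀ h : H, (α h : M) = x * h * x⁻¹ := fun h => MulAut.conjNormal_apply x h
  have hα' : (fun h : H => (⟨x * h * x⁻¹, hN.conj_mem h h.2 x⟩ : H)) = α := by
    funext h; exact Subtype.ext (hα h).symm
  have e1 : (∃ θ : H → ℂ, Cfsg.IsIrrCharacter H θ ∧ θ ≠ (fun _ => 1) ∧
      (fun h : H => θ ⟨x * h * x⁻¹, hN.conj_mem h h.2 x⟩) = θ) ↔
      1 < Nat.card {χ : IrrCharacter H // (χ : H → ℂ) ∘ α = (χ : H → ℂ)} := by
    rw [Finite.one_lt_card_iff_nontrivial]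
    constructor
    · rintro ⟨θ, h1, h2, h3⟩
      refine ⟨⟨⟨θ, h1⟩, ?_⟩, ⟨⟨fun _ => 1, Char.isIrrCharacter_one⟩, rfl⟩, fun e => h2 ?_⟩
      · rw [← hα']; exact h3
      · exact congrArg (fun c => ((c.1 : IrrCharacter H) : H → ℂ)) e
    · intro hn
      obtain ⟨⟨θ, hθ⟩, hne⟩ := exists_ne
        (⟨⟨fun _ => 1, Char.isIrrCharacter_one⟩, rfl⟩ :
          {χ : IrrCharacter H // (χ : H → ℂ) ∘ α = (χ : H → ℂ)})
      refine ⟨θ, θ.2, fun e => hne (Subtype.ext (Subtype.ext e)), ?_⟩
      rw [← hα'] at hθ; exact hθ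
  have e2 : (∃ h : H, h ≠ 1 ∧ IsConj (α h) h) ↔
      1 < Nat.card {C : ConjClasses H // ConjClasses.map α.toMonoidHom C = C} := by
    have h1 : ConjClasses.map α.toMonoidHom (ConjClasses.mk (1 : H)) = ConjClasses.mk (1 : H) :=
      congrArg ConjClasses.mk (map_one α)
    rw [Finite.one_lt_card_iff_nontrivial]
    constructor
    · rintro ⟨h, hne, hc⟩
      refine ⟨⟨ConjClasses.mk h, ConjClasses.mk_eq_mk_iff_isConj.2 hc⟩, ⟨_, h1⟩, fun e => hne ?_⟩
      exact isConj_one_left.1 (ConjClasses.mk_eq_mk_iff_isConj.1 (congrArg Subtype.val e))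
    · intro hn
      obtain ⟨⟨C, hC⟩, hne⟩ := exists_ne (⟨_, h1⟩ :
        {C : ConjClasses H // ConjClasses.map α.toMonoidHom C = C})
      obtain ⟨h, rfl⟩ := ConjClasses.mk_surjective C
      exact ⟨h, fun e => hne (Subtype.ext (congrArg ConjClasses.mk e)),
        ConjClasses.mk_eq_mk_iff_isConj.1 hC⟩
  rw [e1, ← CharApp.card_fixed_automorphism, ← e2]
  constructor
  · rintro ⟨h, hne, hc⟩
    by_cases hcop : (orderOf x).Coprime (Nat.card H)
    · have hnorm : Subgroup.zpowers x ≤ Subgroup.normalizer (H : Set M) := by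
        rw [Subgroup.normalizer_eq_top]; exact le_top
      obtain ⟨c, hc'⟩ := isConj_iff.1 hc
      have h2 : (c : M) * (x * h * x⁻¹) * (c : M)⁻¹ = h := by
        rw [← hα]; exact congrArg Subtype.val hc'
      let T : Subgroup M := Subgroup.centralizer ({(h : M)} : Set M)
      have hx : (c : M) * x ∈ T := by
        rw [Subgroup.mem_centralizer_singleton_iff]
        conv_rhs => rw [← h2]
        group
      have hxs : x ∈ H ⊔ T := by
        have := Subgroup.mul_mem_sup (H.inv_mem c.2) hx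
        rwa [inv_mul_cancel_left] at this
      obtain ⟨n, hn, hnT⟩ := Coprime.exists_conj_le_of_forall (A := Subgroup.zpowers x) (K := H) hnorm
        (by rwa [Nat.card_zpowers]) (Or.inl inferInstance) T (fun a ha => by
          obtain ⟨u, hu, t, ht, rfl⟩ := Subgroup.mem_sup_of_normal_left.1
            ((Subgroup.zpowers_le.2 hxs) ha)
          exact ⟨u⁻¹, H.inv_mem hu, by rwa [inv_mul_cancel_left]⟩)
      have h3 : n * x * n⁻¹ ∈ T := hnT (Coprime.conj_mem_conj.2 (Subgroup.mem_zpowers x))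
      rw [Subgroup.mem_centralizer_singleton_iff] at h3
      refine ⟨n⁻¹ * h * n, H.mul_mem (H.mul_mem (H.inv_mem hn) h.2) hn, fun e => hne ?_, ?_⟩
      · apply Subtype.ext
        calc (h : M) = n * (n⁻¹ * h * n) * n⁻¹ := by group
          _ = 1 := by rw [e]; group
      · calc x * (n⁻¹ * h * n) = n⁻¹ * (n * x * n⁻¹ * h) * n := by group
          _ = n⁻¹ * (h * (n * x * n⁻¹)) * n := by rw [h3]
          _ = _ := by group
    · obtain ⟨p, hp, hpx, hpH⟩ := Nat.Prime.not_coprime_iff_dvd.1 hcop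
      have h0 : 0 < orderOf x := orderOf_pos x
      have hdvd : orderOf x / p ∣ orderOf x := Nat.div_dvd_of_dvd hpx
      set y := x ^ (orderOf x / p) with hy
      have hord : orderOf y = p := orderOf_pow_orderOf_div h0.ne' hpx
      refine ⟨y, ?_, fun e => ?_, ?_⟩
      · rw [← QuotientGroup.eq_one_iff (N := H), ← orderOf_eq_one_iff]
        refine Nat.eq_one_of_dvd_coprimes hHall
          (dvd_trans (orderOf_map_dvd (QuotientGroup.mk' H) y) (hord ▸ hpH))
          (by rw [Subgroup.index_eq_card]; exact orderOf_dvd_natCard _)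
      · rw [e, orderOf_one] at hord
        exact hp.one_lt.ne hord
      · rw [hy]; exact (Commute.self_pow x _)
  · rintro ⟨h, hH, hne, hc⟩
    refine ⟨⟨h, hH⟩, fun e => hne (congrArg Subtype.val e), ?_⟩
    rw [show α ⟨h, hH⟩ = ⟨h, hH⟩ from Subtype.ext (by rw [hα]; simp [hc])]

end Cfsg.Agent.S1536
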