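import Cfsg.Statements.S0184
import Cfsg.Agent.Lib.CharApp.Unitary

set_option autoImplicit false
open Cfsg

namespace Cfsg.Agent.S0184

open Module

/-- A cyclic group, via an injective homomorphism into a field. -/
theorem isCyclic_of_injective_ringHom {Z : Type*} [Group Z] [Finite Z] (f : Z →* ℂ)
    (hf : Function.Injective f) : IsCyclic Z := by
  letI : CommGroup Z := { mul_comm := fun x y => hf (by rw [map_mul, map_mul, mul_comm]) }
  exact isCyclic_of_subgroup_isDomain f hf

/-- The functions with `f (z * x) = ω * f x`, a `G`-invariant subspace for central `z`. -/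
def omegaSpace {G : Type*} [Group G] (z : G) (ω : ℂ) : Submodule ℂ (G → ℂ) where
  carrier := {f | ∀ x, f (x * z) = ω * f x}
  add_mem' := fun {f g} hf hg x => by simp [hf x, hg x, mul_add]
  zero_mem' := fun x => by simp
  smul_mem' := fun c f hf x => by simp [hf x]; ring

/-- Left translation of functions. -/
def transl {G : Type*} [Group G] : Representation ℂ G (G → ℂ) where
  toFun g := { toFun := fun f x => f (g⁻¹ * x), map_add' := fun _ _ => rfl, map_smul' := fun _ _ => rfl }
  map_one' := LinearMap.ext fun f => funext fun x => by simp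
  map_mul' a b := LinearMap.ext fun f => funext fun x => by simp [mul_assoc]

theorem exists_irr_ne_one {G : Type*} [Group G] [Finite G] (z : G) {ω : ℂ} (hω : ω ≠ 1)
    (hord : ω ^ orderOf z = 1) :
    ∃ (n : ℕ) (ρ : Representation ℂ G (Fin n → ℂ)), ρ.IsIrreducible ∧ ρ z ≠ 1 ∨
      (∃ g : G, z * g ≠ g * z) := by
  classical
  by_cases hz : ∃ g : G, z * g ≠ g * z
  · exact ⟨0, 1, Or.inr hz⟩
  push Not at hz
  haveI := Fintype.ofFinite G
  let P : ℕ → Prop := fun d => ∃ W : Submodule ℂ (G → ℂ), W ≠ ⊥ ∧ W ≤ omegaSpace z ω ∧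
    (∀ g : G, ∀ v ∈ W, transl g v ∈ W) ∧ finrank ℂ W = d
  have hne : omegaSpace z ω ≠ ⊥ := by
    intro hb
    let f₀ : G → ℂ := fun x =>
      if h : x ∈ Subgroup.zpowers z then ω ^ (Classical.choose
        (mem_powers_iff_mem_zpowers.mpr h)) else 0
    have hpow : ∀ a b : ℕ, z ^ a = z ^ b → ω ^ a = ω ^ b := fun a b e => by
      rw [pow_eq_pow_mod a hord, pow_eq_pow_mod b hord,
        show a % orderOf z = b % orderOf z from pow_eq_pow_iff_modEq.mp e]
    have hval : ∀ (x : G) (a : ℕ), x = z ^ a → f₀ x = ω ^ a := fun x a e => by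
      have h : x ∈ Subgroup.zpowers z := e ▸ Subgroup.npow_mem_zpowers z a
      simp only [f₀, dif_pos h]
      exact hpow _ _ ((Classical.choose_spec (mem_powers_iff_mem_zpowers.mpr h)).trans e)
    have hmem : f₀ ∈ omegaSpace z ω := by
      intro x
      by_cases h : x ∈ Subgroup.zpowers z
      · obtain ⟨a, ha⟩ := mem_powers_iff_mem_zpowers.mpr h
        rw [hval x a ha.symm, hval (x * z) (a + 1) (by rw [← ha, pow_succ]), pow_succ, mul_comm]
      · have h' : x * z ∉ Subgroup.zpowers z := fun h' =>
          h (by simpa using Subgroup.mul_mem _ h' (Subgroup.inv_mem _ (Subgroup.mem_zpowers z)))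
        simp only [f₀, dif_neg h, dif_neg h', mul_zero]
    rw [hb, Submodule.mem_bot] at hmem
    have := hval 1 0 (by simp)
    rw [hmem] at this
    simp at this
  have hinv : ∀ g : G, ∀ v ∈ omegaSpace z ω, transl g v ∈ omegaSpace z ω := by
    intro g v hv x
    show v (g⁻¹ * (x * z)) = ω * v (g⁻¹ * x)
    rw [← mul_assoc]; exact hv _
  have hP : ∃ d, P d := ⟨_, omegaSpace z ω, hne, le_rfl, hinv, rfl⟩
  obtain ⟨W, hW0, hWle, hWinv, hWd⟩ := Nat.find_spec hP
  let σ : Representation ℂ G W := (⟨W, hWinv⟩ : Subrepresentation transl).toRepresentation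
  haveI : Nontrivial W := Submodule.nontrivial_iff_ne_bot.mpr hW0
  haveI hirr : σ.IsIrreducible := by
    refine CharApp.isIrreducible_of_forall_invariant σ fun U hU => ?_
    by_cases hU0 : U = ⊥
    · exact Or.inl hU0
    right
    have h1 : P (finrank ℂ (U.map W.subtype)) := by
      refine ⟨U.map W.subtype, ?_, le_trans (Submodule.map_subtype_le W U) hWle, ?_, rfl⟩
      · intro h
        exact hU0 (Submodule.map_injective_of_injective W.injective_subtype (h.trans (Submodule.map_bot _).symm))
      · rintro g v ⟨u, hu, rfl⟩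
        exact ⟨σ g u, hU g u hu, rfl⟩
    have h2 := Nat.find_min' hP h1
    rw [← hWd, Submodule.finrank_map_subtype_eq] at h2
    exact Submodule.eq_top_of_finrank_eq (le_antisymm (Submodule.finrank_le U) h2)
  let e := (finBasis ℂ W).equivFun
  let ρ : Representation ℂ G (Fin (finrank ℂ W) → ℂ) :=
    MonoidHom.comp (e.conjAlgEquiv ℂ).toAlgHom.toRingHom.toMonoidHom σ
  have hρ : ∀ g v, ρ g v = e (σ g (e.symm v)) := fun g v => rfl
  refine ⟨finrank ℂ W, ρ, Or.inl ⟨?_, ?_⟩⟩
  · haveI : Nontrivial (Fin (finrank ℂ W) → ℂ) := e.symm.toEquiv.nontrivial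
    refine CharApp.isIrreducible_of_forall_invariant ρ fun U hU => ?_
    rcases CharApp.eq_bot_or_top_of_invariant σ (U.map e.symm.toLinearMap) (by
      rintro g v ⟨u, hu, rfl⟩
      refine ⟨ρ g u, hU g u hu, ?_⟩
      simp [hρ]) with h | h
    · exact Or.inl (Submodule.map_injective_of_injective e.symm.injective (h.trans (Submodule.map_bot _).symm))
    · exact Or.inr (Submodule.map_injective_of_injective e.symm.injective
        (h.trans (Submodule.map_top _ |>.trans (LinearMap.range_eq_top.mpr e.symm.surjective)).symm))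
  · intro h1
    obtain ⟨v, hv, hv0⟩ := Submodule.exists_mem_ne_zero_of_ne_bot hW0
    have h2 : σ z ⟨v, hv⟩ = ⟨v, hv⟩ := by
      apply e.injective
      have := LinearMap.congr_fun h1 (e ⟨v, hv⟩)
      simpa [hρ] using this
    have h3 : ∀ x, v (z⁻¹ * x) = v x := fun x => congrFun (congrArg Subtype.val h2) x
    apply hv0
    funext x
    have h4 := hWle hv (z⁻¹ * x)
    rw [mul_assoc, ← (hz x), inv_mul_cancel_left, h3] at h4
    have h5 : (1 - ω) * v x = 0 := by rw [sub_mul, one_mul, sub_eq_zero]; exact h4
    exact (mul_eq_zero.mp h5).resolve_left (sub_ne_zero.mpr (Ne.symm hω))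

theorem exists_faithful {G : Type*} [Group G] [Finite G] (p : ℕ) [Fact p.Prime] (hG : IsPGroup p G)
    (hcyc : IsCyclic (Subgroup.center G)) :
    ∃ (n : ℕ) (ρ : Representation ℂ G (Fin n → ℂ)), ρ.IsIrreducible ∧ Function.Injective ρ := by
  classical
  rcases subsingleton_or_nontrivial G with hsub | hnt
  · refine ⟨1, 1, ?_, fun a b _ => Subsingleton.elim a b⟩
    exact CharApp.isIrreducible_of_forall_invariant _ fun W _ => by
      by_cases hW : W = ⊥
      · exact Or.inl hW
      · refine Or.inr (Submodule.eq_top_of_finrank_eq ?_)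
        have h1 := Submodule.finrank_le W
        have h2 : Module.finrank ℂ W ≠ 0 := fun h => hW (Submodule.finrank_eq_zero.mp h)
        simp at h1 ⊢
        omega
  haveI := Fintype.ofFinite G
  have hZ : Nontrivial (Subgroup.center G) := hG.center_nontrivial
  obtain ⟨z, hz⟩ := exists_prime_orderOf_dvd_card' (G := Subgroup.center G) p (by
    obtain ⟨k, hk, he⟩ := (hG.to_subgroup (Subgroup.center G)).nontrivial_iff_card.mp hZ
    rw [he]; exact dvd_pow_self p (by omega))
  have hzc : ∀ g : G, (z : G) * g = g * z := fun g => (Subgroup.mem_center_iff.mp z.2 g).symm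
  have hzo : orderOf (z : G) = p := by rw [Subgroup.orderOf_coe, hz]
  have hp : p.Prime := Fact.out
  let ω := Complex.exp (2 * Real.pi * Complex.I / p)
  have hprim : IsPrimitiveRoot ω p := Complex.isPrimitiveRoot_exp p hp.ne_zero
  obtain ⟨n, ρ, h⟩ := exists_irr_ne_one (z : G) (hprim.ne_one hp.one_lt)
    (by rw [hzo]; exact hprim.pow_eq_one)
  obtain ⟨hρ, hρz⟩ := h.resolve_right fun ⟨g, hg⟩ => hg (hzc g)
  refine ⟨n, ρ, hρ, ?_⟩
  let ρ' : G →* (Fin n → ℂ) →ₗ[ℂ] (Fin n → ℂ) := ρ
  by_contra hinj
  have hne : ∃ a : G, a ≠ 1 ∧ ρ a = 1 := by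
    simp only [Function.Injective] at hinj
    push Not at hinj
    obtain ⟨a, b, hab, hne⟩ := hinj
    exact ⟨a * b⁻¹, fun h => hne (mul_inv_eq_one.mp h),
      by rw [map_mul, hab, ← map_mul, mul_inv_cancel, map_one]⟩
  let K : Subgroup G :=
    { carrier := {g | ρ g = 1}
      one_mem' := map_one ρ
      mul_mem' := fun {a b} (ha : ρ a = 1) (hb : ρ b = 1) => by
        show ρ (a * b) = 1; rw [map_mul, ha, hb, one_mul]
      inv_mem' := fun {a} (ha : ρ a = 1) => by
        show ρ a⁻¹ = 1
        calc ρ a⁻¹ = ρ a⁻¹ * ρ a := by rw [ha, mul_one]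
          _ = 1 := by rw [← map_mul, inv_mul_cancel, map_one] }
  haveI : K.Normal := ⟨fun a (ha : ρ a = 1) g => by
    show ρ (g * a * g⁻¹) = 1
    rw [map_mul, map_mul, ha, mul_one, ← map_mul, mul_inv_cancel, map_one]⟩
  haveI : Nontrivial K := by
    obtain ⟨a, ha, hra⟩ := hne
    exact ⟨⟨a, hra⟩, 1, fun h => ha (congrArg Subtype.val h)⟩
  -- conjugation on `K` has a non-trivial fixed point
  obtain ⟨w, hwK, hwZ, hw1⟩ : ∃ w : G, w ∈ K ∧ w ∈ Subgroup.center G ∧ w ≠ 1 := by
    have hp' : IsPGroup p (ConjAct G) := hG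
    obtain ⟨k, hk, he⟩ := (hG.to_subgroup K).nontrivial_iff_card.mp inferInstance
    obtain ⟨b, hb, hb1⟩ := hp'.exists_fixed_point_of_prime_dvd_card_of_fixed_point K
      (by rw [he]; exact dvd_pow_self p (by omega))
      (a := (1 : K)) (fun g => smul_one g)
    refine ⟨b, b.2, ?_, fun h => hb1 (Subtype.ext h).symm⟩
    rw [Subgroup.mem_center_iff]
    intro g
    have := congrArg Subtype.val (hb (ConjAct.toConjAct g))
    rw [ConjAct.Subgroup.val_conj_smul, ConjAct.toConjAct_smul, mul_inv_eq_iff_eq_mul] at this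
    exact this
  -- some power of `w` has order `p`, hence generates the unique such subgroup of the centre
  obtain ⟨k, hk⟩ : ∃ k, orderOf (⟨w, hwZ⟩ : Subgroup.center G) = p ^ k := by
    obtain ⟨k, _, hk⟩ := (Nat.dvd_prime_pow hp).mp
      (hG.to_subgroup (Subgroup.center G) |>.exists_card_eq.choose_spec ▸
        orderOf_dvd_natCard (⟨w, hwZ⟩ : Subgroup.center G))
    exact ⟨k, hk⟩
  have hk0 : k ≠ 0 := by
    rintro rfl
    rw [pow_zero, orderOf_eq_one_iff] at hk
    exact hw1 (congrArg Subtype.val hk)
  set u : Subgroup.center G := ⟨w, hwZ⟩ ^ p ^ (k - 1) with hu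
  have huo : orderOf u = p := by
    rw [hu, orderOf_pow, hk, Nat.gcd_eq_right (pow_dvd_pow p (by omega)),
      Nat.pow_div (by omega) hp.pos, show k - (k - 1) = 1 by omega, pow_one]
  have hsame : Subgroup.zpowers u = Subgroup.zpowers z := by
    haveI := hcyc
    have key : ∀ v : Subgroup.center G, orderOf v = p →
        ((Subgroup.zpowers v : Set (Subgroup.center G)).toFinset) =
          Finset.univ.filter fun a : Subgroup.center G => a ^ p = 1 := by
      intro v hv
      refine Finset.eq_of_subset_of_card_le (fun a ha => ?_) ?_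
      · rw [Set.mem_toFinset] at ha
        obtain ⟨j, rfl⟩ := mem_powers_iff_mem_zpowers.mpr ha
        simp only [Finset.mem_filter, Finset.mem_univ, true_and]
        show (v ^ j) ^ p = 1
        rw [← pow_mul, mul_comm, pow_mul, ← hv, pow_orderOf_eq_one, one_pow]
      · refine (IsCyclic.card_pow_eq_one_le hp.pos).trans ?_
        rw [Set.toFinset_card]
        exact le_of_eq (by rw [← hv]; exact (Fintype.card_zpowers (x := v)).symm)
    have := (key u huo).trans (key z hz).symm
    exact SetLike.coe_injective (Set.toFinset_inj.mp this)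
  have hzu : z ∈ Subgroup.zpowers u := hsame ▸ Subgroup.mem_zpowers z
  obtain ⟨i, hi⟩ := mem_powers_iff_mem_zpowers.mpr hzu
  apply hρz
  have : (z : G) ∈ K := by
    rw [← hi, hu]
    push_cast
    exact K.pow_mem (K.pow_mem hwK _) _
  exact this


/-- A finite p-group admits a faithful irreducible complex representation if and only if its centre is cyclic. -/
theorem result {G : Type*} [Group G] [Finite G] (p : ℕ) [Fact p.Prime] (hG : IsPGroup p G) : (∃ (n : ℕ) (ρ : Representation ℂ G (Fin n → ℂ)), ρ.IsIrreducible ∧ Function.Injective ρ) ↔ IsCyclic (Subgroup.center G) := by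
  classical
  haveI := Fintype.ofFinite G
  constructor
  · rintro ⟨n, ρ, hρ, hinj⟩
    haveI := hρ
    let f : Subgroup.center G →* ℂ :=
      { toFun := fun z => Classical.choose (CharApp.exists_scalar_of_mem_center ρ z.2)
        map_one' := by
          have h := CharApp.scalar_eq_trace_div ρ
            (Classical.choose_spec (CharApp.exists_scalar_of_mem_center ρ (1 : Subgroup.center G).2))
          refine h.trans ?_
          rw [OneMemClass.coe_one, map_one, LinearMap.trace_one,
            div_self (CharApp.finrank_cast_ne_zero ρ)]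
        map_mul' := fun x y => by
          have hx := Classical.choose_spec (CharApp.exists_scalar_of_mem_center ρ x.2)
          have hy := Classical.choose_spec (CharApp.exists_scalar_of_mem_center ρ y.2)
          have h := Classical.choose_spec (CharApp.exists_scalar_of_mem_center ρ (x * y).2)
          generalize Classical.choose (CharApp.exists_scalar_of_mem_center ρ x.2) = a at hx ⊢
          generalize Classical.choose (CharApp.exists_scalar_of_mem_center ρ y.2) = b at hy ⊢
          generalize Classical.choose (CharApp.exists_scalar_of_mem_center ρ (x * y).2) = c at h ⊢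
          have e : ρ ((x * y : Subgroup.center G) : G) = (a * b) • 1 := by
            rw [Subgroup.coe_mul, map_mul, hx, hy, smul_mul_smul_comm, one_mul]
          exact (CharApp.scalar_eq_trace_div ρ h).trans (CharApp.scalar_eq_trace_div ρ e).symm }
    refine isCyclic_of_injective_ringHom f ?_
    intro x y e
    refine Subtype.ext (hinj ?_)
    rw [Classical.choose_spec (CharApp.exists_scalar_of_mem_center ρ x.2),
      Classical.choose_spec (CharApp.exists_scalar_of_mem_center ρ y.2)]
    exact congrArg (fun c : ℂ => c • (1 : Module.End ℂ (Fin n → ℂ))) e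
  · intro hcyc
    exact exists_faithful p hG hcyc

end Cfsg.Agent.S0184
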