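import Cfsg.Statements.S4845
import Cfsg.Agent.Lib.Codegree.Basic
import Cfsg.Agent.Lib.Char.Linear
import Cfsg.Agent.Lib.GaloisPow.Twist
import Cfsg.Agent.Lib.PGroup.Basic
import Cfsg.Agent.Lib.ClassIndex.Basic
import Cfsg.Agent.S0184

set_option autoImplicit false
set_option linter.style.haveILetI false

namespace Cfsg.Agent.S4845

open Cfsg
open scoped commutatorElement ComplexConjugate
open Cfsg.Agent.Codegree (kerSub mem_kerSub)
open Cfsg.Agent.TwoClassChar (deg_eq deg_pos)

universe u
variable {Q : Type u} [Group Q] [Finite Q] {p : ℕ} [hp : Fact p.Prime]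

/-- Characters of equal degree `≠ 1` are Galois conjugate. -/
def GalEq (Q : Type u) [Group Q] : Prop :=
  ∀ χ ψ : Cfsg.IrrCharacter Q, Cfsg.charDegree (χ : Q → ℂ) ≠ 1 →
    Cfsg.charDegree (χ : Q → ℂ) = Cfsg.charDegree (ψ : Q → ℂ) →
    ∃ k : ℕ, Nat.Coprime k (Nat.card Q) ∧ ∀ g : Q, (ψ : Q → ℂ) g = (χ : Q → ℂ) (g ^ k)

theorem galEq_quot (h : GalEq Q) (N : Subgroup Q) [N.Normal] : GalEq (Q ⧸ N) := by
  intro χ ψ h1 h2
  obtain ⟨k, hk, hg⟩ := h (Codegree.inflate N χ) (Codegree.inflate N ψ) h1 h2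
  refine ⟨k, hk.coprime_dvd_right (Subgroup.card_quotient_dvd_card N), fun g => ?_⟩
  obtain ⟨x, rfl⟩ := QuotientGroup.mk_surjective g
  exact (hg x).trans (by rw [Codegree.inflate_apply, QuotientGroup.mk_pow])

theorem ker_eq {χ ψ : IrrCharacter Q} {k : ℕ} (hk : k.Coprime (Nat.card Q))
    (h : ∀ g : Q, (ψ : Q → ℂ) g = (χ : Q → ℂ) (g ^ k)) : kerSub ψ = kerSub χ := by
  ext g
  rw [mem_kerSub, mem_kerSub, h, h, one_pow]
  refine ⟨fun hg => ?_, fun hg => pow_mem (show g ∈ kerSub χ from hg) k⟩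
  have hc : (orderOf g).Coprime k := (hk.coprime_dvd_right (orderOf_dvd_natCard g)).symm
  obtain ⟨j, hj⟩ := exists_pow_eq_self_of_coprime hc.symm
  show g ∈ kerSub χ
  rw [← hj]
  exact pow_mem (show g ^ k ∈ kerSub χ from hg) j

theorem commutator_eq_bot_iff : commutator Q = ⊥ ↔ IsMulCommutative Q := by
  rw [commutator_def, Subgroup.commutator_eq_bot_iff_le_centralizer]
  constructor
  · exact fun h => ⟨⟨fun a b =>
      (Subgroup.mem_centralizer_iff.1 (h (Subgroup.mem_top b)) a (Subgroup.mem_top a))⟩⟩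
  · exact fun h x _ => Subgroup.mem_centralizer_iff.2 fun y _ => h.1.1 y x

theorem exists_nonlinear (h : commutator Q ≠ ⊥) :
    ∃ χ : IrrCharacter Q, charDegree (χ : Q → ℂ) ≠ 1 := by
  by_contra hall
  push Not at hall
  refine h (commutator_eq_bot_iff.2 ⟨⟨Char.comm_of_forall_degree_one fun χ => ?_⟩⟩)
  rw [deg_eq χ.2, hall χ, Nat.cast_one]

theorem deg_one_of_commutator_le {χ : IrrCharacter Q} (h : commutator Q ≤ kerSub χ) :
    charDegree (χ : Q → ℂ) = 1 := by
  obtain ⟨ψ, hψ⟩ := Codegree.exists_quot χ (commutator Q) h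
  have hab : ∀ a b : Q ⧸ commutator Q, a * b = b * a := fun a b => mul_comm (G := Abelianization Q) a b
  have h1 := Char.apply_one_eq_one_of_comm hab ψ
  rw [← QuotientGroup.mk_one, hψ, deg_eq χ.2] at h1
  exact_mod_cast h1

set_option linter.unusedSectionVars false

section minimal

variable (hQ : IsPGroup p Q) (hc : Nat.card (commutator Q) = p) {χ : IrrCharacter Q}
  (hd : charDegree (χ : Q → ℂ) ≠ 1)

include hc hd in
omit hp in
theorem eq_one_of_mem_ker [Fact p.Prime] {z : Q} (hz : z ∈ commutator Q) (hk : z ∈ kerSub χ) :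
    z = 1 := by
  by_contra hne
  refine hd (deg_one_of_commutator_le ?_)
  have h1 : Subgroup.zpowers z = commutator Q := by
    refine Subgroup.eq_of_le_of_card_ge (Subgroup.zpowers_le.2 hz) ?_
    rw [hc, Nat.card_zpowers]
    have h2 := Subgroup.orderOf_dvd_natCard _ hz
    rw [hc] at h2
    rcases (Nat.dvd_prime (Fact.out : p.Prime)).1 h2 with e | e
    · exact absurd (orderOf_eq_one_iff.1 e) hne
    · exact e.ge
  rw [← h1]
  exact Subgroup.zpowers_le.2 hk

include hQ hc hd in
theorem vanish {x : Q} (hx : x ∉ Subgroup.center Q) : (χ : Q → ℂ) x = 0 := by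
  obtain ⟨h, hne⟩ : ∃ h : Q, h * x ≠ x * h := by
    by_contra hall
    push Not at hall
    exact hx (Subgroup.mem_center_iff.2 hall)
  have hzc : ⁅x, h⁆ ∈ commutator Q := Subgroup.commutator_mem_commutator trivial trivial
  have hzZ := PGroup.le_center_of_card_eq hQ hc hzc
  have hz1 : ⁅x, h⁆ ≠ 1 := fun e => hne (commutatorElement_eq_one_iff_mul_comm.1 e).symm
  obtain ⟨n, ρ, hρ, hρc⟩ := χ.2
  haveI := hρ
  obtain ⟨ω, hω⟩ := CharApp.exists_scalar_of_mem_center ρ hzZ
  have hω1 : ω ≠ 1 := fun e => hz1 (eq_one_of_mem_ker hc hd hzc (by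
    rw [mem_kerSub, ← hρc]
    show LinearMap.trace ℂ _ (ρ _) = LinearMap.trace ℂ _ (ρ 1)
    rw [hω, e, one_smul, map_one ρ]))
  have h6 : (χ : Q → ℂ) (h * x * h⁻¹) = (χ : Q → ℂ) x :=
    Char.IsCharacter.isClassFunction ⟨n, ρ, hρc⟩ x h
  have h7 : ⁅x, h⁆ * (h * x * h⁻¹) = x := by rw [commutatorElement_def]; group
  have h8 : (χ : Q → ℂ) x = ω * (χ : Q → ℂ) x := by
    conv_lhs => rw [← h7]
    conv_rhs => rw [← h6]
    rw [← hρc]
    show LinearMap.trace ℂ _ (ρ _) = ω * LinearMap.trace ℂ _ (ρ _)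
    rw [map_mul, hω, smul_mul_assoc, one_mul, map_smul, smul_eq_mul]
  by_contra h0
  exact hω1 (mul_right_cancel₀ h0 (h8.symm.trans (one_mul _).symm))

theorem norm_center (χ : IrrCharacter Q) {z : Q} (hz : z ∈ Subgroup.center Q) :
    Complex.normSq ((χ : Q → ℂ) z) = (charDegree (χ : Q → ℂ) : ℝ) ^ 2 := by
  obtain ⟨n, ρ, hρ, hρc⟩ := χ.2
  haveI := hρ
  obtain ⟨ω, hω⟩ := CharApp.exists_scalar_of_mem_center ρ hz
  have h := (Char.norm_character_eq_iff ρ z).2 ⟨ω, hω⟩
  have hn : (charDegree (χ : Q → ℂ) : ℂ) = n := by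
    rw [← deg_eq χ.2, ← hρc, Representation.char_one, Module.finrank_fin_fun]
  rw [hρc, Module.finrank_fin_fun] at h
  rw [Complex.normSq_eq_norm_sq, h, Nat.cast_injective hn]

theorem sum_normSq (χ : IrrCharacter Q) [Fintype Q] :
    ∑ g : Q, Complex.normSq ((χ : Q → ℂ) g) = (Nat.card Q : ℝ) := by
  classical
  apply Complex.ofReal_injective
  push_cast
  simp only [← Complex.mul_conj]
  rw [TwoClassChar.row_orth, if_pos rfl]

theorem sq_deg_le (χ : IrrCharacter Q) :
    charDegree (χ : Q → ℂ) ^ 2 * Nat.card (Subgroup.center Q) ≤ Nat.card Q := by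
  classical
  haveI := Fintype.ofFinite Q
  suffices h : ((charDegree (χ : Q → ℂ) : ℝ) ^ 2) * Nat.card (Subgroup.center Q) ≤ Nat.card Q by
    exact_mod_cast h
  rw [← sum_normSq χ]
  refine le_trans (le_of_eq ?_) (Finset.sum_le_sum_of_subset_of_nonneg
    (s := Finset.univ.filter (· ∈ Subgroup.center Q)) (Finset.subset_univ _)
    fun g _ _ => Complex.normSq_nonneg _)
  rw [Finset.sum_congr rfl (g := fun _ => (charDegree (χ : Q → ℂ) : ℝ) ^ 2)
    fun g hg => norm_center χ (Finset.mem_filter.1 hg).2, Finset.sum_const, nsmul_eq_mul, mul_comm]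
  congr 1
  rw [Nat.card_eq_fintype_card, Fintype.card_subtype]

include hQ hc hd in
theorem sq_deg : charDegree (χ : Q → ℂ) ^ 2 * Nat.card (Subgroup.center Q) = Nat.card Q := by
  classical
  haveI := Fintype.ofFinite Q
  suffices h : ((charDegree (χ : Q → ℂ) : ℝ) ^ 2) * Nat.card (Subgroup.center Q) = Nat.card Q by
    exact_mod_cast h
  rw [← sum_normSq χ, ← Finset.sum_filter_add_sum_filter_not Finset.univ (· ∈ Subgroup.center Q),
    Finset.sum_eq_zero (s := Finset.univ.filter (· ∉ Subgroup.center Q)) fun g hg => by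
      rw [vanish hQ hc hd (Finset.mem_filter.1 hg).2, map_zero], add_zero,
    Finset.sum_congr rfl (g := fun _ => (charDegree (χ : Q → ℂ) : ℝ) ^ 2)
    fun g hg => norm_center χ (Finset.mem_filter.1 hg).2, Finset.sum_const, nsmul_eq_mul, mul_comm]
  congr 1
  rw [Nat.card_eq_fintype_card, Fintype.card_subtype]

include hQ hc hd in
theorem faithful_of_cyclic [IsCyclic (Subgroup.center Q)] : kerSub χ = ⊥ := by
  classical
  by_contra hne
  obtain ⟨Z, hZn, hZk, hZc, hZ⟩ := PGroup.exists_normal_card_eq_prime hQ hne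
  have hcc : commutator Q ≤ Subgroup.center Q := PGroup.le_center_of_card_eq hQ hc
  haveI := Fintype.ofFinite (Subgroup.center Q)
  -- the subgroup of order `p` of a cyclic group is unique
  have key : ∀ A : Subgroup Q, A ≤ Subgroup.center Q → Nat.card A = p →
      (A.subgroupOf (Subgroup.center Q) : Set (Subgroup.center Q)) = {a | a ^ p = 1} := by
    intro A hA hAp
    refine Set.ext fun a => ?_
    simp only [SetLike.mem_coe, Set.mem_ofPred_eq]
    constructor
    · intro ha
      refine Subtype.ext ?_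
      rw [Subgroup.coe_pow, OneMemClass.coe_one]
      exact orderOf_dvd_iff_pow_eq_one.1 (hAp ▸ Subgroup.orderOf_dvd_natCard _ ha)
    · intro ha
      by_contra hna
      have h1 := IsCyclic.card_pow_eq_one_le (α := Subgroup.center Q) hp.out.pos
      have h2 : insert a ((A.subgroupOf (Subgroup.center Q) : Set (Subgroup.center Q)).toFinset) ⊆
          Finset.univ.filter (fun b : Subgroup.center Q => b ^ p = 1) := by
        intro b hb
        rw [Finset.mem_insert, Set.mem_toFinset] at hb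
        refine Finset.mem_filter.2 ⟨Finset.mem_univ _, ?_⟩
        rcases hb with rfl | hb
        · exact ha
        · refine Subtype.ext ?_
          rw [Subgroup.coe_pow, OneMemClass.coe_one]
          exact orderOf_dvd_iff_pow_eq_one.1 (hAp ▸ Subgroup.orderOf_dvd_natCard _ hb)
      have h3 := (Finset.card_le_card h2).trans h1
      have h4 : (A.subgroupOf (Subgroup.center Q) : Set (Subgroup.center Q)).toFinset.card = p := by
        rw [Set.toFinset_card, ← Nat.card_eq_fintype_card, ← hAp]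
        exact Nat.card_congr (Subgroup.subgroupOfEquivOfLe hA).toEquiv
      rw [Finset.card_insert_of_notMem (by rw [Set.mem_toFinset]; exact hna), h4] at h3
      omega
  have e : Z.subgroupOf (Subgroup.center Q) = (commutator Q).subgroupOf (Subgroup.center Q) :=
    SetLike.coe_injective ((key Z hZc hZ).trans (key _ hcc hc).symm)
  have hZ1 : Z ≠ ⊥ := fun e => hp.out.ne_one (by rw [← hZ, e, Subgroup.card_bot])
  obtain ⟨⟨z, hz⟩, hz1⟩ := Subgroup.ne_bot_iff_exists_ne_one.1 hZ1
  have h5 : (⟨z, hZc hz⟩ : Subgroup.center Q) ∈ (commutator Q).subgroupOf (Subgroup.center Q) := by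
    rw [← e]; exact hz
  exact hz1 (Subtype.ext (eq_one_of_mem_ker hc hd h5 (hZk hz)))

omit χ hd in
include hQ hc in
theorem cyclic_center_of_galEq (hG : GalEq Q) : IsCyclic (Subgroup.center Q) := by
  classical
  have hne : commutator Q ≠ ⊥ := fun e => hp.out.ne_one (by rw [← hc, e, Subgroup.card_bot])
  obtain ⟨χ, hd⟩ := exists_nonlinear hne
  have hker : ∀ g ∈ kerSub χ, g = 1 := by
    intro g hg
    refine eq_one_of_mem_ker hc hd ?_ hg
    by_contra hgc
    obtain ⟨ψ, hψ⟩ : ∃ ψ : IrrCharacter (Q ⧸ commutator Q),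
        (ψ : Q ⧸ commutator Q → ℂ) (g : Q ⧸ commutator Q) ≠ (ψ : Q ⧸ commutator Q → ℂ) 1 := by
      by_contra hall
      push Not at hall
      exact hgc ((QuotientGroup.eq_one_iff g).1
        (isConj_one_left.1 ((Char.isConj_iff_irr _ _).2 hall)))
    have hab : ∀ a b : Q ⧸ commutator Q, a * b = b * a := fun a b =>
      mul_comm (G := Abelianization Q) a b
    have h1 := Char.apply_one_eq_one_of_comm hab ψ
    haveI := Fintype.ofFinite Q
    obtain ⟨l, hl⟩ := Char.exists_hom_of_degree_one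
      (Char.IsIrrCharacter.isCharacter ψ.2) h1
    let χ' : IrrCharacter Q :=
      ⟨_, Char.IsIrrCharacter.mul_linear χ.2 (l.comp (QuotientGroup.mk' (commutator Q)))⟩
    have hv' : ∀ x, (χ' : Q → ℂ) x = (χ : Q → ℂ) x * l (x : Q ⧸ commutator Q) := fun x => rfl
    have hdeg : charDegree (χ : Q → ℂ) = charDegree (χ' : Q → ℂ) := by
      apply Nat.cast_injective (R := ℂ)
      rw [← deg_eq χ.2, ← deg_eq χ'.2, hv', QuotientGroup.mk_one, map_one, mul_one]
    obtain ⟨k, hk, hkv⟩ := hG χ χ' hd hdeg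
    have h2 : g ∈ kerSub χ' := (ker_eq hk hkv).symm ▸ hg
    rw [mem_kerSub, hv', hv', mem_kerSub.1 hg, QuotientGroup.mk_one, map_one] at h2
    have h3 := mul_left_cancel₀ (Char.IsIrrCharacter.apply_one_ne_zero χ.2) h2
    exact hψ (by rw [← congrFun hl, ← congrFun hl, h3, map_one])
  obtain ⟨n, ρ, hρ, hρc⟩ := χ.2
  refine (S0184.result p hQ).1 ⟨n, ρ, hρ, fun a b hab => ?_⟩
  refine mul_inv_eq_one.1 (hker _ ?_)
  rw [mem_kerSub, ← hρc]
  show LinearMap.trace ℂ _ (ρ _) = LinearMap.trace ℂ _ (ρ 1)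
  rw [map_mul, hab, ← map_mul, mul_inv_cancel]

end minimal

theorem card_map_mul (N H : Subgroup Q) [N.Normal] (h : N ≤ H) :
    Nat.card (H.map (QuotientGroup.mk' N)) * Nat.card N = Nat.card H := by
  rw [← Subgroup.relIndex_ker, QuotientGroup.ker_mk', mul_comm, Subgroup.relIndex,
    ← Nat.card_congr (Subgroup.subgroupOfEquivOfLe h).toEquiv, Subgroup.card_mul_index]

theorem commutator_quot (N : Subgroup Q) [N.Normal] :
    commutator (Q ⧸ N) = (commutator Q).map (QuotientGroup.mk' N) := by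
  rw [commutator_def, commutator_def, Subgroup.map_commutator,
    Subgroup.map_top_of_surjective _ (QuotientGroup.mk'_surjective N)]

theorem mem_zpowers_or_of_cyclic {A : Type*} [Group A] [Finite A] [IsCyclic A]
    (hA : IsPGroup p A) (a b : A) : a ∈ Subgroup.zpowers b ∨ b ∈ Subgroup.zpowers a := by
  classical
  haveI := Fintype.ofFinite A
  have key : ∀ a b : A, orderOf a ∣ orderOf b → a ∈ Subgroup.zpowers b := by
    intro a b h
    by_contra hna
    have h1 := IsCyclic.card_pow_eq_one_le (α := A) (orderOf_pos b)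
    have h2 : insert a ((Subgroup.zpowers b : Set A).toFinset) ⊆
        Finset.univ.filter (fun c : A => c ^ orderOf b = 1) := by
      intro c hc
      rw [Finset.mem_insert, Set.mem_toFinset] at hc
      refine Finset.mem_filter.2 ⟨Finset.mem_univ _, ?_⟩
      rcases hc with rfl | hc
      · exact orderOf_dvd_iff_pow_eq_one.1 h
      · exact orderOf_dvd_iff_pow_eq_one.1
          ((Subgroup.orderOf_dvd_natCard _ hc).trans (dvd_of_eq (Nat.card_zpowers b)))
    have h3 := (Finset.card_le_card h2).trans h1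
    rw [Finset.card_insert_of_notMem (by rw [Set.mem_toFinset]; exact hna), Set.toFinset_card,
      ← Nat.card_eq_fintype_card] at h3
    have := Nat.card_zpowers b
    change Nat.card (Subgroup.zpowers b) + 1 ≤ _ at h3
    omega
  obtain ⟨i, hi⟩ := IsPGroup.iff_orderOf.1 hA a
  obtain ⟨j, hj⟩ := IsPGroup.iff_orderOf.1 hA b
  rcases le_total i j with h | h
  · exact Or.inl (key a b (hi ▸ hj ▸ pow_dvd_pow p h))
  · exact Or.inr (key b a (hi ▸ hj ▸ pow_dvd_pow p h))

/-- The preimage of the centre of `Q ⧸ R`. -/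
def cMod (R : Subgroup Q) [R.Normal] : Subgroup Q :=
  (Subgroup.center (Q ⧸ R)).comap (QuotientGroup.mk' R)

theorem mem_cMod {R : Subgroup Q} [R.Normal] {x : Q} :
    x ∈ cMod R ↔ ∀ y : Q, ⁅x, y⁆ ∈ R := by
  constructor
  · intro h y
    rw [← QuotientGroup.eq_one_iff, ← QuotientGroup.mk'_apply, map_commutatorElement,
      commutatorElement_eq_one_iff_mul_comm]
    exact (Subgroup.mem_center_iff.1 h _).symm
  · intro h
    refine Subgroup.mem_center_iff.2 fun q => ?_
    obtain ⟨y, rfl⟩ := QuotientGroup.mk'_surjective R q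
    have := (QuotientGroup.eq_one_iff _).2 (h y)
    rw [← QuotientGroup.mk'_apply, map_commutatorElement,
      commutatorElement_eq_one_iff_mul_comm] at this
    exact this.symm

section two

variable (hQ : IsPGroup p Q) (h2 : Nat.card (commutator Q) = p ^ 2) (hG : GalEq Q)
  {R : Subgroup Q} [R.Normal] (hRc : R ≤ commutator Q) (hR : Nat.card R = p)

include hQ h2 hG hRc hR

omit hQ hG in
theorem card_quot_commutator : Nat.card (commutator (Q ⧸ R)) = p := by
  have := card_map_mul R _ hRc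
  rw [← commutator_quot, hR, h2, sq] at this
  exact Nat.eq_of_mul_eq_mul_right hp.out.pos this

theorem quot_center_cyclic : IsCyclic (Subgroup.center (Q ⧸ R)) :=
  cyclic_center_of_galEq (hQ.to_quotient R) (card_quot_commutator h2 hRc hR) (galEq_quot hG R)

omit hQ h2 hG hRc in
theorem card_cMod : Nat.card (Subgroup.center (Q ⧸ R)) * p = Nat.card (cMod R) := by
  have h : R ≤ cMod R := fun x hx => by
    show (x : Q ⧸ R) ∈ Subgroup.center (Q ⧸ R)
    rw [(QuotientGroup.eq_one_iff x).2 hx]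
    exact one_mem _
  have := card_map_mul R _ h
  rwa [cMod, Subgroup.map_comap_eq_self_of_surjective (QuotientGroup.mk'_surjective R), hR] at this

theorem exists_deg : ∃ χ : IrrCharacter Q, charDegree (χ : Q → ℂ) ≠ 1 ∧
    charDegree (χ : Q → ℂ) ^ 2 * Nat.card (cMod R) = Nat.card Q ∧
    charDegree (χ : Q → ℂ) ^ 2 = (Subgroup.center (Q ⧸ R)).index ∧
    ∀ z ∈ commutator Q, z ∈ kerSub χ ↔ z ∈ R := by
  have hc := card_quot_commutator h2 hRc hR
  have hQ' := hQ.to_quotient R
  have hne : commutator (Q ⧸ R) ≠ ⊥ := fun e => hp.out.ne_one (by rw [← hc, e, Subgroup.card_bot])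
  obtain ⟨χ, hd⟩ := exists_nonlinear hne
  have hdd : charDegree (Codegree.inflate R χ : Q → ℂ) = charDegree (χ : Q ⧸ R → ℂ) := rfl
  have hsq := sq_deg hQ' hc hd
  refine ⟨Codegree.inflate R χ, hdd ▸ hd, ?_, ?_, fun z hz => ⟨fun hk => ?_, fun hzR => ?_⟩⟩
  · rw [hdd, ← card_cMod hR, ← mul_assoc, hsq, ← hR, ← Subgroup.card_eq_card_quotient_mul_card_subgroup]
  · rw [hdd]
    have := (Subgroup.center (Q ⧸ R)).card_mul_index
    rw [← hsq, mul_comm] at this
    exact (Nat.eq_of_mul_eq_mul_right Nat.card_pos this).symm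
  · rw [← QuotientGroup.eq_one_iff]
    refine eq_one_of_mem_ker hc hd ?_ hk
    rw [commutator_quot]
    exact Subgroup.mem_map_of_mem _ hz
  · rw [mem_kerSub, Codegree.inflate_apply, (QuotientGroup.eq_one_iff z).2 hzR]
    rfl

end two

theorem eq_of_card_cMod_eq (hQ : IsPGroup p Q) (h2 : Nat.card (commutator Q) = p ^ 2) (hG : GalEq Q)
    {R R' : Subgroup Q} [R.Normal] [R'.Normal] (hRc : R ≤ commutator Q) (hR : Nat.card R = p)
    (hRc' : R' ≤ commutator Q) (hR' : Nat.card R' = p)
    (h : Nat.card (cMod R) = Nat.card (cMod R')) : R = R' := by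
  obtain ⟨χ, hd, hsq, -, hk⟩ := exists_deg hQ h2 hG hRc hR
  obtain ⟨χ', -, hsq', -, hk'⟩ := exists_deg hQ h2 hG hRc' hR'
  have hdd : charDegree (χ : Q → ℂ) = charDegree (χ' : Q → ℂ) := by
    rw [← h, ← hsq] at hsq'
    exact (Nat.pow_left_injective two_ne_zero (Nat.eq_of_mul_eq_mul_right Nat.card_pos hsq')).symm
  obtain ⟨k, hk0, hkv⟩ := hG χ χ' hd hdd
  have he := ker_eq hk0 hkv
  refine Subgroup.eq_of_le_of_card_ge (fun z hz => ?_) (by rw [hR, hR'])
  rw [← hk' z (hRc hz), he, hk z (hRc hz)]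
  exact hz

/-- No `p`-group with all characters of equal degree conjugate has `|Q'| = p^2`. -/
theorem not_two (hQ : IsPGroup p Q) (h2 : Nat.card (commutator Q) = p ^ 2) (hG : GalEq Q) :
    False := by
  classical
  have hp2 : p < p ^ 2 := by
    rw [sq]; exact lt_mul_self hp.out.one_lt
  obtain ⟨m, hm⟩ := IsPGroup.iff_card.1 hQ
  by_cases hcen : commutator Q ≤ Subgroup.center Q
  · have hpow : ∀ x y : Q, ∀ i : ℕ, ⁅x ^ i, y⁆ = ⁅x, y⁆ ^ i := by
      intro x y i
      induction i with
      | zero => simp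
      | succ i ih =>
        have hc := Subgroup.mem_center_iff.1 (hcen (Subgroup.commutator_mem_commutator
          (Subgroup.mem_top (x ^ i)) (Subgroup.mem_top y))) x
        rw [pow_succ' _ i, pow_succ ⁅x, y⁆ i, ← ih]
        calc ⁅x * x ^ i, y⁆ = x * ⁅x ^ i, y⁆ * x⁻¹ * ⁅x, y⁆ := by
              rw [commutatorElement_def, commutatorElement_def, commutatorElement_def]; group
          _ = ⁅x ^ i, y⁆ * ⁅x, y⁆ := by rw [hc, mul_inv_cancel_right]
    by_cases hex : ∃ x y : Q, ⁅x, y⁆ ^ p ≠ 1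
    · obtain ⟨x, y, hxy⟩ := hex
      have hmem : ⁅x, y⁆ ∈ commutator Q := Subgroup.commutator_mem_commutator trivial trivial
      have hcp : ⁅x, y⁆ ^ p ∈ Subgroup.center Q := pow_mem (hcen hmem) p
      let R := Subgroup.zpowers (⁅x, y⁆ ^ p)
      haveI : R.Normal := PGroup.zpowers_normal_of_mem_center hcp
      have hord : orderOf ⁅x, y⁆ = p ^ 2 := by
        have h1 := h2 ▸ Subgroup.orderOf_dvd_natCard _ hmem
        obtain ⟨i, hi, e⟩ := (Nat.dvd_prime_pow hp.out).1 h1
        interval_cases i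
        · exact (hxy (by rw [orderOf_eq_one_iff.1 (e.trans (pow_zero p)), one_pow])).elim
        · exact (hxy (orderOf_dvd_iff_pow_eq_one.1 (by rw [e, pow_one]))).elim
        · exact e
      have hR : Nat.card R = p := by
        rw [Nat.card_zpowers, orderOf_pow, hord, Nat.gcd_eq_right (dvd_pow_self p two_ne_zero),
          sq, Nat.mul_div_cancel _ hp.out.pos]
      have hRc : R ≤ commutator Q := Subgroup.zpowers_le.2 (pow_mem hmem p)
      have hzp : ∀ a : Q, a ^ p ∈ cMod R := fun a => mem_cMod.2 fun b => by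
        rw [hpow]
        have h1 : Subgroup.zpowers ⁅x, y⁆ = commutator Q :=
          Subgroup.eq_of_le_of_card_ge (Subgroup.zpowers_le.2 hmem)
            (by rw [Nat.card_zpowers, hord, h2])
        obtain ⟨j, hj⟩ : ⁅a, b⁆ ∈ Subgroup.zpowers ⁅x, y⁆ :=
          h1 ▸ Subgroup.commutator_mem_commutator trivial trivial
        refine ⟨j, ?_⟩
        simp only at hj ⊢
        rw [← hj, ← zpow_natCast, ← zpow_natCast, ← zpow_mul, ← zpow_mul, mul_comm]
      haveI := quot_center_cyclic hQ h2 hG hRc hR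
      have hcase := mem_zpowers_or_of_cyclic
        ((hQ.to_quotient R).to_subgroup (Subgroup.center (Q ⧸ R)))
        ⟨((x ^ p : Q) : Q ⧸ R), hzp x⟩ ⟨((y ^ p : Q) : Q ⧸ R), hzp y⟩
      have key : ∀ a b : Q, ∀ j : ℤ, ((a ^ p : Q) : Q ⧸ R) = ((b ^ p : Q) : Q ⧸ R) ^ j →
          ⁅a ^ p, b⁆ = 1 := by
        intro a b j h
        rw [← QuotientGroup.mk_zpow, QuotientGroup.eq] at h
        have hr := (Subgroup.zpowers_le.2 hcp) h
        rw [commutatorElement_eq_one_iff_mul_comm]
        have hcj : Commute ((b ^ p) ^ j) b := ((Commute.refl b).pow_left p).zpow_left j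
        have e : a ^ p = (b ^ p) ^ j * ((a ^ p)⁻¹ * (b ^ p) ^ j)⁻¹ := by group
        rw [e]
        exact (hcj.mul_left (Subgroup.mem_center_iff.1 (inv_mem hr) b).symm).eq
      rcases hcase with h | h <;> obtain ⟨j, hj⟩ := h <;>
        have hj' := congrArg Subtype.val hj <;> simp only [Subgroup.coe_zpow] at hj'
      · exact hxy ((hpow x y p).symm.trans (key x y j hj'.symm))
      · have h1 := key y x j hj'.symm
        rw [hpow, ← commutatorElement_inv, inv_pow, inv_eq_one] at h1
        exact hxy h1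
    · push Not at hex
      have hzp : ∀ a : Q, a ^ p ∈ Subgroup.center Q := fun a => Subgroup.mem_center_iff.2 fun b => by
        have := hpow a b p
        rw [hex, commutatorElement_eq_one_iff_mul_comm] at this
        exact this.symm
      have hone : ∀ R : Subgroup Q, [R.Normal] → R ≤ commutator Q → Nat.card R = p →
          ∃ d, 0 < d ∧ d ^ 2 * Nat.card (cMod R) = Nat.card Q ∧
          (Nat.card (cMod R) = Nat.card (Subgroup.center Q) ∨
           Nat.card (cMod R) = p * Nat.card (Subgroup.center Q)) := by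
        intro R _ hRc hR
        obtain ⟨χ, -, hsq, -, -⟩ := exists_deg hQ h2 hG hRc hR
        refine ⟨_, deg_pos χ.2, hsq, ?_⟩
        haveI := quot_center_cyclic hQ h2 hG hRc hR
        have hZle : Subgroup.center Q ≤ cMod R := fun z hz => mem_cMod.2 fun b => by
          rw [commutatorElement_eq_one_iff_mul_comm.2 (Subgroup.mem_center_iff.1 hz b).symm]
          exact one_mem _
        obtain ⟨⟨g, hg⟩, hgen⟩ := IsCyclic.exists_generator (α := Subgroup.center (Q ⧸ R))
        obtain ⟨w, rfl⟩ := QuotientGroup.mk_surjective g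
        let f := QuotientGroup.mk' (Subgroup.center Q)
        have himg : (cMod R).map f ≤ Subgroup.zpowers (f w) := by
          rintro _ ⟨c, hc, rfl⟩
          obtain ⟨j, hj⟩ := hgen ⟨(c : Q ⧸ R), hc⟩
          have hj' := congrArg Subtype.val hj
          simp only [Subgroup.coe_zpow] at hj'
          rw [← QuotientGroup.mk_zpow, QuotientGroup.eq] at hj'
          refine ⟨j, ?_⟩
          show f w ^ j = f c
          rw [← map_zpow]
          exact (QuotientGroup.eq.2 (hcen (hRc hj')) :)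
        have hcard := card_map_mul (Subgroup.center Q) _ hZle
        have hdvd : Nat.card ((cMod R).map f) ∣ p := by
          refine (Subgroup.card_dvd_of_le himg).trans ?_
          rw [Nat.card_zpowers]
          refine orderOf_dvd_of_pow_eq_one ?_
          rw [← map_pow]
          exact (QuotientGroup.eq_one_iff _).2 (hzp w)
        rcases (Nat.dvd_prime hp.out).1 hdvd with e | e
        · left; rw [← hcard, e, one_mul]
        · right; rw [← hcard, e]
      have hlt : ∀ R : Subgroup Q, Nat.card R = p → ∃ s ∈ commutator Q, s ∉ R := by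
        intro R hR
        by_contra hall
        push Not at hall
        have := Subgroup.card_dvd_of_le hall
        rw [h2, hR] at this
        exact absurd (Nat.le_of_dvd hp.out.pos this) hp2.not_ge
      have hQ'e : ∀ s ∈ commutator Q, s ^ p = 1 := by
        intro s hs
        let T : Subgroup Q :=
          { carrier := {c | c ∈ Subgroup.center Q ∧ c ^ p = 1}
            one_mem' := ⟨one_mem _, one_pow p⟩
            mul_mem' := fun {a b} ha hb => ⟨mul_mem ha.1 hb.1, by
              rw [Commute.mul_pow (Subgroup.mem_center_iff.1 hb.1 a), ha.2, hb.2, one_mul]⟩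
            inv_mem' := fun {a} ha => ⟨inv_mem ha.1, by rw [inv_pow, ha.2, inv_one]⟩ }
        have : commutator Q ≤ T := by
          rw [commutator_def, Subgroup.commutator_le]
          exact fun a _ b _ =>
            ⟨hcen (Subgroup.commutator_mem_commutator trivial trivial), hex a b⟩
        exact (this hs).2
      have hne : commutator Q ≠ ⊥ := fun e => by
        rw [e, Subgroup.card_bot] at h2
        exact absurd h2.symm (Nat.one_lt_pow two_ne_zero hp.out.one_lt).ne'
      obtain ⟨R, hRn, hRc, -, hR⟩ := PGroup.exists_normal_card_eq_prime hQ hne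
      obtain ⟨s, hs, hsR⟩ := hlt R hR
      haveI := PGroup.zpowers_normal_of_mem_center (hcen hs)
      have hS : Nat.card (Subgroup.zpowers s) = p := by
        rw [Nat.card_zpowers]
        exact orderOf_eq_prime (hQ'e s hs) fun e => hsR (e ▸ one_mem R)
      obtain ⟨d, hd0, hd, hcases⟩ := hone R hRc hR
      obtain ⟨d', hd0', hd', hcases'⟩ := hone _ (Subgroup.zpowers_le.2 hs) hS
      have heq : Nat.card (cMod R) = Nat.card (cMod (Subgroup.zpowers s)) := by
        have hodd : ∀ a b z : ℕ, 0 < z → 0 < a → 0 < b → a ^ 2 * z = b ^ 2 * (p * z) → False := by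
          intro a b z hz ha hb e
          have e' : a ^ 2 = b ^ 2 * p := Nat.eq_of_mul_eq_mul_right hz (e.trans (mul_assoc _ _ _).symm)
          have := congrArg (fun n => n.factorization p) e'
          simp [Nat.factorization_pow, Nat.factorization_mul (pow_pos hb 2).ne' hp.out.ne_zero,
            hp.out.factorization_self] at this
          omega
        rcases hcases with e | e <;> rcases hcases' with e' | e'
        · rw [e, e']
        · rw [e] at hd; rw [e'] at hd'
          exact (hodd d d' _ Nat.card_pos hd0 hd0' (hd.trans hd'.symm)).elim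
        · rw [e] at hd; rw [e'] at hd'
          exact (hodd d' d _ Nat.card_pos hd0' hd0 (hd'.trans hd.symm)).elim
        · rw [e, e']
      have := eq_of_card_cMod_eq hQ h2 hG hRc hR (Subgroup.zpowers_le.2 hs) hS heq
      exact hsR (this ▸ Subgroup.mem_zpowers s)
  -- the derived subgroup is not central
  have hne : commutator Q ≠ ⊥ := fun e => hcen (e ▸ bot_le)
  obtain ⟨R, hRn, hRc, hRZ, hR⟩ := PGroup.exists_normal_card_eq_prime hQ hne
  have hcz : Subgroup.center Q ⊓ commutator Q = R := by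
    refine (Subgroup.eq_of_le_of_card_ge (le_inf hRZ hRc) ?_).symm
    have h1 := Subgroup.card_dvd_of_le (inf_le_right : Subgroup.center Q ⊓ commutator Q ≤ _)
    rw [h2] at h1
    obtain ⟨i, hi, e⟩ := (Nat.dvd_prime_pow hp.out).1 h1
    rcases hi.lt_or_eq with hi | rfl
    · rw [e, hR]
      exact Nat.le_of_dvd hp.out.pos (by simpa using pow_dvd_pow p (Nat.le_of_lt_succ hi))
    · exact absurd (inf_eq_right.1 (Subgroup.eq_of_le_of_card_ge inf_le_right (by rw [e, h2]))) hcen
  have hqc := PGroup.le_center_of_card_eq (hQ.to_quotient R) (card_quot_commutator h2 hRc hR)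
  have hQ'c : commutator Q ≤ cMod R := fun z hz => hqc (by
    rw [commutator_quot]; exact Subgroup.mem_map_of_mem _ hz)
  haveI := quot_center_cyclic hQ h2 hG hRc hR
  -- the centre of `Q ⧸ R` is the image of the derived subgroup
  have hcenter : Nat.card (Subgroup.center (Q ⧸ R)) = p := by
    have hc := card_quot_commutator h2 hRc hR
    have hdvd := Subgroup.card_dvd_of_le hqc
    rw [hc] at hdvd
    obtain ⟨s, hs⟩ :=
      IsPGroup.iff_card.1 ((hQ.to_quotient R).to_subgroup (Subgroup.center (Q ⧸ R)))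
    by_contra hne'
    have hs2 : 2 ≤ s := by
      rcases s with _ | _ | s
      · rw [hs, pow_zero] at hdvd; exact absurd (Nat.dvd_one.1 hdvd) hp.out.ne_one
      · rw [pow_one] at hs; exact absurd hs hne'
      · omega
    obtain ⟨⟨g, hg⟩, hgen⟩ := IsCyclic.exists_ofOrder_eq_natCard (α := Subgroup.center (Q ⧸ R))
    obtain ⟨w, rfl⟩ := QuotientGroup.mk_surjective g
    apply hcen
    intro z hz
    have hzc : (z : Q ⧸ R) ∈ Subgroup.center (Q ⧸ R) := hQ'c hz
    have hzp : (z : Q ⧸ R) ^ p = 1 := by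
      refine orderOf_dvd_iff_pow_eq_one.1 (hc ▸ Subgroup.orderOf_dvd_natCard _ ?_)
      rw [commutator_quot]; exact Subgroup.mem_map_of_mem _ hz
    have hmemz : (⟨_, hzc⟩ : Subgroup.center (Q ⧸ R)) ∈
        Subgroup.zpowers (⟨_, hg⟩ : Subgroup.center (Q ⧸ R)) := by
      have := Subgroup.eq_top_of_card_eq (Subgroup.zpowers (⟨_, hg⟩ : Subgroup.center (Q ⧸ R)))
        (by rw [Nat.card_zpowers, hgen])
      rw [this]; exact Subgroup.mem_top _
    obtain ⟨j, hj⟩ := hmemz
    simp only at hj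
    have h1 : ((⟨_, hg⟩ : Subgroup.center (Q ⧸ R)) ^ (j * p)) = 1 := by
      rw [zpow_mul, hj, zpow_natCast]
      exact Subtype.ext hzp
    have h3 : ((p ^ s : ℕ) : ℤ) ∣ j * p := by
      rw [← hs, ← hgen]; exact orderOf_dvd_iff_zpow_eq_one.2 h1
    obtain ⟨t, ht⟩ := h3
    have hjp : ∃ i : ℤ, j = p * i := by
      refine ⟨(p : ℤ) ^ (s - 2) * t, mul_right_cancel₀ (b := (p : ℤ)) (by exact_mod_cast hp.out.ne_zero) ?_⟩
      rw [ht]
      have : s = s - 2 + 2 := by omega
      conv_lhs => rw [this]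
      push_cast
      ring
    obtain ⟨i, rfl⟩ := hjp
    have hj' := congrArg Subtype.val hj
    simp only [Subgroup.coe_zpow] at hj'
    rw [← QuotientGroup.mk_zpow, QuotientGroup.eq, zpow_mul] at hj'
    have hwc : w ^ (p : ℤ) ∈ Subgroup.center Q := by
      refine Subgroup.mem_center_iff.2 fun b => ?_
      have hr := mem_cMod.1 (show w ∈ cMod R from hg) b
      have hconj : b * w * b⁻¹ = ⁅w, b⁆⁻¹ * w := by rw [commutatorElement_def]; group
      have hrp : (⁅w, b⁆⁻¹) ^ p = 1 :=
        orderOf_dvd_iff_pow_eq_one.1 (hR ▸ Subgroup.orderOf_dvd_natCard _ (inv_mem hr))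
      have h4 := congrArg (fun a => a ^ p) hconj
      rw [conj_pow, Commute.mul_pow (Subgroup.mem_center_iff.1 (inv_mem (hRZ hr)) w).symm, hrp,
        one_mul] at h4
      rw [zpow_natCast]
      exact mul_inv_eq_iff_eq_mul.1 h4
    have hrc := hRZ hj'
    have := mul_mem (zpow_mem hwc i) hrc
    rwa [mul_inv_cancel_left] at this
  set C := Subgroup.centralizer ((commutator Q : Subgroup Q) : Set Q) with hC
  have hCne : C ≠ ⊤ := fun e => hcen fun z hz => Subgroup.mem_center_iff.2 fun b =>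
    (Subgroup.mem_centralizer_iff.1 (e ▸ Subgroup.mem_top b : b ∈ C) z hz).symm
  obtain ⟨a, haQ, haR⟩ : ∃ a ∈ commutator Q, a ∉ R := by
    by_contra hall
    push Not at hall
    have := Subgroup.card_dvd_of_le hall
    rw [h2, hR] at this
    exact absurd (Nat.le_of_dvd hp.out.pos this) hp2.not_ge
  have hC1 : C = Subgroup.centralizer ({a} : Set Q) := by
    refine le_antisymm (Subgroup.centralizer_le (Set.singleton_subset_iff.2 haQ)) fun c hc => ?_
    have h3 : R ⊔ Subgroup.zpowers a = commutator Q := by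
      refine Subgroup.eq_of_le_of_card_ge (sup_le hRc (Subgroup.zpowers_le.2 haQ)) ?_
      have hlt : R < R ⊔ Subgroup.zpowers a := lt_of_le_of_ne le_sup_left fun e =>
        haR (e ▸ (le_sup_right (a := R) (Subgroup.mem_zpowers a)))
      have h1 := Subgroup.card_dvd_of_le
        (sup_le hRc (Subgroup.zpowers_le.2 haQ) : R ⊔ Subgroup.zpowers a ≤ _)
      rw [h2] at h1 ⊢
      obtain ⟨i, hi, e⟩ := (Nat.dvd_prime_pow hp.out).1 h1
      rw [e]
      refine Nat.pow_le_pow_right hp.out.pos ?_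
      by_contra hi'
      have : Nat.card ↥(R ⊔ Subgroup.zpowers a) ≤ Nat.card R := by
        rw [e, hR]
        exact Nat.le_of_dvd hp.out.pos (by simpa using pow_dvd_pow p (show i ≤ 1 by omega))
      exact hlt.ne (Subgroup.eq_of_le_of_card_ge le_sup_left this)
    rw [hC, ← h3]
    refine Subgroup.mem_centralizer_iff.2 fun y hy => ?_
    have hle : R ⊔ Subgroup.zpowers a ≤ Subgroup.centralizer ({c} : Set Q) := by
      refine sup_le (fun r hr => Subgroup.mem_centralizer_singleton_iff.2
        ((Subgroup.mem_center_iff.1 (hRZ hr) c).symm)) (Subgroup.zpowers_le.2 ?_)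
      exact Subgroup.mem_centralizer_singleton_iff.2 (Subgroup.mem_centralizer_singleton_iff.1 hc).symm
    exact Subgroup.mem_centralizer_singleton_iff.1 (hle hy)
  have hCi : C.index ≤ p := by
    rw [hC1, ClassIndex.index_centralizer_eq]
    refine le_trans ?_ (le_of_eq hR)
    refine Nat.card_le_card_of_injective (fun y => ⟨y.1 * a⁻¹, ?_⟩) fun y y' h => ?_
    · obtain ⟨x, hx⟩ := y.2
      rw [← hx, ← commutatorElement_def]
      have h1 := mem_cMod.1 (hQ'c haQ) x
      rw [← commutatorElement_inv]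
      exact inv_mem h1
    · exact Subtype.ext (mul_right_cancel (congrArg Subtype.val h))
  haveI : C.Normal := by
    show (Subgroup.centralizer ((commutator Q : Subgroup Q) : Set Q)).Normal
    infer_instance
  have hCC : ⁅C, C⁆ ≤ R := by
    rw [← hcz]
    refine le_inf ?_ (Subgroup.commutator_mono le_top le_top)
    have e1 : ⁅commutator Q, C⁆ = ⊥ := by
      rw [Subgroup.commutator_comm, Subgroup.commutator_eq_bot_iff_le_centralizer, hC]
    have e2 : ⁅⁅C, (⊤ : Subgroup Q)⁆, C⁆ = ⊥ := by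
      rw [← le_bot_iff, ← e1]
      exact Subgroup.commutator_mono (Subgroup.commutator_mono le_top le_rfl) le_rfl
    have h := Subgroup.commutator_commutator_eq_bot_of_rotate (H₁ := C) (H₂ := C) (H₃ := ⊤) e2
      (by rw [Subgroup.commutator_comm (⊤ : Subgroup Q) C]; exact e2)
    rw [Subgroup.commutator_eq_bot_iff_le_centralizer] at h
    exact h.trans (by rw [Subgroup.coe_top, Subgroup.centralizer_univ])
  obtain ⟨y, hy⟩ := SetLike.exists_of_lt (lt_top_iff_ne_top.2 hCne)
  set f := QuotientGroup.mk' R with hf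
  have hCmax : C ⊔ Subgroup.zpowers y = ⊤ := by
    by_contra hne'
    have hlt : C < C ⊔ Subgroup.zpowers y := lt_of_le_of_ne le_sup_left fun e =>
      hy.2 (e ▸ (le_sup_right (a := C) (Subgroup.mem_zpowers y)))
    have h1 := Subgroup.relIndex_mul_index (le_sup_left : C ≤ C ⊔ Subgroup.zpowers y)
    have h3 : 2 ≤ C.relIndex (C ⊔ Subgroup.zpowers y) := by
      rcases Nat.lt_or_ge (C.relIndex (C ⊔ Subgroup.zpowers y)) 2 with h | h
      · exfalso
        have h0 : C.relIndex (C ⊔ Subgroup.zpowers y) ≠ 0 := Subgroup.index_ne_zero_of_finite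
        exact hlt.not_ge (Subgroup.relIndex_eq_one.1 (by omega))
      · exact h
    have h4 : 2 ≤ (C ⊔ Subgroup.zpowers y).index := by
      have h0 : (C ⊔ Subgroup.zpowers y).index ≠ 0 := Subgroup.index_ne_zero_of_finite
      have h1' : (C ⊔ Subgroup.zpowers y).index ≠ 1 := fun e => hne' (Subgroup.index_eq_one.1 e)
      omega
    obtain ⟨i, hi⟩ := (Nat.dvd_prime_pow hp.out).1 (hm ▸ C.index_dvd_card)
    obtain ⟨_, e⟩ := hi
    rcases i with _ | i
    · rw [e, pow_zero] at h1; nlinarith
    · have : i = 0 := by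
        by_contra hi0
        have : p ^ 2 ≤ p ^ (i + 1) := Nat.pow_le_pow_right hp.out.pos (by omega)
        omega
      subst this
      rw [e, zero_add, pow_one] at h1
      rcases (Nat.dvd_prime hp.out).1 (Dvd.intro _ h1) with e' | e' <;> nlinarith
  have hidx : (Subgroup.center (Q ⧸ R)).index ≤ p * p := by
    have hle : C.map f ⊓ Subgroup.centralizer ({(y : Q ⧸ R)} : Set (Q ⧸ R)) ≤
        Subgroup.center (Q ⧸ R) := by
      rintro q ⟨⟨c, hc, rfl⟩, hq⟩
      rw [Subgroup.mem_center_iff]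
      intro b
      obtain ⟨b, rfl⟩ := QuotientGroup.mk'_surjective R b
      have hle2 : C ⊔ Subgroup.zpowers y ≤ (Subgroup.centralizer ({f c} : Set (Q ⧸ R))).comap f := by
        refine sup_le (fun d hd => Subgroup.mem_centralizer_singleton_iff.2 ?_)
          (Subgroup.zpowers_le.2 (Subgroup.mem_centralizer_singleton_iff.2 ?_))
        · have := (QuotientGroup.eq_one_iff _).2 (hCC (Subgroup.commutator_mem_commutator hd hc))
          rw [← QuotientGroup.mk'_apply, map_commutatorElement,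
            commutatorElement_eq_one_iff_mul_comm] at this
          exact this
        · exact (Subgroup.mem_centralizer_singleton_iff.1 hq).symm
      exact Subgroup.mem_centralizer_singleton_iff.1 (hle2 (hCmax ▸ Subgroup.mem_top b))
    refine le_trans (Nat.le_of_dvd (Nat.pos_of_ne_zero Subgroup.index_ne_zero_of_finite)
      (Subgroup.index_dvd_of_le hle)) (le_trans Subgroup.index_inf_le (Nat.mul_le_mul ?_ ?_))
    · exact le_trans (Nat.le_of_dvd (Nat.pos_of_ne_zero Subgroup.index_ne_zero_of_finite)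
        (Subgroup.index_map_dvd _ (QuotientGroup.mk'_surjective R))) hCi
    · rw [ClassIndex.index_centralizer_eq]
      refine le_trans ?_ (card_quot_commutator h2 hRc hR).le
      refine Nat.card_le_card_of_injective (fun z => ⟨z.1 * (y : Q ⧸ R)⁻¹, ?_⟩) fun z z' h => ?_
      · obtain ⟨x, hx⟩ := z.2
        rw [← hx, ← commutatorElement_def]
        exact Subgroup.commutator_mem_commutator trivial trivial
      · exact Subtype.ext (mul_right_cancel (congrArg Subtype.val h))
  obtain ⟨χ, hd1, hsq, hdi, hk⟩ := exists_deg hQ h2 hG hRc hR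
  have hdp : ∀ ψ : IrrCharacter Q, charDegree (ψ : Q → ℂ) ≠ 1 →
      charDegree (ψ : Q → ℂ) ^ 2 < p ^ 4 → charDegree (ψ : Q → ℂ) = p := by
    intro ψ hψ1 hlt
    obtain ⟨i, -, e⟩ := (Nat.dvd_prime_pow hp.out).1 (hm ▸ Codegree.deg_dvd_card ψ)
    rw [e, ← pow_mul] at hlt
    have := (Nat.pow_lt_pow_iff_right hp.out.one_lt).1 hlt
    rcases i with _ | _ | i
    · exact absurd e hψ1
    · rw [e, pow_one]
    · omega
  have hχp : charDegree (χ : Q → ℂ) = p := hdp χ hd1 (by
    rw [hdi]
    refine lt_of_le_of_lt hidx ?_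
    rw [← sq]
    exact Nat.pow_lt_pow_right hp.out.one_lt (by norm_num))
  have hQc : Nat.card Q ≤ p ^ 4 := by
    rw [← hsq, hχp, ← card_cMod hR, hcenter]
    exact le_of_eq (by ring)
  obtain ⟨r, hr, hr1⟩ : ∃ r ∈ R, r ≠ 1 := by
    obtain ⟨⟨r, hr⟩, h⟩ := Subgroup.ne_bot_iff_exists_ne_one.1
      (fun e : R = ⊥ => hp.out.ne_one (by rw [← hR, e, Subgroup.card_bot]))
    exact ⟨r, hr, fun e => h (Subtype.ext e)⟩
  obtain ⟨ψ, hψ⟩ : ∃ ψ : IrrCharacter Q, r ∉ kerSub ψ := by
    by_contra hall
    push Not at hall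
    exact hr1 (isConj_one_left.1 ((Char.isConj_iff_irr _ _).2 fun ψ => hall ψ))
  have hψ1 : charDegree (ψ : Q → ℂ) ≠ 1 := by
    intro e
    obtain ⟨l, hl⟩ := Char.exists_hom_of_degree_one (Char.IsIrrCharacter.isCharacter ψ.2)
      (by rw [deg_eq ψ.2, e, Nat.cast_one])
    refine hψ ?_
    have hk1 : commutator Q ≤ kerSub ψ := by
      rw [commutator_def, Subgroup.commutator_le]
      intro u _ v _
      have h0 : ∀ t, l t * l t⁻¹ = 1 := fun t => by rw [← map_mul, mul_inv_cancel, map_one]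
      rw [mem_kerSub, ← congrFun hl, ← congrFun hl, commutatorElement_def, map_mul, map_mul,
        map_mul, map_one, mul_right_comm (l u), h0, one_mul, h0]
    exact hk1 (hRc hr)
  have hψp : charDegree (ψ : Q → ℂ) = p := hdp ψ hψ1 (by
    have h := sq_deg_le ψ
    have hZ : p ≤ Nat.card (Subgroup.center Q) := hR ▸ Nat.le_of_dvd Nat.card_pos
      (Subgroup.card_dvd_of_le hRZ)
    have h5 : charDegree (ψ : Q → ℂ) ^ 2 * p ≤ p ^ 4 :=
      le_trans (Nat.mul_le_mul_left _ hZ) (h.trans hQc)
    have h6 : 0 < charDegree (ψ : Q → ℂ) ^ 2 := pow_pos (deg_pos ψ.2) 2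
    nlinarith [hp.out.two_le])
  obtain ⟨k, hk0, hkv⟩ := hG χ ψ hd1 (hχp.trans hψp.symm)
  exact hψ (ker_eq hk0 hkv ▸ (hk r (hRc hr)).2 hr)

theorem backward (hQ : IsPGroup p Q) (hZ : IsCyclic (Subgroup.center Q))
    (hc : Nat.card (commutator Q) = p) : GalEq Q := by
  classical
  intro χ ψ hd heq
  have hd' : charDegree (ψ : Q → ℂ) ≠ 1 := heq ▸ hd
  have hsc : ∀ φ : IrrCharacter Q, ∃ l : Subgroup.center Q →* ℂ,
      ∀ z : Subgroup.center Q, (φ : Q → ℂ) z = l z * (charDegree (φ : Q → ℂ) : ℂ) := by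
    intro φ
    obtain ⟨n, ρ, hρ, hρc⟩ := φ.2
    haveI := hρ
    have hn : (charDegree (φ : Q → ℂ) : ℂ) = n := by
      rw [← deg_eq φ.2, ← hρc, Representation.char_one, Module.finrank_fin_fun]
    have hn0 : (n : ℂ) ≠ 0 := hn ▸ Nat.cast_ne_zero.2 (deg_pos φ.2).ne'
    choose ω hω using fun z : Subgroup.center Q => CharApp.exists_scalar_of_mem_center ρ z.2
    have hval : ∀ z : Subgroup.center Q, (φ : Q → ℂ) z = ω z * n := fun z => by
      rw [← hρc]
      show LinearMap.trace ℂ _ (ρ _) = _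
      rw [hω, map_smul, LinearMap.trace_one, Module.finrank_fin_fun, smul_eq_mul]
    haveI := CharApp.nontrivial_of_irr ρ
    refine ⟨⟨⟨ω, ?_⟩, fun a b => ?_⟩, fun z => by rw [hn]; exact hval z⟩
    · refine smul_left_injective ℂ (one_ne_zero : (1 : Module.End ℂ (Fin n → ℂ)) ≠ 0) ?_
      show ω 1 • _ = (1 : ℂ) • _
      rw [← hω, one_smul]
      exact map_one ρ
    · refine smul_left_injective ℂ (one_ne_zero : (1 : Module.End ℂ (Fin n → ℂ)) ≠ 0) ?_
      show ω (a * b) • _ = (ω a * ω b) • _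
      rw [← hω, Subgroup.coe_mul, map_mul, hω, hω, smul_mul_smul_comm, one_mul]
  obtain ⟨l, hl⟩ := hsc χ
  obtain ⟨l', hl'⟩ := hsc ψ
  obtain ⟨z, hz⟩ := IsCyclic.exists_ofOrder_eq_natCard (α := Subgroup.center Q)
  have hinj : ∀ (φ : IrrCharacter Q), charDegree (φ : Q → ℂ) ≠ 1 →
      ∀ (m : Subgroup.center Q →* ℂ),
      (∀ w : Subgroup.center Q, (φ : Q → ℂ) w = m w * (charDegree (φ : Q → ℂ) : ℂ)) →
      IsPrimitiveRoot (m z) (Nat.card (Subgroup.center Q)) := by
    intro φ hφ m hm
    haveI := hZ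
    have : Function.Injective m := by
      intro a b hab
      rw [← mul_inv_eq_one]
      apply Subtype.ext
      have h : ((a * b⁻¹ : Subgroup.center Q) : Q) ∈ kerSub φ := by
        rw [mem_kerSub, hm, deg_eq φ.2, map_mul, hab, ← map_mul, mul_inv_cancel, map_one, one_mul]
      rw [faithful_of_cyclic hQ hc hφ] at h
      exact Subgroup.mem_bot.1 h
    rw [← hz, ← orderOf_injective m this z]
    exact IsPrimitiveRoot.orderOf (m z)
  have h1 := hinj χ hd l hl
  have h1' := hinj ψ hd' l' hl'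
  have hpos : Nat.card (Subgroup.center Q) ≠ 0 := Nat.card_pos.ne'
  haveI : NeZero (Nat.card (Subgroup.center Q)) := ⟨hpos⟩
  obtain ⟨k, -, hkc, hk⟩ := h1.isPrimitiveRoot_iff.1 h1'
  have hk' : k.Coprime (Nat.card Q) := by
    obtain ⟨m, hm⟩ := IsPGroup.iff_card.1 hQ
    rw [hm]
    refine Nat.Coprime.pow_right _ ?_
    refine hkc.coprime_dvd_right ?_
    exact hc ▸ Subgroup.card_dvd_of_le (PGroup.le_center_of_card_eq hQ hc)
  refine ⟨k, hk', fun g => ?_⟩
  by_cases hg : g ∈ Subgroup.center Q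
  · have hgk : ((⟨g, hg⟩ : Subgroup.center Q) ^ k : Subgroup.center Q) = ⟨g ^ k, pow_mem hg k⟩ := rfl
    have hlk : ∀ w : Subgroup.center Q, l' w = l (w ^ k) := by
      intro w
      have htop := Subgroup.eq_top_of_card_eq (Subgroup.zpowers z) (by rw [Nat.card_zpowers, hz])
      have hw : w ∈ Subgroup.zpowers z := htop ▸ Subgroup.mem_top w
      rw [mem_zpowers_iff_mem_range_orderOf] at hw
      obtain ⟨j, -, rfl⟩ := Finset.mem_image.1 hw
      rw [map_pow, ← hk, ← pow_mul, ← map_pow, ← pow_mul, mul_comm]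
    have e1 := hl' ⟨g, hg⟩
    have e2 := hl (⟨g, hg⟩ ^ k)
    rw [hgk] at e2
    rw [e1, e2, hlk, hgk, heq]
  · rw [vanish hQ hc hd' hg, vanish hQ hc hd]
    intro h
    refine hg ?_
    have hcop : (orderOf g).Coprime k := (hk'.coprime_dvd_right (orderOf_dvd_natCard g)).symm
    obtain ⟨j, hj⟩ := exists_pow_eq_self_of_coprime hcop.symm
    rw [← hj]; exact pow_mem h j

/-- Let p be a prime and P a finite non-commutative p-group. Then every two irreducible characters of P of the same degree greater than 1 are Galois conjugate (one is obtained from the other by composing with g ↦ g^k for some k prime to the order of P) if and only if the centre of P is cyclic and the derived subgroup of P has order p. -/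
theorem result {P : Type*} [Group P] [Finite P] (p : ℕ) [Fact p.Prime] (hP : IsPGroup p P) (hna : ¬ IsMulCommutative P) :
    (∀ χ ψ : Cfsg.IrrCharacter P, Cfsg.charDegree (χ : P → ℂ) ≠ 1 → Cfsg.charDegree (χ : P → ℂ) = Cfsg.charDegree (ψ : P → ℂ) → ∃ k : ℕ, Nat.Coprime k (Nat.card P) ∧ ∀ g : P, (ψ : P → ℂ) g = (χ : P → ℂ) (g ^ k)) ↔
      (IsCyclic (Subgroup.center P) ∧ Nat.card (commutator P) = p) := by
  classical
  constructor
  · intro hG
    obtain ⟨m, hm⟩ := IsPGroup.iff_card.1 (hP.to_subgroup (commutator P))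
    rcases m with _ | _ | m
    · exact absurd (commutator_eq_bot_iff.1
        (Subgroup.eq_bot_of_card_eq _ (by simpa using hm))) hna
    · exact ⟨cyclic_center_of_galEq hP (by simpa using hm) hG, by simpa using hm⟩
    · exfalso
      obtain ⟨N, hNn, hNle, hN⟩ := PGroup.exists_normal_le_card hP hm m (by omega)
      refine not_two (hP.to_quotient N) ?_ (galEq_quot hG N)
      have := card_map_mul N _ hNle
      rw [← commutator_quot, hN, hm] at this
      refine Nat.eq_of_mul_eq_mul_right (pow_pos (Fact.out : p.Prime).pos m) (this.trans ?_)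
      ring
  · rintro ⟨hZ, hc⟩
    exact backward hP hZ hc

end Cfsg.Agent.S4845
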