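import Cfsg.Statements.S1531
import Cfsg.Agent.Lib.Coherence.Extend
-- import your own Cfsg.Agent.* helpers here

set_option autoImplicit false
open Cfsg Cfsg.Agent.Char Cfsg.Agent.Coherence

namespace Cfsg.Agent.S1531

/-- Let N be a subgroup of the finite group G, S a set of irreducible characters of N, and α a linear isometry on the integer combinations of S vanishing at 1 with values virtual characters of G vanishing at 1. Let X, Y ⊆ S be disjoint, each with at least two members, and σ, τ linear isometries on ℤ[X], ℤ[Y] into virtual characters agreeing with α on the members vanishing at 1. Then ⟨σ χ, τ η⟩ = 0 for χ ∈ X, η ∈ Y; and if for some χ₀ ∈ X, η₀ ∈ Y with degrees c = χ₀ 1, e = η₀ 1 one has α (c • η₀ − e • χ₀) = c • τ η₀ − e • σ χ₀, then (X ∪ Y, N minus 1, α) is coherent. -/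
theorem result {G : Type*} [Group G] [Fintype G] (N : Subgroup G) [Fintype N] (S X Y : Set (N → ℂ)) (hirr : ∀ ξ ∈ S, Cfsg.IsIrrCharacter N ξ) (hXS : X ⊆ S) (hYS : Y ⊆ S) (hXY : Disjoint X Y) (hX2 : ∃ a ∈ X, ∃ b ∈ X, a ≠ b) (hY2 : ∃ a ∈ Y, ∃ b ∈ Y, a ≠ b) (α : (N → ℂ) → (G → ℂ)) (hα : Cfsg.IsLinearIsometryOn (Cfsg.zspanOn S {1}ᶜ) α) (hα1 : ∀ θ ∈ Cfsg.zspanOn S {1}ᶜ, α θ 1 = 0) (σ τ : (N → ℂ) → (G → ℂ)) (hσ : Cfsg.IsLinearIsometryOn (Cfsg.zspan X) σ) (hσα : ∀ θ ∈ Cfsg.zspanOn X {1}ᶜ, σ θ = α θ) (hτ : Cfsg.IsLinearIsometryOn (Cfsg.zspan Y) τ) (hτα : ∀ θ ∈ Cfsg.zspanOn Y {1}ᶜ, τ θ = α θ) : (∀ χ ∈ X, ∀ η ∈ Y, Cfsg.classInner (σ χ) (τ η) = 0) ∧ ((∃ χ₀ ∈ X, ∃ η₀ ∈ Y, α (χ₀ 1 • η₀ - η₀ 1 • χ₀) = χ₀ 1 • τ η₀ - η₀ 1 • σ χ₀) → Cfsg.IsCoherent (X ∪ Y) {1}ᶜ α) := by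
  classical
  have hdeg : ∀ ξ ∈ S, ∃ d : ℕ, 0 < d ∧ ξ 1 = (d : ℂ) := by
    intro ξ hξ
    exact IsIrrCharacter.exists_degree (hirr ξ hξ)
  -- `v a b = b(1) a - a(1) b`
  have hv : ∀ T : Set (N → ℂ), ∀ a ∈ T, ∀ b ∈ T, ∀ d e : ℕ, a 1 = (d : ℂ) → b 1 = (e : ℂ) →
      (e : ℤ) • a - (d : ℤ) • b ∈ zspanOn T {1}ᶜ := by
    intro T a ha b hb d e hd he
    refine mem_zspanOn_one.2 ⟨zspan_sub (zspan_zsmul _ (subset_zspan ha)) (zspan_zsmul _ (subset_zspan hb)), ?_⟩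
    simp [hd, he, mul_comm]
  have sub : ∀ (T : Set (N → ℂ)) (ρ : (N → ℂ) → (G → ℂ)), IsLinearIsometryOn (zspan T) ρ →
      ∀ a ∈ T, ∀ b ∈ T, ∀ m n : ℤ, ρ (m • a - n • b) = m • ρ a - n • ρ b := by
    intro T ρ hρ a ha b hb m n
    rw [sub_eq_add_neg, hρ.1 _ (zspan_zsmul _ (subset_zspan ha)) _ (zspan_neg (zspan_zsmul _ (subset_zspan hb))),
      lin_neg hρ (zspan_zsmul _ (subset_zspan hb)), hρ.2.1 _ (subset_zspan ha), hρ.2.1 _ (subset_zspan hb),
      ← sub_eq_add_neg]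
  have hsigned : ∀ (T : Set (N → ℂ)), T ⊆ S → ∀ (ρ : (N → ℂ) → (G → ℂ)),
      IsLinearIsometryOn (zspan T) ρ → ∀ a ∈ T, IsSignedIrr G (ρ a) := by
    intro T hT ρ hρ a ha
    exact gc_norm_one (hρ.2.2.2 _ (subset_zspan ha))
      (by rw [hρ.2.2.1 _ (subset_zspan ha) _ (subset_zspan ha), classInner_irr_self (hirr a (hT ha))])
  have key : ∀ χ ∈ X, ∀ η ∈ Y, Cfsg.classInner (σ χ) (τ η) = 0 := by
    intro χ hχ η hη
    have oX : ∀ a ∈ X, ∃ b ∈ X, a ≠ b := fun a _ => by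
      obtain ⟨p, hp, q, hq, hpq⟩ := hX2
      by_cases h : a = p
      · exact ⟨q, hq, h ▸ hpq⟩
      · exact ⟨p, hp, h⟩
    have oY : ∀ a ∈ Y, ∃ b ∈ Y, a ≠ b := fun a _ => by
      obtain ⟨p, hp, q, hq, hpq⟩ := hY2
      by_cases h : a = p
      · exact ⟨q, hq, h ▸ hpq⟩
      · exact ⟨p, hp, h⟩
    obtain ⟨χ', hχ', hne⟩ := oX χ hχ
    obtain ⟨η', hη', hne'⟩ := oY η hη
    obtain ⟨d, hd0, hd⟩ := hdeg χ (hXS hχ)
    obtain ⟨d', hd0', hd'⟩ := hdeg χ' (hXS hχ')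
    obtain ⟨e, he0, he⟩ := hdeg η (hYS hη)
    obtain ⟨e', he0', he'⟩ := hdeg η' (hYS hη')
    have hz : ∀ a ∈ X, ∀ b ∈ Y, classInner a b = 0 := fun a ha b hb =>
      classInner_irr_of_ne (hirr a (hXS ha)) (hirr b (hYS hb)) fun h =>
        Set.disjoint_left.1 hXY ha (h ▸ hb)
    have hvX := hv X χ hχ χ' hχ' d d' hd hd'
    have hvY := hv Y η hη η' hη' e e' he he'
    have h1 : σ ((d' : ℤ) • χ - (d : ℤ) • χ') 1 = 0 := by
      rw [hσα _ hvX]; exact hα1 _ (zspanOn_mono hXS hvX)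
    have h2 : τ ((e' : ℤ) • η - (e : ℤ) • η') 1 = 0 := by
      rw [hτα _ hvY]; exact hα1 _ (zspanOn_mono hYS hvY)
    have h3 : classInner (σ ((d' : ℤ) • χ - (d : ℤ) • χ')) (τ ((e' : ℤ) • η - (e : ℤ) • η')) = 0 := by
      rw [hσα _ hvX, hτα _ hvY, hα.2.2.1 _ (zspanOn_mono hXS hvX) _ (zspanOn_mono hYS hvY)]
      simp only [classInner_sub_left, classInner_sub_right, classInner_zsmul_left, classInner_zsmul_right,
        hz χ hχ η hη, hz χ hχ η' hη', hz χ' hχ' η hη, hz χ' hχ' η' hη']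
      simp
    rw [sub X σ hσ χ hχ χ' hχ'] at h1 h3
    rw [sub Y τ hτ η hη η' hη'] at h2 h3
    have hs := hsigned X hXS σ hσ χ hχ
    have hs' := hsigned X hXS σ hσ χ' hχ'
    have ht := hsigned Y hYS τ hτ η hη
    have ht' := hsigned Y hYS τ hτ η' hη'
    have hoX : classInner (σ χ) (σ χ') = 0 := by
      rw [hσ.2.2.1 _ (subset_zspan hχ) _ (subset_zspan hχ'),
        classInner_irr_of_ne (hirr χ (hXS hχ)) (hirr χ' (hXS hχ')) hne]
    have hoY : classInner (τ η) (τ η') = 0 := by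
      rw [hτ.2.2.1 _ (subset_zspan hη) _ (subset_zspan hη'),
        classInner_irr_of_ne (hirr η (hYS hη)) (hirr η' (hYS hη')) hne']
    by_contra hM
    have hne0 : σ χ 1 ≠ 0 := by
      rcases hs with h | h
      · exact IsIrrCharacter.apply_one_ne_zero h
      · simpa using IsIrrCharacter.apply_one_ne_zero h
    obtain ⟨ε, hε, hτη⟩ : ∃ ε : ℂ, (ε = 1 ∨ ε = -1) ∧ τ η = ε • σ χ := by
      rcases (classInner_signed hs ht).2 with h | ⟨h, -⟩ | ⟨h, -⟩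
      · exact absurd h hM
      · exact ⟨1, Or.inl rfl, by rw [h, one_smul]⟩
      · exact ⟨-1, Or.inr rfl, by rw [h, neg_one_smul]⟩
    have hε0 : ε ≠ 0 := by rcases hε with rfl | rfl <;> norm_num
    have hεc : starRingEnd ℂ ε = ε := by rcases hε with rfl | rfl <;> simp
    have hA : classInner (σ χ') (τ η) = 0 := by
      rw [hτη, classInner_smul_right, classInner_symm_zero hoX, mul_zero]
    have hB : classInner (σ χ) (τ η') = 0 := by
      rw [hτη, classInner_smul_left] at hoY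
      exact (mul_eq_zero.1 hoY).resolve_left hε0
    have hC : classInner (σ χ) (τ η) = ε := by
      rw [hτη, classInner_smul_right, (classInner_signed hs hs).1, mul_one, hεc]
    simp only [classInner_sub_left, classInner_sub_right, classInner_zsmul_left, classInner_zsmul_right,
      hA, hB, hC, mul_zero, sub_zero, zero_sub, Int.cast_natCast] at h3
    have hde : (0 : ℝ) < (d : ℝ) * e := by positivity
    have hτη' : τ η' = (-ε) • σ χ' := by
      have key2 : (d' : ℂ) * e' * ε + d * e * classInner (σ χ') (τ η') = 0 := by linear_combination h3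
      rcases (classInner_signed hs' ht').2 with h | ⟨h, hh⟩ | ⟨h, hh⟩
      · rw [h, mul_zero, add_zero] at key2
        simp [hd0'.ne', he0'.ne', hε0] at key2
      · rw [hh] at key2
        rcases hε with rfl | rfl
        · have : (d' : ℝ) * e' + d * e = 0 := by
            have := congrArg Complex.re key2; simpa using this
          nlinarith
        · rw [h, neg_neg, one_smul]
      · rw [hh] at key2
        rcases hε with rfl | rfl
        · rw [h, neg_one_smul]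
        · have : -((d' : ℝ) * e') - d * e = 0 := by
            have := congrArg Complex.re key2; simpa [sub_eq_add_neg] using this
          nlinarith
    simp only [Pi.sub_apply, Pi.smul_apply, Pi.mul_apply, Pi.natCast_apply, zsmul_eq_mul, Int.cast_natCast, hτη, hτη', smul_eq_mul] at h1 h2
    have hcomb : ε * σ χ 1 * ((e' : ℂ) * d + e * d') = 0 := by linear_combination (d : ℂ) * h2 + (ε * (e : ℂ)) * h1
    rcases mul_eq_zero.1 hcomb with h | h
    · exact (mul_ne_zero hε0 hne0) h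
    · have : ((e' * d + e * d' : ℕ) : ℂ) = 0 := by push_cast; exact h
      have : e' * d + e * d' = 0 := by exact_mod_cast this
      nlinarith
  refine ⟨key, ?_⟩
  rintro ⟨χ₀, hχ₀, η₀, hη₀, heq⟩
  obtain ⟨c, hc0, hc⟩ := hdeg χ₀ (hXS hχ₀)
  obtain ⟨e, he0, he⟩ := hdeg η₀ (hYS hη₀)
  rw [hc, he] at heq
  simp only [Nat.cast_smul_eq_nsmul ℂ, ← natCast_zsmul] at heq
  refine ⟨?_, ?_⟩
  · obtain ⟨a, ha, b, hb, hab⟩ := hX2
    obtain ⟨d, hd0, hd⟩ := hdeg a (hXS ha)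
    obtain ⟨d', hd0', hd'⟩ := hdeg b (hXS hb)
    refine ⟨_, zspanOn_mono Set.subset_union_left (hv X a ha b hb d d' hd hd'), fun h => ?_⟩
    have h2 := congrArg (fun f => classInner f a) h
    simp only [classInner_sub_left, classInner_zsmul_left, classInner_irr_self (hirr a (hXS ha)),
      classInner_irr_of_ne (hirr b (hXS hb)) (hirr a (hXS ha)) (Ne.symm hab), classInner_zero_left] at h2
    simp [hd0'.ne'] at h2
  have hsub : X ∪ Y ⊆ {ξ | IsIrrCharacter N ξ} := fun ξ h => h.elim (fun h => hirr _ (hXS h)) fun h => hirr _ (hYS h)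
  have hfin : (X ∪ Y).Finite := by
    haveI : Finite ({ξ | IsIrrCharacter N ξ} : Set (N → ℂ)) := irrCharacter_finite
    exact (Set.toFinite _).subset hsub
  set F := hfin.toFinset
  have hF : (↑F : Set (N → ℂ)) = X ∪ Y := hfin.coe_toFinset
  have memF : ∀ {φ}, φ ∈ F ↔ φ ∈ X ∪ Y := hfin.mem_toFinset
  obtain ⟨τ₁, hτ₁, hval⟩ := exists_extension F
    (fun φ h => IsIrrCharacter.ne_zero (hsub (memF.1 h)))
    (fun φ h ψ h' hne => classInner_irr_of_ne (hsub (memF.1 h)) (hsub (memF.1 h')) hne)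
    (fun ξ => if ξ ∈ X then σ ξ else τ ξ)
    (fun φ h => by
      by_cases hh : φ ∈ X
      · simp only [if_pos hh]; exact hσ.2.2.2 _ (subset_zspan hh)
      · simp only [if_neg hh]; exact hτ.2.2.2 _ (subset_zspan ((memF.1 h).resolve_left hh)))
    (fun φ h ψ h' => by
      by_cases hh : φ ∈ X <;> by_cases hh' : ψ ∈ X
      · simp only [if_pos hh, if_pos hh']; exact hσ.2.2.1 _ (subset_zspan hh) _ (subset_zspan hh')
      · simp only [if_pos hh, if_neg hh']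
        rw [key φ hh ψ ((memF.1 h').resolve_left hh'),
          classInner_irr_of_ne (hsub (memF.1 h)) (hsub (memF.1 h')) (fun e => hh' (e ▸ hh))]
      · simp only [if_neg hh, if_pos hh']
        rw [classInner_symm_zero (key ψ hh' φ ((memF.1 h).resolve_left hh)),
          classInner_irr_of_ne (hsub (memF.1 h)) (hsub (memF.1 h')) (fun e => hh (e ▸ hh'))]
      · simp only [if_neg hh, if_neg hh']
        exact hτ.2.2.1 _ (subset_zspan ((memF.1 h).resolve_left hh)) _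
          (subset_zspan ((memF.1 h').resolve_left hh')))
  rw [hF] at hτ₁
  refine ⟨τ₁, hτ₁, ?_⟩
  have hagX : ∀ a ∈ zspan X, τ₁ a = σ a := fun a ha => by
    refine zspan_induction (P := fun a => τ₁ a = σ a) ?_ ?_ ?_ ?_ ha
    · intro χ hχ; rw [hval χ (memF.2 (Or.inl hχ)), if_pos hχ]
    · rw [lin_zero hτ₁ zspan_zero, lin_zero hσ zspan_zero]
    · intro a ha b hb h1 h2
      rw [hτ₁.1 _ (zspan_mono Set.subset_union_left ha) _ (zspan_mono Set.subset_union_left hb),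
        hσ.1 _ ha _ hb, h1, h2]
    · intro n a ha h1
      rw [hτ₁.2.1 _ (zspan_mono Set.subset_union_left ha), hσ.2.1 _ ha, h1]
  have hagY : ∀ a ∈ zspan Y, τ₁ a = τ a := fun a ha => by
    refine zspan_induction (P := fun a => τ₁ a = τ a) ?_ ?_ ?_ ?_ ha
    · intro η hη
      rw [hval η (memF.2 (Or.inr hη)), if_neg fun h => Set.disjoint_left.1 hXY h hη]
    · rw [lin_zero hτ₁ zspan_zero, lin_zero hτ zspan_zero]
    · intro a ha b hb h1 h2
      rw [hτ₁.1 _ (zspan_mono Set.subset_union_right ha) _ (zspan_mono Set.subset_union_right hb),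
        hτ.1 _ ha _ hb, h1, h2]
    · intro n a ha h1
      rw [hτ₁.2.1 _ (zspan_mono Set.subset_union_right ha), hτ.2.1 _ ha, h1]
  intro f hf
  obtain ⟨hfs, hf1⟩ := mem_zspanOn_one.1 hf
  have hfs' : f ∈ Submodule.span ℤ (X ∪ Y) := hfs
  rw [Submodule.span_union] at hfs'
  obtain ⟨a, ha, b, hb, rfl⟩ := Submodule.mem_sup.1 hfs'
  have hint : ∃ m : ℤ, a 1 = m := by
    refine zspan_induction (P := fun a => ∃ m : ℤ, a 1 = m) ?_ ⟨0, by simp⟩ ?_ ?_ ha
    · intro χ hχ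
      obtain ⟨d, -, hd⟩ := hdeg χ (hXS hχ)
      exact ⟨d, by simp [hd]⟩
    · rintro a _ b _ ⟨m, hm⟩ ⟨n, hn⟩; exact ⟨m + n, by simp [hm, hn]⟩
    · rintro n a _ ⟨m, hm⟩; exact ⟨n * m, by simp [hm]⟩
  obtain ⟨m, hm⟩ := hint
  have hb1 : b 1 = -(m : ℂ) := by rw [Pi.add_apply, hm] at hf1; linear_combination hf1
  set u := (c : ℤ) • a - m • χ₀
  set w := (e : ℤ) • b + m • η₀
  set v := (c : ℤ) • η₀ - (e : ℤ) • χ₀
  have hu : u ∈ zspanOn X {1}ᶜ := mem_zspanOn_one.2 ⟨zspan_sub (zspan_zsmul _ ha)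
    (zspan_zsmul _ (subset_zspan hχ₀)), by simp [u, hm, hc, mul_comm]⟩
  have hw : w ∈ zspanOn Y {1}ᶜ := mem_zspanOn_one.2 ⟨zspan_add (zspan_zsmul _ hb)
    (zspan_zsmul _ (subset_zspan hη₀)), by simp [w, hb1, he, mul_comm]⟩
  have hvS : v ∈ zspanOn (X ∪ Y) {1}ᶜ := mem_zspanOn_one.2 ⟨zspan_sub
    (zspan_zsmul _ (subset_zspan (Or.inr hη₀))) (zspan_zsmul _ (subset_zspan (Or.inl hχ₀))),
    by simp [v, hc, he, mul_comm]⟩
  have hXYS : X ∪ Y ⊆ S := Set.union_subset hXS hYS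
  have hdec : ((c : ℤ) * e) • (a + b) = (e : ℤ) • u + (c : ℤ) • w + (-m) • v := by
    funext x; simp [u, w, v]; ring
  have hu' := zspanOn_mono (Set.subset_union_left (t := Y)) hu
  have hw' := zspanOn_mono (Set.subset_union_right (s := X)) hw
  have e1 : τ₁ u = α u := by rw [hagX _ hu.1, hσα _ hu]
  have e2 : τ₁ w = α w := by rw [hagY _ hw.1, hτα _ hw]
  have e3 : τ₁ v = α v := by
    rw [show τ₁ v = (c : ℤ) • τ₁ η₀ - (e : ℤ) • τ₁ χ₀ from
      sub _ _ hτ₁ η₀ (Or.inr hη₀) χ₀ (Or.inl hχ₀) _ _,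
      hagY _ (subset_zspan hη₀), hagX _ (subset_zspan hχ₀), heq]
  have lin3 : ∀ (E : Set (N → ℂ)) (ρ : (N → ℂ) → (G → ℂ)), IsLinearIsometryOn E ρ →
      (∀ p ∈ E, ∀ q ∈ E, p + q ∈ E) → (∀ p ∈ E, ∀ n : ℤ, n • p ∈ E) → u ∈ E → w ∈ E → v ∈ E →
      a + b ∈ E → ((c : ℤ) * e) • ρ (a + b) = (e : ℤ) • ρ u + (c : ℤ) • ρ w + (-m) • ρ v := by
    intro E ρ hρ hadd hsmul h1 h2 h3 h4
    rw [← hρ.2.1 _ h4, hdec, hρ.1 _ (hadd _ (hsmul _ h1 _) _ (hsmul _ h2 _)) _ (hsmul _ h3 _),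
      hρ.1 _ (hsmul _ h1 _) _ (hsmul _ h2 _), hρ.2.1 _ h1, hρ.2.1 _ h2, hρ.2.1 _ h3]
  have l1 := lin3 _ τ₁ hτ₁ (fun p hp q hq => zspan_add hp hq) (fun p hp n => zspan_zsmul n hp)
    hu'.1 hw'.1 hvS.1 hfs
  have l2 := lin3 _ α hα (fun p hp q hq => zspanOn_add hp hq) (fun p hp n => zspanOn_zsmul n hp)
    (zspanOn_mono hXYS hu') (zspanOn_mono hXYS hw') (zspanOn_mono hXYS hvS) (zspanOn_mono hXYS hf)
  rw [e1, e2, e3, ← l2] at l1
  exact smul_right_injective _ (mul_ne_zero (by exact_mod_cast hc0.ne') (by exact_mod_cast he0.ne')) l1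

end Cfsg.Agent.S1531
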