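import Cfsg.Statements.S0878
import Cfsg.Agent.Lib.Zassenhaus.Basic

set_option autoImplicit false
open Cfsg

namespace Cfsg.Agent.S0878

/-- Let G be a Zassenhaus group on the finite set Ω, a a point, and let H be the subgroup of the stabilizer of a consisting of the identity and the elements fixing no point other than a (given here as a subgroup of the stabilizer of order one less than the number of points whose non-identity elements fix only a; it is the Frobenius kernel of the stabilizer). Then an element outside the stabilizer of a conjugates no non-identity element of H into H, and the normalizer of H is exactly the stabilizer of a. -/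
theorem result {G Ω : Type*} [Group G] [Finite G] [MulAction G Ω] [Fintype Ω] (hZ : Cfsg.IsZassenhausGroup G Ω) (a : Ω) (H : Subgroup G) (hHa : H ≤ MulAction.stabilizer G a) (hHcard : Nat.card H + 1 = Fintype.card Ω) (hHfix : ∀ u ∈ H, u ≠ 1 → ∀ c : Ω, u • c = c → c = a) : (∀ g : G, g ∉ MulAction.stabilizer G a → ∀ u ∈ H, g * u * g⁻¹ ∈ H → u = 1) ∧ Subgroup.normalizer (H : Set G) = MulAction.stabilizer G a := by
  have hcard : Nat.card H = Nat.card Ω - 1 := by
    rw [Nat.card_eq_fintype_card (α := Ω)]; omega
  have hH := Zassenhaus.coe_eq_pointKernel hZ H hHa hcard hHfix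
  refine ⟨?_, ?_⟩
  · intro g hg u hu hgu
    by_contra hu1
    apply hg
    refine hHfix _ hgu (fun h => hu1 (by simpa [mul_inv_eq_one] using h)) (g • a) ?_
    rw [mul_smul, mul_smul, inv_smul_smul, show u • a = a from hHa hu]
  · apply le_antisymm
    · intro g hg
      obtain ⟨u, hu1⟩ : ∃ u : H, u ≠ 1 := by
        haveI : Nontrivial H := by
          rw [← Finite.one_lt_card_iff_nontrivial, hcard]
          have := Zassenhaus.three_le_card hZ
          omega
        exact exists_ne 1
      have hu := (Subgroup.mem_normalizer_iff.1 hg u).1 u.2
      exact hHfix _ hu (fun h => hu1 (Subtype.ext (by simpa [mul_inv_eq_one] using h))) (g • a)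
        (by rw [mul_smul, mul_smul, inv_smul_smul, show (u : G) • a = a from hHa u.2])
    · intro g hg
      rw [Subgroup.mem_normalizer_iff]
      have key : ∀ g ∈ MulAction.stabilizer G a, ∀ u ∈ H, g * u * g⁻¹ ∈ H := by
        intro g hg u hu
        have hua : u • a = a := hHa hu
        have hga : g • a = a := hg
        have hgia : g⁻¹ • a = a := inv_smul_eq_iff.2 hga.symm
        change g * u * g⁻¹ ∈ (H : Set G)
        rw [hH]
        refine ⟨by simp [mul_smul, hgia, hua, hga], ?_⟩
        by_cases h1 : u = 1
        · left; simp [h1]
        · right
          intro c hc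
          have : u • (g⁻¹ • c) = g⁻¹ • c := by
            rw [eq_inv_smul_iff, ← mul_smul, ← mul_smul]; exact hc
          have := hHfix u hu h1 _ this
          rw [inv_smul_eq_iff] at this
          exact this.trans hga
      intro u
      refine ⟨key g hg u, fun h => ?_⟩
      have := key g⁻¹ (inv_mem hg) _ h
      simpa [mul_assoc] using this

end Cfsg.Agent.S0878
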