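import Cfsg.Statements.S0880
import Cfsg.Agent.Lib.Zassenhaus.Basic

set_option autoImplicit false
open Cfsg

namespace Cfsg.Agent.S0880

theorem arith {n d c A1 A2 A0 : ℕ} (hn : 3 ≤ n) (hd : 3 ≤ d) (h1 : A1 = n * (n - 2))
    (h2 : 2 * A2 = n * (n - 1) * (d - 1)) (hsum : 1 + A1 + A2 + A0 = n * ((n - 1) * d))
    (hc : A0 * c = n * ((n - 1) * d)) : False := by
  obtain ⟨m, rfl⟩ : ∃ m, n = m + 3 := ⟨n - 3, by omega⟩
  obtain ⟨e, rfl⟩ : ∃ e, d = e + 3 := ⟨d - 3, by omega⟩
  rw [show m + 3 - 1 = m + 2 by omega] at h2 hsum hc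
  rw [show m + 3 - 2 = m + 1 by omega] at h1
  rw [show e + 3 - 1 = e + 2 by omega] at h2
  have h0 : 2 * A0 = (m + 2) * ((m + 3) * (e + 2) + 2) := by nlinarith
  have hc' : ((m + 3) * (e + 2) + 2) * c = 2 * ((m + 3) * (e + 3)) := by
    have : (m + 2) * (((m + 3) * (e + 2) + 2) * c) = (m + 2) * (2 * ((m + 3) * (e + 3))) := by
      rw [← mul_assoc, ← h0, mul_assoc 2, hc]; ring
    exact Nat.eq_of_mul_eq_mul_left (by omega) this
  rcases Nat.lt_or_ge c 3 with h | h
  · interval_cases c <;> nlinarith
  · have := Nat.mul_le_mul_left ((m + 3) * (e + 2) + 2) h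
    nlinarith


/-- Let G be a finite simple Zassenhaus group on Ω with n points whose two-point stabilizer E has odd order less than n - 2. Then there are two elements of G, each fixing no point of Ω, that are not conjugate. -/
theorem result {G Ω : Type*} [Group G] [Finite G] [MulAction G Ω] [Fintype Ω] (hZ : Cfsg.IsZassenhausGroup G Ω) {a b : Ω} (hab : a ≠ b) [IsSimpleGroup G] (hodd : Odd (Nat.card ↥(MulAction.stabilizer G a ⊓ MulAction.stabilizer G b : Subgroup G))) (hlt : Nat.card ↥(MulAction.stabilizer G a ⊓ MulAction.stabilizer G b : Subgroup G) < Fintype.card Ω - 2) : ∃ x y : G, (∀ c : Ω, x • c ≠ c) ∧ (∀ c : Ω, y • c ≠ c) ∧ ¬ IsConj x y := by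
  classical
  have := Fintype.ofFinite G
  set n := Fintype.card Ω with hndef
  set d := Nat.card ↥(MulAction.stabilizer G a ⊓ MulAction.stabilizer G b : Subgroup G) with hd
  have hn : 3 ≤ n := by rw [hndef, ← Nat.card_eq_fintype_card]; exact Zassenhaus.three_le_card hZ
  have hd3 : 3 ≤ d := by
    have hd1 : d ≠ 1 := by
      intro h
      obtain ⟨x, hx1, hxa, hxb⟩ := Zassenhaus.exists_fix_pair hZ hab
      exact hx1 (Subgroup.mem_bot.1 ((Subgroup.card_eq_one.1 h).le ⟨hxa, hxb⟩))
    obtain ⟨k, hk⟩ := hodd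
    omega
  let fx : G → ℕ := fun g => (Finset.univ.filter (fun c : Ω => g • c = c)).card
  let F : ℕ → Finset G := fun i => (Finset.univ.erase 1).filter (fun g => fx g = i)
  have hfx_le : ∀ g : G, g ≠ 1 → fx g ≤ 2 := by
    intro g hg
    have h := Zassenhaus.card_fixedBy_le_two hZ hg
    rw [Nat.card_eq_fintype_card] at h
    simp only [fx]
    rw [← Fintype.card_subtype]
    exact (Fintype.card_congr (Equiv.refl _)).le.trans h
  have hG : Fintype.card G = n * ((n - 1) * d) := by
    rw [← Nat.card_eq_fintype_card, Zassenhaus.card_eq hZ hab, Nat.card_eq_fintype_card (α := Ω)]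
  -- elements with exactly one fixed point
  have h1 : (F 1).card * 1 = (Finset.univ : Finset Ω).card * (n - 2) := by
    refine Finset.card_mul_eq_card_mul (fun g c => g • c = c) ?_ ?_
    · intro g hg
      exact (Finset.mem_filter.1 hg).2
    · intro c _
      have e : (F 1).bipartiteBelow (fun g c => g • c = c) c =
          (Zassenhaus.pointKernel G c).toFinset.erase 1 := by
        ext g
        simp only [F, fx, Finset.mem_bipartiteBelow, Finset.mem_filter, Finset.mem_erase, Finset.mem_univ,
          and_true, Set.mem_toFinset]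
        simp only [Zassenhaus.pointKernel, Set.mem_ofPred_eq]
        constructor
        · rintro ⟨⟨hg1, hcard⟩, hc⟩
          obtain ⟨x, hx⟩ := Finset.card_eq_one.1 hcard
          refine ⟨hg1, hc, Or.inr fun y hy => ?_⟩
          have h1 : y ∈ ({x} : Finset Ω) := hx ▸ by simp [hy]
          have h2 : c ∈ ({x} : Finset Ω) := hx ▸ by simp [hc]
          rw [Finset.mem_singleton] at h1 h2
          rw [h1, h2]
        · rintro ⟨hg1, hc, h⟩
          refine ⟨⟨hg1, Finset.card_eq_one.2 ⟨c, ?_⟩⟩, hc⟩
          ext y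
          simp only [Finset.mem_filter, Finset.mem_univ, true_and, Finset.mem_singleton]
          exact ⟨fun hy => h.resolve_left hg1 y hy, fun hy => hy ▸ hc⟩
      rw [e, Finset.card_erase_of_mem ((by rw [Set.mem_toFinset]; exact ⟨one_smul G c, Or.inl rfl⟩)), Set.toFinset_card,
        ← Nat.card_eq_fintype_card, Zassenhaus.card_pointKernel hZ c, Nat.card_eq_fintype_card (α := Ω)]
      omega
  have h2 : (F 2).card * 2 = (Finset.univ : Finset Ω).offDiag.card * (d - 1) := by
    refine Finset.card_mul_eq_card_mul (fun g p => g • p.1 = p.1 ∧ g • p.2 = p.2) ?_ ?_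
    · intro g hg
      have e : (Finset.univ : Finset Ω).offDiag.bipartiteAbove (fun g p => g • p.1 = p.1 ∧ g • p.2 = p.2) g =
          (Finset.univ.filter (fun c : Ω => g • c = c)).offDiag := by
        ext p
        simp only [Finset.mem_bipartiteAbove, Finset.mem_offDiag, Finset.mem_filter, Finset.mem_univ, true_and]
        tauto
      rw [e, Finset.offDiag_card, show (Finset.univ.filter (fun c : Ω => g • c = c)).card = 2 from
        (Finset.mem_filter.1 hg).2]
    · intro p hp
      have hp' : p.1 ≠ p.2 := (Finset.mem_offDiag.1 hp).2.2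
      have e : (F 2).bipartiteBelow (fun g p => g • p.1 = p.1 ∧ g • p.2 = p.2) p =
          (Finset.univ.filter (fun g => g ∈ MulAction.stabilizer G p.1 ⊓ MulAction.stabilizer G p.2)).erase 1 := by
        ext g
        simp only [F, fx, Finset.mem_bipartiteBelow, Finset.mem_filter, Finset.mem_erase, Finset.mem_univ,
          and_true, true_and, Subgroup.mem_inf, MulAction.mem_stabilizer_iff]
        constructor
        · rintro ⟨⟨hg1, _⟩, h⟩; exact ⟨hg1, h⟩
        · rintro ⟨hg1, h⟩
          refine ⟨⟨hg1, le_antisymm (hfx_le g hg1) ?_⟩, h⟩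
          rw [← Finset.card_pair hp']
          apply Finset.card_le_card
          intro c hc
          simp only [Finset.mem_insert, Finset.mem_singleton] at hc
          rcases hc with rfl | rfl <;> simp [h.1, h.2]
      rw [e, Finset.card_erase_of_mem (by simp), ← Fintype.card_subtype, ← Nat.card_eq_fintype_card, hd,
        ← Zassenhaus.card_pair_stab_eq hZ hab hp']
  rw [mul_one, Finset.card_univ, ← hndef] at h1
  rw [Finset.offDiag_card, Finset.card_univ, ← hndef, show n * n - n = n * (n - 1) by
    rw [Nat.mul_sub, mul_one]] at h2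
  have hsum : 1 + (F 1).card + (F 2).card + (F 0).card = n * ((n - 1) * d) := by
    have h := Finset.card_eq_sum_card_fiberwise (f := fx) (s := Finset.univ.erase (1 : G))
      (t := Finset.range 3) (fun g hg => Finset.mem_range.2 (Nat.lt_succ_of_le (hfx_le g (Finset.mem_erase.1 hg).1)))
    rw [Finset.sum_range_succ, Finset.sum_range_succ, Finset.sum_range_one, Finset.card_erase_of_mem (Finset.mem_univ _),
      Finset.card_univ, hG] at h
    have : 0 < n * ((n - 1) * d) := hG ▸ Fintype.card_pos
    simp only [F]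
    omega
  have hF0 : ∀ g : G, g ∈ F 0 ↔ ∀ c : Ω, g • c ≠ c := by
    intro g
    simp only [F, fx, Finset.mem_filter, Finset.mem_erase, Finset.mem_univ, and_true, Finset.card_eq_zero,
      Finset.filter_eq_empty_iff, true_implies]
    exact ⟨fun h => h.2, fun h => ⟨fun h1 => h a (h1 ▸ one_smul G a), h⟩⟩
  by_contra hcon
  push Not at hcon
  by_cases hne : (F 0).Nonempty
  · obtain ⟨x, hx⟩ := hne
    have hclass : MulAction.orbit (ConjAct G) x = (F 0 : Set G) := by
      ext y
      rw [ConjAct.mem_orbit_conjAct, Finset.mem_coe, hF0]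
      constructor
      · intro h c hc
        obtain ⟨k, hk⟩ := isConj_iff.1 h
        refine (hF0 x).1 hx (k • c) ?_
        rw [← hk]
        simp [mul_smul, hc]
      · intro h
        exact (hcon x y ((hF0 x).1 hx) h).symm
    have hc := Subgroup.card_mul_index (MulAction.stabilizer (ConjAct G) x)
    rw [MulAction.index_stabilizer, hclass, Set.ncard_coe_finset, mul_comm] at hc
    exact arith hn hd3 h1 (by rw [mul_comm]; exact h2) hsum (hc.trans (by
      rw [← hG, ← Nat.card_eq_fintype_card]; rfl))
  · rw [Finset.not_nonempty_iff_eq_empty] at hne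
    rw [hne, Finset.card_empty, h1] at hsum
    obtain ⟨m, hm⟩ : ∃ m, n = m + 3 := ⟨n - 3, by omega⟩
    obtain ⟨e, he⟩ : ∃ e, d = e + 3 := ⟨d - 3, by omega⟩
    rw [hm, he, show m + 3 - 1 = m + 2 by omega, show m + 3 - 2 = m + 1 by omega] at hsum
    rw [hm, he, show m + 3 - 1 = m + 2 by omega, show e + 3 - 1 = e + 2 by omega] at h2
    nlinarith

end Cfsg.Agent.S0880
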