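import Cfsg.Statements.S0881
import Cfsg.Agent.Lib.Zassenhaus.Simple
import Cfsg.Agent.S0878
import Cfsg.Agent.Lib.Char.Linear
import Cfsg.Agent.Lib.Char.Induced
import Cfsg.Agent.EqLemmas

set_option autoImplicit false
open Cfsg

namespace Cfsg.Agent.S0881

/-- Let G be a finite simple Zassenhaus group on Ω with n points, a ≠ b points with two-point stabilizer E of odd order less than n - 2, and let H be the subgroup of the stabilizer of a consisting of the identity and the elements fixing no point other than a (given here as a subgroup of the stabilizer of order one less than the number of points whose non-identity elements fix only a; it is the Frobenius kernel of the stabilizer). Let μ be a character of degree 1 of the stabilizer of a that is identically 1 on H but not identically 1. Then the function induced from μ to G is an irreducible character of G, and it takes the value 1 at every non-identity element of H. -/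
theorem result {G Ω : Type*} [Group G] [Fintype G] [MulAction G Ω] [Fintype Ω] (hZ : Cfsg.IsZassenhausGroup G Ω) {a b : Ω} (hab : a ≠ b) [IsSimpleGroup G] (hodd : Odd (Nat.card ↥(MulAction.stabilizer G a ⊓ MulAction.stabilizer G b : Subgroup G))) (hlt : Nat.card ↥(MulAction.stabilizer G a ⊓ MulAction.stabilizer G b : Subgroup G) < Fintype.card Ω - 2) (H : Subgroup G) (hHa : H ≤ MulAction.stabilizer G a) (hHcard : Nat.card H + 1 = Fintype.card Ω) (hHfix : ∀ u ∈ H, u ≠ 1 → ∀ c : Ω, u • c = c → c = a) (μ : MulAction.stabilizer G a → ℂ) (hμ : Cfsg.IsCharacter (MulAction.stabilizer G a) μ ∧ μ 1 = 1) (hμH : ∀ u : MulAction.stabilizer G a, (u : G) ∈ H → μ u = 1) (hμne : μ ≠ fun _ => 1) : Cfsg.IsIrrCharacter G (Cfsg.indFun (MulAction.stabilizer G a) μ) ∧ ∀ u ∈ H, u ≠ 1 → Cfsg.indFun (MulAction.stabilizer G a) μ u = 1 := by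
  classical
  obtain ⟨hμc, hμ1⟩ := hμ
  obtain ⟨l, hl⟩ := Char.exists_hom_of_degree_one hμc hμ1
  obtain ⟨-, -, hinv⟩ := Zassenhaus.simple_cyclic_inv hZ hab hodd
  obtain ⟨s, -, hsa, hsb⟩ := Zassenhaus.exists_involution_swap hZ hab
  set n := Fintype.card Ω with hn
  set e := Nat.card ↥(MulAction.stabilizer G a ⊓ MulAction.stabilizer G b : Subgroup G) with he
  have hn3 : 3 ≤ n := by rw [hn, ← Nat.card_eq_fintype_card]; exact Zassenhaus.three_le_card hZ
  have hcardH : Nat.card H = Nat.card Ω - 1 := by rw [Nat.card_eq_fintype_card (α := Ω)]; omega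
  have hK := Zassenhaus.coe_eq_pointKernel hZ H hHa hcardH hHfix
  have := Fintype.ofFinite (MulAction.stabilizer G a)
  have hScard : Nat.card (MulAction.stabilizer G a) = (n - 1) * e := by
    rw [hn, ← Nat.card_eq_fintype_card (α := Ω)]; exact Zassenhaus.card_stab hZ hab
  have hS0 : (Nat.card (MulAction.stabilizer G a) : ℂ) ≠ 0 := Nat.cast_ne_zero.2 Nat.card_pos.ne'
  have hmemS : ∀ (g x : G), x⁻¹ * g * x ∈ (MulAction.stabilizer G a) ↔ g • (x • a) = x • a := by
    intro g x
    rw [MulAction.mem_stabilizer_iff, mul_smul, mul_smul, inv_smul_eq_iff]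
  have hconjl : ∀ x g : (MulAction.stabilizer G a), l (x⁻¹ * g * x) = l g := by
    intro x g
    rw [map_mul, map_mul, mul_comm (l x⁻¹), mul_assoc, ← map_mul, inv_mul_cancel, map_one, mul_one]
  have hlinv : ∀ g : (MulAction.stabilizer G a), l g⁻¹ = (starRingEnd ℂ) (l g) := by
    intro g
    have h1 : l g ^ orderOf g = 1 := by rw [← map_pow, pow_orderOf_eq_one, map_one]
    have h2 : ‖l g‖ = 1 := Complex.norm_eq_one_of_pow_eq_one h1 (orderOf_pos g).ne'
    have h3 : l g * l g⁻¹ = 1 := by rw [← map_mul, mul_inv_cancel, map_one]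
    rw [eq_inv_of_mul_eq_one_right h3]
    exact Complex.inv_eq_conj h2
  -- value on non-identity elements of the kernel
  have hval1 : ∀ g : (MulAction.stabilizer G a), (g : G) ∈ H → g ≠ 1 → Cfsg.indFun (MulAction.stabilizer G a) μ g = 1 := by
    intro g hg hg1
    have hg1' : (g : G) ≠ 1 := fun h => hg1 (Subtype.ext h)
    have key : ∀ x : G, extendByZero (MulAction.stabilizer G a) μ (x⁻¹ * g * x) = if x ∈ (MulAction.stabilizer G a) then 1 else 0 := by
      intro x
      by_cases hx : x ∈ (MulAction.stabilizer G a)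
      · rw [if_pos hx, ← hl, Char.extendByZero_mem (MulAction.stabilizer G a) (⇑l) (mul_mem (mul_mem (inv_mem hx) g.2) hx)]
        rw [show (⟨x⁻¹ * (g : G) * x, _⟩ : (MulAction.stabilizer G a)) = (⟨x, hx⟩ : (MulAction.stabilizer G a))⁻¹ * g * ⟨x, hx⟩ from rfl, hconjl, hl]
        exact hμH g hg
      · rw [if_neg hx, Char.extendByZero_not_mem]
        intro h
        rw [hmemS] at h
        exact hx (hHfix _ hg hg1' _ h)
    rw [Cfsg.indFun, Finset.sum_congr rfl fun x _ => key x, Finset.sum_boole,
      ← Fintype.card_subtype, ← Nat.card_eq_fintype_card]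
    exact inv_mul_cancel₀ hS0
  refine ⟨?_, fun u hu hu1 => hval1 ⟨u, hHa hu⟩ hu (fun h => hu1 (congrArg Subtype.val h))⟩
  -- value outside the kernel
  have hval2 : ∀ g : (MulAction.stabilizer G a), (g : G) ∉ H → Cfsg.indFun (MulAction.stabilizer G a) μ g = l g + l g⁻¹ := by
    intro g hg
    have hga : (g : G) • a = a := g.2
    have hg1 : (g : G) ≠ 1 := fun h => hg (h ▸ one_mem H)
    obtain ⟨c, hgc, hca⟩ : ∃ c : Ω, (g : G) • c = c ∧ c ≠ a := by
      by_contra h
      push Not at h
      apply hg
      change (g : G) ∈ (H : Set G)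
      rw [hK]
      exact ⟨hga, Or.inr fun c hc => h c hc⟩
    obtain ⟨k, hka, hkb⟩ := Zassenhaus.exists_smul_pair hZ hab (Ne.symm hca)
    let k' : (MulAction.stabilizer G a) := ⟨k, hka⟩
    have hg'S : k⁻¹ * (g : G) * k ∈ MulAction.stabilizer G a ⊓ MulAction.stabilizer G b :=
      ⟨(k'⁻¹ * g * k').2, show (k⁻¹ * (g : G) * k) • b = b by
        rw [mul_smul, mul_smul, hkb, hgc, ← hkb, inv_smul_smul]⟩
    have hconjs : (k * s)⁻¹ * g * (k * s) = (k⁻¹ * (g : G) * k)⁻¹ := by
      rw [← hinv s⁻¹ (inv_smul_eq_iff.2 hsb.symm) (inv_smul_eq_iff.2 hsa.symm) _ hg'S]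
      group
    have key : ∀ x : G, extendByZero (MulAction.stabilizer G a) μ (x⁻¹ * g * x) =
        (if x ∈ (MulAction.stabilizer G a) then l g else 0) + (if (k * s)⁻¹ * x ∈ (MulAction.stabilizer G a) then l g⁻¹ else 0) := by
      intro x
      by_cases hx : x ∈ (MulAction.stabilizer G a)
      · have hx' : (k * s)⁻¹ * x ∉ (MulAction.stabilizer G a) := by
          intro h
          rw [MulAction.mem_stabilizer_iff, mul_smul, inv_smul_eq_iff,
            show x • a = a from hx, mul_smul, hsa, hkb] at h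
          exact hca h.symm
        rw [if_pos hx, if_neg hx', add_zero, ← hl,
          Char.extendByZero_mem (MulAction.stabilizer G a) (⇑l) (mul_mem (mul_mem (inv_mem hx) g.2) hx)]
        exact hconjl ⟨x, hx⟩ g
      · rw [if_neg hx, zero_add]
        by_cases hx' : (k * s)⁻¹ * x ∈ (MulAction.stabilizer G a)
        · let y : (MulAction.stabilizer G a) := ⟨(k * s)⁻¹ * x, hx'⟩
          have hxe : x⁻¹ * g * x = ((y⁻¹ * (k'⁻¹ * g * k')⁻¹ * y : (MulAction.stabilizer G a)) : G) := by
            change x⁻¹ * g * x = ((k * s)⁻¹ * x)⁻¹ * (k⁻¹ * (g : G) * k)⁻¹ * ((k * s)⁻¹ * x)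
            rw [← hconjs]
            group
          rw [if_pos hx', hxe, ← hl, Char.extendByZero_coe, hconjl,
            show (k'⁻¹ * g * k')⁻¹ = k'⁻¹ * g⁻¹ * k' by group, hconjl]
        · rw [if_neg hx', Char.extendByZero_not_mem]
          intro h
          rw [hmemS] at h
          rcases Zassenhaus.eq_left_or_eq_right hZ hg1 (Ne.symm hca) hga hgc h with h1 | h1
          · exact hx h1
          · apply hx'
            rw [MulAction.mem_stabilizer_iff, mul_smul, h1, inv_smul_eq_iff, mul_smul, hsa, hkb]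
    have hsum2 : ∑ x : G, (if (k * s)⁻¹ * x ∈ (MulAction.stabilizer G a) then l g⁻¹ else 0) =
        ∑ x : G, (if x ∈ (MulAction.stabilizer G a) then l g⁻¹ else 0) :=
      Fintype.sum_equiv (Equiv.mulLeft (k * s)⁻¹) _ _ fun x => rfl
    rw [Cfsg.indFun, Finset.sum_congr rfl fun x _ => key x, Finset.sum_add_distrib, hsum2,
      ← Finset.sum_filter, ← Finset.sum_filter, Finset.sum_const, Finset.sum_const, nsmul_eq_mul,
      nsmul_eq_mul, ← mul_add, ← Fintype.card_subtype, ← Nat.card_eq_fintype_card]
    rw [inv_mul_cancel_left₀ hS0]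
  rw [Char.isIrrCharacter_iff_norm_one (Char.IsCharacter.indFun (MulAction.stabilizer G a) hμc),
    Char.frobenius_reciprocity (MulAction.stabilizer G a) μ (Char.indFun_isClassFunction (MulAction.stabilizer G a) μ), classInner, ← hl]
  -- squares of the values sum to zero
  have hHn : (H.subgroupOf (MulAction.stabilizer G a)).Normal := by
    refine ⟨fun u hu g => ?_⟩
    rw [Subgroup.mem_subgroupOf] at hu ⊢
    have := Fintype.ofFinite G
    exact (Subgroup.mem_normalizer_iff.1 ((S0878.result hZ a H hHa hHcard hHfix).2.ge g.2) _).1 hu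
  have hidx : (H.subgroupOf (MulAction.stabilizer G a)).index = e := by
    have h1 := Subgroup.card_mul_index (H.subgroupOf (MulAction.stabilizer G a))
    rw [Nat.card_congr (Subgroup.subgroupOfEquivOfLe hHa).toEquiv, hScard, hcardH,
      Nat.card_eq_fintype_card (α := Ω), ← hn] at h1
    exact Nat.eq_of_mul_eq_mul_left (by omega) h1
  have hsq : ∑ g : (MulAction.stabilizer G a), l g * l g = 0 := by
    obtain ⟨g₀, hg₀⟩ : ∃ g₀ : (MulAction.stabilizer G a), l g₀ * l g₀ ≠ 1 := by
      by_contra h
      push Not at h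
      apply hμne
      funext g
      have hpow : g ^ e ∈ H.subgroupOf (MulAction.stabilizer G a) := hidx ▸ Subgroup.pow_index_mem (H.subgroupOf (MulAction.stabilizer G a)) g
      have h1 : l g ^ e = 1 := by
        rw [← map_pow, hl]; exact hμH _ (Subgroup.mem_subgroupOf.1 hpow)
      obtain ⟨m, hm⟩ := hodd
      rw [hm, pow_succ, pow_mul, pow_two, h g, one_pow, one_mul] at h1
      rw [← hl]; exact h1
    have h2 : (l g₀ * l g₀) * ∑ g : (MulAction.stabilizer G a), l g * l g = ∑ g : (MulAction.stabilizer G a), l g * l g := by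
      rw [Finset.mul_sum]
      refine Fintype.sum_equiv (Equiv.mulLeft g₀) _ _ fun g => ?_
      simp only [Equiv.coe_mulLeft, map_mul]
      ring
    by_contra h0
    exact hg₀ (mul_right_cancel₀ h0 (h2.trans (one_mul _).symm))
  have hterm : ∀ g : (MulAction.stabilizer G a), l g * (starRingEnd ℂ) (Cfsg.indFun (MulAction.stabilizer G a) (⇑l) g) =
      (l g * l g + 1) + (if (g : G) ∈ H then (-1 : ℂ) else 0) + (if g = 1 then ((n : ℂ) - 1) else 0) := by
    intro g
    by_cases hg : (g : G) ∈ H
    · have hlg : l g = 1 := by rw [hl]; exact hμH g hg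
      by_cases hg1 : g = 1
      · subst hg1
        rw [if_pos hg, if_pos rfl, Subgroup.coe_one, Char.indFun_one_apply,
          Zassenhaus.index_stab hZ a, Nat.card_eq_fintype_card, ← hn, map_one]
        simp only [mul_one, one_mul, Complex.conj_natCast]
        ring
      · rw [if_pos hg, if_neg hg1, hl, hval1 g hg hg1, ← hl, hlg, map_one]
        ring
    · have hg1 : g ≠ 1 := fun h => hg (by rw [h]; exact one_mem H)
      rw [if_neg hg, if_neg hg1, hl, hval2 g hg, ← hl, map_add, hlinv, RingHomCompTriple.comp_apply,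
        RingHom.id_apply, mul_add, ← hlinv g, ← map_mul, mul_inv_cancel, map_one]
      ring
  rw [Finset.sum_congr rfl fun g _ => hterm g, Finset.sum_add_distrib, Finset.sum_add_distrib,
    Finset.sum_add_distrib, hsq, Finset.sum_const, Finset.card_univ, ← Finset.sum_filter,
    Finset.sum_const, ← Fintype.card_subtype, Finset.sum_ite_eq' Finset.univ (1 : (MulAction.stabilizer G a)) (fun _ => ((n : ℂ) - 1))]
  have hHc : Fintype.card {g : (MulAction.stabilizer G a) // (g : G) ∈ H} = n - 1 := by
    rw [← Nat.card_eq_fintype_card, hn, ← Nat.card_eq_fintype_card (α := Ω), ← hcardH]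
    exact Nat.card_congr (Subgroup.subgroupOfEquivOfLe hHa).toEquiv
  rw [hHc, if_pos (Finset.mem_univ _), ← Nat.card_eq_fintype_card, nsmul_eq_mul, nsmul_eq_mul,
    Nat.cast_sub (by omega : 1 ≤ n), mul_one, mul_neg_one, Nat.cast_one]
  field_simp
  ring

end Cfsg.Agent.S0881
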