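import Cfsg.Statements.S4748
import Cfsg.Agent.Lib.Blocks.Defect
import Cfsg.Agent.Lib.Char.Linear
import Cfsg.Agent.Lib.CharApp.Schur
import Cfsg.Agent.Lib.Coprime.Invariant
import Cfsg.Agent.Lib.Coprime.Generation
import Cfsg.Agent.Lib.Coprime.Abelian
import Cfsg.Agent.Lib.Cores.Basic
import Cfsg.Agent.Lib.Solvable.PiSeparable
import Cfsg.Agent.Lib.Solvable.Fitting

set_option autoImplicit false
open scoped Pointwise
open Cfsg

namespace Cfsg.Agent.S4748

open Cfsg.Agent
open scoped ComplexConjugate Pointwise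

/-- An irreducible character with every commutator in its kernel is linear. -/
theorem linear_of_commutator_ker {X : Type*} [Group X] [Finite X] (χ : IrrCharacter X)
    (h : ∀ d ∈ commutator X, (χ : X → ℂ) d = (χ : X → ℂ) 1) : (χ : X → ℂ) 1 = 1 := by
  obtain ⟨n, ρ, hρ, hχ⟩ := χ.2
  haveI := hρ
  have hker : ∀ d ∈ commutator X, ρ d = 1 := fun d hd => by
    refine (Char.character_eq_finrank_iff ρ d).mp ?_
    rw [hχ, h d hd, ← hχ, Representation.char_one]
  have hab : ∀ g : X, ∃ a : ℂ, ρ g = a • 1 := fun g => by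
    refine CharApp.exists_scalar_of_commute ρ (ρ g) fun g' => ?_
    have hc : g⁻¹ * g'⁻¹ * g * g' ∈ commutator X := by
      have := Subgroup.commutator_mem_commutator (Subgroup.mem_top g⁻¹) (Subgroup.mem_top g'⁻¹)
      rwa [commutatorElement_def, inv_inv, inv_inv] at this
    rw [← map_mul, ← map_mul, show g * g' = g' * g * (g⁻¹ * g'⁻¹ * g * g') by group, map_mul,
      hker _ hc, mul_one]
  haveI := CharApp.nontrivial_of_irr ρ
  obtain ⟨v, hv⟩ := exists_ne (0 : Fin n → ℂ)
  rcases CharApp.eq_bot_or_top_of_invariant ρ (Submodule.span ℂ {v}) (fun g w hw => by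
    obtain ⟨a, ha⟩ := hab g
    rw [ha]; exact Submodule.smul_mem _ a hw) with hb | ht
  · exact absurd (by simpa using hb) hv
  · have h1 := finrank_span_singleton (K := ℂ) hv
    rw [ht, finrank_top] at h1
    rw [← hχ, Representation.char_one, h1, Nat.cast_one]

/-- Constituents of a character have its kernel in theirs. -/
theorem constituent_ker {X : Type*} [Group X] [Fintype X] {ψ : X → ℂ} (hψ : IsCharacter X ψ)
    {d : X} (hd : ψ d = ψ 1) (lam : IrrCharacter X) (hl : classInner ψ (lam : X → ℂ) ≠ 0) :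
    (lam : X → ℂ) d = (lam : X → ℂ) 1 := by
  classical
  have := Fintype.ofFinite (IrrCharacter X)
  obtain ⟨m, hm, hmi⟩ := Char.IsCharacter.decompose hψ
  have hle : ∀ φ ∈ (Finset.univ : Finset (IrrCharacter X)),
      (m φ : ℝ) * ((φ : X → ℂ) d).re ≤ (m φ : ℝ) * ((φ : X → ℂ) 1).re := fun φ _ =>
    mul_le_mul_of_nonneg_left ((Complex.re_le_norm _).trans
      (Char.IsCharacter.norm_le (Char.IsIrrCharacter.isCharacter φ.2) d)) (Nat.cast_nonneg _)
  have heq : ∑ φ : IrrCharacter X, (m φ : ℝ) * ((φ : X → ℂ) d).re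
      = ∑ φ : IrrCharacter X, (m φ : ℝ) * ((φ : X → ℂ) 1).re := by
    have := congrArg Complex.re hd
    rw [hm] at this
    simpa [Finset.sum_apply, Complex.re_sum] using this
  have h1 := (Finset.sum_eq_sum_iff_of_le hle).mp heq lam (Finset.mem_univ _)
  have hm0 : (m lam : ℝ) ≠ 0 := by
    rw [hmi lam] at hl
    exact_mod_cast hl
  have h2 : ((lam : X → ℂ) d).re = ((lam : X → ℂ) 1).re := mul_left_cancel₀ hm0 h1
  have h3 := Char.IsCharacter.norm_le (Char.IsIrrCharacter.isCharacter lam.2) d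
  rw [← h2] at h3
  have h4 : ((lam : X → ℂ) d).im = 0 := by
    have h5 := Complex.sq_norm ((lam : X → ℂ) d)
    rw [Complex.normSq_apply] at h5
    have h6 : ‖(lam : X → ℂ) d‖ ^ 2 ≤ ((lam : X → ℂ) d).re ^ 2 :=
      pow_le_pow_left₀ (norm_nonneg _) h3 2
    nlinarith [sq_nonneg ((lam : X → ℂ) d).im]
  refine Complex.ext h2 ?_
  rw [h4, ← Blocks.charDegree_cast, Complex.natCast_im]

theorem degree_eq {X : Type*} [Group X] [Fintype X] {ψ : X → ℂ} [Fintype (IrrCharacter X)]
    (hψ : IsCharacter X ψ) (m : IrrCharacter X → ℕ)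
    (hm : ∀ φ : IrrCharacter X, classInner ψ (φ : X → ℂ) = m φ) :
    charDegree ψ = ∑ φ : IrrCharacter X, m φ * charDegree (φ : X → ℂ) := by
  obtain ⟨m', hm', hmi⟩ := Char.IsCharacter.decompose hψ
  obtain rfl : m' = m := funext fun φ => by exact_mod_cast (hmi φ).symm.trans (hm φ)
  have h1 : ψ 1 = ((∑ φ : IrrCharacter X, m' φ * charDegree (φ : X → ℂ) : ℕ) : ℂ) := by
    conv_lhs => rw [hm']
    push_cast
    simp [Finset.sum_apply, Blocks.charDegree_cast]
  rw [charDegree, h1, Complex.natCast_re, Nat.floor_natCast]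

variable {G : Type*} [Group G] [Finite G]

/-- A linear character of `Q` fixed by a nontrivial element of `P` is trivial. -/
theorem hom_eq_one {Q P : Subgroup G} (hPQ : P ≤ Subgroup.normalizer (Q : Set G))
    (hcop : (Nat.card P).Coprime (Nat.card Q)) (hQsolv : Group.IsSolvable Q) (hQP : ⁅Q, P⁆ = Q)
    (hC : ∀ a ∈ P, a ≠ 1 → ∀ u ∈ Q, a * u = u * a → u ∈ Subgroup.centralizer (P : Set G))
    (l : Q →* ℂ) {a : P} (ha : a ≠ 1) (hla : ∀ u, l (Coprime.conjAut hPQ a u) = l u) : l = 1 := by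
  classical
  have := Fintype.ofFinite P
  have hne : ∀ u, l u * l u⁻¹ = 1 := fun u => by rw [← map_mul, mul_inv_cancel, map_one]
  set K : Subgroup G := l.ker.map Q.subtype with hK
  have hKmem : ∀ u : Q, l u = 1 → (u : G) ∈ K := fun u hu => ⟨u, hu, rfl⟩
  -- fixed points of `P` are in the kernel
  let F : Q →* ℂ :=
    { toFun := fun u => ∏ b : P, l (Coprime.conjAut hPQ b u)
      map_one' := by simp
      map_mul' := fun u v => by simp [Finset.prod_mul_distrib] }
  have hFb : ∀ (b : P) u, F (Coprime.conjAut hPQ b u) = F u := fun b u =>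
    Fintype.prod_equiv (Equiv.mulRight b) _ _ fun c => by simp [map_mul, MulAut.mul_apply]
  have hF1 : ∀ u : Q, F u = 1 := by
    intro u
    have hsub : ⁅Q, P⁆ ≤ F.ker.map Q.subtype := by
      rw [Subgroup.commutator_le]
      intro x hx b hb
      refine ⟨⟨x, hx⟩ * Coprime.conjAut hPQ ⟨b, hb⟩ ⟨x, hx⟩⁻¹, ?_, ?_⟩
      · rw [SetLike.mem_coe, MonoidHom.mem_ker, map_mul, hFb, ← map_mul, mul_inv_cancel, map_one]
      · simp [Coprime.coe_conjAut, commutatorElement_def, mul_assoc]
    rw [hQP] at hsub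
    obtain ⟨w, hw, hwu⟩ := hsub u.2
    rw [← Subtype.ext hwu]
    exact hw
  have hfix : Q ⊓ Subgroup.centralizer (P : Set G) ≤ K := by
    intro x hx
    refine hKmem ⟨x, hx.1⟩ ?_
    have h1 : l ⟨x, hx.1⟩ ^ Nat.card P = 1 := by
      rw [← hF1 ⟨x, hx.1⟩, Nat.card_eq_fintype_card, ← Finset.card_univ, ← Finset.prod_const]
      refine Finset.prod_congr rfl fun b _ => congrArg l (Subtype.ext ?_)
      rw [Coprime.coe_conjAut, Subgroup.mem_centralizer_iff.mp hx.2 b b.2, mul_inv_cancel_right]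
    have h2 : l ⟨x, hx.1⟩ ^ Nat.card Q = 1 := by
      rw [← map_pow, pow_card_eq_one', map_one]
    exact by
      have h3 := pow_gcd_eq_one.mpr ⟨h1, h2⟩
      rwa [hcop.gcd_eq_one, pow_one] at h3
  -- commutators with `a` are in the kernel
  set Z : Subgroup G := Subgroup.zpowers (a : G) with hZ
  have hZP : Z ≤ P := Subgroup.zpowers_le.mpr a.2
  have hcomm : ⁅Q, Z⁆ ≤ K := by
    rw [Subgroup.commutator_le]
    intro x hx b hb
    obtain ⟨i, rfl⟩ := Subgroup.mem_zpowers_iff.mp hb
    have hinv : ∀ j : ℤ, ∀ u, l (Coprime.conjAut hPQ (a ^ j) u) = l u := by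
      intro j
      induction j using Int.induction_on with
      | zero => simp
      | succ j ih =>
        intro u
        rw [zpow_add_one, map_mul, MulAut.mul_apply, ih, hla]
      | pred j ih =>
        intro u
        rw [zpow_sub_one, map_mul, MulAut.mul_apply, ih, map_inv]
        conv_rhs => rw [← MulAut.apply_inv_self Q (Coprime.conjAut hPQ a) u, hla]
    refine ⟨⟨x, hx⟩ * Coprime.conjAut hPQ (a ^ i) ⟨x, hx⟩⁻¹, ?_, ?_⟩
    · rw [SetLike.mem_coe, MonoidHom.mem_ker, map_mul, hinv, hne]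
    · simp [-map_zpow, -map_inv, Coprime.coe_conjAut, commutatorElement_def, mul_assoc, SubgroupClass.coe_zpow]
  have hcz : Q ⊓ Subgroup.centralizer (Z : Set G) ≤ K := by
    intro x hx
    refine hfix ⟨hx.1, hC a a.2 (fun h => ha (Subtype.ext h)) x hx.1 ?_⟩
    exact Subgroup.mem_centralizer_iff.mp hx.2 a (Subgroup.mem_zpowers _)
  have htop := Coprime.commutator_sup_centralizer (A := Z) (K := Q) (hZP.trans hPQ)
    (hcop.coprime_dvd_left (Subgroup.card_dvd_of_le hZP)) (Or.inr hQsolv)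
  ext u
  have hu : (u : G) ∈ K := (sup_le hcomm hcz) (htop.symm ▸ u.2)
  obtain ⟨w, hw, hwu⟩ := hu
  rw [← Subtype.ext hwu]
  exact hw

/-- Let G be a finite p-solvable group whose Sylow p-subgroup P meets each conjugate g P g⁻¹ with g outside N_G(P) trivially, and let χ be a faithful character of G (χ g = χ 1 only for g = 1) whose degree d satisfies d² ≤ |P|. Then P is normal in G. -/
theorem result {G : Type*} [Group G] [Finite G] (p : ℕ) [Fact p.Prime] (hsolv : Cfsg.IsPSolvable p G) (P : Sylow p G) (hTI : ∀ g : G, g ∉ Subgroup.normalizer ((P : Subgroup G) : Set G) → (P : Subgroup G) ⊓ (MulAut.conj g • (P : Subgroup G)) = ⊥) (χ : G → ℂ) (hχ : Cfsg.IsCharacter G χ) (hfaith : ∀ g : G, χ g = χ 1 → g = 1) (hdeg : Cfsg.charDegree χ ^ 2 ≤ Nat.card ↥(P : Subgroup G)) : (P : Subgroup G).Normal := by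
  classical
  have := Fintype.ofFinite G
  have hp : p.Prime := Fact.out
  by_contra hnn
  obtain ⟨g₀, hg₀⟩ : ∃ g, g ∉ Subgroup.normalizer ((P : Subgroup G) : Set G) := by
    by_contra h
    push Not at h
    exact hnn (Subgroup.normalizer_eq_top_iff.mp (top_le_iff.mp fun g _ => h g))
  have hcore : pCore p G = ⊥ := by
    rw [eq_bot_iff, ← hTI g₀ hg₀]
    exact le_inf (Cores.pCore_le_sylow P) (Cores.pCore_le_sylow (g₀ • P))
  set N := pPrimeCore p G with hN
  have hsep := (Solvable.isPiSeparable_of_isPSolvable hsolv).compl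
  have hNC : Subgroup.centralizer (N : Set G) ≤ N := by
    have hset : ({p}ᶜ : Set ℕ) = {q | q ≠ p} := rfl
    have := Solvable.centralizer_piCore_le hsep (by rw [compl_compl, ← Cores.pCore_eq_piCore, hcore])
    rwa [hset, ← Cores.pPrimeCore_eq_piCore_ne] at this
  have hPN : P.1 ⊓ N = ⊥ := Coprime.inf_eq_bot (by
    rw [P.card_eq_multiplicity]
    exact Nat.Coprime.pow_left _ (Cores.coprime_card_pPrimeCore p).symm)
  have hPne : (P : Subgroup G) ≠ ⊥ := fun h => hnn (by rw [h]; infer_instance)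
  have hPNn : (P : Subgroup G) ≤ Subgroup.normalizer (N : Set G) := by
    rw [Subgroup.normalizer_eq_top_iff.mpr inferInstance]; exact le_top
  have hcopN : (Nat.card (P : Subgroup G)).Coprime (Nat.card N) := by
    rw [P.card_eq_multiplicity]
    exact Nat.Coprime.pow_left _ (Cores.coprime_card_pPrimeCore p).symm
  haveI : Group.IsNilpotent (P : Subgroup G) := P.2.isNilpotent
  have hPsolv : Group.IsSolvable (P : Subgroup G) := inferInstance
  have hnot : ¬ N ≤ Subgroup.centralizer ((P : Subgroup G) : Set G) := by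
    intro h
    apply hPne
    rw [← hPN, eq_comm, inf_eq_left]
    exact le_trans (Subgroup.le_centralizer_iff.mp h) hNC
  -- fixed points
  have hC : ∀ a ∈ (P : Subgroup G), a ≠ 1 → ∀ u ∈ N, a * u = u * a →
      u ∈ Subgroup.centralizer ((P : Subgroup G) : Set G) := by
    intro a ha ha1 u hu hau
    have hnorm : u ∈ Subgroup.normalizer ((P : Subgroup G) : Set G) := by
      by_contra h
      have : a ∈ (P : Subgroup G) ⊓ (MulAut.conj u • (P : Subgroup G)) :=
        ⟨ha, Coprime.mem_conj.mpr (by rw [mul_assoc, hau, inv_mul_cancel_left]; exact ha)⟩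
      rw [hTI u h, Subgroup.mem_bot] at this
      exact ha1 this
    refine Subgroup.mem_centralizer_iff.mpr fun b hb => ?_
    have h1 : u * b * u⁻¹ * b⁻¹ ∈ (P : Subgroup G) ⊓ N := by
      refine ⟨Subgroup.mul_mem _ ((Subgroup.mem_normalizer_iff.mp hnorm b).mp hb)
        (Subgroup.inv_mem _ hb), ?_⟩
      rw [show u * b * u⁻¹ * b⁻¹ = u * (b * u⁻¹ * b⁻¹) by group]
      exact N.mul_mem hu (Subgroup.Normal.conj_mem inferInstance _ (N.inv_mem hu) b)
    rw [hPN, Subgroup.mem_bot, mul_inv_eq_one, mul_inv_eq_iff_eq_mul] at h1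
    exact h1.symm
  obtain ⟨q, Q0, hq, hQ0N, hQ0q, hQ0P, hQ0C⟩ : ∃ (q : ℕ) (Q0 : Subgroup G), q.Prime ∧ Q0 ≤ N ∧
      IsPGroup q Q0 ∧ (P : Subgroup G) ≤ Subgroup.normalizer (Q0 : Set G) ∧
      ¬ Q0 ≤ Subgroup.centralizer ((P : Subgroup G) : Set G) := by
    by_contra h
    push Not at h
    exact hnot (Coprime.le_of_invariant_sylow_le hPNn hcopN (Or.inl hPsolv)
      fun q Q hq h1 h2 h3 => h q Q hq h1 h2 h3)
  haveI := Fact.mk hq
  obtain ⟨Q, ⟨hQ0, hQP0, hQC⟩, hmin⟩ := (Set.toFinite {R : Subgroup G | R ≤ Q0 ∧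
      (P : Subgroup G) ≤ Subgroup.normalizer (R : Set G) ∧
      ¬ R ≤ Subgroup.centralizer ((P : Subgroup G) : Set G)}).exists_minimal
    ⟨Q0, le_rfl, hQ0P, hQ0C⟩
  have hQN : Q ≤ N := hQ0.trans hQ0N
  have hQq : IsPGroup q Q := hQ0q.to_le hQ0
  haveI : Group.IsNilpotent Q := hQq.isNilpotent
  have hQsolv : Group.IsSolvable Q := inferInstance
  have hcop : (Nat.card (P : Subgroup G)).Coprime (Nat.card Q) :=
    hcopN.coprime_dvd_right (Subgroup.card_dvd_of_le hQN)
  have hQPeq : ⁅Q, (P : Subgroup G)⁆ = Q := by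
    refine le_antisymm (Coprime.commutator_le_left' hQP0) (hmin ⟨(Coprime.commutator_le_left' hQP0).trans hQ0,
      Subgroup.normalizer_commutator_ge_right Q _, fun h => hQC ?_⟩ (Coprime.commutator_le_left' hQP0))
    have h1 : ⁅⁅Q, (P : Subgroup G)⁆, (P : Subgroup G)⁆ = ⊥ :=
      Subgroup.commutator_eq_bot_iff_le_centralizer.mpr h
    rw [Coprime.commutator_commutator_eq hQP0 hcop (Or.inr hQsolv)] at h1
    exact Subgroup.commutator_eq_bot_iff_le_centralizer.mp h1
  -- the derived subgroup is central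
  have hQne : Q ≠ ⊥ := fun h => hQC (h ▸ bot_le)
  haveI : Nontrivial Q := (Subgroup.nontrivial_iff_ne_bot Q).mpr hQne
  set D := ⁅Q, Q⁆ with hD
  have hDQ : D ≤ Q := Subgroup.commutator_le.mpr fun x hx y hy => by
    rw [commutatorElement_def]
    exact Q.mul_mem (Q.mul_mem (Q.mul_mem hx hy) (Q.inv_mem hx)) (Q.inv_mem hy)
  have hDeq : (commutator Q).map Q.subtype = D := by
    rw [commutator_def, Subgroup.map_commutator, ← MonoidHom.range_eq_map, Q.range_subtype]
  have hDinv : (P : Subgroup G) ≤ Subgroup.normalizer (D : Set G) := fun b hb => by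
    refine Coprime.mem_normalizer_of_conj_eq ?_
    have h1 := Coprime.conj_eq_of_mem_normalizer (hQP0 hb)
    calc MulAut.conj b • D = ⁅MulAut.conj b • Q, MulAut.conj b • Q⁆ :=
          Subgroup.map_commutator _ _ _
      _ = D := by rw [h1]
  have hDlt : ¬ Q ≤ D := fun h => by
    have h1 := Group.IsSolvable.commutator_lt_top_of_nontrivial (G := Q)
    refine h1.ne (top_le_iff.mp fun x _ => ?_)
    obtain ⟨y, hy, hyx⟩ := hDeq.symm ▸ h x.2
    exact (Subtype.ext hyx) ▸ hy
  have hDC : D ≤ Subgroup.centralizer ((P : Subgroup G) : Set G) := by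
    by_contra h
    exact hDlt (hmin ⟨hDQ.trans hQ0, hDinv, h⟩ hDQ)
  have hcentral : ∀ d ∈ D, ∀ u ∈ Q, u * d = d * u := by
    have h1 : ⁅⁅Q, (P : Subgroup G)⁆, D⁆ = ⊥ := by
      refine Subgroup.commutator_commutator_eq_bot_of_rotate ?_ ?_
      · rw [Subgroup.commutator_comm (P : Subgroup G) D,
          Subgroup.commutator_eq_bot_iff_le_centralizer.mpr hDC, Subgroup.commutator_bot_left]
      · refine eq_bot_iff.mpr (le_trans (Subgroup.commutator_mono ?_ le_rfl)
          (Subgroup.commutator_eq_bot_iff_le_centralizer.mpr hDC).le)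
        exact Subgroup.commutator_le.mpr fun x hx y hy => by
          rw [commutatorElement_def, show x * y * x⁻¹ * y⁻¹ = x * (y * x⁻¹ * y⁻¹) by group]
          refine D.mul_mem hx ?_
          rw [← hDeq] at hx ⊢
          obtain ⟨w, hw, rfl⟩ := hx
          exact ⟨⟨y, hy⟩ * w⁻¹ * ⟨y, hy⟩⁻¹, Subgroup.Normal.conj_mem inferInstance _
            (Subgroup.inv_mem _ hw) _, rfl⟩
    rw [hQPeq] at h1
    intro d hd u hu
    exact (Subgroup.mem_centralizer_iff.mp
      (Subgroup.commutator_eq_bot_iff_le_centralizer.mp h1 hu) d hd).symm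
  -- the action of `P` on the characters of `Q`
  have := Fintype.ofFinite Q
  have := Fintype.ofFinite (IrrCharacter Q)
  have := Fintype.ofFinite (P : Subgroup G)
  let φ : (P : Subgroup G) →* MulAut Q := Coprime.conjAut hQP0
  letI act : MulAction (P : Subgroup G) (IrrCharacter Q) :=
    { smul := fun b θ => ⟨fun u => (θ : Q → ℂ) (φ b⁻¹ u),
        Char.IsIrrCharacter.comp_equiv θ.2 (φ b⁻¹)⟩
      one_smul := fun θ => Subtype.ext (funext fun u => by
        show (θ : Q → ℂ) (φ 1⁻¹ u) = _; simp)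
      mul_smul := fun b c θ => Subtype.ext (funext fun u => by
        show (θ : Q → ℂ) (φ (b * c)⁻¹ u) = (θ : Q → ℂ) (φ c⁻¹ (φ b⁻¹ u))
        simp [map_mul, MulAut.mul_apply]) }
  have hsmul : ∀ (b : (P : Subgroup G)) (θ : IrrCharacter Q),
      ((b • θ : IrrCharacter Q) : Q → ℂ) = fun u => (θ : Q → ℂ) (φ b⁻¹ u) := fun _ _ => rfl
  have hdegsmul : ∀ (b : (P : Subgroup G)) (θ : IrrCharacter Q),
      charDegree ((b • θ : IrrCharacter Q) : Q → ℂ) = charDegree (θ : Q → ℂ) := fun b θ => by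
    simp [charDegree, hsmul]
  have hinner : ∀ (ψ : Q → ℂ) (b : (P : Subgroup G)), (∀ u, ψ (φ b⁻¹ u) = ψ u) →
      ∀ θ : IrrCharacter Q, classInner ψ ((b • θ : IrrCharacter Q) : Q → ℂ)
        = classInner ψ (θ : Q → ℂ) := fun ψ b hψ θ => by
    have h1 := Char.classInner_comp_equiv (φ b⁻¹ : Q ≃* Q) ψ (θ : Q → ℂ)
    simp only [hψ] at h1
    rw [hsmul]
    exact h1
  set χQ : Q → ℂ := fun u => χ u with hχQ
  have hχQc : IsCharacter Q χQ := Char.IsCharacter.restrict hχ Q
  have hχinv : ∀ (b : (P : Subgroup G)) u, χQ (φ b⁻¹ u) = χQ u := fun b u =>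
    Char.IsCharacter.isClassFunction hχ (u : G) ((b⁻¹ : (P : Subgroup G)) : G)
  obtain ⟨m, hm, hmi⟩ := Char.IsCharacter.decompose hχQc
  have hd : charDegree χ = ∑ θ : IrrCharacter Q, m θ * charDegree (θ : Q → ℂ) := by
    rw [← degree_eq hχQc m hmi]
    rfl
  -- the orbit of a constituent
  have horb : ∀ θ : IrrCharacter Q, m θ ≠ 0 →
      (MulAction.stabilizer (P : Subgroup G) θ).index * charDegree (θ : Q → ℂ) ≤ charDegree χ := by
    intro θ hθ
    rw [hd, MulAction.index_stabilizer, Set.ncard_eq_toFinset_card', ← smul_eq_mul,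
      ← Finset.sum_const]
    refine le_trans (Finset.sum_le_sum fun η hη => ?_)
      (Finset.sum_le_sum_of_subset (Finset.subset_univ _))
    obtain ⟨b, rfl⟩ := Set.mem_toFinset.mp hη
    have h1 : m (b • θ) = m θ := by
      have := hinner χQ b (hχinv b) θ
      rw [hmi, hmi] at this
      exact_mod_cast this
    show charDegree (θ : Q → ℂ) ≤ m (b • θ) * charDegree ((b • θ : IrrCharacter Q) : Q → ℂ)
    rw [h1, hdegsmul]
    exact Nat.le_mul_of_pos_left _ (Nat.pos_of_ne_zero hθ)
  have hfree : ∀ lam : IrrCharacter Q, (lam : Q → ℂ) 1 = 1 → (lam : Q → ℂ) ≠ 1 →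
      ∀ b : (P : Subgroup G), b • lam = lam → b = 1 := by
    intro lam h1 hne b hb
    by_contra hb1
    obtain ⟨l, hl⟩ := Char.exists_hom_of_degree_one (Char.IsIrrCharacter.isCharacter lam.2) h1
    refine hne ?_
    have hl1 := hom_eq_one hQP0 hcop hQsolv hQPeq (fun a ha ha1 u hu => hC a ha ha1 u (hQN hu)) l
      (a := b) hb1 (fun u => by
        have hb' := congrFun (congrArg Subtype.val hb) (φ b u)
        rw [hsmul] at hb'
        simp only [map_inv, MulAut.inv_apply_self] at hb'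
        rw [hl]
        exact hb'.symm)
    rw [← hl, hl1]
    rfl
  have hsmul_one : ∀ (b : (P : Subgroup G)),
      b • (⟨fun _ => 1, Char.isIrrCharacter_of_hom (1 : Q →* ℂ)⟩ : IrrCharacter Q)
        = ⟨fun _ => 1, Char.isIrrCharacter_of_hom (1 : Q →* ℂ)⟩ := fun b => rfl
  have hPpos : 1 < Nat.card (P : Subgroup G) :=
    (Subgroup.one_lt_card_iff_ne_bot _).mpr hPne
  by_cases hlin : ∀ θ : IrrCharacter Q, m θ ≠ 0 → (θ : Q → ℂ) 1 = 1
  · -- all constituents linear
    obtain ⟨θ, hθ, hθ1⟩ : ∃ θ : IrrCharacter Q, m θ ≠ 0 ∧ (θ : Q → ℂ) ≠ 1 := by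
      by_contra h
      push Not at h
      refine hQne ((Subgroup.eq_bot_iff_forall _).mpr fun u hu => hfaith u ?_)
      have e1 := congrFun hm ⟨u, hu⟩
      have e2 := congrFun hm 1
      simp only [χQ, OneMemClass.coe_one] at e1 e2
      rw [e1, e2, Finset.sum_apply, Finset.sum_apply]
      refine Finset.sum_congr rfl fun η _ => ?_
      rcases eq_or_ne (m η) 0 with h0 | h0
      · simp [h0]
      · simp [h η h0]
    have hst : MulAction.stabilizer (P : Subgroup G) θ = ⊥ := (Subgroup.eq_bot_iff_forall _).mpr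
      fun b hb => hfree θ (hlin θ hθ) hθ1 b hb
    have h1 := horb θ hθ
    rw [hst, Subgroup.index_bot] at h1
    have h2 : 1 ≤ charDegree (θ : Q → ℂ) := Blocks.charDegree_pos θ
    have h3 : Nat.card (P : Subgroup G) ≤ charDegree χ := le_trans (Nat.le_mul_of_pos_right _ h2) h1
    have h4 := (Nat.pow_le_pow_left h3 2).trans hdeg
    rw [pow_two] at h4
    exact absurd h4 (not_le.mpr (lt_mul_of_one_lt_left (zero_lt_one.trans hPpos) hPpos))
  · push Not at hlin
    obtain ⟨θ, hθ, hθ1⟩ := hlin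
    set ψ : Q → ℂ := fun u => (θ : Q → ℂ) u * conj ((θ : Q → ℂ) u) with hψ
    have hψc : IsCharacter Q ψ := Char.IsCharacter.mul (Char.IsIrrCharacter.isCharacter θ.2)
      (Char.IsCharacter.conj (Char.IsIrrCharacter.isCharacter θ.2))
    obtain ⟨k, hk, hki⟩ := Char.IsCharacter.decompose hψc
    have hk1 : classInner ψ (fun _ => (1 : ℂ)) = 1 := by
      refine Eq.trans ?_ (Char.classInner_irr_self θ.2)
      simp only [classInner, ψ, map_one, mul_one]
    -- trivial on the derived group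
    have hψD : ∀ d ∈ commutator Q, ψ d = ψ 1 := by
      intro d hd'
      have hdc : d ∈ Subgroup.center Q := Subgroup.mem_center_iff.mpr fun u =>
        Subtype.ext (hcentral d (hDeq ▸ ⟨d, hd', rfl⟩) u u.2)
      obtain ⟨n, ρ, hρ, hρχ⟩ := θ.2
      haveI := hρ
      have hn : ‖ρ.character d‖ = (Module.finrank ℂ (Fin n → ℂ) : ℝ) :=
        (Char.norm_character_eq_iff ρ d).mpr (CharApp.exists_scalar_of_mem_center ρ hdc)
      simp only [ψ, Complex.mul_conj', ← hρχ, hn, Representation.char_one, Complex.norm_natCast]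
    have hklin : ∀ lam : IrrCharacter Q, k lam ≠ 0 → (lam : Q → ℂ) 1 = 1 := fun lam h0 =>
      linear_of_commutator_ker lam fun d hd' => constituent_ker hψc (hψD d hd') lam (by
        rw [hki]; exact_mod_cast h0)
    have hψdeg : charDegree ψ = charDegree (θ : Q → ℂ) ^ 2 := by
      have : ψ 1 = ((charDegree (θ : Q → ℂ) ^ 2 : ℕ) : ℂ) := by
        simp only [ψ]
        rw [← Blocks.charDegree_cast θ, Complex.conj_natCast]
        push_cast; ring
      rw [charDegree, this, Complex.natCast_re, Nat.floor_natCast]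
    have hsum := (degree_eq hψc k hki).symm.trans hψdeg
    set one : IrrCharacter Q := ⟨fun _ => 1, Char.isIrrCharacter_of_hom (1 : Q →* ℂ)⟩ with hone
    have hkone : k one = 1 := by exact_mod_cast (hki one).symm.trans hk1
    have honedeg : charDegree (one : Q → ℂ) = 1 := by simp [one, charDegree]
    obtain ⟨lam, hlam, hlam1⟩ : ∃ lam, k lam ≠ 0 ∧ lam ≠ one := by
      by_contra h
      push Not at h
      rw [Finset.sum_eq_single one (fun η _ hne => by
        rcases eq_or_ne (k η) 0 with h0 | h0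
        · rw [h0, zero_mul]
        · exact absurd (h η h0) hne) (by simp), hkone, honedeg, one_mul] at hsum
      refine hθ1 ?_
      rw [← Blocks.charDegree_cast, Nat.cast_eq_one]
      exact (pow_eq_one_iff.mp hsum.symm).resolve_right two_ne_zero
    set S := MulAction.stabilizer (P : Subgroup G) θ with hS
    set O : Finset (IrrCharacter Q) :=
      Finset.univ.image (fun b : S => (b : ↥(P : Subgroup G)) • lam) with hO
    have hne1 : (lam : Q → ℂ) ≠ 1 := fun h => hlam1 (Subtype.ext (h.trans rfl))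
    have hOcard : O.card = Nat.card S := by
      rw [hO, Finset.card_image_of_injective _ (fun b c hbc => ?_), Finset.card_univ,
        Nat.card_eq_fintype_card]
      have hbc' : (b : (P : Subgroup G)) • lam = (c : (P : Subgroup G)) • lam := hbc
      refine Subtype.ext (inv_mul_eq_one.mp (hfree lam (hklin lam hlam) hne1 _ ?_)).symm
      rw [mul_smul, hbc', inv_smul_smul]
    have hOk : ∀ η ∈ O, k η ≠ 0 ∧ η ≠ one := by
      intro η hη
      obtain ⟨b, -, rfl⟩ := Finset.mem_image.mp hη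
      refine ⟨?_, fun h => hlam1 ?_⟩
      · have hb : ∀ u, ψ (φ (b : (P : Subgroup G))⁻¹ u) = ψ u := fun u => by
          have := congrFun (congrArg Subtype.val (MulAction.mem_stabilizer_iff.mp b.2)) u
          rw [hsmul] at this
          simp only [ψ, this]
        have h2 := hinner ψ (b : (P : Subgroup G)) hb lam
        rw [hki, hki] at h2
        rw [show k ((b : (P : Subgroup G)) • lam) = k lam by exact_mod_cast h2]
        exact hlam
      · rw [← hsmul_one (b : (P : Subgroup G))] at h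
        exact smul_left_cancel _ h
    have hbound : Nat.card S + 1 ≤ charDegree (θ : Q → ℂ) ^ 2 := by
      rw [← hsum, ← hOcard, ← Finset.card_cons (fun h => (hOk one h).2 rfl : one ∉ O),
        Finset.card_eq_sum_ones]
      refine le_trans (Finset.sum_le_sum fun η hη => ?_)
        (Finset.sum_le_sum_of_subset (Finset.subset_univ _))
      rcases Finset.mem_cons.mp hη with rfl | hη
      · rw [hkone, honedeg]
      · exact Nat.one_le_iff_ne_zero.mpr (mul_ne_zero (hOk η hη).1 (Blocks.charDegree_pos η).ne')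
    have h1 := (Nat.pow_le_pow_left (horb θ hθ) 2).trans hdeg
    rw [mul_pow] at h1
    have h2 : S.index ^ 2 * (Nat.card S + 1) ≤ S.index * Nat.card S :=
      (Nat.mul_le_mul_left _ hbound).trans (h1.trans (S.index_mul_card).ge)
    have h3 : 0 < S.index := Nat.pos_of_ne_zero Subgroup.index_ne_zero_of_finite
    have h4 : S.index * (S.index * (Nat.card S + 1)) ≤ S.index * Nat.card S := by
      rwa [← mul_assoc, ← pow_two]
    have h5 := Nat.le_of_mul_le_mul_left h4 h3
    have h6 := Nat.le_mul_of_pos_left (Nat.card S + 1) h3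
    omega

end Cfsg.Agent.S4748
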