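import Cfsg.Statements.S3742
import Cfsg.Agent.EqLemmas

set_option autoImplicit false
open Cfsg

namespace Cfsg.Agent.S3742

open QuaternionGroup

abbrev Q8 := QuaternionGroup 2

/-- The endomap of `Q8` sending `a 1 ↦ u`, `xa 0 ↦ v`. -/
def word (u v : Q8) : Q8 → Q8
  | .a i => u ^ i.val
  | .xa i => v * u ^ i.val

/-- The images of the two generators under the automorphism attached to a permutation. -/
def imgs : Equiv.Perm (Fin 4) → Q8 × Q8 := fun σ =>
  let g (k : Fin 6) : Q8 := match k with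
    | 0 => .a 1 | 1 => .a 3 | 2 => .xa 0 | 3 => .xa 2 | 4 => .xa 1 | 5 => .xa 3
  match (σ 0).val, (σ 1).val, (σ 2).val with
  | 0, 1, 2 => (g 0, g 2)
  | 1, 0, 3 => (g 0, g 3)
  | 2, 3, 0 => (g 1, g 2)
  | 3, 2, 1 => (g 1, g 3)
  | 2, 3, 1 => (g 0, g 5)
  | 3, 2, 0 => (g 0, g 4)
  | 1, 0, 2 => (g 1, g 5)
  | 0, 1, 3 => (g 1, g 4)
  | 3, 1, 2 => (g 2, g 0)
  | 1, 3, 0 => (g 2, g 1)
  | 2, 0, 3 => (g 3, g 0)
  | 0, 2, 1 => (g 3, g 1)
  | 0, 2, 3 => (g 2, g 5)
  | 2, 0, 1 => (g 2, g 4)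
  | 3, 1, 0 => (g 3, g 5)
  | 1, 3, 2 => (g 3, g 4)
  | 0, 3, 1 => (g 5, g 0)
  | 3, 0, 2 => (g 5, g 1)
  | 1, 2, 0 => (g 4, g 0)
  | 2, 1, 3 => (g 4, g 1)
  | 1, 2, 3 => (g 5, g 2)
  | 2, 1, 0 => (g 5, g 3)
  | 3, 0, 1 => (g 4, g 2)
  | 0, 3, 2 => (g 4, g 3)
  | _, _, _ => (1, 1)


/-- The automorphism group of the quaternion group of order 8 is isomorphic to the symmetric group of degree 4. -/
theorem result : Nonempty (MulAut (QuaternionGroup 2) ≃* Equiv.Perm (Fin 4)) := by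
  have hhom : ∀ σ : Equiv.Perm (Fin 4), ∀ x y : Q8,
      word (imgs σ).1 (imgs σ).2 (x * y) = word (imgs σ).1 (imgs σ).2 x * word (imgs σ).1 (imgs σ).2 y := by
    decide +kernel
  have hbij : ∀ σ : Equiv.Perm (Fin 4), ∀ x : Q8, word (imgs σ).1 (imgs σ).2 x = 1 → x = 1 := by
    decide +kernel
  have hmul : ∀ σ τ : Equiv.Perm (Fin 4),
      word (imgs σ).1 (imgs σ).2 (imgs τ).1 = (imgs (σ * τ)).1 ∧
        word (imgs σ).1 (imgs σ).2 (imgs τ).2 = (imgs (σ * τ)).2 := by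
    decide +kernel
  have hinj : ∀ σ : Equiv.Perm (Fin 4), imgs σ = (QuaternionGroup.a 1, QuaternionGroup.xa 0) → σ = 1 := by
    decide +kernel
  have hsurj : ∀ u v : Q8, u ^ 2 ≠ 1 → v ^ 2 ≠ 1 → v * u ≠ u * v → ∃ σ : Equiv.Perm (Fin 4), imgs σ = (u, v) := by
    decide +kernel
  have hgen : ∀ x : Q8, x = word (.a 1) (.xa 0) x := by decide +kernel
  have hw : ∀ (φ : Q8 →* Q8) (x : Q8), φ x = word (φ (.a 1)) (φ (.xa 0)) x := by
    intro φ x
    conv_lhs => rw [hgen x]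
    cases x with
    | a i => exact map_pow φ _ _
    | xa i => exact (map_mul φ _ _).trans (by rw [map_pow]; rfl)
  let au : Equiv.Perm (Fin 4) → MulAut Q8 := fun σ =>
    MulEquiv.ofBijective (MonoidHom.mk' (word (imgs σ).1 (imgs σ).2) (hhom σ))
      (Finite.injective_iff_bijective.mp ((injective_iff_map_eq_one _).mpr (hbij σ)))
  have haval : ∀ σ x, au σ x = word (imgs σ).1 (imgs σ).2 x := fun σ x => rfl
  have hval : ∀ σ, au σ (.a 1) = (imgs σ).1 ∧ au σ (.xa 0) = (imgs σ).2 := by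
    intro σ
    rw [haval, haval]
    exact ⟨pow_one _, by show _ * _ ^ 0 = _; rw [pow_zero, mul_one]⟩
  let F : Equiv.Perm (Fin 4) →* MulAut Q8 := MonoidHom.mk' au (fun σ τ => by
    ext x
    show au (σ * τ) x = au σ (au τ x)
    rw [hw ((au σ).toMonoidHom.comp (au τ).toMonoidHom) x |> fun h => (show au σ (au τ x) = _ from h), haval]
    congr 1
    · exact ((congrArg (au σ) (hval τ).1).trans (hmul σ τ).1).symm
    · exact ((congrArg (au σ) (hval τ).2).trans (hmul σ τ).2).symm)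
  refine ⟨(MulEquiv.ofBijective F ⟨?_, ?_⟩).symm⟩
  · rw [injective_iff_map_eq_one]
    intro σ hσ
    apply hinj
    have hσ' : au σ = 1 := hσ
    refine Prod.ext ?_ ?_
    · exact ((hval σ).1).symm.trans (by rw [hσ']; rfl)
    · exact ((hval σ).2).symm.trans (by rw [hσ']; rfl)
  · intro φ
    obtain ⟨σ, hσ⟩ := hsurj (φ (.a 1)) (φ (.xa 0))
      (fun h => by rw [← map_pow, map_eq_one_iff φ φ.injective] at h; exact absurd h (by decide +kernel))
      (fun h => by rw [← map_pow, map_eq_one_iff φ φ.injective] at h; exact absurd h (by decide +kernel))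
      (fun h => by rw [← map_mul, ← map_mul] at h; exact absurd (φ.injective h) (by decide +kernel))
    refine ⟨σ, MulEquiv.ext fun x => ?_⟩
    show au σ x = φ x
    rw [haval, hσ]
    exact (hw φ.toMonoidHom x).symm

end Cfsg.Agent.S3742
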