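import Cfsg.Statements.S3357
import Cfsg.Agent.Lib.Frobenius.Kernel
import Cfsg.Agent.Lib.Frobenius.Complement

set_option autoImplicit false
open Cfsg

namespace Cfsg.Agent.S3357

open MonoidAlgebra

section Algebraic

variable {G : Type*} [Group G]

/-- The sum of the powers `c ^ i`, `i < orderOf c`, in the group ring. -/
noncomputable def sig (R : Type*) [Semiring R] (c : G) : MonoidAlgebra R G :=
  ∑ i ∈ Finset.range (orderOf c), MonoidAlgebra.single (c ^ i) 1

/-- Index set for the two-sided translates of the sums `sig c`, `c` of prime order. -/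
abbrev Idx (G : Type*) [Group G] : Type _ := (G × G) × {c : G // (orderOf c).Prime}

/-- A two-sided translate of `sig c`. -/
noncomputable def vec (R : Type*) [Semiring R] (t : Idx G) : MonoidAlgebra R G :=
  MonoidAlgebra.single t.1.1 1 * sig R t.2.1 * MonoidAlgebra.single t.1.2 1

theorem map_sig {R S : Type*} [Semiring R] [Semiring S] (f : R →+* S) (c : G) :
    MonoidAlgebra.mapRingHom G f (sig R c) = sig S c := by
  simp [sig, map_sum]

theorem map_vec {R S : Type*} [Semiring R] [Semiring S] (f : R →+* S) (t : Idx G) :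
    MonoidAlgebra.mapRingHom G f (vec R t) = vec S t := by
  simp [vec, map_mul, map_sig]

theorem single_pow_mul_sig {R : Type*} [Ring R] {c : G} (hc : IsOfFinOrder c) (j : ℕ) :
    MonoidAlgebra.single (c ^ j) 1 * sig R c = sig R c := by
  induction j with
  | zero => rw [pow_zero, ← MonoidAlgebra.one_def, one_mul]
  | succ j ih =>
    rw [pow_succ', show MonoidAlgebra.single (c * c ^ j) (1 : R) =
      MonoidAlgebra.single c 1 * MonoidAlgebra.single (c ^ j) 1 by
        rw [MonoidAlgebra.single_mul_single, one_mul], mul_assoc, ih, sig, Finset.mul_sum]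
    simp only [MonoidAlgebra.single_mul_single, one_mul, ← pow_succ']
    have h1 := Finset.sum_range_succ' (fun i => MonoidAlgebra.single (c ^ i) (1 : R)) (orderOf c)
    have h2 := Finset.sum_range_succ (fun i => MonoidAlgebra.single (c ^ i) (1 : R)) (orderOf c)
    rw [h2, pow_orderOf_eq_one, pow_zero] at h1
    exact (add_right_cancel h1).symm

theorem sig_mul_sig {R : Type*} [Ring R] {c : G} (hc : IsOfFinOrder c) :
    sig R c * sig R c = (orderOf c : MonoidAlgebra R G) * sig R c := by
  conv_lhs => rw [sig, Finset.sum_mul]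
  rw [← sig, Finset.sum_congr rfl fun i _ => single_pow_mul_sig hc i, Finset.sum_const,
    Finset.card_range, nsmul_eq_mul]

/-- A lift to characteristic zero: if a group of order prime to `r` acts fixed-point-freely on a
non-zero vector space over `ZMod r`, no positive integer is a combination of the vectors `vec`. -/
theorem no_integer_combination [Finite G] [Fintype (Idx G)] {r : ℕ} [Fact r.Prime] (hr : ¬ r ∣ Nat.card G)
    {W : Type*} [AddCommGroup W] [Module (ZMod r) W] [Nontrivial W] (ρ : Representation (ZMod r) G W)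
    (hfpf : ∀ g : G, g ≠ 1 → ∀ w, ρ g w = w → w = 0) (z : Idx G → ℤ) (N : ℕ) (hN : 0 < N) :
    ∑ t, z t • vec ℤ t ≠ (N : MonoidAlgebra ℤ G) := by
  intro hsum
  have hr' : r.Prime := Fact.out
  haveI : NeZero (Nat.card G : ZMod r) := ⟨by rwa [Ne, ZMod.natCast_eq_zero_iff]⟩
  -- the sums kill `W`
  have hsigW : ∀ c : {c : G // (orderOf c).Prime}, ρ.asAlgebraHom (sig (ZMod r) c.1) = 0 := by
    intro c
    refine LinearMap.ext fun w => hfpf c.1 (fun h => c.2.ne_one (by rw [h, orderOf_one])) _ ?_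
    have h1 := single_pow_mul_sig (R := ZMod r) (isOfFinOrder_of_finite c.1) 1
    rw [pow_one] at h1
    conv_rhs => rw [← h1, map_mul]
    simp [Representation.asAlgebraHom_single]
  -- an idempotent killed by them
  let 𝔞 : Submodule (MonoidAlgebra (ZMod r) G) (MonoidAlgebra (ZMod r) G) :=
    RingHom.ker (ρ.asAlgebraHom : MonoidAlgebra (ZMod r) G →+* Module.End (ZMod r) W)
  obtain ⟨L, hL⟩ := MonoidAlgebra.Submodule.exists_isCompl 𝔞
  obtain ⟨a, ha, e, he, hae⟩ := Submodule.mem_sup.mp
    (hL.sup_eq_top.ge (Submodule.mem_top : (1 : MonoidAlgebra (ZMod r) G) ∈ ⊤))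
  have hmul𝔞 : ∀ x ∈ 𝔞, ∀ y, x * y ∈ 𝔞 := fun x hx y => by
    simp only [𝔞, RingHom.mem_ker, map_mul] at hx ⊢
    rw [hx, zero_mul]
  have hzero : ∀ x ∈ 𝔞, x * e = 0 := fun x hx =>
    Submodule.disjoint_def.mp hL.disjoint _ (hmul𝔞 x hx e) (L.smul_mem x he)
  have hidem : IsIdempotentElem e := by
    have h := hzero a ha
    calc e * e = (a + e) * e := by rw [add_mul, h, zero_add]
      _ = e := by rw [hae, one_mul]
  have he0 : e ≠ 0 := by
    rintro rfl
    rw [add_zero] at hae
    simp only [𝔞, RingHom.mem_ker, hae, map_one] at ha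
    exact one_ne_zero ha
  have hkill : ∀ (c : {c : G // (orderOf c).Prime}) (b : MonoidAlgebra (ZMod r) G),
      sig (ZMod r) c.1 * b * e = 0 := fun c b =>
    hzero _ (hmul𝔞 _ (RingHom.mem_ker.mpr (hsigW c)) b)
  -- lift it modulo a high power of `r`
  obtain ⟨k, m, hm, rfl⟩ := Nat.exists_eq_pow_mul_and_not_dvd hN.ne' r hr'.ne_one
  let R := ZMod (r ^ (k + 1))
  let ψ : R →+* ZMod r := ZMod.castHom (dvd_pow_self r k.succ_ne_zero) (ZMod r)
  let π := MonoidAlgebra.mapRingHom G ψ
  have hψdiv : ∀ x : R, ψ x = 0 → ∃ y : R, x = (r : R) * y := by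
    intro x hx
    obtain ⟨n, rfl⟩ := ZMod.natCast_zmod_surjective x
    rw [map_natCast, ZMod.natCast_eq_zero_iff] at hx
    obtain ⟨n', rfl⟩ := hx
    exact ⟨(n' : R), by push_cast; ring⟩
  have hπdiv : ∀ x : MonoidAlgebra R G, π x = 0 → ∃ y, x = (r : MonoidAlgebra R G) * y := by
    intro x hx
    have h : ∀ g, ∃ y : R, x.coeff g = (r : R) * y := fun g => hψdiv _ (by
      rw [← MonoidAlgebra.coeff_mapRingHom, show MonoidAlgebra.mapRingHom G ψ x = 0 from hx]
      simp)
    choose y hy using h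
    haveI := Fintype.ofFinite G
    refine ⟨∑ g, MonoidAlgebra.single g (y g), ?_⟩
    conv_lhs => rw [← MonoidAlgebra.sum_coeff_single x]
    rw [Finsupp.sum_fintype _ _ (by simp), Finset.mul_sum]
    refine Finset.sum_congr rfl fun g _ => ?_
    rw [hy g, MonoidAlgebra.natCast_def, MonoidAlgebra.single_mul_single, one_mul]
  have hrnil : IsNilpotent (r : MonoidAlgebra R G) := by
    refine ⟨k + 1, ?_⟩
    rw [← Nat.cast_pow, MonoidAlgebra.natCast_def, ZMod.natCast_self, MonoidAlgebra.single_zero]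
  have hπnil : ∀ x ∈ RingHom.ker π, IsNilpotent x := fun x hx => by
    obtain ⟨y, rfl⟩ := hπdiv x hx
    exact (Nat.cast_commute r y).isNilpotent_mul_right hrnil
  obtain ⟨f, hf, hfe⟩ := exists_isIdempotentElem_eq_of_ker_isNilpotent π hπnil e
    (by
      refine ⟨MonoidAlgebra.ofCoeff (e.coeff.mapRange (fun a : ZMod r => ((a.val : ℕ) : R)) (by simp)), ?_⟩
      ext g
      simp [π, MonoidAlgebra.coeff_mapRingHom]) hidem
  -- the sums kill the lifted left ideal
  have hsigf : ∀ (c : {c : G // (orderOf c).Prime}) (j : ℕ) (b : MonoidAlgebra R G),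
      ∃ y, sig R c.1 * b * f = (r : MonoidAlgebra R G) ^ j * y := by
    intro c j
    induction j with
    | zero => intro b; exact ⟨_, by rw [pow_zero, one_mul]⟩
    | succ j ih =>
      intro b
      obtain ⟨x, hx⟩ := hπdiv (sig R c.1 * b * f) (by
        rw [map_mul, map_mul, hfe, show π (sig R c.1) = sig (ZMod r) c.1 from map_sig ψ c.1]
        exact hkill c _)
      obtain ⟨y, hy⟩ := ih x
      obtain ⟨u, hu⟩ : ∃ u : R, (orderOf c.1 : R) * u = 1 := by
        have hcop : Nat.Coprime (orderOf c.1) (r ^ (k + 1)) := by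
          refine Nat.Coprime.pow_right _ ((Nat.coprime_primes c.2 hr').mpr fun h => hr ?_)
          rw [← h]; exact orderOf_dvd_natCard c.1
        exact ⟨_, ZMod.coe_mul_inv_eq_one _ hcop⟩
      refine ⟨MonoidAlgebra.single 1 u * y, ?_⟩
      have hcomm : ∀ (a : R) (w : MonoidAlgebra R G),
          MonoidAlgebra.single 1 a * w = w * MonoidAlgebra.single 1 a := fun a w =>
        MonoidAlgebra.single_one_comm a w
      have h1 : (orderOf c.1 : MonoidAlgebra R G) * MonoidAlgebra.single 1 u = 1 := by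
        rw [MonoidAlgebra.natCast_def, MonoidAlgebra.single_mul_single, one_mul, hu,
          MonoidAlgebra.one_def]
      have h2 : sig R c.1 * (sig R c.1 * b * f) * f =
          (orderOf c.1 : MonoidAlgebra R G) * (sig R c.1 * b * f) := by
        rw [show sig R c.1 * (sig R c.1 * b * f) * f = (sig R c.1 * sig R c.1) * b * (f * f) by
          simp only [mul_assoc], sig_mul_sig (isOfFinOrder_of_finite c.1), hf.eq]
        simp only [mul_assoc]
      have h3 : sig R c.1 * (sig R c.1 * b * f) * f = (r : MonoidAlgebra R G) ^ (j + 1) * y := by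
        rw [hx, ← mul_assoc (sig R c.1), ← (Nat.cast_commute r (sig R c.1)).eq, mul_assoc (r : MonoidAlgebra R G),
          mul_assoc (r : MonoidAlgebra R G), hy, ← mul_assoc, ← pow_succ']
      rw [h2] at h3
      calc sig R c.1 * b * f = MonoidAlgebra.single 1 u * ((orderOf c.1 : MonoidAlgebra R G) * (sig R c.1 * b * f)) := by
            rw [← mul_assoc, hcomm u, h1, one_mul]
        _ = _ := by rw [h3, ← mul_assoc, hcomm u, mul_assoc]
  have hsig0 : ∀ (c : {c : G // (orderOf c).Prime}) (b : MonoidAlgebra R G), sig R c.1 * b * f = 0 := by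
    intro c b
    obtain ⟨y, hy⟩ := hsigf c (k + 1) b
    rw [hy, ← Nat.cast_pow, MonoidAlgebra.natCast_def, ZMod.natCast_self, MonoidAlgebra.single_zero,
      zero_mul]
  -- so the integer kills the lift
  have hz := congrArg (fun x => MonoidAlgebra.mapRingHom G (Int.castRingHom R) x * f) hsum
  simp only [map_sum, map_zsmul, map_vec, Finset.sum_mul, map_natCast] at hz
  rw [Finset.sum_eq_zero fun t _ => by
    rw [smul_mul_assoc, vec, mul_assoc, mul_assoc, ← mul_assoc (sig R t.2.1),
      hsig0, mul_zero, smul_zero]] at hz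
  obtain ⟨u, hu⟩ : ∃ u : R, (m : R) * u = 1 :=
    ⟨_, ZMod.coe_mul_inv_eq_one _ (Nat.Coprime.pow_right _ ((hr'.coprime_iff_not_dvd.mpr hm).symm))⟩
  have hrf : ((r ^ k : ℕ) : MonoidAlgebra R G) * f = 0 := by
    have hmu : (m : MonoidAlgebra R G) * MonoidAlgebra.single 1 u = 1 := by
      rw [MonoidAlgebra.natCast_def, MonoidAlgebra.single_mul_single, one_mul, hu, MonoidAlgebra.one_def]
    calc ((r ^ k : ℕ) : MonoidAlgebra R G) * f
        = MonoidAlgebra.single 1 u * (((r ^ k * m : ℕ) : MonoidAlgebra R G) * f) := by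
          rw [← mul_assoc, MonoidAlgebra.single_one_comm u _, Nat.cast_mul, mul_assoc _ (m : MonoidAlgebra R G),
            hmu, mul_one]
      _ = 0 := by rw [← hz, mul_zero]
  refine he0 ?_
  rw [← hfe]
  ext g
  have hg := congrArg (fun x : MonoidAlgebra R G => x.coeff g) hrf
  simp only [MonoidAlgebra.natCast_def, MonoidAlgebra.single_one_mul_apply, MonoidAlgebra.coeff_zero,
    Finsupp.zero_apply] at hg
  obtain ⟨n, hn⟩ := ZMod.natCast_zmod_surjective (f.coeff g)
  rw [← hn, ← Nat.cast_mul, ZMod.natCast_eq_zero_iff, pow_succ,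
    Nat.mul_dvd_mul_iff_left (pow_pos hr'.pos k)] at hg
  simp [π, MonoidAlgebra.coeff_mapRingHom, ← hn]
  rw [map_natCast]
  exact (ZMod.natCast_eq_zero_iff _ _).mpr hg

/-- A fixed-point-free representation modulo a prime not dividing the order gives one in
characteristic zero. -/
theorem exists_rep [Finite G] {r : ℕ} [Fact r.Prime] (hr : ¬ r ∣ Nat.card G)
    {W : Type*} [AddCommGroup W] [Module (ZMod r) W] [Nontrivial W] (ρ : Representation (ZMod r) G W)
    (hfpf : ∀ g : G, g ≠ 1 → ∀ w, ρ g w = w → w = 0) (K : Type*) [Field K] [CharZero K] :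
    ∃ (n : ℕ) (σ : G →* GL (Fin n) K), 0 < n ∧ Function.Injective σ ∧
      (∀ U : Submodule K (Fin n → K),
        (∀ g : G, ∀ w ∈ U, ((σ g : GL (Fin n) K) : Matrix (Fin n) (Fin n) K).mulVec w ∈ U) → U = ⊥ ∨ U = ⊤) ∧
      ∀ g : G, g ≠ 1 → ∀ v : Fin n → K,
        ((σ g : GL (Fin n) K) : Matrix (Fin n) (Fin n) K).mulVec v = v → v = 0 := by
  classical
  haveI := Fintype.ofFinite G
  haveI : Fintype (Idx G) := Fintype.ofFinite _
  set W0 : Submodule K (MonoidAlgebra K G) := Submodule.span K (Set.range (vec K)) with hW0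
  have hne : W0 ≠ ⊤ := by
    intro htop
    obtain ⟨a, ha⟩ := Submodule.mem_span_range_iff_exists_fun K |>.mp
      (htop.ge (Submodule.mem_top : (1 : MonoidAlgebra K G) ∈ ⊤))
    obtain ⟨φ, hφ⟩ := (Algebra.linearMap ℚ K).exists_leftInverse_of_injective
      (LinearMap.ker_eq_bot.mpr (algebraMap ℚ K).injective)
    let a' : Idx G → ℚ := fun t => φ (a t)
    let N : ℕ := ∏ t, (a' t).den
    have hcoe : ∀ x : G, ∑ t, a' t * ((vec ℤ t).coeff x : ℚ) = ((1 : MonoidAlgebra ℤ G).coeff x : ℚ) := by
      intro x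
      have h := congrArg (fun y : MonoidAlgebra K G => φ (y.coeff x)) ha
      simp only [MonoidAlgebra.coeff_sum, Finsupp.finsetSum_apply, MonoidAlgebra.coeff_smul,
        Finsupp.smul_apply, smul_eq_mul, map_sum] at h
      have hq : ∀ (b : K) (i : ℤ), φ (b * (i : K)) = φ b * (i : ℚ) := fun b i => by
        rw [mul_comm, ← zsmul_eq_mul, map_zsmul, zsmul_eq_mul, mul_comm]
      have hone : φ 1 = 1 := by simpa using DFunLike.congr_fun hφ (1 : ℚ)
      have hv : ∀ t, (vec K t).coeff x = (((vec ℤ t).coeff x : ℤ) : K) := fun t => by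
        rw [← map_vec (Int.castRingHom K), MonoidAlgebra.coeff_mapRingHom]; rfl
      simp only [hv, hq] at h
      rw [h, ← map_one (MonoidAlgebra.mapRingHom G (Int.castRingHom K)), MonoidAlgebra.coeff_mapRingHom]
      have := hq 1 ((1 : MonoidAlgebra ℤ G).coeff x)
      rw [one_mul, hone, one_mul] at this
      exact this
    refine no_integer_combination hr ρ hfpf (fun t => (a' t).num * ((N / (a' t).den : ℕ) : ℤ)) N
      (Finset.prod_pos fun t _ => (a' t).pos) ?_
    refine MonoidAlgebra.ext (Finsupp.ext fun x => ?_)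
    apply Int.cast_injective (α := ℚ)
    have h := hcoe x
    simp only [MonoidAlgebra.coeff_sum, Finsupp.finsetSum_apply, MonoidAlgebra.coeff_smul,
      Finsupp.smul_apply, smul_eq_mul, Int.cast_sum, Int.cast_mul]
    have hden : ∀ t, ((a' t).num : ℚ) * (((N / (a' t).den : ℕ) : ℤ) : ℚ) = a' t * N := by
      intro t
      rw [Int.cast_natCast, Nat.cast_div (Finset.dvd_prod_of_mem _ (Finset.mem_univ t))
        (by exact_mod_cast (a' t).den_ne_zero)]
      conv_rhs => rw [← Rat.num_div_den (a' t)]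
      field_simp
      rfl
    calc ∑ t, ((a' t).num : ℚ) * (((N / (a' t).den : ℕ) : ℤ) : ℚ) * ((vec ℤ t).coeff x : ℚ)
        = (N : ℚ) * ∑ t, a' t * ((vec ℤ t).coeff x : ℚ) := by
          rw [Finset.mul_sum]
          exact Finset.sum_congr rfl fun t _ => by rw [hden]; ring
      _ = _ := by
          rw [h, MonoidAlgebra.natCast_def, MonoidAlgebra.one_def]
          simp [Finsupp.single_apply]
  -- left translations on the quotient
  have hleft : ∀ (g : G) (x : MonoidAlgebra K G), x ∈ W0 → MonoidAlgebra.single g 1 * x ∈ W0 := by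
    intro g x hx
    induction hx using Submodule.span_induction with
    | mem y hy =>
      obtain ⟨t, rfl⟩ := hy
      refine Submodule.subset_span ⟨⟨(g * t.1.1, t.1.2), t.2⟩, ?_⟩
      simp [vec, ← mul_assoc, MonoidAlgebra.single_mul_single]
    | zero => simp
    | add y z _ _ hy hz => rw [mul_add]; exact add_mem hy hz
    | smul a y _ hy => rw [Algebra.mul_smul_comm]; exact W0.smul_mem a hy
  let τ : G → Module.End K (MonoidAlgebra K G ⧸ W0) := fun g =>
    W0.mapQ W0 (LinearMap.mulLeft K (MonoidAlgebra.single g 1)) fun x hx => hleft g x hx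
  have hτ : ∀ g x, τ g (W0.mkQ x) = W0.mkQ (MonoidAlgebra.single g 1 * x) := fun g x => rfl
  let T : Representation K G (MonoidAlgebra K G ⧸ W0) :=
    { toFun := τ
      map_one' := Submodule.linearMap_qext _ (LinearMap.ext fun x => by
        show τ 1 (W0.mkQ x) = _
        rw [hτ, ← MonoidAlgebra.one_def, one_mul]; rfl)
      map_mul' := fun g h => Submodule.linearMap_qext _ (LinearMap.ext fun x => by
        show τ (g * h) (W0.mkQ x) = τ g (τ h (W0.mkQ x))
        rw [hτ, hτ, hτ, ← mul_assoc, MonoidAlgebra.single_mul_single, one_mul]) }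
  have hfix : ∀ g : G, g ≠ 1 → ∀ v, T g v = v → v = 0 := by
    intro g hg v hv
    have hpow : ∀ j : ℕ, T (g ^ j) v = v := by
      intro j
      induction j with
      | zero => simp
      | succ j ih => rw [pow_succ, map_mul, Module.End.mul_apply, hv, ih]
    obtain ⟨p, hp, hpd⟩ := Nat.exists_prime_and_dvd (fun h => hg (orderOf_eq_one_iff.mp h))
    set c := g ^ (orderOf g / p) with hc
    have hco : orderOf c = p := orderOf_pow_orderOf_div (orderOf_pos g).ne' hpd
    obtain ⟨x, rfl⟩ := W0.mkQ_surjective v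
    have h1 : W0.mkQ (sig K c * x) = (p : K) • W0.mkQ x := by
      rw [sig, Finset.sum_mul, map_sum, hco]
      have : ∀ i, W0.mkQ (MonoidAlgebra.single (c ^ i) 1 * x) = W0.mkQ x := fun i => by
        rw [← hτ, hc, ← pow_mul]; exact hpow _
      simp [this, Nat.cast_smul_eq_nsmul]
    have h2 : ∀ y : MonoidAlgebra K G, sig K c * y ∈ W0 := by
      intro y
      induction y using MonoidAlgebra.induction_on with
      | of h =>
        refine Submodule.subset_span ⟨⟨(1, h), ⟨c, hco ▸ hp⟩⟩, ?_⟩
        simp [vec, MonoidAlgebra.of_apply, ← MonoidAlgebra.one_def]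
      | add y z hy hz => rw [mul_add]; exact add_mem hy hz
      | smul a y hy => rw [Algebra.mul_smul_comm]; exact W0.smul_mem a hy
    rw [show W0.mkQ (sig K c * x) = 0 from (Submodule.Quotient.mk_eq_zero W0).mpr (h2 x),
      eq_comm, smul_eq_zero] at h1
    exact h1.resolve_left (Nat.cast_ne_zero.mpr hp.ne_zero)
  -- an irreducible invariant subspace
  haveI : FiniteDimensional K (MonoidAlgebra K G) :=
    Module.Finite.of_basis (MonoidAlgebra.basis G K)
  haveI : Nontrivial (MonoidAlgebra K G ⧸ W0) := Submodule.Quotient.nontrivial_iff.mpr hne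
  obtain ⟨U, ⟨hUinv, hUne⟩, hUmin⟩ := (wellFounded_lt (α := Submodule K (MonoidAlgebra K G ⧸ W0))).has_min
    {U | (∀ g, ∀ u ∈ U, T g u ∈ U) ∧ U ≠ ⊥} ⟨⊤, fun _ _ _ => trivial, top_ne_bot⟩
  let b := Module.finBasis K U
  let TU : G →* Module.End K U :=
    { toFun := fun g => (T g).restrict (hUinv g)
      map_one' := LinearMap.ext fun u => Subtype.ext (by simp)
      map_mul' := fun g h => LinearMap.ext fun u => Subtype.ext (by simp) }
  let σ : G →* GL (Fin (Module.finrank K U)) K :=
    ((LinearMap.toMatrixAlgEquiv b).toAlgHom.toRingHom.toMonoidHom.comp TU).toHomUnits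
  have hσ : ∀ g (u : U), ((σ g : GL _ K) : Matrix _ _ K).mulVec (b.equivFun u) = b.equivFun (TU g u) := by
    intro g u
    exact LinearMap.toMatrix_mulVec_repr b b (TU g) u
  have hfixU : ∀ g : G, g ≠ 1 → ∀ v : Fin (Module.finrank K U) → K,
      ((σ g : GL _ K) : Matrix _ _ K).mulVec v = v → v = 0 := by
    intro g hg v hv
    obtain ⟨u, rfl⟩ := b.equivFun.surjective v
    rw [hσ] at hv
    have := congrArg Subtype.val (b.equivFun.injective hv)
    rw [show u = 0 from Subtype.ext (hfix g hg _ this), map_zero]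
  haveI : Nontrivial U := (Submodule.nontrivial_iff_ne_bot).mpr hUne
  refine ⟨Module.finrank K U, σ, Module.finrank_pos, ?_, ?_, hfixU⟩
  · rw [← MonoidHom.ker_eq_bot_iff, Subgroup.eq_bot_iff_forall]
    intro g hg
    by_contra h1
    obtain ⟨u, hu⟩ := exists_ne (0 : U)
    refine hu (b.equivFun.map_eq_zero_iff.mp (hfixU g h1 _ ?_))
    rw [MonoidHom.mem_ker.mp hg]; simp
  · intro X hX
    set X' : Submodule K (MonoidAlgebra K G ⧸ W0) :=
      (X.comap b.equivFun.toLinearMap).map U.subtype with hX'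
    by_cases hbot : X' = ⊥
    · refine Or.inl (eq_bot_iff.mpr fun v hv => ?_)
      obtain ⟨u, rfl⟩ := b.equivFun.surjective v
      have : (u : MonoidAlgebra K G ⧸ W0) ∈ X' := ⟨u, hv, rfl⟩
      rw [hbot, Submodule.mem_bot, Submodule.coe_eq_zero] at this
      rw [this, map_zero]; exact Submodule.zero_mem _
    refine Or.inr (eq_top_iff.mpr fun v _ => ?_)
    have hinv : ∀ g, ∀ u ∈ X', T g u ∈ X' := by
      rintro g _ ⟨u, hu, rfl⟩
      refine ⟨TU g u, ?_, rfl⟩
      show b.equivFun (TU g u) ∈ X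
      rw [← hσ]
      exact hX g _ hu
    have heq : X' = U := eq_of_le_of_not_lt (Submodule.map_subtype_le U _) (hUmin X' ⟨hinv, hbot⟩)
    obtain ⟨u, rfl⟩ := b.equivFun.surjective v
    obtain ⟨u', hu', he⟩ := heq.ge u.2
    rwa [← Subtype.ext he]

/-- The linear version of additive endomorphisms of a vector space over `ZMod r`. -/
noncomputable def endZMod (r : ℕ) (V : Type*) [AddCommGroup V] [Module (ZMod r) V] :
    AddMonoid.End V →* Module.End (ZMod r) V :=
  MonoidHom.mk ⟨fun f => AddMonoidHom.toZModLinearMap r f, LinearMap.ext fun x => rfl⟩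
    fun f g => LinearMap.ext fun x => rfl

theorem exists_rep_of_add [Finite G] {r : ℕ} [Fact r.Prime] (hr : ¬ r ∣ Nat.card G)
    {V : Type*} [AddCommGroup V] [Module (ZMod r) V] [Nontrivial V] (act : G →* AddMonoid.End V)
    (hfpf : ∀ g : G, g ≠ 1 → ∀ w, act g w = w → w = 0) (K : Type*) [Field K] [CharZero K] :
    ∃ (n : ℕ) (σ : G →* GL (Fin n) K), 0 < n ∧ Function.Injective σ ∧
      (∀ U : Submodule K (Fin n → K),
        (∀ g : G, ∀ w ∈ U, ((σ g : GL (Fin n) K) : Matrix (Fin n) (Fin n) K).mulVec w ∈ U) → U = ⊥ ∨ U = ⊤) ∧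
      ∀ g : G, g ≠ 1 → ∀ v : Fin n → K,
        ((σ g : GL (Fin n) K) : Matrix (Fin n) (Fin n) K).mulVec v = v → v = 0 :=
  exists_rep hr ((endZMod r V).comp act) (fun g hg w hw => hfpf g hg w hw) K

/-- The same for an action on a finite abelian group of exponent `r`. -/
theorem exists_rep_of_act [Finite G] {r : ℕ} [Fact r.Prime] (hr : ¬ r ∣ Nat.card G)
    {M : Type*} [CommGroup M] [Nontrivial M] (hM : ∀ x : M, x ^ r = 1) (act : G →* MulAut M)
    (hfpf : ∀ g : G, g ≠ 1 → ∀ w, act g w = w → w = 1) (K : Type*) [Field K] [CharZero K] :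
    ∃ (n : ℕ) (σ : G →* GL (Fin n) K), 0 < n ∧ Function.Injective σ ∧
      (∀ U : Submodule K (Fin n → K),
        (∀ g : G, ∀ w ∈ U, ((σ g : GL (Fin n) K) : Matrix (Fin n) (Fin n) K).mulVec w ∈ U) → U = ⊥ ∨ U = ⊤) ∧
      ∀ g : G, g ≠ 1 → ∀ v : Fin n → K,
        ((σ g : GL (Fin n) K) : Matrix (Fin n) (Fin n) K).mulVec v = v → v = 0 := by
  haveI := AddCommGroup.zmodModule (n := r) (G := Additive M) fun x => by
    show Additive.ofMul ((Additive.toMul x) ^ r) = 0
    rw [hM]; rfl
  let act' : G →* AddMonoid.End (Additive M) :=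
    MonoidHom.mk ⟨fun g => MonoidHom.toAdditive (act g).toMonoidHom,
      AddMonoidHom.ext fun x => by
        show Additive.ofMul (act 1 (Additive.toMul x)) = x
        rw [map_one]; rfl⟩
      fun g h => AddMonoidHom.ext fun x => by
        show Additive.ofMul (act (g * h) (Additive.toMul x)) =
          Additive.ofMul (act g (act h (Additive.toMul x)))
        rw [map_mul]; rfl
  exact exists_rep_of_add hr act' (fun g hg w hw => Additive.toMul.injective (hfpf g hg _ hw)) K

end Algebraic


/-- Let G be a finite group that occurs as a Frobenius complement. Then G has a faithful irreducible representation over an algebraic closure of the rationals in which no non-identity element of G has 1 as an eigenvalue: there are n ≥ 1 and an injective homomorphism ρ from G to GL(n) over that field, with no invariant subspace other than 0 and the whole space, such that for g ≠ 1 the only vector fixed by ρ(g) is 0. -/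
theorem result {G : Type*} [Group G] [Finite G]
    (hFC : ∃ (L : Type) (_ : Group L) (_ : Finite L) (H : Subgroup L), Cfsg.IsFrobeniusComplement H ∧ Nonempty (G ≃* H)) :
    ∃ (n : ℕ) (ρ : G →* GL (Fin n) (AlgebraicClosure ℚ)), 0 < n ∧ Function.Injective ρ ∧
      (∀ W : Submodule (AlgebraicClosure ℚ) (Fin n → AlgebraicClosure ℚ),
        (∀ g : G, ∀ w ∈ W, ((ρ g : GL (Fin n) (AlgebraicClosure ℚ)) : Matrix (Fin n) (Fin n) (AlgebraicClosure ℚ)).mulVec w ∈ W) → W = ⊥ ∨ W = ⊤) ∧
      ∀ g : G, g ≠ 1 → ∀ v : Fin n → AlgebraicClosure ℚ,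
        ((ρ g : GL (Fin n) (AlgebraicClosure ℚ)) : Matrix (Fin n) (Fin n) (AlgebraicClosure ℚ)).mulVec v = v → v = 0 := by
  obtain ⟨L, _, _, H, hH, ⟨eH⟩⟩ := hFC
  set Kf := Frobenius.frobKernel hH with hKf
  haveI : Kf.Normal := Frobenius.frobKernel_normal hH
  obtain ⟨r, hr, hrK⟩ := Nat.exists_prime_and_dvd (n := Nat.card Kf)
    fun h => Frobenius.frobKernel_ne_bot hH (Subgroup.card_eq_one.mp h)
  haveI := Fact.mk hr
  let R : Sylow r Kf := default
  obtain ⟨A, hKA, hA, ⟨eA⟩, hN⟩ := Frobenius.exists_invariant_sylow_complement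
    (Frobenius.frobKernel_isComplement hH) (Frobenius.fpf_frobKernel hH) r R
  let e : G ≃* A := eH.trans eA.symm
  set Rm := (R : Subgroup Kf).map Kf.subtype with hRm
  have hcop := hA.coprime (show A ≤ Subgroup.normalizer (Kf : Set L) by
    rw [Subgroup.normalizer_eq_top]; exact le_top)
  have hrG : ¬ r ∣ Nat.card G := by
    rw [Nat.card_congr e.toEquiv]
    exact fun h => hr.ne_one (Nat.eq_one_of_dvd_coprimes hcop h hrK)
  -- central elements of exponent `r` of the invariant Sylow subgroup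
  let M : Subgroup L :=
    { carrier := {x | x ∈ Rm ∧ (∀ y ∈ Rm, y * x = x * y) ∧ x ^ r = 1}
      one_mem' := ⟨one_mem _, by simp, one_pow r⟩
      mul_mem' := by
        rintro a b ⟨ha, hac, har⟩ ⟨hb, hbc, hbr⟩
        refine ⟨mul_mem ha hb, fun y hy => ((Commute.mul_right (hac y hy) (hbc y hy)) : _), ?_⟩
        rw [Commute.mul_pow (show Commute a b from hbc a ha), har, hbr, one_mul]
      inv_mem' := by
        rintro a ⟨ha, hac, har⟩
        exact ⟨inv_mem ha, fun y hy => ((show Commute y a from hac y hy).inv_right : _),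
          by rw [inv_pow, har, inv_one]⟩ }
  have hMK : M ≤ Kf := fun x hx => Subgroup.map_subtype_le _ hx.1
  haveI : IsMulCommutative M := ⟨⟨fun a b => Subtype.ext (b.2.2.1 a a.2.1)⟩⟩
  have hMne : Nontrivial M := by
    have hnt : Nontrivial (R : Subgroup Kf) :=
      (Subgroup.nontrivial_iff_ne_bot _).2 (R.ne_bot_of_dvd_card hrK)
    haveI := R.isPGroup'.center_nontrivial
    have hdvd : r ∣ Nat.card (Subgroup.center (R : Subgroup Kf)) := by
      obtain ⟨k, hk0, hk⟩ := ((R.isPGroup').to_subgroup (Subgroup.center _)).nontrivial_iff_card.mp inferInstance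
      rw [hk]; exact dvd_pow_self r hk0.ne'
    obtain ⟨z, hz⟩ := exists_prime_orderOf_dvd_card' r hdvd
    refine (Subgroup.nontrivial_iff_ne_bot _).2 fun hbot => ?_
    have hzM : (((z : (R : Subgroup Kf)) : Kf) : L) ∈ M := by
      refine ⟨⟨_, (z : (R : Subgroup Kf)).2, rfl⟩, ?_, ?_⟩
      · rintro _ ⟨y, hy, rfl⟩
        exact congrArg (fun w : (R : Subgroup Kf) => ((w : Kf) : L))
          (Subgroup.mem_center_iff.1 z.2 ⟨y, hy⟩)
      · have hzr : z ^ r = 1 := (congrArg (z ^ ·) hz).symm.trans (pow_orderOf_eq_one z)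
        simpa using congrArg (fun w : Subgroup.center (R : Subgroup Kf) =>
          (((w : (R : Subgroup Kf)) : Kf) : L)) hzr
    rw [hbot, Subgroup.mem_bot] at hzM
    rw [show z = 1 from Subtype.ext (Subtype.ext (Subtype.ext hzM)), orderOf_one] at hz
    exact hr.ne_one hz.symm
  have hnorm : A ≤ Subgroup.normalizer (M : Set L) := by
    have key : ∀ a ∈ A, ∀ x ∈ M, a * x * a⁻¹ ∈ M := by
      rintro a ha x ⟨hx, hxc, hxr⟩
      have h1 : ∀ y, y ∈ Rm ↔ a * y * a⁻¹ ∈ Rm := Subgroup.mem_normalizer_iff.1 (hN ha)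
      refine ⟨(h1 x).1 hx, fun y hy => ?_, by rw [conj_pow, hxr, mul_one, mul_inv_cancel]⟩
      have hy' : a⁻¹ * y * a ∈ Rm := (h1 _).2 (by simpa [mul_assoc] using hy)
      calc y * (a * x * a⁻¹) = a * ((a⁻¹ * y * a) * x) * a⁻¹ := by group
        _ = a * (x * (a⁻¹ * y * a)) * a⁻¹ := by rw [hxc _ hy']
        _ = a * x * a⁻¹ * y := by group
    intro a ha
    refine Subgroup.mem_normalizer_iff.2 fun x => ⟨key a ha x, fun h => ?_⟩
    have := key a⁻¹ (inv_mem ha) _ h
    simpa [mul_assoc] using this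
  letI : CommGroup M := { (inferInstance : Group M) with mul_comm := fun a b => Subtype.ext (b.2.2.1 a a.2.1) }
  let act : G →* MulAut M := (M.normalizerMonoidHom).comp ((Subgroup.inclusion hnorm).comp e.toMonoidHom)
  refine exists_rep_of_act hrG (M := M) (fun x => Subtype.ext (by simpa using x.2.2.2)) act
    (fun g hg w hw => ?_) (AlgebraicClosure ℚ)
  have h2 : (e g : L) * (w : L) * (e g : L)⁻¹ = (w : L) := congrArg Subtype.val hw
  have h3 := hA (e g) (e g).2 (fun h => hg (e.injective (by rw [map_one]; exact Subtype.ext h)))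
    (w : L) (hMK w.2) (mul_inv_eq_iff_eq_mul.mp h2)
  exact Subtype.ext h3

end Cfsg.Agent.S3357
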