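import Cfsg.Statements.S0686
import Cfsg.Agent.Lib.Perm.RegularLinearQ
import Cfsg.Agent.S0690

set_option autoImplicit false
open Cfsg

namespace Cfsg.Agent.S0686

/-- The statement of Zassenhaus' theorem on perfect fixed-point-free groups. -/
def Zassenhaus.{u} : Prop := ∀ {K : Type u} [Group K] [Finite K] (G : Subgroup (MulAut K)),
  (∀ φ ∈ G, φ ≠ 1 → ∀ k : K, φ k = k → k = 1) → commutator G = ⊤ → G ≠ ⊥ →
  Nonempty (G ≃* Matrix.SpecialLinearGroup (Fin 2) (ZMod 5))

theorem main.{u} (hZ : Zassenhaus.{u}) {p : ℕ} [Fact p.Prime] {V : Type u} [AddCommGroup V] [Module (ZMod p) V] [Finite V] (H : Subgroup (V ≃ₗ[ZMod p] V)) (hreg : ∀ v w : V, v ≠ 0 → w ≠ 0 → ∃! h : H, (h : V ≃ₗ[ZMod p] V) v = w) (hI : Perm.RegLin.NoIrredCyclic H) (A : Subgroup H) (hAn : A.Normal) (hAc : IsMulCommutative A) (hAmax : ∀ B : Subgroup H, B.Normal → IsMulCommutative B → A ≤ B → B = A) (N : Subgroup H) (hNn : N.Normal) (hNle : N ≤ Subgroup.centralizer (A : Set H)) (hNna : ¬ IsMulCommutative N) (hNmin : ∀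 M : Subgroup H, M.Normal → M ≤ N → ¬ IsMulCommutative M → M = N) : Nonempty (N ≃* QuaternionGroup 2) ∨ Nonempty (N ≃* Matrix.SpecialLinearGroup (Fin 2) (ZMod 5)) := by
  have := Perm.RegLin.nontrivial_of_noIrred hI
  by_cases hsolv : Group.IsSolvable N
  · exact Or.inl (Perm.RegLin.quaternion_of_minimal hreg A hAc hAmax N hNle hNna hNmin hsolv)
  right
  have := Perm.RegLin.finite_aut (K := ZMod p) (V := V)
  have hperf : commutator N = ⊤ := by
    have hmap : (commutator N).map N.subtype = ⁅N, N⁆ := by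
      rw [commutator_def, Subgroup.map_commutator, ← MonoidHom.range_eq_map, N.range_subtype]
    have hD : ⁅N, N⁆ = N := hNmin _ inferInstance (Subgroup.commutator_le_right N N) fun h => hsolv <| by
      refine ⟨⟨2, ?_⟩⟩
      rw [derivedSeries_succ, derivedSeries_one, eq_bot_iff, Subgroup.commutator_le]
      intro x hx y hy
      have hx' := hmap ▸ Subgroup.mem_map_of_mem N.subtype hx
      have hy' := hmap ▸ Subgroup.mem_map_of_mem N.subtype hy
      rw [Subgroup.mem_bot, commutatorElement_eq_one_iff_mul_comm]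
      exact Subtype.ext (congrArg Subtype.val (h.is_comm.comm ⟨_, hx'⟩ ⟨_, hy'⟩) :)
    apply Subgroup.map_injective N.subtype_injective
    rw [hmap, hD, ← MonoidHom.range_eq_map, N.range_subtype]
  let f : N →* MulAut (Multiplicative V) :=
    { toFun := fun n => ((n : H) : V ≃ₗ[ZMod p] V).toAddEquiv.toMultiplicative
      map_one' := rfl
      map_mul' := fun _ _ => rfl }
  have hfix : ∀ n : N, ∀ v : V, v ≠ 0 → f n (Multiplicative.ofAdd v) = Multiplicative.ofAdd v → n = 1 :=
    fun n v hv h => Subtype.ext (Perm.RegLin.fpf hreg hv h)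
  obtain ⟨v₀, hv₀⟩ := exists_ne (0 : V)
  have hinj : Function.Injective f := fun a b h => by
    refine (inv_mul_eq_one.mp (hfix (a⁻¹ * b) v₀ hv₀ ?_))
    rw [map_mul, map_inv, h, inv_mul_cancel, MulAut.one_apply]
  let e : N ≃* f.range := MonoidHom.ofInjective hinj
  have : Nontrivial N := by
    by_contra hn
    rw [not_nontrivial_iff_subsingleton] at hn
    exact hsolv inferInstance
  obtain ⟨g⟩ := hZ f.range
    (by
      rintro _ ⟨n, rfl⟩ hne k hk
      by_contra hk1
      exact hne (by rw [hfix n k hk1 hk, map_one]))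
    (by
      have h := congrArg (Subgroup.map e.toMonoidHom) hperf
      rwa [commutator_def, Subgroup.map_commutator, Subgroup.map_top_of_surjective e.toMonoidHom e.surjective,
        ← commutator_def] at h)
    (fun h => by
      obtain ⟨n, hn⟩ := exists_ne (1 : N)
      exact hn (hinj (by rw [map_one]; exact Subgroup.mem_bot.mp (h ▸ ⟨n, rfl⟩))))
  exact ⟨e.trans g⟩

/-- In a linear group over the prime field that is regular on non-zero vectors and has no irreducible cyclic normal subgroup, let `A` be a maximal normal abelian subgroup and `N` a normal subgroup centralising `A` that is minimal among non-abelian normal subgroups centralising `A`. Then `N` is quaternion of order 8 or isomorphic to `SL(2,5)`. -/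
theorem result {p : ℕ} [Fact p.Prime] {V : Type*} [AddCommGroup V] [Module (ZMod p) V] [Finite V] (H : Subgroup (V ≃ₗ[ZMod p] V)) (hreg : ∀ v w : V, v ≠ 0 → w ≠ 0 → ∃! h : H, (h : V ≃ₗ[ZMod p] V) v = w) (hI : ∀ A : Subgroup H, A.Normal → IsCyclic A → ∃ W : Submodule (ZMod p) V, W ≠ ⊥ ∧ W ≠ ⊤ ∧ ∀ a ∈ A, ∀ v ∈ W, ((a : H) : V ≃ₗ[ZMod p] V) v ∈ W) (A : Subgroup H) (hAn : A.Normal) (hAc : IsMulCommutative A) (hAmax : ∀ B : Subgroup H, B.Normal → IsMulCommutative B → A ≤ B → B = A) (N : Subgroup H) (hNn : N.Normal) (hNle : N ≤ Subgroup.centralizer (A : Set H)) (hNna : ¬ IsMulCommutative N) (hNmin : ∀ M : Subgroup H, M.Normal → M ≤ N → ¬ IsMulCommutative M → M = N) : Nonempty (N ≃* QuaternionGroup 2) ∨ Nonempty (N ≃* Matrix.SpecialLinearGroup (Fin 2) (ZMod 5)) := by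
  exact main (fun {_} _ _ G => S0690.result G) H hreg hI A hAn hAc hAmax N hNn hNle hNna hNmin

end Cfsg.Agent.S0686
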