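import Cfsg.Statements.S0728
import Cfsg.Agent.Lib.Perm.Sharp

set_option autoImplicit false
open Cfsg

namespace Cfsg.Agent.S0728

/-- In a sharply triply transitive group of even degree at least 6 (degree `q + 1`, `q` odd), a two-point stabiliser has at most one subgroup of order 3. -/
theorem result {α : Type*} [Fintype α] [DecidableEq α] (heven : Even (Fintype.card α)) (h6 : 6 ≤ Fintype.card α) (G : Subgroup (Equiv.Perm α)) (h3 : MulAction.IsMultiplyPretransitive G α 3) (hsharp : ∀ x : Fin 3 ↪ α, MulAction.stabilizer G x = ⊥) {a b : α} (hab : a ≠ b) (A B : Subgroup G) (hA : A ≤ MulAction.stabilizer G a ⊓ MulAction.stabilizer G b) (hB : B ≤ MulAction.stabilizer G a ⊓ MulAction.stabilizer G b) (hA3 : Nat.card A = 3) (hB3 : Nat.card B = 3) : A = B := by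
  classical
  let : Fintype G := Fintype.ofFinite G
  have key : ∀ g : G, ∀ x y z : α, x ≠ y → x ≠ z → y ≠ z →
      (g : Equiv.Perm α) x = x → (g : Equiv.Perm α) y = y → (g : Equiv.Perm α) z = z → g = 1 := by
    intro g x y z hxy hxz hyz hx hy hz
    refine Perm.eq_one_of_sharp_finset hsharp ({x, y, z} : Finset α) (by simp [hxy, hxz, hyz])
      fun w hw => ?_
    simp only [Finset.mem_insert, Finset.mem_singleton] at hw
    rcases hw with rfl | rfl | rfl <;> assumption
  have hsupp : ∀ g : G, orderOf g = 3 →
      3 ∣ (g : Equiv.Perm α).support.card ∧ Fintype.card α ≤ (g : Equiv.Perm α).support.card + 2 := by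
    intro g hg
    constructor
    · rw [← Equiv.Perm.sum_cycleType]
      refine Multiset.dvd_sum fun c hc => ?_
      have h1 := (Equiv.Perm.dvd_of_mem_cycleType hc).trans
        (show orderOf (g : Equiv.Perm α) ∣ 3 by rw [Subgroup.orderOf_coe, hg])
      have h2 := Equiv.Perm.two_le_of_mem_cycleType hc
      rcases (Nat.dvd_prime Nat.prime_three).mp h1 with h | h <;> omega
    · by_contra hlt
      obtain ⟨x, y, z, hx, hy, hz, hxy, hxz, hyz⟩ := Finset.two_lt_card_iff.mp
        (show 2 < (g : Equiv.Perm α).supportᶜ.card by rw [Finset.card_compl]; omega)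
      simp only [Finset.mem_compl, Equiv.Perm.notMem_support] at hx hy hz
      rw [key g x y z hxy hxz hyz hx hy hz, orderOf_one] at hg
      omega
  -- an element of order three in the two-point stabiliser
  obtain ⟨g₀, hg₀⟩ := exists_prime_orderOf_dvd_card' (G := A) 3 (by rw [hA3])
  have hg₀' : orderOf (g₀ : G) = 3 := by rw [Subgroup.orderOf_coe, hg₀]
  have hmod : ∃ m, Fintype.card α = 3 * m + 2 := by
    obtain ⟨h3d, hle⟩ := hsupp g₀ hg₀'
    obtain ⟨hga, hgb⟩ := Subgroup.mem_inf.mp (hA g₀.2)
    have hsub : ((g₀ : G) : Equiv.Perm α).support ⊆ ((Finset.univ.erase a).erase b) := by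
      intro x hx
      rw [Equiv.Perm.mem_support] at hx
      simp only [Finset.mem_erase, Finset.mem_univ, and_true]
      exact ⟨fun e => hx (e ▸ hgb), fun e => hx (e ▸ hga)⟩
    have hc := Finset.card_le_card hsub
    rw [Finset.card_erase_of_mem (by simp [Ne.symm hab]), Finset.card_erase_of_mem (Finset.mem_univ a),
      Finset.card_univ] at hc
    obtain ⟨m, hm⟩ := h3d
    exact ⟨m, by omega⟩
  obtain ⟨m, hm⟩ := hmod
  set n := Fintype.card α with hn
  let F : Finset G := Finset.univ.filter fun g => orderOf g = 3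
  have hF : ∀ g : G, g ∈ F ↔ orderOf g = 3 := fun g => by simp [F]
  have hsupp' : ∀ g ∈ F, (g : Equiv.Perm α).support.card = n - 2 := by
    intro g hg
    obtain ⟨⟨k, hk⟩, h⟩ := hsupp g ((hF g).mp hg)
    have := Finset.card_le_univ (g : Equiv.Perm α).support
    omega
  have hpow : ∀ g ∈ F, (g : Equiv.Perm α) ^ 3 = 1 := fun g hg => by
    rw [← Subgroup.coe_pow, ← (hF g).mp hg, pow_orderOf_eq_one, Subgroup.coe_one]
  -- every ordered triple is a 3-cycle of exactly one element of order three
  have hcardF : F.card = n * (n - 1) := by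
    have hbij : (F.sigma fun g => (g : Equiv.Perm α).support).card =
        (Finset.univ : Finset (Fin 3 ↪ α)).card := by
      refine Finset.card_bij (fun p hp => ⟨![p.2, (p.1 : Equiv.Perm α) p.2,
        (p.1 : Equiv.Perm α) ((p.1 : Equiv.Perm α) p.2)], ?_⟩) (fun _ _ => Finset.mem_univ _) ?_ ?_
      · obtain ⟨hg, hx⟩ := Finset.mem_sigma.mp hp
        rw [Equiv.Perm.mem_support] at hx
        have h3 : (p.1 : Equiv.Perm α) ((p.1 : Equiv.Perm α) ((p.1 : Equiv.Perm α) p.2)) = p.2 := by
          have := congrArg (fun f : Equiv.Perm α => f p.2) (hpow p.1 hg)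
          simpa [pow_succ] using this
        have hy : (p.1 : Equiv.Perm α) ((p.1 : Equiv.Perm α) p.2) ≠ (p.1 : Equiv.Perm α) p.2 :=
          fun e => hx ((p.1 : Equiv.Perm α).injective e)
        have hz : (p.1 : Equiv.Perm α) ((p.1 : Equiv.Perm α) p.2) ≠ p.2 := fun e => by
          rw [e] at h3
          exact hx h3
        intro i j hij
        fin_cases i <;> fin_cases j <;>
          first
            | rfl
            | exact absurd hij hx
            | exact absurd hij.symm hx
            | exact absurd hij hy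
            | exact absurd hij.symm hy
            | exact absurd hij hz
            | exact absurd hij.symm hz
      · intro p hp p' hp' e
        have h0 := congrArg (fun f : Fin 3 ↪ α => f 0) e
        have h1 := congrArg (fun f : Fin 3 ↪ α => f 1) e
        have h2 := congrArg (fun f : Fin 3 ↪ α => f 2) e
        simp only [Function.Embedding.coeFn_mk, Matrix.cons_val_zero, Matrix.cons_val_one,
          Matrix.cons_val] at h0 h1 h2
        obtain ⟨g, x⟩ := p
        obtain ⟨g', x'⟩ := p'
        obtain ⟨hg, hx⟩ := Finset.mem_sigma.mp hp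
        obtain ⟨hg', -⟩ := Finset.mem_sigma.mp hp'
        simp only at h0 h1 h2 hg hg' hx ⊢
        subst h0
        rw [Equiv.Perm.mem_support] at hx
        have c3 : (g : Equiv.Perm α) ((g : Equiv.Perm α) ((g : Equiv.Perm α) x)) = x := by
          simpa [pow_succ] using congrArg (fun f : Equiv.Perm α => f x) (hpow g hg)
        have c3' : (g' : Equiv.Perm α) ((g' : Equiv.Perm α) ((g' : Equiv.Perm α) x)) = x := by
          simpa [pow_succ] using congrArg (fun f : Equiv.Perm α => f x) (hpow g' hg')
        have hgg : g⁻¹ * g' = 1 := by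
          refine key _ x ((g : Equiv.Perm α) x) ((g : Equiv.Perm α) ((g : Equiv.Perm α) x))
            (Ne.symm hx) (fun e => hx (by rw [← e] at c3; exact c3))
            (fun e => hx ((g : Equiv.Perm α).injective e).symm) ?_ ?_ ?_ <;>
            rw [Subgroup.coe_mul, Subgroup.coe_inv, Equiv.Perm.mul_apply, Equiv.Perm.inv_eq_iff_eq]
          · exact h1.symm
          · rw [h2, h1]
          · rw [h2, c3', ← h2, c3]
        obtain rfl := inv_mul_eq_one.mp hgg
        rfl
      · intro f _
        obtain ⟨g, hg⟩ := h3.exists_smul_eq f ((finRotate 3).toEmbedding.trans f)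
        have hv : ∀ i, (g : Equiv.Perm α) (f i) = f (finRotate 3 i) := fun i =>
          congrArg (fun u : Fin 3 ↪ α => u i) hg
        have v0 : (g : Equiv.Perm α) (f 0) = f 1 := hv 0
        have v1 : (g : Equiv.Perm α) (f 1) = f 2 := hv 1
        have v2 : (g : Equiv.Perm α) (f 2) = f 0 := hv 2
        have h01 : f 0 ≠ f 1 := f.injective.ne (by decide)
        have h02 : f 0 ≠ f 2 := f.injective.ne (by decide)
        have h12 : f 1 ≠ f 2 := f.injective.ne (by decide)
        have h3' : g ^ 3 = 1 := key _ _ _ _ h01 h02 h12 (by simp [pow_succ, v0, v1, v2])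
          (by simp [pow_succ, v0, v1, v2]) (by simp [pow_succ, v0, v1, v2])
        have hg1 : g ≠ 1 := fun e => h01 (by rw [← v0, e]; rfl)
        refine ⟨⟨g, f 0⟩, Finset.mem_sigma.mpr ⟨(hF g).mpr (orderOf_eq_prime h3' hg1),
          Equiv.Perm.mem_support.mpr fun e => h01 (e.symm.trans v0)⟩, ?_⟩
        ext i
        fin_cases i <;> simp [v0, v1]
    rw [Finset.card_sigma, Finset.sum_congr rfl hsupp', Finset.sum_const, smul_eq_mul,
      Finset.card_univ, Fintype.card_embedding_eq, Fintype.card_fin, ← hn] at hbij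
    simp only [Nat.descFactorial_succ, Nat.descFactorial_zero, mul_one, Nat.sub_zero] at hbij
    apply Nat.eq_of_mul_eq_mul_right (show 0 < n - 2 by omega)
    rw [hbij]
    ring
  -- count the fixed pairs
  let c : α × α → ℕ := fun q =>
    (F.filter fun g : G => (g : Equiv.Perm α) q.1 = q.1 ∧ (g : Equiv.Perm α) q.2 = q.2).card
  have hc : ∀ q ∈ (Finset.univ : Finset α).offDiag, c q = c (a, b) := by
    intro q hq
    obtain ⟨-, -, hq⟩ := Finset.mem_offDiag.mp hq
    have h2 : MulAction.IsMultiplyPretransitive G α 2 :=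
      MulAction.isMultiplyPretransitive_of_le (n := 3) (by omega)
        (by rw [Nat.card_eq_fintype_card]; omega)
    obtain ⟨u, hu1, hu2⟩ : ∃ u : G, u • a = q.1 ∧ u • b = q.2 :=
      MulAction.is_two_pretransitive_iff.mp h2 hab hq
    refine (Finset.card_equiv (MulAut.conj u).toEquiv fun g => ?_).symm
    have fix_iff : ∀ x y : α, u • x = y → (u * g * u⁻¹) • y = y → g • x = x := fun x y h h' => by
      rwa [← h, mul_smul, mul_smul, inv_smul_smul, smul_left_cancel_iff] at h'
    have fix_iff' : ∀ x y : α, u • x = y → g • x = x → (u * g * u⁻¹) • y = y := fun x y h h' => by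
      rw [← h, mul_smul, mul_smul, inv_smul_smul, h']
    simp only [Finset.mem_filter, hF]
    rw [show orderOf ((MulAut.conj u).toEquiv g) = orderOf g from MulEquiv.orderOf_eq _ g]
    constructor
    · rintro ⟨h, e1, e2⟩
      exact ⟨h, fix_iff' a q.1 hu1 e1, fix_iff' b q.2 hu2 e2⟩
    · rintro ⟨h, e1, e2⟩
      exact ⟨h, fix_iff a q.1 hu1 e1, fix_iff b q.2 hu2 e2⟩
  have hcount : n * (n - 1) * c (a, b) = F.card * 2 := by
    have h := Finset.sum_card_bipartiteAbove_eq_sum_card_bipartiteBelow
      (s := F) (t := (Finset.univ : Finset α).offDiag)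
      (fun (g : G) (q : α × α) => (g : Equiv.Perm α) q.1 = q.1 ∧ (g : Equiv.Perm α) q.2 = q.2)
    rw [Finset.sum_congr rfl (g := fun _ => 2) (fun g hg => ?_)] at h
    · change _ = ∑ q ∈ (Finset.univ : Finset α).offDiag, c q at h
      rw [Finset.sum_congr rfl (g := fun _ => c (a, b)) hc, Finset.sum_const, Finset.sum_const,
        Finset.offDiag_card, Finset.card_univ, smul_eq_mul, smul_eq_mul, ← hn, ← Nat.mul_sub_one] at h
      exact h.symm
    · have hfix : (g : Equiv.Perm α).supportᶜ.card = 2 := by
        rw [Finset.card_compl, hsupp' g hg]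
        omega
      rw [show Finset.bipartiteAbove _ (Finset.univ : Finset α).offDiag g
          = (g : Equiv.Perm α).supportᶜ.offDiag from ?_, Finset.offDiag_card, hfix]
      ext q
      simp [Finset.bipartiteAbove]
      tauto
  have hc2 : c (a, b) = 2 := by
    rw [hcardF] at hcount
    exact Nat.eq_of_mul_eq_mul_left (Nat.mul_pos (by omega) (by omega)) hcount
  -- conclusion
  have hsub : ∀ C : Subgroup G, C ≤ MulAction.stabilizer G a ⊓ MulAction.stabilizer G b →
      Nat.card C = 3 → (Finset.univ.filter fun g : G => g ∈ C ∧ g ≠ 1) =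
        F.filter fun g : G => (g : Equiv.Perm α) a = a ∧ (g : Equiv.Perm α) b = b := by
    intro C hC hC3
    refine Finset.eq_of_subset_of_card_le (fun g hg => ?_) ?_
    · simp only [Finset.mem_filter, Finset.mem_univ, true_and] at hg
      obtain ⟨h1, h2⟩ := Subgroup.mem_inf.mp (hC hg.1)
      refine Finset.mem_filter.mpr ⟨(hF g).mpr (orderOf_eq_prime ?_ hg.2), h1, h2⟩
      exact Subgroup.orderOf_dvd_natCard C hg.1 |>.trans (by rw [hC3]) |> orderOf_dvd_iff_pow_eq_one.mp
    · refine le_of_eq_of_le hc2 (le_of_eq ?_)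
      rw [show (Finset.univ.filter fun g : G => g ∈ C ∧ g ≠ 1) =
        (Finset.univ.filter fun g : G => g ∈ C).erase 1 from by ext; simp [and_comm],
        Finset.card_erase_of_mem (by simp), ← Fintype.card_subtype, ← Nat.card_eq_fintype_card]
      exact (by rw [show Nat.card {g : G // g ∈ C} = 3 from hC3])
  ext g
  by_cases hg1 : g = 1
  · simp [hg1]
  have := Finset.ext_iff.mp ((hsub A hA hA3).trans (hsub B hB hB3).symm) g
  simpa [hg1] using this

end Cfsg.Agent.S0728
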