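import Cfsg.Statements.S0729
import Cfsg.Agent.S0728
import Cfsg.Agent.Lib.Perm.Linearization
import Cfsg.Agent.Lib.Perm.RegularLinearTwo
import Cfsg.Agent.Lib.Perm.Sharp
import Cfsg.Agent.EqLemmas

set_option autoImplicit false
open Cfsg

namespace Cfsg.Agent.S0729

theorem eq_of_mul_eq_one_two : ∀ {x y : Multiplicative (ZMod 2)}, x * y = 1 → x = y := by decide

/-- In a sharply triply transitive group of even degree at least 6, the two-point stabiliser `H = G_{a,b}` has a normal subgroup of index 2 that is normalised by the element `s` interchanging `a, b` and fixing a third point `c`. -/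
theorem result {α : Type*} [Fintype α] [DecidableEq α] (heven : Even (Fintype.card α)) (h6 : 6 ≤ Fintype.card α) (G : Subgroup (Equiv.Perm α)) (h3 : MulAction.IsMultiplyPretransitive G α 3) (hsharp : ∀ x : Fin 3 ↪ α, MulAction.stabilizer G x = ⊥) {a b c : α} (hab : a ≠ b) (hac : a ≠ c) (hbc : b ≠ c) (s : G) (hsa : s • a = b) (hsb : s • b = a) (hsc : s • c = c) : ∃ N : Subgroup G, N ≤ MulAction.stabilizer G a ⊓ MulAction.stabilizer G b ∧ (N.subgroupOf (MulAction.stabilizer G a ⊓ MulAction.stabilizer G b)).Normal ∧ N.relIndex (MulAction.stabilizer G a ⊓ MulAction.stabilizer G b) = 2 ∧ ∀ n ∈ N, s * n * s⁻¹ ∈ N := by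
  classical
  have h2G : MulAction.IsMultiplyPretransitive G α 2 :=
    MulAction.isMultiplyPretransitive_of_le (n := 3) (by omega)
      (by rw [Nat.card_eq_fintype_card]; omega)
  have := MulAction.isPretransitive_of_is_two_pretransitive (G := G) (α := α)
  have h2' : MulAction.IsMultiplyPretransitive (MulAction.stabilizer G a)
      (SubMulAction.ofStabilizer G a) 2 :=
    SubMulAction.ofStabilizer.isMultiplyPretransitive.mp h3
  have hs' : ∀ g : MulAction.stabilizer G a, ∀ x y : SubMulAction.ofStabilizer G a,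
      x ≠ y → g • x = x → g • y = y → g = 1 := fun g x y hxy hx hy => by
    have hx' : (g : G) • (x : α) = x := congrArg Subtype.val hx
    have hy' : (g : G) • (y : α) = y := congrArg Subtype.val hy
    refine Subtype.ext (Perm.eq_one_of_sharp_finset hsharp ({a, (x : α), (y : α)} : Finset α) ?_
      fun w hw => ?_)
    · have h1 : a ≠ (x : α) := fun e => x.2 e.symm
      have h2 : a ≠ (y : α) := fun e => y.2 e.symm
      have h3 : (x : α) ≠ (y : α) := fun e => hxy (Subtype.ext e)
      simp [h1, h2, h3]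
    · simp only [Finset.mem_insert, Finset.mem_singleton] at hw
      rcases hw with rfl | rfl | rfl
      · exact g.2
      · exact hx'
      · exact hy'
  have hcard : Nat.card (SubMulAction.ofStabilizer G a) + 1 = Fintype.card α := by
    rw [← Nat.card_eq_fintype_card]
    exact SubMulAction.nat_card_ofStabilizer_add_one_eq G a
  let o : SubMulAction.ofStabilizer G a := ⟨b, hab.symm⟩
  obtain ⟨p, hp, V, iV, iM, iF, H, hreg, hV, ⟨e⟩⟩ :=
    Perm.exists_linearization (by omega) h2' hs' o
  have : Nontrivial V := Finite.one_lt_card_iff_nontrivial.mp (by omega)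
  have hHev : 2 ∣ Nat.card H := by
    have h1 := Perm.RegLin.card_eq hreg
    have h2 := Module.natCard_eq_pow_finrank (K := ZMod p) (V := V)
    rw [Nat.card_zmod] at h2
    rw [← h2] at h1
    obtain ⟨k, hk⟩ := heven
    omega
  let K : Subgroup G := MulAction.stabilizer G a ⊓ MulAction.stabilizer G b
  let eK : MulAction.stabilizer (MulAction.stabilizer G a) o ≃* K :=
    { toFun := fun g => ⟨((g : MulAction.stabilizer G a) : G), g.1.2, congrArg Subtype.val g.2⟩
      invFun := fun g => ⟨⟨(g : G), g.2.1⟩, Subtype.ext g.2.2⟩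
      left_inv := fun g => rfl
      right_inv := fun g => rfl
      map_mul' := fun g h => rfl }
  let ψ : H ≃* K := e.symm.trans eK
  have hu : ∀ x y : H, orderOf x = 3 → orderOf y = 3 → y ∈ Subgroup.zpowers x := fun x y hx hy => by
    have hord : ∀ z : H, orderOf ((ψ z : K) : G) = orderOf z := fun z => by
      rw [Subgroup.orderOf_coe]
      exact ψ.orderOf_eq z
    have hle : ∀ z : H, Subgroup.zpowers ((ψ z : K) : G) ≤ K := fun z =>
      Subgroup.zpowers_le.mpr (ψ z).2
    have h := S0728.result heven h6 G h3 hsharp hab _ _ (hle x) (hle y)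
      (by rw [Nat.card_zpowers, hord, hx]) (by rw [Nat.card_zpowers, hord, hy])
    have hy' : ((ψ y : K) : G) ∈ Subgroup.zpowers ((ψ x : K) : G) :=
      h ▸ Subgroup.mem_zpowers _
    obtain ⟨k, hk⟩ := Subgroup.mem_zpowers_iff.mp hy'
    refine Subgroup.mem_zpowers_iff.mpr ⟨k, ψ.injective (Subtype.ext ?_)⟩
    rw [map_zpow, Subgroup.coe_zpow, hk]
  obtain ⟨f₀, hf₀⟩ := Perm.RegLin.exists_hom_two hreg hHev hu
  let f : K →* Multiplicative (ZMod 2) := f₀.comp ψ.symm.toMonoidHom
  have hf : f ≠ 1 := fun h => hf₀ (MonoidHom.ext fun x => by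
    simpa [f] using DFunLike.congr_fun h (ψ x))
  -- conjugation by `s` is an involution of `K`
  have hs2 : s * s = 1 := by
    refine Perm.eq_one_of_sharp_finset hsharp ({a, b, c} : Finset α) (by simp [hab, hac, hbc])
      fun w hw => ?_
    simp only [Finset.mem_insert, Finset.mem_singleton] at hw
    rcases hw with rfl | rfl | rfl
    · rw [mul_smul, hsa, hsb]
    · rw [mul_smul, hsb, hsa]
    · rw [mul_smul, hsc, hsc]
  have hsK : ∀ g : K, s * (g : G) * s⁻¹ ∈ K := fun g => by
    have hsa' : s⁻¹ • a = b := inv_smul_eq_iff.mpr hsb.symm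
    have hsb' : s⁻¹ • b = a := inv_smul_eq_iff.mpr hsa.symm
    refine Subgroup.mem_inf.mpr ⟨?_, ?_⟩ <;> rw [MulAction.mem_stabilizer_iff, mul_smul, mul_smul]
    · rw [hsa', show (g : G) • b = b from g.2.2, hsb]
    · rw [hsb', show (g : G) • a = a from g.2.1, hsa]
  let φ : K →* K :=
    { toFun := fun g => ⟨s * (g : G) * s⁻¹, hsK g⟩
      map_one' := Subtype.ext (by simp)
      map_mul' := fun g h => Subtype.ext (by simp [mul_assoc]) }
  have hφ : ∀ g, φ (φ g) = g := fun g => Subtype.ext (by
    change s * (s * (g : G) * s⁻¹) * s⁻¹ = g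
    rw [show s⁻¹ = s from inv_eq_of_mul_eq_one_right hs2,
      show s * (s * (g : G) * s) * s = (s * s) * g * (s * s) by group, hs2, one_mul, mul_one])
  have hinv : ∃ F : K →* Multiplicative (ZMod 2), F ≠ 1 ∧ ∀ g, F (φ g) = F g := by
    by_cases h : ∀ g, f (φ g) = f g
    · exact ⟨f, hf, h⟩
    · refine ⟨f * f.comp φ, fun h1 => h fun g => ?_, fun g => ?_⟩
      · have h2 : f g * f (φ g) = 1 := DFunLike.congr_fun h1 g
        exact (eq_of_mul_eq_one_two h2).symm
      · change f (φ g) * f (φ (φ g)) = f g * f (φ g)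
        rw [hφ, mul_comm]
  obtain ⟨F, hF, hFφ⟩ := hinv
  refine ⟨F.ker.map K.subtype, Subgroup.map_subtype_le _, ?_, ?_, ?_⟩
  · rw [show (F.ker.map K.subtype).subgroupOf K = F.ker from
      Subgroup.comap_map_eq_self_of_injective K.subtype_injective _]
    infer_instance
  · change ((F.ker.map K.subtype).subgroupOf K).index = 2
    rw [show (F.ker.map K.subtype).subgroupOf K = F.ker from
      Subgroup.comap_map_eq_self_of_injective K.subtype_injective _, Subgroup.index_ker]
    have h1 : Nat.card (Multiplicative (ZMod 2)) = 2 := Nat.card_zmod 2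
    have h2 := Subgroup.card_le_card_group F.range
    have h3 : 1 < Nat.card F.range := by
      rw [Finite.one_lt_card_iff_nontrivial, Subgroup.nontrivial_iff_ne_bot]
      exact fun h => hF (MonoidHom.range_eq_bot_iff.mp h)
    omega
  · rintro n ⟨g, hg, rfl⟩
    exact ⟨φ g, show F (φ g) = 1 by rw [hFφ]; exact hg, rfl⟩

end Cfsg.Agent.S0729
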