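import Cfsg.Statements.S0346
import Cfsg.Agent.Lib.Zassenhaus.AbelianKernel
import Cfsg.Agent.Lib.Zassenhaus.Kernel
import Cfsg.Agent.Lib.Zassenhaus.Even

set_option autoImplicit false
open Cfsg

namespace Cfsg.Agent.S0346

/-- The number of points of a finite simple Zassenhaus group is `p^k + 1` for some prime power `p^k` (the regular normal
subgroup of a point stabiliser is a `p`-group). -/
theorem result {G Ω : Type*} [Group G] [Finite G] [MulAction G Ω] [Fintype Ω]
    (hZ : Cfsg.IsZassenhausGroup G Ω) [IsSimpleGroup G] :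
    IsPrimePow (Fintype.card Ω - 1) := by
  classical
  have hn3 := Zassenhaus.three_le_card hZ
  rw [Nat.card_eq_fintype_card] at hn3
  obtain ⟨a⟩ : Nonempty Ω := Fintype.card_pos_iff.1 (by omega)
  obtain ⟨b, hba⟩ := Zassenhaus.exists_ne' hZ a
  have hab : a ≠ b := hba.symm
  obtain ⟨H, hHa, hHn, hHcard, hHfix⟩ := Zassenhaus.exists_kernel_subgroup hZ a
  rw [Nat.card_eq_fintype_card (α := Ω)] at hHcard
  have key : ∀ p f : ℕ, p.Prime → Fintype.card Ω - 1 = p ^ f → IsPrimePow (Fintype.card Ω - 1) := by
    intro p f hp h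
    rw [h]
    refine hp.isPrimePow.pow ?_
    rintro rfl
    rw [pow_zero] at h
    omega
  have hsmall : Fintype.card Ω - 2 ≤ 2 * Nat.card ↥(MulAction.stabilizer G a ⊓ MulAction.stabilizer G b) →
      IsPrimePow (Fintype.card Ω - 1) := by
    intro hd
    have hreg : ∀ y z : Ω, y ≠ a → z ≠ a → ∃! u : H, (u : G) • y = z := by
      intro y z hy hz
      let f : H → {c : Ω // c ≠ a} := fun u => ⟨(u : G) • y, fun h => hy
        (smul_left_cancel (u : G) (h.trans (show (u : G) • a = a from hHa u.2).symm))⟩
      have hinj : Function.Injective f := by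
        intro u v h
        have h' : (u : G) • y = (v : G) • y := congrArg Subtype.val h
        by_contra hne
        have hne' : ((v⁻¹ * u : H) : G) ≠ 1 := fun e => hne (inv_mul_eq_one.1 (Subtype.ext e)).symm
        exact hy (hHfix _ (v⁻¹ * u : H).2 hne' y (by
          rw [Subgroup.coe_mul, Subgroup.coe_inv, mul_smul, h', inv_smul_smul]))
      have hf : Function.Bijective f := (Nat.bijective_iff_injective_and_card f).2 ⟨hinj, by
        rw [hHcard]
        simp only [Nat.card_eq_fintype_card, Fintype.card_subtype_compl, Fintype.card_subtype_eq]⟩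
      obtain ⟨u, hu⟩ := hf.2 ⟨z, hz⟩
      exact ⟨u, congrArg Subtype.val hu, fun v hv => hinj (Subtype.ext (hv.trans (congrArg Subtype.val hu).symm))⟩
    have hn : (H.subgroupOf (MulAction.stabilizer G a)).Normal := ⟨fun u hu g => hHn g g.2 u hu⟩
    obtain ⟨-, p, f, hp, -, hpf⟩ := S0738.result hZ hab hd H hHa hn hreg
    exact key p f hp (by omega)
  rcases Nat.even_or_odd (Nat.card ↥(MulAction.stabilizer G a ⊓ MulAction.stabilizer G b)) with he | ho
  · have h := (Zassenhaus.simple_even_structure hZ hab he).1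
    rw [Nat.card_eq_fintype_card (α := Ω)] at h
    exact hsmall h.le
  · rcases Zassenhaus.feit_inequality hZ hab (Fintype.card Ω - 1) _ (by omega) rfl ho H hHa (by omega) hHfix with h | ⟨h2, -, -⟩
    · exact hsmall (by omega)
    · obtain ⟨f, hf⟩ := h2.exists_card_eq
      exact key 2 f Nat.prime_two (by omega)

end Cfsg.Agent.S0346
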