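import Cfsg.Statements.S1483
import Cfsg.Agent.EqLemmas

set_option autoImplicit false
open Cfsg

namespace Cfsg.Agent.S1483

theorem commute_of_nilpotent (N : Type*) [Group N] [hN : Group.IsNilpotent N] :
    ∀ a b : N, Nat.Coprime (orderOf a) (orderOf b) → a * b = b * a := by
  refine Group.nilpotent_center_quotient_ind
    (P := fun N _ _ => ∀ a b : N, Nat.Coprime (orderOf a) (orderOf b) → a * b = b * a) N ?_ ?_
  · intro N _ _ a b _
    exact Subsingleton.elim _ _
  · intro N _ _ ih a b hab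
    let q := QuotientGroup.mk' (Subgroup.center N)
    have hq : q a * q b = q b * q a :=
      ih (q a) (q b) (hab.of_dvd (orderOf_map_dvd q a) (orderOf_map_dvd q b))
    have hq' : q (b * a) = q (a * b) := by rw [map_mul, map_mul, hq]
    obtain ⟨c, hc, hce⟩ := (QuotientGroup.mk'_eq_mk' _).mp hq'
    have hcz : ∀ x : N, Commute c x := fun x => (Subgroup.mem_center_iff.mp hc x).symm
    have h1 : a * b * a⁻¹ = c * b := by rw [← hce, ← (hcz (b * a)).eq]; group
    have h2 : b⁻¹ * a * b = c * a := by rw [mul_assoc, ← hce, ← (hcz (b * a)).eq]; rw [← mul_assoc, ← mul_assoc, ← (hcz b⁻¹).eq]; group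
    have hcb : c ^ orderOf b = 1 := by
      have := congrArg (· ^ orderOf b) h1
      simp only [conj_pow, (hcz b).mul_pow, pow_orderOf_eq_one] at this
      simpa using this.symm
    have hca : c ^ orderOf a = 1 := by
      have := congrArg (· ^ orderOf a) h2
      rw [show b⁻¹ * a * b = b⁻¹ * a * b⁻¹⁻¹ by simp] at this
      simp only [conj_pow, (hcz a).mul_pow, pow_orderOf_eq_one] at this
      simpa using this.symm
    have hc1 : c = 1 := orderOf_eq_one_iff.mp (Nat.eq_one_of_dvd_coprimes hab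
      (orderOf_dvd_iff_pow_eq_one.mpr hca) (orderOf_dvd_iff_pow_eq_one.mpr hcb))
    simpa [hc1] using hce.symm

variable {G : Type*} [Group G]

/-- In a CN group two commuting elements of coprime order that centralise `x ≠ 1` commute. -/
theorem commute_of_common_centralizer (hCN : Cfsg.IsCNGroup G) {x a b : G} (hx : x ≠ 1)
    (ha : Commute a x) (hb : Commute b x) (hab : Nat.Coprime (orderOf a) (orderOf b)) : Commute a b := by
  haveI := hCN x hx
  have := commute_of_nilpotent _ (⟨a, Subgroup.mem_centralizer_singleton_iff.mpr ha.eq⟩ :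
      Subgroup.centralizer ({x} : Set G)) ⟨b, Subgroup.mem_centralizer_singleton_iff.mpr hb.eq⟩
    (by simpa [← Subgroup.orderOf_coe] using hab)
  exact congrArg Subtype.val this

theorem conj_commute {a b : G} (g : G) (h : Commute a b) :
    Commute (g * a * g⁻¹) (g * b * g⁻¹) := by
  simpa [MulAut.conj_apply] using h.map (MulAut.conj g)

theorem orderOf_conj' (g a : G) : orderOf (g * a * g⁻¹) = orderOf a := by
  rw [← MulAut.conj_apply]; exact MulEquiv.orderOf_eq (MulAut.conj g) a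

theorem orderOf_pow_of_isPGroup {p : ℕ} (hp : p.Prime) {K : Subgroup G} (hK : IsPGroup p K)
    {u : G} (hu : u ∈ K) : ∃ k : ℕ, orderOf u = p ^ k := by
  obtain ⟨k, hk⟩ := hK ⟨u, hu⟩
  have hk' : u ^ p ^ k = 1 := by simpa using congrArg Subtype.val hk
  obtain ⟨j, -, hj⟩ := (Nat.dvd_prime_pow hp).mp (orderOf_dvd_iff_pow_eq_one.mpr hk')
  exact ⟨j, hj⟩

theorem coprime_of_isPGroup {p q : ℕ} (hp : p.Prime) (hq : q.Prime) (hpq : p ≠ q)
    {K K' : Subgroup G} (hK : IsPGroup p K) (hK' : IsPGroup q K') {u v : G}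
    (hu : u ∈ K) (hv : v ∈ K') : Nat.Coprime (orderOf u) (orderOf v) := by
  obtain ⟨i, hi⟩ := orderOf_pow_of_isPGroup hp hK hu
  obtain ⟨j, hj⟩ := orderOf_pow_of_isPGroup hq hK' hv
  rw [hi, hj]
  exact Nat.Coprime.pow _ _ ((Nat.coprime_primes hp hq).mpr hpq)

variable [Finite G]

theorem exists_central {p : ℕ} [Fact p.Prime] (P : Sylow p G) {x : G} (hx : x ∈ (P : Subgroup G))
    (hx1 : x ≠ 1) : ∃ z ∈ (P : Subgroup G), z ≠ 1 ∧ ∀ u ∈ (P : Subgroup G), Commute u z := by
  have : Nontrivial (P : Subgroup G) :=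
    nontrivial_of_ne ⟨x, hx⟩ 1 fun h => hx1 (congrArg Subtype.val h)
  have := P.isPGroup'.center_nontrivial
  obtain ⟨z, hz1⟩ := exists_ne (1 : Subgroup.center (P : Subgroup G))
  refine ⟨((z : (P : Subgroup G)) : G), (z : (P : Subgroup G)).2,
    fun h => hz1 (Subtype.ext (Subtype.ext h)), fun u hu => ?_⟩
  exact congrArg Subtype.val (Subgroup.mem_center_iff.mp z.2 ⟨u, hu⟩)

/-- A `p'`-element commuting with one non-identity element of a Sylow `p`-subgroup centralises it. -/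
theorem commute_sylow (hCN : Cfsg.IsCNGroup G) {p : ℕ} [Fact p.Prime] (P : Sylow p G) {x y : G}
    (hx : x ∈ (P : Subgroup G)) (hx1 : x ≠ 1) (hy : Nat.Coprime (orderOf y) p) (hxy : Commute y x) :
    ∀ u ∈ (P : Subgroup G), Commute y u := by
  obtain ⟨z, hz, hz1, hzc⟩ := exists_central P hx hx1
  have hco : ∀ u ∈ (P : Subgroup G), Nat.Coprime (orderOf y) (orderOf u) := fun u hu => by
    obtain ⟨k, hk⟩ := orderOf_pow_of_isPGroup Fact.out P.isPGroup' hu
    rw [hk]; exact hy.pow_right k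
  have hyz : Commute y z := commute_of_common_centralizer hCN hx1 hxy (hzc x hx).symm (hco z hz)
  exact fun u hu => commute_of_common_centralizer hCN hz1 hyz (hzc u hu) (hco u hu)

/-- If commuting non-trivial `p`- and `q`-elements exist, every Sylow `p`-subgroup is centralised by
some Sylow `q`-subgroup. -/
theorem exists_commuting_sylow (hCN : Cfsg.IsCNGroup G) {p q : ℕ} [Fact p.Prime] [Fact q.Prime]
    (hpq : p ≠ q) {x y : G} (hx : x ≠ 1) (hy : y ≠ 1) (hxp : IsPGroup p (Subgroup.zpowers x))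
    (hyq : IsPGroup q (Subgroup.zpowers y)) (hxy : Commute x y) (P : Sylow p G) :
    ∃ (Q : Sylow q G) (x' y' : G), x' ∈ (P : Subgroup G) ∧ x' ≠ 1 ∧ y' ∈ (Q : Subgroup G) ∧ y' ≠ 1 ∧
      ∀ u ∈ (P : Subgroup G), ∀ v ∈ (Q : Subgroup G), Commute u v := by
  obtain ⟨P₀, hP₀⟩ := hxp.exists_le_sylow
  obtain ⟨g, hg⟩ := MulAction.exists_smul_eq G P₀ P
  have hx' : g * x * g⁻¹ ∈ (P : Subgroup G) := by
    rw [← hg, Sylow.coe_subgroup_smul]
    exact Subgroup.smul_mem_pointwise_smul x (MulAut.conj g) _ (hP₀ (Subgroup.mem_zpowers x))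
  have hx'1 : g * x * g⁻¹ ≠ 1 := fun h => hx (conj_eq_one_iff.mp h)
  have hy'1 : g * y * g⁻¹ ≠ 1 := fun h => hy (conj_eq_one_iff.mp h)
  have hy'q : IsPGroup q (Subgroup.zpowers (g * y * g⁻¹)) := by
    have := hyq.map (MulAut.conj g).toMonoidHom
    rwa [MonoidHom.map_zpowers] at this
  obtain ⟨Q, hQ⟩ := hy'q.exists_le_sylow
  have hy'Q : g * y * g⁻¹ ∈ (Q : Subgroup G) := hQ (Subgroup.mem_zpowers _)
  refine ⟨Q, _, _, hx', hx'1, hy'Q, hy'1, fun u hu v hv => ?_⟩
  have hcy : Nat.Coprime (orderOf (g * y * g⁻¹)) p := by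
    obtain ⟨k, hk⟩ := orderOf_pow_of_isPGroup Fact.out Q.isPGroup' hy'Q
    rw [hk]; exact ((Nat.coprime_primes Fact.out Fact.out).mpr hpq.symm).pow_left k
  have hyu : Commute (g * y * g⁻¹) u :=
    commute_sylow hCN P hx' hx'1 hcy (conj_commute g hxy.symm) u hu
  rcases eq_or_ne u 1 with rfl | hu1
  · exact Commute.one_left v
  · have hcu : Nat.Coprime (orderOf u) q := by
      obtain ⟨k, hk⟩ := orderOf_pow_of_isPGroup Fact.out P.isPGroup' hu
      rw [hk]; exact ((Nat.coprime_primes Fact.out Fact.out).mpr hpq).pow_left k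
    exact commute_sylow hCN Q hy'Q hy'1 hcu hyu.symm v hv

theorem maximal_eq_centralizer (hCN : Cfsg.IsCNGroup G) {p : ℕ} [hp : Fact p.Prime] {H : Subgroup G}
    (hH : Group.IsNilpotent H) (hmax : ∀ L : Subgroup G, Group.IsNilpotent L → H ≤ L → L = H)
    (hd : p ∣ Nat.card H) :
    ∃ P : Sylow p G, (∃ x ∈ (P : Subgroup G), x ≠ 1) ∧ ∀ z ∈ (P : Subgroup G), z ≠ 1 →
      (∀ u ∈ (P : Subgroup G), Commute u z) → H = Subgroup.centralizer ({z} : Set G) := by
  obtain ⟨P₁⟩ : Nonempty (Sylow p H) := inferInstance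
  obtain ⟨P, hP⟩ := (P₁.isPGroup'.map H.subtype).exists_le_sylow
  have hne : (P₁ : Subgroup H) ≠ ⊥ := P₁.ne_bot_of_dvd_card hd
  obtain ⟨x, hx, hx1⟩ := ((P₁ : Subgroup H).ne_bot_iff_exists_ne_one.mp hne |> fun ⟨⟨x, hx⟩, h⟩ =>
    (⟨x, hx, fun e => h (Subtype.ext e)⟩ : ∃ x : H, x ∈ (P₁ : Subgroup H) ∧ x ≠ 1))
  have hxP : (x : G) ∈ (P : Subgroup G) := hP ⟨x, hx, rfl⟩
  have hxG : (x : G) ≠ 1 := fun e => hx1 (Subtype.ext e)
  refine ⟨P, ⟨x, hxP, hxG⟩, fun z hz hz1 hzc => (hmax _ (hCN z hz1) ?_).symm⟩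
  have hP₁n : (P₁ : Subgroup H).Normal := by
    exact ((Group.isNilpotent_of_finite_tfae (G := H)).out 0 3 rfl rfl).mp hH p hp P₁
  intro h hh
  rw [Subgroup.mem_centralizer_singleton_iff]
  obtain ⟨d, m, hm, hdm⟩ := Nat.exists_eq_pow_mul_and_not_dvd (n := orderOf h)
    (orderOf_pos h).ne' p hp.out.ne_one
  have hcop : Nat.Coprime (p ^ d) m := ((Nat.Prime.coprime_iff_not_dvd hp.out).mpr hm).pow_left d
  have hbez : (1 : ℤ) = (p ^ d : ℕ) * Nat.gcdA (p ^ d) m + (m : ℤ) * Nat.gcdB (p ^ d) m := by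
    rw [← Nat.gcd_eq_gcd_ab, hcop]; rfl
  have h1 : h = (h ^ (p ^ d)) ^ Nat.gcdA (p ^ d) m * (h ^ m) ^ Nat.gcdB (p ^ d) m := by
    rw [← zpow_natCast h (p ^ d), ← zpow_natCast h m, ← zpow_mul, ← zpow_mul, ← zpow_add, ← hbez,
      zpow_one]
  have hp' : Commute (h ^ (p ^ d)) z := by
    have hco : Nat.Coprime (orderOf (h ^ (p ^ d))) p := by
      rw [orderOf_pow, hdm, Nat.gcd_eq_right (dvd_mul_right (p ^ d) m), Nat.mul_div_cancel_left m (pow_pos hp.out.pos d)]
      exact ((Nat.Prime.coprime_iff_not_dvd hp.out).mpr hm).symm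
    refine commute_sylow hCN P hxP hxG hco ?_ z hz
    haveI := hH
    have := commute_of_nilpotent H ⟨h ^ (p ^ d), pow_mem hh _⟩ x (by
      obtain ⟨k, hk⟩ := orderOf_pow_of_isPGroup hp.out P.isPGroup' hxP
      rw [← Subgroup.orderOf_coe, ← Subgroup.orderOf_coe, hk]
      exact hco.pow_right k)
    exact congrArg Subtype.val this
  have hpp : Commute (h ^ m) z := by
    refine hzc _ (hP ⟨⟨h ^ m, pow_mem hh _⟩, ?_, rfl⟩)
    have hz' : IsPGroup p (Subgroup.zpowers (⟨h ^ m, pow_mem hh _⟩ : H)) := by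
      refine IsPGroup.of_card (n := d) ?_
      rw [Nat.card_zpowers, ← Subgroup.orderOf_coe]
      change orderOf (h ^ m) = _
      rw [orderOf_pow, hdm, Nat.gcd_eq_right (dvd_mul_left m (p ^ d)),
        Nat.mul_div_cancel _ (Nat.pos_of_ne_zero (by rintro rfl; exact hm (dvd_zero p)))]
    obtain ⟨Q, hQ⟩ := hz'.exists_le_sylow
    have : Q = P₁ := by
      letI := Sylow.unique_of_normal P₁ hP₁n
      exact Subsingleton.elim _ _
    exact this ▸ hQ (Subgroup.mem_zpowers _)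
  rw [h1]
  exact ((hp'.zpow_left _).mul_left (hpp.zpow_left _)).eq

/-- Let G be a minimal simple group of odd order in which every non-identity element has nilpotent centralizer. Then any two nilpotent subgroups each contained in no larger nilpotent subgroup are either conjugate or of coprime orders; and for primes p, q, r: if some elements x, y ≠ 1 of p-power and q-power order commute, and some elements y', z ≠ 1 of q-power and r-power order commute, then some elements of p-power and r-power order, both ≠ 1, commute. -/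
theorem result {G : Type*} [Group G] [Finite G] (hG : Cfsg.IsMinSimpleOddOrder G) (hCN : Cfsg.IsCNGroup G) :
    (∀ H₁ H₂ : Subgroup G, (Group.IsNilpotent ↥H₁ ∧ ∀ L : Subgroup G, Group.IsNilpotent L → H₁ ≤ L → L = H₁) → (Group.IsNilpotent ↥H₂ ∧ ∀ L : Subgroup G, Group.IsNilpotent L → H₂ ≤ L → L = H₂) → (∃ g : G, H₂ = H₁.map (MulAut.conj g).toMonoidHom) ∨ (Nat.card H₁).Coprime (Nat.card H₂)) ∧
      ∀ (p q r : ℕ), p.Prime → q.Prime → r.Prime → ∀ (x y y' z : G), x ≠ 1 → y ≠ 1 → y' ≠ 1 → z ≠ 1 →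
        IsPGroup p (Subgroup.zpowers x) → IsPGroup q (Subgroup.zpowers y) → IsPGroup q (Subgroup.zpowers y') → IsPGroup r (Subgroup.zpowers z) →
        x * y = y * x → y' * z = z * y' →
        ∃ x' z' : G, x' ≠ 1 ∧ z' ≠ 1 ∧ IsPGroup p (Subgroup.zpowers x') ∧ IsPGroup r (Subgroup.zpowers z') ∧ x' * z' = z' * x' := by
  refine ⟨fun H₁ H₂ ⟨hn1, hm1⟩ ⟨hn2, hm2⟩ => ?_, ?_⟩
  · by_cases hc : (Nat.card H₁).Coprime (Nat.card H₂)
    · exact Or.inr hc
    · obtain ⟨p, hp, hp1, hp2⟩ := Nat.Prime.not_coprime_iff_dvd.mp hc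
      haveI := Fact.mk hp
      obtain ⟨P, ⟨x, hx, hx1⟩, hP⟩ := maximal_eq_centralizer hCN hn1 hm1 hp1
      obtain ⟨P', -, hP'⟩ := maximal_eq_centralizer hCN hn2 hm2 hp2
      obtain ⟨g, hg⟩ := MulAction.exists_smul_eq G P P'
      obtain ⟨z, hz, hz1, hzc⟩ := exists_central P hx hx1
      refine Or.inl ⟨g, ?_⟩
      have hmem : ∀ u : G, u ∈ (P' : Subgroup G) ↔ g⁻¹ * u * g ∈ (P : Subgroup G) := by
        intro u
        rw [← hg, Sylow.coe_subgroup_smul, Subgroup.mem_pointwise_smul_iff_inv_smul_mem]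
        simp [MulAut.smul_def]
      rw [hP z hz hz1 hzc, hP' (g * z * g⁻¹) ((hmem _).mpr (by simpa [mul_assoc] using hz))
        (fun h => hz1 (conj_eq_one_iff.mp h))
        (fun u hu => by simpa [mul_assoc] using conj_commute g (hzc _ ((hmem u).mp hu)))]
      ext c
      rw [Subgroup.mem_centralizer_singleton_iff]
      constructor
      · intro h
        refine ⟨g⁻¹ * c * g, Subgroup.mem_centralizer_singleton_iff.mpr ?_, by simp [mul_assoc]⟩
        simpa [mul_assoc] using (conj_commute g⁻¹ (h : Commute c (g * z * g⁻¹))).eq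
      · rintro ⟨c, h, rfl⟩
        exact (conj_commute g (Subgroup.mem_centralizer_singleton_iff.mp h : Commute c z)).eq
  · intro p q r hp hq hr x y y' z hx hy hy' hz hxp hyq hy'q hzr hxy hy'z
    rcases eq_or_ne p r with rfl | hpr
    · exact ⟨x, x, hx, hx, hxp, hxp, rfl⟩
    rcases eq_or_ne p q with rfl | hpq
    · exact ⟨y', z, hy', hz, hy'q, hzr, hy'z⟩
    rcases eq_or_ne q r with rfl | hqr
    · exact ⟨x, y, hx, hy, hxp, hyq, hxy⟩
    haveI := Fact.mk hp
    haveI := Fact.mk hq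
    haveI := Fact.mk hr
    obtain ⟨Q, hQ⟩ := hyq.exists_le_sylow
    obtain ⟨P, w, a, -, -, ha, ha1, hQP⟩ :=
      exists_commuting_sylow hCN hpq.symm hy hx hyq hxp hxy.symm Q
    obtain ⟨R, w', b, -, -, hb, hb1, hQR⟩ :=
      exists_commuting_sylow hCN hqr hy' hz hy'q hzr hy'z Q
    have hyQ : y ∈ (Q : Subgroup G) := hQ (Subgroup.mem_zpowers y)
    refine ⟨a, b, ha1, hb1, P.isPGroup'.to_le (Subgroup.zpowers_le.mpr ha),
      R.isPGroup'.to_le (Subgroup.zpowers_le.mpr hb), ?_⟩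
    exact commute_of_common_centralizer hCN hy (hQP y hyQ a ha).symm (hQR y hyQ b hb).symm
      (coprime_of_isPGroup hp hr hpr P.isPGroup' R.isPGroup' ha hb)

end Cfsg.Agent.S1483
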