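import Cfsg.Statements.S3050
import Cfsg.Agent.Lib.SL2Module.Group

set_option autoImplicit false
open Cfsg

namespace Cfsg.Agent.S3050

open Cfsg.Agent

/-- The image of a product lies in a subgroup containing the images of the factors. -/
theorem prod_mem_map {A B ι : Type*} [CommGroup A] [Group B] [Fintype ι] (Φ : A →* B) (S : Subgroup B) (a : ι → A)
    (h : ∀ i, Φ (a i) ∈ S) : Φ (∏ i, a i) ∈ S :=
  Subgroup.mem_comap.1 (Subgroup.prod_mem (S.comap Φ) fun i _ => h i)


/-- Let G be a finite group with a normal 2-subgroup Q such that G/Q is isomorphic to SL(2, 2ⁿ) with n ≥ 2, and suppose some element of G of order 3 fixes no nonidentity element of Q under conjugation. Then Q is elementary abelian and is the direct product of normal subgroups of G on each of which G acts as SL(2, 2ⁿ) acts on its natural two-dimensional module (a Galois twist of the natural action allowed). -/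
theorem result {G : Type*} [Group G] [Finite G]
    (Q : Subgroup G) [Q.Normal] (hQ : IsPGroup 2 ↥Q) (n : ℕ) (hn : 2 ≤ n)
    (K : Type*) [Field K] [Fintype K] (hK : Fintype.card K = 2 ^ n)
    (e : G ⧸ Q ≃* Matrix.SpecialLinearGroup (Fin 2) K)
    (x : G) (hx : orderOf x = 3) (hfpf : ∀ q ∈ Q, x * q * x⁻¹ = q → q = 1) :
    Cfsg.IsElementaryAbelian 2 Q ∧
      ∃ (k : ℕ) (V : Fin k → Subgroup G), (∀ i, V i ≤ Q ∧ (V i).Normal ∧
        Cfsg.ActsAsSL2OnSection K ⊤ ⊤ (V i) ⊥) ∧ iSupIndep V ∧ ⨆ i, V i = Q := by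
  classical
  have hK4 : 4 ≤ Nat.card K := by
    rw [Nat.card_eq_fintype_card, hK]
    exact (Nat.pow_le_pow_right two_pos hn : 2 ^ 2 ≤ 2 ^ n)
  have : Fact (Nat.Prime 2) := ⟨Nat.prime_two⟩
  have : CharP K 2 := charP_of_card_eq_prime_pow hK
  obtain ⟨hQc, hQ2⟩ := SL2Module.elementary_of_fpf (K := K) hK4 (Nat.card G) G Q rfl hQ e x hx hfpf
  refine ⟨⟨⟨⟨fun a b => Subtype.ext (hQc _ a.2 _ b.2)⟩⟩, fun a ha => by rw [pow_two]; exact hQ2 a ha⟩, ?_⟩
  letI := SL2Module.commGroupOf Q hQc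
  have hQQ : Q ≤ Subgroup.centralizer (Q : Set G) := fun a ha b hb => hQc b hb a ha
  let τ := SL2Module.addRep ((SL2Module.quotAct Q Q hQQ).comp e.symm.toMonoidHom)
  have hτv : ∀ (g : G) (a : Additive ↥Q),
      (((τ (e (g : G ⧸ Q)) a).toMul : ↥Q) : G) = g * (a.toMul : G) * g⁻¹ := fun g a => by
    show ((SL2Module.quotAct Q Q hQQ (e.symm (e (g : G ⧸ Q))) a.toMul : ↥Q) : G) = _
    rw [MulEquiv.symm_apply_apply]; exact SL2Module.quotAct_mk Q Q hQQ g _
  have hxQ := SL2Module.not_mem_of_isPGroup Q hQ hx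
  have hτ : SL2Module.Rel τ := by
    refine SL2Module.rel_of_fpf (y := e (x : G ⧸ Q)) ?_ ?_ fun m hm => ?_
    · rw [← map_pow, ← QuotientGroup.mk_pow, ← hx, pow_orderOf_eq_one, QuotientGroup.mk_one, map_one]
    · exact fun h => hxQ ((QuotientGroup.eq_one_iff x).1 (e.map_eq_one_iff.1 h))
    · have h := congrArg (fun a : Additive ↥Q => ((a.toMul : ↥Q) : G)) hm
      simp only [hτv] at h
      exact Additive.toMul.injective (Subtype.ext (hfpf _ m.toMul.2 h))
  obtain ⟨k, T, hT, hTg⟩ := SL2Module.exists_natural_decomposition hK4 hτ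
    (fun m => Additive.toMul.injective (Subtype.ext (hQ2 _ m.toMul.2)))
  let Φ : Multiplicative (Fin k → Fin 2 → K) →* G := Q.subtype.comp (AddMonoidHom.toMultiplicativeLeft T)
  have hΦinj : Function.Injective Φ := fun a b h =>
    Multiplicative.toAdd.injective (hT.1 (Additive.toMul.injective (Subtype.ext h)))
  let ι : Fin k → Multiplicative (Fin 2 → K) →* Multiplicative (Fin k → Fin 2 → K) := fun i =>
    AddMonoidHom.toMultiplicative (AddMonoidHom.single (fun _ : Fin k => Fin 2 → K) i)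
  let f : Fin k → Multiplicative (Fin 2 → K) →* G := fun i => Φ.comp (ι i)
  have hfinj : ∀ i, Function.Injective (f i) := fun i a b h => by
    have h' : Pi.single (M := fun _ : Fin k => Fin 2 → K) i a.toAdd = Pi.single i b.toAdd :=
      congrArg Multiplicative.toAdd (hΦinj h)
    exact Multiplicative.toAdd.injective (Pi.single_injective i h')
  have hfQ : ∀ i, (f i).range ≤ Q := by
    rintro i _ ⟨v, rfl⟩; exact SetLike.coe_mem _
  have hconj : ∀ (g : G) i (v : Fin 2 → K), g * f i (Multiplicative.ofAdd v) * g⁻¹ =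
      f i (Multiplicative.ofAdd ((e (g : G ⧸ Q)).1.mulVec v)) := by
    intro g i v
    show g * ((T (Pi.single i v)).toMul : G) * g⁻¹ = ((T (Pi.single i ((e (g : G ⧸ Q)).1.mulVec v))).toMul : G)
    rw [← hτv, ← hTg]
    congr 3
    funext j
    by_cases hj : j = i
    · subst hj; simp
    · simp [hj]
  refine ⟨k, fun i => (f i).range, fun i => ⟨hfQ i, ⟨?_⟩, ?_⟩, ?_, ?_⟩
  · rintro _ ⟨v, rfl⟩ g
    exact ⟨_, (hconj g i v.toAdd).symm⟩
  · refine ⟨fun g _ => ?_, bot_le, (e.toMonoidHom.comp (QuotientGroup.mk' Q)).comp (⊤ : Subgroup G).subtype,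
      (MonoidHom.ofInjective (hfinj i)).symm.toMonoidHom, ?_, (MonoidHom.ofInjective (hfinj i)).symm.surjective,
      fun u => ?_, fun g u => ?_⟩
    · refine Subgroup.mem_normalizer_fintype ?_
      rintro _ ⟨v, rfl⟩
      exact ⟨_, (hconj g i v.toAdd).symm⟩
    · refine MonoidHom.range_eq_top.2 fun y => ?_
      obtain ⟨g, hg⟩ := QuotientGroup.mk_surjective (e.symm y)
      exact ⟨⟨g, trivial⟩, by show e (g : G ⧸ Q) = y; rw [hg, e.apply_symm_apply]⟩
    · show (MonoidHom.ofInjective (hfinj i)).symm u = 1 ↔ _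
      rw [Subgroup.mem_bot, MulEquiv.map_eq_one_iff, Subtype.ext_iff]
      rfl
    · obtain ⟨v, rfl⟩ := (MonoidHom.ofInjective (hfinj i)).surjective u
      refine ⟨MonoidHom.ofInjective (hfinj i) (Multiplicative.ofAdd ((e ((g : G) : G ⧸ Q)).1.mulVec v.toAdd)),
        (hconj g i v.toAdd).symm, ?_⟩
      show Multiplicative.toAdd ((MonoidHom.ofInjective (hfinj i)).symm _) =
        (e ((g : G) : G ⧸ Q)).1.mulVec (Multiplicative.toAdd ((MonoidHom.ofInjective (hfinj i)).symm _))
      rw [MulEquiv.symm_apply_apply, MulEquiv.symm_apply_apply]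
      rfl
  · intro i
    let D : Subgroup (Multiplicative (Fin k → Fin 2 → K)) :=
      (AddMonoidHom.toMultiplicative (Pi.evalAddMonoidHom (fun _ : Fin k => Fin 2 → K) i)).ker
    refine Disjoint.mono_right (c := D.map Φ) (iSup₂_le fun j hj => ?_) ?_
    · rintro _ ⟨v, rfl⟩
      exact ⟨ι j v, Multiplicative.toAdd.injective (Pi.single_eq_of_ne hj.symm _), rfl⟩
    · rw [Subgroup.disjoint_def]
      rintro _ ⟨v, rfl⟩ ⟨w, hw, hwv⟩
      rw [show w = ι i v from hΦinj hwv] at hw
      have hv : v = 1 := Multiplicative.toAdd.injective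
        ((Pi.single_eq_same (M := fun _ : Fin k => Fin 2 → K) i v.toAdd).symm.trans (congrArg Multiplicative.toAdd hw))
      rw [hv, map_one]
  · refine le_antisymm (iSup_le hfQ) fun q hq => ?_
    obtain ⟨v, hv⟩ := hT.2 (Additive.ofMul ⟨q, hq⟩)
    have hq' : q = Φ (Multiplicative.ofAdd v) := by
      show q = ((T v).toMul : G)
      rw [hv]; rfl
    rw [hq', ← Finset.univ_sum_single v, ofAdd_sum]
    exact prod_mem_map Φ _ _ fun i => Subgroup.mem_iSup_of_mem i ⟨Multiplicative.ofAdd (v i), rfl⟩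

end Cfsg.Agent.S3050
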