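import Cfsg.Statements.S3921
import Cfsg.Agent.Lib.SelfCentSimple.Even
import Cfsg.Agent.Lib.PSL2.Centralizers
import Cfsg.Agent.Lib.HallHigman.DeficientTwo
import Cfsg.Agent.S0508

set_option autoImplicit false
open Cfsg

namespace Cfsg.Agent.S3921

open Cfsg.Agent.BSW (cent mem_cent)

theorem fermat_pow {p m n : ℕ} (hp : p.Prime) (hm : m ≠ 0) (h : p ^ m = 2 ^ n + 1) :
    p ^ m = 9 ∨ (p ^ m).Prime := by
  rcases eq_or_ne m 1 with rfl | hm1
  · exact Or.inr (by rwa [pow_one])
  left
  have hp2 := hp.two_le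
  rcases Nat.even_or_odd m with ⟨j, rfl⟩ | hodd
  · have hX : 1 ≤ p ^ j := Nat.one_le_pow _ _ hp.pos
    obtain ⟨y, hy⟩ := Nat.exists_eq_add_of_le hX
    have hprod : 2 ^ n = (y + 2) * y := by
      rw [pow_add, hy] at h
      nlinarith
    obtain ⟨a, -, ha⟩ := (Nat.dvd_prime_pow Nat.prime_two).1 (Dvd.intro y hprod.symm)
    obtain ⟨b, -, hb⟩ := (Nat.dvd_prime_pow Nat.prime_two).1 (Dvd.intro_left (y + 2) hprod.symm)
    rcases b with _ | _ | b
    · rw [pow_zero] at hb
      subst hb
      rcases a with _ | a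
      · simp at ha
      · rw [pow_succ] at ha; omega
    · rw [zero_add, pow_one] at hb
      subst hb
      rw [pow_add, hy]
      norm_num
    · exfalso
      rcases a with _ | _ | a
      · simp at ha
      · rw [zero_add, pow_one] at ha
        have : y = 0 := by omega
        rw [this] at hb
        exact (pow_pos two_pos _).ne hb
      · rw [show b + 1 + 1 = b + 2 from rfl, pow_add] at hb
        rw [show a + 1 + 1 = a + 2 from rfl, pow_add] at ha
        omega
  · exfalso
    obtain ⟨S, hS⟩ : ∃ S, p ^ m - 1 = S := ⟨_, rfl⟩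
    have hgeo : (p - 1) * ∑ i ∈ Finset.range m, p ^ i = p ^ m - 1 := by
      rw [Nat.geomSum_eq hp2, Nat.mul_div_cancel' (by simpa using Nat.sub_dvd_pow_sub_pow p 1 m)]
    have hpo : Odd p := by
      refine hp.odd_of_ne_two fun e => ?_
      subst e
      rcases n with _ | n
      · rw [pow_zero] at h
        exact hm1 (by
          have : (2 : ℕ) ^ m = 2 ^ 1 := by rw [h]; rfl
          exact Nat.pow_right_injective le_rfl this)
      · have h1 : 2 ∣ 2 ^ m := dvd_pow_self 2 hm
        rw [h, pow_succ] at h1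
        omega
    have hsum : Odd (∑ i ∈ Finset.range m, p ^ i) := by
      rw [Finset.odd_sum_iff_odd_card_odd, Finset.filter_true_of_mem (fun i _ => hpo.pow),
        Finset.card_range]
      exact hodd
    have hdvd : (∑ i ∈ Finset.range m, p ^ i) ∣ 2 ^ n := Dvd.intro_left (p - 1) (by rw [hgeo, h]; rfl)
    obtain ⟨i, -, hi⟩ := (Nat.dvd_prime_pow Nat.prime_two).1 hdvd
    rcases i with _ | i
    · obtain ⟨k, rfl⟩ : ∃ k, m = k + 2 := ⟨m - 2, by omega⟩
      rw [Finset.sum_range_succ, Finset.sum_range_succ, pow_zero] at hi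
      have := Nat.one_le_pow k p hp.pos
      have := Nat.one_le_pow (k + 1) p hp.pos
      omega
    · rw [hi, pow_succ] at hsum
      obtain ⟨k, hk⟩ := hsum
      omega

/-- The centralizer of an involution as a power of two determines the field. -/
theorem field_cases {F : Type} [Field F] [Fintype F] (hodd : Odd (Fintype.card F))
    {x : PSL2.PSL2 F} (hx : orderOf x = 2) {n : ℕ}
    (hn : Nat.card (Subgroup.centralizer ({x} : Set (PSL2.PSL2 F))) = 2 ^ n) :
    Fintype.card F = 4 ∨ Fintype.card F = 9 ∨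
      ((Fintype.card F).Prime ∧ ∃ k : ℕ, Fintype.card F = 2 ^ k + 1 ∨ Fintype.card F = 2 ^ k - 1) := by
  have hcF : Nat.card F = Fintype.card F := Nat.card_eq_fintype_card
  obtain ⟨h1, h3⟩ := PSL2.card_centralizer_involution (F := F) (by rwa [hcF]) hx
  rw [hcF, hn] at h1 h3
  obtain ⟨p, _, ⟨m, hm⟩, hp, hpm⟩ := FiniteField.card' F
  change Fintype.card F = p ^ m at hpm
  have hq := Fintype.one_lt_card (α := F)
  rcases (by obtain ⟨k, hk⟩ := hodd; omega : Fintype.card F % 4 = 1 ∨ Fintype.card F % 4 = 3)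
    with h | h
  · have e : Fintype.card F = 2 ^ n + 1 := by have := h1 h; omega
    rcases fermat_pow hp hm.ne' (hpm ▸ e) with h' | h'
    · exact Or.inr (Or.inl (by rw [hpm]; exact h'))
    · exact Or.inr (Or.inr ⟨hpm ▸ h', n, Or.inl e⟩)
  · have e : Fintype.card F = 2 ^ n - 1 := by have := h3 h; omega
    obtain ⟨hm1, -, -⟩ := HallHigman.mersenne_prime_pow hp hm (by rw [← e]; exact hpm)
    exact Or.inr (Or.inr ⟨by rw [hpm]; show (p ^ m).Prime; rw [hm1, pow_one]; exact hp, n, Or.inr e⟩)

theorem psl_mem_of_noncyclic {F : Type} [Field F] [Fintype F]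
    (hF : Fintype.card F = 4 ∨ Fintype.card F = 9 ∨
      ((Fintype.card F).Prime ∧ ∃ k : ℕ, Fintype.card F = 2 ^ k + 1 ∨ Fintype.card F = 2 ^ k - 1))
    {c : PSL2.PSL2 F} (hc : c ≠ 1) {H : Subgroup (PSL2.PSL2 F)} (hH : ¬ IsCyclic H)
    (hle : H ≤ Subgroup.centralizer {c}) : c ∈ H := by
  have hcF : Nat.card F = Fintype.card F := Nat.card_eq_fintype_card
  obtain ⟨p, hp⟩ := CharP.exists F
  haveI := hp
  haveI hpf : Fact p.Prime := ⟨CharP.char_is_prime F p⟩
  obtain ⟨⟨m, hm⟩, -, hpm⟩ := FiniteField.card F p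
  change Fintype.card F = p ^ m at hpm
  have hpow : ∀ {r i : ℕ}, r.Prime → Fintype.card F = r ^ i → i ≠ 0 → p = r := fun hr h _ =>
    (Nat.prime_dvd_prime_iff_eq hpf.out hr).1
      (hpf.out.dvd_of_dvd_pow ((dvd_pow_self p hm.ne').trans (hpm.symm.trans h).dvd))
  have hcC : c ∈ Subgroup.centralizer ({c} : Set (PSL2.PSL2 F)) :=
    Subgroup.mem_centralizer_singleton_iff.2 rfl
  by_cases hcp : orderOf c ∣ p
  · -- unipotent elements
    have ho : orderOf c = p := ((Nat.dvd_prime hpf.out).1 hcp).resolve_left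
      (fun e => hc (orderOf_eq_one_iff.1 e))
    have hC := PSL2.card_centralizer_char p ho
    rw [hcF] at hC
    have hd := Subgroup.card_dvd_of_le hle
    rw [hC] at hd
    rcases hF with h | h | ⟨h, -⟩
    · obtain ⟨i, hi, hi'⟩ := (Nat.dvd_prime_pow Nat.prime_two).1 (show Nat.card H ∣ 2 ^ 2 by rw [h] at hd; simpa using hd)
      interval_cases i
      · exact absurd (by
          have : Subsingleton H := (Nat.card_eq_one_iff_unique.1 (by simpa using hi')).1
          infer_instance) hH
      · exact absurd (isCyclic_of_prime_card (p := 2) (by simpa using hi')) hH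
      · rwa [Subgroup.eq_of_le_of_card_ge hle (by rw [hC, h, hi']; norm_num)]
    · obtain ⟨i, hi, hi'⟩ := (Nat.dvd_prime_pow Nat.prime_three).1 (show Nat.card H ∣ 3 ^ 2 by rw [h] at hd; simpa using hd)
      interval_cases i
      · exact absurd (by
          have : Subsingleton H := (Nat.card_eq_one_iff_unique.1 (by simpa using hi')).1
          infer_instance) hH
      · exact absurd (isCyclic_of_prime_card (p := 3) (by simpa using hi')) hH
      · rwa [Subgroup.eq_of_le_of_card_ge hle (by rw [hC, h, hi']; norm_num)]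
    · rcases (Nat.dvd_prime h).1 hd with e | e
      · exact absurd (by
          have : Subsingleton H := (Nat.card_eq_one_iff_unique.1 e).1
          infer_instance) hH
      · haveI := Fact.mk h
        exact absurd (isCyclic_of_prime_card e) hH
  by_cases ho2 : orderOf c = 2
  · have hp2 : p ≠ 2 := fun e => hcp (by rw [ho2, e])
    have hodd : Odd (Fintype.card F) := hpm ▸ (hpf.out.odd_of_ne_two hp2).pow
    -- the centralizer is a 2-group
    obtain ⟨n, hn⟩ : ∃ n, Nat.card (Subgroup.centralizer ({c} : Set (PSL2.PSL2 F))) = 2 ^ n := by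
      obtain ⟨h1, h3⟩ := PSL2.card_centralizer_involution (F := F) (by rwa [hcF]) ho2
      rw [hcF] at h1 h3
      rcases hF with h | h | ⟨h, k, hk⟩
      · exact absurd (hpow Nat.prime_two (i := 2) (by rw [h]; norm_num) two_ne_zero) hp2
      · exact ⟨3, by rw [h1 (by rw [h]), h]; norm_num⟩
      · have hodd' := Nat.odd_iff.1 hodd
        rcases k with _ | _ | k
        · exfalso
          have := h.two_le
          rcases hk with hk | hk <;> simp at hk <;> omega
        · have := h.two_le
          have h' : Fintype.card F = 3 := by rcases hk with hk | hk <;> simp at hk <;> omega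
          exact ⟨2, by rw [h3 (by rw [h']), h']; norm_num⟩
        · rw [show k + 1 + 1 = k + 2 from rfl, pow_add] at hk
          refine ⟨k + 2, ?_⟩
          rw [pow_add]
          have := Nat.one_le_pow k 2 two_pos
          rcases hk with hk | hk
          · rw [h1 (by omega)]; omega
          · rw [h3 (by omega)]; omega
    obtain ⟨y, hy, hyo⟩ := PSL2.exists_torus_gen p hcp
    have hyC : Subgroup.zpowers y ≤ Subgroup.centralizer {c} := by
      rw [Subgroup.zpowers_le, Subgroup.mem_centralizer_singleton_iff]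
      obtain ⟨i, rfl⟩ := hy
      exact ((Commute.refl y).zpow_right i).eq
    have hy2 : 2 ∣ orderOf y := by have := orderOf_dvd_of_mem_zpowers hy; rwa [ho2] at this
    have hidx : (Subgroup.centralizer ({c} : Set (PSL2.PSL2 F))) ≠ Subgroup.zpowers y →
        Nat.card (Subgroup.centralizer ({c} : Set (PSL2.PSL2 F))) = 2 * orderOf y := by
      intro _
      obtain ⟨h1, h3⟩ := PSL2.card_centralizer_involution (F := F) (by rwa [hcF]) ho2
      rw [hcF] at h1 h3 hyo
      obtain ⟨j, hj⟩ := hodd
      have hg : Nat.gcd 2 (Fintype.card F - 1) = 2 := Nat.gcd_eq_left ⟨j, by omega⟩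
      rw [hg] at hyo
      obtain ⟨i, hi⟩ := hy2
      rcases (by omega : Fintype.card F % 4 = 1 ∨ Fintype.card F % 4 = 3) with h | h
      · rw [h1 h]; omega
      · rw [h3 h]; omega
    -- a non-trivial intersection with the torus contains `c`
    by_contra hno
    have hinf : ∀ z ∈ H, z ∈ Subgroup.zpowers y → z = 1 := by
      intro z hzH hzy
      by_contra hz1
      obtain ⟨i, -, hi⟩ := (Nat.dvd_prime_pow Nat.prime_two).1
        (hn ▸ Subgroup.orderOf_dvd_natCard _ (hle hzH))
      have hi0 : i ≠ 0 := fun e => hz1 (orderOf_eq_one_iff.1 (by rw [hi, e, pow_zero]))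
      set w := z ^ (orderOf z / 2) with hw
      have hwo : orderOf w = 2 :=
        orderOf_pow_orderOf_div (orderOf_pos z).ne' (by rw [hi]; exact dvd_pow_self 2 hi0)
      by_cases hwc : w = c
      · exact hno (hwc ▸ pow_mem hzH _)
      · exact SelfCentSimple.not_isCyclic_two_invol (Subgroup.pow_mem _ hzy _) hy hwo ho2 hwc
          inferInstance
    by_cases hCy : Subgroup.centralizer ({c} : Set (PSL2.PSL2 F)) = Subgroup.zpowers y
    · exact hH (by
        have : Subsingleton H := ⟨fun a b => by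
          rw [Subtype.ext_iff, hinf a a.2 (hCy ▸ hle a.2), hinf b b.2 (hCy ▸ hle b.2)]⟩
        infer_instance)
    set K := (Subgroup.zpowers y).subgroupOf (Subgroup.centralizer {c}) with hKdef
    have hKi : K.index = 2 := by
      have h := K.card_mul_index
      rw [Nat.card_congr (Subgroup.subgroupOfEquivOfLe hyC).toEquiv, Nat.card_zpowers, hidx hCy,
        mul_comm 2] at h
      exact Nat.eq_of_mul_eq_mul_left (orderOf_pos y) h
    have hmul : ∀ a ∈ H, ∀ b ∈ H, a ≠ 1 → b ≠ 1 → a = b := by
      intro a ha b hb ha1 hb1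
      have h := (Subgroup.mul_mem_iff_of_index_two hKi (a := ⟨a, hle ha⟩)
        (b := (⟨b, hle hb⟩ : Subgroup.centralizer ({c} : Set (PSL2.PSL2 F)))⁻¹)).2 (by
          rw [Subgroup.inv_mem_iff]
          exact iff_of_false (fun h => ha1 (hinf a ha h)) (fun h => hb1 (hinf b hb h)))
      exact mul_inv_eq_one.1 (hinf (a * b⁻¹) (mul_mem ha (inv_mem hb)) h)
    refine hH ?_
    rcases eq_or_ne H ⊥ with rfl | hne
    · infer_instance
    obtain ⟨a, ha, ha1⟩ := H.ne_bot_iff_exists_ne_one.1 hne |> fun ⟨a, h⟩ =>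
      (⟨a.1, a.2, fun e => h (Subtype.ext e)⟩ : ∃ a, a ∈ H ∧ a ≠ 1)
    refine ⟨⟨⟨a, ha⟩, fun z => ?_⟩⟩
    rcases eq_or_ne (z : PSL2.PSL2 F) 1 with hz | hz
    · exact ⟨0, (Subtype.ext hz.symm : (1 : H) = z) ▸ zpow_zero _⟩
    · exact ⟨1, (zpow_one _).trans (Subtype.ext (hmul z z.2 a ha hz ha1).symm)⟩
  · -- semisimple elements
    have ho3 : 3 ≤ orderOf c := by
      have := orderOf_pos c
      have : orderOf c ≠ 1 := fun e => hc (orderOf_eq_one_iff.1 e)
      omega
    obtain ⟨y, -, hy, -⟩ := PSL2.centralizer_torus p hcp ho3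
    exact absurd (isCyclic_of_injective (Subgroup.inclusion (hy ▸ hle))
      (Subgroup.inclusion_injective _)) hH

/-- Say that a group has self-centralizing non-cyclic subgroups when every non-cyclic subgroup H satisfies C_G(H) ≤ H. A non-abelian finite simple group has self-centralizing non-cyclic subgroups if and only if it is isomorphic to PSL₂(q) with q = 4, q = 9, or q a prime of the form 2^k + 1 or 2^k − 1. -/
theorem result {G : Type*} [Group G] [Finite G] [IsSimpleGroup G] (hna : ¬ IsMulCommutative G) :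
    (∀ H : Subgroup G, ¬ IsCyclic ↥H → Subgroup.centralizer (H : Set G) ≤ H) ↔ ∃ (F : Type) (_ : Field F) (_ : Fintype F),
      (Fintype.card F = 4 ∨ Fintype.card F = 9 ∨ ((Fintype.card F).Prime ∧ ∃ k : ℕ, Fintype.card F = 2 ^ k + 1 ∨ Fintype.card F = 2 ^ k - 1)) ∧
      Nonempty (G ≃* Matrix.ProjectiveSpecialLinearGroup (Fin 2) F) := by
  constructor
  · intro hSC
    obtain ⟨t, s, K, h, n, hn⟩ := SelfCentSimple.exists_hyp hna hSC
    obtain ⟨F, iF, iF', hodd, ⟨e⟩⟩ := S0508.equiv_of_conclusion h.conclusion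
    refine ⟨F, iF, iF', ?_, ⟨e⟩⟩
    refine field_cases hodd (x := e t) (by rw [MulEquiv.orderOf_eq]; exact h.ht) (n := n) ?_
    rw [← hn]
    refine (Nat.card_congr ((e.subgroupMap (cent t)).toEquiv.trans (Equiv.setCongr ?_))).symm
    ext z
    constructor
    · rintro ⟨w, hw, rfl⟩
      exact Subgroup.mem_centralizer_singleton_iff.2 (by
        show e w * e t = e t * e w
        rw [← map_mul, ← map_mul, mem_cent.1 hw])
    · intro hz
      refine ⟨e.symm z, mem_cent.2 ?_, e.apply_symm_apply z⟩
      apply e.injective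
      rw [map_mul, map_mul, e.apply_symm_apply]
      exact Subgroup.mem_centralizer_singleton_iff.1 hz
  · rintro ⟨F, iF, iF', hF, ⟨e⟩⟩ H hH c hc
    rcases eq_or_ne c 1 with rfl | hc1
    · exact one_mem _
    have h := psl_mem_of_noncyclic hF (c := e c) (fun h => hc1 (e.injective (h.trans e.map_one.symm)))
      (H := H.map e.toMonoidHom)
      (fun h => hH ((e.subgroupMap H).symm.isCyclic.1 h)) (by
        rintro z ⟨w, hw, rfl⟩
        exact Subgroup.mem_centralizer_singleton_iff.2 (by
          show e w * e c = e c * e w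
          rw [← map_mul, ← map_mul, hc w hw]))
    obtain ⟨w, hw, he⟩ := h
    exact e.injective he ▸ hw

end Cfsg.Agent.S3921
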