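import Cfsg.Statements.S3836
import Cfsg.Agent.EqLemmas

set_option autoImplicit false
open Cfsg

namespace Cfsg.Agent.S3836

/-- Let G be a finite group that is p-stable in the normalizer form: for every p-subgroup Q and every x ∈ N_G(Q) with [Q, x, x] = 1, the image of x in N_G(Q)/C_G(Q) lies in O_p(N_G(Q)/C_G(Q)). Then every subgroup of G is p-stable in the same sense. -/
theorem result {G : Type*} [Group G] [Finite G] {p : ℕ} [Fact p.Prime] (hst : Cfsg.IsNormalizerPStable p G) (H : Subgroup G) : Cfsg.IsNormalizerPStable p ↥H := by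
  classical
  intro P hP g hg hcomm
  set N := Subgroup.normalizer (P : Set H) with hN
  set P' := P.map H.subtype with hP'
  set N' := Subgroup.normalizer (P' : Set G) with hN'
  set C := (Subgroup.centralizer (P : Set H)).subgroupOf N with hC
  set C' := (Subgroup.centralizer (P' : Set G)).subgroupOf N' with hC'
  have hmemN : ∀ y : N, ((y : H) : G) ∈ N' := by
    intro y
    rw [hN', Subgroup.mem_normalizer_iff_map_conj_eq, hP', Subgroup.map_map]
    have := Subgroup.mem_normalizer_iff_map_conj_eq.mp y.2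
    conv_rhs => rw [← this, Subgroup.map_map]
    congr 1
  let φ : N →* N' := (H.subtype.comp N.subtype).codRestrict N' hmemN
  have hφC : ∀ y : N, y ∈ C ↔ φ y ∈ C' := by
    intro y
    rw [hC, hC', Subgroup.mem_subgroupOf, Subgroup.mem_subgroupOf]
    simp only [Subgroup.mem_centralizer_iff, hP']
    constructor
    · rintro h _ ⟨z, hz, rfl⟩
      exact congrArg Subtype.val (h z hz)
    · intro h z hz
      exact Subtype.ext (h z ⟨z, hz, rfl⟩)
  have hle : C ≤ C'.comap φ := fun y hy => (hφC y).mp hy
  let f : N ⧸ C →* N' ⧸ C' := QuotientGroup.map C C' φ hle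
  have hf : Function.Injective f := by
    rw [injective_iff_map_eq_one]
    intro q
    obtain ⟨y, rfl⟩ := QuotientGroup.mk_surjective q
    intro hy
    rw [QuotientGroup.map_mk, QuotientGroup.eq_one_iff] at hy
    exact (QuotientGroup.eq_one_iff y).mpr ((hφC y).mpr hy)
  have hcomm' : ⁅⁅P', Subgroup.zpowers (g : G)⁆, Subgroup.zpowers (g : G)⁆ = ⊥ := by
    rw [show Subgroup.zpowers (g : G) = (Subgroup.zpowers g).map H.subtype by rw [MonoidHom.map_zpowers]; rfl,
      hP', ← Subgroup.map_commutator, ← Subgroup.map_commutator, hcomm, Subgroup.map_bot]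
  have key := hst P' (hP.map H.subtype) (g : G) (hmemN ⟨g, hg⟩) hcomm'
  have hp : IsPGroup p (pCore p (N' ⧸ C')) := by
    have : pCore p (N' ⧸ C') = sSup {K : Subgroup (N' ⧸ C') | K.Normal ∧ IsPGroup p K} := rfl
    rw [this]
    exact Sylow.sSup_of_normal _ (fun K hK => hK.2) (fun K hK => hK.1)
  have hn : (pCore p (N' ⧸ C')).Normal := Subgroup.sSup_normal _ (fun K hK => hK.1)
  have hmem : (pCore p (N' ⧸ C')).comap f ∈ {K : Subgroup (N ⧸ C) | K.Normal ∧ IsPGroup p K} :=
    ⟨hn.comap f, hp.comap_of_injective f hf⟩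
  exact le_sSup hmem key

end Cfsg.Agent.S3836
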