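import Cfsg.Statements.S1644
import Cfsg.Agent.Lib.JankoUnique.Main
import Cfsg.Agent.EqLemmas

set_option autoImplicit false
open Cfsg

namespace Cfsg.Agent.S1644

/-- The first Janko group recognised by an involution centraliser, at the level of isomorphism: a finite simple group with abelian Sylow 2-subgroups of order 8 and an involution whose centraliser is isomorphic to Z/2 × A₅ is isomorphic to the subgroup of GL(7, 11) generated by the two explicit Janko matrices. -/
theorem result {G : Type*} [Group G] [Finite G] [IsSimpleGroup G] (S : Sylow 2 G) (hS : IsMulCommutative (S : Subgroup G)) (h8 : Nat.card S = 8) (t : G) (ht : orderOf t = 2) (e : (Subgroup.centralizer ({t} : Set G)) ≃* Multiplicative (ZMod 2) × alternatingGroup (Fin 5)) : Cfsg.Spor.IsoJ1 G := by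
  have : Fact (Nat.Prime 2) := ⟨Nat.prime_two⟩
  refine Cfsg.Agent.JankoUnique.isoJ1 ⟨ht, ?_⟩ e
  obtain ⟨Q, hQ⟩ := (IsPGroup.of_card (n := 1) (G := Subgroup.zpowers t)
    (by rw [Nat.card_zpowers, ht, pow_one])).exists_le_sylow
  obtain ⟨g, hg⟩ := MulAction.exists_smul_eq G S Q
  have htQ : t ∈ Q := hQ (Subgroup.mem_zpowers t)
  refine ⟨Q, htQ, fun x hx => ?_⟩
  have hmem : ∀ y ∈ Q, g⁻¹ * y * g ∈ (S : Subgroup G) := fun y hy => by
    have h := congrArg (fun R : Sylow 2 G => (R : Subgroup G)) hg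
    simp only [Sylow.coe_subgroup_smul] at h
    have h2 : y ∈ (Q : Subgroup G) := hy
    rw [← h, Subgroup.mem_pointwise_smul_iff_inv_smul_mem, ← map_inv, MulAut.smul_def, MulAut.conj_apply,
      inv_inv] at h2
    exact h2
  have hc : g⁻¹ * x * g * (g⁻¹ * t * g) = g⁻¹ * t * g * (g⁻¹ * x * g) :=
    congrArg Subtype.val (hS.1.comm ⟨_, hmem x hx⟩ ⟨_, hmem t htQ⟩)
  calc x * t = g * (g⁻¹ * x * g * (g⁻¹ * t * g)) * g⁻¹ := by group
    _ = t * x := by rw [hc]; group

end Cfsg.Agent.S1644
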