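import Cfsg.Statements.S2401
import Cfsg.Agent.Lib.ChevSt.TypeAData
import Cfsg.Agent.Lib.Linear.SLn

set_option autoImplicit false
open Cfsg

namespace Cfsg.Agent.S2401

/-- The Steinberg presentation of `SL_n` over a finite field for `n ≥ 3`: the group generated by symbols `x_ij(t)` (`i ≠ j`, `t` in the field) subject to `x_ij(t) x_ij(u) = x_ij(t + u)` and, for `i ≠ l`, `x_ij(t) x_kl(u) x_ij(t)⁻¹ x_kl(u)⁻¹ = x_il(tu)` if `j = k` and `= 1` if `j ≠ k`, is isomorphic to `SL_n` by an isomorphism sending `x_ij(t)` to the elementary matrix `1 + t E_ij`. -/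
theorem result {K : Type*} [Field K] [Finite K] (n : ℕ) (hn : 3 ≤ n) :
    ∃ e : PresentedGroup
        ({g : FreeGroup ({ij : Fin n × Fin n // ij.1 ≠ ij.2} × K) | ∃ (a : {ij : Fin n × Fin n // ij.1 ≠ ij.2}) (t u : K),
            g = FreeGroup.of (a, t) * FreeGroup.of (a, u) * (FreeGroup.of (a, t + u))⁻¹} ∪
          {g | ∃ (a b : {ij : Fin n × Fin n // ij.1 ≠ ij.2}) (t u : K), a.1.1 ≠ b.1.2 ∧ a.1.2 ≠ b.1.1 ∧
            g = FreeGroup.of (a, t) * FreeGroup.of (b, u) * (FreeGroup.of (a, t))⁻¹ * (FreeGroup.of (b, u))⁻¹} ∪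
          {g | ∃ (a b : {ij : Fin n × Fin n // ij.1 ≠ ij.2}) (h : a.1.1 ≠ b.1.2) (t u : K), a.1.2 = b.1.1 ∧
            g = FreeGroup.of (a, t) * FreeGroup.of (b, u) * (FreeGroup.of (a, t))⁻¹ * (FreeGroup.of (b, u))⁻¹ *
              (FreeGroup.of (⟨(a.1.1, b.1.2), h⟩, t * u))⁻¹}) ≃* Matrix.SpecialLinearGroup (Fin n) K,
      ∀ (a : {ij : Fin n × Fin n // ij.1 ≠ ij.2}) (t : K), ((e (PresentedGroup.of (a, t)) : Matrix (Fin n) (Fin n) K)) = Matrix.transvection a.1.1 a.1.2 t := by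
  classical
  obtain ⟨m, rfl⟩ : ∃ m, n = m + 1 := ⟨n - 1, by omega⟩
  let rels : Set (FreeGroup ({ij : Fin (m + 1) × Fin (m + 1) // ij.1 ≠ ij.2} × K)) :=
        ({g : FreeGroup ({ij : Fin (m + 1) × Fin (m + 1) // ij.1 ≠ ij.2} × K) | ∃ (a : {ij : Fin (m + 1) × Fin (m + 1) // ij.1 ≠ ij.2}) (t u : K),
            g = FreeGroup.of (a, t) * FreeGroup.of (a, u) * (FreeGroup.of (a, t + u))⁻¹} ∪
          {g | ∃ (a b : {ij : Fin (m + 1) × Fin (m + 1) // ij.1 ≠ ij.2}) (t u : K), a.1.1 ≠ b.1.2 ∧ a.1.2 ≠ b.1.1 ∧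
            g = FreeGroup.of (a, t) * FreeGroup.of (b, u) * (FreeGroup.of (a, t))⁻¹ * (FreeGroup.of (b, u))⁻¹} ∪
          {g | ∃ (a b : {ij : Fin (m + 1) × Fin (m + 1) // ij.1 ≠ ij.2}) (h : a.1.1 ≠ b.1.2) (t u : K), a.1.2 = b.1.1 ∧
            g = FreeGroup.of (a, t) * FreeGroup.of (b, u) * (FreeGroup.of (a, t))⁻¹ * (FreeGroup.of (b, u))⁻¹ *
              (FreeGroup.of (⟨(a.1.1, b.1.2), h⟩, t * u))⁻¹})
  let f : {ij : Fin (m + 1) × Fin (m + 1) // ij.1 ≠ ij.2} × K → Matrix.SpecialLinearGroup (Fin (m + 1)) K :=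
    fun p => Matrix.SpecialLinearGroup.transvection p.1.2 p.2
  have hf : ∀ g ∈ rels, FreeGroup.lift f g = 1 := by
    rintro g ((⟨a, t, u, rfl⟩ | ⟨a, b, t, u, h1, h2, rfl⟩) | ⟨a, b, h, t, u, h1, rfl⟩)
    · simp only [map_mul, map_inv, FreeGroup.lift_apply_of, f, mul_inv_eq_one]
      exact Subtype.ext (Matrix.transvection_mul_transvection_same _ _ a.2 t u)
    · simp only [map_mul, map_inv, FreeGroup.lift_apply_of, f]
      rw [mul_inv_eq_one]
      exact ((SLRGD.x_comm_cases K m a.2 b.2 t u).2.2 h2 h1)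
    · obtain ⟨⟨i, j⟩, hij⟩ := a
      obtain ⟨⟨j', l⟩, hjl⟩ := b
      change j = j' at h1
      subst h1
      simp only [map_mul, map_inv, FreeGroup.lift_apply_of, f]
      rw [mul_inv_eq_one, mul_inv_eq_iff_eq_mul]
      exact (SLRGD.x_comm_cases K m hij hjl t u).1 rfl h
  have hone : ∀ g ∈ rels, PresentedGroup.mk rels g = 1 := fun g hg => PresentedGroup.one_of_mem hg
  let X : Fin (m + 1) → Fin (m + 1) → K → PresentedGroup rels := fun i j t =>
    if h : i ≠ j then PresentedGroup.of (⟨(i, j), h⟩, t) else 1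
  have hX : ∀ (i j : Fin (m + 1)) (h : i ≠ j) (t : K), X i j t = PresentedGroup.of (⟨(i, j), h⟩, t) :=
    fun i j h t => dif_pos h
  let S : ChevSt.ASys (Fin (m + 1)) K (PresentedGroup rels) :=
    { x := X
      th := PresentedGroup.toGroup hf
      th_x := fun i j t h => by rw [hX i j h, PresentedGroup.toGroup.of]; rfl
      add := fun i j t u h => by
        have e := hone _ (Or.inl (Or.inl ⟨⟨(i, j), h⟩, t, u, rfl⟩))
        simp only [map_mul, map_inv, mul_inv_eq_one] at e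
        rw [hX i j h, hX i j h, hX i j h]
        exact e.symm
      comm := fun i j k l t u h h' h1 h2 => by
        have e := hone _ (Or.inl (Or.inr ⟨⟨(i, j), h⟩, ⟨(k, l), h'⟩, t, u, h1, h2, rfl⟩))
        simp only [map_mul, map_inv, mul_inv_eq_one, mul_inv_eq_iff_eq_mul] at e
        rw [hX i j h, hX k l h']
        exact e
      mid := fun i j k t u h h' h'' => by
        have e := hone _ (Or.inr ⟨⟨(i, j), h⟩, ⟨(j, k), h'⟩, h'', t, u, rfl, rfl⟩)
        simp only [map_mul, map_inv, mul_inv_eq_one, mul_inv_eq_iff_eq_mul] at e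
        rw [hX i j h, hX j k h', hX i k h'']
        exact e }
  have hgen : Subgroup.closure {g | ∃ (i j : Fin (m + 1)) (t : K), i ≠ j ∧ g = S.x i j t} = ⊤ := by
    rw [eq_top_iff, ← PresentedGroup.closure_range_of rels]
    refine Subgroup.closure_mono ?_
    rintro _ ⟨⟨⟨⟨i, j⟩, h⟩, t⟩, rfl⟩
    exact ⟨i, j, t, h, (hX i j h t).symm⟩
  have hsurj : Function.Surjective S.th := by
    rw [← MonoidHom.range_eq_top, eq_top_iff, ← Linear.closure_slTvSet, Subgroup.closure_le]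
    rintro _ ⟨i, j, hij, c, rfl⟩
    exact ⟨S.x i j c, S.th_eq hij c⟩
  refine ⟨MulEquiv.ofBijective S.th ⟨S.th_injective (by omega) hgen, hsurj⟩, fun a t => ?_⟩
  show ((PresentedGroup.toGroup hf (PresentedGroup.of (a, t)) : Matrix.SpecialLinearGroup (Fin (m + 1)) K) :
    Matrix (Fin (m + 1)) (Fin (m + 1)) K) = _
  rw [PresentedGroup.toGroup.of]
  rfl

end Cfsg.Agent.S2401
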