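import Cfsg.Statements.S2117
import Cfsg.Agent.Lib.SLTwoMult.Basic
import Cfsg.Agent.Lib.GLOrder.Torus

set_option autoImplicit false
open Cfsg

namespace Cfsg.Agent.S2117

open Matrix Cfsg.Agent.SLTwoMult
open scoped MatrixGroups commutatorElement

/-- A good pair of squares `1`, `w` for a finite field of order at least `5`, not `9`. -/
theorem exists_good_square {F : Type*} [Field F] [Fintype F] (h5 : 5 ≤ Fintype.card F)
    (hodd : (2 : F) ≠ 0 → 14 ≤ Fintype.card F) :
    ∃ w : F, w ≠ 0 ∧ 1 + w ≠ 0 ∧ w ^ 2 + w + 1 ≠ 0 ∧ (∃ a : F, a ^ 2 = w) ∧ ∃ b : F, b ^ 2 = 1 + w := by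
  classical
  have nonroot : ∀ P : Polynomial F, P ≠ 0 → P.natDegree < Fintype.card F → ∃ x : F, P.eval x ≠ 0 := by
    intro P hP hdeg
    by_contra hno
    push Not at hno
    exact hP (Polynomial.eq_zero_of_natDegree_lt_card_of_eval_eq_zero P (ι := F) Function.injective_id hno hdeg)
  open Polynomial in
  by_cases h2 : (2 : F) = 0
  · haveI : CharP F 2 := CharTwo.of_one_ne_zero_of_two_eq_zero one_ne_zero h2
    have hsq : ∀ x : F, ∃ a : F, a ^ 2 = x := fun x => by
      obtain ⟨s, hs⟩ := (Finite.injective_iff_surjective.mp (frobenius_inj F 2)) x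
      exact ⟨s, by rw [← hs, frobenius_def]⟩
    set P : F[X] := X * ((X + 1) * (X ^ 2 + X + 1)) with hP
    have hdeg : P.natDegree ≤ 4 := by rw [hP]; compute_degree
    have hne : P ≠ 0 := by
      intro h
      have := congrArg (fun Q : F[X] => Q.coeff 1) h
      simp [hP, coeff_X_mul, coeff_zero_eq_eval_zero] at this
    obtain ⟨w, hw⟩ := nonroot P hne (by omega)
    simp [hP] at hw
    exact ⟨w, hw.1, by rw [add_comm]; exact hw.2.1, hw.2.2, hsq w, hsq _⟩
  · set P : F[X] := X * ((X ^ 4 - 1) * ((X ^ 2 - 1) ^ 4 + 4 * X ^ 2 * (X ^ 2 - 1) ^ 2 + 16 * X ^ 4)) with hP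
    have hdeg : P.natDegree ≤ 13 := by rw [hP]; compute_degree
    have hne : P ≠ 0 := by
      intro h
      have := congrArg (fun Q : F[X] => Q.coeff 1) h
      simp [hP, coeff_X_mul, coeff_zero_eq_eval_zero] at this
    obtain ⟨x, hx⟩ := nonroot P hne (by have := hodd h2; omega)
    simp [hP] at hx
    obtain ⟨hx0, hx4, hx8⟩ := hx
    have h24 : x ^ 4 - 1 = (x ^ 2 - 1) * (x ^ 2 + 1) := by ring
    rw [h24, mul_eq_zero, not_or] at hx4
    refine ⟨((x ^ 2 - 1) / (2 * x)) ^ 2, ?_, ?_, ?_, ⟨_, rfl⟩, ⟨(x ^ 2 + 1) / (2 * x), ?_⟩⟩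
    · exact pow_ne_zero _ (div_ne_zero hx4.1 (mul_ne_zero h2 hx0))
    · rw [show 1 + ((x ^ 2 - 1) / (2 * x)) ^ 2 = ((x ^ 2 + 1) / (2 * x)) ^ 2 by field_simp; ring]
      exact pow_ne_zero _ (div_ne_zero hx4.2 (mul_ne_zero h2 hx0))
    · rw [show (((x ^ 2 - 1) / (2 * x)) ^ 2) ^ 2 + ((x ^ 2 - 1) / (2 * x)) ^ 2 + 1 =
        ((x ^ 2 - 1) ^ 4 + 4 * x ^ 2 * (x ^ 2 - 1) ^ 2 + 16 * x ^ 4) / (2 * x) ^ 4 by field_simp; ring]
      exact div_ne_zero hx8 (pow_ne_zero _ (mul_ne_zero h2 hx0))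
    · field_simp; ring

/-- The upper unitriangular element. -/
def upper {F : Type*} [Field F] (a : F) : SL(2, F) := ⟨!![1, a; 0, 1], by simp [Matrix.det_fin_two]⟩

theorem upper_mul {F : Type*} [Field F] (a b : F) : upper a * upper b = upper (a + b) := by
  refine Subtype.ext ?_
  show !![(1 : F), a; 0, 1] * !![1, b; 0, 1] = !![1, a + b; 0, 1]
  rw [Matrix.mul_fin_two]; simp [add_comm]

theorem upper_conj {F : Type*} [Field F] (u : Fˣ) (a : F) :
    GLOrder.diagS F u * upper a * (GLOrder.diagS F u)⁻¹ = upper ((u : F) ^ 2 * a) := by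
  rw [mul_inv_eq_iff_eq_mul]
  refine Subtype.ext ?_
  show !![(u : F), 0; 0, ((u⁻¹ : Fˣ) : F)] * !![1, a; 0, 1] =
    !![(1 : F), (u : F) ^ 2 * a; 0, 1] * !![(u : F), 0; 0, ((u⁻¹ : Fˣ) : F)]
  rw [Matrix.mul_fin_two, Matrix.mul_fin_two]
  simp; field_simp

theorem eq_upper {F : Type*} [Field F] {g : SL(2, F)} (hg : g ∈ GLOrder.upperS F) : g = upper (g 0 1) := by
  obtain ⟨h0, h1, h2⟩ := GLOrder.mem_upperS.mp hg
  ext i j
  fin_cases i <;> fin_cases j <;> simp [upper, h0, h1, h2]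

/-- Lifts of upper unitriangular elements in a central extension commute (`q ≠ 4, 9`). -/
theorem commute_upper {F : Type*} [Field F] [Fintype F] (h4 : Fintype.card F ≠ 4) (h9 : Fintype.card F ≠ 9)
    {Γ : Type*} [Group Γ] (σ : Γ →* SL(2, F)) (hσ : Function.Surjective σ) (hK : σ.ker ≤ Subgroup.center Γ)
    {x y : Γ} (hx : σ x ∈ GLOrder.upperS F) (hy : σ y ∈ GLOrder.upperS F) : x * y = y * x := by
  classical
  have hcen : ∀ k : Γ, σ k = 1 → ∀ g, g * k = k * g := fun k hk g => Subgroup.mem_center_iff.mp (hK hk) g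
  choose L hL using fun a : F => hσ (upper a)
  let B : F → F → Γ := fun a b => ⁅L a, L b⁆
  have hcomm : ∀ a b, upper a * upper b = upper b * upper (a : F) := fun a b => by
    rw [upper_mul, upper_mul, add_comm]
  have hwd : ∀ {x y : Γ} {a b : F}, σ x = upper a → σ y = upper b → ⁅x, y⁆ = B a b := by
    intro x y a b hxa hyb
    have hk : σ ((L a)⁻¹ * x) = 1 := by rw [map_mul, map_inv, hL, hxa, inv_mul_cancel]
    have hl : σ ((L b)⁻¹ * y) = 1 := by rw [map_mul, map_inv, hL, hyb, inv_mul_cancel]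
    obtain ⟨k, hk1, rfl⟩ : ∃ k, σ k = 1 ∧ x = L a * k := ⟨_, hk, by group⟩
    obtain ⟨l, hl1, rfl⟩ : ∃ l, σ l = 1 ∧ y = L b * l := ⟨_, hl, by group⟩
    have ck := hcen k hk1
    have cl := hcen l hl1
    show ⁅L a * k, L b * l⁆ = ⁅L a, L b⁆
    simp only [commutatorElement_def, _root_.mul_inv_rev]
    calc L a * k * (L b * l) * (k⁻¹ * (L a)⁻¹) * (l⁻¹ * (L b)⁻¹)
        = L a * (k * (L b * l)) * (k⁻¹ * (L a)⁻¹) * (l⁻¹ * (L b)⁻¹) := by group
      _ = L a * ((L b * l) * k) * (k⁻¹ * (L a)⁻¹) * (l⁻¹ * (L b)⁻¹) := by rw [ck (L b * l)]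
      _ = L a * L b * (l * (L a)⁻¹) * (l⁻¹ * (L b)⁻¹) := by group
      _ = L a * L b * ((L a)⁻¹ * l) * (l⁻¹ * (L b)⁻¹) := by rw [cl (L a)⁻¹]
      _ = _ := by group
  have hBc : ∀ a b g, g * B a b = B a b * g := by
    intro a b g
    refine hcen _ ?_ g
    rw [map_commutatorElement, hL, hL, commutatorElement_eq_one_iff_mul_comm]
    exact hcomm a b
  have hBr : ∀ a b b', B a (b + b') = B a b * B a b' := by
    intro a b b'
    rw [← hwd (hL a) (show σ (L b * L b') = upper (b + b') by rw [map_mul, hL, hL, upper_mul])]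
    have h : ⁅L a, L b * L b'⁆ = ⁅L a, L b⁆ * (L b * ⁅L a, L b'⁆ * (L b)⁻¹) := by
      simp only [commutatorElement_def]; group
    rw [h, show ⁅L a, L b'⁆ = B a b' from rfl, hBc a b' (L b), mul_inv_cancel_right]
  have hBl : ∀ a a' b, B (a + a') b = B a b * B a' b := by
    intro a a' b
    rw [← hwd (show σ (L a * L a') = upper (a + a') by rw [map_mul, hL, hL, upper_mul]) (hL b)]
    have h : ⁅L a * L a', L b⁆ = (L a * ⁅L a', L b⁆ * (L a)⁻¹) * ⁅L a, L b⁆ := by
      simp only [commutatorElement_def]; group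
    rw [h, show ⁅L a', L b⁆ = B a' b from rfl, hBc a' b (L a), mul_inv_cancel_right, ← hBc a' b]
  have hBinv : ∀ (u : Fˣ) a b, B ((u : F) ^ 2 * a) ((u : F) ^ 2 * b) = B a b := by
    intro u a b
    obtain ⟨h, hh⟩ := hσ (GLOrder.diagS F u)
    have ha : σ (h * L a * h⁻¹) = upper ((u : F) ^ 2 * a) := by
      rw [map_mul, map_mul, map_inv, hL, hh, upper_conj]
    have hb : σ (h * L b * h⁻¹) = upper ((u : F) ^ 2 * b) := by
      rw [map_mul, map_mul, map_inv, hL, hh, upper_conj]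
    rw [← hwd ha hb, ← conjugate_commutatorElement, show ⁅L a, L b⁆ = B a b from rfl, hBc a b h, mul_inv_cancel_right]
  have hB0 : ∀ a, B a 0 = 1 := fun a => left_eq_mul.mp (show B a 0 = B a 0 * B a 0 by
    rw [← hBr a 0 0, add_zero])
  have hB1 : ∀ a b, B a b = 1 := by
    obtain ⟨p, hp⟩ := CharP.exists F
    haveI : Fact p.Prime := ⟨CharP.char_prime_of_ne_zero F (CharP.char_ne_zero_of_finite F p)⟩
    obtain ⟨f, hpp, hf⟩ := FiniteField.card F p
    by_cases hf1 : (f : ℕ) = 1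
    · intro a b
      rw [hf1, pow_one] at hf
      by_cases ha : a = 0
      · have h := hBl 0 0 b
        rw [add_zero] at h
        rw [ha]; exact left_eq_mul.mp h
      obtain ⟨m, hm⟩ := (ZMod.castHom_bijective F hf).2 (b / a)
      rw [ZMod.castHom_apply, ← ZMod.natCast_zmod_val m, ZMod.cast_natCast (dvd_refl p),
        eq_div_iff ha] at hm
      rw [← hm]
      induction m.val with
      | zero => rw [Nat.cast_zero, zero_mul]; exact hB0 a
      | succ k ih =>
        rw [Nat.cast_succ, add_mul, one_mul, hBr, ih, one_mul]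
        exact commutatorElement_self _
    · have hq5 : 5 ≤ Fintype.card F ∧ ((2 : F) ≠ 0 → 14 ≤ Fintype.card F) := by
        have hf2 : 2 ≤ (f : ℕ) := by have := f.pos; omega
        have hsq : p ^ 2 ≤ Fintype.card F := by rw [hf]; exact Nat.pow_le_pow_right hpp.pos hf2
        rcases lt_or_ge p 5 with hlt | hge
        · have := hpp.two_le
          interval_cases p
          · refine ⟨?_, fun h => absurd (by exact_mod_cast CharP.cast_eq_zero F 2) h⟩
            omega
          · have : (f : ℕ) ≠ 2 := fun h => h9 (by rw [hf, h]; norm_num)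
            have : 3 ^ 3 ≤ Fintype.card F := by rw [hf]; exact Nat.pow_le_pow_right (by norm_num) (by omega)
            exact ⟨by omega, fun _ => by omega⟩
          · exact absurd hpp (by norm_num)
        · have : 25 ≤ p ^ 2 := by nlinarith
          exact ⟨by omega, fun _ => by omega⟩
      obtain ⟨w, hw0, hw1, hw3, ⟨c, hc⟩, ⟨e, he⟩⟩ := exists_good_square hq5.1 hq5.2
      have hadj : ∀ s : F, s ≠ 0 → (∃ c, c ^ 2 = s) → ∀ a b, B (s * a) b = B a (s⁻¹ * b) := by
        rintro s hs ⟨c, rfl⟩ a b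
        have hc0 : c ≠ 0 := fun h => hs (by rw [h]; ring)
        have := hBinv (Units.mk0 c hc0) a ((c ^ 2)⁻¹ * b)
        rwa [Units.val_mk0, ← mul_assoc, mul_inv_cancel₀ hs, one_mul] at this
      intro a b
      have hgam : (1 + w⁻¹) - (1 + w)⁻¹ ≠ 0 := by
        rw [show (1 + w⁻¹) - (1 + w)⁻¹ = (w ^ 2 + w + 1) / (w * (1 + w)) by field_simp; ring]
        exact div_ne_zero hw3 (mul_ne_zero hw0 hw1)
      set γ : F := (1 + w⁻¹) - (1 + w)⁻¹ with hγ
      set x := γ⁻¹ * b with hx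
      have h1 : B a ((1 + w)⁻¹ * x) = B a ((1 + w⁻¹) * x) := by
        rw [← hadj (1 + w) hw1 ⟨e, he⟩, add_mul, one_mul, hBl, hadj w hw0 ⟨c, hc⟩, ← hBr]
        congr 1
        ring
      have h2 : (1 + w⁻¹) * x = (1 + w)⁻¹ * x + b := by
        have : γ * x = b := by rw [hx, ← mul_assoc, mul_inv_cancel₀ hgam, one_mul]
        linear_combination this
      rw [h2, hBr] at h1
      exact left_eq_mul.mp h1
  have := hwd (eq_upper hx) (eq_upper hy)
  rw [hB1] at this
  exact commutatorElement_eq_one_iff_mul_comm.mp this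

/-- For a finite field with q elements, q ≠ 4 and q ≠ 9, the special linear group SL₂ has trivial Schur multiplier (here the Schur multiplier is described through stem extensions, as in the definitions). -/
theorem result {F : Type*} [Field F] [Fintype F] (h4 : Fintype.card F ≠ 4) (h9 : Fintype.card F ≠ 9) : Cfsg.HasCyclicSchurMultiplier (Matrix.SpecialLinearGroup (Fin 2) F) 1 := by
  classical
  refine hasCyclicSchurMultiplier_one fun Γ _ _ σ hσ r hr z hz hzr => ?_
  obtain ⟨hsurj, hK, hKc⟩ := hσ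
  haveI := Fact.mk hr
  obtain ⟨p, hp⟩ := CharP.exists F
  haveI : Fact p.Prime := ⟨CharP.char_prime_of_ne_zero F (CharP.char_ne_zero_of_finite F p)⟩
  have hpz : IsPGroup r (Subgroup.zpowers z) := by
    by_cases hz1 : z = 1
    · rw [hz1, Subgroup.zpowers_one_eq_bot]; exact IsPGroup.of_bot
    · refine IsPGroup.of_card (n := 1) ?_
      rw [Nat.card_zpowers, pow_one, orderOf_eq_prime hzr hz1]
  obtain ⟨P, hP⟩ := hpz.exists_le_sylow
  let z' : (P : Subgroup Γ) := ⟨z, hP (Subgroup.mem_zpowers z)⟩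
  suffices z' = 1 from congrArg Subtype.val this
  have hzc : z' ∈ commutator (P : Subgroup Γ) := mem_commutator_sylow P z' (hK hz) (hKc hz) (Subtype.ext hzr)
  let R : Sylow r SL(2, F) := P.mapSurjective hsurj
  let f : (P : Subgroup Γ) →* (R : Subgroup SL(2, F)) := σ.subgroupMap (P : Subgroup Γ)
  have hfsurj : Function.Surjective f := σ.subgroupMap_surjective _
  have hfker : f.ker ≤ Subgroup.center (P : Subgroup Γ) := by
    intro x hx
    refine Subgroup.mem_center_iff.mpr fun g => Subtype.ext ?_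
    exact Subgroup.mem_center_iff.mp (hK (congrArg Subtype.val hx)) g
  have hzf : z' ∈ f.ker := Subtype.ext hz
  by_cases hrp : r = p
  · subst hrp
    obtain ⟨g, hg⟩ := GLOrder.exists_conj_upperS r R
    obtain ⟨γ, hγ⟩ := hsurj g
    refine eq_one_of_commute (fun x y => Subtype.ext ?_) hzc
    have hmem : ∀ x : (P : Subgroup Γ), σ (γ⁻¹ * x * γ) ∈ GLOrder.upperS F := by
      intro x
      obtain ⟨u, hu, hxu⟩ : σ x ∈ (GLOrder.upperS F).map (MulAut.conj g).toMonoidHom := by
        rw [← hg]; exact (f x).2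
      rw [map_mul, map_mul, map_inv, hγ, ← hxu]
      simpa [mul_assoc] using hu
    have h := commute_upper h4 h9 σ hsurj hK (hmem x) (hmem y)
    calc ((x : Γ) * y : Γ) = γ * ((γ⁻¹ * x * γ) * (γ⁻¹ * y * γ)) * γ⁻¹ := by group
      _ = _ := by rw [h, Subgroup.coe_mul]; group
  · by_cases hr2 : r = 2
    · subst hr2
      have hodd : Odd (Nat.card F) := by
        obtain ⟨f, hpp, hf⟩ := FiniteField.card F p
        rw [Nat.card_eq_fintype_card, hf]
        exact (hpp.odd_of_ne_two (Ne.symm hrp)).pow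
      obtain ⟨k, -, ⟨e⟩⟩ := GLOrder.sylow_two_SL_two hodd R
      haveI : NeZero (2 ^ k) := ⟨pow_ne_zero _ two_ne_zero⟩
      refine eq_one_of_quaternion (e.toMonoidHom.comp f) (e.surjective.comp hfsurj) ?_ hzc ?_
      · intro x hx
        exact hfker (e.injective ((hx : e (f x) = 1).trans e.map_one.symm))
      · show e (f z') = 1
        rw [show f z' = 1 from hzf, map_one]
    · haveI : IsCyclic (R : Subgroup SL(2, F)) := GLOrder.isCyclic_sylow_SL_two p r hr2 hrp R
      refine eq_one_of_commute (fun x y => ?_) hzc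
      exact commutative_of_cyclic_center_quotient f hfker x y

end Cfsg.Agent.S2117
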