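import Cfsg.Statements.S2086
import Cfsg.Agent.EqLemmas
import Cfsg.Agent.Lib.SLMult.Psl

set_option autoImplicit false
open Cfsg

namespace Cfsg.Agent.S2086

/-- Schur multipliers of the linear groups: for n ≥ 2 and a field F with q elements (q ≥ 4 when n = 2), apart from the five exceptional pairs (n, q) = (2, 4), (2, 9), (3, 2), (3, 4), (4, 2), the Schur multiplier of PSL_n(F) is cyclic of order gcd(n, q − 1); here the Schur multiplier is described through stem extensions, as in the definitions. -/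
theorem result {F : Type*} [Field F] [Fintype F] {q : ℕ} (hF : Fintype.card F = q) (n : ℕ) (hn : 2 ≤ n) (h2 : n = 2 → 4 ≤ q) (hexc : (n, q) ∉ ({(2, 4), (2, 9), (3, 2), (3, 4), (4, 2)} : Set (ℕ × ℕ))) : Cfsg.HasCyclicSchurMultiplier (Matrix.ProjectiveSpecialLinearGroup (Fin n) F) (Nat.gcd n (q - 1)) := by
  subst hF
  refine Cfsg.Agent.SLMult.psl_multiplier n hn ?_ ?_
  · intro h
    refine ⟨h2 h, fun h4 => hexc ?_, fun h9 => hexc ?_⟩
    · simp [h, h4]
    · simp [h, h9]
  · intro h
    refine ⟨by simpa using h, fun h3 => ⟨fun e => hexc ?_, fun e => hexc ?_⟩, fun h4 e => hexc ?_⟩ <;>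
      simp_all

end Cfsg.Agent.S2086
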