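import Cfsg.Statements.S4270
import Cfsg.Agent.EqLemmas

set_option autoImplicit false
open Cfsg

namespace Cfsg.Agent.S4270

/-- `g K g⁻¹` -/
abbrev cj {G : Type*} [Group G] (g : G) (K : Subgroup G) : Subgroup G := K.map (MulAut.conj g).toMonoidHom

section
variable {G : Type*} [Group G]

lemma mem_cj {g y : G} {K : Subgroup G} : y ∈ cj g K ↔ g⁻¹ * y * g ∈ K := by
  constructor
  · rintro ⟨z, hz, rfl⟩
    simpa [mul_assoc] using hz
  · intro h
    exact ⟨_, h, by simp [mul_assoc]⟩

lemma cj_cj (a b : G) (K : Subgroup G) : cj a (cj b K) = cj (a * b) K := by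
  ext y; simp only [mem_cj, mul_inv_rev, mul_assoc]

lemma cj_one (K : Subgroup G) : cj 1 K = K := by
  ext y; simp [mem_cj]

lemma cj_mono (g : G) {A B : Subgroup G} (h : A ≤ B) : cj g A ≤ cj g B := Subgroup.map_mono h

lemma cj_self_iff {g : G} {K : Subgroup G} : cj g K = K ↔ g ∈ Subgroup.normalizer (K : Set G) := by
  constructor
  · intro h
    rw [Subgroup.mem_normalizer_iff]
    intro y
    conv_rhs => rw [← h, mem_cj]
    simp [mul_assoc]
  · intro h
    ext y
    rw [mem_cj]
    have := Subgroup.mem_normalizer_iff.mp h (g⁻¹ * y * g)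
    simpa [mul_assoc] using this

lemma cj_mem {g : G} {K : Subgroup G} (h : g ∈ K) : cj g K = K := cj_self_iff.mpr (Subgroup.le_normalizer h)

lemma cj_le_of_mem {g : G} {K J : Subgroup G} (hK : K ≤ J) (h : g ∈ J) : cj g K ≤ J :=
  (cj_mono g hK).trans (cj_mem h).le

lemma cj_normal (g : G) (A : Subgroup G) [A.Normal] : cj g A = A :=
  cj_self_iff.mpr (by rw [Subgroup.normalizer_eq_top]; trivial)

lemma map_cj {H : Type*} [Group H] (f : G →* H) (g : G) (K : Subgroup G) :
    (cj g K).map f = cj (f g) (K.map f) := by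
  rw [cj, cj, Subgroup.map_map, Subgroup.map_map]
  congr 1
  ext y
  simp

lemma pron_map {H : Type*} [Group H] {f : G →* H} (hf : Function.Surjective f) {K : Subgroup G}
    (h : Cfsg.IsPronormal K) : Cfsg.IsPronormal (K.map f) := by
  intro g
  obtain ⟨g, rfl⟩ := hf g
  obtain ⟨x, hx, he⟩ := h g
  refine ⟨f x, ?_, ?_⟩
  · have : f x ∈ (K ⊔ cj g K).map f := ⟨x, hx, rfl⟩
    rwa [Subgroup.map_sup, map_cj] at this
  · show cj (f g) (K.map f) = cj (f x) (K.map f)
    rw [← map_cj, ← map_cj]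
    exact congrArg _ he

/-- If some element `x` of the join reduces `g` to `a` and `a` can be solved, then so can `g`. -/
lemma pron_step {g x a : G} {K : Subgroup G} (hx : x ∈ K ⊔ cj g K) (ha : cj a K = cj (x⁻¹ * g) K)
    (h : ∃ y ∈ K ⊔ cj a K, cj a K = cj y K) : ∃ y ∈ K ⊔ cj g K, cj g K = cj y K := by
  obtain ⟨y, hy, he⟩ := h
  have hle : K ⊔ cj a K ≤ K ⊔ cj g K := by
    refine sup_le le_sup_left ?_
    rw [ha, ← cj_cj]
    exact cj_le_of_mem le_sup_right (Subgroup.inv_mem _ hx)
  refine ⟨x * y, Subgroup.mul_mem _ hx (hle hy), ?_⟩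
  rw [← cj_cj x y, ← he, ha, cj_cj, mul_inv_cancel_left]

lemma index_eq_relIndex_mul (H K : Subgroup G) [Finite G] [K.Normal] :
    H.index = H.relIndex K * (H ⊔ K).index := by
  have h1 : (H ⊓ K).relIndex H * H.index = (H ⊓ K).index := Subgroup.relIndex_mul_index inf_le_left
  have h2 : (H ⊓ K).relIndex K * K.index = (H ⊓ K).index := Subgroup.relIndex_mul_index inf_le_right
  have h3 : K.relIndex (H ⊔ K) * (H ⊔ K).index = K.index := Subgroup.relIndex_mul_index le_sup_right
  rw [Subgroup.inf_relIndex_left] at h1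
  rw [Subgroup.inf_relIndex_right] at h2
  rw [Subgroup.relIndex_sup_right] at h3
  have hne : K.relIndex H ≠ 0 := Subgroup.FiniteIndex.index_ne_zero
  refine mul_left_cancel₀ hne ?_
  rw [h1, ← h2, ← h3]; ring

variable [Finite G] {p : ℕ} [Fact p.Prime]

lemma exists_sylow_le_iff (K : Subgroup G) : (∃ P : Sylow p G, (P : Subgroup G) ≤ K) ↔ ¬ p ∣ K.index := by
  constructor
  · rintro ⟨P, hP⟩ h
    exact P.not_dvd_index (h.trans (Subgroup.index_dvd_of_le hP))
  · intro h
    obtain ⟨Q⟩ : Nonempty (Sylow p K) := inferInstance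
    have hidx : ¬ p ∣ ((Q : Subgroup K).map K.subtype).index := by
      rw [Subgroup.index_map_subtype]
      intro hd
      rcases (Fact.out : p.Prime).dvd_mul.mp hd with h1 | h1
      · exact Q.not_dvd_index h1
      · exact h h1
    exact ⟨(Q.isPGroup'.map K.subtype).toSylow hidx, Subgroup.map_subtype_le _⟩

/-- Two Sylow subgroups lying in a subgroup `J` are conjugate by an element of `J`. -/
lemma sylow_conj_in (P : Sylow p G) (g : G) {J : Subgroup G} (h1 : (P : Subgroup G) ≤ J)
    (h2 : cj g (P : Subgroup G) ≤ J) : ∃ x ∈ J, cj x (P : Subgroup G) = cj g (P : Subgroup G) := by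
  have h2' : ((g • P : Sylow p G) : Subgroup G) ≤ J := h2
  obtain ⟨⟨x, hx⟩, he⟩ := MulAction.exists_smul_eq J (P.subtype h1) ((g • P).subtype h2')
  rw [Sylow.smul_subtype] at he
  have := congrArg (Sylow.toSubgroup) (Sylow.subtype_injective he)
  exact ⟨x, hx, this⟩

lemma map_sylow_subgroupOf {A T : Subgroup G} (hT : ∃ P : Sylow p A, (P : Subgroup A).map A.subtype = T) :
    T ≤ A ∧ ¬ p ∣ T.relIndex A ∧ IsPGroup p T := by
  obtain ⟨P, rfl⟩ := hT
  refine ⟨Subgroup.map_subtype_le _, ?_, P.isPGroup'.map _⟩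
  show ¬ p ∣ (((P : Subgroup A).map A.subtype).subgroupOf A).index
  rw [Subgroup.subgroupOf, Subgroup.comap_map_eq_self_of_injective A.subtype_injective]
  exact P.not_dvd_index

/-- Frattini argument: conjugates of `T` inside a subgroup `B` are conjugate under `B`. -/
lemma conj_T_in {A T B : Subgroup G} (hT : ∃ P : Sylow p A, (P : Subgroup A).map A.subtype = T) [A.Normal]
    (hB : B ≤ A) (h1 : T ≤ B) (g : G) (h2 : cj g T ≤ B) : ∃ b ∈ B, cj b T = cj g T := by
  obtain ⟨hTA, hTi, hTp⟩ := map_sylow_subgroupOf hT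
  have hTg : cj g T ≤ A := h2.trans hB
  have hc : ¬ p ∣ (cj g T).relIndex A := by
    have := Subgroup.relIndex_map_map_of_injective T A (f := (MulAut.conj g).toMonoidHom)
      (MulAut.conj g).injective
    rw [show Subgroup.map (MulAut.conj g).toMonoidHom A = A from cj_normal g A] at this
    rw [cj, this]; exact hTi
  have k1 : ¬ p ∣ T.relIndex B := fun h =>
    hTi (h.trans (Dvd.intro _ (Subgroup.relIndex_mul_relIndex T B A h1 hB)))
  have k2 : ¬ p ∣ (cj g T).relIndex B := fun h =>
    hc (h.trans (Dvd.intro _ (Subgroup.relIndex_mul_relIndex (cj g T) B A h2 hB)))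
  let P1 : Sylow p B := (hTp.of_equiv (Subgroup.subgroupOfEquivOfLe h1).symm).toSylow k1
  let P2 : Sylow p B :=
    ((hTp.map (MulAut.conj g).toMonoidHom).of_equiv (Subgroup.subgroupOfEquivOfLe h2).symm).toSylow k2
  obtain ⟨b, hb⟩ := MulAction.exists_smul_eq B P1 P2
  refine ⟨b, b.2, ?_⟩
  have hb' : cj b (T.subgroupOf B) = (cj g T).subgroupOf B := congrArg Sylow.toSubgroup hb
  have := congrArg (fun S : Subgroup B => S.map B.subtype) hb'
  simp only [map_cj] at this
  rwa [Subgroup.map_subgroupOf_eq_of_le h1, Subgroup.map_subgroupOf_eq_of_le h2] at this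

variable (A : Subgroup G) [A.Normal] (T : Subgroup G) [(T.subgroupOf (Subgroup.normalizer (T : Set G))).Normal]

/-- the core case of the criterion -/
lemma pron_key (hT : ∃ P : Sylow p A, (P : Subgroup A).map A.subtype = T)
    (hN : ∀ K : Subgroup (↥(Subgroup.normalizer (T : Set G)) ⧸ T.subgroupOf (Subgroup.normalizer (T : Set G))),
      ¬ p ∣ K.index → Cfsg.IsPronormal K)
    (K : Subgroup G) (hK : ¬ p ∣ K.index) (hTK : T ≤ K) (n : G)
    (hnA : n ∈ A) (hnT : cj n T = T) (hnB : cj n (K ⊓ A) = K ⊓ A) :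
    ∃ z ∈ K ⊔ cj n K, cj n K = cj z K := by
  obtain ⟨hTA, hTi, -⟩ := map_sylow_subgroupOf hT
  set B := K ⊓ A with hB
  set N := Subgroup.normalizer (T : Set G) with hNdef
  set L := K ⊓ N with hL
  have hTB : T ≤ B := le_inf hTK hTA
  have hKB : ∀ k ∈ K, cj k B = B := fun k hk => by
    refine le_antisymm (le_inf (cj_le_of_mem inf_le_left hk) ?_) ?_
    · exact (cj_mono k inf_le_right).trans (cj_normal k A).le
    · intro y hy
      rw [mem_cj]
      exact ⟨K.mul_mem (K.mul_mem (K.inv_mem hk) hy.1) hk, Subgroup.Normal.conj_mem' inferInstance y hy.2 k⟩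
  have hsplit : K = B ⊔ L := by
    refine le_antisymm (fun k hk => ?_) (sup_le inf_le_left inf_le_left)
    obtain ⟨b, hb, he⟩ := conj_T_in hT inf_le_right hTB k ((cj_mono k hTB).trans (hKB k hk).le)
    have hbk : b⁻¹ * k ∈ L := by
      refine ⟨K.mul_mem (K.inv_mem hb.1) hk, cj_self_iff.mp ?_⟩
      rw [← cj_cj, ← he, cj_cj, inv_mul_cancel, cj_one]
    have := Subgroup.mul_mem_sup hb hbk
    rwa [mul_inv_cancel_left] at this
  have hLN : ¬ p ∣ L.relIndex N := by
    intro h
    have h1 : p ∣ L.index := h.trans (Dvd.intro _ (Subgroup.relIndex_mul_index (inf_le_right : L ≤ N)))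
    rw [← Subgroup.relIndex_mul_index (inf_le_left : L ≤ K)] at h1
    rcases (Fact.out : p.Prime).dvd_mul.mp h1 with h2 | h2
    · have : (B.subgroupOf K).Normal := by
        rw [hB, Subgroup.inf_subgroupOf_left]; infer_instance
      have e := index_eq_relIndex_mul (L.subgroupOf K) (B.subgroupOf K)
      have htop : L.subgroupOf K ⊔ B.subgroupOf K = ⊤ := by
        rw [← Subgroup.subgroupOf_sup (inf_le_left : L ≤ K) (inf_le_left : B ≤ K), sup_comm, ← hsplit,
          Subgroup.subgroupOf_self]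
      rw [htop, Subgroup.index_top, mul_one, Subgroup.relIndex_subgroupOf (inf_le_left : B ≤ K)] at e
      have h3 : p ∣ L.relIndex B := by rw [← e]; exact h2
      have h4 : L.relIndex B ∣ T.relIndex B :=
        Subgroup.relIndex_dvd_of_le_left B (le_inf hTK Subgroup.le_normalizer)
      have h5 : T.relIndex B ∣ T.relIndex A :=
        Dvd.intro _ (Subgroup.relIndex_mul_relIndex T B A hTB inf_le_right)
      exact hTi ((h3.trans h4).trans h5)
    · exact hK h2
  have hnN : n ∈ N := cj_self_iff.mp hnT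
  set T' := T.subgroupOf N with hT'
  set L' := L.subgroupOf N with hL'
  set π := QuotientGroup.mk' T' with hπ
  have hidx : ¬ p ∣ (L'.map π).index := fun h =>
    hLN (h.trans (Subgroup.index_map_dvd _ (QuotientGroup.mk'_surjective T')))
  obtain ⟨z, hz, he⟩ := hN _ hidx (π ⟨n, hnN⟩)
  change z ∈ L'.map π ⊔ cj (π ⟨n, hnN⟩) (L'.map π) at hz
  change cj (π ⟨n, hnN⟩) (L'.map π) = cj z (L'.map π) at he
  rw [← map_cj, ← Subgroup.map_sup] at hz
  obtain ⟨z, hz, rfl⟩ := hz
  rw [← map_cj, ← map_cj] at he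
  have hker : ∀ w : N, π.ker ≤ cj w L' := fun w => by
    rw [hπ, QuotientGroup.ker_mk']
    refine (cj_normal w T').ge.trans (cj_mono w ?_)
    exact fun t ht => (le_inf hTK Subgroup.le_normalizer : T ≤ L) ht
  have he' := Subgroup.map_injective_of_ker_le π (hker _) (hker _) he
  have hLmap : L'.map N.subtype = L := Subgroup.map_subgroupOf_eq_of_le inf_le_right
  have hE : cj n L = cj (z : G) L := by
    have := congrArg (fun S : Subgroup N => S.map N.subtype) he'
    simpa only [map_cj, hLmap, Subgroup.coe_subtype] using this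
  have hz' : (z : G) ∈ L ⊔ cj n L := by
    have : (z : G) ∈ (L' ⊔ cj (⟨n, hnN⟩ : N) L').map N.subtype := ⟨z, hz, rfl⟩
    rwa [Subgroup.map_sup, map_cj, hLmap] at this
  refine ⟨z, (sup_le_sup inf_le_left (cj_mono n inf_le_left) : L ⊔ cj n L ≤ K ⊔ cj n K) hz', ?_⟩
  have hzB : cj (z : G) B = B := by
    have hle : L ⊔ cj n L ≤ Subgroup.normalizer (B : Set G) := by
      refine sup_le (fun k hk => cj_self_iff.mp (hKB k hk.1)) ?_
      intro y hy
      rw [mem_cj] at hy
      apply cj_self_iff.mp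
      have h := hKB _ hy.1
      calc cj y B = cj y (cj n B) := by rw [hnB]
        _ = cj n (cj (n⁻¹ * y * n) B) := by rw [cj_cj, cj_cj]; congr 1; group
        _ = B := by rw [h, hnB]
    exact cj_self_iff.mpr (hle hz')
  calc cj n K = cj n B ⊔ cj n L := by rw [hsplit, cj, Subgroup.map_sup]
    _ = cj (z : G) B ⊔ cj (z : G) L := by rw [hnB, hzB, hE]
    _ = cj (z : G) K := by rw [hsplit, cj, cj, cj, Subgroup.map_sup]

lemma pron_backward (hT : ∃ P : Sylow p A, (P : Subgroup A).map A.subtype = T)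
    (hA : ∀ K : Subgroup A, ¬ p ∣ K.index → Cfsg.IsPronormal K)
    (hQ : ∀ K : Subgroup (G ⧸ A), ¬ p ∣ K.index → Cfsg.IsPronormal K)
    (hN : ∀ K : Subgroup (↥(Subgroup.normalizer (T : Set G)) ⧸ T.subgroupOf (Subgroup.normalizer (T : Set G))),
      ¬ p ∣ K.index → Cfsg.IsPronormal K)
    (hnorm : ∀ K : Subgroup G, ¬ p ∣ K.index → (Subgroup.normalizer (K : Set G)).map (QuotientGroup.mk' A) =
        Subgroup.normalizer ((K.map (QuotientGroup.mk' A) : Subgroup (G ⧸ A)) : Set (G ⧸ A)))
    (K : Subgroup G) (hK : ¬ p ∣ K.index) : Cfsg.IsPronormal K := by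
  have key : ∀ K : Subgroup G, ¬ p ∣ K.index → T ≤ K → ∀ g, ∃ x ∈ K ⊔ cj g K, cj g K = cj x K := by
    intro K hK hTK g
    obtain ⟨hTA, -, -⟩ := map_sylow_subgroupOf hT
    have hidx : ¬ p ∣ (K.map (QuotientGroup.mk' A)).index := fun h =>
      hK (h.trans (Subgroup.index_map_dvd _ (QuotientGroup.mk'_surjective A)))
    obtain ⟨x, hx, he⟩ := hQ _ hidx (QuotientGroup.mk' A g)
    change x ∈ K.map _ ⊔ cj (QuotientGroup.mk' A g) (K.map _) at hx
    change cj (QuotientGroup.mk' A g) (K.map _) = cj x (K.map _) at he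
    rw [← map_cj, ← Subgroup.map_sup] at hx
    obtain ⟨x, hx, rfl⟩ := hx
    have hn' : QuotientGroup.mk' A (x⁻¹ * g) ∈
        Subgroup.normalizer ((K.map (QuotientGroup.mk' A) : Subgroup (G ⧸ A)) : Set (G ⧸ A)) := by
      apply cj_self_iff.mp
      rw [map_mul, map_inv, ← cj_cj, he, cj_cj, inv_mul_cancel, cj_one]
    rw [← hnorm K hK] at hn'
    obtain ⟨n, hn, hne⟩ := hn'
    have hn0 : cj n K = K := cj_self_iff.mpr hn
    refine pron_step hx (a := x⁻¹ * g * n⁻¹) ?_ ?_
    · rw [← cj_cj (x⁻¹ * g) n⁻¹ K, show cj n⁻¹ K = K from cj_self_iff.mpr (Subgroup.inv_mem _ hn)]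
    have haA : x⁻¹ * g * n⁻¹ ∈ A := by
      rw [← QuotientGroup.eq_one_iff]
      show QuotientGroup.mk' A (x⁻¹ * g * n⁻¹) = 1
      rw [map_mul, map_inv, hne, mul_inv_cancel]
    generalize x⁻¹ * g * n⁻¹ = a at haA ⊢
    set B := K ⊓ A with hB
    have hBi : ¬ p ∣ (B.subgroupOf A).index := by
      show ¬ p ∣ B.relIndex A
      rw [hB, Subgroup.inf_relIndex_right]
      exact fun h => hK (h.trans (Dvd.intro _ (index_eq_relIndex_mul K A).symm))
    obtain ⟨y, hy, he2⟩ := hA _ hBi ⟨a, haA⟩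
    have hBmap : (B.subgroupOf A).map A.subtype = B := Subgroup.map_subgroupOf_eq_of_le inf_le_right
    have hy' : (y : G) ∈ B ⊔ cj a B := by
      have : (y : G) ∈ (B.subgroupOf A ⊔ cj (⟨a, haA⟩ : A) (B.subgroupOf A)).map A.subtype := ⟨y, hy, rfl⟩
      rwa [Subgroup.map_sup, map_cj, hBmap] at this
    have hE : cj a B = cj (y : G) B := by
      have := congrArg (fun S : Subgroup A => S.map A.subtype) he2
      change (cj (⟨a, haA⟩ : A) (B.subgroupOf A)).map A.subtype = (cj y (B.subgroupOf A)).map A.subtype at this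
      simpa only [map_cj, hBmap, Subgroup.coe_subtype] using this
    have hy'' : (y : G) ∈ K ⊔ cj a K := (sup_le_sup inf_le_left (cj_mono a inf_le_left) : B ⊔ cj a B ≤ K ⊔ cj a K) hy'
    refine pron_step hy'' (a := (y : G)⁻¹ * a) rfl ?_
    have ha'A : (y : G)⁻¹ * a ∈ A := A.mul_mem (A.inv_mem y.2) haA
    have ha'B : cj ((y : G)⁻¹ * a) B = B := by rw [← cj_cj, hE, cj_cj, inv_mul_cancel, cj_one]
    generalize (y : G)⁻¹ * a = a' at ha'A ha'B ⊢
    obtain ⟨b, hb, hbe⟩ := conj_T_in hT inf_le_right (le_inf hTK hTA) a'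
      ((cj_mono a' (le_inf hTK hTA)).trans ha'B.le)
    refine pron_step (x := b) (Subgroup.mem_sup_left hb.1) (a := b⁻¹ * a') rfl ?_
    refine pron_key A T hT hN K hK hTK _ (A.mul_mem (A.inv_mem hb.2) ha'A) ?_ ?_
    · rw [← cj_cj, ← hbe, cj_cj, inv_mul_cancel, cj_one]
    · rw [← cj_cj, ha'B, ← hB, cj_mem (B.inv_mem hb)]
  obtain ⟨hTA, hTi, hTp⟩ := map_sylow_subgroupOf hT
  obtain ⟨P, hP⟩ := (exists_sylow_le_iff K).mpr hK
  obtain ⟨b, hb⟩ : ∃ b : G, cj b T ≤ K := by
    obtain ⟨Q, hQ⟩ := hTp.exists_le_sylow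
    obtain ⟨c, hc⟩ := MulAction.exists_smul_eq G Q P
    refine ⟨c, le_trans ?_ hP⟩
    have e : cj c (Q : Subgroup G) = (P : Subgroup G) := congrArg Sylow.toSubgroup hc
    exact (cj_mono c hQ).trans e.le
  have hK' : ¬ p ∣ (cj b⁻¹ K).index := by
    have e : (cj b⁻¹ K).index = K.index := Subgroup.index_map_of_bijective (MulAut.conj b⁻¹).bijective K
    rwa [e]
  have hTK' : T ≤ cj b⁻¹ K := by
    have := cj_mono b⁻¹ hb
    rwa [cj_cj, inv_mul_cancel, cj_one] at this
  have hp' : Cfsg.IsPronormal (cj b⁻¹ K) := fun g => key _ hK' hTK' g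
  have := pron_map (MulAut.conj b).surjective (f := (MulAut.conj b).toMonoidHom) hp'
  change Cfsg.IsPronormal (cj b (cj b⁻¹ K)) at this
  rwa [cj_cj, mul_inv_cancel, cj_one] at this

end

/-- Let p be a prime and G a finite group with a normal subgroup A such that, both in A and in G/A, every subgroup containing a Sylow p-subgroup of that group is pronormal in that group. Let T be a Sylow p-subgroup of A. Then every subgroup of G containing a Sylow p-subgroup of G is pronormal in G if and only if (i) every subgroup of N_G(T)/T containing a Sylow p-subgroup of N_G(T)/T is pronormal there, and (ii) for every subgroup H of G containing a Sylow p-subgroup of G, the image of N_G(H) in G/A is the full normalizer of the image of H. (Pronormal: H and gHg⁻¹ are conjugate inside the subgroup they generate, for every g.) -/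
theorem result {G : Type*} [Group G] [Finite G] {p : ℕ} [Fact p.Prime]
    (A : Subgroup G) [A.Normal] (hA : (∀ K : Subgroup ↥A, (∃ P : Sylow p ↥A, (P : Subgroup ↥A) ≤ K) → Cfsg.IsPronormal K)) (hQ : (∀ K : Subgroup (G ⧸ A), (∃ P : Sylow p (G ⧸ A), (P : Subgroup (G ⧸ A)) ≤ K) → Cfsg.IsPronormal K))
    (T : Subgroup G) (hT : ∃ P : Sylow p ↥A, (P : Subgroup ↥A).map A.subtype = T) [(T.subgroupOf (Subgroup.normalizer (T : Set G))).Normal] :
    (∀ K : Subgroup G, (∃ P : Sylow p G, (P : Subgroup G) ≤ K) → Cfsg.IsPronormal K) ↔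
      ((∀ K : Subgroup (↥(Subgroup.normalizer (T : Set G)) ⧸ T.subgroupOf (Subgroup.normalizer (T : Set G))), (∃ P : Sylow p (↥(Subgroup.normalizer (T : Set G)) ⧸ T.subgroupOf (Subgroup.normalizer (T : Set G))), (P : Subgroup (↥(Subgroup.normalizer (T : Set G)) ⧸ T.subgroupOf (Subgroup.normalizer (T : Set G)))) ≤ K) → Cfsg.IsPronormal K) ∧
        ∀ K : Subgroup G, (∃ P : Sylow p G, (P : Subgroup G) ≤ K) →
          (Subgroup.normalizer (K : Set G)).map (QuotientGroup.mk' A) = Subgroup.normalizer ((K.map (QuotientGroup.mk' A) : Subgroup (G ⧸ A)) : Set (G ⧸ A))) := by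
  obtain ⟨hTA, hTi, -⟩ := map_sylow_subgroupOf hT
  constructor
  · intro h
    refine ⟨?_, ?_⟩
    · intro K hK
      set N := Subgroup.normalizer (T : Set G) with hN
      set π := QuotientGroup.mk' (T.subgroupOf N) with hπ
      set K' := (K.comap π).map N.subtype with hK'
      have htop : N ⊔ A = ⊤ := by
        obtain ⟨P, hP⟩ := hT
        have := Sylow.normalizer_sup_eq_top P
        rwa [hP] at this
      have hNi : ¬ p ∣ N.index := by
        rw [index_eq_relIndex_mul N A, htop, Subgroup.index_top, mul_one]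
        exact fun hd => hTi (hd.trans (Subgroup.relIndex_dvd_of_le_left A Subgroup.le_normalizer))
      have hK'i : ¬ p ∣ K'.index := by
        rw [hK', Subgroup.index_map_subtype, Subgroup.index_comap_of_surjective _ (QuotientGroup.mk'_surjective _)]
        intro hd
        rcases (Fact.out : p.Prime).dvd_mul.mp hd with h1 | h1
        · exact (exists_sylow_le_iff K).mp hK h1
        · exact hNi h1
      have hpr := h K' ((exists_sylow_le_iff K').mpr hK'i)
      have hpr2 : Cfsg.IsPronormal (K.comap π) := by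
        intro g
        obtain ⟨x, hx, he⟩ := hpr (g : G)
        have hJ : K' ⊔ cj (g : G) K' = (K.comap π ⊔ cj g (K.comap π)).map N.subtype := by
          rw [Subgroup.map_sup, map_cj]; rfl
        change x ∈ K' ⊔ cj (g : G) K' at hx
        rw [hJ] at hx
        obtain ⟨x, hx', rfl⟩ := hx
        refine ⟨x, hx', Subgroup.map_injective N.subtype_injective ?_⟩
        show (cj g (K.comap π)).map N.subtype = (cj x (K.comap π)).map N.subtype
        rw [map_cj, map_cj]
        exact he
      have := pron_map (f := π) (QuotientGroup.mk'_surjective _) hpr2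
      rwa [Subgroup.map_comap_eq_self_of_surjective (QuotientGroup.mk'_surjective _)] at this
    · intro K hK
      refine le_antisymm (Subgroup.le_normalizer_map _) ?_
      intro q hq
      obtain ⟨g, rfl⟩ := QuotientGroup.mk'_surjective A q
      obtain ⟨x, hx, he⟩ := h K hK g
      change cj g K = cj x K at he


      have hgK : (cj g K).map (QuotientGroup.mk' A) = K.map (QuotientGroup.mk' A) := by
        rw [map_cj]; exact cj_self_iff.mpr hq
      have hxK : QuotientGroup.mk' A x ∈ K.map (QuotientGroup.mk' A) := by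
        have : QuotientGroup.mk' A x ∈ (K ⊔ cj g K).map (QuotientGroup.mk' A) := ⟨x, hx, rfl⟩
        rwa [Subgroup.map_sup, hgK, sup_idem] at this
      obtain ⟨k, hk, hke⟩ := hxK
      refine ⟨k * (x⁻¹ * g), Subgroup.mul_mem _ (Subgroup.le_normalizer hk) ?_, ?_⟩
      · exact cj_self_iff.mp (by rw [← cj_cj, he, cj_cj, inv_mul_cancel, cj_one])
      · rw [map_mul, hke, ← map_mul, mul_inv_cancel_left]
  · rintro ⟨h1, h2⟩ K hK
    refine pron_backward A T hT (fun L hL => hA L ((exists_sylow_le_iff L).mpr hL))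
      (fun L hL => hQ L ((exists_sylow_le_iff L).mpr hL))
      (fun L hL => h1 L ((exists_sylow_le_iff L).mpr hL))
      (fun L hL => h2 L ((exists_sylow_le_iff L).mpr hL)) K ((exists_sylow_le_iff K).mp hK)

end Cfsg.Agent.S4270
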