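import Cfsg.Statements.S2431
import Cfsg.Agent.EqLemmas
import Cfsg.Agent.Lib.GLOrder.TorusNormalizer

set_option autoImplicit false
open Cfsg

namespace Cfsg.Agent.S2431

open Cfsg.Agent Matrix
open scoped MatrixGroups

variable {F : Type*} [Field F]

/-- The order-three automorphism of a quaternion subgroup, realised inside `SL_2`. -/
theorem exists_rotation (h2 : (2 : F) ≠ 0) {t w : SL(2, F)} (ht : t * t = -1) (hw : w * w = -1)
    (hwt : w * t = -(t * w)) :
    ∃ h : SL(2, F), h * t * h⁻¹ = w ∧ h * w * h⁻¹ = t * w ∧ h ^ 3 = -1 := by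
  set T : Matrix (Fin 2) (Fin 2) F := (t : Matrix (Fin 2) (Fin 2) F) with hT
  set W : Matrix (Fin 2) (Fin 2) F := (w : Matrix (Fin 2) (Fin 2) F) with hW
  have TT : T * T = -1 := congrArg Subtype.val ht
  have WW : W * W = -1 := congrArg Subtype.val hw
  have WT : W * T = -(T * W) := congrArg Subtype.val hwt
  set H : Matrix (Fin 2) (Fin 2) F := (2 : F)⁻¹ • (1 + T + W + T * W) with hH
  have TTW : T * (T * W) = -W := by rw [← mul_assoc, TT, neg_one_mul]
  have TWT : T * W * T = W := by rw [mul_assoc, WT, mul_neg, TTW, neg_neg]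
  have WTW : W * (T * W) = T := by rw [← mul_assoc, WT, neg_mul, mul_assoc, WW]; simp
  have TWW : T * W * W = -T := by rw [mul_assoc, WW, mul_neg_one]
  have TWTW : T * W * (T * W) = -1 := by rw [← mul_assoc, TWT, WW]
  have e1 : H * T = W * H := by
    rw [hH, smul_mul_assoc, mul_smul_comm]
    congr 1
    simp only [add_mul, mul_add, one_mul, mul_one, TT, WW, WT, TWT, WTW]
    abel
  have e2 : H * W = T * W * H := by
    rw [hH, smul_mul_assoc, mul_smul_comm]
    congr 1
    simp only [add_mul, mul_add, one_mul, mul_one, WW, TWT, TWW, TWTW]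
    abel
  have hS : (1 + T + W + T * W) * (1 + T + W + T * W) =
      (2 : F) • (1 + T + W + T * W) + (-4 : F) • (1 : Matrix (Fin 2) (Fin 2) F) := by
    simp only [add_mul, mul_add, one_mul, mul_one, TT, WW, WT, TWT, WTW, TTW, TWW, TWTW]
    module
  have hHH : H * H = H - 1 := by
    rw [hH, smul_mul_smul_comm, hS, smul_add, smul_smul, smul_smul,
      show (2 : F)⁻¹ * 2⁻¹ * 2 = 2⁻¹ by field_simp,
      show (2 : F)⁻¹ * 2⁻¹ * -4 = -1 by field_simp; norm_num, neg_one_smul, sub_eq_add_neg]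
  have hdet : H.det = 1 := by
    have htr : H.trace = 1 := by
      have tz : ∀ g : SL(2, F), g * g = -1 → (g : Matrix (Fin 2) (Fin 2) F).trace = 0 := by
        intro g hg
        have e := congrArg Subtype.val hg
        change (g : Matrix (Fin 2) (Fin 2) F) * (g : Matrix (Fin 2) (Fin 2) F) = -1 at e
        rw [PSL2.coe_sq, sub_eq_neg_self, smul_eq_zero, PSL2.tr_eq_trace] at e
        refine e.resolve_right fun h0 => ?_
        have := g.2
        rw [h0, Matrix.det_zero] at this
        exact zero_ne_one this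
      have t3 : (T * W).trace = 0 := tz (t * w) (Subtype.ext TWTW)
      rw [hH, Matrix.trace_smul, Matrix.trace_add, Matrix.trace_add, Matrix.trace_add,
        Matrix.trace_one, hT, hW, tz t ht, tz w hw, ← hT, ← hW, t3, Fintype.card_fin,
        smul_eq_mul]
      field_simp
      norm_num
    rw [Matrix.trace_fin_two] at htr
    have e := congrFun (congrFun hHH 0) 0
    simp [Matrix.mul_apply, Fin.sum_univ_two] at e
    rw [Matrix.det_fin_two]
    linear_combination (H 0 0) * htr - e
  let h : SL(2, F) := ⟨H, hdet⟩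
  refine ⟨h, ?_, ?_, ?_⟩
  · rw [mul_inv_eq_iff_eq_mul]; exact Subtype.ext e1
  · rw [mul_inv_eq_iff_eq_mul]; exact Subtype.ext e2
  · apply Subtype.ext
    show H ^ 3 = -1
    rw [pow_succ, pow_two, hHH, sub_mul, one_mul, hHH]
    abel

theorem inv_coe (t : SL(2, F)) :
    ((t⁻¹ : SL(2, F)) : Matrix (Fin 2) (Fin 2) F) =
      PSL2.tr t • (1 : Matrix (Fin 2) (Fin 2) F) - (t : Matrix (Fin 2) (Fin 2) F) := by
  have h : ((t⁻¹ : SL(2, F)) : Matrix (Fin 2) (Fin 2) F) * (t : Matrix (Fin 2) (Fin 2) F) = 1 :=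
    congrArg Subtype.val (inv_mul_cancel t)
  have h' : (PSL2.tr t • (1 : Matrix (Fin 2) (Fin 2) F) - t.1) * t.1 = 1 := by
    rw [sub_mul, smul_mul_assoc, one_mul, PSL2.coe_sq]; abel
  have h'' : t.1 * ((t⁻¹ : SL(2, F)) : Matrix (Fin 2) (Fin 2) F) = 1 :=
    congrArg Subtype.val (mul_inv_cancel t)
  exact (left_inv_eq_right_inv h' h'').symm

/-- An element inverting `t` inverts all of its centraliser. -/
theorem conj_eq_inv {t w x : SL(2, F)} (htc : t ∉ Subgroup.center SL(2, F))
    (hw : w * t * w⁻¹ = t⁻¹) (hx : Commute x t) : w * x * w⁻¹ = x⁻¹ := by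
  obtain ⟨a, b, hab⟩ := PSL2.exists_lin_of_commute htc (congrArg Subtype.val hx.eq)
  have hd : a ^ 2 + PSL2.tr t * a * b + b ^ 2 = 1 := by rw [← PSL2.det_lin, ← hab]; exact x.2
  apply eq_inv_of_mul_eq_one_left
  apply Subtype.ext
  have hwt : (w : Matrix (Fin 2) (Fin 2) F) * t.1 * (w⁻¹ : SL(2, F)).1 = (t⁻¹ : SL(2, F)).1 :=
    congrArg Subtype.val hw
  have hww : (w : Matrix (Fin 2) (Fin 2) F) * (w⁻¹ : SL(2, F)).1 = 1 :=
    congrArg Subtype.val (mul_inv_cancel w)
  show (w : Matrix (Fin 2) (Fin 2) F) * x.1 * (w⁻¹ : SL(2, F)).1 * x.1 = 1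
  rw [inv_coe t] at hwt
  have hTT := PSL2.coe_sq t
  generalize PSL2.tr t = s at hwt hd hTT
  rw [hab, PSL2.lin]
  generalize (w : Matrix (Fin 2) (Fin 2) F) = W at hwt hww
  generalize ((w⁻¹ : SL(2, F)) : Matrix (Fin 2) (Fin 2) F) = Wi at hwt hww
  generalize (t : Matrix (Fin 2) (Fin 2) F) = T at hwt hTT
  have e : W * (a • (1 : Matrix (Fin 2) (Fin 2) F) + b • T) * Wi = a • 1 + b • (s • 1 - T) := by
    rw [mul_add, add_mul, mul_smul_comm, smul_mul_assoc, mul_one, hww, mul_smul_comm,
      smul_mul_assoc, hwt]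
  rw [e]
  simp only [add_mul, sub_mul, mul_add, smul_sub, smul_smul, one_mul, mul_one,
    smul_mul_assoc, mul_smul_comm, hTT]
  match_scalars <;> first | linear_combination hd | ring1

/-- Let F be a finite field with q elements, q odd, and S a Sylow 2-subgroup of SL₂ over F. The centraliser of S is the centre of SL₂ (of order 2); S is its own normaliser when q ≡ ±1 mod 8, and has index 3 in its normaliser when q ≡ ±3 mod 8. -/
theorem result {F : Type*} [Field F] [Fintype F] (hodd : Odd (Fintype.card F)) (S : Sylow 2 (Matrix.SpecialLinearGroup (Fin 2) F)) :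
    Subgroup.centralizer ((S : Subgroup (Matrix.SpecialLinearGroup (Fin 2) F)) : Set (Matrix.SpecialLinearGroup (Fin 2) F)) = Subgroup.center (Matrix.SpecialLinearGroup (Fin 2) F) ∧
    ((Fintype.card F % 8 = 1 ∨ Fintype.card F % 8 = 7) →
      Subgroup.normalizer ((S : Subgroup (Matrix.SpecialLinearGroup (Fin 2) F)) : Set (Matrix.SpecialLinearGroup (Fin 2) F)) = (S : Subgroup (Matrix.SpecialLinearGroup (Fin 2) F))) ∧
    ((Fintype.card F % 8 = 3 ∨ Fintype.card F % 8 = 5) →
      Nat.card (Subgroup.normalizer ((S : Subgroup (Matrix.SpecialLinearGroup (Fin 2) F)) : Set (Matrix.SpecialLinearGroup (Fin 2) F))) = 3 * Nat.card S) := by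
  classical
  haveI : Fact (Nat.Prime 2) := ⟨Nat.prime_two⟩
  rw [← Nat.card_eq_fintype_card (α := F)] at hodd ⊢
  have hq1 := GLOrder.one_lt_card_field (F := F)
  have h2 : (2 : F) ≠ 0 := by
    obtain ⟨m, hm⟩ := hodd
    exact PSL2.two_ne_zero_of_dvd ⟨m, by omega⟩
  obtain ⟨k, hk, ⟨e⟩⟩ := GLOrder.sylow_two_SL_two hodd S
  haveI : NeZero (2 ^ k) := ⟨pow_ne_zero _ two_ne_zero⟩
  set t : SL(2, F) := (e.symm (QuaternionGroup.a 1) : SL(2, F)) with ht_def
  set w : SL(2, F) := (e.symm (QuaternionGroup.xa 0) : SL(2, F)) with hw_def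
  have horder : ∀ g, orderOf ((e.symm g : (S : Subgroup SL(2, F))) : SL(2, F)) = orderOf g := fun g => by
    rw [Subgroup.orderOf_coe, MulEquiv.orderOf_eq]
  have htS : t ∈ (S : Subgroup SL(2, F)) := (e.symm _).2
  have hwS : w ∈ (S : Subgroup SL(2, F)) := (e.symm _).2
  have hto : orderOf t = 2 * 2 ^ k := by rw [ht_def, horder, QuaternionGroup.orderOf_a_one]
  have hto4 : 4 ≤ orderOf t := by
    have : 2 ^ 1 ≤ 2 ^ k := Nat.pow_le_pow_right two_pos hk
    omega
  have hxa : ∀ i, ∀ x : SL(2, F), x = (e.symm (QuaternionGroup.xa i) : SL(2, F)) →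
      orderOf x = 4 ∧ x * x = -1 := by
    rintro i x rfl
    have h4 : orderOf ((e.symm (QuaternionGroup.xa i) : (S : Subgroup SL(2, F))) : SL(2, F)) = 4 := by
      rw [horder, QuaternionGroup.orderOf_xa]
    refine ⟨h4, ?_⟩
    generalize ((e.symm (QuaternionGroup.xa i) : (S : Subgroup SL(2, F))) : SL(2, F)) = y at h4 ⊢
    refine (GLOrder.SL2_eq_one_or_neg_one_of_sq h2 ?_).resolve_left fun h => ?_
    · rw [← pow_two, ← pow_two, ← pow_mul]
      exact orderOf_dvd_iff_pow_eq_one.1 (by rw [h4])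
    · have := Nat.le_of_dvd two_pos (orderOf_dvd_of_pow_eq_one (by rwa [pow_two] : y ^ 2 = 1))
      omega
  have hww : w * w = -1 := (hxa 0 w hw_def).2
  have hmem : ∀ x ∈ (S : Subgroup SL(2, F)), ∃ i : ℕ, x = t ^ i ∨ x = w * t ^ i := by
    intro x hx
    have hx' : x = (e.symm (e ⟨x, hx⟩) : SL(2, F)) := by simp
    rcases hg : e ⟨x, hx⟩ with i | i <;> rw [hg] at hx'
    · refine ⟨i.val, Or.inl ?_⟩
      rw [hx', ht_def, ← Subgroup.coe_pow, ← map_pow, QuaternionGroup.a_one_pow,
        ZMod.natCast_zmod_val]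
    · refine ⟨i.val, Or.inr ?_⟩
      rw [hx', ht_def, hw_def, ← Subgroup.coe_pow, ← Subgroup.coe_mul, ← map_pow,
        QuaternionGroup.a_one_pow, ← map_mul, QuaternionGroup.xa_mul_a, zero_add,
        ZMod.natCast_zmod_val]
  have hrel : w * t⁻¹ = t * w := by
    have h : QuaternionGroup.xa (0 : ZMod (2 * 2 ^ k)) * (QuaternionGroup.a 1)⁻¹ =
        QuaternionGroup.a 1 * QuaternionGroup.xa 0 := by
      rw [mul_inv_eq_iff_eq_mul, QuaternionGroup.a_mul_xa, QuaternionGroup.xa_mul_a, sub_add_cancel]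
    have h' := congrArg (fun g => ((e.symm g : (S : Subgroup SL(2, F))) : SL(2, F))) h
    simpa only [map_mul, map_inv, Subgroup.coe_mul, Subgroup.coe_inv, ← ht_def, ← hw_def] using h'
  have hinv : w * t * w⁻¹ = t⁻¹ := by
    have : w * t⁻¹ * w⁻¹ = t := by rw [hrel, mul_inv_cancel_right]
    have h' := congrArg (·⁻¹) this
    simpa [mul_assoc] using h'
  have hnc : ¬ Commute w t := by
    intro hc
    rw [hc.eq, mul_inv_cancel_right] at hinv
    have h1 : t ^ 2 = 1 := by rw [pow_two]; nth_rw 1 [hinv]; exact inv_mul_cancel t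
    have := Nat.le_of_dvd two_pos (orderOf_dvd_of_pow_eq_one h1)
    omega
  have htc : t ∉ Subgroup.center SL(2, F) := fun h => hnc (Subgroup.mem_center_iff.1 h w)
  have h4 : PSL2.tr t ^ 2 ≠ 4 := by
    refine GLOrder.tr_sq_ne_four h2 ?_ (Nat.even_iff.2 (by rw [hto]; simp)) (pow_orderOf_eq_one t) htc
    rw [hto]; push_cast; exact mul_ne_zero h2 (pow_ne_zero _ h2)
  -- the key reduction
  have key : ∀ n ∈ Subgroup.normalizer ((S : Subgroup SL(2, F)) : Set SL(2, F)),
      Commute (n * t * n⁻¹) t → n ∈ (S : Subgroup SL(2, F)) := by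
    intro n hn hc
    have hCN : ∀ x ∈ Subgroup.normalizer ((S : Subgroup SL(2, F)) : Set SL(2, F)),
        Commute x t → x ∈ (S : Subgroup SL(2, F)) := by
      intro x hx hxt
      have h1 := (Subgroup.mem_normalizer_iff.1 hx w).1 hwS
      have h3 : x * x ∈ (S : Subgroup SL(2, F)) := by
        have h5 := conj_eq_inv htc hinv hxt
        have h6 : x * w * x⁻¹ = x * x * w := by
          calc x * w * x⁻¹ = x * (w * x * w⁻¹)⁻¹ * w := by group
            _ = _ := by rw [h5, inv_inv]
        rw [h6] at h1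
        have h7 := mul_mem h1 (inv_mem hwS)
        rwa [mul_inv_cancel_right] at h7
      have hx2 : IsPGroup 2 (Subgroup.zpowers x) := by
        rintro ⟨_, i, rfl⟩
        obtain ⟨j, hj⟩ := S.isPGroup' ⟨x * x, h3⟩
        refine ⟨j + 1, Subtype.ext ?_⟩
        have hx' : x ^ 2 ^ (j + 1) = 1 := by
          rw [pow_succ', pow_mul, pow_two]
          exact congrArg Subtype.val hj
        show (x ^ i) ^ 2 ^ (j + 1) = 1
        rw [← zpow_natCast, ← _root_.zpow_mul, mul_comm, _root_.zpow_mul, zpow_natCast, hx', _root_.one_zpow]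
      have := IsPGroup.inf_normalizer_sylow hx2 S
      exact (this.le ⟨Subgroup.mem_zpowers x, hx⟩).2
    rcases GLOrder.commute_or_of_normalizes h2 h4 hinv hc with h | h
    · exact hCN n hn h
    · have := hCN _ (mul_mem (inv_mem (Subgroup.le_normalizer hwS)) hn) h
      simpa using mul_mem hwS this
  have hcard : Nat.card S = 4 * 2 ^ k := by
    rw [Nat.card_congr e.toEquiv, Nat.card_eq_fintype_card, QuaternionGroup.card]
  refine ⟨?_, ?_, ?_⟩
  · refine le_antisymm (fun x hx => ?_) (Subgroup.center_le_centralizer _)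
    by_contra hxc
    rw [Subgroup.mem_centralizer_iff] at hx
    exact hnc (PSL2.commute_of_commute hxc (hx w hwS) (hx t htS))
  · intro h8
    have hk2 : 2 ≤ k := by
      have h16 : 2 ^ 4 ∣ Nat.card SL(2, F) := by
        rw [GLOrder.card_SL_two']
        obtain ⟨r, hr⟩ : ∃ r, Nat.card F = 8 * r + 1 ∨ Nat.card F = 8 * r + 7 :=
          ⟨Nat.card F / 8, by omega⟩
        rcases hr with hr | hr <;> rw [hr]
        · exact ⟨(8 * r + 1) * (4 * r + 1) * r, by rw [Nat.add_sub_cancel]; ring⟩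
        · exact ⟨(8 * r + 7) * (r + 1) * (4 * r + 3), by
            rw [show 8 * r + 7 - 1 = 8 * r + 6 by omega]; ring⟩
      have h := S.pow_dvd_card_of_pow_dvd_card h16
      rw [hcard] at h
      by_contra hlt
      have hk1 : k = 1 := by omega
      subst hk1
      have := Nat.le_of_dvd (by norm_num) h
      norm_num at this
    refine le_antisymm (fun n hn => ?_) Subgroup.le_normalizer
    refine key n hn ?_
    obtain ⟨i, hi | hi⟩ := hmem _ ((Subgroup.mem_normalizer_iff.1 hn t).1 htS)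
    · rw [hi]; exact Commute.pow_left rfl i
    · exfalso
      have h8' : orderOf (n * t * n⁻¹) = orderOf t := by
        rw [← MulAut.conj_apply, MulEquiv.orderOf_eq]
      have h4' : orderOf (w * t ^ i) = 4 := by
        refine (hxa (i : ZMod (2 * 2 ^ k)) _ ?_).1
        rw [ht_def, hw_def, ← Subgroup.coe_pow, ← Subgroup.coe_mul, ← map_pow,
          QuaternionGroup.a_one_pow, ← map_mul, QuaternionGroup.xa_mul_a, zero_add]
      rw [hi, h4', hto] at h8'
      have : 2 ^ 2 ≤ 2 ^ k := Nat.pow_le_pow_right two_pos hk2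
      omega
  · intro h8
    have hk1 : k = 1 := by
      by_contra hne
      have h16 : 2 ^ 4 ∣ Nat.card SL(2, F) := by
        have h : 2 ^ 4 ∣ Nat.card S := by
          rw [hcard, show (2 : ℕ) ^ 4 = 4 * 2 ^ 2 by norm_num]
          exact Nat.mul_dvd_mul_left 4 (pow_dvd_pow 2 (by omega))
        exact h.trans (Subgroup.card_subgroup_dvd_card (S : Subgroup SL(2, F)))
      rw [GLOrder.card_SL_two'] at h16
      obtain ⟨r, hr⟩ : ∃ r, Nat.card F = 8 * r + 3 ∨ Nat.card F = 8 * r + 5 :=
        ⟨Nat.card F / 8, by omega⟩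
      rcases hr with hr | hr <;> rw [hr] at h16
      · rw [show 8 * r + 3 - 1 = 2 * (4 * r + 1) by omega,
          show (8 * r + 3) * (8 * r + 3 + 1) * (2 * (4 * r + 1)) =
            2 ^ 3 * ((8 * r + 3) * (2 * r + 1) * (4 * r + 1)) by ring, pow_succ] at h16
        have h' := Nat.dvd_of_mul_dvd_mul_left (by norm_num) h16
        simp [Nat.prime_two.dvd_mul] at h'
        omega
      · rw [show 8 * r + 5 - 1 = 4 * (2 * r + 1) by omega,
          show (8 * r + 5) * (8 * r + 5 + 1) * (4 * (2 * r + 1)) =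
            2 ^ 3 * ((8 * r + 5) * (4 * r + 3) * (2 * r + 1)) by ring, pow_succ] at h16
        have h' := Nat.dvd_of_mul_dvd_mul_left (by norm_num) h16
        simp [Nat.prime_two.dvd_mul] at h'
        omega
    have htt : t * t = -1 := by
      refine (GLOrder.SL2_eq_one_or_neg_one_of_sq h2 ?_).resolve_left fun h => ?_
      · rw [← pow_two, ← pow_two, ← pow_mul]
        exact orderOf_dvd_iff_pow_eq_one.1 (by rw [hto, hk1]; norm_num)
      · have := Nat.le_of_dvd two_pos (orderOf_dvd_of_pow_eq_one (by rwa [pow_two] : t ^ 2 = 1))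
        omega
    have hti : t⁻¹ = -t := inv_eq_of_mul_eq_one_right (by rw [mul_neg, htt, neg_neg])
    have hwt : w * t = -(t * w) := by
      rw [← hrel, hti, mul_neg, neg_neg]
    obtain ⟨h, hht, hhw, hh3⟩ := exists_rotation h2 htt hww hwt
    have hneg : (-1 : SL(2, F)) ∈ (S : Subgroup SL(2, F)) := hww ▸ mul_mem hwS hwS
    have hhS : ∀ x ∈ (S : Subgroup SL(2, F)), h * x * h⁻¹ ∈ (S : Subgroup SL(2, F)) := by
      intro x hx
      obtain ⟨i, hi | hi⟩ := hmem x hx <;> subst hi
      · rw [← conj_pow, hht]; exact pow_mem hwS i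
      · rw [show h * (w * t ^ i) * h⁻¹ = (h * w * h⁻¹) * (h * t ^ i * h⁻¹) by group, hhw,
          ← conj_pow, hht]
        exact mul_mem (mul_mem htS hwS) (pow_mem hwS i)
    set N := Subgroup.normalizer ((S : Subgroup SL(2, F)) : Set SL(2, F)) with hN
    have hhN : h ∈ N := Subgroup.mem_normalizer_fintype (fun x hx => hhS x hx)
    have hhnot : h ∉ (S : Subgroup SL(2, F)) := by
      intro hm
      apply hnc
      obtain ⟨i, hi | hi⟩ := hmem h hm
      · rw [hi, (Commute.pow_left rfl i : Commute (t ^ i) t).eq, mul_inv_cancel_right] at hht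
        rw [← hht]
      · have hti' : t ^ i * t * (t ^ i)⁻¹ = t := by
          rw [(Commute.pow_left rfl i : Commute (t ^ i) t).eq, mul_inv_cancel_right]
        rw [hi, show w * t ^ i * t * (w * t ^ i)⁻¹ = w * (t ^ i * t * (t ^ i)⁻¹) * w⁻¹ by group,
          hti', hinv] at hht
        rw [← hht]
        exact (Commute.refl t).inv_left
    let K := ((S : Subgroup SL(2, F)).subgroupOf N)
    let hb : N ⧸ K := QuotientGroup.mk ⟨h, hhN⟩
    have hall : ∀ x : N ⧸ K, x ∈ Subgroup.zpowers hb := by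
      intro x
      induction x using QuotientGroup.induction_on with
      | H n =>
        obtain ⟨n, hn⟩ := n
        obtain ⟨j, hj⟩ : ∃ j : ℕ, (h ^ j)⁻¹ * n ∈ (S : Subgroup SL(2, F)) := by
          have hmove : ∀ j : ℕ, Commute ((h ^ j)⁻¹ * (n * t * n⁻¹) * (h ^ j)) t →
              (h ^ j)⁻¹ * n ∈ (S : Subgroup SL(2, F)) := by
            intro j hc
            refine key _ (mul_mem (inv_mem (pow_mem hhN j)) hn) ?_
            rwa [_root_.mul_inv_rev, inv_inv, show (h ^ j)⁻¹ * n * t * (n⁻¹ * h ^ j) =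
              (h ^ j)⁻¹ * (n * t * n⁻¹) * h ^ j by group]
          have ht1 : h⁻¹ * w * h = t := by rw [← hht]; group
          have ht2 : (h ^ 2)⁻¹ * (t * w) * h ^ 2 = t := by
            rw [← hhw, ← hht]; group
          obtain ⟨i, hi⟩ := hmem _ ((Subgroup.mem_normalizer_iff.1 hn t).1 htS)
          have hti2 : t ^ i = 1 ∨ t ^ i = t ∨ t ^ i = -1 ∨ t ^ i = -t := by
            rw [← pow_mod_orderOf, hto, hk1]
            have : i % (2 * 2 ^ 1) = 0 ∨ i % (2 * 2 ^ 1) = 1 ∨ i % (2 * 2 ^ 1) = 2 ∨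
                i % (2 * 2 ^ 1) = 3 := by omega
            rcases this with h' | h' | h' | h' <;> rw [h'] <;>
              simp [pow_succ, htt]
          rcases hi with hi | hi
          · refine ⟨0, hmove 0 ?_⟩
            rw [pow_zero, inv_one, one_mul, mul_one, hi]
            exact Commute.pow_left rfl i
          · rcases hti2 with h' | h' | h' | h' <;> rw [h'] at hi
            · refine ⟨1, hmove 1 ?_⟩
              rw [pow_one, hi, mul_one, ht1]
            · refine ⟨2, hmove 2 ?_⟩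
              rw [hi, hwt, mul_neg, neg_mul, ht2]
              exact (Commute.refl t).neg_left
            · refine ⟨1, hmove 1 ?_⟩
              rw [pow_one, hi, mul_neg_one, mul_neg, neg_mul, ht1]
              exact (Commute.refl t).neg_left
            · refine ⟨2, hmove 2 ?_⟩
              rw [hi, mul_neg, hwt, neg_neg, ht2]
        refine ⟨j, ?_⟩
        show hb ^ (j : ℤ) = _
        rw [zpow_natCast, ← QuotientGroup.mk_pow, QuotientGroup.eq, Subgroup.mem_subgroupOf]
        simpa using hj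
    have hord : orderOf hb = 3 := by
      refine orderOf_eq_prime ?_ ?_
      · rw [← QuotientGroup.mk_pow, QuotientGroup.eq_one_iff, Subgroup.mem_subgroupOf]
        show h ^ 3 ∈ (S : Subgroup SL(2, F))
        rw [hh3]; exact hneg
      · rw [Ne, QuotientGroup.eq_one_iff, Subgroup.mem_subgroupOf]
        exact hhnot
    have hidx : K.index = 3 := by
      rw [Subgroup.index_eq_card, ← hord, ← Nat.card_zpowers,
        (Subgroup.eq_top_iff' _).2 hall, Subgroup.card_top]
    rw [← K.index_mul_card, hidx,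
      Nat.card_congr (Subgroup.subgroupOfEquivOfLe Subgroup.le_normalizer).toEquiv]

end Cfsg.Agent.S2431
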