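import Cfsg.Statements.S0223
import Cfsg.Agent.Lib.Involution.StronglyEmbedded

set_option autoImplicit false
open Cfsg

namespace Cfsg.Agent.S0223

/-- Let H be a proper subgroup of even order of the finite group G. Then H is strongly embedded if and only if (i) C_G(t) ≤ H for every involution t of H and (ii) H controls fusion of its involutions: involutions of H conjugate in G are conjugate in H. -/
theorem result {G : Type*} [Group G] [Finite G] (H : Subgroup G) (hH : H ≠ ⊤) (heven : Even (Nat.card H)) : Cfsg.IsStronglyEmbedded H ↔ ((∀ t ∈ H, orderOf t = 2 → Subgroup.centralizer ({t} : Set G) ≤ H) ∧ (∀ t ∈ H, ∀ s ∈ H, orderOf t = 2 → orderOf s = 2 → IsConj t s → ∃ h ∈ H, h * t * h⁻¹ = s)) := by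
  constructor
  · intro hSE
    exact ⟨fun t ht h2 => Involution.centralizer_le hSE h2 ht,
      fun t ht s hs h2 hs2 _ => Involution.exists_conj_in hSE h2 ht hs2 hs⟩
  · rintro ⟨hC, hF⟩
    refine Involution.isStronglyEmbedded_iff_forall.2 ⟨hH, heven, fun g t h2 ht hg => ?_⟩
    obtain ⟨h, hh, hht⟩ := hF t ht _ hg h2 (by rw [Involution.orderOf_conj, h2]) (isConj_iff.2 ⟨g, rfl⟩)
    have hc : g⁻¹ * h ∈ Subgroup.centralizer ({t} : Set G) := by
      rw [Involution.mem_centralizer_singleton]
      calc g⁻¹ * h * t = g⁻¹ * (h * t * h⁻¹) * h := by group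
        _ = t * (g⁻¹ * h) := by rw [hht]; group
    simpa [mul_assoc] using H.mul_mem hh (H.inv_mem (hC t ht h2 hc))

end Cfsg.Agent.S0223
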