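import Cfsg.Statements.S0157
import Cfsg.Agent.Lib.Char.Orth

set_option autoImplicit false
open Cfsg

namespace Cfsg.Agent.S0157

open scoped Classical in
/-- The permutation representation on functions. -/
noncomputable def permRep (G X : Type*) [Group G] [MulAction G X] : Representation ℂ G (X → ℂ) where
  toFun g := LinearMap.funLeft ℂ ℂ (fun x : X => g⁻¹ • x)
  map_one' := LinearMap.ext fun f => funext fun x => by simp [LinearMap.funLeft_apply]
  map_mul' a b := LinearMap.ext fun f => funext fun x => by
    simp [LinearMap.funLeft_apply, mul_smul]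

theorem permRep_character (G X : Type*) [Group G] [MulAction G X] [Finite X] (g : G) :
    (permRep G X).character g = (Nat.card (MulAction.fixedBy X g) : ℂ) := by
  classical
  haveI := Fintype.ofFinite X
  rw [Representation.character, LinearMap.trace_eq_matrix_trace ℂ (Pi.basisFun ℂ X), Matrix.trace,
    Nat.card_eq_fintype_card, Fintype.card_subtype, ← Finset.sum_boole]
  refine Finset.sum_congr rfl fun x _ => ?_
  simp only [Matrix.diag_apply, LinearMap.toMatrix_apply, Pi.basisFun_apply, Pi.basisFun_repr,
    permRep, MonoidHom.coe_mk, OneHom.coe_mk, LinearMap.funLeft_apply, Pi.single_apply,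
    MulAction.mem_fixedBy]
  refine if_congr ⟨fun h => ?_, fun h => ?_⟩ rfl rfl <;>
    simp only [eq_inv_smul_iff, inv_smul_eq_iff] at h ⊢ <;>
    first | exact h | exact h.symm

theorem two_orbits_iff (G X : Type*) [Group G] [MulAction G X] [Finite X]
    [MulAction.IsPretransitive G X] (hX : 2 ≤ Nat.card X) :
    Nat.card (MulAction.orbitRel.Quotient G (X × X)) = 2 ↔
      MulAction.IsMultiplyPretransitive G X 2 := by
  classical
  haveI : Nonempty X := (Nat.card_pos_iff.mp (by omega)).1
  haveI : Nontrivial X := Finite.one_lt_card_iff_nontrivial.mp (by omega)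
  obtain ⟨x₀, y₀, hxy⟩ := exists_pair_ne X
  rw [MulAction.is_two_pretransitive_iff]
  let Q := MulAction.orbitRel.Quotient G (X × X)
  let q : X × X → Q := Quotient.mk''
  have hdiag : ∀ x : X, q (x, x) = q (x₀, x₀) := fun x => by
    obtain ⟨g, hg⟩ := MulAction.exists_smul_eq G x₀ x
    exact Quotient.sound' ⟨g, by rw [← hg]; rfl⟩
  have hne : q (x₀, y₀) ≠ q (x₀, x₀) := by
    intro h
    obtain ⟨g, hg⟩ := Quotient.exact' h
    have h1 : g • x₀ = x₀ := congrArg Prod.fst hg
    have h2 : g • x₀ = y₀ := congrArg Prod.snd hg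
    exact hxy (h1.symm.trans h2)
  constructor
  · intro h2
    intro a b c d hab hcd
    have key : ∀ a b : X, a ≠ b → q (a, b) = q (x₀, y₀) := by
      intro a b hab
      by_contra hcon
      have h1 : q (a, b) ≠ q (x₀, x₀) := by
        intro h
        obtain ⟨g, hg⟩ := Quotient.exact' h
        exact hab ((congrArg Prod.fst hg).symm.trans (congrArg Prod.snd hg))
      haveI := Fintype.ofFinite Q
      have hs : ({q (x₀, x₀), q (x₀, y₀), q (a, b)} : Finset Q).card = 3 := by
        rw [Finset.card_insert_of_notMem (by simp [hne.symm, h1.symm]),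
          Finset.card_insert_of_notMem (by simp [Ne.symm hcon]), Finset.card_singleton]
      have := Finset.card_le_univ ({q (x₀, x₀), q (x₀, y₀), q (a, b)} : Finset Q)
      rw [hs, ← Nat.card_eq_fintype_card, h2] at this
      omega
    obtain ⟨g, hg⟩ := Quotient.exact' ((key c d hcd).trans (key a b hab).symm)
    exact ⟨g, congrArg Prod.fst hg, congrArg Prod.snd hg⟩
  · intro h
    rw [Nat.card_eq_two_iff]
    refine ⟨q (x₀, x₀), q (x₀, y₀), hne.symm, Set.eq_univ_of_forall fun z => ?_⟩
    induction z using Quotient.inductionOn' with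
    | _ p =>
      obtain ⟨a, b⟩ := p
      by_cases hab : a = b
      · subst hab; exact Or.inl (hdiag a)
      · obtain ⟨g, hg1, hg2⟩ := h hxy hab
        exact Or.inr (Quotient.sound' ⟨g, Prod.ext hg1 hg2⟩)


/-- For a transitive action of a finite group on a finite set with at least two points: the action is 2-transitive if and only if the function sending g to (number of fixed points of g) − 1 is an irreducible character. -/
theorem result {G : Type*} [Group G] [Finite G] (X : Type*) [MulAction G X] [Finite X] [MulAction.IsPretransitive G X] (hX : 2 ≤ Nat.card X) : Cfsg.IsIrrCharacter G (fun g => (Nat.card (MulAction.fixedBy X g) : ℂ) - 1) ↔ MulAction.IsMultiplyPretransitive G X 2 := by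
  classical
  haveI := Fintype.ofFinite G
  haveI := Fintype.ofFinite X
  let π : G → ℂ := fun g => (Nat.card (MulAction.fixedBy X g) : ℂ)
  have hπ : Cfsg.IsCharacter G π := by
    convert Char.isCharacter_character (permRep G X) using 1
    exact funext fun g => (permRep_character G X g).symm
  -- inner products, by Burnside's counting lemma
  have hfix : ∀ (Y : Type _) [MulAction G Y] [Finite Y],
      ∑ g : G, (Nat.card (MulAction.fixedBy Y g) : ℂ) =
        (Nat.card (MulAction.orbitRel.Quotient G Y) : ℂ) * (Nat.card G : ℂ) := by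
    intro Y _ _
    haveI := Fintype.ofFinite Y
    haveI := Fintype.ofFinite (MulAction.orbitRel.Quotient G Y)
    have h := MulAction.sum_card_fixedBy_eq_card_orbits_mul_card_group G Y
    simp only [← Nat.card_eq_fintype_card] at h
    exact_mod_cast h
  have hG : (Nat.card G : ℂ) ≠ 0 := Nat.cast_ne_zero.mpr Nat.card_pos.ne'
  have hone : Nat.card (MulAction.orbitRel.Quotient G X) = 1 := by
    haveI : Nonempty X := (Nat.card_pos_iff.mp (by omega)).1
    haveI := MulAction.pretransitive_iff_subsingleton_quotient G X |>.mp inferInstance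
    exact Nat.card_eq_one_iff_unique.mpr ⟨inferInstance, ⟨Quotient.mk'' (Classical.arbitrary X)⟩⟩
  have h11 : Cfsg.classInner π (1 : G → ℂ) = 1 := by
    simp only [Cfsg.classInner, Pi.one_apply, map_one, mul_one, π]
    rw [hfix X, hone, Nat.cast_one, one_mul]
    exact inv_mul_cancel₀ hG
  have hππ : Cfsg.classInner π π = (Nat.card (MulAction.orbitRel.Quotient G (X × X)) : ℂ) := by
    have h2 : ∀ g : G, π g * (starRingEnd ℂ) (π g) = (Nat.card (MulAction.fixedBy (X × X) g) : ℂ) := by
      intro g
      rw [show MulAction.fixedBy (X × X) g = (MulAction.fixedBy X g) ×ˢ (MulAction.fixedBy X g) by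
        ext ⟨a, b⟩; simp [Prod.ext_iff]]
      simp [π, Set.toFinset_prod, Nat.card_congr (Equiv.Set.prod _ _), Nat.card_prod]
    rw [Cfsg.classInner, Finset.sum_congr rfl fun g _ => h2 g, hfix (X × X),
      mul_comm _ (Nat.card G : ℂ), ← mul_assoc, inv_mul_cancel₀ hG, one_mul]
  set f : G → ℂ := fun g => (Nat.card (MulAction.fixedBy X g) : ℂ) - 1 with hf
  have hfsub : f = π - 1 := rfl
  have hchar : Cfsg.IsCharacter G f := by
    refine Char.isCharacter_of_classFunction (fun g h => ?_) fun χ => ?_
    · exact congrArg (· - 1) (Char.IsCharacter.isClassFunction hπ g h)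
    · rw [hfsub, Char.classInner_sub_left]
      by_cases h : (χ : G → ℂ) = 1
      · exact ⟨0, by rw [h, h11, Char.classInner_irr_self Char.isIrrCharacter_one, sub_self, Nat.cast_zero]⟩
      · obtain ⟨m, hm⟩ := Char.IsCharacter.classInner_nat hπ (Char.IsIrrCharacter.isCharacter χ.2)
        exact ⟨m, by rw [hm, Char.classInner_irr_of_ne Char.isIrrCharacter_one χ.2 (Ne.symm h), sub_zero]⟩
  have hnorm : Cfsg.classInner f f =
      (Nat.card (MulAction.orbitRel.Quotient G (X × X)) : ℂ) - 1 := by
    have h11' : Cfsg.classInner (1 : G → ℂ) π = 1 := by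
      rw [← Char.classInner_conj_symm, h11, map_one]
    rw [hfsub, Char.classInner_sub_left, Char.classInner_sub_right, Char.classInner_sub_right,
      hππ, h11, h11', Char.classInner_irr_self Char.isIrrCharacter_one]
    ring
  rw [Char.isIrrCharacter_iff_norm_one hchar, hnorm, sub_eq_iff_eq_add]
  rw [show ((1 : ℂ) + 1) = ((2 : ℕ) : ℂ) by norm_num, Nat.cast_inj]
  exact two_orbits_iff G X hX

end Cfsg.Agent.S0157
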