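import Cfsg.Statements.S3669
import Cfsg.Agent.EqLemmas
import Cfsg.Agent.Lib.Ito.Basic
import Cfsg.Agent.Lib.PSL2.Groups
import Cfsg.Agent.S0157

set_option autoImplicit false
open Cfsg

namespace Cfsg.Agent.S3669

open Subgroup

variable {G : Type*} [Group G] [Finite G]

/-- With one Sylow `5`-subgroup no degree is a multiple of five. -/
theorem not_five_mem (hG : Nat.card G = 60) (h : Nat.card (Sylow 5 G) = 1) :
    5 ∉ Cfsg.degreePrimes G := by
  rintro ⟨-, d, ⟨χ, rfl⟩, hd⟩
  haveI := Fact.mk Nat.prime_five
  obtain ⟨P⟩ := (inferInstance : Nonempty (Sylow 5 G))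
  haveI : Subsingleton (Sylow 5 G) := (Nat.card_eq_one_iff_unique.mp h).1
  haveI : (P : Subgroup G).Normal := P.normal_of_subsingleton
  have hc : Nat.card (P : Subgroup G) = 5 :=
    (SmallOrders.card_sylow_subgroup (show Nat.card G = 5 ^ 1 * 12 by rw [hG]; norm_num) (by norm_num) P).trans (by norm_num)
  haveI := isCyclic_of_prime_card hc
  have hcomm : IsMulCommutative (P : Subgroup G) := IsCyclic.isMulCommutative
  obtain ⟨n, -, hn, hdvd⟩ := Ito.exists_degree_dvd_index χ.2 (P : Subgroup G) fun a ha b hb =>
    congrArg Subtype.val (hcomm.is_comm.comm (⟨a, ha⟩ : (P : Subgroup G)) ⟨b, hb⟩)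
  have hidx : (P : Subgroup G).index = 12 := by
    have := (P : Subgroup G).card_mul_index
    rw [hc, hG] at this; omega
  rw [show Cfsg.charDegree (χ : G → ℂ) = n by simp [Cfsg.charDegree, hn]] at hd
  exact absurd (hd.trans (hidx ▸ hdvd)) (by norm_num)

theorem card_sylow_five (hG : Nat.card G = 60) :
    Nat.card (Sylow 5 G) = 1 ∨ Nat.card (Sylow 5 G) = 6 := by
  haveI := Fact.mk Nat.prime_five
  obtain ⟨P⟩ := (inferInstance : Nonempty (Sylow 5 G))
  have h : Nat.card (Sylow 5 G) ∣ 12 :=
    SmallOrders.index_sylow (show Nat.card G = 5 ^ 1 * 12 by rw [hG]; norm_num) (by norm_num) P ▸ P.card_dvd_index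
  have hm : Nat.card (Sylow 5 G) % 5 = 1 % 5 := card_sylow_modEq_one 5 G
  have := Nat.le_of_dvd (by norm_num) h
  interval_cases h6 : Nat.card (Sylow 5 G) <;> omega

/-- With six Sylow `5`-subgroups there is a degree five. -/
theorem five_mem (hG : Nat.card G = 60) (h : Nat.card (Sylow 5 G) = 6) :
    5 ∈ Cfsg.degreePrimes G := by
  haveI := Fact.mk Nat.prime_five
  have hfix : ∀ P Q : Sylow 5 G, (∀ x ∈ (P : Subgroup G), x • Q = Q) → P = Q := fun P Q hPQ => by
    have hle : (P : Subgroup G) ≤ normalizer (Q : Set G) := fun x hx =>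
      Sylow.smul_eq_iff_mem_normalizer.mp (hPQ x hx)
    have h1 := P.isPGroup'.inf_normalizer_sylow Q
    rw [inf_eq_left.mpr hle] at h1
    exact Sylow.ext (P.is_maximal' Q.isPGroup' (inf_eq_left.mp h1.symm)).symm
  have h2 : MulAction.IsMultiplyPretransitive G (Sylow 5 G) 2 := by
    rw [MulAction.is_two_pretransitive_iff]
    intro a b c d hab hcd
    obtain ⟨g, hg⟩ := MulAction.exists_smul_eq G a c
    have hb : g • b ≠ c := fun e => hab (smul_left_cancel g (hg.trans e.symm))
    -- the orbit of `c` fills the complement of `c`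
    have horb : ∀ e : Sylow 5 G, e ≠ c → Nat.card (MulAction.orbit (c : Subgroup G) e) = 5 := by
      intro e he
      obtain ⟨k, hk⟩ := IsPGroup.iff_card.mp c.isPGroup'
      have hdvd : Nat.card (MulAction.orbit (c : Subgroup G) e) ∣ 5 ^ k := by
        rw [← hk, Nat.card_congr (MulAction.orbitEquivQuotientStabilizer (c : Subgroup G) e), ← Subgroup.index_eq_card]
        exact Subgroup.index_dvd_card _
      obtain ⟨j, -, hj⟩ := (Nat.dvd_prime_pow Nat.prime_five).mp hdvd
      have hle : Nat.card (MulAction.orbit (c : Subgroup G) e) ≤ 6 := h ▸ Nat.card_le_card_of_injective _ Subtype.val_injective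
      rcases j with _ | _ | j
      · exfalso
        refine he (hfix c e fun x hx => ?_).symm
        haveI := (Nat.card_eq_one_iff_unique.mp (hj.trans (pow_zero _))).1
        exact congrArg Subtype.val (Subsingleton.elim (⟨_, MulAction.mem_orbit e (⟨x, hx⟩ : (c : Subgroup G))⟩ : MulAction.orbit (c : Subgroup G) e) ⟨e, MulAction.mem_orbit_self e⟩)
      · exact hj.trans (pow_one _)
      · exfalso
        rw [hj, pow_succ, pow_succ] at hle
        have := Nat.one_le_pow j 5 (by norm_num)
        omega
    haveI : Finite (Sylow 5 G) := inferInstance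
    have hmem : d ∈ MulAction.orbit (c : Subgroup G) (g • b) := by
      by_contra hd
      have h7 : ({c, d} : Set (Sylow 5 G)).ncard + (MulAction.orbit (c : Subgroup G) (g • b)).ncard ≤ 6 := by
        rw [← Set.ncard_union_eq ?_ (Set.toFinite _) (Set.toFinite _)]
        · exact h ▸ Set.ncard_le_card _
        · rw [Set.disjoint_left]
          rintro x (rfl | hx) hxo
          · obtain ⟨y, hy⟩ := MulAction.mem_orbit_symm.mp hxo
            refine hb ?_
            rw [← hy]
            show (y : G) • x = x
            exact Sylow.smul_eq_iff_mem_normalizer.mpr (Subgroup.le_normalizer y.2)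
          · rw [Set.mem_singleton_iff] at hx; subst hx; exact hd hxo
      rw [Set.ncard_pair hcd, ← Nat.card_coe_set_eq, horb _ hb] at h7
      omega
    obtain ⟨y, hy⟩ := hmem
    refine ⟨(y : G) * g, ?_, ?_⟩
    · rw [mul_smul, hg]
      exact Sylow.smul_eq_iff_mem_normalizer.mpr (Subgroup.le_normalizer y.2)
    · rw [mul_smul]; exact hy
  have hirr := (Cfsg.Agent.S0157.result (G := G) (Sylow 5 G) (by rw [h]; norm_num)).mpr h2
  refine ⟨Nat.prime_five, 5, ⟨⟨_, hirr⟩, ?_⟩, dvd_rfl⟩
  have : MulAction.fixedBy (Sylow 5 G) (1 : G) = Set.univ := by ext x; simp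
  simp only [Cfsg.charDegree, this]
  rw [Nat.card_coe_set_eq, Set.ncard_univ, h]
  norm_num

/-- A Burnside complement leaves too little room for many Sylow subgroups. -/
theorem too_many {p q : ℕ} [Fact p.Prime] [Fact q.Prime] (S : Sylow p G)
    (hS : normalizer ((S : Subgroup G) : Set G) ≤ centralizer ((S : Subgroup G) : Set G))
    (hq : ¬ q ∣ Nat.card (S : Subgroup G)) {m j : ℕ} (hK : Nat.card G = q ^ j * m * Nat.card (S : Subgroup G))
    (hm : ¬ q ∣ m) : Nat.card (Sylow q G) ≤ m := by
  set K := (MonoidHom.transferSylow S hS).ker with hKdef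
  have hc := MonoidHom.ker_transferSylow_isComplement' S hS
  have hKc : Nat.card K = q ^ j * m := by
    have h1 := hc.card_mul_card
    rw [hK] at h1
    exact Nat.eq_of_mul_eq_mul_right Nat.card_pos h1
  have hle : ∀ Q : Sylow q G, (Q : Subgroup G) ≤ K := by
    intro Q x hx
    obtain ⟨k, hk⟩ := Q.isPGroup' ⟨x, hx⟩
    have h1 : x ^ q ^ k = 1 := congrArg Subtype.val hk
    have hcop : (q ^ k).Coprime K.index := by
      refine Nat.Coprime.pow_left _ ((Fact.out : q.Prime).coprime_iff_not_dvd.mpr ?_)
      rwa [hc.symm.index_eq_card]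
    rw [← QuotientGroup.eq_one_iff (N := K), ← orderOf_eq_one_iff]
    refine Nat.eq_one_of_dvd_coprimes hcop ?_ (by rw [Subgroup.index_eq_card]; exact orderOf_dvd_natCard _)
    exact orderOf_dvd_of_pow_eq_one (by rw [← QuotientGroup.mk_pow, h1, QuotientGroup.mk_one])
  have h1 : Nat.card (Sylow q G) ≤ Nat.card (Sylow q K) :=
    Nat.card_le_card_of_injective (fun Q => Q.subtype (hle Q)) fun P Q h => Sylow.subtype_injective h
  obtain ⟨Q⟩ := (inferInstance : Nonempty (Sylow q K))
  have hm0 : 0 < m := by
    rcases Nat.eq_zero_or_pos m with e | e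
    · exact absurd (e ▸ dvd_zero q) hm
    · exact e
  exact h1.trans (Nat.le_of_dvd hm0 (SmallOrders.index_sylow hKc hm Q ▸ Q.card_dvd_index))

theorem orders_of_six (hG : Nat.card G = 60) (h6 : Nat.card (Sylow 5 G) = 6) (g : G) :
    orderOf g ∈ ({1, 2, 3, 5} : Set ℕ) := by
  haveI := Fact.mk Nat.prime_five
  haveI := Fact.mk Nat.prime_three
  haveI := Fact.mk Nat.prime_two
  have hS3 : ∀ Q : Sylow 3 G, Nat.card (Q : Subgroup G) = 3 := fun Q =>
    (SmallOrders.card_sylow_subgroup (show Nat.card G = 3 ^ 1 * 20 by rw [hG]; norm_num) (by norm_num) Q).trans (by norm_num)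
  have hS5 : ∀ Q : Sylow 5 G, Nat.card (Q : Subgroup G) = 5 := fun Q =>
    (SmallOrders.card_sylow_subgroup (show Nat.card G = 5 ^ 1 * 12 by rw [hG]; norm_num) (by norm_num) Q).trans (by norm_num)
  -- centralizers of Sylow 5-subgroups
  have hC5 : ∀ P : Sylow 5 G, centralizer ((P : Subgroup G) : Set G) ≤ (P : Subgroup G) := by
    intro P
    have hN : Nat.card (normalizer ((P : Subgroup G) : Set G)) = 10 := by
      have h1 := (normalizer ((P : Subgroup G) : Set G)).card_mul_index
      rw [show (normalizer ((P : Subgroup G) : Set G)).index = 6 from P.card_eq_index_normalizer.symm.trans h6, hG] at h1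
      omega
    have hPC : (P : Subgroup G) ≤ centralizer ((P : Subgroup G) : Set G) := by
      haveI := isCyclic_of_prime_card (hS5 P)
      exact Subgroup.le_centralizer _
    have hCN : centralizer ((P : Subgroup G) : Set G) ≤ normalizer ((P : Subgroup G) : Set G) :=
      Subgroup.centralizer_le_normalizer _
    have hd : Nat.card (centralizer ((P : Subgroup G) : Set G)) ∣ 10 := hN ▸ Subgroup.card_dvd_of_le hCN
    have h5d : 5 ∣ Nat.card (centralizer ((P : Subgroup G) : Set G)) := (dvd_of_eq (hS5 P).symm).trans (Subgroup.card_dvd_of_le hPC)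
    by_contra hcon
    have h10 : Nat.card (centralizer ((P : Subgroup G) : Set G)) = 10 := by
      have hne : Nat.card (centralizer ((P : Subgroup G) : Set G)) ≠ 5 := fun e =>
        hcon (Subgroup.eq_of_le_of_card_ge hPC (by rw [e, hS5 P])).ge
      have := Nat.le_of_dvd (by norm_num) hd
      interval_cases h : Nat.card (centralizer ((P : Subgroup G) : Set G)) <;> omega
    have heq := Subgroup.eq_of_le_of_card_ge hCN (by rw [h10, hN])
    have h3 := too_many (q := 3) P heq.ge (by rw [hS5 P]; norm_num) (m := 4) (j := 1) (by rw [hG, hS5 P]; norm_num) (by norm_num)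
    -- a Sylow 5-subgroup fixes, hence centralizes, one of at most four Sylow 3-subgroups
    obtain ⟨Q0⟩ := (inferInstance : Nonempty (Sylow 3 G))
    obtain ⟨x, hx⟩ := exists_prime_orderOf_dvd_card' (G := (P : Subgroup G)) 5 (by rw [hS5 P])
    have hfix : (x : G) • Q0 = Q0 := by
      have hd5 : Nat.card (MulAction.orbit (zpowers (x : G)) Q0) ∣ 5 := by
        rw [Nat.card_congr (MulAction.orbitEquivQuotientStabilizer (zpowers (x : G)) Q0), ← Subgroup.index_eq_card]
        refine (Subgroup.index_dvd_card _).trans (dvd_of_eq ?_)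
        rw [Nat.card_zpowers, Subgroup.orderOf_coe, hx]
      have hle : Nat.card (MulAction.orbit (zpowers (x : G)) Q0) ≤ 4 :=
        (Nat.card_le_card_of_injective _ Subtype.val_injective).trans h3
      have h1 : Nat.card (MulAction.orbit (zpowers (x : G)) Q0) = 1 := by
        rcases (Nat.dvd_prime Nat.prime_five).mp hd5 with e | e <;> omega
      haveI := (Nat.card_eq_one_iff_unique.mp h1).1
      exact congrArg Subtype.val (Subsingleton.elim (⟨_, MulAction.mem_orbit Q0 (⟨(x : G), mem_zpowers _⟩ : zpowers (x : G))⟩ : MulAction.orbit (zpowers (x : G)) Q0) ⟨Q0, MulAction.mem_orbit_self Q0⟩)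
    obtain ⟨y, hy⟩ := exists_prime_orderOf_dvd_card' (G := (Q0 : Subgroup G)) 3 (by rw [hS3 Q0])
    have hyx : (x : G) * y * (x : G)⁻¹ ∈ (Q0 : Subgroup G) :=
      (Subgroup.mem_normalizer_iff.mp (Sylow.smul_eq_iff_mem_normalizer.mp hfix) (y : G)).mp y.2
    haveI := isCyclic_of_prime_card (hS3 Q0)
    have hgen : Subgroup.zpowers y = ⊤ := Subgroup.eq_top_of_card_eq _ (by rw [Nat.card_zpowers, hy, hS3 Q0])
    obtain ⟨k, hk, hke⟩ : ∃ k < 3, (y : G) ^ k = (x : G) * y * (x : G)⁻¹ := by
      have : (⟨_, hyx⟩ : (Q0 : Subgroup G)) ∈ Subgroup.zpowers y := hgen ▸ Subgroup.mem_top _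
      obtain ⟨k, hk⟩ := mem_powers_iff_mem_zpowers.mpr this
      refine ⟨k % 3, Nat.mod_lt _ (by norm_num), ?_⟩
      have := congrArg Subtype.val hk
      rw [show (y : G) ^ (k % 3) = (y : G) ^ (k % orderOf (y : G)) by rw [Subgroup.orderOf_coe, hy], pow_mod_orderOf]
      exact this
    have h5' : (x : G) ^ 5 = 1 := by
      have h := pow_orderOf_eq_one (x : G); rwa [Subgroup.orderOf_coe, hx] at h
    have hy3 : orderOf (y : G) = 3 := by rw [Subgroup.orderOf_coe, hy]
    have hiter : ∀ n : ℕ, (x : G) ^ n * y * ((x : G) ^ n)⁻¹ = (y : G) ^ (k ^ n) := by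
      intro n
      induction n with
      | zero => simp
      | succ n ih =>
        rw [pow_succ (x : G), pow_succ k, mul_inv_rev,
          show (x : G) ^ n * x * y * ((x : G)⁻¹ * ((x : G) ^ n)⁻¹) = (x : G) ^ n * ((x : G) * y * (x : G)⁻¹) * ((x : G) ^ n)⁻¹ by group,
          ← hke, ← conj_pow, ih, ← pow_mul]
    have h1 := hiter 5
    rw [h5', one_mul, inv_one, mul_one] at h1
    have hk1 : k = 1 := by
      interval_cases k
      · rw [zero_pow (by norm_num), pow_zero] at h1
        rw [h1, orderOf_one] at hy3; exact absurd hy3 (by norm_num)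
      · rfl
      · rw [← pow_mod_orderOf, hy3, show 2 ^ 5 % 3 = 2 from rfl] at h1
        have : (y : G) = 1 := by
          calc (y : G) = (y : G)⁻¹ * (y : G) ^ 2 := by rw [sq]; group
            _ = 1 := by rw [← h1, inv_mul_cancel]
        rw [this, orderOf_one] at hy3; exact absurd hy3 (by norm_num)
    rw [hk1, pow_one] at hke
    have hxgen : Subgroup.zpowers (x : G) = (P : Subgroup G) :=
      Subgroup.eq_of_le_of_card_ge (Subgroup.zpowers_le.mpr x.2) (by rw [Nat.card_zpowers, Subgroup.orderOf_coe, hx, hS5 P])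
    have hcomm : Commute (x : G) y := mul_inv_eq_iff_eq_mul.mp hke.symm
    have hyC : (y : G) ∈ centralizer ((P : Subgroup G) : Set G) := fun z hz => by
      obtain ⟨n, rfl⟩ := Subgroup.mem_zpowers_iff.mp (hxgen.ge hz)
      exact (hcomm.zpow_left n).eq
    have := Subgroup.card_dvd_of_le (Subgroup.zpowers_le.mpr hyC)
    rw [Nat.card_zpowers, hy3, h10] at this
    exact absurd this (by norm_num)
  -- element orders
  have hg60 : orderOf g ∣ 60 := hG ▸ orderOf_dvd_natCard g
  have h5g : 5 ∣ orderOf g → orderOf g = 5 := by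
    intro h5
    set x := g ^ (orderOf g / 5) with hx
    have hx5 : orderOf x = 5 := by
      rw [hx, orderOf_pow_of_dvd (Nat.div_pos (Nat.le_of_dvd (orderOf_pos g) h5) (by norm_num)).ne' (Nat.div_dvd_of_dvd h5),
        Nat.div_div_self h5 (orderOf_pos g).ne']
    obtain ⟨P, hP⟩ := (IsPGroup.of_card (n := 1) (by rw [Nat.card_zpowers, hx5, pow_one]) : IsPGroup 5 (zpowers x)).exists_le_sylow
    have hgen : zpowers x = (P : Subgroup G) := Subgroup.eq_of_le_of_card_ge hP (by rw [Nat.card_zpowers, hx5, hS5 P])
    have hgC : g ∈ centralizer ((P : Subgroup G) : Set G) := fun z hz => by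
      obtain ⟨n, rfl⟩ := Subgroup.mem_zpowers_iff.mp (hgen.ge hz)
      exact (((Commute.refl g).pow_left _).zpow_left n).eq
    have := Subgroup.card_dvd_of_le (Subgroup.zpowers_le.mpr (hC5 P hgC))
    rw [Nat.card_zpowers, hS5 P] at this
    exact ((Nat.dvd_prime Nat.prime_five).mp this).resolve_left fun e => by rw [e] at h5; norm_num at h5
  have h3g : 3 ∣ orderOf g → orderOf g = 3 := by
    intro h3
    set x := g ^ (orderOf g / 3) with hx
    have hx3 : orderOf x = 3 := by
      rw [hx, orderOf_pow_of_dvd (Nat.div_pos (Nat.le_of_dvd (orderOf_pos g) h3) (by norm_num)).ne' (Nat.div_dvd_of_dvd h3),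
        Nat.div_div_self h3 (orderOf_pos g).ne']
    obtain ⟨Q, hQ⟩ := (IsPGroup.of_card (n := 1) (by rw [Nat.card_zpowers, hx3, pow_one]) : IsPGroup 3 (zpowers x)).exists_le_sylow
    have hgen : zpowers x = (Q : Subgroup G) := Subgroup.eq_of_le_of_card_ge hQ (by rw [Nat.card_zpowers, hx3, hS3 Q])
    set C := centralizer ((Q : Subgroup G) : Set G) with hCdef
    set N := normalizer ((Q : Subgroup G) : Set G) with hNdef
    have hgC : g ∈ C := fun z hz => by
      obtain ⟨n, rfl⟩ := Subgroup.mem_zpowers_iff.mp (hgen.ge hz)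
      exact (((Commute.refl g).pow_left _).zpow_left n).eq
    have hno : ¬ N ≤ C := fun h => by
      have := too_many (q := 5) Q h (by rw [hS3 Q]; norm_num) (m := 4) (j := 1) (by rw [hG, hS3 Q]; norm_num) (by norm_num)
      omega
    have hCN : C ≤ N := Subgroup.centralizer_le_normalizer _
    have hQC : (Q : Subgroup G) ≤ C := by
      haveI := isCyclic_of_prime_card (hS3 Q)
      exact Subgroup.le_centralizer _
    have h5C : ¬ 5 ∣ Nat.card C := by
      intro h
      obtain ⟨c, hc⟩ := exists_prime_orderOf_dvd_card' (G := C) 5 h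
      obtain ⟨P, hP⟩ := (IsPGroup.of_card (n := 1) (by rw [Nat.card_zpowers, Subgroup.orderOf_coe, hc, pow_one]) : IsPGroup 5 (zpowers (c : G))).exists_le_sylow
      have hgen' : zpowers (c : G) = (P : Subgroup G) := Subgroup.eq_of_le_of_card_ge hP (by rw [Nat.card_zpowers, Subgroup.orderOf_coe, hc, hS5 P])
      have hcx : Commute (c : G) x := (c.2 x (hgen.le (mem_zpowers x))).symm
      have hxC : x ∈ centralizer ((P : Subgroup G) : Set G) := fun z hz => by
        obtain ⟨n, rfl⟩ := Subgroup.mem_zpowers_iff.mp (hgen'.ge hz)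
        exact (hcx.zpow_left n).eq
      have := Subgroup.card_dvd_of_le (Subgroup.zpowers_le.mpr (hC5 P hxC))
      rw [Nat.card_zpowers, hx3, hS5 P] at this
      exact absurd this (by norm_num)
    have hn3 : Nat.card (Sylow 3 G) = 10 := by
      have hd : Nat.card (Sylow 3 G) ∣ 20 := SmallOrders.index_sylow (show Nat.card G = 3 ^ 1 * 20 by rw [hG]; norm_num) (by norm_num) Q ▸ Q.card_dvd_index
      have hm : Nat.card (Sylow 3 G) % 3 = 1 % 3 := card_sylow_modEq_one 3 G
      have hl := Nat.le_of_dvd (by norm_num) hd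
      have hne : ∀ n, n ≤ 4 → Nat.card (Sylow 3 G) ≠ n := by
        intro n hn e
        obtain ⟨P0⟩ := (inferInstance : Nonempty (Sylow 5 G))
        -- `P0` fixes `Q`, so its order divides that of the normalizer, then of the centralizer
        have hfixQ : ∀ z ∈ (P0 : Subgroup G), z • Q = Q := by
          intro z hz
          have hd5 : Nat.card (MulAction.orbit (P0 : Subgroup G) Q) ∣ 5 := by
            rw [Nat.card_congr (MulAction.orbitEquivQuotientStabilizer (P0 : Subgroup G) Q), ← Subgroup.index_eq_card]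
            exact (Subgroup.index_dvd_card _).trans (dvd_of_eq (hS5 P0))
          have hle : Nat.card (MulAction.orbit (P0 : Subgroup G) Q) ≤ 4 :=
            (Nat.card_le_card_of_injective _ Subtype.val_injective).trans (e ▸ hn)
          have h1 : Nat.card (MulAction.orbit (P0 : Subgroup G) Q) = 1 := by
            rcases (Nat.dvd_prime Nat.prime_five).mp hd5 with e | e <;> omega
          haveI := (Nat.card_eq_one_iff_unique.mp h1).1
          exact congrArg Subtype.val (Subsingleton.elim (⟨_, MulAction.mem_orbit Q (⟨z, hz⟩ : (P0 : Subgroup G))⟩ : MulAction.orbit (P0 : Subgroup G) Q) ⟨Q, MulAction.mem_orbit_self Q⟩)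
        have h5N : 5 ∣ Nat.card N := (dvd_of_eq (hS5 P0).symm).trans <| Subgroup.card_dvd_of_le fun z hz => Sylow.smul_eq_iff_mem_normalizer.mp (hfixQ z hz)
        -- the automorphism group of `Q` has order two
        have hidx : Nat.card N ∣ Nat.card C * 2 := by
          haveI := isCyclic_of_prime_card (hS3 Q)
          have hker : (Q : Subgroup G).normalizerMonoidHom.ker = C.subgroupOf N := Subgroup.normalizerMonoidHom_ker _
          have h1 := Subgroup.card_eq_card_quotient_mul_card_subgroup (Q : Subgroup G).normalizerMonoidHom.ker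
          rw [h1, Nat.card_congr (QuotientGroup.quotientKerEquivRange _).toEquiv, hker,
            Nat.card_congr (Subgroup.subgroupOfEquivOfLe hCN).toEquiv, mul_comm]
          refine Nat.mul_dvd_mul_left _ ((Subgroup.card_subgroup_dvd_card _).trans (dvd_of_eq ?_))
          rw [Nat.card_congr (IsCyclic.mulAutMulEquiv (Q : Subgroup G)).toEquiv, hS3 Q, Nat.card_eq_fintype_card,
            ZMod.card_units_eq_totient, Nat.totient_prime Nat.prime_three]
        rcases Nat.prime_five.dvd_mul.mp (h5N.trans hidx) with h | h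
        · exact h5C h
        · norm_num at h
      interval_cases h : Nat.card (Sylow 3 G) <;> first | omega | exact absurd rfl (hne _ (by norm_num))
    have hN6 : Nat.card N = 6 := by
      have h1 := N.card_mul_index
      rw [show N.index = 10 from Q.card_eq_index_normalizer.symm.trans hn3, hG] at h1
      omega
    have hC3 : C = (Q : Subgroup G) := by
      refine (Subgroup.eq_of_le_of_card_ge hQC ?_).symm
      have hd := Subgroup.card_dvd_of_le hCN
      rw [hN6] at hd
      rw [hS3 Q]
      by_contra hh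
      exact hno (Subgroup.eq_of_le_of_card_ge hCN (by rw [hN6]; have := Nat.le_of_dvd (by norm_num) hd; interval_cases h : Nat.card C <;> omega)).ge
    have := Subgroup.card_dvd_of_le (Subgroup.zpowers_le.mpr (hC3.le hgC))
    rw [Nat.card_zpowers, hS3 Q] at this
    exact ((Nat.dvd_prime Nat.prime_three).mp this).resolve_left fun e => by rw [e] at h3; norm_num at h3
  have h4g : orderOf g ≠ 4 := by
    intro h4
    obtain ⟨S, hS⟩ := (IsPGroup.of_card (n := 2) (by rw [Nat.card_zpowers, h4]; norm_num) : IsPGroup 2 (zpowers g)).exists_le_sylow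
    have hS4 : Nat.card (S : Subgroup G) = 4 :=
      (SmallOrders.card_sylow_subgroup (show Nat.card G = 2 ^ 2 * 15 by rw [hG]; norm_num) (by norm_num) S).trans (by norm_num)
    have hgen : zpowers g = (S : Subgroup G) := Subgroup.eq_of_le_of_card_ge hS (by rw [Nat.card_zpowers, h4, hS4])
    have hcyc : IsCyclic (S : Subgroup G) := hgen ▸ (inferInstance : IsCyclic (zpowers g))
    have hmin : (Nat.card G).minFac = 2 := by rw [hG]; norm_num
    have := too_many (q := 5) S (hcyc.normalizer_le_centralizer hmin) (by rw [hS4]; norm_num) (m := 3) (j := 1) (by rw [hG, hS4]; norm_num) (by norm_num)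
    omega
  simp only [Set.mem_insert_iff, Set.mem_singleton_iff]
  have hle := Nat.le_of_dvd (by norm_num) hg60
  have hpos := orderOf_pos g
  generalize orderOf g = o at *
  interval_cases o <;> omega


/-- The character degree graph of a finite group has as vertices the primes dividing some irreducible complex character degree, two distinct primes being joined when their product divides some irreducible character degree; two groups have the same character degree graph when they have the same vertices and the same joined pairs. A finite group of order 60 with the same character degree graph as the alternating group A₅ (whose character degrees are 1, 3, 4, 5, so the graph has vertices 2, 3, 5 and no edges) is isomorphic to A₅. -/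
theorem result {G : Type*} [Group G] [Finite G] (hcard : Nat.card G = 60)
    (hΓ : Cfsg.degreePrimes G = Cfsg.degreePrimes (alternatingGroup (Fin 5)) ∧ Cfsg.degreeGraph G = Cfsg.degreeGraph (alternatingGroup (Fin 5))) : Nonempty (G ≃* alternatingGroup (Fin 5)) := by
  have hA : Nat.card (alternatingGroup (Fin 5)) = 60 := by
    rw [nat_card_alternatingGroup, Nat.card_fin]; rfl
  have hA5 : Nat.card (Sylow 5 (alternatingGroup (Fin 5))) = 6 := by
    refine (card_sylow_five hA).resolve_left fun h1 => ?_
    haveI := Fact.mk Nat.prime_five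
    haveI := (Nat.card_eq_one_iff_unique.mp h1).1
    obtain ⟨P⟩ := (inferInstance : Nonempty (Sylow 5 (alternatingGroup (Fin 5))))
    haveI : IsSimpleGroup (alternatingGroup (Fin 5)) := alternatingGroup.isSimpleGroup (by simp)
    have hc : Nat.card (P : Subgroup (alternatingGroup (Fin 5))) = 5 :=
      (SmallOrders.card_sylow_subgroup (show Nat.card (alternatingGroup (Fin 5)) = 5 ^ 1 * 12 by rw [hA]; norm_num) (by norm_num) P).trans (by norm_num)
    rcases (P.normal_of_subsingleton).eq_bot_or_eq_top with e | e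
    · rw [e, Subgroup.card_bot] at hc; norm_num at hc
    · rw [e, Subgroup.card_top, hA] at hc; norm_num at hc
  have h6 : Nat.card (Sylow 5 G) = 6 := (card_sylow_five hcard).resolve_left fun h1 =>
    not_five_mem hcard h1 (hΓ.1 ▸ five_mem hA hA5)
  exact PSL2.mulEquiv_alternatingFive hcard (orders_of_six hcard h6) (by rw [h6]; norm_num)

end Cfsg.Agent.S3669
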