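import Cfsg.Statements.S0494
import Cfsg.Agent.S3669
import Cfsg.Agent.Lib.PSL2.Groups

set_option autoImplicit false
open Cfsg

namespace Cfsg.Agent.S0494

/-- A simple group of order 60 is isomorphic to the alternating group of degree 5. -/
theorem result {G : Type*} [Group G] [Finite G] [IsSimpleGroup G]
    (h : Nat.card G = 60) : Nonempty (G ≃* alternatingGroup (Fin 5)) := by
  have := Fact.mk Nat.prime_five
  have hne : Nat.card (Sylow 5 G) ≠ 1 := (SmallOrders.one_lt_card_sylow
    (SmallOrders.not_isMulCommutative_of_card (by rw [h]; norm_num)) (by rw [h]; norm_num)).ne'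
  exact PSL2.mulEquiv_alternatingFive h
    (S3669.orders_of_six h ((S3669.card_sylow_five h).resolve_left hne)) hne

end Cfsg.Agent.S0494
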