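import Cfsg.Statements.S4503
import Cfsg.Agent.Lib.CyclicDefect.SmallDegree
import Cfsg.Agent.Lib.CentralChar.Fixed
import Cfsg.Agent.Lib.RealBlock.Central

set_option autoImplicit false
open Cfsg

namespace Cfsg.Agent.S4503

open Cfsg Cfsg.Agent.Blocks Cfsg.Agent.CyclicDefect

theorem apply_commutator {H : Type*} [Group H] [Finite H] (φ : IrrCharacter H) {x : H}
    (h : ‖(φ : H → ℂ) x‖ = (charDegree (φ : H → ℂ) : ℝ)) (g : H) :
    (φ : H → ℂ) (g * x * g⁻¹ * x⁻¹) = (φ : H → ℂ) 1 := by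
  obtain ⟨n, ρ, -, hρ⟩ := φ.2
  have hn : (charDegree (φ : H → ℂ) : ℂ) = (Module.finrank ℂ (Fin n → ℂ) : ℂ) := by
    rw [charDegree_cast, ← hρ, Representation.char_one]
  rw [Nat.cast_inj] at hn
  rw [hn, ← hρ] at h
  obtain ⟨ω, hω⟩ := (Char.norm_character_eq_iff ρ x).mp h
  have hc : ρ g * ρ x = ρ x * ρ g := by
    rw [hω, ← Module.End.one_eq_id, mul_smul_comm, smul_mul_assoc, mul_one, one_mul]
  rw [← hρ]
  refine congrArg (LinearMap.trace ℂ (Fin n → ℂ)) ?_
  rw [map_mul, map_mul, map_mul, hc, mul_assoc (ρ x), ← map_mul ρ g, mul_inv_cancel, map_one, mul_one,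
    ← map_mul, mul_inv_cancel, map_one]

/-- Let G be a finite group whose order is divisible by the prime p exactly once and which has no normal subgroup of order p. Then every faithful character χ of G has degree at least (p − 1)/2: 2·χ(1) + 1 ≥ p. -/
theorem result {G : Type*} [Group G] [Finite G] (p : ℕ) (hp : p.Prime) (hdiv : p ∣ Nat.card G) (hsq : ¬ p ^ 2 ∣ Nat.card G) (hnn : ∀ H : Subgroup G, H.Normal → Nat.card H ≠ p) (χ : G → ℂ) (hχ : Cfsg.IsCharacter G χ) (hfaith : ∀ g : G, χ g = χ 1 → g = 1) : p ≤ 2 * Cfsg.charDegree χ + 1 := by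
  classical
  have : Fact p.Prime := ⟨hp⟩
  have := Fintype.ofFinite G
  by_contra hlt
  push Not at hlt
  obtain ⟨x, hx⟩ := exists_prime_orderOf_dvd_card' p hdiv
  obtain ⟨L, hS⟩ := exists_setting hp hx hsq
  set S : Set G := {g : G | orderOf g = p}
  let H : Subgroup G := Subgroup.closure S
  let y : H := ⟨x, Subgroup.subset_closure hx⟩
  have hgen : Subgroup.closure {g : H | orderOf g = p} = ⊤ := by
    rw [← Subgroup.closure_closure_coe_preimage (k := S)]
    congr 1
    ext g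
    simp [S]
    rfl
  obtain ⟨L0, hS0⟩ := exists_setting hp ((Subgroup.orderOf_mk x _).trans hx : orderOf y = p)
    (fun h => hsq (h.trans (Subgroup.card_subgroup_dvd_card H)))
  obtain ⟨M, hM⟩ := CentralChar.exists_pModular p
  have := Fintype.ofFinite H
  have := Fintype.ofFinite (IrrCharacter H)
  obtain ⟨m, hm, -⟩ := Char.IsCharacter.decompose (Char.IsCharacter.comp_hom hχ H.subtype)
  have hdeg : ∀ φ : IrrCharacter H, m φ ≠ 0 → charDegree (φ : H → ℂ) ≤ charDegree χ := by
    intro φ hφ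
    have h1 := congrFun hm 1
    simp only [Finset.sum_apply, Pi.smul_apply, smul_eq_mul, map_one, ← charDegree_cast] at h1
    have h2 : charDegree χ = ∑ ψ : IrrCharacter H, m ψ * charDegree (ψ : H → ℂ) := by
      apply Nat.cast_injective (R := ℂ)
      push_cast
      rw [RealBlock.charDegree_cast hχ, h1]
    rw [h2]
    exact (Nat.le_mul_of_pos_left _ (Nat.pos_of_ne_zero hφ)).trans
      (Finset.single_le_sum (f := fun ψ => m ψ * charDegree (ψ : H → ℂ)) (fun _ _ => Nat.zero_le _)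
        (Finset.mem_univ φ))
  have hcomm : ∀ g : H, g * y * g⁻¹ * y⁻¹ = 1 := by
    intro g
    refine Subtype.ext (hfaith _ ?_)
    have h := (congrFun hm (g * y * g⁻¹ * y⁻¹)).trans
      (Eq.trans ?_ (congrFun hm 1).symm)
    · simpa using h
    simp only [Finset.sum_apply, Pi.smul_apply, smul_eq_mul]
    refine Finset.sum_congr rfl fun φ _ => ?_
    by_cases hφ : m φ = 0
    · simp [hφ]
    · have := hdeg φ hφ
      rcases norm_eq_or_half hS0 hM hgen φ (by omega) with h | ⟨h, -⟩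
      · rw [apply_commutator φ h g]
      · omega
  refine hnn (Subgroup.zpowers x) ⟨fun a ha c => ?_⟩ hS.card_zpowers_eq
  obtain ⟨i, rfl⟩ := Subgroup.mem_zpowers_iff.mp ha
  rw [← conj_zpow]
  refine Subgroup.zpow_mem _ (hS.mem_zpowers_of_pow_eq_one ?_ ?_) i
  · have hmem : c * x * c⁻¹ ∈ H := Subgroup.subset_closure (show orderOf (c * x * c⁻¹) = p by
      rw [SecondMain.orderOf_conj]; exact hx)
    have h := congrArg Subtype.val (hcomm ⟨_, hmem⟩)
    refine Subgroup.centralizer_le_normalizer _ (Subgroup.mem_centralizer_iff.mpr ?_)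
    intro u hu
    obtain ⟨j, rfl⟩ := Subgroup.mem_zpowers_iff.mp hu
    refine (Commute.zpow_left ?_ j).eq
    have h' : c * x * c⁻¹ * x * (c * x * c⁻¹)⁻¹ * x⁻¹ = 1 := h
    rw [mul_inv_eq_one, mul_inv_eq_iff_eq_mul] at h'
    exact h'.symm
  · rw [conj_pow, hS.pow_eq_one, mul_one, mul_inv_cancel]

end Cfsg.Agent.S4503
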