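import Cfsg.Statements.S0731
import Cfsg.Agent.Lib.Zassenhaus.AbelianKernel

set_option autoImplicit false
open Cfsg

namespace Cfsg.Agent.S0731

/-- A finite Zassenhaus group whose point stabiliser has an abelian regular normal subgroup on the remaining points is sharply triply transitive or isomorphic to `PSL(2, F)` for a finite field `F` of odd characteristic. -/
theorem result {G Ω : Type*} [Group G] [Finite G] [MulAction G Ω] [Finite Ω] (hZ : Cfsg.IsZassenhausGroup G Ω) (x : Ω) (F : Subgroup G) (hFle : F ≤ MulAction.stabilizer G x) (hFn : (F.subgroupOf (MulAction.stabilizer G x)).Normal) (hFab : IsMulCommutative F) (hreg : ∀ y z : Ω, y ≠ x → z ≠ x → ∃! u : F, (u : G) • y = z) : (MulAction.IsMultiplyPretransitive G Ω 3 ∧ ∀ t : Fin 3 ↪ Ω, MulAction.stabilizer G t = ⊥) ∨ ∃ (K : Type) (_ : Field K) (_ : Fintype K), ringChar K ≠ 2 ∧ Nonempty (G ≃* Matrix.ProjectiveSpecialLinearGroup (Fin 2) K) := by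
  classical
  haveI := Fintype.ofFinite Ω
  obtain ⟨b, hb⟩ := Zassenhaus.exists_ne' hZ x
  let φ : F → {y : Ω // y ≠ x} := fun u => ⟨(u : G) • b, fun h => hb
    (smul_left_cancel (u : G) (h.trans (show (u : G) • x = x from hFle u.2).symm))⟩
  have hφ : Function.Bijective φ := by
    constructor
    · intro u v h
      have h' : (u : G) • b = (v : G) • b := congrArg Subtype.val h
      exact (hreg b _ hb (φ u).2).unique rfl h'.symm
    · intro y
      obtain ⟨u, hu, _⟩ := hreg b y.1 hb y.2
      exact ⟨u, Subtype.ext hu⟩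
  have hn3 := Zassenhaus.three_le_card hZ
  have hcard : Nat.card F + 1 = Fintype.card Ω := by
    rw [Nat.card_eq_of_bijective φ hφ, Nat.card_eq_fintype_card, Fintype.card_subtype_compl,
      Fintype.card_subtype_eq]
    rw [Nat.card_eq_fintype_card] at hn3
    omega
  have hfix : ∀ u ∈ F, u ≠ 1 → ∀ c : Ω, u • c = c → c = x := by
    intro u hu hu1 c hc
    by_contra hca
    have := (hreg c c hca hca).unique (y₁ := (⟨u, hu⟩ : F)) (y₂ := 1) hc (one_smul G c)
    exact hu1 (congrArg Subtype.val this)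
  have hnorm : ∀ t ∈ MulAction.stabilizer G x, ∀ u ∈ F, t * u * t⁻¹ ∈ F := fun t ht u hu =>
    hFn.conj_mem (⟨u, hFle hu⟩ : MulAction.stabilizer G x) hu ⟨t, ht⟩
  rcases Zassenhaus.abelian_classify hZ hb.symm F hFle hnorm hcard hfix
      (fun u hu w hw => congrArg Subtype.val (hFab.1.1 ⟨u, hu⟩ ⟨w, hw⟩)) with h | ⟨p, f, K, iK, iF, hp, hp2, hK, hiso⟩
  · exact Or.inl h
  · refine Or.inr ⟨K, iK, iF, ?_, hiso⟩
    haveI := Fact.mk hp
    haveI : CharP K p := charP_of_card_eq_prime_pow hK
    rw [ringChar.eq K p]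
    exact hp2

end Cfsg.Agent.S0731
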