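import Cfsg.Statements.S0995
import Cfsg.Agent.EqLemmas

set_option autoImplicit false
open Cfsg

namespace Cfsg.Agent.S0995

/-- Let G be a finite perfect group containing an element z of prime order p whose centralizer is the cyclic group it generates. Let t be the number of conjugacy classes of elements of order p. Then t divides p - 1, the number of Sylow p-subgroups has the form 1 + n * p, and |G| * t = (p - 1) * p * (1 + n * p). -/
theorem result {G : Type*} [Group G] [Finite G] (hperf : commutator G = ⊤) (p : ℕ) [Fact p.Prime] (z : G) (hz : orderOf z = p) (hC : Subgroup.centralizer ({z} : Set G) = Subgroup.zpowers z) : ∃ n t : ℕ, t = Nat.card {c : ConjClasses G // ∃ g : G, ConjClasses.mk g = c ∧ orderOf g = p} ∧ t ∣ p - 1 ∧ Nat.card (Sylow p G) = 1 + n * p ∧ Nat.card G * t = (p - 1) * p * (1 + n * p) := by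
  classical
  haveI : Fintype G := Fintype.ofFinite G
  have hp : p.Prime := Fact.out
  have hzc : Nat.card (Subgroup.zpowers z) = p := by rw [Nat.card_zpowers, hz]
  -- a Sylow subgroup containing z
  obtain ⟨P, hzP⟩ := (IsPGroup.of_card (n := 1) (by rw [hzc, pow_one]) :
    IsPGroup p (Subgroup.zpowers z)).exists_le_sylow
  have hPcard : Nat.card (P : Subgroup G) = p := by
    have hnt : Nontrivial (P : Subgroup G) := by
      rw [← Finite.one_lt_card_iff_nontrivial]
      calc 1 < p := hp.one_lt
        _ ≤ Nat.card (P : Subgroup G) := hzc.symm.le.trans (Subgroup.card_le_of_le hzP)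
    haveI := P.isPGroup'.center_nontrivial
    obtain ⟨w, hw1⟩ := exists_ne (1 : Subgroup.center (P : Subgroup G))
    have hzmem : z ∈ (P : Subgroup G) := hzP (Subgroup.mem_zpowers z)
    have hwz : ((w : (P : Subgroup G)) : G) ∈ Subgroup.zpowers z := by
      rw [← hC, Subgroup.mem_centralizer_singleton_iff]
      exact (congrArg Subtype.val (Subgroup.mem_center_iff.mp w.2 ⟨z, hzmem⟩)).symm
    have hw1' : ((w : (P : Subgroup G)) : G) ≠ 1 := fun h => hw1 (Subtype.ext (Subtype.ext h))
    have hzw : Subgroup.zpowers ((w : (P : Subgroup G)) : G) = Subgroup.zpowers z :=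
      Subgroup.eq_of_le_of_card_ge (Subgroup.zpowers_le.mpr hwz) (by
        rw [hzc]
        exact le_of_eq ((orderOf_eq_prime (by
          exact orderOf_dvd_iff_pow_eq_one.mp ((orderOf_dvd_of_mem_zpowers hwz).trans hz.dvd)) hw1').symm.trans
          (Nat.card_zpowers _).symm))
    have hle : (P : Subgroup G) ≤ Subgroup.zpowers z := by
      intro u hu
      have hcomm : u * ((w : (P : Subgroup G)) : G) = ((w : (P : Subgroup G)) : G) * u :=
        congrArg Subtype.val (Subgroup.mem_center_iff.mp w.2 ⟨u, hu⟩)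
      obtain ⟨k, hk⟩ := Subgroup.mem_zpowers_iff.mp (hzw ▸ Subgroup.mem_zpowers z :
        z ∈ Subgroup.zpowers ((w : (P : Subgroup G)) : G))
      rw [← hC, Subgroup.mem_centralizer_singleton_iff, ← hk]
      exact (Commute.zpow_right hcomm k).eq
    rw [le_antisymm hle hzP, hzc]
  have hsyl : ∀ Q : Sylow p G, Nat.card (Q : Subgroup G) = p := fun Q =>
    (Nat.card_congr (Sylow.equiv Q P).toEquiv).trans hPcard
  -- the elements of order p
  have hgen : ∀ (Q : Sylow p G) (x : G), x ∈ (Q : Subgroup G) → x ≠ 1 →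
      orderOf x = p ∧ Subgroup.zpowers x = (Q : Subgroup G) := by
    intro Q x hx hx1
    have h1 : orderOf x ∣ p := (Subgroup.orderOf_dvd_natCard _ hx).trans (hsyl Q).dvd
    have h2 : orderOf x = p := ((Nat.dvd_prime hp).mp h1).resolve_left (by simpa using hx1)
    exact ⟨h2, Subgroup.eq_of_le_of_card_ge (Subgroup.zpowers_le.mpr hx)
      (by rw [hsyl Q, Nat.card_zpowers, h2])⟩
  let X := {x : G // orderOf x = p}
  have hX : Nat.card X = Nat.card (Sylow p G) * (p - 1) := by
    let f : (Σ Q : Sylow p G, {x : (Q : Subgroup G) // x ≠ 1}) → X := fun s =>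
      ⟨((s.2.1 : G)), (hgen s.1 s.2.1 s.2.1.2 (fun h => s.2.2 (Subtype.ext h))).1⟩
    have hbij : Function.Bijective f := by
      constructor
      · rintro ⟨Q, x⟩ ⟨R, y⟩ hxy
        have hxy' : (x.1 : G) = (y.1 : G) := congrArg Subtype.val hxy
        have hQ := (hgen Q x.1 x.1.2 (fun h => x.2 (Subtype.ext h))).2
        have hR := (hgen R y.1 y.1.2 (fun h => y.2 (Subtype.ext h))).2
        have hQR : Q = R := Sylow.ext (by rw [← hQ, ← hR, hxy'])
        subst hQR
        simp only [Sigma.mk.injEq, heq_eq_eq, true_and]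
        exact Subtype.ext (Subtype.ext hxy')
      · rintro ⟨x, hx⟩
        obtain ⟨Q, hQ⟩ := (IsPGroup.of_card (n := 1) (by rw [Nat.card_zpowers, hx, pow_one]) :
          IsPGroup p (Subgroup.zpowers x)).exists_le_sylow
        refine ⟨⟨Q, ⟨⟨x, hQ (Subgroup.mem_zpowers x)⟩, fun h => ?_⟩⟩, rfl⟩
        have hx' : x = 1 := congrArg Subtype.val h
        rw [hx', orderOf_one] at hx
        exact hp.one_lt.ne hx
    rw [← Nat.card_congr (Equiv.ofBijective f hbij)]
    haveI : Fintype (Sylow p G) := Fintype.ofFinite _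
    rw [Nat.card_sigma]
    rw [Finset.sum_congr rfl (fun Q _ => ?_), Finset.sum_const, Finset.card_univ,
      Nat.card_eq_fintype_card, smul_eq_mul]
    haveI : Fintype (Q : Subgroup G) := Fintype.ofFinite _
    rw [Nat.card_eq_fintype_card, Fintype.card_subtype_compl (fun x => x = (1 : (Q : Subgroup G))),
      ← Nat.card_eq_fintype_card, hsyl Q]
    simp
  -- classes
  let T := {c : ConjClasses G // ∃ g : G, ConjClasses.mk g = c ∧ orderOf g = p}
  have hclass : ∀ c : T, Nat.card c.1.carrier * p = Nat.card G := by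
    rintro ⟨c, g, rfl, hg⟩
    obtain ⟨Q, hQ⟩ := (IsPGroup.of_card (n := 1) (by rw [Nat.card_zpowers, hg, pow_one]) :
      IsPGroup p (Subgroup.zpowers g)).exists_le_sylow
    obtain ⟨u, hu⟩ := MulAction.exists_smul_eq G P Q
    have hg1 : g ≠ 1 := fun h => hp.one_lt.ne (by rw [← hg, h, orderOf_one])
    have hgQ := (hgen Q g (hQ (Subgroup.mem_zpowers g)) hg1).2
    have hgm : g ∈ ((u • P : Sylow p G) : Subgroup G) := hu ▸ hQ (Subgroup.mem_zpowers g)
    rw [Sylow.coe_subgroup_smul, Subgroup.pointwise_smul_def] at hgm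
    obtain ⟨w, hw, hwg⟩ := hgm
    have hwg' : u * w * u⁻¹ = g := hwg
    have hw1 : w ≠ 1 := fun h => hg1 (by rw [← hwg', h]; group)
    have hwP := (hgen P w hw hw1).2
    have hPz : (P : Subgroup G) = Subgroup.zpowers z :=
      (Subgroup.eq_of_le_of_card_ge hzP (by rw [hzc, hPcard])).symm
    have hcent : Subgroup.centralizer ({w} : Set G) = Subgroup.zpowers w := by
      rw [hwP, hPz, ← hC]
      ext v
      simp only [Subgroup.mem_centralizer_singleton_iff]
      constructor
      · intro hv
        obtain ⟨k, hk⟩ := Subgroup.mem_zpowers_iff.mp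
          (hwP.symm ▸ hzP (Subgroup.mem_zpowers z) : z ∈ Subgroup.zpowers w)
        rw [← hk]; exact (Commute.zpow_right hv k).eq
      · intro hv
        obtain ⟨k, hk⟩ := Subgroup.mem_zpowers_iff.mp (hPz ▸ hw : w ∈ Subgroup.zpowers z)
        rw [← hk]; exact (Commute.zpow_right hv k).eq
    have hmk : ConjClasses.mk g = ConjClasses.mk w :=
      ConjClasses.mk_eq_mk_iff_isConj.mpr (isConj_iff.mpr ⟨u, hwg'⟩).symm
    have horb : (ConjClasses.mk w).carrier = MulAction.orbit (ConjAct G) w := by
      ext y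
      rw [ConjClasses.mem_carrier_iff_mk_eq, ConjClasses.mk_eq_mk_iff_isConj, ConjAct.mem_orbit_conjAct]
    have hstab : MulAction.stabilizer (ConjAct G) w
        = (Subgroup.centralizer ({w} : Set G)).map ConjAct.toConjAct.toMonoidHom := by
      ext y
      simp only [MulAction.mem_stabilizer_iff, Subgroup.mem_map, SetLike.mem_coe]
      constructor
      · intro hy
        refine ⟨ConjAct.ofConjAct y, ?_, rfl⟩
        simp only [SetLike.mem_coe, Subgroup.mem_centralizer_singleton_iff]
        rw [ConjAct.smul_def, mul_inv_eq_iff_eq_mul] at hy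
        exact hy
      · rintro ⟨v, hv, rfl⟩
        simp only [SetLike.mem_coe, Subgroup.mem_centralizer_singleton_iff] at hv
        show ConjAct.toConjAct v • w = w
        rw [ConjAct.toConjAct_smul, hv]; group
    show Nat.card (ConjClasses.mk g).carrier * p = Nat.card G
    rw [hmk, horb, Nat.card_coe_set_eq, ← MulAction.index_stabilizer]
    have hcp : Nat.card (MulAction.stabilizer (ConjAct G) w) = p := by
      rw [hstab, ← (hgen P w hw hw1).1, ← Nat.card_zpowers, ← hcent]
      exact (Nat.card_congr (Subgroup.equivMapOfInjective _ _ ConjAct.toConjAct.injective).toEquiv).symm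
    conv_lhs => rw [← hcp]
    rw [Subgroup.index_mul_card]
    exact Nat.card_congr ConjAct.ofConjAct.toEquiv
  have hXT : Nat.card X * p = Nat.card T * Nat.card G := by
    let f : (Σ c : T, c.1.carrier) → X := fun s => ⟨(s.2 : G), by
      obtain ⟨g, hg, hgo⟩ := s.1.2
      have : IsConj g (s.2 : G) := ConjClasses.mk_eq_mk_iff_isConj.mp
        (hg.trans (ConjClasses.mem_carrier_iff_mk_eq.mp s.2.2).symm)
      obtain ⟨u, hu⟩ := isConj_iff.mp this
      rw [← hu, ← hgo]
      exact orderOf_injective (MulAut.conj u).toMonoidHom (MulAut.conj u).injective g⟩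
    have hbij : Function.Bijective f := by
      constructor
      · rintro ⟨c, x⟩ ⟨d, y⟩ hxy
        have hxy' : (x : G) = (y : G) := congrArg Subtype.val hxy
        have hcd : c = d := Subtype.ext (by
          rw [← ConjClasses.mem_carrier_iff_mk_eq.mp x.2, ← ConjClasses.mem_carrier_iff_mk_eq.mp y.2, hxy'])
        subst hcd
        simp only [Sigma.mk.injEq, heq_eq_eq, true_and]
        exact Subtype.ext hxy'
      · rintro ⟨x, hx⟩
        exact ⟨⟨⟨ConjClasses.mk x, x, rfl, hx⟩, ⟨x, ConjClasses.mem_carrier_mk⟩⟩, rfl⟩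
    haveI : Fintype T := Fintype.ofFinite _
    rw [← Nat.card_congr (Equiv.ofBijective f hbij), Nat.card_sigma, Finset.sum_mul]
    rw [Finset.sum_congr rfl (fun c _ => hclass c), Finset.sum_const, Finset.card_univ,
      smul_eq_mul, ← Nat.card_eq_fintype_card]
  obtain ⟨n, hn⟩ : ∃ n, Nat.card (Sylow p G) = 1 + n * p := by
    have h := card_sylow_modEq_one p G
    have hpos : 1 ≤ Nat.card (Sylow p G) := Nat.one_le_iff_ne_zero.mpr Nat.card_pos.ne'
    obtain ⟨n, hn⟩ := (Nat.modEq_iff_dvd' hpos).mp h.symm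
    exact ⟨n, by rw [mul_comm n p]; omega⟩
  have hmain : Nat.card G * Nat.card T = (p - 1) * p * (1 + n * p) := by
    calc Nat.card G * Nat.card T = Nat.card X * p := by rw [hXT]; ring
      _ = Nat.card (Sylow p G) * (p - 1) * p := by rw [hX]
      _ = (p - 1) * p * (1 + n * p) := by rw [hn]; ring
  refine ⟨n, Nat.card T, rfl, ?_, hn, hmain⟩
  -- divisibility through the normaliser
  set N := Subgroup.normalizer ((P : Subgroup G) : Set G)
  have hidx : Nat.card (Sylow p G) * Nat.card N = Nat.card G := by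
    rw [Sylow.card_eq_index_normalizer P]; exact Subgroup.index_mul_card _
  obtain ⟨k, hk⟩ : p ∣ Nat.card N := hPcard.symm.dvd.trans (Subgroup.card_dvd_of_le Subgroup.le_normalizer)
  refine ⟨k, ?_⟩
  apply Nat.eq_of_mul_eq_mul_left (Nat.mul_pos (by omega : 0 < 1 + n * p) hp.pos)
  calc (1 + n * p) * p * (p - 1) = Nat.card G * Nat.card T := by rw [hmain]; ring
    _ = (1 + n * p) * p * (Nat.card T * k) := by rw [← hidx, hn, hk]; ring


end Cfsg.Agent.S0995
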