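import Cfsg.Statements.S1225
import Cfsg.Agent.Lib.Involution.SEOrbit

set_option autoImplicit false
open Cfsg

namespace Cfsg.Agent.S1225

/-- Let H be a strongly embedded subgroup of the finite group G, u an involution outside H and D = H ∩ uHu⁻¹. Then any two involutions of H are conjugate by an element of D, and any two involutions of G are conjugate in G. -/
theorem result {G : Type*} [Group G] [Finite G] (H : Subgroup G) (hH : Cfsg.IsStronglyEmbedded H) (u : G) (hu : orderOf u = 2) (huH : u ∉ H) (s t : G) (hs : orderOf s = 2) (hsH : s ∈ H) (ht : orderOf t = 2) (htH : t ∈ H) : (∃ d ∈ (H ⊓ H.map (MulAut.conj u).toMonoidHom), d * s * d⁻¹ = t) ∧ ∀ a b : G, orderOf a = 2 → orderOf b = 2 → IsConj a b := by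
  refine ⟨?_, fun a b ha hb => Involution.isConj_involutions hH ha hb⟩
  have hone : ∀ g : G, g • ((1 : G) : G ⧸ H) = ((1 : G) : G ⧸ H) ↔ g ∈ H := fun g => by
    rw [Involution.smul_mk_eq_iff]; simp
  have hne : ((1 : G) : G ⧸ H) ≠ (u : G ⧸ H) := fun h => huH (by
    rw [QuotientGroup.eq, inv_one, one_mul] at h; exact h)
  obtain ⟨d, hd, hdst⟩ := Involution.exists_conj_two_point hH hne hs ((hone s).2 hsH) ht ((hone t).2 htH)
  refine ⟨d, ⟨(hone d).1 (MulAction.mem_stabilizer_iff.1 hd.1), Involution.mem_map_conj_iff.2 ?_⟩, hdst⟩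
  exact (Involution.smul_mk_eq_iff d u).1 (MulAction.mem_stabilizer_iff.1 hd.2)

end Cfsg.Agent.S1225
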