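import Cfsg.Statements.S1245
import Cfsg.Agent.Lib.AbelianTwoPSL.Small
-- import your own Cfsg.Agent.* helpers here

set_option autoImplicit false
open Cfsg

namespace Cfsg.Agent.S1245

/-- Let G be a non-abelian finite simple group with commutative Sylow 2-subgroups, and t an involution whose centralizer is the internal direct product of ⟨t⟩ and a subgroup E which has a normal subgroup E₀ ≅ PSL(2,F), |F| odd, with C_E(E₀) = 1 (so PSL(2,q) ≤ E ≤ Aut PSL(2,q)). Then C_G(t) is a maximal subgroup of G. -/
theorem result {G : Type*} [Group G] [Finite G] [IsSimpleGroup G] (hna : ¬ IsMulCommutative G) (S : Sylow 2 G) (hS : IsMulCommutative (S : Subgroup G)) (t : G) (ht : orderOf t = 2) (E E₀ : Subgroup G) (hprod : Cfsg.IsInternalDirectProduct (Subgroup.zpowers t) E (Subgroup.centralizer ({t} : Set G))) (hE₀E : E₀ ≤ E) (hE₀n : (E₀.subgroupOf E).Normal) (hE₀ : ∃ (F : Type) (_ : Field F) (_ : Fintype F), Odd (Fintype.card F) ∧ Nonempty (E₀ ≃* Matrix.ProjectiveSpecialLinearGroup (Fin 2) F)) (hCE : E ⊓ Subgroup.centralizer (E₀ :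 Set G) = ⊥) : IsCoatom (Subgroup.centralizer ({t} : Set G)) := by
  obtain ⟨A, V, f⟩ := (AbelianTwoPSL.Ctx.of_statement S hS ht hprod hE₀E hE₀n hE₀ hCE).exists_frame
  refine ⟨fun htop => ?_, fun M hlt => ?_⟩
  · have hcen : t ∈ Subgroup.center G := Subgroup.mem_center_iff.2 fun g =>
      Involution.mem_centralizer_iff_commute.1
        (htop ▸ Subgroup.mem_top g : g ∈ Subgroup.centralizer ({t} : Set G))
    rw [SmallOrders.center_eq_bot hna, Subgroup.mem_bot] at hcen
    exact Involution.ne_one ht hcen
  · by_contra hne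
    have hM : ∀ c, Commute c t → c ∈ M := fun c hc =>
      hlt.le (Involution.mem_centralizer_iff_commute.2 hc)
    rcases f.fixed_or_transitive hM with h | h
    · exact hlt.not_ge fun m hm =>
        Involution.mem_centralizer_iff_commute.2 (f.le_centralizer hna hM h hm)
    · exact f.not_stronglyEmbedded hna hM h (f.stronglyEmbedded hM hne h)

end Cfsg.Agent.S1245
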