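import Cfsg.Statements.S1169
import Cfsg.Agent.Lib.Goldschmidt.General.Final
import Cfsg.Agent.Lib.Goldschmidt.ThreeInv.Assembly
import Cfsg.Agent.Lib.Goldschmidt.ThreeInv.Primes
import Cfsg.Agent.Lib.Goldschmidt.ThreeInv.Cent.Main
import Cfsg.Agent.Lib.Goldschmidt.ThreeInv.Cent.CoreCent
import Cfsg.Agent.Lib.Goldschmidt.ThreeInv.Cent.PowFour
import Cfsg.Agent.Lib.Goldschmidt.ThreeInv.Chars.Main
-- import your own Cfsg.Agent.* helpers here

set_option autoImplicit false
open Cfsg

namespace Cfsg.Agent.S1169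

/-- Goldschmidt's Theorem on strongly closed abelian 2-subgroups: let G be a finite simple group and S a Sylow 2-subgroup of G containing a nontrivial commutative subgroup A that is strongly closed in S. Then either S is commutative or G possesses a strongly embedded subgroup. -/
theorem result {G : Type*} [Group G] [Finite G] [IsSimpleGroup G] (S : Sylow 2 G) (A : Subgroup G) (hA : A ≠ ⊥) (hAcomm : IsMulCommutative A) (hsc : Cfsg.IsStronglyClosed A (S : Subgroup G)) : IsMulCommutative (S : Subgroup G) ∨ ∃ H : Subgroup G, Cfsg.IsStronglyEmbedded H :=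
  Cfsg.Agent.Goldschmidt.General.goldschmidt_of
    (Cfsg.Agent.Goldschmidt.ThreeInv.threeInvTarget_of
      Cfsg.Agent.Goldschmidt.ThreeInv.Primes.primesTarget
      (Cfsg.Agent.Goldschmidt.ThreeInv.centralisersTarget_of
        Cfsg.Agent.Goldschmidt.ThreeInv.coreCentTarget
        Cfsg.Agent.Goldschmidt.ThreeInv.powFourTarget)
      Cfsg.Agent.Goldschmidt.ThreeInv.charsTarget)
    S A hA hAcomm hsc

end Cfsg.Agent.S1169
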