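import Cfsg.Statements.S0257
import Cfsg.Agent.Lib.Linear.GenTools
import Cfsg.Agent.Lib.GLOrder.Basic

set_option autoImplicit false
open Cfsg

namespace Cfsg.Agent.S0257

/-- An element of order four. -/
def quatGenA : Matrix.SpecialLinearGroup (Fin 2) (ZMod 3) := ⟨!![0, 2; 1, 0], by decide⟩

/-- An element of order four anticommuting with `quatGenA`. -/
def quatGenB : Matrix.SpecialLinearGroup (Fin 2) (ZMod 3) := ⟨!![1, 1; 1, 2], by decide⟩

/-- Powers of an element of order four with the same square. -/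
def quatA (i : ZMod (2 * 2)) : Matrix.SpecialLinearGroup (Fin 2) (ZMod 3) :=
  quatGenA ^ i.val

/-- The quaternion group inside `SL_2(3)`. -/
def quatMap : QuaternionGroup 2 → Matrix.SpecialLinearGroup (Fin 2) (ZMod 3)
  | .a i => quatA i
  | .xa i => quatGenB * quatA i

theorem quatMap_mul : ∀ x y, quatMap (x * y) = quatMap x * quatMap y := by
  rintro (i | i) (j | j) <;> revert i j <;> decide +kernel

theorem quatMap_injective : Function.Injective quatMap := by
  rintro (i | i) (j | j) <;> revert i j <;> decide +kernel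

theorem pow_four_mem : ∀ g : Matrix.SpecialLinearGroup (Fin 2) (ZMod 3), g ^ 4 = 1 →
    ∃ i, g = quatMap (.a i) ∨ g = quatMap (.xa i) := by
  decide +kernel

theorem quatMap_pow_four : ∀ x, quatMap x ^ 4 = 1 := by
  rintro (i | i) <;> revert i <;> decide +kernel


/-- SL_2(3) has a normal subgroup of index 3 isomorphic to the quaternion group of order 8, and its centre has order 2. -/
theorem result {F : Type*} [Field F] [Fintype F] (hF : Fintype.card F = 3) : (∃ Q : Subgroup (Matrix.SpecialLinearGroup (Fin 2) F), Q.Normal ∧ Q.index = 3 ∧ Nonempty (Q ≃* QuaternionGroup 2)) ∧ Nat.card (Subgroup.center (Matrix.SpecialLinearGroup (Fin 2) F)) = 2 := by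
  let φ : QuaternionGroup 2 →* Matrix.SpecialLinearGroup (Fin 2) (ZMod 3) :=
    MonoidHom.mk' quatMap quatMap_mul
  let e : Matrix.SpecialLinearGroup (Fin 2) (ZMod 3) ≃* Matrix.SpecialLinearGroup (Fin 2) F :=
    Cfsg.Agent.Linear.slMapEquiv (ZMod.ringEquivOfPrime F Nat.prime_three hF)
  have hn : φ.range.Normal := by
    refine ⟨fun g hg h => ?_⟩
    obtain ⟨x, rfl⟩ := hg
    have h4 : (h * φ x * h⁻¹) ^ 4 = 1 := by
      rw [conj_pow, show φ x ^ 4 = 1 from quatMap_pow_four x, mul_one, mul_inv_cancel]
    obtain ⟨i, hi | hi⟩ := pow_four_mem _ h4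
    · exact ⟨.a i, hi.symm⟩
    · exact ⟨.xa i, hi.symm⟩
  have hc : Nat.card φ.range = 8 := by
    rw [← Nat.card_congr (MonoidHom.ofInjective (show Function.Injective φ from quatMap_injective)).toEquiv,
      Nat.card_eq_fintype_card, QuaternionGroup.card]
  refine ⟨⟨φ.range.map e.toMonoidHom, hn.map _ e.surjective, ?_, ?_⟩, ?_⟩
  · rw [MulEquiv.toMonoidHom_eq_coe, Subgroup.index_map_equiv]
    have h := φ.range.card_mul_index
    rw [hc, Cfsg.Agent.GLOrder.card_SL_two, Nat.card_zmod] at h
    omega
  · exact ⟨(φ.range.equivMapOfInjective _ e.injective).symm.trans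
      (MonoidHom.ofInjective (show Function.Injective φ from quatMap_injective)).symm⟩
  · rw [Cfsg.Agent.GLOrder.card_center_SL, Nat.card_eq_fintype_card, hF, Fintype.card_fin]
    rfl

end Cfsg.Agent.S0257
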