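import Cfsg.Statements.S5112
import Cfsg.Agent.EqLemmas

set_option autoImplicit false
open Cfsg

namespace Cfsg.Agent.S5112

theorem aut_isPGroup {G : Type*} [Group G] {k : ℕ} (hk : 3 ≤ k) (r : G)
    (hr : orderOf r = 2 ^ k) (hidx : (Subgroup.zpowers r).index = 2)
    (hout : ∀ x : G, x ∉ Subgroup.zpowers r → x ^ 4 = 1) : IsPGroup 2 (MulAut G) := by
  intro α
  have hmem : ∀ f : MulAut G, f r ∈ Subgroup.zpowers r := by
    intro f
    by_contra h
    have h1 := orderOf_dvd_of_pow_eq_one (hout _ h)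
    rw [MulEquiv.orderOf_eq, hr] at h1
    have : 2 ^ 3 ≤ 2 ^ k := Nat.pow_le_pow_right (by norm_num) hk
    have := Nat.le_of_dvd (by norm_num) h1
    omega
  have hfin : IsOfFinOrder r := by
    rw [← orderOf_pos_iff, hr]; positivity
  obtain ⟨u, hu⟩ : ∃ u : ℕ, r ^ u = α r := hfin.mem_powers_iff_mem_zpowers.mpr (hmem α)
  have hpowα : ∀ m : ℕ, (α ^ m) r = r ^ (u ^ m) := by
    intro m
    induction m with
    | zero => simp
    | succ m ih => rw [pow_succ', MulAut.mul_apply, ih, map_pow, ← hu, ← pow_mul, ← pow_succ']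
  have hcop : Nat.Coprime u (2 ^ k) := by
    have : orderOf (r ^ u) = 2 ^ k := by rw [hu, MulEquiv.orderOf_eq, hr]
    rw [hfin.orderOf_pow, hr, Nat.div_eq_self] at this
    rcases this with h | h
    · exact absurd h (by positivity)
    · rwa [Nat.coprime_comm, Nat.coprime_iff_gcd_eq_one]
  set β : MulAut G := α ^ 2 ^ (k - 1) with hβ
  have hβr : β r = r := by
    rw [hβ, hpowα]
    have hmod : u ^ 2 ^ (k - 1) ≡ 1 [MOD 2 ^ k] := by
      have := Nat.ModEq.pow_totient hcop
      rwa [Nat.totient_prime_pow Nat.prime_two (by omega), Nat.add_one_sub_one, mul_one] at this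
    have := (pow_eq_pow_iff_modEq (x := r)).mpr (hr.symm ▸ hmod)
    simpa using this
  have hβR : ∀ y ∈ Subgroup.zpowers r, β y = y := by
    rintro _ ⟨z, rfl⟩
    show β (r ^ z) = r ^ z
    rw [map_zpow, hβr]
  refine ⟨k - 1 + k, ?_⟩
  rw [pow_add, pow_mul, ← hβ]
  ext x
  rw [MulAut.one_apply]
  by_cases hx : x ∈ Subgroup.zpowers r
  · have : ∀ m : ℕ, (β ^ m) x = x := by
      intro m
      induction m with
      | zero => simp
      | succ m ih => rw [pow_succ', MulAut.mul_apply, ih, hβR x hx]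
    exact this _
  · have hc : x⁻¹ * β x ∈ Subgroup.zpowers r := by
      rw [Subgroup.mul_mem_iff_of_index_two hidx, inv_mem_iff]
      refine iff_of_false hx fun h => hx ?_
      have h2 := hβR _ h
      rwa [β.injective h2] at h
    have : ∀ m : ℕ, (β ^ m) x = x * (x⁻¹ * β x) ^ m := by
      intro m
      induction m with
      | zero => simp
      | succ m ih =>
        rw [pow_succ' β, MulAut.mul_apply, ih, map_mul, hβR _ (pow_mem hc m), pow_succ',
          ← mul_assoc x, mul_inv_cancel_left x (β x)]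
    rw [this]
    obtain ⟨z, hz⟩ := hc
    rw [← (show r ^ z = x⁻¹ * β x from hz), ← zpow_natCast, zpow_comm, zpow_natCast, ← hr,
      pow_orderOf_eq_one, one_zpow, mul_one]

theorem aut_dihedral (k : ℕ) (hk : 3 ≤ k) : IsPGroup 2 (MulAut (DihedralGroup (2 ^ k))) := by
  have hnz : NeZero (2 ^ k) := ⟨by positivity⟩
  refine aut_isPGroup hk (DihedralGroup.r 1) DihedralGroup.orderOf_r_one ?_ ?_
  · have h := Subgroup.card_mul_index (Subgroup.zpowers (DihedralGroup.r 1 : DihedralGroup (2 ^ k)))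
    rw [Nat.card_zpowers, DihedralGroup.orderOf_r_one, DihedralGroup.nat_card] at h
    exact Nat.eq_of_mul_eq_mul_left (by positivity : 0 < 2 ^ k) (by linarith)
  · rintro (i | i) hx
    · exact absurd ⟨(i.val : ℤ), by simp⟩ hx
    · rw [show (4 : ℕ) = 2 * 2 by rfl, pow_mul, pow_two (DihedralGroup.sr i), DihedralGroup.sr_mul_self, one_pow]

theorem aut_quaternion (j : ℕ) (hj : 2 ≤ j) : IsPGroup 2 (MulAut (QuaternionGroup (2 ^ j))) := by
  have hnz : NeZero (2 ^ j) := ⟨by positivity⟩
  refine aut_isPGroup (k := j + 1) (by omega) (QuaternionGroup.a 1)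
    (by rw [QuaternionGroup.orderOf_a_one, pow_succ']) ?_ ?_
  · have h := Subgroup.card_mul_index (Subgroup.zpowers (QuaternionGroup.a 1 : QuaternionGroup (2 ^ j)))
    rw [Nat.card_zpowers, QuaternionGroup.orderOf_a_one, Nat.card_eq_fintype_card, QuaternionGroup.card] at h
    exact Nat.eq_of_mul_eq_mul_left (by positivity : 0 < 2 * 2 ^ j) (by linarith)
  · rintro (i | i) hx
    · refine absurd ⟨(i.val : ℤ), ?_⟩ hx
      show (QuaternionGroup.a 1 : QuaternionGroup (2 ^ j)) ^ ((i.val : ℕ) : ℤ) = _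
      rw [zpow_natCast, QuaternionGroup.a_one_pow, ZMod.natCast_zmod_val]
    · rw [← QuaternionGroup.orderOf_xa i]; exact pow_orderOf_eq_one _

theorem aut_congr {G H : Type*} [Group G] [Group H] (e : G ≃* H) (h : IsPGroup 2 (MulAut H)) :
    IsPGroup 2 (MulAut G) :=
  h.of_injective (MulAut.congr e).toMonoidHom (MulAut.congr e).injective


/-- If S is a dihedral or generalized quaternion 2-group of order at least 16, then in every saturated fusion system over S (at the prime 2) the automorphism group Aut_F(S) consists of the inner automorphisms of S. -/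
theorem result {Ω : Type*} [Group Ω] {S : Subgroup Ω} [Finite S] (n : ℕ) (hn : 4 ≤ n) (hshape : Nonempty (S ≃* DihedralGroup (2 ^ (n - 1))) ∨ Nonempty (S ≃* QuaternionGroup (2 ^ (n - 2)))) (F : Cfsg.FusionSystem S) (hF : F.IsSaturated 2) : F.autGroup S = Cfsg.Inn S := by
  have hA : IsPGroup 2 (MulAut S) := by
    refine hshape.elim (fun h => ?_) (fun h => ?_) <;> refine h.elim fun e => ?_
    · exact aut_congr e (aut_dihedral (n - 1) (by omega))
    · exact aut_congr e (aut_quaternion (n - 2) (by omega))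
  obtain ⟨Q, ⟨φ, hφ, rfl⟩, hQaut, -⟩ := hF S le_rfl
  have hQS : φ.range = S := by
    have hsub : φ.range ≤ S := by rintro _ ⟨x, rfl⟩; exact (F.le_of_mem hφ).2 x
    apply SetLike.coe_injective
    refine Set.eq_of_subset_of_ncard_le hsub (le_of_eq ?_) ?_
    · rw [← Nat.card_coe_set_eq, ← Nat.card_coe_set_eq]
      exact Nat.card_congr (MonoidHom.ofInjective (F.injective_of_mem hφ)).toEquiv
    · exact Set.finite_coe_iff.mp ‹Finite S›
  rw [hQS] at hQaut
  obtain ⟨-, R, hR⟩ := hQaut
  have hFin : Finite (MulAut S) := Finite.of_injective (fun f : MulAut S => (f : S → S)) DFunLike.coe_injective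
  have hP : IsPGroup 2 (F.autGroup S) := hA.to_subgroup _
  have htop : (R : Subgroup (F.autGroup S)) = ⊤ := R.3 (hP.to_subgroup ⊤) le_top |>.symm
  have hinn : Cfsg.autInducedBy S S = Cfsg.Inn S := by
    refine le_antisymm ((Subgroup.closure_le _).mpr ?_) ?_
    · rintro α ⟨g, hg, hα⟩
      exact ⟨⟨g, hg⟩, MulEquiv.ext fun x => Subtype.ext (by rw [hα]; rfl)⟩
    · rintro _ ⟨g, rfl⟩
      exact Subgroup.subset_closure ⟨g, g.2, fun x => rfl⟩
  have hle : Cfsg.autInducedBy S S ≤ F.autGroup S := by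
    refine Subgroup.closure_mono ?_
    rintro α ⟨g, hg, hα⟩
    show S.subtype.comp α.toMonoidHom ∈ F.Hom S
    convert F.conj_mem (le_refl S) hg using 1
    ext x
    exact hα x
  rw [← hinn]
  refine le_antisymm ?_ hle
  rw [hR, Subgroup.subgroupOf_eq_top] at htop
  exact htop

end Cfsg.Agent.S5112
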