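import Cfsg.Statements.S5997
import Cfsg.Agent.EqLemmas

set_option autoImplicit false
set_option linter.unusedSimpArgs false
open scoped MatrixGroups
open Cfsg

namespace Cfsg.Agent.S5997

open Matrix

variable {F : Type*} [Field F]

theorem cayley_two (M : Matrix (Fin 2) (Fin 2) F) :
    M * M = M.trace • M - M.det • (1 : Matrix (Fin 2) (Fin 2) F) := by
  ext a b
  fin_cases a <;> fin_cases b <;>
    simp [Matrix.mul_apply, Fin.sum_univ_two, Matrix.trace_fin_two, Matrix.det_fin_two] <;> ring

/-- A non-scalar 2 × 2 matrix satisfying `M² = a M + b` has trace `a` and determinant `-b`. -/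
theorem trace_det_of_sq {M : Matrix (Fin 2) (Fin 2) F} {a b : F}
    (hM : ∀ z : F, M ≠ z • (1 : Matrix (Fin 2) (Fin 2) F))
    (h : M * M = a • M + b • (1 : Matrix (Fin 2) (Fin 2) F)) : M.trace = a ∧ M.det = -b := by
  have h1 := (cayley_two M).symm.trans h
  have h2 : (M.trace - a) • M = (M.det + b) • (1 : Matrix (Fin 2) (Fin 2) F) := by
    linear_combination (norm := module) h1
  by_cases hta : M.trace - a = 0
  · refine ⟨sub_eq_zero.mp hta, ?_⟩
    rw [hta, zero_smul] at h2
    have := congr_fun (congr_fun h2 0) 0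
    simp at this
    linear_combination -this
  · refine absurd ?_ (hM ((M.trace - a)⁻¹ * (M.det + b)))
    rw [mul_smul, ← h2, smul_smul, inv_mul_cancel₀ hta, one_smul]

/-- A non-degenerate binary quadratic form over a finite field of odd characteristic represents 1. -/
theorem exists_binary_eq_one [Fintype F] (h2 : (2 : F) ≠ 0) (a b c : F) (hd : b ^ 2 - 4 * a * c ≠ 0) :
    ∃ x y : F, a * x ^ 2 + b * x * y + c * y ^ 2 = 1 := by
  by_cases ha : a = 0
  · subst ha
    have hb : b ≠ 0 := by rintro rfl; simp at hd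
    exact ⟨(1 - c) / b, 1, by field_simp; ring⟩
  have h2F : ringChar F ≠ 2 := fun h => h2 (by
    have := CharP.cast_eq_zero F (ringChar F); rwa [h, Nat.cast_ofNat] at this)
  set e : F := c - b ^ 2 / (4 * a) with he
  have h4 : (4 : F) ≠ 0 := by
    rw [show (4 : F) = 2 * 2 by norm_num]; exact mul_ne_zero h2 h2
  have he0 : e ≠ 0 := by
    intro h
    apply hd
    have : 4 * a * e = 4 * a * c - b ^ 2 := by rw [he]; field_simp
    rw [h, mul_zero] at this
    linear_combination this
  obtain ⟨u, w, huw⟩ := FiniteField.exists_root_sum_quadratic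
    (f := Polynomial.C a * Polynomial.X ^ 2 - 1) (g := Polynomial.C e * Polynomial.X ^ 2)
    (by
      rw [show (1 : Polynomial F) = Polynomial.C 1 by simp,
        Polynomial.degree_sub_C (by rw [Polynomial.degree_C_mul_X_pow 2 ha]; norm_num),
        Polynomial.degree_C_mul_X_pow 2 ha]; rfl)
    (Polynomial.degree_C_mul_X_pow 2 he0) (FiniteField.odd_card_of_char_ne_two h2F)
  simp at huw
  refine ⟨u - b * w / (2 * a), w, ?_⟩
  rw [he] at huw
  field_simp at huw ⊢
  linear_combination huw

/-- Non-scalar matrices of determinant 1 with the same trace `t`, `t² ≠ 4`, are conjugate to one companion matrix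
by a matrix of determinant 1. -/
theorem exists_companion [Fintype F] (h2 : (2 : F) ≠ 0) (A : Matrix (Fin 2) (Fin 2) F) (hA : A.det = 1)
    (ht : A.trace ^ 2 - 4 ≠ 0) :
    ∃ P : GL (Fin 2) F, P ∈ Cfsg.Geo.specialLinear (Fin 2) F ∧
      A * (P : Matrix (Fin 2) (Fin 2) F) = (P : Matrix (Fin 2) (Fin 2) F) * !![0, -1; 1, A.trace] := by
  rw [Matrix.det_fin_two] at hA
  rw [Matrix.trace_fin_two] at ht
  obtain ⟨x, y, hxy⟩ := exists_binary_eq_one h2 (A 1 0) (A 1 1 - A 0 0) (-A 0 1) (by
    intro h; apply ht; linear_combination h + 4 * hA)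
  have hdet : (!![x, A 0 0 * x + A 0 1 * y; y, A 1 0 * x + A 1 1 * y]).det = 1 := by
    rw [Matrix.det_fin_two_of]; linear_combination hxy
  refine ⟨GeneralLinearGroup.mkOfDetNeZero _ (by rw [hdet]; exact one_ne_zero), ?_, ?_⟩
  · rw [Cfsg.Geo.specialLinear, MonoidHom.mem_ker]
    exact Units.ext hdet
  · show A * !![x, A 0 0 * x + A 0 1 * y; y, A 1 0 * x + A 1 1 * y] = _
    ext a b
    fin_cases a <;> fin_cases b <;>
      simp [Matrix.mul_apply, Fin.sum_univ_two, Matrix.trace_fin_two, GeneralLinearGroup.mkOfDetNeZero]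
    · linear_combination -x * hA
    · linear_combination -y * hA

theorem conj_in_SL_of_trace_eq [Fintype F] (h2 : (2 : F) ≠ 0) (x w : GL (Fin 2) F)
    (hx : x ∈ Cfsg.Geo.specialLinear (Fin 2) F) (hw : w ∈ Cfsg.Geo.specialLinear (Fin 2) F)
    (ht : (x : Matrix (Fin 2) (Fin 2) F).trace = (w : Matrix (Fin 2) (Fin 2) F).trace)
    (hd : (x : Matrix (Fin 2) (Fin 2) F).trace ^ 2 - 4 ≠ 0) :
    ∃ g ∈ Cfsg.Geo.specialLinear (Fin 2) F, g⁻¹ * x * g = w := by
  have hdx : (x : Matrix (Fin 2) (Fin 2) F).det = 1 := congrArg Units.val (MonoidHom.mem_ker.mp hx)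
  have hdw : (w : Matrix (Fin 2) (Fin 2) F).det = 1 := congrArg Units.val (MonoidHom.mem_ker.mp hw)
  obtain ⟨P, hP, hPe⟩ := exists_companion h2 _ hdx hd
  obtain ⟨Q, hQ, hQe⟩ := exists_companion h2 _ hdw (ht ▸ hd)
  rw [ht] at hPe
  set C : Matrix (Fin 2) (Fin 2) F := !![0, -1; 1, (w : Matrix (Fin 2) (Fin 2) F).trace]
  refine ⟨P * Q⁻¹, mul_mem hP (inv_mem hQ), ?_⟩
  have h1 : x * P * Q⁻¹ = P * Q⁻¹ * w := by
    refine Units.ext ?_
    have hC : C = (Q⁻¹ : GL (Fin 2) F) * ((w : Matrix (Fin 2) (Fin 2) F) * Q) := by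
      rw [hQe, ← mul_assoc, ← Units.val_mul, inv_mul_cancel, Units.val_one, one_mul]
    simp only [Units.val_mul]
    rw [hPe, hC]
    simp only [mul_assoc, Units.mul_inv, mul_one]
  calc (P * Q⁻¹)⁻¹ * x * (P * Q⁻¹) = (P * Q⁻¹)⁻¹ * (x * P * Q⁻¹) := by group
    _ = w := by rw [h1, inv_mul_cancel_left]

theorem quat_endo_pow_twelve : ∀ a b : QuaternionGroup 2, a * a = QuaternionGroup.a 2 →
    b * b = QuaternionGroup.a 2 → a * b ≠ b * a →
    let f : QuaternionGroup 2 → QuaternionGroup 2 := fun g =>
      match g with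
      | QuaternionGroup.a k => a ^ k.val
      | QuaternionGroup.xa k => b * a ^ k.val
    f^[12] (QuaternionGroup.a 1) = QuaternionGroup.a 1 ∧ f^[12] (QuaternionGroup.xa 0) = QuaternionGroup.xa 0 := by
  decide +kernel

theorem quat_decomp : ∀ g : QuaternionGroup 2, ∃ k : Fin 4,
    g = QuaternionGroup.a 1 ^ (k : ℕ) ∨ g = QuaternionGroup.xa 0 * QuaternionGroup.a 1 ^ (k : ℕ) := by
  decide +kernel

/-- Twelfth power of every automorphism of the quaternion group is trivial. -/
theorem mulAut_quat_pow_twelve (φ : MulAut (QuaternionGroup 2)) :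
    (φ ^ 12) (QuaternionGroup.a 1) = QuaternionGroup.a 1 ∧
      (φ ^ 12) (QuaternionGroup.xa 0) = QuaternionGroup.xa 0 := by
  have hz : φ (QuaternionGroup.a 2) = QuaternionGroup.a 2 := by
    have key : ∀ g : QuaternionGroup 2, g * g = 1 → g = 1 ∨ g = QuaternionGroup.a 2 := by decide +kernel
    have key2 : (QuaternionGroup.a 2 : QuaternionGroup 2) * QuaternionGroup.a 2 = 1 := by decide +kernel
    have key3 : (QuaternionGroup.a 2 : QuaternionGroup 2) ≠ 1 := by decide +kernel
    rcases key (φ (QuaternionGroup.a 2)) (by rw [← map_mul, key2, map_one]) with h | h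
    · exact absurd (φ.injective (h.trans (map_one φ).symm)) key3
    · exact h
  have h := quat_endo_pow_twelve (φ (QuaternionGroup.a 1)) (φ (QuaternionGroup.xa 0))
    (by rw [← map_mul, show (QuaternionGroup.a 1 : QuaternionGroup 2) * QuaternionGroup.a 1 = QuaternionGroup.a 2
      from by decide +kernel, hz])
    (by rw [← map_mul, show (QuaternionGroup.xa 0 : QuaternionGroup 2) * QuaternionGroup.xa 0 = QuaternionGroup.a 2
      from by decide +kernel, hz])
    (by
      rw [← map_mul, ← map_mul]
      exact fun h => absurd (φ.injective h) (by decide +kernel))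
  set f : QuaternionGroup 2 → QuaternionGroup 2 := fun g =>
      match g with
      | QuaternionGroup.a k => φ (QuaternionGroup.a 1) ^ k.val
      | QuaternionGroup.xa k => φ (QuaternionGroup.xa 0) * φ (QuaternionGroup.a 1) ^ k.val with hfdef
  have hf : f = φ := by
    funext g
    cases g with
    | a k =>
      have hk : (QuaternionGroup.a k : QuaternionGroup 2) = QuaternionGroup.a 1 ^ k.val := by
        rw [QuaternionGroup.a_one_pow]; congr 1; exact (ZMod.natCast_zmod_val k).symm
      rw [hk, map_pow, ← hk]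
    | xa k =>
      have hk : (QuaternionGroup.xa k : QuaternionGroup 2) = QuaternionGroup.xa 0 * QuaternionGroup.a 1 ^ k.val := by
        rw [QuaternionGroup.a_one_pow, QuaternionGroup.xa_mul_a, zero_add]
        congr 1; exact (ZMod.natCast_zmod_val k).symm
      rw [hk, map_mul, map_pow, ← hk]
  have hit : ∀ (m : ℕ) g, (φ ^ m) g = φ^[m] g := by
    intro m
    induction m with
    | zero => intro g; rfl
    | succ m ih => intro g; rw [pow_succ, MulAut.mul_apply, ih, Function.iterate_succ_apply]
  change f^[12] _ = _ ∧ f^[12] _ = _ at h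
  rw [hf] at h
  exact ⟨(hit 12 _).trans h.1, (hit 12 _).trans h.2⟩

/-- Elements of prime order of PSL_2(p) and the normalizer of a quaternion subgroup. Here `T = PSL_2(F)` for the field `F` with `p` elements, `p ≥ 5` prime; `R` is a subgroup of GL_2(F) isomorphic to the quaternion group of order 8 (an absolutely irreducible 2-group of symplectic type), and `H` is the subgroup of matrices of determinant 1 normalizing `R` — a subgroup of type 2^{1+2}.O₂⁻(2), isomorphic modulo scalars to A₄ or S₄ (maximality is not assumed). Ω is the set of cosets of `H` in `T`, so an element of `T` of prime order `r` (a matrix `x` of determinant 1 with `x^r` scalar, `x` not scalar) fixes a point of Ω exactly when some conjugate of `x` by a matrix of determinant 1 normalizes `R`. Let `r` be a prime dividing the index of `H`. Then every element of `T` of order `r` fixes a point of Ω if and only if `r = 2` or `r = 3`. -/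
theorem result {F : Type*} [Field F] [Fintype F] {p : ℕ} [Fact p.Prime] [CharP F p] (hF : Fintype.card F = p) (hp : 5 ≤ p)
    (R : Subgroup (GL (Fin 2) F)) (hR : Nonempty (↥R ≃* QuaternionGroup 2))
    (r : ℕ) [Fact r.Prime]
    (hΩ : r ∣ (Cfsg.Geo.subgroupNormalizer R).relIndex (Cfsg.Geo.specialLinear (Fin 2) F)) :
    (∀ x ∈ Cfsg.Geo.specialLinear (Fin 2) F, (∃ z : F, ((x ^ r : GL (Fin 2) F) : Matrix (Fin 2) (Fin 2) F) = z • (1 : Matrix (Fin 2) (Fin 2) F)) →
      (∀ z : F, (x : Matrix (Fin 2) (Fin 2) F) ≠ z • (1 : Matrix (Fin 2) (Fin 2) F)) →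
      ∃ g ∈ Cfsg.Geo.specialLinear (Fin 2) F, g⁻¹ * x * g ∈ Cfsg.Geo.subgroupNormalizer R) ↔ (r = 2 ∨ r = 3) := by
  classical
  obtain ⟨e⟩ := hR
  have h2 : (2 : F) ≠ 0 := by
    intro h
    have : ((2 : ℕ) : F) = 0 := by exact_mod_cast h
    have := Nat.le_of_dvd (by norm_num) ((CharP.cast_eq_zero_iff F p 2).mp this); omega
  have h3 : (3 : F) ≠ 0 := by
    intro h
    have : ((3 : ℕ) : F) = 0 := by exact_mod_cast h
    have := Nat.le_of_dvd (by norm_num) ((CharP.cast_eq_zero_iff F p 3).mp this); omega
  have h4 : (4 : F) ≠ 0 := by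
    rw [show (4 : F) = 2 * 2 by norm_num]; exact mul_ne_zero h2 h2
  set SL := Cfsg.Geo.specialLinear (Fin 2) F
  set N := Cfsg.Geo.subgroupNormalizer R
  let η : QuaternionGroup 2 →* GL (Fin 2) F := R.subtype.comp e.symm.toMonoidHom
  have hη : Function.Injective η := R.subtype_injective.comp e.symm.injective
  have hηR : ∀ g, η g ∈ R := fun g => (e.symm g).2
  have hηsurj : ∀ x ∈ R, ∃ g, η g = x := fun x hx => ⟨e ⟨x, hx⟩, by simp [η]⟩
  set iG := η (QuaternionGroup.a 1)
  set jG := η (QuaternionGroup.xa 0)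
  set zG := η (QuaternionGroup.a 2)
  set I : Matrix (Fin 2) (Fin 2) F := (iG : Matrix (Fin 2) (Fin 2) F)
  set J : Matrix (Fin 2) (Fin 2) F := (jG : Matrix (Fin 2) (Fin 2) F)
  set Z : Matrix (Fin 2) (Fin 2) F := (zG : Matrix (Fin 2) (Fin 2) F)
  have val : ∀ a b : QuaternionGroup 2, ((η (a * b) : GL (Fin 2) F) : Matrix (Fin 2) (Fin 2) F)
      = (η a : Matrix (Fin 2) (Fin 2) F) * (η b : Matrix (Fin 2) (Fin 2) F) := by
    intro a b; rw [map_mul, Units.val_mul]
  have hII : I * I = Z := by
    rw [← val, show (QuaternionGroup.a 1 : QuaternionGroup 2) * QuaternionGroup.a 1 = QuaternionGroup.a 2 from by decide +kernel]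
  have hJJ : J * J = Z := by
    rw [← val, show (QuaternionGroup.xa 0 : QuaternionGroup 2) * QuaternionGroup.xa 0 = QuaternionGroup.a 2 from by decide +kernel]
  have hcommne : I * J ≠ J * I := by
    rw [← val, ← val]
    exact fun h => absurd (hη (Units.ext h)) (by decide +kernel)
  have hzc : Z * J = J * Z := by
    rw [← val, ← val, show (QuaternionGroup.a 2 : QuaternionGroup 2) * QuaternionGroup.xa 0
      = QuaternionGroup.xa 0 * QuaternionGroup.a 2 from by decide +kernel]
  have hZ : Z = -1 := by
    have hc := cayley_two I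
    by_cases ht : I.trace = 0
    · rw [ht, zero_smul, zero_sub, hII] at hc
      have hzz : Z * Z = 1 := by
        rw [← val, show (QuaternionGroup.a 2 : QuaternionGroup 2) * QuaternionGroup.a 2 = 1 from by decide +kernel,
          map_one, Units.val_one]
      have hd2 : I.det * I.det = 1 := by
        rw [hc] at hzz
        simpa using congr_fun (congr_fun hzz 0) 0
      rcases mul_self_eq_one_iff.mp hd2 with h | h
      · rw [hc, h, one_smul]
      · exfalso
        rw [h, neg_smul, one_smul, neg_neg] at hc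
        exact absurd (hη (Units.ext (hc.trans (by rw [map_one, Units.val_one])))) (by decide +kernel :
          (QuaternionGroup.a 2 : QuaternionGroup 2) ≠ 1)
    · exfalso
      refine hcommne ?_
      have hI : I = I.trace⁻¹ • (Z + I.det • (1 : Matrix (Fin 2) (Fin 2) F)) := by
        rw [← hII, hc, sub_add_cancel, smul_smul, inv_mul_cancel₀ ht, one_smul]
      rw [hI]
      simp [Matrix.mul_add, Matrix.add_mul, hzc]
  rw [hZ] at hII hJJ
  have hJI : J * I = -(I * J) := by
    have h := val (QuaternionGroup.a 2) (QuaternionGroup.a 1 * QuaternionGroup.xa 0)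
    rw [show (QuaternionGroup.a 2 : QuaternionGroup 2) * (QuaternionGroup.a 1 * QuaternionGroup.xa 0)
      = QuaternionGroup.xa 0 * QuaternionGroup.a 1 from by decide +kernel, val, val] at h
    change J * I = Z * (I * J) at h
    rw [h, hZ, neg_one_mul]
  have hIns : ∀ z : F, I ≠ z • (1 : Matrix (Fin 2) (Fin 2) F) := fun z h => hcommne (by simp [h])
  -- twelfth powers of elements of the normalizer are scalars
  have hscal : ∀ g ∈ N, g ^ 12 ∈ Cfsg.Geo.scalars (Fin 2) F := by
    intro g hg
    let φ : MulAut (QuaternionGroup 2) := (MulAut.congr e) (Subgroup.normalizerMonoidHom R ⟨g, hg⟩)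
    have hφ : ∀ q, η (φ q) = g * η q * g⁻¹ := by intro q; simp [φ, η]
    have hφm : ∀ (m : ℕ) q, η ((φ ^ m) q) = g ^ m * η q * (g ^ m)⁻¹ := by
      intro m
      induction m with
      | zero => intro q; simp
      | succ m ih => intro q; rw [pow_succ, MulAut.mul_apply, ih, hφ]; group
    obtain ⟨h1, h2'⟩ := mulAut_quat_pow_twelve φ
    have hcI : Commute (g ^ 12) iG := by
      have := hφm 12 (QuaternionGroup.a 1); rw [h1] at this
      exact eq_mul_inv_iff_mul_eq.mp this |>.symm
    have hcJ : Commute (g ^ 12) jG := by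
      have := hφm 12 (QuaternionGroup.xa 0); rw [h2'] at this
      exact eq_mul_inv_iff_mul_eq.mp this |>.symm
    set M : Matrix (Fin 2) (Fin 2) F := ((g ^ 12 : GL (Fin 2) F) : Matrix (Fin 2) (Fin 2) F)
    have hMI : M * I = I * M := congrArg Units.val hcI.eq
    have hMJ : M * J = J * M := congrArg Units.val hcJ.eq
    have hli : LinearIndependent F ![(1 : Matrix (Fin 2) (Fin 2) F), I, J, I * J] := by
      rw [Fintype.linearIndependent_iff]
      intro c hc
      simp [Fin.sum_univ_four] at hc
      -- conjugating by `I` and `J` separates the four coefficients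
      have e1 : I * (c 0 • (1 : Matrix (Fin 2) (Fin 2) F) + c 1 • I + c 2 • J + c 3 • (I * J)) * I = 0 := by
        rw [hc, mul_zero, zero_mul]
      have hIJI : I * J * I = J := by rw [mul_assoc, hJI, mul_neg, ← mul_assoc, hII]; simp
      simp only [mul_add, add_mul, Matrix.mul_smul, Matrix.smul_mul, Matrix.mul_one, ← mul_assoc, hII, hIJI,
        neg_mul, Matrix.one_mul, mul_neg] at e1
      rw [hJI] at e1
      have hcd : (2 : F) • (c 0 • (1 : Matrix (Fin 2) (Fin 2) F) + c 1 • I) = 0 := by
        linear_combination (norm := module) hc - e1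
      have hab : c 0 • (1 : Matrix (Fin 2) (Fin 2) F) + c 1 • I = 0 := (smul_eq_zero.mp hcd).resolve_left h2
      have key : ∀ a b : F, a • (1 : Matrix (Fin 2) (Fin 2) F) + b • I = 0 → a = 0 ∧ b = 0 := by
        intro a b h
        by_cases hb : b = 0
        · subst hb
          have := congr_fun (congr_fun h 0) 0
          simp at this
          exact ⟨this, rfl⟩
        · refine absurd ?_ (hIns (-(a / b)))
          have : b • I = (-a) • (1 : Matrix (Fin 2) (Fin 2) F) := by linear_combination (norm := module) h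
          calc I = b⁻¹ • (b • I) := by rw [smul_smul, inv_mul_cancel₀ hb, one_smul]
            _ = _ := by rw [this, smul_smul]; congr 1; field_simp
      have hrest : (c 2 • (1 : Matrix (Fin 2) (Fin 2) F) + c 3 • I) * J = 0 := by
        rw [add_mul, Matrix.smul_mul, Matrix.one_mul, Matrix.smul_mul]
        linear_combination (norm := module) hc - hab
      have hJu : ∀ X : Matrix (Fin 2) (Fin 2) F, X * J = 0 → X = 0 := by
        intro X hX
        have : X * J * J = 0 := by rw [hX, zero_mul]
        rw [mul_assoc, hJJ, mul_neg, mul_one, neg_eq_zero] at this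
        exact this
      obtain ⟨a0, a1⟩ := key _ _ hab
      obtain ⟨a2, a3⟩ := key _ _ (hJu _ hrest)
      intro k; fin_cases k <;> assumption
    have hspan := hli.span_eq_top_of_card_eq_finrank' (by simp [Module.finrank_matrix])
    obtain ⟨c, hc⟩ := (Submodule.mem_span_range_iff_exists_fun F).mp (hspan ▸ Submodule.mem_top (x := M))
    simp [Fin.sum_univ_four] at hc
    rw [← hc] at hMI hMJ
    have f1 : (2 * c 2) • (I * J) + (-(2 * c 3)) • ((I * J) * I) = 0 := by
      simp only [mul_add, add_mul, Matrix.mul_smul, Matrix.smul_mul, Matrix.mul_one, Matrix.one_mul, hJI,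
        ← mul_assoc, hII, neg_mul, Matrix.mul_neg] at hMI ⊢
      have hIJI : I * J * I = J := by rw [mul_assoc, hJI, mul_neg, ← mul_assoc, hII]; simp
      rw [hIJI] at hMI ⊢
      linear_combination (norm := module) -hMI
    have hIJI : I * J * I = J := by rw [mul_assoc, hJI, mul_neg, ← mul_assoc, hII]; simp
    rw [hIJI] at f1
    rw [Fintype.linearIndependent_iff] at hli
    have hh := hli ![0, 0, -(2 * c 3), 2 * c 2] (by
      simp [Fin.sum_univ_four, -smul_eq_zero, -mul_eq_zero]
      linear_combination (norm := module) f1)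
    have hc2 : c 2 = 0 := by simpa [h2] using hh 3
    have hc3 : c 3 = 0 := by simpa [h2] using hh 2
    rw [hc2, hc3, zero_smul, zero_smul, add_zero, add_zero] at hMJ hc
    simp only [mul_add, add_mul, Matrix.mul_smul, Matrix.smul_mul, Matrix.mul_one, Matrix.one_mul, hJI] at hMJ
    have hh' := hli ![0, 0, 0, 2 * c 1] (by
      simp [Fin.sum_univ_four, -smul_eq_zero, -mul_eq_zero]
      linear_combination (norm := module) hMJ)
    have hc1 : c 1 = 0 := by simpa [h2] using hh' 3
    rw [hc1, zero_smul, add_zero] at hc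
    rw [Cfsg.Geo.mem_scalars_iff]
    refine ⟨Units.mk0 (c 0) ?_, hc.symm⟩
    intro h0
    rw [h0, zero_smul] at hc
    exact (g ^ 12).ne_zero hc.symm
  constructor
  · intro hall
    by_contra hr
    push Not at hr
    have hr5 : 5 ≤ r := by
      have hp' : r.Prime := Fact.out
      rcases Nat.lt_or_ge r 5 with h | h
      · have := hp'.two_le
        interval_cases r
        · exact absurd rfl hr.1
        · exact absurd rfl hr.2
        · exact absurd hp' (by norm_num)
      · exact h
    have hdvd : r ∣ Nat.card SL := hΩ.trans (Subgroup.relIndex_dvd_card _ _)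
    obtain ⟨⟨x, hx⟩, hxo⟩ := exists_prime_orderOf_dvd_card' r hdvd
    rw [Subgroup.orderOf_mk] at hxo
    have hns : ∀ z : F, (x : Matrix (Fin 2) (Fin 2) F) ≠ z • (1 : Matrix (Fin 2) (Fin 2) F) := by
      intro z hz
      have hd : (x : Matrix (Fin 2) (Fin 2) F).det = 1 := congrArg Units.val (MonoidHom.mem_ker.mp hx)
      rw [hz, Matrix.det_smul, Fintype.card_fin, Matrix.det_one, mul_one] at hd
      have hx2 : x ^ 2 = 1 := by
        refine Units.ext ?_
        rw [Units.val_pow_eq_pow_val, hz, smul_pow, one_pow, hd, one_smul, Units.val_one]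
      have := Nat.le_of_dvd (by norm_num) (hxo ▸ orderOf_dvd_of_pow_eq_one hx2)
      omega
    obtain ⟨g, hg, hgN⟩ := hall x hx ⟨1, by rw [← hxo, pow_orderOf_eq_one, Units.val_one, one_smul]⟩ hns
    have h12 := hscal _ hgN
    have hord : orderOf (g⁻¹ * x * g) = r := by
      rw [← hxo]
      simpa using orderOf_injective (MulAut.conj g⁻¹).toMonoidHom (MulAut.conj g⁻¹).injective x
    have hmem : g⁻¹ * x * g ∈ Cfsg.Geo.scalars (Fin 2) F := by
      have hco : Nat.Coprime 12 r := by
        refine (Nat.Coprime.symm ((Fact.out : r.Prime).coprime_iff_not_dvd.mpr ?_))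
        intro h
        rcases (Fact.out : r.Prime).dvd_mul.mp (show r ∣ 4 * 3 from h) with h' | h' <;>
          have := Nat.le_of_dvd (by norm_num) h' <;> omega
      obtain ⟨a, ha⟩ := exists_pow_eq_self_of_coprime (x := g⁻¹ * x * g) (n := 12) (by rw [hord]; exact hco)
      rw [← ha]
      exact pow_mem h12 _
    obtain ⟨c, hc⟩ := (Cfsg.Geo.mem_scalars_iff _).mp ((Cfsg.Geo.scalars_normal).conj_mem _ hmem g)
    simp only [← mul_assoc, mul_inv_cancel, one_mul, mul_inv_cancel_right] at hc
    exact hns _ hc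
  · intro hr x hx ⟨z, hz⟩ hns
    have hd : (x : Matrix (Fin 2) (Fin 2) F).det = 1 := congrArg Units.val (MonoidHom.mem_ker.mp hx)
    have hc := cayley_two (x : Matrix (Fin 2) (Fin 2) F)
    rw [hd, one_smul] at hc
    set X : Matrix (Fin 2) (Fin 2) F := (x : Matrix (Fin 2) (Fin 2) F) with hX
    set t := X.trace with ht'
    rw [Units.val_pow_eq_pow_val] at hz
    have hcoef : ∀ a b : F, a • X = b • (1 : Matrix (Fin 2) (Fin 2) F) → a = 0 := by
      intro a b h
      by_contra ha
      exact hns (a⁻¹ * b) (by rw [mul_smul, ← h, smul_smul, inv_mul_cancel₀ ha, one_smul])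
    have hiN : iG ∈ N := Subgroup.le_normalizer (hηR _)
    rcases hr with rfl | rfl
    · have ht : t = 0 := hcoef t (z + 1) (by
        rw [← hX, pow_two, hc] at hz
        linear_combination (norm := module) hz)
      obtain ⟨htI, hdI⟩ := trace_det_of_sq (M := I) (a := 0) (b := -1) hIns (by rw [hII]; simp)
      obtain ⟨g, hg, h⟩ := conj_in_SL_of_trace_eq h2 x iG hx
        (MonoidHom.mem_ker.mpr (Units.ext (by rw [show (Matrix.GeneralLinearGroup.det iG : F) = I.det from rfl, hdI]; simp)))
        (by rw [← hX, ← ht', ht]; exact htI.symm) (by rw [← hX, ← ht', ht]; simpa using h4)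
      exact ⟨g, hg, h ▸ hiN⟩
    · have ht : t ^ 2 - 1 = 0 := hcoef _ (z + t) (by
        rw [← hX, pow_succ, pow_two, hc] at hz
        simp only [sub_mul, Matrix.smul_mul, Matrix.one_mul] at hz
        rw [hc] at hz
        linear_combination (norm := module) hz)
      set s : F := -t with hs
      -- the Hurwitz element
      set K := I * J with hK
      set W : Matrix (Fin 2) (Fin 2) F := (2⁻¹ : F) • (-1 + I + J + K) with hW
      have hIK : I * K = -J := by rw [hK, ← mul_assoc, hII, neg_one_mul]
      have hKI : K * I = J := by rw [hK, mul_assoc, hJI, mul_neg, ← mul_assoc, hII]; simp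
      have hJK : J * K = I := by rw [hK, ← mul_assoc, hJI, neg_mul, mul_assoc, hJJ]; simp
      have hKJ : K * J = -I := by rw [hK, mul_assoc, hJJ]; simp
      have hKK : K * K = -1 := by rw [hK, mul_assoc, ← hK, hJK, hII]
      have hWW : W * W = (-1 : F) • W + (-1 : F) • (1 : Matrix (Fin 2) (Fin 2) F) := by
        simp only [hW, Matrix.mul_smul, Matrix.smul_mul, mul_add, add_mul, neg_mul, mul_neg, one_mul, mul_one,
          hII, hJJ, hKK, hIK, hKI, hJK, hKJ, hJI, ← hK, smul_smul, neg_neg]
        match_scalars <;> field_simp <;> ring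
      have hWI : W * I = K * W := by
        simp only [hW, Matrix.mul_smul, Matrix.smul_mul, mul_add, add_mul, neg_mul, mul_neg, one_mul, mul_one,
          hII, hJJ, hKK, hIK, hKI, hJK, hKJ, hJI, ← hK]
        module
      have hWJ : W * J = I * W := by
        simp only [hW, Matrix.mul_smul, Matrix.smul_mul, mul_add, add_mul, neg_mul, mul_neg, one_mul, mul_one,
          hII, hJJ, hKK, hIK, hKI, hJK, hKJ, hJI, ← hK]
        module
      clear_value W
      clear hW
      have hs2 : s ^ 2 = 1 := by rw [hs]; linear_combination ht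
      have hWinv : W * ((-1 : F) • W + (-1 : F) • (1 : Matrix (Fin 2) (Fin 2) F)) = 1 := by
        rw [mul_add, Matrix.mul_smul, Matrix.mul_smul, mul_one, hWW]; module
      let ω : GL (Fin 2) F := ⟨s • W, s • ((-1 : F) • W + (-1 : F) • (1 : Matrix (Fin 2) (Fin 2) F)),
        by rw [Matrix.smul_mul, Matrix.mul_smul, hWinv, smul_smul, ← pow_two, hs2, one_smul],
        by rw [Matrix.smul_mul, Matrix.mul_smul, mul_eq_one_comm.mp hWinv, smul_smul, ← pow_two, hs2, one_smul]⟩
      have hWns : ∀ c : F, W ≠ c • (1 : Matrix (Fin 2) (Fin 2) F) := by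
        intro c hc'
        have h := hWI
        rw [hc'] at h
        simp only [Matrix.smul_mul, Matrix.one_mul, Matrix.mul_smul, Matrix.mul_one] at h
        have hc0 : c ≠ 0 := by rintro rfl; rw [hc', zero_smul, zero_mul] at hWinv; exact zero_ne_one hWinv
        have h' : I = K := by
          have := congrArg (fun M => c⁻¹ • M) h
          simpa [smul_smul, inv_mul_cancel₀ hc0] using this
        have hJ1 : J = 1 := by
          have h'' := congrArg (fun M => -(I * M)) h'
          simp only [hII, hIK, neg_neg] at h''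
          exact h''.symm
        exact hcommne (by rw [hJ1, one_mul]; exact h'.symm)
      obtain ⟨htW, hdW⟩ := trace_det_of_sq hWns hWW
      have hωSL : ω ∈ SL := by
        refine MonoidHom.mem_ker.mpr (Units.ext ?_)
        show (s • W).det = 1
        rw [Matrix.det_smul, Fintype.card_fin, hs2, hdW]; simp
      have hconj : ∀ (a b : GL (Fin 2) F), W * (a : Matrix (Fin 2) (Fin 2) F) = (b : Matrix (Fin 2) (Fin 2) F) * W →
          ω * a * ω⁻¹ = b := by
        intro a b h
        rw [mul_inv_eq_iff_eq_mul]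
        refine Units.ext ?_
        show (s • W) * (a : Matrix (Fin 2) (Fin 2) F) = (b : Matrix (Fin 2) (Fin 2) F) * (s • W)
        rw [Matrix.smul_mul, Matrix.mul_smul, h]
      have hωR : ∀ y ∈ R, ω * y * ω⁻¹ ∈ R := by
        intro y hy
        obtain ⟨q', rfl⟩ := hηsurj y hy
        obtain ⟨k, hk | hk⟩ := quat_decomp q'
        · rw [hk, map_pow, ← conj_pow, hconj iG (iG * jG) hWI]
          exact pow_mem (mul_mem (hηR _) (hηR _)) _
        · rw [hk, map_mul, map_pow, ← conj_mul, ← conj_pow, hconj iG (iG * jG) hWI, hconj jG iG hWJ]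
          exact mul_mem (hηR _) (pow_mem (mul_mem (hηR _) (hηR _)) _)
      have hωN : ω ∈ N := by
        have : Finite (R : Set (GL (Fin 2) F)) := Finite.of_equiv _ e.symm.toEquiv
        exact Subgroup.mem_normalizer_fintype (S := (R : Set (GL (Fin 2) F))) hωR
      obtain ⟨g, hg, h⟩ := conj_in_SL_of_trace_eq h2 x ω hx hωSL
        (by show t = (s • W).trace; rw [Matrix.trace_smul, htW, hs]; simp)
        (by show t ^ 2 - 4 ≠ 0; intro h; exact h3 (by linear_combination ht - h))
      exact ⟨g, hg, h ▸ hωN⟩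

end Cfsg.Agent.S5997
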