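import Cfsg.Statements.S0735
import Cfsg.Agent.EqLemmas

set_option autoImplicit false
open Cfsg
open scoped Pointwise

namespace Cfsg.Agent.S0735

/-- A 2-homogeneous permutation group (transitive on 2-subsets) of even order is doubly transitive; a non-trivial 2-homogeneous group is primitive. -/
theorem result {α : Type*} [Fintype α] [DecidableEq α] (G : Subgroup (Equiv.Perm α)) (h2 : MulAction.IsPretransitive G (Set.powersetCard α 2)) (hα : 3 ≤ Fintype.card α) : (Even (Nat.card G) → MulAction.IsMultiplyPretransitive G α 2) ∧ (G ≠ ⊥ → MulAction.IsPreprimitive G α) := by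
  have hcardne : ∀ {x y : α}, x ≠ y → ({x, y} : Finset α).card = 2 := fun h => Finset.card_pair h
  have hmove : ∀ {x y u v : α}, x ≠ y → u ≠ v →
      ∃ g : G, (g • x = u ∧ g • y = v) ∨ (g • x = v ∧ g • y = u) := by
    intro x y u v hxy huv
    obtain ⟨g, hg⟩ := h2.exists_smul_eq ⟨{x, y}, hcardne hxy⟩ ⟨{u, v}, hcardne huv⟩
    have hg' : ({g • x, g • y} : Finset α) = {u, v} := by
      have : g • ({x, y} : Finset α) = {u, v} := congrArg Subtype.val hg
      simpa [Finset.smul_finset_insert, Finset.smul_finset_singleton] using this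
    refine ⟨g, ?_⟩
    have hne : g • x ≠ g • y := (MulAction.injective g).ne hxy
    have h1 : g • x ∈ ({u, v} : Finset α) := hg' ▸ Finset.mem_insert_self _ _
    have h2' : g • y ∈ ({u, v} : Finset α) :=
      hg' ▸ Finset.mem_insert_of_mem (Finset.mem_singleton_self _)
    simp only [Finset.mem_insert, Finset.mem_singleton] at h1 h2'
    rcases h1 with h1 | h1 <;> rcases h2' with h2' | h2'
    · exact absurd (h1.trans h2'.symm) hne
    · exact Or.inl ⟨h1, h2'⟩
    · exact Or.inr ⟨h1, h2'⟩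
    · exact absurd (h1.trans h2'.symm) hne
  refine ⟨fun heven => ?_, fun hne => ?_⟩
  · have : Fact (Nat.Prime 2) := ⟨Nat.prime_two⟩
    obtain ⟨t, ht⟩ := exists_prime_orderOf_dvd_card' (G := G) 2 heven.two_dvd
    have ht1 : t ≠ 1 := fun e => by simp [e] at ht
    obtain ⟨a, ha⟩ : ∃ a : α, t • a ≠ a := by
      by_contra h
      push Not at h
      exact ht1 (Subtype.ext (Equiv.ext h))
    have ht2 : t * t = 1 := by rw [← pow_two, ← ht, pow_orderOf_eq_one]
    rw [MulAction.is_two_pretransitive_iff]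
    intro x y u v hxy huv
    -- `u, v` can be interchanged
    obtain ⟨s, hs1, hs2⟩ : ∃ s : G, s • u = v ∧ s • v = u := by
      obtain ⟨g, hg⟩ := hmove (Ne.symm ha) huv
      have hgt : g • (t • t • a) = g • a := by rw [← mul_smul t t, ht2, one_smul]
      rcases hg with ⟨h1, h2'⟩ | ⟨h1, h2'⟩
      · refine ⟨g * t * g⁻¹, ?_, ?_⟩
        · rw [← h1, mul_smul, mul_smul, inv_smul_smul, h2']
        · rw [← h2', mul_smul, mul_smul, inv_smul_smul, hgt, h1]
      · refine ⟨g * t * g⁻¹, ?_, ?_⟩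
        · rw [← h2', mul_smul, mul_smul, inv_smul_smul, hgt, h1]
        · rw [← h1, mul_smul, mul_smul, inv_smul_smul, h2']
    obtain ⟨g, ⟨h1, h2'⟩ | ⟨h1, h2'⟩⟩ := hmove hxy huv
    · exact ⟨g, h1, h2'⟩
    · exact ⟨s * g, by rw [mul_smul, h1, hs2], by rw [mul_smul, h2', hs1]⟩
  · obtain ⟨g, hg1⟩ : ∃ g : G, g ≠ 1 := by
      by_contra h
      push Not at h
      exact hne ((Subgroup.eq_bot_iff_forall G).mpr fun g hg => congrArg Subtype.val (h ⟨g, hg⟩))
    obtain ⟨a, ha⟩ : ∃ a : α, g • a ≠ a := by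
      by_contra h
      push Not at h
      exact hg1 (Subtype.ext (Equiv.ext h))
    have ht : MulAction.IsPretransitive G α := by
      refine ⟨fun x y => ?_⟩
      by_cases hxy : x = y
      · exact ⟨1, by rw [hxy, one_smul]⟩
      obtain ⟨k, ⟨h1, h2'⟩ | ⟨h1, h2'⟩⟩ := hmove (Ne.symm ha) hxy
      · exact ⟨k * g * k⁻¹, by rw [← h1, mul_smul, mul_smul, inv_smul_smul, h2']⟩
      · exact ⟨k * g⁻¹ * k⁻¹, by rw [← h2', mul_smul, mul_smul, inv_smul_smul, inv_smul_smul, h1]⟩
    refine ⟨fun {B} hB => ?_⟩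
    rcases B.subsingleton_or_nontrivial with h | ⟨x, hx, y, hy, hxy⟩
    · exact Or.inl h
    refine Or.inr (Set.eq_univ_iff_forall.mpr fun z => ?_)
    by_cases hxz : x = z
    · exact hxz ▸ hx
    obtain ⟨k, ⟨h1, h2'⟩ | ⟨h1, h2'⟩⟩ := hmove hxy hxz
    · rw [← MulAction.isBlock_iff_smul_eq_of_mem.mp hB (g := k) hx (h1.symm ▸ hx), ← h2']
      exact Set.smul_mem_smul_set hy
    · rw [← MulAction.isBlock_iff_smul_eq_of_mem.mp hB (g := k) hy (h2'.symm ▸ hx), ← h1]
      exact Set.smul_mem_smul_set hx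

end Cfsg.Agent.S0735
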