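import Cfsg.Statements.S1120
import Cfsg.Agent.Lib.RankOne.Setup
import Cfsg.Agent.Lib.Cores.Basic
import Cfsg.Agent.Lib.Coprime.Generation

set_option autoImplicit false
open Cfsg
open scoped Pointwise IsMulCommutative

namespace Cfsg.Agent.S1120

/-- In the rank-one set-up (`G` finite and doubly transitive on `Ω`, `t` an involution moving `a`, `Q` normal in `G_a` with `G_a = Q D`, `Q ⊓ D = 1` for the two-point stabiliser `D = G_a ⊓ G_{t • a}`, `|Q|` even, `|D|` odd), if `G` has 2-rank at least 2 then `O_{2'}(G)` equals the normal core of `G_a`. -/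
theorem result {G Ω : Type*} [Group G] [Finite G] [MulAction G Ω] {a : Ω} {t : G} {Q : Subgroup G}
    (hS : Cfsg.IsRankOneSetup G Ω a t Q)
    (h2 : ∃ x y : G, x ≠ 1 ∧ y ≠ 1 ∧ x ≠ y ∧ x * x = 1 ∧ y * y = 1 ∧ x * y = y * x) :
    Cfsg.pPrimeCore 2 G = (MulAction.stabilizer G a).normalCore := by
  classical
  haveI := hS.two_transitive
  haveI : MulAction.IsPretransitive G Ω := MulAction.isPretransitive_of_is_two_pretransitive
  refine le_antisymm ?_ ?_
  · have hnorm : (Cfsg.pPrimeCore 2 G).Normal := Agent.Cores.pPrimeCore_normal 2 G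
    refine (Subgroup.normal_le_normalCore).2 ?_
    obtain ⟨x, y, hx1, hy1, hxy, hxx, hyy, hc⟩ := h2
    obtain ⟨P, hPQ⟩ := Agent.RankOne.Setup.exists_sylow_two_le hS
    set V : Subgroup G := Subgroup.closure {x, y} with hV
    haveI : IsMulCommutative V := Subgroup.isMulCommutative_closure (by
      rintro u (rfl | rfl) v (rfl | rfl)
      exacts [rfl, hc, hc.symm, rfl])
    have hxV : x ∈ V := Subgroup.subset_closure (by simp)
    have hyV : y ∈ V := Subgroup.subset_closure (by simp)
    have hsq : ∀ v ∈ V, v * v = 1 := by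
      intro v hv
      induction hv using Subgroup.closure_induction with
      | mem z hz =>
        rcases hz with rfl | rfl
        exacts [hxx, hyy]
      | one => simp
      | mul p q hp hq h1 h2 =>
        have hpq : p * q = q * p := setLike_mul_comm hp hq
        rw [show p * q * (p * q) = p * (q * p) * q by group, ← hpq,
          show p * (p * q) * q = (p * p) * (q * q) by group, h1, h2, one_mul]
      | inv p _ h1 =>
        rw [← mul_inv_rev, h1, inv_one]
    have hV2 : IsPGroup 2 V := fun v => ⟨1, Subtype.ext (by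
      simpa [pow_two] using hsq v v.2)⟩
    obtain ⟨R, hR⟩ := hV2.exists_le_sylow
    obtain ⟨g, hg⟩ := MulAction.exists_smul_eq G R P
    have hgQ : ∀ v ∈ V, g * v * g⁻¹ ∈ Q := by
      intro v hv
      refine hPQ ?_
      rw [← hg, Sylow.coe_subgroup_smul]
      exact Subgroup.smul_mem_pointwise_smul v (MulAut.conj g) _ (hR hv)
    have hfix : ∀ v ∈ V, v ≠ 1 → ∀ b : Ω, v • b = b → b = g⁻¹ • a := by
      intro v hv hv1 b hb
      by_contra hne
      have h1 := Agent.RankOne.Setup.eq_one_of_fix hS (hgQ v hv) (b := g • b)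
        (fun e => hne (eq_inv_smul_iff.2 e)) (by rw [mul_smul, mul_smul, inv_smul_smul, hb])
      exact hv1 (conj_eq_one_iff.1 h1)
    have hfa : ∀ v ∈ V, v • g⁻¹ • a = g⁻¹ • a := by
      intro v hv
      have := hS.le (hgQ v hv)
      rw [MulAction.mem_stabilizer_iff, mul_smul, mul_smul] at this
      exact eq_inv_smul_iff.2 this
    have hncyc : ¬ IsCyclic V := by
      intro hcyc
      have : Nat.card V ≤ 2 := by
        obtain ⟨w, hw⟩ := hcyc.exists_generator
        rw [← orderOf_eq_card_of_forall_mem_zpowers hw]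
        exact Nat.le_of_dvd two_pos (orderOf_dvd_of_pow_eq_one
          (Subtype.ext (by simpa [pow_two] using hsq w w.2)))
      have h3 : ({⟨1, V.one_mem⟩, ⟨x, hxV⟩, ⟨y, hyV⟩} : Finset V).card = 3 := by
        simp [Subtype.ext_iff, Ne.symm hx1, Ne.symm hy1, hxy]
      haveI := Fintype.ofFinite V
      have h4 := Finset.card_le_univ ({⟨1, V.one_mem⟩, ⟨x, hxV⟩, ⟨y, hyV⟩} : Finset V)
      rw [h3, ← Nat.card_eq_fintype_card] at h4
      omega
    have hle : Cfsg.pPrimeCore 2 G ≤ MulAction.stabilizer G (g⁻¹ • a) := by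
      obtain ⟨n, hn⟩ := IsPGroup.iff_card.1 hV2
      refine Agent.Coprime.le_of_noncyclic hncyc Subgroup.le_normalizer_of_normal ?_ ?_
      · rw [hn]
        exact (Agent.Cores.coprime_card_pPrimeCore 2).symm.pow_left n
      · intro v hv hv1 c hc
        rw [MulAction.mem_stabilizer_iff]
        refine hfix v hv hv1 _ ?_
        have hcv := Subgroup.mem_centralizer_singleton_iff.1 hc.2
        rw [← mul_smul, ← hcv, mul_smul, hfa v hv]
    intro c hc
    have h1 := hle (hnorm.conj_mem c hc g⁻¹)
    rw [MulAction.mem_stabilizer_iff, inv_inv, mul_smul, mul_smul, smul_inv_smul] at h1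
    exact smul_left_cancel _ h1
  · refine Agent.Cores.le_pPrimeCore (Subgroup.normalCore_normal _) ?_
    have hD : (MulAction.stabilizer G a).normalCore ≤
        MulAction.stabilizer G a ⊓ MulAction.stabilizer G (t • a) := by
      refine le_inf (Subgroup.normalCore_le _) fun c hc => ?_
      have h1 := Subgroup.normalCore_le _ ((Subgroup.normalCore_normal _).conj_mem c hc t⁻¹)
      rw [MulAction.mem_stabilizer_iff, inv_inv, mul_smul, mul_smul] at h1
      rw [MulAction.mem_stabilizer_iff]
      apply (MulAction.injective t⁻¹)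
      simpa only [inv_smul_smul] using h1
    exact (Nat.coprime_two_right.2 hS.odd_card).coprime_dvd_left (Subgroup.card_dvd_of_le hD)

end Cfsg.Agent.S1120
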