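import Cfsg.Statements.S2602
import Cfsg.Agent.EqLemmas
import Cfsg.Agent.Lib.AutPSL.Count

set_option autoImplicit false
open Cfsg

namespace Cfsg.Agent.S2602
open AutPSL in
theorem out_structure {F : Type*} [Field F] [Fintype F] {p f : ℕ} [Fact p.Prime] (hf : 1 ≤ f)
    (hF : Fintype.card F = p ^ f) :
    ∃ φ : Cfsg.Out (Matrix.ProjectiveSpecialLinearGroup (Fin (0 + 2)) F) →* Multiplicative (ZMod f),
      Function.Surjective φ ∧ IsCyclic φ.ker ∧ Nat.card φ.ker = Nat.gcd (0 + 2) (p ^ f - 1) := by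
  classical
  obtain ⟨hcyc, hcard⟩ := fieldAut_facts (F := F) p f hf hF
  haveI := hcyc
  let ιF : Multiplicative (ZMod f) ≃* (F ≃+* F) := hcard ▸ zmodCyclicMulEquiv hcyc
  -- the normal form
  have hex : ∀ α : MulAut (Matrix.ProjectiveSpecialLinearGroup (Fin (0 + 2)) F),
      ∃ (σ : F ≃+* F), ∃ g : GL (Fin (0 + 2)) F, α = semi g σ := by
    intro α
    obtain ⟨g, σ, rfl⟩ := exists_semi_of_two α
    exact ⟨σ, g, rfl⟩
  choose S G hG using hex
  have huniq : ∀ α σ g, α = semi g σ → S α = σ := by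
    intro α σ g h
    exact (semi_eq_semi.mp ((hG α).symm.trans h)).1
  let Θ : MulAut (Matrix.ProjectiveSpecialLinearGroup (Fin (0 + 2)) F) →* Multiplicative (ZMod f) :=
    MonoidHom.mk' (fun α => ιF.symm (S α)) (fun α β => by
      have hS := huniq (α * β) (S α * S β) (G α * Matrix.GeneralLinearGroup.map (S α : F →+* F) (G β)) (by
          conv_lhs => rw [hG α, hG β]
          rw [semi_mul]
          rfl)
      rw [hS, map_mul])
  have hΘsemi : ∀ g σ, Θ (semi g σ) = ιF.symm σ := by
    intro g σ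
    show ιF.symm _ = _
    rw [huniq (semi g σ) σ g rfl]
  have hΘinn : Inn (Matrix.ProjectiveSpecialLinearGroup (Fin (0 + 2)) F) ≤ Θ.ker := by
    rintro _ ⟨x, rfl⟩
    obtain ⟨s, rfl⟩ := proj_surjective x
    rw [MonoidHom.mem_ker, conj_eq_semi, hΘsemi, show (RingEquiv.refl F) = (1 : F ≃+* F) from rfl, map_one]
  let φ := QuotientGroup.lift _ Θ hΘinn
  have hΘsurj : Function.Surjective Θ := by
    intro x
    refine ⟨semi 1 (ιF x), ?_⟩
    rw [hΘsemi, MulEquiv.symm_apply_apply]
  have hφ : Function.Surjective φ := fun x => by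
    obtain ⟨α, hα⟩ := hΘsurj x
    exact ⟨QuotientGroup.mk α, hα⟩
  refine ⟨φ, hφ, ?_, ?_⟩
  · -- the kernel is the image of GL
    let I : GL (Fin (0 + 2)) F →* Out (Matrix.ProjectiveSpecialLinearGroup (Fin (0 + 2)) F) :=
      (QuotientGroup.mk' _).comp (MonoidHom.mk' (fun g => semi g (RingEquiv.refl F)) fun g h => (semi_refl_mul g h).symm)
    have hker : φ.ker = I.range := by
      ext x
      obtain ⟨α, rfl⟩ := QuotientGroup.mk_surjective x
      constructor
      · intro hx
        have h1 : ιF.symm (S α) = 1 := hx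
        have hS : S α = 1 := by simpa using congrArg ιF h1
        refine ⟨G α, ?_⟩
        show QuotientGroup.mk' (Inn (Matrix.ProjectiveSpecialLinearGroup (Fin (0 + 2)) F)) (semi (G α) (RingEquiv.refl F)) =
          QuotientGroup.mk' (Inn (Matrix.ProjectiveSpecialLinearGroup (Fin (0 + 2)) F)) α
        conv_rhs => rw [hG α, hS]
        rfl
      · rintro ⟨g, hg⟩
        rw [← hg]
        show Θ (semi g (RingEquiv.refl F)) = 1
        rw [hΘsemi, show (RingEquiv.refl F) = (1 : F ≃+* F) from rfl, map_one]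
    obtain ⟨u, hu⟩ := IsCyclic.exists_generator (α := Fˣ)
    let d : Fin (0 + 2) → F := Function.update (fun _ => 1) 0 (u : F)
    have hd : (Matrix.diagonal d).det = (u : F) := by
      rw [Matrix.det_diagonal, Finset.prod_eq_single 0]
      · simp [d]
      · intro b _ hb; simp [d, hb]
      · simp
    let g₀ : GL (Fin (0 + 2)) F := Matrix.GeneralLinearGroup.mkOfDetNeZero (Matrix.diagonal d) (by rw [hd]; exact u.ne_zero)
    have hg₀ : Matrix.GeneralLinearGroup.det g₀ = u := Units.ext hd
    rw [hker]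
    refine ⟨⟨⟨I g₀, g₀, rfl⟩, ?_⟩⟩
    rintro ⟨_, g, rfl⟩
    obtain ⟨k, hk⟩ := hu (Matrix.GeneralLinearGroup.det g)
    refine ⟨k, Subtype.ext ?_⟩
    show ((⟨I g₀, g₀, rfl⟩ : I.range) ^ k : I.range).1 = I g
    rw [SubgroupClass.coe_zpow, ← map_zpow, ← inv_mul_eq_one, ← map_inv, ← map_mul]
    have hdet : (((g₀ ^ k)⁻¹ * g : GL (Fin (0 + 2)) F) : Matrix (Fin (0 + 2)) (Fin (0 + 2)) F).det = 1 := by
      have hk' : u ^ k = Matrix.GeneralLinearGroup.det g := hk
      have : Matrix.GeneralLinearGroup.det ((g₀ ^ k)⁻¹ * g) = 1 := by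
        rw [map_mul, map_inv, map_zpow, hg₀, hk', inv_mul_cancel]
      exact congrArg Units.val this
    refine (QuotientGroup.eq_one_iff _).mpr ⟨proj _ F ⟨_, hdet⟩, ?_⟩
    refine (conj_eq_semi _).trans ?_
    exact congrArg (fun z => semi z (RingEquiv.refl F)) (Units.ext rfl)
  · have hA := card_mulAut (F := F) (m := 0) p f hf (by rw [Nat.card_eq_fintype_card, hF])
    rw [if_pos rfl, one_mul] at hA
    haveI : Finite (MulAut (Matrix.ProjectiveSpecialLinearGroup (Fin (0 + 2)) F)) :=
      Finite.of_injective (fun α => (α : _ → _)) DFunLike.coe_injective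
    haveI : NeZero f := ⟨by omega⟩
    have h1 := (φ.ker).card_mul_index
    rw [Subgroup.index_ker, MonoidHom.range_eq_top.mpr hφ, Subgroup.card_top,
      show Nat.card (Multiplicative (ZMod f)) = f by
        rw [Nat.card_congr Multiplicative.toAdd, Nat.card_zmod]] at h1
    have h2 := Subgroup.card_eq_card_quotient_mul_card_subgroup (Inn (Matrix.ProjectiveSpecialLinearGroup (Fin (0 + 2)) F))
    have hinj : Function.Injective (MulAut.conj : Matrix.ProjectiveSpecialLinearGroup (Fin (0 + 2)) F →* _) := by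
      rw [injective_iff_map_eq_one]
      intro x hx
      obtain ⟨s, rfl⟩ := proj_surjective x
      rw [conj_eq_semi, semi_eq_one_iff, Matrix.GeneralLinearGroup.center_eq_range_scalar] at hx
      obtain ⟨c, hc⟩ := hx.2
      refine proj_eq_one_of_forall (c := (c : F)) ?_
      have := congrArg (fun z : GL (Fin (0 + 2)) F => (z : Matrix (Fin (0 + 2)) (Fin (0 + 2)) F)) hc.symm
      refine this.trans ?_
      simp [Matrix.smul_one_eq_diagonal]
    rw [← Nat.card_congr (MonoidHom.ofInjective hinj).toEquiv, hA, GLOrder.card_PGL,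
      ← GLOrder.card_PSL_mul, Fintype.card_fin, Nat.card_eq_fintype_card (α := F), hF, ← h1] at h2
    have hpos : 0 < f * Nat.card (Matrix.ProjectiveSpecialLinearGroup (Fin (0 + 2)) F) :=
      Nat.mul_pos (by omega) Nat.card_pos
    refine Nat.eq_of_mul_eq_mul_right hpos ?_
    linarith [h2]


/-- Structure of the outer automorphism group of PSL_2(q), q = p^f ≥ 4: it has a normal cyclic subgroup of order gcd(2, q − 1) (diagonal automorphisms) with cyclic quotient of order f (field automorphisms); there is no graph automorphism in dimension 2. -/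
theorem result {F : Type*} [Field F] [Fintype F] {p f : ℕ} [Fact p.Prime] (hf : 1 ≤ f) (hF : Fintype.card F = p ^ f) (h4 : 4 ≤ p ^ f) : ∃ φ : Cfsg.Out (Matrix.ProjectiveSpecialLinearGroup (Fin 2) F) →* Multiplicative (ZMod f), Function.Surjective φ ∧ IsCyclic φ.ker ∧ Nat.card φ.ker = Nat.gcd 2 (p ^ f - 1) := by
  exact out_structure hf hF

end Cfsg.Agent.S2602
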