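import Cfsg.Statements.S2603
import Cfsg.Agent.Lib.AutPSU.Count
import Cfsg.Agent.EqLemmas

set_option autoImplicit false
open Cfsg

namespace Cfsg.Agent.S2603

section aux
open Matrix Cfsg.Agent Cfsg.Agent.AutPSU
open Cfsg.Agent.FieldAut (suMat suMat_injective conj_mem_suMat keep_gal_su galGL galGL_GU indAut conjAut
  conjAut_eq_one_iff suRigid)
open scoped MatrixGroups

variable {F : Type*} [Field F] {q n : ℕ}

/-- Conjugations by unitary matrices. -/
noncomputable def cu (n : ℕ) (F : Type*) [Field F] (q : ℕ) :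
    Cfsg.GU n F q →* MulAut (Cfsg.PSU n F q) :=
  conjAut suMat_injective (Cfsg.GU n F q) (fun _ => conj_mem_suMat)

/-- Field automorphisms. -/
noncomputable def fa (n : ℕ) (F : Type*) [Field F] (q : ℕ) : (F ≃+* F) →* MulAut (Cfsg.PSU n F q) :=
  (indAut suMat_injective).comp (galGL.codRestrict _ keep_gal_su)

theorem fa_cu (σ : F ≃+* F) (g : Cfsg.GU n F q) :
    fa n F q σ * cu n F q g = cu n F q ⟨galGL σ g.1, galGL_GU σ g.2⟩ * fa n F q σ := by
  unfold fa cu conjAut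
  simp only [MonoidHom.comp_apply]
  rw [← map_mul, ← map_mul]
  congr 1
  refine Subtype.ext (MulEquiv.ext fun x => ?_)
  show galGL σ (g.1 * x * g.1⁻¹) = galGL σ g.1 * galGL σ x * (galGL σ g.1)⁻¹
  rw [map_mul, map_mul, map_inv]

theorem cl_conj (s : Cfsg.SU n F q) :
    MulAut.conj (cl n F q s) = cu n F q (Unitary.suToGU n F q s) :=
  (conj_cl s).trans rfl

variable [Fintype F]

theorem fa_unique (hF : Fintype.card F = q ^ 2) (hn : 3 ≤ n) {g₁ g₂ : Cfsg.GU n F q} {σ₁ σ₂ : F ≃+* F}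
    (he : cu n F q g₁ * fa n F q σ₁ = cu n F q g₂ * fa n F q σ₂) : σ₁ = σ₂ := by
  have h1 : (cu n F q g₂)⁻¹ * cu n F q g₁ * fa n F q (σ₁ * σ₂⁻¹) = 1 := by
    rw [map_mul, map_inv, show (cu n F q g₂)⁻¹ * cu n F q g₁ * (fa n F q σ₁ * (fa n F q σ₂)⁻¹)
      = (cu n F q g₂)⁻¹ * (cu n F q g₁ * fa n F q σ₁) * (fa n F q σ₂)⁻¹ by group, he]
    group
  refine mul_inv_eq_one.1 (gal_eq_one_of_twistAut hF hn (g₂⁻¹ * g₁).2 ?_)
  rw [← map_inv, ← map_mul] at h1
  exact (twistAut_eq_mul (g₂⁻¹ * g₁).2 _).trans h1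

theorem conj_injective (hF : Fintype.card F = q ^ 2) (hn : 3 ≤ n) :
    Function.Injective (MulAut.conj : Cfsg.PSU n F q →* _) := by
  haveI : Nonempty (Fin n) := ⟨⟨0, by omega⟩⟩
  rw [injective_iff_map_eq_one]
  intro x hx
  obtain ⟨s, rfl⟩ := cl_surjective x
  rw [cl_conj] at hx
  obtain ⟨a, ha⟩ := (conjAut_eq_one_iff (suRigid hF (by omega)) _).1 hx
  refine (QuotientGroup.eq_one_iff s).2 ((Unitary.mem_center_SU_iff hF (by omega) s).2 ⟨(a : F), ?_⟩)
  have h := congrArg Units.val ha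
  exact h.symm

theorem out_structure {f : ℕ} (hf : 1 ≤ f) (p : ℕ) [Fact p.Prime] (hq : q = p ^ f)
    (hF : Fintype.card F = q ^ 2) (hn : 3 ≤ n) (hs : ¬ (n = 3 ∧ q = 2)) :
    ∃ φ : Cfsg.Out (Cfsg.PSU n F q) →* Multiplicative (ZMod (2 * f)),
      Function.Surjective φ ∧ IsCyclic φ.ker ∧ Nat.card φ.ker = Nat.gcd n (q + 1) := by
  classical
  obtain ⟨hcyc, hcard⟩ := AutPSL.fieldAut_facts (F := F) p (2 * f) (by omega)
    (by rw [hF, hq, ← pow_mul, mul_comm])
  haveI := hcyc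
  let ιF : Multiplicative (ZMod (2 * f)) ≃* (F ≃+* F) := hcard ▸ zmodCyclicMulEquiv hcyc
  have hex : ∀ α : MulAut (Cfsg.PSU n F q), ∃ (σ : F ≃+* F) (g : Cfsg.GU n F q),
      α = cu n F q g * fa n F q σ := by
    intro α
    obtain ⟨X, hX, σ, rfl⟩ := exists_factor hF hn hs α
    exact ⟨σ, ⟨X, hX⟩, twistAut_eq_mul hX σ⟩
  choose S G hG using hex
  have huniq : ∀ α g σ, α = cu n F q g * fa n F q σ → S α = σ := fun α g σ h =>
    fa_unique hF hn ((hG α).symm.trans h)
  let Θ : MulAut (Cfsg.PSU n F q) →* Multiplicative (ZMod (2 * f)) :=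
    MonoidHom.mk' (fun α => ιF.symm (S α)) fun α β => by
      rw [← map_mul]
      congr 1
      refine huniq _ (G α * ⟨galGL (S α) (G β).1, galGL_GU _ (G β).2⟩) _ ?_
      conv_lhs => rw [hG α, hG β]
      rw [map_mul, map_mul, mul_assoc, ← mul_assoc (fa n F q (S α)), fa_cu, mul_assoc, mul_assoc]
  have hΘcu : ∀ g, Θ (cu n F q g) = 1 := fun g => by
    show ιF.symm (S (cu n F q g)) = 1
    rw [huniq _ g 1 (by rw [map_one, mul_one]), map_one]
  have hΘinn : Cfsg.Inn (Cfsg.PSU n F q) ≤ Θ.ker := by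
    rintro _ ⟨x, rfl⟩
    obtain ⟨s, rfl⟩ := cl_surjective x
    rw [MonoidHom.mem_ker, cl_conj, hΘcu]
  let φ := QuotientGroup.lift _ Θ hΘinn
  have hΘsurj : Function.Surjective Θ := fun x => by
    refine ⟨fa n F q (ιF x), ?_⟩
    show ιF.symm (S (fa n F q (ιF x))) = x
    rw [huniq _ 1 (ιF x) (by rw [map_one, one_mul]), MulEquiv.symm_apply_apply]
  have hφ : Function.Surjective φ := fun x => by
    obtain ⟨α, hα⟩ := hΘsurj x
    exact ⟨QuotientGroup.mk α, hα⟩
  refine ⟨φ, hφ, ?_, ?_⟩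
  · let I : Cfsg.GU n F q →* Cfsg.Out (Cfsg.PSU n F q) := (QuotientGroup.mk' _).comp (cu n F q)
    have hker : φ.ker = I.range := by
      ext x
      obtain ⟨α, rfl⟩ := QuotientGroup.mk_surjective x
      constructor
      · intro hx
        have h1 : ιF.symm (S α) = 1 := hx
        have hS : S α = 1 := by simpa using congrArg ιF h1
        refine ⟨G α, ?_⟩
        show QuotientGroup.mk' (Cfsg.Inn (Cfsg.PSU n F q)) (cu n F q (G α)) =
          QuotientGroup.mk' (Cfsg.Inn (Cfsg.PSU n F q)) α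
        conv_rhs => rw [hG α, hS, map_one, mul_one]
      · rintro ⟨g, hg⟩
        rw [← hg]
        exact hΘcu g
    obtain ⟨⟨d₀, g₀, hg₀⟩, hd₀⟩ := IsCyclic.exists_generator (α := (Unitary.detHom n F q).range)
    rw [hker]
    refine ⟨⟨⟨I g₀, g₀, rfl⟩, ?_⟩⟩
    rintro ⟨_, g, rfl⟩
    obtain ⟨k, hk⟩ := hd₀ ⟨Unitary.detHom n F q g, g, rfl⟩
    refine ⟨k, Subtype.ext ?_⟩
    show ((⟨I g₀, g₀, rfl⟩ : I.range) ^ k : I.range).1 = I g
    rw [SubgroupClass.coe_zpow, ← map_zpow, ← inv_mul_eq_one, ← map_inv, ← map_mul]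
    have hk' : d₀ ^ k = Unitary.detHom n F q g := by
      simpa using congrArg Subtype.val hk
    have hdet : (g₀ ^ k)⁻¹ * g ∈ (Unitary.suToGU n F q).range := by
      rw [Unitary.range_suToGU, MonoidHom.mem_ker, map_mul, map_inv, map_zpow, hg₀, hk', inv_mul_cancel]
    obtain ⟨s, hs'⟩ := hdet
    refine (QuotientGroup.eq_one_iff _).2 ⟨cl n F q s, ?_⟩
    rw [← hs']
    exact cl_conj s
  · haveI : Finite (MulAut (Cfsg.PSU n F q)) :=
      Finite.of_injective (fun α => (α : _ → _)) DFunLike.coe_injective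
    haveI : NeZero (2 * f) := ⟨by omega⟩
    have h1 := (φ.ker).card_mul_index
    rw [Subgroup.index_ker, MonoidHom.range_eq_top.mpr hφ, Subgroup.card_top,
      Nat.card_congr Multiplicative.toAdd, Nat.card_zmod] at h1
    have h2 := Subgroup.card_eq_card_quotient_mul_card_subgroup (Cfsg.Inn (Cfsg.PSU n F q))
    rw [← Nat.card_congr (MonoidHom.ofInjective (conj_injective hF hn)).toEquiv, card_mulAut hF hn hs, hcard,
      ← h1] at h2
    have hpos : 0 < 2 * f * Nat.card (Cfsg.PSU n F q) := Nat.mul_pos (by omega) Nat.card_pos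
    refine Nat.eq_of_mul_eq_mul_right hpos ?_
    linarith [h2]

end aux

/-- Structure of the outer automorphism group of PSU_n(q), n ≥ 3, (n, q) ≠ (3, 2), q = p^f, realised over the field with q² elements: it has a normal cyclic subgroup of order gcd(n, q + 1) (diagonal automorphisms) with cyclic quotient of order 2f (generated by the Frobenius field automorphism of the field with q² elements, whose f-th power is the graph automorphism). -/
theorem result {K : Type*} [Field K] [Fintype K] {p f q n : ℕ} [Fact p.Prime] (hf : 1 ≤ f) (hq : q = p ^ f) (hK : Fintype.card K = q ^ 2) (hn : 3 ≤ n) (h32 : ¬ (n = 3 ∧ q = 2)) : ∃ φ : Cfsg.Out (Cfsg.PSU n K q) →* Multiplicative (ZMod (2 * f)), Function.Surjective φ ∧ IsCyclic φ.ker ∧ Nat.card φ.ker = Nat.gcd n (q + 1) := by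
  exact out_structure hf p hq hK hn h32

end Cfsg.Agent.S2603
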