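import Cfsg.Statements.S2800
import Cfsg.Agent.Lib.PLocal.Complements
import Cfsg.Agent.Lib.SFourOffender.Basic

set_option autoImplicit false
open Cfsg

namespace Cfsg.Agent.S2800

open Subgroup Cfsg.Agent.PLocal
open scoped commutatorElement

universe u

variable {p : ℕ} [Fact p.Prime]

/-- A 2-element centralizing the abelian odd part modulo `C` lies in `C`, if `G/C` has trivial core. -/
theorem mem_of_central_on_layer {G : Type u} [Group G] [Finite G] {C R : Subgroup G} [C.Normal]
    [R.Normal] (hb : Cfsg.pCore p (G ⧸ C) = ⊥) (hab : ∀ x ∈ R, ∀ y ∈ R, ⁅x, y⁆ ∈ C)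
    (hquot : ∀ g : G, ∃ k : ℕ, g ^ p ^ k ∈ R) {a : G} (ha : ∃ k : ℕ, a ^ p ^ k = 1)
    (hc : ∀ x ∈ R, ⁅a, x⁆ ∈ C) : a ∈ C := by
  set f := QuotientGroup.mk' C
  set R' := R.map f
  haveI : R'.Normal := (inferInstance : R.Normal).map f (QuotientGroup.mk'_surjective C)
  have hcm : ∀ x y : G, ⁅x, y⁆ ∈ C → f x * f y = f y * f x := fun x y h => by
    rw [← commutatorElement_eq_one_iff_mul_comm, ← map_commutatorElement]
    exact (QuotientGroup.eq_one_iff _).2 h
  set D := Subgroup.centralizer (R' : Set (G ⧸ C))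
  haveI : D.Normal := Subgroup.normal_centralizer
  have hRD : R' ≤ D := by
    rintro _ ⟨x, hx, rfl⟩
    refine mem_centralizer_iff.2 ?_
    rintro _ ⟨y, hy, rfl⟩
    exact hcm y x (hab y hy x hx)
  have haD : f a ∈ D := by
    refine mem_centralizer_iff.2 ?_
    rintro _ ⟨x, hx, rfl⟩
    exact (hcm a x (hc x hx)).symm
  let P : Sylow p D := default
  set Z := R'.subgroupOf D
  haveI : Z.Normal := inferInstance
  have hsup : (P : Subgroup D) ⊔ Z = ⊤ := by
    rw [← index_eq_one]
    haveI : IsPGroup p (D ⧸ Z) := fun q => by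
      obtain ⟨⟨d, hd⟩, rfl⟩ := QuotientGroup.mk_surjective q
      obtain ⟨g, rfl⟩ := QuotientGroup.mk'_surjective C d
      obtain ⟨k, hk⟩ := hquot g
      exact ⟨k, (QuotientGroup.eq_one_iff ((⟨f g, hd⟩ : D) ^ p ^ k)).2
        (mem_subgroupOf.2 ⟨g ^ p ^ k, hk, by simp [f]⟩)⟩
    obtain ⟨n, hn⟩ := IsPGroup.iff_card.1 this
    refine Nat.eq_one_of_dvd_coprimes
      (((Fact.out : p.Prime).coprime_iff_not_dvd.2 P.not_dvd_index).pow_left n) ?_
      (index_dvd_of_le le_sup_left)
    rw [← hn, ← index_eq_card]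
    exact index_dvd_of_le le_sup_right
  haveI hPn : (P : Subgroup D).Normal := by
    refine normalizer_eq_top_iff.1 (top_le_iff.1 (hsup.ge.trans (sup_le le_normalizer ?_)))
    refine le_trans (fun z hz => mem_centralizer_iff.2 fun y _ => Subtype.ext ?_)
      (centralizer_le_normalizer _)
    exact (mem_centralizer_iff.1 y.2 z (mem_subgroupOf.1 hz)).symm
  haveI : (P : Subgroup D).Characteristic := P.characteristic_of_normal hPn
  have h1 := Cores.le_pCore (Cores.map_subtype_normal_of_characteristic D (P : Subgroup D))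
    (P.isPGroup'.map D.subtype)
  rw [hb] at h1
  obtain ⟨k, hk⟩ := ha
  have hp1 : IsPGroup p ↥(zpowers (⟨f a, haD⟩ : D)) := by
    have hd : orderOf (⟨f a, haD⟩ : D) ∣ p ^ k := orderOf_dvd_of_pow_eq_one (Subtype.ext (by
      rw [SubgroupClass.coe_pow, OneMemClass.coe_one, ← map_pow, hk, map_one]))
    obtain ⟨i, -, hi⟩ := (Nat.dvd_prime_pow Fact.out).1 hd
    exact IsPGroup.of_card (n := i) (by rw [Nat.card_zpowers, hi])
  have haP : (⟨f a, haD⟩ : D) ∈ (P : Subgroup D) :=
    (P.3 (IsPGroup.to_sup_of_normal_right hp1 P.isPGroup') le_sup_right).le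
      (mem_sup_left (mem_zpowers _))
  exact (QuotientGroup.eq_one_iff a).1 (mem_bot.1 (h1 ⟨_, haP, rfl⟩))

/-- The reduced case. -/
theorem thompson_finalA {G : Type u} [Group G] [Finite G]
    (hp : p ≠ 2 ∨ ¬ Cfsg.Involves (Equiv.Perm (Fin 4)) G) (S : Sylow p G)
    (hr : Reduced p (S : Subgroup G))
    (hN : Cfsg.HasNormalPComplement p ↥(normalizer (Cfsg.thompsonSubgroupAOf (S : Subgroup G) : Set G)))
    (hC : Cfsg.HasNormalPComplement p
      ↥(centralizer (((S : Subgroup G) ⊓ centralizer ((S : Subgroup G) : Set G) : Subgroup G) : Set G))) :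
    False := by
  set H := Cfsg.pCore p G
  haveI : H.Normal := Cores.pCore_normal p G
  have hHp : IsPGroup p H := Cores.isPGroup_pCore p G
  have hHS : H ≤ (S : Subgroup G) := Cores.pCore_le_sylow S
  set ZH := H ⊓ centralizer (H : Set G)
  have hZHn : ZH.Normal := inferInstance
  set V := Cfsg.omegaOne p ZH
  have hZHab : ZH ≤ centralizer (ZH : Set G) := inf_le_right.trans (centralizer_le inf_le_left)
  have hVe : Cfsg.IsElementaryAbelian p V := omegaOne_elemAb hZHab
  haveI : V.Normal := normalizer_eq_top_iff.1 (top_le_iff.1 fun g _ => by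
    rw [mem_normalizer_iff_map_eq, map_omegaOne _ (MulAut.conj g).injective.injOn,
      mem_normalizer_iff_map_eq.1 (le_normalizer_of_normal (K := ⊤) (mem_top g))])
  set N := centralizer (V : Set G)
  haveI : N.Normal := normal_centralizer
  have hHN : H ≤ N := le_centralizer_comm ((omegaOne_le ZH).trans inf_le_right)
  have hZS : (S : Subgroup G) ⊓ centralizer ((S : Subgroup G) : Set G) ≤ ZH := by
    intro z hz
    have hc : z ∈ centralizer (H : Set G) := centralizer_le (SetLike.coe_subset_coe.2 hHS) hz.2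
    exact ⟨hr.centralizer_le hc, hc⟩
  have hnot : ¬ Cfsg.pResidual p G ≤ N := by
    intro hres
    have htop : (⊤ : Subgroup G) ≤
        centralizer (((S : Subgroup G) ⊓ centralizer ((S : Subgroup G) : Set G) : Subgroup G) : Set G) := by
      rw [← Transfer.sylow_sup_eq_top S]
      refine sup_le (le_centralizer_comm inf_le_right) ((closure_le _).2 fun x hx => ?_)
      exact centralizer_le (SetLike.coe_subset_coe.2 hZS)
        (mem_centralizer_of_omegaOne (hHp.to_le inf_le_left) hZHab
          hx (le_normalizer_of_normal (K := ⊤) (mem_top x))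
          (hres (Transfer.mem_pResidual_of_coprime hx)))
    exact hr.not_complement (hnpc_of_top (hnpc_of_le htop hC))
  have hNH : N ≤ H := by
    rcases hr.pResidual_minimal N inferInstance hHN with h | h
    · exact Cores.le_pCore (inferInstance : N.Normal) h
    · exact absurd h hnot
  have hVH : V ≤ H := (omegaOne_le ZH).trans inf_le_left
  have hJH : Cfsg.thompsonSubgroupAOf (S : Subgroup G) ≤ H := by
    rw [thompsonSubgroupAOf_eq]
    refine sSup_le fun A hA => ?_
    by_contra hAH
    have hAV : A ≤ normalizer (V : Set G) := le_normalizer_of_normal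
    have hVS : V ≤ (S : Subgroup G) := hVH.trans hHS
    have hAA : A ≤ centralizer (A : Set G) := le_centralizer_iff_isMulCommutative.2 hA.2.1
    have hVV := elemAb_le_centralizer hVe
    have hfix : V ⊓ centralizer (A : Set G) ≤ A := fun x hx =>
      mem_of_centralizes_abelian hA (hVS hx.1) hx.2
    have hmax : ∀ B : Subgroup G, B ≤ A → Nat.card B * Nat.card ↥(V ⊓ centralizer (B : Set G)) ≤
        Nat.card A * Nat.card ↥(V ⊓ centralizer (A : Set G)) := by
      intro B hB
      set C := V ⊓ centralizer (B : Set G)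
      have hsup : abelian (B ⊔ C) := by
        refine le_centralizer_iff_isMulCommutative.1 ?_
        rw [centralizer_sup]
        exact sup_le (le_inf ((hB.trans hAA).trans (centralizer_le hB))
          (le_centralizer_comm inf_le_right))
          (le_inf inf_le_right (inf_le_left.trans (hVV.trans (centralizer_le inf_le_left))))
      have h1 : Nat.card ↥(B ⊔ C) ≤ Nat.card A :=
        maxIn_card hA (sup_le (hB.trans hA.1) (inf_le_left.trans hVS)) hsup
      have h2 : Nat.card ↥(B ⊓ C) ≤ Nat.card ↥(V ⊓ centralizer (A : Set G)) :=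
        Subgroup.card_le_of_le fun x hx => ⟨hx.2.1, hAA (hB hx.1)⟩
      have h3 := card_sup_mul_card_inf (H := B) (K := C)
        (inf_le_right.trans (centralizer_le_normalizer _))
      rw [← h3]
      exact Nat.mul_le_mul h1 h2
    have hab : ⁅A, A⁆ ≤ centralizer (V : Set G) := by
      rw [commutator_eq_bot_iff_le_centralizer.2 hAA]; exact bot_le
    obtain ⟨h1, h2⟩ := replacement hVV hAV hab hmax (U := V) le_rfl
    set A0 := A ⊓ centralizer ((⁅V, A⁆ : Subgroup G) : Set G)
    have hne : ¬ A0 ≤ N := by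
      intro h0
      rw [inf_eq_left.2 (le_centralizer_comm h0)] at h2
      refine hAH ((le_centralizer_comm (commutator_eq_bot_iff_le_centralizer.1
        (eq_bot_of_le_commutator_pgroup (elemAb_isPGroup hVe) hAV (fun a ha => ?_)
          (commutator_le_left_of_normalizes hAV) ?_))).trans hNH)
      · obtain ⟨k, hk⟩ := S.2 ⟨a, hA.1 ha⟩
        exact ⟨k, by rw [show a ^ p ^ k = 1 from congrArg Subtype.val hk]; exact one_mem _⟩
      refine commutator_le.2 fun v hv a ha => ?_
      have hn : V ⊓ centralizer (A : Set G) ≤ normalizer ((⁅V, A⁆ : Subgroup G) : Set G) :=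
        ((inf_le_left.trans hVV).trans (centralizer_le (commutator_le_left_of_normalizes hAV))).trans
          (centralizer_le_normalizer _)
      have hm : v ∈ ⁅V, A⁆ ⊔ (V ⊓ centralizer (A : Set G)) := h2.le hv
      rw [← SetLike.mem_coe, coe_mul_of_right_le_normalizer_left _ _ hn] at hm
      obtain ⟨w, hw, c, hc, rfl⟩ := Set.mem_mul.1 hm
      have hca : ⁅c, a⁆ = 1 :=
        commutatorElement_eq_one_iff_mul_comm.2 (mem_centralizer_iff.1 hc.2 a ha).symm
      rw [commutatorElement_mul_left_eq_conj_mul, hca, mul_one, mul_inv_cancel, one_mul]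
      exact commutator_mem_commutator hw ha
    have hquad : ∀ a ∈ A0, ⁅⁅V, zpowers a⁆, zpowers a⁆ = ⊥ := fun a ha => by
      refine commutator_eq_bot_iff_le_centralizer.2 ?_
      refine (commutator_mono le_rfl (zpowers_le.2 ha.1)).trans ?_
      exact le_centralizer_comm (zpowers_le.2 ha.2)
    by_cases hp2 : p = 2
    · subst hp2
      refine hp.resolve_left (by simp) ?_
      have hCH : N = H := le_antisymm hNH hHN
      obtain ⟨H', R, hH', hR, hH'p, hR1, hR2, hR3⟩ := hr.shape
      have hH'N : H' ≤ N := (Cores.le_pCore hH' hH'p).trans hHN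
      have hA0 : ∀ a ∈ A0, ∀ b ∈ A0, a * b = b * a := fun a ha b hb =>
        mem_centralizer_iff.1 (hAA hb.1) a ha.1
      refine SFourOffender.involves_of_offender (V := V) (R := R) (A := A0) hVe ?_ ?_ ?_ ?_ ?_ ?_ hne
      · intro x hx y hy
        have h := hH'N (hR1 x⁻¹ (R.inv_mem hx) y⁻¹ (R.inv_mem hy))
        rwa [commutatorElement_def, inv_inv, inv_inv] at h
      · exact fun x hx => (hR2 x hx).imp fun n hn => ⟨hn.1, hH'N hn.2⟩
      · intro g hg hc
        refine mem_of_central_on_layer (p := 2) (C := N) (R := R) ?_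
          (fun x hx y hy => hH'N (hR1 x hx y hy)) hR3 ?_ fun x hx => ?_
        · have hb := Cores.pCore_quotient_self 2 G
          have e := QuotientGroup.quotientMulEquivOfEq hCH
          rw [eq_bot_iff]
          refine fun z hz => mem_bot.2 (e.injective ?_)
          have h3 : (Cfsg.pCore 2 (G ⧸ N)).map e.toMonoidHom ≤ Cfsg.pCore 2 (G ⧸ Cfsg.pCore 2 G) :=
            Cores.le_pCore ((Cores.pCore_normal 2 (G ⧸ N)).map _ e.surjective)
              ((Cores.isPGroup_pCore 2 (G ⧸ N)).map _)
          rw [map_one]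
          exact mem_bot.1 (hb ▸ h3 ⟨z, hz, rfl⟩)
        · obtain ⟨k, hk⟩ := S.2 ⟨g, hA.1 hg.1⟩
          exact ⟨k, congrArg Subtype.val hk⟩
        · have := (inferInstance : N.Normal).conj_mem _ (hc x⁻¹ (R.inv_mem hx)) g
          rw [show g * (g⁻¹ * x⁻¹⁻¹ * g * x⁻¹) * g⁻¹ = x * g * x⁻¹ * g⁻¹ by group] at this
          have h4 := N.inv_mem this
          rwa [show (x * g * x⁻¹ * g⁻¹)⁻¹ = ⁅g, x⁆ by rw [commutatorElement_def]; group] at h4
      · intro a ha b hb
        rw [show a⁻¹ * b⁻¹ * a * b = a⁻¹ * b⁻¹ * (a * b) by group, hA0 a ha b hb]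
        simp [one_mem]
      · intro a ha
        rw [← sq]
        exact pow_mem_centralizer_of_quadratic (p := 2)
          ((zpowers_le.2 (hAV ha.1))) hVe.2 (hquad a ha) (mem_zpowers a)
      · intro B hB
        rw [h1]
        exact hmax B (hB.trans inf_le_left)
    · refine hne fun a ha => ?_
      refine hHN ?_
      have h3 := hr.shape.pStableOn hp2 V (elemAb_isPGroup hVe) a (hquad a ha)
      refine Cores.comap_pCore_le (QuotientGroup.mk' N) ?_ h3
      rw [QuotientGroup.ker_mk']
      exact hHp.to_le hNH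
  have hJ : Cfsg.thompsonSubgroupAOf (S : Subgroup G) = Cfsg.thompsonSubgroupAOf H := by
    rw [thompsonSubgroupAOf_eq, thompsonSubgroupAOf_eq]
    rw [thompsonSubgroupAOf_eq] at hJH
    refine le_antisymm (sSup_le fun A hA => le_sSup (maxIn_of_mem_le hA ((le_sSup hA).trans hJH) hHS))
      (sSup_le fun A hA => ?_)
    obtain ⟨A₀, hA₀⟩ := exists_maxIn (Q := abelian) abelian_bot (S : Subgroup G)
    exact le_sSup ⟨hA.1.trans hHS, hA.2.1, fun B hB hQ =>
      (hA₀.2.2 B hB hQ).trans (hA.2.2 A₀ ((le_sSup hA₀).trans hJH) hA₀.2.1)⟩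
  refine hr.not_complement (hnpc_of_normal_normalizer ?_ hN)
  rw [hJ]
  exact normalizer_eq_top_iff.1 (top_le_iff.1 ((normalizer_eq_top_iff.2 (inferInstance : H.Normal)).ge.trans
    (normalizer_le_normalizer_thompsonSubgroupAOf H)))

/-- The two local hypotheses. -/
def Hyp (p : ℕ) (G : Type u) [Group G] (S : Subgroup G) : Prop :=
  Cfsg.HasNormalPComplement p ↥(normalizer (Cfsg.thompsonSubgroupAOf S : Set G)) ∧
    Cfsg.HasNormalPComplement p ↥(centralizer ((S ⊓ centralizer (S : Set G) : Subgroup G) : Set G))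

theorem hyp_of_char {G : Type u} [Group G] [Finite G] (R : Sylow p G) (hR : (R : Subgroup G) ≠ ⊥)
    (h : ∀ X : Subgroup ↥(R : Subgroup G), X.Characteristic → X ≠ ⊥ →
      Cfsg.HasNormalPComplement p ↥(normalizer (X.map (R : Subgroup G).subtype : Set G))) :
    Hyp p G (R : Subgroup G) := by
  refine ⟨?_, ?_⟩
  · obtain ⟨hc, hmap⟩ := char_of_functorial.{u} (fun {X} [Group X] K => Cfsg.thompsonSubgroupAOf K)
      (fun f K hf => map_thompsonSubgroupAOf f hf) (R : Subgroup G)
    rw [← hmap]
    obtain ⟨z, hz, hz1, -⟩ := exists_central_of_order_p R.2 hR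
    refine h _ hc fun e => hz1 ?_
    have hzJ : z ∈ Cfsg.thompsonSubgroupAOf (R : Subgroup G) := (central_le_centerThompsonAOf hz).1
    rw [← hmap, e, Subgroup.map_bot] at hzJ
    exact mem_bot.1 hzJ
  · obtain ⟨hc, hmap⟩ := char_of_functorial.{u} (fun {X} [Group X] K => K ⊓ centralizer (K : Set X))
      (fun f K hf => map_inf_centralizer_self f hf) (R : Subgroup G)
    rw [← hmap]
    obtain ⟨z, hz, hz1, -⟩ := exists_central_of_order_p R.2 hR
    refine hnpc_of_le (centralizer_le_normalizer _) (h _ hc fun e => hz1 ?_)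
    rw [← hmap, e, Subgroup.map_bot] at hz
    exact mem_bot.1 hz

theorem hyp_restrict {G : Type u} [Group G] [Finite G] (S : Sylow p G) (M : Subgroup G)
    (hSM : (S : Subgroup G) ≤ M) (h : Hyp p G (S : Subgroup G)) :
    Hyp p M ((S : Subgroup G).subgroupOf M) := by
  have hinj : Set.InjOn M.subtype ((S : Subgroup G).subgroupOf M) := M.subtype_injective.injOn
  refine ⟨?_, ?_⟩
  · have hmap : (Cfsg.thompsonSubgroupAOf ((S : Subgroup G).subgroupOf M)).map M.subtype
        = Cfsg.thompsonSubgroupAOf (S : Subgroup G) := by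
      rw [map_thompsonSubgroupAOf _ hinj, map_subgroupOf_eq_of_le hSM]
    refine Transfer.hasNormalPComplement_of_injective h.1 ((M.subtype.comp
      (normalizer (Cfsg.thompsonSubgroupAOf ((S : Subgroup G).subgroupOf M) : Set M)).subtype).codRestrict _
        fun x => ?_) fun a b hab => ?_
    · rw [← hmap]; exact le_normalizer_map M.subtype ⟨x, x.2, rfl⟩
    · refine Subtype.ext (Subtype.ext ?_)
      have := congrArg Subtype.val hab
      exact this
  · set Z := (S : Subgroup G).subgroupOf M ⊓ centralizer ((S : Subgroup G).subgroupOf M : Set M)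
    have hmap : Z.map M.subtype = (S : Subgroup G) ⊓ centralizer ((S : Subgroup G) : Set G) := by
      rw [map_inf_centralizer_self _ hinj, map_subgroupOf_eq_of_le hSM]
    refine Transfer.hasNormalPComplement_of_injective h.2
      ((M.subtype.comp (centralizer (Z : Set M)).subtype).codRestrict _ fun x => ?_) fun a b hab => ?_
    · rw [← hmap]; exact map_centralizer_le_centralizer_image _ M.subtype ⟨x, x.2, rfl⟩
    · refine Subtype.ext (Subtype.ext ?_)
      have := congrArg Subtype.val hab
      exact this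

theorem hyp_map {G G' : Type u} [Group G] [Group G'] [Finite G] (f : G →* G')
    (hf : Function.Surjective f) (hker : (Nat.card f.ker).Coprime p) (S : Sylow p G)
    (h : Hyp p G (S : Subgroup G)) : Hyp p G' ((S : Subgroup G).map f) := by
  haveI : Finite G' := Finite.of_surjective f hf
  have hinj := injOn_of_pGroup f hker S.2
  refine ⟨?_, ?_⟩
  · rw [← map_thompsonSubgroupAOf f hinj, normalizer_map_eq f hf hker (S.2.to_le (thompsonSubgroupAOf_le _))]
    exact hnpc_of_map h.1
  · rw [← map_inf_centralizer_self f hinj, centralizer_map_eq f hf hker (S.2.to_le inf_le_left)]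
    exact hnpc_of_map h.2

theorem main {G : Type u} [Group G] [Finite G] (S : Sylow p G)
    (hp : p ≠ 2 ∨ ¬ Cfsg.Involves (Equiv.Perm (Fin 4)) G) (hS : Hyp p G (S : Subgroup G)) :
    Cfsg.HasNormalPComplement p G := by
  obtain ⟨n, hn⟩ : ∃ n, n = Nat.card G := ⟨_, rfl⟩
  induction n using Nat.strong_induction_on generalizing G with
  | _ n IH =>
  subst hn
  by_contra hno
  have hsub : ∀ M : Subgroup G, p ≠ 2 ∨ ¬ Cfsg.Involves (Equiv.Perm (Fin 4)) M := fun M =>
    hp.imp_right fun h hi => h (Involves.involves_of_subgroup hi)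
  have hquo : ∀ (K : Subgroup G) [K.Normal],
      p ≠ 2 ∨ ¬ Cfsg.Involves (Equiv.Perm (Fin 4)) (G ⧸ K) := fun K _ =>
    hp.imp_right fun h hi => h (Involves.involves_of_surjective (QuotientGroup.mk' K)
      (QuotientGroup.mk'_surjective K) hi)
  have hle : ∀ M : Subgroup G, (S : Subgroup G) ≤ M → M ≠ ⊤ → Cfsg.HasNormalPComplement p M :=
    fun M hSM hM => IH _ (card_subgroup_lt hM) (S.subtype hSM) (hsub M)
      (by rw [Sylow.coe_subtype]; exact hyp_restrict S M hSM hS) rfl
  have hH : Cfsg.pCore p G ≠ ⊥ := by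
    intro hb
    obtain ⟨M, hM, hMno, R, hRne, hR⟩ := exists_frobenius_subgroup S hno hle hb
    exact hMno (IH _ (card_subgroup_lt hM) R (hsub M) (hyp_of_char R hRne hR) rfl)
  have hO : Cfsg.pPrimeCore p G = ⊥ := by
    by_contra hne
    haveI : (Cfsg.pPrimeCore p G).Normal := Cores.pPrimeCore_normal p G
    set f := QuotientGroup.mk' (Cfsg.pPrimeCore p G)
    have hker : (Nat.card f.ker).Coprime p := by
      rw [QuotientGroup.ker_mk']; exact Cores.coprime_card_pPrimeCore p
    refine hno (hnpc_of_coprime_ker f (QuotientGroup.mk'_surjective _) hker ?_)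
    exact IH _ (card_quotient_lt hne) (S.mapSurjective (QuotientGroup.mk'_surjective _)) (hquo _)
      (by rw [Sylow.coe_mapSurjective]; exact hyp_map f (QuotientGroup.mk'_surjective _) hker S hS) rfl
  haveI : (Cfsg.pCore p G).Normal := Cores.pCore_normal p G
  refine thompson_finalA hp S (reduced_of_quotient S hno hle hH hO ?_) hS.1 hS.2
  set f := QuotientGroup.mk' (Cfsg.pCore p G)
  have hf := QuotientGroup.mk'_surjective (Cfsg.pCore p G)
  let Sb : Sylow p (G ⧸ Cfsg.pCore p G) := S.mapSurjective hf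
  by_cases hSb : (Sb : Subgroup (G ⧸ Cfsg.pCore p G)) = ⊥
  · refine Transfer.hasNormalPComplement_of_not_dvd fun hd => ?_
    exact Sb.ne_bot_of_dvd_card hd hSb
  refine IH _ (card_quotient_lt hH) Sb (hquo _) (hyp_of_char Sb hSb fun X hX hXne => ?_) rfl
  set X0 := X.map (Sb : Subgroup (G ⧸ Cfsg.pCore p G)).subtype
  have hX0ne : X0 ≠ ⊥ := fun e => hXne ((map_eq_bot_iff_of_injective _ (subtype_injective _)).1 e)
  have hSX : (S : Subgroup G) ≤ (normalizer (X0 : Set (G ⧸ Cfsg.pCore p G))).comap f := by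
    refine map_le_iff_le_comap.1 ?_
    rw [← Sylow.coe_mapSurjective hf S]
    exact le_normalizer.trans (Cores.normalizer_le_normalizer_map X)
  have hne : (normalizer (X0 : Set (G ⧸ Cfsg.pCore p G))).comap f ≠ ⊤ := by
    intro e
    have hn : normalizer (X0 : Set (G ⧸ Cfsg.pCore p G)) = ⊤ := comap_injective hf (e.trans (comap_top f).symm)
    refine hX0ne (le_bot_iff.1 ?_)
    have h1 := Cores.le_pCore (normalizer_eq_top_iff.1 hn) ((Sb.2.to_subgroup X).map _)
    rwa [Cores.pCore_quotient_self] at h1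
  exact Transfer.hasNormalPComplement_of_surjective (hle _ hSX hne) _
    (f.subgroupComap_surjective_of_surjective _ hf)

/-- Let S be a Sylow p-subgroup of the finite group G and J(S) the subgroup generated by the abelian subgroups of S of largest order. Suppose p is odd, or the symmetric group of degree 4 is not involved in G. If both C_G(Z(S)) and N_G(J(S)) have normal p-complements, then G has a normal p-complement. -/
theorem result {G : Type*} [Group G] [Finite G] {p : ℕ} [Fact p.Prime] (S : Sylow p G) (h : p ≠ 2 ∨ ¬ Cfsg.Involves (Equiv.Perm (Fin 4)) G) (hC : Cfsg.HasNormalPComplement p ↥(Subgroup.centralizer (((S : Subgroup G) ⊓ Subgroup.centralizer ((S : Subgroup G) : Set G) : Subgroup G) : Set G))) (hN : Cfsg.HasNormalPComplement p ↥(Subgroup.normalizer ((Cfsg.thompsonSubgroupAOf (S : Subgroup G)) : Set G))) : Cfsg.HasNormalPComplement p G :=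
  main S h ⟨hN, hC⟩

end Cfsg.Agent.S2800
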