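import Cfsg.Statements.S2759
import Cfsg.Agent.Lib.Involves.Basic
import Cfsg.Agent.Lib.Coprime.Frattini
import Cfsg.Agent.Lib.Cores.Basic
import Cfsg.Agent.Lib.PGroup.Basic

set_option autoImplicit false
open Cfsg

namespace Cfsg.Agent.S2759

open Equiv
open scoped commutatorElement

/-- The three double transpositions of four points. -/
def dbl : Fin 3 → Perm (Fin 4) :=
  ![swap 0 1 * swap 2 3, swap 0 2 * swap 1 3, swap 0 3 * swap 1 2]

/-- Position of a double transposition in the list. -/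
def dblIdx (p : Perm (Fin 4)) : Fin 3 :=
  if p = dbl 0 then 0 else if p = dbl 1 then 1 else 2

theorem dbl_conj : ∀ (σ : Perm (Fin 4)) (i : Fin 3), σ * dbl i * σ⁻¹ = dbl (dblIdx (σ * dbl i * σ⁻¹)) := by
  decide +kernel

theorem dbl_injective : Function.Injective dbl := by
  decide +kernel

theorem pairAct_left (σ : Perm (Fin 4)) (i : Fin 3) :
    dblIdx (σ⁻¹ * dbl (dblIdx (σ * dbl i * σ⁻¹)) * σ) = i := by
  have h : σ⁻¹ * dbl (dblIdx (σ * dbl i * σ⁻¹)) * σ = dbl i := by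
    rw [← dbl_conj]; group
  have h2 := dbl_conj 1 i
  rw [one_mul, inv_one, mul_one] at h2
  rw [h]
  exact dbl_injective h2.symm

/-- The action of `S₄` on the three double transpositions. -/
def pairAct : Perm (Fin 4) →* Perm (Fin 3) where
  toFun σ :=
    { toFun := fun i => dblIdx (σ * dbl i * σ⁻¹)
      invFun := fun i => dblIdx (σ⁻¹ * dbl i * σ)
      left_inv := fun i => pairAct_left σ i
      right_inv := fun i => by
        have h := pairAct_left σ⁻¹ i
        rwa [inv_inv] at h }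
  map_one' := Equiv.ext fun i => dbl_injective (by
    show dbl (dblIdx (1 * dbl i * 1⁻¹)) = dbl i
    rw [← dbl_conj]; simp)
  map_mul' σ τ := Equiv.ext fun i => dbl_injective (by
    show dbl (dblIdx (σ * τ * dbl i * (σ * τ)⁻¹)) =
      dbl (dblIdx (σ * dbl (dblIdx (τ * dbl i * τ⁻¹)) * σ⁻¹))
    rw [← dbl_conj, ← dbl_conj, ← dbl_conj]; simp [mul_assoc])

theorem pairAct_eq_one_of_commute {σ : Perm (Fin 4)} (h : ∀ i, σ * dbl i = dbl i * σ) :
    pairAct σ = 1 := Equiv.ext fun i => dbl_injective (by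
  show dbl (dblIdx (σ * dbl i * σ⁻¹)) = dbl i
  rw [← dbl_conj, h i, mul_inv_cancel_right])

theorem pairAct_surjective : Function.Surjective pairAct := by
  decide +kernel

theorem pairAct_dbl : ∀ i, pairAct (dbl i) = 1 := by
  decide +kernel

theorem sq_eq_one_of_pairAct : ∀ σ : Perm (Fin 4), pairAct σ = 1 → σ * σ = 1 := by
  decide +kernel

/-- Three permutations generating `S₄`, with an explicit normal form. -/
theorem perm_four_normal_form : ∀ σ : Perm (Fin 4), ∃ (a b : Fin 2) (c : Fin 3) (d : Fin 2),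
    σ = (swap 0 1 * swap 2 3) ^ (a : ℕ) * (swap 0 2 * swap 1 3) ^ (b : ℕ) *
      (swap 1 2 * swap 2 3) ^ (c : ℕ) * (swap 2 3) ^ (d : ℕ) := by
  decide +kernel

/-- `S₃` as a dihedral group. -/
theorem exists_equiv_dihedral : Nonempty (DihedralGroup 3 ≃* Perm (Fin 3)) := by
  refine ⟨MulEquiv.ofBijective (Involves.dihedralHom (x := swap (0 : Fin 3) 1)
    (y := swap (0 : Fin 3) 1 * swap 1 2) (by decide +kernel) (by decide +kernel)
    (by decide +kernel)) ?_⟩
  rw [Fintype.bijective_iff_injective_and_card]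
  refine ⟨?_, by simp [DihedralGroup.card, Fintype.card_perm, Nat.factorial]⟩
  intro a b hab
  rcases a with i | i <;> rcases b with j | j <;>
    simp only [Involves.dihedralHom_r, Involves.dihedralHom_sr] at hab <;>
    revert hab <;> revert i j <;> decide +kernel

/-- A four-group with a dihedral group inducing `S₃` on it gives an `S₄` section. -/
theorem involves_of_fourGroup {Q : Type*} [Group Q] [Finite Q] {v w u y t : Q}
    (hv : v * v = 1) (hw : w * w = 1) (hvw : v * w = u) (hcomm : v * w = w * v) (hv1 : v ≠ 1)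
    (hwv : w ≠ v) (hyv : y * v * y⁻¹ = w) (hyw : y * w * y⁻¹ = u) (hyu : y * u * y⁻¹ = v)
    (htv : t * v * t⁻¹ = v) (htw : t * w * t⁻¹ = u) (htu : t * u * t⁻¹ = w)
    (hty : t * y * t⁻¹ = y⁻¹) (hy : ∃ k : ℕ, orderOf y = 3 ^ k) :
    Cfsg.Involves (Perm (Fin 4)) Q := by
  let D := Subgroup.closure ({t, y} : Set Q)
  have hyD : y ∈ D := Subgroup.subset_closure (Or.inr rfl)
  have htD : t ∈ D := Subgroup.subset_closure (Or.inl rfl)
  have hu2 : u * u = 1 := by
    rw [← hvw]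
    calc v * w * (v * w) = v * (w * v) * w := by group
      _ = v * (v * w) * w := by rw [hcomm]
      _ = (v * v) * (w * w) := by group
      _ = 1 := by rw [hv, hw, one_mul]
  have hDN : D ≤ Subgroup.normalizer (Subgroup.zpowers y : Set Q) := by
    refine (Subgroup.closure_le _).2 ?_
    rintro x (rfl | rfl)
    · rw [SetLike.mem_coe, Subgroup.mem_normalizer_iff_map_conj_eq, MonoidHom.map_zpowers]
      show Subgroup.zpowers (x * y * x⁻¹) = _
      rw [hty, Subgroup.zpowers_inv]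
    · exact Subgroup.le_normalizer (Subgroup.mem_zpowers _)
  have hvD : v ∉ D := by
    intro hmem
    have h1 : w * v ∈ Subgroup.zpowers y := by
      have h2 := Subgroup.le_normalizer_iff.1 hDN v hmem y⁻¹ (inv_mem (Subgroup.mem_zpowers y))
      have h3 := mul_mem (Subgroup.mem_zpowers y) h2
      rw [inv_eq_of_mul_eq_one_right hv] at h3
      have h4 : w * v = y * (v * y⁻¹ * v) := by rw [← hyv]; group
      rw [h4]; exact h3
    obtain ⟨k, hk⟩ := hy
    have h5 := orderOf_dvd_of_mem_zpowers h1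
    have h6 : orderOf (w * v) ∣ 2 := orderOf_dvd_of_pow_eq_one (by
      rw [sq, ← hcomm, hvw, hu2])
    have h7 : orderOf (w * v) = 1 := Nat.eq_one_of_dvd_coprimes
      (Nat.Coprime.pow_left k (by norm_num : Nat.Coprime 3 2)) (hk ▸ h5) h6
    exact hwv ((eq_inv_of_mul_eq_one_left (orderOf_eq_one_iff.1 h7)).trans
      (inv_eq_of_mul_eq_one_right hv))
  have hwD : w ∉ D := fun hmem => hvD (by
    have h := mul_mem (mul_mem (inv_mem hyD) hmem) hyD
    rwa [← hyv, show y⁻¹ * (y * v * y⁻¹) * y = v by group] at h)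
  have huD : u ∉ D := fun hmem => hwD (by
    have h := mul_mem (mul_mem (inv_mem hyD) hmem) hyD
    rwa [← hyw, show y⁻¹ * (y * w * y⁻¹) * y = w by group] at h)
  have evw : v⁻¹ * w = u := by rw [inv_eq_of_mul_eq_one_right hv, hvw]
  have evu : v⁻¹ * u = w := by rw [← hvw, inv_mul_cancel_left]
  have ewu : w⁻¹ * u = v := by rw [← hvw, hcomm, inv_mul_cancel_left]
  let ι : Fin 4 → Q ⧸ D := fun i => ((![1, v, w, u] i : Q) : Q ⧸ D)
  have hι : Function.Injective ι := by
    have key : ∀ i j : Fin 4, i < j → ι i ≠ ι j := by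
      intro i j hij h
      have h' := QuotientGroup.eq.1 h
      fin_cases i <;> fin_cases j <;> first | (exact absurd hij (by decide)) | (simp at h')
      · exact hvD h'
      · exact hwD h'
      · exact huD h'
      · rw [evw] at h'; exact huD h'
      · rw [evu] at h'; exact hwD h'
      · rw [ewu] at h'; exact hvD h'
    intro i j h
    rcases lt_trichotomy i j with h' | h' | h'
    · exact absurd h (key i j h')
    · exact h'
    · exact absurd h.symm (key j i h')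
  let K : Subgroup Q :=
    { carrier := {g | ∃ σ : Perm (Fin 4), ∀ i, g • ι i = ι (σ i)}
      one_mem' := ⟨1, fun i => one_smul _ _⟩
      mul_mem' := fun {a b} ⟨σ, hσ⟩ ⟨τ, hτ⟩ => ⟨σ * τ, fun i => by
        rw [mul_smul, hτ, hσ]; rfl⟩
      inv_mem' := fun {a} ⟨σ, hσ⟩ => ⟨σ⁻¹, fun i => by
        rw [inv_smul_eq_iff, hσ]; simp⟩ }
  let f : K →* Perm (Fin 4) :=
    MonoidHom.mk' (fun g => Classical.choose g.2) (fun g h => Equiv.ext fun i => hι (by
      rw [← Classical.choose_spec (g * h).2 i, Subgroup.coe_mul, mul_smul,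
        Classical.choose_spec h.2 i, Classical.choose_spec g.2]
      rfl))
  have hf : ∀ (g : Q) (σ : Perm (Fin 4)) (h : ∀ i, g • ι i = ι (σ i)),
      σ ∈ f.range := fun g σ h => ⟨⟨g, σ, h⟩, Equiv.ext fun i => hι (by
        rw [← h i]
        exact (Classical.choose_spec (⟨σ, h⟩ : ∃ σ : Perm (Fin 4), ∀ i, g • ι i = ι (σ i)) i).symm)⟩
  have cD : ∀ a d : Q, d ∈ D → ((a * d : Q) : Q ⧸ D) = (a : Q ⧸ D) := fun a d hd => by
    rw [QuotientGroup.eq]; simpa using inv_mem hd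
  have rv : swap 0 1 * swap 2 3 ∈ f.range := hf v _ fun i => by
    show ((v * ![1, v, w, u] i : Q) : Q ⧸ D) = _
    refine congrArg (fun q : Q => (q : Q ⧸ D)) ?_
    fin_cases i
    · show v * 1 = v; rw [mul_one]
    · show v * v = 1; exact hv
    · show v * w = u; exact hvw
    · show v * u = w; rw [← hvw, ← mul_assoc, hv, one_mul]
  have rw' : swap 0 2 * swap 1 3 ∈ f.range := hf w _ fun i => by
    show ((w * ![1, v, w, u] i : Q) : Q ⧸ D) = _
    refine congrArg (fun q : Q => (q : Q ⧸ D)) ?_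
    fin_cases i
    · show w * 1 = w; rw [mul_one]
    · show w * v = u; rw [← hcomm, hvw]
    · show w * w = 1; exact hw
    · show w * u = v; rw [← hvw, hcomm, ← mul_assoc, hw, one_mul]
  have ry : swap 1 2 * swap 2 3 ∈ f.range := hf y _ fun i => by
    show ((y * ![1, v, w, u] i : Q) : Q ⧸ D) = _
    fin_cases i
    · show ((y * 1 : Q) : Q ⧸ D) = ((1 : Q) : Q ⧸ D)
      rw [mul_one, ← cD 1 y hyD, one_mul]
    · show ((y * v : Q) : Q ⧸ D) = ((w : Q) : Q ⧸ D)
      rw [mul_inv_eq_iff_eq_mul.1 hyv, cD w y hyD]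
    · show ((y * w : Q) : Q ⧸ D) = ((u : Q) : Q ⧸ D)
      rw [mul_inv_eq_iff_eq_mul.1 hyw, cD u y hyD]
    · show ((y * u : Q) : Q ⧸ D) = ((v : Q) : Q ⧸ D)
      rw [mul_inv_eq_iff_eq_mul.1 hyu, cD v y hyD]
  have rt : swap 2 3 ∈ f.range := hf t _ fun i => by
    show ((t * ![1, v, w, u] i : Q) : Q ⧸ D) = _
    fin_cases i
    · show ((t * 1 : Q) : Q ⧸ D) = ((1 : Q) : Q ⧸ D)
      rw [mul_one, ← cD 1 t htD, one_mul]
    · show ((t * v : Q) : Q ⧸ D) = ((v : Q) : Q ⧸ D)
      rw [mul_inv_eq_iff_eq_mul.1 htv, cD v t htD]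
    · show ((t * w : Q) : Q ⧸ D) = ((u : Q) : Q ⧸ D)
      rw [mul_inv_eq_iff_eq_mul.1 htw, cD u t htD]
    · show ((t * u : Q) : Q ⧸ D) = ((w : Q) : Q ⧸ D)
      rw [mul_inv_eq_iff_eq_mul.1 htu, cD w t htD]
  refine Involves.involves_of_hom f fun σ => ?_
  obtain ⟨a, b, c, d, rfl⟩ := perm_four_normal_form σ
  exact mul_mem (mul_mem (mul_mem (pow_mem rv _) (pow_mem rw' _)) (pow_mem ry _)) (pow_mem rt _)

/-- An inverted 3-element acting nontrivially on a 2-group gives an `S₄` section. -/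
theorem involves_of_inverted {G : Type*} [Group G] [Finite G] {T : Subgroup G} (hT : IsPGroup 2 T)
    {t y : G} (htT : t ∈ Subgroup.normalizer (T : Set G)) (hyT : y ∈ Subgroup.normalizer (T : Set G))
    (hyC : y ∉ Subgroup.centralizer (T : Set G)) (ht : ∃ k : ℕ, orderOf t = 2 ^ k)
    (hy : ∃ k : ℕ, orderOf y = 3 ^ k) (hty : t * y * t⁻¹ = y⁻¹) :
    Cfsg.Involves (Perm (Fin 4)) G := by
  -- reduce to `y ^ 3` centralizing `T`
  have red : ∀ (k : ℕ) (y : G), y ∈ Subgroup.normalizer (T : Set G) →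
      y ∉ Subgroup.centralizer (T : Set G) → orderOf y = 3 ^ k → t * y * t⁻¹ = y⁻¹ →
      ∃ y', y' ∈ Subgroup.normalizer (T : Set G) ∧ y' ∉ Subgroup.centralizer (T : Set G) ∧
        (∃ j : ℕ, orderOf y' = 3 ^ j) ∧ y' ^ 3 ∈ Subgroup.centralizer (T : Set G) ∧
        t * y' * t⁻¹ = y'⁻¹ := by
    intro k
    induction k with
    | zero =>
      intro y _ hc ho _
      rw [pow_zero, orderOf_eq_one_iff] at ho
      exact absurd (ho ▸ one_mem _) hc
    | succ k ih =>
      intro y hn hc ho hi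
      by_cases h3 : y ^ 3 ∈ Subgroup.centralizer (T : Set G)
      · exact ⟨y, hn, hc, ⟨_, ho⟩, h3, hi⟩
      · refine ih (y ^ 3) (pow_mem hn 3) h3 ?_ (by rw [← conj_pow, hi, inv_pow])
        rw [orderOf_pow_of_dvd (by norm_num) (ho ▸ dvd_pow_self 3 k.succ_ne_zero), ho, pow_succ',
          Nat.mul_div_cancel_left _ (by norm_num : 0 < 3)]
  obtain ⟨k, hk⟩ := hy
  obtain ⟨y, hyT, hyC, hy, hy3, hty⟩ := red k y hyT hyC hk hty
  -- a minimal invariant subgroup not centralized by `y`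
  let P : Subgroup G → Prop := fun U => U ≤ T ∧ t ∈ Subgroup.normalizer (U : Set G) ∧
    y ∈ Subgroup.normalizer (U : Set G) ∧ y ∉ Subgroup.centralizer (U : Set G)
  obtain ⟨U, hUP, hUmin⟩ := exists_minimal_of_wellFoundedLT P ⟨T, le_rfl, htT, hyT, hyC⟩
  obtain ⟨hUT, htU, hyU, hyUC⟩ := hUP
  have hU2 : IsPGroup 2 U := hT.to_le hUT
  set W := (frattini U).map U.subtype with hW
  have hWU : W ≤ U := Subgroup.map_subtype_le _
  have hNW : Subgroup.normalizer (U : Set G) ≤ Subgroup.normalizer (W : Set G) :=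
    Cores.normalizer_le_normalizer_map (frattini U)
  obtain ⟨u₀, hu₀U, hu₀⟩ : ∃ u₀ ∈ U, u₀⁻¹ * (y * u₀ * y⁻¹) ∉ W := by
    by_contra hcon
    push Not at hcon
    apply hyUC
    refine Coprime.le_centralizer_of_forall_mem_frattini (A := Subgroup.zpowers y) (K := U)
      (Subgroup.zpowers_le.2 hyU) ?_ ?_ (Subgroup.mem_zpowers y)
    · obtain ⟨j, hj⟩ := hy
      have : Fact (Nat.Prime 2) := ⟨Nat.prime_two⟩
      obtain ⟨i, hi⟩ := IsPGroup.iff_card.1 (hU2.to_subgroup (frattini U))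
      rw [Nat.card_zpowers, hj, hi]
      exact Nat.Coprime.pow j i (by norm_num)
    · -- the elements moving every element of `U` inside its own `W`-coset form a subgroup
      let S : Subgroup G :=
        { carrier := {a | a ∈ Subgroup.normalizer (U : Set G) ∧ ∀ k ∈ U, k⁻¹ * (a * k * a⁻¹) ∈ W}
          one_mem' := ⟨one_mem _, fun k _ => by simp⟩
          mul_mem' := fun {a b} ⟨ha, ha'⟩ ⟨hb, hb'⟩ => ⟨mul_mem ha hb, fun k hk => by
            have h1 := Subgroup.le_normalizer_iff.1 hNW a ha _ (hb' k hk)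
            have h2 := mul_mem (ha' k hk) h1
            convert h2 using 1
            group⟩
          inv_mem' := fun {a} ⟨ha, ha'⟩ => ⟨inv_mem ha, fun k hk => by
            have h1 := Subgroup.le_normalizer_iff.1 hNW a⁻¹ (inv_mem ha) _ (inv_mem (ha' k hk))
            convert h1 using 1
            group⟩ }
      have hS : Subgroup.zpowers y ≤ S := Subgroup.zpowers_le.2 ⟨hyU, hcon⟩
      intro a ha k hk
      have h1 := Subgroup.le_normalizer_iff.1 hNW k (Subgroup.le_normalizer hk) _ ((hS ha).2 k hk)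
      convert h1 using 1
      group
  -- pass to the quotient by `W`
  let N := Subgroup.normalizer (W : Set G)
  have hWn : (W.subgroupOf N).Normal :=
    (Subgroup.normal_subgroupOf_iff_le_normalizer Subgroup.le_normalizer).2 le_rfl
  let q : N →* N ⧸ W.subgroupOf N := QuotientGroup.mk' _
  let yq := q ⟨y, hNW hyU⟩
  let tq := q ⟨t, hNW htU⟩
  have hUN : U ≤ N := (Subgroup.le_normalizer).trans hNW
  let E : Subgroup (N ⧸ W.subgroupOf N) := (U.subgroupOf N).map q
  have hq1 : ∀ x : N, (x : G) ∈ W → q x = 1 := fun x hx => (QuotientGroup.eq_one_iff _).2 hx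
  have : Fact (Nat.Prime 2) := ⟨Nat.prime_two⟩
  have hEc : ∀ a ∈ E, ∀ b ∈ E, a * b = b * a := by
    rintro _ ⟨a, ha, rfl⟩ _ ⟨b, hb, rfl⟩
    rw [← commutatorElement_eq_one_iff_mul_comm, ← map_commutatorElement]
    apply hq1
    exact ⟨⁅(⟨(a : G), ha⟩ : U), ⟨(b : G), hb⟩⁆, PGroup.commutatorElement_mem_frattini hU2 _ _, rfl⟩
  have hE2 : ∀ a ∈ E, a * a = 1 := by
    rintro _ ⟨a, ha, rfl⟩
    rw [← map_mul]
    apply hq1
    refine ⟨(⟨(a : G), ha⟩ : U) ^ 2, PGroup.pow_mem_frattini hU2 _, ?_⟩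
    simp [sq]
  have hEn : ∀ (g : G) (hg : g ∈ Subgroup.normalizer (U : Set G)), ∀ a ∈ E,
      q ⟨g, hNW hg⟩ * a * (q ⟨g, hNW hg⟩)⁻¹ ∈ E := by
    rintro g hg _ ⟨a, ha, rfl⟩
    rw [← map_inv, ← map_mul, ← map_mul]
    exact Subgroup.mem_map_of_mem _ (Subgroup.le_normalizer_iff.1 le_rfl g hg (a : G) ha)
  have hy3q : ∀ a ∈ E, yq ^ 3 * a = a * yq ^ 3 := by
    rintro _ ⟨a, ha, rfl⟩
    rw [← map_pow, ← map_mul, ← map_mul]
    exact congrArg q (Subtype.ext (Subgroup.mem_centralizer_iff.1 hy3 (a : G) (hUT ha)).symm)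
  let Y : (N ⧸ W.subgroupOf N) → (N ⧸ W.subgroupOf N) := fun m => yq * m * yq⁻¹
  have hYE : ∀ a ∈ E, Y a ∈ E := fun a ha => hEn y hyU a ha
  have hY3 : ∀ a ∈ E, Y (Y (Y a)) = a := fun a ha => by
    calc Y (Y (Y a)) = yq ^ 3 * a * (yq ^ 3)⁻¹ := by simp [Y, pow_succ, mul_assoc]
      _ = a := by rw [hy3q a ha, mul_inv_cancel_right]
  let M : Subgroup (N ⧸ W.subgroupOf N) :=
    { carrier := {m | m ∈ E ∧ m * Y m * Y (Y m) = 1}
      one_mem' := ⟨one_mem _, by simp [Y]⟩
      mul_mem' := fun {a b} ⟨ha, ha'⟩ ⟨hb, hb'⟩ => ⟨mul_mem ha hb, by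
        have e1 : Y (a * b) = Y a * Y b := by simp [Y, mul_assoc]
        have e2 : Y (Y a * Y b) = Y (Y a) * Y (Y b) := by simp [Y, mul_assoc]
        rw [e1, e2, Commute.mul_mul_mul_comm (hEc b hb (Y a) (hYE a ha)),
          Commute.mul_mul_mul_comm (hEc (b * Y b) (mul_mem hb (hYE b hb)) (Y (Y a))
            (hYE _ (hYE a ha))), ha', hb', one_mul]⟩
      inv_mem' := fun {a} ⟨ha, ha'⟩ => ⟨inv_mem ha, by
        have e1 : Y a⁻¹ = (Y a)⁻¹ := by simp [Y, mul_assoc]
        have e2 : Y (Y a)⁻¹ = (Y (Y a))⁻¹ := by simp [Y, mul_assoc]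
        rw [e1, e2, ← mul_inv_rev, ← mul_inv_rev, inv_eq_one,
          hEc (Y a) (hYE a ha) a ha, hEc (Y (Y a)) (hYE _ (hYE a ha)) _ (mul_mem ha (hYE a ha))]
        exact ha'⟩ }
  have hMt : ∀ m ∈ M, tq * m * tq⁻¹ ∈ M := by
    rintro m ⟨hm, hm'⟩
    have htyq : tq * yq * tq⁻¹ = yq⁻¹ := by
      show q ⟨t, _⟩ * q ⟨y, _⟩ * (q ⟨t, _⟩)⁻¹ = (q ⟨y, _⟩)⁻¹
      rw [← map_inv, ← map_mul, ← map_mul, ← map_inv]
      exact congrArg q (Subtype.ext hty)
    have hmE : tq * m * tq⁻¹ ∈ E := hEn t htU m hm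
    have hswap : ∀ a : N ⧸ W.subgroupOf N, tq * Y a * tq⁻¹ = yq⁻¹ * (tq * a * tq⁻¹) * yq := by
      intro a
      calc tq * Y a * tq⁻¹ = (tq * yq * tq⁻¹) * (tq * a * tq⁻¹) * (tq * yq * tq⁻¹)⁻¹ := by
            simp [Y, mul_assoc]
        _ = _ := by rw [htyq, inv_inv]
    have hback : ∀ a ∈ E, yq⁻¹ * a * yq = Y (Y a) := fun a ha => by
      have h := hY3 a ha
      calc yq⁻¹ * a * yq = yq⁻¹ * Y (Y (Y a)) * yq := by rw [h]
        _ = Y (Y a) := by simp [Y, mul_assoc]
    refine ⟨hmE, ?_⟩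
    set m' := tq * m * tq⁻¹ with hm'def
    have h0 : tq * (m * Y m * Y (Y m)) * tq⁻¹ = 1 := by rw [hm', mul_one, mul_inv_cancel]
    have h1 : tq * (m * Y m * Y (Y m)) * tq⁻¹ = m' * Y (Y m') * Y m' := by
      calc tq * (m * Y m * Y (Y m)) * tq⁻¹ =
            m' * (tq * Y m * tq⁻¹) * (tq * Y (Y m) * tq⁻¹) := by simp [hm'def, mul_assoc]
        _ = m' * Y (Y m') * Y (Y (Y (Y m'))) := by
            rw [hswap, hswap, hswap, hback m' hmE, hback _ (hYE _ (hYE _ hmE))]
        _ = m' * Y (Y m') * Y m' := by rw [hY3 m' hmE]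
    rw [mul_assoc, hEc (Y m') (hYE _ hmE) (Y (Y m')) (hYE _ (hYE _ hmE)), ← mul_assoc, ← h1, h0]
  have hne : ∃ m ∈ M, m ≠ 1 := by
    set a := q ⟨u₀, hUN hu₀U⟩ with ha
    have haE : a ∈ E := Subgroup.mem_map_of_mem _ hu₀U
    refine ⟨a⁻¹ * Y a, ⟨mul_mem (inv_mem haE) (hYE a haE), ?_⟩, ?_⟩
    · calc a⁻¹ * Y a * Y (a⁻¹ * Y a) * Y (Y (a⁻¹ * Y a)) = a⁻¹ * Y (Y (Y a)) := by
            simp [Y, mul_assoc]
        _ = 1 := by rw [hY3 a haE, inv_mul_cancel]
    · intro h1
      apply hu₀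
      have h2 : q ((⟨u₀, hUN hu₀U⟩ : N)⁻¹ * (⟨y, hNW hyU⟩ * ⟨u₀, hUN hu₀U⟩ * (⟨y, hNW hyU⟩)⁻¹)) = 1 := by
        rw [map_mul, map_mul, map_mul, map_inv, map_inv]; exact h1
      exact (QuotientGroup.eq_one_iff (N := W.subgroupOf N) _).1 h2
  have hM2 : IsPGroup 2 M := by
    intro m
    exact ⟨1, Subtype.ext (by simpa [sq] using hE2 _ m.2.1)⟩
  let act : MulAction (Subgroup.zpowers tq) M :=
    { smul := fun g m => ⟨(g : N ⧸ W.subgroupOf N) * m * (g : N ⧸ W.subgroupOf N)⁻¹, by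
        have hle : Subgroup.zpowers tq ≤ Subgroup.normalizer (M : Set (N ⧸ W.subgroupOf N)) := by
          rw [Subgroup.zpowers_le, Subgroup.mem_normalizer_iff_map_conj_eq]
          refine Subgroup.eq_of_le_of_card_ge ?_ ?_
          · rintro _ ⟨m, hm, rfl⟩; exact hMt m hm
          · exact le_of_eq (Subgroup.card_map_of_injective (MulAut.conj tq).injective).symm
        exact Subgroup.le_normalizer_iff.1 hle g g.2 _ m.2⟩
      one_smul := fun m => Subtype.ext (by show (1 : N ⧸ W.subgroupOf N) * m * 1⁻¹ = m; simp)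
      mul_smul := fun a b m => Subtype.ext (by
        show (a : N ⧸ W.subgroupOf N) * b * m * ((a : N ⧸ W.subgroupOf N) * b)⁻¹ =
          (a : N ⧸ W.subgroupOf N) * ((b : N ⧸ W.subgroupOf N) * m * (b : N ⧸ W.subgroupOf N)⁻¹) *
            (a : N ⧸ W.subgroupOf N)⁻¹
        simp [mul_assoc]) }
  have htq2 : IsPGroup 2 (Subgroup.zpowers tq) := by
    obtain ⟨j, hj⟩ := ht
    have hd : orderOf tq ∣ 2 ^ j := by
      rw [← hj, show orderOf t = orderOf (⟨t, hNW htU⟩ : N) from (Subgroup.orderOf_mk _ _).symm]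
      exact orderOf_map_dvd q _
    obtain ⟨i, -, hi⟩ := (Nat.dvd_prime_pow Nat.prime_two).1 hd
    exact IsPGroup.of_card (n := i) (by rw [Nat.card_zpowers, hi])
  obtain ⟨m₁, hm₁, hm₁1⟩ := hne
  have hdvd : 2 ∣ Nat.card M := by
    have h1 : orderOf (⟨m₁, hm₁⟩ : M) = 2 := orderOf_eq_prime
      (Subtype.ext (by simpa [sq] using hE2 _ hm₁.1)) fun h => hm₁1 (congrArg Subtype.val h)
    rw [← h1]; exact orderOf_dvd_natCard _
  have hone : (1 : M) ∈ MulAction.fixedPoints (Subgroup.zpowers tq) M := fun g =>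
    Subtype.ext (by show (g : N ⧸ W.subgroupOf N) * 1 * (g : N ⧸ W.subgroupOf N)⁻¹ = 1; simp)
  obtain ⟨⟨v, hvE, hvn⟩, hvfix, hv1⟩ :=
    htq2.exists_fixed_point_of_prime_dvd_card_of_fixed_point M hdvd hone
  have htv : tq * v * tq⁻¹ = v :=
    congrArg Subtype.val (hvfix ⟨tq, Subgroup.mem_zpowers tq⟩)
  have hv1' : v ≠ 1 := fun h => hv1 (Subtype.ext h.symm)
  have hvw : v * Y v = Y (Y v) := by
    calc v * Y v = v * Y v * (Y (Y v) * Y (Y v)) := by
          rw [hE2 _ (hYE _ (hYE v hvE)), mul_one]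
      _ = (v * Y v * Y (Y v)) * Y (Y v) := by group
      _ = Y (Y v) := by rw [hvn, one_mul]
  have hwv : Y v ≠ v := by
    intro h
    rw [h, h, hE2 v hvE, one_mul] at hvn
    exact hv1' hvn
  have hback : yq⁻¹ * v * yq = Y (Y v) := by
    conv_lhs => rw [← hY3 v hvE]
    simp [Y, mul_assoc]
  have htyq : tq * yq * tq⁻¹ = yq⁻¹ := by
    show q ⟨t, _⟩ * q ⟨y, _⟩ * (q ⟨t, _⟩)⁻¹ = (q ⟨y, _⟩)⁻¹
    rw [← map_inv, ← map_mul, ← map_mul, ← map_inv]
    exact congrArg q (Subtype.ext hty)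
  have htw : tq * Y v * tq⁻¹ = Y (Y v) := by
    calc tq * Y v * tq⁻¹ = (tq * yq * tq⁻¹) * (tq * v * tq⁻¹) * (tq * yq * tq⁻¹)⁻¹ := by
          simp [Y, mul_assoc]
      _ = Y (Y v) := by rw [htyq, htv, inv_inv, hback]
  have hyq : ∃ j : ℕ, orderOf yq = 3 ^ j := by
    obtain ⟨j, hj⟩ := hy
    have hd : orderOf yq ∣ 3 ^ j := by
      rw [← hj, show orderOf y = orderOf (⟨y, hNW hyU⟩ : N) from (Subgroup.orderOf_mk _ _).symm]
      exact orderOf_map_dvd q _
    obtain ⟨i, -, hi⟩ := (Nat.dvd_prime_pow Nat.prime_three).1 hd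
    exact ⟨i, hi⟩
  have h4 := involves_of_fourGroup (hE2 v hvE) (hE2 _ (hYE v hvE)) hvw
    (hEc v hvE _ (hYE v hvE)) hv1' hwv (y := yq) rfl rfl (hY3 v hvE) htv htw
    (by
      rw [← hvw]
      calc tq * (v * Y v) * tq⁻¹ = (tq * v * tq⁻¹) * (tq * Y v * tq⁻¹) := by group
        _ = v * Y (Y v) := by rw [htv, htw]
        _ = Y v := by rw [← hvw, ← mul_assoc, hE2 v hvE, one_mul])
    htyq hyq
  exact Involves.involves_of_subgroup (Involves.involves_of_surjective q (QuotientGroup.mk'_surjective _) h4)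

/-- For a finite group G, the symmetric group of degree 4 is involved in G if and only if there is a 2-subgroup T of G such that the symmetric group of degree 3 is involved in N(T)/C(T). -/
theorem result {G : Type*} [Group G] [Finite G] : Cfsg.Involves (Equiv.Perm (Fin 4)) G ↔ ∃ T : Subgroup G, IsPGroup 2 ↥T ∧ Cfsg.Involves (Equiv.Perm (Fin 3)) (↥(Subgroup.normalizer (T : Set G)) ⧸ (Subgroup.centralizer (T : Set G)).subgroupOf (Subgroup.normalizer (T : Set G))) := by
  constructor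
  · intro h
    obtain ⟨K, f, hf⟩ := Involves.exists_hom_of_involves h
    have : Fact (Nat.Prime 2) := ⟨Nat.prime_two⟩
    set L := pairAct.ker.comap f
    obtain ⟨P⟩ : Nonempty (Sylow 2 L) := inferInstance
    set T₀ := (P : Subgroup L).map L.subtype with hT₀
    set T := T₀.map K.subtype with hT
    let g₀ : L →* pairAct.ker := f.subgroupComap pairAct.ker
    have hg₀ : Function.Surjective g₀ := f.subgroupComap_surjective_of_surjective pairAct.ker hf
    have hker2 : IsPGroup 2 pairAct.ker := fun σ =>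
      ⟨1, Subtype.ext (by simpa [sq] using sq_eq_one_of_pairAct σ σ.2)⟩
    have himg : (P.mapSurjective hg₀ : Subgroup pairAct.ker) = ⊤ :=
      ((P.mapSurjective hg₀).is_maximal' (Q := ⊤) (hker2.to_subgroup _) le_top).symm
    have hlift : ∀ i : Fin 3, ∃ x : K, (x : G) ∈ T ∧ f x = dbl i := by
      intro i
      have h1 : (⟨dbl i, pairAct_dbl i⟩ : pairAct.ker) ∈ (P.mapSurjective hg₀ : Subgroup pairAct.ker) :=
        himg ▸ Subgroup.mem_top _
      rw [Sylow.coe_mapSurjective] at h1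
      obtain ⟨a, ha, hae⟩ := h1
      exact ⟨(a : K), Subgroup.mem_map_of_mem _ (Subgroup.mem_map_of_mem _ ha),
        congrArg Subtype.val hae⟩
    refine ⟨T, ((P.isPGroup').map _).map _, ?_⟩
    let K₀ : Subgroup K := Subgroup.normalizer (T₀ : Set K)
    have hK₀ : ∀ n : K₀, ((n : K) : G) ∈ Subgroup.normalizer (T : Set G) := fun n =>
      Subgroup.le_normalizer_map _ (Subgroup.mem_map_of_mem _ n.2)
    let ψ : K₀ →* ↥(Subgroup.normalizer (T : Set G)) ⧸
        (Subgroup.centralizer (T : Set G)).subgroupOf (Subgroup.normalizer (T : Set G)) :=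
      (QuotientGroup.mk' _).comp ((K.subtype.comp K₀.subtype).codRestrict _ hK₀)
    let g : K₀ →* Equiv.Perm (Fin 3) := (pairAct.comp f).comp K₀.subtype
    have hker : ψ.ker ≤ g.ker := by
      intro n hn
      have hc : ((n : K) : G) ∈ Subgroup.centralizer (T : Set G) :=
        (QuotientGroup.eq_one_iff (N := (Subgroup.centralizer (T : Set G)).subgroupOf
          (Subgroup.normalizer (T : Set G))) ((K.subtype.comp K₀.subtype).codRestrict _ hK₀ n)).1 hn
      refine pairAct_eq_one_of_commute fun i => ?_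
      obtain ⟨x, hxT, hxi⟩ := hlift i
      rw [← hxi]
      show f n * f x = f x * f n
      rw [← map_mul, ← map_mul]
      exact congrArg f (Subtype.ext (Subgroup.mem_centralizer_iff.1 hc _ hxT).symm)
    have hg : Function.Surjective g := by
      intro ρ
      obtain ⟨σ, rfl⟩ := pairAct_surjective ρ
      obtain ⟨k, rfl⟩ := hf σ
      have hk : k ∈ K₀ ⊔ L := P.normalizer_sup_eq_top.symm ▸ Subgroup.mem_top k
      obtain ⟨n, hn, l, hl, rfl⟩ := Subgroup.mem_sup_of_normal_right.1 hk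
      refine ⟨⟨n, hn⟩, ?_⟩
      show pairAct (f n) = pairAct (f (n * l))
      rw [map_mul, map_mul, show pairAct (f l) = 1 from hl, mul_one]
    refine Involves.involves_of_hom
      (MonoidHom.liftOfSurjective ψ.rangeRestrict ψ.rangeRestrict_surjective
        ⟨g, by rw [MonoidHom.ker_rangeRestrict]; exact hker⟩) fun ρ => ?_
    obtain ⟨n, rfl⟩ := hg ρ
    exact ⟨ψ.rangeRestrict n, MonoidHom.liftOfRightInverse_comp_apply _ _ _ _ n⟩
  · rintro ⟨T, hT, hinv⟩
    obtain ⟨e⟩ := exists_equiv_dihedral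
    obtain ⟨K, f, hf⟩ :=
      Involves.exists_hom_of_involves (Involves.involves_of_mulEquiv e.symm hinv)
    have : Fact (Nat.Prime 3) := ⟨Nat.prime_three⟩
    let π := QuotientGroup.mk' ((Subgroup.centralizer (T : Set G)).subgroupOf
      (Subgroup.normalizer (T : Set G)))
    let f' : ↥(K.comap π) →* DihedralGroup 3 := f.comp (π.subgroupComap K)
    have hf' : Function.Surjective f' :=
      hf.comp (π.subgroupComap_surjective_of_surjective K (QuotientGroup.mk'_surjective _))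
    obtain ⟨t, y, ht, hy, hty, hfy⟩ := Involves.exists_inverting_of_surjective (by norm_num) f' hf'
    refine involves_of_inverted hT (t := ((t : ↥(Subgroup.normalizer (T : Set G))) : G))
      (y := ((y : ↥(Subgroup.normalizer (T : Set G))) : G)) t.1.2 y.1.2 ?_ ?_ ?_ ?_
    · intro hc
      apply hfy
      have h1 : π.subgroupComap K y = 1 := Subtype.ext ((QuotientGroup.eq_one_iff _).2 hc)
      show f (π.subgroupComap K y) = 1
      rw [h1, map_one]
    · obtain ⟨k, hk⟩ := ht; exact ⟨k, by rw [Subgroup.orderOf_coe, Subgroup.orderOf_coe, hk]⟩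
    · obtain ⟨k, hk⟩ := hy; exact ⟨k, by rw [Subgroup.orderOf_coe, Subgroup.orderOf_coe, hk]⟩
    · exact congrArg (fun z : ↥(K.comap π) => ((z : ↥(Subgroup.normalizer (T : Set G))) : G)) hty

end Cfsg.Agent.S2759
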