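import Cfsg.Statements.S2761
import Cfsg.Agent.Lib.QdOver.Basic

set_option autoImplicit false
open Cfsg

namespace Cfsg.Agent.S2761

open Cfsg.Agent.QdOver

/-- The affine action of an element of `Qd(2)` on the plane. -/
def affine (M : Cfsg.qdOver (ZMod 2)) (v : ZMod 2 × ZMod 2) : ZMod 2 × ZMod 2 :=
  (ent M 0 0 * v.1 + ent M 0 1 * v.2 + ent M 0 2, ent M 1 0 * v.1 + ent M 1 1 * v.2 + ent M 1 2)

theorem affine_one (v : ZMod 2 × ZMod 2) : affine 1 v = v := by
  simp [affine, ent_one]

theorem affine_mul (M N : Cfsg.qdOver (ZMod 2)) (v : ZMod 2 × ZMod 2) :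
    affine (M * N) v = affine M (affine N v) := by
  obtain ⟨h0, h1, h2⟩ := ent_last N
  simp only [affine, ent_mul, h0, h1, h2, Prod.mk.injEq]
  exact ⟨by ring, by ring⟩

/-- The affine action as a homomorphism. -/
def affineHom : Cfsg.qdOver (ZMod 2) →* Equiv.Perm (ZMod 2 × ZMod 2) :=
  MonoidHom.mk'
    (fun M =>
      { toFun := affine M
        invFun := affine M⁻¹
        left_inv := fun v => by rw [← affine_mul, inv_mul_cancel, affine_one]
        right_inv := fun v => by rw [← affine_mul, mul_inv_cancel, affine_one] })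
    (fun M N => Equiv.ext (affine_mul M N))

theorem affineHom_injective : Function.Injective affineHom := by
  intro M N h
  have h' : ∀ v, affine M v = affine N v := fun v => Equiv.congr_fun h v
  have a := h' (0, 0)
  have b := h' (1, 0)
  have c := h' (0, 1)
  simp only [affine, mul_zero, mul_one, zero_add, add_zero, Prod.mk.injEq] at a b c
  obtain ⟨a0, a1⟩ := a
  obtain ⟨b0, b1⟩ := b
  obtain ⟨c0, c1⟩ := c
  exact ext_ent (by linear_combination b0 - a0) (by linear_combination c0 - a0) a0
    (by linear_combination b1 - a1) (by linear_combination c1 - a1) a1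

theorem card_sl_two : Fintype.card {A : Matrix (Fin 2) (Fin 2) (ZMod 2) // A.det = 1} = 6 := by
  decide +kernel

theorem card_qd_two : Nat.card (Cfsg.qdOver (ZMod 2)) = 24 := by
  let e : Cfsg.qdOver (ZMod 2) ≃
      (ZMod 2 × ZMod 2) × Matrix.SpecialLinearGroup (Fin 2) (ZMod 2) :=
    { toFun := fun M => ((ent M 0 2, ent M 1 2), block M)
      invFun := fun x => tr x.1.1 x.1.2 * emb x.2
      left_inv := fun M => (decomp M).symm
      right_inv := fun x => by
        refine Prod.ext (Prod.ext ?_ ?_) ?_
        · simp [ent_mul, tr, emb]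
        · simp [ent_mul, tr, emb]
        · show block (tr x.1.1 x.1.2 * emb x.2) = x.2
          rw [map_mul, block_tr, block_emb, one_mul] }
  rw [Nat.card_congr e, Nat.card_prod, Nat.card_prod, Nat.card_zmod,
    Nat.card_eq_fintype_card (α := Matrix.SpecialLinearGroup (Fin 2) (ZMod 2))]
  rw [show Fintype.card (Matrix.SpecialLinearGroup (Fin 2) (ZMod 2)) = 6 from
    (Fintype.card_congr (Equiv.refl _)).trans card_sl_two]

/-- The group Qd(2), the natural semidirect product of an elementary abelian group of order 4 by SL₂(2) (realised as the affine subgroup of SL₃(2)), is isomorphic to the symmetric group of degree 4. -/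
theorem result : Nonempty (↥(Cfsg.qd 2) ≃* Equiv.Perm (Fin 4)) := by
  have : Fact (Nat.Prime 2) := ⟨Nat.prime_two⟩
  have hb : Function.Bijective affineHom := by
    rw [Nat.bijective_iff_injective_and_card]
    refine ⟨affineHom_injective, ?_⟩
    rw [card_qd_two, Nat.card_perm, Nat.card_prod, Nat.card_zmod]
    rfl
  rw [qd_eq_qdOver]
  exact ⟨(MulEquiv.ofBijective affineHom hb).trans
    (Fintype.equivFinOfCardEq (show Fintype.card (ZMod 2 × ZMod 2) = 4 by simp)).permCongrHom⟩

end Cfsg.Agent.S2761
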