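import Cfsg.Statements.S2755
import Cfsg.Agent.EqLemmas
import Cfsg.Agent.Lib.ReeInverted.Final
import Cfsg.Agent.Lib.GoldschmidtFree.Families

set_option autoImplicit false
open Cfsg

namespace Cfsg.Agent.S2755

open Cfsg.Agent GoldschmidtFree

theorem kFacts_not_eight {K : Type*} [Group K] {q : ℕ} (h : ReeInverted.KFacts K q) (h8 : q % 8 = 3) :
    ¬ 8 ∣ Nat.card K := by
  intro hd
  have h16 : 16 ∣ q * ((q + 1) * (q - 1)) := h.card ▸ Nat.mul_dvd_mul_left 2 hd
  obtain ⟨b, hb⟩ : ∃ b, q = 8 * b + 3 := ⟨q / 8, by omega⟩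
  subst hb
  rw [show (8 * b + 3) * ((8 * b + 3 + 1) * (8 * b + 3 - 1)) =
    16 * (32 * b ^ 3 + 36 * b ^ 2 + 13 * b + 1) + 8 by
      rw [show 8 * b + 3 - 1 = 8 * b + 2 by omega]; ring] at h16
  omega

theorem psl_not_eight {F : Type} [Field F] [Fintype F] {q : ℕ} (hF : Fintype.card F = q)
    (h8 : q % 8 = 3 ∨ q % 8 = 5) : ¬ 8 ∣ Nat.card (Matrix.ProjectiveSpecialLinearGroup (Fin 2) F) := by
  intro hd
  have h := PSL2.card_psl_mul (F := F)
  rw [Nat.card_eq_fintype_card (α := F), hF] at h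
  have hg : Nat.gcd 2 (q - 1) = 2 := Nat.gcd_eq_left (by omega)
  rw [hg] at h
  have h16 : 16 ∣ q * ((q + 1) * (q - 1)) := h ▸ Nat.mul_dvd_mul_left 2 hd
  rcases h8 with h8 | h8
  · obtain ⟨b, rfl⟩ : ∃ b, q = 8 * b + 3 := ⟨q / 8, by omega⟩
    rw [show (8 * b + 3) * ((8 * b + 3 + 1) * (8 * b + 3 - 1)) =
      16 * (32 * b ^ 3 + 36 * b ^ 2 + 13 * b + 1) + 8 by
        rw [show 8 * b + 3 - 1 = 8 * b + 2 by omega]; ring] at h16
    omega
  · obtain ⟨b, rfl⟩ : ∃ b, q = 8 * b + 5 := ⟨q / 8, by omega⟩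
    rw [show (8 * b + 5) * ((8 * b + 5 + 1) * (8 * b + 5 - 1)) =
      16 * (32 * b ^ 3 + 60 * b ^ 2 + 37 * b + 7) + 8 by
        rw [show 8 * b + 5 - 1 = 8 * b + 4 by omega]; ring] at h16
    omega

theorem rhs_noInverted {G : Type*} [Group G] [Finite G] (h : Cfsg.IsSuzukiOrPSL2OddPowerThree G) :
    NoInverted G := by
  rcases h with h | ⟨F, iF, iFt, n, hF, ⟨e⟩⟩
  · exact noInverted_of_three (three_not_dvd_suzuki h)
  · exact noInverted_congr e (noInverted_psl hF)

theorem dichotomy {G : Type*} [Group G] [Finite G] (hG : Cfsg.IsGoldschmidtGroup G) :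
    ¬ Cfsg.Involves (Equiv.Perm (Fin 4)) G ∧ (¬ NoInverted G ∨ Cfsg.IsSuzukiOrPSL2OddPowerThree G) := by
  rcases hG with hR | ⟨F, iF, iFt, n, -, hF, ⟨e⟩⟩ | hSz | ⟨F, iF, iFt, n, hn, hF, ⟨e⟩⟩ |
    ⟨F, iF, iFt, q, hF, -, h8, ⟨e⟩⟩ | ⟨⟨e⟩⟩
  · refine ⟨?_, Or.inl (ReeInverted.not_noInverted_of_isReeType hR)⟩
    obtain ⟨-, -, t, K, n, hn, ht, hidx, hprod, F, _, _, hF, ⟨e⟩⟩ := hR
    exact not_involves_perm_four_of_comm (ReeInverted.sylow_comm ht hidx hprod
      (kFacts_not_eight ((ReeInverted.kFacts hF hn).congr e) (ReeInverted.three_pow_mod_eight n)))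
  · have : CharP F 2 := by
      obtain ⟨p, hp⟩ := CharP.exists F
      have : Fact p.Prime := ⟨CharP.char_is_prime F p⟩
      obtain ⟨d, -, hcq⟩ := FiniteField.card F p
      have hp2 : p ∣ 2 ^ n := by rw [← hF, hcq]; exact dvd_pow_self p d.pos.ne'
      rwa [← (Nat.prime_dvd_prime_iff_eq Fact.out Nat.prime_two).1
        ((Fact.out : p.Prime).dvd_of_dvd_pow hp2)]
    exact ⟨involves_four_congr e (not_involves_four_psl_even hF),
      Or.inl (not_noInverted_of_sub e.symm.toMonoidHom e.symm.injective not_noInverted_psl_even)⟩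
  · exact ⟨not_involves_perm_four_of_three (three_not_dvd_suzuki hSz), Or.inr (Or.inl hSz)⟩
  · have hF' : Fintype.card F = (2 ^ n) ^ 2 := by
      rw [hF, ← pow_mul, mul_comm, pow_mul]
      norm_num
    have h2 : (2 : F) = 0 := by
      have h0 : ((2 : ℕ) : F) ^ (n * 2) = 0 := by
        rw [← Nat.cast_pow, pow_mul, ← hF']; exact FiniteField.cast_card_eq_zero F
      exact_mod_cast eq_zero_of_pow_eq_zero h0
    exact ⟨involves_four_congr e (not_involves_four_psu hn hF'),
      Or.inl (not_noInverted_of_sub e.symm.toMonoidHom e.symm.injective (not_noInverted_psu h2 _))⟩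
  · refine ⟨involves_four_congr e (not_involves_perm_four_of_not_eight (psl_not_eight hF h8)), ?_⟩
    by_cases h3 : 3 ∣ Fintype.card F
    · obtain ⟨p, hp⟩ := CharP.exists F
      have : Fact p.Prime := ⟨CharP.char_is_prime F p⟩
      obtain ⟨d, -, hcq⟩ := FiniteField.card F p
      have hp3 : p = 3 := ((Nat.prime_dvd_prime_iff_eq Nat.prime_three Fact.out).1
        (Nat.prime_three.dvd_of_dvd_pow (hcq ▸ h3))).symm
      subst hp3
      rcases Nat.even_or_odd' (d : ℕ) with ⟨j, hj | hj⟩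
      · exfalso
        have h1 : q % 8 = 1 := by
          rw [← hF, hcq, hj, pow_mul, Nat.pow_mod]; norm_num
        omega
      · exact Or.inr (Or.inr ⟨F, iF, iFt, j, by rw [hcq, hj], ⟨e⟩⟩)
    · exact Or.inl (not_noInverted_of_sub e.symm.toMonoidHom e.symm.injective
        (not_noInverted_psl_dihedral h3 (Nat.odd_iff.2 (by omega))))
  · refine ⟨involves_four_congr e (not_involves_perm_four_of_comm janko_comm), Or.inl ?_⟩
    obtain ⟨t, -, ⟨f⟩⟩ := JankoOne.exists_involution_centralizer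
    exact not_noInverted_of_sub
      ((e.symm.toMonoidHom.comp (Subgroup.subtype _)).comp (f.symm.toMonoidHom.comp (MonoidHom.inr _ _)))
      ((e.symm.injective.comp (Subgroup.subtype_injective _)).comp
        (f.symm.injective.comp fun a b h => (Prod.ext_iff.1 h).2))
      ReeInverted.exists_three_inverted

/-- Every finite Goldschmidt group is S₄-free (the symmetric group of degree 4 is not involved in it); and for a finite Goldschmidt group G, the symmetric group of degree 3 is not involved in G exactly when G is a Suzuki group or PSL₂ over a field with 3^(2n+1) elements. -/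
theorem result {G : Type*} [Group G] [Finite G] (hG : Cfsg.IsGoldschmidtGroup G) : ¬ Cfsg.Involves (Equiv.Perm (Fin 4)) G ∧ (¬ Cfsg.Involves (Equiv.Perm (Fin 3)) G ↔ Cfsg.IsSuzukiOrPSL2OddPowerThree G) := by
  obtain ⟨h4, h3⟩ := dichotomy hG
  refine ⟨h4, ?_⟩
  rw [involves_perm_three_iff, not_not]
  exact ⟨fun h => h3.resolve_left (not_not.2 h), rhs_noInverted⟩

end Cfsg.Agent.S2755
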