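import Cfsg.Statements.S2119
import Cfsg.Agent.Lib.AltAut.ThreeCycle

set_option autoImplicit false
open Cfsg

namespace Cfsg.Agent.S2119

open Equiv Cfsg.Agent.AltAut
open scoped Nat

/-- The centralizer in `A_n` is at least half that in `S_n`. -/
theorem card_centralizer_le {n : ℕ} (x : alternatingGroup (Fin n)) :
    Nat.card (Subgroup.centralizer {(x : Perm (Fin n))}) ≤ 2 * Nat.card (Subgroup.centralizer {x}) ∧
      Nat.card (Subgroup.centralizer {x}) ≤ Nat.card (Subgroup.centralizer {(x : Perm (Fin n))}) := by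
  constructor
  · set f : Subgroup.centralizer {(x : Perm (Fin n))} →* ℤˣ := Perm.sign.comp (Subgroup.subtype _) with hf
    have h1 : Nat.card f.ker ≤ Nat.card (Subgroup.centralizer {x}) := by
      refine Nat.card_le_card_of_injective (fun g => ⟨⟨(g.1 : Perm (Fin n)), ?_⟩, ?_⟩) ?_
      · exact Perm.mem_alternatingGroup.mpr g.2
      · rw [Subgroup.mem_centralizer_singleton_iff]
        exact Subtype.ext (Subgroup.mem_centralizer_singleton_iff.mp g.1.2)
      · intro g g' h
        simp only [Subtype.mk.injEq] at h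
        exact Subtype.ext (Subtype.ext h)
    have h2 : Nat.card f.range ≤ 2 :=
      (Nat.card_le_card_of_injective _ Subtype.val_injective).trans (by simp)
    rw [← f.ker.card_mul_index, Subgroup.index_ker]
    calc Nat.card f.ker * Nat.card f.range ≤ Nat.card (Subgroup.centralizer {x}) * 2 := Nat.mul_le_mul h1 h2
      _ = _ := mul_comm _ _
  · refine Nat.card_le_card_of_injective (fun g => ⟨(g.1 : Perm (Fin n)), ?_⟩) ?_
    · rw [Subgroup.mem_centralizer_singleton_iff]
      exact congrArg Subtype.val (Subgroup.mem_centralizer_singleton_iff.mp g.2)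
    · intro g g' h
      simp only [Subtype.mk.injEq] at h
      exact Subtype.ext (Subtype.ext h)

theorem factorial_ineq {n K : ℕ} (hn : n ≠ 6) (hK : 2 ≤ K) (h : 3 * K ≤ n) :
    2 * ((n - 3 * K)! * 3 ^ K * K !) < (n - 3)! * 3 := by
  rcases eq_or_lt_of_le hK with rfl | hK3
  · obtain ⟨a, rfl⟩ : ∃ a, n = a + 7 := ⟨n - 7, by omega⟩
    have e1 : a + 7 - 3 * 2 = a + 1 := by omega
    have e2 : a + 7 - 3 = a + 4 := by omega
    rw [e1, e2, show (a + 4)! = (a + 4) * ((a + 3) * ((a + 2) * (a + 1)!)) by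
      rw [← Nat.factorial_succ, ← Nat.factorial_succ, ← Nat.factorial_succ]]
    have : 24 * (a + 1)! ≤ (a + 4) * ((a + 3) * ((a + 2) * (a + 1)!)) := by
      rw [← mul_assoc, ← mul_assoc]
      exact Nat.mul_le_mul_right _ (Nat.mul_le_mul (Nat.mul_le_mul (by omega : 4 ≤ a + 4) (by omega : 3 ≤ a + 3)) (by omega : 2 ≤ a + 2))
    have hp : 0 < (a + 1)! := Nat.factorial_pos _
    simp only [Nat.factorial] at *
    omega
  · have hlt : ∀ j, 2 * (3 ^ (j + 2) * (j + 3)!) < (3 * j + 6)! := by
      intro j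
      induction j with
      | zero => decide
      | succ j ih =>
        have e1 : (3 * (j + 1) + 6)! = (3 * j + 9) * ((3 * j + 8) * ((3 * j + 7) * (3 * j + 6)!)) := by
          rw [← Nat.factorial_succ, ← Nat.factorial_succ, ← Nat.factorial_succ]
          congr 1
        have e2 : (j + 1 + 3)! = (j + 4) * (j + 3)! := by rw [← Nat.factorial_succ]
        have h1 : 3 * (j + 4) ≤ (3 * j + 9) * ((3 * j + 8) * (3 * j + 7)) := by
          calc 3 * (j + 4) ≤ (3 * j + 9) * 2 := by omega
            _ ≤ _ := Nat.mul_le_mul_left _ (by nlinarith)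
        rw [e1, e2]
        calc 2 * (3 ^ (j + 1 + 2) * ((j + 4) * (j + 3)!))
            = (3 * (j + 4)) * (2 * (3 ^ (j + 2) * (j + 3)!)) := by ring
          _ < (3 * (j + 4)) * (3 * j + 6)! := Nat.mul_lt_mul_of_pos_left ih (by omega)
          _ ≤ ((3 * j + 9) * ((3 * j + 8) * (3 * j + 7))) * (3 * j + 6)! := Nat.mul_le_mul_right _ h1
          _ = _ := by ring
    obtain ⟨j, rfl⟩ : ∃ j, K = j + 3 := ⟨K - 3, by omega⟩
    have h2 : (n - 3 * (j + 3))! * (3 * j + 6)! ≤ (n - 3)! := by
      have := Nat.le_of_dvd (Nat.factorial_pos _) (Nat.factorial_mul_factorial_dvd_factorial_add (n - 3 * (j + 3)) (3 * j + 6))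
      rwa [show n - 3 * (j + 3) + (3 * j + 6) = n - 3 by omega] at this
    calc 2 * ((n - 3 * (j + 3))! * 3 ^ (j + 3) * (j + 3)!)
        = 3 * ((n - 3 * (j + 3))! * (2 * (3 ^ (j + 2) * (j + 3)!))) := by ring
      _ < 3 * ((n - 3 * (j + 3))! * (3 * j + 6)!) :=
          Nat.mul_lt_mul_of_pos_left (Nat.mul_lt_mul_of_pos_left (hlt j) (Nat.factorial_pos _)) (by omega)
      _ ≤ 3 * (n - 3)! := Nat.mul_le_mul_left _ h2
      _ = _ := mul_comm _ _

/-- An automorphism of `A_n`, `n ≠ 6`, maps three-cycles to three-cycles. -/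
theorem isThreeCycle_map {n : ℕ} (h6 : n ≠ 6) (θ : MulAut (alternatingGroup (Fin n)))
    (x : alternatingGroup (Fin n)) (hx : (x : Perm (Fin n)).IsThreeCycle) :
    ((θ x : alternatingGroup (Fin n)) : Perm (Fin n)).IsThreeCycle := by
  set y : Perm (Fin n) := ((θ x : alternatingGroup (Fin n)) : Perm (Fin n)) with hy
  have ho : orderOf y = 3 := by
    rw [hy, Subgroup.orderOf_coe, MulEquiv.orderOf_eq, ← Subgroup.orderOf_coe, hx.orderOf]
  obtain ⟨k, hk⟩ := Perm.cycleType_prime_order (σ := y) (by rw [ho]; norm_num)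
  rw [ho] at hk
  rcases Nat.eq_zero_or_pos k with rfl | hkpos
  · exact hk
  exfalso
  have hsum : 3 * (k + 1) ≤ n := by
    have h := Finset.card_le_univ y.support
    rw [← Perm.sum_cycleType, hk, Multiset.sum_replicate, smul_eq_mul, Fintype.card_fin] at h
    omega
  have hCy : Nat.card (Subgroup.centralizer {y}) = (n - 3 * (k + 1))! * 3 ^ (k + 1) * (k + 1)! := by
    rw [Perm.nat_card_centralizer, hk, Multiset.sum_replicate, Multiset.prod_replicate, Fintype.card_fin,
      Multiset.toFinset_replicate, if_neg (by omega), Finset.prod_singleton, Multiset.count_replicate_self,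
      smul_eq_mul, mul_comm (k + 1) 3]
  have hCx : Nat.card (Subgroup.centralizer {(x : Perm (Fin n))}) = (n - 3)! * 3 := by
    rw [Perm.nat_card_centralizer, hx.cycleType]
    simp
  have heq : Nat.card (Subgroup.centralizer {x}) = Nat.card (Subgroup.centralizer {θ x}) := by
    refine Nat.card_congr (Equiv.subtypeEquiv θ.toEquiv fun g => ?_)
    rw [Subgroup.mem_centralizer_singleton_iff, Subgroup.mem_centralizer_singleton_iff]
    show g * x = x * g ↔ θ g * θ x = θ x * θ g
    rw [← map_mul, ← map_mul, θ.injective.eq_iff]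
  have h1 := (card_centralizer_le x).1
  have h2 := (card_centralizer_le (θ x)).2
  rw [← hy] at h2
  have := factorial_ineq (K := k + 1) h6 (by omega) hsum
  omega

theorem conjNormal_injective {n : ℕ} (hn : 4 ≤ n) :
    Function.Injective (MulAut.conjNormal : Perm (Fin n) →* MulAut (alternatingGroup (Fin n))) := by
  refine (injective_iff_map_eq_one _).mpr fun σ hσ => Equiv.ext fun x => ?_
  by_contra hne
  change ¬ σ x = x at hne
  obtain ⟨z, hz⟩ : ({x, σ x} : Finset (Fin n))ᶜ.Nonempty := by
    rw [← Finset.card_pos, Finset.card_compl, Fintype.card_fin]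
    have := Finset.card_le_two (a := x) (b := σ x)
    omega
  simp only [Finset.mem_compl, Finset.mem_insert, Finset.mem_singleton, not_or] at hz
  obtain ⟨hzx, hzy⟩ := hz
  have h4 : ({x, σ x, z} : Finset (Fin n))ᶜ.Nonempty := by
    rw [← Finset.card_pos, Finset.card_compl, Fintype.card_fin]
    have := Finset.card_le_three (a := x) (b := σ x) (c := z)
    omega
  obtain ⟨w, hw⟩ := h4
  simp only [Finset.mem_compl, Finset.mem_insert, Finset.mem_singleton, not_or] at hw
  have hc : tri x z w ∈ alternatingGroup (Fin n) :=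
    (isThreeCycle_tri (Ne.symm hzx) (Ne.symm hw.1) (Ne.symm hw.2.2)).mem_alternatingGroup
  have h := congrArg (fun ψ : MulAut (alternatingGroup (Fin n)) => ((ψ ⟨_, hc⟩ : alternatingGroup (Fin n)) : Perm (Fin n))) hσ
  simp only [MulAut.conjNormal_apply, MulAut.one_apply] at h
  rw [tri_conj] at h
  have h' := Equiv.congr_fun h (σ x)
  rw [tri_apply_fst (σ.injective.ne (Ne.symm hzx)) (σ.injective.ne (Ne.symm hw.2.2)),
    tri_apply_ne hne (Ne.symm hzy) (Ne.symm hw.2.1)] at h'
  exact hzx (σ.injective h')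

/-- Automorphisms of the alternating groups: for n ≥ 4 with n ≠ 6, every automorphism of the alternating group of degree n is conjugation by a unique permutation, i.e. conjugation induces an isomorphism from the symmetric group of degree n onto the automorphism group of the alternating group (so the outer automorphism group has order 2). -/
theorem result (n : ℕ) (hn : 4 ≤ n) (h6 : n ≠ 6) : Function.Bijective (MulAut.conjNormal : Equiv.Perm (Fin n) →* MulAut ↥(alternatingGroup (Fin n))) := by
  refine ⟨conjNormal_injective hn, fun θ => ?_⟩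
  set a : Fin n := ⟨0, by omega⟩ with ha
  set b : Fin n := ⟨1, by omega⟩ with hb
  have hab : a ≠ b := by simp [ha, hb, Fin.ext_iff]
  let P := {k : Fin n // k ≠ a ∧ k ≠ b}
  let t : P → alternatingGroup (Fin n) := fun k =>
    ⟨tri a b k.1, (isThreeCycle_tri hab k.2.1.symm k.2.2.symm).mem_alternatingGroup⟩
  let y : P → Perm (Fin n) := fun k => ((θ (t k) : alternatingGroup (Fin n)) : Perm (Fin n))
  have hy3 : ∀ k, (y k).IsThreeCycle := fun k =>
    isThreeCycle_map h6 θ (t k) (isThreeCycle_tri hab k.2.1.symm k.2.2.symm)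
  have hrel : ∀ k l : P, k ≠ l → y k ≠ y l ∧ y k * y l ≠ 1 ∧ (y k * y l) ^ 2 = 1 := by
    intro k l hkl
    have kl : k.1 ≠ l.1 := fun h => hkl (Subtype.ext h)
    have happ : ∀ z, tri a b k.1 (tri a b l.1 z) =
        if z = a then k.1 else if z = k.1 then a else if z = b then l.1 else if z = l.1 then b else z := by
      intro z
      split_ifs with h1 h2 h3 h4
      · rw [h1, tri_apply_fst hab l.2.2.symm, tri_apply_snd]
      · rw [h2, tri_apply_ne k.2.1 k.2.2 kl, tri_apply_thd k.2.1.symm k.2.2.symm]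
      · rw [h3, tri_apply_snd, tri_apply_ne l.2.1 l.2.2 kl.symm]
      · rw [h4, tri_apply_thd l.2.1.symm l.2.2.symm, tri_apply_fst hab k.2.2.symm]
      · rw [tri_apply_ne h1 h3 h4, tri_apply_ne h1 h3 h2]
    have hsq : (t k * t l) ^ 2 = 1 := by
      refine Subtype.ext (Equiv.ext fun z => ?_)
      simp only [sq, Subgroup.coe_mul, Perm.mul_apply, t, happ, Subgroup.coe_one, Perm.coe_one, id_eq]
      have := k.2; have := l.2
      split_ifs <;> simp_all
    refine ⟨?_, ?_, ?_⟩
    · intro h
      have h' : tri a b k.1 = tri a b l.1 := congrArg Subtype.val (θ.injective (Subtype.ext h))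
      have := Equiv.congr_fun h' b
      rw [tri_apply_snd, tri_apply_snd] at this
      exact kl this
    · intro h
      have h' : t k * t l = 1 := by
        apply θ.injective
        rw [map_mul, map_one]
        exact Subtype.ext h
      have := Equiv.congr_fun (congrArg Subtype.val h') a
      simp only [Subgroup.coe_mul, Perm.mul_apply, t, happ, if_true, Subgroup.coe_one, Perm.coe_one, id_eq] at this
      exact k.2.1 this
    · have := congrArg (fun g => ((θ g : alternatingGroup (Fin n)) : Perm (Fin n))) hsq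
      simpa [y] using this
  set k₂ : P := ⟨⟨2, by omega⟩, by simp [ha, hb, Fin.ext_iff]⟩ with hk₂
  set k₃ : P := ⟨⟨3, by omega⟩, by simp [ha, hb, Fin.ext_iff]⟩ with hk₃
  have h23 : k₂ ≠ k₃ := fun h => absurd (congrArg (fun k : P => k.1.val) h) (by simp [hk₂, hk₃])
  obtain ⟨A, B, C, D, AB, AC, BC, AD, BD, CD, hC, hD⟩ :=
    eq_tri_of_sq_eq_one (hy3 k₂) (hy3 k₃) (hrel _ _ h23).1 (hrel _ _ h23).2.1 (hrel _ _ h23).2.2
  have hAB : ∀ k, y k A = B := by
    intro k
    by_cases h2 : k = k₂
    · rw [h2, hC, tri_apply_fst AB BC]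
    by_cases h3 : k = k₃
    · rw [h3, hD, tri_apply_fst AB BD]
    have r2 := hrel k₂ k (Ne.symm h2)
    have r3 := hrel k₃ k (Ne.symm h3)
    rw [hC] at r2; rw [hD] at r3
    exact apply_eq_of_edge (hy3 k) AB AC BC AD BD CD r2 r3
  have hye : ∀ k, (y k B ≠ B ∧ y k B ≠ A) ∧ y k = tri A B (y k B) := by
    intro k
    have h := eq_tri (hy3 k) (a := A) (by rw [hAB]; exact AB.symm)
    simp only [hAB] at h
    exact ⟨h.1, h.2.2⟩
  let f : Fin n → Fin n := fun k => if hk : k ≠ a ∧ k ≠ b then y ⟨k, hk⟩ B else if k = a then A else B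
  have fa : f a = A := by simp [f]
  have fb : f b = B := by simp [f, hab.symm]
  have fk : ∀ k : P, f k.1 = y k B := fun k => by simp [f, k.2]
  have hinj : Function.Injective f := by
    intro u v huv
    by_cases hu : u ≠ a ∧ u ≠ b
    · by_cases hv : v ≠ a ∧ v ≠ b
      · by_contra hne
        refine (hrel ⟨u, hu⟩ ⟨v, hv⟩ (fun h => hne (congrArg Subtype.val h))).1 ?_
        rw [(hye ⟨u, hu⟩).2, (hye ⟨v, hv⟩).2, ← fk ⟨u, hu⟩, ← fk ⟨v, hv⟩, huv]
      · exfalso
        rw [fk ⟨u, hu⟩] at huv
        rcases (not_and_or.mp hv).imp not_not.mp not_not.mp with rfl | rfl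
        · exact (hye ⟨u, hu⟩).1.2 (huv.trans fa)
        · exact (hye ⟨u, hu⟩).1.1 (huv.trans fb)
    · by_cases hv : v ≠ a ∧ v ≠ b
      · exfalso
        rw [fk ⟨v, hv⟩] at huv
        rcases (not_and_or.mp hu).imp not_not.mp not_not.mp with rfl | rfl
        · exact (hye ⟨v, hv⟩).1.2 (huv.symm.trans fa)
        · exact (hye ⟨v, hv⟩).1.1 (huv.symm.trans fb)
      · rcases (not_and_or.mp hu).imp not_not.mp not_not.mp with rfl | rfl <;>
          rcases (not_and_or.mp hv).imp not_not.mp not_not.mp with rfl | rfl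
        · rfl
        · rw [fa, fb] at huv; exact absurd huv AB
        · rw [fa, fb] at huv; exact absurd huv.symm AB
        · rfl
  let σ : Perm (Fin n) := Equiv.ofBijective f (Finite.injective_iff_bijective.mp hinj)
  refine ⟨σ, ?_⟩
  set L : Subgroup (alternatingGroup (Fin n)) :=
    MonoidHom.eqLocus (MulAut.conjNormal σ).toMonoidHom θ.toMonoidHom with hL
  have hmem : ∀ {p q r : Fin n}, p ≠ q → p ≠ r → q ≠ r → tri p q r ∈ L.map (alternatingGroup (Fin n)).subtype := by
    intro p q r pq pr qr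
    refine tri_mem_of_base _ a b hab (fun k ka kb => ?_) pq pr qr
    refine ⟨t ⟨k, ka, kb⟩, ?_, rfl⟩
    refine Subtype.ext ?_
    show ((MulAut.conjNormal σ (t ⟨k, ka, kb⟩) : alternatingGroup (Fin n)) : Perm (Fin n)) = y ⟨k, ka, kb⟩
    rw [MulAut.conjNormal_apply, (hye ⟨k, ka, kb⟩).2, tri_conj]
    show tri (f a) (f b) (f k) = _
    rw [fa, fb, fk ⟨k, ka, kb⟩]
  have hle : alternatingGroup (Fin n) ≤ L.map (alternatingGroup (Fin n)).subtype := by
    refine Perm.closure_three_cycles_eq_alternating.symm.trans_le ((Subgroup.closure_le _).mpr ?_)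
    intro x hx
    obtain ⟨u, hu⟩ : ∃ u, x u ≠ u := by
      by_contra hno
      push Not at hno
      exact (hx : x.IsThreeCycle).ne_one (Equiv.ext hno)
    obtain ⟨⟨h1, h2⟩, -, h3⟩ := eq_tri hx hu
    rw [SetLike.mem_coe, h3]
    exact hmem (Ne.symm hu) h2.symm h1.symm
  refine MulEquiv.ext fun g => ?_
  obtain ⟨g', hg', hgg⟩ := hle g.2
  rw [Subtype.ext hgg] at hg'
  exact hg' 

end Cfsg.Agent.S2119
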