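import Cfsg.Statements.S5226
import Cfsg.Agent.Lib.FusionChain.Radical

set_option autoImplicit false
open Cfsg

namespace Cfsg.Agent.S5226

open Cfsg.FusionSystem Cfsg.Agent.Fusion Cfsg.Agent.FusionChain
open scoped commutatorElement Pointwise

variable {Ω : Type*} [Group Ω] {S : Subgroup Ω} {F : Cfsg.FusionSystem S}

/-- A weakly closed subgroup is stable under conjugation by `S`. -/
theorem conj_mem_of_weaklyClosed {W : Subgroup Ω} (h : F.WeaklyClosed W) {s x : Ω} (hs : s ∈ S)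
    (hx : x ∈ W) : s * x * s⁻¹ ∈ W :=
  (h.2 _ (F.conj_mem h.1 hs)).le ⟨⟨x, hx⟩, rfl⟩

theorem conj_mem_of_stronglyClosed {Q : Subgroup Ω} (h : F.StronglyClosed Q) {s x : Ω} (hs : s ∈ S)
    (hx : x ∈ Q) : s * x * s⁻¹ ∈ Q :=
  h.2 Q le_rfl _ (F.conj_mem h.1 hs) ⟨x, hx⟩

theorem map_mem_of_weaklyClosed {W : Subgroup Ω} (h : F.WeaklyClosed W) {P : Subgroup Ω} {f : Ω → Ω}
    (hf : IsMap F P f) (hW : W ≤ P) {x : Ω} (hx : x ∈ W) : f x ∈ W := by
  obtain ⟨φ, hφ, e⟩ := hf.mono hW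
  rw [← e x hx]
  exact (h.2 φ hφ).le ⟨⟨x, hx⟩, rfl⟩

theorem map_mem_of_stronglyClosed {Q : Subgroup Ω} (h : F.StronglyClosed Q) {P : Subgroup Ω} {f : Ω → Ω}
    (hf : IsMap F P f) {x : Ω} (hxP : x ∈ P) (hx : x ∈ Q) : f x ∈ Q := by
  obtain ⟨φ, hφ, e⟩ := hf.mono (inf_le_left : P ⊓ Q ≤ P)
  rw [← e x ⟨hxP, hx⟩]
  exact h.2 (P ⊓ Q) inf_le_right φ hφ ⟨x, hxP, hx⟩

/-- A subgroup normal in the system is strongly closed and has a central series of weakly closed subgroups. -/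
theorem of_normal [Finite S] {p : ℕ} [Fact p.Prime] (hS : IsPGroup p S) {Q : Subgroup Ω} (hQ : F.IsNormal Q) :
    F.StronglyClosed Q ∧ ∃ (n : ℕ) (C : Fin (n + 1) → Subgroup Ω), C 0 = ⊥ ∧ C (Fin.last n) = Q ∧
      Monotone C ∧ (∀ i : Fin n, ⁅C i.succ, Q⁆ ≤ C i.castSucc) ∧ ∀ i : Fin n, F.WeaklyClosed (C i.castSucc) := by
  refine ⟨⟨hQ.1, fun R hR φ hφ x => ?_⟩, ?_⟩
  · obtain ⟨g, -, hg, hgQ⟩ := (isNormal_iff.1 hQ).2 R _ (isMap_toFn hφ)
    rw [← toFn_coe φ x, ← hg x x.2]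
    exact hgQ x (hR x.2)
  have := finite_of_le hQ.1
  have : Group.IsNilpotent Q := (hS.to_le hQ.1).isNilpotent
  obtain ⟨n, hn⟩ := Group.IsNilpotent.nilpotent Q
  refine ⟨n, fun i => (Subgroup.upperCentralSeries Q i).map Q.subtype, ?_, ?_, ?_, fun i => ?_, fun i => ?_⟩
  · simp
  · simp [hn, ← MonoidHom.range_eq_map]
  · exact fun i j hij => Subgroup.map_mono (Subgroup.upperCentralSeries_mono Q hij)
  · rw [Subgroup.commutator_le]
    rintro _ ⟨x, hx, rfl⟩ y hy
    refine ⟨⁅x, ⟨y, hy⟩⁆, ?_, rfl⟩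
    exact (Subgroup.mem_upperCentralSeries_succ_iff.1 hx) ⟨y, hy⟩
  · have hle := Subgroup.map_subtype_le (Subgroup.upperCentralSeries Q (i.castSucc : ℕ))
    refine ⟨hle.trans hQ.1, fun φ hφ => ?_⟩
    obtain ⟨g, hg, hge, hgQ⟩ := (isNormal_iff.1 hQ).2 _ _ (isMap_toFn hφ)
    have hgi : IsIso F Q Q g := by
      have hm := hg.mono (le_sup_right : Q ≤ _ ⊔ Q)
      exact ⟨hm, eq_of_le_of_card hQ.1 (hm.img_le le_rfl hgQ) (hm.card_img le_rfl).ge⟩
    have hchar := Subgroup.characteristic_iff_map_eq.1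
      (inferInstance : (Subgroup.upperCentralSeries Q (i.castSucc : ℕ)).Characteristic) hgi.equiv
    rw [← toFn_img φ, img_congr (g := g) fun x hx => (hge x hx).symm]
    refine IsIso.img_eq_of hg le_sup_left ?_ ?_
    · rintro _ ⟨x, hx, rfl⟩
      exact ⟨hgi.equiv x, hchar.le ⟨x, hx, rfl⟩, rfl⟩
    · rintro _ ⟨y, hy, rfl⟩
      obtain ⟨x, hx, rfl⟩ := hchar.ge hy
      exact ⟨x, ⟨x, hx, rfl⟩, (hgi.equiv_apply x).symm⟩

/-- The converse. -/
theorem to_normal [Finite S] {p : ℕ} [Fact p.Prime] (hS : IsPGroup p S) (hF : F.IsSaturated p)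
    {Q : Subgroup Ω} (hQ : F.StronglyClosed Q) (n : ℕ) (C : Fin (n + 1) → Subgroup Ω) (h0 : C 0 = ⊥)
    (hn : C (Fin.last n) = Q) (hmono : Monotone C) (hcomm : ∀ i : Fin n, ⁅C i.succ, Q⁆ ≤ C i.castSucc)
    (hwc : ∀ i : Fin n, F.WeaklyClosed (C i.castSucc)) : F.IsNormal Q := by
  refine isNormal_of_radicals hS hF hQ.1 fun R hfn hc hr => ?_
  have hRS := hr.1
  suffices hQR : Q ≤ R from
    ⟨hQR, fun α hα q hq => map_mem_of_stronglyClosed hQ (isIso_autFn hRS hα).1 (hQR hq) hq⟩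
  let C' : ℕ → Subgroup Ω := fun j => if h : j ≤ n then C ⟨j, Nat.lt_succ_of_le h⟩ else Q
  have hC' : ∀ j (h : j ≤ n), C' j = C ⟨j, Nat.lt_succ_of_le h⟩ := fun j h => dif_pos h
  have hCn : C' n = Q := by rw [hC' n le_rfl]; exact hn
  have hCmono : ∀ i j, i ≤ j → j ≤ n → C' i ≤ C' j := fun i j hij hj => by
    rw [hC' i (hij.trans hj), hC' j hj]; exact hmono hij
  have hCQ : ∀ j, j ≤ n → C' j ≤ Q := fun j hj => hCn ▸ hCmono j n hj le_rfl
  have hCcomm : ∀ j, j < n → ∀ x ∈ C' (j + 1), ∀ y ∈ Q, ⁅x, y⁆ ∈ C' j := fun j hj x hx y hy => by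
    rw [hC' j hj.le]
    rw [hC' (j + 1) hj] at hx
    exact hcomm ⟨j, hj⟩ (Subgroup.commutator_mem_commutator hx hy)
  have hCwc : ∀ j, j < n → F.WeaklyClosed (C' j) := fun j hj => by
    rw [hC' j hj.le]; exact hwc ⟨j, hj⟩
  have hCconj : ∀ j, j ≤ n → ∀ s ∈ S, ∀ x ∈ C' j, s * x * s⁻¹ ∈ C' j := fun j hj s hs x hx => by
    rcases hj.lt_or_eq with h | rfl
    · exact conj_mem_of_weaklyClosed (hCwc j h) hs hx
    · rw [hCn] at hx ⊢
      exact conj_mem_of_stronglyClosed hQ hs hx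
  suffices key : ∀ i, i ≤ n → C' i ≤ R from hCn ▸ key n le_rfl
  intro i
  induction i with
  | zero => intro h; rw [hC' 0 h]; exact h0 ▸ bot_le
  | succ i ih =>
    intro hi
    have hiR := ih (by omega)
    have hWS : C' (i + 1) ≤ S := (hCQ _ hi).trans hQ.1
    by_contra hnot
    obtain ⟨g, hg, hgR⟩ := SetLike.exists_of_lt
      (lt_normalizerIn hS (sup_le hRS hWS : R ⊔ C' (i + 1) ≤ S) (left_lt_sup.2 hnot))
    have hRnorm : R ≤ Subgroup.normalizer (C' (i + 1) : Set Ω) := fun r hr' => by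
      refine Subgroup.mem_normalizer_iff.2 fun x => ⟨fun hx => hCconj _ hi r (hRS hr') x hx, fun hx => ?_⟩
      have := hCconj _ hi r⁻¹ (S.inv_mem (hRS hr')) _ hx
      simpa [mul_assoc] using this
    obtain ⟨r, hr', w, hw, hrw⟩ : g ∈ (R : Set Ω) * (C' (i + 1) : Set Ω) := by
      rw [← Subgroup.coe_mul_of_left_le_normalizer_right R (C' (i + 1)) hRnorm]
      exact hg.1
    have hwQ : w ∈ Q := hCQ _ hi hw
    have hwS : w ∈ S := hWS hw
    have hwR : w ∉ R := fun h => hgR (hrw ▸ R.mul_mem hr' h)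
    have hgN : g ∈ normalizerIn S R := ⟨(sup_le hRS hWS : R ⊔ C' (i + 1) ≤ S) hg.1, hg.2⟩
    have hwN : w ∈ normalizerIn S R := by
      rw [show w = r⁻¹ * g by rw [← hrw]; simp]
      exact mul_mem (inv_mem (le_normalizerIn hRS hr')) hgN
    let α := normConj S R ⟨w, hwN⟩
    have hα : α ∈ autInducedBy S R := range_normConj S R ▸ ⟨_, rfl⟩
    refine hwR (mem_of_mem_pCoreAut hc hr hwS (α := α) ?_ fun x => rfl)
    let U : ℕ → Subgroup R := fun j =>
      if j ≤ i then (C' j).subgroupOf R else if j = i + 1 then Q.subgroupOf R else ⊤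
    refine mem_pCoreAut_of_chain hS hRS (i + 2) U ?_ ?_ ?_ ?_ (autInducedBy_le_autGroup F le_rfl hRS hα) ?_
    · simp [U, hC' 0 (Nat.zero_le _), h0]
    · simp [U]
    · intro j hj
      rcases Nat.lt_or_ge j i with h | h
      · simp only [U, if_pos h.le, if_pos (Nat.succ_le_of_lt h)]
        exact Subgroup.subgroupOf_mono _ (hCmono j (j + 1) (Nat.le_succ j) (by omega))
      · rcases h.eq_or_lt with rfl | h'
        · simp only [U, if_pos le_rfl, if_neg (show ¬ i + 1 ≤ i by omega)]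
          exact Subgroup.subgroupOf_mono _ (hCQ i (by omega))
        · obtain rfl : j = i + 1 := by omega
          simp [U]
    · intro a ha j hj x hx
      have hmap := (mem_autGroup_iff hRS).1 ha
      by_cases h : j ≤ i
      · simp only [U, if_pos h] at hx ⊢
        have hle : C' j ≤ R := (hCmono j i h (by omega)).trans hiR
        have := map_mem_of_weaklyClosed (hCwc j (by omega)) hmap hle hx
        show ((a x : R) : Ω) ∈ C' j
        rw [← autFn_apply a x.2]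
        exact this
      · simp only [U, if_neg h] at hx ⊢
        by_cases h' : j = i + 1
        · simp only [if_pos h'] at hx ⊢
          have := map_mem_of_stronglyClosed hQ hmap x.2 hx
          show ((a x : R) : Ω) ∈ Q
          rw [← autFn_apply a x.2]
          exact this
        · simp only [if_neg h']; trivial
    · intro j hj x hx
      have key : ∀ V : Subgroup Ω, (x : Ω)⁻¹ * (w * x * w⁻¹) ∈ V → x⁻¹ * α x ∈ V.subgroupOf R := fun V h => h
      rcases Nat.lt_or_ge j i with h | h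
      · simp only [U, if_pos h.le, if_pos (Nat.succ_le_of_lt h)] at hx ⊢
        refine key _ ?_
        have := hCcomm j (by omega) _ ((C' (j + 1)).inv_mem hx) w hwQ
        rw [commutatorElement_def, inv_inv] at this
        simpa [mul_assoc] using this
      · rcases h.eq_or_lt with rfl | h'
        · simp only [U, if_pos le_rfl, if_neg (show ¬ i + 1 ≤ i by omega)] at hx ⊢
          refine key _ ?_
          have := (C' i).inv_mem (hCcomm i (by omega) w hw (x : Ω)⁻¹ (Q.inv_mem hx))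
          rw [commutatorElement_inv, commutatorElement_def, inv_inv] at this
          simpa [mul_assoc] using this
        · obtain rfl : j = i + 1 := by omega
          simp only [U, if_neg (show ¬ i + 1 ≤ i by omega)]
          refine key _ ?_
          have h1 := conj_mem_of_stronglyClosed hQ (S.inv_mem (hRS x.2)) hwQ
          rw [inv_inv] at h1
          simpa [mul_assoc] using Q.mul_mem h1 (Q.inv_mem hwQ)

/-- Let F be a saturated fusion system over a finite p-group S and Q a subgroup of S. Then Q is normal in F (F equals the normalizer system of Q) if and only if Q is strongly closed in F and admits a central series 1 = Q₀ ≤ Q₁ ≤ ⋯ ≤ Qₙ = Q ([Qᵢ₊₁, Q] ≤ Qᵢ) all of whose proper terms are weakly closed in F. -/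
theorem result {Ω : Type*} [Group Ω] {S : Subgroup Ω} [Finite S] (p : ℕ) [Fact p.Prime] (hS : IsPGroup p S) (F : Cfsg.FusionSystem S) (hF : F.IsSaturated p) (Q : Subgroup Ω) : F.IsNormal Q ↔ F.StronglyClosed Q ∧ ∃ (n : ℕ) (C : Fin (n + 1) → Subgroup Ω), C 0 = ⊥ ∧ C (Fin.last n) = Q ∧ Monotone C ∧ (∀ i : Fin n, ⁅C i.succ, Q⁆ ≤ C i.castSucc) ∧ ∀ i : Fin n, F.WeaklyClosed (C i.castSucc) := by
  refine ⟨of_normal hS, ?_⟩
  rintro ⟨hQ, n, C, h0, hn, hmono, hcomm, hwc⟩
  exact to_normal hS hF hQ n C h0 hn hmono hcomm hwc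

end Cfsg.Agent.S5226
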