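import Cfsg.Statements.S5214
import Cfsg.Agent.S5226
import Cfsg.Agent.Lib.SuzukiTwo.Higman
import Cfsg.Agent.Lib.Fusion.Basic

set_option autoImplicit false
open Cfsg

open scoped commutatorElement

namespace Cfsg.Agent.S5214

/-- Let S be a Suzuki 2-group (a finite nonabelian 2-group with more than one involution admitting a cyclic group of automorphisms permuting its involutions regularly). Then S is normal in every saturated fusion system over S (such a group is resistant). -/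
theorem result {Ω : Type*} [Group Ω] {S : Subgroup Ω} [Finite S] (hS : IsPGroup 2 S) (F : Cfsg.FusionSystem S) (hF : F.IsSaturated 2) (hsz : Cfsg.IsSuzukiTwoGroup ↥S) : F.IsNormal S := by
  haveI : Fact (Nat.Prime 2) := ⟨Nat.prime_two⟩
  obtain ⟨K, _, _, _, ⟨d⟩⟩ := SuzukiTwo.exists_suzData hsz
  set Z : Subgroup Ω := d.V.map S.subtype with hZ
  have hZS : Z ≤ S := Subgroup.map_subtype_le _
  have hSclosed : F.StronglyClosed S := ⟨le_rfl, fun R _ φ hφ x => (F.le_of_mem hφ).2 x⟩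
  have hmemZ : ∀ x : Ω, x ∈ Z ↔ x ∈ S ∧ x * x = 1 := by
    intro x
    constructor
    · rintro ⟨y, hy, rfl⟩
      exact ⟨y.2, congrArg Subtype.val (d.mem_V.1 hy)⟩
    · rintro ⟨hx, hx2⟩
      exact ⟨⟨x, hx⟩, d.mem_V.2 (Subtype.ext hx2), rfl⟩
  haveI : Finite Z := Finite.of_injective _ (Subgroup.inclusion_injective hZS)
  have hwcZ : F.WeaklyClosed Z := by
    refine ⟨hZS, fun φ hφ => Subgroup.eq_of_le_of_card_ge ?_ ?_⟩
    · rintro _ ⟨x, rfl⟩
      refine (hmemZ _).2 ⟨(F.le_of_mem hφ).2 x, ?_⟩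
      rw [← map_mul, show x * x = 1 from Subtype.ext ((hmemZ _).1 x.2).2, map_one]
    · exact le_of_eq (Nat.card_congr (MonoidHom.ofInjective (F.injective_of_mem hφ)).toEquiv)
  have hwc0 : F.WeaklyClosed (⊥ : Subgroup Ω) := by
    refine ⟨bot_le, fun φ hφ => (Subgroup.eq_bot_iff_forall _).2 ?_⟩
    rintro _ ⟨x, rfl⟩
    rw [show x = 1 from Subtype.ext x.2, map_one]
  refine S5226.to_normal hS hF hSclosed 2 ![⊥, Z, S] rfl rfl ?_ ?_ ?_
  · refine Fin.monotone_iff_le_succ.2 fun i => ?_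
    fin_cases i
    · exact bot_le
    · exact hZS
  · intro i
    fin_cases i
    · refine Subgroup.commutator_le.2 fun x hx y hy => ?_
      obtain ⟨x, hx', rfl⟩ := hx
      refine Subgroup.mem_bot.2 (commutatorElement_eq_one_iff_mul_comm.2 ?_)
      exact congrArg Subtype.val (d.comm_of_sq_one (d.mem_V.1 hx') ⟨y, hy⟩).symm
    · refine Subgroup.commutator_le.2 fun x hx y hy => ?_
      exact ⟨⁅(⟨x, hx⟩ : S), (⟨y, hy⟩ : S)⁆, d.comm_mem_V _ _, rfl⟩
  · intro i
    fin_cases i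
    · exact hwc0
    · exact hwcZ

end Cfsg.Agent.S5214
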