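import Cfsg.Statements.S5144
import Cfsg.Agent.EqLemmas

set_option autoImplicit false
open Cfsg

namespace Cfsg.Agent.S5144

variable {Ω : Type*} [Group Ω] {S : Subgroup Ω}

theorem sup_central (F : Cfsg.FusionSystem S) {A B : Subgroup Ω} (hA : F.IsCentral A) (hB : F.IsCentral B) :
    F.IsCentral (A ⊔ B) := by
  refine ⟨sup_le hA.1 hB.1, fun P φ hφ => ?_⟩
  obtain ⟨ψ₁, h₁, e₁, c₁⟩ := hA.2 P φ hφ
  obtain ⟨ψ₂, h₂, e₂, c₂⟩ := hB.2 (P ⊔ A) ψ₁ h₁
  have hPS : P ≤ S := (F.le_of_mem hφ).1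
  have hle : P ⊔ (A ⊔ B) ≤ P ⊔ A ⊔ B := le_of_eq (sup_assoc P A B).symm
  refine ⟨ψ₂.comp (Subgroup.inclusion hle), ?_, ?_, ?_⟩
  · have hS : P ⊔ (A ⊔ B) ≤ S := sup_le hPS (sup_le hA.1 hB.1)
    have := F.comp_mem (F.conj_mem hS S.one_mem) h₂
      (fun x => by simpa [Cfsg.conjHom] using hle x.2)
    convert this using 1
    ext x
    simp [Cfsg.conjHom, Subgroup.inclusion, MonoidHom.codRestrict]
  · intro x
    refine Eq.trans ?_ ((e₂ (Subgroup.inclusion le_sup_left x)).trans (e₁ x))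
    rfl
  · rintro ⟨x, hx⟩
    have key : A ⊔ B ≤ (((MonoidHom.eqLocus ψ₂ (P ⊔ A ⊔ B).subtype)).map (P ⊔ A ⊔ B).subtype) := by
      refine sup_le (fun a ha => ?_) (fun b hb => ?_)
      · refine ⟨Subgroup.inclusion (le_sup_right.trans le_sup_left) ⟨a, ha⟩, ?_, rfl⟩
        exact ((e₂ (Subgroup.inclusion le_sup_right ⟨a, ha⟩)).trans (c₁ ⟨a, ha⟩))
      · exact ⟨Subgroup.inclusion le_sup_right ⟨b, hb⟩, c₂ ⟨b, hb⟩, rfl⟩
    obtain ⟨y, hy, hyx⟩ := key hx
    refine Eq.trans ?_ (hy.trans hyx)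
    simp only [MonoidHom.comp_apply]
    exact congrArg ψ₂ (Subtype.ext hyx.symm)

theorem bot_central (F : Cfsg.FusionSystem S) : F.IsCentral ⊥ := by
  refine ⟨bot_le, fun P φ hφ => ?_⟩
  have hPS : P ≤ S := (F.le_of_mem hφ).1
  have hle : P ⊔ ⊥ ≤ P := le_of_eq (sup_bot_eq P)
  refine ⟨φ.comp (Subgroup.inclusion hle), ?_, fun x => rfl, ?_⟩
  · have := F.comp_mem (F.conj_mem (sup_le hPS bot_le) S.one_mem) hφ
      (fun x => by simpa [Cfsg.conjHom] using hle x.2)
    convert this using 1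
    ext x
    simp [Cfsg.conjHom, Subgroup.inclusion, MonoidHom.codRestrict]
  · rintro ⟨x, hx⟩
    obtain rfl : x = 1 := hx
    exact map_one (φ.comp (Subgroup.inclusion hle))


/-- For a fusion system over a finite subgroup S, the centre of the system (the join of all subgroups central in it) is itself central in the system, hence its largest central subgroup. -/
theorem result {Ω : Type*} [Group Ω] {S : Subgroup Ω} [Finite S] (F : Cfsg.FusionSystem S) : F.IsCentral F.center := by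
  have hfin : {Q : Subgroup Ω | F.IsCentral Q}.Finite := by
    have : Finite {Q : Subgroup Ω // Q ≤ S} := Finite.of_injective
      (fun Q => (Q.1.subgroupOf S)) fun Q R h => by
        apply Subtype.ext
        have := congrArg (Subgroup.map S.subtype) h
        simpa [Subgroup.subgroupOf_map_subtype, inf_eq_left.mpr Q.2, inf_eq_left.mpr R.2] using this
    exact (Set.toFinite (Set.univ : Set {Q : Subgroup Ω // Q ≤ S})).image Subtype.val |>.subset
      fun Q hQ => ⟨⟨Q, hQ.1⟩, trivial, rfl⟩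
  have : ∀ s : Finset (Subgroup Ω), (∀ Q ∈ s, F.IsCentral Q) → F.IsCentral (s.sup id) :=
    fun s hs => Finset.sup_induction (bot_central F) (fun a ha b hb => sup_central F ha hb) hs
  have := this hfin.toFinset (by simp)
  rwa [Finset.sup_id_eq_sSup, Set.Finite.coe_toFinset] at this

end Cfsg.Agent.S5144
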