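import Cfsg.Statements.S5337
import Cfsg.Agent.Lib.FusionAbelian.Basic
import Cfsg.Agent.S5339

set_option autoImplicit false
open Cfsg

namespace Cfsg.Agent.S5337

open Cfsg.Agent.Fusion Cfsg.Agent.FusionAbelian Cfsg.FusionSystem

variable {Ω : Type*} [Group Ω] {S T : Subgroup Ω}

theorem inner_isMap (hT : ∀ x ∈ T, ∀ y ∈ T, x * y = y * x) {P : Subgroup Ω} {f : Ω → Ω}
    (hf : IsMap (innerFusionSystem T) P f) : ∀ x ∈ P, f x = x := by
  obtain ⟨φ, ⟨hP, g, hg, h⟩, he⟩ := hf
  intro x hx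
  rw [← he x hx, h ⟨x, hx⟩, hT g hg x (hP hx)]
  simp

theorem inner_autGroup (hT : ∀ x ∈ T, ∀ y ∈ T, x * y = y * x) {P : Subgroup Ω} (hP : P ≤ T) :
    (innerFusionSystem T).autGroup P = ⊥ := by
  rw [eq_bot_iff]
  intro α hα
  rw [Subgroup.mem_bot]
  ext x
  have := inner_isMap hT ((mem_autGroup_iff hP).1 hα) x x.2
  rwa [autFn_apply α x.2] at this

theorem inner_saturated [Finite T] (hT : ∀ x ∈ T, ∀ y ∈ T, x * y = y * x) (p : ℕ) :
    (innerFusionSystem T).IsSaturated p := by
  intro P hP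
  refine ⟨P, isConj_refl _ hP, ⟨hP, ?_⟩, isReceptive_iff.2 ⟨hP, fun R f hf => ?_⟩⟩
  · have : Subsingleton ((innerFusionSystem T).autGroup P) := by
      rw [inner_autGroup hT hP]
      infer_instance
    obtain ⟨R⟩ : Nonempty (Sylow p ((innerFusionSystem T).autGroup P)) := inferInstance
    refine ⟨R, ?_⟩
    ext a
    rw [Subsingleton.elim a 1]
    simp only [one_mem]
  · exact ⟨fun x => x, IsMap.id ((Nx_le_normalizerIn T R f).trans inf_le_left),
      fun x hx => (inner_isMap hT hf.1 x hx).symm⟩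

/-- An invariant subgroup of an abelian `S` carries a normal subsystem with trivial maps. -/
theorem inner_normal {p : ℕ} [Fact p.Prime] [Finite S] (hS : IsPGroup p S) {F : FusionSystem S}
    (hF : F.IsSaturated p) (hab : ∀ x ∈ S, ∀ y ∈ S, x * y = y * x) (hTS : T ≤ S)
    (hinv : ∀ α ∈ F.autGroup S, ∀ x ∈ T, autFn α x ∈ T) :
    (innerFusionSystem T).IsNormalIn F p := by
  haveI := finite_of_le hTS
  have hT : ∀ x ∈ T, ∀ y ∈ T, x * y = y * x := fun x hx y hy => hab x (hTS hx) y (hTS hy)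
  refine ⟨⟨inner_saturated hT p, hF, ?_, ⟨hTS, ?_⟩, ?_, ?_⟩, ?_⟩
  · rintro P φ ⟨hP, g, hg, h⟩
    exact mem_of_isMap (IsMap.conj (F := F) (hP.trans hTS) (hTS hg)) h
  · intro R hR φ hφ x
    obtain ⟨α, hα, he⟩ := exists_aut_extension hS hF hab (isMap_toFn hφ)
    rw [← toFn_coe φ x, ← he x x.2]
    exact hinv α hα x (hR x.2)
  · intro P hPT φ hφ α hα
    have hmap := (IsMap.id (F := innerFusionSystem T)
      (P := (P.subgroupOf T).map (T.subtype.comp α.toMonoidHom)) (by
        rintro _ ⟨y, -, rfl⟩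
        exact (α y).2))
    obtain ⟨χ, hχ, hχe⟩ := hmap
    refine ⟨χ, hχ, fun x hφx hαx => ?_⟩
    rw [hχe]
    have e : φ x = x := by
      rw [← toFn_coe φ x]
      exact inner_isMap hT (isMap_toFn hφ) x x.2
    congr 2
    exact congrArg α (Subtype.ext e.symm)
  · intro P hP φ hφ
    obtain ⟨α, hα, he⟩ := exists_aut_extension hS hF hab (isMap_toFn hφ)
    have hm : IsMap F T (autFn α) := ((mem_autGroup_iff le_rfl).1 hα).mono hTS
    have hiso : IsIso F T T (autFn α) :=
      ⟨hm, eq_of_le_of_card hTS (hm.img_le le_rfl fun x hx => hinv α hα x hx)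
        (hm.card_img le_rfl).ge⟩
    obtain ⟨β, hβ, hβe⟩ := exists_aut_of_isIso hiso
    obtain ⟨φ₀, hφ₀, hφ₀e⟩ := IsMap.id (F := innerFusionSystem T) hP
    refine ⟨β, hβ, φ₀, hφ₀, fun x hx => ?_⟩
    rw [hβe]
    show _ = autFn α (φ₀ x)
    rw [show φ₀ x = (x : Ω) from hφ₀e x x.2, he x x.2, toFn_coe]
  · intro α hα
    refine ⟨1, one_mem _, fun x => ?_, fun c _ => by simp⟩
    rw [inner_autGroup hT le_rfl, Subgroup.mem_bot] at hα
    rw [hα]
    rfl

/-- Let F be a saturated fusion system over a finite abelian p-group S. Then F is simple if and only if S has order p and F is the inner system of S (whose only maps are the inclusions, S being abelian). -/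
theorem result {Ω : Type*} [Group Ω] {S : Subgroup Ω} [Finite S] (p : ℕ) [Fact p.Prime] (hS : IsPGroup p S) (F : Cfsg.FusionSystem S) (hF : F.IsSaturated p) (hab : ∀ x ∈ S, ∀ y ∈ S, x * y = y * x) : F.IsSimple p ↔ (Nat.card S = p ∧ ∀ P : Subgroup Ω, F.Hom P = (Cfsg.innerFusionSystem S).Hom P) := by
  constructor
  · rintro ⟨-, hS1, hsimp⟩
    have hinner : ∀ P : Subgroup _, F.Hom P = (innerFusionSystem S).Hom P := by
      have hn := inner_normal hS hF hab (T := S) le_rfl fun α _ x hx => autFn_mem α hx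
      rcases hsimp S _ hn with h | ⟨-, h⟩
      · exact absurd h hS1
      · exact fun P => (h P).symm
    refine ⟨?_, hinner⟩
    have hsub : ∀ T : Subgroup _, T ≤ S → T = ⊥ ∨ T = S := by
      intro T hTS
      have hn := inner_normal hS hF hab hTS fun α hα x hx => by
        obtain ⟨φ, hφ, he⟩ := (mem_autGroup_iff le_rfl).1 hα
        rw [hinner] at hφ
        rw [← he x (hTS hx), show φ ⟨x, hTS hx⟩ = x from by
          rw [← toFn_coe φ ⟨x, hTS hx⟩]; exact inner_isMap hab (isMap_toFn hφ) x (hTS hx)]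
        exact hx
      exact (hsimp T _ hn).imp_right And.left
    haveI : Nontrivial S := (Subgroup.nontrivial_iff_ne_bot S).2 hS1
    have hdvd : p ∣ Nat.card S := by
      obtain ⟨n, hn0, hn⟩ := hS.nontrivial_iff_card.1 inferInstance
      rw [hn]
      exact dvd_pow_self p hn0.ne'
    obtain ⟨x, hx⟩ := exists_prime_orderOf_dvd_card' p hdvd
    have hxo : orderOf (x : Ω) = p := by rw [Subgroup.orderOf_coe]; exact hx
    rcases hsub (Subgroup.zpowers (x : Ω)) (Subgroup.zpowers_le.2 x.2) with h | h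
    · rw [Subgroup.zpowers_eq_bot] at h
      rw [h, orderOf_one] at hxo
      exact absurd hxo.symm (Fact.out : p.Prime).ne_one
    · rw [← h, Nat.card_zpowers, hxo]
  · rintro ⟨hcard, hinner⟩
    have hS1 : S ≠ ⊥ := fun h => by
      rw [h, Subgroup.card_bot] at hcard
      exact (Fact.out : p.Prime).ne_one hcard.symm
    refine Cfsg.Agent.S5339.result p hS F hF hS1 ?_ fun T hT => ?_
    · refine le_antisymm (fun α hα => ?_) (inn_le_autGroup F le_rfl)
      obtain ⟨φ, hφ, he⟩ := (mem_autGroup_iff le_rfl).1 hα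
      rw [hinner] at hφ
      refine ⟨1, ?_⟩
      rw [map_one]
      ext x
      have h := he x x.2
      rw [autFn_apply α x.2, ← toFn_coe φ x, inner_isMap hab (isMap_toFn hφ) x x.2] at h
      exact h
    · haveI := finite_of_le hT.1
      have hd : Nat.card T ∣ p := hcard ▸ Subgroup.card_dvd_of_le hT.1
      rcases (Fact.out : p.Prime).eq_one_or_self_of_dvd _ hd with h | h
      · exact Or.inl (Subgroup.card_eq_one.1 h)
      · exact Or.inr (eq_of_le_of_card le_rfl hT.1 (by rw [hcard, h]))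

end Cfsg.Agent.S5337
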