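import Cfsg.Statements.S1217
import Mathlib.FieldTheory.Finite.Extension
import Mathlib.LinearAlgebra.Matrix.GeneralLinearGroup.Card
import Cfsg.Agent.EqLemmas

set_option autoImplicit false
open scoped MatrixGroups
open Cfsg

namespace Cfsg.Agent.S1217

open Subgroup

section Generic

variable {G : Type*} [Group G] [Finite G]

theorem factorization_two {N a k : ℕ} (hk : Odd k) (hN : N = 2 ^ a * k) : N.factorization 2 = a := by
  subst hN
  rw [Nat.factorization_mul (by positivity) (by intro h; simp [h] at hk), Finsupp.add_apply,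
    Nat.Prime.factorization_pow Nat.prime_two, Finsupp.single_eq_same,
    Nat.factorization_eq_zero_of_not_dvd (by rintro h; exact (Nat.not_even_iff_odd.mpr hk) (even_iff_two_dvd.mpr h)),
    add_zero]

/-- A `2`-subgroup is embedded in any Sylow `2`-subgroup. -/
theorem exists_embedding {T : Subgroup G} (hT : IsPGroup 2 T) (P : Sylow 2 G) :
    ∃ f : T →* (P : Subgroup G), Function.Injective f := by
  obtain ⟨Q, hQ⟩ := hT.exists_le_sylow
  exact ⟨(Sylow.equiv Q P).toMonoidHom.comp (inclusion hQ),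
    (Sylow.equiv Q P).injective.comp (inclusion_injective hQ)⟩

theorem card_sylow_of {m : ℕ} (h : (Nat.card G).factorization 2 = m) (P : Sylow 2 G) :
    Nat.card (P : Subgroup G) = 2 ^ m := by
  rw [Sylow.card_eq_multiplicity, h]

/-- Recognizing wreathed Sylow subgroups. -/
theorem wreathed_of {n : ℕ} (hn : 2 ≤ n) (hv : (Nat.card G).factorization 2 = 2 * n + 1) (P : Sylow 2 G)
    {x y z : G} (hx : orderOf x = 2 ^ n) (hxy : x * y = y * x) (hd : zpowers x ⊓ zpowers y = ⊥)
    (hz : orderOf z = 2) (hzx : z * x * z⁻¹ = y) : Cfsg.IsWreathed (P : Subgroup G) := by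
  have hy : orderOf y = 2 ^ n := by
    rw [← hx, ← hzx]
    exact (MulAut.conj z).orderOf_eq x
  have hz2 : z * z = 1 := by
    rw [← pow_two, ← hz, pow_orderOf_eq_one]
  have hzy : z * y * z⁻¹ = x := by
    rw [← hzx, inv_eq_of_mul_eq_one_right hz2]
    calc z * (z * x * z) * z = (z * z) * x * (z * z) := by group
      _ = x := by rw [hz2]; group
  set D := zpowers x ⊔ zpowers y
  have hxp : IsPGroup 2 (zpowers x) := IsPGroup.of_card (n := n) (by rw [Nat.card_zpowers, hx])
  have hyp : IsPGroup 2 (zpowers y) := IsPGroup.of_card (n := n) (by rw [Nat.card_zpowers, hy])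
  have hzp : IsPGroup 2 (zpowers z) := IsPGroup.of_card (n := 1) (by rw [Nat.card_zpowers, hz, pow_one])
  have hxny : zpowers x ≤ normalizer (zpowers y : Set G) := by
    refine le_trans ?_ (centralizer_le_normalizer _)
    rw [zpowers_le, mem_centralizer_iff]
    rintro _ ⟨k, rfl⟩
    exact ((Commute.zpow_right (show Commute x y from hxy) k).symm).eq
  have hDp : IsPGroup 2 D := hxp.to_sup_of_normal_right' hyp hxny
  have hzD : zpowers z ≤ normalizer (D : Set G) := by
    rw [zpowers_le]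
    have hle : D.map (MulAut.conj z).toMonoidHom ≤ D := by
      rw [Subgroup.map_sup, MonoidHom.map_zpowers, MonoidHom.map_zpowers]
      refine sup_le ?_ ?_ <;> rw [zpowers_le]
      · show z * x * z⁻¹ ∈ D
        rw [hzx]; exact (le_sup_right : zpowers y ≤ D) (mem_zpowers y)
      · show z * y * z⁻¹ ∈ D
        rw [hzy]; exact (le_sup_left : zpowers x ≤ D) (mem_zpowers x)
    refine mem_normalizer_iff.mpr fun g => ⟨fun hg => hle ⟨g, hg, rfl⟩, fun hg => ?_⟩
    have := hle ⟨_, hg, rfl⟩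
    rw [MulEquiv.coe_toMonoidHom, MulAut.conj_apply, inv_eq_of_mul_eq_one_right hz2] at this
    rwa [show z * (z * g * z) * z = g from by
      calc z * (z * g * z) * z = (z * z) * g * (z * z) := by group
        _ = g := by rw [hz2]; group] at this
  have hT : IsPGroup 2 (zpowers z ⊔ D : Subgroup G) := hzp.to_sup_of_normal_right' hDp hzD
  set T := zpowers z ⊔ D
  obtain ⟨f, hf⟩ := exists_embedding hT P
  have hxT : x ∈ T := (le_sup_right : D ≤ T) ((le_sup_left : zpowers x ≤ D) (mem_zpowers x))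
  have hyT : y ∈ T := (le_sup_right : D ≤ T) ((le_sup_right : zpowers y ≤ D) (mem_zpowers y))
  have hzT : z ∈ T := (le_sup_left : zpowers z ≤ T) (mem_zpowers z)
  refine ⟨n, hn, card_sylow_of hv P, f ⟨x, hxT⟩, f ⟨y, hyT⟩, f ⟨z, hzT⟩, ?_, ?_, ?_, ?_, ?_⟩
  · rw [orderOf_injective f hf, ← orderOf_coe, hx]
  · rw [← map_mul, ← map_mul]; exact congrArg f (Subtype.ext hxy)
  · rw [← MonoidHom.map_zpowers, ← MonoidHom.map_zpowers, ← map_inf _ _ _ hf, map_eq_bot_iff_of_injective _ hf]
    apply map_injective T.subtype_injective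
    rw [map_inf _ _ _ T.subtype_injective, MonoidHom.map_zpowers, MonoidHom.map_zpowers, Subgroup.map_bot]
    exact hd
  · rw [orderOf_injective f hf, ← orderOf_coe, hz]
  · rw [← map_inv, ← map_mul, ← map_mul]; exact congrArg f (Subtype.ext hzx)

/-- Recognizing quasi-dihedral Sylow subgroups. -/
theorem qd_of {n : ℕ} (hn : 3 ≤ n) (hv : (Nat.card G).factorization 2 = n + 1) (P : Sylow 2 G)
    {x y : G} (hx : orderOf x = 2 ^ n) (hy : orderOf y = 2)
    (hyx : y * x * y⁻¹ = x ^ (2 ^ (n - 1) - 1)) : Cfsg.IsQuasiDihedral (P : Subgroup G) := by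
  have hxp : IsPGroup 2 (zpowers x) := IsPGroup.of_card (n := n) (by rw [Nat.card_zpowers, hx])
  have hyp : IsPGroup 2 (zpowers y) := IsPGroup.of_card (n := 1) (by rw [Nat.card_zpowers, hy, pow_one])
  have hy2 : y * y = 1 := by rw [← pow_two, ← hy, pow_orderOf_eq_one]
  have hn' : zpowers y ≤ normalizer (zpowers x : Set G) := by
    rw [zpowers_le]
    have hle : (zpowers x).map (MulAut.conj y).toMonoidHom ≤ zpowers x := by
      rw [MonoidHom.map_zpowers, zpowers_le]
      show y * x * y⁻¹ ∈ zpowers x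
      rw [hyx]
      exact pow_mem (mem_zpowers x) _
    refine mem_normalizer_iff.mpr fun g => ⟨fun hg => hle ⟨g, hg, rfl⟩, fun hg => ?_⟩
    have := hle ⟨_, hg, rfl⟩
    rw [MulEquiv.coe_toMonoidHom, MulAut.conj_apply, inv_eq_of_mul_eq_one_right hy2] at this
    rwa [show y * (y * g * y) * y = g from by
      calc y * (y * g * y) * y = (y * y) * g * (y * y) := by group
        _ = g := by rw [hy2]; group] at this
  have hT : IsPGroup 2 (zpowers y ⊔ zpowers x : Subgroup G) := hyp.to_sup_of_normal_right' hxp hn'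
  set T := zpowers y ⊔ zpowers x
  obtain ⟨f, hf⟩ := exists_embedding hT P
  have hxT : x ∈ T := (le_sup_right : zpowers x ≤ T) (mem_zpowers x)
  have hyT : y ∈ T := (le_sup_left : zpowers y ≤ T) (mem_zpowers y)
  refine ⟨n, hn, card_sylow_of hv P, f ⟨x, hxT⟩, f ⟨y, hyT⟩, ?_, ?_, ?_⟩
  · rw [orderOf_injective f hf, ← orderOf_coe, hx]
  · rw [orderOf_injective f hf, ← orderOf_coe, hy]
  · rw [← map_inv, ← map_mul, ← map_mul, ← map_pow]; exact congrArg f (Subtype.ext hyx)

end Generic

section Matrices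

variable {F : Type*} [Field F]

/-- A unit of order `d` for every divisor `d` of `|Fˣ|`. -/
theorem exists_unit_order [Finite F] {d : ℕ} (hd : d ∣ Nat.card Fˣ) : ∃ a : Fˣ, orderOf a = d := by
  obtain ⟨g, hg⟩ := IsCyclic.exists_ofOrder_eq_natCard (α := Fˣ)
  obtain ⟨k, hk⟩ := hd
  have hk0 : k ≠ 0 := by
    rintro rfl
    rw [mul_zero] at hk
    exact (Nat.card_pos (α := Fˣ)).ne' hk
  refine ⟨g ^ k, ?_⟩
  rw [orderOf_pow_of_dvd hk0 (by rw [hg, hk]; exact dvd_mul_left _ _), hg, hk, Nat.mul_div_cancel _ (Nat.pos_of_ne_zero hk0)]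

/-- `diag(a,1)`. -/
noncomputable def diagOne : Fˣ →* GL (Fin 2) F where
  toFun a := ⟨Matrix.diagonal ![(a : F), 1], Matrix.diagonal ![((a⁻¹ : Fˣ) : F), 1],
    by rw [Matrix.diagonal_mul_diagonal, ← Matrix.diagonal_one]; congr 1; ext i; fin_cases i <;> simp,
    by rw [Matrix.diagonal_mul_diagonal, ← Matrix.diagonal_one]; congr 1; ext i; fin_cases i <;> simp⟩
  map_one' := by
    apply Units.ext
    ext i j; fin_cases i <;> fin_cases j <;> simp
  map_mul' a b := by
    apply Units.ext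
    ext i j; fin_cases i <;> fin_cases j <;> simp [Matrix.mul_apply, Fin.sum_univ_two]

/-- The swap matrix. -/
noncomputable def swapGL : GL (Fin 2) F :=
  ⟨!![0, 1; 1, 0], !![0, 1; 1, 0],
    by ext i j; fin_cases i <;> fin_cases j <;> simp [Matrix.mul_apply, Fin.sum_univ_two],
    by ext i j; fin_cases i <;> fin_cases j <;> simp [Matrix.mul_apply, Fin.sum_univ_two]⟩

theorem diagOne_injective : Function.Injective (diagOne : Fˣ →* GL (Fin 2) F) := by
  intro a b h
  have := congrArg (fun g : GL (Fin 2) F => (g : Matrix (Fin 2) (Fin 2) F) 0 0) h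
  exact Units.ext (by simpa [diagOne] using this)

theorem swapGL_order : orderOf (swapGL : GL (Fin 2) F) = 2 := by
  refine orderOf_eq_prime ?_ ?_
  · apply Units.ext
    ext i j; fin_cases i <;> fin_cases j <;> simp [pow_two, swapGL, Matrix.mul_apply, Fin.sum_univ_two]
  · intro h
    have := congrArg (fun g : GL (Fin 2) F => (g : Matrix (Fin 2) (Fin 2) F) 0 0) h
    simp [swapGL] at this

theorem swap_conj (a : Fˣ) :
    ((swapGL * diagOne a * swapGL⁻¹ : GL (Fin 2) F) : Matrix (Fin 2) (Fin 2) F) = !![1, 0; 0, (a : F)] := by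
  show !![0, 1; 1, 0] * Matrix.diagonal ![(a : F), 1] * !![0, 1; 1, 0] = _
  have : Matrix.diagonal ![(a : F), 1] = !![(a : F), 0; 0, 1] := by
    ext i j; fin_cases i <;> fin_cases j <;> simp
  rw [this, Matrix.mul_fin_two, Matrix.mul_fin_two]
  simp

theorem diag_commute (a : Fˣ) :
    diagOne a * (swapGL * diagOne a * swapGL⁻¹) = (swapGL * diagOne a * swapGL⁻¹) * diagOne a := by
  apply Units.ext
  rw [Units.val_mul, Units.val_mul _ (diagOne a), swap_conj]
  ext i j; fin_cases i <;> fin_cases j <;> simp [diagOne, Matrix.mul_apply, Fin.sum_univ_two]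

theorem diag_disjoint (a : Fˣ) :
    zpowers (diagOne a) ⊓ zpowers (swapGL * diagOne a * swapGL⁻¹) = ⊥ := by
  rw [eq_bot_iff]
  rintro g ⟨⟨i, rfl⟩, j, hj⟩
  simp only [conj_zpow] at hj
  rw [← map_zpow, ← map_zpow] at hj
  have hsw := swap_conj (a ^ j)
  change diagOne a ^ i ∈ (⊥ : Subgroup _)
  rw [← map_zpow]
  have h := congrArg (fun g : GL (Fin 2) F => (g : Matrix (Fin 2) (Fin 2) F) 0 0) hj
  rw [hsw] at h
  have : a ^ i = 1 := Units.ext (by
    simp [diagOne] at h
    simpa using h.symm)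
  rw [this, map_one]
  exact one_mem _

end Matrices

/-- Odd prime power arithmetic. -/
theorem two_part {N : ℕ} (hN : N ≠ 0) : ∃ m k, N = 2 ^ m * k ∧ Odd k := by
  obtain ⟨m, k, hk, rfl⟩ := Nat.exists_eq_two_pow_mul_odd hN
  exact ⟨m, k, rfl, hk⟩

theorem card_gl {F : Type*} [Field F] [Fintype F] :
    Nat.card (GL (Fin 2) F) = (Fintype.card F ^ 2 - 1) * (Fintype.card F ^ 2 - Fintype.card F) := by
  rw [Matrix.card_GL_field, Fin.prod_univ_two]
  simp

theorem qd_case {F : Type*} [Field F] [Fintype F] (hq : Fintype.card F % 4 = 3) (P : Sylow 2 (GL (Fin 2) F)) :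
    Cfsg.IsQuasiDihedral (P : Subgroup (GL (Fin 2) F)) := by
  classical
  set q := Fintype.card F with hqdef
  obtain ⟨m, k, hk, hko⟩ := two_part (N := q + 1) (by omega)
  have hm : 2 ≤ m := by
    by_contra h
    interval_cases m
    · obtain ⟨r, hr⟩ := hko; omega
    · obtain ⟨r, hr⟩ := hko; omega
  set l := q / 2 with hl
  have hlo : Odd l := ⟨q / 4, by omega⟩
  have hq1 : q - 1 = 2 * l := by omega
  have hsq : q ^ 2 - 1 = (q + 1) * (q - 1) := by simpa using Nat.sq_sub_sq q 1
  have hv : (Nat.card (GL (Fin 2) F)).factorization 2 = m + 1 + 1 := by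
    refine factorization_two (k := k * l * (q * l)) ((hko.mul hlo).mul (Odd.mul ⟨q / 2, by omega⟩ hlo)) ?_
    rw [card_gl, ← hqdef, hsq, show q ^ 2 - q = q * (q - 1) by rw [Nat.mul_sub, pow_two, mul_one], hk, hq1]
    ring
  obtain ⟨p, hchar⟩ := CharP.exists F
  haveI : Fact p.Prime := ⟨CharP.char_is_prime F p⟩
  let K := FiniteField.Extension F p 2
  haveI : Fintype K := Fintype.ofFinite K
  have hK : Nat.card K = q ^ 2 := by
    rw [FiniteField.natCard_extension, Nat.card_eq_fintype_card]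
  let b : Module.Basis (Fin 2) F K := Module.finBasisOfFinrankEq F K (FiniteField.finrank_extension F p 2)
  let Φ : (Module.End F K)ˣ →* GL (Fin 2) F := Units.map (LinearMap.toMatrixAlgEquiv b).toMulEquiv.toMonoidHom
  have hΦ : Function.Injective Φ := Units.map_injective (LinearMap.toMatrixAlgEquiv b).injective
  let μ : Kˣ →* (Module.End F K)ˣ := Units.map (Algebra.lmul F K).toMonoidHom
  have hμ : Function.Injective μ := Units.map_injective Algebra.lmul_injective
  let σ := FiniteField.Extension.frob F p 2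
  let τ : (Module.End F K)ˣ := ⟨σ.toLinearMap, σ.symm.toLinearMap,
    LinearMap.ext fun u => σ.apply_symm_apply u, LinearMap.ext fun u => σ.symm_apply_apply u⟩
  have hσ : ∀ u : K, σ u = u ^ q := fun u => by
    show FiniteField.Extension.frob F p 2 u = _
    rw [FiniteField.Extension.frob_apply, Nat.card_eq_fintype_card]
  obtain ⟨a, ha⟩ := exists_unit_order (F := K) (d := 2 ^ (m + 1)) (by
    rw [Nat.card_units, hK, hsq, hk, hq1]
    exact ⟨k * l, by ring⟩)
  have hx : orderOf (Φ (μ a)) = 2 ^ (m + 1) := by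
    rw [orderOf_injective Φ hΦ, orderOf_injective μ hμ, ha]
  have haq : a ^ q = a ^ (2 ^ (m + 1 - 1) - 1) := by
    rw [pow_eq_pow_iff_modEq, ha, Nat.add_sub_cancel]
    obtain ⟨r, hr⟩ := hko
    have h1 := Nat.one_le_two_pow (n := m)
    have h2 : q + 1 = 2 ^ (m + 1) * r + 2 ^ m := by rw [hk, hr]; ring
    have h3 : q = (2 ^ m - 1) + 2 ^ (m + 1) * r := by omega
    rw [h3]
    exact (Nat.modEq_iff_dvd' (by omega)).mpr ⟨r, by omega⟩ |>.symm
  have hy : orderOf (Φ τ) = 2 := by
    rw [orderOf_injective Φ hΦ]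
    refine orderOf_eq_prime ?_ ?_
    · refine Units.ext (LinearMap.ext fun u => ?_)
      show σ (σ u) = u
      rw [hσ, hσ, ← pow_mul, ← pow_two, ← hK, Nat.card_eq_fintype_card, FiniteField.pow_card]
    · intro h
      have h1 := LinearMap.congr_fun (congrArg Units.val h) (a : K)
      change σ (a : K) = (a : K) at h1
      rw [hσ] at h1
      have h2 : a ^ q = a ^ 1 := Units.ext (by simpa using h1)
      rw [pow_eq_pow_iff_modEq, ha, Nat.ModEq.comm, Nat.modEq_iff_dvd' (by omega)] at h2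
      rw [hq1] at h2
      obtain ⟨r, hr⟩ := h2
      have : 2 ^ (m + 1) * r = 2 * (2 ^ m * r) := by ring
      have h4 : l = 2 ^ m * r := by omega
      obtain ⟨m', rfl⟩ : ∃ m', m = m' + 1 := ⟨m - 1, by omega⟩
      exact Nat.not_even_iff_odd.mpr hlo ⟨2 ^ m' * r, by rw [h4]; ring⟩
  refine qd_of (n := m + 1) (by omega) hv P hx hy ?_
  rw [← map_inv, ← map_mul, ← map_mul, ← map_pow, ← map_pow μ, ← haq]
  refine congrArg Φ (mul_inv_eq_of_eq_mul (Units.ext (LinearMap.ext fun u => ?_)))
  show σ ((a : K) * u) = ((a ^ q : Kˣ) : K) * σ u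
  rw [map_mul, hσ, Units.val_pow_eq_pow_val]

theorem wreathed_case {F : Type*} [Field F] [Fintype F] (hq : Fintype.card F % 4 = 1) (P : Sylow 2 (GL (Fin 2) F)) :
    Cfsg.IsWreathed (P : Subgroup (GL (Fin 2) F)) := by
  set q := Fintype.card F with hqdef
  have hq5 : 1 < q := Fintype.one_lt_card
  obtain ⟨n, k, hk, hko⟩ := two_part (N := q - 1) (by omega)
  have hn : 2 ≤ n := by
    by_contra h
    interval_cases n
    · obtain ⟨r, hr⟩ := hko; omega
    · obtain ⟨r, hr⟩ := hko; omega
  set l := (q + 1) / 2 with hl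
  have hlo : Odd l := ⟨q / 4, by omega⟩
  have hq1 : q + 1 = 2 * l := by omega
  have hsq : q ^ 2 - 1 = (q + 1) * (q - 1) := by simpa using Nat.sq_sub_sq q 1
  have hv : (Nat.card (GL (Fin 2) F)).factorization 2 = 2 * n + 1 := by
    refine factorization_two (k := k * l * (q * k)) ((hko.mul hlo).mul (Odd.mul ⟨q / 2, by omega⟩ hko)) ?_
    rw [card_gl, ← hqdef, hsq, show q ^ 2 - q = q * (q - 1) by rw [Nat.mul_sub, pow_two, mul_one], hk, hq1]
    ring
  obtain ⟨a, ha⟩ := exists_unit_order (F := F) (d := 2 ^ n) (by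
    rw [Nat.card_units, Nat.card_eq_fintype_card, ← hqdef, hk]; exact dvd_mul_right _ _)
  exact wreathed_of hn hv P (by rw [orderOf_injective _ diagOne_injective, ha]) (diag_commute a)
    (diag_disjoint a) swapGL_order rfl

/-- Let F be a finite field with q elements, q odd, and P a Sylow 2-subgroup of GL(2,F). If q ≡ 3 (mod 4) then P is quasi-dihedral; if q ≡ 1 (mod 4) then P is wreathed. -/
theorem result {F : Type*} [Field F] [Fintype F] (P : Sylow 2 (GL (Fin 2) F)) : (Fintype.card F % 4 = 3 → Cfsg.IsQuasiDihedral (P : Subgroup (GL (Fin 2) F))) ∧ (Fintype.card F % 4 = 1 → Cfsg.IsWreathed (P : Subgroup (GL (Fin 2) F))) := by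
  exact ⟨fun h => qd_case h P, fun h => wreathed_case h P⟩

end Cfsg.Agent.S1217
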