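import Cfsg.Statements.S1896
import Cfsg.Agent.Lib.RankTwo.Auto
import Cfsg.Agent.Lib.PGroup.Basic
import Cfsg.Agent.Lib.PGroup.Power

set_option autoImplicit false
open Cfsg
open scoped commutatorElement

namespace Cfsg.Agent.S1896

variable {X : Type*} [Group X] [Finite X]

/-- In a cyclic group of even order the involution is unique. -/
theorem eq_pow_half {a y : X} {m : ℕ} (ha : orderOf a = 2 * m) (hy : y ∈ Subgroup.zpowers a)
    (h2 : y ^ 2 = 1) (h1 : y ≠ 1) : y = a ^ m := by
  obtain ⟨i, rfl⟩ := Subgroup.mem_zpowers_iff.mp hy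
  have hm : 0 < m := by have := orderOf_pos a; omega
  have hd : ((2 * m : ℕ) : ℤ) ∣ i * 2 := by
    rw [← ha, orderOf_dvd_iff_zpow_eq_one, zpow_mul]
    exact_mod_cast h2
  obtain ⟨k, hk⟩ := hd
  have hi : i = (m : ℤ) * k := by push_cast at hk; linarith
  subst hi
  have ham : (a ^ m) ^ (2 : ℤ) = 1 := by
    rw [← zpow_natCast, ← zpow_mul, show ((m : ℤ) * 2) = ((2 * m : ℕ) : ℤ) by push_cast; ring,
      zpow_natCast, ← ha, pow_orderOf_eq_one]
  rw [zpow_mul, zpow_natCast] at h1 ⊢
  rcases Int.even_or_odd k with ⟨l, rfl⟩ | ⟨l, rfl⟩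
  · exact absurd (by rw [← two_mul, zpow_mul, ham, one_zpow]) h1
  · rw [zpow_add, zpow_mul, ham, one_zpow, zpow_one, one_mul]

/-- Generators of a metacyclic `2`-group permuted by an automorphism of order three. -/
theorem exists_generators (hX : IsPGroup 2 X) (hm : Cfsg.IsMetacyclic X)
    (hA : ¬ IsPGroup 2 (MulAut X)) :
    ∃ (a : X) (β : MulAut X), a ∉ frattini X ∧ β a ∉ frattini X ∧
      (β a)⁻¹ * a ∉ frattini X ∧ (a * β a)⁻¹ * β (β a) ∈ frattini X ∧
      (Subgroup.zpowers a).Normal ∧ (Subgroup.zpowers (β a)).Normal ∧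
      Subgroup.closure {a, β a} = ⊤ := by
  obtain ⟨N, hN, hNc, hQc⟩ := hm
  haveI := hN
  obtain ⟨⟨a, haN⟩, hgen⟩ := hNc.exists_generator
  have hNa : Subgroup.zpowers a = N := le_antisymm (Subgroup.zpowers_le.mpr haN) fun y hy => by
    obtain ⟨i, hi⟩ := Subgroup.mem_zpowers_iff.mp (hgen ⟨y, hy⟩)
    exact Subgroup.mem_zpowers_iff.mpr ⟨i, by simpa using congrArg Subtype.val hi⟩
  obtain ⟨bq, hbq⟩ := hQc.exists_generator
  induction bq using QuotientGroup.induction_on with
  | _ b =>
  set π := QuotientGroup.mk' (frattini X) with hπ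
  have hπ1 : ∀ x, π x = 1 ↔ x ∈ frattini X := fun x => QuotientGroup.eq_one_iff x
  have hπcomm : ∀ x y, π x * π y = π y * π x := fun x y => by
    rw [← commutatorElement_eq_one_iff_mul_comm, ← map_commutatorElement, hπ1]
    exact PGroup.commutatorElement_mem_frattini hX x y
  have hπsq : ∀ x, π x ^ 2 = 1 := fun x => by
    rw [← map_pow, hπ1]; exact PGroup.pow_mem_frattini hX x
  have hzp : ∀ (x : X) (i : ℤ), π x ^ i = 1 ∨ π x ^ i = π x := by
    intro x i
    rcases Int.even_or_odd i with ⟨l, rfl⟩ | ⟨l, rfl⟩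
    · left
      rw [← two_mul, zpow_mul, zpow_ofNat, hπsq, one_zpow]
    · right
      rw [zpow_add, zpow_mul, zpow_ofNat, hπsq, one_zpow, zpow_one,
        one_mul]
  have hfour : ∀ x, π x = 1 ∨ π x = π a ∨ π x = π b ∨ π x = π a * π b := by
    intro x
    obtain ⟨j, hj⟩ := Subgroup.mem_zpowers_iff.mp (hbq x)
    have hm : x * (b ^ j)⁻¹ ∈ N := by
      rw [← QuotientGroup.eq_one_iff, QuotientGroup.mk_mul, QuotientGroup.mk_inv,
        QuotientGroup.mk_zpow, hj, mul_inv_cancel]
    obtain ⟨i, hi⟩ := Subgroup.mem_zpowers_iff.mp (hNa.symm ▸ hm)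
    have hx : π x = π a ^ i * π b ^ j := by
      rw [← map_zpow, ← map_zpow, ← map_mul, hi, inv_mul_cancel_right]
    rcases hzp a i with h | h <;> rcases hzp b j with h' | h' <;> simp [hx, h, h']
  -- an automorphism of odd prime order
  obtain ⟨q, hq, hqd, hq2⟩ : ∃ q, q.Prime ∧ q ∣ Nat.card (MulAut X) ∧ q ≠ 2 := by
    by_contra h
    push Not at h
    exact hA (IsPGroup.of_card (n := (Nat.card (MulAut X)).primeFactorsList.length)
      (Nat.eq_prime_pow_of_unique_prime_dvd Nat.card_pos.ne' fun {d} hd hdd => h d hd hdd))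
  haveI := Fact.mk hq
  obtain ⟨β, hβ⟩ := exists_prime_orderOf_dvd_card' q hqd
  have hβq : β ^ q = 1 := hβ ▸ pow_orderOf_eq_one β
  have hne : ∃ x, π (β x) ≠ π x := by
    by_contra h
    push Not at h
    have := RankTwo.aut_eq_one_of_frattini (p := 2) hX hq2 hβq fun x =>
      QuotientGroup.eq.mp (h x).symm
    rw [this, orderOf_one] at hβ
    exact hq.ne_one hβ.symm
  have hind : ∀ x y, π x = π y → π (β x) = π (β y) := by
    intro x y h
    rw [hπ, QuotientGroup.mk'_apply, QuotientGroup.mk'_apply, QuotientGroup.eq] at h ⊢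
    rw [← map_inv, ← map_mul]
    exact (PGroup.aut_mem_iff β _).mpr h
  -- a class fixed after two steps is fixed
  have hper : ∀ x, π (β (β x)) = π x → π (β x) = π x := by
    intro x hx
    have hk : ∀ k : ℕ, π ((β ^ (2 * k)) x) = π x := by
      intro k
      induction k with
      | zero => rfl
      | succ k ih =>
        rw [Nat.mul_succ, pow_add, MulAut.mul_apply, pow_two, MulAut.mul_apply, ← hx]
        have h1 : π ((β ^ (2 * k)) (β (β x))) = π (β (β ((β ^ (2 * k)) x))) := by
          rw [← MulAut.mul_apply, ← MulAut.mul_apply, ← MulAut.mul_apply, ← MulAut.mul_apply,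
            show β ^ (2 * k) * β * β = β * β * β ^ (2 * k) by group]
        rw [h1]
        exact hind _ _ (hind _ _ ih)
    obtain ⟨k, hk'⟩ := hq.odd_of_ne_two hq2
    have h1 := hind _ _ (hk k)
    rw [← MulAut.mul_apply, ← pow_succ', ← hk', hβq, MulAut.one_apply] at h1
    exact h1.symm
  have hπa : π a ≠ 1 := by
    intro h0
    have htwo : ∀ x, π x = 1 ∨ π x = π b := fun x => by
      rcases hfour x with h | h | h | h <;> simp [h, h0]
    obtain ⟨x, hx⟩ := hne
    have h1 : ∀ y, π y = 1 → π (β y) = 1 := fun y hy => by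
      simpa using hind y 1 (by simpa using hy)
    rcases htwo x with h | h
    · exact hx (by rw [h, h1 x h])
    · rcases htwo (β x) with h' | h'
      · have hbb : π (β (β x)) = 1 := h1 _ h'
        have : π x = 1 := by
          have hh : π (β (β (β x))) = π (β x) := by rw [h1 _ hbb, h']
          have h3 := hper (β x) hh
          rw [hbb, h'] at h3
          -- all later images are trivial, so `β ^ q = 1` gives `π x = 1`
          have hk : ∀ k : ℕ, π ((β ^ (k + 1)) x) = 1 := by
            intro k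
            induction k with
            | zero => simpa using h'
            | succ k ih => rw [pow_succ', MulAut.mul_apply]; exact h1 _ ih
          have := hk (q - 1)
          rwa [Nat.sub_add_cancel hq.one_le, hβq, MulAut.one_apply] at this
        exact hx (by rw [h', this])
      · exact hx (by rw [h', h])
  have hinj : ∀ y, π (β y) = 1 → π y = 1 := by
    intro y hy
    rw [hπ1] at hy ⊢
    exact (PGroup.aut_mem_iff β y).mp hy
  have hπa' : π (β a) ≠ 1 := fun h => hπa (hinj _ h)
  have hd1 : π (β a) ≠ π a := by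
    intro h
    obtain ⟨x, hx⟩ := hne
    apply hx
    have hb : π (β b) = π b := by
      rcases hfour (β b) with h' | h' | h' | h'
      · rw [h', hinj _ h']
      · have hab : π (β b) = π (β a) := by rw [h, h']
        have : π (β (b⁻¹ * a)) = 1 := by rw [map_mul, map_mul, map_inv, map_inv, hab, inv_mul_cancel]
        have := hinj _ this
        rw [map_mul, map_inv, inv_mul_eq_one] at this
        rw [h', this]
      · exact h'
      · refine hper b ?_
        have h2 : π (β (β b)) = π (β (a * b)) := hind _ _ (by rw [h', map_mul])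
        rw [h2, map_mul, map_mul, h, h', ← mul_assoc, ← pow_two, hπsq, one_mul]
    rcases hfour x with h' | h' | h' | h'
    · rw [h', ← map_one π, hind x 1 (by rw [h', map_one]), map_one β]
    · rw [hind x a h', h, h']
    · rw [hind x b h', hb, h']
    · rw [hind x (a * b) (by rw [h', map_mul]), map_mul, map_mul, h, hb, h']
  have hd2 : π (β (β a)) ≠ π a := fun h => hd1 (hper a h)
  have hd3 : π (β (β a)) ≠ π (β a) := by
    intro h
    have h5 : π (β (a⁻¹ * β a)) = 1 := by rw [map_mul, map_mul, map_inv, map_inv, h, inv_mul_cancel]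
    have := hinj _ h5
    rw [map_mul, map_inv, inv_mul_eq_one] at this
    exact hd1 this.symm
  have hd4 : π a * π (β a) ≠ 1 := fun h => hd1 (by
    calc π (β a) = π a ^ 2 * π (β a) := by rw [hπsq, one_mul]
      _ = π a := by rw [pow_two, mul_assoc, h, mul_one])
  have hd6 : π (β (β a)) ≠ 1 := fun h => hπa' (hinj _ h)
  have hprod : π (β (β a)) = π a * π (β a) := by
    have hb2 : π a * (π a * π b) = π b := by rw [← mul_assoc, ← pow_two, hπsq, one_mul]
    rcases hfour (β a) with h | h | h | h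
    · exact absurd h hπa'
    · exact absurd h hd1
    · rcases hfour (β (β a)) with h' | h' | h' | h'
      · exact absurd h' hd6
      · exact absurd h' hd2
      · exact absurd (h'.trans h.symm) hd3
      · rw [h', h]
    · rcases hfour (β (β a)) with h' | h' | h' | h'
      · exact absurd h' hd6
      · exact absurd h' hd2
      · rw [h', h, hb2]
      · exact absurd (h'.trans h.symm) hd3
  have hgen2 : Subgroup.closure {a, β a} = ⊤ := by
    refine PGroup.eq_top_of_sup_frattini (eq_top_iff.mpr fun x _ => ?_)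
    set K := Subgroup.closure {a, β a} ⊔ frattini X
    have hka : a ∈ K := Subgroup.mem_sup_left (Subgroup.subset_closure (by simp))
    have hkb : β a ∈ K := Subgroup.mem_sup_left (Subgroup.subset_closure (by simp))
    have hker : ∀ y z : X, π y = π z → z ∈ K → y ∈ K := fun y z h hz => by
      have h' : z⁻¹ * y ∈ frattini X := QuotientGroup.eq.mp h.symm
      have := mul_mem hz (Subgroup.mem_sup_right h' : z⁻¹ * y ∈ K)
      rwa [mul_inv_cancel_left] at this
    have hb : b ∈ K := by
      rcases hfour (β a) with h | h | h | h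
      · exact absurd h hπa'
      · exact absurd h hd1
      · exact hker b _ h.symm hkb
      · refine hker b (a * β a) ?_ (mul_mem hka hkb)
        rw [map_mul, h, ← mul_assoc, ← pow_two, hπsq, one_mul]
    rcases hfour x with h | h | h | h
    · exact Subgroup.mem_sup_right ((hπ1 x).mp h)
    · exact hker x a h hka
    · exact hker x b h hb
    · exact hker x (a * b) (by rw [h, map_mul]) (mul_mem hka hb)
  refine ⟨a, β, fun h => hπa ((hπ1 a).mpr h), fun h => hπa' ((hπ1 _).mpr h),
    fun h => hd1 (QuotientGroup.eq.mpr h), QuotientGroup.eq.mp ?_, hNa.symm ▸ hN, ?_, hgen2⟩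
  · exact (map_mul π a (β a)).trans hprod.symm
  · rw [← MulEquiv.coe_toMonoidHom, ← MonoidHom.map_zpowers, hNa]
    exact hN.map _ β.surjective

/-- The isomorphism with the quaternion group. -/
theorem quaternion_iso {a b : X} (ha : orderOf a = 4) (hgen : Subgroup.closure {a, b} = ⊤)
    (hb : b ^ 2 = a ^ 2) (hconj : b * a * b⁻¹ = a⁻¹) (hba : b ∉ Subgroup.zpowers a) :
    Nonempty (X ≃* QuaternionGroup 2) := by
  let P : ZMod (2 * 2) → X := fun i => a ^ i.val
  have hpn : ∀ k : ℕ, P (k : ZMod (2 * 2)) = a ^ k := fun k => by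
    show a ^ ((k : ZMod (2 * 2)).val) = a ^ k
    rw [ZMod.val_natCast, show 2 * 2 = orderOf a by rw [ha], pow_mod_orderOf]
  have hP : ∀ i j : ZMod (2 * 2), P (i + j) = P i * P j := fun i j => by
    show a ^ (i + j).val = a ^ i.val * a ^ j.val
    calc a ^ (i + j).val = P ((i.val + j.val : ℕ) : ZMod (2 * 2)) := by
          rw [Nat.cast_add, ZMod.natCast_zmod_val, ZMod.natCast_zmod_val]
      _ = a ^ i.val * a ^ j.val := by rw [hpn, pow_add]
  have hP0 : P 0 = 1 := by show a ^ (0 : ZMod (2 * 2)).val = 1; rw [ZMod.val_zero, pow_zero]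
  have hPneg : ∀ i, P (-i) = (P i)⁻¹ := fun i => eq_inv_of_mul_eq_one_left (by
    rw [← hP, neg_add_cancel, hP0])
  have hsw : ∀ i, P i * b = b * P (-i) := fun i => by
    rw [hPneg]
    show a ^ i.val * b = b * (a ^ i.val)⁻¹
    have h := conj_pow (a := b) (b := a) (i := i.val)
    rw [hconj, inv_pow] at h
    rw [h]
    have h2 : b * b * a ^ i.val = a ^ i.val * (b * b) := by
      rw [← pow_two, hb, ← pow_add, ← pow_add, add_comm]
    calc a ^ i.val * b = a ^ i.val * (b * b) * b⁻¹ := by group
      _ = b * b * a ^ i.val * b⁻¹ := by rw [h2]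
      _ = _ := by group
  let f : QuaternionGroup 2 → X
    | QuaternionGroup.a i => P i
    | QuaternionGroup.xa i => b * P i
  have hf : ∀ x y, f (x * y) = f x * f y := by
    rintro (i | i) (j | j)
    · rw [QuaternionGroup.a_mul_a]; exact hP i j
    · rw [QuaternionGroup.a_mul_xa]
      show b * P (j - i) = P i * (b * P j)
      rw [← mul_assoc, hsw, mul_assoc, ← hP, neg_add_eq_sub]
    · rw [QuaternionGroup.xa_mul_a]
      show b * P (i + j) = b * P i * P j
      rw [hP, mul_assoc]
    · rw [QuaternionGroup.xa_mul_xa]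
      show P (((2 : ℕ) : ZMod (2 * 2)) + j - i) = b * P i * (b * P j)
      calc P (((2 : ℕ) : ZMod (2 * 2)) + j - i)
          = P ((2 : ℕ) : ZMod (2 * 2)) * (P (-i) * P j) := by
            rw [← hP, ← hP]; congr 1; ring
        _ = b * b * (P (-i) * P j) := by rw [hpn, ← hb, pow_two]
        _ = b * P i * (b * P j) := by
          rw [mul_assoc b (P i), ← mul_assoc (P i) b, hsw]; group
  let F : QuaternionGroup 2 →* X := MonoidHom.mk' f hf
  have hinj : Function.Injective F := by
    rw [injective_iff_map_eq_one]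
    rintro (i | i) hi
    · have hi' : a ^ i.val = 1 := hi
      have hd := orderOf_dvd_of_pow_eq_one hi'
      rw [ha] at hd
      have := Nat.eq_zero_of_dvd_of_lt hd (ZMod.val_lt i)
      rw [(ZMod.val_eq_zero i).mp this]
      rfl
    · have hi' : b * a ^ i.val = 1 := hi
      exact absurd (by rw [eq_inv_of_mul_eq_one_left hi']
                       exact inv_mem (pow_mem (Subgroup.mem_zpowers a) _)) hba
  have hsurj : Function.Surjective F := by
    rw [← MonoidHom.range_eq_top, eq_top_iff, ← hgen, Subgroup.closure_le]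
    rintro x (rfl | rfl)
    · exact ⟨QuaternionGroup.a ((1 : ℕ) : ZMod (2 * 2)), (hpn 1).trans (pow_one _)⟩
    · exact ⟨QuaternionGroup.xa 0, by show x * P 0 = x; rw [hP0, mul_one]⟩
  exact ⟨(MulEquiv.ofBijective F ⟨hinj, hsurj⟩).symm⟩

/-- A finite metacyclic 2-group whose automorphism group is not a 2-group is isomorphic to the quaternion group of order 8 or to a homocyclic abelian group Z_{2^n} × Z_{2^n}. -/
theorem result {X : Type*} [Group X] [Finite X] (hX : IsPGroup 2 X)
    (hm : Cfsg.IsMetacyclic X) (hA : ¬ IsPGroup 2 (MulAut X)) :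
    Nonempty (X ≃* QuaternionGroup 2) ∨
      ∃ n : ℕ, Nonempty (X ≃* Multiplicative (ZMod (2 ^ n)) × Multiplicative (ZMod (2 ^ n))) := by
  obtain ⟨a, β, ha, hb', hab, hprod, hNa, hNb, hgen⟩ := exists_generators hX hm hA
  set b := β a with hb
  haveI := hNa
  haveI := hNb
  have hab' : orderOf b = orderOf a := by rw [hb]; exact MulEquiv.orderOf_eq β a
  have ha1 : a ≠ 1 := fun h => ha (h ▸ one_mem _)
  obtain ⟨e, he⟩ := IsPGroup.iff_orderOf.mp hX a
  obtain ⟨e, rfl⟩ : ∃ e', e = e' + 1 := Nat.exists_eq_add_one.mpr (Nat.pos_of_ne_zero fun h => by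
    rw [h, pow_zero, orderOf_eq_one_iff] at he; exact ha1 he)
  set c := ⁅b, a⁆ with hc
  have hca : c ∈ Subgroup.zpowers a := by
    rw [hc, commutatorElement_def]
    exact mul_mem (hNa.conj_mem a (Subgroup.mem_zpowers a) b) (inv_mem (Subgroup.mem_zpowers a))
  have hcb : c ∈ Subgroup.zpowers b := by
    rw [hc, commutatorElement_def,
      show b * a * b⁻¹ * a⁻¹ = b * (a * b⁻¹ * a⁻¹) by group]
    exact mul_mem (Subgroup.mem_zpowers b)
      (hNb.conj_mem _ (inv_mem (Subgroup.mem_zpowers b)) a)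
  by_cases hD : Disjoint (Subgroup.zpowers a) (Subgroup.zpowers b)
  · right
    refine ⟨e + 1, ?_⟩
    have hcomm : ∀ (x : Subgroup.zpowers a) (y : Subgroup.zpowers b), Commute (x : X) y := fun x y =>
      Subgroup.commute_of_normal_of_disjoint _ _ hNa hNb hD x y x.2 y.2
    let f := MonoidHom.noncommCoprod (Subgroup.zpowers a).subtype (Subgroup.zpowers b).subtype hcomm
    have hbij : Function.Bijective f := by
      refine ⟨fun x y h => Subgroup.mul_injective_of_disjoint hD h, ?_⟩
      rw [← MonoidHom.range_eq_top, eq_top_iff, ← hgen, Subgroup.closure_le]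
      rintro x (rfl | rfl)
      · exact ⟨(⟨_, Subgroup.mem_zpowers _⟩, 1), mul_one _⟩
      · exact ⟨(1, ⟨_, Subgroup.mem_zpowers _⟩), one_mul _⟩
    have e1 : ∀ y : X, orderOf y = 2 ^ (e + 1) →
        Nonempty (Subgroup.zpowers y ≃* Multiplicative (ZMod (2 ^ (e + 1)))) := fun y hy => by
      rw [← hy, ← Nat.card_zpowers]
      exact ⟨(zmodCyclicMulEquiv inferInstance).symm⟩
    obtain ⟨ea⟩ := e1 a he
    obtain ⟨eb⟩ := e1 b (hab'.trans he)
    exact ⟨(MulEquiv.ofBijective f hbij).symm.trans (MulEquiv.prodCongr ea eb)⟩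
  left
  set m := 2 ^ e with hm
  have ho : orderOf a = 2 * m := by rw [he, hm, pow_succ']
  have hob : orderOf b = 2 * m := hab'.trans ho
  -- the common involution
  set z := a ^ m with hz
  have hzb : b ^ m = z := by
    obtain ⟨d, hd, hd1⟩ : ∃ d ∈ Subgroup.zpowers a ⊓ Subgroup.zpowers b, d ≠ 1 := by
      by_contra h
      push Not at h
      exact hD (disjoint_iff.mpr ((Subgroup.eq_bot_iff_forall _).mpr h))
    have hp : IsPGroup 2 (Subgroup.zpowers a ⊓ Subgroup.zpowers b : Subgroup X) := hX.to_subgroup _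
    haveI : Nontrivial (Subgroup.zpowers a ⊓ Subgroup.zpowers b : Subgroup X) :=
      ⟨⟨⟨d, hd⟩, 1, fun h => hd1 (congrArg Subtype.val h)⟩⟩
    obtain ⟨j, hj, hjc⟩ := hp.nontrivial_iff_card.mp inferInstance
    obtain ⟨y, hy⟩ := exists_prime_orderOf_dvd_card'
      (G := (Subgroup.zpowers a ⊓ Subgroup.zpowers b : Subgroup X)) 2
      (hjc ▸ dvd_pow_self 2 hj.ne')
    rw [← Subgroup.orderOf_coe] at hy
    have hy2 : (y : X) ^ 2 = 1 := hy ▸ pow_orderOf_eq_one _
    have hy1 : (y : X) ≠ 1 := fun h => by rw [h, orderOf_one] at hy; omega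
    rw [hz, ← eq_pow_half ho y.2.1 hy2 hy1, ← eq_pow_half hob y.2.2 hy2 hy1]
  have hβz : β z = z := by rw [hz, map_pow, ← hb, hzb]
  -- `c` is central
  have hcc : ∀ x : X, Commute x c := by
    intro x
    have hle : (⊤ : Subgroup X) ≤ Subgroup.centralizer ({c} : Set X) := by
      rw [← hgen, Subgroup.closure_le]
      rintro y (rfl | rfl) <;> rw [SetLike.mem_coe, Subgroup.mem_centralizer_singleton_iff]
      · obtain ⟨i, hi⟩ := Subgroup.mem_zpowers_iff.mp hca
        rw [← hi]
        exact ((Commute.refl _).zpow_right i).eq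
      · obtain ⟨i, hi⟩ := Subgroup.mem_zpowers_iff.mp hcb
        rw [← hi]
        exact ((Commute.refl _).zpow_right i).eq
    exact Subgroup.mem_centralizer_singleton_iff.mp (hle (Subgroup.mem_top x))
  haveI hcn : (Subgroup.zpowers c).Normal :=
    PGroup.zpowers_normal_of_mem_center (Subgroup.mem_center_iff.mpr fun x => hcc x)
  have hcomm : ∀ x y : X, ⁅x, y⁆ ∈ Subgroup.zpowers c := by
    intro x y
    set π := QuotientGroup.mk' (Subgroup.zpowers c)
    have hπ : π b * π a = π a * π b := by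
      rw [← commutatorElement_eq_one_iff_mul_comm, ← map_commutatorElement, ← hc]
      exact (QuotientGroup.eq_one_iff c).mpr (Subgroup.mem_zpowers c)
    have hall : ∀ u v : X, π u * π v = π v * π u := by
      have h1 : ∀ v, π a * π v = π v * π a ∧ π b * π v = π v * π b := by
        intro v
        have hle : (⊤ : Subgroup X) ≤ (Subgroup.centralizer {π a, π b}).comap π := by
          rw [← hgen, Subgroup.closure_le]
          rintro w (rfl | rfl) <;> rw [SetLike.mem_coe, Subgroup.mem_comap,
            Subgroup.mem_centralizer_iff] <;> rintro _ (rfl | rfl) <;>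
            first | rfl | exact hπ | exact hπ.symm
        have hv := Subgroup.mem_centralizer_iff.mp (Subgroup.mem_comap.mp (hle (Subgroup.mem_top v)))
        exact ⟨hv _ (by simp), hv _ (by simp)⟩
      intro u v
      have hle : (⊤ : Subgroup X) ≤ (Subgroup.centralizer {π v}).comap π := by
        rw [← hgen, Subgroup.closure_le]
        rintro w (rfl | rfl) <;> rw [SetLike.mem_coe, Subgroup.mem_comap,
          Subgroup.mem_centralizer_singleton_iff]
        · exact (h1 v).1
        · exact (h1 v).2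
      exact Subgroup.mem_centralizer_singleton_iff.mp (Subgroup.mem_comap.mp (hle (Subgroup.mem_top u)))
    rw [← QuotientGroup.eq_one_iff]
    show π ⁅x, y⁆ = 1
    rw [map_commutatorElement, commutatorElement_eq_one_iff_mul_comm]
    exact hall x y
  -- `x ↦ x ^ m` is not a homomorphism
  have hkey : c ^ m.choose 2 ≠ 1 := by
    intro hcm
    have hmul : ∀ x y : X, (x * y) ^ m = x ^ m * y ^ m := by
      intro x y
      obtain ⟨i, hi⟩ := Subgroup.mem_zpowers_iff.mp (hcomm y x)
      have hcz : ∀ w : X, Commute w ⁅y, x⁆ := fun w => hi ▸ (hcc w).zpow_right i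
      rw [PGroup.mul_pow_eq (hcz x) (hcz y), ← hi, ← zpow_natCast (c ^ i), ← zpow_mul, mul_comm,
        zpow_mul, zpow_natCast, hcm, one_zpow, one_mul]
    let φ : X →* X := MonoidHom.mk' (fun x => x ^ m) hmul
    have hrange : φ.range ≤ Subgroup.zpowers z := by
      rw [MonoidHom.range_eq_map, ← hgen, MonoidHom.map_closure, Subgroup.closure_le]
      rintro _ ⟨y, rfl | rfl, rfl⟩
      · exact Subgroup.mem_zpowers _
      · show b ^ m ∈ Subgroup.zpowers z
        rw [hzb]
        exact Subgroup.mem_zpowers _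
    have hker : frattini X ≤ φ.ker := by
      refine PGroup.frattini_le_of_quotient_elementary (p := 2) ?_ fun x => ?_
      · rw [commutator_def, Subgroup.commutator_le]
        intro x _ y _
        obtain ⟨i, hi⟩ := Subgroup.mem_zpowers_iff.mp (hrange ⟨x, rfl⟩)
        obtain ⟨j, hj⟩ := Subgroup.mem_zpowers_iff.mp (hrange ⟨y, rfl⟩)
        rw [MonoidHom.mem_ker, map_commutatorElement, commutatorElement_eq_one_iff_mul_comm,
          ← hi, ← hj]
        exact ((Commute.refl z).zpow_zpow i j).eq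
      · obtain ⟨i, hi⟩ := Subgroup.mem_zpowers_iff.mp (hrange ⟨x, rfl⟩)
        have hz2 : z ^ 2 = 1 := by rw [hz, ← pow_mul, mul_comm, ← ho, pow_orderOf_eq_one]
        rw [MonoidHom.mem_ker, map_pow, ← hi, ← zpow_natCast, ← zpow_mul, mul_comm, zpow_mul,
          zpow_natCast, hz2, one_zpow]
    have h1 := MonoidHom.mem_ker.mp (hker hprod)
    rw [map_mul, map_inv, map_mul, inv_mul_eq_one] at h1
    change z * b ^ m = (β b) ^ m at h1
    rw [← map_pow β b m, hzb, hβz] at h1
    have hz1 : z = 1 := by simpa using h1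
    have := orderOf_dvd_of_pow_eq_one (hz ▸ hz1 : a ^ m = 1)
    rw [ho] at this
    have := Nat.le_of_dvd (by rw [hm]; positivity) this
    have : 0 < m := by rw [hm]; positivity
    omega
  -- `c` generates the squares of `a`
  obtain ⟨i, hi⟩ := Subgroup.mem_zpowers_iff.mp hca
  obtain ⟨l, rfl⟩ : Even i := by
    rcases Int.even_or_odd i with h | ⟨l, rfl⟩
    · exact h
    · refine absurd ?_ ha
      have hcΦ : c ∈ frattini X := PGroup.commutatorElement_mem_frattini hX b a
      have h2 : (a ^ 2) ^ l ∈ frattini X := zpow_mem (PGroup.pow_mem_frattini hX a) l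
      rw [← hi, zpow_add, zpow_one, zpow_mul, zpow_ofNat] at hcΦ
      simpa using mul_mem (inv_mem h2) hcΦ
  have hca2 : c ∈ Subgroup.zpowers (a ^ 2) := Subgroup.mem_zpowers_iff.mpr ⟨l, by
    rw [← hi, ← two_mul, zpow_mul, zpow_ofNat]⟩
  have hoa2 : orderOf (a ^ 2) = m := by
    rw [orderOf_pow' a two_ne_zero, ho, Nat.gcd_eq_right (dvd_mul_right 2 m),
      Nat.mul_div_cancel_left _ two_pos]
  obtain ⟨e, rfl⟩ : ∃ e', e = e' + 1 := Nat.exists_eq_add_one.mpr (Nat.pos_of_ne_zero fun h => by
    subst h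
    rw [pow_zero] at hm
    exact hkey (by rw [hm]; simp))
  have hoc : orderOf c = m := by
    have hd : orderOf c ∣ m := hoa2 ▸ orderOf_dvd_of_mem_zpowers hca2
    rw [hm] at hd ⊢
    obtain ⟨j, hj, hjc⟩ := (Nat.dvd_prime_pow Nat.prime_two).mp hd
    rcases hj.eq_or_lt with rfl | hlt
    · exact hjc
    · exfalso
      refine hkey (orderOf_dvd_iff_pow_eq_one.mp ?_)
      rw [hjc]
      refine (pow_dvd_pow 2 (by omega : j ≤ e)).trans ?_
      rw [hm, Nat.choose_two_right, pow_succ, mul_right_comm, Nat.mul_div_cancel _ two_pos]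
      exact dvd_mul_right _ _
  have hzp : Subgroup.zpowers c = Subgroup.zpowers (a ^ 2) :=
    PGroup.eq_of_le_of_card_le (Subgroup.zpowers_le.mpr hca2) (by
      rw [Nat.card_zpowers, Nat.card_zpowers, hoc, hoa2])
  -- `c ^ 2 = ⁅b, a ^ 2⁆ = 1`
  have hc2 : c ^ 2 = 1 := by
    rw [hc, ← PGroup.commutator_pow_right (hc ▸ hcc a), commutatorElement_eq_one_iff_mul_comm]
    have h2 : a ^ 2 ∈ Subgroup.zpowers c := by rw [hzp]; exact Subgroup.mem_zpowers _
    obtain ⟨k, hk⟩ := Subgroup.mem_zpowers_iff.mp h2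
    rw [← hk]
    exact ((hcc b).zpow_right k).eq
  have he0 : e = 0 := by
    have h1 : m ∣ 2 := hoc ▸ orderOf_dvd_of_pow_eq_one hc2
    have h2 := Nat.le_of_dvd two_pos h1
    rw [hm, pow_succ] at h2
    have h3 : 2 ^ e ≤ 1 := by omega
    by_contra h
    have := Nat.le_self_pow h 2
    omega
  subst he0
  have hm2 : m = 2 := by rw [hm]; rfl
  rw [hm2] at ho hz hzb hoc
  have hcz : c = a ^ 2 := eq_pow_half ho hca hc2 (fun h => by rw [h, orderOf_one] at hoc; omega)
  refine quaternion_iso (a := a) (b := b) ho hgen (by rw [hzb, hz]) ?_ ?_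
  · calc b * a * b⁻¹ = c * a := by rw [hc, commutatorElement_def]; group
      _ = a ^ 3 := by rw [hcz, ← pow_succ]
      _ = a⁻¹ := eq_inv_of_mul_eq_one_left (by rw [← pow_succ, show (3 : ℕ) + 1 = 2 * 2 from rfl, ← ho, pow_orderOf_eq_one])
  · intro h
    obtain ⟨k, hk⟩ := Subgroup.mem_zpowers_iff.mp h
    rcases Int.even_or_odd k with ⟨l, rfl⟩ | ⟨l, rfl⟩
    · refine hb' (hk ▸ ?_)
      rw [← two_mul, zpow_mul, zpow_ofNat]
      exact zpow_mem (PGroup.pow_mem_frattini hX a) l
    · refine hab ?_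
      rw [← hk, show (a ^ (2 * l + 1))⁻¹ * a = ((a ^ (2 : ℤ)) ^ l)⁻¹ by group, zpow_ofNat]
      exact inv_mem (zpow_mem (PGroup.pow_mem_frattini hX a) l)

end Cfsg.Agent.S1896
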