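import Cfsg.Statements.S0713
import Cfsg.Agent.Lib.Perm.Normalizing

set_option autoImplicit false
open Cfsg

namespace Cfsg.Agent.S0713

/-- Jordan's Theorem: a primitive permutation group of degree `n ≥ 5` containing a `p`-cycle for a prime `p ≤ n - 3` contains the alternating group. -/
theorem result {α : Type*} [Fintype α] [DecidableEq α] (G : Subgroup (Equiv.Perm α)) (hG : MulAction.IsPreprimitive G α) {p : ℕ} (hp : p.Prime) (hn : 5 ≤ Fintype.card α) (hpn : p + 3 ≤ Fintype.card α) {g : Equiv.Perm α} (hgc : g.IsCycle) (hgp : g.support.card = p) (hg : g ∈ G) : alternatingGroup α ≤ G := by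
  classical
  have : Fact p.Prime := ⟨hp⟩
  set s : Set α := ((g.support : Set α))ᶜ with hs
  have hscard : s.ncard = Fintype.card α - p := by
    rw [hs, Set.ncard_compl, Set.ncard_coe_finset, hgp, Nat.card_eq_fintype_card]
  obtain ⟨n, hn⟩ : ∃ n, s.ncard = n + 1 := ⟨s.ncard - 1, by omega⟩
  have htr := Equiv.Perm.isPretransitive_of_isCycle_mem hgc hg
  have hprim : MulAction.IsPreprimitive (fixingSubgroup G s) (SubMulAction.ofFixingSubgroup G s) := by
    apply MulAction.IsPreprimitive.of_prime_card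
    convert hp using 1
    rw [Nat.card_eq_fintype_card, Fintype.card_subtype, ← hgp]
    congr 1
    ext x
    simp [SubMulAction.mem_ofFixingSubgroup_iff, hs]
  have hmp := hG.isMultiplyPreprimitive hn (by
    rw [Nat.card_eq_fintype_card]; have := hp.two_le; omega) hprim
  have hmt : MulAction.IsMultiplyPretransitive G α (n + 2) := hmp.isMultiplyPretransitive
  have hm : MulAction.IsMultiplyPretransitive G α (n + 1) :=
    MulAction.isMultiplyPretransitive_of_le (n := n + 2) (by omega)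
      (by rw [Nat.card_eq_fintype_card]; have := hp.two_le; omega)
  -- permutations of the fixed points are induced by elements normalising `⟨g⟩`
  let K := G ⊓ fixingSubgroup (Equiv.Perm α) s
  have hgK : g ∈ K := by
    refine ⟨hg, (mem_fixingSubgroup_iff _).mpr fun y hy => ?_⟩
    simpa [hs] using hy
  have hgord : orderOf g = p := by rw [hgc.orderOf, hgp]
  have hZcard : Nat.card (Subgroup.zpowers g) = p := by rw [Nat.card_zpowers, hgord]
  have hZg : IsPGroup p (Subgroup.zpowers g) := IsPGroup.of_card (n := 1) (by rw [pow_one, hZcard])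
  have hKcard : Nat.card (fixingSubgroup (Equiv.Perm α) s) = p.factorial := by
    have h1 := (Equiv.Perm.isMultiplyPretransitive α s.ncard).index_of_fixingSubgroup_mul rfl
    have h2 := (fixingSubgroup (Equiv.Perm α) s).index_mul_card
    rw [Nat.card_perm, ← h1, hscard, Nat.card_eq_fintype_card (α := α),
      show Fintype.card α - (Fintype.card α - p) = p by omega] at h2
    exact Nat.eq_of_mul_eq_mul_left (Nat.pos_of_ne_zero Subgroup.index_ne_zero_of_finite) h2
  have hmax : ∀ R : Subgroup (Equiv.Perm α), IsPGroup p R → R ≤ K →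
      Nat.card R ≤ Nat.card (Subgroup.zpowers g) := by
    intro R hR hRK
    rw [hZcard]
    obtain ⟨i, hi⟩ := IsPGroup.iff_card.mp hR
    have hdvd : Nat.card R ∣ p.factorial :=
      hKcard ▸ Subgroup.card_dvd_of_le (hRK.trans inf_le_right)
    rw [hi] at hdvd ⊢
    rcases Nat.lt_or_ge i 2 with h | h
    · interval_cases i
      · rw [pow_zero]; exact hp.one_lt.le
      · rw [pow_one]
    · exfalso
      have h2 : p * p ∣ p * (p - 1).factorial := by
        rw [Nat.mul_factorial_pred hp.ne_zero, ← pow_two]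
        exact (pow_dvd_pow p h).trans hdvd
      have h3 := (Nat.Prime.dvd_factorial hp).mp ((Nat.mul_dvd_mul_iff_left hp.pos).mp h2)
      have := hp.two_le
      omega
  have hind : ∀ τ : Equiv.Perm α, (∀ x ∈ s, τ x ∈ s) →
      ∃ n ∈ G, (∀ x ∈ s, n x = τ x) ∧ n ∈ Subgroup.normalizer (Subgroup.zpowers g : Set (Equiv.Perm α)) := by
    intro τ hτ
    obtain ⟨e⟩ : Nonempty (Fin (n + 1) ≃ s) :=
      Finite.card_eq.mp (by rw [Nat.card_coe_set_eq, hn, Nat.card_eq_fintype_card, Fintype.card_fin])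
    let u : Fin (n + 1) ↪ α := e.toEmbedding.trans (Function.Embedding.subtype _)
    obtain ⟨⟨h, hh⟩, hhu⟩ := hm.exists_smul_eq u (u.trans τ.toEmbedding)
    have hhs : ∀ x ∈ s, h x = τ x := by
      intro x hx
      obtain ⟨i, hi⟩ := e.surjective ⟨x, hx⟩
      have := congrArg (fun w : Fin (n + 1) ↪ α => w i) hhu
      simpa [u, hi, Subgroup.smul_def, Equiv.Perm.smul_def, Function.Embedding.smul_apply] using this
    have hsurj : ∀ x ∈ s, ∃ y ∈ s, h y = x := by
      intro x hx
      have himg : h '' s = s := by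
        refine Set.eq_of_subset_of_ncard_le ?_ ?_ (Set.toFinite _)
        · rintro _ ⟨y, hy, rfl⟩
          rw [hhs y hy]; exact hτ y hy
        · rw [Set.ncard_image_of_injective _ h.injective]
      rw [← himg] at hx
      obtain ⟨y, hy, rfl⟩ := hx
      exact ⟨y, hy, rfl⟩
    have hQK : (Subgroup.zpowers g).map (MulAut.conj h).toMonoidHom ≤ K := by
      rw [MonoidHom.map_zpowers, Subgroup.zpowers_le]
      refine ⟨G.mul_mem (G.mul_mem hh hg) (G.inv_mem hh), (mem_fixingSubgroup_iff _).mpr fun x hx => ?_⟩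
      obtain ⟨y, hy, rfl⟩ := hsurj x hx
      show (h * g * h⁻¹) (h y) = h y
      rw [Equiv.Perm.mul_apply, Equiv.Perm.mul_apply, Equiv.Perm.inv_def, Equiv.symm_apply_apply,
        show g y = y from (mem_fixingSubgroup_iff _).mp hgK.2 y hy]
    obtain ⟨k, hk, hkQ⟩ := Perm.exists_conj_of_pgroups_max hZg (hZg.map (MulAut.conj h).toMonoidHom)
      (Subgroup.zpowers_le.mpr hgK) hQK
      (Nat.card_congr ((Subgroup.zpowers g).equivMapOfInjective _ (MulEquiv.injective _)).toEquiv).symm
      hmax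
    refine ⟨k * h, G.mul_mem hk.1 hh, fun x hx => ?_, Subgroup.mem_normalizer_iff.mpr fun z => ?_⟩
    · rw [Equiv.Perm.mul_apply, hhs x hx]
      exact (mem_fixingSubgroup_iff _).mp hk.2 _ (hτ x hx)
    · have hcomp : (MulAut.conj k).toMonoidHom.comp (MulAut.conj h).toMonoidHom
          = (MulAut.conj (k * h)).toMonoidHom := MonoidHom.ext fun z => by simp [mul_assoc]
      rw [Subgroup.map_map, hcomp] at hkQ
      conv_rhs => rw [← hkQ]
      exact (Subgroup.mem_map_iff_mem
        (f := (MulAut.conj (k * h)).toMonoidHom) (MulEquiv.injective _)).symm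
  obtain ⟨a, ha, b, hb, c, hc, hab, hac, hbc⟩ := (Set.two_lt_ncard (Set.toFinite s)).mp
    (by omega : 2 < s.ncard)
  have hswap : ∀ {x y : α}, x ∈ s → y ∈ s → ∀ z ∈ s, Equiv.swap x y z ∈ s := by
    intro x y hx hy z hz
    rw [Equiv.swap_apply_def]
    split_ifs <;> assumption
  obtain ⟨u, huG, hus, huN⟩ := hind (Equiv.swap a b) (hswap ha hb)
  obtain ⟨v, hvG, hvs, hvN⟩ := hind (Equiv.swap a c) (hswap ha hc)
  have hpowN : ∀ w ∈ Subgroup.normalizer (Subgroup.zpowers g : Set (Equiv.Perm α)),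
      ∃ i : ℤ, w * g * w⁻¹ = g ^ i := fun w hw => by
    obtain ⟨i, hi⟩ := (Subgroup.mem_normalizer_iff.mp hw g).mp (Subgroup.mem_zpowers g)
    exact ⟨i, hi.symm⟩
  obtain ⟨i, hi⟩ := hpowN u huN
  obtain ⟨j, hj⟩ := hpowN v hvN
  set h := u * v * u⁻¹ * v⁻¹ with hh
  have hcomm : h * g = g * h := by
    have e1 : (u * v) * g * (u * v)⁻¹ = g ^ (i * j) := by
      rw [show (u * v) * g * (u * v)⁻¹ = u * (v * g * v⁻¹) * u⁻¹ by group, hj, ← conj_zpow, hi,
        ← zpow_mul]
    have e2 : (v * u) * g * (v * u)⁻¹ = g ^ (i * j) := by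
      rw [show (v * u) * g * (v * u)⁻¹ = v * (u * g * u⁻¹) * v⁻¹ by group, hi, ← conj_zpow, hj,
        ← zpow_mul, mul_comm]
    have e3 : h * ((v * u) * g * (v * u)⁻¹) * h⁻¹ = (u * v) * g * (u * v)⁻¹ := by
      rw [hh]; group
    rw [e2, e1] at e3
    have e4 : Commute h (g ^ (i * j)) := mul_inv_eq_iff_eq_mul.mp e3
    rw [← e1] at e4
    -- `g` is a power of its image
    have hmem : g ∈ Subgroup.zpowers ((u * v) * g * (u * v)⁻¹) := by
      have hle : Subgroup.zpowers ((u * v) * g * (u * v)⁻¹) = Subgroup.zpowers g :=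
        Subgroup.eq_of_le_of_card_ge (by rw [Subgroup.zpowers_le, e1]; exact ⟨_, rfl⟩) (by
          rw [Nat.card_zpowers, Nat.card_zpowers]
          exact ((MulAut.conj (u * v)).orderOf_eq g).ge)
      rw [hle]
      exact Subgroup.mem_zpowers g
    obtain ⟨l, hl⟩ := hmem
    rw [← hl]
    exact (e4.zpow_right l).eq
  have hhS : ∀ x ∈ s, h x = (Equiv.swap a b * Equiv.swap a c * Equiv.swap a b * Equiv.swap a c) x := by
    intro x hx
    have huinv : ∀ y ∈ s, u⁻¹ y = Equiv.swap a b y := fun y hy => by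
      rw [Equiv.Perm.inv_eq_iff_eq, hus _ (hswap ha hb y hy), Equiv.swap_apply_self]
    have hvinv : ∀ y ∈ s, v⁻¹ y = Equiv.swap a c y := fun y hy => by
      rw [Equiv.Perm.inv_eq_iff_eq, hvs _ (hswap ha hc y hy), Equiv.swap_apply_self]
    simp only [hh, Equiv.Perm.mul_apply]
    rw [hvinv x hx, huinv _ (hswap ha hc x hx),
      hvs _ (hswap ha hb _ (hswap ha hc x hx)),
      hus _ (hswap ha hc _ (hswap ha hb _ (hswap ha hc x hx)))]
  obtain ⟨x0, hx0⟩ : g.support.Nonempty := Finset.card_pos.mp (hgp ▸ hp.pos)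
  have hhx0 : g (h x0) ≠ h x0 := by
    intro e
    rw [← Equiv.Perm.mul_apply, ← hcomm, Equiv.Perm.mul_apply] at e
    exact (Equiv.Perm.mem_support.mp hx0) (h.injective e)
  obtain ⟨l, hl⟩ := hgc.sameCycle (Equiv.Perm.mem_support.mp hx0) hhx0
  have hout : ∀ x, x ∈ g.support → (g ^ l)⁻¹ (h x) = x := by
    intro x hx
    obtain ⟨r, rfl⟩ := hgc.sameCycle (Equiv.Perm.mem_support.mp hx0) (Equiv.Perm.mem_support.mp hx)
    have hcr : h * g ^ r = g ^ r * h := (Commute.zpow_right hcomm r).eq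
    rw [show h ((g ^ r) x0) = (g ^ r) (h x0) from congrArg (fun e : Equiv.Perm α => e x0) hcr, ← hl,
      ← Equiv.Perm.mul_apply, ← Equiv.Perm.mul_apply, ← zpow_neg, ← zpow_add, ← zpow_add,
      show -l + r + l = r by ring]
  have hin : ∀ x, x ∉ g.support → (g ^ l)⁻¹ (h x) =
      (Equiv.swap a b * Equiv.swap a c * Equiv.swap a b * Equiv.swap a c) x := by
    intro x hx
    have hxs : x ∈ s := by simpa [hs] using hx
    rw [hhS x hxs]
    set y := (Equiv.swap a b * Equiv.swap a c * Equiv.swap a b * Equiv.swap a c) x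
    have hy : g y = y := (mem_fixingSubgroup_iff _).mp hgK.2 y (by
      simp only [y, Equiv.Perm.mul_apply]
      exact hswap ha hb _ (hswap ha hc _ (hswap ha hb _ (hswap ha hc x hxs))))
    rw [← zpow_neg]
    exact Equiv.Perm.zpow_apply_eq_self_of_apply_eq_self hy _
  have hfix : ∀ x, x ∈ g.support →
      (Equiv.swap a b * Equiv.swap a c * Equiv.swap a b * Equiv.swap a c) x = x := by
    intro x hx
    have hne : ∀ y ∈ s, x ≠ y := fun y hy e => (by simpa [hs] using hy : y ∉ g.support) (e ▸ hx)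
    simp only [Equiv.Perm.mul_apply, Equiv.swap_apply_of_ne_of_ne (hne a ha) (hne c hc),
      Equiv.swap_apply_of_ne_of_ne (hne a ha) (hne b hb)]
  have heq : (g ^ l)⁻¹ * h = (Equiv.swap a b * Equiv.swap a c) * (Equiv.swap a b * Equiv.swap a c) := by
    ext x
    rw [Equiv.Perm.mul_apply, ← mul_assoc]
    by_cases hx : x ∈ g.support
    · rw [hout x hx, hfix x hx]
    · exact hin x hx
  refine Equiv.Perm.alternatingGroup_le_of_isPreprimitive_of_isThreeCycle_mem hG
    (g := (Equiv.swap a b * Equiv.swap a c) * (Equiv.swap a b * Equiv.swap a c))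
    (Equiv.Perm.isThreeCycle_swap_mul_swap_same hab hac hbc).isThreeCycle_sq ?_
  rw [← heq]
  exact G.mul_mem (G.inv_mem (G.zpow_mem hg l))
    (G.mul_mem (G.mul_mem (G.mul_mem huG hvG) (G.inv_mem huG)) (G.inv_mem hvG))

end Cfsg.Agent.S0713
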