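import Cfsg.Statements.S1054
import Cfsg.Agent.Lib.Chev.All
import Cfsg.Agent.Lib.ChevBN.RootTables
import Cfsg.Agent.Lib.ChevBN.Data

set_option autoImplicit false
open Cfsg

namespace Cfsg.Agent.S1054

/-- The Chevalley groups of types D₄, F₄, E₆, E₇, E₈ are simple over every field. -/
theorem result {F : Type*} [Field F] (D : Cfsg.Lie.ChevalleyDatum)
    (hD : D ∈ [Cfsg.Lie.chevD4, Cfsg.Lie.chevF4, Cfsg.Lie.chevE6, Cfsg.Lie.chevE7, Cfsg.Lie.chevE8]) :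
    IsSimpleGroup ↥(D.group F) ∧ ¬ IsMulCommutative ↥(D.group F) := by
  have hmem : D ∈ [Cfsg.Lie.chevG2, Cfsg.Lie.chevB2, Cfsg.Lie.chevD4, Cfsg.Lie.chevF4, Cfsg.Lie.chevE6,
      Cfsg.Lie.chevE7, Cfsg.Lie.chevE8] := List.mem_cons_of_mem _ (List.mem_cons_of_mem _ hD)
  have hg := Chev.good_of_mem hmem
  obtain ⟨M, d, hR⟩ := ChevBN.exists_roots D hmem
  obtain ⟨hr, ord, ho⟩ := ChevBN.conn_of_mem hmem
  have h4 : 4 ≤ D.rank := by
    simp only [List.mem_cons, List.not_mem_nil, or_false] at hD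
    rcases hD with rfl | rfl | rfl | rfl | rfl <;> decide
  have h1 : D ≠ Cfsg.Lie.chevG2 := fun e => absurd (e ▸ h4) (by decide)
  have h2 : D ≠ Cfsg.Lie.chevB2 := fun e => absurd (e ▸ h4) (by decide)
  exact ChevBN.group_isSimple hg hR ho hr (ChevBN.commutator_group_eq_top hg
    (Or.inl (ChevBN.twoOK_of_mem hmem h1 h2)) (ChevBN.smallOK_of_mem hmem) hg.pairing_self)

end Cfsg.Agent.S1054
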