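import Cfsg.Statements.S4337
import Cfsg.Agent.EqLemmas

set_option autoImplicit false
open Cfsg

namespace Cfsg.Agent.S4337

open Equiv Equiv.Perm

theorem perm4_solvable : Group.IsSolvable (Equiv.Perm (Fin 4)) := by
  let A : Subgroup (Equiv.Perm (Fin 4)) := (Equiv.Perm.sign (α := Fin 4)).ker
  let V : Subgroup (Equiv.Perm (Fin 4)) :=
    { carrier := {x | Equiv.Perm.sign x = 1 ∧ x * x = 1}
      one_mem' := by simp
      mul_mem' := fun {a b} ha hb => by
        revert a b
        simp only [Set.mem_ofPred_eq]
        decide +kernel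
      inv_mem' := fun {a} ha => by
        revert a
        simp only [Set.mem_ofPred_eq]
        decide +kernel }
  refine (Group.isSolvable_def _).2 ⟨3, ?_⟩
  have h1 : derivedSeries (Equiv.Perm (Fin 4)) 1 ≤ A := by
    rw [derivedSeries_succ, Subgroup.commutator_le]
    intro a _ b _
    simp [A, MonoidHom.mem_ker, commutatorElement_def, mul_comm, mul_left_comm]
  have h2 : derivedSeries (Equiv.Perm (Fin 4)) 2 ≤ V := by
    rw [derivedSeries_succ]
    refine (Subgroup.commutator_mono h1 h1).trans (Subgroup.commutator_le.2 ?_)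
    intro a ha b hb
    show Equiv.Perm.sign _ = 1 ∧ _
    simp only [A, MonoidHom.mem_ker] at ha hb
    revert a b
    simp only [commutatorElement_def]
    decide +kernel
  rw [derivedSeries_succ, eq_bot_iff]
  refine (Subgroup.commutator_mono h2 h2).trans (Subgroup.commutator_le.2 ?_)
  intro a ha b hb
  rw [Subgroup.mem_bot]
  change Equiv.Perm.sign a = 1 ∧ a * a = 1 at ha
  change Equiv.Perm.sign b = 1 ∧ b * b = 1 at hb
  revert a b
  simp only [commutatorElement_def]
  decide +kernel

theorem solvable_of_support_le {n : ℕ} (t : Finset (Fin n)) (ht : t.card ≤ 4)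
    (S : Set (Equiv.Perm (Fin n))) (hS : ∀ g ∈ S, ∀ x, x ∉ t → g x = x) :
    Group.IsSolvable (Subgroup.closure S) := by
  obtain ⟨u, htu, hu⟩ : ∃ u : Finset (Fin n), t ⊆ u ∧ u.card ≤ 4 := ⟨t, le_rfl, ht⟩
  let φ : Equiv.Perm {x // x ∈ u} →* Equiv.Perm (Fin n) := Equiv.Perm.ofSubtype
  haveI : Group.IsSolvable (Equiv.Perm {x // x ∈ u}) := by
    haveI := perm4_solvable
    obtain ⟨e⟩ : Nonempty ({x // x ∈ u} ↪ Fin 4) :=
      Function.Embedding.nonempty_of_card_le (by simpa using hu)
    exact Group.isSolvable_of_isSolvable_injective (Equiv.Perm.viaEmbeddingHom_injective e)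
  haveI : Group.IsSolvable φ.range := Group.isSolvable_of_surjective φ.rangeRestrict_surjective
  have hle : Subgroup.closure S ≤ φ.range := by
    rw [Subgroup.closure_le]
    intro g hg
    have h1 : ∀ x, g x ≠ x → x ∈ u := fun x hx => htu (by_contra fun hxt => hx (hS g hg x hxt))
    have h2 : ∀ x, g x ∈ u ↔ x ∈ u := fun x => by
      by_cases hx : g x = x
      · rw [hx]
      · exact iff_of_true (h1 _ fun h => hx (g.injective h)) (h1 _ hx)
    exact ⟨g.subtypePerm h2, Equiv.Perm.ofSubtype_subtypePerm h2 h1⟩
  exact Group.isSolvable_of_isSolvable_injective (Subgroup.inclusion_injective hle)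

theorem commute_case {n : ℕ} (a b c : Equiv.Perm (Fin n)) (hb : b.IsSwap) (hc : c.IsSwap)
    (hab : Commute a b) (hac : Commute a c) :
    Group.IsSolvable (Subgroup.closure ({a, b, c} : Set (Equiv.Perm (Fin n)))) := by
  set K := Subgroup.closure ({b, c} : Set (Equiv.Perm (Fin n)))
  haveI : Group.IsSolvable K := by
    refine solvable_of_support_le (b.support ∪ c.support) ?_ _ ?_
    · refine (Finset.card_union_le _ _).trans ?_
      rw [Equiv.Perm.card_support_eq_two.2 hb, Equiv.Perm.card_support_eq_two.2 hc]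
    · rintro g (rfl | rfl) x hx <;> simp_all
  have hK : ∀ k ∈ K, Commute a k := by
    intro k hk
    have hle : K ≤ Subgroup.centralizer ({a} : Set (Equiv.Perm (Fin n))) := by
      rw [Subgroup.closure_le]
      rintro g (rfl | rfl) <;> rw [SetLike.mem_coe, Subgroup.mem_centralizer_singleton_iff]
      · exact hab.eq.symm
      · exact hac.eq.symm
    exact (Subgroup.mem_centralizer_singleton_iff.1 (hle hk)).symm
  let φ := MonoidHom.noncommCoprod (Subgroup.zpowers a).subtype K.subtype (fun x y => by
    obtain ⟨i, hi⟩ := x.2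
    show Commute (x : Equiv.Perm (Fin n)) y
    rw [← hi]
    exact (hK _ y.2).zpow_left i)
  haveI : Group.IsSolvable φ.range := Group.isSolvable_of_surjective φ.rangeRestrict_surjective
  have hle : Subgroup.closure ({a, b, c} : Set (Equiv.Perm (Fin n))) ≤ φ.range := by
    rw [Subgroup.closure_le]
    rintro g (rfl | rfl | rfl)
    · exact ⟨(⟨g, Subgroup.mem_zpowers g⟩, 1), by simp [φ]⟩
    · exact ⟨(1, ⟨g, Subgroup.subset_closure (by simp)⟩), by simp [φ]⟩
    · exact ⟨(1, ⟨g, Subgroup.subset_closure (by simp)⟩), by simp [φ]⟩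
  exact Group.isSolvable_of_isSolvable_injective (Subgroup.inclusion_injective hle)

theorem card_union3_le {α : Type*} [DecidableEq α] {A B C : Finset α} (hA : A.card = 2) (hB : B.card = 2)
    (hC : C.card = 2) (h1 : ¬ Disjoint A B ∨ ¬ Disjoint A C) (h2 : ¬ Disjoint B A ∨ ¬ Disjoint B C)
    (h3 : ¬ Disjoint C A ∨ ¬ Disjoint C B) : (A ∪ B ∪ C).card ≤ 4 := by
  have key : ∀ X Y Z : Finset α, X.card = 2 → Y.card = 2 → Z.card = 2 → ¬ Disjoint X Y →
      ¬ Disjoint Z (X ∪ Y) → (X ∪ Y ∪ Z).card ≤ 4 := by
    intro X Y Z hX hY hZ hXY hZXY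
    rw [Finset.not_disjoint_iff_nonempty_inter] at hXY hZXY
    have e1 := Finset.card_union_add_card_inter X Y
    have e2 := Finset.card_union_add_card_inter Z (X ∪ Y)
    have := hXY.card_pos
    have := hZXY.card_pos
    rw [Finset.union_comm Z] at e2
    omega
  by_cases hAB : Disjoint A B
  · have hAC : ¬ Disjoint A C := h1.resolve_left (not_not.2 hAB)
    have := key A C B hA hC hB hAC (fun hd => by
      rw [Finset.disjoint_union_right] at hd
      exact h2.elim (fun h => h hd.1) (fun h => h hd.2))
    rwa [Finset.union_right_comm]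
  · exact key A B C hA hB hC hAB fun hd => by
      rw [Finset.disjoint_union_right] at hd
      exact h3.elim (fun h => h hd.1) (fun h => h hd.2)

/-- In a finite symmetric group, any three transpositions generate a solvable subgroup. -/
theorem result (n : ℕ) (a b c : Equiv.Perm (Fin n))
    (ha : a.IsSwap) (hb : b.IsSwap) (hc : c.IsSwap) :
    Group.IsSolvable (Subgroup.closure ({a, b, c} : Set (Equiv.Perm (Fin n)))) := by
  by_cases h1 : Disjoint a.support b.support ∧ Disjoint a.support c.support
  · exact commute_case a b c hb hc (Equiv.Perm.disjoint_iff_disjoint_support.2 h1.1).commute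
      (Equiv.Perm.disjoint_iff_disjoint_support.2 h1.2).commute
  by_cases h2 : Disjoint b.support a.support ∧ Disjoint b.support c.support
  · rw [Set.insert_comm]
    exact commute_case b a c ha hc (Equiv.Perm.disjoint_iff_disjoint_support.2 h2.1).commute
      (Equiv.Perm.disjoint_iff_disjoint_support.2 h2.2).commute
  by_cases h3 : Disjoint c.support a.support ∧ Disjoint c.support b.support
  · rw [Set.pair_comm, Set.insert_comm]
    exact commute_case c a b ha hb (Equiv.Perm.disjoint_iff_disjoint_support.2 h3.1).commute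
      (Equiv.Perm.disjoint_iff_disjoint_support.2 h3.2).commute
  rw [not_and_or] at h1 h2 h3
  refine solvable_of_support_le (a.support ∪ b.support ∪ c.support)
    (card_union3_le (Equiv.Perm.card_support_eq_two.2 ha) (Equiv.Perm.card_support_eq_two.2 hb)
      (Equiv.Perm.card_support_eq_two.2 hc) h1 h2 h3) _ ?_
  rintro g (rfl | rfl | rfl) x hx <;> simp_all

end Cfsg.Agent.S4337
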