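import Cfsg.Statements.S0132
import Cfsg.Agent.Lib.Transfer.Criteria

set_option autoImplicit false
open Cfsg

namespace Cfsg.Agent.S0132

/-- A minimal non-p-nilpotent finite group is a minimal non-nilpotent group with a normal Sylow p-subgroup. -/
theorem result {G : Type*} [Group G] [Finite G] {p : ℕ} [Fact p.Prime] (h1 : ¬ Cfsg.HasNormalPComplement p G) (h2 : ∀ H : Subgroup G, H ≠ ⊤ → Cfsg.HasNormalPComplement p H) : (∀ H : Subgroup G, H ≠ ⊤ → Group.IsNilpotent H) ∧ ¬ Group.IsNilpotent G ∧ ∀ P : Sylow p G, (P : Subgroup G).Normal := by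
  obtain ⟨P0⟩ := (inferInstance : Nonempty (Sylow p G))
  have hex : ∃ R : Subgroup G, R ≤ (P0 : Subgroup G) ∧ ∃ n ∈ Subgroup.normalizer (R : Set G),
      Nat.Coprime (orderOf n) p ∧ n ∉ Subgroup.centralizer (R : Set G) := by
    by_contra hc
    push Not at hc
    exact h1 (Transfer.hasNormalPComplement_of_local P0 fun R hR _ n hn hco => hc R hR.1 n hn hco)
  obtain ⟨R, hR, n, hn, hco, hnc⟩ := hex
  have hy : ∃ (q : ℕ) (y : G), q.Prime ∧ y ∈ Subgroup.zpowers n ∧ (∃ k, orderOf y = q ^ k) ∧
      y ∉ Subgroup.centralizer (R : Set G) := by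
    by_contra hc
    push Not at hc
    exact hnc (Transfer.mem_of_forall_primePow fun q hq y hy hk => hc q y hq hy hk)
  obtain ⟨q, y, hq, hyz, ⟨a, ha⟩, hyc⟩ := hy
  have := Fact.mk hq
  have hyN : y ∈ Subgroup.normalizer (R : Set G) := (Subgroup.zpowers_le.mpr hn) hyz
  have hyco : Nat.Coprime (orderOf y) p := hco.coprime_dvd_left (orderOf_dvd_of_mem_zpowers hyz)
  have hRp : IsPGroup p R := P0.2.to_le hR
  have hqp : q ≠ p := by
    intro h
    subst h
    rw [ha] at hyco
    cases a with
    | zero =>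
      rw [pow_zero, orderOf_eq_one_iff] at ha
      exact hyc (ha ▸ one_mem _)
    | succ a => exact hq.ne_one (Nat.eq_one_of_dvd_coprimes hyco (dvd_pow_self q (Nat.succ_ne_zero a)) dvd_rfl)
  have htop : R ⊔ Subgroup.zpowers y = ⊤ := by
    by_contra hne
    set H := R ⊔ Subgroup.zpowers y
    have hyH : y ∈ H := Subgroup.mem_sup_right (Subgroup.mem_zpowers y)
    have hle : R ≤ H := le_sup_left
    have h3 := Transfer.mem_centralizer_of_coprime (h2 H hne) (Q := R.subgroupOf H)
      (hRp.of_equiv (Subgroup.subgroupOfEquivOfLe hle).symm) (g := ⟨y, hyH⟩)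
      (Subgroup.mem_normalizer_iff.mpr fun h => Subgroup.mem_normalizer_iff.mp hyN h)
      (by rwa [Subgroup.orderOf_mk])
    exact hyc (Subgroup.mem_centralizer_iff.mpr fun r hr =>
      congrArg Subtype.val (Subgroup.mem_centralizer_iff.mp h3 ⟨r, hle hr⟩ hr))
  have hRn : R.Normal := Subgroup.normalizer_eq_top_iff.mp (top_le_iff.mp
    (htop.ge.trans (sup_le Subgroup.le_normalizer (Subgroup.zpowers_le.mpr hyN))))
  obtain ⟨b, hb⟩ := IsPGroup.iff_card.mp hRp
  have hidx : R.index ∣ q ^ a := by
    have hR0 := Subgroup.card_mul_index R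
    have hsup := Subgroup.mul_normal (Subgroup.zpowers y) R
    rw [sup_comm, htop, Subgroup.coe_top] at hsup
    have hcard : R.index ∣ orderOf y := by
      rw [← Subgroup.relIndex_top_right, ← htop, sup_comm, Subgroup.relIndex_sup_right, ← Nat.card_zpowers]
      exact Subgroup.relIndex_dvd_card ..
    exact ha ▸ hcard
  have hsyl : ∀ P : Sylow p G, (P : Subgroup G) = R := by
    intro P
    have hle : R ≤ (P : Subgroup G) := hRp.le_sylow_of_normal P
    refine (Subgroup.eq_of_le_of_card_ge hle ?_).symm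
    refine (Nat.le_of_dvd Nat.card_pos ?_)
    have h5 : Nat.card (P : Subgroup G) ∣ Nat.card R * q ^ a :=
      (Subgroup.card_subgroup_dvd_card _).trans (R.card_mul_index ▸ Nat.mul_dvd_mul_left _ hidx)
    obtain ⟨c, hc⟩ := IsPGroup.iff_card.mp P.2
    rw [hc] at h5 ⊢
    exact (Nat.Coprime.pow c a ((Nat.coprime_primes Fact.out hq).mpr hqp.symm)).dvd_of_dvd_mul_right h5
  refine ⟨fun H hH => ?_, fun hnil => ?_, fun P => (hsyl P) ▸ hRn⟩
  · refine (Group.isNilpotent_of_finite_tfae.out 0 3).mpr ?_
    intro r hr S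
    have := hr
    have hrp : r.Prime := Fact.out
    by_cases hrp' : r = p
    · subst hrp'
      have hSR : (S : Subgroup H) = R.subgroupOf H := by
        have hn' : (R.subgroupOf H).Normal := Subgroup.normal_subgroupOf
        refine (S.3 (hRp.comap_subtype) fun x hx => ?_).symm
        obtain ⟨Q, hQ⟩ := (S.2.map H.subtype).exists_le_sylow
        exact Subgroup.mem_subgroupOf.mpr (hsyl Q ▸ hQ ⟨x, hx, rfl⟩)
      rw [hSR]
      exact Subgroup.normal_subgroupOf
    · set K := Cfsg.pResidual p H
      have hKcard : Nat.card K ∣ q ^ a := by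
        have hco2 := Transfer.hasNormalPComplement_iff_coprime.mp (h2 H hH)
        have h6 : Nat.card K ∣ Nat.card R * R.index := by
          rw [R.card_mul_index]
          exact (Subgroup.card_subgroup_dvd_card _).trans (Subgroup.card_subgroup_dvd_card _)
        rw [hb] at h6
        exact ((hco2.pow_right b).dvd_of_dvd_mul_left h6).trans hidx
      have hSK : (S : Subgroup H) ≤ K := by
        intro x hx
        obtain ⟨k, hk⟩ := IsPGroup.iff_orderOf.mp S.2 ⟨x, hx⟩
        refine Transfer.mem_pResidual_of_coprime ?_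
        rw [Subgroup.orderOf_mk] at hk
        rw [hk]
        exact Nat.Coprime.pow_left k ((Nat.coprime_primes hrp Fact.out).mpr hrp')
      by_cases hrq : r = q
      · subst hrq
        have hKS : (S : Subgroup H) = K := by
          obtain ⟨c, -, hc⟩ := (Nat.dvd_prime_pow hq).mp hKcard
          exact (S.3 (IsPGroup.of_card hc) hSK).symm
        rw [hKS]
        exact Transfer.pResidual_normal
      · have hS1 : (S : Subgroup H) = ⊥ := by
          rw [← Subgroup.card_eq_one]
          obtain ⟨c, hc⟩ := IsPGroup.iff_card.mp S.2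
          have hd := (Subgroup.card_dvd_of_le hSK).trans hKcard
          refine Nat.eq_one_of_dvd_coprimes ?_ dvd_rfl hd
          rw [hc]
          exact Nat.Coprime.pow c a ((Nat.coprime_primes hrp hq).mpr hrq)
        rw [hS1]
        exact Subgroup.normal_bot
  · have hall := (Group.isNilpotent_of_finite_tfae (G := G).out 0 3).mp hnil
    obtain ⟨Q, hQ⟩ := (IsPGroup.of_card (n := a) (p := q) (G := Subgroup.zpowers y)
      (by rw [Nat.card_zpowers, ha])).exists_le_sylow
    have hQn : (Q : Subgroup G).Normal := hall q ⟨hq⟩ Q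
    obtain ⟨c, hc⟩ := IsPGroup.iff_card.mp Q.2
    have hdisj : Disjoint R (Q : Subgroup G) := Subgroup.disjoint_of_coprime_natCard
      (by rw [hb, hc]; exact Nat.Coprime.pow b c ((Nat.coprime_primes Fact.out hq).mpr hqp.symm))
    exact hyc (Subgroup.mem_centralizer_iff.mpr fun r hr =>
      (Subgroup.commute_of_normal_of_disjoint R Q hRn hQn hdisj r y hr (hQ (Subgroup.mem_zpowers y))).eq)

end Cfsg.Agent.S0132
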