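import Cfsg.Statements.S0577
import Cfsg.Agent.Lib.Coprime.Frattini
import Cfsg.Agent.Lib.PGroup.Basic

set_option autoImplicit false
open Cfsg
open scoped commutatorElement

namespace Cfsg.Agent.S0577

/-- In a nilpotent group elements of coprime order commute. -/
theorem commute_of_coprime_aux (G : Type*) [Group G] [Group.IsNilpotent G] :
    ∀ x y : G, (orderOf x).Coprime (orderOf y) → Commute x y := by
  refine nilpotent_center_quotient_ind (P := fun H [Group H] [Group.IsNilpotent H] =>
    ∀ x y : H, (orderOf x).Coprime (orderOf y) → Commute x y) G ?_ ?_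
  · intro H _ _ x y _; exact Subsingleton.elim _ _
  · intro G _ _ ih
    intro x y hxy
    set π := QuotientGroup.mk' (Subgroup.center G)
    have hπ : Commute (π x) (π y) := ih _ _
      ((hxy.coprime_dvd_left (orderOf_map_dvd π x)).coprime_dvd_right (orderOf_map_dvd π y))
    have hc : ⁅x, y⁆ ∈ Subgroup.center G := by
      rw [← QuotientGroup.eq_one_iff, ← QuotientGroup.mk'_apply, map_commutatorElement,
        commutatorElement_eq_one_iff_commute]
      exact hπ
    have hcc : ∀ g : G, Commute ⁅x, y⁆ g := fun g => (Subgroup.mem_center_iff.mp hc g).symm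
    have h1 : ⁅x, y⁆ ^ orderOf x = 1 := by
      have he : y * x * y⁻¹ = ⁅x, y⁆⁻¹ * x := by rw [commutatorElement_def]; group
      have := congrArg (· ^ orderOf x) he
      simp only [conj_pow, pow_orderOf_eq_one, mul_one, mul_inv_cancel, (hcc x).inv_left.mul_pow,
        inv_pow] at this
      exact inv_eq_one.mp this.symm
    have h2 : ⁅x, y⁆ ^ orderOf y = 1 := by
      have he : x * y * x⁻¹ = ⁅x, y⁆ * y := by rw [commutatorElement_def]; group
      have := congrArg (· ^ orderOf y) he
      simp only [conj_pow, pow_orderOf_eq_one, mul_one, mul_inv_cancel, (hcc y).mul_pow] at this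
      exact this.symm
    have h3 := pow_gcd_eq_one.mpr ⟨h1, h2⟩
    rw [hxy, pow_one] at h3
    exact commutatorElement_eq_one_iff_commute.mp h3

theorem commute_of_coprime {G : Type*} [Group G] {L : Subgroup G} (hL : Group.IsNilpotent L)
    {x y : G} (hx : x ∈ L) (hy : y ∈ L) (h : (orderOf x).Coprime (orderOf y)) : Commute x y := by
  have := commute_of_coprime_aux L ⟨x, hx⟩ ⟨y, hy⟩ (by rwa [Subgroup.orderOf_mk, Subgroup.orderOf_mk])
  exact congrArg Subtype.val this.eq

/-- Let G be a finite minimal non-nilpotent group and Q a normal Sylow q-subgroup of G, and let D be the commutator subgroup of Q regarded in G (a normal subgroup). Then G modulo D is non-abelian and all its proper subgroups are abelian. -/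
theorem result {G : Type*} [Group G] [Finite G] (hG : Cfsg.IsMinimalNonNilpotent G) (q : ℕ) [Fact q.Prime] (hq : q ∣ Nat.card G) (Q : Sylow q G) (hQ : (Q : Subgroup G).Normal) (D : Subgroup G) [D.Normal] (hD : D = (commutator ↥(Q : Subgroup G)).map (Q : Subgroup G).subtype) : ¬ IsMulCommutative (G ⧸ D) ∧ ∀ K : Subgroup (G ⧸ D), K ≠ ⊤ → IsMulCommutative K := by
  classical
  haveI := hQ
  obtain ⟨hnn, hmin⟩ := hG
  set Qs : Subgroup G := (Q : Subgroup G) with hQs
  obtain ⟨K, hK⟩ := Subgroup.exists_right_complement'_of_coprime (N := Qs) Q.card_coprime_index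
  have hKcard : Nat.card K = Qs.index := hK.symm.index_eq_card.symm
  have hcopK : (Nat.card K).Coprime (Nat.card Qs) := hKcard ▸ Q.card_coprime_index.symm
  have hQK : ∀ g : G, ∃ a ∈ Qs, ∃ b ∈ K, g = a * b := fun g => by
    obtain ⟨⟨a, b⟩, hab⟩ := hK.2 g
    exact ⟨a, a.2, b, b.2, hab.symm⟩
  have hQne : Qs ≠ ⊥ := Q.ne_bot_of_dvd_card hq
  have hKtop : K ≠ ⊤ := fun e => hQne (Subgroup.card_eq_one.mp (by
    have h1 := hK.card_mul_card
    rw [e, Subgroup.card_top] at h1
    have h0 : 0 < Nat.card G := Nat.card_pos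
    exact Nat.eq_of_mul_eq_mul_right h0 (h1.trans (one_mul _).symm)))
  have hnc : ¬ K ≤ Subgroup.centralizer (Qs : Set G) := by
    intro hc
    apply hnn
    have hQnil : Group.IsNilpotent Qs := Q.isPGroup'.isNilpotent
    have hKnil : Group.IsNilpotent K := hmin K hKtop
    let f : Qs × K →* G :=
      { toFun := fun z => (z.1 : G) * z.2
        map_one' := by simp
        map_mul' := fun z w => by
          have hcm : (w.1 : G) * z.2 = (z.2 : G) * w.1 :=
            Subgroup.mem_centralizer_iff.mp (hc z.2.2) _ w.1.2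
          simp only [Prod.fst_mul, Prod.snd_mul, Subgroup.coe_mul]
          rw [mul_assoc, ← mul_assoc (w.1 : G), hcm, mul_assoc, ← mul_assoc] }
    exact Group.nilpotent_of_surjective (G := Qs × K) f fun g => by
      obtain ⟨a, ha, b, hb, rfl⟩ := hQK g
      exact ⟨(⟨a, ha⟩, ⟨b, hb⟩), rfl⟩
  have hDQ : D ≤ Qs := hD ▸ Subgroup.map_subtype_le _
  set π := QuotientGroup.mk' D with hπ
  refine ⟨fun hab => hnc ?_, ?_⟩
  · refine Cfsg.Agent.Coprime.le_centralizer_of_forall_mem_frattini ?_ ?_ ?_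
    · rw [Subgroup.normalizer_eq_top_iff.mpr hQ]; exact le_top
    · exact hcopK.coprime_dvd_right (Subgroup.card_subgroup_dvd_card (frattini Qs))
    · intro a ha k hk
      have hmem : a * k * a⁻¹ * k⁻¹ ∈ D := by
        rw [← commutatorElement_def, ← QuotientGroup.eq_one_iff, ← QuotientGroup.mk'_apply,
          map_commutatorElement, commutatorElement_eq_one_iff_mul_comm]
        exact hab.is_comm.comm _ _
      rw [hD] at hmem
      exact Subgroup.map_mono (Cfsg.Agent.PGroup.commutator_le_frattini Q.isPGroup') hmem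
  obtain ⟨c, hc, hKc⟩ : ∃ c ∈ K, K = Subgroup.zpowers c := by
    by_contra hcon
    push Not at hcon
    refine hnc fun x hx => ?_
    have hne : Qs ⊔ Subgroup.zpowers x ≠ ⊤ := by
      intro e
      refine hcon x hx (le_antisymm ?_ (Subgroup.zpowers_le.mpr hx))
      intro k hk
      obtain ⟨a, ha, b, hb, hab⟩ := Subgroup.mem_sup_of_normal_left.mp
        (show k ∈ Qs ⊔ Subgroup.zpowers x by rw [e]; trivial)
      have hbK : b ∈ K := Subgroup.zpowers_le.mpr hx hb
      have ha1 : a ∈ Qs ⊓ K := ⟨ha, by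
        rw [eq_mul_inv_of_mul_eq hab]; exact K.mul_mem hk (K.inv_mem hbK)⟩
      rw [hK.disjoint.eq_bot, Subgroup.mem_bot] at ha1
      rw [← hab, ha1, one_mul]
      exact hb
    refine Subgroup.mem_centralizer_iff.mpr fun a ha => ?_
    refine commute_of_coprime (hmin _ hne) (Subgroup.mem_sup_left ha)
      (Subgroup.mem_sup_right (Subgroup.mem_zpowers x)) ?_
    exact ((hcopK.coprime_dvd_left (Subgroup.orderOf_dvd_natCard _ hx)).coprime_dvd_right
      (Subgroup.orderOf_dvd_natCard _ ha)).symm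
  intro L hL
  have hLtop : L.comap π ≠ ⊤ := fun e => hL (by
    rw [← Subgroup.map_comap_eq_self_of_surjective (QuotientGroup.mk'_surjective D) L, ← hπ, e,
      Subgroup.map_top_of_surjective _ (QuotientGroup.mk'_surjective D)])
  have hnil := hmin _ hLtop
  set L' := L.comap π with hL'
  have hcop : ∀ a ∈ Qs, ∀ b : G, ¬ q ∣ orderOf b → (orderOf a).Coprime (orderOf b) := by
    intro a ha b hb
    obtain ⟨k, hk⟩ := IsPGroup.iff_orderOf.mp Q.isPGroup' ⟨a, ha⟩
    rw [Subgroup.orderOf_mk] at hk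
    rw [hk]
    exact ((Fact.out : q.Prime).coprime_iff_not_dvd.mpr hb).pow_left k
  have hdecomp : ∀ z ∈ L', ∃ s t : G, s ∈ Qs ∧ ¬ q ∣ orderOf t ∧ s ∈ L' ∧ t ∈ L' ∧ z = s * t := by
    intro z hz
    obtain ⟨r, m, hm, hrm⟩ := Nat.exists_eq_pow_mul_and_not_dvd (orderOf_pos z).ne' q
      (Fact.out : q.Prime).ne_one
    have hgcd : (q ^ r).Coprime m := ((Fact.out : q.Prime).coprime_iff_not_dvd.mpr hm).pow_left r
    have hb := Nat.gcd_eq_gcd_ab (q ^ r) m
    rw [hgcd] at hb
    refine ⟨(z ^ m) ^ Nat.gcdB (q ^ r) m, (z ^ (q ^ r)) ^ Nat.gcdA (q ^ r) m, ?_, ?_,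
      zpow_mem (pow_mem hz m) _, zpow_mem (pow_mem hz _) _, ?_⟩
    · refine zpow_mem ?_ _
      have hp : IsPGroup q (Subgroup.zpowers (z ^ m)) := by
        refine IsPGroup.of_card (n := r) ?_
        rw [Nat.card_zpowers, orderOf_pow' _ (fun e => hm (by rw [e]; exact dvd_zero q)), hrm,
          Nat.gcd_eq_right (dvd_mul_left m _), Nat.mul_div_left _ (Nat.pos_of_ne_zero fun e => hm (by rw [e]; exact dvd_zero q))]
      obtain ⟨P', hP'⟩ := hp.exists_le_sylow
      haveI := Sylow.unique_of_normal Q hQ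
      rw [Subsingleton.elim P' Q] at hP'
      exact hP' (Subgroup.mem_zpowers _)
    · intro hd
      refine hm (hd.trans ?_)
      rw [orderOf_dvd_iff_pow_eq_one, ← zpow_natCast, zpow_comm, zpow_natCast, ← pow_mul, ← hrm,
        pow_orderOf_eq_one, one_zpow]
    · conv_lhs => rw [← zpow_one z, ← Nat.cast_one, hb, add_comm]
      rw [zpow_add, zpow_mul, zpow_mul, zpow_natCast, zpow_natCast]
  refine ⟨⟨fun u v => Subtype.ext ?_⟩⟩
  obtain ⟨x, hx⟩ := QuotientGroup.mk'_surjective D u.1
  obtain ⟨y, hy⟩ := QuotientGroup.mk'_surjective D v.1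
  have hxL : x ∈ L' := by rw [hL', Subgroup.mem_comap, hπ, hx]; exact u.2
  have hyL : y ∈ L' := by rw [hL', Subgroup.mem_comap, hπ, hy]; exact v.2
  obtain ⟨xq, x', hxq, hx', hxqL, hx'L, rfl⟩ := hdecomp x hxL
  obtain ⟨yq, y', hyq, hy', hyqL, hy'L, rfl⟩ := hdecomp y hyL
  rw [Subgroup.coe_mul, Subgroup.coe_mul, ← hx, ← hy, ← hπ]
  have c1 : Commute (π xq) (π yq) := by
    rw [← commutatorElement_eq_one_iff_commute, ← map_commutatorElement, hπ,
      QuotientGroup.mk'_apply, QuotientGroup.eq_one_iff, hD]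
    exact ⟨⁅(⟨xq, hxq⟩ : Qs), ⟨yq, hyq⟩⁆,
      Subgroup.commutator_mem_commutator (Subgroup.mem_top _) (Subgroup.mem_top _), rfl⟩
  have c2 : Commute xq y' := commute_of_coprime hnil hxqL hy'L (hcop _ hxq _ hy')
  have c3 : Commute x' yq := (commute_of_coprime hnil hyqL hx'L (hcop _ hyq _ hx')).symm
  have c4 : Commute x' y' := by
    have hcQ : ⁅x', y'⁆ ∈ Qs := by
      rw [← QuotientGroup.eq_one_iff, ← QuotientGroup.mk'_apply, map_commutatorElement,
        commutatorElement_eq_one_iff_commute]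
      have hgen : ∀ g : G, ∃ i : ℤ, QuotientGroup.mk' Qs g = QuotientGroup.mk' Qs c ^ i := by
        intro g
        obtain ⟨a, ha, b, hb, rfl⟩ := hQK g
        rw [hKc] at hb
        obtain ⟨i, rfl⟩ := hb
        exact ⟨i, by rw [map_mul, map_zpow, show QuotientGroup.mk' Qs a = 1 from
          (QuotientGroup.eq_one_iff a).mpr ha, one_mul]⟩
      obtain ⟨i, hi⟩ := hgen x'
      obtain ⟨j, hj⟩ := hgen y'
      rw [hi, hj]
      exact (Commute.refl _).zpow_zpow i j
    have hcL : ⁅x', y'⁆ ∈ L' := by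
      rw [commutatorElement_def]
      exact mul_mem (mul_mem (mul_mem hx'L hy'L) (inv_mem hx'L)) (inv_mem hy'L)
    have hcy : Commute ⁅x', y'⁆ y' := commute_of_coprime hnil hcL hy'L (hcop _ hcQ _ hy')
    have hpow : ⁅x', y'⁆ ^ orderOf y' = 1 := by
      have he : x' * y' * x'⁻¹ = ⁅x', y'⁆ * y' := by rw [commutatorElement_def]; group
      have := congrArg (· ^ orderOf y') he
      simp only [conj_pow, pow_orderOf_eq_one, mul_one, mul_inv_cancel, hcy.mul_pow] at this
      exact this.symm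
    have hone : orderOf ⁅x', y'⁆ = 1 :=
      Nat.eq_one_of_dvd_coprimes (hcop _ hcQ _ hy') dvd_rfl (orderOf_dvd_of_pow_eq_one hpow)
    exact commutatorElement_eq_one_iff_commute.mp (orderOf_eq_one_iff.mp hone)
  rw [map_mul, map_mul]
  exact Commute.mul_left (Commute.mul_right c1 (c2.map π)) (Commute.mul_right (c3.map π) (c4.map π))

end Cfsg.Agent.S0577
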