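import Cfsg.Statements.S0495
import Cfsg.Agent.Lib.SmallOrders.PSLPrimeInst
import Cfsg.Agent.Lib.SmallOrders.Order168

set_option autoImplicit false
open Cfsg

namespace Cfsg.Agent.S0495

theorem not_commute {H : Type*} [Group H] [Finite H] [IsSimpleGroup H]
    (h : Nat.card H = 7 * 3 * (7 + 1)) (t m : H) (ht : orderOf t = 2) (hm : orderOf m = 3) :
    t * m ≠ m * t := by
  intro hc
  have := Fact.mk (show Nat.Prime 7 by norm_num)
  have := Fact.mk Nat.prime_three
  have := Fact.mk Nat.prime_two
  have hd := SmallOrders.orderOf_dvd_of_centralizer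
    (SmallOrders.S168.centralizer_three (h.trans (by norm_num)) hm) hc
  rw [ht] at hd
  norm_num at hd

/-- A simple group of order 168 is isomorphic to the projective special linear group of dimension 2 over the field with
7 elements. -/
theorem result {G : Type*} [Group G] [Finite G] [IsSimpleGroup G]
    (h : Nat.card G = 168) {F : Type*} [Field F] [Fintype F] (hF : Fintype.card F = 7) :
    Nonempty (G ≃* Matrix.ProjectiveSpecialLinearGroup (Fin 2) F) := by
  have := Fact.mk (show Nat.Prime 7 by norm_num)
  exact SmallOrders.PSLPrime.mulEquiv_psl 3 2 3 [7, 6, 3, 2, 5, 4, 1, 0] true (by decide +kernel) (by decide +kernel)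
    (by norm_num) (by norm_num) (by norm_num) hF (h.trans (by norm_num))
    (fun _ hs hH => @S0495.not_commute _ _ _ hs hH) (fun _ => S0495.not_commute (h.trans (by norm_num)))

end Cfsg.Agent.S0495
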