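import Cfsg.Statements.S3331
import Cfsg.Agent.Lib.SelfCentThree.Reduce
import Cfsg.Agent.Lib.Linear.PSLTwoSmall
import Cfsg.Agent.S3050
import Cfsg.Agent.S0494
import Cfsg.Agent.S0495

set_option autoImplicit false
open Cfsg

namespace Cfsg.Agent.S3331

open Subgroup SelfCentThree

theorem exists_slTwo_four : ∃ (K : Type) (_ : Field K) (_ : Fintype K), Fintype.card K = 2 ^ 2 ∧
    Nonempty (Matrix.SpecialLinearGroup (Fin 2) K ≃* alternatingGroup (Fin 5)) := by
  have : Fact (Nat.Prime 2) := ⟨Nat.prime_two⟩
  let K := GaloisField 2 2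
  letI : Fintype K := Fintype.ofFinite K
  have hK : Nat.card K = 4 := GaloisField.card 2 2 two_ne_zero
  refine ⟨K, inferInstance, inferInstance, by rw [← Nat.card_eq_fintype_card, hK]; norm_num, ?_⟩
  obtain ⟨e⟩ := Linear.nonempty_pslTwo_four hK
  have hS : Nat.card (Matrix.SpecialLinearGroup (Fin 2) K) = 60 := by
    rw [GLOrder.card_SL_two, hK]; norm_num
  have hP : Nat.card (Matrix.ProjectiveSpecialLinearGroup (Fin 2) K) = 60 := by
    rw [GLOrder.card_PSL_two, hK]; norm_num
  have hbij := (Nat.bijective_iff_surjective_and_card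
    (QuotientGroup.mk' (Subgroup.center (Matrix.SpecialLinearGroup (Fin 2) K)))).2
    ⟨QuotientGroup.mk'_surjective _, hS.trans hP.symm⟩
  exact ⟨(MulEquiv.ofBijective _ hbij).trans e⟩

theorem main {G : Type*} [Group G] [Finite G] {x : G} (hx : SC x) :
    (∃ (N : Subgroup G) (hN : N.Normal), Group.IsNilpotent N ∧ (Nat.card N).Coprime 3 ∧
        (Nat.card (G ⧸ N) = 3 ∨ Nonempty (G ⧸ N ≃* Equiv.Perm (Fin 3)))) ∨
    (∃ (N : Subgroup G) (hN : N.Normal), IsMulCommutative N ∧ (∀ n ∈ N, n ^ 2 = 1) ∧
        Nonempty (G ⧸ N ≃* alternatingGroup (Fin 5))) ∨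
    Nonempty (G ≃* Matrix.ProjectiveSpecialLinearGroup (Fin 2) (ZMod 7)) := by
  have hp := Nat.prime_three
  have := Fact.mk hp
  have hC := centralizer_eq_zpowers hx
  have hX : Nat.card (zpowers x) = 3 := by rw [Nat.card_zpowers, hx.ord]
  by_cases he : (zpowers x).relIndex (normalizer (zpowers x : Set G)) = 1
  · obtain ⟨hi, h3⟩ := SelfCentPrime.commutator_of_abelian_normalizer hp hx.ord hC he
    exact Or.inl ⟨commutator G, inferInstance, core_nilpotent hx _ h3,
      (hp.coprime_iff_not_dvd.mpr h3).symm, Or.inl hi⟩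
  have he2 : (zpowers x).relIndex (normalizer (zpowers x : Set G)) = 2 := by
    have h := SelfCentPrime.card_classes_mul hp hx.ord hC
    have hd : (zpowers x).relIndex (normalizer (zpowers x : Set G)) ∣ 2 := Dvd.intro_left _ h
    exact ((Nat.dvd_prime Nat.prime_two).mp hd).resolve_left he
  have hNcard : Nat.card (normalizer (zpowers x : Set G)) = 6 := by
    have h := card_mul_index ((zpowers x).subgroupOf (normalizer (zpowers x : Set G)))
    rw [Nat.card_congr (subgroupOfEquivOfLe le_normalizer).toEquiv, hX] at h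
    change 3 * (zpowers x).relIndex (normalizer (zpowers x : Set G)) = _ at h
    rw [he2] at h
    exact h.symm
  set O := Cfsg.pPrimeCore 3 G with hOdef
  have hOn : O.Normal := SelfCentPrime.pPrimeCore_normal 3 G
  have hO3 : ¬ 3 ∣ Nat.card O := SelfCentPrime.not_dvd_card_pPrimeCore hp hx.ord hC
  have hinj := SelfCentPrime.injective_normalizer_quotient hp hx.ord hC hO3
  have hd := SelfCentPrime.dvd_card_commutator hp hx.ord hC he
  have hOL : O ≤ commutator G := SelfCentPrime.pPrimeCore_le_commutator hp hx.ord hC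
  have hOLn : (O.subgroupOf (commutator G)).Normal := inferInstance
  have hsimp := SelfCentPrime.isSimpleGroup_derived_mod_core hp hx.ord hC he
  by_cases hab : IsMulCommutative (↥(commutator G) ⧸ O.subgroupOf (commutator G))
  · let : CommGroup (↥(commutator G) ⧸ O.subgroupOf (commutator G)) :=
      { (inferInstance : Group (↥(commutator G) ⧸ O.subgroupOf (commutator G))) with
        mul_comm := fun a b => mul_comm' a b }
    have hpr : (O.relIndex (commutator G)).Prime := IsSimpleGroup.prime_card
    have hmul : Nat.card O * O.relIndex (commutator G) = Nat.card (commutator G) := by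
      rw [← Nat.card_congr (subgroupOfEquivOfLe hOL).toEquiv]
      exact card_mul_index _
    have hq : O.relIndex (commutator G) = 3 := by
      have h : 3 ∣ O.relIndex (commutator G) := (hp.dvd_mul.mp (hmul ▸ hd)).resolve_left hO3
      exact ((Nat.prime_dvd_prime_iff_eq hp hpr).mp h).symm
    have hLi := SelfCentPrime.index_commutator_dvd hp hx.ord hC he
    rw [he2] at hLi
    have hOi : O.index = 3 * (commutator G).index := by rw [← relIndex_mul_index hOL, hq]
    have hge : 6 ≤ O.index := hNcard ▸ Nat.le_of_dvd Nat.card_pos (card_dvd_of_injective _ hinj)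
    have hO6 : O.index = 6 := by
      have := Nat.le_of_dvd two_pos hLi
      omega
    have hbij := (Nat.bijective_iff_injective_and_card _).2 ⟨hinj, hNcard.trans hO6.symm⟩
    obtain ⟨eN⟩ : Nonempty (normalizer (zpowers x : Set G) ≃* Equiv.Perm (Fin 3)) := by
      have : Fact (Nat.Prime 2) := ⟨Nat.prime_two⟩
      set N := normalizer (zpowers x : Set G)
      obtain ⟨τ, hτ⟩ := exists_prime_orderOf_dvd_card' (G := N) 2
        (by rw [hNcard]; norm_num)
      have hT : Nat.card (zpowers τ) = 2 := by rw [Nat.card_zpowers, hτ]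
      have hcore : (zpowers τ).normalCore = ⊥ := by
        rcases (Nat.dvd_prime Nat.prime_two).mp (hT ▸ card_dvd_of_le (zpowers τ).normalCore_le) with h | h
        · exact eq_bot_of_card_eq _ h
        · exfalso
          have heq := eq_of_le_of_card_ge (zpowers τ).normalCore_le (by rw [h, hT])
          have hn : (zpowers τ).Normal := heq ▸ normalCore_normal _
          let xN : N := ⟨x, le_normalizer (mem_zpowers x)⟩
          obtain ⟨i, hi⟩ := mem_zpowers_iff.mp (hn.conj_mem τ (mem_zpowers τ) xN)
          rw [← zpow_mod_orderOf, hτ] at hi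
          have hc : (xN * τ * xN⁻¹ : N) = τ := by
            rcases Int.emod_two_eq_zero_or_one i with e | e
            · exfalso
              rw [show ((2 : ℕ) : ℤ) = 2 from rfl, e, zpow_zero, eq_comm, conj_eq_one_iff] at hi
              rw [hi, orderOf_one] at hτ
              omega
            · rw [show ((2 : ℕ) : ℤ) = 2 from rfl, e, zpow_one] at hi
              exact hi.symm
          have hmem : (τ : G) ∈ zpowers x :=
            hx.cent _ (congrArg Subtype.val (mul_inv_eq_iff_eq_mul.mp hc)).symm
          have h2 := orderOf_dvd_of_mem_zpowers hmem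
          rw [hx.ord, Subgroup.orderOf_coe, hτ] at h2
          omega
      have hcard3 : Nat.card (N ⧸ zpowers τ) = 3 := by
        have h := (zpowers τ).card_mul_index
        rw [hT, hNcard] at h
        show (zpowers τ).index = 3
        omega
      have hinj' : Function.Injective (MulAction.toPermHom N (N ⧸ zpowers τ)) := by
        rw [← MonoidHom.ker_eq_bot_iff, ← normalCore_eq_ker, hcore]
      exact Linear.nonempty_mulEquiv_perm
        ((Finite.equivFinOfCardEq hcard3).permCongrHom.toMonoidHom.comp (MulAction.toPermHom N (N ⧸ zpowers τ)))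
        ((Finite.equivFinOfCardEq hcard3).permCongrHom.injective.comp hinj') (by rw [hNcard]; rfl)
    exact Or.inl ⟨O, hOn, core_nilpotent hx O hO3, (hp.coprime_iff_not_dvd.mpr hO3).symm,
      Or.inr ⟨(MulEquiv.ofBijective _ hbij).symm.trans eN⟩⟩
  have hxL : x ∈ commutator G := SelfCentPrime.zpowers_le_of_dvd_card hp hx.ord hC hd (mem_zpowers x)
  let xL : commutator G := ⟨x, hxL⟩
  have hxLs : SC xL :=
    { ord := by rw [← Subgroup.orderOf_coe]; exact hx.ord
      cent := fun g hg => by
        obtain ⟨i, hi⟩ := mem_zpowers_iff.mp (hx.cent g (congrArg Subtype.val hg.eq))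
        exact mem_zpowers_iff.mpr ⟨i, Subtype.ext (by rw [SubgroupClass.coe_zpow]; exact hi)⟩ }
  have hOL3 : ¬ 3 ∣ Nat.card (O.subgroupOf (commutator G)) := by
    rwa [Nat.card_congr (subgroupOfEquivOfLe hOL).toEquiv]
  have heL : (zpowers xL).relIndex (normalizer (zpowers xL : Set (commutator G))) ≠ 1 := by
    intro h1
    obtain ⟨-, h3⟩ := SelfCentPrime.commutator_of_abelian_normalizer hp hxLs.ord
      (centralizer_eq_zpowers hxLs) h1
    have hle : commutator (commutator G) ≤ O.subgroupOf (commutator G) := by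
      intro g hg
      exact mem_subgroupOf.mpr (SelfCentPrime.le_pPrimeCore hp hx.ord hC
        (S := (commutator (commutator G)).map (commutator G).subtype)
        (by rwa [← Nat.card_congr (equivMapOfInjective _ _ (commutator G).subtype_injective).toEquiv])
        ⟨g, hg, rfl⟩)
    exact hab (Subgroup.Normal.quotient_commutative_iff_commutator_le.mpr hle)
  have hLtop : commutator G = ⊤ := by
    obtain ⟨n, hn, hnx⟩ := SetLike.not_le_iff_exists.mp fun h => heL (relIndex_eq_one.mpr h)
    have hnN : (n : G) ∈ normalizer (zpowers x : Set G) := by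
      refine (SelfCentPrime.conj_mem_iff hp hx.ord hC (mem_zpowers x) hx.ne_one).mp ?_
      obtain ⟨i, hi⟩ := mem_zpowers_iff.mp ((mem_normalizer_iff.mp hn xL).mp (mem_zpowers xL))
      exact mem_zpowers_iff.mpr ⟨i, by simpa [xL] using congrArg Subtype.val hi⟩
    have hnX : (n : G) ∉ zpowers x := fun h => hnx (by
      obtain ⟨i, hi⟩ := mem_zpowers_iff.mp h
      exact mem_zpowers_iff.mpr ⟨i, Subtype.ext (by simpa [xL] using hi)⟩)
    have hle : normalizer (zpowers x : Set G) ≤ commutator G := by
      have hrel : (commutator G).relIndex (normalizer (zpowers x : Set G)) = 1 := by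
        by_contra hne
        have hdd := relIndex_dvd_of_le_left (normalizer (zpowers x : Set G))
          (zpowers_le.mpr hxL : zpowers x ≤ commutator G)
        rw [he2] at hdd
        have h2 := ((Nat.dvd_prime Nat.prime_two).mp hdd).resolve_left hne
        -- the intersection is strictly between
        have hI : Nat.card ((commutator G).subgroupOf (normalizer (zpowers x : Set G))) = 3 := by
          have h := card_mul_index ((commutator G).subgroupOf (normalizer (zpowers x : Set G)))
          rw [show ((commutator G).subgroupOf (normalizer (zpowers x : Set G))).index = 2 from h2,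
            hNcard] at h
          omega
        have heq : (zpowers x).subgroupOf (normalizer (zpowers x : Set G)) =
            (commutator G).subgroupOf (normalizer (zpowers x : Set G)) :=
          eq_of_le_of_card_ge (fun g hg => mem_subgroupOf.mpr
              ((zpowers_le.mpr hxL : zpowers x ≤ commutator G) (mem_subgroupOf.mp hg)))
            (by rw [hI, Nat.card_congr (subgroupOfEquivOfLe le_normalizer).toEquiv, hX])
        have hmem : (⟨n, hnN⟩ : normalizer (zpowers x : Set G)) ∈
            (commutator G).subgroupOf (normalizer (zpowers x : Set G)) := mem_subgroupOf.mpr n.2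
        rw [← heq] at hmem
        exact hnX (mem_subgroupOf.mp hmem)
      exact relIndex_eq_one.mp hrel
    have h := SelfCentPrime.normalizer_sup_eq_top hp hx.ord hC hd
    rwa [sup_eq_right.mpr hle] at h
  -- the quotient by the core is simple
  let f : ↥(commutator G) ⧸ O.subgroupOf (commutator G) →* G ⧸ O :=
    QuotientGroup.map _ O (commutator G).subtype le_rfl
  have hf : Function.Surjective f := fun q => by
    induction q using QuotientGroup.induction_on with | H g => ?_
    exact ⟨QuotientGroup.mk ⟨g, hLtop ▸ mem_top g⟩, rfl⟩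
  have hf' : Function.Injective f := by
    rw [injective_iff_map_eq_one]
    intro q hq
    induction q using QuotientGroup.induction_on with | H g => ?_
    exact (QuotientGroup.eq_one_iff g).mpr (mem_subgroupOf.mpr ((QuotientGroup.eq_one_iff (g : G)).mp hq))
  let eQ := MulEquiv.ofBijective f ⟨hf', hf⟩
  have : IsSimpleGroup (G ⧸ O) := eQ.symm.isSimpleGroup
  have hna : ¬ IsMulCommutative (G ⧸ O) := fun hcm => hab
    ⟨⟨fun a b => eQ.injective (by rw [map_mul, map_mul]; exact hcm.is_comm.comm _ _)⟩⟩
  have hxq := hx.quotient hO3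
  obtain ⟨y, A, hy, hA, hAne, hA2⟩ := exists_four_simple hna hxq
  have hA3 : ∀ p : ℕ, p.Prime → p ≠ 2 → ¬ p ∣ Nat.card A := fun p hpp hp2 hd => by
    obtain ⟨k, hk⟩ := IsPGroup.iff_card.mp hA2
    rw [hk] at hd
    exact hp2 ((Nat.prime_dvd_prime_iff_eq hpp Nat.prime_two).mp (hpp.dvd_of_dvd_pow hd))
  have hodd : ∀ p : ℕ, p.Prime → p ∣ Nat.card O → p = 2 := fun p hpp hd => by
    by_contra hp2
    exact not_dvd_core hx hO3 hy hAne hA (hA3 3 hp (by norm_num)) hpp (hA3 p hpp hp2) hd
  rcases card_of_simple hna hxq with h60 | h168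
  · refine Or.inr (Or.inl ⟨O, hOn, ?_⟩)
    obtain ⟨K, _, _, hK, ⟨eK⟩⟩ := exists_slTwo_four
    obtain ⟨e5⟩ := S0494.result (G := G ⧸ O) h60
    have hO2 : IsPGroup 2 O := IsPGroup.of_card
      (Nat.eq_prime_pow_of_unique_prime_dvd Nat.card_pos.ne' fun {d} hd hdd => hodd d hd hdd)
    obtain ⟨hel, -⟩ := S3050.result O hO2 2 le_rfl K hK (e5.trans eK.symm) x hx.ord
      (fun q hq h => hx.eq_one_of_commute hO3 hq (mul_inv_eq_iff_eq_mul.mp h).symm)
    exact ⟨hel.1, hel.2, ⟨e5⟩⟩
  · refine Or.inr (Or.inr ?_)
    obtain ⟨y', R, hy', hR, hR7⟩ := exists_seven h168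
    have hO1 : Nat.card O = 1 := by
      by_contra hne
      obtain ⟨p, hpp, hd⟩ := Nat.exists_prime_and_dvd hne
      obtain rfl := hodd p hpp hd
      exact not_dvd_core hx hO3 hy' (fun h => by rw [h, card_bot] at hR7; omega) hR
        (by rw [hR7]; norm_num) hpp (by rw [hR7]; norm_num) hd
    have hOb : O = ⊥ := eq_bot_of_card_eq O hO1
    have : Fact (Nat.Prime 7) := ⟨by norm_num⟩
    obtain ⟨e7⟩ := S0495.result (G := G ⧸ O) h168 (F := ZMod 7) (ZMod.card 7)
    exact ⟨((QuotientGroup.quotientBot).symm.trans (QuotientGroup.quotientMulEquivOfEq hOb.symm)).trans e7⟩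

/-- Let G be a finite group containing a subgroup X of order 3 with C_G(X) = X. Then one of the following holds: G has a nilpotent normal subgroup N of order prime to 3 with G/N of order 3 or isomorphic to Sym(3); or G has an elementary abelian normal 2-subgroup N with G/N isomorphic to the alternating group of degree 5; or G is isomorphic to PSL(2,7). -/
theorem result {G : Type*} [Group G] [Finite G]
    (X : Subgroup G) (hX : Nat.card X = 3) (hC : Subgroup.centralizer (X : Set G) = X) :
    (∃ (N : Subgroup G) (hN : N.Normal), Group.IsNilpotent N ∧ (Nat.card N).Coprime 3 ∧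
        (Nat.card (G ⧸ N) = 3 ∨ Nonempty (G ⧸ N ≃* Equiv.Perm (Fin 3)))) ∨
    (∃ (N : Subgroup G) (hN : N.Normal), IsMulCommutative N ∧ (∀ n ∈ N, n ^ 2 = 1) ∧
        Nonempty (G ⧸ N ≃* alternatingGroup (Fin 5))) ∨
    Nonempty (G ≃* Matrix.ProjectiveSpecialLinearGroup (Fin 2) (ZMod 7)) := by
  obtain ⟨x, hx⟩ : ∃ x, zpowers x = X := by
    have : Fact (Nat.Prime 3) := ⟨Nat.prime_three⟩
    obtain ⟨g, hg⟩ := exists_prime_orderOf_dvd_card' (G := X) 3 (by rw [hX])
    refine ⟨g, eq_of_le_of_card_ge (zpowers_le.mpr g.2) ?_⟩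
    rw [hX, Nat.card_zpowers, Subgroup.orderOf_coe, hg]
  refine main (x := x) ⟨by rw [← Nat.card_zpowers, hx, hX], fun g hg => ?_⟩
  rw [hx, ← hC, ← hx]
  intro s hs
  obtain ⟨i, rfl⟩ := mem_zpowers_iff.mp hs
  exact (hg.zpow_right i).eq.symm

end Cfsg.Agent.S3331
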