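import Cfsg.Statements.S3341
import Cfsg.Agent.Lib.SelfCentNine.Chars
import Cfsg.Agent.S0497

set_option autoImplicit false
open Cfsg

namespace Cfsg.Agent.S3341

/-- Let G be a finite simple group whose Sylow 3-subgroup S is elementary abelian of order 9, such that G has more than one conjugacy class of elements of order 3 and C_G(s) = S for every non-identity s in S. Then G is isomorphic to the alternating group of degree 6. -/
theorem result {G : Type*} [Group G] [Finite G] [IsSimpleGroup G]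
    (P : Sylow 3 G) (S : Subgroup G) (hSP : S = P) (hcomm : IsMulCommutative S) (hexp : ∀ a ∈ S, a ^ 3 = 1)
    (hcard : Nat.card S = 9)
    (hclasses : ∃ a b : G, orderOf a = 3 ∧ orderOf b = 3 ∧ ∀ g : G, g * a * g⁻¹ ≠ b)
    (hcent : ∀ s ∈ S, s ≠ 1 → Subgroup.centralizer ({s} : Set G) = S) :
    Nonempty (G ≃* alternatingGroup (Fin 6)) := by
  have : Fact (Nat.Prime 3) := ⟨Nat.prime_three⟩
  have hsyl : ∀ g : G, g ^ 3 = 1 → ∃ c : G, c * g * c⁻¹ ∈ S := by
    intro g hg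
    have hp : IsPGroup 3 (Subgroup.zpowers g) := by
      obtain ⟨k, -, hk⟩ := (Nat.dvd_prime_pow Nat.prime_three).mp
        (orderOf_dvd_of_pow_eq_one (show g ^ 3 ^ 1 = 1 by simpa using hg))
      exact IsPGroup.of_card (n := k) (by rw [Nat.card_zpowers, hk])
    obtain ⟨Q, hQ⟩ := hp.exists_le_sylow
    obtain ⟨c, hc⟩ := MulAction.exists_smul_eq G Q P
    refine ⟨c, ?_⟩
    rw [hSP, ← hc]
    exact ⟨g, hQ (Subgroup.mem_zpowers g), rfl⟩
  have hS : SelfCentNine.Nine S := ⟨hcard, hexp, hcent, hsyl⟩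
  have hreal : ∀ p : G, p ^ 3 = 1 → IsConj p p⁻¹ := fun p hp => hS.isConj_inv P hSP hp
  obtain ⟨a, b, ha, hb, hab⟩ := hclasses
  have ha3 : a ^ 3 = 1 := ha ▸ pow_orderOf_eq_one a
  have hb3 : b ^ 3 = 1 := hb ▸ pow_orderOf_eq_one b
  obtain ⟨c, hc⟩ := hsyl a ha3
  obtain ⟨d, hd⟩ := hsyl b hb3
  have ha1 : c * a * c⁻¹ ≠ 1 := fun h => by
    rw [conj_eq_one_iff] at h
    rw [h, orderOf_one] at ha
    omega
  have hb1 : d * b * d⁻¹ ≠ 1 := fun h => by
    rw [conj_eq_one_iff] at h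
    rw [h, orderOf_one] at hb
    omega
  have hxy : ¬ IsConj (c * a * c⁻¹) (d * b * d⁻¹) := fun h => by
    obtain ⟨g, hg⟩ := isConj_iff.mp
      (((isConj_iff.mpr ⟨c, rfl⟩ : IsConj a (c * a * c⁻¹)).trans h).trans
        (isConj_iff.mpr ⟨d, rfl⟩ : IsConj b (d * b * d⁻¹)).symm)
    exact hab g hg
  exact S0497.result (SelfCentNine.card_of_two_classes hS hreal hc ha1 hd hb1 hxy
    (hS.two_le_fiber P hSP))

end Cfsg.Agent.S3341
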