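import Cfsg.Statements.S3701
import Cfsg.Agent.Lib.ThreeCubed.Model
import Cfsg.Agent.Lib.Char.Induced
import Cfsg.Agent.Lib.Char.Virtual
import Cfsg.Agent.Lib.Char.ClassMult
import Cfsg.Agent.Lib.Char.Eigen
import Cfsg.Agent.Lib.Coprime.Generation

set_option autoImplicit false
open Cfsg

namespace Cfsg.Agent.S3701

open Cfsg.Agent.ThreeCubed Equiv
open scoped Pointwise

variable {G : Type*} [Group G] {H T : Subgroup G}

/-- The coordinates of `H`, extended by `1`. -/
structure Coord (H T : Subgroup G) where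
  cc : G → Fin 3 → P3
  mul : ∀ g ∈ H, ∀ h ∈ H, cc (g * h) = cc g * cc h
  inj : ∀ g ∈ H, cc g = 1 → g = 1
  surj : ∀ p : Fin 3 → P3, ∏ i, Perm.sign (p i) = 1 → ∃ h ∈ H, cc h = p
  prod : ∀ g ∈ H, ∏ i, Perm.sign (cc g i) = 1
  memT : ∀ g, g ∈ T ↔ g ∈ H ∧ ∀ i, Perm.sign (cc g i) = 1
  normalizer_eq : Subgroup.normalizer (T : Set G) = H
  centralizer_le : ∀ t ∈ T, t ≠ 1 → Subgroup.centralizer ({t} : Set G) ≤ H

theorem exists_coord (e : H ≃* tripleSub) (hTH : T ≤ H) (hT : Nat.card T = 27)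
    (hN : Subgroup.normalizer (T : Set G) = H)
    (hC : ∀ t ∈ T, t ≠ 1 → Subgroup.centralizer ({t} : Set G) ≤ H) : Nonempty (Coord H T) := by
  classical
  let cc : G → Fin 3 → P3 := fun g => if h : g ∈ H then (e ⟨g, h⟩ : Fin 3 → P3) else 1
  have hcc : ∀ g (h : g ∈ H), cc g = (e ⟨g, h⟩ : Fin 3 → P3) := fun g h => dif_pos h
  let q : Fin 3 → (H →* ℤˣ) := fun i =>
    (Perm.sign.comp ((Pi.evalMonoidHom (fun _ : Fin 3 => P3) i).comp
      (tripleSub.subtype.comp e.toMonoidHom)))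
  let A0 : Subgroup H := ⨅ i, (q i).ker
  have hA0 : ∀ h : H, h ∈ A0 ↔ ∀ i, Perm.sign (cc h i) = 1 := by
    intro h
    simp only [A0, Subgroup.mem_iInf, MonoidHom.mem_ker, hcc h h.2]
    rfl
  have hle : T.subgroupOf H ≤ A0 := by
    intro h hh
    rw [hA0]
    intro i
    have h27 : h ^ 27 = 1 := by
      have := pow_card_eq_one' (G := T.subgroupOf H) (x := ⟨h, hh⟩)
      rw [Nat.card_congr (Subgroup.subgroupOfEquivOfLe hTH).toEquiv, hT] at this
      exact congrArg Subtype.val this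
    have : (q i) h ^ 27 = 1 := by rw [← map_pow, h27, map_one]
    rw [hcc h h.2]
    rcases Int.units_eq_one_or ((q i) h) with hu | hu
    · exact hu
    · rw [hu] at this; exact absurd this (by decide)
  have hcard : Nat.card A0 = 27 := by
    let f : A0 ≃ ((i : Fin 3) → {a : P3 // Perm.sign a = 1}) :=
      Equiv.ofBijective (fun h i => ⟨cc h.1 i, (hA0 h.1).1 h.2 i⟩) ⟨fun a b hab => by
        have : cc a.1 = cc b.1 := funext fun i => congrArg Subtype.val (congrFun hab i)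
        rw [hcc _ a.1.2, hcc _ b.1.2] at this
        exact Subtype.ext (e.injective (Subtype.ext this)),
        fun p => by
          obtain ⟨h, hh⟩ := e.surjective ⟨fun i => (p i).1, by
            simp [mem_tripleSub, fun i => (p i).2]⟩
          have hv : cc h = fun i => (p i).1 := by
            rw [hcc h h.2]; exact congrArg Subtype.val hh
          exact ⟨⟨h, (hA0 h).2 fun i => by rw [hv]; exact (p i).2⟩,
            funext fun i => Subtype.ext (by simp [hv])⟩⟩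
    rw [Nat.card_congr f, Nat.card_pi]
    have : Nat.card {a : P3 // Perm.sign a = 1} = 3 := by
      rw [Nat.card_eq_fintype_card]; decide
    simp only [this, Finset.prod_const, Finset.card_univ, Fintype.card_fin]
    norm_num
  have : Finite A0 := Nat.finite_of_card_ne_zero (by omega)
  have heq : T.subgroupOf H = A0 := Subgroup.eq_of_le_of_card_ge hle
    (by rw [hcard, Nat.card_congr (Subgroup.subgroupOfEquivOfLe hTH).toEquiv, hT])
  refine ⟨⟨cc, fun g hg h hh => ?_, fun g hg h1 => ?_, fun p hp => ?_, fun g hg => ?_,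
    fun g => ?_, hN, hC⟩⟩
  · rw [hcc g hg, hcc h hh, hcc _ (mul_mem hg hh)]
    exact congrArg Subtype.val (map_mul e ⟨g, hg⟩ ⟨h, hh⟩)
  · rw [hcc g hg] at h1
    have : (⟨g, hg⟩ : H) = 1 := e.injective ((Subtype.ext h1).trans (map_one e).symm)
    exact congrArg Subtype.val this
  · exact ⟨(e.symm ⟨p, hp⟩).1, (e.symm ⟨p, hp⟩).2, by rw [hcc _ (e.symm ⟨p, hp⟩).2]; simp⟩
  · rw [hcc g hg]; exact (mem_tripleSub _).1 (e ⟨g, hg⟩).2
  · constructor
    · intro hg
      exact ⟨hTH hg, (hA0 ⟨g, hTH hg⟩).1 (heq ▸ (Subgroup.mem_subgroupOf.2 hg))⟩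
    · rintro ⟨hg, hs⟩
      have := (hA0 ⟨g, hg⟩).2 hs
      rw [← heq] at this
      exact Subgroup.mem_subgroupOf.1 this

namespace Coord

variable (C : Coord H T)
include C

theorem one : C.cc 1 = 1 := by
  have := C.mul 1 H.one_mem 1 H.one_mem
  rw [mul_one] at this
  exact mul_eq_left.1 this.symm

theorem le : T ≤ H := fun g hg => ((C.memT g).1 hg).1

theorem inv {g : G} (hg : g ∈ H) : C.cc g⁻¹ = (C.cc g)⁻¹ := by
  rw [eq_inv_iff_mul_eq_one, ← C.mul _ (H.inv_mem hg) _ hg, inv_mul_cancel, C.one]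

theorem conj {g h : G} (hg : g ∈ H) (hh : h ∈ H) :
    C.cc (g * h * g⁻¹) = C.cc g * C.cc h * (C.cc g)⁻¹ := by
  rw [C.mul _ (mul_mem hg hh) _ (H.inv_mem hg), C.mul _ hg _ hh, C.inv hg]

theorem ext' {g h : G} (hg : g ∈ H) (hh : h ∈ H) (e : C.cc g = C.cc h) : g = h := by
  rw [← mul_inv_eq_one]
  exact C.inj _ (mul_mem hg (H.inv_mem hh)) (by rw [C.mul _ hg _ (H.inv_mem hh), C.inv hh, e, mul_inv_cancel])

theorem pow {g : G} (hg : g ∈ H) (n : ℕ) : C.cc (g ^ n) = C.cc g ^ n := by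
  induction n with
  | zero => simp [C.one]
  | succ n ih => rw [pow_succ, pow_succ, C.mul _ (pow_mem hg n) _ hg, ih]

theorem comm {s t : G} (hs : s ∈ T) (ht : t ∈ T) : s * t = t * s := by
  obtain ⟨hs1, hs2⟩ := (C.memT s).1 hs
  obtain ⟨ht1, ht2⟩ := (C.memT t).1 ht
  refine C.ext' (mul_mem hs1 ht1) (mul_mem ht1 hs1) ?_
  rw [C.mul _ hs1 _ ht1, C.mul _ ht1 _ hs1]
  funext i
  exact comm_of_sign _ _ (hs2 i) (ht2 i)

theorem cube {t : G} (ht : t ∈ T) : t ^ 3 = 1 := by
  obtain ⟨ht1, ht2⟩ := (C.memT t).1 ht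
  refine C.inj _ (pow_mem ht1 3) ?_
  rw [C.pow ht1]
  funext i
  simpa [pow_succ] using cube_of_sign _ (ht2 i)

theorem mem_T_of_pow {h : G} (hh : h ∈ H) {n : ℕ} (hn : h ^ 3 ^ n = 1) : h ∈ T := by
  refine (C.memT h).2 ⟨hh, fun i => ?_⟩
  rcases Int.units_eq_one_or (Perm.sign (C.cc h i)) with hu | hu
  · exact hu
  · have := congrArg (fun p : Fin 3 → P3 => Perm.sign (p i)) (C.pow hh (3 ^ n))
    simp only [hn, C.one, Pi.one_apply, map_one, Pi.pow_apply, map_pow, hu] at this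
    rw [Odd.neg_one_pow (Odd.pow (by decide))] at this
    exact absurd this (by decide)

theorem ti {t g : G} (ht : t ∈ T) (ht1 : t ≠ 1) (h : g * t * g⁻¹ ∈ T) : g ∈ H := by
  have hne : g * t * g⁻¹ ≠ 1 := by simpa using ht1
  have key : ∀ s ∈ T, g * s * g⁻¹ ∈ T := by
    intro s hs
    have h1 : g * s * g⁻¹ ∈ H := C.centralizer_le _ h hne
      (Subgroup.mem_centralizer_singleton_iff.2 (by
        calc g * s * g⁻¹ * (g * t * g⁻¹) = g * (s * t) * g⁻¹ := by group
          _ = g * (t * s) * g⁻¹ := by rw [C.comm hs ht]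
          _ = _ := by group))
    exact C.mem_T_of_pow h1 (n := 1) (by rw [pow_one, conj_pow, C.cube hs]; group)
  rw [← C.normalizer_eq]
  refine Subgroup.mem_normalizer_iff.2 fun s => ⟨key s, fun hs => ?_⟩
  have hfin : Finite T := by
    have : Finite ((Fin 3 → P3)) := inferInstance
    exact Finite.of_injective (fun x : T => C.cc x.1) fun a b hab =>
      Subtype.ext (C.ext' (C.le a.2) (C.le b.2) hab)
  obtain ⟨⟨s', hs'⟩, he⟩ := (Finite.injective_iff_surjective
    (f := fun x : T => (⟨g * x * g⁻¹, key x x.2⟩ : T))).1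
      (fun a b hab => Subtype.ext (by simpa using congrArg Subtype.val hab)) ⟨_, hs⟩
  have : g * s' * g⁻¹ = g * s * g⁻¹ := congrArg Subtype.val he
  simp only [mul_left_inj, mul_right_inj] at this
  exact this ▸ hs'

theorem pgroup_le [Finite G] {P : Subgroup G} (hP : IsPGroup 3 P) {t : G} (htP : t ∈ P)
    (ht : t ∈ T) (ht1 : t ≠ 1) : P ≤ T := by
  have : Fact (Nat.Prime 3) := ⟨Nat.prime_three⟩
  have : Nontrivial P := ⟨⟨⟨t, htP⟩, 1, fun h => ht1 (congrArg Subtype.val h)⟩⟩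
  have := IsPGroup.center_nontrivial hP
  obtain ⟨⟨z, hz⟩, hz1⟩ := exists_ne (1 : Subgroup.center P)
  have hzc : ∀ x ∈ P, x * (z : G) = z * x := fun x hx =>
    congrArg Subtype.val (Subgroup.mem_center_iff.1 hz ⟨x, hx⟩)
  have hpow : ∀ x ∈ P, ∃ n, x ^ 3 ^ n = 1 := fun x hx => by
    obtain ⟨n, hn⟩ := hP ⟨x, hx⟩
    exact ⟨n, by simpa using congrArg Subtype.val hn⟩
  have hzH : (z : G) ∈ H :=
    C.centralizer_le t ht ht1 (Subgroup.mem_centralizer_singleton_iff.2 (hzc t htP).symm)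
  obtain ⟨n, hn⟩ := hpow _ z.2
  have hzT : (z : G) ∈ T := C.mem_T_of_pow hzH hn
  have hz1' : (z : G) ≠ 1 := fun h => hz1 (Subtype.ext (Subtype.ext h))
  intro x hx
  obtain ⟨m, hm⟩ := hpow x hx
  exact C.mem_T_of_pow
    (C.centralizer_le _ hzT hz1' (Subgroup.mem_centralizer_singleton_iff.2 (hzc x hx))) hm

theorem conj_into [Finite G] (M : Subgroup G) {t y : G} (htM : t ∈ M) (ht : t ∈ T) (ht1 : t ≠ 1)
    (hy : y ∈ M) (hy3 : y ^ 3 = 1) : ∃ z ∈ M, z * y * z⁻¹ ∈ T := by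
  have : Fact (Nat.Prime 3) := ⟨Nat.prime_three⟩
  have hp : ∀ a : M, a ^ 3 = 1 → IsPGroup 3 (Subgroup.zpowers a) := fun a ha => by
    intro x
    obtain ⟨i, hi⟩ := Subgroup.mem_zpowers_iff.1 x.2
    refine ⟨1, Subtype.ext ?_⟩
    rw [pow_one, Subgroup.coe_pow, ← hi, ← zpow_natCast, ← zpow_mul, mul_comm, zpow_mul,
      zpow_natCast, ha, one_zpow]
    rfl
  obtain ⟨Q, hQ⟩ := (hp ⟨t, htM⟩ (Subtype.ext (by simpa using C.cube ht))).exists_le_sylow
  obtain ⟨R, hR⟩ := (hp ⟨y, hy⟩ (Subtype.ext (by simpa using hy3))).exists_le_sylow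
  obtain ⟨z, hz⟩ := MulAction.exists_smul_eq M R Q
  have hsub : (Q : Subgroup M).map M.subtype ≤ T :=
    C.pgroup_le (Q.isPGroup'.map _) ⟨⟨t, htM⟩, hQ (Subgroup.mem_zpowers _), rfl⟩ ht ht1
  refine ⟨z, z.2, hsub ⟨z * ⟨y, hy⟩ * z⁻¹, ?_, rfl⟩⟩
  rw [← hz]
  exact Subgroup.smul_mem_pointwise_smul _ (MulAut.conj z) _ (hR (Subgroup.mem_zpowers _))

theorem exists_single (k : Fin 3) : ∃ f ∈ T, f ≠ 1 ∧ C.cc f = Pi.mulSingle k rot := by
  have hs : ∀ i, Perm.sign ((Pi.mulSingle k rot : Fin 3 → P3) i) = 1 := by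
    intro i
    rcases eq_or_ne i k with rfl | h
    · rw [Pi.mulSingle_eq_same, sign_rot]
    · rw [Pi.mulSingle_eq_of_ne h, map_one]
  obtain ⟨f, hf, hcf⟩ := C.surj (Pi.mulSingle k rot) (by simp [hs])
  refine ⟨f, (C.memT f).2 ⟨hf, fun i => by rw [hcf]; exact hs i⟩, fun h => rot_ne_one ?_, hcf⟩
  have := congrFun hcf k
  rwa [h, C.one, Pi.mulSingle_eq_same, Pi.one_apply, eq_comm] at this

theorem exists_involution (k : Fin 3) :
    ∃ v ∈ H, C.cc v k = 1 ∧ v * v = 1 ∧ ∀ i, i ≠ k → Perm.sign (C.cc v i) = -1 := by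
  obtain ⟨v, hv, hcv⟩ := C.surj (fun i => if i = k then 1 else swp) (by revert k; decide)
  refine ⟨v, hv, by rw [hcv]; simp, C.inj _ (mul_mem hv hv) ?_, fun i hi => ?_⟩
  · rw [C.mul _ hv _ hv, hcv]
    funext i
    by_cases h : i = k <;> simp [h, swp]
  · rw [hcv]; simp [hi, sign_swp]

theorem fusion [Finite G] {k : Fin 3} {v u x : G} (hv : v ∈ H) (hvk : C.cc v k = 1) (hv2 : v * v = 1)
    (hvi : ∀ i, i ≠ k → Perm.sign (C.cc v i) = -1) (hu : u ∈ H) (hxu : x * v * x⁻¹ = u) :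
    C.cc u k = 1 := by
  by_contra huk
  have hu2 : u * u = 1 := by
    rw [← hxu, show x * v * x⁻¹ * (x * v * x⁻¹) = x * (v * v) * x⁻¹ by group, hv2]; group
  have hsq : ∀ i, C.cc u i * C.cc u i = 1 := fun i => by
    rw [← Pi.mul_apply, ← C.mul _ hu _ hu, hu2, C.one, Pi.one_apply]
  have hne : u ≠ 1 := by
    intro h
    obtain ⟨i, hi⟩ : ∃ i, i ≠ k := exists_ne k
    have hv1 : v = 1 := by rw [← hxu] at h; simpa using h
    have := hvi i hi
    rw [hv1, C.one] at this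
    exact absurd this (by simp)
  obtain ⟨j, hj⟩ : ∃ j, Perm.sign (C.cc u j) = 1 := by
    by_contra hno
    push Not at hno
    have h := C.prod u hu
    have : ∀ i, Perm.sign (C.cc u i) = -1 := fun i =>
      (Int.units_eq_one_or _).resolve_left (hno i)
    simp [this] at h
    exact absurd h (by decide)
  have hj1 : C.cc u j = 1 := eq_one_of_sq _ hj (hsq j)
  obtain ⟨fk, hfk, hfk1, hcfk⟩ := C.exists_single k
  obtain ⟨fj, hfj, hfj1, hcfj⟩ := C.exists_single j
  have hcomm : fk * v = v * fk := by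
    refine C.ext' (mul_mem (C.le hfk) hv) (mul_mem hv (C.le hfk)) ?_
    rw [C.mul _ (C.le hfk) _ hv, C.mul _ hv _ (C.le hfk), hcfk]
    funext i
    rcases eq_or_ne i k with rfl | h
    · simp [hvk]
    · simp [Pi.mulSingle_eq_of_ne h]
  have hcomm' : fj * u = u * fj := by
    refine C.ext' (mul_mem (C.le hfj) hu) (mul_mem hu (C.le hfj)) ?_
    rw [C.mul _ (C.le hfj) _ hu, C.mul _ hu _ (C.le hfj), hcfj]
    funext i
    rcases eq_or_ne i j with rfl | h
    · simp [hj1]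
    · simp [Pi.mulSingle_eq_of_ne h]
  obtain ⟨z, hz, hzy⟩ := C.conj_into (Subgroup.centralizer {u}) (t := fj) (y := x * fk * x⁻¹)
    (Subgroup.mem_centralizer_singleton_iff.2 hcomm') hfj hfj1
    (Subgroup.mem_centralizer_singleton_iff.2 (by
      rw [← hxu]
      calc x * fk * x⁻¹ * (x * v * x⁻¹) = x * (fk * v) * x⁻¹ := by group
        _ = x * (v * fk) * x⁻¹ := by rw [hcomm]
        _ = _ := by group))
    (by rw [conj_pow, C.cube hfk]; group)
  have hg : z * x ∈ H := C.ti hfk hfk1 (by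
    have e : z * x * fk * (z * x)⁻¹ = z * (x * fk * x⁻¹) * z⁻¹ := by group
    rw [e]; exact hzy)
  have huv : z * x * v * (z * x)⁻¹ = u := by
    rw [show z * x * v * (z * x)⁻¹ = z * (x * v * x⁻¹) * z⁻¹ by group, hxu,
      Subgroup.mem_centralizer_singleton_iff.1 hz]
    group
  apply huk
  rw [← huv, C.conj hg hv]
  simp [hvk]

end Coord

open Cfsg.Agent.Char

theorem exists_charKer [Finite G] {χ : G → ℂ} (hχ : IsCharacter G χ) :
    ∃ N : Subgroup G, N.Normal ∧ ∀ g, g ∈ N ↔ χ g = χ 1 := by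
  obtain ⟨n, ρ, rfl⟩ := hχ
  refine ⟨MonoidHom.ker ρ, inferInstance, fun g => ?_⟩
  rw [MonoidHom.mem_ker, Representation.char_one, character_eq_finrank_iff]
  rfl

theorem kernel_identity {n m x y : ℂ} (hn : n ≠ 0) (hm : m ≠ 0) (h1 : 1 + n + m = 0)
    (h2 : 1 + x + y = 0) (h3 : 1 + x * x / n + y * y / m = 0) : x = n ∧ y = m := by
  have em : m = -1 - n := by linear_combination h1
  have ey : y = -1 - x := by linear_combination h2
  subst em ey
  field_simp at h3
  have : (x - n) * (x - n) = 0 := by linear_combination -h3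
  have hx : x = n := sub_eq_zero.1 (mul_self_eq_zero.1 this)
  exact ⟨hx, by rw [hx]⟩

/-- For each coordinate there is a normal subgroup meeting `T` in the other two coordinates. -/
theorem Coord.exists_normal [Finite G] (C : Coord H T) (k : Fin 3) :
    ∃ N : Subgroup G, N.Normal ∧ (∀ t ∈ T, t ∈ N → C.cc t k = 1) ∧
      ∀ t ∈ T, C.cc t k = 1 → t ∈ N := by
  classical
  have := Fintype.ofFinite G
  have := Fintype.ofFinite (IrrCharacter G)
  obtain ⟨v, hv, hvk, hv2, hvi⟩ := C.exists_involution k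
  let A : Subgroup G :=
    { carrier := {g | g ∈ H ∧ Perm.sign (C.cc g k) = 1}
      one_mem' := ⟨H.one_mem, by simp [C.one]⟩
      mul_mem' := fun {a b} ha hb =>
        ⟨mul_mem ha.1 hb.1, by simp [C.mul _ ha.1 _ hb.1, ha.2, hb.2]⟩
      inv_mem' := fun {a} ha => ⟨H.inv_mem ha.1, by simp [C.inv ha.1, ha.2]⟩ }
  have hmemA : ∀ g, g ∈ A ↔ g ∈ H ∧ Perm.sign (C.cc g k) = 1 := fun g => Iff.rfl
  obtain ⟨ζ, hζ⟩ : ∃ z : ℂ, IsPrimitiveRoot z 3 := ⟨_, Complex.isPrimitiveRoot_exp 3 (by norm_num)⟩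
  have hζ3 : ζ ^ 3 = 1 := hζ.pow_eq_one
  have hζs : 1 + ζ + ζ ^ 2 = 0 := by
    have := hζ.geom_sum_eq_zero (by norm_num)
    simpa [Finset.sum_range_succ] using this
  let φ : P3 → ℂ := fun a => if a = 1 then 1 else if a = rot then ζ else ζ ^ 2
  have hrr : rot * rot ≠ 1 ∧ rot * rot ≠ rot := by decide
  have hφ1 : φ 1 = 1 := by simp [φ]
  have hφr : φ rot = ζ := by simp [φ, rot_ne_one]
  have hφr2 : φ (rot * rot) = ζ ^ 2 := by simp [φ, hrr.1, hrr.2]
  have hφm : ∀ a b : P3, Perm.sign a = 1 → Perm.sign b = 1 → φ (a * b) = φ a * φ b := by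
    intro a b ha hb
    rcases three_cases a ha with rfl | rfl | rfl <;> rcases three_cases b hb with rfl | rfl | rfl
    · simp [hφ1]
    · simp [hφ1]
    · simp [hφ1]
    · simp [hφ1]
    · rw [hφr2, hφr]; ring
    · rw [← mul_assoc, rot_cube, hφ1, hφr, hφr2]; linear_combination -hζ3
    · simp [hφ1]
    · rw [rot_cube, hφ1, hφr, hφr2]; linear_combination -hζ3
    · rw [show rot * rot * (rot * rot) = rot by decide, hφr, hφr2]; linear_combination -ζ * hζ3
  have hφi : ∀ a : P3, Perm.sign a = 1 → a ≠ 1 → (1 - φ a) + (1 - φ a⁻¹) = 3 := by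
    intro a ha h1
    rcases three_cases a ha with rfl | rfl | rfl
    · exact absurd rfl h1
    · rw [show rot⁻¹ = rot * rot by decide, hφr, hφr2]; linear_combination -hζs
    · rw [show (rot * rot)⁻¹ = rot by decide, hφr, hφr2]; linear_combination -hζs
  let ω : A →* ℂ :=
    { toFun := fun a => φ (C.cc a.1 k)
      map_one' := by simp [C.one, hφ1]
      map_mul' := fun a b => by
        rw [Subgroup.coe_mul, C.mul _ a.2.1 _ b.2.1, Pi.mul_apply, hφm _ _ a.2.2 b.2.2] }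
  let θ : A → ℂ := fun a => 1 - ω a
  have hθ0 : ∀ a : A, C.cc a.1 k = 1 → θ a = 0 := fun a ha => by simp [θ, ω, ha, hφ1]
  have := Fintype.ofFinite A
  have hsum : ∑ a : A, θ a = (Nat.card A : ℂ) := by
    obtain ⟨f, hf, -, hcf⟩ := C.exists_single k
    have hfA : f ∈ A := ⟨C.le hf, ((C.memT f).1 hf).2 k⟩
    have hz : ∑ a : A, ω a = 0 := by
      have hωf : ω ⟨f, hfA⟩ = ζ := by simp [ω, hcf, hφr]
      have e : ∑ a : A, ω a = ζ * ∑ a : A, ω a := by
        rw [← hωf, Finset.mul_sum]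
        exact Fintype.sum_equiv (Equiv.mulLeft (⟨f, hfA⟩ : A)⁻¹) _ _ fun a => by
          rw [← map_mul]; simp
      have hne : (1 : ℂ) - ζ ≠ 0 := sub_ne_zero.2 (Ne.symm (hζ.ne_one (by norm_num)))
      exact (mul_eq_zero.1 (show (1 - ζ) * ∑ a : A, ω a = 0 by linear_combination e)).resolve_left hne
    simp [θ, Finset.sum_sub_distrib, hz, Nat.card_eq_fintype_card]
  have hA0 : (Nat.card A : ℂ) ≠ 0 := Nat.cast_ne_zero.2 Nat.card_pos.ne'
  have hidx : Nat.card H = 2 * Nat.card A := by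
    let s : H →* ℤˣ :=
      { toFun := fun h => Perm.sign (C.cc h.1 k)
        map_one' := by simp [C.one]
        map_mul' := fun a b => by simp [C.mul _ a.2 _ b.2] }
    obtain ⟨i, hi⟩ : ∃ i, i ≠ k := exists_ne k
    obtain ⟨w, hw, -, -, hwi⟩ := C.exists_involution i
    have hs : Function.Surjective s := by
      intro u
      rcases Int.units_eq_one_or u with rfl | rfl
      · exact ⟨1, map_one s⟩
      · exact ⟨⟨w, hw⟩, hwi k hi.symm⟩
    have e : A.subgroupOf H = s.ker := by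
      ext h; simp [Subgroup.mem_subgroupOf, hmemA, s]
    rw [← Subgroup.index_mul_card (A.subgroupOf H),
      Nat.card_congr (Subgroup.subgroupOfEquivOfLe (fun g hg => ((hmemA g).1 hg).1)).toEquiv,
      e, Subgroup.index_ker, MonoidHom.range_eq_top.2 hs]
    congr 1
    simp [Nat.card_eq_fintype_card]
  let F : G → ℂ := indFun A θ
  have hFcl : IsClassFunction G F := indFun_isClassFunction A θ
  have hFne : ∀ g, F g ≠ 0 → ∃ x, x⁻¹ * g * x ∈ A ∧ C.cc (x⁻¹ * g * x) k ≠ 1 := by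
    intro g hg
    by_contra hno
    push Not at hno
    apply hg
    show indFun A θ g = 0
    unfold indFun
    rw [Finset.sum_eq_zero fun x _ => ?_, mul_zero]
    rw [extendByZero_eq]
    split_ifs with h
    · exact hθ0 _ (hno x h)
    · rfl
  have hfour : ∀ a ∈ A, C.cc a k ≠ 1 → a ^ 4 ∈ T ∧ a ^ 4 ≠ 1 := by
    rintro a ⟨haH, hak⟩ ha1
    have key : C.cc (a ^ 4) k = C.cc a k := by
      rw [C.pow haH, Pi.pow_apply]
      have := cube_of_sign _ hak
      rw [pow_succ, pow_succ, pow_two, this, one_mul]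
    refine ⟨(C.memT _).2 ⟨pow_mem haH 4, fun i => ?_⟩, fun h => ha1 ?_⟩
    · rw [C.pow haH, Pi.pow_apply, map_pow]
      rcases Int.units_eq_one_or (Perm.sign (C.cc a i)) with hu | hu <;> rw [hu] <;> decide
    · rw [← key, h, C.one, Pi.one_apply]
  have hFA : ∀ a ∈ A, C.cc a k ≠ 1 → F a = 3 := by
    intro a ha ha1
    obtain ⟨haH, hak⟩ := (hmemA a).1 ha
    have hout : ∀ x : G, x ∉ H → extendByZero A θ (x⁻¹ * a * x) = 0 := by
      intro x hx
      rw [extendByZero_eq]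
      split_ifs with h
      · by_contra hne
        have h1 : C.cc (x⁻¹ * a * x) k ≠ 1 := fun e => hne (hθ0 _ e)
        obtain ⟨h4, h40⟩ := hfour _ h h1
        refine hx (C.ti h4 h40 ?_)
        have e : x * (x⁻¹ * a * x) ^ 4 * x⁻¹ = a ^ 4 := by
          rw [show x⁻¹ * a * x = x⁻¹ * a * (x⁻¹)⁻¹ by group, conj_pow]; group
        rw [e]; exact (hfour a ha ha1).1
      · rfl
    have hconj : ∀ x ∈ H, C.cc (x⁻¹ * a * x) k =
        if Perm.sign (C.cc x k) = 1 then C.cc a k else (C.cc a k)⁻¹ := fun x hx => by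
      rw [C.mul _ (mul_mem (H.inv_mem hx) haH) _ hx, C.mul _ (H.inv_mem hx) _ haH, C.inv hx]
      exact conj_eq _ _ hak
    obtain ⟨i, hi⟩ : ∃ i, i ≠ k := exists_ne k
    obtain ⟨w, hw, -, -, hwi⟩ := C.exists_involution i
    have hwk : Perm.sign (C.cc w k) = -1 := hwi k hi.symm
    let f : H → ℂ := fun x => extendByZero A θ ((x : G)⁻¹ * a * x)
    have hf : ∀ x : H, f x = 1 - φ (if Perm.sign (C.cc x k) = 1 then C.cc a k else (C.cc a k)⁻¹) := by
      intro x
      have hmem : (x : G)⁻¹ * a * x ∈ A := by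
        refine ⟨mul_mem (mul_mem (H.inv_mem x.2) haH) x.2, ?_⟩
        rw [hconj x x.2]
        split_ifs <;> simp [hak]
      show extendByZero A θ _ = _
      rw [extendByZero_mem A θ hmem]
      simp [θ, ω, hconj x x.2]
    have hpair : ∀ x : H, f x + f (x * ⟨w, hw⟩) = 3 := by
      intro x
      rw [hf, hf, Subgroup.coe_mul, C.mul _ x.2 _ hw]
      simp only [Pi.mul_apply, map_mul, hwk]
      rcases Int.units_eq_one_or (Perm.sign (C.cc x k)) with hu | hu <;> rw [hu]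
      · simpa using hφi _ hak ha1
      · simpa [add_comm] using hφi _ hak ha1
    have hS : ∑ x : H, f x = (Nat.card A : ℂ) * 3 := by
      have e : ∑ x : H, f (x * ⟨w, hw⟩) = ∑ x : H, f x :=
        Fintype.sum_equiv (Equiv.mulRight (⟨w, hw⟩ : H)) _ _ fun x => rfl
      have := Finset.sum_congr rfl fun x (_ : x ∈ (Finset.univ : Finset H)) => hpair x
      rw [Finset.sum_add_distrib, e, Finset.sum_const, Finset.card_univ,
        ← Nat.card_eq_fintype_card, hidx, nsmul_eq_mul] at this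
      push_cast at this
      linear_combination this / 2
    show indFun A θ a = 3
    unfold indFun
    rw [← Finset.sum_filter_add_sum_filter_not Finset.univ (· ∈ H),
      Finset.sum_eq_zero (s := Finset.univ.filter fun x => ¬ x ∈ H) fun x hx =>
        hout x (Finset.mem_filter.1 hx).2, add_zero,
      Finset.sum_subtype (p := (· ∈ H)) _ (fun x => by simp)
        (fun x => extendByZero A θ (x⁻¹ * a * x))]
    show (Nat.card A : ℂ)⁻¹ * ∑ x : H, f x = 3
    rw [hS]; field_simp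
  have hgen : IsGeneralizedCharacter G F := by
    refine IsGeneralizedCharacter.indFun (H := A) ⟨1, ω, isCharacter_one, isCharacter_of_hom ω, ?_⟩
    rfl
  have hone : classInner F (1 : G → ℂ) = 1 := by
    rw [frobenius_reciprocity A θ (IsCharacter.isClassFunction isCharacter_one), classInner]
    simp [hsum]
  have hnorm : classInner F F = 3 := by
    rw [frobenius_reciprocity A θ hFcl, classInner]
    have e : ∀ a : A, θ a * (starRingEnd ℂ) (indFun A θ a) = θ a * 3 := by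
      intro a
      by_cases h : C.cc a.1 k = 1
      · rw [hθ0 a h, zero_mul, zero_mul]
      · rw [show indFun A θ a = 3 from hFA a a.2 h, map_ofNat]
    rw [Finset.sum_congr rfl fun a _ => e a, ← Finset.sum_mul, hsum]
    field_simp
  obtain ⟨m, hm, hmi, hmn⟩ := IsGeneralizedCharacter.exists_coeffs hgen
  have hF1 : F 1 = 0 := by
    show indFun A θ 1 = 0
    rw [indFun_one_apply, hθ0 1 (by simp [C.one]), mul_zero]
  have hFv : F v = 0 := by
    by_contra h
    obtain ⟨x, hxA, hx1⟩ := hFne v h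
    refine hx1 (eq_one_of_sq _ hxA.2 ?_)
    rw [← Pi.mul_apply, ← C.mul _ hxA.1 _ hxA.1,
      show x⁻¹ * v * x * (x⁻¹ * v * x) = x⁻¹ * (v * v) * x by group, hv2]
    simp [C.one]
  -- pairs of conjugates of `v` never multiply into the support of `F`
  have hpairs : ∀ g, F g ≠ 0 →
      Nat.card {p : G × G // IsConj v p.1 ∧ IsConj v p.2 ∧ p.1 * p.2 = g} = 0 := by
    intro g hg
    rw [Nat.card_eq_zero]
    refine Or.inl ⟨?_⟩
    rintro ⟨⟨u₀, w₀⟩, hu₀, hw₀, rfl⟩
    obtain ⟨x, hxA, hx1⟩ := hFne _ hg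
    obtain ⟨y, rfl⟩ := isConj_iff.1 hu₀
    obtain ⟨z, rfl⟩ := isConj_iff.1 hw₀
    let u := x⁻¹ * y * v * (x⁻¹ * y)⁻¹
    let w := x⁻¹ * z * v * (x⁻¹ * z)⁻¹
    have ht : x⁻¹ * (y * v * y⁻¹ * (z * v * z⁻¹)) * x = u * w := by simp only [u, w]; group
    rw [ht] at hxA hx1
    have hu2 : u * u = 1 := by
      rw [show u * u = x⁻¹ * y * (v * v) * (x⁻¹ * y)⁻¹ by simp only [u]; group, hv2]; group
    have hw2 : w * w = 1 := by
      rw [show w * w = x⁻¹ * z * (v * v) * (x⁻¹ * z)⁻¹ by simp only [w]; group, hv2]; group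
    have hinv : u * (u * w) * u⁻¹ = (u * w)⁻¹ := by
      rw [← mul_assoc, hu2, one_mul]
      conv_rhs => rw [mul_inv_rev, inv_eq_of_mul_eq_one_right hw2]
    obtain ⟨h4, h40⟩ := hfour _ hxA hx1
    have huH : u ∈ H := C.ti h4 h40 (by
      rw [← conj_pow, hinv, inv_pow]; exact T.inv_mem h4)
    have hwH : w ∈ H := by
      have : w = u⁻¹ * (u * w) := by group
      rw [this]; exact mul_mem (H.inv_mem huH) hxA.1
    apply hx1
    rw [C.mul _ huH _ hwH, Pi.mul_apply, C.fusion hv hvk hv2 hvi huH rfl,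
      C.fusion hv hvk hv2 hvi hwH rfl, mul_one]
  have hrel : ∑ χ : IrrCharacter G, (m χ : ℂ) *
      ((χ : G → ℂ) v * (χ : G → ℂ) v / (χ : G → ℂ) 1) = 0 := by
    have h0 : ∀ g, F g * (Nat.card {p : G × G // IsConj v p.1 ∧ IsConj v p.2 ∧ p.1 * p.2 = g} : ℂ) = 0 := by
      intro g
      by_cases hg : F g = 0
      · rw [hg, zero_mul]
      · rw [hpairs g hg]; simp
    have h1 : ∑ g, F g * ∑ χ : IrrCharacter G,
        (χ : G → ℂ) v * (χ : G → ℂ) v * (starRingEnd ℂ) ((χ : G → ℂ) g) / (χ : G → ℂ) 1 = 0 := by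
      refine Finset.sum_eq_zero fun g _ => ?_
      have := h0 g
      rw [class_mult_formula v v g] at this
      have hc : (Nat.card {x : G // IsConj v x} : ℂ) ≠ 0 := by
        have : Nonempty {x : G // IsConj v x} := ⟨⟨v, IsConj.refl v⟩⟩
        exact Nat.cast_ne_zero.2 Nat.card_pos.ne'
      have hG : (Nat.card G : ℂ) ≠ 0 := Nat.cast_ne_zero.2 Nat.card_pos.ne'
      rcases mul_eq_zero.1 this with h | h
      · rw [h, zero_mul]
      · exact mul_eq_zero_of_right _ ((mul_eq_zero.1 h).resolve_left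
          (div_ne_zero (mul_ne_zero hc hc) hG))
    simp only [Finset.mul_sum] at h1
    rw [Finset.sum_comm] at h1
    have h2 : ∀ χ : IrrCharacter G, ∑ g, F g * ((χ : G → ℂ) v * (χ : G → ℂ) v *
        (starRingEnd ℂ) ((χ : G → ℂ) g) / (χ : G → ℂ) 1) =
        (Nat.card G : ℂ) * ((m χ : ℂ) * ((χ : G → ℂ) v * (χ : G → ℂ) v / (χ : G → ℂ) 1)) := by
      intro χ
      rw [← hmi χ, ← mul_assoc, card_mul_classInner, Finset.sum_mul]
      exact Finset.sum_congr rfl fun g _ => by ring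
    rw [Finset.sum_congr rfl fun χ _ => h2 χ, ← Finset.mul_sum] at h1
    exact (mul_eq_zero.1 h1).resolve_left (Nat.cast_ne_zero.2 Nat.card_pos.ne')
  let triv : IrrCharacter G := ⟨1, isIrrCharacter_one⟩
  have hmt : m triv = 1 := by
    have := hmi triv
    rw [show ((triv : IrrCharacter G) : G → ℂ) = 1 from rfl, hone] at this
    exact_mod_cast this.symm
  have hsum3 : ∑ χ, m χ ^ 2 = 3 := by rw [hnorm] at hmn; exact_mod_cast hmn.symm
  let S : Finset (IrrCharacter G) := (Finset.univ.erase triv).filter (fun χ => m χ ≠ 0)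
  have hS2 : ∑ χ ∈ S, m χ ^ 2 = 2 := by
    have e := Finset.add_sum_erase Finset.univ (fun χ => m χ ^ 2) (Finset.mem_univ triv)
    have e2 : ∑ χ ∈ S, m χ ^ 2 = ∑ χ ∈ Finset.univ.erase triv, m χ ^ 2 :=
      Finset.sum_filter_of_ne fun χ _ h h0 => h (by simp [h0])
    simp only [hsum3, hmt] at e
    omega
  have hge : ∀ χ ∈ S, 1 ≤ m χ ^ 2 := fun χ hχ => by
    have := sq_pos_of_ne_zero (Finset.mem_filter.1 hχ).2
    omega
  have hcardS : S.card = 2 := by
    have h := Finset.card_nsmul_le_sum S (fun χ => m χ ^ 2) 1 hge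
    rw [nsmul_one, hS2] at h
    have h' : S.card ≤ 2 := by exact_mod_cast h
    rcases (by omega : S.card = 0 ∨ S.card = 1 ∨ S.card = 2) with h0 | h0 | h0
    · rw [Finset.card_eq_zero.1 h0] at hS2; simp at hS2
    · obtain ⟨a, ha⟩ := Finset.card_eq_one.1 h0
      rw [ha, Finset.sum_singleton] at hS2
      have h1 : -2 < m a := by nlinarith
      have h2 : m a < 2 := by nlinarith
      interval_cases m a <;> omega
    · exact h0
  obtain ⟨a, b, hab, hSab⟩ := Finset.card_eq_two.1 hcardS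
  rw [hSab, Finset.sum_pair hab] at hS2
  have haS : a ∈ S := by rw [hSab]; simp
  have hbS : b ∈ S := by rw [hSab]; simp
  have ha2 : m a ^ 2 = 1 := by have := hge a haS; have := hge b hbS; omega
  have hb2 : m b ^ 2 = 1 := by omega
  have hexp : ∀ f : IrrCharacter G → ℂ,
      ∑ χ, (m χ : ℂ) * f χ = f triv + ((m a : ℂ) * f a + (m b : ℂ) * f b) := by
    intro f
    rw [← Finset.add_sum_erase Finset.univ _ (Finset.mem_univ triv), hmt, Int.cast_one, one_mul]
    congr 1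
    rw [← Finset.sum_filter_of_ne (p := fun χ => m χ ≠ 0) (fun χ _ h h0 => h (by simp [h0]))]
    show ∑ χ ∈ S, _ = _
    rw [hSab, Finset.sum_pair hab]
  have hval : ∀ g, F g = 1 + ((m a : ℂ) * (a : G → ℂ) g + (m b : ℂ) * (b : G → ℂ) g) := by
    intro g
    rw [show (1 : ℂ) = ((triv : IrrCharacter G) : G → ℂ) g from rfl,
      ← hexp fun χ => (χ : G → ℂ) g]
    conv_lhs => rw [hm]
    simp [Finset.sum_apply]
  have hea : (m a : ℂ) * (m a : ℂ) = 1 := by exact_mod_cast (by rw [← sq]; exact ha2)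
  have heb : (m b : ℂ) * (m b : ℂ) = 1 := by exact_mod_cast (by rw [← sq]; exact hb2)
  have han : (a : G → ℂ) 1 ≠ 0 := IsIrrCharacter.apply_one_ne_zero a.2
  have hbn : (b : G → ℂ) 1 ≠ 0 := IsIrrCharacter.apply_one_ne_zero b.2
  have hma : (m a : ℂ) ≠ 0 := left_ne_zero_of_mul_eq_one hea
  have hmb : (m b : ℂ) ≠ 0 := left_ne_zero_of_mul_eq_one heb
  obtain ⟨hav, hbv⟩ := kernel_identity (mul_ne_zero hma han) (mul_ne_zero hmb hbn)
    (by have := hval 1; rw [hF1] at this; linear_combination -this)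
    (x := (m a : ℂ) * (a : G → ℂ) v) (y := (m b : ℂ) * (b : G → ℂ) v)
    (by have := hval v; rw [hFv] at this; linear_combination -this)
    (by
      rw [hexp] at hrel
      have e : ∀ (e n z : ℂ), e * e = 1 → n ≠ 0 → e * (z * z / n) = e * z * (e * z) / (e * n) := by
        intro e n z he hn
        have : e ≠ 0 := left_ne_zero_of_mul_eq_one he
        field_simp
      rw [e _ _ _ hea han, e _ _ _ heb hbn] at hrel
      simp only [triv, Pi.one_apply] at hrel
      linear_combination hrel)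
  have hav' : (a : G → ℂ) v = (a : G → ℂ) 1 := mul_left_cancel₀ hma hav
  have hbv' : (b : G → ℂ) v = (b : G → ℂ) 1 := mul_left_cancel₀ hmb hbv
  obtain ⟨Na, hNa, hNa'⟩ := exists_charKer (IsIrrCharacter.isCharacter a.2)
  obtain ⟨Nb, hNb, hNb'⟩ := exists_charKer (IsIrrCharacter.isCharacter b.2)
  have hvN : v ∈ Na ⊓ Nb := ⟨(hNa' v).2 hav', (hNb' v).2 hbv'⟩
  refine ⟨Na ⊓ Nb, inferInstance, fun t ht htN => ?_, fun t ht htk => ?_⟩
  · by_contra htk
    have h3 := hFA t ⟨C.le ht, ((C.memT t).1 ht).2 k⟩ htk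
    rw [hval, (hNa' t).1 htN.1, (hNb' t).1 htN.2, ← hval, hF1] at h3
    norm_num at h3
  · have htH := C.le ht
    have e : t = v * t * v⁻¹ * t⁻¹ := by
      refine C.ext' htH (mul_mem (mul_mem (mul_mem hv htH) (H.inv_mem hv)) (H.inv_mem htH)) ?_
      rw [C.mul _ (mul_mem (mul_mem hv htH) (H.inv_mem hv)) _ (H.inv_mem htH), C.conj hv htH,
        C.inv htH]
      funext i
      rcases eq_or_ne i k with rfl | hi
      · simp [htk, hvk]
      · exact (comm_trick _ _ (hvi i hi) (((C.memT t).1 ht).2 i)).symm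
    rw [e, mul_assoc, mul_assoc]
    refine mul_mem hvN ?_
    rw [← mul_assoc]
    exact Subgroup.Normal.conj_mem inferInstance _ ((Na ⊓ Nb).inv_mem hvN) t

theorem Coord.eq_top [Finite G] (C : Coord H T) : H = ⊤ := by
  classical
  have : Fact (Nat.Prime 3) := ⟨Nat.prime_three⟩
  choose N hNn hN1 hN2 using fun k => C.exists_normal k
  let K : Subgroup G := ⨅ k, N k
  have : K.Normal := Subgroup.normal_iInf_normal hNn
  have hKT : ∀ t ∈ T, t ∈ K → t = 1 := fun t ht htK =>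
    C.inj t (C.le ht) (funext fun k => hN1 k t ht (Subgroup.mem_iInf.1 htK k))
  -- `G = N k * H`
  have hfac : ∀ k g, ∃ n ∈ N k, n * g ∈ H := by
    intro k g
    obtain ⟨i, hi⟩ : ∃ i, i ≠ k := exists_ne k
    obtain ⟨f, hf, hf1, hcf⟩ := C.exists_single i
    have hfN : f ∈ N k := hN2 k f hf (by rw [hcf]; exact Pi.mulSingle_eq_of_ne (Ne.symm hi) _)
    obtain ⟨n, hn, hnT⟩ := C.conj_into (N k) hfN hf hf1 ((hNn k).conj_mem f hfN g)
      (by rw [conj_pow, C.cube hf]; group)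
    refine ⟨n, hn, C.ti hf hf1 ?_⟩
    rw [show n * g * f * (n * g)⁻¹ = n * (g * f * g⁻¹) * n⁻¹ by group]
    exact hnT
  -- the rotation in all coordinates
  obtain ⟨r, hr, hcr⟩ := C.surj (fun _ => rot) (by simp [sign_rot])
  have hrT : r ∈ T := (C.memT r).2 ⟨hr, fun i => by rw [hcr]; exact sign_rot⟩
  have hKH : ∀ h ∈ H, h ∈ K → h = 1 := by
    intro h hh hhK
    refine hKT h ((C.memT h).2 ⟨hh, fun i => sign_eq_one_of_comm_rot _ ?_⟩) hhK
    have hc : h * r * h⁻¹ * r⁻¹ = 1 := by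
      refine hKT _ (mul_mem ?_ (T.inv_mem hrT)) ?_
      · refine C.mem_T_of_pow (mul_mem (mul_mem hh hr) (H.inv_mem hh)) (n := 1) ?_
        rw [pow_one, conj_pow, C.cube hrT]; group
      · rw [mul_assoc, mul_assoc]
        refine mul_mem hhK ?_
        rw [← mul_assoc]
        exact Subgroup.Normal.conj_mem inferInstance _ (K.inv_mem hhK) r
    have := congrArg C.cc (eq_mul_inv_iff_mul_eq.1 (mul_inv_eq_one.1 hc).symm)
    rw [C.mul _ hr _ hh, C.mul _ hh _ hr, hcr] at this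
    exact (congrFun this i).symm
  have hT3 : IsPGroup 3 T := fun x => ⟨1, Subtype.ext (by simpa using C.cube x.2)⟩
  have hcop : (Nat.card T).Coprime (Nat.card K) := by
    obtain ⟨n, hn⟩ := IsPGroup.iff_card.1 hT3
    rw [hn]
    refine Nat.Coprime.pow_left n (Nat.prime_three.coprime_iff_not_dvd.2 fun hd => ?_)
    obtain ⟨⟨y, hyK⟩, hy⟩ := exists_prime_orderOf_dvd_card' 3 hd
    have hy3 : y ^ 3 = 1 := by
      have := pow_orderOf_eq_one (⟨y, hyK⟩ : K)
      rw [hy] at this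
      simpa using congrArg Subtype.val this
    obtain ⟨f, hf, hf1, -⟩ := C.exists_single 0
    obtain ⟨z, -, hz⟩ := C.conj_into ⊤ (Subgroup.mem_top f) hf hf1 (Subgroup.mem_top y) hy3
    have := hKT _ hz (Subgroup.Normal.conj_mem inferInstance y hyK z)
    have hy1 : y = 1 := by simpa using this
    subst hy1
    simp at hy
  have : IsMulCommutative T := ⟨⟨fun a b => Subtype.ext (C.comm a.2 b.2)⟩⟩
  have hncyc : ¬ IsCyclic T := by
    intro hc
    obtain ⟨g, hg⟩ := hc.exists_generator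
    obtain ⟨f0, hf0, -, hc0⟩ := C.exists_single 0
    obtain ⟨f1, hf1, -, hc1⟩ := C.exists_single 1
    obtain ⟨i, hi⟩ := Subgroup.mem_zpowers_iff.1 (hg ⟨f0, hf0⟩)
    obtain ⟨j, hj⟩ := Subgroup.mem_zpowers_iff.1 (hg ⟨f1, hf1⟩)
    have hgc : ∀ (i : ℤ), C.cc ((g : G) ^ i) = C.cc g ^ i := by
      intro i
      obtain ⟨n, rfl | rfl⟩ := Int.eq_nat_or_neg i
      · simpa using C.pow (C.le g.2) n
      · simp [C.inv (pow_mem (C.le g.2) n), C.pow (C.le g.2) n]
    have e0 := congrArg (fun x : T => C.cc (x : G)) hi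
    have e1 := congrArg (fun x : T => C.cc (x : G)) hj
    simp only [SubgroupClass.coe_zpow, hgc, hc0, hc1] at e0 e1
    have a0 := congrFun e0 0
    have a1 := congrFun e0 1
    have b0 := congrFun e1 0
    have b1 := congrFun e1 1
    simp only [Pi.pow_apply, Pi.mulSingle_eq_same, Pi.mulSingle_eq_of_ne (show (1 : Fin 3) ≠ 0 by decide),
      Pi.mulSingle_eq_of_ne (show (0 : Fin 3) ≠ 1 by decide)] at a0 a1 b0 b1
    -- `g 0 ^ i = rot` and `g 0 ^ j = 1` force `3 ∣ j`, so `g 1 ^ j = 1`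
    have hord : ∀ x : P3, Perm.sign x = 1 → ∀ e : ℤ, x ^ e ≠ 1 → orderOf x = 3 := by
      intro x hx e he
      refine orderOf_eq_prime (by rw [pow_succ, pow_two]; exact cube_of_sign x hx) fun h1 => he ?_
      simp [h1]
    have hg0 := ((C.memT _).1 g.2).2 0
    have hg1 := ((C.memT _).1 g.2).2 1
    have o0 := hord _ hg0 i (by rw [a0]; exact rot_ne_one)
    have h3 : (3 : ℤ) ∣ j := by
      have := orderOf_dvd_iff_zpow_eq_one.2 b0
      rwa [o0] at this
    have o1 := hord _ hg1 j (by rw [b1]; exact rot_ne_one)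
    refine rot_ne_one (b1 ▸ orderOf_dvd_iff_zpow_eq_one.1 ?_)
    rw [o1]; exact h3
  have hK : K ≤ ⊥ := by
    refine Coprime.le_of_noncyclic hncyc (Subgroup.normalizer_eq_top (H := K) ▸ le_top) hcop ?_
    rintro t ht ht1 x ⟨hxK, hxC⟩
    exact Subgroup.mem_bot.2 (hKH x (C.centralizer_le t ht ht1 hxC) hxK)
  -- every conjugate of `r` lies in `T`
  obtain ⟨f, hf, hf1, -⟩ := C.exists_single 0
  refine eq_top_iff.2 fun g _ => C.ti hf hf1 ?_
  refine C.mem_T_of_pow (n := 1) (C.centralizer_le f hf hf1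
    (Subgroup.mem_centralizer_singleton_iff.2 ?_)) (by rw [pow_one, conj_pow, C.cube hf]; group)
  rw [← mul_inv_eq_iff_eq_mul, ← mul_inv_eq_one]
  refine Subgroup.mem_bot.1 (hK (Subgroup.mem_iInf.2 fun k => ?_))
  obtain ⟨n, hn, hng⟩ := hfac k g
  have := hNn k
  have hgq : QuotientGroup.mk' (N k) g = QuotientGroup.mk' (N k) (n * g) := by
    rw [map_mul, show QuotientGroup.mk' (N k) n = 1 from (QuotientGroup.eq_one_iff n).2 hn, one_mul]
  have hT' : n * g * f * (n * g)⁻¹ ∈ T :=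
    C.mem_T_of_pow (mul_mem (mul_mem hng (C.le hf)) (H.inv_mem hng)) (n := 1)
      (by rw [pow_one, conj_pow, C.cube hf]; group)
  refine (QuotientGroup.eq_one_iff _).1 ?_
  show QuotientGroup.mk' (N k) _ = 1
  simp only [map_mul, map_inv]
  rw [hgq]
  simp only [← map_mul, ← map_inv]
  rw [C.comm hT' hf]
  simp [mul_assoc]

/-- Let H₀ ≤ Sym(9) be generated by the 3-cycles (1 2 3), (4 5 6), (7 8 9) and the involutions (1 2)(4 5), (1 2)(7 8) (a group of order 108, elementary abelian of order 27 extended by a four-group). Let G be a finite group with a subgroup H ≅ H₀, and T ≤ H of order 27 (a Sylow 3-subgroup of H) with N_G(T) = H and C_G(t) ≤ H for every t ≠ 1 in T. Then G = H. -/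
theorem result {G : Type*} [Group G] [Finite G] (H : Subgroup G)
    (hH : Nonempty (↥H ≃* ↥(Subgroup.closure ({Equiv.swap (0 : Fin 9) 1 * Equiv.swap 1 2, Equiv.swap (3 : Fin 9) 4 * Equiv.swap 4 5, Equiv.swap (6 : Fin 9) 7 * Equiv.swap 7 8,
        Equiv.swap (0 : Fin 9) 1 * Equiv.swap 3 4, Equiv.swap (0 : Fin 9) 1 * Equiv.swap 6 7} : Set (Equiv.Perm (Fin 9))))))
    (T : Subgroup G) (hTH : T ≤ H) (hT : Nat.card T = 27) (hN : Subgroup.normalizer (T : Set G) = H)
    (hC : ∀ t ∈ T, t ≠ 1 → Subgroup.centralizer ({t} : Set G) ≤ H) : H = ⊤ := by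
  obtain ⟨e⟩ := hH
  obtain ⟨C⟩ := exists_coord (e.trans closure_equiv.symm) hTH hT hN hC
  exact C.eq_top

end Cfsg.Agent.S3701
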