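import Cfsg.Statements.S3347
import Cfsg.Agent.Lib.InvertedSylow.Reduce
import Cfsg.Agent.Lib.Transfer.Focal
import Cfsg.Agent.EqLemmas

set_option autoImplicit false
open Cfsg
open scoped commutatorElement

namespace Cfsg.Agent.S3347

/-- Let G be a finite group, p an odd prime, and P an abelian, non-cyclic Sylow p-subgroup of G with [N_G(P) : C_G(P)] = 2. Then either O^p(G) is a proper subgroup of G, or G has p-length 1 (G = O_{p',p,p'}(G)). -/
theorem result {G : Type*} [Group G] [Finite G]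
    (p : ℕ) [Fact p.Prime] (hp : p ≠ 2) (P : Sylow p G) (hab : IsMulCommutative (P : Subgroup G)) (hnc : ¬ IsCyclic (P : Subgroup G))
    (hidx : ((Subgroup.centralizer ((P : Subgroup G) : Set G)).subgroupOf (Subgroup.normalizer ((P : Subgroup G) : Set G))).index = 2) :
    Cfsg.pResidual p G ≠ ⊤ ∨ Cfsg.PLengthLE p 1 G := by
  refine or_iff_not_imp_left.2 fun hres => InvertedSylow.pLengthLE_one (P := P) ?_
  push Not at hres
  haveI := hab
  set N := Subgroup.normalizer ((P : Subgroup G) : Set G)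
  set C := (Subgroup.centralizer ((P : Subgroup G) : Set G)).subgroupOf N
  -- an element of the normaliser outside the centraliser
  obtain ⟨a, ha⟩ : ∃ a : N, a ∉ C := by
    by_contra! hall
    have : C = ⊤ := eq_top_iff.2 fun a _ => hall a
    rw [this, Subgroup.index_top] at hidx
    omega
  have hcm : ∀ x ∈ (P : Subgroup G), ∀ y ∈ (P : Subgroup G), x * y = y * x := fun x hx y hy =>
    congrArg Subtype.val (mul_comm' (⟨x, hx⟩ : (P : Subgroup G)) ⟨y, hy⟩)
  have hC : ∀ b : N, b ∈ C → ∀ x ∈ (P : Subgroup G), (b : G) * x * (b : G)⁻¹ = x := fun b hb x hx =>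
    mul_inv_eq_iff_eq_mul.2 (Subgroup.mem_centralizer_iff.1 (Subgroup.mem_subgroupOf.1 hb) x hx).symm
  have hact : ∀ x ∈ (P : Subgroup G), (a : G) * ((a : G) * x * (a : G)⁻¹) * (a : G)⁻¹ = x := by
    intro x hx
    have h1 := hC (a * a) (Subgroup.mul_self_mem_of_index_two hidx a) x hx
    rw [Subgroup.coe_mul, mul_inv_rev] at h1
    simpa [mul_assoc] using h1
  have hmemP : ∀ b : N, ∀ x ∈ (P : Subgroup G), (b : G) * x * (b : G)⁻¹ ∈ (P : Subgroup G) :=
    fun b x hx => (Subgroup.mem_normalizer_iff.1 b.2 x).1 hx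
  -- every element of the normaliser acts trivially or as `a`
  have hall : ∀ b : N, (∀ x ∈ (P : Subgroup G), (b : G) * x * (b : G)⁻¹ = x) ∨
      ∀ x ∈ (P : Subgroup G), (b : G) * x * (b : G)⁻¹ = (a : G) * x * (a : G)⁻¹ := by
    intro b
    by_cases hb : b ∈ C
    · exact Or.inl (hC b hb)
    refine Or.inr fun x hx => ?_
    have h1 : a⁻¹ * b ∈ C := by
      rw [Subgroup.mul_mem_iff_of_index_two hidx, inv_mem_iff]
      exact iff_of_false ha hb
    have h2 := hC _ h1 x hx
    simp only [Subgroup.coe_mul, InvMemClass.coe_inv] at h2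
    calc (b : G) * x * (b : G)⁻¹ =
        (a : G) * ((a : G)⁻¹ * b * x * ((a : G)⁻¹ * b)⁻¹) * (a : G)⁻¹ := by group
      _ = (a : G) * x * (a : G)⁻¹ := by rw [h2]
  -- `a` inverts `P`
  have hinv : ∀ x ∈ (P : Subgroup G), (a : G) * x * (a : G)⁻¹ = x⁻¹ := by
    let I : Subgroup G :=
      { carrier := {x | x ∈ (P : Subgroup G) ∧ (a : G) * x * (a : G)⁻¹ = x⁻¹}
        one_mem' := ⟨one_mem _, by simp⟩
        mul_mem' := fun {x y} hx hy => ⟨mul_mem hx.1 hy.1, by
          rw [show (a : G) * (x * y) * (a : G)⁻¹ = ((a : G) * x * (a : G)⁻¹) * ((a : G) * y * (a : G)⁻¹) by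
            group, hx.2, hy.2, ← mul_inv_rev, hcm y hy.1 x hx.1]⟩
        inv_mem' := fun {x} hx => ⟨inv_mem hx.1, by
          rw [show (a : G) * x⁻¹ * (a : G)⁻¹ = ((a : G) * x * (a : G)⁻¹)⁻¹ by group, hx.2]⟩ }
    have hle : ⁅(P : Subgroup G), N⁆ ≤ I := by
      rw [Subgroup.commutator_le]
      intro x hx n hn
      rw [commutatorElement_def, show x * n * x⁻¹ * n⁻¹ = x * (n * x⁻¹ * n⁻¹) by group]
      rcases hall ⟨n, hn⟩ with e | e
      · rw [show n * x⁻¹ * n⁻¹ = x⁻¹ from e _ (inv_mem hx), mul_inv_cancel]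
        exact one_mem _
      · rw [show n * x⁻¹ * n⁻¹ = (a : G) * x⁻¹ * (a : G)⁻¹ from e _ (inv_mem hx)]
        refine ⟨mul_mem hx (hmemP a _ (inv_mem hx)), ?_⟩
        rw [show (a : G) * (x * ((a : G) * x⁻¹ * (a : G)⁻¹)) * (a : G)⁻¹ =
          ((a : G) * x * (a : G)⁻¹) * ((a : G) * ((a : G) * x⁻¹ * (a : G)⁻¹) * (a : G)⁻¹) by group,
          hact _ (inv_mem hx)]
        group
    have h1 := Transfer.inf_pResidual_eq_commutator_normalizer P
    rw [hres, inf_top_eq] at h1
    exact fun x hx => (hle (h1 ▸ hx)).2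
  exact
    { comm := hab
      odd := hp
      ncyc := hnc
      fus := fun x hx g hg => by
        obtain ⟨m, hm, hme⟩ := Transfer.normalizer_control_of_comm P x hx g hg
        rw [← hme]
        rcases hall ⟨m, hm⟩ with e | e
        · exact Or.inl (e x hx)
        · exact Or.inr ((e x hx).trans (hinv x hx))
      inv := ⟨a, hinv⟩ }

end Cfsg.Agent.S3347
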