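import Cfsg.Statements.S2911
import Cfsg.Agent.Lib.TwoTransfer.CenterInvolution

set_option autoImplicit false
open Cfsg

namespace Cfsg.Agent.S2911

abbrev M : Type := Multiplicative (ZMod 2) × DihedralGroup 4

theorem center_cases : ∀ x : M, (∀ y : M, x * y = y * x) →
    x = 1 ∨ x = (Multiplicative.ofAdd 1, 1) ∨ x = (1, DihedralGroup.r 2) ∨
      x = (Multiplicative.ofAdd 1, DihedralGroup.r 2) := by decide

theorem central_a : ∀ y : M, ((Multiplicative.ofAdd 1, 1) : M) * y = y * (Multiplicative.ofAdd 1, 1) := by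
  decide

theorem sq_a : ((Multiplicative.ofAdd 1, 1) : M) ^ 2 = 1 := by decide

theorem sq_r : ((1, DihedralGroup.r 1) : M) ^ 2 = (1, DihedralGroup.r 2) := by decide

theorem sq_cases : ∀ y : M, y ^ 2 = 1 ∨ y ^ 2 = (1, DihedralGroup.r 2) := by decide

theorem a_ne : ((Multiplicative.ofAdd 1, 1) : M) ≠ 1 ∧
    ((Multiplicative.ofAdd 1, 1) : M) ≠ (1, DihedralGroup.r 2) ∧
    ((1, DihedralGroup.r 2) : M) ≠ 1 ∧
    ((Multiplicative.ofAdd 1, DihedralGroup.r 2) : M) =
      (Multiplicative.ofAdd 1, 1) * (1, DihedralGroup.r 2) ∧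
    ((Multiplicative.ofAdd 1, 1) : M) * (1, DihedralGroup.r 2) * (1, DihedralGroup.r 2) =
      (Multiplicative.ofAdd 1, 1) := by decide

/-- An automorphism of `M` moves `a` at most to `a * z`, and its square fixes `a`. -/
theorem aut_sq_fix (φ : M ≃* M) :
    φ (φ (Multiplicative.ofAdd 1, 1)) = (Multiplicative.ofAdd 1, 1) := by
  obtain ⟨ha1, haz, hz1, haz', hazz⟩ := a_ne
  have hz : φ (1, DihedralGroup.r 2) = (1, DihedralGroup.r 2) := by
    rcases sq_cases (φ (1, DihedralGroup.r 1)) with h | h
    · rw [← map_pow, sq_r, MulEquiv.map_eq_one_iff] at h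
      exact absurd h hz1
    · rw [← sq_r, map_pow, h, sq_r]
  have hc : ∀ y, φ (Multiplicative.ofAdd 1, 1) * y = y * φ (Multiplicative.ofAdd 1, 1) := fun y => by
    rw [← φ.apply_symm_apply y, ← map_mul, ← map_mul, central_a]
  rcases center_cases _ hc with h | h | h | h
  · exact absurd (φ.map_eq_one_iff.mp h) ha1
  · rw [h, h]
  · exact absurd (φ.injective (h.trans hz.symm)) haz
  · rw [h, haz', map_mul, h, hz, haz', hazz]

/-- A finite group whose Sylow 2-subgroups are isomorphic to the direct product of a group of order 2 and a dihedral group of order 8 has a subgroup of index two. -/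
theorem result {G : Type*} [Group G] [Finite G] (S : Sylow 2 G) (hS : Nonempty (↥(S : Subgroup G) ≃* Multiplicative (ZMod 2) × DihedralGroup 4)) : ∃ H : Subgroup G, H.index = 2 := by
  obtain ⟨e⟩ := hS
  set a : (S : Subgroup G) := e.symm (Multiplicative.ofAdd 1, 1) with ha
  have hea : e a = (Multiplicative.ofAdd 1, 1) := e.apply_symm_apply _
  have hne : Cfsg.pResidual 2 G ≠ ⊤ := by
    refine Cfsg.Agent.TwoTransfer.pResidual_ne_top S a ?_ ?_ ?_ ?_
    · apply e.injective
      rw [map_pow, hea, sq_a, map_one]
    · rw [Subgroup.mem_center_iff]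
      intro s
      apply e.injective
      rw [map_mul, map_mul, hea, central_a]
    · intro hF
      let f : (S : Subgroup G) →* Multiplicative (ZMod 2) := (MonoidHom.fst _ _).comp e.toMonoidHom
      have hf : Function.Surjective f := fun y => ⟨e.symm (y, 1), by simp [f]⟩
      have hco : IsCoatom f.ker := by
        refine ⟨fun h => ?_, fun K hK => ?_⟩
        · obtain ⟨x, hx⟩ := hf (Multiplicative.ofAdd 1)
          have := MonoidHom.mem_ker.mp (h ▸ Subgroup.mem_top x : x ∈ f.ker)
          rw [hx] at this
          exact absurd this (by decide)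
        · obtain ⟨k, hk, hk'⟩ := SetLike.exists_of_lt hK
          refine (Subgroup.eq_top_iff' K).mpr fun x => ?_
          have two : ∀ u v : Multiplicative (ZMod 2), u ≠ 1 → v = 1 ∨ v = u := by decide
          rcases two (f k) (f x) hk' with h | h
          · exact hK.le h
          · have hm : x * k⁻¹ ∈ f.ker := by rw [MonoidHom.mem_ker, map_mul, map_inv, h, mul_inv_cancel]
            simpa using K.mul_mem (hK.le hm) hk
      have h1 : f a = 1 := frattini_le_coatom hco hF
      have h2 : f a = Multiplicative.ofAdd 1 := by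
        show (e a).1 = _
        rw [hea]
      rw [h2] at h1
      exact absurd h1 (by decide)
    · -- every element of the normalizer fixes `a`
      have key : ∀ g ∈ Subgroup.normalizer ((S : Subgroup G) : Set G),
          g * g * (a : G) * (g * g)⁻¹ = a := by
        intro g hg
        let φ : M ≃* M := e.symm.trans ((Subgroup.normalizerMonoidHom (S : Subgroup G) ⟨g, hg⟩).trans e)
        have h := aut_sq_fix φ
        simp only [φ, MulEquiv.trans_apply, ← ha, MulEquiv.symm_apply_apply] at h
        rw [← hea] at h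
        have h' := congrArg Subtype.val (e.injective h)
        simp only [Subgroup.normalizerMonoidHom] at h'
        refine Eq.trans ?_ h'
        show _ = g * (g * (a : G) * g⁻¹) * g⁻¹
        simp [mul_assoc]
      intro g hg
      obtain ⟨k, m, hm, hkm⟩ := Nat.exists_eq_two_pow_mul_odd (orderOf_pos g).ne'
      have hgm : g ^ m ∈ Subgroup.centralizer ({(a : G)} : Set G) := by
        have hgmS : g ^ m ∈ (S : Subgroup G) := by
          have hq : IsPGroup 2 (Subgroup.zpowers (g ^ m)) := IsPGroup.of_card (n := k) (by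
            rw [Nat.card_zpowers, orderOf_pow, hkm, Nat.gcd_mul_left_left, Nat.mul_div_cancel _ hm.pos])
          have hsup : IsPGroup 2 ↥((S : Subgroup G) ⊔ Subgroup.zpowers (g ^ m)) :=
            IsPGroup.to_sup_of_normal_left' S.isPGroup' hq
              (Subgroup.zpowers_le.mpr (Subgroup.pow_mem _ hg m))
          have := S.is_maximal' hsup le_sup_left
          rw [← this]
          exact le_sup_right (a := (S : Subgroup G)) (Subgroup.mem_zpowers _)
        rw [Subgroup.mem_centralizer_singleton_iff]
        have : (⟨g ^ m, hgmS⟩ : (S : Subgroup G)) * a = a * ⟨g ^ m, hgmS⟩ := by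
          apply e.injective
          rw [map_mul, map_mul, hea, central_a]
        exact congrArg Subtype.val this
      have hg2 : g * g ∈ Subgroup.centralizer ({(a : G)} : Set G) := by
        rw [Subgroup.mem_centralizer_singleton_iff]
        exact mul_inv_eq_iff_eq_mul.mp (key g hg)
      obtain ⟨j, hj⟩ := hm
      have hgC : g ∈ Subgroup.centralizer ({(a : G)} : Set G) := by
        have := Subgroup.mul_mem _ (Subgroup.inv_mem _ (Subgroup.pow_mem _ hg2 j)) hgm
        rw [hj, ← pow_two, ← pow_mul, pow_succ, inv_mul_cancel_left] at this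
        exact this
      rw [Subgroup.mem_centralizer_singleton_iff] at hgC
      rw [hgC, mul_inv_cancel_right]
  -- a nontrivial 2-quotient has a subgroup of index two
  haveI : (Cfsg.pResidual 2 G).Normal := inferInstance
  have hQ : IsPGroup 2 (G ⧸ Cfsg.pResidual 2 G) := Cfsg.Agent.Transfer.isPGroup_quotient_pResidual
  haveI : Nontrivial (G ⧸ Cfsg.pResidual 2 G) := QuotientGroup.nontrivial_iff.mpr hne
  obtain ⟨n, hn, hc⟩ := hQ.nontrivial_iff_card.mp ‹_›
  obtain ⟨K, hK⟩ := Sylow.exists_subgroup_card_pow_prime (G := G ⧸ Cfsg.pResidual 2 G) 2 (n := n - 1)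
    (hc ▸ pow_dvd_pow 2 (Nat.sub_le n 1))
  refine ⟨K.comap (QuotientGroup.mk' _), ?_⟩
  rw [Subgroup.index_comap_of_surjective _ (QuotientGroup.mk'_surjective _)]
  have h := K.card_mul_index
  rw [hK, hc, ← Nat.succ_pred_eq_of_ne_zero hn.ne', pow_succ] at h
  simp only [Nat.succ_sub_one] at h
  exact Nat.eq_of_mul_eq_mul_left (pow_pos (by norm_num) _) h

end Cfsg.Agent.S2911
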