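import Cfsg.Statements.S2820
import Cfsg.Agent.Lib.PIrred.Basic

set_option autoImplicit false
open Cfsg

namespace Cfsg.Agent.S2820

open Subgroup Cfsg.Agent.PReduced
open scoped commutatorElement

/-- Let A and B be subnormal subgroups of the finite group H with A a p-group and B = O^p(B) (B generated by its elements of order prime to p). Then A normalizes B and B = O^p(AB), the subgroup of ⟨A, B⟩ generated by its elements of order prime to p. -/
theorem result {H : Type*} [Group H] [Finite H] {p : ℕ} [Fact p.Prime] (A B : Subgroup H) (hA : A.IsSubnormal) (hB : B.IsSubnormal) (hAp : IsPGroup p ↥A) (hBres : (Cfsg.pResidual p ↥B).map B.subtype = B) : A ≤ Subgroup.normalizer (B : Set H) ∧ (Cfsg.pResidual p ↥(A ⊔ B)).map (A ⊔ B).subtype = B := by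
  set Q := Cfsg.pCore p H with hQ
  haveI := PReduced.pCore_normal p H
  have hAQ : A ≤ Q := Cores.le_pCore_of_isSubnormal hA hAp
  set J := B ⊔ Q with hJ
  have hkey : ∀ x ∈ J, (orderOf x).Coprime p → x ∈ B := by
    intro x hx hco
    have hd : (B.subgroupOf J).index ∣ Nat.card ↥Q := by
      show B.relIndex J ∣ Nat.card ↥Q
      have e1 := card_mul_index (B.subgroupOf J)
      have e2 := card_mul_index (Q.subgroupOf J)
      rw [Cores.card_subgroupOf (le_sup_left : B ≤ J)] at e1
      rw [Cores.card_subgroupOf (le_sup_right : Q ≤ J)] at e2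
      have e3 : Q.relIndex J = Q.relIndex B := relIndex_sup_right B Q
      have e4 := relIndex_mul_relIndex (B ⊓ Q) B J inf_le_left le_sup_left
      have e5 := relIndex_mul_relIndex (B ⊓ Q) Q J inf_le_right le_sup_right
      rw [inf_relIndex_left, ← e5, inf_relIndex_right, e3, mul_comm] at e4
      have e6 : B.relIndex J = B.relIndex Q :=
        Nat.eq_of_mul_eq_mul_right (Nat.pos_of_ne_zero index_ne_zero_of_finite) e4
      rw [e6]
      exact index_dvd_card _ |>.trans (by rw [Nat.card_congr (Equiv.refl ↥Q)])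
    obtain ⟨n, hn⟩ := IsPGroup.iff_card.1 (PReduced.isPGroup_pCore (G := H) p)
    rw [hn] at hd
    have h1 := PIrred.mem_of_subnormal_index (hB.subgroupOf (K := J)) hd
      (x := ⟨x, hx⟩) (by rwa [Subgroup.orderOf_mk])
    exact h1
  have hres : ∀ K ≤ J, B ≤ K → (Cfsg.pResidual p ↥K).map K.subtype = B := by
    intro K hKJ hBK
    refine le_antisymm ?_ (hBres ▸ Transfer.pResidual_subgroup_mono hBK)
    rw [Transfer.map_pResidual_subtype, closure_le]
    exact fun x hx => hkey x (hKJ hx.1) hx.2
  refine ⟨fun a ha => ?_, hres _ (sup_le (hAQ.trans le_sup_right) le_sup_left) le_sup_right⟩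
  have haJ : a ∈ J := le_sup_right (a := B) (hAQ ha)
  have h2 : J ≤ normalizer (((Cfsg.pResidual p ↥J).map J.subtype : Subgroup H) : Set H) := by
    haveI := PReduced.pResidual_normal p ↥J
    have h2 := Subgroup.le_normalizer_map J.subtype (H := Cfsg.pResidual p ↥J)
    rw [normalizer_eq_top (Cfsg.pResidual p ↥J), ← MonoidHom.range_eq_map, range_subtype] at h2
    exact h2
  rw [hres J le_rfl le_sup_left] at h2
  exact h2 haJ

end Cfsg.Agent.S2820
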