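import Cfsg.Statements.S1012
import Cfsg.Agent.Lib.SmallOrders.Basic

set_option autoImplicit false
open Cfsg

namespace Cfsg.Agent.S1012

/-- A group of order 24 containing no element of order 6 is isomorphic to the symmetric group of degree 4. -/
theorem result {G : Type*} [Group G] [Finite G] (h : Nat.card G = 24) (h6 : ∀ g : G, orderOf g ≠ 6) : Nonempty (G ≃* Equiv.Perm (Fin 4)) := by
  have := Fact.mk Nat.prime_three
  have := Fact.mk Nat.prime_two
  have hfac : Nat.card G = 3 ^ 1 * 8 := by rw [h]; rfl
  obtain ⟨P⟩ := (inferInstance : Nonempty (Sylow 3 G))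
  have hP : Nat.card (P : Subgroup G) = 3 := by
    rw [SmallOrders.card_sylow_subgroup hfac (by norm_num) P, pow_one]
  -- a commuting pair of orders 2 and 3 gives an element of order 6
  have hcomm : ∀ a b : G, Commute a b → orderOf a = 2 → orderOf b = 3 → False := by
    intro a b hab ha hb
    refine h6 (a * b) ?_
    rw [hab.orderOf_mul_eq_mul_orderOf_of_coprime (by rw [ha, hb]; norm_num), ha, hb]
  obtain ⟨z, hz⟩ := exists_prime_orderOf_dvd_card' (G := (P : Subgroup G)) 3 (by rw [hP])
  set N := Subgroup.normalizer ((P : Subgroup G) : Set G)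
  -- no involution centralises `P`
  have hz' : orderOf (z : G) = 3 := (Subgroup.orderOf_coe z).trans hz
  have hidx : Nat.card (Sylow 3 G) = N.index := P.card_eq_index_normalizer
  have hn4 : N.index = 4 := by
    rw [← hidx]
    have hd : Nat.card (Sylow 3 G) ∣ 8 :=
      SmallOrders.index_sylow hfac (by norm_num) P ▸ P.card_dvd_index
    have hmod : Nat.card (Sylow 3 G) ≡ 1 [MOD 3] := card_sylow_modEq_one 3 G
    unfold Nat.ModEq at hmod
    have hne : Nat.card (Sylow 3 G) ≠ 1 := by
      intro h1
      have hN : N = ⊤ := Subgroup.index_eq_one.mp (P.card_eq_index_normalizer.symm.trans h1)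
      let θ : N →* MulAut (P : Subgroup G) := (P : Subgroup G).normalizerMonoidHom
      have hk := θ.ker.card_mul_index
      have hN24 : Nat.card N = 24 := by
        rw [← h, ← Subgroup.card_top (G := G)]
        exact congrArg (fun H : Subgroup G => Nat.card H) hN
      rw [hN24, Subgroup.index_ker] at hk
      have : IsCyclic (P : Subgroup G) := isCyclic_of_prime_card hP
      have hr : Nat.card θ.range ∣ 2 := by
        refine (Subgroup.card_subgroup_dvd_card _).trans (dvd_of_eq ?_)
        rw [IsCyclic.card_mulAut, hP]
        rfl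
      have hker2 : 2 ∣ Nat.card θ.ker := by
        have := Nat.le_of_dvd (by norm_num) hr
        have : 0 < Nat.card θ.range := Nat.card_pos
        interval_cases hc : Nat.card θ.range <;> omega
      obtain ⟨a, ha⟩ := exists_prime_orderOf_dvd_card' 2 hker2
      refine hcomm ((a : N) : G) (z : G) ?_ (by rw [Subgroup.orderOf_coe, Subgroup.orderOf_coe, ha]) hz'
      have h2 : ((a : N) : G) ∈ Subgroup.centralizer ((P : Subgroup G) : Set G) :=
        ((SetLike.ext_iff.mp (P : Subgroup G).normalizerMonoidHom_ker) (a : N)).mp a.2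
      exact (Subgroup.mem_centralizer_iff.mp h2 z z.2).symm
    have := Nat.le_of_dvd (by norm_num) hd
    interval_cases hc : Nat.card (Sylow 3 G)
    all_goals omega
  -- the action on the four cosets of `N` is faithful
  have hN6 : Nat.card N = 6 := by
    have := N.card_mul_index
    rw [hn4, h] at this
    omega
  have hK : N.normalCore = ⊥ := by
    set K := N.normalCore
    have hKN : K ≤ N := N.normalCore_le
    have hd6 : Nat.card K ∣ 6 := hN6 ▸ Subgroup.card_dvd_of_le hKN
    have h3K : ¬ 3 ∣ Nat.card K := by
      intro h3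
      obtain ⟨b, hb⟩ := exists_prime_orderOf_dvd_card' 3 h3
      have hPn : (P.subtype (Subgroup.le_normalizer : (P : Subgroup G) ≤ N)).Normal := by
        rw [Sylow.coe_subtype]
        exact Subgroup.normal_in_normalizer
      have hbP : Subgroup.zpowers (b : G) = (P : Subgroup G) := by
        have hpg : IsPGroup 3 (Subgroup.zpowers (⟨b, hKN b.2⟩ : N)) := IsPGroup.of_card (n := 1)
          (by rw [Nat.card_zpowers, pow_one, ← Subgroup.orderOf_coe, Subgroup.orderOf_coe b, hb])
        have := Sylow.unique_of_normal _ hPn
        obtain ⟨S, hS⟩ := hpg.exists_le_sylow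
        rw [Subsingleton.elim S (P.subtype Subgroup.le_normalizer)] at hS
        refine Subgroup.eq_of_le_of_card_ge (Subgroup.zpowers_le.mpr
          (hS (Subgroup.mem_zpowers _))) ?_
        rw [hP, Nat.card_zpowers, Subgroup.orderOf_coe, hb]
      -- then `P ≤ K`, so every conjugate of `P` lies in `N`
      have hle : (P : Subgroup G) ≤ K := hbP ▸ Subgroup.zpowers_le.mpr b.2
      have h1 : Nat.card (Sylow 3 G) = 1 := by
        rw [Nat.card_eq_one_iff_unique]
        refine ⟨⟨fun Q₁ Q₂ => ?_⟩, inferInstance⟩
        have hQ : ∀ Q : Sylow 3 G, (Q : Subgroup G) ≤ N := by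
          intro Q
          obtain ⟨g, hg⟩ := MulAction.exists_smul_eq G P Q
          rw [← hg]
          intro x hx
          rw [Sylow.coe_subgroup_smul, Subgroup.mem_pointwise_smul_iff_inv_smul_mem] at hx
          have := N.normalCore_normal.conj_mem _ (hle hx) g
          exact hKN (by simpa [MulAut.smul_def, mul_assoc] using this)
        have := Sylow.unique_of_normal _ hPn
        exact Sylow.subtype_injective
          (Subsingleton.elim (Q₁.subtype (hQ Q₁)) (Q₂.subtype (hQ Q₂)))
      omega
    have h2K : ¬ 2 ∣ Nat.card K := by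
      intro h2
      have hK2 : Nat.card K = 2 := by
        have := Nat.le_of_dvd (by norm_num) hd6
        have : 0 < Nat.card K := Nat.card_pos
        interval_cases hc : Nat.card K <;> simp_all
      obtain ⟨a, ha⟩ := exists_prime_orderOf_dvd_card' 2 h2
      refine hcomm (a : G) (z : G) ?_ (by rw [Subgroup.orderOf_coe, ha]) hz'
      obtain ⟨u, v, huv, huniv⟩ := Nat.card_eq_two_iff.mp hK2
      have hconj : (⟨(z : G) * a * (z : G)⁻¹, N.normalCore_normal.conj_mem _ a.2 z⟩ : K) = a := by
        have h1 : a ≠ 1 := fun h => by rw [h, orderOf_one] at ha; omega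
        have h2 : (⟨(z : G) * a * (z : G)⁻¹, N.normalCore_normal.conj_mem _ a.2 z⟩ : K) ≠ 1 := by
          intro h
          apply h1
          have := congrArg Subtype.val h
          exact Subtype.ext (conj_eq_one_iff.mp this)
        have hall : ∀ w : K, w = u ∨ w = v := fun w => by
          have : w ∈ ({u, v} : Set K) := huniv ▸ Set.mem_univ w
          simpa using this
        have e1 := hall 1
        have e2 := hall a
        have e3 := hall ⟨(z : G) * a * (z : G)⁻¹, N.normalCore_normal.conj_mem _ a.2 z⟩
        grind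
      exact (eq_mul_inv_iff_mul_eq.mp (congrArg Subtype.val hconj).symm)
    apply Subgroup.eq_bot_of_card_eq
    have := Nat.le_of_dvd (by norm_num) hd6
    have : 0 < Nat.card K := Nat.card_pos
    interval_cases hc : Nat.card K <;> omega
  have hinj : Function.Injective (MulAction.toPermHom G (G ⧸ N)) := by
    rw [← MonoidHom.ker_eq_bot_iff, ← Subgroup.normalCore_eq_ker, hK]
  have e : G ⧸ N ≃ Fin 4 := Finite.equivFinOfCardEq hn4
  have hinj' : Function.Injective (e.permCongrHom.toMonoidHom.comp (MulAction.toPermHom G (G ⧸ N))) :=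
    e.permCongrHom.injective.comp hinj
  refine ⟨MulEquiv.ofBijective _ ((Nat.bijective_iff_injective_and_card _).mpr ⟨hinj', ?_⟩)⟩
  rw [h, Nat.card_perm, Nat.card_fin]
  rfl

end Cfsg.Agent.S1012
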