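import Cfsg.Agent.Lib.Orth.Models
import Cfsg.Agent.Lib.Orth.Dihedral

set_option autoImplicit false
open Cfsg

namespace Cfsg.Agent.S0304

open Matrix Cfsg.Agent.Orth
open QuadraticMap (polar)

variable {F : Type*} [Field F] {m : ℕ}

/-- The index of the symplectic part. -/
abbrev J (m : ℕ) : Type := Fin m ⊕ Fin m

theorem qOdd_eq (v : Unit ⊕ J m → F) :
    quadFormOdd m F v = v (.inl ()) ^ 2 + quadFormPlus m F (fun j => v (.inr j)) := rfl

theorem J_eq_gram [CharP F 2] : Matrix.J (Fin m) F = Orth.gram (quadFormPlus m F) := by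
  ext i j
  rcases i with i | i <;> rcases j with j | j <;>
    simp [Matrix.J, Orth.gram, polar_quadPlus, Pi.single_apply, Matrix.one_apply, CharTwo.neg_eq, eq_comm]

theorem gram_transform (A : Matrix (J m) (J m) F) (i j : J m) :
    (Aᵀ * Orth.gram (quadFormPlus m F) * A) i j = polar (quadFormPlus m F) (fun k => A k i) (fun k => A k j) := by
  have hb : ∀ x y : J m → F, polar (quadFormPlus m F) x y = x ⬝ᵥ (Orth.gram (quadFormPlus m F) *ᵥ y) := by
    intro x y
    show (quadPlus m F).polarBilin x y = _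
    conv_lhs => rw [pi_eq_sum_univ' x, pi_eq_sum_univ' y]
    simp only [map_sum, map_smul, LinearMap.sum_apply, LinearMap.smul_apply, smul_eq_mul,
      dotProduct, Matrix.mulVec, Orth.gram, Matrix.of_apply, Finset.mul_sum]
    rw [Finset.sum_comm]
    refine Finset.sum_congr rfl fun a _ => Finset.sum_congr rfl fun c _ => ?_
    simp only [QuadraticMap.polarBilin_apply_apply, coe_quadPlus]
    ring
  rw [hb, Matrix.mul_assoc]
  rfl

/-- The symplectic component of an isometry. -/
def symMat (g : ↥(isometryGroup F (quadFormOdd m F))) : Matrix (J m) (J m) F :=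
  fun i j => ((g : GL (Unit ⊕ J m) F) : Matrix (Unit ⊕ J m) (Unit ⊕ J m) F) (.inr i) (.inr j)

variable [CharP F 2]

theorem polar_eq (x y : Unit ⊕ J m → F) :
    polar (quadFormOdd m F) x y = polar (quadFormPlus m F) (fun j => x (.inr j)) (fun j => y (.inr j)) := by
  rw [polar_quadOdd, polar_quadPlus, CharTwo.two_eq_zero, zero_mul, zero_add]

theorem col_inl (g : ↥(isometryGroup F (quadFormOdd m F))) :
    ((g : GL (Unit ⊕ J m) F) : Matrix (Unit ⊕ J m) (Unit ⊕ J m) F) (.inl ()) (.inl ()) = 1 ∧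
    ∀ i, ((g : GL (Unit ⊕ J m) F) : Matrix (Unit ⊕ J m) (Unit ⊕ J m) F) (.inr i) (.inl ()) = 0 := by
  set e : Unit ⊕ J m → F := Pi.single (.inl ()) 1 with he
  have hz : ∀ y, polar (quadFormOdd m F) e y = 0 := fun y => by
    rw [polar_eq, polar_quadPlus]; simp [he]
  let g' : IsoGrp (quadOdd m F) := g
  set ge := ap g' e with hge
  have hz' : ∀ y, polar (quadFormOdd m F) ge y = 0 := fun y => by
    have h := polar_ap g' e (ap g'⁻¹ y)
    rw [ap_ap_inv] at h
    exact h.trans (hz _)
  have hr : (fun j => ge (.inr j)) = 0 := by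
    refine (quadPlus_nondeg (F := F) m).1 _ fun y => ?_
    have := hz' (Sum.elim (fun _ => 0) y)
    rw [polar_eq] at this
    exact this
  have hcol : ∀ i, ge i = ((g : GL (Unit ⊕ J m) F) : Matrix (Unit ⊕ J m) (Unit ⊕ J m) F) i (.inl ()) :=
    fun i => by rw [hge, he]; exact congrFun (Matrix.mulVec_single_one (M := ((g : GL (Unit ⊕ J m) F) : Matrix (Unit ⊕ J m) (Unit ⊕ J m) F)) (Sum.inl ())) i
  refine ⟨?_, fun i => by rw [← hcol]; exact congrFun hr i⟩
  have h : quadFormOdd m F ge = quadFormOdd m F e := Q_ap g' e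
  rw [qOdd_eq, qOdd_eq, hr] at h
  have h' : ge (.inl ()) ^ 2 = 1 := by simpa [he, quadFormPlus] using h
  rw [← hcol]
  rw [sq, mul_self_eq_one_iff] at h'
  rcases h' with h' | h'
  · exact h'
  · rw [h', CharTwo.neg_eq]

theorem symMat_mulVec (g : ↥(isometryGroup F (quadFormOdd m F))) (v : Unit ⊕ J m → F) (i : J m) :
    (((g : GL (Unit ⊕ J m) F) : Matrix (Unit ⊕ J m) (Unit ⊕ J m) F) *ᵥ v) (.inr i) =
      (symMat g *ᵥ fun j => v (.inr j)) i := by
  simp [Matrix.mulVec, dotProduct, symMat, (col_inl g).2 i]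

theorem symMat_mul (g h : ↥(isometryGroup F (quadFormOdd m F))) :
    symMat (g * h) = symMat g * symMat h := by
  ext i j
  simp [symMat, Matrix.mul_apply, (col_inl g).2 i]

theorem symMat_mem (g : ↥(isometryGroup F (quadFormOdd m F))) :
    symMat g ∈ Matrix.symplecticGroup (Fin m) F := by
  rw [← SymplecticGroup.transpose_mem_iff, SymplecticGroup.mem_iff, Matrix.transpose_transpose, J_eq_gram]
  ext i j
  rw [gram_transform]
  let g' : IsoGrp (quadOdd m F) := g
  have h := polar_ap g' (Pi.single (.inr i) 1) (Pi.single (.inr j) 1)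
  rw [coe_quadOdd, polar_eq, polar_eq] at h
  simp only [ap_apply, Matrix.mulVec_single_one] at h
  rw [Orth.gram, Matrix.of_apply]
  convert h using 2 <;> · funext k; simp [Pi.single_apply, symMat, g']

theorem sq_injective {x y : F} (h : x ^ 2 = y ^ 2) : x = y := by
  rcases sq_eq_sq_iff_eq_or_eq_neg.1 h with h | h
  · exact h
  · rw [h, CharTwo.neg_eq]

theorem symMat_injective : Function.Injective (symMat (F := F) (m := m)) := by
  intro g h hgh
  refine iso_ext ?_
  have hrow : ∀ j, ((g : GL (Unit ⊕ J m) F) : Matrix (Unit ⊕ J m) (Unit ⊕ J m) F) (.inl ()) (.inr j) =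
      ((h : GL (Unit ⊕ J m) F) : Matrix (Unit ⊕ J m) (Unit ⊕ J m) F) (.inl ()) (.inr j) := fun j => by
    have h1 := iso_preserves g (Pi.single (.inr j) 1)
    have h2 := iso_preserves h (Pi.single (.inr j) 1)
    rw [← h2, qOdd_eq, qOdd_eq] at h1
    simp only [symMat_mulVec, hgh, Matrix.mulVec_single_one, add_left_inj] at h1
    exact sq_injective h1
  ext a b
  rcases a with ⟨⟩ | a <;> rcases b with ⟨⟩ | b
  · rw [(col_inl g).1, (col_inl h).1]
  · exact hrow b
  · rw [(col_inl g).2 a, (col_inl h).2 a]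
  · exact congrFun (congrFun hgh a) b

/-- The lift of a symplectic matrix. -/
def liftMat (r : J m → F) (A : Matrix (J m) (J m) F) : Matrix (Unit ⊕ J m) (Unit ⊕ J m) F :=
  Matrix.fromBlocks 1 (Matrix.of fun _ j => r j) 0 A

theorem liftMat_mulVec (r : J m → F) (A : Matrix (J m) (J m) F) (v : Unit ⊕ J m → F) :
    liftMat r A *ᵥ v = Sum.elim (fun _ => v (.inl ()) + r ⬝ᵥ fun j => v (.inr j))
      (A *ᵥ fun j => v (.inr j)) := by
  funext i
  rcases i with ⟨⟩ | i <;> simp [liftMat, Matrix.fromBlocks_mulVec, Matrix.mulVec, dotProduct, Function.comp_def]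

theorem exists_lift [Finite F] (A : Matrix.symplecticGroup (Fin m) F) :
    ∃ g : ↥(isometryGroup F (quadFormOdd m F)), symMat g = (A : Matrix (J m) (J m) F) := by
  set B : Matrix (J m) (J m) F := (A : Matrix (J m) (J m) F) with hB
  have hpol : ∀ x y : J m → F,
      polar (quadFormPlus m F) (B *ᵥ x) (B *ᵥ y) = polar (quadFormPlus m F) x y := by
    have hA : Bᵀ * Orth.gram (quadFormPlus m F) * B = Orth.gram (quadFormPlus m F) := by
      have h1 := SymplecticGroup.mem_iff.1 (SymplecticGroup.transpose_mem_iff.2 A.2)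
      rwa [Matrix.transpose_transpose, J_eq_gram] at h1
    intro x y
    have h2 : (LinearMap.BilinForm.comp (quadPlus m F).polarBilin (Matrix.mulVecLin B) (Matrix.mulVecLin B)) =
        (quadPlus m F).polarBilin := by
      refine LinearMap.BilinForm.ext_basis (Pi.basisFun F (J m)) fun i j => ?_
      have := congrFun (congrFun hA i) j
      rw [gram_transform] at this
      simp only [LinearMap.BilinForm.comp_apply, Matrix.mulVecLin_apply, Pi.basisFun_apply,
        Matrix.mulVec_single_one, QuadraticMap.polarBilin_apply_apply, coe_quadPlus]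
      exact this
    exact congrArg (fun b : LinearMap.BilinForm F (J m → F) => b x y) h2
  have hsq : ∀ c : F, ∃ s, s ^ 2 = c := fun c => by
    obtain ⟨s, hs⟩ := FiniteField.isSquare_of_char_two (ringChar.eq F 2) c
    exact ⟨s, by rw [sq]; exact hs.symm⟩
  choose sr hsr using hsq
  set r : J m → F := fun j => sr (quadFormPlus m F (B *ᵥ Pi.single j 1) + quadFormPlus m F (Pi.single j 1))
  have hkey : ∀ v : J m → F, (r ⬝ᵥ v) ^ 2 + quadFormPlus m F (B *ᵥ v) = quadFormPlus m F v := by
    let f : (J m → F) → F := fun v => (r ⬝ᵥ v) ^ 2 + quadFormPlus m F (B *ᵥ v) + quadFormPlus m F v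
    have hadd : ∀ x y, f (x + y) = f x + f y := fun x y => by
      have h1 := Q_add (quadPlus m F) x y
      have h2 := Q_add (quadPlus m F) (B *ᵥ x) (B *ᵥ y)
      rw [coe_quadPlus] at h1 h2
      simp only [f, dotProduct_add, Matrix.mulVec_add, h1, h2, hpol, CharTwo.add_sq]
      linear_combination polar (quadFormPlus m F) x y * (CharTwo.two_eq_zero (R := F))
    have hsmul : ∀ (c : F) x, f (c • x) = c ^ 2 * f x := fun c x => by
      have h1 := Q_smul (quadPlus m F) c x
      have h2 := Q_smul (quadPlus m F) c (B *ᵥ x)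
      rw [coe_quadPlus] at h1 h2
      simp only [f, dotProduct_smul, Matrix.mulVec_smul, h1, h2, smul_eq_mul]
      ring
    intro v
    have hz : f v = 0 := by
      let φ : (J m → F) →+ F := AddMonoidHom.mk' f hadd
      show φ v = 0
      rw [pi_eq_sum_univ' v, map_sum]
      refine Finset.sum_eq_zero fun j _ => ?_
      show f (v j • _) = 0
      rw [hsmul]
      have : f (Pi.single j 1) = 0 := by
        simp only [f, dotProduct_single, mul_one, r, hsr]
        rw [add_assoc, CharTwo.add_self_eq_zero]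
      rw [this, mul_zero]
    linear_combination hz - quadFormPlus m F v * (CharTwo.two_eq_zero (R := F))
  set M := liftMat r B
  have hM : ∀ v, quadFormOdd m F (M *ᵥ v) = quadFormOdd m F v := fun v => by
    rw [liftMat_mulVec, qOdd_eq, qOdd_eq]
    simp only [Sum.elim_inl, Sum.elim_inr, CharTwo.add_sq]
    rw [add_assoc, hkey]
  have hdet : IsUnit M.det := by
    rw [show M = Matrix.fromBlocks 1 (Matrix.of fun _ j => r j) 0 B from rfl,
      Matrix.det_fromBlocks_zero₂₁, Matrix.det_one, one_mul]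
    exact SymplecticGroup.symplectic_det A.2
  exact ⟨isoMk M M⁻¹ (Matrix.mul_nonsing_inv M hdet) (Matrix.nonsing_inv_mul M hdet) hM, rfl⟩

/-- In characteristic 2, O_{2m+1}(q) is isomorphic to Sp_{2m}(q). -/
theorem result {F : Type*} [Field F] [Fintype F] [CharP F 2] (m : ℕ) : Nonempty (Cfsg.isometryGroup F (Cfsg.quadFormOdd m F) ≃* Matrix.symplecticGroup (Fin m) F) := by
  refine ⟨MulEquiv.ofBijective
    (MonoidHom.mk' (fun g => (⟨symMat g, symMat_mem g⟩ : Matrix.symplecticGroup (Fin m) F))
      fun g h => Subtype.ext (symMat_mul g h)) ⟨fun g h hgh => ?_, fun A => ?_⟩⟩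
  · exact symMat_injective (congrArg Subtype.val hgh)
  · obtain ⟨g, hg⟩ := exists_lift A
    exact ⟨g, Subtype.ext hg⟩

end Cfsg.Agent.S0304
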