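import Cfsg.Statements.S2261
import Cfsg.Agent.EqLemmas

set_option autoImplicit false
open Cfsg

namespace Cfsg.Agent.S2261

open Polynomial in
/-- The powers of a matrix up to scalars give distinct non-zero elements of its polynomial algebra. -/
theorem upper {F : Type*} [Field F] [Fintype F] (d : ℕ) (hd : 1 ≤ d)
    (g : GL (Fin d) F) :
    (Fintype.card F - 1) * orderOf (g : GL (Fin d) F ⧸ Subgroup.center (GL (Fin d) F)) ≤ Fintype.card F ^ d - 1 := by
  classical
  haveI : Nonempty (Fin d) := ⟨⟨0, hd⟩⟩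
  set x : Matrix (Fin d) (Fin d) F := (g : Matrix (Fin d) (Fin d) F) with hx
  set n := orderOf (g : GL (Fin d) F ⧸ Subgroup.center (GL (Fin d) F)) with hn
  let P : Fin n × Fˣ → F[X] := fun ic => (C (ic.2 : F) * X ^ (ic.1 : ℕ)) %ₘ x.charpoly
  have hP : ∀ ic, aeval x (P ic) = (ic.2 : F) • ((g ^ (ic.1 : ℕ) : GL (Fin d) F) : Matrix (Fin d) (Fin d) F) := by
    intro ic
    simp only [P]
    rw [Polynomial.aeval_modByMonic_eq_self_of_root (Matrix.aeval_self_charpoly x)]
    simp [hx, Algebra.smul_def]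
  have hdeg : ∀ ic, (P ic).degree < d := by
    intro ic
    refine lt_of_lt_of_le (Polynomial.degree_modByMonic_lt _ x.charpoly_monic) ?_
    rw [Matrix.charpoly_degree_eq_dim, Fintype.card_fin]
  let f : Fin n × Fˣ → {v : Fin d → F // v ≠ 0} := fun ic => ⟨fun j => (P ic).coeff j, by
    intro h
    have h0 : P ic = 0 := by
      ext j
      rcases lt_or_ge j d with hj | hj
      · simpa using congrFun h ⟨j, hj⟩
      · simpa using Polynomial.coeff_eq_zero_of_degree_lt (lt_of_lt_of_le (hdeg ic) (by exact_mod_cast hj))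
    have h1 := hP ic
    rw [h0, map_zero, eq_comm, smul_eq_zero] at h1
    rcases h1 with h1 | h1
    · exact ic.2.ne_zero h1
    · exact (g ^ (ic.1 : ℕ)).ne_zero h1⟩
  have hf : Function.Injective f := by
    rintro ⟨i, c⟩ ⟨j, e⟩ h
    have hPP : P (i, c) = P (j, e) := by
      ext k
      rcases lt_or_ge k d with hk | hk
      · exact congrFun (congrArg Subtype.val h) ⟨k, hk⟩
      · rw [Polynomial.coeff_eq_zero_of_degree_lt (lt_of_lt_of_le (hdeg _) (by exact_mod_cast hk)),
          Polynomial.coeff_eq_zero_of_degree_lt (lt_of_lt_of_le (hdeg _) (by exact_mod_cast hk))]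
    have h1 := congrArg (aeval x) hPP
    rw [hP, hP] at h1
    simp only at h1
    have hij : i = j := by
      have h2 : ((g : GL (Fin d) F ⧸ Subgroup.center (GL (Fin d) F))) ^ (i : ℕ) = (g : GL (Fin d) F ⧸ Subgroup.center (GL (Fin d) F)) ^ (j : ℕ) := by
        rw [← QuotientGroup.mk_pow, ← QuotientGroup.mk_pow, QuotientGroup.eq,
          Matrix.GeneralLinearGroup.mem_center_iff_val_mem_range_scalar]
        refine ⟨(c : F) / (e : F), ?_⟩
        have h3 : ((g ^ (j : ℕ) : GL (Fin d) F) : Matrix (Fin d) (Fin d) F) = ((c : F) / (e : F)) • ((g ^ (i : ℕ) : GL (Fin d) F) : Matrix (Fin d) (Fin d) F) := by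
          rw [div_eq_mul_inv, mul_comm, mul_smul, h1, inv_smul_smul₀ e.ne_zero]
        rw [Units.val_mul, h3, mul_smul_comm, Units.inv_mul, Matrix.smul_one_eq_diagonal]
        rfl
      exact Fin.ext (pow_injOn_Iio_orderOf (Set.mem_Iio.2 i.2) (Set.mem_Iio.2 j.2) h2)
    subst hij
    have h4 : c = e := Units.ext (smul_left_injective F (g ^ (i : ℕ)).ne_zero h1)
    rw [h4]
  have hcard := Fintype.card_le_of_injective f hf
  rw [Fintype.card_prod, Fintype.card_fin, Fintype.card_units, Fintype.card_subtype_compl,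
    Fintype.card_fun, Fintype.card_fin, Fintype.card_subtype_eq] at hcard
  rw [mul_comm]
  exact hcard

/-- A Singer cycle. -/
theorem exists_singer {F : Type*} [Field F] [Fintype F] (d : ℕ) (hd : 1 ≤ d) :
    ∃ g : GL (Fin d) F, (Fintype.card F ^ d - 1) ∣
      (Fintype.card F - 1) * orderOf (g : GL (Fin d) F ⧸ Subgroup.center (GL (Fin d) F)) := by
  classical
  haveI : NeZero d := ⟨by omega⟩
  obtain ⟨p, _⟩ := CharP.exists F
  haveI : Fact p.Prime := ⟨CharP.char_is_prime F p⟩
  let K := FiniteField.Extension F p d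
  haveI : Fintype K := Fintype.ofFinite K
  let b : Module.Basis (Fin d) F K := Module.finBasisOfFinrankEq F K (FiniteField.finrank_extension F p d)
  let L : Kˣ →* GL (Fin d) F := Units.map (Algebra.leftMulMatrix b : K →* Matrix (Fin d) (Fin d) F)
  obtain ⟨z, hz⟩ := IsCyclic.exists_ofOrder_eq_natCard (α := Kˣ)
  refine ⟨L z, ?_⟩
  set n := orderOf (L z : GL (Fin d) F ⧸ Subgroup.center (GL (Fin d) F)) with hn
  have h1 : L (z ^ n) ∈ Subgroup.center (GL (Fin d) F) := by
    rw [map_pow, ← QuotientGroup.eq_one_iff, QuotientGroup.mk_pow, hn, pow_orderOf_eq_one]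
  rw [Matrix.GeneralLinearGroup.mem_center_iff_val_mem_range_scalar] at h1
  obtain ⟨c, hc⟩ := h1
  have h2 : algebraMap F K c = ((z ^ n : Kˣ) : K) := by
    refine Algebra.leftMulMatrix_injective b ?_
    rw [AlgHom.commutes]
    exact hc
  have h3 : z ^ ((Fintype.card F - 1) * n) = 1 := by
    apply Units.ext
    rw [mul_comm, pow_mul, Units.val_pow_eq_pow_val, ← h2, ← map_pow]
    have hc0 : c ≠ 0 := by
      rintro rfl
      rw [map_zero] at h2
      exact (z ^ n).ne_zero h2.symm
    rw [FiniteField.pow_card_sub_one_eq_one c hc0, map_one, Units.val_one]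
  have h4 := orderOf_dvd_of_pow_eq_one h3
  rwa [hz, Nat.card_units, FiniteField.natCard_extension, Nat.card_eq_fintype_card] at h4

/-- Let F be a finite field with q elements and d ≥ 1. Then every element of PGL_d(F) = GL_d(F)/Z has order at most (q^d − 1)/(q − 1), and some element (the image of a Singer cycle) has exactly this order. -/
theorem result {F : Type*} [Field F] [Fintype F] (d : ℕ) (hd : 1 ≤ d) :
    (∀ g : (GL (Fin d) F ⧸ Subgroup.center (GL (Fin d) F)), (Fintype.card F - 1) * orderOf g ≤ Fintype.card F ^ d - 1) ∧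
    (∃ g : (GL (Fin d) F ⧸ Subgroup.center (GL (Fin d) F)), (Fintype.card F - 1) * orderOf g = Fintype.card F ^ d - 1) := by
  classical
  have hq : 1 < Fintype.card F := Fintype.one_lt_card
  refine ⟨fun g => ?_, ?_⟩
  · induction g using QuotientGroup.induction_on with
    | H x => exact upper d hd x
  · obtain ⟨g, hg⟩ := exists_singer (F := F) d hd
    refine ⟨(g : GL (Fin d) F ⧸ Subgroup.center (GL (Fin d) F)), le_antisymm (upper d hd g) (Nat.le_of_dvd ?_ hg)⟩
    exact Nat.mul_pos (by omega) (orderOf_pos _)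

end Cfsg.Agent.S2261
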