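import Cfsg.Statements.S3704
import Cfsg.Agent.EqLemmas

set_option autoImplicit false
open Cfsg

namespace Cfsg.Agent.S3704

/-- Two invariant real matrices with vanishing row sums between a transitive set and a two-transitive set
of the same size are proportional. -/
theorem proportional {G X Ω : Type*} [Group G] [Fintype X] [Fintype Ω] [DecidableEq Ω] [MulAction G X] [MulAction G Ω]
    (hXΩ : Fintype.card X = Fintype.card Ω) (h2 : MulAction.IsMultiplyPretransitive G Ω 2)
    (L M : X → Ω → ℝ) (hLi : ∀ (g : G) x y, L (g • x) (g • y) = L x y) (hMi : ∀ (g : G) x y, M (g • x) (g • y) = M x y)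
    (hLr : ∀ x, ∑ y, L x y = 0) (hMr : ∀ x, ∑ y, M x y = 0) (hLne : L ≠ 0) (y₀ y₁ : Ω) (hy : y₀ ≠ y₁) :
    ∃ c : ℝ, M = c • L := by
  haveI : MulAction.IsPretransitive G Ω := MulAction.isPretransitive_of_is_two_pretransitive
  have hn : (0 : ℝ) < Fintype.card Ω := by exact_mod_cast Fintype.card_pos_iff.mpr ⟨y₀⟩
  -- column sums vanish
  have col : ∀ K : X → Ω → ℝ, (∀ (g : G) x y, K (g • x) (g • y) = K x y) → (∀ x, ∑ y, K x y = 0) →
      ∀ y, ∑ x, K x y = 0 := fun K hK hr y => by
    have hconst : ∀ z, ∑ x, K x z = ∑ x, K x y := fun z => by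
      obtain ⟨g, rfl⟩ := MulAction.exists_smul_eq G y z
      exact (Fintype.sum_equiv (MulAction.toPerm g) _ _ fun x => (hK g x y).symm).symm
    have h0 : ∑ z, ∑ x, K x z = 0 := by rw [Finset.sum_comm]; simp [hr]
    rw [Finset.sum_congr rfl fun z _ => hconst z, Finset.sum_const, nsmul_eq_mul, Finset.card_univ] at h0
    exact (mul_eq_zero.mp h0).resolve_left hn.ne'
  -- the scalar product of columns
  have gram : ∀ K : X → Ω → ℝ, (∀ (g : G) x y, K (g • x) (g • y) = K x y) → (∀ x, ∑ y, K x y = 0) →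
      ∀ y z, ∑ x, L x y * K x z = (∑ x, L x y₀ * K x y₁) *
        (if y = z then 1 - (Fintype.card Ω : ℝ) else 1) := fun K hK hr => by
    have hoff : ∀ y z, y ≠ z → ∑ x, L x y * K x z = ∑ x, L x y₀ * K x y₁ := fun y z hyz => by
      obtain ⟨g, hg0, hg1⟩ := MulAction.is_two_pretransitive_iff.mp h2 hy hyz
      rw [← hg0, ← hg1]
      exact (Fintype.sum_equiv (MulAction.toPerm g) _ _ fun x => by
        simp [hLi, hK]).symm
    intro y z
    by_cases e : y = z
    · subst e
      rw [if_pos rfl]
      have h0 : ∑ z, ∑ x, L x y * K x z = 0 := by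
        rw [Finset.sum_comm]; simp [← Finset.mul_sum, hr]
      rw [← Finset.add_sum_erase _ _ (Finset.mem_univ y),
        Finset.sum_congr rfl (fun z hz => hoff y z (Finset.ne_of_mem_erase hz).symm), Finset.sum_const,
        nsmul_eq_mul, Finset.card_erase_of_mem (Finset.mem_univ y), Finset.card_univ,
        Nat.cast_sub (Fintype.card_pos_iff.mpr ⟨y₀⟩)] at h0
      push_cast at h0 ⊢
      linarith
    · rw [if_neg e, mul_one]; exact hoff y z e
  set d := ∑ x, L x y₀ * L x y₁ with hd
  have hd0 : d ≠ 0 := fun h => hLne (funext fun x => funext fun y => by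
    have := gram L hLi hLr y y
    rw [← hd, h, zero_mul] at this
    exact mul_self_eq_zero.mp ((Finset.sum_eq_zero_iff_of_nonneg fun i _ => mul_self_nonneg _).mp this x (Finset.mem_univ x)))
  set c := (∑ x, L x y₀ * M x y₁) / d with hc
  refine ⟨c, ?_⟩
  set B : X → Ω → ℝ := M - c • L with hB
  have hBi : ∀ (g : G) x y, B (g • x) (g • y) = B x y := fun g x y => by simp [hB, hMi, hLi]
  have hBr : ∀ x, ∑ y, B x y = 0 := fun x => by simp [hB, Finset.sum_sub_distrib, ← Finset.mul_sum, hMr, hLr]
  have hLB : ∀ y z, ∑ x, L x y * B x z = 0 := fun y z => by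
    rw [gram B hBi hBr y z]
    have : ∑ x, L x y₀ * B x y₁ = 0 := by
      simp only [hB, Pi.sub_apply, Pi.smul_apply, smul_eq_mul, mul_sub, Finset.sum_sub_distrib, mul_left_comm _ c,
        ← Finset.mul_sum]
      rw [← hd, hc, div_mul_cancel₀ _ hd0, sub_self]
    rw [this, zero_mul]
  let T : (Ω → ℝ) →ₗ[ℝ] (X → ℝ) :=
    { toFun := fun v x => ∑ y, (L x y + 1) * v y
      map_add' := fun u v => by ext x; simp [mul_add, Finset.sum_add_distrib]
      map_smul' := fun r v => by ext x; simp [Finset.mul_sum, mul_left_comm] }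
  have hTinj : Function.Injective T := by
    rw [injective_iff_map_eq_zero]
    intro v hv
    have hx : ∀ x, (∑ y, L x y * v y) + ∑ y, v y = 0 := fun x => by
      have := congrFun hv x
      simpa [T, add_mul, Finset.sum_add_distrib] using this
    have hs : ∑ y, v y = 0 := by
      have h0 : ∑ x, ((∑ y, L x y * v y) + ∑ y, v y) = 0 := Finset.sum_eq_zero fun x _ => hx x
      rw [Finset.sum_add_distrib, Finset.sum_comm, Finset.sum_const, nsmul_eq_mul, Finset.card_univ, hXΩ] at h0
      simp only [← Finset.sum_mul, col L hLi hLr, zero_mul, Finset.sum_const_zero, zero_add] at h0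
      exact (mul_eq_zero.mp h0).resolve_left hn.ne'
    funext y
    have h0 : ∑ x, L x y * (∑ z, L x z * v z) = 0 := Finset.sum_eq_zero fun x _ => by
      have := hx x; rw [hs, add_zero] at this; rw [this, mul_zero]
    simp only [Finset.mul_sum] at h0
    rw [Finset.sum_comm] at h0
    rw [Finset.sum_congr rfl (fun z _ => show ∑ x, L x y * (L x z * v z) = d * (if y = z then 1 - (Fintype.card Ω : ℝ) else 1) * v z by
      rw [hd, ← gram L hLi hLr y z, Finset.sum_mul]; exact Finset.sum_congr rfl fun x _ => (mul_assoc _ _ _).symm)] at h0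
    have e : ∀ z, d * (if y = z then 1 - (Fintype.card Ω : ℝ) else 1) * v z
        = d * v z - (if y = z then d * Fintype.card Ω * v z else 0) := fun z => by split_ifs <;> ring
    simp only [e, Finset.sum_sub_distrib, Finset.sum_ite_eq, Finset.mem_univ, if_true, ← Finset.mul_sum, hs,
      mul_zero, zero_sub, neg_eq_zero] at h0
    exact (mul_eq_zero.mp h0).resolve_left (mul_ne_zero hd0 hn.ne')
  have hTsurj : Function.Surjective T :=
    (LinearMap.injective_iff_surjective_of_finrank_eq_finrank (by simp [hXΩ])).mp hTinj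
  funext x z
  obtain ⟨w, hw⟩ := hTsurj (fun x => B x z)
  have hsq : ∑ x, B x z * B x z = 0 := by
    have hw' : ∀ x, ∑ y, (L x y + 1) * w y = B x z := fun x => congrFun hw x
    calc ∑ x, B x z * B x z = ∑ x, ∑ y, (L x y + 1) * w y * B x z :=
          Finset.sum_congr rfl fun x _ => by rw [← Finset.sum_mul, hw']
      _ = ∑ y, w y * ((∑ x, L x y * B x z) + ∑ x, B x z) := by
          rw [Finset.sum_comm]
          refine Finset.sum_congr rfl fun y _ => ?_
          rw [← Finset.sum_add_distrib, Finset.mul_sum]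
          exact Finset.sum_congr rfl fun x _ => by ring
      _ = 0 := by simp [hLB, col B hBi hBr]
  have := mul_self_eq_zero.mp ((Finset.sum_eq_zero_iff_of_nonneg fun i _ => mul_self_nonneg _).mp hsq x (Finset.mem_univ x))
  simp only [hB, Pi.sub_apply, sub_eq_zero] at this
  exact this


/-- Let G be a finite group acting faithfully and 2-transitively on a finite set Ω of size n, and let H be a subgroup of index n in G which is not transitive on Ω and fixes no point of Ω. Then H has exactly two orbits on Ω. -/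
theorem result {G Ω : Type*} [Group G] [Finite G] [MulAction G Ω] [FaithfulSMul G Ω] [Finite Ω] (h2 : MulAction.IsMultiplyPretransitive G Ω 2) (H : Subgroup G) (hidx : H.index = Nat.card Ω) (hnt : ¬ MulAction.IsPretransitive H Ω) (hfix : ∀ a : Ω, ∃ h : H, h • a ≠ a) : Nat.card (MulAction.orbitRel.Quotient H Ω) = 2 := by
  classical
  haveI : Fintype Ω := Fintype.ofFinite Ω
  haveI : Fintype (G ⧸ H) := Fintype.ofFinite _
  have hne : Nonempty Ω := by
    have : H.index ≠ 0 := Subgroup.index_ne_zero_of_finite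
    rw [hidx] at this
    exact (Nat.card_ne_zero.mp this).1
  set O := MulAction.orbitRel.Quotient H Ω
  haveI : Nonempty O := hne.map (Quotient.mk'' : Ω → O)
  haveI : Finite O := Quotient.finite _
  rw [Nat.card_eq_fintype_card (α := Ω)] at hidx
  have hge : 2 ≤ Nat.card O := by
    by_contra hc
    have h1 : Nat.card O = 1 := by have := Nat.card_pos (α := O); omega
    haveI := (Nat.card_eq_one_iff_unique.mp h1).1
    exact hnt ⟨fun x y => MulAction.mem_orbit_iff.mp (MulAction.orbitRel_apply.mp
      (Quotient.exact' (Subsingleton.elim (Quotient.mk'' y : O) (Quotient.mk'' x))))⟩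
  by_contra hne2
  haveI : Fintype O := Fintype.ofFinite O
  have h3 : 2 < Fintype.card O := by rw [← Nat.card_eq_fintype_card]; omega
  obtain ⟨a, b, c, hab, hac, hbc⟩ := Fintype.two_lt_card_iff.mp h3
  -- indicator of an orbit as an invariant matrix
  let K : O → (G ⧸ H) → Ω → ℝ := fun o x y => if (Quotient.mk'' (x.out⁻¹ • y) : O) = o then 1 else 0
  have hKout : ∀ (x : G ⧸ H) (g : G) (y : Ω), (g : G ⧸ H) = x → (Quotient.mk'' (x.out⁻¹ • y) : O) = Quotient.mk'' (g⁻¹ • y) := by
    intro x g y hg
    apply Quotient.sound'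
    rw [MulAction.orbitRel_apply, MulAction.mem_orbit_iff]
    have hm : x.out⁻¹ * g ∈ H := QuotientGroup.eq.mp (by rw [QuotientGroup.out_eq', hg])
    exact ⟨⟨_, hm⟩, by rw [Subgroup.smul_def, smul_smul, mul_assoc]; simp⟩
  have hKi : ∀ o, ∀ (g : G) x y, K o (g • x) (g • y) = K o x y := fun o g x y => by
    simp only [K]
    rw [hKout (g • x) (g * x.out) (g • y) (by
      rw [show ((g * x.out : G) : G ⧸ H) = g • (x.out : G ⧸ H) from rfl, QuotientGroup.out_eq']), mul_inv_rev, mul_smul, inv_smul_smul]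
  let r : O → ℝ := fun o => ∑ y : Ω, if (Quotient.mk'' y : O) = o then 1 else 0
  have hKr : ∀ o x, ∑ y, K o x y = r o := fun o x =>
    Fintype.sum_equiv (MulAction.toPerm x.out⁻¹) _ _ fun y => rfl
  have hr : ∀ o, r o ≠ 0 := fun o => by
    obtain ⟨y, hy⟩ := Quotient.mk''_surjective o
    refine ne_of_gt (lt_of_lt_of_le ?_ (Finset.single_le_sum (fun z _ => by positivity) (Finset.mem_univ y)))
    rw [if_pos hy]; exact one_pos
  let L : O → O → (G ⧸ H) → Ω → ℝ := fun o o' => r o' • K o - r o • K o'
  have hLi : ∀ o o', ∀ (g : G) x y, L o o' (g • x) (g • y) = L o o' x y := fun o o' g x y => by simp [L, hKi]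
  have hLr : ∀ o o' x, ∑ y, L o o' x y = 0 := fun o o' x => by
    simp only [L, Pi.sub_apply, Pi.smul_apply, smul_eq_mul, Finset.sum_sub_distrib, ← Finset.mul_sum, hKr]; ring
  have hval : ∀ o o' q : O, ∀ y, (Quotient.mk'' y : O) = q →
      L o o' ((1 : G) : G ⧸ H) y = r o' * (if q = o then 1 else 0) - r o * (if q = o' then 1 else 0) := fun o o' q y hy => by
    simp only [L, K, Pi.sub_apply, Pi.smul_apply, smul_eq_mul]
    rw [hKout _ 1 y rfl, inv_one, one_smul, hy]
  obtain ⟨ya, hya⟩ := Quotient.mk''_surjective a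
  obtain ⟨yb, hyb⟩ := Quotient.mk''_surjective b
  obtain ⟨yc, hyc⟩ := Quotient.mk''_surjective c
  have hyab : ya ≠ yb := fun e => hab (by rw [← hya, ← hyb, e])
  have hLne : L a b ≠ 0 := fun e => hr b (by
    have := congrFun (congrFun e ((1 : G) : G ⧸ H)) ya
    simpa [hval a b a ya hya, hab] using this)
  obtain ⟨t, ht⟩ := proportional (G := G) (X := G ⧸ H) (Ω := Ω)
    (by rw [← hidx, Subgroup.index, Nat.card_eq_fintype_card]) h2 (L a b) (L a c)
    (hLi a b) (hLi a c) (hLr a b) (hLr a c) hLne ya yb hyab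
  have := congrFun (congrFun ht ((1 : G) : G ⧸ H)) yc
  rw [Pi.smul_apply, Pi.smul_apply, hval a c c yc hyc, hval a b c yc hyc] at this
  simp [hac.symm, hbc.symm, hr a] at this

end Cfsg.Agent.S3704
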