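import Cfsg.Statements.S5057
import Cfsg.Agent.EqLemmas

set_option autoImplicit false
open Cfsg

namespace Cfsg.Agent.S5057

theorem cycleType_eq (a : ↥(alternatingGroup (Fin 6))) (ha : orderOf a = 2) :
    (a : Equiv.Perm (Fin 6)).cycleType = Multiset.replicate 2 2 := by
  have h2 : orderOf (a : Equiv.Perm (Fin 6)) = 2 := (Subgroup.orderOf_coe a).trans ha
  obtain ⟨n, hn⟩ := Equiv.Perm.cycleType_prime_order (σ := (a : Equiv.Perm (Fin 6))) (h2 ▸ Nat.prime_two)
  rw [h2] at hn
  have hsum := Equiv.Perm.sum_cycleType_le (a : Equiv.Perm (Fin 6))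
  rw [hn, Multiset.sum_replicate, smul_eq_mul, Fintype.card_fin] at hsum
  have hs : Equiv.Perm.sign (a : Equiv.Perm (Fin 6)) = 1 := Equiv.Perm.mem_alternatingGroup.mp a.2
  rw [Equiv.Perm.sign_of_cycleType', hn, Multiset.map_replicate, Multiset.prod_replicate] at hs
  have : n = 1 := by
    have h3 : n ≤ 2 := by omega
    interval_cases n
    · exact absurd hs (by decide)
    · rfl
    · exact absurd hs (by decide)
  rw [hn, this]

theorem conj_of (a b : ↥(alternatingGroup (Fin 6))) (ha : orderOf a = 2) (hb : orderOf b = 2) :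
    IsConj a b := by
  refine alternatingGroup.isConj_of
    (Equiv.Perm.isConj_iff_cycleType_eq.mpr ((cycleType_eq a ha).trans (cycleType_eq b hb).symm)) ?_
  rw [← Equiv.Perm.sum_cycleType, cycleType_eq a ha]
  decide

def d0 : Equiv.Perm (Fin 6) := Equiv.swap 0 1 * Equiv.swap 2 3

set_option maxRecDepth 100000 in
theorem check : ∀ b : Equiv.Perm (Fin 6), b * b = 1 → Equiv.Perm.sign b = 1 →
    d0 * b = b * d0 ∨ (d0 * b) ^ 3 = 1 ∨ (d0 * b) ^ 5 = 1 ∨
      ((d0 * b) ^ 4 = 1 ∧ (d0 * b) ^ 2 ≠ 1) := by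
  decide +kernel

theorem check' (a b : ↥(alternatingGroup (Fin 6))) (ha : orderOf a = 2) (hb : orderOf b = 2) :
    a * b = b * a ∨ (a * b) ^ 3 = 1 ∨ (a * b) ^ 5 = 1 ∨ ((a * b) ^ 4 = 1 ∧ (a * b) ^ 2 ≠ 1) := by
  have hmem : d0 ∈ alternatingGroup (Fin 6) := Equiv.Perm.mem_alternatingGroup.mpr (by decide +kernel)
  have hd : orderOf (⟨d0, hmem⟩ : ↥(alternatingGroup (Fin 6))) = 2 := by
    have hp : Fact (Nat.Prime 2) := ⟨Nat.prime_two⟩
    refine orderOf_eq_prime (Subtype.ext ?_) (fun h => ?_)
    · show d0 ^ 2 = 1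
      decide +kernel
    · exact absurd (congrArg Subtype.val h) (by show d0 ≠ 1; decide +kernel)
  obtain ⟨g, hg⟩ := isConj_iff.mp (conj_of _ a hd ha)
  obtain ⟨b', rfl⟩ : ∃ b', g * b' * g⁻¹ = b := ⟨g⁻¹ * b * g, by group⟩
  subst hg
  have hb' : orderOf b' = 2 := by rwa [← orderOf_injective (MulAut.conj g).toMonoidHom
    (MulAut.conj g).injective b']
  have e : (b' : Equiv.Perm (Fin 6)) * b' = 1 := by
    have := pow_orderOf_eq_one b'
    rw [hb', pow_two] at this
    exact congrArg Subtype.val this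
  have := check b' e (Equiv.Perm.mem_alternatingGroup.mp b'.2)
  set x : ↥(alternatingGroup (Fin 6)) := ⟨d0, hmem⟩
  have hx : (g * x * g⁻¹) * (g * b' * g⁻¹) = g * (x * b') * g⁻¹ := by group
  have hy : (g * b' * g⁻¹) * (g * x * g⁻¹) = g * (b' * x) * g⁻¹ := by group
  rw [hx, hy]
  simp only [conj_pow, conj_eq_one_iff, ne_eq, mul_left_inj, mul_right_inj]
  simpa [Subtype.ext_iff, x] using this


/-- The involutions of the alternating group of degree 6 form a class of root involutions (a single conjugacy class of involutions generating the group, any two of which commute, have product of odd order, or have product of order 4 whose square is again an involution of the class), and the product of any two of them has order at most 5. -/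
theorem result :
    Cfsg.IsRootInvolutionClass {g : ↥(alternatingGroup (Fin 6)) | orderOf g = 2} ∧
    ∀ d ∈ {g : ↥(alternatingGroup (Fin 6)) | orderOf g = 2}, ∀ e ∈ {g : ↥(alternatingGroup (Fin 6)) | orderOf g = 2},
      orderOf (d * e) ≤ 5 := by
  have hsimple : IsSimpleGroup (alternatingGroup (Fin 6)) := alternatingGroup.isSimpleGroup (by simp)
  have hconj : ∀ d, orderOf d = 2 → ∀ g : ↥(alternatingGroup (Fin 6)), orderOf (g * d * g⁻¹) = 2 := by
    intro d hd g
    exact ((orderOf_injective (MulAut.conj g).toMonoidHom (MulAut.conj g).injective d)).trans hd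
  obtain ⟨t, ht⟩ : ∃ t : ↥(alternatingGroup (Fin 6)), orderOf t = 2 := by
    have hp : Fact (Nat.Prime 2) := ⟨Nat.prime_two⟩
    exact exists_prime_orderOf_dvd_card' 2 (by
      rw [nat_card_alternatingGroup, Nat.card_eq_fintype_card, Fintype.card_fin]; decide)
  have hcomm : ∀ a b : ↥(alternatingGroup (Fin 6)), orderOf a = 2 → orderOf b = 2 → a * b = b * a →
      (a * b) ^ 2 = 1 := by
    intro a b ha hb h
    have ea := pow_orderOf_eq_one a
    have eb := pow_orderOf_eq_one b
    rw [ha] at ea; rw [hb] at eb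
    rw [Commute.mul_pow h, ea, eb, one_mul]
  refine ⟨⟨⟨fun d hd => hd, ?_, fun d hd g => hconj d hd g, ?_⟩, ⟨t, ht⟩, ?_⟩, ?_⟩
  · set N := Subgroup.closure {g : ↥(alternatingGroup (Fin 6)) | orderOf g = 2}
    have hN : N.Normal := by
      have : N = Subgroup.normalClosure {g : ↥(alternatingGroup (Fin 6)) | orderOf g = 2} := by
        refine le_antisymm Subgroup.closure_le_normalClosure ?_
        refine Subgroup.closure_mono fun x hx => ?_
        obtain ⟨a, ha, hax⟩ := Group.mem_conjugatesOfSet_iff.mp hx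
        obtain ⟨c, rfl⟩ := isConj_iff.mp hax
        exact hconj a ha c
      rw [this]; exact Subgroup.normalClosure_normal
    refine hN.eq_bot_or_eq_top.resolve_left fun h => ?_
    have : t ∈ N := Subgroup.subset_closure ht
    rw [h, Subgroup.mem_bot] at this
    rw [this, orderOf_one] at ht
    omega
  · intro a ha b hb
    rcases check' a b ha hb with h | h | h | ⟨h4, h2⟩
    · exact Or.inl h
    · exact Or.inr (Or.inl (Odd.of_dvd_nat (by decide) (orderOf_dvd_of_pow_eq_one h)))
    · exact Or.inr (Or.inl (Odd.of_dvd_nat (by decide) (orderOf_dvd_of_pow_eq_one h)))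
    · refine Or.inr (Or.inr ⟨?_, ?_⟩)
      · have hp : Fact (Nat.Prime 2) := ⟨Nat.prime_two⟩
        exact orderOf_eq_prime_pow (p := 2) (n := 1) (by simpa using h2) (by simpa using h4)
      · have hp : Fact (Nat.Prime 2) := ⟨Nat.prime_two⟩
        exact orderOf_eq_prime (by rwa [← pow_mul]) h2
  · intro a ha b hb
    obtain ⟨c, hc⟩ := isConj_iff.mp (conj_of a b ha hb)
    exact ⟨c, hc.symm⟩
  · intro d hd e he
    rcases check' d e hd he with h | h | h | ⟨h4, h2⟩
    · exact (orderOf_le_of_pow_eq_one (by norm_num) (hcomm d e hd he h)).trans (by norm_num)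
    · exact (orderOf_le_of_pow_eq_one (by norm_num) h).trans (by norm_num)
    · exact (orderOf_le_of_pow_eq_one (by norm_num) h)
    · exact (orderOf_le_of_pow_eq_one (by norm_num) h4).trans (by norm_num)

end Cfsg.Agent.S5057
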