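import Cfsg.Statements.S0548
import Cfsg.Agent.Lib.Cores.CoreFree
import Cfsg.Agent.Lib.Solvable.Basic

set_option autoImplicit false
open Cfsg

namespace Cfsg.Agent.S0548

/-- Let a finite solvable group G act faithfully and primitively on a set, let M be a minimal normal subgroup and H the stabilizer of a point. Then H is a complement to M, no non-identity element of H centralizes M, and the only subgroups of M normalized by H are the trivial subgroup and M. -/
theorem result {G : Type*} [Group G] [Finite G] [Group.IsSolvable G] {Ω : Type*} [MulAction G Ω] [FaithfulSMul G Ω] (hprim : MulAction.IsPreprimitive G Ω) (M : Subgroup G) [M.Normal] (hM : M ≠ ⊥) (hmin : ∀ K : Subgroup G, K.Normal → K ≤ M → K = ⊥ ∨ K = M) (ω : Ω) : Subgroup.IsComplement' M (MulAction.stabilizer G ω) ∧ MulAction.stabilizer G ω ⊓ Subgroup.centralizer (M : Set G) = ⊥ ∧ ∀ K : Subgroup G, K ≤ M → MulAction.stabilizer G ω ≤ Subgroup.normalizer (K : Set G) → K = ⊥ ∨ K = M := by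
  obtain ⟨hMc, p, hp, hpg, -⟩ :=
    Cfsg.Agent.Solvable.elementaryAbelian_of_minimal_normal M hM hmin
  have hnt : Nontrivial Ω := by
    rcases subsingleton_or_nontrivial Ω with h | h
    · exfalso
      exact hM ((Subgroup.eq_bot_iff_forall M).mpr fun m _ =>
        eq_of_smul_eq_smul (α := Ω) fun x => Subsingleton.elim _ _)
    · exact h
  have hco : IsCoatom (MulAction.stabilizer G ω) :=
    MulAction.IsPreprimitive.isCoatom_stabilizer_of_isPreprimitive G ω
  have hcore : (MulAction.stabilizer G ω).normalCore = ⊥ := by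
    refine (Subgroup.eq_bot_iff_forall _).mpr fun u hu => ?_
    refine eq_of_smul_eq_smul (α := Ω) fun x => ?_
    obtain ⟨g, rfl⟩ := MulAction.exists_smul_eq G ω x
    have h1 := (Subgroup.normalCore_le (MulAction.stabilizer G ω))
      ((Subgroup.normalCore_normal _).conj_mem u hu g⁻¹)
    rw [MulAction.mem_stabilizer_iff] at h1
    rw [one_smul]
    conv_rhs => rw [← h1]
    simp [mul_smul]
  set U := MulAction.stabilizer G ω
  have hC := Cfsg.Agent.Cores.centralizer_inf_eq_bot_of_coreFree hco hcore M hM
  have hMU : M ⊓ U = ⊥ := le_bot_iff.mp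
    ((inf_le_inf_right U (Subgroup.le_centralizer M)).trans hC.le)
  have htop := Cfsg.Agent.Cores.sup_eq_top_of_coreFree hco hcore M hM
  refine ⟨Cfsg.Agent.Cores.eq_bot_of_inf_eq_bot_of_sup hMU htop, by rw [inf_comm]; exact hC,
    fun K hK hKn => hmin K ?_ hK⟩
  rw [← Subgroup.normalizer_eq_top_iff, ← top_le_iff, ← htop]
  exact sup_le hKn ((Subgroup.le_centralizer M).trans
    ((Subgroup.centralizer_le hK).trans (Subgroup.centralizer_le_normalizer _)))

end Cfsg.Agent.S0548
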