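import Cfsg.Statements.S5737
import Cfsg.Agent.Lib.Suzuki.BinaryCount
import Cfsg.Agent.Lib.Suzuki.LieModel

set_option autoImplicit false
open Cfsg

namespace Cfsg.Agent.S5737

lemma mem_center_map_iff {G : Type*} [Group G] (K : Subgroup G) (x : G) :
    x ∈ (Subgroup.center K).map K.subtype ↔ x ∈ K ∧ ∀ k ∈ K, k * x = x * k := by
  constructor
  · rintro ⟨⟨y, hy⟩, hc, rfl⟩
    exact ⟨hy, fun k hk => congrArg Subtype.val (Subgroup.mem_center_iff.mp hc ⟨k, hk⟩)⟩
  · rintro ⟨hx, hc⟩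
    exact ⟨⟨x, hx⟩, Subgroup.mem_center_iff.mpr fun k => Subtype.ext (hc k.1 k.2), rfl⟩

lemma center_map_equiv {G G' : Type*} [Group G] [Group G'] (f : G ≃* G') (K : Subgroup G) :
    (Subgroup.center ↥(K.map f.toMonoidHom)).map (K.map f.toMonoidHom).subtype =
      ((Subgroup.center K).map K.subtype).map f.toMonoidHom := by
  ext x
  obtain ⟨y, rfl⟩ := f.surjective x
  rw [mem_center_map_iff, show f y = f.toMonoidHom y from rfl,
    Subgroup.mem_map_iff_mem (f := f.toMonoidHom) f.injective,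
    Subgroup.mem_map_iff_mem (f := f.toMonoidHom) f.injective, mem_center_map_iff]
  refine and_congr_right fun _ => ⟨fun h k hk => f.injective ?_, ?_⟩
  · rw [map_mul, map_mul]
    exact h _ ⟨k, hk, rfl⟩
  · rintro h _ ⟨k, hk, rfl⟩
    show f k * f y = f y * f k
    rw [← map_mul, ← map_mul, h k hk]

/-- Let G = Sz(q) be a Suzuki group, q = 2^(2a+1) with a ≥ 1 (realised inside Sp₄ over the field with q elements), and let H be a proper subgroup of G. Then the action of G on the cosets of H is binary if and only if H is trivial or H is the centre of a Sylow 2-subgroup of G. Here an action is binary (relational complexity 2) when, for every n ≥ 2 and all n-tuples I, J of points, if for every pair of positions some group element carries the corresponding pair of entries of I to those of J, then a single group element carries I to J. -/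
theorem result {F : Type*} [Field F] [Fintype F] (a : ℕ) (ha : 1 ≤ a) (hF : Fintype.card F = 2 ^ (2 * a + 1))
    (H : Subgroup (Cfsg.Lie.Sz F (2 ^ (a + 1)))) (hH : H ≠ ⊤) :
    (∀ (n : ℕ) (I J : Fin n → (Cfsg.Lie.Sz F (2 ^ (a + 1))) ⧸ H), 2 ≤ n →
        (∀ i j : Fin n, i ≠ j → ∃ g : (Cfsg.Lie.Sz F (2 ^ (a + 1))), g • I i = J i ∧ g • I j = J j) → ∃ g : (Cfsg.Lie.Sz F (2 ^ (a + 1))), ∀ i, g • I i = J i) ↔
      (H = ⊥ ∨ ∃ P : Sylow 2 (Cfsg.Lie.Sz F (2 ^ (a + 1))), H = (Subgroup.center (P : Subgroup (Cfsg.Lie.Sz F (2 ^ (a + 1))))).map (P : Subgroup (Cfsg.Lie.Sz F (2 ^ (a + 1)))).subtype) := by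
  classical
  let e : ↥(Cfsg.Sz F a) ≃* ↥(Cfsg.Lie.Sz F (2 ^ (a + 1))) := Cfsg.Agent.Suzuki.lieEquiv ha hF
  haveI : Fact (Nat.Prime 2) := ⟨Nat.prime_two⟩
  letI : MulAction ↥(Cfsg.Sz F a) (↥(Cfsg.Lie.Sz F (2 ^ (a + 1))) ⧸ H) :=
    MulAction.compHom _ e.toMonoidHom
  have hsmul : ∀ (g : ↥(Cfsg.Sz F a)) (x : ↥(Cfsg.Lie.Sz F (2 ^ (a + 1))) ⧸ H),
      g • x = e g • x := fun _ _ => rfl
  haveI : MulAction.IsPretransitive ↥(Cfsg.Sz F a) (↥(Cfsg.Lie.Sz F (2 ^ (a + 1))) ⧸ H) := by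
    refine ⟨fun x y => ?_⟩
    obtain ⟨g, hg⟩ := MulAction.exists_smul_eq ↥(Cfsg.Lie.Sz F (2 ^ (a + 1))) x y
    exact ⟨e.symm g, by rw [hsmul, e.apply_symm_apply, hg]⟩
  have hst : MulAction.stabilizer ↥(Cfsg.Sz F a)
      ((1 : ↥(Cfsg.Lie.Sz F (2 ^ (a + 1)))) : ↥(Cfsg.Lie.Sz F (2 ^ (a + 1))) ⧸ H) =
        H.comap e.toMonoidHom := by
    ext g
    rw [MulAction.mem_stabilizer_iff, hsmul, MulAction.Quotient.smul_mk, smul_eq_mul, mul_one,
      QuotientGroup.eq, mul_one, inv_mem_iff]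
    rfl
  have hback : ∀ L : Subgroup ↥(Cfsg.Sz F a),
      H.comap e.toMonoidHom = L ↔ H = L.map e.toMonoidHom := by
    intro L
    constructor
    · rintro rfl
      exact (Subgroup.map_comap_eq_self_of_surjective e.surjective H).symm
    · rintro rfl
      exact Subgroup.comap_map_eq_self_of_injective e.injective L
  have hne : H.comap e.toMonoidHom ≠ ⊤ := by
    rw [Ne, hback, Subgroup.map_top_of_surjective _ e.surjective]
    exact hH
  have hbin : (∀ (n : ℕ) (I J : Fin n → (Cfsg.Lie.Sz F (2 ^ (a + 1))) ⧸ H), 2 ≤ n →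
      (∀ i j : Fin n, i ≠ j → ∃ g : (Cfsg.Lie.Sz F (2 ^ (a + 1))), g • I i = J i ∧ g • I j = J j) →
        ∃ g : (Cfsg.Lie.Sz F (2 ^ (a + 1))), ∀ i, g • I i = J i) ↔
      Cfsg.Agent.Suzuki.BinaryAct.Binary ↥(Cfsg.Sz F a)
        (↥(Cfsg.Lie.Sz F (2 ^ (a + 1))) ⧸ H) := by
    constructor
    · intro h n I J hn hp
      obtain ⟨g, hg⟩ := h n I J hn fun i j hij => by
        obtain ⟨g, h1, h2⟩ := hp i j hij
        exact ⟨e g, h1, h2⟩
      exact ⟨e.symm g, fun i => by rw [hsmul, e.apply_symm_apply, hg i]⟩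
    · intro h n I J hn hp
      obtain ⟨g, hg⟩ := h n I J hn fun i j hij => by
        obtain ⟨g, h1, h2⟩ := hp i j hij
        exact ⟨e.symm g, by rw [hsmul, e.apply_symm_apply, h1],
          by rw [hsmul, e.apply_symm_apply, h2]⟩
      exact ⟨e g, hg⟩
  rw [hbin, Cfsg.Agent.Suzuki.BinaryAct.binary_iff ha hF (hst ▸ hne), hst, hback, Subgroup.map_bot]
  refine or_congr_right ?_
  -- centres of Sylow subgroups
  have hZ : (Subgroup.center (Cfsg.Agent.Suzuki.uSub hF)).map (Cfsg.Agent.Suzuki.uSub hF).subtype =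
      Cfsg.Agent.Suzuki.zSub hF := by
    rw [Cfsg.Agent.Suzuki.uSub_center_eq ha hF,
      Subgroup.map_subgroupOf_eq_of_le (Cfsg.Agent.Suzuki.zSub_le hF)]
  have hcs : ∀ s : ↥(Cfsg.Sz F a),
      ((Cfsg.Agent.Suzuki.zSub hF).map (MulAut.conj s).toMonoidHom).map e.toMonoidHom =
        (Subgroup.center ↥((Cfsg.Agent.Suzuki.uSub hF).map
          ((MulAut.conj s).trans e).toMonoidHom)).map
          ((Cfsg.Agent.Suzuki.uSub hF).map ((MulAut.conj s).trans e).toMonoidHom).subtype := by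
    intro s
    rw [center_map_equiv, hZ, Subgroup.map_map]
    rfl
  constructor
  · rintro ⟨s, hs⟩
    rw [hback] at hs
    let P : Sylow 2 ↥(Cfsg.Lie.Sz F (2 ^ (a + 1))) :=
      (s • Cfsg.Agent.Suzuki.uSylow ha hF).mapSurjective (f := e.toMonoidHom) e.surjective
    have hP : (P : Subgroup ↥(Cfsg.Lie.Sz F (2 ^ (a + 1)))) =
        (Cfsg.Agent.Suzuki.uSub hF).map ((MulAut.conj s).trans e).toMonoidHom := by
      show ((s • Cfsg.Agent.Suzuki.uSylow ha hF : Sylow 2 _) : Subgroup _).map e.toMonoidHom = _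
      rw [Sylow.coe_subgroup_smul, Cfsg.Agent.Suzuki.coe_uSylow]
      exact Subgroup.map_map _ e.toMonoidHom (MulAut.conj s).toMonoidHom
    refine ⟨P, ?_⟩
    rw [hs, hcs, hP]
  · rintro ⟨P, hP⟩
    let Q : Sylow 2 ↥(Cfsg.Sz F a) :=
      P.mapSurjective (f := e.symm.toMonoidHom) e.symm.surjective
    obtain ⟨s, hs⟩ := MulAction.exists_smul_eq ↥(Cfsg.Sz F a) (Cfsg.Agent.Suzuki.uSylow ha hF) Q
    refine ⟨s, ?_⟩
    rw [hback, hcs, hP]
    have hPe : (P : Subgroup ↥(Cfsg.Lie.Sz F (2 ^ (a + 1)))) =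
        (Cfsg.Agent.Suzuki.uSub hF).map ((MulAut.conj s).trans e).toMonoidHom := by
      have h1 : (P : Subgroup ↥(Cfsg.Lie.Sz F (2 ^ (a + 1)))) =
          (Q : Subgroup ↥(Cfsg.Sz F a)).map e.toMonoidHom := by
        show _ = ((P : Subgroup _).map e.symm.toMonoidHom).map e.toMonoidHom
        rw [Subgroup.map_map]
        ext x
        simp
      rw [h1, ← hs, Sylow.coe_subgroup_smul, Cfsg.Agent.Suzuki.coe_uSylow]
      exact Subgroup.map_map _ e.toMonoidHom (MulAut.conj s).toMonoidHom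
    rw [hPe]

end Cfsg.Agent.S5737
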