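import Cfsg.Statements.S0887
import Cfsg.Agent.Lib.CharExtend.DegreeRatio

set_option autoImplicit false
open Cfsg

namespace Cfsg.Agent.S0887

open Cfsg.Agent.Char Cfsg.Agent.CliffordChar

/-- The invariant case. -/
lemma invariant_case {G : Type*} [Group G] [Fintype G] (N : Subgroup G) [hN : N.Normal] [Fintype N]
    (χ : G → ℂ) (hχ : Cfsg.IsIrrCharacter G χ) (θ : N → ℂ) (hθ : Cfsg.IsIrrCharacter N θ)
    (hinv : ∀ x : G, CliffordChar.conjFun N x θ = θ) (e : ℕ) (he : Cfsg.classInner (fun n : N => χ n) θ = e)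
    (he0 : e ≠ 0) : e ∣ N.index ∧ χ 1 = e * θ 1 := by
  classical
  have hO : Cfsg.classInner (orbitSum N θ) θ = (Nat.card G : ℂ) := by
    rw [classInner_orbitSum N hθ hθ, Finset.filter_true_of_mem fun x _ => hinv x, Finset.card_univ,
      Nat.card_eq_fintype_card]
  have hne : Cfsg.classInner (fun n : N => χ n) θ ≠ 0 := by rw [he]; exact_mod_cast he0
  have h1 := congrFun (restrict_eq N hχ hθ hne) 1
  have hO1 : orbitSum N θ 1 = (Nat.card G : ℂ) * θ 1 := by
    simp [orbitSum, Finset.sum_apply, Cfsg.Agent.CliffordChar.conjFun, Nat.card_eq_fintype_card]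
  have hG : (Nat.card G : ℂ) ≠ 0 := Nat.cast_ne_zero.mpr Nat.card_pos.ne'
  have hdeg : χ 1 = e * θ 1 := by
    rw [he, hO, Pi.smul_apply, hO1, smul_eq_mul] at h1
    simp only [OneMemClass.coe_one] at h1
    rw [h1]; field_simp
  refine ⟨?_, hdeg⟩
  obtain ⟨d, ρ, hρ, rfl⟩ := hθ
  obtain ⟨c, σ, hσ, rfl⟩ := hχ
  haveI := hρ
  haveI := hσ
  have hrank : Module.finrank ℂ (CharExtend.MS ρ σ) = e := by
    have h : Cfsg.classInner (Representation.character (σ.comp N.subtype)) ρ.character = (e : ℂ) := he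
    rw [classInner_character_eq_finrank] at h
    exact_mod_cast h
  rw [← hrank]
  refine CharExtend.multiplicity_dvd_index ρ σ (fun g x => ?_) (hrank ▸ he0) ?_
  · have := congrFun (hinv g⁻¹) x
    rw [CliffordChar.conjFun_apply] at this
    simpa using this
  · rw [hrank]
    rw [Representation.char_one, Representation.char_one, Module.finrank_fin_fun, Module.finrank_fin_fun] at hdeg
    exact_mod_cast hdeg

/-- Let N be a normal subgroup of the finite group G, χ an irreducible character of G and ϑ an irreducible character of N having nonzero inner product with the restriction of χ. If χ 1 = c and ϑ 1 = d as natural numbers, then d divides c and c / d divides the index of N. -/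
theorem result {G : Type*} [Group G] [Fintype G] (N : Subgroup G) [N.Normal] [Fintype N] (χ : G → ℂ) (hχ : Cfsg.IsIrrCharacter G χ) (ϑ : N → ℂ) (hϑ : Cfsg.IsIrrCharacter N ϑ) (hcon : Cfsg.classInner (fun n : N => χ n) ϑ ≠ 0) (c d : ℕ) (hc : χ 1 = c) (hd : ϑ 1 = d) : d ∣ c ∧ c / d ∣ N.index := by
  classical
  have hcl := IsIrrCharacter.isClassFunction hχ
  -- inertia group
  let I : Subgroup G :=
    { carrier := {x | CliffordChar.conjFun N x ϑ = ϑ}
      one_mem' := CliffordChar.conjFun_one N ϑ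
      mul_mem' := fun {x y} hx hy => by
        show CliffordChar.conjFun N (x * y) ϑ = ϑ
        rw [CliffordChar.conjFun_mul, show CliffordChar.conjFun N y ϑ = ϑ from hy, show CliffordChar.conjFun N x ϑ = ϑ from hx]
      inv_mem' := fun {x} hx => by
        show CliffordChar.conjFun N x⁻¹ ϑ = ϑ
        conv_lhs => rw [← (show CliffordChar.conjFun N x ϑ = ϑ from hx)]
        rw [← CliffordChar.conjFun_mul, inv_mul_cancel, conjFun_one] }
  have hNI : N ≤ I := by
    intro m hm
    show CliffordChar.conjFun N m ϑ = ϑ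
    funext n
    rw [CliffordChar.conjFun_apply]
    have := IsIrrCharacter.isClassFunction hϑ n (⟨m, hm⟩ : N)⁻¹
    rw [← this]
    congr 1
    ext; simp
  let N' : Subgroup I := N.subgroupOf I
  let eN : N' ≃* N := Subgroup.subgroupOfEquivOfLe hNI
  let θ' : N' → ℂ := fun n => ϑ (eN n)
  have hθ' : Cfsg.IsIrrCharacter N' θ' := IsIrrCharacter.comp_equiv hϑ eN
  haveI : Fintype I := Fintype.ofFinite I
  haveI : Fintype N' := Fintype.ofFinite N'
  haveI : Fintype (Cfsg.IrrCharacter I) := Fintype.ofFinite _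
  haveI : Fintype (Cfsg.IrrCharacter G) := Fintype.ofFinite _
  have hinner : ∀ f : G → ℂ, Cfsg.classInner (fun n : N' => f ((n : I) : G)) θ'
      = Cfsg.classInner (fun n : N => f n) ϑ := fun f =>
    classInner_comp_equiv eN (fun n : N => f n) ϑ
  obtain ⟨e, he⟩ := IsCharacter.classInner_nat (IsCharacter.restrict (IsIrrCharacter.isCharacter hχ) N)
    (IsIrrCharacter.isCharacter hϑ)
  have he0 : e ≠ 0 := fun h => hcon (by rw [he, h, Nat.cast_zero])
  -- a constituent over ϑ of the restriction to the inertia group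
  obtain ⟨m, hm, hm'⟩ := IsCharacter.decompose (IsCharacter.restrict (IsIrrCharacter.isCharacter hχ) I)
  have hn : ∀ φ : Cfsg.IrrCharacter I, ∃ k : ℕ,
      Cfsg.classInner (fun n : N' => (φ : I → ℂ) n) θ' = k := fun φ =>
    IsCharacter.classInner_nat (IsCharacter.restrict (IsIrrCharacter.isCharacter φ.2) N')
      (IsIrrCharacter.isCharacter hθ')
  choose k hk using hn
  have hsum : e = ∑ φ, m φ * k φ := by
    have h := hinner χ
    rw [he, show (fun n : N' => χ ((n : I) : G)) = ∑ φ : Cfsg.IrrCharacter I, (m φ : ℂ) • (fun n : N' => (φ : I → ℂ) n) from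
      funext fun n => by simpa [Finset.sum_apply] using congrFun hm (n : I)] at h
    rw [classInner_sum_left] at h
    simp only [classInner_smul_left, hk] at h
    exact_mod_cast h.symm
  obtain ⟨ψ, -, hψ⟩ : ∃ φ ∈ (Finset.univ : Finset (Cfsg.IrrCharacter I)), m φ * k φ ≠ 0 :=
    Finset.exists_ne_zero_of_sum_ne_zero (hsum ▸ he0)
  rw [mul_ne_zero_iff] at hψ
  obtain ⟨hdvd, hψ1⟩ := invariant_case N' (ψ : I → ℂ) ψ.2 θ' hθ' (fun x => by
    funext n
    rw [CliffordChar.conjFun_apply]
    have hx : CliffordChar.conjFun N (x : G) ϑ = ϑ := x.2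
    conv_rhs => rw [show θ' n = CliffordChar.conjFun N (x : G) ϑ (eN n) by rw [hx]]
    rw [CliffordChar.conjFun_apply]
    rfl) (k ψ) (hk ψ) hψ.2
  -- degree of χ
  obtain ⟨dθ, hdθ, hdθ'⟩ := IsIrrCharacter.exists_degree hϑ
  have hd' : dθ = d := by exact_mod_cast (hdθ'.symm.trans hd)
  subst hd'
  have hO : Cfsg.classInner (orbitSum N ϑ) ϑ = (Nat.card I : ℂ) := by
    rw [classInner_orbitSum N hϑ hϑ, Nat.card_eq_fintype_card, Fintype.card_subtype]
    congr 2
    ext x
    simp only [Finset.mem_filter, Finset.mem_univ, true_and]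
    rfl
  have hchi : c = I.index * e * dθ := by
    have h1 := congrFun (restrict_eq N hχ hϑ hcon) 1
    have hO1 : orbitSum N ϑ 1 = (Nat.card G : ℂ) * ϑ 1 := by
      simp [orbitSum, Finset.sum_apply, Cfsg.Agent.CliffordChar.conjFun, Nat.card_eq_fintype_card]
    have hI : (Nat.card I : ℂ) ≠ 0 := Nat.cast_ne_zero.mpr Nat.card_pos.ne'
    have hGI : (Nat.card G : ℂ) = (I.index : ℂ) * (Nat.card I : ℂ) := by exact_mod_cast I.index_mul_card.symm
    rw [he, hO, Pi.smul_apply, hO1, smul_eq_mul, hdθ', hGI] at h1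
    simp only [OneMemClass.coe_one, hc] at h1
    have : (c : ℂ) = ((I.index * e * dθ : ℕ) : ℂ) := by
      rw [h1]; push_cast; field_simp
    exact_mod_cast this
  have hke : k ψ ≤ e := by
    rw [hsum]
    exact le_trans (Nat.le_mul_of_pos_left _ (Nat.pos_of_ne_zero hψ.1))
      (Finset.single_le_sum (f := fun φ => m φ * k φ) (fun φ _ => Nat.zero_le _) (Finset.mem_univ ψ))
  have hek : e ≤ k ψ := by
    obtain ⟨a, ha, ha'⟩ := IsCharacter.decompose (IsCharacter.indFun I (IsIrrCharacter.isCharacter ψ.2))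
    have haχ : a ⟨χ, hχ⟩ ≠ 0 := by
      intro h0
      have := ha' ⟨χ, hχ⟩
      rw [h0, Nat.cast_zero, frobenius_reciprocity I _ hcl, ← classInner_conj_symm] at this
      rw [show Cfsg.classInner (fun h : I => χ h) (ψ : I → ℂ) = (m ψ : ℂ) from hm' ψ] at this
      exact hψ.1 (by simpa using this)
    choose deg hdeg0 hdeg using fun φ : Cfsg.IrrCharacter G => IsIrrCharacter.exists_degree φ.2
    have h1 := congrFun ha 1
    rw [indFun_one_apply, Finset.sum_apply] at h1
    simp only [Pi.smul_apply, smul_eq_mul, hdeg] at h1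
    have hθ1 : θ' 1 = (dθ : ℂ) := by simp [θ', hdθ']
    rw [hψ1, hθ1] at h1
    have h1' : I.index * (k ψ * dθ) = ∑ φ, a φ * deg φ := by exact_mod_cast h1
    have hcdeg : deg ⟨χ, hχ⟩ = c := by exact_mod_cast ((hdeg ⟨χ, hχ⟩).symm.trans hc)
    have hle : c ≤ I.index * (k ψ * dθ) := by
      rw [h1', ← hcdeg]
      exact le_trans (Nat.le_mul_of_pos_left _ (Nat.pos_of_ne_zero haχ))
        (Finset.single_le_sum (f := fun φ => a φ * deg φ) (fun φ _ => Nat.zero_le _) (Finset.mem_univ _))
    rw [hchi, mul_assoc] at hle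
    exact Nat.le_of_mul_le_mul_right (Nat.le_of_mul_le_mul_left hle
      (Nat.pos_of_ne_zero Subgroup.index_ne_zero_of_finite)) hdθ
  rw [hchi, Nat.mul_div_cancel _ hdθ]
  refine ⟨dvd_mul_left _ _, ?_⟩
  rw [← Subgroup.relIndex_mul_index hNI, le_antisymm hek hke, mul_comm (N.relIndex I)]
  exact mul_dvd_mul_left _ hdvd


end Cfsg.Agent.S0887
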