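import Cfsg.Statements.S4710
import Cfsg.Agent.Lib.RegPart.Contribution

set_option autoImplicit false
open Cfsg

namespace Cfsg.Agent.S4710

/-- Let p be a prime, M a maximal ideal of the algebraic integers containing p, and B a p-block of defect d of the finite group G containing k irreducible characters. If B contains a character of positive height then 2k ≤ p^(2d − 2); and every character in B has height 0 when d ≤ 1 and height at most d − 2 when d ≥ 2. -/
theorem result {G : Type*} [Group G] [Finite G] (p : ℕ) [Fact p.Prime] (M : Ideal Cfsg.AlgInt) (hM : Cfsg.IsPModular p M) (B : Set (Cfsg.IrrCharacter G)) (hB : Cfsg.IsPBlock M B) (d : ℕ) (hd : Cfsg.blockDefect p B = d) : ((∃ χ ∈ B, 0 < Cfsg.blockHeight p B (χ : G → ℂ)) → 2 * Nat.card B ≤ p ^ (2 * d - 2)) ∧ ∀ χ ∈ B, (d ≤ 1 → Cfsg.blockHeight p B (χ : G → ℂ) = 0) ∧ (2 ≤ d → Cfsg.blockHeight p B (χ : G → ℂ) ≤ d - 2) := by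
  classical
  subst hd
  have := Fintype.ofFinite G
  have := Fintype.ofFinite B
  have hp : p.Prime := hM.1
  obtain ⟨c, -, hsymm, hsq, hdvd⟩ := RegPart.exists_contribution hM hB
  set d := blockDefect p B
  set q : ℤ := (p : ℤ) ^ d with hqdef
  let ht : B → ℕ := fun χ => blockHeight p B ((χ : IrrCharacter G) : G → ℂ)
  obtain ⟨η, hη, hη0⟩ := Blocks.exists_blockHeight_eq_zero p (Blocks.isPBlock_nonempty hM hB)
  let o : B := ⟨η, hη⟩
  have hp0 : (0 : ℤ) < p := by exact_mod_cast hp.pos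
  -- entries against a height zero member
  have hentry : ∀ χ ψ : B, ht χ = 0 → (p : ℤ) ^ (2 * ht ψ) ≤ c χ ψ ^ 2 := by
    intro χ ψ h0
    have h1 := (hdvd χ ψ).1
    have hne : c χ ψ ≠ 0 := fun h => (lt_irrefl 0) (lt_of_lt_of_eq ((hdvd χ ψ).2.1 (h ▸ dvd_zero _)) h0)
    rw [mul_comm 2, pow_mul]
    exact Int.le_of_dvd (by positivity) (pow_dvd_pow_of_dvd h1 2)
  have hrow : ∀ χ : B, ∑ ψ ∈ Finset.univ.erase χ, c χ ψ ^ 2 = c χ χ * (q - c χ χ) := by
    intro χ
    have h := hsq χ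
    rw [← Finset.add_sum_erase _ _ (Finset.mem_univ χ)] at h
    linear_combination h
  -- a member of positive height
  have hpos : ∀ χ : B, 0 < ht χ →
      (p : ℤ) ^ (ht χ + 1) < q ∧ 4 * (p : ℤ) ^ (2 * ht χ) *
        ((Finset.univ.filter fun ψ => ht ψ = 0).card : ℤ) ≤ q ^ 2 := by
    intro χ hχ
    have hmem : o ∈ Finset.univ.erase χ :=
      Finset.mem_erase.2 ⟨fun h => hχ.ne' (h ▸ hη0), Finset.mem_univ _⟩
    have hb : ∀ ψ, ht ψ = 0 → (p : ℤ) ^ (2 * ht χ) ≤ c χ ψ ^ 2 := fun ψ h0 => by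
      rw [hsymm]; exact hentry ψ χ h0
    have hs : (0 : ℤ) < c χ χ * (q - c χ χ) := by
      rw [← hrow]
      exact lt_of_lt_of_le (lt_of_lt_of_le (pow_pos hp0 _) (hb o hη0))
        (Finset.single_le_sum (f := fun ψ => c χ ψ ^ 2) (fun ψ _ => sq_nonneg _) hmem)
    have hd1 : (p : ℤ) ^ (ht χ + 1) ∣ c χ χ := (hdvd χ χ).2.2 hχ
    have hq : (0 : ℤ) ≤ q := le_of_lt (pow_pos hp0 _)
    have hpos' : 0 < c χ χ ∧ c χ χ < q := by
      constructor <;> nlinarith
    refine ⟨lt_of_le_of_lt (Int.le_of_dvd hpos'.1 hd1) hpos'.2, ?_⟩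
    have hle : (p : ℤ) ^ (2 * ht χ) * ((Finset.univ.filter fun ψ => ht ψ = 0).card : ℤ) ≤
        c χ χ * (q - c χ χ) := by
      rw [← hrow, mul_comm, ← nsmul_eq_mul]
      refine le_trans (Finset.card_nsmul_le_sum _ (fun ψ => c χ ψ ^ 2) _ fun ψ hψ =>
        hb ψ (Finset.mem_filter.1 hψ).2) (Finset.sum_le_sum_of_subset_of_nonneg ?_ fun ψ _ _ => sq_nonneg _)
      intro ψ hψ
      refine Finset.mem_erase.2 ⟨fun h => ?_, Finset.mem_univ _⟩
      subst h
      exact hχ.ne' (Finset.mem_filter.1 hψ).2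
    nlinarith [sq_nonneg (2 * c χ χ - q)]
  have hlt : ∀ χ : B, 0 < ht χ → ht χ + 1 < d := fun χ hχ =>
    (Nat.pow_lt_pow_iff_right hp.one_lt).1 (by have h := (hpos χ hχ).1; rw [hqdef] at h; exact_mod_cast h)
  refine ⟨?_, fun χ hχ => ⟨fun hd1 => ?_, fun hd2 => ?_⟩⟩
  · rintro ⟨χ, hχB, hχ⟩
    set χ' : B := ⟨χ, hχB⟩
    have hpos0 : 0 < ht χ' := hχ
    obtain ⟨h1, h2⟩ := hpos χ' hpos0
    have hd' := hlt χ' hpos0
    set S0 := Finset.univ.filter fun ψ : B => ht ψ = 0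
    set S1 := Finset.univ.filter fun ψ : B => ¬ ht ψ = 0
    have hcard : S0.card + S1.card = Fintype.card B := by
      rw [← Finset.card_univ]; exact Finset.card_filter_add_card_filter_not _
    have h0 : (p : ℤ) ^ 2 * (S1.card : ℤ) ≤ c o o * (q - c o o) := by
      rw [← hrow, mul_comm, ← nsmul_eq_mul]
      refine le_trans (Finset.card_nsmul_le_sum _ (fun ψ => c o ψ ^ 2) _ fun ψ hψ => ?_)
        (Finset.sum_le_sum_of_subset_of_nonneg ?_ fun ψ _ _ => sq_nonneg _)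
      · refine le_trans (pow_le_pow_right₀ (by exact_mod_cast hp.one_le) ?_) (hentry o ψ hη0)
        have := (Finset.mem_filter.1 hψ).2
        omega
      · intro ψ hψ
        exact Finset.mem_erase.2 ⟨fun h => (Finset.mem_filter.1 hψ).2 (h ▸ hη0), Finset.mem_univ _⟩
    have h3 : 4 * (p : ℤ) ^ 2 * (S0.card : ℤ) ≤ q ^ 2 := by
      refine le_trans ?_ h2
      have : (1 : ℤ) ≤ p := by exact_mod_cast hp.one_le
      gcongr
      omega
    have h4 : 2 * (p : ℤ) ^ 2 * (Fintype.card B : ℤ) ≤ q ^ 2 := by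
      rw [← hcard]; push_cast
      nlinarith [sq_nonneg (2 * c o o - q)]
    have h5 : q ^ 2 = (p : ℤ) ^ 2 * (p : ℤ) ^ (2 * d - 2) := by
      rw [hqdef, ← pow_mul, ← pow_add]; congr 1; omega
    rw [h5, mul_comm 2, mul_assoc] at h4
    rw [Nat.card_eq_fintype_card]
    have h6 := le_of_mul_le_mul_left h4 (pow_pos hp0 2)
    exact_mod_cast h6
  · by_contra h
    have := hlt ⟨χ, hχ⟩ (Nat.pos_of_ne_zero h)
    simp only [ht] at this
    omega
  · by_contra h
    have := hlt ⟨χ, hχ⟩ (show 0 < ht ⟨χ, hχ⟩ by simp only [ht]; omega)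
    simp only [ht] at this
    omega

end Cfsg.Agent.S4710
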