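import Cfsg.Statements.S4733
import Cfsg.Agent.Lib.Blocks.Defect
import Cfsg.Agent.Lib.BrauerPairs.RegularOrth

set_option autoImplicit false
open Cfsg

namespace Cfsg.Agent.S4733

open Cfsg.Agent

theorem not_dvd_of_vanish {G : Type*} [Group G] [Fintype G] {p : ℕ} [hp : Fact p.Prime]
    (χ : IrrCharacter G) (h : ∀ y : G, p ∣ orderOf y → (χ : G → ℂ) y = 0) :
    ¬ p ∣ Nat.card G / charDegree (χ : G → ℂ) := by
  classical
  obtain ⟨k, hk⟩ := Blocks.charDegree_dvd_card χ
  have hd := Blocks.charDegree_pos χ
  rw [hk, Nat.mul_div_cancel_left k hd]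
  rintro ⟨k', rfl⟩
  obtain ⟨P⟩ : Nonempty (Sylow p G) := inferInstance
  have hPcard := P.card_eq_multiplicity
  set a := (Nat.card G).factorization p with ha
  have hsum : ∑ u : (P : Subgroup G), (χ : G → ℂ) (1 * u) = (χ : G → ℂ) 1 := by
    rw [Finset.sum_eq_single (1 : (P : Subgroup G))]
    · simp
    · intro u _ hu
      rw [one_mul]
      apply h
      obtain ⟨j, hj⟩ := IsPGroup.iff_orderOf.mp P.2 u
      rw [← Subgroup.orderOf_coe] at hj
      rw [hj]
      refine dvd_pow_self p fun h0 => hu ?_
      rw [h0, pow_zero, orderOf_eq_one_iff] at hj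
      exact Subtype.ext hj
    · simp
  have hint := Blocks.isIntegral_avg (Char.IsIrrCharacter.isCharacter χ.2) (P : Subgroup G)
    (g := 1) (Subgroup.one_mem _)
  rw [hsum, ← Blocks.charDegree_cast, hPcard, mul_comm, ← div_eq_mul_inv] at hint
  obtain ⟨r, hr⟩ := Char.nat_dvd_of_isIntegral_div (pow_pos hp.out.pos a).ne' hint
  have hdvd : p ^ (a + 1) ∣ Nat.card G := ⟨r * k', by rw [hk, hr]; ring⟩
  have := (hp.out.pow_dvd_iff_le_factorization Nat.card_pos.ne').mp hdvd
  omega

/-- Let p be a prime, M a maximal ideal of the algebraic integers containing p, and B a p-block of the finite group G with k irreducible characters and p-regular rank l (the number of irreducible Brauer characters). Then l ≤ k, and the following are equivalent: B has defect 0; k = l = 1; k = l. -/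
theorem result {G : Type*} [Group G] [Finite G] (p : ℕ) [Fact p.Prime] (M : Ideal Cfsg.AlgInt) (hM : Cfsg.IsPModular p M) (B : Set (Cfsg.IrrCharacter G)) (hB : Cfsg.IsPBlock M B) : Cfsg.blockRank p B ≤ Nat.card B ∧ (Cfsg.blockDefect p B = 0 ↔ (Nat.card B = 1 ∧ Cfsg.blockRank p B = 1)) ∧ (Cfsg.blockDefect p B = 0 ↔ Nat.card B = Cfsg.blockRank p B) := by
  classical
  have := Fintype.ofFinite G
  have := Fintype.ofFinite (IrrCharacter G)
  let v : B → G → ℂ := fun χ => pRegularPart p ((χ : IrrCharacter G) : G → ℂ)
  have hrange : blockRank p B = (Set.range v).finrank ℂ := by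
    rw [blockRank, Set.finrank, Set.image_eq_range]
  have hle : blockRank p B ≤ Nat.card B := by
    rw [hrange, Nat.card_eq_fintype_card]; exact finrank_range_le_card v
  have h01 : blockDefect p B = 0 → Nat.card B = 1 ∧ blockRank p B = 1 := by
    intro h
    have hne := Blocks.isPBlock_nonempty hM hB
    obtain ⟨χ, hχ, hmin⟩ := Nat.sInf_mem
      (hne.image fun χ : IrrCharacter G => (charDegree (χ : G → ℂ)).factorization p)
    have hnd : ¬ p ∣ Nat.card G / charDegree (χ : G → ℂ) := by
      intro hd
      have hv := Nat.factorization_div (Blocks.charDegree_dvd_card χ)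
      have h1 := ((Fact.out : p.Prime).dvd_iff_one_le_factorization
        (Nat.div_pos (Nat.le_of_dvd Nat.card_pos (Blocks.charDegree_dvd_card χ))
          (Blocks.charDegree_pos χ)).ne').mp hd
      have h2 : (Nat.card G / charDegree (χ : G → ℂ)).factorization p
          = (Nat.card G).factorization p - (charDegree (χ : G → ℂ)).factorization p := by
        rw [hv]; rfl
      simp only [blockDefect] at h
      rw [← hmin] at h
      dsimp only at h
      omega
    have hB1 : B = {χ} := (Blocks.isPBlock_eq_blockOf hM hB hχ).trans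
      ((Blocks.singleton_iff_not_dvd hM χ).mp hnd)
    refine ⟨by rw [hB1]; simp, ?_⟩
    rw [blockRank, hB1, Set.image_singleton]
    refine finrank_span_singleton fun h0 => ?_
    have h1 := congrFun h0 1
    have hreg : IsPRegular p (1 : G) := by
      simp only [IsPRegular, orderOf_one, Nat.dvd_one]; exact (Fact.out : p.Prime).one_lt.ne'
    simp only [pRegularPart, if_pos hreg, Pi.zero_apply] at h1
    exact Blocks.irr_one_ne_zero χ h1
  have h10 : Nat.card B = blockRank p B → blockDefect p B = 0 := by
    intro h
    rw [hrange, Nat.card_eq_fintype_card] at h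
    have hli : LinearIndependent ℂ v := linearIndependent_iff_card_eq_finrank_span.mpr h
    obtain ⟨χ, hχ⟩ := Blocks.isPBlock_nonempty hM hB
    have hsum := BrauerPairs.pRegularPart_eq_sum hM hB hχ
    set c : IrrCharacter G → ℂ := fun φ => classInner (pRegularPart p (χ : G → ℂ)) (φ : G → ℂ)
      with hc
    have hexp : pRegularPart p (χ : G → ℂ) = ∑ φ : B, c φ • v φ := by
      rw [Finset.sum_set_coe (f := fun φ => c φ • pRegularPart p (φ : G → ℂ))]
      funext x
      have h1 := congrFun hsum x
      simp only [Finset.sum_apply, Pi.smul_apply, smul_eq_mul, pRegularPart] at h1 ⊢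
      split_ifs with hx
      · rw [if_pos hx] at h1; exact h1
      · simp
    have hz : ∀ φ : B, c φ - (if φ = ⟨χ, hχ⟩ then (1 : ℂ) else 0) = 0 := by
      refine Fintype.linearIndependent_iff.mp hli _ ?_
      simp only [sub_smul, Finset.sum_sub_distrib, ← hexp, ite_smul, one_smul, zero_smul,
        Finset.sum_ite_eq', Finset.mem_univ, if_true]
      exact sub_self _
    have heq : pRegularPart p (χ : G → ℂ) = (χ : G → ℂ) := by
      rw [hsum, Finset.sum_eq_single χ]
      · have := hz ⟨χ, hχ⟩
        rw [if_pos rfl, sub_eq_zero] at this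
        show c χ • (χ : G → ℂ) = _
        rw [this, one_smul]
      · intro φ hφ hne
        have := hz ⟨φ, Set.mem_toFinset.mp hφ⟩
        rw [if_neg (fun h => hne (congrArg Subtype.val h)), sub_zero] at this
        show c φ • (φ : G → ℂ) = _
        rw [this, zero_smul]
      · exact fun hn => absurd (Set.mem_toFinset.mpr hχ) hn
    have hnd := not_dvd_of_vanish (p := p) χ fun y hy => by
      have := congrFun heq y
      rwa [pRegularPart, if_neg (fun hn : IsPRegular p y => hn hy), eq_comm] at this
    have hB1 : B = {χ} := (Blocks.isPBlock_eq_blockOf hM hB hχ).trans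
      ((Blocks.singleton_iff_not_dvd hM χ).mp hnd)
    have hz' : (Nat.card G / charDegree (χ : G → ℂ)).factorization p = 0 :=
      Nat.factorization_eq_zero_of_not_dvd hnd
    rw [Nat.factorization_div (Blocks.charDegree_dvd_card χ)] at hz'
    rw [blockDefect, hB1, Set.image_singleton, csInf_singleton]
    exact hz'
  exact ⟨hle, ⟨h01, fun h => h10 (h.1.trans h.2.symm)⟩,
    ⟨fun h => (h01 h).1.trans (h01 h).2.symm, h10⟩⟩

end Cfsg.Agent.S4733
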