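import Cfsg.Statements.S4687
import Cfsg.Agent.Lib.BrauerPairs.AbelianDefect
import Cfsg.Agent.EqLemmas

set_option autoImplicit false
open Cfsg

namespace Cfsg.Agent.S4687

/-- Fix a prime p and a maximal ideal M of the algebraic integers containing p, and a p-block B of the finite group G with maximal Brauer pair (P, e), P abelian. Then B is nilpotent if and only if its inertial quotient is trivial: every element of N_G(P) stabilizing e centralizes P. -/
theorem result {G : Type*} [Group G] [Fintype G] (p : ℕ) [Fact p.Prime] (M : Ideal Cfsg.AlgInt) (hM : Cfsg.IsPModular p M) (B : Set (Cfsg.IrrCharacter G)) (P : Subgroup G) (e : Set (Cfsg.IrrCharacter (Subgroup.centralizer (P : Set G)))) (hmax : Cfsg.IsMaximalBrauerPair p M B P e) (hab : ∀ x ∈ P, ∀ y ∈ P, x * y = y * x) : Cfsg.IsNilpotentBlock p M B ↔ ∀ x : G, x ∈ Subgroup.normalizer (P : Set G) → Cfsg.StabilizesBlock (Subgroup.centralizer (P : Set G)) e x → x ∈ Subgroup.centralizer (P : Set G) := by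
  constructor
  · intro hnil x hx hst
    have hxs : x ∈ BrauerPairs.pairStab M P e :=
      (BrauerPairs.mem_pairStab_iff hM hmax.1.1.2).2 ⟨hx, hst⟩
    obtain ⟨F, hF, hFeq, -⟩ := BrauerPairs.exists_block_pairStab hM hmax.1.1
    obtain ⟨u, hu, huC⟩ := BrauerPairs.pairStab_le_sup_of_nilpotent hM hnil hmax.1 hF hFeq
      (BrauerPairs.defect_pairStab_top hM hmax hF hFeq) x hxs
    have := mul_mem (Subgroup.mem_centralizer_iff.2 fun q hq => hab q hq u hu.1 :
      u ∈ Subgroup.centralizer (P : Set G)) huC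
    rwa [mul_inv_cancel_left] at this
  · intro htriv
    refine ⟨hmax.1.2.1, fun Q f hQf x hxN hxs _ => ?_⟩
    obtain ⟨y, hy⟩ := BrauerPairs.exists_conj_le_maximal hM hmax hQf
    have hx1 : y * x * y⁻¹ ∈ BrauerPairs.pairStab M (Blocks.conjSub y Q) (Cfsg.conjBlock Q y f) := by
      rw [BrauerPairs.pairStab_conj hM, Blocks.mem_conjSub]
      simpa [mul_assoc] using (BrauerPairs.mem_pairStab_iff hM hQf.1.2).2 ⟨hxN, hxs⟩
    obtain ⟨c, hc, hcx⟩ := BrauerPairs.abelian_decomp hM hmax hab
      (BrauerPairs.isPBlock_conjBlock Q y hQf.1.2) hy hx1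
    have hP : c * (y * x * y⁻¹) ∈ Subgroup.centralizer (P : Set G) :=
      htriv _ hcx.1 ((BrauerPairs.mem_pairStab_iff hM hmax.1.1.2).1 hcx).2
    have h := mul_mem (inv_mem hc) (Subgroup.centralizer_le
      (BrauerPairs.subgroup_le_of_subpairLE
        (a := (⟨Blocks.conjSub y Q, Cfsg.conjBlock Q y f⟩ : Cfsg.BrauerPairIdx G))
        (b := ⟨P, e⟩) hy) hP)
    rw [inv_mul_cancel_left, ← BrauerPairs.conjSub_centralizer_map, Blocks.mem_conjSub] at h
    simpa [mul_assoc] using h

end Cfsg.Agent.S4687
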