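import Cfsg.Statements.S2770
import Cfsg.Agent.Lib.PushUp.RankOne

set_option autoImplicit false
open Cfsg

namespace Cfsg.Agent.S2770


/-- Let G be a finite group and p a prime with C_G(O_p(G)) ≤ O_p(G), S a Sylow p-subgroup lying in exactly one maximal subgroup of G, and G/K ≅ PSL₂(p^n) for some normal K and n ≥ 1. If Z(S) is not elementary abelian, then either ℧¹(Z(S)) (the subgroup generated by the p-th powers of the elements of Z(S)) is normal in G or C_S(Z(J(S))) is normal in G, J(S) being generated by the abelian subgroups of S of largest order. -/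
theorem result {G : Type*} [Group G] [Finite G] {p : ℕ} [Fact p.Prime] (S : Sylow p G) (hE₁ : Subgroup.centralizer (Cfsg.pCore p G : Set G) ≤ Cfsg.pCore p G) (hE₂ : ∃! M : Subgroup G, IsCoatom M ∧ (S : Subgroup G) ≤ M) (K : Subgroup G) [K.Normal] (F : Type) [Field F] [Fintype F] (n : ℕ) (hn : 1 ≤ n) (hF : Fintype.card F = p ^ n) (hE₃ : Nonempty (G ⧸ K ≃* Matrix.ProjectiveSpecialLinearGroup (Fin 2) F)) (h : ¬ Cfsg.IsElementaryAbelian p ((S : Subgroup G) ⊓ Subgroup.centralizer ((S : Subgroup G) : Set G))) : (Cfsg.powerClosure p 1 ((S : Subgroup G) ⊓ Subgroup.centralizer ((S : Subgroup G) : Set G))).Normal ∨ (((S : Subgroup G) ⊓ Subgroup.centralizer (Cfsg.centerThompsonAOf (S : Subgroup G) : Set G))).Normal := by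
  obtain ⟨e⟩ := hE₃
  let π : G →* Matrix.ProjectiveSpecialLinearGroup (Fin 2) F :=
    e.toMonoidHom.comp (QuotientGroup.mk' K)
  have hπ : Function.Surjective π := e.surjective.comp (QuotientGroup.mk'_surjective _)
  have hp : p.Prime := Fact.out
  set Q := Cfsg.pCore p G
  set Zs := (S : Subgroup G) ⊓ Subgroup.centralizer ((S : Subgroup G) : Set G)
  set J := Cfsg.thompsonSubgroupAOf (S : Subgroup G)
  have hQp : IsPGroup p Q := Cores.isPGroup_pCore p G
  have hQS : Q ≤ (S : Subgroup G) := Cores.pCore_le_sylow S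
  -- a central `Zs` settles everything
  have hcentral : Cfsg.pResidual p G ≤ Subgroup.centralizer
      ((Cfsg.powerClosure p 1 Zs : Subgroup G) : Set G) →
      (Cfsg.powerClosure p 1 Zs).Normal := by
    intro h1
    refine PushUp.normal_of_le_center (PushUp.central_of_pResidual S h1 ?_)
    intro s hs
    refine (Subgroup.centralizer_le (s := (Cfsg.powerClosure p 1 Zs : Set G)) (t := (Zs : Set G)) ?_)
      (fun z hz => (hz.2 s hs).symm)
    show Cfsg.powerClosure p 1 Zs ≤ Zs
    rw [Cfsg.powerClosure, Subgroup.closure_le]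
    rintro _ ⟨x, hx, rfl⟩
    exact pow_mem hx _
  have hpow : Cfsg.powerClosure p 1 Zs ≤ Zs := by
    rw [Cfsg.powerClosure, Subgroup.closure_le]
    rintro _ ⟨x, hx, rfl⟩
    exact pow_mem hx _
  have hcentralZ : Cfsg.pResidual p G ≤ Subgroup.centralizer (Zs : Set G) →
      (Cfsg.powerClosure p 1 Zs).Normal := fun h1 =>
    hcentral (h1.trans (Subgroup.centralizer_le hpow))
  have hZQ : Zs ≤ Q := fun z hz => hE₁ fun x hx => hz.2 x (hQS hx)
  by_cases hJ : J ≤ Q
  · -- `J(S) = J(Q)` is normal
    have hmem : ∀ A, A ∈ PLocal.maxIn PLocal.abelian (S : Subgroup G) → A ≤ J := fun A hA => by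
      show A ≤ Cfsg.thompsonSubgroupAOf (S : Subgroup G)
      rw [PLocal.thompsonSubgroupAOf_eq]
      exact le_sSup hA
    obtain ⟨A, hA⟩ := PLocal.exists_maxIn (Q := PLocal.abelian) PLocal.abelian_bot (S : Subgroup G)
    have hJQ : J = Cfsg.thompsonSubgroupAOf Q := by
      show Cfsg.thompsonSubgroupAOf (S : Subgroup G) = _
      rw [PLocal.thompsonSubgroupAOf_eq, PLocal.thompsonSubgroupAOf_eq]
      refine le_antisymm (sSup_le_sSup fun B hB =>
        PLocal.maxIn_of_mem_le hB ((hmem B hB).trans hJ) hQS)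
        (sSup_le_sSup (PLocal.maxIn_subset hA ((hmem A hA).trans hJ) hQS))
    haveI : J.Normal := by
      rw [hJQ, ← Subgroup.normalizer_eq_top_iff, eq_top_iff]
      refine le_trans ?_ (PLocal.normalizer_le_normalizer_thompsonSubgroupAOf Q)
      rw [Subgroup.normalizer_eq_top]
    haveI hZJn : (Cfsg.centerThompsonAOf (S : Subgroup G)).Normal :=
      inferInstanceAs ((J ⊓ Subgroup.centralizer (J : Set G))).Normal
    set N := Subgroup.centralizer (Cfsg.centerThompsonAOf (S : Subgroup G) : Set G)
    rcases PushUp.le_or_le hE₂ N with h1 | h1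
    · refine Or.inl (hcentralZ (h1.trans (Subgroup.centralizer_le ?_)))
      intro z hz
      refine ⟨hmem A hA (PLocal.mem_of_centralizes_abelian hA hz.1
        (fun a ha => hz.2 a (hA.1 ha))), fun x hx => hz.2 x ?_⟩
      exact PLocal.thompsonSubgroupAOf_le _ hx
    · refine Or.inr ?_
      have : (S : Subgroup G) ⊓ N = Q ⊓ N :=
        le_antisymm (le_inf h1 inf_le_right) (inf_le_inf_right _ hQS)
      rw [this]
      infer_instance
  · refine Or.inl ?_
    obtain ⟨A, hA, hAQ⟩ : ∃ A ∈ PLocal.maxIn PLocal.abelian (S : Subgroup G), ¬ A ≤ Q := by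
      by_contra hall
      push Not at hall
      refine hJ ?_
      show Cfsg.thompsonSubgroupAOf (S : Subgroup G) ≤ Q
      rw [PLocal.thompsonSubgroupAOf_eq]
      exact sSup_le hall
    have hAS : A ≤ (S : Subgroup G) := hA.1
    have hAab : ∀ x ∈ A, ∀ y ∈ A, Commute x y := fun x hx y hy =>
      (Subgroup.le_centralizer_iff_isMulCommutative.2 hA.2.1 hy) x hx
    set V := Subgroup.normalClosure (Zs : Set G)
    have hVQ : V ≤ Q := Subgroup.normalClosure_le_normal hZQ
    have hVC : V ≤ Subgroup.centralizer (Q : Set G) :=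
      Subgroup.normalClosure_le_normal fun z hz x hx => hz.2 x (hQS hx)
    have hVab : ∀ x ∈ V, ∀ y ∈ V, Commute x y := fun x hx y hy => hVC hy x (hVQ hx)
    have hVp : IsPGroup p V := hQp.to_le hVQ
    rcases PushUp.le_or_le hE₂ (Subgroup.centralizer (V : Set G)) with h1 | hSC
    · exact hcentralZ (h1.trans (Subgroup.centralizer_le Subgroup.subset_normalClosure))
    let f : ↥V →* G :=
      { toFun := fun v => (v : G) ^ p
        map_one' := one_pow p
        map_mul' := fun u v => (hVab u u.2 v v.2).mul_pow p }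
    set W := f.ker.map V.subtype with hWdef
    set U := f.range with hUdef
    have hWmem : ∀ {x : G}, x ∈ W ↔ x ∈ V ∧ x ^ p = 1 := fun {x} =>
      ⟨by rintro ⟨v, hv, rfl⟩; exact ⟨v.2, hv⟩, fun hx => ⟨⟨x, hx.1⟩, hx.2, rfl⟩⟩
    haveI hWn : W.Normal := ⟨fun x hx g => hWmem.mpr ⟨Subgroup.normalClosure_normal.conj_mem x
      (hWmem.mp hx).1 g, by rw [conj_pow, (hWmem.mp hx).2, mul_one, mul_inv_cancel]⟩⟩
    haveI hUn : U.Normal := ⟨by
      rintro _ ⟨v, rfl⟩ g
      exact ⟨⟨_, Subgroup.normalClosure_normal.conj_mem _ v.2 g⟩, conj_pow⟩⟩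
    -- the action on `W` is nontrivial modulo `Q`
    by_cases h1 : Cfsg.pResidual p G ≤ Subgroup.centralizer (W : Set G)
    · refine hcentralZ (le_trans ?_ (Subgroup.centralizer_le Subgroup.subset_normalClosure))
      rw [Cfsg.pResidual, Subgroup.closure_le]
      intro x hx
      refine PushUp.centralizes_of_fix_powers hVab hVp hx fun w hw hwp => ?_
      have h2 : x ∈ Subgroup.centralizer (W : Set G) := h1 (Subgroup.subset_closure hx)
      rw [← h2 w (hWmem.mpr ⟨hw, hwp⟩), mul_inv_cancel_right]
    have hSW := (PushUp.le_or_le hE₂ (Subgroup.centralizer (W : Set G))).resolve_left h1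
    have hKnot : ¬ Cfsg.pResidual p G ≤ K := fun h1 => by
      refine (PushUp.card_le_of_psl hF (IsPGroup.of_bot)).2 ?_
      haveI := PReduced.pResidual_normal p G
      have h2 : IsPGroup p (G ⧸ K) := PIrred.isPGroup_quotient_of_sup S.2 (top_le_iff.1
        ((PReduced.pResidual_sup_sylow S).ge.trans (sup_le (h1.trans le_sup_right) le_sup_left)))
      exact h2.of_equiv e
    have hKQ : (S : Subgroup G) ⊓ K ≤ Q := (PushUp.le_or_le hE₂ K).resolve_left hKnot
    have hker : π.ker = K := by
      ext x
      show e (QuotientGroup.mk' K x) = 1 ↔ _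
      rw [map_eq_one_iff _ e.injective]
      exact QuotientGroup.eq_one_iff x
    -- the two indices
    set B := A ⊓ Q
    have hBV : ∀ b ∈ B, ∀ v ∈ V, Commute b v := fun b hb v hv => hVC hv b hb.2
    have hab : PLocal.abelian (B ⊔ V) := by
      refine Subgroup.le_centralizer_iff_isMulCommutative.1 (sup_le ?_ ?_)
      · intro b hb
        refine Subgroup.mem_centralizer_iff.mpr fun y hy => ?_
        have : B ⊔ V ≤ Subgroup.centralizer ({b} : Set G) := sup_le
          (fun x hx => Subgroup.mem_centralizer_singleton_iff.mpr (hAab x hx.1 b hb.1).eq)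
          (fun x hx => Subgroup.mem_centralizer_singleton_iff.mpr (hBV b hb x hx).symm.eq)
        exact Subgroup.mem_centralizer_singleton_iff.mp (this hy)
      · intro b hb
        refine Subgroup.mem_centralizer_iff.mpr fun y hy => ?_
        have : B ⊔ V ≤ Subgroup.centralizer ({b} : Set G) := sup_le
          (fun x hx => Subgroup.mem_centralizer_singleton_iff.mpr (hBV x hx b hb).eq)
          (fun x hx => Subgroup.mem_centralizer_singleton_iff.mpr (hVab x hx b hb).eq)
        exact Subgroup.mem_centralizer_singleton_iff.mp (this hy)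
    have hmax := hA.2.2 _ (sup_le (inf_le_left.trans hAS) (hVQ.trans hQS)) hab
    set C := V ⊓ Subgroup.centralizer (A : Set G)
    have hBVC : B ⊓ V ≤ C :=
      le_inf inf_le_right fun x hx a ha => (hAab a ha x hx.1.1).eq
    have hmul : ∀ {X Y : Subgroup G}, X ≤ Y → Nat.card ↥X * X.relIndex Y = Nat.card ↥Y :=
      fun hXY => by
        rw [← Subgroup.relIndex_bot_left, Subgroup.relIndex_mul_relIndex _ _ _ bot_le hXY,
          Subgroup.relIndex_bot_left]
    have hij : C.relIndex V ≤ B.relIndex A := by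
      have h1 := hmul (le_sup_right : V ≤ B ⊔ V)
      rw [Subgroup.relIndex_sup_right] at h1
      have h2 := hmul (inf_le_left : B ⊓ V ≤ B)
      rw [Subgroup.inf_relIndex_left] at h2
      have h3 : Nat.card ↥(B ⊓ V) ≤ Nat.card ↥C := Nat.card_le_card_of_injective _
        (Subgroup.inclusion_injective hBVC)
      have h4 := hmul (inf_le_left : C ≤ V)
      have h5 := hmul (inf_le_left : B ≤ A)
      have hpos : 0 < Nat.card ↥B * Nat.card ↥C := Nat.mul_pos Nat.card_pos Nat.card_pos
      refine Nat.le_of_mul_le_mul_left ?_ hpos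
      calc Nat.card ↥B * Nat.card ↥C * C.relIndex V = Nat.card ↥B * Nat.card ↥V := by
            rw [mul_assoc, h4]
        _ = Nat.card ↥(B ⊔ V) * Nat.card ↥(B ⊓ V) := by rw [← h1, ← h2]; ring
        _ ≤ Nat.card ↥A * Nat.card ↥C := Nat.mul_le_mul hmax h3
        _ = Nat.card ↥B * Nat.card ↥C * B.relIndex A := by rw [← h5]; ring
    have hjq : B.relIndex A ≤ p ^ n := by
      refine le_trans ?_ (PushUp.card_le_of_psl hF ((S.2.to_le hAS).map π)).1
      rw [← Subgroup.relIndex_ker, hker, ← Subgroup.inf_relIndex_left A K]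
      refine Subgroup.relIndex_le_of_le_left
        (le_inf inf_le_left ((inf_le_inf_right K hAS).trans hKQ)) ?_
      exact Subgroup.index_ne_zero_of_finite
    set CW := W ⊓ Subgroup.centralizer (A : Set G)
    have hWA : ¬ W ≤ Subgroup.centralizer (A : Set G) := fun h1 => hAQ fun a ha =>
      hSW ⟨hAS ha, fun w hw => (h1 hw a ha).symm⟩
    have hqw : p ^ n ≤ CW.relIndex W := by
      by_cases hn2 : 2 ≤ n
      · obtain ⟨a, haA, haQ⟩ := SetLike.not_le_iff_exists.mp hAQ
        have hq : 4 ≤ Nat.card F := by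
          rw [Nat.card_eq_fintype_card, hF]
          calc 4 = 2 ^ 2 := rfl
            _ ≤ p ^ 2 := Nat.pow_le_pow_left hp.two_le 2
            _ ≤ p ^ n := Nat.pow_le_pow_right hp.pos hn2
        haveI := PSL2.isSimpleGroup_psl hq
        have hπa : π a ≠ 1 := fun h1 => haQ (hKQ ⟨hAS haA, hker ▸ h1⟩)
        have hkerW : Subgroup.centralizer (W : Set G) ≤ π.ker := by
          rcases (Subgroup.Normal.map (inferInstance :
            (Subgroup.centralizer (W : Set G)).Normal) π hπ).eq_bot_or_eq_top with h1 | h1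
          · exact (Subgroup.map_eq_bot_iff _).mp h1
          exfalso
          obtain ⟨M, ⟨hM, hSM⟩, -⟩ := id hE₂
          have hsup : Subgroup.centralizer (W : Set G) ⊔ K = ⊤ := by
            rw [← hker, ← Subgroup.comap_map_eq, h1, Subgroup.comap_top]
          have hle : ∀ N : Subgroup G, N.Normal → ¬ Cfsg.pResidual p G ≤ N → N ≤ M := by
            intro N hN hnot
            refine le_sup_right.trans (PIrred.le_of_ne_top hE₂ ⟨hM, hSM⟩
              (le_sup_left : (S : Subgroup G) ≤ (S : Subgroup G) ⊔ N) fun h2 => hnot ?_)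
            exact Transfer.pResidual_le (PIrred.isPGroup_quotient_of_sup S.2 h2)
          exact hM.1 (top_le_iff.1 (hsup ▸ sup_le (hle _ inferInstance ‹_›) (hle _ inferInstance hKnot)))
        refine le_trans (PushUp.index_ge_of_psl hF hn2 (hVp.to_le fun x hx => (hWmem.mp hx).1) π hπ
          hkerW ((S.2.to_le (Subgroup.zpowers_le.mpr (hAS haA)))) hπa) ?_
        refine Subgroup.relIndex_le_of_le_left (inf_le_inf_left _
          (Subgroup.centralizer_le (Set.singleton_subset_iff.mpr haA))) ?_
        exact Subgroup.index_ne_zero_of_finite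
      · obtain rfl : n = 1 := by omega
        rw [pow_one]
        have h1 : CW.relIndex W ≠ 1 := fun h2 =>
          hWA ((Subgroup.relIndex_eq_one.mp h2).trans inf_le_right)
        obtain ⟨k, hk⟩ := IsPGroup.iff_card.mp (hVp.to_le fun x hx => (hWmem.mp hx).1)
        obtain ⟨l, -, hl⟩ := (Nat.dvd_prime_pow hp).mp (hk ▸ Subgroup.relIndex_dvd_card CW W)
        rw [hl] at h1 ⊢
        exact Nat.le_self_pow (fun h3 => h1 (by rw [h3, pow_zero])) p
    have hiw : C.relIndex V ≤ CW.relIndex W := (hij.trans hjq).trans hqw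
    -- so `A` centralises the `p`-th powers
    have hrn := fun (D : Subgroup G) (hD : D ≤ V) => (show Nat.card ↥D =
      Nat.card ↥(D ⊓ W) * Nat.card ↥((D.subgroupOf V).map f) by
        rw [← Subgroup.relIndex_ker, ← hmul (inf_le_left : D ⊓ W ≤ D), Subgroup.inf_relIndex_left]
        congr 1
        conv_rhs => rw [← Subgroup.relIndex_map_map_of_injective _ _ V.subtype_injective,
          Subgroup.subgroupOf_map_subtype, inf_eq_left.mpr hD])
    have hU : U ≤ Subgroup.centralizer (A : Set G) := by
      set fC := (C.subgroupOf V).map f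
      have hfC : fC ≤ Subgroup.centralizer (A : Set G) := by
        rintro _ ⟨v, hv, rfl⟩
        exact pow_mem hv.2 p
      have h1 := hrn C inf_le_left
      have h2 := hrn V le_rfl
      rw [Subgroup.subgroupOf_self, ← MonoidHom.range_eq_map, inf_eq_right.mpr
        (fun x hx => (hWmem.mp hx).1)] at h2
      have h3 := hmul (inf_le_left : C ≤ V)
      have h4 := hmul (inf_le_left : CW ≤ W)
      have h5 : C ⊓ W = CW := le_antisymm (le_inf inf_le_right (inf_le_left.trans inf_le_right))
        (le_inf (le_inf (fun x hx => (hWmem.mp hx.1).1) inf_le_right) inf_le_left)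
      rw [h5] at h1
      have h6 : Nat.card ↥W * Nat.card ↥U ≤ Nat.card ↥W * Nat.card ↥fC := by
        rw [← h2, ← h3, h1, ← h4]
        calc Nat.card ↥CW * Nat.card ↥fC * C.relIndex V
            ≤ Nat.card ↥CW * Nat.card ↥fC * CW.relIndex W := Nat.mul_le_mul_left _ hiw
          _ = _ := by ring
      have h7 : fC = U := Subgroup.eq_of_le_of_card_ge (by
        rw [hUdef, MonoidHom.range_eq_map]; exact Subgroup.map_mono le_top)
        (Nat.le_of_mul_le_mul_left h6 Nat.card_pos)
      exact h7 ▸ hfC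
    have hZU : Cfsg.powerClosure p 1 Zs ≤ U := by
      rw [Cfsg.powerClosure, Subgroup.closure_le]
      rintro _ ⟨x, hx, rfl⟩
      exact ⟨⟨x, Subgroup.subset_normalClosure hx⟩, by rw [pow_one]; rfl⟩
    rcases PushUp.le_or_le hE₂ (Subgroup.centralizer (U : Set G)) with h1 | h1
    · exact hcentral (h1.trans (Subgroup.centralizer_le hZU))
    · exact absurd (fun a ha => h1 ⟨hAS ha, fun u hu => (hU hu a ha).symm⟩) hAQ

end Cfsg.Agent.S2770
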