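import Cfsg.Statements.S2982
import Cfsg.Agent.Lib.FFPush.CoverLin
import Cfsg.Agent.Lib.FFPush.CoverSym
-- import your own Cfsg.Agent.* helpers here

set_option autoImplicit false
open Cfsg

namespace Cfsg.Agent.S2982

/-- Pushing up for minimal parabolic groups. Let G be a finite p-minimal group (a Sylow p-subgroup T is not normal and lies in exactly one maximal subgroup) of characteristic p (C_G(O_p(G)) ≤ O_p(G)). Suppose that no nontrivial characteristic subgroup of the Baumann subgroup B(T) is normal in G and that Ω₁(Z(T)) is not normal in G. Then G has a set of B(T)-blocks with the block structure of the local C*(G,T)-Theorem, every block E with E/O_p(E) alternating of degree 2m+1 (p = 2) has 2m+1 = 2ⁿ+1, and C*(G,T) = (C*(G,T) ∩ ⟨blocks⟩)·T. -/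
theorem result {G : Type*} [Group G] [Finite G] {p : ℕ} [Fact p.Prime] (hmin : Cfsg.IsPMinimal p G) (hG : Subgroup.centralizer (Cfsg.pCore p G : Set G) ≤ Cfsg.pCore p G) (T : Sylow p G) (hchar : ∀ C : Subgroup G, C ≤ Cfsg.baumannSubgroupOf p (T : Subgroup G) → C ≠ ⊥ → (C.subgroupOf (Cfsg.baumannSubgroupOf p (T : Subgroup G))).Characteristic → ¬ C.Normal) (hz : ¬ (Cfsg.omegaOneCenter p (T : Subgroup G)).Normal) : ∃ 𝓑 : Set (Subgroup G), Cfsg.HasBaumannBlockStructure p (T : Subgroup G) 𝓑 ∧ (∀ E ∈ 𝓑, ∀ m : ℕ, Nonempty (↥E ⧸ Cfsg.pCore p ↥E ≃* ↥(alternatingGroup (Fin (2 * m + 1)))) → ∃ n : ℕ, 2 * m + 1 = 2 ^ n + 1) ∧ Cfsg.cStarOf p (T : Subgroup G) = (Cfsg.cStarOf p (T : Subgroup G) ⊓ sSup 𝓑) ⊔ (T : Subgroup G) := by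
  obtain ⟨M, st⟩ := FFPush.exists_start hmin hG T hchar hz
  revert st
  generalize Cfsg.omegaOneCenter p (Cfsg.pCore p G) = V
  intro st
  haveI := st.setup.elem.1
  haveI := st.setup.normal
  obtain ⟨r, E, g, π, f, ⟨n, F, _, _, hn, hF, c, hT, d⟩ | ⟨hp, n, m, hn, hm, c, h0, hpair, d⟩⟩ := st.exists_frame
  · exact f.lin_structure hn hF c π hT d
  · subst hp
    obtain ⟨k, rfl⟩ : ∃ k, m = 2 * k := ⟨2 ^ (n - 1), by
      rw [hm, ← pow_succ', Nat.sub_add_cancel hn]⟩
    exact f.sym_structure hn hm c π h0 hpair d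

end Cfsg.Agent.S2982
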