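import Cfsg.Statements.S0932
import Cfsg.Agent.EqLemmas

set_option autoImplicit false
open Cfsg

namespace Cfsg.Agent.S0932

open scoped Classical in
lemma card_conj_eq {G : Type*} [Group G] [Fintype G] (g y : G) :
    ((Finset.univ.filter fun x : G => x⁻¹ * g * x = y).card : ℕ)
      = if IsConj g y then Nat.card (Subgroup.centralizer ({g} : Set G)) else 0 := by
  split_ifs with h
  · obtain ⟨c, hc⟩ := isConj_iff.mp h
    rw [← Fintype.card_subtype, ← Nat.card_eq_fintype_card]
    apply Nat.card_congr
    refine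
      { toFun := fun x => ⟨x.1 * c, ?_⟩
        invFun := fun z => ⟨z.1 * c⁻¹, ?_⟩
        left_inv := fun x => Subtype.ext (by simp)
        right_inv := fun z => Subtype.ext (by simp) }
    · have hx : x.1⁻¹ * g * x.1 = c * g * c⁻¹ := x.2.trans hc.symm
      rw [Subgroup.mem_centralizer_singleton_iff]
      calc x.1 * c * g = x.1 * (c * g * c⁻¹) * c := by group
        _ = x.1 * (x.1⁻¹ * g * x.1) * c := by rw [hx]
        _ = g * (x.1 * c) := by group
    · have hz : z.1 * g = g * z.1 := Subgroup.mem_centralizer_singleton_iff.mp z.2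
      rw [← hc]
      calc (z.1 * c⁻¹)⁻¹ * g * (z.1 * c⁻¹) = c * z.1⁻¹ * (g * z.1) * c⁻¹ := by group
        _ = c * g * c⁻¹ := by rw [← hz]; group
  · rw [Finset.card_eq_zero, Finset.filter_eq_empty_iff]
    intro x _ hx
    exact h (isConj_iff.mpr ⟨x⁻¹, by simpa using hx⟩)

open scoped Classical in
lemma sum_extendByZero {G : Type*} [Group G] [Fintype G] (H : Subgroup G) (ξ : H → ℂ) (g : G) :
    ∑ x : G, Cfsg.extendByZero H ξ (x⁻¹ * g * x)
      = (Nat.card (Subgroup.centralizer ({g} : Set G)) : ℂ) * ∑ h : H, if IsConj g (h : G) then ξ h else 0 := by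
  have hext : ∀ y : G, Cfsg.extendByZero H ξ y = ∑ h : H, if y = (h : G) then ξ h else 0 := by
    intro y
    by_cases hy : y ∈ H
    · rw [Finset.sum_eq_single (⟨y, hy⟩ : H), if_pos rfl]
      · exact Subtype.val_injective.extend_apply ξ 0 ⟨y, hy⟩
      · intro b _ hb
        rw [if_neg fun h => hb (Subtype.ext h.symm)]
      · simp
    · rw [Finset.sum_eq_zero fun h _ => if_neg fun e => hy (by rw [e]; exact h.2)]
      exact Function.extend_apply' _ _ _ fun ⟨a, ha⟩ => hy (by rw [← ha]; exact a.2)
  simp only [hext]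
  rw [Finset.sum_comm, Finset.mul_sum]
  refine Finset.sum_congr rfl fun h _ => ?_
  rw [← Finset.sum_filter, Finset.sum_const, card_conj_eq, nsmul_eq_mul]
  split_ifs <;> simp

/-- Let H be a subgroup of the finite group G and ξ a character of H. For every g ∈ G, the sum of ξ h / ξ 1 over the elements h ∈ H that are conjugate in G to g equals the central character at g of the character of G induced from ξ (class size times value divided by degree). -/
theorem result {G : Type*} [Group G] [Fintype G] (H : Subgroup G) (ξ : H → ℂ) (hξ : Cfsg.IsCharacter H ξ) (g : G) : Cfsg.inducedCentralChar H ξ g = Cfsg.centralChar (Cfsg.indFun H ξ) g := by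
  classical
  have hG : (Nat.card G : ℂ) ≠ 0 := Nat.cast_ne_zero.mpr Nat.card_pos.ne'
  have hH : (Nat.card H : ℂ) ≠ 0 := Nat.cast_ne_zero.mpr Nat.card_pos.ne'
  have h1 : ∑ x : G, Cfsg.extendByZero H ξ (x⁻¹ * 1 * x) = (Nat.card G : ℂ) * ξ 1 := by
    simp only [mul_one, inv_mul_cancel, Finset.sum_const, Finset.card_univ, nsmul_eq_mul,
      Nat.card_eq_fintype_card]
    congr 1
    exact Subtype.val_injective.extend_apply ξ 0 (1 : H)
  have hidx : ((Subgroup.centralizer ({g} : Set G)).index : ℂ)
      * (Nat.card (Subgroup.centralizer ({g} : Set G)) : ℂ) = (Nat.card G : ℂ) := by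
    exact_mod_cast Subgroup.index_mul_card (Subgroup.centralizer ({g} : Set G))
  set S : ℂ := ∑ h : H, if IsConj g (h : G) then ξ h else 0 with hS
  have hL : Cfsg.inducedCentralChar H ξ g = S / ξ 1 := by
    rw [Cfsg.inducedCentralChar, hS, finsum_mem_eq_finite_toFinset_sum _ (Set.toFinite _),
      Finset.sum_div, ← Finset.sum_filter_of_ne (p := fun h : H => IsConj g (h : G)) (s := Finset.univ)]
    · refine Finset.sum_congr (by ext; simp) fun h hh => ?_
      rw [if_pos (by simpa using hh)]
    · intro h _ hne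
      by_contra hc
      exact hne (by rw [if_neg hc, zero_div])
  rw [hL, Cfsg.centralChar, Cfsg.indFun, Cfsg.indFun, h1, sum_extendByZero, ← hS]
  rw [show ((Subgroup.centralizer ({g} : Set G)).index : ℂ) *
      ((Nat.card H : ℂ)⁻¹ * ((Nat.card (Subgroup.centralizer ({g} : Set G)) : ℂ) * S))
      = (Nat.card H : ℂ)⁻¹ * (((Subgroup.centralizer ({g} : Set G)).index : ℂ)
        * (Nat.card (Subgroup.centralizer ({g} : Set G)) : ℂ)) * S by ring, hidx]
  field_simp


end Cfsg.Agent.S0932
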