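import Cfsg.Statements.S0963
import Cfsg.Agent.Lib.CliffordChar.Basic
import Cfsg.Agent.S0932

set_option autoImplicit false
open Cfsg

namespace Cfsg.Agent.S0963

/-- Let N be a normal subgroup of the finite group G, χ an irreducible character of G and θ an irreducible character of N. Then θ occurs in the restriction of χ to N if and only if, for every n ∈ N, the central character of χ at n (class size in G times χ n over χ 1) equals the sum of θ m / θ 1 over the elements m of N conjugate in G to n. -/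
theorem result {G : Type*} [Group G] [Fintype G] (N : Subgroup G) [N.Normal] [Fintype N] (χ : Cfsg.IrrCharacter G) (θ : Cfsg.IrrCharacter N) : Cfsg.classInner (fun n : N => (χ : G → ℂ) n) (θ : N → ℂ) ≠ 0 ↔ ∀ n : N, Cfsg.centralChar (χ : G → ℂ) (n : G) = Cfsg.inducedCentralChar N (θ : N → ℂ) (n : G) := by
  classical
  open Cfsg.Agent.Char Cfsg.Agent.CliffordChar in
  have hθ1 : (θ : N → ℂ) 1 ≠ 0 := IsIrrCharacter.apply_one_ne_zero θ.2
  open Cfsg.Agent.Char Cfsg.Agent.CliffordChar in
  have key : (∀ n : N, Cfsg.centralChar (χ : G → ℂ) (n : G) = Cfsg.inducedCentralChar N (θ : N → ℂ) (n : G)) ↔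
      ∃ a : ℂ, (fun n : N => (χ : G → ℂ) n) = a • orbitSum N (θ : N → ℂ) := by
    have hidx : ∀ g : G, ((Subgroup.centralizer ({g} : Set G)).index : ℂ) ≠ 0 := fun g =>
      Nat.cast_ne_zero.mpr Subgroup.index_ne_zero_of_finite
    have hχ1 : (χ : G → ℂ) 1 ≠ 0 := IsIrrCharacter.apply_one_ne_zero χ.2
    have hN : (Nat.card N : ℂ) ≠ 0 := Nat.cast_ne_zero.mpr Nat.card_pos.ne'
    have hG : (Nat.card G : ℂ) ≠ 0 := Nat.cast_ne_zero.mpr Nat.card_pos.ne'
    have hP1 : orbitSum N (θ : N → ℂ) 1 = (Nat.card G : ℂ) * (θ : N → ℂ) 1 := by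
      simp [orbitSum, Finset.sum_apply, Cfsg.Agent.CliffordChar.conjFun, Nat.card_eq_fintype_card]
    have hrw : ∀ n : N, Cfsg.inducedCentralChar N (θ : N → ℂ) (n : G)
        = ((Subgroup.centralizer ({(n : G)} : Set G)).index : ℂ) *
          (orbitSum N (θ : N → ℂ) n / orbitSum N (θ : N → ℂ) 1) := by
      intro n
      rw [Cfsg.Agent.S0932.result N _ (IsIrrCharacter.isCharacter θ.2) (n : G), Cfsg.centralChar,
        indFun_coe, indFun_one_apply, hP1]
      have : (N.index : ℂ) * (Nat.card N : ℂ) = (Nat.card G : ℂ) := by exact_mod_cast N.index_mul_card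
      rw [← this]
      field_simp
    constructor
    · intro h
      refine ⟨(χ : G → ℂ) 1 / orbitSum N (θ : N → ℂ) 1, funext fun n => ?_⟩
      have hn := h n
      rw [hrw n, Cfsg.centralChar, mul_div_assoc] at hn
      have hn' := mul_left_cancel₀ (hidx _) hn
      rw [div_eq_iff hχ1] at hn'
      rw [Pi.smul_apply, smul_eq_mul, hn']
      ring
    · rintro ⟨a, ha⟩ n
      have h1 : (χ : G → ℂ) 1 = a * orbitSum N (θ : N → ℂ) 1 := by simpa using congrFun ha 1
      have hn : (χ : G → ℂ) n = a * orbitSum N (θ : N → ℂ) n := congrFun ha n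
      have ha0 : a ≠ 0 := fun h0 => hχ1 (by rw [h1, h0, zero_mul])
      rw [hrw n, Cfsg.centralChar, hn, h1, mul_div_assoc, mul_div_mul_left _ _ ha0]
  rw [key]
  open Cfsg.Agent.Char Cfsg.Agent.CliffordChar in
  exact ⟨fun h => ⟨_, restrict_eq N χ.2 θ.2 h⟩, fun ⟨a, ha⟩ => by
    rw [ha, classInner_smul_left]
    refine mul_ne_zero (fun h0 => IsIrrCharacter.apply_one_ne_zero χ.2 ?_) (orbitSum_inner_self_ne_zero N θ.2)
    simpa [h0] using congrFun ha 1⟩


end Cfsg.Agent.S0963
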