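import Cfsg.Statements.S0941
import Cfsg.Agent.Lib.BlocksNormal.Cover
import Cfsg.Agent.Lib.CentralChar.Congr

set_option autoImplicit false
open Cfsg

namespace Cfsg.Agent.S0941

/-- Let P be a normal p-subgroup of the finite group G such that the index of C_G(P) is a power of p, and fix a maximal ideal M of the algebraic integers containing p. Then (i) two irreducible characters of G ⧸ P lie in the same block if and only if their inflations to G do, and (ii) every block of G contains the inflation of some irreducible character of G ⧸ P; so inflation induces a bijection between the blocks of G ⧸ P and the blocks of G. -/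
theorem result {G : Type*} [Group G] [Finite G] (p : ℕ) [Fact p.Prime] (M : Ideal Cfsg.AlgInt) (hM : Cfsg.IsPModular p M) (P : Subgroup G) [P.Normal] (hP : IsPGroup p P) (hC : ∃ k : ℕ, (Subgroup.centralizer (P : Set G)).index = p ^ k) : (∀ χ ψ : Cfsg.IrrCharacter (G ⧸ P), Cfsg.SameBlock M (χ : G ⧸ P → ℂ) (ψ : G ⧸ P → ℂ) ↔ Cfsg.SameBlock M ((χ : G ⧸ P → ℂ) ∘ QuotientGroup.mk) ((ψ : G ⧸ P → ℂ) ∘ QuotientGroup.mk)) ∧ ∀ B : Set (Cfsg.IrrCharacter G), Cfsg.IsPBlock M B → ∃ χ : Cfsg.IrrCharacter (G ⧸ P), ∃ θ ∈ B, (θ : G → ℂ) = (χ : G ⧸ P → ℂ) ∘ QuotientGroup.mk := by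
  classical
  obtain ⟨k, hk⟩ := hC
  have hp : p.Prime := Fact.out
  have := Fintype.ofFinite G
  have := Fintype.ofFinite (G ⧸ P)
  haveI : (Subgroup.centralizer (P : Set G)).Normal :=
    ⟨fun g hg n => (Blocks.conj_mem_centralizer_iff (by simp [Subgroup.normalizer_eq_top]) g).mpr hg⟩
  have hπ := QuotientGroup.mk'_surjective P
  refine ⟨fun χ ψ => ⟨fun h => BlocksNormal.sameBlock_comp hM hπ h, fun h => ?_⟩, fun B hB => ?_⟩
  swap
  · obtain ⟨θ, hθ, htriv⟩ := BlocksNormal.exists_mem_trivOn hM hB P hP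
    obtain ⟨φ, hφ⟩ := CentralChar.exists_deflation P θ htriv
    exact ⟨φ, θ, hθ, funext hφ⟩
  have hcent : ∀ x : G, ¬ p ∣ orderOf x → x ∈ Subgroup.centralizer (P : Set G) := by
    intro x hx
    have h1 : orderOf (x : G ⧸ Subgroup.centralizer (P : Set G)) ∣ p ^ k := hk ▸ orderOf_dvd_natCard _
    obtain ⟨j, -, hj⟩ := (Nat.dvd_prime_pow hp).mp h1
    refine (QuotientGroup.eq_one_iff x).mp (orderOf_eq_one_iff.mp ?_)
    rcases Nat.eq_zero_or_pos j with rfl | hj0
    · rw [hj, pow_zero]
    · refine absurd (dvd_trans ?_ (orderOf_map_dvd (QuotientGroup.mk' (Subgroup.centralizer (P : Set G))) x)) hx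
      rw [QuotientGroup.mk'_apply, hj]
      exact dvd_pow_self p hj0.ne'
  have huniq : ∀ x x' : G, ¬ p ∣ orderOf x → ¬ p ∣ orderOf x' → (x : G ⧸ P) = x' → x = x' := by
    intro x x' hx hx' he
    have hu : x⁻¹ * x' ∈ P := QuotientGroup.eq.mp he
    obtain ⟨j, hj⟩ := IsPGroup.iff_orderOf.mp hP ⟨_, hu⟩
    rw [← Subgroup.orderOf_coe] at hj
    have hcomm : Commute x (x⁻¹ * x') := (Subgroup.mem_centralizer_iff.mp (hcent x hx) _ hu).symm
    have h1 : orderOf (x⁻¹ * x') ∣ orderOf x * orderOf x' := by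
      have h2 : Commute x⁻¹ x' := by simpa using ((Commute.refl x).mul_right hcomm).inv_left
      have h3 := h2.orderOf_mul_dvd_mul_orderOf
      rwa [orderOf_inv] at h3
    rw [hj] at h1
    have hco : (p ^ j).Coprime (orderOf x * orderOf x') :=
      ((hp.coprime_iff_not_dvd.mpr hx).mul_right (hp.coprime_iff_not_dvd.mpr hx')).pow_left j
    have h4 := Nat.Coprime.eq_one_of_dvd hco h1
    rw [← hj, orderOf_eq_one_iff, inv_mul_eq_one] at h4
    exact h4
  obtain ⟨m, hm0, hm1⟩ := Char.exists_pParts_exponent p (Nat.card G) hp Nat.card_pos.ne'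
  set a := (Nat.card G).factorization p
  set n := Nat.card G / p ^ a with hn
  have hnG : p ^ a * n = Nat.card G := Nat.ordProj_mul_ordCompl_eq_self _ p
  have hnp : ¬ p ∣ n := Nat.not_dvd_ordCompl hp Nat.card_pos.ne'
  have hexist : ∀ x : G, ¬ p ∣ orderOf (x : G ⧸ P) →
      ¬ p ∣ orderOf (x ^ m) ∧ ((x ^ m : G) : G ⧸ P) = x := by
    intro x hx
    obtain ⟨r, hr⟩ := hm0
    refine ⟨fun hd => hnp (dvd_trans hd (orderOf_dvd_of_pow_eq_one ?_)), ?_⟩
    · rw [← pow_mul, hr, mul_assoc, mul_comm r n, ← mul_assoc, hnG, pow_mul, pow_card_eq_one',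
        one_pow]
    · rw [QuotientGroup.mk_pow]
      have h1 : orderOf (x : G ⧸ P) ∣ n := by
        refine ((hp.coprime_iff_not_dvd.mpr hx).pow_left a).symm.dvd_of_dvd_mul_left ?_
        rw [hnG]
        exact dvd_trans (orderOf_map_dvd (QuotientGroup.mk' P) x) (orderOf_dvd_natCard x)
      have h2 := (pow_eq_pow_iff_modEq (x := (x : G ⧸ P)) (n := m) (m := 1)).2 (hm1.of_dvd h1)
      rwa [pow_one] at h2
  set B' := blockOf M (χ : G ⧸ P → ℂ) with hB'def
  have hB' : IsPBlock M B' := ⟨χ, rfl⟩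
  let z : G → ℂ := fun x => if p ∣ orderOf x then 0 else blockCoeff B' (x : G ⧸ P)
  have hz : IsClassFunction G z := fun x t => by
    simp only [z]
    rw [show orderOf (t * x * t⁻¹) = orderOf x from
      orderOf_injective (MulAut.conj t).toMonoidHom (MulAut.conj t).injective x,
      QuotientGroup.mk_mul, QuotientGroup.mk_mul, QuotientGroup.mk_inv,
      Blocks.isClassFunction_blockCoeff B' (x : G ⧸ P) (t : G ⧸ P)]
  have hzR : ∀ x, MemLocalRing M (z x) := fun x => by
    simp only [z]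
    split_ifs
    · exact Blocks.memR_zero hM
    · exact Blocks.memR_blockCoeff hM hB' _
  have hpush : BlocksNormal.pushFun (QuotientGroup.mk' P) z = blockCoeff B' := by
    funext y
    obtain ⟨x, rfl⟩ := hπ y
    by_cases hy : p ∣ orderOf (x : G ⧸ P)
    · rw [BlocksNormal.pushFun, Finset.sum_eq_zero, eq_comm]
      · rw [Blocks.blockCoeff_eq_ofOmega]
        exact Blocks.ofOmega_singular_eq_zero hM (Blocks.blockInd_mem_intRing hM hB') hy
      · intro x' _
        split_ifs with he
        · simp only [z]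
          rw [if_pos]
          exact dvd_trans (he.symm ▸ hy) (orderOf_map_dvd (QuotientGroup.mk' P) x')
        · rfl
    · obtain ⟨h1, h2⟩ := hexist x hy
      rw [BlocksNormal.pushFun, Finset.sum_eq_single (x ^ m)]
      · simp only [QuotientGroup.mk'_apply, h2, if_true, z, if_neg h1]
      · intro x' _ hne
        split_ifs with he
        · simp only [z]
          by_cases hx' : p ∣ orderOf x'
          · rw [if_pos hx']
          · exact absurd (huniq x' _ hx' h1 (he.trans h2.symm)) hne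
        · rfl
      · simp
  let χ' : IrrCharacter G := ⟨_, Char.IsIrrCharacter.comp_surjective χ.2 _ hπ⟩
  let ψ' : IrrCharacter G := ⟨_, Char.IsIrrCharacter.comp_surjective ψ.2 _ hπ⟩
  have h1 := Blocks.intRing_congr hM (Blocks.omega_mem_intRing hM hz hzR) (χ := χ') (ψ := ψ') h
  change MemLocalIdeal M (Blocks.omega (fun g => (χ : G ⧸ P → ℂ) (QuotientGroup.mk' P g)) z -
    Blocks.omega (fun g => (ψ : G ⧸ P → ℂ) (QuotientGroup.mk' P g)) z) at h1
  rw [BlocksNormal.omega_comp, BlocksNormal.omega_comp, hpush, Blocks.blockCoeff_eq_ofOmega,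
    Blocks.omega_ofOmega, Blocks.omega_ofOmega,
    Blocks.blockInd_of_mem (Blocks.mem_blockOf_self hM χ)] at h1
  by_contra hne
  rw [Blocks.blockInd_of_notMem (show ψ ∉ B' from hne), sub_zero] at h1
  exact Blocks.not_memI_one hM h1

end Cfsg.Agent.S0941
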