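import Cfsg.Statements.S0968
import Cfsg.Agent.Lib.BlocksNormal.CentralizedDefect

set_option autoImplicit false
open Cfsg

namespace Cfsg.Agent.S0968

/-- Let P be a p-subgroup of the finite group G with P ⊔ C_G(P) = G, and let B be a block with defect group P relative to a maximal ideal M of the algebraic integers containing p. Then there is exactly one θ ∈ B with θ x = θ 1 for all x ∈ P; for this θ the exponent of p in θ(1) equals the exponent of p in the index of P; and the number of members of B equals the number of conjugacy classes of P. -/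
theorem result {G : Type*} [Group G] [Finite G] (p : ℕ) [Fact p.Prime] (M : Ideal Cfsg.AlgInt) (hM : Cfsg.IsPModular p M) (P : Subgroup G) (hP : IsPGroup p P) (hG : P ⊔ Subgroup.centralizer (P : Set G) = ⊤) (B : Set (Cfsg.IrrCharacter G)) (hB : Cfsg.IsPBlock M B) (hD : Cfsg.IsDefectGroup p M B P) : (∃! θ : Cfsg.IrrCharacter G, θ ∈ B ∧ ∀ x ∈ P, (θ : G → ℂ) x = (θ : G → ℂ) 1) ∧ (∀ θ ∈ B, (∀ x ∈ P, (θ : G → ℂ) x = (θ : G → ℂ) 1) → (Cfsg.charDegree (θ : G → ℂ)).factorization p = P.index.factorization p) ∧ Nat.card B = Nat.card (ConjClasses P) := by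
  have := Fintype.ofFinite G
  haveI : P.Normal := by
    rw [← Subgroup.normalizer_eq_top_iff, eq_top_iff, ← hG]
    exact sup_le Subgroup.le_normalizer (Subgroup.centralizer_le_normalizer _)
  obtain ⟨θ, hθB, hθ⟩ := BlocksNormal.exists_mem_trivOn hM hB P hP
  refine ⟨⟨θ, ⟨hθB, hθ⟩, fun η hη =>
    BlocksNormal.unique_trivOn hM hP hG hB hD hθB hθ hη.1 hη.2⟩, fun η hη hηP => ?_,
    BlocksNormal.card_block_eq_card_classes hM hP hG hB hD⟩
  have hp : p.Prime := Fact.out
  obtain ⟨φ, hφ⟩ := CentralChar.exists_deflation P η hηP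
  have hd : charDegree (η : G → ℂ) ∣ P.index := by
    rw [BlocksNormal.charDegree_congr (χ := (η : G → ℂ)) (ψ := (φ : G ⧸ P → ℂ)) (hφ 1), Subgroup.index_eq_card]
    exact Blocks.charDegree_dvd_card φ
  refine le_antisymm
    ((Nat.factorization_le_iff_dvd (Blocks.charDegree_pos η).ne'
      Subgroup.index_ne_zero_of_finite).mpr hd p) ?_
  refine (hp.pow_dvd_iff_le_factorization (Blocks.charDegree_pos η).ne').mp
    (Blocks.pow_dvd_charDegree hM hη hD ?_)
  rw [← P.index_mul_card]
  exact mul_dvd_mul_right (Nat.ordProj_dvd _ _) _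

end Cfsg.Agent.S0968
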