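import Cfsg.Statements.S1192
import Cfsg.Agent.Lib.QDWreath.SemidihedralStructure

set_option autoImplicit false
open Cfsg

namespace Cfsg.Agent.S1192

/-- A quasi-dihedral group S of order 2^(n+1) has exactly three maximal subgroups; one is cyclic, one is isomorphic to the generalized quaternion group of order 2^n and one to the dihedral group of order 2^n. -/
theorem result {S : Type*} [Group S] [Finite S] (hS : Cfsg.IsQuasiDihedral S) (n : ℕ) (hn : Nat.card S = 2 ^ (n + 1)) : ∃ M₁ M₂ M₃ : Subgroup S, IsCoatom M₁ ∧ IsCoatom M₂ ∧ IsCoatom M₃ ∧ M₁ ≠ M₂ ∧ M₁ ≠ M₃ ∧ M₂ ≠ M₃ ∧ (∀ M : Subgroup S, IsCoatom M → M = M₁ ∨ M = M₂ ∨ M = M₃) ∧ IsCyclic M₁ ∧ Nonempty (M₂ ≃* QuaternionGroup (2 ^ (n - 2))) ∧ Nonempty (M₃ ≃* DihedralGroup (2 ^ (n - 1))) := by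
  obtain ⟨d⟩ := QDWreath.qdData_of_card hS hn
  refine ⟨d.cyc, d.quat, d.dih, d.isCoatom_cyc, d.isCoatom_quat, d.isCoatom_dih, ?_, ?_, ?_,
    fun M hM => ?_, d.isCyclic_cyc, d.nonempty_quat_equiv, d.nonempty_dih_equiv⟩
  · intro h
    have := h.symm ▸ d.mem_quat.2 ⟨0, Or.inr rfl⟩
    obtain ⟨i, hi⟩ := d.mem_cyc.1 this
    exact d.a_ne_b _ _ hi.symm
  · intro h
    have := h.symm ▸ d.mem_dih.2 ⟨0, Or.inr rfl⟩
    obtain ⟨i, hi⟩ := d.mem_cyc.1 this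
    exact d.a_ne_b _ _ hi.symm
  · intro h
    have := h ▸ d.mem_quat.2 ⟨0, Or.inr rfl⟩
    obtain ⟨i, hi | hi⟩ := d.mem_dih.1 this
    · exact d.a_ne_b _ _ hi.symm
    · exact QDWreath.two_mul_ne_odd d.one_le _ _ (d.b_injective hi).symm
  · rcases d.eq_cyc_of_mem hM.1 (fun k => d.even_mem_of_isCoatom hM k) with h | h | h
    · exact Or.inl ((lt_or_eq_of_le h).resolve_left (fun hl => d.isCoatom_cyc.1 (hM.2 _ hl)))
    · exact Or.inr (Or.inr ((lt_or_eq_of_le h).resolve_left (fun hl => d.isCoatom_dih.1 (hM.2 _ hl))))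
    · exact Or.inr (Or.inl ((lt_or_eq_of_le h).resolve_left (fun hl => d.isCoatom_quat.1 (hM.2 _ hl))))

end Cfsg.Agent.S1192
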