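import Cfsg.Statements.S1194
import Cfsg.Agent.Lib.QDWreath.SemidihedralStructure

set_option autoImplicit false
open Cfsg

namespace Cfsg.Agent.S1194

/-- In a quasi-dihedral 2-group S, every proper normal subgroup is either a maximal subgroup or a cyclic subgroup contained in the derived subgroup S'. -/
theorem result {S : Type*} [Group S] [Finite S] (hS : Cfsg.IsQuasiDihedral S) (N : Subgroup S) [N.Normal] (hN : N ≠ ⊤) : IsCoatom N ∨ (IsCyclic N ∧ N ≤ commutator S) := by
  obtain ⟨n, ⟨d⟩⟩ := QDWreath.nonempty_qdData hS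
  by_cases hc : N ≤ d.cyc
  · by_cases ho : ∃ k, d.a (2 * k + 1) ∈ N
    · obtain ⟨k, hk⟩ := ho
      left
      have hall : ∀ j, d.a j ∈ N := by
        intro j
        obtain ⟨u, hu⟩ := QDWreath.isUnit_odd k
        have := N.pow_mem hk ((j * ((u⁻¹ : (ZMod (2 ^ n))ˣ) : ZMod (2 ^ n))).val)
        rw [d.a_pow, ZMod.natCast_zmod_val, ← hu, mul_assoc, Units.inv_mul, mul_one] at this
        exact this
      have : N = d.cyc := le_antisymm hc (fun g hg => by
        obtain ⟨i, rfl⟩ := d.mem_cyc.1 hg; exact hall i)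
      rw [this]; exact QDWreath.QDData.isCoatom_cyc d
    · right
      have := d.isCyclic_cyc
      refine ⟨Subgroup.isCyclic_of_le hc, fun g hg => ?_⟩
      obtain ⟨i, rfl⟩ := d.mem_cyc.1 (hc hg)
      obtain ⟨k, rfl | rfl⟩ := QDWreath.even_or_odd i
      · rw [QDWreath.QDData.commutator_eq d, QDWreath.QDData.mem_even]; exact ⟨k, rfl⟩
      · exact absurd ⟨k, hg⟩ ho
  · left
    obtain ⟨g, hg, hg'⟩ := SetLike.not_le_iff_exists.1 hc
    obtain ⟨i, rfl⟩ : ∃ i, g = d.b i :=
      (d.cases g).resolve_left (fun ⟨i, hi⟩ => hg' (d.mem_cyc.2 ⟨i, hi⟩))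
    have heven : ∀ k, d.a (2 * k) ∈ N := by
      intro k
      obtain ⟨j, hj⟩ := d.exists_conj_b i k
      have h1 : d.b (i + 2 * k) ∈ N := hj ▸ (inferInstance : N.Normal).conj_mem _ hg _
      have := N.mul_mem h1 (N.inv_mem hg)
      rw [d.b_inv, d.b_mul_b] at this
      convert this using 2
      linear_combination i * d.rexp_sq
    exact QDWreath.QDData.isCoatom_of_even d hN heven hg rfl

end Cfsg.Agent.S1194
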