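import Cfsg.Statements.S3116
import Cfsg.Agent.EqLemmas

set_option autoImplicit false
open Cfsg

namespace Cfsg.Agent.S3116


theorem pow_mem_of_cyclic_index_two {X : Type*} [Group X] {m : ℕ} (x y : X)
    (hx : orderOf x = 2 ^ m) (hgen : ∀ g : X, g ∈ Subgroup.zpowers x ∨ ∃ h ∈ Subgroup.zpowers x, g = y * h)
    (hchar : ∀ φ : MulAut X, φ x ∈ Subgroup.zpowers x) : IsPGroup 2 (MulAut X) := by
  intro φ
  have hfin : IsOfFinOrder x := by rw [← orderOf_pos_iff, hx]; positivity
  obtain ⟨k, hk⟩ : ∃ k : ℕ, x ^ k = φ x := by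
    obtain ⟨k, hk⟩ := (hfin.mem_powers_iff_mem_zpowers.2 (hchar φ) : φ x ∈ Submonoid.powers x)
    exact ⟨k, hk⟩
  have hcop : Nat.Coprime k (2 ^ m) := by
    have h1 : orderOf (x ^ k) = orderOf x := by rw [hk, MulEquiv.orderOf_eq]
    rw [hfin.orderOf_pow, hx] at h1
    have h2 : 2 ^ m / (2 ^ m).gcd k = 2 ^ m / 1 := by rw [h1, Nat.div_one]
    have h3 := (Nat.div_eq_iff_eq_mul_left (Nat.gcd_pos_of_pos_left _ (by positivity))
      (Nat.gcd_dvd_left _ _)).1 h1
    have h4 : (2 ^ m).gcd k = 1 := by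
      have h5 : 2 ^ m * 1 = 2 ^ m * (2 ^ m).gcd k := by rw [mul_one]; exact h3
      exact (Nat.eq_of_mul_eq_mul_left (by positivity) h5).symm
    exact Nat.Coprime.symm h4
  have hiter : ∀ j : ℕ, (φ ^ j) x = x ^ (k ^ j) := by
    intro j
    induction j with
    | zero => simp
    | succ j ih => rw [pow_succ', MulAut.mul_apply, ih, map_pow, ← hk, ← pow_mul, pow_succ']
  obtain ⟨t, ht⟩ : ∃ t : ℕ, (2 ^ m).totient = 2 ^ t := by
    rcases m with _ | m
    · exact ⟨0, by simp⟩
    · exact ⟨m, by rw [Nat.totient_prime_pow Nat.prime_two (by omega)]; simp⟩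
  set ψ := φ ^ (2 ^ t) with hψ
  have hψx : ψ x = x := by
    rw [hψ, hiter]
    calc x ^ k ^ 2 ^ t = x ^ 1 := by
          rw [pow_eq_pow_iff_modEq, hx, ← ht]
          exact Nat.ModEq.pow_totient hcop
      _ = x := pow_one x
  have hψfix : ∀ h ∈ Subgroup.zpowers x, ψ h = h := by
    rintro h ⟨i, rfl⟩
    simp [map_zpow, hψx]
  refine ⟨t + m, ?_⟩
  rw [pow_add, pow_mul, ← hψ]
  rcases hgen (ψ y) with hy | ⟨c, hc, hy⟩
  · -- then y is a power of x
    have hy' : y ∈ Subgroup.zpowers x := by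
      have : y = ψ y := ψ.injective (hψfix _ hy).symm
      rwa [this]
    ext g
    have hg : g ∈ Subgroup.zpowers x := by
      rcases hgen g with hg | ⟨h, hh, rfl⟩
      · exact hg
      · exact mul_mem hy' hh
    have hj : ∀ j : ℕ, (ψ ^ j) g = g := by
      intro j
      induction j with
      | zero => simp
      | succ j ih => rw [pow_succ', MulAut.mul_apply, ih, hψfix g hg]
    rw [hj, MulAut.one_apply]
  · have hj : ∀ j : ℕ, (ψ ^ j) y = y * c ^ j ∧ ∀ h ∈ Subgroup.zpowers x, (ψ ^ j) h = h := by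
      intro j
      induction j with
      | zero => simp
      | succ j ih =>
        refine ⟨?_, fun h hh => by rw [pow_succ', MulAut.mul_apply, ih.2 h hh, hψfix h hh]⟩
        rw [pow_succ', MulAut.mul_apply, ih.1, map_mul, hy, hψfix _ (pow_mem hc j), mul_assoc,
          ← pow_succ']
    have hc1 : c ^ (2 ^ m) = 1 := by
      obtain ⟨i, rfl⟩ := hc
      rw [← zpow_natCast, ← zpow_mul, mul_comm, zpow_mul, zpow_natCast, ← hx, pow_orderOf_eq_one,
        one_zpow]
    ext g
    rw [MulAut.one_apply]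
    rcases hgen g with hg | ⟨h, hh, rfl⟩
    · exact (hj _).2 g hg
    · rw [map_mul, (hj _).1, (hj _).2 h hh, hc1, mul_one]

/-- The automorphism group of a dihedral 2-group of order at least 8, or of a quasi-dihedral (semidihedral) 2-group of order at least 16, is a 2-group. -/
theorem result {X : Type*} [Group X] [Finite X] (h2 : IsPGroup 2 X)
    (h : (∃ n : ℕ, 4 ≤ n ∧ Nonempty (X ≃* DihedralGroup n)) ∨ Cfsg.IsQuasiDihedral X) : IsPGroup 2 (MulAut X) := by
  rcases h with ⟨n, hn, ⟨e⟩⟩ | ⟨n, hn, hcard, x, y, hx, hy, hyx⟩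
  · haveI : NeZero n := ⟨by omega⟩
    obtain ⟨a, ha⟩ := IsPGroup.iff_card.1 h2
    rw [Nat.card_congr e.toEquiv, DihedralGroup.nat_card] at ha
    obtain ⟨m, rfl⟩ : ∃ m, n = 2 ^ m := by
      rcases a with _ | a
      · simp at ha
      · exact ⟨a, by rw [pow_succ'] at ha; omega⟩
    have hgen : ∀ g : DihedralGroup (2 ^ m), g ∈ Subgroup.zpowers (DihedralGroup.r 1) ∨
        ∃ h ∈ Subgroup.zpowers (DihedralGroup.r 1), g = DihedralGroup.sr 0 * h := by
      have hr : ∀ i : ZMod (2 ^ m), (DihedralGroup.r i) ∈ Subgroup.zpowers (DihedralGroup.r 1) :=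
        fun i => ⟨i.val, by simp [DihedralGroup.r_one_pow]⟩
      rintro (i | i)
      · exact Or.inl (hr i)
      · exact Or.inr ⟨DihedralGroup.r i, hr i, by rw [DihedralGroup.sr_mul_r, zero_add]⟩
    have hP : IsPGroup 2 (MulAut (DihedralGroup (2 ^ m))) := by
      refine pow_mem_of_cyclic_index_two (DihedralGroup.r 1) (DihedralGroup.sr 0)
        DihedralGroup.orderOf_r_one hgen fun φ => ?_
      rcases hgen (φ (DihedralGroup.r 1)) with h | ⟨h, hh, hφ⟩
      · exact h
      · exfalso
        have ho : orderOf (φ (DihedralGroup.r 1)) = 2 ^ m := by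
          rw [MulEquiv.orderOf_eq, DihedralGroup.orderOf_r_one]
        rcases h with i | i
        · rw [hφ, DihedralGroup.sr_mul_r, DihedralGroup.orderOf_sr] at ho
          omega
        · obtain ⟨j, hj⟩ := hh
          simp only [DihedralGroup.r_one_zpow] at hj
          cases hj
    exact hP.of_equiv (MulAut.congr e).symm
  · have hgen : ∀ g : X, g ∈ Subgroup.zpowers x ∨ ∃ h ∈ Subgroup.zpowers x, g = y * h := by
      intro g
      have hidx : (Subgroup.zpowers x).index = 2 := by
        have h := (Subgroup.zpowers x).card_mul_index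
        rw [Nat.card_zpowers, hx, hcard, pow_succ] at h
        exact Nat.eq_of_mul_eq_mul_left (by positivity) h
      have hyx' : y ∉ Subgroup.zpowers x := by
        intro hyz
        obtain ⟨i, rfl⟩ := hyz
        have hh : x ^ i * x * (x ^ i)⁻¹ = x := by group
        rw [hh] at hyx
        have h1 : x ^ 1 = x ^ (2 ^ (n - 1) - 1) := by rw [pow_one]; exact hyx
        rw [pow_inj_mod, hx] at h1
        have h4 : 4 ≤ 2 ^ (n - 1) := le_trans (by norm_num) (Nat.pow_le_pow_right (by norm_num) (show 2 ≤ n - 1 by omega))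
        have h5 : 2 ^ (n - 1) < 2 ^ n := Nat.pow_lt_pow_right (by norm_num) (by omega)
        rw [Nat.mod_eq_of_lt (by omega), Nat.mod_eq_of_lt (by omega)] at h1
        omega
      by_cases hg : g ∈ Subgroup.zpowers x
      · exact Or.inl hg
      · refine Or.inr ⟨y⁻¹ * g, ?_, by group⟩
        rw [Subgroup.mul_mem_iff_of_index_two hidx]
        simp [hg, hyx']
    refine pow_mem_of_cyclic_index_two x y hx hgen fun φ => ?_
    rcases hgen (φ x) with h | ⟨h, hh, hφ⟩
    · exact h
    · exfalso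
      obtain ⟨i, rfl⟩ := hh
      have hy' : y⁻¹ = y := inv_eq_of_mul_eq_one_right (by rw [← pow_two, ← hy, pow_orderOf_eq_one])
      set r := 2 ^ (n - 1) with hr
      have h4 : 1 ≤ r := Nat.one_le_two_pow
      have hsq : (y * x ^ i) * (y * x ^ i) = (x ^ r) ^ i := by
        calc (y * x ^ i) * (y * x ^ i) = (y * x ^ i * y⁻¹) * x ^ i := by rw [hy']; group
          _ = (x ^ (r - 1)) ^ i * x ^ i := by rw [← conj_zpow, hyx]
          _ = (x ^ r) ^ i := by
            rw [← zpow_natCast x r, ← zpow_natCast x (r - 1), ← zpow_mul, ← zpow_mul, ← zpow_add]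
            congr 1
            push_cast [h4]
            ring
      have hφ4 : φ x ^ 4 = 1 := by
        rw [hφ, show 4 = 2 * 2 from rfl, pow_mul, pow_two (y * x ^ i), hsq, pow_two, ← zpow_add,
          ← zpow_natCast x r, ← zpow_mul]
        have : ((r : ℤ) * (i + i)) = ((2 ^ n : ℕ) : ℤ) * i := by
          rw [hr, show n = (n - 1) + 1 by omega, pow_succ, Nat.add_sub_cancel]
          push_cast
          ring
        rw [this, zpow_mul, zpow_natCast, ← hx, pow_orderOf_eq_one, one_zpow]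
      have h8 := orderOf_dvd_of_pow_eq_one hφ4
      rw [MulEquiv.orderOf_eq, hx] at h8
      have := Nat.le_of_dvd (by norm_num) h8
      have : 2 ^ 3 ≤ 2 ^ n := Nat.pow_le_pow_right (by norm_num) hn
      omega

end Cfsg.Agent.S3116
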