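import Cfsg.Statements.S0947
import Cfsg.Agent.Lib.Blocks.HeightZero
import Cfsg.Agent.Lib.SecondMain.Columns
import Cfsg.Agent.Lib.ZStar.SecondPrincipal
import Cfsg.Agent.Lib.Cores.Basic

set_option autoImplicit false
open Cfsg

namespace Cfsg.Agent.S0947

open scoped ComplexConjugate

theorem principal_colSum_of_complement {G : Type*} [Group G] [Finite G] {p : ℕ} [Fact p.Prime]
    {M : Ideal Cfsg.AlgInt} (hM : Cfsg.IsPModular p M) {k : ℕ}
    (hk : (Cfsg.pPrimeCore p G).index = p ^ k) {y : G} (hy : ¬ p ∣ orderOf y) :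
    SecondMain.colSum (Cfsg.principalBlock M G) y y
      = ((p ^ (Nat.card G).factorization p : ℕ) : ℂ) := by
  classical
  have := Fintype.ofFinite G
  have hp : p.Prime := Fact.out
  set K := Cfsg.pPrimeCore p G with hK
  have hKp : ¬ p ∣ Nat.card K := Cores.not_dvd_card_pPrimeCore
  have hmem : ∀ g : G, ¬ p ∣ orderOf g → g ∈ K := fun g hg => by
    rw [← QuotientGroup.eq_one_iff, ← orderOf_eq_one_iff]
    refine Nat.eq_one_of_dvd_coprimes ((hp.coprime_iff_not_dvd.2 hg).pow_left k) ?_
      (orderOf_map_dvd (QuotientGroup.mk' K) g)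
    rw [← hk, Subgroup.index]
    exact orderOf_dvd_natCard _
  set e0 := Cfsg.blockCoeff (Cfsg.principalBlock M G) with he0
  have htriv : ∀ χ ∈ Cfsg.principalBlock M G, (χ : G → ℂ) y = (χ : G → ℂ) 1 := by
    intro χ hχ
    have h := ZStar.apply_mul_eq hM (u := 1) (v := y) ⟨0, by simp⟩ K hKp
      (fun o _ => Commute.one_right o)
      (fun c _ o ho => (inferInstance : K.Normal).conj_mem o ho c) (hmem y hy) hχ
    rwa [one_mul] at h
  have h1 : e0 1 = (Nat.card K : ℂ)⁻¹ := by
    conv_lhs => rw [he0, ← ZStar.conv_principal_eps hM K hKp, Blocks.conv_eq_sum]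
    rw [← mul_one (Nat.card K : ℂ)⁻¹, ← ZStar.sum_principal hM G, Finset.mul_sum]
    refine Finset.sum_congr rfl fun x _ => ?_
    rw [mul_one]
    by_cases hx : x ∈ K
    · rw [ZStar.eps_of_mem (K.inv_mem hx)]; ring
    · rw [Blocks.blockCoeff_eq_ofOmega, Blocks.ofOmega_singular_eq_zero hM
        (Blocks.blockInd_mem_intRing hM BrauerPairs.isPBlock_principal)
        (not_not.1 fun h => hx (hmem x h)), zero_mul, mul_zero]
  have h2 : SecondMain.colSum (Cfsg.principalBlock M G) y y = (Nat.card G : ℂ) * e0 1 := by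
    rw [he0, Cfsg.blockCoeff, ← mul_assoc, mul_inv_cancel₀ Blocks.card_ne_zero_C, one_mul,
      SecondMain.colSum]
    exact finsum_mem_congr rfl fun χ hχ => by rw [htriv χ hχ]
  rw [h2, h1, ← K.index_mul_card, Nat.cast_mul,
    mul_inv_cancel_right₀ Blocks.card_ne_zero_C, Nat.factorization_mul K.index_ne_zero_of_finite
      Nat.card_pos.ne', Finsupp.add_apply, Nat.factorization_eq_zero_of_not_dvd hKp, add_zero, hk,
    hp.factorization_pow, Finsupp.single_eq_same]

theorem ofReal_sum_norm_sq {G : Type*} [Group G] [Finite G] (B : Set (Cfsg.IrrCharacter G))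
    (g : G) :
    ((∑ᶠ χ ∈ B, ‖(χ : G → ℂ) g‖ ^ 2 : ℝ) : ℂ) = SecondMain.colSum B g g := by
  rw [SecondMain.colSum, finsum_mem_eq_finite_toFinset_sum _ B.toFinite,
    finsum_mem_eq_finite_toFinset_sum _ B.toFinite, Complex.ofReal_sum]
  refine Finset.sum_congr rfl fun χ _ => ?_
  rw [Complex.mul_conj']
  push_cast
  rfl

/-- Let z ≠ 1 be a p-element of the finite group G with centralizer H, and fix a maximal ideal M of the algebraic integers containing p. (i) For every y ∈ H of order prime to p, the sum over ζ in the principal block of G of |ζ (z * y)|² equals the sum over χ in the principal block of H of |χ y|². (ii) If moreover H has a normal p-complement (its largest normal subgroup of order prime to p has p-power index), that common value is the largest power of p dividing the order of H. -/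
theorem result {G : Type*} [Group G] [Finite G] (p : ℕ) [Fact p.Prime] (M : Ideal Cfsg.AlgInt) (hM : Cfsg.IsPModular p M) (z : G) (hz : ∃ k : ℕ, orderOf z = p ^ k) (hz1 : z ≠ 1) (y : Subgroup.centralizer ({z} : Set G)) (hy : ¬ p ∣ orderOf y) : (∑ᶠ ζ ∈ Cfsg.principalBlock M G, ‖(ζ : G → ℂ) (z * (y : G))‖ ^ 2 = ∑ᶠ χ ∈ Cfsg.principalBlock M (Subgroup.centralizer ({z} : Set G)), ‖(χ : Subgroup.centralizer ({z} : Set G) → ℂ) y‖ ^ 2) ∧ ((∃ k : ℕ, (Cfsg.pPrimeCore p (Subgroup.centralizer ({z} : Set G))).index = p ^ k) → ∑ᶠ ζ ∈ Cfsg.principalBlock M G, ‖(ζ : G → ℂ) (z * (y : G))‖ ^ 2 = ((p ^ (Nat.card (Subgroup.centralizer ({z} : Set G))).factorization p : ℕ) : ℝ)) := by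
  have hH' : ∀ g, g ∈ (Subgroup.centralizer ({z} : Set G)) ↔ Commute z g := fun _ => SecondMain.commute_iff_mem_centralizer_singleton
  have hBG : Cfsg.IsPBlock M (Cfsg.principalBlock M G) := BrauerPairs.isPBlock_principal
  have hiff : ∀ {b : Set (Cfsg.IrrCharacter (Subgroup.centralizer ({z} : Set G)))}, Cfsg.InducedBlockDefined M (Subgroup.centralizer ({z} : Set G)) b →
      (Cfsg.IsInducedBlock M (Subgroup.centralizer ({z} : Set G)) b (Cfsg.principalBlock M G) ↔ b = Cfsg.principalBlock M (Subgroup.centralizer ({z} : Set G))) :=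
    fun hb => Blocks.okuyama_criterion hM (Subgroup.centralizer ({z} : Set G)) (BrauerPairs.oneIrr G) (BrauerPairs.oneIrr (Subgroup.centralizer ({z} : Set G)))
      (fun _ => rfl) (Blocks.blockHeight_eq_zero_of_one rfl _)
      (Blocks.blockHeight_eq_zero_of_one rfl _) hb
  have hset : SecondMain.inducedSet M (Subgroup.centralizer ({z} : Set G)) (Cfsg.principalBlock M G) = {Cfsg.principalBlock M (Subgroup.centralizer ({z} : Set G))} := by
    ext b
    refine ⟨fun hb => (hiff ⟨_, hb⟩).1 hb, fun hb => ?_⟩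
    obtain rfl := Set.mem_singleton_iff.1 hb
    exact (hiff (SecondMain.exists_induced_centralizer hM hz hH'
      BrauerPairs.isPBlock_principal)).2 rfl
  have key : SecondMain.colSum (Cfsg.principalBlock M G) (z * (y : G)) (z * (y : G))
      = SecondMain.colSum (Cfsg.principalBlock M (Subgroup.centralizer ({z} : Set G))) y y := by
    rw [SecondMain.colSum_eq_sum hM hBG hz hH' hy hy, hset, finsum_mem_singleton]
  refine ⟨Complex.ofReal_injective ?_, fun ⟨k, hk⟩ => Complex.ofReal_injective ?_⟩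
  · rw [ofReal_sum_norm_sq, ofReal_sum_norm_sq, key]
  · rw [ofReal_sum_norm_sq, key, principal_colSum_of_complement hM hk hy]
    push_cast
    rfl

end Cfsg.Agent.S0947
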