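import Cfsg.Statements.S0939
import Cfsg.Agent.Lib.BlocksNormal.Cover
import Cfsg.Agent.Lib.Cores.Basic

set_option autoImplicit false
open Cfsg

namespace Cfsg.Agent.S0939

/-- Let G be a finite group with a normal p-complement (the largest normal subgroup O_p'(G) of order prime to p has p-power index). Then, relative to any maximal ideal M of the algebraic integers containing p, the principal block of G is the set of irreducible characters χ with χ n = χ 1 for every n ∈ O_p'(G). -/
theorem result {G : Type*} [Group G] [Finite G] (p : ℕ) [Fact p.Prime] (M : Ideal Cfsg.AlgInt) (hM : Cfsg.IsPModular p M) (hnc : ∃ k : ℕ, (Cfsg.pPrimeCore p G).index = p ^ k) : Cfsg.principalBlock M G = {χ : Cfsg.IrrCharacter G | ∀ n ∈ Cfsg.pPrimeCore p G, (χ : G → ℂ) n = (χ : G → ℂ) 1} := by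
  classical
  obtain ⟨k, hk⟩ := hnc
  have := Fintype.ofFinite G
  have := Fintype.ofFinite (pPrimeCore p G)
  have := Fintype.ofFinite (G ⧸ pPrimeCore p G)
  ext χ
  refine ⟨fun h => BlocksNormal.trivOn_of_sameBlock (pPrimeCore p G) hM
    Cores.not_dvd_card_pPrimeCore (χ := BrauerPairs.oneIrr G) h (fun _ _ => rfl), fun h => ?_⟩
  obtain ⟨φ, hφ⟩ := CentralChar.exists_deflation _ χ h
  have h1 := BlocksNormal.sameBlock_comp hM (π := QuotientGroup.mk' (pPrimeCore p G))
    (QuotientGroup.mk'_surjective _) (BlocksNormal.sameBlock_of_isPGroup hM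
      (IsPGroup.of_card (n := k) hk) (BrauerPairs.oneIrr (G ⧸ pPrimeCore p G)) φ)
  show SameBlock M (fun _ => 1) (χ : G → ℂ)
  rw [funext hφ]
  exact h1

end Cfsg.Agent.S0939
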