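import Cfsg.Statements.S4614
import Cfsg.Agent.Lib.KMinusL.Basic
import Cfsg.Agent.Lib.SecondMain.Principal
import Cfsg.Agent.Lib.BlocksNormal.Cover
import Cfsg.Agent.Lib.FSInd.Basic
import Cfsg.Agent.Lib.CentralChar.Twist
import Cfsg.Agent.S0939
import Cfsg.Agent.S0947

set_option autoImplicit false
open Cfsg
open scoped ComplexConjugate

namespace Cfsg.Agent.S4614

universe u

variable {G : Type u} [Group G] [Finite G] {p : ℕ} [Fact p.Prime] {M : Ideal AlgInt}

omit [Fact p.Prime] in
/-- A `p`-group with three conjugacy classes has order three. -/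
theorem card_of_three_classes (hp : p.Prime) (hG : IsPGroup p G)
    (h3 : Nat.card (ConjClasses G) = 3) : Nat.card G = 3 := by
  classical
  haveI : Fact p.Prime := ⟨hp⟩
  have := Fintype.ofFinite G
  have := Fintype.ofFinite (ConjClasses G)
  have hnt : Nontrivial G := by
    by_contra h
    rw [not_nontrivial_iff_subsingleton] at h
    have : Subsingleton (ConjClasses G) := ⟨fun a b => Quotient.inductionOn₂ a b fun x y => by
      rw [Subsingleton.elim x y]⟩
    have := (Finite.card_le_one_iff_subsingleton (α := ConjClasses G)).2 inferInstance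
    omega
  have := hG.center_nontrivial
  obtain ⟨i, hi⟩ := (hG.to_subgroup (Subgroup.center G)).exists_card_eq
  have hmk : ∀ z : Subgroup.center G, ∀ g : G, ConjClasses.mk g = ConjClasses.mk (z : G) → g = z := by
    intro z g h
    obtain ⟨c, hc⟩ := isConj_iff.1 (ConjClasses.mk_eq_mk_iff_isConj.1 h).symm
    rw [← hc, (Subgroup.mem_center_iff.1 z.2 c), mul_inv_cancel_right]
  have hinj : Function.Injective fun z : Subgroup.center G => ConjClasses.mk (z : G) :=
    fun a b h => Subtype.ext (hmk b a h)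
  by_cases hab : ∀ x : G, x ∈ Subgroup.center G
  · have hb : Function.Bijective (ConjClasses.mk (α := G)) :=
      ⟨fun a b h => hmk ⟨b, hab b⟩ a h, ConjClasses.mk_surjective⟩
    rw [Nat.card_eq_of_bijective _ hb, h3]
  obtain ⟨x, hx⟩ := not_forall.1 hab
  have hZ1 : 1 < Nat.card (Subgroup.center G) := Finite.one_lt_card
  have himg : ∀ z : Subgroup.center G, ConjClasses.mk (z : G) ≠ ConjClasses.mk x :=
    fun z h => hx (by rw [hmk z x h.symm]; exact z.2)
  set s := Finset.univ.image (fun z : Subgroup.center G => ConjClasses.mk (z : G)) with hs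
  have hscard : s.card = Nat.card (Subgroup.center G) := by
    rw [hs, Finset.card_image_of_injective _ hinj, Finset.card_univ, Nat.card_eq_fintype_card]
  have hxs : ConjClasses.mk x ∉ s := by simp [hs, himg]
  have hle := Finset.card_le_univ (insert (ConjClasses.mk x) s)
  rw [Finset.card_insert_of_notMem hxs, ← Nat.card_eq_fintype_card, h3] at hle
  have hZ : Nat.card (Subgroup.center G) = 2 := by omega
  have huniv : insert (ConjClasses.mk x) s = Finset.univ :=
    Finset.eq_univ_of_card _ (by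
      rw [Finset.card_insert_of_notMem hxs, ← Nat.card_eq_fintype_card, h3, hscard, hZ])
  have hp2 : p = 2 := by
    have h : p ∣ 2 := by
      rw [← hZ, hi]
      exact dvd_pow_self p fun h0 => by rw [h0, pow_zero] at hi; omega
    exact (Nat.prime_dvd_prime_iff_eq hp Nat.prime_two).1 h
  have horb : MulAction.orbit (ConjAct G) x = ((Subgroup.center G : Set G))ᶜ := by
    ext g
    rw [ConjAct.orbit_eq_carrier_conjClasses, ConjClasses.mem_carrier_iff_mk_eq, Set.mem_compl_iff,
      SetLike.mem_coe]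
    constructor
    · intro h hg
      exact himg ⟨g, hg⟩ h
    · intro hg
      have hm := huniv ▸ Finset.mem_univ (ConjClasses.mk g)
      rcases Finset.mem_insert.1 hm with h | h
      · exact h
      · obtain ⟨z, -, hz⟩ := Finset.mem_image.1 h
        exact absurd (by rw [hmk z g hz.symm]; exact z.2) hg
  have horbcard : Nat.card (MulAction.orbit (ConjAct G) x) = Nat.card G - 2 := by
    rw [Nat.card_coe_set_eq, horb, Set.ncard_compl, ← Nat.card_coe_set_eq]
    exact congrArg _ hZ
  have hmul := Nat.card_congr (MulAction.orbitProdStabilizerEquivGroup (ConjAct G) x)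
  rw [Nat.card_prod, horbcard, ← Subgroup.nat_card_centralizer_nat_card_stabilizer,
    Nat.card_congr (ConjAct.ofConjAct (G := G)).toEquiv] at hmul
  have hC : 4 ≤ Nat.card (Subgroup.centralizer ({x} : Set G)) := by
    obtain ⟨j, hj⟩ := (hG.to_subgroup (Subgroup.centralizer ({x} : Set G))).exists_card_eq
    have hlt : Subgroup.center G < Subgroup.centralizer ({x} : Set G) := by
      refine SetLike.lt_iff_le_and_exists.2 ⟨fun z hz => ?_, x, ?_, hx⟩
      · exact Subgroup.mem_centralizer_singleton_iff.2 (Subgroup.mem_center_iff.1 hz x).symm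
      · exact Subgroup.mem_centralizer_singleton_iff.2 rfl
    have h2 : 2 < Nat.card (Subgroup.centralizer ({x} : Set G)) := by
      rw [← hZ]
      exact Set.Finite.card_lt_card (Set.toFinite _) hlt
    rw [hj, hp2] at h2 ⊢
    rcases j with _ | _ | j
    · simp at h2
    · simp at h2
    · rw [pow_add]; have := Nat.one_le_two_pow (n := j); omega
  have hG4 : 4 ≤ Nat.card G := hC.trans (Subgroup.card_le_card_group _)
  nlinarith [Nat.sub_add_cancel (show 2 ≤ Nat.card G by omega)]

omit [Fact p.Prime] in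
/-- The principal block is closed under complex conjugation. -/
theorem conj_mem_principal [Fintype G] {χ : IrrCharacter G} (hχ : χ ∈ principalBlock M G) :
    (⟨fun g => conj ((χ : G → ℂ) g), Char.IsIrrCharacter.conj χ.2⟩ : IrrCharacter G) ∈
      principalBlock M G := by
  intro g
  have hC : Subgroup.centralizer ({g⁻¹} : Set G) = Subgroup.centralizer ({g} : Set G) := by
    ext z
    simp only [Subgroup.mem_centralizer_singleton_iff]
    exact ⟨fun h => ((inv_inv g) ▸ (Commute.inv_right (show Commute z g⁻¹ from h)) : Commute z g),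
      fun h => (Commute.inv_right (show Commute z g from h))⟩
  have hχc : IsCharacter G (χ : G → ℂ) := by
    obtain ⟨n, ρ, -, h⟩ := χ.2; exact ⟨n, ρ, h⟩
  have hd : conj ((χ : G → ℂ) 1) = (χ : G → ℂ) 1 := by
    rw [← Char.IsCharacter.apply_inv hχc, inv_one]
  have h := hχ g⁻¹
  simp only [centralChar, hC] at h ⊢
  rw [hd, ← Char.IsCharacter.apply_inv hχc]
  exact h

omit [Fact p.Prime] in
theorem index_pPrimeCore (hp : p.Prime) (h : HasNormalPComplement p G) :
    ∃ k, (pPrimeCore p G).index = p ^ k := by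
  obtain ⟨P, N, hN, hc⟩ := h
  haveI : Fact p.Prime := ⟨hp⟩
  obtain ⟨n, hn⟩ := P.2.exists_card_eq
  have hi : N.index = p ^ n := by rw [Subgroup.IsComplement'.index_eq_card hc.symm, hn]
  have hco : (Nat.card N).Coprime p := by
    rw [Nat.coprime_comm, hp.coprime_iff_not_dvd]
    have := P.not_dvd_index
    rwa [Subgroup.IsComplement'.index_eq_card hc] at this
  obtain ⟨k, -, hk⟩ := (Nat.dvd_prime_pow hp).1
    (hi ▸ Subgroup.index_dvd_of_le (Cores.le_pPrimeCore hN hco))
  exact ⟨k, hk⟩

/-- With a normal `p`-complement the Sylow subgroups have three classes. -/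
theorem of_complement (hM : IsPModular p M) (hk : Nat.card (principalBlock M G) = 3)
    (S : Sylow p G) (h : HasNormalPComplement p G) : Nat.card (S : Subgroup G) = 3 := by
  classical
  have hp : p.Prime := Fact.out
  obtain ⟨k, hi⟩ := index_pPrimeCore hp h
  have : (pPrimeCore p G).Normal := Cores.pPrimeCore_normal p G
  have hset := S0939.result p M hM ⟨k, hi⟩
  let π := QuotientGroup.mk' (pPrimeCore p G)
  have hπ : Function.Surjective π := QuotientGroup.mk'_surjective _
  have hmem : ∀ ψ : IrrCharacter (G ⧸ pPrimeCore p G),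
      (⟨_, Char.IsIrrCharacter.comp_surjective ψ.2 π hπ⟩ : IrrCharacter G) ∈ principalBlock M G := by
    intro ψ
    rw [hset]
    intro n hn
    show (ψ : G ⧸ pPrimeCore p G → ℂ) (π n) = (ψ : G ⧸ pPrimeCore p G → ℂ) (π 1)
    rw [map_one, show π n = 1 from (QuotientGroup.eq_one_iff n).2 hn]
  have hb : Function.Bijective fun ψ : IrrCharacter (G ⧸ pPrimeCore p G) =>
      (⟨_, hmem ψ⟩ : principalBlock M G) := by
    refine ⟨fun a b he => Subtype.ext (funext fun q => ?_), fun χ => ?_⟩
    · obtain ⟨g, rfl⟩ := hπ q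
      exact congrFun (congrArg (fun z : principalBlock M G => ((z : IrrCharacter G) : G → ℂ)) he) g
    · have hχ := χ.2
      simp only [hset] at hχ
      obtain ⟨ψ, hψ⟩ := CentralChar.exists_deflation _ (χ : IrrCharacter G) hχ
      exact ⟨ψ, Subtype.ext (Subtype.ext (funext fun g => (hψ g).symm))⟩
  have hQ : IsPGroup p (G ⧸ pPrimeCore p G) := IsPGroup.of_card (n := k) hi
  have hQ3 := card_of_three_classes hp hQ (by
    rw [← Char.card_irr_eq_card_conjClasses, Nat.card_eq_of_bijective _ hb, hk])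
  rw [← hQ3, S.card_eq_multiplicity]
  show _ = (pPrimeCore p G).index
  rw [← (pPrimeCore p G).card_mul_index, Nat.factorization_mul Nat.card_pos.ne'
    Subgroup.index_ne_zero_of_finite, Finsupp.add_apply,
    Nat.factorization_eq_zero_of_not_dvd Cores.not_dvd_card_pPrimeCore, zero_add, hi,
    hp.factorization_pow, Finsupp.single_eq_same]

/-- A character constant on the non-identity elements of a subgroup of order `p` is integral there. -/
theorem exists_int_value {χ : IrrCharacter G} {x : G} (hx : orderOf x = p)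
    (h : ∀ y ∈ Subgroup.zpowers x, y ≠ 1 → (χ : G → ℂ) y = (χ : G → ℂ) x) :
    ∃ a : ℤ, (χ : G → ℂ) x = a := by
  classical
  have := Fintype.ofFinite G
  have := Fintype.ofFinite (Subgroup.zpowers x)
  obtain ⟨d, -, hd, -⟩ := Char.IsIrrCharacter.degree_dvd_card χ.2
  have hχc : IsCharacter G (χ : G → ℂ) := by
    obtain ⟨n, ρ, -, h⟩ := χ.2; exact ⟨n, ρ, h⟩
  have h1c : IsCharacter (Subgroup.zpowers x) fun _ => (1 : ℂ) := by
    obtain ⟨n, ρ, -, h⟩ := (BrauerPairs.oneIrr (Subgroup.zpowers x)).2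
    exact ⟨n, ρ, h⟩
  obtain ⟨m, hm⟩ := Char.IsCharacter.classInner_nat
    (Char.IsCharacter.restrict hχc (Subgroup.zpowers x)) h1c
  rw [classInner] at hm
  simp only [map_one, mul_one] at hm
  rw [Nat.card_zpowers, hx, inv_mul_eq_iff_eq_mul₀ (by exact_mod_cast (Fact.out : p.Prime).ne_zero),
    ← Finset.add_sum_erase _ _ (Finset.mem_univ 1), OneMemClass.coe_one, hd,
    Finset.sum_congr rfl fun (y : Subgroup.zpowers x) hy => h (y : G) y.2 fun h1 =>
      (Finset.mem_erase.1 hy).1 (Subtype.ext h1),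
    Finset.sum_const, nsmul_eq_mul, Finset.card_erase_of_mem (Finset.mem_univ _), Finset.card_univ,
    ← Nat.card_eq_fintype_card, Nat.card_zpowers, hx] at hm
  refine Char.exists_int_of_isIntegral_mul (n := p - 1) (k := (p : ℤ) * m - d) ?_ ?_
    (Char.IsCharacter.isIntegral hχc x)
  · have := (Fact.out : p.Prime).two_le; omega
  · push_cast
    linear_combination hm

/-- Sums over the three members of the block. -/
theorem sum_three {α : Type*} {β : Type*} [AddCommMonoid β] {B : Set α} {a b c : α}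
    (hB : B = {a, b, c}) (hab : a ≠ b) (hac : a ≠ c) (hbc : b ≠ c) (f : α → β) :
    ∑ᶠ x ∈ B, f x = f a + (f b + f c) := by
  rw [hB, finsum_mem_insert _ (by simp [hab, hac]) (Set.toFinite _), finsum_mem_pair hbc]

/-- The arithmetic of the three rows. -/
theorem arith {q : ℕ} {a b ν₂ ν₃ : ℤ} {d₂ d₃ : ℕ} (hq : (q : ℤ) = 1 + a * a + b * b)
    (hodd : ¬ 2 ∣ q) (hdeg : 1 + a * d₂ + b * d₃ = 0) (hν : a * ν₂ + b * ν₃ = 0)
    (h₂ : ν₂ = 1 ∨ ν₂ = -1 ∨ ν₂ = 0) (h₃ : ν₃ = 1 ∨ ν₃ = -1 ∨ ν₃ = 0)
    (h0 : ν₂ = 0 → ν₃ = 0 → a = b ∧ d₂ = d₃) : q = 3 := by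
  have hsingle : ∀ {x : ℤ} {e : ℕ}, 1 + x * e = 0 → (q : ℤ) = 1 + x * x → False := by
    intro x e he hqx
    have hx : x * (-(e : ℤ)) = 1 := by linarith
    rcases Int.eq_one_or_neg_one_of_mul_eq_one hx with rfl | rfl <;> norm_num at hqx <;>
      exact hodd ⟨1, by omega⟩
  by_cases e2 : ν₂ = 0
  · by_cases e3 : ν₃ = 0
    · obtain ⟨rfl, rfl⟩ := h0 e2 e3
      exfalso
      have h2 : (2 : ℤ) ∣ 1 := ⟨-(a * d₂), by linarith⟩
      norm_num at h2
    · subst e2
      have hb : b = 0 := by simpa [e3] using hν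
      subst hb
      exact (hsingle (x := a) (e := d₂) (by linarith) (by linarith)).elim
  · by_cases e3 : ν₃ = 0
    · subst e3
      have ha : a = 0 := by simpa [e2] using hν
      subst ha
      exact (hsingle (x := b) (e := d₃) (by linarith) (by linarith)).elim
    · obtain ⟨t, ht, hb⟩ : ∃ t : ℤ, (t = 1 ∨ t = -1) ∧ b = t * a := by
        rcases h₂ with rfl | rfl | rfl <;> rcases h₃ with rfl | rfl | rfl
        all_goals first
          | exact absurd rfl e2
          | exact absurd rfl e3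
          | exact ⟨1, Or.inl rfl, by linarith⟩
          | exact ⟨-1, Or.inr rfl, by linarith⟩
      subst hb
      have ha : a * (-((d₂ : ℤ) + t * d₃)) = 1 := by linarith
      rcases Int.eq_one_or_neg_one_of_mul_eq_one ha with rfl | rfl <;>
        rcases ht with rfl | rfl <;> norm_num at hq <;> omega

/-- The case without a normal `p`-complement. -/
theorem of_no_complement [Fintype G] (hM : IsPModular p M)
    (hk : Nat.card (principalBlock M G) = 3) (S : Sylow p G) (hnc : ¬ HasNormalPComplement p G) :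
    Nat.card (S : Subgroup G) = 3 := by
  classical
  have hp : p.Prime := Fact.out
  set B := principalBlock M G with hBdef
  have hB : IsPBlock M B := BrauerPairs.isPBlock_principal
  have hint : BrauerPairs.IntegralPrincipal.{u} M := BrauerPairs.integralPrincipal hM
  have hD : IsDefectGroup p M B (S : Subgroup G) :=
    (BrauerPairs.isDefectGroup_principal_iff hM hint _).2 ⟨S, rfl⟩
  have hl : Nat.card B ≤ blockRank p B + 1 := by
    have h1 := KleinDefect.blockRank_pos hM hB
    have h2 : blockRank p B ≠ 1 :=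
      fun h => hnc (BrauerPairs.complement_of_blockRank_principal hM hint h)
    omega
  obtain ⟨habel, hexp⟩ := KMinusL.elementary_principal hM hD hl
  obtain ⟨n, hn⟩ := S.2.exists_card_eq
  -- the order is not one or two
  have hn0 : n ≠ 0 := by
    intro h0
    rw [h0, pow_zero] at hn
    refine hnc ⟨S, ⊤, inferInstance, ?_⟩
    rw [Subgroup.eq_bot_of_card_eq _ hn]
    exact Subgroup.isComplement'_top_bot
  have hq2 : Nat.card (S : Subgroup G) ≠ 2 := by
    intro h2
    have hNC : Subgroup.normalizer ((S : Subgroup G) : Set G) ≤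
        Subgroup.centralizer ((S : Subgroup G) : Set G) := by
      intro g hg
      rw [Subgroup.mem_centralizer_iff]
      intro y hy
      by_cases hy1 : y = 1
      · simp [hy1]
      obtain ⟨a, b, -, hab⟩ := Nat.card_eq_two_iff.1 h2
      have hall : ∀ z : (S : Subgroup G), z = 1 ∨ z = ⟨y, hy⟩ := by
        intro z
        have h1 := Set.eq_univ_iff_forall.1 hab 1
        have hy' := Set.eq_univ_iff_forall.1 hab ⟨y, hy⟩
        have hz := Set.eq_univ_iff_forall.1 hab z
        simp only [Set.mem_insert_iff, Set.mem_singleton_iff] at h1 hy' hz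
        have hne : (⟨y, hy⟩ : (S : Subgroup G)) ≠ 1 := fun h => hy1 (congrArg Subtype.val h)
        rcases h1 with h1 | h1 <;> rcases hy' with hy' | hy' <;> rcases hz with hz | hz <;>
          first | exact absurd (hy'.trans h1.symm) hne | exact Or.inl (hz.trans h1.symm) |
            exact Or.inr (hz.trans hy'.symm)
      rcases hall ⟨g * y * g⁻¹, (Subgroup.mem_normalizer_iff.1 hg y).1 hy⟩ with h | h
      · exact absurd (conj_eq_one_iff.1 (congrArg Subtype.val h)) hy1
      · have h' : g * y * g⁻¹ = y := congrArg Subtype.val h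
        calc y * g = g * y * g⁻¹ * g := by rw [h']
          _ = g * y := by group
    exact hnc ⟨S, _, inferInstance, MonoidHom.ker_transferSylow_isComplement' S hNC⟩
  obtain ⟨x, hxS, hx1⟩ : ∃ x ∈ (S : Subgroup G), x ≠ 1 :=
    ((S : Subgroup G).bot_or_exists_ne_one).resolve_left fun h => hn0 (by
      rw [h, Subgroup.card_bot] at hn
      exact (Nat.pow_eq_one.1 hn.symm).resolve_left hp.ne_one)
  have hxord : orderOf x = p := orderOf_eq_prime (hexp x hxS) hx1
  -- centralisers in `S`
  have hcomp : ∀ w ∈ (S : Subgroup G), w ≠ 1 →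
      HasNormalPComplement p (Subgroup.centralizer ({w} : Set G)) := by
    intro w hw hw1
    have hH : ∀ g, g ∈ Subgroup.centralizer ({w} : Set G) ↔ Commute w g :=
      fun _ => SecondMain.commute_iff_mem_centralizer_singleton
    have hi : IsInducedBlock M (Subgroup.centralizer ({w} : Set G))
        (principalBlock M (Subgroup.centralizer ({w} : Set G))) B := by
      have h := SecondMain.inducedSet_principal hM (Star.exists_order_pow S.2 ⟨w, hw⟩) hH
      exact (h ▸ Set.mem_singleton _ :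
        _ ∈ SecondMain.inducedSet M (Subgroup.centralizer ({w} : Set G)) B)
    exact BrauerPairs.complement_of_blockRank_principal hM (BrauerPairs.integralPrincipal hM)
      ((KMinusL.conj_of_defect hM hB hD hl hw hw1).2 _ hi)
  have hconst : ∀ χ ∈ B, ∀ g : G, p ∣ orderOf g → (χ : G → ℂ) g = (χ : G → ℂ) x := by
    intro χ hχ g hg
    obtain ⟨s, r, hgsr, hs, hr, hsp, hro⟩ := Transfer.exists_pPart_mul (p := p) g
    have hr' : ¬ p ∣ orderOf r := (hp.coprime_iff_not_dvd).mp hro.symm
    have hs1 : s ≠ 1 := fun h => hr' (by rw [h, one_mul] at hgsr; rwa [← hgsr])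
    have hsr : Commute s r := by
      obtain ⟨i, rfl⟩ := Subgroup.mem_zpowers_iff.mp hs
      obtain ⟨j, rfl⟩ := Subgroup.mem_zpowers_iff.mp hr
      exact (Commute.refl g).zpow_zpow i j
    obtain ⟨k, hk⟩ := hsp
    obtain ⟨T, hT⟩ := (IsPGroup.of_card (n := k)
      (by rw [Nat.card_zpowers, hk] : Nat.card (Subgroup.zpowers s) = p ^ k)).exists_le_sylow
    obtain ⟨c, hc⟩ := MulAction.exists_smul_eq G T S
    have hw : c * s * c⁻¹ ∈ (S : Subgroup G) := by
      rw [← hc, Sylow.coe_subgroup_smul, Subgroup.mem_pointwise_smul_iff_inv_smul_mem, ← map_inv,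
        MulAut.smul_def, MulAut.conj_apply]
      simpa [mul_assoc] using hT (Subgroup.mem_zpowers s)
    have hw1 : c * s * c⁻¹ ≠ 1 := fun h => hs1 (conj_eq_one_iff.1 h)
    have hH : ∀ g, g ∈ Subgroup.centralizer ({c * s * c⁻¹} : Set G) ↔ Commute (c * s * c⁻¹) g :=
      fun _ => SecondMain.commute_iff_mem_centralizer_singleton
    have hm : c * r * c⁻¹ ∈ Subgroup.centralizer ({c * s * c⁻¹} : Set G) :=
      (hH _).2 (by
        show c * s * c⁻¹ * (c * r * c⁻¹) = c * r * c⁻¹ * (c * s * c⁻¹)
        rw [conj_mul, hsr.eq, conj_mul])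
    have h := SecondMain.apply_shift_principal hM (Star.exists_order_pow S.2 ⟨_, hw⟩) hH
      (hcomp _ hw hw1) hχ (s := ⟨_, hm⟩) (by
        rwa [← Subgroup.orderOf_coe, SecondMain.orderOf_conj])
    have hcl := Char.IsIrrCharacter.isClassFunction χ.2
    rw [conj_mul, ← hgsr, hcl] at h
    rw [h]
    exact Blocks.classFunction_eq_of_isConj hcl
      ((KMinusL.conj_of_defect hM hB hD hl hxS hx1).1 _ hw hw1).symm
  -- the order
  have hqsq : ∑ᶠ χ ∈ B, ‖(χ : G → ℂ) x‖ ^ 2 = (Nat.card (S : Subgroup G) : ℝ) := by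
    have hS : (S : Subgroup G) ≤ Subgroup.centralizer ({x} : Set G) := fun y hy =>
      Subgroup.mem_centralizer_singleton_iff.2
        (congrArg Subtype.val (habel.is_comm.comm (⟨y, hy⟩ : (S : Subgroup G)) ⟨x, hxS⟩))
    have h := (S0947.result p M hM x (Star.exists_order_pow S.2 ⟨x, hxS⟩) hx1 1
      (by simpa using hp.ne_one)).2 (index_pPrimeCore hp (hcomp x hxS hx1))
    rw [OneMemClass.coe_one, mul_one] at h
    rw [h, S.card_eq_multiplicity]
    refine congrArg (fun k : ℕ => ((p ^ k : ℕ) : ℝ)) ?_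
    refine le_antisymm ((Nat.factorization_le_iff_dvd Nat.card_pos.ne' Nat.card_pos.ne').2
      (Subgroup.card_subgroup_dvd_card _) p) ?_
    have hd := Subgroup.card_dvd_of_le hS
    rw [S.card_eq_multiplicity] at hd
    exact (hp.pow_dvd_iff_le_factorization Nat.card_pos.ne').1 hd
  -- the three characters
  have hone : BrauerPairs.oneIrr G ∈ B := BrauerPairs.oneIrr_mem_principal hM
  obtain ⟨χ₂, χ₃, h23, hset⟩ : ∃ χ₂ χ₃, χ₂ ≠ χ₃ ∧ B \ {BrauerPairs.oneIrr G} = {χ₂, χ₃} :=
    Set.ncard_eq_two.1 (by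
      rw [Set.ncard_diff_singleton_of_mem hone, ← Nat.card_coe_set_eq, hk])
  have h12 : BrauerPairs.oneIrr G ≠ χ₂ := fun h => by
    have := hset.symm ▸ Set.mem_insert χ₂ ({χ₃} : Set _)
    exact this.2 h.symm
  have h13 : BrauerPairs.oneIrr G ≠ χ₃ := fun h => by
    have := hset.symm ▸ Set.mem_insert_of_mem χ₂ (Set.mem_singleton χ₃)
    exact this.2 h.symm
  have hBset : B = {BrauerPairs.oneIrr G, χ₂, χ₃} := by
    rw [← hset, Set.insert_diff_singleton, Set.insert_eq_of_mem hone]
  have h2B : χ₂ ∈ B := by rw [hBset]; simp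
  have h3B : χ₃ ∈ B := by rw [hBset]; simp
  have hsum : ∀ f : IrrCharacter G → ℂ,
      ∑ᶠ χ ∈ B, f χ = f (BrauerPairs.oneIrr G) + (f χ₂ + f χ₃) := sum_three hBset h12 h13 h23
  have h1app : ∀ g : G, ((BrauerPairs.oneIrr G : IrrCharacter G) : G → ℂ) g = 1 := fun _ => rfl
  have hint' : ∀ χ ∈ B, ∃ a : ℤ, (χ : G → ℂ) x = a := fun χ hχ =>
    exists_int_value hxord fun y hy hy1 => hconst χ hχ y (by
      have hd : orderOf y ∣ p := hxord ▸ orderOf_dvd_of_mem_zpowers hy
      rw [((Nat.dvd_prime hp).1 hd).resolve_left fun h => hy1 (orderOf_eq_one_iff.1 h)])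
  obtain ⟨a, ha⟩ := hint' χ₂ h2B
  obtain ⟨b, hb⟩ := hint' χ₃ h3B
  obtain ⟨d₂, -, hd₂, -⟩ := Char.IsIrrCharacter.degree_dvd_card χ₂.2
  obtain ⟨d₃, -, hd₃, -⟩ := Char.IsIrrCharacter.degree_dvd_card χ₃.2
  have hq : (Nat.card (S : Subgroup G) : ℤ) = 1 + a * a + b * b := by
    have h : (((∑ᶠ χ ∈ B, ‖(χ : G → ℂ) x‖ ^ 2 : ℝ)) : ℂ) = (Nat.card (S : Subgroup G) : ℂ) := by
      rw [hqsq]; push_cast; rfl
    rw [S0947.ofReal_sum_norm_sq, SecondMain.colSum, hsum, h1app, ha, hb] at h
    simp only [map_one, map_intCast, one_mul] at h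
    exact_mod_cast (by linear_combination -h :
      ((Nat.card (S : Subgroup G) : ℕ) : ℂ) = 1 + (a : ℂ) * a + (b : ℂ) * b)
  have horth : ∀ g : G, ¬ p ∣ orderOf g →
      1 + (a : ℂ) * (χ₂ : G → ℂ) g + (b : ℂ) * (χ₃ : G → ℂ) g = 0 := by
    intro g hg
    have h := Blocks.weak_orth hM (Blocks.blockInd_mem_intRing hM hB) (x := g) (y := x) hg
      (by rw [hxord])
    rw [hsum, h1app, h1app, ha, hb] at h
    simp only [map_one, map_intCast] at h
    linear_combination h
  have hdeg : 1 + a * d₂ + b * d₃ = 0 := by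
    have h := horth 1 (by simpa using hp.ne_one)
    rw [hd₂, hd₃] at h
    exact_mod_cast h
  by_cases hp2 : p = 2
  · -- the order is two
    exfalso
    obtain ⟨m, hm⟩ : ∃ m, n = m + 2 := ⟨n - 2, by
      have : n ≠ 1 := fun h => hq2 (by rw [hn, h, hp2]; norm_num)
      omega⟩
    have h4 : ((Nat.card (S : Subgroup G) : ℤ) : ZMod 4) = 0 := by
      rw [hn, hp2, hm]
      push_cast
      rw [pow_add, show (2 : ZMod 4) ^ 2 = 0 by decide, mul_zero]
    rw [hq] at h4
    push_cast at h4
    revert h4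
    generalize (a : ZMod 4) = α
    generalize (b : ZMod 4) = β
    revert α β
    decide
  -- odd `p`
  have hodd : ¬ 2 ∣ Nat.card (S : Subgroup G) := by
    rw [hn]
    intro h
    exact hp2 ((Nat.prime_dvd_prime_iff_eq Nat.prime_two hp).1 (Nat.prime_two.dvd_of_dvd_pow h)).symm
  let Θ : G → ℂ := fun g => 1 + (a : ℂ) * (χ₂ : G → ℂ) g + (b : ℂ) * (χ₃ : G → ℂ) g
  have hΘ : ∀ g, Θ (g * g) = Θ g := by
    intro g
    have ho : p ∣ orderOf (g * g) ↔ p ∣ orderOf g := by
      rw [← sq]
      refine ⟨fun h => h.trans (orderOf_pow_dvd 2), fun h => ?_⟩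
      rw [orderOf_pow' g two_ne_zero]
      have hdm : p ∣ orderOf g / Nat.gcd (orderOf g) 2 * Nat.gcd (orderOf g) 2 := by
        rwa [Nat.div_mul_cancel (Nat.gcd_dvd_left _ _)]
      refine ((Nat.Prime.dvd_mul hp).1 hdm).resolve_right fun h' => hp2 ?_
      exact (Nat.prime_dvd_prime_iff_eq hp Nat.prime_two).1 (h'.trans (Nat.gcd_dvd_right _ _))
    by_cases hg : p ∣ orderOf g
    · simp only [Θ, hconst χ₂ h2B _ hg, hconst χ₃ h3B _ hg, hconst χ₂ h2B _ (ho.2 hg),
        hconst χ₃ h3B _ (ho.2 hg)]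
    · exact (horth _ (mt ho.1 hg)).trans (horth _ hg).symm
  have hne : ∀ χ : IrrCharacter G, BrauerPairs.oneIrr G ≠ χ → ∑ g, (χ : G → ℂ) g = 0 := by
    intro χ hχ
    have h := Char.classInner_irr_of_ne χ.2 (BrauerPairs.oneIrr G).2
      fun h => hχ (Subtype.ext h.symm)
    rw [classInner] at h
    simpa [h1app] using h
  have hν : (a : ℂ) * FSInd.fsInd (χ₂ : G → ℂ) + (b : ℂ) * FSInd.fsInd (χ₃ : G → ℂ) = 0 := by
    have h : ∑ g, Θ (g * g) = ∑ g, Θ g := Finset.sum_congr rfl fun g _ => hΘ g
    simp only [Θ, Finset.sum_add_distrib, ← Finset.mul_sum, hne χ₂ h12, hne χ₃ h13] at h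
    simp only [FSInd.fsInd]
    linear_combination (Nat.card G : ℂ)⁻¹ * h
  have hfs : ∀ χ : IrrCharacter G, ∃ ν : ℤ, FSInd.fsInd (χ : G → ℂ) = ν ∧
      (ν = 1 ∨ ν = -1 ∨ ν = 0) ∧ (ν = 0 → ¬ ∀ g : G, ((χ : G → ℂ) g).im = 0) := by
    intro χ
    by_cases hr : ∀ g : G, ((χ : G → ℂ) g).im = 0
    · rcases FSInd.fsInd_eq_one_or_neg_one χ.2 hr with h | h
      · exact ⟨1, by simpa using h, by simp, fun h => absurd h one_ne_zero⟩
      · exact ⟨-1, by simpa using h, by simp, fun h => absurd h (by norm_num)⟩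
    · exact ⟨0, by simpa using FSInd.fsInd_eq_zero_of_not_real χ.2 hr, by simp, fun _ => hr⟩
  obtain ⟨ν₂, hν₂, hc₂, hr₂⟩ := hfs χ₂
  obtain ⟨ν₃, hν₃, hc₃, hr₃⟩ := hfs χ₃
  rw [hν₂, hν₃] at hν
  refine arith hq hodd hdeg (by exact_mod_cast hν) hc₂ hc₃ fun e₂ e₃ => ?_
  -- a conjugate pair
  have hmem := conj_mem_principal (M := M) h2B
  rw [← hBdef, hBset] at hmem
  have hval : ∀ g, (χ₃ : G → ℂ) g = conj ((χ₂ : G → ℂ) g) := by
    rcases hmem with h | h | h
    · exfalso
      refine hr₂ e₂ fun g => ?_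
      have := congrFun (congrArg Subtype.val h) g
      rw [h1app] at this
      simpa using congrArg Complex.im this
    · exfalso
      exact hr₂ e₂ fun g => Complex.conj_eq_iff_im.1 (congrFun (congrArg Subtype.val h) g)
    · exact fun g => (congrFun (congrArg Subtype.val h) g).symm
  constructor
  · have := hval x
    rw [ha, hb, map_intCast] at this
    exact_mod_cast this.symm
  · have := hval 1
    rw [hd₂, hd₃, map_natCast] at this
    exact_mod_cast this.symm

/-- Let G be a finite group, p a prime and M a maximal ideal of the algebraic integers containing p. If the principal p-block of G contains exactly three irreducible characters, then a Sylow p-subgroup of G has order 3 (so p = 3). -/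
theorem result {G : Type*} [Group G] [Finite G] (p : ℕ) [Fact p.Prime] (M : Ideal Cfsg.AlgInt) (hM : Cfsg.IsPModular p M) (hk : Nat.card (Cfsg.principalBlock M G) = 3) (D : Sylow p G) : Nat.card (D : Subgroup G) = 3 := by
  have := Fintype.ofFinite G
  by_cases h : HasNormalPComplement p G
  · exact of_complement hM hk D h
  · exact of_no_complement hM hk D h

end Cfsg.Agent.S4614
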