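import Cfsg.Statements.S5647
import Cfsg.Agent.EqLemmas
import Cfsg.Agent.Lib.Transvect.Symp

set_option autoImplicit false
open Cfsg

namespace Cfsg.Agent.S5647

open Cfsg.Agent.Transvect
open scoped MatrixGroups

variable {F : Type*} [Field F]
variable {ι : Type} [Fintype ι] [DecidableEq ι] {f : (ι → F) → (ι → F) → F}

/-- The invertible matrix of a linear equivalence. -/
noncomputable def glOf (e : (ι → F) ≃ₗ[F] (ι → F)) : GL ι F :=
  ⟨LinearMap.toMatrix' e.toLinearMap, LinearMap.toMatrix' e.symm.toLinearMap,
    by rw [← LinearMap.toMatrix'_comp]; simp, by rw [← LinearMap.toMatrix'_comp]; simp⟩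

lemma app_glOf (e : (ι → F) ≃ₗ[F] (ι → F)) (x : ι → F) : app (glOf e) x = e x := by
  rw [app_apply]
  exact LinearMap.toMatrix'_mulVec _ _

lemma flin_sum_left (hf : Cfsg.Geo.IsBilinearForm f) {κ : Type} (s : Finset κ) (a : κ → ι → F)
    (y : ι → F) : f (∑ j ∈ s, a j) y = ∑ j ∈ s, f (a j) y := by
  rw [← flin_apply hf y, map_sum]; rfl

lemma flin_sum_right (hf : Cfsg.Geo.IsBilinearForm f) {κ : Type} (s : Finset κ) (a : κ → ι → F)
    (y : ι → F) : f y (∑ j ∈ s, a j) = ∑ j ∈ s, f y (a j) := by
  rw [← flin_apply hf, map_sum, LinearMap.sum_apply]; rfl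

lemma decomposition_maximal {t k : ℕ} (hf : Cfsg.Geo.IsSymplecticForm f)
    (D : Fin t → Submodule F (ι → F)) (hD : Cfsg.Geo.IsNondegenerateMDecomposition f k D)
    (hex : k = 2 → ∃ c : F, c ≠ 0 ∧ c ≠ 1) (I : Subgroup (GL ι F))
    (hI : ∀ g, g ∈ I ↔ IsIsom f g) :
    Cfsg.Geo.IsMaximalIn I (Cfsg.Geo.decompositionStabilizer D ⊓ I) := by
  classical
  obtain ⟨⟨ht2, hk0, hdim, hind, htop⟩, hnd, horth⟩ := hD
  have hb := hf.bilinear
  choose p hp1 hp2 hp3 using fun i => exists_pr hb (hnd i)
  have hzero : ∀ i, ∀ x ∈ D i, (∀ u ∈ D i, f u x = 0) → x = 0 := fun i x hx h => by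
    by_contra h0
    obtain ⟨⟨u, hu, hu'⟩, -⟩ := hnd i x hx h0
    exact hu' (h u hu)
  have hp_other : ∀ i j, i ≠ j → ∀ d ∈ D j, p i d = 0 := fun i j hij d hd =>
    hzero i _ (hp1 i d) fun u hu => by rw [hp3 i d u hu]; exact horth i j hij u hu d hd
  have hsum : ∀ x, ∑ j, p j x = x := fun x => by
    rw [← sub_eq_zero]
    by_contra h0
    obtain ⟨⟨y, hy⟩, -⟩ := hf.nondegenerate _ h0
    apply hy
    have : (⊤ : Submodule F (ι → F)) ≤ LinearMap.ker (flin hb ((∑ j, p j x) - x)) := by
      rw [← htop]
      refine iSup_le fun i u hu => ?_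
      rw [LinearMap.mem_ker, flin_apply, sub_eq_add_neg, ← neg_one_smul F x, hb.add_right,
        hb.smul_right, flin_sum_right hb, Finset.sum_eq_single i]
      · rw [hp3 i x u hu]; ring
      · intro j _ hji
        exact horth i j hji.symm u hu _ (hp1 j x)
      · intro h; exact absurd (Finset.mem_univ i) h
    exact this Submodule.mem_top
  have hp_fam : ∀ (a : Fin t → ι → F), (∀ j, a j ∈ D j) → ∀ i, p i (∑ j, a j) = a i := by
    intro a ha i
    rw [map_sum, Finset.sum_eq_single i]
    · exact hp2 i _ (ha i)
    · intro j _ hji; exact hp_other i j hji.symm _ (ha j)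
    · intro h; exact absurd (Finset.mem_univ i) h
  have hfsum : ∀ x y, f x y = ∑ j, f (p j x) (p j y) := fun x y => by
    conv_lhs => rw [← hsum x, flin_sum_left hb]
    exact Finset.sum_congr rfl fun j _ => (hp3 j y _ (hp1 j x)).symm
  have hne : ∀ i, ∃ d ∈ D i, d ≠ 0 := fun i =>
    Submodule.exists_mem_ne_zero_of_ne_bot fun h => by
      have := hdim i; rw [h, finrank_bot] at this; omega
  have hsym : ∀ {a b}, f a b = 0 → f b a = 0 := fun h => by rw [hf.skew, h, neg_zero]
  have hstab : ∀ {g : GL ι F} (π : Equiv.Perm (Fin t)), (∀ i, ∀ d ∈ D i, app g d ∈ D (π i)) →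
      g ∈ Cfsg.Geo.decompositionStabilizer D := by
    intro g π h
    refine ⟨π, fun i => Submodule.eq_of_le_of_finrank_eq ?_ ?_⟩
    · rintro _ ⟨d, hd, rfl⟩
      rw [Matrix.toLin'_apply, ← app_apply]; exact h i d hd
    · have : Matrix.toLin' (g : Matrix ι ι F) = (app g).toLinearMap :=
        LinearMap.ext fun x => by rw [Matrix.toLin'_apply]; rfl
      rw [this, LinearEquiv.finrank_map_eq (app g), hdim, hdim]
  have i0 : Fin t := ⟨0, by omega⟩
  refine isMaximalIn_of_forall inf_le_right ?_ ?_
  · -- the stabiliser is proper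
    let i1 : Fin t := if i0 = ⟨0, by omega⟩ then ⟨1, by omega⟩ else ⟨0, by omega⟩
    have hi : i0 ≠ i1 := by
      by_cases h : i0 = ⟨0, by omega⟩
      · simp only [i1, h, if_true]; simp [Fin.ext_iff]
      · simp only [i1, h, if_false]; exact h
    obtain ⟨d0, hd0, hd0'⟩ := hne i0
    obtain ⟨d1, hd1, hd1'⟩ := hne i1
    obtain ⟨⟨u, hu, hu'⟩, -⟩ := hnd i0 d0 hd0 hd0'
    refine ⟨st hf (d0 + d1) 1, (hI _).2 (st_isIsom _ _ _), fun h => ?_⟩
    obtain ⟨π, hπ⟩ := h.1
    have him : app (st hf (d0 + d1) 1) u ∈ D (π i0) := by
      rw [← hπ i0]; exact ⟨u, hu, by rw [Matrix.toLin'_apply]; rfl⟩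
    rw [st_apply, one_mul, hb.add_right, horth i0 i1 hi u hu d1 hd1, add_zero] at him
    have h1 : p i1 (u + f u d0 • (d0 + d1)) = f u d0 • d1 := by
      simp [map_add, map_smul, hp_other i1 i0 hi.symm u hu, hp_other i1 i0 hi.symm d0 hd0,
        hp2 i1 d1 hd1]
    have h2 : p i0 (u + f u d0 • (d0 + d1)) = u + f u d0 • d0 := by
      simp [map_add, map_smul, hp2 i0 u hu, hp2 i0 d0 hd0, hp_other i0 i1 hi d1 hd1]
    by_cases hc : π i0 = i1
    · rw [hp_other i0 i1 hi _ (hc ▸ him)] at h2
      have h3 : f (u + f u d0 • d0) d0 = 0 := by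
        rw [← h2, ← flin_apply hb d0 0, map_zero]
      rw [hb.add_left, hb.smul_left, hf.alternating, mul_zero, add_zero] at h3
      exact hu' h3
    · rw [hp_other i1 _ (Ne.symm hc) _ him] at h1
      exact smul_ne_zero hu' hd1' h1.symm
  · intro M hHM hMK g hgM hgH
    have hiso : ∀ {x}, x ∈ M → IsIsom f x := fun hx => (hI _).1 (hMK hx)
    have hDc : ∀ i, ∀ d ∈ D i, d ∈ centres hf M := fun i d hd c => by
      refine hHM ⟨hstab 1 fun j x hx => ?_, (hI _).2 (st_isIsom _ _ _)⟩
      rw [st_apply]
      rcases eq_or_ne j i with rfl | hji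
      · exact (D j).add_mem hx ((D j).smul_mem _ hd)
      · rw [horth j i hji x hx d hd, mul_zero, zero_smul, add_zero]; exact hx
    let Fam : Finset (Fin t) → (Fin t → ι → F) → Prop := fun s a =>
      (∀ j, a j ∈ D j) ∧ ∀ j, a j ≠ 0 ↔ j ∈ s
    let Q : Finset (Fin t) → Prop := fun s => ∀ a, Fam s a → ∑ j, a j ∈ centres hf M
    have hfam : ∀ s, ∃ a, Fam s a := fun s => by
      choose d hd hd' using hne
      refine ⟨fun j => if j ∈ s then d j else 0, fun j => ?_, fun j => ?_⟩
      · dsimp only; split_ifs
        · exact hd j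
        · exact zero_mem _
      · by_cases h : j ∈ s <;> simp [h, hd']
    have hone : ∀ s a, Fam s a → ∑ j, a j ∈ centres hf M → Q s := by
      intro s a ha hc a' ha'
      suffices ∀ T : Finset (Fin t), ∑ j, (if j ∈ T then a' j else a j) ∈ centres hf M by
        simpa using this Finset.univ
      intro T
      induction T using Finset.induction_on with
      | empty => simpa using hc
      | @insert i T hi ih =>
        have hmem : ∀ j, (if j ∈ T then a' j else a j) ∈ D j := fun j => by
          split_ifs
          · exact ha'.1 j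
          · exact ha.1 j
        rw [← Finset.add_sum_erase _ _ (Finset.mem_univ i)] at ih ⊢
        rw [Finset.sum_congr rfl (g := fun j => if j ∈ T then a' j else a j) (fun j hj => by
          simp [(Finset.mem_erase.1 hj).1])]
        simp only [Finset.mem_insert_self, if_true]
        rw [if_neg hi] at ih
        by_cases h0 : a i = 0
        · have h1 : a' i = 0 := by
            by_contra h
            exact ((ha.2 i).2 ((ha'.2 i).1 h)) h0
          rw [h1, ← h0]; exact ih
        · refine move_component hf (hnd i) (hDc i) (ha.1 i) (ha'.1 i) h0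
            ((ha'.2 i).2 ((ha.2 i).1 h0)) (fun u hu => hsym ?_) ih
          rw [flin_sum_right hb]
          exact Finset.sum_eq_zero fun j hj =>
            horth i j (Finset.mem_erase.1 hj).1.symm u hu _ (hmem j)
    -- a centre with two components
    obtain ⟨s, hs2, hQs⟩ : ∃ s : Finset (Fin t), 2 ≤ s.card ∧ Q s := by
      obtain ⟨v, hvC, i, j, hij, hvi, hvj⟩ : ∃ v ∈ centres hf M, ∃ i j, i ≠ j ∧
          p i v ≠ 0 ∧ p j v ≠ 0 := by
        by_contra hno
        push Not at hno
        have himg : ∀ i, ∃ j, ∀ d ∈ D i, app g d ∈ D j := by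
          intro i
          obtain ⟨d, hd, hd'⟩ := hne i
          have hgd : app g d ≠ 0 := fun h => hd' ((app g).injective (by rw [h, map_zero]))
          obtain ⟨j, hj⟩ : ∃ j, p j (app g d) ≠ 0 := by
            by_contra h
            push Not at h
            exact hgd (by rw [← hsum (app g d)]; exact Finset.sum_eq_zero fun l _ => h l)
          refine ⟨j, fun x hx => ?_⟩
          have h1 : ∀ l, l ≠ j → p l (app g x) = 0 := fun l hl => by
            by_contra hne'
            have hl1 : p l (app g d) = 0 :=
              hno _ (centres_conj hf hgM (hiso hgM) (hDc i d hd)) j l hl.symm hj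
            have hj2 : p j (app g x) = 0 :=
              hno _ (centres_conj hf hgM (hiso hgM) (hDc i x hx)) l j hl hne'
            have := hno _ (centres_conj hf hgM (hiso hgM) (hDc i _ ((D i).add_mem hd hx))) j l
              hl.symm (by rw [map_add, map_add, hj2, add_zero]; exact hj)
            rw [map_add, map_add, hl1, zero_add] at this
            exact hne' this
          rw [← hsum (app g x), Finset.sum_eq_single j (fun l _ hl => h1 l hl)
            (fun h => absurd (Finset.mem_univ j) h)]
          exact hp1 j _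
        choose π hπ using himg
        have hinj : Function.Injective π := by
          intro i i' he
          by_contra hii
          obtain ⟨d, hd, hd'⟩ := hne i
          have h1 : (D i').map (app g).toLinearMap = D (π i') := by
            refine Submodule.eq_of_le_of_finrank_eq ?_ ?_
            · rintro _ ⟨x, hx, rfl⟩; exact hπ i' x hx
            · rw [LinearEquiv.finrank_map_eq (app g), hdim, hdim]
          obtain ⟨x, hx, hx'⟩ : app g d ∈ (D i').map (app g).toLinearMap := by
            rw [h1, ← he]; exact hπ i d hd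
          have h2 : x = d := (app g).injective hx'
          subst h2
          exact hd' (by rw [← hp2 i x hd, hp_other i i' hii x hx])
        exact hgH ⟨hstab (Equiv.ofBijective π (Finite.injective_iff_bijective.1 hinj)) hπ, hMK hgM⟩
      refine ⟨Finset.univ.filter fun l => p l v ≠ 0, Finset.one_lt_card.2 ⟨i, by simp [hvi], j,
        by simp [hvj], hij⟩, hone _ (fun l => p l v) ⟨fun l => hp1 l v, fun l => by simp⟩ ?_⟩
      rw [hsum]; exact hvC
    -- down to a pair
    obtain ⟨i₁, j₁, hij₁, hQ₁⟩ : ∃ i j, i ≠ j ∧ Q {i, j} := by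
      rcases Nat.lt_or_ge s.card 3 with h3 | h3
      · obtain ⟨i, j, hij, he⟩ := Finset.card_eq_two.1 (le_antisymm (by omega) hs2)
        exact ⟨i, j, hij, he ▸ hQs⟩
      · obtain ⟨i, hi, j, hj, hij⟩ := Finset.one_lt_card.1 hs2
        obtain ⟨a, ha⟩ := hfam s
        obtain ⟨-, w, hw, hw'⟩ := hnd i _ (ha.1 i) ((ha.2 i).2 hi)
        set w' := (f (a i) w)⁻¹ • w with hw'def
        have hfw : f (a i) w' = 1 := by rw [hw'def, hb.smul_right, inv_mul_cancel₀ hw']
        obtain ⟨x, hx, hx0, hxa, hfx⟩ : ∃ x ∈ D j, x ≠ 0 ∧ x ≠ a j ∧ f (a j) x = 0 := by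
          by_cases hk2 : k = 2
          · obtain ⟨c, hc0, hc1⟩ := hex hk2
            refine ⟨c • a j, (D j).smul_mem _ (ha.1 j), smul_ne_zero hc0 ((ha.2 j).2 hj), ?_, ?_⟩
            · intro h
              have : (c - 1) • a j = 0 := by rw [sub_smul, one_smul, h, sub_self]
              rcases smul_eq_zero.1 this with h' | h'
              · exact hc1 (sub_eq_zero.1 h')
              · exact (ha.2 j).2 hj h'
            · rw [hb.smul_right, hf.alternating, mul_zero]
          · let L : D j →ₗ[F] F := ((flin hb).flip (a j)) ∘ₗ (D j).subtype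
            have h1 := LinearMap.finrank_range_add_finrank_ker L
            have h2 : Module.finrank F (LinearMap.range L) ≤ 1 :=
              le_trans (Submodule.finrank_le _) (Module.finrank_self F).le
            rw [hdim j] at h1
            have hk1 : k ≠ 1 := by
              intro h
              obtain ⟨-, y, hy, hy'⟩ := hnd j _ (ha.1 j) ((ha.2 j).2 hj)
              obtain ⟨c, hc⟩ := (finrank_eq_one_iff_of_nonzero' (⟨a j, ha.1 j⟩ : D j)
                (fun h0 => (ha.2 j).2 hj (congrArg Subtype.val h0))).1 (h ▸ hdim j) ⟨y, hy⟩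
              apply hy'
              rw [← show c • a j = y from congrArg Subtype.val hc, hb.smul_right, hf.alternating,
                mul_zero]
            have h3 : ¬ (LinearMap.ker L ≤ Submodule.span F {(⟨a j, ha.1 j⟩ : D j)}) := fun h => by
              have h4 := Submodule.finrank_mono h
              rw [finrank_span_singleton (fun h0 => (ha.2 j).2 hj (congrArg Subtype.val h0))] at h4
              omega
            obtain ⟨x, hx, hx'⟩ := SetLike.not_le_iff_exists.1 h3
            refine ⟨x, x.2, fun h => hx' ?_, fun h => hx' ?_, hx⟩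
            · rw [show x = 0 from Subtype.ext h]; exact zero_mem _
            · rw [show x = ⟨a j, ha.1 j⟩ from Subtype.ext h]
              exact Submodule.mem_span_singleton_self _
        let a' : Fin t → ι → F := fun l => if l = i then w' else if l = j then x else a l
        have ha' : Fam s a' := by
          refine ⟨fun l => ?_, fun l => ?_⟩
          · dsimp only [a']; split_ifs with e1 e2
            · subst e1; exact (D l).smul_mem _ hw
            · subst e2; exact hx
            · exact ha.1 l
          · dsimp only [a']; split_ifs with e1 e2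
            · subst e1
              refine ⟨fun _ => hi, fun _ h0 => ?_⟩
              rw [h0, ← flin_apply hb, map_zero] at hfw
              exact zero_ne_one hfw
            · subst e2; exact ⟨fun _ => hj, fun _ => hx0⟩
            · exact ha.2 l
        have hne1 : f (∑ l, a l) (∑ l, a' l) = 1 := by
          rw [hfsum, Finset.sum_eq_single i]
          · rw [hp_fam a ha.1, hp_fam a' ha'.1]; simpa [a'] using hfw
          · intro l _ hl
            rw [hp_fam a ha.1, hp_fam a' ha'.1]
            dsimp only [a']; rw [if_neg hl]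
            split_ifs with e
            · subst e; exact hfx
            · exact hf.alternating _
          · intro h; exact absurd (Finset.mem_univ i) h
        have hd : ∑ l, (a l - a' l) ∈ centres hf M := by
          rw [Finset.sum_sub_distrib, sub_eq_add_neg, ← neg_one_smul F (∑ l, a' l)]
          exact centres_step' hf (hQs a' ha') (hQs a ha) (by rw [hne1]; exact one_ne_zero) (-1)
        refine ⟨i, j, hij, hone _ (fun l => a l - a' l)
          ⟨fun l => (D l).sub_mem (ha.1 l) (ha'.1 l), fun l => ?_⟩ hd⟩
        rw [Finset.mem_insert, Finset.mem_singleton, sub_ne_zero]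
        dsimp only [a']
        split_ifs with e1 e2
        · subst e1
          refine ⟨fun _ => Or.inl rfl, fun _ h => ?_⟩
          rw [← h, hf.alternating] at hfw
          exact zero_ne_one hfw
        · subst e2; exact ⟨fun _ => Or.inr rfl, fun _ => hxa.symm⟩
        · simp [e1, e2]
    -- permutations
    have hperm : ∀ (π : Equiv.Perm (Fin t)) (s : Finset (Fin t)), Q s → Q (s.image π) := by
      intro π s hQ
      choose φ hφ1 hφ2 using fun j =>
        exists_isometry hf k (D j) (D (π j)) (hdim j) (hdim _) (hnd j) (hnd _)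
      let σ : (ι → F) →ₗ[F] (ι → F) := ∑ j, φ j ∘ₗ p j
      have hσ : ∀ x, σ x = ∑ j, φ (π.symm j) (p (π.symm j) x) := fun x => by
        rw [Equiv.sum_comp π.symm (fun j => φ j (p j x))]; simp [σ]
      have hmem : ∀ x j, φ (π.symm j) (p (π.symm j) x) ∈ D j := fun x j => by
        have := hφ1 (π.symm j) _ (hp1 (π.symm j) x)
        rwa [Equiv.apply_symm_apply] at this
      have hiso' : ∀ x y, f (σ x) (σ y) = f x y := fun x y => by
        rw [hfsum (σ x), hfsum x, ← Equiv.sum_comp π.symm (fun j => f (p j x) (p j y))]
        refine Finset.sum_congr rfl fun j _ => ?_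
        rw [hσ, hσ, hp_fam _ (hmem x), hp_fam _ (hmem y), hφ2 _ _ (hp1 _ x) _ (hp1 _ y)]
      have hinj : Function.Injective σ := by
        rw [← LinearMap.ker_eq_bot, LinearMap.ker_eq_bot']
        intro x hx
        by_contra h0
        obtain ⟨⟨y, hy⟩, -⟩ := hf.nondegenerate x h0
        apply hy
        rw [← hiso' y x, hx, ← flin_apply hb, map_zero]; rfl
      let e := LinearEquiv.ofBijective σ ⟨hinj, LinearMap.injective_iff_surjective.1 hinj⟩
      have hG : glOf e ∈ M := hHM ⟨hstab π fun j d hd => by
        rw [app_glOf, show e d = σ d from rfl, show σ d = ∑ l, φ l (p l d) by simp [σ],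
          Finset.sum_eq_single j (fun l _ hl => by rw [hp_other l j hl d hd, map_zero])
            (fun h => absurd (Finset.mem_univ j) h), hp2 j d hd]
        exact hφ1 j d hd, (hI _).2 fun x y => by rw [app_glOf, app_glOf]; exact hiso' x y⟩
      obtain ⟨a, ha⟩ := hfam s
      have := centres_conj hf hG (hiso hG) (hQ a ha)
      rw [app_glOf, show e (∑ l, a l) = σ (∑ l, a l) from rfl, hσ] at this
      refine hone _ _ ⟨hmem _, fun j => ?_⟩ this
      rw [hp_fam a ha.1, Finset.mem_image]
      constructor
      · intro h
        exact ⟨π.symm j, (ha.2 _).1 (fun h0 => h (by rw [h0, map_zero])), π.apply_symm_apply j⟩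
      · rintro ⟨l, hl, rfl⟩
        rw [Equiv.symm_apply_apply]
        intro h0
        obtain ⟨⟨y, hy, hy'⟩, -⟩ := hnd l _ (ha.1 l) ((ha.2 l).2 hl)
        apply hy'
        rw [← hφ2 l y hy _ (ha.1 l), h0, ← flin_apply hb, map_zero]; rfl
    have hpairs : ∀ i j, i ≠ j → Q {i, j} := by
      intro i j hij
      have h1 := hperm (Equiv.swap i₁ i) _ hQ₁
      rw [Finset.image_insert, Finset.image_singleton, Equiv.swap_apply_left] at h1
      have hne' : Equiv.swap i₁ i j₁ ≠ i := fun h => hij₁ (by
        apply (Equiv.swap i₁ i).injective; rw [h, Equiv.swap_apply_left])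
      have h2 := hperm (Equiv.swap (Equiv.swap i₁ i j₁) j) _ h1
      rwa [Finset.image_insert, Finset.image_singleton, Equiv.swap_apply_left,
        Equiv.swap_apply_of_ne_of_ne hne'.symm hij] at h2
    have hall : ∀ s : Finset (Fin t), 2 ≤ s.card → Q s := by
      intro s
      induction s using Finset.induction_on with
      | empty => simp
      | @insert j s hj ih =>
        intro hc
        rw [Finset.card_insert_of_notMem hj] at hc
        rcases Nat.lt_or_ge s.card 2 with h1 | h1
        · obtain ⟨i, rfl⟩ := Finset.card_eq_one.1 (show s.card = 1 by omega)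
          exact hpairs j i (fun h => hj (by simp [h]))
        · obtain ⟨i, hi⟩ := Finset.card_pos.1 (show 0 < s.card by omega)
          obtain ⟨a, ha⟩ := hfam s
          obtain ⟨-, w, hw, hw'⟩ := hnd i _ (ha.1 i) ((ha.2 i).2 hi)
          obtain ⟨d, hd, hd'⟩ := hne j
          have hij : i ≠ j := fun h => hj (h ▸ hi)
          let b : Fin t → ι → F := fun l => if l = i then w else if l = j then d else 0
          have hb' : Fam {i, j} b := by
            refine ⟨fun l => ?_, fun l => ?_⟩
            · dsimp only [b]; split_ifs with e1 e2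
              · subst e1; exact hw
              · subst e2; exact hd
              · exact zero_mem _
            · rw [Finset.mem_insert, Finset.mem_singleton]
              dsimp only [b]; split_ifs with e1 e2
              · subst e1
                refine ⟨fun _ => Or.inl rfl, fun _ h0 => ?_⟩
                rw [h0, ← flin_apply hb, map_zero] at hw'
                exact hw' rfl
              · subst e2; exact ⟨fun _ => Or.inr rfl, fun _ => hd'⟩
              · simp [e1, e2]
          have haj : a j = 0 := by
            by_contra h; exact hj ((ha.2 j).1 h)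
          have hne1 : f (∑ l, a l) (∑ l, b l) = f (a i) w := by
            rw [hfsum, Finset.sum_eq_single i]
            · rw [hp_fam a ha.1, hp_fam b hb'.1]; simp [b]
            · intro l _ hl
              rw [hp_fam a ha.1, hp_fam b hb'.1]
              dsimp only [b]; rw [if_neg hl]
              split_ifs with e
              · subst e; rw [haj, ← flin_apply hb d 0, map_zero]
              · rw [← flin_apply hb, map_zero]; rfl
            · intro h; exact absurd (Finset.mem_univ i) h
          have hd2 : ∑ l, (a l + b l) ∈ centres hf M := by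
            rw [Finset.sum_add_distrib]
            simpa using centres_step' hf (hpairs i j hij b hb') (ih h1 a ha) (hne1 ▸ hw') 1
          refine hone _ (fun l => a l + b l) ⟨fun l => (D l).add_mem (ha.1 l) (hb'.1 l), fun l => ?_⟩ hd2
          rw [Finset.mem_insert]
          dsimp only [b]
          split_ifs with e1 e2
          · subst e1
            refine ⟨fun _ => Or.inr hi, fun _ h0 => hw' ?_⟩
            rw [← neg_eq_of_add_eq_zero_right h0, ← neg_one_smul F, hb.smul_right, hf.alternating,
              mul_zero]
          · subst e2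
            rw [haj, zero_add]
            exact ⟨fun _ => Or.inl rfl, fun _ => hd'⟩
          · rw [add_zero, ha.2 l]; simp [e2]
    intro h hh
    refine isometry_mem_of_centres hf M (fun v => ?_) ((hI h).1 hh)
    rcases Nat.lt_or_ge (Finset.univ.filter fun l => p l v ≠ 0).card 2 with h1 | h1
    · rcases Finset.eq_empty_or_nonempty (Finset.univ.filter fun l => p l v ≠ 0) with h2 | ⟨i, hi⟩
      · have : v = 0 := by
          rw [← hsum v]
          refine Finset.sum_eq_zero fun l _ => ?_
          simpa using Finset.filter_eq_empty_iff.1 h2 (Finset.mem_univ l)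
        rw [this]; exact zero_mem_centres hf M
      · rw [← hsum v, Finset.sum_eq_single i]
        · exact hDc i _ (hp1 i v)
        · intro l _ hl
          by_contra h3
          exact hl (Finset.card_le_one.1 (by omega) l (by simp [h3]) i hi)
        · intro h; exact absurd (Finset.mem_univ i) h
    · have := hall _ h1 (fun l => p l v) ⟨fun l => hp1 l v, fun l => by simp⟩
      rwa [hsum] at this

/-- The statement in every degree covered by the proof. -/
theorem general {F : Type*} [Field F] [Fintype F] (m : ℕ) {t : ℕ} (k : ℕ) (D : Fin t → Submodule F (Fin m ⊕ Fin m → F)) (hD : Cfsg.Geo.IsNondegenerateMDecomposition (Cfsg.sympForm m F) k D) (hex : ¬ (k = 2 ∧ Fintype.card F = 2)) : Cfsg.Geo.IsMaximalIn (Cfsg.spGL m F) (Cfsg.Geo.decompositionStabilizer D ⊓ Cfsg.spGL m F) := by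
  classical
  refine decomposition_maximal (sympForm_isSymplectic m) D hD (fun hk => ?_) _ (fun g => mem_spGL_iff)
  have h3 : ¬ (Finset.univ : Finset F) ⊆ {0, 1} := fun h => by
    have h1 := (Finset.card_le_card h).trans (Finset.card_le_two)
    rw [Finset.card_univ] at h1
    have h2 := Fintype.one_lt_card (α := F)
    exact hex ⟨hk, by omega⟩
  obtain ⟨c, -, hc⟩ := Finset.not_subset.1 h3
  exact ⟨c, fun h => hc (by simp [h]), fun h => hc (by simp [h])⟩

/-- For a finite field F with q elements and m ≥ 7, let D be a decomposition of F^(2m) into t ≥ 2 pairwise orthogonal subspaces of equal dimension k on each of which the standard alternating form is non-degenerate, spanning F^(2m). Unless k = 2 and q = 2, the elements of Sp_2m(F) permuting the members of D form a maximal subgroup of Sp_2m(F). -/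
theorem result {F : Type*} [Field F] [Fintype F] (m : ℕ) (hm : 7 ≤ m) {t : ℕ} (k : ℕ) (D : Fin t → Submodule F (Fin m ⊕ Fin m → F)) (hD : Cfsg.Geo.IsNondegenerateMDecomposition (Cfsg.sympForm m F) k D) (hex : ¬ (k = 2 ∧ Fintype.card F = 2)) : Cfsg.Geo.IsMaximalIn (Cfsg.spGL m F) (Cfsg.Geo.decompositionStabilizer D ⊓ Cfsg.spGL m F) := by
  apply general <;> first | assumption | omega

end Cfsg.Agent.S5647
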