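import Cfsg.Statements.S3377
import Cfsg.Agent.EqLemmas

set_option autoImplicit false
open Cfsg

namespace Cfsg.Agent.S3377

theorem path_nil {G : Type*} [Group G] (y u : G) : u * 1 = y ^ 0 * u := by simp

theorem path_cons {G : Type*} [Group G] (y : G) {u v v' w w' : G} {a b : ℕ}
    (h₁ : u * w = y ^ a * v) (h₂ : v * w' = y ^ b * v') : u * (w * w') = y ^ (a + b) * v' := by
  rw [← mul_assoc, h₁, mul_assoc, h₂, ← mul_assoc, pow_add]

theorem step {G : Type*} [Group G] (y : G) (h5 : y ^ 5 = 1) {ri rj rk w1 g w2 : G} {a c e : ℕ}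
    (hf : ri * w1 = y ^ a * rj) (hb : rk * w2 = y ^ c * ri) (hw : w1 * g * w2 = 1)
    (hs : (a + c + e) % 5 = 0) : rj * g = y ^ e * rk := by
  have h1 : rk * w2 = y ^ (a + c) * (rj * g) * w2 := by
    calc rk * w2 = y ^ c * ri * (w1 * g * w2) := by rw [hw, mul_one, hb]
      _ = y ^ c * (ri * w1) * g * w2 := by simp only [mul_assoc]
      _ = y ^ c * (y ^ a * rj) * g * w2 := by rw [hf]
      _ = y ^ (a + c) * (rj * g) * w2 := by rw [add_comm, pow_add]; simp only [mul_assoc]
  rw [mul_right_cancel h1, ← mul_assoc, ← pow_add, show e + (a + c) = a + c + e by ring,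
    ← Nat.div_add_mod (a + c + e) 5, hs, add_zero, pow_mul, h5, one_pow, one_mul]

theorem card_le_sixty {G : Type*} [Group G] (x y : G) (hgen : Subgroup.closure {x, y} = ⊤)
    (w_xxx : x * (x * x) = 1) (w_yyyyy : y * (y * (y * (y * y))) = 1) (w_xyxy : x * (y * (x * y)) = 1) :
    Finite G ∧ Nat.card G ≤ 60 := by
  classical
  have h5 : y ^ 5 = 1 := by
    simpa only [pow_succ, pow_zero, one_mul, mul_assoc] using w_yyyyy
  let r : Fin 12 → G := ![1, 1 * x, 1 * x * x, 1 * x * x * y, 1 * x * x * y * x, 1 * x * x * y * y, 1 * x * x * y * x * x, 1 * x * x * y * y * x, 1 * x * x * y * x * x * y, 1 * x * x * y * x * x * y * y, 1 * x * x * y * x * x * y * y * x, 1 * x * x * y * x * x * y * y * x * x]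
  have e0y : r 0 * y = y ^ 1 * r 0 := by simp [r]
  have e0x : r 0 * x = y ^ 0 * r 1 := by rw [pow_zero, one_mul]; rfl
  have e1x : r 1 * x = y ^ 0 * r 2 := by rw [pow_zero, one_mul]; rfl
  have e2y : r 2 * y = y ^ 0 * r 3 := by rw [pow_zero, one_mul]; rfl
  have e3x : r 3 * x = y ^ 0 * r 4 := by rw [pow_zero, one_mul]; rfl
  have e3y : r 3 * y = y ^ 0 * r 5 := by rw [pow_zero, one_mul]; rfl
  have e4x : r 4 * x = y ^ 0 * r 6 := by rw [pow_zero, one_mul]; rfl
  have e5x : r 5 * x = y ^ 0 * r 7 := by rw [pow_zero, one_mul]; rfl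
  have e6y : r 6 * y = y ^ 0 * r 8 := by rw [pow_zero, one_mul]; rfl
  have e8y : r 8 * y = y ^ 0 * r 9 := by rw [pow_zero, one_mul]; rfl
  have e9x : r 9 * x = y ^ 0 * r 10 := by rw [pow_zero, one_mul]; rfl
  have e10x : r 10 * x = y ^ 0 * r 11 := by rw [pow_zero, one_mul]; rfl
  have e2x : r 2 * x = y ^ 0 * r 0 := step y h5 (path_cons y (path_cons y (path_nil y (r 0)) e0x) e1x) (path_nil y (r 0))
    (by simpa only [one_mul, mul_one, mul_assoc] using w_xxx) (by norm_num)
  have e6x : r 6 * x = y ^ 0 * r 3 := step y h5 (path_cons y (path_cons y (path_nil y (r 3)) e3x) e4x) (path_nil y (r 3))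
    (by simpa only [one_mul, mul_one, mul_assoc] using w_xxx) (by norm_num)
  have e11x : r 11 * x = y ^ 0 * r 9 := step y h5 (path_cons y (path_cons y (path_nil y (r 9)) e9x) e10x) (path_nil y (r 9))
    (by simpa only [one_mul, mul_one, mul_assoc] using w_xxx) (by norm_num)
  have e1y : r 1 * y = y ^ 4 * r 2 := step y h5 (path_cons y (path_nil y (r 0)) e0x) (path_cons y (path_cons y (path_nil y (r 2)) e2x) e0y)
    (by simpa only [one_mul, mul_one, mul_assoc] using w_xyxy) (by norm_num)
  have e4y : r 4 * y = y ^ 0 * r 1 := step y h5 (path_cons y (path_cons y (path_cons y (path_nil y (r 1)) e1x) e2y) e3x) (path_nil y (r 1))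
    (by simpa only [one_mul, mul_one, mul_assoc] using w_xyxy) (by norm_num)
  have e7y : r 7 * y = y ^ 0 * r 6 := step y h5 (path_cons y (path_nil y (r 5)) e5x) (path_cons y (path_cons y (path_nil y (r 6)) e6x) e3y)
    (by simpa only [one_mul, mul_one, mul_assoc] using w_xyxy) (by norm_num)
  have e5y : r 5 * y = y ^ 1 * r 4 := step y h5 (path_cons y (path_cons y (path_cons y (path_nil y (r 1)) e1y) e2y) e3y) (path_cons y (path_nil y (r 4)) e4y)
    (by simpa only [one_mul, mul_one, mul_assoc] using w_yyyyy) (by norm_num)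
  have e8x : r 8 * x = y ^ 4 * r 5 := step y h5 (path_cons y (path_cons y (path_nil y (r 4)) e4x) e6y) (path_cons y (path_nil y (r 5)) e5y)
    (by simpa only [one_mul, mul_one, mul_assoc] using w_xyxy) (by norm_num)
  have e7x : r 7 * x = y ^ 1 * r 8 := step y h5 (path_cons y (path_nil y (r 5)) e5x) (path_cons y (path_nil y (r 8)) e8x)
    (by simpa only [one_mul, mul_one, mul_assoc] using w_xxx) (by norm_num)
  have e10y : r 10 * y = y ^ 4 * r 7 := step y h5 (path_cons y (path_cons y (path_cons y (path_nil y (r 7)) e7x) e8y) e9x) (path_nil y (r 7))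
    (by simpa only [one_mul, mul_one, mul_assoc] using w_xyxy) (by norm_num)
  have e9y : r 9 * y = y ^ 1 * r 10 := step y h5 (path_cons y (path_cons y (path_nil y (r 6)) e6y) e8y) (path_cons y (path_cons y (path_nil y (r 10)) e10y) e7y)
    (by simpa only [one_mul, mul_one, mul_assoc] using w_yyyyy) (by norm_num)
  have e11y : r 11 * y = y ^ 4 * r 11 := step y h5 (path_cons y (path_nil y (r 10)) e10x) (path_cons y (path_cons y (path_nil y (r 11)) e11x) e9y)
    (by simpa only [one_mul, mul_one, mul_assoc] using w_xyxy) (by norm_num)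
  let F : Fin 5 × Fin 12 → G := fun p => y ^ (p.1 : ℕ) * r p.2
  have hF : ∀ (k : ℕ) (i : Fin 12), y ^ k * r i ∈ Set.range F := fun k i =>
    ⟨(⟨k % 5, Nat.mod_lt _ (by norm_num)⟩, i), by
      show y ^ (k % 5) * r i = y ^ k * r i
      conv_rhs => rw [← Nat.div_add_mod k 5, pow_add, pow_mul, h5, one_pow, one_mul]⟩
  have closed : ∀ g : G, (g = x ∨ g = y) → ∀ u ∈ Set.range F, u * g ∈ Set.range F := by
    rintro g hg u ⟨⟨a, i⟩, rfl⟩
    show y ^ (a : ℕ) * r i * g ∈ Set.range F
    rcases hg with rfl | rfl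
    · fin_cases i <;> simp only [Fin.zero_eta, Fin.mk_one, Fin.reduceFinMk] <;> rw [mul_assoc]
      · rw [e0x, ← mul_assoc, ← pow_add]; exact hF _ _
      · rw [e1x, ← mul_assoc, ← pow_add]; exact hF _ _
      · rw [e2x, ← mul_assoc, ← pow_add]; exact hF _ _
      · rw [e3x, ← mul_assoc, ← pow_add]; exact hF _ _
      · rw [e4x, ← mul_assoc, ← pow_add]; exact hF _ _
      · rw [e5x, ← mul_assoc, ← pow_add]; exact hF _ _
      · rw [e6x, ← mul_assoc, ← pow_add]; exact hF _ _
      · rw [e7x, ← mul_assoc, ← pow_add]; exact hF _ _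
      · rw [e8x, ← mul_assoc, ← pow_add]; exact hF _ _
      · rw [e9x, ← mul_assoc, ← pow_add]; exact hF _ _
      · rw [e10x, ← mul_assoc, ← pow_add]; exact hF _ _
      · rw [e11x, ← mul_assoc, ← pow_add]; exact hF _ _
    · fin_cases i <;> simp only [Fin.zero_eta, Fin.mk_one, Fin.reduceFinMk] <;> rw [mul_assoc]
      · rw [e0y, ← mul_assoc, ← pow_add]; exact hF _ _
      · rw [e1y, ← mul_assoc, ← pow_add]; exact hF _ _
      · rw [e2y, ← mul_assoc, ← pow_add]; exact hF _ _
      · rw [e3y, ← mul_assoc, ← pow_add]; exact hF _ _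
      · rw [e4y, ← mul_assoc, ← pow_add]; exact hF _ _
      · rw [e5y, ← mul_assoc, ← pow_add]; exact hF _ _
      · rw [e6y, ← mul_assoc, ← pow_add]; exact hF _ _
      · rw [e7y, ← mul_assoc, ← pow_add]; exact hF _ _
      · rw [e8y, ← mul_assoc, ← pow_add]; exact hF _ _
      · rw [e9y, ← mul_assoc, ← pow_add]; exact hF _ _
      · rw [e10y, ← mul_assoc, ← pow_add]; exact hF _ _
      · rw [e11y, ← mul_assoc, ← pow_add]; exact hF _ _
  have hall : ∀ g : G, ∀ u ∈ Set.range F, u * g ∈ Set.range F := by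
    intro g
    have hg : g ∈ Subgroup.closure {x, y} := hgen ▸ Subgroup.mem_top g
    have : Finite (Set.range F) := (Set.finite_range F).to_subtype
    induction hg using Subgroup.closure_induction with
    | mem g hg => exact closed g hg
    | one => intro u hu; simpa using hu
    | mul a b _ _ ha hb => intro u hu; rw [← mul_assoc]; exact hb _ (ha u hu)
    | inv a _ ha =>
      intro u hu
      obtain ⟨v, hv⟩ := Finite.surjective_of_injective
        (f := fun v : Set.range F => (⟨v.1 * a, ha v.1 v.2⟩ : Set.range F))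
        (fun p q e => Subtype.ext (mul_right_cancel (congrArg Subtype.val e))) ⟨u, hu⟩
      have hv' : v.1 * a = u := congrArg Subtype.val hv
      rw [← hv', mul_inv_cancel_right]
      exact v.2
  have hsurj : Function.Surjective F := by
    intro g
    have h0 : (1 : G) ∈ Set.range F := ⟨(0, 0), by simp [F, r]⟩
    simpa using hall g 1 h0
  refine ⟨Finite.of_surjective F hsurj, ?_⟩
  simpa using Nat.card_le_card_of_surjective F hsurj

/-- The alternating group of degree 5 has the presentation ⟨x, y | x³ = 1, y⁵ = 1, (xy)² = 1⟩: the group so presented is isomorphic to Alt(5). -/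
theorem result :
    Nonempty (PresentedGroup ({FreeGroup.of (0 : Fin 2) ^ 3, FreeGroup.of (1 : Fin 2) ^ 5,
        (FreeGroup.of (0 : Fin 2) * FreeGroup.of 1) ^ 2} : Set (FreeGroup (Fin 2))) ≃* alternatingGroup (Fin 5)) := by
  classical
  set rels := ({FreeGroup.of (0 : Fin 2) ^ 3, FreeGroup.of (1 : Fin 2) ^ 5,
        (FreeGroup.of (0 : Fin 2) * FreeGroup.of 1) ^ 2} : Set (FreeGroup (Fin 2))) with hrels
  let X : Equiv.Perm (Fin 5) := Equiv.swap 0 3 * Equiv.swap 3 1
  let Y : Equiv.Perm (Fin 5) := finRotate 5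
  let Xa : alternatingGroup (Fin 5) := ⟨X, Equiv.Perm.mem_alternatingGroup.mpr (by decide)⟩
  let Ya : alternatingGroup (Fin 5) := ⟨Y, Equiv.Perm.mem_alternatingGroup.mpr (by decide)⟩
  have hrel : ∀ r ∈ rels, FreeGroup.lift ![Xa, Ya] r = 1 := by
    rintro r (rfl | rfl | rfl) <;> simp only [map_pow, map_mul, FreeGroup.lift_apply_of, Matrix.cons_val_zero, Matrix.cons_val_one] <;> (apply Subtype.ext; decide)
  let φ := PresentedGroup.toGroup hrel
  let x : PresentedGroup rels := PresentedGroup.of 0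
  let y : PresentedGroup rels := PresentedGroup.of 1
  have hx : φ x = Xa := PresentedGroup.toGroup.of hrel
  have hy : φ y = Ya := PresentedGroup.toGroup.of hrel
  have hgen : Subgroup.closure {x, y} = ⊤ := by
    rw [eq_top_iff, ← PresentedGroup.closure_range_of rels, Subgroup.closure_le]
    rintro _ ⟨i, rfl⟩
    fin_cases i <;> exact Subgroup.subset_closure (by simp [x, y])
  have w3 : x ^ 3 = 1 := by
    rw [← PresentedGroup.one_of_mem (rels := rels) (x := FreeGroup.of 0 ^ 3) (by simp [hrels]), map_pow]; rfl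
  have w5 : y ^ 5 = 1 := by
    rw [← PresentedGroup.one_of_mem (rels := rels) (x := FreeGroup.of 1 ^ 5) (by simp [hrels]), map_pow]; rfl
  have w2 : (x * y) ^ 2 = 1 := by
    rw [← PresentedGroup.one_of_mem (rels := rels) (x := (FreeGroup.of 0 * FreeGroup.of 1) ^ 2) (by simp [hrels]), map_pow, map_mul]; rfl
  obtain ⟨hfin, hle⟩ := card_le_sixty x y hgen
    (by simpa only [pow_succ, pow_zero, one_mul, mul_assoc] using w3)
    (by simpa only [pow_succ, pow_zero, one_mul, mul_assoc] using w5)
    (by simpa only [pow_succ, pow_zero, one_mul, mul_assoc] using w2)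
  have hc60 : Nat.card (alternatingGroup (Fin 5)) = 60 := by
    have := nat_card_alternatingGroup (α := Fin 5)
    simpa [Nat.factorial] using this
  have ho : ∀ (z : alternatingGroup (Fin 5)) (n : ℕ), z ∈ φ.range → orderOf z = n → n ∣ Nat.card φ.range := fun z n hz hn => by
    rw [← hn, ← Subgroup.orderOf_mk z hz]; exact orderOf_dvd_natCard _
  have : Fact (Nat.Prime 5) := ⟨by norm_num⟩
  have h5 : 5 ∣ Nat.card φ.range := ho Ya 5 ⟨y, hy⟩ (orderOf_eq_prime (Subtype.ext (by decide)) (fun h => absurd (congrArg Subtype.val h) (by decide)))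
  have h3 : 3 ∣ Nat.card φ.range := ho Xa 3 ⟨x, hx⟩ (orderOf_eq_prime (Subtype.ext (by decide)) (fun h => absurd (congrArg Subtype.val h) (by decide)))
  have h2 : 2 ∣ Nat.card φ.range := ho (Xa * Ya) 2 ⟨x * y, by rw [map_mul, hx, hy]⟩ (orderOf_eq_prime (Subtype.ext (by decide)) (fun h => absurd (congrArg Subtype.val h) (by decide)))
  have h30 : 30 ∣ Nat.card φ.range := by omega
  have hne : φ.range = ⊤ := by
    by_contra hne
    have hmul := φ.range.card_mul_index
    rw [hc60] at hmul
    have hi : φ.range.index = 2 := by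
      have := Subgroup.index_eq_one.not.mpr hne
      obtain ⟨d, hd⟩ := h30
      rw [hd, mul_assoc] at hmul
      have : d * φ.range.index = 2 := by omega
      have := Nat.le_of_dvd two_pos (Dvd.intro_left _ this)
      have := φ.range.index_ne_zero_of_finite
      omega
    have hn := Subgroup.normal_of_index_eq_two hi
    rcases hn.eq_bot_or_eq_top with h | h
    · rw [h, Subgroup.index_bot, hc60] at hi; omega
    · exact hne h
  have hsurj : Function.Surjective φ := MonoidHom.range_eq_top.mp hne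
  have hbij : Function.Bijective φ := (Nat.bijective_iff_surjective_and_card φ).mpr
    ⟨hsurj, le_antisymm (hc60.symm ▸ hle) (Nat.card_le_card_of_surjective φ hsurj)⟩
  exact ⟨MulEquiv.ofBijective φ hbij⟩

end Cfsg.Agent.S3377
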