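import Cfsg.Statements.S3378
import Cfsg.Agent.S3377
import Cfsg.Agent.S0494
import Cfsg.Agent.Lib.Solvable.Converse
import Cfsg.Agent.Lib.Transfer.Tate
import Mathlib.GroupTheory.PresentedGroup
import Mathlib.GroupTheory.SpecificGroups.Quaternion
import Mathlib.LinearAlgebra.Matrix.GeneralLinearGroup.Card
-- import your own Cfsg.Agent.* helpers here

set_option autoImplicit false
open Cfsg

namespace Cfsg.Agent.S3378

open scoped Pointwise

/-- The relators of `SL(2,5)`. -/
abbrev relsSL : Set (FreeGroup (Fin 3)) :=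
  {FreeGroup.of (0 : Fin 3) ^ 3, FreeGroup.of (1 : Fin 3) ^ 5, FreeGroup.of (2 : Fin 3) ^ 2,
    (FreeGroup.of (2 : Fin 3))⁻¹ * FreeGroup.of 0 * FreeGroup.of 2 * (FreeGroup.of (0 : Fin 3))⁻¹,
    (FreeGroup.of (2 : Fin 3))⁻¹ * FreeGroup.of 1 * FreeGroup.of 2 * (FreeGroup.of (1 : Fin 3))⁻¹,
    (FreeGroup.of (0 : Fin 3) * FreeGroup.of 1) ^ 2 * (FreeGroup.of (2 : Fin 3))⁻¹}

theorem relator_eq_one {r : FreeGroup (Fin 3)} (h : r ∈ relsSL) : (PresentedGroup.mk relsSL) r = 1 :=
  PresentedGroup.one_of_mem h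

theorem presented_facts :
    (PresentedGroup.of (rels := relsSL) 0) ^ 3 = 1 ∧ (PresentedGroup.of (rels := relsSL) 1) ^ 5 = 1 ∧
    (PresentedGroup.of (rels := relsSL) 2) ^ 2 = 1 ∧
    Commute (PresentedGroup.of (rels := relsSL) 0) (PresentedGroup.of 2) ∧
    Commute (PresentedGroup.of (rels := relsSL) 1) (PresentedGroup.of 2) ∧
    (PresentedGroup.of (rels := relsSL) 0 * PresentedGroup.of 1) ^ 2 = PresentedGroup.of 2 := by
  have h : ∀ i, PresentedGroup.mk relsSL (FreeGroup.of i) = PresentedGroup.of i := fun _ => rfl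
  refine ⟨?_, ?_, ?_, ?_, ?_, ?_⟩
  · have := relator_eq_one (r := FreeGroup.of 0 ^ 3) (by simp [relsSL])
    rwa [map_pow, h] at this
  · have := relator_eq_one (r := FreeGroup.of 1 ^ 5) (by simp [relsSL])
    rwa [map_pow, h] at this
  · have := relator_eq_one (r := FreeGroup.of 2 ^ 2) (by simp [relsSL])
    rwa [map_pow, h] at this
  · have := relator_eq_one (r := (FreeGroup.of (2 : Fin 3))⁻¹ * FreeGroup.of 0 * FreeGroup.of 2 * (FreeGroup.of (0 : Fin 3))⁻¹)
      (by simp [relsSL])
    rw [map_mul, map_mul, map_mul, map_inv, map_inv, h, h, mul_inv_eq_one, mul_assoc, inv_mul_eq_iff_eq_mul] at this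
    exact this
  · have := relator_eq_one (r := (FreeGroup.of (2 : Fin 3))⁻¹ * FreeGroup.of 1 * FreeGroup.of 2 * (FreeGroup.of (1 : Fin 3))⁻¹)
      (by simp [relsSL])
    rw [map_mul, map_mul, map_mul, map_inv, map_inv, h, h, mul_inv_eq_one, mul_assoc, inv_mul_eq_iff_eq_mul] at this
    exact this
  · have := relator_eq_one (r := (FreeGroup.of (0 : Fin 3) * FreeGroup.of 1) ^ 2 * (FreeGroup.of (2 : Fin 3))⁻¹)
      (by simp [relsSL])
    rwa [map_mul, map_inv, map_pow, map_mul, h, h, h, mul_inv_eq_one] at this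

theorem presented_card_le : Finite (PresentedGroup relsSL) ∧ Nat.card (PresentedGroup relsSL) ≤ 120 := by
  obtain ⟨hx, hy, hz, hxz, hyz, hxy⟩ := presented_facts
  set x : PresentedGroup relsSL := PresentedGroup.of 0
  set y : PresentedGroup relsSL := PresentedGroup.of 1
  set z : PresentedGroup relsSL := PresentedGroup.of 2
  have hgen : Subgroup.closure {x, y} = ⊤ := by
    rw [eq_top_iff, ← PresentedGroup.closure_range_of relsSL, Subgroup.closure_le]
    rintro _ ⟨i, rfl⟩
    have hx' : x ∈ Subgroup.closure {x, y} := Subgroup.subset_closure (by simp)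
    have hy' : y ∈ Subgroup.closure {x, y} := Subgroup.subset_closure (by simp)
    fin_cases i
    · exact hx'
    · exact hy'
    · show z ∈ Subgroup.closure {x, y}
      rw [← hxy]
      exact pow_mem (mul_mem hx' hy') 2
  have hcent : ∀ g : PresentedGroup relsSL, Commute g z := by
    intro g
    have : g ∈ Subgroup.centralizer ({z} : Set (PresentedGroup relsSL)) := by
      have h : (⊤ : Subgroup (PresentedGroup relsSL)) ≤ Subgroup.centralizer {z} := by
        rw [← hgen, Subgroup.closure_le]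
        rintro a (rfl | rfl) b hb <;> rw [Set.mem_singleton_iff.mp hb]
        · exact hxz.eq.symm
        · exact hyz.eq.symm
      exact h (Subgroup.mem_top g)
    exact (this z rfl).symm
  set K := Subgroup.zpowers z
  have hKn : K.Normal := ⟨fun a ha g => by
    obtain ⟨i, rfl⟩ := Subgroup.mem_zpowers_iff.mp ha
    rw [((hcent g).zpow_right i).eq, mul_inv_cancel_right]
    exact Subgroup.zpow_mem_zpowers z i⟩
  have hgen' : Subgroup.closure {(x : PresentedGroup relsSL ⧸ K), (y : PresentedGroup relsSL ⧸ K)} = ⊤ := by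
    have h := congrArg (Subgroup.map (QuotientGroup.mk' K)) hgen
    rw [MonoidHom.map_closure, Subgroup.map_top_of_surjective _ (QuotientGroup.mk'_surjective K), Set.image_pair] at h
    exact h
  have hzK : QuotientGroup.mk' K z = 1 := (QuotientGroup.eq_one_iff z).mpr (Subgroup.mem_zpowers z)
  obtain ⟨hfin, hle⟩ := S3377.card_le_sixty (x : PresentedGroup relsSL ⧸ K) (y : PresentedGroup relsSL ⧸ K) hgen'
    (by simpa only [map_pow, map_one, QuotientGroup.mk'_apply, QuotientGroup.mk_mul, pow_succ, pow_zero, one_mul, mul_assoc] using congrArg (QuotientGroup.mk' K) hx)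
    (by simpa only [map_pow, map_one, QuotientGroup.mk'_apply, QuotientGroup.mk_mul, pow_succ, pow_zero, one_mul, mul_assoc] using congrArg (QuotientGroup.mk' K) hy)
    (by
      have h := congrArg (QuotientGroup.mk' K) hxy
      rw [map_pow, map_mul, hzK, sq, mul_assoc] at h
      exact h)
  have hzo : orderOf z ∣ 2 := orderOf_dvd_of_pow_eq_one hz
  have : Finite K := Nat.finite_of_card_ne_zero (by
    rw [Nat.card_zpowers]; exact (Nat.pos_of_dvd_of_pos hzo two_pos).ne')
  have : K.FiniteIndex := Subgroup.finiteIndex_of_finite_quotient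
  refine ⟨Nat.finite_of_card_ne_zero ?_, ?_⟩ <;> rw [Subgroup.card_eq_card_quotient_mul_card_subgroup K]
  · exact mul_ne_zero Nat.card_pos.ne' Nat.card_pos.ne'
  · calc Nat.card (PresentedGroup relsSL ⧸ K) * Nat.card K ≤ 60 * 2 :=
        Nat.mul_le_mul hle (by rw [Nat.card_zpowers]; exact Nat.le_of_dvd two_pos hzo)
      _ = 120 := rfl

/-- The matrix `X`. -/
def genX : Matrix.SpecialLinearGroup (Fin 2) (ZMod 5) := ⟨!![0, 4; 1, 4], by decide⟩

/-- The matrix `Y`. -/
def genY : Matrix.SpecialLinearGroup (Fin 2) (ZMod 5) := ⟨!![1, 1; 0, 1], by decide⟩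

theorem sl_gen : Subgroup.closure {genX, genY} = ⊤ := by
  set H := Subgroup.closure {genX, genY}
  have hX : genX ∈ H := Subgroup.subset_closure (by simp)
  have hY : genY ∈ H := Subgroup.subset_closure (by simp)
  have hu : ∀ a : ZMod 5, ∀ M : Matrix.SpecialLinearGroup (Fin 2) (ZMod 5),
      (M : Matrix (Fin 2) (Fin 2) (ZMod 5)) = !![1, a; 0, 1] → M ∈ H := by
    intro a M hM
    have : M = genY ^ a.val := Subtype.ext (by
      rw [hM, Matrix.SpecialLinearGroup.coe_pow]
      exact (by decide +kernel : ∀ b : ZMod 5, (!![1, b; 0, 1] : Matrix (Fin 2) (Fin 2) (ZMod 5)) = !![1, 1; 0, 1] ^ b.val) a)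
    rw [this]; exact pow_mem hY _
  have hl : ∀ a : ZMod 5, ∀ M : Matrix.SpecialLinearGroup (Fin 2) (ZMod 5),
      (M : Matrix (Fin 2) (Fin 2) (ZMod 5)) = !![1, 0; a, 1] → M ∈ H := by
    intro a M hM
    have : M = (genY * genX * genY * genY) ^ a.val := Subtype.ext (by
      rw [hM, Matrix.SpecialLinearGroup.coe_pow]
      exact (by decide +kernel : ∀ b : ZMod 5, (!![1, 0; b, 1] : Matrix (Fin 2) (Fin 2) (ZMod 5)) =
        (!![1, 1; 0, 1] * !![0, 4; 1, 4] * !![1, 1; 0, 1] * !![1, 1; 0, 1]) ^ b.val) a)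
    rw [this]; exact pow_mem (mul_mem (mul_mem (mul_mem hY hX) hY) hY) _
  have key : ∀ M : Matrix.SpecialLinearGroup (Fin 2) (ZMod 5), M 1 0 ≠ 0 → M ∈ H := by
    intro M hc
    have hdet : M 0 0 * M 1 1 - M 0 1 * M 1 0 = 1 := by
      have := M.2
      rwa [Matrix.det_fin_two] at this
    haveI : Fact (Nat.Prime 5) := ⟨by norm_num⟩
    let A : Matrix.SpecialLinearGroup (Fin 2) (ZMod 5) := ⟨!![1, (M 0 0 - 1) / M 1 0; 0, 1], by simp [Matrix.det_fin_two]⟩
    let B : Matrix.SpecialLinearGroup (Fin 2) (ZMod 5) := ⟨!![1, 0; M 1 0, 1], by simp [Matrix.det_fin_two]⟩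
    let C : Matrix.SpecialLinearGroup (Fin 2) (ZMod 5) := ⟨!![1, (M 1 1 - 1) / M 1 0; 0, 1], by simp [Matrix.det_fin_two]⟩
    have hM : M = A * B * C := by
      refine Subtype.ext ?_
      show (M : Matrix (Fin 2) (Fin 2) (ZMod 5)) = !![1, (M 0 0 - 1) / M 1 0; 0, 1] * !![1, 0; M 1 0, 1] * !![1, (M 1 1 - 1) / M 1 0; 0, 1]
      rw [Matrix.eta_fin_two (M : Matrix (Fin 2) (Fin 2) (ZMod 5))]
      simp only [Matrix.mul_fin_two]
      ext i j
      fin_cases i <;> fin_cases j <;> simp <;> field_simp <;> first | linear_combination hdet | linear_combination -hdet | ring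
    rw [hM]
    exact mul_mem (mul_mem (hu _ A rfl) (hl _ B rfl)) (hu _ C rfl)
  refine (Subgroup.eq_top_iff' _).mpr fun M => ?_
  by_cases hc : M 1 0 = 0
  · let L : Matrix.SpecialLinearGroup (Fin 2) (ZMod 5) := ⟨!![1, 0; 1, 1], by simp [Matrix.det_fin_two]⟩
    have hne : (L * M) 1 0 ≠ 0 := by
      show ((!![1, 0; 1, 1] : Matrix (Fin 2) (Fin 2) (ZMod 5)) * (M : Matrix (Fin 2) (Fin 2) (ZMod 5))) 1 0 ≠ 0
      rw [Matrix.eta_fin_two (M : Matrix (Fin 2) (Fin 2) (ZMod 5)), Matrix.mul_fin_two, hc]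
      simp
      intro h0
      have := M.2
      rw [Matrix.det_fin_two, h0, hc] at this
      simp at this
      all_goals exact absurd this (by decide)
    have := mul_mem (inv_mem (hl 1 L rfl)) (key _ hne)
    simpa using this
  · exact key M hc

theorem sl_card : Nat.card (Matrix.SpecialLinearGroup (Fin 2) (ZMod 5)) = 120 := by
  rw [Nat.card_eq_fintype_card]
  decide +kernel

theorem presented_iso : Nonempty (PresentedGroup relsSL ≃* Matrix.SpecialLinearGroup (Fin 2) (ZMod 5)) := by
  have hrel : ∀ r ∈ relsSL, FreeGroup.lift ![genX, genY, -1] r = 1 := by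
    rintro r (rfl | rfl | rfl | rfl | rfl | rfl) <;>
      simp only [map_pow, map_mul, map_inv, FreeGroup.lift_apply_of] <;> decide +kernel
  let φ := PresentedGroup.toGroup hrel
  have hsurj : Function.Surjective φ := by
    rw [← MonoidHom.range_eq_top, eq_top_iff, ← sl_gen, Subgroup.closure_le]
    rintro _ (rfl | rfl)
    · exact ⟨PresentedGroup.of 0, by rw [PresentedGroup.toGroup.of]; rfl⟩
    · exact ⟨PresentedGroup.of 1, by rw [PresentedGroup.toGroup.of]; rfl⟩
  obtain ⟨hfin, hle⟩ := presented_card_le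
  exact ⟨MulEquiv.ofBijective φ ((Nat.bijective_iff_surjective_and_card φ).mpr
    ⟨hsurj, le_antisymm (hle.trans sl_card.ge) (Nat.card_le_card_of_surjective φ hsurj)⟩)⟩

theorem solvable_thirty {Q : Type*} [Group Q] [Finite Q] (h : Nat.card Q ∣ 60) (h' : Nat.card Q ≠ 60) :
    Group.IsSolvable Q := by
  have hle : Nat.card Q ≤ 60 := Nat.le_of_dvd (by norm_num) h
  have pair : ∀ (p q : ℕ), p.Prime → q.Prime → p ≠ q → (∀ r, r ∈ Nat.primeFactorsList (Nat.card Q) → r = p ∨ r = q) →
      Group.IsSolvable Q := fun p q hp hq hpq hr =>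
    Solvable.isSolvable_of_card_two_primes hp hq hpq fun r hr' hd =>
      hr r ((Nat.mem_primeFactorsList Nat.card_pos.ne').mpr ⟨hr', hd⟩)
  by_cases h30 : Nat.card Q = 30
  · have := Fact.mk Nat.prime_two
    obtain ⟨P⟩ : Nonempty (Sylow 2 Q) := inferInstance
    have hP : Nat.card (P : Subgroup Q) = 2 := by
      rw [P.card_eq_multiplicity, h30, show (30 : ℕ) = 2 * 15 by norm_num, Nat.factorization_mul (by norm_num) (by norm_num)]
      simp [Nat.prime_two.factorization, Nat.factorization_eq_zero_of_not_dvd (show ¬ 2 ∣ 15 by norm_num)]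
    have hcyc : IsCyclic (P : Subgroup Q) := isCyclic_of_prime_card hP
    obtain ⟨P', N, hN, hc⟩ := Transfer.hasNormalPComplement_of_normalizer_le_centralizer P
      (IsCyclic.normalizer_le_centralizer (p := 2) (by rw [h30]; norm_num) hcyc)
    have hP' : Nat.card (P' : Subgroup Q) = 2 := by rw [P'.card_eq_multiplicity, ← P.card_eq_multiplicity, hP]
    have hNc : Nat.card N = 15 := by
      have := hc.card_mul
      rw [hP', h30] at this
      omega
    have hsN : Group.IsSolvable N := Solvable.isSolvable_of_card_two_primes Nat.prime_three (by norm_num : Nat.Prime 5) (by norm_num)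
      fun r hr hd => by
        rw [hNc] at hd
        have := Nat.le_of_dvd (by norm_num) hd
        interval_cases r <;> simp_all (config := { decide := true })
    have hsQ : Group.IsSolvable (Q ⧸ N) := Solvable.isSolvable_of_card_two_primes Nat.prime_two Nat.prime_three (by norm_num)
      fun r hr hd => by
        rw [← Subgroup.index_eq_card, hc.symm.index_eq_card, hP'] at hd
        exact Or.inl ((Nat.prime_dvd_prime_iff_eq hr Nat.prime_two).mp hd)
    exact Group.isSolvable_of_ker_le_range N.subtype (QuotientGroup.mk' N) (by rw [QuotientGroup.ker_mk', Subgroup.range_subtype])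
  · interval_cases hn : Nat.card Q <;> first
      | omega
      | (refine pair 2 3 (by norm_num) (by norm_num) (by norm_num) fun r hr => ?_
         have := Nat.le_of_dvd (by norm_num) (Nat.dvd_of_mem_primeFactorsList hr)
         have := Nat.prime_of_mem_primeFactorsList hr
         have := Nat.dvd_of_mem_primeFactorsList hr
         clear hr pair
         interval_cases r <;> first | omega | (norm_num at *; done))
      | (refine pair 2 5 (by norm_num) (by norm_num) (by norm_num) fun r hr => ?_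
         have := Nat.le_of_dvd (by norm_num) (Nat.dvd_of_mem_primeFactorsList hr)
         have := Nat.prime_of_mem_primeFactorsList hr
         have := Nat.dvd_of_mem_primeFactorsList hr
         clear hr pair
         interval_cases r <;> first | omega | (norm_num at *; done))
      | (refine pair 3 5 (by norm_num) (by norm_num) (by norm_num) fun r hr => ?_
         have := Nat.le_of_dvd (by norm_num) (Nat.dvd_of_mem_primeFactorsList hr)
         have := Nat.prime_of_mem_primeFactorsList hr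
         have := Nat.dvd_of_mem_primeFactorsList hr
         clear hr pair
         interval_cases r <;> first | omega | (norm_num at *; done))

theorem quaternion_involution : ∃ w : QuaternionGroup 2, w ≠ 1 ∧ w ^ 2 = 1 ∧ ∀ v : QuaternionGroup 2, v ≠ 1 → v ^ 2 = 1 → v = w :=
  ⟨QuaternionGroup.a 2, by decide, by decide, by decide⟩

theorem sl_of_nonsolvable {G : Type*} [Group G] [Finite G] (hG : Nat.card G = 120) (hns : ¬ Group.IsSolvable G)
    (hQ : ∀ P : Sylow 2 G, Nonempty ((P : Subgroup G) ≃* QuaternionGroup 2)) :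
    Nonempty (G ≃* Matrix.SpecialLinearGroup (Fin 2) (ZMod 5)) := by
  classical
  haveI : Fact (Nat.Prime 5) := ⟨by norm_num⟩
  haveI : Fact (Nat.Prime 2) := ⟨Nat.prime_two⟩
  obtain ⟨P⟩ : Nonempty (Sylow 2 G) := inferInstance
  obtain ⟨eP⟩ := hQ P
  have hinvol : ∃ w : G, w ∈ (P : Subgroup G) ∧ w ≠ 1 ∧ w ^ 2 = 1 ∧ ∀ v ∈ (P : Subgroup G), v ≠ 1 → v ^ 2 = 1 → v = w := by
    obtain ⟨w, hw1, hw2, hwu⟩ := quaternion_involution
    refine ⟨eP.symm w, (eP.symm w).2, ?_, ?_, fun v hv hv1 hv2 => ?_⟩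
    · intro h
      exact hw1 (eP.symm.injective (by rw [map_one]; exact Subtype.ext h))
    · rw [← Subgroup.coe_pow, ← map_pow, hw2, map_one]; rfl
    · have h := hwu (eP ⟨v, hv⟩) (fun h => hv1 (congrArg Subtype.val (eP.injective (h.trans (map_one eP).symm))))
        (by rw [← map_pow, show (⟨v, hv⟩ : (P : Subgroup G)) ^ 2 = 1 from Subtype.ext hv2, map_one])
      rw [← h, MulEquiv.symm_apply_apply]
  obtain ⟨z, hzP, hz1, hz2, hzu⟩ := hinvol
  have hPcard : Nat.card (P : Subgroup G) = 8 := by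
    rw [Nat.card_congr eP.toEquiv, Nat.card_eq_fintype_card, QuaternionGroup.card]
  have hfac : Nat.card G = 5 ^ 1 * 24 := by rw [hG]; norm_num
  obtain ⟨R⟩ : Nonempty (Sylow 5 G) := inferInstance
  have hn6 : Nat.card (Sylow 5 G) = 6 := by
    have hdvd : Nat.card (Sylow 5 G) ∣ 24 := by
      have hidx : (R : Subgroup G).index = 24 := SmallOrders.index_sylow hfac (by norm_num) R
      exact hidx ▸ R.card_dvd_index
    have hmod := card_sylow_modEq_one 5 G
    have hne1 : Nat.card (Sylow 5 G) ≠ 1 := by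
      intro h1
      have : Subsingleton (Sylow 5 G) := (Nat.card_eq_one_iff_unique.mp h1).1
      have hn : (R : Subgroup G).Normal := inferInstance
      have hsR : Group.IsSolvable (R : Subgroup G) := @IsNilpotent.to_isSolvable _ _ R.isPGroup'.isNilpotent
      have hsQ : Group.IsSolvable (G ⧸ (R : Subgroup G)) := Solvable.isSolvable_of_card_two_primes Nat.prime_two Nat.prime_three (by norm_num)
        fun r hr hd => by
          rw [← Subgroup.index_eq_card, SmallOrders.index_sylow hfac (by norm_num) R, show (24 : ℕ) = 2 ^ 3 * 3 by norm_num] at hd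
          rcases hr.dvd_mul.mp hd with h | h
          · exact Or.inl ((Nat.prime_dvd_prime_iff_eq hr Nat.prime_two).mp (hr.dvd_of_dvd_pow h))
          · exact Or.inr ((Nat.prime_dvd_prime_iff_eq hr Nat.prime_three).mp h)
      exact hns (Group.isSolvable_of_ker_le_range (R : Subgroup G).subtype (QuotientGroup.mk' (R : Subgroup G))
        (by rw [QuotientGroup.ker_mk', Subgroup.range_subtype]))
    have hle := Nat.le_of_dvd (by norm_num) hdvd
    unfold Nat.ModEq at hmod
    interval_cases h : Nat.card (Sylow 5 G) <;> omega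
  set φ := MulAction.toPermHom G (Sylow 5 G)
  set K := φ.ker with hK
  have hzK : z ∈ K := by
    rw [hK, MonoidHom.mem_ker]
    ext S : 1
    have hst : MulAction.stabilizer (P : Subgroup G) S ≠ ⊥ := by
      intro h
      have := (MulAction.stabilizer (P : Subgroup G) S).card_mul_index
      rw [MulAction.index_stabilizer, h, Subgroup.card_bot, one_mul, hPcard] at this
      have h6 := Set.ncard_le_ncard (Set.subset_univ (MulAction.orbit (P : Subgroup G) S))
      rw [Set.ncard_univ, hn6, this] at h6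
      norm_num at h6
    obtain ⟨j, hj, hc⟩ := (P.isPGroup'.to_subgroup (MulAction.stabilizer (P : Subgroup G) S)).nontrivial_iff_card.mp
      ((Subgroup.nontrivial_iff_ne_bot _).mpr hst)
    obtain ⟨v, hv⟩ := exists_prime_orderOf_dvd_card' (G := MulAction.stabilizer (P : Subgroup G) S) 2
      (by rw [hc]; exact dvd_pow_self 2 hj.ne')
    have hv' : orderOf ((v : (P : Subgroup G)) : G) = 2 := by rw [Subgroup.orderOf_coe, Subgroup.orderOf_coe, hv]
    have hvz := hzu _ (v : (P : Subgroup G)).2 (fun h => by rw [h, orderOf_one] at hv'; norm_num at hv')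
      (orderOf_dvd_iff_pow_eq_one.mp hv'.dvd)
    show z • S = S
    rw [← hvz]
    exact v.2
  have hKR : ∀ S : Sylow 5 G, K ≤ Subgroup.normalizer ((S : Subgroup G) : Set G) := fun S k hk =>
    Sylow.smul_eq_iff_mem_normalizer.mp (by
      have := Equiv.ext_iff.mp (MonoidHom.mem_ker.mp hk) S
      exact this)
  have hK20 : Nat.card K ∣ 20 := by
    have h := Subgroup.card_dvd_of_le (hKR R)
    have h2 := (Subgroup.normalizer ((R : Subgroup G) : Set G)).card_mul_index
    rw [show (Subgroup.normalizer ((R : Subgroup G) : Set G)).index = 6 from R.card_eq_index_normalizer.symm.trans hn6, hG] at h2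
    rwa [show Nat.card (Subgroup.normalizer ((R : Subgroup G) : Set G)) = 20 by omega] at h
  have hK5 : ¬ 5 ∣ Nat.card K := by
    intro h5
    obtain ⟨T⟩ : Nonempty (Sylow 5 K) := inferInstance
    have hall : ∀ S : Sylow 5 G, (T : Subgroup K).map K.subtype ≤ (S : Subgroup G) := fun S x hx => by
      have hp := (T.isPGroup'.map K.subtype).inf_normalizer_sylow S
      exact (hp.le ⟨hx, hKR S (Subgroup.map_subtype_le _ hx)⟩).2
    have hTne : (T : Subgroup K).map K.subtype ≠ ⊥ := by
      rw [Ne, Subgroup.map_eq_bot_iff_of_injective _ K.subtype_injective]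
      exact T.ne_bot_of_dvd_card h5
    have heq : ∀ S : Sylow 5 G, (T : Subgroup K).map K.subtype = (S : Subgroup G) := fun S => by
      refine Subgroup.eq_of_le_of_card_ge (hall S) ?_
      rw [SmallOrders.card_sylow_subgroup hfac (by norm_num) S, pow_one]
      obtain ⟨i, hi, hc⟩ := (T.isPGroup'.map K.subtype).nontrivial_iff_card.mp ((Subgroup.nontrivial_iff_ne_bot _).mpr hTne)
      rw [hc]
      exact Nat.le_self_pow hi.ne' 5
    have : Subsingleton (Sylow 5 G) := ⟨fun S S' => Sylow.ext ((heq S).symm.trans (heq S'))⟩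
    rw [Nat.card_of_subsingleton R] at hn6
    norm_num at hn6
  have hKeven : 2 ∣ Nat.card K := orderOf_eq_prime hz2 hz1 ▸ Subgroup.orderOf_dvd_natCard K hzK
  have hK2 : Nat.card K = 2 := by
    by_contra hne
    have hle := Nat.le_of_dvd (by norm_num) hK20
    have hK4 : Nat.card K = 4 := by
      interval_cases hk : Nat.card K <;> omega
    have hsK : Group.IsSolvable K :=
      @IsNilpotent.to_isSolvable _ _ (IsPGroup.of_card (p := 2) (n := 2) (by rw [hK4]; norm_num)).isNilpotent
    have hq : Nat.card (G ⧸ K) = 30 := by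
      have := Subgroup.card_eq_card_quotient_mul_card_subgroup K
      rw [hG, hK4] at this
      omega
    have hsQ : Group.IsSolvable (G ⧸ K) := solvable_thirty (by rw [hq]; norm_num) (by rw [hq]; norm_num)
    exact hns (Group.isSolvable_of_ker_le_range K.subtype (QuotientGroup.mk' K) (by rw [QuotientGroup.ker_mk', Subgroup.range_subtype]))
  have hKz : ∀ k ∈ K, k = 1 ∨ k = z := by
    intro k hk
    haveI := Fintype.ofFinite K
    by_contra h
    push Not at h
    have hc : ({⟨1, one_mem K⟩, ⟨z, hzK⟩, ⟨k, hk⟩} : Finset K).card = 3 := by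
      have e1 : (⟨1, one_mem K⟩ : K) ≠ ⟨z, hzK⟩ := fun e => hz1 (congrArg Subtype.val e).symm
      have e2 : (⟨1, one_mem K⟩ : K) ≠ ⟨k, hk⟩ := fun e => h.1 (congrArg Subtype.val e).symm
      have e3 : (⟨z, hzK⟩ : K) ≠ ⟨k, hk⟩ := fun e => h.2 (congrArg Subtype.val e).symm
      simp [e1, e2, e3]
    have h3 := Finset.card_le_univ ({⟨1, one_mem K⟩, ⟨z, hzK⟩, ⟨k, hk⟩} : Finset K)
    rw [hc, ← Nat.card_eq_fintype_card, hK2] at h3
    norm_num at h3
  have hzc : ∀ g : G, g * z = z * g := by
    intro g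
    rcases hKz _ ((inferInstance : K.Normal).conj_mem z hzK g) with h | h
    · exact absurd (by simpa using h) hz1
    · nth_rewrite 2 [← h]; group
  have hzuniq : ∀ v : G, v ≠ 1 → v ^ 2 = 1 → v = z := by
    intro v hv1 hv2
    obtain ⟨P', hP'⟩ := (IsPGroup.of_card (p := 2) (G := ↥(Subgroup.zpowers v)) (n := 1)
      (by rw [Nat.card_zpowers, orderOf_eq_prime hv2 hv1, pow_one])).exists_le_sylow
    obtain ⟨g, rfl⟩ := MulAction.exists_smul_eq G P P'
    obtain ⟨u, hu, huv⟩ := hP' (Subgroup.mem_zpowers v)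
    have huv' : g * u * g⁻¹ = v := huv
    have huz : u = z := hzu u hu (fun h => hv1 (by rw [← huv', h]; group)) (by
      rw [show u = g⁻¹ * v * g⁻¹⁻¹ by rw [← huv']; group, conj_pow, hv2]; group)
    rw [← huv', huz, hzc g, mul_inv_cancel_right]
  have hq60 : Nat.card (G ⧸ K) = 60 := by
    have := Subgroup.card_eq_card_quotient_mul_card_subgroup K
    rw [hG, hK2] at this
    omega
  have hsK : Group.IsSolvable K :=
      @IsNilpotent.to_isSolvable _ _ (IsPGroup.of_card (p := 2) (n := 1) (by rw [hK2]; norm_num)).isNilpotent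
  have hnsQ : ¬ Group.IsSolvable (G ⧸ K) := fun h => hns
    (Group.isSolvable_of_ker_le_range K.subtype (QuotientGroup.mk' K) (by rw [QuotientGroup.ker_mk', Subgroup.range_subtype]))
  haveI : Nontrivial (G ⧸ K) := Finite.one_lt_card_iff_nontrivial.mp (by rw [hq60]; norm_num)
  haveI : IsSimpleGroup (G ⧸ K) := ⟨fun N hN => by
    by_contra h
    push Not at h
    refine hnsQ ?_
    have hmul := N.card_mul_index
    rw [hq60] at hmul
    have h1 : Group.IsSolvable N := solvable_thirty (Dvd.intro _ hmul) fun h60 => h.2 (Subgroup.eq_top_of_card_eq N (by rw [h60, hq60]))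
    have h2 : Group.IsSolvable ((G ⧸ K) ⧸ N) := solvable_thirty (by rw [← Subgroup.index_eq_card]; exact Dvd.intro_left _ hmul)
      fun h60 => h.1 (Subgroup.card_eq_one.mp (by rw [← Subgroup.index_eq_card] at h60; rw [h60] at hmul; omega))
    exact Group.isSolvable_of_ker_le_range N.subtype (QuotientGroup.mk' N) (by rw [QuotientGroup.ker_mk', Subgroup.range_subtype])⟩
  obtain ⟨eA⟩ := S0494.result hq60
  obtain ⟨e3⟩ := S3377.result
  let e := eA.trans e3.symm
  have hodd : ∀ (q : ℕ) (a : G ⧸ K), Odd q → a ^ q = 1 → ∃ g : G, (g : G ⧸ K) = a ∧ g ^ q = 1 := by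
    intro q a hq ha
    obtain ⟨g, rfl⟩ := QuotientGroup.mk_surjective a
    rcases hKz (g ^ q) ((QuotientGroup.eq_one_iff (g ^ q)).mp (by rw [QuotientGroup.mk_pow, ha])) with h | h
    · exact ⟨g, rfl, h⟩
    · refine ⟨g * z, ?_, ?_⟩
      · rw [QuotientGroup.mk_mul, (QuotientGroup.eq_one_iff z).mpr hzK, mul_one]
      · obtain ⟨i, rfl⟩ := hq
        rw [(show Commute g z from hzc g).mul_pow, h, pow_succ z, pow_mul, hz2, one_pow, one_mul, ← sq, hz2]
  obtain ⟨x, hxe, hx3⟩ := hodd 3 (e.symm (PresentedGroup.of 0)) (by decide) (by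
    rw [← map_pow, show (PresentedGroup.of (0 : Fin 2) : PresentedGroup ({FreeGroup.of (0 : Fin 2) ^ 3, FreeGroup.of (1 : Fin 2) ^ 5,
        (FreeGroup.of (0 : Fin 2) * FreeGroup.of 1) ^ 2} : Set (FreeGroup (Fin 2)))) ^ 3 = 1 from
      PresentedGroup.one_of_mem (x := FreeGroup.of 0 ^ 3) (by simp), map_one])
  obtain ⟨y, hye, hy5⟩ := hodd 5 (e.symm (PresentedGroup.of 1)) (by decide) (by
    rw [← map_pow, show (PresentedGroup.of (1 : Fin 2) : PresentedGroup ({FreeGroup.of (0 : Fin 2) ^ 3, FreeGroup.of (1 : Fin 2) ^ 5,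
        (FreeGroup.of (0 : Fin 2) * FreeGroup.of 1) ^ 2} : Set (FreeGroup (Fin 2)))) ^ 5 = 1 from
      PresentedGroup.one_of_mem (x := FreeGroup.of 1 ^ 5) (by simp), map_one])
  have hgenQ : Subgroup.closure {(x : G ⧸ K), (y : G ⧸ K)} = ⊤ := by
    rw [hxe, hye, eq_top_iff, ← Subgroup.map_top_of_surjective e.symm.toMonoidHom e.symm.surjective,
      ← PresentedGroup.closure_range_of, MonoidHom.map_closure, Subgroup.closure_le]
    rintro _ ⟨_, ⟨i, rfl⟩, rfl⟩
    fin_cases i <;> exact Subgroup.subset_closure (by simp)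
  have hxy : (x * y) ^ 2 = z := by
    have h1 : ((x * y) ^ 2 : G) ∈ K := by
      rw [← QuotientGroup.eq_one_iff, QuotientGroup.mk_pow, QuotientGroup.mk_mul, hxe, hye, ← map_mul, ← map_pow,
        show (PresentedGroup.of (0 : Fin 2) * PresentedGroup.of 1 : PresentedGroup ({FreeGroup.of (0 : Fin 2) ^ 3, FreeGroup.of (1 : Fin 2) ^ 5,
          (FreeGroup.of (0 : Fin 2) * FreeGroup.of 1) ^ 2} : Set (FreeGroup (Fin 2)))) ^ 2 = 1 from
        PresentedGroup.one_of_mem (x := (FreeGroup.of 0 * FreeGroup.of 1) ^ 2) (by simp), map_one]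
    refine (hKz _ h1).resolve_left fun h => ?_
    have hxyK : x * y ∈ K := by
      by_cases h2 : x * y = 1
      · rw [h2]; exact one_mem K
      · rw [hzuniq _ h2 h]; exact hzK
    have hcom : (x : G ⧸ K) = (y : G ⧸ K)⁻¹ := eq_inv_of_mul_eq_one_left (by
      rw [← QuotientGroup.mk_mul]; exact (QuotientGroup.eq_one_iff _).mpr hxyK)
    have h3 : Nat.card (⊤ : Subgroup (G ⧸ K)) ∣ 5 := by
      rw [← hgenQ, show Subgroup.closure {(x : G ⧸ K), (y : G ⧸ K)} = Subgroup.zpowers (y : G ⧸ K) from le_antisymm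
        ((Subgroup.closure_le _).mpr (by
          rintro a (rfl | rfl)
          · rw [hcom]; exact inv_mem (Subgroup.mem_zpowers _)
          · exact Subgroup.mem_zpowers _))
        (Subgroup.zpowers_le.mpr (Subgroup.subset_closure (by simp))), Nat.card_zpowers]
      exact orderOf_dvd_of_pow_eq_one (by rw [← QuotientGroup.mk_pow, hy5, QuotientGroup.mk_one])
    rw [Subgroup.card_top, hq60] at h3
    norm_num at h3
  have hrel : ∀ r ∈ relsSL, FreeGroup.lift ![x, y, z] r = 1 := by
    rintro r (rfl | rfl | rfl | rfl | rfl | rfl) <;>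
      simp only [map_pow, map_mul, map_inv, FreeGroup.lift_apply_of]
    · exact hx3
    · exact hy5
    · exact hz2
    · show z⁻¹ * x * z * x⁻¹ = 1
      rw [mul_assoc z⁻¹, hzc x]; group
    · show z⁻¹ * y * z * y⁻¹ = 1
      rw [mul_assoc z⁻¹, hzc y]; group
    · show (x * y) ^ 2 * z⁻¹ = 1
      rw [hxy, mul_inv_cancel]
  let ψ := PresentedGroup.toGroup hrel
  have hsurj : Function.Surjective ψ := by
    rw [← MonoidHom.range_eq_top]
    have h0 : ∀ i, ![x, y, z] i ∈ ψ.range := fun i => ⟨PresentedGroup.of i, PresentedGroup.toGroup.of hrel⟩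
    have hKr : K ≤ ψ.range := fun k hk => (hKz k hk).elim (fun h => h ▸ one_mem _) fun h => h ▸ h0 2
    have hmap : ψ.range.map (QuotientGroup.mk' K) = ⊤ := by
      rw [eq_top_iff, ← hgenQ, Subgroup.closure_le]
      rintro _ (rfl | rfl)
      · exact ⟨x, h0 0, rfl⟩
      · exact ⟨y, h0 1, rfl⟩
    have h := congrArg (Subgroup.comap (QuotientGroup.mk' K)) hmap
    rwa [Subgroup.comap_map_eq, QuotientGroup.ker_mk', sup_of_le_left hKr, Subgroup.comap_top] at h
  obtain ⟨hfin, hle⟩ := presented_card_le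
  obtain ⟨e5⟩ := presented_iso
  exact ⟨(MulEquiv.ofBijective ψ ((Nat.bijective_iff_surjective_and_card ψ).mpr
    ⟨hsurj, le_antisymm (hle.trans hG.ge) (Nat.card_le_card_of_surjective ψ hsurj)⟩)).symm.trans e5⟩

/-- Every non-solvable group of order 120 whose Sylow 2-subgroups are quaternion of order 8 is isomorphic to SL(2,5), and SL(2,5) has the presentation ⟨x, y, z | x³ = y⁵ = z² = 1, z⁻¹xz = x, z⁻¹yz = y, (xy)² = z⟩. -/
theorem result :
    (∀ (G : Type*) [Group G] [Finite G], Nat.card G = 120 → ¬ Group.IsSolvable G →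
      (∀ P : Sylow 2 G, Nonempty ((P : Subgroup G) ≃* QuaternionGroup 2)) →
      Nonempty (G ≃* Matrix.SpecialLinearGroup (Fin 2) (ZMod 5))) ∧
    Nonempty (PresentedGroup ({FreeGroup.of (0 : Fin 3) ^ 3, FreeGroup.of (1 : Fin 3) ^ 5, FreeGroup.of (2 : Fin 3) ^ 2,
        (FreeGroup.of (2 : Fin 3))⁻¹ * FreeGroup.of 0 * FreeGroup.of 2 * (FreeGroup.of (0 : Fin 3))⁻¹,
        (FreeGroup.of (2 : Fin 3))⁻¹ * FreeGroup.of 1 * FreeGroup.of 2 * (FreeGroup.of (1 : Fin 3))⁻¹,
        (FreeGroup.of (0 : Fin 3) * FreeGroup.of 1) ^ 2 * (FreeGroup.of (2 : Fin 3))⁻¹} : Set (FreeGroup (Fin 3)))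
      ≃* Matrix.SpecialLinearGroup (Fin 2) (ZMod 5)) := by
  exact ⟨fun G _ _ hG hns hQ => sl_of_nonsolvable hG hns hQ, presented_iso⟩

end Cfsg.Agent.S3378
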