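import Cfsg.Statements.S3335
import Cfsg.Agent.EqLemmas

set_option autoImplicit false
open Cfsg

namespace Cfsg.Agent.S3335

variable {G : Type*} [Group G]

/-- The relations of the presentation among the first `k` elements. -/
structure Rels (x : ℕ → G) (k : ℕ) : Prop where
  cube : 0 < k → x 0 ^ 3 = 1
  sq : ∀ i, 1 ≤ i → i < k → x i ^ 2 = 1
  adj : ∀ i, i + 1 < k → (x i * x (i + 1)) ^ 3 = 1
  far : ∀ i j, i + 1 < j → j < k → (x i * x j) ^ 2 = 1

theorem Rels.mono {x : ℕ → G} {k : ℕ} (h : Rels x (k + 1)) : Rels x k :=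
  ⟨fun _ => h.cube (by omega), fun i a b => h.sq i a (by omega), fun i a => h.adj i (by omega),
    fun i j a b => h.far i j a (by omega)⟩

theorem inv_eq_self {a : G} (h : a ^ 2 = 1) : a⁻¹ = a :=
  inv_eq_of_mul_eq_one_right (by rwa [pow_two] at h)

theorem comm_of_inv {a b : G} (ha : a ^ 2 = 1) (hb : b ^ 2 = 1) (h : (a * b) ^ 2 = 1) :
    a * b = b * a := by
  have := inv_eq_self h
  rw [mul_inv_rev, inv_eq_self ha, inv_eq_self hb] at this
  exact this.symm

/-- `W j = x k * x (k-1) * ⋯` with `j` factors. -/
def W (x : ℕ → G) (k : ℕ) : ℕ → G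
  | 0 => 1
  | j + 1 => W x k j * x (k - j)

theorem W_zero (x : ℕ → G) (k : ℕ) : W x k 0 = 1 := rfl

theorem W_succ (x : ℕ → G) (k j : ℕ) : W x k (j + 1) = W x k j * x (k - j) := rfl

theorem W_comm {x : ℕ → G} {k : ℕ} (h : Rels x (k + 1)) {i : ℕ} (hi : 1 ≤ i) :
    ∀ j, i + j < k + 0 → W x k j * x i = x i * W x k j := by
  intro j
  induction j with
  | zero => intro _; simp [W_zero]
  | succ j ih =>
    intro hj
    have hc := comm_of_inv (h.sq i hi (by omega)) (h.sq (k - j) (by omega) (by omega))
      (h.far i (k - j) (by omega) (by omega))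
    rw [W_succ, mul_assoc, ← hc, ← mul_assoc, ih (by omega), mul_assoc]

theorem W_zeroth {x : ℕ → G} {k : ℕ} (h : Rels x (k + 1)) :
    ∀ j, j < k → ∃ e ∈ Subgroup.zpowers (x 0), W x k j * x 0 = e * W x k j := by
  intro j
  induction j with
  | zero => intro _; exact ⟨_, Subgroup.mem_zpowers _, by simp [W_zero]⟩
  | succ j ih =>
    intro hj
    obtain ⟨e, he, he'⟩ := ih (by omega)
    refine ⟨e⁻¹, inv_mem he, ?_⟩
    have h1 := h.far 0 (k - j) (by omega) (by omega)
    rw [pow_two] at h1
    have h2 : x (k - j) * x 0 = (x 0)⁻¹ * x (k - j) := by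
      have hl := inv_eq_self (h.sq (k - j) (by omega) (by omega))
      calc x (k - j) * x 0 = (x 0)⁻¹ * ((x 0 * x (k - j)) * (x 0 * x (k - j))) * (x (k - j))⁻¹ := by
            group
        _ = (x 0)⁻¹ * x (k - j) := by rw [h1, mul_one, hl]
    have h3 : W x k j * (x 0)⁻¹ = e⁻¹ * W x k j := by
      rw [mul_inv_eq_iff_eq_mul, mul_assoc, he', inv_mul_cancel_left]
    rw [W_succ, mul_assoc, h2, ← mul_assoc, h3, mul_assoc]

theorem W_braid {x : ℕ → G} {k : ℕ} (h : Rels x (k + 1)) {i : ℕ} (hi : i ≤ k) :
    ∀ j, j ≤ k → k + 1 < i + j → W x k j * x i = x (i - 1) * W x k j := by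
  intro j
  induction j with
  | zero => intro _ hh; omega
  | succ j ih =>
    intro hj hh
    rcases Nat.lt_or_ge (k + 1) (i + j) with hlt | hge
    · have hc := comm_of_inv (h.sq (k - j) (by omega) (by omega)) (h.sq i (by omega) (by omega))
        (h.far (k - j) i (by omega) (by omega))
      rw [W_succ, mul_assoc, hc, ← mul_assoc, ih (by omega) hlt, mul_assoc]
    · obtain ⟨l, rfl⟩ : ∃ l, j = l + 1 := ⟨j - 1, by omega⟩
      have e1 : k - l = i := by omega
      have e2 : k - (l + 1) = i - 1 := by omega
      have ha := h.adj (i - 1) (by omega)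
      rw [show i - 1 + 1 = i by omega] at ha
      have hb : x i * x (i - 1) * x i = x (i - 1) * x i * x (i - 1) := by
        have q1 := inv_eq_self (h.sq (i - 1) (by omega) (by omega))
        have q2 := inv_eq_self (h.sq i (by omega) (by omega))
        calc x i * x (i - 1) * x i = (x (i - 1))⁻¹ * (x (i - 1) * x i) ^ 3 * (x i)⁻¹ * (x (i - 1))⁻¹ := by
              simp [pow_succ, mul_assoc]
          _ = x (i - 1) * x i * x (i - 1) := by rw [ha, mul_one, q1, q2]
      rw [W_succ, W_succ, e1, e2]
      calc W x k l * x i * x (i - 1) * x i = W x k l * (x i * x (i - 1) * x i) := by group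
        _ = W x k l * x (i - 1) * (x i * x (i - 1)) := by rw [hb]; group
        _ = x (i - 1) * (W x k l * x i * x (i - 1)) := by
              rw [W_comm h (by omega) l (by omega)]; group

theorem card_le {x : ℕ → G} : ∀ k, Rels x k →
    Finite ↥(Subgroup.closure (x '' Set.Iio k)) ∧
      2 * Nat.card ↥(Subgroup.closure (x '' Set.Iio k)) ≤ (k + 2).factorial := by
  intro k
  induction k with
  | zero =>
    intro _
    simp only [Set.Iio_zero_eq_empty, Set.image_empty, Subgroup.closure_empty]
    exact ⟨inferInstance, by simp⟩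
  | succ k ih =>
    intro h
    obtain ⟨hfin, hcard⟩ := ih h.mono
    set H := Subgroup.closure (x '' Set.Iio k) with hHdef
    have hxH : ∀ i, i < k → x i ∈ H := fun i hi => Subgroup.subset_closure ⟨i, hi, rfl⟩
    let c : Fin (k + 3) → G := fun j =>
      if j.val ≤ k then W x k j.val else W x k k * x 0 ^ (j.val - k)
    let F : H × Fin (k + 3) → G := fun p => p.1 * c p.2
    have hc0 : x 0 ^ 3 = 1 := h.cube (by omega)
    have hU0 : ∀ (a : G), a ∈ H → ∀ j, j ≤ k → a * W x k j ∈ Set.range F := fun a ha j hj =>
      ⟨(⟨a, ha⟩, ⟨j, by omega⟩), by simp [F, c, hj]⟩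
    have hU1 : ∀ (a : G), a ∈ H → ∀ e : ℕ, a * (W x k k * x 0 ^ e) ∈ Set.range F := by
      intro a ha e
      rw [← Nat.div_add_mod e 3, pow_add, pow_mul, hc0, one_pow, one_mul]
      rcases Nat.eq_zero_or_pos (e % 3) with h0 | h0
      · rw [h0, pow_zero, mul_one]; exact hU0 a ha k le_rfl
      · refine ⟨(⟨a, ha⟩, ⟨k + e % 3, by omega⟩), ?_⟩
        simp [F, c, show ¬ (k + e % 3 ≤ k) by omega]
    have hmul : ∀ a, a ∈ H → ∀ g, g ∈ Set.range F → a * g ∈ Set.range F := by
      rintro a ha _ ⟨⟨b, j⟩, rfl⟩
      exact ⟨(⟨a * b, mul_mem ha b.2⟩, j), by simp [F, mul_assoc]⟩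
    have hzH : ∀ e ∈ Subgroup.zpowers (x 0), 0 < k → e ∈ H := fun e he hk =>
      Subgroup.zpowers_le.mpr (hxH 0 hk) he
    -- the representatives are permuted up to `H`
    have key : ∀ i, i < k + 1 → ∀ j : Fin (k + 3), c j * x i ∈ Set.range F := by
      intro i hi j
      by_cases hj : j.val ≤ k
      · simp only [c, hj, ite_true]
        rcases Nat.lt_trichotomy (i + j.val) k with hlt | heq | hgt
        · rcases Nat.eq_zero_or_pos i with rfl | hi0
          · obtain ⟨e, he, he'⟩ := W_zeroth h j.val (by omega)
            rw [he']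
            exact hU0 e (hzH e he (by omega)) _ hj
          · rw [W_comm h hi0 j.val (by omega)]
            exact hU0 _ (hxH i (by omega)) _ hj
        · rcases Nat.eq_zero_or_pos i with rfl | hi0
          · rw [show j.val = k by omega]
            simpa using hU1 1 H.one_mem 1
          · have := hU0 1 H.one_mem (j.val + 1) (by omega)
            rwa [W_succ, one_mul, show k - j.val = i by omega] at this
        · by_cases h1 : i + j.val = k + 1
          · obtain ⟨l, hl⟩ : ∃ l, j.val = l + 1 := ⟨j.val - 1, by omega⟩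
            have hh := h.sq i (by omega) hi
            rw [pow_two] at hh
            rw [hl, W_succ, show k - l = i by omega, mul_assoc, hh, mul_one]
            simpa using hU0 1 H.one_mem l (by omega)
          · rw [W_braid h (by omega) j.val hj (by omega)]
            exact hU0 _ (hxH (i - 1) (by omega)) _ hj
      · simp only [c, hj, ite_false]
        set e := j.val - k with he
        rcases Nat.eq_zero_or_pos i with rfl | hi0
        · rw [mul_assoc, ← pow_succ]
          simpa using hU1 1 H.one_mem (e + 1)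
        have hk0 : 0 < k := by omega
        have hinv := inv_eq_self (h.sq i hi0 hi)
        rcases Nat.lt_or_ge 1 i with h1 | h1
        · have hf := h.far 0 i (by omega) hi
          have h2 : x 0 * x i = x i * x 0 ^ 2 := by
            have := inv_eq_self hf
            rw [mul_inv_rev, hinv] at this
            rw [← this, inv_eq_of_mul_eq_one_right (a := x 0) (b := x 0 ^ 2)]
            rw [← pow_succ', hc0]
          have h3 : ∀ e : ℕ, x 0 ^ e * x i = x i * x 0 ^ (2 * e) := by
            intro e
            induction e with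
            | zero => simp
            | succ e ihe =>
              rw [pow_succ', mul_assoc, ihe, ← mul_assoc, h2, mul_assoc, ← pow_add]
              congr 2
              omega
          rw [mul_assoc, h3, ← mul_assoc, W_braid h (by omega) k le_rfl (by omega), mul_assoc]
          exact hU1 _ (hxH (i - 1) (by omega)) _
        · obtain rfl : i = 1 := by omega
          obtain ⟨m, rfl⟩ : ∃ m, k = m + 1 := ⟨k - 1, by omega⟩
          have ha := h.adj 0 (by omega)
          obtain ⟨d, hd, hd'⟩ := W_zeroth h m (by omega)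
          have hdH : d ∈ H := hzH d hd (by omega)
          have b1 : x 1 * x 0 * x 1 = (x 0)⁻¹ * x 1 * (x 0)⁻¹ := by
            calc x 1 * x 0 * x 1 = (x 0)⁻¹ * (x 0 * x (0 + 1)) ^ 3 * (x 1)⁻¹ * (x 0)⁻¹ := by
                  simp [pow_succ, mul_assoc]
              _ = (x 0)⁻¹ * x 1 * (x 0)⁻¹ := by rw [ha, mul_one, hinv]
          have b2 : x 1 * (x 0)⁻¹ * x 1 = x 0 * x 1 * x 0 := by
            have := congrArg (·⁻¹) b1
            simp only [mul_inv_rev, hinv, inv_inv, ← mul_assoc] at this
            exact this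
          have hx02 : x 0 ^ 2 = (x 0)⁻¹ := (inv_eq_of_mul_eq_one_right (by rw [← pow_succ', hc0])).symm
          have hdinv : W x (m + 1) m * (x 0)⁻¹ = d⁻¹ * W x (m + 1) m := by
            rw [mul_inv_eq_iff_eq_mul, mul_assoc, hd', inv_mul_cancel_left]
          have e1 : m + 1 - m = 1 := by omega
          obtain he1 | he2 : e = 1 ∨ e = 2 := by omega
          · rw [he1, pow_one]
            have := hU1 d⁻¹ (inv_mem hdH) 2
            rw [hx02, W_succ, e1] at this
            rw [W_succ, e1]
            convert this using 1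
            calc W x (m + 1) m * x 1 * x 0 * x 1 = W x (m + 1) m * (x 1 * x 0 * x 1) := by group
              _ = (W x (m + 1) m * (x 0)⁻¹) * (x 1 * (x 0)⁻¹) := by rw [b1]; group
              _ = _ := by rw [hdinv]; group
          · rw [he2, hx02]
            have := hU1 d hdH 1
            rw [pow_one, W_succ, e1] at this
            rw [W_succ, e1]
            convert this using 1
            calc W x (m + 1) m * x 1 * (x 0)⁻¹ * x 1 = W x (m + 1) m * (x 1 * (x 0)⁻¹ * x 1) := by group
              _ = (W x (m + 1) m * x 0) * (x 1 * x 0) := by rw [b2]; group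
              _ = _ := by rw [hd']; group
    have hclosed : ∀ g, g ∈ Set.range F → ∀ i, i < k + 1 → g * x i ∈ Set.range F := by
      rintro _ ⟨⟨b, j⟩, rfl⟩ i hi
      show (b : G) * c j * x i ∈ Set.range F
      rw [mul_assoc]
      exact hmul _ b.2 _ (key i hi j)
    have hsub : (Subgroup.closure (x '' Set.Iio (k + 1)) : Set G) ⊆ Set.range F := by
      intro g hg
      induction hg using Subgroup.closure_induction_right with
      | one => exact ⟨(1, ⟨0, by omega⟩), by simp [F, c, W_zero]⟩
      | mul_right y _ z hz ihy =>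
        obtain ⟨i, hi, rfl⟩ := hz
        exact hclosed y ihy i hi
      | mul_inv_cancel y _ z hz ihy =>
        obtain ⟨i, hi, rfl⟩ := hz
        rcases Nat.eq_zero_or_pos i with rfl | hi0
        · rw [inv_eq_of_mul_eq_one_right (a := x 0) (b := x 0 * x 0)
            (by rw [← mul_assoc, ← pow_three', hc0]), ← mul_assoc]
          exact hclosed _ (hclosed y ihy 0 hi) 0 hi
        · rw [inv_eq_self (h.sq i hi0 hi)]
          exact hclosed y ihy i hi
    have hrf : (Set.range F).Finite := Set.finite_range F
    refine ⟨(hrf.subset hsub).to_subtype, ?_⟩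
    have h1 := Nat.card_mono hrf hsub
    have h2 : Nat.card (Set.range F) ≤ Nat.card (H × Fin (k + 3)) :=
      Nat.card_le_card_of_surjective (Set.rangeFactorization F) Set.rangeFactorization_surjective
    rw [Nat.card_prod, Nat.card_fin] at h2
    have h3 : Nat.card ↥(Subgroup.closure (x '' Set.Iio (k + 1))) ≤ Nat.card H * (k + 3) :=
      le_trans h1 h2
    calc 2 * _ ≤ 2 * Nat.card H * (k + 3) := by rw [mul_assoc]; exact Nat.mul_le_mul_left 2 h3
      _ ≤ (k + 2).factorial * (k + 3) := Nat.mul_le_mul_right _ hcard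
      _ = (k + 1 + 2).factorial := by rw [mul_comm]; exact (Nat.factorial_succ (k + 2)).symm

theorem threeCycle_pow {n : ℕ} {a b c : Fin n} (h1 : a ≠ b) (h2 : a ≠ c) (h3 : b ≠ c) :
    (Equiv.swap a b * Equiv.swap a c) ^ 3 = 1 := by
  rw [← (Equiv.Perm.isThreeCycle_swap_mul_swap_same h1 h2 h3).orderOf]
  exact pow_orderOf_eq_one _

theorem swap_comm_disjoint {n : ℕ} {a b c d : Fin n} (h1 : a ≠ c) (h2 : a ≠ d) (h3 : b ≠ c)
    (h4 : b ≠ d) : Commute (Equiv.swap a b) (Equiv.swap c d) := by
  refine Equiv.Perm.Disjoint.commute fun y => ?_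
  rcases eq_or_ne y a with rfl | hya
  · exact Or.inr (Equiv.swap_apply_of_ne_of_ne h1 h2)
  rcases eq_or_ne y b with rfl | hyb
  · exact Or.inr (Equiv.swap_apply_of_ne_of_ne h3 h4)
  exact Or.inl (Equiv.swap_apply_of_ne_of_ne hya hyb)


/-- A presentation of the alternating group of degree n ≥ 3 on generators x_1, …, x_{n−2} (indexed here by 0, …, n−3): the first generator cubes to 1, every other generator squares to 1, the product of two consecutive generators has order dividing 3, and the product of two generators at distance at least 2 has order dividing 2. The group so presented is isomorphic to the alternating group of degree n. -/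
theorem result (n : ℕ) (hn : 3 ≤ n) :
    Nonempty (PresentedGroup
      ({g : FreeGroup (Fin (n - 2)) | ∃ i : Fin (n - 2), i.val = 0 ∧ g = FreeGroup.of i ^ 3} ∪
       {g | ∃ i : Fin (n - 2), 1 ≤ i.val ∧ g = FreeGroup.of i ^ 2} ∪
       {g | ∃ i j : Fin (n - 2), j.val = i.val + 1 ∧ g = (FreeGroup.of i * FreeGroup.of j) ^ 3} ∪
       {g | ∃ i j : Fin (n - 2), i.val + 1 < j.val ∧ g = (FreeGroup.of i * FreeGroup.of j) ^ 2})
      ≃* alternatingGroup (Fin n)) := by
  obtain ⟨k, rfl⟩ : ∃ k, n = k + 3 := ⟨n - 3, by omega⟩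
  set R := ({g : FreeGroup (Fin (k + 3 - 2)) | ∃ i : Fin (k + 3 - 2), i.val = 0 ∧ g = FreeGroup.of i ^ 3} ∪
       {g | ∃ i : Fin (k + 3 - 2), 1 ≤ i.val ∧ g = FreeGroup.of i ^ 2} ∪
       {g | ∃ i j : Fin (k + 3 - 2), j.val = i.val + 1 ∧ g = (FreeGroup.of i * FreeGroup.of j) ^ 3} ∪
       {g | ∃ i j : Fin (k + 3 - 2), i.val + 1 < j.val ∧ g = (FreeGroup.of i * FreeGroup.of j) ^ 2})
    with hR
  -- the upper bound
  let x : ℕ → PresentedGroup R := fun i => if h : i < k + 1 then PresentedGroup.of ⟨i, h⟩ else 1
  have hx : ∀ i (h : i < k + 1), x i = PresentedGroup.mk R (FreeGroup.of ⟨i, h⟩) := fun i h => by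
    simp only [x, h, dite_true]; rfl
  have hrel : Rels x (k + 1) := by
    refine ⟨fun _ => ?_, fun i h1 h2 => ?_, fun i h2 => ?_, fun i j h1 h2 => ?_⟩
    · rw [hx 0 (by omega), ← map_pow]
      exact PresentedGroup.one_of_mem (Or.inl (Or.inl (Or.inl ⟨_, rfl, rfl⟩)))
    · rw [hx i h2, ← map_pow]
      exact PresentedGroup.one_of_mem (Or.inl (Or.inl (Or.inr ⟨_, h1, rfl⟩)))
    · rw [hx i (by omega), hx (i + 1) h2, ← map_mul, ← map_pow]
      exact PresentedGroup.one_of_mem (Or.inl (Or.inr ⟨_, _, rfl, rfl⟩))
    · rw [hx i (by omega), hx j h2, ← map_mul, ← map_pow]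
      exact PresentedGroup.one_of_mem (Or.inr ⟨_, _, h1, rfl⟩)
  have htop : Subgroup.closure (x '' Set.Iio (k + 1)) = ⊤ := by
    rw [eq_top_iff, ← PresentedGroup.closure_range_of R]
    refine Subgroup.closure_mono ?_
    rintro _ ⟨i, rfl⟩
    refine ⟨i.val, i.isLt, ?_⟩
    rw [hx i.val i.isLt]; rfl
  obtain ⟨hfin, hcard⟩ := card_le (k + 1) hrel
  rw [htop] at hfin hcard
  haveI : Finite (PresentedGroup R) := Finite.of_equiv _ Subgroup.topEquiv.toEquiv
  rw [Subgroup.card_top] at hcard
  -- the permutations
  let p : ℕ → Fin (k + 3) := fun i => if h : i < k + 3 then ⟨i, h⟩ else 0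
  have hp : ∀ {i j : ℕ}, i < k + 3 → j < k + 3 → i ≠ j → p i ≠ p j := by
    intro i j hi hj hne
    simp only [p, hi, hj, dite_true, ne_eq, Fin.mk.injEq]
    exact hne
  let s : ℕ → ℕ → Equiv.Perm (Fin (k + 3)) := fun i j => Equiv.swap (p i) (p j)
  let X : Fin (k + 3 - 2) → Equiv.Perm (Fin (k + 3)) := fun i =>
    if i.val = 0 then s 0 1 * s 1 2 else s 0 1 * s (i.val + 1) (i.val + 2)
  have hdisj : ∀ {i j : ℕ}, 2 ≤ i → i < k + 3 → 2 ≤ j → j < k + 3 → Commute (s 0 1) (s i j) :=
    fun hi hi' hj hj' => swap_comm_disjoint (hp (by omega) hi' (by omega)) (hp (by omega) hj' (by omega))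
      (hp (by omega) hi' (by omega)) (hp (by omega) hj' (by omega))
  have hss : ∀ i j, s i j * s i j = 1 := fun i j => Equiv.swap_mul_self _ _
  have hsw : s 0 1 * s 1 2 * s 0 1 = s 0 2 := by
    have := Equiv.mul_swap_eq_swap_mul (s 0 1) (p 1) (p 2)
    simp only [s] at this ⊢
    rw [Equiv.swap_apply_right, Equiv.swap_apply_of_ne_of_ne (hp (by omega) (by omega) (by omega))
      (hp (by omega) (by omega) (by omega))] at this
    rw [this, mul_assoc, Equiv.swap_mul_self, mul_one]
  have hX0 : ∀ i : Fin (k + 3 - 2), 1 ≤ i.val → X i = s 0 1 * s (i.val + 1) (i.val + 2) := fun i hi => by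
    simp [X, show i.val ≠ 0 by omega]
  have hlift : ∀ r ∈ R, FreeGroup.lift X r = 1 := by
    rintro r (((⟨i, hi, rfl⟩ | ⟨i, hi, rfl⟩) | ⟨i, j, hij, rfl⟩) | ⟨i, j, hij, rfl⟩) <;>
      simp only [map_pow, map_mul, FreeGroup.lift_apply_of]
    · simp only [X, hi, ite_true]
      rw [show s 0 1 = Equiv.swap (p 1) (p 0) from Equiv.swap_comm _ _]
      exact threeCycle_pow (hp (by omega) (by omega) (by omega)) (hp (by omega) (by omega) (by omega))
        (hp (by omega) (by omega) (by omega))
    · rw [hX0 i hi, (hdisj (by omega) (by omega) (by omega) (by omega)).mul_pow, pow_two, pow_two,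
        hss, hss, one_mul]
    · have hj := hX0 j (by omega)
      rw [hj]
      by_cases hi : i.val = 0
      · simp only [X, hi, ite_true]
        rw [show j.val + 1 = 2 by omega, show j.val + 2 = 3 by omega, ← mul_assoc, hsw]
        rw [show s 0 2 = Equiv.swap (p 2) (p 0) from Equiv.swap_comm _ _]
        exact threeCycle_pow (hp (by omega) (by omega) (by omega)) (hp (by omega) (by omega) (by omega))
          (hp (by omega) (by omega) (by omega))
      · rw [hX0 i (by omega), show j.val + 1 = i.val + 2 by omega, show j.val + 2 = i.val + 3 by omega]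
        have c1 : Commute (s 0 1) (s (i.val + 1) (i.val + 2)) :=
          hdisj (by omega) (by omega) (by omega) (by omega)
        rw [show s 0 1 * s (i.val + 1) (i.val + 2) * (s 0 1 * s (i.val + 2) (i.val + 3)) =
          (s 0 1 * s 0 1) * (s (i.val + 1) (i.val + 2) * s (i.val + 2) (i.val + 3)) by
            rw [mul_assoc, ← mul_assoc (s (i.val + 1) _), ← c1.eq]; simp only [mul_assoc], hss, one_mul]
        rw [show s (i.val + 1) (i.val + 2) = Equiv.swap (p (i.val + 2)) (p (i.val + 1)) from
          Equiv.swap_comm _ _]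
        exact threeCycle_pow (hp (by omega) (by omega) (by omega)) (hp (by omega) (by omega) (by omega))
          (hp (by omega) (by omega) (by omega))
    · rw [hX0 j (by omega)]
      have c2 : Commute (s 0 1) (s (j.val + 1) (j.val + 2)) :=
        hdisj (by omega) (by omega) (by omega) (by omega)
      by_cases hi : i.val = 0
      · simp only [X, hi, ite_true]
        rw [← mul_assoc, hsw]
        have c3 : Commute (s 0 2) (s (j.val + 1) (j.val + 2)) :=
          swap_comm_disjoint (hp (by omega) (by omega) (by omega)) (hp (by omega) (by omega) (by omega))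
            (hp (by omega) (by omega) (by omega)) (hp (by omega) (by omega) (by omega))
        rw [c3.mul_pow, pow_two, pow_two, hss, hss, one_mul]
      · rw [hX0 i (by omega)]
        have c1 : Commute (s 0 1) (s (i.val + 1) (i.val + 2)) :=
          hdisj (by omega) (by omega) (by omega) (by omega)
        have c3 : Commute (s (i.val + 1) (i.val + 2)) (s (j.val + 1) (j.val + 2)) :=
          swap_comm_disjoint (hp (by omega) (by omega) (by omega)) (hp (by omega) (by omega) (by omega))
            (hp (by omega) (by omega) (by omega)) (hp (by omega) (by omega) (by omega))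
        rw [show s 0 1 * s (i.val + 1) (i.val + 2) * (s 0 1 * s (j.val + 1) (j.val + 2)) =
          (s 0 1 * s 0 1) * (s (i.val + 1) (i.val + 2) * s (j.val + 1) (j.val + 2)) by
            rw [mul_assoc, ← mul_assoc (s (i.val + 1) _), ← c1.eq]; simp only [mul_assoc], hss, one_mul,
          c3.mul_pow, pow_two, pow_two, hss, hss, one_mul]
  let f : PresentedGroup R →* Equiv.Perm (Fin (k + 3)) := PresentedGroup.toGroup hlift
  have hf : ∀ i, f (PresentedGroup.of i) = X i := fun i => PresentedGroup.toGroup.of hlift
  have hsign : ∀ g, f g ∈ alternatingGroup (Fin (k + 3)) := by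
    intro g
    have : g ∈ (alternatingGroup (Fin (k + 3))).comap f := by
      have h0 : (⊤ : Subgroup (PresentedGroup R)) ≤ (alternatingGroup (Fin (k + 3))).comap f := by
        rw [← PresentedGroup.closure_range_of R, Subgroup.closure_le]
        rintro _ ⟨i, rfl⟩
        rw [SetLike.mem_coe, Subgroup.mem_comap, hf, Equiv.Perm.mem_alternatingGroup]
        have hi : i.val < k + 1 := by have := i.isLt; omega
        simp only [X]
        split_ifs with h0
        · simp only [s, map_mul, Equiv.Perm.sign_swap (hp (i := 0) (j := 1) (by omega) (by omega) (by omega)),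
            Equiv.Perm.sign_swap (hp (i := 1) (j := 2) (by omega) (by omega) (by omega))]
          rfl
        · simp only [s, map_mul, Equiv.Perm.sign_swap (hp (i := 0) (j := 1) (by omega) (by omega) (by omega)),
            Equiv.Perm.sign_swap (hp (i := i.val + 1) (j := i.val + 2) (by omega) (by omega) (by omega))]
          rfl
      exact h0 (Subgroup.mem_top g)
    exact this
  let f' : PresentedGroup R →* alternatingGroup (Fin (k + 3)) := f.codRestrict _ hsign
  -- the image is all of the alternating group
  have hXr : ∀ i (hi : i < k + 1), X ⟨i, hi⟩ ∈ f.range := fun i hi => ⟨_, hf _⟩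
  have hnorm : ∀ r ∈ f.range, s 0 1 * r * s 0 1 ∈ f.range := by
    rintro _ ⟨g, rfl⟩
    have hg : g ∈ f.range.comap ((MulAut.conj (s 0 1)).toMonoidHom.comp f) := by
      have h0 : (⊤ : Subgroup (PresentedGroup R)) ≤
          f.range.comap ((MulAut.conj (s 0 1)).toMonoidHom.comp f) := by
        rw [← PresentedGroup.closure_range_of R, Subgroup.closure_le]
        rintro _ ⟨i, rfl⟩
        simp only [SetLike.mem_coe, Subgroup.mem_comap, MonoidHom.comp_apply,
          MulEquiv.toMonoidHom_eq_coe, MonoidHom.coe_coe, MulAut.conj_apply, hf]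
        rw [show (s 0 1)⁻¹ = s 0 1 from Equiv.swap_inv _ _]
        have hXi : X i ∈ f.range := ⟨_, hf i⟩
        have hi : i.val < k + 1 := by have := i.isLt; omega
        by_cases h0 : i.val = 0
        · have : s 0 1 * X i * s 0 1 = (X i)⁻¹ := by
            simp only [X, h0, ite_true, mul_inv_rev]
            rw [← mul_assoc, hss, one_mul]
            simp [s, Equiv.swap_inv]
          rw [this]; exact inv_mem hXi
        · have : s 0 1 * X i * s 0 1 = X i := by
            rw [hX0 i (by omega)]
            have c1 : Commute (s 0 1) (s (i.val + 1) (i.val + 2)) :=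
              hdisj (by omega) (by omega) (by omega) (by omega)
            rw [← mul_assoc (s 0 1) (s 0 1), hss, one_mul, c1.eq]
          rw [this]; exact hXi
      exact h0 (Subgroup.mem_top g)
    simpa [s, Equiv.swap_inv] using hg
  let D : Subgroup (Equiv.Perm (Fin (k + 3))) :=
    { carrier := {g | g ∈ f.range ∨ g * s 0 1 ∈ f.range}
      one_mem' := Or.inl (one_mem _)
      mul_mem' := by
        intro a b ha hb
        rcases ha with ha | ha <;> rcases hb with hb | hb
        · exact Or.inl (mul_mem ha hb)
        · exact Or.inr (by rw [mul_assoc]; exact mul_mem ha hb)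
        · refine Or.inr ?_
          have := mul_mem ha (hnorm b hb)
          rwa [← mul_assoc, ← mul_assoc, mul_assoc a, hss, mul_one] at this
        · refine Or.inl ?_
          have := mul_mem ha (hnorm _ hb)
          rwa [mul_assoc (s 0 1) (b * _), mul_assoc b, hss, mul_one, mul_assoc a, ← mul_assoc (s 0 1),
            hss, one_mul] at this
      inv_mem' := by
        intro a ha
        rcases ha with ha | ha
        · exact Or.inl (inv_mem ha)
        · refine Or.inr ?_
          have := hnorm _ (inv_mem ha)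
          rwa [mul_inv_rev, show (s 0 1)⁻¹ = s 0 1 from Equiv.swap_inv _ _, ← mul_assoc, hss,
            one_mul] at this }
  have hD : D = ⊤ := by
    rw [eq_top_iff]
    intro g _
    have hg : g ∈ Submonoid.closure
        (Set.range fun i : Fin (k + 2) => Equiv.swap i.castSucc i.succ) := by
      rw [Equiv.Perm.mclosure_swap_castSucc_succ]; trivial
    suffices Submonoid.closure (Set.range fun i : Fin (k + 2) => Equiv.swap i.castSucc i.succ) ≤
        D.toSubmonoid from this hg
    rw [Submonoid.closure_le]
    rintro _ ⟨i, rfl⟩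
    have hsi : Equiv.swap i.castSucc i.succ = s i.val (i.val + 1) := by
      have := i.isLt
      simp only [s, p, show i.val < k + 3 by omega, show i.val + 1 < k + 3 by omega, dite_true]
      rfl
    show Equiv.swap i.castSucc i.succ ∈ D
    rw [hsi]
    have hlt := i.isLt
    rcases Nat.lt_or_ge i.val 2 with h2 | h2
    · obtain h | h : i.val = 0 ∨ i.val = 1 := by omega
      · refine Or.inr ?_
        rw [h, hss]; exact one_mem _
      · refine Or.inr ?_
        have h0 := hXr 0 (by omega)
        simp only [X, ite_true] at h0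
        have := inv_mem h0
        rw [mul_inv_rev] at this
        simpa [h, s, Equiv.swap_inv] using this
    · refine Or.inr ?_
      have h0 := hXr (i.val - 1) (by omega)
      rw [hX0 _ (by show 1 ≤ i.val - 1; omega)] at h0
      dsimp only at h0
      rw [show i.val - 1 + 1 = i.val by omega, show i.val - 1 + 2 = i.val + 1 by omega] at h0
      rwa [(hdisj (by omega) (by omega) (by omega) (by omega)).eq] at h0
  have hsurj : Function.Surjective f' := by
    rintro ⟨g, hg⟩
    rcases (show g ∈ D by rw [hD]; trivial) with ⟨a, ha⟩ | ⟨a, ha⟩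
    · exact ⟨a, Subtype.ext ha⟩
    · exfalso
      have h1 := Equiv.Perm.mem_alternatingGroup.mp (ha ▸ hsign a)
      rw [map_mul, Equiv.Perm.mem_alternatingGroup.mp hg,
        Equiv.Perm.sign_swap (hp (i := 0) (j := 1) (by omega) (by omega) (by omega)), one_mul] at h1
      exact absurd h1 (by decide)
  have hA : 2 * Nat.card (alternatingGroup (Fin (k + 3))) = (k + 3).factorial := by
    haveI : Nontrivial (Fin (k + 3)) := Fin.nontrivial_iff_two_le.mpr (by omega)
    rw [Nat.card_eq_fintype_card, two_mul_card_alternatingGroup, Fintype.card_perm, Fintype.card_fin]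
  have hle : Nat.card (PresentedGroup R) ≤ Nat.card (alternatingGroup (Fin (k + 3))) := by
    have : (k + 1 + 2).factorial = (k + 3).factorial := rfl
    omega
  exact ⟨MulEquiv.ofBijective f' (hsurj.bijective_of_nat_card_le hle)⟩

end Cfsg.Agent.S3335
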