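import Cfsg.Statements.S3277
import Cfsg.Agent.EqLemmas
import Cfsg.Agent.Lib.BSW.FourGroup
import Mathlib.GroupTheory.Transfer

set_option autoImplicit false
open Cfsg

namespace Cfsg.Agent.S3277

/-- Let G be a finite group containing an involution whose centralizer is elementary abelian of order 4. If G has no normal 2-complement and no normal elementary abelian 2-subgroup of order 2 or 4, then G is isomorphic to the alternating group of degree 5 (that is, to PSL(2, 5)). -/
theorem result {G : Type*} [Group G] [Finite G] (x : G) (hx : orderOf x = 2)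
    (hC4 : Nat.card ↥(Subgroup.centralizer ({x} : Set G)) = 4) (hCe : ∀ c ∈ Subgroup.centralizer ({x} : Set G), c ^ 2 = 1)
    (hnc : ¬ Cfsg.HasNormalPComplement 2 G)
    (hne : ∀ E : Subgroup G, E.Normal → Cfsg.IsElementaryAbelian 2 E → Nat.card ↥E ≠ 2 ∧ Nat.card ↥E ≠ 4) :
    Nonempty (G ≃* ↥(alternatingGroup (Fin 5))) := by
  classical
  have := Fintype.ofFinite G
  have := Fact.mk Nat.prime_two
  have hCe' : ∀ c ∈ BSW.cent x, c * c = 1 := fun c hc => by rw [← sq]; exact hCe c hc
  by_cases h8 : 8 ∣ Nat.card G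
  · obtain ⟨E, hEN, hE, hcard⟩ := BSW.exists_small_normal_of_dvd hx hC4 hCe' h8
    obtain ⟨h2, h4⟩ := hne E hEN hE
    exact (hcard.elim h2 h4).elim
  have hfac : (Nat.card G).factorization 2 = 2 := by
    have hd : 2 ^ 2 ∣ Nat.card G := by
      have := Subgroup.card_subgroup_dvd_card (BSW.cent x)
      rwa [show Nat.card (BSW.cent x) = 2 ^ 2 from hC4] at this
    rw [Nat.prime_two.pow_dvd_iff_le_factorization Nat.card_pos.ne'] at hd
    have hn : ¬ 2 ^ 3 ∣ Nat.card G := h8
    rw [Nat.prime_two.pow_dvd_iff_le_factorization Nat.card_pos.ne'] at hn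
    omega
  set V := BSW.cent x with hV
  let P : Sylow 2 G := Sylow.ofCard V (by rw [hfac]; exact hC4)
  have hPV : (P : Subgroup G) = V := Sylow.coe_ofCard ..
  have hVab : ∀ a ∈ V, ∀ b ∈ V, a * b = b * a := fun a ha b hb => by
    calc a * b = (a * b)⁻¹ := (inv_eq_of_mul_eq_one_right (hCe' _ (V.mul_mem ha hb))).symm
      _ = b * a := by
        rw [mul_inv_rev, inv_eq_of_mul_eq_one_right (hCe' a ha),
          inv_eq_of_mul_eq_one_right (hCe' b hb)]
  -- the three involutions of V are conjugate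
  obtain ⟨g, hgN, hgC⟩ : ∃ g ∈ Subgroup.normalizer (V : Set G),
      g ∉ Subgroup.centralizer (V : Set G) := by
    by_contra hall
    push Not at hall
    refine hnc ⟨P, _, inferInstance, MonoidHom.ker_transferSylow_isComplement' P ?_⟩
    change Subgroup.normalizer ((P : Subgroup G) : Set G) ≤ Subgroup.centralizer ((P : Subgroup G) : Set G)
    rw [hPV]; exact hall
  have hCV : Subgroup.centralizer (V : Set G) = V := le_antisymm
    (fun a ha => BSW.mem_cent.2 (Subgroup.mem_centralizer_iff.1 ha x (BSW.self_mem_cent x)).symm)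
    fun a ha => Subgroup.mem_centralizer_iff.2 fun b hb => hVab b hb a ha
  rw [hCV] at hgC
  obtain ⟨g0, hg0N, hg0V, hg0o⟩ : ∃ g0 ∈ Subgroup.normalizer (V : Set G), g0 ∉ V ∧ Odd (orderOf g0) := by
    obtain ⟨k, m, hm, hkm⟩ := Nat.exists_eq_pow_mul_and_not_dvd (orderOf_pos g).ne' 2 (by norm_num)
    have hm0 : m ≠ 0 := fun e => hm (e ▸ dvd_zero 2)
    have h2 : orderOf (g ^ m) = 2 ^ k := by
      rw [orderOf_pow' g hm0, hkm, Nat.gcd_eq_right (dvd_mul_left m _),
        Nat.mul_div_cancel _ (Nat.pos_of_ne_zero hm0)]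
    have hm2 : orderOf (g ^ 2 ^ k) = m := by
      rw [orderOf_pow' g (by positivity), hkm, Nat.gcd_eq_right (dvd_mul_right _ m),
        Nat.mul_div_cancel_left _ (by positivity)]
    refine ⟨g ^ 2 ^ k, pow_mem hgN _, fun hmem => hgC ?_,
      Nat.odd_iff.2 (by rw [hm2]; omega)⟩
    have hpV : g ^ m ∈ V := by
      have hp : IsPGroup 2 (Subgroup.zpowers (g ^ m)) :=
        IsPGroup.of_card (n := k) (by rw [Nat.card_zpowers, h2])
      have hsup : IsPGroup 2 (Subgroup.zpowers (g ^ m) ⊔ (P : Subgroup G) : Subgroup G) :=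
        hp.to_sup_of_normal_right' P.isPGroup'
          (by rw [hPV]; exact Subgroup.zpowers_le.2 (pow_mem hgN m))
      have e := P.is_maximal' hsup le_sup_right
      rw [← hPV, ← e]
      exact Subgroup.mem_sup_left (Subgroup.mem_zpowers _)
    have hcop : Nat.Coprime (2 ^ k) m :=
      Nat.Coprime.pow_left k ((Nat.prime_two.coprime_iff_not_dvd).2 hm)
    have hbez := Nat.gcd_eq_gcd_ab (2 ^ k) m
    rw [hcop.gcd_eq_one] at hbez
    have hge : g = (g ^ 2 ^ k) ^ Nat.gcdA (2 ^ k) m * (g ^ m) ^ Nat.gcdB (2 ^ k) m := by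
      rw [← zpow_natCast g (2 ^ k), ← zpow_natCast g m, ← zpow_mul, ← zpow_mul, ← zpow_add, ← hbez]
      simp
    rw [hge]
    exact V.mul_mem (V.zpow_mem hmem _) (V.zpow_mem hpV _)
  have hxV : x ∈ V := BSW.self_mem_cent x
  set y := g0 * x * g0⁻¹ with hy
  have hyV : y ∈ V := BSW.conj_mem_of_mem_normalizer hg0N hxV
  have hyx : y ≠ x := fun e => hg0V (BSW.mem_cent.2 (BSW.conj_eq_iff.1 e))
  have hy2 : orderOf y = 2 := by rw [hy, Involution.orderOf_conj, hx]
  have hxy1 : x * y ≠ 1 := fun e => hyx (by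
    rw [eq_inv_of_mul_eq_one_right e, Involution.inv_eq hx])
  have hVset : ∀ c ∈ V, c = 1 ∨ c = x ∨ c = y ∨ c = x * y := by
    intro c hc
    by_contra hn
    push Not at hn
    obtain ⟨n1, n2, n3, n4⟩ := hn
    have hx1 := Involution.ne_one hx
    have hy1 := Involution.ne_one hy2
    have hs : (({1, x, y, x * y, c} : Finset G) : Set G) ⊆ (V : Set G) := by
      simp [Set.insert_subset_iff, V.one_mem, hxV, hyV, hc, V.mul_mem hxV hyV]
    have hle := Set.ncard_le_ncard hs (Set.toFinite _)
    rw [Set.ncard_coe_finset, ← Nat.card_coe_set_eq] at hle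
    simp only [SetLike.coe_sort_coe] at hle
    rw [show Nat.card V = 4 from hC4,
      Finset.card_insert_of_notMem (by simp [hx1.symm, hy1.symm, hxy1.symm, n1.symm]),
      Finset.card_insert_of_notMem (by simp [hyx.symm, hy1, n2.symm]),
      Finset.card_insert_of_notMem (by simp [hx1, n3.symm]),
      Finset.card_insert_of_notMem (by simp [n4.symm]), Finset.card_singleton] at hle
    omega
  have hxconj : IsConj x y := isConj_iff.2 ⟨g0, rfl⟩
  have hxyconj : IsConj x (x * y) := by
    have hz : g0 * y * g0⁻¹ ∈ V := BSW.conj_mem_of_mem_normalizer hg0N hyV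
    rcases hVset _ hz with e | e | e | e
    · exact absurd (conj_eq_one_iff.1 e) (Involution.ne_one hy2)
    · exfalso
      have hsq : g0 * g0 ∈ V := BSW.mem_cent.2 (BSW.conj_eq_iff.1 (by
        rw [show g0 * g0 * x * (g0 * g0)⁻¹ = g0 * y * g0⁻¹ by rw [hy]; group, e]))
      exact hg0V (BSW.mem_of_odd_of_sq_mem hsq hg0o)
    · exact absurd (mul_left_cancel (mul_right_cancel (e.trans hy))) hyx
    · exact hxconj.trans (isConj_iff.2 ⟨g0, e⟩)
  have hinv : ∀ u : G, orderOf u = 2 → IsConj x u := by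
    intro u hu
    have hp : IsPGroup 2 (Subgroup.zpowers u) :=
      IsPGroup.of_card (n := 1) (by rw [Nat.card_zpowers, hu, pow_one])
    obtain ⟨R, hR⟩ := hp.exists_le_sylow
    obtain ⟨c, hc⟩ := MulAction.exists_smul_eq G R P
    have hm : c * u * c⁻¹ ∈ V := by
      rw [← hPV, ← hc, Sylow.coe_subgroup_smul]
      exact ⟨u, hR (Subgroup.mem_zpowers u), rfl⟩
    have hcu : IsConj (c * u * c⁻¹) u := (isConj_iff.2 ⟨c, rfl⟩ : IsConj u (c * u * c⁻¹)).symm
    rcases hVset _ hm with e | e | e | e
    · exact absurd (conj_eq_one_iff.1 e) (Involution.ne_one hu)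
    · rwa [e] at hcu
    · rw [e] at hcu; exact hxconj.trans hcu
    · rw [e] at hcu; exact hxyconj.trans hcu
  set K := Subgroup.zpowers x with hK
  have hKmem : ∀ z ∈ K, z = 1 ∨ z = x := by
    intro z hz
    obtain ⟨k, rfl⟩ := Subgroup.mem_zpowers_iff.1 hz
    rcases Int.even_or_odd k with ⟨l, rfl⟩ | ⟨l, rfl⟩
    · exact Or.inl (by rw [zpow_add, ← (Commute.refl x).mul_zpow, Involution.mul_self hx, one_zpow])
    · exact Or.inr (by rw [zpow_add, zpow_mul, zpow_one, zpow_two, Involution.mul_self hx,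
        one_zpow, one_mul])
  have hKx : x ∈ K := Subgroup.mem_zpowers x
  have hyK : y ∉ K := fun e => (hKmem y e).elim (Involution.ne_one hy2) hyx
  have hyc : y * x = x * y := BSW.mem_cent.1 hyV
  have h : BSW.Hyp x y K :=
    { ht := hx
      hs := hy2
      comm := fun a ha b hb => by
        rcases hKmem a ha with rfl | rfl <;> rcases hKmem b hb with rfl | rfl <;> simp
      le_cent := Subgroup.zpowers_le.2 hxV
      t_mem := hKx
      s_mem := hyV
      s_not := hyK
      cent_le := fun c hc => by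
        rcases hVset c hc with rfl | rfl | rfl | rfl
        · exact one_mem _
        · exact Subgroup.mem_sup_left hKx
        · exact Subgroup.mem_sup_right (Subgroup.mem_zpowers _)
        · exact mul_mem (Subgroup.mem_sup_left hKx) (Subgroup.mem_sup_right (Subgroup.mem_zpowers _))
      fix := fun a ha _ => hKmem a ha
      inv := fun a ha => by
        rcases hKmem a ha with rfl | rfl
        · simp
        · rw [hyc, mul_inv_cancel_right, Involution.inv_eq hx]
      ti := fun c a ha ha1 hca => by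
        obtain rfl := (hKmem a ha).resolve_left ha1
        exact BSW.mem_cent.2 (BSW.conj_eq_iff.1
          ((hKmem _ hca).resolve_left fun e => ha1 (conj_eq_one_iff.1 e)))
      all_conj := fun a b ha hb => (hinv a ha).symm.trans (hinv b hb) }
  rcases h.alternatingFive_or_normal (by rw [hK, Nat.card_zpowers, hx]) with h5 | ⟨E, hEN, hE, h4⟩
  · exact h5
  · exact absurd h4 (hne E hEN hE).2

end Cfsg.Agent.S3277
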