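import Cfsg.Statements.S3278
import Cfsg.Agent.S3277
import Cfsg.Agent.Lib.ZStar.KleinSimple

set_option autoImplicit false
open Cfsg

namespace Cfsg.Agent.S3278

/-- Let G be a finite simple group with an involution x such that a Sylow 2-subgroup of C_G(x) is a Klein four-group which is normal in C_G(x). Then G is isomorphic to the alternating group of degree 5 (that is, to PSL(2, 5)). -/
theorem result {G : Type*} [Group G] [Finite G] [IsSimpleGroup G] (x : G) (hx : orderOf x = 2)
    (S₀ : Subgroup G) (hle : S₀ ≤ Subgroup.centralizer ({x} : Set G)) (hK : IsKleinFour ↥S₀)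
    (hodd : ¬ 2 ∣ S₀.relIndex (Subgroup.centralizer ({x} : Set G))) (hn : (S₀.subgroupOf (Subgroup.centralizer ({x} : Set G))).Normal) :
    Nonempty (G ≃* ↥(alternatingGroup (Fin 5))) := by
  obtain ⟨hC4, hCe, h60⟩ := KleinSimple.card_cent_eq_four hx hle hK hodd hn
  haveI : Fact (Nat.Prime 2) := ⟨Nat.prime_two⟩
  refine S3277.result x hx hC4 hCe ?_ ?_
  · rintro ⟨P, N, hN, hNP⟩
    have hd : Nat.card (P : Subgroup G) = 4 := by
      rw [P.card_eq_multiplicity, h60]
      simp [show Nat.factorization 60 2 = 2 from by
        rw [show (60 : ℕ) = 2 ^ 2 * 15 from rfl, Nat.factorization_mul (by norm_num) (by norm_num),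
          Finsupp.add_apply, Nat.Prime.factorization_pow Nat.prime_two, Finsupp.single_eq_same,
          Nat.factorization_eq_zero_of_not_dvd (by norm_num)]]
    have h := hNP.card_mul
    rw [hd, h60] at h
    rcases hN.eq_bot_or_eq_top with e | e
    · rw [e, Subgroup.card_bot] at h; omega
    · rw [e, Subgroup.card_top, h60] at h; omega
  · intro E hE _
    rcases hE.eq_bot_or_eq_top with e | e
    · rw [e, Subgroup.card_bot]; omega
    · rw [e, Subgroup.card_top, h60]; omega

end Cfsg.Agent.S3278
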