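import Cfsg.Statements.S3280
import Cfsg.Agent.EqLemmas
import Cfsg.Agent.Lib.CentFour.Sylow
import Cfsg.Agent.Lib.CentFour.Orders
import Cfsg.Agent.Lib.DihedralEight.Recognise
import Cfsg.Agent.S3331
import Cfsg.Agent.S3278
import Cfsg.Agent.S0984
import Cfsg.Agent.S0495

set_option autoImplicit false
open Cfsg

namespace Cfsg.Agent.S3280

open Subgroup

theorem sylow_two_case {G : Type*} [Group G] [Finite G] [IsSimpleGroup G] (hG : ¬ IsMulCommutative G)
    (w : G) (h2 : orderOf w = 2) (hc : Nat.card (centralizer ({w} : Set G)) = 2) : False := by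
  haveI := Fact.mk Nat.prime_two
  obtain ⟨S, hS⟩ := (IsPGroup.of_card (n := 1) (p := 2) (G := zpowers w)
    (by rw [Nat.card_zpowers, h2, pow_one])).exists_le_sylow
  have hwS : w ∈ (S : Subgroup G) := hS (mem_zpowers w)
  haveI : Nontrivial (S : Subgroup G) :=
    ⟨⟨w, hwS⟩, 1, fun e => Involution.ne_one h2 (congrArg Subtype.val e)⟩
  have hC : centralizer ({w} : Set G) = zpowers w := (eq_of_le_of_card_ge
    (zpowers_le.2 (mem_centralizer_singleton_iff.2 rfl)) (by rw [hc, Nat.card_zpowers, h2])).symm
  obtain ⟨c, hc1⟩ := (nontrivial_iff_exists_ne (1 : center (S : Subgroup G))).1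
    (S.isPGroup'.center_nontrivial)
  have hcw : ((c : (S : Subgroup G)) : G) * w = w * ((c : (S : Subgroup G)) : G) :=
    (congrArg Subtype.val (mem_center_iff.1 c.2 ⟨w, hwS⟩)).symm
  have hcm : ((c : (S : Subgroup G)) : G) ∈ zpowers w := hC ▸ mem_centralizer_singleton_iff.2 hcw
  rcases CentFour.zpowers_sq (Involution.mul_self h2) hcm with e | e
  · exact hc1 (Subtype.ext (Subtype.ext e))
  · have hle : (S : Subgroup G) ≤ zpowers w := fun s hs => by
      rw [← hC, mem_centralizer_singleton_iff]
      have := congrArg Subtype.val (mem_center_iff.1 c.2 ⟨s, hs⟩)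
      simp only [coe_mul, e] at this
      exact this
    refine CentFour.card_sylow_ne_two hG (CentFour.two_dvd_of_orderOf (g := w) (by rw [h2])) S ?_
    rw [le_antisymm hle hS, Nat.card_zpowers, h2]

theorem order_four_case {G : Type*} [Group G] [Finite G] [IsSimpleGroup G] (hG : ¬ IsMulCommutative G)
    (v : G) (h4 : orderOf v = 4) (hcent : ∀ g : G, g * v = v * g → g ∈ zpowers v) :
    Nonempty (G ≃* ↥(alternatingGroup (Fin 6))) ∨ Nonempty (G ≃* ↥(alternatingGroup (Fin 7))) ∨
      (∃ (F : Type) (_ : Field F) (_ : Fintype F), Fintype.card F = 7 ∧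
        Nonempty (G ≃* Matrix.ProjectiveSpecialLinearGroup (Fin 2) F)) := by
  obtain ⟨P, τ, h⟩ := CentFour.exists_hyp hG h4 hcent
  rcases h.order_cases with ho | h2520
  · have hC : centralizer ({v * v} : Set G) = (P : Subgroup G) :=
      (eq_of_le_of_card_ge h.P_le (le_of_eq (h.card_Cz.trans (by rw [ho, h.card_P])))).symm
    obtain ⟨e⟩ := h.iso
    have hidx : ∀ H : Subgroup G, H.index ≠ 2 := fun H hH => by
      haveI := normal_of_index_eq_two hH
      rcases (inferInstance : H.Normal).eq_bot_or_eq_top with e | e
      · rw [e, index_bot] at hH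
        have := orderOf_dvd_natCard v
        rw [h4, hH] at this
        norm_num at this
      · rw [e, index_top] at hH; norm_num at hH
    rcases DihedralEight.simple_case h.z_ord ((MulEquiv.subgroupCongr hC).trans e) hidx with
      he | h6
    · haveI := Fact.mk (show Nat.Prime 7 by norm_num)
      have h168 : Nat.card G = 168 := by
        rw [Nat.card_congr he.some.toEquiv, Cfsg.Agent.GLOrder.card_SL, Nat.card_zmod]; decide
      exact Or.inr (Or.inr ⟨ZMod 7, inferInstance, inferInstance, ZMod.card 7,
        Cfsg.Agent.S0495.result h168 (ZMod.card 7)⟩)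
    · exact Or.inl h6
  · exact Or.inr (Or.inl (Cfsg.Agent.S0984.result h2520))

/-- A non-cyclic finite simple group containing an element whose centralizer has order at most 4 is isomorphic to the alternating group of degree 5, 6 or 7, or to PSL(2, 7). -/
theorem result {G : Type*} [Group G] [Finite G] [IsSimpleGroup G] (hG : ¬ IsCyclic G)
    (w : G) (hw : Nat.card ↥(Subgroup.centralizer ({w} : Set G)) ≤ 4) :
    Nonempty (G ≃* ↥(alternatingGroup (Fin 5))) ∨ Nonempty (G ≃* ↥(alternatingGroup (Fin 6))) ∨
      Nonempty (G ≃* ↥(alternatingGroup (Fin 7))) ∨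
      (∃ (F : Type) (_ : Field F) (_ : Fintype F), Fintype.card F = 7 ∧ Nonempty (G ≃* Matrix.ProjectiveSpecialLinearGroup (Fin 2) F)) := by
  classical
  have hna : ¬ IsMulCommutative G := fun hc => hG (by
    let : CommGroup G := { ‹Group G› with mul_comm := fun a b => mul_comm' a b }
    exact IsSimpleGroup.isCyclic)
  set C := centralizer ({w} : Set G) with hCdef
  have hwC : w ∈ C := mem_centralizer_singleton_iff.2 rfl
  have hw1 : w ≠ 1 := by
    rintro rfl
    have hC : C = ⊤ := (eq_top_iff' _).2 fun g => mem_centralizer_singleton_iff.2 (by simp)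
    rw [hC, card_top] at hw
    rcases (show Nat.card G = 1 ∨ Nat.card G = 2 ∨ Nat.card G = 3 ∨ Nat.card G = 4 by
      have := Nat.card_pos (α := G); omega) with e | e | e | e
    · exact hG (by haveI := (Nat.card_eq_one_iff_unique.1 e).1; exact isCyclic_of_subsingleton)
    · haveI := Fact.mk Nat.prime_two; exact hG (isCyclic_of_prime_card e)
    · haveI := Fact.mk Nat.prime_three; exact hG (isCyclic_of_prime_card e)
    · haveI := Fact.mk Nat.prime_two
      exact SmallOrders.not_isPGroup hna 2 (IsPGroup.of_card (n := 2) (by rw [e]; norm_num))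
  have hzle : zpowers w ≤ C := zpowers_le.2 hwC
  have hdvd : orderOf w ∣ Nat.card C := by
    rw [← Nat.card_zpowers]; exact card_dvd_of_le hzle
  have h2le : 2 ≤ orderOf w := by
    have h0 := orderOf_pos w
    have h1 : orderOf w ≠ 1 := fun e => hw1 (orderOf_eq_one_iff.1 e)
    omega
  have hCle := Nat.le_of_dvd Nat.card_pos hdvd
  rcases (show Nat.card C = 2 ∨ Nat.card C = 3 ∨ Nat.card C = 4 by omega) with hc | hc | hc
  · exact (sylow_two_case hna w (by omega) hc).elim
  · have ho : orderOf w = 3 := by
      rw [hc] at hdvd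
      exact ((Nat.dvd_prime Nat.prime_three).1 hdvd).resolve_left (by omega)
    have hC : C = zpowers w :=
      (eq_of_le_of_card_ge hzle (by rw [Nat.card_zpowers, ho, hc])).symm
    have hCC : centralizer (C : Set G) = C := le_antisymm
      (fun g hg => mem_centralizer_singleton_iff.2 (mem_centralizer_iff.1 hg w hwC).symm)
      (fun g hg => mem_centralizer_iff.2 fun x hx => by
        rw [SetLike.mem_coe, hC] at hx
        rw [hC] at hg
        exact congrArg Subtype.val
          (IsMulCommutative.is_comm.comm (⟨x, hx⟩ : zpowers w) ⟨g, hg⟩))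
    rcases Cfsg.Agent.S3331.result C hc hCC with ⟨N, hN, -, -, h3⟩ | ⟨N, hN, -, -, h5⟩ | h7
    · exfalso
      have h36 : Nat.card (G ⧸ N) = 3 ∨ Nat.card (G ⧸ N) = 6 := by
        rcases h3 with e | e
        · exact Or.inl e
        · exact Or.inr (by rw [Nat.card_congr e.some.toEquiv, Nat.card_perm, Nat.card_fin]; decide)
      rw [← index_eq_card] at h36
      rcases hN.eq_bot_or_eq_top with e | e
      · subst e
        rw [index_bot] at h36
        rcases h36 with e | e
        · haveI := Fact.mk Nat.prime_three; exact hG (isCyclic_of_prime_card e)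
        · have hi : C.index = 2 := by
            have := C.card_mul_index; rw [hc, e] at this; omega
          haveI := normal_of_index_eq_two hi
          rcases (inferInstance : C.Normal).eq_bot_or_eq_top with e' | e'
          · rw [e', card_bot] at hc; norm_num at hc
          · rw [e', index_top] at hi; norm_num at hi
      · subst e
        rw [index_top] at h36; omega
    · rcases hN.eq_bot_or_eq_top with e | e
      · subst e
        exact Or.inl ⟨QuotientGroup.quotientBot.symm.trans h5.some⟩
      · exfalso
        subst e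
        have h60 := Nat.card_congr h5.some.toEquiv
        rw [← index_eq_card, index_top, nat_card_alternatingGroup, Nat.card_fin] at h60
        norm_num [Nat.factorial] at h60
    · haveI := Fact.mk (show Nat.Prime 7 by norm_num)
      exact Or.inr (Or.inr (Or.inr ⟨ZMod 7, inferInstance, inferInstance, ZMod.card 7, h7⟩))
  · have hord : orderOf w = 2 ∨ orderOf w = 4 := by
      rw [hc, show (4 : ℕ) = 2 ^ 2 from rfl, Nat.dvd_prime_pow Nat.prime_two] at hdvd
      obtain ⟨i, hi, e⟩ := hdvd
      interval_cases i <;> omega
    have hself : ∀ v ∈ C, orderOf v = 4 → zpowers v = C := fun v hvC hv =>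
      eq_of_le_of_card_ge (zpowers_le.2 hvC) (by rw [hc, Nat.card_zpowers, hv])
    rcases hord with h2 | h4
    · by_cases hex : ∃ v ∈ C, orderOf v = 4
      · obtain ⟨v, hvC, hv⟩ := hex
        have hzv := hself v hvC hv
        refine Or.inr (order_four_case hna v hv fun g hg => ?_)
        rw [hzv]
        obtain ⟨k, hk⟩ := mem_zpowers_iff.1 (hzv.symm ▸ hwC : w ∈ zpowers v)
        refine mem_centralizer_singleton_iff.2 ?_
        rw [← hk]
        exact ((show Commute g v from hg).zpow_right k).eq
      · have hK : IsKleinFour C :=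
          CentFour.kleinFour_of_no_four hc fun g hg => hex ⟨g, g.2, by rw [orderOf_coe]; exact hg⟩
        exact Or.inl (Cfsg.Agent.S3278.result w h2 C le_rfl hK (by rw [relIndex_self]; norm_num)
          (by rw [subgroupOf_self]; infer_instance))
    · refine Or.inr (order_four_case hna w h4 fun g hg => ?_)
      rw [hself w hwC h4]
      exact mem_centralizer_singleton_iff.2 hg

end Cfsg.Agent.S3280
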