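import Cfsg.Statements.S0430
import Cfsg.Agent.Lib.Golay.DesignTwoTwo

set_option autoImplicit false
open Cfsg

namespace Cfsg.Agent.S0430

open Finset SimpleGraph

section
variable {V : Type*} [Fintype V] [DecidableEq V] {G : SimpleGraph V} [DecidableRel G.Adj]

/-- Common neighbours as a finset. -/
def com (G : SimpleGraph V) [DecidableRel G.Adj] (v w : V) : Finset V :=
  univ.filter fun u => G.Adj v u ∧ G.Adj w u

theorem mem_com {v w u : V} : u ∈ com G v w ↔ G.Adj v u ∧ G.Adj w u := by simp [com]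

variable (hG : G.IsSRGWith 100 22 0 6)
include hG

theorem card_nbr (v : V) : (univ.filter fun u => G.Adj v u).card = 22 := by
  rw [← hG.regular v, ← card_neighborFinset_eq_degree]
  congr 1
  ext u
  simp

theorem card_com (v w : V) :
    (com G v w).card = if v = w then 22 else if G.Adj v w then 0 else 6 := by
  split_ifs with h1 h2
  · subst h1
    rw [← card_nbr hG v]
    congr 1
    ext u
    simp [com]
  · rw [← hG.of_adj v w h2]
    exact (Fintype.card_of_subtype _ fun u => by simp [mem_com, mem_commonNeighbors]).symm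
  · rw [← hG.of_not_adj h1 h2]
    exact (Fintype.card_of_subtype _ fun u => by simp [mem_com, mem_commonNeighbors]).symm

theorem not_adj_of_common {v p q : V} (hp : G.Adj v p) (hq : G.Adj v q) : ¬ G.Adj p q := by
  intro h
  have h1 := card_com hG p q
  rw [if_neg h.ne, if_pos h] at h1
  exact notMem_empty v ((card_eq_zero.1 h1) ▸ mem_com.2 ⟨hp.symm, hq.symm⟩)

variable (v₀ : V)

omit hG in
/-- The non-neighbours of `v₀`. -/
def far (G : SimpleGraph V) [DecidableRel G.Adj] (v₀ : V) : Finset V :=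
  univ.filter fun w => w ≠ v₀ ∧ ¬ G.Adj v₀ w

omit hG in
theorem mem_far {w : V} : w ∈ far G v₀ ↔ w ≠ v₀ ∧ ¬ G.Adj v₀ w := by simp [far]

theorem card_far : (far G v₀).card = 77 := by
  have h : (univ : Finset V) = far G v₀ ∪ insert v₀ (univ.filter fun u => G.Adj v₀ u) := by
    ext u
    by_cases e : u = v₀ <;> by_cases e' : G.Adj v₀ u <;> simp [mem_far, e, e']
  have h2 := congrArg Finset.card h
  rw [card_union_of_disjoint, card_insert_of_notMem (by simp), card_nbr hG, card_univ, hG.card]
    at h2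
  · omega
  · rw [Finset.disjoint_left]
    intro u hu hu'
    rw [mem_far] at hu
    rcases mem_insert.1 hu' with e | e
    · exact hu.1 e
    · exact hu.2 (mem_filter.1 e).2

theorem card_blk {w : V} (hw : w ∈ far G v₀) : (com G v₀ w).card = 6 := by
  rw [card_com hG, if_neg (fun e => (mem_far v₀).1 hw |>.1 e.symm),
    if_neg ((mem_far v₀).1 hw).2]

theorem inter_blk {w w' : V} (hw : w ∈ far G v₀) (hw' : w' ∈ far G v₀) (hne : w' ≠ w) :
    (com G v₀ w ∩ com G v₀ w').card = if G.Adj w w' then 0 else 2 := by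
  have hadj0 : ∀ {u}, u ∈ far G v₀ → G.Adj w u → (com G v₀ w ∩ com G v₀ u).card = 0 := by
    intro u _ hu
    rw [card_eq_zero, eq_empty_iff_forall_notMem]
    intro x hx
    simp only [mem_inter, mem_com] at hx
    exact not_adj_of_common hG hx.1.2.symm hx.2.2.symm hu
  by_cases h : G.Adj w w'
  · rw [if_pos h, hadj0 hw' h]
  rw [if_neg h]
  set R := (far G v₀).filter (fun u => u ≠ w ∧ ¬ G.Adj w u) with hR
  set b := com G v₀ w with hb
  set x : V → ℕ := fun u => (b ∩ com G v₀ u).card with hx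
  have hb6 : b.card = 6 := card_blk hG v₀ hw
  have hbm : ∀ p, p ∈ b ↔ G.Adj v₀ p ∧ G.Adj w p := fun p => mem_com
  -- one point of the block
  have h1 : ∀ p ∈ b, (R.filter fun u => p ∈ com G v₀ u).card = 20 := by
    intro p hp
    rw [hbm] at hp
    have e : R.filter (fun u => p ∈ com G v₀ u) =
        ((univ.filter fun u => G.Adj p u).erase v₀).erase w := by
      ext u
      simp only [hR, mem_filter, mem_far, mem_com, mem_erase, mem_univ, true_and]
      constructor
      · rintro ⟨⟨⟨a, b⟩, c, d⟩, -, e⟩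
        exact ⟨c, a, e.symm⟩
      · rintro ⟨c, a, e⟩
        exact ⟨⟨⟨a, fun t => not_adj_of_common hG t hp.1 e.symm⟩, c,
          fun t => not_adj_of_common hG t hp.2 e.symm⟩, hp.1, e.symm⟩
    rw [e, card_erase_of_mem, card_erase_of_mem, card_nbr hG]
    · simp [hp.1.symm]
    · simp [hp.2.symm, ((mem_far v₀).1 hw).1]
  -- two points of the block
  have h2 : ∀ p ∈ b, ∀ q ∈ b, p ≠ q →
      (R.filter fun u => p ∈ com G v₀ u ∧ q ∈ com G v₀ u).card = 4 := by
    intro p hp q hq hpq
    rw [hbm] at hp hq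
    have e : R.filter (fun u => p ∈ com G v₀ u ∧ q ∈ com G v₀ u) =
        ((com G p q).erase v₀).erase w := by
      ext u
      simp only [hR, mem_filter, mem_far, mem_com, mem_erase]
      constructor
      · rintro ⟨⟨⟨a, b⟩, c, d⟩, ⟨-, e⟩, -, e'⟩
        exact ⟨c, a, e.symm, e'.symm⟩
      · rintro ⟨c, a, e, e'⟩
        exact ⟨⟨⟨a, fun t => not_adj_of_common hG t hp.1 e.symm⟩, c,
          fun t => not_adj_of_common hG t hp.2 e.symm⟩, ⟨hp.1, e.symm⟩, hq.1, e'.symm⟩
    rw [e, card_erase_of_mem, card_erase_of_mem, card_com hG, if_neg hpq,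
      if_neg (not_adj_of_common hG hp.1 hq.1)]
    · simp [mem_com, hp.1.symm, hq.1.symm]
    · simp [mem_com, hp.2.symm, hq.2.symm, ((mem_far v₀).1 hw).1]
  have hRc : R.card = 60 := by
    have e : far G v₀ = R ∪ insert w (((univ.filter fun u => G.Adj w u)) \ b) := by
      ext u
      simp only [hR, mem_union, mem_filter, mem_insert, mem_sdiff, hbm, mem_univ, true_and]
      constructor
      · intro hu
        by_cases e : u = w
        · exact Or.inr (Or.inl e)
        by_cases e' : G.Adj w u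
        · exact Or.inr (Or.inr ⟨e', fun t => ((mem_far v₀).1 hu).2 t.1⟩)
        · exact Or.inl ⟨hu, e, e'⟩
      · rintro (h | rfl | ⟨h, h'⟩)
        · exact h.1
        · exact hw
        · rw [mem_far]
          exact ⟨fun t => ((mem_far v₀).1 hw).2 (t ▸ h).symm, fun t => h' ⟨t, h⟩⟩
    have e2 := congrArg Finset.card e
    rw [card_far hG, card_union_of_disjoint, card_insert_of_notMem (by simp),
      card_sdiff_of_subset, card_nbr hG, hb6] at e2
    · omega
    · intro p hp
      simp [(hbm p).1 hp |>.2]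
    · rw [Finset.disjoint_left]
      intro u hu hu'
      simp only [hR, mem_filter] at hu
      rcases mem_insert.1 hu' with e | e
      · exact hu.2.1 e
      · exact hu.2.2 (mem_filter.1 (mem_sdiff.1 e).1).2
  have hs1 : ∑ u ∈ R, (x u : ℤ) = 120 := by
    have e : ∀ u, x u = ∑ p ∈ b, if p ∈ com G v₀ u then 1 else 0 := fun u => by
      rw [hx, sum_boole]
      simp [filter_mem_eq_inter]
    have : ∑ u ∈ R, x u = 120 := by
      rw [sum_congr rfl (fun u _ => e u), sum_comm]
      rw [sum_congr rfl (fun p hp => (sum_boole _ _).trans (h1 p hp)), sum_const, hb6]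
      rfl
    exact_mod_cast this
  have hs2 : ∑ u ∈ R, (x u : ℤ) ^ 2 = 240 := by
    have e : ∀ u, x u ^ 2 = ∑ p ∈ b, ∑ q ∈ b,
        if p ∈ com G v₀ u ∧ q ∈ com G v₀ u then 1 else 0 := fun u => by
      rw [hx, sq]
      have : ∀ p q, (if p ∈ com G v₀ u ∧ q ∈ com G v₀ u then (1:ℕ) else 0) =
          (if p ∈ com G v₀ u then 1 else 0) * (if q ∈ com G v₀ u then 1 else 0) := fun p q => by
        split_ifs <;> simp_all
      simp only [this, ← mul_sum, ← sum_mul, sum_boole]
      simp [filter_mem_eq_inter]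
    have : ∑ u ∈ R, x u ^ 2 = 240 := by
      rw [sum_congr rfl (fun u _ => e u), sum_comm]
      have : ∀ p ∈ b, (∑ u ∈ R, ∑ q ∈ b,
          if p ∈ com G v₀ u ∧ q ∈ com G v₀ u then 1 else 0) = 40 := by
        intro p hp
        rw [sum_comm, ← add_sum_erase b _ hp]
        rw [sum_congr rfl (fun q hq => (sum_boole _ _).trans
          (h2 p hp q (mem_of_mem_erase hq) (ne_of_mem_erase hq).symm)), sum_const,
          card_erase_of_mem hp, hb6]
        simp only [and_self, sum_boole, h1 p hp, Nat.cast_id, smul_eq_mul]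
      rw [sum_congr rfl this, sum_const, hb6]
      rfl
    exact_mod_cast this
  have hz : ∑ u ∈ R, ((x u : ℤ) - 2) ^ 2 = 0 := by
    simp only [sub_sq, sum_add_distrib, sum_sub_distrib, ← sum_mul, ← mul_sum, hs1, hs2, sum_const,
      hRc]
    norm_num
  have := (sum_eq_zero_iff_of_nonneg (fun u _ => sq_nonneg _)).1 hz w'
    (by simp [hR, hw', hne, h])
  have h3 : (x w' : ℤ) = 2 := by nlinarith
  exact_mod_cast h3

end

/-- Graph isomorphism to the point-block graph of a Steiner system S(3, 6, 22). -/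
theorem exists_steiner {V : Type*} [Fintype V] {G : SimpleGraph V} [DecidableRel G.Adj]
    (hG : G.IsSRGWith 100 22 0 6) :
    ∃ (v₀ : V) (B : Set (Finset {u // G.Adj v₀ u})),
      Fintype.card {u // G.Adj v₀ u} = 22 ∧ Cfsg.IsSteinerSystem 3 6 B ∧
      Nonempty (Cfsg.pointBlockGraph B ≃g G) := by
  classical
  have hne : Nonempty V := by
    rw [← Fintype.card_pos_iff, hG.card]; norm_num
  obtain ⟨v₀⟩ := hne
  let blk : V → Finset {u // G.Adj v₀ u} := fun w => (com G v₀ w).subtype _
  have hmem : ∀ w (p : {u // G.Adj v₀ u}), p ∈ blk w ↔ G.Adj w p := fun w p => by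
    simp [blk, mem_com, p.2]
  have hcard : ∀ w ∈ far G v₀, (blk w).card = 6 := fun w hw => by
    rw [card_subtype, filter_true_of_mem (fun x hx => (mem_com.1 hx).1), card_blk hG v₀ hw]
  have hint : ∀ w ∈ far G v₀, ∀ w' ∈ far G v₀, w' ≠ w →
      (blk w ∩ blk w').card = if G.Adj w w' then 0 else 2 := by
    intro w hw w' hw' hne
    rw [← inter_blk hG v₀ hw hw' hne, ← card_map ⟨Subtype.val, Subtype.val_injective⟩]
    congr 1
    ext u
    simp only [mem_map, mem_inter, hmem, mem_com, Function.Embedding.coeFn_mk, Subtype.exists,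
      exists_and_right, exists_eq_right]
    tauto
  have hP : Fintype.card {u // G.Adj v₀ u} = 22 := by
    rw [Fintype.card_subtype, card_nbr hG]
  let B : Set (Finset {u // G.Adj v₀ u}) := blk '' (far G v₀ : Set V)
  have huniq : ∀ s : Finset {u // G.Adj v₀ u}, s.card = 3 → ∀ w ∈ far G v₀, ∀ w' ∈ far G v₀,
      s ⊆ blk w → s ⊆ blk w' → w = w' := by
    intro s hs w hw w' hw' h h'
    by_contra hne
    have := card_le_card (subset_inter h h')
    rw [hs, hint w hw w' hw' (Ne.symm hne)] at this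
    split_ifs at this <;> omega
  have hinj : ∀ w ∈ far G v₀, ∀ w' ∈ far G v₀, blk w = blk w' → w = w' := by
    intro w hw w' hw' h
    obtain ⟨s, hs, hs'⟩ := exists_subset_card_eq (s := blk w) (n := 3) (by rw [hcard w hw]; norm_num)
    exact huniq s hs' w hw w' hw' hs (h ▸ hs)
  have hcov : ∀ s : Finset {u // G.Adj v₀ u}, s.card = 3 → ∃ w ∈ far G v₀, s ⊆ blk w := by
    intro s hs
    have hu : (far G v₀).biUnion (fun w => (blk w).powersetCard 3) = univ.powersetCard 3 := by
      refine eq_of_subset_of_card_le (fun t ht => ?_) ?_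
      · obtain ⟨w, -, ht⟩ := mem_biUnion.1 ht
        exact mem_powersetCard.2 ⟨subset_univ _, (mem_powersetCard.1 ht).2⟩
      · rw [card_powersetCard, card_univ, hP, card_biUnion]
        · rw [sum_congr rfl (fun w hw => by rw [card_powersetCard, hcard w hw]), sum_const,
            card_far hG]
          decide
        · intro w hw w' hw' hne
          rw [Function.onFun, Finset.disjoint_left]
          intro t ht ht'
          rw [mem_powersetCard] at ht ht'
          exact hne (huniq t ht.2 w hw w' hw' ht.1 ht'.1)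
    have : s ∈ (far G v₀).biUnion (fun w => (blk w).powersetCard 3) := by
      rw [hu]; exact mem_powersetCard.2 ⟨subset_univ _, hs⟩
    obtain ⟨w, hw, h⟩ := mem_biUnion.1 this
    exact ⟨w, hw, (mem_powersetCard.1 h).1⟩
  have hB : Cfsg.IsSteinerSystem 3 6 B := by
    refine ⟨?_, fun s hs => ?_⟩
    · rintro b ⟨w, hw, rfl⟩
      exact hcard w hw
    · obtain ⟨w, hw, h⟩ := hcov s hs
      refine ⟨blk w, ⟨⟨w, hw, rfl⟩, h⟩, ?_⟩
      rintro b ⟨⟨w', hw', rfl⟩, h'⟩
      rw [huniq s hs w hw w' hw' h h']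
  let f : Option ({u // G.Adj v₀ u} ⊕ B) → V
    | none => v₀
    | some (Sum.inl p) => p
    | some (Sum.inr b) => b.2.choose
  have hb : ∀ b : B, f (some (Sum.inr b)) ∈ far G v₀ ∧ blk (f (some (Sum.inr b))) = b.1 :=
    fun b => ⟨b.2.choose_spec.1, b.2.choose_spec.2⟩
  have hbij : Function.Bijective f := by
    constructor
    · rintro (_ | p | b) (_ | q | c) h
      · rfl
      · exact absurd q.2 (fun t => t.ne h)
      · exact absurd h.symm ((mem_far v₀).1 (hb c).1).1
      · exact absurd p.2 (fun t => t.ne h.symm)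
      · exact congrArg (fun x => some (Sum.inl x)) (Subtype.ext h)
      · exact absurd p.2 (by
          have := ((mem_far v₀).1 (hb c).1).2
          rwa [← h] at this)
      · exact absurd h ((mem_far v₀).1 (hb b).1).1
      · exact absurd q.2 (by
          have := ((mem_far v₀).1 (hb b).1).2
          rwa [h] at this)
      · exact congrArg (fun x => some (Sum.inr x))
          (Subtype.ext ((hb b).2.symm.trans ((congrArg blk h).trans (hb c).2)))
    · intro u
      by_cases h1 : u = v₀
      · exact ⟨none, h1.symm⟩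
      by_cases h2 : G.Adj v₀ u
      · exact ⟨some (Sum.inl ⟨u, h2⟩), rfl⟩
      have hu : u ∈ far G v₀ := (mem_far v₀).2 ⟨h1, h2⟩
      refine ⟨some (Sum.inr ⟨blk u, u, hu, rfl⟩), ?_⟩
      exact hinj _ (hb _).1 u hu (hb ⟨blk u, u, hu, rfl⟩).2
  refine ⟨v₀, B, hP, hB, ⟨⟨Equiv.ofBijective f hbij, fun {x y} => ?_⟩⟩⟩
  show G.Adj (f x) (f y) ↔ _
  have hbp : ∀ (b : B) (p : {u // G.Adj v₀ u}),
      G.Adj (f (some (Sum.inr b))) p ↔ p ∈ b.1 := fun b p => by rw [← hmem, (hb b).2]
  have hbc : ∀ b c : B, G.Adj (f (some (Sum.inr b))) (f (some (Sum.inr c))) ↔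
      b ≠ c ∧ Disjoint b.1 c.1 := by
    intro b c
    by_cases e : b = c
    · subst e; simp
    have hne : f (some (Sum.inr c)) ≠ f (some (Sum.inr b)) := fun t => by
      simpa using e (Sum.inr.inj (Option.some.inj (hbij.1 t))).symm
    have := hint _ (hb b).1 _ (hb c).1 hne
    rw [(hb b).2, (hb c).2] at this
    simp only [ne_eq, e, not_false_eq_true, true_and, disjoint_iff_inter_eq_empty]
    rw [← card_eq_zero, this]
    split_ifs with h <;> simp [h]
  rcases x with _ | p | b <;> rcases y with _ | q | c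
  · simp [Cfsg.pointBlockGraph, SimpleGraph.fromRel_adj]
  · simpa [Cfsg.pointBlockGraph, SimpleGraph.fromRel_adj, Cfsg.pointBlockRel, f] using q.2
  · simpa [Cfsg.pointBlockGraph, SimpleGraph.fromRel_adj, Cfsg.pointBlockRel] using
      ((mem_far v₀).1 (hb c).1).2
  · simpa [Cfsg.pointBlockGraph, SimpleGraph.fromRel_adj, Cfsg.pointBlockRel, f] using p.2.symm
  · simpa [Cfsg.pointBlockGraph, SimpleGraph.fromRel_adj, Cfsg.pointBlockRel, f] using
      not_adj_of_common hG p.2 q.2
  · rw [G.adj_comm]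
    simpa [Cfsg.pointBlockGraph, SimpleGraph.fromRel_adj, Cfsg.pointBlockRel] using hbp c p
  · simpa [Cfsg.pointBlockGraph, SimpleGraph.fromRel_adj, Cfsg.pointBlockRel] using
      fun t : G.Adj (f (some (Sum.inr b))) v₀ => ((mem_far v₀).1 (hb b).1).2 t.symm
  · simpa [Cfsg.pointBlockGraph, SimpleGraph.fromRel_adj, Cfsg.pointBlockRel] using hbp b q
  · simp only [hbc, Cfsg.pointBlockGraph, SimpleGraph.fromRel_adj, Cfsg.pointBlockRel, ne_eq,
      Option.some.injEq, Sum.inr.injEq, disjoint_comm (a := c.1), or_self]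

/-- An isomorphism of set systems gives one of the point-block graphs. -/
theorem graph_iso {α β : Type*} [DecidableEq β] {B : Set (Finset α)} {B' : Set (Finset β)}
    (h : Cfsg.SetSystemIso B B') :
    Nonempty (Cfsg.pointBlockGraph B ≃g Cfsg.pointBlockGraph B') := by
  obtain ⟨e, he⟩ := h
  let eB : B ≃ B' := Equiv.ofBijective (fun b => ⟨b.1.image e, he ▸ ⟨b.1, b.2, rfl⟩⟩)
    ⟨fun b c h => Subtype.ext (Finset.image_injective e.injective (congrArg Subtype.val h)),
     fun c => by
      obtain ⟨b, hb, hbc⟩ := (Set.ext_iff.1 he c.1).2 c.2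
      exact ⟨⟨b, hb⟩, Subtype.ext hbc⟩⟩
  have hval : ∀ b : B, (eB b : Finset β) = b.1.image e := fun b => rfl
  refine ⟨⟨(Equiv.sumCongr e eB).optionCongr, fun {x y} => ?_⟩⟩
  rcases x with _ | p | b <;> rcases y with _ | q | c <;>
    simp [Cfsg.pointBlockGraph, SimpleGraph.fromRel_adj, Cfsg.pointBlockRel, hval,
      Finset.disjoint_image e.injective]


/-- Uniqueness of the strongly regular graph with parameters (100, 22, 0, 6). -/
theorem result {V W : Type*} [Fintype V] [Fintype W] {G : SimpleGraph V} {H : SimpleGraph W} [DecidableRel G.Adj] [DecidableRel H.Adj] (hG : G.IsSRGWith 100 22 0 6) (hH : H.IsSRGWith 100 22 0 6) : Nonempty (G ≃g H) := by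
  classical
  obtain ⟨v, B, hα, hB, ⟨i⟩⟩ := exists_steiner hG
  obtain ⟨w, B', hβ, hB', ⟨j⟩⟩ := exists_steiner hH
  obtain ⟨k⟩ := graph_iso (Cfsg.Agent.Golay.steiner_3_6_22_iso hα hβ hB hB')
  exact ⟨(i.symm.trans k).trans j⟩

end Cfsg.Agent.S0430
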