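import Cfsg.Statements.S1666
import Cfsg.Agent.S0430
import Cfsg.Agent.Lib.Leech.HSGraph
import Cfsg.Agent.Lib.Golay.DesignTwoTwoAut
import Cfsg.Agent.Lib.Golay.M22Aut

set_option autoImplicit false
open Cfsg

namespace Cfsg.Agent.S1666

open MulAction

/-- The orbital graph of a self-paired orbit. -/
def orbitalGraph {Ω : Type*} (G : Subgroup (Equiv.Perm Ω)) (a b : Ω) : SimpleGraph Ω :=
  SimpleGraph.fromRel fun x y => ∃ g : G, g • a = x ∧ g • b = y

section

variable {Ω : Type*} [Fintype Ω] [DecidableEq Ω] {G : Subgroup (Equiv.Perm Ω)} {a b c : Ω}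

/-- The three orbits of the stabiliser of `a`. -/
theorem orbit_cases (hΩ : Fintype.card Ω = 100)
    (hb : (orbit (stabilizer G a) b).ncard = 22) (hc : (orbit (stabilizer G a) c).ncard = 77)
    (y : Ω) : y = a ∨ y ∈ orbit (stabilizer G a) b ∨ y ∈ orbit (stabilizer G a) c := by
  classical
  have ha : orbit (stabilizer G a) a = {a} := by
    ext x
    simp only [mem_orbit_iff, Set.mem_singleton_iff]
    exact ⟨fun ⟨g, hg⟩ => hg.symm.trans g.2, fun h => ⟨1, by rw [one_smul, h]⟩⟩
  have hab : a ∉ orbit (stabilizer G a) b := fun h => by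
    have := orbit_eq_iff.mpr h
    rw [ha] at this
    rw [← this, Set.ncard_singleton] at hb
    norm_num at hb
  have hac : a ∉ orbit (stabilizer G a) c := fun h => by
    have := orbit_eq_iff.mpr h
    rw [ha] at this
    rw [← this, Set.ncard_singleton] at hc
    norm_num at hc
  have hbc : Disjoint (orbit (stabilizer G a) b) (orbit (stabilizer G a) c) :=
    Set.disjoint_left.mpr fun x hx hx' => by
      rw [← orbit_eq_iff.mpr hx, orbit_eq_iff.mpr hx', hc] at hb
      norm_num at hb
  have hU : (insert a (orbit (stabilizer G a) b ∪ orbit (stabilizer G a) c) : Set Ω) = Set.univ := by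
    refine Set.eq_of_subset_of_ncard_le (Set.subset_univ _) ?_
    rw [Set.ncard_insert_of_notMem (by simp [hab, hac]), Set.ncard_union_eq hbc, hb, hc,
      Set.ncard_univ, Nat.card_eq_fintype_card, hΩ]
  have := hU ▸ Set.mem_univ y
  simpa using this

/-- Two transitivity of the stabiliser on the orbit of length 22. -/
theorem exists_fix_map (e : stabilizer G a ≃* Cfsg.Spor.M22)
    (hb : (orbit (stabilizer G a) b).ncard = 22) {y y' : Ω}
    (hy : y ∈ orbit (stabilizer G a) b) (hy' : y' ∈ orbit (stabilizer G a) b)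
    (hne : y ≠ b) (hne' : y' ≠ b) : ∃ k : stabilizer G a, k • b = b ∧ k • y = y' := by
  classical
  let H : Subgroup ↥Cfsg.Spor.M22 := (stabilizer (stabilizer G a) b).map e.toMonoidHom
  have hHcard : Nat.card H = 20160 := by
    have h1 : Nat.card H = Nat.card (stabilizer (stabilizer G a) b) :=
      (Nat.card_congr (Subgroup.equivMapOfInjective _ e.toMonoidHom e.injective).toEquiv).symm
    have h2 := (stabilizer (stabilizer G a) b).index_mul_card
    rw [index_stabilizer, hb, ← h1, Nat.card_congr e.toEquiv,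
      show Nat.card ↥Cfsg.Spor.M22 = 443520 from Golay.natCard_m22 (Option.some_ne_none 0).symm]
      at h2
    omega
  obtain ⟨d, hda, hdb, hH⟩ := Golay.exists_eq_stabilizer_M22 hHcard
  have key : ∀ k : stabilizer G a, k • b = b ↔ e k • d = d := fun k => by
    rw [← mem_stabilizer_iff (G := ↥Cfsg.Spor.M22), ← hH, Subgroup.mem_map_equiv,
      e.symm_apply_apply, mem_stabilizer_iff]
  obtain ⟨g, rfl⟩ := hy
  obtain ⟨h, rfl⟩ := hy'
  have hfix : ∀ (k : ↥Cfsg.Spor.M22), k • (none : GolayPt) = none ∧
      k • (some 0 : GolayPt) = some 0 := fun k =>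
    ⟨(Golay.apply_M22 k).1, (Golay.apply_M22 k).2.1⟩
  have hgd : (e g : Equiv.Perm GolayPt) d ≠ d := fun he => hne ((key g).mpr he)
  have hhd : (e h : Equiv.Perm GolayPt) d ≠ d := fun he => hne' ((key h).mpr he)
  have hp : ∀ k : ↥Cfsg.Spor.M22, (k : Equiv.Perm GolayPt) d ≠ none ∧
      (k : Equiv.Perm GolayPt) d ≠ some 0 := fun k =>
    ⟨fun he => hda ((k : Equiv.Perm GolayPt).injective (he.trans (hfix k).1.symm)),
      fun he => hdb ((k : Equiv.Perm GolayPt).injective (he.trans (hfix k).2.symm))⟩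
  obtain ⟨m, hm, m1, m2, m3, m4⟩ := Golay.exists_map_four
    (a := none) (b := some 0) (c := d) (d := (e g : Equiv.Perm GolayPt) d)
    (a' := none) (b' := some 0) (c' := d) (d' := (e h : Equiv.Perm GolayPt) d)
    (by simp [hda.symm, hdb.symm, (hp (e g)).1.symm, (hp (e g)).2.symm, hgd.symm])
    (by simp [hda.symm, hdb.symm, (hp (e h)).1.symm, (hp (e h)).2.symm, hhd.symm])
  let mm : ↥Cfsg.Spor.M22 := ⟨m, ⟨hm, m1⟩, m2⟩
  refine ⟨e.symm mm, (key _).mpr (by rw [e.apply_symm_apply]; exact m3), ?_⟩
  have h1 : (h⁻¹ * (e.symm mm * g)) • b = b := by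
    refine (key _).mpr ?_
    rw [map_mul, map_mul, map_inv, e.apply_symm_apply, mul_smul, inv_smul_eq_iff, mul_smul]
    exact m4
  rw [mul_smul, inv_smul_eq_iff, mul_smul] at h1
  exact h1

end

/-- A rank three group as in the statement gives the Higman-Sims graph. -/
theorem exists_graph {Ω : Type*} [Fintype Ω] [DecidableEq Ω] (hΩ : Fintype.card Ω = 100)
    (G : Subgroup (Equiv.Perm Ω)) [IsPretransitive G Ω] (a : Ω)
    (e : stabilizer G a ≃* Cfsg.Spor.M22) (b c : Ω)
    (hb : (orbit (stabilizer G a) b).ncard = 22) (hc : (orbit (stabilizer G a) c).ncard = 77) :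
    ∃ (Γ : SimpleGraph Ω) (_ : DecidableRel Γ.Adj), Γ.IsSRGWith 100 22 0 6 ∧
      ∀ (g : G) (x y : Ω), Γ.Adj (g • x) (g • y) ↔ Γ.Adj x y := by
  classical
  have hba : b ≠ a := fun he => by
    subst he
    have : orbit (stabilizer G b) b = {b} := by
      ext x
      simp only [mem_orbit_iff, Set.mem_singleton_iff]
      exact ⟨fun ⟨g, hg⟩ => hg.symm.trans g.2, fun h => ⟨1, by rw [one_smul, h]⟩⟩
    rw [this, Set.ncard_singleton] at hb
    norm_num at hb
  let R : Ω → Ω → Prop := fun x y => ∃ g : G, g • a = x ∧ g • b = y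
  have hR : ∀ (g : G) (x y : Ω), R x y → R (g • x) (g • y) := by
    rintro g x y ⟨k, rfl, rfl⟩
    exact ⟨g * k, mul_smul _ _ _, mul_smul _ _ _⟩
  have hRa : ∀ y, R a y ↔ y ∈ orbit (stabilizer G a) b := fun y => by
    rw [mem_orbit_iff]
    exact ⟨fun ⟨g, h1, h2⟩ => ⟨⟨g, h1⟩, h2⟩, fun ⟨g, h2⟩ => ⟨g.1, g.2, h2⟩⟩
  -- the orbital is self-paired
  have hsymm : R b a := by
    obtain ⟨t, ht⟩ := exists_smul_eq G a b
    have hu : (orbit (stabilizer G a) (t⁻¹ • a)).ncard = 22 := by
      let φ : stabilizer (stabilizer G a) b ≃ stabilizer (stabilizer G a) (t⁻¹ • a) :=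
        { toFun := fun k => ⟨⟨t⁻¹ * k.1.1 * t, by
              rw [mem_stabilizer_iff, mul_smul, mul_smul, ht]
              rw [show k.1.1 • b = b from k.2, inv_smul_eq_iff, ht]⟩, by
              rw [mem_stabilizer_iff]
              show (t⁻¹ * k.1.1 * t) • t⁻¹ • a = t⁻¹ • a
              rw [← mul_smul, mul_assoc, mul_inv_cancel, mul_one, mul_smul,
                show k.1.1 • a = a from k.1.2]⟩
          invFun := fun k => ⟨⟨t * k.1.1 * t⁻¹, by
              rw [mem_stabilizer_iff, mul_smul, mul_smul,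
                show k.1.1 • t⁻¹ • a = t⁻¹ • a from k.2, smul_inv_smul]⟩, by
              rw [mem_stabilizer_iff]
              show (t * k.1.1 * t⁻¹) • b = b
              rw [← ht, ← mul_smul, mul_assoc, inv_mul_cancel, mul_one, mul_smul,
                show k.1.1 • a = a from k.1.2]⟩
          left_inv := fun k => Subtype.ext (Subtype.ext (by
            show t * (t⁻¹ * k.1.1 * t) * t⁻¹ = k.1.1
            group))
          right_inv := fun k => Subtype.ext (Subtype.ext (by
            show t⁻¹ * (t * k.1.1 * t⁻¹) * t = k.1.1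
            group)) }
      have h1 := (stabilizer (stabilizer G a) b).index_mul_card
      have h2 := (stabilizer (stabilizer G a) (t⁻¹ • a)).index_mul_card
      rw [index_stabilizer, hb, Nat.card_congr φ] at h1
      rw [index_stabilizer, ← h1] at h2
      exact Nat.eq_of_mul_eq_mul_right Nat.card_pos h2
    have hmem : t⁻¹ • a ∈ orbit (stabilizer G a) b := by
      rcases orbit_cases hΩ hb hc (t⁻¹ • a) with h | h | h
      · rw [inv_smul_eq_iff, ht] at h
        exact absurd h.symm hba
      · exact h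
      · rw [orbit_eq_iff.mpr h, hc] at hu
        norm_num at hu
    have := hR t _ _ ((hRa _).mpr hmem)
    rwa [ht, smul_inv_smul] at this
  let Γ : SimpleGraph Ω := orbitalGraph G a b
  have hAdj : ∀ x y, Γ.Adj x y ↔ R x y := by
    intro x y
    show x ≠ y ∧ (R x y ∨ R y x) ↔ R x y
    refine ⟨fun h => h.2.elim id fun ⟨g, h1, h2⟩ => ?_, fun h => ⟨?_, Or.inl h⟩⟩
    · have := hR g _ _ hsymm
      rwa [h1, h2] at this
    · obtain ⟨g, h1, h2⟩ := h
      intro he
      exact hba (smul_left_cancel g (h2.trans (he.symm.trans h1.symm)))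
  have hinv : ∀ (g : G) (x y : Ω), Γ.Adj (g • x) (g • y) ↔ Γ.Adj x y := fun g x y => by
    rw [hAdj, hAdj]
    refine ⟨fun h => ?_, hR g x y⟩
    have := hR g⁻¹ _ _ h
    rwa [inv_smul_smul, inv_smul_smul] at this
  let N : Ω → Finset Ω := fun x => Finset.univ.filter fun y => Γ.Adj x y
  have hN : ∀ x y, y ∈ N x ↔ Γ.Adj x y := fun x y => by simp [N]
  have hNg : ∀ (g : G) (x : Ω), N (g • x) = (N x).image (g • ·) := fun g x => by
    ext y
    rw [Finset.mem_image, hN]
    refine ⟨fun h => ⟨g⁻¹ • y, ?_, smul_inv_smul g y⟩, ?_⟩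
    · rw [hN, ← hinv g, smul_inv_smul]
      exact h
    · rintro ⟨z, hz, rfl⟩
      exact (hinv g x z).mpr ((hN x z).mp hz)
  have hNa : ∀ y, y ∈ N a ↔ y ∈ orbit (stabilizer G a) b := fun y => by
    rw [hN, hAdj, hRa]
  have hdeg : ∀ x, (N x).card = 22 := fun x => by
    obtain ⟨g, rfl⟩ := exists_smul_eq G a x
    rw [hNg, Finset.card_image_of_injective _ (MulAction.injective g), ← Set.ncard_coe_finset,
      show ((N a : Finset Ω) : Set Ω) = orbit (stabilizer G a) b from Set.ext hNa, hb]
  have hab : Γ.Adj a b := (hAdj a b).mpr ((hRa b).mpr (mem_orbit_self b))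
  -- no triangles
  have hlam : ∀ y, Γ.Adj a y → ¬ Γ.Adj b y := by
    intro y hy hby
    have hyb : y ≠ b := fun he => Γ.irrefl (he ▸ hby)
    have hall : ∀ y', Γ.Adj a y' → y' ≠ b → Γ.Adj b y' := by
      intro y' hy' hne
      obtain ⟨k, hk1, hk2⟩ := exists_fix_map e hb ((hNa y).mp ((hN a y).mpr hy))
        ((hNa y').mp ((hN a y').mpr hy')) hyb hne
      have := (hinv k.1 b y).mpr hby
      rwa [show k.1 • b = b from hk1, show k.1 • y = y' from hk2] at this
    have hNb : N b = insert a ((N a).erase b) := by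
      refine (Finset.eq_of_subset_of_card_le (fun z hz => ?_) ?_).symm
      · rw [hN]
        rcases Finset.mem_insert.mp hz with rfl | hz
        · exact hab.symm
        · obtain ⟨h1, h2⟩ := Finset.mem_erase.mp hz
          exact hall z ((hN a z).mp h2) h1
      · rw [hdeg, Finset.card_insert_of_notMem (fun h => Γ.irrefl ((hN a a).mp
          (Finset.mem_of_mem_erase h))), Finset.card_erase_of_mem ((hN a b).mpr hab), hdeg]
    have hclose : insert b (N b) = insert a (N a) := by
      rw [hNb, Finset.insert_comm, Finset.insert_erase ((hN a b).mpr hab)]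
    have hclosea : ∀ z, Γ.Adj a z → insert z (N z) = insert a (N a) := by
      intro z hz
      obtain ⟨k, hk⟩ := (hNa z).mp ((hN a z).mpr hz)
      have hk' : k.1 • b = z := hk
      have h := congrArg (Finset.image (k.1 • ·)) hclose
      rwa [Finset.image_insert, Finset.image_insert, ← hNg, ← hNg, hk',
        show k.1 • a = a from k.2] at h
    have hblock : ∀ x z, Γ.Adj x z → insert z (N z) = insert x (N x) := by
      intro x z hxz
      obtain ⟨g, rfl⟩ := exists_smul_eq G a x
      obtain ⟨z, rfl⟩ : ∃ w, g • w = z := ⟨g⁻¹ • z, smul_inv_smul g z⟩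
      have h := congrArg (Finset.image (g • ·)) (hclosea z ((hinv g a z).mp hxz))
      rwa [Finset.image_insert, Finset.image_insert, ← hNg, ← hNg] at h
    have hfib : ∀ s ∈ Finset.univ.image (fun x => insert x (N x)),
        (Finset.univ.filter fun x => insert x (N x) = s).card = 23 := by
      intro s hs
      obtain ⟨x, -, rfl⟩ := Finset.mem_image.mp hs
      have : (Finset.univ.filter fun z => insert z (N z) = insert x (N x)) = insert x (N x) := by
        ext z
        simp only [Finset.mem_filter, Finset.mem_univ, true_and]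
        refine ⟨fun h => h ▸ Finset.mem_insert_self z _, fun h => ?_⟩
        rcases Finset.mem_insert.mp h with rfl | h
        · rfl
        · exact hblock x z ((hN x z).mp h)
      rw [this, Finset.card_insert_of_notMem (fun h => Γ.irrefl ((hN x x).mp h)), hdeg]
    have := Finset.card_eq_sum_card_image (fun x => insert x (N x)) (Finset.univ : Finset Ω)
    rw [Finset.sum_congr rfl hfib, Finset.sum_const, Finset.card_univ, hΩ, smul_eq_mul] at this
    omega
  have hlam0 : ∀ x y, Γ.Adj x y → Disjoint (N x) (N y) := by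
    intro x y hxy
    obtain ⟨g, h1, h2⟩ := (hAdj x y).mp hxy
    subst h1 h2
    rw [Finset.disjoint_left]
    intro z hz hz'
    obtain ⟨w, rfl⟩ : ∃ w, g • w = z := ⟨g⁻¹ • z, smul_inv_smul g z⟩
    exact hlam w ((hinv g a w).mp ((hN _ _).mp hz)) ((hinv g b w).mp ((hN _ _).mp hz'))
  -- six common neighbours
  have hcoa : ∀ z ∈ orbit (stabilizer G a) c, z ≠ a ∧ ¬ Γ.Adj a z := by
    intro z hz
    refine ⟨fun he => ?_, fun h => ?_⟩
    · subst he
      have := orbit_eq_iff.mpr hz
      rw [← this] at hc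
      have hs : orbit (stabilizer G z) z = {z} := by
        ext x
        simp only [mem_orbit_iff, Set.mem_singleton_iff]
        exact ⟨fun ⟨g, hg⟩ => hg.symm.trans g.2, fun h => ⟨1, by rw [one_smul, h]⟩⟩
      rw [hs, Set.ncard_singleton] at hc
      norm_num at hc
    · rw [← orbit_eq_iff.mpr hz, orbit_eq_iff.mpr ((hNa z).mp ((hN a z).mpr h)), hb] at hc
      norm_num at hc
  have hmu : ∀ z ∈ orbit (stabilizer G a) c, (N a ∩ N z).card = 6 := by
    have hconst : ∀ z ∈ orbit (stabilizer G a) c, (N a ∩ N z).card = (N a ∩ N c).card := by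
      rintro _ ⟨k, rfl⟩
      show (N a ∩ N (k.1 • c)).card = _
      have e1 : N a ∩ N (k.1 • c) = (N a ∩ N c).image (k.1 • ·) := by
        rw [Finset.image_inter _ _ (MulAction.injective k.1), ← hNg, ← hNg,
          show k.1 • a = a from k.2]
      rw [e1, Finset.card_image_of_injective _ (MulAction.injective k.1)]
    let F : Finset Ω := Finset.univ.filter fun z => z ∈ orbit (stabilizer G a) c
    have hF : F.card = 77 := by
      rw [← hc, ← Set.ncard_coe_finset]
      congr 1
      ext z
      simp [F]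
    have hy : ∀ y ∈ N a, (N y ∩ F).card = 21 := by
      intro y hy
      have : N y ∩ F = (N y).erase a := by
        ext z
        simp only [Finset.mem_inter, Finset.mem_erase, F, Finset.mem_filter, Finset.mem_univ,
          true_and]
        refine ⟨fun ⟨h1, h2⟩ => ⟨(hcoa z h2).1, h1⟩, fun ⟨h1, h2⟩ => ⟨h2, ?_⟩⟩
        rcases orbit_cases hΩ hb hc z with h | h | h
        · exact absurd h h1
        · exact absurd h2 (Finset.disjoint_left.mp (hlam0 a y ((hN a y).mp hy))
            ((hNa z).mpr h))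
        · exact h
      rw [this, Finset.card_erase_of_mem ((hN y a).mpr ((hN a y).mp hy).symm), hdeg]
    have hcount : ∑ y ∈ N a, (N y ∩ F).card = ∑ z ∈ F, (N a ∩ N z).card := by
      have e1 : ∀ y, (N y ∩ F).card = ∑ z ∈ F, if Γ.Adj y z then 1 else 0 := fun y => by
        rw [← Finset.card_filter]
        congr 1
        ext z
        simp [N, and_comm]
      have e2 : ∀ z, (N a ∩ N z).card = ∑ y ∈ N a, if Γ.Adj y z then 1 else 0 := fun z => by
        rw [← Finset.card_filter]
        congr 1
        ext y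
        simp [N, Γ.adj_comm y z]
      simp only [e1, e2]
      exact Finset.sum_comm
    rw [Finset.sum_congr rfl hy, Finset.sum_const,
      Finset.sum_congr rfl (fun z hz => hconst z (Finset.mem_filter.mp hz).2), Finset.sum_const,
      hF, hdeg, smul_eq_mul, smul_eq_mul] at hcount
    intro z hz
    rw [hconst z hz]
    omega
  have hcom : ∀ x y, Fintype.card ↥(Γ.commonNeighbors x y) = (N x ∩ N y).card := fun x y =>
    Fintype.card_of_subtype _ fun z => by simp [N, SimpleGraph.mem_commonNeighbors]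
  refine ⟨Γ, inferInstance, ⟨hΩ, fun x => ?_, fun x y h => ?_, fun x y hne h => ?_⟩, hinv⟩
  · rw [← hdeg x, ← SimpleGraph.card_neighborFinset_eq_degree]
    congr 1
    ext z
    simp [N]
  · rw [hcom, Finset.disjoint_iff_inter_eq_empty.mp (hlam0 x y h), Finset.card_empty]
  · rw [hcom]
    obtain ⟨g, rfl⟩ := exists_smul_eq G a x
    obtain ⟨z, rfl⟩ : ∃ w, g • w = y := ⟨g⁻¹ • y, smul_inv_smul g y⟩
    rw [hNg, hNg, ← Finset.image_inter _ _ (MulAction.injective g),
      Finset.card_image_of_injective _ (MulAction.injective g)]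
    rcases orbit_cases hΩ hb hc z with hz | hz | hz
    · exact absurd (by rw [hz]) hne
    · exact absurd ((hinv g a z).mpr ((hN a z).mp ((hNa z).mpr hz))) h
    · exact hmu z hz

/-- The Higman-Sims group is the stabiliser of the normal configuration. -/
theorem hs_iso : Nonempty (↥Cfsg.Spor.HS ≃* ↥Leech.hsGroup) := by
  have e1 : Nonempty (↥Cfsg.Spor.HS ≃*
      ↥(stabilizer Cfsg.Co0 Cfsg.Spor.leechV ⊓ stabilizer Cfsg.Co0 (-Cfsg.Spor.leechU'))) := by
    have hiff : ∀ g : Cfsg.Co0, g • (-Cfsg.Spor.leechU') = -Cfsg.Spor.leechU' ↔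
        g • Cfsg.Spor.leechU' = Cfsg.Spor.leechU' := fun g => by
      rw [Leech.smul_vneg, neg_inj]
    exact ⟨{ toFun := fun g => ⟨⟨g.1, g.2.1.1⟩, g.2.1.2, (hiff ⟨g.1, g.2.1.1⟩).mpr g.2.2⟩
             invFun := fun g => ⟨g.1.1, ⟨g.1.2, g.2.1⟩, (hiff g.1).mp g.2.2⟩
             left_inv := fun _ => rfl
             right_inv := fun _ => rfl
             map_mul' := fun _ _ => rfl }⟩
  obtain ⟨e1⟩ := e1
  obtain ⟨g, g1, g2⟩ := Leech.exists_normal_hs
    (v := Cfsg.Spor.leechV) (z := -Cfsg.Spor.leechU')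
    (by decide +kernel) (by decide +kernel) (by decide +kernel)
  obtain ⟨e2⟩ := Leech.smul_stabilizer_pair g1 g2
  exact ⟨e1.trans e2⟩

/-- Recognition of the Higman–Sims group as a rank 3 permutation group: a transitive permutation group on 100 points in which the stabiliser of a point is isomorphic to the Mathieu group M₂₂ and has two further orbits, of sizes 22 and 77, is isomorphic to the Higman–Sims group. -/
theorem result {Ω : Type*} [Fintype Ω] [DecidableEq Ω] (hΩ : Fintype.card Ω = 100) (G : Subgroup (Equiv.Perm Ω)) [MulAction.IsPretransitive G Ω] (a : Ω)  (e : MulAction.stabilizer G a ≃* Cfsg.Spor.M22) (b c : Ω) (hb : (MulAction.orbit (MulAction.stabilizer G a) b).ncard = 22) (hc : (MulAction.orbit (MulAction.stabilizer G a) c).ncard = 77) : Cfsg.Spor.IsoHS G := by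
  classical
  obtain ⟨Γ, hdec, hsrg, hinv⟩ := exists_graph hΩ G a e b c hb hc
  obtain ⟨v₀, B, hα, hB, ⟨i⟩⟩ := S0430.exists_steiner hsrg
  obtain ⟨j, -⟩ := Leech.exists_hsGraph_iso hα hB
  let τ := Leech.autGraphEquiv (i.symm.trans j)
  let θ : ↥G →* (Γ ≃g Γ) :=
    { toFun := fun g =>
        { toEquiv := (g : Equiv.Perm Ω)
          map_rel_iff' := fun {x y} => hinv g x y }
      map_one' := RelIso.ext fun _ => rfl
      map_mul' := fun _ _ => RelIso.ext fun _ => rfl }
  have hθ : Function.Injective θ := fun g g' h =>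
    Subtype.ext (Equiv.ext fun x => DFunLike.congr_fun h x)
  let φ : ↥G →* (Leech.hsGraph ≃g Leech.hsGraph) := τ.toMonoidHom.comp θ
  have hφ : Function.Injective φ := τ.injective.comp hθ
  have hA : Nat.card (Leech.hsGraph ≃g Leech.hsGraph) = 88704000 := by
    rw [← Nat.card_congr (Leech.autGraphEquiv j).toEquiv, Leech.natCard_aut_graph hα hB,
      (Agent.Golay.aut22_main hα hB).1]
  have : Finite (Leech.hsGraph ≃g Leech.hsGraph) :=
    Nat.finite_of_card_ne_zero (by rw [hA]; norm_num)
  have hG : Nat.card G = 44352000 := by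
    have h := (MulAction.stabilizer G a).index_mul_card
    rw [MulAction.index_stabilizer, MulAction.orbit_eq_univ G a, Set.ncard_univ,
      Nat.card_eq_fintype_card (α := Ω), hΩ, Nat.card_congr e.toEquiv,
      show Nat.card ↥Cfsg.Spor.M22 = 443520 from Golay.natCard_m22 (Option.some_ne_none 0).symm]
      at h
    omega
  let I := φ.range
  let J := Leech.hsHom.range
  have hI : Nat.card I = 44352000 := by
    rw [← Nat.card_congr (MonoidHom.ofInjective hφ).toEquiv, hG]
  have hJ : Nat.card J = 44352000 := by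
    rw [← Nat.card_congr (MonoidHom.ofInjective Leech.hsHom_injective).toEquiv,
      Leech.natCard_hsGroup]
  have hI2 : I.index = 2 := by
    have h := I.index_mul_card
    rw [hI, hA] at h
    omega
  have : I.Normal := Subgroup.normal_of_index_eq_two hI2
  have : IsSimpleGroup J :=
    @MulEquiv.isSimpleGroup _ _ _ _ Leech.isSimpleGroup_hs
      (MonoidHom.ofInjective Leech.hsHom_injective).symm
  have hJI : J ≤ I := by
    rcases (inferInstance : (I.subgroupOf J).Normal).eq_bot_or_eq_top with h | h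
    · exfalso
      have h2 := Subgroup.index_bot (G := J)
      rw [← h, hJ] at h2
      have h3 : I.relIndex J ∣ I.index := Subgroup.relIndex_dvd_index_of_normal I J
      rw [hI2, Subgroup.relIndex, h2] at h3
      exact absurd (Nat.le_of_dvd (by norm_num) h3) (by norm_num)
    · exact Subgroup.subgroupOf_eq_top.mp h
  have hIJ : J = I := Subgroup.eq_of_le_of_card_ge hJI (by rw [hI, hJ])
  obtain ⟨e3⟩ := hs_iso
  exact ⟨(MonoidHom.ofInjective hφ).trans ((MulEquiv.subgroupCongr hIJ.symm).trans
    ((MonoidHom.ofInjective Leech.hsHom_injective).symm.trans e3.symm))⟩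

end Cfsg.Agent.S1666
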