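import Cfsg.Statements.S0493
import Cfsg.Agent.Lib.SmallOrders.Range

set_option autoImplicit false
open Cfsg

namespace Cfsg.Agent.S0493

/-- witnesses for the orders `2..100` -/
def witList : List (ℕ × ℕ) :=
    [(2, 1), (3, 1), (2, 2), (5, 1), (3, 1), (7, 1), (2, 3), (3, 2), (5, 1), (11, 1), (3, 1),
    (13, 1), (7, 1), (5, 1), (2, 4), (17, 1), (3, 2), (19, 1), (5, 1), (7, 1), (11, 1), (23, 1),
    (3, 1), (5, 2), (13, 1), (3, 3), (7, 1), (29, 1), (5, 1), (31, 1), (2, 5), (11, 1), (17, 1),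
    (7, 1), (3, 2), (37, 1), (19, 1), (13, 1), (5, 1), (41, 1), (7, 1), (43, 1), (11, 1), (5,
    1), (23, 1), (47, 1), (3, 1), (7, 2), (5, 2), (17, 1), (13, 1), (53, 1), (3, 3), (11, 1),
    (7, 1), (19, 1), (29, 1), (59, 1), (0, 0), (61, 1), (31, 1), (7, 1), (2, 6), (13, 1), (11,
    1), (67, 1), (17, 1), (23, 1), (7, 1), (71, 1), (3, 2), (73, 1), (37, 1), (5, 2), (19, 1),
    (11, 1), (13, 1), (79, 1), (5, 1), (3, 4), (41, 1), (83, 1), (7, 1), (17, 1), (43, 1), (29,
    1), (11, 1), (89, 1), (5, 1), (13, 1), (23, 1), (31, 1), (47, 1), (19, 1), (2, 5), (97, 1),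
    (7, 2), (11, 1), (5, 2)]

theorem witList_covers : Cfsg.Agent.SmallOrders.coverBool 2 witList [60] = true := by decide +kernel

/-- A finite simple group of order at most 100 that is not cyclic has order 60. -/
theorem result {G : Type*} [Group G] [Finite G] [IsSimpleGroup G]
    (hG : ¬ IsCyclic G) (h : Nat.card G ≤ 100) : Nat.card G = 60 := by
  have hG' : ¬ IsMulCommutative G := fun hc => hG (by
    let : CommGroup G := { ‹Group G› with mul_comm := fun a b => mul_comm' a b }
    exact IsSimpleGroup.isCyclic)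
  simpa using Cfsg.Agent.SmallOrders.mem_of_coverBool hG' witList 2 [60] witList_covers
    Cfsg.Agent.SmallOrders.two_le_card (by simp [witList]; omega)

end Cfsg.Agent.S0493
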