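import Cfsg.Agent.Lib.Orth.Order
import Cfsg.Agent.S0286


set_option autoImplicit false
open Cfsg

namespace Cfsg.Agent.S0292

/-- 2 |PΩ_{2m+1}(q)| = q^(m^2) prod_{i=1}^{m} (q^(2i) - 1), for q odd and m at least 3 (type B_m). -/
theorem result {F : Type*} [Field F] [Fintype F] {q : ℕ} (hF : Fintype.card F = q) (hodd : Odd q) (m : ℕ) (hm : 3 ≤ m) : 2 * Nat.card (Cfsg.POmega F (Cfsg.quadFormOdd m F)) = q ^ (m ^ 2) * ∏ i ∈ Finset.range m, (q ^ (2 * (i + 1)) - 1) := by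
  have h2 : (2 : F) ≠ 0 := fun h => by
    have hc := CharP.ringChar_of_prime_eq_zero Nat.prime_two (by exact_mod_cast h : ((2 : ℕ) : F) = 0)
    exact Nat.not_even_iff_odd.2 hodd (Nat.even_iff.2 (hF ▸ (FiniteField.even_card_iff_char_two).1 hc))
  set Q := Cfsg.Agent.Orth.quadOdd m F
  have hQ := Cfsg.Agent.Orth.quadOdd_nondeg (F := F) m h2
  have hG := Cfsg.Agent.Orth.Good.of_two_ne_zero hQ h2
  have hn : 5 ≤ Fintype.card (Unit ⊕ (Fin m ⊕ Fin m)) := by simp; omega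
  have hE := Cfsg.Agent.Orth.eichGen_le_omega hQ (by omega) (.inr hn)
  have hneg : Cfsg.Agent.Orth.negOne Q ∉ Cfsg.Omega F ⇑Q := fun h => by
    have h1 := ((Cfsg.Agent.Orth.mem_omega_iff hG _).1 h).1
    rw [Cfsg.Agent.Orth.dick_negOne Q h2, show Fintype.card (Unit ⊕ (Fin m ⊕ Fin m)) = 2 * m + 1 by
      simp; omega, pow_succ, pow_mul] at h1
    norm_num at h1
  have h := Cfsg.Agent.Orth.index_mul_card_pomega (⇑Q)
  rw [Cfsg.Agent.Orth.omega_index_odd hG (by omega) h2,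
    Cfsg.Agent.Orth.center_omega_eq_bot hQ (by omega) hE (.inl hneg), Subgroup.card_bot, one_mul] at h
  have ho : Nat.card (Cfsg.isometryGroup F ⇑Q) = _ := Cfsg.Agent.S0286.result hF hodd m
  rw [ho, mul_assoc 2] at h
  show 2 * Nat.card (Cfsg.POmega F ⇑Q) = _
  omega

end Cfsg.Agent.S0292
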