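import Cfsg.Agent.Lib.Orth.Order
import Cfsg.Agent.S0287
import Cfsg.Agent.S0790


set_option autoImplicit false
open Cfsg

namespace Cfsg.Agent.S0293

/-- gcd(4, q^m - 1) |PΩ^+_{2m}(q)| = q^(m(m-1)) (q^m - 1) prod_{i=1}^{m-1} (q^(2i) - 1), m at least 4 (type D_m). -/
theorem result {F : Type*} [Field F] [Fintype F] {q : ℕ} (hF : Fintype.card F = q) (m : ℕ) (hm : 4 ≤ m) : Nat.gcd 4 (q ^ m - 1) * Nat.card (Cfsg.POmega F (Cfsg.quadFormPlus m F)) = q ^ (m * (m - 1)) * (q ^ m - 1) * ∏ i ∈ Finset.range (m - 1), (q ^ (2 * (i + 1)) - 1) := by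
  classical
  set Q := Cfsg.Agent.Orth.quadPlus m F
  have hQ := Cfsg.Agent.Orth.quadPlus_nondeg (F := F) m
  have hn : 5 ≤ Fintype.card (Fin m ⊕ Fin m) := by simp; omega
  have hG : Cfsg.Agent.Orth.Good Q := ⟨hQ, .inr (by omega)⟩
  have hE := Cfsg.Agent.Orth.eichGen_le_omega hQ (by omega) (.inr hn)
  have h := Cfsg.Agent.Orth.index_mul_card_pomega (⇑Q)
  have ho : Nat.card (Cfsg.isometryGroup F ⇑Q) = _ := Cfsg.Agent.S0287.result hF m (by omega)
  rw [ho, mul_assoc 2 (q ^ (m * (m - 1))), mul_assoc 2] at h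
  show Nat.gcd 4 (q ^ m - 1) * Nat.card (Cfsg.POmega F ⇑Q) = _
  generalize q ^ (m * (m - 1)) * (q ^ m - 1) * ∏ i ∈ Finset.range (m - 1), (q ^ (2 * (i + 1)) - 1) = X at h ⊢
  have hg : Nat.gcd 4 (q ^ m - 1) = Nat.gcd 4 ((q ^ m - 1) % 4) := by
    exact (Nat.gcd_rec 4 _).trans (Nat.gcd_comm _ _)
  have hqm : 1 ≤ q ^ m := Nat.one_le_pow _ _ (hF ▸ Fintype.card_pos)
  by_cases h2 : (2 : F) = 0
  · have hev : Even q := by
      rw [← hF]
      exact Nat.even_iff.2 ((FiniteField.even_card_iff_char_two).1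
        (CharP.ringChar_of_prime_eq_zero Nat.prime_two (by exact_mod_cast h2)))
    have hqm' : q ^ m % 2 = 0 := Nat.even_iff.1 (hev.pow_of_ne_zero (by omega))
    rw [Cfsg.Agent.Orth.omega_index_two hG (by omega) h2,
      Cfsg.Agent.Orth.center_omega_eq_bot hQ (by omega) hE (.inr h2), Subgroup.card_bot, one_mul] at h
    rw [hg]
    rcases (by omega : (q ^ m - 1) % 4 = 1 ∨ (q ^ m - 1) % 4 = 3) with h4 | h4 <;> rw [h4] <;>
      first
        | (rw [show Nat.gcd 4 1 = 1 from rfl]; omega)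
        | (rw [show Nat.gcd 4 3 = 1 from rfl]; omega)
  · have hodd : Odd q := by
      rw [← hF, Nat.odd_iff]
      exact FiniteField.odd_card_of_char_ne_two fun hc => h2 (by
        have := ringChar.charP F
        have := CharP.cast_eq_zero F (ringChar F)
        rw [hc] at this; exact_mod_cast this)
    rw [Cfsg.Agent.Orth.omega_index_odd hG (by omega) h2] at h
    have hiff := Cfsg.Agent.Orth.negOne_mem_omega_iff Q hQ h2 ⟨m, by simp⟩
    rw [show (Cfsg.Agent.Orth.gram ⇑Q).det = (-1) ^ m from Cfsg.Agent.Orth.det_gram_quadPlus m,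
      Cfsg.Agent.S0790.neg_one_pow_char hF hodd] at hiff
    rw [hg]
    have hpm := Cfsg.Agent.S0790.pow_mod_four hodd m
    by_cases hc : q % 4 = 3 ∧ Odd m
    · rw [if_pos hc] at hiff hpm
      rw [Cfsg.Agent.Orth.center_omega_eq_bot hQ (by omega) hE
        (.inl fun hm' => absurd (hiff.1 hm') (by decide)), Subgroup.card_bot, one_mul] at h
      rw [show (q ^ m - 1) % 4 = 2 by omega, show Nat.gcd 4 2 = 2 from rfl]
      omega
    · rw [if_neg hc] at hiff hpm
      rw [Cfsg.Agent.Orth.card_center_omega_two hQ (by omega) hE h2 (hiff.2 rfl)] at h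
      rw [show (q ^ m - 1) % 4 = 0 by omega, show Nat.gcd 4 0 = 4 from rfl]
      omega

end Cfsg.Agent.S0293
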