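import Cfsg.Agent.Lib.Orth.Models


set_option autoImplicit false
open Cfsg

namespace Cfsg.Agent.S0791

theorem pow_mod_four {q : ℕ} (hodd : Odd q) (m : ℕ) :
    q ^ m % 4 = if q % 4 = 3 ∧ Odd m then 3 else 1 := by
  obtain ⟨k, rfl⟩ := hodd
  induction m with
  | zero => simp
  | succ m ih =>
    rw [pow_succ, Nat.mul_mod, ih]
    have hq : (2 * k + 1) % 4 = 1 ∨ (2 * k + 1) % 4 = 3 := by omega
    rcases hq with h | h <;> rcases Nat.even_or_odd m with hm | hm <;>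
      simp [h, hm, Nat.odd_add_one, Nat.not_odd_iff_even.2, ← Nat.not_odd_iff_even]

theorem neg_one_pow_char {F : Type*} [Field F] [Fintype F] [DecidableEq F] {q : ℕ}
    (hF : Fintype.card F = q) (hodd : Odd q) (m : ℕ) :
    quadraticChar F ((-1) ^ m) = if q % 4 = 3 ∧ Odd m then -1 else 1 := by
  rw [map_pow]
  by_cases h3 : q % 4 = 3
  · have : quadraticChar F (-1) = -1 := by
      rw [quadraticChar_neg_one_iff_not_isSquare, FiniteField.isSquare_neg_one_iff, hF]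
      simpa using h3
    rw [this]
    rcases Nat.even_or_odd m with hm | hm
    · rw [hm.neg_one_pow, if_neg (fun h => Nat.not_odd_iff_even.2 hm h.2)]
    · rw [hm.neg_one_pow, if_pos ⟨h3, hm⟩]
  · rw [(quadraticChar_one_iff_isSquare (neg_ne_zero.2 one_ne_zero)).2
      (FiniteField.isSquare_neg_one_iff.2 (hF ▸ h3)), one_pow, if_neg (fun h => h3 h.1)]

theorem two_ne_zero_of_odd {F : Type*} [Field F] [Fintype F] {q : ℕ}
    (hF : Fintype.card F = q) (hodd : Odd q) : (2 : F) ≠ 0 := fun h => by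
  have hc := CharP.ringChar_of_prime_eq_zero Nat.prime_two (by exact_mod_cast h : ((2 : ℕ) : F) = 0)
  have := (FiniteField.even_card_iff_char_two).1 hc
  rw [hF] at this
  exact Nat.not_even_iff_odd.2 hodd (Nat.even_iff.2 this)

/-- −1 ∈ Ω⁻_2m(q) iff q^m ≡ −1 (mod 4), for q odd and m ≥ 1; for the minus-type form quadFormMinus (m−1) with anisotropic binary part. -/
theorem result {F : Type*} [Field F] [Fintype F] {q : ℕ} (hF : Fintype.card F = q) (hodd : Odd q) (m : ℕ) (hm : 1 ≤ m) (a b : F) (hab : ∀ z₁ z₂ : F, z₁ ^ 2 + a * z₁ * z₂ + b * z₂ ^ 2 = 0 → z₁ = 0 ∧ z₂ = 0) : (∃ g : ↥(Cfsg.isometryGroup F (Cfsg.quadFormMinus (m - 1) F a b)), g ∈ Cfsg.Omega F (Cfsg.quadFormMinus (m - 1) F a b) ∧ ((g : Matrix.GeneralLinearGroup ((Fin (m - 1) ⊕ Fin (m - 1)) ⊕ Fin 2) F) : Matrix ((Fin (m - 1) ⊕ Fin (m - 1)) ⊕ Fin 2) ((Fin (m - 1) ⊕ Fin (m - 1)) ⊕ Fin 2) F) = -1) ↔ q ^ m % 4 = 3 := by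
  classical
  have h2 := two_ne_zero_of_odd hF hodd
  have hev : Even (Fintype.card ((Fin (m - 1) ⊕ Fin (m - 1)) ⊕ Fin 2)) := ⟨m, by simp; omega⟩
  have hiff := Cfsg.Agent.Orth.negOne_mem_omega_iff (Cfsg.Agent.Orth.quadMinus (m - 1) F a b)
    (Cfsg.Agent.Orth.quadMinus_nondeg (m - 1) hab) h2 hev
  have hd : quadraticChar F (a * a - 4 * b) = -1 := by
    rw [quadraticChar_neg_one_iff_not_isSquare]
    rintro ⟨r, hr⟩
    refine one_ne_zero (hab ((-a + r) / 2) 1 ?_).2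
    field_simp
    linear_combination -hr
  rw [show (Cfsg.Agent.Orth.gram ⇑(Cfsg.Agent.Orth.quadMinus (m - 1) F a b)).det =
      (-1) ^ (m - 1 + 1) * (a * a - 4 * b) from Cfsg.Agent.Orth.det_gram_quadMinus (m - 1) a b,
    Nat.sub_add_cancel hm, map_mul, hd, neg_one_pow_char hF hodd] at hiff
  have hrhs : q ^ m % 4 = 3 ↔ (q % 4 = 3 ∧ Odd m) := by
    rw [pow_mod_four hodd]; split_ifs with h <;> simp [h]
  rw [hrhs]
  constructor
  · rintro ⟨g, hg, hgm⟩
    have hg' : g = Cfsg.Agent.Orth.negOne (Cfsg.Agent.Orth.quadMinus (m - 1) F a b) :=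
      Cfsg.Agent.Orth.eq_negOne_of_mat (Cfsg.Agent.Orth.quadMinus (m - 1) F a b) hgm
    subst hg'
    have := hiff.1 hg
    by_contra hc
    rw [if_neg hc] at this
    exact absurd this (by decide)
  · intro hc
    exact ⟨Cfsg.Agent.Orth.negOne (Cfsg.Agent.Orth.quadMinus (m - 1) F a b),
      hiff.2 (by rw [if_pos hc]; decide), rfl⟩

end Cfsg.Agent.S0791
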