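import Cfsg.Statements.S4482
import Cfsg.Agent.S4481
import Cfsg.Agent.Lib.Orth.Dihedral
import Cfsg.Agent.Lib.ClassCount.CharSum
-- import your own Cfsg.Agent.* helpers here

set_option autoImplicit false
open Cfsg

namespace Cfsg.Agent.S4482

open scoped ComplexConjugate
open Finset

variable {G : Type*} [Group G] [Finite G]

/-- In a cyclic group there is at most one involution. -/
theorem eq_of_mem_zpowers {g z w : G} (hz : z ∈ Subgroup.zpowers g) (hw : w ∈ Subgroup.zpowers g)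
    (hz2 : orderOf z = 2) (hw2 : orderOf w = 2) : z = w := by
  have key : ∀ v ∈ Subgroup.zpowers g, orderOf v = 2 → v = g ^ (orderOf g / 2) := by
    intro v hv hv2
    obtain ⟨k, rfl⟩ := Subgroup.mem_zpowers_iff.mp hv
    obtain ⟨r, hr⟩ : 2 ∣ orderOf g := hv2 ▸ orderOf_dvd_of_mem_zpowers hv
    have hr0 : 0 < r := by have := orderOf_pos g; omega
    rw [show orderOf g / 2 = r by omega]
    have h := pow_orderOf_eq_one (g ^ k)
    rw [hv2, ← zpow_natCast (g ^ k) 2, ← zpow_mul, ← orderOf_dvd_iff_zpow_eq_one, hr] at h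
    push_cast at h
    rw [mul_comm k, mul_dvd_mul_iff_left two_ne_zero] at h
    obtain ⟨q, rfl⟩ := h
    have h1 : (g ^ r) ^ (2 : ℕ) = 1 := by rw [← pow_mul, mul_comm, ← hr, pow_orderOf_eq_one]
    have hne : g ^ ((r : ℤ) * q) ≠ 1 := fun e => by rw [e, orderOf_one] at hv2; omega
    rw [zpow_mul, zpow_natCast] at hne ⊢
    rcases Int.even_or_odd' q with ⟨i, rfl | rfl⟩
    · exact absurd (by rw [zpow_mul, zpow_ofNat, h1, one_zpow]) hne
    · rw [zpow_add_one, zpow_mul, zpow_ofNat, h1, one_zpow, one_mul]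
  rw [key z hz hz2, key w hw hw2]

open scoped Classical in
theorem sum_sum_class [Fintype G] (χ : IrrCharacter G) (J : G) :
    ∑ x ∈ univ.filter (IsConj J), ∑ y ∈ univ.filter (IsConj J), (χ : G → ℂ) (x * y)
      = ((univ.filter (IsConj J)).card : ℂ) ^ 2 * (χ : G → ℂ) J ^ 2 / (χ : G → ℂ) 1 := by
  rw [sum_comm, sum_congr rfl fun y hy => by
    rw [ClassCount.sum_class_apply_mul χ.2 J y,
      ClassCount.class_apply (Char.IsIrrCharacter.isClassFunction χ.2) (mem_filter.mp hy).2],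
    sum_const, nsmul_eq_mul, ClassCount.omega, Nat.card_eq_fintype_card, Fintype.card_subtype]
  ring

open scoped Classical in
theorem main (M : Ideal AlgInt) (hM : IsPModular 2 M) (a : ℕ) (P : Sylow 2 G)
    (σ τ : G) (hσ : σ ∈ (P : Subgroup G)) (hτ : τ ∈ (P : Subgroup G)) (hσo : orderOf σ = 2 ^ (a + 2))
    (hτo : orderOf τ = 2) (hrel : τ * σ * τ⁻¹ = σ⁻¹)
    (hgen : Subgroup.closure ({σ, τ} : Set G) = (P : Subgroup G))
    (hconj : IsConj (σ ^ 2 ^ (a + 1)) τ ∧ IsConj (σ ^ 2 ^ (a + 1)) (σ * τ))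
    (χ₁ : IrrCharacter G) (hχ₁ : χ₁ ∈ principalBlock M G) (h1 : (χ₁ : G → ℂ) ≠ fun _ => 1)
    (δ₁ : ℤ) (hδ₁ : δ₁ = 1 ∨ δ₁ = -1)
    (hval : ∀ l : ℕ, 0 < l → l < 2 ^ (a + 2) → (χ₁ : G → ℂ) (σ ^ l) = δ₁) :
    (charDegree (χ₁ : G → ℂ) : ℤ) ≠ δ₁ ∧
      (Nat.card G : ℚ) * ((charDegree (χ₁ : G → ℂ) : ℚ) - δ₁) ^ 2
        = 2 * (charDegree (χ₁ : G → ℂ) : ℚ) * ((charDegree (χ₁ : G → ℂ) : ℚ) + δ₁) *
          (Nat.card (Subgroup.centralizer ({σ ^ 2 ^ (a + 1)} : Set G)) : ℚ) ^ 3 *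
          (1 / (Nat.card (Subgroup.centralizer ({σ ^ 2 ^ (a + 1), τ} : Set G)) : ℚ)
            + 1 / (Nat.card (Subgroup.centralizer ({σ ^ 2 ^ (a + 1), σ * τ} : Set G)) : ℚ)) ^ 2 := by
  have := Fact.mk Nat.prime_two
  have := Fintype.ofFinite G
  have hm2 : 2 ^ (a + 2) = 2 * 2 ^ (a + 1) := by ring
  have hh2 : 2 ≤ 2 ^ (a + 1) := le_self_pow₀ one_le_two (by omega)
  set J := σ ^ 2 ^ (a + 1) with hJ
  -- the Sylow subgroup is dihedral
  have hsR : τ ∉ Subgroup.zpowers σ := by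
    intro h
    obtain ⟨k, hk⟩ := Subgroup.mem_zpowers_iff.mp h
    have hc : Commute τ σ := hk ▸ (Commute.refl σ).zpow_left k
    rw [hc.eq, mul_inv_cancel_right, ← mul_eq_one_iff_eq_inv, ← pow_two, ← orderOf_dvd_iff_pow_eq_one] at hrel
    have := Nat.le_of_dvd two_pos hrel
    omega
  have hmem : ∀ p ∈ (P : Subgroup G), ∃ k : ℤ, p = σ ^ k ∨ p = τ * σ ^ k := by
    have hτi : τ⁻¹ = τ := inv_eq_of_mul_eq_one_right (by rw [← sq, ← hτo, pow_orderOf_eq_one])
    have hmv : ∀ k : ℤ, σ ^ k * τ = τ * σ ^ (-k) := fun k => by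
      have h := conj_zpow (a := τ) (b := σ) (i := k)
      rw [hrel, inv_zpow', hτi] at h
      rw [h, ← mul_assoc, ← mul_assoc, ← sq, ← hτo, pow_orderOf_eq_one, one_mul]
    intro p hp
    rw [← hgen] at hp
    induction hp using Subgroup.closure_induction with
    | mem x hx =>
      rcases hx with rfl | rfl
      · exact ⟨1, Or.inl (zpow_one _).symm⟩
      · exact ⟨0, Or.inr (by rw [zpow_zero, mul_one])⟩
    | one => exact ⟨0, Or.inl (zpow_zero _).symm⟩
    | mul x y _ _ hx hy =>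
      obtain ⟨i, rfl | rfl⟩ := hx <;> obtain ⟨j, rfl | rfl⟩ := hy
      · exact ⟨i + j, Or.inl (zpow_add _ _ _).symm⟩
      · exact ⟨-i + j, Or.inr (by rw [← mul_assoc, hmv, mul_assoc, ← zpow_add])⟩
      · exact ⟨i + j, Or.inr (by rw [mul_assoc, ← zpow_add])⟩
      · exact ⟨-i + j, Or.inl (by rw [mul_assoc, ← mul_assoc (σ ^ i), hmv, mul_assoc τ, ← zpow_add,
          ← mul_assoc, ← sq, ← hτo, pow_orderOf_eq_one, one_mul])⟩
    | inv x _ hx =>
      obtain ⟨i, rfl | rfl⟩ := hx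
      · exact ⟨-i, Or.inl (zpow_neg _ _).symm⟩
      · exact ⟨i, Or.inr (by rw [mul_inv_rev, hτi, ← zpow_neg, hmv, neg_neg])⟩
  have D : SecondMain.DihedralData P a σ := by
    refine ⟨?_, hσ, hσo⟩
    have : NeZero (2 ^ (a + 2)) := ⟨by positivity⟩
    refine Orth.equiv_dihedral (Subgroup.zpowers (⟨σ, hσ⟩ : P))
      (by rw [Nat.card_zpowers, Subgroup.orderOf_mk, hσo]) ⟨τ, hτ⟩
      (Subtype.ext (by show τ * τ = 1; rw [← sq, ← hτo, pow_orderOf_eq_one])) ?_ ?_ ?_
    · intro h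
      obtain ⟨k, hk⟩ := Subgroup.mem_zpowers_iff.mp h
      exact hsR (Subgroup.mem_zpowers_iff.mpr ⟨k, congrArg Subtype.val hk⟩)
    · rintro ⟨c, hcP⟩ hc
      obtain ⟨k, hk⟩ := Subgroup.mem_zpowers_iff.mp hc
      have hk' : σ ^ k = c := congrArg Subtype.val hk
      refine Subtype.ext ?_
      show τ * c * τ = c⁻¹
      subst hk'
      have h := conj_zpow (a := τ) (b := σ) (i := k)
      rw [hrel, inv_zpow, inv_eq_of_mul_eq_one_right (a := τ) (b := τ) (by rw [← sq, ← hτo, pow_orderOf_eq_one])] at h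
      exact h.symm
    · rintro ⟨g, hg⟩
      obtain ⟨k, rfl | rfl⟩ := hmem g hg
      · exact Or.inl ⟨k, Subtype.ext rfl⟩
      · refine Or.inr ⟨k, Subtype.ext ?_⟩
        show σ ^ k = τ * (τ * σ ^ k)
        rw [← mul_assoc, ← sq, ← hτo, pow_orderOf_eq_one, one_mul]
  have hτ2 : τ * τ = 1 := by rw [← sq, ← hτo, pow_orderOf_eq_one]
  have hflip : ∀ k : ℤ, σ ^ k * τ = τ * σ ^ (-k) := fun k => by
    have h := D.conj_inv hτ hsR (zpow_mem (Subgroup.mem_zpowers σ) k)
    rw [inv_eq_of_mul_eq_one_right hτ2] at h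
    rw [zpow_neg, ← h, ← mul_assoc, ← mul_assoc, hτ2, one_mul]
  have hJ2 : orderOf J = 2 := D.orderOf_midRot
  have hJJ : J * J = 1 := by rw [← sq, ← hJ2, pow_orderOf_eq_one]
  -- reflections up to conjugation by rotations
  have hrefl : ∀ w ∈ (P : Subgroup G), w ∉ Subgroup.zpowers σ →
      ∃ k : ℤ, σ ^ k * w * (σ ^ k)⁻¹ = τ ∨ σ ^ k * w * (σ ^ k)⁻¹ = σ * τ := by
    intro w hw hwR
    obtain ⟨i, rfl | rfl⟩ := hmem w hw
    · exact absurd (zpow_mem (Subgroup.mem_zpowers σ) i) hwR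
    have e : ∀ k : ℤ, σ ^ k * (τ * σ ^ i) * (σ ^ k)⁻¹ = τ * σ ^ (i - 2 * k) := fun k => by
      rw [← mul_assoc, hflip, mul_assoc, mul_assoc, ← zpow_neg, ← zpow_add, ← zpow_add]
      congr 2
      ring
    rcases Int.even_or_odd' i with ⟨j, rfl | rfl⟩
    · exact ⟨j, Or.inl (by rw [e, sub_self, zpow_zero, mul_one])⟩
    · refine ⟨j + 1, Or.inr ?_⟩
      have h := hflip 1
      rw [zpow_one] at h
      rw [e, h, show 2 * j + 1 - 2 * (j + 1) = (-1 : ℤ) by ring]
  -- all involutions are conjugate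
  have hinv : ∀ x : G, orderOf x = 2 → IsConj J x := by
    intro x hx
    obtain ⟨u, hu, hxu⟩ := D.exists_conj_mem ⟨1, by rw [hx, pow_one]⟩
    refine IsConj.trans ?_ hxu.symm
    have hu2 : orderOf u = 2 := by
      obtain ⟨c, rfl⟩ := isConj_iff.mp hxu
      rw [SecondMain.orderOf_conj, hx]
    by_cases huR : u ∈ Subgroup.zpowers σ
    · rw [eq_of_mem_zpowers huR D.midRot_mem hu2 hJ2]
      exact IsConj.refl _
    · obtain ⟨k, e | e⟩ := hrefl u hu huR
      · exact hconj.1.trans (isConj_iff.mpr ⟨_, e⟩).symm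
      · exact hconj.2.trans (isConj_iff.mpr ⟨_, e⟩).symm
  -- the centraliser of `J` and its retraction to `P`
  set C := Subgroup.centralizer ({J} : Set G) with hCdef
  have hC : ∀ g, g ∈ C ↔ Commute J g := fun g => SecondMain.commute_iff_mem_centralizer_singleton
  have hPC : (P : Subgroup G) ≤ C := fun g hg => (hC g).mpr (D.commute_midRot hg)
  obtain ⟨π, hπP, hπodd⟩ : ∃ π : C →* P, (∀ p : C, (hp : (p : G) ∈ (P : Subgroup G)) → π p = ⟨p, hp⟩) ∧
      ∀ g : C, π g = 1 → ¬ 2 ∣ orderOf g := by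
    have hcompl : HasNormalPComplement 2 C := D.complement_mid.1
    let Q : Sylow 2 C := P.subtype hPC
    have hK := (Transfer.isComplement'_pResidual_iff Q).mpr
      (Transfer.hasNormalPComplement_iff_coprime.mp hcompl)
    let e := Subgroup.IsComplement'.QuotientMulEquiv hK.symm
    let f : (Q : Subgroup C) →* P := (Subgroup.subgroupOfEquivOfLe hPC).toMonoidHom
    have hf : Function.Injective f := (Subgroup.subgroupOfEquivOfLe hPC).injective
    refine ⟨(f.comp e.toMonoidHom).comp (QuotientGroup.mk' _), fun p hp => ?_, fun g hg => ?_⟩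
    · have h : e (QuotientGroup.mk' _ p) = ⟨p, hp⟩ := (e.eq_symm_apply).mp rfl
      simp only [MonoidHom.coe_comp, MulEquiv.coe_toMonoidHom, Function.comp_apply, h]
      rfl
    · simp only [MonoidHom.coe_comp, MulEquiv.coe_toMonoidHom, Function.comp_apply, map_eq_one_iff f hf, map_eq_one_iff _ (MulEquiv.injective _),
        QuotientGroup.mk'_apply, QuotientGroup.eq_one_iff] at hg
      rw [Transfer.mem_pResidual_iff hcompl, Nat.coprime_comm, Nat.prime_two.coprime_iff_not_dvd] at hg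
      exact hg
  -- the characters
  obtain ⟨ζ, hζ⟩ : ∃ ζ : ℂ, IsPrimitiveRoot ζ (2 ^ (a + 2)) :=
    ⟨_, Complex.isPrimitiveRoot_exp (2 ^ (a + 2)) (pow_ne_zero _ two_ne_zero)⟩
  obtain ⟨-, A, B, B', X, δ, δ₂, δ₃, hδ, hδ₂, hδ₃, -, -, -, -, -, -, -, -, hB0, hvals, hodd⟩ :=
    Cfsg.Agent.S4481.result M hM (a + 3) (by omega) P D.iso σ hσ hσo ζ hζ
  simp only [show a + 3 - 1 = a + 2 by omega] at hvals
  have hX : ∀ j, ∀ l : ℕ, 0 < l → l < 2 ^ (a + 2) → (X j : G → ℂ) (σ ^ l)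
      = δ * (ζ ^ (((j : ℕ) + 1) * l) + (ζ ^ (((j : ℕ) + 1) * l))⁻¹) := fun j l a b => (hvals l a b).2.2.2 j
  have hζh : ζ ^ 2 ^ (a + 1) = -1 := by
    have h1 : ζ ^ 2 ^ (a + 1) * ζ ^ 2 ^ (a + 1) = 1 := by rw [← pow_add, ← two_mul, ← hm2, hζ.pow_eq_one]
    exact (mul_self_eq_one_iff.mp h1).resolve_left (hζ.pow_ne_one_of_pos_of_lt (by omega) (by omega))
  obtain ⟨hAχ, hδeq⟩ : A = χ₁ ∧ δ = δ₁ := by
    have hmem' := hχ₁
    rw [hB0] at hmem'
    rcases hmem' with e | e | e | e | ⟨j, e⟩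
    · exact absurd e h1
    · refine ⟨e.symm, ?_⟩
      have := (hvals 1 one_pos (by omega)).1
      rw [← e, hval 1 one_pos (by omega)] at this
      exact_mod_cast this.symm
    · exfalso
      have a1 := (hvals 1 one_pos (by omega)).2.1
      have a2 := (hvals 2 two_pos (by omega)).2.1
      rw [← e, hval _ (by omega) (by omega)] at a1 a2
      have b1 : δ₁ = δ₂ := by exact_mod_cast (by simpa using a1 : (δ₁ : ℂ) = δ₂)
      have b2 : δ₁ = -δ₂ := by exact_mod_cast (by simpa [pow_succ] using a2 : (δ₁ : ℂ) = -δ₂)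
      omega
    · exfalso
      have a1 := (hvals 1 one_pos (by omega)).2.2.1
      have a2 := (hvals 2 two_pos (by omega)).2.2.1
      rw [← e, hval _ (by omega) (by omega)] at a1 a2
      have b1 : δ₁ = δ₃ := by exact_mod_cast (by simpa using a1 : (δ₁ : ℂ) = δ₃)
      have b2 : δ₁ = -δ₃ := by exact_mod_cast (by simpa [pow_succ] using a2 : (δ₁ : ℂ) = -δ₃)
      omega
    · exfalso
      have a1 := hX j (2 ^ (a + 1)) (by omega) (by omega)
      rw [← e, hval _ (by omega) (by omega), mul_comm ((j : ℕ) + 1), pow_mul, hζh] at a1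
      rcases neg_one_pow_eq_or ℂ ((j : ℕ) + 1) with h | h <;> rw [h] at a1 <;> norm_num at a1 <;>
        rcases hδ with r | r <;> rcases hδ₁ with r' | r' <;> rw [r, r'] at a1 <;> norm_num at a1
  subst hAχ hδeq
  let j0 : Fin (2 ^ (a + 3 - 2) - 1) := ⟨0, by rw [show a + 3 - 2 = a + 1 by omega]; omega⟩
  have hδδ : (δ : ℂ) * δ = 1 := by rcases hδ with r | r <;> rw [r] <;> norm_num
  let Θ : G → ℂ := fun g => 1 + (δ : ℂ) * (A : G → ℂ) g - (δ : ℂ) * (X j0 : G → ℂ) g
  have hΘodd : ∀ g : G, Odd (orderOf g) → Θ g = 0 := fun g hg => by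
    simp only [Θ, (hodd g hg j0).2, sub_self]
  -- the values on the centraliser
  have hζw : ∀ i j : ℤ, σ ^ i = σ ^ j → ζ ^ i = ζ ^ j := fun i j h => by
    rw [← mul_inv_eq_one, ← zpow_neg, ← zpow_add, ← orderOf_dvd_iff_zpow_eq_one, hσo] at h
    rw [← mul_inv_eq_one₀ (zpow_ne_zero _ (hζ.ne_zero (by positivity))), ← zpow_neg,
      ← zpow_add₀ (hζ.ne_zero (by positivity)), hζ.zpow_eq_one_iff_dvd]
    exact h
  have hΘ : ∀ (g : C) (k : ℤ), (π g : G) = σ ^ k → Θ (g : G) = 2 - ζ ^ k - ζ ^ (-k) := by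
    intro g k hk
    obtain ⟨u, s, hus, hug, hsg, hu, hs⟩ := Transfer.exists_pPart_mul (p := 2) g
    have hs1 : π s = 1 := Transfer.map_eq_one_of_coprime P.2 π hs
    have huk : (π u : G) = σ ^ k := by rw [← hk, hus, map_mul, hs1, mul_one]
    have hs2 : ¬ 2 ∣ orderOf s := Nat.prime_two.coprime_iff_not_dvd.mp hs.symm
    by_cases hu1 : u = 1
    · rw [hu1, map_one, Subgroup.coe_one, ← zpow_zero σ] at huk
      rw [zpow_neg, ← hζw 0 k huk, zpow_zero, inv_one, hus, hu1, one_mul, hΘodd]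
      · norm_num
      · rw [Subgroup.orderOf_coe, ← Nat.not_even_iff_odd, even_iff_two_dvd]
        exact hs2
    obtain ⟨kk, hkk⟩ := hu
    obtain ⟨S, hS⟩ := (IsPGroup.of_card (n := kk) (p := 2) (G := Subgroup.zpowers u)
      (by rw [Nat.card_zpowers, hkk])).exists_le_sylow
    obtain ⟨c, rfl⟩ := MulAction.exists_smul_eq C (P.subtype hPC) S
    have hp : ((c⁻¹ * u * c : C) : G) ∈ (P : Subgroup G) := by
      have := hS (Subgroup.mem_zpowers u)
      rwa [Sylow.coe_subgroup_smul, Subgroup.mem_pointwise_smul_iff_inv_smul_mem, ← map_inv,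
        MulAut.smul_def, MulAut.conj_apply, inv_inv] at this
    set p := ((c⁻¹ * u * c : C) : G) with hpdef
    have hpπ : p = (π c : G)⁻¹ * σ ^ k * (π c : G) := by
      have h := congrArg Subtype.val (hπP _ hp)
      simp only [map_mul, map_inv, Subgroup.coe_mul, Subgroup.coe_inv, huk] at h
      rw [h, hpdef]
      simp
    obtain ⟨k', hk', hkk'⟩ : ∃ k' : ℤ, p = σ ^ k' ∧ (k' = k ∨ k' = -k) := by
      by_cases hcR : (π c : G) ∈ Subgroup.zpowers σ
      · refine ⟨k, ?_, Or.inl rfl⟩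
        obtain ⟨i, hi⟩ := Subgroup.mem_zpowers_iff.mp hcR
        rw [hpπ, ← hi]
        group
      · refine ⟨-k, ?_, Or.inr rfl⟩
        have h := D.conj_inv (inv_mem (π c).2) (fun h => hcR (by simpa using inv_mem h))
          (zpow_mem (Subgroup.mem_zpowers σ) k)
        rw [inv_inv] at h
        rw [hpπ, h, zpow_neg]
    have hp1 : p ≠ 1 := fun e => hu1 (conj_eq_one_iff.mp (show c⁻¹ * u * c⁻¹⁻¹ = 1 by
      rw [inv_inv]; exact Subtype.ext e))
    obtain ⟨l', hl'⟩ := (Submonoid.mem_powers_iff _ _).mp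
      ((mem_powers_iff_mem_zpowers (x := σ)).mpr (hk' ▸ zpow_mem (Subgroup.mem_zpowers σ) k'))
    set l := l' % orderOf σ
    have hl : σ ^ l = p := by rw [pow_mod_orderOf, hl']
    have hl0 : 0 < l := Nat.pos_of_ne_zero fun e => hp1 (by rw [← hl, e, pow_zero])
    have hlm : l < 2 ^ (a + 2) := hσo ▸ Nat.mod_lt _ (orderOf_pos σ)
    have hzl : ζ ^ l + (ζ ^ l)⁻¹ = ζ ^ k + ζ ^ (-k) := by
      have e := hζw l k' (by rw [zpow_natCast, hl, hk'])
      rw [zpow_natCast] at e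
      rw [e, ← zpow_neg]
      rcases hkk' with rfl | rfl
      · rfl
      · rw [neg_neg, add_comm]
    have hcp : HasNormalPComplement 2 (Subgroup.centralizer ({p} : Set G)) := by
      by_cases h : p * p = 1
      · rw [(D.eq_one_or_mid (hk' ▸ zpow_mem (Subgroup.mem_zpowers σ) k') h).resolve_left hp1]
        exact D.complement_mid.1
      · exact (D.complement_rot (hk' ▸ zpow_mem (Subgroup.mem_zpowers σ) k') h).1
    have hcomm : Commute u s := by
      obtain ⟨i, hi⟩ := Subgroup.mem_zpowers_iff.mp hug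
      obtain ⟨j, hj⟩ := Subgroup.mem_zpowers_iff.mp hsg
      exact hi ▸ hj ▸ (Commute.refl g).zpow_zpow i j
    let s' : Subgroup.centralizer ({p} : Set G) := ⟨((c⁻¹ * s * c : C) : G),
      SecondMain.commute_iff_mem_centralizer_singleton.mpr (by
        have h := (hcomm.map (MulAut.conj c⁻¹).toMonoidHom).map C.subtype
        simpa [hpdef] using h)⟩
    have hs' : ¬ 2 ∣ orderOf s' := by
      rw [← Subgroup.orderOf_coe]
      show ¬ 2 ∣ orderOf ((c⁻¹ * s * c : C) : G)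
      rw [Subgroup.orderOf_coe, show c⁻¹ * s * c = c⁻¹ * s * c⁻¹⁻¹ by rw [inv_inv], SecondMain.orderOf_conj]
      exact hs2
    have happ : ∀ φ : IrrCharacter G, φ ∈ principalBlock M G → (φ : G → ℂ) (g : G) = (φ : G → ℂ) (σ ^ l) := by
      intro φ hφ
      rw [hl, ← SecondMain.apply_shift_principal hM (D.isPow_two hp)
        (fun _ => SecondMain.commute_iff_mem_centralizer_singleton) hcp hφ hs']
      refine SecondMain.apply_eq_of_isConj φ (isConj_iff.mpr ⟨((c⁻¹ : C) : G), ?_⟩)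
      rw [hus]
      simp [hpdef, s']
      group
    have hXB : X j0 ∈ principalBlock M G := by
      rw [hB0]; exact Or.inr (Or.inr (Or.inr (Or.inr ⟨j0, rfl⟩)))
    simp only [Θ, happ _ hχ₁, happ _ hXB, hval l hl0 hlm, hX j0 l hl0 hlm]
    simp only [j0, zero_add, one_mul, hzl]
    linear_combination (1 - ζ ^ k - ζ ^ (-k)) * hδδ
  -- the involutions of the centraliser other than `J`
  let I := univ.filter fun x : G => orderOf x = 2 ∧ x ∈ C ∧ x ≠ J
  let I₀ := univ.filter fun x : C => (x : G) ∈ I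
  have hclass : ∀ x : C, (x : G) ∈ I ↔ IsConj (⟨τ, hPC hτ⟩ : C) x ∨ IsConj (⟨σ * τ, hPC (mul_mem hσ hτ)⟩ : C) x := by
    intro x
    simp only [I, mem_filter, mem_univ, true_and, x.2]
    constructor
    · rintro ⟨hx2, hxJ⟩
      obtain ⟨S, hS⟩ := (IsPGroup.of_card (n := 1) (p := 2) (G := Subgroup.zpowers x)
        (by rw [Nat.card_zpowers, ← Subgroup.orderOf_coe, hx2, pow_one])).exists_le_sylow
      obtain ⟨c, rfl⟩ := MulAction.exists_smul_eq C (P.subtype hPC) S
      have hp : ((c⁻¹ * x * c : C) : G) ∈ (P : Subgroup G) := by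
        have := hS (Subgroup.mem_zpowers x)
        rwa [Sylow.coe_subgroup_smul, Subgroup.mem_pointwise_smul_iff_inv_smul_mem, ← map_inv,
          MulAut.smul_def, MulAut.conj_apply, inv_inv] at this
      have hpR : ((c⁻¹ * x * c : C) : G) ∉ Subgroup.zpowers σ := by
        intro h
        have hp2 : orderOf ((c⁻¹ * x * c : C) : G) = 2 := by
          rw [Subgroup.orderOf_coe, show c⁻¹ * x * c = c⁻¹ * x * c⁻¹⁻¹ by rw [inv_inv],
            SecondMain.orderOf_conj, ← Subgroup.orderOf_coe, hx2]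
        have e := eq_of_mem_zpowers h D.midRot_mem hp2 hJ2
        simp only [Subgroup.coe_mul, Subgroup.coe_inv] at e
        refine hxJ ?_
        calc (x : G) = (c : G) * ((c : G)⁻¹ * x * c) * (c : G)⁻¹ := by group
          _ = (c : G) * J * (c : G)⁻¹ := by rw [e]; rfl
          _ = J := by rw [← ((hC _).mp c.2).eq, mul_inv_cancel_right]
      obtain ⟨k, e⟩ := hrefl _ hp hpR
      have hk : σ ^ k ∈ C := hPC (zpow_mem hσ k)
      have hcx : IsConj x (⟨σ ^ k, hk⟩ * (c⁻¹ * x * c) * (⟨σ ^ k, hk⟩ : C)⁻¹) :=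
        isConj_iff.mpr ⟨⟨σ ^ k, hk⟩ * c⁻¹, by group⟩
      rcases e with e | e
      · exact Or.inl ((show (⟨σ ^ k, hk⟩ : C) * (c⁻¹ * x * c) * (⟨σ ^ k, hk⟩ : C)⁻¹ = (⟨τ, hPC hτ⟩ : C) from Subtype.ext e) ▸ hcx).symm
      · exact Or.inr ((show (⟨σ ^ k, hk⟩ : C) * (c⁻¹ * x * c) * (⟨σ ^ k, hk⟩ : C)⁻¹ = (⟨σ * τ, hPC (mul_mem hσ hτ)⟩ : C) from Subtype.ext e) ▸ hcx).symm
    · have key : ∀ w : C, orderOf (w : G) = 2 → (w : G) ≠ J → IsConj w x → orderOf (x : G) = 2 ∧ (x : G) ≠ J := by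
        intro w hw hwJ hwx
        obtain ⟨c, rfl⟩ := isConj_iff.mp hwx
        refine ⟨by rw [Subgroup.orderOf_coe, SecondMain.orderOf_conj, ← Subgroup.orderOf_coe, hw], fun e => hwJ ?_⟩
        calc (w : G) = (c : G)⁻¹ * ((c * w * c⁻¹ : C) : G) * c := by simp; group
          _ = (c : G)⁻¹ * J * c := by rw [e]
          _ = J := by rw [mul_assoc, ((hC _).mp c.2).eq, inv_mul_cancel_left]
      rintro (h | h)
      · exact key _ hτo (fun e => hsR (by rw [show τ = J from e]; exact D.midRot_mem)) h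
      · refine key _ ?_ (fun e => hsR ?_) h
        · obtain ⟨c, hc⟩ := isConj_iff.mp hconj.2
          show orderOf (σ * τ) = 2
          rw [← hc, SecondMain.orderOf_conj, hJ2]
        · have : σ⁻¹ * (σ * τ) ∈ Subgroup.zpowers σ :=
            mul_mem (inv_mem (Subgroup.mem_zpowers σ)) (by rw [show σ * τ = J from e]; exact D.midRot_mem)
          simpa using this
  have hIC : ∀ x ∈ I, x ∈ C := fun x hx => (mem_filter.mp hx).2.2.1
  have hex : ∀ x : C, ∃ k : ℤ, (x : G) ∈ I → (π x : G) = τ * σ ^ k := by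
    intro x
    by_cases hx : (x : G) ∈ I
    swap
    · exact ⟨0, fun h => absurd h hx⟩
    obtain ⟨k, hk⟩ := hmem _ (π x).2
    refine ⟨k, fun _ => hk.resolve_left fun e => ?_⟩
    have key : ∀ w : C, (hw : (w : G) ∈ (P : Subgroup G)) → (w : G) ∉ Subgroup.zpowers σ → IsConj w x → False := by
      intro w hw hwR hwx
      obtain ⟨c, rfl⟩ := isConj_iff.mp hwx
      rw [map_mul, map_mul, map_inv, hπP w hw] at e
      simp only [Subgroup.coe_mul, Subgroup.coe_inv] at e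
      refine hwR ?_
      rw [show (w : G) = (π c : G)⁻¹ * σ ^ k * π c by rw [← e]; group]
      by_cases hcR : (π c : G) ∈ Subgroup.zpowers σ
      · exact mul_mem (mul_mem (inv_mem hcR) (zpow_mem (Subgroup.mem_zpowers σ) k)) hcR
      · have h := D.conj_inv (inv_mem (π c).2) (fun h => hcR (by simpa using inv_mem h))
          (zpow_mem (Subgroup.mem_zpowers σ) k)
        rw [inv_inv] at h
        rw [h]
        exact inv_mem (zpow_mem (Subgroup.mem_zpowers σ) k)
    rcases (hclass x).mp hx with h | h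
    · exact key _ hτ hsR h
    · exact key _ (mul_mem hσ hτ) (fun h' => hsR (by simpa using mul_mem (inv_mem (Subgroup.mem_zpowers σ)) h')) h
  choose ix hix using hex
  have hΘI : ∀ x ∈ I₀, ∀ y ∈ I₀, Θ ((x * y : C) : G) = 2 - ζ ^ (-ix x) * ζ ^ ix y - ζ ^ (-ix y) * ζ ^ ix x := by
    intro x hx y hy
    have hz : (π (x * y) : G) = σ ^ (-ix x + ix y) := by
      rw [map_mul, Subgroup.coe_mul, hix x (mem_filter.mp hx).2, hix y (mem_filter.mp hy).2,
        ← mul_assoc, mul_assoc τ, hflip, ← mul_assoc, hτ2, one_mul, ← zpow_add]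
    rw [hΘ _ _ hz, neg_add, neg_neg, zpow_add₀ (hζ.ne_zero (by positivity)),
      zpow_add₀ (hζ.ne_zero (by positivity))]
    ring
  have hS0 : ∑ x ∈ I₀, ζ ^ ix x = 0 := by
    let s : C := ⟨σ, hPC hσ⟩
    have hmap : ∀ x, x ∈ I₀ ↔ s * x * s⁻¹ ∈ I₀ := fun x => by
      simp only [I₀, mem_filter, mem_univ, true_and, hclass]
      have e : IsConj x (s * x * s⁻¹) := isConj_iff.mpr ⟨s, rfl⟩
      exact ⟨fun h => h.imp (·.trans e) (·.trans e), fun h => h.imp (·.trans e.symm) (·.trans e.symm)⟩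
    have h1 : ∑ x ∈ I₀, ζ ^ ix x = ∑ x ∈ I₀, ζ ^ (-2 : ℤ) * ζ ^ ix x := by
      refine (sum_equiv (MulAut.conj s).toEquiv (fun x => hmap x) fun x hx => ?_).symm
      rw [← zpow_add₀ (hζ.ne_zero (by positivity))]
      refine (hζw _ _ ?_).symm
      refine mul_left_cancel (a := τ) ?_
      have h := hix (s * x * s⁻¹) (mem_filter.mp ((hmap x).mp hx)).2
      rw [map_mul, map_mul, map_inv, hπP s hσ, Subgroup.coe_mul, Subgroup.coe_mul, Subgroup.coe_inv,
        hix x (mem_filter.mp hx).2] at h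
      refine h.symm.trans ?_
      have h' := hflip 1
      rw [zpow_one] at h'
      show σ * (τ * σ ^ ix x) * σ⁻¹ = τ * σ ^ (-2 + ix x)
      rw [← mul_assoc σ, h']
      group
    rw [← mul_sum] at h1
    refine by_contra fun hne => ?_
    have h2 := (mul_eq_right₀ hne).mp h1.symm
    rw [hζ.zpow_eq_one_iff_dvd] at h2
    obtain ⟨q, hq⟩ := h2
    have : ((2 ^ (a + 2) : ℕ) : ℤ) ∣ 2 := ⟨-q, by linarith⟩
    have := Int.le_of_dvd two_pos this
    omega
  have hcount : ∑ x ∈ I, ∑ y ∈ I, Θ (x * y) = 2 * (I₀.card : ℂ) ^ 2 := by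
    have hsum : ∀ f : G → ℂ, ∑ x ∈ I, f x = ∑ x ∈ I₀, f (x : G) := fun f => by
      refine (sum_nbij (fun x : C => (x : G)) (fun x hx => (mem_filter.mp hx).2) Subtype.val_injective.injOn
        (fun x hx => ⟨⟨x, hIC x hx⟩, mem_coe.mpr (mem_filter.mpr ⟨mem_univ _, hx⟩), rfl⟩) fun _ _ => rfl).symm
    simp only [hsum]
    rw [sum_congr rfl fun x hx => sum_congr rfl fun y hy => by rw [← Subgroup.coe_mul, hΘI x hx y hy]]
    simp only [sum_sub_distrib, ← mul_sum, ← sum_mul, hS0, mul_zero, sum_const_zero, sub_zero, sum_const,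
      nsmul_eq_mul]
    ring
  -- pairs of conjugates of `J`
  let K := univ.filter fun x : G => IsConj J x
  have hKmem : ∀ {x : G}, x ∈ K ↔ orderOf x = 2 := by
    intro x
    simp only [K, mem_filter, mem_univ, true_and]
    exact ⟨fun h => by obtain ⟨c, rfl⟩ := isConj_iff.mp h; rw [SecondMain.orderOf_conj, hJ2], hinv x⟩
  have hΘclass : ∀ g c : G, Θ (c * g * c⁻¹) = Θ g := fun g c => by
    have hA := SecondMain.apply_eq_of_isConj A (isConj_iff.mpr ⟨c, rfl⟩ : IsConj g (c * g * c⁻¹))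
    have hX' := SecondMain.apply_eq_of_isConj (X j0) (isConj_iff.mpr ⟨c, rfl⟩ : IsConj g (c * g * c⁻¹))
    simp only [Θ, ← hA, ← hX']
  let F : G → ℂ := fun z => ∑ x ∈ K, ∑ y ∈ K, if z ∈ Subgroup.zpowers (x * y) then Θ (x * y) else 0
  have hsplit : ∑ x ∈ K, ∑ y ∈ K, Θ (x * y) = ∑ z ∈ K, F z := by
    simp only [F]
    conv_rhs => rw [sum_comm]; enter [2, x]; rw [sum_comm]
    refine sum_congr rfl fun x _ => sum_congr rfl fun y _ => ?_
    by_cases h : 2 ∣ orderOf (x * y)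
    · set z := (x * y) ^ (orderOf (x * y) / 2)
      have hz : orderOf z = 2 := orderOf_pow_orderOf_div (orderOf_pos _).ne' h
      rw [sum_eq_single z, if_pos (pow_mem (Subgroup.mem_zpowers _) _)]
      · intro w hw hne
        rw [if_neg fun hwm => hne (eq_of_mem_zpowers hwm (pow_mem (Subgroup.mem_zpowers _) _) (hKmem.mp hw) hz)]
      · exact fun hn => absurd (hKmem.mpr hz) hn
    · rw [hΘodd _ (by rwa [← Nat.not_even_iff_odd, even_iff_two_dvd])]
      simp
  have hFJ : ∀ z ∈ K, F z = F J := by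
    intro z hz
    obtain ⟨c, rfl⟩ := isConj_iff.mp (mem_filter.mp hz).2
    have hK : ∀ x, x ∈ K ↔ c * x * c⁻¹ ∈ K := fun x => by rw [hKmem, hKmem, SecondMain.orderOf_conj]
    simp only [F]
    refine (sum_equiv (MulAut.conj c).toEquiv (fun x => hK x) fun x hx => ?_).symm
    refine sum_equiv (MulAut.conj c).toEquiv (fun y => hK y) fun y hy => ?_
    show _ = if c * J * c⁻¹ ∈ Subgroup.zpowers (c * x * c⁻¹ * (c * y * c⁻¹)) then Θ (c * x * c⁻¹ * (c * y * c⁻¹)) else 0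
    rw [show c * x * c⁻¹ * (c * y * c⁻¹) = c * (x * y) * c⁻¹ by group, hΘclass]
    refine if_congr ?_ rfl rfl
    simp only [Subgroup.mem_zpowers_iff, conj_zpow]
    exact exists_congr fun k => ⟨fun h => by rw [h], fun h => conj_injective h⟩
  have hIK : I ⊆ K := fun x hx => hKmem.mpr (mem_filter.mp hx).2.1
  have hpair : ∀ x ∈ K, ∀ y ∈ K, J ∈ Subgroup.zpowers (x * y) → x ∈ I ∧ y ∈ I := by
    intro x hx y hy hJxy
    have hx2 : x * x = 1 := by rw [← sq, ← hKmem.mp hx, pow_orderOf_eq_one]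
    have hy2 : y * y = 1 := by rw [← sq, ← hKmem.mp hy, pow_orderOf_eq_one]
    have hxi := inv_eq_of_mul_eq_one_right hx2
    have hyi := inv_eq_of_mul_eq_one_right hy2
    obtain ⟨k, hk⟩ := Subgroup.mem_zpowers_iff.mp hJxy
    have hJi : J⁻¹ = J := inv_eq_of_mul_eq_one_right hJJ
    have key : ∀ w, w * (x * y) * w⁻¹ = (x * y)⁻¹ → Commute J w := fun w hw => by
      have h : w * J * w⁻¹ = J := by rw [← hk, ← conj_zpow, hw, inv_zpow, hk, hJi]
      exact (mul_inv_eq_iff_eq_mul.mp h).symm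
    have hcx : Commute J x := key x (by rw [mul_inv_rev, hxi, hyi, ← mul_assoc x, hx2, one_mul])
    have hcy : Commute J y := key y (by rw [mul_inv_rev, hxi, hyi, mul_assoc y, mul_assoc x y y, hy2, mul_one])
    have hne : ∀ w, orderOf w = 2 → Commute J w → J ∈ Subgroup.zpowers (J * w) → False := by
      intro w hw hcw hm
      by_cases h1 : J * w = 1
      · rw [h1, Subgroup.zpowers_one_eq_bot, Subgroup.mem_bot] at hm
        rw [hm, orderOf_one] at hJ2
        omega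
      have h2 : orderOf (J * w) = 2 := orderOf_eq_prime (by
        rw [hcw.mul_pow, sq J, hJJ, one_mul, ← hw, pow_orderOf_eq_one]) h1
      have := eq_of_mem_zpowers hm (Subgroup.mem_zpowers _) hJ2 h2
      rw [left_eq_mul] at this
      rw [this, orderOf_one] at hw
      omega
    refine ⟨mem_filter.mpr ⟨mem_univ _, hKmem.mp hx, (hC x).mpr hcx, fun e => ?_⟩,
      mem_filter.mpr ⟨mem_univ _, hKmem.mp hy, (hC y).mpr hcy, fun e => ?_⟩⟩
    · exact hne y (hKmem.mp hy) hcy (by rwa [e] at hJxy)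
    · exact hne x (hKmem.mp hx) hcx (by rw [hcx.eq]; rwa [e] at hJxy)
  have hF : F J = 2 * (I₀.card : ℂ) ^ 2 := by
    rw [← hcount]
    simp only [F]
    rw [← sum_product', ← sum_product']
    refine (sum_subset (product_subset_product hIK hIK) fun q hq hn => ?_).symm.trans (sum_congr rfl fun q hq => ?_)
    · rw [if_neg fun h => hn (mem_product.mpr (hpair _ (mem_product.mp hq).1 _ (mem_product.mp hq).2 h))]
    · obtain ⟨hx, hy⟩ := mem_product.mp hq
      refine ite_eq_left_iff.mpr fun hJn => ?_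
      set g : C := ⟨q.1, hIC _ hx⟩ * ⟨q.2, hIC _ hy⟩
      have hg1 : ¬ 2 ∣ orderOf (g : G) := by
        intro h2
        set z := g ^ (orderOf (g : G) / 2)
        have hz : orderOf (z : G) = 2 := by
          rw [Subgroup.coe_pow]; exact orderOf_pow_orderOf_div (orderOf_pos _).ne' h2
        obtain ⟨k, hk⟩ : ∃ k : ℤ, (π g : G) = σ ^ k := by
          refine ⟨-ix ⟨q.1, hIC _ hx⟩ + ix ⟨q.2, hIC _ hy⟩, ?_⟩
          rw [map_mul, Subgroup.coe_mul, hix _ hx, hix _ hy, ← mul_assoc, mul_assoc τ, hflip, ← mul_assoc,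
            hτ2, one_mul, ← zpow_add]
        have hπz : (π z : G) ∈ Subgroup.zpowers σ := by
          rw [map_pow, Subgroup.coe_pow, hk]
          exact pow_mem (zpow_mem (Subgroup.mem_zpowers σ) k) _
        have hz2 : z * z = 1 := Subtype.ext (by rw [Subgroup.coe_mul, ← sq, ← hz, pow_orderOf_eq_one]; rfl)
        have hπz2 : (π z : G) * (π z : G) = 1 := by rw [← Subgroup.coe_mul, ← map_mul, hz2, map_one]; rfl
        let j : C := ⟨J, hPC (D.zpowers_le D.midRot_mem)⟩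
        have hz1 : π z ≠ 1 := fun e => hπodd z e (by rw [← Subgroup.orderOf_coe, hz])
        have hzJ : (π z : G) = J := (D.eq_one_or_mid hπz hπz2).resolve_left fun e => hz1 (Subtype.ext e)
        have hker : π (j * z) = 1 := by
          rw [map_mul, hπP j (D.zpowers_le D.midRot_mem)]
          exact Subtype.ext (by show J * (π z : G) = 1; rw [hzJ, hJJ])
        have hjz : j * z = 1 := by
          by_contra hne
          refine hπodd _ hker (dvd_of_eq (orderOf_eq_prime ?_ hne).symm)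
          have hjc : Commute j z := Subtype.ext ((hC z).mp z.2).eq
          rw [hjc.mul_pow, sq z, hz2, mul_one]
          exact Subtype.ext (by rw [Subgroup.coe_pow, sq]; exact hJJ)
        refine hJn ?_
        have e : (z : G) = J := by
          rw [show z = j⁻¹ from eq_inv_of_mul_eq_one_right hjz, Subgroup.coe_inv]
          exact inv_eq_of_mul_eq_one_right hJJ
        rw [← e, Subgroup.coe_pow]
        exact pow_mem (Subgroup.mem_zpowers _) _
      exact (hΘodd _ (by rw [← Nat.not_even_iff_odd, even_iff_two_dvd]; exact hg1)).symm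
  -- the number of involutions in `C`
  have hI : ((I₀.card : ℕ) : ℂ) = (Nat.card C : ℂ) / (Nat.card (Subgroup.centralizer ({J, τ} : Set G)) : ℂ)
      + (Nat.card C : ℂ) / (Nat.card (Subgroup.centralizer ({J, σ * τ} : Set G)) : ℂ) := by
    have hcl : ∀ w : C, (Nat.card {x : C // IsConj w x} : ℂ)
        = (Nat.card C : ℂ) / (Nat.card (Subgroup.centralizer ({J, (w : G)} : Set G)) : ℂ) := by
      intro w
      have h := Char.card_conjugates_mul_card_centralizer w
      have e : Nat.card (Subgroup.centralizer ({w} : Set C)) = Nat.card (Subgroup.centralizer ({J, (w : G)} : Set G)) := by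
        have hiff : ∀ g : G, g ∈ Subgroup.centralizer ({J, (w : G)} : Set G) ↔ g ∈ C ∧ Commute (w : G) g := by
          intro g
          simp [Subgroup.mem_centralizer_iff, hC, Commute, SemiconjBy]
        refine Nat.card_congr
          { toFun := fun g => ⟨((g : C) : G), (hiff _).mpr ⟨g.1.2,
              congrArg Subtype.val (SecondMain.commute_iff_mem_centralizer_singleton.mp g.2).eq⟩⟩
            invFun := fun g => ⟨⟨g.1, ((hiff _).mp g.2).1⟩,
              SecondMain.commute_iff_mem_centralizer_singleton.mpr (Subtype.ext ((hiff _).mp g.2).2.eq)⟩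
            left_inv := fun g => rfl
            right_inv := fun g => rfl }
      rw [e] at h
      rw [eq_div_iff (Nat.cast_ne_zero.mpr Nat.card_pos.ne')]
      exact_mod_cast h
    rw [← hcl ⟨τ, hPC hτ⟩, ← hcl ⟨σ * τ, hPC (mul_mem hσ hτ)⟩, ← Nat.cast_add]
    congr 1
    rw [Nat.card_eq_fintype_card, Nat.card_eq_fintype_card, Fintype.card_subtype, Fintype.card_subtype,
      ← card_union_of_disjoint]
    · congr 1
      ext x
      simp only [I₀, mem_filter, mem_univ, true_and, mem_union, hclass]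
    · refine disjoint_filter.mpr fun x _ h1 h2 => ?_
      obtain ⟨c, hc⟩ := isConj_iff.mp (h1.trans h2.symm)
      have h := congrArg (fun g => (π g : G)) hc
      simp only [map_mul, map_inv, Subgroup.coe_mul, Subgroup.coe_inv] at h
      rw [hπP ⟨τ, hPC hτ⟩ hτ, hπP ⟨σ * τ, hPC (mul_mem hσ hτ)⟩ (mul_mem hσ hτ)] at h
      change (π c : G) * τ * (π c : G)⁻¹ = σ * τ at h
      obtain ⟨i, hi⟩ := hmem _ (π c).2
      have h' := hflip 1
      rw [zpow_one] at h'
      have hτi : τ⁻¹ = τ := inv_eq_of_mul_eq_one_right hτ2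
      have e : τ * σ ^ (-2 * i + 1) = τ * 1 ∨ τ * σ ^ (2 * i + 1) = τ * 1 := by
        rcases hi with e | e <;> rw [e] at h
        · left
          rw [h', hflip, mul_assoc, ← zpow_neg, ← zpow_add, mul_left_cancel_iff] at h
          rw [show -2 * i + 1 = (-i + -i) + 1 by ring, zpow_add_one, h, ← zpow_add_one, neg_add_cancel, zpow_zero]
        · right
          rw [h', mul_inv_rev, hτi, mul_assoc τ (σ ^ i), hflip, ← zpow_neg, ← mul_assoc τ τ, hτ2, one_mul,
            ← mul_assoc, ← zpow_add, hflip, mul_left_cancel_iff] at h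
          rw [show 2 * i + 1 = -(-i + -i) + 1 by ring, zpow_add_one, h, ← zpow_add_one, neg_add_cancel, zpow_zero]
      rcases e with e | e <;>
      · rw [mul_left_cancel_iff, ← orderOf_dvd_iff_zpow_eq_one, hσo] at e
        have := dvd_trans (show (2 : ℤ) ∣ ((2 ^ (a + 2) : ℕ) : ℤ) from ⟨2 ^ (a + 1), by push_cast; ring⟩) e
        omega
  -- assembly
  obtain ⟨x₁, hx₁, hx₁e, hdeg⟩ := ClassCount.exists_degree_eq A
  have hK : (K.card : ℂ) * (Nat.card C : ℂ) = (Nat.card G : ℂ) := by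
    have h := ClassCount.card_class_mul_card_centralizer J
    rw [Nat.card_eq_fintype_card, Fintype.card_subtype] at h
    exact_mod_cast h
  have hAJ : (A : G → ℂ) J = δ := hval _ (by omega) (by omega)
  have hXJ : (X j0 : G → ℂ) J = -2 * δ := by
    rw [hJ, hX j0 _ (by omega) (by omega)]
    simp only [j0, zero_add, one_mul, hζh]
    norm_num
    ring
  have hX1 : (δ : ℂ) * (X j0 : G → ℂ) 1 = 1 + δ * x₁ := by
    rw [← hx₁e]
    exact ((hodd 1 (by simp) j0).2).symm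
  have hX10 : (X j0 : G → ℂ) 1 ≠ 0 := Char.IsIrrCharacter.apply_one_ne_zero (X j0).2
  have hK0 : (K.card : ℂ) ≠ 0 := Nat.cast_ne_zero.mpr (card_ne_zero.mpr ⟨J, hKmem.mpr hJ2⟩)
  have hxC : (x₁ : ℂ) ≠ 0 := Nat.cast_ne_zero.mpr hx₁.ne'
  have hxd : (x₁ : ℂ) + δ ≠ 0 := fun e => by
    have : (δ : ℂ) * (X j0 : G → ℂ) 1 = 0 := by
      rw [hX1]; linear_combination (δ : ℂ) * e - hδδ
    exact mul_ne_zero (left_ne_zero_of_mul_eq_one hδδ) hX10 this
  have hmain : ∑ x ∈ K, ∑ y ∈ K, Θ (x * y) = (K.card : ℂ) * (2 * (I₀.card : ℂ) ^ 2) := by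
    rw [hsplit, sum_congr rfl hFJ, sum_const, nsmul_eq_mul, hF]
  have hone : ∑ x ∈ K, ∑ y ∈ K, (1 : ℂ) = (K.card : ℂ) ^ 2 := by simp [sq]
  simp only [Θ, sum_sub_distrib, sum_add_distrib, ← mul_sum, sum_sum_class A J, sum_sum_class (X j0) J,
    hone, hAJ, hXJ, hx₁e, K] at hmain
  rw [show (X j0 : G → ℂ) 1 = δ * (1 + δ * x₁) by rw [← hX1, ← mul_assoc, hδδ, one_mul]] at hmain
  have hfin : (Nat.card G : ℂ) * ((x₁ : ℂ) - δ) ^ 2 = 2 * (x₁ : ℂ) * ((x₁ : ℂ) + δ) * (Nat.card C : ℂ) ^ 3 *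
      (1 / (Nat.card (Subgroup.centralizer ({J, τ} : Set G)) : ℂ)
        + 1 / (Nat.card (Subgroup.centralizer ({J, σ * τ} : Set G)) : ℂ)) ^ 2 := by
    refine mul_left_cancel₀ hK0 ?_
    rw [← hK]
    have h1 : (I₀.card : ℂ) = (Nat.card C : ℂ) * (1 / (Nat.card (Subgroup.centralizer ({J, τ} : Set G)) : ℂ)
        + 1 / (Nat.card (Subgroup.centralizer ({J, σ * τ} : Set G)) : ℂ)) := by rw [hI]; ring
    rw [h1] at hmain
    have hd : (1 : ℂ) + δ * x₁ ≠ 0 := hX1 ▸ mul_ne_zero (left_ne_zero_of_mul_eq_one hδδ) hX10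
    have hT : (Nat.card (Subgroup.centralizer ({J, τ} : Set G)) : ℂ) ≠ 0 := Nat.cast_ne_zero.mpr Nat.card_pos.ne'
    have hU : (Nat.card (Subgroup.centralizer ({J, σ * τ} : Set G)) : ℂ) ≠ 0 := Nat.cast_ne_zero.mpr Nat.card_pos.ne'
    rcases hδ with r | r <;> rw [r] at hmain hd ⊢ <;> push_cast at hmain hd ⊢ <;>
      simp only [K, one_mul, neg_mul, ← sub_eq_add_neg] at hmain hd ⊢ <;>
      field_simp at hmain ⊢ <;>
      first | linear_combination hmain | linear_combination -hmain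
  refine ⟨fun e => ?_, ?_⟩
  · rw [hdeg] at e
    have e' : (x₁ : ℂ) = δ := by rw [← e]; simp
    rw [← e', sub_self, zero_pow two_ne_zero, mul_zero, eq_comm] at hfin
    have hp1 : ((Nat.card (Subgroup.centralizer ({J, τ} : Set G)) : ℝ)) > 0 := by exact_mod_cast Nat.card_pos
    have hp2 : ((Nat.card (Subgroup.centralizer ({J, σ * τ} : Set G)) : ℝ)) > 0 := by exact_mod_cast Nat.card_pos
    have hc : ((Nat.card C : ℝ)) > 0 := by exact_mod_cast Nat.card_pos
    have hx' : ((x₁ : ℝ)) > 0 := by exact_mod_cast hx₁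
    have hpos : 0 < 2 * (x₁ : ℝ) * ((x₁ : ℝ) + x₁) * (Nat.card C : ℝ) ^ 3 *
        (1 / (Nat.card (Subgroup.centralizer ({J, τ} : Set G)) : ℝ)
          + 1 / (Nat.card (Subgroup.centralizer ({J, σ * τ} : Set G)) : ℝ)) ^ 2 := by positivity
    refine hpos.ne' (Complex.ofReal_eq_zero.mp ?_)
    push_cast
    exact hfin
  · rw [hdeg]
    refine Rat.cast_injective (α := ℂ) ?_
    push_cast
    exact hfin

/-- An order formula for groups with dihedral Sylow 2-subgroups and one class of involutions. Let G be a finite group whose Sylow 2-subgroup P = ⟨σ, τ⟩ is dihedral of order 2^n ≥ 8 (σ of order 2^(n−1), τ an involution inverting σ), let J be the central involution σ^(2^(n−2)), and suppose J, τ and στ are conjugate in G. Fix M over 2 and let χ₁ be an irreducible character in the principal 2-block taking one constant value δ₁ = ±1 at every non-identity power of σ, with χ₁ ≠ 1. Then, with x₁ = χ₁(1) and c(·) denoting orders of centralizers,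 x₁ ≠ δ₁ and #G · (x₁ − δ₁)² = 2·x₁(x₁ + δ₁)·c(J)³·(1/c(J, τ) + 1/c(J, στ))², where c(J, y) is the order of the joint centralizer of J and y. -/
theorem result {G : Type*} [Group G] [Finite G] (M : Ideal Cfsg.AlgInt) (hM : Cfsg.IsPModular 2 M) (n : ℕ) (hn : 3 ≤ n) (P : Sylow 2 G) (σ τ : G) (hσ : σ ∈ (P : Subgroup G)) (hτ : τ ∈ (P : Subgroup G)) (hσo : orderOf σ = 2 ^ (n - 1)) (hτo : orderOf τ = 2) (hrel : τ * σ * τ⁻¹ = σ⁻¹) (hgen : Subgroup.closure ({σ, τ} : Set G) = (P : Subgroup G)) (hconj : IsConj (σ ^ (2 ^ (n - 2))) τ ∧ IsConj (σ ^ (2 ^ (n - 2))) (σ * τ)) (χ₁ : Cfsg.IrrCharacter G) (hχ₁ : χ₁ ∈ Cfsg.principalBlock M G) (h1 : (χ₁ : G → ℂ) ≠ (fun _ => 1)) (δ₁ : ℤ) (hδ₁ : δ₁ = 1 ∨ δ₁ = -1) (hval : ∀ l : ℕ, 0 < l → l < 2 ^ (n - 1) → (χ₁ : G → ℂ) (σ ^ l) = δ₁) : (Cfsg.charDegree (χ₁ : G → ℂ) : ℤ) ≠ δ₁ ∧ (Nat.card G : ℚ) * ((Cfsg.charDegree (χ₁ : G → ℂ) : ℚ) - δ₁) ^ 2 = 2 * (Cfsg.charDegree (χ₁ : G → ℂ) : ℚ) * ((Cfsg.charDegree (χ₁ :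 G → ℂ) : ℚ) + δ₁) * (Nat.card (Subgroup.centralizer ({σ ^ (2 ^ (n - 2))} : Set G)) : ℚ) ^ 3 * (1 / (Nat.card (Subgroup.centralizer ({σ ^ (2 ^ (n - 2)), τ} : Set G)) : ℚ) + 1 / (Nat.card (Subgroup.centralizer ({σ ^ (2 ^ (n - 2)), σ * τ} : Set G)) : ℚ)) ^ 2 := by
  obtain ⟨a, rfl⟩ : ∃ a, n = a + 3 := ⟨n - 3, by omega⟩
  simp only [show a + 3 - 1 = a + 2 by omega, show a + 3 - 2 = a + 1 by omega] at *
  exact main M hM a P σ τ hσ hτ hσo hτo hrel hgen hconj χ₁ hχ₁ h1 δ₁ hδ₁ hval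

end Cfsg.Agent.S4482
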