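import Cfsg.Statements.S4066
import Cfsg.Agent.EqLemmas

set_option autoImplicit false
open Cfsg

namespace Cfsg.Agent.S4066

section

variable {G : Type*} [Group G] [Finite G]

/-- An element fixed by `g` inside a centralizer forces `g` into its normalizer. -/
theorem mem_normalizer_of_fixed (hTI : ∀ x : G, Cfsg.IsTISubset (Subgroup.centralizer ({x} : Set G) : Set G))
    {x g z : G} (hz : z ∈ Subgroup.centralizer ({x} : Set G)) (hz1 : z ≠ 1) (hgz : g * z = z * g) :
    g ∈ Subgroup.normalizer (Subgroup.centralizer ({x} : Set G) : Set G) := by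
  by_contra hg
  refine hz1 (hTI x g hg z hz ?_)
  rwa [hgz, mul_inv_cancel_right]

theorem pelement_mem (hTI : ∀ x : G, Cfsg.IsTISubset (Subgroup.centralizer ({x} : Set G) : Set G))
    {p : ℕ} [Fact p.Prime] {d : G} (hd : d ≠ 1) (U : Sylow p G)
    (hU : (U : Subgroup G) ≤ Subgroup.normalizer (Subgroup.centralizer ({d} : Set G) : Set G))
    {x : G} (hx : x ∈ Subgroup.centralizer ({d} : Set G)) (hxp : ∃ k : ℕ, x ^ p ^ k = 1) :
    x ∈ (U : Subgroup G) := by
  classical
  set K := Subgroup.centralizer ({d} : Set G) with hK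
  have hmemK : ∀ y : G, y ∈ K → d ∈ Subgroup.centralizer ({y} : Set G) := fun y hy =>
    Subgroup.mem_centralizer_singleton_iff.2 (Subgroup.mem_centralizer_singleton_iff.1 hy).symm
  -- every Sylow subgroup of `K` contains every `p`-element of `K`
  have hall : ∀ (y : K), (∃ k : ℕ, y ^ p ^ k = 1) → ∀ T : Sylow p K, y ∈ (T : Subgroup K) := by
    intro y ⟨k, hk⟩ T
    have hcomm : ∀ a b : K, Commute (a * y * a⁻¹) (b * y * b⁻¹) := by
      intro a b
      have h0 : ∀ c : K, Commute (c * y * c⁻¹) y := by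
        intro c
        have hy' : ((c⁻¹ : K) : G) ∈ Subgroup.normalizer (Subgroup.centralizer ({(y : G)} : Set G) : Set G) :=
          mem_normalizer_of_fixed hTI (hmemK _ y.2) hd (Subgroup.mem_centralizer_singleton_iff.1 (c⁻¹).2)
        have hyy : (y : G) ∈ Subgroup.centralizer ({(y : G)} : Set G) := Subgroup.mem_centralizer_singleton_iff.2 rfl
        have h1 := Subgroup.mem_centralizer_singleton_iff.1 ((Subgroup.mem_normalizer_iff''.1 hy' (y : G)).1 hyy)
        refine Subtype.ext ?_
        simpa using h1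
      have h1 := h0 (b⁻¹ * a)
      calc a * y * a⁻¹ * (b * y * b⁻¹) = b * ((b⁻¹ * a) * y * (b⁻¹ * a)⁻¹ * y) * b⁻¹ := by group
        _ = b * (y * ((b⁻¹ * a) * y * (b⁻¹ * a)⁻¹)) * b⁻¹ := by rw [h1.eq]
        _ = _ := by group
    set N := Subgroup.normalClosure ({y} : Set K) with hN
    have hNp : IsPGroup p N := by
      have hc : ∀ a ∈ N, (a ^ p ^ k = 1) ∧ ∀ b : K, Commute (b * y * b⁻¹) a := by
        intro a ha
        induction ha using Subgroup.closure_induction with
        | mem a ha =>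
          obtain ⟨z, hz, hza⟩ := Group.mem_conjugatesOfSet_iff.1 ha
          rw [Set.mem_singleton_iff] at hz
          subst hz
          obtain ⟨c, rfl⟩ := isConj_iff.1 hza
          refine ⟨?_, fun b => hcomm b c⟩
          rw [conj_pow, hk, mul_one, mul_inv_cancel]
        | one => exact ⟨one_pow _, fun b => Commute.one_right _⟩
        | mul a b ha hb iha ihb =>
          refine ⟨?_, fun c => (iha.2 c).mul_right (ihb.2 c)⟩
          have hab : Commute a b := by
            clear iha
            induction ha using Subgroup.closure_induction with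
            | mem a ha =>
              obtain ⟨z, hz, hza⟩ := Group.mem_conjugatesOfSet_iff.1 ha
              rw [Set.mem_singleton_iff] at hz
              subst hz
              obtain ⟨c, rfl⟩ := isConj_iff.1 hza
              exact ihb.2 c
            | one => exact Commute.one_left _
            | mul u v _ _ hu hv => exact hu.mul_left hv
            | inv u _ hu => exact hu.inv_left
          rw [hab.mul_pow, iha.1, ihb.1, one_mul]
        | inv a ha iha => exact ⟨by rw [inv_pow, iha.1, inv_one], fun c => (iha.2 c).inv_right⟩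
      exact fun a => ⟨k, Subtype.ext (hc a a.2).1⟩
    have hsup : (T : Subgroup K) ⊔ N = T := T.3 (T.isPGroup'.to_sup_of_normal_right hNp) le_sup_left
    exact hsup.le ((le_sup_right : N ≤ _) (Subgroup.subset_normalClosure rfl))
  obtain ⟨S⟩ := (inferInstance : Nonempty (Sylow p K))
  set R := (S : Subgroup K).map K.subtype with hR
  have hRmem : ∀ y, y ∈ R ↔ y ∈ K ∧ ∃ k : ℕ, y ^ p ^ k = 1 := by
    intro y
    constructor
    · rintro ⟨a, ha, rfl⟩
      obtain ⟨k, hk⟩ := S.isPGroup' ⟨a, ha⟩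
      exact ⟨a.2, k, by simpa using congrArg (fun u : (S : Subgroup K) => ((u : K) : G)) hk⟩
    · rintro ⟨hy, k, hk⟩
      exact ⟨⟨y, hy⟩, hall ⟨y, hy⟩ ⟨k, Subtype.ext (by simpa using hk)⟩ S, rfl⟩
  have hUR : (U : Subgroup G) ≤ Subgroup.normalizer (R : Set G) := by
    have key : ∀ u ∈ (U : Subgroup G), ∀ y ∈ R, u * y * u⁻¹ ∈ R := by
      intro u hu y hy
      obtain ⟨hyK, k, hk⟩ := (hRmem y).1 hy
      exact (hRmem _).2 ⟨(Subgroup.mem_normalizer_iff.1 (hU hu) y).1 hyK, k, by
        rw [conj_pow, hk, mul_one, mul_inv_cancel]⟩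
    intro u hu
    refine Subgroup.mem_normalizer_iff.2 fun y => ⟨key u hu y, fun hy => ?_⟩
    have := key u⁻¹ (inv_mem hu) _ hy
    simpa [mul_assoc] using this
  have hsup : (U : Subgroup G) ⊔ R = U :=
    U.3 (U.isPGroup'.to_sup_of_normal_right' (S.isPGroup'.map K.subtype) hUR) le_sup_left
  exact hsup.le ((le_sup_right : R ≤ _) ((hRmem x).2 ⟨hx, hxp⟩))

end

/-- Let G be a finite group in which the centralizer of every element meets each of its conjugates by elements outside its normalizer trivially. Then any two distinct Sylow p-subgroups of G, for any prime p, intersect trivially. -/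
theorem result {G : Type*} [Group G] [Finite G] (hTI : ∀ x : G, Cfsg.IsTISubset (Subgroup.centralizer ({x} : Set G) : Set G))
    {p : ℕ} [Fact p.Prime] (P Q : Sylow p G) (hPQ : P ≠ Q) : (P : Subgroup G) ⊓ (Q : Subgroup G) = ⊥ := by
  classical
  by_contra hD
  obtain ⟨⟨d, hdP, hdQ⟩, hd⟩ : ∃ d : ↥((P : Subgroup G) ⊓ (Q : Subgroup G)), (d : G) ≠ 1 := by
    by_contra hcon
    push Not at hcon
    exact hD ((Subgroup.eq_bot_iff_forall _).2 fun a ha => hcon ⟨a, ha⟩)
  have hpow : ∀ (U : Sylow p G) (a : G), a ∈ (U : Subgroup G) → ∃ k : ℕ, a ^ p ^ k = 1 := fun U a ha => by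
    obtain ⟨k, hk⟩ := U.isPGroup' ⟨a, ha⟩
    exact ⟨k, congrArg Subtype.val hk⟩
  have hzen : ∀ U : Sylow p G, d ∈ (U : Subgroup G) → ∃ z : G, z ∈ (U : Subgroup G) ∧ z ≠ 1 ∧
      (∀ a ∈ (U : Subgroup G), a * z = z * a) := by
    intro U hdU
    haveI : Nontrivial (U : Subgroup G) := ⟨⟨⟨d, hdU⟩, 1, fun e => hd (congrArg Subtype.val e)⟩⟩
    haveI := U.isPGroup'.center_nontrivial
    obtain ⟨z, hz⟩ := exists_ne (1 : Subgroup.center (U : Subgroup G))
    exact ⟨((z : (U : Subgroup G)) : G), (z : (U : Subgroup G)).2, fun e => hz (Subtype.ext (Subtype.ext e)),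
      fun a ha => congrArg Subtype.val (Subgroup.mem_center_iff.1 z.2 ⟨a, ha⟩)⟩
  obtain ⟨z, hzP, hz1, hzc⟩ := hzen P hdP
  obtain ⟨z', hz'Q, hz'1, hz'c⟩ := hzen Q hdQ
  have hzd : z ∈ Subgroup.centralizer ({d} : Set G) := Subgroup.mem_centralizer_singleton_iff.2 (hzc d hdP).symm
  have hz'd : z' ∈ Subgroup.centralizer ({d} : Set G) := Subgroup.mem_centralizer_singleton_iff.2 (hz'c d hdQ).symm
  -- the centre of `P` lies in `Q`
  have hzQ : z ∈ (Q : Subgroup G) := pelement_mem hTI hd Q
    (fun g hg => mem_normalizer_of_fixed hTI hz'd hz'1 (hz'c g hg)) hzd (hpow P z hzP)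
  have hz'z : z' ∈ Subgroup.centralizer ({z} : Set G) := Subgroup.mem_centralizer_singleton_iff.2 (hz'c z hzQ).symm
  have hQN : (Q : Subgroup G) ≤ Subgroup.normalizer (Subgroup.centralizer ({z} : Set G) : Set G) :=
    fun g hg => mem_normalizer_of_fixed hTI hz'z hz'1 (hz'c g hg)
  apply hPQ
  refine Sylow.ext (Subgroup.eq_of_le_of_card_ge (fun a ha => pelement_mem hTI hz1 Q hQN
    (Subgroup.mem_centralizer_singleton_iff.2 (hzc a ha)) (hpow P a ha)) ?_)
  rw [P.card_eq_multiplicity, Q.card_eq_multiplicity]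

end Cfsg.Agent.S4066
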