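import Cfsg.Statements.S2202
import Cfsg.Agent.Lib.AbelCent.Split
-- import your own Cfsg.Agent.* helpers here

set_option autoImplicit false
open Cfsg

namespace Cfsg.Agent.S2202

/-- Finite groups in which the centralizer of every involution is abelian. Let G be a finite group of even order in which the centralizer of every element of order 2 is abelian. Then the Sylow 2-subgroups of G are cyclic, or a Sylow 2-subgroup of G is normal, or G is isomorphic to the direct product of SL₂(F) for a finite field F of characteristic two and an abelian group of odd order. -/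
theorem result {G : Type*} [Group G] [Finite G] (heven : Even (Nat.card G)) (h : ∀ t : G, orderOf t = 2 → IsMulCommutative ↥(Subgroup.centralizer ({t} : Set G))) :
    (∀ P : Sylow 2 G, IsCyclic ↥P) ∨ (∀ P : Sylow 2 G, (P : Subgroup G).Normal) ∨
    (∃ (F : Type) (_ : Field F) (_ : Fintype F) (A : Type) (_ : CommGroup A) (_ : Finite A), CharP F 2 ∧ Odd (Nat.card A) ∧ Nonempty (G ≃* Matrix.SpecialLinearGroup (Fin 2) F × A)) := by
  classical
  haveI : Fact (Nat.Prime 2) := ⟨Nat.prime_two⟩
  have hab : ∀ t x y : G, CAEven.Inv t → Commute x t → Commute y t → Commute x y := by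
    intro t x y ht hx hy
    have ho : orderOf t = 2 := orderOf_eq_prime (by rw [pow_two]; exact ht.2) ht.1
    exact congrArg Subtype.val ((h t ho).1.1
      ⟨x, Subgroup.mem_centralizer_singleton_iff.2 hx.eq⟩
      ⟨y, Subgroup.mem_centralizer_singleton_iff.2 hy.eq⟩)
  let S : Sylow 2 G := default
  haveI : Nontrivial (S : Subgroup G) := Finite.one_lt_card_iff_nontrivial.1
    (lt_of_lt_of_le one_lt_two (Nat.le_of_dvd Nat.card_pos (S.dvd_card_of_dvd_card heven.two_dvd)))
  haveI := S.2.center_nontrivial
  obtain ⟨i, hi, hcard⟩ :=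
    (S.2.to_subgroup (Subgroup.center (S : Subgroup G))).nontrivial_iff_card.1 this
  obtain ⟨z, hz⟩ := exists_prime_orderOf_dvd_card' (G := Subgroup.center (S : Subgroup G)) 2
    (hcard ▸ dvd_pow_self 2 hi.ne')
  have hz' : orderOf ((z : (S : Subgroup G)) : G) = 2 := by
    rw [Subgroup.orderOf_coe, Subgroup.orderOf_coe, hz]
  have hzI : CAEven.Inv ((z : (S : Subgroup G)) : G) := ⟨fun e => by
    rw [e, orderOf_one] at hz'; omega, by
    have h1 := pow_orderOf_eq_one ((z : (S : Subgroup G)) : G)
    rwa [hz', pow_two] at h1⟩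
  have hzc : ∀ s ∈ (S : Subgroup G), Commute s ((z : (S : Subgroup G)) : G) := fun s hs =>
    congrArg Subtype.val (Subgroup.mem_center_iff.1 z.2 ⟨s, hs⟩)
  generalize ((z : (S : Subgroup G)) : G) = z₀ at hzI hzc
  by_cases huni : ∀ w : G, CAEven.Inv w → Commute w z₀ → w = z₀
  · left
    intro P
    haveI : IsMulCommutative (S : Subgroup G) := ⟨⟨fun a b => Subtype.ext
      (hab z₀ a b hzI (hzc a a.2) (hzc b b.2)).eq⟩⟩
    haveI : IsCyclic (S : Subgroup G) := AbelCent.isCyclic_of_unique_inv S.2 fun u v hu hv hiu hiv =>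
      (huni u hiu (hzc u hu)).trans (huni v hiv (hzc v hv)).symm
    exact isCyclic_of_surjective (Sylow.equiv S P) (MulEquiv.surjective _)
  · push Not at huni
    right
    by_cases htop : Subgroup.normalizer
        ((Subgroup.centralizer ({z₀} : Set G) : Subgroup G) : Set G) = ⊤
    · left
      haveI : (Subgroup.centralizer ({z₀} : Set G)).Normal := Subgroup.normalizer_eq_top_iff.1 htop
      have hle : (S : Subgroup G) ≤ Subgroup.centralizer ({z₀} : Set G) := fun s hs =>
        Subgroup.mem_centralizer_singleton_iff.2 (hzc s hs).eq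
      have hmem : ∀ x ∈ Subgroup.centralizer ({z₀} : Set G),
          x ∈ Subgroup.normalizer ((S : Subgroup G) : Set G) := by
        intro x hx
        refine Subgroup.mem_normalizer_iff.2 fun s => ⟨fun hs => ?_, fun hs => ?_⟩
        · rwa [(hab z₀ x s hzI (Subgroup.mem_centralizer_singleton_iff.1 hx) (hzc s hs)).eq,
            mul_inv_cancel_right]
        · have hc := hab z₀ x (x * s * x⁻¹) hzI (Subgroup.mem_centralizer_singleton_iff.1 hx)
            (hzc _ hs)
          have he : x * (x * s * x⁻¹) * x⁻¹ = x * s * x⁻¹ := by rw [hc.eq, mul_inv_cancel_right]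
          have he' : x * s * x⁻¹ = s := mul_left_cancel (mul_right_cancel he)
          rwa [he'] at hs
      -- `S` is the Sylow subgroup of the abelian normal subgroup `C(z₀)`
      have hSn : (S : Subgroup G).Normal := by
        refine ⟨fun s hs g => ?_⟩
        have hg : g * s * g⁻¹ ∈ Subgroup.centralizer ({z₀} : Set G) :=
          ‹(Subgroup.centralizer ({z₀} : Set G)).Normal›.conj_mem s (hle hs) g
        have hp : IsPGroup 2 (Subgroup.zpowers (g * s * g⁻¹)) := by
          obtain ⟨j, hj⟩ := IsPGroup.iff_orderOf.1 S.2 ⟨s, hs⟩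
          rw [Subgroup.orderOf_mk] at hj
          refine IsPGroup.of_card (n := j) ?_
          rw [Nat.card_zpowers, show g * s * g⁻¹ = MulAut.conj g s from rfl, MulEquiv.orderOf_eq, hj]
        have h1 : (S : Subgroup G) ⊔ Subgroup.zpowers (g * s * g⁻¹) = S :=
          S.3 (S.2.to_sup_of_normal_left' hp (Subgroup.zpowers_le.2 (hmem _ hg))) le_sup_left
        exact h1 ▸ Subgroup.mem_sup_right (Subgroup.mem_zpowers _)
      intro P
      haveI := Sylow.unique_of_normal S hSn
      rwa [Subsingleton.elim P S]
    · right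
      let E : AbelCent.Setup G := ⟨hab, S, z₀, hzI, hzc, htop, huni⟩
      exact E.split

end Cfsg.Agent.S2202
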