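import Cfsg.Statements.S4134
import Cfsg.Agent.Lib.ClassIndex.TwoSizes

set_option autoImplicit false
open Cfsg

namespace Cfsg.Agent.S4134

/-- Let G be a finite group whose conjugacy classes have exactly two sizes, 1 and n > 1. Then n is a power of a prime p and G is the direct product of a p-group and an abelian group of order prime to p: its Sylow p-subgroup P is normal with an abelian normal complement centralizing it; moreover P has an abelian normal subgroup A with P/A of exponent dividing p. -/
theorem result {G : Type*} [Group G] [Finite G] (n : ℕ) (hn : 1 < n)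
    (h : ∀ x : G, (Subgroup.centralizer ({x} : Set G)).index = 1 ∨ (Subgroup.centralizer ({x} : Set G)).index = n) (hex : ∃ x : G, (Subgroup.centralizer ({x} : Set G)).index = n) :
    ∃ (p : ℕ) (_ : Fact p.Prime) (a : ℕ), n = p ^ a ∧ ∀ P : Sylow p G, (P : Subgroup G).Normal ∧
      (∃ N : Subgroup G, N.Normal ∧ N.IsComplement' (P : Subgroup G) ∧ IsMulCommutative N ∧
        ∀ x ∈ N, ∀ y ∈ (P : Subgroup G), x * y = y * x) ∧
      ∃ A : Subgroup (P : Subgroup G), A.Normal ∧ IsMulCommutative A ∧ ∀ y : (P : Subgroup G), y ^ p ∈ A := by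
  classical
  have hZ : ∀ x : G, x ∉ Subgroup.center G → (Subgroup.centralizer ({x} : Set G)).index = n := by
    intro x hx
    refine (h x).resolve_left fun h1 => hx ?_
    rw [Subgroup.index_eq_one] at h1
    rw [Subgroup.mem_center_iff]
    exact fun g => Subgroup.mem_centralizer_singleton_iff.1 (h1 ▸ Subgroup.mem_top g)
  obtain ⟨x₀, hx₀i⟩ := hex
  have hx₀ : x₀ ∉ Subgroup.center G := by
    intro hz
    have : Subgroup.centralizer ({x₀} : Set G) = ⊤ := by
      rw [Subgroup.eq_top_iff']
      exact fun g => Subgroup.mem_centralizer_singleton_iff.2 (Subgroup.mem_center_iff.1 hz g)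
    rw [this, Subgroup.index_top] at hx₀i
    omega
  have hEq : TwoSizes.EqCent G := fun x y hx hy => by
    refine Nat.eq_of_mul_eq_mul_right (Nat.pos_of_ne_zero (show n ≠ 0 by omega)) ?_
    calc Nat.card (Subgroup.centralizer ({x} : Set G)) * n = Nat.card G := by
          rw [← hZ x hx, Subgroup.card_mul_index]
      _ = _ := by rw [← hZ y hy, Subgroup.card_mul_index]
  obtain ⟨p, hp, hcent⟩ := TwoSizes.exists_prime_central hEq hx₀
  haveI := Fact.mk hp
  have hsyl : ∀ q : ℕ, q.Prime → q ≠ p → ∀ S : Sylow q G, (S : Subgroup G) ≤ Subgroup.center G := by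
    intro q hq hqp S x hx
    haveI := Fact.mk hq
    obtain ⟨k, hk⟩ := IsPGroup.iff_orderOf.1 S.2 ⟨x, hx⟩
    rw [← Subgroup.orderOf_coe] at hk
    exact hcent q k x hq hqp hk
  refine ⟨p, ⟨hp⟩, n.primeFactorsList.length, Nat.eq_prime_pow_of_unique_prime_dvd (show n ≠ 0 by omega) ?_, fun P => ?_⟩
  · intro q hq hqn
    by_contra hqp
    haveI := Fact.mk hq
    obtain ⟨S⟩ : Nonempty (Sylow q G) := inferInstance
    refine S.not_dvd_index (hqn.trans ?_)
    rw [← hx₀i]
    refine Subgroup.index_dvd_of_le ((hsyl q hq hqp S).trans ?_)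
    exact TwoSizes.center_le x₀
  have hPn : (P : Subgroup G).Normal := by
    rw [← Subgroup.normalizer_eq_top_iff]
    refine Subgroup.eq_top_of_card_eq _ (Nat.dvd_antisymm (Subgroup.card_subgroup_dvd_card _) ?_)
    rw [← Nat.factorization_prime_le_iff_dvd Nat.card_pos.ne' Nat.card_pos.ne']
    intro q hq
    haveI := Fact.mk hq
    rw [← hq.pow_dvd_iff_le_factorization Nat.card_pos.ne']
    by_cases hqp : q = p
    · subst hqp
      rw [← P.card_eq_multiplicity]
      exact Subgroup.card_dvd_of_le Subgroup.le_normalizer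
    · obtain ⟨S⟩ : Nonempty (Sylow q G) := inferInstance
      rw [← S.card_eq_multiplicity]
      refine Subgroup.card_dvd_of_le ((hsyl q hq hqp S).trans fun z hz => ?_)
      refine Subgroup.mem_normalizer_fintype fun y hy => ?_
      rw [← Subgroup.mem_center_iff.1 hz y, mul_inv_cancel_right]
      exact hy
  refine ⟨hPn, ?_, ?_⟩
  · let N : Subgroup G :=
      { carrier := {z | z ∈ Subgroup.center G ∧ (orderOf z).Coprime p}
        one_mem' := ⟨one_mem _, by rw [orderOf_one]; exact Nat.coprime_one_left p⟩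
        mul_mem' := fun {a b} ha hb => ⟨Subgroup.mul_mem _ ha.1 hb.1,
          (ha.2.mul_left hb.2).coprime_dvd_left
            (show Commute a b from Subgroup.mem_center_iff.1 hb.1 a).orderOf_mul_dvd_mul_orderOf⟩
        inv_mem' := fun {a} ha => ⟨Subgroup.inv_mem _ ha.1, by rw [orderOf_inv]; exact ha.2⟩ }
    have hNZ : N ≤ Subgroup.center G := fun z hz => hz.1
    haveI hNn : N.Normal := ⟨fun z hz g => by
      rw [Subgroup.mem_center_iff.1 (hNZ hz) g, mul_inv_cancel_right]; exact hz⟩
    have hcop : (Nat.card N).Coprime (Nat.card (P : Subgroup G)) := by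
      rw [P.card_eq_multiplicity]
      refine Nat.Coprime.pow_right _ ((hp.coprime_iff_not_dvd.2 fun hd => ?_).symm)
      obtain ⟨z, hz⟩ := exists_prime_orderOf_dvd_card' (G := N) p hd
      have h2 : (orderOf (z : G)).Coprime p := z.2.2
      rw [Subgroup.orderOf_coe, hz, Nat.coprime_self] at h2
      exact hp.ne_one h2
    have hmul : Nat.card N * Nat.card (P : Subgroup G) = Nat.card G := by
      refine Nat.dvd_antisymm (hcop.mul_dvd_of_dvd_of_dvd N.card_subgroup_dvd_card
        (P : Subgroup G).card_subgroup_dvd_card) ?_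
      rw [← Nat.factorization_prime_le_iff_dvd Nat.card_pos.ne'
        (mul_pos Nat.card_pos Nat.card_pos).ne']
      intro q hq
      haveI := Fact.mk hq
      rw [← hq.pow_dvd_iff_le_factorization (mul_pos Nat.card_pos Nat.card_pos).ne']
      by_cases hqp : q = p
      · subst hqp
        rw [← P.card_eq_multiplicity]
        exact dvd_mul_left _ _
      · obtain ⟨S⟩ : Nonempty (Sylow q G) := inferInstance
        rw [← S.card_eq_multiplicity]
        refine Dvd.dvd.mul_right (Subgroup.card_dvd_of_le (K := N) fun z hz => ⟨hsyl q hq hqp S hz, ?_⟩) _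
        obtain ⟨k, hk⟩ := IsPGroup.iff_orderOf.1 S.2 ⟨z, hz⟩
        rw [← Subgroup.orderOf_coe] at hk
        rw [hk]
        exact Nat.Coprime.pow_left k ((Nat.coprime_primes hq hp).2 hqp)
    exact ⟨N, hNn, Subgroup.isComplement'_of_coprime hmul hcop,
      ⟨⟨fun a b => Subtype.ext (Subgroup.mem_center_iff.1 b.2.1 a)⟩⟩,
      fun x hx y _ => (Subgroup.mem_center_iff.1 (hNZ hx) y).symm⟩
  · exact TwoSizes.exists_abelian_pow_mem hEq (P : Subgroup G) P.2

end Cfsg.Agent.S4134
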