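import Cfsg.Statements.S4146
import Cfsg.Agent.Lib.ClassIndex.FourSizesNatural

set_option autoImplicit false
open Cfsg

namespace Cfsg.Agent.S4146

section Helpers

open Subgroup
open Cfsg.Agent.ClassGraph (sz)
open Cfsg.Agent.FourSizes

variable {G : Type*} [Group G] [Finite G] {n m : ℕ}

theorem sz_prim (F : Four G n m) {q : ℕ} {y : G} (hy : Prim q y) (hyZ : y ∉ center G) :
    (q ∣ n ∧ sz y = n) ∨ (q ∣ m ∧ sz y = m) := by
  rcases F.prime_dvd_of_noncentral hy hyZ with h | h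
  · exact Or.inl ⟨h, (F.sz_of_dvd_n hy hyZ h).resolve_right (F.sz_ne_nm hy)⟩
  · exact Or.inr ⟨h, (F.symm.sz_of_dvd_n hy hyZ h).resolve_right (F.symm.sz_ne_nm hy)⟩

theorem exists_prime_pow (F : Four G n m) : ∃ p α : ℕ, p.Prime ∧ α ≠ 0 ∧ n = p ^ α := by
  let S : Set G := {y | ∃ q, Prim q y ∧ sz y = m}
  set H : Subgroup G := centralizer S with hH
  have hn1 := F.hn
  have hm1 := F.hm
  have : H.Normal := ⟨fun h hh g => mem_centralizer_iff.2 fun y ⟨q, hy, hys⟩ => by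
    have h1 := mem_centralizer_iff.1 hh (g⁻¹ * y * g)
      ⟨q, hy.of_mem_cls ⟨g⁻¹, by group⟩, (TwoLargest.sz_of_mem_cls ⟨g⁻¹, by group⟩).trans hys⟩
    calc y * (g * h * g⁻¹) = g * (g⁻¹ * y * g * h) * g⁻¹ := by group
      _ = g * (h * (g⁻¹ * y * g)) * g⁻¹ := by rw [h1]
      _ = g * h * g⁻¹ * y := by group⟩
  have hnH : ∀ (q : ℕ) (a : G), Prim q a → sz a = n → a ∈ H := fun q a ha has =>
    mem_centralizer_iff.2 fun y ⟨q', hy, hys⟩ => (F.commute_of_sizes ha hy has hys).symm.eq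
  have hsz : ∀ x ∈ H, sz x = 1 ∨ sz x = n := by
    intro x hx
    obtain ⟨q, hq, hqm⟩ := Nat.exists_prime_and_dvd (show m ≠ 1 by omega)
    haveI := Fact.mk hq
    obtain ⟨Q⟩ : Nonempty (Sylow q G) := inferInstance
    have hle : (Q : Subgroup G) ≤ centralizer ({x} : Set G) := fun y hy => by
      obtain ⟨k, hk⟩ := IsPGroup.iff_orderOf.1 Q.2 ⟨y, hy⟩
      rw [orderOf_mk] at hk
      by_cases hyZ : y ∈ center G
      · exact mem_cent_of_center_left hyZ
      · rcases sz_prim F ⟨hq, k, hk⟩ hyZ with ⟨h, -⟩ | ⟨-, h⟩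
        · exact absurd (Nat.eq_one_of_dvd_coprimes F.hcop h hqm) hq.ne_one
        · exact mem_cent.2 (mem_centralizer_iff.1 hx y ⟨q, ⟨hq, k, hk⟩, h⟩)
    rcases F.sizes x with h | h | h | h
    · exact Or.inl h
    · exact Or.inr h
    · exact absurd (hqm.trans (h ▸ index_dvd_of_le hle)) Q.not_dvd_index
    · exact absurd ((hqm.trans (dvd_mul_left m n)).trans (h ▸ index_dvd_of_le hle)) Q.not_dvd_index
  have hidx : ∀ x : H, (centralizer ({x} : Set H)).index = sz (x : G) := fun x => by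
    rw [index_cent_coe]
    refine relIndex_eq_index (TwoSizes.eq_top_of_forall_prime_pow _ fun q k y hq hy => ?_)
    by_cases hyZ : y ∈ center G
    · exact mem_sup_left (mem_cent_of_center_left hyZ)
    rcases sz_prim F ⟨hq, k, hy⟩ hyZ with ⟨-, h⟩ | ⟨-, h⟩
    · exact mem_sup_right (hnH q y ⟨hq, k, hy⟩ h)
    · exact mem_sup_left (mem_cent.2 (mem_centralizer_iff.1 x.2 y ⟨q, ⟨hq, k, hy⟩, h⟩))
  obtain ⟨q, a, ha, has⟩ := F.exists_prim
  obtain ⟨p, hp, α, hnα, -⟩ := Cfsg.Agent.S4134.result (G := H) n hn1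
    (fun x => by rw [hidx]; exact hsz x x.2) ⟨⟨a, hnH q a ha has⟩, by rw [hidx]; exact has⟩
  exact ⟨p, α, hp.out, fun h => by subst h; rw [hnα, pow_zero] at hn1; omega, hnα⟩

theorem main (F : Four G n m) : Group.IsNilpotent G ∧ IsPrimePow n ∧ IsPrimePow m := by
  obtain ⟨p, α, hp, hα, hn⟩ := exists_prime_pow F
  obtain ⟨q, β, hq, hβ, hm⟩ := exists_prime_pow F.symm
  refine ⟨?_, hn ▸ hp.prime.isPrimePow.pow hα, hm ▸ hq.prime.isPrimePow.pow hβ⟩
  have hcomm : ∀ (r s : ℕ) (y z : G), Prim r y → Prim s z → r ≠ s → Commute y z := by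
    intro r s y z hy hz hne
    by_cases hyZ : y ∈ center G
    · exact ((mem_center_iff.1 hyZ z).symm : y * z = z * y)
    by_cases hzZ : z ∈ center G
    · exact mem_center_iff.1 hzZ y
    rcases sz_prim F hy hyZ with ⟨hr, hys⟩ | ⟨hr, hys⟩ <;> rcases sz_prim F hz hzZ with ⟨hs, hzs⟩ | ⟨hs, hzs⟩
    · exact absurd (((Nat.prime_dvd_prime_iff_eq hy.1 hp).1 (hy.1.dvd_of_dvd_pow (hn ▸ hr))).trans
        ((Nat.prime_dvd_prime_iff_eq hz.1 hp).1 (hz.1.dvd_of_dvd_pow (hn ▸ hs))).symm) hne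
    · exact F.commute_of_sizes hy hz hys hzs
    · exact (F.commute_of_sizes hz hy hzs hys).symm
    · exact absurd (((Nat.prime_dvd_prime_iff_eq hy.1 hq).1 (hy.1.dvd_of_dvd_pow (hm ▸ hr))).trans
        ((Nat.prime_dvd_prime_iff_eq hz.1 hq).1 (hz.1.dvd_of_dvd_pow (hm ▸ hs))).symm) hne
  refine (Group.isNilpotent_of_finite_tfae.out 0 3 rfl rfl).2 fun r hr P => ?_
  rw [← normalizer_eq_top_iff]
  refine Subgroup.eq_top_of_card_eq _ (Nat.dvd_antisymm (card_subgroup_dvd_card _) ?_)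
  rw [← Nat.factorization_prime_le_iff_dvd Nat.card_pos.ne' Nat.card_pos.ne']
  intro s hs
  haveI := Fact.mk hs
  rw [← hs.pow_dvd_iff_le_factorization Nat.card_pos.ne']
  by_cases hsr : s = r
  · subst hsr
    rw [← P.card_eq_multiplicity]
    exact card_dvd_of_le le_normalizer
  obtain ⟨S⟩ : Nonempty (Sylow s G) := inferInstance
  rw [← S.card_eq_multiplicity]
  refine card_dvd_of_le (le_trans ?_ (centralizer_le_normalizer _))
  intro y hy
  refine mem_centralizer_iff.2 fun z hz => ?_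
  obtain ⟨k, hk⟩ := IsPGroup.iff_orderOf.1 S.2 ⟨y, hy⟩
  obtain ⟨l, hl⟩ := IsPGroup.iff_orderOf.1 P.2 ⟨z, hz⟩
  rw [orderOf_mk] at hk hl
  exact (hcomm s r y z ⟨hs, k, hk⟩ ⟨hr.out, l, hl⟩ hsr).symm.eq

end Helpers

/-- Let G be a finite group whose conjugacy class sizes are exactly 1, n, m and nm for coprime integers n, m > 1. Then G is nilpotent and n and m are prime powers. -/
theorem result {G : Type*} [Group G] [Finite G] (n m : ℕ) (hn : 1 < n) (hm : 1 < m) (hcop : n.Coprime m)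
    (h : Set.range (fun x : G => (Subgroup.centralizer ({x} : Set G)).index) = ({1, n, m, n * m} : Set ℕ)) :
    Group.IsNilpotent G ∧ IsPrimePow n ∧ IsPrimePow m := by
  have hs : ∀ x : G, Cfsg.Agent.ClassGraph.sz x ∈ ({1, n, m, n * m} : Set ℕ) := fun x => h ▸ ⟨x, rfl⟩
  have hex : ∀ k ∈ ({1, n, m, n * m} : Set ℕ), ∃ x : G, Cfsg.Agent.ClassGraph.sz x = k := fun k hk => by
    rw [← h] at hk
    exact hk
  exact main ⟨hn, hm, hcop, fun x => by simpa using hs x, hex n (by simp), hex m (by simp),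
    hex (n * m) (by simp)⟩

end Cfsg.Agent.S4146
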