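import Cfsg.Statements.S4034
import Cfsg.Agent.Lib.Solvable.Hall
import Cfsg.Agent.Lib.Solvable.Fitting
import Cfsg.Agent.Lib.CharApp.Burnside

set_option autoImplicit false
open Cfsg
open scoped Pointwise

namespace Cfsg.Agent.S4034

universe u

/-- every `p'`-element has `p`-power index centralizer -/
def ClassCond (p : ℕ) (G : Type u) [Group G] : Prop :=
  ∀ x : G, (orderOf x).Coprime p → ∃ k : ℕ, (Subgroup.centralizer ({x} : Set G)).index = p ^ k

/-- there is an abelian `p`-complement -/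
def Compl (p : ℕ) (G : Type u) [Group G] : Prop :=
  ∃ H : Subgroup G, IsMulCommutative H ∧ ¬ p ∣ Nat.card H ∧ ∃ k : ℕ, H.index = p ^ k

theorem ncard_class {G : Type u} [Group G] [Finite G] (x : G) :
    (ConjClasses.mk x).carrier.ncard = (Subgroup.centralizer ({x} : Set G)).index := by
  have h : (ConjClasses.mk x).carrier = MulAction.orbit (ConjAct G) x := by
    ext y
    rw [ConjAct.mem_orbit_conjAct, ConjClasses.mem_carrier_iff_mk_eq, ConjClasses.mk_eq_mk_iff_isConj]
  rw [h, ← Nat.card_coe_set_eq, Nat.card_congr (MulAction.orbitEquivQuotientStabilizer (ConjAct G) x),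
    ← Subgroup.index_eq_card]
  have e : MulAction.stabilizer (ConjAct G) x = (Subgroup.centralizer ({x} : Set G)).comap ConjAct.ofConjAct.toMonoidHom := by
    ext g
    refine Iff.trans ?_ (Subgroup.mem_centralizer_singleton_iff (g := x) (k := ConjAct.ofConjAct g)).symm
    rw [← mul_inv_eq_iff_eq_mul]
    rfl
  rw [e]
  exact Subgroup.index_comap_of_surjective _ (MulEquiv.surjective _)

theorem relIndex_dvd_index {G : Type u} [Group G] [Finite G] (H N : Subgroup G) [N.Normal] :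
    (H.subgroupOf N).index ∣ H.index := by
  have e : (H.subgroupOf N).index = H.relIndex (H ⊔ N) := by
    have h1 : Nat.card (H.subgroupOf N) = Nat.card (H ⊓ N : Subgroup G) :=
      Nat.card_congr ((Subgroup.subgroupOfEquivOfLe (inf_le_right : H ⊓ N ≤ N)).toEquiv.symm.trans
        (MulEquiv.subgroupCongr (Subgroup.inf_subgroupOf_right H N)).toEquiv) |>.symm
    have h2 := (H.subgroupOf N).card_mul_index
    have h3 := (H.subgroupOf (H ⊔ N)).card_mul_index
    rw [Nat.card_congr (Subgroup.subgroupOfEquivOfLe (le_sup_left : H ≤ H ⊔ N)).toEquiv] at h3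
    have h4 := Cfsg.Agent.Solvable.card_sup_mul_card_inf H N
    rw [h1] at h2
    rw [← h3, ← h2, Subgroup.relIndex] at *
    refine Nat.eq_of_mul_eq_mul_left (Nat.mul_pos (Nat.card_pos (α := H)) (Nat.card_pos (α := (H ⊓ N : Subgroup G)))) ?_
    linarith
  rw [e]
  exact Dvd.intro _ (H.relIndex_mul_index (le_sup_left : H ≤ H ⊔ N))

theorem solvable_step {G : Type u} [Group G] [Finite G] {p : ℕ} (hp : p.Prime)
    (hN : ∀ N : Subgroup G, N.Normal → N ≠ ⊥ → N ≠ ⊤ → Group.IsSolvable N)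
    (hQ : ∀ (N : Subgroup G) (_ : N.Normal), N ≠ ⊥ → Group.IsSolvable (G ⧸ N))
    (hx : ∀ q : ℕ, q.Prime → q ∣ Nat.card G → q ≠ p →
      ∃ x : G, x ≠ 1 ∧ ∃ k, (Subgroup.centralizer ({x} : Set G)).index = p ^ k) :
    Group.IsSolvable G := by
  by_cases hs : ∃ N : Subgroup G, N.Normal ∧ N ≠ ⊥ ∧ N ≠ ⊤
  · obtain ⟨N, hNn, h1, h2⟩ := hs
    haveI := hN N hNn h1 h2
    haveI := hQ N hNn h1
    exact solvable_of_ker_le_range N.subtype (QuotientGroup.mk' N)
      (by rw [QuotientGroup.ker_mk', Subgroup.range_subtype])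
  push Not at hs
  haveI : Fact p.Prime := ⟨hp⟩
  by_cases hpg : IsPGroup p G
  · haveI := hpg.isNilpotent
    infer_instance
  rcases subsingleton_or_nontrivial G with h | h
  · infer_instance
  haveI : IsSimpleGroup G := ⟨fun N hNn => by
    by_cases h1 : N = ⊥
    · exact Or.inl h1
    · exact Or.inr (hs N hNn h1)⟩
  obtain ⟨q, hq, hqd, hqp⟩ : ∃ q : ℕ, q.Prime ∧ q ∣ Nat.card G ∧ q ≠ p := by
    by_contra hno
    push Not at hno
    exact hpg (IsPGroup.of_card (Nat.eq_prime_pow_of_unique_prime_dvd Nat.card_pos.ne' (fun {q} hq hd => hno q hq hd)))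
  obtain ⟨x, hx1, k, hk⟩ := hx q hq hqd hqp
  have hpr := Cfsg.Agent.CharApp.prime_card_of_simple_prime_pow_class p k hp x hx1 hk
  haveI := Fact.mk hpr
  haveI := isCyclic_of_prime_card (α := G) rfl
  exact isSolvable_of_comm (fun a b => (IsCyclic.commutative (α := G)).is_comm.comm a b)

theorem index_centralizer_subgroup_dvd {G : Type u} [Group G] [Finite G] (N : Subgroup G) [N.Normal] (x : N) :
    (Subgroup.centralizer ({x} : Set N)).index ∣ (Subgroup.centralizer ({(x : G)} : Set G)).index := by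
  have h : Subgroup.centralizer ({x} : Set N) = (Subgroup.centralizer ({(x : G)} : Set G)).subgroupOf N := by
    ext y
    simp only [Subgroup.mem_subgroupOf, Subgroup.mem_centralizer_singleton_iff, Subtype.ext_iff, Subgroup.coe_mul]
  rw [h]
  exact relIndex_dvd_index _ N

theorem ClassCond.subgroup {G : Type u} [Group G] [Finite G] {p : ℕ} (hp : p.Prime) (h : ClassCond p G)
    (N : Subgroup G) [N.Normal] : ClassCond p N := by
  intro x hx
  obtain ⟨k, hk⟩ := h (x : G) (by rwa [orderOf_submonoid])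
  obtain ⟨j, _, hj⟩ := (Nat.dvd_prime_pow hp).mp (hk ▸ index_centralizer_subgroup_dvd N x)
  exact ⟨j, hj⟩

theorem ClassCond.quotient {G : Type u} [Group G] [Finite G] {p : ℕ} (hp : p.Prime) (h : ClassCond p G)
    (N : Subgroup G) [N.Normal] : ClassCond p (G ⧸ N) := by
  intro y hy
  obtain ⟨g, rfl⟩ := QuotientGroup.mk'_surjective N y
  obtain ⟨a, u, hu, hgo⟩ := Nat.exists_eq_pow_mul_and_not_dvd (orderOf_pos g).ne' p hp.ne_one
  have hc : (orderOf (QuotientGroup.mk' N g)).Coprime (p ^ a) := Nat.Coprime.pow_right a hy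
  obtain ⟨e, he1, he2⟩ := Nat.chineseRemainder hc 1 0
  obtain ⟨b, hb⟩ := Nat.modEq_zero_iff_dvd.mp he2
  have hxy : QuotientGroup.mk' N (g ^ e) = QuotientGroup.mk' N g := by
    rw [map_pow]
    conv_rhs => rw [← pow_one (QuotientGroup.mk' N g)]
    exact pow_eq_pow_iff_modEq.mpr he1
  have hxu : (g ^ e) ^ u = 1 := by
    rw [← pow_mul, hb, mul_right_comm, pow_mul, ← hgo, pow_orderOf_eq_one, one_pow]
  obtain ⟨k, hk⟩ := h (g ^ e)
    (((hp.coprime_iff_not_dvd.mpr hu).symm).coprime_dvd_left (orderOf_dvd_of_pow_eq_one hxu))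
  rw [← hxy]
  have hle : (Subgroup.centralizer ({g ^ e} : Set G)).map (QuotientGroup.mk' N) ≤
      Subgroup.centralizer ({QuotientGroup.mk' N (g ^ e)} : Set (G ⧸ N)) := by
    rintro _ ⟨c, hc', rfl⟩
    rw [Subgroup.mem_centralizer_singleton_iff, ← map_mul, ← map_mul, Subgroup.mem_centralizer_singleton_iff.mp hc']
  have hd := (Subgroup.index_dvd_of_le hle).trans
    (Subgroup.index_map_dvd (Subgroup.centralizer ({g ^ e} : Set G)) (QuotientGroup.mk'_surjective N))
  obtain ⟨j, _, hj⟩ := (Nat.dvd_prime_pow hp).mp (hk ▸ hd)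
  exact ⟨j, hj⟩

theorem Compl.subgroup {G : Type u} [Group G] [Finite G] {p : ℕ} (hp : p.Prime) (h : Compl p G)
    (N : Subgroup G) [N.Normal] : Compl p N := by
  obtain ⟨H, hab, hpH, k, hk⟩ := h
  refine ⟨H.subgroupOf N, ⟨⟨fun a b => ?_⟩⟩, fun hd => hpH (hd.trans ?_), ?_⟩
  · exact Subtype.ext (Subtype.ext (congrArg Subtype.val (hab.is_comm.comm ⟨_, a.2⟩ ⟨_, b.2⟩) :))
  · exact Subgroup.card_dvd_of_injective ((N.subtype.comp (H.subgroupOf N).subtype).codRestrict H (fun a => a.2))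
      (fun a b e => Subtype.ext (Subtype.ext (congrArg Subtype.val e :)))
  · have h1 : (H.subgroupOf N).index ∣ H.index := relIndex_dvd_index H N
    obtain ⟨j, _, hj⟩ := (Nat.dvd_prime_pow hp).mp (hk ▸ h1)
    exact ⟨j, hj⟩

theorem Compl.quotient {G : Type u} [Group G] [Finite G] {p : ℕ} (hp : p.Prime) (h : Compl p G)
    (N : Subgroup G) [N.Normal] : Compl p (G ⧸ N) := by
  obtain ⟨H, hab, hpH, k, hk⟩ := h
  refine ⟨H.map (QuotientGroup.mk' N), ⟨⟨?_⟩⟩, fun hd => hpH (hd.trans (Subgroup.card_map_dvd H _)), ?_⟩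
  · rintro ⟨_, a, ha, rfl⟩ ⟨_, b, hb, rfl⟩
    apply Subtype.ext
    show QuotientGroup.mk' N a * QuotientGroup.mk' N b = QuotientGroup.mk' N b * QuotientGroup.mk' N a
    rw [← map_mul, ← map_mul]
    exact congrArg _ (congrArg Subtype.val (hab.is_comm.comm ⟨a, ha⟩ ⟨b, hb⟩))
  · obtain ⟨j, _, hj⟩ := (Nat.dvd_prime_pow hp).mp (hk ▸ Subgroup.index_map_dvd H (QuotientGroup.mk'_surjective N))
    exact ⟨j, hj⟩

theorem solvable_of_classCond {p : ℕ} (hp : p.Prime) :
    ∀ (n : ℕ) (G : Type u) [Group G] [Finite G], Nat.card G = n → ClassCond p G → Group.IsSolvable G := by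
  intro n
  induction n using Nat.strong_induction_on with
  | _ n IH =>
  intro G _ _ hc h
  refine solvable_step hp (fun N hNn _ h2 => ?_) (fun N hNn h1 => ?_) (fun q hq hqd hqp => ?_)
  · exact IH _ (hc ▸ N.card_le_card_group.lt_of_ne (fun e => h2 (Subgroup.eq_top_of_card_eq N e))) N rfl (h.subgroup hp N)
  · refine IH _ ?_ (G ⧸ N) rfl (h.quotient hp N)
    rw [← hc, Subgroup.card_eq_card_quotient_mul_card_subgroup N]
    exact lt_mul_of_one_lt_right Nat.card_pos (N.one_lt_card_iff_ne_bot.mpr h1)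
  · haveI := Fact.mk hq
    obtain ⟨x, hx⟩ := exists_prime_orderOf_dvd_card' q hqd
    refine ⟨x, fun e => ?_, h x (hx ▸ (Nat.coprime_primes hq hp).mpr hqp)⟩
    rw [e, orderOf_one] at hx
    exact hq.ne_one hx.symm

theorem solvable_of_compl {p : ℕ} (hp : p.Prime) :
    ∀ (n : ℕ) (G : Type u) [Group G] [Finite G], Nat.card G = n → Compl p G → Group.IsSolvable G := by
  intro n
  induction n using Nat.strong_induction_on with
  | _ n IH =>
  intro G _ _ hc h
  refine solvable_step hp (fun N hNn _ h2 => ?_) (fun N hNn h1 => ?_) (fun q hq hqd hqp => ?_)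
  · exact IH _ (hc ▸ N.card_le_card_group.lt_of_ne (fun e => h2 (Subgroup.eq_top_of_card_eq N e))) N rfl (h.subgroup hp N)
  · refine IH _ ?_ (G ⧸ N) rfl (h.quotient hp N)
    rw [← hc, Subgroup.card_eq_card_quotient_mul_card_subgroup N]
    exact lt_mul_of_one_lt_right Nat.card_pos (N.one_lt_card_iff_ne_bot.mpr h1)
  · obtain ⟨H, hab, hpH, k, hk⟩ := h
    haveI := Fact.mk hq
    have hqH : q ∣ Nat.card H := by
      rw [← H.card_mul_index, hk] at hqd
      refine (hq.dvd_mul.mp hqd).resolve_right (fun hd => ?_)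
      exact hqp ((Nat.prime_dvd_prime_iff_eq hq hp).mp (hq.dvd_of_dvd_pow hd))
    obtain ⟨x, hx⟩ := exists_prime_orderOf_dvd_card' q hqH
    refine ⟨x, fun e => ?_, ?_⟩
    · rw [show x = 1 from Subtype.ext e, orderOf_one] at hx
      exact hq.ne_one hx.symm
    · have hle : H ≤ Subgroup.centralizer ({(x : G)} : Set G) := fun y hy =>
        Subgroup.mem_centralizer_singleton_iff.mpr (congrArg Subtype.val (hab.is_comm.comm ⟨y, hy⟩ x))
      obtain ⟨j, _, hj⟩ := (Nat.dvd_prime_pow hp).mp (hk ▸ Subgroup.index_dvd_of_le hle)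
      exact ⟨j, hj⟩

open Cfsg.Agent.Solvable in
theorem isPiHall_compl {G : Type u} [Group G] [Finite G] {p : ℕ} (hp : p.Prime) {H : Subgroup G}
    (h1 : ¬ p ∣ Nat.card H) (h2 : ∃ k, H.index = p ^ k) : Cfsg.IsPiHall ({p}ᶜ : Set ℕ) H := by
  obtain ⟨k, hk⟩ := h2
  refine ⟨fun r hr hd => ?_, fun r hr hr2 hd => hr2 ?_⟩
  · intro (e : r = p)
    exact h1 (e ▸ hd)
  · exact (Nat.prime_dvd_prime_iff_eq hr hp).mp (hr.dvd_of_dvd_pow (hk ▸ hd))

open Cfsg.Agent.Solvable in
theorem compl_of_classCond {p : ℕ} (hp : p.Prime) :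
    ∀ (n : ℕ) (G : Type u) [Group G] [Finite G], Nat.card G = n → ClassCond p G → Compl p G := by
  intro n
  induction n using Nat.strong_induction_on with
  | _ n IH =>
  intro G _ _ hc h
  haveI := solvable_of_classCond hp n G hc h
  haveI : Fact p.Prime := ⟨hp⟩
  obtain ⟨H, hH⟩ := exists_piHall_of_solvable (G := G) ({p}ᶜ : Set ℕ)
  have hpH : ¬ p ∣ Nat.card H := fun hd => hH.1 p hp hd rfl
  have hHi : ∃ k, H.index = p ^ k := ⟨_, Nat.eq_prime_pow_of_unique_prime_dvd Subgroup.index_ne_zero_of_finite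
    (fun {r} hr hd => by_contra (fun hne => hH.2 r hr hne hd))⟩
  refine ⟨H, ?_, hpH, hHi⟩
  by_cases hR : ∃ R : Subgroup G, R.Normal ∧ IsPGroup p R ∧ R ≠ ⊥
  · obtain ⟨R, hRn, hRp, hR1⟩ := hR
    obtain ⟨K, hKab, hKp, hKi⟩ := IH _ (by
      rw [← hc, Subgroup.card_eq_card_quotient_mul_card_subgroup R]
      exact lt_mul_of_one_lt_right Nat.card_pos (R.one_lt_card_iff_ne_bot.mpr hR1)) (G ⧸ R) rfl (h.quotient hp R)
    obtain ⟨g, hg⟩ := piHall_conj_of_solvable (isPiHall_compl hp hKp hKi)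
      (isPiHall_map hH (QuotientGroup.mk'_surjective R))
    refine ⟨⟨fun a b => ?_⟩⟩
    obtain ⟨m, hm⟩ := IsPGroup.iff_card.mp hRp
    have hinj : ∀ a b : H, QuotientGroup.mk' R (a : G) = QuotientGroup.mk' R (b : G) → a = b := by
      intro a b e
      have h1 : (a : G)⁻¹ * b ∈ R := QuotientGroup.eq.mp e
      have h3 : ((a : G)⁻¹ * b) = 1 := by
        refine orderOf_eq_one_iff.mp (Nat.eq_one_of_dvd_coprimes (Nat.Coprime.pow_right m (hp.coprime_iff_not_dvd.mpr hpH).symm)
          (Subgroup.orderOf_dvd_natCard H (H.mul_mem (H.inv_mem a.2) b.2)) ?_)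
        exact hm ▸ Subgroup.orderOf_dvd_natCard R h1
      exact Subtype.ext (inv_mul_eq_one.mp h3)
    refine hinj _ _ ?_
    have ha : QuotientGroup.mk' R (a : G) ∈ MulAut.conj g • K := hg ▸ ⟨_, a.2, rfl⟩
    have hb : QuotientGroup.mk' R (b : G) ∈ MulAut.conj g • K := hg ▸ ⟨_, b.2, rfl⟩
    obtain ⟨a', ha', hae⟩ := ha
    obtain ⟨b', hb', hbe⟩ := hb
    simp only [Subgroup.coe_mul, map_mul, ← hae, ← hbe]
    exact (Commute.map (congrArg Subtype.val (hKab.is_comm.comm ⟨a', ha'⟩ ⟨b', hb'⟩) :) _).eq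
  · push Not at hR
    have hFn : (Cfsg.fittingSubgroup G).Normal := Subgroup.sSup_normal _ fun _ h => h.1
    have hFH : ∀ K : Subgroup G, Cfsg.IsPiHall ({p}ᶜ : Set ℕ) K → Cfsg.fittingSubgroup G ≤ K := by
      intro K hK
      refine sSup_le (fun N hN => ?_)
      obtain ⟨hNn, hNil⟩ := hN
      haveI := hNn
      refine le_of_isPiHall_of_normal hK (fun r hr hd (e : r = p) => ?_)
      subst e
      obtain ⟨P⟩ := (inferInstance : Nonempty (Sylow r N))
      haveI := hNil
      haveI hPc : (P : Subgroup N).Characteristic := Sylow.characteristic_of_normal P inferInstance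
      have hPn : ((P : Subgroup N).map N.subtype).Normal := ConjAct.normal_of_characteristic_of_normal
      have := hR _ hPn (P.isPGroup'.map _)
      rw [Subgroup.map_eq_bot_iff_of_injective _ N.subtype_injective] at this
      exact P.ne_bot_of_dvd_card hd this
    have hcent : H ≤ Subgroup.centralizer (Cfsg.fittingSubgroup G : Set G) := by
      intro x hx
      have hxo : (orderOf x).Coprime p :=
        ((hp.coprime_iff_not_dvd.mpr hpH).symm).coprime_dvd_left (Subgroup.orderOf_dvd_natCard H hx)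
      obtain ⟨k, hk⟩ := h x hxo
      obtain ⟨K, hK⟩ := exists_piHall_of_solvable (G := Subgroup.centralizer ({x} : Set G)) ({p}ᶜ : Set ℕ)
      have hK' : Cfsg.IsPiHall ({p}ᶜ : Set ℕ) (K.map (Subgroup.centralizer ({x} : Set G)).subtype) := by
        refine ⟨fun r hr hd => hK.1 r hr (by rwa [Subgroup.card_map_of_injective (Subgroup.subtype_injective _)] at hd),
          fun r hr hr2 hd => ?_⟩
        rw [Subgroup.index_map_subtype, hk] at hd
        rcases hr.dvd_mul.mp hd with h1 | h1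
        · exact hK.2 r hr hr2 h1
        · exact hr2 ((Nat.prime_dvd_prime_iff_eq hr hp).mp (hr.dvd_of_dvd_pow h1))
      rw [Subgroup.mem_centralizer_iff]
      intro f hf
      exact Subgroup.mem_centralizer_singleton_iff.mp (Subgroup.map_subtype_le K (hFH _ hK' hf))
    have hHF : H ≤ Cfsg.fittingSubgroup G := hcent.trans (centralizer_fitting_le G)
    exact ⟨⟨fun a b => Subtype.ext ((Subgroup.mem_centralizer_iff.mp (hcent b.2) a (hHF a.2)))⟩⟩

/-- Let G be a finite group and p a prime. Every conjugacy class of p-regular elements of G (elements of order prime to p) has p-power size if and only if G has an abelian p-complement, i.e. an abelian subgroup of order prime to p and p-power index. -/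
theorem result {G : Type*} [Group G] [Finite G] {p : ℕ} (hp : p.Prime) :
    (∀ x : G, (orderOf x).Coprime p → ∃ k : ℕ, (ConjClasses.mk x).carrier.ncard = p ^ k) ↔
    (∃ H : Subgroup G, IsMulCommutative H ∧ ¬ p ∣ Nat.card H ∧ ∃ k : ℕ, H.index = p ^ k) := by
  constructor
  · intro h
    exact compl_of_classCond hp _ G rfl (fun x hx => (h x hx).imp (fun k hk => by rw [← ncard_class]; exact hk))
  · rintro h x hx
    haveI := solvable_of_compl hp _ G rfl h
    obtain ⟨H, hab, hpH, k, hk⟩ := h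
    obtain ⟨g, hg⟩ := Cfsg.Agent.Solvable.exists_conj_ge_of_solvable (isPiHall_compl hp hpH ⟨k, hk⟩)
      (U := Subgroup.zpowers x) (fun r hr hd (e : r = p) => by
        rw [Nat.card_zpowers, e] at hd
        exact (hp.coprime_iff_not_dvd.mp hx.symm) hd)
    have hle : MulAut.conj g • H ≤ Subgroup.centralizer ({x} : Set G) := by
      rintro _ ⟨a, ha, rfl⟩
      obtain ⟨b, hb, hbe⟩ := hg (Subgroup.mem_zpowers x)
      rw [Subgroup.mem_centralizer_singleton_iff, ← hbe]
      exact (Commute.map (congrArg Subtype.val (hab.is_comm.comm ⟨a, ha⟩ ⟨b, hb⟩) :) _).eq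
    have hd := Subgroup.index_dvd_of_le hle
    rw [Cfsg.Agent.Solvable.index_conj, hk] at hd
    obtain ⟨j, _, hj⟩ := (Nat.dvd_prime_pow hp).mp hd
    exact ⟨j, by rw [ncard_class, hj]⟩

end Cfsg.Agent.S4034
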