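import Cfsg.Statements.S4033
import Cfsg.Agent.Lib.TwoPRegSizes.Single
import Cfsg.Agent.Lib.ClassIndex.Basic
import Cfsg.Agent.S4034

set_option autoImplicit false
open Cfsg

namespace Cfsg.Agent.S4033

universe u

/-- A non-central `p'`-element has a non-central power of prime-power order. -/
theorem exists_primary {G : Type u} [Group G] [Finite G] {p : ℕ} (hp : p.Prime) {x : G}
    (hx : x ∉ Subgroup.center G) (hxp : (orderOf x).Coprime p) :
    ∃ (w k : ℕ) (y : G), w.Prime ∧ w ≠ p ∧ orderOf y = w ^ k ∧ y ∈ Subgroup.zpowers x ∧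
      y ∉ Subgroup.center G := by
  by_contra hc
  push Not at hc
  have htop := TwoSizes.eq_top_of_forall_prime_pow ((Subgroup.center G).subgroupOf (Subgroup.zpowers x))
    fun w k y hw hy => by
      rw [Subgroup.mem_subgroupOf]
      rcases Nat.eq_zero_or_pos k with rfl | hk
      · rw [pow_zero, orderOf_eq_one_iff] at hy
        rw [hy]; exact one_mem _
      · refine hc w k y hw ?_ (by rw [Subgroup.orderOf_coe, hy]) y.2
        rintro rfl
        obtain ⟨j, hj⟩ := Subgroup.mem_zpowers_iff.1 y.2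
        have h1 : orderOf (y : G) ∣ orderOf x := by
          rw [orderOf_dvd_iff_pow_eq_one, ← hj, ← zpow_natCast, ← zpow_mul, mul_comm, zpow_mul,
            zpow_natCast, pow_orderOf_eq_one, one_zpow]
        rw [Subgroup.orderOf_coe, hy] at h1
        exact hw.ne_one (Nat.eq_one_of_dvd_coprimes hxp ((dvd_pow_self w hk.ne').trans h1) dvd_rfl)
  exact hx (Subgroup.mem_subgroupOf.1
    (htop ▸ Subgroup.mem_top (⟨x, Subgroup.mem_zpowers x⟩ : Subgroup.zpowers x)))

/-- Two primes and one class size give the setup. -/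
theorem setup {G : Type u} [Group G] [Finite G] {p q r k l : ℕ} (hp : p.Prime)
    (hidx : ∀ x y : G, x ∉ Subgroup.center G → (orderOf x).Coprime p → y ∉ Subgroup.center G →
      (orderOf y).Coprime p → (TwoPRegSizes.cz x).index = (TwoPRegSizes.cz y).index)
    (hq : q.Prime) (hr : r.Prime) (hqp : q ≠ p) (hrp : r ≠ p) (hqr : q ≠ r) {a b : G}
    (ha : orderOf a = q ^ k) (hb : orderOf b = r ^ l)
    (haZ : a ∉ Subgroup.center G) (hbZ : b ∉ Subgroup.center G) : TwoPRegSizes.Setup p G := by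
  open TwoPRegSizes in
  have heq : ∀ u v : G, u ∉ Subgroup.center G → (orderOf u).Coprime p → v ∉ Subgroup.center G →
      (orderOf v).Coprime p → cz u ≤ cz v → cz u = cz v := by
    intro u v hu hup hv hvp hle
    refine Subgroup.eq_of_le_of_card_ge hle (le_of_eq ?_)
    refine Nat.eq_of_mul_eq_mul_right (Nat.pos_of_ne_zero (cz u).index_ne_zero_of_finite) ?_
    rw [(cz u).card_mul_index, hidx u v hu hup hv hvp, (cz v).card_mul_index]
  open TwoPRegSizes in
  -- commuting elements of coprime order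
  have hcop : ∀ u v : G, u ∉ Subgroup.center G → (orderOf u).Coprime p → v ∉ Subgroup.center G →
      (orderOf v).Coprime p → Commute u v → (orderOf u).Coprime (orderOf v) → cz u = cz v := by
    intro u v hu hup hv hvp hc hco
    have huv : u * v ∉ Subgroup.center G := fun h => hu (Subgroup.mem_center_iff.2 fun g =>
      mem_cz.1 (TwoSizes.cent_mul_le hc hco (mem_cz.2 (Subgroup.mem_center_iff.1 h g))))
    have huvp : (orderOf (u * v)).Coprime p := by
      rw [hc.orderOf_mul_eq_mul_orderOf_of_coprime hco]; exact hup.mul_left hvp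
    have h1 := heq _ _ huv huvp hu hup (TwoSizes.cent_mul_le hc hco)
    have h2 := heq _ _ huv huvp hv hvp (by rw [hc.eq]; exact TwoSizes.cent_mul_le hc.symm hco.symm)
    exact h1.symm.trans h2
  open TwoPRegSizes in
  -- every centralizer contains non-central elements of both primes
  have hin : ∀ x : G, x ∉ Subgroup.center G → (orderOf x).Coprime p → ∀ (w i : ℕ) (c : G), w.Prime →
      w ≠ p → orderOf c = w ^ i → c ∉ Subgroup.center G →
      ∃ (j : ℕ) (c' : G), c' ∈ cz x ∧ orderOf c' = w ^ j ∧ c' ∉ Subgroup.center G := by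
    intro x hx hxp w i c hw hwp hc hcZ
    haveI := Fact.mk hw
    by_contra hn
    push Not at hn
    obtain ⟨W⟩ : Nonempty (Sylow w (cz x)) := inferInstance
    set W' : Subgroup G := (W : Subgroup (cz x)).map (cz x).subtype with hW'def
    have hW'Z : W' ≤ Subgroup.center G := by
      rintro _ ⟨u, hu, rfl⟩
      obtain ⟨j, hj⟩ := IsPGroup.iff_orderOf.1 W.isPGroup' ⟨u, hu⟩
      exact hn j _ u.2 (by rwa [Subgroup.coe_subtype, Subgroup.orderOf_coe, ← Subgroup.orderOf_mk u hu])
    have hcp := coprime_of_primePow hw hp hwp hc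
    have hW' : IsPGroup w W' := W.isPGroup'.map _
    have hzc : IsPGroup w ↥(Subgroup.zpowers c) := IsPGroup.of_card (n := i) (by rw [Nat.card_zpowers, hc])
    haveI hWn : W'.Normal := ⟨fun v hv g => by
      rwa [Subgroup.mem_center_iff.1 (hW'Z hv) g, mul_inv_cancel_right]⟩
    have hY : IsPGroup w ↥(W' ⊔ Subgroup.zpowers c) := hW'.to_sup_of_normal_left hzc
    obtain ⟨e, he⟩ := IsPGroup.iff_card.1 hY
    have hle : W' ⊔ Subgroup.zpowers c ≤ cz c :=
      sup_le (hW'Z.trans (center_le_cz c)) (by rw [Subgroup.zpowers_le]; exact self_mem_cz c)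
    have hdvd : w ^ e ∣ Nat.card (cz x) := by
      have hcard : Nat.card (cz c) = Nat.card (cz x) := by
        refine Nat.eq_of_mul_eq_mul_right (Nat.pos_of_ne_zero (cz c).index_ne_zero_of_finite) ?_
        rw [(cz c).card_mul_index, hidx c x hcZ hcp hx hxp, (cz x).card_mul_index]
      exact hcard ▸ he ▸ Subgroup.card_dvd_of_le hle
    rw [hw.pow_dvd_iff_le_factorization Nat.card_pos.ne'] at hdvd
    refine hcZ (hW'Z ?_)
    have hWY : W' = W' ⊔ Subgroup.zpowers c := by
      refine Subgroup.eq_of_le_of_card_ge le_sup_left ?_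
      rw [he, hW'def, Subgroup.card_map_of_injective (cz x).subtype_injective, W.card_eq_multiplicity]
      exact Nat.pow_le_pow_right hw.pos hdvd
    rw [hWY]; exact Subgroup.mem_sup_right (Subgroup.mem_zpowers c)
  open TwoPRegSizes in
  refine ⟨hp, ?_, fun x y hx hxp hy hyp w _ _ => by rw [hidx x y hx hxp hy hyp],
    ⟨q, r, k, l, a, b, hq, hr, hqp, hrp, hqr, ha, hb, haZ, hbZ⟩⟩
  intro x y g hx hxp hyp hyx hgx
  by_cases hy : y ∈ Subgroup.center G
  · exact Subgroup.mem_center_iff.1 hy g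
  suffices h : cz y = cz x from mem_cz.1 (h ▸ hgx)
  obtain ⟨w, i, x', hw, hwp, hx', hxm, hx'Z⟩ := exists_primary hp hx hxp
  obtain ⟨v, j, y', hv, hvp, hy', hym, hy'Z⟩ := exists_primary hp hy hyp
  have hx'p := coprime_of_primePow hw hp hwp hx'
  have hy'p := coprime_of_primePow hv hp hvp hy'
  have hlex : ∀ {u u' : G}, u' ∈ Subgroup.zpowers u → cz u ≤ cz u' := by
    intro u u' hu g hg
    obtain ⟨e, rfl⟩ := Subgroup.mem_zpowers_iff.1 hu
    exact mem_cz.2 ((show Commute g u from mem_cz.1 hg).zpow_right e).eq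
  have e1 := heq x x' hx hxp hx'Z hx'p (hlex hxm)
  have e2 := heq y y' hy hyp hy'Z hy'p (hlex hym)
  have hy'x' : y' ∈ cz x' := by
    rw [← e1]
    exact (Subgroup.zpowers_le.2 hyx) hym
  rw [e1, e2]
  by_cases hwv : w = v
  · subst hwv
    -- go through an element of the other prime
    obtain ⟨t, m, c, ht, htp, htw, hc, hcZ⟩ : ∃ (t m : ℕ) (c : G), t.Prime ∧ t ≠ p ∧ t ≠ w ∧
        orderOf c = t ^ m ∧ c ∉ Subgroup.center G := by
      by_cases hqw : q = w
      · exact ⟨r, l, b, hr, hrp, fun h => hqr (hqw.trans h.symm), hb, hbZ⟩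
      · exact ⟨q, k, a, hq, hqp, hqw, ha, haZ⟩
    obtain ⟨m', c', hc'x, hc', hc'Z⟩ := hin x' hx'Z hx'p t m c ht htp hc hcZ
    have hc'p := coprime_of_primePow ht hp htp hc'
    have e3 : cz x' = cz c' := hcop x' c' hx'Z hx'p hc'Z hc'p (mem_cz.1 hc'x).symm
      (TwoSizes.coprime_of_pow hw ht htw.symm hx' hc')
    have hy'c' : y' ∈ cz c' := e3 ▸ hy'x'
    rw [e3]
    exact hcop y' c' hy'Z hy'p hc'Z hc'p (mem_cz.1 hy'c')
      (TwoSizes.coprime_of_pow hw ht htw.symm hy' hc')
  · exact hcop y' x' hy'Z hy'p hx'Z hx'p (mem_cz.1 hy'x')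
      (TwoSizes.coprime_of_pow hv hw (Ne.symm hwv) hy' hx')

/-- If only one prime `≠ p` has non-central elements, `G` is a `{p, q}`-group times a central group. -/
theorem one_prime {G : Type u} [Group G] [Finite G] {p q : ℕ} (hp : p.Prime) (hq : q.Prime)
    (hqp : q ≠ p) (h : ∀ (r l : ℕ) (z : G), r.Prime → r ≠ p → r ≠ q → orderOf z = r ^ l →
      z ∈ Subgroup.center G) :
    ∃ (q : ℕ) (_ : Fact q.Prime) (P : Sylow p G) (Q : Sylow q G) (A : Subgroup G), q ≠ p ∧
        A ≤ Subgroup.center G ∧ Nat.card ↥((P : Subgroup G) ⊔ (Q : Subgroup G)) = Nat.card P * Nat.card Q ∧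
        ((P : Subgroup G) ⊔ (Q : Subgroup G)).Normal ∧
        ((P : Subgroup G) ⊔ (Q : Subgroup G)) ⊓ A = ⊥ ∧ ((P : Subgroup G) ⊔ (Q : Subgroup G)) ⊔ A = ⊤ := by
  haveI := Fact.mk hp
  haveI := Fact.mk hq
  let A : Subgroup G :=
    { carrier := {z | z ∈ Subgroup.center G ∧ (orderOf z).Coprime (p * q)}
      one_mem' := ⟨one_mem _, by rw [orderOf_one]; exact Nat.coprime_one_left _⟩
      mul_mem' := fun {a b} ha hb => ⟨mul_mem ha.1 hb.1, by
        have hc : Commute a b := Subgroup.mem_center_iff.1 hb.1 a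
        exact Nat.Coprime.coprime_dvd_left hc.orderOf_mul_dvd_lcm
          (Nat.Coprime.coprime_dvd_left (Nat.lcm_dvd_mul _ _) (ha.2.mul_left hb.2))⟩
      inv_mem' := fun {a} ha => ⟨inv_mem ha.1, by rw [orderOf_inv]; exact ha.2⟩ }
  have hAZ : A ≤ Subgroup.center G := fun a ha => ha.1
  haveI hAn : A.Normal := ⟨fun v hv g => by
    rwa [Subgroup.mem_center_iff.1 (hAZ hv) g, mul_inv_cancel_right]⟩
  -- the primes of `A` and of its index
  have hAdvd : ∀ r : ℕ, r.Prime → r ∣ Nat.card A → r ≠ p ∧ r ≠ q := by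
    intro r hr hrd
    haveI := Fact.mk hr
    obtain ⟨a, ha⟩ := exists_prime_orderOf_dvd_card' (G := A) r hrd
    have h1 := a.2.2
    rw [Subgroup.orderOf_coe, ha] at h1
    constructor <;> rintro rfl
    · exact hr.ne_one (Nat.eq_one_of_dvd_coprimes h1 dvd_rfl (dvd_mul_right _ _))
    · exact hr.ne_one (Nat.eq_one_of_dvd_coprimes h1 dvd_rfl (dvd_mul_left _ _))
  have hidxA : ∀ r : ℕ, r.Prime → r ≠ p → r ≠ q → ¬ r ∣ A.index := by
    intro r hr hrp hrq hrd
    haveI := Fact.mk hr
    obtain ⟨R⟩ : Nonempty (Sylow r G) := inferInstance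
    refine R.not_dvd_index (hrd.trans (Subgroup.index_dvd_of_le fun z hz => ?_))
    obtain ⟨l, hl⟩ := IsPGroup.iff_orderOf.1 R.isPGroup' ⟨z, hz⟩
    rw [← Subgroup.orderOf_coe] at hl
    refine ⟨h r l z hr hrp hrq hl, ?_⟩
    rw [show orderOf z = r ^ l from hl]
    exact (Nat.Coprime.mul_right ((Nat.coprime_primes hr hp).2 hrp) ((Nat.coprime_primes hr hq).2 hrq)).pow_left l
  have hcop : (Nat.card A).Coprime A.index := by
    refine Nat.coprime_of_dvd fun r hr h1 h2 => ?_
    exact hidxA r hr (hAdvd r hr h1).1 (hAdvd r hr h1).2 h2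
  obtain ⟨K, hK⟩ := Subgroup.exists_left_complement'_of_coprime hcop
  haveI hKn : K.Normal := by
    refine ⟨fun v hv g => ?_⟩
    obtain ⟨⟨u, a⟩, hua⟩ := hK.2 g
    simp only at hua
    rw [← hua, show (u : G) * a * v * ((u : G) * a)⁻¹ = u * (a * v * (a : G)⁻¹) * (u : G)⁻¹ by group,
      ← Subgroup.mem_center_iff.1 (hAZ a.2) v, mul_inv_cancel_right]
    exact mul_mem (mul_mem u.2 hv) (inv_mem u.2)
  have hKidx : K.index = Nat.card A := hK.symm.index_eq_card
  have hmemK : ∀ {r : ℕ} [Fact r.Prime] (R : Sylow r G), r = p ∨ r = q → (R : Subgroup G) ≤ K := by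
    intro r _ R hr z hz
    obtain ⟨l, hl⟩ := IsPGroup.iff_orderOf.1 R.isPGroup' ⟨z, hz⟩
    rw [← Subgroup.orderOf_coe] at hl
    rw [← QuotientGroup.eq_one_iff, ← orderOf_eq_one_iff]
    refine Nat.eq_one_of_dvd_coprimes (a := r ^ l) (b := Nat.card A) ?_
      (hl ▸ orderOf_map_dvd (QuotientGroup.mk' K) z) (hKidx ▸ ?_)
    · refine (((Fact.out : r.Prime).coprime_iff_not_dvd).2 fun hd => ?_).pow_left l
      rcases hr with rfl | rfl
      · exact (hAdvd r Fact.out hd).1 rfl
      · exact (hAdvd r Fact.out hd).2 rfl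
    · rw [Subgroup.index_eq_card]; exact orderOf_dvd_natCard _
  obtain ⟨P⟩ : Nonempty (Sylow p G) := inferInstance
  obtain ⟨Q⟩ : Nonempty (Sylow q G) := inferInstance
  set J := (P : Subgroup G) ⊔ (Q : Subgroup G)
  have hJK : J ≤ K := sup_le (hmemK P (Or.inl rfl)) (hmemK Q (Or.inr rfl))
  have hcopPQ : (Nat.card P).Coprime (Nat.card Q) := by
    rw [P.card_eq_multiplicity, Q.card_eq_multiplicity]
    exact Nat.Coprime.pow _ _ ((Nat.coprime_primes hp hq).2 hqp.symm)
  have hPQJ : Nat.card P * Nat.card Q ∣ Nat.card J :=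
    hcopPQ.mul_dvd_of_dvd_of_dvd (Subgroup.card_dvd_of_le le_sup_left)
      (Subgroup.card_dvd_of_le le_sup_right)
  have hKPQ : Nat.card K ∣ Nat.card P * Nat.card Q := by
    have hPQ0 : Nat.card P * Nat.card Q ≠ 0 := (Nat.mul_pos Nat.card_pos Nat.card_pos).ne'
    rw [← Nat.factorization_prime_le_iff_dvd Nat.card_pos.ne' hPQ0]
    intro r hr
    by_cases hrpq : r = p ∨ r = q
    · have hle : (Nat.card K).factorization r ≤ (Nat.card G).factorization r :=
        (Nat.factorization_le_iff_dvd Nat.card_pos.ne' Nat.card_pos.ne').2 (Subgroup.card_subgroup_dvd_card K) r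
      refine hle.trans (le_of_eq ?_)
      rw [Nat.factorization_mul Nat.card_pos.ne' Nat.card_pos.ne', Finsupp.add_apply,
        P.card_eq_multiplicity, Q.card_eq_multiplicity, hp.factorization_pow, hq.factorization_pow]
      rcases hrpq with rfl | rfl
      · rw [Finsupp.single_eq_same, Finsupp.single_eq_of_ne (Ne.symm hqp), add_zero]
      · rw [Finsupp.single_eq_same, Finsupp.single_eq_of_ne hqp, zero_add]
    · push Not at hrpq
      rw [← hK.index_eq_card, Nat.factorization_eq_zero_of_not_dvd (hidxA r hr hrpq.1 hrpq.2)]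
      exact Nat.zero_le _
  have hJeq : J = K := Subgroup.eq_of_le_of_card_ge hJK
    (Nat.le_of_dvd Nat.card_pos (hKPQ.trans hPQJ))
  refine ⟨q, ⟨hq⟩, P, Q, A, hqp, hAZ, ?_, ?_, ?_, ?_⟩
  · exact Nat.dvd_antisymm (by rw [show ((P : Subgroup G) ⊔ (Q : Subgroup G)) = K from hJeq]; exact hKPQ) hPQJ
  · rw [show ((P : Subgroup G) ⊔ (Q : Subgroup G)) = K from hJeq]; exact hKn
  · rw [show ((P : Subgroup G) ⊔ (Q : Subgroup G)) = K from hJeq]; exact disjoint_iff.1 hK.disjoint
  · rw [show ((P : Subgroup G) ⊔ (Q : Subgroup G)) = K from hJeq]; exact hK.sup_eq_top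

/-- Let G be a finite group and p a prime, and suppose the conjugacy classes of p-regular elements of G (elements of order prime to p) have exactly two distinct sizes. Then either G has an abelian p-complement (an abelian subgroup of order prime to p and p-power index), or there are a prime q ≠ p, a Sylow p-subgroup P, a Sylow q-subgroup Q and a central subgroup A such that PQ is a normal subgroup of order #P·#Q and G is the internal direct product PQ × A. -/
theorem result {G : Type*} [Group G] [Finite G] {p : ℕ} (hp : p.Prime)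
    (h2 : Set.ncard (Set.range fun x : {x : G // (orderOf x).Coprime p} => (ConjClasses.mk (x : G)).carrier.ncard) = 2) :
    (∃ H : Subgroup G, IsMulCommutative H ∧ ¬ p ∣ Nat.card H ∧ ∃ k : ℕ, H.index = p ^ k) ∨
    (∃ (q : ℕ) (_ : Fact q.Prime) (P : Sylow p G) (Q : Sylow q G) (A : Subgroup G), q ≠ p ∧
        A ≤ Subgroup.center G ∧ Nat.card ↥((P : Subgroup G) ⊔ (Q : Subgroup G)) = Nat.card P * Nat.card Q ∧
        ((P : Subgroup G) ⊔ (Q : Subgroup G)).Normal ∧
        ((P : Subgroup G) ⊔ (Q : Subgroup G)) ⊓ A = ⊥ ∧ ((P : Subgroup G) ⊔ (Q : Subgroup G)) ⊔ A = ⊤) := by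
  classical
  haveI := Fact.mk hp
  set f : {x : G // (orderOf x).Coprime p} → ℕ := fun x => (ConjClasses.mk (x : G)).carrier.ncard with hf
  have hsize : ∀ x : G, (ConjClasses.mk x).carrier.ncard = (TwoPRegSizes.cz x).index := fun x => by
    rw [← Nat.card_coe_set_eq]; exact ClassIndex.natCard_carrier_eq_index x
  have h1 : (1 : ℕ) ∈ Set.range f := ⟨⟨1, by rw [orderOf_one]; exact Nat.coprime_one_left p⟩, by
    simp only [hf, hsize]
    rw [Subgroup.index_eq_one, eq_top_iff]
    exact fun g _ => TwoPRegSizes.mem_cz.2 (by rw [mul_one, one_mul])⟩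
  have hne : ∀ x : G, x ∉ Subgroup.center G → (TwoPRegSizes.cz x).index ≠ 1 := by
    intro x hx h
    rw [Subgroup.index_eq_one] at h
    exact hx (Subgroup.mem_center_iff.2 fun g => TwoPRegSizes.mem_cz.1 (h ▸ Subgroup.mem_top g))
  -- the common class size
  have hidx : ∀ x y : G, x ∉ Subgroup.center G → (orderOf x).Coprime p → y ∉ Subgroup.center G →
      (orderOf y).Coprime p → (TwoPRegSizes.cz x).index = (TwoPRegSizes.cz y).index := by
    intro x y hx hxp hy hyp
    obtain ⟨u, v, -, huv⟩ := Set.ncard_eq_two.1 h2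
    have hx' : (TwoPRegSizes.cz x).index ∈ ({u, v} : Set ℕ) := huv ▸ ⟨⟨x, hxp⟩, hsize x⟩
    have hy' : (TwoPRegSizes.cz y).index ∈ ({u, v} : Set ℕ) := huv ▸ ⟨⟨y, hyp⟩, hsize y⟩
    have h1' : (1 : ℕ) ∈ ({u, v} : Set ℕ) := huv ▸ h1
    simp only [Set.mem_insert_iff, Set.mem_singleton_iff] at hx' hy' h1'
    have := hne x hx
    have := hne y hy
    omega
  have hex : ∃ x : G, x ∉ Subgroup.center G ∧ (orderOf x).Coprime p := by
    by_contra hc
    push Not at hc
    have hle : Set.range f ⊆ {1} := by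
      rintro _ ⟨⟨x, hxp⟩, rfl⟩
      simp only [hf, hsize, Set.mem_singleton_iff, Subgroup.index_eq_one, eq_top_iff]
      exact fun g _ => TwoPRegSizes.mem_cz.2
        (Subgroup.mem_center_iff.1 (by_contra fun h => hc x h hxp) g)
    have := Set.ncard_le_ncard hle (Set.finite_singleton 1)
    rw [h2, Set.ncard_singleton] at this
    omega
  obtain ⟨x₀, hx₀, hx₀p⟩ := hex
  obtain ⟨q, k, y₀, hq, hqp, hy₀, -, hy₀Z⟩ := exists_primary hp hx₀ hx₀p
  by_cases htwo : ∃ (r : ℕ) (l : ℕ) (z : G), r.Prime ∧ r ≠ p ∧ r ≠ q ∧ orderOf z = r ^ l ∧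
      z ∉ Subgroup.center G
  · left
    obtain ⟨r, l, z₀, hr, hrp, hrq, hz₀, hz₀Z⟩ := htwo
    have H : TwoPRegSizes.Setup p G := setup hp hidx hq hr hqp hrp (Ne.symm hrq) hy₀ hz₀ hy₀Z hz₀Z
    refine (S4034.result hp).1 fun x hxp => ?_
    rw [hsize]
    by_cases hx : x ∈ Subgroup.center G
    · refine ⟨0, ?_⟩
      rw [pow_zero, Subgroup.index_eq_one, eq_top_iff]
      exact fun g _ => TwoPRegSizes.mem_cz.2 (Subgroup.mem_center_iff.1 hx g)
    · refine ⟨_, Nat.eq_prime_pow_of_unique_prime_dvd Subgroup.index_ne_zero_of_finite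
        fun {d} hd hdvd => ?_⟩
      by_contra hdp
      exact (hd.factorization_pos_of_dvd Subgroup.index_ne_zero_of_finite hdvd).ne'
        (H.fact_eq_zero hx hxp hd hdp)
  · right
    push Not at htwo
    exact one_prime hp hq hqp fun r l z hr hrp hrq hz => htwo r l z hr hrp hrq hz

end Cfsg.Agent.S4033
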