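import Cfsg.Statements.S4763
import Cfsg.Agent.Lib.GlauberChar.DegreeCount
import Cfsg.Agent.Lib.BSW.Dual
import Cfsg.Agent.Lib.ClassIndex.Basic

set_option autoImplicit false
open Cfsg

namespace Cfsg.Agent.S4763

open Cfsg.Agent.Char Cfsg.Agent.CharApp Cfsg.Agent.GlauberChar
open scoped commutatorElement

variable {G : Type*} [Group G] [Finite G]

theorem exists_nonlinear (h : ¬ IsMulCommutative G) :
    ∃ β : IrrCharacter G, ¬ (β : G → ℂ) 1 = 1 := by
  classical
  have := Fintype.ofFinite G
  have := Fintype.ofFinite (IrrCharacter G)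
  by_contra hno
  push Not at hno
  have h1 := Char.column_orth (1 : G) 1
  rw [if_pos (IsConj.refl 1)] at h1
  have hc : Nat.card (Subgroup.centralizer ({(1 : G)} : Set G)) = Nat.card G := by
    refine Nat.card_congr (Equiv.subtypeUnivEquiv fun g => Subgroup.mem_centralizer_iff.mpr ?_)
    intro a ha
    rw [Set.mem_singleton_iff.mp ha, one_mul, mul_one]
  simp only [hno, map_one, mul_one, Finset.sum_const, nsmul_eq_mul, Finset.card_univ, hc,
    Nat.cast_inj] at h1
  have h2 := Char.card_linear_irr (G := G)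
  rw [Nat.card_congr (Equiv.subtypeUnivEquiv hno), Nat.card_eq_fintype_card, h1] at h2
  have h3 : Nat.card (commutator G) = 1 := by
    have h4 := Subgroup.card_mul_index (commutator G)
    rw [← h2] at h4
    exact Nat.eq_of_mul_eq_mul_right Nat.card_pos (h4.trans (one_mul _).symm)
  refine h ⟨⟨fun a b => ?_⟩⟩
  have h5 : ⁅a, b⁆ ∈ (⊥ : Subgroup G) := (Subgroup.eq_bot_of_card_eq _ h3) ▸
    Subgroup.commutator_mem_commutator (Subgroup.mem_top a) (Subgroup.mem_top b)
  exact commutatorElement_eq_one_iff_mul_comm.mp (Subgroup.mem_bot.mp h5)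

omit [Finite G] in
theorem card_conjClasses_prod (A B : Type*) [Group A] [Group B] :
    Nat.card (ConjClasses (A × B)) = Nat.card (ConjClasses A) * Nat.card (ConjClasses B) := by
  rw [← Nat.card_prod]
  refine Nat.card_congr (Equiv.ofBijective (fun c =>
    (ConjClasses.map (MonoidHom.fst A B) c, ConjClasses.map (MonoidHom.snd A B) c)) ⟨?_, ?_⟩)
  · intro c c' h
    obtain ⟨x, rfl⟩ := ConjClasses.mk_surjective c
    obtain ⟨y, rfl⟩ := ConjClasses.mk_surjective c'
    obtain ⟨a, ha⟩ := isConj_iff.mp (ConjClasses.mk_eq_mk_iff_isConj.mp (congrArg Prod.fst h))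
    obtain ⟨b, hb⟩ := isConj_iff.mp (ConjClasses.mk_eq_mk_iff_isConj.mp (congrArg Prod.snd h))
    exact ConjClasses.mk_eq_mk_iff_isConj.mpr (isConj_iff.mpr ⟨(a, b), Prod.ext ha hb⟩)
  · rintro ⟨c, c'⟩
    obtain ⟨x, rfl⟩ := ConjClasses.mk_surjective c
    obtain ⟨y, rfl⟩ := ConjClasses.mk_surjective c'
    exact ⟨ConjClasses.mk (x, y), rfl⟩

omit [Finite G] in
theorem card_conjClasses_congr {A B : Type*} [Group A] [Group B] [Finite A] (e : A ≃* B) :
    Nat.card (ConjClasses A) = Nat.card (ConjClasses B) := by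
  have : Finite B := Finite.of_equiv A e.toEquiv
  exact le_antisymm
    (Nat.card_le_card_of_surjective _ (ConjClasses.map_surjective (f := e.symm.toMonoidHom) e.symm.surjective))
    (Nat.card_le_card_of_surjective _ (ConjClasses.map_surjective (f := e.toMonoidHom) e.surjective))

end Cfsg.Agent.S4763

namespace Cfsg.Agent.S4763

open Cfsg.Agent.Char Cfsg.Agent.CharApp Cfsg.Agent.GlauberChar

/-- Let p be a prime and G a finite group that is not nilpotent and has a normal p-complement (a normal subgroup of order prime to p and index a power of p). If G has exactly one irreducible complex character of degree divisible by p, then G has exactly one conjugacy class whose size is divisible by p. -/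
theorem result {G : Type*} [Group G] [Finite G] (p : ℕ) [Fact p.Prime] (hnil : ¬ Group.IsNilpotent G) (N : Subgroup G) [N.Normal] (hN : (Nat.card N).Coprime p) (hidx : ∃ k : ℕ, N.index = p ^ k) (hone : Nat.card {χ : Cfsg.IrrCharacter G // p ∣ Cfsg.charDegree (χ : G → ℂ)} = 1) : Nat.card {C : ConjClasses G // p ∣ Nat.card C.carrier} = 1 := by
  classical
  have := Fintype.ofFinite G
  have := Fintype.ofFinite N
  obtain ⟨k, hk⟩ := hidx
  have hpr : p.Prime := Fact.out
  have hpN : ¬ p ∣ Nat.card N := hpr.coprime_iff_not_dvd.mp hN.symm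
  obtain ⟨P⟩ : Nonempty (Sylow p G) := inferInstance
  have hcardP : Nat.card (P : Subgroup G) = p ^ k := by
    rw [P.card_eq_multiplicity, ← Subgroup.card_mul_index N, hk,
      Nat.factorization_mul Nat.card_pos.ne' (pow_ne_zero _ hpr.ne_zero), Finsupp.add_apply,
      Nat.factorization_eq_zero_of_not_dvd hpN, hpr.factorization_pow, Finsupp.single_eq_same,
      zero_add]
  have hcop : (Nat.card N).Coprime (Nat.card (P : Subgroup G)) := by
    rw [hcardP]; exact hN.pow_right k
  have hcompl : N.IsComplement' (P : Subgroup G) :=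
    Subgroup.isComplement'_of_coprime (by rw [hcardP, ← hk, Subgroup.card_mul_index]) hcop
  have hk0 : k ≠ 0 := by
    rintro rfl
    have hGN : Nat.card G = Nat.card N := by
      rw [← Subgroup.card_mul_index N, hk, pow_zero, mul_one]
    obtain ⟨⟨χ, hd⟩⟩ : Nonempty {χ : Cfsg.IrrCharacter G // p ∣ Cfsg.charDegree (χ : G → ℂ)} :=
      (Nat.card_pos_iff.mp (hone ▸ one_pos)).1
    exact hpN (hGN ▸ hd.trans (charDegree_cast' χ.2).2.1)
  have hcop_iff : ∀ d : ℕ, d.Coprime (Nat.card (P : Subgroup G)) ↔ ¬ p ∣ d := fun d => by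
    rw [hcardP, Nat.coprime_pow_right_iff (Nat.pos_of_ne_zero hk0), Nat.coprime_comm,
      hpr.coprime_iff_not_dvd]
  have huniq : ∀ χ χ' : IrrCharacter G, p ∣ charDegree (χ : G → ℂ) → p ∣ charDegree (χ' : G → ℂ) →
      χ = χ' := by
    intro χ χ' h h'
    have hs := (Nat.card_eq_one_iff_unique.mp hone).1
    exact congrArg Subtype.val (hs.elim ⟨χ, h⟩ ⟨χ', h'⟩)
  let π : G →* (P : Subgroup G) :=
    hcompl.symm.QuotientMulEquiv.toMonoidHom.comp (QuotientGroup.mk' N)
  have hπs : Function.Surjective π :=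
    hcompl.symm.QuotientMulEquiv.surjective.comp (QuotientGroup.mk'_surjective N)
  have hπN : ∀ n : N, π (n : G) = 1 := fun n => by
    show hcompl.symm.QuotientMulEquiv (QuotientGroup.mk (n : G)) = 1
    rw [(QuotientGroup.eq_one_iff _).2 n.2, map_one]
  -- the Sylow subgroup is abelian
  have hPab : IsMulCommutative (P : Subgroup G) := by
    by_contra hna
    obtain ⟨β, hβ⟩ := exists_nonlinear hna
    have := Fintype.ofFinite (P : Subgroup G)
    let b : IrrCharacter G := ⟨_, IsIrrCharacter.comp_surjective β.2 π hπs⟩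
    have hbd : p ∣ charDegree (b : G → ℂ) := by
      have h1 : charDegree (b : G → ℂ) = charDegree (β : ↥(P : Subgroup G) → ℂ) := by
        simp only [b, charDegree, map_one]
      rw [h1]
      obtain ⟨hd1, hd2, -⟩ := charDegree_cast' (G := (P : Subgroup G)) β.2
      rw [hcardP] at hd2
      obtain ⟨i, -, hi⟩ := (Nat.dvd_prime_pow hpr).mp hd2
      rw [hi]
      refine dvd_pow_self p fun h0 => hβ ?_
      rw [hd1, hi, h0, pow_zero, Nat.cast_one]
    have hbN : ∀ n : N, (b : G → ℂ) n = (b : G → ℂ) 1 := fun n => by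
      simp only [b, hπN n, map_one]
    have hNne : N ≠ ⊥ := by
      intro h0
      refine hnil ?_
      have hG : IsPGroup p G := IsPGroup.of_card (n := k) (by
        rw [← Subgroup.card_mul_index N, hk, h0, Subgroup.card_bot, one_mul])
      exact hG.isNilpotent
    obtain ⟨θ, hθ⟩ : ∃ θ : IrrCharacter N, ∃ n : N, (θ : N → ℂ) n ≠ (θ : N → ℂ) 1 := by
      obtain ⟨u, hu⟩ := Subgroup.ne_bot_iff_exists_ne_one.mp hNne
      by_contra hno
      push Not at hno
      refine hu (isConj_one_right.mp ((Char.isConj_iff_irr (1 : N) u).mpr fun θ => (hno θ u).symm))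
    obtain ⟨n, hn⟩ := hθ
    have hnot : ∀ χ : IrrCharacter G, p ∣ charDegree (χ : G → ℂ) →
        classInner (fun m : N => (χ : G → ℂ) m) (θ : N → ℂ) = 0 := by
      intro χ hd
      rw [huniq χ b hd hbd]
      by_contra hne
      refine hn ?_
      have h1 : (fun m : N => (b : G → ℂ) m) = (b : G → ℂ) 1 • (1 : N → ℂ) :=
        funext fun m => by rw [hbN m, Pi.smul_apply, Pi.one_apply, smul_eq_mul, mul_one]
      rw [h1, Char.classInner_smul_left] at hne
      have hθ1 : (θ : N → ℂ) = 1 := by
        by_contra h2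
        refine hne ?_
        rw [Char.classInner_irr_of_ne Char.isIrrCharacter_one θ.2 (Ne.symm h2), mul_zero]
      rw [hθ1]
      rfl
    by_cases hinv : inertia N (θ : N → ℂ) = ⊤
    · obtain ⟨e, he, her⟩ := CharExtend.extends_of_coprime θ.2
        (fun g x => (mem_inertia_iff N).1 (hinv ▸ Subgroup.mem_top g) x) (hk ▸ hN.pow_right k)
      have hres : IsIrrCharacter N (fun m : N => e m) := by
        rw [show (fun m : N => e m) = (θ : N → ℂ) from funext her]; exact θ.2
      have hbt : TrivOn N (b : G → ℂ) := hbN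
      let χ : IrrCharacter G := ⟨_, gallagher_irr N he hres b.2 hbt⟩
      obtain ⟨he1, -, -⟩ := charDegree_cast' he
      obtain ⟨hb1, -, -⟩ := charDegree_cast' b.2
      obtain ⟨hc1, -, -⟩ := charDegree_cast' χ.2
      have hd : p ∣ charDegree (χ : G → ℂ) := by
        refine hbd.trans ⟨charDegree e, ?_⟩
        have h : (χ : G → ℂ) 1 = e 1 * (b : G → ℂ) 1 := rfl
        rw [hc1, he1, hb1] at h
        rw [mul_comm]
        exact_mod_cast h
      have h1 : (fun m : N => (χ : G → ℂ) m) = (b : G → ℂ) 1 • (θ : N → ℂ) := funext fun m => by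
        show e m * (b : G → ℂ) m = _
        rw [her m, hbN m, Pi.smul_apply, smul_eq_mul, mul_comm]
      have h2 := hnot χ hd
      rw [h1, Char.classInner_smul_left, Char.classInner_irr_self θ.2, mul_one] at h2
      exact IsIrrCharacter.apply_one_ne_zero b.2 h2
    · obtain ⟨χ, hχ⟩ := exists_constituent (IsCharacter.indFun N (IsIrrCharacter.isCharacter θ.2))
        (by
          rw [indFun_one_apply]
          exact mul_ne_zero (Nat.cast_ne_zero.mpr Subgroup.index_ne_zero_of_finite)
            (IsIrrCharacter.apply_one_ne_zero θ.2))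
      rw [frobenius_reciprocity N _ (IsIrrCharacter.isClassFunction χ.2), ← classInner_conj_symm] at hχ
      have hc : classInner (fun m : N => (χ : G → ℂ) m) (θ : N → ℂ) ≠ 0 := fun h0 => hχ (by rw [h0, map_zero])
      refine hc (hnot χ ?_)
      obtain ⟨e, he⟩ := IsCharacter.classInner_nat
        (IsCharacter.restrict (IsIrrCharacter.isCharacter χ.2) N) (IsIrrCharacter.isCharacter θ.2)
      obtain ⟨hχ1, -, -⟩ := charDegree_cast' χ.2
      obtain ⟨hθ1, -, -⟩ := charDegree_cast' θ.2
      have hdeg := restrict_degree N χ.2 θ.2 hc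
      rw [he, hχ1, hθ1] at hdeg
      have hdeg' : charDegree (χ : G → ℂ) = e * (inertia N (θ : N → ℂ)).index * charDegree (θ : N → ℂ) := by
        exact_mod_cast hdeg
      have hi : (inertia N (θ : N → ℂ)).index ∣ p ^ k :=
        hk ▸ Subgroup.index_dvd_of_le (le_inertia N (IsIrrCharacter.isClassFunction θ.2))
      obtain ⟨i, -, hi'⟩ := (Nat.dvd_prime_pow hpr).mp hi
      have hi0 : i ≠ 0 := fun h0 => hinv (Subgroup.index_eq_one.mp (by rw [hi', h0, pow_zero]))
      rw [hdeg', hi']
      exact (dvd_mul_of_dvd_right (dvd_pow_self p hi0) e).mul_right _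
  -- both counts are governed by the fixed points
  have hnorm : ∀ s ∈ (P : Subgroup G), ∀ g ∈ N, s * g * s⁻¹ ∈ N := fun s _ g hg =>
    (inferInstance : N.Normal).conj_mem g hg s
  let φ := actHom N (P : Subgroup G) hnorm
  have := Fintype.ofFinite (fixedSub φ)
  set C := N ⊓ Subgroup.centralizer ((P : Subgroup G) : Set G) with hC
  have hf : Nat.card {θ : IrrCharacter N //
      ∀ g : G, CliffordChar.conjFun N g (θ : N → ℂ) = (θ : N → ℂ)} = Nat.card (ConjClasses C) := by
    rw [card_conjClasses_congr (equivFixed N (P : Subgroup G) hnorm C hC),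
      ← card_irr_eq_card_conjClasses,
      ← Nat.card_congr (Equiv.ofBijective _ (toFixedIrr_bijective φ P.2 hpN))]
    refine Nat.card_congr (Equiv.subtypeEquivRight fun θ => ?_)
    rw [isFixed_iff]
    constructor
    · intro h s hs g g' hg'
      have h1 := (mem_inertia_iff N).1 ((mem_inertia N).2 (h s)) g
      rw [← h1]
      exact congrArg _ (Subtype.ext hg')
    · intro h g
      have hle : (P : Subgroup G) ≤ inertia N (θ : N → ℂ) := fun s hs =>
        (mem_inertia_iff N).2 fun m => h s hs m _ rfl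
      exact (mem_inertia N).1 (sup_le (le_inertia N (IsIrrCharacter.isClassFunction θ.2)) hle
        (hcompl.sup_eq_top ▸ Subgroup.mem_top g))
  set T := Subgroup.centralizer ((P : Subgroup G) : Set G) with hT
  have hPT : (P : Subgroup G) ≤ T := fun a ha b hb =>
    congrArg Subtype.val (hPab.is_comm.comm ⟨b, hb⟩ ⟨a, ha⟩)
  have hprod : Nat.card (ConjClasses T) = Nat.card (ConjClasses C) * Nat.card (P : Subgroup G) := by
    let m : C × (P : Subgroup G) →* T :=
      { toFun := fun x => ⟨(x.1 : G) * (x.2 : G), mul_mem x.1.2.2 (hPT x.2.2)⟩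
        map_one' := Subtype.ext (one_mul _)
        map_mul' := fun x y => Subtype.ext (by
          have h : (x.2 : G) * (y.1 : G) = (y.1 : G) * (x.2 : G) :=
            Subgroup.mem_centralizer_iff.mp y.1.2.2 _ x.2.2
          show (x.1 : G) * y.1 * (x.2 * y.2) = x.1 * x.2 * (y.1 * y.2)
          calc (x.1 : G) * y.1 * (x.2 * y.2) = x.1 * (y.1 * x.2) * y.2 := by group
            _ = x.1 * (x.2 * y.1) * y.2 := by rw [h]
            _ = _ := by group) }
    have hm : Function.Bijective m := by
      constructor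
      · intro x y h
        have h' : ((⟨x.1, x.1.2.1⟩ : N) : G) * (x.2 : G) = ((⟨y.1, y.1.2.1⟩ : N) : G) * (y.2 : G) :=
          congrArg Subtype.val h
        have h2 := hcompl.1 (a₁ := (⟨x.1, x.1.2.1⟩, x.2)) (a₂ := (⟨y.1, y.1.2.1⟩, y.2)) h'
        refine Prod.ext (Subtype.ext ?_) ((congrArg Prod.snd h2 :))
        exact congrArg (fun z => (z.1 : G)) h2
      · intro t
        obtain ⟨⟨a, u⟩, hau⟩ := hcompl.2 (t : G)
        have ha : (a : G) ∈ T := by
          have : (a : G) = t * (u : G)⁻¹ := eq_mul_inv_of_mul_eq hau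
          rw [this]
          exact mul_mem t.2 (inv_mem (hPT u.2))
        exact ⟨(⟨a, a.2, ha⟩, u), Subtype.ext hau⟩
    rw [← card_conjClasses_congr (MulEquiv.ofBijective m hm), card_conjClasses_prod]
    congr 1
    refine (Nat.card_congr (Equiv.ofBijective _ ⟨fun a b h => ?_, ConjClasses.mk_surjective⟩)).symm
    obtain ⟨c, hc⟩ := isConj_iff.mp (ConjClasses.mk_eq_mk_iff_isConj.mp h)
    rw [← hc, hPab.is_comm.comm c a, mul_inv_cancel_right]
  have hfus : Subgroup.normalizer ((P : Subgroup G) : Set G) ≤ T := by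
    intro g hg
    obtain ⟨⟨a, u⟩, hau⟩ := hcompl.2 g
    have ha : (a : G) ∈ Subgroup.normalizer ((P : Subgroup G) : Set G) := by
      rw [show (a : G) = g * (u : G)⁻¹ from eq_mul_inv_of_mul_eq hau]
      exact mul_mem hg (inv_mem (Subgroup.le_normalizer u.2))
    rw [← show (a : G) * (u : G) = g from hau]
    refine mul_mem (fun z hz => ?_) (hPT u.2)
    have h1 : (a : G) * z * (a : G)⁻¹ * z⁻¹ ∈ N ⊓ (P : Subgroup G) := by
      refine ⟨?_, (P : Subgroup G).mul_mem ((Subgroup.mem_normalizer_iff.mp ha z).mp hz)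
        ((P : Subgroup G).inv_mem hz)⟩
      have : (a : G) * z * (a : G)⁻¹ * z⁻¹ = (a : G) * (z * (a : G)⁻¹ * z⁻¹) := by group
      rw [this]
      exact N.mul_mem a.2 ((inferInstance : N.Normal).conj_mem _ (N.inv_mem a.2) z)
    rw [hcompl.disjoint.eq_bot, Subgroup.mem_bot, mul_inv_eq_one, mul_inv_eq_iff_eq_mul] at h1
    exact h1.symm
  have hclass : Nat.card {K : ConjClasses G // ¬ p ∣ Nat.card K.carrier}
      = Nat.card (ConjClasses T) := by
    refine (Nat.card_congr (Equiv.ofBijective (fun K : ConjClasses T =>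
      (⟨ConjClasses.map T.subtype K, by
        obtain ⟨c, rfl⟩ := ConjClasses.mk_surjective K
        show ¬ p ∣ Nat.card (ConjClasses.mk (c : G)).carrier
        rw [ClassIndex.natCard_carrier_eq_index]
        refine fun hd => P.not_dvd_index' Subgroup.index_ne_zero_of_finite
          (hd.trans (Subgroup.index_dvd_of_le fun u hu => ?_))
        rw [Subgroup.mem_centralizer_singleton_iff]
        exact (Subgroup.mem_centralizer_iff.mp c.2 u hu)⟩ :
        {K : ConjClasses G // ¬ p ∣ Nat.card K.carrier})) ⟨?_, ?_⟩)).symm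
    · intro K K' h
      obtain ⟨c, rfl⟩ := ConjClasses.mk_surjective K
      obtain ⟨c', rfl⟩ := ConjClasses.mk_surjective K'
      have h1 : IsConj (c : G) (c' : G) :=
        ConjClasses.mk_eq_mk_iff_isConj.mp (congrArg Subtype.val h)
      obtain ⟨g, hg⟩ := isConj_iff.mp h1
      obtain ⟨n, hn, hn'⟩ := P.conj_eq_normalizer_conj_of_mem_centralizer (c : G) g⁻¹ c.2
        (by rw [inv_inv, hg]; exact c'.2)
      rw [inv_inv, hg] at hn'
      refine ConjClasses.mk_eq_mk_iff_isConj.mpr (isConj_iff.mpr ⟨⟨n⁻¹, inv_mem (hfus hn)⟩, ?_⟩)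
      apply Subtype.ext
      show n⁻¹ * (c : G) * n⁻¹⁻¹ = c'
      rw [inv_inv, hn']
    · rintro ⟨K, hK⟩
      obtain ⟨g, rfl⟩ := ConjClasses.mk_surjective K
      rw [ClassIndex.natCard_carrier_eq_index] at hK
      obtain ⟨Q⟩ : Nonempty (Sylow p (Subgroup.centralizer ({g} : Set G))) := inferInstance
      have hQp : IsPGroup p ((Q : Subgroup _).map (Subgroup.centralizer ({g} : Set G)).subtype) :=
        Q.2.map _
      obtain ⟨R, hR⟩ := hQp.exists_le_sylow
      obtain ⟨a, ha⟩ := MulAction.exists_smul_eq G R P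
      have hcard : Nat.card (R : Subgroup G) ≤
          Nat.card ((Q : Subgroup _).map (Subgroup.centralizer ({g} : Set G)).subtype) := by
        rw [Subgroup.card_map_of_injective (Subgroup.subtype_injective _), Q.card_eq_multiplicity,
          R.card_eq_multiplicity, ← Subgroup.card_mul_index (Subgroup.centralizer ({g} : Set G)),
          Nat.factorization_mul Nat.card_pos.ne' Subgroup.index_ne_zero_of_finite, Finsupp.add_apply,
          Nat.factorization_eq_zero_of_not_dvd hK, add_zero]
      have hRg : ∀ u ∈ (R : Subgroup G), u * g = g * u := fun u hu => by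
        rw [← Subgroup.eq_of_le_of_card_ge hR hcard] at hu
        obtain ⟨v, -, rfl⟩ := Subgroup.mem_map.mp hu
        exact Subgroup.mem_centralizer_singleton_iff.mp v.2
      have hmem : a * g * a⁻¹ ∈ T := fun z hz => by
        rw [← ha, Sylow.coe_subgroup_smul, SetLike.mem_coe,
          Subgroup.mem_pointwise_smul_iff_inv_smul_mem] at hz
        have h1 := hRg _ hz
        simp only [MulAut.smul_def, ← map_inv, MulAut.conj_apply, inv_inv] at h1
        calc z * (a * g * a⁻¹) = a * (a⁻¹ * z * a * g) * a⁻¹ := by group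
          _ = a * (g * (a⁻¹ * z * a)) * a⁻¹ := by rw [h1]
          _ = a * g * a⁻¹ * z := by group
      exact ⟨ConjClasses.mk ⟨_, hmem⟩, Subtype.ext (ConjClasses.mk_eq_mk_iff_isConj.mpr
        (isConj_comm.mp (isConj_iff.mpr ⟨a, rfl⟩)))⟩
  have hdeg : Nat.card {χ : IrrCharacter G // ¬ p ∣ charDegree (χ : G → ℂ)}
      = Nat.card (ConjClasses C) * Nat.card (P : Subgroup G) := by
    have h := GlauberChar.card_coprime_degree N (P : Subgroup G) hcompl hcop
    rw [BSW.card_dual (P : Subgroup G) (fun x hx y hy =>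
      congrArg Subtype.val (hPab.is_comm.comm ⟨x, hx⟩ ⟨y, hy⟩)), hf] at h
    rw [← h]
    exact Nat.card_congr (Equiv.subtypeEquivRight fun χ => (hcop_iff _).symm)
  have h1 : Nat.card (IrrCharacter G)
      = 1 + Nat.card {χ : IrrCharacter G // ¬ p ∣ charDegree (χ : G → ℂ)} := by
    rw [← hone, ← Nat.card_sum]
    exact (Nat.card_congr (Equiv.sumCompl fun χ : IrrCharacter G => p ∣ charDegree (χ : G → ℂ))).symm
  have h2 : Nat.card (ConjClasses G) = Nat.card {K : ConjClasses G // p ∣ Nat.card K.carrier}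
      + Nat.card {K : ConjClasses G // ¬ p ∣ Nat.card K.carrier} := by
    rw [← Nat.card_sum]
    exact (Nat.card_congr (Equiv.sumCompl fun K : ConjClasses G => p ∣ Nat.card K.carrier)).symm
  have h3 := card_irr_eq_card_conjClasses (G := G)
  rw [h1, h2, hclass, hprod, hdeg] at h3
  exact (Nat.add_right_cancel h3).symm

end Cfsg.Agent.S4763
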