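import Cfsg.Statements.S0168
import Cfsg.Agent.Lib.Char.Eigen
import Cfsg.Agent.Lib.CharApp.Schur

set_option autoImplicit false
open Cfsg

namespace Cfsg.Agent.S0168

/-- The Burnside–Brauer Theorem. Let χ be the character of a faithful complex representation of a finite group, taking m distinct values. Then every irreducible character has nonzero inner product with χ ^ i for some i < m. -/
theorem result {G : Type*} [Group G] [Fintype G] {V : Type*} [AddCommGroup V] [Module ℂ V] [FiniteDimensional ℂ V] (ρ : Representation ℂ G V) (hfaithful : Function.Injective ρ) (ψ : G → ℂ) (hψ : Cfsg.IsIrrCharacter G ψ) : ∃ i : ℕ, i < Nat.card (Set.range ρ.character) ∧ Cfsg.classInner (fun g => ρ.character g ^ i) ψ ≠ 0 := by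
  classical
  obtain ⟨n, σ, hσ, rfl⟩ := hψ
  haveI := hσ
  by_contra hcon
  push Not at hcon
  set S : Finset ℂ := Finset.univ.image ρ.character with hS
  have hcard : Nat.card (Set.range ρ.character) = S.card := by
    rw [hS, ← Set.toFinset_range, Set.toFinset_card, Nat.card_eq_fintype_card]
  rw [hcard] at hcon
  let w : ℂ → ℂ := fun a => ∑ g ∈ Finset.univ.filter (fun g => ρ.character g = a),
    starRingEnd ℂ (σ.character g)
  have hw : ∀ i < S.card, ∑ a ∈ S, a ^ i * w a = 0 := by
    intro i hi
    have h := hcon i hi
    rw [Cfsg.classInner, mul_eq_zero] at h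
    have h' := h.resolve_left (inv_ne_zero (Nat.cast_ne_zero.mpr Nat.card_pos.ne'))
    rw [← h', ← Finset.sum_fiberwise_of_maps_to (t := S)
      (fun g _ => Finset.mem_image_of_mem _ (Finset.mem_univ g))]
    refine Finset.sum_congr rfl fun a _ => ?_
    rw [Finset.mul_sum]
    exact Finset.sum_congr rfl fun g hg => by rw [(Finset.mem_filter.mp hg).2]
  let e := S.equivFin
  have hzero : (fun j : Fin S.card => w (e.symm j : ℂ)) = 0 := by
    refine Matrix.eq_zero_of_forall_pow_sum_mul_pow_eq_zero
      (f := fun j : Fin S.card => (e.symm j : ℂ)) ?_ ?_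
    · exact Subtype.val_injective.comp e.symm.injective
    · intro i
      rw [← hw i i.2, ← Finset.sum_coe_sort S]
      exact Fintype.sum_equiv e.symm _ _ fun j => mul_comm _ _
  have h1 : w (ρ.character 1) = 0 := by
    have := congrFun hzero (e ⟨ρ.character 1, Finset.mem_image_of_mem _ (Finset.mem_univ 1)⟩)
    simpa using this
  have hfil : Finset.univ.filter (fun g => ρ.character g = ρ.character 1) = {1} := by
    ext g
    simp only [Finset.mem_filter, Finset.mem_univ, true_and, Finset.mem_singleton]
    refine ⟨fun h => ?_, fun h => by rw [h]⟩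
    rw [Representation.char_one, Char.character_eq_finrank_iff] at h
    exact hfaithful (h.trans (map_one ρ).symm)
  simp only [w, hfil, Finset.sum_singleton] at h1
  rw [Representation.char_one, Complex.conj_natCast] at h1
  exact CharApp.finrank_cast_ne_zero σ h1

end Cfsg.Agent.S0168
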