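import Cfsg.Statements.S2580
import Cfsg.Agent.EqLemmas

set_option autoImplicit false
open Cfsg

namespace Cfsg.Agent.S2580

open Polynomial

/-- The functional taking the top coefficient in the power basis. -/
theorem exists_nondeg_functional {F : Type*} [Field F] {g : F[X]} (hg : g ≠ 0) :
    ∃ μ : AdjoinRoot g →ₗ[F] F, ∀ a, (∀ b, μ (a * b) = 0) → a = 0 := by
  classical
  let pb := AdjoinRoot.powerBasis hg
  rcases Nat.eq_zero_or_pos pb.dim with h0 | h0
  · refine ⟨0, fun a _ => ?_⟩
    have : IsEmpty (Fin pb.dim) := by rw [h0]; infer_instance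
    exact pb.basis.repr.injective (Finsupp.ext fun i => isEmptyElim i)
  refine ⟨pb.basis.coord ⟨pb.dim - 1, by omega⟩, fun a ha => ?_⟩
  by_contra hne
  have hex : (Finset.univ.filter fun i => pb.basis.repr a i ≠ 0).Nonempty := by
    by_contra hemp
    apply hne
    apply pb.basis.repr.injective
    refine Finsupp.ext fun i => ?_
    rw [map_zero, Finsupp.zero_apply]
    by_contra hi
    exact hemp ⟨i, by simp [hi]⟩
  set d := (Finset.univ.filter fun i => pb.basis.repr a i ≠ 0).max' hex
  have hd : pb.basis.repr a d ≠ 0 := (Finset.mem_filter.mp (Finset.max'_mem _ hex)).2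
  apply hd
  have hbasis : ∀ i, pb.basis i = pb.gen ^ (i : ℕ) := fun i => pb.basis_eq_pow i
  have key := ha (pb.gen ^ (pb.dim - 1 - (d : ℕ)))
  conv at key => lhs; rw [← pb.basis.sum_repr a, Finset.sum_mul, map_sum]
  rw [Finset.sum_eq_single d] at key
  · rw [Algebra.smul_mul_assoc, hbasis, ← pow_add, map_smul, Module.Basis.coord_apply,
      show (d : ℕ) + (pb.dim - 1 - (d : ℕ)) = ((⟨pb.dim - 1, by omega⟩ : Fin pb.dim) : ℕ) by
        have := d.2; show (d : ℕ) + (pb.dim - 1 - (d : ℕ)) = pb.dim - 1; omega,
      ← hbasis, Module.Basis.repr_self, Finsupp.single_eq_same, smul_eq_mul, mul_one] at key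
    exact key
  · intro i _ hi
    by_cases hc : pb.basis.repr a i = 0
    · rw [hc, zero_smul, zero_mul, map_zero]
    have hlt : i < d := lt_of_le_of_ne (Finset.le_max' _ i (by simp [hc])) hi
    have hj : (i : ℕ) + (pb.dim - 1 - (d : ℕ)) < pb.dim - 1 := by
      have := d.2
      have : (i : ℕ) < (d : ℕ) := hlt
      omega
    rw [Algebra.smul_mul_assoc, hbasis, ← pow_add, map_smul, Module.Basis.coord_apply,
      show (i : ℕ) + (pb.dim - 1 - (d : ℕ)) =
        ((⟨(i : ℕ) + (pb.dim - 1 - (d : ℕ)), by omega⟩ : Fin pb.dim) : ℕ) from rfl,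
      ← hbasis, Module.Basis.repr_self,
      Finsupp.single_eq_of_ne (fun h => absurd (congrArg Fin.val h) (by simp; omega)), smul_zero]
  · exact fun h => absurd (Finset.mem_univ d) h

/-- Every endomorphism is self-adjoint for some non-degenerate symmetric bilinear form. -/
theorem exists_selfadjoint_form {F V : Type*} [Field F] [AddCommGroup V] [Module F V]
    [FiniteDimensional F V] (f : Module.End F V) :
    ∃ B : LinearMap.BilinForm F V, (∀ x, (∀ y, B x y = 0) → x = 0) ∧
      ∀ x y, B (f x) y = B x (f y) := by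
  classical
  obtain ⟨ι, hι, p, hp, e, ⟨E⟩⟩ := Module.equiv_directSum_of_isTorsion
    (R := F[X]) (M := Module.AEval' f) (Module.AEval.isTorsion_of_finiteDimensional F V f)
  choose μ hμ using fun i => exists_nondeg_functional (pow_ne_zero (e i) (hp i).ne_zero)
  let c : ∀ i, V → AdjoinRoot (p i ^ e i) := fun i x => E (Module.AEval'.of f x) i
  have hcadd : ∀ i x y, c i (x + y) = c i x + c i y := by
    intro i x y
    simp only [c, map_add]
    rfl
  have hcsmul : ∀ i (a : F) x, c i (a • x) = a • c i x := by
    intro i a x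
    have h1 : Module.AEval'.of f (a • x) = (Polynomial.C a) • Module.AEval'.of f x := by
      rw [map_smul, ← Polynomial.algebraMap_eq, algebraMap_smul]
    simp only [c, h1, map_smul]
    exact algebraMap_smul (F[X]) a ((E (Module.AEval'.of f x)) i)
  have hcX : ∀ i x, c i (f x) = AdjoinRoot.root (p i ^ e i) * c i x := by
    intro i x
    simp only [c, ← Module.AEval'.X_smul_of, map_smul]
    rfl
  refine ⟨LinearMap.mk₂ F (fun x y => ∑ i, μ i (c i x * c i y))
    (fun a b y => by simp [hcadd, add_mul, Finset.sum_add_distrib])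
    (fun r a y => by simp [hcsmul, Finset.mul_sum])
    (fun a b y => by simp [hcadd, mul_add, Finset.sum_add_distrib])
    (fun r a y => by simp [hcsmul, Finset.mul_sum]), ?_, ?_⟩
  · intro x hx
    have hc : ∀ i, c i x = 0 := by
      intro i
      apply hμ i
      intro b
      let y : V := (Module.AEval'.of f).symm
        (E.symm (DirectSum.of (fun i => F[X] ⧸ F[X] ∙ p i ^ e i) i b))
      have hy := hx y
      simp only [LinearMap.mk₂_apply] at hy
      have hcy : ∀ j, c j y = DirectSum.of (fun i => F[X] ⧸ F[X] ∙ p i ^ e i) i b j := by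
        intro j
        simp [c, y]
        rfl
      rw [Finset.sum_eq_single i] at hy
      · have he : c i y = b := (hcy i).trans (DirectSum.of_eq_same (β := fun i => F[X] ⧸ F[X] ∙ p i ^ e i) i b)
        rw [he] at hy
        exact hy
      · intro j _ hj
        have he : c j y = 0 := (hcy j).trans (DirectSum.of_eq_of_ne (β := fun i => F[X] ⧸ F[X] ∙ p i ^ e i) _ _ b hj)
        rw [he, mul_zero, map_zero]
      · exact fun h => absurd (Finset.mem_univ i) h
    have h0 : E (Module.AEval'.of f x) = 0 := DFinsupp.ext hc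
    simpa using h0
  · intro x y
    simp only [LinearMap.mk₂_apply, hcX]
    refine Finset.sum_congr rfl fun i _ => congrArg (μ i) ?_
    ring

theorem isConj_transpose {F : Type*} [Field F] {ι : Type*} [Fintype ι] [DecidableEq ι]
    (A : Matrix ι ι F) : IsConj A A.transpose := by
  obtain ⟨B, hB, hadj⟩ := exists_selfadjoint_form (Matrix.toLin' A)
  set S := LinearMap.BilinForm.toMatrix' B with hS
  have hBS : ∀ x y, B x y = x ⬝ᵥ S.mulVec y := fun x y => by
    rw [hS, ← Matrix.toBilin'_apply', Matrix.toBilin'_toMatrix']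
  have hSu : IsUnit S := by
    rw [← Matrix.vecMul_injective_iff_isUnit]
    intro x y hxy
    rw [← sub_eq_zero]
    apply hB
    intro z
    rw [hBS, Matrix.dotProduct_mulVec, Matrix.sub_vecMul]
    have hxy' : Matrix.vecMul x S = Matrix.vecMul y S := hxy
    rw [hxy', sub_self, zero_dotProduct]
  have hSA : S * A = A.transpose * S := by
    ext i j
    have h := hadj (Pi.single i 1) (Pi.single j 1)
    rw [hBS, hBS, Matrix.toLin'_apply, Matrix.toLin'_apply, Matrix.mulVec_mulVec,
      Matrix.dotProduct_mulVec, ← Matrix.mulVec_transpose] at h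
    simp [Matrix.mulVec_single_one] at h
    rw [← h]
    simp [Matrix.mul_apply, Matrix.mulVec, dotProduct, mul_comm]
  exact ⟨hSu.unit, hSA⟩

/-- Over a finite field, a square matrix is similar to its transpose: for every n × n matrix A there is an invertible matrix P with P A P⁻¹ = Aᵀ (stated as conjugacy in the monoid of matrices, whose units are the invertible matrices). -/
theorem result {F : Type*} [Field F] [Finite F] {n : ℕ} (A : Matrix (Fin n) (Fin n) F) : IsConj A A.transpose := by
  exact isConj_transpose A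

end Cfsg.Agent.S2580
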