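import Cfsg.Statements.S4198
import Cfsg.Agent.EqLemmas

set_option autoImplicit false
open Cfsg

namespace Cfsg.Agent.S4198

open scoped commutatorElement

theorem card_counts_five : Fintype.card {v : Fin 6 × Fin 3 × Fin 2 × Fin 2 × Fin 2 //
    v.1.val + 2 * v.2.1.val + 3 * v.2.2.1.val + 4 * v.2.2.2.1.val + 5 * v.2.2.2.2.val = 5} ≤ 8 := by decide +kernel

theorem sum_eq_weighted (l : Nat.Partition 5) :
    l.parts.count 1 + 2 * l.parts.count 2 + 3 * l.parts.count 3 + 4 * l.parts.count 4 + 5 * l.parts.count 5 = 5 := by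
  have h : ∀ s : Multiset ℕ, (∀ i ∈ s, 0 < i ∧ i ≤ 5) →
      s.count 1 + 2 * s.count 2 + 3 * s.count 3 + 4 * s.count 4 + 5 * s.count 5 = s.sum := by
    intro s
    induction s using Multiset.induction_on with
    | empty => simp
    | cons a s ih =>
      intro hs
      have ha := hs a (Multiset.mem_cons_self a s)
      have := ih (fun i hi => hs i (Multiset.mem_cons_of_mem hi))
      obtain ⟨ha1, ha2⟩ := ha
      simp only [Multiset.count_cons, Multiset.sum_cons]
      interval_cases a <;> simp <;> omega
  rw [h _ (fun i hi => ⟨l.parts_pos hi, Nat.Partition.le_of_mem_parts hi⟩), l.parts_sum]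

theorem card_partition_five : Nat.card (Nat.Partition 5) ≤ 8 := by
  refine le_trans ?_ card_counts_five
  rw [← Nat.card_eq_fintype_card]
  refine Nat.card_le_card_of_injective
    (fun l => ⟨(⟨l.parts.count 1, ?_⟩, ⟨l.parts.count 2, ?_⟩, ⟨l.parts.count 3, ?_⟩, ⟨l.parts.count 4, ?_⟩,
      ⟨l.parts.count 5, ?_⟩), sum_eq_weighted l⟩) ?_
  all_goals first | (have := sum_eq_weighted l; omega) | skip
  intro l l' h
  simp only [Subtype.mk.injEq, Prod.mk.injEq, Fin.mk.injEq] at h
  obtain ⟨h1, h2, h3, h4, h5⟩ := h
  refine Nat.Partition.ext (Multiset.ext.mpr fun i => ?_)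
  by_cases hi : 1 ≤ i ∧ i ≤ 5
  · obtain ⟨hi1, hi2⟩ := hi
    interval_cases i <;> assumption
  · have h0 : ∀ m : Nat.Partition 5, m.parts.count i = 0 := fun m => Multiset.count_eq_zero.mpr fun hm =>
      hi ⟨m.parts_pos hm, Nat.Partition.le_of_mem_parts hm⟩
    rw [h0 l, h0 l']

theorem parts_ne_zero {n : ℕ} (l : Nat.Partition (n + 1)) : l.parts.toFinset.Nonempty := by
  rw [Multiset.toFinset_nonempty]
  intro h
  have := l.parts_sum
  rw [h, Multiset.sum_zero] at this
  omega

theorem card_partition_succ_le (n : ℕ) : Nat.card (Nat.Partition (n + 1)) ≤ 2 * Nat.card (Nat.Partition n) := by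
  classical
  rw [show (2 : ℕ) = Nat.card Bool by simp, ← Nat.card_prod]
  let m : Nat.Partition (n + 1) → ℕ := fun l => l.parts.toFinset.min' (parts_ne_zero l)
  have hm : ∀ l, m l ∈ l.parts := fun l => Multiset.mem_toFinset.mp (Finset.min'_mem _ _)
  have hmle : ∀ l, ∀ i ∈ l.parts, m l ≤ i := fun l i hi => Finset.min'_le _ _ (Multiset.mem_toFinset.mpr hi)
  have hpos : ∀ l, 0 < m l := fun l => l.parts_pos (hm l)
  have hsum : ∀ l, (l.parts.erase (m l)).sum + (m l - 1) = n := fun l => by
    have := Multiset.sum_cons (m l) (l.parts.erase (m l))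
    rw [Multiset.cons_erase (hm l), l.parts_sum] at this
    have := hpos l
    omega
  let f : Nat.Partition (n + 1) → Bool × Nat.Partition n := fun l =>
    (decide (m l = 1), if h : m l = 1 then
      ⟨l.parts.erase (m l), fun hi => l.parts_pos (Multiset.mem_of_mem_erase hi), by have := hsum l; omega⟩
    else
      ⟨(m l - 1) ::ₘ l.parts.erase (m l), fun hi => by
        rcases Multiset.mem_cons.mp hi with rfl | hi
        · have := hpos l; omega
        · exact l.parts_pos (Multiset.mem_of_mem_erase hi), by rw [Multiset.sum_cons, add_comm]; exact hsum l⟩)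
  refine Nat.card_le_card_of_injective f ?_
  intro l l' h
  apply Nat.Partition.ext
  have h1 : decide (m l = 1) = decide (m l' = 1) := congrArg Prod.fst h
  rw [decide_eq_decide] at h1
  have h2 := congrArg (fun p : Bool × Nat.Partition n => p.2.parts) h
  by_cases hc : m l = 1
  · simp only [f, dif_pos hc, dif_pos (h1.mp hc)] at h2
    rw [← Multiset.cons_erase (hm l), ← Multiset.cons_erase (hm l'), h2, hc, h1.mp hc]
  · simp only [f, dif_neg hc, dif_neg (mt h1.mpr hc)] at h2
    have hle : ∀ {a b}, ((m a - 1) ::ₘ a.parts.erase (m a)) = ((m b - 1) ::ₘ b.parts.erase (m b)) → m b - 1 ≤ m a - 1 := by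
      intro a b hab
      have hmem : m a - 1 ∈ ((m b - 1) ::ₘ b.parts.erase (m b)) := hab ▸ Multiset.mem_cons_self _ _
      rcases Multiset.mem_cons.mp hmem with he | he
      · omega
      · have := hmle b _ (Multiset.mem_of_mem_erase he); omega
    have e := le_antisymm (hle h2.symm) (hle h2)
    rw [e, Multiset.cons_inj_right] at h2
    have hml : m l = m l' := by have := hpos l; have := hpos l'; omega
    rw [← Multiset.cons_erase (hm l), ← Multiset.cons_erase (hm l'), h2, hml]

theorem card_partition_le : ∀ n, 5 ≤ n → Nat.card (Nat.Partition n) ≤ 2 ^ (n - 2) := by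
  intro n hn
  induction n, hn using Nat.le_induction with
  | base => exact card_partition_five
  | succ n hn ih =>
    calc Nat.card (Nat.Partition (n + 1)) ≤ 2 * Nat.card (Nat.Partition n) := card_partition_succ_le n
      _ ≤ 2 * 2 ^ (n - 2) := Nat.mul_le_mul_left _ ih
      _ = 2 ^ (n + 1 - 2) := by rw [show n + 1 - 2 = n - 2 + 1 by omega, pow_succ, mul_comm]

open Equiv in
theorem card_conjClasses_alternating_lt (n : ℕ) (hn : 5 ≤ n) :
    Nat.card (ConjClasses (alternatingGroup (Fin n))) < Nat.card (ConjClasses (Perm (Fin n))) := by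
  classical
  let A := alternatingGroup (Fin n)
  let g : ConjClasses A → ConjClasses (Perm (Fin n)) := ConjClasses.map A.subtype
  -- even classes and the largest part
  let T : ConjClasses A → Multiset ℕ := fun x => (Quotient.out x : A).val.cycleType
  let top : Multiset ℕ → ℕ := fun t => if h : t.toFinset.Nonempty then t.toFinset.max' h else 0
  let T' : Multiset ℕ → Multiset ℕ := fun t => (top t - 1) ::ₘ t.erase (top t)
  have out_mk : ∀ x : ConjClasses A, ConjClasses.mk (Quotient.out x) = x := fun x => Quotient.out_eq x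
  have gx : ∀ x, g x = ConjClasses.mk ((Quotient.out x : A) : Perm (Fin n)) := fun x => by
    conv_lhs => rw [← out_mk x]
    rfl
  -- two alternating classes in one symmetric class
  have conjA : ∀ (a b : A) (π : Perm (Fin n)), π * a * π⁻¹ = b → π ∈ A → IsConj a b := fun a b π h hπ =>
    isConj_iff.mpr ⟨⟨π, hπ⟩, Subtype.ext h⟩
  have split : ∀ x y, g x = g y → x ≠ y → Subgroup.centralizer {((Quotient.out x : A) : Perm (Fin n))} ≤ A := by
    intro x y hxy hne z hz
    rw [gx, gx, ConjClasses.mk_eq_mk_iff_isConj, isConj_iff] at hxy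
    obtain ⟨π, hπ⟩ := hxy
    by_contra hzA
    apply hne
    rw [← out_mk x, ← out_mk y, ConjClasses.mk_eq_mk_iff_isConj]
    by_cases hπA : π ∈ A
    · exact conjA _ _ π hπ hπA
    · refine conjA _ _ (π * z) ?_ ?_
      · rw [← hπ]
        rw [Subgroup.mem_centralizer_singleton_iff] at hz
        have e : z * (Quotient.out x : A).val * z⁻¹ = (Quotient.out x : A).val := by
          first | rw [hz, mul_inv_cancel_right] | rw [← hz, mul_inv_cancel_right]
        conv_rhs => rw [← e]
        group
      · simp only [A, Equiv.Perm.mem_alternatingGroup, map_mul] at hzA hπA ⊢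
        rcases Int.units_eq_one_or (Perm.sign π) with h | h <;> rcases Int.units_eq_one_or (Perm.sign z) with h' | h' <;>
          simp [h, h'] at hzA hπA ⊢
  have three : ∀ x y w, g x = g y → g x = g w → x ≠ y → x ≠ w → y = w := by
    intro x y w hxy hxw h1 h2
    rw [gx, gx, ConjClasses.mk_eq_mk_iff_isConj, isConj_iff] at hxy hxw
    obtain ⟨π, hπ⟩ := hxy
    obtain ⟨σ, hσ⟩ := hxw
    have odd : ∀ (τ : Perm (Fin n)) (v : ConjClasses A), τ * (Quotient.out x : A).val * τ⁻¹ = (Quotient.out v : A).val →
        x ≠ v → Perm.sign τ = -1 := by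
      intro τ v hτ hv
      refine (Int.units_eq_one_or _).resolve_left fun h => hv ?_
      rw [← out_mk x, ← out_mk v, ConjClasses.mk_eq_mk_iff_isConj]
      exact conjA _ _ τ hτ h
    rw [← out_mk y, ← out_mk w, ConjClasses.mk_eq_mk_iff_isConj]
    refine conjA _ _ (σ * π⁻¹) (by rw [← hπ, ← hσ]; group) ?_
    simp only [A, Equiv.Perm.mem_alternatingGroup, map_mul, map_inv, odd π y hπ h1, odd σ w hσ h2]
    simp
  -- the modified cycle type of a split class
  have key : ∀ x y, g x = g y → x ≠ y → (∀ i ∈ T x, Odd i) ∧ (T x).Nodup ∧ n ≤ (T x).sum + 1 := by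
    intro x y h h'
    obtain ⟨a, b, c⟩ := Equiv.Perm.centralizer_le_alternating_iff.mp (split x y h h')
    exact ⟨a, Multiset.nodup_iff_count_le_one.mpr c, by simpa using b⟩
  have topmem : ∀ x y, g x = g y → x ≠ y → top (T x) ∈ T x ∧ 3 ≤ top (T x) ∧ ∀ i ∈ T x, i ≤ top (T x) := by
    intro x y h h'
    obtain ⟨a, b, c⟩ := key x y h h'
    have hne : (T x).toFinset.Nonempty := by
      rw [Multiset.toFinset_nonempty]
      intro h0; rw [h0, Multiset.sum_zero] at c; omega
    simp only [top, dif_pos hne]
    have hm : (T x).toFinset.max' hne ∈ T x := Multiset.mem_toFinset.mp (Finset.max'_mem _ _)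
    refine ⟨hm, ?_, fun i hi => Finset.le_max' _ _ (Multiset.mem_toFinset.mpr hi)⟩
    have h2 := Perm.two_le_of_mem_cycleType hm
    obtain ⟨k, hk⟩ := a _ hm
    omega
  have hsum : ∀ x, (T x).sum ≤ n := fun x => by
    have := ((Perm.exists_with_cycleType_iff (Fin n)).mp ⟨_, (rfl : _ = T x)⟩).1
    simpa using this
  have hT' : ∀ x y, g x = g y → x ≠ y → ∃ τ : Perm (Fin n), τ.cycleType = T' (T x) ∧ Perm.sign τ = -1 := by
    intro x y h h'
    obtain ⟨hm, h3, hle⟩ := topmem x y h h'
    have hs := Multiset.sum_cons (top (T x)) ((T x).erase (top (T x)))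
    rw [Multiset.cons_erase hm] at hs
    have hsT := hsum x
    have hsum' : (T' (T x)).sum + 1 = (T x).sum := by
      simp only [T', Multiset.sum_cons]; omega
    obtain ⟨τ, hτ⟩ := (Perm.exists_with_cycleType_iff (Fin n) (m := T' (T x))).mpr ⟨by
      rw [Fintype.card_fin]; omega, fun i hi => by
        rcases Multiset.mem_cons.mp hi with rfl | hi
        · omega
        · exact Perm.two_le_of_mem_cycleType (Multiset.mem_of_mem_erase hi)⟩
    refine ⟨τ, hτ, ?_⟩
    have hcard : Multiset.card (T' (T x)) = Multiset.card (T x) := by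
      simp only [T', Multiset.card_cons, Multiset.card_erase_add_one hm]
    have hev : Perm.sign (Quotient.out x : A).val = 1 := (Quotient.out x : A).2
    rw [Perm.sign_of_cycleType] at hev ⊢
    rw [hτ, hcard]
    change (-1 : ℤˣ) ^ ((T x).sum + Multiset.card (T x)) = 1 at hev
    rw [← hsum', add_right_comm, pow_succ, mul_neg_one, neg_eq_iff_eq_neg] at hev
    exact hev
  -- choose a representative class in each fibre
  let r : ConjClasses (Perm (Fin n)) → ConjClasses A := fun c =>
    if h : ∃ x, g x = c then h.choose else ConjClasses.mk 1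
  have hr : ∀ x, g (r (g x)) = g x := fun x => by
    have h : ∃ y, g y = g x := ⟨x, rfl⟩
    simp only [r, dif_pos h]
    exact h.choose_spec
  let F : ConjClasses A → ConjClasses (Perm (Fin n)) := fun x =>
    if h : x = r (g x) then g x else ConjClasses.mk (hT' x (r (g x)) (hr x).symm h).choose
  have sgn : ∀ x (h : ¬ x = r (g x)) y, F x ≠ g y := by
    intro x h y he
    simp only [F, dif_neg h] at he
    rw [gx y, ConjClasses.mk_eq_mk_iff_isConj, isConj_iff] at he
    obtain ⟨c, hc⟩ := he
    have h1 := (hT' x (r (g x)) (hr x).symm h).choose_spec.2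
    have h2 := congrArg Perm.sign hc
    rw [map_mul, map_mul, map_inv, mul_comm (Perm.sign c), mul_inv_cancel_right, h1,
      show Perm.sign (Quotient.out y : A).val = 1 from (Quotient.out y : A).2] at h2
    exact absurd h2 (by decide)
  have hF : Function.Injective F := by
    intro x y he
    by_cases hx : x = r (g x) <;> by_cases hy : y = r (g y)
    · simp only [F, dif_pos hx, dif_pos hy] at he
      rw [hx, hy, he]
    · simp only [F, dif_pos hx] at he
      exact absurd he.symm (sgn y hy x)
    · simp only [F, dif_pos hy] at he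
      exact absurd he (sgn x hx y)
    · simp only [F, dif_neg hx, dif_neg hy] at he
      rw [ConjClasses.mk_eq_mk_iff_isConj, Perm.isConj_iff_cycleType_eq,
        (hT' x (r (g x)) (hr x).symm hx).choose_spec.1, (hT' y (r (g y)) (hr y).symm hy).choose_spec.1] at he
      obtain ⟨hmx, h3x, -⟩ := topmem x _ (hr x).symm hx
      obtain ⟨hmy, h3y, -⟩ := topmem y _ (hr y).symm hy
      have ox := (key x _ (hr x).symm hx).1
      have oy := (key y _ (hr y).symm hy).1
      have evx : top (T x) - 1 ∈ T' (T y) := he ▸ Multiset.mem_cons_self _ _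
      have e : top (T x) = top (T y) := by
        rcases Multiset.mem_cons.mp evx with h | h
        · omega
        · obtain ⟨k, hk⟩ := oy _ (Multiset.mem_of_mem_erase h)
          obtain ⟨j, hj⟩ := ox _ hmx
          omega
      simp only [T', e, Multiset.cons_inj_right] at he
      have hT : T x = T y := by
        rw [← Multiset.cons_erase hmx, ← Multiset.cons_erase hmy, e, he]
      have hg : g x = g y := by
        rw [gx, gx, ConjClasses.mk_eq_mk_iff_isConj, Perm.isConj_iff_cycleType_eq]
        exact hT
      refine three (r (g x)) x y (hr x) ((hr x).trans hg) (Ne.symm hx) ?_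
      rw [hg]; exact Ne.symm hy
  obtain ⟨τ, hτ⟩ := (Perm.exists_with_cycleType_iff (Fin n) (m := ({2} : Multiset ℕ))).mpr
    ⟨by rw [Fintype.card_fin]; simp; omega, by simp⟩
  have hnot : ConjClasses.mk τ ∉ Set.range F := by
    rintro ⟨x, hx⟩
    by_cases h : x = r (g x)
    · simp only [F, dif_pos h] at hx
      rw [gx, ConjClasses.mk_eq_mk_iff_isConj, Perm.isConj_iff_cycleType_eq, hτ] at hx
      have hev : Perm.sign (Quotient.out x : A).val = 1 := (Quotient.out x : A).2
      rw [Perm.sign_of_cycleType, hx] at hev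
      exact absurd hev (by decide)
    · simp only [F, dif_neg h] at hx
      rw [ConjClasses.mk_eq_mk_iff_isConj, Perm.isConj_iff_cycleType_eq,
        (hT' x (r (g x)) (hr x).symm h).choose_spec.1, hτ] at hx
      obtain ⟨hm, h3, -⟩ := topmem x _ (hr x).symm h
      obtain ⟨-, -, hc⟩ := key x _ (hr x).symm h
      have hs := Multiset.sum_cons (top (T x)) ((T x).erase (top (T x)))
      rw [Multiset.cons_erase hm] at hs
      have := congrArg Multiset.sum hx
      simp only [T', Multiset.sum_cons, Multiset.sum_singleton] at this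
      omega
  refine lt_of_le_of_ne (Nat.card_le_card_of_injective F hF) fun he => hnot ?_
  exact ((Nat.bijective_iff_injective_and_card F).mpr ⟨hF, he⟩).2 _

theorem card_conjClasses_perm_le {α : Type*} [Fintype α] [DecidableEq α] :
    Nat.card (ConjClasses (Equiv.Perm α)) ≤ Nat.card (Nat.Partition (Fintype.card α)) := by
  refine Nat.card_le_card_of_injective
    (Quotient.lift Equiv.Perm.partition (fun _ _ h => Equiv.Perm.partition_eq_of_isConj.mp h)) ?_
  rintro ⟨σ⟩ ⟨τ⟩ h
  exact Quot.sound (Equiv.Perm.partition_eq_of_isConj.mpr h)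

/-- For n ≥ 5 the alternating group of degree n has strictly fewer conjugacy classes than the symmetric group of degree n, and the symmetric group of degree n (whose classes correspond to the partitions of n) has at most 2^(n−2) conjugacy classes. -/
theorem result (n : ℕ) (hn : 5 ≤ n) : Nat.card (ConjClasses (alternatingGroup (Fin n))) < Nat.card (ConjClasses (Equiv.Perm (Fin n))) ∧ Nat.card (ConjClasses (Equiv.Perm (Fin n))) ≤ 2 ^ (n - 2) := by
  refine ⟨card_conjClasses_alternating_lt n hn, card_conjClasses_perm_le.trans ?_⟩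
  rw [Fintype.card_fin]
  exact card_partition_le n hn

end Cfsg.Agent.S4198
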