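import Cfsg.Statements.S4200
import Cfsg.Agent.EqLemmas

set_option autoImplicit false
open Cfsg

namespace Cfsg.Agent.S4200

/-- An element of the coset `c` commuting with `a`, if there is one. -/
noncomputable def rep {X : Type*} [Group X] {Y : Subgroup X} (a : X) (c : X ⧸ Y) : X :=
  Classical.epsilon fun z => (QuotientGroup.mk z : X ⧸ Y) = c ∧ Commute a z

theorem rep_spec {X : Type*} [Group X] {Y : Subgroup X} {a z : X} (hz : Commute a z) :
    ((QuotientGroup.mk (rep (Y := Y) a (QuotientGroup.mk z)) : X ⧸ Y) = QuotientGroup.mk z) ∧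
      Commute a (rep (Y := Y) a (QuotientGroup.mk z)) :=
  Classical.epsilon_spec (p := fun w => (QuotientGroup.mk w : X ⧸ Y) = QuotientGroup.mk z ∧ Commute a w) ⟨z, rfl, hz⟩

theorem rep_inv_mul_mem {X : Type*} [Group X] {Y : Subgroup X} {a z : X} (hz : Commute a z) :
    (rep (Y := Y) a (QuotientGroup.mk z))⁻¹ * z ∈ Y :=
  QuotientGroup.eq.mp (rep_spec hz).1

theorem rep_inv_mul_commute {X : Type*} [Group X] {Y : Subgroup X} {a z : X} (hz : Commute a z) :
    Commute a ((rep (Y := Y) a (QuotientGroup.mk z))⁻¹ * z) :=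
  (rep_spec hz).2.inv_right.mul_right hz

/-- Let Y be a subgroup of the finite group X, of index m. Then the numbers of conjugacy classes satisfy k(Y) ≤ m·k(X) and k(X) ≤ m·k(Y), and the second inequality is strict unless Y is normal in X. -/
theorem result {X : Type*} [Group X] [Finite X] (Y : Subgroup X) : Nat.card (ConjClasses Y) ≤ Y.index * Nat.card (ConjClasses X) ∧ Nat.card (ConjClasses X) ≤ Y.index * Nat.card (ConjClasses Y) ∧ (¬ Y.Normal → Nat.card (ConjClasses X) < Y.index * Nat.card (ConjClasses Y)) := by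
  let A := {p : X × X // Commute p.1 p.2}
  let B := {p : X × Y // Commute p.1 (p.2 : X)}
  let C := {p : Y × Y // Commute p.1 p.2}
  let e : A → (X ⧸ Y) × B := fun a =>
    (QuotientGroup.mk a.1.2, ⟨(a.1.1, ⟨_, rep_inv_mul_mem a.2⟩), rep_inv_mul_commute a.2⟩)
  let f : B → (X ⧸ Y) × C := fun b =>
    (QuotientGroup.mk b.1.1, ⟨(⟨_, rep_inv_mul_mem b.2.symm⟩, b.1.2),
      Subtype.ext (rep_inv_mul_commute b.2.symm).symm⟩)
  have he : Function.Injective e := by
    rintro ⟨⟨x, z⟩, h⟩ ⟨⟨x', z'⟩, h'⟩ he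
    have h1 : (QuotientGroup.mk z : X ⧸ Y) = QuotientGroup.mk z' := congrArg Prod.fst he
    obtain rfl : x = x' := congrArg (fun w => w.2.1.1) he
    have h3 : (rep (Y := Y) x (QuotientGroup.mk z))⁻¹ * z = (rep (Y := Y) x (QuotientGroup.mk z'))⁻¹ * z' :=
      congrArg (fun w => (w.2.1.2 : X)) he
    rw [h1] at h3
    obtain rfl := mul_left_cancel h3
    rfl
  have hf : Function.Injective f := by
    rintro ⟨⟨x, z⟩, h⟩ ⟨⟨x', z'⟩, h'⟩ hf
    have h1 : (QuotientGroup.mk x : X ⧸ Y) = QuotientGroup.mk x' := congrArg Prod.fst hf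
    obtain rfl : z = z' := congrArg (fun w => w.2.1.2) hf
    have h2 : (rep (Y := Y) (z : X) (QuotientGroup.mk x))⁻¹ * x = (rep (Y := Y) (z : X) (QuotientGroup.mk x'))⁻¹ * x' :=
      congrArg (fun w => (w.2.1.1 : X)) hf
    rw [h1] at h2
    obtain rfl := mul_left_cancel h2
    rfl
  have hA : Nat.card A = Nat.card (ConjClasses X) * Nat.card X := card_comm_eq_card_conjClasses_mul_card X
  have hC : Nat.card C = Nat.card (ConjClasses Y) * Nat.card Y := card_comm_eq_card_conjClasses_mul_card Y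
  have hX : Nat.card Y * Y.index = Nat.card X := Y.card_mul_index
  have hm : Y.index = Nat.card (X ⧸ Y) := Y.index_eq_card
  have le1 : Nat.card C ≤ Nat.card A := by
    refine Nat.card_le_card_of_injective (fun c => (⟨((c.1.1 : X), (c.1.2 : X)), congrArg Subtype.val c.2⟩ : A)) ?_
    rintro ⟨⟨u, v⟩, h⟩ ⟨⟨u', v'⟩, h'⟩ h''
    have hu : u = u' := Subtype.ext (congrArg (fun w : A => w.1.1) h'')
    have hv : v = v' := Subtype.ext (congrArg (fun w : A => w.1.2) h'')
    subst hu hv
    rfl
  have leA : Nat.card A ≤ Y.index * Nat.card B := by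
    rw [hm, ← Nat.card_prod]; exact Nat.card_le_card_of_injective e he
  have leB : Nat.card B ≤ Y.index * Nat.card C := by
    rw [hm, ← Nat.card_prod]; exact Nat.card_le_card_of_injective f hf
  have hpos : 0 < Nat.card Y := Nat.card_pos
  have hipos : 0 < Y.index := Nat.pos_of_ne_zero Subgroup.index_ne_zero_of_finite
  have le2 : Nat.card (ConjClasses X) ≤ Y.index * Nat.card (ConjClasses Y) := by
    refine Nat.le_of_mul_le_mul_right ?_ (Nat.mul_pos hpos hipos)
    calc Nat.card (ConjClasses X) * (Nat.card Y * Y.index) = Nat.card A := by rw [hA, hX]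
      _ ≤ Y.index * (Y.index * Nat.card C) := leA.trans (Nat.mul_le_mul_left _ leB)
      _ = Y.index * Nat.card (ConjClasses Y) * (Nat.card Y * Y.index) := by rw [hC]; ring
  refine ⟨?_, le2, ?_⟩
  · refine Nat.le_of_mul_le_mul_right ?_ hpos
    calc Nat.card (ConjClasses Y) * Nat.card Y = Nat.card C := hC.symm
      _ ≤ Nat.card A := le1
      _ = Y.index * Nat.card (ConjClasses X) * Nat.card Y := by rw [hA, ← hX]; ring
  · intro hnn
    refine lt_of_le_of_ne le2 fun heq => hnn ?_
    have h1 : Nat.card A = Y.index * (Y.index * Nat.card C) := by rw [hA, hC, heq, ← hX]; ring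
    have h2 : Y.index * Nat.card B = Y.index * (Y.index * Nat.card C) :=
      le_antisymm (Nat.mul_le_mul_left _ leB) (h1 ▸ leA)
    have he' : Function.Bijective e :=
      (Nat.bijective_iff_injective_and_card e).mpr ⟨he, by rw [Nat.card_prod, ← hm, h1, h2]⟩
    refine ⟨fun y hy g => ?_⟩
    obtain ⟨⟨⟨u, z⟩, huz⟩, hz⟩ := he'.2 (QuotientGroup.mk g⁻¹, ⟨(y, 1), Commute.one_right _⟩)
    have h1 : (QuotientGroup.mk z : X ⧸ Y) = QuotientGroup.mk g⁻¹ := congrArg Prod.fst hz
    obtain rfl : u = y := congrArg (fun w => w.2.1.1) hz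
    have hw : g * z ∈ Y := by simpa using QuotientGroup.eq.mp h1.symm
    have key : g * u * g⁻¹ = g * z * u * (g * z)⁻¹ := by
      have hzu : z * u * z⁻¹ = u := by rw [← huz.eq, mul_inv_cancel_right]
      conv_lhs => rw [← hzu]
      group
    rw [key]
    exact mul_mem (mul_mem hw hy) (inv_mem hw)

end Cfsg.Agent.S4200
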