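import Cfsg.Statements.S4201
import Cfsg.Agent.EqLemmas
import Cfsg.Agent.S4200

set_option autoImplicit false
open Cfsg

namespace Cfsg.Agent.S4201

/-- If N is a normal subgroup of the finite group X then k(X) ≤ k(N)·k(X ⧸ N), where k denotes the number of conjugacy classes. -/
theorem result {X : Type*} [Group X] [Finite X] (N : Subgroup X) [N.Normal] : Nat.card (ConjClasses X) ≤ Nat.card (ConjClasses N) * Nat.card (ConjClasses (X ⧸ N)) := by
  let A := {p : X × X // Commute p.1 p.2}
  let C := {p : N × N // Commute p.1 p.2}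
  let Q := {p : (X ⧸ N) × (X ⧸ N) // Commute p.1 p.2}
  let e : A → Q × C := fun a =>
    (⟨(QuotientGroup.mk' N a.1.1, QuotientGroup.mk' N a.1.2), a.2.map (QuotientGroup.mk' N)⟩,
      ⟨(⟨_, S4200.rep_inv_mul_mem (S4200.rep_inv_mul_commute (Y := N) a.2).symm⟩, ⟨_, S4200.rep_inv_mul_mem a.2⟩),
        Subtype.ext (S4200.rep_inv_mul_commute (S4200.rep_inv_mul_commute (Y := N) a.2).symm).symm⟩)
  have he : Function.Injective e := by
    rintro ⟨⟨x, z⟩, h⟩ ⟨⟨x', z'⟩, h'⟩ he
    have h1 : (QuotientGroup.mk x : X ⧸ N) = QuotientGroup.mk x' := congrArg (fun w => w.1.1.1) he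
    have h2 : (QuotientGroup.mk z : X ⧸ N) = QuotientGroup.mk z' := congrArg (fun w => w.1.1.2) he
    have h4 : (S4200.rep (Y := N) x (QuotientGroup.mk z))⁻¹ * z = (S4200.rep (Y := N) x' (QuotientGroup.mk z'))⁻¹ * z' :=
      congrArg (fun w => (w.2.1.2 : X)) he
    have h3 : (S4200.rep (Y := N) ((S4200.rep (Y := N) x (QuotientGroup.mk z))⁻¹ * z) (QuotientGroup.mk x))⁻¹ * x =
        (S4200.rep (Y := N) ((S4200.rep (Y := N) x' (QuotientGroup.mk z'))⁻¹ * z') (QuotientGroup.mk x'))⁻¹ * x' :=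
      congrArg (fun w => (w.2.1.1 : X)) he
    rw [h4, h1] at h3
    obtain rfl := mul_left_cancel h3
    rw [h2] at h4
    obtain rfl := mul_left_cancel h4
    rfl
  have hle := Nat.card_le_card_of_injective e he
  have hA : Nat.card A = Nat.card (ConjClasses X) * Nat.card X := card_comm_eq_card_conjClasses_mul_card X
  have hC : Nat.card C = Nat.card (ConjClasses N) * Nat.card N := card_comm_eq_card_conjClasses_mul_card N
  have hQ : Nat.card Q = Nat.card (ConjClasses (X ⧸ N)) * Nat.card (X ⧸ N) := card_comm_eq_card_conjClasses_mul_card _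
  rw [Nat.card_prod, hA, hC, hQ] at hle
  refine Nat.le_of_mul_le_mul_right ?_ (Nat.card_pos (α := X))
  calc Nat.card (ConjClasses X) * Nat.card X ≤ _ := hle
    _ = Nat.card (ConjClasses N) * Nat.card (ConjClasses (X ⧸ N)) * Nat.card X := by
      rw [Subgroup.card_eq_card_quotient_mul_card_subgroup N]; ring

end Cfsg.Agent.S4201
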