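import Cfsg.Statements.S0869
import Cfsg.Agent.EqLemmas

set_option autoImplicit false
open Cfsg

namespace Cfsg.Agent.S0869

/-- Let S be a nonempty finite type and R an additive subgroup of the integer-valued functions on S that is closed under pointwise multiplication. If the constant function 1 is not in R, then there exist a point x of S and a prime p such that p divides f x for every f in R. -/
theorem result {S : Type*} [Finite S] [Nonempty S] (R : AddSubgroup (S → ℤ)) (hmul : ∀ f ∈ R, ∀ g ∈ R, f * g ∈ R) (h1 : (1 : S → ℤ) ∉ R) : ∃ (x : S) (p : ℕ), p.Prime ∧ ∀ f ∈ R, (p : ℤ) ∣ f x := by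
  classical
  by_contra hc
  push Not at hc
  have hone : ∀ x : S, ∃ f ∈ R, f x = 1 := by
    intro x
    obtain ⟨a, ha⟩ := Int.subgroup_cyclic (R.map (Pi.evalAddMonoidHom (fun _ : S => ℤ) x))
    have hdvd : ∀ f ∈ R, a ∣ f x := by
      intro f hf
      have hm : f x ∈ R.map (Pi.evalAddMonoidHom (fun _ : S => ℤ) x) :=
        AddSubgroup.mem_map.2 ⟨f, hf, rfl⟩
      rw [ha, AddSubgroup.mem_closure_singleton] at hm
      obtain ⟨n, hn⟩ := hm
      exact ⟨n, by rw [← hn, smul_eq_mul, mul_comm]⟩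
    have ha1 : a.natAbs = 1 := by
      by_contra hne
      obtain ⟨p, hp, hpd⟩ := Nat.exists_prime_and_dvd hne
      obtain ⟨f, hf, hnd⟩ := hc x p hp
      exact hnd ((Int.natCast_dvd.2 hpd).trans (hdvd f hf))
    have h1m : (1 : ℤ) ∈ R.map (Pi.evalAddMonoidHom (fun _ : S => ℤ) x) := by
      rw [ha, AddSubgroup.mem_closure_singleton]
      rcases Int.natAbs_eq_natAbs_iff.1 (show a.natAbs = (1 : ℤ).natAbs from ha1) with h | h
      · exact ⟨1, by simp [h]⟩
      · exact ⟨-1, by simp [h]⟩
    obtain ⟨f, hf, hfx⟩ := AddSubgroup.mem_map.1 h1m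
    exact ⟨f, hf, hfx⟩
  have hall : ∀ T : Finset S, ∃ f ∈ R, ∀ x ∈ T, f x = 1 := by
    intro T
    induction T using Finset.induction_on with
    | empty => exact ⟨0, R.zero_mem, by simp⟩
    | insert x T hx ih =>
      obtain ⟨f, hf, hfT⟩ := ih
      obtain ⟨g, hg, hgx⟩ := hone x
      refine ⟨f + g - f * g, R.sub_mem (R.add_mem hf hg) (hmul f hf g hg), ?_⟩
      intro y hy
      simp only [Pi.sub_apply, Pi.add_apply, Pi.mul_apply]
      rcases Finset.mem_insert.1 hy with rfl | hy
      · rw [hgx]; ring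
      · rw [hfT y hy]; ring
  have := Fintype.ofFinite S
  obtain ⟨f, hf, hf1⟩ := hall Finset.univ
  exact h1 ((funext fun x => hf1 x (Finset.mem_univ x) : f = 1) ▸ hf)

end Cfsg.Agent.S0869
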