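import Cfsg.Statements.S0841
import Cfsg.Agent.EqLemmas

set_option autoImplicit false
open Cfsg

namespace Cfsg.Agent.S0841

variable {G : Type*} [Group G]

theorem tri (n : ℕ) : (n + 1) * (n + 1 - 1) / 2 = n * (n - 1) / 2 + n := by
  cases n with
  | zero => rfl
  | succ m =>
    have : (m + 1 + 1) * (m + 1 + 1 - 1) = (m + 1) * (m + 1 - 1) + (m + 1) * 2 := by
      simp only [Nat.add_sub_cancel]; ring
    rw [this, Nat.add_mul_div_right _ _ (by norm_num : 0 < 2)]

theorem pow_aux (x y c : G) (hcx : Commute c x) (hcy : Commute c y) (h : y * x = x * y * c) :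
    ∀ n : ℕ, y ^ n * x = x * y ^ n * c ^ n := by
  intro n
  induction n with
  | zero => simp
  | succ n ih =>
    calc y ^ (n + 1) * x = y ^ n * (y * x) := by rw [pow_succ, mul_assoc]
      _ = (y ^ n * x) * (y * c) := by rw [h]; simp [mul_assoc]
      _ = x * y ^ n * c ^ n * (y * c) := by rw [ih]
      _ = x * y ^ n * (c ^ n * y) * c := by simp [mul_assoc]
      _ = x * y ^ n * (y * c ^ n) * c := by rw [(hcy.pow_left n).eq]
      _ = x * y ^ (n + 1) * c ^ (n + 1) := by rw [pow_succ y, pow_succ c]; simp [mul_assoc]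


/-- If the commutator subgroup of G lies in the centre, then for all x, y in G and every natural number n one has (x * y) ^ n = x ^ n * y ^ n * c ^ (n * (n - 1) / 2) with c = y⁻¹ * x⁻¹ * y * x. -/
theorem result {G : Type*} [Group G] (hG : commutator G ≤ Subgroup.center G) (x y : G) (n : ℕ) : (x * y) ^ n = x ^ n * y ^ n * (y⁻¹ * x⁻¹ * y * x) ^ (n * (n - 1) / 2) := by
  set c := y⁻¹ * x⁻¹ * y * x with hc
  have hmem : c ∈ Subgroup.center G := by
    apply hG
    have := Subgroup.commutator_mem_commutator (Subgroup.mem_top (y⁻¹)) (Subgroup.mem_top (x⁻¹))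
    rw [commutatorElement_def, inv_inv, inv_inv] at this
    exact this
  have hcz : ∀ z : G, Commute c z := fun z => (Subgroup.mem_center_iff.1 hmem z).symm
  have h : y * x = x * y * c := by rw [hc]; group
  induction n with
  | zero => simp
  | succ n ih =>
    calc (x * y) ^ (n + 1) = x ^ n * y ^ n * c ^ (n * (n - 1) / 2) * (x * y) := by rw [pow_succ, ih]
      _ = x ^ n * (y ^ n * x) * y * c ^ (n * (n - 1) / 2) := by
          rw [mul_assoc (x ^ n * y ^ n), ((hcz (x * y)).pow_left _).eq]; simp [mul_assoc]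
      _ = x ^ n * x * y ^ n * (c ^ n * y) * c ^ (n * (n - 1) / 2) := by
          rw [pow_aux x y c (hcz x) (hcz y) h n]; simp [mul_assoc]
      _ = x ^ n * x * y ^ n * (y * c ^ n) * c ^ (n * (n - 1) / 2) := by
          rw [((hcz y).pow_left n).eq]
      _ = x ^ (n + 1) * y ^ (n + 1) * (c ^ n * c ^ (n * (n - 1) / 2)) := by
          rw [pow_succ x, pow_succ y]; simp [mul_assoc]
      _ = x ^ (n + 1) * y ^ (n + 1) * c ^ ((n + 1) * (n + 1 - 1) / 2) := by
          rw [← pow_add, tri, Nat.add_comm n (n * (n - 1) / 2)]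

end Cfsg.Agent.S0841
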