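import Cfsg.Statements.S5433
import Cfsg.Agent.Lib.LargeExtraspecial.Basic

set_option autoImplicit false
open Cfsg

namespace Cfsg.Agent.S5433

/-- Let Q be a large extraspecial 2-subgroup of the finite group G (extraspecial; centralizer equal to its centre; normal in the centralizer of its centre; normalizing no non-trivial subgroup of odd order), and L a normal subgroup of G containing Q. Then G is the product of L and the normalizer of Q. -/
theorem result {G : Type*} [Group G] [Finite G] (Q : Subgroup G) (hQ : Cfsg.IsLargeExtraspecial Q) (L : Subgroup G) [L.Normal] (hQL : Q ≤ L) : L ⊔ Subgroup.normalizer (Q : Set G) = ⊤ := by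
  obtain ⟨hQe, hL2, hL3, -⟩ := hQ
  haveI : Fact (Nat.Prime 2) := ⟨Nat.prime_two⟩
  obtain ⟨P, hP⟩ := IsPGroup.exists_le_sylow (hQe.1.1.comap_subtype (K := L))
  set T : Subgroup G := (P : Subgroup L).map L.subtype with hT
  have hTp : IsPGroup 2 T := P.isPGroup'.map _
  have hQT : Q ≤ T := fun x hx => ⟨⟨x, hQL hx⟩, hP (Subgroup.mem_comap.mpr hx), rfl⟩
  have hZ := LargeExtraspecial.center_sylow_eq hQe hL2 hTp hQT
  rw [eq_top_iff, ← Sylow.normalizer_sup_eq_top P, sup_comm]
  refine sup_le_sup le_rfl fun g hg => ?_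
  apply hL3
  rw [Subgroup.mem_centralizer_iff]
  intro z hz
  obtain ⟨y, hy, hy2, -⟩ := LargeExtraspecial.exists_gen_zc hQe
  have hzT : z ∈ LargeExtraspecial.zc T := hZ ▸ hz
  have hgn := Subgroup.mem_normalizer_iff.mp hg
  have hgz : g * z * g⁻¹ ∈ LargeExtraspecial.zc Q := by
    rw [← hZ, LargeExtraspecial.mem_zc]
    refine ⟨(hgn z).mp (LargeExtraspecial.zc_le T hzT), fun q hq => ?_⟩
    have hq' : g⁻¹ * q * g ∈ T := (hgn _).mpr (by rwa [show g * (g⁻¹ * q * g) * g⁻¹ = q by group])
    have h := congrArg (fun a => g * a * g⁻¹) ((LargeExtraspecial.mem_zc.mp hzT).2 _ hq')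
    simpa [mul_assoc] using h
  rw [hy] at hgz
  rw [show (LargeExtraspecial.zc Q : Set G) = (Subgroup.zpowers y : Set G) from congrArg _ hy] at hz
  have key : ∀ a : G, a ∈ Subgroup.zpowers y → a = 1 ∨ a = y := by
    intro a ha
    obtain ⟨n, rfl⟩ := Subgroup.mem_zpowers_iff.mp ha
    rcases Int.even_or_odd n with ⟨m, rfl⟩ | ⟨m, rfl⟩
    · left; rw [← two_mul, zpow_mul, zpow_ofNat, ← hy2, pow_orderOf_eq_one, one_zpow]
    · right; rw [zpow_add, zpow_mul, zpow_ofNat, ← hy2, pow_orderOf_eq_one, one_zpow, one_mul, zpow_one]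
  rcases key z hz with rfl | rfl
  · simp
  · rcases key _ hgz with h | h
    · rw [conj_eq_one_iff] at h
      simp [h]
    · calc z * g = (g * z * g⁻¹) * g := by rw [h]
        _ = g * z := by group

end Cfsg.Agent.S5433
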