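import Cfsg.Statements.S5421
import Cfsg.Agent.Lib.LargeExtraspecial.Basic

set_option autoImplicit false
open Cfsg

namespace Cfsg.Agent.S5421

/-- Let Q be an extraspecial 2-subgroup of the finite group G whose centralizer in G is its centre Z and which is normal in the centralizer of Z. If some involution b of Q outside Z has Z inside the largest normal 2-subgroup of the centralizer of b, then Q is a large extraspecial 2-subgroup of G. -/
theorem result {G : Type*} [Group G] [Finite G] (Q : Subgroup G) (hL1 : Cfsg.IsExtraspecial 2 ↥Q) (hL2 : Subgroup.centralizer (Q : Set G) = ((Subgroup.center ↥Q).map Q.subtype)) (hL3 : Subgroup.centralizer (((Subgroup.center ↥Q).map Q.subtype) : Set G) ≤ Subgroup.normalizer (Q : Set G)) (b : G) (hbQ : b ∈ Q) (hbZ : b ∉ ((Subgroup.center ↥Q).map Q.subtype)) (hb : orderOf b = 2) (hZ : ((Subgroup.center ↥Q).map Q.subtype) ≤ (Cfsg.pCore 2 ↥(Subgroup.centralizer ({b} : Set G))).map (Subgroup.centralizer ({b} : Set G)).subtype) : Cfsg.IsLargeExtraspecial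 Q := by
  refine ⟨hL1, hL2, hL3, fun K hK hQK => ?_⟩
  haveI : Fact (Nat.Prime 2) := ⟨Nat.prime_two⟩
  obtain ⟨z, hzc, hz2, hzQ⟩ := LargeExtraspecial.exists_gen_zc hL1
  refine LargeExtraspecial.eq_bot_of_zc_centralizes hL1 hL2 hL3 hK hQK ?_
  have hzz : z ∈ LargeExtraspecial.zc Q := hzc ▸ Subgroup.mem_zpowers z
  suffices h : ∀ k ∈ K, k * z = z * k by
    intro k hk w hw
    rw [hzc] at hw
    obtain ⟨n, rfl⟩ := Subgroup.mem_zpowers_iff.mp hw
    exact (show Commute k z from h k hk).zpow_right n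
  have hzb := (LargeExtraspecial.mem_zc.mp hzz).2
  -- `P` is the 2-core of the centralizer of `b`
  set C := Subgroup.centralizer ({b} : Set G) with hC
  set P := (Cfsg.pCore 2 C).map C.subtype with hP
  have hPp : IsPGroup 2 P := (LargeExtraspecial.isPGroup_pCore 2).map _
  have hzP : z ∈ P := hZ hzz
  -- step 1: whatever of `K` commutes with `b` commutes with `z`
  have h1 : ∀ k ∈ K, k * b = b * k → k * z = z * k := by
    intro k hk hkb
    refine LargeExtraspecial.commute_of_normalizes hK hPp hzP hk (hQK hzQ) ?_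
    obtain ⟨w, hw, hwz⟩ := hzP
    refine ⟨⟨k, Subgroup.mem_centralizer_singleton_iff.mpr hkb⟩ * w *
      ⟨k, Subgroup.mem_centralizer_singleton_iff.mpr hkb⟩⁻¹,
      LargeExtraspecial.pCore_conj_mem 2 hw _, ?_⟩
    simp [← hwz]
  -- `b` has a `Q`-conjugate equal to `b z`
  obtain ⟨q, hq, hqb⟩ : ∃ q ∈ Q, q * b * q⁻¹ = b * z := by
    obtain ⟨q, hq, hne⟩ : ∃ q ∈ Q, q * b ≠ b * q := by
      by_contra! hall
      exact hbZ (LargeExtraspecial.mem_zc.mpr ⟨hbQ, hall⟩)
    refine ⟨q, hq, ?_⟩
    have hm : (⟨q, hq⟩ * ⟨b, hbQ⟩ * ⟨q, hq⟩⁻¹ * ⟨b, hbQ⟩⁻¹ : Q) ∈ Subgroup.center Q := by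
      rw [← hL1.1.2.2]
      exact Subgroup.commutator_mem_commutator (Subgroup.mem_top _) (Subgroup.mem_top _)
    have hm' : q * b * q⁻¹ * b⁻¹ ∈ LargeExtraspecial.zc Q := ⟨_, hm, by simp⟩
    rw [hzc] at hm'
    obtain ⟨n, hwe⟩ := Subgroup.mem_zpowers_iff.mp hm'
    have hz' : z ^ (2 : ℤ) = 1 := by rw [zpow_ofNat, ← hz2, pow_orderOf_eq_one]
    rcases Int.even_or_odd n with ⟨m, rfl⟩ | ⟨m, rfl⟩
    · refine absurd ?_ hne
      rw [← two_mul, zpow_mul, hz', one_zpow] at hwe
      calc q * b = (q * b * q⁻¹ * b⁻¹) * (b * q) := by group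
        _ = b * q := by rw [← hwe, one_mul]
    · rw [zpow_add, zpow_mul, hz', one_zpow, one_mul, zpow_one] at hwe
      calc q * b * q⁻¹ = (q * b * q⁻¹ * b⁻¹) * b := by group
        _ = z * b := by rw [← hwe]
        _ = b * z := (hzb b hbQ).symm
  -- fixed-point sets on K of z, b and bz are trivial, so both b and z b invert, hence z centralises
  have hz0 : ∀ k ∈ K, k * z = z * k → k = 1 := by
    intro k hk hkz
    have hkn : k ∈ Subgroup.normalizer (Q : Set G) := hL3 (Subgroup.mem_centralizer_iff.mpr fun w hw => by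
      replace hw : w ∈ Subgroup.zpowers z := hzc ▸ hw
      obtain ⟨n, rfl⟩ := Subgroup.mem_zpowers_iff.mp hw
      exact ((show Commute k z from hkz).zpow_right n).symm)
    have hkc : k ∈ Subgroup.centralizer (Q : Set G) := by
      refine Subgroup.mem_centralizer_iff.mpr fun q hq => ?_
      exact (LargeExtraspecial.commute_of_normalizes hK (LargeExtraspecial.isPGroup_of_extraspecial hL1)
        hq hk (hQK hq) ((Subgroup.mem_normalizer_iff.mp hkn q).mp hq)).symm
    rw [hL2] at hkc
    exact LargeExtraspecial.eq_one_of_odd_of_two hK (LargeExtraspecial.isPGroup_of_extraspecial hL1) hk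
      (LargeExtraspecial.zc_le Q hkc)
  have hb0 : ∀ k ∈ K, k * b = b * k → k = 1 := fun k hk hkb => hz0 k hk (h1 k hk hkb)
  have hbz0 : ∀ k ∈ K, k * (b * z) = (b * z) * k → k = 1 := by
    intro k hk hkb
    have hk' : q⁻¹ * k * q ∈ K := by
      simpa using (Subgroup.mem_normalizer_iff.mp (hQK (inv_mem hq)) k).mp hk
    have := hb0 _ hk' (by
      have h := congrArg (fun a => q⁻¹ * a * q) (hqb.symm ▸ hkb : k * (q * b * q⁻¹) = (q * b * q⁻¹) * k)
      simpa [mul_assoc] using h)
    simpa [mul_assoc, mul_eq_one_iff_eq_inv] using this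
  have hinv : ∀ a : G, a ∈ Q → a * a = 1 → (∀ k ∈ K, k * a = a * k → k = 1) →
      ∀ k ∈ K, a * k * a⁻¹ = k⁻¹ := by
    intro a ha haa h0 k hk
    have hmem : ∀ x : K, a * (x : G) * a⁻¹ ∈ K :=
      fun x => (Subgroup.mem_normalizer_iff.mp (hQK ha) x).mp x.2
    let φ : K →* K :=
      { toFun := fun x => ⟨a * x * a⁻¹, hmem x⟩
        map_one' := by simp
        map_mul' := fun x y => by simp [mul_assoc] }
    have hfix : MonoidHom.FixedPointFree φ := fun x hx => by
      have hx' : a * (x : G) * a⁻¹ = x := congrArg Subtype.val hx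
      exact Subtype.ext (h0 x x.2 (by
        calc (x : G) * a = a * x * a⁻¹ * a := by rw [hx']
          _ = a * x := by group))
    have hinvol : Function.Involutive φ := fun x => by
      apply Subtype.ext
      show a * (a * x * a⁻¹) * a⁻¹ = (x : G)
      calc a * (a * x * a⁻¹) * a⁻¹ = (a * a) * x * (a * a)⁻¹ := by group
        _ = x := by rw [haa]; simp
    exact congrArg Subtype.val (congrFun (hfix.coe_eq_inv_of_involutive hinvol) ⟨k, hk⟩)
  have hzz1 : z * z = 1 := by rw [← sq, ← hz2, pow_orderOf_eq_one]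
  have hbb : b * b = 1 := by rw [← sq, ← hb, pow_orderOf_eq_one]
  have hbzbz : (b * z) * (b * z) = 1 := by
    calc (b * z) * (b * z) = b * (z * b) * z := by group
      _ = (b * b) * (z * z) := by rw [← hzb b hbQ]; group
      _ = 1 := by rw [hbb, hzz1, one_mul]
  intro k hk
  have e1 := hinv b hbQ hbb hb0 k hk
  have e2 := hinv (b * z) (mul_mem hbQ hzQ) hbzbz hbz0 k hk
  rw [← e1] at e2
  have e3 : z * k * z⁻¹ = k := by
    have := congrArg (fun a => b⁻¹ * a * b) e2
    simpa [mul_assoc] using this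
  calc k * z = z * k * z⁻¹ * z := by rw [e3]
    _ = z * k := by group

end Cfsg.Agent.S5421
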