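import Cfsg.Statements.S5347
import Cfsg.Agent.EqLemmas
import Cfsg.Agent.Lib.ThreeTrans.Basic

set_option autoImplicit false
open Cfsg

namespace Cfsg.Agent.S5347

/-- Let D be a conjugation-invariant generating set of 3-transpositions of a finite group G, p a prime bigger than 3, and P a p-subgroup of G. If a member d of D normalizes P then d centralizes P. -/
theorem result {G : Type*} [Group G] [Finite G] {D : Set G} (hD : Cfsg.IsThreeTranspositionGroup D) {p : ℕ} (hp : p.Prime) (hp3 : 3 < p) (P : Subgroup G) (hP : IsPGroup p P) {d : G} (hd : d ∈ D) (hnorm : d ∈ Subgroup.normalizer (P : Set G)) : ∀ x ∈ P, Commute d x := by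
  intro x hx
  obtain ⟨hset, hconj, -⟩ := hD
  have hd' := hconj x d hd
  have hmem : d * (x * d * x⁻¹) ∈ P := by
    have h1 := (Subgroup.mem_normalizer_iff.1 hnorm x).1 hx
    rw [ThreeTrans.inv_eq hset hd] at h1
    have := mul_mem h1 (inv_mem hx)
    simpa only [mul_assoc] using this
  obtain ⟨k, hk⟩ := hP ⟨_, hmem⟩
  have hk' : (d * (x * d * x⁻¹)) ^ (p ^ k) = 1 := congrArg Subtype.val hk
  have h2 : d * (x * d * x⁻¹) = 1 := by
    rcases hset.2 d hd _ hd' with h | h
    · have h1 : (d * (x * d * x⁻¹)) ^ Nat.gcd (p ^ k) 2 = 1 := pow_gcd_eq_one.2 ⟨hk', h⟩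
      rwa [show Nat.gcd (p ^ k) 2 = 1 from Nat.Coprime.pow_left k
        ((Nat.coprime_primes hp Nat.prime_two).2 (by omega)), pow_one] at h1
    · have h1 : (d * (x * d * x⁻¹)) ^ Nat.gcd (p ^ k) 3 = 1 := pow_gcd_eq_one.2 ⟨hk', h⟩
      rwa [show Nat.gcd (p ^ k) 3 = 1 from Nat.Coprime.pow_left k
        ((Nat.coprime_primes hp Nat.prime_three).2 (by omega)), pow_one] at h1
  have h3 : x * d * x⁻¹ = d := by
    rw [eq_inv_of_mul_eq_one_right h2, ThreeTrans.inv_eq hset hd]
  show d * x = x * d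
  calc d * x = x * d * x⁻¹ * x := by rw [h3]
    _ = x * d := by group

end Cfsg.Agent.S5347
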