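import Cfsg.Statements.S1324
import Cfsg.Agent.Lib.Coprime.Generation

set_option autoImplicit false
open Cfsg

namespace Cfsg.Agent.S1324

/-- Let A be a noncyclic elementary abelian p-subgroup of a finite group H normalizing a subgroup X of order prime to p. Then X is generated by the subgroups X ∩ C_H(B), B ranging over the subgroups of A of index at most p. -/
theorem result {H : Type*} [Group H] [Finite H] (p : ℕ) [Fact p.Prime] (A X : Subgroup H) (hA : Cfsg.IsElementaryAbelian p A) (hA2 : p ^ 2 ≤ Nat.card ↥A) (hX : ¬ p ∣ Nat.card ↥X) (hAX : A ≤ Subgroup.normalizer (X : Set H)) : X = ⨆ B : {B : Subgroup H // B ≤ A ∧ B.relIndex A ≤ p}, X ⊓ Subgroup.centralizer ((B : Subgroup H) : Set H) := by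
  have hp := (Fact.out : p.Prime)
  have hA1 := hA.1
  refine le_antisymm ?_ (iSup_le fun B => inf_le_left)
  refine Coprime.le_of_cyclic_quotient hAX ?_ fun B hBA hcyc => ?_
  · refine Nat.coprime_of_dvd fun q hq hqA hqX => hX ?_
    have := Fact.mk hq
    obtain ⟨⟨a, ha⟩, hao⟩ := exists_prime_orderOf_dvd_card' q hqA
    have h1 : q ∣ p := by
      rw [← hao]
      exact orderOf_dvd_of_pow_eq_one (Subtype.ext (hA.2 a ha))
    rwa [← (Nat.prime_dvd_prime_iff_eq hq hp).1 h1]
  · obtain ⟨g, hg, hle⟩ := hcyc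
    exact le_iSup (fun B : {B : Subgroup H // B ≤ A ∧ B.relIndex A ≤ p} =>
      X ⊓ Subgroup.centralizer ((B : Subgroup H) : Set H))
      ⟨B, hBA, Coprime.relIndex_le_of_cyclic_quotient hp hA.2 hBA hg hle⟩

end Cfsg.Agent.S1324
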