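import Cfsg.Agent.Lib.Orth.Klein
import Cfsg.Agent.Lib.Orth.SLTools
import Cfsg.Agent.Lib.Linear.Symplectic
import Cfsg.Agent.Lib.GLOrder.Symplectic
import Cfsg.Agent.S0286

set_option autoImplicit false
open Cfsg

namespace Cfsg.Agent.S0301

open Cfsg.Agent.Orth Matrix

variable {F : Type*} [Field F]

/-- Five coordinates inside six. -/
def emb : (Unit ⊕ (Fin 2 ⊕ Fin 2) → F) →ₗ[F] (Fin 3 ⊕ Fin 3 → F) where
  toFun v := Sum.elim ![v (.inr (.inl 0)), v (.inl ()), v (.inr (.inl 1))]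
    ![v (.inr (.inr 0)), v (.inl ()), v (.inr (.inr 1))]
  map_add' u v := by funext k; rcases k with k | k <;> fin_cases k <;> simp
  map_smul' c v := by funext k; rcases k with k | k <;> fin_cases k <;> simp

/-- The projection back. -/
def proj5 : (Fin 3 ⊕ Fin 3 → F) →ₗ[F] (Unit ⊕ (Fin 2 ⊕ Fin 2) → F) where
  toFun v := Sum.elim (fun _ => v (.inl 1))
    (Sum.elim ![v (.inl 0), v (.inl 2)] ![v (.inr 0), v (.inr 2)])
  map_add' u v := by
    funext k; rcases k with ⟨⟩ | k | k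
    · simp
    all_goals fin_cases k <;> simp
  map_smul' c v := by
    funext k; rcases k with ⟨⟩ | k | k
    · simp
    all_goals fin_cases k <;> simp

theorem proj5_emb (v : Unit ⊕ (Fin 2 ⊕ Fin 2) → F) : proj5 (emb v) = v := by
  funext k; rcases k with ⟨⟩ | k | k
  · rfl
  all_goals fin_cases k <;> rfl

theorem emb_proj5 {v : Fin 3 ⊕ Fin 3 → F} (h : v (.inl 1) = v (.inr 1)) : emb (proj5 v) = v := by
  funext k; rcases k with k | k <;> fin_cases k <;> simp [emb, proj5, h]

theorem Q_emb (v : Unit ⊕ (Fin 2 ⊕ Fin 2) → F) : quadFormPlus 3 F (emb v) = quadFormOdd 2 F v := by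
  simp [quadFormPlus, quadFormOdd, emb, Fin.sum_univ_three, Fin.sum_univ_two]; ring

/-- The coordinates of the matrix `J`. -/
def j0 : Fin 3 ⊕ Fin 3 → F := Sum.elim ![0, -1, 0] ![0, 1, 0]

theorem pl_j0 : pl (j0 (F := F)) =
    Matrix.reindex finSumFinEquiv finSumFinEquiv (Matrix.J (Fin 2) F) := by
  ext i j
  fin_cases i <;> fin_cases j <;>
    simp [pl, j0, Matrix.J, finSumFinEquiv, Fin.addCases]

/-- The `4 × 4` matrix of a symplectic element. -/
def m4 (A : Matrix.symplecticGroup (Fin 2) F) : Matrix (Fin 4) (Fin 4) F :=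
  Matrix.reindex finSumFinEquiv finSumFinEquiv (A : Matrix (Fin 2 ⊕ Fin 2) (Fin 2 ⊕ Fin 2) F)

theorem m4_one : m4 (1 : Matrix.symplecticGroup (Fin 2) F) = 1 := by
  simp [m4, Matrix.reindex_apply]

theorem m4_mul (A B : Matrix.symplecticGroup (Fin 2) F) : m4 (A * B) = m4 A * m4 B := by
  simp [m4, Matrix.reindex_apply, Matrix.submatrix_mul_equiv]

theorem kleinMat_j0 (A : Matrix.symplecticGroup (Fin 2) F) : kleinMat (m4 A) *ᵥ j0 = j0 := by
  rw [kleinMat_mulVec, pl_j0]
  have h := SymplecticGroup.mem_iff.1 A.2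
  simp only [m4, Matrix.reindex_apply, Matrix.transpose_submatrix, Matrix.submatrix_mul_equiv, h]
  rw [← Matrix.reindex_apply, ← pl_j0, coordL_pl]

theorem det_m4 (A : Matrix.symplecticGroup (Fin 2) F) : (m4 A).det = 1 := by
  have h := pf_congr (m4 A) (j0 (F := F))
  rw [← kleinMat_mulVec, kleinMat_j0] at h
  have hj : quadFormPlus 3 F (j0 (F := F)) = -1 := by simp [quadFormPlus, j0, Fin.sum_univ_three]
  rw [hj] at h
  linear_combination h

theorem inv_image (A : Matrix.symplecticGroup (Fin 2) F) (v : Unit ⊕ (Fin 2 ⊕ Fin 2) → F) :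
    emb (proj5 (kleinMat (m4 A) *ᵥ emb v)) = kleinMat (m4 A) *ᵥ emb v := by
  refine emb_proj5 ?_
  have hp : ∀ w : Fin 3 ⊕ Fin 3 → F, QuadraticMap.polar (quadFormPlus 3 F) w j0 = w (.inl 1) - w (.inr 1) := by
    intro w; simp [polar_quadPlus, j0, Fin.sum_univ_three]; ring
  have h1 : QuadraticMap.polar (quadFormPlus 3 F) (emb v) j0 = 0 := by rw [hp]; simp [emb]
  have h2 : QuadraticMap.polar (quadFormPlus 3 F) (kleinMat (m4 A) *ᵥ emb v) (kleinMat (m4 A) *ᵥ j0) = 0 := by
    simp only [QuadraticMap.polar, ← Matrix.mulVec_add, Q_kleinMat _ (det_m4 A)]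
    exact h1
  rw [kleinMat_j0, hp] at h2
  exact sub_eq_zero.1 h2

/-- The five dimensional action. -/
noncomputable def act5 (A : Matrix.symplecticGroup (Fin 2) F) :
    Matrix (Unit ⊕ (Fin 2 ⊕ Fin 2)) (Unit ⊕ (Fin 2 ⊕ Fin 2)) F :=
  LinearMap.toMatrix' (proj5 ∘ₗ (Matrix.mulVecLin (kleinMat (m4 A))) ∘ₗ emb)

theorem act5_mulVec (A : Matrix.symplecticGroup (Fin 2) F) (v : Unit ⊕ (Fin 2 ⊕ Fin 2) → F) :
    act5 A *ᵥ v = proj5 (kleinMat (m4 A) *ᵥ emb v) := by
  rw [act5, LinearMap.toMatrix'_mulVec]; rfl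

/-- The homomorphism. -/
noncomputable def fiveHom : Matrix.symplecticGroup (Fin 2) F →* ↥(isometryGroup F (quadFormOdd 2 F)) :=
  isoHom
    { toFun := act5
      map_one' := Matrix.ext_of_mulVec_single fun i => by
        rw [act5_mulVec, m4_one, kleinMat_one, Matrix.one_mulVec, proj5_emb, Matrix.one_mulVec]
      map_mul' := fun A B => Matrix.ext_of_mulVec_single fun i => by
        rw [← Matrix.mulVec_mulVec, act5_mulVec, act5_mulVec, act5_mulVec, inv_image, m4_mul,
          kleinMat_mul, ← Matrix.mulVec_mulVec] }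
    (fun A v => by
      show quadFormOdd 2 F (act5 A *ᵥ v) = _
      rw [act5_mulVec, ← Q_emb, inv_image, Q_kleinMat _ (det_m4 A), Q_emb])

/-- Minus one. -/
def negSp : Matrix.symplecticGroup (Fin 2) F :=
  ⟨-1, by rw [SymplecticGroup.mem_iff]; simp⟩

theorem fiveHom_eq_one_iff (h2 : (2 : F) ≠ 0) (A : Matrix.symplecticGroup (Fin 2) F) :
    fiveHom A = 1 ↔ A = 1 ∨ A = negSp := by
  rw [fiveHom, isoHom_eq_one_iff]
  show act5 A = 1 ↔ _
  constructor
  · intro h
    have hfix : ∀ v, kleinMat (m4 A) *ᵥ emb v = emb v := fun v => by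
      rw [← inv_image, ← act5_mulVec, h, Matrix.one_mulVec]
    have hall : kleinMat (m4 A) = 1 := by
      refine Matrix.ext_of_mulVec_single fun i => ?_
      set w : Fin 3 ⊕ Fin 3 → F := Pi.single i 1 with hw
      set t := (w (.inl 1) - w (.inr 1)) / 2
      have h3 : emb (proj5 (w + t • j0 - (0 : F) • j0)) = w + t • j0 - (0 : F) • j0 := by
        refine emb_proj5 ?_
        simp [j0, t]
        field_simp
        ring
      have h4 := hfix (proj5 (w + t • j0 - (0 : F) • j0))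
      rw [h3] at h4
      simp only [zero_smul, sub_zero, Matrix.mulVec_add, Matrix.mulVec_smul, kleinMat_j0,
        add_left_inj] at h4
      rw [h4, Matrix.one_mulVec]
    obtain ⟨a, ha, hA⟩ := eq_scalar_of_kleinMat_eq_one hall
    have hA' : (A : Matrix (Fin 2 ⊕ Fin 2) (Fin 2 ⊕ Fin 2) F) = a • 1 := by
      ext i j
      have := congrFun (congrFun hA (finSumFinEquiv i)) (finSumFinEquiv j)
      simpa [m4, Matrix.reindex_apply, Matrix.one_apply] using this
    rcases mul_self_eq_one_iff.1 ha with rfl | rfl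
    · exact .inl (Subtype.ext (by rw [hA', one_smul]; rfl))
    · exact .inr (Subtype.ext (by rw [hA']; simp [negSp]))
  · rintro (rfl | rfl) <;> refine Matrix.ext_of_mulVec_single fun i => ?_
    · rw [act5_mulVec, m4_one, kleinMat_one, Matrix.one_mulVec, proj5_emb, Matrix.one_mulVec]
    · have : m4 (negSp (F := F)) = -1 := by
        ext i j
        simp [m4, negSp, Matrix.reindex_apply, Matrix.one_apply]
      rw [act5_mulVec, kleinMat_mulVec, this, Matrix.one_mulVec]
      simp [coordL_pl, proj5_emb]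

/-- PΩ_5(q) is isomorphic to PSp_4(q) for q odd. -/
theorem result {F : Type*} [Field F] [Fintype F] (hodd : Odd (Fintype.card F)) : Nonempty (Cfsg.POmega F (Cfsg.quadFormOdd 2 F) ≃* Cfsg.PSp 2 F) := by
  classical
  have h2 : (2 : F) ≠ 0 := fun h => by
    have hc := CharP.ringChar_of_prime_eq_zero Nat.prime_two (by exact_mod_cast h : ((2 : ℕ) : F) = 0)
    exact Nat.not_even_iff_odd.2 hodd (Nat.even_iff.2 ((FiniteField.even_card_iff_char_two).1 hc))
  have hχ : ∀ χ : Matrix.symplecticGroup (Fin 2) F →* ℤˣ, χ = 1 := fun χ => by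
    have h := units_hom_eq_one_of_perfect
      (Linear.commutator_spGL_eq_top (F := F) (m := 2) (.inr (.inl ⟨le_rfl, h2⟩)))
      (χ.comp (Linear.spEquiv 2 F).symm.toMonoidHom)
    ext A : 1
    have := congrArg (fun φ => φ (Linear.spEquiv 2 F A)) h
    simpa using this
  have hG := Good.of_two_ne_zero (quadOdd_nondeg (F := F) 2 h2) h2
  have hiff := fiveHom_eq_one_iff (F := F) h2
  have hz : (negSp : Matrix.symplecticGroup (Fin 2) F) ∈ Subgroup.center (Matrix.symplecticGroup (Fin 2) F) :=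
    Subgroup.mem_center_iff.2 fun g => Subtype.ext (by simp [negSp])
  obtain ⟨hk, hk2, -⟩ := card_ker_of_iff fiveHom negSp hiff
  have ho : Nat.card (IsoGrp (quadOdd 2 F)) = _ := Cfsg.Agent.S0286.result (F := F) rfl hodd 2
  refine pomega_equiv_of_card (Q := quadFormOdd 2 F) fiveHom
    (range_le_omega hG fiveHom hχ) hχ (ker_le_center_of_iff fiveHom _ hiff hz) hk ?_
  show _ * (Omega F ⇑(quadOdd 2 F)).index = _ * Nat.card (IsoGrp (quadOdd 2 F))
  have h1 : (negSp : Matrix.symplecticGroup (Fin 2) F) ≠ 1 := fun h => h2 (by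
    have h' := congrArg (fun g : Matrix.symplecticGroup (Fin 2) F =>
      (g : Matrix (Fin 2 ⊕ Fin 2) (Fin 2 ⊕ Fin 2) F) (.inl 0) (.inl 0)) h
    simp [negSp] at h'
    linear_combination -h')
  rw [ho, omega_index_odd hG (by simp) h2, hk2 h1, Cfsg.Agent.GLOrder.card_Sp,
    Nat.card_eq_fintype_card]
  ring

end Cfsg.Agent.S0301
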