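import Cfsg.Agent.Lib.Orth.Klein
import Cfsg.Agent.Lib.Orth.SLTools
import Cfsg.Agent.Lib.Unitary.Commutator
import Cfsg.Agent.Lib.Unitary.Count
import Cfsg.Agent.S0288

set_option autoImplicit false
open Cfsg

namespace Cfsg.Agent.S0303

open Cfsg.Agent.Orth Matrix
open QuadraticMap (polar)

/-- The index type of the form. -/
abbrev J : Type := (Fin 2 ⊕ Fin 2) ⊕ Fin 2

/-- The Plücker index. -/
abbrev P : Type := Fin 3 ⊕ Fin 3

section Klein

variable {K : Type*} [Field K]

theorem kleinMat_apply (g : Matrix (Fin 4) (Fin 4) K) (k l : P) :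
    kleinMat g k l = coordL (g * pl (Pi.single l 1) * gᵀ) k := by
  rw [← kleinMat_mulVec, Matrix.mulVec_single_one]; rfl

set_option maxHeartbeats 1000000 in
theorem kleinMat_transpose (g : Matrix (Fin 4) (Fin 4) K) : kleinMat gᵀ = (kleinMat g)ᵀ := by
  ext k l
  rw [Matrix.transpose_apply, kleinMat_apply, kleinMat_apply]
  rcases k with k | k <;> rcases l with l | l <;> fin_cases k <;> fin_cases l <;>
    simp [coordL, congr_apply, -Matrix.transpose_transpose] <;> ring

set_option maxHeartbeats 1000000 in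
theorem kleinMat_map {L : Type*} [Field L] (f : K →+* L) (g : Matrix (Fin 4) (Fin 4) K) :
    kleinMat (g.map f) = (kleinMat g).map f := by
  ext k l
  rw [Matrix.map_apply, kleinMat_apply, kleinMat_apply]
  rcases k with k | k <;> rcases l with l | l <;> fin_cases k <;> fin_cases l <;>
    simp [coordL, congr_apply]

end Klein

section Sigma

variable {K : Type*} [Field K] (σ : K →+* K)

/-- The semilinear map. -/
def sw (x : P → K) : P → K := Sum.elim (fun i => σ (x (.inr i))) (fun i => σ (x (.inl i)))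

theorem dot_sw (hσ : ∀ z, σ (σ z) = z) (x y : P → K) :
    x ⬝ᵥ (σ ∘ sw σ y) = polar (quadFormPlus 3 K) x y := by
  rw [polar_quadPlus]
  simp [dotProduct, sw, hσ, Fintype.sum_sum_type, ← Finset.sum_add_distrib, mul_comm]

theorem kleinMat_sw (hσ : ∀ z, σ (σ z) = z) {g : Matrix (Fin 4) (Fin 4) K} (hd : g.det = 1)
    (hu : gᵀ * g.map σ = 1) (y : P → K) : sw σ (kleinMat g *ᵥ y) = kleinMat g *ᵥ sw σ y := by
  set A := kleinMat g with hA
  have hT : Aᵀ * A.map σ = 1 := by
    rw [hA, ← kleinMat_transpose, ← kleinMat_map, ← kleinMat_mul, hu, kleinMat_one]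
  have hH : ∀ u v : P → K, (A *ᵥ u) ⬝ᵥ (σ ∘ (A *ᵥ v)) = u ⬝ᵥ (σ ∘ v) := fun u v => by
    have h1 : σ ∘ (A *ᵥ v) = A.map σ *ᵥ (σ ∘ v) := funext fun i => RingHom.map_mulVec σ A v i
    rw [h1, Matrix.dotProduct_mulVec, ← Matrix.vecMul_transpose, Matrix.vecMul_vecMul, hT,
      Matrix.vecMul_one]
  have hf : ∀ u v : P → K, polar (quadFormPlus 3 K) (A *ᵥ u) (A *ᵥ v) =
      polar (quadFormPlus 3 K) u v := fun u v => by
    simp only [polar, hA, ← Matrix.mulVec_add, Q_kleinMat g hd]
  have key : ∀ u, (A *ᵥ u) ⬝ᵥ (σ ∘ sw σ (A *ᵥ y)) = (A *ᵥ u) ⬝ᵥ (σ ∘ (A *ᵥ sw σ y)) := fun u => by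
    rw [dot_sw σ hσ, hf, hH, dot_sw σ hσ]
  have hsurj : ∀ w, ∃ u, A *ᵥ u = w := fun w => by
    have hu' : g.map σ * gᵀ = 1 := mul_eq_one_comm.1 hu
    have hg' : g * (gᵀ.map σ) = 1 := by
      have := congrArg (fun M : Matrix (Fin 4) (Fin 4) K => M.map σ) hu'
      simp only [Matrix.map_mul, Matrix.map_map, Matrix.map_one σ (map_zero σ) (map_one σ)] at this
      have h2 : (σ ∘ σ : K → K) = id := funext hσ
      rwa [h2, Matrix.map_id] at this
    exact ⟨kleinMat (gᵀ.map σ) *ᵥ w, by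
      rw [Matrix.mulVec_mulVec, hA, ← kleinMat_mul, hg', kleinMat_one, Matrix.one_mulVec]⟩
  funext k
  obtain ⟨u, hu'⟩ := hsurj (Pi.single k 1)
  have := key u
  rw [hu'] at this
  simp only [single_dotProduct, Function.comp_apply, one_mul] at this
  exact σ.injective this

end Sigma

/-- The coordinates of the descent. -/
structure Datum (F K : Type*) [Field F] [Field K] (a b : F) (q : ℕ) where
  emb : F →+* K
  om : K
  fix : ∀ c, emb c ^ q = emb c
  om_add : om + om ^ q = emb a
  om_mul : om * om ^ q = emb b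
  ne : om - om ^ q ≠ 0
  g1 : K
  g2 : K
  hg1 : g1 ^ (q + 1) = -1
  hg2 : g2 ^ (q + 1) = -1
  g_ne : g1 ≠ g2

variable {F K : Type*} [Field F] [Field K] {a b : F} {q : ℕ}

theorem exists_datum [Fintype F] [Fintype K] (hF : Fintype.card F = q) (hK : Fintype.card K = q ^ 2)
    (hab : ∀ z₁ z₂ : F, z₁ ^ 2 + a * z₁ * z₂ + b * z₂ ^ 2 = 0 → z₁ = 0 ∧ z₂ = 0) :
    Nonempty (Datum F K a b q) := by
  classical
  have hirr : Fact (∀ r : F, r ^ 2 ≠ -b + a * r) :=
    ⟨fun r h => one_ne_zero (hab (-r) 1 (by linear_combination h)).2⟩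
  have : Finite (QuadraticAlgebra F (-b) a) := Finite.of_equiv _ (QuadraticAlgebra.equivProd (-b) a).symm
  let _ : Fintype (QuadraticAlgebra F (-b) a) := Fintype.ofFinite _
  have hK' : Fintype.card (QuadraticAlgebra F (-b) a) = q ^ 2 := by
    rw [← Nat.card_eq_fintype_card, Nat.card_congr (QuadraticAlgebra.equivProd (-b) a), Nat.card_prod,
      Nat.card_eq_fintype_card, hF, sq]
  let e := FiniteField.ringEquivOfCardEq (hK'.trans hK.symm)
  let ι : F →+* K := e.toRingHom.comp (algebraMap F _)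
  let w : QuadraticAlgebra F (-b) a := ⟨0, 1⟩
  have hfix : ∀ c, ι c ^ q = ι c := fun c => by rw [← map_pow, ← hF, FiniteField.pow_card]
  have hom : e w * e w - ι a * e w + ι b = 0 := by
    show e w * e w - e (algebraMap F _ a) * e w + e (algebraMap F _ b) = 0
    rw [← map_mul, ← map_mul, ← map_sub, ← map_add, map_eq_zero_iff _ e.injective]
    ext <;> simp [w]
  have hq : 2 ≤ q := hF ▸ Fintype.one_lt_card
  have hne : e w ^ q ≠ e w := fun h => by
    let S := Cfsg.Agent.Unitary.fixedField (F := K) hK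
    have hinj : Function.Injective (fun c : F => (⟨ι c, (Unitary.mem_fixedField hK).2 (hfix c)⟩ : S)) :=
      fun c d hcd => ι.injective (congrArg Subtype.val hcd)
    have hb := (Nat.bijective_iff_injective_and_card _).2 ⟨hinj, by
      rw [Nat.card_eq_fintype_card, hF]; exact (Unitary.card_fixedField hK).symm⟩
    obtain ⟨c, hc⟩ := hb.2 ⟨e w, (Unitary.mem_fixedField hK).2 h⟩
    have hc' : algebraMap F (QuadraticAlgebra F (-b) a) c = w := e.injective (congrArg Subtype.val hc)
    have := congrArg QuadraticAlgebra.im hc'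
    simp [w] at this
  have hq2 : (e w ^ q) * (e w ^ q) - ι a * e w ^ q + ι b = 0 := by
    have := congrArg (Unitary.conjHom hK) hom
    simpa [mul_pow, Unitary.sub_pow_q hK, Unitary.add_pow_q hK, hfix, map_sub, map_add, zero_pow (show q ≠ 0 by omega)] using this
  have hadd : e w + e w ^ q = ι a := by
    have : (e w ^ q - e w) * (e w + e w ^ q - ι a) = 0 := by linear_combination hq2 - hom
    exact sub_eq_zero.1 ((mul_eq_zero.1 this).resolve_left (sub_ne_zero.2 hne))
  have hm1 : (-1 : K) ^ q = -1 := by rw [Unitary.neg_pow_q hK, one_pow]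
  have hcard := Unitary.card_norm_fibre hK hm1 (neg_ne_zero.2 one_ne_zero)
  have : Nontrivial {x : K // x ^ (q + 1) = -1} := Finite.one_lt_card_iff_nontrivial.1 (by omega)
  obtain ⟨x, y, hxy⟩ := exists_pair_ne {x : K // x ^ (q + 1) = -1}
  exact ⟨{
    emb := ι, om := e w, fix := hfix, om_add := hadd
    om_mul := by linear_combination e w * hadd - hom
    ne := sub_ne_zero.2 hne.symm
    g1 := x.1, g2 := y.1, hg1 := x.2, hg2 := y.2, g_ne := fun h => hxy (Subtype.ext h) }⟩

namespace Datum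

variable [Fintype K] (D : Datum F K a b q) (hK : Fintype.card K = q ^ 2)

/-- The trace dual basis, first vector. -/
def dA : K := -(D.om ^ q) / (D.om - D.om ^ q)

/-- The trace dual basis, second vector. -/
def dB : K := 1 / (D.om - D.om ^ q)

/-- The normalising constant. -/
def dc : K := 1 + D.g1 * D.g2 ^ q

/-- First parameter. -/
def dp (v : J → F) : K :=
  (D.emb (v (.inl (.inl 0))) + D.emb (v (.inl (.inl 1))) * D.om) / D.dc

/-- Second parameter. -/
def dw (v : J → F) : K :=
  D.emb (v (.inl (.inr 0))) * D.dA + D.emb (v (.inl (.inr 1))) * D.dB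

/-- Half of the coordinates. -/
def du (v : J → F) : Fin 3 → K :=
  ![D.dp v + D.dw v ^ q, D.g1 * D.dp v + D.g2 * D.dw v ^ q,
    D.emb (v (.inr 0)) + D.emb (v (.inr 1)) * D.om]

/-- The embedding into Plücker space. -/
def E (v : J → F) : P → K := Sum.elim (D.du v) (fun i => D.du v i ^ q)

include hK

theorem dc_ne : D.dc ≠ 0 := fun h => by
  have h2 : D.g2 ^ q * D.g2 = -1 := by rw [← pow_succ]; exact D.hg2
  have h0 : D.g2 ^ q ≠ 0 := left_ne_zero_of_mul (by rw [h2]; exact neg_ne_zero.2 one_ne_zero)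
  rw [dc] at h
  exact D.g_ne (mul_right_cancel₀ h0 (by linear_combination h - h2))

theorem traces : (D.dA + D.dA ^ q = 1 ∧ D.om * D.dA + (D.om * D.dA) ^ q = 0) ∧
    (D.dB + D.dB ^ q = 0 ∧ D.om * D.dB + (D.om * D.dB) ^ q = 1) := by
  have hd := D.ne
  have h1 : (D.om - D.om ^ q) ^ q = -(D.om - D.om ^ q) := by
    rw [Unitary.sub_pow_q hK, Unitary.pow_q_pow_q hK]; ring
  have h2 : (1 : K) ^ q = 1 := one_pow q
  simp only [dA, dB, mul_pow, div_pow, h1, h2, Unitary.neg_pow_q hK, Unitary.pow_q_pow_q hK]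
  generalize D.om ^ q = o at hd ⊢
  have hd' : -(D.om - o) ≠ 0 := neg_ne_zero.2 hd
  refine ⟨⟨?_, ?_⟩, ?_, ?_⟩ <;> field_simp <;> ring

theorem du_add (v w : J → F) : D.du (v + w) = D.du v + D.du w := by
  funext i
  fin_cases i <;> simp [du, dp, dw, Unitary.add_pow_q hK, mul_pow] <;> ring

theorem du_smul (c : F) (v : J → F) : D.du (c • v) = D.emb c • D.du v := by
  funext i
  fin_cases i <;> simp [du, dp, dw, Unitary.add_pow_q hK, mul_pow, D.fix] <;> ring

theorem E_add (v w : J → F) : D.E (v + w) = D.E v + D.E w := by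
  funext k; rcases k with k | k <;> simp [E, du_add D hK, Unitary.add_pow_q hK]

theorem E_smul (c : F) (v : J → F) : D.E (c • v) = D.emb c • D.E v := by
  funext k; rcases k with k | k <;> simp [E, du_smul D hK, mul_pow, D.fix]

theorem Q_E (v : J → F) : quadFormPlus 3 K (D.E v) = D.emb (quadFormMinus 2 F a b v) := by
  obtain ⟨⟨hA, hA'⟩, hB, hB'⟩ := D.traces hK
  have hg1 : D.g1 * D.g1 ^ q = -1 := by rw [← pow_succ']; exact D.hg1
  have hg2 : D.g2 * D.g2 ^ q = -1 := by rw [← pow_succ']; exact D.hg2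
  have hp : D.dc * D.dp v = D.emb (v (.inl (.inl 0))) + D.emb (v (.inl (.inl 1))) * D.om :=
    mul_div_cancel₀ _ (D.dc_ne hK)
  have hp' := congrArg (Unitary.conjHom hK) hp
  simp only [dc, Unitary.conjHom_apply, mul_pow, Unitary.add_pow_q hK, one_pow,
    Unitary.pow_q_pow_q hK, D.fix] at hp'
  simp only [dc] at hp
  simp only [quadFormPlus, quadFormMinus, E, du, Fin.sum_univ_three, Fin.sum_univ_two, Sum.elim_inl,
    Sum.elim_inr, Matrix.cons_val_zero, Matrix.cons_val_one, Matrix.cons_val_two, Matrix.head_cons,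
    Matrix.tail_cons, map_add, map_mul, map_pow, mul_pow, Unitary.add_pow_q hK,
    Unitary.pow_q_pow_q hK, D.fix]
  rw [← D.om_add, ← D.om_mul]
  simp only [mul_pow] at hA' hB'
  have hw : D.dw v ^ q = D.emb (v (.inl (.inr 0))) * D.dA ^ q + D.emb (v (.inl (.inr 1))) * D.dB ^ q := by
    simp [dw, Unitary.add_pow_q hK, mul_pow, D.fix]
  rw [hw]
  simp only [dw]
  generalize D.dp v = p at hp hp' ⊢
  generalize p ^ q = p' at hp' ⊢
  generalize D.g1 ^ q = s1 at hg1 hp hp' ⊢
  generalize D.g2 ^ q = s2 at hg2 hp hp' ⊢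
  generalize D.dA ^ q = A' at hA hA' ⊢
  generalize D.dB ^ q = B' at hB hB' ⊢
  generalize D.om ^ q = o at hA' hB' hp' ⊢
  generalize D.emb (v (.inl (.inl 0))) = x1 at hp hp' ⊢
  generalize D.emb (v (.inl (.inl 1))) = x2 at hp hp' ⊢
  generalize D.emb (v (.inl (.inr 0))) = y1 at ⊢
  generalize D.emb (v (.inl (.inr 1))) = y2 at ⊢
  linear_combination (y1 * D.dA + y2 * D.dB) * hp + (y1 * A' + y2 * B') * hp' + p * p' * hg1 +
    (y1 * A' + y2 * B') * (y1 * D.dA + y2 * D.dB) * hg2 + x1 * y1 * hA + x2 * y1 * hA' +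
    x1 * y2 * hB + x2 * y2 * hB'

theorem E_injective : Function.Injective D.E := by
  intro v v' hvv
  have h0 : D.E (v - v') = 0 := by
    have := E_add D hK (v - v') v'
    rw [sub_add_cancel, hvv] at this
    simpa using this.symm
  rw [← sub_eq_zero]
  generalize v - v' = u at h0
  obtain ⟨⟨hA, hA'⟩, hB, hB'⟩ := D.traces hK
  simp only [mul_pow] at hA' hB'
  have e0 : D.dp u + D.dw u ^ q = 0 := congrFun h0 (.inl 0)
  have e1 : D.g1 * D.dp u + D.g2 * D.dw u ^ q = 0 := congrFun h0 (.inl 1)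
  have e2 : D.emb (u (.inr 0)) + D.emb (u (.inr 1)) * D.om = 0 := congrFun h0 (.inl 2)
  have hp : D.dp u = 0 := (mul_eq_zero.1 (show (D.g1 - D.g2) * D.dp u = 0 by
    linear_combination e1 - D.g2 * e0)).resolve_left (sub_ne_zero.2 D.g_ne)
  have hw' : D.dw u ^ q = 0 := by rw [hp, zero_add] at e0; exact e0
  have hw : D.dw u = 0 := (Unitary.pow_q_eq_zero hK).1 hw'
  have hx : D.emb (u (.inl (.inl 0))) + D.emb (u (.inl (.inl 1))) * D.om = 0 :=
    (div_eq_zero_iff.1 hp).resolve_right (D.dc_ne hK)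
  have hlin : ∀ s t : F, D.emb s + D.emb t * D.om = 0 → s = 0 ∧ t = 0 := fun s t h => by
    have h' := congrArg (Unitary.conjHom hK) h
    simp only [Unitary.conjHom_apply, map_zero, Unitary.add_pow_q hK, mul_pow, D.fix] at h'
    have ht : D.emb t = 0 := (mul_eq_zero.1 (show D.emb t * (D.om - D.om ^ q) = 0 by
      linear_combination h - h')).resolve_right D.ne
    rw [ht, zero_mul, add_zero] at h
    exact ⟨(map_eq_zero D.emb).1 h, (map_eq_zero D.emb).1 ht⟩
  obtain ⟨hx0, hx1⟩ := hlin _ _ hx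
  obtain ⟨hz0, hz1⟩ := hlin _ _ e2
  have hwq : D.emb (u (.inl (.inr 0))) * D.dA ^ q + D.emb (u (.inl (.inr 1))) * D.dB ^ q = 0 := by
    rw [← hw']
    simp [dw, Unitary.add_pow_q hK, mul_pow, D.fix]
  simp only [dw] at hw
  have hy0 : D.emb (u (.inl (.inr 0))) = 0 := by
    linear_combination hw + hwq - D.emb (u (.inl (.inr 0))) * hA - D.emb (u (.inl (.inr 1))) * hB
  have hy1 : D.emb (u (.inl (.inr 1))) = 0 := by
    linear_combination D.om * hw + D.om ^ q * hwq - D.emb (u (.inl (.inr 0))) * hA' -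
      D.emb (u (.inl (.inr 1))) * hB'
  funext k
  rcases k with (k | k) | k <;> fin_cases k
  exacts [hx0, hx1, (map_eq_zero D.emb).1 hy0, (map_eq_zero D.emb).1 hy1, hz0, hz1]

theorem exists_E_eq [Fintype F] (hF : Fintype.card F = q) {x : P → K}
    (hx : ∀ i, x (.inr i) = x (.inl i) ^ q) : ∃ v, D.E v = x := by
  have hinj : Function.Injective D.du := fun v w h => D.E_injective hK (by simp only [E, h])
  have hb := (Nat.bijective_iff_injective_and_card D.du).2 ⟨hinj, by
    simp [Nat.card_eq_fintype_card, hF, hK, ← pow_mul]⟩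
  obtain ⟨v, hv⟩ := hb.2 (fun i => x (.inl i))
  refine ⟨v, funext fun k => ?_⟩
  rcases k with k | k
  · exact congrFun hv k
  · rw [hx]; exact congrArg (· ^ q) (congrFun hv k)

theorem unitary_transpose_mul (g : SU 4 K q) :
    ((g : SpecialLinearGroup (Fin 4) K) : Matrix (Fin 4) (Fin 4) K)ᵀ *
      (((g : SpecialLinearGroup (Fin 4) K) : Matrix (Fin 4) (Fin 4) K)).map (Unitary.conjHom hK) = 1 := by
  have hb := (Unitary.isUnitary_iff_orthonormal hK _).1
    (fun u v => Unitary.SU_apply g u v : Unitary.IsUnitary q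
      ((g : SpecialLinearGroup (Fin 4) K) : Matrix (Fin 4) (Fin 4) K))
  ext i j
  rw [Matrix.one_apply, ← Unitary.Orthonormal.apply hb i j]
  rfl

theorem E_sw (v : J → F) : sw (Unitary.conjHom hK) (D.E v) = D.E v := by
  funext k
  rcases k with k | k <;> simp [sw, E, Unitary.pow_q_pow_q hK]

theorem exists_act [Fintype F] (hF : Fintype.card F = q) (g : SU 4 K q) (v : J → F) :
    ∃ w, D.E w = kleinMat ((g : SpecialLinearGroup (Fin 4) K) : Matrix (Fin 4) (Fin 4) K) *ᵥ D.E v := by
  refine D.exists_E_eq hK hF fun i => ?_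
  have h := kleinMat_sw (Unitary.conjHom hK) (fun z => Unitary.pow_q_pow_q hK z)
    (g : SpecialLinearGroup (Fin 4) K).2 (unitary_transpose_mul hK g) (D.E v)
  rw [E_sw D hK] at h
  exact (congrFun h (.inr i)).symm

variable [Fintype F] (hF : Fintype.card F = q)

/-- The action of an element, as a function. -/
noncomputable def actFun (g : SU 4 K q) (v : J → F) : J → F := (D.exists_act hK hF g v).choose

theorem E_actFun (g : SU 4 K q) (v : J → F) :
    D.E (D.actFun hK hF g v) =
      kleinMat ((g : SpecialLinearGroup (Fin 4) K) : Matrix (Fin 4) (Fin 4) K) *ᵥ D.E v :=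
  (D.exists_act hK hF g v).choose_spec

/-- The action of an element. -/
noncomputable def act (g : SU 4 K q) : (J → F) →ₗ[F] (J → F) where
  toFun v := D.actFun hK hF g v
  map_add' u v := by
    refine D.E_injective hK ?_
    simp only [E_add D hK, E_actFun, Matrix.mulVec_add]
  map_smul' c v := by
    refine D.E_injective hK ?_
    simp only [RingHom.id_apply, E_smul D hK, E_actFun, Matrix.mulVec_smul]

theorem E_act (g : SU 4 K q) (v : J → F) :
    D.E (D.act hK hF g v) =
      kleinMat ((g : SpecialLinearGroup (Fin 4) K) : Matrix (Fin 4) (Fin 4) K) *ᵥ D.E v :=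
  E_actFun D hK hF g v

/-- The homomorphism. -/
noncomputable def sixHom : SU 4 K q →* ↥(isometryGroup F (quadFormMinus 2 F a b)) :=
  isoHom
    { toFun := fun g => LinearMap.toMatrix' (D.act hK hF g)
      map_one' := Matrix.ext_of_mulVec_single fun i => D.E_injective hK <| by
        rw [LinearMap.toMatrix'_mulVec, E_act, Matrix.one_mulVec]
        simp [kleinMat_one]
      map_mul' := fun g h => Matrix.ext_of_mulVec_single fun i => D.E_injective hK <| by
        rw [← Matrix.mulVec_mulVec, LinearMap.toMatrix'_mulVec, LinearMap.toMatrix'_mulVec,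
          LinearMap.toMatrix'_mulVec, E_act, E_act, E_act, Subgroup.coe_mul,
          Matrix.SpecialLinearGroup.coe_mul, kleinMat_mul, Matrix.mulVec_mulVec] }
    (fun g v => by
      show quadFormMinus 2 F a b (LinearMap.toMatrix' _ *ᵥ v) = _
      rw [LinearMap.toMatrix'_mulVec]
      apply D.emb.injective
      rw [← Q_E D hK, ← Q_E D hK, E_act, Q_kleinMat _ (g : SpecialLinearGroup (Fin 4) K).2])

theorem sixHom_eq_one_iff (g : SU 4 K q) : D.sixHom hK hF g = 1 ↔
    kleinMat ((g : SpecialLinearGroup (Fin 4) K) : Matrix (Fin 4) (Fin 4) K) = 1 := by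
  rw [sixHom, isoHom_eq_one_iff]
  show LinearMap.toMatrix' (D.act hK hF g) = 1 ↔ _
  set A := kleinMat ((g : SpecialLinearGroup (Fin 4) K) : Matrix (Fin 4) (Fin 4) K)
  constructor
  · intro h
    have hW : ∀ v, A *ᵥ D.E v = D.E v := fun v => by
      rw [← E_act D hK hF]
      congr 1
      rw [← LinearMap.toMatrix'_mulVec, h, Matrix.one_mulVec]
    refine Matrix.ext_of_mulVec_single fun l => ?_
    set x : P → K := Pi.single l 1
    set t : Fin 3 → K := fun i => (x (.inl i) - x (.inr i) ^ q) / (D.om - D.om ^ q) with ht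
    set s : Fin 3 → K := fun i => x (.inl i) - D.om * t i with hs
    obtain ⟨v₁, hv₁⟩ := D.exists_E_eq hK hF (x := Sum.elim s (fun i => s i ^ q)) (fun i => rfl)
    obtain ⟨v₂, hv₂⟩ := D.exists_E_eq hK hF (x := Sum.elim t (fun i => t i ^ q)) (fun i => rfl)
    have hx : x = D.E v₁ + D.om • D.E v₂ := by
      rw [hv₁, hv₂]
      funext k
      rcases k with k | k
      · simp [hs]
      · have hd := D.ne
        have h1 : (D.om - D.om ^ q) ^ q = -(D.om - D.om ^ q) := by
          rw [Unitary.sub_pow_q hK, Unitary.pow_q_pow_q hK]; ring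
        have htq : t k ^ q = (x (.inl k) ^ q - x (.inr k)) / (-(D.om - D.om ^ q)) := by
          simp only [ht, div_pow, h1, Unitary.sub_pow_q hK, Unitary.pow_q_pow_q hK]
        simp only [Pi.add_apply, Pi.smul_apply, Sum.elim_inr, smul_eq_mul, hs, Unitary.sub_pow_q hK,
          mul_pow, htq]
        have hd' : -(D.om - D.om ^ q) ≠ 0 := neg_ne_zero.2 hd
        field_simp
        ring
    rw [Matrix.one_mulVec, hx, Matrix.mulVec_add, Matrix.mulVec_smul, hW, hW]
  · intro h
    refine Matrix.ext_of_mulVec_single fun i => D.E_injective hK ?_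
    rw [LinearMap.toMatrix'_mulVec, E_act, Matrix.one_mulVec, show kleinMat _ = (1 : Matrix P P K) from h,
      Matrix.one_mulVec]

end Datum

/-- PΩ^-_6(q) is isomorphic to PSU_4(q). -/
theorem result {F K : Type*} [Field F] [Fintype F] [Field K] [Fintype K] {q : ℕ} (hF : Fintype.card F = q) (hK : Fintype.card K = q ^ 2) (a b : F) (hab : ∀ z₁ z₂ : F, z₁ ^ 2 + a * z₁ * z₂ + b * z₂ ^ 2 = 0 → z₁ = 0 ∧ z₂ = 0) : Nonempty (Cfsg.POmega F (Cfsg.quadFormMinus 2 F a b) ≃* Cfsg.PSU 4 K q) := by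
  classical
  obtain ⟨D⟩ := exists_datum hF hK hab
  have hperf := Unitary.commutator_SU_eq_top (q := q) (n := 4) hK (.inl le_rfl)
  have hχ : ∀ χ : SU 4 K q →* ℤˣ, χ = 1 := units_hom_eq_one_of_perfect hperf
  have hm : (negOneSL : SpecialLinearGroup (Fin 4) K) ∈ SU 4 K q := by
    intro u v
    show hermForm 4 K q ((-1 : Matrix (Fin 4) (Fin 4) K) *ᵥ u) ((-1 : Matrix (Fin 4) (Fin 4) K) *ᵥ v) = _
    simp only [hermForm, Matrix.neg_mulVec, Matrix.one_mulVec, Pi.neg_apply, Unitary.neg_pow_q hK, neg_mul_neg]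
  let z : SU 4 K q := ⟨negOneSL, hm⟩
  have hiff : ∀ g, D.sixHom hK hF g = 1 ↔ g = 1 ∨ g = z := fun g => by
    rw [D.sixHom_eq_one_iff hK hF]
    have := kleinHom_eq_one_iff (g : SpecialLinearGroup (Fin 4) K)
    rw [kleinHom, isoHom_eq_one_iff] at this
    exact this.trans (or_congr (Subtype.coe_inj (b := (1 : SU 4 K q))) (Subtype.coe_inj (b := z)))
  have hz : z ∈ Subgroup.center (SU 4 K q) :=
    Subgroup.mem_center_iff.2 fun g => Subtype.ext (Subtype.ext (by simp [z, coe_negOneSL]))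
  obtain ⟨hk, hk2, hk1⟩ := card_ker_of_iff (D.sixHom hK hF) z hiff
  have hq : 2 ≤ q := hF ▸ Fintype.one_lt_card
  have ho : Nat.card ↥(isometryGroup F (quadFormMinus 2 F a b)) = 2 * Nat.card (SU 4 K q) := by
    have h := Cfsg.Agent.S0288.result hF 3 (by omega) a b hab
    rw [show (3 : ℕ) - 1 = 2 from rfl] at h
    refine Nat.eq_of_mul_eq_mul_left (by omega : 0 < q + 1) ?_
    rw [h, mul_left_comm (q + 1) 2, Unitary.card_SU hK 4 (by norm_num)]
    simp [Finset.prod_range_succ, Nat.even_iff]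
    ring
  have hG : Good (quadMinus 2 F a b) := Good.of_card (quadMinus_nondeg 2 hab) (.inr (by simp))
  refine pomega_equiv_of_card (Q := quadFormMinus 2 F a b) (D.sixHom hK hF)
    (range_le_omega_of_perfect _ hperf) hχ (ker_le_center_of_iff _ z hiff hz) hk ?_
  show _ * (Omega F ⇑(quadMinus 2 F a b)).index = _ * Nat.card ↥(isometryGroup F (quadFormMinus 2 F a b))
  by_cases h2 : (2 : F) = 0
  · have hz1 : z = 1 := by
      have h2' : (2 : K) = 0 := by rw [← map_ofNat D.emb 2, h2, map_zero]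
      refine Subtype.ext (Subtype.ext ?_)
      show (-1 : Matrix (Fin 4) (Fin 4) K) = 1
      ext i j
      show -((1 : Matrix (Fin 4) (Fin 4) K) i j) = (1 : Matrix (Fin 4) (Fin 4) K) i j
      linear_combination -((1 : Matrix (Fin 4) (Fin 4) K) i j) * h2'
    rw [omega_index_two hG (by simp) h2, hk1 hz1, ho]
    ring
  · have h2' : (2 : K) ≠ 0 := fun h => h2 (D.emb.injective (by rw [map_ofNat, h, map_zero]))
    have hz1 : z ≠ 1 := fun h => h2' (by
      have h' := congrArg (fun g : SU 4 K q =>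
        ((g : SpecialLinearGroup (Fin 4) K) : Matrix (Fin 4) (Fin 4) K) 0 0) h
      simp [z, coe_negOneSL] at h'
      linear_combination -h')
    rw [omega_index_odd hG (by simp) h2, hk2 hz1, ho]
    ring

end Cfsg.Agent.S0303
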