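import Cfsg.Statements.S0822
import Cfsg.Agent.EqLemmas
import Cfsg.Agent.Lib.ExcIso.U42
import Cfsg.Agent.S0301
import Cfsg.Agent.S0303

set_option autoImplicit false
open Cfsg

namespace Cfsg.Agent.S0822

open Cfsg.Agent.ExcIso Matrix

variable {R S : Type*} [Field R] [Field S] {m : ℕ}

/-- A field isomorphism carries symplectic matrices to symplectic matrices. -/
theorem map_mem (σ : R ≃+* S) (A : Matrix.symplecticGroup (Fin m) R) :
    A.1.map σ ∈ Matrix.symplecticGroup (Fin m) S := by
  have hJ : (Matrix.J (Fin m) R).map σ = Matrix.J (Fin m) S := by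
    ext i j
    rcases i with i | i <;> rcases j with j | j <;> simp [Matrix.J, Matrix.one_apply, apply_ite σ]
  have h := congrArg (fun X => σ.mapMatrix X) (SymplecticGroup.mem_iff.1 A.2)
  simp only [map_mul, RingEquiv.mapMatrix_apply, ← Matrix.transpose_map, hJ] at h
  exact SymplecticGroup.mem_iff.2 h

/-- Transport of `PSp` along a field isomorphism. -/
theorem psp_congr (σ : R ≃+* S) (m : ℕ) : Nonempty (Cfsg.PSp m R ≃* Cfsg.PSp m S) :=
  quotient_center_congr
    ({ toFun := fun A => ⟨A.1.map σ, map_mem σ A⟩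
       invFun := fun A => ⟨A.1.map σ.symm, map_mem σ.symm A⟩
       left_inv := fun A => Subtype.ext (Matrix.ext fun i j => σ.symm_apply_apply _)
       right_inv := fun A => Subtype.ext (Matrix.ext fun i j => σ.apply_symm_apply _)
       map_mul' := fun A B => Subtype.ext (map_mul σ.mapMatrix A.1 B.1) } :
      Matrix.symplecticGroup (Fin m) R ≃* Matrix.symplecticGroup (Fin m) S)


/-- PSU_4(2) ≅ PSp_4(3): with |F| = 4 and |K| = 3, the projective special unitary group of the standard Hermitian form on F^4 is isomorphic to PSp_4(K). -/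
theorem result {F K : Type*} [Field F] [Fintype F] [Field K] [Fintype K] (hF : Fintype.card F = 4) (hK : Fintype.card K = 3) : Nonempty (Cfsg.PSU 4 F 2 ≃* Cfsg.PSp 2 K) := by
  obtain ⟨e1⟩ := S0303.result (F := ZMod 2) (K := F) (q := 2) (ZMod.card 2) (by rw [hF]; norm_num)
    1 1 (by decide)
  obtain ⟨e2⟩ := S0301.result (F := ZMod 3) (by rw [ZMod.card]; decide)
  obtain ⟨e3⟩ := nonempty_pomega_iso
  obtain ⟨e4⟩ := psp_congr (ZMod.ringEquivOfPrime K Nat.prime_three hK) 2
  exact ⟨e1.symm.trans (e3.trans (e2.trans e4))⟩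

end Cfsg.Agent.S0822
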