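import Cfsg.Statements.S2093
import Cfsg.Agent.Lib.Multiplier.Sp6Cover
import Cfsg.Agent.Lib.Linear.SpFourTwo

set_option autoImplicit false
open Cfsg

namespace Cfsg.Agent.S2093

universe u

open Cfsg.Agent.Multiplier in
/-- Transport along an isomorphism, which also moves the universe. -/
theorem main {G : Type u} [Group G] (e : Sp6.G0 ≃* G) : Cfsg.HasCyclicSchurMultiplier G 2 := by
  refine hasCyclicSchurMultiplier_two_of_pair (x := e Sp6.pairx) (y := e Sp6.pairy)
    (by rw [← map_mul, Sp6.pairx_sq, map_one]) (by rw [← map_mul, Sp6.pairx_comm, map_mul]) ?_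
    fun Γ _ _ σ hσ hp a b ha hb => ?_
  · obtain ⟨C, i1, i2, τ, ⟨hs, hc, hd⟩, hcard⟩ := Sp6.exists_double_cover
    let d : ULift.{u} C ≃* C := MulEquiv.ulift
    have hiff : ∀ x : ULift.{u} C, x ∈ (e.toMonoidHom.comp (τ.comp d.toMonoidHom)).ker ↔ d x ∈ τ.ker :=
      fun x => by
        rw [MonoidHom.mem_ker, MonoidHom.mem_ker]
        exact ⟨fun h => e.injective (h.trans e.map_one.symm), fun h => by
          show e (τ (d x)) = 1
          rw [h, map_one]⟩
    refine ⟨ULift.{u} C, inferInstance, inferInstance, e.toMonoidHom.comp (τ.comp d.toMonoidHom),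
      ⟨e.surjective.comp (hs.comp d.surjective), ?_, ?_⟩, ?_⟩
    · intro x hx
      rw [Subgroup.mem_center_iff]
      exact fun g => d.injective (by
        rw [map_mul, map_mul]
        exact Subgroup.mem_center_iff.1 (hc ((hiff x).1 hx)) (d g))
    · intro x hx
      have h := Subgroup.mem_map_of_mem d.symm.toMonoidHom (hd ((hiff x).1 hx))
      simp only [MulEquiv.coe_toMonoidHom, MulEquiv.symm_apply_apply] at h
      rw [commutator_def, Subgroup.map_commutator, Subgroup.map_top_of_surjective _ d.symm.surjective] at h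
      exact h
    · exact (Nat.card_congr (d.toEquiv.subtypeEquiv hiff)).trans hcard
  · have hker : (e.symm.toMonoidHom.comp σ).ker = σ.ker := by
      ext x
      rw [MonoidHom.mem_ker, MonoidHom.mem_ker]
      exact ⟨fun h => e.symm.injective (h.trans e.symm.map_one.symm), fun h => by
        show e.symm (σ x) = 1
        rw [h, map_one]⟩
    refine Sp6.not_commute_lifts Γ (e.symm.toMonoidHom.comp σ) ⟨e.symm.surjective.comp hσ.1, ?_, ?_⟩ ?_ a b ?_ ?_
    · rw [hker]; exact hσ.2.1
    · rw [hker]; exact hσ.2.2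
    · rw [hker]; exact hp
    · show e.symm (σ a) = Sp6.pairx
      rw [ha, e.symm_apply_apply]
    · show e.symm (σ b) = Sp6.pairy
      rw [hb, e.symm_apply_apply]

/-- Exceptional Schur multiplier: over the field with 2 elements, PSp₆ has Schur multiplier cyclic of order 2 (here the Schur multiplier is described through stem extensions, as in the definitions). -/
theorem result {F : Type*} [Field F] [Fintype F] (hF : Fintype.card F = 2) : Cfsg.HasCyclicSchurMultiplier (Cfsg.PSp 3 F) 2 := by
  have : CharP F 2 := by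
    obtain ⟨p, hc⟩ := CharP.exists F
    obtain ⟨n, hp, hn⟩ := FiniteField.card F p
    rw [hF] at hn
    have : p = 2 := (Nat.prime_dvd_prime_iff_eq hp Nat.prime_two).1 (hn ▸ dvd_pow_self p n.ne_zero)
    exact this ▸ hc
  let f : ZMod 2 ≃+* F := ZMod.ringEquiv F hF
  let e₁ : Multiplier.Sp6.G0 ≃* Matrix.symplecticGroup (Fin 3) F := Linear.symplecticMapEquiv f
  have hc : Subgroup.center (Matrix.symplecticGroup (Fin 3) F) = ⊥ := by
    have := GLOrder.card_center_Sp (F := F) (m := 3) (by norm_num)
    rw [Nat.card_eq_fintype_card (α := F), hF] at this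
    exact Subgroup.card_eq_one.1 this
  let e₂ : Matrix.symplecticGroup (Fin 3) F ≃* Cfsg.PSp 3 F :=
    MulEquiv.ofBijective (QuotientGroup.mk' _)
      ⟨(MonoidHom.ker_eq_bot_iff _).1 (by rw [QuotientGroup.ker_mk']; exact hc),
        QuotientGroup.mk'_surjective _⟩
  exact main (e₁.trans e₂)

end Cfsg.Agent.S2093
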