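import Cfsg.Statements.S5395
import Cfsg.Agent.EqLemmas

set_option autoImplicit false
open Cfsg

namespace Cfsg.Agent.S5395

/-- For a finite extraspecial 2-group E, an automorphism of E that induces the identity on E modulo its centre is inner (so these automorphisms form exactly the inner automorphism group, an elementary abelian 2-group of order |E|/2). -/
theorem result {E : Type*} [Group E] [Finite E] (hE : Cfsg.IsExtraspecial 2 E) (φ : E ≃* E) (hφ : ∀ x : E, φ x * x⁻¹ ∈ Subgroup.center E) : ∃ g : E, ∀ x : E, φ x = g * x * g⁻¹ := by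
  classical
  obtain ⟨⟨-, -, hcomm⟩, hZ⟩ := hE
  haveI : Finite (Subgroup.center E) := inferInstance
  have hc : ∀ g x : E, g * x * g⁻¹ * x⁻¹ ∈ Subgroup.center E := by
    intro g x
    rw [← hcomm]
    exact Subgroup.commutator_mem_commutator (Subgroup.mem_top g) (Subgroup.mem_top x)
  have hZ2 : ∀ z ∈ Subgroup.center E, z * z = 1 := by
    intro z hz
    have h := pow_card_eq_one' (x := (⟨z, hz⟩ : Subgroup.center E))
    rw [hZ, pow_two] at h
    exact congrArg Subtype.val h
  have hcen : ∀ z ∈ Subgroup.center E, ∀ a : E, a * z = z * a :=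
    fun z hz a => Subgroup.mem_center_iff.mp hz a
  -- φ fixes the centre
  have hφZ : ∀ z ∈ Subgroup.center E, φ z = z := by
    intro z hz
    by_contra hne
    have hz1 : z ≠ 1 := fun h => hne (by rw [h, map_one])
    have hw : φ z * z⁻¹ ∈ Subgroup.center E := hφ z
    have hφz : φ z ∈ Subgroup.center E := by
      simpa using (Subgroup.center E).mul_mem hw hz
    have hφz1 : φ z ≠ 1 := fun h => hz1 (φ.injective (by rw [h, map_one]))
    have h3 : ({⟨1, one_mem _⟩, ⟨z, hz⟩, ⟨φ z, hφz⟩} : Finset (Subgroup.center E)).card = 3 := by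
      rw [Finset.card_insert_of_notMem, Finset.card_pair]
      · intro h
        exact hne (congrArg Subtype.val h).symm
      · simp [Subtype.ext_iff, Ne.symm hz1, Ne.symm hφz1]
    haveI := Fintype.ofFinite (Subgroup.center E)
    have := Finset.card_le_univ ({⟨1, one_mem _⟩, ⟨z, hz⟩, ⟨φ z, hφz⟩} : Finset (Subgroup.center E))
    rw [h3, Nat.card_eq_fintype_card.symm.trans hZ] at this
    omega
  letI : CommGroup (E ⧸ Subgroup.center E) :=
    { (inferInstance : Group (E ⧸ Subgroup.center E)) with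
      mul_comm := fun a b => by
        induction a using QuotientGroup.induction_on
        rename_i a
        induction b using QuotientGroup.induction_on
        rename_i b
        rw [← QuotientGroup.mk_mul, ← QuotientGroup.mk_mul, QuotientGroup.eq]
        have : (a * b)⁻¹ * (b * a) = b⁻¹ * a⁻¹ * b⁻¹⁻¹ * a⁻¹⁻¹ := by group
        rw [this]
        exact hc _ _ }
  let e : ↥(Subgroup.center E) ≃* ℤˣ :=
    mulEquivOfPrimeCardEq (G := ↥(Subgroup.center E)) (G' := ℤˣ) (p := 2) hZ
      (by rw [Nat.card_eq_fintype_card]; rfl)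
  let j : ↥(Subgroup.center E) →* ℂˣ :=
    (Units.map (Int.castRingHom ℂ).toMonoidHom).comp e.toMonoidHom
  have hj : Function.Injective j := by
    intro a b hab
    apply e.injective
    apply Units.ext
    have := congrArg Units.val hab
    exact Int.cast_injective this
  let cg : E → E →* ↥(Subgroup.center E) := fun g => MonoidHom.mk'
    (fun x => ⟨g * x * g⁻¹ * x⁻¹, hc g x⟩) (fun x y => by
      apply Subtype.ext
      show g * (x * y) * g⁻¹ * (x * y)⁻¹ = g * x * g⁻¹ * x⁻¹ * (g * y * g⁻¹ * y⁻¹)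
      have h1 := hcen _ (hc g y) x
      calc g * (x * y) * g⁻¹ * (x * y)⁻¹
          = g * x * g⁻¹ * ((g * y * g⁻¹ * y⁻¹) * x⁻¹) := by group
        _ = g * x * g⁻¹ * (x⁻¹ * (g * y * g⁻¹ * y⁻¹)) := by
              rw [hcen _ (hc g y) x⁻¹]
        _ = _ := by group)
  let Ψ : E → (E ⧸ Subgroup.center E →* ℂˣ) := fun g =>
    QuotientGroup.lift (Subgroup.center E) (j.comp (cg g)) (fun z hz => by
      show j (cg g z) = 1
      have : cg g z = 1 := Subtype.ext (by
        show g * z * g⁻¹ * z⁻¹ = 1
        rw [hcen z hz g]; group)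
      rw [this, map_one])
  have hinj : ∀ a b : E, Ψ a = Ψ b → a⁻¹ * b ∈ Subgroup.center E := by
    intro a b hab
    rw [Subgroup.mem_center_iff]
    intro x
    have h := congrArg Subtype.val (hj (DFunLike.congr_fun hab (x : E ⧸ Subgroup.center E)))
    have h' : a * x * a⁻¹ = b * x * b⁻¹ := mul_right_cancel h
    calc x * (a⁻¹ * b) = a⁻¹ * (a * x * a⁻¹) * b := by group
      _ = a⁻¹ * (b * x * b⁻¹) * b := by rw [h']
      _ = a⁻¹ * b * x := by group
  haveI hroots : HasEnoughRootsOfUnity ℂ (Monoid.exponent (E ⧸ Subgroup.center E)) := inferInstance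
  haveI : Finite (E ⧸ Subgroup.center E →* ℂˣ) :=
    (CommGroup.monoidHom_mulEquiv_of_hasEnoughRootsOfUnity (E ⧸ Subgroup.center E) ℂ).elim
      fun e => Finite.of_equiv _ e.symm.toEquiv
  have hbij : Function.Bijective (fun v : E ⧸ Subgroup.center E => Ψ v.out) := by
    refine (Nat.bijective_iff_injective_and_card _).2 ⟨fun v w h => ?_, ?_⟩
    · have := QuotientGroup.eq.2 (hinj _ _ h)
      rwa [QuotientGroup.out_eq', QuotientGroup.out_eq'] at this
    · exact (CommGroup.card_monoidHom_of_hasEnoughRootsOfUnity (E ⧸ Subgroup.center E) ℂ).symm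
  let f : E →* ↥(Subgroup.center E) := MonoidHom.mk' (fun x => ⟨φ x * x⁻¹, hφ x⟩) (fun x y => by
      apply Subtype.ext
      show φ (x * y) * (x * y)⁻¹ = φ x * x⁻¹ * (φ y * y⁻¹)
      have h1 := hcen _ (hφ y) x⁻¹
      calc φ (x * y) * (x * y)⁻¹ = φ x * ((φ y * y⁻¹) * x⁻¹) := by rw [map_mul]; group
        _ = φ x * (x⁻¹ * (φ y * y⁻¹)) := by rw [h1]
        _ = _ := by group)
  obtain ⟨v, hv⟩ := hbij.2 (QuotientGroup.lift (Subgroup.center E) (j.comp f) (fun z hz => by
      show j (f z) = 1
      have : f z = 1 := Subtype.ext (by show φ z * z⁻¹ = 1; rw [hφZ z hz, mul_inv_cancel])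
      rw [this, map_one]))
  refine ⟨v.out, fun x => ?_⟩
  have h := congrArg Subtype.val (hj (DFunLike.congr_fun hv (x : E ⧸ Subgroup.center E)))
  exact (mul_right_cancel h).symm

end Cfsg.Agent.S5395
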