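import Cfsg.Statements.S1093
import Cfsg.Agent.Lib.Coxeter.CertE6
import Cfsg.Agent.Lib.Coxeter.CertE7
import Cfsg.Agent.Lib.Coxeter.CertE8

set_option autoImplicit false
open Cfsg

namespace Cfsg.Agent.S1093

open Cfsg.Agent.Coxeter

theorem card_e6 : Nat.card (CoxeterMatrix.E₆).Group = 51840 := by
  have hA := isCartan_cartanOf_all (M := CoxeterMatrix.E₆) (by decide +kernel)
  have hR : List.ofFn (fun i => List.ofFn (cartanOf (CoxeterMatrix.E₆) i)) = e6R := by decide +kernel
  rw [← card_par_top, card_par_succ hA hR e6_check5, e6_len5, card_par_succ hA hR e6_check4, e6_len4, card_par_succ hA hR e6_check3, e6_len3, card_par_succ hA hR e6_check2, e6_len2, card_par_succ hA hR e6_check1, e6_len1, card_par_succ hA hR e6_check0, e6_len0, card_par_zero]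

theorem card_e7 : Nat.card (CoxeterMatrix.E₇).Group = 2903040 := by
  have hA := isCartan_cartanOf_all (M := CoxeterMatrix.E₇) (by decide +kernel)
  have hR : List.ofFn (fun i => List.ofFn (cartanOf (CoxeterMatrix.E₇) i)) = e7R := by decide +kernel
  rw [← card_par_top, card_par_succ hA hR e7_check6, e7_len6, card_par_succ hA hR e7_check5, e7_len5, card_par_succ hA hR e7_check4, e7_len4, card_par_succ hA hR e7_check3, e7_len3, card_par_succ hA hR e7_check2, e7_len2, card_par_succ hA hR e7_check1, e7_len1, card_par_succ hA hR e7_check0, e7_len0, card_par_zero]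

theorem card_e8 : Nat.card (CoxeterMatrix.E₈).Group = 696729600 := by
  have hA := isCartan_cartanOf_all (M := CoxeterMatrix.E₈) (by decide +kernel)
  have hR : List.ofFn (fun i => List.ofFn (cartanOf (CoxeterMatrix.E₈) i)) = e8R := by decide +kernel
  rw [← card_par_top, card_par_succ hA hR e8_check7, e8_len7, card_par_succ hA hR e8_check6, e8_len6, card_par_succ hA hR e8_check5, e8_len5, card_par_succ hA hR e8_check4, e8_len4, card_par_succ hA hR e8_check3, e8_len3, card_par_succ hA hR e8_check2, e8_len2, card_par_succ hA hR e8_check1, e8_len1, card_par_succ hA hR e8_check0, e8_len0, card_par_zero]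

/-- `|W(E₆)| = 51840`, `|W(E₇)| = 2903040`, `|W(E₈)| = 696729600` for Mathlib's presented Coxeter groups. -/
theorem result (p : (Σ n : ℕ, CoxeterMatrix (Fin n)) × ℕ)
    (hp : p ∈ [(⟨6, CoxeterMatrix.E₆⟩, 51840), (⟨7, CoxeterMatrix.E₇⟩, 2903040), (⟨8, CoxeterMatrix.E₈⟩, 696729600)]) :
    Nat.card p.1.2.Group = p.2 := by
  simp only [List.mem_cons, List.not_mem_nil, or_false] at hp
  rcases hp with rfl | rfl | rfl
  · exact card_e6
  · exact card_e7
  · exact card_e8

end Cfsg.Agent.S1093
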