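import Cfsg.Statements.S1602
import Cfsg.Agent.Lib.GolayOrbits.Stab
-- import your own Cfsg.Agent.* helpers here

set_option autoImplicit false
open scoped Pointwise
open Cfsg

namespace Cfsg.Agent.S1602

open Cfsg.Agent.Golay Cfsg.Agent.GolayOrbits

theorem pair_eq : pts 0xa0 = {pt 5, pt 7} := by decide +kernel

/-- The unique octad through the pair and the point which meets the dodecad in six points. -/
def octadK : ℕ := 0x401ed

theorem octadK_unique : allSpan (fun m => !(popcount m == 8 && m.testBit 0 && m.testBit 5 &&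
    m.testBit 7 && popcount (dodec0 &&& m) == 6) || m == octadK) rows 0 = true := by
  decide +kernel

theorem octadK_fixed {g : Equiv.Perm Cfsg.GolayPt} (hg : g ∈ Fix [0xa0, 1 <<< 0, dodec0]) :
    g • pts octadK = pts octadK := by
  have hK : pts octadK ∈ Cfsg.octads := pts_mem_octads (by decide +kernel)
  have hd : g • pts dodec0 = pts dodec0 := hg.2 dodec0 (by simp)
  have h0 : g (pt 0) = pt 0 := apply_eq_of_Fix hg (by norm_num) (by simp)
  have hpair : g • pts 0xa0 = pts 0xa0 := hg.2 0xa0 (by simp)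
  have hsub : pts 0xa0 ⊆ g • pts octadK := by
    rw [← hpair]
    exact Finset.smul_finset_subset_smul_finset (by decide +kernel)
  have hm := supports_forall octadK_unique (smul_mem_octads hg.1 hK).1
  have hc : (popcount (maskOf (g • pts octadK)) == 8 && (maskOf (g • pts octadK)).testBit 0 &&
      (maskOf (g • pts octadK)).testBit 5 && (maskOf (g • pts octadK)).testBit 7 &&
      popcount (dodec0 &&& maskOf (g • pts octadK)) == 6) = true := by
    simp only [Bool.and_eq_true, beq_iff_eq, popcount_maskOf, popcount_and_maskOf]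
    refine ⟨⟨⟨⟨?_, ?_⟩, ?_⟩, ?_⟩, ?_⟩
    · exact (Finset.card_smul_finset g _).trans hK.2
    · refine (testBit_maskOf (by norm_num) _).mpr ?_
      rw [← h0, apply_mem_smul_iff]; decide +kernel
    · exact (testBit_maskOf (by norm_num) _).mpr (hsub (by decide +kernel))
    · exact (testBit_maskOf (by norm_num) _).mpr (hsub (by decide +kernel))
    · conv_lhs => rw [← hd]
      rw [card_smul_inter, card_inter_pts]
      decide +kernel
  rw [hc, Bool.not_true, Bool.false_or, beq_iff_eq] at hm
  conv_lhs => rw [← pts_maskOf (g • pts octadK), hm]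

/-- The five points permuted by the stabiliser. -/
def fiveMask : ℕ := 0x4014c

theorem apply_mem_five {g : Equiv.Perm Cfsg.GolayPt} (hg : g ∈ Fix [0xa0, 1 <<< 0, dodec0])
    (p : Cfsg.GolayPt) : g p ∈ pts fiveMask ↔ p ∈ pts fiveMask := by
  have key : ∀ y : Cfsg.GolayPt,
      y ∈ pts fiveMask ↔ y ∈ pts octadK ∧ y ∈ pts dodec0 ∧ y ≠ pt 0 := by decide +kernel
  rw [key, key, apply_mem_of_fixed (octadK_fixed hg), apply_mem_of_fixed (hg.2 dodec0 (by simp))]
  have h0 : g (pt 0) = pt 0 := apply_eq_of_Fix hg (by norm_num) (by simp)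
  simp only [ne_eq]
  rw [show g p = pt 0 ↔ p = pt 0 from ⟨fun h => g.injective (h.trans h0.symm), fun h => h ▸ h0⟩]

/-- The sixteen elements fixing six given points of the octad. -/
def sixFix : List ℕ :=
  [0xbdab49ca307b9ac5a928398a418820,
   0x7c60e4cad5bd16a6b268398a118880,
   0x82dec249b7aaa34b3828398b318920,
   0x6d6d3a4a115a6e4785c8398ac18940,
   0x625d08ca74554970bec8398ad18960,
   0x5c22974ab66cde1b9288398aa18980,
   0x54e95b492e6402f25e28398ab189a0,
   0x8bd6464aedb0613aa548398b4189c0,
   0x2393184a930d98d52ea8398b7189e0,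
   0x4b08b7c9419b5d6a46e8398b518a00,
   0x7118f5c82aa5d359c1a8398b618a20,
   0xab6ea0c96f832ce8d088398a918a60,
   0xb5da1549eb892a984d88398ae18a80,
   0x9a82dbc9844ae91759e8398b018aa0,
   0xa05576c88c73e704d568398b118ac0,
   0xd276ac9c92454b63608398af18ae0]

theorem sixFix_check : sixFix.all (fun e => isAut e &&
      [0, 2, 3, 6, 8, 18].all (fun i => fn e i == i) &&
      (imgMask e dodec0 != dodec0 || fn e 1 == 1)) &&
    (List.range 24).all (fun i => octadK.testBit i || sixFix.any fun e => fn e 1 == i) = true := by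
  decide +kernel

/-- The frame: six points of the octad and one outside. -/
def kFrame : Fin 7 → Cfsg.GolayPt := ![pt 0, pt 2, pt 3, pt 6, pt 8, pt 18, pt 1]

theorem isFrame_kFrame : IsFrame kFrame :=
  ⟨by decide +kernel, pts octadK, pts_mem_octads (by decide +kernel), by decide +kernel,
    by decide +kernel⟩

theorem eq_one_of_five {g : Equiv.Perm Cfsg.GolayPt} (hg : g ∈ Fix [0xa0, 1 <<< 0, dodec0])
    (hfive : ∀ p ∈ pts fiveMask, g p = p) : g = 1 := by
  have hK := octadK_fixed hg
  have h := sixFix_check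
  simp only [Bool.and_eq_true, List.all_eq_true, List.mem_range, Bool.or_eq_true, beq_iff_eq,
    bne_iff_ne, ne_eq, List.any_eq_true, decide_eq_true_eq] at h
  obtain ⟨hall, hcov⟩ := h
  have hout : g (pt 1) ∉ pts octadK := by
    rw [apply_mem_of_fixed hK]; decide +kernel
  obtain ⟨e, he, hei⟩ := (hcov (idx (g (pt 1))) (idx_lt _)).resolve_left
    fun h => hout (mem_pts.mpr h)
  obtain ⟨⟨haut, hfix⟩, hdod⟩ := hall e he
  have hv := validPerm_of_isAut haut
  have hsix : ∀ i ∈ [0, 2, 3, 6, 8, 18], g (pt i) = pt i ∧ toPerm e (pt i) = pt i := by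
    intro i hi
    have hlt : i < 24 :=
      (by decide : ∀ j ∈ [0, 2, 3, 6, 8, 18], j < 24) i hi
    refine ⟨?_, by rw [toPerm_pt hv hlt, hfix i hi]⟩
    rcases List.mem_cons.mp hi with rfl | hi'
    · exact apply_eq_of_Fix hg (by norm_num) (by simp)
    · exact hfive _ ((by decide +kernel : ∀ j ∈ [2, 3, 6, 8, 18], pt j ∈ pts fiveMask) i hi')
  have heq : g = toPerm e := by
    refine eq_of_frame hg.1 (toPerm_mem_M24 haut) isFrame_kFrame fun j => ?_
    have hlast : g (pt 1) = toPerm e (pt 1) := by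
      rw [toPerm_pt hv (by norm_num), hei, pt_idx]
    fin_cases j
    all_goals first
      | exact hlast
      | exact (hsix 0 (by simp)).1.trans (hsix 0 (by simp)).2.symm
      | exact (hsix 2 (by simp)).1.trans (hsix 2 (by simp)).2.symm
      | exact (hsix 3 (by simp)).1.trans (hsix 3 (by simp)).2.symm
      | exact (hsix 6 (by simp)).1.trans (hsix 6 (by simp)).2.symm
      | exact (hsix 8 (by simp)).1.trans (hsix 8 (by simp)).2.symm
      | exact (hsix 18 (by simp)).1.trans (hsix 18 (by simp)).2.symm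
  have hd : imgMask e dodec0 = dodec0 := by
    refine pts_injOn (imgMask_lt hv _) (by decide +kernel) ?_
    rw [pts_imgMask hv, ← heq, hg.2 dodec0 (by simp)]
  have he1 : fn e 1 = 1 := hdod.resolve_left fun hne => hne hd
  refine eq_one_of_frame hg.1 isFrame_kFrame fun j => ?_
  have hlast : g (pt 1) = pt 1 := by rw [heq, toPerm_pt hv (by norm_num), he1]
  fin_cases j
  all_goals first
    | exact hlast
    | exact (hsix 0 (by simp)).1
    | exact (hsix 2 (by simp)).1
    | exact (hsix 3 (by simp)).1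
    | exact (hsix 6 (by simp)).1
    | exact (hsix 8 (by simp)).1
    | exact (hsix 18 (by simp)).1

theorem natCard_fixPair : Nat.card (Fix [0xa0, 1 <<< 0, dodec0]) = 120 := by
  have h := natCard_Fix_step [1 <<< 0, dodec0] 0xa0
    (fun s => s.card = 2 ∧ ∀ x ∈ s, x ∉ pts dodec0)
    (fun g hg => ⟨by rw [Finset.card_smul_finset]; decide +kernel, fun x hx => by
      rw [pair_eq, Finset.smul_finset_insert, Finset.smul_finset_singleton, Finset.mem_insert,
        Finset.mem_singleton] at hx
      rcases hx with rfl | rfl <;>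
        rw [Equiv.Perm.smul_def, apply_mem_of_fixed (hg.2 dodec0 (by simp))] <;> decide +kernel⟩)
    (fun s ⟨hs, hsd⟩ => by
      obtain ⟨a, b, hab, rfl⟩ := Finset.card_eq_two.mp hs
      obtain ⟨g, hg, hgd, hg0, hg5, hg7⟩ := exists_map_dodecad_point_pair dodec0_mem
        (p := pt 0) (by decide +kernel) (hsd a (by simp)) (hsd b (by simp)) hab
      refine ⟨g, ⟨hg, ?_⟩, ?_⟩
      · simp only [List.forall_mem_cons, List.not_mem_nil, IsEmpty.forall_iff, implies_true,
          and_true]
        exact ⟨by rw [pts_single (by norm_num), smul_single_iff, hg0], hgd⟩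
      · rw [pair_eq, Finset.smul_finset_insert, Finset.smul_finset_singleton,
          Equiv.Perm.smul_def, Equiv.Perm.smul_def, hg5, hg7])
  have hset : {s : Finset Cfsg.GolayPt | s.card = 2 ∧ ∀ x ∈ s, x ∉ pts dodec0} =
      ↑((pts dodec0)ᶜ.powersetCard 2) := by
    ext s
    simp [Finset.mem_powersetCard, Finset.subset_iff, and_comm]
  rw [natCard_Fix_chain.1, hset, Set.ncard_coe_finset, Finset.card_powersetCard,
    Finset.card_compl, dodec0_mem.2] at h
  have h66 : Nat.choose (Fintype.card Cfsg.GolayPt - 12) 2 = 66 := by decide +kernel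
  rw [h66] at h
  omega

theorem fixPair_iso : Nonempty (↥(Fix [0xa0, 1 <<< 0, dodec0]) ≃* Equiv.Perm (Fin 5)) := by
  have hcard : (pts fiveMask).card = 5 := by rw [card_pts]; decide +kernel
  let f : ↥(Fix [0xa0, 1 <<< 0, dodec0]) →* Equiv.Perm {p // p ∈ pts fiveMask} :=
    { toFun := fun g => Equiv.Perm.subtypePerm (g : Equiv.Perm Cfsg.GolayPt)
        (apply_mem_five g.2)
      map_one' := Equiv.ext fun _ => rfl
      map_mul' := fun _ _ => Equiv.ext fun _ => rfl }
  have hinj : Function.Injective f := by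
    rw [injective_iff_map_eq_one]
    intro g hg
    refine Subtype.ext (eq_one_of_five g.2 fun p hp => ?_)
    exact congrArg Subtype.val (Equiv.congr_fun hg ⟨p, hp⟩)
  have hbij : Function.Bijective f := by
    refine (Nat.bijective_iff_injective_and_card f).mpr ⟨hinj, ?_⟩
    rw [natCard_fixPair, Nat.card_perm, Nat.card_eq_fintype_card, Fintype.card_coe, hcard]
    rfl
  exact ⟨(MulEquiv.ofBijective f hbij).trans
    (Equiv.permCongrHom (Finset.equivFinOfCardEq hcard))⟩

/-- In the 12-point action of the smallest Mathieu group the setwise stabiliser of a pair is isomorphic to the symmetric group of degree 5. -/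
theorem result (d : Finset Cfsg.GolayPt) (hd : d ∈ Cfsg.dodecads) (p q q' : Cfsg.GolayPt) (hp : p ∈ d) (hq : q ∉ d) (hq' : q' ∉ d) (hqq' : q ≠ q') : Nonempty (↥(MulAction.stabilizer Cfsg.M24 d ⊓ MulAction.stabilizer Cfsg.M24 p ⊓ MulAction.stabilizer Cfsg.M24 ({q, q'} : Finset Cfsg.GolayPt)) ≃* Equiv.Perm (Fin 5)) := by
  obtain ⟨t, ht, htd, htp, htq, htq'⟩ := exists_map_dodecad_point_pair hd hp hq hq' hqq'
  have hs0 : t • pts (1 <<< 0) = {p} := smul_pts_single (by norm_num) htp
  have hspair : t • pts 0xa0 = {q, q'} := by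
    rw [pair_eq, Finset.smul_finset_insert, Finset.smul_finset_singleton, Equiv.Perm.smul_def,
      Equiv.Perm.smul_def, htq, htq']
  have hiff : ∀ x : ↥Cfsg.M24,
      x ∈ MulAction.stabilizer Cfsg.M24 d ⊓ MulAction.stabilizer Cfsg.M24 p ⊓
        MulAction.stabilizer Cfsg.M24 ({q, q'} : Finset Cfsg.GolayPt) ↔
      t⁻¹ * (x : Equiv.Perm Cfsg.GolayPt) * t ∈ Fix [0xa0, 1 <<< 0, dodec0] := by
    intro x
    simp only [Subgroup.mem_inf, mem_stabilizer_set_iff, mem_stabilizer_point_iff, mem_Fix,
      List.forall_mem_cons, List.not_mem_nil, IsEmpty.forall_iff, implies_true, and_true,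
      smul_conj_iff, hs0, hspair, htd]
    have hm : t⁻¹ * (x : Equiv.Perm Cfsg.GolayPt) * t ∈ Cfsg.M24 :=
      mul_mem (mul_mem (inv_mem ht) x.2) ht
    tauto
  obtain ⟨e⟩ := fixPair_iso
  exact ⟨(conjEquiv (K := Fix [0xa0, 1 <<< 0, dodec0]) (fun g hg => hg.1) t ht hiff).trans e⟩

end Cfsg.Agent.S1602
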