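import Cfsg.Statements.S1349
import Cfsg.Agent.Lib.Signalizer.Basic

set_option autoImplicit false
open Cfsg

namespace Cfsg.Agent.S1349

open Cfsg.Agent

variable {G : Type*} [Group G] [Finite G]

omit [Finite G] in
theorem not_one_of_odd {x : G} (hx : x ≠ 1) (ho : Odd (orderOf x)) (h : x = x⁻¹) : False := by
  have h2 : x ^ 2 = 1 := by rw [pow_two]; exact mul_eq_one_iff_eq_inv.2 h
  rcases (Nat.dvd_prime Nat.prime_two).1 (orderOf_dvd_of_pow_eq_one h2) with e | e
  · exact hx (orderOf_eq_one_iff.1 e)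
  · rw [e] at ho; exact absurd ho (by decide)

theorem commute_of_inverted {L : Subgroup G} (hL : Odd (Nat.card L)) {k x y : G} (hx : x ∈ L)
    (hy : y ∈ L) (hkx : k * x * k⁻¹ = x⁻¹) (hky : k * y * k⁻¹ = y)
    (hkw : k * (x * y * x⁻¹ * y⁻¹) * k⁻¹ = x * y * x⁻¹ * y⁻¹) : x * y = y * x := by
  set w := x * y * x⁻¹ * y⁻¹ with hw
  have hwL : w ∈ L := L.mul_mem (L.mul_mem (L.mul_mem hx hy) (L.inv_mem hx)) (L.inv_mem hy)
  have h1 : w = x⁻¹ * w⁻¹ * x := by
    calc w = k * (x * y * x⁻¹ * y⁻¹) * k⁻¹ := hkw.symm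
      _ = (k * x * k⁻¹) * (k * y * k⁻¹) * (k * x * k⁻¹)⁻¹ * (k * y * k⁻¹)⁻¹ := by group
      _ = x⁻¹ * w⁻¹ * x := by rw [hkx, hky, hw]; group
  have h2 : x * w * x⁻¹ = w⁻¹ := by
    calc x * w * x⁻¹ = x * (x⁻¹ * w⁻¹ * x) * x⁻¹ := by rw [← h1]
      _ = w⁻¹ := by group
  have hsq : Commute (x ^ 2) w := by
    have h3 : x ^ 2 * w * (x ^ 2)⁻¹ = w := by
      calc x ^ 2 * w * (x ^ 2)⁻¹ = x * (x * w * x⁻¹) * x⁻¹ := by rw [pow_two]; group
        _ = x * w⁻¹ * x⁻¹ := by rw [h2]
        _ = (x * w * x⁻¹)⁻¹ := by group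
        _ = w := by rw [h2, inv_inv]
    exact mul_inv_eq_iff_eq_mul.1 h3
  have hox : (orderOf x).Coprime 2 := by
    refine (Nat.coprime_two_right).2 (hL.of_dvd_nat ?_)
    rw [← Subgroup.orderOf_mk x hx]; exact orderOf_dvd_natCard _
  obtain ⟨m, hm⟩ := exists_pow_eq_self_of_coprime hox.symm
  have hxw : Commute x w := hm ▸ hsq.pow_left m
  have h4 : w = w⁻¹ := by rw [← h2, hxw.eq]; group
  by_contra hne
  refine not_one_of_odd ?_ (hL.of_dvd_nat ?_) h4
  · intro h; apply hne; rw [hw, mul_inv_eq_one, mul_inv_eq_iff_eq_mul] at h; exact h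
  · rw [← Subgroup.orderOf_mk w hwL]; exact orderOf_dvd_natCard _

theorem inv_swap {k x : G} (hk : k * x * k⁻¹ = x⁻¹) : k * x⁻¹ * k⁻¹ = x := by
  calc k * x⁻¹ * k⁻¹ = (k * x * k⁻¹)⁻¹ := by group
    _ = x := by rw [hk, inv_inv]

/-- The derived series of `L`, inside the ambient group. -/
def drv (L : Subgroup G) : ℕ → Subgroup G
  | 0 => L
  | n + 1 => ⁅drv L n, drv L n⁆

omit [Finite G] in
theorem drv_succ (L : Subgroup G) (n : ℕ) : drv L (n + 1) = ⁅drv L n, drv L n⁆ := rfl

omit [Finite G] in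
theorem drv_anti (L : Subgroup G) {i j : ℕ} (h : i ≤ j) : drv L j ≤ drv L i := by
  induction h with
  | refl => exact le_rfl
  | step _ ih => exact (Subgroup.commutator_le_self _).trans ih

omit [Finite G] in
theorem drv_eq_map (L : Subgroup G) (n : ℕ) : drv L n = (derivedSeries L n).map L.subtype := by
  induction n with
  | zero => rw [derivedSeries_zero, ← MonoidHom.range_eq_map, L.range_subtype]; rfl
  | succ n ih => rw [drv_succ, ih, derivedSeries_succ, Subgroup.map_commutator]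

theorem drv_inv {L A : Subgroup G} (h : A ≤ Subgroup.normalizer (L : Set G)) (n : ℕ) :
    A ≤ Subgroup.normalizer (drv L n : Set G) := by
  induction n with
  | zero => exact h
  | succ n ih => exact ih.trans (Signalizer.normalizer_le_normalizer_commutator _)

/-- Commuting eigen-elements dual to generators of a subgroup `F` of `A`. -/
theorem eigen {L A : Subgroup G} (hA : Cfsg.IsElementaryAbelian 2 A)
    (hLs : Group.IsSolvable L) (hLodd : Odd (Nat.card L))
    (hAL : A ≤ Subgroup.normalizer (L : Set G))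
    (hfaith : A ⊓ Subgroup.centralizer (L : Set G) = ⊥) :
    ∀ (m : ℕ) (F : Subgroup G), F ≤ A → Nat.card F = 2 ^ m →
      ∃ (x k t : Fin m → G) (lvl : Fin m → ℕ),
        (∀ i, x i ∈ L ∧ x i ≠ 1 ∧ t i ∈ A) ∧ (∀ i, t i * x i * (t i)⁻¹ = (x i)⁻¹) ∧
        (∀ i j, i ≠ j → t i * x j * (t i)⁻¹ = x j) ∧
        (⨆ i, Subgroup.zpowers (t i)) = F ∧ (∀ i j, x i * x j = x j * x i) := by
  suffices H : ∀ (m : ℕ) (F : Subgroup G), F ≤ A → Nat.card F = 2 ^ m →
      ∃ (x k t : Fin m → G) (lvl : Fin m → ℕ),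
        (∀ i, x i ∈ drv L (lvl i) ∧ x i ≠ 1 ∧ t i ∈ F ∧ k i ∈ F ∧
          k i * x i * (k i)⁻¹ = (x i)⁻¹ ∧
          (∀ y ∈ drv L (lvl i + 1), k i * y * (k i)⁻¹ = y)) ∧
        (∀ i, t i * x i * (t i)⁻¹ = (x i)⁻¹) ∧
        (∀ i j, i ≠ j → t i * x j * (t i)⁻¹ = x j) ∧
        (∀ i, ∀ a ∈ A, a * x i * a⁻¹ = x i ∨ a * x i * a⁻¹ = (x i)⁻¹) ∧
        (⨆ i, Subgroup.zpowers (t i)) = F ∧ (∀ i j, x i * x j = x j * x i) by
    intro m F hF hc
    obtain ⟨x, k, t, lvl, h1, h2, h3, -, h5, h6⟩ := H m F hF hc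
    exact ⟨x, k, t, lvl, fun i => ⟨drv_anti L (Nat.zero_le _) (h1 i).1, (h1 i).2.1,
      hF (h1 i).2.2.1⟩, h2, h3, h5, h6⟩
  obtain ⟨n₀, hn₀⟩ := (Group.isSolvable_def (G := L)).1 hLs
  intro m
  induction m with
  | zero =>
    intro F _ hc
    refine ⟨Fin.elim0, Fin.elim0, Fin.elim0, Fin.elim0, fun i => i.elim0, fun i => i.elim0,
      fun i => i.elim0, fun i => i.elim0, ?_, fun i => i.elim0⟩
    rw [iSup_of_empty, Subgroup.eq_bot_of_card_eq F (by simpa using hc)]
  | succ m ih =>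
    intro F hFA hc
    obtain ⟨k₀, hk₀, hk₀1⟩ : ∃ a ∈ F, a ≠ 1 := by
      by_contra hcon
      push Not at hcon
      rw [(Subgroup.eq_bot_iff_forall F).2 hcon, Subgroup.card_bot] at hc
      exact absurd hc (Nat.one_lt_two_pow (Nat.succ_ne_zero m)).ne
    classical
    have hex : ∃ i, drv L i ≤ Subgroup.centralizer ({k₀} : Set G) :=
      ⟨n₀, by rw [drv_eq_map, hn₀, Subgroup.map_bot]; exact bot_le⟩
    have hne0 : Nat.find hex ≠ 0 := by
      intro h0
      have h := Nat.find_spec hex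
      rw [h0] at h
      have : k₀ ∈ A ⊓ Subgroup.centralizer (L : Set G) := ⟨hFA hk₀,
        Subgroup.mem_centralizer_iff.2 fun y hy =>
          Subgroup.mem_centralizer_singleton_iff.1 (h hy)⟩
      rw [hfaith, Subgroup.mem_bot] at this
      exact hk₀1 this
    obtain ⟨l, hl⟩ : ∃ l, Nat.find hex = l + 1 := Nat.exists_eq_succ_of_ne_zero hne0
    have hk₀l : ∀ y ∈ drv L (l + 1), k₀ * y * k₀⁻¹ = y := fun y hy =>
      Signalizer.mem_centralizer_singleton_conj.1 (hl ▸ Nat.find_spec hex <| hy)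
    have hnl : ¬ drv L l ≤ Subgroup.centralizer ({k₀} : Set G) :=
      Nat.find_min hex (by omega)
    have hsub : ∀ i, drv L i ≤ L := fun i => drv_anti L (Nat.zero_le i)
    obtain ⟨x₀, hx₀, hx₀1, hinv₀, hev₀⟩ := Signalizer.exists_inverted_of_not_fixed hA
      (Signalizer.not_dvd_card_of_le (hsub l) (Nat.not_even_iff_odd.2 hLodd ∘ even_iff_two_dvd.2))
      (drv_inv hAL l) (hFA hk₀) hnl
    have hox₀ : Odd (orderOf x₀) := hLodd.of_dvd_nat (by
      rw [← Subgroup.orderOf_mk x₀ (hsub l hx₀)]; exact orderOf_dvd_natCard _)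
    set F' : Subgroup G := F ⊓ Subgroup.centralizer ({x₀} : Set G) with hF'
    have hmemF' : ∀ a, a ∈ F' ↔ a ∈ F ∧ a * x₀ * a⁻¹ = x₀ := fun a => by
      rw [hF', Subgroup.mem_inf, Subgroup.mem_centralizer_singleton_iff, mul_inv_eq_iff_eq_mul]
    have hk₀inv : ∀ a ∈ F, a ∉ F' → k₀ * a ∈ F' := by
      intro a ha haF'
      have h1 : a * x₀ * a⁻¹ = x₀⁻¹ :=
        (hev₀ a (hFA ha)).resolve_left fun h => haF' ((hmemF' a).2 ⟨ha, h⟩)
      refine (hmemF' _).2 ⟨F.mul_mem hk₀ ha, ?_⟩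
      calc k₀ * a * x₀ * (k₀ * a)⁻¹ = k₀ * (a * x₀ * a⁻¹) * k₀⁻¹ := by group
        _ = x₀ := by rw [h1, inv_swap hinv₀]
    have hk₀F' : k₀ ∉ F' := fun h =>
      not_one_of_odd hx₀1 hox₀ (((hmemF' _).1 h).2.symm.trans hinv₀)
    have hk₀2 : k₀⁻¹ = k₀ :=
      inv_eq_of_mul_eq_one_right (by simpa [pow_two] using hA.2 k₀ (hFA hk₀))
    have hcard : Nat.card F' = 2 ^ m := by
      have hidx : (F'.subgroupOf F).index = 2 := by
        refine Subgroup.index_eq_two_iff.2 ⟨⟨k₀, hk₀⟩, fun b => ?_⟩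
        simp only [Subgroup.mem_subgroupOf, Subgroup.coe_mul]
        by_cases hb : (b : G) ∈ F'
        · refine Or.inr ⟨hb, fun h => hk₀F' ?_⟩
          exact (Subgroup.mul_mem_cancel_left _ hb).1 h
        · refine Or.inl ⟨?_, hb⟩
          rw [Signalizer.commute_of_isMulCommutative hA.1 (hFA b.2) (hFA hk₀)]
          exact hk₀inv b b.2 hb
      have h := Subgroup.card_mul_index (F'.subgroupOf F)
      have e : Nat.card (F'.subgroupOf F) = Nat.card F' :=
        Nat.card_congr (Subgroup.subgroupOfEquivOfLe (inf_le_left : F' ≤ F)).toEquiv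
      rw [hidx, hc, pow_succ, e] at h
      omega
    obtain ⟨x, k, t, lvl, hprop, htinv, htfix, hev, hgen, hcom⟩ :=
      ih F' (inf_le_left.trans hFA) hcard
    -- correct `k₀` so that it centralises the earlier eigen-elements
    have hs : ∀ s : Finset (Fin m), ∃ u ∈ F, u * x₀ * u⁻¹ = x₀⁻¹ ∧
        ∀ j ∈ s, u * x j * u⁻¹ = x j := by
      intro s
      induction s using Finset.induction_on with
      | empty => exact ⟨k₀, hk₀, hinv₀, by simp⟩
      | @insert j s hj ih =>
        obtain ⟨u, hu, hu0, hus⟩ := ih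
        rcases hev j u (hFA hu) with h | h
        · refine ⟨u, hu, hu0, fun i hi => ?_⟩
          rcases Finset.mem_insert.1 hi with rfl | hi
          exacts [h, hus i hi]
        · have htj := (hmemF' _).1 (hprop j).2.2.1
          refine ⟨u * t j, F.mul_mem hu htj.1, ?_, fun i hi => ?_⟩
          · calc u * t j * x₀ * (u * t j)⁻¹ = u * (t j * x₀ * (t j)⁻¹) * u⁻¹ := by group
              _ = x₀⁻¹ := by rw [htj.2, hu0]
          · calc u * t j * x i * (u * t j)⁻¹ = u * (t j * x i * (t j)⁻¹) * u⁻¹ := by group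
              _ = x i := by
                rcases eq_or_ne j i with rfl | hne
                · rw [htinv, inv_swap h]
                · rw [htfix j i hne]
                  exact hus i ((Finset.mem_insert.1 hi).resolve_left (Ne.symm hne))
    obtain ⟨t₀, ht₀F, ht₀inv, ht₀fix⟩ := hs Finset.univ
    have ht₀F' : t₀ ∉ F' := fun h =>
      not_one_of_odd hx₀1 hox₀ (((hmemF' _).1 h).2.symm.trans ht₀inv)
    have hcom₀ : ∀ j, x₀ * x j = x j * x₀ := by
      intro j
      have hj := hprop j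
      have hkj := (hmemF' _).1 hj.2.2.2.1
      rcases le_or_gt (lvl j) l with hle | hgt
      · refine (commute_of_inverted hLodd (hsub _ hj.1) (hsub _ hx₀) hj.2.2.2.2.1 hkj.2 ?_).symm
        refine hj.2.2.2.2.2 _ ?_
        rw [drv_succ, ← commutatorElement_def]
        exact Subgroup.commutator_mem_commutator hj.1 (drv_anti L hle hx₀)
      · refine commute_of_inverted hLodd (hsub _ hx₀) (hsub _ hj.1) hinv₀
          (hk₀l _ (drv_anti L hgt hj.1)) ?_
        refine hk₀l _ ?_
        rw [drv_succ, ← commutatorElement_def]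
        exact Subgroup.commutator_mem_commutator hx₀ (drv_anti L hgt.le hj.1)
    refine ⟨Fin.cons x₀ x, Fin.cons k₀ k, Fin.cons t₀ t, Fin.cons l lvl, ?_, ?_, ?_, ?_, ?_, ?_⟩
    · intro i
      refine Fin.cases ?_ (fun i => ?_) i
      · simpa using ⟨hx₀, hx₀1, ht₀F, hk₀, hinv₀, hk₀l⟩
      · obtain ⟨a, b, c, d', e, f⟩ := hprop i
        simpa using ⟨a, b, ((hmemF' _).1 c).1, ((hmemF' _).1 d').1, e, f⟩
    · intro i
      refine Fin.cases ?_ (fun i => ?_) i
      · simpa using ht₀inv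
      · simpa using htinv i
    · intro i
      refine Fin.cases ?_ (fun i => ?_) i <;> intro j <;> refine Fin.cases ?_ (fun j => ?_) j <;>
        intro hij
      · exact absurd rfl hij
      · simpa using ht₀fix j (Finset.mem_univ j)
      · simpa using ((hmemF' _).1 (hprop i).2.2.1).2
      · simpa using htfix i j (fun h => hij (congrArg Fin.succ h))
    · intro i
      refine Fin.cases ?_ (fun i => ?_) i
      · simpa using hev₀
      · simpa using hev i
    · refine le_antisymm (iSup_le fun i => ?_) ?_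
      · refine Fin.cases ?_ (fun i => ?_) i
        · simpa using ht₀F
        · simpa using ((hmemF' _).1 (hprop i).2.2.1).1
      · intro a ha
        set U : Subgroup G := ⨆ i, Subgroup.zpowers ((Fin.cons t₀ t : Fin (m + 1) → G) i) with hU
        have ht₀U : t₀ ∈ U := by
          have : Subgroup.zpowers ((Fin.cons t₀ t : Fin (m + 1) → G) 0) ≤ U :=
            le_iSup (fun i => Subgroup.zpowers ((Fin.cons t₀ t : Fin (m + 1) → G) i)) 0
          exact this (by simp)
        have hF'U : F' ≤ U := hgen ▸ iSup_le fun i => by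
          refine le_trans (le_of_eq ?_)
            (le_iSup (fun i => Subgroup.zpowers ((Fin.cons t₀ t : Fin (m + 1) → G) i)) i.succ)
          simp
        by_cases haF' : a ∈ F'
        · exact hF'U haF'
        · have h1 := mul_mem (inv_mem (hF'U (hk₀inv t₀ ht₀F ht₀F'))) (hF'U (hk₀inv a ha haF'))
          have h2 := mul_mem ht₀U h1
          rwa [mul_inv_rev, mul_assoc, inv_mul_cancel_left, mul_inv_cancel_left] at h2
    · intro i j
      refine Fin.cases ?_ (fun i => ?_) i <;> refine Fin.cases ?_ (fun j => ?_) j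
      · rfl
      · simpa using hcom₀ j
      · simpa using (hcom₀ i).symm
      · simpa using hcom i j

theorem dihedralIso {t x : G} (hx : Odd (orderOf x)) (ht2 : t * t = 1) (ht1 : t ≠ 1)
    (h : t * x * t⁻¹ = x⁻¹) :
    Nonempty (↥(Subgroup.zpowers t ⊔ Subgroup.zpowers x) ≃* DihedralGroup (orderOf x)) := by
  have htinv : t⁻¹ = t := inv_eq_of_mul_eq_one_right ht2
  haveI : NeZero (orderOf x) := ⟨(orderOf_pos x).ne'⟩
  let pw : ZMod (orderOf x) → G := fun i => x ^ i.val
  have padd : ∀ i j, pw (i + j) = pw i * pw j := fun i j => by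
    simp only [pw, ZMod.val_add, pow_mod_orderOf, pow_add]
  have pzero : pw 0 = 1 := by simp [pw]
  have pneg : ∀ i, pw (-i) = (pw i)⁻¹ := fun i =>
    eq_inv_of_mul_eq_one_left (by rw [← padd, neg_add_cancel, pzero])
  have psub : ∀ i j, pw (j - i) = (pw i)⁻¹ * pw j := fun i j => by
    rw [sub_eq_neg_add, padd, pneg]
  have pcomm : ∀ i, pw i * t = t * (pw i)⁻¹ := by
    intro i
    have h1 : t * pw i * t⁻¹ = (pw i)⁻¹ := by rw [← conj_pow, h, inv_pow]
    calc pw i * t = (t * pw i * t⁻¹)⁻¹ * t := by rw [h1, inv_inv]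
      _ = t * (pw i)⁻¹ := by group
  let φ : DihedralGroup (orderOf x) →* G :=
    { toFun := fun g => match g with
        | .r i => pw i
        | .sr i => t * pw i
      map_one' := pzero
      map_mul' := by
        rintro (i | i) (j | j)
        · exact padd i j
        · change t * pw (j - i) = pw i * (t * pw j)
          rw [psub, ← mul_assoc, ← mul_assoc, pcomm]
        · change t * pw (i + j) = t * pw i * pw j
          rw [padd, mul_assoc]
        · change pw (j - i) = t * pw i * (t * pw j)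
          rw [psub, mul_assoc t (pw i), ← mul_assoc (pw i), pcomm, ← mul_assoc, ← mul_assoc, ht2,
            one_mul] }
  have htpow : ∀ i, t ≠ pw i := by
    intro i hi
    have hd : orderOf t ∣ orderOf x := hi ▸ orderOf_pow_dvd i.val
    rw [orderOf_eq_prime (by rw [pow_two, ht2]) ht1] at hd
    exact absurd (even_iff_two_dvd.2 hd) (Nat.not_even_iff_odd.2 hx)
  have hinj : Function.Injective φ := by
    refine (injective_iff_map_eq_one φ).2 ?_
    rintro (i | i) hi
    · change pw i = 1 at hi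
      have : i.val = 0 := Nat.eq_zero_of_dvd_of_lt (orderOf_dvd_of_pow_eq_one hi) (ZMod.val_lt i)
      rw [(ZMod.val_eq_zero i).1 this]; rfl
    · change t * pw i = 1 at hi
      refine absurd ?_ (htpow (-i))
      rw [pneg]; exact eq_inv_of_mul_eq_one_left hi
  have hrange : φ.range = Subgroup.zpowers t ⊔ Subgroup.zpowers x := by
    refine le_antisymm ?_ (sup_le (Subgroup.zpowers_le.2 ⟨.sr 0, ?_⟩)
      (Subgroup.zpowers_le.2 ⟨.r 1, ?_⟩))
    · rintro _ ⟨(i | i), rfl⟩
      · exact Subgroup.mem_sup_right (pow_mem (Subgroup.mem_zpowers x) _)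
      · exact mul_mem (Subgroup.mem_sup_left (Subgroup.mem_zpowers t))
          (Subgroup.mem_sup_right (pow_mem (Subgroup.mem_zpowers x) _))
    · change t * pw 0 = t
      rw [pzero, mul_one]
    · change x ^ (1 : ZMod (orderOf x)).val = x
      rw [ZMod.val_one_eq_one_mod, pow_mod_orderOf, pow_one]
  exact ⟨((MonoidHom.ofInjective hinj).trans (MulEquiv.subgroupCongr hrange)).symm⟩


/-- Let G be finite, L ≤ G solvable of odd order, and A an elementary abelian 2-subgroup of order 2^d (d ≥ 1) normalizing L with C_A(L) = 1. Then there are subgroups A_1, …, A_d of A of order 2 generating A and subgroups L_1, …, L_d of L such that each A_i ⊔ L_i is dihedral of order 2 n_i with n_i odd and at least 3, and A_i ⊔ L_i commutes elementwise with A_j ⊔ L_j for i ≠ j. -/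
theorem result {G : Type*} [Group G] [Finite G] (L A : Subgroup G) (hLs : Group.IsSolvable ↥L) (hLodd : Odd (Nat.card ↥L)) (hA : Cfsg.IsElementaryAbelian 2 A) (d : ℕ) (hd : 1 ≤ d) (hAd : Nat.card ↥A = 2 ^ d) (hAL : A ≤ Subgroup.normalizer (L : Set G)) (hfaith : A ⊓ Subgroup.centralizer (L : Set G) = ⊥) : ∃ (Ai : Fin d → Subgroup G) (Li : Fin d → Subgroup G) (n : Fin d → ℕ), (∀ i, Ai i ≤ A ∧ Nat.card ↥(Ai i) = 2 ∧ Li i ≤ L ∧ Odd (n i) ∧ 3 ≤ n i ∧ Nonempty (↥(Ai i ⊔ Li i) ≃* DihedralGroup (n i))) ∧ (⨆ i, Ai i) = A ∧ ∀ i j, i ≠ j → ∀ x ∈ Ai i ⊔ Li i, ∀ y ∈ Ai j ⊔ Li j, x * y = y * x := by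
  obtain ⟨x, k, t, lvl, hx⟩ := eigen hA hLs hLodd hAL hfaith d A le_rfl hAd
  obtain ⟨hmem, hinv, hfix, hgen, hcom⟩ := hx
  have hxodd : ∀ i, Odd (orderOf (x i)) := fun i => by
    refine hLodd.of_dvd_nat ?_
    rw [← Subgroup.orderOf_mk (x i) (hmem i).1]
    exact orderOf_dvd_natCard _
  refine ⟨fun i => Subgroup.zpowers (t i), fun i => Subgroup.zpowers (x i),
    fun i => orderOf (x i), fun i => ?_, hgen, fun i j hij a ha b hb => ?_⟩
  · have ht2 : t i * t i = 1 := by simpa [pow_two] using hA.2 _ (hmem i).2.2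
    have ht1 : t i ≠ 1 := by
      intro h
      have h2 : x i = (x i)⁻¹ := by simpa [h] using hinv i
      exact not_one_of_odd (hmem i).2.1 (hxodd i) h2
    refine ⟨Subgroup.zpowers_le.2 (hmem i).2.2, ?_, Subgroup.zpowers_le.2 (hmem i).1, hxodd i, ?_,
      dihedralIso (hxodd i) ht2 ht1 (hinv i)⟩
    · rw [Nat.card_zpowers]; exact orderOf_eq_prime (by rw [pow_two, ht2]) ht1
    · have h1 : 1 < orderOf (x i) := by
        rcases (hxodd i) with ⟨c, hc⟩
        have : orderOf (x i) ≠ 1 := fun h => (hmem i).2.1 (orderOf_eq_one_iff.1 h)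
        omega
      rcases (hxodd i) with ⟨c, hc⟩
      dsimp only
      omega
  · have key : ∀ i j, i ≠ j → ∀ a ∈ ({t i, x i} : Set G), ∀ b ∈ ({t j, x j} : Set G),
        a * b = b * a := by
      intro i j hij
      rintro a (rfl | rfl) b (rfl | rfl)
      · exact Signalizer.commute_of_isMulCommutative hA.1 (hmem i).2.2 (hmem j).2.2
      · exact mul_inv_eq_iff_eq_mul.1 (hfix i j hij)
      · exact (mul_inv_eq_iff_eq_mul.1 (hfix j i hij.symm)).symm
      · exact hcom i j
    have e : ∀ i, Subgroup.zpowers (t i) ⊔ Subgroup.zpowers (x i) =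
        Subgroup.closure {t i, x i} := fun i => by
      rw [Subgroup.zpowers_eq_closure, Subgroup.zpowers_eq_closure, ← Subgroup.closure_union]
      rfl
    rw [e] at ha hb
    have h1 : Subgroup.closure {t i, x i} ≤
        Subgroup.centralizer ((Subgroup.closure {t j, x j} : Subgroup G) : Set G) := by
      rw [Subgroup.centralizer_closure, Subgroup.closure_le]
      intro a ha
      exact Subgroup.mem_centralizer_iff.2 fun b hb => (key i j hij a ha b hb).symm
    exact (Subgroup.mem_centralizer_iff.1 (h1 ha) b hb).symm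

end Cfsg.Agent.S1349
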