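import Cfsg.Statements.S0203
import Cfsg.Agent.Lib.Involution.KleinFour

set_option autoImplicit false
open Cfsg

namespace Cfsg.Agent.S0203

/-- If a Sylow 2-subgroup P of a finite group G is a Klein four-group, then G has three classes of involutions if and only if P has a normal complement in G. -/
theorem result {G : Type*} [Group G] [Finite G] (P : Sylow 2 G) (hP : IsKleinFour (P : Subgroup G)) : Nat.card {C : ConjClasses G // ∃ t : G, orderOf t = 2 ∧ ConjClasses.mk t = C} = 3 ↔ ∃ N : Subgroup G, N.Normal ∧ Subgroup.IsComplement' N (P : Subgroup G) := by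
  haveI := hP
  haveI : Fact (Nat.Prime 2) := ⟨Nat.prime_two⟩
  constructor
  · intro h3
    rcases Involution.klein_conj_dichotomy P with ⟨a, ha, ha1, h⟩ | h
    · rw [Involution.card_classes_of_all_conj P ha ha1 h] at h3; omega
    refine ⟨_, MonoidHom.normal_ker _, MonoidHom.ker_transferSylow_isComplement' P ?_⟩
    intro n hn
    rw [Subgroup.mem_centralizer_iff]
    intro x hx
    by_cases hx1 : x = 1
    · rw [hx1, one_mul, mul_one]
    have hxn : x = n * x * n⁻¹ := h x hx _ ((Subgroup.mem_normalizer_iff.1 hn x).1 hx) hx1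
      (isConj_iff.2 ⟨n, rfl⟩)
    exact (mul_inv_eq_iff_eq_mul.1 hxn.symm).symm
  · rintro ⟨N, hN, hc⟩
    refine Involution.card_classes_of_none_conj P fun a ha b hb _ hab => ?_
    obtain ⟨g, hg⟩ := isConj_iff.1 hab
    obtain ⟨⟨⟨m, hm⟩, ⟨q, hq⟩⟩, hmq⟩ := hc.2 g
    simp only at hmq
    have hb' : m * a * m⁻¹ = b := by
      rw [← hg, ← hmq]
      calc m * a * m⁻¹ = m * (q * a * q⁻¹) * m⁻¹ := by
            rw [Involution.klein_mul_comm P hq ha, mul_inv_cancel_right]
        _ = m * q * a * (m * q)⁻¹ := by group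
    have h1 : a⁻¹ * b ∈ N ⊓ (P : Subgroup G) := by
      refine ⟨?_, (P : Subgroup G).mul_mem ((P : Subgroup G).inv_mem ha) hb⟩
      rw [← hb', show a⁻¹ * (m * a * m⁻¹) = a⁻¹ * m * a⁻¹⁻¹ * m⁻¹ by group]
      exact N.mul_mem (hN.conj_mem m hm a⁻¹) (N.inv_mem hm)
    rw [hc.disjoint.eq_bot, Subgroup.mem_bot, inv_mul_eq_one] at h1
    exact h1

end Cfsg.Agent.S0203
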