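import Cfsg.Statements.S4018
import Cfsg.Agent.EqLemmas
import Cfsg.Agent.S3282
import Cfsg.Agent.S0202
import Cfsg.Agent.S0203
import Cfsg.Agent.Lib.BSW.Basic
import Cfsg.Agent.Lib.Frobenius.Complement
import Mathlib.GroupTheory.Transfer

set_option autoImplicit false
open Cfsg

namespace Cfsg.Agent.S4018

/-- Let G be a finite group with an abelian Sylow 3-subgroup P such that the normalizer of P has order 4·#P, the centralizer C of P has order 2·#P, C meets each of its conjugates by elements outside its normalizer trivially, and every proper subgroup of G of even order has order dividing 4·#P. Then G is not simple. -/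
theorem result {G : Type*} [Group G] [Finite G]
    (P : Sylow 3 G) (hab : IsMulCommutative P)
    (hN : Nat.card (Subgroup.normalizer ((P : Subgroup G) : Set G)) = 4 * Nat.card P)
    (hC : Nat.card (Subgroup.centralizer (P : Set G)) = 2 * Nat.card P)
    (hTI : Cfsg.IsTISubset (Subgroup.centralizer (P : Set G) : Set G))
    (heven : ∀ H : Subgroup G, H ≠ ⊤ → 2 ∣ Nat.card H → Nat.card H ∣ 4 * Nat.card P) :
    ¬ IsSimpleGroup G := by
  classical
  intro hsimple
  haveI := hsimple
  haveI : Nontrivial G := hsimple.toNontrivial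
  haveI h3 : Fact (Nat.Prime 3) := ⟨Nat.prime_three⟩
  haveI h2f : Fact (Nat.Prime 2) := ⟨Nat.prime_two⟩
  set m := Nat.card P with hm
  obtain ⟨a, ha⟩ := P.isPGroup'.exists_card_eq
  have hmpos : 0 < m := Nat.card_pos
  have hcop : Nat.Coprime 2 m := by rw [hm, ha]; exact Nat.Coprime.pow_right a (by norm_num)
  have h4G : 4 * m ∣ Nat.card G := hN ▸ Subgroup.card_subgroup_dvd_card _
  set C := Subgroup.centralizer (P : Set G) with hCdef
  have hCtop : C ≠ ⊤ := fun h => by
    rw [h, Subgroup.card_top] at hC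
    have := Nat.le_of_dvd Nat.card_pos h4G
    omega
  have hPC : (P : Subgroup G) ≤ C := fun x hx => Subgroup.mem_centralizer_iff.2 fun y hy =>
    congrArg Subtype.val (hab.is_comm.comm ⟨y, hy⟩ ⟨x, hx⟩)
  -- an involution of `C`
  obtain ⟨⟨t, htC⟩, ht'⟩ := exists_prime_orderOf_dvd_card' (G := C) 2 (hC ▸ dvd_mul_right 2 m)
  have ht : orderOf t = 2 := by rw [← ht', ← Subgroup.orderOf_coe]
  -- Sylow 2-subgroups
  obtain ⟨S₀⟩ := (inferInstance : Nonempty (Sylow 2 G))
  have h2G : 2 ∣ Nat.card G := (dvd_mul_of_dvd_left (by norm_num) m).trans h4G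
  have hm3 : 3 ∣ m := by
    rcases Nat.eq_zero_or_pos a with h | h
    · exfalso
      apply hCtop
      rw [eq_top_iff]
      intro x _
      rw [hCdef, Subgroup.mem_centralizer_iff]
      intro y hy
      have h1 : (P : Subgroup G) = ⊥ := Subgroup.eq_bot_of_card_eq _ (ha.trans (by rw [h, pow_zero]))
      rw [Subgroup.mem_bot.1 ((SetLike.ext_iff.1 h1 y).1 hy), one_mul, mul_one]
    · rw [hm, ha]; exact dvd_pow_self 3 h.ne'
  have hm3' : 3 ≤ m := Nat.le_of_dvd hmpos hm3
  have hScard : ∀ S : Sylow 2 G, Nat.card (S : Subgroup G) = 4 := by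
    intro S
    have h4 : 4 ∣ Nat.card (S : Subgroup G) := by
      rw [Sylow.card_eq_multiplicity, show (4 : ℕ) = 2 ^ 2 by rfl]
      exact pow_dvd_pow 2 ((Nat.Prime.pow_dvd_iff_le_factorization Nat.prime_two Nat.card_pos.ne').1
        ((dvd_mul_right 4 m).trans h4G))
    by_cases htop : (S : Subgroup G) = ⊤
    · obtain ⟨b, hb⟩ := S.isPGroup'.exists_card_eq
      rw [htop, Subgroup.card_top] at hb
      exfalso
      have h5 : 3 ∣ 2 ^ b := hb ▸ (hm3.trans (dvd_mul_left m 4)).trans h4G
      have := (Nat.prime_dvd_prime_iff_eq Nat.prime_three Nat.prime_two).1 (Nat.prime_three.dvd_of_dvd_pow h5)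
      omega
    · have hd := heven _ htop ((dvd_mul_of_dvd_left (by norm_num : 2 ∣ 2) 2).trans h4)
      obtain ⟨b, hb⟩ := S.isPGroup'.exists_card_eq
      refine Nat.dvd_antisymm ?_ h4
      rw [hb] at hd ⊢
      exact (Nat.Coprime.pow_left b hcop).dvd_of_dvd_mul_right hd
  have hK4 : IsKleinFour (S₀ : Subgroup G) := by
    have hnc : ¬ IsCyclic (S₀ : Subgroup G) := fun hc => by
      have hmin : (Nat.card G).minFac = 2 := (Nat.minFac_eq_two_iff _).2 h2G
      have hcomp := MonoidHom.ker_transferSylow_isComplement' S₀ (IsCyclic.normalizer_le_centralizer hmin hc)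
      rcases hsimple.eq_bot_or_eq_top_of_normal _ (MonoidHom.normal_ker
        (MonoidHom.transferSylow S₀ (IsCyclic.normalizer_le_centralizer hmin hc))) with h | h
      · have h1 := hcomp.card_mul_card
        rw [h, Subgroup.card_bot, one_mul, hScard S₀] at h1
        have := Nat.le_of_dvd Nat.card_pos h4G
        omega
      · have h1 := hcomp.card_mul_card
        rw [h, Subgroup.card_top, hScard S₀] at h1
        have := Nat.card_pos (α := G)
        omega
    refine { card_four := hScard S₀, exponent_two := ?_ }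
    have h1 : ∀ x : (S₀ : Subgroup G), x ^ 2 = 1 := fun x => by
      have h4x := orderOf_dvd_natCard x
      rw [hScard S₀, show (4 : ℕ) = 2 ^ 2 by rfl] at h4x
      obtain ⟨k, hk, hk'⟩ := (Nat.dvd_prime_pow Nat.prime_two).1 h4x
      rcases Nat.lt_or_ge k 2 with h | h
      · refine orderOf_dvd_iff_pow_eq_one.1 ?_
        rw [hk']
        exact (pow_dvd_pow 2 (by omega : k ≤ 1)).trans (pow_one 2).dvd
      · exfalso
        refine hnc (isCyclic_of_orderOf_eq_card x ?_)
        rw [hk', show k = 2 by omega, hScard S₀]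
        rfl
    haveI : Nontrivial (S₀ : Subgroup G) := Finite.one_lt_card_iff_nontrivial.1 (by rw [hScard S₀]; norm_num)
    obtain ⟨x, hx⟩ := exists_ne (1 : (S₀ : Subgroup G))
    have hx2 := orderOf_eq_prime (h1 x) hx
    refine Nat.dvd_antisymm (Monoid.exponent_dvd_of_forall_pow_eq_one h1) ?_
    exact (dvd_of_eq hx2.symm).trans (Monoid.order_dvd_exponent x)
  have hone : ∀ x y : G, orderOf x = 2 → orderOf y = 2 → IsConj x y := by
    rcases Cfsg.Agent.S0202.result S₀ hK4 with h | h
    · intro x y hx hy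
      obtain ⟨hsub, -⟩ := Nat.card_eq_one_iff_unique.1 h
      exact ConjClasses.mk_eq_mk_iff_isConj.1
        (congrArg Subtype.val (hsub.elim ⟨_, x, hx, rfl⟩ ⟨_, y, hy, rfl⟩))
    · obtain ⟨N, hNn, hNc⟩ := (Cfsg.Agent.S0203.result S₀ hK4).1 h
      exfalso
      have h1 := hNc.card_mul_card
      rw [hScard S₀] at h1
      rcases hsimple.eq_bot_or_eq_top_of_normal _ hNn with h2 | h2
      · rw [h2, Subgroup.card_bot, one_mul] at h1
        have := Nat.le_of_dvd Nat.card_pos h4G
        omega
      · rw [h2, Subgroup.card_top] at h1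
        have := Nat.card_pos (α := G)
        omega
  -- the centraliser of `t`
  set H := Subgroup.centralizer ({t} : Set G) with hHdef
  have hCab : ∀ x ∈ C, ∀ y ∈ C, x * y = y * x := by
    intro x hx y hy
    have hidx : ((P : Subgroup G).subgroupOf C).index = 2 := by
      have h1 := ((P : Subgroup G).subgroupOf C).card_mul_index
      rw [Nat.card_congr (Subgroup.subgroupOfEquivOfLe hPC).toEquiv, hC, ← hm, mul_comm 2] at h1
      exact Nat.eq_of_mul_eq_mul_left hmpos h1
    have htP : t ∉ (P : Subgroup G) := fun h => by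
      have h1 := orderOf_dvd_natCard (⟨t, h⟩ : (P : Subgroup G))
      rw [← Subgroup.orderOf_coe, ht, ← hm] at h1
      have := Nat.Coprime.eq_one_of_dvd hcop h1
      omega
    have key : ∀ z ∈ C, z ∈ (P : Subgroup G) ∨ z * t ∈ (P : Subgroup G) := fun z hz => by
      by_contra hh
      push Not at hh
      exact hh.2 ((Subgroup.mul_mem_iff_of_index_two hidx (a := (⟨z, hz⟩ : C)) (b := ⟨t, htC⟩)).2
        (iff_of_false hh.1 htP))
    have hct : ∀ z ∈ C, ∀ u ∈ (P : Subgroup G), z * u = u * z := fun z hz u hu =>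
      (Subgroup.mem_centralizer_iff.1 hz u hu).symm
    rcases key x hx with h | h
    · exact (hct y hy x h).symm
    rcases key y hy with h' | h'
    · exact hct x hx y h'
    · have htt : t * t = 1 := by rw [← pow_two, ← ht, pow_orderOf_eq_one]
      have e : ∀ z : G, z = z * t * t := fun z => by rw [mul_assoc, htt, mul_one]
      have c1 := hct t htC _ h
      have c2 := hct t htC _ h'
      have c3 := hct (x * t) (C.mul_mem hx htC) _ h'
      rw [e x, e y]
      calc x * t * t * (y * t * t) = x * t * ((t * (y * t)) * t) := by simp only [mul_assoc]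
        _ = x * t * ((y * t * t) * t) := by rw [c2]
        _ = (x * t * (y * t)) * (t * t) := by simp only [mul_assoc]
        _ = (y * t * (x * t)) * (t * t) := by rw [c3]
        _ = y * t * ((x * t * t) * t) := by simp only [mul_assoc]
        _ = y * t * ((t * (x * t)) * t) := by rw [c1]
        _ = y * t * t * (x * t * t) := by simp only [mul_assoc]
  have hCH : C ≤ H := fun x hx => Subgroup.mem_centralizer_singleton_iff.2 (hCab x hx t htC)
  have hHtop : H ≠ ⊤ := fun h => by
    have hz : t ∈ Subgroup.center G := Subgroup.mem_center_iff.2 fun g =>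
      Subgroup.mem_centralizer_singleton_iff.1 (show g ∈ H from h ▸ Subgroup.mem_top g)
    rcases hsimple.eq_bot_or_eq_top_of_normal (Subgroup.center G) inferInstance with h1 | h1
    · rw [h1, Subgroup.mem_bot] at hz
      rw [hz, orderOf_one] at ht
      omega
    · apply hCtop
      rw [eq_top_iff]
      intro x _
      rw [hCdef, Subgroup.mem_centralizer_iff]
      intro y _
      exact (Subgroup.mem_center_iff.1 (h1 ▸ Subgroup.mem_top y) x).symm
  have hHcard : Nat.card H = 4 * m := by
    refine Nat.dvd_antisymm (heven H hHtop ((hC ▸ dvd_mul_right 2 m).trans (Subgroup.card_dvd_of_le hCH))) ?_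
    obtain ⟨S, hS⟩ := (IsPGroup.of_card (G := Subgroup.zpowers t) (p := 2) (n := 1)
      (by rw [Nat.card_zpowers, ht, pow_one])).exists_le_sylow
    have hSab : ∀ u v : (S : Subgroup G), u * v = v * u := by
      haveI := IsPGroup.isMulCommutative_of_card_eq_prime_sq (p := 2) (G := (S : Subgroup G)) (by rw [hScard S]; rfl)
      exact fun u v => IsMulCommutative.is_comm.comm u v
    have hSH : (S : Subgroup G) ≤ H := fun u hu => Subgroup.mem_centralizer_singleton_iff.2
      (congrArg Subtype.val (hSab ⟨u, hu⟩ ⟨t, hS (Subgroup.mem_zpowers t)⟩))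
    have h4H : 4 ∣ Nat.card H := hScard S ▸ Subgroup.card_dvd_of_le hSH
    have hmH : m ∣ Nat.card H := (hC ▸ dvd_mul_left m 2 : m ∣ Nat.card C).trans (Subgroup.card_dvd_of_le hCH)
    exact Nat.Coprime.mul_dvd_of_dvd_of_dvd (Nat.Coprime.pow_left 2 hcop) h4H hmH
  have hidx : (C.subgroupOf H).index = 2 := by
    have h1 := (C.subgroupOf H).card_mul_index
    rw [Nat.card_congr (Subgroup.subgroupOfEquivOfLe hCH).toEquiv, hHcard, hC] at h1
    exact Nat.eq_of_mul_eq_mul_left (by omega : 0 < 2 * m) (h1.trans (by ring))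
  have hnormC : ∀ g : G, g ∈ Subgroup.normalizer (C : Set G) ↔ g ∈ Subgroup.normalizer ((P : Subgroup G) : Set G) := by
    have hPchar : ∀ g : G, ∀ x ∈ (P : Subgroup G), g * x * g⁻¹ ∈ C → g * x * g⁻¹ ∈ (P : Subgroup G) := by
      intro g x hx hgx
      have hpow : IsPGroup 3 (Subgroup.zpowers (g * x * g⁻¹)) := by
        obtain ⟨k, -, hk⟩ := (Nat.dvd_prime_pow Nat.prime_three).1
          (ha ▸ Subgroup.orderOf_coe (⟨x, hx⟩ : (P : Subgroup G)) ▸ orderOf_dvd_natCard _ : orderOf x ∣ 3 ^ a)
        refine IsPGroup.of_card (n := k) ?_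
        rw [Nat.card_zpowers, ← MulAut.conj_apply, MulEquiv.orderOf_eq, hk]
      have hn : Subgroup.zpowers (g * x * g⁻¹) ≤ Subgroup.normalizer ((P : Subgroup G) : Set G) :=
        (Subgroup.zpowers_le.2 hgx).trans (Subgroup.centralizer_le_normalizer _)
      exact (P.3 (IsPGroup.to_sup_of_normal_right' hpow P.isPGroup' hn) le_sup_right).le
        (Subgroup.mem_sup_left (Subgroup.mem_zpowers _))
    intro g
    constructor
    · intro hg
      rw [Subgroup.mem_normalizer_iff]
      intro x
      refine ⟨fun hx => hPchar g x hx ((Subgroup.mem_normalizer_iff.1 hg x).1 (hPC hx)), fun hx => ?_⟩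
      have h1 := (Subgroup.mem_normalizer_iff.1 hg x).2 (hPC hx)
      have h2 := hPchar g⁻¹ (g * x * g⁻¹) hx (by simpa [mul_assoc] using h1)
      simpa [mul_assoc] using h2
    · intro hg
      rw [Subgroup.mem_normalizer_iff]
      intro x
      have key : ∀ g ∈ Subgroup.normalizer ((P : Subgroup G) : Set G), ∀ x ∈ C, g * x * g⁻¹ ∈ C := by
        intro g hg x hx
        rw [hCdef, Subgroup.mem_centralizer_iff]
        intro y hy
        have h1 : g⁻¹ * y * g⁻¹⁻¹ ∈ (P : Subgroup G) := (Subgroup.mem_normalizer_iff.1 (Subgroup.inv_mem _ hg) y).1 hy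
        have h2 := Subgroup.mem_centralizer_iff.1 hx _ h1
        rw [inv_inv] at h2
        calc y * (g * x * g⁻¹) = g * ((g⁻¹ * y * g) * x) * g⁻¹ := by group
          _ = g * (x * (g⁻¹ * y * g)) * g⁻¹ := by rw [h2]
          _ = g * x * g⁻¹ * y := by group
      refine ⟨key g hg x, fun hx => ?_⟩
      simpa [mul_assoc] using key g⁻¹ (Subgroup.inv_mem _ hg) _ hx
  have hHN : H = Subgroup.normalizer ((P : Subgroup G) : Set G) := by
    refine Subgroup.eq_of_le_of_card_ge (fun g hg => (hnormC g).1 ?_) (by rw [hHcard, hN])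
    haveI := Subgroup.normal_of_index_eq_two hidx
    have hle : H ≤ Subgroup.normalizer (C : Set G) := (Subgroup.normal_subgroupOf_iff_le_normalizer hCH).1 ‹_›
    exact hle hg
  have hNC : ∀ g : G, g ∈ Subgroup.normalizer (C : Set G) ↔ g ∈ H := fun g => by rw [hnormC, hHN]
  -- an involution `s` of `H` outside `C`
  have htt : t * t = 1 := by rw [← pow_two, ← ht, pow_orderOf_eq_one]
  obtain ⟨s, hsH, hs, hsC⟩ : ∃ s ∈ H, orderOf s = 2 ∧ s ∉ C := by
    obtain ⟨S, hS⟩ := (IsPGroup.of_card (G := Subgroup.zpowers t) (p := 2) (n := 1)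
      (by rw [Nat.card_zpowers, ht, pow_one])).exists_le_sylow
    haveI := IsPGroup.isMulCommutative_of_card_eq_prime_sq (p := 2) (G := (S : Subgroup G)) (by rw [hScard S]; rfl)
    have hSH : (S : Subgroup G) ≤ H := fun u hu => Subgroup.mem_centralizer_singleton_iff.2
      (congrArg Subtype.val (IsMulCommutative.is_comm.comm (⟨u, hu⟩ : (S : Subgroup G)) ⟨t, hS (Subgroup.mem_zpowers t)⟩))
    have hnle : ¬ (S : Subgroup G) ≤ C := fun h => by
      have h4 := Subgroup.card_dvd_of_le h
      rw [hScard S, hC] at h4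
      have h5 : 2 ∣ m := (Nat.mul_dvd_mul_iff_left two_pos).1 h4
      have := hcop.eq_one_of_dvd h5
      omega
    obtain ⟨s, hsS, hsC⟩ := SetLike.not_le_iff_exists.1 hnle
    obtain ⟨e₀⟩ : Nonempty ((S₀ : Subgroup G) ≃* (S : Subgroup G)) := ⟨S₀.equiv S⟩
    refine ⟨s, hSH hsS, ?_, hsC⟩
    haveI := hK4
    refine orderOf_eq_prime ?_ fun h => hsC (h ▸ C.one_mem)
    have h1 := Monoid.pow_exponent_eq_one (e₀.symm ⟨s, hsS⟩)
    rw [hK4.exponent_two] at h1
    rw [← map_pow, MulEquiv.map_eq_one_iff] at h1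
    exact congrArg Subtype.val h1
  have hss : s * s = 1 := by rw [← pow_two, ← hs, pow_orderOf_eq_one]
  have hcard2 : ∀ z ∈ (P : Subgroup G), z * z = 1 → z = 1 := fun z hz hzz => by
    have h1 := orderOf_dvd_natCard (⟨z, hz⟩ : (P : Subgroup G))
    rw [← Subgroup.orderOf_coe, ← hm] at h1
    have h2 : orderOf z ∣ 2 := orderOf_dvd_of_pow_eq_one (by rw [pow_two, hzz])
    exact orderOf_eq_one_iff.1 (Nat.dvd_one.1 (hcop.gcd_eq_one ▸ Nat.dvd_gcd h2 h1))
  have hsP : ∀ x ∈ (P : Subgroup G), s * x * s⁻¹ ∈ (P : Subgroup G) := fun x hx =>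
    (Subgroup.mem_normalizer_iff.1 (hHN ▸ hsH) x).1 hx
  have hfree : ∀ x ∈ (P : Subgroup G), s * x = x * s → x = 1 := by
    intro x hx hsx
    by_contra hx1
    obtain ⟨g, hg⟩ := isConj_iff.1 (hone t s ht hs)
    -- `C(s)` is the conjugate of `H`
    have hxs : g⁻¹ * x * g ∈ H := Subgroup.mem_centralizer_singleton_iff.2 (by
      rw [← hg] at hsx
      calc g⁻¹ * x * g * t = g⁻¹ * (x * (g * t * g⁻¹)) * g := by group
        _ = g⁻¹ * ((g * t * g⁻¹) * x) * g := by rw [← hsx]
        _ = t * (g⁻¹ * x * g) := by group)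
    have hxP : g⁻¹ * x * g ∈ (P : Subgroup G) := by
      have hp : IsPGroup 3 (Subgroup.zpowers (g⁻¹ * x * g)) := by
        obtain ⟨k, -, hk⟩ := (Nat.dvd_prime_pow Nat.prime_three).1
          (ha ▸ Subgroup.orderOf_coe (⟨x, hx⟩ : (P : Subgroup G)) ▸ orderOf_dvd_natCard _ : orderOf x ∣ 3 ^ a)
        refine IsPGroup.of_card (n := k) ?_
        rw [Nat.card_zpowers, show g⁻¹ * x * g = MulAut.conj g⁻¹ x by simp, MulEquiv.orderOf_eq, hk]
      exact (P.3 (IsPGroup.to_sup_of_normal_right' hp P.isPGroup' (Subgroup.zpowers_le.2 (hHN ▸ hxs)))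
        le_sup_right).le (Subgroup.mem_sup_left (Subgroup.mem_zpowers _))
    by_cases hgn : g⁻¹ ∈ Subgroup.normalizer (C : Set G)
    · have hgH : g ∈ H := by
        have := (hNC _).1 hgn
        simpa using this
      apply hsC
      rw [← hg]
      exact (Subgroup.mem_normalizer_iff.1 ((hNC g).2 hgH) t).1 htC
    · have h1 := hTI g⁻¹ hgn x (hPC hx) (by rw [inv_inv]; exact hPC hxP)
      exact hx1 h1
  obtain ⟨hinvP, -⟩ := BSW.inverts_of_free (P : Subgroup G) hss hsP hfree
  have hst : s * t * s⁻¹ = t := by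
    rw [mul_inv_eq_iff_eq_mul]
    exact Subgroup.mem_centralizer_singleton_iff.1 hsH
  have hdec : ∀ x ∈ C, x ∈ (P : Subgroup G) ∨ x * t ∈ (P : Subgroup G) := by
    intro x hx
    have hidx' : ((P : Subgroup G).subgroupOf C).index = 2 := by
      have h1 := ((P : Subgroup G).subgroupOf C).card_mul_index
      rw [Nat.card_congr (Subgroup.subgroupOfEquivOfLe hPC).toEquiv, hC, ← hm, mul_comm 2] at h1
      exact Nat.eq_of_mul_eq_mul_left hmpos h1
    have htP : t ∉ (P : Subgroup G) := fun h => by
      have := hcard2 t h htt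
      rw [this, orderOf_one] at ht
      omega
    by_contra hh
    push Not at hh
    exact hh.2 ((Subgroup.mul_mem_iff_of_index_two hidx' (a := (⟨x, hx⟩ : C)) (b := ⟨t, htC⟩)).2
      (iff_of_false hh.1 htP))
  have hinv : ∀ x ∈ C, s * x * s⁻¹ = x⁻¹ := by
    intro x hx
    rcases hdec x hx with h | h
    · exact hinvP x h
    · have ht' : t⁻¹ = t := inv_eq_of_mul_eq_one_right htt
      calc s * x * s⁻¹ = (s * (x * t) * s⁻¹) * (s * t * s⁻¹)⁻¹ := by group
        _ = (x * t)⁻¹ * t := by rw [hinvP _ h, hst, ht']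
        _ = t * x⁻¹ * t := by rw [mul_inv_rev, ht']
        _ = x⁻¹ := by rw [(hCab _ (C.inv_mem hx) t htC).symm, mul_assoc, htt, mul_one]
  obtain ⟨Q, D, hord, hQc, hDab, hDQ, -, hNQ, hND⟩ := Cfsg.Agent.S3282.result t ht C
    ⟨⟨fun x y => Subtype.ext (hCab x x.2 y y.2)⟩⟩ hCH htC s hs hsH hsC
    (by
      refine Subgroup.eq_of_le_of_card_ge (sup_le hCH (Subgroup.zpowers_le.2 hsH)) ?_
      have hlt : C < C ⊔ Subgroup.zpowers s := lt_of_le_of_ne le_sup_left fun h =>
        hsC (h ▸ Subgroup.mem_sup_right (Subgroup.mem_zpowers s))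
      obtain ⟨c, hc⟩ := Subgroup.card_dvd_of_le hlt.le
      rcases Nat.lt_or_ge c 2 with h | h
      · exfalso
        refine hlt.ne (Subgroup.eq_of_le_of_card_ge hlt.le ?_)
        rw [hc]
        exact (Nat.mul_le_mul_left _ (by omega : c ≤ 1)).trans (mul_one _).le
      · rw [hc, hHcard, hC]
        nlinarith)
    (by
      refine le_antisymm ?_ (Subgroup.zpowers_le.2 ⟨htC, Subgroup.mem_centralizer_singleton_iff.2
        (Subgroup.mem_centralizer_singleton_iff.1 hsH).symm⟩)
      rintro x ⟨hx, hxs⟩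
      have hc : s * x = x * s := (Subgroup.mem_centralizer_singleton_iff.1 hxs).symm
      rcases hdec x hx with h | h
      · rw [hfree x h hc]; exact Subgroup.one_mem _
      · have hst' : s * t = t * s := Subgroup.mem_centralizer_singleton_iff.1 hsH
        have h1 := hfree _ h (by rw [← mul_assoc, hc, mul_assoc, hst', ← mul_assoc])
        rw [mul_eq_one_iff_eq_inv] at h1
        rw [h1]
        exact Subgroup.inv_mem _ (Subgroup.mem_zpowers t))
    hinv
    (by
      intro g hg
      rw [eq_bot_iff]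
      rintro y ⟨hy, x, hx, hxy⟩
      have hxy' : g * x * g⁻¹ = y := hxy
      have := hTI g (fun h => hg ((hNC g).1 h)) x hx (by rw [hxy']; exact hy)
      rw [← hxy', this]
      simp)
    hone
  set q := Nat.card Q with hqdef
  set d := Nat.card D with hddef
  have hqodd : q = 2 * d + 1 := hDQ.symm
  have hd0 : 0 < d := Nat.card_pos
  rcases Nat.eq_or_lt_of_le hd0 with hd1 | hd1
  · -- order 12
    have hq3 : q = 3 := by omega
    rw [hq3] at hord
    norm_num at hord
    have hG : Nat.card G = 12 := by omega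
    · have h4 : m = 3 := by
        have h6 := Nat.le_of_dvd Nat.card_pos h4G
        omega
      have htop : Subgroup.normalizer ((P : Subgroup G) : Set G) = ⊤ :=
        Subgroup.eq_top_of_card_eq _ (by rw [hN, h4, hG])
      rcases hsimple.eq_bot_or_eq_top_of_normal _ (Subgroup.normalizer_eq_top_iff.1 htop) with h | h
      · rw [hm, h, Subgroup.card_bot] at h4
        omega
      · rw [hm, h, Subgroup.card_top, hG] at h4
        omega
  · haveI : Nontrivial D := Finite.one_lt_card_iff_nontrivial.1 hd1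
    obtain ⟨hND1, u, hu, huD, huinv, hNDu⟩ := hND D le_rfl (fun h => by
      rw [hddef, h, Subgroup.card_bot] at hd1; omega)
    set ND := Subgroup.normalizer (D : Set G)
    have huN : u ∈ ND := hNDu ▸ Subgroup.mem_sup_right (Subgroup.mem_zpowers u)
    have hNDtop : ND ≠ ⊤ := fun h => by
      rcases hsimple.eq_bot_or_eq_top_of_normal _ (Subgroup.normalizer_eq_top_iff.1 h) with h' | h'
      · rw [hddef, h', Subgroup.card_bot] at hd1; omega
      · exact huD (h' ▸ Subgroup.mem_top u)
    have hidxD : Nat.card ND = 2 * d := by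
      have hnorm : Subgroup.zpowers u ≤ Subgroup.normalizer (D : Set G) := Subgroup.zpowers_le.2 huN
      have hdis : D ⊓ Subgroup.zpowers u = ⊥ := by
        rw [eq_bot_iff]
        rintro x ⟨hx, hx'⟩
        rw [Subgroup.mem_bot]
        by_contra hx1
        have h5 : orderOf x ∣ 2 := by
          obtain ⟨i, rfl⟩ := Subgroup.mem_zpowers_iff.1 hx'
          rw [← hu]
          exact orderOf_dvd_of_mem_zpowers (Subgroup.mem_zpowers_iff.2 ⟨i, rfl⟩)
        have h6 : orderOf x = 2 := ((Nat.dvd_prime Nat.prime_two).1 h5).resolve_left fun h => hx1 (orderOf_eq_one_iff.1 h)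
        refine huD ?_
        have h7 : Subgroup.zpowers x = Subgroup.zpowers u :=
          Subgroup.eq_of_le_of_card_ge (Subgroup.zpowers_le.2 hx') (by rw [Nat.card_zpowers, Nat.card_zpowers, h6, hu])
        exact Subgroup.zpowers_le.1 (h7.symm.le.trans (Subgroup.zpowers_le.2 hx))
      rw [hNDu, sup_comm, Cfsg.Agent.Frobenius.card_sup_of_disjoint hnorm (disjoint_iff.2 (by rw [inf_comm]; exact hdis)),
        Nat.card_zpowers, hu]
    have hdvd : 2 * d ∣ 4 * m := hidxD ▸ heven ND hNDtop (hidxD ▸ dvd_mul_right 2 d)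
    by_cases hd2 : 2 ∣ d
    · obtain ⟨⟨v, hvD⟩, hv⟩ := exists_prime_orderOf_dvd_card' (G := D) 2 hd2
      have hv : orderOf v = 2 := by rw [← hv]; exact Subgroup.orderOf_coe ⟨v, hvD⟩
      obtain ⟨hNv, -⟩ := hND (Subgroup.zpowers v) (Subgroup.zpowers_le.2 hvD) (by
        intro h
        rw [Subgroup.zpowers_eq_bot] at h
        rw [h, orderOf_one] at hv; omega)
      obtain ⟨g, hg⟩ := isConj_iff.1 (hone t v ht hv)
      have hCv : Nat.card (Subgroup.centralizer ({v} : Set G)) = 4 * m := by
        rw [← hg, BSW.card_cent_conj]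
        exact hHcard
      have h5 : Nat.card (Subgroup.centralizer ({v} : Set G)) ≤ Nat.card ND := by
        refine Subgroup.card_le_of_le (le_trans ?_ hNv.le)
        rw [← Subgroup.centralizer_closure, ← Subgroup.zpowers_eq_closure]
        exact Subgroup.centralizer_le_normalizer _
      rw [hCv, hidxD] at h5
      have h6 := Nat.le_of_dvd (by omega) hdvd
      -- `N(Q)` is even and too large
      set NQ := Subgroup.normalizer (Q : Set G)
      have hQtop : Q ≠ ⊤ := fun h => by
        rw [hqdef, h, Subgroup.card_top] at hord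
        have h2G' := h2G
        rw [show Nat.card G = q by rw [hqdef, h, Subgroup.card_top]] at h2G'
        omega
      have hNQtop : NQ ≠ ⊤ := fun h => by
        rcases hsimple.eq_bot_or_eq_top_of_normal _ (Subgroup.normalizer_eq_top_iff.1 h) with h' | h'
        · rw [hqdef, h', Subgroup.card_bot] at hqodd; omega
        · exact hQtop h'
      have hDNQ : D ≤ NQ := hNQ ▸ le_sup_right
      have h7 := heven NQ hNQtop (hd2.trans (Subgroup.card_dvd_of_le hDNQ))
      have hqd : q ∣ 4 * m := (Subgroup.card_dvd_of_le (Subgroup.le_normalizer (H := Q))).trans h7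
      have h8 : q ∣ 2 * d := by
        have : 4 * m = 2 * d := by omega
        rwa [this] at hqd
      have := Nat.le_of_dvd (by omega) h8
      omega
    · have hdm : d ∣ m := by
        have h5 : d ∣ 2 * m := by
          have : 2 * d ∣ 2 * (2 * m) := by rwa [← mul_assoc]
          exact (Nat.mul_dvd_mul_iff_left two_pos).1 this
        exact (Nat.Coprime.symm ((Nat.Prime.coprime_iff_not_dvd Nat.prime_two).2 hd2)).dvd_of_dvd_mul_left h5
      obtain ⟨k, hk, hk'⟩ := (Nat.dvd_prime_pow Nat.prime_three).1 (ha ▸ hdm : d ∣ 3 ^ a)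
      have h3d : 3 ∣ d := hk' ▸ dvd_pow_self 3 (by rintro rfl; rw [pow_zero] at hk'; omega)
      obtain ⟨⟨y, hyD⟩, hy⟩ := exists_prime_orderOf_dvd_card' (G := D) 3 h3d
      have hy : orderOf y = 3 := by rw [← hy]; exact Subgroup.orderOf_coe ⟨y, hyD⟩
      obtain ⟨hNy, -⟩ := hND (Subgroup.zpowers y) (Subgroup.zpowers_le.2 hyD) (by
        intro h
        rw [Subgroup.zpowers_eq_bot] at h
        rw [h, orderOf_one] at hy; omega)
      obtain ⟨T, hT⟩ := (IsPGroup.of_card (G := Subgroup.zpowers y) (p := 3) (n := 1)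
        (by rw [Nat.card_zpowers, hy, pow_one])).exists_le_sylow
      obtain ⟨g, hg⟩ := MulAction.exists_smul_eq G P T
      have hyT : y ∈ ((g • P : Sylow 3 G) : Subgroup G) := by rw [hg]; exact hT (Subgroup.mem_zpowers y)
      rw [Sylow.coe_subgroup_smul, Subgroup.mem_pointwise_smul_iff_inv_smul_mem] at hyT
      have hcy : MulAut.conj g t ∈ Subgroup.centralizer ({y} : Set G) := by
        rw [Subgroup.mem_centralizer_singleton_iff]
        have := congrArg (MulAut.conj g) (hCab t htC _ (hPC hyT))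
        rw [map_mul, map_mul, MulAut.smul_def, MulAut.apply_inv_self] at this
        exact this
      have hcN : MulAut.conj g t ∈ ND := hNy.le (by
        have h9 : Subgroup.centralizer ({y} : Set G) ≤ Subgroup.normalizer (Subgroup.zpowers y : Set G) := by
          rw [← Subgroup.centralizer_closure, ← Subgroup.zpowers_eq_closure]
          exact Subgroup.centralizer_le_normalizer _
        exact h9 hcy)
      have hord2 : orderOf (MulAut.conj g t) = 2 := by rw [MulEquiv.orderOf_eq, ht]
      set c := MulAut.conj g t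
      have hDN : D ≤ ND := Subgroup.le_normalizer
      have hidx2 : (D.subgroupOf ND).index = 2 := by
        have h1 := (D.subgroupOf ND).card_mul_index
        rw [Nat.card_congr (Subgroup.subgroupOfEquivOfLe hDN).toEquiv, hidxD, ← hddef, mul_comm 2] at h1
        exact Nat.eq_of_mul_eq_mul_left hd0 h1
      have hcD : c ∉ D := fun h => hd2 (by
        have h1 := orderOf_dvd_natCard (⟨c, h⟩ : D)
        rw [← Subgroup.orderOf_coe, hord2] at h1
        exact h1)
      have hcu : c * u ∈ D := (Subgroup.mul_mem_iff_of_index_two hidx2 (a := (⟨c, hcN⟩ : ND)) (b := ⟨u, huN⟩)).2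
        (iff_of_false hcD huD)
      have huu : u⁻¹ = u := inv_eq_of_mul_eq_one_right (by rw [← pow_two, ← hu, pow_orderOf_eq_one])
      have h1 : c * y * c⁻¹ = y := by
        rw [mul_inv_eq_iff_eq_mul]
        exact Subgroup.mem_centralizer_singleton_iff.1 hcy
      have h2 : c * y * c⁻¹ = y⁻¹ := by
        have e := congrArg Subtype.val (hDab.is_comm.comm (⟨c * u, hcu⟩ : D) ⟨y⁻¹, D.inv_mem hyD⟩)
        simp only [Subgroup.coe_mul] at e
        calc c * y * c⁻¹ = (c * u) * (u⁻¹ * y * u⁻¹⁻¹) * (c * u)⁻¹ := by group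
          _ = (c * u) * y⁻¹ * (c * u)⁻¹ := by rw [huu, huinv y hyD]
          _ = y⁻¹ := by rw [e, mul_inv_cancel_right]
      have h3 : y * y = 1 := by
        have h3 : y = y⁻¹ := h1.symm.trans h2
        nth_rewrite 2 [h3]
        exact mul_inv_cancel y
      have h4 : orderOf y ∣ 2 := orderOf_dvd_of_pow_eq_one (by rw [pow_two, h3])
      rw [hy] at h4
      omega

end Cfsg.Agent.S4018
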