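import Cfsg.Statements.S0948
import Cfsg.Agent.Lib.ZStar.KleinBlock

set_option autoImplicit false
open Cfsg

namespace Cfsg.Agent.S0948

/-- Let the finite group G have a Sylow 2-subgroup P that is a Klein four-group, suppose all involutions of G are conjugate, and fix a maximal ideal M of the algebraic integers containing 2. Then the principal block consists of exactly four irreducible characters, the principal character and ζ₂, ζ₃, ζ₄, and there is a sign ε such that for every involution z: ζ₂ z = 1, ζ₃ z = ε, ζ₄ z = -1; moreover ζ₂ 1 ≡ 1, ζ₃ 1 ≡ ε, ζ₄ 1 ≡ -1 (mod 4), and 1 + ζ₂ y + ε ζ₃ y - ζ₄ y = 0 for every y of odd order. -/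
theorem result {G : Type*} [Group G] [Finite G] (M : Ideal Cfsg.AlgInt) (hM : Cfsg.IsPModular 2 M) (P : Sylow 2 G) (hP : IsKleinFour (P : Subgroup G)) (hone : ∀ s t : G, orderOf s = 2 → orderOf t = 2 → IsConj s t) : ∃ ζ₂ ζ₃ ζ₄ : Cfsg.IrrCharacter G, ∃ ε : ℤ, (ε = 1 ∨ ε = -1) ∧ (ζ₂ : G → ℂ) ≠ (fun _ => 1) ∧ (ζ₃ : G → ℂ) ≠ (fun _ => 1) ∧ ζ₂ ≠ ζ₃ ∧ ζ₂ ≠ ζ₄ ∧ ζ₃ ≠ ζ₄ ∧ Cfsg.principalBlock M G = {χ : Cfsg.IrrCharacter G | (χ : G → ℂ) = (fun _ => 1) ∨ χ = ζ₂ ∨ χ = ζ₃ ∨ χ = ζ₄} ∧ (∀ z : G, orderOf z = 2 → (ζ₂ : G → ℂ) z = 1 ∧ (ζ₃ : G → ℂ) z = (ε : ℂ) ∧ (ζ₄ : G → ℂ) z = -1) ∧ (4 : ℤ) ∣ (Cfsg.charDegree (ζ₂ : G → ℂ) : ℤ) - 1 ∧ (4 : ℤ) ∣ (Cfsg.charDegree (ζ₃ : G → ℂ) : ℤ) - ε ∧ (4 : ℤ) ∣ (Cfsg.charDegree (ζ₄ : G → ℂ) : ℤ) + 1 ∧ ∀ y : G, Odd (orderOf y) → 1 + (ζ₂ : G → ℂ) y + (ε : ℂ) * (ζ₃ : G → ℂ) y - (ζ₄ : G → ℂ) y = 0 := by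
  classical
  haveI : IsKleinFour (P : Subgroup G) := hP
  obtain ⟨s, B, hB, hcard, hunit, hval, hmod, horth⟩ := KleinBlock.signs P hM hone
  set one : IrrCharacter G := ⟨fun _ => 1, Char.isIrrCharacter_one⟩
  have hone' : one ∈ B := (hB one).2 (Blocks.sameBlock_refl hM _)
  have hs1 : s one = 1 := by
    obtain ⟨z₀, hz₀⟩ := (haveI : Fact (Nat.Prime 2) := ⟨Nat.prime_two⟩
      exists_prime_orderOf_dvd_card' (G := (P : Subgroup G)) 2 (by rw [KleinBlock.card_sylow P]; norm_num))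
    have h : (1 : ℂ) = (s one : ℂ) := hval one hone' (z₀ : G) (by rw [Subgroup.orderOf_coe, hz₀])
    exact_mod_cast h.symm
  obtain ⟨a, b, c, hab, hac, hbc, hE⟩ := Finset.card_eq_three.1 (by
    rw [Finset.card_erase_of_mem hone', hcard] : (B.erase one).card = 3)
  have hmemB : ∀ w ∈ ({a, b, c} : Finset (IrrCharacter G)), w ∈ B ∧ w ≠ one := fun w hw => by
    rw [← hE] at hw; exact ⟨(Finset.mem_erase.1 hw).2, (Finset.mem_erase.1 hw).1⟩
  have hsum : ∀ f : IrrCharacter G → ℂ, ∑ χ ∈ B, f χ = f one + (f a + (f b + f c)) := fun f => by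
    rw [← Finset.add_sum_erase B f hone', hE, Finset.sum_insert (by simp [hab, hac]),
      Finset.sum_insert (by simp [hbc]), Finset.sum_singleton]
  obtain ⟨ha, ha1⟩ := hmemB a (by simp)
  obtain ⟨hb, hb1⟩ := hmemB b (by simp)
  obtain ⟨hc, hc1⟩ := hmemB c (by simp)
  have hdeg : (1 : ℤ) + (s a * (charDegree (a : G → ℂ) : ℤ) + (s b * (charDegree (b : G → ℂ) : ℤ)
      + s c * (charDegree (c : G → ℂ) : ℤ))) = 0 := by
    have h := horth 1 (by simp)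
    rw [hsum, ← Blocks.charDegree_cast a, ← Blocks.charDegree_cast b, ← Blocks.charDegree_cast c, hs1,
      show (one : G → ℂ) 1 = 1 from rfl] at h
    push_cast at h
    rw [mul_one] at h
    exact_mod_cast h
  have hpos : ∀ χ : IrrCharacter G, (0 : ℤ) < (charDegree (χ : G → ℂ) : ℤ) := fun χ => by
    exact_mod_cast Blocks.charDegree_pos χ
  suffices key : ∃ i k l : IrrCharacter G, s i = 1 ∧ s l = -1 ∧ i ≠ k ∧ i ≠ l ∧ k ≠ l ∧
      ({i, k, l} : Finset (IrrCharacter G)) = {a, b, c} by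
    obtain ⟨i, k, l, hi, hl, hik, hil, hkl, heq⟩ := key
    obtain ⟨hiB, hi1⟩ := hmemB i (heq ▸ by simp)
    obtain ⟨hkB, hk1⟩ := hmemB k (heq ▸ by simp)
    obtain ⟨hlB, hl1⟩ := hmemB l (heq ▸ by simp)
    refine ⟨i, k, l, s k, hunit k hkB, fun e => hi1 (Subtype.ext e), fun e => hk1 (Subtype.ext e),
      hik, hil, hkl, ?_, fun z hz => ⟨?_, hval k hkB z hz, ?_⟩, ?_, hmod k hkB, ?_, ?_⟩
    · ext χ
      rw [← hB χ]
      show _ ↔ (χ : G → ℂ) = (one : G → ℂ) ∨ _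
      rw [Subtype.coe_inj]
      by_cases e : χ = one
      · simp [e, hone']
      · have : χ ∈ B ↔ χ ∈ ({i, k, l} : Finset (IrrCharacter G)) := by
          rw [heq, ← hE, Finset.mem_erase]; exact ⟨fun h => ⟨e, h⟩, And.right⟩
        rw [this]
        simp [e]
    · rw [hval i hiB z hz, hi]; simp
    · rw [hval l hlB z hz, hl]; simp
    · simpa [hi] using hmod i hiB
    · simpa [hl, sub_neg_eq_add] using hmod l hlB
    · intro y hy
      have h := horth y hy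
      rw [← Finset.add_sum_erase B _ hone', hE, ← heq, Finset.sum_insert (by simp [hik, hil]),
        Finset.sum_insert (by simp [hkl]), Finset.sum_singleton, hi, hl, hs1,
        show (one : G → ℂ) y = 1 from rfl] at h
      push_cast at h
      linear_combination h
  have hd : ∀ χ ∈ B, s χ = -1 → (3 : ℤ) ≤ (charDegree (χ : G → ℂ) : ℤ) := fun χ hχ e => by
    obtain ⟨r, hr⟩ := hmod χ hχ
    rw [e] at hr
    have := hpos χ
    omega
  rcases hunit a ha with ea | ea <;> rcases hunit b hb with eb | eb <;> rcases hunit c hc with ec | ec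
  · exfalso
    rw [ea, eb, ec] at hdeg
    linarith [hpos a, hpos b, hpos c]
  · exact ⟨a, b, c, ea, ec, hab, hac, hbc, rfl⟩
  · exact ⟨a, c, b, ea, eb, hac, hab, hbc.symm, by ext; simp; tauto⟩
  · exact ⟨a, b, c, ea, ec, hab, hac, hbc, rfl⟩
  · exact ⟨b, c, a, eb, ea, hbc, hab.symm, hac.symm, by ext; simp; tauto⟩
  · exact ⟨b, a, c, eb, ec, hab.symm, hbc, hac, by ext; simp; tauto⟩
  · exact ⟨c, b, a, ec, ea, hbc.symm, hac.symm, hab.symm, by ext; simp; tauto⟩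
  · exfalso
    rw [ea, eb, ec] at hdeg
    linarith [hd a ha ea, hd b hb eb, hd c hc ec]

end Cfsg.Agent.S0948
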