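import Cfsg.Statements.S0225
import Cfsg.Agent.EqLemmas
import Cfsg.Agent.Lib.ZStarPrimePower.Proved

set_option autoImplicit false
open Cfsg

namespace Cfsg.Agent.S0225

theorem exists_klein {G : Type*} [Group G] {d t : G} (hd : orderOf d = 2) (ht : orderOf t = 2)
    (hne : d ≠ t) (hcomm : Commute d t) : ∃ E : Subgroup G, IsKleinFour E := by
  classical
  have hdd : d * d = 1 := Cfsg.Agent.Involution.mul_self hd
  have htt : t * t = 1 := Cfsg.Agent.Involution.mul_self ht
  have e1 : t * d = d * t := hcomm.eq.symm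
  have e2 : d * (d * t) = t := by rw [← mul_assoc, hdd, one_mul]
  have e3 : t * (d * t) = d := by rw [← mul_assoc, e1, mul_assoc, htt, mul_one]
  have e4 : d * t * d = t := by rw [mul_assoc, e1, e2]
  have e5 : d * t * t = d := by rw [mul_assoc, htt, mul_one]
  have e6 : d * t * (d * t) = 1 := by rw [mul_assoc, e3, hdd]
  let E : Subgroup G :=
    { carrier := {x | x = 1 ∨ x = d ∨ x = t ∨ x = d * t}
      one_mem' := Or.inl rfl
      mul_mem' := by
        intro a b ha hb
        rcases ha with ha | ha | ha | ha <;> rcases hb with hb | hb | hb | hb <;>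
          simp only [Set.mem_ofPred_eq, ha, hb, one_mul, mul_one, hdd, htt, e1, e2, e3, e4, e5, e6,
            true_or, or_true]
      inv_mem' := by
        intro a ha
        have : a * a = 1 := by rcases ha with ha | ha | ha | ha <;> simp only [ha, one_mul, hdd, htt, e6]
        rwa [inv_eq_of_mul_eq_one_right this] }
  refine ⟨E, ?_, ?_⟩
  · have hd1 : d ≠ 1 := Cfsg.Agent.Involution.ne_one hd
    have ht1 : t ≠ 1 := Cfsg.Agent.Involution.ne_one ht
    have hdt1 : d * t ≠ 1 := fun h => hne (mul_left_cancel (hdd.trans h.symm))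
    have hset : (E : Set G) = (({1, d, t, d * t} : Finset G) : Set G) := by
      ext x; simp [E]
    show Nat.card (E : Set G) = 4
    rw [hset, Nat.card_eq_card_finite_toFinset (Finset.finite_toSet _), Finset.finite_toSet_toFinset]
    exact Finset.card_eq_four.2 ⟨1, d, t, d * t, hd1.symm, ht1.symm, hdt1.symm, hne,
      fun h => ht1 (mul_eq_left.1 h.symm), fun h => hd1 (mul_eq_right.1 h.symm), rfl⟩
  · haveI : Nontrivial E := (Subgroup.nontrivial_iff_exists_ne_one _).2
      ⟨d, Or.inr (Or.inl rfl), Cfsg.Agent.Involution.ne_one hd⟩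
    refine (Monoid.exponent_eq_prime_iff Nat.prime_two).2 fun x hx => ?_
    refine orderOf_eq_prime ?_ hx
    refine Subtype.ext ?_
    rw [Subgroup.coe_pow, pow_two, Subgroup.coe_one]
    rcases x.2 with h | h | h | h <;> simp only [h, one_mul, hdd, htt, e6]

/-- If a finite group G has even order but contains no Klein four-subgroup (2-rank 1), then some involution z of G is central modulo a normal subgroup of odd order: there is a normal subgroup N of odd order containing every commutator z g z⁻¹ g⁻¹. -/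
theorem result {G : Type*} [Group G] [Finite G] (heven : Even (Nat.card G)) (hrank : ∀ E : Subgroup G, ¬ IsKleinFour E) : ∃ z : G, orderOf z = 2 ∧ ∃ N : Subgroup G, N.Normal ∧ Odd (Nat.card N) ∧ ∀ g : G, z * g * z⁻¹ * g⁻¹ ∈ N := by
  haveI : Fact (Nat.Prime 2) := ⟨Nat.prime_two⟩
  obtain ⟨z, hz⟩ := exists_prime_orderOf_dvd_card' (G := G) 2 (even_iff_two_dvd.1 heven)
  obtain ⟨T, hT⟩ := (IsPGroup.of_card (p := 2) (G := Subgroup.zpowers z) (n := 1)
    (by rw [Nat.card_zpowers, hz, pow_one])).exists_le_sylow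
  haveI : Nontrivial (T : Subgroup G) :=
    (Subgroup.nontrivial_iff_exists_ne_one _).2 ⟨z, hT (Subgroup.mem_zpowers z), fun h => by simp [h] at hz⟩
  haveI : Nontrivial (Subgroup.center (T : Subgroup G)) := T.isPGroup'.center_nontrivial
  obtain ⟨k, hk0, hk⟩ := (T.isPGroup'.to_subgroup (Subgroup.center (T : Subgroup G))).nontrivial_iff_card.1
    inferInstance
  obtain ⟨c, hc⟩ := exists_prime_orderOf_dvd_card' (G := Subgroup.center (T : Subgroup G)) 2
    (hk ▸ dvd_pow_self 2 hk0.ne')
  set d : G := ((c : (T : Subgroup G)) : G)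
  have hd : orderOf d = 2 := by
    show orderOf (((c : (T : Subgroup G)) : G)) = 2
    rw [Subgroup.orderOf_coe, Subgroup.orderOf_coe]; exact hc
  have huniq : ∀ t ∈ T, orderOf t = 2 → t = d := by
    intro t ht ht2
    by_contra hne
    obtain ⟨E, hE⟩ := exists_klein hd ht2 (Ne.symm hne)
      (show Commute d t from (congrArg Subtype.val (Subgroup.mem_center_iff.1 c.2 ⟨t, ht⟩)).symm)
    exact hrank E hE
  obtain ⟨N, hN, hodd, hg⟩ := Cfsg.Agent.ZStarPrimePower.uniqueInvolutionZStar_proved G d T hd
    (c : (T : Subgroup G)).2 huniq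
  exact ⟨d, hd, N, hN, hodd, hg⟩

end Cfsg.Agent.S0225
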