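import Cfsg.Statements.S1180
import Cfsg.Agent.Lib.Transfer.Isolated

set_option autoImplicit false
open Cfsg

namespace Cfsg.Agent.S1180

/-- Let z be an isolated involution of the finite group G and H a subgroup containing z. Then every conjugate g z g⁻¹ that lies in H is conjugate to z by an element of H. -/
theorem result {G : Type*} [Group G] [Finite G] (z : G) (hz : Cfsg.IsIsolatedInvolution z) (H : Subgroup G) (hzH : z ∈ H) (g : G) (hg : g * z * g⁻¹ ∈ H) : ∃ h ∈ H, h * z * h⁻¹ = g * z * g⁻¹ := by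
  have := Fact.mk Nat.prime_two
  obtain ⟨n, hn, he⟩ := Isolated.exists_conj_eq_of_mem (p := 2) (x := z) ⟨1, by rw [hz.1, pow_one]⟩ hz.2 hzH hg
  refine ⟨n⁻¹, inv_mem hn, ?_⟩
  calc n⁻¹ * z * n⁻¹⁻¹ = n⁻¹ * (n * (g * z * g⁻¹) * n⁻¹) * n⁻¹⁻¹ := by rw [he]
    _ = _ := by group

end Cfsg.Agent.S1180
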