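import Cfsg.Statements.S1185
import Cfsg.Agent.Lib.Transfer.Isolated

set_option autoImplicit false
open Cfsg

namespace Cfsg.Agent.S1185

/-- Let z be an isolated involution of the finite group G with centralizer C. Then for every g ∈ G there is exactly one element k in the coset gC that has odd order and is inverted by z. -/
theorem result {G : Type*} [Group G] [Finite G] (z : G) (hz : Cfsg.IsIsolatedInvolution z) (g : G) : ∃! k : G, (Odd (orderOf k) ∧ z * k * z⁻¹ = k⁻¹) ∧ g⁻¹ * k ∈ Subgroup.centralizer ({z} : Set G) := by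
  obtain ⟨k, -, hk1, hk2, hk3⟩ := Transfer.exists_root_conj hz g
  refine ⟨k, ⟨⟨hk1, hk2⟩, Subgroup.mem_centralizer_singleton_iff.mpr (mul_inv_eq_iff_eq_mul.mp ?_)⟩, ?_⟩
  · rw [show g⁻¹ * k * z * (g⁻¹ * k)⁻¹ = g⁻¹ * (k * z * k⁻¹) * g by group, hk3]
    group
  · rintro l ⟨⟨hl1, hl2⟩, hl3⟩
    refine Transfer.inverted_unique hl1 hl2 hk1 hk2 ?_
    rw [hk3]
    have h1 : g⁻¹ * l * z * (g⁻¹ * l)⁻¹ = z :=
      mul_inv_eq_iff_eq_mul.mpr (Subgroup.mem_centralizer_singleton_iff.mp hl3)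
    calc l * z * l⁻¹ = g * (g⁻¹ * l * z * (g⁻¹ * l)⁻¹) * g⁻¹ := by group
      _ = g * z * g⁻¹ := by rw [h1]

end Cfsg.Agent.S1185
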