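import Cfsg.Statements.S2118
import Cfsg.Agent.Lib.CoverSixSeven.Alt
import Cfsg.Agent.Lib.GLOrder.Basic
import Cfsg.Agent.S0497

set_option autoImplicit false
set_option linter.style.haveILetI false
open Cfsg

namespace Cfsg.Agent.S2118

open Cfsg.Agent.CoverSixSeven
open scoped commutatorElement
open Matrix

universe u

variable {F : Type u} [Field F] [Fintype F]

theorem perfect_sl (hF : Fintype.card F = 9) : commutator (SpecialLinearGroup (Fin 2) F) = ⊤ := by
  classical
  haveI : Finite F := inferInstance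
  haveI : IsSimpleGroup (ProjectiveSpecialLinearGroup (Fin 2) F) :=
    Matrix.ProjectiveSpecialLinearGroup.rank_two_simple (by rw [Nat.card_eq_fintype_card, hF]; norm_num)
  let S := SpecialLinearGroup (Fin 2) F
  let q : S →* ProjectiveSpecialLinearGroup (Fin 2) F := QuotientGroup.mk' _
  have hps : commutator (ProjectiveSpecialLinearGroup (Fin 2) F) = ⊤ := by
    refine (Subgroup.Normal.eq_bot_or_eq_top inferInstance).resolve_left fun hb => ?_
    haveI : IsMulCommutative (ProjectiveSpecialLinearGroup (Fin 2) F) := ⟨⟨fun a b =>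
      commutatorElement_eq_one_iff_mul_comm.1 (Subgroup.mem_bot.1
        (hb ▸ Subgroup.commutator_mem_commutator (Subgroup.mem_top a) (Subgroup.mem_top b)))⟩⟩
    letI : CommGroup (ProjectiveSpecialLinearGroup (Fin 2) F) :=
      { (inferInstance : Group (ProjectiveSpecialLinearGroup (Fin 2) F)) with
        mul_comm := fun a b => IsMulCommutative.is_comm.comm a b }
    have hp := IsSimpleGroup.prime_card (α := ProjectiveSpecialLinearGroup (Fin 2) F)
    have h2 := GLOrder.card_PSL_two_of_odd (F := F) (by rw [Nat.card_eq_fintype_card, hF]; decide)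
    rw [Nat.card_eq_fintype_card (α := F), hF] at h2
    rw [show Nat.card (ProjectiveSpecialLinearGroup (Fin 2) F) = 360 by omega] at hp
    exact absurd hp (by norm_num)
  obtain ⟨i, hi⟩ : ∃ i : F, i * i = -1 := by
    obtain ⟨i, hi⟩ := FiniteField.isSquare_neg_one_iff.2 (show Fintype.card F % 4 ≠ 3 by rw [hF]; decide)
    exact ⟨i, hi.symm⟩
  let w : Matrix.SpecialLinearGroup (Fin 2) F := ⟨!![0, 1; -1, 0], by rw [Matrix.det_fin_two_of]; ring⟩
  let d : Matrix.SpecialLinearGroup (Fin 2) F := ⟨!![i, 0; 0, -i], by rw [Matrix.det_fin_two_of]; linear_combination -hi⟩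
  have hneg : ((⁅w, d⁆ : Matrix.SpecialLinearGroup (Fin 2) F) : Matrix (Fin 2) (Fin 2) F) = -1 := by
    rw [commutatorElement_def, Matrix.SpecialLinearGroup.coe_mul, Matrix.SpecialLinearGroup.coe_mul,
      Matrix.SpecialLinearGroup.coe_mul, Matrix.SpecialLinearGroup.coe_inv, Matrix.SpecialLinearGroup.coe_inv]
    show !![0, 1; -1, 0] * !![i, 0; 0, -i] * Matrix.adjugate !![0, 1; -1, 0] *
      Matrix.adjugate !![i, 0; 0, -i] = (-1 : Matrix (Fin 2) (Fin 2) F)
    rw [Matrix.adjugate_fin_two_of, Matrix.adjugate_fin_two_of]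
    ext a b
    fin_cases a <;> fin_cases b <;> simp <;> linear_combination hi
  refine eq_top_iff.2 fun g _ => ?_
  have h1 : q g ∈ (commutator S).map q := by
    rw [commutator_def, Subgroup.map_commutator,
      Subgroup.map_top_of_surjective q (QuotientGroup.mk'_surjective _), ← commutator_def, hps]
    exact Subgroup.mem_top _
  obtain ⟨c, hc, hcg⟩ := h1
  have hz : c⁻¹ * g ∈ Subgroup.center S := QuotientGroup.eq.1 hcg
  obtain ⟨r, hr, hrg⟩ := Matrix.SpecialLinearGroup.mem_center_iff.1 hz
  have hr' : r = 1 ∨ r = -1 := by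
    rw [Fintype.card_fin] at hr
    exact mul_self_eq_one_iff.1 (by rw [← pow_two]; exact hr)
  have hmem : c⁻¹ * g ∈ commutator S := by
    rcases hr' with rfl | rfl
    · have : c⁻¹ * g = 1 := Subtype.ext (by rw [← hrg, map_one]; rfl)
      rw [this]; exact one_mem _
    · have : c⁻¹ * g = ⁅w, d⁆ := Subtype.ext (by rw [hneg, ← hrg, map_neg, map_one])
      rw [this]
      exact Subgroup.commutator_mem_commutator (Subgroup.mem_top _) (Subgroup.mem_top _)
  simpa using mul_mem hc hmem

theorem card_sl (hF : Fintype.card F = 9) :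
    Nat.card (SpecialLinearGroup (Fin 2) F) = 720 := by
  rw [GLOrder.card_SL_two, Nat.card_eq_fintype_card, hF]; rfl

theorem exists_proj (hF : Fintype.card F = 9) :
    ∃ π : SpecialLinearGroup (Fin 2) F →* alternatingGroup (Fin 6),
      Cfsg.IsStemExtension π ∧ Nat.card π.ker = 2 := by
  classical
  haveI : Finite F := inferInstance
  haveI : IsSimpleGroup (ProjectiveSpecialLinearGroup (Fin 2) F) :=
    Matrix.ProjectiveSpecialLinearGroup.rank_two_simple (by rw [Nat.card_eq_fintype_card, hF]; norm_num)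
  have h2 := GLOrder.card_PSL_two_of_odd (F := F) (by rw [Nat.card_eq_fintype_card, hF]; decide)
  rw [Nat.card_eq_fintype_card (α := F), hF] at h2
  obtain ⟨e⟩ := S0497.result (G := ProjectiveSpecialLinearGroup (Fin 2) F) (by omega)
  let π : SpecialLinearGroup (Fin 2) F →* alternatingGroup (Fin 6) :=
    e.toMonoidHom.comp (QuotientGroup.mk' _)
  have hker : π.ker = Subgroup.center (SpecialLinearGroup (Fin 2) F) := by
    ext x
    rw [MonoidHom.mem_ker, ← QuotientGroup.eq_one_iff]
    exact ⟨fun h => e.injective (h.trans (map_one e).symm), fun h => by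
      show e _ = 1
      rw [show (QuotientGroup.mk' _ x : ProjectiveSpecialLinearGroup (Fin 2) F) = 1 from h, map_one]⟩
  refine ⟨π, ⟨e.surjective.comp (QuotientGroup.mk'_surjective _), hker.le, ?_⟩, ?_⟩
  · rw [perfect_sl hF]; exact le_top
  · rw [hker, GLOrder.card_center_SL, Fintype.card_fin, Nat.card_eq_fintype_card, hF]
    decide

theorem main (hF : Fintype.card F = 9) :
    Cfsg.HasCyclicSchurMultiplier (SpecialLinearGroup (Fin 2) F) 3 := by
  classical
  obtain ⟨π, hπ, hc2⟩ := exists_proj hF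
  haveI := Fact.mk Nat.prime_three
  have hZ : Nat.card (Multiplicative (ZMod 3)) = 3 := by
    rw [Nat.card_congr Multiplicative.toAdd, Nat.card_zmod]
  constructor
  · obtain ⟨Γ₂, _, _, σ₂, hσ₂, hc₂⟩ := exists_triple_cover 6 (Or.inl rfl)
    let σ : Fib σ₂ π →* SpecialLinearGroup (Fin 2) F := (MonoidHom.snd _ _).comp (Fib σ₂ π).subtype
    have hk : ∀ x : Fib σ₂ π, x ∈ σ.ker → x.1.1 ∈ σ₂.ker := fun x hx => by
      rw [MonoidHom.mem_ker, (mem_fib σ₂ π).1 x.2, show x.1.2 = 1 from hx, map_one]
    have hcard : Nat.card σ.ker = 3 := by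
      rw [← hc₂]
      exact Nat.card_congr
        { toFun := fun x => ⟨x.1.1.1, hk x.1 x.2⟩
          invFun := fun y => ⟨⟨(y.1, 1), (mem_fib σ₂ π).2 (by rw [map_one]; exact y.2)⟩, rfl⟩
          left_inv := fun x => Subtype.ext (Subtype.ext (Prod.ext rfl
            (show (1 : SpecialLinearGroup (Fin 2) F) = x.1.1.2 from (x.2 : x.1.1.2 = 1).symm)))
          right_inv := fun y => rfl }
    refine ⟨Fib σ₂ π, inferInstance, inferInstance, σ, ⟨?_, ?_, ?_⟩,
      ⟨mulEquivOfPrimeCardEq hcard hZ⟩⟩
    · intro g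
      obtain ⟨a, ha⟩ := hσ₂.1 (π g)
      exact ⟨⟨(a, g), ha⟩, rfl⟩
    · exact fun x hx => Subgroup.mem_center_iff.2 fun g => Subtype.ext (Prod.ext
        ((Subgroup.mem_center_iff.1 (hσ₂.2.1 (hk x hx))) g.1.1)
        (by show g.1.2 * x.1.2 = x.1.2 * g.1.2
            rw [show x.1.2 = 1 from hx, mul_one, one_mul]))
    · intro x hx
      have h1 := mem_commutator_fib σ₂ π hσ₂ hπ.1 (by rw [hc₂, hc2]; decide) (hk x hx)
      convert h1 using 1
      exact Subtype.ext (Prod.ext rfl hx)
  · intro Γ _ _ σ hσ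
    have hperf : commutator Γ = ⊤ := by
      refine eq_top_iff.2 fun g _ => ?_
      have h1 : σ g ∈ (commutator Γ).map σ := by
        rw [commutator_def, Subgroup.map_commutator, Subgroup.map_top_of_surjective σ hσ.1,
          ← commutator_def, perfect_sl hF]
        exact Subgroup.mem_top _
      obtain ⟨c, hc, hcg⟩ := h1
      have : c⁻¹ * g ∈ commutator Γ := hσ.2.2 (by
        rw [MonoidHom.mem_ker, map_mul, map_inv, inv_mul_eq_one]; exact hcg)
      simpa using mul_mem hc this
    have hτ : Cfsg.IsStemExtension (π.comp σ) := by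
      refine ⟨hπ.1.comp hσ.1, fun x hx => Subgroup.mem_center_iff.2 fun g => ?_,
        by rw [hperf]; exact le_top⟩
      have hσx : σ x ∈ Subgroup.center _ := hπ.2.1 hx
      have hmem : ∀ g, ⁅g, x⁆ ∈ σ.ker := fun g => by
        rw [MonoidHom.mem_ker, map_commutatorElement, commutatorElement_eq_one_iff_mul_comm]
        exact Subgroup.mem_center_iff.1 hσx (σ g)
      have hmul : ∀ a b, ⁅a * b, x⁆ = ⁅a, x⁆ * ⁅b, x⁆ := fun a b => by
        have hz := Subgroup.mem_center_iff.1 (hσ.2.1 (hmem b))
        calc ⁅a * b, x⁆ = a * ⁅b, x⁆ * (x * a⁻¹ * x⁻¹) := by simp only [commutatorElement_def]; group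
          _ = ⁅b, x⁆ * (a * (x * a⁻¹ * x⁻¹)) := by rw [hz a, mul_assoc]
          _ = ⁅b, x⁆ * ⁅a, x⁆ := by simp only [commutatorElement_def]; group
          _ = ⁅a, x⁆ * ⁅b, x⁆ := (hz _).symm
      let f : Γ →* σ.ker :=
        { toFun := fun g => ⟨⁅g, x⁆, hmem g⟩
          map_one' := Subtype.ext (commutatorElement_one_left x)
          map_mul' := fun a b => Subtype.ext (hmul a b) }
      have hf : commutator Γ ≤ f.ker := by
        rw [commutator_def, Subgroup.commutator_le]
        intro a _ b _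
        rw [MonoidHom.mem_ker, map_commutatorElement, commutatorElement_eq_one_iff_mul_comm]
        exact Subtype.ext ((Subgroup.mem_center_iff.1 (hσ.2.1 (hmem b))) _)
      have h : g ∈ f.ker := hf (by rw [hperf]; exact Subgroup.mem_top _)
      exact commutatorElement_eq_one_iff_mul_comm.1 (congrArg Subtype.val h)
    obtain ⟨ψ, hψ⟩ := exists_surj_alt 6 (Or.inl rfl) (π.comp σ) hτ
    have h6 : Nat.card (π.comp σ).ker ∣ 6 := by
      have := Subgroup.card_dvd_of_surjective ψ hψ
      rwa [Nat.card_congr Multiplicative.toAdd, Nat.card_zmod] at this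
    have e1 := σ.ker.card_mul_index
    have e2 := (π.comp σ).ker.card_mul_index
    rw [Subgroup.index_ker, MonoidHom.range_eq_top.2 hσ.1, Subgroup.card_top, card_sl hF] at e1
    rw [Subgroup.index_ker, MonoidHom.range_eq_top.2 hτ.1, Subgroup.card_top, card_alt_six, ← e1] at e2
    have hK : Nat.card (π.comp σ).ker = 2 * Nat.card σ.ker := by omega
    have h3 : Nat.card σ.ker ∣ 3 := Nat.dvd_of_mul_dvd_mul_left two_pos (hK ▸ h6)
    rcases (Nat.dvd_prime Nat.prime_three).1 h3 with h | h
    · exact ⟨1, fun y => ⟨1, ((Nat.card_eq_one_iff_unique.1 h).1.elim _ _)⟩⟩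
    · exact ⟨(mulEquivOfPrimeCardEq hZ h).toMonoidHom, (mulEquivOfPrimeCardEq hZ h).surjective⟩


/-- For the field with 9 elements, the special linear group SL₂ has Schur multiplier cyclic of order 3 (here the Schur multiplier is described through stem extensions, as in the definitions). -/
theorem result {F : Type*} [Field F] [Fintype F] (hF : Fintype.card F = 9) : Cfsg.HasCyclicSchurMultiplier (Matrix.SpecialLinearGroup (Fin 2) F) 3 := by
  exact main hF

end Cfsg.Agent.S2118
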