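import Cfsg.Statements.S3304
import Cfsg.Agent.Lib.SylowLift.Solvable
import Cfsg.Agent.S0016
import Cfsg.Agent.S5112

set_option autoImplicit false
open Cfsg

namespace Cfsg.Agent.S3304

/-- Adjoining an element that normalises `H` and has a power in `H`. -/
theorem card_sup_zpowers_le {G : Type*} [Group G] [Finite G] (H : Subgroup G) (x : G) (n : ℕ) (hn : 0 < n)
    (hx : ∀ h ∈ H, x * h * x⁻¹ ∈ H) (hxn : x ^ n ∈ H) :
    Nat.card ↥(H ⊔ Subgroup.zpowers x) ≤ Nat.card H * n := by
  let F : H × Fin n → G := fun p => p.1 * x ^ (p.2 : ℕ)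
  have hxk : ∀ (k : ℕ), ∀ h ∈ H, x ^ k * h * (x ^ k)⁻¹ ∈ H := by
    intro k
    induction k with
    | zero => intro h hh; simpa using hh
    | succ k ih =>
      intro h hh
      rw [show x ^ (k + 1) * h * (x ^ (k + 1))⁻¹ = x * (x ^ k * h * (x ^ k)⁻¹) * x⁻¹ by
        rw [pow_succ']; group]
      exact hx _ (ih h hh)
  have hpow : ∀ h ∈ H, ∀ k : ℕ, h * x ^ k ∈ Set.range F := by
    intro h hh k
    refine ⟨(⟨h * (x ^ n) ^ (k / n), mul_mem hh (pow_mem hxn _)⟩, ⟨k % n, Nat.mod_lt _ hn⟩), ?_⟩
    show h * (x ^ n) ^ (k / n) * x ^ (k % n) = _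
    rw [mul_assoc, ← pow_mul, ← pow_add, Nat.div_add_mod]
  have hsub : ((H ⊔ Subgroup.zpowers x : Subgroup G) : Set G) ⊆ Set.range F := by
    intro g hg
    rw [SetLike.mem_coe, ← Subgroup.closure_eq H, Subgroup.zpowers_eq_closure, ← Subgroup.closure_union,
      ← Subgroup.mem_toSubmonoid, Subgroup.closure_toSubmonoid_of_finite] at hg
    induction hg using Submonoid.closure_induction_right with
    | one => exact ⟨(1, ⟨0, hn⟩), by simp [F]⟩
    | mul_right y _ z hz ihy =>
      obtain ⟨⟨⟨a, ha⟩, e⟩, rfl⟩ := ihy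
      rcases hz with hz | rfl
      · rw [show F (⟨a, ha⟩, e) * z = a * (x ^ (e : ℕ) * z * (x ^ (e : ℕ))⁻¹) * x ^ (e : ℕ) by
          simp [F, mul_assoc]]
        exact hpow _ (mul_mem ha (hxk _ _ hz)) _
      · show a * z ^ (e : ℕ) * z ∈ _
        rw [mul_assoc, ← pow_succ]
        exact hpow a ha _
  calc Nat.card ↥(H ⊔ Subgroup.zpowers x) ≤ Nat.card (Set.range F) := Nat.card_mono (Set.toFinite _) hsub
    _ ≤ Nat.card (H × Fin n) :=
      Nat.card_le_card_of_surjective (Set.rangeFactorization F) Set.rangeFactorization_surjective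
    _ = _ := by simp

/-- The relations of the model. -/
structure Rel {G : Type*} [Group G] (i j c t : G) : Prop where
  i4 : i ^ 4 = 1
  j2 : j * j = i * i
  ji : j * i * j⁻¹ = i⁻¹
  c3 : c ^ 3 = 1
  ci : c * i * c⁻¹ = j
  cj : c * j * c⁻¹ = i * j
  t2 : t * t = 1
  ti : t * i * t⁻¹ = i⁻¹
  tj : t * j * t⁻¹ = (i * j)⁻¹
  tc : t * c * t⁻¹ = c⁻¹

theorem normalizes_closure {G : Type*} [Group G] [Finite G] {S : Set G} {x : G}
    (h : ∀ s ∈ S, x * s * x⁻¹ ∈ Subgroup.closure S) :
    ∀ y ∈ Subgroup.closure S, x * y * x⁻¹ ∈ Subgroup.closure S := by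
  intro y hy
  induction hy using Subgroup.closure_induction with
  | mem z hz => exact h z hz
  | one => simp
  | mul a b _ _ ha hb => rw [← conj_mul]; exact mul_mem ha hb
  | inv a _ ha => rw [← conj_inv]; exact inv_mem ha

theorem card_quat_le {G : Type*} [Group G] [Finite G] {i j : G} (h4 : i ^ 4 = 1) (h2 : j * j = i * i)
    (hji : j * i * j⁻¹ = i⁻¹) : Nat.card ↥(Subgroup.closure ({i, j} : Set G)) ≤ 8 := by
  have h := card_sup_zpowers_le (Subgroup.closure {i}) j 2 two_pos
    (normalizes_closure (fun s hs => by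
      rw [Set.mem_singleton_iff.mp hs, hji]; exact inv_mem (Subgroup.subset_closure rfl)))
    (by rw [pow_two, h2]; exact mul_mem (Subgroup.subset_closure rfl) (Subgroup.subset_closure rfl))
  rw [← Subgroup.zpowers_eq_closure] at h
  have h4' : Nat.card ↥(Subgroup.zpowers i) ≤ 4 := by
    rw [Nat.card_zpowers]; exact Nat.le_of_dvd (by norm_num) (orderOf_dvd_of_pow_eq_one h4)
  rw [Subgroup.zpowers_eq_closure, Subgroup.zpowers_eq_closure, ← Subgroup.closure_union,
    Set.singleton_union] at h
  rw [Subgroup.zpowers_eq_closure] at h4'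
  omega

theorem card_three_le {G : Type*} [Group G] [Finite G] {i j c t : G} (h : Rel i j c t) :
    Nat.card ↥(Subgroup.closure ({i, j} : Set G) ⊔ Subgroup.zpowers c) ≤ 24 := by
  have h1 := card_quat_le h.i4 h.j2 h.ji
  have hi : i ∈ Subgroup.closure ({i, j} : Set G) := Subgroup.subset_closure (by simp)
  have hj : j ∈ Subgroup.closure ({i, j} : Set G) := Subgroup.subset_closure (by simp)
  have := card_sup_zpowers_le (Subgroup.closure ({i, j} : Set G)) c 3 (by norm_num)
    (normalizes_closure (fun s hs => by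
      rcases hs with rfl | rfl
      · rw [h.ci]; exact hj
      · rw [h.cj]; exact mul_mem hi hj))
    (by rw [h.c3]; exact one_mem _)
  omega

theorem card_model_le {G : Type*} [Group G] [Finite G] {i j c t : G} (h : Rel i j c t) :
    Nat.card ↥(Subgroup.closure ({i, j, c, t} : Set G)) ≤ 48 := by
  have h24 := card_three_le h
  rw [Subgroup.zpowers_eq_closure, ← Subgroup.closure_union] at h24
  have hi : i ∈ Subgroup.closure (({i, j} : Set G) ∪ {c}) := Subgroup.subset_closure (by simp)
  have hj : j ∈ Subgroup.closure (({i, j} : Set G) ∪ {c}) := Subgroup.subset_closure (by simp)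
  have hc : c ∈ Subgroup.closure (({i, j} : Set G) ∪ {c}) := Subgroup.subset_closure (by simp)
  have := card_sup_zpowers_le (Subgroup.closure (({i, j} : Set G) ∪ {c})) t 2 two_pos
    (normalizes_closure (fun s hs => by
      rcases hs with (rfl | rfl) | rfl
      · rw [h.ti]; exact inv_mem hi
      · rw [h.tj]; exact inv_mem (mul_mem hi hj)
      · rw [h.tc]; exact inv_mem hc))
    (by rw [pow_two, h.t2]; exact one_mem _)
  rw [Subgroup.zpowers_eq_closure, ← Subgroup.closure_union,
    show (({i, j} : Set G) ∪ {c}) ∪ {t} = {i, j, c, t} by ext; simp; tauto] at this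
  omega

theorem iso_of_rel {G H : Type*} [Group G] [Group H] [Finite G] [Finite H]
    (hG : Nat.card G = 48) (hH : Nat.card H = 48) {i j c t : G} {i' j' c' t' : H}
    (hg : Subgroup.closure ({i, j, c, t} : Set G) = ⊤)
    (hh : Subgroup.closure ({i', j', c', t'} : Set H) = ⊤)
    (h : Rel i j c t) (h' : Rel i' j' c' t') : Nonempty (G ≃* H) := by
  let S : Set (G × H) := {(i, i'), (j, j'), (c, c'), (t, t')}
  have hD : Nat.card ↥(Subgroup.closure S) ≤ 48 := card_model_le (G := G × H)
    ⟨Prod.ext h.i4 h'.i4, Prod.ext h.j2 h'.j2, Prod.ext h.ji h'.ji, Prod.ext h.c3 h'.c3,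
      Prod.ext h.ci h'.ci, Prod.ext h.cj h'.cj, Prod.ext h.t2 h'.t2, Prod.ext h.ti h'.ti,
      Prod.ext h.tj h'.tj, Prod.ext h.tc h'.tc⟩
  let p1 : ↥(Subgroup.closure S) →* G := (MonoidHom.fst G H).comp (Subgroup.closure S).subtype
  let p2 : ↥(Subgroup.closure S) →* H := (MonoidHom.snd G H).comp (Subgroup.closure S).subtype
  have s1 : Function.Surjective p1 := by
    rw [← MonoidHom.range_eq_top, eq_top_iff, ← hg, Subgroup.closure_le]
    intro x hx
    rcases hx with rfl | rfl | rfl | rfl
    · exact ⟨⟨(x, i'), Subgroup.subset_closure (by simp [S])⟩, rfl⟩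
    · exact ⟨⟨(x, j'), Subgroup.subset_closure (by simp [S])⟩, rfl⟩
    · exact ⟨⟨(x, c'), Subgroup.subset_closure (by simp [S])⟩, rfl⟩
    · exact ⟨⟨(x, t'), Subgroup.subset_closure (by simp [S])⟩, rfl⟩
  have s2 : Function.Surjective p2 := by
    rw [← MonoidHom.range_eq_top, eq_top_iff, ← hh, Subgroup.closure_le]
    intro x hx
    rcases hx with rfl | rfl | rfl | rfl
    · exact ⟨⟨(i, x), Subgroup.subset_closure (by simp [S])⟩, rfl⟩
    · exact ⟨⟨(j, x), Subgroup.subset_closure (by simp [S])⟩, rfl⟩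
    · exact ⟨⟨(c, x), Subgroup.subset_closure (by simp [S])⟩, rfl⟩
    · exact ⟨⟨(t, x), Subgroup.subset_closure (by simp [S])⟩, rfl⟩
  have b1 := s1.bijective_of_nat_card_le (by omega)
  have b2 := s2.bijective_of_nat_card_le (by omega)
  exact ⟨(MulEquiv.ofBijective p1 b1).symm.trans (MulEquiv.ofBijective p2 b2)⟩

/-- An element of `GL(2,3)` from a matrix and its inverse. -/
def mkGL (A B : Matrix (Fin 2) (Fin 2) (ZMod 3)) (h1 : A * B = 1) (h2 : B * A = 1) :
    GL (Fin 2) (ZMod 3) := ⟨A, B, h1, h2⟩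

def gI : GL (Fin 2) (ZMod 3) := mkGL !![0, 2; 1, 0] !![0, 1; 2, 0] (by decide) (by decide)
def gC : GL (Fin 2) (ZMod 3) := mkGL !![1, 1; 0, 1] !![1, 2; 0, 1] (by decide) (by decide)
def gT : GL (Fin 2) (ZMod 3) := mkGL !![1, 0; 0, 2] !![1, 0; 0, 2] (by decide) (by decide)
def gJ : GL (Fin 2) (ZMod 3) := gC * gI * gC⁻¹

theorem gl_rel : Rel gI gJ gC gT :=
  ⟨by decide +kernel, by decide +kernel, by decide +kernel, by decide +kernel, by decide +kernel,
    by decide +kernel, by decide +kernel, by decide +kernel, by decide +kernel, by decide +kernel⟩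

theorem gl_gen : Subgroup.closure ({gI, gJ, gC, gT} : Set (GL (Fin 2) (ZMod 3))) = ⊤ := by
  rw [eq_top_iff]
  intro M _
  have key : ∀ A : Matrix (Fin 2) (Fin 2) (ZMod 3), A.det ≠ 0 → ∃ a : Fin 4, ∃ b : Fin 2, ∃ e : Fin 3,
      ∃ f : Fin 2, A = ((gI ^ a.val * gJ ^ b.val * gC ^ e.val * gT ^ f.val : GL (Fin 2) (ZMod 3)) :
        Matrix (Fin 2) (Fin 2) (ZMod 3)) := by decide +kernel
  obtain ⟨a, b, e, f, h⟩ := key M (Matrix.det_ne_zero_of_left_inverse (B := ((M⁻¹ : GL _ _) :
    Matrix (Fin 2) (Fin 2) (ZMod 3))) (by rw [← Units.val_mul, inv_mul_cancel]; rfl))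
  rw [Units.ext h]
  exact mul_mem (mul_mem (mul_mem (pow_mem (Subgroup.subset_closure (by simp)) _)
    (pow_mem (Subgroup.subset_closure (by simp)) _)) (pow_mem (Subgroup.subset_closure (by simp)) _))
    (pow_mem (Subgroup.subset_closure (by simp)) _)

theorem q8_facts :
    (∀ x : QuaternionGroup 2, x * x = 1 → ∀ y, x * y = y * x) ∧
    (∀ x y : QuaternionGroup 2, x * x ≠ 1 → x * y ≠ y * x →
      y * y = x * x ∧ y * x * y⁻¹ = x⁻¹ ∧ x ^ 4 = 1 ∧ y * y ≠ 1) ∧
    (∀ x y w : QuaternionGroup 2, x * y ≠ y * x → x * w ≠ w * x → y * w ≠ w * y →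
      w = x * y ∨ w = (x * y)⁻¹) ∧
    (∀ x y : QuaternionGroup 2, x * x ≠ 1 → x * y = y * x → y = 1 ∨ y = x ∨ y = x * x ∨ y = x⁻¹) ∧
    (∀ x y : QuaternionGroup 2, x * x = 1 → y * y = 1 → x ≠ 1 → y ≠ 1 → x = y) ∧
    (∃ x : QuaternionGroup 2, x * x ≠ 1) ∧ (∃ x : QuaternionGroup 2, x * x = 1 ∧ x ≠ 1) ∧
    (∀ x : QuaternionGroup 2, x * x ≠ 1 → ∃ y, x * y ≠ y * x) := by
  refine ⟨?_, ?_, ?_, ?_, ?_, ?_, ?_, ?_⟩ <;> decide +kernel

/-- The three cyclic subgroups of order 4 of `Q₈` carry 24 automorphisms at most. -/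
theorem card_mulAut_q8_le : Nat.card (MulAut (QuaternionGroup 2)) ≤ 24 := by
  obtain ⟨h1, h2, -, -, -, -, -, -⟩ := q8_facts
  let i : QuaternionGroup 2 := QuaternionGroup.a 1
  let j : QuaternionGroup 2 := QuaternionGroup.xa 0
  have hi : i * i ≠ 1 := by decide +kernel
  have hij : i * j ≠ j * i := by decide +kernel
  let S := {p : QuaternionGroup 2 × QuaternionGroup 2 // p.1 * p.1 ≠ 1 ∧ p.1 * p.2 ≠ p.2 * p.1}
  let f : MulAut (QuaternionGroup 2) → S := fun φ => ⟨(φ i, φ j),
    fun h => hi (φ.injective (by rw [map_mul, map_one]; exact h)),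
    fun h => hij (φ.injective (by rw [map_mul, map_mul]; exact h))⟩
  have hf : Function.Injective f := by
    intro φ ψ h
    have hi' : φ i = ψ i := congrArg (fun p : S => p.1.1) h
    have hj' : φ j = ψ j := congrArg (fun p : S => p.1.2) h
    have key : ∀ g : QuaternionGroup 2, ∃ a : Fin 4, ∃ b : Fin 2, g = i ^ a.val * j ^ b.val := by
      decide +kernel
    ext g
    obtain ⟨a, b, rfl⟩ := key g
    simp [hi', hj']
  refine (Nat.card_le_card_of_injective f hf).trans ?_
  rw [Nat.card_eq_fintype_card]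
  decide +kernel

theorem prankLE_inf_of_surjective {G Q : Type*} [Group G] [Group Q] [Finite G] {f : G →* Q}
    (hf : Function.Surjective f) (hker : Odd (Nat.card f.ker))
    (hI : ∀ S T : Sylow 2 G, S ≠ T → Cfsg.PRankLE 2 1 ↥((S : Subgroup G) ⊓ (T : Subgroup G)))
    (S T : Sylow 2 Q) (hne : S ≠ T) :
    ∀ x y : Q, x ∈ (S : Subgroup Q) ⊓ (T : Subgroup Q) → y ∈ (S : Subgroup Q) ⊓ (T : Subgroup Q) →
      x * x = 1 → y * y = 1 → x * y = y * x → x ≠ 1 → y ≠ 1 → x = y := by
  obtain ⟨S', T', h1, h2, h3⟩ := SylowLift.exists_inf_lift hf S T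
  have hne' : S' ≠ T' := by
    rintro rfl
    exact hne (Sylow.ext (h1.symm.trans h2))
  intro x y hx hy hx2 hy2 hxy hx1 hy1
  obtain ⟨a, ha, rfl⟩ := h3.ge hx
  obtain ⟨b, hb, rfl⟩ := h3.ge hy
  have hinj : ∀ g ∈ (S' : Subgroup G) ⊓ (T' : Subgroup G), f g = 1 → g = 1 := by
    intro g hg hg1
    obtain ⟨k, hk⟩ := IsPGroup.iff_orderOf.mp S'.isPGroup' ⟨g, hg.1⟩
    rw [Subgroup.orderOf_mk] at hk
    have h' := Subgroup.orderOf_dvd_natCard _ (MonoidHom.mem_ker.mpr hg1)
    rcases k with _ | k
    · exact orderOf_eq_one_iff.mp (by simpa using hk)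
    · rw [hk] at h'
      exact absurd (even_iff_two_dvd.mpr ((dvd_pow_self 2 k.succ_ne_zero).trans h'))
        (Nat.not_even_iff_odd.mpr hker)
  set D := (S' : Subgroup G) ⊓ (T' : Subgroup G)
  let a' : D := ⟨a, ha⟩
  let b' : D := ⟨b, hb⟩
  have ea : a' * a' = 1 := Subtype.ext (hinj _ (mul_mem ha ha) (by simpa [a'] using hx2))
  have eb : b' * b' = 1 := Subtype.ext (hinj _ (mul_mem hb hb) (by simpa [b'] using hy2))
  have eab : a' * b' = b' * a' := by
    refine mul_inv_eq_one.mp (Subtype.ext (hinj _ ?_ ?_))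
    · exact mul_mem (mul_mem ha hb) (inv_mem (mul_mem hb ha))
    · show f (a * b * (b * a)⁻¹) = 1
      rw [map_mul, map_inv, map_mul, map_mul, hxy, mul_inv_cancel]
  have hcomm : IsMulCommutative ↥(Subgroup.closure ({a', b'} : Set D)) :=
    Subgroup.isMulCommutative_closure (by
      rintro u (rfl | rfl) v (rfl | rfl)
      · rfl
      · exact eab
      · exact eab.symm
      · rfl)
  have hexp : ∀ u ∈ Subgroup.closure ({a', b'} : Set D), u ^ 2 = 1 := by
    intro u hu
    induction hu using Subgroup.closure_induction with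
    | mem v hv => rcases hv with rfl | rfl <;> rw [pow_two] <;> assumption
    | one => simp
    | mul u v hu hv hu' hv' =>
      have : Commute u v := congrArg Subtype.val (mul_comm' (⟨u, hu⟩ : ↥(Subgroup.closure ({a', b'} : Set D))) ⟨v, hv⟩)
      rw [this.mul_pow, hu', hv', one_mul]
    | inv u _ hu' => rw [inv_pow, hu', inv_one]
  by_contra hne2
  have h3' : 3 ≤ Nat.card ↥(Subgroup.closure ({a', b'} : Set D)) := by
    have : Function.Injective (![1, ⟨a', Subgroup.subset_closure (Or.inl rfl)⟩,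
        ⟨b', Subgroup.subset_closure (Or.inr rfl)⟩] : Fin 3 → Subgroup.closure ({a', b'} : Set D)) := by
      intro u v huv
      have ha1 : (1 : G) ≠ a := fun h => hx1 (by rw [← h, map_one])
      have hb1 : (1 : G) ≠ b := fun h => hy1 (by rw [← h, map_one])
      have hab : a ≠ b := fun h => hne2 (by rw [h])
      have hv := congrArg (fun w : Subgroup.closure ({a', b'} : Set D) => ((w : D) : G)) huv
      fin_cases u <;> fin_cases v <;> first | rfl | exfalso <;> simp [a', b'] at hv <;>
        first | exact ha1 hv | exact ha1 hv.symm | exact hb1 hv | exact hb1 hv.symm | exact hab hv | exact hab hv.symm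
    simpa using Nat.card_le_card_of_injective _ this
  have := h3'.trans (hI S' T' hne' _ hcomm hexp)
  norm_num at this

/-- A fixed element of order 4 of `Q₈` kills automorphisms of order 3. -/
theorem eq_self_of_fix {H : Type*} [Group H] {Q : Subgroup H} (e : Q ≃* QuaternionGroup 2) {c : H}
    (hc : c ^ 3 = 1) (hQ : ∀ q ∈ Q, c * q * c⁻¹ ∈ Q) {x : H} (hx : x ∈ Q) (hx4 : x * x ≠ 1)
    (hfix : c * x * c⁻¹ = x) : ∀ q ∈ Q, c * q * c⁻¹ = q := by
  obtain ⟨-, f2, f3, f4, -, -, -, -⟩ := q8_facts
  have hcx : c * x = x * c := mul_inv_eq_iff_eq_mul.mp hfix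
  have hX : e ⟨x, hx⟩ * e ⟨x, hx⟩ ≠ 1 := fun h => hx4 (by
    rw [← map_mul, ← map_one e] at h
    exact congrArg Subtype.val (e.injective h))
  have hxn : ∀ q : H, (q = 1 ∨ q = x ∨ q = x * x ∨ q = x⁻¹) → c * q * c⁻¹ = q := by
    intro q hq
    rcases hq with rfl | rfl | rfl | rfl
    · simp
    · exact hfix
    · rw [← conj_mul, hfix]
    · rw [← conj_inv, hfix]
  have hcent : ∀ q (hq : q ∈ Q), q * x = x * q → (q = 1 ∨ q = x ∨ q = x * x ∨ q = x⁻¹) := by
    intro q hq h
    have h' : e ⟨x, hx⟩ * e ⟨q, hq⟩ = e ⟨q, hq⟩ * e ⟨x, hx⟩ := by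
      rw [← map_mul, ← map_mul]; exact congrArg e (Subtype.ext h.symm)
    rcases f4 _ _ hX h' with hh | hh | hh | hh
    · exact Or.inl (congrArg Subtype.val (e.injective (hh.trans (map_one e).symm)))
    · exact Or.inr (Or.inl (congrArg Subtype.val (e.injective hh)))
    · exact Or.inr (Or.inr (Or.inl (congrArg Subtype.val (e.injective (hh.trans (map_mul e _ _).symm)))))
    · exact Or.inr (Or.inr (Or.inr (congrArg Subtype.val (e.injective (hh.trans (map_inv e _).symm)))))
  intro q hq
  by_cases hqx : q * x = x * q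
  · exact hxn q (hcent q hq hqx)
  set d := c * q * c⁻¹ * q⁻¹ with hd
  have hq' : ¬ c * q * c⁻¹ * x = x * (c * q * c⁻¹) := by
    intro h
    apply hqx
    have h' : c * (q * x) * c⁻¹ = c * (x * q) * c⁻¹ := by rw [← conj_mul, ← conj_mul, hfix]; exact h
    simpa using h'
  have hX' : ∀ w (hw : w ∈ Q), ¬ w * x = x * w → e ⟨x, hx⟩ * e ⟨w, hw⟩ ≠ e ⟨w, hw⟩ * e ⟨x, hx⟩ := by
    intro w hw h h'
    rw [← map_mul, ← map_mul] at h'
    exact h (congrArg Subtype.val (e.injective h')).symm
  -- both `q` and its image invert `x`, so their quotient commutes with `x`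
  have inv_x : ∀ w (hw : w ∈ Q), ¬ w * x = x * w → w * x * w⁻¹ = x⁻¹ := by
    intro w hw h
    have := (f2 _ _ hX (hX' w hw h)).2.1
    rw [← map_mul, ← map_inv, ← map_mul, ← map_inv] at this
    exact congrArg Subtype.val (e.injective this)
  have hdx : d * x = x * d := by
    have h1 := inv_x q hq hqx
    have h2 := inv_x _ (hQ q hq) hq'
    have h1' : q⁻¹ * x * q = x⁻¹ := by
      have := congrArg (fun w => (q⁻¹ * w * q)⁻¹) h1
      simpa [mul_assoc] using this.symm
    calc d * x = c * q * c⁻¹ * (q⁻¹ * x * q) * q⁻¹ := by rw [hd]; group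
      _ = c * q * c⁻¹ * x⁻¹ * q⁻¹ := by rw [h1']
      _ = (c * q * c⁻¹ * x * (c * q * c⁻¹)⁻¹)⁻¹ * (c * q * c⁻¹) * q⁻¹ := by group
      _ = x * d := by rw [h2, inv_inv, hd]; group
  have hd4 := hcent d (mul_mem (hQ q hq) (inv_mem hq)) hdx
  have hcd : c * d * c⁻¹ = d := hxn d hd4
  have h3 : ∀ k : ℕ, c ^ k * q * (c ^ k)⁻¹ = d ^ k * q := by
    intro k
    induction k with
    | zero => simp
    | succ k ih =>
      calc c ^ (k + 1) * q * (c ^ (k + 1))⁻¹ = c * (c ^ k * q * (c ^ k)⁻¹) * c⁻¹ := by
            rw [pow_succ']; group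
        _ = (c * d ^ k * c⁻¹) * (c * q * c⁻¹) := by rw [ih]; group
        _ = d ^ k * (c * q * c⁻¹) := by rw [← conj_pow, hcd]
        _ = d ^ (k + 1) * q := by rw [hd, pow_succ]; group
  have hd3 := h3 3
  rw [hc] at hd3
  have hd3' : d ^ 3 = 1 := by simpa using hd3.symm
  have hx4' : x ^ 4 = 1 := by
    have h4 : ∀ w : QuaternionGroup 2, w ^ 4 = 1 := by decide +kernel
    have h := h4 (e ⟨x, hx⟩)
    rw [← map_pow, ← map_one e] at h
    exact congrArg Subtype.val (e.injective h)
  have hdone : d = 1 := by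
    rcases hd4 with h | h | h | h
    · exact h
    · rw [h] at hd3' ⊢; rw [pow_succ, hd3', one_mul] at hx4'; exact hx4'
    · rw [h] at hd3'
      refine absurd ?_ hx4
      calc x * x = x ^ 4 * (x * x) := by rw [hx4', one_mul]
        _ = (x * x) ^ 3 := by simp [pow_succ, mul_assoc]
        _ = 1 := hd3'
    · rw [h] at hd3' ⊢
      rw [inv_pow, inv_eq_one] at hd3'
      rw [pow_succ, hd3', one_mul] at hx4'
      rw [hx4', inv_one]
  rw [hd] at hdone
  exact mul_inv_eq_one.mp hdone

theorem fpf_involutions_fin_four : ∀ σ : Equiv.Perm (Fin 4), ∀ a b c : Equiv.Perm (Fin 4),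
    (∀ p, σ p ≠ p) → σ * σ = 1 → (∀ p, a p ≠ p) → a * a = 1 → (∀ p, b p ≠ p) → b * b = 1 →
    a ≠ b → c = a * b → σ = a ∨ σ = b ∨ σ = c := by
  intro σ a b c h1 h2 h3 h4 h5 h6 h7 h8
  have key : ∀ σ : Equiv.Perm (Fin 4), (∀ p, σ p ≠ p) → σ * σ = 1 →
      σ = Equiv.swap 0 1 * Equiv.swap 2 3 ∨ σ = Equiv.swap 0 2 * Equiv.swap 1 3 ∨
        σ = Equiv.swap 0 3 * Equiv.swap 1 2 := by decide +kernel
  subst h8
  rcases key σ h1 h2 with rfl | rfl | rfl <;> rcases key a h3 h4 with rfl | rfl | rfl <;>
    rcases key b h5 h6 with rfl | rfl | rfl <;> first | exact absurd rfl h7 | decide +kernel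

/-- The structure of `Q` = `G / O(G)` when `O₂(Q)` is quaternion of order 8. -/
theorem structure_of_q8 {H : Type*} [Group H] [Finite H] (Q : Subgroup H) [Q.Normal]
    (hCQ : Subgroup.centralizer (Q : Set H) ≤ Q) (e : Q ≃* QuaternionGroup 2)
    (hns : ∀ S : Sylow 2 H, ¬ (S : Subgroup H).Normal) :
    Nonempty (H ≃* GL (Fin 2) (ZMod 3)) ∨
    (Nat.card H = 48 ∧ Nat.card ↥(Subgroup.center H) = 2 ∧
      Nonempty (H ⧸ Subgroup.center H ≃* Equiv.Perm (Fin 4)) ∧
      ∀ P : Sylow 2 H, Nonempty (↥(P : Subgroup H) ≃* QuaternionGroup 4)) := by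
  classical
  obtain ⟨f1, f2, f3, f4, f5, ⟨w4, hw4⟩, ⟨wz, hwz, hwz1⟩, f8⟩ := q8_facts
  set z : H := ((e.symm wz : Q) : H) with hzdef
  have hzQ : z ∈ Q := (e.symm wz).2
  have hz2 : z * z = 1 := by
    have := congrArg Subtype.val (congrArg e.symm hwz)
    simpa using this
  have hz1 : z ≠ 1 := fun h => hwz1 (by
    have h' : e.symm wz = 1 := Subtype.ext h
    simpa using congrArg e h')
  have hcoe : ∀ x y (hx : x ∈ Q) (hy : y ∈ Q), x * y = y * x ↔
      e ⟨x, hx⟩ * e ⟨y, hy⟩ = e ⟨y, hy⟩ * e ⟨x, hx⟩ := fun x y hx hy => by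
    rw [← map_mul, ← map_mul, e.injective.eq_iff, Subtype.ext_iff]; rfl
  have hsq : ∀ x (hx : x ∈ Q), x * x = 1 ↔ e ⟨x, hx⟩ * e ⟨x, hx⟩ = 1 := fun x hx => by
    rw [← map_mul, ← map_one e, e.injective.eq_iff, Subtype.ext_iff]; rfl
  have hinvol : ∀ x ∈ Q, x * x = 1 → x = 1 ∨ x = z := by
    intro x hx h
    refine or_iff_not_imp_left.mpr fun hx1 => ?_
    have h5 := f5 (e ⟨x, hx⟩) wz ((hsq x hx).mp h) hwz
      (fun hh => hx1 (congrArg Subtype.val (e.injective (hh.trans (map_one e).symm)))) hwz1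
    rw [hzdef, ← h5, MulEquiv.symm_apply_apply]
  have hzc : ∀ g : H, g * z = z * g := by
    intro g
    rcases hinvol _ (Subgroup.Normal.conj_mem inferInstance z hzQ g)
      (by rw [conj_mul, hz2]; group) with h | h
    · exact absurd (conj_eq_one_iff.mp h) hz1
    · exact mul_inv_eq_iff_eq_mul.mp h
  -- the action on `Q`
  let φ : H →* MulAut Q := MulAut.conjNormal
  have hφker : ∀ g, φ g = 1 → g = 1 ∨ g = z := by
    intro g hg
    have hgc : ∀ x ∈ Q, g * x = x * g := fun x hx => by
      have := congrArg Subtype.val (DFunLike.congr_fun hg (⟨x, hx⟩ : Q))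
      simp only [φ, MulAut.conjNormal_apply, MulAut.one_apply] at this
      exact mul_inv_eq_iff_eq_mul.mp this
    have hgQ := hCQ (Subgroup.mem_centralizer_iff.mpr fun x hx => (hgc x hx).symm)
    refine hinvol g hgQ ((hsq g hgQ).mpr ?_)
    by_contra h4
    obtain ⟨y, hy⟩ := f8 _ h4
    refine hy ?_
    have := (hcoe g _ hgQ (e.symm y).2).mp (hgc _ (e.symm y).2)
    simpa using this
  have hQcard : Nat.card Q = 8 := by
    rw [Nat.card_congr e.toEquiv, Nat.card_eq_fintype_card, QuaternionGroup.card]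
  have h48 : Nat.card H ≤ 48 := by
    have hk : Nat.card φ.ker ≤ 2 := by
      refine (Nat.card_le_card_of_surjective (fun b : Bool => if b then (⟨z, ?_⟩ : φ.ker) else 1) ?_).trans
        (by simp)
      · refine MonoidHom.mem_ker.mpr (MulEquiv.ext fun x => Subtype.ext ?_)
        show z * (x : H) * z⁻¹ = x
        rw [← hzc]; group
      · intro x
        rcases hφker x (MonoidHom.mem_ker.mp x.2) with h | h
        · exact ⟨false, Subtype.ext h.symm⟩
        · exact ⟨true, Subtype.ext h.symm⟩
    have hr : Nat.card φ.range ≤ 24 := by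
      refine le_trans ?_ card_mulAut_q8_le
      refine le_trans (Subgroup.card_le_card_group _) (le_of_eq ?_)
      exact Nat.card_congr (MulAut.congr e).toEquiv
    have := φ.ker.card_mul_index
    rw [Subgroup.index_ker] at this
    calc Nat.card H = Nat.card φ.ker * Nat.card φ.range := this.symm
      _ ≤ 2 * 24 := Nat.mul_le_mul hk hr
  -- `8 < |Sylow|`, and `3` divides the order
  haveI : Fact (Nat.Prime 2) := ⟨Nat.prime_two⟩
  haveI : Fact (Nat.Prime 3) := ⟨Nat.prime_three⟩
  obtain ⟨S⟩ : Nonempty (Sylow 2 H) := inferInstance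
  have hQS : Q < (S : Subgroup H) := by
    refine lt_of_le_of_ne (IsPGroup.le_sylow_of_normal
      (IsPGroup.iff_card.mpr ⟨3, by rw [hQcard]; norm_num⟩) S) fun h => hns S ?_
    rw [← h]; infer_instance
  obtain ⟨k, hk⟩ := IsPGroup.iff_card.mp S.isPGroup'
  have h16 : 16 ≤ Nat.card (S : Subgroup H) := by
    have h8 : 8 < Nat.card (S : Subgroup H) := hQcard ▸ (Set.Finite.card_lt_card (Set.toFinite _) hQS)
    rw [hk] at h8 ⊢
    have : 4 ≤ k := by
      by_contra hk4
      have : 2 ^ k ≤ 2 ^ 3 := Nat.pow_le_pow_right two_pos (by omega)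
      omega
    exact le_trans (by norm_num) (Nat.pow_le_pow_right two_pos this)
  obtain ⟨m, hm⟩ := (S : Subgroup H).index_dvd_card
  have hmul : Nat.card (S : Subgroup H) * (S : Subgroup H).index = Nat.card H := Subgroup.card_mul_index _
  have hodd : ¬ 2 ∣ (S : Subgroup H).index := S.not_dvd_index
  have hi1 : (S : Subgroup H).index ≠ 1 := fun h => hns S (by
    rw [Subgroup.index_eq_one.mp h]; infer_instance)
  have hi0 : (S : Subgroup H).index ≠ 0 := Subgroup.index_ne_zero_of_finite
  have hidx : (S : Subgroup H).index = 3 ∧ Nat.card (S : Subgroup H) = 16 := by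
    have h3 : 3 ≤ (S : Subgroup H).index := by omega
    have hle3 : (S : Subgroup H).index ≤ 3 := by
      by_contra hh
      have := Nat.mul_le_mul h16 (show 4 ≤ (S : Subgroup H).index by omega)
      omega
    refine ⟨by omega, ?_⟩
    have := Nat.mul_le_mul_left (Nat.card (S : Subgroup H)) h3
    omega
  have hH : Nat.card H = 48 := by rw [← hmul, hidx.1, hidx.2]
  obtain ⟨c, hc⟩ := exists_prime_orderOf_dvd_card' (G := H) 3 (by rw [hH]; norm_num)
  have hc3 : c ^ 3 = 1 := by rw [← hc]; exact pow_orderOf_eq_one c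
  have hno3 : ∀ g ∈ Q, g ^ 3 = 1 → g = 1 := fun g hg h => by
    rw [← orderOf_eq_one_iff]
    have h1 := Subgroup.orderOf_dvd_natCard Q hg
    rw [hQcard] at h1
    exact Nat.eq_one_of_dvd_coprimes (by norm_num) (orderOf_dvd_of_pow_eq_one h) h1
  have hnc : ∀ d : H, d ^ 3 = 1 → d ≠ 1 → ∀ x ∈ Q, x * x ≠ 1 → d * x * d⁻¹ ≠ x := by
    intro d hd hd1 x hx hx4 hfix
    have hall := eq_self_of_fix e hd (fun q hq => Subgroup.Normal.conj_mem inferInstance q hq d) hx hx4 hfix
    exact hd1 (hno3 d (hCQ (Subgroup.mem_centralizer_iff.mpr fun q hq =>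
      (mul_inv_eq_iff_eq_mul.mp (hall q hq)).symm)) hd)
  -- the four Sylow 3-subgroups
  have hScard : ∀ P : Sylow 3 H, Nat.card (P : Subgroup H) = 3 := fun P => by
    rw [Sylow.card_eq_multiplicity, hH, show (48 : ℕ) = 2 ^ 4 * 3 ^ 1 by norm_num,
      Nat.factorization_mul (by norm_num) (by norm_num), Nat.Prime.factorization_pow Nat.prime_two,
      Nat.Prime.factorization_pow Nat.prime_three]
    simp
  have hgenP : ∀ P : Sylow 3 H, ∃ d : H, (P : Subgroup H) = Subgroup.zpowers d ∧ d ^ 3 = 1 ∧ d ≠ 1 := by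
    intro P
    obtain ⟨d, hd⟩ := exists_prime_orderOf_dvd_card' (G := (P : Subgroup H)) 3 (by rw [hScard])
    rw [← Subgroup.orderOf_coe] at hd
    refine ⟨d, ?_, by simpa [hd] using pow_orderOf_eq_one (d : H), fun h => by simp [h] at hd⟩
    refine (Subgroup.eq_of_le_of_card_ge (Subgroup.zpowers_le.mpr d.2) ?_).symm
    rw [hScard, Nat.card_zpowers, hd]
  have hnormQ : ∀ (P : Sylow 3 H), ∀ q ∈ Q, q ∈ Subgroup.normalizer ((P : Subgroup H) : Set H) →
      q * q = 1 := by
    intro P q hq hn
    by_contra h4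
    obtain ⟨d, hP, hd3, hd1⟩ := hgenP P
    have h1 : q * d * q⁻¹ * d⁻¹ ∈ (P : Subgroup H) :=
      mul_mem ((Subgroup.mem_normalizer_iff.mp hn d).mp (hP ▸ Subgroup.mem_zpowers d))
        (inv_mem (hP ▸ Subgroup.mem_zpowers d))
    have h2 : q * d * q⁻¹ * d⁻¹ ∈ Q := by
      rw [mul_assoc q, mul_assoc q]
      exact mul_mem hq (Subgroup.Normal.conj_mem inferInstance _ (inv_mem hq) d)
    have h0 := hno3 _ h2 (by
      rw [← orderOf_dvd_iff_pow_eq_one]
      exact (hScard P) ▸ Subgroup.orderOf_dvd_natCard (P : Subgroup H) h1)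
    refine hnc d hd3 hd1 q hq h4 ?_
    have h' : q * d = d * q := by
      have := mul_inv_eq_one.mp h0
      exact mul_inv_eq_iff_eq_mul.mp this
    rw [← h']; group
  have hznorm : ∀ (P : Sylow 3 H), z ∈ Subgroup.normalizer ((P : Subgroup H) : Set H) := fun P => by
    rw [Subgroup.mem_normalizer_iff]
    intro g
    rw [← hzc g, mul_inv_cancel_right]
  have hn4 : Nat.card (Sylow 3 H) = 4 := by
    obtain ⟨P⟩ : Nonempty (Sylow 3 H) := inferInstance
    have hN := Subgroup.card_mul_index (Subgroup.normalizer ((P : Subgroup H) : Set H))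
    have hiN : Nat.card (Sylow 3 H) = (Subgroup.normalizer ((P : Subgroup H) : Set H)).index :=
      Sylow.card_eq_index_normalizer P
    rw [← hiN, hH] at hN
    have hmod : Nat.card (Sylow 3 H) ≡ 1 [MOD 3] := card_sylow_modEq_one 3 H
    have hd3 : 3 ∣ Nat.card ↥(Subgroup.normalizer ((P : Subgroup H) : Set H)) :=
      by
        have := Subgroup.card_dvd_of_le (Subgroup.le_normalizer : (P : Subgroup H) ≤ _)
        rwa [hScard] at this
    have hd2 : 2 ∣ Nat.card ↥(Subgroup.normalizer ((P : Subgroup H) : Set H)) := by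
      have := Subgroup.orderOf_dvd_natCard _ (hznorm P)
      rwa [orderOf_eq_prime (by rw [pow_two]; exact hz2) hz1] at this
    have hne1 : Nat.card (Sylow 3 H) ≠ 1 := by
      intro h1
      obtain ⟨hsub⟩ := Nat.card_eq_one_iff_unique.mp h1
      haveI := Sylow.normal_of_subsingleton P
      obtain ⟨x, hx⟩ : ∃ x : H, x ∈ Q ∧ x * x ≠ 1 :=
        ⟨(e.symm w4 : Q), (e.symm w4).2, fun h => hw4 (by
          have := (hsq _ (e.symm w4).2).mp h
          simpa using this)⟩
      exact hx.2 (hnormQ P x hx.1 (by rw [Subgroup.normalizer_eq_top_iff.mpr (inferInstanceAs (P : Subgroup H).Normal)]; exact Subgroup.mem_top x))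
    obtain ⟨a, ha⟩ := Nat.Coprime.mul_dvd_of_dvd_of_dvd (by norm_num : Nat.Coprime 3 2) hd3 hd2
    rw [ha] at hN
    unfold Nat.ModEq at hmod
    have : Nat.card (Sylow 3 H) ∣ 8 := ⟨a, by linarith⟩
    have hle : Nat.card (Sylow 3 H) ≤ 8 := Nat.le_of_dvd (by norm_num) this
    interval_cases (Nat.card (Sylow 3 H)) <;> first | omega | rfl | (revert this; decide)
  let ε : Sylow 3 H ≃ Fin 4 := Nat.equivFinOfCardPos (by rw [hn4]; norm_num) |>.trans (finCongr hn4)
  let Φ : H →* Equiv.Perm (Fin 4) := (ε.permCongrHom).toMonoidHom.comp (MulAction.toPermHom H (Sylow 3 H))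
  have hΦ : ∀ g p, Φ g p = ε (g • ε.symm p) := fun g p => rfl
  have hfixP : ∀ g p, Φ g p = p ↔ g ∈ Subgroup.normalizer ((ε.symm p : Subgroup H) : Set H) := by
    intro g p
    rw [hΦ, ← ε.eq_symm_apply]
    exact Sylow.smul_eq_iff_mem_normalizer
  have hker : ∀ g, Φ g = 1 ↔ (g = 1 ∨ g = z) := by
    intro g
    constructor
    · intro hg
      set K := Φ.ker
      -- no element of order 3 lies in the kernel
      have h3 : ¬ 3 ∣ Nat.card K := by
        intro h
        obtain ⟨d, hd⟩ := exists_prime_orderOf_dvd_card' (G := K) 3 h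
        rw [← Subgroup.orderOf_coe] at hd
        have hP : ∀ P : Sylow 3 H, (d : H) ∈ (P : Subgroup H) := by
          intro P
          have hn : (d : H) ∈ Subgroup.normalizer ((P : Subgroup H) : Set H) := by
            have := (hfixP d (ε P)).mp (by rw [MonoidHom.mem_ker.mp d.2]; rfl)
            rwa [ε.symm_apply_apply] at this
          have hp : IsPGroup 3 (Subgroup.zpowers (d : H)) :=
            IsPGroup.iff_card.mpr ⟨1, by rw [Nat.card_zpowers, hd, pow_one]⟩
          have h1 := (hp.inf_normalizer_sylow P).le ⟨Subgroup.mem_zpowers _, hn⟩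
          exact h1.2
        have : ∀ P P' : Sylow 3 H, P = P' := fun P P' => by
          have e1 : ∀ R : Sylow 3 H, Subgroup.zpowers (d : H) = (R : Subgroup H) := fun R =>
            Subgroup.eq_of_le_of_card_ge (Subgroup.zpowers_le.mpr (hP R))
              (by rw [hScard, Nat.card_zpowers, hd])
          exact Sylow.ext ((e1 P).symm.trans (e1 P'))
        haveI : Subsingleton (Sylow 3 H) := ⟨this⟩
        have : Nat.card (Sylow 3 H) ≤ 1 := Finite.card_le_one_iff_subsingleton.mpr inferInstance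
        omega
      have hK2 : IsPGroup 2 K := by
        refine IsPGroup.iff_card.mpr ⟨_, Nat.eq_prime_pow_of_unique_prime_dvd Nat.card_pos.ne' fun {q} hq hdq => ?_⟩
        have : q ∣ 48 := hH ▸ hdq.trans (Subgroup.card_subgroup_dvd_card K)
        rcases (Nat.Prime.dvd_mul hq).mp (show q ∣ 2 ^ 4 * 3 by simpa using this) with h | h
        · exact (Nat.prime_dvd_prime_iff_eq hq Nat.prime_two).mp (hq.dvd_of_dvd_pow h)
        · exact absurd ((Nat.prime_dvd_prime_iff_eq hq Nat.prime_three).mp h ▸ hdq) h3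
      have hQ2 : ∀ x ∈ Q, x ∈ K → x = 1 ∨ x = z := fun x hx hxK =>
        hinvol x hx (hnormQ _ x hx ((hfixP x 0).mp (by rw [MonoidHom.mem_ker.mp hxK]; rfl)))
      -- the kernel centralises `Q` modulo the centre, and meets it in the centre
      have hgQ : g ∈ Q := by
        by_contra hgQ
        obtain ⟨P⟩ : Nonempty (Sylow 3 H) := inferInstance
        obtain ⟨d, hP, hd3, hd1⟩ := hgenP P
        obtain ⟨x, hxQ, hx4⟩ : ∃ x, x ∈ Q ∧ x * x ≠ 1 :=
          ⟨(e.symm w4 : Q), (e.symm w4).2, fun h => hw4 (by simpa using (hsq _ (e.symm w4).2).mp h)⟩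
        -- `g` maps `y` to `y` or `y⁻¹` for every `y` of order 4
        have hpm : ∀ y ∈ Q, g * y * g⁻¹ * y⁻¹ = 1 ∨ g * y * g⁻¹ * y⁻¹ = z := by
          intro y hy
          refine hQ2 _ (mul_mem (Subgroup.Normal.conj_mem inferInstance y hy g) (inv_mem hy)) ?_
          rw [mul_assoc g, mul_assoc g]
          exact mul_mem hg ((MonoidHom.normal_ker Φ).conj_mem _ (inv_mem hg) y)
        -- and commutes with an element of order 3 modulo the centre
        have hdg : d * g * d⁻¹ * g⁻¹ ∈ K :=
          mul_mem ((MonoidHom.normal_ker Φ).conj_mem g hg d) (inv_mem hg)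
        have hdn : g ∈ Subgroup.normalizer ((P : Subgroup H) : Set H) := by
          have := (hfixP g (ε P)).mp (by rw [show Φ g = 1 from hg]; rfl)
          rwa [ε.symm_apply_apply] at this
        have hdg2 : d * g * d⁻¹ * g⁻¹ ∈ (P : Subgroup H) := by
          rw [show d * g * d⁻¹ * g⁻¹ = d * (g * d⁻¹ * g⁻¹) by group]
          refine mul_mem (hP ▸ Subgroup.mem_zpowers d) ?_
          exact (Subgroup.mem_normalizer_iff.mp hdn _).mp (inv_mem (hP ▸ Subgroup.mem_zpowers d))
        have hcomm : d * g = g * d := by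
          have h1 := Subgroup.orderOf_dvd_natCard _ hdg
          have h2 := hScard P ▸ Subgroup.orderOf_dvd_natCard _ hdg2
          obtain ⟨k, hk⟩ := IsPGroup.iff_card.mp hK2
          rw [hk] at h1
          have := Nat.eq_one_of_dvd_coprimes (Nat.Coprime.pow_left k (by norm_num : Nat.Coprime 2 3)) h1 h2
          exact mul_inv_eq_iff_eq_mul.mp (mul_inv_eq_one.mp (orderOf_eq_one_iff.mp this))
        -- so the sign is the same on the three cyclic subgroups and is trivial
        refine hgQ (hCQ (Subgroup.mem_centralizer_iff.mpr fun y hy => ?_))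
        suffices h : g * y * g⁻¹ * y⁻¹ = 1 from (mul_inv_eq_iff_eq_mul.mp (mul_inv_eq_one.mp h)).symm
        set y2 := d * x * d⁻¹
        have hy2 : y2 ∈ Q := Subgroup.Normal.conj_mem inferInstance x hxQ d
        have hsame : g * y2 * g⁻¹ * y2⁻¹ = d * (g * x * g⁻¹ * x⁻¹) * d⁻¹ := by
          calc g * y2 * g⁻¹ * y2⁻¹ = (g * d) * x * (g * d)⁻¹ * (d * x⁻¹ * d⁻¹) := by
                simp only [y2]; group
            _ = (d * g) * x * (d * g)⁻¹ * (d * x⁻¹ * d⁻¹) := by rw [hcomm]
            _ = _ := by group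
        have hxy2 : x * y2 ≠ y2 * x := by
          intro h
          rcases f4 _ _ (fun hh => hx4 ((hsq x hxQ).mpr hh)) ((hcoe x y2 hxQ hy2).mp h) with hh | hh | hh | hh
          · have h0 : y2 = 1 := congrArg Subtype.val (e.injective (hh.trans (map_one e).symm))
            exact hx4 (by rw [conj_eq_one_iff.mp h0, mul_one])
          · exact hnc d hd3 hd1 x hxQ hx4 (congrArg Subtype.val (e.injective hh))
          · have h0 : y2 = x * x := congrArg Subtype.val (e.injective (hh.trans (map_mul e _ _).symm))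
            apply hx4
            have h1 : y2 * y2 = 1 := by
              rcases hinvol _ (mul_mem hxQ hxQ) (by
                have h4 : ∀ w : QuaternionGroup 2, w * w * (w * w) = 1 := by decide +kernel
                have := h4 (e ⟨x, hxQ⟩)
                rw [← map_mul, ← map_mul, ← map_one e] at this
                exact congrArg Subtype.val (e.injective this)) with h2 | h2
              · exact absurd h2 hx4
              · rw [h0, h2, hz2]
            rw [conj_mul] at h1
            exact conj_eq_one_iff.mp h1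
          · have h0 : y2 = x⁻¹ := congrArg Subtype.val (e.injective (hh.trans (map_inv e _).symm))
            -- then `d ^ 3` inverts `x`
            apply hx4
            have h1 : d * x⁻¹ * d⁻¹ = x := by rw [← conj_inv, ← show y2 = d * x * d⁻¹ from rfl, h0, inv_inv]
            have h3 : d ^ 3 * x * (d ^ 3)⁻¹ = x⁻¹ := by
              calc d ^ 3 * x * (d ^ 3)⁻¹ = d * (d * (d * x * d⁻¹) * d⁻¹) * d⁻¹ := by
                    simp [pow_succ, mul_assoc]
                _ = x⁻¹ := by rw [show d * x * d⁻¹ = x⁻¹ from h0, h1, show d * x * d⁻¹ = x⁻¹ from h0]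
            rw [hd3] at h3
            simp only [one_mul, inv_one, mul_one] at h3
            simpa using (congrArg (· * x) h3)
        set s := g * x * g⁻¹ * x⁻¹ with hs
        have hs' : d * s * d⁻¹ = s := by
          rcases hpm x hxQ with h | h <;> rw [hs, h]
          · group
          · rw [hzc]; group
        have hsc : ∀ w : H, w * s = s * w := fun w => by
          rcases hpm x hxQ with h | h <;> rw [hs, h]
          · simp
          · exact hzc w
        -- `g` multiplies `x * y2` by `s * s = 1`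
        have hprod : g * (x * y2) * g⁻¹ = x * y2 := by
          have e1 : g * x * g⁻¹ = s * x := by rw [hs]; group
          have e2 : g * y2 * g⁻¹ = s * y2 := by
            rw [← hs', ← hsame]; group
          rw [← conj_mul, e1, e2]
          have : s * s = 1 := by rcases hpm x hxQ with h | h <;> rw [hs, h]; · simp
                                 · exact hz2
          calc s * x * (s * y2) = s * (x * s) * y2 := by group
            _ = s * s * (x * y2) := by rw [hsc x]; group
            _ = x * y2 := by rw [this, one_mul]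
        have hw4' : (x * y2) * (x * y2) ≠ 1 := by
          intro h
          have h' := (hsq _ (mul_mem hxQ hy2)).mp h
          have hc' := f1 _ h' (e ⟨x, hxQ⟩)
          rw [← hcoe] at hc'
          apply hxy2
          calc x * y2 = x⁻¹ * (x * (x * y2)) := by group
            _ = x⁻¹ * (x * y2 * x) := by rw [hc']
            _ = y2 * x := by group
        have hcW : d * (x * y2) * d⁻¹ ≠ x * y2 := hnc d hd3 hd1 _ (mul_mem hxQ hy2) hw4'
        -- conjugating back, `g` fixes `x` as well
        have hgx : s = 1 := by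
          have e3 : g * (d * (x * y2) * d⁻¹) * g⁻¹ = d * (x * y2) * d⁻¹ := by
            calc g * (d * (x * y2) * d⁻¹) * g⁻¹ = (g * d) * (x * y2) * (g * d)⁻¹ := by group
              _ = (d * g) * (x * y2) * (d * g)⁻¹ := by rw [hcomm]
              _ = d * (g * (x * y2) * g⁻¹) * d⁻¹ := by group
              _ = _ := by rw [hprod]
          set w1 := x * y2
          set w2 := d * (x * y2) * d⁻¹
          have hw1 : w1 ∈ Q := mul_mem hxQ hy2
          have hw2 : w2 ∈ Q := Subgroup.Normal.conj_mem inferInstance _ hw1 d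
          by_contra hs1
          have hsz : s = z := (hpm x hxQ).resolve_left hs1
          -- `x` would commute with both `w1` and `w2`, or differ from both
          have hxw : ∀ w, w ∈ Q → g * w * g⁻¹ = w → w * w ≠ 1 → x * w ≠ w * x := by
            intro w hw hgw hw4 hcom
            rcases f4 _ _ (fun hh => hx4 ((hsq x hxQ).mpr hh)) ((hcoe x w hxQ hw).mp hcom) with hh | hh | hh | hh
            · exact hw4 (by rw [show w = 1 from congrArg Subtype.val (e.injective (hh.trans (map_one e).symm)), mul_one])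
            · rw [show w = x from congrArg Subtype.val (e.injective hh)] at hgw
              exact hs1 (by rw [hs, hgw, mul_inv_cancel])
            · have h0 : w = x * x := congrArg Subtype.val (e.injective (hh.trans (map_mul e _ _).symm))
              apply hw4
              have h4 : ∀ v : QuaternionGroup 2, v * v * (v * v) = 1 := by decide +kernel
              have := h4 (e ⟨x, hxQ⟩)
              rw [← map_mul, ← map_mul, ← map_one e] at this
              rw [h0]
              exact congrArg Subtype.val (e.injective this)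
            · rw [show w = x⁻¹ from congrArg Subtype.val (e.injective (hh.trans (map_inv e _).symm)),
                ← conj_inv, inv_inj] at hgw
              exact hs1 (by rw [hs, hgw, mul_inv_cancel])
          have hw24 : w2 * w2 ≠ 1 := by
            intro h
            apply hw4'
            rw [conj_mul] at h
            exact conj_eq_one_iff.mp h
          have hne12 : w1 * w2 ≠ w2 * w1 := by
            intro hcom
            rcases f4 _ _ (fun hh => hw4' ((hsq w1 hw1).mpr hh)) ((hcoe w1 w2 hw1 hw2).mp hcom) with hh | hh | hh | hh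
            · exact hw24 (by rw [show w2 = 1 from congrArg Subtype.val (e.injective (hh.trans (map_one e).symm)), mul_one])
            · exact hcW (congrArg Subtype.val (e.injective hh))
            · have h0 : w2 = w1 * w1 := congrArg Subtype.val (e.injective (hh.trans (map_mul e _ _).symm))
              apply hw24
              have h4 : ∀ v : QuaternionGroup 2, v * v * (v * v) = 1 := by decide +kernel
              have := h4 (e ⟨w1, hw1⟩)
              rw [← map_mul, ← map_mul, ← map_one e] at this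
              rw [h0]
              exact congrArg Subtype.val (e.injective this)
            · have h0 : d * w1 * d⁻¹ = w1⁻¹ := congrArg Subtype.val (e.injective (hh.trans (map_inv e _).symm))
              apply hw4'
              have h3 : d ^ 3 * w1 * (d ^ 3)⁻¹ = w1⁻¹ := by
                calc d ^ 3 * w1 * (d ^ 3)⁻¹ = d * (d * (d * w1 * d⁻¹) * d⁻¹) * d⁻¹ := by
                      simp [pow_succ, mul_assoc]
                  _ = _ := by rw [h0, ← conj_inv, h0, inv_inv, h0]
              rw [hd3] at h3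
              simp only [one_mul, inv_one, mul_one] at h3
              exact mul_eq_one_iff_eq_inv.mpr h3
          rcases f3 _ _ _ (fun hh => hne12 ((hcoe w1 w2 hw1 hw2).mpr hh))
            (fun hh => hxw w1 hw1 hprod hw4' ((hcoe x w1 hxQ hw1).mpr hh.symm))
            (fun hh => hxw w2 hw2 e3 hw24 ((hcoe x w2 hxQ hw2).mpr hh.symm)) with hh | hh
          · apply hs1
            rw [hs, show x = w1 * w2 from congrArg Subtype.val (e.injective (hh.trans (map_mul e _ _).symm)),
              ← conj_mul, hprod, e3, mul_inv_cancel]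
          · apply hs1
            have h0 : x = (w1 * w2)⁻¹ :=
              congrArg Subtype.val (e.injective (hh.trans (by rw [← map_mul, ← map_inv])))
            rw [hs, h0, ← conj_inv, ← conj_mul, hprod, e3, mul_inv_cancel]
        have e1 : g * x * g⁻¹ = x := by rw [hgx] at hs; exact mul_inv_eq_one.mp hs.symm
        have e2 : g * y2 * g⁻¹ = y2 := mul_inv_eq_one.mp (by rw [hsame, hgx]; group)
        obtain ⟨-, a2, -, -⟩ := f2 _ _ (fun hh => hx4 ((hsq x hxQ).mpr hh))
          (fun hh => hxy2 ((hcoe x y2 hxQ hy2).mpr hh))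
        by_cases hxy : x * y = y * x
        · rcases f4 _ _ (fun hh => hx4 ((hsq x hxQ).mpr hh)) ((hcoe x y hxQ hy).mp hxy) with hh | hh | hh | hh
          · rw [show y = 1 from congrArg Subtype.val (e.injective (hh.trans (map_one e).symm))]; simp
          · rw [show y = x from congrArg Subtype.val (e.injective hh), e1, mul_inv_cancel]
          · rw [show y = x * x from congrArg Subtype.val (e.injective (hh.trans (map_mul e _ _).symm)),
              ← conj_mul, e1, mul_inv_cancel]
          · rw [show y = x⁻¹ from congrArg Subtype.val (e.injective (hh.trans (map_inv e _).symm)),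
              ← conj_inv, e1, mul_inv_cancel]
        by_cases hy2y : y2 * y = y * y2
        · rcases f4 _ _ (fun hh => hx4 (by
              have h0 := (hsq y2 hy2).mpr hh
              rw [conj_mul] at h0
              exact conj_eq_one_iff.mp h0)) ((hcoe y2 y hy2 hy).mp hy2y) with hh | hh | hh | hh
          · rw [show y = 1 from congrArg Subtype.val (e.injective (hh.trans (map_one e).symm))]; simp
          · rw [show y = y2 from congrArg Subtype.val (e.injective hh), e2, mul_inv_cancel]
          · rw [show y = y2 * y2 from congrArg Subtype.val (e.injective (hh.trans (map_mul e _ _).symm)),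
              ← conj_mul, e2, mul_inv_cancel]
          · rw [show y = y2⁻¹ from congrArg Subtype.val (e.injective (hh.trans (map_inv e _).symm)),
              ← conj_inv, e2, mul_inv_cancel]
        rcases f3 _ _ _ (fun hh => hxy2 ((hcoe x y2 hxQ hy2).mpr hh))
          (fun hh => hxy ((hcoe x y hxQ hy).mpr hh)) (fun hh => hy2y ((hcoe y2 y hy2 hy).mpr hh)) with hh | hh
        · rw [show y = x * y2 from congrArg Subtype.val (e.injective (hh.trans (map_mul e _ _).symm)),
            hprod, mul_inv_cancel]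
        · have h0 : y = (x * y2)⁻¹ :=
            congrArg Subtype.val (e.injective (hh.trans (by rw [← map_mul, ← map_inv])))
          rw [h0, ← conj_inv, hprod, mul_inv_cancel]
      exact hQ2 g hgQ hg
    · rintro (rfl | rfl)
      · exact map_one Φ
      · ext p
        exact congrArg Fin.val ((hfixP z p).mpr (hznorm _))
  have hkcard : Nat.card Φ.ker = 2 := by
    rw [Nat.card_eq_two_iff]
    refine ⟨1, ⟨z, MonoidHom.mem_ker.mpr ((hker z).mpr (Or.inr rfl))⟩, fun h => hz1 ?_, ?_⟩
    · exact (congrArg Subtype.val h).symm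
    · ext x
      simp only [Set.mem_insert_iff, Set.mem_singleton_iff, Set.mem_univ, iff_true]
      rcases (hker x).mp (MonoidHom.mem_ker.mp x.2) with h | h
      · exact Or.inl (Subtype.ext h)
      · exact Or.inr (Subtype.ext h)
  have hsurj : Function.Surjective Φ := by
    have h1 := Φ.ker.card_mul_index
    rw [Subgroup.index_ker, hkcard, hH] at h1
    rw [← MonoidHom.range_eq_top]
    refine Subgroup.eq_top_of_card_eq _ ?_
    rw [Nat.card_perm, Nat.card_fin, show Nat.factorial 4 = 24 from rfl]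
    omega
  have hcenter : Subgroup.center H = Φ.ker := by
    refine le_antisymm (fun g hg => ?_) fun g hg => ?_
    · refine MonoidHom.mem_ker.mpr ((hker g).mpr (hinvol g ?_ ?_))
      · exact hCQ (Subgroup.mem_centralizer_iff.mpr fun x _ => Subgroup.mem_center_iff.mp hg x)
      · have hgQ := hCQ (Subgroup.mem_centralizer_iff.mpr fun x _ => Subgroup.mem_center_iff.mp hg x)
        by_contra h4
        obtain ⟨y, hy⟩ := f8 _ (fun hh => h4 ((hsq g hgQ).mpr hh))
        refine hy ?_
        have := (hcoe g _ hgQ (e.symm y).2).mp (Subgroup.mem_center_iff.mp hg _).symm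
        simpa using this
    · rcases (hker g).mp (MonoidHom.mem_ker.mp hg) with rfl | rfl
      · exact one_mem _
      · exact Subgroup.mem_center_iff.mpr hzc
  by_cases hinv : ∃ t : H, t * t = 1 ∧ t ≠ 1 ∧ t ≠ z
  · left
    obtain ⟨t, ht2, ht1, htz⟩ := hinv
    have htQ : t ∉ Q := fun h => (hinvol t h ht2).elim ht1 htz
    -- `t` normalises some Sylow 3-subgroup
    obtain ⟨p, hp⟩ : ∃ p, Φ t p = p := by
      by_contra hcon
      push Not at hcon
      obtain ⟨x, hx, hx4⟩ : ∃ x, x ∈ Q ∧ x * x ≠ 1 :=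
        ⟨(e.symm w4 : Q), (e.symm w4).2, fun h => hw4 (by simpa using (hsq _ (e.symm w4).2).mp h)⟩
      obtain ⟨y, hy⟩ := f8 _ (fun hh => hx4 ((hsq x hx).mpr hh))
      obtain ⟨-, -, -, hy4⟩ := f2 _ _ (fun hh => hx4 ((hsq x hx).mpr hh)) hy
      set y' : H := ((e.symm y : Q) : H)
      have hy'4 : y' * y' ≠ 1 := fun h => hy4 (by simpa using (hsq _ (e.symm y).2).mp h)
      have himg : ∀ q ∈ Q, q * q ≠ 1 → (∀ p, Φ q p ≠ p) ∧ Φ q * Φ q = 1 := by
        intro q hq hq4
        refine ⟨fun p hp => hq4 (hnormQ _ q hq ((hfixP q p).mp hp)), ?_⟩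
        rw [← map_mul, hker]
        refine hinvol _ (mul_mem hq hq) ?_
        have h4 : ∀ v : QuaternionGroup 2, v * v * (v * v) = 1 := by decide +kernel
        have := h4 (e ⟨q, hq⟩)
        rw [← map_mul, ← map_mul, ← map_one e] at this
        exact congrArg Subtype.val (e.injective this)
      obtain ⟨ha1, ha2⟩ := himg x hx hx4
      obtain ⟨hb1, hb2⟩ := himg y' (e.symm y).2 hy'4
      have hab : Φ x ≠ Φ y' := by
        intro h
        have h1 : Φ (x⁻¹ * y') = 1 := by rw [map_mul, map_inv, h, inv_mul_cancel]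
        refine hy ?_
        have hcom : x * y' = y' * x := by
          rcases (hker _).mp h1 with hh | hh
          · rw [← inv_mul_eq_one.mp hh]
          · rw [inv_mul_eq_iff_eq_mul.mp hh, mul_assoc, ← hzc x]
        have := (hcoe x y' hx (e.symm y).2).mp hcom
        simpa [y'] using this
      have hmem : ∀ q ∈ Q, Φ t = Φ q → False := by
        intro q hq h
        have h1 : Φ (q⁻¹ * t) = 1 := by rw [map_mul, map_inv, h, inv_mul_cancel]
        rcases (hker _).mp h1 with hh | hh
        · exact htQ (inv_mul_eq_one.mp hh ▸ hq)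
        · exact htQ (inv_mul_eq_iff_eq_mul.mp hh ▸ mul_mem hq hzQ)
      rcases fpf_involutions_fin_four (Φ t) (Φ x) (Φ y') (Φ (x * y')) hcon
        (by rw [← map_mul, ht2, map_one]) ha1 ha2 hb1 hb2 hab (map_mul Φ _ _) with h | h | h
      · exact hmem x hx h
      · exact hmem y' (e.symm y).2 h
      · exact hmem _ (mul_mem hx (e.symm y).2) h
    obtain ⟨d, hP, hd3, hd1⟩ := hgenP (ε.symm p)
    have htn := (hfixP t p).mp hp
    have htd : t * d * t⁻¹ = d ∨ t * d * t⁻¹ = d⁻¹ := by
      have h := (Subgroup.mem_normalizer_iff.mp htn d).mp (hP ▸ Subgroup.mem_zpowers d)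
      have hod : orderOf d = 3 := orderOf_eq_prime hd3 hd1
      rw [hP, IsOfFinOrder.mem_zpowers_iff_mem_range_orderOf (isOfFinOrder_of_finite d)] at h
      simp only [hod, Finset.mem_image, Finset.mem_range] at h
      obtain ⟨k, hk, hk'⟩ := h
      interval_cases k
      · exfalso
        rw [pow_zero] at hk'
        exact hd1 (conj_eq_one_iff.mp hk'.symm)
      · left; rw [← hk', pow_one]
      · right
        rw [← hk']
        exact eq_inv_of_mul_eq_one_left (by rw [← pow_succ, hd3])
    -- pick the cyclic subgroup of order 4 normalised by `t`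
    have hQc : ∀ g : H, ∀ q ∈ Q, g * q * g⁻¹ ∈ Q := fun g q hq =>
      Subgroup.Normal.conj_mem inferInstance q hq g
    have h44 : ∀ q ∈ Q, q ^ 4 = 1 := fun q hq => by
      have h4 : ∀ v : QuaternionGroup 2, v ^ 4 = 1 := by decide +kernel
      have := h4 (e ⟨q, hq⟩)
      rw [← map_pow, ← map_one e] at this
      exact congrArg Subtype.val (e.injective this)
    -- the basic pair facts, transported
    have g2 : ∀ a b, a ∈ Q → b ∈ Q → a * a ≠ 1 → a * b ≠ b * a →
        b * b = a * a ∧ b * a * b⁻¹ = a⁻¹ ∧ b * b ≠ 1 := by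
      intro a b ha hb ha4 hab
      obtain ⟨r1, r2, -, r4⟩ := f2 _ _ (fun hh => ha4 ((hsq a ha).mpr hh))
        (fun hh => hab ((hcoe a b ha hb).mpr hh))
      refine ⟨?_, ?_, fun h => r4 ((hsq b hb).mp h)⟩
      · rw [← map_mul, ← map_mul] at r1
        exact congrArg Subtype.val (e.injective r1)
      · rw [← map_mul, ← map_inv, ← map_mul, ← map_inv] at r2
        exact congrArg Subtype.val (e.injective r2)
    have g3 : ∀ a b w, a ∈ Q → b ∈ Q → w ∈ Q → a * b ≠ b * a → a * w ≠ w * a → b * w ≠ w * b →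
        w = a * b ∨ w = (a * b)⁻¹ := by
      intro a b w ha hb hw h1 h2 h3
      rcases f3 _ _ _ (fun hh => h1 ((hcoe a b ha hb).mpr hh))
        (fun hh => h2 ((hcoe a w ha hw).mpr hh)) (fun hh => h3 ((hcoe b w hb hw).mpr hh)) with hh | hh
      · exact Or.inl (congrArg Subtype.val (e.injective (hh.trans (map_mul e _ _).symm)))
      · exact Or.inr (congrArg Subtype.val (e.injective (hh.trans (by rw [← map_mul, ← map_inv]))))
    have g4 : ∀ a b, a ∈ Q → b ∈ Q → a * a ≠ 1 → b * b ≠ 1 → a * b = b * a → b = a ∨ b = a⁻¹ := by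
      intro a b ha hb ha4 hb4 hab
      rcases f4 _ _ (fun hh => ha4 ((hsq a ha).mpr hh)) ((hcoe a b ha hb).mp hab) with hh | hh | hh | hh
      · exact absurd (show b * b = 1 by
          rw [show b = 1 from congrArg Subtype.val (e.injective (hh.trans (map_one e).symm)), mul_one]) hb4
      · exact Or.inl (congrArg Subtype.val (e.injective hh))
      · refine absurd ?_ hb4
        rw [show b = a * a from congrArg Subtype.val (e.injective (hh.trans (map_mul e _ _).symm))]
        rw [← h44 a ha]; simp [pow_succ, mul_assoc]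
      · exact Or.inr (congrArg Subtype.val (e.injective (hh.trans (map_inv e _).symm)))
    obtain ⟨i0, hi0, hi04⟩ : ∃ x, x ∈ Q ∧ x * x ≠ 1 :=
      ⟨(e.symm w4 : Q), (e.symm w4).2, fun h => hw4 (by simpa using (hsq _ (e.symm w4).2).mp h)⟩
    obtain ⟨i, hi, hi4, hit⟩ : ∃ i, i ∈ Q ∧ i * i ≠ 1 ∧ (t * i * t⁻¹ = i ∨ t * i * t⁻¹ = i⁻¹) := by
      have ht' : t⁻¹ = t := inv_eq_of_mul_eq_one_right ht2
      have hi1 : t * i0 * t⁻¹ * (t * i0 * t⁻¹) ≠ 1 := fun h => hi04 (by
        rw [conj_mul] at h; exact conj_eq_one_iff.mp h)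
      by_cases hcom : i0 * (t * i0 * t⁻¹) = t * i0 * t⁻¹ * i0
      · exact ⟨i0, hi0, hi04, g4 _ _ hi0 (hQc t i0 hi0) hi04 hi1 hcom⟩
      obtain ⟨r1, r2, -⟩ := g2 _ _ hi0 (hQc t i0 hi0) hi04 hcom
      refine ⟨i0 * (t * i0 * t⁻¹), mul_mem hi0 (hQc t i0 hi0), ?_, Or.inr ?_⟩
      · intro h
        apply hcom
        have hc := f1 _ ((hsq _ (mul_mem hi0 (hQc t i0 hi0))).mp h) (e ⟨i0, hi0⟩)
        rw [← hcoe] at hc
        calc i0 * (t * i0 * t⁻¹) = i0⁻¹ * (i0 * (i0 * (t * i0 * t⁻¹))) := by group
          _ = i0⁻¹ * (i0 * (t * i0 * t⁻¹) * i0) := by rw [hc]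
          _ = _ := by group
      · set j0 := t * i0 * t⁻¹
        have hj : t * j0 * t⁻¹ = i0 := by
          simp only [j0]; rw [ht']; calc t * (t * i0 * t) * t = (t * t) * i0 * (t * t) := by group
            _ = i0 := by rw [ht2]; group
        rw [← conj_mul, show t * i0 * t⁻¹ = j0 from rfl, hj]
        -- `j0 * i0 = (i0 * j0)⁻¹`
        have : j0 * i0 * (i0 * j0) = 1 := by
          calc j0 * i0 * (i0 * j0) = j0 * (i0 * i0) * j0 := by group
            _ = j0 * (j0 * j0) * j0 := by rw [r1]
            _ = j0 ^ 4 := by simp [pow_succ, mul_assoc]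
            _ = 1 := h44 _ (hQc t i0 hi0)
        exact eq_inv_of_mul_eq_one_left this
    -- the images of `i` under `d`
    set j := d * i * d⁻¹ with hjdef
    have hj : j ∈ Q := hQc d i hi
    have hj4 : j * j ≠ 1 := fun h => hi4 (by rw [hjdef, conj_mul] at h; exact conj_eq_one_iff.mp h)
    have hij : i * j ≠ j * i := by
      intro hcom
      rcases g4 i j hi hj hi4 hj4 hcom with h | h
      · exact hnc d hd3 hd1 i hi hi4 h
      · apply hi4
        have h3 : d ^ 3 * i * (d ^ 3)⁻¹ = i⁻¹ := by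
          calc d ^ 3 * i * (d ^ 3)⁻¹ = d * (d * (d * i * d⁻¹) * d⁻¹) * d⁻¹ := by simp [pow_succ, mul_assoc]
            _ = _ := by rw [← hjdef, h, ← conj_inv, ← hjdef, h, inv_inv, ← hjdef, h]
        rw [hd3] at h3
        simp only [one_mul, inv_one, mul_one] at h3
        exact mul_eq_one_iff_eq_inv.mpr h3
    set k := d * j * d⁻¹ with hkdef
    have hk : k ∈ Q := hQc d j hj
    have hdk : d * k * d⁻¹ = i := by
      rw [hkdef, hjdef]
      calc d * (d * (d * i * d⁻¹) * d⁻¹) * d⁻¹ = d ^ 3 * i * (d ^ 3)⁻¹ := by simp [pow_succ, mul_assoc]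
        _ = i := by rw [hd3]; simp
    have hjk : j * k ≠ k * j := fun h => hij (by
      have h' : d * (i * j) * d⁻¹ = d * (j * i) * d⁻¹ := conj_mul.symm.trans (h.trans conj_mul)
      simpa using h')
    have hki : i * k ≠ k * i := fun h => hij (by
      have h' : d * i * d⁻¹ * (d * k * d⁻¹) = d * k * d⁻¹ * (d * i * d⁻¹) := by
        rw [conj_mul, conj_mul, h]
      rw [hdk] at h'
      exact h'.symm)
    -- `t` inverts `d`
    have htd' : t * d * t⁻¹ = d⁻¹ := by
      refine htd.resolve_left fun h => htQ (hCQ (Subgroup.mem_centralizer_iff.mpr fun y hy => ?_))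
      have hcom : t * d = d * t := mul_inv_eq_iff_eq_mul.mp h
      have hconj : ∀ w, t * (d * w * d⁻¹) * t⁻¹ = d * (t * w * t⁻¹) * d⁻¹ := fun w => by
        calc t * (d * w * d⁻¹) * t⁻¹ = (t * d) * w * (t * d)⁻¹ := by group
          _ = (d * t) * w * (d * t)⁻¹ := by rw [hcom]
          _ = _ := by group
      have hti' : t * i * t⁻¹ = i := by
        refine hit.resolve_right fun hneg => ?_
        have hj' : t * j * t⁻¹ = j⁻¹ := by rw [hjdef, hconj, hneg, conj_inv]
        have hk' : t * k * t⁻¹ = k⁻¹ := (hconj j).trans (by rw [hj']; exact conj_inv.symm)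
        rcases g3 i j k hi hj hk hij hki hjk with hh | hh
        · rw [hh, ← conj_mul, hneg, hj', mul_inv_rev] at hk'
          exact hij (by
            have := congrArg (·⁻¹) hk'
            simp only [mul_inv_rev, inv_inv] at this
            exact this.symm)
        · rw [hh, ← conj_inv, ← conj_mul, hneg, hj', inv_inv] at hk'
          exact hij (by
            simp only [mul_inv_rev, inv_inv] at hk'
            exact hk'.symm)
      have hj' : t * j * t⁻¹ = j := by rw [hjdef, hconj, hti']
      symm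
      refine mul_inv_eq_iff_eq_mul.mp ?_
      by_cases h1 : i * y = y * i
      · rcases f4 _ _ (fun hh => hi4 ((hsq i hi).mpr hh)) ((hcoe i y hi hy).mp h1) with hh | hh | hh | hh
        · rw [show y = 1 from congrArg Subtype.val (e.injective (hh.trans (map_one e).symm))]; simp
        · rw [show y = i from congrArg Subtype.val (e.injective hh)]; exact hti'
        · rw [show y = i * i from congrArg Subtype.val (e.injective (hh.trans (map_mul e _ _).symm)),
            ← conj_mul, hti']
        · rw [show y = i⁻¹ from congrArg Subtype.val (e.injective (hh.trans (map_inv e _).symm)),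
            ← conj_inv, hti']
      by_cases h2 : j * y = y * j
      · rcases f4 _ _ (fun hh => hj4 ((hsq j hj).mpr hh)) ((hcoe j y hj hy).mp h2) with hh | hh | hh | hh
        · rw [show y = 1 from congrArg Subtype.val (e.injective (hh.trans (map_one e).symm))]; simp
        · rw [show y = j from congrArg Subtype.val (e.injective hh)]; exact hj'
        · rw [show y = j * j from congrArg Subtype.val (e.injective (hh.trans (map_mul e _ _).symm)),
            ← conj_mul, hj']
        · rw [show y = j⁻¹ from congrArg Subtype.val (e.injective (hh.trans (map_inv e _).symm)),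
            ← conj_inv, hj']
      rcases g3 i j y hi hj hy hij h1 h2 with hh | hh
      · rw [hh, ← conj_mul, hti', hj']
      · rw [hh, ← conj_inv, ← conj_mul, hti', hj']
    have htd'' : t * d = d⁻¹ * t := mul_inv_eq_iff_eq_mul.mp htd'
    have hconj : ∀ w, t * (d * w * d⁻¹) * t⁻¹ = d⁻¹ * (t * w * t⁻¹) * d := fun w => by
      calc t * (d * w * d⁻¹) * t⁻¹ = (t * d) * w * (t * d)⁻¹ := by group
        _ = (d⁻¹ * t) * w * (d⁻¹ * t)⁻¹ := by rw [htd'']
        _ = _ := by group
    have hdik : d⁻¹ * i * d = k := by rw [← hdk]; group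
    have hneg : t * i * t⁻¹ = i⁻¹ := by
      refine hit.resolve_left fun hpos => ?_
      have htj : t * j * t⁻¹ = k := by rw [hjdef, hconj, hpos, hdik]
      have htk : t * k * t⁻¹ = j := by
        rw [← htj]
        calc t * (t * j * t⁻¹) * t⁻¹ = (t * t) * j * (t * t)⁻¹ := by group
          _ = j := by rw [ht2]; group
      obtain ⟨r1, r2, -⟩ := g2 i j hi hj hi4 hij
      rcases g3 i j k hi hj hk hij hki hjk with hh | hh
      · rw [hh, ← conj_mul, hpos, htj, hh] at htk
        refine hi4 ?_
        calc i * i = i * (i * j) * j⁻¹ := by group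
          _ = j * j⁻¹ := by rw [htk]
          _ = 1 := mul_inv_cancel j
      · rw [hh, ← conj_inv, ← conj_mul, hpos, htj, hh] at htk
        simp only [mul_inv_rev, inv_inv] at htk
        refine hi4 ?_
        have hjij : j * i * j⁻¹ = i⁻¹ := r2
        calc i * i = i * i * (j * j⁻¹) := by group
          _ = (i * j * (i * j⁻¹)⁻¹) * 1 * (i * (j⁻¹ * j⁻¹)⁻¹⁻¹ * i) * 1 := by group
          _ = 1 := by
            have : j * i = i⁻¹ * j := mul_inv_eq_iff_eq_mul.mp hjij
            have h2 : i * j * i⁻¹ = j := htk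
            have : i * j = j * i := mul_inv_eq_iff_eq_mul.mp h2
            exact absurd this hij
    -- normalise the sign
    obtain ⟨i', j', hi', hj', hi'4, hij', hji', hci, hcj, hti, htj⟩ : ∃ i' j', i' ∈ Q ∧ j' ∈ Q ∧
        i' * i' ≠ 1 ∧ i' * j' ≠ j' * i' ∧ True ∧ d * i' * d⁻¹ = j' ∧ d * j' * d⁻¹ = i' * j' ∧
        t * i' * t⁻¹ = i'⁻¹ ∧ t * j' * t⁻¹ = (i' * j')⁻¹ := by
      obtain ⟨r1, r2, -⟩ := g2 i j hi hj hi4 hij
      rcases g3 i j k hi hj hk hij hki hjk with hh | hh
      · refine ⟨i, j, hi, hj, hi4, hij, trivial, rfl, hh, hneg, ?_⟩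
        rw [hjdef, hconj, hneg, ← hjdef, ← hh, ← hdik]
        group
      · have e1 : i⁻¹ * j⁻¹ = (j * i)⁻¹ := (mul_inv_rev j i).symm
        have e2 : i⁻¹ * j⁻¹ = i * j := by
          have hz' : i * i = j * j := r1.symm
          calc i⁻¹ * j⁻¹ = i⁻¹ * (i * i * (i * i)) * j⁻¹ := by
                rw [show i * i * (i * i) = 1 from by rw [← h44 i hi]; simp [pow_succ, mul_assoc], mul_one]
            _ = i * (i * i) * j⁻¹ := by group
            _ = i * (j * j) * j⁻¹ := by rw [hz']
            _ = i * j := by group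
        refine ⟨i⁻¹, j⁻¹, inv_mem hi, inv_mem hj, fun h => hi4 ?_, fun h => hij ?_, trivial, ?_, ?_, ?_, ?_⟩
        · have := congrArg (·⁻¹) h; simpa using this
        · have := congrArg (·⁻¹) h; simp at this; exact this.symm
        · rw [← conj_inv]
        · rw [← conj_inv, ← hkdef, hh, inv_inv, e2]
        · rw [← conj_inv, hneg]
        · rw [← conj_inv, hjdef, hconj, hneg, ← hjdef, e2]
          rw [show d⁻¹ * i⁻¹ * d = (d⁻¹ * i * d)⁻¹ by group, hdik, inv_inv, hh]
    obtain ⟨r1, r2, -⟩ := g2 i' j' hi' hj' hi'4 hij'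
    have hrel : Rel i' j' d t :=
      ⟨h44 i' hi', r1, r2, hd3, hci, hcj, ht2, hti, htj, htd'⟩
    refine iso_of_rel hH ?_ ?_ gl_gen hrel gl_rel
    · rw [Matrix.card_GL_field]
      simp [Fin.prod_univ_two]
    -- the closure is everything
    set C := Subgroup.closure ({i', j', d, t} : Set H) with hC
    set C3 := Subgroup.closure ({i', j'} : Set H) ⊔ Subgroup.zpowers d
    have hQC : Q ≤ C3 := by
      intro y hy
      have hiC : i' ∈ C3 := Subgroup.mem_sup_left (Subgroup.subset_closure (by simp))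
      have hjC : j' ∈ C3 := Subgroup.mem_sup_left (Subgroup.subset_closure (by simp))
      by_cases hy4 : y * y = 1
      · rcases hinvol y hy hy4 with rfl | rfl
        · exact one_mem _
        · have : i' * i' = z := (hinvol _ (mul_mem hi' hi') (by
            rw [← h44 i' hi']; simp [pow_succ, mul_assoc])).resolve_left hi'4
          exact this ▸ mul_mem hiC hiC
      by_cases h1 : i' * y = y * i'
      · rcases g4 i' y hi' hy hi'4 hy4 h1 with rfl | rfl
        · exact hiC
        · exact inv_mem hiC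
      by_cases h2 : j' * y = y * j'
      · rcases g4 j' y hj' hy (fun h => hi'4 (by rw [← r1, h])) hy4 h2 with rfl | rfl
        · exact hjC
        · exact inv_mem hjC
      rcases g3 i' j' y hi' hj' hy hij' h1 h2 with rfl | rfl
      · exact mul_mem hiC hjC
      · exact inv_mem (mul_mem hiC hjC)
    have hC3C : C3 ≤ C := sup_le (Subgroup.closure_mono (by intro x hx; rcases hx with rfl | rfl <;> simp))
      (Subgroup.zpowers_le.mpr (Subgroup.subset_closure (by simp)))
    have hlt : C3 < C := by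
      refine lt_of_le_of_ne hC3C fun heq => htQ ?_
      have htC : t ∈ C3 := heq ▸ Subgroup.subset_closure (by simp)
      have h24 := card_three_le hrel
      have hdd : Nat.card Q ∣ Nat.card C3 := Subgroup.card_dvd_of_le hQC
      have h3d : 3 ∣ Nat.card C3 := by
        rw [← orderOf_eq_prime hd3 hd1]
        exact Subgroup.orderOf_dvd_natCard C3 (Subgroup.mem_sup_right (Subgroup.mem_zpowers d))
      rw [hQcard] at hdd
      have h24' : Nat.card C3 = 24 := by
        have := Nat.le_of_dvd Nat.card_pos (Nat.Coprime.mul_dvd_of_dvd_of_dvd (by norm_num : Nat.Coprime 8 3) hdd h3d)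
        change Nat.card C3 ≤ 24 at h24
        omega
      -- a 2-subgroup of `C3` containing `Q` is `Q`
      have hp : IsPGroup 2 ↥(Subgroup.zpowers t) :=
        IsPGroup.iff_card.mpr ⟨1, by rw [Nat.card_zpowers, orderOf_eq_prime (by rw [pow_two, ht2]) ht1, pow_one]⟩
      have hU := IsPGroup.to_sup_of_normal_right hp
        (IsPGroup.iff_card.mpr ⟨3, by rw [hQcard]; norm_num⟩ : IsPGroup 2 Q)
      obtain ⟨n, hn⟩ := IsPGroup.iff_card.mp hU
      have hd24 : Nat.card ↥(Subgroup.zpowers t ⊔ Q) ∣ 24 :=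
        h24' ▸ Subgroup.card_dvd_of_le (sup_le (Subgroup.zpowers_le.mpr htC) hQC)
      have h8n : Nat.card Q ≤ Nat.card ↥(Subgroup.zpowers t ⊔ Q) :=
        Nat.card_mono (Set.toFinite _) (le_sup_right : Q ≤ Subgroup.zpowers t ⊔ Q)
      rw [hn] at hd24 h8n
      have : n ≤ 3 := by
        by_contra hh
        exact absurd (dvd_trans (Nat.pow_dvd_pow 2 (show 4 ≤ n by omega)) hd24) (by norm_num)
      have hQU := Subgroup.eq_of_le_of_card_ge (le_sup_right : Q ≤ Subgroup.zpowers t ⊔ Q)
        (by rw [hn, hQcard]; exact le_trans (Nat.pow_le_pow_right two_pos this) (by norm_num))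
      rw [hQU]
      exact Subgroup.mem_sup_left (Subgroup.mem_zpowers t)
    have hcardlt := Set.Finite.card_lt_card (Set.toFinite _) hlt
    have h8 : 8 ∣ Nat.card C3 := hQcard ▸ Subgroup.card_dvd_of_le hQC
    have h3d : 3 ∣ Nat.card C3 := by
      rw [← orderOf_eq_prime hd3 hd1]
      exact Subgroup.orderOf_dvd_natCard C3 (Subgroup.mem_sup_right (Subgroup.mem_zpowers d))
    have h24 : 24 ≤ Nat.card C3 :=
      Nat.le_of_dvd Nat.card_pos (Nat.Coprime.mul_dvd_of_dvd_of_dvd (by norm_num : Nat.Coprime 8 3) h8 h3d)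
    refine Subgroup.eq_top_of_card_eq _ ?_
    obtain ⟨q, hq⟩ := hH ▸ Subgroup.card_subgroup_dvd_card C
    rw [hH]
    change Nat.card C3 < Nat.card C at hcardlt
    have : q = 1 := by
      rcases q with _ | _ | q
      · simp at hq
      · rfl
      · have : (q + 1 + 1) * Nat.card C ≥ 2 * 25 := Nat.mul_le_mul (by omega) (by omega)
        rw [mul_comm] at hq
        omega
    rw [this, mul_one] at hq
    exact hq.symm
  · right
    push Not at hinv
    refine ⟨hH, by rw [hcenter, hkcard], ⟨(QuotientGroup.quotientMulEquivOfEq hcenter).trans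
      (QuotientGroup.quotientKerEquivOfSurjective Φ hsurj)⟩, fun P => ?_⟩
    have hcard : Nat.card (P : Subgroup H) = 16 := by
      rw [Sylow.card_eq_multiplicity, ← Sylow.card_eq_multiplicity S, hidx.2]
    have huniq : ∀ U V : Subgroup (P : Subgroup H), Nat.card U = 2 → Nat.card V = 2 → U = V := by
      intro U V hU hV
      have key : ∀ W : Subgroup (P : Subgroup H), Nat.card W = 2 →
          ∀ w ∈ W, w ≠ 1 → (w : H) = z := by
        intro W hW w hw hw1
        refine hinv w ?_ fun h => hw1 (Subtype.ext h)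
        have h := orderOf_dvd_iff_pow_eq_one.mp (hW ▸ Subgroup.orderOf_dvd_natCard W hw)
        rw [pow_two] at h
        exact congrArg Subtype.val h
      have key2 : ∀ W W' : Subgroup (P : Subgroup H), Nat.card W = 2 → Nat.card W' = 2 → W ≤ W' := by
        intro W W' hW hW' w hw
        by_cases hw1 : w = 1
        · exact hw1 ▸ one_mem _
        obtain ⟨w', hw', hw'1⟩ : ∃ w' ∈ W', w' ≠ 1 := by
          by_contra hcon
          push Not at hcon
          rw [(Subgroup.eq_bot_iff_forall W').mpr hcon, Subgroup.card_bot] at hW'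
          omega
        rwa [show w = w' from Subtype.ext ((key W hW w hw hw1).trans (key W' hW' w' hw' hw'1).symm)]
      exact le_antisymm (key2 U V hU hV) (key2 V U hV hU)
    rcases S0016.result 2 P.isPGroup' huniq with hcyc | ⟨-, n, ⟨en⟩⟩
    · exfalso
      have hQP : Q ≤ (P : Subgroup H) :=
        IsPGroup.le_sylow_of_normal (IsPGroup.iff_card.mpr ⟨3, by rw [hQcard]; norm_num⟩) P
      haveI := hcyc
      have hQc : IsCyclic Q := isCyclic_of_injective _ (Subgroup.inclusion_injective hQP)
      have hcomm : ∀ a b : QuaternionGroup 2, a * b = b * a := fun a b =>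
        e.symm.injective (by rw [map_mul, map_mul]; exact mul_comm' _ _)
      obtain ⟨y, hy⟩ := f8 w4 hw4
      exact hy (hcomm w4 y)
    · have := Nat.card_congr en.toEquiv
      rw [hcard, Nat.card_eq_fintype_card, QuaternionGroup.card] at this
      have h4 : (2 : ℕ) ^ n = 2 ^ 2 := by omega
      rw [Nat.pow_right_injective le_rfl h4] at en
      exact ⟨en⟩


/-- Let G be a finite solvable group in which the intersection of any two distinct Sylow 2-subgroups has 2-rank at most 1 (contains no Klein four-group). Write Q = G/O(G), O(G) the largest normal subgroup of odd order. Then Q has a normal Sylow 2-subgroup; or Q is isomorphic to GL(2,3); or Q has order 48, centre of order 2 with central quotient isomorphic to the symmetric group of degree 4, and generalized quaternion Sylow 2-subgroups of order 16 (the binary octahedral group). The last two are the two representation groups of the symmetric group of degree 4. -/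
theorem result {G : Type*} [Group G] [Finite G] (hs : Group.IsSolvable G)
    (hI : ∀ S T : Sylow 2 G, S ≠ T → Cfsg.PRankLE 2 1 ↥((S : Subgroup G) ⊓ (T : Subgroup G))) :
    (∃ P : Sylow 2 (G ⧸ Cfsg.oddCore G), (P : Subgroup (G ⧸ Cfsg.oddCore G)).Normal) ∨
    Nonempty ((G ⧸ Cfsg.oddCore G) ≃* GL (Fin 2) (ZMod 3)) ∨
    (Nat.card (G ⧸ Cfsg.oddCore G) = 48 ∧ Nat.card ↥(Subgroup.center (G ⧸ Cfsg.oddCore G)) = 2 ∧
      Nonempty ((G ⧸ Cfsg.oddCore G) ⧸ Subgroup.center (G ⧸ Cfsg.oddCore G) ≃* Equiv.Perm (Fin 4)) ∧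
      ∀ P : Sylow 2 (G ⧸ Cfsg.oddCore G), Nonempty (↥(P : Subgroup (G ⧸ Cfsg.oddCore G)) ≃* QuaternionGroup 4)) := by
  by_cases hn : ∃ P : Sylow 2 (G ⧸ Cfsg.oddCore G), (P : Subgroup (G ⧸ Cfsg.oddCore G)).Normal
  · exact Or.inl hn
  refine Or.inr ?_
  push Not at hn
  haveI := hs
  haveI : Fact (Nat.Prime 2) := ⟨Nat.prime_two⟩
  have hCQ := SylowLift.centralizer_pCore_le_of_solvable
    (Cores.pPrimeCore_quotient_self (G := G) 2)
  set Q := Cfsg.pCore 2 (G ⧸ Cfsg.oddCore G) with hQdef
  obtain ⟨S⟩ : Nonempty (Sylow 2 (G ⧸ Cfsg.oddCore G)) := inferInstance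
  obtain ⟨T, hT⟩ : ∃ T, T ≠ S := by
    by_contra h
    push Not at h
    have : Subsingleton (Sylow 2 (G ⧸ Cfsg.oddCore G)) := ⟨fun A B => (h A).trans (h B).symm⟩
    exact hn S (Sylow.normal_of_subsingleton S)
  have hker : Odd (Nat.card (QuotientGroup.mk' (Cfsg.oddCore G)).ker) := by
    rw [QuotientGroup.ker_mk']
    exact Nat.odd_iff.mpr (Nat.two_dvd_ne_zero.mp (Nat.prime_two.coprime_iff_not_dvd.mp
      (Cores.coprime_card_pPrimeCore (G := G) 2).symm))
  have hrk := prankLE_inf_of_surjective (QuotientGroup.mk'_surjective (Cfsg.oddCore G)) hker hI T S hT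
  have hle : Q ≤ (T : Subgroup _) ⊓ (S : Subgroup _) :=
    le_inf (Cores.pCore_le_sylow T) (Cores.pCore_le_sylow S)
  -- `Q` has a unique involution
  have hQp : IsPGroup 2 Q := Cores.isPGroup_pCore 2 _
  have hinv : ∀ x y : Q, x * x = 1 → y * y = 1 → x ≠ 1 → y ≠ 1 → x = y := by
    intro x y hx hy hx1 hy1
    haveI : Nontrivial Q := ⟨⟨x, 1, hx1⟩⟩
    haveI := hQp.center_nontrivial
    obtain ⟨k, hk0, hk⟩ := (hQp.to_subgroup (Subgroup.center Q)).nontrivial_iff_card.mp inferInstance
    obtain ⟨w, hw⟩ := exists_prime_orderOf_dvd_card' (G := Subgroup.center Q) 2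
      (by rw [hk]; exact dvd_pow_self 2 hk0.ne')
    have hw1 : (w : Q) ≠ 1 := fun h => by simp [show w = 1 from Subtype.ext h] at hw
    have hw2 : (w : Q) * w = 1 := by
      rw [← pow_two, ← Subgroup.coe_pow, show w ^ 2 = 1 by simpa [hw] using pow_orderOf_eq_one w]; rfl
    have key : ∀ u : Q, u * u = 1 → u ≠ 1 → u = w := fun u hu hu1 =>
      Subtype.ext (hrk _ _ (hle u.2) (hle (w : Q).2) (congrArg Subtype.val hu) (congrArg Subtype.val hw2)
        (congrArg Subtype.val (Subgroup.mem_center_iff.mp w.2 u)) (fun h => hu1 (Subtype.ext h))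
        (fun h => hw1 (Subtype.ext h)))
    exact (key x hx hx1).trans (key y hy hy1).symm
  have huniq : ∀ U V : Subgroup Q, Nat.card U = 2 → Nat.card V = 2 → U = V := by
    have key : ∀ U V : Subgroup Q, Nat.card U = 2 → Nat.card V = 2 → U ≤ V := by
      intro U V hU hV u hu
      by_cases hu1 : u = 1
      · exact hu1 ▸ one_mem _
      obtain ⟨v, hv, hv1⟩ : ∃ v ∈ V, v ≠ 1 := by
        by_contra hcon
        push Not at hcon
        rw [(Subgroup.eq_bot_iff_forall V).mpr hcon, Subgroup.card_bot] at hV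
        omega
      have h2 : ∀ (W : Subgroup Q), Nat.card W = 2 → ∀ w ∈ W, w * w = 1 := fun W hW w hw => by
        rw [← pow_two, ← orderOf_dvd_iff_pow_eq_one]
        have := Subgroup.orderOf_dvd_natCard W hw
        rwa [hW] at this
      rwa [hinv u v (h2 U hU u hu) (h2 V hV v hv) hu1 hv1]
    exact fun U V hU hV => le_antisymm (key U V hU hV) (key V U hV hU)
  -- the automorphism group of `Q` is not a 2-group
  have haut : ¬ IsPGroup 2 (MulAut Q) := by
    intro h2
    have hker' : IsPGroup 2 (MulAut.conjNormal : _ →* MulAut Q).ker := by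
      refine hQp.to_le fun x hx => hCQ ?_
      rw [Subgroup.mem_centralizer_iff]
      intro c hc
      have := congrArg Subtype.val (DFunLike.congr_fun (MonoidHom.mem_ker.mp hx) ⟨c, hc⟩)
      simp only [MulAut.conjNormal_apply, MulAut.one_apply] at this
      exact (mul_inv_eq_iff_eq_mul.mp this).symm
    have := (h2.to_subgroup ⊤).comap_of_ker_isPGroup _ hker'
    rw [Subgroup.comap_top] at this
    exact hn S (by rw [← S.is_maximal' this le_top]; infer_instance)
  rcases S0016.result 2 hQp huniq with hc | ⟨-, n, ⟨e⟩⟩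
  · exact absurd (SylowLift.isPGroup_mulAut_of_isCyclic hQp) haut
  rcases n with _ | _ | n
  · exfalso
    haveI : IsCyclic (QuaternionGroup (2 ^ 0)) := by rw [pow_zero]; exact QuaternionGroup.quaternionGroup_one_isCyclic
    haveI : IsCyclic Q := isCyclic_of_surjective e.symm e.symm.surjective
    exact haut (SylowLift.isPGroup_mulAut_of_isCyclic hQp)
  · exact structure_of_q8 Q hCQ e hn
  · exact absurd ((S5112.aut_quaternion (n + 1 + 1) (by omega)).of_equiv (MulAut.congr e).symm) haut

end Cfsg.Agent.S3304
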