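import Cfsg.Statements.S3966
import Cfsg.Agent.EqLemmas

set_option autoImplicit false
open Cfsg
open scoped commutatorElement

namespace Cfsg.Agent.S3966

variable (n : ℕ) [NeZero n]

/-- the reduction map -/
noncomputable def toDihedral : QuaternionGroup n →* DihedralGroup n where
  toFun := fun
    | QuaternionGroup.a i => DihedralGroup.r (ZMod.castHom (dvd_mul_left n 2) (ZMod n) i)
    | QuaternionGroup.xa i => DihedralGroup.sr (ZMod.castHom (dvd_mul_left n 2) (ZMod n) i)
  map_one' := by
    rw [QuaternionGroup.one_def]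
    simp only [map_zero]
    rfl
  map_mul' := by
    rintro (i | i) (j | j) <;> simp

theorem toDihedral_surjective : Function.Surjective (toDihedral n) := by
  have h := ZMod.ringHom_surjective (ZMod.castHom (dvd_mul_left n 2) (ZMod n))
  rintro (i | i)
  · obtain ⟨j, rfl⟩ := h i
    exact ⟨QuaternionGroup.a j, rfl⟩
  · obtain ⟨j, rfl⟩ := h i
    exact ⟨QuaternionGroup.xa j, rfl⟩

theorem ker_eq : (toDihedral n).ker = Subgroup.zpowers (QuaternionGroup.a ((n : ℕ) : ZMod (2 * n))) := by
  apply le_antisymm
  · rintro (i | i) hi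
    · change DihedralGroup.r _ = DihedralGroup.r 0 at hi
      have h0 := DihedralGroup.r.inj hi
      have : (n : ℕ) ∣ i.val := by
        rw [← ZMod.natCast_zmod_val i, map_natCast, ZMod.natCast_eq_zero_iff] at h0
        exact h0
      obtain ⟨t, ht⟩ := this
      refine Subgroup.mem_zpowers_iff.mpr ⟨t, ?_⟩
      have hp : ∀ k : ℕ, QuaternionGroup.a ((n : ℕ) : ZMod (2 * n)) ^ k = QuaternionGroup.a ((n * k : ℕ) : ZMod (2 * n)) := by
        intro k
        induction k with
        | zero => rw [pow_zero, mul_zero, Nat.cast_zero, QuaternionGroup.one_def]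
        | succ k ih => rw [pow_succ, ih, QuaternionGroup.a_mul_a, ← Nat.cast_add]; rfl
      rw [zpow_natCast, hp, ← ht, ZMod.natCast_zmod_val]
    · exact absurd (show DihedralGroup.sr _ = DihedralGroup.r 0 from hi) (by simp [-DihedralGroup.r_zero])
  · rw [Subgroup.zpowers_le]
    show DihedralGroup.r _ = DihedralGroup.r 0
    simp

theorem a_n_comm (g : QuaternionGroup n) :
    g * QuaternionGroup.a ((n : ℕ) : ZMod (2 * n)) = QuaternionGroup.a ((n : ℕ) : ZMod (2 * n)) * g := by
  have h2 : ((n : ℕ) : ZMod (2 * n)) + (n : ℕ) = 0 := by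
    rw [← Nat.cast_add, ← two_mul, ZMod.natCast_self]
  rcases g with i | i
  · simp [add_comm]
  · simp only [QuaternionGroup.xa_mul_a, QuaternionGroup.a_mul_xa, QuaternionGroup.xa.injEq]
    linear_combination h2

theorem a_n_sq : QuaternionGroup.a ((n : ℕ) : ZMod (2 * n)) ^ 2 = 1 := by
  rw [sq, QuaternionGroup.a_mul_a, ← Nat.cast_add, ← two_mul, ZMod.natCast_self]
  rfl

theorem a_n_ne : QuaternionGroup.a ((n : ℕ) : ZMod (2 * n)) ≠ 1 := by
  intro h
  rw [QuaternionGroup.one_def, QuaternionGroup.a.injEq, ZMod.natCast_eq_zero_iff] at h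
  have := Nat.le_of_dvd (NeZero.pos n) h
  have := NeZero.pos n
  omega


/-- For even `n ≥ 2` the dicyclic group of order `4 n` is a stem extension of the dihedral group of order `2 n` with kernel of order `2`: there is a surjective homomorphism `QuaternionGroup n →* DihedralGroup n` whose kernel is central, lies in the commutator subgroup and has two elements. Together with the order of the multiplier this exhibits the dicyclic group as a Schur covering group of the dihedral group. -/
theorem result (n : ℕ) [NeZero n] (hn : Even n) : ∃ σ : QuaternionGroup n →* DihedralGroup n, Cfsg.IsStemExtension σ ∧ Nat.card σ.ker = 2 := by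
  refine ⟨toDihedral n, ⟨toDihedral_surjective n, ?_, ?_⟩, ?_⟩
  · rw [ker_eq]
    rw [Subgroup.zpowers_le, Subgroup.mem_center_iff]
    exact a_n_comm n
  · rw [ker_eq, Subgroup.zpowers_le]
    obtain ⟨k, hk⟩ := hn
    have h : (QuaternionGroup.a ((n : ℕ) : ZMod (2 * n))) =
        ⁅QuaternionGroup.a ((k : ℕ) : ZMod (2 * n)), QuaternionGroup.xa (0 : ZMod (2 * n))⁆ := by
      rw [commutatorElement_def, eq_mul_inv_iff_mul_eq, eq_mul_inv_iff_mul_eq, mul_assoc,
        QuaternionGroup.xa_mul_a, QuaternionGroup.a_mul_xa, QuaternionGroup.a_mul_xa, QuaternionGroup.xa.injEq, hk]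
      push_cast
      ring
    rw [h]
    exact Subgroup.commutator_mem_commutator (Subgroup.mem_top _) (Subgroup.mem_top _)
  · rw [ker_eq, Nat.card_zpowers]
    exact orderOf_eq_prime (a_n_sq n) (a_n_ne n)

end Cfsg.Agent.S3966
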