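import Cfsg.Statements.S1213
import Cfsg.Agent.Lib.Transfer.WreathedOrSemidihedral

set_option autoImplicit false
open Cfsg
open Cfsg.Agent.Transfer Cfsg.Agent.QDWreath

namespace Cfsg.Agent.S1213

/-- Let G be a finite group with quasi-dihedral or wreathed Sylow 2-subgroups and no subgroup of index 2, and let x be an involution with centralizer C. Then C has a Sylow 2-subgroup R which is a Sylow 2-subgroup of G; C has a normal subgroup K of index a power of 2 which has no subgroup of index 2 and whose Sylow 2-subgroups are generalized quaternion; and every subgroup of the centre of R is weakly closed in R with respect to C. -/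
theorem result {G : Type*} [Group G] [Finite G] (S : Sylow 2 G) (hS : Cfsg.IsQuasiDihedral (S : Subgroup G) ∨ Cfsg.IsWreathed (S : Subgroup G)) (hG : ∀ H : Subgroup G, H.index ≠ 2) (x : G) (hx : orderOf x = 2) : ∃ R : Sylow 2 ↥(Subgroup.centralizer ({x} : Set G)), Nat.card R = Nat.card S ∧ (∃ K : Subgroup ↥(Subgroup.centralizer ({x} : Set G)), K.Normal ∧ (∃ a : ℕ, K.index = 2 ^ a) ∧ (∀ H : Subgroup ↥K, H.index ≠ 2) ∧ (∀ P : Sylow 2 ↥K, ∃ m : ℕ, 1 ≤ m ∧ Nonempty ((P : Subgroup ↥K) ≃* QuaternionGroup (2 ^ m)))) ∧ (∀ Z₀ : Subgroup ↥(Subgroup.centralizer ({x} : Set G)), Z₀ ≤ ((Subgroup.center (R : Subgroup ↥(Subgroup.centralizer ({x} : Set G)))).map (R : Subgroup ↥(Subgroup.centralizer ({x} : Set G))).subtype) → Cfsg.IsWeaklyClosed Z₀ (R : Subgroup ↥(Subgroup.centralizer ({x} : Set G)))) := by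
  have := Fact.mk Nat.prime_two
  rcases hS with hS | hS
  · obtain ⟨n, ⟨d⟩⟩ := nonempty_qdData hS
    obtain ⟨g, hg⟩ := isConj_iff.mp (SD.involutions_conj d hG hx)
    obtain ⟨S', e, he, hS'⟩ := exists_sylow_centralizer S (d.mem_center.mpr (Or.inr rfl)) hg
    obtain ⟨hc, hK, hZ⟩ := SD.centralizer_case (qdMap d e) hG (by rw [qdMap_a]; exact he) hS'
    exact ⟨S'.subtype hS', hc.trans (Nat.card_congr e.symm.toEquiv), hK, hZ⟩
  · obtain ⟨n, ⟨d⟩⟩ := nonempty_wrData hS
    obtain ⟨g, hg⟩ := isConj_iff.mp (WR.involutions_conj d hG hx)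
    obtain ⟨S', e, he, hS'⟩ := exists_sylow_centralizer S (d.mem_center.mpr ⟨_, rfl⟩) hg
    obtain ⟨hc, hK, hZ⟩ := WR.centralizer_case (wrMap d e) hG (by rw [wrMap_a]; exact he) hS'
    exact ⟨S'.subtype hS', hc.trans (Nat.card_congr e.symm.toEquiv), hK, hZ⟩

end Cfsg.Agent.S1213
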