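import Cfsg.Statements.S1190
import Cfsg.Agent.Lib.QDWreath.SemidihedralSmall

set_option autoImplicit false
open Cfsg

namespace Cfsg.Agent.S1190

/-- In a quasi-dihedral 2-group S, any two Klein four-subgroups are conjugate, and every Klein four-subgroup T satisfies C_S(T) = T and |N_S(T) : T| = 2. -/
theorem result {S : Type*} [Group S] [Finite S] (hS : Cfsg.IsQuasiDihedral S) : (∀ T₁ T₂ : Subgroup S, IsKleinFour T₁ → IsKleinFour T₂ → ∃ s : S, T₁.map (MulAut.conj s).toMonoidHom = T₂) ∧ (∀ T : Subgroup S, IsKleinFour T → Subgroup.centralizer (T : Set S) = T ∧ T.relIndex (Subgroup.normalizer (T : Set S)) = 2) := by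
  obtain ⟨n, ⟨d⟩⟩ := QDWreath.nonempty_qdData hS
  have hn := d.hn
  refine ⟨fun T₁ T₂ h₁ h₂ => ?_, fun T hT => ?_⟩
  · obtain ⟨k₁, s₁⟩ := d.klein_shape h₁
    obtain ⟨k₂, s₂⟩ := d.klein_shape h₂
    exact s₁.exists_conj s₂ ⟨k₂ - k₁, by ring⟩
  · obtain ⟨k, s⟩ := d.klein_shape hT
    refine ⟨le_antisymm (fun g hg => ?_) (fun g hg => ?_),
      s.relIndex_normalizer (p := QDWreath.tp n (n - 2)) (c := 1) d.half_eq_two_mul (one_mul _).symm ?_⟩
    · rw [Subgroup.mem_centralizer_iff] at hg
      rcases d.cases g with ⟨j, rfl⟩ | ⟨j, rfl⟩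
      · rcases d.commute_a_b.1 (hg _ (s.b_mem 0)).symm with rfl | rfl
        · simpa using s.a_mem 0
        · simpa using s.a_mem 1
      · have h := hg _ (s.b_mem 0)
        rw [zero_mul, add_zero, d.b_mul_b, d.b_mul_b, d.rexp_mul_two] at h
        have h' := d.a_injective h
        have h2 : (1 - QDWreath.tp n (n - 2)) * (2 * (j - 2 * k)) = 0 := by
          have := d.half_eq_two_mul
          have e2 := QDWreath.half_mul_two d.one_le
          unfold QDWreath.QDData.rexp at h'
          linear_combination -h' + j * this + 2 * k * QDWreath.tp n (n - 2) * 0 + k * 0 + (-k) * this * 2 + k * e2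
        rcases (QDWreath.two_mul_eq_zero d.one_le).1
            (d.isUnit_moveFactor.mul_right_eq_zero.1 h2) with e | e
        · simpa [sub_eq_zero.1 e] using s.b_mem 0
        · simpa [← e] using s.b_mem 1
    · rw [Subgroup.mem_centralizer_iff]
      intro h hh
      exact congrArg Subtype.val
        (mul_comm_of_exponent_two hT.exponent_two (⟨h, hh⟩ : T) ⟨g, hg⟩)
    · intro l hl
      have : QDWreath.tp n (n - 2) * (1 - 2 * l) = 0 := by
        linear_combination hl + l * d.half_eq_two_mul
      have hu : IsUnit (1 - 2 * l : ZMod (2 ^ n)) := by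
        simpa [← sub_eq_neg_add] using QDWreath.isUnit_odd (-l)
      exact QDWreath.tp_ne_zero n (n - 2) (by omega) (hu.mul_left_eq_zero.1 this)

end Cfsg.Agent.S1190
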