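import Cfsg.Statements.S1215
import Cfsg.Agent.Lib.ZStar.IsolatedCenter

set_option autoImplicit false
open Cfsg

namespace Cfsg.Agent.S1215

/-- Let H be a finite group with quasi-dihedral or wreathed Sylow 2-subgroup S such that H has a normal subgroup K of index a power of 2 with no subgroup of index 2 and with generalized quaternion Sylow 2-subgroups, and such that every subgroup of Z(S) is weakly closed in S with respect to H. Then H = O(H) C_H(Z(S)): every element of H is the product of an element of the largest normal odd-order subgroup and an element centralizing Z(S). -/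
theorem result {H : Type*} [Group H] [Finite H] (S : Sylow 2 H) (hS : Cfsg.IsQuasiDihedral (S : Subgroup H) ∨ Cfsg.IsWreathed (S : Subgroup H)) (hQ : (∃ K : Subgroup H, K.Normal ∧ (∃ a : ℕ, K.index = 2 ^ a) ∧ (∀ M : Subgroup ↥K, M.index ≠ 2) ∧ (∀ P : Sylow 2 ↥K, ∃ m : ℕ, 1 ≤ m ∧ Nonempty ((P : Subgroup ↥K) ≃* QuaternionGroup (2 ^ m)))) ∧ (∀ Z₀ : Subgroup H, Z₀ ≤ ((Subgroup.center (S : Subgroup H)).map (S : Subgroup H).subtype) → Cfsg.IsWeaklyClosed Z₀ (S : Subgroup H))) (h : H) : ∃ o ∈ Cfsg.oddCore H, ∃ c ∈ Subgroup.centralizer (((Subgroup.center (S : Subgroup H)).map (S : Subgroup H).subtype : Subgroup H) : Set H), h = o * c := by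
  haveI : Fact (Nat.Prime 2) := ⟨Nat.prime_two⟩
  haveI : Nontrivial (S : Subgroup H) := by
    rcases hS with hS | hS
    · obtain ⟨n, hn, hcard, -⟩ := hS
      exact Finite.one_lt_card_iff_nontrivial.1 (by rw [hcard]; exact Nat.one_lt_two_pow (by omega))
    · obtain ⟨n, hn, hcard, -⟩ := hS
      exact Finite.one_lt_card_iff_nontrivial.1 (by rw [hcard]; exact Nat.one_lt_two_pow (by omega))
  haveI := S.isPGroup'.center_nontrivial
  obtain ⟨c, hc⟩ := exists_prime_orderOf_dvd_card' (G := Subgroup.center (S : Subgroup H)) 2 (by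
    obtain ⟨m, hm⟩ := IsPGroup.iff_card.1 (S.isPGroup'.to_subgroup (Subgroup.center (S : Subgroup H)))
    rw [hm]
    refine dvd_pow_self 2 ?_
    rintro rfl
    rw [pow_zero] at hm
    exact absurd hm Finite.one_lt_card.ne')
  have hz2 : orderOf ((c : (S : Subgroup H)) : H) = 2 := by rw [Subgroup.orderOf_coe, Subgroup.orderOf_coe, hc]
  have hiso : IsIsolatedInvolution ((c : (S : Subgroup H)) : H) := by
    refine ZStar.isolated_of_sylow S hz2 (c : (S : Subgroup H)).2 fun g hg => ?_
    obtain ⟨-, hw⟩ := hQ.2 (Subgroup.zpowers ((c : (S : Subgroup H)) : H))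
      (Subgroup.zpowers_le.2 ⟨(c : (S : Subgroup H)), c.2, rfl⟩)
    have h1 := hw g (by rw [MonoidHom.map_zpowers]; exact Subgroup.zpowers_le.2 hg)
    have h2 : g * ((c : (S : Subgroup H)) : H) * g⁻¹ ∈ Subgroup.zpowers ((c : (S : Subgroup H)) : H) :=
      h1.le ⟨_, Subgroup.mem_zpowers _, rfl⟩
    obtain ⟨i, hi⟩ := Subgroup.mem_zpowers_iff.1 h2
    rw [← zpow_mod_orderOf, hz2] at hi
    rcases Int.emod_two_eq i with h | h <;> rw [show ((2 : ℕ) : ℤ) = 2 from rfl, h] at hi
    · rw [zpow_zero, eq_comm, conj_eq_one_iff] at hi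
      exact absurd hi (Involution.ne_one hz2)
    · rw [zpow_one] at hi
      exact hi.symm
  exact (ZStar.factor_center S (c : (S : Subgroup H)).2 hiso
    (ZStar.rankTwoAt_of_qd_or_wreathed hS c.2 ((Subgroup.orderOf_mk _ _).trans hz2))).2 h

end Cfsg.Agent.S1215
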