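import Cfsg.Statements.S0514
import Cfsg.Agent.EqLemmas
import Cfsg.Agent.Lib.Transfer.Alperin
import Cfsg.Agent.Lib.Solvable.Basic

set_option autoImplicit false
open Cfsg
open scoped Pointwise

namespace Cfsg.Agent.S0514

/-- An element of odd order normalising a 2-subgroup embedded in a dihedral group and fixing an
involution of it centralises it. -/
theorem commute_of_dihedral {X : Type*} [Group X] [Finite X] {n : ℕ} [NeZero n] (D : Subgroup X)
    (f : D →* DihedralGroup n) (hf : Function.Injective f) (hD : IsPGroup 2 D) (t : X) (ht : t ∈ D)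
    (ht1 : t ≠ 1) (x : X) (hx : x ∈ Subgroup.normalizer (D : Set X)) (hxo : (orderOf x).Coprime 2)
    (hxt : x * t = t * x) : ∀ d ∈ D, x * d = d * x := by
  classical
  set C0 := (Subgroup.zpowers (DihedralGroup.r (1 : ZMod n))).comap f with hC0
  haveI hcyc : IsCyclic C0 := by
    refine isCyclic_of_injective (f.subgroupComap (Subgroup.zpowers (DihedralGroup.r (1 : ZMod n)))) ?_
    exact fun a b e => Subtype.ext (hf (congrArg Subtype.val e))
  have hmem : ∀ d : D, d ∈ C0 ↔ ∃ i, f d = DihedralGroup.r i := by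
    intro d
    rw [hC0, Subgroup.mem_comap, Subgroup.mem_zpowers_iff]
    constructor
    · rintro ⟨k, hk⟩
      exact ⟨k, by rw [← hk, DihedralGroup.r_one_zpow]⟩
    · rintro ⟨i, hi⟩
      exact ⟨i.val, by rw [hi, DihedralGroup.r_one_zpow, Int.cast_natCast, ZMod.natCast_zmod_val]⟩
  have hout : ∀ a b : D, a ∉ C0 → b ∉ C0 → a * b⁻¹ ∈ C0 := by
    intro a b ha hb
    rw [hmem] at ha hb ⊢
    rw [map_mul, map_inv]
    rcases hfa : f a with i | i
    · exact absurd ⟨i, hfa⟩ ha
    rcases hfb : f b with j | j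
    · exact absurd ⟨j, hfb⟩ hb
    rw [show (DihedralGroup.sr j)⁻¹ = DihedralGroup.sr j from rfl, DihedralGroup.sr_mul_sr]
    exact ⟨_, rfl⟩
  obtain ⟨c, hc⟩ := hcyc.exists_generator
  obtain ⟨m, hm⟩ := IsPGroup.iff_orderOf.1 hD (c : D)
  let φ : D → D := fun d => ⟨x * d * x⁻¹, (Subgroup.mem_normalizer_iff.1 hx d).1 d.2⟩
  rcases Nat.lt_or_ge 2 (orderOf (c : D)) with hgt | hle
  · have hφc : φ c ∈ C0 := by
      by_contra h
      have ho : orderOf (φ c) = orderOf (c : D) := by
        rw [← Subgroup.orderOf_coe, ← Subgroup.orderOf_coe (c : D)]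
        exact orderOf_injective (MulAut.conj x).toMonoidHom (MulAut.conj x).injective _
      have h2 : (φ c) ^ 2 = 1 := hf (by
        rw [map_pow, map_one]
        rcases hfc : f (φ c) with i | i
        · exact absurd ((hmem _).2 ⟨i, hfc⟩) h
        · rw [pow_two, DihedralGroup.sr_mul_self])
      have := orderOf_le_of_pow_eq_one two_pos h2
      omega
    set a : X := ((c : D) : X) with ha'
    have hao : orderOf a = 2 ^ m := by rw [ha', Subgroup.orderOf_coe, hm]
    obtain ⟨j, hj⟩ := Subgroup.mem_zpowers_iff.1 (hc ⟨φ c, hφc⟩)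
    have hj' : x * a * x⁻¹ = a ^ j := by
      have := congrArg (fun w : C0 => ((w : D) : X)) hj
      simpa using this.symm
    have hiter : ∀ k : ℕ, x ^ k * a * (x ^ k)⁻¹ = a ^ (j ^ k) := by
      intro k
      induction k with
      | zero => simp
      | succ k ih =>
        calc x ^ (k + 1) * a * (x ^ (k + 1))⁻¹ = MulAut.conj x (x ^ k * a * (x ^ k)⁻¹) := by
              rw [MulAut.conj_apply, pow_succ']; group
          _ = (x * a * x⁻¹) ^ (j ^ k) := by rw [ih, map_zpow, MulAut.conj_apply]
          _ = a ^ (j ^ (k + 1)) := by rw [hj', ← zpow_mul, pow_succ']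
    have hfix : x * a * x⁻¹ = a := by
      have h1 := hiter (orderOf x)
      rw [pow_orderOf_eq_one, inv_one, one_mul, mul_one] at h1
      have h2 : ((j ^ orderOf x : ℤ) : ZMod (2 ^ m)) = 1 := by
        have h3 : a ^ (j ^ orderOf x - 1) = 1 := by rw [zpow_sub, ← h1, zpow_one, mul_inv_cancel]
        rw [← orderOf_dvd_iff_zpow_eq_one, hao] at h3
        have h4 := (ZMod.intCast_zmod_eq_zero_iff_dvd _ _).2 h3
        rwa [Int.cast_sub, Int.cast_one, sub_eq_zero] at h4
      rw [Int.cast_pow] at h2
      have hm0 : m ≠ 0 := fun e => by rw [e, pow_zero] at hm; omega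
      have h5 : orderOf (j : ZMod (2 ^ m)) = 1 := by
        haveI : NeZero (2 ^ m) := ⟨by positivity⟩
        let u : (ZMod (2 ^ m))ˣ := Units.ofPowEqOne _ _ h2 (orderOf_pos x).ne'
        have hu1 : orderOf u ∣ orderOf x := orderOf_dvd_of_pow_eq_one (Units.pow_ofPowEqOne _ _)
        have hu2 : orderOf u ∣ 2 ^ (m - 1) := by
          have := orderOf_dvd_natCard u
          rw [Nat.card_eq_fintype_card, ZMod.card_units_eq_totient,
            Nat.totient_prime_pow Nat.prime_two (Nat.pos_of_ne_zero hm0)] at this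
          simpa using this
        have := Nat.dvd_gcd hu1 hu2
        rw [Nat.Coprime.pow_right (m - 1) hxo] at this
        rw [show (j : ZMod (2 ^ m)) = ((u : (ZMod (2 ^ m))ˣ) : ZMod (2 ^ m)) from rfl, orderOf_units]
        exact Nat.dvd_one.1 this
      rw [orderOf_eq_one_iff] at h5
      have h6 : a ^ (j - 1) = 1 := by
        rw [← orderOf_dvd_iff_zpow_eq_one, hao, ← ZMod.intCast_zmod_eq_zero_iff_dvd, Int.cast_sub,
          Int.cast_one, h5, sub_self]
      rw [hj', ← mul_inv_eq_one, ← h6, zpow_sub, zpow_one]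
    have hxc : Commute x a := mul_inv_eq_iff_eq_mul.1 hfix
    intro d hd
    by_cases hdC : (⟨d, hd⟩ : D) ∈ C0
    · obtain ⟨i, hi⟩ := Subgroup.mem_zpowers_iff.1 (hc ⟨⟨d, hd⟩, hdC⟩)
      have : d = a ^ i := by simpa using (congrArg (fun w : C0 => ((w : D) : X)) hi).symm
      rw [this]
      exact (hxc.zpow_right i).eq
    · have hdφ : φ ⟨d, hd⟩ ∉ C0 := fun h => hdC (by
        obtain ⟨i, hi⟩ := Subgroup.mem_zpowers_iff.1 (hc ⟨_, h⟩)
        have h' : x * d * x⁻¹ = a ^ i := by simpa using (congrArg (fun w : C0 => ((w : D) : X)) hi).symm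
        have hd' : d = a ^ i := by
          have := (hxc.zpow_right i).eq
          calc d = x⁻¹ * (x * d * x⁻¹) * x := by group
            _ = x⁻¹ * (a ^ i * x) := by rw [h', mul_assoc]
            _ = a ^ i := by rw [← this]; group
        rw [show (⟨d, hd⟩ : D) = (c : D) ^ i from Subtype.ext (by simpa using hd')]
        exact C0.zpow_mem c.2 i)
      obtain ⟨i, hi⟩ := Subgroup.mem_zpowers_iff.1 (hc ⟨_, hout _ _ hdφ hdC⟩)
      have hi' : x * d * x⁻¹ = a ^ i * d := by
        have := congrArg (fun w : C0 => ((w : D) : X)) hi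
        simp only [Subgroup.coe_zpow, Subgroup.coe_mul, Subgroup.coe_inv] at this
        rw [ha', this]
        simp [φ]
      have hit : ∀ k : ℕ, x ^ k * d * (x ^ k)⁻¹ = a ^ (i * k) * d := by
        intro k
        induction k with
        | zero => simp
        | succ k ih =>
          calc x ^ (k + 1) * d * (x ^ (k + 1))⁻¹ = MulAut.conj x (x ^ k * d * (x ^ k)⁻¹) := by
                rw [MulAut.conj_apply, pow_succ']; group
            _ = (x * a * x⁻¹) ^ (i * k) * (x * d * x⁻¹) := by
                rw [ih, map_mul, map_zpow, MulAut.conj_apply, MulAut.conj_apply]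
            _ = a ^ (i * (k + 1 : ℕ)) * d := by
                rw [hfix, hi', ← mul_assoc, ← zpow_add]; push_cast; ring_nf
      have h1 := hit (orderOf x)
      rw [pow_orderOf_eq_one, inv_one, one_mul, mul_one, eq_comm, mul_eq_right,
        ← orderOf_dvd_iff_zpow_eq_one, hao] at h1
      have hcop : IsCoprime ((2 : ℤ) ^ m) (orderOf x : ℤ) := by
        have : IsCoprime ((2 ^ m : ℕ) : ℤ) (orderOf x : ℤ) :=
          Int.isCoprime_iff_nat_coprime.2 (by simpa using (Nat.Coprime.pow_right m hxo).symm)
        simpa using this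
      have h2 : ((2 : ℤ) ^ m) ∣ i := hcop.dvd_of_dvd_mul_right (by simpa using h1)
      have hai : a ^ i = 1 := by rw [← orderOf_dvd_iff_zpow_eq_one, hao]; simpa using h2
      rw [hai, one_mul] at hi'
      exact mul_inv_eq_iff_eq_mul.1 hi'
  · -- D has at most four elements
    have hC0c : Nat.card C0 ≤ 2 := by
      rw [← orderOf_eq_card_of_forall_mem_zpowers hc, ← Subgroup.orderOf_coe]
      exact hle
    have hD4 : Nat.card D ≤ 4 := by
      have hi : C0.index ≤ 2 := by
        by_cases hall : ∀ d : D, d ∈ C0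
        · rw [show C0 = ⊤ from eq_top_iff.2 fun d _ => hall d, Subgroup.index_top]; omega
        push Not at hall
        obtain ⟨b, hb⟩ := hall
        rw [Subgroup.index_eq_card]
        refine le_trans (Nat.card_le_card_of_surjective
          (fun w : Bool => if w then (QuotientGroup.mk b : D ⧸ C0) else QuotientGroup.mk 1) ?_) (by simp)
        intro q
        obtain ⟨d, rfl⟩ := QuotientGroup.mk_surjective q
        by_cases hd : d ∈ C0
        · exact ⟨false, (QuotientGroup.eq.2 (by simpa using hd))⟩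
        · refine ⟨true, (QuotientGroup.eq.2 ?_)⟩
          have := hout b⁻¹ d⁻¹ (by rwa [inv_mem_iff]) (by rwa [inv_mem_iff])
          rwa [inv_inv] at this
      rw [← C0.card_mul_index]
      calc Nat.card C0 * C0.index ≤ 2 * 2 := Nat.mul_le_mul hC0c hi
        _ = 4 := rfl
    intro d hd
    rw [← mul_inv_eq_iff_eq_mul]
    by_contra hne
    set e1 := x * d * x⁻¹ with he1
    set e2 := x * e1 * x⁻¹ with he2
    have he1D : e1 ∈ D := (Subgroup.mem_normalizer_iff.1 hx d).1 hd
    have he2D : e2 ∈ D := (Subgroup.mem_normalizer_iff.1 hx e1).1 he1D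
    have hfix1 : x * 1 * x⁻¹ = 1 := by simp
    have hfixt : x * t * x⁻¹ = t := mul_inv_eq_iff_eq_mul.2 hxt
    have hinj : Function.Injective (fun w => x * w * x⁻¹) := (MulAut.conj x).injective
    have hd1 : d ≠ 1 := fun e => hne (by subst e; simp [he1])
    have hdt : d ≠ t := fun e => hne (by subst e; exact hfixt)
    have e11 : e1 ≠ 1 := fun e => hd1 (hinj (e.trans hfix1.symm))
    have e1t : e1 ≠ t := fun e => hdt (hinj (e.trans hfixt.symm))
    have e2d : e2 ≠ d := by
      intro e
      apply hne
      have h2x : (x ^ 2) * d * (x ^ 2)⁻¹ = d := by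
        calc x ^ 2 * d * (x ^ 2)⁻¹ = e2 := by rw [he2, he1, pow_two]; group
          _ = d := e
      have hcm : Commute (x ^ 2) d := mul_inv_eq_iff_eq_mul.1 h2x
      obtain ⟨k, hk⟩ := exists_pow_eq_self_of_coprime hxo.symm
      have hxd : Commute x d := hk ▸ hcm.pow_left k
      exact mul_inv_eq_iff_eq_mul.2 hxd.eq
    have e2e1 : e2 ≠ e1 := fun e => hne (hinj e)
    have e21 : e2 ≠ 1 := fun e => e11 (hinj (e.trans hfix1.symm))
    have e2t : e2 ≠ t := fun e => e1t (hinj (e.trans hfixt.symm))
    have hsub : ({1, t, d, e1, e2} : Set X) ⊆ (D : Set X) := by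
      intro w hw
      rcases hw with rfl | rfl | rfl | rfl | rfl
      exacts [one_mem D, ht, hd, he1D, he2D]
    have := Set.ncard_le_ncard hsub (Set.toFinite _)
    rw [Set.ncard_insert_of_notMem (by simp [ht1.symm, hd1.symm, e11.symm, e21.symm]),
      Set.ncard_insert_of_notMem (by simp [hdt.symm, e1t.symm, e2t.symm]),
      Set.ncard_insert_of_notMem (by simp [Ne.symm hne, e2d.symm]),
      Set.ncard_pair e2e1.symm, ← Nat.card_coe_set_eq] at this
    simp only [SetLike.coe_sort_coe] at this
    omega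

/-- In a finite group whose Sylow 2-subgroups are dihedral of order at least 4, the centralizer of any involution has a
normal subgroup of odd order whose index in the centralizer is a power of 2. -/
theorem result {X : Type*} [Group X] [Finite X]
    (S : Sylow 2 X) (n : ℕ) (hn : 2 ≤ n) (hS : Nonempty ((S : Subgroup X) ≃* DihedralGroup n)) (t : X)
    (ht : orderOf t = 2) :
    ∃ N : Subgroup (Subgroup.centralizer ({t} : Set X)), N.Normal ∧ Odd (Nat.card N) ∧ ∃ k : ℕ, N.index = 2 ^ k := by
  haveI : Fact (Nat.Prime 2) := ⟨Nat.prime_two⟩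
  obtain ⟨e⟩ := hS
  set C := Subgroup.centralizer ({t} : Set X) with hC
  obtain ⟨P⟩ := (inferInstance : Nonempty (Sylow 2 C))
  have hcomp : Cfsg.HasNormalPComplement 2 C := by
    refine Transfer.hasNormalPComplement_of_local P fun R hR _ x hx hxo => ?_
    -- R and t generate a 2-group normalised by x, which embeds in a dihedral group
    set A := R.map C.subtype with hA
    have hAp : IsPGroup 2 A := (P.isPGroup'.to_le hR.1).map _
    have hAt : A ≤ Subgroup.normalizer ((Subgroup.zpowers t : Subgroup X) : Set X) := by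
      refine le_trans ?_ (Subgroup.centralizer_le_normalizer _)
      rw [Subgroup.zpowers_eq_closure, Subgroup.centralizer_closure]
      exact Subgroup.map_subtype_le R
    have htp : IsPGroup 2 (Subgroup.zpowers t) :=
      IsPGroup.of_card (n := 1) (by rw [Nat.card_zpowers, ht, pow_one])
    obtain ⟨Q, hQ⟩ := (IsPGroup.to_sup_of_normal_right' hAp htp hAt).exists_le_sylow
    obtain ⟨g, hg⟩ := MulAction.exists_smul_eq X Q S
    let f : ↥(A ⊔ Subgroup.zpowers t) →* DihedralGroup n :=
      e.toMonoidHom.comp ((Sylow.equiv Q S).toMonoidHom.comp (Subgroup.inclusion hQ))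
    have hf : Function.Injective f :=
      e.injective.comp ((Sylow.equiv Q S).injective.comp (Subgroup.inclusion_injective hQ))
    haveI : NeZero n := ⟨by omega⟩
    have hxN : (x : X) ∈ Subgroup.normalizer ((A ⊔ Subgroup.zpowers t : Subgroup X) : Set X) := by
      rw [Solvable.mem_normalizer_iff_conj, Subgroup.smul_sup]
      have h1 : MulAut.conj (x : X) • A = A := by
        rw [hA, ← Subgroup.subtype_apply, ← Solvable.map_conj, Solvable.mem_normalizer_iff_conj.1 hx]
      have h2 : MulAut.conj (x : X) • Subgroup.zpowers t = Subgroup.zpowers t := by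
        rw [Solvable.conj_eq_map, MonoidHom.map_zpowers]
        congr 1
        show (x : X) * t * (x : X)⁻¹ = t
        rw [Subgroup.mem_centralizer_singleton_iff.1 x.2, mul_inv_cancel_right]
      rw [h1, h2]
    have hall := commute_of_dihedral (A ⊔ Subgroup.zpowers t) f hf
      (IsPGroup.to_sup_of_normal_right' hAp htp hAt) t (Subgroup.mem_sup_right (Subgroup.mem_zpowers t))
      (fun e => by simp [e] at ht) (x : X) hxN (by rwa [Subgroup.orderOf_coe])
      (Subgroup.mem_centralizer_singleton_iff.1 x.2)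
    rw [Subgroup.mem_centralizer_iff]
    intro r hr
    exact Subtype.ext (hall r (Subgroup.mem_sup_left ⟨r, hr, rfl⟩)).symm
  obtain ⟨k, hk⟩ := Transfer.exists_index_pResidual (p := 2) (G := C)
  have hodd := Transfer.hasNormalPComplement_iff_coprime.1 hcomp
  exact ⟨_, Transfer.pResidual_normal, (Nat.coprime_two_right.1 hodd), k, hk⟩

end Cfsg.Agent.S0514
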