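import Cfsg.Statements.S0221
import Cfsg.Agent.Lib.Involution.KleinFour
import Cfsg.Agent.Lib.PNormal.RankTwo
import Cfsg.Agent.S0111

set_option autoImplicit false
open Cfsg

namespace Cfsg.Agent.S0221

/-- Let G be a finite group with no subgroup of index 2 whose 2-rank is at least 3 (it contains an elementary abelian subgroup of order 8). Then the centralizer of every involution of G also contains an elementary abelian subgroup of order 8. -/
theorem result {G : Type*} [Group G] [Finite G] (hno : ∀ H : Subgroup G, H.index ≠ 2) (hrank : ∃ E : Subgroup G, Nat.card E = 8 ∧ ∀ e ∈ E, e ^ 2 = 1) (x : G) (hx : orderOf x = 2) : ∃ E : Subgroup G, E ≤ Subgroup.centralizer ({x} : Set G) ∧ Nat.card E = 8 ∧ ∀ e ∈ E, e ^ 2 = 1 := by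
  classical
  haveI : Fact (Nat.Prime 2) := ⟨Nat.prime_two⟩
  obtain ⟨E, hE8, hE2⟩ := hrank
  obtain ⟨S, hES⟩ : ∃ S : Sylow 2 G, E ≤ S :=
    (IsPGroup.of_card (n := 3) (by rw [hE8]; norm_num)).exists_le_sylow
  set P := (S : Subgroup G) with hPdef
  have hP : IsPGroup 2 P := S.isPGroup'
  have hcommE : ∀ a ∈ E, ∀ b ∈ E, a * b = b * a := by
    intro a ha b hb
    have hi : ∀ c ∈ E, c⁻¹ = c := fun c hc => inv_eq_of_mul_eq_one_right (by rw [← sq, hE2 c hc])
    rw [← hi _ (E.mul_mem ha hb), mul_inv_rev, hi a ha, hi b hb]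
  have hW : Cfsg.IsElementaryAbelian 2 (E.subgroupOf P) := by
    refine ⟨⟨⟨fun a b => Subtype.ext (Subtype.ext ?_)⟩⟩, fun a ha => Subtype.ext ?_⟩
    · exact hcommE _ (Subgroup.mem_subgroupOf.1 a.2) _ (Subgroup.mem_subgroupOf.1 b.2)
    · exact hE2 _ (Subgroup.mem_subgroupOf.1 ha)
  have hWc : Nat.card (E.subgroupOf P) = 8 := by
    rw [Nat.card_congr (Subgroup.subgroupOfEquivOfLe hES).toEquiv, hE8]
  obtain ⟨U, hUn, hU, hUc⟩ := PNormal.exists_normal_card_sq hP hW (by rw [hWc]; norm_num)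
  haveI := hUn
  set C := Subgroup.centralizer (U : Set P) with hC
  have hidx : C.index ≤ 2 := by
    have h := PNormal.card_le_mul_centralizer hP hU hUc ⊤
    rw [top_inf_eq, Subgroup.card_top] at h
    have h2 := C.card_mul_index
    have h3 : Nat.card P ≤ 2 * Nat.card C := h
    rw [← h2, mul_comm 2] at h3
    exact Nat.le_of_mul_le_mul_left h3 Nat.card_pos
  -- some conjugate of `x` lies in `C`
  obtain ⟨g, w, hwC, hw⟩ : ∃ (g : G) (w : P), w ∈ C ∧ (w : G) = g * x * g⁻¹ := by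
    obtain ⟨g₀, hg₀⟩ := Involution.exists_conj_mem_sylow S hx
    by_cases h : (⟨g₀ * x * g₀⁻¹, hg₀⟩ : P) ∈ C
    · exact ⟨g₀, _, h, rfl⟩
    have hrel : (C.map P.subtype).relIndex P = 2 := by
      rw [Subgroup.relIndex, Subgroup.subgroupOf, Subgroup.comap_map_eq_self_of_injective P.subtype_injective]
      have hne : C.index ≠ 1 := fun h1 => h (Subgroup.index_eq_one.1 h1 ▸ Subgroup.mem_top _)
      have := Nat.pos_of_ne_zero (Subgroup.index_ne_zero_of_finite (H := C))
      omega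
    rcases Cfsg.Agent.S0111.result S (C.map P.subtype) (Subgroup.map_subtype_le C) hrel _
      (by rw [Involution.orderOf_conj, hx]) hg₀ (fun ⟨c, hc, e⟩ => h (by
        rwa [show (⟨g₀ * x * g₀⁻¹, hg₀⟩ : P) = c from Subtype.ext e.symm])) with ⟨M, -, hM, -⟩ | ⟨g, hg⟩
    · exact absurd hM (hno M)
    · obtain ⟨c, hc, e⟩ := hg
      exact ⟨g * g₀, c, hc, by
        rw [show (g * g₀) * x * (g * g₀)⁻¹ = g * (g₀ * x * g₀⁻¹) * g⁻¹ by group]; exact e⟩
  have hw2 : w ^ 2 = 1 := Subtype.ext (by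
    rw [Subgroup.coe_pow, hw, ← Involution.orderOf_conj g x] at *
    rw [← hx]; exact pow_orderOf_eq_one _)
  -- an elementary abelian subgroup of order 8 of `P` centralising `w`
  obtain ⟨W, hWe, hW8, hWw⟩ : ∃ W : Subgroup P, Cfsg.IsElementaryAbelian 2 W ∧ Nat.card W = 8 ∧
      W ≤ Subgroup.centralizer ({w} : Set P) := by
    have hcomm : ∀ d ∈ C, ∀ a ∈ U, Commute d a := fun d hd a ha =>
      ((Subgroup.mem_centralizer_iff.1 hd) a ha).symm
    have hbuild : ∀ d ∈ C, d ^ 2 = 1 → d ∉ U → Nat.card ↥(U ⊔ Subgroup.zpowers d) = 8 := by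
      intro d hd hd2 hdU
      haveI hn : Subgroup.zpowers d ≤ Subgroup.normalizer (U : Set P) :=
        Subgroup.normalizer_eq_top (U : Subgroup P) ▸ le_top
      have hdisj : Disjoint U (Subgroup.zpowers d) := by
        rw [Subgroup.disjoint_def]
        rintro y hy ⟨i, rfl⟩
        dsimp only at hy ⊢
        rcases Int.even_or_odd i with ⟨j, rfl⟩ | ⟨j, rfl⟩
        · rw [← two_mul, zpow_mul, zpow_ofNat, hd2, one_zpow]
        · rw [zpow_add_one, zpow_mul, zpow_ofNat, hd2, one_zpow, one_mul] at hy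
          exact absurd hy hdU
      let f : U × Subgroup.zpowers d → ↥(U ⊔ Subgroup.zpowers d) := fun z =>
        ⟨(z.1 : P) * z.2, mul_mem (Subgroup.mem_sup_left z.1.2) (Subgroup.mem_sup_right z.2.2)⟩
      have hf : Function.Bijective f := by
        refine ⟨fun a b hab => Subgroup.mul_injective_of_disjoint hdisj (congrArg Subtype.val hab), ?_⟩
        rintro ⟨y, hy⟩
        obtain ⟨a, ha, b, hb, rfl⟩ := Subgroup.mem_sup_of_normal_left.1 hy
        exact ⟨(⟨a, ha⟩, ⟨b, hb⟩), rfl⟩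
      rw [← Nat.card_eq_of_bijective f hf, Nat.card_prod, hUc, Nat.card_zpowers,
        orderOf_eq_prime hd2 fun h => hdU (h ▸ U.one_mem)]
      norm_num
    by_cases hwU : w ∈ U
    · obtain ⟨d, hd, hdU⟩ : ∃ d ∈ E.subgroupOf P ⊓ C, d ∉ U := by
        by_contra! hall
        have hcard : 4 ≤ Nat.card ↥(E.subgroupOf P ⊓ C) := by
          have h := PNormal.card_le_mul_centralizer hP hU hUc (E.subgroupOf P)
          rw [hWc, ← hC] at h
          omega
        have heq : E.subgroupOf P ⊓ C = U :=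
          Subgroup.eq_of_le_of_card_ge hall (by rw [hUc]; exact hcard)
        have hle : E.subgroupOf P ≤ C := fun e he => Subgroup.mem_centralizer_iff.2 fun u hu =>
          Subtype.ext (hcommE _ (Subgroup.mem_subgroupOf.1 (heq.ge hu).1) _ (Subgroup.mem_subgroupOf.1 he))
        rw [inf_eq_left.2 hle] at heq
        rw [heq, hUc] at hWc
        norm_num at hWc
      refine ⟨U ⊔ Subgroup.zpowers d, PNormal.elementary_sup hU (hcomm d hd.2) (hW.2 d hd.1),
        hbuild d hd.2 (hW.2 d hd.1) hdU, sup_le ?_ (Subgroup.zpowers_le.2 ?_)⟩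
      · intro a ha
        exact Involution.mem_centralizer_singleton.2 ((hcomm w hwC a ha).symm)
      · exact Involution.mem_centralizer_singleton.2 (hcomm d hd.2 w hwU)
    · refine ⟨U ⊔ Subgroup.zpowers w, PNormal.elementary_sup hU (hcomm w hwC) hw2,
        hbuild w hwC hw2 hwU, sup_le ?_ (Subgroup.zpowers_le.2 ?_)⟩
      · intro a ha
        exact Involution.mem_centralizer_singleton.2 ((hcomm w hwC a ha).symm)
      · exact Involution.mem_centralizer_singleton.2 rfl
  refine ⟨W.map ((MulAut.conj g⁻¹).toMonoidHom.comp P.subtype), ?_, ?_, ?_⟩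
  · rintro _ ⟨a, ha, rfl⟩
    rw [Involution.mem_centralizer_singleton]
    have hax : (a : G) * (g * x * g⁻¹) = (g * x * g⁻¹) * a := by
      rw [← hw]; exact congrArg Subtype.val (Involution.mem_centralizer_singleton.1 (hWw ha))
    show g⁻¹ * (a : G) * g⁻¹⁻¹ * x = x * (g⁻¹ * (a : G) * g⁻¹⁻¹)
    calc g⁻¹ * (a : G) * g⁻¹⁻¹ * x = g⁻¹ * ((a : G) * (g * x * g⁻¹)) * g := by group
      _ = x * (g⁻¹ * (a : G) * g⁻¹⁻¹) := by rw [hax]; group
  · rw [Subgroup.card_map_of_injective ((MulAut.conj g⁻¹).injective.comp P.subtype_injective), hW8]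
  · rintro _ ⟨a, ha, rfl⟩
    rw [← map_pow, hWe.2 a ha, map_one]

end Cfsg.Agent.S0221
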