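import Cfsg.Statements.S3889
import Cfsg.Agent.EqLemmas

set_option autoImplicit false
open Cfsg

namespace Cfsg.Agent.S3889

/-- A finite abelian group that is the union of a family of proper subgroups any two of which intersect trivially is elementary abelian: its exponent is a prime. -/
theorem result {G : Type*} [CommGroup G] [Finite G] (𝓑 : Set (Subgroup G)) (hprop : ∀ B ∈ 𝓑, B ≠ ⊤)
    (hcov : ∀ g : G, ∃ B ∈ 𝓑, g ∈ B) (hdisj : ∀ B ∈ 𝓑, ∀ C ∈ 𝓑, B ≠ C → B ⊓ C = ⊥) :
    (Monoid.exponent G).Prime := by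
  have hne : ∃ g : G, g ≠ 1 := by
    by_contra hc
    push_neg at hc
    obtain ⟨B, hB, -⟩ := hcov 1
    apply hprop B hB
    rw [eq_top_iff]
    intro g _
    rw [hc g]
    exact B.one_mem
  have key : ∀ B ∈ 𝓑, ∀ x ∈ B, x ≠ 1 → ∀ y : G, y ∉ B → orderOf x = orderOf y := by
    intro B hB x hx hx1 y hy
    obtain ⟨C, hC, hyC⟩ := hcov y
    obtain ⟨D, hD, hxyD⟩ := hcov (x * y)
    have hCB : C ≠ B := fun h => hy (h ▸ hyC)
    have hDB : D ≠ B := by
      intro h
      apply hy
      have h2 := B.mul_mem (B.inv_mem hx) (h ▸ hxyD)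
      simpa using h2
    have hDC : D ≠ C := by
      intro h
      apply hx1
      have h2 := C.mul_mem (h ▸ hxyD) (C.inv_mem hyC)
      have h3 : x ∈ B ⊓ C := ⟨hx, by simpa using h2⟩
      rw [hdisj B hB C hC (Ne.symm hCB)] at h3
      exact Subgroup.mem_bot.1 h3
    apply Nat.dvd_antisymm
    · apply orderOf_dvd_of_pow_eq_one
      have h1 : x ^ orderOf y ∈ B ⊓ D := by
        refine ⟨B.pow_mem hx _, ?_⟩
        have h2 := D.pow_mem hxyD (orderOf y)
        rwa [mul_pow, pow_orderOf_eq_one, mul_one] at h2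
      rw [hdisj B hB D hD (Ne.symm hDB)] at h1
      exact Subgroup.mem_bot.1 h1
    · apply orderOf_dvd_of_pow_eq_one
      have h1 : y ^ orderOf x ∈ C ⊓ D := by
        refine ⟨C.pow_mem hyC _, ?_⟩
        have h2 := D.pow_mem hxyD (orderOf x)
        rwa [mul_pow, pow_orderOf_eq_one, one_mul] at h2
      rw [hdisj C hC D hD (Ne.symm hDC)] at h1
      exact Subgroup.mem_bot.1 h1
  have all : ∀ x y : G, x ≠ 1 → y ≠ 1 → orderOf x = orderOf y := by
    intro x y hx hy
    obtain ⟨B, hB, hxB⟩ := hcov x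
    by_cases hyB : y ∈ B
    · obtain ⟨z, -, hz⟩ := SetLike.exists_of_lt (lt_top_iff_ne_top.2 (hprop B hB))
      rw [key B hB x hxB hx z hz, key B hB y hyB hy z hz]
    · exact key B hB x hxB hx y hyB
  obtain ⟨g, hg⟩ := hne
  obtain ⟨p, hp, hpd⟩ := Nat.exists_prime_and_dvd (orderOf_eq_one_iff.not.2 hg)
  have hop : orderOf (g ^ (orderOf g / p)) = p :=
    orderOf_pow_orderOf_div (orderOf_pos g).ne' hpd
  have hz : g ^ (orderOf g / p) ≠ 1 := by
    intro h
    rw [h, orderOf_one] at hop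
    exact hp.ne_one hop.symm
  have hgp : orderOf g = p := (all g _ hg hz).trans hop
  have he : Monoid.exponent G = p := by
    apply Nat.dvd_antisymm
    · rw [Monoid.exponent_dvd_iff_forall_pow_eq_one]
      intro y
      by_cases hy : y = 1
      · simp [hy]
      · rw [← hgp, all g y hg hy]
        exact pow_orderOf_eq_one y
    · rw [← hgp]
      exact Monoid.order_dvd_exponent g
  rw [he]
  exact hp

end Cfsg.Agent.S3889
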