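import Cfsg.Statements.S1689
import Cfsg.Agent.EqLemmas
import Cfsg.Agent.Lib.CosetEnum.Index
import Cfsg.Agent.Lib.CosetEnum.SetupFi23
import Cfsg.Agent.Lib.CosetEnum.TableFi23H

set_option autoImplicit false
set_option Elab.async false
open Cfsg

namespace Cfsg.Agent.S1689

open Cfsg.Spor in
/-- The generators of the subgroup. -/
def hgens : List (FreeGroup Fi23.Gen) :=
  [Fi23.a, Fi23.b, Fi23.c, Fi23.d, Fi23.e, Fi23.f, Fi23.g, Fi23.h, Fi23.i]

open Cfsg.Agent.CosetEnum in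
theorem rels0 : Setup.relsChunkOK fi23Setup fi23h 0 12 = true := by decide +kernel

open Cfsg.Agent.CosetEnum in
theorem rels1 : Setup.relsChunkOK fi23Setup fi23h 12 12 = true := by decide +kernel

open Cfsg.Agent.CosetEnum in
theorem rels2 : Setup.relsChunkOK fi23Setup fi23h 24 12 = true := by decide +kernel

open Cfsg.Agent.CosetEnum in
theorem rels3 : Setup.relsChunkOK fi23Setup fi23h 36 12 = true := by decide +kernel

open Cfsg.Agent.CosetEnum in
theorem rels4 : Setup.relsChunkOK fi23Setup fi23h 48 12 = true := by decide +kernel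

open Cfsg.Agent.CosetEnum in
theorem rels5 : Setup.relsChunkOK fi23Setup fi23h 60 12 = true := by decide +kernel

open Cfsg.Agent.CosetEnum in
theorem rels6 : Setup.relsChunkOK fi23Setup fi23h 72 12 = true := by decide +kernel

open Cfsg.Agent.CosetEnum in
theorem rels7 : Setup.relsChunkOK fi23Setup fi23h 84 12 = true := by decide +kernel

open Cfsg.Agent.CosetEnum in
theorem rels8 : Setup.relsChunkOK fi23Setup fi23h 96 12 = true := by decide +kernel

open Cfsg.Agent.CosetEnum in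
theorem rels_ok : fi23Setup.relsOK fi23h = true := Setup.relsOK_of_chunk (Setup.relsChunk_append (Setup.relsChunk_append (Setup.relsChunk_append (Setup.relsChunk_append (Setup.relsChunk_append (Setup.relsChunk_append (Setup.relsChunk_append (Setup.relsChunk_append rels0 rels1) rels2) rels3) rels4) rels5) rels6) rels7) rels8) (by decide +kernel)

open Cfsg.Agent.CosetEnum in
theorem table : Setup.Table fi23Setup fi23h hgens := by
  have hl : fi23Setup.lettersOK fi23Letters = true := by decide +kernel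
  refine Setup.Table.mk'' (ext := [fi23h_seed0.tgt]) fi23Setup_gens fi23h_check (by decide +kernel) rels_ok (by decide +kernel)
    (by decide +kernel) fun w hw => ?_
  rw [List.mem_singleton.mp hw]
  exact Setup.seed_fixes_id fi23Setup_gens hl fi23h_seed0_check (by decide +kernel)

open Cfsg.Agent.CosetEnum in
theorem main (H : Subgroup fi23Setup.G) (hH : H = fi23Setup.closureOf hgens) :
    H.index = 31671 ∧ ∃ q₁ q₂ : fi23Setup.G ⧸ H,
      (MulAction.orbit H q₁).ncard = 3510 ∧ (MulAction.orbit H q₂).ncard = 28160 := by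
  subst hH
  refine ⟨Setup.Table.index table, ?_⟩
  obtain ⟨e, he⟩ := Setup.Table.orbit table
  have key : ∀ O : OrbitData, (fi23h.reachOK O && fi23h.invariantOK O) = true →
      O.words = hgens.map (fi23Setup.wl fi23h) →
      ∃ q : fi23Setup.G ⧸ fi23Setup.closureOf hgens, (MulAction.orbit (fi23Setup.closureOf hgens) q).ncard = O.size := by
    intro O h1 h2
    simp only [Bool.and_eq_true] at h1
    obtain ⟨q, hq, _⟩ := he O h1.1 h1.2 h2
    exact ⟨q, hq⟩
  obtain ⟨q₁, hq1⟩ := key fi23h_orb1 fi23h_orb1_check (by decide +kernel)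
  obtain ⟨q₂, hq2⟩ := key fi23h_orb0 fi23h_orb0_check (by decide +kernel)
  exact ⟨q₁, q₂, hq1, hq2⟩

/-- In the presented Fischer group Fi₂₃, let H be the subgroup generated by the images of a, …, i. Then H has index 31671, H has orbits of sizes 3510 and 28160 on the cosets of H other than H itself. -/
theorem result : (((Subgroup.closure ({Cfsg.Spor.Fi23.a, Cfsg.Spor.Fi23.b, Cfsg.Spor.Fi23.c, Cfsg.Spor.Fi23.d, Cfsg.Spor.Fi23.e, Cfsg.Spor.Fi23.f, Cfsg.Spor.Fi23.g, Cfsg.Spor.Fi23.h, Cfsg.Spor.Fi23.i} : Set (FreeGroup Cfsg.Spor.Fi23.Gen))).map (PresentedGroup.mk (Cfsg.Spor.coxRelators Cfsg.Spor.Fi23.edges ∪ {r | r ∈ Cfsg.Spor.Fi23.extra})))).index = 31671 ∧ ∃ q₁ q₂ : Cfsg.Spor.Fi23 ⧸ (((Subgroup.closure ({Cfsg.Spor.Fi23.a, Cfsg.Spor.Fi23.b, Cfsg.Spor.Fi23.c, Cfsg.Spor.Fi23.d, Cfsg.Spor.Fi23.e, Cfsg.Spor.Fi23.f, Cfsg.Spor.Fi23.g, Cfsg.Spor.Fi23.h, Cfsg.Spor.Fi23.i} : Set (FreeGroup Cfsg.Spor.Fi23.Gen))).map (PresentedGroup.mk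 (Cfsg.Spor.coxRelators Cfsg.Spor.Fi23.edges ∪ {r | r ∈ Cfsg.Spor.Fi23.extra})))), (MulAction.orbit (((Subgroup.closure ({Cfsg.Spor.Fi23.a, Cfsg.Spor.Fi23.b, Cfsg.Spor.Fi23.c, Cfsg.Spor.Fi23.d, Cfsg.Spor.Fi23.e, Cfsg.Spor.Fi23.f, Cfsg.Spor.Fi23.g, Cfsg.Spor.Fi23.h, Cfsg.Spor.Fi23.i} : Set (FreeGroup Cfsg.Spor.Fi23.Gen))).map (PresentedGroup.mk (Cfsg.Spor.coxRelators Cfsg.Spor.Fi23.edges ∪ {r | r ∈ Cfsg.Spor.Fi23.extra})))) q₁).ncard = 3510 ∧ (MulAction.orbit (((Subgroup.closure ({Cfsg.Spor.Fi23.a, Cfsg.Spor.Fi23.b, Cfsg.Spor.Fi23.c, Cfsg.Spor.Fi23.d, Cfsg.Spor.Fi23.e, Cfsg.Spor.Fi23.f, Cfsg.Spor.Fi23.g, Cfsg.Spor.Fi23.h, Cfsg.Spor.Fi23.i} : Set (FreeGroup Cfsg.Spor.Fi23.Gen))).map (PresentedGroup.mk (Cfsg.Spor.coxRelators Cfsg.Spor.Fi23.edges ∪ {r | r ∈ Cfsg.Spor.Fi23.extra})))) q₂).ncard = 28160 := by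
  refine Cfsg.Agent.S1689.main _ ?_
  open Cfsg.Agent.CosetEnum in
  exact Setup.closureOf_eq fi23Setup hgens _ (by
    ext x; simp only [hgens, List.mem_cons, List.not_mem_nil, or_false, Set.mem_insert_iff,
      Set.mem_singleton_iff, Set.mem_ofPred_eq])

end Cfsg.Agent.S1689
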