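import Cfsg.Statements.S1692
import Cfsg.Agent.EqLemmas
import Cfsg.Agent.Lib.CosetEnum.Index
import Cfsg.Agent.Lib.CosetEnum.SetupON
import Cfsg.Agent.Lib.CosetEnum.TableON

set_option autoImplicit false
set_option Elab.async false
open Cfsg

namespace Cfsg.Agent.S1692

open Cfsg.Spor in
/-- The generators of the subgroup. -/
def hgens : List (FreeGroup ON.Gen) := [ON.a, ON.b, ON.c, ON.d, ON.e, ON.f]

open Cfsg.Agent.CosetEnum in
theorem rels0 : Setup.relsChunkOK onSetup on122760 0 2 = true := by decide +kernel

open Cfsg.Agent.CosetEnum in
theorem rels1 : Setup.relsChunkOK onSetup on122760 2 2 = true := by decide +kernel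

open Cfsg.Agent.CosetEnum in
theorem rels2 : Setup.relsChunkOK onSetup on122760 4 2 = true := by decide +kernel

open Cfsg.Agent.CosetEnum in
theorem rels3 : Setup.relsChunkOK onSetup on122760 6 2 = true := by decide +kernel

open Cfsg.Agent.CosetEnum in
theorem rels4 : Setup.relsChunkOK onSetup on122760 8 2 = true := by decide +kernel

open Cfsg.Agent.CosetEnum in
theorem rels5 : Setup.relsChunkOK onSetup on122760 10 2 = true := by decide +kernel

open Cfsg.Agent.CosetEnum in
theorem rels6 : Setup.relsChunkOK onSetup on122760 12 2 = true := by decide +kernel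

open Cfsg.Agent.CosetEnum in
theorem rels7 : Setup.relsChunkOK onSetup on122760 14 2 = true := by decide +kernel

open Cfsg.Agent.CosetEnum in
theorem rels8 : Setup.relsChunkOK onSetup on122760 16 2 = true := by decide +kernel

open Cfsg.Agent.CosetEnum in
theorem rels9 : Setup.relsChunkOK onSetup on122760 18 2 = true := by decide +kernel

open Cfsg.Agent.CosetEnum in
theorem rels10 : Setup.relsChunkOK onSetup on122760 20 2 = true := by decide +kernel

open Cfsg.Agent.CosetEnum in
theorem rels11 : Setup.relsChunkOK onSetup on122760 22 2 = true := by decide +kernel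

open Cfsg.Agent.CosetEnum in
theorem rels12 : Setup.relsChunkOK onSetup on122760 24 2 = true := by decide +kernel

open Cfsg.Agent.CosetEnum in
theorem rels13 : Setup.relsChunkOK onSetup on122760 26 2 = true := by decide +kernel

open Cfsg.Agent.CosetEnum in
theorem rels14 : Setup.relsChunkOK onSetup on122760 28 2 = true := by decide +kernel

open Cfsg.Agent.CosetEnum in
theorem rels15 : Setup.relsChunkOK onSetup on122760 30 2 = true := by decide +kernel

open Cfsg.Agent.CosetEnum in
theorem rels16 : Setup.relsChunkOK onSetup on122760 32 2 = true := by decide +kernel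

open Cfsg.Agent.CosetEnum in
theorem rels17 : Setup.relsChunkOK onSetup on122760 34 2 = true := by decide +kernel

open Cfsg.Agent.CosetEnum in
theorem rels18 : Setup.relsChunkOK onSetup on122760 36 2 = true := by decide +kernel

open Cfsg.Agent.CosetEnum in
theorem rels19 : Setup.relsChunkOK onSetup on122760 38 2 = true := by decide +kernel

open Cfsg.Agent.CosetEnum in
theorem rels20 : Setup.relsChunkOK onSetup on122760 40 2 = true := by decide +kernel

open Cfsg.Agent.CosetEnum in
theorem rels21 : Setup.relsChunkOK onSetup on122760 42 2 = true := by decide +kernel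

open Cfsg.Agent.CosetEnum in
theorem rels_ok : onSetup.relsOK on122760 = true := Setup.relsOK_of_chunk (Setup.relsChunk_append (Setup.relsChunk_append (Setup.relsChunk_append (Setup.relsChunk_append (Setup.relsChunk_append (Setup.relsChunk_append (Setup.relsChunk_append (Setup.relsChunk_append (Setup.relsChunk_append (Setup.relsChunk_append (Setup.relsChunk_append (Setup.relsChunk_append (Setup.relsChunk_append (Setup.relsChunk_append (Setup.relsChunk_append (Setup.relsChunk_append (Setup.relsChunk_append (Setup.relsChunk_append (Setup.relsChunk_append (Setup.relsChunk_append (Setup.relsChunk_append rels0 rels1) rels2) rels3) rels4) rels5) rels6) rels7) rels8) rels9) rels10) rels11) rels12) rels13) rels14) rels15) rels16) rels17) rels18) rels19) rels20) rels21) (by decide +kernel)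

open Cfsg.Agent.CosetEnum in
theorem table : Setup.Table onSetup on122760 hgens := by
  have hl : onSetup.lettersOK onLetters = true := by decide +kernel
  have h0 := Setup.seed_fixes_id (hs := hgens) onSetup_gens hl on122760_seed0_check (by decide +kernel)
  have h1 := Setup.seed_fixes_id_ext (hs := hgens) onSetup_gens hl on122760_seed1_check
    [on122760_seed0.tgt] (fun w hw => by
      simp only [List.mem_cons, List.not_mem_nil, or_false] at hw
      rcases hw with rfl <;> assumption) (by decide +kernel)
  have h2 := Setup.seed_fixes_id_ext (hs := hgens) onSetup_gens hl on122760_seed2_check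
    [on122760_seed0.tgt, on122760_seed1.tgt] (fun w hw => by
      simp only [List.mem_cons, List.not_mem_nil, or_false] at hw
      rcases hw with rfl | rfl <;> assumption) (by decide +kernel)
  have h3 := Setup.seed_fixes_id_ext (hs := hgens) onSetup_gens hl on122760_seed3_check
    [on122760_seed0.tgt, on122760_seed1.tgt, on122760_seed2.tgt] (fun w hw => by
      simp only [List.mem_cons, List.not_mem_nil, or_false] at hw
      rcases hw with rfl | rfl | rfl <;> assumption) (by decide +kernel)
  have h4 := Setup.seed_fixes_id_ext (hs := hgens) onSetup_gens hl on122760_seed4_check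
    [on122760_seed0.tgt, on122760_seed1.tgt, on122760_seed2.tgt, on122760_seed3.tgt] (fun w hw => by
      simp only [List.mem_cons, List.not_mem_nil, or_false] at hw
      rcases hw with rfl | rfl | rfl | rfl <;> assumption) (by decide +kernel)
  refine Setup.Table.mk'' (ext := [on122760_seed0.tgt, on122760_seed1.tgt, on122760_seed2.tgt, on122760_seed3.tgt, on122760_seed4.tgt]) onSetup_gens
    on122760_check (by decide +kernel) rels_ok (by decide +kernel) (by decide +kernel) fun w hw => ?_
  simp only [List.mem_cons, List.not_mem_nil, or_false] at hw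
  rcases hw with rfl | rfl | rfl | rfl | rfl <;> assumption

open Cfsg.Agent.CosetEnum in
theorem main (H : Subgroup onSetup.G) (hH : H = onSetup.closureOf hgens) : H.index = 122760 := by
  subst hH
  exact Setup.Table.index table

/-- In the presented O'Nan group (generators g, a, b, c, d, e, f), the subgroup generated by the images of a, …, f has index 122760. -/
theorem result : (((Subgroup.closure ({Cfsg.Spor.ON.a, Cfsg.Spor.ON.b, Cfsg.Spor.ON.c, Cfsg.Spor.ON.d, Cfsg.Spor.ON.e, Cfsg.Spor.ON.f} : Set (FreeGroup Cfsg.Spor.ON.Gen))).map (PresentedGroup.mk (Cfsg.Spor.coxRelators Cfsg.Spor.ON.edges ∪ {r | r ∈ Cfsg.Spor.ON.extra})))).index = 122760 := by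
  refine Cfsg.Agent.S1692.main _ ?_
  open Cfsg.Agent.CosetEnum in
  exact Setup.closureOf_eq onSetup hgens _ (by
    ext x; simp only [hgens, List.mem_cons, List.not_mem_nil, or_false, Set.mem_insert_iff,
      Set.mem_singleton_iff, Set.mem_ofPred_eq])

end Cfsg.Agent.S1692
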