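import Cfsg.Statements.S2090
import Cfsg.Agent.Lib.MultiplierUFourThree.FullCover
import Cfsg.Agent.Lib.MultiplierUFourThree.Upper
import Cfsg.Agent.Lib.Unitary.Small32

set_option autoImplicit false
open Cfsg

namespace Cfsg.Agent.S2090

/-- Exceptional Schur multiplier: PSU₄(3), realised over the field with 9 elements, has Schur multiplier isomorphic to the product of cyclic groups of orders 4, 3 and 3 (order 36, not cyclic; here the Schur multiplier is described through stem extensions, as in the definitions). -/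
theorem result {F : Type*} [Field F] [Fintype F] (hF : Fintype.card F = 9) : Cfsg.HasSchurMultiplier (Cfsg.PSU 4 F 3) (Multiplicative (ZMod 4 × ZMod 3 × ZMod 3)) := by
  classical
  haveI := Fact.mk Nat.prime_three
  let F₀ := GaloisField 3 2
  letI : Fintype F₀ := Fintype.ofFinite F₀
  have hF₀ : Fintype.card F₀ = 3 ^ 2 := by
    rw [← Nat.card_eq_fintype_card]; exact GaloisField.card 3 2 two_ne_zero
  have e₁ : Cfsg.PSU 4 F 3 ≃* Cfsg.PSU 4 F₀ 3 :=
    Unitary.psuMapEquiv (FiniteField.ringEquivOfCardEq (K' := F₀) (by rw [hF, hF₀]; norm_num)) 4 3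
  refine ⟨?_, fun Γ _ _ σ hσ => ?_⟩
  · obtain ⟨Γ, _, _, σ, hσ, ⟨k⟩⟩ := MultiplierUFourThree.exists_cover hF₀
    let τ : ULift Γ →* Cfsg.PSU 4 F 3 := e₁.symm.toMonoidHom.comp (σ.comp MulEquiv.ulift.toMonoidHom)
    have hmem : ∀ x : ULift Γ, x ∈ τ.ker ↔ x.down ∈ σ.ker := fun x => by
      simp only [MonoidHom.mem_ker]
      exact ⟨fun h => e₁.symm.injective (h.trans (map_one _).symm),
        fun h => (congrArg e₁.symm h).trans (map_one _)⟩
    refine ⟨ULift Γ, inferInstance, inferInstance, τ, ⟨?_, ?_, ?_⟩, ⟨?_⟩⟩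
    · exact e₁.symm.surjective.comp (hσ.1.comp MulEquiv.ulift.surjective)
    · intro x hx
      exact Subgroup.mem_center_iff.2 fun g => ULift.ext _ _
        (Subgroup.mem_center_iff.1 (hσ.2.1 ((hmem x).1 hx)) g.down)
    · intro x hx
      have h := Subgroup.mem_map_of_mem MulEquiv.ulift.symm.toMonoidHom (hσ.2.2 ((hmem x).1 hx))
      rw [commutator_def, Subgroup.map_commutator] at h
      exact Subgroup.commutator_mono le_top le_top h
    · exact MulEquiv.trans
        { toFun := fun x => ⟨x.1.down, (hmem _).1 x.2⟩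
          invFun := fun y => ⟨ULift.up y.1, (hmem _).2 y.2⟩
          left_inv := fun _ => rfl
          right_inv := fun _ => rfl
          map_mul' := fun _ _ => rfl } k
  · obtain ⟨φ, hφ⟩ := Leech.exists_hom_psu43 hF₀
    obtain ⟨iso⟩ := StabCert.nonempty_range_permHom (n := 4) (p := 3) hF₀ (by norm_num)
    let e := e₁.trans iso.symm
    let τ : Γ →* MultiplierUFourThree.PU F₀ := e.toMonoidHom.comp σ
    have hk : τ.ker = σ.ker := by
      ext x
      simp only [MonoidHom.mem_ker]
      exact ⟨fun h => e.injective (h.trans (map_one _).symm),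
        fun h => (congrArg e h).trans (map_one _)⟩
    obtain ⟨π, hπ⟩ := MultiplierUFourThree.exists_surj hF₀ φ hφ τ
      ⟨e.surjective.comp hσ.1, by rw [hk]; exact hσ.2.1, by rw [hk]; exact hσ.2.2⟩
    exact ⟨(MulEquiv.subgroupCongr hk).toMonoidHom.comp π,
      (MulEquiv.subgroupCongr hk).surjective.comp hπ⟩

end Cfsg.Agent.S2090
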