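import Cfsg.Statements.S2426
import Cfsg.Agent.Lib.RankOne.Steinberg

set_option autoImplicit false
open Cfsg

namespace Cfsg.Agent.S2426

open Cfsg.Agent.RankOne

/-- In a finite field `1` is a sum of two non-squares if there are non-squares. -/
theorem finite_split {k : Type*} [Field k] [Finite k] (q : k) (hq : ¬ IsSquare q) :
    ∃ u : k, ¬ IsSquare u ∧ ¬ IsSquare (1 - u) := by
  have := Fintype.ofFinite k
  have hc : ringChar k ≠ 2 := fun h => hq (FiniteField.isSquare_of_char_two h q)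
  have hq0 : q ≠ 0 := fun e => hq (e ▸ IsSquare.zero)
  obtain ⟨a, b, hab⟩ : ∃ a b : k, a ^ 2 + b ^ 2 = q⁻¹ := by
    obtain ⟨a, b, h⟩ := FiniteField.exists_root_sum_quadratic
      (f := Polynomial.C 1 * Polynomial.X ^ 2 + Polynomial.C 0 * Polynomial.X + Polynomial.C 0)
      (g := Polynomial.C 1 * Polynomial.X ^ 2 + Polynomial.C 0 * Polynomial.X + Polynomial.C (-q⁻¹))
      (Polynomial.degree_quadratic one_ne_zero) (Polynomial.degree_quadratic one_ne_zero)
      (FiniteField.odd_card_of_char_ne_two hc)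
    simp at h
    exact ⟨a, b, by linear_combination h⟩
  have hne : ∀ {x y : k}, x ^ 2 + y ^ 2 = q⁻¹ → x ≠ 0 := by
    rintro x y h rfl
    exact hq ⟨y⁻¹, by rw [← mul_inv, ← sq, ← inv_inv q, ← h]; simp⟩
  have hns : ∀ {x : k}, x ≠ 0 → ¬ IsSquare (q * x ^ 2) := by
    rintro x hx ⟨r, hr⟩
    exact hq ⟨r / x, by field_simp; linear_combination hr⟩
  refine ⟨q * a ^ 2, hns (hne hab), ?_⟩
  have h1 : 1 - q * a ^ 2 = q * b ^ 2 := by
    linear_combination (-q) * hab - mul_inv_cancel₀ hq0
  rw [h1]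
  exact hns (hne (x := b) (y := a) (by linear_combination hab))


/-- The rank-one Steinberg presentation of `SL₂` over a finite field `K`: generators `x(t)`, `y(t)` (`t ∈ K`; the two opposite root subgroups) subject to additivity `x(t)x(u) = x(t+u)`, `y(t)y(u) = y(t+u)` and, with `w(t) = x(t) y(−t⁻¹) x(t)` and `w'(t) = y(t) x(−t⁻¹) y(t)` for `t ≠ 0`, the relations `w(t) x(u) w(t)⁻¹ = y(−t⁻² u)` and `w'(t) y(u) w'(t)⁻¹ = x(−t⁻² u)`, present `SL₂(K)`, with `x(t) ↦ (1 t; 0 1)` and `y(t) ↦ (1 0; t 1)`. -/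
theorem result {K : Type*} [Field K] [Finite K] :
    ∃ e : PresentedGroup
        ({g : FreeGroup (Bool × K) | ∃ (b : Bool) (t u : K), g = FreeGroup.of (b, t) * FreeGroup.of (b, u) * (FreeGroup.of (b, t + u))⁻¹} ∪
          {g | ∃ (b : Bool) (t u : K), t ≠ 0 ∧
            g = (FreeGroup.of (b, t) * FreeGroup.of (!b, -t⁻¹) * FreeGroup.of (b, t)) * FreeGroup.of (b, u) *
                  (FreeGroup.of (b, t) * FreeGroup.of (!b, -t⁻¹) * FreeGroup.of (b, t))⁻¹ * (FreeGroup.of (!b, -(t⁻¹ ^ 2 * u)))⁻¹})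
        ≃* Matrix.SpecialLinearGroup (Fin 2) K,
      (∀ t : K, ((e (PresentedGroup.of (true, t)) : Matrix (Fin 2) (Fin 2) K)) = !![1, t; 0, 1]) ∧
      (∀ t : K, ((e (PresentedGroup.of (false, t)) : Matrix (Fin 2) (Fin 2) K)) = !![1, 0; t, 1]) := by
  classical
  set rels := ({g : FreeGroup (Bool × K) | ∃ (b : Bool) (t u : K), g = FreeGroup.of (b, t) * FreeGroup.of (b, u) * (FreeGroup.of (b, t + u))⁻¹} ∪
          {g | ∃ (b : Bool) (t u : K), t ≠ 0 ∧
            g = (FreeGroup.of (b, t) * FreeGroup.of (!b, -t⁻¹) * FreeGroup.of (b, t)) * FreeGroup.of (b, u) *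
                  (FreeGroup.of (b, t) * FreeGroup.of (!b, -t⁻¹) * FreeGroup.of (b, t))⁻¹ * (FreeGroup.of (!b, -(t⁻¹ ^ 2 * u)))⁻¹}) with hrels
  let x : Bool × K → PresentedGroup rels := PresentedGroup.of
  have hadd : ∀ b t u, x (b, t + u) = x (b, t) * x (b, u) := by
    intro b t u
    exact ((mul_inv_eq_one).1 (PresentedGroup.one_of_mem (rels := rels) (Or.inl ⟨b, t, u, rfl⟩))).symm
  have hzero : ∀ b, x (b, 0) = 1 := fun b => by simpa using hadd b 0 0
  have hneg : ∀ b t, x (b, -t) = (x (b, t))⁻¹ := fun b t =>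
    eq_inv_of_mul_eq_one_left (by rw [← hadd, neg_add_cancel, hzero])
  have hconj : ∀ t : K, t ≠ 0 → ∀ u, x (true, t) * x (false, -t⁻¹) * x (true, t) * x (true, u) *
      (x (true, t) * x (false, -t⁻¹) * x (true, t))⁻¹ = x (false, -(t⁻¹ ^ 2 * u)) := by
    intro t ht u
    exact (mul_inv_eq_one).1 (PresentedGroup.one_of_mem (rels := rels) (Or.inr ⟨true, t, u, ht, rfl⟩))
  have hconj' : ∀ t : K, t ≠ 0 → ∀ u, x (true, t) * x (false, -t⁻¹) * x (true, t) * x (false, -u) *
      (x (true, t) * x (false, -t⁻¹) * x (true, t))⁻¹ = x (true, t * t * u) := by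
    intro t ht u
    have h := hconj (-t) (neg_ne_zero.2 ht) (t * t * u)
    rw [show -((-t)⁻¹ ^ 2 * (t * t * u)) = -u by field_simp, inv_neg, hneg true t, hneg false (-t⁻¹)] at h
    rw [← h]
    group
  let D : SL2Data K (PresentedGroup rels) :=
    { xp := fun t => x (true, t)
      xm := fun t => x (false, -t)
      xp_add := fun s t => hadd true s t
      xm_add := fun s t => by rw [neg_add]; exact hadd false _ _
      braid := fun t ht => by
        have h := hconj t ht t
        rw [show t⁻¹ ^ 2 * t = t⁻¹ by field_simp, mul_inv_eq_iff_eq_mul] at h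
        simp only [mul_assoc] at h ⊢
        have h' : x (true, t) * (x (false, -t⁻¹) * x (true, t)) * x (true, t) =
            x (false, -t⁻¹) * (x (true, t) * x (false, -t⁻¹)) * x (true, t) := by
          simpa only [mul_assoc] using h
        exact mul_right_cancel h'
      conj_p := fun t ht u => by
        rw [hconj t ht u]
        congr 3
        field_simp
      conj_m := fun t ht u => hconj' t ht u }
  let f : Bool × K → Matrix.SpecialLinearGroup (Fin 2) K := fun p => if p.1 then upSL p.2 else loSL p.2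
  have hw : ∀ b (t u : K), t ≠ 0 →
      f (b, t) * f (!b, -t⁻¹) * f (b, t) * f (b, u) * (f (b, t) * f (!b, -t⁻¹) * f (b, t))⁻¹ =
        f (!b, -(t⁻¹ ^ 2 * u)) := by
    intro b t u ht
    rw [mul_inv_eq_iff_eq_mul]
    apply Subtype.ext
    cases b <;> ext i j <;> fin_cases i <;> fin_cases j <;>
      simp [f, coe_upSL, coe_loSL] <;> field_simp <;> ring_nf <;> simp
  have hf : ∀ r ∈ rels, FreeGroup.lift f r = 1 := by
    rintro r (⟨b, t, u, rfl⟩ | ⟨b, t, u, ht, rfl⟩)
    · simp only [map_mul, map_inv, FreeGroup.lift_apply_of, mul_inv_eq_one]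
      cases b <;> simp [f, upSL_mul, loSL_mul]
    · simp only [map_mul, map_inv, FreeGroup.lift_apply_of, mul_inv_eq_one]
      exact hw b t u ht
  let φ := D.hom finite_split
  let ψ : PresentedGroup rels →* Matrix.SpecialLinearGroup (Fin 2) K := PresentedGroup.toGroup hf
  have hψ : ∀ p, ψ (x p) = f p := fun p => PresentedGroup.toGroup.of hf
  have h1 : φ.comp ψ = MonoidHom.id _ := by
    apply PresentedGroup.ext
    rintro ⟨b, t⟩
    change φ (ψ (x (b, t))) = x (b, t)
    rw [hψ]
    cases b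
    · change φ (loSL t) = _
      rw [show φ (loSL t) = D.xm (-t) from D.hom_loSL finite_split t]
      simp [D]
    · exact D.hom_upSL finite_split t
  have h2 : ψ.comp φ = MonoidHom.id _ := by
    refine MonoidHom.ext fun g => ?_
    have hg : g ∈ (MonoidHom.eqLocus (ψ.comp φ) (MonoidHom.id _)) := by
      have : (⊤ : Subgroup (Matrix.SpecialLinearGroup (Fin 2) K)) ≤ MonoidHom.eqLocus (ψ.comp φ) (MonoidHom.id _) := by
        rw [← lower_sup_upper]
        refine sup_le (fun z hz => ?_) (fun z hz => ?_)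
        · obtain ⟨t, rfl⟩ := mem_lowerUnipotentSL2.1 hz
          change ψ (φ (loSL t)) = loSL t
          rw [show φ (loSL t) = D.xm (-t) from D.hom_loSL finite_split t]
          change ψ (x (false, - -t)) = _
          rw [hψ, neg_neg]; rfl
        · obtain ⟨t, rfl⟩ := mem_upperUnipotentSL2.1 hz
          change ψ (φ (upSL t)) = upSL t
          rw [show φ (upSL t) = D.xp t from D.hom_upSL finite_split t]
          change ψ (x (true, t)) = _
          rw [hψ]; rfl
      exact this (Subgroup.mem_top g)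
    exact hg
  refine ⟨MonoidHom.toMulEquiv ψ φ h1 h2, fun t => ?_, fun t => ?_⟩
  · change ((ψ (x (true, t))) : Matrix (Fin 2) (Fin 2) K) = _
    rw [hψ]; rfl
  · change ((ψ (x (false, t))) : Matrix (Fin 2) (Fin 2) K) = _
    rw [hψ]; rfl

end Cfsg.Agent.S2426
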