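import Cfsg.Statements.S1685
import Cfsg.Agent.EqLemmas
import Cfsg.Agent.Lib.CosetEnum.Index
import Cfsg.Agent.Lib.CosetEnum.SetupFi22
import Cfsg.Agent.Lib.CosetEnum.TableFi22O

set_option autoImplicit false
set_option Elab.async false
open Cfsg

namespace Cfsg.Agent.S1685

open Cfsg.Agent.CosetEnum in
/-- Generators of the subgroup of index 14080. -/
def H14080 : List (FreeGroup Cfsg.Spor.Fi22.Gen) :=
  [Cfsg.Spor.Fi22.b, Cfsg.Spor.Fi22.c, Cfsg.Spor.Fi22.d, Cfsg.Spor.Fi22.e, Cfsg.Spor.Fi22.f, Cfsg.Spor.Fi22.g,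
    Cfsg.Spor.Fi22.h, Cfsg.Spor.Fi22.i]

open Cfsg.Agent.CosetEnum in
theorem rels0 : Setup.relsChunkOK fi22Setup fi22o 0 28 = true := by decide +kernel

open Cfsg.Agent.CosetEnum in
theorem rels1 : Setup.relsChunkOK fi22Setup fi22o 28 28 = true := by decide +kernel

open Cfsg.Agent.CosetEnum in
theorem rels2 : Setup.relsChunkOK fi22Setup fi22o 56 28 = true := by decide +kernel

open Cfsg.Agent.CosetEnum in
theorem rels_ok : fi22Setup.relsOK fi22o = true := Setup.relsOK_of_chunk (Setup.relsChunk_append (Setup.relsChunk_append rels0 rels1) rels2) (by decide +kernel)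

open Cfsg.Agent.CosetEnum in
theorem table : Setup.Table fi22Setup fi22o H14080 := by
  have hl : fi22Setup.lettersOK fi22Letters = true := by decide +kernel
  refine Setup.Table.mk'' (ext := [fi22o_seed0.tgt]) fi22Setup_gens fi22o_check (by decide +kernel) rels_ok (by decide +kernel)
    (by decide +kernel) fun w hw => ?_
  rw [List.mem_singleton.mp hw]
  exact Setup.seed_fixes_id fi22Setup_gens hl fi22o_seed0_check (by decide +kernel)

open Cfsg.Agent.CosetEnum in
theorem main (H : Subgroup fi22Setup.G) (hH : H = fi22Setup.closureOf H14080) : H.index = 14080 := by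
  subst hH
  exact Setup.Table.index table

/-- In the presented Fischer group Fi₂₂ (generators a, …, i), the subgroup generated by the images of b, c, d, e, f, g, h, i has index 14080. -/
theorem result : (((Subgroup.closure ({Cfsg.Spor.Fi22.b, Cfsg.Spor.Fi22.c, Cfsg.Spor.Fi22.d, Cfsg.Spor.Fi22.e, Cfsg.Spor.Fi22.f, Cfsg.Spor.Fi22.g, Cfsg.Spor.Fi22.h, Cfsg.Spor.Fi22.i} : Set (FreeGroup Cfsg.Spor.Fi22.Gen))).map (PresentedGroup.mk (Cfsg.Spor.coxRelators Cfsg.Spor.Fi22.edges ∪ {r | r ∈ Cfsg.Spor.Fi22.extra})))).index = 14080 := by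
  refine Cfsg.Agent.S1685.main _ ?_
  open Cfsg.Agent.CosetEnum in
  exact Setup.closureOf_eq fi22Setup H14080 _ (by
    ext x; simp only [H14080, List.mem_cons, List.not_mem_nil, or_false, Set.mem_insert_iff,
      Set.mem_singleton_iff, Set.mem_ofPred_eq])

end Cfsg.Agent.S1685
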