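import Cfsg.Statements.S1687
import Cfsg.Agent.EqLemmas
import Cfsg.Agent.Lib.CosetEnum.Index
import Cfsg.Agent.Lib.CosetEnum.SetupFi22
import Cfsg.Agent.Lib.CosetEnum.TableFi22H

set_option autoImplicit false
open Cfsg

namespace Cfsg.Agent.S1687

open Cfsg.Spor in
/-- The generators of the subgroup. -/
def hgens : List (FreeGroup Fi22.Gen) :=
  [Fi22.a, Fi22.c, Fi22.d, Fi22.e, Fi22.f, Fi22.g, Fi22.h, Fi22.i,
    (Fi22.a * Fi22.b * Fi22.c * Fi22.d * Fi22.e * Fi22.h) ^ 5]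

open Cfsg.Agent.CosetEnum in
theorem table : Setup.Table fi22Setup fi22h hgens :=
  Setup.Table.mk' (ext := []) fi22Setup_gens fi22h_check (by decide +kernel) (by simp)

open Cfsg.Agent.CosetEnum in
theorem main (H : Subgroup fi22Setup.G) (hH : H = fi22Setup.closureOf hgens) :
    H.index = 3510 ∧ ∃ q₁ q₂ : fi22Setup.G ⧸ H,
      (MulAction.orbit H q₁).ncard = 693 ∧ (MulAction.orbit H q₂).ncard = 2816 := by
  subst hH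
  refine ⟨Setup.Table.index table, ?_⟩
  obtain ⟨e, he⟩ := Setup.Table.orbit table
  have key : ∀ O : OrbitData, (fi22h.reachOK O && fi22h.invariantOK O) = true →
      O.words = hgens.map (fi22Setup.wl fi22h) →
      ∃ q : fi22Setup.G ⧸ fi22Setup.closureOf hgens, (MulAction.orbit (fi22Setup.closureOf hgens) q).ncard = O.size := by
    intro O h1 h2
    simp only [Bool.and_eq_true] at h1
    obtain ⟨q, hq, _⟩ := he O h1.1 h1.2 h2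
    exact ⟨q, hq⟩
  obtain ⟨q₁, hq1⟩ := key fi22h_orb1 fi22h_orb1_check (by decide +kernel)
  obtain ⟨q₂, hq2⟩ := key fi22h_orb0 fi22h_orb0_check (by decide +kernel)
  exact ⟨q₁, q₂, hq1, hq2⟩

/-- In the presented Fischer group Fi₂₂, let H be the subgroup generated by the images of a, c, d, e, f, g, h, i and (abcdeh)^5. Then H has index 3510, H has orbits of sizes 693 and 2816 on the cosets of H other than H itself. -/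
theorem result : (((Subgroup.closure ({Cfsg.Spor.Fi22.a, Cfsg.Spor.Fi22.c, Cfsg.Spor.Fi22.d, Cfsg.Spor.Fi22.e, Cfsg.Spor.Fi22.f, Cfsg.Spor.Fi22.g, Cfsg.Spor.Fi22.h, Cfsg.Spor.Fi22.i, (Cfsg.Spor.Fi22.a * Cfsg.Spor.Fi22.b * Cfsg.Spor.Fi22.c * Cfsg.Spor.Fi22.d * Cfsg.Spor.Fi22.e * Cfsg.Spor.Fi22.h) ^ 5} : Set (FreeGroup Cfsg.Spor.Fi22.Gen))).map (PresentedGroup.mk (Cfsg.Spor.coxRelators Cfsg.Spor.Fi22.edges ∪ {r | r ∈ Cfsg.Spor.Fi22.extra})))).index = 3510 ∧ ∃ q₁ q₂ : Cfsg.Spor.Fi22 ⧸ (((Subgroup.closure ({Cfsg.Spor.Fi22.a, Cfsg.Spor.Fi22.c, Cfsg.Spor.Fi22.d, Cfsg.Spor.Fi22.e, Cfsg.Spor.Fi22.f, Cfsg.Spor.Fi22.g, Cfsg.Spor.Fi22.h, Cfsg.Spor.Fi22.i, (Cfsg.Spor.Fi22.a * Cfsg.Spor.Fi22.b * Cfsg.Spor.Fi22.c * Cfsg.Spor.Fi22.d * Cfsg.Spor.Fi22.e * Cfsg.Spor.Fi22.h) ^ 5} : Set (FreeGroup Cfsg.Spor.Fi22.Gen))).map (PresentedGroup.mk (Cfsg.Spor.coxRelators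 Cfsg.Spor.Fi22.edges ∪ {r | r ∈ Cfsg.Spor.Fi22.extra})))), (MulAction.orbit (((Subgroup.closure ({Cfsg.Spor.Fi22.a, Cfsg.Spor.Fi22.c, Cfsg.Spor.Fi22.d, Cfsg.Spor.Fi22.e, Cfsg.Spor.Fi22.f, Cfsg.Spor.Fi22.g, Cfsg.Spor.Fi22.h, Cfsg.Spor.Fi22.i, (Cfsg.Spor.Fi22.a * Cfsg.Spor.Fi22.b * Cfsg.Spor.Fi22.c * Cfsg.Spor.Fi22.d * Cfsg.Spor.Fi22.e * Cfsg.Spor.Fi22.h) ^ 5} : Set (FreeGroup Cfsg.Spor.Fi22.Gen))).map (PresentedGroup.mk (Cfsg.Spor.coxRelators Cfsg.Spor.Fi22.edges ∪ {r | r ∈ Cfsg.Spor.Fi22.extra})))) q₁).ncard = 693 ∧ (MulAction.orbit (((Subgroup.closure ({Cfsg.Spor.Fi22.a, Cfsg.Spor.Fi22.c, Cfsg.Spor.Fi22.d, Cfsg.Spor.Fi22.e, Cfsg.Spor.Fi22.f, Cfsg.Spor.Fi22.g, Cfsg.Spor.Fi22.h, Cfsg.Spor.Fi22.i, (Cfsg.Spor.Fi22.a * Cfsg.Spor.Fi22.b * Cfsg.Spor.Fi22.c * Cfsg.Spor.Fi22.d * Cfsg.Spor.Fi22.e * Cfsg.Spor.Fi22.h) ^ 5} : Set (FreeGroup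 Cfsg.Spor.Fi22.Gen))).map (PresentedGroup.mk (Cfsg.Spor.coxRelators Cfsg.Spor.Fi22.edges ∪ {r | r ∈ Cfsg.Spor.Fi22.extra})))) q₂).ncard = 2816 := by
  refine main _ ?_
  open Cfsg.Agent.CosetEnum in
  exact Setup.closureOf_eq fi22Setup hgens _ (by
    ext x; simp only [hgens, List.mem_cons, List.not_mem_nil, or_false, Set.mem_insert_iff,
      Set.mem_singleton_iff, Set.mem_ofPred_eq])

end Cfsg.Agent.S1687
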