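import Cfsg.Statements.S1505
import Cfsg.Agent.Lib.CyclicTI.Basic

set_option autoImplicit false
open Cfsg

namespace Cfsg.Agent.S1505

open Cfsg.Agent Cfsg.Agent.Char Cfsg.Agent.CyclicTI

open Classical in
/-- Let W₁, W₂ ≤ G form a self-normalising cyclic subgroup W = W₁ ⊔ W₂. For nontrivial linear characters φ, φ' of W trivial on W₂ and ψ, ψ' trivial on W₁, put α = (1 − φ)(1 − ψ) and α' = (1 − φ')(1 − ψ'). Then the function induced from α to G has inner product 1 with the principal character, and the inner product of the functions induced from α and α' is 1 + a + b + ab where a = 1 if φ = φ' (else 0) and b = 1 if ψ = ψ' (else 0). -/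
theorem result {G : Type*} [Group G] [Fintype G] (W₁ W₂ : Subgroup G) (hW : Cfsg.IsSelfNormalizingCyclic W₁ W₂) (φ φ' ψ ψ' : ↥(W₁ ⊔ W₂) →* ℂˣ) (hφ : φ ≠ 1) (hφ' : φ' ≠ 1) (hψ : ψ ≠ 1) (hψ' : ψ' ≠ 1) (hφ₂ : ∀ w : ↥(W₁ ⊔ W₂), (w : G) ∈ W₂ → φ w = 1 ∧ φ' w = 1) (hψ₁ : ∀ w : ↥(W₁ ⊔ W₂), (w : G) ∈ W₁ → ψ w = 1 ∧ ψ' w = 1) : Cfsg.classInner (Cfsg.indFun (W₁ ⊔ W₂) (fun w => 1 - (φ w : ℂ) - (ψ w : ℂ) + (φ w : ℂ) * (ψ w : ℂ))) (fun _ => 1) = 1 ∧ Cfsg.classInner (Cfsg.indFun (W₁ ⊔ W₂) (fun w => 1 - (φ w : ℂ) - (ψ w : ℂ) + (φ w : ℂ) * (ψ w : ℂ))) (Cfsg.indFun (W₁ ⊔ W₂) (fun w => 1 - (φ' w : ℂ) - (ψ' w : ℂ) + (φ' w : ℂ) * (ψ' w : ℂ))) = 1 + (if φ = φ' then 1 else 0) + (if ψ = ψ' then 1 else 0) + (if φ = φ' then 1 else 0) * (if ψ = ψ' then 1 else 0) := by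
  classical
  have hP := isPair_of_selfNormalizing hW
  have h₁ : ∀ w : ↥(W₁ ⊔ W₂), (w : G) ∈ W₁ → ψ w = 1 := fun w hw => (hψ₁ w hw).1
  have h₁' : ∀ w : ↥(W₁ ⊔ W₂), (w : G) ∈ W₁ → ψ' w = 1 := fun w hw => (hψ₁ w hw).2
  have h₂ : ∀ w : ↥(W₁ ⊔ W₂), (w : G) ∈ W₂ → φ w = 1 := fun w hw => (hφ₂ w hw).1
  have h₂' : ∀ w : ↥(W₁ ⊔ W₂), (w : G) ∈ W₂ → φ' w = 1 := fun w hw => (hφ₂ w hw).2
  have halpha : ∀ (a b : ↥(W₁ ⊔ W₂) →* ℂˣ), (∀ w : ↥(W₁ ⊔ W₂), (w : G) ∈ W₂ → a w = 1) →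
      (∀ w : ↥(W₁ ⊔ W₂), (w : G) ∈ W₁ → b w = 1) →
      (fun w : ↥(W₁ ⊔ W₂) => 1 - (a w : ℂ) - (b w : ℂ) + (a w : ℂ) * (b w : ℂ)) = hP.alpha (a * b) := by
    intro a b ha hb
    funext w
    simp only [IsPair.alpha, (hP.split_mul ha hb).1, (hP.split_mul ha hb).2]
  have hne : ∀ (a b : ↥(W₁ ⊔ W₂) →* ℂˣ), a ≠ 1 → (∀ w : ↥(W₁ ⊔ W₂), (w : G) ∈ W₂ → a w = 1) →
      (∀ w : ↥(W₁ ⊔ W₂), (w : G) ∈ W₁ → b w = 1) → a ≠ b := fun a b ha h2 h1 e =>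
    ha (hP.lin_ext (fun w hw => by rw [e, h1 w hw]; rfl) (fun w hw => by rw [h2 w hw]; rfl))
  have hsplit : ∀ (a a' b b' : ↥(W₁ ⊔ W₂) →* ℂˣ), (∀ w : ↥(W₁ ⊔ W₂), (w : G) ∈ W₂ → a w = 1) →
      (∀ w : ↥(W₁ ⊔ W₂), (w : G) ∈ W₁ → b w = 1) →
      (∀ w : ↥(W₁ ⊔ W₂), (w : G) ∈ W₂ → a' w = 1) →
      (∀ w : ↥(W₁ ⊔ W₂), (w : G) ∈ W₁ → b' w = 1) → a * b = a' * b' → a = a' ∧ b = b' := by
    intro a a' b b' ha hb ha' hb' e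
    exact ⟨by rw [← (hP.split_mul ha hb).1, e, (hP.split_mul ha' hb').1],
      by rw [← (hP.split_mul ha hb).2, e, (hP.split_mul ha' hb').2]⟩
  have one₁ : ∀ w : ↥(W₁ ⊔ W₂), (w : G) ∈ W₁ → (1 : ↥(W₁ ⊔ W₂) →* ℂˣ) w = 1 := fun _ _ => rfl
  have one₂ : ∀ w : ↥(W₁ ⊔ W₂), (w : G) ∈ W₂ → (1 : ↥(W₁ ⊔ W₂) →* ℂˣ) w = 1 := fun _ _ => rfl
  rw [halpha φ ψ h₂ h₁, halpha φ' ψ' h₂' h₁']
  have e1 : (fun w : ↥(W₁ ⊔ W₂) => ((fun _ => 1 : G → ℂ)) w) = lin 1 := by funext w; simp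
  have n1 : φ * ψ ≠ 1 := fun e => hφ (hsplit φ 1 ψ 1 h₂ h₁ one₂ one₁ (by rw [e]; ext; simp)).1
  refine ⟨?_, ?_⟩
  · rw [frobenius_reciprocity _ _ (fun _ _ => rfl), e1, hP.alpha_eq, (hP.split_mul h₂ h₁).1,
      (hP.split_mul h₂ h₁).2]
    simp only [classInner_add_left, classInner_sub_left, classInner_lin, if_neg n1, if_neg hφ,
      if_neg hψ, if_true]
    ring
  · rw [frobenius_reciprocity _ _ (indFun_isClassFunction _ _)]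
    have e2 : Cfsg.classInner (hP.alpha (φ * ψ))
        (fun w : ↥(W₁ ⊔ W₂) => Cfsg.indFun (W₁ ⊔ W₂) (hP.alpha (φ' * ψ')) w) =
        Cfsg.classInner (hP.alpha (φ * ψ)) (hP.alpha (φ' * ψ')) := by
      unfold Cfsg.classInner
      congr 1
      refine Finset.sum_congr rfl fun u _ => ?_
      by_cases hu : (u : G) ∈ W₁ ∨ (u : G) ∈ W₂
      · rw [hP.alpha_apply_mem _ hu, zero_mul, zero_mul]
      · push Not at hu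
        rw [indFun_eq_of_supported hW (fun w hw => hP.alpha_apply_mem _ hw) u hu.1 hu.2]
    rw [e2, hP.alpha_eq, hP.alpha_eq, (hP.split_mul h₂ h₁).1, (hP.split_mul h₂ h₁).2,
      (hP.split_mul h₂' h₁').1, (hP.split_mul h₂' h₁').2]
    have a1 : φ ≠ ψ' := hne φ ψ' hφ h₂ h₁'
    have a2 : ψ ≠ φ' := (hne φ' ψ hφ' h₂' h₁).symm
    have a3 : φ' * ψ' ≠ 1 := fun e => hφ' (hsplit φ' 1 ψ' 1 h₂' h₁' one₂ one₁ (by rw [e]; ext; simp)).1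
    have a4 : φ ≠ φ' * ψ' := fun e =>
      hψ' (hsplit φ' φ ψ' 1 h₂' h₁' h₂ one₁ (by rw [← e]; ext; simp)).2
    have a5 : ψ ≠ φ' * ψ' := fun e =>
      hφ' (hsplit φ' 1 ψ' ψ h₂' h₁' one₂ h₁ (by rw [← e]; ext; simp)).1
    have a6 : φ * ψ ≠ φ' := fun e => hψ (hsplit φ φ' ψ 1 h₂ h₁ h₂' one₁ (by rw [e]; ext; simp)).2
    have a7 : φ * ψ ≠ ψ' := fun e => hφ (hsplit φ 1 ψ ψ' h₂ h₁ one₂ h₁' (by rw [e]; ext; simp)).1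
    have a8 : φ * ψ = φ' * ψ' ↔ φ = φ' ∧ ψ = ψ' :=
      ⟨hsplit φ φ' ψ ψ' h₂ h₁ h₂' h₁', fun h => by rw [h.1, h.2]⟩
    simp only [classInner_add_left, classInner_sub_left, classInner_add_right, classInner_sub_right,
      classInner_lin, if_neg n1, if_neg hφ, if_neg hψ, if_neg (Ne.symm hφ'), if_neg (Ne.symm hψ'),
      if_neg (Ne.symm a3), if_neg a1, if_neg a2, if_neg a4, if_neg a5, if_neg a6, if_neg a7, a8, if_true]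
    by_cases hp : φ = φ' <;> by_cases hq : ψ = ψ' <;> simp [hp, hq]

end Cfsg.Agent.S1505
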