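import Cfsg.Statements.S1506
import Cfsg.Agent.Lib.CyclicTI.Basic

set_option autoImplicit false
open Cfsg

namespace Cfsg.Agent.S1506

open Cfsg.Agent Cfsg.Agent.Char Cfsg.Agent.CyclicTI

variable {G : Type*} [Group G] [Fintype G] {W₁ W₂ : Subgroup G}

theorem coeff_split (hP : IsPair W₁ W₂) {χ : (↥(W₁ ⊔ W₂) →* ℂˣ) → (G → ℂ)}
    (hχ : Cfsg.IsCyclicTIFamily W₁ W₂ χ) {θ : G → ℂ} (hθ : Cfsg.IsClassFunction G θ)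
    (hθV : ∀ w : ↥(W₁ ⊔ W₂), (w : G) ∉ W₁ → (w : G) ∉ W₂ → θ w = 0)
    (ω : ↥(W₁ ⊔ W₂) →* ℂˣ) :
    Cfsg.classInner θ (χ ω) = Cfsg.classInner θ (χ (hP.lfst ω)) + Cfsg.classInner θ (χ (hP.lsnd ω))
      - Cfsg.classInner θ (χ 1) := by
  classical
  have h := inner_alpha hP hχ hθ ω
  have h0 : Cfsg.classInner (fun w : ↥(W₁ ⊔ W₂) => θ w) (hP.alpha ω) = 0 := by
    unfold Cfsg.classInner
    rw [Finset.sum_eq_zero, mul_zero]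
    intro w _
    by_cases hw : (w : G) ∈ W₁ ∨ (w : G) ∈ W₂
    · rw [hP.alpha_apply_mem ω hw, map_zero, mul_zero]
    · push Not at hw
      rw [hθV w hw.1 hw.2, zero_mul]
  linear_combination h0 - h

theorem rectangle (hP : IsPair W₁ W₂) {χ : (↥(W₁ ⊔ W₂) →* ℂˣ) → (G → ℂ)}
    (hχ : Cfsg.IsCyclicTIFamily W₁ W₂ χ) {θ : G → ℂ} (hθ : Cfsg.IsClassFunction G θ)
    (hθV : ∀ w : ↥(W₁ ⊔ W₂), (w : G) ∉ W₁ → (w : G) ∉ W₂ → θ w = 0)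
    {φ φ' ψ ψ' : ↥(W₁ ⊔ W₂) →* ℂˣ} (hφ : ∀ w : ↥(W₁ ⊔ W₂), (w : G) ∈ W₂ → φ w = 1)
    (hφ' : ∀ w : ↥(W₁ ⊔ W₂), (w : G) ∈ W₂ → φ' w = 1)
    (hψ : ∀ w : ↥(W₁ ⊔ W₂), (w : G) ∈ W₁ → ψ w = 1)
    (hψ' : ∀ w : ↥(W₁ ⊔ W₂), (w : G) ∈ W₁ → ψ' w = 1) :
    Cfsg.classInner θ (χ (φ * ψ)) + Cfsg.classInner θ (χ (φ' * ψ')) =
      Cfsg.classInner θ (χ (φ * ψ')) + Cfsg.classInner θ (χ (φ' * ψ)) := by
  rw [coeff_split hP hχ hθ hθV (φ * ψ), coeff_split hP hχ hθ hθV (φ' * ψ'),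
    coeff_split hP hχ hθ hθV (φ * ψ'), coeff_split hP hχ hθ hθV (φ' * ψ),
    (hP.split_mul hφ hψ).1, (hP.split_mul hφ hψ).2, (hP.split_mul hφ' hψ').1,
    (hP.split_mul hφ' hψ').2, (hP.split_mul hφ hψ').1, (hP.split_mul hφ hψ').2,
    (hP.split_mul hφ' hψ).1, (hP.split_mul hφ' hψ).2]
  ring

/-- Let W₁, W₂ ≤ G form a self-normalising cyclic subgroup W = W₁ ⊔ W₂ and χ an orthonormal family of irreducible characters of G up to sign, indexed by the linear characters ω of W, with χ_1 = 1, χ_ω = ω on W outside W₁ ∪ W₂, and the induction identity for (1 − φ)(1 − ψ). Let θ be a class function of G vanishing at every element of W outside W₁ ∪ W₂. For linear characters φ, φ' of W trivial on W₂ and ψ, ψ' trivial on W₁, the inner products a(ω) = ⟨θ, χ ω⟩ satisfy a(φψ) + a(φ'ψ') = a(φψ') + a(φ'ψ). -/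
theorem result {G : Type*} [Group G] [Fintype G] (W₁ W₂ : Subgroup G) (hW : Cfsg.IsSelfNormalizingCyclic W₁ W₂) (χ : (↥(W₁ ⊔ W₂) →* ℂˣ) → (G → ℂ)) (hχ : Cfsg.IsCyclicTIFamily W₁ W₂ χ) (θ : G → ℂ) (hθ : Cfsg.IsClassFunction G θ) (hθV : ∀ w : ↥(W₁ ⊔ W₂), (w : G) ∉ W₁ → (w : G) ∉ W₂ → θ w = 0) (φ φ' ψ ψ' : ↥(W₁ ⊔ W₂) →* ℂˣ) (hφ₂ : ∀ w : ↥(W₁ ⊔ W₂), (w : G) ∈ W₂ → φ w = 1 ∧ φ' w = 1) (hψ₁ : ∀ w : ↥(W₁ ⊔ W₂), (w : G) ∈ W₁ → ψ w = 1 ∧ ψ' w = 1) : Cfsg.classInner θ (χ (φ * ψ)) + Cfsg.classInner θ (χ (φ' * ψ')) = Cfsg.classInner θ (χ (φ * ψ')) + Cfsg.classInner θ (χ (φ' * ψ)) := by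
  have hP := isPair_of_selfNormalizing hW
  exact rectangle hP hχ hθ hθV (fun w hw => (hφ₂ w hw).1) (fun w hw => (hφ₂ w hw).2)
    (fun w hw => (hψ₁ w hw).1) (fun w hw => (hψ₁ w hw).2)

end Cfsg.Agent.S1506
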