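import Cfsg.Statements.S1509
import Cfsg.Agent.Lib.Coherence.Virtual

set_option autoImplicit false
open Cfsg

namespace Cfsg.Agent.S1509

open Cfsg.Agent.Char Cfsg.Agent.Coherence

theorem signed_orth {X : Type*} [Group X] [Fintype X] {a b c d : X → ℂ} (ha : IsSignedIrr X a)
    (hb : IsSignedIrr X b) (hc : IsSignedIrr X c) (hd : IsSignedIrr X d) {u v : ℝ} (hu : u ≠ 0)
    (hv : v ≠ 0) (hab : Cfsg.classInner a b = 0) (hcd : Cfsg.classInner c d = 0)
    (hmix : (u : ℂ) * Cfsg.classInner a c - v * Cfsg.classInner a d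
      - (u * Cfsg.classInner b c - v * Cfsg.classInner b d) = 0)
    (h1 : a 1 = b 1) (h2 : (u : ℂ) * c 1 = (v : ℂ) * d 1) : Cfsg.classInner a c = 0 := by
  have hu' : (u : ℂ) ≠ 0 := by exact_mod_cast hu
  have hv' : (v : ℂ) ≠ 0 := by exact_mod_cast hv
  by_contra hne
  have ha1 : a 1 ≠ 0 := by
    rcases ha with h | h
    · exact IsIrrCharacter.apply_one_ne_zero h
    · simpa using IsIrrCharacter.apply_one_ne_zero h
  obtain ⟨s, hs, rfl, hac⟩ : ∃ s : ℂ, (s = 1 ∨ s = -1) ∧ c = s • a ∧ Cfsg.classInner a c = s := by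
    rcases (classInner_signed ha hc).2 with h | ⟨e, h⟩ | ⟨e, h⟩
    · exact absurd h hne
    · exact ⟨1, Or.inl rfl, by simp [e], h⟩
    · exact ⟨-1, Or.inr rfl, by simp [e], h⟩
  have hs0 : s ≠ 0 := by rcases hs with rfl | rfl <;> norm_num
  have hcs : starRingEnd ℂ s = s := by rcases hs with rfl | rfl <;> simp
  have had : Cfsg.classInner a d = 0 := by
    rw [classInner_smul_left] at hcd
    exact (mul_eq_zero.mp hcd).resolve_left hs0
  have hbc : Cfsg.classInner b (s • a) = 0 := by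
    rw [classInner_smul_right, ← classInner_conj_symm a b, hab]; simp
  rw [hac, had, hbc] at hmix
  obtain ⟨t, rfl, hbd⟩ : ∃ t : ℂ, d = t • b ∧ Cfsg.classInner b d = t := by
    rcases (classInner_signed hb hd).2 with h | ⟨e, h⟩ | ⟨e, h⟩
    · exfalso
      rw [h] at hmix
      simp at hmix
      exact hmix.elim hu hs0
    · exact ⟨1, by simp [e], h⟩
    · exact ⟨-1, by simp [e], h⟩
  rw [hbd] at hmix
  simp only [Pi.smul_apply, smul_eq_mul, ← h1] at h2
  have : (u : ℂ) * s * a 1 * 2 = 0 := by linear_combination a 1 * hmix + h2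
  simp [hu', hs0, ha1] at this

/-- Let α, β, γ, δ be functions on a finite group X each of which is an irreducible character or the negative of one, and u, v nonzero real numbers. Suppose ⟨α, β⟩ = ⟨γ, δ⟩ = 0, ⟨α − β, uγ − vδ⟩ = 0, α 1 = β 1 and u γ 1 = v δ 1. Then also ⟨α, γ⟩ = ⟨α, δ⟩ = ⟨β, γ⟩ = ⟨β, δ⟩ = 0. -/
theorem result {X : Type*} [Group X] [Fintype X] (α β γ δ : X → ℂ) (hα : Cfsg.IsIrrCharacter X α ∨ Cfsg.IsIrrCharacter X (-α)) (hβ : Cfsg.IsIrrCharacter X β ∨ Cfsg.IsIrrCharacter X (-β)) (hγ : Cfsg.IsIrrCharacter X γ ∨ Cfsg.IsIrrCharacter X (-γ)) (hδ : Cfsg.IsIrrCharacter X δ ∨ Cfsg.IsIrrCharacter X (-δ)) (u v : ℝ) (hu : u ≠ 0) (hv : v ≠ 0) (hab : Cfsg.classInner α β = 0) (hcd : Cfsg.classInner γ δ = 0) (hmix : Cfsg.classInner (α - β) ((u : ℂ) • γ - (v : ℂ) • δ) = 0) (h1 : α 1 = β 1) (h2 : (u : ℂ) * γ 1 = (v : ℂ) * δ 1) : Cfsg.classInner α γ = 0 ∧ Cfsg.classInner α δ = 0 ∧ Cfsg.classInner β γ = 0 ∧ Cfsg.classInner β δ = 0 := by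
  have hmix' : (u : ℂ) * Cfsg.classInner α γ - v * Cfsg.classInner α δ
      - (u * Cfsg.classInner β γ - v * Cfsg.classInner β δ) = 0 := by
    simp only [classInner_sub_left, classInner_sub_right, classInner_smul_right, Complex.conj_ofReal] at hmix
    linear_combination hmix
  have hba : Cfsg.classInner β α = 0 := by rw [← classInner_conj_symm, hab, map_zero]
  have hdc : Cfsg.classInner δ γ = 0 := by rw [← classInner_conj_symm, hcd, map_zero]
  exact ⟨signed_orth hα hβ hγ hδ hu hv hab hcd hmix' h1 h2,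
    signed_orth hα hβ hδ hγ hv hu hab hdc (by linear_combination -hmix') h1 h2.symm,
    signed_orth hβ hα hγ hδ hu hv hba hcd (by linear_combination -hmix') h1.symm h2,
    signed_orth hβ hα hδ hγ hv hu hba hdc (by linear_combination hmix') h1.symm h2.symm⟩

end Cfsg.Agent.S1509
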