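import Cfsg.Statements.S0228
import Cfsg.Agent.Lib.Involution.Basic

set_option autoImplicit false
open Cfsg

namespace Cfsg.Agent.S0228

/-- A group of order 12 in which no involution is central is isomorphic to the alternating group on four letters. -/
theorem result {G : Type*} [Group G] [Finite G] (hG : Nat.card G = 12) (hz : ∀ z : G, orderOf z = 2 → z ∉ Subgroup.center G) : Nonempty (G ≃* alternatingGroup (Fin 4)) := by
  classical
  haveI : Fact (Nat.Prime 3) := ⟨by norm_num⟩
  haveI : Fact (Nat.Prime 2) := ⟨Nat.prime_two⟩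
  obtain ⟨P⟩ : Nonempty (Sylow 3 G) := inferInstance
  have hP : Nat.card (P : Subgroup G) = 3 := by
    rw [Sylow.card_eq_multiplicity, hG, show (12 : ℕ).factorization 3 = 1 by
      rw [show 12 = 3 * 4 by norm_num, Nat.factorization_mul (by norm_num) (by norm_num)]
      simp [Nat.Prime.factorization (show Nat.Prime 3 by norm_num),
        Nat.factorization_eq_zero_of_not_dvd (show ¬ 3 ∣ 4 by norm_num)], pow_one]
  have hindex : (P : Subgroup G).index = 4 := by
    have := Subgroup.card_mul_index (P : Subgroup G)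
    rw [hP, hG] at this
    omega
  by_cases hnorm : (P : Subgroup G).Normal
  · exfalso
    obtain ⟨p, hp⟩ := (isCyclic_of_prime_card hP).exists_generator
    have hp3 : orderOf p = 3 := (orderOf_eq_card_of_forall_mem_zpowers hp).trans hP
    obtain ⟨Q⟩ : Nonempty (Sylow 2 G) := inferInstance
    have hQ : Nat.card (Q : Subgroup G) = 4 := by
      rw [Sylow.card_eq_multiplicity, hG, show (12 : ℕ).factorization 2 = 2 by
        rw [show 12 = 2 ^ 2 * 3 by norm_num, Nat.factorization_mul (by norm_num) (by norm_num),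
          Finsupp.add_apply, Nat.Prime.factorization_pow Nat.prime_two, Finsupp.single_eq_same,
          Nat.factorization_eq_zero_of_not_dvd (show ¬ 2 ∣ 3 by norm_num)]]
      norm_num
    have hsign : ∀ g : G, g * (p : G) * g⁻¹ = p ∨ g * (p : G) * g⁻¹ = (p : G)⁻¹ := by
      intro g
      obtain ⟨i, hi⟩ := Subgroup.mem_zpowers_iff.1 (hp ⟨_, hnorm.conj_mem _ p.2 g⟩)
      rw [← zpow_mod_orderOf, hp3] at hi
      have h0 : i % 3 = 0 ∨ i % 3 = 1 ∨ i % 3 = -1 + 3 := by omega
      have hi' := congrArg Subtype.val hi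
      simp only [Subgroup.coe_zpow] at hi'
      rcases h0 with h | h | h <;> rw [Nat.cast_ofNat, h] at hi'
      · exfalso
        rw [zpow_zero, eq_comm, conj_eq_one_iff] at hi'
        rw [(Subtype.ext hi' : p = 1), orderOf_one] at hp3
        omega
      · exact Or.inl (by rw [← hi', zpow_one])
      · refine Or.inr ?_
        rw [← hi', zpow_add, zpow_neg_one, zpow_ofNat]
        have h3 : (p : G) ^ 3 = 1 := by
          have := congrArg Subtype.val (orderOf_dvd_iff_pow_eq_one.1 (dvd_of_eq hp3) : p ^ 3 = 1)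
          simpa using this
        rw [h3, mul_one]
    obtain ⟨a, b, hab, ha1, hb1⟩ : ∃ a b : (Q : Subgroup G), a ≠ b ∧ a ≠ 1 ∧ b ≠ 1 := by
      haveI := Fintype.ofFinite (Q : Subgroup G)
      have h4 : (Finset.univ.erase (1 : (Q : Subgroup G))).card = 3 := by
        rw [Finset.card_erase_of_mem (Finset.mem_univ _), Finset.card_univ,
          ← Nat.card_eq_fintype_card, hQ]
      obtain ⟨a, ha, b, hb, hab⟩ := Finset.one_lt_card.1 (show 1 < (Finset.univ.erase (1 : (Q : Subgroup G))).card by omega)
      exact ⟨a, b, hab, Finset.ne_of_mem_erase ha, Finset.ne_of_mem_erase hb⟩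
    obtain ⟨c, hc, hcp⟩ : ∃ c : (Q : Subgroup G), c ≠ 1 ∧ (c : G) * p * (c : G)⁻¹ = p := by
      rcases hsign a with h | h
      · exact ⟨a, ha1, h⟩
      rcases hsign b with h' | h'
      · exact ⟨b, hb1, h'⟩
      refine ⟨a⁻¹ * b, fun h0 => hab (inv_mul_eq_one.1 h0), ?_⟩
      calc ((a : G)⁻¹ * b) * p * ((a : G)⁻¹ * b)⁻¹ = (a : G)⁻¹ * ((b : G) * p * (b : G)⁻¹) * a := by group
        _ = (a : G)⁻¹ * ((a : G) * p * (a : G)⁻¹) * a := by rw [h, h']
        _ = p := by group
    obtain ⟨j, hj⟩ := Q.isPGroup' c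
    obtain ⟨z, hz2, m, hm⟩ : ∃ z : (Q : Subgroup G), orderOf z = 2 ∧ ∃ m : ℕ, z = c ^ m := by
      obtain ⟨k, -, hk⟩ := (Nat.dvd_prime_pow Nat.prime_two).1 (orderOf_dvd_iff_pow_eq_one.2 hj)
      rcases k with _ | k
      · rw [pow_zero, orderOf_eq_one_iff] at hk; exact absurd hk hc
      · refine ⟨c ^ (2 ^ k), ?_, _, rfl⟩
        rw [orderOf_pow, hk, Nat.gcd_eq_right (pow_dvd_pow 2 (Nat.le_succ k)), pow_succ,
          Nat.mul_div_cancel_left _ (by positivity)]
    refine hz (z : G) (by rw [Subgroup.orderOf_coe, hz2]) ?_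
    have hzp : (p : G) ∈ Subgroup.centralizer ({(z : G)} : Set G) := by
      have h1 : Commute (c : G) p := mul_inv_eq_iff_eq_mul.1 hcp
      rw [Involution.mem_centralizer_singleton, hm, Subgroup.coe_pow]
      exact ((h1.pow_left m).eq).symm
    have hQc : (Q : Subgroup G) ≤ Subgroup.centralizer ({(z : G)} : Set G) := by
      intro q hq
      have := IsPGroup.isMulCommutative_of_card_eq_prime_sq (p := 2) (G := (Q : Subgroup G)) (by rw [hQ]; norm_num)
      exact Involution.mem_centralizer_singleton.2 (congrArg Subtype.val (mul_comm' (⟨q, hq⟩ : (Q : Subgroup G)) z))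
    have h12 : 12 ∣ Nat.card (Subgroup.centralizer ({(z : G)} : Set G)) := by
      have a1 := Subgroup.card_dvd_of_le hQc
      have a2 := Subgroup.orderOf_dvd_natCard _ hzp
      rw [hQ] at a1
      rw [Subgroup.orderOf_coe, hp3] at a2
      exact Nat.Coprime.mul_dvd_of_dvd_of_dvd (show Nat.Coprime 4 3 by decide) a1 a2
    have htop := Subgroup.eq_top_of_card_eq (Subgroup.centralizer ({(z : G)} : Set G))
      (Nat.dvd_antisymm (Subgroup.card_subgroup_dvd_card _) (hG ▸ h12))
    exact Subgroup.mem_center_iff.2 fun g =>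
      Involution.mem_centralizer_singleton.1 (htop.ge (Subgroup.mem_top g))
  · haveI := Fintype.ofFinite (G ⧸ (P : Subgroup G))
    have hcore : (P : Subgroup G).normalCore = ⊥ := by
      rcases (Nat.dvd_prime (show Nat.Prime 3 by norm_num)).1
        (hP ▸ Subgroup.card_dvd_of_le (P : Subgroup G).normalCore_le) with h | h
      · exact Subgroup.card_eq_one.1 h
      · exact absurd (Subgroup.eq_of_le_of_card_ge (P : Subgroup G).normalCore_le (by rw [h, hP]) ▸
          (P : Subgroup G).normalCore_normal) hnorm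
    let e : G ⧸ (P : Subgroup G) ≃ Fin 4 := (Finite.equivFinOfCardEq (by rw [← hindex]; rfl))
    let φ : G →* Equiv.Perm (Fin 4) :=
      e.permCongrHom.toMonoidHom.comp (MulAction.toPermHom G (G ⧸ (P : Subgroup G)))
    have hinj : Function.Injective φ := by
      refine e.permCongrHom.injective.comp ?_
      rw [← MonoidHom.ker_eq_bot_iff, ← Subgroup.normalCore_eq_ker, hcore]
    have hr : φ.range = alternatingGroup (Fin 4) := by
      apply Equiv.Perm.eq_alternatingGroup_of_index_eq_two
      have h := Subgroup.card_mul_index φ.range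
      rw [← Nat.card_congr (MonoidHom.ofInjective hinj).toEquiv, hG,
        Nat.card_eq_fintype_card (α := Equiv.Perm (Fin 4)), Fintype.card_perm, Fintype.card_fin] at h
      simp [Nat.factorial] at h
      omega
    exact ⟨(MonoidHom.ofInjective hinj).trans (MulEquiv.subgroupCongr hr)⟩

end Cfsg.Agent.S0228
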