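import Cfsg.Statements.S0674
import Cfsg.Agent.Lib.Perm.PrimeDegree

set_option autoImplicit false
open Cfsg

namespace Cfsg.Agent.S0674

/-- Let `G` be a non-solvable transitive permutation group of prime degree `p` and `K` a field of characteristic `p`. Then the heart of the permutation module is irreducible: an invariant subspace containing the constants and contained in the sum-zero functions is one or the other. -/
theorem result {α : Type*} [Fintype α] [DecidableEq α] {p : ℕ} [Fact p.Prime] (hα : Fintype.card α = p) (G : Subgroup (Equiv.Perm α)) [MulAction.IsPretransitive G α] (hG : ¬ Group.IsSolvable G) {K : Type*} [Field K] [CharP K p] (W : Subrepresentation (Cfsg.permRep K G α)) (h₁ : (Cfsg.permConstants K G α).toSubmodule ≤ W.toSubmodule) (h₂ : W.toSubmodule ≤ (Cfsg.permSumZero K G α).toSubmodule) : W = Cfsg.permConstants K G α ∨ W = Cfsg.permSumZero K G α := by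
  have hpα : Nonempty α := Fintype.card_pos_iff.mp (hα ▸ (Fact.out : p.Prime).pos)
  set C := (Cfsg.permConstants K G α).toSubmodule with hC
  set S := (Cfsg.permSumZero K G α).toSubmodule with hS
  have hC1 : Module.finrank K C = 1 := by
    refine finrank_span_singleton fun e => ?_
    exact one_ne_zero (congrFun e (Classical.arbitrary α))
  have hSle : Module.finrank K S + 1 ≤ p := by
    have hlt : S < ⊤ := by
      classical
      refine lt_top_iff_ne_top.mpr fun e => ?_
      have h1 : Pi.single (Classical.arbitrary α) (1 : K) ∈ S := e ▸ Submodule.mem_top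
      have h2 : ∑ x, (Pi.single (Classical.arbitrary α) (1 : K) : α → K) x = 0 := h1
      rw [Finset.sum_pi_single', if_pos (Finset.mem_univ _)] at h2
      exact one_ne_zero h2
    have := Submodule.finrank_lt hlt.ne
    rw [Module.finrank_pi, hα] at this
    omega
  rcases Perm.finrank_le_one_or_ge hα hG W.toSubmodule
    (fun g w hw => W.apply_mem_toSubmodule g hw) with h | h
  · refine Or.inl (Subrepresentation.toSubmodule_injective ?_)
    exact (Submodule.eq_of_le_of_finrank_le h₁ (by rw [hC1]; exact h)).symm
  · refine Or.inr (Subrepresentation.toSubmodule_injective ?_)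
    exact Submodule.eq_of_le_of_finrank_le h₂ (show Module.finrank K S ≤ _ by omega)

end Cfsg.Agent.S0674
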