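import Cfsg.Statements.S0675
import Cfsg.Agent.Lib.Perm.PrimeDegree

set_option autoImplicit false
open Cfsg

namespace Cfsg.Agent.S0675

/-- Burnside's Theorem on permutation groups of prime degree: a transitive permutation group of prime degree that is not solvable is doubly transitive. -/
theorem result {α : Type*} [Fintype α] [DecidableEq α] (hα : (Fintype.card α).Prime) (G : Subgroup (Equiv.Perm α)) [MulAction.IsPretransitive G α] : Group.IsSolvable G ∨ MulAction.IsMultiplyPretransitive G α 2 := by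
  by_contra hcon
  push Not at hcon
  obtain ⟨hG, h2⟩ := hcon
  obtain ⟨p, hp, hα'⟩ : ∃ p, p.Prime ∧ Fintype.card α = p := ⟨_, hα, rfl⟩
  have : Fact p.Prime := ⟨hp⟩
  have : Finite G := inferInstance
  obtain ⟨e, σ, hσ⟩ := Perm.exists_cycle_coordinates (G := G) hα'
  by_cases hp3 : p ≤ 3
  · refine hG (Perm.isSolvable_of_affine e fun g => ?_)
    obtain ⟨a, b, h⟩ : ∃ a b : ZMod p, ∀ j, (fun j => e.symm (g • e j)) j = a * j + b := by
      have key : ∀ f : ZMod p → ZMod p, Function.Injective f → ∀ j, f j = (f 1 - f 0) * j + f 0 := by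
        have h2 : ∀ f : ZMod 2 → ZMod 2, ∀ j, f j = (f 1 - f 0) * j + f 0 := by decide
        have h3 : ∀ f : ZMod 3 → ZMod 3, Function.Injective f →
            ∀ j, f j = (f 1 - f 0) * j + f 0 := by decide
        have := hp.two_le
        interval_cases p
        · exact fun f _ => h2 f
        · exact h3
      exact ⟨_, _, key _ fun i j h => e.injective (MulAction.injective g (e.symm.injective h))⟩
    exact ⟨a, b, h⟩
  obtain ⟨φ, hφ, hφ1, -, a, δ, b, b', -, -, hφδ⟩ := Perm.exists_orbital_map (K := ZMod p) (G := G) h2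
  have hconst : ∀ U : Submodule (ZMod p) (α → ZMod p),
      (∀ g, ∀ w ∈ U, Cfsg.permRep (ZMod p) G α g w ∈ U) → U ≠ ⊥ →
      (fun _ => (1 : ZMod p)) ∈ U := by
    intro U hU h0
    obtain ⟨P⟩ : Nonempty (Sylow p G) := inferInstance
    have := Perm.sylow_isPretransitive_of_card_prime_pow (Ω := α) (f := 1)
      (by rw [Nat.card_eq_fintype_card, hα', pow_one]) P
    exact Perm.constants_le_of_invariant (G := (P : Subgroup G)) P.2 U (fun g w hw => hU g w hw) h0
  have hlin : ∀ (c : α → ZMod p), (∀ t : ZMod p, t • (fun _ => (1 : ZMod p)) ≠ c) →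
      ∀ U : Submodule (ZMod p) (α → ZMod p), (fun _ => (1 : ZMod p)) ∈ U → c ∈ U →
      2 ≤ Module.finrank (ZMod p) U := by
    intro c hc U h1 h2'
    have hne : (fun _ : α => (1 : ZMod p)) ≠ 0 := fun e => one_ne_zero (congrFun e a)
    have hlt : Submodule.span (ZMod p) {fun _ => (1 : ZMod p)} < U := by
      refine lt_of_le_not_ge ((Submodule.span_singleton_le_iff_mem _ _).mpr h1) fun hle => ?_
      obtain ⟨t, ht⟩ := Submodule.mem_span_singleton.mp (hle h2')
      exact hc t ht
    have := Submodule.finrank_lt_finrank_of_lt hlt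
    rw [finrank_span_singleton hne] at this
    omega
  have hrinv : ∀ g, ∀ w ∈ LinearMap.range φ,
      Cfsg.permRep (ZMod p) G α g w ∈ LinearMap.range φ := by
    rintro g _ ⟨w, rfl⟩
    exact ⟨_, hφ g w⟩
  have hnc : ∀ t : ZMod p, t • (fun _ : α => (1 : ZMod p)) ≠ φ δ := fun t e => by
    rw [← e] at hφδ; exact hφδ rfl
  have hr1 := hconst _ hrinv (fun e => hφδ (by
    rw [show φ δ = 0 from (Submodule.eq_bot_iff _).mp e _ ⟨δ, rfl⟩]; rfl))
  have hr2 := hlin _ hnc _ hr1 ⟨δ, rfl⟩
  have hrp : p ≤ Module.finrank (ZMod p) (LinearMap.range φ) + 1 :=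
    (Perm.finrank_le_one_or_ge hα' hG _ hrinv).resolve_left (by omega)
  have hk : Module.finrank (ZMod p) (LinearMap.ker φ) ≤ 1 := by
    have := φ.finrank_range_add_finrank_ker
    rw [Module.finrank_pi, hα'] at this
    omega
  obtain ⟨u, hu⟩ := hr1
  let U := LinearMap.ker (φ ∘ₗ φ)
  have hU2 : 2 ≤ Module.finrank (ZMod p) U := by
    refine hlin u (fun t e => ?_) U ?_ ?_
    · rw [← e, map_smul, hφ1, smul_zero] at hu
      exact one_ne_zero (congrFun hu.symm a)
    · simp [U, hφ1]
    · simp [U, hu, hφ1]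
  have hUle : Module.finrank (ZMod p) U ≤ 2 := by
    have h := (φ.domRestrict U).finrank_range_add_finrank_ker
    have h1 : Module.finrank (ZMod p) (LinearMap.range (φ.domRestrict U)) ≤ 1 := by
      refine le_trans (Submodule.finrank_mono ?_) hk
      rintro _ ⟨w, rfl⟩
      exact LinearMap.mem_ker.mp w.2
    have h2' : Module.finrank (ZMod p) (LinearMap.ker (φ.domRestrict U)) ≤ 1 := by
      refine le_trans (LinearMap.finrank_le_finrank_of_injective
        (f := (U.subtype.restrict (p := LinearMap.ker (φ.domRestrict U)) (q := LinearMap.ker φ)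
          fun w hw => hw)) ?_) hk
      intro x y h
      exact Subtype.ext (Subtype.ext (congrArg (fun z : LinearMap.ker φ => (z : α → ZMod p)) h))
    omega
  rcases Perm.finrank_le_one_or_ge hα' hG U (fun g w hw => by
    simp only [U, LinearMap.mem_ker, LinearMap.comp_apply] at hw ⊢
    rw [hφ, hφ, hw, map_zero]) with h | h <;> omega

end Cfsg.Agent.S0675
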