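import Cfsg.Statements.S0676
import Cfsg.Agent.S0674
import Cfsg.Agent.S0675
import Cfsg.Agent.Lib.Perm.PrimeInvolution
import Cfsg.Agent.EqLemmas

set_option autoImplicit false
open Cfsg

namespace Cfsg.Agent.S0676

open MulAction

variable {α : Type*} [Fintype α] [DecidableEq α] {p : ℕ} [Fact p.Prime]

/-- The trilinear form of a kernel. -/
def form (g : α → α → α → ZMod p) (u v w : α → ZMod p) : ZMod p :=
  ∑ a, ∑ b, ∑ c, g a b c * u a * v b * w c

theorem form_add (g : α → α → α → ZMod p) (u u' v w : α → ZMod p) :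
    form g (u + u') v w = form g u v w + form g u' v w := by
  simp only [form, ← Finset.sum_add_distrib, Pi.add_apply]
  exact Finset.sum_congr rfl fun a _ => Finset.sum_congr rfl fun b _ =>
    Finset.sum_congr rfl fun c _ => by ring

theorem form_smul (g : α → α → α → ZMod p) (r : ZMod p) (u v w : α → ZMod p) :
    form g (r • u) v w = r * form g u v w := by
  simp only [form, Finset.mul_sum, Pi.smul_apply, smul_eq_mul]
  exact Finset.sum_congr rfl fun a _ => Finset.sum_congr rfl fun b _ =>
    Finset.sum_congr rfl fun c _ => by ring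

theorem form_sum_mid {ι : Type*} (S : Finset ι) (g : α → α → α → ZMod p) (u w : α → ZMod p)
    (r : ι → ZMod p) (x : ι → α → ZMod p) :
    form g u (∑ i ∈ S, r i • x i) w = ∑ i ∈ S, r i * form g u (x i) w := by
  classical
  induction S using Finset.induction_on with
  | empty => simp [form]
  | insert i T hi ih =>
    rw [Finset.sum_insert hi, Finset.sum_insert hi, ← ih]
    simp only [form, Finset.mul_sum, ← Finset.sum_add_distrib, Pi.add_apply, Pi.smul_apply,
      smul_eq_mul]
    exact Finset.sum_congr rfl fun a _ => Finset.sum_congr rfl fun b _ =>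
      Finset.sum_congr rfl fun c _ => by ring

theorem form_comp {G : Type*} [Group G] [MulAction G α] (g : α → α → α → ZMod p)
    (hg : ∀ (x : G) a b c, g (x • a) (x • b) (x • c) = g a b c) (x : G) (u v w : α → ZMod p) :
    form g u v w = form g (fun a => u (x • a)) (fun a => v (x • a)) (fun a => w (x • a)) := by
  simp only [form]
  refine (Fintype.sum_equiv (MulAction.toPerm x) _ _ fun a => ?_).symm
  refine Fintype.sum_equiv (MulAction.toPerm x) _ _ fun b => ?_
  refine Fintype.sum_equiv (MulAction.toPerm x) _ _ fun c => ?_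
  simp [hg]

theorem form_difference (g : α → α → α → ZMod p) (a a' b b' c c' : α) :
    form g (Pi.single a 1 - Pi.single a' 1) (Pi.single b 1 - Pi.single b' 1)
      (Pi.single c 1 - Pi.single c' 1) =
      g a b c - g a b c' - g a b' c + g a b' c' - g a' b c + g a' b c' + g a' b' c - g a' b' c' := by
  simp only [form, Pi.sub_apply, mul_sub, sub_mul, Finset.sum_sub_distrib, Pi.single_apply,
    mul_ite, ite_mul, mul_one, mul_zero, zero_mul, Finset.sum_ite_eq', Finset.mem_univ, if_true]
  ring

theorem sum_single_sub (a b : α) :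
    ∑ x, ((Pi.single a (1 : ZMod p) : α → ZMod p) - Pi.single b 1 : α → ZMod p) x = 0 := by
  simp [Finset.sum_sub_distrib]

/-- A symmetric kernel, anti-invariant under the reflection, vanishes on sum zero functions. -/
theorem skew_of_reflection (G : Subgroup (Equiv.Perm α)) (e : ZMod p ≃ α) (σ t : G)
    (hσ : ∀ j, σ • e j = e (j + 1)) (ht : ∀ j, t • e j = e (-j)) (hp2 : p ≠ 2)
    (g : α → α → α → ZMod p) (hg : ∀ (x : G) a b c, g (x • a) (x • b) (x • c) = g a b c)
    (hsym : ∀ a b c, g a c b = g a b c) (h1 : ∀ v w, form g 1 v w = 0)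
    (v w : α → ZMod p) (hv : ∑ a, v a = 0) (hw : ∑ a, w a = 0) :
    form g (fun a => e.symm a) v w = 0 := by
  let l : α → ZMod p := fun a => e.symm a
  let δ : ZMod p → α → ZMod p := fun i => Pi.single (e i) 1 - Pi.single (e (i + 1)) 1
  have hsymm : ∀ u v w, form g u v w = form g u w v := fun u v w => by
    simp only [form]
    refine Finset.sum_congr rfl fun a _ => ?_
    rw [Finset.sum_comm]
    exact Finset.sum_congr rfl fun c _ => Finset.sum_congr rfl fun b _ => by rw [hsym]; ring
  have hshift : ∀ i, (fun a => δ i (σ • a)) = δ (i - 1) := fun i => funext fun a => by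
    obtain ⟨j, rfl⟩ := e.surjective a
    simp only [δ, hσ, Pi.sub_apply, Pi.single_apply, e.injective.eq_iff]
    rw [sub_add_cancel]
    simp [eq_sub_iff_add_eq]
  have hl : (fun a => l (σ • a)) = l + 1 := funext fun a => by
    obtain ⟨j, rfl⟩ := e.surjective a
    simp [l, hσ]
  have hlt : (fun a => l (t • a)) = (-1 : ZMod p) • l := funext fun a => by
    obtain ⟨j, rfl⟩ := e.surjective a
    simp [l, ht]
  have htd : ∀ i, (fun a => δ i (t • a)) = (-1 : ZMod p) • δ (-i - 1) := fun i => funext fun a => by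
    obtain ⟨j, rfl⟩ := e.surjective a
    simp only [δ, ht, Pi.smul_apply, Pi.sub_apply, Pi.single_apply, e.injective.eq_iff, smul_eq_mul]
    rw [show (-i - 1 + 1 : ZMod p) = -i by ring]
    simp only [neg_eq_iff_eq_neg, show -(i + 1) = -i - 1 by ring]
    ring
  have hone : ∀ i j, form g l (δ i) (δ j) = form g l (δ (i - 1)) (δ (j - 1)) := fun i j => by
    conv_lhs => rw [form_comp g hg σ]
    rw [hl, hshift, hshift, form_add, h1, add_zero]
  have hnat : ∀ (k : ℕ) i j, form g l (δ i) (δ j) = form g l (δ (i - k)) (δ (j - k)) := fun k => by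
    induction k with
    | zero => intro i j; simp
    | succ k ih =>
      intro i j
      rw [hone, ih, show i - 1 - (k : ZMod p) = i - ((k + 1 : ℕ) : ZMod p) by push_cast; ring,
        show j - 1 - (k : ZMod p) = j - ((k + 1 : ℕ) : ZMod p) by push_cast; ring]
  have hanti : ∀ i j, form g l (δ i) (δ j) = -form g l (δ (-i - 1)) (δ (-j - 1)) := fun i j => by
    conv_lhs => rw [form_comp g hg t]
    rw [hlt, htd, htd]
    have hv' : ∀ (r : ZMod p) u v w, form g u (r • v) w = r * form g u v w := fun r u v w => by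
      simp only [form, Finset.mul_sum, Pi.smul_apply, smul_eq_mul]
      exact Finset.sum_congr rfl fun a _ => Finset.sum_congr rfl fun b _ =>
        Finset.sum_congr rfl fun c _ => by ring
    rw [form_smul, hv', hsymm, hv', hsymm]
    ring
  have h20 : (2 : ZMod p) ≠ 0 := by
    intro e
    have h : ((2 : ℕ) : ZMod p) = 0 := by exact_mod_cast e
    rw [ZMod.natCast_eq_zero_iff, Nat.prime_dvd_prime_iff_eq Fact.out Nat.prime_two] at h
    exact hp2 h
  have hzero : ∀ i j, form g l (δ i) (δ j) = 0 := fun i j => by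
    apply mul_left_cancel₀ h20
    rw [mul_zero, two_mul]
    conv_lhs => arg 2; rw [hanti, hnat (-i - 1 - j).val, ZMod.natCast_zmod_val,
      show -i - 1 - (-i - 1 - j) = j by ring, show -j - 1 - (-i - 1 - j) = i by ring, hsymm]
    ring
  -- expand along the basis
  have hspan : ∀ v : α → ZMod p, ∑ a, v a = 0 →
      ∃ r : ZMod p → ZMod p, v = ∑ i, r i • δ i := fun v hv => by
    let L : (ZMod p → ZMod p) →ₗ[ZMod p] (α → ZMod p) := Fintype.linearCombination (ZMod p) δ
    suffices h : v ∈ LinearMap.range L by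
      obtain ⟨r, hr⟩ := h
      exact ⟨r, by rw [← hr, Fintype.linearCombination_apply]⟩
    have hstep : ∀ n : ℕ, (Pi.single (e 0) (1 : ZMod p) : α → ZMod p) - Pi.single (e n) 1 ∈
        LinearMap.range L := fun n => by
      induction n with
      | zero => simp
      | succ n ih =>
        have hd : δ (n : ZMod p) ∈ LinearMap.range L := ⟨Pi.single (n : ZMod p) 1, by simp [L]⟩
        have := add_mem ih hd
        simp only [δ, sub_add_sub_cancel] at this
        simpa using this
    have hv' : v = ∑ a, (-v a) • ((Pi.single (e 0) (1 : ZMod p) : α → ZMod p) - Pi.single a 1) := by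
      ext x
      simp only [Finset.sum_apply, Pi.smul_apply, Pi.sub_apply, smul_eq_mul, mul_sub,
        Finset.sum_sub_distrib, Pi.single_apply, mul_ite, mul_one, mul_zero, Finset.sum_ite_eq,
        Finset.mem_univ, if_true, ← Finset.sum_mul, neg_mul, Finset.sum_neg_distrib, hv]
      split_ifs <;> simp [Finset.sum_neg_distrib, hv]
    rw [hv']
    refine Submodule.sum_mem _ fun a _ => Submodule.smul_mem _ _ ?_
    obtain ⟨j, rfl⟩ := e.surjective a
    have := hstep j.val
    rwa [ZMod.natCast_zmod_val] at this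
  obtain ⟨r, rfl⟩ := hspan v hv
  obtain ⟨r', rfl⟩ := hspan w hw
  rw [form_sum_mid]
  refine Finset.sum_eq_zero fun i _ => ?_
  rw [hsymm, form_sum_mid, Finset.sum_eq_zero fun j _ => by rw [hsymm, hzero, mul_zero], mul_zero]

/-- A non-solvable transitive permutation group of prime degree `p` whose Sylow `p`-normaliser has even order is triply transitive. -/
theorem result {α : Type*} [Fintype α] [DecidableEq α] {p : ℕ} [Fact p.Prime] (hα : Fintype.card α = p) (G : Subgroup (Equiv.Perm α)) [MulAction.IsPretransitive G α] (hG : ¬ Group.IsSolvable G) (P : Sylow p G) (heven : Even (Nat.card (Subgroup.normalizer ((P : Subgroup G) : Set G)))) : MulAction.IsMultiplyPretransitive G α 3 := by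
  classical
  have hp := (Fact.out : p.Prime)
  have hp2 : p ≠ 2 := by
    rintro rfl
    apply hG
    have hα' : Nat.card α = 2 := Nat.card_eq_fintype_card.trans hα
    obtain ⟨d, n, hd, hN, -, -, -⟩ := Perm.exists_sylow_data (G := G) hα' P
    rw [Nat.dvd_one.mp hd, mul_one] at hN
    have hcard := Perm.card_eq_prime_of_normalizer_eq (G := G) hα' P hN
    have : IsCyclic G := isCyclic_of_prime_card hcard
    let : CommGroup G := IsCyclic.commGroup
    infer_instance
  obtain ⟨e, σ, t, hσ, ht⟩ := Perm.exists_inverting_coordinates hα hp2 G P heven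
  have h2 : IsMultiplyPretransitive G α 2 := (S0675.result (hα.symm ▸ hp) G).resolve_left hG
  suffices key : ∀ a₀ b₀ c₀ a b c : α, a₀ ≠ b₀ → a₀ ≠ c₀ → b₀ ≠ c₀ → a ≠ b → a ≠ c → b ≠ c →
      ∃ x : G, x • a₀ = a ∧ x • b₀ = b ∧ x • c₀ = c by
    refine ⟨fun u v => ?_⟩
    obtain ⟨x, h0, h1, h2'⟩ := key (u 0) (u 1) (u 2) (v 0) (v 1) (v 2)
      (u.injective.ne (by decide)) (u.injective.ne (by decide)) (u.injective.ne (by decide))
      (v.injective.ne (by decide)) (v.injective.ne (by decide)) (v.injective.ne (by decide))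
    refine ⟨x, ?_⟩
    ext i
    fin_cases i <;> assumption
  intro a₀ b₀ c₀ a b c hab₀ hac₀ hbc₀ hab hac hbc
  let Or : α → α → α → Prop := fun a b c => ∃ x : G, x • a₀ = a ∧ x • b₀ = b ∧ x • c₀ = c
  have hOr : ∀ (x : G) a b c, Or (x • a) (x • b) (x • c) ↔ Or a b c := fun x a b c => by
    constructor
    · rintro ⟨y, h1, h2, h3⟩
      exact ⟨x⁻¹ * y, by rw [mul_smul, h1, inv_smul_smul], by rw [mul_smul, h2, inv_smul_smul],
        by rw [mul_smul, h3, inv_smul_smul]⟩
    · rintro ⟨y, h1, h2, h3⟩
      exact ⟨x * y, by rw [mul_smul, h1], by rw [mul_smul, h2], by rw [mul_smul, h3]⟩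
  have hOrne : ∀ a b c, Or a b c → a ≠ b ∧ a ≠ c ∧ b ≠ c := by
    rintro _ _ _ ⟨x, rfl, rfl, rfl⟩
    exact ⟨fun h => hab₀ (smul_left_cancel x h), fun h => hac₀ (smul_left_cancel x h),
      fun h => hbc₀ (smul_left_cancel x h)⟩
  let cnt : α → α → ℕ := fun b c => (Finset.univ.filter fun a => Or a b c).card
  set k := cnt b₀ c₀ with hkdef
  have hcnt : ∀ b c, b ≠ c → cnt b c = k := fun b c h => by
    obtain ⟨x, hx1, hx2⟩ := is_two_pretransitive_iff.mp h2 hbc₀ h
    refine (Finset.card_equiv (MulAction.toPerm x) fun a => ?_).symm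
    simp only [Finset.mem_filter, Finset.mem_univ, true_and, MulAction.toPerm_apply, ← hx1, ← hx2,
      hOr]
  have hk1 : 0 < k := Finset.card_pos.mpr ⟨a₀, Finset.mem_filter.mpr
    ⟨Finset.mem_univ _, 1, one_smul _ _, one_smul _ _, one_smul _ _⟩⟩
  have hrest : ∀ b c : α, b ≠ c →
      (Finset.univ.filter fun a => a ≠ b ∧ a ≠ c).card + 2 = p := fun b c h => by
    rw [show (Finset.univ.filter fun a => a ≠ b ∧ a ≠ c) = ({b, c} : Finset α)ᶜ from
      Finset.ext fun a => by simp, Finset.card_compl, Finset.card_pair h, hα]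
    have := hp.two_le
    omega
  have hk2 : k + 2 ≤ p := by
    rw [← hrest b₀ c₀ hbc₀]
    refine Nat.add_le_add_right (Finset.card_le_card fun a ha => ?_) 2
    simp only [Finset.mem_filter, Finset.mem_univ, true_and] at ha ⊢
    exact ⟨(hOrne _ _ _ ha).1, (hOrne _ _ _ ha).2.1⟩
  let f : α → α → α → ZMod p := fun a b c =>
    if a ≠ b ∧ a ≠ c ∧ b ≠ c then (if Or a b c then 2 else 0) + (k : ZMod p) else 0
  let g : α → α → α → ZMod p := fun a b c => f a b c + f a c b
  have hfinv : ∀ (x : G) a b c, f (x • a) (x • b) (x • c) = f a b c := fun x a b c => by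
    simp only [f, hOr, (smul_left_cancel_iff x).not, ne_eq]
  have hfsum : ∀ b c, ∑ a, f a b c = 0 := fun b c => by
    by_cases h : b = c
    · simp [f, h]
    simp only [f, ne_eq, h, not_false_eq_true, and_true]
    rw [← Finset.sum_filter, Finset.sum_add_distrib, ← Finset.sum_filter, Finset.sum_const,
      Finset.sum_const, Finset.filter_filter]
    rw [show (Finset.univ.filter fun a => (¬a = b ∧ ¬a = c) ∧ Or a b c) =
      Finset.univ.filter fun a => Or a b c from Finset.filter_congr fun a _ =>
        ⟨fun h => h.2, fun h => ⟨⟨(hOrne _ _ _ h).1, (hOrne _ _ _ h).2.1⟩, h⟩⟩]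
    rw [show (Finset.univ.filter fun a => Or a b c).card = k from hcnt b c h]
    have := hrest b c h
    have hcast : ((Finset.univ.filter fun a => a ≠ b ∧ a ≠ c).card : ZMod p) + 2 = 0 := by
      have h := congrArg (fun n : ℕ => (n : ZMod p)) this
      simpa using h
    simp only [ne_eq] at hcast
    rw [nsmul_eq_mul, nsmul_eq_mul]
    linear_combination (k : ZMod p) * hcast
  have hg1 : ∀ v w, form g 1 v w = 0 := fun v w => by
    simp only [form, Pi.one_apply, mul_one]
    rw [Finset.sum_comm]
    refine Finset.sum_eq_zero fun b _ => ?_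
    rw [Finset.sum_comm]
    refine Finset.sum_eq_zero fun c _ => ?_
    rw [← Finset.sum_mul, ← Finset.sum_mul, Finset.sum_add_distrib, hfsum, hfsum, add_zero,
      zero_mul, zero_mul]
  have hginv : ∀ (x : G) a b c, g (x • a) (x • b) (x • c) = g a b c := fun x a b c => by
    simp only [g, hfinv]
  have hgsym : ∀ a b c, g a c b = g a b c := fun a b c => add_comm _ _
  -- the invariant subspace killed by the form
  let W : Subrepresentation (Cfsg.permRep (ZMod p) G α) :=
    { toSubmodule :=
        { carrier := {u | ∑ a, u a = 0 ∧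
            ∀ v w : α → ZMod p, ∑ a, v a = 0 → ∑ a, w a = 0 → form g u v w = 0}
          add_mem' := fun {u u'} h h' => ⟨by simp [Finset.sum_add_distrib, h.1, h'.1],
            fun v w hv hw => by rw [form_add, h.2 v w hv hw, h'.2 v w hv hw, add_zero]⟩
          zero_mem' := ⟨by simp, fun v w _ _ => by simp [form]⟩
          smul_mem' := fun r u h => ⟨by simp [← Finset.mul_sum, h.1],
            fun v w hv hw => by rw [form_smul, h.2 v w hv hw, mul_zero]⟩ }
      apply_mem_toSubmodule := fun x u h => by
        refine ⟨(Fintype.sum_equiv (MulAction.toPerm x⁻¹) _ u fun a => rfl).trans h.1,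
          fun v w hv hw => ?_⟩
        rw [form_comp g hginv x]
        have hu : (fun a => Cfsg.permRep (ZMod p) G α x u (x • a)) = u := funext fun a => by
          change u (x⁻¹ • x • a) = u a
          rw [inv_smul_smul]
        rw [hu]
        exact h.2 _ _ ((Fintype.sum_equiv (MulAction.toPerm x) _ v fun a => rfl).trans hv)
          ((Fintype.sum_equiv (MulAction.toPerm x) _ w fun a => rfl).trans hw) }
  have hl0 : ∑ a, e.symm a = (0 : ZMod p) := by
    have h : ∑ j : ZMod p, j = 0 := by
      have h1 : ∑ j : ZMod p, j = ∑ j : ZMod p, -j :=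
        (Fintype.sum_equiv (Equiv.neg _) _ _ fun j => rfl).symm
      rw [Finset.sum_neg_distrib, eq_neg_iff_add_eq_zero, ← two_mul] at h1
      refine (mul_eq_zero.mp h1).resolve_left fun e' => ?_
      have h' : ((2 : ℕ) : ZMod p) = 0 := by exact_mod_cast e'
      rw [ZMod.natCast_eq_zero_iff, Nat.prime_dvd_prime_iff_eq hp Nat.prime_two] at h'
      exact hp2 h'
    exact (Fintype.sum_equiv e.symm _ _ fun a => rfl).trans h
  have hl : (fun a => e.symm a) ∈ W.toSubmodule :=
    ⟨hl0, skew_of_reflection G e σ t hσ ht hp2 g hginv hgsym hg1⟩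
  have hW := S0674.result hα G hG (K := ZMod p) W (by
      refine (Submodule.span_singleton_le_iff_mem _ _).mpr ⟨?_, fun v w _ _ => hg1 v w⟩
      simp [hα])
    (fun u hu => hu.1)
  have hWS : W = Cfsg.permSumZero (ZMod p) G α := by
    refine hW.resolve_left fun h => ?_
    rw [h] at hl
    obtain ⟨r, hr⟩ := Submodule.mem_span_singleton.mp hl
    have h0 := congrFun hr (e 0)
    have h1 := congrFun hr (e 1)
    simp only [Equiv.symm_apply_apply, Pi.smul_apply, smul_eq_mul, mul_one] at h0 h1
    exact zero_ne_one (h0.symm.trans h1)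
  have hzero : ∀ a b c : α, a ≠ b → a ≠ c → b ≠ c → g a b c = 0 := by
    have hnd : ∀ a b c, ¬(a ≠ b ∧ a ≠ c ∧ b ≠ c) → g a b c = 0 := fun a b c h => by
      simp only [g, f, if_neg h, if_neg (show ¬(a ≠ c ∧ a ≠ b ∧ c ≠ b) from
        fun h' => h ⟨h'.2.1, h'.1, h'.2.2.symm⟩), add_zero]
    have hanti : ∀ a b c : α, g a b c + g b a c = 0 := fun a b c => by
      have hu : (Pi.single a 1 - Pi.single b 1 : α → ZMod p) ∈ W.toSubmodule := by
        rw [hWS]; exact sum_single_sub a b
      have h := hu.2 (Pi.single a 1 - Pi.single b 1) (Pi.single c 1 - Pi.single b 1)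
        (sum_single_sub _ _) (sum_single_sub _ _)
      rw [form_difference, hnd a a c (by simp), hnd a a b (by simp), hnd a b b (by simp),
        hnd b a b (by simp), hnd b b c (by simp), hnd b b b (by simp)] at h
      linear_combination -h
    intro a b c _ _ _
    have e1 := hanti a b c
    have e2 := hanti c a b
    have e3 := hanti b c a
    rw [hgsym a b c] at e2
    rw [hgsym b a c, hgsym c a b] at e3
    have : (2 : ZMod p) * g a b c = 0 := by linear_combination e1 + e2 - e3
    refine (mul_eq_zero.mp this).resolve_left fun e' => ?_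
    have h' : ((2 : ℕ) : ZMod p) = 0 := by exact_mod_cast e'
    rw [ZMod.natCast_eq_zero_iff, Nat.prime_dvd_prime_iff_eq hp Nat.prime_two] at h'
    exact hp2 h'
  have hg0 := hzero a b c hab hac hbc
  simp only [g, f, if_pos (⟨hab, hac, hbc⟩ : a ≠ b ∧ a ≠ c ∧ b ≠ c),
    if_pos (⟨hac, hab, hbc.symm⟩ : a ≠ c ∧ a ≠ b ∧ c ≠ b)] at hg0
  by_contra hno
  rw [if_neg (show ¬Or a b c from hno)] at hg0
  have hcases : (2 * k : ℕ) = (0 : ZMod p) ∨ ((2 * (k + 1) : ℕ) : ZMod p) = 0 := by
    split_ifs at hg0
    · right; push_cast; linear_combination hg0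
    · left; push_cast; linear_combination hg0
  rcases hcases with h | h <;>
    rw [ZMod.natCast_eq_zero_iff] at h <;>
    rcases hp.dvd_mul.mp h with h' | h' <;>
    first
    | exact hp2 ((Nat.prime_dvd_prime_iff_eq hp Nat.prime_two).mp h')
    | (have := Nat.le_of_dvd (by omega) h'; omega)

end Cfsg.Agent.S0676
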