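import Cfsg.Statements.S3572
import Cfsg.Agent.EqLemmas
import Cfsg.Agent.Lib.DihedralBGroup.Rational
import Mathlib.GroupTheory.GroupAction.MultipleTransitivity
import Mathlib.GroupTheory.GroupAction.Primitive

set_option autoImplicit false
open Cfsg
open scoped Pointwise

namespace Cfsg.Agent.S3572

/-- A finite primitive permutation group containing a dihedral subgroup that acts regularly (transitively with trivial point stabilizers) is doubly transitive. -/
theorem result {G Ω : Type*} [Group G] [Finite G] [MulAction G Ω] [FaithfulSMul G Ω] [Finite Ω]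
    (hprim : MulAction.IsPreprimitive G Ω) (D : Subgroup G) (m : ℕ) (hD : Nonempty (↥D ≃* DihedralGroup m))
    (hDreg : MulAction.IsPretransitive ↥D Ω ∧ ∀ a : Ω, MulAction.stabilizer ↥D a = ⊥) :
    MulAction.IsMultiplyPretransitive G Ω 2 := by
  classical
  obtain ⟨e⟩ := hD
  have hm0 : m ≠ 0 := by
    rintro rfl
    have : Finite (DihedralGroup 0) := Finite.of_equiv _ e.toEquiv
    exact not_finite (DihedralGroup 0)
  haveI : NeZero m := ⟨hm0⟩
  have hDt := hDreg.1
  rcases isEmpty_or_nonempty Ω with hΩ | hΩ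
  · rw [MulAction.is_two_pretransitive_iff]
    intro b
    exact hΩ.elim b
  obtain ⟨a⟩ := hΩ
  set H := MulAction.stabilizer G a with hH
  let φ : DihedralGroup m →* G := D.subtype.comp e.symm.toMonoidHom
  have hinj : ∀ x y : DihedralGroup m, φ x • a = φ y • a → x = y := by
    intro x y h
    have h' : (e.symm y)⁻¹ * e.symm x ∈ MulAction.stabilizer D a := by
      rw [MulAction.mem_stabilizer_iff, mul_smul]
      show (((e.symm y)⁻¹ : D) : G) • φ x • a = a
      rw [h, Subgroup.coe_inv]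
      exact inv_smul_smul _ _
    rw [hDreg.2 a, Subgroup.mem_bot, inv_mul_eq_one] at h'
    exact (e.symm.injective h').symm
  have hsurj : ∀ u : Ω, ∃ x : DihedralGroup m, φ x • a = u := fun u => by
    obtain ⟨d, hd⟩ := MulAction.exists_smul_eq D a u
    exact ⟨e d, by show ((e.symm (e d) : D) : G) • a = u; rw [e.symm_apply_apply]; exact hd⟩
  have : Nontrivial Ω := ⟨φ 1 • a, φ (DihedralGroup.sr 0) • a, fun h => by
    have := hinj _ _ h
    rw [DihedralGroup.one_def] at this
    cases this⟩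
  let R : DihedralGroup m → DihedralGroup m → Prop :=
    fun x y => ∃ h ∈ H, (h * φ x) • a = φ y • a
  have hRrefl : ∀ x, R x x := fun x => ⟨1, one_mem _, by rw [one_mul]⟩
  have hRsymm : ∀ {x y}, R x y → R y x := fun {x y} ⟨h, hh, he⟩ =>
    ⟨h⁻¹, inv_mem hh, by rw [mul_smul, ← he, mul_smul, inv_smul_smul]⟩
  have hRtrans : ∀ {x y z}, R x y → R y z → R x z := fun {x y z} ⟨h, hh, he⟩ ⟨k, hk, he'⟩ =>
    ⟨k * h, mul_mem hk hh, by rw [mul_assoc, mul_smul, he, ← mul_smul, he']⟩
  have hone : ∀ {x}, R x 1 → x = 1 := fun {x} hx => by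
    obtain ⟨h, hh, he⟩ := hRsymm hx
    exact hinj _ _ (by rw [← he, map_one, mul_one, MulAction.mem_stabilizer_iff.1 hh, one_smul])
  have hconv : ∀ x y x' y' : DihedralGroup m, ∀ h ∈ H, (h * φ x) • a = φ x' • a →
      (h * φ y) • a = φ y' • a → R (x⁻¹ * y) (x'⁻¹ * y') := by
    intro x y x' y' h hh ex ey
    refine ⟨(φ x')⁻¹ * h * φ x, ?_, ?_⟩
    · rw [MulAction.mem_stabilizer_iff, mul_assoc, mul_smul, ex, inv_smul_smul]
    · calc ((φ x')⁻¹ * h * φ x * φ (x⁻¹ * y)) • a
          = ((φ x')⁻¹ * (h * φ y)) • a := by simp [mul_assoc]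
        _ = φ (x'⁻¹ * y') • a := by
          rw [mul_smul, ey, ← mul_smul]; simp
  -- an invariant set generates everything
  have hgen : ∀ O : Set (DihedralGroup m), (∀ x ∈ O, ∀ y, R x y → y ∈ O) → (∃ x ∈ O, x ≠ 1) →
      Subgroup.closure O = ⊤ := by
    intro O hO hne
    set L := Subgroup.closure O with hL
    have hLinv : ∀ l ∈ L, ∀ y, R l y → y ∈ L := by
      intro l hl
      induction hl using Subgroup.closure_induction_right with
      | one =>
        intro y hy
        exact (hone (hRsymm hy)).symm ▸ one_mem _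
      | mul_right l hl o ho ih =>
        rintro y ⟨h, hh, he⟩
        obtain ⟨l', hl'⟩ := hsurj ((h * φ l) • a)
        have h1 : R (l⁻¹ * (l * o)) (l'⁻¹ * y) := hconv l (l * o) l' y h hh hl'.symm he
        rw [inv_mul_cancel_left] at h1
        rw [show y = l' * (l'⁻¹ * y) by group]
        exact mul_mem (ih l' ⟨h, hh, hl'.symm⟩) (Subgroup.subset_closure (hO o ho _ h1))
      | mul_inv_cancel l hl o ho ih =>
        rintro y ⟨h, hh, he⟩
        obtain ⟨l', hl'⟩ := hsurj ((h * φ l) • a)
        have h1 : R ((l * o⁻¹)⁻¹ * l) (y⁻¹ * l') := hconv _ l y l' h hh he hl'.symm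
        rw [show (l * o⁻¹)⁻¹ * l = o by group] at h1
        rw [show y = l' * (y⁻¹ * l')⁻¹ by group]
        exact mul_mem (ih l' ⟨h, hh, hl'.symm⟩)
          (inv_mem (Subgroup.subset_closure (hO o ho _ h1)))
    let S : Set Ω := {u | ∃ l ∈ L, φ l • a = u}
    have hHS : ∀ h ∈ H, h ∈ MulAction.stabilizer G S := by
      intro h hh
      rw [MulAction.mem_stabilizer_set_iff_subset_smul_set (Set.toFinite _)]
      rintro _ ⟨l, hl, rfl⟩
      obtain ⟨l', hl'⟩ := hsurj ((h⁻¹ * φ l) • a)
      refine ⟨φ l' • a, ⟨l', hLinv l hl l' ⟨h⁻¹, inv_mem hh, hl'.symm⟩, rfl⟩, ?_⟩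
      show h • φ l' • a = _
      rw [hl', mul_smul, smul_inv_smul]
    have hLS : ∀ l ∈ L, φ l ∈ MulAction.stabilizer G S := by
      intro l hl
      rw [MulAction.mem_stabilizer_set_iff_subset_smul_set (Set.toFinite _)]
      rintro _ ⟨k, hk, rfl⟩
      refine ⟨φ (l⁻¹ * k) • a, ⟨_, mul_mem (inv_mem hl) hk, rfl⟩, ?_⟩
      show φ l • φ (l⁻¹ * k) • a = _
      rw [← mul_smul]; simp
    obtain ⟨x, hxO, hx⟩ := hne
    have hco : IsCoatom H := (MulAction.isCoatom_stabilizer_iff_preprimitive G a).2 hprim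
    have htop : MulAction.stabilizer G S = ⊤ := by
      refine hco.2 _ (lt_of_le_of_ne hHS fun e' => hx (hinj x 1 ?_))
      rw [map_one, one_smul]
      exact (e'.symm ▸ hLS x (Subgroup.subset_closure hxO) : φ x ∈ H)
    rw [eq_top_iff]
    intro y _
    have h1 : φ y • a ∈ φ y • S := Set.smul_mem_smul_set ⟨1, one_mem _, by simp⟩
    rw [MulAction.mem_stabilizer_iff.1 (htop.symm ▸ Subgroup.mem_top (φ y))] at h1
    obtain ⟨l, hl, he⟩ := h1
    exact hinj l y he ▸ hl
  have hsrone : ∀ z : ZMod m, (DihedralGroup.sr z)⁻¹ = (DihedralGroup.sr z : DihedralGroup m) :=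
    fun z => DihedralGroup.inv_sr z
  have hinv : ∀ x, R x x⁻¹ := by
    intro x
    by_cases hx1 : x = 1
    · rw [hx1, inv_one]
      exact hRrefl 1
    by_contra hx
    have hall : ∀ y, R x y → ∃ i, y = DihedralGroup.r i := by
      intro y hy
      rcases y with i | i
      · exact ⟨i, rfl⟩
      exfalso
      obtain ⟨h, hh, he⟩ := hy
      have h1 := hconv x 1 (DihedralGroup.sr i) 1 h hh he
        (by rw [map_one, mul_one, MulAction.mem_stabilizer_iff.1 hh, one_smul])
      rw [mul_one, mul_one, hsrone] at h1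
      exact hx (hRtrans ⟨h, hh, he⟩ (hRsymm h1))
    have hle : Subgroup.closure {y | R x y} ≤ Subgroup.zpowers (DihedralGroup.r 1) := by
      rw [Subgroup.closure_le]
      intro y hy
      obtain ⟨i, rfl⟩ := hall y hy
      exact ⟨(i.cast : ℤ), by simp [DihedralGroup.r_one_zpow]⟩
    rw [hgen {y | R x y} (fun u hu v hv => hRtrans hu hv) ⟨x, hRrefl x, hx1⟩, top_le_iff] at hle
    obtain ⟨k, hk⟩ := (hle ▸ Subgroup.mem_top (DihedralGroup.sr 0) :
      DihedralGroup.sr (0 : ZMod m) ∈ Subgroup.zpowers (DihedralGroup.r 1))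
    simp only [DihedralGroup.r_one_zpow] at hk
    cases hk
  let 𝔖 : Agent.DihedralBGroup.Scheme m :=
    { R := R
      rfl' := hRrefl
      symm' := hRsymm
      trans' := hRtrans
      eq_one := hone
      inv' := hinv
      conv' := by
        rintro f g hf hg x x' ⟨h, hh, he⟩
        choose π hπ using fun t : DihedralGroup m => hsurj ((h * φ t) • a)
        have hπi : Function.Injective π := fun t t' e' => hinj _ _ (by
          have h2 := (hπ t).symm.trans ((congrArg (fun v => φ v • a) e').trans (hπ t'))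
          rw [mul_smul, mul_smul] at h2
          exact MulAction.injective h h2)
        refine Fintype.sum_bijective π (Finite.injective_iff_bijective.1 hπi) _ _ fun t => ?_
        rw [hf t (π t) ⟨h, hh, (hπ t).symm⟩, hg _ _ (hconv t x (π t) x' h hh (hπ t).symm he)]
      gen := hgen }
  have htriv : ∀ x y : DihedralGroup m, x ≠ 1 → y ≠ 1 → R x y := by
    rcases Nat.lt_or_ge m 2 with hm | hm
    · intro x y hx hy
      obtain rfl : m = 1 := by omega
      have key : ∀ z : DihedralGroup 1, z ≠ 1 → z = DihedralGroup.sr 0 := by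
        intro z hz
        rcases z with i | i
        · exact absurd (by rw [Subsingleton.elim i 0, DihedralGroup.r_zero]) hz
        · rw [Subsingleton.elim i 0]
      rw [key x hx, key y hy]
      exact hRrefl _
    · exact 𝔖.isTrivial hm
  rw [MulAction.is_two_pretransitive_iff]
  intro b c d d' hbc hde
  obtain ⟨g₁, hg₁⟩ := MulAction.exists_smul_eq G b a
  obtain ⟨g₂, hg₂⟩ := MulAction.exists_smul_eq G d a
  obtain ⟨x, hx⟩ := hsurj (g₁ • c)
  obtain ⟨y, hy⟩ := hsurj (g₂ • d')
  have hx1 : x ≠ 1 := by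
    rintro rfl
    rw [map_one, one_smul, ← hg₁] at hx
    exact hbc (MulAction.injective g₁ hx)
  have hy1 : y ≠ 1 := by
    rintro rfl
    rw [map_one, one_smul, ← hg₂] at hy
    exact hde (MulAction.injective g₂ hy)
  obtain ⟨h, hh, eh⟩ := htriv x y hx1 hy1
  refine ⟨g₂⁻¹ * h * g₁, ?_, ?_⟩
  · rw [mul_smul, mul_smul, hg₁, MulAction.mem_stabilizer_iff.1 hh, ← hg₂, inv_smul_smul]
  · rw [mul_smul, mul_smul, ← hx, ← mul_smul h, eh, hy, inv_smul_smul]

end Cfsg.Agent.S3572
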