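import Cfsg.Statements.S3864
import Cfsg.Agent.S0111
import Cfsg.Agent.Lib.Transfer.Residual

set_option autoImplicit false
open Cfsg

namespace Cfsg.Agent.S3864

open DihedralGroup Cfsg.Agent.Transfer

variable {G : Type*} [Group G] {k : ℕ} (P : Sylow 2 G) (e : ↥(P : Subgroup G) ≃* DihedralGroup (2 ^ (k + 2)))

/-- The elements of the Sylow subgroup in dihedral coordinates. -/
def el (d : DihedralGroup (2 ^ (k + 2))) : G := (e.symm d : G)

theorem el_mul (d d' : DihedralGroup (2 ^ (k + 2))) : el P e (d * d') = el P e d * el P e d' := by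
  simp [el, map_mul]

theorem el_inv (d : DihedralGroup (2 ^ (k + 2))) : el P e d⁻¹ = (el P e d)⁻¹ := by simp [el, map_inv]

theorem el_one : el P e 1 = 1 := by simp [el]

theorem el_mem (d : DihedralGroup (2 ^ (k + 2))) : el P e d ∈ (P : Subgroup G) := (e.symm d).2

theorem el_injective : Function.Injective (el P e) := fun _ _ h => e.symm.injective (Subtype.ext h)

theorem orderOf_el (d : DihedralGroup (2 ^ (k + 2))) : orderOf (el P e d) = orderOf d := by
  rw [el, Subgroup.orderOf_coe, MulEquiv.orderOf_eq]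

theorem el_surj {g : G} (hg : g ∈ (P : Subgroup G)) : ∃ d, el P e d = g := ⟨e ⟨g, hg⟩, by simp [el]⟩

theorem even_or (i : ZMod (2 ^ (k + 2))) : (∃ j, i = j + j) ∨ ∃ j, i = j + j + 1 := by
  obtain ⟨m, rfl⟩ := ZMod.natCast_zmod_surjective i
  rcases Nat.even_or_odd' m with ⟨j, rfl | rfl⟩
  · exact Or.inl ⟨(j : ZMod (2 ^ (k + 2))), by push_cast; ring⟩
  · exact Or.inr ⟨(j : ZMod (2 ^ (k + 2))), by push_cast; ring⟩

theorem involution_cases (i : ZMod (2 ^ (k + 2))) (h : i + i = 0) :
    i = 0 ∨ i = ((2 ^ (k + 1) : ℕ) : ZMod (2 ^ (k + 2))) := by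
  obtain ⟨a, rfl⟩ := ZMod.natCast_zmod_surjective i
  rw [← Nat.cast_add, ZMod.natCast_eq_zero_iff, show 2 ^ (k + 2) = 2 * 2 ^ (k + 1) by ring] at h
  obtain ⟨b, hb⟩ := h
  have ha : a = 2 ^ (k + 1) * b := by rw [mul_assoc] at hb; omega
  rcases Nat.even_or_odd' b with ⟨d, rfl | rfl⟩
  · left
    rw [ZMod.natCast_eq_zero_iff, ha]
    exact ⟨d, by ring⟩
  · right
    rw [ha, show 2 ^ (k + 1) * (2 * d + 1) = 2 ^ (k + 1) + d * 2 ^ (k + 2) by ring, Nat.cast_add,
      Nat.cast_mul d, ZMod.natCast_self, mul_zero, add_zero]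

variable [Finite G]

/-- A normal subgroup of 2-power index missing all reflections has, like `G`, a normal 2-complement. -/
theorem complement_of_no_reflection (N : Subgroup G) [N.Normal] (hN : IsPGroup 2 (G ⧸ N))
    (hr : ∀ i, el P e (sr i) ∉ N) : Cfsg.HasNormalPComplement 2 G := by
  classical
  haveI : Fact (Nat.Prime 2) := ⟨Nat.prime_two⟩
  obtain ⟨j, hj⟩ : ∃ j, N.index = 2 ^ j := IsPGroup.iff_card.mp hN
  refine hasNormalPComplement_of_normal hj ?_
  by_cases hev : 2 ∣ Nat.card N
  swap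
  · exact hasNormalPComplement_of_not_dvd hev
  obtain ⟨T⟩ := (inferInstance : Nonempty (Sylow 2 N))
  obtain ⟨Q, hQ⟩ := (T.2.map N.subtype).exists_le_sylow
  obtain ⟨g, hg⟩ := MulAction.exists_smul_eq G Q P
  have hrot : ∀ x ∈ (T : Subgroup N), ∃ i : ZMod (2 ^ (k + 2)), el P e (r i) = g * (x : G) * g⁻¹ := by
    intro x hx
    have h1 : g * (x : G) * g⁻¹ ∈ (P : Subgroup G) := by
      rw [← hg, Sylow.coe_subgroup_smul]
      exact ⟨x, hQ ⟨x, hx, rfl⟩, rfl⟩
    obtain ⟨d, hd⟩ := el_surj P e h1
    cases d with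
    | r i => exact ⟨i, hd⟩
    | sr i => exact absurd (hd ▸ (inferInstance : N.Normal).conj_mem _ x.2 g) (hr i)
  choose f hf using hrot
  have hfm : ∀ x hx y hy, f (x * y) ((T : Subgroup N).mul_mem hx hy) = f x hx + f y hy := by
    intro x hx y hy
    apply DihedralGroup.r.inj
    apply el_injective P e
    rw [hf, ← r_mul_r, el_mul, hf, hf, Subgroup.coe_mul]
    group
  let F : (T : Subgroup N) →* Multiplicative (ZMod (2 ^ (k + 2))) :=
    MonoidHom.mk' (fun x => Multiplicative.ofAdd (f x.1 x.2)) (fun x y => by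
      show Multiplicative.ofAdd _ = _
      rw [← ofAdd_add]
      exact congrArg Multiplicative.ofAdd (hfm x.1 x.2 y.1 y.2))
  haveI : IsCyclic (T : Subgroup N) := isCyclic_of_injective F (fun x y h => by
    have h2 : f x.1 x.2 = f y.1 y.2 := Multiplicative.ofAdd.injective h
    have h3 := hf x.1 x.2
    rw [h2, hf y.1 y.2] at h3
    exact (Subtype.ext (Subtype.ext (mul_left_cancel (mul_right_cancel h3)))).symm)
  have hmin : (Nat.card N).minFac = 2 := (Nat.minFac_eq_two_iff _).2 hev
  exact ⟨T, _, MonoidHom.normal_ker _, MonoidHom.ker_transferSylow_isComplement' T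
    (IsCyclic.normalizer_le_centralizer hmin ‹_›)⟩

/-- Normal subgroups containing the even rotations and missing the two basic reflections miss all reflections. -/
theorem no_reflection (N : Subgroup G) (hsq : ∀ j, el P e (r (j + j)) ∈ N)
    (ha : el P e (sr 0) ∉ N) (hb : el P e (sr 1) ∉ N) (i : ZMod (2 ^ (k + 2))) : el P e (sr i) ∉ N := by
  intro h
  rcases even_or i with ⟨j, rfl⟩ | ⟨j, rfl⟩
  · apply ha
    have := N.mul_mem h (hsq (-j))
    rwa [← el_mul, sr_mul_r, show j + j + (-j + -j) = 0 by abel] at this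
  · apply hb
    have := N.mul_mem h (hsq (-j))
    rwa [← el_mul, sr_mul_r, show j + j + 1 + (-j + -j) = 1 by abel] at this

theorem exists_classes (C : ConjClasses G) (hC : ∃ g : G, ConjClasses.mk g = C ∧ orderOf g = 2) :
    C = ConjClasses.mk (el P e (r ((2 ^ (k + 1) : ℕ) : ZMod (2 ^ (k + 2))))) ∨
      C = ConjClasses.mk (el P e (sr 0)) ∨ C = ConjClasses.mk (el P e (sr 1)) := by
  obtain ⟨g, rfl, hg⟩ := hC
  haveI : Fact (Nat.Prime 2) := ⟨Nat.prime_two⟩
  obtain ⟨Q, hQ⟩ := (IsPGroup.of_card (p := 2) (n := 1)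
    (by rw [Nat.card_zpowers, hg, pow_one] : Nat.card (Subgroup.zpowers g) = 2 ^ 1)).exists_le_sylow
  obtain ⟨c, hc⟩ := MulAction.exists_smul_eq G Q P
  have h1 : c * g * c⁻¹ ∈ (P : Subgroup G) := by
    rw [← hc, Sylow.coe_subgroup_smul]
    exact ⟨g, hQ (Subgroup.mem_zpowers g), rfl⟩
  obtain ⟨d, hd⟩ := el_surj P e h1
  have hcl : ConjClasses.mk g = ConjClasses.mk (el P e d) :=
    ConjClasses.mk_eq_mk_iff_isConj.mpr (isConj_iff.mpr ⟨c, hd.symm⟩)
  have hd2 : orderOf d = 2 := by
    rw [← orderOf_el P e, hd, ← MulAut.conj_apply, MulEquiv.orderOf_eq, hg]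
  rw [hcl]
  cases d with
  | r i =>
    left
    have h2 := pow_orderOf_eq_one (r i)
    rw [hd2, pow_two, r_mul_r, one_def] at h2
    rcases involution_cases i (r.inj h2) with rfl | rfl
    · rw [← one_def, orderOf_one] at hd2; omega
    · rfl
  | sr i =>
    rcases even_or i with ⟨j, rfl⟩ | ⟨j, rfl⟩
    · refine Or.inr (Or.inl (ConjClasses.mk_eq_mk_iff_isConj.mpr (isConj_iff.mpr ⟨el P e (r j), ?_⟩)))
      rw [← el_inv, ← el_mul, ← el_mul, r_mul_sr, inv_r, sr_mul_r, show j + j - j + -j = 0 by abel]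
    · refine Or.inr (Or.inr (ConjClasses.mk_eq_mk_iff_isConj.mpr (isConj_iff.mpr ⟨el P e (r j), ?_⟩)))
      rw [← el_inv, ← el_mul, ← el_mul, r_mul_sr, inv_r, sr_mul_r, show j + j + 1 - j + -j = 1 by abel]

/-- An index-two subgroup missing a given reflection, if it is not conjugate to the central involution. -/
theorem exists_index_two (i : ZMod (2 ^ (k + 2)))
    (h : ¬ IsConj (el P e (sr i)) (el P e (r ((2 ^ (k + 1) : ℕ) : ZMod (2 ^ (k + 2)))))) :
    ∃ M : Subgroup G, M.Normal ∧ M.index = 2 ∧ el P e (sr i) ∉ M := by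
  classical
  let Q' : Subgroup (DihedralGroup (2 ^ (k + 2))) := Subgroup.zpowers (r 1)
  have hQ' : ∀ d, d ∈ Q' ↔ ∃ j, d = r j := by
    intro d
    constructor
    · rintro ⟨m, rfl⟩
      exact ⟨(m : ZMod (2 ^ (k + 2))), r_one_zpow m⟩
    · rintro ⟨j, rfl⟩
      obtain ⟨m, rfl⟩ := ZMod.intCast_surjective j
      exact ⟨m, r_one_zpow m⟩
  let Q : Subgroup G := (Q'.comap e.toMonoidHom).map (P : Subgroup G).subtype
  have hQi : Q.relIndex (P : Subgroup G) = 2 := by
    rw [Subgroup.relIndex, Subgroup.subgroupOf, Subgroup.comap_map_eq_self_of_injective Subtype.val_injective,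
      Subgroup.index_comap_of_surjective _ e.surjective]
    have h2 := Q'.index_mul_card
    rw [Nat.card_zpowers, orderOf_r_one, DihedralGroup.nat_card] at h2
    exact Nat.eq_of_mul_eq_mul_right (by positivity) h2
  have hmemQ : ∀ d, el P e d ∈ Q → ∃ j, d = r j := by
    rintro d ⟨y, hy, hye⟩
    have : y = e.symm d := Subtype.ext hye
    subst this
    exact (hQ' d).mp (by simpa using hy)
  have hord : orderOf (el P e (sr i)) = 2 := by rw [orderOf_el, orderOf_sr]
  rcases S0111.result P Q (Subgroup.map_subtype_le _) hQi _ hord (el_mem P e _)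
    (fun hc => by obtain ⟨j, hj⟩ := hmemQ _ hc; simp at hj) with hM | ⟨c, hc⟩
  · exact hM
  · exfalso
    obtain ⟨d, hd⟩ := el_surj P e (Subgroup.map_subtype_le _ hc)
    rw [← hd] at hc
    obtain ⟨j, rfl⟩ := hmemQ d hc
    have hd2 : orderOf (r j : DihedralGroup (2 ^ (k + 2))) = 2 := by
      rw [← orderOf_el P e, hd, ← MulAut.conj_apply, MulEquiv.orderOf_eq, hord]
    have h2 := pow_orderOf_eq_one (r j : DihedralGroup (2 ^ (k + 2)))
    rw [hd2, pow_two, r_mul_r, one_def] at h2
    rcases involution_cases j (r.inj h2) with rfl | rfl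
    · rw [← one_def, orderOf_one] at hd2; omega
    · exact h (isConj_iff.mpr ⟨c, hd.symm⟩)

theorem rot_mem_of_index_two (M : Subgroup G) (hM : M.index = 2) (j : ZMod (2 ^ (k + 2))) :
    el P e (r (j + j)) ∈ M := by
  rw [← r_mul_r, el_mul]
  exact Subgroup.mul_self_mem_of_index_two hM _

theorem isPGroup_of_sq (N : Subgroup G) [N.Normal] (h : ∀ g : G, g * g ∈ N) : IsPGroup 2 (G ⧸ N) := by
  intro q
  obtain ⟨g, rfl⟩ := QuotientGroup.mk_surjective q
  exact ⟨1, by rw [pow_one, ← QuotientGroup.mk_pow, QuotientGroup.eq_one_iff, pow_two]; exact h g⟩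


/-- Let G be a finite group whose Sylow 2-subgroups are dihedral of order 2 ^ n with n ≥ 3, and count the conjugacy classes of involutions of G. Then exactly one of the following holds: there is one class of involutions and no normal subgroup of index 2; there are two classes of involutions, a normal subgroup of index 2 and none of index 4; there are three classes of involutions and G has a normal 2-complement. -/
theorem result {G : Type*} [Group G] [Finite G] (P : Sylow 2 G) (n : ℕ) (hn : 3 ≤ n) (hdih : Nonempty (↥(P : Subgroup G) ≃* DihedralGroup (2 ^ (n - 1)))) : (Nat.card {C : ConjClasses G // ∃ g : G, ConjClasses.mk g = C ∧ orderOf g = 2} = 1 ∧ ∀ N : Subgroup G, N.Normal → N.index ≠ 2) ∨ (Nat.card {C : ConjClasses G // ∃ g : G, ConjClasses.mk g = C ∧ orderOf g = 2} = 2 ∧ (∃ N : Subgroup G, N.Normal ∧ N.index = 2) ∧ ∀ N : Subgroup G, N.Normal → N.index ≠ 4) ∨ (Nat.card {C : ConjClasses G // ∃ g : G, ConjClasses.mk g = C ∧ orderOf g = 2} = 3 ∧ Cfsg.HasNormalPComplement 2 G) := by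
  classical
  haveI : Fact (Nat.Prime 2) := ⟨Nat.prime_two⟩
  obtain ⟨e'⟩ := hdih
  obtain ⟨k, rfl⟩ : ∃ k, n = k + 3 := ⟨n - 3, by omega⟩
  let e : ↥(P : Subgroup G) ≃* DihedralGroup (2 ^ (k + 2)) := e'
  set zc : ZMod (2 ^ (k + 2)) := ((2 ^ (k + 1) : ℕ) : ZMod (2 ^ (k + 2))) with hzc
  set z := el P e (DihedralGroup.r zc) with hz
  set a := el P e (DihedralGroup.sr 0) with ha
  set b := el P e (DihedralGroup.sr 1) with hb
  have hzc0 : zc ≠ 0 := by
    rw [hzc, Ne, ZMod.natCast_eq_zero_iff]
    intro h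
    have := Nat.le_of_dvd (by positivity) h
    have := Nat.pow_lt_pow_right one_lt_two (show k + 1 < k + 2 by omega)
    omega
  have hzeven : ∃ j : ZMod (2 ^ (k + 2)), zc = j + j :=
    ⟨((2 ^ k : ℕ) : ZMod (2 ^ (k + 2))), by rw [hzc, ← Nat.cast_add]; congr 1; ring⟩
  have hoz : orderOf z = 2 := by
    rw [hz, orderOf_el]
    refine orderOf_eq_prime ?_ ?_
    · rw [pow_two, DihedralGroup.r_mul_r, DihedralGroup.one_def, hzc, ← Nat.cast_add]
      congr 1
      rw [ZMod.natCast_eq_zero_iff]
      exact ⟨1, by ring⟩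
    · rw [DihedralGroup.one_def]
      exact fun h => hzc0 (DihedralGroup.r.inj h)
  have hoa : orderOf a = 2 := by rw [ha, orderOf_el, DihedralGroup.orderOf_sr]
  have hob : orderOf b = 2 := by rw [hb, orderOf_el, DihedralGroup.orderOf_sr]
  set Cl := {C : ConjClasses G | ∃ g : G, ConjClasses.mk g = C ∧ orderOf g = 2} with hCl
  have hcount : Nat.card {C : ConjClasses G // ∃ g : G, ConjClasses.mk g = C ∧ orderOf g = 2} =
      ({ConjClasses.mk z, ConjClasses.mk a, ConjClasses.mk b} : Set (ConjClasses G)).ncard := by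
    rw [← Nat.card_coe_set_eq]
    refine Nat.card_congr (Equiv.subtypeEquivRight fun C => ⟨fun hC => exists_classes P e C hC, ?_⟩)
    rintro (rfl | rfl | rfl)
    · exact ⟨z, rfl, hoz⟩
    · exact ⟨a, rfl, hoa⟩
    · exact ⟨b, rfl, hob⟩
  rw [hcount]
  have hmk : ∀ x y : G, ConjClasses.mk x = ConjClasses.mk y ↔ IsConj x y := fun x y =>
    ConjClasses.mk_eq_mk_iff_isConj
  by_cases hidx : ∀ N : Subgroup G, N.Normal → N.index ≠ 2
  · left
    refine ⟨?_, hidx⟩
    have hconj : ∀ i, IsConj (el P e (DihedralGroup.sr i)) z := fun i => by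
      by_contra h
      obtain ⟨M, hM, hMi, -⟩ := exists_index_two P e i h
      exact hidx M hM hMi
    rw [(hmk a z).mpr (hconj 0), (hmk b z).mpr (hconj 1)]
    simp
  push Not at hidx
  obtain ⟨M, hMn, hMi⟩ := hidx
  right
  have hPM : ¬ (P : Subgroup G) ≤ M := fun hle => by
    have := Subgroup.index_dvd_of_le hle
    rw [hMi] at this
    exact P.not_dvd_index this
  by_cases hcomp : Cfsg.HasNormalPComplement 2 G
  · right
    refine ⟨?_, hcomp⟩
    obtain ⟨K, hKn, hK⟩ := (hasNormalPComplement_iff_sylow P).mp hcomp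
    haveI := hKn
    have key : ∀ d d', IsConj (el P e d) (el P e d') → IsConj d d' := by
      intro d d' h
      obtain ⟨c, hc⟩ := isConj_iff.mp h
      obtain ⟨u, hu, v, hv, rfl⟩ := Subgroup.mem_sup_of_normal_left.mp (hK.sup_eq_top ▸ Subgroup.mem_top c)
      obtain ⟨w, rfl⟩ := el_surj P e hv
      refine isConj_iff.mpr ⟨w, el_injective P e ?_⟩
      rw [el_mul, el_mul, el_inv]
      set y := el P e w * el P e d * (el P e w)⁻¹ with hy
      have hyP : y ∈ (P : Subgroup G) :=
        (P : Subgroup G).mul_mem ((P : Subgroup G).mul_mem (el_mem P e w) (el_mem P e d))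
          ((P : Subgroup G).inv_mem (el_mem P e w))
      have hmem : el P e d' * y⁻¹ ∈ K := by
        rw [← hc, show u * el P e w * el P e d * (u * el P e w)⁻¹ * y⁻¹ = u * (y * u⁻¹ * y⁻¹) by
          rw [hy]; group]
        exact K.mul_mem hu (hKn.conj_mem _ (K.inv_mem hu) y)
      have h2 : el P e d' * y⁻¹ ∈ K ⊓ (P : Subgroup G) :=
        ⟨hmem, (P : Subgroup G).mul_mem (el_mem P e d') ((P : Subgroup G).inv_mem hyP)⟩
      rw [disjoint_iff.mp hK.disjoint, Subgroup.mem_bot, mul_inv_eq_one] at h2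
      exact h2.symm
    have hzfix : ∀ d, IsConj (DihedralGroup.r zc) d → d = DihedralGroup.r zc := by
      intro d h
      obtain ⟨c, hc⟩ := isConj_iff.mp h
      have hzz : zc + zc = 0 := by
        rw [hzc, ← Nat.cast_add, ZMod.natCast_eq_zero_iff]; exact ⟨1, by ring⟩
      rw [← hc]
      cases c with
      | r i => rw [DihedralGroup.r_mul_r, DihedralGroup.inv_r, DihedralGroup.r_mul_r]; congr 1; abel
      | sr i =>
        rw [DihedralGroup.sr_mul_r, DihedralGroup.inv_sr, DihedralGroup.sr_mul_sr]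
        congr 1
        rw [show i - (i + zc) = -zc by abel]
        exact neg_eq_of_add_eq_zero_left hzz
    have h01 : ¬ IsConj (DihedralGroup.sr (0 : ZMod (2 ^ (k + 2)))) (DihedralGroup.sr 1) := by
      intro h
      obtain ⟨c, hc⟩ := isConj_iff.mp h
      have hodd : ∀ j : ZMod (2 ^ (k + 2)), j + j ≠ 1 := fun j hj => by
        have := congrArg (ZMod.castHom (dvd_pow_self 2 (by omega : k + 2 ≠ 0)) (ZMod 2)) hj
        rw [map_add, map_one, CharTwo.add_self_eq_zero] at this
        exact zero_ne_one this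
      cases c with
      | r i =>
        rw [DihedralGroup.r_mul_sr, DihedralGroup.inv_r, DihedralGroup.sr_mul_r] at hc
        exact hodd (-i) (by rw [← DihedralGroup.sr.inj hc]; abel)
      | sr i =>
        rw [DihedralGroup.sr_mul_sr, DihedralGroup.inv_sr, DihedralGroup.r_mul_sr] at hc
        exact hodd i (by rw [← DihedralGroup.sr.inj hc]; abel)
    rw [Set.ncard_eq_three]
    refine ⟨_, _, _, ?_, ?_, ?_, rfl⟩
    · exact fun h => by simpa using hzfix _ (key _ _ ((hmk z a).mp h))
    · exact fun h => by simpa using hzfix _ (key _ _ ((hmk z b).mp h))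
    · exact fun h => h01 (key _ _ ((hmk a b).mp h))
  · left
    refine ⟨?_, ⟨M, hMn, hMi⟩, ?_⟩
    · have hsome : IsConj a z ∨ IsConj b z := by
        by_contra h
        push Not at h
        obtain ⟨M₁, hM₁, hi₁, ha₁⟩ := exists_index_two P e 0 h.1
        obtain ⟨M₂, hM₂, hi₂, hb₂⟩ := exists_index_two P e 1 h.2
        haveI := hM₁
        haveI := hM₂
        apply hcomp
        refine complement_of_no_reflection P e (M₁ ⊓ M₂) (isPGroup_of_sq _ fun g =>
          ⟨Subgroup.mul_self_mem_of_index_two hi₁ g, Subgroup.mul_self_mem_of_index_two hi₂ g⟩) ?_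
        exact no_reflection P e _ (fun j => ⟨rot_mem_of_index_two P e M₁ hi₁ j, rot_mem_of_index_two P e M₂ hi₂ j⟩)
          (fun h' => ha₁ h'.1) (fun h' => hb₂ h'.2)
      have hne : ¬ (IsConj a z ∧ IsConj b z) := by
        rintro ⟨h1, h2⟩
        have hzM : z ∈ M := by
          obtain ⟨j, hj⟩ := hzeven
          rw [hz, hj]
          exact rot_mem_of_index_two P e M hMi j
        have hin : ∀ u, IsConj u z → u ∈ M := fun u hu => by
          obtain ⟨c, hc⟩ := isConj_iff.mp hu.symm
          exact hc ▸ hMn.conj_mem z hzM c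
        apply hPM
        intro g hg
        have hrot : ∀ i, el P e (DihedralGroup.r i) ∈ M := by
          intro i
          rcases even_or i with ⟨j, rfl⟩ | ⟨j, rfl⟩
          · exact rot_mem_of_index_two P e M hMi j
          · rw [← DihedralGroup.r_mul_r, el_mul]
            refine M.mul_mem (rot_mem_of_index_two P e M hMi j) ?_
            rw [show (DihedralGroup.r 1 : DihedralGroup (2 ^ (k + 2))) = DihedralGroup.sr 0 * DihedralGroup.sr 1 by
              rw [DihedralGroup.sr_mul_sr, sub_zero], el_mul]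
            exact M.mul_mem (hin a h1) (hin b h2)
        obtain ⟨d, rfl⟩ := el_surj P e hg
        cases d with
        | r i => exact hrot i
        | sr i =>
          rw [show (DihedralGroup.sr i : DihedralGroup (2 ^ (k + 2))) = DihedralGroup.sr 0 * DihedralGroup.r i by
            rw [DihedralGroup.sr_mul_r, zero_add], el_mul]
          exact M.mul_mem (hin a h1) (hrot i)
      rcases hsome with h | h
      · rw [(hmk a z).mpr h, Set.insert_eq_of_mem (Set.mem_insert _ _)]
        exact Set.ncard_pair fun h' => hne ⟨h, ((hmk z b).mp h').symm⟩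
      · rw [(hmk b z).mpr h, Set.pair_comm, Set.insert_eq_of_mem (Set.mem_insert _ _)]
        exact Set.ncard_pair fun h' => hne ⟨((hmk z a).mp h').symm, h⟩
    · intro N hNn hNi
      haveI := hNn
      apply hcomp
      have h4 : Nat.card (G ⧸ N) = 2 ^ 2 := hNi
      have hcomm := IsPGroup.commutative_of_card_eq_prime_sq h4
      have hsq : ∀ j, el P e (DihedralGroup.r (j + j)) ∈ N := by
        intro j
        rw [show (DihedralGroup.r (j + j) : DihedralGroup (2 ^ (k + 2))) = DihedralGroup.r j * DihedralGroup.sr 0 *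
          (DihedralGroup.r j)⁻¹ * (DihedralGroup.sr 0)⁻¹ by
          rw [DihedralGroup.r_mul_sr, DihedralGroup.inv_r, DihedralGroup.sr_mul_r, DihedralGroup.inv_sr,
            DihedralGroup.sr_mul_sr]
          congr 1
          abel, el_mul, el_mul, el_mul, el_inv, el_inv, ← QuotientGroup.eq_one_iff]
        simp only [QuotientGroup.mk_mul, QuotientGroup.mk_inv]
        rw [hcomm ((el P e (DihedralGroup.r j) : G) : G ⧸ N)]
        group
      have hQ : IsPGroup 2 (G ⧸ N) := IsPGroup.of_card h4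
      -- if a reflection lies in `N` then the index is at most two
      have hnot : ∀ u v : ZMod (2 ^ (k + 2)), (u = 0 ∧ v = 1 ∨ u = 1 ∧ v = 0) →
          el P e (DihedralGroup.sr u) ∉ N := by
        intro u v huv hu
        have hsup : (P : Subgroup G) ⊔ N = ⊤ := by
          rw [← Subgroup.index_eq_one]
          obtain ⟨i, -, hi⟩ := (Nat.dvd_prime_pow Nat.prime_two).mp
            ((show N.index = 2 ^ 2 from hNi) ▸ Subgroup.index_dvd_of_le (le_sup_right : N ≤ (P : Subgroup G) ⊔ N))
          rcases Nat.eq_zero_or_pos i with rfl | hi0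
          · simpa using hi
          · exact absurd ((hi ▸ dvd_pow_self 2 hi0.ne').trans (Subgroup.index_dvd_of_le le_sup_left)) P.not_dvd_index
        set w : G ⧸ N := ((el P e (DihedralGroup.sr v) : G) : G ⧸ N) with hw
        have hone : ∀ g : G, (g : G ⧸ N) ∈ Subgroup.zpowers w := by
          intro g
          obtain ⟨y, hy, z', hz', rfl⟩ := Subgroup.mem_sup_of_normal_right.mp (hsup ▸ Subgroup.mem_top g)
          rw [QuotientGroup.mk_mul, (QuotientGroup.eq_one_iff z').mpr hz', mul_one]
          obtain ⟨d, rfl⟩ := el_surj P e hy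
          have h1 : ∀ j, ((el P e (DihedralGroup.r (j + j)) : G) : G ⧸ N) = 1 := fun j =>
            (QuotientGroup.eq_one_iff _).mpr (hsq j)
          have hu1 : ((el P e (DihedralGroup.sr u) : G) : G ⧸ N) = 1 := (QuotientGroup.eq_one_iff _).mpr hu
          have hsr : ∀ i, ((el P e (DihedralGroup.sr i) : G) : G ⧸ N) ∈ Subgroup.zpowers w := by
            intro i
            have hor : ∃ j, i = u + (j + j) ∨ i = v + (j + j) := by
              rcases even_or i with ⟨j, rfl⟩ | ⟨j, rfl⟩ <;> rcases huv with ⟨rfl, rfl⟩ | ⟨rfl, rfl⟩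
              · exact ⟨j, Or.inl (by abel)⟩
              · exact ⟨j, Or.inr (by abel)⟩
              · exact ⟨j, Or.inr (by abel)⟩
              · exact ⟨j, Or.inl (by abel)⟩
            obtain ⟨j, rfl | rfl⟩ := hor
            · rw [← DihedralGroup.sr_mul_r, el_mul, QuotientGroup.mk_mul, h1, mul_one, hu1]
              exact one_mem _
            · rw [← DihedralGroup.sr_mul_r, el_mul, QuotientGroup.mk_mul, h1, mul_one]
              exact Subgroup.mem_zpowers _
          cases d with
          | r i =>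
            rw [show (DihedralGroup.r i : DihedralGroup (2 ^ (k + 2))) = DihedralGroup.sr u * DihedralGroup.sr (i + u) by
              rw [DihedralGroup.sr_mul_sr, add_sub_cancel_right], el_mul, QuotientGroup.mk_mul, hu1, one_mul]
            exact hsr _
          | sr i => exact hsr i
        have hw2 : w ^ 2 = 1 := by
          rw [hw, ← QuotientGroup.mk_pow, pow_two, ← el_mul, DihedralGroup.sr_mul_self, el_one, QuotientGroup.mk_one]
        have hle := Nat.le_of_dvd two_pos (orderOf_dvd_of_pow_eq_one hw2)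
        have htop : (Subgroup.zpowers w) = ⊤ := eq_top_iff.mpr fun q _ => by
          obtain ⟨g, rfl⟩ := QuotientGroup.mk_surjective q
          exact hone g
        rw [← Nat.card_zpowers, htop, Subgroup.card_top, h4] at hle
        omega
      exact complement_of_no_reflection P e N hQ
        (no_reflection P e N hsq (hnot 0 1 (Or.inl ⟨rfl, rfl⟩)) (hnot 1 0 (Or.inr ⟨rfl, rfl⟩)))

end Cfsg.Agent.S3864
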