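import Cfsg.Statements.S1496
import Cfsg.Agent.Lib.Coprime.Invariant

set_option autoImplicit false
open Cfsg

namespace Cfsg.Agent.S1496

/-- A copy of the group on which it acts by conjugation. -/
structure CX (G : Type*) where
  /-- the underlying element -/
  val : G

instance {G : Type*} [Group G] : MulAction G (CX G) where
  smul a x := ⟨a * x.val * a⁻¹⟩
  one_smul x := by show CX.mk _ = x; simp
  mul_smul a b x := by show CX.mk _ = CX.mk (a * (b * x.val * b⁻¹) * a⁻¹); simp [mul_assoc]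

theorem smul_mk {G : Type*} [Group G] (a x : G) : a • (CX.mk x) = CX.mk (a * x * a⁻¹) := rfl

/-- Let H be a subgroup of the finite group G and g an element normalising H whose order is coprime to the order of H. Then for every h ∈ H there are x ∈ H and c ∈ H commuting with g such that x * (h * g) * x⁻¹ = c * g. -/
theorem result {G : Type*} [Group G] [Finite G] (H : Subgroup G) (g : G) (hg : g ∈ Subgroup.normalizer (H : Set G)) (hcop : Nat.Coprime (orderOf g) (Nat.card H)) (h : G) (hh : h ∈ H) : ∃ x ∈ H, ∃ c ∈ H, c * g = g * c ∧ x * (h * g) * x⁻¹ = c * g := by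
  classical
  have hsm : ∀ a x : G, a • CX.mk x = CX.mk (a * x * a⁻¹) := smul_mk
  have hA : Subgroup.zpowers g ≤ Subgroup.normalizer (H : Set G) := Subgroup.zpowers_le.mpr hg
  set s : Set (CX G) := {y | ∃ k ∈ H, y = CX.mk (k * (h * g) * k⁻¹)} with hs
  have hKs : ∀ k ∈ H, ∀ y ∈ s, k • y ∈ s := by
    rintro k hk y ⟨k', hk', rfl⟩
    exact ⟨k * k', mul_mem hk hk', by rw [hsm]; exact congrArg CX.mk (by group)⟩
  have hgs : ∀ a ∈ Subgroup.zpowers g, ∀ y ∈ s, a • y ∈ s := by
    intro a ha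
    obtain ⟨m, rfl⟩ := (Submonoid.mem_powers_iff _ _).mp
      ((mem_powers_iff_mem_zpowers (x := g)).mpr ha)
    induction m with
    | zero => intro y hy; simpa using hy
    | succ m ih =>
      intro y hy
      rw [pow_succ', mul_smul]
      obtain ⟨k, hk, he⟩ := ih ⟨(m : ℤ), by simp⟩ y hy
      refine ⟨g * k * g⁻¹ * h⁻¹, mul_mem ((Subgroup.mem_normalizer_iff.mp hg k).mp hk) (inv_mem hh), ?_⟩
      rw [he, hsm]; exact congrArg CX.mk (by group)
  obtain ⟨y, ⟨x, hx, rfl⟩, hfix⟩ := Cfsg.Agent.Coprime.exists_fixed_point (K := H) hA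
    (by rwa [Nat.card_zpowers]) (Or.inl inferInstance) s ⟨CX.mk (h * g), 1, one_mem _, by simp⟩ hgs hKs
    (by
      rintro _ ⟨k, hk, rfl⟩ _ ⟨k', hk', rfl⟩
      exact ⟨k' * k⁻¹, mul_mem hk' (inv_mem hk), by rw [hsm]; exact congrArg CX.mk (by group)⟩)
  have hcomm := hfix g (Subgroup.mem_zpowers g)
  rw [hsm] at hcomm
  have hcomm := congrArg CX.val hcomm
  simp only at hcomm
  refine ⟨x, hx, x * (h * g) * x⁻¹ * g⁻¹, ?_, ?_, by group⟩
  · rw [show x * (h * g) * x⁻¹ * g⁻¹ = x * h * (g * x⁻¹ * g⁻¹) by group]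
    exact mul_mem (mul_mem hx hh) ((Subgroup.mem_normalizer_iff.mp hg _).mp (inv_mem hx))
  · conv_rhs => rw [← mul_assoc, hcomm]
    group

end Cfsg.Agent.S1496
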