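import Cfsg.Statements.S5124
import Cfsg.Agent.Lib.FusionTate.Lift
import Cfsg.Agent.Lib.Fusion.Normal

set_option autoImplicit false
open Cfsg

namespace Cfsg.Agent.S5124

/-- In a saturated fusion system over a finite p-group S the hyperfocal subgroup is strongly closed in the system. -/
theorem result {Ω : Type*} [Group Ω] {S : Subgroup Ω} [Finite S] (p : ℕ) [Fact p.Prime] (hS : IsPGroup p S) (F : Cfsg.FusionSystem S) (hF : F.IsSaturated p) : F.StronglyClosed (F.hyperfocalSubgroup p) := by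
  have := Agent.FusionTate.hyperfocal_normal (F := F) (p := p)
  refine Agent.Fusion.stronglyClosed_iff.2
    ⟨Agent.FusionChain.hyperfocalSubgroup_le p, fun P f hf x hxP hx => ?_⟩
  let π := QuotientGroup.mk' ((F.hyperfocalSubgroup p).subgroupOf S)
  have hπ : ∀ u : S, π u = 1 ↔ (u : Ω) ∈ F.hyperfocalSubgroup p := fun u =>
    QuotientGroup.eq_one_iff u
  obtain ⟨γ, hγ⟩ := Agent.FusionTate.exists_conj_mod_hyperfocal hS hF π (fun u hu => (hπ u).2 hu) hf
  have h := hγ ⟨x, hf.le hxP⟩ ⟨f x, hf.mem hxP⟩ hxP rfl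
  rw [map_mul, map_mul, (hπ ⟨x, hf.le hxP⟩).2 hx, mul_one, map_inv, mul_inv_cancel] at h
  exact (hπ _).1 h

end Cfsg.Agent.S5124
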