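import Cfsg.Statements.S5145
import Cfsg.Agent.EqLemmas

set_option autoImplicit false
open Cfsg

namespace Cfsg.Agent.S5145

variable {Ω : Type*} [Group Ω] {S : Subgroup Ω}

theorem restrict_mem (F : Cfsg.FusionSystem S) {A B : Subgroup Ω} {ψ : B →* Ω} (hle : A ≤ B)
    (hψ : ψ ∈ F.Hom B) : ψ.comp (Subgroup.inclusion hle) ∈ F.Hom A := by
  have := F.comp_mem (F.conj_mem (hle.trans (F.le_of_mem hψ).1) S.one_mem) hψ
    (fun x => by simpa [Cfsg.conjHom] using hle x.2)
  convert this using 1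
  ext x
  simp [Cfsg.conjHom, Subgroup.inclusion, MonoidHom.codRestrict]

theorem sup_normal (F : Cfsg.FusionSystem S) {A B : Subgroup Ω} (hA : F.IsNormal A) (hB : F.IsNormal B) :
    F.IsNormal (A ⊔ B) := by
  refine ⟨sup_le hA.1 hB.1, fun P φ hφ => ?_⟩
  obtain ⟨ψ₁, h₁, e₁, c₁⟩ := hA.2 P φ hφ
  obtain ⟨ψ₂, h₂, e₂, c₂⟩ := hB.2 (P ⊔ A) ψ₁ h₁
  have hle : P ⊔ (A ⊔ B) ≤ P ⊔ A ⊔ B := le_of_eq (sup_assoc P A B).symm
  refine ⟨ψ₂.comp (Subgroup.inclusion hle), restrict_mem F hle h₂,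
    fun x => Eq.trans rfl ((e₂ (Subgroup.inclusion le_sup_left x)).trans (e₁ x)), ?_⟩
  have hrest : ∀ C : Subgroup Ω, ∀ hC : C ≤ P ⊔ (A ⊔ B),
      (C.subgroupOf (P ⊔ (A ⊔ B))).map (ψ₂.comp (Subgroup.inclusion hle)) =
        (C.subgroupOf (P ⊔ A ⊔ B)).map ψ₂ := by
    intro C hC
    ext y
    constructor
    · rintro ⟨x, hx, rfl⟩; exact ⟨Subgroup.inclusion hle x, hx, rfl⟩
    · rintro ⟨x, hx, rfl⟩; exact ⟨⟨x, hC hx⟩, hx, rfl⟩
  rw [Subgroup.subgroupOf_sup (le_sup_left.trans le_sup_right) (le_sup_right.trans le_sup_right),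
    Subgroup.map_sup, hrest A (le_sup_left.trans le_sup_right), hrest B (le_sup_right.trans le_sup_right), c₂]
  congr 1
  calc (A.subgroupOf (P ⊔ A ⊔ B)).map ψ₂ = (A.subgroupOf (P ⊔ A)).map ψ₁ := by
        ext y
        constructor
        · rintro ⟨x, hx, rfl⟩
          exact ⟨⟨x, le_sup_right (a := P) hx⟩, hx, (e₂ ⟨x, le_sup_right (a := P) hx⟩).symm⟩
        · rintro ⟨x, hx, rfl⟩
          exact ⟨Subgroup.inclusion le_sup_left x, hx, e₂ x⟩
    _ = A := c₁

theorem bot_normal (F : Cfsg.FusionSystem S) : F.IsNormal ⊥ := by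
  refine ⟨bot_le, fun P φ hφ => ?_⟩
  refine ⟨φ.comp (Subgroup.inclusion (le_of_eq (sup_bot_eq P))), restrict_mem F _ hφ, fun x => rfl, ?_⟩
  rw [Subgroup.bot_subgroupOf, Subgroup.map_bot]


/-- For a fusion system over a finite subgroup S, the join of all subgroups normal in the system is itself normal in the system, hence its largest normal subgroup. -/
theorem result {Ω : Type*} [Group Ω] {S : Subgroup Ω} [Finite S] (F : Cfsg.FusionSystem S) : F.IsNormal F.core := by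
  have hfin : {Q : Subgroup Ω | F.IsNormal Q}.Finite := by
    have : Finite {Q : Subgroup Ω // Q ≤ S} := Finite.of_injective
      (fun Q => (Q.1.subgroupOf S)) fun Q R h => by
        apply Subtype.ext
        have := congrArg (Subgroup.map S.subtype) h
        simpa [Subgroup.subgroupOf_map_subtype, inf_eq_left.mpr Q.2, inf_eq_left.mpr R.2] using this
    exact (Set.toFinite (Set.univ : Set {Q : Subgroup Ω // Q ≤ S})).image Subtype.val |>.subset
      fun Q hQ => ⟨⟨Q, hQ.1⟩, trivial, rfl⟩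
  have : ∀ s : Finset (Subgroup Ω), (∀ Q ∈ s, F.IsNormal Q) → F.IsNormal (s.sup id) :=
    fun s hs => Finset.sup_induction (bot_normal F) (fun a ha b hb => sup_normal F ha hb) hs
  have := this hfin.toFinset (by simp)
  rwa [Finset.sup_id_eq_sSup, Set.Finite.coe_toFinset] at this

end Cfsg.Agent.S5145
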