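import Cfsg.Statements.S4705
import Cfsg.Agent.Lib.DegPMinusTwo.Structure

set_option autoImplicit false
open Cfsg

namespace Cfsg.Agent.S4705

/-- Let G be a finite group with centre Z and p > 5 a prime such that a Sylow p-subgroup of G has order p and is not normal. If G has a faithful irreducible character of degree p − 2, then p = 2^a + 1 for some a and G is isomorphic to the direct product of SL(2, 2^a) with Z. -/
theorem result {G : Type*} [Group G] [Finite G] (p : ℕ) [Fact p.Prime] (hp : 5 < p) (P : Sylow p G) (hP : Nat.card P = p) (hnn : ¬ (P : Subgroup G).Normal) (ζ : G → ℂ) (hζ : Cfsg.IsIrrCharacter G ζ) (hfaith : ∀ g : G, ζ g = ζ 1 → g = 1) (hdeg : Cfsg.charDegree ζ = p - 2) : ∃ (a : ℕ) (F : Type) (_ : Field F) (_ : Fintype F), p = 2 ^ a + 1 ∧ Fintype.card F = 2 ^ a ∧ Nonempty (G ≃* Matrix.SpecialLinearGroup (Fin 2) F × Subgroup.center G) := by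
  classical
  have hpp : p.Prime := Fact.out
  obtain ⟨x, L, hPx, hS⟩ := Cfsg.Agent.CyclicDefect.exists_setting_of_sylow hpp P hP
  rw [hPx] at hnn
  set χ : IrrCharacter G := ⟨ζ, hζ⟩ with hχ
  obtain ⟨c, hdat⟩ := DegPMinusTwo.exists_data hS hp χ hdeg hfaith hnn
  obtain ⟨D, y, L', ψ, hDn, hy, hS', hperf, hynn, hψd, hψ⟩ :=
    DegPMinusTwo.exists_perfect hS hp χ hdeg hfaith hnn
  have hfD : ∀ d : D, (ψ : D → ℂ) d = (ψ : D → ℂ) 1 → d = 1 := fun d hd => Subtype.ext (hfaith d (by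
    rw [hψ, hψ] at hd
    exact hd))
  obtain ⟨a, F, iF, iFt, hpa, hFa, hZD, ⟨e⟩⟩ := DegPMinusTwo.perfect_case hS' hp ψ hψd hfD hperf hynn
  let f : D × Subgroup.center G →* G :=
    MonoidHom.noncommCoprod D.subtype (Subgroup.center G).subtype fun d z =>
      (Subgroup.mem_center_iff.mp z.2 d : (d : G) * z = z * d)
  have hf : ∀ (d : D) (z : Subgroup.center G), f (d, z) = (d : G) * z := fun d z => rfl
  have hinj : Function.Injective f := by
    rw [injective_iff_map_eq_one]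
    rintro ⟨d, z⟩ hdz
    rw [hf, mul_eq_one_iff_eq_inv] at hdz
    have hdc : d ∈ Subgroup.center D := Subgroup.mem_center_iff.mpr fun b => Subtype.ext (by
      show (b : G) * d = d * b
      rw [hdz]
      exact Subgroup.mem_center_iff.mp (Subgroup.inv_mem _ z.2) b)
    rw [hZD, Subgroup.mem_bot] at hdc
    rw [hdc, OneMemClass.coe_one, eq_comm, inv_eq_one] at hdz
    exact Prod.ext hdc (Subtype.ext hdz)
  have hD : ∀ d ∈ D, d ∈ f.range := fun d hd => ⟨(⟨d, hd⟩, 1), by rw [hf]; exact mul_one d⟩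
  have hZ : ∀ z ∈ Subgroup.center G, z ∈ f.range := fun z hz => ⟨(1, ⟨z, hz⟩), by rw [hf]; exact one_mul z⟩
  have hxD : x ∈ D := hy ▸ y.2
  have hC : ∀ g, Commute x g → g ∈ f.range := fun g hg => by
    obtain ⟨i, k, rfl⟩ := hS.decomp hg
    exact mul_mem (hD _ (pow_mem hxD _)) (hZ _ (hdat.K_le k))
  -- an element of `L` inverting `x` lies in the range
  obtain ⟨l₂, hl₂L, hl₂⟩ := hdat.exists_inverting hS
  obtain ⟨c', hdat'⟩ := DegPMinusTwo.exists_data hS' hp ψ hψd hfD hynn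
  obtain ⟨l₁, -, hl₁⟩ := hdat'.exists_inverting hS'
  have hl₁' : (l₁ : G) * x * (l₁ : G)⁻¹ = x⁻¹ := by rw [← hy]; exact congrArg Subtype.val hl₁
  have hl₂r : l₂ ∈ f.range := by
    have hc : Commute x ((l₁ : G)⁻¹ * l₂) := by
      have e1 : l₂ * x = x⁻¹ * l₂ := by rw [← hl₂]; group
      have e2 : (l₁ : G)⁻¹ * x⁻¹ * (l₁ : G) = x := by rw [← hl₁']; group
      show x * ((l₁ : G)⁻¹ * l₂) = (l₁ : G)⁻¹ * l₂ * x
      rw [mul_assoc ((l₁ : G)⁻¹), e1]
      nth_rewrite 1 [← e2]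
      group
    have := mul_mem (hD _ l₁.2) (hC _ hc)
    rwa [mul_inv_cancel_left] at this
  have hsurj : Function.Surjective f := by
    intro g
    have hgx : g * x * g⁻¹ ∈ D := hDn.conj_mem x hxD g
    have hord : orderOf (⟨g * x * g⁻¹, hgx⟩ : D) = p := by
      rw [← Subgroup.orderOf_coe]
      exact (MulEquiv.orderOf_eq (MulAut.conj g) x).trans hS.hx
    obtain ⟨d, hd⟩ := DegPMinusTwo.exists_conj_mem_zpowers hS' hord
    obtain ⟨i, hi⟩ := hS'.exists_pw hd
    have hi' : (d : G) * g * x * ((d : G) * g)⁻¹ = x ^ i.val := by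
      have := congrArg Subtype.val hi
      simp only [Cfsg.Agent.CyclicDefect.pw, Subgroup.coe_mul, Subgroup.coe_inv, SubmonoidClass.coe_pow, hy] at this
      rw [← this]; group
    have hN : (d : G) * g ∈ Subgroup.normalizer (Subgroup.zpowers x : Set G) := by
      refine Subgroup.mem_normalizer_iff_map_conj_eq.mpr ?_
      refine Subgroup.eq_of_le_of_card_ge ?_ ?_
      · rw [MonoidHom.map_zpowers, Subgroup.zpowers_le]
        show (d : G) * g * x * ((d : G) * g)⁻¹ ∈ _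
        rw [hi']
        exact Subgroup.npow_mem_zpowers x _
      · rw [Subgroup.card_map_of_injective (MulEquiv.injective _)]
    obtain ⟨u, hu, l, hl, hul⟩ := hS.hgen _ hN
    have hlr : l ∈ f.range := by
      by_cases hk : (⟨l, hl⟩ : L) ∈ Cfsg.Agent.CyclicDefect.K x L
      · exact hZ _ (hdat.K_le ⟨_, hk⟩)
      · have h2 : (⟨l₂, hl₂L⟩ : L) ∉ Cfsg.Agent.CyclicDefect.K x L := fun h2 => by
          rw [Cfsg.Agent.CyclicDefect.mem_K] at h2
          rw [← h2.eq, mul_inv_cancel_right] at hl₂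
          have hx2 : x ^ 2 = 1 := by rw [pow_two]; exact mul_eq_one_iff_eq_inv.mpr hl₂
          have := Nat.le_of_dvd two_pos (hS.hx ▸ orderOf_dvd_of_pow_eq_one hx2)
          omega
        have hm : ((⟨l₂, hl₂L⟩ : L))⁻¹ * ⟨l, hl⟩ ∈ Cfsg.Agent.CyclicDefect.K x L :=
          (Subgroup.mul_mem_iff_of_index_two hdat.index_K).mpr
            ⟨fun h => absurd (inv_mem_iff.mp h) h2, fun h => absurd h hk⟩
        have := mul_mem hl₂r (hZ _ (hdat.K_le ⟨_, hm⟩))
        have e : l₂ * (l₂⁻¹ * l) = l := mul_inv_cancel_left l₂ l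
        rw [← e]
        exact this
    have hu' : u ∈ f.range := hD _ (Subgroup.zpowers_le.mpr hxD hu)
    have := mul_mem (inv_mem (hD _ d.2)) (hul ▸ mul_mem hu' hlr : (d : G) * g ∈ f.range)
    rwa [inv_mul_cancel_left] at this
  exact ⟨a, F, iF, iFt, hpa, hFa, ⟨(MulEquiv.ofBijective f ⟨hinj, hsurj⟩).symm.trans (MulEquiv.prodCongr e (MulEquiv.refl _))⟩⟩

end Cfsg.Agent.S4705
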