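import Cfsg.Statements.S0719
import Cfsg.Agent.Lib.Perm.Subdegrees

set_option autoImplicit false
open Cfsg

namespace Cfsg.Agent.S0719

open MulAction Perm.Orbital

/-- The eigenvalue identities exclude a non-negative trace. -/
theorem no_nonneg {d r t m : ℤ} (hm : 2 ≤ m) (hd : 2 ≤ d) (hdr : d = r - t * m)
    (htr : d * d + (m - 1) * (r * r) + m * ((t - r) * (t - r)) = 2 * m * d) : ¬ 0 ≤ t := by
  intro ht
  rcases eq_or_lt_of_le ht with rfl | ht
  · simp only [zero_mul, sub_zero, zero_sub] at hdr htr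
    subst hdr
    have h : 2 * m * d * (d - 1) = 0 := by linear_combination htr
    have : 0 < 2 * m * d * (d - 1) := by
      have h1 : (0 : ℤ) < 2 * m * d := by positivity
      exact mul_pos h1 (by omega)
    omega
  · have hr : d + m ≤ r := by nlinarith
    nlinarith [mul_self_nonneg (t - r), mul_self_nonneg (d - m), mul_le_mul hr hr (by omega) (by omega)]

/-- The arithmetic of groups of Wielandt type. -/
theorem arith {d r t m : ℤ} (hm : 2 ≤ m) (hd : 2 ≤ d) (hd' : 2 ≤ 2 * m - 1 - d)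
    (hdr : d = r - t * m)
    (htr : d * d + (m - 1) * (r * r) + m * ((t - r) * (t - r)) = 2 * m * d) :
    ∃ a : ℕ, 0 < a ∧ m = 2 * (a : ℤ) ^ 2 + 2 * a + 1 ∧
      (d = a * (2 * a + 1) ∨ d = (a + 1) * (2 * a + 1)) := by
  have h1 := no_nonneg hm hd hdr htr
  have h2 := no_nonneg (d := 2 * m - 1 - d) (r := -1 - r) (t := -2 - t) hm hd'
    (by linear_combination -hdr)
    (by subst hdr; linear_combination htr)
  obtain rfl : t = -1 := by omega
  have hd0 : d = r + m := by linarith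
  have hmr : m = 2 * r ^ 2 + 2 * r + 1 := by
    subst hd0
    apply mul_left_cancel₀ (show m ≠ 0 by omega)
    linear_combination -htr
  rcases le_or_gt 0 r with hr | hr
  · refine ⟨r.toNat, ?_, ?_, Or.inr ?_⟩
    · by_contra h0
      have : r = 0 := by omega
      subst this
      omega
    · rw [Int.toNat_of_nonneg hr]; linarith
    · rw [Int.toNat_of_nonneg hr]; linear_combination hd0 + hmr
  · refine ⟨(-1 - r).toNat, ?_, ?_, Or.inl ?_⟩
    · by_contra h0
      have : r = -1 := by omega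
      subst this
      omega
    · rw [Int.toNat_of_nonneg (by omega)]; linear_combination hmr
    · rw [Int.toNat_of_nonneg (by omega)]; linear_combination hd0 + hmr

variable {G : Type*} [Group G] [Fintype G] {Ω : Type*} [Fintype Ω] [MulAction G Ω]

theorem subdegree_ne_one (hprim : IsPreprimitive G Ω) {a b : Ω} (hab : b ≠ a)
    (hrank : Nat.card (orbitRel.Quotient (stabilizer G a) Ω) = 3) (heven : Even (Fintype.card Ω)) :
    Nat.card (orbit (stabilizer G a) b) ≠ 1 := by
  intro h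
  have : Nontrivial Ω := ⟨⟨b, a, hab⟩⟩
  have hle : stabilizer G a ≤ stabilizer G b := fun g hg => by
    have hs := (Nat.card_eq_one_iff_unique.mp h).1
    exact congrArg Subtype.val
      (Subsingleton.elim (⟨g • b, ⟨⟨g, hg⟩, rfl⟩⟩ : orbit (stabilizer G a) b) ⟨b, mem_orbit_self b⟩)
  have heq : stabilizer G a = stabilizer G b := by
    refine Subgroup.eq_of_le_of_card_ge hle (le_of_eq ?_)
    have h1 := (stabilizer G a).index_mul_card
    have h2 := (stabilizer G b).index_mul_card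
    rw [index_stabilizer_of_transitive G a] at h1
    rw [index_stabilizer_of_transitive G b, ← h1] at h2
    exact Nat.eq_of_mul_eq_mul_left (Nat.card_pos (α := Ω)) h2
  obtain ⟨u, hu⟩ := exists_smul_eq G a b
  have hconj : (stabilizer G a).map (MulAut.conj u).toMonoidHom = stabilizer G a := by
    rw [← stabilizer_smul_eq_stabilizer_map_conj, hu, heq]
  have hun : u ∈ Subgroup.normalizer (stabilizer G a : Set G) := by
    rw [Subgroup.mem_normalizer_iff]
    intro g
    conv_rhs => rw [← hconj]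
    exact ⟨fun hg => ⟨g, hg, rfl⟩, fun ⟨g', hg', e⟩ => (MulAut.conj u).injective e ▸ hg'⟩
  have htop : Subgroup.normalizer (stabilizer G a : Set G) = ⊤ :=
    ((isCoatom_stabilizer_iff_preprimitive (G := G) a).mpr hprim).2 _ (lt_of_le_of_ne Subgroup.le_normalizer fun e =>
      hab (hu.symm.trans (show u ∈ stabilizer G a by rw [e]; exact hun)))
  have hfix : ∀ (g : stabilizer G a) (x : Ω), g • x = x := fun g x => by
    obtain ⟨h, rfl⟩ := exists_smul_eq G a x
    have hn : h⁻¹ ∈ Subgroup.normalizer (stabilizer G a : Set G) := htop ▸ Subgroup.mem_top _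
    have := (Subgroup.mem_normalizer_iff.mp hn (g : G)).mp g.2
    rw [inv_inv, mem_stabilizer_iff, mul_smul, mul_smul, inv_smul_eq_iff] at this
    exact this
  have hcard : Nat.card (orbitRel.Quotient (stabilizer G a) Ω) = Fintype.card Ω := by
    rw [← Nat.card_eq_fintype_card]
    refine Nat.card_eq_of_bijective Quotient.out ⟨Quotient.out_injective, fun x => ⟨⟦x⟧, ?_⟩⟩
    obtain ⟨g, hg⟩ := orbitRel_apply.mp (Quotient.mk_out (s := orbitRel (stabilizer G a) Ω) x)
    exact hg.symm.trans (hfix g x)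
  rw [hcard] at hrank
  rw [hrank] at heven
  exact absurd heven (by decide)

/-- The regular structure of the two non-trivial orbitals. -/
theorem relation [DecidableEq Ω] (hprim : IsPreprimitive G Ω) {m : ℕ} (hm : Fintype.card Ω = 2 * m) (a₀ : Ω)
    (hrank : Nat.card (orbitRel.Quotient (stabilizer G a₀) Ω) = 3) (b : Ω) (hb : b ≠ a₀) :
    ∃ (d' : ℕ) (l μ : ℤ), 1 + (Nat.card (orbit (stabilizer G a₀) b) : ℤ) + d' = 2 * m ∧
      2 ≤ Nat.card (orbit (stabilizer G a₀) b) ∧ 2 ≤ d' ∧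
      (∀ x, (orbMat G a₀ b * orbMat G a₀ b) x x = (Nat.card (orbit (stabilizer G a₀) b) : ℤ)) ∧
      Matrix.toLin' ((orbMat G a₀ b).map (Int.cast : ℤ → ℂ)) *
          Matrix.toLin' ((orbMat G a₀ b).map (Int.cast : ℤ → ℂ)) =
        ((Nat.card (orbit (stabilizer G a₀) b) : ℂ) - μ) • (1 : Module.End ℂ (Ω → ℂ)) +
          ((l : ℂ) - μ) • Matrix.toLin' ((orbMat G a₀ b).map (Int.cast : ℤ → ℂ)) +
          (μ : ℂ) • Matrix.toLin' ((Matrix.of fun _ _ : Ω => (1 : ℂ))) := by
  classical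
  have : Nonempty Ω := ⟨a₀⟩
  have := Fintype.ofFinite (orbitRel.Quotient (stabilizer G a₀) Ω)
  have heven : Even (Fintype.card Ω) := ⟨m, by omega⟩
  -- a third point
  have hq : (Finset.univ : Finset (orbitRel.Quotient (stabilizer G a₀) Ω)).card = 3 := by
    rw [Finset.card_univ, ← Nat.card_eq_fintype_card, hrank]
  have hab' : (⟦a₀⟧ : orbitRel.Quotient (stabilizer G a₀) Ω) ≠ ⟦b⟧ := fun e => by
    obtain ⟨g, hg⟩ := orbitRel_apply.mp (Quotient.exact e.symm)
    exact hb (hg.symm.trans g.2)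
  obtain ⟨q, -, hq'⟩ := Finset.exists_mem_notMem_of_card_lt_card
    (show ({⟦a₀⟧, ⟦b⟧} : Finset (orbitRel.Quotient (stabilizer G a₀) Ω)).card < Finset.univ.card by
      rw [Finset.card_pair hab', hq]; norm_num)
  obtain ⟨c, rfl⟩ := Quotient.exists_rep q
  simp only [Finset.mem_insert, Finset.mem_singleton, not_or] at hq'
  have hc : c ≠ a₀ := fun e => hq'.1 (e ▸ rfl)
  have hall : ∀ x : orbitRel.Quotient (stabilizer G a₀) Ω, x = ⟦a₀⟧ ∨ x = ⟦b⟧ ∨ x = ⟦c⟧ := by
    intro x
    have h := Finset.eq_univ_of_card ({⟦a₀⟧, ⟦b⟧, ⟦c⟧} : Finset (orbitRel.Quotient (stabilizer G a₀) Ω))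
      (by
        rw [← Finset.card_univ, hq]
        exact Finset.card_eq_three.mpr ⟨_, _, _, hab', Ne.symm hq'.1, Ne.symm hq'.2, rfl⟩)
    have := Finset.mem_univ x
    rw [← h] at this
    simpa using this
  set A : Matrix Ω Ω ℤ := orbMat G a₀ b with hA
  set B : Matrix Ω Ω ℤ := orbMat G a₀ c with hB
  have hsplit : ∀ x y, (if x = y then 1 else 0) + A x y + B x y = 1 := by
    intro x y
    obtain ⟨g, rfl⟩ := exists_smul_eq G a₀ x
    obtain ⟨y, rfl⟩ : ∃ z, g • z = y := ⟨g⁻¹ • y, smul_inv_smul g y⟩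
    rw [hA, hB, orbMat_smul, orbMat_smul, if_congr (smul_left_cancel_iff g) rfl rfl]
    have hmem : ∀ z, (a₀, y) ∈ orbit G (a₀, z) ↔
        (⟦y⟧ : orbitRel.Quotient (stabilizer G a₀) Ω) = ⟦z⟧ := fun z => by
      constructor
      · rintro ⟨h, hh⟩
        exact Quotient.sound (orbitRel_apply.mpr ⟨⟨h, congrArg Prod.fst hh⟩, congrArg Prod.snd hh⟩)
      · intro e
        obtain ⟨h, rfl⟩ := orbitRel_apply.mp (Quotient.exact e)
        exact ⟨(h : G), Prod.ext h.2 rfl⟩
    have hy : a₀ = y ↔ (⟦y⟧ : orbitRel.Quotient (stabilizer G a₀) Ω) = ⟦a₀⟧ := by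
      refine ⟨fun e => e ▸ rfl, fun e => ?_⟩
      obtain ⟨h, hh⟩ := orbitRel_apply.mp (Quotient.exact e)
      exact h.2.symm.trans hh
    unfold orbMat
    rw [if_congr hy rfl rfl, if_congr (hmem b) rfl rfl, if_congr (hmem c) rfl rfl]
    rcases hall ⟦y⟧ with e | e | e <;> rw [e] <;>
      simp [hab', Ne.symm hab', Ne.symm hq'.1, Ne.symm hq'.2, hq'.1, hq'.2]
  set d := Nat.card (orbit (stabilizer G a₀) b) with hdd
  set d' := Nat.card (orbit (stabilizer G a₀) c) with hdd'
  have hrowA : ∀ x, ∑ y, A x y = (d : ℤ) := fun x => sum_orbMat a₀ b x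
  have hrowB : ∀ x, ∑ y, B x y = (d' : ℤ) := fun x => sum_orbMat a₀ c x
  have hsum : 1 + (d : ℤ) + d' = 2 * m := by
    have h := Finset.sum_congr (s₁ := Finset.univ) rfl fun y _ => hsplit a₀ y
    rw [Finset.sum_add_distrib, Finset.sum_add_distrib, Finset.sum_ite_eq, hrowA, hrowB,
      if_pos (Finset.mem_univ _), Finset.sum_const, Finset.card_univ, hm, nsmul_one] at h
    push_cast at h
    exact h
  have hA01 : ∀ x y, A x y = 0 ∨ A x y = 1 := fun x y => by
    rw [hA]; unfold orbMat; split_ifs <;> simp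
  have hB01 : ∀ x y, B x y = 0 ∨ B x y = 1 := fun x y => by
    rw [hB]; unfold orbMat; split_ifs <;> simp
  have hAsym : ∀ x y, A x y = A y x := by
    suffices h : (b, a₀) ∈ orbit G (a₀, b) by
      intro x y
      have key : ∀ u v : Ω, (u, v) ∈ orbit G (a₀, b) → (v, u) ∈ orbit G (a₀, b) := by
        rintro u v ⟨g, hg⟩
        obtain ⟨rfl, rfl⟩ : g • a₀ = u ∧ g • b = v := ⟨congrArg Prod.fst hg, congrArg Prod.snd hg⟩
        rw [← orbit_eq_iff, show (g • b, g • a₀) = g • (b, a₀) from rfl, orbit_smul, orbit_eq_iff]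
        exact h
      rw [hA]; unfold orbMat
      exact if_congr ⟨key x y, key y x⟩ rfl rfl
    by_contra hba
    -- otherwise the two orbitals are paired and the degree would be odd
    have hbc : (b, a₀) ∈ orbit G (a₀, c) := by
      have h := hsplit b a₀
      rw [if_neg hb, hA, hB] at h
      unfold orbMat at h
      rw [if_neg hba] at h
      by_contra hcon
      rw [if_neg hcon] at h
      exact absurd h (by norm_num)
    have hT : ∀ x y, A x y = B y x := fun x y => by
      have key : ∀ u v : Ω, (u, v) ∈ orbit G (a₀, b) → (v, u) ∈ orbit G (a₀, c) := by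
        rintro u v ⟨g, hg⟩
        obtain ⟨rfl, rfl⟩ : g • a₀ = u ∧ g • b = v := ⟨congrArg Prod.fst hg, congrArg Prod.snd hg⟩
        rw [← orbit_eq_iff, show (g • b, g • a₀) = g • (b, a₀) from rfl, orbit_smul, orbit_eq_iff]
        exact hbc
      have key' : ∀ u v : Ω, (v, u) ∈ orbit G (a₀, c) → (u, v) ∈ orbit G (a₀, b) := by
        rintro u v ⟨g, hg⟩
        obtain ⟨h, hh⟩ := hbc
        refine ⟨g * h⁻¹, ?_⟩
        have e1 : h⁻¹ • b = a₀ := inv_smul_eq_iff.mpr (congrArg Prod.fst hh).symm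
        have e2 : h⁻¹ • a₀ = c := inv_smul_eq_iff.mpr (congrArg Prod.snd hh).symm
        obtain ⟨rfl, rfl⟩ : g • a₀ = v ∧ g • c = u := ⟨congrArg Prod.fst hg, congrArg Prod.snd hg⟩
        change ((g * h⁻¹) • a₀, (g * h⁻¹) • b) = (g • c, g • a₀)
        rw [mul_smul, mul_smul, e1, e2]
      rw [hA, hB]; unfold orbMat
      exact if_congr ⟨key x y, key' x y⟩ rfl rfl
    have h : ∑ x, ∑ y, A x y = ∑ x, ∑ y, B x y := by
      exact Finset.sum_comm.trans
        (Finset.sum_congr rfl fun y _ => Finset.sum_congr rfl fun x _ => hT x y)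
    simp only [hrowA, hrowB, Finset.sum_const, Finset.card_univ, nsmul_eq_mul] at h
    have := mul_left_cancel₀ (Nat.cast_ne_zero.2 Fintype.card_ne_zero) h
    omega
  -- `A * A` in the basis of orbitals
  have hA2inv : ∀ (g : G) x y, (A * A) (g • x) (g • y) = (A * A) x y := fun g x y => by
    simp only [Matrix.mul_apply]
    refine (Fintype.sum_equiv (MulAction.toPerm g) _ _ fun z => ?_).symm
    simp only [MulAction.toPerm_apply, hA, orbMat_smul]
  set l := (A * A) a₀ b with hl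
  set μ := (A * A) a₀ c with hμ
  have hdiag : ∀ x, (A * A) x x = d := fun x => by
    rw [Matrix.mul_apply, ← hrowA x]
    refine Finset.sum_congr rfl fun z _ => ?_
    rw [hAsym z x]
    rcases hA01 x z with e | e <;> rw [e] <;> rfl
  have hA2 : ∀ x y, (A * A) x y = (if x = y then (d : ℤ) else 0) + l * A x y + μ * B x y := by
    intro x y
    have h := hsplit x y
    by_cases hxy : x = y
    · subst hxy
      rw [if_pos rfl] at h ⊢
      have h1 : A x x = 0 := by rcases hA01 x x with e | e <;> rcases hB01 x x with e' | e' <;> omega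
      have h2 : B x x = 0 := by omega
      rw [hdiag, h1, h2]
      ring
    · rw [if_neg hxy] at h ⊢
      rcases hA01 x y with e | e
      · have e' : B x y = 1 := by omega
        have hmem : (x, y) ∈ orbit G (a₀, c) := by
          by_contra hcon
          rw [hB] at e'
          unfold orbMat at e'
          rw [if_neg hcon] at e'
          exact zero_ne_one e'
        obtain ⟨g, hg⟩ := hmem
        obtain ⟨rfl, rfl⟩ : g • a₀ = x ∧ g • c = y := ⟨congrArg Prod.fst hg, congrArg Prod.snd hg⟩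
        rw [e, e']
        rw [hA2inv, hμ]
        ring
      · have e' : B x y = 0 := by omega
        have hmem : (x, y) ∈ orbit G (a₀, b) := by
          by_contra hcon
          rw [hA] at e
          unfold orbMat at e
          rw [if_neg hcon] at e
          exact zero_ne_one e
        obtain ⟨g, hg⟩ := hmem
        obtain ⟨rfl, rfl⟩ : g • a₀ = x ∧ g • b = y := ⟨congrArg Prod.fst hg, congrArg Prod.snd hg⟩
        rw [e, e']
        rw [hA2inv, hl]
        ring
  -- subdegrees are at least two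
  have hdpos : ∀ x : Ω, 0 < Nat.card (orbit (stabilizer G a₀) x) := fun x => by
    have := (nonempty_orbit (M := stabilizer G a₀) x).to_subtype
    exact Nat.card_pos
  have hd2 : 2 ≤ d := by
    have h1 := subdegree_ne_one hprim hb hrank heven
    have h2 := hdpos b
    omega
  have hd2' : 2 ≤ d' := by
    have h1 := subdegree_ne_one hprim hc hrank heven
    have h2 := hdpos c
    omega
  refine ⟨d', l, μ, hsum, hd2, hd2', hdiag, ?_⟩
  set T : Module.End ℂ (Ω → ℂ) := Matrix.toLin' (A.map (Int.cast : ℤ → ℂ)) with hT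
  apply LinearMap.toMatrix'.injective
  rw [LinearMap.toMatrix'_mul, map_add, map_add, map_smul, map_smul, map_smul,
    LinearMap.toMatrix'_one, hT, LinearMap.toMatrix'_toLin', LinearMap.toMatrix'_toLin',
    ← Matrix.map_mul_intCast]
  ext x y
  have h := hsplit x y
  simp only [Matrix.map_apply, Matrix.add_apply, Matrix.smul_apply, Matrix.of_apply,
    Matrix.one_apply, smul_eq_mul, hA2]
  have hc' : (B x y : ℂ) = 1 - (if x = y then 1 else 0) - (A x y : ℂ) := by
    have h' := congrArg (Int.cast : ℤ → ℂ) h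
    push_cast at h'
    split_ifs at h' ⊢ <;> linear_combination h'
  push_cast
  rw [hc']
  split_ifs <;> ring

theorem main (hprim : IsPreprimitive G Ω) {m : ℕ} (hm : Fintype.card Ω = 2 * m) (a₀ : Ω)
    (hrank : Nat.card (orbitRel.Quotient (stabilizer G a₀) Ω) = 3) (χ₁ χ₂ : G → ℂ)
    (h₁ : Cfsg.IsIrrCharacter G χ₁) (h₂ : Cfsg.IsIrrCharacter G χ₂)
    (hπ : pi G Ω = fun g => 1 + χ₁ g + χ₂ g) (hd₁ : χ₁ 1 = (m : ℂ) - 1) (hd₂ : χ₂ 1 = m)
    (b : Ω) (hb : b ≠ a₀) :
    ∃ a : ℕ, 0 < a ∧ (m : ℤ) = 2 * (a : ℤ) ^ 2 + 2 * a + 1 ∧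
      ((Nat.card (orbit (stabilizer G a₀) b) : ℤ) = a * (2 * a + 1) ∨
        (Nat.card (orbit (stabilizer G a₀) b) : ℤ) = (a + 1) * (2 * a + 1)) := by
  classical
  have : Nonempty Ω := ⟨a₀⟩
  have := Fintype.ofFinite (Cfsg.IrrCharacter G)
  obtain ⟨d', l, μ, hsum, hd2, hd2', hdiag, hrel⟩ := relation hprim hm a₀ hrank b hb
  set A : Matrix Ω Ω ℤ := orbMat G a₀ b with hA
  set d := Nat.card (orbit (stabilizer G a₀) b) with hdd
  -- the three constituents
  let one : Cfsg.IrrCharacter G := ⟨fun _ => 1, Char.isIrrCharacter_one⟩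
  let ψ₁ : Cfsg.IrrCharacter G := ⟨χ₁, h₁⟩
  let ψ₂ : Cfsg.IrrCharacter G := ⟨χ₂, h₂⟩
  have hpisum : ∀ χ : G → ℂ, Cfsg.IsIrrCharacter G χ → (mult G Ω χ : ℂ) =
      (if (fun _ => 1) = χ then 1 else 0) + (if χ₁ = χ then 1 else 0) + (if χ₂ = χ then 1 else 0) := by
    intro χ hχ
    rw [← classInner_pi (Char.IsIrrCharacter.isCharacter hχ), hπ,
      show (fun g => 1 + χ₁ g + χ₂ g) = ((fun _ => 1 : G → ℂ) + χ₁) + χ₂ from rfl,
      Char.classInner_add_left, Char.classInner_add_left,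
      Char.classInner_irr (χ := fun _ : G => (1 : ℂ)) Char.isIrrCharacter_one hχ, Char.classInner_irr h₁ hχ,
      Char.classInner_irr h₂ hχ]
  have h12 : χ₁ ≠ χ₂ := fun e => by
    rw [e, hd₂] at hd₁
    exact one_ne_zero (α := ℂ) (by linear_combination hd₁)
  have h01 : (fun _ => 1 : G → ℂ) ≠ χ₁ := fun e => by
    have h := hpisum (fun _ : G => (1 : ℂ)) Char.isIrrCharacter_one
    rw [mult_one, if_pos rfl, if_pos e.symm, if_neg (fun e' => h12 (e.symm.trans e'.symm))] at h
    norm_num at h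
  have h02 : (fun _ => 1 : G → ℂ) ≠ χ₂ := fun e => by
    have h := hpisum (fun _ : G => (1 : ℂ)) Char.isIrrCharacter_one
    rw [mult_one, if_pos rfl, if_pos e.symm, if_neg (fun e' => h12 (e'.trans e))] at h
    norm_num at h
  have hm₁ : mult G Ω χ₁ = 1 := by
    have h := hpisum _ h₁
    rw [if_neg h01, if_pos rfl, if_neg (Ne.symm h12)] at h
    norm_num at h
    exact h
  have hm₂ : mult G Ω χ₂ = 1 := by
    have h := hpisum _ h₂
    rw [if_neg h02, if_neg h12, if_pos rfl] at h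
    norm_num at h
    exact h
  have hmle : ∀ χ : Cfsg.IrrCharacter G, mult G Ω (χ : G → ℂ) ≤ 1 := fun χ =>
    multFree_of_rank_le_five a₀ (by rw [hrank]; norm_num) (χ : G → ℂ) χ.2
  have hsumE : idem (G := G) (Ω := Ω) (fun _ => 1) + idem χ₁ + idem χ₂ = 1 := by
    rw [← sum_idem (G := G) (Ω := Ω)]
    rw [← Finset.sum_subset (Finset.subset_univ ({one, ψ₁, ψ₂} : Finset (Cfsg.IrrCharacter G)))]
    · rw [Finset.sum_insert (by
          simp only [Finset.mem_insert, Finset.mem_singleton, not_or]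
          exact ⟨fun e => h01 (congrArg Subtype.val e), fun e => h02 (congrArg Subtype.val e)⟩),
        Finset.sum_pair (fun e => h12 (congrArg Subtype.val e)), add_assoc]
    · intro χ _ hχ
      simp only [Finset.mem_insert, Finset.mem_singleton, not_or] at hχ
      rw [idem_eq_zero_iff χ.2, classInner_pi (Char.IsIrrCharacter.isCharacter χ.2),
        hpisum _ χ.2, if_neg (fun e => hχ.1 (Subtype.ext e.symm)),
        if_neg (fun e => hχ.2.1 (Subtype.ext e.symm)), if_neg (fun e => hχ.2.2 (Subtype.ext e.symm))]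
      simp
  -- eigenvalues
  set T : Module.End ℂ (Ω → ℂ) := Matrix.toLin' (A.map (Int.cast : ℤ → ℂ)) with hT
  have hTmem : T ∈ cAlg G Ω := orbMat_mem a₀ b
  have heig : ∀ χ : Cfsg.IrrCharacter G, ∃ z : ℂ, T * idem (χ : G → ℂ) = z • idem (χ : G → ℂ) := by
    intro χ
    rw [← span_idem_eq hmle] at hTmem
    refine Submodule.span_induction ?_ ⟨0, by simp⟩ ?_ ?_ hTmem
    · rintro _ ⟨ψ, rfl⟩
      beta_reduce
      rw [idem_mul ψ.2 χ.2]
      split_ifs with h
      · exact ⟨1, by rw [one_smul, h]⟩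
      · exact ⟨0, by rw [zero_smul]⟩
    · rintro u v - - ⟨z, hz⟩ ⟨w, hw⟩
      exact ⟨z + w, by rw [add_mul, hz, hw, add_smul]⟩
    · rintro k u - ⟨z, hz⟩
      exact ⟨k * z, by rw [smul_mul_assoc, hz, smul_smul]⟩
  obtain ⟨z₀, hz₀⟩ := heig one
  obtain ⟨r, hr⟩ := heig ψ₁
  obtain ⟨s, hs⟩ := heig ψ₂
  change T * idem (fun _ => 1) = z₀ • idem (fun _ => 1) at hz₀
  change T * idem χ₁ = r • idem χ₁ at hr
  change T * idem χ₂ = s • idem χ₂ at hs
  have htr0 : LinearMap.trace ℂ (Ω → ℂ) (idem (G := G) (fun _ => 1)) = 1 := by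
    rw [trace_idem (χ := fun _ : G => (1 : ℂ)) Char.isIrrCharacter_one,
      classInner_pi (χ := fun _ : G => (1 : ℂ)) (Char.isCharacter_one (G := G))]
    change (1 : ℂ) * (mult G Ω (fun _ => 1) : ℂ) = 1
    rw [mult_one]; simp
  have htr1 : LinearMap.trace ℂ (Ω → ℂ) (idem (G := G) χ₁) = (m : ℂ) - 1 := by
    rw [trace_idem h₁, classInner_pi (Char.IsIrrCharacter.isCharacter h₁), hm₁, hd₁]; simp
  have htr2 : LinearMap.trace ℂ (Ω → ℂ) (idem (G := G) χ₂) = (m : ℂ) := by
    rw [trace_idem h₂, classInner_pi (Char.IsIrrCharacter.isCharacter h₂), hm₂, hd₂]; simp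
  have hz₀d : z₀ = (d : ℂ) := by
    have h : LinearMap.trace ℂ (Ω → ℂ) (T * idem (fun _ : G => (1 : ℂ))) = (d : ℂ) :=
      trace_mul_idem_one a₀ b
    rw [hz₀, map_smul, htr0, smul_eq_mul, mul_one] at h
    exact h
  subst hz₀d
  have e1 : (d : ℂ) + r * ((m : ℂ) - 1) + s * m = 0 := by
    have h := congrArg (fun X => LinearMap.trace ℂ (Ω → ℂ) (T * X)) hsumE
    simp only [mul_add, mul_one, hz₀, hr, hs, map_add, map_smul, htr0, htr1, htr2, smul_eq_mul] at h
    rw [h]
    exact trace_orbMat hb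
  have e2 : (d : ℂ) * d + r * r * ((m : ℂ) - 1) + s * s * m = 2 * m * d := by
    have h := congrArg (fun X => LinearMap.trace ℂ (Ω → ℂ) (T * T * X)) hsumE
    simp only [mul_add, mul_one, mul_assoc, hz₀, hr, hs, mul_smul_comm, smul_smul, map_add, map_smul,
      htr0, htr1, htr2, smul_eq_mul] at h
    have hTT : LinearMap.trace ℂ (Ω → ℂ) (T * T) = 2 * (m : ℂ) * d := by
      rw [hT, Module.End.mul_eq_comp, ← Matrix.toLin'_mul, Matrix.trace_toLin'_eq, Matrix.trace,
        ← Matrix.map_mul_intCast]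
      simp only [Matrix.diag, Matrix.map_apply, hdiag, Finset.sum_const, Finset.card_univ, hm,
        nsmul_eq_mul]
      push_cast
      ring
    rw [hTT] at h
    linear_combination h
  have hJ : ∀ χ : G → ℂ, Cfsg.IsIrrCharacter G χ → (fun _ => 1 : G → ℂ) ≠ χ →
      Matrix.toLin' ((Matrix.of fun _ _ : Ω => (1 : ℂ))) * idem (G := G) χ = 0 := by
    intro χ hχ hne
    have hJE : Matrix.toLin' ((Matrix.of fun _ _ : Ω => (1 : ℂ))) =
        (Fintype.card Ω : ℂ) • idem (G := G) (fun _ => 1) := by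
      apply LinearMap.toMatrix'.injective
      ext x y
      rw [LinearMap.toMatrix'_toLin', map_smul, Matrix.of_apply, Matrix.smul_apply]
      change (1 : ℂ) = _ • mat (idem (G := G) fun _ => 1) x y
      rw [idem, mat_groupSumOp]
      simp only [coef, map_one, mul_one]
      rw [← Finset.sum_filter, Finset.sum_const, nsmul_eq_mul, smul_eq_mul,
        ← card_smul_fibre y x (G := G), Nat.cast_mul]
      have hn0 : ((Finset.univ.filter fun g : G => g • y = x).card : ℂ) ≠ 0 := by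
        obtain ⟨g₀, hg₀⟩ := exists_smul_eq G y x
        exact Nat.cast_ne_zero.2 (Finset.card_ne_zero.mpr ⟨g₀, by simp [hg₀]⟩)
      have : (Fintype.card Ω : ℂ) ≠ 0 := Nat.cast_ne_zero.2 Fintype.card_ne_zero
      field_simp
    rw [hJE, smul_mul_assoc, idem_mul (χ := fun _ : G => (1 : ℂ)) Char.isIrrCharacter_one hχ, if_neg hne, smul_zero]
  have hroot : ∀ (χ : G → ℂ) (z : ℂ), Cfsg.IsIrrCharacter G χ → (fun _ => 1 : G → ℂ) ≠ χ →
      mult G Ω χ = 1 → T * idem χ = z • idem χ →
      z * z = (d : ℂ) + (l : ℂ) * z + (μ : ℂ) * (-1 - z) := by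
    intro χ z hχ hne hmχ hz
    have hTT := hrel
    have h := congrArg (fun X => X * idem (G := G) χ) hTT
    simp only [mul_assoc, add_mul, smul_mul_assoc, one_mul, hz, mul_smul_comm, smul_smul,
      hJ χ hχ hne, smul_zero, add_zero, ← add_smul] at h
    have he : idem (Ω := Ω) χ ≠ 0 := fun e => by
      rw [idem_eq_zero_iff hχ, classInner_pi (Char.IsIrrCharacter.isCharacter hχ), hmχ] at e
      simp at e
    have := smul_left_injective ℂ he h
    linear_combination this
  have hr' := hroot χ₁ r h₁ h01 hm₁ hr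
  have hs' := hroot χ₂ s h₂ h02 hm₂ hs
  have hne : r ≠ s := by
    rintro rfl
    have hm1 : ((2 * m - 1 : ℕ) : ℂ) ≠ 0 := Nat.cast_ne_zero.2 (by omega)
    have hval : -r = (d : ℂ) / ((2 * m - 1 : ℕ) : ℂ) := by
      rw [eq_div_iff hm1, Nat.cast_sub (by omega)]
      push_cast
      linear_combination -e1
    have hint : IsIntegral ℤ ((d : ℂ) / ((2 * m - 1 : ℕ) : ℂ)) := by
      rw [← hval]
      refine IsIntegral.neg ⟨Polynomial.X ^ 2 - Polynomial.C (l - μ) * Polynomial.X -
        Polynomial.C ((d : ℤ) - μ), by monicity!, ?_⟩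
      simp [← Polynomial.coe_eval₂RingHom]
      linear_combination hr'
    have := Nat.le_of_dvd (by omega) (Char.nat_dvd_of_isIntegral_div (by omega) hint)
    omega
  have ht : r + s = ((l - μ : ℤ) : ℂ) := by
    apply mul_left_cancel₀ (sub_ne_zero.mpr hne)
    push_cast
    linear_combination hr' - hs'
  have hr_int : r = (((d : ℤ) + m * (l - μ) : ℤ) : ℂ) := by
    push_cast at ht ⊢
    linear_combination -e1 + (m : ℂ) * ht
  have hs_int : s = (((l - μ) - ((d : ℤ) + m * (l - μ)) : ℤ) : ℂ) := by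
    rw [hr_int] at ht
    push_cast at ht ⊢
    linear_combination ht
  refine arith (r := (d : ℤ) + m * (l - μ)) (t := l - μ) (by omega) (by omega) (by omega) (by ring) ?_
  have e2' := e2
  rw [hr_int, hs_int] at e2'
  have : (((d : ℤ) * d + ((m : ℤ) - 1) * (((d : ℤ) + m * (l - μ)) * ((d : ℤ) + m * (l - μ))) +
      (m : ℤ) * (((l - μ) - ((d : ℤ) + m * (l - μ))) * ((l - μ) - ((d : ℤ) + m * (l - μ)))) : ℤ) : ℂ) =
      ((2 * (m : ℤ) * d : ℤ) : ℂ) := by
    push_cast at e2' ⊢
    linear_combination e2'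
  exact_mod_cast this

/-- Groups of Wielandt type: if a primitive group of degree `2m` has rank 3 and permutation character `1 + χ₁ + χ₂` with irreducible `χ₁, χ₂` of degrees `m - 1` and `m`, then `m = 2a² + 2a + 1` for some positive integer `a` and the two non-trivial subdegrees are `a(2a+1)` and `(a+1)(2a+1)`. -/
theorem result {G : Type*} [Group G] [Fintype G] {Ω : Type*} [Fintype Ω] [MulAction G Ω] (hprim : MulAction.IsPreprimitive G Ω) {m : ℕ} (hm : Fintype.card Ω = 2 * m) (a₀ : Ω) (hrank : Nat.card (MulAction.orbitRel.Quotient (MulAction.stabilizer G a₀) Ω) = 3) (χ₁ χ₂ : G → ℂ) (h₁ : Cfsg.IsIrrCharacter G χ₁) (h₂ : Cfsg.IsIrrCharacter G χ₂) (hπ : (fun g : G => (Nat.card (MulAction.fixedBy Ω g) : ℂ)) = fun g => 1 + χ₁ g + χ₂ g) (hd₁ : χ₁ 1 = (m : ℂ) - 1) (hd₂ : χ₂ 1 = m) : ∃ a : ℕ, 0 < a ∧ m = 2 * a ^ 2 + 2 * a + 1 ∧ ∀ b : Ω, b ≠ a₀ → Nat.card (MulAction.orbit (MulAction.stabilizer G a₀) b) = a * (2 * a + 1) ∨ Nat.card (MulAction.orbit (MulAction.stabilizer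 G a₀) b) = (a + 1) * (2 * a + 1) := by
  obtain ⟨b₀, hb₀⟩ : ∃ b, b ≠ a₀ :=
    Fintype.exists_ne_of_one_lt_card (by
      have : 0 < Fintype.card Ω := Fintype.card_pos_iff.mpr ⟨a₀⟩
      omega) a₀
  obtain ⟨a, ha, hma, -⟩ := main hprim hm a₀ hrank χ₁ χ₂ h₁ h₂ hπ hd₁ hd₂ b₀ hb₀
  refine ⟨a, ha, by exact_mod_cast hma, fun b hb => ?_⟩
  obtain ⟨a', ha', hma', h⟩ := main hprim hm a₀ hrank χ₁ χ₂ h₁ h₂ hπ hd₁ hd₂ b hb
  obtain rfl : a' = a := by nlinarith
  exact_mod_cast h

end Cfsg.Agent.S0719
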