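import Cfsg.Statements.S0915
import Cfsg.Agent.Lib.Blocks.NilOmega
import Cfsg.Agent.Lib.Cores.Basic
import Cfsg.Agent.Lib.Solvable.Fitting

set_option autoImplicit false
open Cfsg

namespace Cfsg.Agent.S0915

/-- Let G be a finite p-solvable group with trivial largest normal subgroup of order prime to p. Then any two irreducible characters of G lie in the same block relative to every maximal ideal M of the algebraic integers containing p: G has a single p-block. -/
theorem result {G : Type*} [Group G] [Finite G] (p : ℕ) [Fact p.Prime] (M : Ideal Cfsg.AlgInt) (hM : Cfsg.IsPModular p M) (hsolv : Cfsg.IsPSolvable p G) (hcore : Cfsg.pPrimeCore p G = ⊥) (χ ψ : Cfsg.IrrCharacter G) : Cfsg.SameBlock M (χ : G → ℂ) (ψ : G → ℂ) := by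
  intro g
  have hC := Solvable.centralizer_pCore_le (Solvable.isPiSeparable_of_isPSolvable hsolv) hcore
  by_cases hg : g ∈ Subgroup.centralizer (Cfsg.pCore p G : Set G)
  · exact Blocks.memI_sub_trans hM
      (Blocks.centralChar_congr_of_mem hM (Cores.isPGroup_pCore p G) (hC hg) χ)
      (Blocks.memI_sub_comm (Blocks.centralChar_congr_of_mem hM (Cores.isPGroup_pCore p G) (hC hg) ψ))
  · have h : ∀ x, IsConj g x → x ∉ Subgroup.centralizer (Cfsg.pCore p G : Set G) := by
      intro x hx hxC
      obtain ⟨n, rfl⟩ := isConj_iff.mp hx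
      exact hg ((Blocks.conj_mem_centralizer_iff (by simp [Subgroup.normalizer_eq_top]) g).mp hxC)
    exact Blocks.memI_sub hM
      (Blocks.memI_centralChar_of_forall_notMem hM (Cores.isPGroup_pCore p G) h χ)
      (Blocks.memI_centralChar_of_forall_notMem hM (Cores.isPGroup_pCore p G) h ψ)

end Cfsg.Agent.S0915
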