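import Cfsg.Statements.S0849
import Cfsg.Agent.EqLemmas

set_option autoImplicit false
open Cfsg

namespace Cfsg.Agent.S0849

theorem extendByZero_mem {G : Type*} [Group G] (H : Subgroup G) (φ : H → ℂ) (h : H) :
    Cfsg.extendByZero H φ (h : G) = φ h :=
  Subtype.val_injective.extend_apply _ _ h

theorem extendByZero_ne {G : Type*} [Group G] (H : Subgroup G) (φ : H → ℂ) (g : G)
    (hne : Cfsg.extendByZero H φ g ≠ 0) : ∃ h : H, (h : G) = g ∧ φ h ≠ 0 := by
  by_cases hg : g ∈ H
  · refine ⟨⟨g, hg⟩, rfl, ?_⟩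
    rwa [← extendByZero_mem H φ ⟨g, hg⟩]
  · refine absurd ?_ hne
    unfold Cfsg.extendByZero
    rw [Function.extend_apply']
    · rfl
    · rintro ⟨h, rfl⟩; exact hg h.2

theorem sq_eq_one {G : Type*} [Group G] {u a : G} (hu : orderOf u = 2) (ha : IsConj u a) : a * a = 1 := by
  obtain ⟨c, hc⟩ := isConj_iff.1 ha
  have h2 : u * u = 1 := by
    have := pow_orderOf_eq_one u
    rwa [hu, pow_two] at this
  rw [← hc, show c * u * c⁻¹ * (c * u * c⁻¹) = c * (u * u) * c⁻¹ by group, h2]
  group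


/-- Let H be a subgroup of a finite group G and S a subset of H that is mapped to itself under conjugation by H, is disjoint from its conjugate by any element outside H, and is closed under inverses. Let φ be a class function of H vanishing on H away from S, and let u, v be involutions of G. Then the sum of the induced function of φ over all products a * b with a conjugate to u and b conjugate to v equals the index of H times the sum of φ (a * b) over such pairs with a and b in H. -/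
theorem result {G : Type*} [Group G] [Fintype G] (H : Subgroup G) (S : Set G) (hSH : S ⊆ H) (hHS : ∀ h ∈ H, ∀ s ∈ S, h * s * h⁻¹ ∈ S) (hTI : ∀ g : G, g ∉ H → ∀ s ∈ S, g * s * g⁻¹ ∉ S) (hinv : ∀ s ∈ S, s⁻¹ ∈ S) (φ : H → ℂ) (hφ : Cfsg.IsClassFunction H φ) (hφS : ∀ x : H, (x : G) ∉ S → φ x = 0) (u v : G) (hu : orderOf u = 2) (hv : orderOf v = 2) : ∑ᶠ p ∈ {p : G × G | IsConj u p.1 ∧ IsConj v p.2}, Cfsg.indFun H φ (p.1 * p.2) = (H.index : ℂ) * ∑ᶠ p ∈ {p : H × H | IsConj u (p.1 : G) ∧ IsConj v (p.2 : G)}, φ (p.1 * p.2) := by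
  classical
  set f : G → ℂ := Cfsg.extendByZero H φ with hf
  let A : Finset (G × G) := Finset.univ.filter (fun p => IsConj u p.1 ∧ IsConj v p.2)
  let B : Finset (H × H) := Finset.univ.filter (fun p => IsConj u (p.1 : G) ∧ IsConj v (p.2 : G))
  rw [show {p : G × G | IsConj u p.1 ∧ IsConj v p.2} = (A : Set (G × G)) by simp [A],
    show {p : H × H | IsConj u (p.1 : G) ∧ IsConj v (p.2 : G)} = (B : Set (H × H)) by simp [B],
    finsum_mem_coe_finset, finsum_mem_coe_finset]
  unfold Cfsg.indFun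
  rw [← Finset.mul_sum, Finset.sum_comm]
  have hx : ∀ x : G, ∑ p ∈ A, f (x⁻¹ * (p.1 * p.2) * x) = ∑ p ∈ A, f (p.1 * p.2) := by
    intro x
    refine Finset.sum_nbij' (fun p => (x⁻¹ * p.1 * x, x⁻¹ * p.2 * x))
      (fun p => (x * p.1 * x⁻¹, x * p.2 * x⁻¹)) ?_ ?_ ?_ ?_ ?_
    · intro p hp
      simp only [A, Finset.mem_coe, Finset.mem_filter, Finset.mem_univ, true_and] at hp ⊢
      exact ⟨hp.1.trans (isConj_iff.2 ⟨x⁻¹, by simp⟩), hp.2.trans (isConj_iff.2 ⟨x⁻¹, by simp⟩)⟩
    · intro p hp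
      simp only [A, Finset.mem_coe, Finset.mem_filter, Finset.mem_univ, true_and] at hp ⊢
      exact ⟨hp.1.trans (isConj_iff.2 ⟨x, rfl⟩), hp.2.trans (isConj_iff.2 ⟨x, rfl⟩)⟩
    · intro p _; simp [mul_assoc]
    · intro p _; simp [mul_assoc]
    · intro p _
      exact congrArg f (by group)
  rw [Finset.sum_congr rfl (fun x _ => hx x), Finset.sum_const, Finset.card_univ, nsmul_eq_mul]
  have hAB : ∑ p ∈ A, f (p.1 * p.2) = ∑ p ∈ B, φ (p.1 * p.2) := by
    symm
    refine Finset.sum_bij_ne_zero (fun p _ _ => ((p.1 : G), (p.2 : G))) ?_ ?_ ?_ ?_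
    · intro p hp _
      simpa [A, B] using hp
    · intro p _ _ p' _ _ h
      simp only [Prod.mk.injEq] at h
      exact Prod.ext (Subtype.ext h.1) (Subtype.ext h.2)
    · intro p hp hne
      simp only [A, Finset.mem_filter, Finset.mem_univ, true_and] at hp
      obtain ⟨s, hs, hφs⟩ := extendByZero_ne H φ _ hne
      have hsS : p.1 * p.2 ∈ S := hs ▸ by_contra (fun h => hφs (hφS s h))
      have hp1 : p.1 ∈ H := by
        by_contra h
        refine hTI p.1 h _ hsS ?_
        have e1 := sq_eq_one hu hp.1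
        have e2 := sq_eq_one hv hp.2
        have : p.1 * (p.1 * p.2) * p.1⁻¹ = (p.1 * p.2)⁻¹ := by
          rw [← mul_assoc, e1, one_mul, mul_inv_rev, inv_eq_of_mul_eq_one_left e2,
            inv_eq_of_mul_eq_one_left e1]
        rw [this]; exact hinv _ hsS
      have hp2 : p.2 ∈ H := by
        have := H.mul_mem (H.inv_mem hp1) (hSH hsS)
        simpa using this
      refine ⟨(⟨p.1, hp1⟩, ⟨p.2, hp2⟩), by simp only [B, Finset.mem_filter, Finset.mem_univ, true_and]; exact hp, ?_, rfl⟩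
      rw [← extendByZero_mem H φ]
      exact hne
    · intro p _ _
      exact (extendByZero_mem H φ _).symm
  rw [hAB, ← mul_assoc]
  congr 1
  rw [← Nat.card_eq_fintype_card, ← H.index_mul_card, Nat.cast_mul, inv_mul_eq_div,
    mul_div_assoc, div_self (Nat.cast_ne_zero.2 Nat.card_pos.ne'), mul_one]

end Cfsg.Agent.S0849
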