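import Cfsg.Statements.S5233
import Cfsg.Agent.S5226
import Cfsg.Agent.Lib.GenExtraspecial.Decomp

set_option autoImplicit false
open Cfsg

namespace Cfsg.Agent.S5233

open Cfsg.FusionSystem Cfsg.Agent.Fusion Cfsg.Agent.FusionChain Cfsg.Agent.S5226
open scoped commutatorElement

/-- Two transvections with centres `z`, `z'` and crossed axes generate an element inverting `z` that commutes
with the first of them. -/
theorem exists_inverting {V : Type*} [CommGroup V] (T U : MulAut V) (a b : V →* V) (z z' : V)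
    (hT : ∀ x, T x = x * a x) (hU : ∀ x, U x = x * b x) (ha : ∀ x, ∃ m : ℤ, a x = z ^ m)
    (hb : ∀ x, ∃ n : ℤ, b x = z' ^ n) (haz : a z = 1) (haz' : a z' = z) (hbz : b z = z'⁻¹) (hbz' : b z' = 1) :
    ∃ w : MulAut V, w ∈ Subgroup.closure ({T, U} : Set (MulAut V)) ∧ w * T = T * w ∧ w z = z⁻¹ := by
  set w₀ := T * U * T with hw₀
  have hT' : T ∈ Subgroup.closure ({T, U} : Set (MulAut V)) := Subgroup.subset_closure (Or.inl rfl)
  have hU' : U ∈ Subgroup.closure ({T, U} : Set (MulAut V)) := Subgroup.subset_closure (Or.inr rfl)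
  have h0 : ∀ (x : V) (m n : ℤ), a x = z ^ m → b x = z' ^ n →
      w₀ x = x * z ^ (m + n) * z' ^ (n - m) := by
    intro x m n hm hn
    have h1 : T x = x * z ^ m := by rw [hT, hm]
    have h2 : U (T x) = x * z ^ m * z' ^ (n - m) := by
      rw [h1, hU, map_mul, map_zpow, hbz, hn, inv_zpow, zpow_sub]
    rw [hw₀, MulAut.mul_apply, MulAut.mul_apply, h2, hT, map_mul, map_mul, map_zpow, map_zpow, haz,
      haz', one_zpow, mul_one, hm, ← zpow_add, add_sub_cancel, zpow_add,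
      mul_right_comm x (z ^ m) (z' ^ (n - m))]
    simp only [mul_assoc, mul_comm, mul_left_comm]
  have h1 : ∀ (x : V) (m n : ℤ), a x = z ^ m → b x = z' ^ n →
      (w₀ * w₀) x = x * z ^ (2 * n) * z' ^ (-(2 * m)) := by
    intro x m n hm hn
    rw [MulAut.mul_apply, h0 x m n hm hn]
    rw [h0 (x * z ^ (m + n) * z' ^ (n - m)) n (-m)]
    · have e1 : z ^ (2 * n) = z ^ (m + n) * z ^ (n + -m) := by rw [← zpow_add]; congr 1; omega
      have e2 : z' ^ (-(2 * m)) = z' ^ (n - m) * z' ^ (-m - n) := by rw [← zpow_add]; congr 1; omega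
      rw [e1, e2]
      simp only [mul_assoc, mul_left_comm]
    · rw [map_mul, map_mul, map_zpow, map_zpow, haz, haz', one_zpow, mul_one, hm, ← zpow_add, add_sub_cancel]
    · rw [map_mul, map_mul, map_zpow, map_zpow, hbz, hbz', one_zpow, mul_one, hn, inv_zpow, ← zpow_neg,
        ← zpow_add]
      congr 1; omega
  refine ⟨w₀ * w₀, mul_mem (mul_mem (mul_mem hT' hU') hT') (mul_mem (mul_mem hT' hU') hT'),
    MulEquiv.ext fun x => ?_, ?_⟩
  · obtain ⟨m, hm⟩ := ha x
    obtain ⟨n, hn⟩ := hb x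
    show (w₀ * w₀) (T x) = T ((w₀ * w₀) x)
    rw [h1 x m n hm hn, hT x, hm,
      h1 (x * z ^ m) m (n - m), hT, map_mul, map_mul, map_zpow, map_zpow, haz, haz', one_zpow, mul_one, hm,
      ← zpow_add]
    · have e1 : z ^ m * z ^ (2 * (n - m)) = z ^ (2 * n) * z ^ (m + -(2 * m)) := by
        rw [← zpow_add, ← zpow_add]; congr 1; omega
      calc x * z ^ m * z ^ (2 * (n - m)) * z' ^ (-(2 * m))
          = x * (z ^ m * z ^ (2 * (n - m))) * z' ^ (-(2 * m)) := by simp only [mul_assoc]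
        _ = x * z ^ (2 * n) * z' ^ (-(2 * m)) * z ^ (m + -(2 * m)) := by
          rw [e1]; simp only [mul_assoc, mul_comm, mul_left_comm]
    · rw [map_mul, map_zpow, haz, one_zpow, mul_one, hm]
    · rw [map_mul, map_zpow, hbz, hn, inv_zpow, ← zpow_neg, ← zpow_add]
      rfl
  · rw [h1 z 0 (-1) (by rw [haz, zpow_zero]) (by rw [hbz, zpow_neg_one])]
    rw [show (-(2 * 0) : ℤ) = 0 from rfl, zpow_zero, mul_one]
    group

variable {Ω : Type*} [Group Ω] {S : Subgroup Ω} {F : Cfsg.FusionSystem S}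

theorem map_zpow' {P : Subgroup Ω} {f : Ω → Ω} (hf : IsMap F P f) {x : Ω} (hx : x ∈ P) (n : ℤ) :
    f (x ^ n) = f x ^ n := by
  obtain ⟨φ, -, e⟩ := hf
  rw [← e x hx, ← e _ (P.zpow_mem hx n), ← map_zpow]
  rfl

theorem map_pow' {P : Subgroup Ω} {f : Ω → Ω} (hf : IsMap F P f) {x : Ω} (hx : x ∈ P) (n : ℕ) :
    f (x ^ n) = f x ^ n := by
  rw [← zpow_natCast, map_zpow' hf hx, zpow_natCast]

/-- The derived subgroup of `P`, inside the ambient group. -/
def dz (P : Subgroup Ω) : Subgroup Ω := (commutator P).map P.subtype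

theorem dz_le (P : Subgroup Ω) : dz P ≤ P := Subgroup.map_subtype_le _

theorem comm_mem_dz {P : Subgroup Ω} {a b : Ω} (ha : a ∈ P) (hb : b ∈ P) : ⁅a, b⁆ ∈ dz P :=
  ⟨⁅(⟨a, ha⟩ : P), ⟨b, hb⟩⁆, Subgroup.commutator_mem_commutator (Subgroup.mem_top _) (Subgroup.mem_top _), rfl⟩

theorem pow_mem_dz {p : ℕ} [Fact p.Prime] {P : Subgroup Ω} [Finite P] (hP : IsPGroup p P)
    (hfr : frattini P = commutator P) {a : Ω} (ha : a ∈ P) : a ^ p ∈ dz P :=
  ⟨⟨a, ha⟩ ^ p, hfr ▸ Cfsg.Agent.PGroup.pow_mem_frattini hP _, rfl⟩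

theorem eq_zpowers {p : ℕ} [Fact p.Prime] {P : Subgroup Ω} [Finite P] (hc : Nat.card (commutator P) = p)
    {z : Ω} (hz : z ∈ dz P) (hz1 : z ≠ 1) : dz P = Subgroup.zpowers z := by
  have := finite_of_le (S := P) (dz_le P)
  have hcard : Nat.card (dz P) = p := by rw [dz, Subgroup.card_map_of_injective P.subtype_injective, hc]
  refine (Subgroup.eq_of_le_of_card_ge (Subgroup.zpowers_le.2 hz) ?_).symm
  rw [hcard, Nat.card_zpowers]
  have hdvd : orderOf (⟨z, hz⟩ : dz P) ∣ p := hcard ▸ orderOf_dvd_natCard _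
  rw [Subgroup.orderOf_mk] at hdvd
  rcases (Nat.dvd_prime Fact.out).1 hdvd with h | h
  · exact absurd (orderOf_eq_one_iff.1 h) hz1
  · exact h.ge

theorem central_dz {p : ℕ} [Fact p.Prime] {P : Subgroup Ω} [Finite P] (hP : IsPGroup p P)
    (hc : Nat.card (commutator P) = p) {z x : Ω} (hz : z ∈ dz P) (hx : x ∈ P) : x * z = z * x := by
  obtain ⟨u, hu, rfl⟩ := hz
  exact congrArg Subtype.val (Subgroup.mem_center_iff.1 (Cfsg.Agent.PGroup.le_center_of_card_eq hP hc hu) ⟨x, hx⟩)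

/-- Everything the proof needs about a conjugate of `z ∈ P'` outside `P'`. -/
theorem step [Finite S] {p : ℕ} [Fact p.Prime] (hS : IsPGroup p S) (hF : F.IsSaturated p) {P : Subgroup Ω}
    (hP : F.StronglyClosed P) (hfr : frattini P = commutator P) (hc : Nat.card (commutator P) = p) {z : Ω}
    (hz : z ∈ dz P) {f : Ω → Ω} (hf : IsMap F (dz P) f) (hfz : f z ∉ dz P) :
    f z ∈ P ∧ (∀ a ∈ P ⊓ Subgroup.centralizer ({f z} : Set Ω), ∀ b ∈ P ⊓ Subgroup.centralizer ({f z} : Set Ω),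
      a * b = b * a) ∧ (∀ a ∈ P ⊓ Subgroup.centralizer ({f z} : Set Ω), a ^ p = 1) ∧
    (∃ a ∈ P, a * f z ≠ f z * a) ∧
    ∃ ψ, IsMap F (P ⊓ Subgroup.centralizer ({f z} : Set Ω)) ψ ∧ ψ (f z) = z ∧ ψ z ∉ dz P := by
  have hPf : Finite P := finite_of_le hP.1
  have hPp : IsPGroup p P := hS.to_le hP.1
  set Z := dz P with hZ
  have hZP : Z ≤ P := dz_le P
  have hZS : Z ≤ S := hZP.trans hP.1
  have hz1 : z ≠ 1 := fun h => hfz (by rw [h, hf.map_one]; exact one_mem _)
  have hfzP : f z ∈ P := map_mem_of_stronglyClosed hP hf hz (hZP hz)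
  have hSN : ∀ {s : Ω}, s ∈ S → ∀ x ∈ Z, s * x * s⁻¹ ∈ Z := by
    intro s hs x hx
    have hm : IsMap F P (fun x => s * x * s⁻¹) := IsMap.conj hP.1 hs
    obtain ⟨u, hu, rfl⟩ := hx
    induction hu using Subgroup.closure_induction with
    | mem u hu =>
      obtain ⟨a, -, b, -, rfl⟩ := hu
      have h : s * ((⁅a, b⁆ : P) : Ω) * s⁻¹ = ⁅s * (a : Ω) * s⁻¹, s * (b : Ω) * s⁻¹⁆ := by
        simp only [commutatorElement_def, Subgroup.coe_mul, Subgroup.coe_inv]; group
      exact h ▸ comm_mem_dz (conj_mem_of_stronglyClosed hP hs a.2) (conj_mem_of_stronglyClosed hP hs b.2)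
    | one => simp
    | mul a b _ _ ha hb => simpa [mul_assoc] using Z.mul_mem ha hb
    | inv a _ ha => simpa [mul_assoc] using Z.inv_mem ha
  have hfn : F.IsFullyNormalized Z := by
    refine ⟨hZS, fun Q _ => ?_⟩
    have : normalizerIn S Z = S := le_antisymm inf_le_left fun s hs => by
      have := finite_of_le hZS
      exact mem_normalizerIn_of_conj hs (hSN hs)
    rw [this]
    exact Subgroup.card_le_of_le inf_le_left
  obtain ⟨g, hg, hgf, -⟩ := (hf.isIso).symm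
  obtain ⟨ψ, hψ, hψe⟩ := (isReceptive_iff.1 (receptive_of_fullyNormalized hS hF hfn)).2 _ g hg
  set C := P ⊓ Subgroup.centralizer ({f z} : Set Ω) with hCdef
  have hle : C ≤ Nx S (img f Z) g := by
    intro c hcc
    refine centralizerIn_le_Nx S _ g (mem_centralizerIn.2 ⟨hP.1 hcc.1, fun y hy => ?_⟩)
    obtain ⟨x, hx, rfl⟩ := hf.isIso.exists_eq hy
    have hx' := hx
    rw [hZ, eq_zpowers hc hz hz1] at hx'
    obtain ⟨n, rfl⟩ := Subgroup.mem_zpowers_iff.1 hx'
    rw [map_zpow' hf hz]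
    exact (Commute.zpow_right (Subgroup.mem_centralizer_singleton_iff.1 hcc.2) n).eq
  have hψC : IsMap F C ψ := hψ.mono hle
  have hfzC : f z ∈ C := ⟨hfzP, Subgroup.mem_centralizer_singleton_iff.2 rfl⟩
  have hψz : ψ (f z) = z := (hψe _ (hf.mem_img hz)).trans (hgf z hz)
  have hzC : z ∈ C := ⟨hZP hz, Subgroup.mem_centralizer_singleton_iff.2 (central_dz hPp hc hz hfzP).symm⟩
  have hnz : ∀ u ∈ C, u ∈ Z → u ≠ 1 → ψ u ∉ Z := by
    intro u huC huZ hu1 hu
    have hu1' : ψ u ≠ 1 := fun h => hu1 (hψC.inj huC C.one_mem (h.trans hψC.map_one.symm))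
    have hz' := hz
    rw [hZ, eq_zpowers hc hu hu1'] at hz'
    obtain ⟨n, hn⟩ := Subgroup.mem_zpowers_iff.1 hz'
    have : f z = u ^ n := hψC.inj hfzC (C.zpow_mem huC n) (by rw [hψz, map_zpow' hψC huC, hn])
    exact hfz (this ▸ Z.zpow_mem huZ n)
  have hψP : ∀ u ∈ C, ψ u ∈ P := fun u hu => map_mem_of_stronglyClosed hP hψC hu hu.1
  have hab : ∀ a ∈ C, ∀ b ∈ C, a * b = b * a := by
    intro a ha b hb
    rw [← commutatorElement_eq_one_iff_mul_comm]
    by_contra hne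
    refine hnz _ (C.mul_mem (C.mul_mem (C.mul_mem ha hb) (C.inv_mem ha)) (C.inv_mem hb))
      (comm_mem_dz ha.1 hb.1) hne ?_
    rw [hψC.map_mul (C.mul_mem (C.mul_mem ha hb) (C.inv_mem ha)) (C.inv_mem hb),
      hψC.map_conj ha hb, hψC.map_inv hb]
    exact comm_mem_dz (hψP a ha) (hψP b hb)
  refine ⟨hfzP, hab, fun a ha => ?_, ?_, ψ, hψC, hψz, hnz z hzC hz hz1⟩
  · by_contra hne
    refine hnz _ (C.pow_mem ha p) (pow_mem_dz hPp hfr ha.1) hne ?_
    rw [map_pow' hψC ha]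
    exact pow_mem_dz hPp hfr (hψP a ha)
  · by_contra hcon
    push Not at hcon
    have hbot : commutator P = ⊥ := eq_bot_iff.2 (Subgroup.commutator_le.2 fun a _ b _ => by
      rw [Subgroup.mem_bot, commutatorElement_eq_one_iff_mul_comm]
      exact Subtype.ext (hab a ⟨a.2, Subgroup.mem_centralizer_singleton_iff.2 (hcon a a.2)⟩
        b ⟨b.2, Subgroup.mem_centralizer_singleton_iff.2 (hcon b b.2)⟩))
    rw [hbot, Subgroup.card_bot] at hc
    exact (Fact.out : p.Prime).one_lt.ne hc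

/-- `P'` is weakly closed unless `P` is one of the exceptions. -/
theorem dz_invariant [Finite S] {p : ℕ} [Fact p.Prime] (hS : IsPGroup p S) (hF : F.IsSaturated p)
    {P : Subgroup Ω} (hP : F.StronglyClosed P) (hfr : frattini P = commutator P)
    (hc : Nat.card (commutator P) = p)
    (h2 : p = 2 → ¬ ∃ (A : Type) (_ : CommGroup A), (∀ a : A, a ^ 2 = 1) ∧ Nonempty (↥P ≃* DihedralGroup 4 × A))
    (hodd : p ≠ 2 → ¬ ∃ (E : Type) (_ : Group E) (A : Type) (_ : CommGroup A), Cfsg.IsExtraspecial p E ∧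
      Nat.card E = p ^ 3 ∧ Monoid.exponent E = p ∧ (∀ a : A, a ^ p = 1) ∧ Nonempty (↥P ≃* E × A))
    {f : Ω → Ω} (hf : IsMap F (dz P) f) {z : Ω} (hz : z ∈ dz P) : f z ∈ dz P := by
  by_contra hfz
  have hp : p.Prime := Fact.out
  have hPf : Finite P := finite_of_le hP.1
  have hPp : IsPGroup p P := hS.to_le hP.1
  obtain ⟨hz'P, hab, hexp, ⟨a₀, ha₀, hna₀⟩, ψ, hψ, hψz', hψz⟩ := step hS hF hP hfr hc hz hf hfz
  set z' := f z with hz'def
  set C := P ⊓ Subgroup.centralizer ({z'} : Set Ω) with hCdef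
  have hz1 : z ≠ 1 := fun h => hfz (by rw [hz'def, h, hf.map_one]; exact one_mem _)
  have hzP : z ∈ P := dz_le P hz
  have hz'C : z' ∈ C := ⟨hz'P, Subgroup.mem_centralizer_singleton_iff.2 rfl⟩
  have hZC : dz P ≤ C := fun u hu => ⟨dz_le P hu, Subgroup.mem_centralizer_singleton_iff.2
    (central_dz hPp hc hu hz'P).symm⟩
  -- inside `P`
  let c : P := ⟨z', hz'P⟩
  let Cp : Subgroup P := C.subgroupOf P
  have hcc : c ∉ Subgroup.center P := fun h => hna₀ (congrArg Subtype.val (Subgroup.mem_center_iff.1 h ⟨a₀, ha₀⟩))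
  have hcomm : ∀ u v w : P, Commute u ⁅v, w⁆ := fun u v w => Subgroup.mem_center_iff.1
    (Cfsg.Agent.PGroup.le_center_of_card_eq hPp hc
      (Subgroup.commutator_mem_commutator (Subgroup.mem_top _) (Subgroup.mem_top _))) u
  let φ : P →* commutator P := MonoidHom.mk'
    (fun u => ⟨⁅u, c⁆, Subgroup.commutator_mem_commutator (Subgroup.mem_top _) (Subgroup.mem_top _)⟩)
    fun u v => Subtype.ext ((Cfsg.Agent.PGroup.commutator_mul_left (hcomm u v c)).trans (hcomm ⁅v, c⁆ u c).eq)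
  have hker : φ.ker = Cp := by
    ext u
    rw [MonoidHom.mem_ker]
    refine ⟨fun h => ⟨u.2, Subgroup.mem_centralizer_singleton_iff.2 ?_⟩, fun h => Subtype.ext ?_⟩
    · have h' : ⁅u, c⁆ = 1 := congrArg Subtype.val h
      rw [commutatorElement_eq_one_iff_mul_comm] at h'
      exact congrArg Subtype.val h'
    · show ⁅u, c⁆ = 1
      rw [commutatorElement_eq_one_iff_mul_comm]
      exact Subtype.ext (Subgroup.mem_centralizer_singleton_iff.1 h.2)
  have hφ : Function.Surjective φ := by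
    rcases (Nat.dvd_prime hp).1 (hc ▸ Subgroup.card_subgroup_dvd_card φ.range) with h | h
    · exfalso
      refine hcc (Subgroup.mem_center_iff.2 fun u => ?_)
      have hu : φ u = 1 := Subgroup.mem_bot.1 ((Subgroup.card_eq_one.1 h).le ⟨u, rfl⟩)
      exact commutatorElement_eq_one_iff_mul_comm.1 (congrArg Subtype.val hu)
    · exact MonoidHom.range_eq_top.1 (Subgroup.eq_top_of_card_eq _ (h.trans hc.symm))
  have hCi : Cp.index = p := by
    rw [← hker, Subgroup.index_ker, MonoidHom.range_eq_top.2 hφ, Subgroup.card_top, hc]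
  have hcCp : c ∈ Cp := hz'C
  have hCab : ∀ u ∈ Cp, ∀ v ∈ Cp, u * v = v * u := fun u hu v hv => Subtype.ext (hab u hu v hv)
  have hZe : ∀ u ∈ Subgroup.center P, u ^ p = 1 := fun u hu => Subtype.ext (by
    rw [SubgroupClass.coe_pow]
    refine hexp u ⟨u.2, Subgroup.mem_centralizer_singleton_iff.2 ?_⟩
    exact (congrArg Subtype.val (Subgroup.mem_center_iff.1 hu c)).symm)
  obtain ⟨zc, hzc, hzcz⟩ := id hz
  obtain ⟨y, hy⟩ := hφ ⟨zc, hzc⟩
  have hyz : ⁅y, c⁆ = zc := congrArg Subtype.val hy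
  have hzcz' : (zc : Ω) = z := hzcz
  have hyne : ⁅y, c⁆ ≠ 1 := fun h => hz1 (by rw [← hzcz', ← hyz, h]; rfl)
  have hyC : y ∉ Cp := fun h => by
    rw [← hker, MonoidHom.mem_ker] at h
    exact hyne (congrArg Subtype.val h)
  have hc2 : c ^ p = 1 := Subtype.ext (by rw [SubgroupClass.coe_pow]; exact hexp z' hz'C)
  by_cases hp2 : p = 2
  · subst hp2
    refine h2 rfl ?_
    by_cases hy2 : y ^ 2 = 1
    · exact GenExtraspecial.exists_decomp_two hc hfr hPp hZe hCi hcCp hcc hCab rfl hy2 hc2 hyne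
    · refine GenExtraspecial.exists_decomp_two hc hfr hPp hZe hCi hcCp hcc hCab rfl (y := y * c) ?_ hc2 ?_
      · have hyZ : y ^ 2 ∈ commutator P := hfr ▸ Cfsg.Agent.PGroup.pow_mem_frattini hPp y
        have h3 : y ^ 2 = ⁅y, c⁆ := by
          have hcard := Nat.card_eq_two_iff' (1 : commutator P) |>.1 hc
          exact congrArg Subtype.val (hcard.unique (y₁ := ⟨y ^ 2, hyZ⟩) (y₂ := φ y)
            (fun h => hy2 (congrArg Subtype.val h)) (fun h => hyne (congrArg Subtype.val h)))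
        have hcinv : c⁻¹ = c := inv_eq_of_mul_eq_one_right (by rw [← pow_two]; exact hc2)
        have h5 : ⁅y, c⁆ * ⁅y, c⁆ = 1 := by
          rw [← pow_two]
          have h6 : ⁅y, c⁆ ∈ commutator P :=
            Subgroup.commutator_mem_commutator (Subgroup.mem_top _) (Subgroup.mem_top _)
          exact hZe _ (Cfsg.Agent.PGroup.le_center_of_card_eq hPp hc h6)
        calc (y * c) ^ 2 = y * (⁅y, c⁆⁻¹) * y := by
              rw [pow_two, commutatorElement_def]; simp only [mul_inv_rev, inv_inv, hcinv]; group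
          _ = ⁅y, c⁆⁻¹ * (y * y) := by rw [(hcomm y y c).inv_right.eq]; group
          _ = 1 := by rw [← pow_two y, h3, inv_mul_cancel]
      · rwa [Cfsg.Agent.PGroup.commutator_mul_left (hcomm y c c), commutatorElement_self, one_mul]
  -- `p` odd
  have hpc : ∀ u v : P, (u * v) ^ p = u ^ p * v ^ p := fun u v =>
    Cfsg.Agent.PGroup.mul_pow_prime_eq hp hp2 (hcomm u v u) (hcomm v v u) (by
      have h : ⁅v, u⁆ ∈ commutator P :=
        Subgroup.commutator_mem_commutator (Subgroup.mem_top _) (Subgroup.mem_top _)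
      exact hZe _ (Cfsg.Agent.PGroup.le_center_of_card_eq hPp hc h))
  let π : P →* P := MonoidHom.mk' (fun u => u ^ p) hpc
  have hπC : Cp ≤ π.ker := fun u hu => Subtype.ext (by
    show ((u ^ p : P) : Ω) = 1
    rw [SubgroupClass.coe_pow]; exact hexp u hu)
  have hmax : ∀ H : Subgroup P, Cp ≤ H → H = Cp ∨ H = ⊤ := by
    intro H hH
    have h := Subgroup.relIndex_mul_index hH
    rw [hCi] at h
    rcases (Nat.dvd_prime hp).1 (Dvd.intro_left _ h) with h' | h'
    · exact Or.inr (Subgroup.index_eq_one.1 h')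
    · rw [h', Nat.mul_eq_right hp.ne_zero] at h
      exact Or.inl (le_antisymm (Subgroup.relIndex_eq_one.1 h) hH)
  rcases hmax π.ker hπC with hπ | hπ
  swap
  · refine hodd hp2 (GenExtraspecial.exists_decomp_odd hc hfr hPp hZe hCi hcCp hcc hCab fun u => ?_)
    exact MonoidHom.mem_ker.1 (hπ ▸ Subgroup.mem_top u)
  have hchar : ∀ u ∈ P, u ^ p = 1 → u ∈ C := fun u hu h => by
    have h' : (⟨u, hu⟩ : P) ∈ π.ker := Subtype.ext h
    rw [hπ] at h'
    exact h'
  have hCS : C ≤ S := inf_le_left.trans hP.1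
  have hmapC : ∀ {f : Ω → Ω}, IsMap F C f → ∀ u ∈ C, f u ∈ C := fun {f} hf u hu =>
    hchar _ (map_mem_of_stronglyClosed hP hf hu hu.1) (by rw [← map_pow' hf hu, hexp u hu, hf.map_one])
  have hfinC := finite_of_le hCS
  have hCN : normalizerIn S C = S := le_antisymm inf_le_left fun s hs =>
    mem_normalizerIn_of_conj hs (hmapC (IsMap.conj hCS hs))
  have hCfn : F.IsFullyNormalized C := ⟨hCS, fun Q _ => by rw [hCN]; exact Subgroup.card_le_of_le inf_le_left⟩
  obtain ⟨g, hg, hge⟩ := exists_aut_of_isIso (⟨hψ, eq_of_le_of_card hCS (hψ.img_le le_rfl (hmapC hψ))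
    (hψ.card_img le_rfl).ge⟩ : IsIso F C C ψ)
  let V : CommGroup C := { (inferInstance : Group C) with mul_comm := fun u v => Subtype.ext (hab u u.2 v v.2) }
  have hyS : (y : Ω) ∈ normalizerIn S C := hCN.symm ▸ hP.1 y.2
  let T : MulAut C := normConj S C ⟨y, hyS⟩
  have hT : T ∈ F.autGroup C := autInducedBy_le_autGroup F le_rfl hCS (range_normConj S C ▸ ⟨_, rfl⟩)
  let a : C →* C := MonoidHom.mk' (fun u => u⁻¹ * T u) (fun u v => by
    rw [map_mul, mul_inv_rev]
    exact @mul_mul_mul_comm C V.toCommSemigroup v⁻¹ u⁻¹ (T u) (T v) ▸ (by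
      simp only [mul_assoc, mul_comm, mul_left_comm]))
  have haZ : ∀ u : C, ((a u : C) : Ω) ∈ dz P := fun u => by
    show (u : Ω)⁻¹ * (y * u * (y : Ω)⁻¹) ∈ dz P
    have := comm_mem_dz (inv_mem (show (u : Ω) ∈ P from u.2.1)) y.2
    rwa [commutatorElement_def, inv_inv, mul_assoc (u : Ω)⁻¹, mul_assoc (u : Ω)⁻¹] at this
  let zC : C := ⟨z, hZC hz⟩
  let zC' : C := ⟨z', hz'C⟩
  have hm : ∀ u : C, (u : Ω) ∈ dz P → ∃ m : ℤ, u = zC ^ m := fun u hu => by
    rw [eq_zpowers hc hz hz1] at hu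
    obtain ⟨n, hn⟩ := Subgroup.mem_zpowers_iff.1 hu
    exact ⟨n, Subtype.ext (hn.symm.trans (SubgroupClass.coe_zpow zC n).symm)⟩
  have hTdef : ∀ u, T u = u * a u := fun u => (mul_inv_cancel_left u (T u)).symm
  have haz : a zC = 1 := Subtype.ext (by
    show z⁻¹ * (y * z * (y : Ω)⁻¹) = 1
    rw [central_dz hPp hc hz y.2]; group)
  have haz' : a zC' = zC := Subtype.ext (by
    show z'⁻¹ * (y * z' * (y : Ω)⁻¹) = z
    have h1 : ((⁅y, c⁆ : P) : Ω) = z := (congrArg Subtype.val hyz).trans hzcz'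
    have h2 : (y : Ω) * z' * (y : Ω)⁻¹ * z'⁻¹ = z := h1
    calc z'⁻¹ * (y * z' * (y : Ω)⁻¹) = z'⁻¹ * ((y : Ω) * z' * (y : Ω)⁻¹ * z'⁻¹ * z') := by group
      _ = z'⁻¹ * (z' * z) := by rw [h2, central_dz hPp hc hz hz'P]
      _ = z := by group)
  have hgz' : g zC' = zC := Subtype.ext ((hge zC').trans hψz')
  -- `g z` does not commute with `y`
  have hagz : a (g zC) ≠ 1 := by
    intro h
    obtain ⟨-, -, -, ⟨v, hv, hvne⟩, -⟩ := step hS hF hP hfr hc hz (hψ.mono hZC) hψz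
    have hgzP : ψ z ∈ C := hmapC hψ z (hZC hz)
    have hTg : (y : Ω) * ψ z * (y : Ω)⁻¹ = ψ z := by
      have h' : ((g zC : C) : Ω)⁻¹ * (y * (g zC : C) * (y : Ω)⁻¹) = 1 := congrArg Subtype.val h
      rw [hge, inv_mul_eq_one] at h'
      exact h'.symm
    let d : P := ⟨ψ z, hgzP.1⟩
    have hle : Cp ⊔ Subgroup.zpowers y ≤ Subgroup.centralizer ({d} : Set P) :=
      sup_le (fun u hu => Subgroup.mem_centralizer_singleton_iff.2 (hCab u hu d hgzP))
        (Subgroup.zpowers_le.2 (Subgroup.mem_centralizer_singleton_iff.2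
          (Subtype.ext (mul_inv_eq_iff_eq_mul.1 hTg))))
    rcases hmax (Cp ⊔ Subgroup.zpowers y) le_sup_left with h' | h'
    · exact hyC (h' ▸ Subgroup.mem_sup_right (Subgroup.mem_zpowers y))
    · exact hvne (congrArg Subtype.val
        (Subgroup.mem_centralizer_singleton_iff.1 (hle (h'.symm ▸ Subgroup.mem_top (⟨v, hv⟩ : P)))))
  obtain ⟨i, hi⟩ := hm _ (haZ (g zC))
  have hzCp : zC ^ p = 1 := Subtype.ext (by rw [SubgroupClass.coe_pow]; exact hexp z (hZC hz))
  obtain ⟨k, hk⟩ : ∃ k : ℕ, a (g zC) ^ k = zC⁻¹ := by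
    have hmem : z⁻¹ ∈ Subgroup.zpowers ((a (g zC) : C) : Ω) := by
      rw [← eq_zpowers hc (haZ _) (fun h => hagz (Subtype.ext h))]
      exact inv_mem hz
    obtain ⟨k, hk⟩ := (IsOfFinOrder.mem_powers_iff_mem_zpowers (by
      rw [isOfFinOrder_iff_pow_eq_one]
      exact ⟨p, hp.pos, by rw [← SubgroupClass.coe_pow, hi, ← zpow_natCast, ← zpow_mul, mul_comm, zpow_mul,
        zpow_natCast, hzCp, one_zpow]; rfl⟩)).2 hmem
    exact ⟨k, Subtype.ext ((SubgroupClass.coe_pow _ _).trans hk)⟩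
  let b : C →* C := MonoidHom.mk' (fun u => g⁻¹ ((a (g u)) ^ k)) (fun u v => by
    rw [map_mul, map_mul, mul_pow, map_mul])
  let U : MulAut C := g⁻¹ * T ^ k * g
  have hTk : ∀ (n : ℕ) (u : C), (T ^ n) u = u * a u ^ n := by
    intro n
    induction n with
    | zero => intro u; simp
    | succ n ih =>
      intro u
      rw [pow_succ', MulAut.mul_apply, ih, hTdef, map_mul, map_pow]
      obtain ⟨m, hm'⟩ := hm _ (haZ u)
      rw [show a (a u) = 1 by rw [hm', map_zpow, haz, one_zpow], one_pow, mul_one, mul_assoc, pow_succ]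
  have hUdef : ∀ u, U u = u * b u := fun u => by
    show g⁻¹ ((T ^ k) (g u)) = u * g⁻¹ (a (g u) ^ k)
    rw [hTk, map_mul, MulAut.inv_apply_self]
  have hgi : g⁻¹ zC = zC' := by rw [← hgz', MulAut.inv_apply_self]
  obtain ⟨w, hw, hwT, hwz⟩ := exists_inverting T U a b zC zC' hTdef hUdef (fun u => hm _ (haZ u))
    (fun u => by
      obtain ⟨m, hm'⟩ := hm _ (haZ (g u))
      refine ⟨m * k, ?_⟩
      show g⁻¹ (a (g u) ^ k) = _
      rw [hm', ← zpow_natCast, ← zpow_mul, map_zpow, hgi])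
    haz haz' (by show g⁻¹ (a (g zC) ^ k) = _; rw [hk, map_inv, hgi])
    (by show g⁻¹ (a (g zC') ^ k) = _; rw [hgz', haz, one_pow, map_one])
  have hwA : w ∈ F.autGroup C := by
    refine (Subgroup.closure_le _).2 ?_ hw
    rintro _ (rfl | rfl)
    · exact hT
    · exact mul_mem (mul_mem (inv_mem hg) (pow_mem hT k)) hg
  have hM : Subgroup.zpowers (y : Ω) ≤ normalizerIn S C := Subgroup.zpowers_le.2 hyS
  obtain ⟨β, hβ, hβC⟩ := exists_extension (receptive_of_fullyNormalized hS hF hCfn) hwA hM (fun v hv => by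
    obtain ⟨n, rfl⟩ := Subgroup.mem_zpowers_iff.1 hv
    have e : (⟨(y : Ω) ^ n, hM hv⟩ : normalizerIn S C) = ⟨y, hyS⟩ ^ n :=
      Subtype.ext (SubgroupClass.coe_zpow (⟨y, hyS⟩ : normalizerIn S C) n).symm
    rw [e, map_zpow]
    have hcm : Commute w (T ^ n) := (show Commute w T from hwT).zpow_right n
    rw [show w * T ^ n * w⁻¹ = T ^ n by rw [hcm.eq, mul_inv_cancel_right]]
    exact zpow_mem (range_normConj S C ▸ ⟨_, rfl⟩) n)
  have hyM : (y : Ω) ∈ C ⊔ Subgroup.zpowers (y : Ω) := Subgroup.mem_sup_right (Subgroup.mem_zpowers _)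
  have hβP : β y ∈ P := map_mem_of_stronglyClosed hP hβ hyM y.2
  have hcent : (y : Ω)⁻¹ * β y ∈ C := by
    refine ⟨P.mul_mem (P.inv_mem y.2) hβP, Subgroup.mem_centralizer_singleton_iff.2 ?_⟩
    obtain ⟨u, hu⟩ := w.surjective zC'
    have h1 : β ((y : Ω) * u * (y : Ω)⁻¹) = β y * z' * (β y)⁻¹ := by
      rw [hβ.map_conj hyM (Subgroup.mem_sup_left u.2), hβC u u.2, autFn_apply w u.2, Subtype.coe_eta, hu]
    have h3 : β ((y : Ω) * u * (y : Ω)⁻¹) = (y : Ω) * z' * (y : Ω)⁻¹ := by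
      have hTu : (y : Ω) * u * (y : Ω)⁻¹ = ((T u : C) : Ω) := rfl
      rw [hTu, hβC _ (T u).2, autFn_apply w (T u).2, Subtype.coe_eta, ← MulAut.mul_apply, hwT,
        MulAut.mul_apply, hu]
      rfl
    have h4 := h1.symm.trans h3
    calc (y : Ω)⁻¹ * β y * z' = (y : Ω)⁻¹ * (β y * z' * (β y)⁻¹) * β y := by group
      _ = (y : Ω)⁻¹ * ((y : Ω) * z' * (y : Ω)⁻¹) * β y := by rw [h4]
      _ = z' * ((y : Ω)⁻¹ * β y) := by group
  have hypow : (β y) ^ p = (y : Ω) ^ p := by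
    have h := congrArg Subtype.val (hpc y ⟨(y : Ω)⁻¹ * β y, hcent.1⟩)
    simp only [SubgroupClass.coe_pow, Subgroup.coe_mul, mul_inv_cancel_left] at h
    rw [h, hexp _ hcent, mul_one]
  obtain ⟨n, hn⟩ := hm ⟨(y : Ω) ^ p, hZC (pow_mem_dz hPp hfr y.2)⟩ (pow_mem_dz hPp hfr y.2)
  have hn' : (y : Ω) ^ p = z ^ n := (congrArg Subtype.val hn).trans (SubgroupClass.coe_zpow zC n)
  have hβz : β z = z⁻¹ := by
    rw [hβC z (hZC hz), autFn_apply w (hZC hz)]
    exact congrArg Subtype.val hwz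
  have h6 : z ^ n = (z ^ n)⁻¹ := by
    have := map_pow' hβ hyM p
    rw [hypow, hn', map_zpow' hβ (Subgroup.mem_sup_left (hZC hz)), hβz, inv_zpow] at this
    exact this.symm
  have h7 : (z ^ n) ^ 2 = 1 := by
    rw [pow_two]
    exact mul_eq_one_iff_eq_inv.2 h6
  have h8 : (z ^ n) ^ p = 1 := by
    rw [← zpow_natCast, ← zpow_mul, mul_comm, zpow_mul, zpow_natCast]
    simp only [show z ^ p = 1 from hexp z (hZC hz), one_zpow]
  have h9 : (z ^ n) ^ Nat.gcd 2 p = 1 := pow_gcd_eq_one.2 ⟨h7, h8⟩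
  rw [(Nat.coprime_primes Nat.prime_two hp).2 (Ne.symm hp2), pow_one] at h9
  refine hyC ?_
  rw [← hπ]
  exact Subtype.ext (hn'.trans h9)

/-- Let F be a saturated fusion system over a finite p-group S and P a subgroup of S strongly closed in F that is generalized extraspecial (its Frattini subgroup equals its commutator subgroup and has order p) and not isomorphic to E × A with A elementary abelian and E dihedral of order 8 (p = 2) or extraspecial of order p³ and exponent p (p odd). Then P is normal in F. -/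
theorem result {Ω : Type*} [Group Ω] {S : Subgroup Ω} [Finite S] (p : ℕ) [Fact p.Prime] (hS : IsPGroup p S) (F : Cfsg.FusionSystem S) (hF : F.IsSaturated p) (P : Subgroup Ω) (hP : F.StronglyClosed P) (hge : frattini ↥P = commutator ↥P ∧ Nat.card ↥(commutator ↥P) = p) (h2 : p = 2 → ¬ ∃ (A : Type) (_ : CommGroup A), (∀ a : A, a ^ 2 = 1) ∧ Nonempty (↥P ≃* DihedralGroup 4 × A)) (hodd : p ≠ 2 → ¬ ∃ (E : Type) (_ : Group E) (A : Type) (_ : CommGroup A), Cfsg.IsExtraspecial p E ∧ Nat.card E = p ^ 3 ∧ Monoid.exponent E = p ∧ (∀ a : A, a ^ p = 1) ∧ Nonempty (↥P ≃* E × A)) : F.IsNormal P := by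
  have hPf : Finite P := finite_of_le hP.1
  refine to_normal hS hF hP 2 ![⊥, dz P, P] rfl rfl ?_ ?_ ?_
  · refine Fin.monotone_iff_le_succ.2 fun i => ?_
    fin_cases i
    · exact bot_le
    · exact dz_le P
  · intro i
    fin_cases i
    · refine Subgroup.commutator_le.2 fun a ha b hb => ?_
      show ⁅a, b⁆ ∈ (⊥ : Subgroup Ω)
      rw [Subgroup.mem_bot, commutatorElement_eq_one_iff_mul_comm]
      exact (central_dz (hS.to_le hP.1) hge.2 ha hb).symm
    · exact Subgroup.commutator_le.2 fun a ha b hb => comm_mem_dz ha hb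
  · intro i
    fin_cases i
    · refine ⟨bot_le, fun φ hφ => ?_⟩
      show φ.range = (⊥ : Subgroup Ω)
      rw [eq_bot_iff]
      rintro _ ⟨⟨x, hx⟩, rfl⟩
      have hx1 : x = 1 := Subgroup.mem_bot.1 hx
      subst hx1
      exact Subgroup.mem_bot.2 (map_one φ)
    · refine ⟨(dz_le P).trans hP.1, fun φ hφ => ?_⟩
      show φ.range = dz P
      have hm := isMap_toFn hφ
      rw [← toFn_img φ]
      exact eq_of_le_of_card ((dz_le P).trans hP.1)
        (hm.img_le le_rfl fun z hz => dz_invariant hS hF hP hge.1 hge.2 h2 hodd hm hz) (hm.card_img le_rfl).ge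

end Cfsg.Agent.S5233
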