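import Cfsg.Statements.S5178
import Cfsg.Agent.S5233
import Cfsg.Agent.Lib.FusionChain.Alperin
-- import your own Cfsg.Agent.* helpers here

set_option autoImplicit false
universe u
open Cfsg


namespace Cfsg.Agent.S5178

open Cfsg.FusionSystem Cfsg.Agent.Fusion Cfsg.Agent.FusionChain
open scoped commutatorElement Pointwise

/-- Two automorphisms moving everything into `⟨z⟩`, `⟨z'⟩` generate a `p`-group, if the first fixes
both `z` and `z'` and the second fixes `z'`. -/
theorem isPGroup_closure_pair {R : Type*} [Group R] [Finite R] {p : ℕ} [Fact p.Prime]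
    (hR : IsPGroup p R) (hab : ∀ x y : R, x * y = y * x) (T U : MulAut R) (z z' : R)
    (hT : ∀ x, x⁻¹ * T x ∈ Subgroup.zpowers z) (hU : ∀ x, x⁻¹ * U x ∈ Subgroup.zpowers z')
    (hTz : T z = z) (hTz' : T z' = z') (hUz' : U z' = z') :
    IsPGroup p (Subgroup.closure ({T, U} : Set (MulAut R))) := by
  set W₁ := Subgroup.zpowers z'
  set W₂ := Subgroup.zpowers z ⊔ Subgroup.zpowers z'
  let K : Subgroup (MulAut R) :=
    { carrier := {α | (∀ x ∈ W₁, α x = x) ∧ (∀ x ∈ W₂, x⁻¹ * α x ∈ W₁) ∧ ∀ x, x⁻¹ * α x ∈ W₂}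
      one_mem' := ⟨fun _ _ => rfl, fun x _ => by simp, fun x => by simp⟩
      mul_mem' := by
        rintro α β ⟨a1, a2, a3⟩ ⟨b1, b2, b3⟩
        refine ⟨fun x hx => by rw [MulAut.mul_apply, b1 x hx, a1 x hx], fun x hx => ?_, fun x => ?_⟩
        · have h1 := b2 x hx
          have h2 := a1 _ h1
          rw [map_mul, map_inv] at h2
          rw [MulAut.mul_apply]
          have h3 : x⁻¹ * α (β x) = x⁻¹ * α x * (x⁻¹ * β x) := by
            rw [← h2]; group
          rw [h3]
          exact mul_mem (a2 x hx) h1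
        · have h1 := b3 x
          have h2 : α (x⁻¹ * β x) ∈ W₂ := by
            have := mul_mem h1 (le_sup_right (a := Subgroup.zpowers z) (a2 _ h1) : _ ∈ W₂)
            rwa [mul_inv_cancel_left] at this
          rw [map_mul, map_inv] at h2
          have := mul_mem (a3 x) h2
          rw [MulAut.mul_apply]
          rwa [mul_assoc, mul_inv_cancel_left] at this
      inv_mem' := by
        rintro α ⟨a1, a2, a3⟩
        have hW : ∀ x ∈ W₂, α x ∈ W₂ := fun x hx => by
          have := mul_mem hx (le_sup_right (a := Subgroup.zpowers z) (a2 x hx) : _ ∈ W₂)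
          rwa [mul_inv_cancel_left] at this
        have hWs : ∀ x ∈ W₂, α⁻¹ x ∈ W₂ := fun x hx => by
          have e := Subgroup.eq_of_le_of_card_ge (H := W₂.map α.toMonoidHom) (K := W₂)
            (by rintro _ ⟨y, hy, rfl⟩; exact hW y hy) (by rw [Subgroup.card_map_of_injective α.injective])
          obtain ⟨y, hy, rfl⟩ := e.ge hx
          show α⁻¹ (α y) ∈ W₂
          rwa [MulAut.inv_apply_self]
        refine ⟨fun x hx => by conv_lhs => rw [← a1 x hx, MulAut.inv_apply_self], fun x hx => ?_, fun x => ?_⟩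
        · have := inv_mem (a2 _ (hWs x hx))
          rwa [MulAut.apply_inv_self, mul_inv_rev, inv_inv] at this
        · have := inv_mem (a3 (α⁻¹ x))
          rwa [MulAut.apply_inv_self, mul_inv_rev, inv_inv] at this }
  have hfix : ∀ (α : MulAut R) (y x : R), α y = y → x ∈ Subgroup.zpowers y → α x = x := by
    rintro α y x hy ⟨i, rfl⟩
    show α (y ^ i) = y ^ i
    rw [map_zpow, hy]
  have hTK : T ∈ K := by
    refine ⟨fun x hx => hfix T z' x hTz' hx, fun x hx => ?_, fun x => Subgroup.mem_sup_left (hT x)⟩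
    have : T x = x := by
      refine (show W₂ ≤ T.toMonoidHom.eqLocus (MonoidHom.id R) from sup_le ?_ ?_) hx
      · exact Subgroup.zpowers_le.2 hTz
      · exact Subgroup.zpowers_le.2 hTz'
    rw [this, inv_mul_cancel]
    exact one_mem _
  have hUK : U ∈ K :=
    ⟨fun x hx => hfix U z' x hUz' hx, fun x _ => hU x, fun x => Subgroup.mem_sup_right (hU x)⟩
  refine IsPGroup.to_le ?_ ((Subgroup.closure_le K).2 (by rintro _ (rfl | rfl) <;> assumption))
  refine isPGroup_of_stabilizes_chain hR K 3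
    (fun i => match i with | 0 => ⊥ | 1 => W₁ | 2 => W₂ | _ => ⊤) rfl rfl ?_
  rintro α ⟨a1, a2, a3⟩ i hi x hx
  rcases i with _ | _ | _ | i
  · show x⁻¹ * α x ∈ (⊥ : Subgroup R)
    rw [a1 x hx, inv_mul_cancel]
    exact one_mem _
  · exact a2 x hx
  · exact a3 x
  · omega

variable {Ω : Type*} [Group Ω] {S : Subgroup Ω} [Finite S] {F : FusionSystem S} {p : ℕ} [Fact p.Prime]

omit [Finite S] [Fact p.Prime] in
theorem isFullyNormalized_self [Finite S] : F.IsFullyNormalized S := by
  refine ⟨le_rfl, fun Q _ => ?_⟩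
  have : normalizerIn S S = S := le_antisymm inf_le_left (le_inf le_rfl Subgroup.le_normalizer)
  rw [this]
  exact Subgroup.card_le_of_le inf_le_left

/-- An automorphism of `S` in a saturated system fixing a subgroup of the centre modulo a `p`-power fixes it. -/
theorem fixes_of_pow_fixes (hS : IsPGroup p S) (hF : F.IsSaturated p) {γ : MulAut S}
    (hγ : γ ∈ F.autGroup S) {x : S} (hx : x ∈ Subgroup.center S) (h : (γ ^ p) x = x) : γ x = x := by
  have hp : p.Prime := Fact.out
  have := finite_mulAut (S := S) (le_refl S)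
  have hsyl := (isFullyAutomized_iff.1 (fullyAutomized_of_fullyNormalized hS hF
    (isFullyNormalized_self (F := F)))).2
  obtain ⟨k, m, hm, hn⟩ := Nat.exists_eq_pow_mul_and_not_dvd (orderOf_pos γ).ne' p hp.ne_one
  have hpel : (γ ^ m) ^ p ^ k = 1 := by rw [← pow_mul, mul_comm, ← hn, pow_orderOf_eq_one]
  have hH : IsPGroup p (Subgroup.zpowers (γ ^ m)) := by
    rintro ⟨y, hy⟩
    obtain ⟨n, rfl⟩ := Subgroup.mem_zpowers_iff.1 hy
    refine ⟨k, Subtype.ext ?_⟩
    show ((γ ^ m) ^ n) ^ p ^ k = 1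
    rw [← zpow_natCast, ← zpow_mul, mul_comm, zpow_mul, zpow_natCast, hpel, one_zpow]
  obtain ⟨a, -, hconj⟩ := hsyl.exists_conj_le hH (Subgroup.zpowers_le.2 (pow_mem hγ m))
  obtain ⟨g, hg, hgc⟩ := mem_autInducedBy_iff.1 (hconj _ (Subgroup.mem_zpowers _))
  have h1 : (a * γ ^ m * a⁻¹) (a x) = a x := by
    refine Subtype.ext ?_
    rw [hgc]
    have hax : a x ∈ Subgroup.center S := by
      refine Subgroup.mem_center_iff.2 fun y => ?_
      obtain ⟨y, rfl⟩ := a.surjective y
      rw [← map_mul, ← map_mul, Subgroup.mem_center_iff.1 hx y]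
    have := congrArg Subtype.val (Subgroup.mem_center_iff.1 hax ⟨g, hg⟩)
    exact mul_inv_eq_iff_eq_mul.2 this
  rw [MulAut.mul_apply, MulAut.mul_apply, MulAut.inv_apply_self] at h1
  have h2 : (γ ^ m) x = x := a.injective h1
  have hst : ∀ n : ℕ, (γ ^ n) x = x ↔ γ ^ n ∈ MulAction.stabilizer (MulAut S) x := fun n => Iff.rfl
  have hco : Nat.Coprime p m := (hp.coprime_iff_not_dvd).2 hm
  have hb : γ = (γ ^ p) ^ (Nat.gcdA p m) * (γ ^ m) ^ (Nat.gcdB p m) := by
    rw [← zpow_natCast γ p, ← zpow_natCast γ m, ← zpow_mul, ← zpow_mul, ← zpow_add, ← Nat.gcd_eq_gcd_ab,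
      hco, Nat.cast_one, zpow_one]
  show γ ∈ MulAction.stabilizer (MulAut S) x
  rw [hb]
  exact mul_mem (zpow_mem ((hst p).1 h) _) (zpow_mem ((hst m).1 h2) _)

/-- An automorphism inverting `z` and fixing `a`. -/
def Tor (F : FusionSystem S) (z a : S) : Prop :=
  ∃ β ∈ F.autGroup S, β z = z⁻¹ ∧ β a = a ∧ a ∈ Subgroup.center S ∧ a ∉ Subgroup.zpowers z

variable {z : S}

theorem center_eq (hS : IsPGroup p S) (hz : z ∈ Subgroup.center S) (hzp : z ^ p = 1) (hz1 : z ≠ 1)
    (hc : Nat.card (Subgroup.center S) = p ^ 2) {a : S} (ha : a ∈ Subgroup.center S)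
    (haz : a ∉ Subgroup.zpowers z) {x : S} (hx : x ∈ Subgroup.center S) :
    ∃ i j : ℤ, x = z ^ i * a ^ j := by
  set Zc := Subgroup.center S
  haveI : (Subgroup.zpowers z).Normal := PGroup.zpowers_normal_of_mem_center hz
  have hle : Subgroup.zpowers z ⊔ Subgroup.zpowers a ≤ Zc :=
    sup_le (Subgroup.zpowers_le.2 hz) (Subgroup.zpowers_le.2 ha)
  have heq : Subgroup.zpowers z ⊔ Subgroup.zpowers a = Zc := by
    refine Subgroup.eq_of_le_of_card_ge hle ?_
    rw [hc, pow_two]
    refine le_trans ?_ (PGroup.mul_card_le_of_lt (p := p)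
      hS
      (lt_of_le_of_ne le_sup_left fun e => haz (e ▸ Subgroup.mem_sup_right (Subgroup.mem_zpowers a))))
    rw [Nat.card_zpowers, orderOf_eq_prime hzp hz1]
  rw [← heq] at hx
  obtain ⟨u, hu, v, hv, rfl⟩ := Subgroup.mem_sup_of_normal_left.1 hx
  obtain ⟨i, rfl⟩ := Subgroup.mem_zpowers_iff.1 hu
  obtain ⟨j, rfl⟩ := Subgroup.mem_zpowers_iff.1 hv
  exact ⟨i, j, rfl⟩

/-- The fixed lines of two such automorphisms coincide. -/
theorem tor_unique (hS : IsPGroup p S) (hF : F.IsSaturated p) (hp2 : p ≠ 2)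
    (hz : z ∈ Subgroup.center S) (hzp : z ^ p = 1) (hz1 : z ≠ 1)
    (hc : Nat.card (Subgroup.center S) = p ^ 2) (hexp : ∀ x : S, x ^ p = 1) {a a' : S}
    (h : Tor F z a) (h' : Tor F z a') : a ∈ Subgroup.zpowers a' := by
  have hp : p.Prime := Fact.out
  obtain ⟨β, hβ, hβz, hβa, hac, haz⟩ := h
  obtain ⟨β', hβ', hβ'z, hβ'a, ha'c, ha'z⟩ := h'
  obtain ⟨i, j, hij⟩ := center_eq hS hz hzp hz1 hc ha'c ha'z hac
  have h1 : β' a = z ^ (-(2 * i)) * a := by
    rw [hij, map_mul, map_zpow, map_zpow, hβ'z, hβ'a, inv_zpow', ← mul_assoc, ← zpow_add]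
    congr 2; ring
  set γ := β * β' * β⁻¹ * β'⁻¹ with hγdef
  have hγ : γ ∈ F.autGroup S := mul_mem (mul_mem (mul_mem hβ hβ') (inv_mem hβ)) (inv_mem hβ')
  have hiz : ∀ α : MulAut S, α z = z⁻¹ → α⁻¹ z = z⁻¹ := fun α hα => α.injective (by
    rw [MulAut.apply_inv_self, map_inv, hα, inv_inv])
  have hγz : γ z = z := by
    rw [hγdef, MulAut.mul_apply, MulAut.mul_apply, MulAut.mul_apply, hiz β' hβ'z, map_inv, hiz β hβz,
      inv_inv, hβ'z, map_inv, hβz, inv_inv]
  have hia : β⁻¹ a = a := by conv_lhs => rw [← hβa, MulAut.inv_apply_self]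
  set u := β' a
  have hu : γ u = β u := by
    rw [hγdef, MulAut.mul_apply, MulAut.mul_apply, MulAut.mul_apply, MulAut.inv_apply_self, hia]
  have hu' : β u = z ^ (2 * i) * a := by
    rw [h1, map_mul, map_zpow, hβz, hβa, inv_zpow', neg_neg]
  have hstep : ∀ n : ℕ, (γ ^ n) u = (z ^ (4 * i)) ^ n * u := by
    intro n
    induction n with
    | zero => simp
    | succ n ih =>
      rw [pow_succ' γ, MulAut.mul_apply, ih, map_mul, map_pow, map_zpow, hγz, hu, hu', h1, pow_succ,
        mul_assoc ((z ^ (4 * i)) ^ n) (z ^ (4 * i)), ← mul_assoc (z ^ (4 * i)), ← zpow_add]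
      congr 3; ring
  have huc : u ∈ Subgroup.center S := by
    rw [h1]; exact mul_mem (zpow_mem hz _) hac
  have hfix := fixes_of_pow_fixes hS hF hγ huc (by rw [hstep, hexp, one_mul])
  rw [hu, hu', h1] at hfix
  have h4 : z ^ (4 * i) = 1 := by
    have := mul_right_cancel hfix
    rw [show (4 : ℤ) * i = 2 * i - -(2 * i) by ring, zpow_sub, this, mul_inv_cancel]
  rw [← orderOf_dvd_iff_zpow_eq_one, orderOf_eq_prime hzp hz1] at h4
  have hdi : (p : ℤ) ∣ i := by
    rcases (Nat.prime_iff_prime_int.1 hp).dvd_or_dvd h4 with h | h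
    · exfalso
      have h' : p ∣ 4 := by exact_mod_cast h
      exact hp2 ((Nat.prime_dvd_prime_iff_eq hp Nat.prime_two).1 (hp.dvd_of_dvd_pow (n := 2) (by simpa using h')))
    · exact h
  obtain ⟨d, rfl⟩ := hdi
  rw [hij, zpow_mul, zpow_natCast, hzp, one_zpow, one_mul]
  exact zpow_mem (Subgroup.mem_zpowers a') j

/-- A radical subgroup different from `S` carries such an automorphism, and its automorphisms
preserve the fixed line. -/
theorem exists_tor (hS : IsPGroup p S) (hF : F.IsSaturated p) (hp2 : p ≠ 2)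
    (hz : z ∈ Subgroup.center S) (hz1 : z ≠ 1) (hc : Nat.card (Subgroup.center S) = p ^ 2)
    (hcard : Nat.card S = p ^ 4) (hexp : ∀ x : S, x ^ p = 1)
    (hcomm : ∀ x y : S, ⁅x, y⁆ ∈ Subgroup.zpowers z) {R : Subgroup Ω} (hfn : F.IsFullyNormalized R)
    (hRc : F.IsCentric R) (hr : F.IsRadical p R) (hne : R ≠ S) :
    ∃ a : S, Tor F z a ∧ (a : Ω) ∈ R ∧
      ∀ α ∈ F.autGroup R, autFn α (a : Ω) ∈ Subgroup.zpowers (a : Ω) := by
  have hp : p.Prime := Fact.out
  have hRS : R ≤ S := hRc.1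
  haveI := finite_of_le hRS
  have hRp : IsPGroup p R := hS.to_le hRS
  have hzp : z ^ p = 1 := hexp z
  have hcen : ∀ x : S, x ∈ Subgroup.center S → (x : Ω) ∈ R := fun x hx =>
    hRc.2 R (isConj_refl F hRS) (mem_centralizerIn.2 ⟨x.2, fun y hy =>
      (congrArg Subtype.val (Subgroup.mem_center_iff.1 hx ⟨y, hRS hy⟩) :).symm⟩)
  have hsl : (Subgroup.center S) ≤ R.subgroupOf S := fun x hx => Subgroup.mem_subgroupOf.2 (hcen x hx)
  have hR3 : Nat.card R = p ^ 3 := by
    have hlt : R.subgroupOf S < ⊤ := lt_top_iff_ne_top.2 fun e =>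
      hne (le_antisymm hRS (Subgroup.subgroupOf_eq_top.1 e))
    have hgt : Subgroup.center S < R.subgroupOf S := by
      refine lt_of_le_of_ne hsl fun e => hne (le_antisymm hRS fun y hy => ?_)
      refine hRc.2 R (isConj_refl F hRS) (mem_centralizerIn.2 ⟨hy, fun w hw => ?_⟩)
      have hw' : (⟨w, hRS hw⟩ : S) ∈ Subgroup.center S := e.symm ▸ Subgroup.mem_subgroupOf.2 hw
      exact (congrArg Subtype.val (Subgroup.mem_center_iff.1 hw' ⟨y, hy⟩) :)
    have h1 := PGroup.mul_card_le_of_lt hS hlt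
    have h2 := PGroup.mul_card_le_of_lt hS hgt
    rw [Subgroup.card_top, hcard, Nat.card_congr (Subgroup.subgroupOfEquivOfLe hRS).toEquiv] at h1
    rw [hc, Nat.card_congr (Subgroup.subgroupOfEquivOfLe hRS).toEquiv, ← pow_succ'] at h2
    refine le_antisymm (Nat.le_of_mul_le_mul_left ?_ hp.pos) h2
    rwa [← pow_succ']
  -- the centre inside `R`
  let ι : R →* S := Subgroup.inclusion hRS
  have hιi : Function.Injective ι := Subgroup.inclusion_injective hRS
  set Zc := (Subgroup.center S).comap ι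
  have hZc : Nat.card Zc = p ^ 2 := by
    rw [← Subgroup.card_map_of_injective hιi, Subgroup.map_comap_eq, inf_eq_right.2, hc]
    rintro x hx
    exact ⟨⟨x, hcen x hx⟩, rfl⟩
  let zR : R := ⟨z, hcen z hz⟩
  have hzR : ι zR = z := rfl
  have hzRc : zR ∈ Zc := hz
  have hab : ∀ x y : R, x * y = y * x := by
    obtain ⟨w, hw⟩ : ∃ w : R, w ∉ Zc := by
      by_contra h
      push Not at h
      have := Subgroup.card_top (G := R)
      rw [← (Subgroup.eq_top_iff' Zc).2 h, hZc, hR3] at this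
      exact absurd (Nat.pow_right_injective hp.two_le this) (by norm_num)
    have hlt : Zc < Zc ⊔ Subgroup.zpowers w :=
      lt_of_le_of_ne le_sup_left fun e => hw (e ▸ Subgroup.mem_sup_right (Subgroup.mem_zpowers w))
    have htop : Zc ⊔ Subgroup.zpowers w = ⊤ := Subgroup.eq_top_of_le_card _ (by
      have := PGroup.mul_card_le_of_lt hRp hlt
      rwa [hZc, ← pow_succ', show 2 + 1 = 3 from rfl, ← hR3] at this)
    have hZ : ∀ v ∈ Zc, ∀ y : R, y * v = v * y := fun v hv y =>
      hιi (by rw [map_mul, map_mul]; exact Subgroup.mem_center_iff.1 hv (ι y))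
    have hle : ∀ x : R, x * w = w * x := fun x => Subgroup.mem_centralizer_singleton_iff.1
      ((sup_le (fun v hv => Subgroup.mem_centralizer_singleton_iff.2 (hZ v hv w).symm)
        (Subgroup.zpowers_le.2 (Subgroup.mem_centralizer_singleton_iff.2 rfl)) :
        Zc ⊔ Subgroup.zpowers w ≤ Subgroup.centralizer {w}) (htop ▸ Subgroup.mem_top x))
    intro x y
    exact Subgroup.mem_centralizer_singleton_iff.1
      ((sup_le (fun v hv => Subgroup.mem_centralizer_singleton_iff.2 (hZ v hv y).symm)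
        (Subgroup.zpowers_le.2 (Subgroup.mem_centralizer_singleton_iff.2 (hle y).symm)) :
        Zc ⊔ Subgroup.zpowers w ≤ Subgroup.centralizer {y}) (htop ▸ Subgroup.mem_top x))
  letI : CommGroup R := { (inferInstance : Group R) with mul_comm := hab }
  -- an element outside `R`
  obtain ⟨s, hs, hsR⟩ := SetLike.exists_of_lt (lt_of_le_of_ne hRS hne)
  have hN : normalizerIn S R = S := by
    refine eq_of_le_of_card le_rfl inf_le_left ?_
    have h1 := lt_normalizerIn hS le_rfl (lt_of_le_of_ne hRS hne)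
    have hfin := finite_of_le (S := S) (P := normalizerIn S R) inf_le_left
    have h2 : R.subgroupOf S < (normalizerIn S R).subgroupOf S := by
      have hNS : normalizerIn S R ≤ S := inf_le_left
      rw [← Subgroup.map_lt_map_iff_of_injective S.subtype_injective,
        Subgroup.map_subgroupOf_eq_of_le hRS, Subgroup.map_subgroupOf_eq_of_le hNS]
      exact h1
    have h3 := PGroup.mul_card_le_of_lt hS h2
    rw [Nat.card_congr (Subgroup.subgroupOfEquivOfLe hRS).toEquiv, hR3, ← pow_succ',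
      show 3 + 1 = 4 from rfl, ← hcard] at h3
    exact h3.trans (Nat.card_congr (Subgroup.subgroupOfEquivOfLe (inf_le_left : normalizerIn S R ≤ S)).toEquiv).le
  let T : MulAut R := normConj S R ⟨s, hN.symm ▸ hs⟩
  have hTS : T ∈ autInducedBy S R := range_normConj S R ▸ ⟨_, rfl⟩
  have hTA : T ∈ F.autGroup R := autInducedBy_le_autGroup F le_rfl hRS hTS
  -- the commutator with `s`
  let c : R →* R := MonoidHom.mk' (fun x => x⁻¹ * T x) fun x y => by
    rw [map_mul, mul_inv, mul_mul_mul_comm]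
  have hTc : ∀ x, T x = x * c x := fun x => (mul_inv_cancel_left x (T x)).symm
  have hιT : ∀ x : R, ι (T x) = ⟨s, hs⟩ * ι x * (⟨s, hs⟩ : S)⁻¹ := fun x => rfl
  have hcmem : ∀ x, c x ∈ Subgroup.zpowers zR := by
    intro x
    obtain ⟨i, hi⟩ := Subgroup.mem_zpowers_iff.1 (hcomm (ι x)⁻¹ ⟨s, hs⟩)
    refine Subgroup.mem_zpowers_iff.2 ⟨i, hιi ?_⟩
    rw [map_zpow, hzR, hi]
    show _ = ι (x⁻¹ * T x)
    rw [map_mul, map_inv, hιT, commutatorElement_def, inv_inv]
    simp only [mul_assoc]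
  have hfix : ∀ x : R, c x = 1 ↔ x ∈ Zc := by
    intro x
    constructor
    · intro hx
      have hTx : T x = x := by rw [hTc, hx, mul_one]
      have hsx : (⟨s, hs⟩ : S) * ι x = ι x * ⟨s, hs⟩ := by
        have := (hιT x).symm.trans (congrArg ι hTx)
        exact mul_inv_eq_iff_eq_mul.1 this
      refine Subgroup.mem_center_iff.2 fun g => ?_
      have hlt : R.subgroupOf S < R.subgroupOf S ⊔ Subgroup.zpowers ⟨s, hs⟩ :=
        lt_of_le_of_ne le_sup_left fun e => hsR (Subgroup.mem_subgroupOf.1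
          (e ▸ Subgroup.mem_sup_right (Subgroup.mem_zpowers (⟨s, hs⟩ : S))))
      have htop : R.subgroupOf S ⊔ Subgroup.zpowers ⟨s, hs⟩ = ⊤ := Subgroup.eq_top_of_le_card _ (by
        have := PGroup.mul_card_le_of_lt hS hlt
        rwa [Nat.card_congr (Subgroup.subgroupOfEquivOfLe hRS).toEquiv, hR3, ← pow_succ',
          show 3 + 1 = 4 from rfl, ← hcard] at this)
      exact Subgroup.mem_centralizer_singleton_iff.1 ((sup_le (fun v hv => by
          rw [Subgroup.mem_centralizer_singleton_iff]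
          exact congrArg ι (hab ⟨v, hv⟩ x))
        (Subgroup.zpowers_le.2 (Subgroup.mem_centralizer_singleton_iff.2 hsx)) :
        R.subgroupOf S ⊔ Subgroup.zpowers ⟨s, hs⟩ ≤ Subgroup.centralizer {ι x}) (htop ▸ Subgroup.mem_top g))
    · intro hx
      refine hιi ?_
      show ι (x⁻¹ * T x) = ι 1
      rw [map_mul, map_inv, hιT, Subgroup.mem_center_iff.1 hx ⟨s, hs⟩, mul_inv_cancel_right,
        inv_mul_cancel, map_one]
  have hcz : c zR = 1 := (hfix zR).2 hzRc
  have hT1 : T ≠ 1 := by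
    intro h
    have h2 : (⊤ : Subgroup R) ≤ Zc := fun x _ => (hfix x).1 (by
      show x⁻¹ * T x = 1; rw [h, MulAut.one_apply, inv_mul_cancel])
    have h3 := Subgroup.card_le_of_le h2
    rw [Subgroup.card_top, hR3, hZc, Nat.pow_le_pow_iff_right hp.one_lt] at h3
    omega
  have hsyl := (isFullyAutomized_iff.1 (fullyAutomized_of_fullyNormalized hS hF hfn)).2
  have hcore : ∀ k ∈ pCoreAut F p R, k = 1 := by
    intro k hk
    rw [(isRadical_iff.1 hr).2] at hk
    obtain ⟨x, rfl⟩ := hk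
    exact MulEquiv.ext fun y => by
      show x * y * x⁻¹ = y
      rw [hab x y, mul_inv_cancel_right]
  obtain ⟨g, hg, hgT⟩ : ∃ g ∈ F.autGroup R, g * T * g⁻¹ ∉ autInducedBy S R := by
    by_contra h
    push Not at h
    refine hT1 (hcore T (le_pCoreAut (K := Subgroup.closure {k | ∃ g ∈ F.autGroup R, k = g * T * g⁻¹})
      (hsyl.isPGroup.to_le ((Subgroup.closure_le _).2 ?_)) ?_ ?_
      (Subgroup.subset_closure ⟨1, one_mem _, by group⟩)))
    · rintro _ ⟨g, hg, rfl⟩; exact h g hg
    · rw [Subgroup.closure_le]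
      rintro _ ⟨g, hg, rfl⟩
      exact mul_mem (mul_mem hg hTA) (inv_mem hg)
    · intro α hα k hk
      induction hk using Subgroup.closure_induction with
      | mem k hk =>
        obtain ⟨g, hg, rfl⟩ := hk
        exact Subgroup.subset_closure ⟨α * g, mul_mem hα hg, by group⟩
      | one => simp
      | mul u v _ _ hu hv =>
        have := mul_mem hu hv
        simpa [mul_assoc] using this
      | inv u _ hu =>
        have := inv_mem hu
        simpa [mul_assoc] using this
  -- from a conjugate outside the Sylow group to an automorphism of `S`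
  have key : ∀ g ∈ F.autGroup R, g * T * g⁻¹ ∉ autInducedBy S R →
      (∃ a : R, a ∈ Zc ∧ a ≠ 1 ∧ (g * T * g⁻¹) a = a ∧ Tor F z (ι a)) ∧ (g * T * g⁻¹) zR ≠ zR := by
    intro g hg hgT
    set U₀ := g * T * g⁻¹
    set z' := g zR
    have hU₀A : U₀ ∈ F.autGroup R := mul_mem (mul_mem hg hTA) (inv_mem hg)
    let d : R →* R := MonoidHom.mk' (fun x => x⁻¹ * U₀ x) fun x y => by
      rw [map_mul, mul_inv, mul_mul_mul_comm]
    have hd : ∀ x, d x = g (c (g⁻¹ x)) := fun x => by
      show x⁻¹ * U₀ x = g ((g⁻¹ x)⁻¹ * T (g⁻¹ x))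
      rw [map_mul, map_inv g, MulAut.apply_inv_self]
      rfl
    have hdmem : ∀ x, d x ∈ Subgroup.zpowers z' := fun x => by
      obtain ⟨i, hi⟩ := Subgroup.mem_zpowers_iff.1 (hcmem (g⁻¹ x))
      exact Subgroup.mem_zpowers_iff.2 ⟨i, by rw [hd, ← hi, map_zpow]⟩
    have hTz : T zR = zR := by rw [hTc, hcz, mul_one]
    have hUz' : U₀ z' = z' := by
      show g (T (g⁻¹ (g zR))) = g zR
      rw [MulAut.inv_apply_self, hTz]
    have hUd : ∀ x, U₀ x = x * d x := fun x => (mul_inv_cancel_left x (U₀ x)).symm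
    have hnot : ∀ K : Subgroup (MulAut R), IsPGroup p K → K ≤ F.autGroup R → T ∈ K → U₀ ∈ K → False := by
      intro K hK hKA hTK hUK
      have hle : autInducedBy S R ≤ K := by
        intro k hk
        obtain ⟨u, hu⟩ := (range_normConj S R).symm ▸ hk
        obtain ⟨w, hw, v, hv, e⟩ : (⟨(u : Ω), u.2.1⟩ : S) ∈ (R.subgroupOf S : Set S) *
            ((Subgroup.zpowers (⟨s, hs⟩ : S) : Subgroup S) : Set S) := by
          haveI : (R.subgroupOf S).Normal := Subgroup.normal_subgroupOf_iff_le_normalizer hRS |>.2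
            (fun y hy => (hN.symm ▸ hy : y ∈ normalizerIn S R).2)
          rw [← Subgroup.normal_mul]
          have hlt : R.subgroupOf S < R.subgroupOf S ⊔ Subgroup.zpowers ⟨s, hs⟩ :=
            lt_of_le_of_ne le_sup_left fun e => hsR (Subgroup.mem_subgroupOf.1
              (e ▸ Subgroup.mem_sup_right (Subgroup.mem_zpowers (⟨s, hs⟩ : S))))
          have htop : R.subgroupOf S ⊔ Subgroup.zpowers ⟨s, hs⟩ = ⊤ := Subgroup.eq_top_of_le_card _ (by
            have := PGroup.mul_card_le_of_lt hS hlt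
            rwa [Nat.card_congr (Subgroup.subgroupOfEquivOfLe hRS).toEquiv, hR3, ← pow_succ',
              show 3 + 1 = 4 from rfl, ← hcard] at this)
          exact htop.symm ▸ Subgroup.mem_top _
        obtain ⟨i, rfl⟩ := Subgroup.mem_zpowers_iff.1 hv
        have hwR : (w : Ω) ∈ R := hw
        have hk' : k = T ^ i := by
          rw [← hu]
          show _ = (normConj S R ⟨s, hN.symm ▸ hs⟩) ^ i
          have he : u = ⟨(w : Ω), hN.symm ▸ w.2⟩ * ⟨s, hN.symm ▸ hs⟩ ^ i := Subtype.ext (by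
            rw [Subgroup.coe_mul, SubgroupClass.coe_zpow]
            exact (congrArg Subtype.val e).symm.trans (by simp))
          rw [he, map_mul, map_zpow]
          have h1 : normConj S R ⟨(w : Ω), hN.symm ▸ w.2⟩ = 1 := MulEquiv.ext fun x => Subtype.ext (by
            rw [normConj_apply, MulAut.one_apply]
            exact mul_inv_eq_iff_eq_mul.2 (congrArg Subtype.val (hab ⟨w, hwR⟩ x) :))
          rw [h1, one_mul]
        exact hk' ▸ zpow_mem hTK i
      exact hgT (hsyl.2.2 K hle hKA hK ▸ hUK)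
    have hclA : Subgroup.closure ({T, U₀} : Set (MulAut R)) ≤ F.autGroup R :=
      (Subgroup.closure_le _).2 (by rintro _ (rfl | rfl) <;> assumption)
    have hcz' : c z' ≠ 1 := fun h => hnot _ (isPGroup_closure_pair hRp hab T U₀ zR z' hcmem hdmem hTz
      (by rw [hTc, h, mul_one]) hUz') hclA (Subgroup.subset_closure (Or.inl rfl)) (Subgroup.subset_closure (Or.inr rfl))
    have hdz : d zR ≠ 1 := fun h => by
      have hset : ({U₀, T} : Set (MulAut R)) = {T, U₀} := Set.pair_comm _ _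
      refine hnot _ (isPGroup_closure_pair hRp hab U₀ T z' zR hdmem hcmem hUz' ?_ hTz)
        (hset ▸ hclA) (Subgroup.subset_closure (Or.inr rfl)) (Subgroup.subset_closure (Or.inl rfl))
      rw [hUd, h, mul_one]
    refine ⟨?_, fun h => hdz (by show zR⁻¹ * U₀ zR = 1; rw [h, inv_mul_cancel])⟩
    have horder : ∀ y : R, y ≠ 1 → orderOf y = p := fun y hy => orderOf_eq_prime
      (hιi (by rw [map_pow, hexp, map_one])) hy
    have hzR1 : zR ≠ 1 := fun h => hz1 (by rw [← hzR, h, map_one])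
    have hz'1 : z' ≠ 1 := fun h => hzR1 (g.injective (h.trans (map_one g).symm))
    -- normalise
    set zz := c z'
    have hgen : ∀ u v : R, u ≠ 1 → u ∈ Subgroup.zpowers v → Subgroup.zpowers u = Subgroup.zpowers v := by
      intro u v hu huv
      refine Subgroup.eq_of_le_of_card_ge (Subgroup.zpowers_le.2 huv) ?_
      rw [Nat.card_zpowers, Nat.card_zpowers, horder u hu]
      rcases eq_or_ne v 1 with rfl | hv
      · rw [orderOf_one]; exact hp.one_lt.le
      · rw [horder v hv]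
    have hzz : Subgroup.zpowers zz = Subgroup.zpowers zR := hgen zz zR hcz' (hcmem z')
    have hdzz : d zz ≠ 1 := fun h => hdz (by
      obtain ⟨i, hi⟩ := Subgroup.mem_zpowers_iff.1 (hzz.symm ▸ Subgroup.mem_zpowers zR)
      rw [← hi, map_zpow, h, one_zpow])
    obtain ⟨k, hk⟩ : ∃ k : ℕ, d zz ^ k = z'⁻¹ := by
      have h := hgen (d zz) z' hdzz (hdmem zz)
      have h2 : z'⁻¹ ∈ Subgroup.zpowers (d zz) := h.symm ▸ inv_mem (Subgroup.mem_zpowers z')
      exact (mem_powers_iff_mem_zpowers).2 h2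
    have hdd : ∀ x, d (d x) = 1 := fun x => by
      obtain ⟨i, hi⟩ := Subgroup.mem_zpowers_iff.1 (hdmem x)
      have hz'' : d z' = 1 := by show z'⁻¹ * U₀ z' = 1; rw [hUz', inv_mul_cancel]
      rw [← hi, map_zpow, hz'', one_zpow]
    have hUk : ∀ n : ℕ, ∀ x, (U₀ ^ n) x = x * d x ^ n := by
      intro n
      induction n with
      | zero => intro x; simp
      | succ n ih =>
        intro x
        rw [pow_succ', MulAut.mul_apply, ih, hUd, map_mul, map_pow, hdd, one_pow, mul_one, pow_succ,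
          mul_assoc]
    let b : R →* R := MonoidHom.mk' (fun x => d x ^ k) fun x y => by rw [map_mul, mul_pow]
    obtain ⟨w, hw, hwT, hwz⟩ := S5233.exists_inverting T (U₀ ^ k) c b zz z' hTc (fun x => hUk k x)
      (fun x => by
        obtain ⟨i, hi⟩ := Subgroup.mem_zpowers_iff.1 (hzz.symm ▸ hcmem x)
        exact ⟨i, hi.symm⟩)
      (fun x => by
        obtain ⟨i, hi⟩ := Subgroup.mem_zpowers_iff.1 (hdmem x)
        exact ⟨i * k, by rw [zpow_mul, hi, zpow_natCast]; rfl⟩)
      (by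
        obtain ⟨i, hi⟩ := Subgroup.mem_zpowers_iff.1 (hcmem z')
        show c zz = 1
        rw [show zz = zR ^ i from hi.symm, map_zpow, hcz, one_zpow])
      rfl hk (by
        show d z' ^ k = 1
        rw [show d z' = 1 from (by show z'⁻¹ * U₀ z' = 1; rw [hUz', inv_mul_cancel]), one_pow])
    -- a common fixed point in the centre
    obtain ⟨a, ha1, hda, haZ⟩ : ∃ a : R, a ≠ 1 ∧ d a = 1 ∧ a ∈ Zc := by
      let e : Zc →* R := d.comp Zc.subtype
      have h1 : Nat.card e.ker * Nat.card e.range = p ^ 2 := by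
        rw [← Subgroup.index_ker, Subgroup.card_mul_index, hZc]
      have h2 : Nat.card e.range ≤ p := by
        refine le_trans (Subgroup.card_le_of_le (show e.range ≤ Subgroup.zpowers z' from ?_)) ?_
        · rintro _ ⟨x, rfl⟩; exact hdmem x
        · rw [Nat.card_zpowers, horder z' hz'1]
      have h3 : 1 < Nat.card e.ker := by
        by_contra h
        push Not at h
        have := h1.symm.trans_le (Nat.mul_le_mul h h2)
        rw [one_mul] at this
        exact absurd (this.trans_eq (pow_one p).symm) (not_le.2 (Nat.pow_lt_pow_right hp.one_lt (by norm_num)))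
      haveI := Finite.one_lt_card_iff_nontrivial.1 h3
      obtain ⟨⟨⟨a, ha⟩, ha'⟩, hne⟩ := exists_ne (1 : e.ker)
      exact ⟨a, fun e => hne (Subtype.ext (Subtype.ext e)), ha', ha⟩
    refine ⟨a, haZ, ha1, by rw [hUd, hda, mul_one], ?_⟩
    have hwA : w ∈ F.autGroup R := by
      refine (Subgroup.closure_le _).2 ?_ hw
      rintro _ (rfl | rfl)
      · exact hTA
      · exact pow_mem hU₀A k
    have hwa : w a = a := by
      refine (Subgroup.closure_le (MulAction.stabilizer (MulAut R) a)).2 ?_ hw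
      rintro _ (rfl | rfl)
      · show T a = a; rw [hTc, (hfix a).2 haZ, mul_one]
      · show (U₀ ^ k) a = a; rw [hUk, hda, one_pow, mul_one]
    have hwzR : w zR = zR⁻¹ := by
      obtain ⟨i, hi⟩ := Subgroup.mem_zpowers_iff.1 (hzz.symm ▸ Subgroup.mem_zpowers zR)
      rw [← hi, map_zpow, hwz, inv_zpow]
    have hM : Subgroup.zpowers s ≤ normalizerIn S R := Subgroup.zpowers_le.2 (hN.symm ▸ hs)
    obtain ⟨f, hf, hfw⟩ := exists_extension (receptive_of_fullyNormalized hS hF hfn) hwA hM fun v hv => by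
      obtain ⟨n, rfl⟩ := Subgroup.mem_zpowers_iff.1 hv
      have e : (⟨s ^ n, hM hv⟩ : normalizerIn S R) = ⟨s, hN.symm ▸ hs⟩ ^ n :=
        Subtype.ext (SubgroupClass.coe_zpow (⟨s, hN.symm ▸ hs⟩ : normalizerIn S R) n).symm
      rw [e, map_zpow]
      have hcm : Commute w (T ^ n) := (show Commute w T from hwT).zpow_right n
      rw [show w * T ^ n * w⁻¹ = T ^ n by rw [hcm.eq, mul_inv_cancel_right]]
      exact zpow_mem hTS n
    have hsupS : R ⊔ Subgroup.zpowers s = S := by
      refine eq_of_le_of_card le_rfl (sup_le hRS (Subgroup.zpowers_le.2 hs)) ?_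
      have hlt : R.subgroupOf S < (R ⊔ Subgroup.zpowers s).subgroupOf S := by
        rw [← Subgroup.map_lt_map_iff_of_injective S.subtype_injective,
          Subgroup.map_subgroupOf_eq_of_le hRS,
          Subgroup.map_subgroupOf_eq_of_le (sup_le hRS (Subgroup.zpowers_le.2 hs))]
        exact lt_of_le_of_ne le_sup_left fun e => hsR (e ▸ Subgroup.mem_sup_right (Subgroup.mem_zpowers s))
      have h3 := PGroup.mul_card_le_of_lt hS hlt
      rw [Nat.card_congr (Subgroup.subgroupOfEquivOfLe hRS).toEquiv, hR3, ← pow_succ',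
        show 3 + 1 = 4 from rfl, ← hcard] at h3
      exact h3.trans (Nat.card_congr
        (Subgroup.subgroupOfEquivOfLe (sup_le hRS (Subgroup.zpowers_le.2 hs))).toEquiv).le
    rw [hsupS] at hf
    obtain ⟨β, hβ, hβe⟩ := exists_aut_of_isIso (P := S)
      ⟨hf, eq_of_le_of_card le_rfl hf.img_le_S (hf.card_img le_rfl).ge⟩
    refine ⟨β, hβ, Subtype.ext ?_, Subtype.ext ?_, haZ, fun hmem => ?_⟩
    · rw [hβe, hfw _ (hcen z hz), autFn_apply w (hcen z hz)]
      exact congrArg Subtype.val hwzR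
    · rw [hβe]
      show f (a : Ω) = (a : Ω)
      rw [hfw _ a.2, autFn_apply w a.2]
      exact congrArg Subtype.val hwa
    · obtain ⟨i, hi⟩ := Subgroup.mem_zpowers_iff.1 hmem
      have hai : a = zR ^ i := hιi (by rw [map_zpow, hzR, hi])
      have h' : zR ^ (2 * i) = 1 := by
        have := hwa
        rw [hai, map_zpow, hwzR, inv_zpow, inv_eq_iff_mul_eq_one, ← zpow_add, ← two_mul] at this
        exact this
      rw [← orderOf_dvd_iff_zpow_eq_one, horder zR hzR1] at h'
      rcases (Nat.prime_iff_prime_int.1 hp).dvd_or_dvd h' with h | h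
      · exact hp2 ((Nat.prime_dvd_prime_iff_eq hp Nat.prime_two).1 (by exact_mod_cast h))
      · obtain ⟨j, rfl⟩ := h
        refine ha1 (hai.trans ?_)
        rw [zpow_mul, zpow_natCast, ← horder zR hzR1, pow_orderOf_eq_one, one_zpow]
  obtain ⟨⟨a, haZ, ha1, hUa, htor⟩, hUz⟩ := key g hg hgT
  refine ⟨ι a, htor, a.2, fun α hα => ?_⟩
  -- the common fixed points of all conjugates of `T`
  set A : Subgroup R := ⨅ g ∈ F.autGroup R, (g * T * g⁻¹).toMonoidHom.eqLocus (MonoidHom.id R)
  have hmemA : ∀ x, x ∈ A ↔ ∀ g ∈ F.autGroup R, (g * T * g⁻¹) x = x := fun x => by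
    simp only [A, Subgroup.mem_iInf]
    exact Iff.rfl
  have haA : a ∈ A := by
    rw [hmemA]
    intro g' hg'
    by_cases h : g' * T * g'⁻¹ ∈ autInducedBy S R
    · obtain ⟨u, hu, he⟩ := mem_autInducedBy_iff.1 h
      refine Subtype.ext ?_
      rw [he]
      exact mul_inv_eq_iff_eq_mul.2
        (congrArg Subtype.val (Subgroup.mem_center_iff.1 haZ ⟨u, hu⟩) :)
    · obtain ⟨⟨a', ha'Z, -, hU'a', htor'⟩, -⟩ := key g' hg' h
      obtain ⟨i, hi⟩ := Subgroup.mem_zpowers_iff.1 (tor_unique hS hF hp2 hz hzp hz1 hc hexp htor htor')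
      rw [show a = a' ^ i from hιi (by rw [map_zpow, hi]), map_zpow, hU'a']
  have hAle : A ≤ Zc := fun x hx => by
    have := (hmemA x).1 hx 1 (one_mem _)
    rw [one_mul, inv_one, mul_one] at this
    exact (hfix x).1 (by show x⁻¹ * T x = 1; rw [this, inv_mul_cancel])
  have hAeq : A = Subgroup.zpowers a := by
    refine (Subgroup.eq_of_le_of_card_ge (Subgroup.zpowers_le.2 haA) ?_).symm
    have hao : orderOf a = p := orderOf_eq_prime (hιi (by rw [map_pow, hexp, map_one])) ha1
    rw [Nat.card_zpowers, hao]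
    by_contra h
    push Not at h
    refine hUz ?_
    have hA2 : A = Zc := by
      refine Subgroup.eq_of_le_of_card_ge hAle ?_
      rw [hZc]
      obtain ⟨n, hn⟩ := IsPGroup.iff_card.1 (hRp.to_subgroup A)
      rw [hn] at h ⊢
      have : 1 < n := (Nat.pow_lt_pow_iff_right hp.one_lt).1 (by rwa [pow_one])
      exact Nat.pow_le_pow_right hp.pos this
    exact (hmemA zR).1 (hA2 ▸ hzRc) g hg
  have hαa : α a ∈ A := by
    rw [hmemA]
    intro g' hg'
    have := (hmemA a).1 haA (α⁻¹ * g') (mul_mem (inv_mem hα) hg')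
    have e : α⁻¹ * g' * T * (α⁻¹ * g')⁻¹ = α⁻¹ * (g' * T * g'⁻¹) * α := by group
    rw [e, MulAut.mul_apply, MulAut.mul_apply] at this
    have := congrArg α this
    rwa [MulAut.apply_inv_self] at this
  rw [hAeq] at hαa
  obtain ⟨i, hi⟩ := Subgroup.mem_zpowers_iff.1 hαa
  show autFn α (a : Ω) ∈ Subgroup.zpowers (a : Ω)
  rw [autFn_apply α a.2]
  refine Subgroup.mem_zpowers_iff.2 ⟨i, ?_⟩
  rw [← SubgroupClass.coe_zpow]
  show ((ι a ^ i : S) : Ω) = _
  rw [← map_zpow, hi]
  rfl

/-- The core is not trivial in the exceptional case. -/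
theorem core_ne_bot (hS : IsPGroup p S) (hF : F.IsSaturated p) (hp2 : p ≠ 2)
    (hz : z ∈ Subgroup.center S) (hz1 : z ≠ 1) (hc : Nat.card (Subgroup.center S) = p ^ 2)
    (hcard : Nat.card S = p ^ 4) (hexp : ∀ x : S, x ^ p = 1)
    (hcomm : ∀ x y : S, ⁅x, y⁆ ∈ Subgroup.zpowers z)
    (hgenz : ∀ α ∈ F.autGroup S, α z ∈ Subgroup.zpowers z) : F.core ≠ ⊥ := by
  intro hO
  have hnorm : ∀ N : Subgroup Ω, F.IsNormal N → N = ⊥ := fun N hN => by
    rw [eq_bot_iff, ← hO]
    exact le_sSup hN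
  by_cases hall : ∀ R : Subgroup Ω, F.IsFullyNormalized R → F.IsCentric R → F.IsRadical p R → R = S
  · have h := hnorm S (isNormal_top_of_radicals hS hF hall)
    exact hz1 (Subtype.ext (Subgroup.mem_bot.1 (h.le z.2)))
  push Not at hall
  obtain ⟨R, h1, h2, h3, h4⟩ := hall
  obtain ⟨a, ha, -, -⟩ := exists_tor hS hF hp2 hz hz1 hc hcard hexp hcomm h1 h2 h3 h4
  have hzp : z ^ p = 1 := hexp z
  have hN : F.IsNormal ((Subgroup.zpowers a).map S.subtype) := by
    refine isNormal_of_radicals hS hF (Subgroup.map_subtype_le _) fun R hR hRc hr => ?_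
    have hsub : ∀ x ∈ (Subgroup.zpowers a).map S.subtype, x ∈ R := by
      rintro _ ⟨y, hy, rfl⟩
      refine hRc.2 R (isConj_refl F hRc.1) (mem_centralizerIn.2 ⟨y.2, fun w hw => ?_⟩)
      exact (congrArg Subtype.val (Subgroup.mem_center_iff.1
        ((Subgroup.zpowers_le.2 ha.choose_spec.2.2.2.1) hy) ⟨w, hRc.1 hw⟩) :).symm
    refine ⟨hsub, fun α hα q hq => ?_⟩
    obtain ⟨y, hy, rfl⟩ := hq
    rcases eq_or_ne R S with rfl | hne
    · obtain ⟨β, hβ, hβz, hβa, hac, haz⟩ := id ha
      have htor : Tor F z (α a) := by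
        refine ⟨α * β * α⁻¹, mul_mem (mul_mem hα hβ) (inv_mem hα), ?_, ?_, ?_, fun h => haz ?_⟩
        · obtain ⟨i, hi⟩ := Subgroup.mem_zpowers_iff.1 (hgenz α⁻¹ (inv_mem hα))
          rw [MulAut.mul_apply, MulAut.mul_apply, ← hi, map_zpow, hβz, inv_zpow, map_inv, hi,
            MulAut.apply_inv_self]
        · rw [MulAut.mul_apply, MulAut.mul_apply, MulAut.inv_apply_self, hβa]
        · refine Subgroup.mem_center_iff.2 fun v => ?_
          obtain ⟨v, rfl⟩ := α.surjective v
          rw [← map_mul, ← map_mul, Subgroup.mem_center_iff.1 hac v]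
        · obtain ⟨i, hi⟩ := Subgroup.mem_zpowers_iff.1 h
          have := congrArg (fun v => (α⁻¹) v) hi
          rw [map_zpow, MulAut.inv_apply_self] at this
          exact this ▸ zpow_mem (hgenz α⁻¹ (inv_mem hα)) i
      obtain ⟨i, rfl⟩ := Subgroup.mem_zpowers_iff.1 hy
      refine ⟨α (a ^ i), ?_, (autFn_apply α (a ^ i).2).symm⟩
      rw [map_zpow]
      exact zpow_mem (tor_unique hS hF hp2 hz hzp hz1 hc hexp htor ha) i
    obtain ⟨a', ha', ha'R, hinv⟩ := exists_tor hS hF hp2 hz hz1 hc hcard hexp hcomm hR hRc hr hne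
    obtain ⟨i, hi⟩ := Subgroup.mem_zpowers_iff.1 (tor_unique hS hF hp2 hz hzp hz1 hc hexp ha ha')
    obtain ⟨j, hj⟩ := Subgroup.mem_zpowers_iff.1 (tor_unique hS hF hp2 hz hzp hz1 hc hexp ha' ha)
    obtain ⟨n, rfl⟩ := Subgroup.mem_zpowers_iff.1 hy
    obtain ⟨m, hm⟩ := Subgroup.mem_zpowers_iff.1 (hinv α hα)
    refine ⟨a ^ (j * (m * (i * n))), zpow_mem (Subgroup.mem_zpowers a) _, ?_⟩
    rw [zpow_mul, hj, zpow_mul, ← hi]
    show (((a' ^ m) ^ (i * n) : S) : Ω) = autFn α (((a' ^ i) ^ n : S) : Ω)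
    simp only [← zpow_mul, SubgroupClass.coe_zpow]
    rw [S5233.map_zpow' (isIso_autFn hRc.1 hα).1 ha'R, ← hm, ← zpow_mul]
  have := hnorm _ hN
  rw [Subgroup.map_eq_bot_iff_of_injective _ S.subtype_injective, Subgroup.zpowers_eq_bot] at this
  obtain ⟨β, -, -, -, -, haz⟩ := ha
  exact haz (this ▸ one_mem _)

/-- Let p be an odd prime, S a finite p-group containing an extraspecial subgroup Q of index p, and F a saturated fusion system over S whose largest subgroup normal in F is trivial. Then the centre of S equals the centre of Q. -/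
theorem result {Ω : Type u} [Group Ω] {S : Subgroup Ω} [Finite S] (p : ℕ) [Fact p.Prime] (hp : Odd p) (hS : IsPGroup p S)
    (Q : Subgroup Ω) (hQS : Q ≤ S) (hQ : Cfsg.IsExtraspecial p ↥Q) (hQi : (Q.subgroupOf S).index = p)
    (F : Cfsg.FusionSystem S) (hF : F.IsSaturated p) (hO : F.core = ⊥) :
    S ⊓ Subgroup.centralizer (S : Set Ω) = Q ⊓ Subgroup.centralizer (Q : Set Ω) := by
  have hp' : p.Prime := Fact.out
  have hp2 : p ≠ 2 := by rintro rfl; exact absurd hp (by decide)
  haveI := finite_of_le hQS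
  set Qs := Q.subgroupOf S with hQsdef
  have hQn : Qs.Normal := by
    obtain ⟨n, hn⟩ := IsPGroup.iff_card.1 hS
    exact Subgroup.normal_of_index_eq_minFac_card (by
      rw [hQi, hn, Nat.Prime.pow_minFac hp']
      rintro rfl
      have := Subgroup.index_dvd_card Qs
      rw [hQi, hn, pow_zero, Nat.dvd_one] at this
      exact hp'.ne_one this)
  let e : Qs ≃* Q := Subgroup.subgroupOfEquivOfLe hQS
  -- the centre of `Q`
  set ZQ := ((Subgroup.center Qs).map Qs.subtype) with hZQdef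
  have hecen : (Subgroup.center Qs).map e.toMonoidHom = Subgroup.center Q := by
    ext u
    constructor
    · rintro ⟨v, hv, rfl⟩
      refine Subgroup.mem_center_iff.2 fun g => ?_
      obtain ⟨g, rfl⟩ := e.surjective g
      show e g * e v = e v * e g
      rw [← map_mul, ← map_mul, Subgroup.mem_center_iff.1 hv g]
    · intro hu
      refine ⟨e.symm u, Subgroup.mem_center_iff.2 fun g => e.injective ?_, e.apply_symm_apply u⟩
      rw [map_mul, map_mul, e.apply_symm_apply, Subgroup.mem_center_iff.1 hu]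
  have hZQc : Nat.card ZQ = p := by
    rw [hZQdef, Subgroup.card_map_of_injective Qs.subtype_injective,
      ← Subgroup.card_map_of_injective (f := e.toMonoidHom) e.injective, hecen, hQ.2]
  have hZQn : ZQ.Normal := inferInstance
  have hZQle : ZQ ≤ Subgroup.center S := PGroup.le_center_of_card_eq hS hZQc
  have hmemZQ : ∀ x : S, x ∈ ZQ ↔ (x : Ω) ∈ Q ∧ ∀ y ∈ Q, y * x = x * y := by
    intro x
    constructor
    · rintro ⟨u, hu, rfl⟩
      exact ⟨u.2, fun y hy => (congrArg Subtype.val (congrArg Subtype.val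
        (Subgroup.mem_center_iff.1 hu ⟨⟨y, hQS hy⟩, hy⟩)) :)⟩
    · rintro ⟨hxQ, hx⟩
      exact ⟨⟨x, hxQ⟩, Subgroup.mem_center_iff.2 fun u => Subtype.ext (Subtype.ext (hx _ u.2)), rfl⟩
  suffices hle : Subgroup.center S ≤ ZQ by
    ext x
    constructor
    · rintro ⟨hxS, hx⟩
      obtain ⟨h1, h2⟩ := (hmemZQ ⟨x, hxS⟩).1 (hle (Subgroup.mem_center_iff.2 fun y => Subtype.ext (hx y y.2)))
      exact ⟨h1, h2⟩
    · rintro ⟨hxQ, hx⟩
      have h := hZQle ((hmemZQ ⟨x, hQS hxQ⟩).2 ⟨hxQ, hx⟩)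
      exact ⟨hQS hxQ, fun y hy => (congrArg Subtype.val (Subgroup.mem_center_iff.1 h ⟨y, hy⟩) :)⟩
  by_contra hnle
  obtain ⟨w, hwc, hw⟩ := SetLike.not_le_iff_exists.1 hnle
  have hwQ : w ∉ Qs := fun h => hw ((hmemZQ w).2 ⟨h, fun y hy =>
    (congrArg Subtype.val (Subgroup.mem_center_iff.1 hwc ⟨y, hQS hy⟩) :)⟩)
  haveI hcn : (Subgroup.center S).Normal := inferInstance
  have htop : Qs ⊔ Subgroup.center S = ⊤ := by
    by_contra h
    have hlt : Qs < Qs ⊔ Subgroup.center S := lt_of_le_of_ne le_sup_left fun e' =>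
      hwQ (e'.symm ▸ Subgroup.mem_sup_right hwc)
    have h2 := Subgroup.index_dvd_of_le hlt.le
    rw [hQi] at h2
    rcases (Nat.dvd_prime hp').1 h2 with h3 | h3
    · exact h (Subgroup.index_eq_one.1 h3)
    · exact hlt.ne (Subgroup.eq_of_le_of_card_ge hlt.le (by
        have a := Subgroup.index_mul_card Qs
        have b := Subgroup.index_mul_card (Qs ⊔ Subgroup.center S)
        rw [hQi] at a; rw [h3] at b
        exact (Nat.eq_of_mul_eq_mul_left hp'.pos (b.trans a.symm)).le))
  have hinf : Qs ⊓ Subgroup.center S = ZQ := le_antisymm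
    (fun x (hx : x ∈ Qs ⊓ Subgroup.center S) => (hmemZQ x).2 ⟨hx.1, fun y hy =>
      (congrArg Subtype.val (Subgroup.mem_center_iff.1 hx.2 ⟨y, hQS hy⟩) :)⟩)
    (le_inf (Subgroup.map_subtype_le _) hZQle)
  have hdec : ∀ x : S, ∃ q : Qs, ∃ c ∈ Subgroup.center S, x = (q : S) * c := fun x => by
    obtain ⟨q, hq, c, hc, e'⟩ := Subgroup.mem_sup_of_normal_right.1 (htop ▸ Subgroup.mem_top x)
    exact ⟨⟨q, hq⟩, c, hc, e'.symm⟩
  have hecomm : (commutator Qs).map e.toMonoidHom = commutator Q := by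
    rw [_root_.commutator_def, _root_.commutator_def, Subgroup.map_commutator,
      Subgroup.map_top_of_surjective _ e.surjective]
  have hcQ : ∀ q q' : Qs, ⁅(q : S), (q' : S)⁆ ∈ ZQ := by
    intro q q'
    refine ⟨⁅q, q'⁆, ?_, map_commutatorElement Qs.subtype q q'⟩
    have h : e ⁅q, q'⁆ ∈ (Subgroup.center Qs).map e.toMonoidHom := by
      rw [hecen, ← hQ.1.2.2, map_commutatorElement]
      exact Subgroup.commutator_mem_commutator (Subgroup.mem_top _) (Subgroup.mem_top _)
    obtain ⟨u, hu, hue⟩ := h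
    exact e.injective hue ▸ hu
  have hcomm : ∀ x y : S, ⁅x, y⁆ ∈ ZQ := by
    intro x y
    obtain ⟨q, c, hc, rfl⟩ := hdec x
    obtain ⟨q', c', hc', rfl⟩ := hdec y
    have h1 : ⁅(q : S) * c, (q' : S) * c'⁆ = ⁅(q : S), (q' : S)⁆ := by
      rw [Subgroup.mem_center_iff] at hc hc'
      have hc1 : ∀ g : S, ⁅c, g⁆ = 1 := fun g => commutatorElement_eq_one_iff_mul_comm.2 (hc g).symm
      have hc2 : ∀ g : S, ⁅g, c'⁆ = 1 := fun g => commutatorElement_eq_one_iff_mul_comm.2 (hc' g)
      rw [PGroup.commutator_mul_left (by rw [hc1]; exact Commute.one_right _), hc1, one_mul,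
        PGroup.commutator_mul_right (by rw [hc2]; exact Commute.one_right _), hc2, mul_one]
    rw [h1]
    exact hcQ q q'
  have hcom_le : commutator S ≤ ZQ := by
    rw [_root_.commutator_def, Subgroup.commutator_le]
    exact fun x _ y _ => hcomm x y
  have hcom : commutator S = ZQ := by
    refine le_antisymm hcom_le ?_
    have h1 : (commutator Qs).map Qs.subtype ≤ commutator S := by
      rw [_root_.commutator_def, _root_.commutator_def, Subgroup.map_commutator]
      exact Subgroup.commutator_mono le_top le_top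
    refine le_trans (le_of_eq ?_) h1
    rw [hZQdef]
    congr 1
    refine Subgroup.map_injective (f := e.toMonoidHom) e.injective ?_
    rw [hecen, hecomm, hQ.1.2.2]
  have hpow : ∀ x : S, x ^ p ∈ ZQ := by
    intro x
    obtain ⟨q, c, hc, rfl⟩ := hdec x
    rw [(show Commute (q : S) c from Subgroup.mem_center_iff.1 hc q).mul_pow]
    refine mul_mem ?_ ?_
    · have h : e (q ^ p) ∈ (Subgroup.center Qs).map e.toMonoidHom := by
        rw [hecen, ← hQ.1.2.1, map_pow]
        exact PGroup.pow_mem_frattini hQ.1.1 _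
      obtain ⟨u, hu, hue⟩ := h
      exact ⟨q ^ p, e.injective hue ▸ hu, map_pow Qs.subtype q p⟩
    · rw [← hinf]
      refine ⟨?_, pow_mem hc p⟩
      rw [← hQi]
      exact Qs.pow_index_mem c
  have hfr : frattini S = commutator S :=
    le_antisymm (PGroup.frattini_le_of_quotient_elementary le_rfl (hcom ▸ hpow))
      (PGroup.commutator_le_frattini hS)
  have hcc : Nat.card (commutator S) = p := by rw [hcom, hZQc]
  have hSsc : F.StronglyClosed S := ⟨le_rfl, fun _ _ φ hφ x => (F.le_of_mem hφ).2 x⟩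
  obtain ⟨z, hzZ, hz1⟩ : ∃ z ∈ ZQ, z ≠ 1 := by
    haveI := Finite.one_lt_card_iff_nontrivial.1 (hZQc.symm ▸ hp'.one_lt : 1 < Nat.card ZQ)
    obtain ⟨⟨z, hz⟩, hne⟩ := exists_ne (1 : ZQ)
    exact ⟨z, hz, fun e' => hne (Subtype.ext e')⟩
  by_cases hex : ∃ (E : Type) (_ : Group E) (A : Type) (_ : CommGroup A), Cfsg.IsExtraspecial p E ∧
      Nat.card E = p ^ 3 ∧ Monoid.exponent E = p ∧ (∀ a : A, a ^ p = 1) ∧ Nonempty (↥S ≃* E × A)
  swap
  · have hN := S5233.result p hS F hF S hSsc ⟨hfr, hcc⟩ (fun h => absurd h hp2) (fun _ => hex)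
    have hb : S = ⊥ := by rw [eq_bot_iff, ← hO]; exact le_sSup hN
    exact hz1 (Subtype.ext (Subgroup.mem_bot.1 (hb.le z.2)))
  obtain ⟨E, _, A, _, hE, hE3, hEe, hA, ⟨f⟩⟩ := hex
  have hexp : ∀ x : S, x ^ p = 1 := fun x => f.injective (by
    rw [map_pow, map_one]
    exact Prod.ext (hEe ▸ Monoid.pow_exponent_eq_one (f x).1 : (f x).1 ^ p = 1) (hA _))
  have hZc : Nat.card (Subgroup.center S) = p ^ 2 := by
    have h1 := Subgroup.relIndex_mul_index (le_sup_right : Subgroup.center S ≤ Qs ⊔ Subgroup.center S)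
    have h2 : ZQ.relIndex (Subgroup.center S) = p := by
      rw [← hinf, Subgroup.inf_relIndex_right, ← Subgroup.relIndex_sup_right, sup_comm, htop,
        Subgroup.relIndex_top_right, hQi]
    have h3 := Subgroup.relIndex_mul_relIndex ⊥ ZQ (Subgroup.center S) bot_le hZQle
    rw [Subgroup.relIndex_bot_left, Subgroup.relIndex_bot_left, h2, hZQc] at h3
    rw [← h3, pow_two]
  have hcard : Nat.card S = p ^ 4 := by
    haveI : Finite (E × A) := Finite.of_equiv S f.toEquiv
    haveI : Finite A := Finite.of_surjective Prod.snd (Prod.snd_surjective (α := E) (β := A))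
    have h1 : Nat.card (Subgroup.center S) = Nat.card (Subgroup.center (E × A)) :=
      Nat.card_congr (Subgroup.centerCongr f).toEquiv
    have h2 : Subgroup.center (E × A) = (Subgroup.center E).prod ⊤ := by
      ext u
      rw [Subgroup.mem_center_iff, Subgroup.mem_prod, Subgroup.mem_center_iff]
      exact ⟨fun h => ⟨fun g => congrArg Prod.fst (h (g, 1)), Subgroup.mem_top _⟩,
        fun h g => Prod.ext (h.1 g.1) (mul_comm _ _)⟩
    rw [hZc, h2, Nat.card_congr (Subgroup.prodEquiv _ _).toEquiv, Nat.card_prod, hE.2,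
      Subgroup.card_top, pow_two] at h1
    rw [Nat.card_congr f.toEquiv, Nat.card_prod, hE3, ← Nat.eq_of_mul_eq_mul_left hp'.pos h1]
    ring
  have hZQz : ZQ = Subgroup.zpowers z := by
    refine (Subgroup.eq_of_le_of_card_ge (Subgroup.zpowers_le.2 hzZ) ?_).symm
    rw [hZQc, Nat.card_zpowers, orderOf_eq_prime (hexp z) hz1]
  refine core_ne_bot hS hF hp2 (hZQle hzZ) hz1 hZc hcard hexp (fun x y => hZQz ▸ hcomm x y) ?_ hO
  intro α _
  rw [← hZQz]
  have h := hzZ
  rw [← hcom] at h ⊢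
  have hh : (commutator S).map α.toMonoidHom = commutator S := by
    rw [_root_.commutator_def, Subgroup.map_commutator, Subgroup.map_top_of_surjective _ α.surjective]
  rw [← hh]
  exact Subgroup.mem_map_of_mem _ h

end Cfsg.Agent.S5178
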