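import Cfsg.Statements.S0862
import Cfsg.Agent.EqLemmas
import Cfsg.Agent.Lib.CharExtend.DetExt
import Cfsg.Agent.Lib.CharApp.Clifford

set_option autoImplicit false
open Cfsg

namespace Cfsg.Agent.S0862

open Cfsg.Agent Cfsg.Agent.CharExtend Cfsg.Agent.Char

/-- Roots of degree prime to the exponent. -/
theorem coprime_root {A : Type*} [CommGroup A] {n d : ℕ} {a b : ℤ}
    (hab : (n : ℤ) * a + (d : ℤ) * b = 1) (x y : A) :
    (x ^ n = 1 → x ^ d = y → x = y ^ b) ∧ (y ^ n = 1 → (y ^ b) ^ d = y) := by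
  refine ⟨fun hn hd => ?_, fun hn => ?_⟩
  · calc x = x ^ ((n : ℤ) * a + (d : ℤ) * b) := by rw [hab, zpow_one]
      _ = y ^ b := by rw [zpow_add, zpow_mul, zpow_natCast, hn, one_zpow, one_mul, zpow_mul, zpow_natCast, hd]
  · rw [← zpow_natCast, ← zpow_mul, mul_comm b,
      show (d : ℤ) * b = 1 - (n : ℤ) * a by linarith, zpow_sub, zpow_one, zpow_mul,
      zpow_natCast, hn, one_zpow, inv_one, mul_one]

theorem mul_eq_of_eq_div {A : Type*} [CommGroup A] {e m z : A} :
    e * z = m ↔ z = m / e := by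
  rw [eq_div_iff_mul_eq', mul_comm]

/-- Let N be a normal subgroup of the finite group G and ϑ an irreducible character of N of degree d coprime to the index of N, which is the restriction of some irreducible character of G. Let μ be a character of G of degree 1 whose restriction to N is the determinantal character of ϑ. Then there is exactly one irreducible character χ of G restricting to ϑ whose determinantal character is μ. -/
theorem result {G : Type*} [Group G] [Finite G] (N : Subgroup G) [N.Normal] (ϑ : N → ℂ) (hϑ : Cfsg.IsIrrCharacter N ϑ) (d : ℕ) (hd : ϑ 1 = d) (hcop : Nat.Coprime N.index d) (hext : ∃ η : G → ℂ, Cfsg.IsIrrCharacter G η ∧ (∀ n : N, η n = ϑ n)) (μ : G → ℂ) (hμ : Cfsg.IsCharacter G μ ∧ μ 1 = 1) (hμN : ∀ n : N, μ n = Cfsg.detChar ϑ n) : ∃! χ : G → ℂ, Cfsg.IsIrrCharacter G χ ∧ (∀ n : N, χ n = ϑ n) ∧ Cfsg.detChar χ = μ := by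
  haveI := Fintype.ofFinite G
  haveI := Fintype.ofFinite N
  obtain ⟨η, hη, hηN⟩ := hext
  have hηc := IsIrrCharacter.isCharacter hη
  have hfun : (fun n : N => η n) = ϑ := funext hηN
  have hη1 : η 1 = d := by rw [← hd, ← hηN 1]; rfl
  obtain ⟨m, rfl⟩ := exists_valHom hμ.1 hμ.2
  obtain ⟨e, he⟩ := exists_detChar_eq hηc
  obtain ⟨a, b, hab⟩ : ∃ a b : ℤ, (N.index : ℤ) * a + (d : ℤ) * b = 1 := by
    refine ⟨Nat.gcdA N.index d, Nat.gcdB N.index d, ?_⟩
    rw [← Nat.gcd_eq_gcd_ab, hcop.gcd_eq_one, Nat.cast_one]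
  have hδN : ∀ x : N, (m / e) (x : G) = 1 := by
    intro x
    rw [MonoidHom.div_apply, div_eq_one]
    apply Units.ext
    have h1 := hμN x
    rw [← hfun, congrFun (detChar_restrict hηc N) x, he] at h1
    exact h1
  have hδ : (m / e) ^ N.index = 1 := MonoidHom.ext fun g => by
    rw [MonoidHom.pow_apply, ← map_pow]
    exact hδN ⟨_, N.pow_index_mem g⟩
  have key : ∀ β : G →* ℂˣ, (∀ x : N, β (x : G) = 1) →
      (detChar (η * valHom G β) = valHom G m ↔ β = (m / e) ^ b) := by
    intro β hβ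
    have hdet : detChar (η * valHom G β) = valHom G (e * β ^ d) := by
      funext g
      rw [detChar_mul_valHom hηc hη1, he]
      simp
    have hβi : β ^ N.index = 1 := MonoidHom.ext fun g => by
      rw [MonoidHom.pow_apply, ← map_pow]
      exact hβ ⟨_, N.pow_index_mem g⟩
    rw [hdet]
    constructor
    · intro h
      exact (coprime_root hab β (m / e)).1 hβi (mul_eq_of_eq_div.1 (valHom_injective h))
    · intro h
      have h' : e * β ^ d = m :=
        (mul_eq_of_eq_div (A := G →* ℂˣ)).2 (h ▸ (coprime_root hab β (m / e)).2 hδ)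
      exact congrArg (valHom G) h'
  have hirr : IsIrrCharacter N (fun n : N => η n) := hfun.symm ▸ hϑ
  have hδb : ∀ x : N, ((m / e) ^ b : G →* ℂˣ) (x : G) = 1 := fun x => by
    show (m / e) (x : G) ^ b = 1
    rw [hδN x, one_zpow]
  refine ⟨η * valHom G ((m / e) ^ b), ⟨?_, fun x => ?_, (key _ hδb).2 rfl⟩, ?_⟩
  · refine CharApp.gallagher_irr N hη hirr
      (Char.isIrrCharacter_of_hom ((Units.coeHom ℂ).comp ((m / e) ^ b))) (fun x => ?_)
    simp [hδb x]
  · rw [Pi.mul_apply, valHom_apply, hδb x, Units.val_one, mul_one, hηN x]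
  · rintro χ ⟨hχ, hres, hdet⟩
    obtain ⟨β, hβ, ht, rfl⟩ := CharApp.gallagher_exhaustive N hη hirr hχ (by
      rw [funext hres, hfun, classInner_irr_self hϑ]
      exact one_ne_zero)
    have hβ1 : β 1 = 1 := by
      have h0 : η 1 * β 1 = η 1 := by
        have e1 := hres 1
        rw [← hηN 1] at e1
        simpa using e1
      exact (mul_eq_left₀ (IsIrrCharacter.apply_one_ne_zero hη)).1 h0
    obtain ⟨l, rfl⟩ := exists_valHom (IsIrrCharacter.isCharacter hβ) hβ1
    rw [(key l (fun x => Units.ext (by simpa using ht x))).1 hdet]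

end Cfsg.Agent.S0862
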