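import Cfsg.Statements.S0866
import Cfsg.Agent.EqLemmas
import Cfsg.Agent.Lib.CharExtend.DetExt

set_option autoImplicit false
open Cfsg

namespace Cfsg.Agent.S0866

open Cfsg.Agent Cfsg.Agent.CharExtend

/-- Let N be a normal subgroup of the finite group G and ϑ an irreducible character of N, invariant under conjugation by G, of degree d coprime to the index of N. Then ϑ is the restriction of an irreducible character of G if and only if the determinantal character of ϑ is the restriction of a character of G of degree 1. -/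
theorem result {G : Type*} [Group G] [Finite G] (N : Subgroup G) [hN : N.Normal] (ϑ : N → ℂ) (hϑ : Cfsg.IsIrrCharacter N ϑ) (hinv : ∀ (g : G) (n : N), ϑ ⟨g * n * g⁻¹, hN.conj_mem (n : G) n.2 g⟩ = ϑ n) (d : ℕ) (hd : ϑ 1 = d) (hcop : Nat.Coprime N.index d) : (∃ χ : G → ℂ, Cfsg.IsIrrCharacter G χ ∧ (∀ n : N, χ n = ϑ n)) ↔ ∃ μ : G → ℂ, Cfsg.IsCharacter G μ ∧ μ 1 = 1 ∧ ∀ n : N, μ n = Cfsg.detChar ϑ n := by
  obtain ⟨n, ρ, hirr, rfl⟩ := hϑ
  haveI := hirr
  rw [Representation.char_one, Module.finrank_fin_fun] at hd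
  obtain rfl : n = d := by exact_mod_cast hd
  constructor
  · rintro ⟨χ, hχ, hres⟩
    obtain ⟨l, hl⟩ := exists_detChar_eq (Char.IsIrrCharacter.isCharacter hχ)
    refine ⟨detChar χ, hl ▸ isCharacter_valHom l, hl ▸ valHom_one_apply l, fun x => ?_⟩
    rw [← congrFun (detChar_restrict (Char.IsIrrCharacter.isCharacter hχ) N) x, funext hres]
  · rintro ⟨μ, hμ, hμ1, hμN⟩
    obtain ⟨l, rfl⟩ := exists_valHom hμ hμ1
    obtain ⟨R, hR⟩ := hom_of_det (hN := hN) ρ hinv hcop l (fun x => Units.ext (by
      have := hμN x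
      rw [detChar_character, valHom_apply] at this
      exact this))
    exact extends_of_hom ρ R hR

end Cfsg.Agent.S0866
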