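import Cfsg.Statements.S0867
import Cfsg.Agent.EqLemmas
import Cfsg.Agent.S0862
import Cfsg.Agent.S0866

set_option autoImplicit false
open Cfsg

namespace Cfsg.Agent.S0867

open Cfsg.Agent Cfsg.Agent.CharExtend Cfsg.Agent.Char

/-- Let N be a normal subgroup of the finite group G and ϑ an irreducible character of N of degree d, invariant under conjugation by G, such that the index of N is coprime to the product of d and the determinantal order of ϑ. Then there is an irreducible character χ of G restricting to ϑ whose determinantal order equals that of ϑ, and χ is the only irreducible character of G restricting to ϑ whose determinantal order is coprime to the index of N. -/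
theorem result {G : Type*} [Group G] [Finite G] (N : Subgroup G) [hN : N.Normal] (ϑ : N → ℂ) (hϑ : Cfsg.IsIrrCharacter N ϑ) (hinv : ∀ (g : G) (n : N), ϑ ⟨g * n * g⁻¹, hN.conj_mem (n : G) n.2 g⟩ = ϑ n) (d : ℕ) (hd : ϑ 1 = d) (hcop : Nat.Coprime N.index (Cfsg.detOrder ϑ * d)) : ∃ χ : G → ℂ, (Cfsg.IsIrrCharacter G χ ∧ (∀ n : N, χ n = ϑ n) ∧ Cfsg.detOrder χ = Cfsg.detOrder ϑ) ∧ ∀ χ' : G → ℂ, Cfsg.IsIrrCharacter G χ' → (∀ n : N, χ' n = ϑ n) → Nat.Coprime N.index (Cfsg.detOrder χ') → χ' = χ := by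
  have hϑc := IsIrrCharacter.isCharacter hϑ
  obtain ⟨l, hl⟩ := exists_detChar_eq hϑc
  have hcd : Nat.Coprime N.index d := hcop.coprime_dvd_right (dvd_mul_left _ _)
  have hlo : orderOf l = detOrder ϑ := by rw [detOrder, hl, orderOf_valHom]
  have hlinv : ∀ (g : G) (x : N), l ⟨g * x * g⁻¹, hN.conj_mem x x.2 g⟩ = l x := by
    intro g x
    obtain ⟨n, ρ, -, rfl⟩ := hϑ
    have hl' : ∀ y, (l y : ℂ) = LinearMap.det (ρ y) := fun y => by
      rw [← valHom_apply l y, ← hl, detChar_character]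
    obtain ⟨T, hT⟩ := exists_intertwines ρ hinv g
    have h : detU n (ρ.toHomUnits x) = detU n (ρ.toHomUnits ⟨g * x * g⁻¹, hN.conj_mem x x.2 g⟩) := by
      have := congrArg (detU n) (hT x)
      rw [map_mul, map_mul, mul_comm] at this
      exact mul_right_cancel this
    exact Units.ext (by rw [hl', hl']; exact (congrArg Units.val h).symm)
  obtain ⟨μ, hμ, hμo⟩ := exists_coprime_extension (hN := hN) l hlinv
    (hlo ▸ hcop.coprime_dvd_right (dvd_mul_right _ _))
  have hμN : ∀ x : N, valHom G μ x = detChar ϑ x := fun x => by rw [hl]; simp [hμ x]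
  obtain ⟨η, hη, hηN⟩ := (Cfsg.Agent.S0866.result N ϑ hϑ hinv d hd hcd).2
    ⟨_, isCharacter_valHom μ, valHom_one_apply μ, hμN⟩
  obtain ⟨χ, ⟨hχ, hχN, hχd⟩, huniq⟩ := Cfsg.Agent.S0862.result N ϑ hϑ d hd hcd ⟨η, hη, hηN⟩
    (valHom G μ) ⟨isCharacter_valHom μ, valHom_one_apply μ⟩ hμN
  have hoμ : orderOf μ = detOrder ϑ := hμo.trans hlo
  refine ⟨χ, ⟨hχ, hχN, by rw [detOrder, hχd, orderOf_valHom, hoμ]⟩, fun χ' hχ' hres hc => ?_⟩
  refine huniq χ' ⟨hχ', hres, ?_⟩
  have hc' := IsIrrCharacter.isCharacter hχ'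
  obtain ⟨m, hm⟩ := exists_detChar_eq hc'
  rw [detOrder, hm, orderOf_valHom] at hc
  rw [hm, coprime_extension_unique (N := N) m μ (fun x => Units.ext ?_) hc
    (hoμ ▸ hcop.coprime_dvd_right (dvd_mul_right _ _))]
  have h1 := congrFun (detChar_restrict hc' N) x
  rw [funext hres, hl, hm] at h1
  rw [hμ x]
  exact h1.symm

end Cfsg.Agent.S0867
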