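import Cfsg.Agent.Lib.Cores.Subnormal
import Cfsg.Agent.Lib.PLocal.Quotient

set_option autoImplicit false
open Cfsg

namespace Cfsg.Agent.S0608

/-- With trivial p'-core, Thompson factorizability is equivalent to J(G) centralizing the subgroup generated by all Ω₁(Z(S)), S Sylow. -/
theorem result {G : Type*} [Group G] [Finite G] {p : ℕ} [Fact p.Prime] (hO : Cfsg.pPrimeCore p G = ⊥) : Cfsg.IsThompsonFactorizable p G ↔ Cfsg.thompsonSubgroup p G ≤ Subgroup.centralizer ((⨆ S : Sylow p G, Cfsg.omegaOne p (((S : Subgroup G)) ⊓ Subgroup.centralizer ((S : Subgroup G) : Set G)) : Subgroup G) : Set G) := by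
  constructor
  · intro h
    rw [PLocal.centralizer_iSup]
    refine le_iInf fun T => ?_
    rw [PLocal.thompsonSubgroup_eq]
    refine sSup_le fun A hA => ?_
    obtain ⟨S, hS⟩ := (PLocal.elemAb_isPGroup hA.2.1).exists_le_sylow
    obtain ⟨g, hg⟩ := MulAction.exists_smul_eq G T S
    obtain ⟨x, hx, c, hc, n, hn, hgn⟩ := h T g
    rw [hO, Subgroup.mem_bot] at hx
    rw [hx, one_mul] at hgn
    have hAJ : A ≤ (Cfsg.thompsonSubgroupOf p (T : Subgroup G)).map (MulAut.conj g).toMonoidHom := by
      rw [PLocal.map_conj_thompsonSubgroupOf, PLocal.thompsonSubgroupOf_eq]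
      refine le_sSup (PLocal.maxIn_of_mem_le hA ?_ le_top)
      rw [← hg, Sylow.coe_subgroup_smul] at hS
      exact hS
    intro a ha
    obtain ⟨j, hj, rfl⟩ := hAJ ha
    refine Subgroup.mem_centralizer_iff.2 fun z hz => ?_
    show z * (g * j * g⁻¹) = g * j * g⁻¹ * z
    have h1 : Commute z c := Subgroup.mem_centralizer_iff.1 hc z hz
    have h2 : Commute z (n * j * n⁻¹) := ((Subgroup.mem_centralizer_iff.1
      (((PLocal.omegaOne_le _).trans inf_le_right) hz)
      _ (PLocal.thompsonSubgroupOf_le _ (PLocal.conj_mem hn hj)))).symm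
    have e : g * j * g⁻¹ = c * (n * j * n⁻¹) * c⁻¹ := by rw [hgn]; group
    rw [e]
    exact ((h1.mul_right h2).mul_right h1.inv_right).eq
  · intro h S g
    set W := fun S : Sylow p G => Cfsg.omegaOne p
      (((S : Subgroup G)) ⊓ Subgroup.centralizer ((S : Subgroup G) : Set G))
    set C := Subgroup.centralizer ((⨆ S, W S : Subgroup G) : Set G)
    haveI : (⨆ S, W S).Normal := by
      refine Subgroup.normalizer_eq_top_iff.1 (top_le_iff.1 fun g _ => ?_)
      rw [PLocal.mem_normalizer_iff_map_eq, Subgroup.map_iSup]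
      have hstep : ∀ S : Sylow p G, (W S).map (MulAut.conj g).toMonoidHom = W (g • S) := fun S => by
        have hi := (MulAut.conj g).injective
        show (Cfsg.omegaOne p _).map _ = Cfsg.omegaOne p _
        rw [PLocal.map_omegaOne _ hi.injOn, PLocal.map_centralizer_inf _ hi.injOn le_rfl]
        rfl
      simp only [hstep]
      exact (MulAction.toPerm g).iSup_comp (g := W)
    haveI : C.Normal := Subgroup.normalizer_eq_top_iff.1 (top_le_iff.1
      ((Subgroup.normalizer_eq_top_iff.2 inferInstance).ge.trans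
        (PLocal.normalizer_le_normalizer_centralizer _)))
    let P : Sylow p C := (S.isPGroup'.comap_subtype (K := C)).toSylow fun hd =>
      S.not_dvd_index (hd.trans (Cores.relIndex_dvd_index_of_normal_right _ C))
    have hJC : Cfsg.thompsonSubgroupOf p (S : Subgroup G) ≤ C :=
      (PLocal.thompsonSubgroupOf_sylow_le S).trans h
    have hP : (P : Subgroup C).map C.subtype = (S : Subgroup G) ⊓ C := Subgroup.subgroupOf_map_subtype _ _
    have hJ : Cfsg.thompsonSubgroupOf p ((S : Subgroup G) ⊓ C) = Cfsg.thompsonSubgroupOf p (S : Subgroup G) := by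
      rw [PLocal.thompsonSubgroupOf_eq] at hJC ⊢
      rw [PLocal.thompsonSubgroupOf_eq]
      obtain ⟨A, hA⟩ := PLocal.exists_maxIn (Q := PLocal.elemAb p) PLocal.elemAb_bot (S : Subgroup G)
      refine le_antisymm (sSup_le_sSup (PLocal.maxIn_subset hA (le_inf hA.1 ((le_sSup hA).trans hJC)) inf_le_left))
        (sSup_le fun B hB => le_sSup (PLocal.maxIn_of_mem_le hB (le_inf hB.1 ((le_sSup hB).trans hJC)) inf_le_left))
    have hg : g ∈ Subgroup.normalizer ((P : Subgroup C).map C.subtype : Set G) ⊔ C := by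
      rw [Sylow.normalizer_sup_eq_top]; exact Subgroup.mem_top g
    rw [sup_comm] at hg
    obtain ⟨c, hc, n, hn, rfl⟩ := Subgroup.mem_sup_of_normal_left.1 hg
    refine ⟨1, Subgroup.one_mem _, c,
      Subgroup.centralizer_le (SetLike.coe_subset_coe.2 (le_iSup W S)) hc, n, ?_, (by rw [one_mul])⟩
    rw [← hJ]
    rw [hP] at hn
    exact PLocal.normalizer_le_normalizer_thompsonSubgroupOf _ hn

end Cfsg.Agent.S0608
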