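import Cfsg.Statements.S1160
import Cfsg.Agent.Lib.SuzukiTwo.HalfTransitive

set_option autoImplicit false
open Cfsg Cfsg.Agent

namespace Cfsg.Agent.S1160

/-- Let `p ≠ 2` be prime and `P` a finite `p`-group acting faithfully by additive automorphisms on a finite elementary abelian `q`-group `E` (`q` prime), such that `|P_a|` is the same for all `a ≠ 0`. Then `P` is cyclic and every non-identity element of `P` fixes only `0`. -/
theorem result {P E : Type*} [Group P] [Finite P]
    [AddCommGroup E] [Finite E] [DistribMulAction P E] [FaithfulSMul P E]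
    {p q : ℕ} [Fact p.Prime] (hp2 : p ≠ 2) (hP : IsPGroup p P) (hq : q.Prime) (hE : ∀ e : E, q • e = 0)
    (hconst : ∀ a b : E, a ≠ 0 → b ≠ 0 →
      Nat.card (MulAction.stabilizer P a) = Nat.card (MulAction.stabilizer P b)) :
    IsCyclic P ∧ ∀ g : P, g ≠ 1 → ∀ a : E, g • a = a → a = 0 := by
  classical
  by_cases hpq : q = p
  · subst hpq
    have htriv : ∀ g : P, g = 1 := by
      by_cases hne : Nontrivial E
      · obtain ⟨e, he⟩ := exists_ne (0 : E)
        have hdvd : q ∣ Nat.card E := by
          haveI := Fact.mk hq
          have : addOrderOf e = q := addOrderOf_eq_prime (hE e) he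
          exact this ▸ addOrderOf_dvd_natCard e
        obtain ⟨a, ha, ha0⟩ := hP.exists_fixed_point_of_prime_dvd_card_of_fixed_point E hdvd (a := 0)
          (fun g => smul_zero g)
        intro g
        refine eq_of_smul_eq_smul fun x : E => ?_
        rw [one_smul]
        by_cases hx : x = 0
        · rw [hx, smul_zero]
        have htop : MulAction.stabilizer P a = ⊤ := eq_top_iff.2 fun k _ => ha k
        have h1 := hconst a x (Ne.symm ha0) hx
        rw [htop] at h1
        have h2 : MulAction.stabilizer P x = ⊤ :=
          Subgroup.eq_top_of_card_eq _ (by rw [← h1, Subgroup.card_top])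
        exact (h2 ▸ Subgroup.mem_top g : g ∈ MulAction.stabilizer P x)
      · intro g
        refine eq_of_smul_eq_smul fun x : E => ?_
        exact @Subsingleton.elim _ (not_nontrivial_iff_subsingleton.1 hne) _ _
    haveI : Subsingleton P := ⟨fun a b => by rw [htriv a, htriv b]⟩
    exact ⟨inferInstance, fun g hg => absurd (htriv g) hg⟩
  · have hreg : ∀ x : E, p • x = 0 → x = 0 := fun x hx => by
      have h1 : addOrderOf x ∣ p := addOrderOf_dvd_of_nsmul_eq_zero hx
      have h2 : addOrderOf x ∣ q := addOrderOf_dvd_of_nsmul_eq_zero (hE x)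
      have := Nat.dvd_gcd h1 h2
      rw [Nat.coprime_iff_gcd_eq_one.1 ((Nat.coprime_primes Fact.out hq).2 (Ne.symm hpq)),
        Nat.dvd_one, AddMonoid.addOrderOf_eq_one_iff] at this
      exact this
    by_cases hne : Nontrivial E
    · have hcyc := HalfTrans.isCyclic_of_const hreg hconst hp2 hP
      refine ⟨hcyc, fun g hg a hga => ?_⟩
      by_contra ha
      refine hg (eq_of_smul_eq_smul fun x : E => ?_)
      rw [one_smul]
      by_cases hx : x = 0
      · rw [hx, smul_zero]
      have h := HalfTrans.eq_of_card_eq_of_isCyclic (hconst a x ha hx)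
      exact (h ▸ (hga : g ∈ MulAction.stabilizer P a) : g ∈ MulAction.stabilizer P x)
    · haveI := not_nontrivial_iff_subsingleton.1 hne
      haveI : Subsingleton P := ⟨fun a b => eq_of_smul_eq_smul fun x : E => Subsingleton.elim _ _⟩
      exact ⟨inferInstance, fun g hg => absurd (Subsingleton.elim g 1) hg⟩

end Cfsg.Agent.S1160
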