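import Cfsg.Statements.S4468
import Cfsg.Agent.EqLemmas
import Cfsg.Agent.Lib.HallHigman.PrimeOrderDim
import Cfsg.Agent.Lib.HallHigman.PSolvable
import Cfsg.Agent.Lib.Cores.Basic
import Cfsg.Agent.Lib.CharApp.Burnside
import Cfsg.Agent.Lib.Char.Eigen
import Cfsg.Agent.Lib.PMinimal.Basic
import Cfsg.Agent.Lib.Coprime.Invariant

set_option autoImplicit false
open Cfsg

namespace Cfsg.Agent.S4468

/-- Let the finite p-solvable group G have a faithful character χ of degree n ≤ p − 1 and suppose that a Sylow p-subgroup of G is not normal. Then n = p − 1, n is a power of 2, and χ is irreducible. -/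
theorem result {G : Type*} [Group G] [Finite G] (χ : G → ℂ) (hχ : Cfsg.IsCharacter G χ) (hfaith : ∀ g : G, χ g = χ 1 → g = 1) (n : ℕ) (hn : Cfsg.charDegree χ = n) (p : ℕ) (hp : p.Prime) (hsolv : Cfsg.IsPSolvable p G) (hnp : n + 1 ≤ p) (P : Sylow p G) (hP : ¬ (P : Subgroup G).Normal) : n + 1 = p ∧ (∃ k : ℕ, n = 2 ^ k) ∧ Cfsg.IsIrrCharacter G χ := by
  classical
  haveI := Fact.mk hp
  obtain ⟨d, ρ, rfl⟩ := hχ
  have hd : d = n := by simpa [Cfsg.charDegree, Representation.char_one] using hn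
  subst hd
  have hinj : Function.Injective ρ := by
    rw [injective_iff_map_eq_one]
    intro g hg
    apply hfaith
    simp [Representation.character, hg]
  -- `P` is abelian
  have hPcomm : ∀ a b : ↥(P : Subgroup G), a * b = b * a :=
    CharApp.commute_of_faithful_small (ρ.comp (P : Subgroup G).subtype)
      (hinj.comp Subtype.coe_injective) (fun q hq hqd => by
        obtain ⟨k, hk⟩ := IsPGroup.iff_card.mp P.2
        rw [hk] at hqd
        have := (Nat.prime_dvd_prime_iff_eq hq hp).mp (hq.dvd_of_dvd_pow hqd)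
        rw [Module.finrank_fin_fun]
        omega)
  set K := Cfsg.pPrimeCore p G with hKdef
  have hKp : ¬ p ∣ Nat.card K := Cores.not_dvd_card_pPrimeCore
  have hcop : (Nat.card (P : Subgroup G)).Coprime (Nat.card K) := by
    obtain ⟨k, hk⟩ := IsPGroup.iff_card.mp P.2
    rw [hk]
    exact (hp.coprime_iff_not_dvd.mpr hKp).pow_left k
  -- `P` does not centralise `K`
  have hKc : ∃ a ∈ (P : Subgroup G), ∃ k ∈ K, a * k ≠ k * a := by
    by_contra hcon
    push Not at hcon
    apply hP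
    set π := QuotientGroup.mk' K with hπ
    have hsurj : Function.Surjective π := QuotientGroup.mk'_surjective K
    let Pb : Sylow p (G ⧸ K) := P.mapSurjective hsurj
    have hPb : (Pb : Subgroup (G ⧸ K)) = (P : Subgroup G).map π := rfl
    have hC := HallHigman.centralizer_pCore_quotient_le (p := p)
      (Solvable.isPiSeparable_of_isPSolvable hsolv)
    have hle : (P : Subgroup G).map π ≤ Cfsg.pCore p (G ⧸ K) := by
      refine le_trans ?_ hC
      rintro _ ⟨a, ha, rfl⟩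
      refine Subgroup.mem_centralizer_iff.mpr fun z hz => ?_
      obtain ⟨b, hb, rfl⟩ := hPb ▸ Cores.pCore_le_sylow Pb hz
      rw [← map_mul, ← map_mul]
      exact congrArg π (congrArg Subtype.val (hPcomm ⟨b, hb⟩ ⟨a, ha⟩))
    have hPeq : (P : Subgroup G).map π = Cfsg.pCore p (G ⧸ K) :=
      le_antisymm hle (hPb ▸ Cores.pCore_le_sylow Pb)
    refine ⟨fun a ha g => ?_⟩
    have hy : π (g * a * g⁻¹) ∈ (P : Subgroup G).map π := by
      rw [hPeq, map_mul, map_mul, map_inv]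
      exact (Cores.pCore_normal p (G ⧸ K)).conj_mem _ (hle ⟨a, ha, rfl⟩) _
    obtain ⟨b, hb, hbe⟩ := hy
    have hk : b⁻¹ * (g * a * g⁻¹) ∈ K := QuotientGroup.eq.mp hbe
    set k := b⁻¹ * (g * a * g⁻¹) with hkdef
    have hbk : g * a * g⁻¹ = b * k := by rw [hkdef]; group
    have hkN : k ^ Nat.card (P : Subgroup G) = 1 := by
      have h1 : ∀ c ∈ (P : Subgroup G), c ^ Nat.card (P : Subgroup G) = 1 := fun c hc =>
        orderOf_dvd_iff_pow_eq_one.mp (Subgroup.orderOf_dvd_natCard _ hc)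
      have h2 : (g * a * g⁻¹) ^ Nat.card (P : Subgroup G) = 1 := by
        rw [conj_pow, h1 a ha]; group
      rw [hbk, (show Commute b k from hcon b hb k hk).mul_pow, h1 b hb, one_mul] at h2
      exact h2
    have hk1 : k = 1 := orderOf_eq_one_iff.mp (Nat.eq_one_of_dvd_coprimes hcop
      (orderOf_dvd_of_pow_eq_one hkN) (Subgroup.orderOf_dvd_natCard K hk))
    rw [hbk, hk1, mul_one]
    exact hb
  -- an invariant Sylow subgroup of `K` not centralised by `P`
  obtain ⟨q, hq, Q, hQq, hqp, hPQ, g₀, hg₀, a₀, ha₀, hne₀⟩ : ∃ q : ℕ, q.Prime ∧ ∃ Q : Subgroup G,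
      IsPGroup q Q ∧ q ≠ p ∧ (P : Subgroup G) ≤ Subgroup.normalizer (Q : Set G) ∧
      ∃ g ∈ Q, ∃ a ∈ (P : Subgroup G), a * g ≠ g * a := by
    by_contra hcon
    push Not at hcon
    obtain ⟨a, ha, k, hk, hne⟩ := hKc
    have hall : (Subgroup.centralizer ((P : Subgroup G) : Set G)).subgroupOf K = ⊤ := by
      refine PMinimal.eq_top_of_forall_sylow _ fun q hq hqd => ?_
      haveI := Fact.mk hq
      haveI : K.Normal := Cores.pPrimeCore_normal p G
      obtain ⟨S, hS⟩ := Coprime.exists_invariant_sylow (A := (P : Subgroup G)) (K := K)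
        (by rw [Subgroup.normalizer_eq_top K]; exact le_top) hcop
        (Or.inl (Group.isSolvable_of_comm hPcomm)) q
      refine ⟨S, fun s hs => ?_⟩
      rw [Subgroup.mem_subgroupOf, Subgroup.mem_centralizer_iff]
      exact fun a ha => hcon q hq _ (S.2.map _) (fun h => hKp (h ▸ hqd)) hS (s : G)
        ⟨s, hs, rfl⟩ a ha
    have h1 := hall ▸ Subgroup.mem_top (⟨k, hk⟩ : K)
    rw [Subgroup.mem_subgroupOf, Subgroup.mem_centralizer_iff] at h1
    exact hne (h1 a ha)
  haveI := Fact.mk hq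
  -- an element of `P` outside the centraliser, with its `p`-th power inside
  obtain ⟨x, hxP, hxC, hxpC⟩ : ∃ x ∈ (P : Subgroup G),
      x ∉ Subgroup.centralizer (Q : Set G) ∧ x ^ p ∈ Subgroup.centralizer (Q : Set G) := by
    have hex : ∃ k, a₀ ^ p ^ k ∈ Subgroup.centralizer (Q : Set G) := by
      obtain ⟨k, hk⟩ := P.2 ⟨a₀, ha₀⟩
      have hk' : a₀ ^ p ^ k = 1 := congrArg Subtype.val hk
      exact ⟨k, hk'.symm ▸ one_mem _⟩
    have hne0 : Nat.find hex ≠ 0 := fun h0 => by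
      have h1 := Nat.find_spec hex
      rw [h0, pow_zero, pow_one] at h1
      exact hne₀ (Subgroup.mem_centralizer_iff.mp h1 g₀ hg₀).symm
    obtain ⟨j, hj⟩ := Nat.exists_eq_succ_of_ne_zero hne0
    refine ⟨a₀ ^ p ^ j, pow_mem ha₀ _, Nat.find_min hex (by omega), ?_⟩
    rw [← pow_mul, ← pow_succ]
    have h1 := Nat.find_spec hex
    rwa [hj] at h1
  obtain ⟨g, hg, hne⟩ : ∃ g ∈ Q, x * g ≠ g * x := by
    by_contra hcon
    push Not at hcon
    exact hxC (Subgroup.mem_centralizer_iff.mpr fun g hg => (hcon g hg).symm)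
  -- an eigenspace of `x ^ p` on which they do not commute
  obtain ⟨b, μ, hμ, hroot⟩ := Char.exists_eigenbasis ρ (x ^ p)
  obtain ⟨i, hi⟩ : ∃ i, ρ (x * g) (b i) ≠ ρ (g * x) (b i) := by
    by_contra hcon
    push Not at hcon
    exact hne (hinj (b.ext hcon))
  set W := Module.End.eigenspace (ρ (x ^ p)) (μ i) with hWdef
  have hbW : b i ∈ W := Module.End.mem_eigenspace_iff.mpr (hμ i)
  have hstab : ∀ h : G, Commute h (x ^ p) → h ∈ HallHigman.stabSub ρ W := by
    intro h hh u hu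
    rw [hWdef, Module.End.mem_eigenspace_iff] at hu ⊢
    calc ρ (x ^ p) (ρ h u) = ρ (x ^ p * h) u := by rw [map_mul]; rfl
      _ = ρ (h * x ^ p) u := by rw [hh.eq]
      _ = μ i • ρ h u := by rw [map_mul, Module.End.mul_apply, hu, map_smul]
  set H := HallHigman.stabSub ρ W
  have hQH : Q ≤ H := fun c hc =>
    hstab c (Subgroup.mem_centralizer_iff.mp hxpC c hc)
  have hxH : x ∈ H := hstab x ((Commute.refl x).pow_right p)
  set σ := HallHigman.restrictHom ρ W
  set T₀ : Module.End ℂ W := σ ⟨x, hxH⟩ with hT₀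
  have hσ : ∀ (h : H) (w : W), ((σ h w : W) : Fin d → ℂ) = ρ (h : G) w := fun h w => rfl
  have hT₀p : T₀ ^ p = μ i • 1 := by
    rw [hT₀, ← map_pow]
    refine LinearMap.ext fun w => Subtype.ext ?_
    rw [hσ, SubgroupClass.coe_pow]
    exact Module.End.mem_eigenspace_iff.mp w.2
  have hμ0 : μ i ≠ 0 := by
    intro h
    have h1 := hroot i
    rw [h, zero_pow (orderOf_pos (x ^ p)).ne'] at h1
    exact zero_ne_one h1
  have hWn : Module.finrank ℂ W ≤ d := le_trans (Submodule.finrank_le _) (by simp)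
  -- a `p`-th root of the eigenvalue which is not an eigenvalue of `x`
  obtain ⟨c, hc, hcev⟩ : ∃ c : ℂ, c ^ p = μ i ∧ ∀ w : W, T₀ w = c • w → w = 0 := by
    by_contra hcon
    push Not at hcon
    obtain ⟨ν, hν⟩ := IsAlgClosed.exists_pow_nat_eq (μ i) hp.pos
    obtain ⟨ζ, hζ⟩ : ∃ ζ : ℂ, IsPrimitiveRoot ζ p :=
      ⟨_, Complex.isPrimitiveRoot_exp p hp.ne_zero⟩
    have hν0 : ν ≠ 0 := by
      intro h
      exact hμ0 (by rw [← hν, h, zero_pow hp.ne_zero])
    have hcp : ∀ j : Fin p, (ν * ζ ^ (j : ℕ)) ^ p = μ i := fun j => by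
      rw [mul_pow, hν, ← pow_mul, mul_comm (j : ℕ) p, pow_mul, hζ.pow_eq_one, one_pow, mul_one]
    choose v hv hv0 using fun j : Fin p => hcon _ (hcp j)
    have hli := Module.End.eigenvectors_linearIndependent' T₀ (fun j : Fin p => ν * ζ ^ (j : ℕ))
      (fun j k h => Fin.ext (hζ.pow_inj j.2 k.2 (mul_left_cancel₀ hν0 h))) v
      (fun j => ⟨Module.End.mem_eigenspace_iff.mpr (hv j), hv0 j⟩)
    have := hli.fintype_card_le_finrank
    rw [Fintype.card_fin] at this
    omega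
  have hc0 : c ≠ 0 := fun h => hμ0 (by rw [← hc, h, zero_pow hp.ne_zero])
  let u : ℂˣ := (Units.mk0 c hc0)⁻¹
  have hufin : IsOfFinOrder u := by
    refine isOfFinOrder_iff_pow_eq_one.mpr
      ⟨p * orderOf (x ^ p), Nat.mul_pos hp.pos (orderOf_pos _), Units.ext ?_⟩
    simp only [u, Units.val_pow_eq_pow_val, Units.val_inv_eq_inv_val, Units.val_mk0, Units.val_one,
      inv_pow]
    rw [pow_mul, hc, hroot i, inv_one]
  haveI : Finite (Subgroup.zpowers u) := hufin.finite_zpowers.to_subtype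
  let Φ : H × Subgroup.zpowers u →* Module.End ℂ W :=
    { toFun := fun hc => ((hc.2 : ℂˣ) : ℂ) • σ hc.1
      map_one' := by simp
      map_mul' := fun a b => by simp [smul_smul, mul_comm] }
  set f := Φ.toHomUnits with hf
  haveI : Finite f.range := Finite.of_surjective f.rangeRestrict f.rangeRestrict_surjective
  let ρ' : f.range →* Module.End ℂ W := (Units.coeHom (Module.End ℂ W)).comp f.range.subtype
  have hρ' : ∀ y, ρ' (f.rangeRestrict y) = ((y.2 : ℂˣ) : ℂ) • σ y.1 := fun y => rfl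
  let y₀ : H × Subgroup.zpowers u := (⟨x, hxH⟩, ⟨u, Subgroup.mem_zpowers u⟩)
  set x' := f.rangeRestrict y₀ with hx'
  have hT : ρ' x' = c⁻¹ • T₀ := by
    rw [hx', hρ']
    simp [y₀, u, T₀]
  have hTp : (c⁻¹ • T₀) ^ p = 1 := by
    rw [smul_pow, hT₀p, smul_smul, inv_pow, hc, inv_mul_cancel₀ hμ0, one_smul]
  have hx'p : x' ^ p = 1 :=
    Subtype.ext (Units.ext (show ρ' (x' ^ p) = 1 by rw [map_pow, hT, hTp]))
  set Q₀ : Subgroup (H × Subgroup.zpowers u) := (Q.subgroupOf H).prod ⊥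
  set Q' := Q₀.map f.rangeRestrict
  have hQ'q : IsPGroup q Q' := by
    refine IsPGroup.map (fun y => ?_) _
    obtain ⟨⟨h, e⟩, hh, he⟩ := y
    obtain ⟨k, hk⟩ := hQq ⟨(h : G), hh⟩
    refine ⟨k, Subtype.ext (Prod.ext (Subtype.ext ?_) ?_)⟩
    · simpa using congrArg Subtype.val hk
    · obtain rfl : e = 1 := Subgroup.mem_bot.mp he
      simp
  have hxN : x' ∈ Subgroup.normalizer (Q' : Set f.range) := by
    refine Subgroup.le_normalizer_map f.rangeRestrict ⟨y₀, ?_, rfl⟩
    rw [SetLike.mem_coe, Subgroup.mem_normalizer_iff]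
    intro y
    simp only [Q₀, y₀, Subgroup.mem_prod, Subgroup.mem_subgroupOf, Subgroup.mem_bot]
    refine and_congr ?_ ?_
    · exact Subgroup.mem_normalizer_iff.mp (hPQ hxP) (y.1 : G)
    · rw [Prod.snd_mul, Prod.snd_mul, Prod.snd_inv, mul_comm _ y.2, mul_inv_cancel_right]
  have hsum : ∑ j ∈ Finset.range p, ρ' (x' ^ j) = 0 := by
    simp only [map_pow, hT]
    refine LinearMap.ext fun w => ?_
    apply hcev
    have h1 := LinearMap.congr_fun (mul_geom_sum (c⁻¹ • T₀) p) w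
    rw [hTp, sub_self, LinearMap.zero_apply, Module.End.mul_apply, LinearMap.sub_apply,
      Module.End.one_apply, sub_eq_zero, LinearMap.smul_apply, inv_smul_eq_iff₀ hc0] at h1
    exact h1
  have hne' : ∃ e ∈ Q', ¬ Commute (ρ' x') (ρ' e) := by
    refine ⟨f.rangeRestrict (⟨g, hQH hg⟩, 1), Subgroup.mem_map_of_mem _
      ⟨hg, Subgroup.mem_bot.mpr rfl⟩, fun hcomm => hi ?_⟩
    rw [hT, hρ'] at hcomm
    simp only [OneMemClass.coe_one, Units.val_one, one_smul] at hcomm
    have h1 : T₀ * σ ⟨g, hQH hg⟩ = σ ⟨g, hQH hg⟩ * T₀ := by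
      have h2 := hcomm.eq
      rw [smul_mul_assoc, mul_smul_comm] at h2
      exact smul_right_injective _ (inv_ne_zero hc0) h2
    have h3 := congrArg Subtype.val (LinearMap.congr_fun h1 ⟨b i, hbW⟩)
    simpa [map_mul, T₀, hσ] using h3
  obtain ⟨-, m, hm, W₀, hW₀, hsimp⟩ := HallHigman.fermat_dim_of_not_commute ρ' Q' x' hxN hx'p
    (Nat.cast_ne_zero.mpr hp.ne_zero) hqp (Nat.cast_ne_zero.mpr hq.ne_zero) hQ'q hsum hne'
  have h1 : Module.finrank ℂ W₀ ≤ Module.finrank ℂ W := Submodule.finrank_le _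
  have hdeq : d + 1 = p := by omega
  refine ⟨hdeq, ⟨m, by omega⟩, d, ρ, ?_, rfl⟩
  have hW₀top : W₀ = ⊤ := Submodule.eq_top_of_finrank_eq (by omega)
  have hWtop : W = ⊤ := Submodule.eq_top_of_finrank_eq (by simp; omega)
  have hd0 : 0 < d := by have := hp.two_le; omega
  refine @IsSimpleOrder.mk _ _ _ ⟨⟨⊥, ⊤, fun he => ?_⟩⟩ fun U => ?_
  · have he' : (⊥ : Submodule ℂ (Fin d → ℂ)) = ⊤ := congrArg Subrepresentation.toSubmodule he
    have h1 : (fun _ : Fin d => (1 : ℂ)) ∈ (⊥ : Submodule ℂ (Fin d → ℂ)) :=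
      he'.symm ▸ Submodule.mem_top
    exact one_ne_zero (α := ℂ) (congrFun ((Submodule.mem_bot ℂ).mp h1) ⟨0, hd0⟩)
  · have hinv : ∀ e ∈ Q', ∀ w ∈ U.toSubmodule.comap W.subtype,
        ρ' e w ∈ U.toSubmodule.comap W.subtype := by
      rintro _ ⟨⟨h, e⟩, ⟨-, he⟩, rfl⟩ w hw
      obtain rfl : e = 1 := Subgroup.mem_bot.mp he
      rw [hρ']
      simp only [OneMemClass.coe_one, Units.val_one, one_smul]
      exact U.apply_mem_toSubmodule (h : G) hw
    rcases hsimp (U.toSubmodule.comap W.subtype) (hW₀top ▸ le_top) hinv with h | h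
    · left
      apply Subrepresentation.toSubmodule_injective
      refine (Submodule.eq_bot_iff _).mpr fun w hw => ?_
      have hwW : w ∈ W := hWtop ▸ Submodule.mem_top
      have : (⟨w, hwW⟩ : W) ∈ (⊥ : Submodule ℂ W) := h ▸ hw
      exact congrArg Subtype.val ((Submodule.mem_bot ℂ).mp this)
    · right
      apply Subrepresentation.toSubmodule_injective
      refine Submodule.eq_top_iff'.mpr fun w => ?_
      have hwW : w ∈ W := hWtop ▸ Submodule.mem_top
      exact (show (⟨w, hwW⟩ : W) ∈ U.toSubmodule.comap W.subtype from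
        h.symm ▸ hW₀top.symm ▸ Submodule.mem_top)

end Cfsg.Agent.S4468
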