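import Cfsg.Statements.S4504
import Cfsg.Agent.Lib.HalfDegree.Reduction

set_option autoImplicit false
open Cfsg

namespace Cfsg.Agent.S4504

/-- Let G be a finite group whose order is divisible by the prime p exactly once and which has no normal subgroup of order p. If G has a faithful character of degree exactly (p − 1)/2, then G modulo its centre is isomorphic to PSL(2, p). -/
theorem result {G : Type*} [Group G] [Finite G] (p : ℕ) (hp : p.Prime) (hdiv : p ∣ Nat.card G) (hsq : ¬ p ^ 2 ∣ Nat.card G) (hnn : ∀ H : Subgroup G, H.Normal → Nat.card H ≠ p) (χ : G → ℂ) (hχ : Cfsg.IsCharacter G χ) (hfaith : ∀ g : G, χ g = χ 1 → g = 1) (hdeg : 2 * Cfsg.charDegree χ + 1 = p) : Nonempty ((G ⧸ Subgroup.center G) ≃* Matrix.ProjectiveSpecialLinearGroup (Fin 2) (ZMod p)) := by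
  classical
  have := Fact.mk hp
  have := Fintype.ofFinite G
  rcases Nat.lt_or_ge (charDegree χ) 2 with hlt | hge
  · exfalso
    have hp2 := hp.two_le
    have hd1 : charDegree χ = 1 := by omega
    obtain ⟨l, rfl⟩ := Agent.Char.exists_hom_of_degree_one hχ (by
      rw [← Agent.RealBlock.charDegree_cast hχ, hd1, Nat.cast_one])
    obtain ⟨x, hx⟩ := exists_prime_orderOf_dvd_card' p hdiv
    refine hnn (Subgroup.zpowers x) ⟨fun a ha c => ?_⟩ (by rw [Nat.card_zpowers, hx])
    have hcomm : c * a * c⁻¹ * a⁻¹ = 1 := hfaith _ (by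
      simp only [map_mul, map_one]
      have h1 : l c * l c⁻¹ = 1 := by rw [← map_mul, mul_inv_cancel, map_one]
      have h2 : l a * l a⁻¹ = 1 := by rw [← map_mul, mul_inv_cancel, map_one]
      linear_combination (l a * l a⁻¹) * h1 + h2)
    rw [mul_inv_eq_one] at hcomm
    rwa [hcomm]
  · exact Agent.HalfDegree.quotient_psl hdiv hsq hnn hχ hfaith rfl (by omega) hge

end Cfsg.Agent.S4504
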