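import Cfsg.Statements.S4499
import Cfsg.Agent.Lib.BlockDefect.RegInner
import Cfsg.Agent.Lib.Char.PRegular

set_option autoImplicit false
open Cfsg

namespace Cfsg.Agent.S4499

/-- Let G be a finite group whose order has p-part p^a (a ≥ 1), and fix a maximal ideal M of the algebraic integers containing p. If the degree of one irreducible character of a p-block B is divisible by p^(a−1), then the degree of every irreducible character in B is divisible by p^(a−1) (so B has defect at most 1). -/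
theorem result {G : Type*} [Group G] [Finite G] (p : ℕ) [Fact p.Prime] (M : Ideal Cfsg.AlgInt) (hM : Cfsg.IsPModular p M) (hpa : p ∣ Nat.card G) (B : Set (Cfsg.IrrCharacter G)) (hB : Cfsg.IsPBlock M B) (χ : Cfsg.IrrCharacter G) (hχ : χ ∈ B) (hdiv : p ^ ((Nat.card G).factorization p - 1) ∣ Cfsg.charDegree (χ : G → ℂ)) (ψ : Cfsg.IrrCharacter G) (hψ : ψ ∈ B) : p ^ ((Nat.card G).factorization p - 1) ∣ Cfsg.charDegree (ψ : G → ℂ) := by
  classical
  have := Fintype.ofFinite G
  have := Fintype.ofFinite (IrrCharacter G)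
  set a := (Nat.card G).factorization p with ha
  have hp : p.Prime := hM.1
  have ha1 : 1 ≤ a := hp.factorization_pos_of_dvd Nat.card_pos.ne' hpa
  obtain ⟨e, h, φ, hφ, hea, -, hdeg, hh, hall⟩ := BlockDefect.exists_degrees hM hB
  by_contra hcon
  have he2 : e + 1 < a := by
    by_contra hle
    exact hcon (dvd_trans (pow_dvd_pow p (by omega)) (hall ψ hψ))
  obtain ⟨k, hk⟩ := hdiv
  have hreps : ∀ χ' : IrrCharacter G, ¬ p ^ (a - 1) ∣ charDegree (χ' : G → ℂ) → χ' ≠ χ := by
    rintro χ' hn rfl; exact hn ⟨k, hk⟩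
  have hnotsingle : ¬ blockOf M (χ : G → ℂ) = {χ} := by
    intro hs
    have := Blocks.isPBlock_eq_blockOf hM hB hχ
    rw [this, hs, Set.mem_singleton_iff] at hψ
    exact hreps ψ hcon hψ
  have hpk : ¬ p ∣ k := by
    rintro ⟨r, hr⟩
    refine hnotsingle ((Blocks.singleton_iff_not_dvd hM χ).mp ?_)
    intro hd
    have hd' : p ^ a ∣ charDegree (χ : G → ℂ) := ⟨r, by
      rw [hk, hr, ← mul_assoc, ← pow_succ, Nat.sub_add_cancel ha1]⟩
    have := Nat.mul_dvd_mul hd' hd
    rw [Nat.mul_div_cancel' (Blocks.charDegree_dvd_card χ), ← pow_succ] at this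
    have := (hp.pow_dvd_iff_le_factorization Nat.card_pos.ne').mp this
    omega
  obtain ⟨m, hm, hN⟩ : ∃ m, ¬ p ∣ m ∧ Nat.card G = p ^ a * m :=
    ⟨_, Nat.not_dvd_ordCompl hp Nat.card_pos.ne', (Nat.ordProj_mul_ordCompl_eq_self _ p).symm⟩
  have hp0 : (p : ℂ) ≠ 0 := Nat.cast_ne_zero.mpr hp.ne_zero
  have hm0 : (m : ℂ) ≠ 0 := Nat.cast_ne_zero.mpr fun h0 => hm (h0 ▸ dvd_zero p)
  have hh0 : (h : ℂ) ≠ 0 := Nat.cast_ne_zero.mpr fun h0 => hh (h0 ▸ dvd_zero p)
  have hk0 : k ≠ 0 := fun h0 => hpk (h0 ▸ dvd_zero p)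
  have hchi1 : (χ : G → ℂ) 1 = (p : ℂ) ^ (a - 1) * (k : ℂ) := by
    rw [← Blocks.charDegree_cast, hk]; push_cast; rfl
  have hphi1 : (φ : G → ℂ) 1 = (p : ℂ) ^ e * (h : ℂ) := by
    rw [← Blocks.charDegree_cast, hdeg]; push_cast; rfl
  -- the rational integer
  obtain ⟨z, hz⟩ := Char.IsGeneralizedCharacter.classInner_int
    (Char.isGeneralizedCharacter_regularPart hp χ.2 (Blocks.charDegree_cast χ).symm)
    (Char.isGeneralizedCharacter_of_isCharacter (Char.IsIrrCharacter.isCharacter χ.2))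
  have hv : (Nat.card G).factorization p - (charDegree (χ : G → ℂ)).factorization p = 1 := by
    rw [hk, Nat.factorization_mul (pow_ne_zero _ hp.ne_zero) hk0, Finsupp.add_apply,
      Nat.Prime.factorization_pow hp, Finsupp.single_eq_same, Nat.factorization_eq_zero_of_not_dvd hpk,
      ← ha]
    omega
  rw [hv, pow_one] at hz
  have hzn : (z : ℂ) = (p : ℂ) * BlockDefect.regInner p (χ : G → ℂ) (χ : G → ℂ) := by
    rw [← hz, BlockDefect.regInner_comm]
    unfold classInner BlockDefect.regInner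
    rw [mul_left_comm]
    congr 1
    rw [Finset.mul_sum]
    refine Finset.sum_congr rfl fun x _ => ?_
    simp only [BlockDefect.regFun]
    split_ifs
    · ring
    · rw [Char.IsCharacter.apply_inv (Char.IsIrrCharacter.isCharacter χ.2)]; ring
  -- it lies in the local ideal
  have hzI : MemLocalIdeal M (z : ℂ) := by
    have hw : MemLocalIdeal M
        (Blocks.omega (φ : G → ℂ) (BlockDefect.regFun p (χ : G → ℂ))) := by
      obtain ⟨j, hj⟩ := Nat.exists_eq_add_of_lt he2
      have e2 : Blocks.omega (φ : G → ℂ) (BlockDefect.regFun p (χ : G → ℂ)) =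
          (p : ℂ) * ((p : ℂ) ^ j * ((m : ℂ) * ((h : ℂ)⁻¹ *
            ((p : ℂ) * BlockDefect.regInner p (χ : G → ℂ) (φ : G → ℂ))))) := by
        rw [BlockDefect.regInner_eq_omega (χ : G → ℂ) φ, hphi1, hN, hj]
        push_cast
        field_simp
        ring
      rw [e2]
      refine Blocks.memI_mul_right hM (Blocks.memI_p hM) (Blocks.memR_mul hM
        (Blocks.memR_pow hM (Blocks.memR_natCast hM p) j) (Blocks.memR_mul hM (Blocks.memR_natCast hM m)
          (Blocks.memR_mul hM (Blocks.memR_natCast_inv hM hh) ?_)))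
      have e3 : (p : ℂ) * BlockDefect.regInner p (χ : G → ℂ) (φ : G → ℂ) =
          (k : ℂ) * ((m : ℂ)⁻¹ * Blocks.omega (χ : G → ℂ) (BlockDefect.regFun p (φ : G → ℂ))) := by
        rw [BlockDefect.regInner_comm, BlockDefect.regInner_eq_omega (φ : G → ℂ) χ, hchi1, hN,
          show (p : ℂ) ^ (a - 1) = (p : ℂ) ^ a / p by
            rw [eq_div_iff hp0, ← pow_succ, Nat.sub_add_cancel ha1]]
        push_cast
        field_simp
      rw [e3]
      exact Blocks.memR_mul hM (Blocks.memR_natCast hM k) (Blocks.memR_mul hM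
        (Blocks.memR_natCast_inv hM hm) (Blocks.memR_omega hM
          (BlockDefect.isClassFunction_regFun (Blocks.irr_class φ)) (BlockDefect.memR_regFun hM φ) χ))
    have e1 : (z : ℂ) = (k : ℂ) * ((m : ℂ)⁻¹ *
        Blocks.omega (χ : G → ℂ) (BlockDefect.regFun p (χ : G → ℂ))) := by
      rw [hzn, BlockDefect.regInner_eq_omega (χ : G → ℂ) χ, hchi1, hN,
        show (p : ℂ) ^ (a - 1) = (p : ℂ) ^ a / p by
          rw [eq_div_iff hp0, ← pow_succ, Nat.sub_add_cancel ha1]]
      push_cast
      field_simp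
    rw [e1]
    refine Blocks.memI_mul_left hM (Blocks.memR_natCast hM k)
      (Blocks.memI_mul_left hM (Blocks.memR_natCast_inv hM hm) ?_)
    exact (Blocks.memI_iff_of_sub hM (BlockDefect.memI_omega_sub hM
      (BlockDefect.isClassFunction_regFun (Blocks.irr_class χ)) (BlockDefect.memR_regFun hM χ)
      (Blocks.sameBlock_of_mem hM hB hχ hφ))).mpr hw
  -- but it is strictly between zero and `p`
  let w : G → ℝ := fun x => if p ∣ orderOf x then 0 else Complex.normSq ((χ : G → ℂ) x)
  have hzr : (z : ℝ) = (p : ℝ) * ((Nat.card G : ℝ)⁻¹ * ∑ x, w x) := by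
    apply Complex.ofReal_injective
    push_cast
    rw [hzn]
    unfold BlockDefect.regInner
    congr 2
    refine Finset.sum_congr rfl fun x _ => ?_
    simp only [BlockDefect.regFun, w]
    split_ifs
    · simp
    · rw [Char.IsCharacter.apply_inv (Char.IsIrrCharacter.isCharacter χ.2), Complex.normSq_eq_conj_mul_self]
  have hGpos : (0 : ℝ) < Nat.card G := Nat.cast_pos.mpr Nat.card_pos
  have htot : ∑ x, Complex.normSq ((χ : G → ℂ) x) = (Nat.card G : ℝ) := by
    apply Complex.ofReal_injective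
    push_cast
    have := Char.card_mul_classInner (χ : G → ℂ) (χ : G → ℂ)
    rw [Char.classInner_irr_self χ.2, mul_one] at this
    rw [this]
    exact Finset.sum_congr rfl fun x _ => by rw [Complex.normSq_eq_conj_mul_self]; ring
  have hwlt : ∑ x, w x < (Nat.card G : ℝ) := by
    rw [← htot]
    obtain ⟨y, hy, hy0⟩ : ∃ y : G, p ∣ orderOf y ∧ (χ : G → ℂ) y ≠ 0 := by
      by_contra hno
      push Not at hno
      obtain ⟨P⟩ := (inferInstance : Nonempty (Sylow p G))
      have h1 := BlockDefect.sum_pGroup_eq_apply_one (H := (P : Subgroup G)) hp P.isPGroup' hno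
      obtain ⟨r, hr⟩ := BlockDefect.sum_subgroup_eq (Char.IsIrrCharacter.isCharacter χ.2) (P : Subgroup G)
      rw [hr, P.card_eq_multiplicity, hchi1, ← ha] at h1
      have h2 : p ^ a * r = p ^ (a - 1) * k := by exact_mod_cast h1
      rw [← Nat.sub_add_cancel ha1, pow_succ, mul_assoc, Nat.add_sub_cancel] at h2
      exact hpk ⟨r, (Nat.eq_of_mul_eq_mul_left (pow_pos hp.pos _) h2).symm⟩
    refine Finset.sum_lt_sum (fun x _ => ?_) ⟨y, Finset.mem_univ _, ?_⟩
    · simp only [w]; split_ifs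
      · exact Complex.normSq_nonneg _
      · exact le_rfl
    · simp only [w, if_pos hy]; exact Complex.normSq_pos.mpr hy0
  have hwpos : 0 < ∑ x, w x := by
    refine Finset.sum_pos' (fun x _ => ?_) ⟨1, Finset.mem_univ _, ?_⟩
    · simp only [w]; split_ifs
      · exact le_rfl
      · exact Complex.normSq_nonneg _
    · simp only [w, orderOf_one, Nat.dvd_one, hp.ne_one, if_false]
      exact Complex.normSq_pos.mpr (Blocks.irr_one_ne_zero χ)
  have hz0 : 0 < z := by
    have : (0 : ℝ) < z := by rw [hzr]; exact mul_pos (by exact_mod_cast hp.pos) (mul_pos (inv_pos.mpr hGpos) hwpos)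
    exact_mod_cast this
  have hzp : z < p := by
    have : (z : ℝ) < (p : ℝ) := by
      rw [hzr]
      refine mul_lt_of_lt_one_right (by exact_mod_cast hp.pos) ?_
      rwa [inv_mul_lt_one₀ hGpos]
    exact_mod_cast this
  obtain ⟨n, rfl⟩ := Int.eq_ofNat_of_zero_le hz0.le
  push_cast at hzI
  have hpn := Nat.le_of_dvd (by exact_mod_cast hz0) ((Blocks.memI_natCast hM).mp hzI)
  omega

end Cfsg.Agent.S4499
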