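import Cfsg.Statements.S4500
import Cfsg.Agent.S4499
import Cfsg.Agent.Lib.BrauerPairs.Basic
import Cfsg.Agent.Lib.CharApp.Burnside
import Cfsg.Agent.Lib.CentralChar.Fixed

set_option autoImplicit false
open Cfsg

namespace Cfsg.Agent.S4500

theorem linear_of_solvable {G : Type*} [Group G] [Finite G] [Nontrivial G] (h : Group.IsSolvable G) (q : ℕ) :
    ∃ χ : IrrCharacter G, (χ : G → ℂ) ≠ (fun _ => 1) ∧ ∃ k : ℕ, charDegree (χ : G → ℂ) = q ^ k := by
  classical
  have := h
  obtain ⟨g, -, hg⟩ := SetLike.exists_of_lt (Group.IsSolvable.commutator_lt_top_of_nontrivial G)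
  have hne : Abelianization.of g ≠ 1 := fun h1 => hg (by
    rw [← Abelianization.ker_of]; exact h1)
  haveI : NeZero (Monoid.exponent (Abelianization G) : ℂ) :=
    ⟨Nat.cast_ne_zero.mpr Monoid.exponent_ne_zero_of_finite⟩
  obtain ⟨φ, hφ⟩ := CommGroup.exists_apply_ne_one_of_hasEnoughRootsOfUnity (Abelianization G) ℂ hne
  let l : G →* ℂ := (Units.coeHom ℂ).comp (φ.comp Abelianization.of)
  refine ⟨⟨l, Char.isIrrCharacter_of_hom l⟩, fun he => hφ (Units.val_eq_one.mp (congrFun he g)), 0, ?_⟩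
  simp [charDegree]

theorem exists_prime_power {G : Type*} [Group G] [Finite G] [Nontrivial G] (p q r a b c : ℕ) (hp : p.Prime)
    (hq : q.Prime) (hr : r.Prime) (ha : a ≤ 2) (hG : Nat.card G = p ^ a * q ^ b * r ^ c)
    (hpq : p ≠ q) (hpr : p ≠ r) :
    ∃ χ : IrrCharacter G, (χ : G → ℂ) ≠ (fun _ => 1) ∧ ∃ k : ℕ, charDegree (χ : G → ℂ) = q ^ k := by
  classical
  have := Fintype.ofFinite G
  have := Fintype.ofFinite (IrrCharacter G)
  have := Fact.mk hp
  have := Fact.mk hr
  rcases Nat.eq_zero_or_pos a with ha0 | ha0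
  · exact linear_of_solvable (CharApp.isSolvable_of_card_eq_prime_pow_mul q r hq hr _ G rfl b c
      (by rw [hG, ha0, pow_zero, one_mul])) q
  have hpG : p ∣ Nat.card G := hG ▸ dvd_mul_of_dvd_left (dvd_mul_of_dvd_left (dvd_pow_self p ha0.ne') _) _
  have hfac : (Nat.card G).factorization p = a := by
    rw [hG, Nat.factorization_mul (by simp [hp.ne_zero, hq.ne_zero]) (by simp [hr.ne_zero]),
      Nat.factorization_mul (by simp [hp.ne_zero]) (by simp [hq.ne_zero]),
      hp.factorization_pow, hq.factorization_pow, hr.factorization_pow]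
    simp [hpq.symm, hpr.symm]
  obtain ⟨M, hM⟩ := CentralChar.exists_pModular p
  obtain ⟨R, hR⟩ := CentralChar.exists_pModular r
  have hB := BrauerPairs.isPBlock_principal (G := G) (M := M)
  have h1 := BrauerPairs.oneIrr_mem_principal (G := G) hM
  have hd1 : charDegree ((BrauerPairs.oneIrr G : IrrCharacter G) : G → ℂ) = 1 := by
    simp [charDegree, BrauerPairs.oneIrr]
  have hpdeg : ∀ χ ∈ principalBlock M G, ¬ p ∣ charDegree (χ : G → ℂ) := by
    intro χ hχ hdvd
    rcases (by omega : a = 1 ∨ a = 2) with h | h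
    · have hs := (Blocks.singleton_iff_not_dvd hM χ).mp (fun hd => by
        have h2 := Nat.mul_dvd_mul hdvd hd
        rw [Nat.mul_div_cancel' (Blocks.charDegree_dvd_card χ), ← pow_two,
          hp.pow_dvd_iff_le_factorization Nat.card_pos.ne', hfac] at h2
        omega)
      rw [Blocks.isPBlock_eq_blockOf hM hB hχ, hs, Set.mem_singleton_iff] at h1
      rw [← h1, hd1] at hdvd
      exact hp.not_dvd_one hdvd
    · have := S4499.result p M hM hpG _ hB χ hχ (by rw [hfac, h]; simpa using hdvd) _ h1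
      rw [hfac, h, hd1] at this
      exact hp.not_dvd_one (by simpa using this)
  obtain ⟨y, hy⟩ := exists_prime_orderOf_dvd_card' p hpG
  have h := Blocks.weak_orth hM (Blocks.blockInd_mem_intRing hM hB) (x := 1) (y := y)
    (by simpa using hp.ne_one) (by rw [hy])
  rw [finsum_mem_eq_finite_toFinset_sum _ (Set.toFinite _),
    ← Finset.add_sum_erase _ _ ((Set.toFinite _).mem_toFinset.mpr h1)] at h
  by_contra hcon
  push Not at hcon
  refine Blocks.not_memI_one hR (M := R) ?_
  have hrest : MemLocalIdeal R (∑ χ ∈ (Set.toFinite (principalBlock M G)).toFinset.erase (BrauerPairs.oneIrr G),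
      (χ : G → ℂ) 1 * (starRingEnd ℂ) ((χ : G → ℂ) y)) := by
    refine Blocks.memI_sum hR _ fun χ hχ => ?_
    obtain ⟨hne, hmem⟩ := Finset.mem_erase.mp hχ
    have hrd : r ∣ charDegree (χ : G → ℂ) := by
      by_contra hnd
      have hdvd : charDegree (χ : G → ℂ) ∣ q ^ b := by
        refine Nat.Coprime.dvd_of_dvd_mul_left (k := charDegree (χ : G → ℂ)) (m := p ^ a) ?_ ?_
        · exact ((hp.coprime_iff_not_dvd.mpr (hpdeg χ ((Set.toFinite _).mem_toFinset.mp hmem))).symm).pow_right a
        refine Nat.Coprime.dvd_of_dvd_mul_right (k := charDegree (χ : G → ℂ)) (n := r ^ c) ?_ ?_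
        · exact ((hr.coprime_iff_not_dvd.mpr hnd).symm).pow_right c
        rw [← hG]; exact Blocks.charDegree_dvd_card χ
      obtain ⟨k, -, hk⟩ := (Nat.dvd_prime_pow hq).mp hdvd
      exact hcon χ (fun he => hne (Subtype.ext he)) k hk
    rw [← Blocks.charDegree_cast]
    exact Blocks.memI_mul_right hR ((Blocks.memI_natCast hR).mpr hrd)
      (Blocks.memR_of_isIntegral hR ((Blocks.isIntegral_irr χ y).map (starRingEnd ℂ).toIntAlgHom))
  have e : (1 : ℂ) = - ∑ χ ∈ (Set.toFinite (principalBlock M G)).toFinset.erase (BrauerPairs.oneIrr G),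
      (χ : G → ℂ) 1 * (starRingEnd ℂ) ((χ : G → ℂ) y) := by
    rw [← eq_neg_of_add_eq_zero_left h]
    simp [BrauerPairs.oneIrr]
  rw [e]
  exact Blocks.memI_neg hrest

/-- Let G be a non-trivial finite group of order p^a · q^b · r^c with p, q, r distinct primes and a ≤ 2. Then G has a non-principal irreducible character whose degree is a power of q, and a non-principal irreducible character whose degree is a power of r; the power may be the zeroth, so a non-principal linear character serves for both. -/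
theorem result {G : Type*} [Group G] [Finite G] [Nontrivial G] (p q r a b c : ℕ) (hp : p.Prime) (hq : q.Prime) (hr : r.Prime) (hpq : p ≠ q) (hpr : p ≠ r) (hqr : q ≠ r) (ha : a ≤ 2) (hG : Nat.card G = p ^ a * q ^ b * r ^ c) : (∃ χ : Cfsg.IrrCharacter G, (χ : G → ℂ) ≠ (fun _ => 1) ∧ ∃ k : ℕ, Cfsg.charDegree (χ : G → ℂ) = q ^ k) ∧ ∃ χ : Cfsg.IrrCharacter G, (χ : G → ℂ) ≠ (fun _ => 1) ∧ ∃ k : ℕ, Cfsg.charDegree (χ : G → ℂ) = r ^ k := by
  exact ⟨exists_prime_power p q r a b c hp hq hr ha hG hpq hpr,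
    exists_prime_power p r q a c b hp hr hq ha (by rw [hG]; ring) hpr hpq⟩

end Cfsg.Agent.S4500
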