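import Cfsg.Statements.S4479
import Cfsg.Agent.Lib.ZStar.KleinOrder

set_option autoImplicit false
open Cfsg

namespace Cfsg.Agent.S4479

/-- An order formula from the principal 2-block. Let G be a finite group of order 4·g₀ with g₀ odd having no normal 2-complement (no normal subgroup of order g₀); let P be a Sylow 2-subgroup, J an involution of P, and fix a maximal ideal M of the algebraic integers containing 2. Suppose the principal 2-block consists of the principal character and three further distinct characters χ₁, χ₂, χ₃ of degrees x₁, x₂, x₃, with χ_i(J) = ε_i = ±1. Then, writing c(J) and c(P) for the orders of the centralizers of J and of P, the order of G equals 8·α·c(J)³/c(P)² with α = x₁x₂x₃ / ((x₁ + ε₁)(x₂ + ε₂)(x₃ + ε₃)). -/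
theorem result {G : Type*} [Group G] [Finite G] (M : Ideal Cfsg.AlgInt) (hM : Cfsg.IsPModular 2 M) (g₀ : ℕ) (hg₀ : Odd g₀) (hG : Nat.card G = 4 * g₀) (hnc : ¬ ∃ N : Subgroup G, N.Normal ∧ Nat.card N = g₀) (P : Sylow 2 G) (J : G) (hJ : J ∈ (P : Subgroup G)) (hJ2 : orderOf J = 2) (χ₁ χ₂ χ₃ : Cfsg.IrrCharacter G) (ε₁ ε₂ ε₃ : ℤ) (hB : Cfsg.principalBlock M G = {χ : Cfsg.IrrCharacter G | (χ : G → ℂ) = (fun _ => 1) ∨ χ = χ₁ ∨ χ = χ₂ ∨ χ = χ₃}) (hdist : (χ₁ : G → ℂ) ≠ (fun _ => 1) ∧ (χ₂ : G → ℂ) ≠ (fun _ => 1) ∧ (χ₃ : G → ℂ) ≠ (fun _ => 1) ∧ χ₁ ≠ χ₂ ∧ χ₁ ≠ χ₃ ∧ χ₂ ≠ χ₃) (hε : (ε₁ = 1 ∨ ε₁ = -1) ∧ (ε₂ = 1 ∨ ε₂ = -1) ∧ (ε₃ = 1 ∨ ε₃ = -1)) (hval : (χ₁ : G → ℂ) J = ε₁ ∧ (χ₂ : G → ℂ) J = ε₂ ∧ (χ₃ : G → ℂ) J = ε₃) : (Nat.card G : ℚ) = 8 * (((Cfsg.charDegree (χ₁ : G → ℂ) : ℚ) * Cfsg.charDegree (χ₂ : G → ℂ) * Cfsg.charDegree (χ₃ : G → ℂ)) / ((Cfsg.charDegree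 (χ₁ : G → ℂ) + ε₁) * (Cfsg.charDegree (χ₂ : G → ℂ) + ε₂) * (Cfsg.charDegree (χ₃ : G → ℂ) + ε₃))) * (Nat.card (Subgroup.centralizer ({J} : Set G)) : ℚ) ^ 3 / (Nat.card (Subgroup.centralizer ((P : Subgroup G) : Set G)) : ℚ) ^ 2 := by
  obtain ⟨hK, hone⟩ := KleinOrder.setup hg₀ hG hnc P
  haveI := hK
  obtain ⟨hord, hrel, -⟩ := KleinOrder.order_formula P hJ2 hJ hone hM hB hdist hval
  set r := (Subgroup.centralizer ((P : Subgroup G) : Set G)).relIndex (Subgroup.centralizer ({J} : Set G))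
    with hr
  have hcr : (Nat.card (Subgroup.centralizer ((P : Subgroup G) : Set G)) : ℚ) * r =
      Nat.card (Subgroup.centralizer ({J} : Set G)) := by
    have h := Subgroup.relIndex_mul_relIndex ⊥ _ _ bot_le (KleinOrder.centralizer_le P hJ)
    rw [Subgroup.relIndex_bot_left, Subgroup.relIndex_bot_left] at h
    exact_mod_cast h
  rw [← (Subgroup.centralizer ({J} : Set G)).card_mul_index, Nat.cast_mul, ← hcr]
  set cP := (Nat.card (Subgroup.centralizer ((P : Subgroup G) : Set G)) : ℚ)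
  set i := ((Subgroup.centralizer ({J} : Set G)).index : ℚ)
  set x₁ := (charDegree (χ₁ : G → ℂ) : ℚ)
  set x₂ := (charDegree (χ₂ : G → ℂ) : ℚ)
  set x₃ := (charDegree (χ₃ : G → ℂ) : ℚ)
  have hrel' : 1 + (ε₁ : ℚ) * x₁ + ε₂ * x₂ + ε₃ * x₃ = 0 := by
    have h : ((1 + ε₁ * charDegree (χ₁ : G → ℂ) + ε₂ * charDegree (χ₂ : G → ℂ) +
      ε₃ * charDegree (χ₃ : G → ℂ) : ℤ) : ℚ) = 0 := by rw [hrel, Int.cast_zero]
    push_cast at h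
    exact h
  have hx : ∀ χ : IrrCharacter G, (charDegree (χ : G → ℂ) : ℚ) ≠ 0 := fun χ =>
    Nat.cast_ne_zero.2 (Blocks.charDegree_pos χ).ne'
  set S := 1 + (ε₁ : ℚ) / x₁ + ε₂ / x₂ + ε₃ / x₃ with hS
  have hr0 : (r : ℚ) ≠ 0 := Nat.cast_ne_zero.2 (fun h => Nat.card_pos.ne (by rw [h, Nat.cast_zero, mul_zero] at hcr; exact_mod_cast hcr))
  have hS0 : S ≠ 0 := fun h => by
    rw [h, mul_zero] at hord
    exact mul_ne_zero (by norm_num) (pow_ne_zero 2 hr0) hord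
  have hsq : ∀ ε : ℤ, (ε = 1 ∨ ε = -1) → (ε : ℚ) * ε = 1 := by
    rintro ε (rfl | rfl) <;> norm_num
  have hden : (x₁ + ε₁) * (x₂ + ε₂) * (x₃ + ε₃) = x₁ * x₂ * x₃ * S := by
    have e : x₁ * x₂ * x₃ * S = x₁ * x₂ * x₃ + ε₁ * x₂ * x₃ + ε₂ * x₁ * x₃ + ε₃ * x₁ * x₂ := by
      rw [hS]; field_simp [hx χ₁, hx χ₂, hx χ₃, x₁, x₂, x₃]
    rw [e]
    linear_combination (ε₁ : ℚ) * ε₂ * ε₃ * hrel' - ε₂ * ε₃ * x₁ * hsq ε₁ hε.1 -
      ε₁ * ε₃ * x₂ * hsq ε₂ hε.2.1 - ε₁ * ε₂ * x₃ * hsq ε₃ hε.2.2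
  have hxxx : x₁ * x₂ * x₃ ≠ 0 := mul_ne_zero (mul_ne_zero (hx χ₁) (hx χ₂)) (hx χ₃)
  have hc : cP ≠ 0 := Nat.cast_ne_zero.2 Nat.card_pos.ne'
  rw [hden, div_mul_cancel_left₀ hxxx]
  field_simp
  linear_combination -hord

end Cfsg.Agent.S4479
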