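import Cfsg.Statements.S4480
import Cfsg.Agent.Lib.ZStar.KleinOrder

set_option autoImplicit false
open Cfsg

namespace Cfsg.Agent.S4480

/-- Same setting as the Klein-four order formula: G of order 4·g₀ (g₀ odd) with no normal 2-complement, P a Sylow 2-subgroup, J an involution of P, M over 2, principal 2-block {1, χ₁, χ₂, χ₃} with χ_i(J) = ε_i = ±1. Suppose ε₁ε₂ε₃ = −1 and ε₃ = −1, and put q = x₃ = χ₃(1). Then there is a natural number m with 4·c(J) = m·c(P)·(q + 1), and the order of G equals (m³·c(P)/4)·(q³ − q)/2, that is 8·#G = m³·c(P)·(q³ − q). -/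
theorem result {G : Type*} [Group G] [Finite G] (M : Ideal Cfsg.AlgInt) (hM : Cfsg.IsPModular 2 M) (g₀ : ℕ) (hg₀ : Odd g₀) (hG : Nat.card G = 4 * g₀) (hnc : ¬ ∃ N : Subgroup G, N.Normal ∧ Nat.card N = g₀) (P : Sylow 2 G) (J : G) (hJ : J ∈ (P : Subgroup G)) (hJ2 : orderOf J = 2) (χ₁ χ₂ χ₃ : Cfsg.IrrCharacter G) (ε₁ ε₂ ε₃ : ℤ) (hB : Cfsg.principalBlock M G = {χ : Cfsg.IrrCharacter G | (χ : G → ℂ) = (fun _ => 1) ∨ χ = χ₁ ∨ χ = χ₂ ∨ χ = χ₃}) (hdist : (χ₁ : G → ℂ) ≠ (fun _ => 1) ∧ (χ₂ : G → ℂ) ≠ (fun _ => 1) ∧ (χ₃ : G → ℂ) ≠ (fun _ => 1) ∧ χ₁ ≠ χ₂ ∧ χ₁ ≠ χ₃ ∧ χ₂ ≠ χ₃) (hε : (ε₁ = 1 ∨ ε₁ = -1) ∧ (ε₂ = 1 ∨ ε₂ = -1) ∧ (ε₃ = 1 ∨ ε₃ = -1)) (hval : (χ₁ : G → ℂ) J = ε₁ ∧ (χ₂ : G → ℂ) J = ε₂ ∧ (χ₃ : G → ℂ) J = ε₃) (hprod : ε₁ * ε₂ * ε₃ = -1) (hε₃ : ε₃ = -1) : ∃ m : ℕ, 4 * Nat.card (Subgroup.centralizer ({J} : Set G)) = m * Nat.card (Subgroup.centralizer ((P : Subgroup G) : Set G))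 * (Cfsg.charDegree (χ₃ : G → ℂ) + 1) ∧ 8 * Nat.card G = m ^ 3 * Nat.card (Subgroup.centralizer ((P : Subgroup G) : Set G)) * (Cfsg.charDegree (χ₃ : G → ℂ) ^ 3 - Cfsg.charDegree (χ₃ : G → ℂ)) := by
  obtain ⟨hK, hone⟩ := KleinOrder.setup hg₀ hG hnc P
  haveI := hK
  obtain ⟨hord, hrel, hm1, -, -⟩ := KleinOrder.order_formula P hJ2 hJ hone hM hB hdist hval
  subst hε₃
  have hp1 := Blocks.charDegree_pos χ₁
  have hp2 := Blocks.charDegree_pos χ₂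
  have hp3 := Blocks.charDegree_pos χ₃
  obtain ⟨rfl, rfl⟩ : ε₁ = 1 ∧ ε₂ = 1 := by
    rcases hε.1 with rfl | rfl <;> rcases hε.2.1 with rfl | rfl <;> omega
  have heq := KleinOrder.degree_eq P hJ2 hJ hone hM hB hdist
    ⟨by rw [hval.1, Int.cast_one], by rw [hval.2.1, Int.cast_one],
      by rw [hval.2.2, Int.cast_neg, Int.cast_one]⟩
  rw [← heq] at hord hrel
  set q := charDegree (χ₃ : G → ℂ)
  set x := charDegree (χ₁ : G → ℂ)
  obtain ⟨a, ha⟩ : ∃ a, x = 4 * a + 1 := ⟨x / 4, by omega⟩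
  obtain ⟨t, ht⟩ : ∃ t, t = 2 * a + 1 := ⟨_, rfl⟩
  have hq : q + 1 = 4 * t := by omega
  set r := (Subgroup.centralizer ((P : Subgroup G) : Set G)).relIndex (Subgroup.centralizer ({J} : Set G))
  set i := (Subgroup.centralizer ({J} : Set G)).index with hi
  have hqq : r ^ 2 * (q * (q - 1)) = 2 * i * t ^ 2 := by
    have e1 : ((q - 1 : ℕ) : ℚ) = 2 * x := by
      rw [show q - 1 = 2 * x by omega]; push_cast; ring
    have e2 : (q : ℚ) = 2 * x + 1 := by rw [show q = 2 * x + 1 by omega]; push_cast; ring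
    have e3 : (t : ℚ) = (x + 1) / 2 := by
      rw [eq_div_iff (by norm_num : (2 : ℚ) ≠ 0)]
      exact_mod_cast (by omega : t * 2 = x + 1)
    suffices h : ((r ^ 2 * (q * (q - 1)) : ℕ) : ℚ) = ((2 * i * t ^ 2 : ℕ) : ℚ) by exact_mod_cast h
    push_cast [e1]
    have hx0 : (x : ℚ) ≠ 0 := Nat.cast_ne_zero.2 (by omega)
    have hq0 : (2 * x + 1 : ℚ) ≠ 0 := by positivity
    push_cast at hord
    rw [e2] at hord ⊢
    rw [e3]
    field_simp at hord ⊢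
    linear_combination hord / 2
  have hcop : (t ^ 2).Coprime (q * (q - 1)) := by
    refine Nat.Coprime.pow_left 2 (Nat.Coprime.mul_right ?_ ?_)
    · refine Nat.coprime_of_dvd' fun k _ hkt hkq => ?_
      have h : k ∣ q + 1 := hq ▸ dvd_mul_of_dvd_right hkt 4
      exact (Nat.dvd_add_right hkq).1 h
    · refine Nat.coprime_of_dvd' fun k hk hkt hkq => ?_
      have h : k ∣ (q - 1) + 2 := by
        rw [show q - 1 + 2 = 4 * t by omega]; exact dvd_mul_of_dvd_right hkt 4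
      have h2 := (Nat.dvd_add_right hkq).1 h
      rw [(Nat.prime_dvd_prime_iff_eq hk Nat.prime_two).1 h2] at hkt
      omega
  obtain ⟨m, hm⟩ := (Nat.pow_dvd_pow_iff two_ne_zero).1
    (hcop.dvd_of_dvd_mul_right ⟨2 * i, by rw [hqq]; ring⟩)
  refine ⟨m, ?_, ?_⟩
  all_goals
    have hcr := Subgroup.relIndex_mul_relIndex ⊥ _ _ bot_le (KleinOrder.centralizer_le P hJ)
    rw [Subgroup.relIndex_bot_left, Subgroup.relIndex_bot_left] at hcr
    change _ * r = _ at hcr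
  · rw [← hcr, hm, hq]; ring
  · have hmi : m ^ 2 * (q * (q - 1)) = 2 * i := by
      refine Nat.eq_of_mul_eq_mul_right (pow_pos (show 0 < t by omega) 2) ?_
      rw [← hqq, hm]; ring
    have h3 : q ^ 3 - q = q * (q - 1) * (q + 1) := by
      obtain ⟨u, hu⟩ : ∃ u, q = u + 1 := ⟨q - 1, by omega⟩
      rw [hu, Nat.add_sub_cancel]
      refine Nat.sub_eq_of_eq_add ?_
      ring
    rw [h3, ← (Subgroup.centralizer ({J} : Set G)).card_mul_index, ← hcr, hm, ← hi, hq]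
    calc _ = 4 * (2 * i) * Nat.card (Subgroup.centralizer ((P : Subgroup G) : Set G)) * (t * m) := by ring
      _ = _ := by rw [← hmi]; ring

end Cfsg.Agent.S4480
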