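import Cfsg.Statements.S4729
import Cfsg.Agent.Lib.ClassCount.CharSum
import Cfsg.Agent.Lib.Blocks.Local

set_option autoImplicit false
open Cfsg

namespace Cfsg.Agent.S4729

open Cfsg.Agent

/-- A `p'`-element with class of size prime to `p` has character values congruent to the degree in
the principal block. -/
theorem congr_degree {G : Type*} [Group G] [Finite G] {p : ℕ} {M : Ideal Cfsg.AlgInt}
    (hM : Cfsg.IsPModular p M) {χ : Cfsg.IrrCharacter G} (hχ : χ ∈ Cfsg.principalBlock M G) (g : G)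
    (hg : ¬ p ∣ (Subgroup.centralizer ({g} : Set G)).index) :
    Cfsg.MemLocalIdeal M ((χ : G → ℂ) 1 - (χ : G → ℂ) g) := by
  have h : Cfsg.MemLocalIdeal M (Cfsg.centralChar (fun _ : G => (1 : ℂ)) g -
      Cfsg.centralChar (χ : G → ℂ) g) := hχ g
  have hne := Char.IsIrrCharacter.apply_one_ne_zero χ.2
  have hK : ((Subgroup.centralizer ({g} : Set G)).index : ℂ) ≠ 0 := by
    exact_mod_cast Subgroup.index_ne_zero_of_finite
  have e : (χ : G → ℂ) 1 - (χ : G → ℂ) g =
      (χ : G → ℂ) 1 * ((Subgroup.centralizer ({g} : Set G)).index : ℂ)⁻¹ *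
      (Cfsg.centralChar (fun _ : G => (1 : ℂ)) g - Cfsg.centralChar (χ : G → ℂ) g) := by
    simp only [Cfsg.centralChar]
    field_simp
  rw [e]
  exact Blocks.memI_mul_left hM (Blocks.memR_mul hM (Blocks.memR_of_isIntegral hM
    (Char.IsCharacter.isIntegral (Char.IsIrrCharacter.isCharacter χ.2) 1))
    (Blocks.memR_natCast_inv hM hg)) h


/-- Let p be a prime, M a maximal ideal of the algebraic integers containing p, G a finite perfect group and P a Sylow p-subgroup. If the principal p-block of G contains a faithful irreducible character of degree less than 2p, then the centralizer of P is a p-group. -/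
theorem result {G : Type*} [Group G] [Finite G] (p : ℕ) [Fact p.Prime] (M : Ideal Cfsg.AlgInt) (hM : Cfsg.IsPModular p M) (hperf : commutator G = ⊤) (P : Sylow p G) (χ : Cfsg.IrrCharacter G) (hχ : χ ∈ Cfsg.principalBlock M G) (hfaith : ∀ g : G, (χ : G → ℂ) g = (χ : G → ℂ) 1 → g = 1) (hdeg : Cfsg.charDegree (χ : G → ℂ) < 2 * p) : IsPGroup p ↥(Subgroup.centralizer ((P : Subgroup G) : Set G)) := by
  classical
  set C := Subgroup.centralizer ((P : Subgroup G) : Set G) with hC
  have hpp : p.Prime := Fact.out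
  suffices key : ∀ q : ℕ, q.Prime → q ∣ Nat.card ↥C → q = p by
    obtain ⟨n, hn⟩ : ∃ n, Nat.card ↥C = p ^ n :=
      ⟨_, Nat.eq_prime_pow_of_unique_prime_dvd Nat.card_pos.ne' fun hd hd' => key _ hd hd'⟩
    exact IsPGroup.of_card hn
  intro q hq hqd
  by_contra hqp
  have := Fact.mk hq
  obtain ⟨⟨x, hx⟩, hxo⟩ := exists_prime_orderOf_dvd_card' q hqd
  rw [Subgroup.orderOf_mk] at hxo
  have hxq : x ^ q = 1 := hxo ▸ pow_orderOf_eq_one x
  obtain ⟨n, ρ, hirr, hρ⟩ := χ.2
  obtain ⟨b, μ, hμ, hμo⟩ := Char.exists_eigenbasis ρ x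
  rw [hxo] at hμo
  have hcon : ∀ j : ℕ, Cfsg.MemLocalIdeal M ((χ : G → ℂ) 1 - (χ : G → ℂ) (x ^ j)) := by
    intro j
    refine congr_degree hM hχ _ fun hdvd => ?_
    refine P.not_dvd_index (hdvd.trans (Subgroup.index_dvd_of_le ?_))
    intro z hz
    rw [Subgroup.mem_centralizer_singleton_iff]
    exact (Commute.pow_left ((Subgroup.mem_centralizer_iff.mp hx z hz).symm) j).symm
  -- every nontrivial eigenvalue has multiplicity divisible by p
  have hdiv : ∀ w : ℂ, w ^ q = 1 → w ≠ 1 →
      p ∣ (Finset.univ.filter (fun i => μ i = w)).card := by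
    intro w hwq hw1
    have hw0 : w ≠ 0 := fun h => by simp [h, zero_pow hq.ne_zero] at hwq
    have geom : ∀ u : ℂ, u ^ q = 1 → ∑ j ∈ Finset.range q, u ^ j = if u = 1 then (q : ℂ) else 0 := by
      intro u hu
      split_ifs with h
      · simp [h]
      · rw [geom_sum_eq h, hu, sub_self, zero_div]
    have e1 : ∑ j ∈ Finset.range q, w⁻¹ ^ j * (χ : G → ℂ) (x ^ j) =
        (q : ℂ) * ((Finset.univ.filter (fun i => μ i = w)).card : ℂ) := by
      simp only [← hρ, Char.character_pow ρ x b μ hμ, Finset.mul_sum, ← mul_pow]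
      rw [Finset.sum_comm, Finset.sum_congr rfl (fun i _ => geom (w⁻¹ * μ i)
        (by rw [mul_pow, inv_pow, hwq, hμo i]; simp))]
      simp only [inv_mul_eq_one₀ hw0]
      rw [← Finset.sum_filter, Finset.sum_const, nsmul_eq_mul, mul_comm]
      simp only [eq_comm]
    have e2 : Cfsg.MemLocalIdeal M ((q : ℂ) * ((Finset.univ.filter (fun i => μ i = w)).card : ℂ)) := by
      have e3 : (q : ℂ) * ((Finset.univ.filter (fun i => μ i = w)).card : ℂ) =
          -∑ j ∈ Finset.range q, w⁻¹ ^ j * ((χ : G → ℂ) 1 - (χ : G → ℂ) (x ^ j)) := by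
        simp only [mul_sub, Finset.sum_sub_distrib, ← Finset.sum_mul]
        rw [geom _ (by rw [inv_pow, hwq, inv_one]), if_neg (by simpa using hw1), e1]
        ring
      rw [e3]
      refine Blocks.memI_neg (Blocks.memI_sum hM _ fun j _ => Blocks.memI_mul_left hM
        (Blocks.memR_of_isIntegral hM (IsIntegral.pow ?_ j)) (hcon j))
      exact IsIntegral.of_pow hq.pos (by rw [inv_pow, hwq, inv_one]; exact isIntegral_one)
    rw [← Nat.cast_mul, Blocks.memI_natCast hM] at e2
    rcases hpp.dvd_mul.mp e2 with h | h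
    · exact absurd ((Nat.prime_dvd_prime_iff_eq hpp hq).mp h) (Ne.symm hqp)
    · exact h
  -- all nontrivial eigenvalues coincide
  have hx1 : x ≠ 1 := fun h => by rw [h, orderOf_one] at hxo; exact hq.one_lt.ne hxo
  have hdet : ∏ i, μ i = 1 := by
    let d : G →* ℂˣ := ((LinearMap.det : Module.End ℂ (Fin n → ℂ) →* ℂ).comp ρ).toHomUnits
    have hd : x ∈ d.ker := Abelianization.commutator_subset_ker d (by rw [hperf]; trivial)
    rw [MonoidHom.mem_ker, Units.ext_iff, MonoidHom.coe_toHomUnits] at hd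
    have hdiag : LinearMap.toMatrix b b (ρ x) = Matrix.diagonal μ := by
      ext i j
      rw [LinearMap.toMatrix_apply, hμ, map_smul, Module.Basis.repr_self, Finsupp.smul_single,
        smul_eq_mul, mul_one, Finsupp.single_apply, Matrix.diagonal_apply]
      split_ifs with h1 h2 h2 <;> simp_all [eq_comm]
    have hd' : LinearMap.det (ρ x) = 1 := hd
    rwa [← LinearMap.det_toMatrix b, hdiag, Matrix.det_diagonal] at hd'
  obtain ⟨i₀, hi₀⟩ : ∃ i, μ i ≠ 1 := by
    by_contra hall
    push Not at hall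
    refine hx1 (hfaith x ?_)
    rw [← hρ, Char.character_eq_sum_eigenvalues ρ x b μ hμ, Representation.char_one]
    simp [hall]
  have hcard : Finset.card (Finset.univ : Finset (Fin (Module.finrank ℂ (Fin n → ℂ)))) < 2 * p := by
    rw [Finset.card_univ, Fintype.card_fin]
    have : Cfsg.charDegree (χ : G → ℂ) = Module.finrank ℂ (Fin n → ℂ) := by
      rw [Cfsg.charDegree, ← hρ, Representation.char_one]; simp
    omega
  have hsame : ∀ i, μ i ≠ 1 → μ i = μ i₀ := by
    intro i hi
    by_contra hne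
    have h1 := Nat.le_of_dvd (Finset.card_pos.mpr ⟨i, by simp⟩) (hdiv (μ i) (hμo i) hi)
    have h2 := Nat.le_of_dvd (Finset.card_pos.mpr ⟨i₀, by simp⟩) (hdiv (μ i₀) (hμo i₀) hi₀)
    have h3 := Finset.card_le_univ (Finset.univ.filter (fun j => μ j = μ i) ∪
      Finset.univ.filter (fun j => μ j = μ i₀))
    rw [Finset.card_union_of_disjoint (by
      rw [Finset.disjoint_filter]; exact fun j _ h h' => hne (h.symm.trans h'))] at h3
    rw [Finset.card_univ] at hcard
    omega
  set F := Finset.univ.filter (fun i => μ i = μ i₀) with hF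
  have hFp : F.card = p := by
    obtain ⟨c, hc⟩ := hdiv (μ i₀) (hμo i₀) hi₀
    rw [← hF] at hc
    have h0 : 0 < F.card := Finset.card_pos.mpr ⟨i₀, by simp [hF]⟩
    have h1 : F.card < 2 * p := lt_of_le_of_lt (Finset.card_le_univ _)
      (by rwa [Finset.card_univ] at hcard)
    rw [hc] at h0 h1 ⊢
    have : c = 1 := by
      have : c < 2 := by by_contra hh; push Not at hh; nlinarith
      have : 0 < c := Nat.pos_of_mul_pos_left h0
      omega
    rw [this, mul_one]
  have hw : μ i₀ ^ p = 1 := by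
    rw [← Finset.prod_filter_mul_prod_filter_not Finset.univ (fun i => μ i = μ i₀), ← hF] at hdet
    rw [Finset.prod_congr rfl (g := fun _ => μ i₀) (fun i hi => (Finset.mem_filter.mp hi).2),
      Finset.prod_const, hFp, Finset.prod_eq_one, mul_one] at hdet
    · exact hdet
    · intro i hi
      by_contra h1
      exact (Finset.mem_filter.mp hi).2 (hsame i h1)
  apply hi₀
  rw [← orderOf_eq_one_iff]
  exact Nat.eq_one_of_dvd_coprimes ((Nat.coprime_primes hq hpp).mpr hqp)
    (orderOf_dvd_of_pow_eq_one (hμo i₀)) (orderOf_dvd_of_pow_eq_one hw)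

end Cfsg.Agent.S4729
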