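import Cfsg.Statements.S4343
import Cfsg.Agent.EqLemmas

set_option autoImplicit false
open Cfsg

namespace Cfsg.Agent.S4343

variable {G : Type*} [Group G] [Finite G] {p : ℕ} [hp : Fact p.Prime]

theorem relIndex_eq_p (hn : Nat.card (Sylow p G) < p ^ 2) {P Q : Sylow p G} (h : Q ≠ P) :
    (Q : Subgroup G).relIndex P = p := by
  have hstab : MulAction.stabilizer (P : Subgroup G) Q = (Q : Subgroup G).subgroupOf P := by
    ext ⟨x, hx⟩
    rw [MulAction.mem_stabilizer_iff, Subgroup.mem_subgroupOf, Subgroup.smul_def, Sylow.smul_eq_iff_mem_normalizer]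
    constructor
    · intro hxn
      have : x ∈ (P : Subgroup G) ⊓ (Q : Subgroup G) := by
        rw [← P.isPGroup'.inf_normalizer_sylow]
        exact ⟨hx, hxn⟩
      exact this.2
    · exact fun hxQ => Subgroup.le_normalizer hxQ
  have hle : (MulAction.orbit (P : Subgroup G) Q).ncard ≤ Nat.card (Sylow p G) := by
    rw [← Nat.card_coe_set_eq]
    exact Nat.card_le_card_of_injective _ Subtype.val_injective
  rw [← MulAction.index_stabilizer, hstab] at hle
  obtain ⟨k, hk⟩ := IsPGroup.index P.isPGroup' ((Q : Subgroup G).subgroupOf P)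
  rw [Subgroup.relIndex, hk]
  rw [hk] at hle
  rcases k with _ | _ | k
  · exfalso
    rw [pow_zero, Subgroup.index_eq_one, Subgroup.subgroupOf_eq_top] at hk
    exact h (Sylow.ext (P.3 Q.isPGroup' hk))
  · exact pow_one p
  · exfalso
    exact absurd (lt_of_le_of_lt hle hn) (not_lt.2 (Nat.pow_le_pow_right hp.out.pos (by omega)))

theorem sup_eq_of_not_le (hn : Nat.card (Sylow p G) < p ^ 2) {R Q : Sylow p G} (h : R ≠ Q)
    {D : Subgroup G} (hD : D ≤ Q) (hDR : ¬ D ≤ R) :
    D ⊔ ((R : Subgroup G) ⊓ Q) = Q := by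
  apply le_antisymm (sup_le hD inf_le_right)
  have h1 := Subgroup.relIndex_mul_relIndex ((R : Subgroup G) ⊓ Q) (D ⊔ ((R : Subgroup G) ⊓ Q)) Q
    le_sup_right (sup_le hD inf_le_right)
  rw [Subgroup.inf_relIndex_right, relIndex_eq_p hn h] at h1
  rcases (Nat.dvd_prime hp.out).1 (Dvd.intro_left _ h1) with h2 | h2
  · exact Subgroup.relIndex_eq_one.1 h2
  · exfalso
    rw [h2, mul_left_eq_self₀] at h1
    rcases h1 with h1 | h1
    · exact hDR ((le_sup_left.trans (Subgroup.relIndex_eq_one.1 h1)).trans inf_le_left)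
    · exact hp.out.ne_zero h1

theorem inf_eq_inf (hn : Nat.card (Sylow p G) < p ^ 2) {P Q R : Sylow p G} (hQ : Q ≠ P) (hR : R ≠ P) :
    (P : Subgroup G) ⊓ Q = (P : Subgroup G) ⊓ R := by
  classical
  cases nonempty_fintype (Sylow p G)
  -- all classes have at least `p` members
  have hclass : ∀ A B : Sylow p G, B ≠ A →
      p ≤ (((Finset.univ.erase A).filter fun C : Sylow p G => (A : Subgroup G) ⊓ C = (A : Subgroup G) ⊓ B)).card := by
    intro A B hBA
    have hnorm : ((((A : Subgroup G) ⊓ B)).subgroupOf A).Normal := by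
      apply Subgroup.normal_of_index_eq_minFac_card
      show (((A : Subgroup G) ⊓ B)).relIndex A = _
      rw [Subgroup.inf_relIndex_left, relIndex_eq_p hn hBA]
      obtain ⟨m, hm⟩ := IsPGroup.iff_card.1 A.isPGroup'
      rw [hm]
      rcases m with _ | m
      · exfalso
        have h1 := relIndex_eq_p hn hBA
        have h2 := Subgroup.index_dvd_card ((B : Subgroup G).subgroupOf A)
        rw [← Subgroup.relIndex, h1, hm, pow_zero] at h2
        exact hp.out.ne_one (Nat.dvd_one.1 h2)
      · rw [Nat.pow_minFac (by omega), hp.out.minFac_eq]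
    have horb : ∀ x : (A : Subgroup G), x • B ≠ A ∧ (A : Subgroup G) ⊓ (x • B : Sylow p G) = (A : Subgroup G) ⊓ B := by
      intro x
      have hA : (x : G) • A = A := Sylow.smul_eq_iff_mem_normalizer.2 (Subgroup.le_normalizer x.2)
      refine ⟨fun hc => hBA (MulAction.injective (x : G) (hc.trans hA.symm)), ?_⟩
      ext y
      rw [Subgroup.mem_inf, Subgroup.mem_inf]
      show y ∈ (A : Subgroup G) ∧ y ∈ (((x : G) • B : Sylow p G) : Subgroup G) ↔ _
      rw [Sylow.coe_subgroup_smul, Subgroup.mem_pointwise_smul_iff_inv_smul_mem, ← map_inv,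
        MulAut.smul_def, MulAut.conj_apply, inv_inv]
      constructor
      · rintro ⟨hy, hyB⟩
        have hmem : (x : G)⁻¹ * y * x ∈ A := mul_mem (mul_mem (inv_mem x.2) hy) x.2
        have := hnorm.conj_mem ⟨_, hmem⟩ (Subgroup.mem_subgroupOf.2 ⟨hmem, hyB⟩) x
        rw [Subgroup.mem_subgroupOf] at this
        simpa [mul_assoc] using this
      · rintro ⟨hy, hyB⟩
        have := hnorm.conj_mem ⟨y, hy⟩ (Subgroup.mem_subgroupOf.2 ⟨hy, hyB⟩) x⁻¹
        rw [Subgroup.mem_subgroupOf] at this
        refine ⟨hy, ?_⟩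
        have h3 := this.2
        simp only [InvMemClass.coe_inv, Subgroup.coe_mul, inv_inv] at h3
        exact h3
    have hsub : (MulAction.orbit (A : Subgroup G) B).toFinset ⊆
        (Finset.univ.erase A).filter fun C : Sylow p G => (A : Subgroup G) ⊓ C = (A : Subgroup G) ⊓ B := by
      intro C hC
      rw [Set.mem_toFinset] at hC
      obtain ⟨x, rfl⟩ := hC
      simp only [Finset.mem_filter, Finset.mem_erase, Finset.mem_univ, and_true]
      exact horb x
    refine le_trans ?_ (Finset.card_le_card hsub)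
    rw [← Set.ncard_eq_toFinset_card', ← MulAction.index_stabilizer]
    have hstab : MulAction.stabilizer (A : Subgroup G) B ≤ (B : Subgroup G).subgroupOf A := by
      rintro ⟨x, hx⟩ hxs
      rw [MulAction.mem_stabilizer_iff, Subgroup.smul_def, Sylow.smul_eq_iff_mem_normalizer] at hxs
      have : x ∈ (A : Subgroup G) ⊓ (B : Subgroup G) := by
        rw [← A.isPGroup'.inf_normalizer_sylow]
        exact ⟨hx, hxs⟩
      exact this.2
    have := Nat.le_of_dvd (Nat.pos_of_ne_zero Subgroup.index_ne_zero_of_finite) (Subgroup.index_dvd_of_le hstab)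
    rwa [← Subgroup.relIndex, relIndex_eq_p hn hBA] at this
  by_contra hne
  have hPR : ¬ (P : Subgroup G) ⊓ Q ≤ (R : Subgroup G) := fun hle => hne <| by
    have h1 := Subgroup.relIndex_mul_relIndex ((P : Subgroup G) ⊓ Q) ((P : Subgroup G) ⊓ R) P (le_inf inf_le_left hle) inf_le_left
    rw [Subgroup.inf_relIndex_left, Subgroup.inf_relIndex_left, relIndex_eq_p hn hQ, relIndex_eq_p hn hR] at h1
    have : ((P : Subgroup G) ⊓ Q).relIndex ((P : Subgroup G) ⊓ R) = 1 := Nat.eq_of_mul_eq_mul_right hp.out.pos (by rw [h1, one_mul])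
    exact le_antisymm (le_inf inf_le_left hle) (Subgroup.relIndex_eq_one.1 this)
  set cls := (Finset.univ.erase P).filter fun C : Sylow p G => (P : Subgroup G) ⊓ C = (P : Subgroup G) ⊓ Q with hcls
  have hCR : ∀ C ∈ cls, C ≠ R := by
    intro C hC he
    simp only [hcls, Finset.mem_filter, Finset.mem_erase, Finset.mem_univ, and_true] at hC
    exact hne (by rw [← hC.2, he])
  set f : Sylow p G → Subgroup G := fun C => (R : Subgroup G) ⊓ C with hf
  have hinj : Set.InjOn f cls := by
    intro A hA B hB hAB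
    have hA' := hCR A hA
    have hB' := hCR B hB
    simp only [hcls, Finset.coe_filter, Set.mem_ofPred_eq, Finset.mem_erase, Finset.mem_univ, and_true] at hA hB
    apply Sylow.ext
    have e1 := sup_eq_of_not_le hn hA'.symm (D := (P : Subgroup G) ⊓ Q) (hA.2 ▸ inf_le_right) hPR
    have e2 := sup_eq_of_not_le hn hB'.symm (D := (P : Subgroup G) ⊓ Q) (hB.2 ▸ inf_le_right) hPR
    rw [← e1, ← e2]
    simp only [hf] at hAB
    rw [hAB]
  have hfP : f P ∉ cls.image f := by
    intro hc
    obtain ⟨A, hA, he⟩ := Finset.mem_image.1 hc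
    simp only [hcls, Finset.mem_filter, Finset.mem_erase, Finset.mem_univ, and_true] at hA
    simp only [hf] at he
    have h2 : (R : Subgroup G) ⊓ P ≤ (P : Subgroup G) ⊓ Q := by
      rw [← hA.2]
      exact le_inf inf_le_right (he ▸ inf_le_right)
    have h1 := Subgroup.relIndex_mul_relIndex _ _ _ h2 inf_le_left
    rw [Subgroup.inf_relIndex_left, Subgroup.inf_relIndex_right, relIndex_eq_p hn hQ, relIndex_eq_p hn hR] at h1
    have h3 : ((R : Subgroup G) ⊓ P).relIndex ((P : Subgroup G) ⊓ Q) = 1 := Nat.eq_of_mul_eq_mul_right hp.out.pos (by rw [h1, one_mul])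
    exact hPR ((Subgroup.relIndex_eq_one.1 h3).trans inf_le_left)
  have hbig : p + 1 ≤ ((Finset.univ.erase R).image f).card := by
    refine le_trans ?_ (Finset.card_le_card (s := insert (f P) (cls.image f)) ?_)
    · rw [Finset.card_insert_of_notMem hfP, Finset.card_image_of_injOn hinj]
      exact Nat.add_le_add_right (hclass P Q hQ) 1
    · rw [Finset.insert_subset_iff]
      refine ⟨Finset.mem_image_of_mem _ (by simpa using hR.symm), Finset.image_subset_image fun C hC => ?_⟩
      simpa using hCR C hC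
  have hcount := Finset.mul_card_image_le_card (s := Finset.univ.erase R) (f := f) p (fun E hE => by
    obtain ⟨B, hB, rfl⟩ := Finset.mem_image.1 hE
    exact hclass R B (Finset.mem_erase.1 hB).1)
  rw [Finset.card_erase_of_mem (Finset.mem_univ R), Finset.card_univ, ← Nat.card_eq_fintype_card] at hcount
  have h9 : p * (p + 1) ≤ Nat.card (Sylow p G) - 1 := le_trans (Nat.mul_le_mul_left p hbig) hcount
  rw [sq] at hn
  rw [Nat.mul_add, Nat.mul_one] at h9
  omega

/-- Let S be a finite non-abelian simple group and p a prime dividing its order. If S has fewer than p² Sylow p-subgroups, then its Sylow p-subgroups have order p. -/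
theorem result {S : Type*} [Group S] [Finite S]
    [IsSimpleGroup S] (hS : ¬ IsMulCommutative S) (p : ℕ) [Fact p.Prime] (hp : p ∣ Nat.card S)
    (hn : Nat.card (Sylow p S) < p ^ 2) (P : Sylow p S) : Nat.card P = p := by
  have hP0 : (P : Subgroup S) ≠ ⊥ := P.ne_bot_of_dvd_card hp
  obtain ⟨Q, hQ⟩ : ∃ Q : Sylow p S, Q ≠ P := by
    by_contra hc
    push Not at hc
    have : Subsingleton (Sylow p S) := ⟨fun A B => (hc A).trans (hc B).symm⟩
    rcases (Sylow.normal_of_subsingleton P).eq_bot_or_eq_top with h | h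
    · exact hP0 h
    · have hSp : IsPGroup p S := (h ▸ P.isPGroup').of_equiv Subgroup.topEquiv
      have : Nontrivial S := IsSimpleGroup.toNontrivial
      rcases (Subgroup.Normal.eq_bot_or_eq_top (inferInstance : (Subgroup.center S).Normal)) with h1 | h1
      · exact hSp.bot_lt_center.ne' h1
      · exact hS ⟨⟨fun a b => ((Subgroup.mem_center_iff.1 (h1 ▸ Subgroup.mem_top b)) a)⟩⟩
  set D : Subgroup S := (P : Subgroup S) ⊓ Q with hD
  have hall : ∀ A : Sylow p S, D ≤ A := by
    intro A
    by_cases hA : A = P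
    · exact hA ▸ inf_le_left
    · rw [hD, inf_eq_inf hn hQ hA]
      exact inf_le_right
  have hDn : D.Normal := ⟨fun x hx g => by
    have key : ∀ A : Sylow p S, g * x * g⁻¹ ∈ (A : Subgroup S) := fun A => by
      have := hall (g⁻¹ • A) hx
      rw [Sylow.coe_subgroup_smul, Subgroup.mem_pointwise_smul_iff_inv_smul_mem, ← map_inv, inv_inv,
        MulAut.smul_def, MulAut.conj_apply] at this
      exact this
    exact ⟨key P, key Q⟩⟩
  have h1 := relIndex_eq_p hn hQ
  rcases hDn.eq_bot_or_eq_top with h | h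
  · rw [← Subgroup.inf_relIndex_left, ← hD, h, Subgroup.relIndex_bot_left] at h1
    exact h1
  · exfalso
    have h2 : (P : Subgroup S) ≤ Q := fun x _ => ((h ▸ Subgroup.mem_top x : x ∈ D)).2
    exact hQ (Sylow.ext (P.3 Q.isPGroup' h2))

end Cfsg.Agent.S4343
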