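import Cfsg.Statements.S4216
import Cfsg.Agent.EqLemmas

set_option autoImplicit false
open Cfsg

namespace Cfsg.Agent.S4216

open scoped commutatorElement

/-- The subgroup on the right hand side of Grün's theorem. -/
def gruen {G : Type*} [Group G] (P : Subgroup G) : Subgroup G :=
  (P ⊓ ⁅Subgroup.normalizer (P : Set G), Subgroup.normalizer (P : Set G)⁆) ⊔
    ⨆ z : G, P ⊓ (⁅P, P⁆).map (MulAut.conj z).toMonoidHom

theorem inf_commutator_le_gruen {G : Type*} [Group G] [Finite G] {p : ℕ} [Fact p.Prime] (P : Sylow p G) :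
    (P : Subgroup G) ⊓ commutator G ≤ gruen (P : Subgroup G) := by
  classical
  set D := gruen (P : Subgroup G) with hD
  set D' := D.subgroupOf (P : Subgroup G) with hD'
  have hPP : ∀ a ∈ (P : Subgroup G), ∀ b ∈ (P : Subgroup G), ⁅a, b⁆ ∈ D := fun a ha b hb => by
    refine Subgroup.mem_sup_left ⟨?_, ?_⟩
    · show ⁅a, b⁆ ∈ (P : Subgroup G)
      rw [commutatorElement_def]; exact mul_mem (mul_mem (mul_mem ha hb) (inv_mem ha)) (inv_mem hb)
    · exact Subgroup.commutator_mem_commutator (Subgroup.le_normalizer ha) (Subgroup.le_normalizer hb)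
  haveI hn : D'.Normal := ⟨fun a ha b => by
    rw [hD', Subgroup.mem_subgroupOf] at ha ⊢
    have h := mul_mem (hPP b b.2 a a.2) ha
    simpa [commutatorElement_def] using h⟩
  letI : CommGroup ((P : Subgroup G) ⧸ D') :=
    { (inferInstance : Group ((P : Subgroup G) ⧸ D')) with
      mul_comm := fun a b => by
        obtain ⟨a, rfl⟩ := QuotientGroup.mk'_surjective _ a
        obtain ⟨b, rfl⟩ := QuotientGroup.mk'_surjective _ b
        rw [← commutatorElement_eq_one_iff_mul_comm, ← map_commutatorElement, QuotientGroup.mk'_apply,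
          QuotientGroup.eq_one_iff, Subgroup.mem_subgroupOf]
        exact hPP a a.2 b b.2 }
  let φ : (P : Subgroup G) →* (P : Subgroup G) ⧸ D' := QuotientGroup.mk' D'
  have hφ : ∀ a, φ a = 1 ↔ (a : G) ∈ D := fun a => by
    rw [QuotientGroup.mk'_apply, QuotientGroup.eq_one_iff, Subgroup.mem_subgroupOf]
  suffices key : ∀ n, ∀ x ∈ (P : Subgroup G) ⊓ commutator G, orderOf x = n → x ∈ D from
    fun x hx => key _ x hx rfl
  intro n
  induction n using Nat.strong_induction_on with
  | _ n ih =>
  intro x hxm hn'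
  obtain ⟨hxP, hxG⟩ := Subgroup.mem_inf.mp hxm
  rcases eq_or_ne x 1 with rfl | hx1
  · exact one_mem D
  have hox : ∃ k, orderOf x = p ^ k := by
    obtain ⟨k, hk⟩ := IsPGroup.iff_orderOf.mp P.isPGroup' ⟨x, hxP⟩
    exact ⟨k, by rw [← hk]; exact Subgroup.orderOf_coe (⟨x, hxP⟩ : (P : Subgroup G))⟩
  -- conjugates of proper p-th powers are absorbed
  have small : ∀ (g : G) (k : ℕ), p ∣ k → g⁻¹ * x ^ k * g ∈ (P : Subgroup G) → g⁻¹ * x ^ k * g ∈ D := by
    intro g k hk hmem
    refine ih _ ?_ _ ⟨hmem, ?_⟩ rfl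
    · have e : orderOf (g⁻¹ * x ^ k * g) = orderOf (x ^ k) := by
        have h := orderOf_injective (MulAut.conj g⁻¹).toMonoidHom (MulEquiv.injective _) (x ^ k)
        simpa [MulAut.conj_apply] using h
      obtain ⟨j, hj⟩ := hox
      have hj0 : j ≠ 0 := fun h => hx1 (orderOf_eq_one_iff.mp (by rw [hj, h, pow_zero]))
      rw [e, ← hn', orderOf_pow]
      refine Nat.div_lt_self (orderOf_pos x) ?_
      have hd : p ∣ (orderOf x).gcd k := Nat.dvd_gcd (hj ▸ dvd_pow_self p hj0) hk
      have hpos : 0 < (orderOf x).gcd k := Nat.gcd_pos_of_pos_left _ (orderOf_pos x)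
      exact lt_of_lt_of_le (Fact.out : p.Prime).one_lt (Nat.le_of_dvd hpos hd)
    · have h := (inferInstance : (commutator G).Normal).conj_mem _ (pow_mem hxG k) g⁻¹
      rw [inv_inv] at h; exact h
  have hmemP : ∀ c : G ⧸ (P : Subgroup G), x • c = c → c.out⁻¹ * x * c.out ∈ (P : Subgroup G) := by
    intro c hc
    conv at hc => lhs; rw [← QuotientGroup.out_eq' c]
    conv at hc => rhs; rw [← QuotientGroup.out_eq' c]
    rw [MulAction.Quotient.smul_mk, QuotientGroup.eq] at hc
    simpa [smul_eq_mul, mul_assoc] using inv_mem hc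
  let F : G ⧸ (P : Subgroup G) → (P : Subgroup G) ⧸ D' := fun c =>
    if h : x • c = c then φ ⟨_, hmemP c h⟩ else 1
  haveI : Fintype (G ⧸ (P : Subgroup G)) := Fintype.ofFinite _
  haveI : Fintype (Quotient (MulAction.orbitRel (Subgroup.zpowers x) (G ⧸ (P : Subgroup G)))) := Fintype.ofFinite _
  set S : Finset (G ⧸ (P : Subgroup G)) := Finset.univ.filter fun c => x • c = c with hS
  set T : Finset (G ⧸ (P : Subgroup G)) := Finset.univ.filter fun c => ∀ u : (P : Subgroup G), (u : G) • c = c with hT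
  have hV : MonoidHom.transfer φ x = ∏ c ∈ S, F c := by
    rw [MonoidHom.transfer_eq_prod_quotient_orbitRel_zpowers_quot]
    rw [← Finset.prod_filter_of_ne (p := fun q : Quotient (MulAction.orbitRel (Subgroup.zpowers x) (G ⧸ (P : Subgroup G))) =>
      x • q.out = q.out)]
    · refine Finset.prod_bij' (fun q _ => q.out) (fun c _ => Quotient.mk'' c) ?_ ?_ ?_ ?_ ?_
      · intro q hq; simpa [hS] using hq
      · intro c hc
        simp only [hS, Finset.mem_filter, Finset.mem_univ, true_and] at hc ⊢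
        obtain ⟨⟨u, hu⟩, he⟩ := Quotient.exact (Quotient.out_eq
          (Quotient.mk'' c : Quotient (MulAction.orbitRel (Subgroup.zpowers x) (G ⧸ (P : Subgroup G)))))
        have e : u • c = c := by
          obtain ⟨m, rfl⟩ := Subgroup.mem_zpowers_iff.mp hu
          exact (MulAction.mem_stabilizer_iff).mp (zpow_mem (MulAction.mem_stabilizer_iff.mpr hc) m)
        have he' : u • c = (Quotient.mk'' c : Quotient (MulAction.orbitRel (Subgroup.zpowers x) (G ⧸ (P : Subgroup G)))).out := he
        rw [← he', e, hc]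
      · intro q _; exact Quotient.out_eq' q
      · intro c hc
        simp only [hS, Finset.mem_filter, Finset.mem_univ, true_and] at hc
        obtain ⟨⟨u, hu⟩, he⟩ := Quotient.exact (Quotient.out_eq
          (Quotient.mk'' c : Quotient (MulAction.orbitRel (Subgroup.zpowers x) (G ⧸ (P : Subgroup G)))))
        obtain ⟨m, rfl⟩ := Subgroup.mem_zpowers_iff.mp hu
        have e : x ^ m • c = c := (MulAction.mem_stabilizer_iff).mp (zpow_mem (MulAction.mem_stabilizer_iff.mpr hc) m)
        have he' : x ^ m • c = (Quotient.mk'' c : Quotient (MulAction.orbitRel (Subgroup.zpowers x) (G ⧸ (P : Subgroup G)))).out := he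
        rw [← he', e]
      · intro q hq
        simp only [Finset.mem_filter, Finset.mem_univ, true_and] at hq
        simp only [F, dif_pos hq]
        congr 1
        refine Subtype.ext ?_
        have h1 : Function.minimalPeriod (x • ·) q.out = 1 := Function.minimalPeriod_eq_one_iff_isFixedPt.mpr hq
        simp [h1]
    · intro q _ hne
      by_contra hq
      apply hne
      rw [hφ]
      apply small
      · obtain ⟨j, hj⟩ := hox
        have hd : Function.minimalPeriod (x • ·) q.out ∣ p ^ j := by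
          rw [← hj]
          exact Function.IsPeriodicPt.minimalPeriod_dvd (by
            show (x • ·)^[orderOf x] q.out = q.out
            rw [smul_iterate]; simp [pow_orderOf_eq_one])
        obtain ⟨i, -, hi⟩ := (Nat.dvd_prime_pow (Fact.out : p.Prime)).mp hd
        have hi0 : i ≠ 0 := fun h => hq (Function.minimalPeriod_eq_one_iff_isFixedPt.mp (by rw [hi, h, pow_zero]))
        rw [hi]; exact dvd_pow_self p hi0
      · exact QuotientGroup.out_conj_pow_minimalPeriod_mem (P : Subgroup G) x q.out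
  have hTS : T ⊆ S := fun c hc => by
    simp only [hT, hS, Finset.mem_filter, Finset.mem_univ, true_and] at hc ⊢
    exact hc ⟨x, hxP⟩
  -- fixed points of P
  have hFT : ∀ c ∈ T, F c = φ ⟨x, hxP⟩ := by
    intro c hc
    have hcS := hTS hc
    simp only [hT, hS, Finset.mem_filter, Finset.mem_univ, true_and] at hc hcS
    simp only [F, dif_pos hcS]
    rw [← mul_inv_eq_one, ← map_inv, ← map_mul, hφ]
    have hnorm : c.out ∈ Subgroup.normalizer ((P : Subgroup G) : Set G) := by
      have hle : (P : Subgroup G).map (MulAut.conj c.out⁻¹).toMonoidHom ≤ P := by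
        rintro _ ⟨u, hu, rfl⟩
        have h := hc ⟨u, hu⟩
        conv at h => lhs; rw [← QuotientGroup.out_eq' c]
        conv at h => rhs; rw [← QuotientGroup.out_eq' c]
        rw [MulAction.Quotient.smul_mk, QuotientGroup.eq] at h
        simpa [smul_eq_mul, mul_assoc] using inv_mem h
      have e := Subgroup.eq_of_le_of_card_ge hle
        (Subgroup.card_map_of_injective (MulEquiv.injective _)).ge
      simpa using inv_mem (Subgroup.mem_normalizer_iff_map_conj_eq.mpr e)
    refine Subgroup.mem_sup_left ⟨SetLike.coe_mem _, ?_⟩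
    show (c.out⁻¹ * x * c.out) * x⁻¹ ∈ _
    have e : (c.out⁻¹ * x * c.out) * x⁻¹ = ⁅c.out⁻¹, x⁆ := by rw [commutatorElement_def, inv_inv]
    rw [e]
    exact Subgroup.commutator_mem_commutator (inv_mem hnorm) (Subgroup.le_normalizer hxP)
  -- the other orbits of P contribute nothing
  have hrest : ∏ c ∈ S \ T, F c = 1 := by
    rw [← Finset.prod_fiberwise_of_maps_to (t := Finset.univ)
      (g := fun c => (Quotient.mk'' c : MulAction.orbitRel.Quotient (P : Subgroup G) (G ⧸ (P : Subgroup G)))) (fun _ _ => Finset.mem_univ _)]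
    refine Finset.prod_eq_one fun o _ => ?_
    set U := (S \ T).filter fun c => (Quotient.mk'' c : MulAction.orbitRel.Quotient (P : Subgroup G) (G ⧸ (P : Subgroup G))) = o with hU
    rcases U.eq_empty_or_nonempty with he | ⟨c, hc⟩
    · rw [he, Finset.prod_empty]
    have hmemU : ∀ d, d ∈ U ↔ x • d = d ∧ d ∈ MulAction.orbit (P : Subgroup G) c := by
      intro d
      simp only [hU, hS, hT, Finset.mem_filter, Finset.mem_sdiff, Finset.mem_univ, true_and] at hc ⊢
      rw [← hc.2, Quotient.eq'']
      constructor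
      · rintro ⟨⟨h1, -⟩, h3⟩; exact ⟨h1, h3⟩
      · rintro ⟨h1, h3⟩
        refine ⟨⟨h1, fun h => hc.1.2 fun u => ?_⟩, h3⟩
        obtain ⟨v, hv⟩ := h3
        have hdc : d = c := by
          have h2 := h v⁻¹
          rw [← hv] at h2 ⊢
          show (v : G) • c = c
          have : ((v⁻¹ : (P : Subgroup G)) : G) • (v : G) • c = (v : G) • c := h2
          rw [smul_smul] at this
          simpa using this.symm
        rw [← hdc]; exact h u
    have hval : ∀ d ∈ U, F d = F c := by
      intro d hd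
      obtain ⟨hxd, ⟨u, hu⟩⟩ := (hmemU d).mp hd
      have hxc := ((hmemU c).mp hc).1
      simp only [F, dif_pos hxd, dif_pos hxc]
      set g := c.out with hg
      obtain ⟨h, hh⟩ : ∃ h : (P : Subgroup G), d.out = (u : G) * g * h := by
        refine ⟨⟨((u : G) * g)⁻¹ * d.out, ?_⟩, by group⟩
        rw [← QuotientGroup.eq, QuotientGroup.out_eq', ← hu, ← smul_eq_mul, ← MulAction.Quotient.smul_mk,
          QuotientGroup.out_eq']
        rfl
      have hw : g⁻¹ * (u : G)⁻¹ * x * u * g ∈ (P : Subgroup G) := by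
        have h' := mul_mem (mul_mem h.2 (hmemP d hxd)) (inv_mem h.2)
        rw [hh] at h'
        simpa [mul_assoc] using h'
      have e1 : φ ⟨_, hmemP d hxd⟩ = φ ⟨_, hw⟩ := by
        have he : (⟨_, hmemP d hxd⟩ : (P : Subgroup G)) = h⁻¹ * ⟨_, hw⟩ * h := by
          refine Subtype.ext ?_
          show d.out⁻¹ * x * d.out = (h : G)⁻¹ * (g⁻¹ * (u : G)⁻¹ * x * u * g) * h
          rw [hh]; group
        rw [he, map_mul, map_mul, map_inv, mul_comm (φ h)⁻¹, inv_mul_cancel_right]
      rw [e1, ← mul_inv_eq_one, ← map_inv, ← map_mul, hφ]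
      refine Subgroup.mem_sup_right ?_
      refine Subgroup.mem_iSup_of_mem g⁻¹ ⟨SetLike.coe_mem _, ⁅(u : G)⁻¹, x⁆,
        Subgroup.commutator_mem_commutator (inv_mem u.2) hxP, ?_⟩
      show g⁻¹ * ⁅(u : G)⁻¹, x⁆ * g⁻¹⁻¹ = (g⁻¹ * (u : G)⁻¹ * x * u * g) * (g⁻¹ * x * g)⁻¹
      rw [commutatorElement_def]; group
    rw [Finset.prod_congr rfl hval, Finset.prod_const]
    obtain ⟨m, hm⟩ : p ∣ U.card := by
      set Z := Subgroup.zpowers (⟨x, hxP⟩ : (P : Subgroup G))
      have hfix : Nat.card (MulAction.fixedPoints Z (MulAction.orbit (P : Subgroup G) c)) = U.card := by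
        rw [← Nat.card_eq_finsetCard]
        refine Nat.card_congr ⟨fun d => ⟨d.1.1, (hmemU _).mpr ⟨?_, d.1.2⟩⟩, fun d => ⟨⟨d.1, ((hmemU _).mp d.2).2⟩, ?_⟩,
          fun _ => rfl, fun _ => rfl⟩
        · exact congrArg Subtype.val (d.2 ⟨_, Subgroup.mem_zpowers _⟩)
        · intro z
          have hz := z.2
          rw [Subgroup.mem_zpowers_iff] at hz
          obtain ⟨m, hm⟩ := hz
          refine Subtype.ext ?_
          show ((z : (P : Subgroup G)) : G) • d.1 = d.1
          rw [← hm, Subgroup.coe_zpow]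
          exact (MulAction.mem_stabilizer_iff).mp (zpow_mem (MulAction.mem_stabilizer_iff.mpr ((hmemU _).mp d.2).1) m)
      have hmod := (P.isPGroup'.to_subgroup Z).card_modEq_card_fixedPoints (MulAction.orbit (P : Subgroup G) c)
      rw [hfix] at hmod
      obtain ⟨t, ht⟩ := P.isPGroup'.card_orbit c
      refine Nat.modEq_zero_iff_dvd.mp (hmod.symm.trans (Nat.modEq_zero_iff_dvd.mpr ?_))
      rw [ht]
      refine dvd_pow_self p fun h0 => ?_
      rw [h0, pow_zero, Nat.card_eq_one_iff_unique] at ht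
      obtain ⟨hss, -⟩ := ht
      simp only [hU, hT, Finset.mem_filter, Finset.mem_sdiff, Finset.mem_univ, true_and] at hc
      refine hc.1.2 fun v => ?_
      exact congrArg Subtype.val (@Subsingleton.elim _ hss ⟨v • c, MulAction.mem_orbit c v⟩ ⟨c, MulAction.mem_orbit_self c⟩)
    rw [hm, pow_mul]
    have hxc := ((hmemU c).mp hc).1
    have : F c ^ p = 1 := by
      simp only [F, dif_pos hxc]
      rw [← map_pow, hφ]
      have h2 : ((⟨_, hmemP c hxc⟩ : (P : Subgroup G)) ^ p : (P : Subgroup G)).1 = c.out⁻¹ * x ^ p * c.out := by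
        show (c.out⁻¹ * x * c.out) ^ p = _
        simpa using conj_pow (i := p) (a := c.out⁻¹) (b := x)
      rw [h2]
      exact small _ p dvd_rfl (h2 ▸ SetLike.coe_mem _)
    rw [this, one_pow]
  have hmain : MonoidHom.transfer φ x = φ ⟨x, hxP⟩ ^ T.card := by
    rw [hV, ← Finset.prod_sdiff hTS, hrest, one_mul, Finset.prod_congr rfl hFT, Finset.prod_const]
  have h1 : MonoidHom.transfer φ x = 1 := Abelianization.commutator_subset_ker _ hxG
  have hT' : ¬ p ∣ T.card := by
    intro hd
    apply P.not_dvd_index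
    have hmod := P.isPGroup'.card_modEq_card_fixedPoints (G ⧸ (P : Subgroup G))
    have hfix : Nat.card (MulAction.fixedPoints (P : Subgroup G) (G ⧸ (P : Subgroup G))) = T.card := by
      rw [← Nat.card_eq_finsetCard]
      exact Nat.card_congr (Equiv.subtypeEquivRight fun c => by
        simp only [hT, MulAction.mem_fixedPoints, Finset.mem_filter, Finset.mem_univ, true_and]
        exact Iff.rfl)
    rw [hfix] at hmod
    rw [Subgroup.index_eq_card]
    exact Nat.modEq_zero_iff_dvd.mp (hmod.trans (Nat.modEq_zero_iff_dvd.mpr hd))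
  have hx0 : φ ⟨x, hxP⟩ ^ T.card = 1 := hmain.symm.trans h1
  rw [← orderOf_dvd_iff_pow_eq_one] at hx0
  obtain ⟨k, hk⟩ := IsPGroup.iff_orderOf.mp (P.isPGroup'.to_quotient D') (φ ⟨x, hxP⟩)
  rcases eq_or_ne k 0 with rfl | hk0
  · rw [pow_zero, orderOf_eq_one_iff] at hk
    exact (hφ ⟨x, hxP⟩).mp hk
  · exact absurd ((hk ▸ dvd_pow_self p hk0 : p ∣ orderOf (φ ⟨x, hxP⟩)).trans hx0) hT'

/-- Grün's first Theorem: if `P` is a Sylow `p`-subgroup of the finite group `G`, then `P ∩ G'` is the subgroup generated by `P ∩ N_G(P)'` together with the subgroups `P ∩ z P' z⁻¹` for all `z ∈ G`, where `'` denotes the derived subgroup and `N_G(P)` the normalizer of `P`. -/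
theorem result {G : Type*} [Group G] [Finite G] {p : ℕ} [Fact p.Prime] (P : Sylow p G) : (P : Subgroup G) ⊓ commutator G = ((P : Subgroup G) ⊓ ⁅Subgroup.normalizer ((P : Subgroup G) : Set G), Subgroup.normalizer ((P : Subgroup G) : Set G)⁆) ⊔ ⨆ z : G, (P : Subgroup G) ⊓ (⁅(P : Subgroup G), (P : Subgroup G)⁆).map (MulAut.conj z).toMonoidHom := by
  refine le_antisymm (inf_commutator_le_gruen P) (sup_le (inf_le_inf_left _ (Subgroup.commutator_mono le_top le_top))
    (iSup_le fun z => inf_le_inf_left _ ?_))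
  rw [Subgroup.map_le_iff_le_comap]
  intro w hw
  exact (inferInstance : (commutator G).Normal).conj_mem w (Subgroup.commutator_mono le_top le_top hw) z

end Cfsg.Agent.S4216
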