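import Cfsg.Statements.S1697
import Cfsg.Agent.EqLemmas
import Cfsg.Agent.S1689
import Cfsg.Agent.Lib.CosetEnum.BaseFi23
import Cfsg.Agent.Lib.CosetEnum.BoundFi23

set_option autoImplicit false
set_option Elab.async false
open Cfsg

namespace Cfsg.Agent.S1697

/-- The kill list. -/
def kill : List (List ℕ × ℕ × ℕ) := [([5, 6, 9, 4, 8, 1, 2, 3, 0, 7, 9], 15, 2), ([0, 1], 0, 0), ([1, 2], 0, 1), ([2, 3], 0, 2), ([3, 4], 0, 3), ([4, 5], 0, 4), ([5, 6], 0, 5), ([6, 7], 0, 6), ([3, 8], 0, 3), ([8, 9], 0, 8)]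

open Cfsg.Agent.CosetEnum in
theorem xpow : fi23h.closed (Setup.wpow [5, 6, 9, 4, 8, 1, 2, 3, 0, 7, 9] 17) = true := by decide +kernel

open Cfsg.Agent.CosetEnum in
theorem axpow : fi23h.closed (Setup.wpow ([0] ++ [5, 6, 9, 4, 8, 1, 2, 3, 0, 7, 9]) 15) = true := by decide +kernel

open Cfsg.Agent.CosetEnum in
theorem kill0 : Setup.killOneOK fi23h 17 0 ([5, 6, 9, 4, 8, 1, 2, 3, 0, 7, 9], 15, 2) = true :=
  Setup.killOneOK_of (by decide +kernel) rfl xpow axpow (by decide +kernel) (by decide)

open Cfsg.Agent.CosetEnum in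
theorem kill1 : Setup.killOneOK fi23h 17 1 ([0, 1], 0, 0) = true := by decide +kernel

open Cfsg.Agent.CosetEnum in
theorem kill2 : Setup.killOneOK fi23h 17 2 ([1, 2], 0, 1) = true := by decide +kernel

open Cfsg.Agent.CosetEnum in
theorem kill3 : Setup.killOneOK fi23h 17 3 ([2, 3], 0, 2) = true := by decide +kernel

open Cfsg.Agent.CosetEnum in
theorem kill4 : Setup.killOneOK fi23h 17 4 ([3, 4], 0, 3) = true := by decide +kernel

open Cfsg.Agent.CosetEnum in
theorem kill5 : Setup.killOneOK fi23h 17 5 ([4, 5], 0, 4) = true := by decide +kernel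

open Cfsg.Agent.CosetEnum in
theorem kill6 : Setup.killOneOK fi23h 17 6 ([5, 6], 0, 5) = true := by decide +kernel

open Cfsg.Agent.CosetEnum in
theorem kill7 : Setup.killOneOK fi23h 17 7 ([6, 7], 0, 6) = true := by decide +kernel

open Cfsg.Agent.CosetEnum in
theorem kill8 : Setup.killOneOK fi23h 17 8 ([3, 8], 0, 3) = true := by decide +kernel

open Cfsg.Agent.CosetEnum in
theorem kill9 : Setup.killOneOK fi23h 17 9 ([8, 9], 0, 8) = true := by decide +kernel

open Cfsg.Agent.CosetEnum in
theorem kill_ok : Setup.killOK fi23h 17 kill = true := by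
  refine Setup.killOK_of rfl fun a ha => ?_
  have ha' : a < 10 := ha
  match a, ha' with
  | 0, _ => exact kill0
  | 1, _ => exact kill1
  | 2, _ => exact kill2
  | 3, _ => exact kill3
  | 4, _ => exact kill4
  | 5, _ => exact kill5
  | 6, _ => exact kill6
  | 7, _ => exact kill7
  | 8, _ => exact kill8
  | 9, _ => exact kill9
  | a + 10, h => exact absurd h (by omega)

open Cfsg.Agent.CosetEnum in
theorem main : IsSimpleGroup fi23Setup.G ∧ Nat.card fi23Setup.G = 4089470473293004800 := by
  have T := Cfsg.Agent.S1689.table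
  have hch := fi23h_chain_check
  simp only [Bool.and_eq_true] at hch
  have hub := Setup.card_top (Setup.Table.index T) (by decide +kernel)
    (Setup.bound_closure fi23Setup_gens fi23_letters fi23_bound0 (hs := Cfsg.Agent.S1689.hgens) (by decide +kernel))
  rw [show fi23h.n * 129123503308800 = 4089470473293004800 by decide +kernel] at hub
  obtain ⟨hcard, hinj⟩ := Setup.card_eq_of_bounds T.gens T.letters T.perm T.rels fi23h_chain hch.1 hub
    (beq_iff.mp hch.2)
  obtain ⟨ext, hsrc, hext⟩ := T.src
  refine ⟨Setup.isSimpleGroup_of_cert T.gens T.letters T.check T.rels T.perm T.subs hsrc hext hinj (by decide +kernel)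
    [fi23h_orb0, fi23h_orb1] ?_ (by decide +kernel) 17 1 (by norm_num) (by decide +kernel) ?_
    _ kill_ok, hcard⟩
  · intro O hO
    have h0 : ∀ O : OrbitData, (fi23h.reachOK O && fi23h.invariantOK O) = true →
        fi23h.reachOK O = true ∧ fi23h.invariantOK O = true := fun O h => by simpa using h
    simp only [List.mem_cons, List.not_mem_nil, or_false] at hO
    rcases hO with rfl | rfl
    · exact ⟨(h0 _ fi23h_orb0_check).1, (h0 _ fi23h_orb0_check).2, by decide +kernel⟩
    · exact ⟨(h0 _ fi23h_orb1_check).1, (h0 _ fi23h_orb1_check).2, by decide +kernel⟩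
  · rw [hcard]; norm_num

/-- The presented Fischer group Fi23 is simple of the expected order (that is, it is a simple group of the order of the Fischer group Fi₂₃). -/
theorem result : Cfsg.IsFi23 Cfsg.Spor.Fi23 := by
  exact Cfsg.Agent.S1697.main

end Cfsg.Agent.S1697
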