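import Cfsg.Statements.S0814
import Cfsg.Agent.Lib.AutPSp.FourEven
import Cfsg.Agent.Lib.AutPSL.Count

set_option autoImplicit false
open Cfsg

namespace Cfsg.Agent.S0814

/-- |Aut(PSp_2m(q))| = gcd(2, q−1) · f · |PSp_2m(q)| for q = p^f, m ≥ 2, (m, q) ≠ (2, 2), with an extra factor 2 exactly when m = 2 and p = 2. -/
theorem result {F : Type*} [Field F] [Fintype F] (p f : ℕ) [Fact p.Prime] (hf : 1 ≤ f) (hF : Fintype.card F = p ^ f) (m : ℕ) (hm : 2 ≤ m) (h22 : m = 2 → 3 ≤ p ^ f) : Nat.card (MulAut (Cfsg.PSp m F)) = (if m = 2 ∧ p = 2 then 2 else 1) * Nat.gcd 2 (p ^ f - 1) * f * Nat.card (Cfsg.PSp m F) := by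
  classical
  have hq : Nat.card F = p ^ f := by rw [Nat.card_eq_fintype_card, hF]
  haveI : CharP F p := by
    obtain ⟨c, hc⟩ := CharP.exists F
    haveI := hc
    obtain ⟨k, hc', hk⟩ := FiniteField.card F c
    rw [hF] at hk
    have hd : p ∣ c ^ (k : ℕ) := hk ▸ dvd_pow_self p (by omega)
    rwa [(Nat.prime_dvd_prime_iff_eq Fact.out hc').mp ((Fact.out : p.Prime).dvd_of_dvd_pow hd)]
  have hset : Nat.card (Agent.AutPSp.semiSet m F) = Nat.gcd 2 (p ^ f - 1) * f * Nat.card (Cfsg.PSp m F) := by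
    rw [Agent.AutPSp.card_semiSet (by omega), Agent.AutPSp.card_Sp_eq_center_mul (by omega), hq,
      (Agent.AutPSL.fieldAut_facts p f hf hF).2]
    ring
  by_cases hmp : m = 2 ∧ p = 2
  · obtain ⟨rfl, rfl⟩ := hmp
    rw [if_pos ⟨rfl, rfl⟩, Agent.AutPSp.card_mulAut_four, hset]
    ring
  · have h : 3 ≤ m ∨ p ≠ 2 := by
      by_cases h3 : 3 ≤ m
      · exact Or.inl h3
      · exact Or.inr fun hp => hmp ⟨by omega, hp⟩
    rw [if_neg hmp, one_mul, ← hset]
    refine Nat.card_congr (Equiv.subtypeUnivEquiv fun α => ?_).symm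
    exact Agent.AutPSp.mem_semiSet_of_transPres hm (Agent.AutPSp.transPres_all p hm h α)

end Cfsg.Agent.S0814
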