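import Cfsg.Statements.S2566
import Cfsg.Agent.Lib.Forms.Count

set_option autoImplicit false
open Cfsg

namespace Cfsg.Agent.S2566

/-- The two-dimensional representation of the symmetric group of degree 3 on even subsets. -/
def mat (σ : Equiv.Perm (Fin 3)) : Fin 2 → Fin 2 → ZMod 2 := fun r c =>
  -- the image of `e_c + e_{c+1}`, expanded in that basis
  if r = 0 then (if σ c.castSucc = 0 ∨ σ c.succ = 0 then 1 else 0)
  else (if σ c.castSucc = 2 ∨ σ c.succ = 2 then 1 else 0)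

/-- A vector as a two by two array with determinant form `x₀ y₀ + x₁ y₁`. -/
def toArr (v : Fin 2 ⊕ Fin 2 → ZMod 2) : Fin 2 → Fin 2 → ZMod 2 :=
  ![![v (.inl 0), v (.inl 1)], ![v (.inr 1), v (.inr 0)]]

/-- Inverse of `toArr`. -/
def ofArr (X : Fin 2 → Fin 2 → ZMod 2) : Fin 2 ⊕ Fin 2 → ZMod 2 :=
  Sum.elim ![X 0 0, X 0 1] ![X 1 1, X 1 0]

/-- Product of arrays. -/
def amul (X Y : Fin 2 → Fin 2 → ZMod 2) : Fin 2 → Fin 2 → ZMod 2 :=
  fun r c => X r 0 * Y 0 c + X r 1 * Y 1 c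

/-- Left multiplication. -/
def lmat (σ : Equiv.Perm (Fin 3)) : Matrix (Fin 2 ⊕ Fin 2) (Fin 2 ⊕ Fin 2) (ZMod 2) :=
  Matrix.of fun i j => ofArr (amul (mat σ) (toArr (Pi.single j 1))) i

/-- Right multiplication by the inverse. -/
def rmat (σ : Equiv.Perm (Fin 3)) : Matrix (Fin 2 ⊕ Fin 2) (Fin 2 ⊕ Fin 2) (ZMod 2) :=
  Matrix.of fun i j => ofArr (amul (toArr (Pi.single j 1)) (mat σ⁻¹)) i

/-- Transposition of arrays. -/
def tmat : Matrix (Fin 2 ⊕ Fin 2) (Fin 2 ⊕ Fin 2) (ZMod 2) :=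
  Matrix.of fun i j => ofArr (fun r c => toArr (Pi.single j 1) c r) i

theorem lmat_one : lmat 1 = 1 := by decide +kernel
theorem rmat_one : rmat 1 = 1 := by decide +kernel
theorem lmat_mul : ∀ σ τ, lmat (σ * τ) = lmat σ * lmat τ := by decide +kernel
theorem rmat_mul : ∀ σ τ, rmat (σ * τ) = rmat σ * rmat τ := by decide +kernel
theorem lmat_rmat : ∀ σ τ, lmat σ * rmat τ = rmat τ * lmat σ := by decide +kernel
theorem lmat_eq_rmat : ∀ σ τ, lmat σ = rmat τ → σ = 1 ∧ τ = 1 := by decide +kernel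
theorem tmat_mul : tmat * tmat = 1 := by decide +kernel
theorem tmat_lmat : ∀ σ, ∃ τ, tmat * lmat σ * tmat = rmat τ := by decide +kernel
theorem lmat_iso : ∀ σ v, Cfsg.quadFormPlus 2 (ZMod 2) ((lmat σ).mulVec v)
    = Cfsg.quadFormPlus 2 (ZMod 2) v := by
  unfold Cfsg.quadFormPlus
  decide +kernel
theorem rmat_iso : ∀ σ v, Cfsg.quadFormPlus 2 (ZMod 2) ((rmat σ).mulVec v)
    = Cfsg.quadFormPlus 2 (ZMod 2) v := by
  unfold Cfsg.quadFormPlus
  decide +kernel
theorem tmat_iso : ∀ v, Cfsg.quadFormPlus 2 (ZMod 2) (tmat.mulVec v)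
    = Cfsg.quadFormPlus 2 (ZMod 2) v := by
  unfold Cfsg.quadFormPlus
  decide +kernel

/-- The orthogonal group. -/
abbrev O4 := ↥(Cfsg.isometryGroup (ZMod 2) (Cfsg.quadFormPlus 2 (ZMod 2)))

/-- A multiplicative family of isometric matrices as a homomorphism. -/
def mkHom (f : Equiv.Perm (Fin 3) → Matrix (Fin 2 ⊕ Fin 2) (Fin 2 ⊕ Fin 2) (ZMod 2))
    (h1 : f 1 = 1) (hm : ∀ σ τ, f (σ * τ) = f σ * f τ)
    (hi : ∀ σ v, Cfsg.quadFormPlus 2 (ZMod 2) ((f σ).mulVec v)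
      = Cfsg.quadFormPlus 2 (ZMod 2) v) : Equiv.Perm (Fin 3) →* O4 :=
  (({ toFun := f, map_one' := h1, map_mul' := hm } : Equiv.Perm (Fin 3) →* _).toHomUnits).codRestrict
    (Cfsg.isometryGroup (ZMod 2) (Cfsg.quadFormPlus 2 (ZMod 2))) fun σ u _ => hi σ u

theorem coe_mkHom (f : Equiv.Perm (Fin 3) → Matrix (Fin 2 ⊕ Fin 2) (Fin 2 ⊕ Fin 2) (ZMod 2))
    (h1 : f 1 = 1) (hm : ∀ σ τ, f (σ * τ) = f σ * f τ)
    (hi : ∀ σ v, Cfsg.quadFormPlus 2 (ZMod 2) ((f σ).mulVec v)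
      = Cfsg.quadFormPlus 2 (ZMod 2) v) (σ : Equiv.Perm (Fin 3)) :
    ((mkHom f h1 hm hi σ).1 : Matrix _ _ (ZMod 2)) = f σ := rfl

/-- The matrix of an isometry. -/
def toMat (x : O4) : Matrix (Fin 2 ⊕ Fin 2) (Fin 2 ⊕ Fin 2) (ZMod 2) := x.1.val

theorem ext_coe {x y : O4} (h : toMat x = toMat y) : x = y :=
  Subtype.ext (Units.ext h)

/-- The full orthogonal group of the plus-type form x₁y₁ + x₂y₂ in dimension 4 over the field of two elements has order 72 and is isomorphic to the wreath product of the symmetric group of degree 3 by a group of order 2: it has a normal subgroup isomorphic to the direct product of two symmetric groups of degree 3, of index 2, whose two direct factors are interchanged by conjugation by some element. -/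
theorem result :
    Nat.card ↥(Cfsg.isometryGroup (ZMod 2) (Cfsg.quadFormPlus 2 (ZMod 2))) = 72 ∧
    ∃ (A B : Subgroup ↥(Cfsg.isometryGroup (ZMod 2) (Cfsg.quadFormPlus 2 (ZMod 2)))),
      Nonempty (↥A ≃* Equiv.Perm (Fin 3)) ∧ Nonempty (↥B ≃* Equiv.Perm (Fin 3)) ∧ A ⊓ B = ⊥ ∧ (∀ a ∈ A, ∀ b ∈ B, a * b = b * a) ∧
      (A ⊔ B).index = 2 ∧ ∃ g : ↥(Cfsg.isometryGroup (ZMod 2) (Cfsg.quadFormPlus 2 (ZMod 2))), A.map (MulAut.conj g).toMonoidHom = B := by
  classical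
  have hcard : Nat.card O4 = 72 := by
    rw [Nat.card_congr (Forms.isometryGroupEquiv (Cfsg.quadFormPlus 2 (ZMod 2))).toEquiv,
      ← Forms.qfPlus_eq, Forms.card_preservingFun_qfPlus, Nat.card_zmod]
    decide
  refine ⟨hcard, ?_⟩
  let L := mkHom lmat lmat_one lmat_mul lmat_iso
  let R := mkHom rmat rmat_one rmat_mul rmat_iso
  have hL : Function.Injective L := by
    rw [injective_iff_map_eq_one]
    intro σ hσ
    have h : lmat σ = rmat 1 := by
      rw [rmat_one, ← coe_mkHom lmat lmat_one lmat_mul lmat_iso σ, show mkHom lmat _ _ _ σ = 1 from hσ]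
      rfl
    exact (lmat_eq_rmat σ 1 h).1
  have hR : Function.Injective R := by
    rw [injective_iff_map_eq_one]
    intro σ hσ
    have h : lmat 1 = rmat σ := by
      rw [lmat_one, ← coe_mkHom rmat rmat_one rmat_mul rmat_iso σ, show mkHom rmat _ _ _ σ = 1 from hσ]
      rfl
    exact (lmat_eq_rmat 1 σ h).2
  have hcomm : ∀ σ τ, L σ * R τ = R τ * L σ := fun σ τ => ext_coe (lmat_rmat σ τ)
  refine ⟨L.range, R.range, ⟨(MonoidHom.ofInjective hL).symm⟩, ⟨(MonoidHom.ofInjective hR).symm⟩,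
    ?_, ?_, ?_, ?_⟩
  · rw [eq_bot_iff]
    rintro x ⟨⟨σ, rfl⟩, ⟨τ, hτ⟩⟩
    have h : lmat σ = rmat τ := congrArg toMat hτ.symm
    rw [(lmat_eq_rmat σ τ h).1, map_one]
    exact Subgroup.mem_bot.2 rfl
  · rintro _ ⟨σ, rfl⟩ _ ⟨τ, rfl⟩
    exact hcomm σ τ
  · let P := L.noncommCoprod R hcomm
    have hP : P.range = L.range ⊔ R.range := MonoidHom.noncommCoprod_range _ _ _
    have hPinj : Function.Injective P := by
      rw [injective_iff_map_eq_one]
      rintro ⟨σ, τ⟩ h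
      have h' : L σ * R τ = 1 := h
      rw [mul_eq_one_iff_eq_inv, ← map_inv] at h'
      have h'' : lmat σ = rmat τ⁻¹ := congrArg toMat h'
      obtain ⟨h1, h2⟩ := lmat_eq_rmat σ τ⁻¹ h''
      rw [inv_eq_one] at h2
      rw [h1, h2]
      rfl
    have hc : Nat.card ↥(L.range ⊔ R.range) = 36 := by
      rw [← hP, ← Nat.card_congr (MonoidHom.ofInjective hPinj).toEquiv, Nat.card_prod,
        Nat.card_eq_fintype_card, Fintype.card_perm]
      rfl
    have h := Subgroup.index_mul_card (L.range ⊔ R.range)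
    rw [hc, hcard] at h
    omega
  · let T : O4 := ⟨⟨tmat, tmat, tmat_mul, tmat_mul⟩, fun u _ => tmat_iso u⟩
    haveI : Finite O4 := Nat.finite_of_card_ne_zero (by omega)
    refine ⟨T, Subgroup.eq_of_le_of_card_ge ?_ ?_⟩
    · rintro _ ⟨_, ⟨σ, rfl⟩, rfl⟩
      obtain ⟨τ, hτ⟩ := tmat_lmat σ
      exact ⟨τ, ext_coe hτ.symm⟩
    · rw [Subgroup.card_map_of_injective (MulEquiv.injective _),
        ← Nat.card_congr (MonoidHom.ofInjective hL).toEquiv,
        ← Nat.card_congr (MonoidHom.ofInjective hR).toEquiv]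

end Cfsg.Agent.S2566
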