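import Cfsg.Statements.S1683
import Cfsg.Agent.EqLemmas
import Cfsg.Agent.Lib.CosetEnum.Index
import Cfsg.Agent.Lib.CosetEnum.SetupHe
import Cfsg.Agent.Lib.CosetEnum.TableHe2058

set_option autoImplicit false
open Cfsg

namespace Cfsg.Agent.S1683

open Cfsg.Agent.CosetEnum in
theorem table : Setup.Table heSetup he2058 heH2058 := by
  have hl : heSetup.lettersOK heLetters = true := by decide +kernel
  refine Setup.Table.mk' (ext := [he2058_seed0.tgt]) heSetup_gens he2058_check (by decide +kernel) ?_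
  intro w hw
  rw [List.mem_singleton.mp hw]
  exact Setup.seed_fixes_id heSetup_gens hl he2058_seed0_check (by decide +kernel)

open Cfsg.Agent.CosetEnum in
theorem main (H : Subgroup heSetup.G) (hH : H = heSetup.closureOf heH2058) :
    H.index = 2058 ∧ ∃ q₁ q₂ q₃ q₄ : heSetup.G ⧸ H, MulAction.orbit H q₁ ≠ MulAction.orbit H q₂ ∧
      (MulAction.orbit H q₁).ncard = 136 ∧ (MulAction.orbit H q₂).ncard = 136 ∧
      (MulAction.orbit H q₃).ncard = 425 ∧ (MulAction.orbit H q₄).ncard = 1360 := by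
  subst hH
  refine ⟨Setup.Table.index table, ?_⟩
  obtain ⟨e, he⟩ := Setup.Table.orbit table
  have key : ∀ O : OrbitData, (he2058.reachOK O && he2058.invariantOK O) = true →
      O.words = heH2058.map (heSetup.wl he2058) →
      ∃ q, (MulAction.orbit (heSetup.closureOf heH2058) q).ncard = O.size ∧
        MulAction.orbit (heSetup.closureOf heH2058) q = e '' {i | (i : ℕ) ∈ Data.maskSet he2058 O} := by
    intro O h1 h2
    simp only [Bool.and_eq_true] at h1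
    exact he O h1.1 h1.2 h2
  obtain ⟨q₁, hq1, hq1'⟩ := key he2058_orb2 he2058_orb2_check (by decide +kernel)
  obtain ⟨q₂, hq2, hq2'⟩ := key he2058_orb3 he2058_orb3_check (by decide +kernel)
  obtain ⟨q₃, hq3, _⟩ := key he2058_orb1 he2058_orb1_check (by decide +kernel)
  obtain ⟨q₄, hq4, _⟩ := key he2058_orb0 he2058_orb0_check (by decide +kernel)
  refine ⟨q₁, q₂, q₃, q₄, ?_, hq1, hq2, hq3, hq4⟩
  intro h
  have hdiff : lane he2058.B he2058_orb3.mask 46 = 0 := by decide +kernel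
  have h46 : (46 : ℕ) ∈ Data.maskSet he2058 he2058_orb2 := by
    refine ⟨by decide +kernel, ?_⟩
    decide +kernel
  replace h := hq1'.symm.trans (h.trans hq2')
  have h2 := e.injective.image_injective h
  have h3 := Set.ext_iff.mp h2 ⟨46, h46.1⟩ |>.mp h46
  exact absurd (h3.2.symm.trans hdiff) one_ne_zero

/-- In the presented Held group, let H be the subgroup generated by the images of a, c, d, e, f, (ab)^2 and (bcde)^7. Then H has index 2058, there are four distinct H-orbits on the cosets of H other than H itself, of sizes 136, 136, 425 and 1360. -/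
theorem result : (((Subgroup.closure ({Cfsg.Spor.He.a, Cfsg.Spor.He.c, Cfsg.Spor.He.d, Cfsg.Spor.He.e, Cfsg.Spor.He.f, (Cfsg.Spor.He.a * Cfsg.Spor.He.b) ^ 2, (Cfsg.Spor.He.b * Cfsg.Spor.He.c * Cfsg.Spor.He.d * Cfsg.Spor.He.e) ^ 7} : Set (FreeGroup Cfsg.Spor.He.Gen))).map (PresentedGroup.mk (Cfsg.Spor.coxRelators Cfsg.Spor.He.edges ∪ {r | r ∈ Cfsg.Spor.He.extra})))).index = 2058 ∧ ∃ q₁ q₂ q₃ q₄ : Cfsg.Spor.He ⧸ (((Subgroup.closure ({Cfsg.Spor.He.a, Cfsg.Spor.He.c, Cfsg.Spor.He.d, Cfsg.Spor.He.e, Cfsg.Spor.He.f, (Cfsg.Spor.He.a * Cfsg.Spor.He.b) ^ 2, (Cfsg.Spor.He.b * Cfsg.Spor.He.c * Cfsg.Spor.He.d * Cfsg.Spor.He.e) ^ 7} : Set (FreeGroup Cfsg.Spor.He.Gen))).map (PresentedGroup.mk (Cfsg.Spor.coxRelators Cfsg.Spor.He.edges ∪ {r | r ∈ Cfsg.Spor.He.extra})))), MulAction.orbit (((Subgroup.closure ({Cfsg.Spor.He.a, Cfsg.Spor.He.c, Cfsg.Spor.He.d, Cfsg.Spor.He.e, Cfsg.Spor.He.f,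 (Cfsg.Spor.He.a * Cfsg.Spor.He.b) ^ 2, (Cfsg.Spor.He.b * Cfsg.Spor.He.c * Cfsg.Spor.He.d * Cfsg.Spor.He.e) ^ 7} : Set (FreeGroup Cfsg.Spor.He.Gen))).map (PresentedGroup.mk (Cfsg.Spor.coxRelators Cfsg.Spor.He.edges ∪ {r | r ∈ Cfsg.Spor.He.extra})))) q₁ ≠ MulAction.orbit (((Subgroup.closure ({Cfsg.Spor.He.a, Cfsg.Spor.He.c, Cfsg.Spor.He.d, Cfsg.Spor.He.e, Cfsg.Spor.He.f, (Cfsg.Spor.He.a * Cfsg.Spor.He.b) ^ 2, (Cfsg.Spor.He.b * Cfsg.Spor.He.c * Cfsg.Spor.He.d * Cfsg.Spor.He.e) ^ 7} : Set (FreeGroup Cfsg.Spor.He.Gen))).map (PresentedGroup.mk (Cfsg.Spor.coxRelators Cfsg.Spor.He.edges ∪ {r | r ∈ Cfsg.Spor.He.extra})))) q₂ ∧ (MulAction.orbit (((Subgroup.closure ({Cfsg.Spor.He.a, Cfsg.Spor.He.c, Cfsg.Spor.He.d, Cfsg.Spor.He.e, Cfsg.Spor.He.f, (Cfsg.Spor.He.a * Cfsg.Spor.He.b) ^ 2, (Cfsg.Spor.He.b * Cfsg.Spor.He.c * Cfsg.Spor.He.d * Cfsg.Spor.He.e) ^ 7} : Set (FreeGroup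 Cfsg.Spor.He.Gen))).map (PresentedGroup.mk (Cfsg.Spor.coxRelators Cfsg.Spor.He.edges ∪ {r | r ∈ Cfsg.Spor.He.extra})))) q₁).ncard = 136 ∧ (MulAction.orbit (((Subgroup.closure ({Cfsg.Spor.He.a, Cfsg.Spor.He.c, Cfsg.Spor.He.d, Cfsg.Spor.He.e, Cfsg.Spor.He.f, (Cfsg.Spor.He.a * Cfsg.Spor.He.b) ^ 2, (Cfsg.Spor.He.b * Cfsg.Spor.He.c * Cfsg.Spor.He.d * Cfsg.Spor.He.e) ^ 7} : Set (FreeGroup Cfsg.Spor.He.Gen))).map (PresentedGroup.mk (Cfsg.Spor.coxRelators Cfsg.Spor.He.edges ∪ {r | r ∈ Cfsg.Spor.He.extra})))) q₂).ncard = 136 ∧ (MulAction.orbit (((Subgroup.closure ({Cfsg.Spor.He.a, Cfsg.Spor.He.c, Cfsg.Spor.He.d, Cfsg.Spor.He.e, Cfsg.Spor.He.f, (Cfsg.Spor.He.a * Cfsg.Spor.He.b) ^ 2, (Cfsg.Spor.He.b * Cfsg.Spor.He.c * Cfsg.Spor.He.d * Cfsg.Spor.He.e) ^ 7} : Set (FreeGroup Cfsg.Spor.He.Gen))).map (PresentedGroup.mk (Cfsg.Spor.coxRelators Cfsg.Spor.He.edges ∪ {r | r ∈ Cfsg.Spor.He.extra}))))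 q₃).ncard = 425 ∧ (MulAction.orbit (((Subgroup.closure ({Cfsg.Spor.He.a, Cfsg.Spor.He.c, Cfsg.Spor.He.d, Cfsg.Spor.He.e, Cfsg.Spor.He.f, (Cfsg.Spor.He.a * Cfsg.Spor.He.b) ^ 2, (Cfsg.Spor.He.b * Cfsg.Spor.He.c * Cfsg.Spor.He.d * Cfsg.Spor.He.e) ^ 7} : Set (FreeGroup Cfsg.Spor.He.Gen))).map (PresentedGroup.mk (Cfsg.Spor.coxRelators Cfsg.Spor.He.edges ∪ {r | r ∈ Cfsg.Spor.He.extra})))) q₄).ncard = 1360 := by
  refine main _ ?_
  open Cfsg.Agent.CosetEnum in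
  exact Setup.closureOf_eq heSetup heH2058 _ (by
    ext x; simp only [heH2058, List.mem_cons, List.not_mem_nil, or_false, Set.mem_insert_iff,
      Set.mem_singleton_iff, Set.mem_ofPred_eq])

end Cfsg.Agent.S1683
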