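import Cfsg.Statements.S1695
import Cfsg.Agent.EqLemmas
import Cfsg.Agent.S1683
import Cfsg.Agent.Lib.CosetEnum.BaseHe
import Cfsg.Agent.Lib.CosetEnum.BoundHe

set_option autoImplicit false
open Cfsg

namespace Cfsg.Agent.S1695

open Cfsg.Agent.CosetEnum in
theorem main : IsSimpleGroup heSetup.G ∧ Nat.card heSetup.G = 4030387200 := by
  have T := Cfsg.Agent.S1683.table
  have hch := he2058_chain_check
  simp only [Bool.and_eq_true] at hch
  obtain ⟨hcard, hinj⟩ := Setup.card_eq_of_bounds T.gens T.letters T.perm T.rels he2058_chain hch.1 he_card_le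
    (beq_iff.mp hch.2)
  obtain ⟨ext, hsrc, hext⟩ := T.src
  refine ⟨Setup.isSimpleGroup_of_cert T.gens T.letters T.check T.rels T.perm T.subs hsrc hext hinj (by decide +kernel)
    [he2058_orb0, he2058_orb1, he2058_orb2, he2058_orb3] ?_ (by decide +kernel) 7 3 (by norm_num) (by decide +kernel) ?_
    [([3, 2, 5, 6, 3, 2, 1, 3, 5, 4, 3, 2, 5, 6, 3, 2, 1, 3, 5, 4], 7, 2), ([2, 5, 0, 5, 3, 1, 2, 5, 0, 5, 3, 1, 2, 5, 0, 5, 3, 1], 21, 2), ([0, 1, 5, 6, 3, 0, 1, 5, 6, 3, 0, 1, 5, 6, 3, 0, 1, 5, 6, 3], 7, 2), ([4, 5, 3, 6], 3, 2), ([5, 6, 3], 7, 2), ([5, 6, 3], 3, 2), ([5, 3, 6], 3, 2)] (by decide +kernel), hcard⟩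
  · intro O hO
    have h0 : ∀ O : OrbitData, (he2058.reachOK O && he2058.invariantOK O) = true →
        he2058.reachOK O = true ∧ he2058.invariantOK O = true := fun O h => by simpa using h
    simp only [List.mem_cons, List.not_mem_nil, or_false] at hO
    rcases hO with rfl | rfl | rfl | rfl
    · exact ⟨(h0 _ he2058_orb0_check).1, (h0 _ he2058_orb0_check).2, by decide +kernel⟩
    · exact ⟨(h0 _ he2058_orb1_check).1, (h0 _ he2058_orb1_check).2, by decide +kernel⟩
    · exact ⟨(h0 _ he2058_orb2_check).1, (h0 _ he2058_orb2_check).2, by decide +kernel⟩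
    · exact ⟨(h0 _ he2058_orb3_check).1, (h0 _ he2058_orb3_check).2, by decide +kernel⟩
  · rw [hcard]; norm_num

/-- The presented Held group is simple of the expected order (that is, it is a simple group of the order of the Held group). -/
theorem result : Cfsg.IsHe Cfsg.Spor.He := by
  exact Cfsg.Agent.S1695.main

end Cfsg.Agent.S1695
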