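import Cfsg.Statements.S5422
import Cfsg.Agent.Lib.LargeExtraspecial.Pair
import Cfsg.Agent.S5421

set_option autoImplicit false
open Cfsg
open scoped Pointwise

namespace Cfsg.Agent.S5422

/-- Let Q be an extraspecial 2-subgroup of the finite group G whose centralizer in G is its centre Z and which is normal in the centralizer of Z; suppose Q has width at least 2 (order 2^(2w+1) with w ≥ 2) and g is an element of G not normalizing Z with g Z g⁻¹ inside Q. Then Z lies inside g Q g⁻¹; writing V for the subgroup generated by Z and g Z g⁻¹ (a four-group), the normalizer of V induces on V its full automorphism group, that is, the centralizer of V has index 6 in the normalizer of V; and Q is a large extraspecial 2-subgroup of G. -/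
theorem result {G : Type*} [Group G] [Finite G] (Q : Subgroup G) (hL1 : Cfsg.IsExtraspecial 2 ↥Q) (hL2 : Subgroup.centralizer (Q : Set G) = ((Subgroup.center ↥Q).map Q.subtype)) (hL3 : Subgroup.centralizer (((Subgroup.center ↥Q).map Q.subtype) : Set G) ≤ Subgroup.normalizer (Q : Set G)) (w : ℕ) (hw : 2 ≤ w) (hcard : Nat.card ↥Q = 2 ^ (2 * w + 1)) (g : G) (hg : g ∉ Subgroup.normalizer (((Subgroup.center ↥Q).map Q.subtype) : Set G)) (hZg : (((Subgroup.center ↥Q).map Q.subtype)).map (MulAut.conj g).toMonoidHom ≤ Q) : ((Subgroup.center ↥Q).map Q.subtype) ≤ (Q).map (MulAut.conj g).toMonoidHom ∧ (Subgroup.centralizer ((((Subgroup.center ↥Q).map Q.subtype) ⊔ (((Subgroup.center ↥Q).map Q.subtype)).map (MulAut.conj g).toMonoidHom : Subgroup G) : Set G)).relIndex (Subgroup.normalizer ((((Subgroup.center ↥Q).map Q.subtype) ⊔ (((Subgroup.center ↥Q).map Q.subtype)).map (MulAut.conj g).toMonoidHom : Subgroup G) : Set G)) = 6 ∧ Cfsg.IsLargeExtraspecial Q := by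
  haveI : Fact (Nat.Prime 2) := ⟨Nat.prime_two⟩
  obtain ⟨z, hz, hz2, hzQ⟩ := LargeExtraspecial.exists_gen_zc hL1
  have D := LargeExtraspecial.Data.of_extraspecial hL1 hL2 hL3 hz hz2
  have hzz : z ∈ LargeExtraspecial.zc Q := hz ▸ Subgroup.mem_zpowers z
  set s := g * z * g⁻¹ with hsdef
  have hs : s ∈ Q := hZg ⟨z, hzz, rfl⟩
  have hzc : ∀ x, x ∈ LargeExtraspecial.zc Q ↔ x = 1 ∨ x = z := fun x => by
    refine ⟨fun h => LargeExtraspecial.mem_zpowers_two D.z_sq (hz ▸ h), ?_⟩
    rintro (rfl | rfl)
    · exact one_mem _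
    · exact hzz
  have hsz : s ≠ z := by
    intro h
    apply hg
    rw [Subgroup.mem_normalizer_iff]
    intro x
    have hgz : g * z * g⁻¹ = z := h
    show x ∈ LargeExtraspecial.zc Q ↔ g * x * g⁻¹ ∈ LargeExtraspecial.zc Q
    rw [hzc, hzc, conj_eq_one_iff]
    refine or_congr Iff.rfl ⟨fun hx => by rw [hx, hgz], fun hx => ?_⟩
    rw [← hgz] at hx
    simpa using hx
  have hcard32 : 32 ≤ Nat.card Q := by
    rw [hcard]
    calc 32 = 2 ^ 5 := by norm_num
      _ ≤ _ := Nat.pow_le_pow_right (by norm_num) (by omega)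
  have hzR := D.mem_conj hs hsz hcard32
  have DR := D.conjugate g
  refine ⟨?_, ?_, ?_⟩
  · intro x hx
    rcases (hzc x).mp hx with rfl | rfl
    · exact one_mem _
    · exact hzR
  · set V := LargeExtraspecial.zc Q ⊔ LargeExtraspecial.conjS g (LargeExtraspecial.zc Q) with hV
    show (Subgroup.centralizer (V : Set G)).relIndex (Subgroup.normalizer (V : Set G)) = 6
    have hzs : z * s = s * z := (D.z_central s hs).symm
    have hs1 : s ≠ 1 := DR.z_ne
    let W : Subgroup G :=
      { carrier := {1, z, s, s * z}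
        one_mem' := by simp
        mul_mem' := by
          intro a b ha hb
          have h1 : s * z * z = s := by rw [mul_assoc, D.z_sq, mul_one]
          have h2 : s * (s * z) = z := by rw [← mul_assoc, DR.z_sq, one_mul]
          have h3 : z * (s * z) = s := by rw [← mul_assoc, hzs, h1]
          have h4 : s * z * s = z := by rw [mul_assoc, hzs, h2]
          have h5 : s * z * (s * z) = 1 := by rw [← mul_assoc, h4, D.z_sq]
          simp only [Set.mem_insert_iff, Set.mem_singleton_iff] at ha hb ⊢
          have h0 : s * s = 1 := DR.z_sq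
          rcases ha with rfl | rfl | rfl | rfl <;> rcases hb with rfl | rfl | rfl | rfl <;>
            simp [D.z_sq, h0, h1, h2, h3, h4, h5, hzs]
        inv_mem' := by
          intro a ha
          simp only [Set.mem_insert_iff, Set.mem_singleton_iff] at ha ⊢
          have h0 : s⁻¹ = s := inv_eq_of_mul_eq_one_right DR.z_sq
          rcases ha with rfl | rfl | rfl | rfl <;>
            simp [inv_eq_of_mul_eq_one_right D.z_sq, h0, hzs] }
    have hVW : V = W := by
      apply le_antisymm
      · refine sup_le (fun x hx => ?_) ?_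
        · show x ∈ ({1, z, s, s * z} : Set G)
          rcases (hzc x).mp hx with rfl | rfl <;> simp
        · rintro _ ⟨x, hx, rfl⟩
          show (MulAut.conj g).toMonoidHom x ∈ ({1, z, s, s * z} : Set G)
          rcases (hzc x).mp hx with rfl | rfl <;> simp [hsdef]
      · intro x hx
        have hzV : z ∈ V := Subgroup.mem_sup_left hzz
        have hsV : s ∈ V := Subgroup.mem_sup_right ⟨z, hzz, rfl⟩
        change x ∈ ({1, z, s, s * z} : Set G) at hx
        simp only [Set.mem_insert_iff, Set.mem_singleton_iff] at hx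
        rcases hx with rfl | rfl | rfl | rfl
        exacts [one_mem _, hzV, hsV, mul_mem hsV hzV]
    obtain ⟨q, hq, hqs⟩ := D.exists_conj_eq hs hs1 hsz
    obtain ⟨r, hr, hrz⟩ := DR.exists_conj_eq hzR D.z_ne (Ne.symm hsz)
    set N := Subgroup.normalizer (V : Set G) with hN
    have hVN : ∀ n : G, (∀ x ∈ V, n * x * n⁻¹ ∈ V) → n ∈ N := fun n hn =>
      Subgroup.mem_normalizer_fintype (by simpa using hn)
    have hWmem : ∀ x, x ∈ V ↔ x = 1 ∨ x = z ∨ x = s ∨ x = s * z := fun x => by
      rw [hVW]; exact Iff.rfl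
    have hqz : q * z * q⁻¹ = z := by rw [D.z_central q hq]; group
    have hrs : r * s * r⁻¹ = s := by rw [hsdef, DR.z_central r hr, mul_inv_cancel_right]
    have hqN : q ∈ N := hVN q fun x hx => by
      rcases (hWmem x).mp hx with rfl | rfl | rfl | rfl
      · simp
      · rw [hqz]; exact hx
      · rw [hqs]; exact (hWmem _).mpr (by simp)
      · refine (hWmem _).mpr (Or.inr (Or.inr (Or.inl ?_)))
        calc q * (s * z) * q⁻¹ = (q * s * q⁻¹) * (q * z * q⁻¹) := by group
          _ = s * z * z := by rw [hqs, hqz]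
          _ = s := by rw [mul_assoc, D.z_sq, mul_one]
    have hrN : r ∈ N := hVN r fun x hx => by
      rcases (hWmem x).mp hx with rfl | rfl | rfl | rfl
      · simp
      · rw [hrz]; exact (hWmem _).mpr (Or.inr (Or.inr (Or.inr hzs)))
      · rw [hrs]; exact hx
      · refine (hWmem _).mpr (Or.inr (Or.inl ?_))
        calc r * (s * z) * r⁻¹ = (r * s * r⁻¹) * (r * z * r⁻¹) := by group
          _ = s * (s * z) := by rw [hrs, hrz, hzs]
          _ = z := by rw [← mul_assoc, DR.z_sq, one_mul]
    -- action on the three involutions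
    let T := {x : G // x = z ∨ x = s ∨ x = s * z}
    have hT : ∀ (n : N) (x : T), (n : G) * x * (n : G)⁻¹ = z ∨ (n : G) * x * (n : G)⁻¹ = s ∨
        (n : G) * x * (n : G)⁻¹ = s * z := by
      intro n x
      have hx1 : (x : G) ≠ 1 := by
        rcases x.2 with h | h | h <;> rw [h]
        · exact D.z_ne
        · exact hs1
        · intro h'; exact hsz ((eq_inv_of_mul_eq_one_left h').trans (inv_eq_of_mul_eq_one_right D.z_sq))
      have := (Subgroup.mem_normalizer_iff.mp n.2 x).mp ((hWmem _).mpr (Or.inr x.2))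
      exact ((hWmem _).mp this).resolve_left (fun h => hx1 (conj_eq_one_iff.mp h))
    let φ : N →* Equiv.Perm T :=
      { toFun := fun n =>
          { toFun := fun x => ⟨_, hT n x⟩
            invFun := fun x => ⟨_, hT n⁻¹ x⟩
            left_inv := fun x => by apply Subtype.ext; simp [mul_assoc]
            right_inv := fun x => by apply Subtype.ext; simp [mul_assoc] }
        map_one' := by ext x; simp
        map_mul' := fun m n => by ext x; simp [mul_assoc] }
    have hker : φ.ker = (Subgroup.centralizer (V : Set G)).subgroupOf N := by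
      ext n
      rw [MonoidHom.mem_ker, Subgroup.mem_subgroupOf, Subgroup.mem_centralizer_iff]
      constructor
      · intro h x hx
        rcases (hWmem x).mp hx with rfl | hx'
        · simp
        · have h' : (n : G) * x * (n : G)⁻¹ = x :=
            congrArg Subtype.val (DFunLike.congr_fun h ⟨x, hx'⟩)
          calc x * n = (n : G) * x * (n : G)⁻¹ * n := by rw [h']
            _ = n * x := by group
      · intro h
        ext x
        show (n : G) * x * (n : G)⁻¹ = x
        rw [← h x ((hWmem _).mpr (Or.inr x.2)), mul_inv_cancel_right]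
    rw [Subgroup.relIndex, ← hker, Subgroup.index_ker]
    have hc3 : Nat.card T = 3 := by
      have hne : s ≠ s * z := fun h => D.z_ne (mul_eq_left.mp h.symm)
      have hne2 : z ≠ s * z := fun h => hs1 (mul_eq_right.mp h.symm)
      have : Nat.card T = Set.ncard ({z, s, s * z} : Set G) := by
        rw [← Nat.card_coe_set_eq]; rfl
      rw [this, Set.ncard_insert_of_notMem (by simp [Ne.symm hsz, hne2]), Set.ncard_pair hne]
    have h6 : Nat.card (Equiv.Perm T) = 6 := by rw [Nat.card_perm, hc3]; rfl
    have hdvd := Subgroup.card_subgroup_dvd_card φ.range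
    rw [h6] at hdvd
    have ha : φ ⟨q, hqN⟩ ∈ φ.range := ⟨_, rfl⟩
    have hb : φ ⟨r, hrN⟩ ∈ φ.range := ⟨_, rfl⟩
    let zT : T := ⟨z, Or.inl rfl⟩
    let sT : T := ⟨s, Or.inr (Or.inl rfl)⟩
    have hqzT : φ ⟨q, hqN⟩ zT = zT := Subtype.ext hqz
    have hqsT : φ ⟨q, hqN⟩ sT ≠ sT := fun h => by
      have h' : q * s * q⁻¹ = s := congrArg Subtype.val h
      rw [hqs] at h'; exact D.z_ne (mul_eq_left.mp h')
    have hrzT : φ ⟨r, hrN⟩ zT ≠ zT := fun h => by
      have h' : r * z * r⁻¹ = z := congrArg Subtype.val h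
      rw [hrz] at h'; exact hs1 (mul_eq_left.mp h')
    have hq2 : orderOf (φ ⟨q, hqN⟩) = 2 := by
      rw [orderOf_eq_prime_iff]
      refine ⟨?_, fun h => hqsT (by rw [h]; rfl)⟩
      ext x
      show (φ ⟨q, hqN⟩ (φ ⟨q, hqN⟩ x) : G) = x
      show q * (q * x * q⁻¹) * q⁻¹ = x
      have e : q * q * x * (q * q)⁻¹ = x := by
        have hc : ∀ t, t ∈ V → z * t = t * z := fun t ht => by
          rcases (hWmem t).mp ht with rfl | rfl | rfl | rfl <;> simp [hzs, mul_assoc]
          rw [← mul_assoc, hzs, mul_assoc]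
        rcases D.sq hq with h | h <;> rw [h]
        · simp
        · rw [hc _ ((hWmem _).mpr (Or.inr x.2))]; group
      calc q * (q * x * q⁻¹) * q⁻¹ = q * q * x * (q * q)⁻¹ := by group
        _ = x := e
    have h2dvd : 2 ∣ Nat.card φ.range := by
      rw [← hq2, ← Subgroup.orderOf_mk (φ ⟨q, hqN⟩) ha]; exact orderOf_dvd_natCard _
    have h3le : 3 ≤ Nat.card φ.range := by
      have := Nat.card_le_card_of_injective (fun i : Fin 3 =>
        (![(1 : φ.range), ⟨_, ha⟩, ⟨_, hb⟩] : Fin 3 → φ.range) i) ?_
      · simpa using this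
      · intro i j hij
        have e1 : φ ⟨q, hqN⟩ ≠ 1 := fun h => hqsT (by rw [h]; rfl)
        have e2 : φ ⟨r, hrN⟩ ≠ 1 := fun h => hrzT (by rw [h]; rfl)
        have e3 : φ ⟨q, hqN⟩ ≠ φ ⟨r, hrN⟩ := fun h => hrzT (by rw [← h]; exact hqzT)
        have hij' := congrArg Subtype.val hij
        fin_cases i <;> fin_cases j <;> first
          | rfl
          | exact absurd hij' e1 | exact absurd hij'.symm e1
          | exact absurd hij' e2 | exact absurd hij'.symm e2
          | exact absurd hij' e3 | exact absurd hij'.symm e3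
    have := Nat.le_of_dvd (by norm_num) hdvd
    interval_cases h : Nat.card φ.range <;> omega
  · refine S5421.result Q hL1 hL2 hL3 s hs ?_ ?_ ?_
    · intro h
      rcases (hzc s).mp h with h' | h'
      · exact DR.z_ne h'
      · exact hsz h'
    · exact orderOf_eq_prime_iff.mpr ⟨(sq s).trans DR.z_sq, DR.z_ne⟩
    · intro x hx
      have hRle : LargeExtraspecial.conjS g Q ≤ Subgroup.centralizer ({s} : Set G) := fun y hy =>
        Subgroup.mem_centralizer_singleton_iff.mpr (DR.z_central y hy)
      rcases (hzc x).mp hx with rfl | rfl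
      · exact one_mem _
      refine ⟨⟨x, hRle hzR⟩, ?_, rfl⟩
      refine (le_sSup (a := (LargeExtraspecial.conjS g Q).subgroupOf (Subgroup.centralizer ({s} : Set G))) ?_)
        (Subgroup.mem_subgroupOf.mpr hzR)
      refine ⟨⟨fun n hn c => ?_⟩, ((LargeExtraspecial.isPGroup_of_extraspecial hL1).map _).comap_subtype⟩
      exact DR.norm c (Subgroup.mem_centralizer_singleton_iff.mp c.2) n hn

end Cfsg.Agent.S5422
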