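import Cfsg.Statements.S1055
import Cfsg.Agent.Lib.ChevBN.ConnTables
import Cfsg.Agent.Lib.ChevBN.PerfectTables
import Cfsg.Agent.Lib.ChevBN.RootTables
import Cfsg.Agent.Lib.Twisted.GoodG2

set_option autoImplicit false
open Cfsg

namespace Cfsg.Agent.S1055

/-- G₂(F) is simple for every field `F` other than the field with two elements. -/
theorem result {F : Type*} [Field F] (hF : ∃ a : F, a ≠ 0 ∧ a ≠ 1) : IsSimpleGroup ↥(Cfsg.Lie.chevG2.group F) ∧ ¬ IsMulCommutative ↥(Cfsg.Lie.chevG2.group F) := by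
  have hD := Cfsg.Agent.Twisted.good_chevG2
  exact ChevBN.group_isSimple hD ChevBN.rootsG2 ChevBN.connG2 (by decide)
    (ChevBN.commutator_group_eq_top hD (Or.inr hF) (fun q hq => ⟨_, ChevBN.smallOK_G2 q hq⟩)
      hD.pairing_self)

end Cfsg.Agent.S1055
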