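import Cfsg.Statements.S1307
import Cfsg.Agent.EqLemmas
import Cfsg.Agent.S0201
import Cfsg.Agent.Lib.Components.Quasisimple
import Cfsg.Agent.Lib.PGroup.UniqueOrderP
-- import your own Cfsg.Agent.* helpers here

set_option autoImplicit false
open Cfsg

namespace Cfsg.Agent.S1307


section Main
variable {H : Type*} [Group H] [Finite H]

theorem involution_unique (hrk : Cfsg.PRankLE 2 1 H) (S : Sylow 2 H) (hS : (S : Subgroup H) ≠ ⊥) :
    ∀ x y : ↥(S : Subgroup H), orderOf x = 2 → y ^ 2 = 1 → y ∈ Subgroup.zpowers x := by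
  have : Fact (Nat.Prime 2) := ⟨Nat.prime_two⟩
  have : Nontrivial ↥(S : Subgroup H) := (Subgroup.nontrivial_iff_ne_bot _).2 hS
  have := S.2.center_nontrivial
  obtain ⟨c, hc⟩ : ∃ c : Subgroup.center ↥(S : Subgroup H), orderOf c = 2 := by
    refine exists_prime_orderOf_dvd_card' 2 ?_
    obtain ⟨k, hk, hk'⟩ := (S.2.to_subgroup _).nontrivial_iff_card.1 ‹_›
    exact hk' ▸ dvd_pow_self 2 hk.ne'
  set z : H := ((c : ↥(S : Subgroup H)) : H) with hzdef
  have hz : orderOf z = 2 := by rw [hzdef, Subgroup.orderOf_coe, Subgroup.orderOf_coe, hc]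
  have key : ∀ y : ↥(S : Subgroup H), y ^ 2 = 1 → (y : H) = 1 ∨ (y : H) = z := by
    intro y hy
    by_contra hne
    rw [not_or] at hne
    have hzy : z * y = y * z :=
      (congrArg Subtype.val (Subgroup.mem_center_iff.1 c.2 y)).symm
    have hy2 : (y : H) ^ 2 = 1 := congrArg Subtype.val hy
    have hz2 : z ^ 2 = 1 := hz ▸ pow_orderOf_eq_one z
    let A : Subgroup H :=
      { carrier := {g | g = 1 ∨ g = z ∨ g = y ∨ g = z * y}
        one_mem' := Or.inl rfl
        mul_mem' := by
          have zz : z * z = 1 := by rw [← pow_two, hz2]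
          have yy : (y : H) * y = 1 := by rw [← pow_two, hy2]
          have zzy : z * (z * (y : H)) = y := by rw [← mul_assoc, zz, one_mul]
          have yzy : (y : H) * (z * y) = z := by rw [hzy, ← mul_assoc, yy, one_mul]
          rintro a b (rfl | rfl | rfl | rfl) (rfl | rfl | rfl | rfl) <;>
            simp [mul_assoc, zz, yy, zzy, yzy, ← hzy]
        inv_mem' := by
          have e1 : z⁻¹ = z := inv_eq_of_mul_eq_one_right (by rw [← pow_two, hz2])
          have e2 : (y : H)⁻¹ = y := inv_eq_of_mul_eq_one_right (by rw [← pow_two, hy2])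
          rintro a (rfl | rfl | rfl | rfl) <;> simp [e1, e2, ← hzy] }
    have hA : IsMulCommutative A := ⟨⟨by
      rintro ⟨a, rfl | rfl | rfl | rfl⟩ ⟨b, rfl | rfl | rfl | rfl⟩ <;>
        apply Subtype.ext <;> simp [← mul_assoc, hzy] <;> simp [mul_assoc, hzy]⟩⟩
    have hAe : ∀ a ∈ A, a ^ 2 = 1 := by
      rintro a (rfl | rfl | rfl | rfl)
      · exact one_pow 2
      · exact hz2
      · exact hy2
      · rw [Commute.mul_pow hzy, hz2, hy2, one_mul]
    have h3 : ({1, z, (y : H)} : Set H) ⊆ A := by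
      rintro a (rfl | rfl | rfl)
      · exact Or.inl rfl
      · exact Or.inr (Or.inl rfl)
      · exact Or.inr (Or.inr (Or.inl rfl))
    have h2 := hrk A hA hAe
    have hcard := Set.ncard_le_ncard h3 (Set.toFinite _)
    have hz1 : z ≠ 1 := fun e => by rw [e, orderOf_one] at hz; omega
    rw [Set.ncard_eq_three.2 ⟨1, z, (y : H), Ne.symm hz1, Ne.symm hne.1, Ne.symm hne.2, rfl⟩] at hcard
    rw [pow_one, ← SetLike.coe_sort_coe, Nat.card_coe_set_eq] at h2
    omega
  intro x y hx hy
  rcases key y hy with h | h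
  · rw [show y = 1 from Subtype.ext h]; exact one_mem _
  · rcases key x ((orderOf_eq_prime_iff.1 hx).1) with h' | h'
    · rw [show x = 1 from Subtype.ext h', orderOf_one] at hx
      omega
    · rw [show y = x from Subtype.ext (h.trans h'.symm)]
      exact Subgroup.mem_zpowers x

theorem sylow_quaternion (hH : Cfsg.IsQuasisimple H) (heven : Even (Nat.card H))
    (hrk : Cfsg.PRankLE 2 1 H) (S : Sylow 2 H) :
    ∃ n : ℕ, Nonempty (↥(S : Subgroup H) ≃* QuaternionGroup (2 ^ (n + 1))) := by
  have : Fact (Nat.Prime 2) := ⟨Nat.prime_two⟩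
  have := hH.1
  have hS : (S : Subgroup H) ≠ ⊥ := S.ne_bot_of_dvd_card heven.two_dvd
  have hnc : ¬ IsCyclic ↥(S : Subgroup H) := by
    intro hc
    have hmin : (Nat.card H).minFac = 2 := (Nat.minFac_eq_two_iff _).2 heven.two_dvd
    have hP := IsCyclic.normalizer_le_centralizer hmin hc
    let f := MonoidHom.transferSylow S hP
    have hab : ∀ a b : ↥(S : Subgroup H), a * b = b * a := fun a b =>
      Subtype.ext (hP (Subgroup.le_normalizer b.2) a a.2)
    have hk : commutator H ≤ f.ker := by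
      rw [_root_.commutator_def, Subgroup.commutator_le]
      intro a _ b _
      rw [MonoidHom.mem_ker, map_commutatorElement, commutatorElement_eq_one_iff_mul_comm]
      exact hab _ _
    rw [Group.IsPerfect.commutator_eq_top] at hk
    have h2 := MonoidHom.not_dvd_card_ker_transferSylow S hP
    rw [top_le_iff.1 hk, Subgroup.card_top] at h2
    exact h2 heven.two_dvd
  rcases PGroup.unique_order_p_cases (p := 2) S.2 (involution_unique hrk S hS) with hc | ⟨-, n, ⟨e⟩⟩
  · exact absurd hc hnc
  · rcases n with _ | n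
    · have : IsCyclic (QuaternionGroup (2 ^ 0)) := QuaternionGroup.quaternionGroup_one_isCyclic
      exact absurd (MulEquiv.isCyclic e |>.2 this) hnc
    · exact ⟨n, ⟨e⟩⟩

theorem center_even (hH : Cfsg.IsQuasisimple H) (heven : Even (Nat.card H))
    (hrk : Cfsg.PRankLE 2 1 H) : ∃ t : H, t ∈ Subgroup.center H ∧ orderOf t = 2 := by
  have : Fact (Nat.Prime 2) := ⟨Nat.prime_two⟩
  by_cases h2 : 2 ∣ Nat.card (Subgroup.center H)
  · obtain ⟨t, ht⟩ := exists_prime_orderOf_dvd_card' 2 h2
    exact ⟨t, t.2, by rw [Subgroup.orderOf_coe, ht]⟩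
  exfalso
  set Z := Subgroup.center H
  have := hH.2
  obtain ⟨S⟩ : Nonempty (Sylow 2 H) := inferInstance
  obtain ⟨n, ⟨e⟩⟩ := sylow_quaternion hH heven hrk S
  set π := QuotientGroup.mk' Z
  have hπ : Function.Surjective π := QuotientGroup.mk'_surjective Z
  have hinj : ∀ x ∈ (S : Subgroup H), π x = 1 → x = 1 := by
    intro x hx hx1
    have hxZ : x ∈ Z := (QuotientGroup.eq_one_iff x).1 hx1
    obtain ⟨k, hk⟩ := S.2.exists_card_eq
    refine orderOf_eq_one_iff.1 (Nat.eq_one_of_dvd_coprimes
      (Nat.Coprime.pow_right k ((Nat.prime_two.coprime_iff_not_dvd.2 h2).symm))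
      (Subgroup.orderOf_dvd_natCard Z hxZ) (hk ▸ Subgroup.orderOf_dvd_natCard _ hx))
  let f : ↥(S : Subgroup H) →* ↥((S.mapSurjective hπ : Sylow 2 (H ⧸ Z)) : Subgroup (H ⧸ Z)) :=
    π.subgroupMap (S : Subgroup H)
  have hf : Function.Bijective f := by
    refine ⟨(injective_iff_map_eq_one f).2 fun x hx => Subtype.ext
      (hinj x x.2 (congrArg Subtype.val hx)), π.subgroupMap_surjective _⟩
  have hO : ∀ N : Subgroup (H ⧸ Z), N.Normal → Odd (Nat.card N) → N = ⊥ := by
    intro N hN hodd
    refine (hN.eq_bot_or_eq_top).resolve_right fun h => ?_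
    rw [h, Subgroup.card_top] at hodd
    have hd : Nat.card H = Nat.card (H ⧸ Z) * Nat.card Z := Z.card_eq_card_quotient_mul_card_subgroup
    have : ¬ 2 ∣ Nat.card H := by
      rw [hd, Nat.prime_two.dvd_mul]
      exact fun h => h.elim (fun h' => Nat.not_even_iff_odd.2 hodd (even_iff_two_dvd.2 h')) h2
    exact this heven.two_dvd
  have hc := S0201.result (S.mapSurjective hπ) n ((MulEquiv.ofBijective f hf).symm.trans e) hO
  rcases (Subgroup.normal_of_characteristic (Subgroup.center (H ⧸ Z))).eq_bot_or_eq_top with h | h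
  · rw [h, Subgroup.card_bot] at hc
    omega
  · rw [h, Subgroup.card_top] at hc
    have hcy : IsCyclic (H ⧸ Z) := isCyclic_of_prime_card (p := 2) hc
    refine Components.IsQuasisimple.not_isSolvable hH ?_
    have hcomm : ∀ a b : H, a * b = b * a :=
      fun a b => commutative_of_cyclic_center_quotient π (by rw [QuotientGroup.ker_mk']) a b
    exact Group.isSolvable_of_comm hcomm

end Main

/-- Let G be finite, x an involution and L ≤ C_G(x) a component of C_G(x) of even order and 2-rank 1, such that L is a component of C_G(y) for every involution y ∈ C_G(L). Then some involution of L is a classical involution of G. -/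
theorem result {G : Type*} [Group G] [Finite G] (x : G) (hx : orderOf x = 2) (L : Subgroup G) (hLx : L ≤ Subgroup.centralizer ({x} : Set G)) (hL : Cfsg.IsComponent (L.subgroupOf (Subgroup.centralizer ({x} : Set G)))) (heven : Even (Nat.card ↥L)) (hrk : Cfsg.PRankLE 2 1 ↥L) (hne : ∀ y : G, orderOf y = 2 → y ∈ Subgroup.centralizer (L : Set G) → L ≤ Subgroup.centralizer ({y} : Set G) ∧ Cfsg.IsComponent (L.subgroupOf (Subgroup.centralizer ({y} : Set G)))) : ∃ t ∈ L, Cfsg.IsClassicalInvolution t := by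
  set C := Subgroup.centralizer ({x} : Set G)
  let e : ↥(L.subgroupOf C) ≃* ↥L := Subgroup.subgroupOfEquivOfLe hLx
  have hq : Cfsg.IsQuasisimple ↥L := (Components.isQuasisimple_congr e).1 hL.2
  obtain ⟨t, htc, ht⟩ := center_even hq heven hrk
  have htC : (t : G) ∈ Subgroup.centralizer (L : Set G) := Subgroup.mem_centralizer_iff.2
    fun l hl => congrArg Subtype.val (Subgroup.mem_center_iff.1 htc ⟨l, hl⟩)
  have ht' : orderOf (t : G) = 2 := by rw [Subgroup.orderOf_coe, ht]
  obtain ⟨hle, hcomp⟩ := hne t ht' htC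
  obtain ⟨S⟩ : Nonempty (Sylow 2 ↥L) := inferInstance
  exact ⟨t, t.2, ht', L, hle, t.2, hcomp.1, S, sylow_quaternion hq heven hrk S⟩


end Cfsg.Agent.S1307
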