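import Cfsg.Statements.S2617
import Cfsg.Agent.EqLemmas

set_option autoImplicit false
open Cfsg

namespace Cfsg.Agent.S2617

theorem finrank_le_of_singular {F V : Type*} [Field F] [AddCommGroup V] [Module F V]
    [FiniteDimensional F V] {m : ℕ} (px py : V →ₗ[F] (Fin m → F)) (U : Submodule F V)
    (hinj : ∀ u ∈ U, py u = 0 → px u = 0 → u = 0)
    (hor : ∀ u ∈ U, ∀ w ∈ U, py w = 0 → ∑ i, px w i * py u i = 0) :
    Module.finrank F U ≤ m := by
  classical
  let π : U →ₗ[F] (Fin m → F) := py.comp U.subtype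
  let φ : LinearMap.ker π →ₗ[F] (Fin m → F) := (px.comp U.subtype).comp (LinearMap.ker π).subtype
  have hφ : Function.Injective φ := by
    rw [← LinearMap.ker_eq_bot, LinearMap.ker_eq_bot']
    intro w hw
    apply Subtype.ext
    apply Subtype.ext
    exact hinj _ w.1.2 (LinearMap.mem_ker.mp w.2) hw
  let B : LinearMap.BilinForm F (Fin m → F) := Matrix.toBilin' (1 : Matrix (Fin m) (Fin m) F)
  have hBn : B.Nondegenerate :=
    LinearMap.BilinForm.nondegenerate_toBilin'_of_det_ne_zero' _ (by simp)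
  have hle : LinearMap.range π ≤ B.orthogonal (LinearMap.range φ) := by
    rintro _ ⟨u, rfl⟩
    rw [LinearMap.BilinForm.mem_orthogonal_iff]
    rintro _ ⟨w, rfl⟩
    show B (φ w) (π u) = 0
    have := hor u.1 u.2 w.1.1 w.1.2 (LinearMap.mem_ker.mp w.2)
    rw [← this, Matrix.toBilin'_apply', Matrix.one_mulVec]
    rfl
  have h1 := Submodule.finrank_mono hle
  rw [LinearMap.BilinForm.finrank_orthogonal hBn, LinearMap.finrank_range_of_inj hφ,
    Module.finrank_fin_fun] at h1
  have h2 := LinearMap.finrank_range_add_finrank_ker π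
  have h3 : Module.finrank F (LinearMap.ker π) ≤ m := by
    have := LinearMap.finrank_le_finrank_of_injective hφ
    rwa [Module.finrank_fin_fun] at this
  omega

/-- The coordinate projection along an embedding of indices. -/
def proj' {F : Type*} [Field F] {ι : Type*} {m : ℕ} (e : Fin m → ι) : (ι → F) →ₗ[F] (Fin m → F) :=
  LinearMap.funLeft F F e

theorem minus_singular_le {F : Type*} [Field F] {k : ℕ} (a b : F)
    (hab : ∀ z₁ z₂ : F, z₁ ^ 2 + a * z₁ * z₂ + b * z₂ ^ 2 = 0 → z₁ = 0 ∧ z₂ = 0)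
    (U : Submodule F ((Fin k ⊕ Fin k) ⊕ Fin 2 → F))
    (hU : ∀ u ∈ U, Cfsg.quadFormMinus k F a b u = 0) : Module.finrank F U ≤ k := by
  have hz : ∀ w ∈ U, (proj' (fun i => Sum.inl (Sum.inr i)) : _ →ₗ[F] (Fin k → F)) w = 0 →
      ∀ j : Fin 2, w (Sum.inr j) = 0 := by
    intro w hw hy
    have h := hU w hw
    have hy' : ∀ i, w (Sum.inl (Sum.inr i)) = 0 := fun i => congrFun hy i
    simp only [Cfsg.quadFormMinus, hy', mul_zero, Finset.sum_const_zero, zero_add] at h
    obtain ⟨h0, h1⟩ := hab _ _ h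
    intro j
    fin_cases j <;> assumption
  refine finrank_le_of_singular (proj' fun i => Sum.inl (Sum.inl i))
    (proj' fun i => Sum.inl (Sum.inr i)) U ?_ ?_
  · intro u hu hy hx
    funext i
    rcases i with (i | i) | j
    · exact congrFun hx i
    · exact congrFun hy i
    · exact hz u hu hy j
  · intro u hu w hw hy
    have h := hU (u + w) (U.add_mem hu hw)
    have h' := hU u hu
    have hy' : ∀ i, w (Sum.inl (Sum.inr i)) = 0 := fun i => congrFun hy i
    simp only [Cfsg.quadFormMinus, Pi.add_apply, hy', hz w hw hy, add_zero, add_mul,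
      Finset.sum_add_distrib] at h h'
    show ∑ i, w (Sum.inl (Sum.inl i)) * u (Sum.inl (Sum.inr i)) = 0
    linear_combination h - h'

theorem plus_singular_le {F : Type*} [Field F] {k : ℕ} (U : Submodule F (Fin k ⊕ Fin k → F))
    (hU : ∀ u ∈ U, Cfsg.quadFormPlus k F u = 0) : Module.finrank F U ≤ k := by
  refine finrank_le_of_singular (proj' Sum.inl) (proj' Sum.inr) U ?_ ?_
  · intro u _ hy hx
    funext i
    rcases i with i | i
    · exact congrFun hx i
    · exact congrFun hy i
  · intro u hu w hw hy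
    have h := hU (u + w) (U.add_mem hu hw)
    have h' := hU u hu
    have hy' : ∀ i, w (Sum.inr i) = 0 := fun i => congrFun hy i
    simp only [Cfsg.quadFormPlus, Pi.add_apply, hy', add_zero, add_mul,
      Finset.sum_add_distrib] at h h'
    show ∑ i, w (Sum.inl i) * u (Sum.inr i) = 0
    linear_combination h - h'

theorem exists_plus_singular (F : Type*) [Field F] (k : ℕ) :
    ∃ U : Submodule F (Fin k ⊕ Fin k → F), (∀ u ∈ U, Cfsg.quadFormPlus k F u = 0) ∧
      Module.finrank F U = k := by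
  let ex : (Fin k → F) →ₗ[F] (Fin k ⊕ Fin k → F) :=
    { toFun := fun x => Sum.elim x 0
      map_add' := fun x y => by funext i; cases i <;> simp
      map_smul' := fun c x => by funext i; cases i <;> simp }
  have hex : Function.Injective ex := fun x y h => funext fun i => congrFun h (Sum.inl i)
  refine ⟨LinearMap.range ex, ?_, ?_⟩
  · rintro _ ⟨x, rfl⟩
    simp [ex, Cfsg.quadFormPlus]
  · rw [LinearMap.finrank_range_of_inj hex, Module.finrank_fin_fun]

theorem aniso_of_no_root {F : Type*} [Field F] (ζ : F) (hζ : ∀ t : F, t ^ 2 + t + ζ ≠ 0) :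
    ∀ z₁ z₂ : F, z₁ ^ 2 + 1 * z₁ * z₂ + ζ * z₂ ^ 2 = 0 → z₁ = 0 ∧ z₂ = 0 := by
  intro z₁ z₂ h
  by_cases h2 : z₂ = 0
  · subst h2
    simp at h
    exact ⟨h, rfl⟩
  · exfalso
    apply hζ (z₁ / z₂)
    field_simp
    linear_combination h

/-- The two standard quadratic forms of even dimension 2m over a finite field are not isometric: there is no linear isomorphism carrying the elliptic form Σ_(i<m−1) x_i y_i + z₁² + z₁z₂ + ζ z₂² (t² + t + ζ without roots) to the hyperbolic form Σ_(i<m) x_i y_i (they have different Witt index). -/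
theorem result {F : Type*} [Field F] [Finite F] {m : ℕ} (hm : 1 ≤ m) (ζ : F) (hζ : ∀ t : F, t ^ 2 + t + ζ ≠ 0) (g : (Fin m ⊕ Fin m → F) ≃ₗ[F] ((Fin (m - 1) ⊕ Fin (m - 1)) ⊕ Fin 2 → F)) : ¬ (∀ v : Fin m ⊕ Fin m → F, Cfsg.quadFormMinus (m - 1) F 1 ζ (g v) = Cfsg.quadFormPlus m F v) := by
  intro hg
  obtain ⟨U, hU, hdim⟩ := exists_plus_singular F m
  have h := minus_singular_le 1 ζ (aniso_of_no_root ζ hζ) (U.map g.toLinearMap) (by
    rintro _ ⟨u, hu, rfl⟩
    exact (hg u).trans (hU u hu))
  rw [LinearEquiv.finrank_map_eq, hdim] at h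
  omega

end Cfsg.Agent.S2617
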