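import Cfsg.Statements.S2573
import Cfsg.Agent.EqLemmas

set_option autoImplicit false
open Cfsg

namespace Cfsg.Agent.S2573

theorem finrank_ker_pow_le {F V : Type*} [Field F] [AddCommGroup V] [Module F V]
    [FiniteDimensional F V] (f : Module.End F V) (hker : Module.finrank F (LinearMap.ker f) ≤ 1) :
    ∀ k : ℕ, Module.finrank F (LinearMap.ker (f ^ k)) ≤ k := by
  intro k
  induction k with
  | zero => simp [Module.End.one_eq_id]
  | succ k ih =>
    have hmap : ∀ v ∈ LinearMap.ker (f ^ (k + 1)), f v ∈ LinearMap.ker (f ^ k) := by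
      intro v hv
      rw [LinearMap.mem_ker] at hv ⊢
      rwa [pow_succ] at hv
    let g := f.restrict hmap
    have h1 := LinearMap.finrank_range_add_finrank_ker g
    have h2 : Module.finrank F (LinearMap.range g) ≤ Module.finrank F (LinearMap.ker (f ^ k)) :=
      Submodule.finrank_le _
    have h3 : Module.finrank F (LinearMap.ker g) ≤ Module.finrank F (LinearMap.ker f) := by
      let φ : LinearMap.ker g →ₗ[F] LinearMap.ker f :=
        (((LinearMap.ker (f ^ (k + 1))).subtype.comp (LinearMap.ker g).subtype).codRestrict _
          (fun v => by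
            exact LinearMap.mem_ker.mpr (congrArg Subtype.val (LinearMap.mem_ker.mp v.2) : _)))
      refine LinearMap.finrank_le_finrank_of_injective (f := φ) ?_
      intro a b h
      exact Subtype.ext (Subtype.ext (congrArg Subtype.val h : _))
    omega

/-- An invariant subspace of a nilpotent endomorphism with kernel of dimension at most one is a kernel of a power. -/
theorem invariant_eq_ker_pow {F V : Type*} [Field F] [AddCommGroup V] [Module F V]
    [FiniteDimensional F V] (f : Module.End F V) (hnil : IsNilpotent f)
    (hker : Module.finrank F (LinearMap.ker f) ≤ 1) (W : Submodule F V) (hW : ∀ v ∈ W, f v ∈ W) :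
    W = LinearMap.ker (f ^ Module.finrank F W) := by
  have hn : IsNilpotent (f.restrict hW) := by
    obtain ⟨k, hk⟩ := hnil
    refine ⟨k, ?_⟩
    rw [Module.End.pow_restrict]
    apply LinearMap.ext
    intro v
    apply Subtype.ext
    simp [hk]
  have h0 := (f.restrict hW).aeval_self_charpoly
  rw [IsNilpotent.charpoly_eq_X_pow_finrank hn, map_pow, Polynomial.aeval_X,
    Module.End.pow_restrict] at h0
  have hle : W ≤ LinearMap.ker (f ^ Module.finrank F W) := by
    intro v hv
    have := congrArg Subtype.val (LinearMap.congr_fun h0 ⟨v, hv⟩)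
    simpa using this
  exact Submodule.eq_of_le_of_finrank_le hle (finrank_ker_pow_le f hker _)

theorem ker_le_one {F : Type*} [Field F] {ι : Type*} [Fintype ι] [DecidableEq ι]
    (N : Matrix ι ι F) {n : ℕ} (hn : Fintype.card ι = n) (hreg : N.rank = n - 1) :
    Module.finrank F (LinearMap.ker N.mulVecLin) ≤ 1 := by
  have h := LinearMap.finrank_range_add_finrank_ker N.mulVecLin
  rw [Module.finrank_pi, hn] at h
  have : N.rank = Module.finrank F (LinearMap.range N.mulVecLin) := rfl
  omega

theorem mulVecLin_pow {F : Type*} [Field F] {ι : Type*} [Fintype ι] [DecidableEq ι]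
    (N : Matrix ι ι F) (k : ℕ) : (N ^ k).mulVecLin = N.mulVecLin ^ k := by
  induction k with
  | zero => simp [Module.End.one_eq_id]
  | succ k ih =>
    apply LinearMap.ext
    intro v
    rw [pow_succ (N.mulVecLin) k, Module.End.mul_apply, ← ih, Matrix.mulVecLin_apply,
      Matrix.mulVecLin_apply, Matrix.mulVecLin_apply, Matrix.mulVec_mulVec, ← pow_succ]

/-- The invariant subspaces of a regular unipotent matrix form a chain: over a finite field, if u is an n × n matrix with (u − 1)^n = 0 and rank(u − 1) = n − 1, then every subspace W of F^n with u W ⊆ W is the kernel of (u − 1)^(dim W); so u has at most one invariant subspace of each dimension. -/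
theorem result {F : Type*} [Field F] [Finite F] {n : ℕ} (u : Matrix (Fin n) (Fin n) F) (hnil : (u - 1) ^ n = 0) (hreg : (u - 1).rank = n - 1) (W : Submodule F (Fin n → F)) (hW : ∀ v ∈ W, u.mulVec v ∈ W) : W = LinearMap.ker (Matrix.mulVecLin ((u - 1) ^ Module.finrank F W)) := by
  rw [mulVecLin_pow]
  have hk := ker_le_one (u - 1) (Fintype.card_fin n) hreg
  have hnil' : IsNilpotent ((u - 1).mulVecLin : Module.End F (Fin n → F)) := ⟨n, by
    rw [← mulVecLin_pow, hnil, Matrix.mulVecLin_zero]⟩
  refine invariant_eq_ker_pow ((u - 1).mulVecLin : Module.End F (Fin n → F)) hnil' hk W ?_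
  · intro v hv
    rw [Matrix.mulVecLin_apply, Matrix.sub_mulVec, Matrix.one_mulVec]
    exact W.sub_mem (hW v hv) hv

end Cfsg.Agent.S2573
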