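import Cfsg.Statements.S3374
import Cfsg.Agent.EqLemmas

set_option autoImplicit false
open Cfsg

namespace Cfsg.Agent.S3374

section

/-- Quadruples as 2x2 matrices. -/
def mmul {n : ℕ} (A B : ZMod n × ZMod n × ZMod n × ZMod n) : ZMod n × ZMod n × ZMod n × ZMod n :=
  (A.1 * B.1 + A.2.1 * B.2.2.1, A.1 * B.2.1 + A.2.1 * B.2.2.2,
    A.2.2.1 * B.1 + A.2.2.2 * B.2.2.1, A.2.2.1 * B.2.1 + A.2.2.2 * B.2.2.2)

theorem mmul_assoc {n : ℕ} (A B C : ZMod n × ZMod n × ZMod n × ZMod n) : mmul (mmul A B) C = mmul A (mmul B C) := by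
  simp only [mmul, Prod.mk.injEq]
  refine ⟨?_, ?_, ?_, ?_⟩ <;> ring

/-- evaluation of a word in two generators -/
def ev {n : ℕ} (A B : ZMod n × ZMod n × ZMod n × ZMod n) : List Bool → ZMod n × ZMod n × ZMod n × ZMod n
  | [] => (1, 0, 0, 1)
  | false :: l => mmul A (ev A B l)
  | true :: l => mmul B (ev A B l)

/-- word of `diag (c, c⁻¹)` -/
def dword (c : ZMod 5) : List Bool :=
  if c = 2 then [true, false, false, true, false, false, false, true, false, false]
  else if c = 3 then [false, false, true, false, false, false, true, false, false, true]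
  else if c = 4 then [true, true] else []

/-- word of a matrix of determinant one over `ZMod 5` -/
def word (g : ZMod 5 × ZMod 5 × ZMod 5 × ZMod 5) : List Bool :=
  if g.2.2.1 = 0 then dword g.1 ++ List.replicate (g.2.1 * g.1 ^ 3).val false
  else List.replicate (g.1 * g.2.2.1 ^ 3).val false ++ true :: (dword g.2.2.1 ++ List.replicate (g.2.2.2 * g.2.2.1 ^ 3).val false)

/-- the embedding -/
def emb (g : ZMod 5 × ZMod 5 × ZMod 5 × ZMod 5) : ZMod 11 × ZMod 11 × ZMod 11 × ZMod 11 :=
  ev (0, 1, 10, 3) (3, 4, 3, 8) (word g)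

theorem emb_checks : ∀ a b c d : ZMod 5, a * d - b * c = 1 →
    (ev (n := 5) (1, 1, 0, 1) (0, 4, 1, 0) (word (a, b, c, d)) = (a, b, c, d) ∧
      emb (mmul (1, 1, 0, 1) (a, b, c, d)) = mmul (0, 1, 10, 3) (emb (a, b, c, d)) ∧
      emb (mmul (0, 4, 1, 0) (a, b, c, d)) = mmul (3, 4, 3, 8) (emb (a, b, c, d)) ∧
      ((a, b, c, d) = (1, 0, 0, 1) ∨
        ((emb (a, b, c, d)).1 - 1) * ((emb (a, b, c, d)).2.2.2 - 1) - (emb (a, b, c, d)).2.1 * (emb (a, b, c, d)).2.2.1 ≠ 0)) := by
  decide +kernel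

/-- the quadruple of an element of SL(2,5) -/
def quad (g : Matrix.SpecialLinearGroup (Fin 2) (ZMod 5)) : ZMod 5 × ZMod 5 × ZMod 5 × ZMod 5 :=
  (g.1 0 0, g.1 0 1, g.1 1 0, g.1 1 1)

theorem quad_det (g : Matrix.SpecialLinearGroup (Fin 2) (ZMod 5)) :
    (quad g).1 * (quad g).2.2.2 - (quad g).2.1 * (quad g).2.2.1 = 1 := by
  have := g.2
  rw [Matrix.det_fin_two] at this
  exact this

theorem quad_mul (g h : Matrix.SpecialLinearGroup (Fin 2) (ZMod 5)) : quad (g * h) = mmul (quad g) (quad h) := by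
  simp [quad, mmul, Matrix.mul_apply, Fin.sum_univ_two]

theorem quad_one : quad 1 = (1, 0, 0, 1) := by
  simp [quad]

theorem emb_det_ev : ∀ (l : List Bool) (x : ZMod 5 × ZMod 5 × ZMod 5 × ZMod 5),
    x.1 * x.2.2.2 - x.2.1 * x.2.2.1 = 1 →
    (mmul (ev (1, 1, 0, 1) (0, 4, 1, 0) l) x).1 * (mmul (ev (1, 1, 0, 1) (0, 4, 1, 0) l) x).2.2.2 -
        (mmul (ev (1, 1, 0, 1) (0, 4, 1, 0) l) x).2.1 * (mmul (ev (1, 1, 0, 1) (0, 4, 1, 0) l) x).2.2.1 = 1 ∧
      emb (mmul (ev (1, 1, 0, 1) (0, 4, 1, 0) l) x) = mmul (ev (0, 1, 10, 3) (3, 4, 3, 8) l) (emb x) := by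
  intro l
  induction l with
  | nil => intro x hx; simpa [ev, mmul] using hx
  | cons b l ih =>
    intro x hx
    obtain ⟨h1, h2⟩ := ih x hx
    cases b
    · simp only [ev, mmul_assoc]
      refine ⟨?_, by rw [← h2]; exact (emb_checks _ _ _ _ h1).2.1⟩
      simp only [mmul] at h1 ⊢
      linear_combination h1
    · simp only [ev, mmul_assoc]
      refine ⟨?_, by rw [← h2]; exact (emb_checks _ _ _ _ h1).2.2.1⟩
      have h5 : (5 : ZMod 5) = 0 := by decide
      simp only [mmul] at h1 ⊢
      linear_combination (-4) * h1 - h5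

theorem emb_mul (g h : Matrix.SpecialLinearGroup (Fin 2) (ZMod 5)) :
    emb (quad (g * h)) = mmul (emb (quad g)) (emb (quad h)) := by
  have := (emb_checks _ _ _ _ (quad_det g)).1
  rw [quad_mul]
  have h2 := (emb_det_ev (word (quad g)) (quad h) (quad_det h)).2
  rwa [this] at h2

theorem emb_one : emb (1, 0, 0, 1) = (1, 0, 0, 1) := by decide

/-- action on the plane over `ZMod 11` -/
def act (A : ZMod 11 × ZMod 11 × ZMod 11 × ZMod 11) (v : ZMod 11 × ZMod 11) : ZMod 11 × ZMod 11 :=
  (A.1 * v.1 + A.2.1 * v.2, A.2.2.1 * v.1 + A.2.2.2 * v.2)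

theorem act_mmul (A B : ZMod 11 × ZMod 11 × ZMod 11 × ZMod 11) (v : ZMod 11 × ZMod 11) :
    act (mmul A B) v = act A (act B v) := by
  simp only [act, mmul, Prod.mk.injEq]
  constructor <;> ring

theorem act_add (A : ZMod 11 × ZMod 11 × ZMod 11 × ZMod 11) (v w : ZMod 11 × ZMod 11) :
    act A (v + w) = act A v + act A w := by
  simp only [act, Prod.fst_add, Prod.snd_add, Prod.mk_add_mk, Prod.mk.injEq]
  constructor <;> ring

theorem act_one (v : ZMod 11 × ZMod 11) : act (1, 0, 0, 1) v = v := by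
  simp [act]

theorem act_fixed (A : ZMod 11 × ZMod 11 × ZMod 11 × ZMod 11)
    (hA : (A.1 - 1) * (A.2.2.2 - 1) - A.2.1 * A.2.2.1 ≠ 0) (v : ZMod 11 × ZMod 11) (hv : act A v = v) : v = 0 := by
  obtain ⟨a, b, c, d⟩ := A
  obtain ⟨x, y⟩ := v
  simp only [act, Prod.mk.injEq] at hv
  obtain ⟨h1, h2⟩ := hv
  simp only at hA
  have hx : ((a - 1) * (d - 1) - b * c) * x = 0 := by linear_combination (d - 1) * h1 - b * h2
  have hy : ((a - 1) * (d - 1) - b * c) * y = 0 := by linear_combination (a - 1) * h2 - c * h1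
  have : Fact (Nat.Prime 11) := ⟨by norm_num⟩
  exact Prod.ext ((mul_eq_zero.mp hx).resolve_left hA) ((mul_eq_zero.mp hy).resolve_left hA)

/-- the action homomorphism -/
def actHom : Matrix.SpecialLinearGroup (Fin 2) (ZMod 5) →* MulAut (Multiplicative (ZMod 11 × ZMod 11)) where
  toFun g :=
    { toFun := fun v => Multiplicative.ofAdd (act (emb (quad g)) v.toAdd)
      invFun := fun v => Multiplicative.ofAdd (act (emb (quad g⁻¹)) v.toAdd)
      left_inv := fun v => by
        show Multiplicative.ofAdd (act (emb (quad g⁻¹)) (act (emb (quad g)) v.toAdd)) = v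
        rw [← act_mmul, ← emb_mul, inv_mul_cancel, quad_one, emb_one, act_one]; rfl
      right_inv := fun v => by
        show Multiplicative.ofAdd (act (emb (quad g)) (act (emb (quad g⁻¹)) v.toAdd)) = v
        rw [← act_mmul, ← emb_mul, mul_inv_cancel, quad_one, emb_one, act_one]; rfl
      map_mul' := fun v w => by rw [toAdd_mul, act_add]; rfl }
  map_one' := by
    refine MulEquiv.ext fun v => ?_
    show Multiplicative.ofAdd (act (emb (quad 1)) v.toAdd) = v
    rw [quad_one, emb_one, act_one]; rfl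
  map_mul' g h := by
    refine MulEquiv.ext fun v => ?_
    show Multiplicative.ofAdd (act (emb (quad (g * h))) v.toAdd) = Multiplicative.ofAdd (act (emb (quad g)) (act (emb (quad h)) v.toAdd))
    rw [emb_mul, act_mmul]

theorem actHom_fixed (g : Matrix.SpecialLinearGroup (Fin 2) (ZMod 5)) (hg : g ≠ 1)
    (v : Multiplicative (ZMod 11 × ZMod 11)) (hv : actHom g v = v) : v = 1 := by
  rcases (emb_checks _ _ _ _ (quad_det g)).2.2.2 with h | h
  · apply absurd _ hg
    have h' : quad g = quad 1 := by rw [quad_one]; exact h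
    simp only [quad, Prod.mk.injEq] at h'
    ext i j
    fin_cases i <;> fin_cases j <;> simp_all
  · have := act_fixed _ h v.toAdd (congrArg Multiplicative.toAdd hv)
    exact Multiplicative.toAdd.injective this

end

open scoped Pointwise

/-- SL(2,5) occurs as a Frobenius complement: there is a finite group L with a subgroup H isomorphic to SL(2,5) which is a non-trivial proper subgroup meeting each conjugate gHg⁻¹ with g outside H trivially. -/
theorem result :
    ∃ (L : Type) (_ : Group L) (_ : Finite L) (H : Subgroup L),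
      Cfsg.IsFrobeniusComplement H ∧ Nonempty (H ≃* Matrix.SpecialLinearGroup (Fin 2) (ZMod 5)) := by
  have : Finite (Multiplicative (ZMod 11 × ZMod 11) ⋊[actHom] Matrix.SpecialLinearGroup (Fin 2) (ZMod 5)) :=
    Finite.of_equiv _ SemidirectProduct.equivProd.symm
  refine ⟨Multiplicative (ZMod 11 × ZMod 11) ⋊[actHom] Matrix.SpecialLinearGroup (Fin 2) (ZMod 5), inferInstance, this,
    (SemidirectProduct.inr (φ := actHom)).range, ⟨?_, ?_, ?_⟩, ⟨(MonoidHom.ofInjective SemidirectProduct.inr_injective).symm⟩⟩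
  · intro h
    have hmem : SemidirectProduct.inr (φ := actHom) ⟨!![1, 1; 0, 1], by decide⟩ ∈ (SemidirectProduct.inr (φ := actHom)).range := ⟨_, rfl⟩
    rw [h, Subgroup.mem_bot] at hmem
    have := congrArg (fun x => (SemidirectProduct.right x).1 0 1) hmem
    exact absurd this (by decide)
  · intro h
    have hmem : SemidirectProduct.inl (φ := actHom) (Multiplicative.ofAdd (1, 0)) ∈ (SemidirectProduct.inr (φ := actHom)).range := by
      rw [h]; trivial
    obtain ⟨y, hy⟩ := hmem
    have := congrArg (fun x => (SemidirectProduct.left x).toAdd.1) hy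
    simp at this
    exact absurd this (by decide)
  · intro g hg
    rw [eq_bot_iff]
    rintro k ⟨⟨a, rfl⟩, hk⟩
    replace hk : SemidirectProduct.inr (φ := actHom) a ∈ MulAut.conj g • (SemidirectProduct.inr (φ := actHom)).range := hk
    rw [Subgroup.mem_pointwise_smul_iff_inv_smul_mem, MulAut.smul_def, MulAut.conj_inv_apply] at hk
    obtain ⟨b, hb⟩ := hk
    rw [Subgroup.mem_bot]
    by_contra ha
    have ha' : a ≠ 1 := fun h => ha (by rw [h, map_one])
    have hl := congrArg SemidirectProduct.left hb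
    simp only [SemidirectProduct.mul_left, SemidirectProduct.mul_right, SemidirectProduct.inv_left,
      SemidirectProduct.inv_right, SemidirectProduct.left_inr, SemidirectProduct.right_inr, map_one, mul_one] at hl
    apply hg
    have hv : g.left = 1 := by
      apply actHom_fixed a ha'
      rw [map_mul, MulAut.mul_apply, ← map_mul, eq_comm,
        map_eq_one_iff _ (actHom g.right⁻¹).injective, inv_mul_eq_one] at hl
      exact hl.symm
    exact ⟨g.right, by ext <;> simp [hv]⟩

end Cfsg.Agent.S3374
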