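import Cfsg.Statements.S1983
import Cfsg.Agent.Lib.KInfinity.Replace
import Cfsg.Agent.Lib.PGroup.Critical
import Cfsg.Agent.EqLemmas

set_option autoImplicit false
universe u
open Cfsg
open scoped commutatorElement

namespace Cfsg.Agent.S1983

/-- Let p be a prime, G a finite group with Sylow p-subgroup S and T = O_p(G). Suppose that the lower or the upper K-infinity subgroup of S is not normal in G. Then there is an element g of S outside T such that [X, g, g, g, g] ≤ Y for every chief factor X/Y of G with X ≤ T, and [Z(T), g, g] = 1; and if moreover C_G(T) ≤ T then some quotient group of G is not p-stable (in the normalizer form: some quadratically acting element of a normalizer fails to map into O_p of the automizer). -/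
theorem result {G : Type u} [Group G] [Finite G] {p : ℕ} [Fact p.Prime] (S : Sylow p G) (hK : ¬ (Cfsg.inducedFunctor Cfsg.kInfLower (S : Subgroup G)).Normal ∨ ¬ (Cfsg.inducedFunctor Cfsg.kInfUpper (S : Subgroup G)).Normal) : ∃ g : G, g ∈ (S : Subgroup G) ∧ g ∉ (Cfsg.pCore p G) ∧ (∀ U V : Subgroup G, Cfsg.IsChiefFactor U V → U ≤ (Cfsg.pCore p G) → Cfsg.iterCommutator U (Subgroup.zpowers g) 4 ≤ V) ∧ ⁅⁅((Cfsg.pCore p G) ⊓ Subgroup.centralizer (((Cfsg.pCore p G) : Subgroup G) : Set G)), (Subgroup.zpowers g)⁆, (Subgroup.zpowers g)⁆ = ⊥ ∧ (Subgroup.centralizer (((Cfsg.pCore p G) : Subgroup G) : Set G) ≤ (Cfsg.pCore p G) → ∃ (N : Subgroup G) (_ : N.Normal), ¬ Cfsg.IsNormalizerPStable p (G ⧸ N)) := by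
  set T := Cfsg.pCore p G with hTdef
  have hTp : IsPGroup p T := Cores.isPGroup_pCore p G
  obtain ⟨H, hH⟩ := PGroup.exists_critical hTp
  haveI := hH.char
  set A := H.map T.subtype with hAdef
  haveI hAn : A.Normal := Cores.map_subtype_normal_of_characteristic T H
  have hAT : A ≤ T := Subgroup.map_subtype_le H
  set Z := A ⊓ Subgroup.centralizer (A : Set G) with hZdef
  have hZmap : (H ⊓ Subgroup.centralizer (H : Set T)).map T.subtype = Z := KInfinity.map_inf_centralizer H
  haveI hZn : Z.Normal := by rw [hZdef]; infer_instance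
  have hA1 : ∀ a ∈ A, a ^ p ∈ A ⊓ Subgroup.centralizer (A : Set G) := by
    rintro _ ⟨x, hx, rfl⟩
    exact hZmap.le ⟨x ^ p, ⟨pow_mem hx p, hH.pow_mem x hx⟩, map_pow _ x p⟩
  have hA3 : ⁅T, A⁆ ≤ A ⊓ Subgroup.centralizer (A : Set G) := by
    rw [Subgroup.commutator_comm]
    refine Subgroup.commutator_le.2 ?_
    rintro _ ⟨x, hx, rfl⟩ t ht
    exact hZmap.le ⟨⁅x, ⟨t, ht⟩⁆, hH.comm_mem x hx ⟨t, ht⟩, rfl⟩
  have hA2 : ⁅A, A⁆ ≤ Subgroup.centralizer (A : Set G) :=
    ((Subgroup.commutator_mono hAT le_rfl).trans hA3).trans inf_le_right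
  have hA4 : T ⊓ Subgroup.centralizer (A : Set G) ≤ Z := by
    rintro t ⟨ht, htc⟩
    refine ⟨⟨⟨t, ht⟩, hH.self_centralizing (Subgroup.mem_centralizer_iff.2 fun x hx => ?_), rfl⟩, htc⟩
    exact Subtype.ext (Subgroup.mem_centralizer_iff.1 htc _ ⟨x, hx, rfl⟩)
  have hA5 : ∀ φ : MulAut ↥T, (orderOf φ).Coprime p → (∀ a : ↥T, (a : G) ∈ A → φ a = a) → φ = 1 :=
    fun φ hφ hfix => PGroup.aut_eq_one_of_fix_selfCentralizing hTp hH.self_centralizing hφ
      fun x hx => hfix x ⟨x, hx, rfl⟩
  obtain ⟨g, hgS, hgT, hg3, hgZ, hgC⟩ := KInfinity.exists_cubic_element S A hAT hA1 hA2 hA3 hA5 hK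
  refine ⟨g, hgS, hgT, ?_, ?_, fun hC => ?_⟩
  · refine KInfinity.iterCommutator_chief_le hTp hAT hA3 hA4 g (i := 3) (j := 2) (by norm_num) (by norm_num)
      ?_ ?_
    · intro U V hUV hUA
      haveI := hUV.2.1
      haveI := hUV.2.2.1
      by_cases hUZ : U ⊓ Z ≤ V
      · exact le_trans (le_inf (KInfinity.iterCommutator_normal_le 3)
          ((KInfinity.iterCommutator_mono hUA 3).trans hg3)) hUZ
      · have hsup : U ≤ (U ⊓ Z) ⊔ V := by
          rcases hUV.2.2.2 ((U ⊓ Z) ⊔ V) inferInstance le_sup_right (sup_le inf_le_left hUV.1.le) with h | h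
          · exact absurd (h ▸ le_sup_left) hUZ
          · exact h.ge
        exact KInfinity.iterCommutator_le_of_le (show 2 ≤ 3 by norm_num)
          (KInfinity.iterCommutator_sup_le (n := 2) hsup
            (((KInfinity.iterCommutator_mono inf_le_right 2).trans hgZ.le).trans bot_le))
    · intro U V hUV hUZ
      exact ((KInfinity.iterCommutator_mono hUZ 2).trans hgZ.le).trans bot_le
  · refine le_bot_iff.1 ((Subgroup.commutator_mono (Subgroup.commutator_mono ?_ le_rfl) le_rfl).trans hgZ.le)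
    exact le_trans (inf_le_inf_left T (Subgroup.centralizer_le hAT)) hA4
  · obtain ⟨U, V, hUV, hUA, hq, hne⟩ := hgC hC
    exact KInfinity.not_pStable_quotient hUV (hTp.to_le (hUA.trans hAT)) hq hne

end Cfsg.Agent.S1983
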