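import Cfsg.Statements.S5128
import Cfsg.Agent.Lib.FusionChain.Puig
import Cfsg.Agent.Lib.Fusion.Normal

set_option autoImplicit false
open Cfsg
open scoped Pointwise

namespace Cfsg.Agent.S5128

/-- In a saturated fusion system over a finite p-group S, the product of two strongly closed subgroups is strongly closed. -/
theorem result {Ω : Type*} [Group Ω] {S : Subgroup Ω} [Finite S] (p : ℕ) [Fact p.Prime] (hS : IsPGroup p S) (F : Cfsg.FusionSystem S) (hF : F.IsSaturated p) (T₁ T₂ : Subgroup Ω) (h₁ : F.StronglyClosed T₁) (h₂ : F.StronglyClosed T₂) : F.StronglyClosed (T₁ ⊔ T₂) := by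
  refine Agent.Fusion.stronglyClosed_iff.2 ⟨sup_le h₁.1 h₂.1, fun P f hf x hxP hx => ?_⟩
  obtain ⟨g, hg, hgf⟩ := Agent.FusionChain.exists_map_congr_mod hS hF h₁ hf
  have hn : T₂ ≤ Subgroup.normalizer (T₁ : Set Ω) :=
    h₂.1.trans (Agent.Fusion.normalizes_of_stronglyClosed h₁)
  have hx' : x ∈ (T₁ : Set Ω) * (T₂ : Set Ω) := by
    rw [← Subgroup.coe_mul_of_right_le_normalizer_left T₁ T₂ hn]
    exact hx
  obtain ⟨a, ha, b, hb, rfl⟩ := hx'
  have haQ : a ∈ P ⊔ T₁ := Subgroup.mem_sup_right ha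
  have hbQ : b ∈ P ⊔ T₁ := by
    have := Subgroup.mul_mem _ (Subgroup.inv_mem _ haQ) (Subgroup.mem_sup_left (T := T₁) hxP)
    rwa [inv_mul_cancel_left] at this
  have e : f (a * b) = g a * g b * ((g (a * b))⁻¹ * f (a * b)) := by
    rw [← hg.map_mul haQ hbQ, mul_inv_cancel_left]
  rw [e]
  refine Subgroup.mul_mem _ (Subgroup.mul_mem _ ?_ ?_) ?_
  · exact Subgroup.mem_sup_left ((Agent.Fusion.stronglyClosed_iff.1 h₁).2 _ g hg a haQ ha)
  · exact Subgroup.mem_sup_right ((Agent.Fusion.stronglyClosed_iff.1 h₂).2 _ g hg b hbQ hb)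
  · exact Subgroup.mem_sup_left (hgf _ hxP)

end Cfsg.Agent.S5128
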