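import Cfsg.Statements.S5251
import Cfsg.Agent.Lib.FusionChain.StronglyClosed

set_option autoImplicit false
open Cfsg
open scoped Pointwise

namespace Cfsg.Agent.S5251

section
open Cfsg.FusionSystem Cfsg.Agent.Fusion Cfsg.Agent.FusionChain

variable {Ω : Type*} [Group Ω] {S : Subgroup Ω} [Finite S] {F : Cfsg.FusionSystem S}

/-- An isomorphism of the system carries `O_p` of the automizers into `O_p`. -/
theorem congr_mem_pCoreAut (p : ℕ) {P Q : Subgroup Ω} {f : Ω → Ω} (h : IsIso F P Q f) {α : MulAut P}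
    (hα : α ∈ pCoreAut F p P) : MulAut.congr h.equiv α ∈ pCoreAut F p Q := by
  refine le_pCoreAut (K := transK h (pCoreAut F p P)) ((isPGroup_pCoreAut p P).map _) ?_ ?_ ⟨α, hα, rfl⟩
  · rintro _ ⟨a, ha, rfl⟩
    exact congr_mem_autGroup h (pCoreAut_le_autGroup p P ha)
  · rintro β hβ _ ⟨a, ha, rfl⟩
    rw [← map_autGroup h] at hβ
    obtain ⟨b, hb, rfl⟩ := hβ
    exact ⟨b * a * b⁻¹, conj_mem_pCoreAut hb ha, by simp only [map_mul, map_inv]⟩

end

/-- Let F be a saturated fusion system over a finite p-group S, E a normal subsystem of F over T, and P an F-centric subgroup of S such that P ∩ T is not E-centric. Then some F-conjugate P* of P satisfies Out_S(P*) ∩ O_p(Out_F(P*)) ≠ 1: there is an element of N_S(P*) outside P* whose conjugation action on P* lies in O_p(Aut_F(P*)). In particular P is not both centric and radical in F. -/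
theorem result {Ω : Type*} [Group Ω] {S : Subgroup Ω} [Finite S] (p : ℕ) [Fact p.Prime] (hS : IsPGroup p S) (F : Cfsg.FusionSystem S) (hF : F.IsSaturated p) {T : Subgroup Ω} (E : Cfsg.FusionSystem T) (hE : E.IsNormalIn F p) (P : Subgroup Ω) (hP : F.IsCentric P) (hPT : ¬ E.IsCentric (P ⊓ T)) : (∃ φ ∈ F.Hom P, ∃ x ∈ S ⊓ Subgroup.normalizer (φ.range : Set Ω), x ∉ φ.range ∧ ∃ α ∈ ((Cfsg.pCore p ↥(F.autGroup φ.range)).map (F.autGroup φ.range).subtype : Subgroup (MulAut ↥φ.range)), ∀ y : ↥φ.range, ((α y : ↥φ.range) : Ω) = x * (y : Ω) * x⁻¹) ∧ ¬ F.IsRadical p P := by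
  obtain ⟨⟨-, -, hsub, hT, -, -⟩, -⟩ := hE
  have hPS := hP.1
  have hTS := hT.1
  set U := P ⊓ T with hUdef
  have hUS : U ≤ S := inf_le_left.trans hPS
  -- a conjugate of `U` in `E` whose centralizer in `T` is not contained in it
  obtain ⟨V, hUV, hV⟩ : ∃ V, F.IsConj U V ∧ ¬ Cfsg.FusionSystem.centralizerIn T V ≤ V := by
    by_contra hcon
    refine hPT ⟨inf_le_right, fun Q hQ => ?_⟩
    obtain ⟨φ, hφ, hr⟩ := hQ
    by_contra hQ'
    exact hcon ⟨Q, ⟨φ, hsub _ hφ, hr⟩, hQ'⟩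
  -- a fully normalized conjugate reached from `N_S(U)`
  obtain ⟨U', f, hU', hf, hfU, -⟩ := Cfsg.Agent.Fusion.exists_fullyNormalized_map hS hF hUS
  have hPN : P ≤ Cfsg.FusionSystem.normalizerIn S U := by
    intro x hx
    have := Cfsg.Agent.Fusion.finite_of_le hUS
    refine Cfsg.Agent.Fusion.mem_normalizerIn_of_conj (hPS hx) fun y hy => ⟨?_, ?_⟩
    · exact P.mul_mem (P.mul_mem hx hy.1) (P.inv_mem hx)
    · exact Cfsg.Agent.FusionChain.conj_mem_of_stronglyClosed hT (hPS hx) hy.2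
  obtain ⟨φ, hφ, hφe⟩ := id (hf.mono hPN)
  have hiso : Cfsg.Agent.Fusion.IsIso F P φ.range f :=
    ⟨hf.mono hPN, by
      rw [← Cfsg.Agent.Fusion.toFn_img φ]
      exact Cfsg.Agent.Fusion.img_congr fun x hx => by rw [Cfsg.Agent.Fusion.toFn_apply φ hx, hφe]⟩
  have hRS := hiso.le_right
  obtain ⟨g, hg, hgf, hfg⟩ := hiso.symm
  have hmem : ∀ y, y ∈ U' ↔ y ∈ φ.range ∧ y ∈ T := by
    intro y
    rw [← hfU, hf.mem_img_iff (inf_le_left.trans hPN)]
    constructor
    · rintro ⟨x, hx, rfl⟩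
      exact ⟨hiso.mem hx.1,
        Cfsg.Agent.FusionChain.isMap_mem_of_stronglyClosed hT hf (hPN hx.1) hx.2⟩
    · rintro ⟨hy, hyT⟩
      exact ⟨g y, ⟨hg.mem hy, Cfsg.Agent.FusionChain.isMap_mem_of_stronglyClosed hT hg.1 hy hyT⟩, hfg y hy⟩
  have hU'T : U' ≤ T := fun y hy => ((hmem y).1 hy).2
  -- `C_T(U')` is not contained in `U'`
  set C := T ⊓ Cfsg.FusionSystem.centralizerIn S U' with hC
  have hCU : ¬ C ≤ U' := by
    intro hle
    apply hV
    have hUU' : F.IsConj U U' :=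
      Cfsg.Agent.Fusion.isConj_iff.2 ⟨f, hf.mono (inf_le_left.trans hPN), hfU⟩
    obtain ⟨h, hh⟩ := Cfsg.Agent.Fusion.isConj_iff.1
      (Cfsg.Agent.Fusion.isConj_trans (Cfsg.Agent.Fusion.isConj_symm hUV) hUU')
    obtain ⟨h', hh', hext⟩ := (Cfsg.Agent.Fusion.isReceptive_iff.1
      (Cfsg.Agent.Fusion.receptive_of_fullyNormalized hS hF hU')).2 V h hh
    have hVN := Cfsg.Agent.Fusion.le_Nx hh.1
    intro c hc
    have hcS : c ∈ Cfsg.FusionSystem.centralizerIn S V := ⟨hTS hc.1, hc.2⟩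
    have hcN := Cfsg.Agent.Fusion.centralizerIn_le_Nx S V h hcS
    have h1 : h' c ∈ U' := hle ⟨Cfsg.Agent.FusionChain.isMap_mem_of_stronglyClosed hT hh' hcN hc.1,
      Cfsg.Agent.Fusion.map_centralizerIn hh' hVN ((Cfsg.Agent.Fusion.img_congr hext).trans hh.2) hcN hcS⟩
    obtain ⟨v, hv, hv'⟩ := hh.exists_eq h1
    have : c = v := hh'.inj hcN (hVN hv) (by rw [hext v hv, hv'])
    rw [this]
    exact hv
  have hCR : ¬ C ≤ φ.range := fun hle => hCU fun c hc => (hmem c).2 ⟨hle hc, hc.1⟩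
  have hRC : φ.range ≤ Subgroup.normalizer (C : Set Ω) := by
    intro r hr
    have hconj : ∀ s ∈ φ.range, ∀ c ∈ C, s * c * s⁻¹ ∈ C := by
      intro s hs c hc
      refine ⟨Cfsg.Agent.FusionChain.conj_mem_of_stronglyClosed hT (hRS hs) hc.1,
        Cfsg.Agent.Fusion.mem_centralizerIn_of_conj
          (S.mul_mem (S.mul_mem (hRS hs) (hTS hc.1)) (S.inv_mem (hRS hs))) fun u hu => ?_⟩
      have hu' : s⁻¹ * u * s ∈ U' := by
        obtain ⟨h1, h2⟩ := (hmem u).1 hu
        refine (hmem _).2 ⟨mul_mem (mul_mem (Subgroup.inv_mem _ hs) h1) hs, ?_⟩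
        simpa using Cfsg.Agent.FusionChain.conj_mem_of_stronglyClosed hT (S.inv_mem (hRS hs)) h2
      have h3 := Cfsg.Agent.Fusion.centralizerIn_conj hc.2 hu'
      calc s * c * s⁻¹ * u * (s * c * s⁻¹)⁻¹ = s * (c * (s⁻¹ * u * s) * c⁻¹) * s⁻¹ := by group
        _ = u := by rw [h3]; group
    refine Subgroup.mem_normalizer_iff.2 fun x => ⟨hconj r hr x, fun hx => ?_⟩
    have := hconj r⁻¹ (Subgroup.inv_mem _ hr) _ hx
    simpa [mul_assoc] using this
  obtain ⟨y, hy, hyR⟩ := SetLike.exists_of_lt (Cfsg.Agent.Fusion.lt_normalizerIn hS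
    (sup_le hRS (inf_le_left.trans hTS) : φ.range ⊔ C ≤ S) (left_lt_sup.2 hCR))
  obtain ⟨r, hr, c, hc, rfl⟩ : y ∈ (φ.range : Set Ω) * (C : Set Ω) := by
    rw [← Subgroup.coe_mul_of_left_le_normalizer_right φ.range C hRC]
    exact hy.1
  have hcN : c ∈ Cfsg.FusionSystem.normalizerIn S φ.range := by
    have h0 := Subgroup.mul_mem _ (Subgroup.inv_mem _ (Cfsg.Agent.Fusion.le_normalizerIn hRS hr))
      (show r * c ∈ Cfsg.FusionSystem.normalizerIn S φ.range from
        ⟨(sup_le hRS (inf_le_left.trans hTS) : φ.range ⊔ C ≤ S) hy.1, hy.2⟩)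
    rwa [inv_mul_cancel_left] at h0
  have hcR : c ∉ φ.range := fun h => hyR (Subgroup.mul_mem _ hr h)
  set α := Cfsg.Agent.Fusion.normConj S φ.range ⟨c, hcN⟩ with hαdef
  have hαA : α ∈ F.autGroup φ.range :=
    Cfsg.Agent.Fusion.autInducedBy_le_autGroup F le_rfl hRS (Cfsg.Agent.Fusion.range_normConj S φ.range ▸ ⟨_, rfl⟩)
  have hαp : α ∈ Cfsg.Agent.FusionChain.pCoreAut F p φ.range := by
    refine Cfsg.Agent.FusionChain.mem_pCoreAut_of_chain hS hRS 2
      (fun i => if i = 0 then ⊥ else if i = 1 then U'.subgroupOf φ.range else ⊤) (by simp) (by simp) ?_ ?_ hαA ?_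
    · intro i hi
      interval_cases i <;> simp
    · intro a ha i hi x hx
      interval_cases i
      · simp_all
      · simp only [one_ne_zero, if_false, if_true] at hx ⊢
        refine (hmem _).2 ⟨(a x).2, ?_⟩
        show ((a x : φ.range) : Ω) ∈ T
        rw [← Cfsg.Agent.Fusion.autFn_apply a x.2]
        exact Cfsg.Agent.FusionChain.isMap_mem_of_stronglyClosed hT
          (Cfsg.Agent.Fusion.isIso_autFn hRS ha).1 x.2 ((hmem _).1 hx).2
      · simp
    · intro i hi x hx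
      interval_cases i
      · simp only [zero_add, one_ne_zero, if_false, if_true] at hx ⊢
        rw [Subgroup.mem_bot]
        have h3 : (α x : φ.range) = x :=
          Subtype.ext (Cfsg.Agent.Fusion.centralizerIn_conj hc.2 hx)
        rw [h3, inv_mul_cancel]
      · simp only [one_ne_zero, if_false, if_true] at hx ⊢
        refine (hmem _).2 ⟨(x⁻¹ * α x).2, ?_⟩
        show (x : Ω)⁻¹ * (c * x * c⁻¹) ∈ T
        have h1 := Cfsg.Agent.FusionChain.conj_mem_of_stronglyClosed hT (S.inv_mem (hRS x.2)) hc.1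
        rw [inv_inv] at h1
        have h2 := T.mul_mem h1 (T.inv_mem hc.1)
        simpa [mul_assoc] using h2
  refine ⟨⟨φ, hφ, c, hcN, hcR, α, hαp, fun z => rfl⟩, fun hrad => ?_⟩
  have hback := congr_mem_pCoreAut p hg hαp
  rw [show Cfsg.Agent.FusionChain.pCoreAut F p P = Cfsg.Inn P from hrad.2] at hback
  obtain ⟨q, hq⟩ := hback
  refine hcR (Cfsg.Agent.FusionChain.mem_of_conj_mem_inn (α := α) ?_ (hTS hc.1) hRS
    ⟨⟨f q, hiso.mem q.2⟩, MulEquiv.ext fun z => Subtype.ext ?_⟩ fun z => rfl)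
  · exact hP.2 φ.range ⟨φ, hφ, rfl⟩
  · show f q * (z : Ω) * (f q)⁻¹ = ((α z : φ.range) : Ω)
    have hgz := hg.mem z.2
    have h1 : ((MulAut.congr hg.equiv α (hg.equiv z) : P) : Ω) = g (α z : φ.range) :=
      Cfsg.Agent.Fusion.congr_apply_coe hg α z
    rw [← hq] at h1
    have h2 : (q : Ω) * g z * (q : Ω)⁻¹ = g ((α z : φ.range) : Ω) := h1
    have h3 := congrArg f h2
    rwa [hfg _ (α z).2, hiso.1.map_conj q.2 hgz, hfg _ z.2] at h3

end Cfsg.Agent.S5251
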