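import Cfsg.Statements.S5203
import Cfsg.Agent.Lib.FusionNormal.Generation

set_option autoImplicit false
open Cfsg

namespace Cfsg.Agent.S5203

open Cfsg.FusionSystem Cfsg.Agent.Fusion Cfsg.Agent.FusionNormal

variable {Ω : Type*} [Group Ω] {p : ℕ} [Fact p.Prime]

theorem eq_of_sub_of_sub {S : Subgroup Ω} {A B : Cfsg.FusionSystem S} (h : A.IsSubsystemOf B)
    (h' : B.IsSubsystemOf A) : A = B :=
  ext_of_hom fun P => (h P).antisymm (h' P)

omit [Fact p.Prime] in
theorem hasPPowerIndexIn_self {S : Subgroup Ω} (F : Cfsg.FusionSystem S) : F.HasPPowerIndexIn F p :=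
  ⟨fun _ => subset_rfl, hyperfocal_le F, fun P _ => Subgroup.map_subtype_le _⟩

omit [Fact p.Prime] in
theorem pPrimeResidual_unique {S : Subgroup Ω} {F D₁ D₂ : Cfsg.FusionSystem S}
    (h₁ : F.IsPPrimeResidual p D₁) (h₂ : F.IsPPrimeResidual p D₂) : D₁ = D₂ :=
  eq_of_sub_of_sub (h₁.2.2 D₂ h₂.1 h₂.2.1) (h₂.2.2 D₁ h₁.1 h₁.2.1)

theorem pPowerIndex_unique {S U : Subgroup Ω} [Finite S] (hS : IsPGroup p S) (hUS : U ≤ S)
    {F : Cfsg.FusionSystem S} {D₁ D₂ : Cfsg.FusionSystem U} (h₁ : D₁.IsSaturated p)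
    (h₂ : D₂.IsSaturated p) (i₁ : D₁.HasPPowerIndexIn F p) (i₂ : D₂.HasPPowerIndexIn F p) : D₁ = D₂ := by
  have : Finite U := finite_of_le hUS
  exact eq_of_sub_of_sub (isSubsystemOf_of_pPowerIndex (hS.to_le hUS) h₁ i₁.1 i₂ le_rfl)
    (isSubsystemOf_of_pPowerIndex (hS.to_le hUS) h₂ i₂.1 i₁ le_rfl)

omit [Fact p.Prime] in
theorem limit_step {V S U : Subgroup Ω} {L : Cfsg.FusionSystem V} (F : Cfsg.FusionSystem S)
    (h : F.hyperfocalSubgroup p = U) (D D' : Cfsg.FusionSystem U) (hD : D.IsSaturated p)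
    (hi : D.HasPPowerIndexIn F p) (hD' : D.IsPPrimeResidual p D') (hL : L.IsResidualLimitOf D' p) : L.IsResidualLimitOf F p := by
  subst h
  exact IsResidualLimitOf.step F p D D' ⟨hD, hi⟩ hD' hL

theorem eq_of_stable {T S : Subgroup Ω} {L : Cfsg.FusionSystem T} {F : Cfsg.FusionSystem S} {q : ℕ}
    (h : L.IsResidualLimitOf F q) : q.Prime → Finite S → IsPGroup q S → F.IsSaturated q →
      F.hyperfocalSubgroup q = S → F.IsPPrimeResidual q F → ∀ P, L.Hom P = F.Hom P := by
  induction h with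
  | stable F q _ _ => exact fun _ _ _ _ _ _ P => rfl
  | step F q D D' hD hD' _ ih =>
    intro hq hfin hS hF h1 h2
    have := Fact.mk hq
    have key : ∀ (U : Subgroup Ω), F.hyperfocalSubgroup q = U → ∀ A : Cfsg.FusionSystem U,
        A.IsSaturated q → A.HasPPowerIndexIn F q → ∀ A', A.IsPPrimeResidual q A' →
        A'.hyperfocalSubgroup q = U ∧ A'.IsPPrimeResidual q A' ∧ ∀ P, A'.Hom P = F.Hom P := by
      intro U hU A hA hAi A' hA'
      obtain rfl := hU.symm.trans h1
      obtain rfl := pPowerIndex_unique hS le_rfl hA hF hAi (hasPPowerIndexIn_self F)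
      obtain rfl := pPrimeResidual_unique hA' h2
      exact ⟨h1, h2, fun P => rfl⟩
    obtain ⟨e1, e2, e3⟩ := key _ rfl D hD.1 hD.2 D' hD'
    intro P
    rw [ih hq (finite_of_le (hyperfocal_le F)) (hS.to_le (hyperfocal_le F)) hD'.1 e1 e2 P, e3]

theorem limit_unique {T S : Subgroup Ω} {L : Cfsg.FusionSystem T} {F : Cfsg.FusionSystem S} {q : ℕ}
    (h : L.IsResidualLimitOf F q) : q.Prime → Finite S → IsPGroup q S → F.IsSaturated q →
      ∀ {T' : Subgroup Ω} {L' : Cfsg.FusionSystem T'}, L'.IsResidualLimitOf F q → ∀ P, L'.Hom P = L.Hom P := by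
  induction h with
  | stable F q h1 h2 => exact fun hq hfin hS hF _ _ h' => eq_of_stable h' hq hfin hS hF h1 h2
  | step F q D D' hD hD' hL ih =>
    intro hq hfin hS hF T' L' h'
    have := Fact.mk hq
    cases h' with
    | stable _ _ h1 h2 =>
      exact fun P => (eq_of_stable (IsResidualLimitOf.step _ q D D' hD hD' hL) hq hfin hS hF h1 h2 P).symm
    | step _ _ D₂ D₂' hD₂ hD₂' hL' =>
      obtain rfl := pPowerIndex_unique hS (hyperfocal_le F) hD₂.1 hD.1 hD₂.2 hD.2
      obtain rfl := pPrimeResidual_unique hD₂' hD'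
      exact ih hq (finite_of_le (hyperfocal_le F)) (hS.to_le (hyperfocal_le F)) hD'.1 hL'

omit [Fact p.Prime] in
theorem pPowerIndex_trans {T S U : Subgroup Ω} {E : Cfsg.FusionSystem T} {F : Cfsg.FusionSystem S}
    {D : Cfsg.FusionSystem U} (hidx : E.HasPPowerIndexIn F p) (hU : F.hyperfocalSubgroup p ≤ U) (hUT : U ≤ T)
    (hD : D.HasPPowerIndexIn E p) : D.HasPPowerIndexIn F p := by
  refine ⟨fun P => (hD.1 P).trans (hidx.1 P), hU, fun P hP => ?_⟩
  rw [Subgroup.map_le_iff_le_comap]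
  refine (Subgroup.closure_le _).2 fun g hg => ?_
  have hg' : (orderOf (g : MulAut P)).Coprime p := by rw [Subgroup.orderOf_coe]; exact hg
  exact hD.2.2 P hP (mem_pResidual_map (hidx.2.2 P (hP.trans hUT) (mem_pResidual_map g.2 hg')) hg')

omit [Fact p.Prime] in
theorem limit_lift {V T S : Subgroup Ω} {L : Cfsg.FusionSystem V} {E : Cfsg.FusionSystem T}
    {F : Cfsg.FusionSystem S} (hL : L.IsResidualLimitOf E p) (hEsat : E.IsSaturated p)
    (hidx : E.HasPPowerIndexIn F p) (hhyp : E.hyperfocalSubgroup p = F.hyperfocalSubgroup p) :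
    L.IsResidualLimitOf F p := by
  cases hL with
  | stable _ _ h1 h2 =>
    exact limit_step F (hhyp.symm.trans h1) L L hEsat hidx h2 (IsResidualLimitOf.stable L p h1 h2)
  | step _ _ D D' hD hD' hL' =>
    exact limit_step F hhyp.symm D D' hD.1
      (pPowerIndex_trans hidx hhyp.ge (hyperfocal_le E) hD.2) hD' hL'

/-- Let F be a saturated fusion system over a finite p-group S and E a normal subsystem of F over T that has p-power index in F. Then every residual limit of E has the same maps as every residual limit of F (the residual limit is reached by alternately passing to the p-residual and the p'-residual subsystem until nothing changes). -/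
theorem result {Ω : Type*} [Group Ω] {S : Subgroup Ω} [Finite S] (p : ℕ) [Fact p.Prime] (hS : IsPGroup p S) (F : Cfsg.FusionSystem S) (hF : F.IsSaturated p) {T : Subgroup Ω} (E : Cfsg.FusionSystem T) (hE : E.IsNormalIn F p) (hidx : E.HasPPowerIndexIn F p) {U V : Subgroup Ω} (Finf : Cfsg.FusionSystem U) (hFinf : Finf.IsResidualLimitOf F p) (Einf : Cfsg.FusionSystem V) (hEinf : Einf.IsResidualLimitOf E p) : ∀ P : Subgroup Ω, Finf.Hom P = Einf.Hom P := by
  obtain ⟨⟨hEsat, -, hEi⟩, -⟩ := hE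
  have hlift := limit_lift hEinf hEsat hidx (hyperfocal_eq_of_pPowerIndex hS hEi.2.1 hidx)
  exact limit_unique hlift Fact.out inferInstance hS hF hFinf

end Cfsg.Agent.S5203
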