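import Cfsg.Statements.S1985
import Cfsg.Agent.Lib.FunctorControl.WeakClosureMain
import Cfsg.Agent.EqLemmas

set_option autoImplicit false
universe u
open Cfsg
open scoped commutatorElement

namespace Cfsg.Agent.S1985

/-- Let p be an odd prime and G a finite group. Then the lower K-infinity subgroup controls weak closure of elements in G: the lower K-infinity subgroup of every p-subgroup P of G contains Z(P), and for some (equivalently, every) Sylow p-subgroup S of G, with K the lower K-infinity subgroup of S, every element of S commuting with all of N_G(K) is weakly closed in S with respect to G (every G-conjugate of it lying in S equals it). -/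
theorem result {G : Type u} [Group G] [Finite G] {p : ℕ} [Fact p.Prime] (hp : p ≠ 2) : Cfsg.ControlsWeakClosureOfElementsIn p (Cfsg.inducedFunctor (G := G) Cfsg.kInfLower) ⊤ := by
  have hW := KInfinity.isCharPFunctor_kInfLower p
  refine ⟨fun P hP => FunctorControl.center_le_kInfLower P hP, ?_⟩
  obtain ⟨S⟩ : Nonempty (Sylow p G) := Sylow.nonempty
  refine ⟨S, le_top, S.isPGroup', by rw [Subgroup.relIndex_top_right]; exact S.not_dvd_index, fun x hx h hh hhx => ?_⟩
  refine FunctorControl.eq_of_engel (FunctorControl.isConjugacyFunctor_induced hW) (fun P hP => FunctorControl.center_le_kInfLower P hP)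
    (fun K T hn => ?_) le_top S.isPGroup' (by rw [Subgroup.relIndex_top_right]; exact S.not_dvd_index) hx hh hhx
  obtain ⟨u, hu, huQ, hq⟩ := FunctorControl.exists_quadratic_kInfLower K T hn
  refine ⟨u, hu, huQ, fun U N hUN hU => ?_⟩
  haveI := hUN.2.2.1
  have hp3 : 3 ≤ p := by
    have := (Fact.out : p.Prime).two_le
    omega
  refine KInfinity.iterCommutator_le_of_le (show 2 ≤ p - 1 by omega) ?_
  exact ((KInfinity.iterCommutator_mono hU 2).trans hq.le).trans bot_le


end Cfsg.Agent.S1985
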