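import Cfsg.Statements.S5148
import Cfsg.Agent.Lib.FusionAbelian.Basic

set_option autoImplicit false
open Cfsg

namespace Cfsg.Agent.S5148

open Cfsg.FusionSystem Cfsg.Agent.Fusion Cfsg.Agent.FusionAbelian

/-- The fusion system induced by a group of automorphisms on an abelian group. -/
def actionSystem {Q : Type*} [Group Q] (hQ : ∀ x y : Q, x * y = y * x) (A : Subgroup (MulAut Q)) :
    Cfsg.FusionSystem (⊤ : Subgroup Q) where
  Hom P := {φ | ∃ a ∈ A, ∀ x : P, φ x = a (x : Q)}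
  le_of_mem _ := ⟨le_top, fun _ => Subgroup.mem_top _⟩
  injective_of_mem := by
    rintro P φ ⟨a, -, h⟩ x y e
    rw [h, h] at e
    exact Subtype.ext (a.injective e)
  conj_mem := by
    intro P g _ _
    refine ⟨1, A.one_mem, fun x => ?_⟩
    show g * (x : Q) * g⁻¹ = (x : Q)
    rw [hQ g, mul_inv_cancel_right]
  comp_mem := by
    rintro P R φ ψ ⟨a, ha, h⟩ ⟨b, hb, k⟩ hR
    exact ⟨b * a, A.mul_mem hb ha, fun x => (k _).trans (congrArg b (h x))⟩
  inv_mem := by
    rintro P φ ⟨a, ha, h⟩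
    refine ⟨(a⁻¹ : MulAut Q).toMonoidHom.comp φ.range.subtype, ⟨a⁻¹, A.inv_mem ha, fun _ => rfl⟩,
      fun x => ?_⟩
    show a⁻¹ (φ x) = (x : Q)
    rw [h]
    exact MulAut.inv_apply_self _ a _

theorem bot_isMap {Q : Type*} [Group Q] {hQ : ∀ x y : Q, x * y = y * x} {P : Subgroup Q} {f : Q → Q}
    (hf : IsMap (actionSystem hQ ⊥) P f) : ∀ x ∈ P, f x = x := by
  obtain ⟨φ, ⟨a, ha, h⟩, e⟩ := hf
  intro x hx
  rw [← e x hx, h, Subgroup.mem_bot.mp ha]
  rfl

theorem bot_saturated {Q : Type*} [Group Q] [Finite Q] {p : ℕ} (hQ : ∀ x y : Q, x * y = y * x) :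
    (actionSystem hQ ⊥).IsSaturated p := by
  intro P hP
  refine ⟨P, isConj_refl _ hP, ?_, ?_⟩
  · have hA : (actionSystem hQ ⊥).autGroup P = ⊥ := by
      rw [eq_bot_iff]
      intro α hα
      rw [Subgroup.mem_bot]
      ext x
      rw [MulAut.one_apply, ← autFn_apply α x.2]
      exact bot_isMap ((mem_autGroup_iff hP).1 hα) x x.2
    have hB : autInducedBy (⊤ : Subgroup Q) P = ⊥ :=
      autInducedBy_eq_bot (fun x _ y _ => hQ x y) hP
    refine isFullyAutomized_iff.2 ⟨hP, ?_⟩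
    rw [hA, hB]
    exact ⟨le_rfl, IsPGroup.of_bot, fun C _ hC _ => le_bot_iff.1 hC⟩
  · refine isReceptive_iff.2 ⟨hP, fun R f hf => ?_⟩
    exact ⟨fun x => x, Fusion.IsMap.id le_top, fun x hx => (bot_isMap hf.1 x hx).symm⟩


/-- A quasisimple fusion system over a finite p-group S (saturated, equal to its p-residual subsystem, with simple — in particular nontrivial — factor system modulo its centre) has S nonabelian. -/
theorem result {Ω : Type*} [Group Ω] {S : Subgroup Ω} [Finite S] (p : ℕ) [Fact p.Prime] (hS : IsPGroup p S) (F : Cfsg.FusionSystem S) (hq : F.Quasisimple p) : ¬ IsMulCommutative S := by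
  intro hab
  obtain ⟨hF, hhyp, hsimple⟩ := hq
  have hc : ∀ x ∈ S, ∀ y ∈ S, x * y = y * x := fun x hx y hy =>
    congrArg Subtype.val (hab.1.comm ⟨x, hx⟩ ⟨y, hy⟩)
  set N := (F.center).subgroupOf S
  have hcS : F.center ≤ S := sSup_le fun Q hQ => hQ.1
  have hfix : ∀ α ∈ F.autGroup S, ∀ z ∈ N, α z = z := by
    intro α hα z hz
    have hm : IsMap F S (autFn α) := (mem_autGroup_iff le_rfl).1 hα
    obtain ⟨φ, hφ, e⟩ := hm
    have hle : F.center ≤ (MonoidHom.eqLocus φ S.subtype).map S.subtype := by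
      refine sSup_le fun Q hQ q hq => ?_
      obtain ⟨hQS, hQe⟩ := hQ
      obtain ⟨ψ, -, hψP, hψQ⟩ := hQe S φ hφ
      refine ⟨⟨q, hQS hq⟩, ?_, rfl⟩
      exact ((hψP ⟨q, hQS hq⟩).symm.trans (congrArg ψ (Subtype.ext rfl))).trans (hψQ ⟨q, hq⟩)
    obtain ⟨y, hy, hyz⟩ := hle hz
    obtain rfl : y = z := Subtype.ext hyz
    exact Subtype.ext (((autFn_apply α y.2).symm.trans (e _ y.2).symm).trans hy)
  have hmap : ∀ α ∈ F.autGroup S, N.map α.toMonoidHom = N := by
    intro α hα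
    refine le_antisymm ?_ fun z hz => ⟨z, hz, hfix α hα z hz⟩
    rintro _ ⟨z, hz, rfl⟩
    exact (hfix α hα z hz).symm ▸ hz
  have hQc : ∀ x y : S ⧸ N, x * y = y * x := by
    intro x y
    obtain ⟨a, rfl⟩ := QuotientGroup.mk'_surjective N x
    obtain ⟨b, rfl⟩ := QuotientGroup.mk'_surjective N y
    rw [← map_mul, ← map_mul, hab.1.comm a b]
  let A : Subgroup (MulAut (S ⧸ N)) :=
    { carrier := {a | ∃ α ∈ F.autGroup S, ∀ s : S, a (QuotientGroup.mk' N s) = QuotientGroup.mk' N (α s)}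
      one_mem' := ⟨1, one_mem _, fun s => rfl⟩
      mul_mem' := by
        rintro a b ⟨α, hα, h⟩ ⟨β, hβ, k⟩
        exact ⟨α * β, mul_mem hα hβ, fun s => (congrArg a (k s)).trans (h (β s))⟩
      inv_mem' := by
        rintro a ⟨α, hα, h⟩
        refine ⟨α⁻¹, inv_mem hα, fun s => a.injective ?_⟩
        rw [MulAut.apply_inv_self, h, MulAut.apply_inv_self] }
  let E := actionSystem hQc A
  have hfac : F.IsFactorSystem F.center (QuotientGroup.mk' N) E := by
    refine ⟨hcS, fun s => QuotientGroup.eq_one_iff s, MonoidHom.range_eq_top.2 (QuotientGroup.mk'_surjective N),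
      fun P' φ' => ⟨?_, ?_⟩⟩
    · rintro ⟨a, ⟨α, hα, h⟩, hφ'⟩
      set P := preimageAlong (QuotientGroup.mk' N) P'
      have hPS : P ≤ S := Subgroup.map_subtype_le _
      obtain ⟨φ, hφ, e⟩ := ((mem_autGroup_iff le_rfl).1 hα).mono hPS
      refine ⟨le_top, φ, hφ, hPS, fun x => (F.le_of_mem hφ).2 x, ?_, fun x => ?_⟩
      · intro x
        obtain ⟨y, hy, hyx⟩ := x.2
        rwa [show (⟨x, hPS x.2⟩ : S) = y from Subtype.ext hyx.symm]
      · rw [hφ', h]
        exact congrArg _ (Subtype.ext ((e x x.2).trans (autFn_apply α (hPS x.2))).symm)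
    · rintro ⟨-, φ, hφ, hP, hφS, hP', he⟩
      obtain ⟨α, hα, hαe⟩ := exists_aut_extension hS hF hc (isMap_toFn hφ)
      refine ⟨QuotientGroup.congr N N α (hmap α hα), ⟨α, hα, fun s => rfl⟩, fun y => ?_⟩
      obtain ⟨s, hs⟩ := QuotientGroup.mk'_surjective N (y : S ⧸ N)
      have hmem : (s : Ω) ∈ preimageAlong (QuotientGroup.mk' N) P' :=
        ⟨s, show QuotientGroup.mk' N s ∈ P' from hs ▸ y.2, rfl⟩
      have hy : y = ⟨_, hP' ⟨s, hmem⟩⟩ := Subtype.ext hs.symm
      rw [hy, he ⟨s, hmem⟩]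
      show QuotientGroup.mk' N _ = QuotientGroup.mk' N (α s)
      refine congrArg _ (Subtype.ext ?_)
      show φ ⟨s, hmem⟩ = _
      rw [← toFn_apply φ hmem, ← hαe _ hmem, autFn_apply α s.2]
  obtain ⟨hEs, hne, hEn⟩ := hsimple E hfac
  set I := actionSystem hQc (⊥ : Subgroup (MulAut (S ⧸ N)))
  have hI : I.IsNormalIn E p := by
    refine ⟨⟨bot_saturated hQc, hEs, ?_, ⟨le_top, fun _ _ _ _ _ => Subgroup.mem_top _⟩, ?_, ?_⟩, ?_⟩
    · rintro P φ ⟨a, ha, h⟩
      exact ⟨a, (Subgroup.mem_bot.mp ha) ▸ A.one_mem, h⟩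
    · rintro P hP φ ⟨a, ha, h⟩ α -
      obtain rfl := Subgroup.mem_bot.mp ha
      refine ⟨((P.subgroupOf ⊤).map ((⊤ : Subgroup (S ⧸ N)).subtype.comp α.toMonoidHom)).subtype,
        ⟨1, Subgroup.one_mem _, fun _ => rfl⟩, fun x hφx hαx => ?_⟩
      show ((α ⟨(x : S ⧸ N), _⟩ : (⊤ : Subgroup (S ⧸ N))) : S ⧸ N) = _
      congr 2
      exact Subtype.ext (h x).symm
    · rintro P hP φ ⟨a, ha, h⟩
      refine ⟨Subgroup.topEquiv.trans (a.trans Subgroup.topEquiv.symm), ?_, P.subtype,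
        ⟨1, Subgroup.one_mem _, fun _ => rfl⟩, fun x hx => h x⟩
      exact Subgroup.subset_closure ⟨a, ha, fun x => rfl⟩
    · intro α hα
      have h1 : α = 1 := by
        ext x
        rw [MulAut.one_apply, ← autFn_apply α x.2]
        exact bot_isMap ((mem_autGroup_iff le_rfl).1 hα) x x.2
      subst h1
      refine ⟨1, one_mem _, fun x => rfl, fun c _ => ⟨Subgroup.mem_top _, fun y _ => hQc _ _⟩⟩
  have htriv : ∀ α ∈ F.autGroup S, α = 1 := by
    intro α hα
    have hEI : ∀ P, I.Hom P = E.Hom P := ((hEn ⊤ I hI).resolve_left hne).2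
    have hmem : (QuotientGroup.congr N N α (hmap α hα)).toMonoidHom.comp (⊤ : Subgroup (S ⧸ N)).subtype ∈
        I.Hom ⊤ := by
      rw [hEI]
      exact ⟨QuotientGroup.congr N N α (hmap α hα), ⟨α, hα, fun s => rfl⟩, fun _ => rfl⟩
    obtain ⟨a, ha, h⟩ := hmem
    obtain rfl := Subgroup.mem_bot.mp ha
    have hsN : ∀ s : S, s⁻¹ * α s ∈ N := fun s =>
      QuotientGroup.eq.mp (h ⟨QuotientGroup.mk' N s, Subgroup.mem_top _⟩).symm
    obtain ⟨k, hk⟩ := IsPGroup.iff_card.mp hS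
    have hpow : ∀ (j : ℕ) (s : S), (α ^ j) s = s * (s⁻¹ * α s) ^ j := by
      intro j s
      induction j with
      | zero => simp
      | succ j ih => rw [pow_succ' α, MulAut.mul_apply, ih, map_mul, hfix α hα _ (pow_mem (hsN s) j),
          pow_succ', ← mul_assoc s, mul_inv_cancel_left]
    have hp1 : α ^ p ^ k = 1 := by
      ext s
      rw [hpow, MulAut.one_apply, show (s⁻¹ * α s) ^ p ^ k = 1 from hk ▸ pow_card_eq_one', mul_one]
    have hdiv : orderOf α ∣ Nat.card (F.autGroup S) := Subgroup.orderOf_dvd_natCard _ hα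
    have hndiv := not_dvd_card_autGroup hS hF hc
    obtain ⟨i, -, hi⟩ := (Nat.dvd_prime_pow (Fact.out : p.Prime)).mp (orderOf_dvd_of_pow_eq_one hp1)
    rw [← orderOf_eq_one_iff, hi]
    rcases Nat.eq_zero_or_pos i with h0 | h0
    · rw [h0, pow_zero]
    · exact absurd ((dvd_pow_self p h0.ne').trans (hi ▸ hdiv)) hndiv
  have hbot : F.hyperfocalSubgroup p ≤ ⊥ := by
    refine (Subgroup.closure_le _).mpr ?_
    rintro y ⟨P, α, x, hP, -, rfl⟩
    have hm : IsMap F P (autFn (α : MulAut P)) := (mem_autGroup_iff hP).1 α.2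
    obtain ⟨β, hβ, hβe⟩ := exists_aut_extension hS hF hc hm
    have : (((α : MulAut P) x : P) : Ω) = x := by
      rw [← autFn_apply (α : MulAut P) x.2, ← hβe _ x.2, htriv β hβ, autFn_apply _ (hP x.2)]
      rfl
    simp [this]
  have hS1 : ∀ s : S, s = 1 := fun s =>
    Subtype.ext (Subgroup.mem_bot.mp (hbot (hhyp.symm ▸ s.2)))
  refine hne (Subgroup.ext fun x => ⟨fun _ => ?_, fun _ => Subgroup.mem_top x⟩)
  obtain ⟨s, rfl⟩ := QuotientGroup.mk'_surjective N x
  rw [hS1 s, map_one]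
  exact one_mem _

end Cfsg.Agent.S5148
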