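import Cfsg.Statements.S0638
import Cfsg.Agent.Lib.PGroup.UniqueOrderP

set_option autoImplicit false
open Cfsg

namespace Cfsg.Agent.S0638

/-- For odd p, in a non-cyclic metacyclic p-group the elements of order dividing p generate an elementary abelian subgroup of order p². -/
theorem result {R : Type*} [Group R] [Finite R] {p : ℕ} [Fact p.Prime] (hp : p ≠ 2) (hR : IsPGroup p R) (hm : Cfsg.IsMetacyclic R) (hnc : ¬ IsCyclic R) : Cfsg.IsElementaryAbelian p (Cfsg.omegaOne p (⊤ : Subgroup R)) ∧ Nat.card ↥(Cfsg.omegaOne p (⊤ : Subgroup R)) = p ^ 2 := by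
  obtain ⟨N, hN, hNc, hQc⟩ := hm
  have hNtop : N ≠ ⊤ := fun h => hnc (by
    subst h; exact isCyclic_of_surjective Subgroup.topEquiv (MulEquiv.surjective _))
  obtain ⟨K, hKn, hNK, -, hKcard, -⟩ := PGroup.exists_normal_between hR (lt_top_iff_ne_top.mpr hNtop)
  have hidx : (N.subgroupOf K).index = p := by
    have h1 := (N.subgroupOf K).card_mul_index
    rw [Nat.card_congr (Subgroup.subgroupOfEquivOfLe hNK).toEquiv, hKcard, mul_comm p] at h1
    exact Nat.eq_of_mul_eq_mul_left Nat.card_pos h1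
  obtain ⟨k, hkK, hkN⟩ := SetLike.exists_of_lt (lt_of_le_of_ne hNK fun h => by
    rw [← h] at hKcard
    exact absurd hKcard (Nat.ne_of_lt (lt_mul_of_one_lt_left Nat.card_pos (Fact.out : p.Prime).one_lt)))
  have hkp : k ^ p ∈ N := by
    have := (N.subgroupOf K).pow_index_mem ⟨k, hkK⟩
    rwa [hidx] at this
  have hfk : orderOf (k : R ⧸ N) = p := orderOf_eq_prime
    (by rw [← QuotientGroup.mk_pow]; exact (QuotientGroup.eq_one_iff _).mpr hkp)
    (fun h => hkN ((QuotientGroup.eq_one_iff _).mp h))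
  haveI : IsCyclic (R ⧸ N) := hQc
  haveI : IsCyclic (⊤ : Subgroup (R ⧸ N)) :=
    isCyclic_of_surjective Subgroup.topEquiv.symm (MulEquiv.surjective _)
  have hmemK : ∀ x : R, x ^ p = 1 → x ∈ K := fun x hx => by
    have := PGroup.mem_zpowers_of_isCyclic (C := (⊤ : Subgroup (R ⧸ N))) inferInstance
      (Subgroup.mem_top _) (Subgroup.mem_top (x : R ⧸ N)) hfk
      (by rw [← QuotientGroup.mk_pow, hx, QuotientGroup.mk_one])
    obtain ⟨j, hj⟩ := Subgroup.mem_zpowers_iff.mp this
    rw [← QuotientGroup.mk_zpow, QuotientGroup.eq] at hj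
    have := mul_mem (zpow_mem hkK j) (hNK hj)
    rwa [mul_inv_cancel_left] at this
  have hKnc : ¬ IsCyclic K := by
    intro hKc
    rcases PGroup.unique_order_p_cases hR fun x y hx hy => PGroup.mem_zpowers_of_isCyclic hKc
        (hmemK x (orderOf_dvd_iff_pow_eq_one.mp hx.dvd)) (hmemK y hy) hx hy with h | ⟨h, -⟩
    · exact hnc h
    · exact hp h
  haveI : IsCyclic (N.subgroupOf K) :=
    isCyclic_of_surjective (Subgroup.subgroupOfEquivOfLe hNK).symm (MulEquiv.surjective _)
  obtain ⟨L, hL, hLc⟩ := PGroup.cyclic_index_p_omega hp (hR.to_subgroup K) hKnc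
    (C := N.subgroupOf K) inferInstance hidx
  have e : Cfsg.omegaOne p (⊤ : Subgroup R) = L.map K.subtype := by
    unfold Cfsg.omegaOne
    refine le_antisymm ((Subgroup.closure_le _).mpr ?_) ?_
    · rintro x ⟨-, hx⟩
      exact ⟨⟨x, hmemK x hx⟩, (hL _).mpr (Subtype.ext (by simpa using hx)), rfl⟩
    · rintro _ ⟨y, hy, rfl⟩
      exact Subgroup.subset_closure ⟨Subgroup.mem_top _, by simpa using congrArg Subtype.val ((hL y).mp hy)⟩
  rw [e]
  haveI := PGroup.isMulCommutative_of_card_sq hLc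
  refine ⟨⟨inferInstance, ?_⟩, by rw [Subgroup.card_map_of_injective K.subtype_injective, hLc]⟩
  rintro _ ⟨y, hy, rfl⟩
  simpa using congrArg Subtype.val ((hL y).mp hy)

end Cfsg.Agent.S0638
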