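import Cfsg.Statements.S5236
import Cfsg.Agent.Lib.FusionChain.StronglyClosed
import Cfsg.Agent.Lib.FusionChain.SmallElements

set_option autoImplicit false
open Cfsg

namespace Cfsg.Agent.S5236

section
open Cfsg.FusionSystem Cfsg.Agent.Fusion Cfsg.Agent.FusionChain
open scoped commutatorElement Pointwise

variable {Ω : Type*} [Group Ω] {S : Subgroup Ω} {F : Cfsg.FusionSystem S}

theorem omegaOne_le (p : ℕ) (P : Subgroup Ω) : Cfsg.omegaOne p P ≤ P :=
  (Subgroup.closure_le _).2 fun _ hx => hx.1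

/-- Automorphisms of `P` preserve `Ω₁(P)`. -/
theorem map_omega_mem {p : ℕ} {P : Subgroup Ω} (α : MulAut P) {x : Ω} (hx : x ∈ Cfsg.omegaOne p P) :
    autFn α x ∈ Cfsg.omegaOne p P := by
  have hle : Cfsg.omegaOne p P ≤ ((Cfsg.omegaOne p P).comap (P.subtype.comp α.toMonoidHom)).map P.subtype := by
    refine (Subgroup.closure_le _).2 ?_
    rintro y ⟨hy, hyp⟩
    refine ⟨⟨y, hy⟩, Subgroup.subset_closure ⟨(α ⟨y, hy⟩).2, ?_⟩, rfl⟩
    show ((α ⟨y, hy⟩ : P) : Ω) ^ p = 1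
    rw [← Subgroup.coe_pow, ← map_pow, show (⟨y, hy⟩ : P) ^ p = 1 from Subtype.ext hyp, map_one]
    rfl
  obtain ⟨y, hy, rfl⟩ := hle hx
  rw [Subgroup.subtype_apply, autFn_apply α y.2]
  exact hy

/-- The series inside `Ω₁(P)` cut out by the upper central series of a normal subgroup `P`. -/
theorem series_of_normal [Finite S] {p : ℕ} [Fact p.Prime] (hS : IsPGroup p S) {P : Subgroup Ω}
    (hP : F.IsNormal P) :
    ∃ (n : ℕ) (Q : Fin (n + 1) → Subgroup Ω), Q 0 = ⊥ ∧ Q (Fin.last n) = Cfsg.omegaOne p P ∧ Monotone Q ∧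
      (∀ i : Fin (n + 1), F.StronglyClosed (Q i)) ∧ ∀ i : Fin n, ⁅Q i.succ, P⁆ ≤ Q i.castSucc := by
  have := finite_of_le hP.1
  have : Group.IsNilpotent P := (hS.to_le hP.1).isNilpotent
  obtain ⟨n, hn⟩ := Group.IsNilpotent.nilpotent P
  refine ⟨n, fun i => Cfsg.omegaOne p P ⊓ (Subgroup.upperCentralSeries P i).map P.subtype, ?_, ?_, ?_, ?_, ?_⟩
  · simp
  · have htop : (⊤ : Subgroup P).map P.subtype = P := by simp [← MonoidHom.range_eq_map]
    simp [hn, htop, omegaOne_le]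
  · exact fun i j hij => inf_le_inf_left _ (Subgroup.map_mono (Subgroup.upperCentralSeries_mono P hij))
  · intro i
    refine stronglyClosed_of_mapsTo ((inf_le_left.trans (omegaOne_le p P)).trans hP.1) fun R f hf hR x hx => ?_
    obtain ⟨α, -, he⟩ := exists_top_extension_of_normal hP hf
    obtain ⟨hxo, hxz⟩ := hR hx
    rw [← he x hx (omegaOne_le p P hxo)]
    exact ⟨map_omega_mem α hxo, map_upperCentral_mem α _ hxz⟩
  · intro i
    rw [Subgroup.commutator_le]
    rintro x ⟨hxo, hxz⟩ y hy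
    refine ⟨?_, ?_⟩
    · have h1 := map_omega_mem (MulAut.conj (⟨y, hy⟩ : P)) ((Cfsg.omegaOne p P).inv_mem hxo)
      rw [autFn_apply _ (P.inv_mem (omegaOne_le p P hxo))] at h1
      rw [commutatorElement_def, mul_assoc, mul_assoc, ← mul_assoc y]
      exact (Cfsg.omegaOne p P).mul_mem hxo h1
    · obtain ⟨z, hz, rfl⟩ := hxz
      exact ⟨⁅z, ⟨y, hy⟩⁆, (Subgroup.mem_upperCentralSeries_succ_iff.1 hz) ⟨y, hy⟩, rfl⟩

/-- The converse. -/
theorem normal_of_series [Finite S] {p : ℕ} [Fact p.Prime] (hS : IsPGroup p S) (hF : F.IsSaturated p)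
    (hp : p ≠ 2) {P : Subgroup Ω} (hP : F.StronglyClosed P) {n : ℕ} {Q : Fin (n + 1) → Subgroup Ω}
    (h0 : Q 0 = ⊥) (hn : Q (Fin.last n) = Cfsg.omegaOne p P) (hsc : ∀ i : Fin (n + 1), F.StronglyClosed (Q i))
    (hcomm : ∀ i : Fin n, ⁅Q i.succ, P⁆ ≤ Q i.castSucc) : F.IsNormal P := by
  refine isNormal_of_radicals hS hF hP.1 fun R hfn hc hr => ?_
  have hRS := hr.1
  suffices hPR : P ≤ R from
    ⟨hPR, fun α hα q hq => isMap_mem_of_stronglyClosed hP (isIso_autFn hRS hα).1 (hPR hq) hq⟩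
  have := finite_of_le hRS
  have hinv : ∀ T : Subgroup Ω, F.StronglyClosed T → ∀ a ∈ F.autGroup R, ∀ x : R, (x : Ω) ∈ T →
      ((a x : R) : Ω) ∈ T := by
    intro T hT a ha x hx
    rw [← autFn_apply a x.2]
    exact isMap_mem_of_stronglyClosed hT (isIso_autFn hRS ha).1 x.2 hx
  let K : Subgroup (MulAut R) :=
    { carrier := {a | a ∈ F.autGroup R ∧ (∀ x : R, ((x⁻¹ * a x : R) : Ω) ∈ P) ∧
        ∀ i : Fin n, ∀ x : R, (x : Ω) ∈ Q i.succ → ((x⁻¹ * a x : R) : Ω) ∈ Q i.castSucc}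
      one_mem' := ⟨one_mem _, fun x => by simp, fun i x _ => by simp⟩
      mul_mem' := by
        rintro a b ⟨ha, ha1, ha2⟩ ⟨hb, hb1, hb2⟩
        have key : ∀ x, x⁻¹ * (a * b) x = (x⁻¹ * b x) * ((b x)⁻¹ * a (b x)) := fun x => by
          rw [MulAut.mul_apply, mul_assoc, mul_inv_cancel_left]
        refine ⟨mul_mem ha hb, fun x => ?_, fun i x hx => ?_⟩
        · rw [key, Subgroup.coe_mul]; exact P.mul_mem (hb1 x) (ha1 (b x))
        · rw [key, Subgroup.coe_mul]
          exact (Q i.castSucc).mul_mem (hb2 i x hx) (ha2 i _ (hinv _ (hsc _) b hb x hx))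
      inv_mem' := by
        rintro a ⟨ha, ha1, ha2⟩
        have key : ∀ x, x⁻¹ * a⁻¹ x = ((a⁻¹ x)⁻¹ * a (a⁻¹ x))⁻¹ := fun x => by
          rw [MulAut.apply_inv_self, mul_inv_rev, inv_inv]
        refine ⟨Subgroup.inv_mem _ ha, fun x => ?_, fun i x hx => ?_⟩
        · rw [key, Subgroup.coe_inv]; exact P.inv_mem (ha1 _)
        · rw [key, Subgroup.coe_inv]
          exact (Q i.castSucc).inv_mem (ha2 i _ (hinv _ (hsc _) _ (Subgroup.inv_mem _ ha) x hx)) }
  have hK : K ≤ pCoreAut F p R := by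
    refine le_pCoreAut ?_ (fun a ha => ha.1) ?_
    · refine isPGroup_of_coprime_trivial (G := K) fun a ha => Subtype.ext ?_
      have hcop : (orderOf (a : MulAut R)).Coprime p := by rwa [Subgroup.orderOf_coe]
      refine eq_one_of_fixes_small_of_moves (hS.to_le hRS) _ hcop (P.subgroupOf R) a.2.2.1 fun x hx hs => ?_
      have hxo : (x : Ω) ∈ Q (Fin.last n) := by
        rw [hn]
        exact Subgroup.subset_closure ⟨hx, congrArg Subtype.val (hs.resolve_right fun h => hp h.1)⟩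
      have key : ∀ i : Fin (n + 1), ∀ y : R, (y : Ω) ∈ Q i → (a : MulAut R) y = y := by
        intro i
        induction i using Fin.induction with
        | zero =>
          intro y hy
          rw [h0, Subgroup.mem_bot] at hy
          rw [show y = 1 from Subtype.ext hy, map_one]
        | succ i ih =>
          intro y hy
          refine eq_self_of_stab (hS.to_le hRS) _ hcop ((Q i.castSucc).subgroupOf R) ih y (a.2.2.2 i y hy)
      exact key _ x hxo
    · rintro c hc a ⟨ha, ha1, ha2⟩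
      have key : ∀ x, x⁻¹ * (c * a * c⁻¹) x = c ((c⁻¹ x)⁻¹ * a (c⁻¹ x)) := fun x => by
        rw [map_mul, map_inv, MulAut.apply_inv_self, MulAut.mul_apply, MulAut.mul_apply]
      refine ⟨mul_mem (mul_mem hc ha) (Subgroup.inv_mem _ hc), fun x => ?_, fun i x hx => ?_⟩
      · rw [key]; exact hinv P hP c hc _ (ha1 _)
      · rw [key]
        exact hinv _ (hsc _) c hc _ (ha2 i _ (hinv _ (hsc _) _ (Subgroup.inv_mem _ hc) x hx))
  by_contra hnot
  obtain ⟨g, hg, hgR⟩ := SetLike.exists_of_lt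
    (lt_normalizerIn hS (sup_le hRS hP.1 : R ⊔ P ≤ S) (left_lt_sup.2 hnot))
  have hRnorm : R ≤ Subgroup.normalizer (P : Set Ω) := fun r hr' =>
    Subgroup.mem_normalizer_iff.2 fun x => ⟨fun hx => conj_mem_of_stronglyClosed hP (hRS hr') hx, fun hx => by
      have := conj_mem_of_stronglyClosed hP (S.inv_mem (hRS hr')) hx
      simpa [mul_assoc] using this⟩
  obtain ⟨r, hr', w, hw, hrw⟩ : g ∈ (R : Set Ω) * (P : Set Ω) := by
    rw [← Subgroup.coe_mul_of_left_le_normalizer_right R P hRnorm]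
    exact hg.1
  have hwR : w ∉ R := fun h => hgR (hrw ▸ R.mul_mem hr' h)
  have hwN : w ∈ normalizerIn S R := by
    rw [show w = r⁻¹ * g by rw [← hrw]; simp]
    exact mul_mem (Subgroup.inv_mem _ (le_normalizerIn hRS hr')) ⟨(sup_le hRS hP.1 : R ⊔ P ≤ S) hg.1, hg.2⟩
  have hα : normConj S R ⟨w, hwN⟩ ∈ autInducedBy S R := range_normConj S R ▸ ⟨_, rfl⟩
  refine hwR (mem_of_mem_pCoreAut hc hr (hP.1 hw) (α := normConj S R ⟨w, hwN⟩) (hK ?_) fun x => rfl)
  refine ⟨autInducedBy_le_autGroup F le_rfl hRS hα, fun x => ?_, fun i x hx => ?_⟩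
  · show (x : Ω)⁻¹ * (w * x * w⁻¹) ∈ P
    have h1 := conj_mem_of_stronglyClosed hP (S.inv_mem (hRS x.2)) hw
    rw [inv_inv] at h1
    have h2 := P.mul_mem h1 (P.inv_mem hw)
    simpa [mul_assoc] using h2
  · show (x : Ω)⁻¹ * (w * x * w⁻¹) ∈ Q i.castSucc
    have h1 := hcomm i (Subgroup.commutator_mem_commutator ((Q i.succ).inv_mem hx) hw)
    rw [commutatorElement_def, inv_inv] at h1
    simpa [mul_assoc] using h1

end

/-- Let p be an odd prime, F a saturated fusion system over a finite p-group S and P a subgroup of S strongly closed in F. Then P is normal in F if and only if Ω₁(P) (the subgroup generated by the elements of order p of P) has a chain of subgroups 1 = Q₀ ≤ Q₁ ≤ ⋯ ≤ Qₙ = Ω₁(P), each strongly closed in F, with [Qᵢ₊₁, P] ≤ Qᵢ for all i. -/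
theorem result {Ω : Type*} [Group Ω] {S : Subgroup Ω} [Finite S] (p : ℕ) [Fact p.Prime] (hS : IsPGroup p S) (F : Cfsg.FusionSystem S) (hF : F.IsSaturated p) (hp : p ≠ 2) (P : Subgroup Ω) (hP : F.StronglyClosed P) : F.IsNormal P ↔ ∃ (n : ℕ) (Q : Fin (n + 1) → Subgroup Ω), Q 0 = ⊥ ∧ Q (Fin.last n) = Cfsg.omegaOne p P ∧ Monotone Q ∧ (∀ i : Fin (n + 1), F.StronglyClosed (Q i)) ∧ ∀ i : Fin n, ⁅Q i.succ, P⁆ ≤ Q i.castSucc := by
  exact ⟨series_of_normal hS, fun ⟨_, _, h0, hn, _, hsc, hcomm⟩ => normal_of_series hS hF hp hP h0 hn hsc hcomm⟩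

end Cfsg.Agent.S5236
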