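import Cfsg.Statements.S1172
import Cfsg.Agent.Lib.ClosedPair.Product
-- import your own Cfsg.Agent.* helpers here

set_option autoImplicit false
open Cfsg

namespace Cfsg.Agent.S1172

/-- Let G be a finite group with no nontrivial normal subgroup of odd order and no proper normal subgroup of odd index, whose Sylow 2-subgroup S is not commutative and is the internal direct product of two subgroups each isomorphic to a dihedral group of order at least 4 and each strongly closed in S with respect to G (product fusion). Then G is the internal direct product of two normal subgroups G₁, G₂, and S is the internal direct product of dihedral subgroups R₁ ≤ G₁ and R₂ ≤ G₂ of odd index in G₁ and G₂ respectively (so R_i is a Sylow 2-subgroup of G_i). -/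
theorem result {G : Type*} [Group G] [Finite G] (hO : Cfsg.oddCore G = ⊥) (hO' : ∀ N : Subgroup G, N.Normal → Odd N.index → N = ⊤) (S : Sylow 2 G) (hS : ¬ IsMulCommutative (S : Subgroup G)) (S₁ S₂ : Subgroup G) (hprod : Cfsg.IsInternalDirectProduct S₁ S₂ (S : Subgroup G)) (m₁ m₂ : ℕ) (hm₁ : 2 ≤ m₁) (hm₂ : 2 ≤ m₂) (e₁ : S₁ ≃* DihedralGroup m₁) (e₂ : S₂ ≃* DihedralGroup m₂) (hcl₁ : Cfsg.IsStronglyClosed S₁ (S : Subgroup G)) (hcl₂ : Cfsg.IsStronglyClosed S₂ (S : Subgroup G)) : ∃ G₁ G₂ : Subgroup G, G₁.Normal ∧ G₂.Normal ∧ Cfsg.IsInternalDirectProduct G₁ G₂ ⊤ ∧ ∃ R₁ R₂ : Subgroup G, Cfsg.IsInternalDirectProduct R₁ R₂ (S : Subgroup G) ∧ (∃ n₁, 2 ≤ n₁ ∧ Nonempty (R₁ ≃* DihedralGroup n₁)) ∧ (∃ n₂, 2 ≤ n₂ ∧ Nonempty (R₂ ≃* DihedralGroup n₂)) ∧ R₁ ≤ G₁ ∧ R₂ ≤ G₂ ∧ Odd (R₁.relIndex G₁) ∧ Odd (R₂.relIndex G₂) := by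
  haveI : Fact (Nat.Prime 2) := ⟨Nat.prime_two⟩
  obtain ⟨h1S, h2S, hc, hd, hsup⟩ := hprod
  have hN := ClosedPair.commute_normalClosure S hcl₁ hcl₂ hc hd hO
  have hinf := ClosedPair.normalClosure_inf S hcl₁ hcl₂ hc hd hO hsup
  have hodd : ∀ (N : Subgroup G) [N.Normal], Odd ((S : Subgroup G).relIndex N) := fun N _ =>
    Nat.coprime_two_right.1 (PReduced.relIndex_coprime_of_normalized S
      (by rw [Subgroup.normalizer_eq_top]; exact le_top))
  set G₁ := Subgroup.normalClosure (S₁ : Set G) with hG₁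
  set G₂ := Subgroup.normalClosure (S₂ : Set G) with hG₂
  have htop : G₁ ⊔ G₂ = ⊤ := by
    have hle : (S : Subgroup G) ≤ G₁ ⊔ G₂ :=
      hsup ▸ sup_le_sup Subgroup.subset_normalClosure Subgroup.subset_normalClosure
    refine hO' _ inferInstance (Odd.of_dvd_nat ?_ (Subgroup.index_dvd_of_le hle))
    exact Nat.odd_iff.2 (Nat.two_dvd_ne_zero.1 S.not_dvd_index)
  refine ⟨G₁, G₂, Subgroup.normalClosure_normal, Subgroup.normalClosure_normal,
    ⟨le_top, le_top, fun a ha b hb => (Subgroup.mem_centralizer_iff.1 (hN ha) b hb).symm, hinf, htop⟩,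
    S₁, S₂, ⟨h1S, h2S, hc, hd, hsup⟩, ⟨m₁, hm₁, ⟨e₁⟩⟩, ⟨m₂, hm₂, ⟨e₂⟩⟩,
    Subgroup.subset_normalClosure, Subgroup.subset_normalClosure, ?_, ?_⟩
  · have h := hodd G₁
    rw [← Subgroup.inf_relIndex_right,
      ClosedPair.sylow_inf_normalClosure S hcl₁ hcl₂ hc hd hO hsup] at h
    exact h
  · have h := hodd G₂
    rw [← Subgroup.inf_relIndex_right,
      ClosedPair.sylow_inf_normalClosure S hcl₂ hcl₁ (fun b hb a ha => (hc a ha b hb).symm)
        (inf_comm S₂ S₁ ▸ hd) hO (sup_comm S₂ S₁ ▸ hsup)] at h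
    exact h

end Cfsg.Agent.S1172
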