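import Cfsg.Statements.S3113
import Cfsg.Agent.Lib.DihedralPair.Main
import Cfsg.Agent.S1172

set_option autoImplicit false
open Cfsg

namespace Cfsg.Agent.S3113

/-- Let G be a finite group with no nontrivial normal subgroup of odd order, no proper normal subgroup of odd index and no normal subgroup of index 2, whose Sylow 2-subgroup S is non-abelian and is the internal direct product of two dihedral subgroups (each of order at least 4). Then G is the internal direct product of two normal subgroups G₁ and G₂, and for a suitable such factorization of S into dihedral subgroups S₁ × S₂ the factor Sᵢ is a Sylow 2-subgroup of Gᵢ for i = 1, 2. -/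
theorem result {G : Type*} [Group G] [Finite G] (hO : Cfsg.oddCore G = ⊥) (hidx : ∀ N : Subgroup G, N.Normal → Odd N.index → N = ⊤)
    (h2 : ∀ N : Subgroup G, N.Normal → N.index ≠ 2)
    (S : Sylow 2 G) (hS : ¬ IsMulCommutative ↥(S : Subgroup G))
    (D₁ D₂ : Subgroup G) (hD : Cfsg.IsInternalDirectProduct D₁ D₂ (S : Subgroup G))
    (hD₁ : ∃ m : ℕ, 2 ≤ m ∧ Nonempty (↥D₁ ≃* DihedralGroup m)) (hD₂ : ∃ m : ℕ, 2 ≤ m ∧ Nonempty (↥D₂ ≃* DihedralGroup m)) :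
    ∃ G₁ G₂ : Subgroup G, G₁.Normal ∧ G₂.Normal ∧ Cfsg.IsInternalDirectProduct G₁ G₂ ⊤ ∧
      ∃ S₁ S₂ : Subgroup G, Cfsg.IsInternalDirectProduct S₁ S₂ (S : Subgroup G) ∧
        (∃ m : ℕ, 2 ≤ m ∧ Nonempty (↥S₁ ≃* DihedralGroup m)) ∧ (∃ m : ℕ, 2 ≤ m ∧ Nonempty (↥S₂ ≃* DihedralGroup m)) ∧
        S₁ ≤ G₁ ∧ S₂ ≤ G₂ ∧ ¬ (2 ∣ (S₁.subgroupOf G₁).index) ∧ ¬ (2 ∣ (S₂.subgroupOf G₂).index) := by
  haveI : Fact (Nat.Prime 2) := ⟨Nat.prime_two⟩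
  obtain ⟨m₁, hm₁, ⟨e₁⟩⟩ := hD₁
  obtain ⟨m₂, hm₂, ⟨e₂⟩⟩ := hD₂
  obtain ⟨a, rfl⟩ := DihedralPair.exists_pow S hD.1 hm₁ e₁
  obtain ⟨b, rfl⟩ := DihedralPair.exists_pow S hD.2.1 hm₂ e₂
  obtain ⟨ι, hι⟩ := DihedralPair.exists_setting S hD e₁ e₂
  have h2' : ∀ H : Subgroup G, H.index ≠ 2 := fun H h => h2 H (Subgroup.normal_of_index_eq_two h) h
  obtain ⟨a', b', R₁, R₂, hR, ⟨f₁⟩, ⟨f₂⟩, hc₁, hc₂⟩ : ∃ (a' b' : ℕ) (R₁ R₂ : Subgroup G),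
      IsInternalDirectProduct R₁ R₂ (S : Subgroup G) ∧
      Nonempty (R₁ ≃* DihedralGroup (2 ^ (a' + 1))) ∧ Nonempty (R₂ ≃* DihedralGroup (2 ^ (b' + 1))) ∧
      IsStronglyClosed R₁ (S : Subgroup G) ∧ IsStronglyClosed R₂ (S : Subgroup G) := by
    rcases DihedralPair.pos_of_noncomm hι hS with ha | hb
    · exact ⟨a, b, DihedralPair.exists_closed_factors hι ha h2'⟩
    · exact ⟨b, a, DihedralPair.exists_closed_factors hι.swap hb h2'⟩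
  have hp : ∀ k : ℕ, 2 ≤ 2 ^ (k + 1) := fun k => Nat.le_self_pow (by omega) 2
  obtain ⟨G₁, G₂, hn₁, hn₂, hG, S₁, S₂, hS₁₂, hd₁, hd₂, hle₁, hle₂, ho₁, ho₂⟩ :=
    S1172.result hO hidx S hS R₁ R₂ hR _ _ (hp a') (hp b') f₁ f₂ hc₁ hc₂
  exact ⟨G₁, G₂, hn₁, hn₂, hG, S₁, S₂, hS₁₂, hd₁, hd₂, hle₁, hle₂,
    ho₁.not_two_dvd_nat, ho₂.not_two_dvd_nat⟩

end Cfsg.Agent.S3113
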