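import Cfsg.Statements.S2437
import Cfsg.Agent.EqLemmas

set_option autoImplicit false
open Cfsg

namespace Cfsg.Agent.S2437

open Finset

/-- Class number from centraliser sizes. -/
theorem card_classes_eq {G : Type*} [Group G] [Finite G] {X : Type*} [Fintype X] [DecidableEq X] (e : G ≃ X) (k : ℕ)
    (h : ∑ u : X, Nat.card {v : X // e.symm u * e.symm v = e.symm v * e.symm u} = k * Fintype.card X) :
    Nat.card (ConjClasses G) = k := by
  have := card_comm_eq_card_conjClasses_mul_card G
  rw [Nat.card_congr ((e.prodCongr e).subtypeEquiv (q := fun p : X × X => e.symm p.1 * e.symm p.2 = e.symm p.2 * e.symm p.1)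
      (fun p => by simp [Commute, SemiconjBy])),
    Nat.card_congr (Equiv.subtypeProdEquivSigmaSubtype (fun u v => e.symm u * e.symm v = e.symm v * e.symm u)),
    Nat.card_sigma, h, Nat.card_congr e, Nat.card_eq_fintype_card (α := X)] at this
  exact (Nat.eq_of_mul_eq_mul_right (Fintype.card_pos_iff.2 ⟨e 1⟩) this).symm

variable {F : Type*} [Field F] [Fintype F]

/-- The units squaring to one. -/
theorem card_sq_eq (hodd : Odd (Fintype.card F)) (a : Fˣ) : Nat.card {b : Fˣ // b ^ 2 = a ^ 2} = 2 := by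
  have hc : ringChar F ≠ 2 := fun h => by
    have := (FiniteField.even_card_iff_char_two (F := F)).1 h
    rw [Nat.odd_iff] at hodd
    omega
  have hne : (a : F) ≠ -(a : F) := fun h => by
    have : (2 : F) * a = 0 := by linear_combination h
    exact mul_ne_zero (Ring.two_ne_zero hc) a.ne_zero this
  rw [Nat.card_eq_two_iff]
  refine ⟨⟨a, rfl⟩, ⟨-a, neg_sq a⟩, fun h => hne (congrArg (fun x : {b : Fˣ // b ^ 2 = a ^ 2} => (x.1 : F)) h), ?_⟩
  refine Set.eq_univ_of_forall fun x => ?_
  have : ((x.1 : F)) ^ 2 = (a : F) ^ 2 := by rw [← Units.val_pow_eq_pow_val, x.2, Units.val_pow_eq_pow_val]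
  rcases sq_eq_sq_iff_eq_or_eq_neg.1 this with h | h
  · exact Or.inl (Subtype.ext (Units.ext h))
  · exact Or.inr (Subtype.ext (Units.ext (by simpa using h)))

/-- The Borel subgroup of `SL_2` as `Fˣ × F`. -/
def borelEquiv : ((Cfsg.upperTriangularGL 2 F).comap Matrix.SpecialLinearGroup.toGL :
    Subgroup (Matrix.SpecialLinearGroup (Fin 2) F)) ≃ Fˣ × F where
  toFun g := (Units.mkOfMulEqOne ((g.1 : Matrix (Fin 2) (Fin 2) F) 0 0) ((g.1 : Matrix (Fin 2) (Fin 2) F) 1 1) (by
      have h10 : (g.1 : Matrix (Fin 2) (Fin 2) F) 1 0 = 0 := g.2 (show (0 : Fin 2) < 1 from Nat.zero_lt_one)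
      have h := g.1.2
      rw [Matrix.det_fin_two, h10, mul_zero, sub_zero] at h
      exact h),
    (g.1 : Matrix (Fin 2) (Fin 2) F) 0 1)
  invFun p := ⟨⟨!![(p.1 : F), p.2; 0, ((p.1⁻¹ : Fˣ) : F)], by simp [Matrix.det_fin_two]⟩, by
    intro i j hij
    fin_cases i <;> fin_cases j <;> first | rfl | simp at hij⟩
  left_inv g := by
    apply Subtype.ext; apply Subtype.ext
    have h10 : (g.1 : Matrix (Fin 2) (Fin 2) F) 1 0 = 0 := g.2 (show (0 : Fin 2) < 1 from Nat.zero_lt_one)
    ext i j
    fin_cases i <;> fin_cases j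
    · rfl
    · rfl
    · exact h10.symm
    · rfl
  right_inv p := by
    refine Prod.ext (Units.ext rfl) rfl

theorem coe_borelEquiv_symm (p : Fˣ × F) :
    ((borelEquiv.symm p).1 : Matrix (Fin 2) (Fin 2) F) = !![(p.1 : F), p.2; 0, ((p.1⁻¹ : Fˣ) : F)] := rfl

theorem borel_comm_iff (p r : Fˣ × F) :
    borelEquiv.symm p * borelEquiv.symm r = borelEquiv.symm r * borelEquiv.symm p ↔
      (p.1 : F) * r.2 + p.2 * (r.1 : F)⁻¹ = (r.1 : F) * p.2 + r.2 * (p.1 : F)⁻¹ := by
  rw [Subtype.ext_iff, Subgroup.coe_mul, Subgroup.coe_mul, Matrix.SpecialLinearGroup.ext_iff]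
  simp only [Matrix.SpecialLinearGroup.coe_mul, coe_borelEquiv_symm]
  constructor
  · intro h
    have := h 0 1
    simpa [Matrix.mul_apply, Fin.sum_univ_two] using this
  · intro h i j
    fin_cases i <;> fin_cases j <;> simp [Matrix.mul_apply, Fin.sum_univ_two, mul_comm] <;>
      first | linear_combination h | ring1

theorem sq_ne_iff (a : Fˣ) : a ^ 2 = 1 ↔ (a : F) = (a : F)⁻¹ := by
  constructor
  · intro h
    apply eq_inv_of_mul_eq_one_left
    rw [← sq, ← Units.val_pow_eq_pow_val, h, Units.val_one]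
  · intro h
    apply Units.ext
    rw [Units.val_pow_eq_pow_val, sq, Units.val_one]
    nth_rw 2 [h]
    exact mul_inv_cancel₀ a.ne_zero

/-- Over a finite field F with q elements, q odd, the upper triangular subgroup of SL₂ (a Borel subgroup, of order q(q − 1)) has exactly q + 3 conjugacy classes. -/
theorem result {F : Type*} [Field F] [Fintype F] (hodd : Odd (Fintype.card F)) :
    Nat.card (ConjClasses ((Cfsg.upperTriangularGL 2 F).comap Matrix.SpecialLinearGroup.toGL)) = Fintype.card F + 3 := by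
  classical
  have hq : 3 ≤ Fintype.card F := by
    have := Fintype.one_lt_card (α := F)
    rw [Nat.odd_iff] at hodd
    omega
  set q := Fintype.card F with hqd
  refine card_classes_eq borelEquiv _ ?_
  have hu : Fintype.card Fˣ = q - 1 := Fintype.card_units F
  have hone : Nat.card {b : Fˣ // b ^ 2 = 1} = 2 := by
    simpa using card_sq_eq hodd (1 : Fˣ)
  have hrow : ∀ p : Fˣ × F, Nat.card {r : Fˣ × F // borelEquiv.symm p * borelEquiv.symm r = borelEquiv.symm r * borelEquiv.symm p} =
      if p.1 ^ 2 = 1 then (if p.2 = 0 then q * (q - 1) else 2 * q) else q - 1 := by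
    rintro ⟨a, x⟩
    rw [Nat.card_congr (Equiv.subtypeEquivRight fun r => borel_comm_iff (a, x) r)]
    split_ifs with ha hx
    · rw [Nat.card_congr (Equiv.subtypeUnivEquiv (fun r => ?_)), Nat.card_eq_fintype_card, Fintype.card_prod, hu,
        mul_comm]
      have := (sq_ne_iff a).1 ha
      simp only at hx ⊢
      subst hx
      linear_combination (r.2 : F) * this
    · have := (sq_ne_iff a).1 ha
      simp only at hx ⊢
      rw [Nat.card_congr (show {r : Fˣ × F // (a : F) * r.2 + x * (r.1 : F)⁻¹ = (r.1 : F) * x + r.2 * (a : F)⁻¹} ≃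
          {b : Fˣ // b ^ 2 = 1} × F from
        { toFun := fun r => (⟨r.1.1, (sq_ne_iff _).2 (mul_left_cancel₀ hx (by linear_combination -r.2 + r.1.2 * this))⟩, r.1.2)
          invFun := fun r => ⟨(r.1.1, r.2), by
            have h1 := (sq_ne_iff _).1 r.1.2
            linear_combination r.2 * this - x * h1⟩
          left_inv := fun _ => rfl
          right_inv := fun _ => rfl }), Nat.card_prod, hone, Nat.card_eq_fintype_card, ← hqd]
    · have hne : (a : F) - (a : F)⁻¹ ≠ 0 := sub_ne_zero.2 fun h => ha ((sq_ne_iff a).2 h)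
      simp only
      rw [Nat.card_congr (show {r : Fˣ × F // (a : F) * r.2 + x * (r.1 : F)⁻¹ = (r.1 : F) * x + r.2 * (a : F)⁻¹} ≃ Fˣ from
        { toFun := fun r => r.1.1
          invFun := fun b => ⟨(b, x * ((b : F) - (b : F)⁻¹) / ((a : F) - (a : F)⁻¹)), by
            have : x * ((b : F) - (b : F)⁻¹) / ((a : F) - (a : F)⁻¹) * ((a : F) - (a : F)⁻¹) =
              x * ((b : F) - (b : F)⁻¹) := div_mul_cancel₀ _ hne
            linear_combination this⟩
          left_inv := fun r => Subtype.ext (Prod.ext rfl (by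
            rw [div_eq_iff hne]
            linear_combination -r.2))
          right_inv := fun _ => rfl }), Nat.card_eq_fintype_card, hu]
  rw [Finset.sum_congr rfl (fun p _ => hrow p), Fintype.sum_prod_type, Fintype.card_prod, hu, ← hqd]
  have hin : ∀ a : Fˣ, (∑ x : F, if a ^ 2 = 1 then (if x = 0 then q * (q - 1) else 2 * q) else q - 1) =
      if a ^ 2 = 1 then q * (q - 1) + (q - 1) * (2 * q) else q * (q - 1) := by
    intro a
    split_ifs with ha
    · rw [← Finset.add_sum_erase Finset.univ _ (Finset.mem_univ (0 : F)), if_pos rfl,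
        Finset.sum_congr rfl (fun x hx => if_neg (Finset.ne_of_mem_erase hx)), Finset.sum_const,
        Finset.card_erase_of_mem (Finset.mem_univ _), Finset.card_univ, ← hqd, smul_eq_mul]
    · rw [Finset.sum_const, Finset.card_univ, ← hqd, smul_eq_mul]
  rw [Finset.sum_congr rfl (fun a _ => hin a), Finset.sum_ite, Finset.sum_const, Finset.sum_const, smul_eq_mul,
    smul_eq_mul]
  have hc : (Finset.univ.filter fun a : Fˣ => a ^ 2 = 1).card = 2 := by
    exact ((Fintype.card_subtype _).symm.trans Nat.card_eq_fintype_card.symm).trans hone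
  have hc' := Finset.card_filter_add_card_filter_not (s := (Finset.univ : Finset Fˣ)) (fun a : Fˣ => a ^ 2 = 1)
  rw [hc, Finset.card_univ, hu] at hc'
  obtain ⟨t, ht⟩ : ∃ t, q = t + 3 := ⟨q - 3, by omega⟩
  rw [hc, show (Finset.univ.filter fun a : Fˣ => ¬ a ^ 2 = 1).card = t by omega]
  rw [ht, show t + 3 - 1 = t + 2 by omega]
  ring

end Cfsg.Agent.S2437
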