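import Cfsg.Statements.S1443
import Cfsg.Agent.Lib.Coprime.PQ

set_option autoImplicit false
open Cfsg

namespace Cfsg.Agent.S1443

/-- Let G be a finite group, p an odd prime, H a p-subgroup, E an elementary abelian subgroup of H, and A a subgroup of order coprime to p normalizing H. If A centralizes every element of order p in H ∩ C_G(E), then A centralizes H. -/
theorem result {G : Type*} [Group G] [Finite G] (p : ℕ) [Fact p.Prime] (hp : p ≠ 2) (H E A : Subgroup G) (hH : IsPGroup p H) (hE : E ≤ H) (hEe : Cfsg.IsElementaryAbelian p E)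
    (hA : (A ≤ Subgroup.normalizer (H : Set G))) (hcop : (Nat.card A).Coprime p)
    (hfix : ∀ x ∈ (H ⊓ Subgroup.centralizer (E : Set G)), orderOf x = p → A ≤ Subgroup.centralizer ({x} : Set G)) :
    A ≤ Subgroup.centralizer (H : Set G) := by
  have hEabel : E ≤ Subgroup.centralizer (E : Set G) := by
    have h := hEe.1
    exact Subgroup.le_centralizer_iff_isMulCommutative.2 h
  have hEA : E ≤ Subgroup.centralizer (A : Set G) := by
    intro e he
    rcases eq_or_ne e 1 with rfl | hne
    · exact Subgroup.one_mem _
    have ho : orderOf e = p := by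
      refine orderOf_eq_prime ?_ hne
      exact hEe.2 e he
    exact fun a ha => (hfix e ⟨hE he, hEabel he⟩ ho ha e rfl).symm
  refine Coprime.thompson_pq p (hH.to_le hE) hcop hH hEA (hE.trans Subgroup.le_normalizer) hA ?_
  set D : Subgroup G := H ⊓ Subgroup.centralizer (E : Set G)
  have hAE : A ≤ Subgroup.centralizer (E : Set G) := Subgroup.le_centralizer_iff.1 hEA
  have hAD : A ≤ Subgroup.normalizer (D : Set G) := fun a ha => by
    refine Coprime.mem_normalizer_of_forall fun x hx => ⟨?_, ?_⟩
    · exact (Subgroup.mem_normalizer_iff.1 (hA ha) x).1 hx.1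
    · exact Subgroup.mul_mem _ (Subgroup.mul_mem _ (hAE ha) hx.2) (Subgroup.inv_mem _ (hAE ha))
  refine Subgroup.le_centralizer_iff.1 (Coprime.le_centralizer_of_fixing_order_p p hp
    (hH.to_le inf_le_left) hAD hcop fun x hx ho a ha => ?_)
  exact (hfix x hx ho ha x rfl).symm

end Cfsg.Agent.S1443
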