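import Cfsg.Statements.S4112
import Cfsg.Agent.EqLemmas
import Cfsg.Agent.Lib.PGroup.Basic

set_option autoImplicit false
open Cfsg

namespace Cfsg.Agent.S4112

section
variable {G : Type*} [Group G] [Finite G] (N : Subgroup G) [N.Normal]

/-- A minimal supplement to `N` has order divisible only by primes of `|G : N|`. -/
theorem dvd_index_of_minimal_supplement (H : Subgroup G) (hH : H ⊔ N = ⊤)
    (hmin : ∀ K : Subgroup G, K ≤ H → K ⊔ N = ⊤ → K = H) (p : ℕ) (hp : p.Prime) (hpH : p ∣ Nat.card H) :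
    p ∣ N.index := by
  by_contra hnd
  haveI := Fact.mk hp
  obtain ⟨P⟩ : Nonempty (Sylow p H) := inferInstance
  -- the image of a p-element in G ⧸ N is trivial
  have hPN : (P : Subgroup H) ≤ N.subgroupOf H := by
    intro x hx
    obtain ⟨k, hk⟩ := P.2 ⟨x, hx⟩
    have hk' : ((x : G)) ^ p ^ k = 1 := congrArg (fun z : (P : Subgroup H) => ((z : H) : G)) hk
    rw [Subgroup.mem_subgroupOf, ← QuotientGroup.eq_one_iff, ← orderOf_eq_one_iff]
    have h1 : orderOf ((x : G) : G ⧸ N) ∣ p ^ k := by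
      apply orderOf_dvd_of_pow_eq_one
      rw [← QuotientGroup.mk_pow, hk']; rfl
    have h2 : orderOf ((x : G) : G ⧸ N) ∣ N.index := by
      rw [Subgroup.index_eq_card]; exact orderOf_dvd_natCard _
    have h3 : (p ^ k).Coprime N.index := Nat.Coprime.pow_left k ((Nat.Prime.coprime_iff_not_dvd hp).mpr hnd)
    exact Nat.dvd_one.mp (h3 ▸ Nat.dvd_gcd h1 h2)
  -- Frattini
  have hfr := Sylow.normalizer_sup_eq_top (P.subtype hPN)
  rw [Sylow.coe_subtype, Subgroup.subgroupOf_map_subtype, inf_eq_left.mpr hPN] at hfr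
  have hsup : ∀ K : Subgroup H, K ⊔ N.subgroupOf H = ⊤ → K = ⊤ := by
    intro K hK
    have h1 : K.map H.subtype ⊔ (N.subgroupOf H).map H.subtype = H := by
      rw [← Subgroup.map_sup, hK, ← MonoidHom.range_eq_map, Subgroup.range_subtype]
    have h2 : K.map H.subtype ⊔ N = ⊤ := by
      rw [eq_top_iff, ← hH]
      refine sup_le ?_ le_sup_right
      refine le_trans h1.ge (sup_le le_sup_left ?_)
      rw [Subgroup.subgroupOf_map_subtype]
      exact le_trans inf_le_left le_sup_right
    have h3 := hmin _ (Subgroup.map_subtype_le K) h2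
    rw [eq_top_iff]
    intro x _
    have : (x : G) ∈ K.map H.subtype := by rw [h3]; exact x.2
    obtain ⟨y, hy, hxy⟩ := this
    rwa [Subtype.ext hxy] at hy
  haveI hPn : (P : Subgroup H).Normal := Subgroup.normalizer_eq_top_iff.mp (hsup _ hfr)
  obtain ⟨K, hK⟩ := Subgroup.exists_right_complement'_of_coprime (N := (P : Subgroup H))
    (P.card_coprime_index)
  have hKtop : K = ⊤ := hsup _ (top_le_iff.mp (hK.sup_eq_top.ge.trans (sup_le (hPN.trans le_sup_right) le_sup_left)))
  rw [hKtop, Subgroup.isComplement'_top_right] at hK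
  exact P.ne_bot_of_dvd_card hpH hK

end

/-- Let G be a finite group and M ≤ N non-trivial proper normal subgroups such that for every g outside N the conjugacy class of g is a union of cosets of M (equivalently gm is conjugate to g for every m ∈ M). Then (1) and (2) below are equivalent, and they imply (3): (1) every g outside N acts fixed-point-freely on M, that is C_G(x) ≤ N for every x ∈ M, x ≠ 1; (2) the index of N in G is coprime to the order of M; (3) there is a subgroup H of G with HN = G and H ∩ M = 1. -/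
theorem result {G : Type*} [Group G] [Finite G] (N M : Subgroup G) [N.Normal] [M.Normal] (hMN : M ≤ N) (hM1 : M ≠ ⊥) (hN2 : N ≠ ⊤)
    (hcam : ∀ g : G, g ∉ N → ∀ m ∈ M, ∃ x : G, x * g * x⁻¹ = g * m) :
    ((∀ x ∈ M, x ≠ 1 → Subgroup.centralizer ({x} : Set G) ≤ N) ↔ N.index.Coprime (Nat.card M)) ∧
    ((∀ x ∈ M, x ≠ 1 → Subgroup.centralizer ({x} : Set G) ≤ N) → ∃ H : Subgroup G, H ⊔ N = ⊤ ∧ H ⊓ M = ⊥) := by
  classical
  -- an element outside N, of prime power order for a prime dividing the index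
  have hforward : (∀ x ∈ M, x ≠ 1 → Subgroup.centralizer ({x} : Set G) ≤ N) → N.index.Coprime (Nat.card M) := by
    intro hfp
    rw [Nat.coprime_iff_gcd_eq_one]
    by_contra hne
    obtain ⟨p, hp, hd⟩ := Nat.exists_prime_and_dvd hne
    haveI := Fact.mk hp
    obtain ⟨Q⟩ : Nonempty (Sylow p M) := inferInstance
    obtain ⟨P, hQP⟩ := (Q.2.map M.subtype).exists_le_sylow
    have hQne : (Q : Subgroup M) ≠ ⊥ := Q.ne_bot_of_dvd_card (hd.trans (Nat.gcd_dvd_right _ _))
    have hMPne : Nontrivial (M.subgroupOf (P : Subgroup G)) := by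
      rw [Subgroup.nontrivial_iff_ne_bot]
      intro h
      apply hQne
      rw [eq_bot_iff]
      intro x hx
      have h1 : (x : G) ∈ (P : Subgroup G) := hQP ⟨x, hx, rfl⟩
      have h2 : (⟨(x : G), h1⟩ : (P : Subgroup G)) ∈ M.subgroupOf (P : Subgroup G) := x.2
      rw [h] at h2
      exact Subtype.ext (congrArg (fun z : (P : Subgroup G) => (z : G)) h2 : (x : G) = 1)
    -- a normal subgroup of a p-group meets the centre
    obtain ⟨z, hz, hz1⟩ : ∃ z ∈ M.subgroupOf (P : Subgroup G) ⊓ Subgroup.center (P : Subgroup G), z ≠ 1 := by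
      rw [← not_forall_not]
      intro h
      have hbot : M.subgroupOf (P : Subgroup G) ⊓ Subgroup.center (P : Subgroup G) = ⊥ := by
        rw [eq_bot_iff]; intro z hz
        by_contra hzne
        exact h z ⟨hz, hzne⟩
      exact Cfsg.Agent.PGroup.inf_center_ne_bot P.2 ((Subgroup.nontrivial_iff_ne_bot _).mp hMPne) hbot
    have hle : (P : Subgroup G) ≤ N := by
      intro y hy
      refine hfp (z : G) hz.1 (fun h => hz1 (Subtype.ext h)) ?_
      rw [Subgroup.mem_centralizer_singleton_iff]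
      exact congrArg Subtype.val (Subgroup.mem_center_iff.mp hz.2 ⟨y, hy⟩)
    exact P.not_dvd_index ((hd.trans (Nat.gcd_dvd_left _ _)).trans (Subgroup.index_dvd_of_le hle))
  refine ⟨⟨hforward, fun hcop x hx hx1 y hy => ?_⟩, fun hfp => ?_⟩
  · by_contra hyN
    rw [Subgroup.mem_centralizer_singleton_iff] at hy
    -- replace y by an element of order prime to |M|
    -- y ^ (|G|-part prime to N.index)
    obtain ⟨g, hg, m, hm⟩ : ∃ g : G, g ∉ N ∧ ∃ m : ℕ, g = y ^ m ∧ (orderOf g).Coprime (Nat.card M) := by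
      have hne : orderOf (y : G ⧸ N) ≠ 1 := by
        rw [Ne, orderOf_eq_one_iff, QuotientGroup.eq_one_iff]; exact hyN
      obtain ⟨r, hr, hrd⟩ := Nat.exists_prime_and_dvd hne
      have hry : r ∣ orderOf y := hrd.trans (orderOf_map_dvd (QuotientGroup.mk' N) y)
      have hrM : r.Coprime (Nat.card M) := by
        refine Nat.Coprime.coprime_dvd_left ?_ hcop
        rw [Subgroup.index_eq_card]; exact hrd.trans (orderOf_dvd_natCard _)
      obtain ⟨e, c, hc, heq⟩ := Nat.exists_eq_pow_mul_and_not_dvd (orderOf_pos y).ne' r hr.ne_one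
      refine ⟨y ^ c, fun h => ?_, c, rfl, ?_⟩
      · have h1 : (y : G ⧸ N) ^ c = 1 := by rw [← QuotientGroup.mk_pow]; exact (QuotientGroup.eq_one_iff _).mpr h
        exact hc (hrd.trans (orderOf_dvd_of_pow_eq_one h1))
      · refine Nat.Coprime.coprime_dvd_left (orderOf_dvd_of_pow_eq_one ?_) (Nat.Coprime.pow_left e hrM)
        rw [← pow_mul, mul_comm, ← heq, pow_orderOf_eq_one]
    obtain ⟨hm, hgM⟩ := hm
    obtain ⟨w, hw⟩ := hcam g hg x hx
    have hcomm : Commute g x := by rw [hm]; exact Commute.pow_left hy m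
    have h1 : orderOf (g * x) = orderOf g := by
      rw [← hw]; exact MulEquiv.orderOf_eq (MulAut.conj w) g
    rw [hcomm.orderOf_mul_eq_mul_orderOf_of_coprime (hgM.coprime_dvd_right (by
      rw [← Subgroup.orderOf_mk x hx]; exact orderOf_dvd_natCard _))] at h1
    have : orderOf x = 1 := (mul_eq_left₀ (orderOf_pos g).ne').mp h1
    exact hx1 (orderOf_eq_one_iff.mp this)
  · obtain ⟨H, hH, hmin⟩ := Finite.exists_le_minimal (α := Subgroup G) (p := fun H => H ⊔ N = ⊤) (a := ⊤) (top_sup_eq N)
    refine ⟨H, hmin.1, ?_⟩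
    rw [eq_bot_iff]
    intro z hz
    have h1 : orderOf z ∣ Nat.card H := by rw [← Subgroup.orderOf_mk z hz.1]; exact orderOf_dvd_natCard _
    have h2 : orderOf z ∣ Nat.card M := by rw [← Subgroup.orderOf_mk z hz.2]; exact orderOf_dvd_natCard _
    refine orderOf_eq_one_iff.mp ?_
    by_contra hne
    obtain ⟨p, hp, hd⟩ := Nat.exists_prime_and_dvd hne
    have h3 := dvd_index_of_minimal_supplement N H hmin.1
      (fun K hK hK' => le_antisymm hK (hmin.2 hK' hK)) p hp (hd.trans h1)
    exact hp.not_dvd_one ((hforward hfp) ▸ Nat.dvd_gcd h3 (hd.trans h2))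

end Cfsg.Agent.S4112
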