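import Cfsg.Statements.S4449
import Cfsg.Agent.Lib.GlauberChar.Solvable
import Cfsg.Agent.Lib.GlauberChar.Ambient

set_option autoImplicit false
open Cfsg

namespace Cfsg.Agent.S4449

/-- Inside a finite group Γ let the solvable subgroup S normalise G with the orders of G and S coprime, and let N be a normal subgroup of G normalised by S. Then for every S-invariant irreducible character ϑ of N, the induced character ϑ^G has an S-invariant irreducible constituent. -/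
theorem result {Γ : Type*} [Group Γ] [Fintype Γ] (G S N : Subgroup Γ) [Fintype G] [Fintype N] (hnorm : ∀ s ∈ S, ∀ g ∈ G, s * g * s⁻¹ ∈ G) (hNG : N ≤ G) (hNnormal : ∀ g ∈ G, ∀ n ∈ N, g * n * g⁻¹ ∈ N) (hNS : ∀ s ∈ S, ∀ n ∈ N, s * n * s⁻¹ ∈ N) (hcop : (Nat.card G).Coprime (Nat.card S)) (hsolv : Group.IsSolvable S) (θ : Cfsg.IrrCharacter N) (hinv : (∀ s ∈ S, ∀ g g' : N, (g' : Γ) = s * g * s⁻¹ → (θ : N → ℂ) g' = (θ : N → ℂ) g)) : ∃ χ : Cfsg.IrrCharacter G, Cfsg.classInner (fun n : N => (χ : G → ℂ) ⟨n, hNG n.2⟩) (θ : N → ℂ) ≠ 0 ∧ (∀ s ∈ S, ∀ g g' : G, (g' : Γ) = s * g * s⁻¹ → (χ : G → ℂ) g' = (χ : G → ℂ) g) := by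
  classical
  obtain ⟨φ, hφ⟩ : ∃ φ, φ = GlauberChar.actHom G S hnorm := ⟨_, rfl⟩
  haveI : Group.IsSolvable φ.range := solvable_of_surjective φ.rangeRestrict_surjective
  haveI : (N.subgroupOf G).Normal := ⟨fun n hn g => by
    rw [Subgroup.mem_subgroupOf] at hn ⊢
    push_cast
    exact hNnormal g g.2 n hn⟩
  have hN : ∀ (r : φ.range), ∀ n ∈ N.subgroupOf G, (r : MulAut G) n ∈ N.subgroupOf G := by
    rintro ⟨_, s, rfl⟩ n hn
    rw [Subgroup.mem_subgroupOf] at hn ⊢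
    rw [hφ]
    exact hNS s s.2 n hn
  let e : N.subgroupOf G ≃* N := Subgroup.subgroupOfEquivOfLe hNG
  have he : ∀ m : N.subgroupOf G, ((e m : N) : Γ) = ((m : G) : Γ) := fun m => rfl
  have hθ' : IsIrrCharacter (N.subgroupOf G) (fun m => (θ : N → ℂ) (e m)) :=
    Char.IsIrrCharacter.comp_equiv θ.2 e
  obtain ⟨χ, hne, hfix⟩ := GlauberChar.exists_fixed_over_aux (Nat.card φ.range) G φ.range
    (N.subgroupOf G) inferInstance (hcop.coprime_dvd_right (Subgroup.card_range_dvd φ)) le_rfl hN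
    ⟨_, hθ'⟩ (by
      rintro ⟨_, s, rfl⟩ n
      show (θ : N → ℂ) (e _) = (θ : N → ℂ) (e n)
      refine hinv s s.2 (e n) _ ?_
      rw [he, he]
      show ((φ s (n : G) : G) : Γ) = (s : Γ) * ((n : G) : Γ) * (s : Γ)⁻¹
      rw [hφ]; rfl)
  refine ⟨χ, fun h0 => hne ?_, ?_⟩
  · rw [← h0]
    exact Char.classInner_comp_equiv e (fun n : N => (χ : G → ℂ) ⟨n, hNG n.2⟩) (θ : N → ℂ)
  · rw [← GlauberChar.isFixed_iff G S hnorm]
    intro s g
    have h := hfix ⟨_, s, rfl⟩ g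
    rw [Subgroup.coe_subtype] at h
    subst hφ
    exact h

end Cfsg.Agent.S4449
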