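import Cfsg.Statements.S0820
import Cfsg.Agent.EqLemmas

set_option autoImplicit false
open Cfsg

namespace Cfsg.Agent.S0820

open Matrix in
theorem exists_conj_std {F : Type*} [Field F] [Fintype F] (hF : Fintype.card F = 4)
    (x : Matrix.ProjectiveSpecialLinearGroup (Fin 3) F) (hx : orderOf x = 2) :
    ∃ A : Matrix.SpecialLinearGroup (Fin 3) F, ∃ h : Matrix.SpecialLinearGroup (Fin 3) F,
      ((h : Matrix.SpecialLinearGroup (Fin 3) F) : Matrix.ProjectiveSpecialLinearGroup (Fin 3) F) = x ∧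
      (h : Matrix (Fin 3) (Fin 3) F) * (A : Matrix (Fin 3) (Fin 3) F) = (A : Matrix (Fin 3) (Fin 3) F) * (1 + Matrix.single (0 : Fin 3) 2 1) := by
  haveI : CharP F 2 := by
    obtain ⟨p, hp⟩ := CharP.exists F
    obtain ⟨n, hp', hn⟩ := FiniteField.card F p
    have h4 : p ^ (n : ℕ) = 4 := hn.symm.trans hF
    have hd : p ∣ 2 ^ 2 := by rw [show (2 : ℕ) ^ 2 = 4 by norm_num, ← h4]; exact dvd_pow_self p n.pos.ne'
    rwa [← (Nat.prime_dvd_prime_iff_eq hp' Nat.prime_two).1 (hp'.dvd_of_dvd_pow hd)]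
  obtain ⟨g, rfl⟩ := QuotientGroup.mk_surjective x
  have hg2 : g * g ∈ Subgroup.center (Matrix.SpecialLinearGroup (Fin 3) F) := by
    rw [← QuotientGroup.eq_one_iff, QuotientGroup.mk_mul, ← pow_two, ← hx, pow_orderOf_eq_one]
  have hz : (g * g) * (g * g) * (g * g) = 1 := by
    obtain ⟨r, hr, hrz⟩ := Matrix.SpecialLinearGroup.mem_center_iff.1 hg2
    apply Matrix.SpecialLinearGroup.ext
    intro i j
    rw [Matrix.SpecialLinearGroup.coe_mul, Matrix.SpecialLinearGroup.coe_mul, ← hrz, ← map_mul, ← map_mul]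
    rw [Fintype.card_fin] at hr
    rw [show r * r * r = 1 by rw [← hr]; ring, map_one]
    rfl
  set h := g * (g * g) with hh
  have himg : (h : Matrix.ProjectiveSpecialLinearGroup (Fin 3) F) = g := by
    rw [hh, QuotientGroup.mk_mul, (QuotientGroup.eq_one_iff (g * g)).2 hg2, mul_one]
  have hh2 : h * h = 1 := by rw [← hz, hh]; simp [mul_assoc]
  set N : Matrix (Fin 3) (Fin 3) F := (h : Matrix (Fin 3) (Fin 3) F) - 1 with hN
  have hNN : N * N = 0 := by
    have : (h : Matrix (Fin 3) (Fin 3) F) * h = 1 := by rw [← Matrix.SpecialLinearGroup.coe_mul, hh2]; rfl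
    rw [hN, sub_mul, mul_sub, mul_sub, this, mul_one, one_mul]
    rw [mul_one, sub_eq_add_neg (1 - _) _, neg_sub]
    ext i j
    exact CharTwo.add_self_eq_zero _
  obtain ⟨v, hv⟩ : ∃ v, N *ᵥ v ≠ 0 := by
    by_contra hcon
    push Not at hcon
    have h1 : h = 1 := by
      apply Matrix.SpecialLinearGroup.ext
      intro i j
      have hij := congrFun (hcon (Pi.single j 1)) i
      rw [Matrix.mulVec_single_one] at hij
      simpa [hN, sub_eq_zero] using hij
    rw [h1, QuotientGroup.mk_one] at himg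
    rw [← himg, orderOf_one] at hx
    exact absurd hx (by norm_num)
  obtain ⟨w, hw, hwv⟩ : ∃ w, N *ᵥ w = 0 ∧ w ∉ Submodule.span F {N *ᵥ v} := by
    by_contra hcon
    push Not at hcon
    have h1 : Module.finrank F (LinearMap.ker N.mulVecLin) ≤ 1 :=
      (Submodule.finrank_mono (fun w hw => hcon w (by simpa using hw))).trans (finrank_span_singleton hv).le
    have h2 : LinearMap.range N.mulVecLin ≤ LinearMap.ker N.mulVecLin := by
      rintro _ ⟨u, rfl⟩
      simp [Matrix.mulVec_mulVec, hNN]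
    have h3 := Submodule.finrank_mono h2
    have h4 := N.mulVecLin.finrank_range_add_finrank_ker
    rw [Module.finrank_fin_fun] at h4
    omega
  let B : F → Matrix (Fin 3) (Fin 3) F := fun c => Matrix.of fun i j => ![N *ᵥ v, c • w, v] j i
  have hcol : ∀ (c : F) (k : Fin 3 → F), B c *ᵥ k = k 0 • (N *ᵥ v) + k 1 • c • w + k 2 • v := by
    intro c k
    ext i
    change ∑ j, B c i j * k j = _
    rw [Fin.sum_univ_three]
    simp only [B, Matrix.of_apply, Matrix.cons_val_zero, Matrix.cons_val_one, Matrix.cons_val, Pi.add_apply,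
      Pi.smul_apply, smul_eq_mul]
    ring
  have hdet : (B 1).det ≠ 0 := by
    intro h0
    obtain ⟨k, hk, hk0⟩ := Matrix.exists_mulVec_eq_zero_iff.2 h0
    rw [hcol, one_smul] at hk0
    have h2 : k 2 = 0 := by
      have := congrArg (N *ᵥ ·) hk0
      simp only [Matrix.mulVec_add, Matrix.mulVec_smul, Matrix.mulVec_mulVec, hNN, Matrix.zero_mulVec,
        smul_zero, hw, zero_add, Matrix.mulVec_zero] at this
      exact (smul_eq_zero.1 this).resolve_right hv
    rw [h2, zero_smul, add_zero] at hk0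
    have h1 : k 1 = 0 := by
      by_contra h1
      refine hwv (Submodule.mem_span_singleton.2 ⟨-(k 1)⁻¹ * k 0, ?_⟩)
      rw [mul_smul, eq_neg_of_add_eq_zero_left hk0, neg_smul, smul_neg, neg_neg, inv_smul_smul₀ h1]
    rw [h1, zero_smul, add_zero] at hk0
    have h0 : k 0 = 0 := (smul_eq_zero.1 hk0).resolve_right hv
    exact hk (funext fun i => by fin_cases i <;> assumption)
  have hscale : B ((B 1).det)⁻¹ = B 1 * Matrix.diagonal ![1, ((B 1).det)⁻¹, 1] := by
    ext i j
    rw [Matrix.mul_diagonal]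
    fin_cases j <;> simp [B, mul_comm]
  refine ⟨⟨B ((B 1).det)⁻¹, ?_⟩, h, himg, ?_⟩
  · rw [hscale, Matrix.det_mul, Matrix.det_diagonal, Fin.prod_univ_three]
    simp [hdet]
  · rw [show (h : Matrix (Fin 3) (Fin 3) F) = 1 + N by rw [hN]; abel]
    change (1 + N) * B _ = B _ * _
    rw [add_mul, one_mul, mul_add, mul_one]
    congr 1
    ext i j
    fin_cases j
    · have : (N *ᵥ (N *ᵥ v)) i = 0 := by rw [Matrix.mulVec_mulVec, hNN, Matrix.zero_mulVec]; rfl
      simpa [B, Matrix.mul_apply, Matrix.mulVec, dotProduct, Matrix.single_apply] using this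
    · have : (N *ᵥ (((B 1).det)⁻¹ • w)) i = 0 := by rw [Matrix.mulVec_smul, hw, smul_zero]; rfl
      simpa [B, Matrix.mul_apply, Matrix.mulVec, dotProduct, Matrix.single_apply] using this
    · simp [B, Matrix.mul_apply, Matrix.mulVec, dotProduct, Matrix.single_apply]


/-- Any two elements of order 2 of PSL_3(4) are conjugate. -/
theorem result {F : Type*} [Field F] [Fintype F] (hF : Fintype.card F = 4) (x y : Matrix.ProjectiveSpecialLinearGroup (Fin 3) F) (hx : orderOf x = 2) (hy : orderOf y = 2) : IsConj x y := by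
  obtain ⟨A, h, rfl, hA⟩ := exists_conj_std hF x hx
  obtain ⟨A', h', rfl, hA'⟩ := exists_conj_std hF y hy
  rw [isConj_iff]
  refine ⟨((A' * A⁻¹ : Matrix.SpecialLinearGroup (Fin 3) F) : Matrix.ProjectiveSpecialLinearGroup (Fin 3) F), ?_⟩
  rw [← QuotientGroup.mk_mul, ← QuotientGroup.mk_inv, ← QuotientGroup.mk_mul]
  refine congrArg QuotientGroup.mk ?_
  rw [mul_inv_rev, inv_inv]
  have e : A⁻¹ * h * A = A'⁻¹ * h' * A' := by
    apply Subtype.ext
    simp only [Matrix.SpecialLinearGroup.coe_mul, mul_assoc]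
    rw [hA, hA']
    have i1 : ((A⁻¹ : Matrix.SpecialLinearGroup (Fin 3) F) : Matrix (Fin 3) (Fin 3) F) * A = 1 := by
      rw [← Matrix.SpecialLinearGroup.coe_mul, inv_mul_cancel]; rfl
    have i2 : ((A'⁻¹ : Matrix.SpecialLinearGroup (Fin 3) F) : Matrix (Fin 3) (Fin 3) F) * A' = 1 := by
      rw [← Matrix.SpecialLinearGroup.coe_mul, inv_mul_cancel]; rfl
    rw [← mul_assoc, ← mul_assoc, i1, i2]
  calc A' * A⁻¹ * h * (A * A'⁻¹) = A' * (A⁻¹ * h * A) * A'⁻¹ := by simp [mul_assoc]
    _ = h' := by rw [e]; simp [mul_assoc]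

end Cfsg.Agent.S0820
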