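import Cfsg.Statements.S1011
import Cfsg.Agent.Lib.SmallOrders.Order504.Coords
import Cfsg.Agent.Lib.GLOrder.Basic
import Cfsg.Agent.EqLemmas

set_option autoImplicit false
open Cfsg

namespace Cfsg.Agent.S1011

/-- A simple group of order 504 is isomorphic to the projective special linear group of dimension 2 over the field with 8 elements. -/
theorem result {G : Type*} [Group G] [Finite G] [IsSimpleGroup G] (h : Nat.card G = 504) {F : Type*} [Field F] [Fintype F] (hF : Fintype.card F = 8) : Nonempty (G ≃* Matrix.ProjectiveSpecialLinearGroup (Fin 2) F) := by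
  have hq : Nat.card F = 8 := by rw [Nat.card_eq_fintype_card, hF]
  have : IsSimpleGroup (Matrix.ProjectiveSpecialLinearGroup (Fin 2) F) :=
    Matrix.ProjectiveSpecialLinearGroup.rank_two_simple (by omega)
  refine Cfsg.Agent.SmallOrders.S504.mulEquiv h ?_
  rw [Cfsg.Agent.GLOrder.card_PSL_two_of_even (by rw [hq]; exact ⟨4, rfl⟩), hq]
  rfl

end Cfsg.Agent.S1011
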