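import Cfsg.Statements.S3794
import Cfsg.Agent.EqLemmas

set_option autoImplicit false
open Cfsg

namespace Cfsg.Agent.S3794

section abstractKey

variable {A H : Type*} [AddCommGroup A] [Group H]

omit [AddCommGroup A] in
lemma sq_eq_one_imp [Finite H] (s : H →* H) (hf : ∀ h, s h = h → h = 1)
    (h4 : ∀ h, s (s (s (s h))) = h) (h : H) (hh : h ^ 2 = 1) : h = 1 := by
  classical
  have := Fintype.ofFinite H
  haveI : Fact (Nat.Prime 2) := ⟨Nat.prime_two⟩
  let f : Function.End H := fun x => s x
  have hp : f ^ 2 ^ 2 = 1 := by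
    funext x
    show f (f (f (f x))) = x
    exact h4 x
  have hmod := Equiv.Perm.card_fixedPoints_modEq (α := H) (p := 2) hp
  have hfix : Fintype.card (Function.fixedPoints (s : H → H)) = 1 := by
    rw [Fintype.card_eq_one_iff]
    exact ⟨⟨1, map_one s⟩, fun y => Subtype.ext (hf y.1 y.2)⟩
  rw [hfix] at hmod
  by_contra hne
  have ho : orderOf h = 2 := orderOf_eq_prime hh hne
  have hd : 2 ∣ Fintype.card H := ho ▸ orderOf_dvd_card
  unfold Nat.ModEq at hmod
  omega

/-- The operator identity: if `σ` of order dividing four is fixed-point-free on `A ⋊ H`, `H` acts faithfully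
and some invariant abelian subgroup of `H` has no fixed points on `A`, then `H` is commutative. -/
theorem key [Finite H] (ρ : H →* AddMonoid.End A) (hinj : ∀ h, (∀ a, ρ h a = a) → h = 1)
    (S : A →+ A) (s : H →* H) (hf : ∀ h, s h = h → h = 1) (h4 : ∀ h, s (s (s (s h))) = h)
    (hS : ∀ h a, S (ρ h a) = ρ (s h) (S a))
    (norm : ∀ a, a + S a + S (S a) + S (S (S a)) = 0)
    (Z : Subgroup H) (hsZ : ∀ z ∈ Z, s z ∈ Z) (hcomm : ∀ z ∈ Z, ∀ w ∈ Z, z * w = w * z)
    (hfix : ∀ a, (∀ z ∈ Z, ρ z a = a) → a = 0) : ∀ h k : H, h * k = k * h := by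
  have hmul : ∀ (x y : H) a, ρ (x * y) a = ρ x (ρ y a) := by
    intro x y a; rw [map_mul]; rfl
  have hinv : ∀ (x : H) a, ρ x⁻¹ (ρ x a) = a := by
    intro x a; rw [← hmul, inv_mul_cancel, map_one]; rfl
  have hc : ∀ x ∈ Z, ∀ y ∈ Z, ∀ a, ρ x (ρ y a) = ρ y (ρ x a) := by
    intro x hx y hy a; rw [← hmul, ← hmul, hcomm x hx y hy]
  -- surjectivity of commutator maps on Z
  have hsurj : ∀ (t : H →* H), (∀ h, t h = h → h = 1) → (∀ z ∈ Z, t z ∈ Z) →
      ∀ c, (∀ z ∈ Z, ρ z c = ρ (t z) c) → c = 0 := by
    intro t ht htZ c hcz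
    apply hfix
    intro x hx
    let f : Z → Z := fun z => ⟨(z : H)⁻¹ * t z, Z.mul_mem (Z.inv_mem z.2) (htZ _ z.2)⟩
    have finj : Function.Injective f := by
      rintro ⟨z, hz⟩ ⟨w, hw⟩ hzw
      have hzw' : z⁻¹ * t z = w⁻¹ * t w := congrArg Subtype.val hzw
      have h1 : t (z * w⁻¹) = z * w⁻¹ := by
        have : t z = z * (w⁻¹ * t w) := by rw [← hzw']; group
        rw [map_mul, map_inv, this]; group
      have := ht _ h1
      exact Subtype.ext (mul_inv_eq_one.mp this)
    obtain ⟨⟨z, hz⟩, hzx⟩ := (Finite.surjective_of_injective finj) ⟨x, hx⟩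
    have hzx' : z⁻¹ * t z = x := congrArg Subtype.val hzx
    rw [← hzx', hmul, ← hcz z hz, hinv]
  have h2Z : ∀ z ∈ Z, s (s z) ∈ Z := fun z hz => hsZ _ (hsZ _ hz)
  have h3Z : ∀ z ∈ Z, s (s (s z)) ∈ Z := fun z hz => hsZ _ (h2Z _ hz)
  -- the basic identity
  have E0 : ∀ z a, ρ z a + ρ (s z) (S a) + ρ (s (s z)) (S (S a))
      + ρ (s (s (s z))) (S (S (S a))) = 0 := by
    intro z a
    have := norm (ρ z a)
    simpa only [hS] using this
  have E1 : ∀ z a, (ρ z a - ρ (s z) a) + (ρ (s (s z)) (S (S a)) - ρ (s z) (S (S a)))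
      + (ρ (s (s (s z))) (S (S (S a))) - ρ (s z) (S (S (S a)))) = 0 := by
    intro z a
    have h1 := E0 z a
    have h2 : ρ (s z) a + ρ (s z) (S a) + ρ (s z) (S (S a)) + ρ (s z) (S (S (S a))) = 0 := by
      simp only [← map_add, norm, map_zero]
    calc _ = (ρ z a + ρ (s z) (S a) + ρ (s (s z)) (S (S a)) + ρ (s (s (s z))) (S (S (S a))))
          - (ρ (s z) a + ρ (s z) (S a) + ρ (s z) (S (S a)) + ρ (s z) (S (S (S a)))) := by abel
      _ = 0 := by rw [h1, h2, sub_zero]
  have E2 : ∀ z ∈ Z, ∀ y ∈ Z, ∀ a,
      (ρ z (ρ y a - ρ (s (s (s y))) a) - ρ (s z) (ρ y a - ρ (s (s (s y))) a))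
      + (ρ (s (s z)) (ρ (s (s y)) (S (S a)) - ρ (s (s (s y))) (S (S a)))
        - ρ (s z) (ρ (s (s y)) (S (S a)) - ρ (s (s (s y))) (S (S a)))) = 0 := by
    intro z hz y hy a
    have h1 := E1 z (ρ y a)
    simp only [hS] at h1
    have h2 := congrArg (ρ (s (s (s y)))) (E1 z a)
    simp only [map_add, map_sub, map_zero] at h2
    have hy3 := h3Z y hy
    rw [hc _ hy3 _ hz, hc _ hy3 _ (hsZ _ hz), hc _ hy3 _ (h2Z _ hz), hc _ hy3 _ (hsZ _ hz),
      hc _ hy3 _ (h3Z _ hz), hc _ hy3 _ (hsZ _ hz)] at h2
    simp only [map_sub]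
    have h3 : ∀ {P Q : A}, P = 0 → Q = 0 → P - Q = 0 := by
      intro P Q hP hQ; rw [hP, hQ, sub_zero]
    refine Eq.trans ?_ (h3 h1 h2)
    abel
  have hs2fix : ∀ w ∈ Z, s (s w) = w := by
    intro w hw
    have hb : ∀ a, ρ w a = ρ (s (s w)) a := by
      intro a
      have : ρ w a - ρ (s (s w)) a = 0 := by
        set b := ρ w a - ρ (s (s w)) a with hbdef
        have E3 : ∀ z ∈ Z, ∀ y ∈ Z,
            ρ z (ρ y b - ρ (s (s (s y))) b) = ρ (s z) (ρ y b - ρ (s (s (s y))) b) := by
          intro z hz y hy
          have h1 := E2 z hz y hy (ρ w a)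
          simp only [hS] at h1
          have h2 := congrArg (ρ (s (s w))) (E2 z hz y hy a)
          simp only [map_add, map_sub, map_zero] at h2
          have hw2 := h2Z w hw
          simp only [hbdef, map_sub]
          simp only [map_sub] at h1
          simp only [hc _ hw2 _ hz, hc _ hw2 _ hy, hc _ hw2 _ (hsZ _ hz), hc _ hw2 _ (h2Z _ hz),
            hc _ hw2 _ (h2Z _ hy), hc _ hw2 _ (h3Z _ hy)] at h2
          rw [← sub_eq_zero]
          have h3 : ∀ {P Q : A}, P = 0 → Q = 0 → P - Q = 0 := by
            intro P Q hP hQ; rw [hP, hQ, sub_zero]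
          refine Eq.trans ?_ (h3 h1 h2)
          abel
        have hcy : ∀ y ∈ Z, ρ y b = ρ (s (s (s y))) b := by
          intro y hy
          rw [← sub_eq_zero]
          exact hsurj s hf hsZ _ (fun z hz => E3 z hz y hy)
        refine hsurj (s.comp (s.comp s)) (fun h hh => ?_) (fun z hz => h3Z z hz) _
          (fun y hy => by simpa using hcy y hy)
        apply hf
        have := congrArg s hh
        simp only [MonoidHom.comp_apply] at this
        rw [h4] at this
        exact this.symm
      exact sub_eq_zero.mp this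
    have : (s (s w))⁻¹ * w = 1 := by
      apply hinj
      intro a
      rw [hmul, hb, hinv]
    exact (inv_mul_eq_one.mp this)
  have hsinv : ∀ z ∈ Z, s z = z⁻¹ := by
    intro z hz
    have h1 : s (z * s z) = z * s z := by
      rw [map_mul, hs2fix z hz, hcomm _ (hsZ z hz) _ hz]
    exact (inv_eq_of_mul_eq_one_right (hf _ h1)).symm
  -- squares
  have hsq : ∀ x ∈ Z, ∃ z ∈ Z, z * z = x := by
    intro x hx
    let f : Z → Z := fun z => z * z
    have finj : Function.Injective f := by
      rintro ⟨z, hz⟩ ⟨w, hw⟩ hzw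
      have hzw' : z * z = w * w := congrArg Subtype.val hzw
      have hcw : Commute z w⁻¹ := Commute.inv_right (hcomm z hz w hw)
      have : (z * w⁻¹) ^ 2 = 1 := by
        rw [hcw.mul_pow, sq, sq, hzw']; group
      exact Subtype.ext (mul_inv_eq_one.mp (sq_eq_one_imp s hf h4 _ this))
    obtain ⟨⟨z, hz⟩, hzx⟩ := (Finite.surjective_of_injective finj) ⟨x, hx⟩
    exact ⟨z, hz, congrArg Subtype.val hzx⟩
  have htau : ∀ a, a + S (S a) = 0 := by
    intro a
    apply hfix
    intro x hx
    obtain ⟨z, hz, rfl⟩ := hsq x hx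
    have h1 := E0 z a
    rw [hs2fix z hz, hsinv z hz] at h1
    have h2 : ρ z⁻¹ a + ρ z⁻¹ (S a) + ρ z⁻¹ (S (S a)) + ρ z⁻¹ (S (S (S a))) = 0 := by
      simp only [← map_add, norm, map_zero]
    have h3 : ρ z (a + S (S a)) = ρ z⁻¹ (a + S (S a)) := by
      rw [← sub_eq_zero, map_add, map_add]
      calc _ = (ρ z a + ρ z⁻¹ (S a) + ρ z (S (S a)) + ρ z⁻¹ (S (S (S a))))
            - (ρ z⁻¹ a + ρ z⁻¹ (S a) + ρ z⁻¹ (S (S a)) + ρ z⁻¹ (S (S (S a)))) := by abel
        _ = 0 := by rw [h1, h2, sub_zero]
    rw [hmul, h3, ← hmul, mul_inv_cancel, map_one]; rfl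
  have hS2 : ∀ a, S (S a) = -a := fun a => eq_neg_of_add_eq_zero_right (htau a)
  have hH2 : ∀ h, s (s h) = h := by
    intro h
    have hb : ∀ a, ρ (s (s h)) a = ρ h a := by
      intro a
      have h1 := hS2 (ρ h a)
      rw [hS, hS, hS2, map_neg] at h1
      exact neg_inj.mp h1
    have : h⁻¹ * s (s h) = 1 := by
      apply hinj
      intro a
      rw [hmul, hb, hinv]
    exact (inv_mul_eq_one.mp this).symm
  intro h k
  exact (MonoidHom.FixedPointFree.commute_all_of_involutive (φ := s) hf hH2 h k)

end abstractKey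

section groups

variable {G : Type*} [Group G]

lemma exists_min_invariant [Finite G] (σ : G →* G) (hne : Nontrivial G) :
    ∃ V : Subgroup G, (V.Normal ∧ V ≠ ⊥ ∧ ∀ x ∈ V, σ x ∈ V) ∧
      ∀ W : Subgroup G, W.Normal → W ≠ ⊥ → (∀ x ∈ W, σ x ∈ W) → W ≤ V → W = V := by
  obtain ⟨V, hV, hmin⟩ :=
    (wellFounded_lt (α := Subgroup G)).has_min
      {V : Subgroup G | V.Normal ∧ V ≠ ⊥ ∧ ∀ x ∈ V, σ x ∈ V}
      ⟨⊤, inferInstance, top_ne_bot, fun _ _ => Subgroup.mem_top _⟩
  refine ⟨V, hV, fun W h1 h2 h3 h4 => ?_⟩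
  by_contra h
  exact hmin W ⟨h1, h2, h3⟩ (lt_of_le_of_ne h4 h)

lemma min_invariant_abelian [Finite G] (hG : Group.IsSolvable G) (σ : G →* G) (V : Subgroup G)
    (hV : V.Normal) (hne : V ≠ ⊥) (hσ : ∀ x ∈ V, σ x ∈ V)
    (hmin : ∀ W : Subgroup G, W.Normal → W ≠ ⊥ → (∀ x ∈ W, σ x ∈ W) → W ≤ V → W = V) :
    ∀ x ∈ V, ∀ y ∈ V, x * y = y * x := by
  by_contra hna
  have hD : ⁅V, V⁆ = V := by
    apply hmin _ inferInstance
    · intro hb
      apply hna
      intro x hx y hy
      exact Subgroup.mem_centralizer_iff.mp (Subgroup.commutator_eq_bot_iff_le_centralizer.mp hb hy) x hx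
    · intro x hx
      have : ⁅V, V⁆.map σ ≤ ⁅V, V⁆ := by
        rw [Subgroup.map_commutator]
        exact Subgroup.commutator_mono (by rintro _ ⟨y, hy, rfl⟩; exact hσ y hy)
          (by rintro _ ⟨y, hy, rfl⟩; exact hσ y hy)
      exact this ⟨x, hx, rfl⟩
    · exact Subgroup.commutator_le_left V V
  have hall : ∀ n, V ≤ derivedSeries G n := by
    intro n
    induction n with
    | zero => exact le_top
    | succ n ih =>
      calc V = ⁅V, V⁆ := hD.symm
        _ ≤ ⁅derivedSeries G n, derivedSeries G n⁆ := Subgroup.commutator_mono ih ih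
        _ = derivedSeries G (n + 1) := (derivedSeries_succ G n).symm
  obtain ⟨n, hn⟩ := hG.solvable
  exact hne (le_bot_iff.mp (hn ▸ hall n))

lemma fpf_quotient [Finite G] (σ : G →* G) (hf : ∀ g, σ g = g → g = 1) (N : Subgroup G) [N.Normal]
    (hN : ∀ x ∈ N, σ x ∈ N) :
    ∀ q : G ⧸ N, QuotientGroup.map N N σ (fun x hx => hN x hx) q = q → q = 1 := by
  intro q hq
  induction q using QuotientGroup.induction_on with
  | _ g =>
    change ((σ g : G) : G ⧸ N) = (g : G ⧸ N) at hq
    rw [QuotientGroup.eq] at hq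
    let f : N → N := fun m => ⟨(σ m)⁻¹ * m, N.mul_mem (N.inv_mem (hN _ m.2)) m.2⟩
    have finj : Function.Injective f := by
      rintro ⟨z, hz⟩ ⟨w, hw⟩ hzw
      have hzw' : (σ z)⁻¹ * z = (σ w)⁻¹ * w := congrArg Subtype.val hzw
      have h1 : σ (z * w⁻¹) = z * w⁻¹ := by
        have : z = σ z * ((σ w)⁻¹ * w) := by rw [← hzw']; group
        rw [map_mul, map_inv]
        conv_rhs => rw [this]
        group
      exact Subtype.ext (mul_inv_eq_one.mp (hf _ h1))
    obtain ⟨⟨m, hm⟩, hmx⟩ := (Finite.surjective_of_injective finj) ⟨_, hq⟩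
    have hmx' : (σ m)⁻¹ * m = (σ g)⁻¹ * g := congrArg Subtype.val hmx
    have : σ (g * m⁻¹) = g * m⁻¹ := by
      rw [map_mul, map_inv]
      calc σ g * (σ m)⁻¹ = σ g * ((σ m)⁻¹ * m) * m⁻¹ := by group
        _ = g * m⁻¹ := by rw [hmx']; group
    have hg : g = m := mul_inv_eq_one.mp (hf _ this)
    exact (QuotientGroup.eq_one_iff g).mpr (hg ▸ hm)

theorem main (n : ℕ) : ∀ (G : Type*) [Group G] [Finite G], Nat.card G ≤ n → Group.IsSolvable G →
    ∀ σ : G →* G, (∀ g, σ (σ (σ (σ g))) = g) → (∀ g, σ g = g → g = 1) →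
      Group.IsNilpotent (commutator G) := by
  induction n with
  | zero =>
    intro G _ _ hc
    have := Nat.card_pos (α := G)
    omega
  | succ n ih =>
    intro G _ _ hc hG σ h4 hf
    rcases subsingleton_or_nontrivial G with hs | hne
    · exact inferInstance
    obtain ⟨V, ⟨hV, hVne, hVσ⟩, hmin⟩ := exists_min_invariant σ hne
    have hVab := min_invariant_abelian hG σ V hV hVne hVσ hmin
    haveI := hV
    -- the centralizer
    let C := Subgroup.centralizer (V : Set G)
    have σsurj : Function.Surjective σ := fun g => ⟨σ (σ (σ g)), h4 g⟩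
    have hVσ' : ∀ x ∈ V, ∃ y ∈ V, σ y = x := fun x hx =>
      ⟨σ (σ (σ x)), hVσ _ (hVσ _ (hVσ _ hx)), h4 x⟩
    have hCσ : ∀ x ∈ C, σ x ∈ C := by
      intro x hx
      rw [Subgroup.mem_centralizer_iff]
      intro v hv
      obtain ⟨w, hw, rfl⟩ := hVσ' v hv
      rw [← map_mul, ← map_mul, Subgroup.mem_centralizer_iff.mp hx w hw]
    have hGC : commutator G ≤ C := by
      let s : G ⧸ C →* G ⧸ C := QuotientGroup.map C C σ (fun x hx => hCσ x hx)
      have hsf : ∀ q, s q = q → q = 1 := fpf_quotient σ hf C hCσ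
      have hs4 : ∀ q, s (s (s (s q))) = q := by
        intro q
        induction q using QuotientGroup.induction_on with
        | _ g => exact congrArg (fun x : G => (x : G ⧸ C)) (h4 g)
      suffices hab : ∀ h k : G ⧸ C, h * k = k * h by
        rw [commutator_def, Subgroup.commutator_le]
        intro a _ b _
        rw [← QuotientGroup.eq_one_iff, ← QuotientGroup.mk'_apply, map_commutatorElement,
          commutatorElement_eq_one_iff_mul_comm]
        exact hab _ _
      rcases subsingleton_or_nontrivial (G ⧸ C) with hs | hqne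
      · exact fun h k => Subsingleton.elim _ _
      obtain ⟨Z, ⟨hZ, hZne, hZs⟩, hZmin⟩ := exists_min_invariant s hqne
      have hZab := min_invariant_abelian (haveI := hG; inferInstance) s Z hZ hZne hZs hZmin
      letI : CommGroup V :=
        { (inferInstance : Group V) with mul_comm := fun a b => Subtype.ext (hVab _ a.2 _ b.2) }
      let ρ₀ : G →* AddMonoid.End (Additive V) :=
        { toFun := fun g => MonoidHom.toAdditive (MulAut.conjNormal g : MulAut V).toMonoidHom
          map_one' := by
            refine AddMonoidHom.ext fun v => ?_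
            apply Additive.toMul.injective
            apply Subtype.ext
            show (1 : G) * ((v.toMul : V) : G) * (1 : G)⁻¹ = ((v.toMul : V) : G)
            group
          map_mul' := by
            intro a b
            refine AddMonoidHom.ext fun v => ?_
            apply Additive.toMul.injective
            apply Subtype.ext
            show (a * b) * ((v.toMul : V) : G) * (a * b)⁻¹ = a * (b * ((v.toMul : V) : G) * b⁻¹) * a⁻¹
            group }
      have hρ₀ : ∀ g (v : V), (((ρ₀ g (Additive.ofMul v)).toMul : V) : G) = g * v * g⁻¹ := by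
        intro g v
        rfl
      have hker : ∀ g, g ∈ C → ρ₀ g = 1 := by
        intro g hg
        refine AddMonoidHom.ext fun v => ?_
        apply Additive.toMul.injective
        apply Subtype.ext
        have := hρ₀ g v.toMul
        rw [← Subgroup.mem_centralizer_iff.mp hg _ v.toMul.2, mul_assoc, mul_inv_cancel, mul_one] at this
        exact this
      let ρ : G ⧸ C →* AddMonoid.End (Additive V) := QuotientGroup.lift C ρ₀ hker
      let σV : V →* V := (σ.comp V.subtype).codRestrict V (fun x => hVσ _ x.2)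
      let S : Additive V →+ Additive V := MonoidHom.toAdditive σV
      have hSval : ∀ a, ((S a).toMul : G) = σ (a.toMul : V) := fun a => rfl
      have hρval : ∀ (g : G) a, ((ρ (g : G ⧸ C) a).toMul : G) = g * (a.toMul : V) * g⁻¹ := fun g a => rfl
      refine key ρ ?_ S s hsf hs4 ?_ ?_ Z hZs hZab ?_
      · intro q hq
        induction q using QuotientGroup.induction_on with
        | _ g =>
          rw [QuotientGroup.eq_one_iff, Subgroup.mem_centralizer_iff]
          intro v hv
          have := hρval g (Additive.ofMul ⟨v, hv⟩)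
          rw [hq] at this
          change v = g * v * g⁻¹ at this
          exact eq_mul_inv_iff_mul_eq.mp this
      · intro q a
        induction q using QuotientGroup.induction_on with
        | _ g =>
          apply Additive.toMul.injective
          apply Subtype.ext
          show _ = ((ρ ((σ g : G) : G ⧸ C) (S a)).toMul : G)
          rw [hSval, hρval, hρval, hSval, map_mul, map_mul, map_inv]
      · intro a
        apply Additive.toMul.injective
        apply Subtype.ext
        show ((a.toMul : V) : G) * σ (a.toMul : V) * σ (σ (a.toMul : V)) * σ (σ (σ (a.toMul : V))) = 1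
        have := MonoidHom.FixedPointFree.prod_pow_eq_one (φ := σ) hf (n := 4) (funext h4) ((a.toMul : V) : G)
        simpa [List.range_succ, mul_assoc] using this
      · intro a ha
        -- the fixed points form an invariant normal subgroup
        let K : Subgroup G := Z.comap (QuotientGroup.mk' C)
        let F : Subgroup G := V ⊓ Subgroup.centralizer (K : Set G)
        haveI : K.Normal := hZ.comap _
        have hFσ : ∀ x ∈ F, σ x ∈ F := by
          rintro x ⟨hx1, hx2⟩
          refine ⟨hVσ x hx1, Subgroup.mem_centralizer_iff.mpr ?_⟩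
          intro k hk
          have hk' : σ (σ (σ k)) ∈ K := by
            have hk : ((k : G) : G ⧸ C) ∈ Z := hk
            have := hZs _ (hZs _ (hZs _ hk))
            exact this
          have := congrArg σ (Subgroup.mem_centralizer_iff.mp hx2 _ hk')
          rwa [map_mul, map_mul, h4] at this
        have hFbot : F = ⊥ := by
          by_contra hne'
          have hFV : F = V := hmin F inferInstance hne' hFσ inf_le_left
          apply hZne
          rw [eq_bot_iff]
          intro q hq
          induction q using QuotientGroup.induction_on with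
          | _ g =>
            rw [Subgroup.mem_bot, QuotientGroup.eq_one_iff, Subgroup.mem_centralizer_iff]
            intro v hv
            have hvF : v ∈ F := hFV.symm ▸ hv
            exact (Subgroup.mem_centralizer_iff.mp hvF.2 g hq).symm
        have haF : ((a.toMul : V) : G) ∈ F := by
          refine ⟨(a.toMul).2, Subgroup.mem_centralizer_iff.mpr ?_⟩
          intro k hk
          have := hρval k a
          rw [ha (k : G ⧸ C) hk] at this
          exact (eq_mul_inv_iff_mul_eq.mp this).symm
        rw [hFbot, Subgroup.mem_bot] at haF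
        apply Additive.toMul.injective
        exact Subtype.ext haF
    -- induction
    let sV : G ⧸ V →* G ⧸ V := QuotientGroup.map V V σ (fun x hx => hVσ x hx)
    have hcard : Nat.card (G ⧸ V) ≤ n := by
      have h1 : Nat.card V * V.index = Nat.card G := V.card_mul_index
      have h2 : 1 < Nat.card V := Finite.one_lt_card_iff_nontrivial.mpr ((Subgroup.nontrivial_iff_ne_bot V).mpr hVne)
      have h3 : V.index = Nat.card (G ⧸ V) := Subgroup.index_eq_card V
      have h5 : 0 < Nat.card (G ⧸ V) := Nat.card_pos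
      nlinarith
    have ihV := ih (G ⧸ V) hcard (haveI := hG; inferInstance) sV
      (fun q => by
        induction q using QuotientGroup.induction_on with
        | _ g => exact congrArg (fun x : G => (x : G ⧸ V)) (h4 g))
      (fpf_quotient σ hf V hVσ)
    let f : commutator G →* commutator (G ⧸ V) :=
      ((QuotientGroup.mk' V).comp (commutator G).subtype).codRestrict (commutator (G ⧸ V)) (by
        intro x
        have : (commutator G).map (QuotientGroup.mk' V) ≤ commutator (G ⧸ V) := by
          rw [commutator_def, commutator_def, Subgroup.map_commutator]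
          exact Subgroup.commutator_mono le_top le_top
        exact this ⟨x, x.2, rfl⟩)
    refine Subgroup.isNilpotent_of_ker_le_center f ?_
    intro x hx
    have hxV : (x : G) ∈ V := by
      have : f x = 1 := hx
      exact (QuotientGroup.eq_one_iff _).mp (congrArg Subtype.val this)
    rw [Subgroup.mem_center_iff]
    intro y
    exact Subtype.ext (Subgroup.mem_centralizer_iff.mp (hGC y.2) _ hxV).symm

end groups


/-- Let G be a finite solvable group with an automorphism σ satisfying σ⁴ = 1 and fixing only the identity. Then the derived subgroup G' is nilpotent. -/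
theorem result {G : Type*} [Group G] [Finite G] (hG : Group.IsSolvable G) (σ : MulAut G) (hσ : σ ^ 4 = 1) (hfpf : ∀ g : G, σ g = g → g = 1) : Group.IsNilpotent (commutator G) := by
  exact main (Nat.card G) G le_rfl hG σ.toMonoidHom (fun g => by
    have := congrArg (fun f : MulAut G => f g) hσ
    simpa [pow_succ, MulAut.mul_apply] using this) hfpf

end Cfsg.Agent.S3794
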