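import Cfsg.Statements.S0572
import Cfsg.Agent.EqLemmas

set_option autoImplicit false
open Cfsg
open scoped commutatorElement

namespace Cfsg.Agent.S0572

/-- Itô's Theorem: if a group G is the product AB of two abelian subgroups, then the commutator subgroup of G is abelian, i.e. the second term of the derived series is trivial. -/
theorem result {G : Type*} [Group G] (A B : Subgroup G) [IsMulCommutative A] [IsMulCommutative B] (hAB : ∀ g : G, ∃ a ∈ A, ∃ b ∈ B, g = a * b) : derivedSeries G 2 = ⊥ := by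
  have hAB' : ∀ g : G, ∃ b ∈ B, ∃ a ∈ A, g = b * a := fun g => by
    obtain ⟨a, ha, b, hb, h⟩ := hAB g⁻¹
    exact ⟨b⁻¹, B.inv_mem hb, a⁻¹, A.inv_mem ha, by rw [← inv_inv g, h, mul_inv_rev]⟩
  have hA : ∀ {x y : G}, x ∈ A → y ∈ A → x * y = y * x := fun hx hy =>
    congrArg Subtype.val (mul_comm' (⟨_, hx⟩ : A) ⟨_, hy⟩)
  have hB : ∀ {x y : G}, x ∈ B → y ∈ B → x * y = y * x := fun hx hy =>
    congrArg Subtype.val (mul_comm' (⟨_, hx⟩ : B) ⟨_, hy⟩)
  have key : ∀ a ∈ A, ∀ b ∈ B, ∀ a' ∈ A, ∀ b' ∈ B, Commute ⁅a, b⁆ ⁅a', b'⁆ := by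
    intro a ha b hb a' ha' b' hb'
    have h' : ∀ x ∈ A, ∀ y ∈ B, MulAut.conj y (MulAut.conj x ⁅a, b⁆) =
        MulAut.conj x (MulAut.conj y ⁅a, b⁆) := by
      intro x hx y hy
      obtain ⟨b1, hb1, a1, ha1, e1⟩ := hAB' (MulAut.conj x b)
      obtain ⟨a2, ha2, b2, hb2, e2⟩ := hAB (MulAut.conj y a)
      have hxA : ∀ z ∈ A, MulAut.conj x z = z := fun z hz => by
        rw [MulAut.conj_apply, hA hx hz, mul_inv_cancel_right]
      have hyB : ∀ z ∈ B, MulAut.conj y z = z := fun z hz => by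
        rw [MulAut.conj_apply, hB hy hz, mul_inv_cancel_right]
      have f1 : ∀ c ∈ A, MulAut.conj x ⁅c, b⁆ = ⁅c, b1⁆ := by
        intro c hc
        have hcc : a1 * c⁻¹ = c⁻¹ * a1 := hA ha1 (A.inv_mem hc)
        rw [map_commutatorElement, hxA c hc, e1, commutatorElement_def, commutatorElement_def]
        calc c * (b1 * a1) * c⁻¹ * (b1 * a1)⁻¹ = c * b1 * (a1 * c⁻¹) * a1⁻¹ * b1⁻¹ := by group
          _ = _ := by rw [hcc]; group
      have f2 : ∀ d ∈ B, MulAut.conj y ⁅a, d⁆ = ⁅a2, d⁆ := by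
        intro d hd
        have hcc : b2 * d = d * b2 := hB hb2 hd
        rw [map_commutatorElement, hyB d hd, e2, commutatorElement_def, commutatorElement_def]
        calc a2 * b2 * d * (a2 * b2)⁻¹ * d⁻¹ = a2 * (b2 * d) * b2⁻¹ * a2⁻¹ * d⁻¹ := by group
          _ = _ := by rw [hcc]; group
      rw [f1 a ha, f2 b1 hb1, f2 b hb, f1 a2 ha2]
    have h2 : MulAut.conj (b'⁻¹ * a'⁻¹) ⁅a, b⁆ = MulAut.conj (a'⁻¹ * b'⁻¹) ⁅a, b⁆ := by
      rw [map_mul, map_mul, MulAut.mul_apply, MulAut.mul_apply]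
      exact h' _ (A.inv_mem ha') _ (B.inv_mem hb')
    simp only [MulAut.conj_apply] at h2
    rw [Commute, SemiconjBy, commutatorElement_def a' b']
    calc ⁅a, b⁆ * (a' * b' * a'⁻¹ * b'⁻¹)
        = a' * b' * (b'⁻¹ * a'⁻¹ * ⁅a, b⁆ * (b'⁻¹ * a'⁻¹)⁻¹) * (a'⁻¹ * b'⁻¹) := by group
      _ = a' * b' * (a'⁻¹ * b'⁻¹ * ⁅a, b⁆ * (a'⁻¹ * b'⁻¹)⁻¹) * (a'⁻¹ * b'⁻¹) := by rw [h2]
      _ = _ := by group
  set N : Subgroup G := ⁅A, B⁆ with hN
  have conjA : ∀ a ∈ A, ∀ n ∈ N, a * n * a⁻¹ ∈ N := by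
    intro a ha
    suffices h : N ≤ N.comap (MulAut.conj a).toMonoidHom from fun n hn => h hn
    refine Subgroup.commutator_le.mpr fun c hc d hd => ?_
    show a * ⁅c, d⁆ * a⁻¹ ∈ N
    rw [show a * ⁅c, d⁆ * a⁻¹ = ⁅a * c, d⁆ * ⁅a, d⁆⁻¹ by simp only [commutatorElement_def]; group]
    exact mul_mem (Subgroup.commutator_mem_commutator (mul_mem ha hc) hd)
      (inv_mem (Subgroup.commutator_mem_commutator ha hd))
  have conjB : ∀ b ∈ B, ∀ n ∈ N, b * n * b⁻¹ ∈ N := by
    intro b hb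
    suffices h : N ≤ N.comap (MulAut.conj b).toMonoidHom from fun n hn => h hn
    refine Subgroup.commutator_le.mpr fun c hc d hd => ?_
    show b * ⁅c, d⁆ * b⁻¹ ∈ N
    rw [show b * ⁅c, d⁆ * b⁻¹ = ⁅c, b⁆⁻¹ * ⁅c, b * d⁆ by simp only [commutatorElement_def]; group]
    exact mul_mem (inv_mem (Subgroup.commutator_mem_commutator hc hb))
      (Subgroup.commutator_mem_commutator hc (mul_mem hb hd))
  haveI hNn : N.Normal := by
    constructor
    intro n hn g
    obtain ⟨a, ha, b, hb, rfl⟩ := hAB g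
    have := conjA a ha _ (conjB b hb n hn)
    simpa [mul_assoc, mul_inv_rev] using this
  have hG' : derivedSeries G 1 ≤ N := by
    rw [derivedSeries_one, commutator_def]
    refine Subgroup.commutator_le.mpr fun g _ k _ => ?_
    rw [← QuotientGroup.eq_one_iff, ← QuotientGroup.mk'_apply, map_commutatorElement,
      commutatorElement_eq_one_iff_commute]
    obtain ⟨a, ha, b, hb, rfl⟩ := hAB g
    obtain ⟨a', ha', b', hb', rfl⟩ := hAB k
    have h1 : ∀ x ∈ A, ∀ y ∈ B, Commute (QuotientGroup.mk' N x) (QuotientGroup.mk' N y) := by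
      intro x hx y hy
      rw [← commutatorElement_eq_one_iff_commute, ← map_commutatorElement,
        QuotientGroup.mk'_apply, QuotientGroup.eq_one_iff]
      exact Subgroup.commutator_mem_commutator hx hy
    rw [map_mul, map_mul]
    refine Commute.mul_left (Commute.mul_right ?_ (h1 a ha b' hb')) (Commute.mul_right (h1 a' ha' b hb).symm ?_)
    · exact (show Commute a a' from hA ha ha').map _
    · exact (show Commute b b' from hB hb hb').map _
  rw [derivedSeries_succ, eq_bot_iff]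
  refine le_trans (Subgroup.commutator_mono hG' hG') ?_
  rw [le_bot_iff, Subgroup.commutator_eq_bot_iff_le_centralizer, hN, Subgroup.commutator_le]
  intro a ha b hb
  rw [Subgroup.mem_centralizer_iff]
  intro n hn
  refine Subgroup.closure_induction (p := fun x _ => x * ⁅a, b⁆ = ⁅a, b⁆ * x) ?_ (by simp)
    (fun x y _ _ hx hy => (Commute.mul_left hx hy)) (fun x _ hx => (Commute.inv_left hx)) hn
  rintro _ ⟨c, hc, d, hd, rfl⟩
  exact key c hc d hd a ha b hb

end Cfsg.Agent.S0572
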