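import Cfsg.Statements.S1189
import Cfsg.Agent.Lib.QDWreath.Semidihedral

set_option autoImplicit false
open Cfsg

namespace Cfsg.Agent.S1189

/-- A quasi-dihedral 2-group has exactly two conjugacy classes of elements of order 2 and exactly two conjugacy classes of elements of order 4. -/
theorem result {S : Type*} [Group S] [Finite S] (hS : Cfsg.IsQuasiDihedral S) : Nat.card {C : ConjClasses S // ∃ t : S, orderOf t = 2 ∧ ConjClasses.mk t = C} = 2 ∧ Nat.card {C : ConjClasses S // ∃ t : S, orderOf t = 4 ∧ ConjClasses.mk t = C} = 2 := by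
  obtain ⟨n, ⟨d⟩⟩ := QDWreath.nonempty_qdData hS
  have hn1 := d.one_le
  have hn := d.hn
  constructor
  · rw [← Set.coe_setOf, Nat.card_coe_set_eq, Set.ncard_eq_two]
    refine ⟨ConjClasses.mk (d.a (QDWreath.tp n (n - 1))), ConjClasses.mk (d.b 0), ?_, ?_⟩
    · intro h
      rw [ConjClasses.mk_eq_mk_iff_isConj, isConj_iff] at h
      obtain ⟨c, hc⟩ := h
      rcases d.cases c with ⟨j, rfl⟩ | ⟨j, rfl⟩
      · rw [d.conj_a_a] at hc; exact d.a_ne_b _ _ hc
      · rw [d.conj_b_a] at hc; exact d.a_ne_b _ _ hc
    · ext C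
      simp only [Set.mem_ofPred_eq, Set.mem_insert_iff, Set.mem_singleton_iff]
      constructor
      · rintro ⟨t, ht, rfl⟩
        rcases d.orderOf_eq_two_cases ht with rfl | ⟨k, rfl⟩
        · exact Or.inl rfl
        · refine Or.inr ?_
          rw [ConjClasses.mk_eq_mk_iff_isConj, isConj_comm, isConj_iff]
          obtain ⟨j, hj⟩ := d.exists_conj_b 0 k
          exact ⟨d.a j, by rw [hj, zero_add]⟩
      · rintro (rfl | rfl)
        · exact ⟨_, d.orderOf_a_half, rfl⟩
        · exact ⟨_, by simpa using d.orderOf_b_even 0, rfl⟩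
  · rw [← Set.coe_setOf, Nat.card_coe_set_eq, Set.ncard_eq_two]
    have hm2 : 2 * QDWreath.tp n (n - 2) = QDWreath.tp n (n - 1) := d.half_eq_two_mul.symm
    have ham : orderOf (d.a (QDWreath.tp n (n - 2))) = 4 := by
      have h : orderOf (d.a (QDWreath.tp n (n - 2))) = 2 ^ (1 + 1) := by
        refine orderOf_eq_prime_pow ?_ ?_
        · rw [pow_one, pow_two, d.a_mul_a, ← two_mul, hm2]; exact d.a_half_ne_one
        · rw [pow_succ 2 1, pow_one, pow_mul, pow_two, pow_two, d.a_mul_a, ← two_mul, hm2]
          exact d.a_sq_eq_one.2 (Or.inr rfl)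
      simpa using h
    refine ⟨ConjClasses.mk (d.a (QDWreath.tp n (n - 2))), ConjClasses.mk (d.b 1), ?_, ?_⟩
    · intro h
      rw [ConjClasses.mk_eq_mk_iff_isConj, isConj_iff] at h
      obtain ⟨c, hc⟩ := h
      rcases d.cases c with ⟨j, rfl⟩ | ⟨j, rfl⟩
      · rw [d.conj_a_a] at hc; exact d.a_ne_b _ _ hc
      · rw [d.conj_b_a] at hc; exact d.a_ne_b _ _ hc
    · ext C
      simp only [Set.mem_ofPred_eq, Set.mem_insert_iff, Set.mem_singleton_iff]
      constructor
      · rintro ⟨t, ht, rfl⟩
        rcases d.cases t with ⟨i, rfl⟩ | ⟨i, rfl⟩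
        · refine Or.inl ?_
          have h2 : d.a i * d.a i ≠ 1 := by
            intro e
            have := orderOf_dvd_of_pow_eq_one (x := d.a i) (n := 2) (by rw [pow_two]; exact e)
            rw [ht] at this; exact absurd this (by norm_num)
          have h4 : d.a (2 * i) * d.a (2 * i) = 1 := by
            rw [d.a_mul_a]
            have : (d.a i) ^ 4 = 1 := by rw [← ht]; exact pow_orderOf_eq_one _
            rw [d.a_pow] at this; convert this using 2; push_cast; ring
          rcases d.a_sq_eq_one.1 h4 with h0 | h0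
          · exact absurd (by rw [d.a_mul_a, ← two_mul, h0, d.a_zero]) h2
          · rw [← hm2] at h0
            rcases QDWreath.two_mul_eq_two_mul hn1 h0 with h1 | h1
            · rw [h1]
            · rw [ConjClasses.mk_eq_mk_iff_isConj, isConj_iff]
              refine ⟨d.b 0, ?_⟩
              rw [d.conj_b_a]
              congr 1
              have e := QDWreath.half_mul_two hn1
              have e2 := d.half_sq
              unfold QDWreath.QDData.rexp
              rw [h1]
              have e3 : QDWreath.tp n (n - 1) * QDWreath.tp n (n - 2) = 0 := by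
                rw [QDWreath.tp_mul_tp]; exact QDWreath.tp_eq_zero _ _ (by omega)
              linear_combination e2 + e3 - hm2 - e
        · obtain ⟨k, rfl | rfl⟩ := QDWreath.even_or_odd i
          · rw [d.orderOf_b_even] at ht; exact absurd ht (by norm_num)
          · refine Or.inr ?_
            rw [ConjClasses.mk_eq_mk_iff_isConj, isConj_comm, isConj_iff]
            obtain ⟨j, hj⟩ := d.exists_conj_b 1 k
            exact ⟨d.a j, by rw [hj, add_comm]⟩
      · rintro (rfl | rfl)
        · exact ⟨_, ham, rfl⟩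
        · exact ⟨_, by simpa using d.orderOf_b_odd 0, rfl⟩

end Cfsg.Agent.S1189
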