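import Cfsg.Statements.S3952
import Cfsg.Agent.EqLemmas

set_option autoImplicit false
open Cfsg

namespace Cfsg.Agent.S3952

universe w

section

variable {Γ : Type*} [Group Γ] [Finite Γ]

/-- Transfer: a central element of the derived subgroup, lying in `H`, has power `H.index` in `H'`. -/
theorem pow_index_mem_commutator (H : Subgroup Γ) {z : Γ} (hz : z ∈ Subgroup.center Γ)
    (hz' : z ∈ commutator Γ) :
    ∃ hh : z ^ H.index ∈ H, (⟨z ^ H.index, hh⟩ : H) ∈ commutator H := by
  have key : ∀ (k : ℕ) (g₀ : Γ), g₀⁻¹ * z ^ k * g₀ ∈ H → g₀⁻¹ * z ^ k * g₀ = z ^ k := by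
    intro k g₀ _
    rw [mul_assoc, ← Subgroup.mem_center_iff.1 ((Subgroup.center Γ).pow_mem hz k) g₀, inv_mul_cancel_left]
  refine ⟨MonoidHom.transfer_eq_pow_aux z key, ?_⟩
  have h1 := MonoidHom.transfer_eq_pow (H := H) (Abelianization.of : H →* Abelianization H) z key
  have h2 : MonoidHom.transfer (Abelianization.of : H →* Abelianization H) z = 1 := by
    have := Abelianization.commutator_subset_ker
      (MonoidHom.transfer (Abelianization.of : H →* Abelianization H)) hz'
    exact this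
  rw [h2] at h1
  rw [← Abelianization.ker_of]
  exact h1.symm

theorem isCyclic_center_of_unique {p : ℕ} [Fact p.Prime] {A : Type*} [CommGroup A] [Finite A]
    (hp : IsPGroup p A) {z : A} (hz : ∀ w : A, w ^ p = 1 → w ∈ Subgroup.zpowers z) : IsCyclic A := by
  obtain ⟨y, hy⟩ := Finite.exists_max (fun a : A => orderOf a)
  refine ⟨y, fun w => ?_⟩
  suffices h : ∀ (k : ℕ) (w : A), w ^ p ^ k = 1 → w ∈ Subgroup.zpowers y by
    obtain ⟨k, hk⟩ := hp w
    exact Subgroup.mem_zpowers_iff.1 (h k w hk)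
  intro k
  induction k with
  | zero => intro w hw; simp at hw; exact hw ▸ Subgroup.one_mem _
  | succ k ih =>
    intro w hw
    obtain ⟨i, hi⟩ := Subgroup.mem_zpowers_iff.1 (ih (w ^ p) (by rwa [← pow_mul, ← pow_succ']))
    by_cases hw1 : w ^ p = 1
    · obtain ⟨a, ha⟩ := IsPGroup.iff_orderOf.1 hp y
      rcases Nat.eq_zero_or_pos a with h0 | h0
      · have := hy w
        rw [ha, h0, pow_zero] at this
        have h1 : orderOf w = 1 := le_antisymm this (orderOf_pos w)
        rw [orderOf_eq_one_iff] at h1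
        exact h1 ▸ Subgroup.one_mem _
      have hyo : orderOf (y ^ p ^ (a - 1)) = p := by
        rw [orderOf_pow_of_dvd (pow_ne_zero _ (Fact.out : p.Prime).ne_zero) (ha ▸ pow_dvd_pow p (by omega)),
          ha, Nat.pow_div (by omega) (Fact.out : p.Prime).pos]
        rw [show a - (a - 1) = 1 by omega, pow_one]
      let T : Subgroup A := (powMonoidHom p : A →* A).ker
      have hT : T ≤ Subgroup.zpowers z := fun t ht => hz t ht
      haveI : IsCyclic ↥T := isCyclic_of_injective (Subgroup.inclusion hT) (Subgroup.inclusion_injective hT)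
      have hTc : Nat.card T ∣ p := by
        rw [← IsCyclic.exponent_eq_card, Monoid.exponent_dvd_iff_forall_pow_eq_one]
        exact fun t => Subtype.ext (MonoidHom.mem_ker.1 t.2)
      have hsub : Subgroup.zpowers (y ^ p ^ (a - 1)) ≤ T := Subgroup.zpowers_le.2 (by
        show (y ^ p ^ (a - 1)) ^ p = 1
        have h := pow_orderOf_eq_one (y ^ p ^ (a - 1))
        rwa [hyo] at h)
      have heq : Subgroup.zpowers (y ^ p ^ (a - 1)) = T := by
        refine Subgroup.eq_of_le_of_card_ge hsub ?_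
        rw [Nat.card_zpowers, hyo]
        exact Nat.le_of_dvd (Fact.out : p.Prime).pos hTc
      have hwT : w ∈ T := hw1
      rw [← heq] at hwT
      exact Subgroup.zpowers_le.2 (Subgroup.npow_mem_zpowers y _) hwT
    · obtain ⟨a, ha⟩ := IsPGroup.iff_orderOf.1 hp y
      obtain ⟨b, hb⟩ := IsPGroup.iff_orderOf.1 hp w
      have hba : b ≤ a := by
        have := hy w
        rw [ha, hb] at this
        exact (Nat.pow_le_pow_iff_right (Fact.out : p.Prime).one_lt).1 this
      have hb2 : 2 ≤ b := by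
        by_contra hlt
        apply hw1
        rw [← orderOf_dvd_iff_pow_eq_one, hb]
        exact (pow_dvd_pow p (by omega : b ≤ 1)).trans (pow_one p).dvd
      have h1 : (y ^ i) ^ (p ^ (a - 1)) = 1 := by
        rw [hi, ← pow_mul, ← orderOf_dvd_iff_pow_eq_one, hb, ← pow_succ']
        exact pow_dvd_pow p (by omega)
      rw [← zpow_natCast, ← zpow_mul, ← orderOf_dvd_iff_zpow_eq_one, ha] at h1
      have hpi : (p : ℤ) ∣ i := by
        obtain ⟨c, hc⟩ := h1
        refine ⟨c, mul_right_cancel₀ (pow_ne_zero (a - 1) (Int.natCast_ne_zero.2 (Fact.out : p.Prime).ne_zero)) ?_⟩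
        rw [show a = a - 1 + 1 by omega, pow_succ] at hc
        push_cast at hc
        rw [hc]
        ring
      obtain ⟨j, rfl⟩ := hpi
      have h2 : w * (y ^ j)⁻¹ ∈ Subgroup.zpowers y := by
        refine ih _ ?_
        have h3 : (w * (y ^ j)⁻¹) ^ p = 1 := by
          rw [mul_pow, inv_pow, ← hi, ← zpow_natCast (y ^ j), ← zpow_mul, mul_comm (p : ℤ) j, mul_inv_cancel]
        rcases k with _ | k
        · simp at hw
          exact absurd hw hw1
        · rw [pow_succ', pow_mul, h3, one_pow]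
      simpa using Subgroup.mul_mem _ h2 (Subgroup.zpow_mem_zpowers y j)

end

theorem pgroup_case (p : ℕ) [Fact p.Prime] : ∀ (n : ℕ) {Γ : Type w} [Group Γ] [Finite Γ],
    Nat.card Γ = n → IsPGroup p Γ → ∀ (z : Γ) (k : ℕ), z ∈ Subgroup.center Γ → z ∈ commutator Γ →
      orderOf z = p ^ k → p ^ (2 * k) ∣ (Subgroup.center Γ).index := by
  intro n
  induction n using Nat.strong_induction_on with
  | _ n ih =>
  intro Γ _ _ hn hΓ z k hz hz' hk
  have hp : p.Prime := Fact.out
  rcases Nat.eq_zero_or_pos k with hk0 | hk0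
  · subst hk0
    simp
  have hz1 : z ≠ 1 := by
    intro h
    rw [h, orderOf_one] at hk
    exact (Nat.one_lt_pow hk0.ne' hp.one_lt).ne hk
  by_cases huniq : ∀ w ∈ Subgroup.center Γ, w ^ p = 1 → w ∈ Subgroup.zpowers z
  · -- the centre is cyclic
    letI cgc : CommGroup ↥(Subgroup.center Γ) :=
      { (inferInstance : Group ↥(Subgroup.center Γ)) with
        mul_comm := fun a b => Subtype.ext (Subgroup.mem_center_iff.1 b.2 a) }
    haveI hcyc : IsCyclic ↥(Subgroup.center Γ) := isCyclic_center_of_unique (hΓ.to_subgroup _)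
      (z := ⟨z, hz⟩) (fun w hw => by
        obtain ⟨i, hi⟩ := Subgroup.mem_zpowers_iff.1 (huniq w w.2 (congrArg Subtype.val hw))
        exact Subgroup.mem_zpowers_iff.2 ⟨i, Subtype.ext (by simpa using hi)⟩)
    haveI : Nontrivial (Γ ⧸ Subgroup.center Γ) := by
      rw [← not_subsingleton_iff_nontrivial]
      intro hs
      have htop : Subgroup.center Γ = ⊤ := QuotientGroup.subgroup_eq_top_of_subsingleton _ hs
      have hbot : commutator Γ = ⊥ := by
        rw [eq_bot_iff, commutator_def, Subgroup.commutator_le]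
        intro a _ b _
        rw [Subgroup.mem_bot, commutatorElement_eq_one_iff_mul_comm]
        exact (Subgroup.mem_center_iff.1 (htop.symm ▸ Subgroup.mem_top b : b ∈ Subgroup.center Γ) a)
      rw [hbot, Subgroup.mem_bot] at hz'
      exact hz1 hz'
    haveI := (hΓ.to_quotient (Subgroup.center Γ)).center_nontrivial
    obtain ⟨⟨q, hq⟩, hq1⟩ := exists_ne (1 : Subgroup.center (Γ ⧸ Subgroup.center Γ))
    obtain ⟨x, rfl⟩ := QuotientGroup.mk_surjective q
    have hxc : ∀ y, x * y * x⁻¹ * y⁻¹ ∈ Subgroup.center Γ := by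
      intro y
      rw [← QuotientGroup.eq_one_iff]
      simp only [QuotientGroup.mk_mul, QuotientGroup.mk_inv]
      rw [← Subgroup.mem_center_iff.1 hq (y : Γ ⧸ Subgroup.center Γ)]
      simp
    let φ : Γ →* ↥(Subgroup.center Γ) := MonoidHom.mk' (fun y => ⟨_, hxc y⟩) (by
      intro a b
      apply Subtype.ext
      show x * (a * b) * x⁻¹ * (a * b)⁻¹ = (x * a * x⁻¹ * a⁻¹) * (x * b * x⁻¹ * b⁻¹)
      have h := Subgroup.mem_center_iff.1 (hxc b) a
      calc x * (a * b) * x⁻¹ * (a * b)⁻¹ = (x * a * x⁻¹) * (x * b * x⁻¹ * b⁻¹) * a⁻¹ := by group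
        _ = (x * a * x⁻¹ * a⁻¹) * (a * (x * b * x⁻¹ * b⁻¹)) * a⁻¹ := by group
        _ = (x * a * x⁻¹ * a⁻¹) * (x * b * x⁻¹ * b⁻¹) := by rw [h]; group)
    have hφ : ∀ y, φ y = 1 ↔ x * y = y * x := by
      intro y
      rw [Subtype.ext_iff]
      show x * y * x⁻¹ * y⁻¹ = 1 ↔ _
      rw [mul_inv_eq_one, mul_inv_eq_iff_eq_mul]
    obtain ⟨j, hj⟩ := IsPGroup.iff_card.1 ((hΓ.to_subgroup (Subgroup.center Γ)).to_subgroup φ.range)
    have hidx : φ.ker.index = p ^ j := by rw [Subgroup.index_ker]; exact hj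
    obtain ⟨⟨v, y₀, hy₀⟩, hv⟩ := IsCyclic.exists_generator (α := ↥φ.range)
    have hvo : orderOf v = p ^ j := by
      rw [← hj, ← orderOf_eq_card_of_forall_mem_zpowers hv]
      exact (Subgroup.orderOf_mk _ _).symm
    let W : Subgroup Γ := (Subgroup.zpowers (x : Γ ⧸ Subgroup.center Γ)).comap
      (QuotientGroup.mk' (Subgroup.center Γ))
    have hW : ∀ w ∈ W, ∀ c ∈ φ.ker, w * c = c * w := by
      intro w hw c hc
      obtain ⟨i, hi⟩ := Subgroup.mem_zpowers_iff.1 (Subgroup.mem_comap.1 hw)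
      have h1 : (x ^ i)⁻¹ * w ∈ Subgroup.center Γ := by
        rw [← QuotientGroup.eq]
        simpa using hi
      have h2 : Commute (x ^ i) c := Commute.zpow_left ((hφ c).1 hc) i
      have h3 : Commute ((x ^ i)⁻¹ * w) c := (Subgroup.mem_center_iff.1 h1 c).symm
      have h4 := h2.mul_left h3
      rwa [mul_inv_cancel_left] at h4
    have hWC : W ≤ φ.ker := by
      intro w hw
      obtain ⟨i, hi⟩ := Subgroup.mem_zpowers_iff.1 (Subgroup.mem_comap.1 hw)
      have h1 : (x ^ i)⁻¹ * w ∈ Subgroup.center Γ := by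
        rw [← QuotientGroup.eq]
        simpa using hi
      have h2 : φ w = 1 := by
        have h3 : φ x = 1 := (hφ x).2 rfl
        have h4 : φ ((x ^ i)⁻¹ * w) = 1 := (hφ _).2 (Subgroup.mem_center_iff.1 h1 x)
        rw [map_mul, map_inv, map_zpow, h3, one_zpow, inv_one, one_mul] at h4
        exact h4
      exact h2
    have hzC : z ∈ φ.ker := (hφ z).2 (Subgroup.mem_center_iff.1 hz x)
    obtain ⟨hh, hmem⟩ := pow_index_mem_commutator φ.ker hz hz'
    have hWidx : W.index * orderOf (x : Γ ⧸ Subgroup.center Γ) = (Subgroup.center Γ).index := by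
      rw [Subgroup.index_comap_of_surjective _ (QuotientGroup.mk'_surjective _), ← Nat.card_zpowers,
        mul_comm, Subgroup.card_mul_index]
      rfl
    have ho : p ^ j ∣ orderOf (x : Γ ⧸ Subgroup.center Γ) := by
      have h1 : x ^ orderOf (x : Γ ⧸ Subgroup.center Γ) ∈ Subgroup.center Γ := by
        rw [← QuotientGroup.eq_one_iff, QuotientGroup.mk_pow]
        exact pow_orderOf_eq_one _
      rw [← hvo]
      apply orderOf_dvd_of_pow_eq_one
      apply Subtype.ext
      rw [← hy₀]
      push_cast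
      show (x * y₀ * x⁻¹ * y₀⁻¹) ^ orderOf (x : Γ ⧸ Subgroup.center Γ) = 1
      generalize orderOf (x : Γ ⧸ Subgroup.center Γ) = o at h1 ⊢
      have hgen : ∀ i : ℕ, x ^ i * y₀ * (x ^ i)⁻¹ * y₀⁻¹ = (x * y₀ * x⁻¹ * y₀⁻¹) ^ i := by
        intro i
        induction i with
        | zero => simp
        | succ i ihi =>
          have hc := Subgroup.mem_center_iff.1 (hxc y₀) (x ^ i)
          calc x ^ (i + 1) * y₀ * (x ^ (i + 1))⁻¹ * y₀⁻¹
              = x ^ i * (x * y₀ * x⁻¹ * y₀⁻¹) * y₀ * (x ^ i)⁻¹ * y₀⁻¹ := by rw [pow_succ]; group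
            _ = (x * y₀ * x⁻¹ * y₀⁻¹) * (x ^ i * y₀ * (x ^ i)⁻¹ * y₀⁻¹) := by rw [hc]; group
            _ = (x * y₀ * x⁻¹ * y₀⁻¹) ^ (i + 1) := by rw [ihi, pow_succ']
      rw [← hgen o, ← Subgroup.mem_center_iff.1 h1 y₀]
      group
    rcases le_or_gt k j with hkj | hkj
    · have h1 : p ^ j ∣ W.index := by
        rw [← hidx]
        exact Subgroup.index_dvd_of_le hWC
      calc p ^ (2 * k) ∣ p ^ j * p ^ j := by rw [← pow_add]; exact pow_dvd_pow p (by omega)
        _ ∣ (Subgroup.center Γ).index := hWidx ▸ mul_dvd_mul h1 ho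
    have hlt : Nat.card φ.ker < n := by
      rw [← hn, ← Subgroup.card_mul_index φ.ker]
      refine lt_mul_of_one_lt_right Nat.card_pos ?_
      rw [hidx]
      refine Nat.one_lt_pow ?_ hp.one_lt
      rintro rfl
      apply hq1
      apply Subtype.ext
      show (x : Γ ⧸ Subgroup.center Γ) = 1
      rw [QuotientGroup.eq_one_iff, Subgroup.mem_center_iff]
      intro g
      rw [pow_zero, Subgroup.index_eq_one] at hidx
      exact ((hφ g).1 (hidx.symm ▸ Subgroup.mem_top g : g ∈ φ.ker)).symm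
    have hzord : orderOf (⟨z ^ φ.ker.index, hh⟩ : φ.ker) = p ^ (k - j) := by
      rw [Subgroup.orderOf_mk, hidx, orderOf_pow_of_dvd (pow_ne_zero _ hp.ne_zero)
        (hk ▸ pow_dvd_pow p hkj.le), hk, Nat.pow_div hkj.le hp.pos]
    have hind := ih _ hlt rfl (hΓ.to_subgroup φ.ker) ⟨z ^ φ.ker.index, hh⟩ (k - j)
      (Subgroup.mem_center_iff.2 fun g => Subtype.ext
        (Subgroup.mem_center_iff.1 ((Subgroup.center Γ).pow_mem hz _) g)) hmem hzord
    have hWle : W.subgroupOf φ.ker ≤ Subgroup.center φ.ker := fun w hw =>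
      Subgroup.mem_center_iff.2 fun g => Subtype.ext (hW w hw g g.2).symm
    have h1 : p ^ (2 * (k - j)) * p ^ j ∣ W.index := by
      rw [← Subgroup.relIndex_mul_index hWC, hidx]
      exact mul_dvd_mul_right (hind.trans (Subgroup.index_dvd_of_le hWle)) _
    calc p ^ (2 * k) = p ^ (2 * (k - j)) * p ^ j * p ^ j := by
          rw [← pow_add, ← pow_add]; congr 1; omega
      _ ∣ (Subgroup.center Γ).index := hWidx ▸ mul_dvd_mul h1 ho
  · -- factor out a central subgroup of order `p`
    push Not at huniq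
    obtain ⟨w, hwc, hwp, hwz⟩ := huniq
    have hw1 : w ≠ 1 := fun h => hwz (h ▸ Subgroup.one_mem _)
    haveI hKn : (Subgroup.zpowers w).Normal := ⟨fun a ha g => by
      rw [Subgroup.mem_center_iff.1 (Subgroup.zpowers_le.2 hwc ha) g, mul_inv_cancel_right]
      exact ha⟩
    have hlt : Nat.card (Γ ⧸ Subgroup.zpowers w) < n := by
      rw [← hn, Subgroup.card_eq_card_quotient_mul_card_subgroup (Subgroup.zpowers w), Nat.card_zpowers,
        orderOf_eq_prime hwp hw1]
      exact lt_mul_of_one_lt_right Nat.card_pos hp.one_lt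
    have hmapc : (Subgroup.center Γ).map (QuotientGroup.mk' (Subgroup.zpowers w)) ≤
        Subgroup.center (Γ ⧸ Subgroup.zpowers w) := by
      rintro _ ⟨c, hc, rfl⟩
      rw [Subgroup.mem_center_iff]
      intro g
      obtain ⟨g, rfl⟩ := QuotientGroup.mk_surjective g
      exact congrArg (QuotientGroup.mk' (Subgroup.zpowers w)) (Subgroup.mem_center_iff.1 hc g)
    have hord : orderOf (QuotientGroup.mk' (Subgroup.zpowers w) z) = p ^ k := by
      apply Nat.dvd_antisymm (hk ▸ orderOf_map_dvd _ z)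
      rw [← hk]
      apply orderOf_dvd_of_pow_eq_one
      generalize horz : orderOf (QuotientGroup.mk' (Subgroup.zpowers w) z) = o
      have h1 : z ^ o ∈ Subgroup.zpowers w := by
        rw [← QuotientGroup.eq_one_iff]
        have := pow_orderOf_eq_one (QuotientGroup.mk' (Subgroup.zpowers w) z)
        rw [horz] at this
        simpa using this
      by_contra hne
      apply hwz
      have h2 : Subgroup.zpowers (z ^ o) = Subgroup.zpowers w := by
        refine Subgroup.eq_of_le_of_card_ge (Subgroup.zpowers_le.2 h1) ?_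
        rw [Nat.card_zpowers, Nat.card_zpowers, orderOf_eq_prime hwp hw1]
        have h3 := Subgroup.card_dvd_of_le (Subgroup.zpowers_le.2 h1)
        rw [Nat.card_zpowers, Nat.card_zpowers, orderOf_eq_prime hwp hw1] at h3
        rcases (Nat.dvd_prime hp).1 h3 with h | h
        · exact absurd (orderOf_eq_one_iff.1 h) hne
        · exact h.ge
      exact Subgroup.zpowers_le.2 (Subgroup.npow_mem_zpowers z o) (h2.symm ▸ Subgroup.mem_zpowers w)
    have hind := ih _ hlt rfl (hΓ.to_quotient _) (QuotientGroup.mk' (Subgroup.zpowers w) z) k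
      (hmapc (Subgroup.mem_map_of_mem _ hz))
      (by
        rw [commutator_def] at hz' ⊢
        have h1 := Subgroup.mem_map_of_mem (QuotientGroup.mk' (Subgroup.zpowers w)) hz'
        rw [Subgroup.map_commutator, ← MonoidHom.range_eq_map,
          MonoidHom.range_eq_top_of_surjective _ (QuotientGroup.mk'_surjective _)] at h1
        exact h1) hord
    exact hind.trans ((Subgroup.index_dvd_of_le hmapc).trans
      (Subgroup.index_map_dvd _ (QuotientGroup.mk'_surjective _)))

/-- For a central subgroup `Z` of a finite group, the square of the order of any element of `Z` in the derived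
subgroup divides the index of `Z`. -/
theorem order_sq_dvd_index {Γ : Type*} [Group Γ] [Finite Γ] (Z : Subgroup Γ) (hZ : Z ≤ Subgroup.center Γ)
    {z : Γ} (hzZ : z ∈ Z) (hz' : z ∈ commutator Γ) : orderOf z ^ 2 ∣ Z.index := by
  apply (Nat.factorization_le_iff_dvd (pow_ne_zero _ (orderOf_pos z).ne') Subgroup.index_ne_zero_of_finite).1
  intro p
  by_cases hp : p.Prime
  swap
  · simp [Nat.factorization_eq_zero_of_not_prime _ hp]
  haveI : Fact p.Prime := ⟨hp⟩
  rw [Nat.factorization_pow, Finsupp.smul_apply, smul_eq_mul]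
  rw [← hp.pow_dvd_iff_le_factorization Subgroup.index_ne_zero_of_finite]
  set k := (orderOf z).factorization p
  obtain ⟨P⟩ : Nonempty (Sylow p Γ) := Sylow.nonempty
  obtain ⟨y, hy, hyZ, hy'⟩ : ∃ y, orderOf y = p ^ k ∧ y ∈ Z ∧ y ∈ commutator Γ :=
    ⟨z ^ (orderOf z / p ^ k), orderOf_pow_orderOf_div (orderOf_pos z).ne' (Nat.ordProj_dvd _ p),
      Z.pow_mem hzZ _, Subgroup.pow_mem _ hz' _⟩
  obtain ⟨hh, hmem⟩ := pow_index_mem_commutator (P : Subgroup Γ) (hZ hyZ) hy'
  have hord : orderOf (y ^ (P : Subgroup Γ).index) = p ^ k := by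
    rw [← hy]
    apply Nat.Coprime.orderOf_pow
    rw [hy]
    exact (hp.coprime_iff_not_dvd.2 P.not_dvd_index).pow_left _
  have h1 := pgroup_case p _ rfl P.isPGroup' ⟨_, hh⟩ k
    (Subgroup.mem_center_iff.2 fun g => Subtype.ext
      (Subgroup.mem_center_iff.1 ((Subgroup.center Γ).pow_mem (hZ hyZ) _) g))
    hmem (by rw [Subgroup.orderOf_mk, hord])
  have hle : Z.subgroupOf (P : Subgroup Γ) ≤ Subgroup.center ↥(P : Subgroup Γ) := fun w hw =>
    Subgroup.mem_center_iff.2 fun g => Subtype.ext (Subgroup.mem_center_iff.1 (hZ hw) g)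
  haveI : Z.Normal := ⟨fun a ha g => by
    rw [Subgroup.mem_center_iff.1 (hZ ha) g, mul_inv_cancel_right]
    exact ha⟩
  exact (h1.trans (Subgroup.index_dvd_of_le hle)).trans (Subgroup.relIndex_dvd_index_of_normal (H := Z) (K := (P : Subgroup Γ)))


/-- If `A` is the Schur multiplier of the finite group `Q`, then the square of the exponent of `A` divides the order of `Q`. -/
theorem result {Q : Type*} [Group Q] [Finite Q] {A : Type*} [CommGroup A] (hA : Cfsg.HasSchurMultiplier Q A) : Monoid.exponent A ^ 2 ∣ Nat.card Q := by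
  classical
  obtain ⟨⟨Γ, _, _, σ, hσ, ⟨e⟩⟩, -⟩ := hA
  haveI : Finite A := Finite.of_equiv _ e.toEquiv
  obtain ⟨a, ha⟩ := Monoid.exists_orderOf_eq_exponent (G := A) Monoid.ExponentExists.of_finite
  rw [← ha]
  have hz : orderOf a = orderOf ((e.symm a : σ.ker) : Γ) := by
    rw [Subgroup.orderOf_coe, MulEquiv.orderOf_eq]
  rw [hz]
  have hidx : σ.ker.index = Nat.card Q := by
    rw [Subgroup.index_ker, MonoidHom.range_eq_top_of_surjective σ hσ.1, Subgroup.card_top]
  rw [← hidx]
  exact order_sq_dvd_index σ.ker hσ.2.1 (e.symm a).2 (hσ.2.2 (e.symm a).2)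

end Cfsg.Agent.S3952
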