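import Cfsg.Statements.S4477
import Cfsg.Agent.Lib.FSInd.Basic
import Cfsg.Agent.Lib.Char.Linear
import Cfsg.Agent.Lib.PGroup.Basic
import Cfsg.Agent.S3952
import Mathlib.Data.ZMod.Basic
import Cfsg.Agent.Lib.Char.Integral
import Mathlib.GroupTheory.FiniteAbelian.Duality
import Cfsg.Agent.EqLemmas

set_option autoImplicit false
open Cfsg

namespace Cfsg.Agent.S4477

/-- Let G be a finite 2-group whose number of involutions is congruent to 1 modulo 4. Then G is cyclic or its commutator subgroup has index 4. -/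
theorem result {G : Type*} [Group G] [Finite G] (hG : IsPGroup 2 G) (ht : Nat.card {x : G // orderOf x = 2} % 4 = 1) : IsCyclic G ∨ (commutator G).index = 4 := by
  classical
  haveI : Fintype G := Fintype.ofFinite G
  haveI := Fintype.ofFinite (IrrCharacter G)
  refine or_iff_not_imp_left.2 fun hncyc => ?_
  haveI : NeZero (Monoid.exponent (Abelianization G)) := ⟨Monoid.exponent_ne_zero_of_finite⟩
  haveI : NeZero ((Monoid.exponent (Abelianization G) : ℕ) : ℂ) := ⟨Nat.cast_ne_zero.2 (NeZero.ne _)⟩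
  obtain ⟨eab⟩ := CommGroup.monoidHom_mulEquiv_of_hasEnoughRootsOfUnity (Abelianization G) ℂ
  haveI : Finite (G →* ℂˣ) := Finite.of_equiv _ (Abelianization.lift (G := G) (A := ℂˣ)).symm
  haveI : Finite (Abelianization G →* ℂˣ) := Finite.of_equiv _ eab.symm.toEquiv
  have hcard : Nat.card (G →* ℂˣ) = (commutator G).index := by
    rw [Nat.card_congr (Abelianization.lift (G := G) (A := ℂˣ)), Nat.card_congr eab.toEquiv,
      Subgroup.index_eq_card]
    rfl
  have hL : IsPGroup 2 (G →* ℂˣ) := by
    intro l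
    obtain ⟨k, hk⟩ := IsPGroup.iff_card.1 hG
    refine ⟨k, MonoidHom.ext fun g => ?_⟩
    rw [MonoidHom.pow_apply, ← map_pow, ← hk, pow_card_eq_one', map_one, MonoidHom.one_apply]
  -- linear characters of square one
  obtain ⟨Ω, hΩ⟩ : ∃ Ω : Subgroup (G →* ℂˣ), ∀ l, l ∈ Ω ↔ l ^ 2 = 1 :=
    ⟨(powMonoidHom 2 : (G →* ℂˣ) →* (G →* ℂˣ)).ker, fun l => MonoidHom.mem_ker⟩
  have hΩ4 : 4 ∣ Nat.card Ω := by
    obtain ⟨r, hr⟩ := IsPGroup.iff_card.1 (hL.to_subgroup Ω)
    rcases r with _ | _ | r
    rotate_left 2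
    · rw [hr]; exact ⟨2 ^ r, by ring⟩
    all_goals
      exfalso
      apply hncyc
      refine PGroup.isCyclic_of_abelianization hG ?_
      obtain ⟨z, hz⟩ : ∃ z : G →* ℂˣ, Ω ≤ Subgroup.zpowers z := by
        haveI : IsCyclic Ω := isCyclic_of_card_dvd_prime (p := 2) (by rw [hr]; norm_num)
        obtain ⟨z, hz⟩ := IsCyclic.exists_generator (α := Ω)
        refine ⟨(z : G →* ℂˣ), fun x hx => ?_⟩
        obtain ⟨k, hk⟩ := Subgroup.mem_zpowers_iff.1 (hz ⟨x, hx⟩)
        exact Subgroup.mem_zpowers_iff.2 ⟨k, by rw [← SubgroupClass.coe_zpow, hk]⟩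
      haveI : IsCyclic (G →* ℂˣ) :=
        Cfsg.Agent.S3952.isCyclic_center_of_unique hL (z := z) fun w hw => hz ((hΩ w).2 hw)
      haveI : IsCyclic (Abelianization G →* ℂˣ) := by
        obtain ⟨g, hg⟩ := IsCyclic.exists_generator (α := G →* ℂˣ)
        refine ⟨Abelianization.lift g, fun x => ?_⟩
        obtain ⟨k, hk⟩ := Subgroup.mem_zpowers_iff.1 (hg (Abelianization.lift.symm x))
        refine Subgroup.mem_zpowers_iff.2 ⟨k, MonoidHom.ext fun a => ?_⟩
        obtain ⟨a, rfl⟩ := QuotientGroup.mk_surjective a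
        have h := congrArg (fun f : G →* ℂˣ => f a) hk
        simp only [MonoidHom.zpow_apply] at h ⊢
        show ((Abelianization.lift g) (Abelianization.of a)) ^ k = _
        rw [Abelianization.lift_apply_of]
        exact h
      exact isCyclic_of_surjective eab.toMonoidHom eab.surjective
  -- degrees
  choose d hd0 hd using fun χ : IrrCharacter G => Char.IsIrrCharacter.exists_degree χ.2
  have hdpow : ∀ χ : IrrCharacter G, d χ = 1 ∨ d χ = 2 ∨ 4 ∣ d χ := by
    intro χ
    obtain ⟨k, hk⟩ := IsPGroup.iff_card.1 hG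
    obtain ⟨n, -, hn, hdvd⟩ := Char.IsIrrCharacter.degree_dvd_card χ.2
    have : d χ = n := by exact_mod_cast (hd χ).symm.trans hn
    rw [← this, hk] at hdvd
    obtain ⟨i, -, hi⟩ := (Nat.dvd_prime_pow Nat.prime_two).1 hdvd
    rcases i with _ | _ | i
    · exact Or.inl hi
    · exact Or.inr (Or.inl hi)
    · exact Or.inr (Or.inr ⟨2 ^ i, by rw [hi]; ring⟩)
  have hν : ∀ χ : IrrCharacter G, ∃ e : ℤ, FSInd.fsInd (χ : G → ℂ) = e ∧
      (e : ZMod 4) * 2 = (if (∀ g : G, ((χ : G → ℂ) g).im = 0) then 2 else 0) ∧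
      (d χ = 1 → e = if (∀ g : G, ((χ : G → ℂ) g).im = 0) then 1 else 0) := by
    intro χ
    by_cases hr : ∀ g : G, ((χ : G → ℂ) g).im = 0
    · rcases FSInd.fsInd_eq_one_or_neg_one χ.2 hr with h | h
      · exact ⟨1, by rw [h, Int.cast_one], by rw [if_pos hr]; norm_num, fun _ => (if_pos hr).symm⟩
      · refine ⟨-1, by rw [h]; norm_num, by rw [if_pos hr]; decide, fun hd1 => ?_⟩
        exfalso
        obtain ⟨l, hl⟩ := Char.exists_hom_of_degree_one (Char.IsIrrCharacter.isCharacter χ.2)
          (by rw [hd χ, hd1, Nat.cast_one])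
        have hsq : ∀ s : G, (χ : G → ℂ) (s * s) = 1 := fun s => by
          have h1 := Char.IsCharacter.apply_inv (Char.IsIrrCharacter.isCharacter χ.2) s
          rw [Complex.conj_eq_iff_im.2 (hr s)] at h1
          have h2 : l (s * s) = l (s * s⁻¹) := by
            rw [map_mul, map_mul, hl, h1]
          rw [← hl, h2, mul_inv_cancel, map_one]
        rw [FSInd.fsInd, Finset.sum_congr rfl fun s _ => hsq s, Finset.sum_const, Finset.card_univ,
          nsmul_one, ← Nat.card_eq_fintype_card, inv_mul_cancel₀ FSInd.card_ne] at h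
        norm_num at h
    · refine ⟨0, by rw [FSInd.fsInd_eq_zero_of_not_real χ.2 hr, Int.cast_zero],
        by rw [if_neg hr]; norm_num, fun _ => (if_neg hr).symm⟩
  choose e he he2 he1 using hν
  obtain ⟨A1, hA1⟩ : ∃ A1 : Finset (IrrCharacter G), A1 = Finset.univ.filter fun χ : IrrCharacter G =>
      d χ = 1 ∧ ∀ g : G, ((χ : G → ℂ) g).im = 0 := ⟨_, rfl⟩
  obtain ⟨A2, hA2⟩ : ∃ A2 : Finset (IrrCharacter G), A2 = Finset.univ.filter fun χ : IrrCharacter G =>
      d χ = 2 ∧ ∀ g : G, ((χ : G → ℂ) g).im = 0 := ⟨_, rfl⟩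
  have hsq : Nat.card {s : G // s * s = 1} = Nat.card {x : G // orderOf x = 2} + 1 := by
    rw [Nat.card_eq_fintype_card, Nat.card_eq_fintype_card, Fintype.card_subtype, Fintype.card_subtype]
    rw [show (Finset.univ.filter fun s : G => s * s = 1) =
      insert 1 (Finset.univ.filter fun x : G => orderOf x = 2) from ?_, Finset.card_insert_of_notMem (by simp)]
    ext x
    simp only [Finset.mem_filter, Finset.mem_univ, true_and, Finset.mem_insert, ← pow_two]
    constructor
    · intro h
      by_cases h1 : x = 1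
      · exact Or.inl h1
      · exact Or.inr (orderOf_eq_prime h h1)
    · rintro (rfl | h)
      · exact one_pow 2
      · rw [← h]; exact pow_orderOf_eq_one x
  have hmain : ((Nat.card {x : G // orderOf x = 2} + 1 : ℕ) : ZMod 4) =
      (A1.card : ZMod 4) + 2 * (A2.card : ZMod 4) := by
    have h := FSInd.card_sqrt_eq_sum (G := G) 1
    rw [hsq] at h
    simp only [he, hd] at h
    have h' : ((Nat.card {x : G // orderOf x = 2} + 1 : ℕ) : ℤ) = ∑ χ : IrrCharacter G, e χ * (d χ : ℤ) := by
      exact_mod_cast h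
    have h'' := congrArg (fun z : ℤ => (z : ZMod 4)) h'
    simp only [Int.cast_natCast, Int.cast_sum, Int.cast_mul] at h''
    rw [h'', hA1, hA2, Finset.natCast_card_filter, Finset.natCast_card_filter, Finset.mul_sum,
      ← Finset.sum_add_distrib]
    refine Finset.sum_congr rfl fun χ _ => ?_
    rcases hdpow χ with h1 | h1 | h1
    · rw [h1, he1 χ h1]
      by_cases hr : ∀ g : G, ((χ : G → ℂ) g).im = 0
      · simp only [eq_true hr, if_true, and_true, one_ne_zero, if_false]
        norm_num
      · simp only [eq_false hr, if_false, and_false]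
        norm_num
    · rw [h1]
      push_cast
      rw [he2 χ]
      by_cases hr : ∀ g : G, ((χ : G → ℂ) g).im = 0
      · simp only [eq_true hr, if_true, and_true]
        norm_num
      · simp only [eq_false hr, if_false, and_false]
        norm_num
    · obtain ⟨c, hc⟩ := h1
      have h4 : (4 : ZMod 4) = 0 := by decide
      rw [if_neg (fun h => by omega), if_neg (fun h => by omega), hc, Nat.cast_mul]
      rw [show ((4 : ℕ) : ZMod 4) = 0 from by decide]
      ring
  -- real linear characters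
  have hA1' : A1.card = Nat.card Ω := by
    rw [hA1, ← Fintype.card_subtype, ← Nat.card_eq_fintype_card]
    symm
    refine Nat.card_congr (Equiv.ofBijective (fun l : Ω => ⟨((Char.linearCharEquiv G) l.1).1, ?_, ?_⟩) ⟨?_, ?_⟩)
    · have h := ((Char.linearCharEquiv G) l.1).2
      rw [hd] at h
      exact_mod_cast h
    · intro g
      have h : (l.1 g : ℂ) * (l.1 g : ℂ) = 1 := by
        have := congrArg (fun f : G →* ℂˣ => ((f g : ℂˣ) : ℂ)) ((hΩ l.1).1 l.2)
        simpa [pow_two] using this
      show ((l.1 g : ℂ)).im = 0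
      rcases mul_self_eq_one_iff.1 h with h | h <;> simp [h]
    · intro a b hab
      have h := congrArg Subtype.val hab
      exact Subtype.ext ((Char.linearCharEquiv G).injective (Subtype.ext h))
    · rintro ⟨χ, h1, hr⟩
      have hχ1 : (χ : G → ℂ) 1 = 1 := by rw [hd, h1, Nat.cast_one]
      obtain ⟨l, hl⟩ := (Char.linearCharEquiv G).surjective ⟨χ, hχ1⟩
      refine ⟨⟨l, (hΩ l).2 (MonoidHom.ext fun g => Units.ext ?_)⟩, Subtype.ext ?_⟩
      · have hlg : (l g : ℂ) = (χ : G → ℂ) g := congrArg (fun x => (x.1 : G → ℂ) g) hl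
        have hinv : (l g⁻¹ : ℂ) = (χ : G → ℂ) g⁻¹ := congrArg (fun x => (x.1 : G → ℂ) g⁻¹) hl
        rw [Char.IsCharacter.apply_inv (Char.IsIrrCharacter.isCharacter χ.2),
          Complex.conj_eq_iff_im.2 (hr g), ← hlg] at hinv
        rw [MonoidHom.pow_apply, MonoidHom.one_apply, Units.val_pow_eq_pow_val, Units.val_one, pow_two]
        nth_rewrite 2 [← hinv]
        rw [← Units.val_mul, ← map_mul, mul_inv_cancel, map_one, Units.val_one]
      · exact (congrArg (fun x => x.1) hl : ((Char.linearCharEquiv G) l).1 = χ)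
  have hA2odd : Odd A2.card := by
    obtain ⟨c, hc⟩ := hA1' ▸ hΩ4
    rw [hc, Nat.cast_mul, show ((4 : ℕ) : ZMod 4) = 0 from by decide, zero_mul, zero_add,
      ← Nat.div_add_mod (Nat.card {x : G // orderOf x = 2}) 4, ht] at hmain
    push_cast at hmain
    rw [show (4 : ZMod 4) = 0 from by decide, zero_mul, zero_add] at hmain
    rw [← Nat.not_even_iff_odd]
    rintro ⟨c', hc'⟩
    rw [hc', Nat.cast_add, ← two_mul (c' : ZMod 4), ← mul_assoc,
      show (2 : ZMod 4) * 2 = 0 from by decide, zero_mul] at hmain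
    exact absurd hmain (by decide)
  -- the degree two characters
  obtain ⟨D, hD⟩ : ∃ D : Finset (IrrCharacter G),
      D = Finset.univ.filter fun χ : IrrCharacter G => d χ = 2 := ⟨_, rfl⟩
  have hDodd : Odd D.card := by
    rw [← ZMod.natCast_eq_one_iff_odd, Finset.card_eq_sum_ones, Nat.cast_sum,
      ← Finset.sum_filter_add_sum_filter_not D (fun χ : IrrCharacter G => ∀ g : G, ((χ : G → ℂ) g).im = 0)]
    rw [show D.filter (fun χ : IrrCharacter G => ∀ g : G, ((χ : G → ℂ) g).im = 0) = A2 from by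
      rw [hD, hA2, Finset.filter_filter]]
    rw [← Nat.cast_sum, ← Finset.card_eq_sum_ones, (ZMod.natCast_eq_one_iff_odd).2 hA2odd, add_eq_left]
    refine Finset.sum_involution
      (fun χ _ => ⟨fun g => starRingEnd ℂ ((χ : G → ℂ) g), Char.IsIrrCharacter.conj χ.2⟩)
      (fun χ _ => by decide) (fun χ hχ _ h => ?_) (fun χ hχ => ?_)
      (fun χ _ => Subtype.ext (funext fun g => Complex.conj_conj _))
    · refine (Finset.mem_filter.1 hχ).2 fun g => Complex.conj_eq_iff_im.1 ?_
      exact congrFun (congrArg Subtype.val h) g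
    · rw [Finset.mem_filter, hD, Finset.mem_filter] at hχ ⊢
      refine ⟨⟨Finset.mem_univ _, ?_⟩, fun hr => hχ.2 fun g => ?_⟩
      · rw [← hχ.1.2]
        have h := hd ⟨fun g => starRingEnd ℂ ((χ : G → ℂ) g), Char.IsIrrCharacter.conj χ.2⟩
        simp only [hd χ, map_natCast] at h
        exact_mod_cast h.symm
      · have := hr g
        simpa using this
  -- an orbit of length one under multiplication by linear characters
  let X := {χ : IrrCharacter G // d χ = 2}
  letI : MulAction (G →* ℂˣ) X :=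
    { smul := fun l χ => ⟨⟨fun g => (χ.1 : G → ℂ) g * ((Units.coeHom ℂ).comp l) g,
          Char.IsIrrCharacter.mul_linear χ.1.2 _⟩, by
            have h := hd ⟨fun g => (χ.1 : G → ℂ) g * ((Units.coeHom ℂ).comp l) g,
              Char.IsIrrCharacter.mul_linear χ.1.2 _⟩
            simp only [map_one, mul_one, hd χ.1, χ.2] at h
            exact_mod_cast h.symm⟩
      one_smul := fun χ => Subtype.ext (Subtype.ext (funext fun g => by
        show (χ.1 : G → ℂ) g * _ = _
        simp))
      mul_smul := fun l m χ => Subtype.ext (Subtype.ext (funext fun g => by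
        show (χ.1 : G → ℂ) g * _ = (χ.1 : G → ℂ) g * _ * _
        simp [mul_assoc, mul_comm ((l g : ℂ))])) }
  haveI : Nonempty (MulAction.fixedPoints (G →* ℂˣ) X) := by
    have h := hL.card_modEq_card_fixedPoints (α := X)
    by_contra hne
    rw [not_nonempty_iff] at hne
    have hXc : Nat.card X = D.card := by
      rw [hD, Nat.card_eq_fintype_card, Fintype.card_subtype]
    rw [hXc, Nat.card_of_isEmpty] at h
    have h0 : D.card % 2 = 0 := h
    rw [Nat.odd_iff] at hDodd
    omega
  obtain ⟨⟨χ, hχ⟩, hfix⟩ := this.some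
  -- it vanishes off the derived subgroup
  have hvan : ∀ g : G, g ∉ commutator G → (χ : G → ℂ) g = 0 := by
    intro g hg
    by_contra hne
    refine hg ?_
    rw [← QuotientGroup.eq_one_iff]
    by_contra h1
    obtain ⟨φ, hφ⟩ := CommGroup.exists_apply_ne_one_of_hasEnoughRootsOfUnity (G := Abelianization G) ℂ h1
    have h := congrArg (fun x : X => (x.1 : G → ℂ) g) (hfix (φ.comp Abelianization.of))
    change (χ : G → ℂ) g * ((φ (Abelianization.of g) : ℂˣ) : ℂ) = (χ : G → ℂ) g at h
    exact hφ (Units.ext ((mul_eq_left₀ hne).1 h))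
  have hnorm := Char.classInner_irr_self χ.2
  rw [classInner, inv_mul_eq_iff_eq_mul₀ FSInd.card_ne, mul_one] at hnorm
  have hb : (Nat.card G : ℝ) ≤ Nat.card (commutator G) * 4 := by
    have h := congrArg Complex.re hnorm
    rw [Complex.re_sum, Complex.natCast_re] at h
    rw [← h, ← Finset.sum_subset (Finset.subset_univ (Finset.univ.filter fun g : G => g ∈ commutator G))
      fun g _ hg => by
        rw [hvan g (fun hh => hg (Finset.mem_filter.2 ⟨Finset.mem_univ _, hh⟩)), zero_mul, Complex.zero_re]]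
    refine (Finset.sum_le_card_nsmul _ _ 4 fun g _ => ?_).trans ?_
    · have h2 := Char.IsCharacter.norm_le (Char.IsIrrCharacter.isCharacter χ.2) g
      rw [hd, hχ] at h2
      rw [Complex.mul_conj, Complex.ofReal_re, Complex.normSq_eq_norm_sq]
      have : ((2 : ℕ) : ℂ).re = 2 := by simp
      rw [this] at h2
      nlinarith [norm_nonneg ((χ : G → ℂ) g)]
    · rw [nsmul_eq_mul, Nat.card_eq_fintype_card, Fintype.card_subtype]
  have hle : (commutator G).index ≤ 4 := by
    have h : Nat.card G ≤ Nat.card (commutator G) * 4 := by exact_mod_cast hb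
    rw [← Subgroup.card_mul_index (commutator G)] at h
    exact Nat.le_of_mul_le_mul_left h Nat.card_pos
  have hge : 4 ≤ (commutator G).index := by
    rw [← hcard]
    exact (Nat.le_of_dvd Nat.card_pos hΩ4).trans (Subgroup.card_le_card_group Ω)
  omega

end Cfsg.Agent.S4477
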