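import Cfsg.Statements.S3049
import Cfsg.Agent.Lib.Isolated.Basic
import Cfsg.Agent.Lib.Components.GenFitting
import Cfsg.Agent.Lib.Components.Quasisimple
import Cfsg.Agent.Lib.Cores.Subnormal
import Cfsg.Agent.Lib.Transfer.Alperin
import Cfsg.Agent.Lib.Coprime.PQ

set_option autoImplicit false
open Cfsg

namespace Cfsg.Agent.S3049

variable {G : Type*} [Group G] [Finite G] {p : ℕ} [Fact p.Prime]

/-- In each component some element of order `p` of the given Sylow subgroup is moved inside it. -/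
theorem exists_moved (hp : p ≠ 2) (hcore : Cfsg.pPrimeCore p G = ⊥) (P : Sylow p G) {L : Subgroup G}
    (hL : Cfsg.IsComponent L) :
    ∃ y ∈ (P : Subgroup G) ⊓ L, orderOf y = p ∧
      ∃ n ∈ L, n * y * n⁻¹ ∈ (P : Subgroup G) ∧ n * y * n⁻¹ ≠ y := by
  have hpp : p.Prime := Fact.out
  by_contra hcon
  push Not at hcon
  let T : Sylow p ↥L := (P.isPGroup'.comap_subtype (K := L)).toSylow
    (Cores.not_dvd_relIndex_of_isSubnormal P hL.1)
  have hloc : ∀ R : Subgroup ↥L, Transfer.IsFullyNormalized p (T : Subgroup ↥L) R → R ≠ ⊥ →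
      ∀ n ∈ Subgroup.normalizer (R : Set ↥L), Nat.Coprime (orderOf n) p →
        n ∈ Subgroup.centralizer (R : Set ↥L) := by
    intro R hR _ n hn hco
    refine Coprime.le_centralizer_of_fixing_order_p p hp (T.isPGroup'.to_le hR.1) (Subgroup.zpowers_le.mpr hn)
      (by rwa [Nat.card_zpowers]) ?_ (Subgroup.mem_zpowers n)
    intro y hy hyo
    rw [Subgroup.mem_centralizer_iff]
    intro m hm
    obtain ⟨i, rfl⟩ := hm
    have hyP : (y : G) ∈ (P : Subgroup G) := hR.1 hy
    have hy' : n * y * n⁻¹ ∈ R := (Subgroup.mem_normalizer_iff.mp hn y).mp hy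
    have hfix : (n : G) * y * (n : G)⁻¹ = y := hcon y ⟨hyP, y.2⟩ (by rw [Subgroup.orderOf_coe]; exact hyo) n n.2
      (show ((n * y * n⁻¹ : ↥L) : G) ∈ (P : Subgroup G) from hR.1 hy')
    have hc : Commute n y := Subtype.ext (mul_inv_eq_iff_eq_mul.mp hfix)
    exact (hc.zpow_left i).eq
  obtain ⟨T', N, hN, hNT⟩ := Transfer.hasNormalPComplement_of_local T hloc
  haveI := hN
  have hq : IsPGroup p (↥L ⧸ N) := by
    obtain ⟨k, hk⟩ := IsPGroup.iff_card.mp T'.isPGroup'
    exact IsPGroup.of_card (n := k) ((Subgroup.index_eq_card N).symm.trans (hNT.symm.index_eq_card.trans hk))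
  have htop : N = ⊤ := by
    rcases Components.IsQuasisimple.normal_eq_top_or_le_center hL.2 N with h | h
    · exact h
    exfalso
    haveI : Group.IsNilpotent (↥L ⧸ N) := hq.isNilpotent
    exact Components.IsQuasisimple.not_isNilpotent hL.2
      (Subgroup.isNilpotent_of_ker_le_center (QuotientGroup.mk' N)
        (by rw [QuotientGroup.ker_mk']; exact h))
  have hcop : (Nat.card ↥L).Coprime p := by
    have h := hNT.index_eq_card
    have h1 := (T' : Subgroup ↥L).card_mul_index
    rw [h, htop, Subgroup.card_top] at h1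
    have h2 : Nat.card ↥(T' : Subgroup ↥L) = 1 :=
      (Nat.mul_eq_right (Nat.card_pos (α := ↥L)).ne').mp h1
    rw [← (T' : Subgroup ↥L).card_mul_index, h2, one_mul, Nat.coprime_comm, hpp.coprime_iff_not_dvd]
    exact T'.not_dvd_index
  exact Components.IsComponent.ne_bot hL (le_bot_iff.mp (hcore ▸ Cores.le_pPrimeCore_of_isSubnormal hL.1 hcop))

/-- Three pairwise commuting elements of order `p` in rank at most two are dependent. -/
theorem dependent (hrank : Cfsg.PRankLE p 2 G) {x a b : G} (hx : x ^ p = 1) (ha : orderOf a = p)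
    (hb : orderOf b = p) (hxa : Commute x a) (hxb : Commute x b) (hab : Commute a b)
    (hne : b ∉ Subgroup.zpowers a) : ∃ i j : ℤ, x = a ^ i * b ^ j := by
  have hpp : p.Prime := Fact.out
  set A := Subgroup.closure ({x, a, b} : Set G)
  haveI hAc : IsMulCommutative A := Subgroup.isMulCommutative_closure (by
    rintro u (rfl | rfl | rfl) v (rfl | rfl | rfl) <;>
      first | rfl | exact hxa.eq | exact hxa.eq.symm | exact hxb.eq | exact hxb.eq.symm | exact hab.eq | exact hab.eq.symm)
  have hexp : ∀ u ∈ A, u ^ p = 1 := by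
    intro u hu
    have hgen : ∀ v ∈ ({x, a, b} : Set G), v ^ p = 1 := by
      rintro v (rfl | rfl | rfl)
      · exact hx
      · exact orderOf_dvd_iff_pow_eq_one.mp ha.dvd
      · exact orderOf_dvd_iff_pow_eq_one.mp hb.dvd
    induction hu using Subgroup.closure_induction with
    | mem v hv => exact hgen v hv
    | one => exact one_pow p
    | mul v w hv hw h1 h2 =>
      have hc : Commute v w := congrArg Subtype.val (mul_comm' (⟨v, hv⟩ : A) ⟨w, hw⟩)
      rw [hc.mul_pow, h1, h2, one_mul]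
    | inv v _ h1 => rw [inv_pow, h1, inv_one]
  have hA : Nat.card A ≤ p ^ 2 := hrank A hAc hexp
  set B := Subgroup.zpowers a ⊔ Subgroup.zpowers b
  have hBA : B ≤ A := sup_le (Subgroup.zpowers_le.mpr (Subgroup.subset_closure (by simp)))
    (Subgroup.zpowers_le.mpr (Subgroup.subset_closure (by simp)))
  have hlt : Subgroup.zpowers a < B :=
    lt_of_le_of_ne le_sup_left fun h => hne (h.ge (Subgroup.mem_sup_right (Subgroup.mem_zpowers b)))
  have hBc : p ^ 2 ≤ Nat.card B := by
    obtain ⟨k, hk⟩ : ∃ k, Nat.card B = p ^ k := IsPGroup.iff_card.mp (fun u =>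
      ⟨1, Subtype.ext (by rw [pow_one]; exact hexp u (hBA u.2))⟩)
    have h1 : p < Nat.card B := by
      calc p = Nat.card (Subgroup.zpowers a) := by rw [Nat.card_zpowers, ha]
        _ < _ := lt_of_le_of_ne (Subgroup.card_le_of_le hlt.le)
            (fun h => hlt.ne (Subgroup.eq_of_le_of_card_ge hlt.le h.ge))
    rw [hk] at h1 ⊢
    refine Nat.pow_le_pow_right hpp.pos ?_
    by_contra hk2
    have : p ^ k ≤ p ^ 1 := Nat.pow_le_pow_right hpp.pos (by omega)
    rw [pow_one] at this
    omega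
  have hBeq : B = A := Subgroup.eq_of_le_of_card_ge hBA (hA.trans hBc)
  have hxB : x ∈ (B : Set G) := hBeq.ge (Subgroup.subset_closure (by simp))
  rw [Subgroup.coe_mul_of_left_le_normalizer_right] at hxB
  · obtain ⟨_, ⟨i, rfl⟩, _, ⟨j, rfl⟩, rfl⟩ := hxB
    exact ⟨i, j, rfl⟩
  · refine Subgroup.zpowers_le.mpr (Subgroup.centralizer_le_normalizer _ ?_)
    rintro _ ⟨j, rfl⟩
    exact (hab.zpow_right j).eq.symm

theorem zpow_eq_one_of_moved {x y y' b : G} (hy : orderOf y = p) (hy' : orderOf y' = p) {i j : ℤ}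
    (hx : x = y ^ i * b ^ j) (h : y' ^ i * b ^ j = x) (hne : y' ≠ y) :
    y ^ i = 1 := by
  rw [hx, mul_left_inj] at h
  by_contra hyi
  apply hne
  have hpi : ¬ (p : ℤ) ∣ i := by
    intro hd
    exact hyi (by rw [← orderOf_dvd_iff_zpow_eq_one, hy]; exact hd)
  obtain ⟨u, v, huv⟩ := ((Prime.coprime_iff_not_dvd (Nat.prime_iff_prime_int.mp Fact.out)).mpr hpi)
  have hrec : ∀ w : G, orderOf w = p → w = (w ^ i) ^ v := by
    intro w hw
    conv_lhs => rw [← zpow_one w, ← huv, zpow_add, mul_comm u, zpow_mul, zpow_natCast,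
      orderOf_dvd_iff_pow_eq_one.mp hw.dvd, one_zpow, one_mul, mul_comm v, zpow_mul]
  rw [hrec y' hy', h, ← hrec y hy]

/-- Let G be a finite group and p an odd prime with O_{p'}(G) = 1. Suppose that G has p-rank at most 2 (no elementary abelian subgroup of order p³) and that some element x of order p is isolated in G (no G-conjugate of x other than x commutes with x) and not central. Then the generalized Fitting subgroup F*(G) is a non-abelian simple group. Since O_{p'}(G) = 1, such an x is not central modulo O_{p'}(G): the hypotheses describe a counterexample to the Z*_p statement in p-rank at most 2. -/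
theorem result {G : Type*} [Group G] [Finite G] {p : ℕ} [Fact p.Prime] (hp : p ≠ 2) (hcore : Cfsg.pPrimeCore p G = ⊥)
    (hrank : Cfsg.PRankLE p 2 G) (x : G) (hx : orderOf x = p) (hiso : Cfsg.IsIsolated x) (hnc : x ∉ Subgroup.center G) :
    IsSimpleGroup ↥(Cfsg.generalizedFittingSubgroup G) ∧ ¬ IsMulCommutative ↥(Cfsg.generalizedFittingSubgroup G) := by
  have hpp : p.Prime := Fact.out
  obtain ⟨P, hP⟩ := (Isolated.isPGroup_zpowers (p := p) (x := x) (k := 1) (by rw [pow_one]; exact hx)).exists_le_sylow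
  have hxP : x ∈ (P : Subgroup G) := hP (Subgroup.mem_zpowers x)
  have hPc : ∀ u ∈ (P : Subgroup G), Commute x u := fun u hu =>
    (Subgroup.mem_centralizer_singleton_iff.mp (Isolated.commute_of_mem_pGroup hiso P.isPGroup' hxP hu)).symm
  -- `x` lies in no normal `p`-subgroup
  have hxN : x ∉ Cfsg.pCore p G := fun h => hnc (Subgroup.mem_center_iff.mpr fun g =>
    mul_inv_eq_iff_eq_mul.mp (hiso g (hPc _ (Cores.pCore_le_sylow P ((Cores.pCore_normal p G).conj_mem x h g)))))
  have hFp : Cfsg.fittingSubgroup G = Cfsg.pCore p G := Components.fitting_eq_pCore_of hcore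
  -- a component exists
  have hE : Cfsg.layer G ≠ ⊥ := by
    intro h
    have h1 := Components.layer_eq_bot_iff_centralizer_fitting_le.mpr h
    rw [hFp] at h1
    exact hxN (h1 fun u hu => (hPc u (Cores.pCore_le_sylow P hu)).eq.symm)
  obtain ⟨L, hL⟩ : ∃ L : Subgroup G, Cfsg.IsComponent L := by
    by_contra h
    push Not at h
    exact hE (Components.layer_eq_bot_iff.mpr h)
  have hmove : ∀ {K : Subgroup G}, ∀ {b : G}, (∀ k ∈ K, Commute k b) →
      ∀ {y n : G}, n ∈ K → orderOf y = p → n * y * n⁻¹ ∈ (P : Subgroup G) →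
      n * y * n⁻¹ ≠ y → ∀ i j : ℤ, x = y ^ i * b ^ j → Commute x b → y ^ i = 1 := by
    intro K b hKb y n hn hyo hn1 hn2 i j hxe hxb
    refine zpow_eq_one_of_moved (y' := n * y * n⁻¹) hyo ((MulEquiv.orderOf_eq (MulAut.conj n) y).trans hyo) hxe ?_ hn2
    have h1 : n * x * n⁻¹ = (n * y * n⁻¹) ^ i * b ^ j := by
      rw [conj_zpow, hxe]
      calc n * (y ^ i * b ^ j) * n⁻¹ = n * y ^ i * ((b ^ j) * n⁻¹) := by group
        _ = n * y ^ i * (n⁻¹ * b ^ j) := by rw [((hKb n hn).inv_left.zpow_right j).eq]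
        _ = n * y ^ i * n⁻¹ * b ^ j := by group
    rw [← h1]
    exact hiso n (h1 ▸ (((hPc _ hn1).zpow_right i).mul_right (hxb.zpow_right j)))
  have hxp : x ^ p = 1 := orderOf_dvd_iff_pow_eq_one.mp hx.dvd
  have hx1 : x ≠ 1 := fun h => by rw [h, orderOf_one] at hx; exact hpp.ne_one hx.symm
  have hnotZ : ∀ {y n : G}, n * y * n⁻¹ ≠ y → ∀ {b : G}, Commute n b → y ∉ Subgroup.zpowers b := by
    intro y n h b hnb ⟨i, hi⟩
    change b ^ i = y at hi
    apply h
    rw [← hi, (hnb.zpow_right i).eq, mul_inv_cancel_right]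
  -- only one component
  have huniq : ∀ K : Subgroup G, Cfsg.IsComponent K → K = L := by
    intro K hK
    by_contra hne
    obtain ⟨y, hy, hyo, n, hn, hn1, hn2⟩ := exists_moved hp hcore P hL
    obtain ⟨z, hz, hzo, m, hm, hm1, hm2⟩ := exists_moved hp hcore P hK
    have hcm : ∀ a ∈ L, ∀ b ∈ K, Commute a b := fun a ha b hb =>
      (Subgroup.commutator_eq_bot_iff_le_centralizer.mp (Components.IsComponent.commutator_eq_bot hL hK (Ne.symm hne))
        ha b hb).symm
    obtain ⟨i, j, hij⟩ := dependent hrank hxp hyo hzo (hPc y hy.1) (hPc z hz.1) (hcm y hy.2 z hz.2)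
      (hnotZ hm2 (hcm y hy.2 m hm).symm)
    have e1 := hmove (fun k hk => hcm k hk z hz.2) hn hyo hn1 hn2 i j hij (hPc z hz.1)
    have e2 := hmove (fun k hk => (hcm y hy.2 k hk).symm) hm hzo hm1 hm2 j i
      (hij.trans (((hcm y hy.2 z hz.2).zpow_zpow i j).eq)) (hPc y hy.1)
    rw [e1, e2, one_mul] at hij
    exact hx1 hij
  have hlayer : Cfsg.layer G = L := le_antisymm
    (Components.layer_le fun K hK => (huniq K hK).le) (Components.IsComponent.le_layer hL)
  -- `O_p(G)` is trivial
  have hO : Cfsg.pCore p G = ⊥ := by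
    by_contra hO
    obtain ⟨y, hy, hyo, n, hn, hn1, hn2⟩ := exists_moved hp hcore P hL
    obtain ⟨k, hk⟩ := IsPGroup.iff_card.mp (Cores.isPGroup_pCore p G)
    have hk0 : k ≠ 0 := by
      rintro rfl
      exact hO (Subgroup.card_eq_one.mp (by simpa using hk))
    obtain ⟨⟨z, hz⟩, hzo⟩ := exists_prime_orderOf_dvd_card' p
      (show p ∣ Nat.card ↥(Cfsg.pCore p G) from hk ▸ dvd_pow_self p hk0)
    rw [← Subgroup.orderOf_coe] at hzo
    change orderOf z = p at hzo
    have hzP := Cores.pCore_le_sylow P hz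
    have hLz : ∀ a ∈ L, Commute a z := fun a ha =>
      (Components.layer_le_centralizer_fitting (Components.IsComponent.le_layer hL ha) z (hFp.ge hz)).symm
    have hyz : z ∉ Subgroup.zpowers y := fun h => by
      have hle := Subgroup.zpowers_le.mpr h
      have heq := Subgroup.eq_of_le_of_card_ge hle (by rw [Nat.card_zpowers, Nat.card_zpowers, hzo, hyo])
      exact hnotZ hn2 (hLz n hn) (heq.ge (Subgroup.mem_zpowers y))
    obtain ⟨i, j, hij⟩ := dependent hrank hxp hyo hzo (hPc y hy.1) (hPc z hzP) (hLz y hy.2) hyz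
    have e1 := hmove hLz hn hyo hn1 hn2 i j hij (hPc z hzP)
    rw [e1, one_mul] at hij
    exact hxN (hij ▸ Subgroup.zpow_mem _ hz j)
  have hF : Cfsg.fittingSubgroup G = ⊥ := hFp.trans hO
  have hstar : Cfsg.generalizedFittingSubgroup G = L := by
    rw [Cfsg.generalizedFittingSubgroup, hlayer, hF, sup_bot_eq]
  rw [hstar]
  refine ⟨?_, fun h => Components.IsComponent.not_le_centralizer hL (Subgroup.le_centralizer_iff_isMulCommutative.mpr h)⟩
  have hZ : Subgroup.center ↥L = ⊥ := by
    refine (Subgroup.map_eq_bot_iff_of_injective _ L.subtype_injective).mp (le_bot_iff.mp (hF ▸ ?_))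
    refine (Subgroup.map_mono (Cores.center_le_fittingSubgroup (G := ↥L))).trans ?_
    exact Cores.fittingSubgroup_map_le_of_isSubnormal hL.1
  haveI : IsSimpleGroup (↥L ⧸ Subgroup.center ↥L) := hL.2.2
  exact ((QuotientGroup.quotientMulEquivOfEq hZ).trans QuotientGroup.quotientBot).isSimpleGroup_congr.mp hL.2.2

end Cfsg.Agent.S3049
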