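import Cfsg.Statements.S4035
import Cfsg.Agent.EqLemmas
import Cfsg.Agent.Lib.Transfer.Residual
import Cfsg.Agent.Lib.Solvable.SchurZassenhaus

set_option autoImplicit false
open Cfsg
open scoped Pointwise

namespace Cfsg.Agent.S4035


theorem ncard_carrier_eq_index {G : Type*} [Group G] (x : G) :
    (ConjClasses.mk x).carrier.ncard = (Subgroup.centralizer ({x} : Set G)).index := by
  rw [← ConjAct.orbit_eq_carrier_conjClasses, ← MulAction.index_stabilizer,
    Subgroup.centralizer_eq_comap_stabilizer]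
  exact (Subgroup.index_comap_of_surjective (f := ConjAct.toConjAct.toMonoidHom) _
    ConjAct.toConjAct.surjective).symm

theorem eq_top_of_forall_conj {G : Type*} [Group G] [Finite G] (H : Subgroup G)
    (h : ∀ x : G, ∃ g : G, g⁻¹ * x * g ∈ H) : H = ⊤ := by
  classical
  haveI := Fintype.ofFinite G
  haveI := Fintype.ofFinite (G ⧸ H)
  haveI : ∀ g : G, Fintype (MulAction.fixedBy (G ⧸ H) g) := fun g => Fintype.ofFinite _
  haveI : Fintype (Quotient (MulAction.orbitRel G (G ⧸ H))) := Fintype.ofFinite _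
  haveI : Subsingleton (Quotient (MulAction.orbitRel G (G ⧸ H))) :=
    MulAction.pretransitive_iff_subsingleton_quotient G (G ⧸ H) |>.1 inferInstance
  have h1 : Fintype.card (Quotient (MulAction.orbitRel G (G ⧸ H))) = 1 :=
    le_antisymm (Fintype.card_le_one_iff_subsingleton.2 inferInstance)
      (Fintype.card_pos_iff.2 ⟨Quotient.mk'' ((1 : G) : G ⧸ H)⟩)
  have hsum := MulAction.sum_card_fixedBy_eq_card_orbits_mul_card_group G (G ⧸ H)
  rw [h1, one_mul] at hsum
  have hpos : ∀ g : G, 1 ≤ Fintype.card (MulAction.fixedBy (G ⧸ H) g) := fun g => by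
    obtain ⟨k, hk⟩ := h g
    refine Fintype.card_pos_iff.2 ⟨⟨(k : G ⧸ H), ?_⟩⟩
    show g • (k : G ⧸ H) = k
    rw [MulAction.Quotient.smul_coe, smul_eq_mul, QuotientGroup.eq]
    convert H.inv_mem hk using 1
    group
  have hone : Fintype.card (MulAction.fixedBy (G ⧸ H) (1 : G)) = 1 := by
    have e : ∑ g : G, Fintype.card (MulAction.fixedBy (G ⧸ H) g) = ∑ _g : G, 1 := by
      rw [hsum]; simp
    exact ((Finset.sum_eq_sum_iff_of_le fun g _ => hpos g).1 e.symm 1 (Finset.mem_univ _)).symm
  rw [← Subgroup.index_eq_one, Subgroup.index_eq_card, Nat.card_eq_fintype_card, ← hone]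
  exact (@Fintype.card_congr _ _ (_) _ (Equiv.subtypeUnivEquiv (α := G ⧸ H) fun x => one_smul G x)).symm

/-- Let G be a finite group and p a prime such that p divides the size of no conjugacy class of p-regular elements (elements of order prime to p). Then G is the internal direct product of a Sylow p-subgroup P and a normal subgroup H of order prime to p: P is normal, P ⊓ H = 1 and PH = G. -/
theorem result {G : Type*} [Group G] [Finite G] {p : ℕ} [Fact p.Prime]
    (h : ∀ x : G, (orderOf x).Coprime p → ¬ p ∣ (ConjClasses.mk x).carrier.ncard) (P : Sylow p G) :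
    (P : Subgroup G).Normal ∧ ∃ H : Subgroup G, H.Normal ∧ ¬ p ∣ Nat.card H ∧
      (P : Subgroup G) ⊓ H = ⊥ ∧ (P : Subgroup G) ⊔ H = ⊤ := by
  classical
  have hp : p.Prime := Fact.out
  set C : Subgroup G := Subgroup.centralizer ((P : Subgroup G) : Set G) with hC
  have hPnorm : C ≤ Subgroup.normalizer ((P : Subgroup G) : Set G) :=
    Subgroup.centralizer_le_normalizer _
  have hM : (P : Subgroup G) ⊔ C = ⊤ := by
    refine eq_top_of_forall_conj _ fun x => ?_
    obtain ⟨a, b, hab, ha, hb, ⟨k, hk⟩, hbp⟩ := Cfsg.Agent.Transfer.exists_pPart_mul (p := p) x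
    set D : Subgroup G := Subgroup.centralizer ({b} : Set G)
    have haD : a ∈ D := by
      rw [Subgroup.mem_centralizer_singleton_iff]
      obtain ⟨i, rfl⟩ := ha
      obtain ⟨j, rfl⟩ := hb
      exact (Commute.zpow_zpow_self x i j).eq
    have hidx : ¬ p ∣ D.index := by
      have := h b hbp
      rwa [ncard_carrier_eq_index] at this
    have haP : IsPGroup p (Subgroup.zpowers (⟨a, haD⟩ : D)) :=
      IsPGroup.of_card (n := k) (by rw [Nat.card_zpowers, Subgroup.orderOf_mk, hk])
    obtain ⟨Q, hQ⟩ := haP.exists_le_sylow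
    set Q' : Subgroup G := (Q : Subgroup D).map D.subtype with hQ'
    have hQp : IsPGroup p Q' := Q.isPGroup'.map _
    obtain ⟨R, hR⟩ := hQp.exists_le_sylow
    have hQR : Q' = (R : Subgroup G) := by
      refine Subgroup.eq_of_le_of_card_ge hR ?_
      have e : Nat.card Q' = Nat.card (Q : Subgroup D) :=
        (Nat.card_congr ((Q : Subgroup D).equivMapOfInjective _ D.subtype_injective).toEquiv).symm
      rw [e, R.card_eq_multiplicity, Q.card_eq_multiplicity]
      refine Nat.pow_le_pow_right hp.pos (le_of_eq ?_)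
      rw [← D.card_mul_index, Nat.factorization_mul Nat.card_pos.ne' D.index_ne_zero_of_finite,
        Finsupp.add_apply, Nat.factorization_eq_zero_of_not_dvd hidx, add_zero]
    obtain ⟨g, hg⟩ := MulAction.exists_smul_eq G P R
    have hg' : MulAut.conj g • (P : Subgroup G) = (R : Subgroup G) := by
      rw [← hg, Sylow.coe_subgroup_smul]
    refine ⟨g, ?_⟩
    rw [hab, show g⁻¹ * (a * b) * g = (g⁻¹ * a * g) * (g⁻¹ * b * g) by group]
    refine Subgroup.mul_mem_sup ?_ ?_
    · have : a ∈ MulAut.conj g • (P : Subgroup G) := by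
        rw [hg', ← hQR]
        exact ⟨⟨a, haD⟩, hQ (Subgroup.mem_zpowers _), rfl⟩
      exact (Cfsg.Agent.Solvable.mem_conj_iff g a (P : Subgroup G)).1 this
    · rw [hC, Subgroup.mem_centralizer_iff]
      intro y hy
      have hy' : g * y * g⁻¹ ∈ Q' := by
        rw [hQR, ← hg']
        exact Subgroup.smul_mem_pointwise_smul y (MulAut.conj g) _ hy
      obtain ⟨⟨z, hz⟩, -, hzy⟩ := hy'
      have hz' : g * y * g⁻¹ * b = b * (g * y * g⁻¹) := by
        have h2 := Subgroup.mem_centralizer_singleton_iff.1 hz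
        have h3 : z = g * y * g⁻¹ := hzy
        rw [h3] at h2
        exact h2
      calc y * (g⁻¹ * b * g) = g⁻¹ * ((g * y * g⁻¹) * b) * g := by group
        _ = g⁻¹ * (b * (g * y * g⁻¹)) * g := by rw [hz']
        _ = g⁻¹ * b * g * y := by group
  haveI hPn : (P : Subgroup G).Normal := by
    rw [← Subgroup.normalizer_eq_top_iff, eq_top_iff, ← hM]
    exact sup_le Subgroup.le_normalizer hPnorm
  refine ⟨hPn, ?_⟩
  have hcop : (Nat.card (P : Subgroup G)).Coprime (P : Subgroup G).index := P.card_coprime_index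
  obtain ⟨H₀, hH₀⟩ := Subgroup.exists_right_complement'_of_coprime hcop
  set H : Subgroup G := H₀
  have hcard : Nat.card H = (P : Subgroup G).index := by
    rw [← hH₀.symm.index_eq_card]
  have hHp : ¬ p ∣ Nat.card H := hcard ▸ P.not_dvd_index
  have hsup : (P : Subgroup G) ⊔ H = ⊤ := hH₀.sup_eq_top
  have hHC : H ≤ C := by
    intro y hy
    have hy' : y ∈ ((P : Subgroup G) ⊔ C : Subgroup G) := hM ▸ Subgroup.mem_top y
    rw [Subgroup.mem_sup_of_normal_left] at hy'
    obtain ⟨u, hu, c, hc, rfl⟩ := hy'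
    have hco : (orderOf (u * c)).Coprime p :=
      Nat.Coprime.coprime_dvd_left (Subgroup.orderOf_dvd_natCard _ hy) ((hp.coprime_iff_not_dvd.2 hHp).symm)
    obtain ⟨a', b', hab', ha', hb', ⟨k', hk'⟩, hbp'⟩ := Cfsg.Agent.Transfer.exists_pPart_mul (p := p) c
    have hb'C : b' ∈ C := Subgroup.zpowers_le.2 hc hb'
    have ha'P : a' ∈ (P : Subgroup G) := by
      have hap : IsPGroup p (Subgroup.zpowers a') := IsPGroup.of_card (n := k') (by rw [Nat.card_zpowers, hk'])
      obtain ⟨R, hR⟩ := hap.exists_le_sylow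
      obtain ⟨g, hg⟩ := MulAction.exists_smul_eq G P R
      have hRP : (R : Subgroup G) = (P : Subgroup G) := by
        rw [← hg, Sylow.coe_subgroup_smul]
        exact Cfsg.Agent.Solvable.conj_normal g (P : Subgroup G)
      exact hRP ▸ hR (Subgroup.mem_zpowers a')
    have hcomm : Commute (u * a') b' := Subgroup.mem_centralizer_iff.1 hb'C (u * a') (mul_mem hu ha'P)
    obtain ⟨j, hj⟩ := IsPGroup.iff_orderOf.1 P.isPGroup' ⟨u * a', mul_mem hu ha'P⟩
    rw [Subgroup.orderOf_mk] at hj
    have hco2 : (orderOf (u * a')).Coprime (orderOf b') := by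
      rw [hj]; exact (hbp'.symm.pow_left j)
    have hmul := hcomm.orderOf_mul_eq_mul_orderOf_of_coprime hco2
    rw [mul_assoc, ← hab'] at hmul
    have : orderOf (u * a') = 1 := by
      refine Nat.eq_one_of_dvd_coprimes (hco.pow_right j) ?_ (dvd_of_eq hj)
      rw [hmul]; exact Dvd.intro _ rfl
    rw [orderOf_eq_one_iff] at this
    rw [hab', ← mul_assoc, this, one_mul]
    exact hb'C
  refine ⟨H, ?_, hHp, hH₀.disjoint.eq_bot, hsup⟩
  rw [← Subgroup.normalizer_eq_top_iff, eq_top_iff, ← hsup]
  refine sup_le (le_trans ?_ (Subgroup.centralizer_le_normalizer _)) Subgroup.le_normalizer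
  exact Subgroup.le_centralizer_iff.1 hHC

end Cfsg.Agent.S4035
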