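import Cfsg.Agent.Lib.Orth.Simple
import Cfsg.Agent.Lib.Orth.Models
import Cfsg.Agent.S0288

set_option autoImplicit false
open Cfsg

namespace Cfsg.Agent.S0824

open Cfsg.Agent.Orth

/-- The index type. -/
abbrev J : Type := (Fin 1 ⊕ Fin 1) ⊕ Fin 2

theorem count_zmod : Fintype.card {v : J → ZMod 2 //
    v ≠ 0 ∧ v (.inl (.inl 0)) * v (.inl (.inr 0)) +
      (v (.inr 0) * v (.inr 0) + v (.inr 0) * v (.inr 1) + v (.inr 1) * v (.inr 1)) = 0} = 5 := by
  decide

theorem card_spt {F : Type*} [Field F] [Fintype F] (hF : Fintype.card F = 2) :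
    Nat.card (SPt (quadMinus 1 F (1 : F) 1)) = 5 := by
  classical
  have hp : Fact (Nat.Prime 2) := ⟨Nat.prime_two⟩
  have hu : ∀ c : F, c ≠ 0 → c = 1 := fun c hc => by
    by_contra h1
    have : ({0, 1, c} : Finset F).card = 3 := by
      simp [Ne.symm hc, Ne.symm h1]
    have := Finset.card_le_univ ({0, 1, c} : Finset F)
    omega
  have e0 : ZMod 2 ≃+* F := ZMod.ringEquivOfPrime F Nat.prime_two hF
  let P : (J → ZMod 2) → Prop := fun v => v ≠ 0 ∧ v (.inl (.inl 0)) * v (.inl (.inr 0)) +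
      (v (.inr 0) * v (.inr 0) + v (.inr 0) * v (.inr 1) + v (.inr 1) * v (.inr 1)) = 0
  have hQ : ∀ v : J → ZMod 2, quadMinus 1 F (1 : F) 1 (fun i => e0 (v i)) =
      e0 (v (.inl (.inl 0)) * v (.inl (.inr 0)) +
        (v (.inr 0) * v (.inr 0) + v (.inr 0) * v (.inr 1) + v (.inr 1) * v (.inr 1))) := fun v => by
    rw [coe_quadMinus]
    simp [quadFormMinus, sq]
  have h0 : ∀ v : J → ZMod 2, v ≠ 0 → (fun i => e0 (v i)) ≠ 0 := fun v hv h => hv (funext fun i => by
    have := congrFun h i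
    simpa using this)
  rw [← Nat.card_eq_of_bijective (α := {v : J → ZMod 2 // P v}) (fun v =>
    spt (Q := quadMinus 1 F (1 : F) 1) (fun i => e0 (v.1 i)) (h0 _ v.2.1)
      (by rw [hQ, v.2.2, map_zero])) ⟨?_, ?_⟩, Nat.card_eq_fintype_card]
  · exact count_zmod
  · intro v w h
    obtain ⟨a, ha⟩ := (spt_eq_iff _ _ _ _).1 h
    have ha1 : a = 1 := hu a fun h1 => h0 _ v.2.1 (by rw [← ha, h1, zero_smul])
    rw [ha1, one_smul] at ha
    exact Subtype.ext (funext fun i => (e0.injective (congrFun ha i)).symm)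
  · intro p
    obtain ⟨v, hv0, hv, rfl⟩ := exists_spt p
    have hev : (fun i => e0 (e0.symm (v i))) = v := funext fun i => e0.apply_symm_apply _
    refine ⟨⟨fun i => e0.symm (v i), fun h => hv0 ?_, ?_⟩, ?_⟩
    · rw [← hev]; funext i
      show e0 (e0.symm (v i)) = 0
      rw [show e0.symm (v i) = 0 from congrFun h i, map_zero]
    · exact e0.injective ((hQ (fun i => e0.symm (v i))).symm.trans ((congrArg (fun w => quadMinus 1 F (1 : F) 1 w) hev).trans (hv.trans (map_zero e0).symm)))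
    · exact (spt_eq_iff _ _ _ _).2 ⟨1, by rw [one_smul]; exact hev.symm⟩

/-- O⁻_4(2) ≅ S_5: the isometry group of the form x y + z_1² + z_1 z_2 + z_2² over the field with 2 elements is isomorphic to the symmetric group on 5 letters. -/
theorem result {F : Type*} [Field F] [Fintype F] (hF : Fintype.card F = 2) : Nonempty (↥(Cfsg.isometryGroup F (Cfsg.quadFormMinus 1 F 1 1)) ≃* Equiv.Perm (Fin 5)) := by
  classical
  have hu : ∀ c : F, c ≠ 0 → c = 1 := fun c hc => by
    by_contra h1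
    have : ({0, 1, c} : Finset F).card = 3 := by
      simp [Ne.symm hc, Ne.symm h1]
    have := Finset.card_le_univ ({0, 1, c} : Finset F)
    omega
  have hab : ∀ z₁ z₂ : F, z₁ ^ 2 + 1 * z₁ * z₂ + 1 * z₂ ^ 2 = 0 → z₁ = 0 ∧ z₂ = 0 := by
    intro x y h
    by_cases hx : x = 0 <;> by_cases hy : y = 0
    · exact ⟨hx, hy⟩
    · rw [hx, hu y hy] at h; simp at h
    · rw [hy, hu x hx] at h; simp at h
    · exfalso
      rw [hu x hx, hu y hy] at h
      have h3 : (1 : F) + 1 + 1 = 0 := by linear_combination h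
      have h2 : (1 : F) + 1 = 0 := by
        by_contra h2
        exact one_ne_zero (α := F) (by linear_combination hu _ h2)
      exact one_ne_zero (α := F) (by linear_combination h3 - h2)
  set Q := quadMinus 1 F (1 : F) 1
  have hQ := quadMinus_nondeg 1 (hab : Aniso (1 : F) 1)
  have hn : 3 ≤ Fintype.card J := by simp
  have hO : Nat.card (IsoGrp Q) = 120 := by
    have := Cfsg.Agent.S0288.result hF 2 (by omega) 1 1 hab
    rw [show Nat.card (IsoGrp Q) = Nat.card ↥(isometryGroup F (quadFormMinus (2 - 1) F 1 1)) from rfl, this]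
    decide
  let φ : IsoGrp Q →* Equiv.Perm (SPt Q) := MulAction.toPermHom (IsoGrp Q) (SPt Q)
  have hφ : Function.Injective φ := by
    rw [injective_iff_map_eq_one]
    intro g hg
    obtain ⟨e, f, hp⟩ := exists_hpair hQ hn
    obtain ⟨a, ha, hga⟩ := hp.scalar_of_fix (g := g) hQ hn fun v h0 hv =>
      (smul_spt_eq_self_iff g v h0 hv).1 (Equiv.ext_iff.1 hg _)
    refine ext_ap fun x => ?_
    rw [hga, ap_one, hu a (left_ne_zero_of_mul_eq_one ha), one_smul]
  have hcard : Nat.card (Equiv.Perm (SPt Q)) = Nat.card (IsoGrp Q) := by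
    rw [Nat.card_perm, card_spt hF, hO]
    rfl
  have hbij : Function.Bijective φ := (Nat.bijective_iff_injective_and_card φ).2 ⟨hφ, hcard.symm⟩
  have e : SPt Q ≃ Fin 5 := Finite.equivFinOfCardEq (card_spt hF)
  exact ⟨(MulEquiv.ofBijective φ hbij).trans e.permCongrHom⟩

end Cfsg.Agent.S0824
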