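import Cfsg.Statements.S5425
import Cfsg.Agent.Lib.LargeExtraspecial.AffineSplit
import Cfsg.Agent.Lib.Golay.OctadStab
-- import your own Cfsg.Agent.* helpers here

set_option autoImplicit false
open Cfsg
open scoped Pointwise

namespace Cfsg.Agent.S5425

/-- An element of M24 fixing everything outside an octad is trivial. -/
theorem eq_one_of_fix_compl {o : Finset Cfsg.GolayPt} (ho : o ∈ Cfsg.octads) {g : Equiv.Perm Cfsg.GolayPt}
    (hg : g ∈ Cfsg.M24) (hfix : ∀ p ∉ o, g p = p) : g = 1 := by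
  classical
  obtain ⟨t5, ht5, h5⟩ := Finset.exists_subset_card_eq (s := oᶜ) (show 5 ≤ oᶜ.card by
    rw [Finset.card_compl, show o.card = 8 from ho.2]; decide)
  obtain ⟨o', ho', hto'⟩ := Golay.exists_octad h5
  have hdisj : Disjoint t5 o := Finset.disjoint_left.mpr fun x hx => Finset.mem_compl.mp (ht5 hx)
  have hsub : t5 ⊆ o' \ o := fun x hx => Finset.mem_sdiff.mpr ⟨hto' hx, Finset.disjoint_left.mp hdisj hx⟩
  have h6 : 6 ≤ (o' \ o).card := by
    have hcard := Finset.card_sdiff_add_card_inter o' o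
    rw [show o'.card = 8 from ho'.2] at hcard
    have h5' := Finset.card_le_card hsub
    rw [h5] at h5'
    rcases Golay.octad_inter_octad ho' ho with h | h | h | h
    iterate 3 omega
    subst h
    simp at h5'
  obtain ⟨t, hto, ht⟩ := Finset.exists_subset_card_eq h6
  obtain ⟨e, he, heo⟩ : ∃ e, e ∉ o ∧ e ∉ o' := by
    by_contra! h
    have : (Finset.univ : Finset Cfsg.GolayPt) ⊆ o ∪ o' := fun x _ => by
      by_cases hx : x ∈ o
      exacts [Finset.mem_union_left _ hx, Finset.mem_union_right _ (h x hx)]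
    have h1 := (Finset.card_le_card this).trans (Finset.card_union_le o o')
    rw [show o.card = 8 from ho.2, show o'.card = 8 from ho'.2] at h1
    exact absurd h1 (by decide)
  let e6 := (Finset.equivFinOfCardEq ht).symm
  have hin : ∀ i : Fin 7, i.val < 6 →
      (Fin.snoc (fun i => (e6 i : Cfsg.GolayPt)) e : Fin 7 → Cfsg.GolayPt) i ∈ o' \ o := fun i hi => by
    rw [show i = Fin.castSucc (⟨i.val, hi⟩ : Fin 6) from rfl, Fin.snoc_castSucc]
    exact hto (e6 _).2
  have hlast : (Fin.snoc (fun i => (e6 i : Cfsg.GolayPt)) e : Fin 7 → Cfsg.GolayPt) 6 = e :=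
    Fin.snoc_last (α := fun _ => Cfsg.GolayPt) e (fun i => (e6 i : Cfsg.GolayPt))
  refine Golay.eq_one_of_frame hg (x := Fin.snoc (fun i => (e6 i : Cfsg.GolayPt)) e)
    ⟨Fin.snoc_injective_of_injective (Subtype.val_injective.comp e6.injective) ?_,
      o', ho', fun i hi => (Finset.mem_sdiff.mp (hin i hi)).1, ?_⟩ fun i => ?_
  · rintro ⟨i, hi⟩
    exact heo (hi ▸ (Finset.mem_sdiff.mp (hto (e6 i).2)).1)
  · exact fun h => heo (hlast ▸ h)
  · by_cases hi : i.val < 6
    · exact hfix _ (Finset.mem_sdiff.mp (hin i hi)).2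
    · rw [show i = 6 from Fin.ext (by omega), hlast]; exact hfix e he

/-- In the Mathieu group of degree 24 (the automorphism group of the length-24 binary Golay code, acting on the 24 coordinates), let z be an involution whose fixed points form an octad (the support of a code word of weight 8), and let Q be the largest normal 2-subgroup of the centralizer C of z. Then Q is extraspecial of order 2^7 with an elementary abelian subgroup of order 16 (plus type), Q is a large extraspecial 2-subgroup, and C is the split extension of Q by the special linear group of degree 3 over the field with two elements. -/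
theorem result (z : ↥Cfsg.M24) (hz : orderOf z = 2) (hfix : (Finset.univ.filter fun p : Cfsg.GolayPt => (z : Equiv.Perm Cfsg.GolayPt) p = p) ∈ Cfsg.octads) (Q : Subgroup ↥Cfsg.M24) (hQ : Q = (Cfsg.pCore 2 ↥(Subgroup.centralizer ({z} : Set ↥Cfsg.M24))).map (Subgroup.centralizer ({z} : Set ↥Cfsg.M24)).subtype) : Cfsg.IsExtraspecial 2 ↥Q ∧ Nat.card ↥Q = 2 ^ 7 ∧ (∃ E : Subgroup ↥Cfsg.M24, E ≤ Q ∧ Cfsg.IsElementaryAbelian 2 E ∧ Nat.card ↥E = 2 ^ 4) ∧ Cfsg.IsLargeExtraspecial Q ∧ ∃ K : Subgroup ↥Cfsg.M24, K ≤ Subgroup.centralizer ({z} : Set ↥Cfsg.M24) ∧ Q ⊓ K = ⊥ ∧ Q ⊔ K = Subgroup.centralizer ({z} : Set ↥Cfsg.M24) ∧ Nonempty (↥K ≃* Matrix.SpecialLinearGroup (Fin 3) (ZMod 2)) := by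
  classical
  set o := Finset.univ.filter fun p : Cfsg.GolayPt => (z : Equiv.Perm Cfsg.GolayPt) p = p with hodef
  have hzo : ∀ q, q ∈ o ↔ (z : Equiv.Perm Cfsg.GolayPt) q = q := fun q => by simp [hodef]
  obtain ⟨p0, hp0⟩ : ∃ p0, p0 ∉ o := by
    by_contra! h
    have := Finset.card_le_card (show (Finset.univ : Finset Cfsg.GolayPt) ⊆ o from fun x _ => h x)
    rw [show o.card = 8 from hfix.2] at this
    exact absurd this (by decide)
  set U : Subgroup Cfsg.M24 := (Golay.octadFix o).subgroupOf Cfsg.M24 with hUdef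
  set M : Subgroup Cfsg.M24 :=
    (Golay.octadStab o ⊓ MulAction.stabilizer (Equiv.Perm Cfsg.GolayPt) p0).subgroupOf Cfsg.M24 with hMdef
  have hUmem : ∀ x : Cfsg.M24, x ∈ U ↔ ∀ q ∈ o, (x : Equiv.Perm Cfsg.GolayPt) q = q := fun x => by
    rw [hUdef, Subgroup.mem_subgroupOf, Golay.mem_octadFix]
    exact ⟨fun h => h.2, fun h => ⟨x.2, h⟩⟩
  have hle : Golay.octadFix o ≤ Cfsg.M24 := inf_le_left
  have hUsq : ∀ x ∈ U, x * x = 1 := fun x hx => Subtype.ext (Golay.mul_self_octadFix hfix hx)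
  have hU : Cfsg.IsElementaryAbelian 2 U := ⟨⟨⟨fun a b => Subtype.ext (by
    have h1 := hUsq _ (mul_mem a.2 b.2)
    show (a : Cfsg.M24) * b = b * a
    rw [← inv_eq_of_mul_eq_one_right h1, mul_inv_rev, inv_eq_of_mul_eq_one_right (hUsq _ a.2),
      inv_eq_of_mul_eq_one_right (hUsq _ b.2)])⟩⟩, fun a ha => by rw [pow_two]; exact hUsq a ha⟩
  have hUcard : Nat.card U = 2 ^ (3 + 1) := by
    rw [hUdef, Nat.card_congr (Subgroup.subgroupOfEquivOfLe hle).toEquiv, Golay.natCard_octadFix hfix]; rfl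
  have hMle : (Golay.octadStab o ⊓ MulAction.stabilizer (Equiv.Perm Cfsg.GolayPt) p0) ≤ Cfsg.M24 :=
    inf_le_left.trans inf_le_left
  have hMcard : Nat.card M = 20160 := by
    rw [hMdef, Nat.card_congr (Subgroup.subgroupOfEquivOfLe hMle).toEquiv,
      Nat.card_congr (Golay.octadPointEquiv hfix hp0).toEquiv]
    have : Nontrivial o := Fintype.one_lt_card_iff_nontrivial.mp (by rw [Fintype.card_coe, show o.card = 8 from hfix.2]; norm_num)
    have h := two_mul_card_alternatingGroup (α := ↥o)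
    rw [Fintype.card_perm, Fintype.card_coe, show o.card = 8 from hfix.2] at h
    rw [Nat.card_eq_fintype_card]
    norm_num [Nat.factorial, ← Nat.card_eq_fintype_card] at h ⊢
    omega
  have hMU : ∀ a ∈ M, ∀ u ∈ U, a * u * a⁻¹ ∈ U := by
    intro a ha u hu
    have h := Golay.conj_mem_octadFix (o := o) (t := (a : Equiv.Perm Cfsg.GolayPt)⁻¹) (inv_mem a.2)
      (g := (u : Equiv.Perm Cfsg.GolayPt)) (by
        rw [show (a : Equiv.Perm Cfsg.GolayPt)⁻¹ • o = o from inv_smul_eq_iff.mpr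
          (show (a : Equiv.Perm Cfsg.GolayPt) • o = o from ha.1.2).symm]
        exact hu)
    rwa [inv_inv] at h
  have hUM : U ⊓ M = ⊥ := by
    rw [Subgroup.eq_bot_iff_forall]
    intro x hx
    exact Subtype.ext (Golay.eq_one_of_octad_point hfix x.2 ((hUmem x).mp hx.1) hp0 hx.2.2)
  have htrans : ∀ q, q ∉ o → ∃ u ∈ U, (u : Equiv.Perm Cfsg.GolayPt) p0 = q := by
    intro q hq
    obtain ⟨g, hg, hgq⟩ := Golay.exists_octad_point hfix hp0 hq
    exact ⟨⟨g, hle hg⟩, hg, hgq⟩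
  have hfaith : ∀ a ∈ M, (∀ u ∈ U, a * u * a⁻¹ = u) → a = 1 := by
    intro a ha h
    refine Subtype.ext (eq_one_of_fix_compl hfix a.2 fun q hq => ?_)
    obtain ⟨u, hu, rfl⟩ := htrans q hq
    have hc := congrArg (fun x : Cfsg.M24 => (x : Equiv.Perm Cfsg.GolayPt) p0)
      (mul_inv_eq_iff_eq_mul.mp (h u hu))
    have hap : (a : Equiv.Perm Cfsg.GolayPt) p0 = p0 := ha.2
    simpa [hap] using hc
  have hzU : z ∈ U := (hUmem z).mpr fun q hq => (hzo q).mp hq
  have hz1 : z ≠ 1 := fun h => by simp [h] at hz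
  have hcov : ∀ g : Cfsg.M24, g * z = z * g → ∃ u ∈ U, ∃ a ∈ M, g = u * a := by
    intro g hg
    have hgo : (g : Equiv.Perm Cfsg.GolayPt) • o = o := by
      refine Finset.eq_of_subset_of_card_le (fun q hq => ?_) (by rw [Finset.card_smul_finset])
      obtain ⟨r, hr, rfl⟩ := Finset.mem_smul_finset.mp hq
      rw [hzo, Equiv.Perm.smul_def]
      have hc := congrArg (fun x : Cfsg.M24 => (x : Equiv.Perm Cfsg.GolayPt) r) hg
      simpa [(hzo r).mp hr] using hc.symm
    have hgs : (g : Equiv.Perm Cfsg.GolayPt) ∈ Golay.octadStab o := ⟨g.2, hgo⟩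
    obtain ⟨u, hu, hup⟩ := htrans _ fun h => hp0 ((Golay.mem_iff_of_mem_octadStab hgs p0).mp h)
    refine ⟨u, hu, u⁻¹ * g, ⟨⟨(u⁻¹ * g).2, ?_⟩, ?_⟩, (mul_inv_cancel_left u g).symm⟩
    · show ((u : Equiv.Perm Cfsg.GolayPt)⁻¹ * g) • o = o
      rw [mul_smul, hgo, inv_smul_eq_iff, Finset.smul_finset_def]
      exact ((Finset.image_congr (g := id) (fun q hq => (hUmem u).mp hu q hq)).trans Finset.image_id).symm
    · show ((u : Equiv.Perm Cfsg.GolayPt)⁻¹ * g) p0 = p0
      rw [Equiv.Perm.mul_apply, Equiv.Perm.inv_eq_iff_eq]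
      exact hup.symm
  have hAut : Nat.card (LargeExtraspecial.Affine.AutX 3) ≤ Nat.card M := by
    rw [LargeExtraspecial.Affine.natCard_autX, hMcard, Matrix.card_GL_field]
    simp [Fin.prod_univ_succ]
  obtain ⟨p, m, S, hpe⟩ := LargeExtraspecial.Affine.exists_setup_of_split U M hU hUcard hMU hUM hfaith hAut
    hzU hz1 hcov
  rw [← hpe] at hQ ⊢
  obtain ⟨h1, h2, h3, h4, K, h5, h6, h7, ⟨φ⟩⟩ := S.main (by norm_num) Q hQ
  exact ⟨h1, h2, h3, h4, K, h5, h6, h7, ⟨φ.trans (LargeExtraspecial.Affine.slEquiv 3).symm⟩⟩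

end Cfsg.Agent.S5425
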