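import Cfsg.Statements.S2942
import Cfsg.Agent.Lib.JComp.Component
import Cfsg.Agent.EqLemmas

set_option autoImplicit false
open Cfsg

namespace Cfsg.Agent.S2942

/-- Let G be a finite group of characteristic 2 type in which every 2-local subgroup is solvable and the centralizer of Ω₁(Z(S)) lies in N_G(S) for every Sylow 2-subgroup S, and let T be a nontrivial 2-subgroup (below, J is the Thompson subgroup generated by the elementary abelian 2-subgroups of largest order). If L is a subgroup in which T is a Sylow 2-subgroup, with J(T) not contained in O₂(L) and C_G(O₂(L)) ≤ O₂(L), then every J(T)-component contained in L is subnormal in L. -/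
theorem result {G : Type*} [Group G] [Finite G] (hL : Cfsg.IsCharacteristicTwoType G) (hN : ∀ N : Subgroup G, Cfsg.IsTwoLocal N → Group.IsSolvable ↥N)
    (hZ : ∀ S : Sylow 2 G, Subgroup.centralizer (Cfsg.omegaCenterOf (S : Subgroup G) : Set G) ≤ Subgroup.normalizer ((S : Subgroup G) : Set G)) (T : Subgroup G) (hT : IsPGroup 2 ↥T) (hT1 : T ≠ ⊥) (L : Subgroup G) (hLT : L ∈ Cfsg.jOvergroups T)
    (K : Subgroup G) (hK : Cfsg.IsJComponent T K) (hKL : K ≤ L) : (K.subgroupOf L).IsSubnormal := by
  obtain hs : Cfsg.Agent.JComp.Setup T L := ⟨⟨hL, hN, hZ⟩, hLT⟩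
  set N := (Cfsg.Agent.JComp.njOf T L).subgroupOf L
  have hKN : K.subgroupOf L ≤ N := fun x hx => by
    have hle : K ≤ Cfsg.Agent.JComp.njOf T L := by
      rw [← hK.2.1, Subgroup.commutator_le]
      intro g hg j hj
      rw [commutatorElement_def]
      exact mul_mem (Subgroup.subset_closure ⟨g, hKL hg, j, hj, rfl⟩)
        (inv_mem (Cfsg.Agent.JComp.jOf_le_njOf T L hj))
    exact hle hx
  have : N.Normal := Cfsg.Agent.Cores.subgroupOf_normal_of_le_normalizer (Cfsg.Agent.JComp.njOf_normal T L)
  refine Subgroup.IsSubnormal.trans hKN (Subgroup.Normal.isSubnormal ?_) ‹N.Normal›.isSubnormal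
  refine Subgroup.normal_subgroupOf_of_le_normalizer fun g hg => ?_
  rw [Subgroup.mem_normalizer_iff]
  intro x
  exact Subgroup.mem_normalizer_iff.mp (hs.njOf_le_normalizer_comp hK hKL hg) (x : G)

end Cfsg.Agent.S2942
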