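import Cfsg.Statements.S2947
import Cfsg.Agent.Lib.Isolated.Basic

set_option autoImplicit false
open Cfsg

namespace Cfsg.Agent.S2947

/-- Let G be a finite group of characteristic 2 type in which every 2-local subgroup is solvable and the centralizer of Ω₁(Z(S)) lies in N_G(S) for every Sylow 2-subgroup S; suppose O₂(G) = 1, fix a Sylow 2-subgroup S and a 2-local subgroup M containing N_G(J(S)) (J the Thompson subgroup generated by the elementary abelian 2-subgroups of largest order). Then M is strongly embedded in G (a proper subgroup of even order whose intersection with each conjugate by an element outside M has odd order) if and only if no nontrivial 2-subgroup of M lies in a 2-local subgroup of G not contained in M. -/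
theorem result {G : Type*} [Group G] [Finite G] (hL : Cfsg.IsCharacteristicTwoType G) (hN : ∀ N : Subgroup G, Cfsg.IsTwoLocal N → Group.IsSolvable ↥N)
    (hZ : ∀ S : Sylow 2 G, Subgroup.centralizer (Cfsg.omegaCenterOf (S : Subgroup G) : Set G) ≤ Subgroup.normalizer ((S : Subgroup G) : Set G)) (hO : Cfsg.pCore 2 G = ⊥) (S : Sylow 2 G) (M : Subgroup G) (hM : Cfsg.IsTwoLocal M)
    (hMJ : Subgroup.normalizer (Cfsg.thompsonSubgroupOf 2 (S : Subgroup G) : Set G) ≤ M) :
    Cfsg.IsStronglyEmbedded M ↔ Cfsg.straddlingTwoSubgroups M = ∅ := by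
  have hEv : ∀ A : Subgroup G, IsPGroup 2 A → A ≠ ⊥ → Even (Nat.card A) := by
    intro A hA hA1
    haveI : Nontrivial A := (Subgroup.nontrivial_iff_ne_bot A).mpr hA1
    obtain ⟨n, hn, hcard⟩ := hA.nontrivial_iff_card.mp inferInstance
    rw [hcard]
    exact even_two.pow_of_ne_zero hn.ne'
  constructor
  · intro hse
    refine Set.eq_empty_iff_forall_notMem.mpr ?_
    rintro T ⟨hT, hT1, hTM, L, ⟨R, hR, hR1, rfl⟩, hTL, hLM⟩
    have hnorm : ∀ A : Subgroup G, IsPGroup 2 A → A ≠ ⊥ → A ≤ M →
        Subgroup.normalizer (A : Set G) ≤ M := by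
      intro A hA hA1 hAM g hg
      by_contra hgM
      have hle : A ≤ M ⊓ M.map (MulAut.conj g).toMonoidHom := by
        refine le_inf hAM fun a ha => ⟨g⁻¹ * a * g, hAM ?_, by simp [mul_assoc]⟩
        exact (Subgroup.mem_normalizer_iff'' (g := g)).mp hg a |>.mp ha
      exact Nat.not_even_iff_odd.mpr (hse.2.2 g hgM)
        (((hEv A hA hA1).two_dvd.trans (Subgroup.card_dvd_of_le hle)) |> even_iff_two_dvd.mpr)
    let P : Subgroup G := T ⊔ R
    have hP : IsPGroup 2 P := hT.to_sup_of_normal_right' hR hTL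
    have hD : P ⊓ M = P := by
      refine Cfsg.Agent.Isolated.eq_of_normalizer_le hP inf_le_left fun g hgP hg => ⟨hgP, ?_⟩
      refine hnorm (P ⊓ M) (hP.to_le inf_le_left) (fun h => hT1 ?_) inf_le_right hg
      exact le_bot_iff.mp (h ▸ le_inf le_sup_left hTM)
    exact hLM (hnorm R hR hR1 (le_trans le_sup_right (inf_eq_left.mp hD)))
  · intro hemp
    have hnorm : ∀ A : Subgroup G, IsPGroup 2 A → A ≠ ⊥ → A ≤ M →
        Subgroup.normalizer (A : Set G) ≤ M := by
      intro A hA hA1 hAM
      by_contra hn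
      have hmem : A ∈ Cfsg.straddlingTwoSubgroups M :=
        ⟨hA, hA1, hAM, _, ⟨A, hA, hA1, rfl⟩, Subgroup.le_normalizer, hn⟩
      rw [hemp] at hmem
      exact hmem
    obtain ⟨R, hR, hR1, rfl⟩ := hM
    refine ⟨fun htop => hR1 ?_, ?_, fun g hg => ?_⟩
    · have hn : R.Normal := Subgroup.normalizer_eq_top_iff.mp htop
      have hle : R ≤ Cfsg.pCore 2 G := le_sSup ⟨hn, hR⟩
      rwa [hO, le_bot_iff] at hle
    · exact even_iff_two_dvd.mpr ((hEv R hR hR1).two_dvd.trans
        (Subgroup.card_dvd_of_le Subgroup.le_normalizer))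
    set M := Subgroup.normalizer (R : Set G) with hMdef
    rw [← Nat.not_even_iff_odd]
    intro hev
    set D := M ⊓ M.map (MulAut.conj g).toMonoidHom with hDdef
    let PD : Sylow 2 D := default
    let P : Subgroup G := (PD : Subgroup D).map D.subtype
    have hPD : P ≤ D := Subgroup.map_subtype_le _
    have hP : IsPGroup 2 P := PD.isPGroup'.map _
    have hP1 : P ≠ ⊥ := by
      intro h
      have hb : (PD : Subgroup D) = ⊥ :=
        (Subgroup.map_eq_bot_iff_of_injective _ D.subtype_injective).mp h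
      exact PD.ne_bot_of_dvd_card hev.two_dvd hb
    have hNP : Subgroup.normalizer (P : Set G) ≤ D := by
      refine le_inf (hnorm P hP hP1 (hPD.trans inf_le_left)) fun y hy => ⟨g⁻¹ * y * g, ?_, by simp [mul_assoc]⟩
      let P' : Subgroup G := P.map (MulAut.conj g⁻¹).toMonoidHom
      have hP'M : P' ≤ M := by
        rintro _ ⟨a, ha, rfl⟩
        obtain ⟨b, hb, rfl⟩ := (hPD ha).2
        simpa [mul_assoc] using hb
      refine hnorm P' (hP.map _) (fun h => hP1 ?_) hP'M ?_
      · exact (Subgroup.map_eq_bot_iff_of_injective _ (MulAut.conj g⁻¹).injective).mp h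
      · have := Subgroup.le_normalizer_map (MulAut.conj g⁻¹).toMonoidHom (H := P) ⟨y, hy, rfl⟩
        simpa [P'] using this
    obtain ⟨S₁, hS₁⟩ := hP.exists_le_sylow
    have hSP : P = (S₁ : Subgroup G) := by
      refine Cfsg.Agent.Isolated.eq_of_normalizer_le S₁.isPGroup' hS₁ fun y hyS hy => ?_
      have hge : (PD : Subgroup D) ≤ ((S₁ : Subgroup G).comap D.subtype) :=
        fun z hz => hS₁ ⟨z, hz, rfl⟩
      have heq := PD.is_maximal' (S₁.isPGroup'.comap_subtype (K := D)) hge
      exact ⟨⟨y, hNP hy⟩, heq ▸ hyS, rfl⟩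
    have hSM : (S₁ : Subgroup G) ≤ M := hSP ▸ hPD.trans inf_le_left
    have hgS : ((g⁻¹ • S₁ : Sylow 2 G) : Subgroup G) ≤ M := by
      intro y hy
      rw [Sylow.coe_subgroup_smul] at hy
      obtain ⟨a, ha, rfl⟩ := hy
      obtain ⟨b, hb, rfl⟩ := (hPD (hSP.symm ▸ ha)).2
      simpa [mul_assoc] using hb
    obtain ⟨m, hm⟩ := MulAction.exists_smul_eq M (S₁.subtype hSM) ((g⁻¹ • S₁).subtype hgS)
    rw [Sylow.smul_subtype hSM] at hm
    have hm' : (m : G) • S₁ = g⁻¹ • S₁ := Sylow.subtype_injective hm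
    have hgm : (g * (m : G)) • S₁ = S₁ := by rw [mul_smul, hm', smul_inv_smul]
    have hgm' : g * (m : G) ∈ M := by
      refine hnorm _ S₁.isPGroup' (fun h => hP1 (hSP.trans h)) hSM ?_
      exact Sylow.smul_eq_iff_mem_normalizer.mp hgm
    exact hg (by simpa using mul_mem hgm' (inv_mem m.2))

end Cfsg.Agent.S2947
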