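import Cfsg.Statements.S3707
import Cfsg.Agent.EqLemmas

set_option autoImplicit false
open Cfsg

namespace Cfsg.Agent.S3707

open scoped Pointwise

section

variable {G Ω : Type*} [Group G] [MulAction G Ω]

/-- The pointwise stabilizer of the complement is transitive on the set. -/
def IsJordanSet (G : Type*) {Ω : Type*} [Group G] [MulAction G Ω] (Γ : Set Ω) : Prop :=
  ∀ x ∈ Γ, ∀ y ∈ Γ, ∃ g : G, (∀ z ∉ Γ, g • z = z) ∧ g • x = y

theorem IsJordanSet.smul {Γ : Set Ω} (hJ : IsJordanSet G Γ) (h : G) :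
    IsJordanSet G (h • Γ) := by
  intro x hx y hy
  obtain ⟨x, hx, rfl⟩ := hx
  obtain ⟨y, hy, rfl⟩ := hy
  obtain ⟨g, hg, hgx⟩ := hJ x hx y hy
  refine ⟨h * g * h⁻¹, fun z hz => ?_, ?_⟩
  · rw [mul_smul, mul_smul, hg _ (fun hmem => hz ⟨_, hmem, smul_inv_smul h z⟩), smul_inv_smul]
  · show (h * g * h⁻¹) • h • x = h • y
    rw [mul_smul, mul_smul, inv_smul_smul, hgx]

theorem IsJordanSet.union {Γ Δ : Set Ω} (hΓ : IsJordanSet G Γ) (hΔ : IsJordanSet G Δ)
    (hmeet : (Γ ∩ Δ).Nonempty) : IsJordanSet G (Γ ∪ Δ) := by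
  obtain ⟨c, hcΓ, hcΔ⟩ := hmeet
  have key : ∀ x ∈ Γ ∪ Δ, ∀ y ∈ Γ ∪ Δ, x = c ∨ y = c →
      ∃ g : G, (∀ z ∉ Γ ∪ Δ, g • z = z) ∧ g • x = y := by
    intro x hx y hy hc
    have hboth : (x ∈ Γ ∧ y ∈ Γ) ∨ (x ∈ Δ ∧ y ∈ Δ) := by
      rcases hc with rfl | rfl
      · rcases hy with hy | hy
        · exact Or.inl ⟨hcΓ, hy⟩
        · exact Or.inr ⟨hcΔ, hy⟩
      · rcases hx with hx | hx
        · exact Or.inl ⟨hx, hcΓ⟩
        · exact Or.inr ⟨hx, hcΔ⟩
    rcases hboth with ⟨h1, h2⟩ | ⟨h1, h2⟩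
    · obtain ⟨g, hg, hxy⟩ := hΓ x h1 y h2
      exact ⟨g, fun z hz => hg z fun h => hz (Or.inl h), hxy⟩
    · obtain ⟨g, hg, hxy⟩ := hΔ x h1 y h2
      exact ⟨g, fun z hz => hg z fun h => hz (Or.inr h), hxy⟩
  intro x hx y hy
  obtain ⟨g₁, hg₁, h₁⟩ := key x hx c (Or.inl hcΓ) (Or.inr rfl)
  obtain ⟨g₂, hg₂, h₂⟩ := key c (Or.inl hcΓ) y hy (Or.inl rfl)
  exact ⟨g₂ * g₁, fun z hz => by rw [mul_smul, hg₁ z hz, hg₂ z hz], by rw [mul_smul, h₁, h₂]⟩

/-- Double counting in a 2-transitive group: some translate of a set of at most half the points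
contains a given point and avoids two others. -/
theorem exists_translate_avoid [Finite G] [Finite Ω]
    (h2t : MulAction.IsMultiplyPretransitive G Ω 2) {Γ : Set Ω} (hne : Γ.Nonempty)
    (hhalf : 2 * Γ.ncard ≤ Nat.card Ω) {z a b : Ω} (hza : z ≠ a) (hzb : z ≠ b) :
    ∃ h : G, z ∈ h • Γ ∧ a ∉ h • Γ ∧ b ∉ h • Γ := by
  classical
  haveI : Fintype G := Fintype.ofFinite G
  haveI : Fintype Ω := Fintype.ofFinite Ω
  have h2 : ∀ {a b c d : Ω}, a ≠ b → c ≠ d → ∃ g : G, g • a = c ∧ g • b = d :=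
    MulAction.is_two_pretransitive_iff.mp h2t
  let Γf : Finset Ω := Γ.toFinset
  let S : Finset G := Finset.univ.filter fun h : G => h⁻¹ • z ∈ Γ
  let c : Ω → ℕ := fun w => (S.filter fun h : G => h⁻¹ • w ∈ Γ).card
  have hconst : ∀ w, w ≠ z → c w = c a := by
    intro w hw
    obtain ⟨t, htz, hta⟩ := h2 (a := z) (b := a) (c := z) (d := w) hza hw.symm
    refine Finset.card_bij' (fun g _ => t⁻¹ * g) (fun g _ => t * g) ?_ ?_ ?_ ?_
    · intro g hg
      simp only [S, Finset.mem_filter, Finset.mem_univ, true_and] at hg ⊢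
      simp only [mul_inv_rev, inv_inv, mul_smul, htz, hta]
      exact hg
    · intro g hg
      simp only [S, Finset.mem_filter, Finset.mem_univ, true_and] at hg ⊢
      simp only [mul_inv_rev, mul_smul, ← hta]
      rw [inv_smul_smul]
      refine ⟨?_, hg.2⟩
      have : t⁻¹ • z = z := by rw [inv_smul_eq_iff, htz]
      rw [this]
      exact hg.1
    · intro g _
      simp
    · intro g _
      simp
  have hsum : ∑ w : Ω, c w = S.card * Γ.ncard := by
    have e : ∀ h ∈ S, (Finset.univ.filter fun w : Ω => h⁻¹ • w ∈ Γ).card = Γ.ncard := by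
      intro h _
      rw [← Set.ncard_coe_finset]
      have : ((Finset.univ.filter fun w : Ω => h⁻¹ • w ∈ Γ : Finset Ω) : Set Ω) = h • Γ := by
        ext w
        simp [Set.mem_smul_set_iff_inv_smul_mem]
      rw [this, Set.ncard_smul_set]
    calc ∑ w : Ω, c w
        = ∑ w : Ω, ∑ h ∈ S, (if h⁻¹ • w ∈ Γ then 1 else 0) :=
          Finset.sum_congr rfl fun w _ => Finset.card_filter _ _
      _ = ∑ h ∈ S, ∑ w : Ω, (if h⁻¹ • w ∈ Γ then 1 else 0) := Finset.sum_comm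
      _ = ∑ h ∈ S, Γ.ncard := Finset.sum_congr rfl fun h hh => by
          rw [← Finset.card_filter]; exact e h hh
      _ = S.card * Γ.ncard := by rw [Finset.sum_const, smul_eq_mul]
  have hz : c z = S.card := by
    simp only [c, S]
    rw [Finset.filter_filter]
    congr 1
    ext h
    simp
  rw [Fintype.sum_eq_add_sum_compl z, hz, Finset.sum_congr rfl
    (fun w hw => hconst w (by simpa using hw)), Finset.sum_const, smul_eq_mul, Finset.card_compl,
    Finset.card_singleton, ← Nat.card_eq_fintype_card] at hsum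
  have hb : c b = c a := hconst b hzb.symm
  have hSpos : 0 < S.card := by
    obtain ⟨x, hx⟩ := hne
    haveI : MulAction.IsPretransitive G Ω := MulAction.isPretransitive_of_is_two_pretransitive (h2 := h2t)
    obtain ⟨g, hg⟩ := MulAction.exists_smul_eq G z x
    exact Finset.card_pos.mpr ⟨g⁻¹, by simp [S, hg, hx]⟩
  have hΓpos : 0 < Γ.ncard := (Set.ncard_pos).mpr hne
  have hlt : c a + c b < S.card := by
    rw [hb]
    rcases Nat.eq_zero_or_pos (c a) with h0 | h0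
    · omega
    · by_contra hge
      obtain ⟨m, hm⟩ : ∃ m, Γ.ncard = m + 1 := ⟨Γ.ncard - 1, by omega⟩
      obtain ⟨n', hn'⟩ : ∃ n', Nat.card Ω = n' + 1 := ⟨Nat.card Ω - 1, by omega⟩
      rw [hm, hn'] at hsum
      simp only [Nat.add_sub_cancel] at hsum
      nlinarith
  obtain ⟨h, hh, hn⟩ := Finset.exists_mem_notMem_of_card_lt_card
    (s := S.filter (fun h : G => h⁻¹ • a ∈ Γ) ∪ S.filter (fun h : G => h⁻¹ • b ∈ Γ)) (t := S)
    ((Finset.card_union_le _ _).trans_lt hlt)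
  simp only [Finset.mem_union, Finset.mem_filter, hh, true_and, not_or] at hn
  simp only [S, Finset.mem_filter, Finset.mem_univ, true_and] at hh
  simp only [Set.mem_smul_set_iff_inv_smul_mem]
  exact ⟨h, hh, hn.1, hn.2⟩

end

/-- Let G be a finite primitive permutation group on Ω of degree n and Γ ⊂ Ω a subset with 1 < #Γ ≤ n/2 such that the pointwise stabilizer of Ω ∖ Γ is transitive on Γ. Then G is 3-transitive on Ω. -/
theorem result {G Ω : Type*} [Group G] [Finite G] [MulAction G Ω] [FaithfulSMul G Ω] [Finite Ω] (hprim : MulAction.IsPreprimitive G Ω) (Γ : Set Ω) (h1 : 1 < Γ.ncard) (h2 : 2 * Γ.ncard ≤ Nat.card Ω) (htr : ∀ x ∈ Γ, ∀ y ∈ Γ, ∃ g : G, (∀ z ∉ Γ, g • z = z) ∧ g • x = y) : MulAction.IsMultiplyPretransitive G Ω 3 := by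
  classical
  have htrans := hprim.toIsPretransitive
  have hJ : IsJordanSet G Γ := htr
  have hn : 4 ≤ Nat.card Ω := by omega
  have h2t : MulAction.IsMultiplyPretransitive G Ω 2 := by
    refine hprim.is_two_pretransitive (s := Γᶜ) (n := Nat.card Ω - Γ.ncard - 1) ?_ (by omega) ?_
    · have := Set.ncard_add_ncard_compl Γ
      omega
    · refine ⟨fun x y => ?_⟩
      obtain ⟨g, hg, hgxy⟩ := htr x (not_not.mp x.2) y (not_not.mp y.2)
      exact ⟨⟨g, (mem_fixingSubgroup_iff G).mpr fun z hz => hg z hz⟩, Subtype.ext hgxy⟩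
  have h2 : ∀ {a b c d : Ω}, a ≠ b → c ≠ d → ∃ g : G, g • a = c ∧ g • b = d :=
    MulAction.is_two_pretransitive_iff.mp h2t
  obtain ⟨u, hu, v, hv, huv⟩ := (Set.one_lt_ncard Γ.toFinite).mp h1
  -- a largest Jordan set of at most `n - 2` points
  obtain ⟨Δ, ⟨hΔJ, hΔ1, hΔ2⟩, hmax⟩ : ∃ Δ : Set Ω, (IsJordanSet G Δ ∧ Γ.ncard ≤ Δ.ncard ∧
      Δ.ncard + 2 ≤ Nat.card Ω) ∧ ∀ Δ' : Set Ω, IsJordanSet G Δ' → Γ.ncard ≤ Δ'.ncard →
      Δ'.ncard + 2 ≤ Nat.card Ω → Δ'.ncard ≤ Δ.ncard := by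
    obtain ⟨Δ, hΔ, hmax⟩ := Set.exists_max_image
      {Δ : Set Ω | IsJordanSet G Δ ∧ Γ.ncard ≤ Δ.ncard ∧ Δ.ncard + 2 ≤ Nat.card Ω}
      Set.ncard (Set.toFinite _) ⟨Γ, hJ, le_rfl, by omega⟩
    exact ⟨Δ, hΔ, fun Δ' h1 h2 h3 => hmax Δ' ⟨h1, h2, h3⟩⟩
  have hcompl := Set.ncard_add_ncard_compl Δ
  have hfull : Δ.ncard + 2 = Nat.card Ω := by
    by_contra hne
    -- a translate meeting both sides leaves at most one point of the complement outside it
    have hstep : ∀ (h : G) (x f a b : Ω), x ∈ h • Γ → x ∈ Δ → f ∈ h • Γ → f ∉ Δ →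
        a ∉ Δ → b ∉ Δ → a ≠ b → a ∈ h • Γ ∨ b ∈ h • Γ := by
      intro h x f a b hx hxΔ hf hfΔ ha hb hab
      by_contra hcon
      rw [not_or] at hcon
      have hbig : Δ.ncard < (Δ ∪ h • Γ).ncard :=
        Set.ncard_lt_ncard ⟨Set.subset_union_left, fun hsub => hfΔ (hsub (Or.inr hf))⟩
      have hsmall : (Δ ∪ h • Γ).ncard + 2 ≤ Nat.card Ω := by
        have e := Set.ncard_add_ncard_compl (Δ ∪ h • Γ)
        have : ({a, b} : Set Ω).ncard ≤ (Δ ∪ h • Γ)ᶜ.ncard := by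
          refine Set.ncard_le_ncard ?_
          rintro w (rfl | rfl)
          · exact fun hw => hw.elim ha hcon.1
          · exact fun hw => hw.elim hb hcon.2
        rw [Set.ncard_pair hab] at this
        omega
      have := hmax _ (hΔJ.union (hJ.smul h) ⟨x, hxΔ, hx⟩) (by omega) hsmall
      omega
    obtain ⟨x₀, hx₀⟩ : Δ.Nonempty := Set.nonempty_of_ncard_ne_zero (by omega)
    obtain ⟨a, ha, b, hb, hab⟩ := (Set.one_lt_ncard (Set.toFinite Δᶜ)).mp (by omega)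
    obtain ⟨f, hf, hfab⟩ : ∃ f ∈ Δᶜ, f ∉ ({a, b} : Set Ω) := by
      refine Set.exists_mem_notMem_of_ncard_lt_ncard ?_
      rw [Set.ncard_pair hab]
      omega
    simp only [Set.mem_insert_iff, Set.mem_singleton_iff, not_or] at hfab
    obtain ⟨h, hfh, hah, hbh⟩ := exists_translate_avoid (G := G) h2t ⟨u, hu⟩ (by omega) hfab.1 hfab.2
    have hsub : h • Γ ⊆ Δᶜ := fun x hx hxΔ =>
      (hstep h x f a b hx hxΔ hfh hf ha hb hab).elim hah hbh
    have hbigc : Γ.ncard + 2 ≤ Δᶜ.ncard := by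
      have hle : (h • Γ ∪ {a, b}).ncard ≤ Δᶜ.ncard := by
        refine Set.ncard_le_ncard (Set.union_subset hsub ?_)
        rintro w (rfl | rfl)
        · exact ha
        · exact hb
      rw [Set.ncard_union_eq ?_, Set.ncard_smul_set, Set.ncard_pair hab] at hle
      · exact hle
      · rw [Set.disjoint_right]
        rintro w (rfl | rfl)
        · exact hah
        · exact hbh
    obtain ⟨g, hgu, hgv⟩ := h2 (a := u) (b := v) (c := x₀) (d := a) huv
      (fun e => ha (e ▸ hx₀))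
    have hdiff : 1 < (Δᶜ \ g • Γ).ncard := by
      have h' := Set.le_ncard_diff (g • Γ) Δᶜ
      rw [Set.ncard_smul_set] at h'
      omega
    obtain ⟨a', ha', b', hb', hab'⟩ := (Set.one_lt_ncard (Set.toFinite _)).mp hdiff
    exact (hstep g x₀ a a' b' (hgu ▸ Set.smul_mem_smul_set hu) hx₀
      (hgv ▸ Set.smul_mem_smul_set hv) ha ha'.1 hb'.1 hab').elim ha'.2 hb'.2
  obtain ⟨a, b, hab, hΔc⟩ := Set.ncard_eq_two.mp (show Δᶜ.ncard = 2 by omega)
  -- the two-point stabilizers are transitive on the other points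
  have hfix : ∀ p q x y : Ω, p ≠ q → x ≠ p → x ≠ q → y ≠ p → y ≠ q →
      ∃ g : G, g • p = p ∧ g • q = q ∧ g • x = y := by
    intro p q x y hpq hxp hxq hyp hyq
    obtain ⟨t, htp, htq⟩ := h2 (a := a) (b := b) (c := p) (d := q) hab hpq
    have hout : ∀ w, w ∉ t • Δ ↔ w = p ∨ w = q := by
      intro w
      rw [Set.mem_smul_set_iff_inv_smul_mem, ← Set.mem_compl_iff, hΔc, Set.mem_insert_iff,
        Set.mem_singleton_iff, inv_smul_eq_iff, inv_smul_eq_iff, htp, htq]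
    have hmem : ∀ w, w ≠ p → w ≠ q → w ∈ t • Δ := fun w hw1 hw2 => by
      by_contra h
      exact ((hout w).mp h).elim hw1 hw2
    obtain ⟨g, hg, hgxy⟩ := hΔJ.smul t x (hmem x hxp hxq) y (hmem y hyp hyq)
    exact ⟨g, hg p ((hout p).mpr (Or.inl rfl)), hg q ((hout q).mpr (Or.inr rfl)), hgxy⟩
  rw [MulAction.isMultiplyPretransitive_iff]
  intro e f
  have he : ∀ i j : Fin 3, i ≠ j → e i ≠ e j := fun i j hij h => hij (e.injective h)
  have hf : ∀ i j : Fin 3, i ≠ j → f i ≠ f j := fun i j hij h => hij (f.injective h)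
  obtain ⟨t, ht0, ht1⟩ := h2 (a := e 0) (b := e 1) (c := f 0) (d := f 1)
    (he 0 1 (by decide)) (hf 0 1 (by decide))
  obtain ⟨g, hg0, hg1, hg2⟩ := hfix (f 0) (f 1) (t • e 2) (f 2) (hf 0 1 (by decide))
    (fun h => he 2 0 (by decide) (MulAction.injective t (h.trans ht0.symm)))
    (fun h => he 2 1 (by decide) (MulAction.injective t (h.trans ht1.symm)))
    (hf 2 0 (by decide)) (hf 2 1 (by decide))
  refine ⟨g * t, Function.Embedding.ext fun i => ?_⟩
  fin_cases i <;> simp [mul_smul, ht0, ht1, hg0, hg1, hg2]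

end Cfsg.Agent.S3707
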