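import Cfsg.Statements.S1193
import Cfsg.Agent.Lib.QDWreath.SemidihedralStructure

set_option autoImplicit false
open Cfsg

namespace Cfsg.Agent.S1193

/-- Let S be quasi-dihedral of order 2^(n+1). Then S' = Φ(S) is cyclic of order 2^(n-1), the centre of S has order 2, and the subgroup generated by the involutions of S is dihedral of order 2^n. -/
theorem result {S : Type*} [Group S] [Finite S] (hS : Cfsg.IsQuasiDihedral S) (n : ℕ) (hn : Nat.card S = 2 ^ (n + 1)) : commutator S = frattini S ∧ IsCyclic (commutator S) ∧ Nat.card (commutator S) = 2 ^ (n - 1) ∧ Nat.card (Subgroup.center S) = 2 ∧ Nonempty (↥(Subgroup.closure {x : S | orderOf x = 2}) ≃* DihedralGroup (2 ^ (n - 1))) := by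
  obtain ⟨d⟩ := QDWreath.qdData_of_card hS hn
  exact ⟨d.commutator_eq.trans d.frattini_eq.symm, d.commutator_eq ▸ d.isCyclic_even,
    d.commutator_eq ▸ d.card_even, d.card_center,
    d.closure_involutions.symm ▸ d.nonempty_dih_equiv⟩

end Cfsg.Agent.S1193
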