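import Cfsg.Statements.S2133
import Cfsg.Agent.Lib.Golay.OctadStab
import Mathlib.LinearAlgebra.Matrix.GeneralLinearGroup.Card

set_option autoImplicit false
open Cfsg

namespace Cfsg.Agent.S2133

open Cfsg.Agent.Golay MulAction
open scoped Pointwise

/-- The sixteen translations, indexed by their coordinates. -/
def tt : List ℕ :=
  [984818244535754528103549039458486304,
    965128854020860192151391391390468128,
    963721886883755259286232606933354528,
    961365507626256404119956257276790816,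
    979121071158219704299181131031480352,
    975346028712660580592452217730074656,
    981818691054096003685363657089320992,
    966182099583441531322624363496310816,
    968708902336673183175954409307867168,
    970499966350631336865513127433832480,
    971592882964418941354553515258775584,
    967812279691448225500382947153381408,
    980224387687010295957922729495201824,
    972512676110088067912772961567868960,
    976448692869377735270425038196672544,
    983548720921252936276249910206105632]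

/-- The coordinate masks of the sixteen points outside the octad. -/
def lab : List ℕ :=
  [0, 0, 0, 0, 2, 0, 3, 6, 10, 18, 23, 22, 19, 30, 0, 14, 27, 0, 15, 31, 11, 26, 7, 0]

/-- An octad disjoint from the standard one. -/
def oc : ℕ := 4038912

/-- A translation. -/
def tv (m : ℕ) : ℕ := tt.getD m 0

/-- A coordinate of a point. -/
def lb (i : ℕ) (j : Fin 5) : ZMod 2 := if (lab.getD i 0).testBit j.val then 1 else 0

/-- The coordinates of a point. -/
def L (p : GolayPt) : Fin 5 → ZMod 2 := lb (idx p)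

/-- The point with given coordinates. -/
def pp (m : ℕ) : GolayPt := pt (fn (tv m) 4)

theorem tv_aut : ∀ m < 16, (isAut (tv m) && (List.range 24).all fun i =>
    !octad0.testBit i || fn (tv m) i == i) = true := by decide +kernel

theorem tv_lt : ∀ m < 16, ∀ i < 24, fn (tv m) i < 24 := by decide +kernel

theorem tv_step : ∀ m < 16, ∀ i < 24, octad0.testBit i = false → ∀ j : Fin 5,
    lb (fn (tv m) i) j = lb i j + lb (fn (tv m) 4) j + lb 4 j := by decide +kernel

theorem tv_cover : ∀ i < 24, octad0.testBit i = false → ∃ m < 16, fn (tv m) 4 = i := by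
  decide +kernel

theorem tv_zero : fn (tv 0) 4 = 4 := by decide +kernel

theorem tv_split : ∀ m < 16, m = 0 ∨ ∃ b ∈ [1, 2, 4, 8], ∃ m' < m,
    fn (tv m) 4 = fn (tv b) (fn (tv m') 4) ∧ octad0.testBit (fn (tv m') 4) = false := by
  decide +kernel

theorem z_fix : ∀ i < 24, fn (tv 1) i = i ↔ octad0.testBit i = true := by decide +kernel

theorem trans_mem : ∀ d ∈ transTable.getD 6 [], d ∈ tt := by decide +kernel

theorem lb_inj : ∀ i < 24, ∀ k < 24, octad0.testBit i = false → octad0.testBit k = false →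
    (∀ j : Fin 5, lb i j = lb k j) → i = k := by decide +kernel

theorem oc_ok : (isCode oc && popcount oc == 8) = true ∧ oc &&& octad0 = 0 ∧
    oc.testBit 4 = false := by decide +kernel

theorem valid_tv {m : ℕ} (hm : m < 16) : validPerm (tv m) = true :=
  validPerm_of_isAut (Bool.and_eq_true_iff.mp (tv_aut m hm)).1

theorem idx_tv {m : ℕ} (hm : m < 16) (p : GolayPt) :
    idx (toPerm (tv m) p) = fn (tv m) (idx p) :=
  idx_toPerm (valid_tv hm) p

/-- The translation of the octad used as the involution. -/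
noncomputable def z0 : ↥Cfsg.M24 :=
  ⟨toPerm (tv 1), toPerm_mem_M24 (Bool.and_eq_true_iff.mp (tv_aut 1 (by norm_num))).1⟩

/-- The standard octad. -/
abbrev o : Finset GolayPt := pts octad0

theorem mem_o {p : GolayPt} : p ∈ o ↔ toPerm (tv 1) p = p := by
  rw [mem_pts, ← z_fix _ (idx_lt p), ← idx_tv (by norm_num), idx_injective.eq_iff]

theorem tv_mem_fix {m : ℕ} (hm : m < 16) : toPerm (tv m) ∈ octadFix o := by
  have h := tv_aut m hm
  simp only [Bool.and_eq_true, List.all_eq_true, List.mem_range, Bool.or_eq_true,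
    Bool.not_eq_true', beq_iff_eq] at h
  refine mem_octadFix.mpr ⟨toPerm_mem_M24 h.1, fun p hp => idx_injective ?_⟩
  rw [idx_tv hm]
  rcases h.2 _ (idx_lt p) with h' | h'
  · rw [mem_pts, h'] at hp; simp at hp
  · exact h'

theorem exists_tv {g : Equiv.Perm GolayPt} (hg : g ∈ octadFix o) :
    ∃ m < 16, g = toPerm (tv m) := by
  rw [octadFix_octad0] at hg
  obtain ⟨d, hd, -, hgd⟩ := exists_transversal_mem (k := 6) (by norm_num) hg
  rw [show (6 + 1 : ℕ) = 7 from rfl, chain_seven, Subgroup.mem_bot, inv_mul_eq_one] at hgd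
  obtain ⟨m, hm, rfl⟩ := List.getElem_of_mem (trans_mem d hd)
  refine ⟨m, hm, ?_⟩
  rw [← hgd, tv, List.getD_eq_getElem _ _ hm]

theorem preserves {g : Equiv.Perm GolayPt} (h : Commute g (toPerm (tv 1))) (p : GolayPt) :
    g p ∈ o ↔ p ∈ o := by
  rw [mem_o, mem_o, ← Equiv.Perm.mul_apply, ← h.eq, Equiv.Perm.mul_apply, g.injective.eq_iff]

/-- The centraliser of the translation in M24. -/
abbrev Cz : Subgroup ↥Cfsg.M24 := Subgroup.centralizer {z0}

theorem commute_z (g : ↥Cz) : Commute (g.1.1 : Equiv.Perm GolayPt) (toPerm (tv 1)) :=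
  (congrArg Subtype.val (Subgroup.mem_centralizer_iff.mp g.2 z0 rfl)).symm

theorem smul_o (g : ↥Cz) : (g.1.1 : Equiv.Perm GolayPt) • o = o := by
  ext p
  rw [← Finset.inv_smul_mem_iff, Equiv.Perm.smul_def,
    ← preserves (commute_z g) ((g.1.1 : Equiv.Perm GolayPt)⁻¹ p)]
  simp

theorem conj_tv (g : ↥Cz) {m : ℕ} (hm : m < 16) :
    ∃ n < 16, ∀ p, g.1.1 (toPerm (tv m) p) = toPerm (tv n) (g.1.1 p) := by
  have hv := mem_octadFix.mp (tv_mem_fix hm)
  have hmem : g.1.1 * toPerm (tv m) * g.1.1⁻¹ ∈ octadFix o := by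
    refine mem_octadFix.mpr ⟨mul_mem (mul_mem g.1.2 hv.1) (inv_mem g.1.2), fun p hp => ?_⟩
    rw [Equiv.Perm.mul_apply, Equiv.Perm.mul_apply, hv.2, Equiv.Perm.coe_inv,
      Equiv.apply_symm_apply]
    rw [← preserves (commute_z g), Equiv.Perm.coe_inv, Equiv.apply_symm_apply]
    exact hp
  obtain ⟨n, hn, he⟩ := exists_tv hmem
  exact ⟨n, hn, fun p => by rw [← he]; simp⟩

theorem pp_not_mem {m : ℕ} (hm : m < 16) : pp m ∉ o := by
  have h : ∀ m < 16, octad0.testBit (fn (tv m) 4) = false := by decide +kernel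
  rw [mem_pts, pp, idx_pt (tv_lt m hm 4 (by norm_num)), h m hm]
  simp

theorem pp_eq {m : ℕ} (hm : m < 16) : toPerm (tv m) (pt 4) = pp m :=
  toPerm_pt (valid_tv hm) (by norm_num)

theorem pp_zero : pp 0 = pt 4 := by rw [pp, tv_zero]

theorem L_tv {m : ℕ} (hm : m < 16) {p : GolayPt} (hp : p ∉ o) :
    L (toPerm (tv m) p) = L p + L (pp m) + L (pt 4) := by
  funext j
  show lb (idx (toPerm (tv m) p)) j = lb (idx p) j + lb (idx (pp m)) j + lb (idx (pt 4)) j
  rw [idx_tv hm, pp, idx_pt (tv_lt m hm 4 (by norm_num)), idx_pt (by norm_num : 4 < 24)]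
  exact tv_step m hm _ (idx_lt p) (by simpa [mem_pts] using hp) j

theorem add_self5 (v : Fin 5 → ZMod 2) : v + v = 0 :=
  funext fun j => (by decide : ∀ x : ZMod 2, x + x = 0) (v j)

theorem key (g : ↥Cz) {m : ℕ} (hm : m < 16) {p : GolayPt} (hp : p ∉ o) :
    L (g.1.1 (toPerm (tv m) p)) = L (g.1.1 p) + L (g.1.1 (pp m)) + L (g.1.1 (pt 4)) := by
  have h4 : pt 4 ∉ o := pp_zero ▸ pp_not_mem (by norm_num : 0 < 16)
  obtain ⟨n, hn, he⟩ := conj_tv g hm
  rw [he, L_tv hn (fun h => hp ((preserves (commute_z g) p).mp h)), ← pp_eq hm, he,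
    L_tv hn (fun h => h4 ((preserves (commute_z g) _).mp h))]
  funext j
  simp only [Pi.add_apply]
  generalize L (g.1.1 p) j = a, L (g.1.1 (pt 4)) j = b, L (pp n) j = c, L (pt 4) j = d
  revert a b c d
  decide

/-- The index of the translation giving a basis vector. -/
def bix (j : Fin 5) : ℕ := [1, 0, 2, 4, 8].getD j.val 0

/-- The matrix of an element of the centraliser. -/
def mat (g : ↥Cz) : Matrix (Fin 5) (Fin 5) (ZMod 2) :=
  Matrix.of fun i j => if j = 1 then L (g.1.1 (pt 4)) i
    else L (g.1.1 (pp (bix j))) i + L (g.1.1 (pt 4)) i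

theorem L_four : L (pt 4) = Pi.single 1 1 := by decide +kernel

theorem L_bix : ∀ j : Fin 5, j ≠ 1 → L (pp (bix j)) + L (pt 4) = Pi.single j 1 := by
  decide +kernel

theorem mat_single (g : ↥Cz) (j : Fin 5) :
    (mat g).mulVec (Pi.single j 1) =
      if j = 1 then L (g.1.1 (pt 4)) else L (g.1.1 (pp (bix j))) + L (g.1.1 (pt 4)) := by
  rw [Matrix.mulVec_single_one]
  funext i
  rw [Matrix.col_apply, mat, Matrix.of_apply]
  split <;> rfl

theorem mat_pp (g : ↥Cz) : ∀ m, m < 16 → (mat g).mulVec (L (pp m)) = L (g.1.1 (pp m)) := by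
  intro m
  induction m using Nat.strong_induction_on with
  | _ m ih =>
    intro hm
    rcases tv_split m hm with rfl | ⟨b, hb, m', hm', he, hout⟩
    · rw [pp_zero, L_four, mat_single, if_pos rfl]
    · have hb16 : b < 16 := by
        simp only [List.mem_cons, List.not_mem_nil, or_false] at hb; omega
      obtain ⟨j, hj, rfl⟩ : ∃ j : Fin 5, j ≠ 1 ∧ bix j = b :=
        (by decide : ∀ b ∈ [1, 2, 4, 8], ∃ j : Fin 5, j ≠ 1 ∧ bix j = b) b hb
      have hp : pp m = toPerm (tv (bix j)) (pp m') := by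
        rw [pp, pp, toPerm_pt (valid_tv hb16) (tv_lt m' (by omega) 4 (by norm_num)), he]
      have hne := pp_not_mem (m := m') (by omega)
      rw [hp, L_tv hb16 hne, key g hb16 hne, add_assoc, Matrix.mulVec_add, ih m' hm' (by omega),
        L_bix j hj, mat_single, if_neg hj, add_assoc]

theorem mat_L (g : ↥Cz) {p : GolayPt} (hp : p ∉ o) : (mat g).mulVec (L p) = L (g.1.1 p) := by
  obtain ⟨m, hm, he⟩ := tv_cover (idx p) (idx_lt p) (by simpa [mem_pts] using hp)
  have : p = pp m := by rw [pp, he, pt_idx]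
  rw [this]
  exact mat_pp g m hm

theorem mat_ext {A B : Matrix (Fin 5) (Fin 5) (ZMod 2)}
    (h : ∀ p, p ∉ o → A.mulVec (L p) = B.mulVec (L p)) : A = B := by
  refine Matrix.ext_of_mulVec_single fun j => ?_
  have h4 : pt 4 ∉ o := pp_zero ▸ pp_not_mem (by norm_num : 0 < 16)
  by_cases hj : j = 1
  · subst hj; rw [← L_four]; exact h _ h4
  · rw [← L_bix j hj, Matrix.mulVec_add, Matrix.mulVec_add, h _ h4,
      h _ (pp_not_mem ((by decide : ∀ j : Fin 5, bix j < 16) j))]

theorem mat_one : mat 1 = 1 := mat_ext fun p hp => by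
  rw [mat_L 1 hp, Matrix.one_mulVec]; rfl

theorem mat_mul (g h : ↥Cz) : mat (g * h) = mat g * mat h := mat_ext fun p hp => by
  rw [mat_L _ hp, ← Matrix.mulVec_mulVec, mat_L h hp,
    mat_L g fun he => hp ((preserves (commute_z h) p).mp he)]
  rfl

/-- The representation of the centraliser. -/
def toSL (g : ↥Cz) : Matrix.SpecialLinearGroup (Fin 5) (ZMod 2) :=
  ⟨mat g, by
    have h : Matrix.det (mat g) * Matrix.det (mat g⁻¹) = 1 := by
      rw [← Matrix.det_mul, ← mat_mul, mul_inv_cancel, mat_one, Matrix.det_one]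
    revert h
    generalize Matrix.det (mat g) = a, Matrix.det (mat g⁻¹) = b
    revert a b
    decide⟩

theorem mat_z : mat ⟨z0, Subgroup.mem_centralizer_iff.mpr fun h hh => by rw [hh]⟩ =
    Matrix.transvection (0 : Fin 5) 1 1 := by
  ext i j
  rw [mat, Matrix.of_apply]
  have e : ∀ i j : Fin 5, (if j = 1 then lb (fn (tv 1) 4) i
      else lb (fn (tv 1) (fn (tv (bix j)) 4)) i + lb (fn (tv 1) 4) i) =
      (Matrix.transvection (0 : Fin 5) 1 (1 : ZMod 2)) i j := by
    have e' : ∀ i j : Fin 5, (if j = 1 then lb (fn (tv 1) 4) i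
        else lb (fn (tv 1) (fn (tv (bix j)) 4)) i + lb (fn (tv 1) 4) i) =
        (if i = j then (1 : ZMod 2) else 0) + if i = 0 ∧ j = 1 then 1 else 0 := by decide +kernel
    intro i j
    rw [e' i j, Matrix.transvection, Matrix.add_apply, Matrix.one_apply, Matrix.single_apply]
    exact congrArg _ (if_congr (by rw [eq_comm, eq_comm (a := j)]) rfl rfl)
  have h1 : ∀ m < 16, L (toPerm (tv 1) (pp m)) i = lb (fn (tv 1) (fn (tv m) 4)) i := fun m hm => by
    show lb (idx (toPerm (tv 1) (pp m))) i = _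
    rw [idx_tv (by norm_num), pp, idx_pt (tv_lt m hm 4 (by norm_num))]
  have h4 : L (toPerm (tv 1) (pt 4)) i = lb (fn (tv 1) 4) i := by
    show lb (idx (toPerm (tv 1) (pt 4))) i = _
    rw [idx_tv (by norm_num), idx_pt (by norm_num : 4 < 24)]
  rw [← e i j]
  show (if j = 1 then L (toPerm (tv 1) (pt 4)) i
    else L (toPerm (tv 1) (pp (bix j))) i + L (toPerm (tv 1) (pt 4)) i) = _
  rw [h4, h1 _ ((by decide : ∀ j : Fin 5, bix j < 16) j)]

theorem toSL_injective : Function.Injective toSL := by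
  intro g h he
  have hm : mat g = mat h := congrArg Subtype.val he
  have hout : ∀ p, p ∉ o → g.1.1 p = h.1.1 p := by
    intro p hp
    have e := mat_L g hp
    rw [hm, mat_L h hp] at e
    refine idx_injective (lb_inj _ (idx_lt _) _ (idx_lt _) ?_ ?_ fun j => (congrFun e j).symm)
    · simpa [mem_pts] using fun hh => hp ((preserves (commute_z g) p).mp (mem_pts.mpr hh))
    · simpa [mem_pts] using fun hh => hp ((preserves (commute_z h) p).mp (mem_pts.mpr hh))
  obtain ⟨hc, hd, h4⟩ := oc_ok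
  have hoc : ∀ x ∈ pts oc, x ∉ o := fun x hx hxo => by
    have := Finset.mem_inter.mpr ⟨hx, hxo⟩
    rw [← pts_and, hd, pts_zero] at this
    simp at this
  have hfix : ∀ p, p ∉ o → (h.1.1⁻¹ * g.1.1) p = p := fun p hp => by
    rw [Equiv.Perm.mul_apply, hout p hp, Equiv.Perm.coe_inv, Equiv.symm_apply_apply]
  have h4o : pt 4 ∉ o := pp_zero ▸ pp_not_mem (by norm_num : 0 < 16)
  have h1 := eq_one_of_octad_point (pts_mem_octads hc) (mul_mem (inv_mem h.1.2) g.1.2)
    (fun x hx => hfix x (hoc x hx)) (e := pt 4) (by rw [mem_pts, idx_pt (by norm_num), h4]; simp)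
    (hfix _ h4o)
  exact Subtype.ext (Subtype.ext (inv_mul_eq_one.mp h1).symm)

theorem card_Cz : 21504 ≤ Nat.card Cz := by
  let S := octadStab o
  let K : Subgroup S := (Subgroup.centralizer {toPerm (tv 1)}).subgroupOf S
  have hidx : K.index ≤ 15 := by
    classical
    let f : S → Finset.range 16 → Prop := fun g n =>
      g.1 * toPerm (tv 1) * g.1⁻¹ = toPerm (tv n.1)
    have hex : ∀ g : S, ∃ n, n < 16 ∧ n ≠ 0 ∧ g.1 * toPerm (tv 1) * g.1⁻¹ = toPerm (tv n) := by
      intro g
      have hg : g.1 ∈ M24 := g.2.1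
      have hgo : ∀ p, g.1 p ∈ o ↔ p ∈ o := mem_iff_of_mem_octadStab g.2
      have hv := mem_octadFix.mp (tv_mem_fix (m := 1) (by norm_num))
      have hmem : g.1 * toPerm (tv 1) * g.1⁻¹ ∈ octadFix o := by
        refine mem_octadFix.mpr ⟨mul_mem (mul_mem hg hv.1) (inv_mem hg), fun p hp => ?_⟩
        rw [Equiv.Perm.mul_apply, Equiv.Perm.mul_apply, hv.2, Equiv.Perm.coe_inv,
          Equiv.apply_symm_apply]
        rw [← hgo, Equiv.Perm.coe_inv, Equiv.apply_symm_apply]
        exact hp
      obtain ⟨n, hn, he⟩ := exists_tv hmem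
      refine ⟨n, hn, fun h0 => ?_, he⟩
      subst h0
      have h1 : toPerm (tv 1) (g.1⁻¹ (g.1 (pt 4))) = g.1⁻¹ (g.1 (pt 4)) := by
        have e := Equiv.Perm.ext_iff.mp he (g.1 (pt 4))
        have hid : toPerm (tv 0) = 1 := by
          refine Equiv.ext fun p => idx_injective ?_
          rw [idx_tv (by norm_num)]
          exact (by decide +kernel : ∀ i < 24, fn (tv 0) i = i) _ (idx_lt p)
        rw [hid, Equiv.Perm.one_apply, Equiv.Perm.mul_apply, Equiv.Perm.mul_apply] at e
        apply g.1.injective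
        rw [e, Equiv.Perm.coe_inv, Equiv.apply_symm_apply]
      rw [Equiv.Perm.coe_inv, Equiv.symm_apply_apply, ← mem_o] at h1
      exact (pp_zero ▸ pp_not_mem (by norm_num : 0 < 16)) h1
    choose n hn hn0 he using hex
    let F : S ⧸ K → ↥((Finset.range 16).erase 0) := fun q =>
      ⟨n q.out, Finset.mem_erase.mpr ⟨hn0 _, Finset.mem_range.mpr (hn _)⟩⟩
    have hF : Function.Injective F := by
      intro a b hab
      have e : n a.out = n b.out := congrArg Subtype.val hab
      have h' : a.out.1 * toPerm (tv 1) * a.out.1⁻¹ = b.out.1 * toPerm (tv 1) * b.out.1⁻¹ := by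
        rw [he, he, e]
      rw [← QuotientGroup.out_eq' a, ← QuotientGroup.out_eq' b, QuotientGroup.eq]
      show ((a.out⁻¹ * b.out : S) : Equiv.Perm GolayPt) ∈ Subgroup.centralizer {toPerm (tv 1)}
      rw [Subgroup.mem_centralizer_singleton_iff, Subgroup.coe_mul, Subgroup.coe_inv]
      calc a.out.1⁻¹ * b.out.1 * toPerm (tv 1)
          = a.out.1⁻¹ * (b.out.1 * toPerm (tv 1) * b.out.1⁻¹) * b.out.1 := by group
        _ = a.out.1⁻¹ * (a.out.1 * toPerm (tv 1) * a.out.1⁻¹) * b.out.1 := by rw [h']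
        _ = toPerm (tv 1) * (a.out.1⁻¹ * b.out.1) := by group
    have := Nat.card_le_card_of_injective F hF
    rw [Nat.card_eq_finsetCard, Finset.card_erase_of_mem (by simp), Finset.card_range] at this
    exact this
  let ι : K → Cz := fun g => ⟨⟨g.1.1, g.1.2.1⟩, Subgroup.mem_centralizer_singleton_iff.mpr
    (Subtype.ext (Subgroup.mem_centralizer_singleton_iff.mp g.2))⟩
  have hι : Function.Injective ι := fun a b h =>
    Subtype.ext (Subtype.ext (congrArg (fun x : Cz => x.1.1) h))
  have h1 := K.index_mul_card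
  rw [natCard_octadStab (pts_mem_octads (by decide +kernel))] at h1
  have h2 := Nat.card_le_card_of_injective ι hι
  have h3 : K.index * Nat.card K ≤ 15 * Nat.card K := Nat.mul_le_mul_right _ hidx
  omega

theorem card_target (s : Matrix.SpecialLinearGroup (Fin 5) (ZMod 2))
    (hs : (s : Matrix (Fin 5) (Fin 5) (ZMod 2)) = Matrix.transvection 0 1 1) :
    Nat.card (Subgroup.centralizer ({s} : Set (Matrix.SpecialLinearGroup (Fin 5) (ZMod 2))))
      ≤ 21504 := by
  let T := Subgroup.centralizer ({s} : Set (Matrix.SpecialLinearGroup (Fin 5) (ZMod 2)))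
  have hz : ∀ x : T, (∀ i : Fin 5, i ≠ 0 → x.1.1 i 0 = 0) ∧ (∀ j : Fin 5, j ≠ 1 → x.1.1 1 j = 0) ∧
      x.1.1 0 0 = x.1.1 1 1 := by
    intro x
    have h := congrArg (fun y : Matrix.SpecialLinearGroup (Fin 5) (ZMod 2) =>
      (y : Matrix (Fin 5) (Fin 5) (ZMod 2))) (Subgroup.mem_centralizer_singleton_iff.mp x.2)
    simp only [Matrix.SpecialLinearGroup.coe_mul, hs] at h
    refine ⟨fun i hi => ?_, fun j hj => ?_, ?_⟩
    · have := congrFun₂ h i 1
      rw [Matrix.mul_transvection_apply_same, Matrix.transvection_mul_apply_of_ne _ _ _ _ hi] at this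
      simpa using this
    · have := congrFun₂ h 0 j
      rw [Matrix.mul_transvection_apply_of_ne _ _ _ _ hj, Matrix.transvection_mul_apply_same] at this
      simpa using this
    · have := congrFun₂ h 0 1
      rw [Matrix.mul_transvection_apply_same, Matrix.transvection_mul_apply_same] at this
      revert this
      generalize x.1.1 0 0 = a, x.1.1 0 1 = b, x.1.1 1 1 = c
      revert a b c
      decide
  let sh : Fin 3 → Fin 5 := ![2, 3, 4]
  let A : T → Matrix (Fin 3) (Fin 3) (ZMod 2) := fun x => Matrix.of fun i j => x.1.1 (sh i) (sh j)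
  have hmul : ∀ x y : T, A (x * y) = A x * A y := by
    intro x y
    ext i j
    have hi : sh i ≠ 0 := (by decide : ∀ i : Fin 3, (![2, 3, 4] : Fin 3 → Fin 5) i ≠ 0) i
    have hj : sh j ≠ 1 := (by decide : ∀ i : Fin 3, (![2, 3, 4] : Fin 3 → Fin 5) i ≠ 1) j
    show (x.1.1 * y.1.1) (sh i) (sh j) = _
    rw [Matrix.mul_apply, Fin.sum_univ_five, Matrix.mul_apply, Fin.sum_univ_three,
      (hz x).1 _ hi, (hz y).2.1 _ hj]
    simp [A, sh]
  have hA1 : A 1 = 1 := by
    ext i j
    show (1 : Matrix (Fin 5) (Fin 5) (ZMod 2)) (sh i) (sh j) = _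
    fin_cases i <;> fin_cases j <;> rfl
  let u : T → GL (Fin 3) (ZMod 2) := fun x =>
    ⟨A x, A x⁻¹, by rw [← hmul, mul_inv_cancel, hA1], by rw [← hmul, inv_mul_cancel, hA1]⟩
  let F : T → GL (Fin 3) (ZMod 2) × (Fin 4 → ZMod 2) × (Fin 3 → ZMod 2) := fun x =>
    (u x, fun j => x.1.1 0 j.succ, fun i => x.1.1 (sh i) 1)
  have hF : Function.Injective F := by
    intro x y hxy
    simp only [F, Prod.mk.injEq] at hxy
    obtain ⟨h1, h2, h3⟩ := hxy
    have h1' : ∀ i j : Fin 3, x.1.1 (sh i) (sh j) = y.1.1 (sh i) (sh j) := fun i j =>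
      congrFun₂ (congrArg (fun v : GL (Fin 3) (ZMod 2) =>
        (v : Matrix (Fin 3) (Fin 3) (ZMod 2))) h1) i j
    have hne : ∀ z : T, z.1.1 0 0 = 1 := fun z => by
      have hd := z.1.2
      by_contra hc
      have h0 : z.1.1 0 0 = 0 := (by decide : ∀ a : ZMod 2, a ≠ 1 → a = 0) _ hc
      rw [Matrix.det_eq_zero_of_column_eq_zero 0 fun i => ?_] at hd
      · exact zero_ne_one hd
      · by_cases hi : i = 0
        · rw [hi]; exact h0
        · exact (hz z).1 i hi
    refine Subtype.ext (Subtype.ext (Matrix.ext fun i j => ?_))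
    by_cases hi0 : i = 0
    · subst hi0
      by_cases hj : j = 0
      · subst hj; rw [hne x, hne y]
      · obtain ⟨j', rfl⟩ := Fin.exists_succ_eq.mpr hj
        exact congrFun h2 j'
    by_cases hi1 : i = 1
    · subst hi1
      by_cases hj : j = 1
      · subst hj; rw [← (hz x).2.2, ← (hz y).2.2, hne x, hne y]
      · rw [(hz x).2.1 j hj, (hz y).2.1 j hj]
    obtain ⟨i', rfl⟩ : ∃ i', sh i' = i :=
      (by decide : ∀ i : Fin 5, i ≠ 0 → i ≠ 1 → ∃ i', (![2, 3, 4] : Fin 3 → Fin 5) i' = i) i hi0 hi1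
    by_cases hj0 : j = 0
    · subst hj0; rw [(hz x).1 _ hi0, (hz y).1 _ hi0]
    by_cases hj1 : j = 1
    · subst hj1; exact congrFun h3 i'
    obtain ⟨j', rfl⟩ : ∃ j', sh j' = j :=
      (by decide : ∀ i : Fin 5, i ≠ 0 → i ≠ 1 → ∃ i', (![2, 3, 4] : Fin 3 → Fin 5) i' = i) j hj0 hj1
    exact h1' i' j'
  refine (Nat.card_le_card_of_injective F hF).trans ?_
  rw [Nat.card_prod, Nat.card_prod, Matrix.card_GL_field]
  simp [Fin.prod_univ_three]

/-- The Mathieu group M₂₄ (the automorphism group of the length-24 binary code) has an involution whose centraliser is isomorphic to the centraliser of a transvection in SL(5, 2) (a group of shape 2^{1+6}:GL(3, 2)). -/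
theorem result (s : Matrix.SpecialLinearGroup (Fin 5) (ZMod 2)) (hs : (s : Matrix (Fin 5) (Fin 5) (ZMod 2)) = Matrix.transvection 0 1 1) : ∃ z : ↥Cfsg.M24, orderOf z = 2 ∧ Nonempty (↥(Subgroup.centralizer ({z} : Set ↥Cfsg.M24)) ≃* ↥(Subgroup.centralizer ({s} : Set (Matrix.SpecialLinearGroup (Fin 5) (ZMod 2))))) := by
  refine ⟨z0, ?_, ?_⟩
  · refine orderOf_eq_prime (p := 2) ?_ fun h => ?_
    · rw [pow_two]
      exact Subtype.ext (mul_self_octadFix
        (pts_mem_octads (m := octad0) (by decide +kernel)) (tv_mem_fix (m := 1) (by norm_num)))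
    · have h4 : pt 4 ∉ o := pp_zero ▸ pp_not_mem (by norm_num : 0 < 16)
      apply h4
      rw [mem_o, show toPerm (tv 1) = 1 from congrArg Subtype.val h]
      rfl
  have hmem : ∀ g : ↥Cz, toSL g ∈ Subgroup.centralizer ({s} : Set _) := fun g => by
    let zc : ↥Cz := ⟨z0, Subgroup.mem_centralizer_iff.mpr fun h hh => by rw [hh]⟩
    refine Subgroup.mem_centralizer_singleton_iff.mpr (Subtype.ext ?_)
    rw [Matrix.SpecialLinearGroup.coe_mul, Matrix.SpecialLinearGroup.coe_mul, hs, ← mat_z]
    show mat g * mat zc = mat zc * mat g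
    rw [← mat_mul, ← mat_mul]
    congr 1
    exact Subtype.ext (Subgroup.mem_centralizer_iff.mp g.2 z0 rfl).symm
  let φ : ↥Cz →* ↥(Subgroup.centralizer ({s} : Set _)) :=
    { toFun := fun g => ⟨toSL g, hmem g⟩
      map_one' := Subtype.ext (Subtype.ext mat_one)
      map_mul' := fun g h => Subtype.ext (Subtype.ext (mat_mul g h)) }
  have hinj : Function.Injective φ := fun g h he => toSL_injective (congrArg Subtype.val he)
  exact ⟨MulEquiv.ofBijective φ ((Nat.bijective_iff_injective_and_card φ).mpr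
    ⟨hinj, le_antisymm (Nat.card_le_card_of_injective φ hinj)
      ((card_target s hs).trans card_Cz)⟩)⟩

end Cfsg.Agent.S2133
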