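import Cfsg.Statements.S0811
import Cfsg.Agent.Lib.PSL2.Dihedral

set_option autoImplicit false
open Cfsg

namespace Cfsg.Agent.S0811

/-- For q ∉ {2, 7, 9}, PSL_2(q) has a maximal subgroup isomorphic to the dihedral group of order 2(q + 1)/d, d = gcd(2, q − 1). -/
theorem result {F : Type*} [Field F] [Fintype F] {q : ℕ} (hF : Fintype.card F = q) (hq : q ∉ ({2, 7, 9} : Finset ℕ)) : ∃ H : Subgroup (Matrix.ProjectiveSpecialLinearGroup (Fin 2) F), IsCoatom H ∧ Nonempty (H ≃* DihedralGroup ((q + 1) / Nat.gcd 2 (q - 1))) := by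
  subst hF
  rw [← Nat.card_eq_fintype_card] at hq ⊢
  simp only [Finset.mem_insert, Finset.mem_singleton, not_or] at hq
  obtain ⟨h2, h7, h9⟩ := hq
  obtain ⟨p, hp⟩ := CharP.exists F
  have : Fact p.Prime := ⟨CharP.char_is_prime F p⟩
  obtain ⟨a, ha, hqn, hcase⟩ := PSL2.q_cases (F := F) p
  have hq1 : 1 < Nat.card F := Finite.one_lt_card
  have hn2 : 2 ≤ (Nat.card F + 1) / Nat.gcd 2 (Nat.card F - 1) ∧
      ((Nat.card F + 1) / Nat.gcd 2 (Nat.card F - 1) = 2 → Nat.card F = 3) ∧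
      (Nat.card F = 11 → (Nat.card F + 1) / Nat.gcd 2 (Nat.card F - 1) = 6) := by
    rcases hcase with ⟨-, he, hd, -⟩ | ⟨-, ho, hd, -⟩ <;> rw [hd]
    · rw [Nat.even_iff] at he; omega
    · rw [Nat.odd_iff] at ho; omega
  obtain ⟨H, ⟨e⟩⟩ := PSL2.exists_dihedral_sub (F := F) hn2.1 (Or.inr dvd_rfl)
  refine ⟨H, ?_, ⟨e⟩⟩
  rcases eq_or_lt_of_le hn2.1 with h | h
  · have hH : Nat.card H = 4 := by
      rw [Nat.card_congr e.toEquiv, DihedralGroup.nat_card, ← h]
    have hq3 := hn2.2.1 h.symm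
    have h12 : Nat.card (PSL2.PSL2 F) = 12 := by
      have h1 := PSL2.card_psl_mul (F := F)
      rw [hq3] at h1
      norm_num at h1
      omega
    refine PSL2.isCoatom_of_forall (fun ht => ?_) (fun M hle hne => ?_)
    · rw [ht, Subgroup.card_top, h12] at hH
      norm_num at hH
    · refine PSL2.eq_of_le_of_card hle ?_
      obtain ⟨i, hi⟩ := hH ▸ Subgroup.card_dvd_of_le hle
      have hM := h12 ▸ Subgroup.card_subgroup_dvd_card M
      have hne12 : Nat.card M ≠ 12 := fun h => hne (Subgroup.eq_top_of_card_eq M (h.trans h12.symm))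
      have := Nat.le_of_dvd (by norm_num) hM
      rw [hH]
      have : Nat.card M = 4 ∨ Nat.card M = 8 ∨ Nat.card M = 0 := by omega
      rcases this with h | h | h <;> rw [h] at hM <;> omega
  · exact PSL2.dihedral_isCoatom h (Or.inr rfl) h2 h7 h9 hn2.2.2 e

end Cfsg.Agent.S0811
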