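import Cfsg.Statements.S0812
import Cfsg.Agent.Lib.PSL2.Dihedral

set_option autoImplicit false
open Cfsg

namespace Cfsg.Agent.S0812

/-- For q ∉ {2, 3, 5, 7, 9, 11}, PSL_2(q) has a maximal subgroup isomorphic to the dihedral group of order 2(q − 1)/d, d = gcd(2, q − 1). -/
theorem result {F : Type*} [Field F] [Fintype F] {q : ℕ} (hF : Fintype.card F = q) (hq : q ∉ ({2, 3, 5, 7, 9, 11} : Finset ℕ)) : ∃ H : Subgroup (Matrix.ProjectiveSpecialLinearGroup (Fin 2) F), IsCoatom H ∧ Nonempty (H ≃* DihedralGroup ((q - 1) / Nat.gcd 2 (q - 1))) := by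
  subst hF
  rw [← Nat.card_eq_fintype_card] at hq ⊢
  simp only [Finset.mem_insert, Finset.mem_singleton, not_or] at hq
  obtain ⟨h2, h3, h5, h7, h9, h11⟩ := hq
  obtain ⟨p, hp⟩ := CharP.exists F
  have : Fact p.Prime := ⟨CharP.char_is_prime F p⟩
  obtain ⟨a, ha, hqn, hcase⟩ := PSL2.q_cases (F := F) p
  have hq1 : 1 < Nat.card F := Finite.one_lt_card
  have hn3 : 3 ≤ (Nat.card F - 1) / Nat.gcd 2 (Nat.card F - 1) := by
    rcases hcase with ⟨-, he, hd, -⟩ | ⟨-, ho, hd, -⟩ <;> rw [hd]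
    · rw [Nat.even_iff] at he; omega
    · rw [Nat.odd_iff] at ho; omega
  obtain ⟨H, ⟨e⟩⟩ := PSL2.exists_dihedral_sub (F := F) (le_trans (by norm_num) hn3) (Or.inl dvd_rfl)
  exact ⟨H, PSL2.dihedral_isCoatom hn3 (Or.inl rfl) h2 h7 h9 (fun h => absurd h h11) e, ⟨e⟩⟩

end Cfsg.Agent.S0812
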