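import Cfsg.Statements.S0743
import Cfsg.Agent.EqLemmas

set_option autoImplicit false
open Cfsg

universe u

namespace Cfsg.Agent.S0743

open MulAction Classical in
theorem gleason {p : ℕ} (hp : p.Prime) : ∀ (k : ℕ) (Γ β : Type u) [Group Γ] [Finite Γ] [MulAction Γ β] [Finite β],
    1 ≤ k → k < Nat.card β →
    (∀ s : Finset β, s.card = k → ∃ P : Subgroup Γ, IsPGroup p P ∧ fixedPoints P β = (s : Set β)) →
    IsMultiplyPretransitive Γ β k := by
  haveI := Fact.mk hp
  intro k
  induction k with
  | zero => intro Γ β _ _ _ _ h; omega
  | succ k ih =>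
    intro Γ β _ _ _ _ _ hkn h
    have := Fintype.ofFinite β
    haveI htrans : IsPretransitive Γ β := by
      refine ⟨fun a b => ?_⟩
      by_contra hb
      set O : Finset β := (orbit Γ a).toFinset with hO
      have hcount : ∀ s : Finset β, s.card = k + 1 → (O ∩ s).card ≡ O.card [MOD p] := by
        intro s hs
        obtain ⟨P, hP, hfix⟩ := h s hs
        have hmod := hP.card_modEq_card_fixedPoints (orbit Γ a)
        have e : Nat.card (fixedPoints P (orbit Γ a)) = (O ∩ s).card := by
          rw [Nat.card_eq_fintype_card, ← Finset.card_univ]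
          refine Finset.card_bij (fun x _ => (x.1.1 : β)) ?_ ?_ ?_
          · intro x _
            refine Finset.mem_inter.2 ⟨Set.mem_toFinset.2 x.1.2, ?_⟩
            have : (x.1.1 : β) ∈ fixedPoints P β := fun g => congrArg Subtype.val (x.2 g)
            rw [hfix] at this
            exact this
          · intro x _ y _ hxy
            exact Subtype.ext (Subtype.ext hxy)
          · intro y hy
            rw [Finset.mem_inter] at hy
            have : y ∈ fixedPoints P β := by rw [hfix]; exact hy.2
            exact ⟨⟨⟨y, Set.mem_toFinset.1 hy.1⟩, fun g => Subtype.ext (this g)⟩, Finset.mem_univ _, rfl⟩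
        rw [e, Nat.card_eq_fintype_card, ← Set.toFinset_card] at hmod
        exact hmod.symm
      have haO : a ∈ O := Set.mem_toFinset.2 (mem_orbit_self a)
      have hbO : b ∉ O := fun hm => hb (mem_orbit_iff.1 ((Set.mem_toFinset (s := orbit Γ a)).1 hm))
      have hab : a ≠ b := fun e => hbO (e ▸ haO)
      obtain ⟨t, ht, htc⟩ := Finset.exists_subset_card_eq
        (s := ((Finset.univ : Finset β).erase a).erase b) (n := k) (by
          rw [Finset.card_erase_of_mem (by simp [hab.symm]), Finset.card_erase_of_mem (Finset.mem_univ _),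
            Finset.card_univ, ← Nat.card_eq_fintype_card]
          omega)
      have hat : a ∉ t := fun hm => by simpa using ht hm
      have hbt : b ∉ t := fun hm => by simpa using ht hm
      have h1 := hcount (insert a t) (by rw [Finset.card_insert_of_notMem hat, htc])
      have h2 := hcount (insert b t) (by rw [Finset.card_insert_of_notMem hbt, htc])
      rw [Finset.inter_insert_of_mem haO, Finset.card_insert_of_notMem (by simp [hat])] at h1
      rw [Finset.inter_insert_of_notMem hbO] at h2
      have h3 : (O ∩ t).card + 1 ≡ (O ∩ t).card + 0 [MOD p] := h1.trans h2.symm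
      have h4 := (Nat.ModEq.add_left_cancel' _ h3)
      rw [Nat.modEq_zero_iff_dvd] at h4
      exact hp.ne_one (Nat.eq_one_of_dvd_one h4)
    rcases Nat.eq_zero_or_pos k with rfl | hk
    · exact is_one_pretransitive_iff.2 htrans
    · obtain ⟨a⟩ : Nonempty β := (Nat.card_pos_iff.1 (by omega)).1
      rw [SubMulAction.ofStabilizer.isMultiplyPretransitive (a := a)]
      have hcard : Nat.card (SubMulAction.ofStabilizer Γ a) = Nat.card β - 1 := by
        change Nat.card ({a}ᶜ : Set β) = _
        rw [Nat.card_coe_set_eq, Set.ncard_compl, Set.ncard_singleton]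
      refine ih (stabilizer Γ a) (SubMulAction.ofStabilizer Γ a) hk (by omega) ?_
      intro s hs
      let s' : Finset β := insert a (s.image Subtype.val)
      have has : a ∉ s.image (Subtype.val : SubMulAction.ofStabilizer Γ a → β) := by
        intro hm
        obtain ⟨x, _, hx⟩ := Finset.mem_image.1 hm
        exact x.2 hx
      obtain ⟨P, hP, hfix⟩ := h s' (by
        rw [Finset.card_insert_of_notMem has, Finset.card_image_of_injective _ Subtype.val_injective, hs])
      have hPa : P ≤ stabilizer Γ a := by
        intro g hg
        have : a ∈ fixedPoints P β := by rw [hfix]; simp [s']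
        exact this ⟨g, hg⟩
      refine ⟨P.subgroupOf (stabilizer Γ a), hP.of_equiv (Subgroup.subgroupOfEquivOfLe hPa).symm, ?_⟩
      ext x
      have hx : (x : β) ∈ fixedPoints P β ↔ x ∈ s := by
        rw [hfix]
        simp only [s', Finset.coe_insert, Set.mem_insert_iff, Finset.mem_coe, Finset.mem_image,
          SubMulAction.neq_of_mem_ofStabilizer, false_or]
        exact ⟨fun ⟨y, hy, e⟩ => Subtype.ext e ▸ hy, fun hy => ⟨x, hy, rfl⟩⟩
      rw [Finset.mem_coe, ← hx]
      constructor
      · intro hf g
        exact congrArg Subtype.val (hf ⟨⟨g.1, hPa g.2⟩, g.2⟩)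
      · intro hf g
        exact Subtype.ext (hf ⟨g.1.1, g.2⟩)


/-- Gleason's Lemma: let `p` be a prime and `1 ≤ k < n`; if every `k`-subset of the `n` points is exactly the fixed-point set of some `p`-subgroup of `G`, then `G` is `k`-transitive. -/
theorem result {α : Type*} [Fintype α] [DecidableEq α] (G : Subgroup (Equiv.Perm α)) {p k : ℕ} (hp : p.Prime) (hk : 1 ≤ k) (hkn : k < Fintype.card α) (h : ∀ s : Finset α, s.card = k → ∃ P : Subgroup G, IsPGroup p P ∧ MulAction.fixedPoints P α = (s : Set α)) : MulAction.IsMultiplyPretransitive G α k := by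
  exact gleason hp k G α hk (by rw [Nat.card_eq_fintype_card]; exact hkn) h

end Cfsg.Agent.S0743
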