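import Cfsg.Statements.S0736
import Cfsg.Agent.EqLemmas

set_option autoImplicit false
open Cfsg
open scoped Pointwise

namespace Cfsg.Agent.S0736

/-- A `k`-homogeneous permutation group of degree `n`, `k ≥ 2`, with `k + q - 1 ≤ n` for every prime power `q` dividing `k`, is `(k-1)`-homogeneous. -/
theorem result {α : Type*} [Fintype α] [DecidableEq α] (G : Subgroup (Equiv.Perm α)) {k : ℕ} (hk : 2 ≤ k) (hG : MulAction.IsPretransitive G (Set.powersetCard α k)) (hq : ∀ q : ℕ, IsPrimePow q → q ∣ k → k + q - 1 ≤ Fintype.card α) : MulAction.IsPretransitive G (Set.powersetCard α (k - 1)) := by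
  classical
  have hn : k + 1 ≤ Fintype.card α := by
    obtain ⟨p, hp, hdvd⟩ := Nat.exists_prime_and_dvd (show k ≠ 1 by omega)
    have := hq p hp.isPrimePow hdvd
    have := hp.two_le
    omega
  refine ⟨fun U0 U1 => ?_⟩
  let inO : Finset α → Prop := fun U => ∃ g : G, g • (U0 : Finset α) = U
  have hcardO : ∀ U, inO U → U.card = k - 1 := by
    rintro U ⟨g, rfl⟩
    rw [Finset.card_smul_finset]
    exact U0.2
  have hclosed : ∀ (g : G) U, inO U → inO (g • U) := by
    rintro g U ⟨h, rfl⟩
    exact ⟨g * h, mul_smul g h _⟩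
  let cnt : Finset α → ℕ := fun T => ((T.powersetCard (k - 1)).filter inO).card
  obtain ⟨T0, hU0T, -, hT0⟩ := Finset.exists_subsuperset_card_eq (n := k)
    (Finset.subset_univ (U0 : Finset α)) (by rw [U0.2]; omega)
    (by rw [Finset.card_univ]; omega)
  have hconst : ∀ T : Finset α, T.card = k → cnt T = cnt T0 := by
    intro T hT
    obtain ⟨g, hg⟩ := hG.exists_smul_eq ⟨T0, hT0⟩ ⟨T, hT⟩
    have hg' : g • T0 = T := congrArg Subtype.val hg
    refine (Finset.card_bij' (fun U _ => g • U) (fun U _ => g⁻¹ • U) ?_ ?_ ?_ ?_).symm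
    · intro U hU
      simp only [Finset.mem_filter, Finset.mem_powersetCard] at hU ⊢
      exact ⟨⟨hg' ▸ Finset.smul_finset_subset_smul_finset hU.1.1,
        by rw [Finset.card_smul_finset]; exact hU.1.2⟩, hclosed g U hU.2⟩
    · intro U hU
      simp only [Finset.mem_filter, Finset.mem_powersetCard] at hU ⊢
      refine ⟨⟨?_, by rw [Finset.card_smul_finset]; exact hU.1.2⟩, hclosed g⁻¹ U hU.2⟩
      rw [← inv_smul_smul g T0, hg']
      exact Finset.smul_finset_subset_smul_finset hU.1.1
    · intro U _; exact inv_smul_smul g U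
    · intro U _; exact smul_inv_smul g U
  set c := cnt T0 with hc
  have hcpos : c ≠ 0 := Finset.card_ne_zero.mpr ⟨U0, Finset.mem_filter.mpr
    ⟨Finset.mem_powersetCard.mpr ⟨hU0T, U0.2⟩, 1, one_smul G _⟩⟩
  have hck : c ≤ k := by
    refine (Finset.card_filter_le _ _).trans ?_
    rw [Finset.card_powersetCard, hT0, ← Nat.choose_symm (by omega),
      show k - (k - 1) = 1 by omega, Nat.choose_one_right]
  have hqc : ∀ q, IsPrimePow q → q ∣ k → q ∣ c := by
    intro q hqp hqk
    obtain ⟨S, -, hS⟩ := Finset.exists_subset_card_eq (n := k + q - 1)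
      (s := (Finset.univ : Finset α)) (by rw [Finset.card_univ]; exact hq q hqp hqk)
    have hcount := Finset.sum_card_bipartiteAbove_eq_sum_card_bipartiteBelow
      (fun (T U : Finset α) => U ⊆ T) (s := S.powersetCard k)
      (t := (S.powersetCard (k - 1)).filter inO)
    have h1 : ∀ T ∈ S.powersetCard k, (Finset.bipartiteAbove (fun (T U : Finset α) => U ⊆ T)
        ((S.powersetCard (k - 1)).filter inO) T).card = c := by
      intro T hT
      rw [Finset.mem_powersetCard] at hT
      rw [← hconst T hT.2]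
      congr 1
      ext U
      simp only [Finset.mem_bipartiteAbove, Finset.mem_filter, Finset.mem_powersetCard]
      exact ⟨fun h => ⟨⟨h.2, h.1.1.2⟩, h.1.2⟩,
        fun h => ⟨⟨⟨h.1.1.trans hT.1, h.1.2⟩, h.2⟩, h.1.1⟩⟩
    have h2 : ∀ U ∈ (S.powersetCard (k - 1)).filter inO,
        (Finset.bipartiteBelow (fun (T U : Finset α) => U ⊆ T) (S.powersetCard k) U).card = q := by
      intro U hU
      rw [Finset.mem_filter, Finset.mem_powersetCard] at hU
      have hcard : (S \ U).card = q := by
        rw [Finset.card_sdiff_of_subset hU.1.1, hS, hU.1.2]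
        omega
      have hbij : Finset.bipartiteBelow (fun (T U : Finset α) => U ⊆ T) (S.powersetCard k) U
          = (S \ U).image (fun x => insert x U) := by
        ext T
        simp only [Finset.mem_bipartiteBelow, Finset.mem_powersetCard, Finset.mem_image,
          Finset.mem_sdiff]
        constructor
        · rintro ⟨⟨hTS, hTk⟩, hUT⟩
          obtain ⟨x, hx⟩ := Finset.card_eq_one.mp (show (T \ U).card = 1 by
            rw [Finset.card_sdiff_of_subset hUT, hTk, hU.1.2]; omega)
          have hxT : x ∈ T \ U := hx ▸ Finset.mem_singleton_self x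
          rw [Finset.mem_sdiff] at hxT
          exact ⟨x, ⟨hTS hxT.1, hxT.2⟩, by
            rw [← Finset.sdiff_union_of_subset hUT, hx, Finset.singleton_union]⟩
        · rintro ⟨x, ⟨hxS, hxU⟩, rfl⟩
          exact ⟨⟨Finset.insert_subset hxS hU.1.1, by
            rw [Finset.card_insert_of_notMem hxU, hU.1.2]; omega⟩, Finset.subset_insert x U⟩
      rw [hbij, Finset.card_image_of_injOn, hcard]
      intro x hx y hy hxy
      simp only [Finset.coe_sdiff, Set.mem_sdiff, Finset.mem_coe] at hx hy
      have : x ∈ insert y U := (Finset.ext_iff.mp hxy x).mp (Finset.mem_insert_self x U)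
      exact (Finset.mem_insert.mp this).resolve_right hx.2
    rw [Finset.sum_congr rfl h1, Finset.sum_congr rfl h2, Finset.sum_const, Finset.sum_const,
      Finset.card_powersetCard, hS, smul_eq_mul, smul_eq_mul] at hcount
    obtain ⟨p, e, hp, he, rfl⟩ := (isPrimePow_nat_iff q).mp hqp
    refine (Nat.Coprime.dvd_mul_left ?_).mp ⟨_, hcount.trans (mul_comm _ _)⟩
    apply Nat.Coprime.pow_left
    rw [Nat.Prime.coprime_iff_not_dvd hp]
    intro hdvd
    have hpe : 0 < p ^ e := pow_pos hp.pos e
    have hfac : ((k + p ^ e - 1).choose k).factorization p ≠ 0 :=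
      (hp.factorization_pos_of_dvd (Nat.choose_pos (by omega)).ne' hdvd).ne'
    apply hfac
    rw [show k + p ^ e - 1 = (p ^ e - 1) + k by omega,
      Nat.factorization_choose' hp (lt_add_one _), Finset.card_eq_zero, Finset.filter_eq_empty_iff]
    intro i hi
    rw [Finset.mem_Ico] at hi
    rw [not_le]
    rcases le_or_gt i e with hie | hie
    · rw [Nat.mod_eq_zero_of_dvd ((pow_dvd_pow p hie).trans hqk), zero_add]
      exact Nat.mod_lt _ (pow_pos hp.pos i)
    · have hdvd' : p ^ e ∣ p ^ i := pow_dvd_pow p hie.le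
      have hmod : p ^ e ∣ k % p ^ i := (Nat.dvd_mod_iff hdvd').mpr hqk
      have hlt : k % p ^ i < p ^ i := Nat.mod_lt _ (pow_pos hp.pos i)
      obtain ⟨u, hu⟩ := hdvd'
      obtain ⟨v, hv⟩ := hmod
      have huv : v + 1 ≤ u := by
        by_contra h
        have : p ^ e * u ≤ p ^ e * v := Nat.mul_le_mul_left _ (by omega)
        omega
      have h' : p ^ e * (v + 1) ≤ p ^ e * u := Nat.mul_le_mul_left _ huv
      rw [mul_add, mul_one] at h'
      have := Nat.mod_le (p ^ e - 1) (p ^ i)
      omega
  have hkc : k ∣ c := by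
    refine (Nat.factorization_le_iff_dvd (by omega) hcpos).mp fun p => ?_
    by_cases hp : p.Prime
    · by_cases h0 : k.factorization p = 0
      · rw [h0]; exact Nat.zero_le _
      · exact (hp.pow_dvd_iff_le_factorization hcpos).mp
          (hqc _ (hp.isPrimePow.pow h0) (Nat.ordProj_dvd k p))
    · rw [Nat.factorization_eq_zero_of_not_prime k hp]; exact Nat.zero_le _
  have hceq : c = k := le_antisymm hck (Nat.le_of_dvd (Nat.pos_of_ne_zero hcpos) hkc)
  obtain ⟨T, hU1T, -, hT⟩ := Finset.exists_subsuperset_card_eq (n := k)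
    (Finset.subset_univ (U1 : Finset α)) (by rw [U1.2]; omega)
    (by rw [Finset.card_univ]; omega)
  have hfull : (T.powersetCard (k - 1)).filter inO = T.powersetCard (k - 1) := by
    refine Finset.eq_of_subset_of_card_le (Finset.filter_subset _ _) ?_
    show _ ≤ cnt T
    rw [hconst T hT, hceq, Finset.card_powersetCard, hT, ← Nat.choose_symm (by omega),
      show k - (k - 1) = 1 by omega, Nat.choose_one_right]
  have hU1 : (U1 : Finset α) ∈ T.powersetCard (k - 1) := Finset.mem_powersetCard.mpr ⟨hU1T, U1.2⟩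
  rw [← hfull, Finset.mem_filter] at hU1
  obtain ⟨g, hg⟩ := hU1.2
  exact ⟨g, Subtype.ext hg⟩

end Cfsg.Agent.S0736
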