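import Cfsg.Statements.S0744
import Cfsg.Agent.EqLemmas

set_option autoImplicit false
open Cfsg

universe u

namespace Cfsg.Agent.S0744

open MulAction Classical in
theorem orbit_count (Γ : Type u) {β : Type u} [Group Γ] [Finite Γ] [MulAction Γ β] [Finite β]
    [FaithfulSMul Γ β] (hn : 2 ≤ Nat.card β) {l m : ℕ} (hl : 1 < l)
    (h1 : ∀ a : β, Nat.card (stabilizer Γ a) = l)
    (h2 : ∀ a c : β, a ≠ c → Nat.card ↥(stabilizer Γ a ⊓ stabilizer Γ c) = m) :
    IsPretransitive Γ β := by
  have := Fintype.ofFinite β
  refine ⟨fun a b => ?_⟩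
  by_contra hb
  have hab : a ≠ b := fun e => hb ⟨1, by rw [one_smul, e]⟩
  set t := ((stabilizer Γ a ⊓ stabilizer Γ b).subgroupOf (stabilizer Γ a)).index with ht
  have hrel : ∀ c : β, c ≠ a → (orbit (stabilizer Γ a) c).ncard = t := by
    intro c hc
    have e : (stabilizer Γ a ⊓ stabilizer Γ c).subgroupOf (stabilizer Γ a) = stabilizer (stabilizer Γ a) c := by
      ext g
      simp only [Subgroup.mem_subgroupOf, Subgroup.mem_inf, mem_stabilizer_iff]
      exact ⟨fun h => h.2, fun h => ⟨g.2, h⟩⟩
    rw [← index_stabilizer, ← e]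
    have i1 := Subgroup.card_mul_index ((stabilizer Γ a ⊓ stabilizer Γ c).subgroupOf (stabilizer Γ a))
    have i2 := Subgroup.card_mul_index ((stabilizer Γ a ⊓ stabilizer Γ b).subgroupOf (stabilizer Γ a))
    rw [Nat.card_congr (Subgroup.subgroupOfEquivOfLe inf_le_left).toEquiv] at i1 i2
    rw [h2 a c hc.symm] at i1
    rw [h2 a b hab, ← i1] at i2
    exact (Nat.eq_of_mul_eq_mul_left (by rw [← h2 a b hab]; exact Nat.card_pos) i2).symm
  have ht1 : t ≠ 1 := by
    intro h
    have hbot : stabilizer Γ a = ⊥ := by
      rw [eq_bot_iff]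
      intro g hg
      rw [Subgroup.mem_bot]
      refine eq_of_smul_eq_smul (α := β) fun c => ?_
      rw [one_smul]
      by_cases hc : c = a
      · rw [hc]; exact hg
      · obtain ⟨x, hx⟩ := Set.ncard_eq_one.1 ((hrel c hc).trans h)
        have i1 : g • c ∈ ({x} : Set β) := hx ▸ ⟨(⟨g, hg⟩ : stabilizer Γ a), rfl⟩
        have i2 : c ∈ ({x} : Set β) := hx ▸ mem_orbit_self c
        rw [Set.mem_singleton_iff] at i1 i2
        rw [i1, i2]
    rw [← h1 a, hbot, Subgroup.card_bot] at hl
    omega
  have hdvd : ∀ c : β, t ∣ Nat.card {x : β // x ∈ orbit Γ c ∧ x ≠ a} := by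
    intro c
    let X : SubMulAction (stabilizer Γ a) β :=
      { carrier := {x | x ∈ orbit Γ c ∧ x ≠ a}
        smul_mem' := by
          intro g x hx
          exact ⟨mem_orbit_of_mem_orbit (g : Γ) hx.1, fun e => hx.2 (smul_left_cancel (g : Γ)
            ((e : (g : Γ) • x = a).trans (show (g : Γ) • a = a from g.2).symm))⟩ }
    have := Fintype.ofFinite (orbitRel.Quotient (stabilizer Γ a) X)
    rw [show Nat.card {x : β // x ∈ orbit Γ c ∧ x ≠ a} = Nat.card X from rfl,
      Nat.card_congr (selfEquivSigmaOrbits (stabilizer Γ a) X), Nat.card_sigma]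
    refine Finset.dvd_sum fun ω _ => dvd_of_eq ?_
    rw [← hrel (ω.out : X) (ω.out).2.2, ← X.val_image_orbit, Set.ncard_image_of_injective _ Subtype.val_injective]
    exact (Nat.card_coe_set_eq _).symm
  have horb : ∀ c : β, Nat.card (orbit Γ c) * l = Nat.card Γ := by
    intro c
    rw [Nat.card_coe_set_eq, ← index_stabilizer, ← h1 c, mul_comm, Subgroup.card_mul_index]
  have hr : Nat.card (orbit Γ a) = Nat.card (orbit Γ b) :=
    Nat.eq_of_mul_eq_mul_right (by omega) ((horb a).trans (horb b).symm)
  have hA : Nat.card (orbit Γ a) = Nat.card {x : β // x ∈ orbit Γ a ∧ x ≠ a} + 1 := by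
    change _ = Nat.card {x | x ∈ orbit Γ a ∧ x ≠ a} + 1
    rw [Nat.card_coe_set_eq, Nat.card_coe_set_eq, show {x | x ∈ orbit Γ a ∧ x ≠ a} = orbit Γ a \ {a} from rfl,
      Set.ncard_diff_singleton_add_one (mem_orbit_self a) (Set.toFinite _)]
  have hB : Nat.card (orbit Γ b) = Nat.card {x : β // x ∈ orbit Γ b ∧ x ≠ a} :=
    Nat.card_congr (Equiv.subtypeEquivRight fun x => ⟨fun h => ⟨h, fun e => hb (mem_orbit_symm.1 (e ▸ h))⟩, fun h => h.1⟩)
  have d1 := hdvd a
  have d2 := hdvd b
  rw [← hB, ← hr, hA] at d2
  exact ht1 (Nat.eq_one_of_dvd_one ((Nat.dvd_add_right d1).1 d2))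

open MulAction Classical in
theorem main : ∀ (j : ℕ) (Γ β : Type u) [Group Γ] [Finite Γ] [MulAction Γ β] [Finite β] [FaithfulSMul Γ β],
    1 ≤ j → j + 1 ≤ Nat.card β → ∀ l m : ℕ, 1 < l →
    (∀ s : Finset β, s.card = j → Nat.card (fixingSubgroup Γ (s : Set β)) = l) →
    (∀ s : Finset β, s.card = j + 1 → Nat.card (fixingSubgroup Γ (s : Set β)) = m) →
    IsMultiplyPretransitive Γ β j := by
  intro j
  induction j with
  | zero => intros; omega
  | succ j ih =>
    intro Γ β _ _ _ _ _ _ hn l m hl h1 h2
    have := Fintype.ofFinite β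
    rcases Nat.eq_zero_or_pos j with rfl | hj
    · refine is_one_pretransitive_iff.2 (orbit_count Γ (by omega) hl (fun a => ?_) (fun a c hac => ?_) (m := m))
      · rw [← h1 {a} rfl]
        congr 2
        ext g
        simp [mem_fixingSubgroup_iff]
      · rw [← h2 {a, c} (Finset.card_pair hac)]
        congr 2
        ext g
        simp [mem_fixingSubgroup_iff]
    · have hsub : ∀ a : β, IsMultiplyPretransitive (stabilizer Γ a) (SubMulAction.ofStabilizer Γ a) j := by
        intro a
        haveI : FaithfulSMul (stabilizer Γ a) (SubMulAction.ofStabilizer Γ a) := by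
          refine ⟨fun {g g'} hgg => Subtype.ext (eq_of_smul_eq_smul (α := β) fun c => ?_)⟩
          by_cases hc : c = a
          · rw [hc]; exact (show (g : Γ) • a = a from g.2).trans (show (g' : Γ) • a = a from g'.2).symm
          · exact congrArg Subtype.val (hgg ⟨c, hc⟩)
        have hcard : Nat.card (SubMulAction.ofStabilizer Γ a) = Nat.card β - 1 := by
          change Nat.card ({a}ᶜ : Set β) = _
          rw [Nat.card_coe_set_eq, Set.ncard_compl, Set.ncard_singleton]
        have key : ∀ s : Finset (SubMulAction.ofStabilizer Γ a),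
            (insert a (s.image Subtype.val)).card = s.card + 1 ∧
            Nat.card (fixingSubgroup (stabilizer Γ a) (s : Set (SubMulAction.ofStabilizer Γ a))) =
              Nat.card (fixingSubgroup Γ ((insert a (s.image Subtype.val) : Finset β) : Set β)) := by
          intro s
          refine ⟨?_, ?_⟩
          · rw [Finset.card_insert_of_notMem (fun hm => by
              obtain ⟨x, _, hx⟩ := Finset.mem_image.1 hm
              exact x.2 hx), Finset.card_image_of_injective _ Subtype.val_injective]
          · refine Nat.card_congr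
              { toFun := fun g => ⟨g.1.1, ?_⟩
                invFun := fun g => ⟨⟨g.1, ?_⟩, ?_⟩
                left_inv := fun g => rfl
                right_inv := fun g => rfl }
            · rw [mem_fixingSubgroup_iff]
              intro y hy
              rcases Finset.mem_insert.1 (Finset.mem_coe.1 hy) with rfl | hy
              · exact g.1.2
              · obtain ⟨x, hx, rfl⟩ := Finset.mem_image.1 hy
                exact congrArg Subtype.val ((mem_fixingSubgroup_iff _).1 g.2 x hx)
            · exact (mem_fixingSubgroup_iff _).1 g.2 a (Finset.mem_insert_self _ _)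
            · rw [mem_fixingSubgroup_iff]
              intro x hx
              exact Subtype.ext ((mem_fixingSubgroup_iff _).1 g.2 x.1
                (Finset.mem_insert_of_mem (Finset.mem_image_of_mem _ hx)))
        exact ih _ _ hj (by omega) l m hl
          (fun s hs => (key s).2.trans (h1 _ (by rw [(key s).1, hs])))
          (fun s hs => (key s).2.trans (h2 _ (by rw [(key s).1, hs])))
      haveI : IsPretransitive Γ β := by
        refine ⟨fun x y => ?_⟩
        obtain ⟨c, hcx, hcy⟩ : ∃ c : β, c ≠ x ∧ c ≠ y := by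
          by_contra h
          push Not at h
          have hle : Finset.univ ⊆ ({x, y} : Finset β) := fun c _ => by
            by_cases hc : c = x
            · simp [hc]
            · simp [h c hc]
          have := (Finset.card_le_card hle).trans Finset.card_le_two
          rw [Finset.card_univ, ← Nat.card_eq_fintype_card] at this
          omega
        haveI := hsub c
        haveI : IsPretransitive (stabilizer Γ c) (SubMulAction.ofStabilizer Γ c) :=
          is_one_pretransitive_iff.1 (isMultiplyPretransitive_of_le (n := j) (by omega) (by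
            change j ≤ Nat.card ({c}ᶜ : Set β)
            rw [Nat.card_coe_set_eq, Set.ncard_compl, Set.ncard_singleton]
            omega))
        obtain ⟨g, hg⟩ := exists_smul_eq (stabilizer Γ c)
          (⟨x, hcx.symm⟩ : SubMulAction.ofStabilizer Γ c) ⟨y, hcy.symm⟩
        exact ⟨g, congrArg Subtype.val hg⟩
      obtain ⟨a⟩ : Nonempty β := (Nat.card_pos_iff.1 (by omega)).1
      exact (SubMulAction.ofStabilizer.isMultiplyPretransitive (a := a)).2 (hsub a)


/-- If for some `k > 1` the pointwise stabilisers of all `(k-1)`-subsets have the same order `> 1` and those of all `k`-subsets have the same order, then the group is `(k-1)`-transitive. -/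
theorem result {α : Type*} [Fintype α] [DecidableEq α] (G : Subgroup (Equiv.Perm α)) {k : ℕ} (hk : 1 < k) (hkn : k ≤ Fintype.card α) (l m : ℕ) (hl : 1 < l) (hkm1 : ∀ s : Finset α, s.card = k - 1 → Nat.card (fixingSubgroup G (s : Set α)) = l) (hkm : ∀ s : Finset α, s.card = k → Nat.card (fixingSubgroup G (s : Set α)) = m) : MulAction.IsMultiplyPretransitive G α (k - 1) := by
  exact main (k - 1) G α (by omega) (by rw [Nat.card_eq_fintype_card]; omega) l m hl hkm1
    (fun s hs => hkm s (by omega))

end Cfsg.Agent.S0744
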