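import Cfsg.Statements.S2879
import Cfsg.Agent.EqLemmas
import Cfsg.Agent.S3304
import Cfsg.Agent.Lib.CharP.Basic
import Cfsg.Agent.Lib.Coprime.Basic
import Cfsg.Agent.Lib.PReduced.Tools
import Cfsg.Agent.Lib.Transfer.QuaternionFusion

set_option autoImplicit false
open Cfsg

namespace Cfsg.Agent.S2879

section

open Subgroup Cfsg.Agent

variable {G : Type*} [Group G] [Finite G]

theorem eq_of_sq_eq_one {X : Subgroup G} (hX : IsCyclic X) {u v : G} (hu : u ∈ X) (hv : v ∈ X)
    (hu2 : u ^ 2 = 1) (hv2 : v ^ 2 = 1) (hu1 : u ≠ 1) (hv1 : v ≠ 1) : u = v := by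
  classical
  by_contra hne
  haveI := hX
  haveI := Fintype.ofFinite X
  have h := IsCyclic.card_pow_eq_one_le (α := X) two_pos
  have hsub : ({1, ⟨u, hu⟩, ⟨v, hv⟩} : Finset X) ⊆ Finset.univ.filter fun a : X => a ^ 2 = 1 := by
    intro a ha
    simp only [Finset.mem_insert, Finset.mem_singleton] at ha
    refine Finset.mem_filter.mpr ⟨Finset.mem_univ _, ?_⟩
    rcases ha with ha | ha | ha <;> rw [ha]
    · exact one_pow 2
    · exact Subtype.ext hu2
    · exact Subtype.ext hv2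
  have h3 : ({1, ⟨u, hu⟩, ⟨v, hv⟩} : Finset X).card = 3 := by
    rw [Finset.card_eq_three]
    exact ⟨_, _, _, fun h => hu1 (congrArg Subtype.val h).symm, fun h => hv1 (congrArg Subtype.val h).symm,
      fun h => hne (congrArg Subtype.val h), rfl⟩
  have := (Finset.card_le_card hsub).trans h
  omega

/-- The shape of `T` used below: a cyclic subgroup `X` of index two, elements of order dividing four
outside it, among them a noncentral involution. -/
structure Shape (T X : Subgroup G) : Prop where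
  le : X ≤ T
  cyclic : IsCyclic X
  mul_mem : ∀ a ∈ T, ∀ b ∈ T, a ∉ X → b ∉ X → a * b ∈ X
  pow_four : ∀ a ∈ T, a ∉ X → a ^ 4 = 1
  involution : ∃ w ∈ T, w ∉ X ∧ w ^ 2 = 1 ∧ ∃ x ∈ X, w * x ≠ x * w

theorem shape_of_equiv {S : Type*} [Group S] [Finite S] (T : Subgroup G) (e : T ≃* S) (x : S) (w : S)
    (hidx : (zpowers x).index = 2) (h4 : ∀ a : S, a ∉ zpowers x → a ^ 4 = 1) (hwx : w ∉ zpowers x)
    (hw2 : w ^ 2 = 1) (hne : w * x ≠ x * w) :
    Shape T (((zpowers x).comap e.toMonoidHom).map T.subtype) := by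
  set X := ((zpowers x).comap e.toMonoidHom).map T.subtype with hX
  have hmem : ∀ a : T, (a : G) ∈ X ↔ e a ∈ zpowers x := fun a => by
    rw [hX]
    exact ⟨fun ⟨b, hb, hba⟩ => T.subtype_injective hba ▸ hb, fun h => ⟨a, h, rfl⟩⟩
  refine ⟨map_subtype_le _, ?_, fun a ha b hb hax hbx => ?_, fun a ha hax => ?_,
    ⟨(e.symm w : G), (e.symm w).2, fun h => hwx (by simpa using (hmem _).mp h), ?_,
      (e.symm x : G), (hmem _).mpr (by simpa using mem_zpowers x), fun h => hne ?_⟩⟩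
  · have h1 : X = zpowers ((e.symm x : T) : G) := by
      rw [hX, show (zpowers x).comap e.toMonoidHom = (zpowers x).map e.symm.toMonoidHom from
        (Subgroup.map_equiv_eq_comap_symm e.symm _).symm, MonoidHom.map_zpowers, MonoidHom.map_zpowers]
      rfl
    rw [h1]; infer_instance
  · exact (hmem (⟨a, ha⟩ * ⟨b, hb⟩)).mpr (by
      rw [map_mul, mul_mem_iff_of_index_two hidx]
      exact iff_of_false (fun h => hax ((hmem ⟨a, ha⟩).mpr h)) (fun h => hbx ((hmem ⟨b, hb⟩).mpr h)))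
  · have h := h4 (e ⟨a, ha⟩) (fun h => hax ((hmem ⟨a, ha⟩).mpr h))
    rw [← map_pow, ← map_one e] at h
    exact congrArg Subtype.val (e.injective h)
  · rw [← Subgroup.coe_pow, ← map_pow, hw2, map_one]; rfl
  · have h' : e.symm w * e.symm x = e.symm x * e.symm w := Subtype.ext h
    rw [← map_mul, ← map_mul] at h'
    exact e.symm.injective h'

theorem shape_dihedral (T : Subgroup G) {n : ℕ} (hn : 4 ≤ n) (e : T ≃* DihedralGroup n) :
    ∃ X, Shape T X := by
  haveI : NeZero n := ⟨by omega⟩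
  have hsr : ∀ i : ZMod n, DihedralGroup.sr i ∉ zpowers (DihedralGroup.r 1 : DihedralGroup n) := by
    rintro i ⟨k, hk⟩
    simp [DihedralGroup.r_one_zpow] at hk
  refine ⟨_, shape_of_equiv T e (DihedralGroup.r 1) (DihedralGroup.sr 0) ?_ ?_ (hsr 0) ?_ ?_⟩
  · have h := card_mul_index (zpowers (DihedralGroup.r 1 : DihedralGroup n))
    rw [Nat.card_zpowers, DihedralGroup.orderOf_r_one, DihedralGroup.nat_card] at h
    exact Nat.eq_of_mul_eq_mul_left (by omega : 0 < n) (by linarith)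
  · rintro (i | i) hi
    · exact absurd ⟨(i.val : ℤ), by simp⟩ hi
    · rw [show (4 : ℕ) = 2 * 2 by rfl, pow_mul, pow_two (DihedralGroup.sr i), DihedralGroup.sr_mul_self,
        one_pow]
  · rw [pow_two, DihedralGroup.sr_mul_self]
  · rw [DihedralGroup.sr_mul_r, DihedralGroup.r_mul_sr, zero_add, zero_sub]
    intro h
    injection h with h
    have h2 : ((2 : ℕ) : ZMod n) = 0 := by linear_combination h
    rw [ZMod.natCast_eq_zero_iff] at h2
    have := Nat.le_of_dvd two_pos h2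
    omega

theorem shape_quasiDihedral (T : Subgroup G) (hT : Cfsg.IsQuasiDihedral T) : ∃ X, Shape T X := by
  obtain ⟨n, hn, hcard, x, y, hx, hy, hyx⟩ := hT
  have hm : 4 ≤ 2 ^ (n - 1) := (show 2 ^ 2 ≤ 2 ^ (n - 1) from Nat.pow_le_pow_right two_pos (by omega))
  have h2n : 2 ^ n = 2 * 2 ^ (n - 1) := by rw [← pow_succ']; congr 1; omega
  have hne : y * x ≠ x * y := by
    intro h
    rw [h, mul_inv_cancel_right] at hyx
    have h1 : x ^ 1 = x ^ (2 ^ (n - 1) - 1) := by rwa [pow_one]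
    rw [pow_inj_mod, hx, Nat.mod_eq_of_lt (by omega), Nat.mod_eq_of_lt (by omega)] at h1
    omega
  have hyX : y ∉ zpowers x := by
    rintro ⟨k, rfl⟩
    exact hne ((Commute.refl x).zpow_left k).eq
  have hidx : (zpowers x).index = 2 := by
    have h := card_mul_index (zpowers x)
    rw [Nat.card_zpowers, hx, hcard] at h
    exact Nat.eq_of_mul_eq_mul_left (by positivity : 0 < 2 ^ n) (by rw [h]; ring)
  have hy2 : y ^ 2 = 1 := hy ▸ pow_orderOf_eq_one y
  refine ⟨_, shape_of_equiv T (MulEquiv.refl _) x y hidx (fun a ha => ?_) hyX hy2 hne⟩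
  have h1 : y⁻¹ * a ∈ zpowers x := by
    rw [mul_mem_iff_of_index_two hidx, inv_mem_iff]
    exact iff_of_false hyX ha
  obtain ⟨i, hi⟩ := (isOfFinOrder_of_finite x).mem_powers_iff_mem_zpowers.mpr h1
  have hai : a = y * x ^ i := by
    rw [show x ^ i = y⁻¹ * a from hi]; group
  have hconj : y * x ^ i * y⁻¹ = x ^ ((2 ^ (n - 1) - 1) * i) := by
    rw [← conj_pow, hyx, ← pow_mul]
  have hyy : y * y = 1 := by rwa [pow_two] at hy2
  have hsq : a ^ 2 = x ^ (2 ^ (n - 1) * i) := by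
    calc a ^ 2 = y * x ^ i * y⁻¹ * (y * y) * x ^ i := by rw [hai, pow_two]; group
      _ = x ^ ((2 ^ (n - 1) - 1) * i + i) := by rw [hconj, hyy, mul_one, ← pow_add]
      _ = _ := by congr 1; rw [Nat.sub_mul, one_mul, Nat.sub_add_cancel (Nat.le_mul_of_pos_left _ (by omega))]
  rw [show (4 : ℕ) = 2 * 2 by rfl, pow_mul, hsq, ← pow_mul, mul_right_comm, mul_comm _ 2, ← h2n,
    ← hx, pow_mul, pow_orderOf_eq_one, one_pow]

theorem quat16_unique : ∀ x y : QuaternionGroup 4, x * x = 1 → y * y = 1 → x ≠ 1 → y ≠ 1 → x = y := by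
  decide +kernel

theorem commute_of_commute_sq {g a : G} (hg : (orderOf g).Coprime 2) (h : g ^ 2 * a = a * g ^ 2) :
    g * a = a * g := by
  obtain ⟨m, hm⟩ := exists_pow_eq_self_of_coprime (Nat.Coprime.symm hg)
  have : Commute (g ^ 2) a := h
  have h' := this.pow_left m
  rw [hm] at h'
  exact h'.eq

/-- The `2`-core is a quaternion group of order eight. -/
theorem pCore_quaternion (hCP : centralizer (Cfsg.pCore 2 G : Set G) ≤ Cfsg.pCore 2 G) (T : Sylow 2 G)
    {X : Subgroup G} (hX : Shape (T : Subgroup G) X) {y : G} (hy : (orderOf y).Coprime 2) (hy1 : y ≠ 1)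
    {z : G} (hzX : z ∈ X) (hz2 : z ^ 2 = 1) (hz1 : z ≠ 1) (hzc : ∀ g : G, g * z = z * g) :
    Nonempty (Cfsg.pCore 2 G ≃* QuaternionGroup 2) := by
  haveI : Fact (Nat.Prime 2) := ⟨Nat.prime_two⟩
  set P := Cfsg.pCore 2 G with hP
  haveI hPn : P.Normal := Cores.pCore_normal 2 G
  have hPp : IsPGroup 2 P := Cores.isPGroup_pCore 2 G
  have hPT : P ≤ (T : Subgroup G) := Cores.pCore_le_sylow T
  have hzP : z ∈ P := hCP (mem_centralizer_iff.mpr fun g _ => hzc g)
  have hyP : y ∉ P := fun h => hy1 (by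
    obtain ⟨k, hk⟩ := IsPGroup.iff_orderOf.mp hPp ⟨y, h⟩
    rw [Subgroup.orderOf_mk] at hk
    exact orderOf_eq_one_iff.mp (Nat.eq_one_of_dvd_coprimes (hy.pow_right k) dvd_rfl (dvd_of_eq hk)))
  -- no odd element centralizes `P ∩ X`
  set C₀ := P ⊓ X with hC₀
  have hP2 : ∀ u ∈ P, ∀ v ∈ P, u ∉ X → v ∉ X → u * v ∈ C₀ := fun u hu v hv hux hvx =>
    mem_inf.mpr ⟨P.mul_mem hu hv, hX.mul_mem u (hPT hu) v (hPT hv) hux hvx⟩
  have hnofix : ¬ ∀ c ∈ C₀, y * c = c * y := by
    intro hc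
    refine hyP (hCP (mem_centralizer_iff.mpr fun b hb => ?_))
    by_cases hbX : b ∈ X
    · exact (hc b ⟨hb, hbX⟩).symm
    have hbP : y * b * y⁻¹ ∈ P := hPn.conj_mem b hb y
    by_cases hbX' : y * b * y⁻¹ ∈ X
    · have h1 := hc _ ⟨hbP, hbX'⟩
      refine absurd ?_ hbX
      convert hbX' using 1
      calc b = y⁻¹ * (y * b * y⁻¹ * y) := by group
        _ = y⁻¹ * (y * (y * b * y⁻¹)) := by rw [h1]
        _ = _ := by group
    have hbi : b⁻¹ ∉ X := fun h => hbX (by simpa using inv_mem h)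
    have hd : b * y * b⁻¹ * y⁻¹ ∈ C₀ := by
      have := inv_mem (hP2 _ hbP _ (P.inv_mem hb) hbX' hbi)
      convert this using 1; group
    obtain ⟨k, hk⟩ := hPp ⟨_, hd.1⟩
    exact (CharP.eq_one_of_commute hy ⟨k, by simpa using congrArg Subtype.val hk⟩ (hc _ hd).symm).eq
  haveI := hX.cyclic
  haveI hC₀cyc : IsCyclic C₀ :=
    isCyclic_of_injective (Subgroup.inclusion (inf_le_right : C₀ ≤ X)) (Subgroup.inclusion_injective _)
  obtain ⟨⟨a, ha⟩, hgen⟩ := IsCyclic.exists_generator (α := C₀)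
  have hgen' : ∀ c ∈ C₀, ∃ k : ℤ, a ^ k = c := fun c hc => by
    obtain ⟨k, hk⟩ := hgen ⟨c, hc⟩
    exact ⟨k, congrArg Subtype.val hk⟩
  have hfix : ∀ g : G, g * a * g⁻¹ ∈ X → g ∈ normalizer (C₀ : Set G) := by
    intro g hg
    refine Coprime.mem_normalizer_of_forall fun c hc => mem_inf.mpr ⟨hPn.conj_mem c hc.1 g, ?_⟩
    obtain ⟨k, rfl⟩ := hgen' c hc
    rw [← conj_zpow]
    exact X.zpow_mem hg k
  have hcent : ∀ g : G, (orderOf g).Coprime 2 → g ∈ normalizer (C₀ : Set G) → g * a = a * g :=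
    fun g hg hgn => (mem_centralizer_iff.mp (Transfer.centralizes_of_isPGroup_mulAut
      (SylowLift.isPGroup_mulAut_of_isCyclic (hPp.to_le inf_le_left)) hgn hg) a ha).symm
  have hnot : y * a ≠ a * y := fun h => hnofix fun c hc => by
    obtain ⟨k, rfl⟩ := hgen' c hc
    exact (Commute.zpow_right h k).eq
  set b := y * a * y⁻¹ with hb
  have hbX : b ∉ X := fun h => hnot (hcent y hy (hfix y h))
  have haP : a ∈ P := ha.1
  have hbP : b ∈ P := hPn.conj_mem a haP y
  have ha4 : a ^ 4 = 1 := by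
    have := hX.pow_four b (hPT hbP) hbX
    rw [hb, conj_pow] at this
    exact conj_eq_one_iff.mp this
  have huniqX : ∀ c ∈ X, c ^ 2 = 1 → c = 1 ∨ c = z := fun c hc hc2 =>
    or_iff_not_imp_left.mpr fun hc1 => eq_of_sq_eq_one hX.cyclic hc hzX hc2 hz2 hc1 hz1
  have ha2 : a ^ 2 = z := by
    refine (huniqX (a ^ 2) (X.pow_mem ha.2 2) (by rw [← pow_mul]; exact ha4)).resolve_left fun h => ?_
    rcases huniqX a ha.2 h with h' | h'
    · exact hnot (by rw [h', mul_one, one_mul])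
    · exact hnot (by rw [h']; exact hzc y)
  have hb2 : b ^ 2 = z := by rw [hb, conj_pow, ha2, hzc y, mul_inv_cancel_right]
  have hoa : orderOf a = 4 := orderOf_eq_prime_pow (p := 2) (n := 1)
    (by rw [pow_one, ha2]; exact hz1) (by norm_num; exact ha4)
  have hC₀el : ∀ c ∈ C₀, c = 1 ∨ c = a ∨ c = z ∨ c = a * z := fun c hc => by
    obtain ⟨i, hi⟩ : c ∈ Submonoid.powers a :=
      (isOfFinOrder_of_finite a).mem_powers_iff_mem_zpowers.mpr (hgen' c hc)
    simp only at hi
    rw [← hi, ← pow_mod_orderOf, hoa]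
    have : i % 4 < 4 := Nat.mod_lt _ (by norm_num)
    interval_cases i % 4
    · exact Or.inl (pow_zero a)
    · exact Or.inr (Or.inl (pow_one a))
    · exact Or.inr (Or.inr (Or.inl ha2))
    · exact Or.inr (Or.inr (Or.inr (by rw [pow_succ' a 2, ha2])))
  -- the second conjugate
  set c := y * b * y⁻¹ with hc
  have hy2c : (orderOf (y ^ 2)).Coprime 2 :=
    Nat.Coprime.coprime_dvd_left (orderOf_pow_dvd 2) hy
  have hcX : c ∉ X := fun h => hnot (commute_of_commute_sq hy (hcent _ hy2c (hfix _ (by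
    rw [show y ^ 2 * a * (y ^ 2)⁻¹ = c by rw [hc, hb, pow_two]; group]; exact h))))
  have hcP : c ∈ P := hPn.conj_mem b hbP y
  have hbi : b⁻¹ ∉ X := fun h => hbX (by simpa using inv_mem h)
  obtain ⟨d, hd, hcd⟩ : ∃ d ∈ C₀, c = b * d :=
    ⟨b⁻¹ * c, hP2 _ (P.inv_mem hbP) _ hcP hbi hcX, by group⟩
  have hc2 : c ^ 2 = z := by rw [hc, conj_pow, hb2, hzc y, mul_inv_cancel_right]
  have hyb : y * b ≠ b * y := fun h => hnot (by
    have : b = a := by
      calc b = y⁻¹ * (y * b * y⁻¹) * y := by group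
        _ = y⁻¹ * b * y := by rw [h, mul_inv_cancel_right]
        _ = a := by rw [hb]; group
    calc y * a = b * y := by rw [hb]; group
      _ = a * y := by rw [this])
  have hab2 : (b * a) ^ 2 = z := by
    rcases hC₀el d hd with h | h | h | h <;> rw [h] at hcd
    · refine absurd ?_ hyb
      calc y * b = c * y := by rw [hc]; group
        _ = b * y := by rw [hcd, mul_one]
    · rwa [← hcd]
    · refine absurd (commute_of_commute_sq hy ?_) hyb
      have hzy : y * z = z * y := hzc y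
      calc y ^ 2 * b = y * c * y := by rw [hc, pow_two]; group
        _ = y * b * (z * y) := by rw [hcd]; group
        _ = y * b * (y * z) := by rw [hzy]
        _ = c * y * y * z := by rw [hc]; group
        _ = b * (z * (y * y)) * z := by rw [hcd]; group
        _ = b * (y * y * z) * z := by rw [hzc (y * y)]
        _ = b * (y * y) * z ^ 2 := by rw [pow_two]; group
        _ = b * y ^ 2 := by rw [hz2, mul_one, pow_two]
    · have h1 : (b * (a * z)) ^ 2 = (b * a) ^ 2 * z ^ 2 := by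
        rw [← mul_assoc, (show Commute (b * a) z from hzc _).mul_pow]
      rwa [← hcd, hc2, hz2, mul_one, eq_comm] at h1
  have hout : ∀ g ∈ P, g ∉ X → g ^ 2 = z := by
    intro g hg hgX
    obtain ⟨d, hd, rfl⟩ : ∃ d ∈ C₀, g = b * d :=
      ⟨b⁻¹ * g, hP2 _ (P.inv_mem hbP) _ hg hbi hgX, by group⟩
    rcases hC₀el d hd with h | h | h | h <;> rw [h]
    · rwa [mul_one]
    · exact hab2
    · rw [(show Commute b z from hzc b).mul_pow, hz2, mul_one, hb2]
    · rw [← mul_assoc, (show Commute (b * a) z from hzc _).mul_pow, hz2, mul_one, hab2]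
  have huniq : ∀ g ∈ P, g ^ 2 = 1 → g ≠ 1 → g = z := fun g hg hg2 hg1 => by
    by_cases hgX : g ∈ X
    · exact (huniqX g hgX hg2).resolve_left hg1
    · exact absurd ((hout g hg hgX).symm.trans hg2) hz1
  have hcard : Nat.card P = 8 := by
    have hidx : (C₀.subgroupOf P).index = 2 := by
      rw [index_eq_two_iff]
      refine ⟨⟨b, hbP⟩, fun g => ?_⟩
      simp only [mem_subgroupOf, Subgroup.coe_mul]
      by_cases hgX : (g : G) ∈ X
      · refine Or.inr ⟨mem_inf.mpr ⟨g.2, hgX⟩, fun h => hbX ?_⟩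
        simpa using X.mul_mem (X.inv_mem hgX) h.2
      · exact Or.inl ⟨hP2 _ g.2 _ hbP hgX hbX, fun h => hgX h.2⟩
    have hC₀card : Nat.card C₀ = 4 := by
      rw [← orderOf_eq_card_of_forall_mem_zpowers hgen, Subgroup.orderOf_mk, hoa]
    have h := card_mul_index (C₀.subgroupOf P)
    rw [hidx, Cores.card_subgroupOf inf_le_left, hC₀card] at h
    exact h.symm
  have key : ∀ U V : Subgroup P, Nat.card U = 2 → Nat.card V = 2 → U ≤ V := by
    intro U V hU hV u hu
    by_cases hu1 : u = 1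
    · exact hu1 ▸ one_mem _
    obtain ⟨v, hv, hv1⟩ : ∃ v ∈ V, v ≠ 1 := by
      by_contra hcon
      push Not at hcon
      rw [(eq_bot_iff_forall V).mpr hcon, card_bot] at hV
      omega
    have h2 : ∀ (W : Subgroup P), Nat.card W = 2 → ∀ w ∈ W, w ≠ 1 → (w : G) = z := fun W hW w hw hw1 => by
      refine huniq w w.2 ?_ (fun h => hw1 (Subtype.ext h))
      have := Subgroup.orderOf_dvd_natCard W hw
      rw [hW, orderOf_dvd_iff_pow_eq_one] at this
      exact congrArg Subtype.val this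
    rwa [Subtype.ext ((h2 U hU u hu hu1).trans (h2 V hV v hv hv1).symm)]
  rcases S0016.result 2 hPp (fun U V hU hV => le_antisymm (key U V hU hV) (key V U hV hU)) with hcyc | ⟨-, n, ⟨e⟩⟩
  · exfalso
    haveI := hcyc
    obtain ⟨g, hg⟩ := IsCyclic.exists_generator (α := P)
    have hab : Commute (⟨a, haP⟩ : P) ⟨b, hbP⟩ := by
      obtain ⟨i, hi⟩ := hg ⟨a, haP⟩
      obtain ⟨j, hj⟩ := hg ⟨b, hbP⟩
      simp only at hi hj
      rw [← hi, ← hj]; exact Commute.zpow_zpow_self g i j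
    have hab' : Commute b a := (congrArg Subtype.val hab.eq).symm
    rw [hab'.mul_pow, hb2, ha2, ← pow_two] at hab2
    exact hz1 (hz2 ▸ hab2.symm)
  · have hn : 4 * 2 ^ n = 8 := by
      rw [← QuaternionGroup.card, ← Nat.card_eq_fintype_card, ← Nat.card_congr e.toEquiv, hcard]
    have : n = 1 := Nat.pow_right_injective le_rfl (show 2 ^ n = 2 ^ 1 by omega)
    subst this
    exact ⟨e⟩

theorem range_toGL_normal : (Matrix.SpecialLinearGroup.toGL :
    Matrix.SpecialLinearGroup (Fin 2) (ZMod 3) →* GL (Fin 2) (ZMod 3)).range.Normal := by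
  refine ⟨fun x hx g => ?_⟩
  obtain ⟨s, rfl⟩ := hx
  refine ⟨⟨((g * Matrix.SpecialLinearGroup.toGL s * g⁻¹ : GL (Fin 2) (ZMod 3)) :
    Matrix (Fin 2) (Fin 2) (ZMod 3)), ?_⟩, Units.ext rfl⟩
  rw [Units.val_mul, Units.val_mul, Matrix.det_mul, Matrix.det_mul, mul_right_comm, ← Matrix.det_mul,
    ← Units.val_mul, mul_inv_cancel, Units.val_one, Matrix.det_one, one_mul]
  exact s.2

end

/-- Let G be a finite solvable group with O(G) = 1 whose Sylow 2-subgroup T is dihedral of order at least 8 or semidihedral, with G ≠ T and Z(T) normal in G. Then G has a normal subgroup isomorphic to SL₂(3). -/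
theorem result {G : Type*} [Group G] [Finite G] (hsol : IsSolvable G) (hO : Cfsg.oddCore G = ⊥) (T : Sylow 2 G) (hT : (∃ n : ℕ, 4 ≤ n ∧ Nonempty (↥(T : Subgroup G) ≃* DihedralGroup n)) ∨ Cfsg.IsQuasiDihedral ↥(T : Subgroup G)) (hne : (T : Subgroup G) ≠ ⊤) (hZ : ((T : Subgroup G) ⊓ Subgroup.centralizer ((T : Subgroup G) : Set G)).Normal) : ∃ U : Subgroup G, U.Normal ∧ Nonempty (↥U ≃* Matrix.SpecialLinearGroup (Fin 2) (ZMod 3)) := by
  open Cfsg.Agent Subgroup in
  haveI : Fact (Nat.Prime 2) := ⟨Nat.prime_two⟩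
  haveI : Group.IsSolvable G := hsol
  have hcore : Cfsg.pPrimeCore 2 G = ⊥ := hO
  have hCP := SylowLift.centralizer_pCore_le_of_solvable hcore
  obtain ⟨X, hX⟩ : ∃ X, Shape (T : Subgroup G) X := by
    rcases hT with ⟨n, hn, ⟨e⟩⟩ | hq
    · exact shape_dihedral _ hn e
    · exact shape_quasiDihedral _ hq
  obtain ⟨w, hwT, hwX, hw2, x₀, hx₀, hwx⟩ := hX.involution
  -- the central involution
  set ZT := (T : Subgroup G) ⊓ centralizer ((T : Subgroup G) : Set G) with hZT
  have hXab : ∀ a ∈ X, ∀ b ∈ X, a * b = b * a := fun a ha b hb => by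
    haveI := hX.cyclic
    obtain ⟨g, hg⟩ := IsCyclic.exists_generator (α := X)
    obtain ⟨i, hi⟩ := hg ⟨a, ha⟩
    obtain ⟨j, hj⟩ := hg ⟨b, hb⟩
    have ha' : (g : G) ^ i = a := congrArg Subtype.val hi
    have hb' : (g : G) ^ j = b := congrArg Subtype.val hj
    rw [← ha', ← hb']; exact (Commute.zpow_zpow_self (g : G) i j).eq
  have hZX : ZT ≤ X := fun c hc => by
    by_contra hcX
    refine hwx ?_
    have h1 : c⁻¹ ∉ X := fun h => hcX (by simpa using inv_mem h)
    have h2 : c⁻¹ * w ∈ X := hX.mul_mem _ (inv_mem hc.1) _ hwT h1 hwX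
    have e1 : x₀ * c = c * x₀ := mem_centralizer_iff.mp hc.2 x₀ (hX.le hx₀)
    calc w * x₀ = c * (c⁻¹ * w * x₀) := by group
      _ = c * (x₀ * (c⁻¹ * w)) := by rw [hXab _ h2 _ hx₀]
      _ = (c * x₀) * (c⁻¹ * w) := by group
      _ = (x₀ * c) * (c⁻¹ * w) := by rw [e1]
      _ = _ := by group
  obtain ⟨z, hzZ, hz1, hz2⟩ : ∃ z ∈ ZT, z ≠ 1 ∧ z ^ 2 = 1 := by
    haveI : Nontrivial ↥(T : Subgroup G) :=
      ⟨⟨⟨w, hwT⟩, 1, fun h => hwX (by rw [show w = 1 from congrArg Subtype.val h]; exact one_mem X)⟩⟩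
    haveI := T.isPGroup'.center_nontrivial
    obtain ⟨k, hk0, hk⟩ := (T.isPGroup'.to_subgroup (center ↥(T : Subgroup G))).nontrivial_iff_card.mp
      inferInstance
    obtain ⟨u, hu⟩ := exists_prime_orderOf_dvd_card' (G := center ↥(T : Subgroup G)) 2
      (by rw [hk]; exact dvd_pow_self 2 hk0.ne')
    have hu' : orderOf ((u : ↥(T : Subgroup G)) : G) = 2 := by rwa [orderOf_coe, orderOf_coe]
    refine ⟨(u : ↥(T : Subgroup G)), mem_inf.mpr ⟨(u : ↥(T : Subgroup G)).2,
      mem_centralizer_iff.mpr fun t ht => congrArg Subtype.val (mem_center_iff.mp u.2 ⟨t, ht⟩)⟩,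
      fun h => ?_, orderOf_dvd_iff_pow_eq_one.mp (dvd_of_eq hu')⟩
    rw [h, orderOf_one] at hu'
    omega
  have hzc : ∀ g : G, g * z = z * g := fun g => by
    have h1 := hZ.conj_mem z hzZ g
    have h2 : (g * z * g⁻¹) ^ 2 = 1 := by rw [conj_pow, hz2, mul_one, mul_inv_cancel]
    exact mul_inv_eq_iff_eq_mul.mp (eq_of_sq_eq_one hX.cyclic (hZX h1) (hZX hzZ) h2 hz2
      (fun h => hz1 (conj_eq_one_iff.mp h)) hz1)
  -- an element of odd order
  obtain ⟨y, hy, hy1⟩ : ∃ y : G, (orderOf y).Coprime 2 ∧ y ≠ 1 := by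
    by_contra hno
    push Not at hno
    refine hne (T.is_maximal' (IsPGroup.to_subgroup ?_ ⊤) le_top).symm
    intro g
    obtain ⟨k, hk⟩ := PReduced.pMod_pResidual (p := 2) (⊤ : Subgroup G) g (mem_top g)
    refine ⟨k, ?_⟩
    have hle : Cfsg.pResidual 2 G ≤ ⊥ := (closure_le _).mpr fun u hu => mem_bot.mpr (hno u hu)
    exact mem_bot.mp (hle hk)
  obtain ⟨e⟩ := pCore_quaternion hCP T hX hy hy1 (hZX hzZ) hz2 hz1 hzc
  haveI : (Cfsg.pCore 2 G).Normal := Cores.pCore_normal 2 G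
  have hns : ∀ S : Sylow 2 G, ¬ (S : Subgroup G).Normal := by
    intro S hS
    haveI := Sylow.unique_of_normal S hS
    have hST : T = S := Subsingleton.elim _ _
    have hSP : (T : Subgroup G) = Cfsg.pCore 2 G :=
      le_antisymm (hST ▸ Cores.le_pCore hS S.isPGroup') (Cores.pCore_le_sylow T)
    set e' : ↥(T : Subgroup G) ≃* QuaternionGroup 2 := (MulEquiv.subgroupCongr hSP).trans e
    have h1 : e' ⟨w, hwT⟩ = e' ⟨z, hX.le (hZX hzZ)⟩ := S3304.q8_facts.2.2.2.2.1 _ _
      (by rw [← map_mul, ← map_one e']; congr 1; exact Subtype.ext (by simpa [pow_two] using hw2))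
      (by rw [← map_mul, ← map_one e']; congr 1; exact Subtype.ext (by simpa [pow_two] using hz2))
      (fun h => hwX (by rw [show w = 1 from congrArg Subtype.val (e'.injective (h.trans (map_one e').symm))]; exact one_mem X))
      (fun h => hz1 (congrArg Subtype.val (e'.injective (h.trans (map_one e').symm))))
    exact hwX (by rw [show w = z from congrArg Subtype.val (e'.injective h1)]; exact hZX hzZ)
  rcases S3304.structure_of_q8 (Cfsg.pCore 2 G) hCP e hns with ⟨⟨f⟩⟩ | ⟨-, -, -, hQ16⟩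
  · set j : Matrix.SpecialLinearGroup (Fin 2) (ZMod 3) →* GL (Fin 2) (ZMod 3) :=
      Matrix.SpecialLinearGroup.toGL
    have hj : Function.Injective j := fun a b h => Subtype.ext (congrArg Units.val h)
    exact ⟨j.range.map f.symm.toMonoidHom, (range_toGL_normal).map _ f.symm.surjective,
      ⟨((MonoidHom.ofInjective hj).trans (j.range.equivMapOfInjective _ f.symm.injective)).symm⟩⟩
  · obtain ⟨e'⟩ := hQ16 T
    have h1 : e' ⟨w, hwT⟩ = e' ⟨z, hX.le (hZX hzZ)⟩ := quat16_unique _ _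
      (by rw [← map_mul, ← map_one e']; congr 1; exact Subtype.ext (by simpa [pow_two] using hw2))
      (by rw [← map_mul, ← map_one e']; congr 1; exact Subtype.ext (by simpa [pow_two] using hz2))
      (fun h => hwX (by rw [show w = 1 from congrArg Subtype.val (e'.injective (h.trans (map_one e').symm))]; exact one_mem X))
      (fun h => hz1 (congrArg Subtype.val (e'.injective (h.trans (map_one e').symm))))
    exact absurd (by rw [show w = z from congrArg Subtype.val (e'.injective h1)]; exact hZX hzZ) hwX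

end Cfsg.Agent.S2879
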