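import Cfsg.Statements.S3716
import Cfsg.Agent.Lib.ThreeSquareDihedral.Embedding
import Cfsg.Agent.Lib.ThreeSquareDihedral.Basis

set_option autoImplicit false
open Cfsg

namespace Cfsg.Agent.S3716

open Cfsg.Agent.ThreeSquareDihedral

theorem exists_iso {G : Type*} [Group G] [Finite G] (M : Subgroup G) (h9 : Nat.card M = 9)
    (hel : ∀ m ∈ M, m ^ 3 = 1) (hcomm : ∀ a ∈ M, ∀ b ∈ M, a * b = b * a) :
    ∃ f : Multiplicative V →* G, Function.Injective f ∧ f.range = M := by
  classical
  have : Nontrivial M := Finite.one_lt_card_iff_nontrivial.1 (by omega)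
  obtain ⟨⟨x, hx⟩, hx1⟩ := exists_ne (1 : M)
  have hx1' : x ≠ 1 := fun h => hx1 (Subtype.ext h)
  have ox : orderOf x = 3 := orderOf_eq_prime (hel x hx) hx1'
  obtain ⟨y, hy, hyx⟩ : ∃ y ∈ M, y ∉ Subgroup.zpowers x := by
    by_contra h
    push Not at h
    have := Subgroup.card_le_of_le (show M ≤ Subgroup.zpowers x from h)
    rw [h9, Nat.card_zpowers, ox] at this
    omega
  have key : ∀ {z : G}, z ^ 3 = 1 → ∀ a b : ZMod 3, z ^ (a + b).val = z ^ a.val * z ^ b.val := by
    intro z hz a b
    rw [← pow_add, ZMod.val_add, ← pow_eq_pow_mod _ hz]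
  let f : Multiplicative V →* G :=
    { toFun := fun v => x ^ v.toAdd.1.val * y ^ v.toAdd.2.val
      map_one' := by simp
      map_mul' := fun v w => by
        simp only [toAdd_mul, Prod.fst_add, Prod.snd_add, key (hel x hx), key (hel y hy)]
        have e : Commute (x ^ w.toAdd.1.val) (y ^ v.toAdd.2.val) :=
          (show Commute x y from hcomm x hx y hy).pow_pow _ _
        rw [mul_assoc, mul_assoc, ← mul_assoc (x ^ w.toAdd.1.val), e.eq, mul_assoc] }
  have hinj : Function.Injective f := by
    rw [injective_iff_map_eq_one]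
    intro v hv
    obtain ⟨p, hab⟩ : ∃ p, v.toAdd = p := ⟨_, rfl⟩
    change x ^ v.toAdd.1.val * y ^ v.toAdd.2.val = 1 at hv
    rw [hab] at hv
    have hb : p.2 = 0 := by
      by_contra hb
      have hyb : y ^ p.2.val ∈ Subgroup.zpowers x := by
        rw [eq_inv_of_mul_eq_one_right hv]
        exact Subgroup.inv_mem _ (Subgroup.npow_mem_zpowers _ _)
      have : p.2.val = 1 ∨ p.2.val = 2 := by
        have := ZMod.val_lt p.2
        have := (ZMod.val_ne_zero p.2).2 hb
        omega
      rcases this with e | e <;> rw [e] at hyb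
      · exact hyx (by simpa using hyb)
      · have h2 := Subgroup.inv_mem _ hyb
        rw [show (y ^ 2)⁻¹ = y from inv_eq_of_mul_eq_one_right (by rw [← pow_succ, hel y hy])] at h2
        exact hyx h2
    rw [hb, ZMod.val_zero, pow_zero, mul_one] at hv
    have ha : p.1 = 0 := by
      have := orderOf_dvd_of_pow_eq_one hv
      rw [ox] at this
      have h3 := ZMod.val_lt p.1
      exact (ZMod.val_eq_zero p.1).1 (by omega)
    apply Multiplicative.toAdd.injective
    rw [hab]
    exact Prod.ext ha hb
  refine ⟨f, hinj, Subgroup.eq_of_le_of_card_ge ?_ ?_⟩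
  · rintro _ ⟨v, rfl⟩
    exact mul_mem (pow_mem hx _) (pow_mem hy _)
  · rw [h9, ← Nat.card_congr (MonoidHom.ofInjective hinj).toEquiv, Nat.card_eq_fintype_card]
    rfl

theorem exists_embedded {G : Type*} [Group G] [Finite G] (M : Sylow 3 G)
    (hM9 : Nat.card ↥(M : Subgroup G) = 9) (hMel : ∀ m ∈ (M : Subgroup G), m ^ 3 = 1)
    (hCM : Subgroup.centralizer ((M : Subgroup G) : Set G) = (M : Subgroup G))
    (N : Subgroup G) (hN : N = Subgroup.normalizer ((M : Subgroup G) : Set G))
    (hCg : ∀ g ∈ (M : Subgroup G), g ≠ 1 → Subgroup.centralizer ({g} : Set G) ≤ N)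
    (hS : ∀ S : Sylow 2 ↥N, Nonempty (↥(S : Subgroup ↥N) ≃* DihedralGroup 4)) :
    ∃ π : Q →* G, Embedded π ∧ π.range = N ∧
      ∀ m, m ∈ (M : Subgroup G) ↔ ∃ x : Q, x.right = 1 ∧ π x = m := by
  classical
  have : Fact (Nat.Prime 2) := ⟨Nat.prime_two⟩
  have : Fact (Nat.Prime 3) := ⟨Nat.prime_three⟩
  set M' := (M : Subgroup G) with hM'
  have hcomm : ∀ a ∈ M', ∀ b ∈ M', a * b = b * a := fun a ha b hb => by
    have ha' : a ∈ Subgroup.centralizer (M' : Set G) := by rw [hCM]; exact ha
    exact (Subgroup.mem_centralizer_iff.1 ha' b hb).symm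
  obtain ⟨f, hf, hfr⟩ := exists_iso M' hM9 hMel hcomm
  have hfmem : ∀ v, f v ∈ M' := fun v => hfr ▸ ⟨v, rfl⟩
  -- the linear map of an element of `N`
  have hlin : ∀ n ∈ N, ∃ p : V × V, (∀ v, linMap p v = 0 → v = 0) ∧
      ∀ v, f (Multiplicative.ofAdd (linMap p v)) = n * f (Multiplicative.ofAdd v) * n⁻¹ := by
    intro n hn
    rw [hN] at hn
    have hmem : ∀ v, ∃ w, f w = n * f v * n⁻¹ := fun v => by
      have := (Subgroup.mem_normalizer_iff.1 hn (f v)).1 (hfmem v)
      rwa [← hfr] at this
    choose g hg using hmem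
    let a : V →+ V :=
      { toFun := fun v => (g (Multiplicative.ofAdd v)).toAdd
        map_zero' := by
          have : g 1 = 1 := hf (by rw [hg, map_one]; group)
          simp [this]
        map_add' := fun v w => by
          have : g (Multiplicative.ofAdd v * Multiplicative.ofAdd w) =
              g (Multiplicative.ofAdd v) * g (Multiplicative.ofAdd w) := hf (by
            rw [hg, map_mul, map_mul, hg, hg]; group)
          simp [ofAdd_add, this] }
    refine ⟨(a (1, 0), a (0, 1)), fun v hv => ?_, fun v => ?_⟩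
    · rw [← linMap_of_add] at hv
      have : n * f (Multiplicative.ofAdd v) * n⁻¹ = 1 := by
        rw [← hg, show g (Multiplicative.ofAdd v) = 1 from Multiplicative.toAdd.injective hv, map_one]
      rw [mul_inv_eq_one, mul_eq_left] at this
      exact congrArg Multiplicative.toAdd (hf (this.trans (map_one f).symm))
    · rw [← linMap_of_add]
      exact hg _
  -- `N / M` is a two-group
  have hp24 : ∀ n ∈ N, n ^ 24 ∈ M' := by
    intro n hn
    obtain ⟨p, hp0, hp⟩ := hlin n hn
    rw [← hCM, Subgroup.mem_centralizer_iff]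
    intro m hm
    obtain ⟨v, rfl⟩ : m ∈ f.range := hfr ▸ hm
    have it : ∀ (k : ℕ) (w : V), f (Multiplicative.ofAdd ((linMap p)^[k] w)) =
        n ^ k * f (Multiplicative.ofAdd w) * (n ^ k)⁻¹ := by
      intro k
      induction k with
      | zero => simp
      | succ k ih => intro w; rw [Function.iterate_succ', Function.comp, hp, ih, pow_succ']; group
    have := it 24 v.toAdd
    rw [linMap_pow_24 p hp0, ofAdd_toAdd, eq_mul_inv_iff_mul_eq] at this
    exact this
  have hMN : M' ≤ N := by rw [hN]; exact Subgroup.le_normalizer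
  have hidx : ∃ k, (M'.subgroupOf N).index = 2 ^ k := by
    have h3 : ¬ 3 ∣ (M'.subgroupOf N).index := fun hd => by
      have h1 : M'.relIndex N ∣ M'.index := Subgroup.relIndex_dvd_index_of_le hMN
      exact M.not_dvd_index (hd.trans h1)
    have : (M'.subgroupOf N).Normal := by
      rw [Subgroup.normal_subgroupOf_iff_le_normalizer hMN, ← hN]
    refine ⟨_, Nat.eq_prime_pow_of_unique_prime_dvd Subgroup.index_ne_zero_of_finite fun {q} hq hd => ?_⟩
    rw [Subgroup.index] at hd
    have := Fact.mk hq
    obtain ⟨y, hy⟩ := exists_prime_orderOf_dvd_card' q hd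
    obtain ⟨n, rfl⟩ := QuotientGroup.mk_surjective y
    have h24 : ((n : N) : N ⧸ M'.subgroupOf N) ^ 24 = 1 := by
      rw [← QuotientGroup.mk_pow, QuotientGroup.eq_one_iff, Subgroup.mem_subgroupOf]
      simpa using hp24 _ n.2
    have hdq := orderOf_dvd_of_pow_eq_one h24
    rw [hy] at hdq
    have h24' : q ∣ 2 ^ 3 * 3 := by norm_num; exact hdq
    rcases hq.dvd_mul.1 h24' with h | h
    · exact (Nat.prime_dvd_prime_iff_eq hq Nat.prime_two).1 (hq.dvd_of_dvd_pow h)
    · rw [(Nat.prime_dvd_prime_iff_eq hq Nat.prime_three).1 h, ← Subgroup.index] at hd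
      exact absurd hd h3
  obtain ⟨k, hk⟩ := hidx
  obtain ⟨S⟩ := (inferInstance : Nonempty (Sylow 2 N))
  obtain ⟨e⟩ := hS S
  have hS8 : Nat.card (S : Subgroup N) = 8 := by
    rw [Nat.card_congr e.toEquiv, Nat.card_eq_fintype_card]; rfl
  have hN72 : Nat.card N = 72 := by
    have h1 := (M'.subgroupOf N).index_mul_card
    rw [hk, Nat.card_congr (Subgroup.subgroupOfEquivOfLe hMN).toEquiv, hM9] at h1
    have h2 := S.card_eq_multiplicity
    rw [hS8, ← h1, Nat.factorization_mul (by positivity) (by norm_num), Finsupp.add_apply,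
      Nat.prime_two.factorization_pow, Finsupp.single_eq_same,
      Nat.factorization_eq_zero_of_not_dvd (show ¬ 2 ∣ 9 by norm_num), add_zero] at h2
    rw [← h1, ← h2]
  let ρ : DihedralGroup 4 →* G :=
    N.subtype.comp ((S : Subgroup N).subtype.comp e.symm.toMonoidHom)
  have hρ : Function.Injective ρ :=
    N.subtype_injective.comp ((S : Subgroup N).subtype_injective.comp e.symm.injective)
  have hρN : ∀ g, ρ g ∈ N := fun g => ((e.symm g : (S : Subgroup N)) : N).2
  have hρM : ∀ g, ρ g ∈ M' → g = 1 := fun g hg => by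
    have h8 : g ^ 8 = 1 := (by decide : ∀ g : DihedralGroup 4, g ^ 8 = 1) g
    have h3 : g ^ 3 = 1 := hρ (by rw [map_pow, hMel _ hg, map_one])
    simpa using pow_gcd_eq_one.2 ⟨h8, h3⟩
  choose L hL0 hL using fun g => hlin _ (hρN g)
  have hmul : ∀ g h v, linMap (L (g * h)) v = linMap (L g) (linMap (L h) v) := fun g h v => by
    apply Multiplicative.ofAdd.injective
    apply hf
    rw [hL, hL, hL, map_mul]; group
  have hone : ∀ v, linMap (L 1) v = v := fun v => by
    apply Multiplicative.ofAdd.injective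
    apply hf
    rw [hL, map_one]; group
  have hiter : ∀ g (i : ℕ) v, linMap (L (g ^ i)) v = (linMap (L g))^[i] v := by
    intro g i
    induction i with
    | zero => intro v; simp [hone]
    | succ i ih => intro v; rw [pow_succ', hmul, ih, Function.iterate_succ', Function.comp]
  obtain ⟨P, hP0, hPR, hPS⟩ := exists_monomial_basis (L (DihedralGroup.r 1))
    (fun v => by rw [← hiter, show (DihedralGroup.r 1 : DihedralGroup 4) ^ 4 = 1 by decide, hone])
    (by
      by_contra h
      push Not at h
      have : DihedralGroup.r 1 ^ 2 = (1 : DihedralGroup 4) := by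
        refine hρM _ ?_
        rw [← hCM, Subgroup.mem_centralizer_iff]
        intro m hm
        obtain ⟨v, rfl⟩ : m ∈ f.range := hfr ▸ hm
        have := hL (DihedralGroup.r 1 ^ 2) v.toAdd
        rw [hiter, h, ofAdd_toAdd, eq_mul_inv_iff_mul_eq] at this
        exact this
      exact absurd this (by decide))
    (L (DihedralGroup.sr 0))
    (fun v => by rw [← hiter, show (DihedralGroup.sr 0 : DihedralGroup 4) ^ 2 = 1 by decide, hone])
    (fun v => by
      rw [← hmul, ← hmul,
        show (DihedralGroup.r 1 * DihedralGroup.sr 0 * DihedralGroup.r 1 : DihedralGroup 4) =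
          DihedralGroup.sr 0 by decide])
  have hPg : ∀ g v, linMap P (act g v) = linMap (L g) (linMap P v) := by
    have hpow : ∀ (i : ℕ) v, linMap P (act (DihedralGroup.r 1 ^ i) v) =
        linMap (L (DihedralGroup.r 1 ^ i)) (linMap P v) := by
      intro i
      induction i with
      | zero => intro v; rw [pow_zero, act_one, hone]
      | succ i ih => intro v; rw [pow_succ', act_mul, hPR, ih, hmul]
    intro g v
    obtain ⟨i, rfl | rfl⟩ := dihedral_cases g
    · exact hpow _ v
    · rw [act_mul, hPS, hpow, hmul]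
  let fn : Multiplicative V →* G := f.comp
    { toFun := fun v => Multiplicative.ofAdd (linMap P v.toAdd)
      map_one' := by simp [linMap]
      map_mul' := fun v w => by simp [linMap_add] }
  have hfn : Function.Injective fn := by
    rw [injective_iff_map_eq_one]
    intro v hv
    have := hf (hv.trans (map_one f).symm)
    exact Multiplicative.toAdd.injective (hP0 _ (congrArg Multiplicative.toAdd this))
  have hfnmem : ∀ v, fn v ∈ M' := fun v => hfmem _
  let π : Q →* G := SemidirectProduct.lift fn ρ fun g => MonoidHom.ext fun v => by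
    show fn (actHom g v) = ρ g * fn v * (ρ g)⁻¹
    show f (Multiplicative.ofAdd (linMap P (act g v.toAdd))) = _
    rw [hPg, hL]
    rfl
  have hπ : ∀ x : Q, π x = fn x.left * ρ x.right := fun x => rfl
  have hinj : Function.Injective π := by
    rw [injective_iff_map_eq_one]
    intro x hx
    rw [hπ] at hx
    have hr : x.right = 1 := hρM _ (eq_inv_of_mul_eq_one_right hx ▸ M'.inv_mem (hfnmem _))
    rw [hr, map_one, mul_one] at hx
    exact SemidirectProduct.ext (hfn (hx.trans (map_one fn).symm)) hr
  have hrange : π.range = N := by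
    refine Subgroup.eq_of_le_of_card_ge ?_ ?_
    · rintro _ ⟨x, rfl⟩
      rw [hπ]
      exact mul_mem (hMN (hfnmem _)) (hρN _)
    · rw [hN72, ← Nat.card_congr (MonoidHom.ofInjective hinj).toEquiv, Nat.card_eq_fintype_card]
      rfl
  have hplane : ∀ m, m ∈ M' ↔ ∃ x : Q, x.right = 1 ∧ π x = m := by
    intro m
    constructor
    · intro hm
      have : fn.range = M' := by
        refine Subgroup.eq_of_le_of_card_ge (by rintro _ ⟨v, rfl⟩; exact hfnmem v) ?_
        rw [hM9, ← Nat.card_congr (MonoidHom.ofInjective hfn).toEquiv, Nat.card_eq_fintype_card]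
        rfl
      obtain ⟨v, rfl⟩ : m ∈ fn.range := this ▸ hm
      exact ⟨SemidirectProduct.inl v, rfl, by simp [hπ]⟩
    · rintro ⟨x, hx, rfl⟩
      rw [hπ, hx, map_one, mul_one]
      exact hfnmem _
  refine ⟨π, ⟨hinj, fun g hg => ?_, fun x hx hx1 => ?_⟩, hrange, hplane⟩
  · rw [hrange, hN]
    have hmaps : ∀ m ∈ M', g * m * g⁻¹ ∈ M' := fun m hm => by
      obtain ⟨x, hx, rfl⟩ := (hplane m).1 hm
      exact (hplane _).2 (hg x hx)
    refine Subgroup.mem_normalizer_iff.2 fun s => ⟨hmaps s, fun hs => ?_⟩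
    obtain ⟨⟨s', hs'⟩, he⟩ := (Finite.injective_iff_surjective
      (f := fun x : M' => (⟨g * x * g⁻¹, hmaps x x.2⟩ : M'))).1
        (fun a b hab => Subtype.ext (by simpa using congrArg Subtype.val hab)) ⟨_, hs⟩
    have : g * s' * g⁻¹ = g * s * g⁻¹ := congrArg Subtype.val he
    simp only [mul_left_inj, mul_right_inj] at this
    exact this ▸ hs'
  · rw [hrange]
    exact hCg _ ((hplane _).2 ⟨x, hx, rfl⟩) fun h => hx1 (hinj (h.trans (map_one π).symm))


/-- Let G be a finite group with an elementary abelian Sylow 3-subgroup M of order 9 which is self-centralizing (C_G(M) = M), let N = N_G(M), and suppose C_G(g) ≤ N for every nonidentity g ∈ M. If the Sylow 2-subgroups of N are dihedral of order 8, then G is not simple. -/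
theorem result {G : Type*} [Group G] [Finite G] (M : Sylow 3 G) (hM9 : Nat.card ↥(M : Subgroup G) = 9)
    (hMel : ∀ m ∈ (M : Subgroup G), m ^ 3 = 1)
    (hCM : Subgroup.centralizer ((M : Subgroup G) : Set G) = (M : Subgroup G))
    (N : Subgroup G) (hN : N = Subgroup.normalizer ((M : Subgroup G) : Set G))
    (hCg : ∀ g ∈ (M : Subgroup G), g ≠ 1 → Subgroup.centralizer ({g} : Set G) ≤ N)
    (hS : ∀ S : Sylow 2 ↥N, Nonempty (↥(S : Subgroup ↥N) ≃* DihedralGroup 4)) :
    ¬ IsSimpleGroup G := by
  intro hs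
  obtain ⟨π, E, -, -⟩ := exists_embedded M hM9 hMel hCM N hN hCg hS
  have := Fintype.ofFinite G
  refine E.false_of_simple fun hc => ?_
  have hp : (Nat.card G).Prime :=
    let _ : CommGroup G := { ‹Group G› with mul_comm := hc.is_comm.comm }
    IsSimpleGroup.prime_card
  have h := hM9 ▸ Subgroup.card_subgroup_dvd_card (M : Subgroup G)
  exact absurd ((hp.eq_one_or_self_of_dvd 9 h).resolve_left (by norm_num) ▸ hp) (by norm_num)

end Cfsg.Agent.S3716
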