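import Cfsg.Statements.S3333
import Cfsg.Agent.S3716
import Cfsg.Agent.Lib.SelfCentNine.SymSix

set_option autoImplicit false
open Cfsg

namespace Cfsg.Agent.S3333

/-- Let G be a finite group with a Sylow 3-subgroup S of order 9 that is its own centralizer, with N_G(S)/S dihedral of order 8, and such that C_G(x) ≤ N_G(S) for every non-identity x in S. Then S is normal in G or G is isomorphic to the symmetric group of degree 6. -/
theorem result {G : Type*} [Group G] [Finite G]
    (P : Sylow 3 G) (S : Subgroup G) (hSP : S = P) (hcard : Nat.card S = 9)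
    (hC : Subgroup.centralizer (S : Set G) = S)
    (eN : Subgroup.normalizer (S : Set G) ⧸ S.subgroupOf (Subgroup.normalizer (S : Set G)) ≃* DihedralGroup 4)
    (hcent : ∀ x ∈ S, x ≠ 1 → Subgroup.centralizer ({x} : Set G) ≤ Subgroup.normalizer (S : Set G)) :
    S.Normal ∨ Nonempty (G ≃* Equiv.Perm (Fin 6)) := by
  classical
  have : Fact (Nat.Prime 2) := ⟨Nat.prime_two⟩
  rw [or_iff_not_imp_left]
  intro hnn
  set N := Subgroup.normalizer (S : Set G) with hN
  have hidx : (S.subgroupOf N).index = 8 := by
    show Nat.card (N ⧸ S.subgroupOf N) = 8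
    rw [Nat.card_congr eN.toEquiv, DihedralGroup.nat_card]
  have hexp : ∀ a ∈ S, a ^ 3 = 1 := by
    intro a ha
    obtain ⟨k, hk, hak⟩ := (Nat.dvd_prime_pow Nat.prime_three).mp
      (show orderOf a ∣ 3 ^ 2 from (Subgroup.orderOf_dvd_natCard S ha).trans (dvd_of_eq hcard))
    interval_cases k
    · rw [orderOf_eq_one_iff.mp hak, one_pow]
    · exact orderOf_dvd_iff_pow_eq_one.mp (dvd_of_eq hak)
    · exfalso
      have : IsCyclic S := isCyclic_of_orderOf_eq_card ⟨a, ha⟩
        (by rw [← Subgroup.orderOf_coe]; show orderOf a = _; rw [hak, hcard]; norm_num)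
      have hker : S.subgroupOf N = S.normalizerMonoidHom.ker := by
        rw [Subgroup.normalizerMonoidHom_ker, hC]
      rw [hker, Subgroup.index_ker] at hidx
      have hle : Nat.card S.normalizerMonoidHom.range ≤ Nat.card (MulAut S) :=
        Nat.card_le_card_of_injective _ Subtype.val_injective
      have h9 : Nat.totient 9 = 6 := by decide
      rw [IsCyclic.card_mulAut, hcard, h9] at hle
      omega
  have hS' : Nat.card (S.subgroupOf N) = 9 := by
    rw [Nat.card_congr (Subgroup.subgroupOfEquivOfLe Subgroup.le_normalizer).toEquiv, hcard]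
  have hNcard : Nat.card N = 72 := by rw [← (S.subgroupOf N).card_mul_index, hS', hidx]
  have hT : ∀ T : Sylow 2 N, Nonempty ((T : Subgroup N) ≃* DihedralGroup 4) := by
    intro T
    have hT8 : Nat.card (T : Subgroup N) = 8 := by
      rw [T.card_eq_multiplicity, hNcard, show (72 : ℕ) = 2 ^ 3 * 9 by norm_num,
        Nat.factorization_mul (by norm_num) (by norm_num), Finsupp.add_apply,
        Nat.prime_two.factorization_pow, Finsupp.single_eq_same,
        Nat.factorization_eq_zero_of_not_dvd (show ¬ 2 ∣ 9 by norm_num), add_zero]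
      norm_num
    let f := (QuotientGroup.mk' (S.subgroupOf N)).comp (T : Subgroup N).subtype
    have hf : Function.Injective f := by
      refine (injective_iff_map_eq_one f).mpr fun t ht => ?_
      have h1 : (t : N) ∈ S.subgroupOf N := (QuotientGroup.eq_one_iff _).mp ht
      have h2 : orderOf (t : N) ∣ Nat.gcd 8 9 := Nat.dvd_gcd
        ((Subgroup.orderOf_dvd_natCard (T : Subgroup N) t.2).trans (dvd_of_eq hT8))
        ((Subgroup.orderOf_dvd_natCard _ h1).trans (dvd_of_eq hS'))
      exact Subtype.ext (orderOf_eq_one_iff.mp (Nat.dvd_one.mp h2))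
    exact ⟨(MulEquiv.ofBijective f ((Nat.bijective_iff_injective_and_card f).mpr
      ⟨hf, by rw [hT8]; exact hidx.symm⟩)).trans eN⟩
  obtain ⟨π, E, hrange, hplane⟩ := S3716.exists_embedded P (hSP ▸ hcard) (hSP ▸ hexp) (hSP ▸ hC) N
    (by rw [hN, hSP]) (hSP ▸ hcent) hT
  exact SelfCentNine.mulEquiv_perm_six E P hSP hcard hexp hC (fun m => hSP ▸ hplane m) hrange.symm hnn

end Cfsg.Agent.S3333
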