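import Cfsg.Statements.S3366
import Cfsg.Agent.Lib.PSpThree.Structure
import Cfsg.Agent.Lib.PSpThree.Centralizer
import Mathlib.FieldTheory.Finite.GaloisField
-- import your own Cfsg.Agent.* helpers here

set_option autoImplicit false
open Cfsg

namespace Cfsg.Agent.S3366

open PSpThree Matrix

theorem map_mem {R S : Type*} [Field R] [Field S] (σ : R ≃+* S) (A : Matrix.symplecticGroup (Fin 2) R) :
    A.1.map σ ∈ Matrix.symplecticGroup (Fin 2) S := by
  have hJ : (Matrix.J (Fin 2) R).map σ = Matrix.J (Fin 2) S := by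
    ext i j
    rcases i with i | i <;> rcases j with j | j <;> simp [Matrix.J, Matrix.one_apply, apply_ite σ]
  have h := congrArg (fun X => σ.mapMatrix X) (SymplecticGroup.mem_iff.1 A.2)
  simp only [map_mul, RingEquiv.mapMatrix_apply, ← Matrix.transpose_map, hJ] at h
  exact SymplecticGroup.mem_iff.2 h

/-- Transport of `Sp` along a field isomorphism. -/
def spMap {R S : Type*} [Field R] [Field S] (σ : R ≃+* S) :
    Matrix.symplecticGroup (Fin 2) R ≃* Matrix.symplecticGroup (Fin 2) S where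
  toFun A := ⟨A.1.map σ, map_mem σ A⟩
  invFun A := ⟨A.1.map σ.symm, map_mem σ.symm A⟩
  left_inv A := Subtype.ext (Matrix.ext fun i j => σ.symm_apply_apply _)
  right_inv A := Subtype.ext (Matrix.ext fun i j => σ.apply_symm_apply _)
  map_mul' A B := Subtype.ext (map_mul σ.mapMatrix A.1 B.1)

/-- Transport of `PSp` along a field isomorphism. -/
noncomputable def pspMap {R S : Type*} [Field R] [Field S] (σ : R ≃+* S) : Cfsg.PSp 2 R ≃* Cfsg.PSp 2 S :=
  QuotientGroup.congr _ _ (spMap σ) (by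
    ext x
    simp only [Subgroup.mem_map, MonoidHom.coe_coe, Subgroup.mem_center_iff]
    constructor
    · rintro ⟨z, hz, rfl⟩ g
      obtain ⟨g, rfl⟩ := (spMap σ).surjective g
      rw [← map_mul, ← map_mul, hz g]
    · intro hx
      obtain ⟨z, rfl⟩ := (spMap σ).surjective x
      exact ⟨z, fun g => (spMap σ).injective (by rw [map_mul, map_mul, hx]), rfl⟩)

/-- The image of the transvection in `PSp(4,3)`. -/
noncomputable def cT : Cfsg.PSp 2 K := QuotientGroup.mk' _ transv

theorem transv_center {g : Sp4} (h : (QuotientGroup.mk' _ g : Cfsg.PSp 2 K) * cT = cT * QuotientGroup.mk' _ g) :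
    g.1 * transv.1 = transv.1 * g.1 := by
  rw [cT, ← map_mul, ← map_mul, QuotientGroup.mk'_eq_mk'] at h
  obtain ⟨z, hz, hgz⟩ := h
  rcases GLOrder.center_Sp.1 hz with h1 | h1
  · have := congrArg Subtype.val hgz
    simpa [h1] using this
  · exfalso
    have e : (g * transv * g⁻¹) * z = transv := by
      rw [mul_assoc (g * transv), Subgroup.mem_center_iff.1 hz g⁻¹, ← mul_assoc, hgz, mul_inv_cancel_right]
    have e' := congrArg (fun M : Sp4 => Matrix.trace M.1) e
    simp only [Submonoid.coe_mul, h1, Matrix.mul_neg, mul_one, Matrix.trace_neg] at e'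
    have e3 : (g⁻¹ : Sp4).1 * g.1 = 1 := by rw [← Submonoid.coe_mul, inv_mul_cancel]; rfl
    rw [Matrix.trace_mul_cycle, e3, one_mul] at e'
    revert e'
    decide +kernel

/-- The model inside the centraliser. -/
noncomputable def toC : SemidirectProduct H3 SL23 H3.act →* Subgroup.centralizer ({cT} : Set (Cfsg.PSp 2 K)) :=
  ((QuotientGroup.mk' _).comp toSp).codRestrict _ fun x => by
    rw [Subgroup.mem_centralizer_singleton_iff]
    show QuotientGroup.mk' _ (toSp x) * cT = cT * QuotientGroup.mk' _ (toSp x)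
    rw [cT, ← map_mul, ← map_mul]
    congr 1
    show toSp x * toSp _ = toSp _ * toSp x
    rw [← map_mul, ← map_mul]
    congr 1
    ext1
    · rw [SemidirectProduct.mul_left, SemidirectProduct.mul_left, SemidirectProduct.left_inl,
        SemidirectProduct.right_inl, map_one, MulAut.one_apply,
        show H3.act x.right H3.cz = H3.cz by rw [H3.act_apply]; simp [H3.cz]]
      exact (H3.cz_central x.left).symm
    · rw [SemidirectProduct.mul_right, SemidirectProduct.mul_right, SemidirectProduct.right_inl, mul_one, one_mul]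

theorem toC_bijective : Function.Bijective toC := by
  refine ⟨(injective_iff_map_eq_one _).2 fun x hx => ?_, ?_⟩
  · have h : QuotientGroup.mk' _ (toSp x) = (1 : Cfsg.PSp 2 K) := congrArg Subtype.val hx
    exact toSp_injective_aux x (GLOrder.center_Sp.1 ((QuotientGroup.eq_one_iff _).1 h))
  · rintro ⟨g, hg⟩
    obtain ⟨g, rfl⟩ := QuotientGroup.mk'_surjective _ g
    rw [Subgroup.mem_centralizer_singleton_iff] at hg
    obtain ⟨x, hx⟩ := exists_preimage (transv_center hg)
    refine ⟨x, Subtype.ext ?_⟩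
    show QuotientGroup.mk' _ (toSp x) = QuotientGroup.mk' _ g
    rcases hx with hx | hx
    · rw [Subtype.ext hx]
    · rw [QuotientGroup.mk'_eq_mk']
      refine ⟨⟨-1, SymplecticGroup.mem_iff.2 (by simp)⟩, GLOrder.center_Sp.2 (Or.inr rfl), Subtype.ext ?_⟩
      rw [Submonoid.coe_mul, hx]
      simp

theorem card_psp : Nat.card (Cfsg.PSp 2 K) = 25920 := by
  have h := Subgroup.card_eq_card_quotient_mul_card_subgroup (Subgroup.center Sp4)
  rw [card_Sp4, GLOrder.card_center_Sp (by norm_num), Nat.card_zmod] at h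
  have : Nat.gcd 2 (3 - 1) = 2 := rfl
  rw [this] at h
  show Nat.card (Sp4 ⧸ Subgroup.center Sp4) = 25920
  omega

theorem orderOf_cT : orderOf cT = 3 := by
  haveI : Fact (Nat.Prime 3) := ⟨Nat.prime_three⟩
  refine orderOf_eq_prime ?_ fun h => ?_
  · rw [cT, ← map_pow, transv, ← map_pow, ← map_pow, H3.pow_three_eq, map_one, map_one, map_one]
  · have h' : (SemidirectProduct.inl H3.cz : SemidirectProduct H3 SL23 H3.act) = 1 :=
      toSp_injective_aux _ (GLOrder.center_Sp.1 ((QuotientGroup.eq_one_iff _).1 h))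
    exact absurd (congrArg SemidirectProduct.left h') (by decide +kernel)

theorem exists_sylow : ∃ S : Sylow 3 (Cfsg.PSp 2 K), cT ∈ (S : Subgroup (Cfsg.PSp 2 K)) ∧
    cT ∈ Subgroup.centralizer ((S : Subgroup (Cfsg.PSp 2 K)) : Set (Cfsg.PSp 2 K)) := by
  haveI : Fact (Nat.Prime 3) := ⟨Nat.prime_three⟩
  set C := Subgroup.centralizer ({cT} : Set (Cfsg.PSp 2 K)) with hC
  have hCc : Nat.card C = 648 := (Nat.card_eq_of_bijective _ toC_bijective).symm.trans card_model
  obtain ⟨P⟩ := (inferInstance : Nonempty (Sylow 3 C))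
  have hPc : Nat.card P = 81 := by
    rw [Sylow.card_eq_multiplicity, hCc]
    decide +kernel
  have hmap : Nat.card ((P : Subgroup C).map C.subtype) = 81 := by
    rw [← hPc]
    exact Subgroup.card_map_of_injective C.subtype_injective
  let S : Sylow 3 (Cfsg.PSp 2 K) := Sylow.ofCard ((P : Subgroup C).map C.subtype) (by
    rw [hmap, card_psp]
    decide +kernel)
  refine ⟨S, ?_, ?_⟩
  · have hcC : cT ∈ C := Subgroup.mem_centralizer_singleton_iff.2 rfl
    have hn : (Subgroup.zpowers (⟨cT, hcC⟩ : C)).Normal := ⟨fun n hn g => by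
      obtain ⟨k, rfl⟩ := hn
      refine ⟨k, ?_⟩
      show _ = g * (⟨cT, hcC⟩ : C) ^ k * g⁻¹
      have hcom : Commute g (⟨cT, hcC⟩ : C) := Subtype.ext (Subgroup.mem_centralizer_singleton_iff.1 g.2)
      rw [(hcom.zpow_right k).eq, mul_inv_cancel_right]⟩
    have hp : IsPGroup 3 (Subgroup.zpowers (⟨cT, hcC⟩ : C)) := IsPGroup.of_card (n := 1) (by
      rw [Nat.card_zpowers, ← Subgroup.orderOf_coe, orderOf_cT, pow_one])
    obtain ⟨Q, hQ⟩ := hp.exists_le_sylow
    obtain ⟨g, hg⟩ := MulAction.exists_smul_eq C Q P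
    have hcQ : (⟨cT, hcC⟩ : C) ∈ (P : Subgroup C) := by
      rw [← hg, Sylow.coe_subgroup_smul, Subgroup.mem_pointwise_smul_iff_inv_smul_mem]
      have : (MulAut.conj g)⁻¹ • (⟨cT, hcC⟩ : C) = ⟨cT, hcC⟩ := by
        rw [← map_inv]
        show g⁻¹ * _ * g⁻¹⁻¹ = _
        have hcom : Commute g⁻¹ (⟨cT, hcC⟩ : C) :=
          Subtype.ext (Subgroup.mem_centralizer_singleton_iff.1 (g⁻¹).2)
        rw [hcom.eq, mul_inv_cancel_right]
      rw [this]
      exact hQ (Subgroup.mem_zpowers _)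
    exact ⟨_, hcQ, rfl⟩
  · rw [Subgroup.mem_centralizer_iff]
    rintro x ⟨y, -, rfl⟩
    exact Subgroup.mem_centralizer_singleton_iff.1 y.2

/-- Let X be a finite group with O₃(X) extraspecial of order 27 and exponent 3, X/O₃(X) isomorphic to SL(2,3), O₂(X) = 1, and a Sylow 3-subgroup of X containing an elementary abelian subgroup of order 27. Then X is isomorphic to the centralizer in PSp(4,3) of a 3-central element of order 3 (an element of order 3 in the centre of a Sylow 3-subgroup). -/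
theorem result {X : Type*} [Group X] [Finite X]
    (hR : Cfsg.IsExtraspecial 3 (Cfsg.pCore 3 X)) (hRcard : Nat.card (Cfsg.pCore 3 X) = 27)
    (hRexp : ∀ r ∈ Cfsg.pCore 3 X, r ^ 3 = 1)
    (e : X ⧸ Cfsg.pCore 3 X ≃* Matrix.SpecialLinearGroup (Fin 2) (ZMod 3))
    (hO2 : Cfsg.pCore 2 X = ⊥)
    (hE : ∃ E : Subgroup X, IsMulCommutative E ∧ (∀ a ∈ E, a ^ 3 = 1) ∧ Nat.card E = 27)
    (F : Type*) [Field F] [Fintype F] (hF : Fintype.card F = 3) :
    ∃ (c : Cfsg.PSp 2 F) (S : Sylow 3 (Cfsg.PSp 2 F)), orderOf c = 3 ∧ c ∈ (S : Subgroup (Cfsg.PSp 2 F)) ∧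
      c ∈ Subgroup.centralizer ((S : Subgroup (Cfsg.PSp 2 F)) : Set (Cfsg.PSp 2 F)) ∧
      Nonempty (X ≃* Subgroup.centralizer ({c} : Set (Cfsg.PSp 2 F))) := by
  haveI : Fact (Nat.Prime 3) := ⟨Nat.prime_three⟩
  haveI hn : (Cfsg.pCore 3 X).Normal := by
    refine ⟨fun n hn g => ?_⟩
    have h : ((Cfsg.pCore 3 X).map (MulAut.conj g).toMonoidHom) ≤ Cfsg.pCore 3 X := by
      rw [Cfsg.pCore, Subgroup.map_le_iff_le_comap]
      refine sSup_le fun N hN => ?_
      rw [← Subgroup.map_le_iff_le_comap]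
      refine le_sSup ⟨?_, hN.2.map _⟩
      exact hN.1.map _ (MulAut.conj g).surjective
    exact h ⟨n, hn, rfl⟩
  obtain ⟨E, hEc, hE3, hE⟩ := hE
  let π : X →* SL23 := e.toMonoidHom.comp (QuotientGroup.mk' (Cfsg.pCore 3 X))
  have hker : π.ker = Cfsg.pCore 3 X := by
    ext x
    rw [MonoidHom.mem_ker]
    show e (QuotientGroup.mk' _ x) = 1 ↔ _
    rw [map_eq_one_iff e e.injective]
    exact QuotientGroup.eq_one_iff x
  obtain ⟨eX⟩ := PSpThree.nonempty_mulEquiv (π := π) hO2 hR hRcard hRexp hker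
    (e.surjective.comp (QuotientGroup.mk'_surjective _))
    (fun a ha b hb => congrArg Subtype.val (hEc.is_comm.comm ⟨a, ha⟩ ⟨b, hb⟩)) hE3 hE
  let f := pspMap (FiniteField.ringEquivOfCardEq (K := K) (K' := F) (by rw [hF]; rfl))
  obtain ⟨S, hS1, hS2⟩ := exists_sylow
  refine ⟨f cT, S.mapSurjective (f := f.toMonoidHom) f.surjective, ?_, ⟨cT, hS1, rfl⟩, ?_, ⟨?_⟩⟩
  · rw [MulEquiv.orderOf_eq, orderOf_cT]
  · rw [Subgroup.mem_centralizer_iff]
    rintro x ⟨y, hy, rfl⟩
    show f y * f cT = f cT * f y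
    rw [← map_mul, ← map_mul, Subgroup.mem_centralizer_iff.1 hS2 y hy]
  · refine (eX.symm.trans (MulEquiv.ofBijective toC toC_bijective)).trans ?_
    refine (f.subgroupMap _).trans (MulEquiv.subgroupCongr ?_)
    ext x
    obtain ⟨y, rfl⟩ := f.surjective x
    rw [Subgroup.mem_centralizer_singleton_iff, ← map_mul, ← map_mul, f.injective.eq_iff,
      ← Subgroup.mem_centralizer_singleton_iff]
    exact ⟨fun ⟨z, hz, h⟩ => f.injective h ▸ hz, fun h => ⟨y, h, rfl⟩⟩

end Cfsg.Agent.S3366
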