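import Cfsg.Statements.S0801
import Cfsg.Agent.Lib.PSL2.Transvections

set_option autoImplicit false
open Cfsg

namespace Cfsg.Agent.S0801

/-- Let F be a finite field of odd characteristic and λ ≠ 0 an element generating F as a field. Then the lower and upper unitriangular matrices with off-diagonal entries 1 and λ generate SL_2(F), unless |F| = 9 and λ² = −1, in which case they generate a subgroup of order 120. -/
theorem result {F : Type*} [Field F] [Fintype F] (h2 : (2 : F) ≠ 0) (lam : F) (hlam : lam ≠ 0) (hgen : Subfield.closure ({lam} : Set F) = ⊤) : (Subgroup.closure {g : Matrix.SpecialLinearGroup (Fin 2) F | (g : Matrix (Fin 2) (Fin 2) F) = !![1, 0; 1, 1] ∨ (g : Matrix (Fin 2) (Fin 2) F) = !![1, lam; 0, 1]} = ⊤ ∧ ¬ (Fintype.card F = 9 ∧ lam ^ 2 = -1)) ∨ (Fintype.card F = 9 ∧ lam ^ 2 = -1 ∧ Nat.card ↥(Subgroup.closure {g : Matrix.SpecialLinearGroup (Fin 2) F | (g : Matrix (Fin 2) (Fin 2) F) = !![1, 0; 1, 1] ∨ (g : Matrix (Fin 2) (Fin 2) F) = !![1, lam; 0, 1]})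 = 120) := by
  obtain ⟨p, hchar⟩ := CharP.exists F
  have hp : Fact p.Prime := ⟨CharP.char_is_prime F p⟩
  have hp2 : p ≠ 2 := by
    rintro rfl
    exact h2 (by exact_mod_cast CharP.cast_eq_zero F 2)
  set G := Subgroup.closure {g : Matrix.SpecialLinearGroup (Fin 2) F | (g : Matrix (Fin 2) (Fin 2) F) = !![1, 0; 1, 1] ∨ (g : Matrix (Fin 2) (Fin 2) F) = !![1, lam; 0, 1]} with hG
  set π := QuotientGroup.mk' (Subgroup.center (Matrix.SpecialLinearGroup (Fin 2) F)) with hπ
  have hset : {g : Matrix.SpecialLinearGroup (Fin 2) F | (g : Matrix (Fin 2) (Fin 2) F) = !![1, 0; 1, 1] ∨ (g : Matrix (Fin 2) (Fin 2) F) = !![1, lam; 0, 1]} = {PSL2.loT 1, PSL2.upT lam} := by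
    ext g
    constructor
    · rintro (h | h)
      · exact Or.inl (Subtype.ext h)
      · exact Or.inr (Subtype.ext h)
    · rintro (rfl | rfl)
      · exact Or.inl rfl
      · exact Or.inr rfl
  have hmap : G.map π = Subgroup.closure {QuotientGroup.mk (PSL2.loT 1), QuotientGroup.mk (PSL2.upT lam)} := by
    rw [hG, hset, MonoidHom.map_closure, Set.image_pair]
    rfl
  have hq : Nat.card F = Fintype.card F := Nat.card_eq_fintype_card
  rcases PSL2.transvection_image_cases p hp2 hlam hgen (H := G.map π)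
    (hmap ▸ Subgroup.subset_closure (Or.inl rfl)) (hmap ▸ Subgroup.subset_closure (Or.inr rfl))
    with h | ⟨h3, h9, hsq, hc⟩
  · refine Or.inl ⟨PSL2.map_mk_top p hp2 h, ?_⟩
    rintro ⟨h9, hsq⟩
    rw [← hq] at h9
    obtain ⟨l, hl, hql, -⟩ := PSL2.q_cases (F := F) p
    have hp3 : p = 3 := by
      have h3d : p ∣ 9 := h9 ▸ hql ▸ dvd_pow_self p (by omega)
      exact (Nat.prime_dvd_prime_iff_eq hp.out Nat.prime_three).1
        (hp.out.dvd_of_dvd_pow (show p ∣ 3 ^ 2 by norm_num; exact h3d))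
    subst hp3
    exact PSL2.transvection_top_ne h9 hsq hmap.le h
  · refine Or.inr ⟨hq ▸ h9, hsq, ?_⟩
    subst h3
    have h20 : Fact (Nat.Prime 2) := ⟨Nat.prime_two⟩
    obtain ⟨z, hz⟩ := exists_prime_orderOf_dvd_card' (G := ↥(G.map π)) 2 (by rw [hc]; norm_num)
    obtain ⟨g, hg, hgz⟩ := z.2
    have hz1 : (z : Matrix.ProjectiveSpecialLinearGroup (Fin 2) F) ≠ 1 := fun e => by
      rw [← Subgroup.orderOf_coe, e, orderOf_one] at hz
      omega
    obtain ⟨w, hw, hwt⟩ := PSL2.exists_lift_involution h2 hz1 (by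
      rw [← Subgroup.coe_mul, ← pow_two, orderOf_dvd_iff_pow_eq_one.1 hz.dvd, Subgroup.coe_one])
    have hneg : (-1 : Matrix.SpecialLinearGroup (Fin 2) F) ∈ G := by
      rw [← PSL2.sq_eq_neg_one_of_tr_zero hwt]
      rcases PSL2.mk_eq_mk_iff.1 (hw.trans hgz.symm) with e | e
      · rw [e]; exact mul_mem hg hg
      · rw [e, neg_mul_neg]; exact mul_mem hg hg
    have hne := PSL2.neg_one_ne_one_sl (F := F) h2
    have hker : (π.comp G.subtype).ker = Subgroup.zpowers (⟨-1, hneg⟩ : G) := by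
      ext x
      rw [MonoidHom.mem_ker]
      constructor
      · intro hx
        rcases PSL2.mk_one_iff.1 hx with e | e
        · rw [show x = 1 from Subtype.ext e]; exact one_mem _
        · rw [show x = ⟨-1, hneg⟩ from Subtype.ext e]; exact Subgroup.mem_zpowers _
      · rintro ⟨i, rfl⟩
        rw [map_zpow, show (π.comp G.subtype) ⟨-1, hneg⟩ = 1 from PSL2.mk_one_iff.2 (Or.inr rfl),
          one_zpow]
    have hk2 : Nat.card (π.comp G.subtype).ker = 2 := by
      rw [hker, Nat.card_zpowers]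
      exact orderOf_eq_prime (Subtype.ext (by simp)) fun e => hne (congrArg Subtype.val e)
    have h := (π.comp G.subtype).ker.card_mul_index
    rw [hk2, Subgroup.index_ker, MonoidHom.range_comp, Subgroup.range_subtype, hc] at h
    exact h.symm

end Cfsg.Agent.S0801
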