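import Cfsg.Statements.S3225
import Cfsg.Agent.EqLemmas

set_option autoImplicit false
open Cfsg

namespace Cfsg.Agent.S3225

/-- Let G be a finite group of even order with no subgroup of index 2, S a Sylow 2-subgroup of G and M a subgroup of index 2 in S such that, for some n ≥ 1, every element of S outside M has order greater than 2^(n−1). Then every element of S of order 2ⁿ is conjugate in G to an element of M. -/
theorem result {G : Type*} [Group G] [Finite G] (hev : Even (Nat.card G))
    (hG : ∀ H : Subgroup G, H.index ≠ 2) (S : Sylow 2 G) (M : Subgroup G) (hMS : M ≤ (S : Subgroup G)) (hM : M.relIndex (S : Subgroup G) = 2)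
    (n : ℕ) (hn : 1 ≤ n) (hord : ∀ y ∈ (S : Subgroup G), y ∉ M → 2 ^ (n - 1) < orderOf y)
    (x : G) (hx : x ∈ (S : Subgroup G)) (hxn : orderOf x = 2 ^ n) :
    ∃ g : G, g * x * g⁻¹ ∈ M := by
  classical
  by_contra hc
  push Not at hc
  have hmul : ∀ a b : G, a ∈ (S : Subgroup G) → b ∈ (S : Subgroup G) →
      (a * b ∈ M ↔ (a ∈ M ↔ b ∈ M)) := by
    intro a b ha hb
    have h := Subgroup.mul_mem_iff_of_index_two (H := M.subgroupOf (S : Subgroup G)) hM
      (a := ⟨a, ha⟩) (b := ⟨b, hb⟩)
    simpa [Subgroup.mem_subgroupOf] using h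
  let φ : ↥(S : Subgroup G) →* ℤˣ :=
    { toFun := fun a => if (a : G) ∈ M then 1 else -1
      map_one' := by simp
      map_mul' := fun a b => by
        have h := hmul a b a.2 b.2
        by_cases h1 : (a : G) ∈ M <;> by_cases h2 : (b : G) ∈ M <;> simp [h1, h2, h] }
  haveI : Fintype (G ⧸ (S : Subgroup G)) := Fintype.ofFinite _
  set T : G →* ℤˣ := MonoidHom.transfer φ with hT
  have hTx : T x = -1 := by
    rw [hT, MonoidHom.transfer_eq_prod_quotient_orbitRel_zpowers_quot]
    have hper : ∀ q : MulAction.orbitRel.Quotient (Subgroup.zpowers x) (G ⧸ (S : Subgroup G)),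
        Function.minimalPeriod (x • ·) q.out ∣ 2 ^ n := by
      intro q
      apply Function.IsPeriodicPt.minimalPeriod_dvd
      show (fun c : G ⧸ (S : Subgroup G) => x • c)^[2 ^ n] q.out = q.out
      rw [smul_iterate, ← hxn, pow_orderOf_eq_one, ]; simp only [one_smul]
    have hval : ∀ (m : ℕ) (r : G) (hr : r⁻¹ * x ^ m * r ∈ (S : Subgroup G)), m ∣ 2 ^ n →
        φ ⟨r⁻¹ * x ^ m * r, hr⟩ = (-1) ^ m := by
      intro m r hr hm
      obtain ⟨j, -, rfl⟩ := (Nat.dvd_prime_pow Nat.prime_two).mp hm
      rcases Nat.eq_zero_or_pos j with rfl | hj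
      · have hno : ¬ r⁻¹ * x ^ 2 ^ 0 * r ∈ M := by
          have := hc r⁻¹
          simpa using this
        simp only [φ, MonoidHom.coe_mk, OneHom.coe_mk, if_neg hno]
        simp
      · have hin : r⁻¹ * x ^ 2 ^ j * r ∈ M := by
          by_contra hout
          have h1 := hord _ hr hout
          have h2 : (r⁻¹ * x ^ 2 ^ j * r) ^ 2 ^ (n - 1) = 1 := by
            have h4 : (r⁻¹ * x ^ 2 ^ j * r) ^ 2 ^ (n - 1) = r⁻¹ * (x ^ 2 ^ j) ^ 2 ^ (n - 1) * r := by
              simpa using conj_pow (i := 2 ^ (n - 1)) (a := r⁻¹) (b := x ^ 2 ^ j)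
            rw [h4, ← pow_mul, ← pow_add,
              orderOf_dvd_iff_pow_eq_one.mp (hxn ▸ pow_dvd_pow 2 (by omega : n ≤ j + (n - 1)))]
            simp
          have h3 := Nat.le_of_dvd (by positivity) (orderOf_dvd_of_pow_eq_one h2)
          omega
        simp only [φ, MonoidHom.coe_mk, OneHom.coe_mk, if_pos hin]
        rw [Even.neg_one_pow]
        exact Nat.even_pow.mpr ⟨even_two, by omega⟩
    rw [Finset.prod_congr rfl (fun q _ => hval _ _ _ (hper q)), Finset.prod_pow_eq_pow_sum]
    apply Odd.neg_one_pow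
    have hcard : Nat.card (G ⧸ (S : Subgroup G)) =
        ∑ q : MulAction.orbitRel.Quotient (Subgroup.zpowers x) (G ⧸ (S : Subgroup G)),
          Function.minimalPeriod (x • ·) q.out := by
      rw [Nat.card_congr (Subgroup.quotientEquivSigmaZMod (S : Subgroup G) x), Nat.card_sigma]
      exact Finset.sum_congr rfl (fun q _ => Nat.card_zmod _)
    rw [← hcard, ← Subgroup.index_eq_card, Nat.odd_iff]
    have := S.not_dvd_index
    omega
  refine hG T.ker ?_
  have hr : T.range = ⊤ := by
    rw [eq_top_iff]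
    intro z _
    rcases Int.units_eq_one_or z with rfl | rfl
    · exact one_mem _
    · exact ⟨x, hTx⟩
  rw [Subgroup.index_ker, hr, Subgroup.card_top, Nat.card_eq_fintype_card]
  rfl

end Cfsg.Agent.S3225
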