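import Cfsg.Statements.S1006
import Cfsg.Agent.Lib.SmallOrders.Order168

set_option autoImplicit false
open Cfsg

namespace Cfsg.Agent.S1006

/-- In a simple group of order 168 there are 56 elements of order 3, all conjugate; 42 elements of order 4, all conjugate; and 48 elements of order 7 falling into two conjugacy classes of size 24, an element of order 7 not being conjugate to its inverse. -/
theorem result {G : Type*} [Group G] [Finite G] [IsSimpleGroup G] (h : Nat.card G = 168) : Nat.card {g : G // orderOf g = 3} = 56 ∧ (∀ s t : G, orderOf s = 3 → orderOf t = 3 → IsConj s t) ∧ Nat.card {g : G // orderOf g = 4} = 42 ∧ (∀ s t : G, orderOf s = 4 → orderOf t = 4 → IsConj s t) ∧ Nat.card {g : G // orderOf g = 7} = 48 ∧ ∀ x : G, orderOf x = 7 → Nat.card {g : G // IsConj x g} = 24 ∧ ¬ IsConj x x⁻¹ := by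
  have := Fact.mk (show Nat.Prime 7 by norm_num)
  have := Fact.mk Nat.prime_three
  have := Fact.mk Nat.prime_two
  obtain ⟨-, h4, huniq, -⟩ := SmallOrders.S168.counting h
  have hne : ∀ (p : ℕ) (x : G), p ≠ 1 → orderOf x = p → x ≠ 1 := fun p x hp hx h1 =>
    hp (by rw [← hx, h1, orderOf_one])
  refine ⟨SmallOrders.S168.card_orderOf_three h, fun s t hs ht => ?_, h4, fun s t hs ht => ?_,
    SmallOrders.S168.card_orderOf_seven h, fun x hx => ⟨?_, ?_⟩⟩
  · obtain ⟨S, hS⟩ := SmallOrders.exists_sylow_eq_zpowers (SmallOrders.S168.card_Q h) hs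
    obtain ⟨T, hT⟩ := SmallOrders.exists_sylow_eq_zpowers (SmallOrders.S168.card_Q h) ht
    obtain ⟨g, hg⟩ := MulAction.exists_smul_eq G S T
    obtain ⟨n, hn, hnc, hnz⟩ :=
      SmallOrders.exists_not_commute_normalizer (SmallOrders.S168.nc h) ht T hT
    have hmem : g * s * g⁻¹ ∈ Subgroup.zpowers t := by
      rw [← hT, ← hg, Sylow.coe_subgroup_smul, hS,
        Subgroup.mem_pointwise_smul_iff_inv_smul_mem]
      simp [MulAut.smul_def, mul_assoc]
    have hgs : orderOf (g * s * g⁻¹) = 3 :=
      (orderOf_injective (MulAut.conj g).toMonoidHom (MulAut.conj g).injective s).trans hs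
    have hns : orderOf (n * t * n⁻¹) = 3 :=
      (orderOf_injective (MulAut.conj n).toMonoidHom (MulAut.conj n).injective t).trans ht
    have htwo : ∀ a ∈ Subgroup.zpowers t, a ≠ 1 → a = t ∨ a = t⁻¹ := by
      intro a ha ha1
      obtain ⟨k, rfl⟩ := Subgroup.mem_zpowers_iff.mp ha
      rw [← zpow_mod_orderOf, ht] at ha1 ⊢
      have h1 := Int.emod_nonneg k (show (3 : ℤ) ≠ 0 by norm_num)
      have h2 := Int.emod_lt_of_pos k (show (0 : ℤ) < 3 by norm_num)
      rcases (show k % ((3 : ℕ) : ℤ) = 0 ∨ k % ((3 : ℕ) : ℤ) = 1 ∨ k % ((3 : ℕ) : ℤ) = 2 by omega) with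
        e | e | e <;> rw [e] at ha1 ⊢
      · simp at ha1
      · left; simp
      · right
        rw [eq_inv_iff_mul_eq_one, show t ^ (2 : ℤ) * t = t ^ 3 by group]
        exact ht ▸ pow_orderOf_eq_one t
    have hinv : n * t * n⁻¹ = t⁻¹ :=
      (htwo _ hnz (hne 3 _ (by norm_num) hns)).resolve_left hnc
    rcases htwo _ hmem (hne 3 _ (by norm_num) hgs) with e | e
    · exact isConj_iff.mpr ⟨g, e⟩
    · refine (isConj_iff.mpr ⟨g, e⟩).trans (IsConj.symm ?_)
      exact isConj_iff.mpr ⟨n, hinv⟩
  · obtain ⟨S, hS⟩ := (IsPGroup.of_card (n := 2) (by rw [Nat.card_zpowers, hs]; rfl :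
      Nat.card (Subgroup.zpowers s) = 2 ^ 2)).exists_le_sylow
    obtain ⟨T, hT⟩ := (IsPGroup.of_card (n := 2) (by rw [Nat.card_zpowers, ht]; rfl :
      Nat.card (Subgroup.zpowers t) = 2 ^ 2)).exists_le_sylow
    have hsS := hS (Subgroup.mem_zpowers s)
    have htT := hT (Subgroup.mem_zpowers t)
    obtain ⟨g, hg⟩ := MulAction.exists_smul_eq G S T
    have hgsT : g * s * g⁻¹ ∈ (T : Subgroup G) := by
      rw [← hg, Sylow.coe_subgroup_smul, Subgroup.mem_pointwise_smul_iff_inv_smul_mem]
      simpa [MulAut.smul_def, mul_assoc] using hsS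
    have hgs : orderOf (g * s * g⁻¹) = 4 :=
      (orderOf_injective (MulAut.conj g).toMonoidHom (MulAut.conj g).injective s).trans hs
    -- some element of `T` inverts `t`
    obtain ⟨n, hn, hnt⟩ : ∃ n ∈ (T : Subgroup G), n * t * n⁻¹ = t⁻¹ := by
      have hnc : ¬ ∀ n ∈ (T : Subgroup G), n * t = t * n := fun hall => by
        have hC := SmallOrders.S168.centralizer_center_two h T htT (hne 4 _ (by norm_num) ht) hall
        obtain ⟨z, hzT, hz2, hzc⟩ := SmallOrders.S168.exists_central_involution h T
        apply SmallOrders.S168.not_isMulCommutative_two h T (SmallOrders.S168.normalizer_two h T)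
        -- `T` is generated by the central element `t` and one more element
        set c : (T : Subgroup G) := ⟨t, htT⟩
        have hcc : c ∈ Subgroup.center (T : Subgroup G) :=
          Subgroup.mem_center_iff.mpr fun a => Subtype.ext (hall a a.2)
        refine ⟨⟨?_⟩⟩
        have hcyc : IsCyclic ((T : Subgroup G) ⧸ Subgroup.center (T : Subgroup G)) := by
          have hd : (Subgroup.center (T : Subgroup G)).index ∣ 2 := by
            have h1 := Subgroup.index_dvd_of_le (Subgroup.zpowers_le.mpr hcc)
            have h2 := (Subgroup.zpowers c).card_mul_index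
            rw [Nat.card_zpowers, show orderOf c = 4 from (Subgroup.orderOf_coe c).symm.trans ht,
              SmallOrders.S168.card_T h T] at h2
            rwa [show (Subgroup.zpowers c).index = 2 by omega] at h1
          rcases (Nat.dvd_prime Nat.prime_two).mp hd with e | e <;> rw [Subgroup.index] at e
          · have : Subsingleton ((T : Subgroup G) ⧸ Subgroup.center (T : Subgroup G)) :=
              Finite.card_le_one_iff_subsingleton.mp e.le
            infer_instance
          · exact isCyclic_of_prime_card e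
        exact commutative_of_cyclic_center_quotient (QuotientGroup.mk' (Subgroup.center (T : Subgroup G))) (QuotientGroup.ker_mk' _).le
      push Not at hnc
      obtain ⟨n, hn, hnt⟩ := hnc
      refine ⟨n, hn, ?_⟩
      rcases huniq T t htT ht (n * t * n⁻¹) (mul_mem (mul_mem hn htT) (inv_mem hn))
        ((orderOf_injective (MulAut.conj n).toMonoidHom (MulAut.conj n).injective t).trans ht) with e | e
      · exact absurd (mul_inv_eq_iff_eq_mul.mp e) hnt
      · exact e
    rcases huniq T t htT ht _ hgsT hgs with e | e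
    · exact isConj_iff.mpr ⟨g, e⟩
    · exact (isConj_iff.mpr ⟨g, e⟩).trans (IsConj.symm (isConj_iff.mpr ⟨n, hnt⟩))
  · have := SmallOrders.card_isConj_class x
    rw [SmallOrders.S168.centralizer_seven h hx, h] at this
    omega
  · intro hc
    obtain ⟨g, hg⟩ := isConj_iff.mp hc
    have hg2 : (g * g) * x = x * (g * g) := by
      have e1 : g * g * x * (g * g)⁻¹ = x := by
        calc g * g * x * (g * g)⁻¹ = g * (g * x * g⁻¹) * g⁻¹ := by group
          _ = g * x⁻¹ * g⁻¹ := by rw [hg]
          _ = (g * x * g⁻¹)⁻¹ := conj_inv.symm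
          _ = x := by rw [hg, inv_inv]
      exact mul_inv_eq_iff_eq_mul.mp e1
    have h7 := SmallOrders.orderOf_dvd_of_centralizer (SmallOrders.S168.centralizer_seven h hx) hg2
    have h14 : orderOf g ∣ 2 * 7 := orderOf_dvd_of_pow_eq_one (by
      rw [pow_mul, pow_two]
      exact orderOf_dvd_iff_pow_eq_one.mp h7)
    -- `g` normalises `⟨x⟩`, so its order divides `21`
    obtain ⟨P, hP⟩ := SmallOrders.exists_sylow_eq_zpowers (SmallOrders.S168.card_P h) hx
    have hgN : g ∈ Subgroup.normalizer ((P : Subgroup G) : Set G) := by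
      rw [hP]
      have hmap : (Subgroup.zpowers x).map (MulAut.conj g).toMonoidHom = Subgroup.zpowers x := by
        rw [MonoidHom.map_zpowers, show (MulAut.conj g).toMonoidHom x = x⁻¹ from hg,
          Subgroup.zpowers_inv]
      refine Subgroup.mem_normalizer_iff.mpr fun a => ?_
      conv_rhs => rw [← hmap]
      exact ⟨fun ha => ⟨a, ha, rfl⟩, fun ⟨b, hb, e⟩ => (MulAut.conj g).injective e ▸ hb⟩
    have h21 : orderOf g ∣ 21 :=
      SmallOrders.S168.card_normalizer_seven h P ▸ Subgroup.orderOf_dvd_natCard _ hgN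
    have hg7 : orderOf g ∣ 7 := by
      have := Nat.dvd_gcd h14 h21
      norm_num at this
      exact this
    have hcomm : g * x = x * g := by
      have e : g ∈ (P : Subgroup G) := by
        by_cases hg1 : g = 1
        · exact hg1 ▸ one_mem _
        have hg7' : orderOf g = 7 := ((Nat.dvd_prime (by norm_num)).mp hg7).resolve_left
          (fun e => hg1 (orderOf_eq_one_iff.mp e))
        obtain ⟨R, hR⟩ := SmallOrders.exists_sylow_eq_zpowers (SmallOrders.S168.card_P h) hg7'
        have hRN : (R : Subgroup G) ≤ Subgroup.normalizer ((P : Subgroup G) : Set G) :=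
          hR ▸ Subgroup.zpowers_le.mpr hgN
        have hn : (P.subtype (Subgroup.le_normalizer : (P : Subgroup G) ≤ _)).Normal := by
          rw [Sylow.coe_subtype]
          exact Subgroup.normal_in_normalizer
        have := Sylow.unique_of_normal _ hn
        have hRP : R = P := Sylow.subtype_injective
          (Subsingleton.elim (R.subtype hRN) (P.subtype Subgroup.le_normalizer))
        exact hRP ▸ (hR ▸ Subgroup.mem_zpowers g)
      rw [hP] at e
      obtain ⟨k, rfl⟩ := Subgroup.mem_zpowers_iff.mp e
      exact ((Commute.refl x).zpow_left k).eq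
    have hx2 : x * x = 1 := by
      rw [hcomm, mul_inv_cancel_right] at hg
      exact eq_inv_iff_mul_eq_one.mp hg
    have := orderOf_dvd_of_pow_eq_one ((pow_two x).trans hx2)
    rw [hx] at this
    norm_num at this

end Cfsg.Agent.S1006
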