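import Cfsg.Statements.S2046
import Cfsg.Agent.EqLemmas
import Cfsg.Agent.Lib.HigmanSimsPerm.Iso
import Cfsg.Agent.Lib.HigmanSimsPerm.Double
import Cfsg.Agent.Lib.HigmanSimsPerm.Upper

set_option autoImplicit false
open Cfsg

namespace Cfsg.Agent.S2046

/-- The Schur multiplier of the Higman–Sims group (as a two-vector stabiliser in the automorphism group of the rank-24 lattice) is cyclic of order 2; here the Schur multiplier is described through stem extensions, as in the definitions: surjective homomorphisms onto the group from a finite group, whose kernel is central in that finite group and contained in that finite group's commutator subgroup. -/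
theorem result : Cfsg.HasCyclicSchurMultiplier ↥Cfsg.Spor.HS 2 := by
  classical
  let e := HSPerm.equivHS
  obtain ⟨Γ₀, _, _, σ₀, hσ₀, hc⟩ := HSPerm.exists_two_cover
  have hk : (e.toMonoidHom.comp σ₀).ker = σ₀.ker := by
    ext x
    simp only [MonoidHom.mem_ker, MonoidHom.comp_apply, MulEquiv.coe_toMonoidHom]
    exact ⟨fun h => e.injective (h.trans (map_one _).symm), fun h => (congrArg e h).trans (map_one _)⟩
  haveI := Fact.mk Nat.prime_two
  refine ⟨⟨Γ₀, inferInstance, inferInstance, e.toMonoidHom.comp σ₀,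
    ⟨e.surjective.comp hσ₀.1, by rw [hk]; exact hσ₀.2.1, by rw [hk]; exact hσ₀.2.2⟩, ⟨?_⟩⟩,
    fun Γ _ _ σ hσ => ?_⟩
  · have h2 : Nat.card (e.toMonoidHom.comp σ₀).ker = 2 := by rw [hk]; exact hc
    exact (zmodCyclicMulEquiv (isCyclic_of_prime_card h2)).symm.trans (h2 ▸ MulEquiv.refl _)
  · let τ : Γ →* HSPerm.hsPerm := e.symm.toMonoidHom.comp σ
    have hτ : τ.ker = σ.ker := by
      ext x
      simp only [MonoidHom.mem_ker]
      exact ⟨fun h => e.symm.injective (h.trans (map_one _).symm),
        fun h => (congrArg e.symm h).trans (map_one _)⟩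
    obtain ⟨π, hπ⟩ := HSPerm.Upper.exists_surj_two τ
      ⟨e.symm.surjective.comp hσ.1, by rw [hτ]; exact hσ.2.1, by rw [hτ]; exact hσ.2.2⟩
    exact ⟨(MulEquiv.subgroupCongr hτ).toMonoidHom.comp π,
      (MulEquiv.subgroupCongr hτ).surjective.comp hπ⟩

end Cfsg.Agent.S2046
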