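import Cfsg.Statements.S1680
import Cfsg.Agent.EqLemmas
import Cfsg.Agent.Lib.CosetEnum.Index
import Cfsg.Agent.Lib.CosetEnum.SetupSuz
import Cfsg.Agent.Lib.CosetEnum.TableSuz1782

set_option autoImplicit false
open Cfsg

namespace Cfsg.Agent.S1680

open Cfsg.Agent.CosetEnum in
/-- Generators of the subgroup of index 1782. -/
def H1782 : List (FreeGroup Cfsg.Spor.Suz.Gen) :=
  [Cfsg.Spor.Suz.a, Cfsg.Spor.Suz.b, Cfsg.Spor.Suz.c, Cfsg.Spor.Suz.d, Cfsg.Spor.Suz.e, Cfsg.Spor.Suz.f]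

open Cfsg.Agent.CosetEnum in
theorem table : Setup.Table suzSetup suz1782 H1782 := by
  have hl : suzSetup.lettersOK suzLetters = true := by decide +kernel
  have h0 := Setup.seed_fixes_id (hs := H1782) suzSetup_gens hl suz1782_seed0_check (by decide +kernel)
  have h1 := Setup.seed_fixes_id_ext (hs := H1782) suzSetup_gens hl suz1782_seed1_check [suz1782_seed0.tgt]
    (fun w hw => by rw [List.mem_singleton.mp hw]; exact h0) (by decide +kernel)
  have h2 := Setup.seed_fixes_id_ext (hs := H1782) suzSetup_gens hl suz1782_seed2_check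
    [suz1782_seed0.tgt, suz1782_seed1.tgt] (fun w hw => by
      simp only [List.mem_cons, List.not_mem_nil, or_false] at hw
      rcases hw with rfl | rfl <;> assumption) (by decide +kernel)
  refine Setup.Table.mk' (ext := [suz1782_seed0.tgt, suz1782_seed1.tgt, suz1782_seed2.tgt]) suzSetup_gens
    suz1782_check (by decide +kernel) fun w hw => ?_
  simp only [List.mem_cons, List.not_mem_nil, or_false] at hw
  rcases hw with rfl | rfl | rfl <;> assumption

open Cfsg.Agent.CosetEnum in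
theorem main (H : Subgroup suzSetup.G) (hH : H = suzSetup.closureOf H1782) :
    H.index = 1782 ∧ ∃ q₁ q₂ : suzSetup.G ⧸ H,
      (MulAction.orbit H q₁).ncard = 416 ∧ (MulAction.orbit H q₂).ncard = 1365 := by
  subst hH
  refine ⟨Setup.Table.index table, ?_⟩
  obtain ⟨e, he⟩ := Setup.Table.orbit table
  have key : ∀ O : OrbitData, (suz1782.reachOK O && suz1782.invariantOK O) = true →
      O.words = H1782.map (suzSetup.wl suz1782) →
      ∃ q : suzSetup.G ⧸ suzSetup.closureOf H1782,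
        (MulAction.orbit (suzSetup.closureOf H1782) q).ncard = O.size := by
    intro O h1 h2
    simp only [Bool.and_eq_true] at h1
    obtain ⟨q, hq, _⟩ := he O h1.1 h1.2 h2
    exact ⟨q, hq⟩
  obtain ⟨q₁, hq1⟩ := key suz1782_orb1 suz1782_orb1_check (by decide +kernel)
  obtain ⟨q₂, hq2⟩ := key suz1782_orb0 suz1782_orb0_check (by decide +kernel)
  exact ⟨q₁, q₂, hq1, hq2⟩

/-- In the presented sporadic Suzuki group, let H be the subgroup generated by the images of a, …, f. Then H has index 1782, H has orbits of sizes 416 and 1365 on the cosets of H other than H itself (with the index 1782 this makes the action rank 3). -/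
theorem result : (((Subgroup.closure ({Cfsg.Spor.Suz.a, Cfsg.Spor.Suz.b, Cfsg.Spor.Suz.c, Cfsg.Spor.Suz.d, Cfsg.Spor.Suz.e, Cfsg.Spor.Suz.f} : Set (FreeGroup Cfsg.Spor.Suz.Gen))).map (PresentedGroup.mk (Cfsg.Spor.coxRelators Cfsg.Spor.Suz.edges ∪ {r | r ∈ Cfsg.Spor.Suz.extra})))).index = 1782 ∧ ∃ q₁ q₂ : Cfsg.Spor.Suz ⧸ (((Subgroup.closure ({Cfsg.Spor.Suz.a, Cfsg.Spor.Suz.b, Cfsg.Spor.Suz.c, Cfsg.Spor.Suz.d, Cfsg.Spor.Suz.e, Cfsg.Spor.Suz.f} : Set (FreeGroup Cfsg.Spor.Suz.Gen))).map (PresentedGroup.mk (Cfsg.Spor.coxRelators Cfsg.Spor.Suz.edges ∪ {r | r ∈ Cfsg.Spor.Suz.extra})))), (MulAction.orbit (((Subgroup.closure ({Cfsg.Spor.Suz.a, Cfsg.Spor.Suz.b, Cfsg.Spor.Suz.c, Cfsg.Spor.Suz.d, Cfsg.Spor.Suz.e, Cfsg.Spor.Suz.f} : Set (FreeGroup Cfsg.Spor.Suz.Gen))).map (PresentedGroup.mk (Cfsg.Spor.coxRelators Cfsg.Spor.Suz.edges ∪ {r | r ∈ Cfsg.Spor.Suz.extra})))) q₁).ncard = 416 ∧ (MulAction.orbit (((Subgroup.closure ({Cfsg.Spor.Suz.a,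 Cfsg.Spor.Suz.b, Cfsg.Spor.Suz.c, Cfsg.Spor.Suz.d, Cfsg.Spor.Suz.e, Cfsg.Spor.Suz.f} : Set (FreeGroup Cfsg.Spor.Suz.Gen))).map (PresentedGroup.mk (Cfsg.Spor.coxRelators Cfsg.Spor.Suz.edges ∪ {r | r ∈ Cfsg.Spor.Suz.extra})))) q₂).ncard = 1365 := by
  refine Cfsg.Agent.S1680.main _ ?_
  open Cfsg.Agent.CosetEnum in
  exact Setup.closureOf_eq suzSetup H1782 _ (by
    ext x; simp only [H1782, List.mem_cons, List.not_mem_nil, or_false, Set.mem_insert_iff,
      Set.mem_singleton_iff, Set.mem_ofPred_eq])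

end Cfsg.Agent.S1680
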