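import Cfsg.Statements.S1694
import Cfsg.Agent.EqLemmas
import Cfsg.Agent.S1680
import Cfsg.Agent.Lib.CosetEnum.BaseSuz
import Cfsg.Agent.Lib.CosetEnum.BoundSuz

set_option autoImplicit false
open Cfsg

namespace Cfsg.Agent.S1694

open Cfsg.Agent.CosetEnum in
theorem main : IsSimpleGroup suzSetup.G ∧ Nat.card suzSetup.G = 448345497600 := by
  have T := Cfsg.Agent.S1680.table
  have hch := suz1782_chain_check
  simp only [Bool.and_eq_true] at hch
  have hub := Setup.card_top (Setup.Table.index T) (by decide +kernel)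
    (Setup.bound_closure suzSetup_gens suz_letters suz_bound0 (hs := Cfsg.Agent.S1680.H1782) (by decide +kernel))
  rw [show suz1782.n * 251596800 = 448345497600 by decide +kernel] at hub
  obtain ⟨hcard, hinj⟩ := Setup.card_eq_of_bounds T.gens T.letters T.perm T.rels suz1782_chain hch.1 hub
    (beq_iff.mp hch.2)
  obtain ⟨ext, hsrc, hext⟩ := T.src
  refine ⟨Setup.isSimpleGroup_of_cert T.gens T.letters T.check T.rels T.perm T.subs hsrc hext hinj (by decide +kernel)
    [suz1782_orb0, suz1782_orb1] ?_ (by decide +kernel) 11 1 (by norm_num) (by decide +kernel) ?_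
    [([1, 6, 4, 2, 3, 5], 11, 2), ([3, 6, 2, 0, 4, 1, 5], 15, 2), ([3, 5, 1, 2, 6, 4], 15, 2), ([3, 5, 2, 1, 0, 5, 3, 6, 2, 1, 2, 4], 11, 2), ([3, 5, 2, 1, 0, 5, 3, 6, 2, 1, 2, 4], 21, 2), ([1, 6, 4, 2, 3, 5], 15, 2), ([3, 5, 1, 2, 6, 4], 15, 2)] (by decide +kernel), hcard⟩
  · intro O hO
    have h0 : ∀ O : OrbitData, (suz1782.reachOK O && suz1782.invariantOK O) = true →
        suz1782.reachOK O = true ∧ suz1782.invariantOK O = true := fun O h => by simpa using h
    simp only [List.mem_cons, List.not_mem_nil, or_false] at hO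
    rcases hO with rfl | rfl
    · exact ⟨(h0 _ suz1782_orb0_check).1, (h0 _ suz1782_orb0_check).2, by decide +kernel⟩
    · exact ⟨(h0 _ suz1782_orb1_check).1, (h0 _ suz1782_orb1_check).2, by decide +kernel⟩
  · rw [hcard]; norm_num

/-- The presented sporadic Suzuki group is simple of the expected order (that is, it is a simple group of the order of the sporadic Suzuki group). -/
theorem result : Cfsg.IsSuz Cfsg.Spor.Suz := by
  exact Cfsg.Agent.S1694.main

end Cfsg.Agent.S1694
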