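import Cfsg.Statements.S0113
import Cfsg.Agent.Lib.PGroup.MaximalClass

set_option autoImplicit false
open Cfsg

namespace Cfsg.Agent.S0113

/-- A 2-group of maximal class contains a cyclic subgroup of index 2. -/
theorem result {X : Type*} [Group X] [Finite X] (n : ℕ) (hn : 3 ≤ n) (hX : Nat.card X = 2 ^ n) (hc : Group.nilpotencyClass X = n - 1) : ∃ C : Subgroup X, IsCyclic C ∧ C.index = 2 := by
  haveI : Fact (Nat.Prime 2) := ⟨Nat.prime_two⟩
  have hab : (commutator X).index = 4 := by
    have h := (commutator X).card_mul_index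
    rw [← Subgroup.top_lowerCentralSeries_one, PGroup.card_lcs_of_maximal_class hn hX hc le_rfl (by omega), hX,
      Subgroup.top_lowerCentralSeries_one] at h
    refine Nat.eq_of_mul_eq_mul_left (pow_pos two_pos (n - 1 - 1)) (h.trans ?_)
    rw [show (4 : ℕ) = 2 ^ 2 from rfl, ← pow_add]; congr 1; omega
  obtain ⟨a, ha⟩ := PGroup.cyclic_index_two_of_card_ab n X hn hX hab
  exact ⟨Subgroup.zpowers a, inferInstance, ha⟩

end Cfsg.Agent.S0113
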