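import Cfsg.Statements.S1292
import Cfsg.Agent.Lib.Signalizer.LocalChar
import Cfsg.Agent.Lib.PLocal.Functor
import Cfsg.Agent.EqLemmas

set_option autoImplicit false
open Cfsg

namespace Cfsg.Agent.S1292

/-- Let G be a finite group such that F*(C_G(t)) = O_2(C_G(t)) for every involution t. Then F*(N_G(T)) = O_2(N_G(T)) for every nontrivial 2-subgroup T of G. -/
theorem result {G : Type*} [Group G] [Finite G] (h : ∀ t : G, orderOf t = 2 → Cfsg.generalizedFittingSubgroup ↥(Subgroup.centralizer ({t} : Set G)) = Cfsg.pCore 2 ↥(Subgroup.centralizer ({t} : Set G))) (T : Subgroup G) (hT : IsPGroup 2 ↥T) (hT1 : T ≠ ⊥) : Cfsg.generalizedFittingSubgroup ↥(Subgroup.normalizer (T : Set G)) = Cfsg.pCore 2 ↥(Subgroup.normalizer (T : Set G)) := by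
  haveI : Fact (Nat.Prime 2) := ⟨Nat.prime_two⟩
  obtain ⟨t, ⟨htT, htc⟩, ht1, ht2⟩ := PLocal.exists_central_of_order_p hT hT1
  exact LocalCharP.generalizedFittingSubgroup_eq_pCore
    (Signalizer.isCharP_normalizer_of_central hT htT
      (fun u hu => Subgroup.mem_centralizer_singleton_iff.2
        (Subgroup.mem_centralizer_iff.1 htc u hu))
      (Signalizer.isCharP_of_genFitting_eq (h t (orderOf_eq_prime ht2 ht1))))

end Cfsg.Agent.S1292
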