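import Cfsg.Statements.S0502
import Cfsg.Agent.EqLemmas

set_option autoImplicit false
open Cfsg

namespace Cfsg.Agent.S0502

theorem exists_four {P : Type*} [Group P] (a b : P) (ha : a ^ 2 = 1) (hb : b ^ 2 = 1)
    (hab : a * b = b * a) (ha1 : a ≠ 1) (hb1 : b ≠ 1) (hne : a ≠ b) :
    ∃ W : Subgroup P, IsKleinFour W ∧ ∀ x, x ∈ W ↔ x = 1 ∨ x = a ∨ x = b ∨ x = a * b := by
  have ha' : a * a = 1 := by rwa [← pow_two]
  have hb' : b * b = 1 := by rwa [← pow_two]
  let W : Subgroup P :=
    { carrier := {1, a, b, a * b}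
      one_mem' := by simp
      mul_mem' := by
        intro x y hx hy
        simp only [Set.mem_insert_iff, Set.mem_singleton_iff] at hx hy ⊢
        have h1 : ∀ t, a * (a * t) = t := fun t => by rw [← mul_assoc, ha', one_mul]
        have h2 : ∀ t, b * (b * t) = t := fun t => by rw [← mul_assoc, hb', one_mul]
        have h3 : ∀ t, b * (a * t) = a * (b * t) := fun t => by rw [← mul_assoc, ← hab, mul_assoc]
        rcases hx with e | e | e | e <;> rcases hy with f | f | f | f <;> subst_vars <;>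
          simp [ha', hb', h1, h2, h3, mul_assoc, hab.symm]
      inv_mem' := by
        intro x hx
        simp only [Set.mem_insert_iff, Set.mem_singleton_iff] at hx ⊢
        have hia : a⁻¹ = a := inv_eq_of_mul_eq_one_right ha'
        have hib : b⁻¹ = b := inv_eq_of_mul_eq_one_right hb'
        rcases hx with e | e | e | e <;> rw [e] <;> simp [hia, hib, hab.symm] }
  have hm : ∀ x, x ∈ W ↔ x = 1 ∨ x = a ∨ x = b ∨ x = a * b := fun x => Iff.rfl
  refine ⟨W, ⟨?_, ?_⟩, hm⟩
  · classical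
    have h1 : (1 : P) ≠ a * b := fun e => hne (by
      calc a = a * (b * b) := by rw [hb', mul_one]
        _ = (a * b) * b := (mul_assoc _ _ _).symm
        _ = b := by rw [← e, one_mul])
    show Nat.card ({1, a, b, a * b} : Set P) = 4
    rw [Nat.card_coe_set_eq, Set.ncard_insert_of_notMem (by simp [ha1.symm, hb1.symm, h1]),
      Set.ncard_insert_of_notMem (by simp [hne, hb1]), Set.ncard_pair (by simp [ha1])]
  · refine Nat.dvd_antisymm (Monoid.exponent_dvd_of_forall_pow_eq_one fun x => ?_) ?_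
    · apply Subtype.ext
      rw [SubgroupClass.coe_pow, OneMemClass.coe_one]
      rcases (hm x).1 x.2 with e | e | e | e <;> rw [e]
      · simp
      · exact ha
      · exact hb
      · rw [(Commute.mul_pow hab 2), ha, hb, one_mul]
    · have h2 : orderOf (⟨a, (hm a).2 (Or.inr (Or.inl rfl))⟩ : W) = 2 :=
        orderOf_eq_prime (Subtype.ext ha) (fun e => ha1 (congrArg Subtype.val e))
      exact h2 ▸ Monoid.order_dvd_exponent _

/-- An involution fixes at least three elements of a normal elementary abelian 2-subgroup of order at least 8. -/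
theorem exists_fixed {P : Type*} [Group P] [Finite P] (_hP : IsPGroup 2 P) (E : Subgroup P) [E.Normal]
    (hEc : ∀ a ∈ E, ∀ b ∈ E, a * b = b * a) (hE2 : ∀ e ∈ E, e ^ 2 = 1) (hE8 : 8 ≤ Nat.card E)
    (u : P) (hu : u ^ 2 = 1) (z : P) :
    ∃ w ∈ E, Commute u w ∧ w ≠ 1 ∧ w ≠ z := by
  have hinv : ∀ e ∈ E, e⁻¹ = e := fun e he => inv_eq_of_mul_eq_one_right (by rw [← pow_two]; exact hE2 e he)
  have hui : u⁻¹ = u := inv_eq_of_mul_eq_one_right (by rw [← pow_two]; exact hu)
  have hn : ∀ e ∈ E, u * e * u⁻¹ ∈ E := fun e he => Subgroup.Normal.conj_mem inferInstance e he u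
  let φ : E →* E :=
    { toFun := fun e => ⟨u * e * u⁻¹ * e, E.mul_mem (hn e e.2) e.2⟩
      map_one' := by apply Subtype.ext; simp
      map_mul' := fun e f => by
        apply Subtype.ext
        simp only [Subgroup.coe_mul]
        have := hEc (u * f * u⁻¹) (hn f f.2) e e.2
        calc u * (↑e * ↑f) * u⁻¹ * (↑e * ↑f) = (u * e * u⁻¹) * ((u * f * u⁻¹) * e) * f := by group
          _ = (u * e * u⁻¹) * (e * (u * f * u⁻¹)) * f := by rw [this]
          _ = (u * e * u⁻¹ * e) * (u * f * u⁻¹ * f) := by group }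
  have hk : ∀ e : E, e ∈ φ.ker ↔ Commute u e := fun e => by
    rw [MonoidHom.mem_ker, Subtype.ext_iff]
    show u * e * u⁻¹ * e = 1 ↔ u * e = e * u
    rw [mul_eq_one_iff_eq_inv, hinv e e.2, mul_inv_eq_iff_eq_mul]
  have hr : φ.range ≤ φ.ker := by
    rintro _ ⟨e, rfl⟩
    rw [hk]
    show u * (u * e * u⁻¹ * e) = (u * e * u⁻¹ * e) * u
    have h1 : u * u = 1 := by rw [← pow_two]; exact hu
    calc u * (u * e * u⁻¹ * e) = (u * u) * (e * (u⁻¹ * e)) := by group
      _ = (e * (u * e * u⁻¹)) * u := by rw [h1, hui]; simp [mul_assoc, h1]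
      _ = (u * e * u⁻¹ * e) * u := by rw [hEc e e.2 _ (hn e e.2)]
  have h3 : 3 ≤ Nat.card φ.ker := by
    by_contra hlt
    have hmul := Subgroup.card_eq_card_quotient_mul_card_subgroup φ.ker
    rw [Nat.card_congr (QuotientGroup.quotientKerEquivRange φ).toEquiv] at hmul
    have := Nat.card_le_card_of_injective _ (Subgroup.inclusion_injective hr)
    nlinarith
  classical
  by_contra hcon
  push Not at hcon
  have hsub : ((fun e : E => (e : P)) '' (φ.ker : Set E)) ⊆ {1, z} := by
    rintro _ ⟨e, he, rfl⟩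
    by_cases h1 : (e : P) = 1
    · exact Or.inl h1
    · exact Or.inr (hcon e e.2 ((hk e).1 he) h1)
  have := Set.ncard_le_ncard hsub (Set.toFinite _)
  rw [Set.ncard_image_of_injective _ Subtype.val_injective, ← Nat.card_coe_set_eq] at this
  have h2 : ({1, z} : Set P).ncard ≤ 2 := (Set.ncard_insert_le _ _).trans (by simp)
  simp only [SetLike.coe_sort_coe] at this
  omega

/-- If a finite 2-group has a normal elementary abelian subgroup of order at least 8, then any two of its Klein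
four-subgroups are joined by a chain of Klein four-subgroups with consecutive members commuting elementwise. -/
theorem result {P : Type*} [Group P] [Finite P] (hP : IsPGroup 2 P)
    (E : Subgroup P) [E.Normal] (hE : IsMulCommutative E) (hE2 : ∀ e ∈ E, e ^ 2 = 1) (hE8 : 8 ≤ Nat.card E) :
    Cfsg.IsFourConnected P := by
  have adj_symm : ∀ {A B : Subgroup P}, (∀ a ∈ A, ∀ b ∈ B, a * b = b * a) → ∀ b ∈ B, ∀ a ∈ A, b * a = a * b :=
    fun h b hb a ha => (h a ha b hb).symm
  haveI : Fact (Nat.Prime 2) := ⟨Nat.prime_two⟩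
  have hEc : ∀ a ∈ E, ∀ b ∈ E, a * b = b * a := fun a ha b hb =>
    congrArg Subtype.val (hE.is_comm.comm (⟨a, ha⟩ : E) ⟨b, hb⟩)
  have hne : E ≠ ⊥ := by rintro rfl; simp at hE8
  obtain ⟨z, hzE, hz, hzc⟩ : ∃ z ∈ E, z ≠ 1 ∧ ∀ x : P, x * z = z * x := by
    haveI : Nontrivial E := (Subgroup.nontrivial_iff_ne_bot _).2 hne
    have h1 : 2 ∣ Nat.card E := by
      obtain ⟨n, hn⟩ := IsPGroup.iff_card.1 (hP.to_subgroup E)
      rw [hn]; exact dvd_pow_self 2 (fun e => by rw [e, pow_zero] at hn; omega)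
    have h2 : (1 : E) ∈ MulAction.fixedPoints (ConjAct P) E := fun g => smul_one g
    obtain ⟨b, hb, hb1⟩ := (hP.of_equiv ConjAct.toConjAct).exists_fixed_point_of_prime_dvd_card_of_fixed_point E h1 h2
    refine ⟨b, b.2, fun e => hb1 (Subtype.ext e).symm, fun x => ?_⟩
    have h3 := congrArg Subtype.val (hb (ConjAct.toConjAct x))
    rw [ConjAct.Subgroup.val_conj_smul, ConjAct.toConjAct_smul] at h3
    exact mul_inv_eq_iff_eq_mul.1 h3
  let R := fun A B : Subgroup P => IsKleinFour A ∧ IsKleinFour B ∧ ∀ a ∈ A, ∀ b ∈ B, a * b = b * a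
  have hsq : ∀ {U : Subgroup P}, IsKleinFour U → ∀ u ∈ U, u ^ 2 = 1 := by
    intro U hU u hu
    have h1 := Monoid.pow_exponent_eq_one (⟨u, hu⟩ : U)
    rw [hU.exponent_two] at h1
    exact congrArg Subtype.val h1
  have hab : ∀ {U : Subgroup P}, IsKleinFour U → ∀ u ∈ U, ∀ v ∈ U, u * v = v * u := by
    intro U hU u hu v hv
    exact congrArg Subtype.val
      (mul_comm_of_exponent_two hU.exponent_two (⟨u, hu⟩ : U) ⟨v, hv⟩)
  have main : ∀ U : Subgroup P, IsKleinFour U → ∃ V : Subgroup P, IsKleinFour V ∧ V ≤ E ∧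
      Relation.ReflTransGen R U V ∧ Relation.ReflTransGen R V U := by
    intro U hU
    by_cases hUE : U ≤ E
    · exact ⟨U, hU, hUE, .refl, .refl⟩
    obtain ⟨u, huU, huE⟩ := SetLike.not_le_iff_exists.1 hUE
    have hu2 := hsq hU u huU
    have hu1 : u ≠ 1 := fun e => huE (e ▸ E.one_mem)
    obtain ⟨W, hW, hWu⟩ := exists_four u z hu2 (hE2 z hzE) (hzc u) hu1 hz
      (fun e => huE (e ▸ hzE))
    obtain ⟨z2, hz2E, hz2u, hz21, hz2z⟩ := exists_fixed hP E hEc hE2 hE8 u hu2 z
    obtain ⟨V, hV, hVm⟩ := exists_four z z2 (hE2 z hzE) (hE2 z2 hz2E) (hEc z hzE z2 hz2E) hz hz21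
      (fun e => hz2z e.symm)
    have r1 : R U W := ⟨hU, hW, fun a ha b hb => by
      rcases (hWu b).1 hb with rfl | rfl | rfl | rfl
      · simp
      · exact hab hU a ha b huU
      · exact hzc a
      · exact (Commute.mul_right (hab hU a ha u huU) (hzc a)).eq⟩
    have r2 : R W V := ⟨hW, hV, fun a ha b hb => by
      have cb : Commute u b ∧ Commute z b := by
        refine ⟨?_, (hzc b).symm⟩
        rcases (hVm b).1 hb with rfl | rfl | rfl | rfl
        · exact Commute.one_right u
        · exact hzc u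
        · exact hz2u
        · exact Commute.mul_right (hzc u) hz2u
      rcases (hWu a).1 ha with rfl | rfl | rfl | rfl
      · simp
      · exact cb.1
      · exact cb.2
      · exact (Commute.mul_left cb.1 cb.2).eq⟩
    refine ⟨V, hV, fun b hb => ?_, (Relation.ReflTransGen.single r1).tail r2,
      (Relation.ReflTransGen.single ⟨r2.2.1, r2.1, adj_symm r2.2.2⟩).tail ⟨r1.2.1, r1.1, adj_symm r1.2.2⟩⟩
    rcases (hVm b).1 hb with rfl | rfl | rfl | rfl
    · exact E.one_mem
    · exact hzE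
    · exact hz2E
    · exact E.mul_mem hzE hz2E
  intro U V hU hV
  obtain ⟨U', hU', hUE, h1, -⟩ := main U hU
  obtain ⟨V', hV', hVE, -, h2⟩ := main V hV
  exact (h1.tail ⟨hU', hV', fun a ha b hb => hEc a (hUE ha) b (hVE hb)⟩).trans h2

end Cfsg.Agent.S0502
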