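import Cfsg.Statements.S2098
import Cfsg.Agent.Lib.Multiplier.O8Cover
import Cfsg.Agent.Lib.Multiplier.PairsFour

set_option autoImplicit false
open Cfsg

namespace Cfsg.Agent.S2098

open Cfsg.Agent.Multiplier Cfsg.Agent.Triality Cfsg.Agent.Orth Cfsg.Agent.AutPOmega Matrix

universe u

/-- Transport along an isomorphism, which also moves the universe. -/
theorem main {G : Type u} [Group G] (e : O8.G0 ≃* G) :
    Cfsg.HasSchurMultiplier G (Multiplicative (ZMod 2 × ZMod 2)) := by
  have hd := O8.check_def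
  simp only [Bool.and_eq_true, List.all_eq_true, List.mem_range, beq_iff_eq] at hd
  have hrel : ∀ j, j = 2 ∨ j = 3 → O8.pc 0 * O8.pc j = O8.pc j * O8.pc 0 := by
    intro j hj
    rcases hj with rfl | rfl
    · rw [O8.pc_rel 2 0 (by omega) (by omega), hd.1.1.2]; simp [TailCert.pw]
    · rw [O8.pc_rel 3 0 (by omega) (by omega), hd.1.2]; simp [TailCert.pw]
  have hsq : O8.pc 0 * O8.pc 0 = 1 := by
    rw [O8.pc_rel 0 0 (by omega) le_rfl, show TailCert.rep 12 O8Data.rhs 0 0 = [] by decide +kernel]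
    rfl
  refine hasSchurMultiplier_four_of_pairs (x := e (O8.pc 0)) (y := e (O8.pc 2)) (z := e (O8.pc 3))
    (by rw [← map_mul, hsq, map_one]) (by rw [← map_mul, hrel 2 (.inl rfl), map_mul])
    (by rw [← map_mul, hrel 3 (.inr rfl), map_mul]) ?_ fun Γ _ _ σ hσ hp a b c ha hb hc => ?_
  · obtain ⟨C, i1, i2, τ, ⟨hs, hc, hd⟩, ⟨k⟩⟩ := O8.exists_four_cover
    let d : ULift.{u} C ≃* C := MulEquiv.ulift
    have hiff : ∀ x : ULift.{u} C, x ∈ (e.toMonoidHom.comp (τ.comp d.toMonoidHom)).ker ↔ d x ∈ τ.ker :=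
      fun x => by
        rw [MonoidHom.mem_ker, MonoidHom.mem_ker]
        exact ⟨fun h => e.injective (h.trans e.map_one.symm), fun h => by
          show e (τ (d x)) = 1
          rw [h, map_one]⟩
    refine ⟨ULift.{u} C, inferInstance, inferInstance, e.toMonoidHom.comp (τ.comp d.toMonoidHom),
      ⟨e.surjective.comp (hs.comp d.surjective), ?_, ?_⟩, ⟨?_⟩⟩
    · intro x hx
      rw [Subgroup.mem_center_iff]
      exact fun g => d.injective (by
        rw [map_mul, map_mul]
        exact Subgroup.mem_center_iff.1 (hc ((hiff x).1 hx)) (d g))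
    · intro x hx
      have h := Subgroup.mem_map_of_mem d.symm.toMonoidHom (hd ((hiff x).1 hx))
      simp only [MulEquiv.coe_toMonoidHom, MulEquiv.symm_apply_apply] at h
      rw [_root_.commutator_def, Subgroup.map_commutator, Subgroup.map_top_of_surjective _ d.symm.surjective] at h
      exact h
    · exact MulEquiv.trans
        { d.toEquiv.subtypeEquiv hiff with map_mul' := fun x y => Subtype.ext (map_mul d (x : ULift.{u} C) y) } k
  · have hker : (e.symm.toMonoidHom.comp σ).ker = σ.ker := by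
      ext x
      rw [MonoidHom.mem_ker, MonoidHom.mem_ker]
      exact ⟨fun h => e.symm.injective (h.trans e.symm.map_one.symm), fun h => by
        show e.symm (σ x) = 1
        rw [h, map_one]⟩
    refine O8.not_commute_lifts (e.symm.toMonoidHom.comp σ)
      ⟨e.symm.surjective.comp hσ.1, ?_, ?_⟩ ?_ a b c ?_ ?_ ?_
    · rw [hker]; exact hσ.2.1
    · rw [hker]; exact hσ.2.2
    · rw [hker]; exact hp
    · show e.symm (σ a) = O8.pc 0
      rw [ha, e.symm_apply_apply]
    · show e.symm (σ b) = O8.pc 2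
      rw [hb, e.symm_apply_apply]
    · show e.symm (σ c) = O8.pc 3
      rw [hc, e.symm_apply_apply]

section field

variable {F : Type*} [Field F] [Fintype F]

/-- A field isomorphism on matrices. -/
noncomputable def glEquiv (f : ZMod 2 ≃+* F) : GL IJ (ZMod 2) ≃* GL IJ F :=
  Units.mapEquiv f.mapMatrix.toMulEquiv

omit [Fintype F] in
theorem map_isometryGroup (f : ZMod 2 ≃+* F) :
    (Cfsg.isometryGroup (ZMod 2) ⇑(Q4 (ZMod 2))).map (glEquiv f).toMonoidHom =
      Cfsg.isometryGroup F (Cfsg.quadFormPlus 4 F) := by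
  have hQ : ∀ v : IJ → ZMod 2, f (Cfsg.quadFormPlus 4 (ZMod 2) v) = Cfsg.quadFormPlus 4 F (fun i => f (v i)) := by
    intro v; simp [Cfsg.quadFormPlus]
  have hmv : ∀ (g : GL IJ (ZMod 2)) (v : IJ → ZMod 2),
      ((glEquiv f g : GL IJ F) : Matrix IJ IJ F) *ᵥ (fun i => f (v i)) =
        fun i => f (((g : Matrix IJ IJ (ZMod 2)) *ᵥ v) i) := by
    intro g v
    funext i
    simp [glEquiv, Matrix.mulVec, dotProduct, map_sum]
  ext h
  rw [Subgroup.mem_map]
  constructor
  · rintro ⟨g, hg, rfl⟩ u w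
    obtain ⟨v, rfl⟩ : ∃ v : IJ → ZMod 2, u = fun i => f (v i) := ⟨fun i => f.symm (u i), by simp⟩
    show Cfsg.quadFormPlus 4 F (((glEquiv f g : GL IJ F) : Matrix IJ IJ F) *ᵥ fun i => f (v i)) =
      Cfsg.quadFormPlus 4 F (fun i => f (v i))
    rw [hmv, ← hQ, ← hQ]
    exact congrArg f (hg v v)
  · intro hh
    refine ⟨(glEquiv f).symm h, fun v w => f.injective ?_, (glEquiv f).apply_symm_apply h⟩
    show f (Cfsg.quadFormPlus 4 (ZMod 2) ((((glEquiv f).symm h : GL IJ (ZMod 2)) : Matrix IJ IJ (ZMod 2)) *ᵥ v)) =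
      f (Cfsg.quadFormPlus 4 (ZMod 2) v)
    rw [hQ, hQ, ← hmv, MulEquiv.apply_symm_apply]
    exact hh _ 0

omit [Fintype F] in
/-- O8+(2) over any field with two elements. -/
theorem exists_equiv (f : ZMod 2 ≃+* F) :
    Nonempty (O8.G0 ≃* Cfsg.POmega F (Cfsg.quadFormPlus 4 F)) := by
  let e₀ : Cfsg.isometryGroup (ZMod 2) ⇑(Q4 (ZMod 2)) ≃* Cfsg.isometryGroup F (Cfsg.quadFormPlus 4 F) :=
    ((Cfsg.isometryGroup (ZMod 2) ⇑(Q4 (ZMod 2))).equivMapOfInjective (glEquiv f).toMonoidHom
      (glEquiv f).injective).trans (MulEquiv.subgroupCongr (map_isometryGroup f))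
  have hmap : (Cfsg.Omega (ZMod 2) ⇑(Q4 (ZMod 2))).map e₀.toMonoidHom =
      Cfsg.Omega F (Cfsg.quadFormPlus 4 F) := by
    show (_root_.commutator _).map e₀.toMonoidHom = _root_.commutator _
    rw [_root_.commutator_def, _root_.commutator_def, Subgroup.map_commutator,
      Subgroup.map_top_of_surjective _ e₀.surjective]
  let e₁ : O8.G0 ≃* ↥(Cfsg.Omega F (Cfsg.quadFormPlus 4 F)) :=
    ((Cfsg.Omega (ZMod 2) ⇑(Q4 (ZMod 2))).equivMapOfInjective e₀.toMonoidHom e₀.injective).trans
      (MulEquiv.subgroupCongr hmap)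
  have hc0 : Subgroup.center O8.G0 = ⊥ :=
    center_omega_eq_bot base4.nd (by simp) base4.hE (.inr (by decide))
  have hc : Subgroup.center ↥(Cfsg.Omega F (Cfsg.quadFormPlus 4 F)) = ⊥ := by
    rw [Subgroup.eq_bot_iff_forall]
    intro x hx
    have h1 : e₁.symm x ∈ Subgroup.center O8.G0 := Subgroup.mem_center_iff.2 fun g => e₁.injective (by
      rw [map_mul, map_mul, e₁.apply_symm_apply]
      exact Subgroup.mem_center_iff.1 hx _)
    rw [hc0, Subgroup.mem_bot] at h1
    simpa using congrArg e₁ h1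
  exact ⟨e₁.trans (MulEquiv.ofBijective (QuotientGroup.mk' _)
    ⟨(MonoidHom.ker_eq_bot_iff _).1 (by rw [QuotientGroup.ker_mk']; exact hc),
      QuotientGroup.mk'_surjective _⟩)⟩

end field

/-- Exceptional Schur multiplier: over the field with 2 elements, PΩ⁺₈ (for the form Σ xᵢyᵢ) has Schur multiplier a four-group, the product of two cyclic groups of order 2 (here the Schur multiplier is described through stem extensions, as in the definitions). -/
theorem result {F : Type*} [Field F] [Fintype F] (hF : Fintype.card F = 2) : Cfsg.HasSchurMultiplier (Cfsg.POmega F (Cfsg.quadFormPlus 4 F)) (Multiplicative (ZMod 2 × ZMod 2)) := by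
  have : CharP F 2 := by
    obtain ⟨p, hc⟩ := CharP.exists F
    obtain ⟨n, hp, hn⟩ := FiniteField.card F p
    rw [hF] at hn
    have : p = 2 := (Nat.prime_dvd_prime_iff_eq hp Nat.prime_two).1 (hn ▸ dvd_pow_self p n.ne_zero)
    exact this ▸ hc
  obtain ⟨e⟩ := exists_equiv (ZMod.ringEquiv F hF)
  exact main e

end Cfsg.Agent.S2098
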