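import Cfsg.Statements.S5515
import Cfsg.Agent.EqLemmas
import Cfsg.Agent.Lib.Triality.Out
import Cfsg.Agent.Lib.Orth.Simple
import Cfsg.Agent.Lib.Orth.Models
import Cfsg.Agent.Lib.Components.GenFitting

set_option autoImplicit false
open Cfsg

namespace Cfsg.Agent.S5515

theorem s3_facts : ∃ s : Equiv.Perm (Fin 3), s ^ 3 = 1 ∧ s ≠ 1 ∧
    ∀ a : Equiv.Perm (Fin 3), a * s * a⁻¹ = s ∨ a * s * a⁻¹ = s ^ 2 :=
  ⟨finRotate 3, by decide +kernel⟩

theorem s4_fix : ∀ g : Equiv.Perm (Fin 4), g ^ 3 = 1 → g ≠ 1 → (∃ i, g i = i) ∧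
    ∀ h : Equiv.Perm (Fin 4), (h * g * h⁻¹ = g ∨ h * g * h⁻¹ = g ^ 2) → ∀ i, g i = i → h i = i := by
  decide +kernel

theorem s4_stab_card : ∀ i : Fin 4, Fintype.card {a : Equiv.Perm (Fin 4) // a i = i} = 6 := by
  decide +kernel

theorem eq_stabilizer (A : Subgroup (Equiv.Perm (Fin 4))) (e : A ≃* Equiv.Perm (Fin 3)) :
    ∃ i : Fin 4, A = MulAction.stabilizer (Equiv.Perm (Fin 4)) i := by
  obtain ⟨s, hs3, hs1, hs⟩ := s3_facts
  set g : A := e.symm s with hg
  have hg3 : (g : Equiv.Perm (Fin 4)) ^ 3 = 1 := by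
    rw [← SubgroupClass.coe_pow, hg, ← map_pow, hs3, map_one, Subgroup.coe_one]
  have hg1 : (g : Equiv.Perm (Fin 4)) ≠ 1 := fun h =>
    hs1 (e.symm.map_eq_one_iff.1 (Subtype.ext h))
  obtain ⟨⟨i, hi⟩, hfix⟩ := s4_fix _ hg3 hg1
  refine ⟨i, Subgroup.eq_of_le_of_card_ge (fun h hh => ?_) ?_⟩
  · have key : ∀ a : A, a * g * a⁻¹ = g ∨ a * g * a⁻¹ = g ^ 2 := fun a => by
      obtain ⟨a, rfl⟩ := e.symm.surjective a
      rw [hg, ← map_inv, ← map_mul, ← map_mul, ← map_pow, e.symm.injective.eq_iff,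
        e.symm.injective.eq_iff]
      exact hs a
    refine hfix h ?_ i hi
    rcases key ⟨h, hh⟩ with e1 | e1
    · exact Or.inl (congrArg Subtype.val e1)
    · exact Or.inr (congrArg Subtype.val e1)
  · have h1 : Nat.card (MulAction.stabilizer (Equiv.Perm (Fin 4)) i) =
        Nat.card {a : Equiv.Perm (Fin 4) // a i = i} :=
      Nat.card_congr (Equiv.subtypeEquivRight fun _ => Iff.rfl)
    rw [h1, Nat.card_eq_fintype_card, s4_stab_card, Nat.card_congr e.toEquiv, Nat.card_perm, Nat.card_fin]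
    rfl

theorem conj_of_s3 {O : Type*} [Group O] (e4 : O ≃* Equiv.Perm (Fin 4)) (H H' : Subgroup O)
    (e : H ≃* Equiv.Perm (Fin 3)) (e' : H' ≃* Equiv.Perm (Fin 3)) :
    ∃ x : O, ∀ a : O, a ∈ H ↔ x * a * x⁻¹ ∈ H' := by
  obtain ⟨i, hi⟩ := eq_stabilizer _ ((MulEquiv.subgroupMap e4 H).symm.trans e)
  obtain ⟨j, hj⟩ := eq_stabilizer _ ((MulEquiv.subgroupMap e4 H').symm.trans e')
  have hm : ∀ (K : Subgroup O) (k : Fin 4),
      K.map (e4 : O →* Equiv.Perm (Fin 4)) = MulAction.stabilizer (Equiv.Perm (Fin 4)) k →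
      ∀ a : O, a ∈ K ↔ e4 a k = k := fun K k hk a => by
    rw [← Equiv.Perm.smul_def, ← MulAction.mem_stabilizer_iff, ← hk]
    exact ⟨fun h => ⟨a, h, rfl⟩, fun ⟨b, hb, hba⟩ => (e4.injective hba) ▸ hb⟩
  obtain ⟨x, hx⟩ := e4.surjective (Equiv.swap i j)
  refine ⟨x, fun a => ?_⟩
  rw [hm H i hi, hm H' j hj, map_mul, map_mul, map_inv, hx]
  simp [Equiv.Perm.mul_apply, Equiv.swap_apply_right, Equiv.apply_eq_iff_eq_symm_apply]

theorem not_comm {K : Type*} [Group K] [IsSimpleGroup K] (e4 : Cfsg.Out K ≃* Equiv.Perm (Fin 4)) :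
    ¬ ∀ a b : K, a * b = b * a := by
  intro hab
  haveI : IsMulCommutative K := ⟨⟨hab⟩⟩
  obtain ⟨c, hc⟩ := exists_ne (1 : K)
  have htop : Subgroup.zpowers c = ⊤ := by
    haveI : (Subgroup.zpowers c).Normal := ⟨fun n hn a => by rwa [hab a n, mul_inv_cancel_right]⟩
    exact (Subgroup.Normal.eq_bot_or_eq_top inferInstance).resolve_left (Subgroup.zpowers_ne_bot.2 hc)
  have haut : ∀ f g : MulAut K, f * g = g * f := by
    intro f g
    obtain ⟨m, hm⟩ := Subgroup.mem_zpowers_iff.1 (htop ▸ Subgroup.mem_top (f c))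
    obtain ⟨n, hn⟩ := Subgroup.mem_zpowers_iff.1 (htop ▸ Subgroup.mem_top (g c))
    refine MulEquiv.ext fun y => ?_
    obtain ⟨k, rfl⟩ := Subgroup.mem_zpowers_iff.1 (htop ▸ Subgroup.mem_top y)
    simp only [MulAut.mul_apply, map_zpow]
    rw [← hm, ← hn, map_zpow, map_zpow, ← hm, ← hn, ← zpow_mul, ← zpow_mul, ← zpow_mul, ← zpow_mul,
      mul_left_comm]
  obtain ⟨u, hu⟩ := e4.surjective (Equiv.swap 0 1)
  obtain ⟨v, hv⟩ := e4.surjective (Equiv.swap 1 2)
  induction u using QuotientGroup.induction_on with | _ u =>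
  induction v using QuotientGroup.induction_on with | _ v =>
  have h : Equiv.swap (0 : Fin 4) 1 * Equiv.swap 1 2 = Equiv.swap 1 2 * Equiv.swap 0 1 := by
    rw [← hu, ← hv, ← map_mul, ← map_mul, ← QuotientGroup.mk_mul, ← QuotientGroup.mk_mul, haut]
  exact absurd h (by decide)

theorem embed {G K : Type*} [Group G] [Group K] (L : Subgroup G) [L.Normal]
    (hC : Subgroup.centralizer (L : Set G) ≤ L) (e : L ≃* K) (hZ : Subgroup.center K = ⊥)
    {Q : Type*} [Group Q] (q : G ⧸ L ≃* Q) :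
    ∃ H : Subgroup (Cfsg.Out K), Nonempty (H ≃* Q) ∧
      Nonempty (G ≃* ↥(H.comap (QuotientGroup.mk' (Cfsg.Inn K)))) := by
  set φ : G →* MulAut K := (MulAut.congr e).toMonoidHom.comp MulAut.conjNormal with hφ
  have hap : ∀ g k, φ g k = e (MulAut.conjNormal g (e.symm k)) := fun g k => rfl
  have hin : ∀ l : L, φ (l : G) = MulAut.conj (e l) := fun l => by
    refine MulEquiv.ext fun k => ?_
    rw [hap, MulAut.conj_apply]
    conv_rhs => rw [← e.apply_symm_apply k, ← map_inv, ← map_mul, ← map_mul]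
    exact congrArg e (Subtype.ext (by simp [MulAut.conjNormal_apply]))
  have hinj : Function.Injective φ := by
    refine (injective_iff_map_eq_one φ).2 fun g hg => ?_
    have hgC : g ∈ Subgroup.centralizer (L : Set G) := Subgroup.mem_centralizer_iff.2 fun l hl => by
      have h1 := congrArg (fun f : MulAut K => e.symm (f (e ⟨l, hl⟩))) hg
      simp only [hap, MulEquiv.symm_apply_apply, MulAut.one_apply] at h1
      have h2 := congrArg Subtype.val h1
      rw [MulAut.conjNormal_apply] at h2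
      exact (mul_inv_eq_iff_eq_mul.1 h2).symm
    have h3 : e ⟨g, hC hgC⟩ ∈ Subgroup.center K := by
      rw [Subgroup.mem_center_iff]
      intro k
      obtain ⟨l, rfl⟩ := e.surjective k
      rw [← map_mul, ← map_mul]
      exact congrArg e (Subtype.ext (Subgroup.mem_centralizer_iff.1 hgC l l.2))
    rw [hZ, Subgroup.mem_bot, e.map_eq_one_iff] at h3
    exact congrArg Subtype.val h3
  set ψ : G →* Cfsg.Out K := (QuotientGroup.mk' (Cfsg.Inn K)).comp φ with hψ
  have hker : ψ.ker = L := by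
    refine le_antisymm (fun g hg => ?_) (fun g hg => ?_)
    · obtain ⟨k, hk⟩ := (QuotientGroup.eq_one_iff (φ g)).1 hg
      obtain ⟨l, rfl⟩ := e.surjective k
      have : g = (l : G) := hinj (hk.symm.trans (hin l).symm)
      exact this ▸ l.2
    · exact (QuotientGroup.eq_one_iff (φ g)).2 ⟨e ⟨g, hg⟩, (hin ⟨g, hg⟩).symm⟩
  refine ⟨ψ.range, ⟨(QuotientGroup.quotientKerEquivRange ψ).symm.trans
    ((QuotientGroup.quotientMulEquivOfEq hker).trans q)⟩, ⟨(MonoidHom.ofInjective hinj).trans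
    (MulEquiv.subgroupCongr (le_antisymm ?_ fun a ha => ?_))⟩⟩
  · rintro _ ⟨g, rfl⟩
    exact ⟨g, rfl⟩
  · obtain ⟨g, hg⟩ := ha
    obtain ⟨k, hk⟩ := QuotientGroup.eq.1 hg
    obtain ⟨l, rfl⟩ := e.surjective k
    exact ⟨g * l, by rw [map_mul, hin, hk, mul_inv_cancel_left]⟩

/-- Let G and G′ be finite groups whose generalized Fitting subgroups are isomorphic to PΩ⁺(8, 3) (the commutator subgroup of the isometry group of the hyperbolic quadratic form in dimension 8 over the field with three elements, modulo its centre) with quotients isomorphic to the symmetric group of degree 3. Then G and G′ are isomorphic. -/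
theorem result {G G' : Type*} [Group G] [Finite G] [Group G'] [Finite G'] (hF : Nonempty (↥(Cfsg.generalizedFittingSubgroup G) ≃* Cfsg.POmega (ZMod 3) (Cfsg.quadFormPlus 4 (ZMod 3)))) (hF' : Nonempty (↥(Cfsg.generalizedFittingSubgroup G') ≃* Cfsg.POmega (ZMod 3) (Cfsg.quadFormPlus 4 (ZMod 3)))) [hn : (Cfsg.generalizedFittingSubgroup G).Normal] [hn' : (Cfsg.generalizedFittingSubgroup G').Normal] (hq : Nonempty (G ⧸ Cfsg.generalizedFittingSubgroup G ≃* Equiv.Perm (Fin 3))) (hq' : Nonempty (G' ⧸ Cfsg.generalizedFittingSubgroup G' ≃* Equiv.Perm (Fin 3))) : Nonempty (G ≃* G') := by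
  obtain ⟨eF⟩ := hF
  obtain ⟨eF'⟩ := hF'
  obtain ⟨q⟩ := hq
  obtain ⟨q'⟩ := hq'
  haveI : Fact (Nat.Prime 3) := ⟨by norm_num⟩
  obtain ⟨eO⟩ := Triality.out_eight_odd (F := ZMod 3) (p := 3) (f := 1) le_rfl (by simp) (by norm_num)
  have e4 : Cfsg.Out (Cfsg.POmega (ZMod 3) (Cfsg.quadFormPlus 4 (ZMod 3))) ≃* Equiv.Perm (Fin 4) :=
    eO.trans MulEquiv.prodUnique
  haveI : IsSimpleGroup (Cfsg.POmega (ZMod 3) (Cfsg.quadFormPlus 4 (ZMod 3))) :=
    Orth.isSimpleGroup_pomega (Q := Orth.quadPlus 4 (ZMod 3)) (Orth.quadPlus_nondeg 4) (by simp)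
  have hZ : Subgroup.center (Cfsg.POmega (ZMod 3) (Cfsg.quadFormPlus 4 (ZMod 3))) = ⊥ :=
    (Subgroup.Normal.eq_bot_or_eq_top inferInstance).resolve_right fun h => not_comm e4 fun a b =>
      ((Subgroup.mem_center_iff.1 (h ▸ Subgroup.mem_top b)) a)
  obtain ⟨H, ⟨f⟩, ⟨E⟩⟩ := embed _ Components.centralizer_genFitting_le eF hZ q
  obtain ⟨H', ⟨f'⟩, ⟨E'⟩⟩ := embed _ Components.centralizer_genFitting_le eF' hZ q'
  obtain ⟨x, hx⟩ := conj_of_s3 e4 H H' f f'
  induction x using QuotientGroup.induction_on with | _ x =>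
  refine ⟨E.trans (((MulAut.conj x).subgroupMap _).trans ((MulEquiv.subgroupCongr ?_).trans E'.symm))⟩
  ext a
  rw [show ((MulAut.conj x : _ ≃* _) : _ →* _) = (MulAut.conj x).toMonoidHom from rfl, Subgroup.mem_map_equiv,
    MulAut.conj_symm_apply]
  simp only [Subgroup.mem_comap, QuotientGroup.mk'_apply, hx, QuotientGroup.mk_mul, QuotientGroup.mk_inv,
    mul_assoc, mul_inv_cancel_left, mul_inv_cancel, mul_one]

end Cfsg.Agent.S5515
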