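import Cfsg.Statements.S1699
import Cfsg.Agent.EqLemmas
import Cfsg.Agent.S1692
import Cfsg.Agent.Lib.CosetEnum.BaseON
import Cfsg.Agent.Lib.CosetEnum.BoundON
import Cfsg.Agent.Lib.CosetEnum.KillON

set_option autoImplicit false
set_option Elab.async false
open Cfsg

namespace Cfsg.Agent.S1699

open Cfsg.Agent.CosetEnum in
theorem xpow0_t0 : Nat.beq (on122760.trace (Setup.wpow [0, 3, 5, 4, 6] 11)) xpow0_mid0 = true := by decide +kernel

open Cfsg.Agent.CosetEnum in
theorem xpow0_s1 : Nat.beq (Data.traceFrom on122760 xpow0_mid0 (Setup.wpow [0, 3, 5, 4, 6] 10)) xpow0_mid1 = true := by decide +kernel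

open Cfsg.Agent.CosetEnum in
theorem xpow0_t1 : Nat.beq (on122760.trace (Setup.wpow [0, 3, 5, 4, 6] 21)) xpow0_mid1 = true := by
  have e : Setup.wpow [0, 3, 5, 4, 6] 21 = Setup.wpow [0, 3, 5, 4, 6] 10 ++ Setup.wpow [0, 3, 5, 4, 6] 11 := by decide +kernel
  rw [e]
  exact Data.trace_of_mid xpow0_t0 xpow0_s1

open Cfsg.Agent.CosetEnum in
theorem xpow0_last : Nat.beq (Data.traceFrom on122760 xpow0_mid1 (Setup.wpow [0, 3, 5, 4, 6] 10)) on122760.idv = true := by decide +kernel

open Cfsg.Agent.CosetEnum in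
theorem xpow0 : on122760.closed (Setup.wpow [0, 3, 5, 4, 6] 31) = true := by
  have e : Setup.wpow [0, 3, 5, 4, 6] 31 = Setup.wpow [0, 3, 5, 4, 6] 10 ++ Setup.wpow [0, 3, 5, 4, 6] 21 := by decide +kernel
  rw [e]
  exact Data.closed_of_mid (by decide +kernel) xpow0_t1 xpow0_last

open Cfsg.Agent.CosetEnum in
theorem xpow1_t0 : Nat.beq (on122760.trace (Setup.wpow [1, 6, 5, 3, 4] 11)) xpow1_mid0 = true := by decide +kernel

open Cfsg.Agent.CosetEnum in
theorem xpow1_s1 : Nat.beq (Data.traceFrom on122760 xpow1_mid0 (Setup.wpow [1, 6, 5, 3, 4] 10)) xpow1_mid1 = true := by decide +kernel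

open Cfsg.Agent.CosetEnum in
theorem xpow1_t1 : Nat.beq (on122760.trace (Setup.wpow [1, 6, 5, 3, 4] 21)) xpow1_mid1 = true := by
  have e : Setup.wpow [1, 6, 5, 3, 4] 21 = Setup.wpow [1, 6, 5, 3, 4] 10 ++ Setup.wpow [1, 6, 5, 3, 4] 11 := by decide +kernel
  rw [e]
  exact Data.trace_of_mid xpow1_t0 xpow1_s1

open Cfsg.Agent.CosetEnum in
theorem xpow1_last : Nat.beq (Data.traceFrom on122760 xpow1_mid1 (Setup.wpow [1, 6, 5, 3, 4] 10)) on122760.idv = true := by decide +kernel

open Cfsg.Agent.CosetEnum in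
theorem xpow1 : on122760.closed (Setup.wpow [1, 6, 5, 3, 4] 31) = true := by
  have e : Setup.wpow [1, 6, 5, 3, 4] 31 = Setup.wpow [1, 6, 5, 3, 4] 10 ++ Setup.wpow [1, 6, 5, 3, 4] 21 := by decide +kernel
  rw [e]
  exact Data.closed_of_mid (by decide +kernel) xpow1_t1 xpow1_last

open Cfsg.Agent.CosetEnum in
theorem axpow0_t0 : Nat.beq (on122760.trace (Setup.wpow ([0] ++ [0, 3, 5, 4, 6]) 10)) axpow0_mid0 = true := by decide +kernel

open Cfsg.Agent.CosetEnum in
theorem axpow0_last : Nat.beq (Data.traceFrom on122760 axpow0_mid0 (Setup.wpow ([0] ++ [0, 3, 5, 4, 6]) 9)) on122760.idv = true := by decide +kernel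

open Cfsg.Agent.CosetEnum in
theorem axpow0 : on122760.closed (Setup.wpow ([0] ++ [0, 3, 5, 4, 6]) 19) = true := by
  have e : Setup.wpow ([0] ++ [0, 3, 5, 4, 6]) 19 = Setup.wpow ([0] ++ [0, 3, 5, 4, 6]) 9 ++ Setup.wpow ([0] ++ [0, 3, 5, 4, 6]) 10 := by decide +kernel
  rw [e]
  exact Data.closed_of_mid (by decide +kernel) axpow0_t0 axpow0_last

open Cfsg.Agent.CosetEnum in
theorem axpow1_t0 : Nat.beq (on122760.trace (Setup.wpow ([1] ++ [1, 6, 5, 3, 4]) 10)) axpow1_mid0 = true := by decide +kernel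

open Cfsg.Agent.CosetEnum in
theorem axpow1_last : Nat.beq (Data.traceFrom on122760 axpow1_mid0 (Setup.wpow ([1] ++ [1, 6, 5, 3, 4]) 9)) on122760.idv = true := by decide +kernel

open Cfsg.Agent.CosetEnum in
theorem axpow1 : on122760.closed (Setup.wpow ([1] ++ [1, 6, 5, 3, 4]) 19) = true := by
  have e : Setup.wpow ([1] ++ [1, 6, 5, 3, 4]) 19 = Setup.wpow ([1] ++ [1, 6, 5, 3, 4]) 9 ++ Setup.wpow ([1] ++ [1, 6, 5, 3, 4]) 10 := by decide +kernel
  rw [e]
  exact Data.closed_of_mid (by decide +kernel) axpow1_t0 axpow1_last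

open Cfsg.Agent.CosetEnum in
theorem axpow2_t0 : Nat.beq (on122760.trace (Setup.wpow ([2] ++ [1, 6, 5, 3, 4]) 10)) axpow2_mid0 = true := by decide +kernel

open Cfsg.Agent.CosetEnum in
theorem axpow2_last : Nat.beq (Data.traceFrom on122760 axpow2_mid0 (Setup.wpow ([2] ++ [1, 6, 5, 3, 4]) 9)) on122760.idv = true := by decide +kernel

open Cfsg.Agent.CosetEnum in
theorem axpow2 : on122760.closed (Setup.wpow ([2] ++ [1, 6, 5, 3, 4]) 19) = true := by
  have e : Setup.wpow ([2] ++ [1, 6, 5, 3, 4]) 19 = Setup.wpow ([2] ++ [1, 6, 5, 3, 4]) 9 ++ Setup.wpow ([2] ++ [1, 6, 5, 3, 4]) 10 := by decide +kernel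
  rw [e]
  exact Data.closed_of_mid (by decide +kernel) axpow2_t0 axpow2_last

open Cfsg.Agent.CosetEnum in
theorem axpow5_t0 : Nat.beq (on122760.trace (Setup.wpow ([5] ++ [1, 6, 5, 3, 4]) 10)) axpow5_mid0 = true := by decide +kernel

open Cfsg.Agent.CosetEnum in
theorem axpow5_last : Nat.beq (Data.traceFrom on122760 axpow5_mid0 (Setup.wpow ([5] ++ [1, 6, 5, 3, 4]) 9)) on122760.idv = true := by decide +kernel

open Cfsg.Agent.CosetEnum in
theorem axpow5 : on122760.closed (Setup.wpow ([5] ++ [1, 6, 5, 3, 4]) 19) = true := by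
  have e : Setup.wpow ([5] ++ [1, 6, 5, 3, 4]) 19 = Setup.wpow ([5] ++ [1, 6, 5, 3, 4]) 9 ++ Setup.wpow ([5] ++ [1, 6, 5, 3, 4]) 10 := by decide +kernel
  rw [e]
  exact Data.closed_of_mid (by decide +kernel) axpow5_t0 axpow5_last

/-- The kill list. -/
def kill : List (List ℕ × ℕ × ℕ) := [([0, 3, 5, 4, 6], 19, 4), ([1, 6, 5, 3, 4], 19, 4), ([1, 6, 5, 3, 4], 19, 2), ([2, 3], 0, 2), ([3, 4], 0, 3), ([1, 6, 5, 3, 4], 19, 2), ([5, 6], 0, 5), ([6, 7], 0, 6)]

open Cfsg.Agent.CosetEnum in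
theorem kill0 : Setup.killOneOK on122760 31 0 ([0, 3, 5, 4, 6], 19, 4) = true :=
  Setup.killOneOK_of (by decide +kernel) rfl xpow0 axpow0 (by decide +kernel) (by decide)

open Cfsg.Agent.CosetEnum in
theorem kill1 : Setup.killOneOK on122760 31 1 ([1, 6, 5, 3, 4], 19, 4) = true :=
  Setup.killOneOK_of (by decide +kernel) rfl xpow1 axpow1 (by decide +kernel) (by decide)

open Cfsg.Agent.CosetEnum in
theorem kill2 : Setup.killOneOK on122760 31 2 ([1, 6, 5, 3, 4], 19, 2) = true :=
  Setup.killOneOK_of (by decide +kernel) rfl xpow1 axpow2 (by decide +kernel) (by decide)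

open Cfsg.Agent.CosetEnum in
theorem kill3 : Setup.killOneOK on122760 31 3 ([2, 3], 0, 2) = true := by decide +kernel

open Cfsg.Agent.CosetEnum in
theorem kill4 : Setup.killOneOK on122760 31 4 ([3, 4], 0, 3) = true := by decide +kernel

open Cfsg.Agent.CosetEnum in
theorem kill5 : Setup.killOneOK on122760 31 5 ([1, 6, 5, 3, 4], 19, 2) = true :=
  Setup.killOneOK_of (by decide +kernel) rfl xpow1 axpow5 (by decide +kernel) (by decide)

open Cfsg.Agent.CosetEnum in
theorem kill6 : Setup.killOneOK on122760 31 6 ([5, 6], 0, 5) = true := by decide +kernel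

open Cfsg.Agent.CosetEnum in
theorem kill7 : Setup.killOneOK on122760 31 7 ([6, 7], 0, 6) = true := by decide +kernel

open Cfsg.Agent.CosetEnum in
theorem kill_ok : Setup.killOK on122760 31 kill = true := by
  refine Setup.killOK_of rfl fun a ha => ?_
  have ha' : a < 8 := ha
  match a, ha' with
  | 0, _ => exact kill0
  | 1, _ => exact kill1
  | 2, _ => exact kill2
  | 3, _ => exact kill3
  | 4, _ => exact kill4
  | 5, _ => exact kill5
  | 6, _ => exact kill6
  | 7, _ => exact kill7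
  | a + 8, h => exact absurd h (by omega)

open Cfsg.Agent.CosetEnum in
theorem main : IsSimpleGroup onSetup.G ∧ Nat.card onSetup.G = 460815505920 := by
  have T := Cfsg.Agent.S1692.table
  have hch := on122760_chain_check
  simp only [Bool.and_eq_true] at hch
  have hub := Setup.card_top (Setup.Table.index T) (by decide +kernel)
    (Setup.bound_closure onSetup_gens on_letters on_bound0 (hs := Cfsg.Agent.S1692.hgens) (by decide +kernel))
  rw [show on122760.n * 3753792 = 460815505920 by decide +kernel] at hub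
  obtain ⟨hcard, hinj⟩ := Setup.card_eq_of_bounds T.gens T.letters T.perm T.rels on122760_chain hch.1 hub
    (beq_iff.mp hch.2)
  obtain ⟨ext, hsrc, hext⟩ := T.src
  refine ⟨Setup.isSimpleGroup_of_cert T.gens T.letters T.check T.rels T.perm T.subs hsrc hext hinj (by decide +kernel)
    [on122760_orb0, on122760_orb1, on122760_orb2, on122760_orb3] ?_ (by decide +kernel) 31 1 (by norm_num)
    (by decide +kernel) ?_ _ kill_ok, hcard⟩
  · intro O hO
    have h0 : ∀ O : OrbitData, (on122760.reachOK O && on122760.invariantOK O) = true →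
        on122760.reachOK O = true ∧ on122760.invariantOK O = true := fun O h => by simpa using h
    simp only [List.mem_cons, List.not_mem_nil, or_false] at hO
    rcases hO with rfl | rfl | rfl | rfl
    · exact ⟨(h0 _ on122760_orb0_check).1, (h0 _ on122760_orb0_check).2, by decide +kernel⟩
    · exact ⟨(h0 _ on122760_orb1_check).1, (h0 _ on122760_orb1_check).2, by decide +kernel⟩
    · exact ⟨(h0 _ on122760_orb2_check).1, (h0 _ on122760_orb2_check).2, by decide +kernel⟩
    · exact ⟨(h0 _ on122760_orb3_check).1, (h0 _ on122760_orb3_check).2, by decide +kernel⟩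
  · rw [hcard]; norm_num

/-- The presented O'Nan group is simple of the expected order (that is, it is a simple group of the order of the O'Nan group). -/
theorem result : Cfsg.IsON Cfsg.Spor.ON := by
  exact Cfsg.Agent.S1699.main

end Cfsg.Agent.S1699
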