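import Cfsg.Statements.S1466
import Cfsg.Agent.Lib.Puig.Basic

set_option autoImplicit false
open Cfsg

namespace Cfsg.Agent.S1466

theorem exists_self_centralizing {R : Type*} [Group R] [Finite R] (p : ℕ) [Fact p.Prime]
    (hR : IsPGroup p R) :
    ∃ A : Subgroup R, A.Normal ∧ IsMulCommutative A ∧ Subgroup.center R ≤ A ∧
      Subgroup.centralizer (A : Set R) ≤ A := by
  obtain ⟨A, hA⟩ := Set.Finite.exists_maximal
    (Set.toFinite {A : Subgroup R | A.Normal ∧ IsMulCommutative A ∧ Subgroup.center R ≤ A})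
    ⟨Subgroup.center R, inferInstance, inferInstance, le_rfl⟩
  obtain ⟨hn, hc, hz⟩ := hA.1
  refine ⟨A, hn, hc, hz, ?_⟩
  by_contra hle
  set C := Subgroup.centralizer (A : Set R) with hC
  haveI : A.Normal := hn
  haveI : C.Normal := inferInstance
  set N := C.map (QuotientGroup.mk' A) with hN
  haveI : N.Normal := Subgroup.Normal.map inferInstance _ (QuotientGroup.mk'_surjective A)
  have hN1 : N ≠ ⊥ := by
    intro h
    rw [hN, Subgroup.map_eq_bot_iff, QuotientGroup.ker_mk'] at h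
    exact hle h
  obtain ⟨n, hnpos, hn'⟩ := ((hR.to_quotient A).to_subgroup N).nontrivial_iff_card.1
    (Subgroup.nontrivial_iff_ne_bot N |>.2 hN1)
  have hdvd : p ∣ Nat.card N := hn' ▸ dvd_pow_self p (by omega)
  have hconj : IsPGroup p (ConjAct (R ⧸ A)) := hR.to_quotient A
  have hfix : (1 : N) ∈ MulAction.fixedPoints (ConjAct (R ⧸ A)) N := fun g => smul_one g
  obtain ⟨b, hb, hb1⟩ :=
    hconj.exists_fixed_point_of_prime_dvd_card_of_fixed_point N hdvd hfix
  obtain ⟨z, hzC, hzb⟩ := Subgroup.mem_map.1 b.2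
  have hzA : z ∉ A := by
    intro h
    apply hb1
    refine Subtype.ext ?_
    show (1 : R ⧸ A) = (b : R ⧸ A)
    rw [← hzb]
    exact ((QuotientGroup.eq_one_iff z).2 h).symm
  have hcomm : ∀ g : R, g * z * g⁻¹ * z⁻¹ ∈ A := by
    intro g
    have h1 := congrArg Subtype.val (hb (ConjAct.toConjAct (g : R ⧸ A)))
    change (g : R ⧸ A) * (b : R ⧸ A) * (g : R ⧸ A)⁻¹ = (b : R ⧸ A) at h1
    rw [← hzb] at h1
    simp only [QuotientGroup.mk'_apply] at h1
    rw [← QuotientGroup.eq_one_iff]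
    rw [QuotientGroup.mk_mul, QuotientGroup.mk_mul, QuotientGroup.mk_mul, QuotientGroup.mk_inv,
      QuotientGroup.mk_inv, h1, mul_inv_cancel]
  have hB : IsMulCommutative ↥(Subgroup.zpowers z ⊔ A) := by
    rw [← Subgroup.le_centralizer_iff_isMulCommutative]
    have hAA : A ≤ Subgroup.centralizer (A : Set R) := Subgroup.le_centralizer_iff_isMulCommutative.2 hc
    have hzz : Subgroup.zpowers z ≤ C := Subgroup.zpowers_le.2 hzC
    refine sup_le ?_ ?_
    · rw [Subgroup.le_centralizer_iff]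
      refine sup_le ?_ ?_
      · exact Subgroup.le_centralizer_iff_isMulCommutative.2 inferInstance
      · exact Subgroup.le_centralizer_iff.1 hzz
    · rw [Subgroup.le_centralizer_iff]
      exact sup_le hzz hAA
  have hBn : (Subgroup.zpowers z ⊔ A).Normal := by
    constructor
    intro x hx g
    have hmap : (Subgroup.zpowers z ⊔ A).map (MulAut.conj g).toMonoidHom ≤ Subgroup.zpowers z ⊔ A := by
      rw [Subgroup.map_sup]
      refine sup_le ?_ ?_
      · rw [MonoidHom.map_zpowers, Subgroup.zpowers_le]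
        show g * z * g⁻¹ ∈ _
        have : g * z * g⁻¹ = (g * z * g⁻¹ * z⁻¹) * z := by group
        rw [this]
        exact mul_mem (Subgroup.mem_sup_right (hcomm g))
          (Subgroup.mem_sup_left (Subgroup.mem_zpowers z))
      · rintro y ⟨w, hw, rfl⟩
        exact Subgroup.mem_sup_right (hn.conj_mem w hw g)
    exact hmap ⟨x, hx, rfl⟩
  exact hzA (hA.2 ⟨hBn, hB, hz.trans le_sup_right⟩ le_sup_right
    (Subgroup.mem_sup_left (Subgroup.mem_zpowers z)))

/-- Let p be a prime and R a nontrivial finite p-group. Then for every i > 0, Z(R) ≤ C_R(L_i(R)) ≤ L_i(R); likewise Z(R) ≤ C_R(L_*(R)) ≤ L_*(R) and Z(R) ≤ C_R(L(R)) ≤ L(R); and L(R) ≠ 1, L_*(R) ≠ 1. -/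
theorem result {R : Type*} [Group R] [Finite R] (p : ℕ) [Fact p.Prime] (hR : IsPGroup p R) [Nontrivial R] :
    (∀ i : ℕ, 0 < i → Subgroup.center R ≤ Subgroup.centralizer ((Cfsg.puigSeq R i : Subgroup R) : Set R) ∧
        Subgroup.centralizer ((Cfsg.puigSeq R i : Subgroup R) : Set R) ≤ Cfsg.puigSeq R i) ∧
      (Subgroup.center R ≤ Subgroup.centralizer ((Cfsg.puigLower R : Subgroup R) : Set R) ∧ Subgroup.centralizer ((Cfsg.puigLower R : Subgroup R) : Set R) ≤ Cfsg.puigLower R) ∧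
      (Subgroup.center R ≤ Subgroup.centralizer ((Cfsg.puigSubgroup R : Subgroup R) : Set R) ∧ Subgroup.centralizer ((Cfsg.puigSubgroup R : Subgroup R) : Set R) ≤ Cfsg.puigSubgroup R) ∧
      Cfsg.puigSubgroup R ≠ ⊥ ∧ Cfsg.puigLower R ≠ ⊥ := by
  obtain ⟨A, hn, hc, hz, hAc⟩ := exists_self_centralizing p hR
  haveI := hn
  have key : ∀ X : Subgroup R, A ≤ X → Subgroup.center R ≤ Subgroup.centralizer (X : Set R) ∧
      Subgroup.centralizer (X : Set R) ≤ X := fun X hX =>
    ⟨Subgroup.center_le_centralizer _,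
      (Subgroup.centralizer_le hX).trans (hAc.trans hX)⟩
  have hseq : ∀ i : ℕ, 0 < i → A ≤ Cfsg.puigSeq R i := fun i hi => by
    obtain ⟨j, rfl⟩ : ∃ j, i = j + 1 := ⟨i - 1, by omega⟩
    exact Puig.le_puigStep hc _
  have hL : A ≤ Cfsg.puigLower R := (hseq (2 * 1) (by omega)).trans (le_iSup (fun n => puigSeq R (2 * n)) 1)
  have hU : A ≤ Cfsg.puigSubgroup R := le_iInf fun n => hseq _ (by omega)
  have hA1 : A ≠ ⊥ := by
    intro h
    haveI := hR.center_nontrivial
    exact (Subgroup.nontrivial_iff_ne_bot _).1 inferInstance (le_bot_iff.1 (hz.trans_eq h))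
  exact ⟨fun i hi => key _ (hseq i hi), key _ hL, key _ hU,
    fun h => hA1 (le_bot_iff.1 (hU.trans_eq h)), fun h => hA1 (le_bot_iff.1 (hL.trans_eq h))⟩

end Cfsg.Agent.S1466
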