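import Cfsg.Statements.S1462
import Cfsg.Agent.Lib.PSeries.LengthOne
import Cfsg.Agent.Lib.Components.HatLayer
import Cfsg.Agent.S1443

set_option autoImplicit false
open Cfsg

namespace Cfsg.Agent.S1462

/-- Let G be a finite solvable group, p an odd prime with G = O_{p',p,p'}(G), E an elementary abelian p-subgroup contained in no larger elementary abelian p-subgroup of G, and L a subgroup of order coprime to p normalized by E. Then L ≤ O_{p'}(G). -/
theorem result {G : Type*} [Group G] [Finite G] [Group.IsSolvable G] (p : ℕ) [Fact p.Prime] (hp : p ≠ 2) (hpl : Cfsg.PLengthLE p 1 G) (E L : Subgroup G) (hE : Cfsg.IsElementaryAbelian p E)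
    (hEmax : ∀ B : Subgroup G, Cfsg.IsElementaryAbelian p B → E ≤ B → B = E) (hL : (Nat.card L).Coprime p) (hEL : E ≤ Subgroup.normalizer (L : Set G)) :
    L ≤ Cfsg.pPrimeCore p G := by
  have hpp : p.Prime := Fact.out
  set K := Cfsg.pPrimeCore p G with hK
  set π := QuotientGroup.mk' K with hπ
  have hsurj : Function.Surjective π := QuotientGroup.mk'_surjective K
  set Q := Cfsg.pCore p (G ⧸ K) with hQdef
  have hQ : IsPGroup p Q := Cores.isPGroup_pCore p _
  have hEp : IsPGroup p E := fun a => ⟨1, Subtype.ext (by simpa using hE.2 a a.2)⟩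
  have hEQ : E.map π ≤ Q :=
    Subgroup.map_le_iff_le_comap.2 (PSeries.le_pPrimePCore_of_pLengthLE_one hpl hEp)
  have hEe : Cfsg.IsElementaryAbelian p (E.map π) := by
    have := hE.1
    exact ⟨inferInstance, by rintro _ ⟨a, ha, rfl⟩; rw [← map_pow, hE.2 a ha, map_one]⟩
  have hQn : Q.Normal := Cores.pCore_normal p _
  have hLcop : (Nat.card (L.map π)).Coprime p := hL.coprime_dvd_left (Subgroup.card_map_dvd _ _)
  have hLQ : L.map π ⊓ Q = ⊥ :=
    Solvable.inf_eq_bot_of_coprime (Coprime.coprime_of_isPGroup hLcop hQ)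
  have hEL : ⁅E.map π, L.map π⁆ = ⊥ := by
    rw [eq_bot_iff, ← hLQ]
    refine le_inf ?_ ((Subgroup.commutator_mono hEQ le_rfl).trans (Subgroup.commutator_le_left _ _))
    rw [Subgroup.commutator_comm]
    exact Subgroup.le_normalizer_iff_commutator_le_left.1
      ((Subgroup.map_mono hEL).trans (Subgroup.le_normalizer_map π))
  have hcent := S1443.result p hp Q (E.map π) (L.map π) hQ hEQ hEe
    (by rw [Subgroup.normalizer_eq_top]; exact le_top) hLcop fun y hy ho l hl => by
      obtain ⟨g, hgE, hgy⟩ := (Components.centralizer_map_of_coprime hEp K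
        (Cores.coprime_card_pPrimeCore p)).le hy.2
      obtain ⟨k, hk1, hk0⟩ := Nat.chineseRemainder (Cores.coprime_card_pPrimeCore (G := G) p).symm 1 0
      have hgp : g ^ p ∈ K := by
        rw [← QuotientGroup.eq_one_iff, QuotientGroup.mk_pow, ← QuotientGroup.mk'_apply K g,
          ← hπ, hgy]
        exact orderOf_dvd_iff_pow_eq_one.1 (dvd_of_eq ho)
      have hg' : (g ^ k) ^ p = 1 := by
        rw [← pow_mul, mul_comm, pow_mul]
        obtain ⟨j, hj⟩ := Nat.modEq_zero_iff_dvd.1 hk0
        have h1 : (g ^ p) ^ Nat.card K = 1 := by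
          rw [← orderOf_dvd_iff_pow_eq_one]; exact Subgroup.orderOf_dvd_natCard K hgp
        rw [hj, pow_mul, h1, one_pow]
      have hgk : π (g ^ k) = y := by
        rw [map_pow, hgy]
        have h2 : y ^ k = y ^ 1 := pow_eq_pow_iff_modEq.2 (ho.symm ▸ hk1)
        rwa [pow_one] at h2
      have hB : Cfsg.IsElementaryAbelian p (E ⊔ Subgroup.zpowers (g ^ k)) := by
        have hc : Subgroup.zpowers (g ^ k) ≤ Subgroup.centralizer (E : Set G) :=
          Subgroup.zpowers_le.2 (Subgroup.pow_mem _ hgE k)
        have hEE : E ≤ Subgroup.centralizer (E : Set G) :=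
          Subgroup.le_centralizer_iff_isMulCommutative.2 hE.1
        have hab : IsMulCommutative ↥(E ⊔ Subgroup.zpowers (g ^ k)) := by
          rw [← Subgroup.le_centralizer_iff_isMulCommutative]
          refine sup_le ?_ ?_
          · rw [Subgroup.le_centralizer_iff]; exact sup_le hEE hc
          · rw [Subgroup.le_centralizer_iff]
            exact sup_le (Subgroup.le_centralizer_iff.1 hc)
              (Subgroup.le_centralizer_iff_isMulCommutative.2 inferInstance)
        refine ⟨hab, fun b hb => ?_⟩
        set B := E ⊔ Subgroup.zpowers (g ^ k) with hBdef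
        let T : Subgroup G :=
          { carrier := {b | b ∈ B ∧ b ^ p = 1}
            one_mem' := ⟨one_mem _, one_pow _⟩
            mul_mem' := fun {a c} ha hc => ⟨mul_mem ha.1 hc.1, by
              have hac : Commute a c :=
                congrArg Subtype.val (hab.is_comm.comm ⟨a, ha.1⟩ ⟨c, hc.1⟩)
              rw [hac.mul_pow, ha.2, hc.2, one_mul]⟩
            inv_mem' := fun {a} ha => ⟨inv_mem ha.1, by rw [inv_pow, ha.2, inv_one]⟩ }
        have hT : B ≤ T := sup_le (fun e he => ⟨Subgroup.mem_sup_left he, hE.2 e he⟩)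
          (Subgroup.zpowers_le.2 ⟨Subgroup.mem_sup_right (Subgroup.mem_zpowers _), hg'⟩)
        exact (hT hb).2
      have hyE : y ∈ E.map π := by
        rw [← hgk]
        exact Subgroup.mem_map_of_mem π ((hEmax _ hB le_sup_left).le
          (Subgroup.mem_sup_right (Subgroup.mem_zpowers _)))
      rw [Subgroup.mem_centralizer_singleton_iff]
      exact Subgroup.mem_centralizer_iff.1
        (Subgroup.commutator_eq_bot_iff_le_centralizer.1 hEL hyE) l hl
  have h0 : L.map π ≤ (⊥ : Subgroup (G ⧸ K)) := by
    rw [← hLQ]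
    exact le_inf le_rfl (hcent.trans
      (Solvable.centralizer_pCore_le_of_isSolvable (Cores.pPrimeCore_quotient_self p)))
  intro x hx
  exact (QuotientGroup.eq_one_iff x).1 (Subgroup.mem_bot.1 (h0 ⟨x, hx, rfl⟩))

end Cfsg.Agent.S1462
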