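import Cfsg.Statements.S1396
import Cfsg.Agent.S1462
import Cfsg.Agent.Lib.ConstrainedTrans.Basic
import Cfsg.Agent.Lib.HallHigman.PSolvable
import Cfsg.Agent.Lib.OddOrder.UniqueBasic

set_option autoImplicit false
open Cfsg

namespace Cfsg.Agent.S1396

/-- an abelian `A` that is self-centralizing and normal in a Sylow `p`-subgroup of `G` contains all
`p`-elements of its centralizer -/
theorem mem_of_centralizes {G : Type*} [Group G] [Finite G] {p : ℕ} [Fact p.Prime] {A : Subgroup G}
    (hAp : IsPGroup p A) (P : Sylow p G) (hscn : Cfsg.IsSCN (P : Subgroup G) A) {x : G}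
    (hx : x ∈ Subgroup.centralizer (A : Set G)) (hxp : IsPGroup p (Subgroup.zpowers x)) : x ∈ A := by
  obtain ⟨hAP, hPN, hPC⟩ := hscn
  set N := Subgroup.normalizer (A : Set G) with hN
  have hxN : x ∈ N := Subgroup.centralizer_le_normalizer _ hx
  set T := A ⊔ Subgroup.zpowers x with hT
  have hTp : IsPGroup p T := hAp.to_sup_of_normal_left' hxp (Subgroup.zpowers_le.2 hxN)
  have hTN : T ≤ N := sup_le Subgroup.le_normalizer (Subgroup.zpowers_le.2 hxN)
  obtain ⟨R, hR⟩ := (hTp.comap_of_injective N.subtype N.subtype_injective).exists_le_sylow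
  obtain ⟨n, hn⟩ := MulAction.exists_smul_eq N R (P.subtype hPN)
  have hxR : (⟨x, hxN⟩ : N) ∈ (R : Subgroup N) :=
    hR (Subgroup.mem_sup_right (Subgroup.mem_zpowers x))
  have h1 : n * ⟨x, hxN⟩ * n⁻¹ ∈ ((P.subtype hPN : Sylow p N) : Subgroup N) := by
    rw [← hn, Sylow.coe_subgroup_smul]
    exact ⟨_, hxR, rfl⟩
  rw [Sylow.coe_subtype, Subgroup.mem_subgroupOf] at h1
  have h2 : (n : G) * x * (n : G)⁻¹ ∈ Subgroup.centralizer (A : Set G) := by
    refine Subgroup.mem_centralizer_iff.2 fun a ha => ?_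
    have ha' : (n : G)⁻¹ * a * n ∈ A :=
      (Subgroup.mem_normalizer_iff.1 n.2 _).2 (by simpa [mul_assoc] using ha)
    have := congrArg (fun u => (n : G) * u * (n : G)⁻¹) (Subgroup.mem_centralizer_iff.1 hx _ ha')
    simpa [mul_assoc] using this
  have h3 : (n : G) * x * (n : G)⁻¹ ∈ A := hPC.le ⟨h1, h2⟩
  exact (Subgroup.mem_normalizer_iff.1 n.2 x).2 h3

/-- Let G be a minimal simple group of odd order, p a prime dividing the order of G and A an abelian p-subgroup. Suppose either (1) A consists exactly of the elements x of C_G(A) with x^p = 1, and every proper subgroup of G has p-length at most one, or (2) A is normal and self-centralizing in some Sylow p-subgroup of G and has rank at least 2. Then A satisfies the transitivity hypothesis. -/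
theorem result {G : Type*} [Group G] [Finite G] (hG : Cfsg.IsMinSimpleOddOrder G)
    (p : ℕ) [Fact p.Prime] (hp : p ∣ Nat.card G) (A : Subgroup G) (hAp : IsPGroup p A) (hAc : IsMulCommutative A)
    (h : (∀ x ∈ Subgroup.centralizer (A : Set G), x ^ p = 1 ↔ x ∈ A) ∧ (∀ H : Subgroup G, H ≠ ⊤ → Cfsg.PLengthLE p 1 H) ∨
      ∃ P : Sylow p G, Cfsg.IsSCN (P : Subgroup G) A ∧ ¬ Cfsg.PRankLE p 1 A) :
    Cfsg.TransitivityHypothesis A := by
  obtain ⟨hodd, hsimple, hna, hsol⟩ := hG
  have hpp : p.Prime := Fact.out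
  have hp2 : p ≠ 2 := by
    rintro rfl
    exact Nat.not_even_iff_odd.2 hodd (even_iff_two_dvd.2 hp)
  have hA1 : A ≠ ⊥ := by
    rintro rfl
    rcases h with ⟨hΩ, -⟩ | ⟨P, -, hr⟩
    · obtain ⟨x, hx⟩ := exists_prime_orderOf_dvd_card' p hp
      have hxC : x ∈ Subgroup.centralizer ((⊥ : Subgroup G) : Set G) :=
        Subgroup.mem_centralizer_iff.2 fun y hy => by rw [Subgroup.mem_bot.1 hy, one_mul, mul_one]
      have := Subgroup.mem_bot.1 ((hΩ x hxC).1 (hx ▸ pow_orderOf_eq_one x))
      rw [this, orderOf_one] at hx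
      exact hpp.ne_one hx.symm
    · exact hr fun B _ _ => by
        rw [Subsingleton.elim B ⊥, Subgroup.card_bot]
        exact Nat.one_le_iff_ne_zero.2 (pow_ne_zero _ hpp.ne_zero)
  refine ⟨hA1, fun hT => ?_, fun X hX hAX => ?_⟩
  · apply hna
    exact ⟨⟨fun a b => congrArg Subtype.val
      (hAc.is_comm.comm ⟨a, hT ▸ Subgroup.mem_top a⟩ ⟨b, hT ▸ Subgroup.mem_top b⟩)⟩⟩
  obtain ⟨n, hn⟩ := hAp.exists_card_eq
  have hn0 : n ≠ 0 := by
    rintro rfl
    exact hA1 (Subgroup.eq_bot_of_card_eq _ (by rw [hn, pow_zero]))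
  have hset : primesNotDvd (Nat.card A) = primesNotDvd p := by
    ext q
    refine and_congr_right fun hq => not_congr ?_
    rw [hn]
    exact ⟨hq.dvd_of_dvd_pow, fun h => h.trans (dvd_pow_self p hn0)⟩
  rw [hset]
  refine le_antisymm (sSup_le ?_) (le_sSup ⟨OddTrans.piCoreOf_le _ _,
    OddTrans.piCoreOf_pi _ _, hAX.trans (OddTrans.le_normalizer_piCoreOf _ _)⟩)
  rintro Y ⟨hYX, hYπ, hAY⟩
  rw [OddUniq.piCoreOf_primesNotDvd_prime]
  have := hsol X hX
  have hYc : (Nat.card (Y.subgroupOf X)).Coprime p := by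
    rw [Cores.card_subgroupOf hYX]
    exact OddUniq.pi'_iff_coprime.1 hYπ
  have hnorm : A.subgroupOf X ≤ Subgroup.normalizer (Y.subgroupOf X : Set X) := fun a ha =>
    Subgroup.mem_normalizer_iff.2 fun y => Subgroup.mem_normalizer_iff.1 (hAY ha) (y : G)
  suffices Y.subgroupOf X ≤ Cfsg.pPrimeCore p X from fun y hy => ⟨⟨y, hYX hy⟩, this hy, rfl⟩
  rcases h with ⟨hΩ, hlen⟩ | ⟨P, hscn, -⟩
  · refine S1462.result p hp2 (hlen X hX) (A.subgroupOf X) (Y.subgroupOf X)
      ⟨inferInstance, ?_⟩ (fun B hB hle => le_antisymm ?_ hle) hYc hnorm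
    · intro a ha
      refine Subtype.ext ?_
      rw [SubgroupClass.coe_pow]
      exact (hΩ a (Subgroup.le_centralizer_iff_isMulCommutative.2 hAc ha)).2 ha
    · intro b hb
      refine (hΩ b (Subgroup.mem_centralizer_iff.2 fun a ha => ?_)).1 ?_
      · exact congrArg (fun u : X => (u : G))
          (congrArg (Subtype.val : B → X) (hB.1.is_comm.comm ⟨⟨a, hAX ha⟩, hle ha⟩ ⟨b, hb⟩))
      · exact congrArg (Subtype.val : X → G) (hB.2 b hb)
  · refine ConstrainedTrans.le_pPrimeCore_of_invariant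
      HallHigman.isPConstrained_of_isSolvable (fun h => absurd h hp2) (E := A.subgroupOf X)
      (hAp.comap_of_injective X.subtype X.subtype_injective) inferInstance (fun x hx hxp => ?_)
      hYc hnorm
    refine mem_of_centralizes hAp P hscn (Subgroup.mem_centralizer_iff.2 fun a ha => ?_) ?_
    · exact congrArg (fun u : X => (u : G))
        (Subgroup.mem_centralizer_iff.1 hx ⟨a, hAX ha⟩ ha)
    · have := hxp.map X.subtype
      rwa [MonoidHom.map_zpowers] at this

end Cfsg.Agent.S1396
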