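import Cfsg.Statements.S1469
import Cfsg.Agent.Lib.Puig.Transport
import Cfsg.Agent.Lib.OddStable.Solvable
import Cfsg.Agent.Lib.PReduced.Tools

set_option autoImplicit false
open Cfsg

namespace Cfsg.Agent.S1469

open Puig

/-- the centre of `L(S)` inside `G` -/
def zTop {G : Type*} [Group G] (T : Subgroup G) : Subgroup G :=
  puigTop T ⊓ Subgroup.centralizer (puigTop T : Set G)

theorem normalizer_le_normalizer_zTop {G : Type*} [Group G] (T : Subgroup G) :
    Subgroup.normalizer (puigTop T : Set G) ≤ Subgroup.normalizer (zTop T : Set G) := by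
  intro g hg
  rw [Subgroup.mem_normalizer_iff] at hg ⊢
  intro x
  simp only [zTop, Subgroup.mem_inf, Subgroup.mem_centralizer_iff, SetLike.mem_coe]
  refine and_congr (hg x) ⟨fun h y hy => ?_, fun h y hy => ?_⟩
  · have hy' : g⁻¹ * y * g ∈ puigTop T := (hg _).2 (by simpa [mul_assoc] using hy)
    have := congrArg (fun u => g * u * g⁻¹) (h _ hy')
    simpa [mul_assoc] using this
  · have := congrArg (fun u => g⁻¹ * u * g) (h _ ((hg y).1 hy))
    simpa [mul_assoc] using this

theorem zTop_normal {G : Type*} [Group G] [Finite G] [Group.IsSolvable G] (hodd : Odd (Nat.card G))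
    (p : ℕ) [Fact p.Prime] (hp : p ≠ 2) (hO : Cfsg.pPrimeCore p G = ⊥) (S : Sylow p G) :
    (zTop (S : Subgroup G)).Normal := by
  set Q := Cfsg.pCore p G
  have hQ : IsPGroup p Q := Cores.isPGroup_pCore p G
  have hQS : Q ≤ (S : Subgroup G) := Cores.pCore_le_sylow S
  have hS : IsPGroup p ↥(S : Subgroup G) := S.2
  obtain ⟨hBot, hTop⟩ := puig_chain_of_step hQS fun i A _ hA hX hle => by
    have := puigIn_normal Q (2 * i + 1)
    exact OddStable.le_pCore_of_abelian hodd hp hO (hQ.to_le (puigIn_le _ _))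
      (inf_centralizer_puigIn_le hQ (by omega)) hA (hle.trans hX)
  have := puigTop_normal Q
  set V := zTop Q with hVdef
  have hVn : V.Normal := by rw [hVdef, zTop]; infer_instance
  have hCQ : IsPGroup p ↥(Subgroup.centralizer (puigTop Q : Set G)) :=
    OddStable.isPGroup_centralizer hO (inf_centralizer_puigTop_le hQ)
  have hCle : Subgroup.centralizer (puigTop Q : Set G) ≤ puigTop Q :=
    fun x hx => inf_centralizer_puigTop_le hQ
      ⟨Cores.le_pCore inferInstance hCQ hx, hx⟩
  have hZV : zTop (S : Subgroup G) ≤ V := fun x hx =>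
    have hx' : x ∈ Subgroup.centralizer (puigTop Q : Set G) := Subgroup.centralizer_le hTop hx.2
    ⟨hCle hx', hx'⟩
  have hVp : IsPGroup p V := (hQ.to_le (puigTop_le_self Q)).to_le inf_le_left
  have hVB : V ≤ puigBot (S : Subgroup G) := fun x hx =>
    inf_centralizer_puigBot_le hS ⟨hQS (puigTop_le_self Q hx.1),
      Subgroup.centralizer_le (hBot.trans (puigBot_le_puigTop Q)) hx.2⟩
  set C := Subgroup.centralizer (V : Set G) with hCdef
  set D := (Cfsg.pCore p (G ⧸ C)).comap (QuotientGroup.mk' C)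
  have hCD : C ≤ D := fun x hx => by
    rw [Subgroup.mem_comap, QuotientGroup.mk'_apply, (QuotientGroup.eq_one_iff x).2 hx]
    exact one_mem _
  have hLD : puigTop (S : Subgroup G) ≤ D := puigTop_le fun A _ hA hX a ha =>
    OddStable.mk_mem_pCore_of_abelian hodd hp hVp hA (hVB.trans hX) ha
  have hmod : PReduced.pMod p C D := fun x hx => by
    obtain ⟨k, hk⟩ := Cores.isPGroup_pCore p (G ⧸ C) ⟨_, hx⟩
    refine ⟨k, (QuotientGroup.eq_one_iff _).1 ?_⟩
    rw [QuotientGroup.mk_pow]
    exact congrArg Subtype.val hk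
  have hT : puigTop ((S : Subgroup G) ⊓ D) = puigTop (S : Subgroup G) :=
    puigTop_eq_of_between (le_inf (puigTop_le_self _) hLD) inf_le_left
  have hN : Subgroup.normalizer (((S : Subgroup G) ⊓ D : Subgroup G) : Set G) ≤
      Subgroup.normalizer (zTop (S : Subgroup G) : Set G) := by
    refine le_trans ?_ (normalizer_le_normalizer_zTop _)
    rw [← hT]
    exact normalizer_le_normalizer_puigTop _
  rw [← Subgroup.normalizer_eq_top_iff, eq_top_iff, ← PReduced.frattini_sylow_inf S D,
    PReduced.eq_sup_sylow_inf_of_pMod S hCD hmod]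
  refine sup_le (le_trans ?_ hN) (sup_le ?_ (Subgroup.le_normalizer.trans hN))
  · rw [← PReduced.eq_sup_sylow_inf_of_pMod S hCD hmod]
  · exact (Subgroup.centralizer_le hZV).trans (Subgroup.centralizer_le_normalizer _)

/-- Let p be an odd prime, G a solvable group of odd order and S a Sylow p-subgroup, and let Z be the centre of the Puig subgroup L(S), viewed inside G. Then G is generated by O_{p'}(G) and N_G(Z); and if O_{p'}(G) = 1 then Z is normal in G. -/
theorem result {G : Type*} [Group G] [Finite G] [Group.IsSolvable G] (hodd : Odd (Nat.card G)) (p : ℕ) [Fact p.Prime] (hp : p ≠ 2) (S : Sylow p G) :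
    Cfsg.pPrimeCore p G ⊔ Subgroup.normalizer ((((Subgroup.center ↥(Cfsg.puigSubgroup ↥(S : Subgroup G))).map (Cfsg.puigSubgroup ↥(S : Subgroup G)).subtype).map (S : Subgroup G).subtype : Subgroup G) : Set G) = ⊤ ∧
      (Cfsg.pPrimeCore p G = ⊥ → (((Subgroup.center ↥(Cfsg.puigSubgroup ↥(S : Subgroup G))).map (Cfsg.puigSubgroup ↥(S : Subgroup G)).subtype).map (S : Subgroup G).subtype).Normal) := by
  rw [map_center_map_eq]
  refine ⟨?_, fun hO => zTop_normal hodd p hp hO S⟩
  change Cfsg.pPrimeCore p G ⊔ Subgroup.normalizer (zTop (S : Subgroup G) : Set G) = ⊤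
  set K := Cfsg.pPrimeCore p G with hK
  set π := QuotientGroup.mk' K with hπ
  have hsurj : Function.Surjective π := QuotientGroup.mk'_surjective K
  set Z := zTop (S : Subgroup G) with hZ
  have hdisj : (S : Subgroup G) ⊓ K = ⊥ := by
    obtain ⟨n, hn⟩ := S.2.exists_card_eq
    refine Solvable.inf_eq_bot_of_coprime ?_
    change (Nat.card (S : Subgroup G)).Coprime _
    rw [hn]
    exact (Cores.coprime_card_pPrimeCore (G := G) p).symm.pow_left n
  have hinj : Set.InjOn π (S : Subgroup G) := fun a ha b hb hab => by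
    have h1 : a⁻¹ * b ∈ (S : Subgroup G) ⊓ K :=
      ⟨(S : Subgroup G).mul_mem ((S : Subgroup G).inv_mem ha) hb, QuotientGroup.eq.1 hab⟩
    rw [hdisj, Subgroup.mem_bot] at h1
    exact inv_mul_eq_one.1 h1
  have hn := zTop_normal (G := G ⧸ K) (hodd.of_dvd_nat (Subgroup.card_quotient_dvd_card K)) p hp
    (Cores.pPrimeCore_quotient_self p) (S.mapSurjective hsurj)
  have hZle : Z ≤ (S : Subgroup G) := inf_le_left.trans (puigTop_le_self _)
  have hZmap : Z.map π = zTop ((S.mapSurjective hsurj : Sylow p (G ⧸ K)) : Subgroup (G ⧸ K)) := by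
    rw [Sylow.coe_mapSurjective, hZ, zTop, zTop, ← puigTop_map π _ hinj]
    refine le_antisymm ?_ ?_
    · rintro _ ⟨x, hx, rfl⟩
      refine ⟨⟨x, hx.1, rfl⟩, Subgroup.mem_centralizer_iff.2 ?_⟩
      rintro _ ⟨y, hy, rfl⟩
      rw [← map_mul, ← map_mul, Subgroup.mem_centralizer_iff.1 hx.2 y hy]
    · rintro _ ⟨⟨x, hx, rfl⟩, hxc⟩
      refine ⟨x, ⟨hx, Subgroup.mem_centralizer_iff.2 fun y hy => ?_⟩, rfl⟩
      refine hinj (mul_mem (puigTop_le_self _ hy) (puigTop_le_self _ hx))
        (mul_mem (puigTop_le_self _ hx) (puigTop_le_self _ hy)) ?_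
      rw [map_mul, map_mul]
      exact Subgroup.mem_centralizer_iff.1 hxc _ ⟨y, hy, rfl⟩
  rw [← hZmap] at hn
  have hN : (Z ⊔ K).Normal := by
    have := hn.comap π
    rwa [Subgroup.comap_map_eq, QuotientGroup.ker_mk'] at this
  have hZK : Z = (S : Subgroup G) ⊓ (Z ⊔ K) := by
    refine le_antisymm (le_inf hZle le_sup_left) fun x ⟨hxS, hx⟩ => ?_
    obtain ⟨z, hz, k, hk, rfl⟩ := Subgroup.mem_sup_of_normal_right.1 hx
    have h1 : k ∈ (S : Subgroup G) ⊓ K :=
      ⟨(Subgroup.mul_mem_cancel_left _ (hZle hz)).1 hxS, hk⟩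
    rw [hdisj, Subgroup.mem_bot] at h1
    simpa [h1] using hz
  have h := PReduced.frattini_sylow_inf S (Z ⊔ K)
  rw [← hZK, ← sup_assoc, sup_eq_left.2 Subgroup.le_normalizer] at h
  rwa [sup_comm]

end Cfsg.Agent.S1469
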