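import Cfsg.Statements.S1448
import Cfsg.Agent.Lib.RankTwo.Blackburn

set_option autoImplicit false
open Cfsg

namespace Cfsg.Agent.S1448

/-- Let G be a finite group, p an odd prime, R a nontrivial p-subgroup with no elementary abelian subgroup of order p ^ 3, and A a subgroup of odd order coprime to p normalizing R with [R, A] = R. Then 3 < p, and either R is abelian or R is generated by two elementwise-commuting subgroups R₁, R₂ with R₁ non-abelian of order p ^ 3 and exponent p, R₂ cyclic, and the elements of R₂ of order dividing p generating exactly [R₁, R₁]. -/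
theorem result {G : Type*} [Group G] [Finite G] (p : ℕ) [Fact p.Prime] (hp : p ≠ 2) (R A : Subgroup G) (hR : IsPGroup p R) (hR1 : R ≠ ⊥) (hr : Cfsg.PRankLE p 2 R)
    (hA : (A ≤ Subgroup.normalizer (R : Set G))) (hcop : (Nat.card A).Coprime p) (hAodd : Odd (Nat.card A)) (hRA : ⁅R, A⁆ = R) :
    3 < p ∧ (IsMulCommutative R ∨ ∃ R₁ R₂ : Subgroup G, R₁ ⊔ R₂ = R ∧ (∀ a ∈ R₁, ∀ b ∈ R₂, a * b = b * a) ∧
        ¬ IsMulCommutative R₁ ∧ Nat.card R₁ = p ^ 3 ∧ Monoid.exponent R₁ = p ∧ IsCyclic R₂ ∧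
        Subgroup.closure {x : G | x ∈ R₂ ∧ x ^ p = 1} = ⁅R₁, R₁⁆) := by
  obtain ⟨hp3, h⟩ := RankTwo.blackburn hp hR hR1 hr hA hcop hAodd hRA
  refine ⟨hp3, ?_⟩
  by_cases hc : IsMulCommutative R
  · exact Or.inl hc
  obtain ⟨hΩ, htop⟩ := h hc
  obtain ⟨hna, hcyc, -, -, hder⟩ := RankTwo.omega_facts hp3 hR hr hΩ
  set Ω := RankTwo.omegaOne p R with hΩdef
  set C := Subgroup.centralizer (Ω : Set R) with hC
  have hinj := R.subtype_injective
  refine Or.inr ⟨Ω.map R.subtype, C.map R.subtype, ?_, ?_, ?_, ?_, ?_, ?_, ?_⟩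
  · rw [← Subgroup.map_sup, htop, ← MonoidHom.range_eq_map, Subgroup.range_subtype]
  · rintro _ ⟨a, ha, rfl⟩ _ ⟨b, hb, rfl⟩
    rw [← map_mul, ← map_mul, hb a ha]
  · intro hcomm
    refine hna ⟨⟨fun a b => Subtype.ext (hinj ?_)⟩⟩
    exact congrArg Subtype.val (hcomm.is_comm.comm
      (⟨_, Subgroup.mem_map_of_mem _ a.2⟩ : Ω.map R.subtype) ⟨_, Subgroup.mem_map_of_mem _ b.2⟩)
  · rw [Subgroup.card_map_of_injective hinj, hΩ]
  · refine ((Nat.dvd_prime (Fact.out : p.Prime)).1 (Monoid.exponent_dvd_iff_forall_pow_eq_one.2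
      ?_)).resolve_left ?_
    · rintro ⟨_, a, ha, rfl⟩
      refine Subtype.ext ?_
      rw [SubgroupClass.coe_pow, ← map_pow, RankTwo.omega_exp hp3 hR hr ha, map_one]
      rfl
    · rw [Monoid.exp_eq_one_iff]
      intro hs
      have h1 := Nat.card_of_subsingleton (1 : ↥(Ω.map R.subtype))
      rw [Subgroup.card_map_of_injective hinj, hΩ] at h1
      exact (Nat.one_lt_pow (by norm_num) (Fact.out : p.Prime).one_lt).ne' h1
  · exact isCyclic_of_surjective _ (R.subtype.subgroupMap_surjective C)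
  · rw [← Subgroup.map_commutator, hder]
    refine le_antisymm ((Subgroup.closure_le _).2 ?_) ?_
    · rintro _ ⟨⟨b, hb, rfl⟩, hbp⟩
      refine ⟨b, ⟨RankTwo.mem_omegaOne (hinj ?_), hb⟩, rfl⟩
      rw [map_pow, hbp, map_one]
    · rintro _ ⟨b, hb, rfl⟩
      refine Subgroup.subset_closure ⟨⟨b, hb.2, rfl⟩, ?_⟩
      rw [← map_pow, RankTwo.omega_exp hp3 hR hr hb.1, map_one]

end Cfsg.Agent.S1448
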