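import Cfsg.Statements.S1451
import Cfsg.Agent.Lib.RankTwo.Derived

set_option autoImplicit false
open Cfsg

namespace Cfsg.Agent.S1451

/-- Let G be a solvable group of odd order such that G, or its Fitting subgroup, has no elementary abelian subgroup of order q ^ 3 for any prime q. Then G' is nilpotent; for every Sylow subgroup S of G, every characteristic subgroup T of S with T ≤ [S, S] is normal in G; and for every prime p, G has a characteristic subgroup that is a Hall subgroup for the set of primes greater than p. -/
theorem result {G : Type*} [Group G] [Finite G] [Group.IsSolvable G] (hodd : Odd (Nat.card G)) (hr : Cfsg.RankLE 2 G ∨ Cfsg.RankLE 2 (Cfsg.fittingSubgroup G)) :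
    Group.IsNilpotent ↥(commutator G) ∧
      (∀ (q : ℕ) [Fact q.Prime] (S : Sylow q G) (T : Subgroup ↥(S : Subgroup G)), T.Characteristic → T.map (S : Subgroup G).subtype ≤ ⁅(S : Subgroup G), (S : Subgroup G)⁆ →
        (T.map (S : Subgroup G).subtype).Normal) ∧
      ∀ p : ℕ, ∃ N : Subgroup G, N.Characteristic ∧ Cfsg.IsPiHall {q | q.Prime ∧ p < q} N := by
  have hgood : ∀ (q : ℕ) [Fact q.Prime], RankTwo.Good q ↥(Cfsg.pCore q G) := fun q hq =>
    Or.inl fun A hA hAe => by
      haveI := hA
      rcases hr with hr | hr
      · rw [← Subgroup.card_map_of_injective (Cfsg.pCore q G).subtype_injective]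
        refine hr q hq.out _ inferInstance ?_
        rintro _ ⟨a, ha, rfl⟩
        rw [← map_pow, hAe a ha, map_one]
      · rw [← Subgroup.card_map_of_injective
          (Subgroup.inclusion_injective (Cores.pCore_le_fittingSubgroup (G := G) q))]
        refine hr q hq.out _ inferInstance ?_
        rintro _ ⟨a, ha, rfl⟩
        rw [← map_pow, hAe a ha, map_one]
  have hF := RankTwo.commutator_le_fitting hodd hgood
  refine ⟨Cores.isNilpotent_of_le_fittingSubgroup hF, fun q hq S T hT hTS => ?_,
    fun p => ⟨_, inferInstance, RankTwo.hall_of_gt hodd hgood p⟩⟩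
  set T' := T.map (S : Subgroup G).subtype with hT'
  set F := Cfsg.fittingSubgroup G with hFdef
  have hFn : F.Normal := Subgroup.sSup_normal _ fun _ h => h.1
  have hTF : T' ≤ F := hTS.trans ((Subgroup.commutator_mono le_top le_top).trans
    (by rw [← commutator_def]; exact hF))
  have hTO : T' ≤ Cfsg.pCore q G := fun t ht => by
    obtain ⟨k, hk⟩ := S.isPGroup' ⟨t, Subgroup.map_subtype_le T ht⟩
    exact RankTwo.mem_pCore_of_mem_fitting q (hTF ht) (congrArg Subtype.val hk)
  -- `S`, hence `O_q(G)`, normalizes `T`
  have hNS : Subgroup.normalizer ((S : Subgroup G) : Set G) ≤ Subgroup.normalizer (T' : Set G) :=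
    Cores.normalizer_le_normalizer_map (hC := hT) T
  have hSN : (S : Subgroup G) ≤ Subgroup.normalizer (T' : Set G) :=
    Subgroup.le_normalizer.trans hNS
  have hFN : F ≤ Subgroup.normalizer (T' : Set G) := by
    refine (RankTwo.fitting_le q).trans (sup_le ((Cores.pCore_le_sylow S).trans hSN) ?_)
    exact ((RankTwo.offCore_le_centralizer q).trans (Subgroup.centralizer_le hTO)).trans
      (Subgroup.centralizer_le_normalizer _)
  -- Frattini argument
  set J := (S : Subgroup G) ⊔ F with hJ
  have hJn : J.Normal := Subgroup.Normal.of_commutator_le (G := G) (H := J) (hF.trans le_sup_right)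
  have hSJ : (S : Subgroup G) ≤ J := le_sup_left
  have htop := Sylow.normalizer_sup_eq_top (S.subtype hSJ)
  rw [Sylow.coe_subtype, Subgroup.map_subgroupOf_eq_of_le hSJ] at htop
  exact Subgroup.normalizer_eq_top_iff.1 (eq_top_iff.2
    (htop.ge.trans (sup_le hNS (sup_le hSN hFN))))

end Cfsg.Agent.S1451
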