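import Cfsg.Statements.S1455
import Cfsg.Agent.Lib.RankTwo.Solvable

set_option autoImplicit false
open Cfsg

namespace Cfsg.Agent.S1455

/-- Let G be a solvable group of odd order, p a prime dividing its order, and S a Sylow p-subgroup of G that is narrow; if S has an elementary abelian subgroup of order p ^ 3 assume also G = O_{p',p,p'}(G). Then every prime dividing the index of O_{p'}(G) is at most p; if p = 3 or p is the smallest prime divisor of #G then G has a normal p-complement; G' has a normal p-complement; every subgroup of G' of order coprime to p lies in O_{p'}(G'); and G' ≤ O_{p',p}(G) with the index of O_{p',p}(G) coprime to p. -/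
theorem result {G : Type*} [Group G] [Finite G] [Group.IsSolvable G] (hodd : Odd (Nat.card G)) (p : ℕ) [Fact p.Prime] (hpG : p ∣ Nat.card G) (S : Sylow p G) (hS : Cfsg.IsNarrow p ↥(S : Subgroup G))
    (hpl : ¬ Cfsg.PRankLE p 2 ↥(S : Subgroup G) → Cfsg.PLengthLE p 1 G) :
    (∀ q : ℕ, q.Prime → q ∣ (Cfsg.pPrimeCore p G).index → q ≤ p) ∧
      ((p = 3 ∨ ∀ q : ℕ, q.Prime → q ∣ Nat.card G → p ≤ q) → Cfsg.HasNormalPComplement p G) ∧
      Cfsg.HasNormalPComplement p ↥(commutator G) ∧
      (∀ L : Subgroup ↥(commutator G), (Nat.card L).Coprime p → L ≤ Cfsg.pPrimeCore p ↥(commutator G)) ∧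
      commutator G ≤ Cfsg.pPrimePCore p G ∧ ((Cfsg.pPrimePCore p G).index).Coprime p := by
  have hp : p.Prime := Fact.out
  have hpodd : Odd p := hodd.of_dvd_nat hpG
  have hp2 : p ≠ 2 := fun h => by
    rw [h, Nat.odd_iff] at hpodd
    omega
  obtain ⟨h1, h2, h3, h4, h5⟩ := RankTwo.exists_structure_of_good hodd hp2 (RankTwo.good_pCore_quotient S hS hpl)
  have hlt : ∀ q : ℕ, q.Prime → q ∣ (Cfsg.pPrimeCore p G).index → q ≠ p → 2 * q ≤ p + 1 := by
    intro q hq hd hne
    have hqodd : Odd q := hodd.of_dvd_nat (hd.trans (Subgroup.index_dvd_card _))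
    rw [Nat.odd_iff] at hqodd hpodd
    rcases (h1 q hq hd).resolve_left hne with ⟨c, hc⟩ | ⟨c, hc⟩
    · rcases Nat.lt_or_ge c 2 with hc2 | hc2
      · interval_cases c
        · have := hp.two_le; omega
        · omega
      · have : q * 2 ≤ q * c := Nat.mul_le_mul_left q hc2
        omega
    · rcases Nat.lt_or_ge c 2 with hc2 | hc2
      · interval_cases c
        · omega
        · omega
      · have : q * 2 ≤ q * c := Nat.mul_le_mul_left q hc2
        omega
  refine ⟨fun q hq hd => ?_, fun hcase => ?_, h4, h5, h2, h3⟩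
  · rcases eq_or_ne q p with h | h
    · exact h.le
    · have := hlt q hq hd h
      have := hp.two_le
      omega
  · refine RankTwo.hasNormalPComplement_of (Cfsg.pPrimeCore p G) (Cores.coprime_card_pPrimeCore p)
      ⟨((Cfsg.pPrimeCore p G).index).factorization p, ?_⟩
    have h0 : (Cfsg.pPrimeCore p G).index ≠ 0 := Subgroup.index_ne_zero_of_finite
    refine Nat.eq_pow_of_factorization_eq_single h0 ?_
    ext q
    by_cases hqp : q = p
    · subst hqp; simp
    rw [Finsupp.single_eq_of_ne hqp]
    by_contra hne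
    have hmem : q ∈ ((Cfsg.pPrimeCore p G).index).primeFactors :=
      Nat.support_factorization _ ▸ Finsupp.mem_support_iff.2 hne
    obtain ⟨hq, hd, -⟩ := Nat.mem_primeFactors.1 hmem
    have := hlt q hq hd hqp
    have hqodd : Odd q := hodd.of_dvd_nat (hd.trans (Subgroup.index_dvd_card _))
    rw [Nat.odd_iff] at hqodd
    have := hq.two_le
    rcases hcase with h | h
    · omega
    · have := h q hq (hd.trans (Subgroup.index_dvd_card _))
      omega

end Cfsg.Agent.S1455
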