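import Cfsg.Statements.S1445
import Cfsg.Agent.EqLemmas
import Cfsg.Agent.Lib.OddOrder.PrimeFitting

set_option autoImplicit false
open Cfsg
open scoped commutatorElement

namespace Cfsg.Agent.S1445

/-- Let G be a solvable group of odd order, K a normal subgroup and R a subgroup with G = KR and the orders of K and R coprime. Suppose K ∩ C_G(x) = K ∩ C_G(R) for every non-identity x ∈ R, and F(K) ∩ C_G(R) = 1. Then [K, R] is contained in the Fitting subgroup of K. -/
theorem result {G : Type*} [Group G] [Finite G] [Group.IsSolvable G] (hodd : Odd (Nat.card G)) (K R : Subgroup G) [K.Normal] (hKR : K ⊔ R = ⊤) (hcop : (Nat.card K).Coprime (Nat.card R))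
    (hprime : ∀ x ∈ R, x ≠ 1 → K ⊓ Subgroup.centralizer ({x} : Set G) = (K ⊓ Subgroup.centralizer (R : Set G)))
    (hF : Cfsg.fittingOf K ⊓ Subgroup.centralizer (R : Set G) = ⊥) :
    ⁅K, R⁆ ≤ Cfsg.fittingOf K := by
  by_cases hR : R = ⊥
  · rw [hR, Subgroup.commutator_bot_right]; exact bot_le
  obtain ⟨r, hr, hrd⟩ := Nat.exists_prime_and_dvd (mt Subgroup.card_eq_one.1 hR)
  have := Fact.mk hr
  obtain ⟨x, hx⟩ := exists_prime_orderOf_dvd_card' r hrd
  have hxo : orderOf (x : G) = r := (Subgroup.orderOf_coe x).trans hx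
  have hx1 : (x : G) ≠ 1 := fun h => by rw [h, orderOf_one] at hxo; exact hr.one_lt.ne hxo
  set R₀ := Subgroup.zpowers (x : G) with hR₀def
  have hR₀ : R₀ ≤ R := Subgroup.zpowers_le.mpr x.2
  have hnK : ∀ X : Subgroup G, X ≤ Subgroup.normalizer (K : Set G) := fun X => by
    rw [Subgroup.normalizer_eq_top_iff.mpr ‹K.Normal›]; exact le_top
  have hcop₀ : (Nat.card K).Coprime (Nat.card R₀) :=
    hcop.coprime_dvd_right (Subgroup.card_dvd_of_le hR₀)
  have hCK : K ⊓ Subgroup.centralizer (R₀ : Set G) = K ⊓ Subgroup.centralizer (R : Set G) := by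
    rw [← hprime x x.2 hx1, hR₀def, HallHigman.centralizer_zpowers_eq]
  have hF : Cfsg.fittingOf K ⊓ Subgroup.centralizer (R₀ : Set G) = ⊥ := by
    rw [← hF, ← inf_eq_left.mpr (OddUniq.fittingOf_le K), inf_assoc, hCK, ← inf_assoc]
  have h0 := PrimeFitting.commutator_le_fittingOf (r := r) (K := K)
    (hodd.of_dvd_nat (Subgroup.card_subgroup_dvd_card K))
    (by rw [hR₀def, Nat.card_zpowers, hxo]) hcop₀ hF
  have hFn : (Cfsg.fittingOf K).Normal := Cores.map_subtype_normal_of_characteristic K _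
  have hK : K ≤ Cfsg.fittingOf K ⊔ (K ⊓ Subgroup.centralizer (R : Set G)) := by
    conv_lhs => rw [← Coprime.commutator_sup_centralizer (hnK R₀) hcop₀.symm (Or.inr inferInstance)]
    rw [hCK]
    exact sup_le_sup_right h0 _
  rw [Subgroup.commutator_le]
  intro k hk a ha
  obtain ⟨f, hf, c, hc, rfl⟩ := (Coprime.mem_sup_iff (N := Cfsg.fittingOf K)
    (by rw [Subgroup.normalizer_eq_top_iff.mpr hFn]; exact le_top)).mp (hK hk)
  have hca : a * c = c * a := Subgroup.mem_centralizer_iff.mp hc.2 a ha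
  have h1 : ⁅f * c, a⁆ = f * (a * f⁻¹ * a⁻¹) := by
    rw [commutatorElement_def]
    calc f * c * a * (f * c)⁻¹ * a⁻¹ = f * (c * a) * c⁻¹ * f⁻¹ * a⁻¹ := by group
      _ = f * (a * c) * c⁻¹ * f⁻¹ * a⁻¹ := by rw [hca]
      _ = f * (a * f⁻¹ * a⁻¹) := by group
  rw [h1]
  exact mul_mem hf (hFn.conj_mem _ (inv_mem hf) a)

end Cfsg.Agent.S1445
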