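import Cfsg.Statements.S5048
import Cfsg.Agent.Lib.RankOne.RootInvClass

set_option autoImplicit false
open Cfsg

namespace Cfsg.Agent.S5048

/-- Let G be a finite group generated by a set D of root involutions whose odd-order-product graph is connected, with some product of two different commuting members of D again in D. Then the largest solvable normal subgroup of G is the preimage of the centre of G/O₂(G), and the quotient of G by it is a simple group. -/
theorem result {G : Type*} [Group G] [Finite G] {D : Set G} (hD : Cfsg.IsRootInvolutionSet D)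
    (hc : Cfsg.IsConnectedSet (Cfsg.OddAdj D) D) (hDD : (D ∩ Cfsg.commutingProducts D).Nonempty) :
    Cfsg.solvableRadical G = Cfsg.twoZCore G ∧ IsSimpleGroup (G ⧸ Cfsg.twoZCore G) := by
  classical
  obtain ⟨c0, hc0D, a0, ha0, b0, hb0, hab0, hne0, rfl⟩ := hDD
  haveI : Fact (Nat.Prime 2) := ⟨Nat.prime_two⟩
  -- every member lies on a line
  have hline : ∀ a ∈ D, ∃ b ∈ D, b * a = a * b ∧ a * b ∈ D := by
    intro a ha
    have hr : ∀ y, Relation.ReflTransGen (Cfsg.OddAdj D) a0 y → ∃ g : G, g * a0 * g⁻¹ = y := by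
      intro y hy
      induction hy with
      | refl => exact ⟨1, by simp⟩
      | tail _ e ih =>
        obtain ⟨g, rfl⟩ := ih
        obtain ⟨c, -, hc'⟩ := Agent.Involution.exists_conj_of_odd (hD.orderOf_eq _ e.1) (hD.orderOf_eq _ e.2.1) e.2.2.2
        exact ⟨c * g, by rw [← hc']; group⟩
    obtain ⟨g, rfl⟩ := hr a (hc a0 ha0 a ha)
    refine ⟨g * b0 * g⁻¹, hD.conj_mem b0 hb0 g, ?_, ?_⟩
    · rw [conj_mul, conj_mul, hab0]
    · rw [conj_mul]; exact hD.conj_mem _ hc0D g
  -- two members with product of odd order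
  obtain ⟨x0, hx0, hax0⟩ := Agent.RootInv.exists_oddP hD hc ha0 hb0 (fun e => hne0 (by
    rw [← e]; exact Agent.RootInv.mul_self hD ha0))
  -- a normal subgroup containing a member is everything
  have hfull : ∀ N : Subgroup G, N.Normal → ∀ d ∈ D, d ∈ N → N = ⊤ := by
    intro N hN d hd hdN
    rw [eq_top_iff, ← hD.generates, Subgroup.closure_le]
    intro e he
    have hr := hc d hd e he
    clear he
    induction hr with
    | refl => exact hdN
    | tail _ e' ih =>
      obtain ⟨c, -, hc'⟩ := Agent.Involution.exists_conj_of_odd (hD.orderOf_eq _ e'.1) (hD.orderOf_eq _ e'.2.1) e'.2.2.2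
      rw [← hc']
      exact hN.conj_mem _ ih c
  -- a normal subgroup identifying an odd pair is everything
  have hcollapse : ∀ N : Subgroup G, N.Normal → ∀ a ∈ D, ∀ a' ∈ D, Agent.RootInv.OddP a a' → a * a' ∈ N → N = ⊤ := by
    intro N hN a ha a' ha' hodd haa
    obtain ⟨b, hb, hba, habD⟩ := hline a ha
    have hai := Agent.RootInv.inv_eq hD ha
    have hai' := Agent.RootInv.inv_eq hD ha'
    let π := QuotientGroup.mk' N
    have hπa : π a = π a' := by
      rw [← hai]
      exact QuotientGroup.eq.2 (by rw [inv_inv]; exact haa)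
    have hcomm : π b * π a' = π a' * π b := by rw [← hπa, ← map_mul, ← map_mul, hba]
    rcases Agent.RootInv.cases' hD hb ha' with h | h | h
    · exact absurd h (Agent.RootInv.not_commute_line hD ha hb ha' hba habD hodd)
    · -- the images of `b` and `a` agree
      refine hfull N hN (a * b) habD ?_
      rw [← QuotientGroup.eq_one_iff]
      have h1 : π (b * a') * π (b * a') = 1 := by
        rw [map_mul]
        calc π b * π a' * (π b * π a') = π b * π a' * (π a' * π b) := by rw [hcomm]
          _ = π b * (π (a' * a')) * π b := by rw [map_mul]; group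
          _ = π (b * b) := by rw [Agent.RootInv.mul_self hD ha', map_one, mul_one, ← map_mul]
          _ = 1 := by rw [Agent.RootInv.mul_self hD hb, map_one]
      have h2 : π (b * a') = 1 := by
        have ho : Odd (orderOf (π (b * a'))) := Odd.of_dvd_nat h.2 (orderOf_map_dvd π _)
        rcases (Nat.dvd_prime Nat.prime_two).1 (orderOf_dvd_of_pow_eq_one ((sq _).trans h1)) with h3 | h3
        · exact orderOf_eq_one_iff.1 h3
        · rw [h3] at ho
          exact absurd ho (by decide)
      show π (a * b) = 1
      rw [← hba, map_mul, hπa, ← map_mul]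
      exact h2
    · refine hfull N hN _ (Agent.RootInv.four_mem hD hb ha' h) ?_
      rw [← QuotientGroup.eq_one_iff]
      show π (b * a' * (b * a')) = 1
      rw [map_mul, map_mul]
      calc π b * π a' * (π b * π a') = π b * π a' * (π a' * π b) := by rw [hcomm]
        _ = π b * (π (a' * a')) * π b := by rw [map_mul]; group
        _ = π (b * b) := by rw [Agent.RootInv.mul_self hD ha', map_one, mul_one, ← map_mul]
        _ = 1 := by rw [Agent.RootInv.mul_self hD hb, map_one]
  have hO : (Cfsg.pCore 2 G).Normal := Agent.Cores.pCore_normal 2 G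
  have hmemZ : ∀ n : G, n ∈ Cfsg.twoZCore G ↔ ∀ d ∈ D, n * d * n⁻¹ * d⁻¹ ∈ Cfsg.pCore 2 G := by
    intro n
    rw [Cfsg.twoZCore, Subgroup.mem_comap, Subgroup.mem_center_iff]
    constructor
    · intro h d _
      rw [← QuotientGroup.eq_one_iff]
      show QuotientGroup.mk' _ (n * d * n⁻¹ * d⁻¹) = 1
      rw [map_mul, map_mul, map_mul, map_inv, map_inv, ← h (QuotientGroup.mk' _ d)]
      group
    · intro h q
      obtain ⟨g, rfl⟩ := QuotientGroup.mk'_surjective _ q
      have hg : g ∈ Subgroup.closure D := by rw [hD.generates]; exact Subgroup.mem_top g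
      induction hg using Subgroup.closure_induction with
      | mem d hd =>
        have h1 := (QuotientGroup.eq_one_iff _).2 (h d hd)
        change QuotientGroup.mk' (Cfsg.pCore 2 G) (n * d * n⁻¹ * d⁻¹) = 1 at h1
        rw [map_mul, map_mul, map_mul, map_inv, map_inv, mul_inv_eq_one, mul_inv_eq_iff_eq_mul] at h1
        exact h1.symm
      | one => simp
      | mul p q _ _ hp hq => rw [map_mul, mul_assoc, hq, ← mul_assoc, hp, mul_assoc]
      | inv p _ hp =>
        have hp' : Commute (QuotientGroup.mk' (Cfsg.pCore 2 G) p) (QuotientGroup.mk' _ n) := hp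
        rw [map_inv]; exact hp'.inv_left.eq
  -- dichotomy for normal subgroups
  have hdich : ∀ N : Subgroup G, N.Normal → N ≤ Cfsg.twoZCore G ∨ N = ⊤ := by
    intro N hN
    by_cases hall : ∀ d ∈ D, ∀ n ∈ N, d * (n * d * n⁻¹) = n * d * n⁻¹ * d
    · left
      intro n hn
      rw [hmemZ]
      intro d hd
      -- the conjugates of `d` under `N` generate an elementary abelian group
      set T : Set G := {t | ∃ m ∈ N, t = m * d * m⁻¹} with hT
      have hTc : ∀ t ∈ T, ∀ t' ∈ T, t * t' = t' * t := by
        rintro _ ⟨m, hm, rfl⟩ _ ⟨m', hm', rfl⟩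
        have h1 := hall d hd (m⁻¹ * m') (mul_mem (inv_mem hm) hm')
        have h2 := congrArg (fun w => m * w * m⁻¹) h1
        simpa [mul_assoc] using h2
      have hTsq : ∀ t ∈ T, t * t = 1 := by
        rintro _ ⟨m, -, rfl⟩
        exact Agent.RootInv.mul_self hD (hD.conj_mem d hd m)
      have hA2 : IsPGroup 2 (Subgroup.closure T) := by
        haveI : IsMulCommutative (Subgroup.closure T) := Subgroup.isMulCommutative_closure hTc
        have hsq : ∀ w ∈ Subgroup.closure T, w * w = 1 := by
          intro w hw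
          induction hw using Subgroup.closure_induction with
          | mem t ht => exact hTsq t ht
          | one => simp
          | mul p q hp hq h1 h2 =>
            have hpq : p * q = q * p := setLike_mul_comm hp hq
            calc p * q * (p * q) = p * (q * p) * q := by group
              _ = (p * p) * (q * q) := by rw [← hpq]; group
              _ = 1 := by rw [h1, h2, one_mul]
          | inv p _ h1 => rw [← mul_inv_rev, h1, inv_one]
        exact fun w => ⟨1, Subtype.ext (by simpa [pow_two] using hsq w w.2)⟩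
      have hAN : ∀ m ∈ N, ∀ x ∈ Subgroup.closure T, m * x * m⁻¹ ∈ Subgroup.closure T := by
        intro m hm x hx
        induction hx using Subgroup.closure_induction with
        | mem t ht =>
          obtain ⟨m', hm', rfl⟩ := ht
          exact Subgroup.subset_closure ⟨m * m', mul_mem hm hm', by group⟩
        | one => simp
        | mul p q _ _ hp hq => rw [← conj_mul]; exact mul_mem hp hq
        | inv p _ hp => rw [← conj_inv]; exact inv_mem hp
      set R := N ⊓ Subgroup.closure T with hR
      have hR2 : IsPGroup 2 R := hA2.to_le inf_le_right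
      have hRN : (R.subgroupOf N).Normal := ⟨fun x hx m => by
        rw [Subgroup.mem_subgroupOf, hR, Subgroup.mem_inf] at hx ⊢
        exact ⟨(m * x * m⁻¹ : N).2, hAN m m.2 _ hx.2⟩⟩
      have hle : R.subgroupOf N ≤ Cfsg.pCore 2 N :=
        Agent.Cores.le_pCore hRN (hR2.comap_of_injective _ N.subtype_injective)
      have hmemR : n * d * n⁻¹ * d⁻¹ ∈ R := by
        refine Subgroup.mem_inf.2 ⟨?_, mul_mem (Subgroup.subset_closure ⟨n, hn, rfl⟩)
          (inv_mem (Subgroup.subset_closure ⟨1, one_mem N, by group⟩))⟩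
        have := mul_mem hn (hN.conj_mem _ (inv_mem hn) d)
        simpa [mul_assoc] using this
      have h1 : n * d * n⁻¹ * d⁻¹ ∈ (Cfsg.pCore 2 N).map N.subtype :=
        ⟨⟨_, (Subgroup.mem_inf.1 hmemR).1⟩, hle (Subgroup.mem_subgroupOf.2 hmemR), rfl⟩
      haveI := hN
      rw [Agent.Cores.pCore_map_subtype] at h1
      exact h1.1
    · right
      push Not at hall
      obtain ⟨d, hd, n, hn, hne⟩ := hall
      have hd' := hD.conj_mem d hd n
      have hmemN : d * (n * d * n⁻¹) ∈ N := by
        have := mul_mem (hN.conj_mem n hn d) (inv_mem hn)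
        rw [Agent.RootInv.inv_eq hD hd] at this
        simpa [mul_assoc] using this
      rcases Agent.RootInv.cases' hD hd hd' with h | h | h
      · exact absurd h hne
      · exact hcollapse N hN d hd _ hd' h hmemN
      · exact hfull N hN _ (Agent.RootInv.four_mem hD hd hd' h) (mul_mem hmemN hmemN)
  -- the quotient by `O₂` is not abelian
  have hnab : ∀ N : Subgroup G, N ≤ Cfsg.twoZCore G → N ≠ ⊤ := by
    intro N hN he
    have hx : x0 ∈ Cfsg.twoZCore G := hN (he ▸ Subgroup.mem_top x0)
    have h1 := (hmemZ x0).1 hx a0 ha0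
    rw [Agent.RootInv.inv_eq hD hx0, Agent.RootInv.inv_eq hD ha0] at h1
    obtain ⟨k, hk⟩ := (Agent.Cores.isPGroup_pCore 2 G) ⟨_, h1⟩
    have hodd := (Agent.RootInv.oddP_symm hD ha0 hx0 hax0).2
    have h2 : ((x0 * a0) ^ 2) ^ 2 ^ k = 1 := by
      rw [sq, show x0 * a0 * (x0 * a0) = x0 * a0 * x0 * a0 by group]
      exact congrArg Subtype.val hk
    rw [← pow_mul, ← pow_succ'] at h2
    have h4 := (Nat.Coprime.pow_right (k + 1) (Nat.coprime_two_right.2 hodd)).eq_one_of_dvd (orderOf_dvd_of_pow_eq_one h2)
    refine hax0.1 ?_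
    have := orderOf_eq_one_iff.1 h4
    rw [mul_eq_one_iff_eq_inv, Agent.RootInv.inv_eq hD ha0] at this
    exact this.symm
  haveI : Nontrivial (G ⧸ Cfsg.twoZCore G) := QuotientGroup.nontrivial_iff.2 (hnab _ le_rfl)
  have hsimple : IsSimpleGroup (G ⧸ Cfsg.twoZCore G) := ⟨fun H hH => by
    haveI := hH
    rcases hdich (H.comap (QuotientGroup.mk' _)) inferInstance with h | h
    · left
      rw [eq_bot_iff]
      intro q hq
      obtain ⟨g, rfl⟩ := QuotientGroup.mk'_surjective _ q
      exact Subgroup.mem_bot.2 ((QuotientGroup.eq_one_iff g).2 (h hq))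
    · right
      rw [eq_top_iff]
      intro q _
      obtain ⟨g, rfl⟩ := QuotientGroup.mk'_surjective _ q
      have : g ∈ H.comap (QuotientGroup.mk' _) := h ▸ Subgroup.mem_top g
      exact this⟩
  refine ⟨le_antisymm (sSup_le fun N hN => ?_) (le_sSup ⟨Cfsg.twoZCore_normal G, ?_⟩), hsimple⟩
  · rcases hdich N hN.1 with h | h
    · exact h
    · exfalso
      haveI : Group.IsSolvable (⊤ : Subgroup G) := h ▸ hN.2
      haveI : Group.IsSolvable G := Group.isSolvable_of_surjective (f := (Subgroup.topEquiv (G := G)).toMonoidHom)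
        (Subgroup.topEquiv (G := G)).surjective
      -- a simple solvable quotient is abelian
      have hsol : Group.IsSolvable (G ⧸ Cfsg.twoZCore G) :=
        Group.isSolvable_of_surjective (f := QuotientGroup.mk' _) (QuotientGroup.mk'_surjective _)
      have hcomm : ∀ p q : G ⧸ Cfsg.twoZCore G, p * q = q * p := IsSimpleGroup.comm_iff_isSolvable.2 hsol
      refine hnab (Cfsg.twoZCore G) le_rfl ?_
      have hmem : x0 * a0 ∈ Cfsg.twoZCore G := by
        have hsq : (x0 * a0) * (x0 * a0) ∈ Cfsg.twoZCore G := by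
          rw [← QuotientGroup.eq_one_iff]
          show QuotientGroup.mk' _ (x0 * a0 * (x0 * a0)) = 1
          rw [map_mul]
          nth_rewrite 2 [map_mul]
          rw [hcomm (QuotientGroup.mk' _ x0) (QuotientGroup.mk' _ a0), ← map_mul, ← map_mul,
            show x0 * a0 * (a0 * x0) = x0 * (a0 * a0) * x0 by group, Agent.RootInv.mul_self hD ha0, mul_one,
            Agent.RootInv.mul_self hD hx0, map_one]
        obtain ⟨m, hm⟩ := (Agent.RootInv.oddP_symm hD ha0 hx0 hax0).2
        have : x0 * a0 = (x0 * a0 * (x0 * a0)) ^ (m + 1) := by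
          rw [← sq, ← pow_mul, show 2 * (m + 1) = orderOf (x0 * a0) + 1 by omega, pow_succ, pow_orderOf_eq_one,
            one_mul]
        rw [this]
        exact pow_mem hsq _
      exact hcollapse _ (Cfsg.twoZCore_normal G) x0 hx0 a0 ha0 (Agent.RootInv.oddP_symm hD ha0 hx0 hax0) hmem
  · let f := QuotientGroup.mk' (Cfsg.pCore 2 G)
    haveI : Group.IsSolvable (Cfsg.pCore 2 G) := by
      haveI : Group.IsNilpotent (Cfsg.pCore 2 G) := (Agent.Cores.isPGroup_pCore 2 G).isNilpotent
      infer_instance
    have hle : Cfsg.pCore 2 G ≤ Cfsg.twoZCore G := fun x hx => by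
      show f x ∈ Subgroup.center (G ⧸ Cfsg.pCore 2 G)
      rw [show f x = 1 from (QuotientGroup.eq_one_iff x).2 hx]
      exact one_mem _
    let φ : Cfsg.twoZCore G →* Subgroup.center (G ⧸ Cfsg.pCore 2 G) :=
      (f.comp (Cfsg.twoZCore G).subtype).codRestrict _ fun x => x.2
    haveI : Group.IsSolvable (Subgroup.center (G ⧸ Cfsg.pCore 2 G)) :=
      Group.isSolvable_of_comm fun p q => Subtype.ext (Subgroup.mem_center_iff.1 q.2 p)
    refine Group.isSolvable_of_ker_le_range (Subgroup.inclusion hle) φ fun x hx => ?_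
    have h1 : f (x : G) = 1 := congrArg Subtype.val (MonoidHom.mem_ker.1 hx)
    exact ⟨⟨x, (QuotientGroup.eq_one_iff _).1 h1⟩, rfl⟩

end Cfsg.Agent.S5048
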