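import Cfsg.Statements.S0018
import Cfsg.Agent.Lib.Solvable.Fitting

set_option autoImplicit false
open Cfsg

namespace Cfsg.Agent.S0018

/-- A finite solvable group whose Sylow p-subgroups are abelian has p-length one: a Sylow p-subgroup together with the largest normal subgroup of order prime to p generates a normal subgroup. -/
theorem result {G : Type*} [Group G] [Finite G] [Group.IsSolvable G]
    (p : ℕ) [Fact p.Prime] (P : Sylow p G) (hP : IsMulCommutative P) :
    ((P : Subgroup G) ⊔ Cfsg.pPrimeCore p G).Normal := by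
  set Q := Cfsg.pPrimeCore p G
  set f := QuotientGroup.mk' Q
  have hsurj : Function.Surjective f := QuotientGroup.mk'_surjective Q
  have h1 := Solvable.centralizer_pCore_le_of_isSolvable (G := G ⧸ Q) (p := p)
    (Cores.pPrimeCore_quotient_self p)
  have hle : Cfsg.pCore p (G ⧸ Q) ≤ (P : Subgroup G).map f := Cores.pCore_le_sylow (P.mapSurjective hsurj)
  have hge : (P : Subgroup G).map f ≤ Cfsg.pCore p (G ⧸ Q) := by
    refine le_trans ?_ h1
    rintro _ ⟨x, hx, rfl⟩
    refine Subgroup.mem_centralizer_iff.2 fun y hy => ?_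
    obtain ⟨z, hz, rfl⟩ := hle hy
    rw [← map_mul, ← map_mul]
    exact congrArg f (congrArg Subtype.val (mul_comm' (⟨z, hz⟩ : (P : Subgroup G)) ⟨x, hx⟩))
  have heq : (P : Subgroup G) ⊔ Q = (Cfsg.pCore p (G ⧸ Q)).comap f := by
    rw [← le_antisymm hge hle, Subgroup.comap_map_eq, QuotientGroup.ker_mk']
  rw [heq]
  exact (Cores.pCore_normal p _).comap f

end Cfsg.Agent.S0018
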