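import Cfsg.Statements.S5185
import Cfsg.Agent.Lib.EssentialSmall.Basic
import Cfsg.Agent.Lib.GLOrder.Two

set_option autoImplicit false
universe u
open Cfsg

namespace Cfsg.Agent.S5185

open Cfsg.Agent.EssentialSmall
open scoped MatrixGroups

section

variable {H : Type*} [CommGroup H] [Finite H] {p : ℕ} [hp : Fact p.Prime] {A : Subgroup (MulAut H)}

/-- The fixed points of an automorphism. -/
def fixedPts (a : MulAut H) : Subgroup H where
  carrier := {x | a x = x}
  one_mem' := map_one a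
  mul_mem' := fun {x y} (hx : a x = x) (hy : a y = y) => by
    show a (x * y) = x * y
    rw [map_mul, hx, hy]
  inv_mem' := fun {x} (hx : a x = x) => by
    show a x⁻¹ = x⁻¹
    rw [map_inv, hx]

theorem pow_exp (s : Setting p A) (hcard : Nat.card H = p ^ 2) (x : H) : x ^ p = 1 := by
  by_contra hx
  let f : H →* H := powMonoidHom p
  obtain ⟨j, hj, hR⟩ := (Nat.dvd_prime_pow hp.out).1 (hcard ▸ Subgroup.card_subgroup_dvd_card f.range)
  have hj0 : j ≠ 0 := fun e => by
    have hb := Subgroup.eq_bot_of_card_eq f.range (by rw [hR, e, pow_zero])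
    exact hx (Subgroup.mem_bot.1 (hb ▸ (⟨x, rfl⟩ : x ^ p ∈ f.range)))
  have hj2 : j ≠ 2 := fun e => by
    have ht := Subgroup.eq_top_of_card_eq f.range (by rw [hR, e, hcard])
    obtain ⟨y, hy⟩ := exists_prime_orderOf_dvd_card' (G := H) p
      (hcard ▸ dvd_pow_self p two_ne_zero)
    have hinj : Function.Injective f :=
      (Finite.injective_iff_surjective).2 (MonoidHom.range_eq_top.1 ht)
    have h1 : f y = f 1 := by
      show y ^ p = 1 ^ p
      rw [one_pow, ← hy, pow_orderOf_eq_one]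
    rw [hinj h1, orderOf_one] at hy
    exact hp.out.one_lt.ne hy
  obtain rfl : j = 1 := by omega
  refine s.false_of_series f.range f.range le_rfl ?_ ?_ (by rw [hR, pow_one])
    (Nat.le_mul_of_pos_left _ hp.out.pos) (by rw [hR, hcard]; ring_nf; rfl) <;>
  · rintro a - _ ⟨y, rfl⟩
    exact ⟨a y, (map_pow a y p).symm⟩

theorem card_fixed (hcard : Nat.card H = p ^ 2) {a : MulAut H} (ha : a ≠ 1) {k : ℕ} (hk : a ^ p ^ k = 1) :
    Nat.card (fixedPts a) = p := by
  obtain ⟨j, hj, hF⟩ := (Nat.dvd_prime_pow hp.out).1 (hcard ▸ Subgroup.card_subgroup_dvd_card (fixedPts a))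
  have hj2 : j ≠ 2 := fun e => ha (by
    have ht := Subgroup.eq_top_of_card_eq (fixedPts a) (by rw [hF, e, hcard])
    exact MulEquiv.ext fun x => show x ∈ fixedPts a from ht ▸ Subgroup.mem_top x)
  have hP : IsPGroup p (Subgroup.zpowers a) := by
    rintro ⟨y, hy⟩
    obtain ⟨n, rfl⟩ := Subgroup.mem_zpowers_iff.1 hy
    refine ⟨k, Subtype.ext ?_⟩
    rw [Subgroup.coe_pow, Subgroup.coe_one, ← zpow_natCast, ← zpow_mul, mul_comm, zpow_mul,
      zpow_natCast, hk, one_zpow]
  have hmod := hP.card_modEq_card_fixedPoints H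
  have he : Nat.card (MulAction.fixedPoints (Subgroup.zpowers a) H) = Nat.card (fixedPts a) := by
    refine Nat.card_congr (Equiv.subtypeEquivRight fun x => ⟨fun h => h ⟨a, Subgroup.mem_zpowers a⟩, ?_⟩)
    intro hx g
    obtain ⟨g, hg⟩ := g
    have : Subgroup.zpowers a ≤ MulAction.stabilizer (MulAut H) x := Subgroup.zpowers_le.2 hx
    exact this hg
  rw [hcard, he, hF] at hmod
  have hj0 : j ≠ 0 := by
    rintro rfl
    rw [pow_zero] at hmod
    have h1 : p ^ 2 % p = 1 % p := hmod
    rw [Nat.mod_eq_zero_of_dvd (dvd_pow_self p two_ne_zero), Nat.one_mod_eq_one.2 hp.out.ne_one] at h1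
    exact absurd h1 (by norm_num)
  rw [hF, show j = 1 by omega, pow_one]

theorem exists_sl2 (s : Setting p A) (hcard : Nat.card H = p ^ 2) :
    ∃ ρ : SL(2, ZMod p) →* MulAut H, Function.Injective ρ ∧ ρ.range ≤ A := by
  have hexp := pow_exp s hcard
  have hH := s.pgroup
  obtain ⟨a, ha, ha1, hap⟩ := (s.exists_orderOf mul_comm).2
  have hak : a ^ p ^ 1 = 1 := by rw [pow_one, hap]
  set U := fixedPts a
  have hU : Nat.card U = p := card_fixed hcard ha1 hak
  -- an element of `A` moving the fixed line of `a`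
  obtain ⟨γ, hγ, u, hu, hγu⟩ : ∃ γ ∈ A, ∃ u ∈ U, γ u ∉ U := by
    by_contra h
    push Not at h
    exact s.false_of_series U U le_rfl h h hU.le (Nat.le_mul_of_pos_left _ hp.out.pos)
      (by rw [hU, hcard, pow_two])
  have hu1 : u ≠ 1 := fun e => hγu (by rw [e, map_one]; exact one_mem _)
  set v := γ u
  set b := γ * a * γ⁻¹
  have hbA : b ∈ A := mul_mem (mul_mem hγ ha) (inv_mem hγ)
  have hbk : b ^ p ^ 1 = 1 := by rw [conj_pow, hak, mul_one, mul_inv_cancel]
  have hb1 : b ≠ 1 := fun e => ha1 (by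
    have : γ⁻¹ * b * γ = a := by simp [b, mul_assoc]
    rw [← this, e, mul_one, inv_mul_cancel])
  have hbv : b v = v := by
    show γ (a (γ⁻¹ (γ u))) = γ u
    rw [MulAut.inv_apply_self, show a u = u from hu]
  have hW : Nat.card (fixedPts b) = p := card_fixed hcard hb1 hbk
  have hzu : Subgroup.zpowers u = U := by
    refine Subgroup.eq_of_le_of_card_ge (Subgroup.zpowers_le.2 hu) ?_
    rw [hU, Nat.card_zpowers, orderOf_eq_prime (hexp u) hu1]
  have hv1 : v ≠ 1 := fun e => hγu (e ▸ one_mem U)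
  have hzv : Subgroup.zpowers v = fixedPts b := by
    refine Subgroup.eq_of_le_of_card_ge (Subgroup.zpowers_le.2 hbv) ?_
    rw [hW, Nat.card_zpowers, orderOf_eq_prime (hexp v) hv1]
  have huW : b u ≠ u := by
    intro h
    have h1 : u ∈ Subgroup.zpowers v := hzv ▸ h
    have h2 : Subgroup.zpowers u = Subgroup.zpowers v := Subgroup.eq_of_le_of_card_ge
      (Subgroup.zpowers_le.2 h1) (by rw [hzu, hzv, hU, hW])
    exact hγu (show v ∈ U from hzu ▸ h2 ▸ Subgroup.mem_zpowers v)
  -- the exponents of the transvections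
  have hexists : ∀ (f : MulAut H) (x y : H), f ^ p ^ 1 = 1 → Subgroup.zpowers x = fixedPts f →
      Nat.card (fixedPts f) = p → f y ≠ y → ∃ c : ZMod p, c ≠ 0 ∧ f y = x ^ c.val * y := by
    intro f x y hf hx hc hy
    have h : y⁻¹ * f y ∈ fixedPts f := mul_apply_mem_of_card_le hH le_top
      (by rw [Subgroup.card_top, hcard, hc, pow_two]) hf (fun z (hz : f z = z) => show f (f z) = f z by rw [hz, hz])
      (fun _ _ => Subgroup.mem_top _) (Subgroup.mem_top y)
    rw [← hx, Subgroup.mem_zpowers_iff] at h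
    obtain ⟨i, hi⟩ := h
    have hival : x ^ ((i : ZMod p)).val = x ^ i := by
      rw [← zpow_natCast, ZMod.val_intCast]
      conv_rhs => rw [← Int.emod_add_mul_ediv i p]
      rw [zpow_add, zpow_mul, zpow_natCast x p, hexp, one_zpow, mul_one]
    refine ⟨i, fun h0 => hy ?_, ?_⟩
    · rw [h0, ZMod.val_zero, pow_zero] at hival
      rw [← hival] at hi
      exact (inv_mul_eq_one.1 hi.symm).symm
    · rw [hival, hi, mul_comm, mul_inv_cancel_left]
  obtain ⟨c, hc0, hc⟩ := hexists a u v hak hzu hU hγu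
  obtain ⟨d, hd0, hd⟩ := hexists b v u hbk hzv hW huW
  -- coordinates
  haveI : NeZero p := ⟨hp.out.ne_zero⟩
  have hval : ∀ (w : H) (i j : ZMod p), w ^ (i + j).val = w ^ i.val * w ^ j.val := by
    intro w i j
    rw [← pow_add, ZMod.val_add, ← pow_eq_pow_mod _ (hexp w)]
  have hvalmul : ∀ (w : H) (i j : ZMod p), w ^ (i * j).val = (w ^ i.val) ^ j.val := by
    intro w i j
    rw [← pow_mul, ZMod.val_mul, ← pow_eq_pow_mod _ (hexp w)]
  let φ : Multiplicative (Fin 2 → ZMod p) →* H := MonoidHom.mk'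
    (fun w => u ^ (w.toAdd 0).val * v ^ (w.toAdd 1).val) fun x y => by
      simp only [toAdd_mul, Pi.add_apply, hval]
      exact mul_mul_mul_comm _ _ _ _
  have hφs : Function.Surjective φ := by
    intro h
    have hlt : Subgroup.zpowers u < Subgroup.zpowers u ⊔ Subgroup.zpowers v :=
      lt_of_le_of_ne le_sup_left fun e =>
        hγu (show v ∈ U from hzu ▸ e ▸ Subgroup.mem_sup_right (Subgroup.mem_zpowers v))
    have h1 := PGroup.mul_card_le_of_lt hH hlt
    rw [hzu, hU] at h1
    have htop : Subgroup.zpowers u ⊔ Subgroup.zpowers v = ⊤ := by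
      refine Subgroup.eq_top_of_card_eq _ (le_antisymm (Subgroup.card_le_card_group _) ?_)
      rw [hzu] at *
      rw [hcard, pow_two]
      exact h1
    have hle : Subgroup.zpowers u ⊔ Subgroup.zpowers v ≤ φ.range := by
      have h1' : (1 : ZMod p).val = 1 := ZMod.val_one p
      refine sup_le (Subgroup.zpowers_le.2 ⟨Multiplicative.ofAdd ![1, 0], ?_⟩)
        (Subgroup.zpowers_le.2 ⟨Multiplicative.ofAdd ![0, 1], ?_⟩) <;> simp [φ, h1']
    exact hle (htop ▸ Subgroup.mem_top h)
  have hφb : Function.Bijective φ := by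
    refine (Nat.bijective_iff_surjective_and_card φ).2 ⟨hφs, ?_⟩
    rw [Nat.card_congr Multiplicative.toAdd, Nat.card_fun, Nat.card_eq_fintype_card (α := Fin 2),
      Nat.card_eq_fintype_card (α := ZMod p), ZMod.card, Fintype.card_fin, hcard]
  let e := MulEquiv.ofBijective φ hφb
  let τ : SL(2, ZMod p) →* MulAut (Multiplicative (Fin 2 → ZMod p)) := MonoidHom.mk'
    (fun m => AddEquiv.toMultiplicative (Matrix.SpecialLinearGroup.toLin' m).toAddEquiv) fun m m' => by
      rw [map_mul]
      rfl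
  let ρ : SL(2, ZMod p) →* MulAut H := (MulAut.congr e).toMonoidHom.comp τ
  have hρ : ∀ (m : SL(2, ZMod p)) (w : Fin 2 → ZMod p), ρ m (φ (Multiplicative.ofAdd w)) =
      φ (Multiplicative.ofAdd ((m : Matrix (Fin 2) (Fin 2) (ZMod p)).mulVec w)) := by
    intro m w
    show e (τ m (e.symm (e (Multiplicative.ofAdd w)))) = _
    rw [MulEquiv.symm_apply_apply]
    rfl
  refine ⟨ρ, fun m m' h => ?_, ?_⟩
  · refine Subtype.ext (Matrix.ext_iff_mulVec.2 fun w => ?_)
    have := congrArg (fun g : MulAut H => g (φ (Multiplicative.ofAdd w))) h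
    simp only [hρ] at this
    exact Multiplicative.ofAdd.injective (hφb.1 this)
  · have hagree : ∀ (g g' : MulAut H), g u = g' u → g v = g' v → g = g' := by
      intro g g' hgu hgv
      refine MulEquiv.ext fun x => ?_
      obtain ⟨w, rfl⟩ := hφs x
      simp only [φ, MonoidHom.mk'_apply, map_mul, map_pow, hgu, hgv]
    have hu' : φ (Multiplicative.ofAdd ![1, 0]) = u := by simp [φ, ZMod.val_one p]
    have hv' : φ (Multiplicative.ofAdd ![0, 1]) = v := by simp [φ, ZMod.val_one p]
    have hiter : ∀ (f : MulAut H) (x y : H) (r : ZMod p), f x = x → f y = x ^ r.val * y →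
        ∀ n : ℕ, (f ^ n) x = x ∧ (f ^ n) y = (x ^ r.val) ^ n * y := by
      intro f x y r hx hy n
      induction n with
      | zero => simp
      | succ n ih =>
        rw [pow_succ' f, MulAut.mul_apply, MulAut.mul_apply, ih.1, ih.2, map_mul, map_pow, map_pow,
          hx, hy, pow_succ (x ^ r.val), mul_assoc]
        exact ⟨rfl, rfl⟩
    rw [← GLOrder.upperS_sup_lowerS (F := ZMod p) |> fun h => (congrArg (Subgroup.map ρ) h).trans
      (MonoidHom.range_eq_map ρ).symm]
    rw [Subgroup.map_sup]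
    refine sup_le ?_ ?_
    · rintro _ ⟨m, hm, rfl⟩
      obtain ⟨h00, h10, h11⟩ := GLOrder.mem_upperS.1 hm
      obtain ⟨n, hn⟩ : ∃ n : ℕ, (c * (n : ZMod p)) = m 0 1 :=
        ⟨(c⁻¹ * m 0 1).val, by rw [ZMod.natCast_zmod_val, mul_inv_cancel_left₀ hc0]⟩
      rw [show ρ m = a ^ n from hagree _ _ ?_ ?_]
      · exact pow_mem ha n
      · rw [(hiter a u v c hu hc n).1, ← hu', hρ]
        congr 2
        ext i; fin_cases i <;> simp [Matrix.mulVec, dotProduct, Fin.sum_univ_two, h00, h10]
      · rw [(hiter a u v c hu hc n).2, ← hv', hρ]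
        rw [hv', ← pow_mul]
        simp only [φ, MonoidHom.mk'_apply, toAdd_ofAdd]
        have e0 : ((m : Matrix (Fin 2) (Fin 2) (ZMod p)).mulVec ![0, 1]) 0 = c * n := by
          simp [Matrix.mulVec, dotProduct, Fin.sum_univ_two, hn]
        have e1 : ((m : Matrix (Fin 2) (Fin 2) (ZMod p)).mulVec ![0, 1]) 1 = 1 := by
          simp [Matrix.mulVec, dotProduct, Fin.sum_univ_two, h11]
        rw [e0, e1, ZMod.val_one p, pow_one, hvalmul, ZMod.val_natCast, pow_mul]
        exact congrArg (· * v) (pow_eq_pow_mod _ (hexp _)).symm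
    · rintro _ ⟨m, hm, rfl⟩
      obtain ⟨h00, h01, h11⟩ := GLOrder.mem_lowerS.1 hm
      obtain ⟨n, hn⟩ : ∃ n : ℕ, (d * (n : ZMod p)) = m 1 0 :=
        ⟨(d⁻¹ * m 1 0).val, by rw [ZMod.natCast_zmod_val, mul_inv_cancel_left₀ hd0]⟩
      rw [show ρ m = b ^ n from hagree _ _ ?_ ?_]
      · exact pow_mem hbA n
      · rw [(hiter b v u d hbv hd n).2, ← hu', hρ]
        rw [hu', ← pow_mul]
        simp only [φ, MonoidHom.mk'_apply, toAdd_ofAdd]
        have e0 : ((m : Matrix (Fin 2) (Fin 2) (ZMod p)).mulVec ![1, 0]) 0 = 1 := by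
          simp [Matrix.mulVec, dotProduct, Fin.sum_univ_two, h00]
        have e1 : ((m : Matrix (Fin 2) (Fin 2) (ZMod p)).mulVec ![1, 0]) 1 = d * n := by
          simp [Matrix.mulVec, dotProduct, Fin.sum_univ_two, hn]
        rw [e0, e1, ZMod.val_one p, pow_one, hvalmul, ZMod.val_natCast, pow_mul, mul_comm]
        exact congrArg (· * u) (pow_eq_pow_mod _ (hexp _)).symm
      · rw [(hiter b v u d hbv hd n).1, ← hv', hρ]
        congr 2
        ext i; fin_cases i <;> simp [Matrix.mulVec, dotProduct, Fin.sum_univ_two, h01, h11]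

end

/-- Let F be a saturated fusion system over a finite p-group S and H an essential subgroup of order p². Then H is elementary abelian (isomorphic to C_p × C_p) and its F-automorphism group contains a subgroup isomorphic to SL(2,p). -/
theorem result {Ω : Type u} [Group Ω] {S : Subgroup Ω} [Finite S] (p : ℕ) [Fact p.Prime] (hS : IsPGroup p S)
    (F : Cfsg.FusionSystem S) (hF : F.IsSaturated p) (H : Subgroup Ω) (hH : F.IsEssential p H) (hcard : Nat.card H = p ^ 2) :
    Cfsg.IsElementaryAbelian p H ∧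
      ∃ K : Subgroup ↥(F.autGroup H), Nonempty (↥K ≃* Matrix.SpecialLinearGroup (Fin 2) (ZMod p)) := by
  have hs := setting_of_essential hS hF hH
  haveI := Fusion.finite_of_le (S := S) hH.1.1
  have hab : IsMulCommutative H := IsPGroup.isMulCommutative_of_card_eq_prime_sq hcard
  letI : CommGroup H :=
    { (inferInstance : Group H) with mul_comm := fun a b => hab.is_comm.comm a b }
  refine ⟨⟨hab, fun a ha => congrArg Subtype.val (pow_exp hs hcard ⟨a, ha⟩)⟩, ?_⟩
  obtain ⟨ρ, hρi, hρA⟩ := exists_sl2 hs hcard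
  exact ⟨ρ.range.subgroupOf (F.autGroup H),
    ⟨(Subgroup.subgroupOfEquivOfLe hρA).trans (MonoidHom.ofInjective hρi).symm⟩⟩

end Cfsg.Agent.S5185
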