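import Cfsg.Statements.S5186
import Cfsg.Agent.Lib.EssentialSmall.Basic
import Cfsg.Agent.Lib.GLOrder.Torus

set_option autoImplicit false
universe u
open Cfsg

namespace Cfsg.Agent.S5186

open Cfsg.Agent.EssentialSmall
open scoped commutatorElement

theorem cases_of_setting {H : Type*} [Group H] [Finite H] {p : ℕ} [hp : Fact p.Prime]
    {A : Subgroup (MulAut H)} (s : Setting p A) (hcard : Nat.card H = p ^ 3) :
    ((∀ x y : H, x * y = y * x) ∧ ∀ x : H, x ^ p = 1) ∨
      (Odd p ∧ Cfsg.IsExtraspecial p H ∧ ∀ x : H, x ^ p = 1) ∨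
      (p = 2 ∧ Nonempty (H ≃* QuaternionGroup 2)) := by
  have hH := s.pgroup
  have hdiv : ∀ U : Subgroup H, ∃ j ≤ 3, Nat.card U = p ^ j := fun U => by
    have h := Subgroup.card_subgroup_dvd_card U
    rw [hcard] at h
    exact (Nat.dvd_prime_pow hp.out).1 h
  by_cases hab : ∀ x y : H, x * y = y * x
  · by_cases hexp : ∀ x : H, x ^ p = 1
    · exact .inl ⟨hab, hexp⟩
    exfalso
    push Not at hexp
    obtain ⟨x, hx⟩ := hexp
    let f : H →* H := MonoidHom.mk' (fun y => y ^ p) fun a b => (show Commute a b from hab a b).mul_pow p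
    have hn : ∀ U : Subgroup H, U.Normal := fun U => ⟨fun u hu g => by rw [hab g, mul_inv_cancel_right]; exact hu⟩
    haveI := hn f.ker
    haveI := hn f.range
    have hmul : Nat.card f.ker * Nat.card f.range = p ^ 3 := by
      rw [← Subgroup.index_ker, Subgroup.card_mul_index, hcard]
    have hiR : ∀ a ∈ A, ∀ y ∈ f.range, a y ∈ f.range := by
      rintro a - _ ⟨y, rfl⟩
      exact ⟨a y, (map_pow a y p).symm⟩
    have hiK : ∀ a ∈ A, ∀ y ∈ f.ker, a y ∈ f.ker := by
      intro a _ y hy
      show (a y) ^ p = 1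
      rw [← map_pow, show y ^ p = 1 from hy, map_one]
    obtain ⟨i, hi, hR⟩ := hdiv f.range
    obtain ⟨j, hj, hK⟩ := hdiv f.ker
    rw [hR, hK, ← pow_add] at hmul
    have hij : j + i = 3 := Nat.pow_right_injective hp.out.two_le hmul
    have hi0 : i ≠ 0 := fun e => hx (Subgroup.mem_bot.1
      (Subgroup.eq_bot_of_card_eq _ (by rw [hR, e, pow_zero]) ▸ ⟨x, rfl⟩ : x ^ p ∈ (⊥ : Subgroup H)))
    obtain ⟨y, hy, hy1⟩ : ∃ y ∈ f.ker, y ∈ f.range ∧ y ≠ 1 := by
      have hd : p ∣ Nat.card f.range := hR ▸ dvd_pow_self p hi0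
      obtain ⟨⟨y, hy⟩, hyo⟩ := exists_prime_orderOf_dvd_card' p hd
      refine ⟨y, ?_, hy, fun e => ?_⟩
      · show y ^ p = 1
        rw [← hyo, Subgroup.orderOf_mk, pow_orderOf_eq_one]
      · rw [Subgroup.orderOf_mk, e, orderOf_one] at hyo
        exact hp.out.one_lt.ne hyo
    rcases Nat.lt_or_ge i 2 with h2 | h2
    · obtain rfl : i = 1 := by omega
      obtain rfl : j = 2 := by omega
      refine s.false_of_series f.range f.ker ?_ hiR hiK (by rw [hR, pow_one]) (by rw [hK, hR]; ring_nf; rfl)
        (by rw [hK, hcard]; ring_nf; rfl)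
      rintro z hz
      show z ^ p = 1
      have : (⟨z, hz⟩ : f.range) ^ Nat.card f.range = 1 := pow_card_eq_one'
      rw [hR, pow_one] at this
      exact congrArg Subtype.val this
    · have hj0 : j ≠ 0 := by
        intro e
        have hb := Subgroup.eq_bot_of_card_eq f.ker (by rw [hK, e, pow_zero])
        rw [hb, Subgroup.mem_bot] at hy
        exact hy1.2 hy
      obtain rfl : j = 1 := by omega
      obtain rfl : i = 2 := by omega
      refine s.false_of_series f.ker f.range ?_ hiK hiR (by rw [hK, pow_one]) (by rw [hK, hR]; ring_nf; rfl)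
        (by rw [hR, hcard]; ring_nf; rfl)
      have hz : Subgroup.zpowers y = f.ker := by
        refine Subgroup.eq_of_le_of_card_ge (Subgroup.zpowers_le.2 hy) ?_
        rw [hK, pow_one, Nat.card_zpowers]
        exact Nat.le_of_dvd (orderOf_pos y) (orderOf_eq_prime (show y ^ p = 1 from hy) hy1.2 ▸ dvd_rfl)
      rw [← hz]
      exact Subgroup.zpowers_le.2 hy1.1
  -- the nonabelian groups
  refine .inr ?_
  set Z := Subgroup.center H
  haveI : Nontrivial H := by
    by_contra h
    rw [not_nontrivial_iff_subsingleton] at h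
    exact hab fun x y => Subsingleton.elim _ _
  have hZ : Nat.card Z = p := by
    obtain ⟨j, hj, hZ⟩ := hdiv Z
    have h0 : j ≠ 0 := fun e => by
      have := hH.center_nontrivial
      have h1 := Finite.one_lt_card (α := Z)
      rw [hZ, e, pow_zero] at h1
      omega
    have hidx : Z.index * p ^ j = p ^ 3 := by rw [← hZ, Subgroup.index_mul_card, hcard]
    have h2 : j < 2 := by
      by_contra hc
      push Not at hc
      have hle : Z.index ≤ p := by
        have : Z.index * p ^ j ≤ p * p ^ j := by
          rw [hidx, show p * p ^ j = p ^ (j + 1) by ring]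
          exact Nat.pow_le_pow_right hp.out.pos (by omega)
        exact Nat.le_of_mul_le_mul_right this (pow_pos hp.out.pos j)
      have : IsCyclic (H ⧸ Z) := by
        obtain ⟨i, -, hi⟩ := (Nat.dvd_prime_pow hp.out).1 (hcard ▸ Subgroup.index_dvd_card Z)
        rcases i with _ | _ | i
        · haveI : Subsingleton (H ⧸ Z) := (Nat.card_eq_one_iff_unique.1
            (show Nat.card (H ⧸ Z) = 1 by rw [← Subgroup.index_eq_card, hi, pow_zero])).1
          exact isCyclic_of_subsingleton
        · exact isCyclic_of_prime_card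
            (show Nat.card (H ⧸ Z) = p by rw [← Subgroup.index_eq_card, hi, pow_one])
        · rw [hi] at hle
          exact absurd hle (not_le.2 (by simpa using Nat.pow_lt_pow_right hp.out.one_lt (show 1 < i + 2 by omega)))
      exact hab (commutative_of_cyclic_center_quotient (QuotientGroup.mk' Z) (by rw [QuotientGroup.ker_mk']))
    obtain rfl : j = 1 := by omega
    rw [hZ, pow_one]
  have hidxZ : Z.index = p ^ 2 := by
    have h := Subgroup.index_mul_card Z
    rw [hZ, hcard, pow_succ] at h
    exact Nat.eq_of_mul_eq_mul_right hp.out.pos h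
  have hquot : IsMulCommutative (H ⧸ Z) :=
    IsPGroup.isMulCommutative_of_card_eq_prime_sq (p := p) (by rw [← Subgroup.index_eq_card, hidxZ])
  have hcomm : commutator H ≤ Z := Subgroup.Normal.quotient_commutative_iff_commutator_le.1 hquot
  have hpow : ∀ x : H, x ^ p ∈ Z := by
    intro x
    rw [← QuotientGroup.eq_one_iff]
    show (QuotientGroup.mk' Z) (x ^ p) = 1
    rw [map_pow]
    by_contra hne
    suffices hcyc : IsCyclic (H ⧸ Z) from
      hab (commutative_of_cyclic_center_quotient (QuotientGroup.mk' Z) (by rw [QuotientGroup.ker_mk']))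
    refine isCyclic_of_orderOf_eq_card (QuotientGroup.mk' Z x) ?_
    rw [← Subgroup.index_eq_card, hidxZ]
    refine orderOf_eq_prime_pow (by rwa [pow_one]) ?_
    have : (QuotientGroup.mk' Z x) ^ Nat.card (H ⧸ Z) = 1 := pow_card_eq_one'
    rwa [← Subgroup.index_eq_card, hidxZ] at this
  have hZn : ∀ a ∈ A, ∀ x ∈ Z, a x ∈ Z := by
    intro a _ x hx
    refine Subgroup.mem_center_iff.2 fun g => ?_
    obtain ⟨g, rfl⟩ := a.surjective g
    rw [← map_mul, ← map_mul, Subgroup.mem_center_iff.1 hx g]
  rcases eq_or_ne p 2 with rfl | hp2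
  · refine .inr ⟨rfl, ?_⟩
    obtain ⟨r, hr⟩ : ∃ r : H, r ^ 2 ≠ 1 := by
      by_contra h
      push Not at h
      refine hab fun x y => ?_
      have hi : ∀ u : H, u⁻¹ = u := fun u => inv_eq_of_mul_eq_one_left (by rw [← pow_two]; exact h u)
      calc x * y = (x * y)⁻¹ := (hi _).symm
        _ = y * x := by rw [mul_inv_rev, hi, hi]
    set z := r ^ 2
    have hzZ : z ∈ Z := hpow r
    have huniq : ∀ w ∈ Z, w ≠ 1 → w = z := by
      intro w hw hw1
      by_contra hne
      let e : Fin 3 → Z := ![1, ⟨w, hw⟩, ⟨z, hzZ⟩]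
      have he : Function.Injective e := by
        intro i j hij
        have h' := congrArg Subtype.val hij
        fin_cases i <;> fin_cases j <;> first | rfl | (exfalso; simp [e] at h'; grind)
      have := Nat.card_le_card_of_injective e he
      rw [hZ] at this
      simp at this
    have hz2 : z ^ 2 = 1 := by
      have : (⟨z, hzZ⟩ : Z) ^ Nat.card Z = 1 := pow_card_eq_one'
      rw [hZ] at this
      exact congrArg Subtype.val this
    have ho : orderOf r = 4 :=
      orderOf_eq_prime_pow (p := 2) (n := 1) (by rw [pow_one]; exact hr) (by rw [pow_succ, pow_one, pow_mul]; exact hz2)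
    set R := Subgroup.zpowers r
    have hRc : Nat.card R = 4 := by rw [Nat.card_zpowers, ho]
    have hRn : R.Normal := by
      refine Subgroup.normal_of_index_eq_two ?_
      have h := Subgroup.index_mul_card R
      rw [hRc, hcard] at h
      omega
    have hZR : Z ≤ R := by
      intro w hw
      by_cases hw1 : w = 1
      · rw [hw1]; exact one_mem _
      · rw [huniq w hw hw1]; exact pow_mem (Subgroup.mem_zpowers r) 2
    obtain ⟨a, ha, hs⟩ : ∃ a ∈ A, a r ∉ R := by
      by_contra h
      push Not at h
      refine s.false_of_series Z R hZR hZn ?_ (by rw [hZ]) (by rw [hZ, hRc]) (by rw [hRc, hcard]; norm_num)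
      intro a ha x hx
      obtain ⟨n, rfl⟩ := Subgroup.mem_zpowers_iff.1 hx
      rw [map_zpow]
      exact zpow_mem (h a ha) n
    set t := a r
    have ht : t * t = r ^ 2 := by
      rw [← map_mul, ← pow_two]
      refine huniq _ (hZn a ha _ hzZ) fun e => hr ?_
      exact a.injective (e.trans (map_one a).symm)
    have hrel : t * r⁻¹ = r * t := by
      have hc : t * r * t⁻¹ * r⁻¹ ∈ Z := hcomm (Subgroup.commutator_mem_commutator (Subgroup.mem_top t) (Subgroup.mem_top r))
      by_cases h1 : t * r * t⁻¹ * r⁻¹ = 1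
      · exfalso
        have hcm : t * r = r * t := mul_inv_eq_iff_eq_mul.1 (mul_inv_eq_one.1 h1)
        have hlt : R < R ⊔ Subgroup.zpowers t :=
          lt_of_le_of_ne le_sup_left fun e => hs (e ▸ Subgroup.mem_sup_right (Subgroup.mem_zpowers t))
        have htop : R ⊔ Subgroup.zpowers t = ⊤ := by
          refine Subgroup.eq_top_of_card_eq _ ?_
          obtain ⟨j, hj, hc'⟩ := hdiv (R ⊔ Subgroup.zpowers t)
          have h4 : 4 < Nat.card ↥(R ⊔ Subgroup.zpowers t) := by
            rw [← hRc]
            exact lt_of_le_of_ne (Subgroup.card_le_of_le hlt.le) fun e =>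
              hlt.ne (Subgroup.eq_of_le_of_card_ge hlt.le e.symm.le)
          rw [hc'] at h4
          rcases j with _ | _ | _ | _ | j <;> first | omega | simp_all
        have hab' : ∀ g : H, g ∈ Subgroup.centralizer ({r, t} : Set H) := by
          intro g
          refine (show R ⊔ Subgroup.zpowers t ≤ Subgroup.centralizer ({r, t} : Set H) from ?_)
            (htop ▸ Subgroup.mem_top g)
          refine sup_le (Subgroup.zpowers_le.2 ?_) (Subgroup.zpowers_le.2 ?_) <;>
            refine Subgroup.mem_centralizer_iff.2 ?_ <;> rintro u (rfl | rfl)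
          · rfl
          · exact hcm
          · exact hcm.symm
          · rfl
        refine hab fun x y => ?_
        have hrt : r ∈ Z ∧ t ∈ Z := ⟨Subgroup.mem_center_iff.2 fun g =>
            ((Subgroup.mem_centralizer_iff.1 (hab' g)) r (Set.mem_insert _ _)).symm,
          Subgroup.mem_center_iff.2 fun g =>
            ((Subgroup.mem_centralizer_iff.1 (hab' g)) t (Set.mem_insert_of_mem _ rfl)).symm⟩
        have hle : R ⊔ Subgroup.zpowers t ≤ Z :=
          sup_le (Subgroup.zpowers_le.2 hrt.1) (Subgroup.zpowers_le.2 hrt.2)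
        exact ((Subgroup.mem_center_iff.1 (hle (htop ▸ Subgroup.mem_top x))) y).symm
      · have h2 := huniq _ hc h1
        have h4 : r ^ 4 = 1 := ho ▸ pow_orderOf_eq_one r
        have hconj : t * r * t⁻¹ = r⁻¹ := by
          rw [mul_inv_eq_iff_eq_mul.1 h2]
          refine eq_inv_of_mul_eq_one_left ?_
          rw [← h4]
          show r ^ 2 * r * r = r ^ 4
          group
        have := congrArg (·⁻¹) hconj
        simp only [mul_inv_rev, inv_inv] at this
        rw [← mul_assoc] at this
        exact mul_inv_eq_iff_eq_mul.1 this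
    let φ := GLOrder.quaternionHom (n := 2) (show r ^ (2 * 2) = 1 by rw [show 2 * 2 = orderOf r from ho.symm]; exact pow_orderOf_eq_one r) ht hrel
    have hφ : Function.Injective φ := GLOrder.quaternionHom_injective (by rw [ho]) ht hrel hs
    have hbij : Function.Bijective φ := by
      refine (Nat.bijective_iff_injective_and_card φ).2 ⟨hφ, ?_⟩
      rw [Nat.card_eq_fintype_card, QuaternionGroup.card, hcard]
      norm_num
    exact ⟨(MulEquiv.ofBijective φ hbij).symm⟩
  · refine .inl ⟨hp.out.odd_of_ne_two hp2, ?_⟩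
    have hext : Cfsg.IsExtraspecial p H := by
      have hc : commutator H = Z := by
        refine Subgroup.eq_of_le_of_card_ge hcomm ?_
        obtain ⟨j, -, hc⟩ := hdiv (commutator H)
        rw [hZ, hc]
        refine Nat.le_self_pow (fun e => hab fun x y => ?_) p
        have hb := Subgroup.eq_bot_of_card_eq _ (by rw [hc, e, pow_zero])
        have h1 : x * y * x⁻¹ * y⁻¹ ∈ commutator H :=
          Subgroup.commutator_mem_commutator (Subgroup.mem_top x) (Subgroup.mem_top y)
        rw [hb, Subgroup.mem_bot, mul_inv_eq_one, mul_inv_eq_iff_eq_mul] at h1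
        exact h1
      refine ⟨⟨hH, ?_, hc⟩, hZ⟩
      exact le_antisymm (PGroup.frattini_le_of_quotient_elementary hcomm hpow)
        (by rw [show Subgroup.center H = commutator H from hc.symm]; exact PGroup.commutator_le_frattini hH)
    refine ⟨hext, ?_⟩
    by_contra hexp
    push Not at hexp
    obtain ⟨x, hx⟩ := hexp
    have hcz : ∀ u v : H, ⁅v, u⁆ ∈ Z := fun u v =>
      hcomm (Subgroup.commutator_mem_commutator (Subgroup.mem_top v) (Subgroup.mem_top u))
    have hZp : ∀ w ∈ Z, w ^ p = 1 := fun w hw => by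
      have : (⟨w, hw⟩ : Z) ^ Nat.card Z = 1 := pow_card_eq_one'
      rw [hZ] at this
      exact congrArg Subtype.val this
    let f : H →* H := MonoidHom.mk' (fun y => y ^ p) fun u v =>
      PGroup.mul_pow_prime_eq hp.out hp2 (Subgroup.mem_center_iff.1 (hcz u v) u)
        (Subgroup.mem_center_iff.1 (hcz u v) v) (hZp _ (hcz u v))
    have hmul : Nat.card f.ker * Nat.card f.range = p ^ 3 := by
      rw [← Subgroup.index_ker, Subgroup.card_mul_index, hcard]
    have hR : Nat.card f.range ≤ p := hZ ▸ Subgroup.card_le_of_le (by rintro _ ⟨y, rfl⟩; exact hpow y)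
    refine s.false_of_series Z f.ker (fun w hw => hZp w hw) hZn ?_ hZ.le ?_ ?_
    · intro a _ y hy
      show (a y) ^ p = 1
      rw [← map_pow, show y ^ p = 1 from hy, map_one]
    · obtain ⟨j, hj, hK⟩ := hdiv f.ker
      rw [hK, hZ]
      have : j ≤ 2 := by
        by_contra hc
        have h3 : f.ker = ⊤ := Subgroup.eq_top_of_card_eq _ (by rw [hK, hcard, show j = 3 by omega])
        exact hx (show x ∈ f.ker from h3 ▸ Subgroup.mem_top x)
      calc p ^ j ≤ p ^ 2 := Nat.pow_le_pow_right hp.out.pos this
        _ = p * p := pow_two p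
    · rw [hcard, ← hmul, mul_comm p]
      exact Nat.mul_le_mul_left _ hR

/-- Let F be a saturated fusion system over a finite p-group S and H an essential subgroup of order p³. Then H is elementary abelian, or p is odd and H is extraspecial of exponent p, or p = 2 and H is the quaternion group of order 8. -/
theorem result {Ω : Type u} [Group Ω] {S : Subgroup Ω} [Finite S] (p : ℕ) [Fact p.Prime] (hS : IsPGroup p S)
    (F : Cfsg.FusionSystem S) (hF : F.IsSaturated p) (H : Subgroup Ω) (hH : F.IsEssential p H) (hcard : Nat.card H = p ^ 3) :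
    Cfsg.IsElementaryAbelian p H ∨ (Odd p ∧ Cfsg.IsExtraspecial p ↥H ∧ ∀ x ∈ H, x ^ p = 1) ∨
      (p = 2 ∧ Nonempty (↥H ≃* QuaternionGroup 2)) := by
  have hs := setting_of_essential hS hF hH
  haveI := Fusion.finite_of_le (S := S) hH.1.1
  rcases cases_of_setting hs hcard with ⟨hab, hexp⟩ | ⟨hodd, he, hexp⟩ | h
  · exact .inl ⟨⟨⟨hab⟩⟩, fun a ha => congrArg Subtype.val (hexp ⟨a, ha⟩)⟩
  · exact .inr (.inl ⟨hodd, he, fun a ha => congrArg Subtype.val (hexp ⟨a, ha⟩)⟩)
  · exact .inr (.inr h)

end Cfsg.Agent.S5186
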