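import Cfsg.Statements.S4006
import Cfsg.Agent.EqLemmas
import Cfsg.Agent.Lib.CharApp.Burnside
import Cfsg.Agent.Lib.Solvable.Basic
import Cfsg.Agent.Lib.Cores.Basic
import Cfsg.Agent.Lib.PGroup.UniqueOrderP
import Cfsg.Agent.Lib.FPFLie.Main
-- import your own Cfsg.Agent.* helpers here

set_option autoImplicit false
open Cfsg
open scoped commutatorElement

namespace Cfsg.Agent.S4006


section Algebra
variable {N : Type*} [Group N] [Finite N] (φ ψ : N ≃* N)

theorem three_prod (hfpf : ∀ x, φ x = x → x = 1) (h3 : ∀ x, φ (φ (φ x)) = x) (x : N) :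
    x * φ x * φ (φ x) = 1 := by
  have hn : (⇑φ)^[3] = _root_.id := by funext y; exact h3 y
  simpa [List.range_succ, mul_assoc] using
    MonoidHom.FixedPointFree.prod_pow_eq_one (φ := φ) hfpf hn x

theorem three_prod_rev (hfpf : ∀ x, φ x = x → x = 1) (h3 : ∀ x, φ (φ (φ x)) = x) (x : N) :
    φ (φ x) * φ x * x = 1 := by
  have h := three_prod φ hfpf h3 x⁻¹
  simp only [map_inv] at h
  rw [← inv_inj, inv_one]
  simpa [mul_inv_rev, mul_assoc] using h

theorem apply_apply_eq (hfpf : ∀ x, φ x = x → x = 1) (h3 : ∀ x, φ (φ (φ x)) = x) (x : N) :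
    φ (φ x) = x⁻¹ * (φ x)⁻¹ :=
  eq_mul_inv_of_mul_eq (eq_inv_of_mul_eq_one_left (three_prod_rev φ hfpf h3 x))

theorem apply_apply_eq' (hfpf : ∀ x, φ x = x → x = 1) (h3 : ∀ x, φ (φ (φ x)) = x) (x : N) :
    φ (φ x) = (φ x)⁻¹ * x⁻¹ := by
  rw [eq_inv_of_mul_eq_one_right (three_prod φ hfpf h3 x), mul_inv_rev]

theorem commute_apply (hfpf : ∀ x, φ x = x → x = 1) (h3 : ∀ x, φ (φ (φ x)) = x) (x : N) :
    x * φ x = φ x * x := by
  have h := (apply_apply_eq φ hfpf h3 x).symm.trans (apply_apply_eq' φ hfpf h3 x)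
  rw [← mul_inv_rev, ← mul_inv_rev, inv_inj] at h
  exact h.symm

/-- A fixed-point-free `S₃`-action with `(xˢ x)² = 1` for all `x` forces exponent two. -/
theorem sq_eq_one (hfpf : ∀ x, φ x = x → x = 1) (h3 : ∀ x, φ (φ (φ x)) = x)
    (h2 : ∀ x, ψ (ψ x) = x) (hrel : ∀ x, ψ (φ x) = φ (φ (ψ x)))
    (hsq : ∀ x, (ψ x * x) ^ 2 = 1) (hcen : ∀ a b c : N, ⁅a, b⁆ * c = c * ⁅a, b⁆) (x : N) :
    x ^ 2 = 1 := by
  classical
  set C : Set N := {a | ψ a = a} with hC
  have hmemC : ∀ a, a ∈ C ↔ ψ a = a := fun a => Iff.rfl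
  have hA := apply_apply_eq φ hfpf h3
  have hA' := apply_apply_eq' φ hfpf h3
  have hC2 : ∀ a ∈ C, a * a = 1 := by
    intro a ha
    have h := hsq (φ a)
    rw [hrel, (hmemC a).1 ha, hA, inv_mul_cancel_right, pow_two, ← mul_inv_rev, inv_eq_one] at h
    exact h
  have hinv : ∀ a ∈ C, a⁻¹ = a := fun a ha => inv_eq_of_mul_eq_one_right (hC2 a ha)
  have hmul : ∀ a ∈ C, ∀ b ∈ C, a * b ∈ C := fun a ha b hb => by
    rw [hmemC, map_mul, (hmemC a).1 ha, (hmemC b).1 hb]
  have hCc : ∀ a ∈ C, ∀ b ∈ C, a * b = b * a := fun a ha b hb => by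
    calc a * b = (a * b)⁻¹ := (hinv _ (hmul a ha b hb)).symm
      _ = b * a := by rw [mul_inv_rev, hinv a ha, hinv b hb]
  have hCB : ∀ a ∈ C, ∀ b ∈ C, a * φ b = φ b * a := by
    intro a ha b hb
    -- the two commutators coincide
    have hab := commute_apply φ hfpf h3 (a * b)
    rw [map_mul] at hab
    have hAB : φ a * φ b = φ b * φ a := by rw [← map_mul, ← map_mul, hCc a ha b hb]
    have hAa := commute_apply φ hfpf h3 a
    have hBb := commute_apply φ hfpf h3 b
    have e1 : a * b * (φ a * φ b) = ⁅b, φ a⁆ * (φ a * (a * (b * φ b))) := by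
      calc a * b * (φ a * φ b) = a * (⁅b, φ a⁆ * (φ a * b)) * φ b := by
            rw [commutatorElement_def]; group
        _ = ⁅b, φ a⁆ * (a * φ a) * (b * φ b) := by
            rw [← mul_assoc a, ← hcen b (φ a) a]; simp only [mul_assoc]
        _ = _ := by rw [hAa]; simp only [mul_assoc]
    have e2 : φ a * φ b * (a * b) = ⁅φ b, a⁆ * (φ a * (a * (b * φ b))) := by
      calc φ a * φ b * (a * b) = φ a * (⁅φ b, a⁆ * (a * φ b)) * b := by
            rw [commutatorElement_def]; group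
        _ = ⁅φ b, a⁆ * (φ a * a * (φ b * b)) := by
            rw [← mul_assoc (φ a), ← hcen (φ b) a (φ a)]; simp only [mul_assoc]
        _ = _ := by rw [← hBb]; simp only [mul_assoc]
    rw [e1, e2, mul_left_inj] at hab
    -- so the commutator is fixed by `φ`
    have hfix : φ ⁅φ b, a⁆ = ⁅φ b, a⁆ := by
      have hbB : φ (φ b) = b * φ b := by
        rw [hA, hinv b hb, ← map_inv, hinv b hb]
      rw [map_commutatorElement, hbB]
      have : ⁅b * φ b, φ a⁆ = ⁅b, φ a⁆ := by
        simp only [commutatorElement_def]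
        calc b * φ b * φ a * (b * φ b)⁻¹ * (φ a)⁻¹
            = b * (φ b * φ a) * (φ b)⁻¹ * b⁻¹ * (φ a)⁻¹ := by group
          _ = _ := by rw [← hAB]; group
      rw [this, hab]
    have := hfpf _ hfix
    rw [commutatorElement_eq_one_iff_mul_comm] at this
    exact this.symm
  set S : Set N := C ∪ φ '' C with hS
  have hScomm : ∀ a ∈ S, ∀ b ∈ S, a * b = b * a := by
    rintro a (ha | ⟨a, ha, rfl⟩) b (hb | ⟨b, hb, rfl⟩)
    · exact hCc a ha b hb
    · exact hCB a ha b hb
    · exact (hCB b hb a ha).symm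
    · rw [← map_mul, ← map_mul, hCc a ha b hb]
  set K : Subgroup N := Subgroup.closure S ⊔ commutator N with hK
  have hKφ : ∀ k ∈ K, φ k ∈ K := by
    have : K ≤ K.comap (φ : N →* N) := by
      rw [hK]
      refine sup_le ((Subgroup.closure_le _).2 ?_) ?_
      · rintro a (ha | ⟨a, ha, rfl⟩)
        · exact le_sup_left (a := Subgroup.closure S) (Subgroup.subset_closure (Or.inr ⟨a, ha, rfl⟩))
        · show φ (φ a) ∈ Subgroup.closure S ⊔ commutator N
          rw [hA]
          exact le_sup_left (a := Subgroup.closure S) (mul_mem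
            (inv_mem (Subgroup.subset_closure (Or.inl ha)))
            (inv_mem (Subgroup.subset_closure (Or.inr ⟨a, ha, rfl⟩))))
      · rw [← Subgroup.map_le_iff_le_comap]
        refine le_trans ?_ le_sup_right
        rw [_root_.commutator_def, Subgroup.map_commutator]
        exact Subgroup.commutator_mono le_top le_top
    exact fun k hk => this hk
  have hu : ∀ x, ψ x * x ∈ K := by
    intro x
    set u := ψ x * x with hu
    set t := u⁻¹ * ψ u with ht
    have ht' : t = ⁅x⁻¹, (ψ x)⁻¹⁆ := by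
      rw [ht, hu, map_mul, h2, commutatorElement_def]; group
    have htK : t ∈ commutator N := by
      rw [ht', _root_.commutator_def]
      exact Subgroup.commutator_mem_commutator trivial trivial
    have hψt : ψ t = t⁻¹ := by rw [ht, map_mul, map_inv, h2]; group
    have hfix : u * (φ t)⁻¹ ∈ C := by
      rw [hmemC, map_mul, map_inv, hrel, hψt, map_inv, map_inv, inv_inv, hA]
      rw [show ψ u = u * t by rw [ht]; group]
      group
    have := mul_mem (s := K) (le_sup_left (a := Subgroup.closure S)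
      (Subgroup.subset_closure (Or.inl hfix)))
      (hKφ t (le_sup_right (a := Subgroup.closure S) htK))
    rwa [inv_mul_cancel_right] at this
  have hKtop : K = ⊤ := by
    rw [eq_top_iff]
    rintro y -
    obtain ⟨z, rfl⟩ := MonoidHom.FixedPointFree.commutatorMap_surjective (φ := φ) hfpf y
    rw [MonoidHom.commutatorMap_apply, div_eq_mul_inv]
    -- `w = z⁻¹`
    have h1 : φ (φ (ψ z⁻¹)) * φ z⁻¹ ∈ K := by rw [← hrel]; exact hu _
    have h2' : φ (φ (ψ z⁻¹)) * φ (φ z⁻¹) ∈ K := by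
      rw [← map_mul, ← map_mul]; exact hKφ _ (hKφ _ (hu _))
    have h3' := mul_mem (inv_mem h2') h1
    rw [mul_inv_rev, mul_assoc, inv_mul_cancel_left] at h3'
    have h4 := hKφ _ h3'
    rw [map_mul, map_inv, h3] at h4
    have h5 := hKφ _ h4
    rw [map_mul, map_inv, h3, map_inv, inv_inv] at h5
    have h6 := inv_mem h5
    simp only [map_inv, mul_inv_rev, inv_inv] at h6
    exact h6
  have hcenC : commutator N ≤ Subgroup.center N := by
    rw [_root_.commutator_def, Subgroup.commutator_le]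
    intro a _ b _
    rw [Subgroup.mem_center_iff]
    exact fun c => (hcen a b c).symm
  have hSZ : S ⊆ Subgroup.center N := by
    intro a ha
    rw [SetLike.mem_coe, Subgroup.mem_center_iff]
    intro g
    have : K ≤ Subgroup.centralizer {a} := by
      rw [hK]
      refine sup_le ((Subgroup.closure_le _).2 fun b hb => ?_) (hcenC.trans (Subgroup.center_le_centralizer _))
      rw [SetLike.mem_coe, Subgroup.mem_centralizer_singleton_iff]
      exact hScomm b hb a ha
    exact Subgroup.mem_centralizer_singleton_iff.1 (this (hKtop ▸ Subgroup.mem_top g))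
  have hZ : ∀ g : N, g ∈ Subgroup.center N := fun g => by
    have : K ≤ Subgroup.center N := sup_le ((Subgroup.closure_le _).2 hSZ) hcenC
    exact this (hKtop ▸ Subgroup.mem_top g)
  have hcomm : ∀ a b : N, a * b = b * a := fun a b => Subgroup.mem_center_iff.1 (hZ b) a
  let T : Subgroup N :=
    { carrier := {a | a * a = 1}
      one_mem' := one_mul 1
      mul_mem' := fun {a b} (ha : a * a = 1) (hb : b * b = 1) => by
        show a * b * (a * b) = 1
        rw [mul_assoc, ← mul_assoc b, hcomm b a, mul_assoc a b b, hb, mul_one, ha]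
      inv_mem' := fun {a} (ha : a * a = 1) => by
        show a⁻¹ * a⁻¹ = 1
        rw [← mul_inv_rev, ha, inv_one] }
  have hKT : K ≤ T := by
    refine sup_le ((Subgroup.closure_le _).2 ?_) ?_
    · rintro a (ha | ⟨a, ha, rfl⟩)
      · exact hC2 a ha
      · show φ a * φ a = 1
        rw [← map_mul, hC2 a ha, map_one]
    · rw [_root_.commutator_def, Subgroup.commutator_le]
      intro a _ b _
      show ⁅a, b⁆ * ⁅a, b⁆ = 1
      rw [commutatorElement_eq_one_iff_mul_comm.2 (hcomm a b), mul_one]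
  rw [pow_two]
  exact hKT (hKtop ▸ Subgroup.mem_top x)

end Algebra

section Main
variable {G : Type*} [Group G] [Finite G]

theorem cases4 (h : Set.range (orderOf : G → ℕ) = {k : ℕ | 1 ≤ k ∧ k ≤ 4}) (g : G) :
    g ^ 4 = 1 ∨ g ^ 3 = 1 := by
  have hg : 1 ≤ orderOf g ∧ orderOf g ≤ 4 := h.le ⟨g, rfl⟩
  by_cases h3 : orderOf g = 3
  · exact Or.inr (h3 ▸ pow_orderOf_eq_one g)
  · refine Or.inl (orderOf_dvd_iff_pow_eq_one.1 ?_)
    obtain ⟨h1, h4⟩ := hg
    interval_cases (orderOf g) <;> omega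

theorem no_mixed (hord : ∀ g : G, g ^ 4 = 1 ∨ g ^ 3 = 1) {a b : G} (hab : a * b = b * a)
    (ha : a ^ 4 = 1) (hb : b ^ 3 = 1) : a = 1 ∨ b = 1 := by
  rcases hord (a * b) with h | h
  · right
    rw [Commute.mul_pow hab, ha, one_mul, pow_succ, hb, one_mul] at h
    exact h
  · left
    rw [Commute.mul_pow hab, hb, mul_one] at h
    rw [pow_succ, h, one_mul] at ha
    exact ha

theorem eq_one_of_pow {g : G} (h3 : g ^ 3 = 1) (h4 : g ^ 4 = 1) : g = 1 := by
  rwa [pow_succ, h3, one_mul] at h4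

theorem conj_pow_eq {y v : G} (n : ℕ) : y ^ n * v * (y ^ n)⁻¹ = ((MulAut.conj y) ^ n) v := by
  rw [← map_pow]
  rfl

/-- Commuting elements of order three acting on an abelian fixed point free exponent two module. -/
theorem mem_zpowers_of_commute (hord : ∀ g : G, g ^ 4 = 1 ∨ g ^ 3 = 1) (V : Subgroup G) [V.Normal]
    (hV : ∀ v ∈ V, v ^ 2 = 1) (hc : ∀ u ∈ V, ∀ v ∈ V, u * v = v * u) {v₀ : G} (hv : v₀ ∈ V)
    (hv1 : v₀ ≠ 1) {a b : G} (ha : a ^ 3 = 1) (ha1 : a ≠ 1) (hb : b ^ 3 = 1)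
    (hab : a * b = b * a) : b ∈ Subgroup.zpowers a := by
  by_contra hnot
  have hne : ∀ k : ℕ, b * a ^ k ≠ 1 := fun k e => hnot (by
    rw [eq_inv_of_mul_eq_one_left e]
    exact inv_mem (Subgroup.npow_mem_zpowers a k))
  have hb1 : b ≠ 1 := by simpa using hne 0
  have hfp : ∀ c : G, c ^ 3 = 1 → c ≠ 1 → ∀ v ∈ V, c * v = v * c → v = 1 := fun c hc3 hc1 v hvV e =>
    (no_mixed hord e.symm (by rw [show 4 = 2 * 2 from rfl, pow_mul, hV v hvV, one_pow]) hc3).resolve_right hc1
  let _ : CommGroup V := { (inferInstance : Group V) with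
    mul_comm := fun x y => Subtype.ext (hc x x.2 y y.2) }
  let α : G → V →* V := fun g => (MulAut.conjNormal g : V ≃* V).toMonoidHom
  have hα : ∀ g h v, α (g * h) v = α g (α h v) := fun g h v => by
    simp [α, map_mul]
  have hsum : ∀ c : G, c ^ 3 = 1 → c ≠ 1 → ∀ v : V, v * α c v * α (c * c) v = 1 := by
    intro c hc3 hc1 v
    have hh : α c (v * α c v * α (c * c) v) = v * α c v * α (c * c) v := by
      rw [map_mul, map_mul, ← hα, ← hα, ← mul_assoc c, show c * c * c = 1 by
        rw [← hc3, pow_succ, pow_two]]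
      have : α 1 v = v := by simp [α]
      rw [this, mul_comm, ← mul_assoc]
    refine Subtype.ext (hfp c hc3 hc1 _ (Subtype.mem _) ?_)
    have := congrArg Subtype.val hh
    simp only [α, MulEquiv.coe_toMonoidHom, MulAut.conjNormal_apply] at this
    exact mul_inv_eq_iff_eq_mul.1 this
  have hpow : ∀ k, (b * a ^ k) ^ 3 = 1 := fun k => by
    rw [Commute.mul_pow ((Commute.symm hab).pow_right k), hb, one_mul, ← pow_mul, mul_comm, pow_mul,
      ha, one_pow]
  let v : V := ⟨v₀, hv⟩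
  have key : ∀ g : G, α g v * α g (α a v) * α g (α (a * a) v) = 1 := fun g => by
    rw [← map_mul, ← map_mul, hsum a ha ha1 v, map_one]
  have e0 := hsum b hb hb1 v
  have e1 := hsum (b * a) (by simpa using hpow 1) (by simpa using hne 1) v
  have e2 := hsum (b * (a * a)) (by simpa [pow_two] using hpow 2)
    (by simpa [pow_two] using hne 2) v
  have hA : a * a * a = 1 := by rw [← ha, pow_succ, pow_two]
  have hba : b * a * (b * a) = b * b * (a * a) := by
    rw [mul_assoc, ← mul_assoc a, hab, mul_assoc b a a, ← mul_assoc]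
  have hbaa : b * (a * a) * (b * (a * a)) = b * b * a := by
    have hc2 : (a * a) * b = b * (a * a) := by rw [mul_assoc, hab, ← mul_assoc, hab, mul_assoc]
    rw [mul_assoc, ← mul_assoc (a * a), hc2, mul_assoc b (a * a), ← mul_assoc (a * a), hA, one_mul,
      ← mul_assoc]
  rw [hba] at e1
  rw [hbaa] at e2
  have k1 := key b
  have k2 := key (b * b)
  simp only [← hα] at k1 k2
  have hprod : v ^ 3 = 1 := by
    have : v ^ 3 * (α b v * α (b * a) v * α (b * (a * a)) v) *
        (α (b * b) v * α (b * b * a) v * α (b * b * (a * a)) v) =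
        (v * α b v * α (b * b) v) * (v * α (b * a) v * α (b * b * (a * a)) v) *
        (v * α (b * (a * a)) v * α (b * b * a) v) := by
      simp only [pow_succ, pow_zero, one_mul, mul_comm, mul_left_comm, mul_assoc]
    rwa [e0, e1, e2, k1, k2, mul_one, mul_one, one_mul, one_mul] at this
  have h32 : v₀ ^ 3 = 1 := congrArg Subtype.val hprod
  rw [pow_succ, hV v₀ hv, one_mul] at h32
  exact hv1 h32

theorem pCore_quotient_eq_bot (p : ℕ) [Fact p.Prime] :
    Cfsg.pCore p (G ⧸ Cfsg.pCore p G) = ⊥ := by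
  have h := (Cores.isPGroup_pCore p (G ⧸ Cfsg.pCore p G)).comap_of_ker_isPGroup
    (QuotientGroup.mk' (Cfsg.pCore p G)) (by
      rw [QuotientGroup.ker_mk']; exact Cores.isPGroup_pCore p G)
  have h2 := Cores.le_pCore ((Cores.pCore_normal p (G ⧸ Cfsg.pCore p G)).comap _) h
  rw [eq_bot_iff]
  intro q hq
  obtain ⟨g, rfl⟩ := QuotientGroup.mk_surjective q
  rw [Subgroup.mem_bot, QuotientGroup.eq_one_iff]
  exact h2 hq

theorem two_or_three (hord : ∀ g : G, g ^ 4 = 1 ∨ g ^ 3 = 1) {p : ℕ} (hp : p.Prime)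
    (hd : p ∣ Nat.card G) : p = 2 ∨ p = 3 := by
  have := Fact.mk hp
  obtain ⟨g, hg⟩ := exists_prime_orderOf_dvd_card' p hd
  rcases hord g with h | h <;> rw [← orderOf_dvd_iff_pow_eq_one, hg] at h
  · exact Or.inl ((Nat.prime_dvd_prime_iff_eq hp Nat.prime_two).1 (hp.dvd_of_dvd_pow (show p ∣ 2 ^ 2 by simpa using h)))
  · exact Or.inr ((Nat.prime_dvd_prime_iff_eq hp Nat.prime_three).1 h)

theorem solvable (hord : ∀ g : G, g ^ 4 = 1 ∨ g ^ 3 = 1) : Group.IsSolvable G := by
  have hn : (Nat.card G) ≠ 0 := Nat.card_pos.ne'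
  refine CharApp.isSolvable_of_card_eq_prime_pow_mul 2 3 Nat.prime_two Nat.prime_three
    _ G rfl ((Nat.card G).factorization 2) ((Nat.card G).factorization 3) ?_
  refine Nat.eq_of_factorization_eq hn (by positivity) fun q => ?_
  rw [Nat.factorization_mul (by positivity) (by positivity), Finsupp.add_apply,
    Nat.Prime.factorization_pow Nat.prime_two, Nat.Prime.factorization_pow Nat.prime_three]
  by_cases hq : q.Prime ∧ q ∣ Nat.card G
  · rcases two_or_three hord hq.1 hq.2 with rfl | rfl <;> simp [Finsupp.single_apply]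
  · have h0 : (Nat.card G).factorization q = 0 := by
      rw [Nat.factorization_eq_zero_iff]
      tauto
    rw [h0]
    rcases eq_or_ne q 2 with rfl | h2
    · simp [h0, Finsupp.single_apply]
    · rcases eq_or_ne q 3 with rfl | h3
      · simp [h0, Finsupp.single_apply]
      · simp [Finsupp.single_apply, Ne.symm h2, Ne.symm h3]

theorem orders_quot (hord : ∀ g : G, g ^ 4 = 1 ∨ g ^ 3 = 1) (N : Subgroup G) [N.Normal]
    (q : G ⧸ N) : q ^ 4 = 1 ∨ q ^ 3 = 1 := by
  obtain ⟨g, rfl⟩ := QuotientGroup.mk_surjective q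
  exact (hord g).imp (fun h => by rw [← QuotientGroup.mk_pow, h, QuotientGroup.mk_one])
    (fun h => by rw [← QuotientGroup.mk_pow, h, QuotientGroup.mk_one])

theorem pow_four_of_mem (hord : ∀ g : G, g ^ 4 = 1 ∨ g ^ 3 = 1) {N : Subgroup G}
    (hN : IsPGroup 2 ↥N) {x : G} (hx : x ∈ N) : x ^ 4 = 1 := by
  refine (hord x).elim id fun h3 => ?_
  obtain ⟨k, hk⟩ := hN.exists_card_eq
  have h2 : orderOf x ∣ 2 ^ k := hk ▸ Subgroup.orderOf_dvd_natCard _ hx
  have h1 : orderOf x = 1 := Nat.eq_one_of_dvd_coprimes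
    (Nat.Coprime.pow_right k (by norm_num : Nat.Coprime 3 2)) (orderOf_dvd_of_pow_eq_one h3) h2
  rw [orderOf_eq_one_iff.1 h1, one_pow]

theorem pow_three_of_mem (hord : ∀ g : G, g ^ 4 = 1 ∨ g ^ 3 = 1) {N : Subgroup G}
    (hN : IsPGroup 3 ↥N) {x : G} (hx : x ∈ N) : x ^ 3 = 1 := by
  refine (hord x).elim (fun h4 => ?_) id
  obtain ⟨k, hk⟩ := hN.exists_card_eq
  have h2 : orderOf x ∣ 3 ^ k := hk ▸ Subgroup.orderOf_dvd_natCard _ hx
  have h1 : orderOf x = 1 := Nat.eq_one_of_dvd_coprimes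
    (Nat.Coprime.pow_right k (by norm_num : Nat.Coprime 4 3)) (orderOf_dvd_of_pow_eq_one h4) h2
  rw [orderOf_eq_one_iff.1 h1, one_pow]

theorem isPGroup_two_of (hord : ∀ g : G, g ^ 4 = 1) : IsPGroup 2 G :=
  fun g => ⟨2, hord g⟩

theorem nilpotencyClass_le_two {N : Type*} [Group N] [Group.IsNilpotent N]
    (h : (⊤ : Subgroup N).lowerCentralSeries 2 = ⊥) : Group.nilpotencyClass N ≤ 2 := by
  rw [← Subgroup.lowerCentralSeries_eq_bot_iff_nilpotencyClass_le]
  exact h

theorem central_of_lcs {N : Type*} [Group N] (h : (⊤ : Subgroup N).lowerCentralSeries 2 = ⊥)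
    (a b c : N) : ⁅a, b⁆ * c = c * ⁅a, b⁆ := by
  rw [← commutatorElement_eq_one_iff_mul_comm, ← Subgroup.mem_bot, ← h]
  exact Subgroup.commutator_mem_commutator
    (Subgroup.commutator_mem_commutator trivial trivial) trivial

theorem conj_conjNormal {N : Subgroup G} [N.Normal] (g h : G) (x : N) :
    MulAut.conjNormal g (MulAut.conjNormal h x) = MulAut.conjNormal (g * h) x := by
  rw [map_mul, MulAut.mul_apply]

theorem lcs_two (hord : ∀ g : G, g ^ 4 = 1 ∨ g ^ 3 = 1) (N : Subgroup G) [N.Normal]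
    (hN : IsPGroup 2 ↥N) (hN1 : N ≠ ⊥) {y : G} (hy : y ^ 3 = 1) (hy1 : y ≠ 1) :
    (∀ x : N, MulAut.conjNormal y x = x → x = 1) ∧ (⊤ : Subgroup ↥N).lowerCentralSeries 2 = ⊥ := by
  have hfpf : ∀ x : N, MulAut.conjNormal y x = x → x = 1 := by
    intro x hx
    have := congrArg Subtype.val hx
    rw [MulAut.conjNormal_apply, mul_inv_eq_iff_eq_mul] at this
    exact Subtype.ext ((no_mixed hord this.symm (pow_four_of_mem hord hN x.2) hy).resolve_right hy1)
  refine ⟨hfpf, ?_⟩
  have := Fact.mk Nat.prime_three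
  have : Group.IsNilpotent ↥N := hN.isNilpotent
  have hα : orderOf (MulAut.conjNormal y : MulAut ↥N) = 3 := by
    refine orderOf_eq_prime (by rw [← map_pow, hy, map_one]) fun e => ?_
    obtain ⟨⟨x, hx⟩, hx1⟩ := (Subgroup.ne_bot_iff_exists_ne_one.1 hN1 : ∃ a : N, a ≠ 1)
    exact hx1 (hfpf ⟨x, hx⟩ (by rw [e]; rfl))
  exact (FPFLie.class_bound (p := 3) (MulAut.conjNormal y : MulAut ↥N) hα hfpf).2 rfl

/-- The case of a normal two-subgroup. -/
theorem two_case (h : Set.range (orderOf : G → ℕ) = {k : ℕ | 1 ≤ k ∧ k ≤ 4})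
    (hN1 : Cfsg.pCore 2 G ≠ ⊥) :
    ∃ (N : Subgroup G) (_ : N.Normal),
      (IsPGroup 2 ↥N ∧ Monoid.exponent ↥N = 4 ∧ Group.nilpotencyClass ↥N ≤ 2 ∧ N.index = 3) ∨
      (Cfsg.IsElementaryAbelian 2 N ∧ Nonempty (G ⧸ N ≃* Equiv.Perm (Fin 3))) := by
  classical
  have hord := cases4 h
  have := Fact.mk Nat.prime_two
  have := Fact.mk Nat.prime_three
  set N := Cfsg.pCore 2 G with hNdef
  haveI hNn : N.Normal := Cores.pCore_normal 2 G
  have hN2 : IsPGroup 2 ↥N := Cores.isPGroup_pCore 2 G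
  haveI hGsol := solvable hord
  -- a normal elementary abelian two-subgroup
  haveI : Group.IsSolvable ↥N := inferInstance
  obtain ⟨q, hq, V, hVn, hV1, hVN, hVc, hVq, hVe, -⟩ := Solvable.exists_minimal_normal_pGroup hN1
  haveI := hVn
  obtain ⟨⟨v₀, hv⟩, hv1'⟩ := (Subgroup.ne_bot_iff_exists_ne_one.1 hV1 : ∃ a : V, a ≠ 1)
  have hv1 : v₀ ≠ 1 := fun e => hv1' (Subtype.ext e)
  have hV2 : ∀ v ∈ V, v ^ 2 = 1 := by
    intro v hvV
    rcases two_or_three hord hq (by
      have hd : orderOf v₀ ∣ q := orderOf_dvd_of_pow_eq_one (hVe v₀ hv)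
      have : orderOf v₀ = q := (hq.eq_one_or_self_of_dvd _ hd).resolve_left
        (fun e => hv1 (orderOf_eq_one_iff.1 e))
      exact this ▸ orderOf_dvd_natCard v₀) with rfl | rfl
    · exact hVe v hvV
    · exact absurd (eq_one_of_pow (hVe v₀ hv) (pow_four_of_mem hord hN2 (hVN hv))) hv1
  have hVcomm : ∀ u ∈ V, ∀ v ∈ V, u * v = v * u := fun u hu v hv' =>
    congrArg Subtype.val (hVc.is_comm.comm ⟨u, hu⟩ ⟨v, hv'⟩)
  -- an element of order three generating a Sylow subgroup
  obtain ⟨y, hy3⟩ : ∃ y : G, orderOf y = 3 := h.ge (show (3:ℕ) ∈ {k : ℕ | 1 ≤ k ∧ k ≤ 4} by simp)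
  have hy : y ^ 3 = 1 := hy3 ▸ pow_orderOf_eq_one y
  have hy1 : y ≠ 1 := fun e => by rw [e, orderOf_one] at hy3; omega
  obtain ⟨hfpf, hlcs⟩ := lcs_two hord N hN2 hN1 hy hy1
  have hcent : ∀ b : G, b ^ 3 = 1 → b * y = y * b → b ∈ Subgroup.zpowers y := fun b hb hby =>
    mem_zpowers_of_commute hord V hV2 hVcomm hv hv1 hy hy1 hb hby.symm
  have hYp : IsPGroup 3 ↥(Subgroup.zpowers y) :=
    IsPGroup.of_card (n := 1) (by rw [Nat.card_zpowers, hy3, pow_one])
  obtain ⟨P, hP⟩ := hYp.exists_le_sylow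
  have hPy : (P : Subgroup G) = Subgroup.zpowers y := by
    refine le_antisymm ?_ hP
    -- the centre of `P` contains a nontrivial element
    have hPne : Nontrivial ↥(P : Subgroup G) :=
      ⟨⟨⟨y, hP (Subgroup.mem_zpowers y)⟩, 1, fun e => hy1 (congrArg Subtype.val e)⟩⟩
    have := P.2.center_nontrivial
    obtain ⟨z, hz1⟩ := exists_ne (1 : Subgroup.center ↥(P : Subgroup G))
    set w : G := ((z : ↥(P : Subgroup G)) : G) with hw
    have hw3 : w ^ 3 = 1 := pow_three_of_mem hord P.2 (z : ↥(P : Subgroup G)).2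
    have hw1 : w ≠ 1 := fun e => hz1 (Subtype.ext (Subtype.ext e))
    have hwc : ∀ x ∈ (P : Subgroup G), w * x = x * w := fun x hx =>
      (congrArg Subtype.val (Subgroup.mem_center_iff.1 z.2 ⟨x, hx⟩)).symm
    intro x hx
    have hxw := mem_zpowers_of_commute hord V hV2 hVcomm hv hv1 hw3 hw1
      (pow_three_of_mem hord P.2 hx) (hwc x hx)
    have hyw := mem_zpowers_of_commute hord V hV2 hVcomm hv hv1 hw3 hw1 hy (hwc y (hP (Subgroup.mem_zpowers y)))
    have : Subgroup.zpowers y = Subgroup.zpowers w := by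
      refine Subgroup.eq_of_le_of_card_ge (Subgroup.zpowers_le.2 hyw) ?_
      rw [Nat.card_zpowers, Nat.card_zpowers, hy3]
      exact Nat.le_of_dvd (by norm_num) (orderOf_dvd_of_pow_eq_one hw3)
    exact this ▸ hxw
  -- the image of `y`
  set Q := G ⧸ N
  have hordQ := orders_quot hord N
  set π : G →* Q := QuotientGroup.mk' N
  have hπ : Function.Surjective π := QuotientGroup.mk'_surjective N
  have hyN : y ∉ N := fun e => hy1 (eq_one_of_pow hy (pow_four_of_mem hord hN2 e))
  have hY : π y ≠ 1 := fun e => hyN ((QuotientGroup.eq_one_iff y).1 e)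
  haveI : Group.IsSolvable Q := solvable hordQ
  haveI : Nontrivial Q := ⟨⟨π y, 1, hY⟩⟩
  obtain ⟨r, hr, T, hTn, hT1, -, -, hTp, hTe, -⟩ :=
    Solvable.exists_minimal_normal_pGroup (G := Q) (N := ⊤) top_ne_bot
  haveI := hTn
  obtain ⟨⟨t₀, ht₀⟩, ht₀1'⟩ := (Subgroup.ne_bot_iff_exists_ne_one.1 hT1 : ∃ a : T, a ≠ 1)
  have ht₀1 : t₀ ≠ 1 := fun e => ht₀1' (Subtype.ext e)
  have hr2 : r ≠ 2 := fun e => by
    subst e
    have := Cores.le_pCore hTn hTp
    rw [hNdef] at *
    exact hT1 (le_bot_iff.1 (pCore_quotient_eq_bot (G := G) 2 ▸ this))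
  have hr3 : r = 3 := (two_or_three hordQ hr (by
    have hd : orderOf t₀ ∣ r := orderOf_dvd_of_pow_eq_one (hTe t₀ ht₀)
    have : orderOf t₀ = r := (hr.eq_one_or_self_of_dvd _ hd).resolve_left
      (fun e => ht₀1 (orderOf_eq_one_iff.1 e))
    exact this ▸ orderOf_dvd_natCard t₀)).resolve_left hr2
  subst hr3
  have hTy : T = Subgroup.zpowers (π y) := by
    set PQ := P.mapSurjective hπ
    obtain ⟨P', hP'⟩ := hTp.exists_le_sylow
    obtain ⟨g, hg⟩ := MulAction.exists_smul_eq Q P' PQ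
    have hTle : T ≤ (PQ : Subgroup Q) := by
      intro x hx
      rw [← hg, Sylow.coe_subgroup_smul, Subgroup.mem_pointwise_smul_iff_inv_smul_mem]
      apply hP'
      have h' := hTn.conj_mem x hx g⁻¹
      rw [inv_inv] at h'
      simpa [MulAut.smul_def] using h'
    have e : (PQ : Subgroup Q) = Subgroup.zpowers (π y) := by
      show (P : Subgroup G).map π = _
      rw [hPy, MonoidHom.map_zpowers]
    rw [e] at hTle
    refine Subgroup.eq_of_le_of_card_ge hTle ?_
    rw [Nat.card_zpowers]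
    calc orderOf (π y) ≤ 3 := Nat.le_of_dvd (by norm_num)
          (orderOf_dvd_of_pow_eq_one (by rw [← map_pow, hy, map_one]))
      _ = orderOf t₀ := ((Nat.prime_three.eq_one_or_self_of_dvd _
          (orderOf_dvd_of_pow_eq_one (hTe t₀ ht₀))).resolve_left
            (fun e => ht₀1 (orderOf_eq_one_iff.1 e))).symm
      _ ≤ Nat.card T := Nat.le_of_dvd Nat.card_pos (Subgroup.orderOf_dvd_natCard T ht₀)
  have hYord : orderOf (π y) = 3 :=
    orderOf_eq_prime (by rw [← map_pow, hy, map_one]) hY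
  -- all elements of order three lie in `T`
  have hall : ∀ u : Q, u ^ 3 = 1 → u ∈ T := by
    intro u hu
    have hup : IsPGroup 3 ↥(Subgroup.zpowers u) := by
      obtain ⟨k, -, hk⟩ := (Nat.dvd_prime_pow Nat.prime_three).1
        (show orderOf u ∣ 3 ^ 1 by simpa using orderOf_dvd_of_pow_eq_one hu)
      exact IsPGroup.of_card (n := k) (by rw [Nat.card_zpowers, hk])
    obtain ⟨P', hP'⟩ := hup.exists_le_sylow
    obtain ⟨g, hg⟩ := MulAction.exists_smul_eq Q (P.mapSurjective hπ) P'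
    have hu' : u ∈ (P' : Subgroup Q) := hP' (Subgroup.mem_zpowers u)
    rw [← hg, Sylow.coe_subgroup_smul, Subgroup.mem_pointwise_smul_iff_inv_smul_mem] at hu'
    have hPT : ((P.mapSurjective hπ : Sylow 3 Q) : Subgroup Q) = T := by
      show (P : Subgroup G).map π = T
      rw [hPy, MonoidHom.map_zpowers, hTy]
    rw [hPT] at hu'
    simpa [MulAut.smul_def, mul_assoc] using hTn.conj_mem _ hu' g
  have hYT : π y ∈ T := hTy ▸ Subgroup.mem_zpowers _
  have hTcard : Nat.card T = 3 := by rw [hTy, Nat.card_zpowers, hYord]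
  have hC : ∀ u : Q, u * π y = π y * u → u ∈ T := by
    intro u hu
    rcases hordQ u with h4 | h3
    · rw [(no_mixed hordQ hu h4 (by rw [← map_pow, hy, map_one])).resolve_right hY]
      exact T.one_mem
    · exact hall u h3
  have hconj : ∀ u : Q, u ∉ T → u * π y * u⁻¹ = (π y)⁻¹ := by
    intro u hu
    have hm : u * π y * u⁻¹ ∈ Subgroup.zpowers (π y) := hTy ▸ hTn.conj_mem _ hYT u
    obtain ⟨k, hk, hk'⟩ := (isOfFinOrder_of_finite (π y)).mem_zpowers_iff_mem_range_orderOf.trans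
      (by simp [Finset.mem_image] : _ ↔ ∃ k, k < orderOf (π y) ∧ (π y) ^ k = u * π y * u⁻¹) |>.1 hm
    rw [hYord] at hk
    interval_cases k
    · rw [pow_zero, eq_comm, mul_inv_eq_one, mul_eq_left] at hk'
      exact absurd hk' hY
    · rw [pow_one, eq_comm, mul_inv_eq_iff_eq_mul] at hk'
      exact absurd (hC u hk') hu
    · rw [← hk']
      exact eq_inv_of_mul_eq_one_left (by rw [← pow_succ, ← map_pow, hy, map_one])
  have : Group.IsNilpotent ↥N := hN2.isNilpotent
  by_cases hone : ∀ u : Q, u ∈ T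
  · -- index three
    refine ⟨N, hNn, Or.inl ⟨hN2, ?_, nilpotencyClass_le_two (N := ↥N) (h := hlcs), ?_⟩⟩
    · obtain ⟨g, hg4⟩ : ∃ g : G, orderOf g = 4 :=
        h.ge (show (4:ℕ) ∈ {k : ℕ | 1 ≤ k ∧ k ≤ 4} by simp)
      have hgN : g ∈ N := by
        rw [← QuotientGroup.eq_one_iff]
        show π g = 1
        refine eq_one_of_pow ?_ (show (π g) ^ 4 = 1 by
          rw [← map_pow, ← hg4, pow_orderOf_eq_one, map_one])
        obtain ⟨k, hk⟩ := Subgroup.mem_zpowers_iff.1 (hTy ▸ hone (π g))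
        rw [← hk, ← zpow_natCast, ← zpow_mul, mul_comm, zpow_mul, zpow_natCast, ← map_pow, hy,
          map_one, one_zpow]
      refine Nat.dvd_antisymm (Monoid.exponent_dvd_of_forall_pow_eq_one fun x =>
        Subtype.ext (by rw [SubgroupClass.coe_pow]; exact pow_four_of_mem hord hN2 x.2)) ?_
      rw [← hg4, ← Subgroup.orderOf_mk g hgN]
      exact Monoid.order_dvd_exponent _
    · show Nat.card Q = 3
      rw [← hTcard, ← Subgroup.card_top (G := Q)]
      exact congrArg (fun H : Subgroup Q => Nat.card H) (eq_top_iff.2 fun u _ => hone u).symm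
  · obtain ⟨u, hu⟩ := not_forall.1 hone
    obtain ⟨g, hg⟩ := hπ u
    -- an involution inverting `y`
    have hm : y * (g * y * g⁻¹) ∈ N := by
      rw [← QuotientGroup.eq_one_iff]
      show π (y * (g * y * g⁻¹)) = 1
      rw [map_mul, map_mul, map_mul, map_inv, hg, hconj u hu, mul_inv_cancel]
    let F : N → N := fun n => (MulAut.conjNormal y n)⁻¹ * n
    have hFinj : Function.Injective F := by
      intro a b hab
      simp only [F] at hab
      refine (mul_inv_eq_one.1 (hfpf (b * a⁻¹) ?_)).symm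
      rw [inv_mul_eq_iff_eq_mul, ← mul_assoc] at hab
      rw [map_mul, map_inv, mul_inv_eq_iff_eq_mul]
      have e : a⁻¹ = b⁻¹ * MulAut.conjNormal y b * (MulAut.conjNormal y a)⁻¹ := by
        rw [inv_eq_iff_eq_inv, mul_inv_rev, mul_inv_rev, inv_inv, inv_inv, ← mul_assoc]
        exact hab
      rw [e]
      group
    obtain ⟨n, hn⟩ := Finite.surjective_of_injective hFinj ⟨_, hm⟩
    set s := (n : G) * g with hs
    have hsy : s * y * s⁻¹ = y⁻¹ := by
      have hn' := congrArg Subtype.val hn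
      simp only [F, Subgroup.coe_mul, Subgroup.coe_inv, MulAut.conjNormal_apply] at hn'
      have e : g * y * g⁻¹ = y⁻¹ * ((y * n * y⁻¹)⁻¹ * n) := by rw [hn']; group
      calc s * y * s⁻¹ = n * (g * y * g⁻¹) * (n : G)⁻¹ := by rw [hs]; group
        _ = _ := by rw [e]; group
    have hπs : π s = u := by
      rw [hs, map_mul, show π (n : G) = 1 from (QuotientGroup.eq_one_iff _).2 n.2, one_mul, hg]
    have hu4 : ∀ w : G, π w = u → w ^ 4 = 1 := fun w hw => (hord w).elim id fun h3 =>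
      absurd (hall u (by rw [← hw, ← map_pow, h3, map_one])) hu
    have hs2 : s ^ 2 = 1 := by
      have hcy : s ^ 2 * y = y * s ^ 2 := by
        rw [← mul_inv_eq_iff_eq_mul]
        calc s ^ 2 * y * (s ^ 2)⁻¹ = s * (s * y * s⁻¹) * s⁻¹ := by rw [pow_two]; group
          _ = (s * y * s⁻¹)⁻¹ := by nth_rewrite 1 [hsy]; group
          _ = y := by rw [hsy, inv_inv]
      exact (no_mixed hord hcy (by rw [← pow_mul, show 2 * 4 = 4 * 2 from rfl, pow_mul,
        hu4 s hπs, one_pow]) hy).resolve_right hy1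
    have hsinv : s⁻¹ = s := inv_eq_of_mul_eq_one_right (by rw [← pow_two, hs2])
    have hNsq : ∀ x : N, x ^ 2 = 1 := by
      refine sq_eq_one (MulAut.conjNormal y) (MulAut.conjNormal s) hfpf ?_ ?_ ?_ ?_
        (central_of_lcs hlcs)
      · intro x
        rw [conj_conjNormal, conj_conjNormal]
        rw [show y * y * y = 1 by rw [← hy, pow_succ, pow_two], map_one]; rfl
      · intro x
        rw [conj_conjNormal, ← pow_two, hs2, map_one]; rfl
      · intro x
        rw [conj_conjNormal, conj_conjNormal, conj_conjNormal]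
        congr 1
        rw [show y * y * s = y⁻¹ * s by
          congr 1
          exact eq_inv_of_mul_eq_one_left (by rw [← hy, pow_succ, pow_two]), ← hsy]
        group
      · intro x
        refine Subtype.ext ?_
        rw [SubgroupClass.coe_pow, Subgroup.coe_mul, MulAut.conjNormal_apply, hsinv]
        have h4 := hu4 (s * x) (by
          rw [map_mul, hπs, show π (x : G) = 1 from (QuotientGroup.eq_one_iff _).2 x.2, mul_one])
        rw [show (4 : ℕ) = 2 * 2 from rfl, pow_mul, pow_two (s * (x : G))] at h4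
        rw [Subgroup.coe_one, ← h4]
        simp only [mul_assoc]
    refine ⟨N, hNn, Or.inr ⟨⟨⟨⟨fun a b => ?_⟩⟩, fun a ha => ?_⟩, ?_⟩⟩
    · have e : ∀ c : N, c⁻¹ = c := fun c => inv_eq_of_mul_eq_one_right (by rw [← pow_two, hNsq c])
      rw [← e (a * b), mul_inv_rev, e a, e b]
    · exact congrArg Subtype.val (hNsq ⟨a, ha⟩)
    -- the quotient is the symmetric group
    have hu2 : u ^ 2 = 1 := by rw [← hπs, ← map_pow, hs2, map_one]
    have hu1 : u ≠ 1 := fun e => hu (e ▸ T.one_mem)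
    have hTi : T.index = 2 := by
      rw [Subgroup.index_eq_two_iff]
      refine ⟨u, fun b => ?_⟩
      by_cases hb : b ∈ T
      · exact Or.inr ⟨hb, fun e => hu ((T.mul_mem_cancel_left hb).1 e)⟩
      · refine Or.inl ⟨hC _ ?_, hb⟩
        rw [← mul_inv_eq_iff_eq_mul]
        calc b * u * π y * (b * u)⁻¹ = b * (u * π y * u⁻¹) * b⁻¹ := by group
          _ = (b * π y * b⁻¹)⁻¹ := by rw [hconj u hu]; group
          _ = π y := by rw [hconj b hb, inv_inv]
    have hQ6 : Nat.card Q = 6 := by rw [← T.card_mul_index, hTi, hTcard]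
    set A := Subgroup.zpowers u
    have hA2 : Nat.card A = 2 := by
      rw [Nat.card_zpowers]
      exact orderOf_eq_prime hu2 hu1
    let f : Q →* Equiv.Perm (Q ⧸ A) := MulAction.toPermHom Q (Q ⧸ A)
    have hinj : Function.Injective f := by
      rw [← MonoidHom.ker_eq_bot_iff, ← Subgroup.normalCore_eq_ker, eq_bot_iff]
      intro w hw
      rw [Subgroup.mem_bot]
      by_contra hw1
      have hmem : ∀ v ∈ A.normalCore, v = 1 ∨ v = u := by
        intro v hv
        obtain ⟨k, rfl⟩ := Subgroup.mem_zpowers_iff.1 (A.normalCore_le hv)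
        rcases Int.even_or_odd k with ⟨m, rfl⟩ | ⟨m, rfl⟩
        · left; rw [← two_mul, zpow_mul, zpow_ofNat, hu2, one_zpow]
        · right; rw [zpow_add, zpow_mul, zpow_ofNat, hu2, one_zpow, one_mul, zpow_one]
      have huc : u ∈ A.normalCore := (hmem w hw).resolve_left hw1 ▸ hw
      rcases hmem _ ((Subgroup.normalCore_normal A).conj_mem u huc (π y)) with e | e
      · rw [mul_inv_eq_one, mul_eq_left] at e
        exact hu1 e
      · rw [mul_inv_eq_iff_eq_mul] at e
        exact hu (hC u e.symm)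
    have hidx : Nat.card (Q ⧸ A) = 3 := by
      have := A.card_eq_card_quotient_mul_card_subgroup
      rw [hQ6, hA2] at this
      omega
    let e3 : Equiv.Perm (Q ⧸ A) ≃* Equiv.Perm (Fin 3) :=
      (Finite.equivFinOfCardEq hidx).permCongrHom
    have hb : Function.Bijective (e3.toMonoidHom.comp f) := by
      refine (Nat.bijective_iff_injective_and_card _).2 ⟨e3.injective.comp hinj, ?_⟩
      rw [hQ6, Nat.card_perm, Nat.card_fin]
      rfl
    exact ⟨MulEquiv.ofBijective _ hb⟩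

/-- The case of a normal three-subgroup. -/
theorem three_case (h : Set.range (orderOf : G → ℕ) = {k : ℕ | 1 ≤ k ∧ k ≤ 4})
    (hN1 : Cfsg.pCore 3 G ≠ ⊥) :
    ∃ (N : Subgroup G) (_ : N.Normal),
      Cfsg.IsElementaryAbelian 3 N ∧
        ((IsCyclic (G ⧸ N) ∧ N.index = 4) ∨ Nonempty (G ⧸ N ≃* QuaternionGroup 2)) := by
  classical
  have hord := cases4 h
  have := Fact.mk Nat.prime_two
  have := Fact.mk Nat.prime_three
  set N := Cfsg.pCore 3 G with hNdef
  haveI hNn : N.Normal := Cores.pCore_normal 3 G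
  have hN3 : IsPGroup 3 ↥N := Cores.isPGroup_pCore 3 G
  obtain ⟨⟨n₀, hn₀⟩, hn₀1'⟩ := (Subgroup.ne_bot_iff_exists_ne_one.1 hN1 : ∃ a : N, a ≠ 1)
  have hn₀1 : n₀ ≠ 1 := fun e => hn₀1' (Subtype.ext e)
  have hn3 : ∀ x ∈ N, x ^ 3 = 1 := fun x hx => pow_three_of_mem hord hN3 hx
  have hinvol : ∀ t : G, t ^ 2 = 1 → t ≠ 1 → (∀ x : N, MulAut.conjNormal t x = x⁻¹) ∧
      (∀ a b : N, a * b = b * a) := by
    intro t ht ht1
    have hf : MonoidHom.FixedPointFree (⇑(MulAut.conjNormal t : MulAut N)) := by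
      intro x hx
      have := congrArg Subtype.val hx
      rw [MulAut.conjNormal_apply, mul_inv_eq_iff_eq_mul] at this
      exact Subtype.ext ((no_mixed hord this
        (by rw [show 4 = 2 * 2 from rfl, pow_mul, ht, one_pow]) (hn3 x x.2)).resolve_left ht1)
    have h2 : Function.Involutive (⇑(MulAut.conjNormal t : MulAut N)) := fun x => by
      rw [conj_conjNormal, ← pow_two, ht, map_one]; rfl
    exact ⟨fun x => congrFun (MonoidHom.FixedPointFree.coe_eq_inv_of_involutive
      (φ := (MulAut.conjNormal t : MulAut N)) hf h2) x,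
      fun a b => MonoidHom.FixedPointFree.commute_all_of_involutive
        (φ := (MulAut.conjNormal t : MulAut N)) hf h2 a b⟩
  obtain ⟨t, ht2⟩ : ∃ t : G, orderOf t = 2 := h.ge (show (2:ℕ) ∈ {k : ℕ | 1 ≤ k ∧ k ≤ 4} by simp)
  have ht : t ^ 2 = 1 := ht2 ▸ pow_orderOf_eq_one t
  have ht1 : t ≠ 1 := fun e => by rw [e, orderOf_one] at ht2; omega
  -- the centralizer of `N` is contained in `N`
  have hCle : Subgroup.centralizer (N : Set G) ≤ N := by
    refine Cores.le_pCore inferInstance fun x => ⟨1, Subtype.ext ?_⟩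
    rw [pow_one, SubgroupClass.coe_pow, Subgroup.coe_one]
    refine (hord x).elim (fun h4 => ?_) id
    have := (no_mixed hord (Subgroup.mem_centralizer_iff.1 x.2 n₀ hn₀).symm h4 (hn3 n₀ hn₀)).resolve_right hn₀1
    rw [this, one_pow]
  set Q := G ⧸ N
  have hordQ := orders_quot hord N
  set π : G →* Q := QuotientGroup.mk' N
  have hπ : Function.Surjective π := QuotientGroup.mk'_surjective N
  have htN : t ∉ N := fun e => ht1 (eq_one_of_pow (hn3 t e) (by rw [show 4 = 2 * 2 from rfl, pow_mul, ht, one_pow]))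
  have hz : π t ≠ 1 := fun e => htN ((QuotientGroup.eq_one_iff t).1 e)
  have hsame : ∀ a : G, a ^ 2 = 1 → a ≠ 1 → π a = π t := by
    intro a ha ha1
    have : a * t ∈ N := hCle (Subgroup.mem_centralizer_iff.2 fun x hx => by
      rw [eq_comm, ← mul_inv_eq_iff_eq_mul]
      have e1 := congrArg Subtype.val ((hinvol t ht ht1).1 ⟨x, hx⟩)
      have e2 := congrArg Subtype.val ((hinvol a ha ha1).1 ⟨x, hx⟩)
      simp only [MulAut.conjNormal_apply, Subgroup.coe_inv] at e1 e2
      calc a * t * x * (a * t)⁻¹ = a * (t * x * t⁻¹) * a⁻¹ := by group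
        _ = (a * x * a⁻¹)⁻¹ := by rw [e1]; group
        _ = x := by rw [e2, inv_inv])
    have h1 : π (a * t) = 1 := (QuotientGroup.eq_one_iff _).2 this
    rw [map_mul] at h1
    rw [eq_inv_of_mul_eq_one_left h1, ← map_inv,
      show t⁻¹ = t from inv_eq_of_mul_eq_one_right (by rw [← pow_two, ht])]
  have hcentral : ∀ q : Q, q * π t = π t * q := by
    intro q
    obtain ⟨g, rfl⟩ := hπ q
    rw [← mul_inv_eq_iff_eq_mul, ← map_inv, ← map_mul, ← map_mul]
    exact hsame _ (by rw [conj_pow, ht, mul_one, mul_inv_cancel])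
      (fun e => ht1 (by rwa [mul_inv_eq_one, mul_eq_left] at e))
  have h3 : ∀ q : Q, q ^ 3 = 1 → q = 1 := fun q hq =>
    (no_mixed hordQ (hcentral q).symm
      (by rw [show 4 = 2 * 2 from rfl, pow_mul, ← map_pow, ht, map_one, one_pow]) hq).resolve_left hz
  have h4 : ∀ q : Q, q ^ 4 = 1 := fun q => (hordQ q).elim id fun h => by rw [h3 q h, one_pow]
  have hsq : ∀ g : G, π g ≠ 1 → π g ^ 2 = 1 → g ^ 2 = 1 := by
    intro g hg1 hg2
    have hg4 : g ^ 4 = 1 := (hord g).elim id fun h => absurd (h3 _ (by rw [← map_pow, h, map_one])) hg1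
    have : g ^ 2 ∈ N := (QuotientGroup.eq_one_iff _).1 (show π (g ^ 2) = 1 by rw [map_pow, hg2])
    exact eq_one_of_pow (hn3 _ this) (by rw [← pow_mul, show 2 * 4 = 4 * 2 from rfl, pow_mul, hg4, one_pow])
  have huniq : ∀ q : Q, q ^ 2 = 1 → q ≠ 1 → q = π t := by
    intro q hq hq1
    obtain ⟨g, rfl⟩ := hπ q
    exact hsame g (hsq g hq1 hq) (fun e => hq1 (by rw [e, map_one]))
  refine ⟨N, hNn, ⟨⟨⟨fun a b => (hinvol t ht ht1).2 a b⟩⟩, hn3⟩, ?_⟩
  obtain ⟨g, hg⟩ : ∃ g : G, orderOf g = 4 := h.ge (show (4:ℕ) ∈ {k : ℕ | 1 ≤ k ∧ k ≤ 4} by simp)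
  have hg4 : orderOf (π g) = 4 := by
    refine orderOf_eq_prime_pow (p := 2) (n := 1) (fun e => ?_) (h4 _)
    have hg2 : g ^ 2 ≠ 1 := fun e => by
      have := orderOf_dvd_of_pow_eq_one e
      rw [hg] at this
      omega
    by_cases hg1 : π g = 1
    · have := hn3 g ((QuotientGroup.eq_one_iff g).1 hg1)
      have h' := orderOf_dvd_of_pow_eq_one this
      rw [hg] at h'
      omega
    · exact hg2 (hsq g hg1 e)
  have hcard_le : ∀ q : Q, orderOf q ≤ 4 := fun q =>
    Nat.le_of_dvd (by norm_num) (orderOf_dvd_of_pow_eq_one (h4 q))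
  have hcyc : IsCyclic Q → IsCyclic Q ∧ N.index = 4 := by
    intro hc
    refine ⟨hc, le_antisymm ?_ ?_⟩
    · obtain ⟨c, hc'⟩ := hc.exists_generator
      show Nat.card Q ≤ 4
      rw [← orderOf_eq_card_of_forall_mem_zpowers hc']
      exact hcard_le c
    · show 4 ≤ Nat.card Q
      rw [← hg4]
      exact Nat.le_of_dvd Nat.card_pos (orderOf_dvd_natCard _)
  rcases PGroup.unique_order_p_cases (p := 2) (G := Q) (isPGroup_two_of h4) (fun x q hx hq => by
      by_cases hq1 : q = 1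
      · rw [hq1]; exact one_mem _
      · rw [huniq q hq hq1, ← huniq x (hx ▸ pow_orderOf_eq_one x)
          (fun e => by rw [e, orderOf_one] at hx; omega)]
        exact Subgroup.mem_zpowers x) with hc | ⟨-, k, ⟨e⟩⟩
  · exact Or.inl (hcyc hc)
  · have hk : k ≤ 1 := by
      by_contra hk
      have := hcard_le (e.symm (QuaternionGroup.a 1))
      rw [MulEquiv.orderOf_eq, QuaternionGroup.orderOf_a_one] at this
      have h4' : 2 ^ 2 ≤ 2 ^ k := Nat.pow_le_pow_right (by norm_num) (by omega)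
      omega
    interval_cases k
    · have : IsCyclic (QuaternionGroup (2 ^ 0)) := QuaternionGroup.quaternionGroup_one_isCyclic
      exact Or.inl (hcyc (MulEquiv.isCyclic e |>.2 this))
    · exact Or.inr ⟨e⟩

end Main

/-- A finite group whose set of element orders is exactly {1, 2, 3, 4} has a normal subgroup N such that either N is a 2-group of exponent 4 and nilpotency class at most 2 with G/N of order 3, or N is an elementary abelian 2-group with G/N isomorphic to the symmetric group of degree 3, or N is an elementary abelian 3-group with G/N cyclic of order 4 or quaternion of order 8. -/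
theorem result {G : Type*} [Group G] [Finite G] (h : Set.range (orderOf : G → ℕ) = {k : ℕ | 1 ≤ k ∧ k ≤ 4}) :
    ∃ (N : Subgroup G) (_ : N.Normal),
      (IsPGroup 2 ↥N ∧ Monoid.exponent ↥N = 4 ∧ Group.nilpotencyClass ↥N ≤ 2 ∧ N.index = 3) ∨
      (Cfsg.IsElementaryAbelian 2 N ∧ Nonempty (G ⧸ N ≃* Equiv.Perm (Fin 3))) ∨
      (Cfsg.IsElementaryAbelian 3 N ∧ ((IsCyclic (G ⧸ N) ∧ N.index = 4) ∨ Nonempty (G ⧸ N ≃* QuaternionGroup 2))) := by
  have hord := cases4 h
  have hsol := solvable hord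
  obtain ⟨g, hg⟩ : ∃ g : G, orderOf g = 3 := h.ge (show (3:ℕ) ∈ {k : ℕ | 1 ≤ k ∧ k ≤ 4} by simp)
  have : Nontrivial G := ⟨⟨g, 1, fun e => by rw [e, orderOf_one] at hg; omega⟩⟩
  obtain ⟨p, hp, M, hMn, hM1, -, -, hMp, hMe, -⟩ :=
    Solvable.exists_minimal_normal_pGroup (G := G) (N := ⊤) top_ne_bot
  have hcore : Cfsg.pCore p G ≠ ⊥ := fun e => hM1 (le_bot_iff.1 (e ▸ Cores.le_pCore hMn hMp))
  have hp23 : p = 2 ∨ p = 3 := by
    have := Fact.mk hp
    obtain ⟨k, hk⟩ := hMp.exists_card_eq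
    have hk0 : k ≠ 0 := fun e => hM1 (Subgroup.card_eq_one.1 (by rw [hk, e, pow_zero]))
    exact two_or_three hord hp ((dvd_pow_self p hk0).trans (hk ▸ M.card_subgroup_dvd_card))
  rcases hp23 with rfl | rfl
  · obtain ⟨N, hN, h' | h'⟩ := two_case h hcore
    · exact ⟨N, hN, Or.inl h'⟩
    · exact ⟨N, hN, Or.inr (Or.inl h')⟩
  · obtain ⟨N, hN, h'⟩ := three_case h hcore
    exact ⟨N, hN, Or.inr (Or.inr h')⟩

end Cfsg.Agent.S4006
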