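import Cfsg.Statements.S3992
import Cfsg.Agent.Lib.Solvable.GruenbergKegel
import Cfsg.Agent.Lib.Solvable.SylowSystem
import Cfsg.Agent.S1475

set_option autoImplicit false
open Pointwise
open Cfsg

namespace Cfsg.Agent.S3992

universe u in
/-- Every element has prime-power order. -/
def Eppo (G : Type u) [Group G] : Prop := ∀ g : G, g ≠ 1 → IsPrimePow (orderOf g)

theorem Eppo.eq_of_commute {G : Type*} [Group G] (h : Eppo G) {x y : G} {q r : ℕ} (hq : q.Prime)
    (hr : r.Prime) (hx : orderOf x = q) (hy : orderOf y = r) (hc : Commute x y) : q = r := by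
  by_contra hne
  have hcop : q.Coprime r := (Nat.coprime_primes hq hr).2 hne
  have ho : orderOf (x * y) = q * r := by
    rw [hc.orderOf_mul_eq_mul_orderOf_of_coprime (by rw [hx, hy]; exact hcop), hx, hy]
  have h1 := h (x * y) (fun e => by
    rw [e, orderOf_one] at ho
    exact hq.ne_one (Nat.eq_one_of_mul_eq_one_right ho.symm))
  rw [ho] at h1
  obtain ⟨s, -, hs⟩ := (isPrimePow_iff_unique_prime_dvd).1 h1
  exact hne ((hs q ⟨hq, dvd_mul_right q r⟩).trans (hs r ⟨hr, dvd_mul_left r q⟩).symm)

open Cfsg.Agent.Solvable in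
theorem Eppo.isPGroup_of_commute {G : Type*} [Group G] [Finite G] (h : Eppo G) {A : Subgroup G}
    {y : G} {r : ℕ} [hr : Fact r.Prime] (hy : orderOf y = r) (hc : ∀ x ∈ A, Commute x y) :
    IsPGroup r A := by
  have hnum : IsPiNum {r} (Nat.card A) := by
    intro q hq hd
    have := Fact.mk hq
    obtain ⟨x, hx⟩ := exists_prime_orderOf_dvd_card' (G := A) q hd
    exact h.eq_of_commute hq hr.out ((Subgroup.orderOf_coe x).trans hx) hy (hc x x.2)
  obtain ⟨k, hk⟩ := (isPiNum_singleton_iff Nat.card_pos.ne' hr.out).1 hnum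
  exact IsPGroup.of_card hk

open Cfsg.Agent.Solvable in
theorem exists_isPGroup_radical {G : Type*} [Group G] [Finite G] (hns : ¬ Group.IsSolvable G)
    (h : Eppo G) (R : Subgroup G) [R.Normal] (hRs : Group.IsSolvable ↥R) :
    ∃ p : ℕ, p.Prime ∧ IsPGroup p ↥R := by
  rcases eq_or_ne R ⊥ with rfl | hR0
  · exact ⟨2, Nat.prime_two, IsPGroup.of_bot⟩
  obtain ⟨p, hp, N, hNn, hN0, hNR, -, hNp, -, -⟩ := exists_minimal_normal_pGroup hR0
  have := Fact.mk hp
  set P := Cfsg.pCore p G
  have hPp : IsPGroup p P := Cores.isPGroup_pCore p G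
  have hP0 : P ≠ ⊥ := fun e => hN0 (le_bot_iff.1 (e ▸ Cores.le_pCore hNn hNp))
  refine ⟨p, hp, ?_⟩
  suffices hle : R ≤ P from hPp.to_le hle
  by_contra hle
  set f := QuotientGroup.mk' P
  have hRfn : (R.map f).Normal := Subgroup.Normal.map inferInstance f (QuotientGroup.mk'_surjective P)
  have : Group.IsSolvable ↥(R.map f) := isSolvable_map f R
  obtain ⟨q, hq, M, hMn, hM0, -, -, hMq, -, -⟩ :=
    exists_minimal_normal_pGroup (N := R.map f) (map_mk'_ne_bot hle)
  have := Fact.mk hq
  set L := M.comap f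
  have hLn : L.Normal := hMn.comap f
  have hPL : P ≤ L := QuotientGroup.le_comap_mk' P M
  have hfs := QuotientGroup.mk'_surjective P
  have hmap : L.map f = M := Subgroup.map_comap_eq_self_of_surjective hfs M
  have hcard : Nat.card L = Nat.card M * Nat.card P := by
    rw [card_eq_card_map_mul f L, hmap, QuotientGroup.ker_mk', inf_eq_right.2 hPL]
  have hqp : q ≠ p := by
    rintro rfl
    obtain ⟨i, hi⟩ := IsPGroup.iff_card.1 hMq
    obtain ⟨j, hj⟩ := IsPGroup.iff_card.1 hPp
    have hLp : IsPGroup q L := IsPGroup.of_card (n := i + j) (by rw [hcard, hi, hj, pow_add])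
    exact hM0 (by
      rw [← hmap]
      exact (Subgroup.map_eq_bot_iff L).2 (by
        rw [QuotientGroup.ker_mk']; exact Cores.le_pCore hLn hLp))
  obtain ⟨S⟩ := (inferInstance : Nonempty (Sylow q L))
  set Q := (S : Subgroup L).map L.subtype
  have hQp : IsPGroup q Q := S.2.map _
  have hLsup : L ≤ Q ⊔ P := by
    rw [← Subgroup.relIndex_eq_one]
    refine IsPiNum.eq_one (π := {q}) ?_ ?_
    · refine IsPiNum.of_dvd ?_ (Subgroup.relIndex_dvd_of_le_left L le_sup_right)
      refine IsPiNum.of_dvd (isPiNum_of_isPGroup hMq (Set.mem_singleton q)) ?_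
      have h1 := Subgroup.relIndex_map_map f P L
      rw [QuotientGroup.ker_mk', sup_idem, sup_eq_left.2 hPL,
        (Subgroup.map_eq_bot_iff P).2 (QuotientGroup.ker_mk' P).ge, hmap,
        Subgroup.relIndex_bot_left] at h1
      exact h1.symm.dvd
    · refine IsPiNum.of_dvd ?_ (Subgroup.relIndex_dvd_of_le_left L le_sup_left)
      rw [isPiNum_compl_singleton_iff hq, Subgroup.relIndex, Subgroup.subgroupOf,
        Subgroup.comap_map_eq_self_of_injective L.subtype_injective]
      exact S.not_dvd_index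
  have hQ0 : Q ≠ ⊥ := by
    intro e
    rw [e, bot_sup_eq] at hLsup
    exact hM0 (by
      rw [← hmap]
      exact (Subgroup.map_eq_bot_iff L).2 (by rw [QuotientGroup.ker_mk']; exact hLsup))
  have hfpf : Frobenius.FPF Q P := by
    intro b hb hb1 u hu e
    by_contra hu1
    obtain ⟨i, a, ha, had, hai⟩ := exists_pow_orderOf_prime hu1
    obtain ⟨j, c, hc, hcd, hcj⟩ := exists_pow_orderOf_prime hb1
    have h1 := isPiNum_of_isPGroup hPp (Set.mem_singleton p) a ha
      (had.trans (Subgroup.orderOf_dvd_natCard P hu))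
    have h2 := isPiNum_of_isPGroup hQp (Set.mem_singleton q) c hc
      (hcd.trans (Subgroup.orderOf_dvd_natCard Q hb))
    rw [Set.mem_singleton_iff] at h1 h2
    exact hqp (h2 ▸ h1 ▸ (h.eq_of_commute hc ha hcj hai
      ((show Commute b u from e).pow_pow j i)))
  have hS := Frobenius.smallCyclic_of_fpf hP0 (A := Q)
    (by rw [Subgroup.normalizer_eq_top_iff.2 (inferInstance : P.Normal)]; exact le_top) hfpf
  have hqQ : q ∣ Nat.card Q := by
    obtain ⟨k, hk⟩ := IsPGroup.iff_card.1 hQp
    rw [hk]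
    exact dvd_pow_self q (fun e => hQ0 (Subgroup.eq_bot_of_card_eq Q (by rw [hk, e, pow_zero])))
  obtain ⟨⟨x, hxQ⟩, hx⟩ := exists_prime_orderOf_dvd_card' (G := Q) q hqQ
  rw [Subgroup.orderOf_mk] at hx
  set X := Subgroup.zpowers x
  set T := Subgroup.normalizer (X : Set G)
  have hNT : Subgroup.normalizer (Q : Set G) ≤ T := by
    intro g hg
    rw [mem_normalizer_iff_conj, conj_eq_map]
    refine Subgroup.eq_of_le_of_card_ge ?_ (by rw [← conj_eq_map, card_conj])
    rw [MonoidHom.map_zpowers, Subgroup.zpowers_le]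
    show g * x * g⁻¹ ∈ X
    have hmem := (Subgroup.mem_normalizer_iff.1 hg x).1 hxQ
    obtain ⟨i, hi⟩ := Subgroup.mem_zpowers_iff.1 (hS.mem_zpowers_of_orderOf_eq
      ((hQp.to_subgroup ⊤)) (x := (⟨_, hmem⟩ : Q)) (y := ⟨x, hxQ⟩) (Subgroup.mem_top _)
      (Subgroup.mem_top _)
      (by rw [Subgroup.orderOf_mk, ← MulAut.conj_apply, MulEquiv.orderOf_eq, hx])
      (by rw [Subgroup.orderOf_mk, hx]))
    exact ⟨i, congrArg Subtype.val hi⟩
  have hTP : T ⊔ P = ⊤ := by
    rw [eq_top_iff, ← Sylow.normalizer_sup_eq_top S]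
    refine sup_le (hNT.trans le_sup_left) ?_
    exact hLsup.trans (sup_le_sup_right (Subgroup.le_normalizer.trans hNT) P)
  have hTs : Group.IsSolvable T := by
    have hC : IsPGroup q (Subgroup.centralizer (X : Set G)) :=
      h.isPGroup_of_commute hx fun c hc =>
        (Subgroup.mem_centralizer_iff.1 hc x (Subgroup.mem_zpowers x)).symm
    have : Group.IsSolvable (Subgroup.centralizer (X : Set G)) := isSolvable_of_isPGroup hC
    have hCT : Subgroup.centralizer (X : Set G) ≤ T := Subgroup.centralizer_le_normalizer _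
    let φ : T →* MulAut X := Subgroup.normalizerMonoidHom X
    have hker : φ.ker ≤ (Subgroup.inclusion hCT).range := by
      intro t ht
      refine ⟨⟨(t : G), ?_⟩, rfl⟩
      rw [Subgroup.normalizerMonoidHom_ker] at ht
      exact Subgroup.mem_subgroupOf.1 ht
    have : Group.IsSolvable (MulAut X) := Group.isSolvable_of_comm fun a b => by
      obtain ⟨i, hi⟩ := a.toMonoidHom.map_cyclic
      obtain ⟨j, hj⟩ := b.toMonoidHom.map_cyclic
      ext v
      have hi' : ∀ v : X, a v = v ^ i := hi
      have hj' : ∀ v : X, b v = v ^ j := hj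
      rw [MulAut.mul_apply, MulAut.mul_apply, hj', hi', hi', hj', ← zpow_mul, ← zpow_mul, mul_comm]
    exact Group.isSolvable_of_ker_le_range _ φ hker
  have : Group.IsSolvable P := isSolvable_of_isPGroup hPp
  have h3 : Group.IsSolvable ↥(T ⊔ P) := isSolvable_sup T P
  rw [hTP] at h3
  exact hns (Group.isSolvable_of_surjective (f := (Subgroup.topEquiv : (⊤ : Subgroup G) ≃* G).toMonoidHom)
    Subgroup.topEquiv.surjective)

open Cfsg.Agent.Solvable in
theorem exists_simple_socle {G : Type*} [Group G] [Finite G] [Nontrivial G]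
    (hrad : ∀ N : Subgroup G, N.Normal → Group.IsSolvable N → N = ⊥) (h : Eppo G) :
    ∃ M : Subgroup G, M.Normal ∧ IsSimpleGroup ↥M ∧ ¬ IsMulCommutative ↥M ∧
      ∀ N : Subgroup G, N.Normal → N ≠ ⊥ → M ≤ N := by
  obtain ⟨M, hMn, hM0, -, hmin⟩ := exists_minimal_normal (N := (⊤ : Subgroup G)) top_ne_bot
  have hnc : ¬ IsMulCommutative M := fun hc => hM0 (hrad M hMn (by
    open scoped IsMulCommutative in infer_instance))
  have hpg : ∀ (A : Subgroup G) (r : ℕ) [Fact r.Prime], A.Normal → IsPGroup r A → A = ⊥ :=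
    fun A r _ hA hp => hrad A hA (isSolvable_of_isPGroup hp)
  have key : ∀ A B : Subgroup G, (∀ a ∈ A, ∀ b ∈ B, Commute a b) → B ≠ ⊥ →
      ∃ r : ℕ, r.Prime ∧ IsPGroup r A := by
    intro A B hc hB
    obtain ⟨⟨b, hb⟩, hb'⟩ := Subgroup.ne_bot_iff_exists_ne_one.1 hB
    have hb1 : b ≠ 1 := fun e => hb' (Subtype.ext e)
    obtain ⟨i, r, hr, -, hbi⟩ := exists_pow_orderOf_prime hb1
    have := Fact.mk hr
    exact ⟨r, hr, h.isPGroup_of_commute hbi fun a ha => (hc a ha b hb).pow_right i⟩
  refine ⟨M, hMn, ?_, hnc, ?_⟩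
  · have : Nontrivial M := (Subgroup.nontrivial_iff_ne_bot M).2 hM0
    refine ⟨fun X hXn => ?_⟩
    rcases eq_or_ne X ⊥ with hX0 | hX0
    · exact Or.inl hX0
    right
    obtain ⟨K, hKn, hK0, hKX, hKmin⟩ := exists_minimal_normal hX0
    set K1 := K.map M.subtype
    have hK10 : K1 ≠ ⊥ := fun e => hK0
      ((Subgroup.map_eq_bot_iff_of_injective _ M.subtype_injective).1 e)
    suffices hK1 : K1.Normal by
      rcases hmin K1 hK1 (Subgroup.map_subtype_le K) with e | e
      · exact absurd e hK10
      · refine eq_top_iff.2 fun m _ => ?_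
        obtain ⟨k, hk, hkm⟩ := e.ge m.2
        exact hKX (Subtype.ext hkm ▸ hk)
    refine ⟨fun k hk g => ?_⟩
    suffices hg : MulAut.conj g • K1 = K1 by
      rw [← hg, mem_conj_iff]
      simpa [mul_assoc] using hk
    by_contra hne
    set K2 := MulAut.conj g • K1
    have hK2M : K2 ≤ M := conj_normal g M ▸ conj_mono g (Subgroup.map_subtype_le K)
    set K2' := K2.subgroupOf M
    have hK2n : K2'.Normal := by
      refine ⟨fun a ha m => ?_⟩
      rw [Subgroup.mem_subgroupOf] at ha ⊢
      rw [mem_conj_iff] at ha ⊢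
      obtain ⟨c, hc, hca⟩ := ha
      have hm : g⁻¹ * (m : G) * g ∈ M := by simpa using hMn.conj_mem _ m.2 g⁻¹
      have hca' : (c : G) = g⁻¹ * (a : G) * g := hca
      refine ⟨⟨_, hm⟩ * c * ⟨_, hm⟩⁻¹, hKn.conj_mem c hc _, ?_⟩
      simp only [Subgroup.coe_subtype, Subgroup.coe_mul, Subgroup.coe_inv, hca']
      group
    have hdis : Disjoint K K2' := by
      rw [disjoint_iff]
      rcases hKmin (K ⊓ K2') inferInstance inf_le_left with e | e
      · exact e
      · exfalso
        refine hne (Subgroup.eq_of_le_of_card_ge ?_ (card_conj g K1).le).symm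
        rintro _ ⟨c, hc, rfl⟩
        exact (inf_eq_left.1 e hc : c ∈ K2')
    obtain ⟨r, hr, hKr⟩ := key K1 K2 (by
      rintro _ ⟨a, ha, rfl⟩ b hb
      exact congrArg Subtype.val (Subgroup.commute_of_normal_of_disjoint K K2' hKn hK2n hdis a
        ⟨b, hK2M hb⟩ ha hb).eq) (fun e => hK10 (Subgroup.eq_bot_of_card_eq _ (by
          rw [← card_conj g K1, show MulAut.conj g • K1 = ⊥ from e, Subgroup.card_bot])))
    have := Fact.mk hr
    have hKp : IsPGroup r K := hKr.of_equiv (K.equivMapOfInjective M.subtype M.subtype_injective).symm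
    refine hK10 (le_bot_iff.1 ?_)
    rw [← hpg ((Cfsg.pCore r M).map M.subtype) r inferInstance
      ((Cores.isPGroup_pCore r M).map _)]
    exact Subgroup.map_mono (Cores.le_pCore hKn hKp)
  · intro N hN hN0
    by_contra hle
    have hdis : Disjoint M N := by
      rw [disjoint_iff]
      rcases hmin (M ⊓ N) inferInstance inf_le_left with e | e
      · exact e
      · exact absurd (inf_eq_left.1 e) hle
    obtain ⟨r, hr, hMr⟩ := key M N (fun a ha b hb =>
      Subgroup.commute_of_normal_of_disjoint M N hMn hN hdis a b ha hb) hN0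
    have := Fact.mk hr
    exact hM0 (hpg M r hMn hMr)

/-- Let G be a finite non-solvable group in which every element has prime-power order, and let R be its largest solvable normal subgroup. Then R is a p-group for some prime p; G/R has a non-abelian simple normal subgroup contained in every nontrivial normal subgroup of G/R (its unique minimal normal subgroup); and the order of every solvable subgroup of G has at most two prime divisors. -/
theorem result {G : Type*} [Group G] [Finite G] (hns : ¬ Group.IsSolvable G) (hpp : ∀ g : G, g ≠ 1 → IsPrimePow (orderOf g))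
    (R : Subgroup G) [R.Normal] (hRs : Group.IsSolvable ↥R) (hRmax : ∀ N : Subgroup G, N.Normal → Group.IsSolvable ↥N → N ≤ R) :
    (∃ p : ℕ, p.Prime ∧ IsPGroup p ↥R) ∧
      (∃ M : Subgroup (G ⧸ R), M.Normal ∧ IsSimpleGroup ↥M ∧ ¬ IsMulCommutative ↥M ∧
        ∀ N : Subgroup (G ⧸ R), N.Normal → N ≠ ⊥ → M ≤ N) ∧
      ∀ H : Subgroup G, Group.IsSolvable ↥H → (Nat.card ↥H).primeFactors.card ≤ 2 := by
  open Cfsg.Agent.Solvable in
  refine ⟨exists_isPGroup_radical hns hpp R hRs, ?_, fun H hH => ?_⟩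
  · have hR : R ≠ ⊤ := by
      rintro rfl
      exact hns (Group.isSolvable_of_surjective (f := (Subgroup.topEquiv : (⊤ : Subgroup G) ≃* G).toMonoidHom)
        Subgroup.topEquiv.surjective)
    have : Nontrivial (G ⧸ R) := QuotientGroup.nontrivial_iff.2 hR
    have hfs := QuotientGroup.mk'_surjective R
    refine exists_simple_socle (fun N hN hNs => ?_) ?_
    · set L := N.comap (QuotientGroup.mk' R) with hL
      have hle : L ≤ R := by
        refine hRmax L (hN.comap _) ?_
        refine Group.isSolvable_of_ker_le_range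
          (Subgroup.inclusion (QuotientGroup.le_comap_mk' R N : R ≤ L))
          (((QuotientGroup.mk' R).comp L.subtype).codRestrict N fun x => x.2) ?_
        intro x hx
        exact ⟨⟨x, (QuotientGroup.eq_one_iff _).1 (congrArg Subtype.val hx)⟩, rfl⟩
      rw [← Subgroup.map_comap_eq_self_of_surjective hfs N]
      exact (Subgroup.map_eq_bot_iff L).2 (by rw [QuotientGroup.ker_mk']; exact hle)
    · intro x hx
      obtain ⟨g, rfl⟩ := hfs x
      have hd := orderOf_map_dvd (QuotientGroup.mk' R) g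
      refine (hpp g fun e => hx (by rw [e, map_one])).dvd hd ?_
      exact fun e => hx (orderOf_eq_one_iff.1 e)
  · refine Cfsg.Agent.S1475.result fun g => ?_
    rcases eq_or_ne g 1 with rfl | hg
    · exact Or.inr rfl
    · left
      rw [← Subgroup.orderOf_coe]
      exact hpp g fun e => hg (Subtype.ext e)

end Cfsg.Agent.S3992
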