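import Cfsg.Statements.S0848
import Cfsg.Agent.Lib.BSW.Dihedral
import Cfsg.Agent.EqLemmas

set_option autoImplicit false
open Cfsg

namespace Cfsg.Agent.S0848

/-- If a finite group equals its own commutator subgroup and contains an involution whose centralizer is isomorphic to the dihedral group of order 8, then the group has order 168 or 360. -/
theorem result {G : Type*} [Group G] [Finite G] (hperf : commutator G = ⊤) (t : G) (ht : orderOf t = 2) (e : Subgroup.centralizer ({t} : Set G) ≃* DihedralGroup 4) : Nat.card G = 168 ∨ Nat.card G = 360 := by
  have hidx : ∀ H : Subgroup G, H.index ≠ 2 := by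
    intro H hH
    have := Subgroup.normal_of_index_eq_two hH
    have : IsMulCommutative (G ⧸ H) := by
      have : Fact (Nat.Prime 2) := ⟨Nat.prime_two⟩
      have : IsCyclic (G ⧸ H) := isCyclic_of_prime_card (p := 2) hH
      infer_instance
    have hle : commutator G ≤ H := Subgroup.Normal.quotient_commutative_iff_commutator_le.1 this
    rw [hperf, top_le_iff] at hle
    rw [hle, Subgroup.index_top] at hH
    norm_num at hH
  obtain ⟨s, K, h, h4⟩ := BSW.hyp_of_dihedral ht e hidx
  exact (h.card_cases h4).imp id And.left

end Cfsg.Agent.S0848
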