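import Cfsg.Statements.S2385
import Cfsg.Agent.Lib.FormClasses.Count
import Cfsg.Agent.Lib.SylowTorus.Sp
import Mathlib.FieldTheory.IsAlgClosed.AlgebraicClosure
import Cfsg.Agent.EqLemmas

set_option autoImplicit false
open Cfsg

namespace Cfsg.Agent.S2385

open Polynomial Cfsg.Agent.FormClasses

section

variable {K : Type*} [Field K] {n : ℕ}

/-- The determinant of the characteristic block matrix. -/
theorem det_block (A : Matrix (Fin n) (Fin n) K) (t : K) (ht : t ≠ 0) :
    (Matrix.scalar (Fin n ⊕ Fin n) t - Matrix.fromBlocks A 1 (-1) 0).det =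
      t ^ n * (Matrix.scalar (Fin n) (t + t⁻¹) - A).det := by
  set D := Matrix.scalar (Fin n) t - A with hD
  have e : Matrix.scalar (Fin n ⊕ Fin n) t - Matrix.fromBlocks A 1 (-1) 0 =
      Matrix.fromBlocks D (-1) 1 (t • (1 : Matrix (Fin n) (Fin n) K)) := by
    ext (i | i) (j | j) <;> simp [hD, Matrix.one_apply, Matrix.diagonal_apply]
  have hmul : Matrix.fromBlocks D (-1) 1 (t • (1 : Matrix (Fin n) (Fin n) K)) *
      Matrix.fromBlocks (t • (1 : Matrix (Fin n) (Fin n) K)) 0 (-1) 1 =
      Matrix.fromBlocks (t • D + 1) (-1) 0 (t • 1) := by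
    rw [Matrix.fromBlocks_multiply]
    simp
  have hdet := congrArg Matrix.det hmul
  rw [Matrix.det_mul, Matrix.det_fromBlocks_zero₁₂, Matrix.det_fromBlocks_zero₂₁, Matrix.det_one, mul_one,
    Matrix.det_smul, Matrix.det_one, mul_one, Fintype.card_fin] at hdet
  rw [e, mul_right_cancel₀ (pow_ne_zero n ht) hdet]
  have e2 : t • D + 1 = t • (Matrix.scalar (Fin n) (t + t⁻¹) - A) := by
    ext i j
    by_cases h : i = j
    · subst h; simp [hD, mul_sub, mul_add, ht]; ring
    · simp [hD, h]
  rw [e2, Matrix.det_smul, Fintype.card_fin]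

end

/-- An element of `Sp_{2n}` realising `X^n G(X + 1/X)`. -/
theorem exists_realise {F : Type*} [Field F] (n : ℕ) (P : F[X]) (hP : P.Monic) (hn : P.natDegree = n) :
    ∃ g : ↥(Matrix.symplecticGroup (Fin n) F),
      ∀ t : AlgebraicClosure F, t ≠ 0 →
        aeval t (g : Matrix (Fin n ⊕ Fin n) (Fin n ⊕ Fin n) F).charpoly = t ^ n * aeval (t + t⁻¹) P := by
  subst hn
  set b : Module.Basis (Fin P.natDegree) F (AdjoinRoot P) := (AdjoinRoot.powerBasis' hP).basis with hb
  set A := Algebra.leftMulMatrix b (AdjoinRoot.root P) with hAdef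
  let τ : AdjoinRoot P →ₗ[F] F := (lcoeff F (P.natDegree - 1)).comp (AdjoinRoot.modByMonicHom hP)
  have hτ : ∀ x, (∀ y, τ (x * y) = 0) → x = 0 := by
    intro x hx
    obtain ⟨p, rfl⟩ := AdjoinRoot.mk_surjective x
    by_contra h
    have hr : p %ₘ P ≠ 0 := fun h0 => h (by
      rw [← AdjoinRoot.mk_leftInverse hP (AdjoinRoot.mk P p), AdjoinRoot.modByMonicHom_mk, h0, map_zero])
    have hlt : (p %ₘ P).natDegree < P.natDegree :=
      natDegree_modByMonic_lt p hP (fun h1 => hr (by rw [h1, modByMonic_one]))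
    have := hx (AdjoinRoot.mk P (X ^ (P.natDegree - 1 - (p %ₘ P).natDegree)))
    rw [← AdjoinRoot.mk_leftInverse hP (AdjoinRoot.mk P p), AdjoinRoot.modByMonicHom_mk, ← map_mul] at this
    simp only [τ, LinearMap.comp_apply, AdjoinRoot.modByMonicHom_mk, lcoeff_apply] at this
    have hdeg : ((p %ₘ P) * X ^ (P.natDegree - 1 - (p %ₘ P).natDegree)).natDegree < P.natDegree := by
      rw [natDegree_mul hr (pow_ne_zero _ X_ne_zero), natDegree_X_pow]; omega
    rw [(modByMonic_eq_self_iff hP).2 (degree_lt_degree hdeg)] at this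
    have e : P.natDegree - 1 = (p %ₘ P).natDegree + (P.natDegree - 1 - (p %ₘ P).natDegree) := by omega
    nth_rewrite 2 [e] at this
    rw [coeff_mul_X_pow, coeff_natDegree, leadingCoeff_eq_zero] at this
    exact hr this
  obtain ⟨T, hT, hTu, hTA⟩ : ∃ T : Matrix (Fin P.natDegree) (Fin P.natDegree) F, T.transpose = T ∧
      IsUnit T.det ∧ A.transpose * T = T * A :=
    ⟨SylowTorus.gram b τ, SylowTorus.gram_transpose b τ,
      isUnit_iff_ne_zero.2 (SylowTorus.gram_det_ne_zero b τ hτ), SylowTorus.gram_adjoint b τ _⟩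
  have hTi : (T⁻¹).transpose = T⁻¹ := by rw [Matrix.transpose_nonsing_inv, hT]
  have hA' : A * T⁻¹ = T⁻¹ * A.transpose := by
    have h := congrArg (fun X => T⁻¹ * X * T⁻¹) hTA
    simp only [Matrix.mul_assoc, Matrix.mul_nonsing_inv T hTu, Matrix.mul_one,
      Matrix.nonsing_inv_mul_cancel_left _ _ hTu] at h
    exact h.symm
  have hmem : Matrix.fromBlocks A T⁻¹ (-T) 0 ∈ Matrix.symplecticGroup (Fin P.natDegree) F := by
    rw [SymplecticGroup.mem_iff, Matrix.J, Matrix.fromBlocks_transpose, Matrix.fromBlocks_multiply,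
      Matrix.fromBlocks_multiply]
    simp [hT, hTi, hA', Matrix.mul_nonsing_inv T hTu, Matrix.nonsing_inv_mul T hTu]
  refine ⟨⟨_, hmem⟩, fun t ht => ?_⟩
  show aeval t (Matrix.fromBlocks A T⁻¹ (-T) 0).charpoly = _
  have hsim : (Matrix.fromBlocks A T⁻¹ (-T) 0).charpoly = (Matrix.fromBlocks A (1 : Matrix (Fin P.natDegree) (Fin P.natDegree) F) (-1) 0).charpoly := by
    let u : (Matrix (Fin P.natDegree ⊕ Fin P.natDegree) (Fin P.natDegree ⊕ Fin P.natDegree) F)ˣ :=
      { val := Matrix.fromBlocks 1 0 0 T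
        inv := Matrix.fromBlocks 1 0 0 T⁻¹
        val_inv := by simp [Matrix.fromBlocks_multiply, Matrix.mul_nonsing_inv T hTu, Matrix.fromBlocks_one]
        inv_val := by simp [Matrix.fromBlocks_multiply, Matrix.nonsing_inv_mul T hTu, Matrix.fromBlocks_one] }
    rw [← Matrix.charpoly_units_conj u (Matrix.fromBlocks A 1 (-1) 0)]
    congr 1
    rw [← Matrix.coe_units_inv]
    show _ = Matrix.fromBlocks 1 0 0 T * _ * Matrix.fromBlocks 1 0 0 T⁻¹
    simp [Matrix.fromBlocks_multiply]
  have hAP : A.charpoly = P := by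
    have h := charpoly_leftMulMatrix (AdjoinRoot.powerBasis' hP)
    rw [show (AdjoinRoot.powerBasis' hP).gen = AdjoinRoot.root P from rfl,
      AdjoinRoot.minpoly_root hP.ne_zero, hP.leadingCoeff, inv_one, map_one, mul_one] at h
    exact h
  rw [hsim, aeval_def, ← eval_map, ← Matrix.charpoly_map, Matrix.fromBlocks_map, Matrix.map_neg _ (fun a => map_neg _ a),
    Matrix.map_one _ (map_zero _) (map_one _), Matrix.map_zero _ (map_zero _), Matrix.eval_charpoly,
    det_block _ t ht, aeval_def, ← eval_map]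
  congr 1
  conv_rhs => rw [← hAP]
  rw [← Matrix.charpoly_map, Matrix.eval_charpoly]

/-- In the symplectic group `Sp_{2n}(q)`, `q` a power of the prime `p`, the number of conjugacy classes of elements of order prime to `p` is `q^n`. -/
theorem result {F : Type*} [Field F] [Fintype F] {q : ℕ} (hq : Fintype.card F = q) (p : ℕ) [Fact p.Prime] [CharP F p] (n : ℕ) :
    Nat.card {c : ConjClasses ↥(Matrix.symplecticGroup (Fin n) F) //
      ∃ g : ↥(Matrix.symplecticGroup (Fin n) F), ConjClasses.mk g = c ∧ (orderOf g).Coprime p} = q ^ n := by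
  classical
  subst hq
  haveI : Finite ↥(Matrix.symplecticGroup (Fin n) F) := Subtype.finite
  let ρ : ↥(Matrix.symplecticGroup (Fin n) F) →* Matrix (Fin n ⊕ Fin n) (Fin n ⊕ Fin n) F :=
    (Matrix.symplecticGroup (Fin n) F).subtype
  rw [card_classes_eq_range p ρ (fun g h hg hh hc => sp_isConj p n g h hg hh hc)]
  have hdet : ∀ g : ↥(Matrix.symplecticGroup (Fin n) F), (ρ g).det = 1 :=
    fun g => SymplecticGroup.det_eq_one g.2
  -- symmetry of the characteristic polynomial
  have hsym : ∀ g : ↥(Matrix.symplecticGroup (Fin n) F), (ρ g).charpoly = (ρ g).charpoly.reverse := by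
    intro g
    have hu : IsUnit (ρ g).det := by rw [hdet]; exact isUnit_one
    have hJ : IsUnit (Matrix.J (Fin n) F).det := by
      exact Matrix.isUnit_det_J (Fin n) F
    let u : (Matrix (Fin n ⊕ Fin n) (Fin n ⊕ Fin n) F)ˣ := Matrix.nonsingInvUnit _ hJ
    have e : (u : Matrix (Fin n ⊕ Fin n) (Fin n ⊕ Fin n) F) * (ρ g).transpose * (u⁻¹ : (Matrix _ _ F)ˣ).val =
        (ρ g)⁻¹ := by
      have h1 : (ρ g) * Matrix.J (Fin n) F * (ρ g).transpose = Matrix.J (Fin n) F :=
        SymplecticGroup.mem_iff.1 g.2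
      show Matrix.J (Fin n) F * _ * (Matrix.J (Fin n) F)⁻¹ = _
      conv_rhs => rw [← Matrix.mul_one (ρ g)⁻¹, ← Matrix.mul_nonsing_inv _ hJ]
      nth_rewrite 3 [← h1]
      rw [← Matrix.mul_assoc (ρ g)⁻¹, Matrix.mul_assoc (ρ g), Matrix.nonsing_inv_mul_cancel_left _ _ hu]
    conv_lhs => rw [← Matrix.charpoly_transpose, ← Matrix.charpoly_units_conj u, ← Matrix.coe_units_inv, e]
    rw [charpoly_inv' _ (by rw [hdet]; exact one_ne_zero), hdet, inv_one, mul_one, Fintype.card_sum,
      Fintype.card_fin, ← two_mul, pow_mul]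
    simp
  have hdeg : ∀ g, (ρ g).charpoly.natDegree = n + n := fun g => by
    rw [Matrix.charpoly_natDegree_eq_dim, Fintype.card_sum, Fintype.card_fin]
  have hcoeff : ∀ g i, i ≤ n + n → (ρ g).charpoly.coeff i = (ρ g).charpoly.coeff (n + n - i) := fun g i hi => by
    conv_lhs => rw [hsym g]
    rw [coeff_reverse_charpoly _ (by simpa using hi), Fintype.card_sum, Fintype.card_fin]
  haveI : Finite (Set.range fun g => (ρ g).charpoly) := Set.finite_range _ |>.to_subtype
  apply le_antisymm
  · let Φ : (Set.range fun g => (ρ g).charpoly) → (Fin n → F) := fun P i => P.1.coeff (i + 1)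
    have hΦ : Function.Injective Φ := by
      rintro ⟨_, g, rfl⟩ ⟨_, h, rfl⟩ heq
      have key : ∀ i, i ≤ n → (ρ g).charpoly.coeff i = (ρ h).charpoly.coeff i := by
        intro i hi
        rcases Nat.eq_zero_or_pos i with rfl | hpos
        · rw [hcoeff g 0 (by omega), hcoeff h 0 (by omega), Nat.sub_zero]
          conv_lhs => rw [← hdeg g, coeff_natDegree, (Matrix.charpoly_monic _).leadingCoeff]
          conv_rhs => rw [← hdeg h, coeff_natDegree, (Matrix.charpoly_monic _).leadingCoeff]
        · have := congrFun heq ⟨i - 1, by omega⟩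
          simpa [Φ, Nat.sub_add_cancel hpos] using this
      refine Subtype.ext (Polynomial.ext fun i => ?_)
      rcases le_or_gt i n with hi | hi
      · exact key i hi
      rcases le_or_gt i (n + n) with hi2 | hi2
      · rw [hcoeff g i hi2, hcoeff h i hi2]; exact key _ (by omega)
      · rw [coeff_eq_zero_of_natDegree_lt (by rw [hdeg]; omega),
          coeff_eq_zero_of_natDegree_lt (by rw [hdeg]; omega)]
    calc _ ≤ Nat.card (Fin n → F) := Nat.card_le_card_of_injective Φ hΦ
      _ = _ := by rw [Nat.card_fun, Nat.card_fin, Nat.card_eq_fintype_card]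
  · choose g hg using fun v : Fin n → F => exists_realise n ((Semisimple.monicEquiv n).symm v).1
      ((Semisimple.monicEquiv n).symm v).2.1 ((Semisimple.monicEquiv n).symm v).2.2
    let Ψ : (Fin n → F) → Set.range fun g => (ρ g).charpoly := fun v => ⟨_, g v, rfl⟩
    have hΨ : Function.Injective Ψ := by
      intro v w hvw
      apply (Semisimple.monicEquiv n).symm.injective
      apply Subtype.ext
      apply Polynomial.map_injective (algebraMap F (AlgebraicClosure F)) (RingHom.injective _)
      apply Polynomial.funext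
      intro x
      obtain ⟨t, ht⟩ := IsAlgClosed.exists_eval₂_eq_zero (RingHom.id (AlgebraicClosure F))
        (X ^ 2 - C x * X + 1 : (AlgebraicClosure F)[X]) (by
          intro h0
          have h2 := congrArg natDegree (show (X ^ 2 - C x * X + 1 : (AlgebraicClosure F)[X]) =
            C 1 * X ^ 2 + C (-x) * X + C 1 by simp; ring)
          rw [natDegree_quadratic one_ne_zero, natDegree_eq_of_degree_eq_some h0] at h2
          exact absurd h2 (by norm_num))
      simp only [eval₂_id, eval_add, eval_sub, eval_pow, eval_X, eval_mul, eval_C, eval_one] at ht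
      have ht0 : t ≠ 0 := fun h => by simp [h] at ht
      have hx : t + t⁻¹ = x := by
        field_simp
        linear_combination ht
      have h1 := hg v t ht0
      have h2 := hg w t ht0
      have hc : (ρ (g v)).charpoly = (ρ (g w)).charpoly := congrArg Subtype.val hvw
      have h1' : aeval t (ρ (g v)).charpoly = _ := h1
      rw [hc] at h1'
      rw [eval_map, eval_map, ← aeval_def, ← aeval_def, ← hx]
      exact mul_left_cancel₀ (pow_ne_zero n ht0) (h1'.symm.trans h2)
    calc _ = Nat.card (Fin n → F) := by rw [Nat.card_fun, Nat.card_fin, Nat.card_eq_fintype_card]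
      _ ≤ _ := Nat.card_le_card_of_injective Ψ hΨ

end Cfsg.Agent.S2385
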