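import Cfsg.Statements.S2645
import Cfsg.Agent.EqLemmas
import Cfsg.Agent.S2385
import Mathlib.Data.Sym.Card
import Mathlib.FieldTheory.Finite.Basic
import Mathlib.RingTheory.RootsOfUnity.PrimitiveRoots

set_option autoImplicit false
open Cfsg

namespace Cfsg.Agent.S2645

open Polynomial Cfsg.Agent.FormClasses

theorem eq_or_inv_of_trace_eq {E : Type*} [Field E] {z w : E} (hz : z ≠ 0) (hw : w ≠ 0)
    (h : z + z⁻¹ = w + w⁻¹) : z = w ∨ z = w⁻¹ := by
  have h2 : (z - w) * (z * w - 1) = 0 := by
    field_simp at h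
    linear_combination h
  rcases mul_eq_zero.1 h2 with h3 | h3
  · exact Or.inl (sub_eq_zero.1 h3)
  · exact Or.inr (eq_inv_of_mul_eq_one_left (sub_eq_zero.1 h3))

theorem exists_trace_eq {E : Type*} [Field E] [IsAlgClosed E] (x : E) :
    ∃ z : E, z ≠ 0 ∧ z + z⁻¹ = x := by
  obtain ⟨z, hz⟩ := IsAlgClosed.exists_root (X ^ 2 + (C (-x) * X + 1) : E[X]) (by
    rw [degree_add_eq_left_of_degree_lt] <;> rw [degree_X_pow]
    · norm_num
    · exact lt_of_le_of_lt ((degree_add_le _ _).trans
        (max_le (degree_C_mul_X_le _) (degree_one_le.trans zero_le_one))) (by norm_num))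
  simp only [IsRoot, eval_add, eval_mul, eval_pow, eval_X, eval_C, eval_one] at hz
  have hz0 : z ≠ 0 := fun h => by simp [h] at hz
  exact ⟨z, hz0, by field_simp; linear_combination hz⟩

section

variable {F : Type*} [Field F]

/-- Traces of the `r`-th roots of unity. -/
def traces (F : Type*) [Field F] (r : ℕ) : Set (AlgebraicClosure F) :=
  {x | ∃ z : AlgebraicClosure F, z ^ r = 1 ∧ z + z⁻¹ = x}

theorem finite_traces {r : ℕ} (hr : r ≠ 0) : (traces F r).Finite := by
  refine ((nthRootsFinset r (1 : AlgebraicClosure F)).finite_toSet.image fun z => z + z⁻¹).subset ?_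
  rintro x ⟨z, hz, rfl⟩
  exact ⟨z, by simp [mem_nthRootsFinset (Nat.pos_of_ne_zero hr), hz], rfl⟩

/-- Degree `m` monic polynomials with all roots among the traces. -/
def polys (F : Type*) [Field F] (r m : ℕ) : Set F[X] :=
  {P | P.Monic ∧ P.natDegree = m ∧ ∀ x : AlgebraicClosure F, aeval x P = 0 → x ∈ traces F r}

variable [Fintype F]

/-- The classes of `r`-torsion elements correspond to the trace polynomials. -/
theorem card_torsion (p : ℕ) [Fact p.Prime] [CharP F p] (m r : ℕ) (hr : r.Prime) (hrp : r ≠ p) :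
    Nat.card {C : ConjClasses ↥(Matrix.symplecticGroup (Fin m) F) //
      ∃ g : Matrix.symplecticGroup (Fin m) F, ConjClasses.mk g = C ∧ g ^ r = 1} =
      Nat.card (polys F r m) := by
  classical
  haveI : Finite ↥(Matrix.symplecticGroup (Fin m) F) := Subtype.finite
  let E := AlgebraicClosure F
  let ρ : ↥(Matrix.symplecticGroup (Fin m) F) →* Matrix (Fin m ⊕ Fin m) (Fin m ⊕ Fin m) F :=
    (Matrix.symplecticGroup (Fin m) F).subtype
  have hrange : Nat.card (Set.range fun g => (ρ g).charpoly) = Fintype.card F ^ m := by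
    rw [← card_classes_eq_range p ρ (fun g h hg hh hc => sp_isConj p m g h hg hh hc)]
    exact Cfsg.Agent.S2385.result rfl p m
  let M := {P : F[X] // P.Monic ∧ P.natDegree = m}
  choose G hG using fun P : M => Cfsg.Agent.S2385.exists_realise m P.1 P.2.1 P.2.2
  let Ψ : M → Set.range fun g => (ρ g).charpoly := fun P => ⟨_, G P, rfl⟩
  have hΨ : Function.Injective Ψ := by
    intro P Q hPQ
    apply Subtype.ext
    apply Polynomial.map_injective (algebraMap F E) (RingHom.injective _)
    apply Polynomial.funext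
    intro x
    obtain ⟨t, ht0, hx⟩ := exists_trace_eq x
    have hc : (ρ (G P)).charpoly = (ρ (G Q)).charpoly := congrArg Subtype.val hPQ
    have h1 : aeval t (ρ (G P)).charpoly = _ := hG P t ht0
    rw [hc] at h1
    rw [eval_map, eval_map, ← aeval_def, ← aeval_def, ← hx]
    exact mul_left_cancel₀ (pow_ne_zero m ht0) (h1.symm.trans (hG Q t ht0))
  haveI : Finite M := Finite.of_equiv _ (Semisimple.monicEquiv (F := F) m).symm
  haveI : Finite (Set.range fun g => (ρ g).charpoly) := Set.finite_range _ |>.to_subtype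
  have hΨs : Function.Bijective Ψ := hΨ.bijective_of_nat_card_le (by
    rw [hrange, Nat.card_congr (Semisimple.monicEquiv (F := F) m), Nat.card_fun, Nat.card_fin,
      Nat.card_eq_fintype_card])
  have hcop : ∀ g : ↥(Matrix.symplecticGroup (Fin m) F), g ^ r = 1 → (orderOf g).Coprime p := by
    intro g hg
    exact Nat.Coprime.coprime_dvd_left (orderOf_dvd_of_pow_eq_one hg)
      ((Nat.coprime_primes hr Fact.out).2 hrp)
  have hcoeff : ∀ g : ↥(Matrix.symplecticGroup (Fin m) F), (ρ g).charpoly.coeff 0 ≠ 0 := by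
    intro g h0
    have h1 := Matrix.det_eq_sign_charpoly_coeff (ρ g)
    rw [h0, mul_zero, show (ρ g).det = 1 from SymplecticGroup.det_eq_one g.2] at h1
    exact one_ne_zero h1
  have hroots : ∀ (g : ↥(Matrix.symplecticGroup (Fin m) F)), g ^ r = 1 →
      ∀ t : E, aeval t (ρ g).charpoly = 0 → t ^ r = 1 := by
    intro g hg t ht
    have hM : ((ρ g).map (algebraMap F E)) ^ r = 1 := by
      rw [← Matrix.map_pow, ← map_pow, hg, map_one, Matrix.map_one _ (map_zero _) (map_one _)]
    have hroot : ((ρ g).map (algebraMap F E)).charpoly.IsRoot t := by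
      rw [Matrix.charpoly_map, IsRoot, eval_map, ← aeval_def, ht]
    rcases Nat.eq_zero_or_pos m with hm | hm
    · subst hm
      exfalso
      rw [Matrix.charpoly, Matrix.det_isEmpty] at ht
      simp at ht
    haveI : Nonempty (Fin m) := ⟨⟨0, hm⟩⟩
    have h2 := spectrum.pow_mem_pow ((ρ g).map (algebraMap F E)) r
      (Matrix.mem_spectrum_iff_isRoot_charpoly.2 hroot)
    rw [hM, spectrum.one_eq] at h2
    exact h2
  have hpolys : ∀ P : M, (∃ g : ↥(Matrix.symplecticGroup (Fin m) F), g ^ r = 1 ∧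
      (ρ g).charpoly = (ρ (G P)).charpoly) ↔ P.1 ∈ polys F r m := by
    intro P
    constructor
    · rintro ⟨g, hg, hc⟩
      refine ⟨P.2.1, P.2.2, fun x hx => ?_⟩
      obtain ⟨t, ht0, htx⟩ := exists_trace_eq x
      refine ⟨t, hroots g hg t ?_, htx⟩
      rw [hc]
      exact (hG P t ht0).trans (by rw [htx, hx, mul_zero])
    · intro hP
      set χ := (ρ (G P)).charpoly with hχ
      have hr1 : ∀ t : E, aeval t χ = 0 → t ^ r = 1 := by
        intro t ht
        have ht0 : t ≠ 0 := by
          rintro rfl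
          rw [aeval_def, eval₂_at_zero, map_eq_zero] at ht
          exact hcoeff _ ht
        have h1 := hG P t ht0
        have h2 : aeval t χ = t ^ m * aeval (t + t⁻¹) P.1 := h1
        rw [ht, eq_comm, mul_eq_zero] at h2
        obtain ⟨z, hz, hzx⟩ := hP.2.2 _ (h2.resolve_left (pow_ne_zero m ht0))
        have hz0 : z ≠ 0 := fun h => by simp [h, hr.ne_zero] at hz
        rcases eq_or_inv_of_trace_eq hz0 ht0 hzx with e | e
        · rw [← e, hz]
        · rw [← inv_inv t, ← e, inv_pow, hz, inv_one]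
      have hdvd : χ ∣ ((X : F[X]) ^ r - 1) ^ χ.natDegree := by
        rw [← Polynomial.map_dvd_map' (algebraMap F E)]
        have hsp : (χ.map (algebraMap F E)).Splits := IsAlgClosed.splits _
        conv_lhs => rw [hsp.eq_prod_roots_of_monic ((Matrix.charpoly_monic _).map _)]
        have hcard : (χ.map (algebraMap F E)).roots.card = χ.natDegree := by
          rw [← hsp.natDegree_eq_card_roots, natDegree_map]
        rw [Polynomial.map_pow, ← hcard, ← Multiset.prod_replicate, ← Multiset.map_const']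
        refine Multiset.prod_dvd_prod_of_dvd _ _ fun a ha => ?_
        rw [Polynomial.map_sub, Polynomial.map_pow, map_X, Polynomial.map_one, dvd_iff_isRoot, IsRoot,
          eval_sub, eval_pow, eval_X, eval_one, hr1 a, sub_self]
        rw [mem_roots', IsRoot, eval_map, ← aeval_def] at ha
        exact ha.2
      obtain ⟨s, hp, hs⟩ := FiniteField.card F p
      refine ⟨G P ^ Fintype.card F ^ χ.natDegree, ?_, ?_⟩
      · have h0 : (ρ (G P) ^ r - 1) ^ χ.natDegree = 0 := by
          obtain ⟨c, hc⟩ := hdvd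
          have h := congrArg (aeval (ρ (G P))) hc
          rw [map_mul, hχ, Matrix.aeval_self_charpoly, zero_mul] at h
          simpa [← hχ] using h
        have hle : χ.natDegree ≤ p ^ (s * χ.natDegree : ℕ) :=
          (Nat.le_mul_of_pos_left _ s.pos).trans (Nat.lt_pow_self (Fact.out : p.Prime).one_lt).le
        haveI : Nontrivial F := inferInstance
        rcases Nat.eq_zero_or_pos m with hm | hm
        · subst hm
          exact Subtype.ext (Subsingleton.elim _ _)
        haveI : Nonempty (Fin m) := ⟨⟨0, hm⟩⟩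
        have h1 := pow_eq_zero_of_le hle h0
        rw [sub_pow_char_pow_of_commute _ _ (Commute.one_right _), one_pow, sub_eq_zero, pow_mul p,
          ← hs] at h1
        rw [← pow_mul, mul_comm, pow_mul]
        apply Subtype.ext
        show ρ ((G P ^ r) ^ Fintype.card F ^ χ.natDegree) = 1
        rw [map_pow, map_pow, h1]
      · rw [map_pow]
        generalize χ.natDegree = a
        induction a with
        | zero => simp [← hχ]
        | succ a ih => rw [pow_succ, pow_mul, FiniteField.Matrix.charpoly_pow_card, ih]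
  have hinv : ∀ {g h : ↥(Matrix.symplecticGroup (Fin m) F)}, IsConj g h →
      (ρ g).charpoly = (ρ h).charpoly := by
    intro g h hgh
    obtain ⟨c, rfl⟩ := isConj_iff.1 hgh
    let u : (Matrix (Fin m ⊕ Fin m) (Fin m ⊕ Fin m) F)ˣ := (Units.map ρ) (toUnits c)
    have h1 : ρ (c * g * c⁻¹) = (u : Matrix _ _ F) * ρ g * ((u⁻¹ : (Matrix _ _ F)ˣ) : Matrix _ _ F) := by
      simp [u, map_mul]
    rw [h1, Matrix.coe_units_inv, Matrix.charpoly_units_conj]
  let e := Equiv.ofBijective Ψ hΨs
  let Φ : {C : ConjClasses ↥(Matrix.symplecticGroup (Fin m) F) //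
      ∃ g : Matrix.symplecticGroup (Fin m) F, ConjClasses.mk g = C ∧ g ^ r = 1} → polys F r m :=
    fun C => ⟨(e.symm ⟨_, C.2.choose, rfl⟩).1, (hpolys _).1 ⟨C.2.choose, C.2.choose_spec.2,
      (congrArg Subtype.val (e.apply_symm_apply ⟨_, C.2.choose, rfl⟩)).symm⟩⟩
  refine Nat.card_eq_of_bijective Φ ⟨fun C C' h => ?_, ?_⟩
  · have h' := e.symm.injective (Subtype.ext (congrArg (fun x : polys F r m => x.1) h))
    apply Subtype.ext
    rw [← C.2.choose_spec.1, ← C'.2.choose_spec.1, ConjClasses.mk_eq_mk_iff_isConj]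
    exact sp_isConj p m _ _ (hcop _ C.2.choose_spec.2) (hcop _ C'.2.choose_spec.2)
      (congrArg Subtype.val h')
  · rintro ⟨P, hP⟩
    obtain ⟨g, hg, hc⟩ := (hpolys ⟨P, hP.1, hP.2.1⟩).2 hP
    let C : {C : ConjClasses ↥(Matrix.symplecticGroup (Fin m) F) //
      ∃ g : Matrix.symplecticGroup (Fin m) F, ConjClasses.mk g = C ∧ g ^ r = 1} :=
      ⟨ConjClasses.mk g, g, rfl, hg⟩
    refine ⟨C, Subtype.ext ?_⟩
    show (e.symm ⟨_, C.2.choose, rfl⟩).1 = P
    have : e.symm ⟨_, C.2.choose, rfl⟩ = ⟨P, hP.1, hP.2.1⟩ := by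
      rw [Equiv.symm_apply_eq]
      apply Subtype.ext
      show (ρ C.2.choose).charpoly = (ρ (G _)).charpoly
      rw [← hc]
      exact hinv (ConjClasses.mk_eq_mk_iff_isConj.1 C.2.choose_spec.1)
    rw [this]

/-- The degree of the minimal polynomial of a nontrivial trace. -/
theorem natDegree_minpoly_trace (p : ℕ) [Fact p.Prime] [CharP F p] {r d : ℕ} [Fact r.Prime]
    (hd : ∀ k : ℕ, ((Fintype.card F : ZMod r)) ^ (2 * k) = 1 ↔ d ∣ k)
    {z : AlgebraicClosure F} (hz : z ^ r = 1) (hz1 : z ≠ 1) :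
    (minpoly F (z + z⁻¹)).natDegree = d := by
  haveI : CharP (AlgebraicClosure F) p := charP_of_injective_algebraMap (RingHom.injective (algebraMap F _)) p
  have hr : r.Prime := Fact.out
  have hz0 : z ≠ 0 := fun h => by simp [h, hr.ne_zero] at hz
  have hord : orderOf z = r := orderOf_eq_prime hz hz1
  have hint : IsIntegral F (z + z⁻¹) := Algebra.IsIntegral.isIntegral _
  have key : ∀ k, (minpoly F (z + z⁻¹)).natDegree ∣ k ↔ d ∣ k := by
    intro k
    rw [(minpoly.irreducible hint).natDegree_dvd_iff_dvd_X_pow_card_pow_sub_X, minpoly.dvd_iff,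
      map_sub, map_pow, aeval_X, sub_eq_zero, ← hd, Nat.card_eq_fintype_card]
    obtain ⟨s, hp, hs⟩ := FiniteField.card F p
    have hfr : (z + z⁻¹) ^ Fintype.card F ^ k =
        z ^ Fintype.card F ^ k + (z ^ Fintype.card F ^ k)⁻¹ := by
      rw [hs, ← pow_mul, add_pow_char_pow, inv_pow]
    rw [hfr, mul_comm 2 k, pow_mul, sq_eq_one_iff, ← Nat.cast_pow]
    generalize Fintype.card F ^ k = a
    have h1 : ∀ c : ℤ, z ^ (a : ℤ) = z ^ c ↔ (a : ZMod r) = (c : ZMod r) := fun c => by
      rw [show z = ((Units.mk0 z hz0 : (AlgebraicClosure F)ˣ) : AlgebraicClosure F) from rfl,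
        ← Units.val_zpow_eq_zpow_val, ← Units.val_zpow_eq_zpow_val, Units.val_inj, zpow_eq_zpow_iff_modEq,
        ← orderOf_units, Units.val_mk0, hord, ← ZMod.intCast_eq_intCast_iff, Int.cast_natCast]
    have e1 := h1 1
    have e2 := h1 (-1)
    rw [zpow_natCast, zpow_one, Int.cast_one] at e1
    rw [zpow_natCast, zpow_neg_one, Int.cast_neg, Int.cast_one] at e2
    rw [← e1, ← e2]
    refine ⟨fun h => eq_or_inv_of_trace_eq (pow_ne_zero a hz0) hz0 h, ?_⟩
    rintro (h | h) <;> rw [h]
    rw [inv_inv, add_comm]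
  exact Nat.dvd_antisymm ((key d).2 dvd_rfl) ((key _).1 dvd_rfl)

/-- The number of trace polynomials. -/
theorem card_polys (p : ℕ) [Fact p.Prime] [CharP F p] {r d u : ℕ} (m : ℕ) [Fact r.Prime] (hr2 : r ≠ 2)
    (hrp : r ≠ p) (hd0 : 0 < d) (hd : ∀ k : ℕ, ((Fintype.card F : ZMod r)) ^ (2 * k) = 1 ↔ d ∣ k)
    (hdu : 2 * (d * u) = r - 1) :
    Nat.card (polys F r m) = (m / d + u).choose u := by
  classical
  let E := AlgebraicClosure F
  haveI : CharP E p := charP_of_injective_algebraMap (RingHom.injective (algebraMap F _)) p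
  have hr : r.Prime := Fact.out
  let S : Finset E := (finite_traces (F := F) hr.ne_zero).toFinset
  have hS : ∀ {x}, x ∈ S ↔ x ∈ traces F r := Set.Finite.mem_toFinset _
  have h2S : (2 : E) ∈ S := hS.2 ⟨1, one_pow r, by norm_num⟩
  let b : F[X] := minpoly F (2 : E)
  have hbX : b = X - C 2 := by
    show minpoly F (2 : E) = _
    rw [show (2 : E) = algebraMap F E 2 by rw [map_ofNat], minpoly.eq_X_sub_C]
  have hb1 : b.natDegree = 1 := by rw [hbX, natDegree_X_sub_C]
  have hint : ∀ x : E, IsIntegral F x := fun x => Algebra.IsIntegral.isIntegral _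
  have hne2 : ∀ z : E, z ^ r = 1 → (z + z⁻¹ = 2 ↔ z = 1) := by
    intro z hz
    have hz0 : z ≠ 0 := fun h => by simp [h, hr.ne_zero] at hz
    refine ⟨fun h => ?_, fun h => by rw [h]; norm_num⟩
    rcases eq_or_inv_of_trace_eq hz0 one_ne_zero (h.trans (by norm_num)) with e | e
    · exact e
    · rw [e, inv_one]
  -- orbit closure
  have horb : ∀ x ∈ S, ∀ y : E, aeval y (minpoly F x) = 0 → y ∈ S := by
    intro x hx y hy
    obtain ⟨z, hz, rfl⟩ := hS.1 hx
    have he : minpoly F (z + z⁻¹) = minpoly F y :=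
      minpoly.eq_of_irreducible_of_monic (minpoly.irreducible (hint _)) hy (minpoly.monic (hint _))
    obtain ⟨σ, hσ⟩ := (Normal.minpoly_eq_iff_mem_orbit _).1 he.symm
    refine hS.2 ⟨σ z, by rw [← map_pow, hz, map_one], ?_⟩
    rw [← map_inv₀, ← map_add]
    exact hσ
  let T : Finset F[X] := S.image (minpoly F)
  have hbT : b ∈ T := Finset.mem_image_of_mem _ h2S
  have hTdeg : ∀ f ∈ T, f ≠ b → f.natDegree = d := by
    intro f hf hfb
    obtain ⟨x, hx, rfl⟩ := Finset.mem_image.1 hf
    obtain ⟨z, hz, rfl⟩ := hS.1 hx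
    exact natDegree_minpoly_trace p hd hz fun h => hfb (by rw [(hne2 z hz).2 h])
  have hTle : ∀ f ∈ T, f.natDegree ≤ d := by
    intro f hf
    by_cases h : f = b
    · rw [h, hb1]; exact hd0
    · exact (hTdeg f hf h).le
  have hTirr : ∀ f ∈ T, Irreducible f := by
    intro f hf
    obtain ⟨x, hx, rfl⟩ := Finset.mem_image.1 hf
    exact minpoly.irreducible (hint _)
  have hTmon : ∀ f ∈ T, f.Monic := by
    intro f hf
    obtain ⟨x, hx, rfl⟩ := Finset.mem_image.1 hf
    exact minpoly.monic (hint _)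
  -- the size of `T`
  have hScard : 2 * (S.erase 2).card = r - 1 := by
    haveI : NeZero (r : E) := ⟨fun h => hrp (((Nat.prime_dvd_prime_iff_eq Fact.out hr).1
      ((CharP.cast_eq_zero_iff E p r).1 h)).symm)⟩
    obtain ⟨ζ, hζ⟩ := HasEnoughRootsOfUnity.exists_primitiveRoot E r
    set W := (nthRootsFinset r (1 : E)).erase 1
    have hW : ∀ {w}, w ∈ W ↔ w ≠ 1 ∧ w ^ r = 1 := by
      intro w
      simp [W, mem_nthRootsFinset hr.pos]
    have hWc : W.card = r - 1 := by
      rw [Finset.card_erase_of_mem (by simp [mem_nthRootsFinset hr.pos]), hζ.card_nthRootsFinset]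
    have hmap : ∀ w ∈ W, w + w⁻¹ ∈ S.erase 2 := fun w hw =>
      Finset.mem_erase.2 ⟨fun h => (hW.1 hw).1 ((hne2 w (hW.1 hw).2).1 h), hS.2 ⟨w, (hW.1 hw).2, rfl⟩⟩
    rw [← hWc, Finset.card_eq_sum_card_fiberwise hmap, mul_comm, ← smul_eq_mul, ← Finset.sum_const]
    refine Finset.sum_congr rfl fun x hx => ?_
    obtain ⟨hx2, hxS⟩ := Finset.mem_erase.1 hx
    obtain ⟨z, hz, rfl⟩ := hS.1 hxS
    have hz1 : z ≠ 1 := fun h => hx2 ((hne2 z hz).2 h)
    have hz0 : z ≠ 0 := fun h => by simp [h, hr.ne_zero] at hz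
    have hne : z ≠ z⁻¹ := fun h => by
      have h2 : z ^ 2 = 1 := by
        rw [sq]; nth_rewrite 1 [h]; exact inv_mul_cancel₀ hz0
      have h3 := Nat.dvd_gcd (orderOf_dvd_of_pow_eq_one h2) (orderOf_dvd_of_pow_eq_one hz)
      rw [(Nat.coprime_primes Nat.prime_two hr).2 (Ne.symm hr2), Nat.dvd_one, orderOf_eq_one_iff] at h3
      exact hz1 h3
    rw [eq_comm, Finset.card_eq_two]
    refine ⟨z, z⁻¹, hne, ?_⟩
    ext w
    simp only [Finset.mem_filter, hW, Finset.mem_insert, Finset.mem_singleton]
    constructor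
    · rintro ⟨⟨hw1, hw⟩, hwx⟩
      exact eq_or_inv_of_trace_eq (fun h => by simp [h, hr.ne_zero] at hw) hz0 hwx
    · rintro (rfl | rfl)
      · exact ⟨⟨hz1, hz⟩, rfl⟩
      · exact ⟨⟨fun h => hz1 (inv_eq_one.1 h), by rw [inv_pow, hz, inv_one]⟩, by rw [inv_inv, add_comm]⟩
  have hTcard : (T.erase b).card = u := by
    have hmap : ∀ x ∈ S.erase 2, minpoly F x ∈ T.erase b := by
      intro x hx
      obtain ⟨hx2, hxS⟩ := Finset.mem_erase.1 hx
      refine Finset.mem_erase.2 ⟨fun h => hx2 ?_, Finset.mem_image_of_mem _ hxS⟩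
      have h1 := minpoly.aeval F x
      rw [h, hbX, map_sub, aeval_X, aeval_C, sub_eq_zero, map_ofNat] at h1
      exact h1
    have h1 := Finset.card_eq_sum_card_fiberwise hmap
    rw [Finset.sum_congr rfl (g := fun _ => d) (fun f hf => ?_), Finset.sum_const, smul_eq_mul] at h1
    · rw [h1, ← hdu, mul_left_cancel_iff_of_pos two_pos, mul_comm] at hScard
      exact Nat.eq_of_mul_eq_mul_left hd0 hScard
    obtain ⟨hfb, hfT⟩ := Finset.mem_erase.1 hf
    obtain ⟨x, hx, rfl⟩ := Finset.mem_image.1 hfT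
    rw [show {y ∈ S.erase 2 | minpoly F y = minpoly F x} = ((minpoly F x).rootSet E).toFinset from ?_]
    · rw [Set.toFinset_card, card_rootSet_eq_natDegree (PerfectField.separable_of_irreducible
        (minpoly.irreducible (hint _))) (IsAlgClosed.splits _), hTdeg _ hfT hfb]
    ext y
    simp only [Finset.mem_filter, Finset.mem_erase, Set.mem_toFinset, mem_rootSet]
    constructor
    · rintro ⟨-, he⟩
      exact ⟨minpoly.ne_zero (hint _), he ▸ minpoly.aeval F y⟩
    · rintro ⟨-, hy⟩
      have he : minpoly F x = minpoly F y :=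
        minpoly.eq_of_irreducible_of_monic (minpoly.irreducible (hint _)) hy (minpoly.monic (hint _))
      exact ⟨⟨fun h => hfb (by rw [he, h]), horb x hx y hy⟩, he.symm⟩
  -- counting
  have hTu : Fintype.card T = u + 1 := by
    rw [Fintype.card_coe, ← Finset.card_erase_add_one hbT, hTcard]
  set k := m / d
  have hdeg : ∀ N : Multiset F[X], (∀ f ∈ N, f.Monic) → N.prod.natDegree = (N.map natDegree).sum :=
    fun N hN => natDegree_multiset_prod_of_monic N hN
  have hnf : ∀ N : Multiset F[X], (∀ f ∈ N, f ∈ T) →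
      UniqueFactorizationMonoid.normalizedFactors N.prod = N := by
    intro N hN
    induction N using Multiset.induction with
    | empty => simp
    | cons a N ih =>
      have ha := hN a (Multiset.mem_cons_self _ _)
      have hN' : ∀ f ∈ N, f ∈ T := fun f hf => hN f (Multiset.mem_cons_of_mem hf)
      rw [Multiset.prod_cons, UniqueFactorizationMonoid.normalizedFactors_mul (hTirr a ha).ne_zero
        (show N.prod.Monic by simpa using monic_multiset_prod_of_monic N id (fun f hf => hTmon f (hN' f hf))).ne_zero,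
        UniqueFactorizationMonoid.normalizedFactors_irreducible (hTirr a ha), ih hN',
        (hTmon a ha).normalize_eq_self, Multiset.singleton_add]
  let deg : Sym T k → ℕ := fun ν => ((ν.1.map Subtype.val).map natDegree).sum
  have hdegle : ∀ ν, deg ν ≤ m := by
    intro ν
    refine le_trans (Multiset.sum_le_card_nsmul _ d ?_) ?_
    · intro a ha
      simp only [Multiset.mem_map] at ha
      obtain ⟨f, ⟨g, -, rfl⟩, rfl⟩ := ha
      exact hTle _ g.2
    · rw [Multiset.card_map, Multiset.card_map, ν.2, smul_eq_mul]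
      exact Nat.div_mul_le_self m d
  let N : Sym T k → Multiset F[X] := fun ν => ν.1.map Subtype.val + Multiset.replicate (m - deg ν) b
  have hNT : ∀ ν, ∀ f ∈ N ν, f ∈ T := by
    intro ν f hf
    rcases Multiset.mem_add.1 hf with h | h
    · obtain ⟨g, -, rfl⟩ := Multiset.mem_map.1 h
      exact g.2
    · rw [Multiset.eq_of_mem_replicate h]; exact hbT
  have hNP : ∀ ν, (N ν).prod ∈ polys F r m := by
    intro ν
    refine ⟨by simpa using monic_multiset_prod_of_monic (N ν) id (fun f hf => hTmon f (hNT ν f hf)), ?_, ?_⟩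
    · rw [hdeg _ fun f hf => hTmon f (hNT ν f hf), Multiset.map_add, Multiset.sum_add,
        Multiset.map_replicate, Multiset.sum_replicate, hb1, smul_eq_mul, mul_one]
      exact Nat.add_sub_cancel' (hdegle ν)
    · intro x hx
      rw [map_multiset_prod, Multiset.prod_eq_zero_iff, Multiset.mem_map] at hx
      obtain ⟨f, hf, hfx⟩ := hx
      obtain ⟨y, hy, rfl⟩ := Finset.mem_image.1 (hNT ν f hf)
      exact hS.1 (horb y hy x hfx)
  rw [← Nat.card_eq_of_bijective (fun ν => (⟨_, hNP ν⟩ : polys F r m)) ⟨?_, ?_⟩,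
    Nat.card_eq_fintype_card, Sym.card_sym_eq_choose, hTu, show u + 1 + k - 1 = k + u by rw [add_right_comm, Nat.add_sub_cancel, add_comm],
    Nat.choose_symm_add]
  · intro ν μ h
    have h1 : N ν = N μ := by
      rw [← hnf _ (hNT ν), ← hnf _ (hNT μ)]
      exact congrArg (fun P : polys F r m => UniqueFactorizationMonoid.normalizedFactors P.1) h
    have h2 := congrArg (Multiset.filter (· ≠ b)) h1
    simp only [N, Multiset.filter_add, Multiset.filter_map] at h2
    have hrep : ∀ j, Multiset.filter (fun a => a ≠ b) (Multiset.replicate j b) = 0 := fun j =>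
      Multiset.filter_eq_nil.2 fun a ha => by simp [Multiset.eq_of_mem_replicate ha]
    rw [hrep, hrep, add_zero, add_zero] at h2
    replace h2 := Multiset.map_injective Subtype.val_injective h2
    apply Sym.ext
    show ν.1 = μ.1
    let β : T := ⟨b, hbT⟩
    have hsplit : ∀ s : Multiset T, s = s.filter (fun a => a.1 ≠ b) +
        Multiset.replicate (s.card - (s.filter (fun a => a.1 ≠ b)).card) β := by
      intro s
      have h3 := Multiset.filter_add_not (fun a : T => a.1 ≠ b) s
      have h4 : s.filter (fun a => ¬ a.1 ≠ b) = Multiset.replicate (s.filter (fun a => ¬ a.1 ≠ b)).card β :=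
        Multiset.eq_replicate_card.2 fun a ha => Subtype.ext (not_not.1 (Multiset.mem_filter.1 ha).2)
      have h5 := congrArg Multiset.card h3
      rw [Multiset.card_add] at h5
      rw [show s.card - (s.filter (fun a => a.1 ≠ b)).card = (s.filter (fun a => ¬ a.1 ≠ b)).card by omega,
        ← h4, h3]
    rw [hsplit ν.1, hsplit μ.1, ν.2, μ.2]
    simp only [Function.comp_def] at h2
    rw [h2]
  · rintro ⟨P, hPm, hPd, hPr⟩
    set L := UniqueFactorizationMonoid.normalizedFactors P
    have hLT : ∀ f ∈ L, f ∈ T := by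
      intro f hf
      have hirr := UniqueFactorizationMonoid.irreducible_of_normalized_factor f hf
      obtain ⟨x, hx⟩ := IsAlgClosed.exists_aeval_eq_zero E f hirr.degree_pos.ne'
      have hxP : aeval x P = 0 := aeval_eq_zero_of_dvd_aeval_eq_zero
        (UniqueFactorizationMonoid.dvd_of_mem_normalizedFactors hf) hx
      refine Finset.mem_image.2 ⟨x, hS.2 (hPr x hxP), ?_⟩
      exact (minpoly.eq_of_irreducible_of_monic hirr hx
        ((UniqueFactorizationMonoid.normalize_normalized_factor f hf) ▸ monic_normalize hirr.ne_zero)).symm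
    have hLP : L.prod = P := by
      have h1 := UniqueFactorizationMonoid.prod_normalizedFactors_eq hPm.ne_zero
      rw [h1, hPm.normalize_eq_self]
    set L' := L.filter (· ≠ b) with hL'
    have hLsplit : L = L' + Multiset.replicate (L.filter (fun f => ¬ f ≠ b)).card b := by
      conv_lhs => rw [← Multiset.filter_add_not (· ≠ b) L]
      congr 1
      exact Multiset.eq_replicate_card.2 fun a ha => not_not.1 (Multiset.mem_filter.1 ha).2
    have hm : d * L'.card + (L.filter (fun f => ¬ f ≠ b)).card = m := by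
      have h1 := hdeg L fun f hf => hTmon f (hLT f hf)
      rw [hLP, hPd, hLsplit, Multiset.map_add, Multiset.sum_add, Multiset.map_replicate,
        Multiset.sum_replicate, hb1, smul_eq_mul, mul_one, Multiset.map_congr rfl (fun f hf => hTdeg f
          (hLT f (Multiset.mem_of_mem_filter hf)) (Multiset.mem_filter.1 hf).2), Multiset.map_const',
        Multiset.sum_replicate, smul_eq_mul, ← hL', mul_comm] at h1
      exact h1.symm
    have hk : L'.card ≤ k := (Nat.le_div_iff_mul_le hd0).2 (by rw [mul_comm]; omega)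
    let L'' : Multiset T := L'.pmap Subtype.mk fun f hf => hLT f (Multiset.mem_of_mem_filter hf)
    refine ⟨⟨L'' + Multiset.replicate (k - L'.card) ⟨b, hbT⟩, ?_⟩, Subtype.ext ?_⟩
    · rw [Multiset.card_add, Multiset.card_pmap, Multiset.card_replicate]; omega
    have hval : L''.map Subtype.val = L' := by
      simp [L'', Multiset.map_pmap, Multiset.pmap_eq_map]
    show (Multiset.map Subtype.val _ + Multiset.replicate (m - ((Multiset.map Subtype.val _).map natDegree).sum) b).prod = P
    rw [Multiset.map_add, hval, Multiset.map_replicate, add_assoc, ← Multiset.replicate_add,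
      Multiset.map_add, Multiset.map_replicate, Multiset.sum_add, Multiset.sum_replicate, hb1,
      smul_eq_mul, mul_one, Multiset.map_congr rfl (fun f hf => hTdeg f
        (hLT f (Multiset.mem_of_mem_filter hf)) (Multiset.mem_filter.1 hf).2), Multiset.map_const',
      Multiset.sum_replicate, smul_eq_mul, mul_comm L'.card d]
    have hle : k - L'.card + d * L'.card ≤ m := by
      have h1 : k * d ≤ m := Nat.div_mul_le_self m d
      have h2 : k - L'.card ≤ (k - L'.card) * d := Nat.le_mul_of_pos_right _ hd0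
      rw [Nat.sub_mul, mul_comm L'.card d] at h2
      have h3 : d * L'.card ≤ k * d := by rw [mul_comm k d]; exact Nat.mul_le_mul_left d hk
      omega
    rw [show k - L'.card + (m - (d * L'.card + (k - L'.card))) =
      (L.filter (fun f => ¬ f ≠ b)).card by omega, ← hLsplit, hLP]

end

end Cfsg.Agent.S2645

namespace Cfsg.Agent.S2645

/-- Number of conjugacy classes of elements of odd prime order r, r different from the characteristic, in the symplectic group Sp_2m(q): let i be the multiplicative order of q modulo r and t = (r − 1)/i. If i is odd the eigenvalue orbits pair off (Λ ≠ Λ⁻¹) and the classes correspond to the non-zero (t/2)-tuples (a_j) with 2i Σ a_j ≤ 2m, giving C(⌊m/i⌋ + t/2, t/2) − 1 classes; if i is even (Λ = Λ⁻¹) they correspond to the non-zero t-tuples with i Σ a_j ≤ 2m, giving C(⌊2m/i⌋ + t, t) − 1 classes. -/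
theorem result {F : Type*} [Field F] [Fintype F] {p q : ℕ} [Fact p.Prime] [CharP F p] (hF : Fintype.card F = q) (m r i t : ℕ) (hr : r.Prime) (hr2 : r ≠ 2) (hrp : r ≠ p) (hi : i = orderOf (q : ZMod r)) (ht : t * i = r - 1) : Nat.card {C : ConjClasses ↥(Matrix.symplecticGroup (Fin m) F) // ∃ g : Matrix.symplecticGroup (Fin m) F, ConjClasses.mk g = C ∧ orderOf g = r} = if Odd i then Nat.choose (m / i + t / 2) (t / 2) - 1 else Nat.choose (2 * m / i + t) t - 1 := by
  classical
  subst hF
  haveI := Fact.mk hr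
  haveI : Finite ↥(Matrix.symplecticGroup (Fin m) F) := Subtype.finite
  have hA : Nat.card {C : ConjClasses ↥(Matrix.symplecticGroup (Fin m) F) //
      ∃ g : Matrix.symplecticGroup (Fin m) F, ConjClasses.mk g = C ∧ orderOf g = r} =
      Nat.card {C : ConjClasses ↥(Matrix.symplecticGroup (Fin m) F) //
      ∃ g : Matrix.symplecticGroup (Fin m) F, ConjClasses.mk g = C ∧ g ^ r = 1} - 1 := by
    have hset : {C : ConjClasses ↥(Matrix.symplecticGroup (Fin m) F) |
        ∃ g : Matrix.symplecticGroup (Fin m) F, ConjClasses.mk g = C ∧ orderOf g = r} =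
        {C : ConjClasses ↥(Matrix.symplecticGroup (Fin m) F) |
        ∃ g : Matrix.symplecticGroup (Fin m) F, ConjClasses.mk g = C ∧ g ^ r = 1} \
          {ConjClasses.mk 1} := by
      ext C
      simp only [Set.mem_ofPred_eq, Set.mem_sdiff, Set.mem_singleton_iff]
      constructor
      · rintro ⟨g, rfl, hg⟩
        refine ⟨⟨g, rfl, by rw [← hg, pow_orderOf_eq_one]⟩, fun h => ?_⟩
        rw [ConjClasses.mk_eq_mk_iff_isConj, isConj_one_left] at h
        rw [h, orderOf_one] at hg
        exact hr.one_lt.ne hg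
      · rintro ⟨⟨g, rfl, hg⟩, hne⟩
        exact ⟨g, rfl, orderOf_eq_prime hg fun h => hne (by rw [h])⟩
    show Nat.card ↥{C : ConjClasses ↥(Matrix.symplecticGroup (Fin m) F) |
        ∃ g : Matrix.symplecticGroup (Fin m) F, ConjClasses.mk g = C ∧ orderOf g = r} = _
    rw [Nat.card_coe_set_eq, hset, Set.ncard_sdiff_singleton_of_mem (show ConjClasses.mk 1 ∈ {C : ConjClasses ↥(Matrix.symplecticGroup (Fin m) F) |
        ∃ g : Matrix.symplecticGroup (Fin m) F, ConjClasses.mk g = C ∧ g ^ r = 1} from ⟨1, rfl, one_pow r⟩),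
      ← Nat.card_coe_set_eq]
    rfl
  rw [hA, card_torsion p m r hr hrp]
  have hq0 : (Fintype.card F : ZMod r) ≠ 0 := by
    rw [Ne, ZMod.natCast_eq_zero_iff]
    obtain ⟨s, hp, hs⟩ := FiniteField.card F p
    rw [hs]
    exact fun h => hrp ((Nat.prime_dvd_prime_iff_eq hr hp).1 (hr.dvd_of_dvd_pow h))
  have hi0 : 0 < i := hi ▸ Nat.pos_of_ne_zero (fun h => by
    rw [orderOf_eq_zero_iff'] at h
    exact h (r - 1) (by have := hr.two_le; omega) (ZMod.pow_card_sub_one_eq_one hq0))
  have hk : ∀ k : ℕ, ((Fintype.card F : ZMod r)) ^ (2 * k) = 1 ↔ i ∣ 2 * k := fun k => by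
    rw [hi, orderOf_dvd_iff_pow_eq_one]
  have hrodd : Odd r := hr.odd_of_ne_two hr2
  obtain ⟨w, hw⟩ := hrodd
  rcases Nat.even_or_odd i with ⟨j, hj⟩ | hodd
  · rw [if_neg (Nat.not_odd_iff_even.2 ⟨j, hj⟩)]
    have hd : ∀ k : ℕ, ((Fintype.card F : ZMod r)) ^ (2 * k) = 1 ↔ j ∣ k := fun k => by
      rw [hk, hj, ← two_mul]
      exact Nat.mul_dvd_mul_iff_left two_pos
    rw [card_polys p (u := t) m hr2 hrp (by omega) hd
      (by rw [← ht, hj, ← two_mul]; ring), hj, ← two_mul j, Nat.mul_div_mul_left _ _ two_pos]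
  · rw [if_pos hodd]
    have hd : ∀ k : ℕ, ((Fintype.card F : ZMod r)) ^ (2 * k) = 1 ↔ i ∣ k := fun k => by
      rw [hk]
      exact (Nat.coprime_two_right.2 hodd).dvd_mul_left
    have hte : Even t := by
      have : Even (t * i) := ⟨w, by omega⟩
      exact (Nat.even_mul.1 this).resolve_right (Nat.not_even_iff_odd.2 hodd)
    rw [card_polys p (u := t / 2) m hr2 hrp hi0 hd
      (by rw [← ht, mul_left_comm, Nat.mul_div_cancel' (even_iff_two_dvd.1 hte), mul_comm])]

end Cfsg.Agent.S2645
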