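import Cfsg.Statements.S4354
import Cfsg.Agent.EqLemmas

set_option autoImplicit false
open Cfsg

namespace Cfsg.Agent.S4354


variable {G : Type*} [Group G] [Finite G] {p : ℕ} [hp : Fact p.Prime]

omit hp in
theorem relIndex_dvd_index (C N : Subgroup G) [N.Normal] : C.relIndex N ∣ C.index := by
  have h1 : N.relIndex C * C.index = (C ⊓ N).index := by
    rw [← Subgroup.inf_relIndex_left C N]
    exact Subgroup.relIndex_mul_index inf_le_left
  have h2 : C.relIndex N * N.index = (C ⊓ N).index := by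
    rw [← Subgroup.inf_relIndex_right C N]
    exact Subgroup.relIndex_mul_index inf_le_right
  obtain ⟨t, ht⟩ := Subgroup.relIndex_dvd_index_of_normal N C
  have h3 : N.relIndex C * C.index = N.relIndex C * (t * C.relIndex N) := by
    rw [h1, ← h2, ht]; ring
  have hne : N.relIndex C ≠ 0 := Subgroup.index_ne_zero_of_finite
  exact Dvd.intro_left t (Nat.eq_of_mul_eq_mul_left (Nat.pos_of_ne_zero hne) h3).symm

omit [Finite G] in
theorem p_order (P : Sylow p G) (x : G) (hx : x ∈ P) : ∃ k : ℕ, orderOf x = p ^ k := by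
  obtain ⟨k, hk⟩ := IsPGroup.iff_orderOf.1 P.isPGroup' ⟨x, hx⟩
  exact ⟨k, by rwa [Subgroup.orderOf_mk] at hk⟩

omit hp in
theorem prop_subgroup
    (h : ∀ x : G, (∃ k : ℕ, orderOf x = p ^ k) → ¬ p ∣ (Subgroup.centralizer ({x} : Set G)).index)
    (N : Subgroup G) [N.Normal] (x : N) (hx : ∃ k : ℕ, orderOf x = p ^ k) :
    ¬ p ∣ (Subgroup.centralizer ({x} : Set N)).index := by
  obtain ⟨k, hk⟩ := hx
  have hx' := h (x : G) ⟨k, by rw [Subgroup.orderOf_coe]; exact hk⟩
  have he : Subgroup.centralizer ({x} : Set N) = (Subgroup.centralizer ({(x : G)} : Set G)).subgroupOf N := by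
    ext y
    simp only [Subgroup.mem_centralizer_singleton_iff, Subgroup.mem_subgroupOf, Subtype.ext_iff, Subgroup.coe_mul]
  rw [he]
  exact fun hd => hx' (hd.trans (relIndex_dvd_index _ N))

theorem prop_quotient
    (h : ∀ x : G, (∃ k : ℕ, orderOf x = p ^ k) → ¬ p ∣ (Subgroup.centralizer ({x} : Set G)).index)
    (N : Subgroup G) [N.Normal] (x : G ⧸ N) (hx : ∃ k : ℕ, orderOf x = p ^ k) :
    ¬ p ∣ (Subgroup.centralizer ({x} : Set (G ⧸ N))).index := by
  obtain ⟨k, hk⟩ := hx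
  have hz : IsPGroup p (Subgroup.zpowers x) :=
    IsPGroup.of_card (n := k) (by rw [Nat.card_zpowers, hk])
  obtain ⟨Q, hQ⟩ := hz.exists_le_sylow
  obtain ⟨P1, hP1⟩ := Sylow.mapSurjective_surjective (QuotientGroup.mk'_surjective N) p Q
  have hxQ : x ∈ (Q : Subgroup (G ⧸ N)) := hQ (Subgroup.mem_zpowers x)
  rw [← hP1, Sylow.coe_mapSurjective] at hxQ
  obtain ⟨g, hg, rfl⟩ := hxQ
  have hx' := h g (p_order P1 g hg)
  have hle : (Subgroup.centralizer ({g} : Set G)).map (QuotientGroup.mk' N) ≤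
      Subgroup.centralizer ({QuotientGroup.mk' N g} : Set (G ⧸ N)) := by
    rintro _ ⟨y, hy, rfl⟩
    rw [Subgroup.mem_centralizer_singleton_iff]
    have hy' : y * g = g * y := Subgroup.mem_centralizer_singleton_iff.1 hy
    rw [← map_mul, ← map_mul, hy']
  exact fun hd => hx' ((hd.trans (Subgroup.index_dvd_of_le hle)).trans
    (Subgroup.index_map_dvd _ (QuotientGroup.mk'_surjective N)))

theorem sylow_le_of_not_dvd (C : Subgroup G) (hC : ¬ p ∣ C.index) :
    ∃ P : Sylow p G, (P : Subgroup G) ≤ C := by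
  let Q : Sylow p C := default
  refine ⟨Sylow.ofCard ((Q : Subgroup C).map C.subtype) ?_, Subgroup.map_subtype_le _⟩
  rw [Subgroup.card_subtype, Sylow.card_eq_multiplicity, ← C.card_mul_index,
    Nat.factorization_mul Nat.card_pos.ne' Subgroup.index_ne_zero_of_finite]
  simp [Nat.factorization_eq_zero_of_not_dvd hC]

theorem conj_central (P : Sylow p G) (x : G) (hx : x ∈ P)
    (h : ¬ p ∣ (Subgroup.centralizer ({x} : Set G)).index) :
    ∃ g : G, g * x * g⁻¹ ∈ P ∧ ∀ y ∈ P, y * (g * x * g⁻¹) = g * x * g⁻¹ * y := by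
  obtain ⟨P1, hP1⟩ := sylow_le_of_not_dvd _ h
  obtain ⟨g, rfl⟩ := MulAction.exists_smul_eq G P1 P
  have hc : ∀ y ∈ g • P1, y * (g * x * g⁻¹) = g * x * g⁻¹ * y := by
    intro y hy
    have hy' : g⁻¹ * y * g ∈ (P1 : Subgroup G) := by
      change y ∈ ((g • P1 : Sylow p G) : Subgroup G) at hy
      rw [Sylow.coe_subgroup_smul] at hy
      rw [Subgroup.mem_pointwise_smul_iff_inv_smul_mem, ← map_inv, MulAut.smul_def, MulAut.conj_apply, inv_inv] at hy
      exact hy
    have := Subgroup.mem_centralizer_singleton_iff.1 (hP1 hy')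
    calc y * (g * x * g⁻¹) = g * ((g⁻¹ * y * g) * x) * g⁻¹ := by group
      _ = g * (x * (g⁻¹ * y * g)) * g⁻¹ := by rw [this]
      _ = g * x * g⁻¹ * y := by group
  refine ⟨g, ?_, hc⟩
  obtain ⟨k, hk⟩ := p_order (g • P1) x hx
  have hord : orderOf (g * x * g⁻¹) = p ^ k := by
    rw [← hk, ← MulAut.conj_apply]
    exact MulEquiv.orderOf_eq (MulAut.conj g) x
  have hz : IsPGroup p (Subgroup.zpowers (g * x * g⁻¹)) :=
    IsPGroup.of_card (n := k) (by rw [Nat.card_zpowers, hord])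
  have hn : g * x * g⁻¹ ∈ Subgroup.normalizer (((g • P1 : Sylow p G) : Subgroup G) : Set G) := by
    rw [Subgroup.mem_normalizer_iff]
    intro y
    constructor
    · intro hy
      rw [show g * x * g⁻¹ * y * (g * x * g⁻¹)⁻¹ = y by rw [← hc y hy]; group]
      exact hy
    · intro hy
      have := hc _ hy
      have e : g * x * g⁻¹ * y * (g * x * g⁻¹)⁻¹ = y := by
        calc g * x * g⁻¹ * y * (g * x * g⁻¹)⁻¹
            = (g * x * g⁻¹)⁻¹ * ((g * x * g⁻¹) * (g * x * g⁻¹ * y * (g * x * g⁻¹)⁻¹)) := by group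
          _ = (g * x * g⁻¹)⁻¹ * ((g * x * g⁻¹ * y * (g * x * g⁻¹)⁻¹) * (g * x * g⁻¹)) := by rw [this]
          _ = y := by group
      rwa [e] at hy
  have : g * x * g⁻¹ ∈ Subgroup.zpowers (g * x * g⁻¹) ⊓ ((g • P1 : Sylow p G) : Subgroup G) := by
    rw [← hz.inf_normalizer_sylow]
    exact ⟨Subgroup.mem_zpowers _, hn⟩
  exact this.2

theorem main
    (h : ∀ x : G, (∃ k : ℕ, orderOf x = p ^ k) → ¬ p ∣ (Subgroup.centralizer ({x} : Set G)).index)
    (N : Subgroup G) [N.Normal] (hN : ∀ P : Sylow p N, IsMulCommutative P)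
    (hQ : ∀ P : Sylow p (G ⧸ N), IsMulCommutative P) (P : Sylow p G) : IsMulCommutative P := by
  let f := QuotientGroup.mk' N
  have hf : Function.Surjective f := QuotientGroup.mk'_surjective N
  let R := P.mapSurjective hf
  have hRc : ∀ a ∈ R, ∀ b ∈ R, a * b = b * a := fun a ha b hb => by
    have := (hQ R).1.1 ⟨a, ha⟩ ⟨b, hb⟩
    exact congrArg Subtype.val this
  have memR : ∀ a ∈ P, f a ∈ R := fun a ha => by
    change f a ∈ ((P.mapSurjective hf : Sylow p (G ⧸ N)) : Subgroup (G ⧸ N))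
    rw [Sylow.coe_mapSurjective]
    exact Subgroup.mem_map_of_mem f ha
  have dec : ∀ x ∈ P, ∃ z ∈ P, (∀ y ∈ P, y * z = z * y) ∧ z⁻¹ * x ∈ N := by
    intro x hx
    obtain ⟨g, hgP, hgc⟩ := conj_central P x hx (h x (p_order P x hx))
    have hcent : f x ∈ Subgroup.centralizer (R : Set (G ⧸ N)) := by
      rw [Subgroup.mem_centralizer_iff]
      exact fun b hb => hRc b hb _ (memR x hx)
    have hcent' : (f g⁻¹)⁻¹ * f x * f g⁻¹ ∈ Subgroup.centralizer (R : Set (G ⧸ N)) := by
      rw [Subgroup.mem_centralizer_iff]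
      intro b hb
      have := hRc b hb _ (memR _ hgP)
      simpa [map_mul, map_inv, mul_assoc] using this
    obtain ⟨nb, hnb, hnx⟩ := R.conj_eq_normalizer_conj_of_mem_centralizer (f x) (f g⁻¹) hcent hcent'
    obtain ⟨n, rfl⟩ := hf nb
    -- adjust `n` to normalise `P`
    let H : Subgroup G := (R : Subgroup (G ⧸ N)).comap f
    have hPH : (P : Subgroup G) ≤ H := fun a ha => memR a ha
    have hnH : ∀ a ∈ P, n * a * n⁻¹ ∈ H := fun a ha => by
      rw [Subgroup.mem_comap, map_mul, map_mul, map_inv]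
      exact (Subgroup.mem_normalizer_iff.1 hnb (f a)).1 (memR a ha)
    have hnP : ((n • P : Sylow p G) : Subgroup G) ≤ H := by
      rw [Sylow.coe_subgroup_smul]
      rintro _ ⟨a, ha, rfl⟩
      exact hnH a ha
    obtain ⟨m, hm⟩ := MulAction.exists_smul_eq H ((n • P).subtype hnP) (P.subtype hPH)
    have hm' : (m : G) • (n • P) = P := by
      refine Sylow.subtype_injective (hP := ?_) (hQ := hPH) ?_
      · exact Sylow.smul_le hnP m
      · rw [← hm, Sylow.smul_subtype]
        rfl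
    rw [← mul_smul] at hm'
    set n' : G := (m : G) * n with hn'
    have hnorm : n' ∈ Subgroup.normalizer (P : Set G) := Sylow.smul_eq_iff_mem_normalizer.1 hm'
    set z := g * x * g⁻¹ with hz
    refine ⟨n' * z * n'⁻¹, (Subgroup.mem_normalizer_iff.1 hnorm z).1 hgP, ?_, ?_⟩
    · intro y hy
      have hy' : n'⁻¹ * y * n' ∈ P := by
        refine (Subgroup.mem_normalizer_iff.1 hnorm _).2 ?_
        rw [show n' * (n'⁻¹ * y * n') * n'⁻¹ = y by group]
        exact hy
      have := hgc _ hy'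
      calc y * (n' * z * n'⁻¹) = n' * ((n'⁻¹ * y * n') * z) * n'⁻¹ := by group
        _ = n' * (z * (n'⁻¹ * y * n')) * n'⁻¹ := by rw [this]
        _ = n' * z * n'⁻¹ * y := by group
    · rw [← QuotientGroup.ker_mk' N, MonoidHom.mem_ker]
      show f ((n' * z * n'⁻¹)⁻¹ * x) = 1
      have hmR : f (m : G) ∈ R := m.2
      have e1 : f x * f (m : G) = f (m : G) * f x := hRc _ (memR _ hx) _ hmR
      have e2 : f z = (f n)⁻¹ * f x * f n := by
        rw [← hnx]
        simp [hz, map_mul, map_inv, mul_assoc]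
      have e3 : f (n' * z * n'⁻¹) = f x := by
        rw [hn']
        simp only [map_mul, map_inv, e2]
        calc f (m : G) * f n * ((f n)⁻¹ * f x * f n) * (f (m : G) * f n)⁻¹
            = f (m : G) * f x * (f (m : G))⁻¹ := by group
          _ = f x * f (m : G) * (f (m : G))⁻¹ := by rw [e1]
          _ = f x := by group
      rw [map_mul, map_inv, e3, inv_mul_cancel]
  have hPN : ∀ a ∈ P, ∀ b ∈ P, a ∈ N → b ∈ N → a * b = b * a := by
    intro a ha b hb haN hbN
    obtain ⟨S, hS⟩ := (P.isPGroup'.comap_subtype (K := N)).exists_le_sylow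
    have := (hN S).1.1 ⟨⟨a, haN⟩, hS ha⟩ ⟨⟨b, hbN⟩, hS hb⟩
    exact congrArg Subtype.val (congrArg Subtype.val this)
  refine ⟨⟨fun a b => Subtype.ext ?_⟩⟩
  obtain ⟨u, hu, huc, huN⟩ := dec a a.2
  obtain ⟨v, hv, hvc, hvN⟩ := dec b b.2
  have hd := hPN _ (mul_mem (inv_mem hu) a.2) _ (mul_mem (inv_mem hv) b.2) huN hvN
  set d := u⁻¹ * (a : G) with hd'
  set e := v⁻¹ * (b : G) with he'
  have hA : (a : G) = u * d := by rw [hd']; group
  have hB : (b : G) = v * e := by rw [he']; group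
  have hdP : d ∈ P := mul_mem (inv_mem hu) a.2
  have heP : e ∈ P := mul_mem (inv_mem hv) b.2
  show (a : G) * b = b * a
  rw [hA, hB]
  calc u * d * (v * e) = u * (d * v) * e := by group
    _ = u * (v * d) * e := by rw [hvc d hdP]
    _ = (u * v) * (d * e) := by group
    _ = (v * u) * (e * d) := by rw [huc v hv, hd]
    _ = v * (u * e) * d := by group
    _ = v * (e * u) * d := by rw [huc e heP]
    _ = v * e * (u * d) := by group

/-- Let G be a finite group and p a prime such that the Sylow p-subgroups of G are non-abelian while every element of p-power order has conjugacy class size prime to p, and suppose no nontrivial proper normal subgroup N of G has this property and no quotient G/N by such an N has it. Then G is simple. -/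
theorem result {G : Type*} [Group G] [Finite G]
    (p : ℕ) [Fact p.Prime] (h : ((∃ P : Sylow p G, ¬ IsMulCommutative P) ∧ ∀ x : G, (∃ k : ℕ, orderOf x = p ^ k) → ¬ p ∣ (Subgroup.centralizer ({x} : Set G)).index))
    (hmin : ∀ (N : Subgroup G) [N.Normal], N ≠ ⊥ → N ≠ ⊤ →
      ¬ ((∃ P : Sylow p N, ¬ IsMulCommutative P) ∧ ∀ x : N, (∃ k : ℕ, orderOf x = p ^ k) → ¬ p ∣ (Subgroup.centralizer ({x} : Set N)).index) ∧
      ¬ ((∃ P : Sylow p (G ⧸ N), ¬ IsMulCommutative P) ∧ ∀ x : (G ⧸ N), (∃ k : ℕ, orderOf x = p ^ k) → ¬ p ∣ (Subgroup.centralizer ({x} : Set (G ⧸ N))).index)) :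
    IsSimpleGroup G := by
  obtain ⟨⟨P, hP⟩, hcl⟩ := h
  have : Nontrivial G := by
    by_contra hne
    rw [not_nontrivial_iff_subsingleton] at hne
    exact hP ⟨⟨fun a b => Subtype.ext (Subsingleton.elim _ _)⟩⟩
  refine ⟨fun N hN => ?_⟩
  by_contra hc
  rw [not_or] at hc
  obtain ⟨h1, h2⟩ := hmin N hc.1 hc.2
  refine hP (main hcl N (fun S => ?_) (fun S => ?_) P)
  · by_contra hS
    exact h1 ⟨⟨S, hS⟩, prop_subgroup hcl N⟩
  · by_contra hS
    exact h2 ⟨⟨S, hS⟩, prop_quotient hcl N⟩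

end Cfsg.Agent.S4354
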