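import Cfsg.Statements.S3370
import Cfsg.Agent.Lib.PGroup.CyclicMaximal
import Mathlib.LinearAlgebra.Matrix.GeneralLinearGroup.Card
-- import your own Cfsg.Agent.* helpers here

set_option autoImplicit false
open Cfsg

namespace Cfsg.Agent.S3370

open scoped Pointwise

theorem sq_dvd_pred_pow_odd (x : ℤ) (b : ℕ) : x ^ 2 ∣ (x - 1) ^ (2 * b + 1) + 1 - (2 * b + 1 : ℕ) * x := by
  induction b with
  | zero => simp
  | succ b ih =>
    obtain ⟨c, hc⟩ := ih
    refine ⟨(x - 1) ^ 2 * c + ((2 * b + 1 : ℕ) : ℤ) * (x - 2) - 1, ?_⟩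
    have h1 : (x - 1) ^ (2 * (b + 1) + 1) = (x - 1) ^ 2 * (x - 1) ^ (2 * b + 1) := by
      rw [← pow_add]; congr 1; ring
    have h2 : (x - 1) ^ (2 * b + 1) = x ^ 2 * c - 1 + ((2 * b + 1 : ℕ) : ℤ) * x := by linarith
    rw [h1, h2]
    push_cast
    ring

/-- `2 ^ n - 1` is not a proper power of a prime. -/
theorem two_pow_sub_one_eq {n p a : ℕ} (hp : p.Prime) (hn : 2 ≤ n) (h : 2 ^ n - 1 = p ^ a) : a = 1 := by
  have h4 : 4 ∣ 2 ^ n := (pow_dvd_pow 2 hn : (2 : ℕ) ^ 2 ∣ 2 ^ n)
  have hpos : 4 ≤ 2 ^ n := Nat.le_of_dvd (by positivity) h4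
  have ha0 : a ≠ 0 := fun h0 => by rw [h0, pow_zero] at h; omega
  have hp2 : p ≠ 2 := fun h2 => by
    have : 2 ∣ p ^ a := h2 ▸ dvd_pow_self _ ha0
    rw [← h] at this
    omega
  have hpodd : p % 2 = 1 := Nat.odd_iff.mp (hp.odd_of_ne_two hp2)
  rcases Nat.even_or_odd a with ⟨c, hc⟩ | ⟨b, hb⟩
  · exfalso
    have h1 : (p ^ c) % 4 = 1 ∨ (p ^ c) % 4 = 3 := by
      have : (p ^ c) % 2 = 1 := by simp [Nat.pow_mod, hpodd]
      omega
    have h2 : p ^ a % 4 = 1 := by
      rw [hc, pow_add, Nat.mul_mod]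
      rcases h1 with h1 | h1 <;> rw [h1] <;> norm_num
    omega
  · have hd : p + 1 ∣ 2 ^ n := by
      have h1 := Odd.nat_add_dvd_pow_add_pow p 1 (n := a) ⟨b, hb⟩
      rwa [one_pow, ← h, Nat.sub_add_cancel (by omega)] at h1
    obtain ⟨k, hkn, hk⟩ := (Nat.dvd_prime_pow Nat.prime_two).mp hd
    rcases hkn.eq_or_lt with rfl | hlt
    · have h1 : p ^ a = p ^ 1 := by rw [pow_one, ← h]; omega
      exact Nat.pow_right_injective hp.two_le h1
    · exfalso
      obtain ⟨c, hc⟩ := sq_dvd_pred_pow_odd ((2 : ℤ) ^ k) b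
      have hpz : ((p : ℤ)) = 2 ^ k - 1 := by
        have : ((p + 1 : ℕ) : ℤ) = ((2 ^ k : ℕ) : ℤ) := by rw [hk]
        push_cast at this
        linarith
      have hsum : (p : ℤ) ^ a + 1 = 2 ^ n := by
        have : ((p ^ a + 1 : ℕ) : ℤ) = ((2 ^ n : ℕ) : ℤ) := by rw [← h, Nat.sub_add_cancel (by omega)]
        push_cast at this
        exact this
      rw [hb, hpz] at hsum
      rw [hsum] at hc
      obtain ⟨d, rfl⟩ : ∃ d, n = k + 1 + d := ⟨n - (k + 1), by omega⟩
      have hk0 : k ≠ 0 := fun h0 => by rw [h0, pow_zero] at hk; have := hp.two_le; omega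
      have h5 : (((2 * b + 1 : ℕ) : ℤ) - 2 ^ (1 + d) + 2 ^ k * c) * 2 ^ k = 0 := by
        have : (2 : ℤ) ^ (k + 1 + d) = 2 ^ (1 + d) * 2 ^ k := by rw [← pow_add]; congr 1; omega
        rw [this] at hc
        linarith [hc, sq ((2 : ℤ) ^ k)]
      rcases mul_eq_zero.mp h5 with h6 | h6
      · obtain ⟨j, rfl⟩ := Nat.exists_eq_succ_of_ne_zero hk0
        push_cast at h6
        rw [pow_add, pow_one, pow_succ] at h6
        have e1 : (2 : ℤ) * b + 1 - 2 * 2 ^ d + 2 * (2 ^ j * c) = 0 := by linarith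
        generalize (2 : ℤ) ^ d = u at e1
        generalize (2 : ℤ) ^ j * c = w at e1
        omega
      · exact pow_ne_zero k two_ne_zero h6

/-- `q ^ n - 1` is a power of two only for `n = 1` or `q ^ n = 9`. -/
theorem odd_pow_sub_one_eq {q n a : ℕ} (hq : q.Prime) (hq2 : q ≠ 2) (hn : n ≠ 0) (h : q ^ n - 1 = 2 ^ a) :
    n = 1 ∨ (q = 3 ∧ n = 2) := by
  have hodd : q % 2 = 1 := Nat.odd_iff.mp (hq.odd_of_ne_two hq2)
  rcases Nat.even_or_odd n with ⟨m, rfl⟩ | hno
  · refine Or.inr ?_
    have hm : m ≠ 0 := fun h0 => hn (by rw [h0])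
    have hfac : (q ^ m + 1) * (q ^ m - 1) = 2 ^ a := by
      rw [← h, pow_add, ← Nat.sq_sub_sq, sq, one_pow]
    have hq3 : 3 ≤ q ^ m := by
      have := hq.two_le
      calc 3 ≤ q := by omega
        _ ≤ q ^ m := Nat.le_self_pow hm q
    obtain ⟨i, -, hi⟩ := (Nat.dvd_prime_pow Nat.prime_two).mp (Dvd.intro _ hfac)
    obtain ⟨j, -, hj⟩ := (Nat.dvd_prime_pow Nat.prime_two).mp (Dvd.intro_left _ hfac)
    have hj1 : j = 1 := by
      rcases Nat.lt_or_ge j 2 with h2 | h2
      · interval_cases j <;> simp_all <;> omega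
      · exfalso
        have hi2 : 2 ≤ i := by
          by_contra hlt
          have : 2 ^ i ≤ 2 ^ 1 := Nat.pow_le_pow_right (by norm_num) (by omega)
          omega
        have h4i : 4 ∣ 2 ^ i := (pow_dvd_pow 2 hi2 : (2 : ℕ) ^ 2 ∣ 2 ^ i)
        have h4j : 4 ∣ 2 ^ j := (pow_dvd_pow 2 h2 : (2 : ℕ) ^ 2 ∣ 2 ^ j)
        omega
    rw [hj1, pow_one] at hj
    have hqm : q ^ m = 3 := by omega
    have := (Nat.Prime.pow_eq_iff (Nat.prime_three)).mp hqm
    omega
  · refine Or.inl ?_
    by_contra hn1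
    have hgeo : (∑ i ∈ Finset.range n, q ^ i) * (q - 1) = 2 ^ a := by
      rw [← h]
      have hz := geom_sum_mul (q : ℤ) n
      have h1 : 1 ≤ q := hq.one_le
      have h2 : 1 ≤ q ^ n := Nat.one_le_pow _ _ hq.pos
      zify [h1, h2]
      exact hz
    have hpar : ∀ k, (∑ i ∈ Finset.range k, q ^ i) % 2 = k % 2 := by
      intro k
      induction k with
      | zero => simp
      | succ k ih => rw [Finset.sum_range_succ, Nat.add_mod, ih, Nat.pow_mod, hodd, one_pow]; omega
    obtain ⟨i, -, hi⟩ := (Nat.dvd_prime_pow Nat.prime_two).mp (Dvd.intro _ hgeo)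
    have hsumodd := hpar n
    rw [hi, Nat.odd_iff.mp hno] at hsumodd
    have hi0 : i = 0 := by
      by_contra h0
      obtain ⟨i', rfl⟩ := Nat.exists_eq_succ_of_ne_zero h0
      rw [pow_succ] at hsumodd
      omega
    rw [hi0, pow_zero] at hi
    have h2 : (∑ i ∈ Finset.range 2, q ^ i) ≤ ∑ i ∈ Finset.range n, q ^ i :=
      Finset.sum_le_sum_of_subset (Finset.range_mono (by obtain ⟨k, hk⟩ := hno; omega))
    rw [hi, Finset.sum_range_succ, Finset.sum_range_one] at h2
    have := hq.two_le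
    simp only [pow_zero, pow_one] at h2
    omega

section Action

variable {q : ℕ} [Fact q.Prime] {V : Type*} [AddCommGroup V] [Module (ZMod q) V] [Finite V]
  {G : Type*} [Group G] [Finite G]

/-- The action on the non-zero vectors. -/
@[reducible] def nzAction (ρ : G →* (V ≃ₗ[ZMod q] V)) : MulAction G {v : V // v ≠ 0} where
  smul g v := ⟨ρ g v.1, fun h => v.2 ((ρ g).map_eq_zero_iff.mp h)⟩
  one_smul v := Subtype.ext (by show ρ 1 v.1 = v.1; rw [map_one]; rfl)
  mul_smul g h v := Subtype.ext (by show ρ (g * h) v.1 = ρ g (ρ h v.1); rw [map_mul]; rfl)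

theorem card_nonzero : Nat.card {v : V // v ≠ 0} = Nat.card V - 1 := by
  have : Fintype V := Fintype.ofFinite V
  classical
  rw [Nat.card_eq_fintype_card, Nat.card_eq_fintype_card, Fintype.card_subtype_compl,
    Fintype.card_subtype_eq]

/-- A stabiliser has order `|G| / |orbit|`, and the orbit is everything. -/
theorem card_eq_mul (ρ : G →* (V ≃ₗ[ZMod q] V))
    (htrans : ∀ v w : V, v ≠ 0 → w ≠ 0 → ∃ g : G, ρ g v = w) {v : V} (hv : v ≠ 0) :
    Nat.card G = (Nat.card V - 1) * Nat.card {g : G // ρ g v = v} := by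
  letI := nzAction ρ
  set a : {v : V // v ≠ 0} := ⟨v, hv⟩
  have horb : MulAction.orbit G a = Set.univ := Set.eq_univ_of_forall fun w => by
    obtain ⟨g, hg⟩ := htrans v w.1 hv w.2
    exact ⟨g, Subtype.ext hg⟩
  have h1 := Subgroup.card_mul_index (MulAction.stabilizer G a)
  rw [MulAction.index_stabilizer, horb, Set.ncard_univ, card_nonzero] at h1
  rw [← h1, mul_comm]
  congr 1
  exact Nat.card_congr (Equiv.subtypeEquivRight fun g => ⟨fun h => congrArg Subtype.val h, fun h => Subtype.ext h⟩)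

end Action

theorem quaternion_of_regular {G : Type*} [Group G] [Finite G] (hcard : Nat.card G = 8)
    (hinv : ∀ a b : G, a ^ 2 = 1 → a ≠ 1 → b ^ 2 = 1 → b ≠ 1 → a = b) (hnc : ¬ IsCyclic G) :
    Nonempty (G ≃* QuaternionGroup 2) := by
  obtain ⟨z, hz⟩ := exists_prime_orderOf_dvd_card' (G := G) 2 (by rw [hcard]; norm_num)
  have hz2 : z ^ 2 = 1 := hz ▸ pow_orderOf_eq_one z
  have hz1 : z ≠ 1 := fun h => by rw [h, orderOf_one] at hz; norm_num at hz
  have hord : ∀ g : G, g ≠ 1 → g ≠ z → orderOf g = 4 ∧ g ^ 2 = z := by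
    intro g h1 h2
    obtain ⟨k, hk, hgk⟩ := (Nat.dvd_prime_pow Nat.prime_two).mp
      (show orderOf g ∣ 2 ^ 3 by rw [show (2 : ℕ) ^ 3 = Nat.card G by rw [hcard]; norm_num]; exact orderOf_dvd_natCard g)
    have hk2 : k = 2 := by
      interval_cases k
      · exact absurd (orderOf_eq_one_iff.mp hgk) h1
      · exact absurd (hinv g z (by rw [show (2 : ℕ) = orderOf g by rw [hgk]; norm_num]; exact pow_orderOf_eq_one g) h1 hz2 hz1) h2
      · rfl
      · exact absurd (isCyclic_of_orderOf_eq_card g (by rw [hgk, hcard]; norm_num)) hnc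
    rw [hk2] at hgk
    norm_num at hgk
    refine ⟨hgk, hinv _ _ ?_ ?_ hz2 hz1⟩
    · rw [← pow_mul, show 2 * 2 = orderOf g by rw [hgk], pow_orderOf_eq_one]
    · exact fun h => by have := orderOf_dvd_of_pow_eq_one h; rw [hgk] at this; norm_num at this
  obtain ⟨a, ha⟩ : ∃ a : G, a ∉ Subgroup.zpowers z := by
    by_contra h
    push Not at h
    exact hnc (isCyclic_of_orderOf_eq_card z (by
      rw [← Nat.card_zpowers, (Subgroup.eq_top_iff' _).mpr h, Subgroup.card_top]))
  have ha1 : a ≠ 1 := fun h => ha (h ▸ one_mem _)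
  have haz : a ≠ z := fun h => ha (h ▸ Subgroup.mem_zpowers z)
  obtain ⟨ha4, ha2⟩ := hord a ha1 haz
  obtain ⟨b, hb⟩ : ∃ b : G, b ∉ Subgroup.zpowers a := by
    by_contra h
    push Not at h
    have := Subgroup.card_top (G := G)
    rw [← (Subgroup.eq_top_iff' _).mpr h, Nat.card_zpowers, ha4, hcard] at this
    norm_num at this
  have hb1 : b ≠ 1 := fun h => hb (h ▸ one_mem _)
  have hbz : b ≠ z := fun h => hb (by rw [h, ← ha2]; exact pow_mem (Subgroup.mem_zpowers a) 2)
  obtain ⟨hb4, hb2⟩ := hord b hb1 hbz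
  have hab1 : a * b ≠ 1 := fun h => hb (by rw [eq_inv_of_mul_eq_one_right h]; exact inv_mem (Subgroup.mem_zpowers a))
  have habz : a * b ≠ z := fun h => hb (by
    rw [show b = a⁻¹ * z by rw [← h]; group, ← ha2]
    exact mul_mem (inv_mem (Subgroup.mem_zpowers a)) (pow_mem (Subgroup.mem_zpowers a) 2))
  obtain ⟨-, hab2⟩ := hord _ hab1 habz
  have hbab : b * a * b = a := by
    have h1 : a * (b * a * b) = a * a := by rw [← sq, ha2, ← hab2, sq]; group
    exact mul_left_cancel h1
  have ha3 : a * (a ^ 2) = a⁻¹ := by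
    rw [eq_inv_iff_mul_eq_one, show a * a ^ 2 * a = a ^ 4 by group, ← ha4, pow_orderOf_eq_one]
  have hba : b * a * b⁻¹ = a⁻¹ := by
    calc b * a * b⁻¹ = b * a * b * (b ^ 2)⁻¹ := by group
      _ = a * (a ^ 2)⁻¹ := by rw [hbab, hb2, ← ha2]
      _ = a⁻¹ := by group
  obtain ⟨e⟩ := Cfsg.Agent.PGroup.quaternionEquivOfGen (N := 2) (by rw [ha4]) (hb2.trans ha2.symm) hba hb (by rw [hcard])
  exact ⟨e.symm⟩

/-- An element of order 8 of `GL(2,3)`. -/
def elemX : GL (Fin 2) (ZMod 3) :=
  ⟨!![0, 1; 1, 2], !![1, 1; 1, 0], by decide, by decide⟩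

theorem involution_conj : ∀ a b c d : ZMod 3, ∀ r : Fin 8,
    (!![a, b; c, d] * !![a, b; c, d] : Matrix (Fin 2) (Fin 2) (ZMod 3)) = 1 →
    (!![a, b; c, d] : Matrix (Fin 2) (Fin 2) (ZMod 3)) ≠ 1 →
    (!![a, b; c, d] : Matrix (Fin 2) (Fin 2) (ZMod 3)) ≠ !![0, 1; 1, 2] ^ 4 →
    (!![a, b; c, d] * !![0, 1; 1, 2] : Matrix (Fin 2) (Fin 2) (ZMod 3)) = !![0, 1; 1, 2] ^ (r : ℕ) * !![a, b; c, d] →
    (r : ℕ) = 3 := by
  decide +kernel

theorem semidihedral_of_sixteen {G : Type*} [Group G] [Finite G] (φ : G →* GL (Fin 2) (ZMod 3))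
    (hφ : Function.Injective φ) (hcard : Nat.card G = 16)
    (hst : ∃ y : G, orderOf y = 2 ∧ ∃ g : G, y * g ≠ g * y) : Cfsg.IsQuasiDihedral G := by
  have hGL : Nat.card (GL (Fin 2) (ZMod 3)) = 48 := by
    rw [Matrix.card_GL_field, ZMod.card, Fin.prod_univ_two]
    norm_num
  have hR : Nat.card φ.range = 16 := by
    rw [← Nat.card_congr (MonoidHom.ofInjective hφ).toEquiv, hcard]
  have := Fact.mk Nat.prime_two
  have hidx : ¬ 2 ∣ φ.range.index := by
    have h := φ.range.card_mul_index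
    rw [hR, hGL] at h
    omega
  let T : Sylow 2 (GL (Fin 2) (ZMod 3)) := (IsPGroup.of_card (n := 4) (p := 2) (by rw [hR]; norm_num)).toSylow hidx
  have hX8 : orderOf elemX = 2 ^ (2 + 1) := by
    refine orderOf_eq_prime_pow (fun h => ?_) ?_
    · exact absurd (congrArg (fun u : GL (Fin 2) (ZMod 3) => (u : Matrix (Fin 2) (Fin 2) (ZMod 3))) h) (by decide +kernel)
    · exact Units.ext (by decide +kernel)
  obtain ⟨U, hU⟩ := (IsPGroup.of_card (p := 2) (G := ↥(Subgroup.zpowers elemX)) (n := 3) (by rw [Nat.card_zpowers, hX8])).exists_le_sylow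
  obtain ⟨t, ht⟩ := MulAction.exists_smul_eq (GL (Fin 2) (ZMod 3)) T U
  obtain ⟨_, ⟨x, rfl⟩, hx⟩ : elemX ∈ MulAut.conj t • φ.range := by
    have h := hU (Subgroup.mem_zpowers elemX)
    rw [← ht] at h
    exact h
  let f : G →* GL (Fin 2) (ZMod 3) := (MulAut.conj t).toMonoidHom.comp φ
  have hf : Function.Injective f := (MulAut.conj t).injective.comp hφ
  have hfx : f x = elemX := hx
  have hxo : orderOf x = 2 ^ 3 := by rw [← orderOf_injective f hf, hfx, hX8]
  classical
  obtain ⟨y, hyo, g, hg⟩ := hst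
  have hy2 : y ^ 2 = 1 := hyo ▸ pow_orderOf_eq_one y
  have hyx : y ∉ Subgroup.zpowers x := by
    intro hy
    obtain ⟨k, hk⟩ := mem_zpowers_iff_mem_range_orderOf.mp hy |> Finset.mem_image.mp
    obtain ⟨hk8, rfl⟩ := hk
    rw [Finset.mem_range, hxo] at hk8
    have h1 : x ^ (k * 2) = 1 := by rw [pow_mul, ← hyo, pow_orderOf_eq_one]
    have h8 := orderOf_dvd_of_pow_eq_one h1
    rw [hxo] at h8
    have hk4 : k = 4 := by
      rcases Nat.lt_or_ge k 1 with h | h
      · interval_cases k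
        simp at hyo
      · obtain ⟨c, hc⟩ := h8
        omega
    subst hk4
    apply hg
    apply hf
    rw [map_mul, map_mul, map_pow, hfx]
    have hsc : ((elemX ^ 4 : GL (Fin 2) (ZMod 3)) : Matrix (Fin 2) (Fin 2) (ZMod 3)) = (2 : ZMod 3) • 1 := by
      rw [Units.val_pow_eq_pow_val]; decide +kernel
    apply Units.ext
    rw [Units.val_mul, Units.val_mul, hsc]
    simp
  have hxn : (Subgroup.zpowers x).Normal := Subgroup.normal_of_index_eq_two (by
    have := (Subgroup.zpowers x).card_mul_index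
    rw [Nat.card_zpowers, hxo, hcard] at this
    omega)
  obtain ⟨r, hr⟩ := mem_zpowers_iff_mem_range_orderOf.mp (hxn.conj_mem x (Subgroup.mem_zpowers x) y) |> Finset.mem_image.mp
  obtain ⟨hr8, hyr⟩ := hr
  rw [Finset.mem_range, hxo] at hr8
  refine ⟨3, le_rfl, by rw [hcard]; norm_num, x, y, hxo, hyo, ?_⟩
  have h3 : r = 3 := by
    set Y : Matrix (Fin 2) (Fin 2) (ZMod 3) := (f y : Matrix (Fin 2) (Fin 2) (ZMod 3)) with hY
    have he := Matrix.eta_fin_two Y
    have hXv : ((elemX : GL (Fin 2) (ZMod 3)) : Matrix (Fin 2) (Fin 2) (ZMod 3)) = !![0, 1; 1, 2] := rfl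
    refine involution_conj (Y 0 0) (Y 0 1) (Y 1 0) (Y 1 1) ⟨r, by omega⟩ ?_ ?_ ?_ ?_ <;> rw [← he, hY]
    · rw [← Units.val_mul, ← map_mul, ← sq, hy2, map_one, Units.val_one]
    · intro h
      have : y = 1 := hf (by rw [map_one]; exact Units.ext h)
      rw [this, orderOf_one] at hyo
      norm_num at hyo
    · intro h
      refine hyx ?_
      have : y = x ^ 4 := hf (by rw [map_pow, hfx]; exact Units.ext (by rw [h, Units.val_pow_eq_pow_val, hXv]))
      rw [this]
      exact pow_mem (Subgroup.mem_zpowers x) 4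
    · rw [← hXv, ← hfx, ← Units.val_pow_eq_pow_val, ← map_pow, ← Units.val_mul, ← Units.val_mul, ← map_mul, ← map_mul, hyr]
      congr 2
      group
  rw [← hyr, h3]
  norm_num

/-- Let q be a prime, V a non-trivial finite vector space over the field with q elements, and G a non-trivial finite p-group (p prime) acting faithfully and linearly on V and transitively on the non-zero vectors. Then either q = 2 and G has prime order p = |V| − 1; or p = 2, V has q elements with q = 2^m + 1 and G is cyclic of order 2^m; or p = 2, q = 3, V has 9 elements and G is cyclic of order 8, quaternion of order 8, or semidihedral of order 16. -/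
theorem result (q : ℕ) [Fact q.Prime] {V : Type*} [AddCommGroup V] [Module (ZMod q) V] [Finite V] [Nontrivial V]
    {G : Type*} [Group G] [Finite G] [Nontrivial G] (p : ℕ) [Fact p.Prime] (hG : IsPGroup p G)
    (ρ : G →* (V ≃ₗ[ZMod q] V)) (hρ : Function.Injective ρ)
    (htrans : ∀ v w : V, v ≠ 0 → w ≠ 0 → ∃ g : G, ρ g v = w) :
    (q = 2 ∧ p = Nat.card V - 1 ∧ Nat.card G = p) ∨
    (p = 2 ∧ Nat.card V = q ∧ (∃ m : ℕ, q = 2 ^ m + 1 ∧ Nat.card G = 2 ^ m) ∧ IsCyclic G) ∨
    (p = 2 ∧ q = 3 ∧ Nat.card V = 9 ∧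
      ((IsCyclic G ∧ Nat.card G = 8) ∨ Nonempty (G ≃* QuaternionGroup 2) ∨ (Cfsg.IsQuasiDihedral G ∧ Nat.card G = 16))) := by
  obtain ⟨v, hv⟩ := exists_ne (0 : V)
  have hcm := card_eq_mul ρ htrans hv
  obtain ⟨c, hc⟩ := hG.exists_card_eq
  obtain ⟨a, -, ha⟩ := (Nat.dvd_prime_pow (Fact.out : p.Prime)).mp (hc ▸ Dvd.intro _ hcm.symm)
  have hn : Nat.card V = q ^ Module.finrank (ZMod q) V := by
    rw [Module.natCard_eq_pow_finrank (K := ZMod q), Nat.card_zmod]
  set n := Module.finrank (ZMod q) V with hndef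
  have hn0 : n ≠ 0 := fun h0 => by
    rw [h0, pow_zero] at hn
    exact (Finite.one_lt_card (α := V)).ne' hn
  have hV2 : 2 ≤ Nat.card V := Finite.one_lt_card
  letI := nzAction ρ
  have hperm : Function.Injective (MulAction.toPermHom G {v : V // v ≠ 0}) := by
    intro g h hgh
    refine hρ (LinearEquiv.ext fun w => ?_)
    by_cases hw : w = 0
    · rw [hw, map_zero, map_zero]
    · exact congrArg Subtype.val (Equiv.ext_iff.mp hgh ⟨w, hw⟩ :)
  have hG1 : 1 < Nat.card G := Finite.one_lt_card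
  have ha0 : a ≠ 0 := by
    intro h0
    rw [h0, pow_zero] at ha
    have hd := Subgroup.card_dvd_of_injective _ hperm
    rw [Nat.card_perm, card_nonzero, ha] at hd
    exact hG1.ne' (Nat.dvd_one.mp (by simpa using hd))
  by_cases hq2 : q = 2
  · subst hq2
    refine Or.inl ⟨rfl, ?_⟩
    have hn2 : 2 ≤ n := by
      by_contra h
      rw [hn, show n = 1 by omega] at ha
      exact (Nat.one_lt_pow ha0 (Fact.out : p.Prime).one_lt).ne (by simpa using ha)
    have ha1 := two_pow_sub_one_eq (Fact.out : p.Prime) hn2 (hn ▸ ha)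
    rw [ha1, pow_one] at ha
    refine ⟨ha.symm, ?_⟩
    have hd := Subgroup.card_dvd_of_injective _ hperm
    rw [Nat.card_perm, card_nonzero, ha, hc] at hd
    rw [hc] at hG1 ⊢
    have hp : p.Prime := Fact.out
    rcases Nat.lt_or_ge c 2 with h | h
    · interval_cases c
      · norm_num at hG1
      · rw [pow_one]
    · exfalso
      have h2 : p * p ∣ p * Nat.factorial (p - 1) := by
        rw [Nat.mul_factorial_pred hp.ne_zero]
        exact ((sq p).symm.dvd.trans (pow_dvd_pow p h)).trans hd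
      have h3 := (hp.dvd_factorial).mp ((Nat.mul_dvd_mul_iff_left hp.pos).mp h2)
      have := hp.two_le
      omega
  · have hp2 : p = 2 := by
      have h1 : 2 ∣ p ^ a := by
        rw [← ha, hn]
        have hodd := Nat.odd_iff.mp (((Fact.out : q.Prime).odd_of_ne_two hq2).pow (n := n))
        omega
      exact ((Nat.prime_dvd_prime_iff_eq Nat.prime_two Fact.out).mp (Nat.prime_two.dvd_of_dvd_pow h1)).symm
    subst hp2
    rcases odd_pow_sub_one_eq (Fact.out : q.Prime) hq2 hn0 (hn ▸ ha) with h1 | ⟨rfl, h2⟩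
    · rw [h1, pow_one] at hn
      refine Or.inr (Or.inl ⟨rfl, hn, ?_⟩)
      have hspan : ∀ u : V, ∃ s : ZMod q, s • v = u := by
        have hf : Function.Injective fun s : ZMod q => s • v := smul_left_injective _ hv
        exact (hf.bijective_of_nat_card_le (by rw [hn, Nat.card_zmod])).2
      choose s hs using hspan
      have hscal : ∀ (g : G) (u : V), ρ g u = s (ρ g v) • u := by
        intro g u
        conv_lhs => rw [← hs u, map_smul, ← hs (ρ g v), smul_comm, hs u]
      have hmul : ∀ g h : G, s (ρ (g * h) v) = s (ρ g v) * s (ρ h v) := fun g h => by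
        refine smul_left_injective (ZMod q) hv ?_
        show s (ρ (g * h) v) • v = (s (ρ g v) * s (ρ h v)) • v
        rw [hs, map_mul, LinearEquiv.mul_apply, hscal g (ρ h v), hscal h v, mul_smul]
        simp only [hs]
      let χ : G →* ZMod q := { toFun := fun g => s (ρ g v)
                               map_one' := smul_left_injective (ZMod q) hv (by
                                 show s (ρ 1 v) • v = (1 : ZMod q) • v
                                 rw [hs, map_one, one_smul]; rfl)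
                               map_mul' := hmul }
      have hχ : Function.Injective χ := fun g h hgh => hρ (LinearEquiv.ext fun u => by
        rw [hscal g u, hscal h u]; exact congrArg (· • u) hgh)
      have hcyc : IsCyclic G := isCyclic_of_subgroup_isDomain χ hχ
      refine ⟨⟨a, ?_, ?_⟩, hcyc⟩
      · rw [hn] at ha
        omega
      · have hst : Nat.card {g : G // ρ g v = v} = 1 := by
          rw [Nat.card_eq_one_iff_unique]
          refine ⟨⟨fun g h => Subtype.ext (hρ (LinearEquiv.ext fun u => ?_))⟩, ⟨⟨1, by rw [map_one]; rfl⟩⟩⟩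
          rw [← hs u, map_smul, map_smul, g.2, h.2]
        rw [hcm, hst, mul_one, ha]
    · have hV9 : Nat.card V = 9 := by rw [hn, h2]; norm_num
      rw [hV9] at hcm
      refine Or.inr (Or.inr ⟨rfl, rfl, hV9, ?_⟩)
      let b := Module.finBasisOfFinrankEq (ZMod 3) V h2
      let φ : G →* GL (Fin 2) (ZMod 3) := (Matrix.GeneralLinearGroup.toLin' b).symm.toMonoidHom.comp
        ((LinearMap.GeneralLinearGroup.generalLinearEquiv (ZMod 3) V).symm.toMonoidHom.comp ρ)
      have hφ : Function.Injective φ :=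
        (Matrix.GeneralLinearGroup.toLin' b).symm.injective.comp
          ((LinearMap.GeneralLinearGroup.generalLinearEquiv (ZMod 3) V).symm.injective.comp hρ)
      have hGL : Nat.card (GL (Fin 2) (ZMod 3)) = 48 := by
        rw [Matrix.card_GL_field, ZMod.card, Fin.prod_univ_two]
        norm_num
      have hd := Subgroup.card_dvd_of_injective φ hφ
      rw [hGL, hc] at hd
      have hc34 : c = 3 ∨ c = 4 := by
        have hc4 : c ≤ 4 := by
          by_contra hlt
          have h5 := (pow_dvd_pow 2 (show 5 ≤ c by omega)).trans hd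
          norm_num at h5
        rw [hc] at hcm
        have hk : 0 < Nat.card {g : G // ρ g v = v} :=
          Nat.card_pos_iff.mpr ⟨⟨⟨1, by rw [map_one]; rfl⟩⟩, inferInstance⟩
        by_contra hne
        have h2 : 2 ^ c ≤ 2 ^ 2 := Nat.pow_le_pow_right (by norm_num) (by omega)
        omega
      rcases hc34 with rfl | rfl
      · have hG8 : Nat.card G = 8 := by rw [hc]; norm_num
        by_cases hcyc : IsCyclic G
        · exact Or.inl ⟨hcyc, hG8⟩
        refine Or.inr (Or.inl (quaternion_of_regular hG8 ?_ hcyc))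
        have hfree : ∀ (g : G) (u : V), u ≠ 0 → ρ g u = u → g = 1 := by
          intro g u hu hgu
          have h := card_eq_mul ρ htrans hu
          rw [hV9, hG8] at h
          have h1 : Nat.card {g : G // ρ g u = u} = 1 := by omega
          have := (Nat.card_eq_one_iff_unique.mp h1).1
          exact congrArg Subtype.val (Subsingleton.elim (⟨g, hgu⟩ : {g : G // ρ g u = u}) ⟨1, by rw [map_one]; rfl⟩)
        have hneg : ∀ g : G, g ^ 2 = 1 → g ≠ 1 → ∀ u : V, ρ g u = -u := by
          intro g hg hg1 u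
          by_contra hne
          refine hg1 (hfree g (ρ g u + u) (fun h => hne (eq_neg_of_add_eq_zero_left h)) ?_)
          rw [map_add, ← LinearEquiv.mul_apply, ← map_mul, ← sq, hg, map_one, add_comm]
          rfl
        intro g h hg hg1 hh hh1
        exact hρ (LinearEquiv.ext fun u => by rw [hneg g hg hg1 u, hneg h hh hh1 u])
      · have hG16 : Nat.card G = 16 := by rw [hc]; norm_num
        refine Or.inr (Or.inr ⟨semidihedral_of_sixteen φ hφ hG16 ?_, hG16⟩)
        rw [hG16] at hcm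
        have hst : Nat.card {g : G // ρ g v = v} = 2 := by omega
        have hnt : Nontrivial {g : G // ρ g v = v} := Finite.one_lt_card_iff_nontrivial.mp (by omega)
        obtain ⟨y, hy⟩ := exists_ne (⟨1, by rw [map_one]; rfl⟩ : {g : G // ρ g v = v})
        have hy1 : (y : G) ≠ 1 := fun h => hy (Subtype.ext h)
        let S : Subgroup G := MulAction.stabilizer G (⟨v, hv⟩ : {v : V // v ≠ 0})
        have hyS : (y : G) ∈ S := Subtype.ext y.2
        have hS2 : Nat.card S = 2 := by
          rw [← hst]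
          exact Nat.card_congr (Equiv.subtypeEquivRight fun g => ⟨fun h => congrArg Subtype.val h, fun h => Subtype.ext h⟩)
        refine ⟨y, orderOf_eq_prime ?_ hy1, ?_⟩
        · have := pow_card_eq_one' (x := (⟨y, hyS⟩ : S))
          rw [hS2] at this
          exact congrArg Subtype.val this
        · by_contra hcomm
          push Not at hcomm
          refine hy1 (hρ (LinearEquiv.ext fun u => ?_))
          by_cases hu : u = 0
          · rw [hu, map_zero, map_zero]
          obtain ⟨g, rfl⟩ := htrans v u hv hu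
          rw [← LinearEquiv.mul_apply, ← map_mul, hcomm g, map_mul, LinearEquiv.mul_apply, y.2, map_one]
          rfl

end Cfsg.Agent.S3370
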