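import Cfsg.Statements.S2763
import Cfsg.Agent.Lib.QdOver.Basic
import Cfsg.Agent.Lib.Cores.Basic

set_option autoImplicit false
open Cfsg

namespace Cfsg.Agent.S2763

open Cfsg.Agent.QdOver

section
variable {F : Type*} [Field F]

/-- An upper unitriangular element. -/
def mkU (a b c : F) : upper F :=
  ⟨⟨⟨!![1, a, b; 0, 1, c; 0, 0, 1], by simp [Matrix.det_fin_three]⟩, mem_qdOver.2 ⟨rfl, rfl, rfl⟩⟩,
    rfl, rfl, rfl⟩

theorem mkU_mul (a b c a' b' c' : F) :
    mkU a b c * mkU a' b' c' = mkU (a + a') (b + b' + a * c') (c + c') := by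
  refine Subtype.ext ?_
  apply ext_ent <;> simp [ent_mul, mkU] <;> ring

theorem eq_mkU (M : upper F) :
    M = mkU (ent (M : Cfsg.qdOver F) 0 1) (ent (M : Cfsg.qdOver F) 0 2) (ent (M : Cfsg.qdOver F) 1 2) := by
  obtain ⟨h00, h10, h11⟩ := M.2
  refine Subtype.ext ?_
  apply ext_ent <;> simp [mkU, h00, h10, h11]

/-- The automorphism exchanging the two maximal elementary abelian subgroups. -/
def swapAut : upper F ≃* upper F where
  toFun M := mkU (-ent (M : Cfsg.qdOver F) 1 2)
    (ent (M : Cfsg.qdOver F) 0 1 * ent (M : Cfsg.qdOver F) 1 2 - ent (M : Cfsg.qdOver F) 0 2)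
    (-ent (M : Cfsg.qdOver F) 0 1)
  invFun M := mkU (-ent (M : Cfsg.qdOver F) 1 2)
    (ent (M : Cfsg.qdOver F) 0 1 * ent (M : Cfsg.qdOver F) 1 2 - ent (M : Cfsg.qdOver F) 0 2)
    (-ent (M : Cfsg.qdOver F) 0 1)
  left_inv M := by
    conv_rhs => rw [eq_mkU M]
    simp [mkU]; ring_nf
  right_inv M := by
    conv_rhs => rw [eq_mkU M]
    simp [mkU]; ring_nf
  map_mul' M N := by
    rw [eq_mkU M, eq_mkU N, mkU_mul, mkU_mul]
    simp [mkU]
    ring_nf

variable [Fintype F] {p : ℕ} [Fact p.Prime] [CharP F p]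

/-- A nontrivial normal subgroup inside the translations is all of them. -/
theorem eq_ker_of_normal {N : Subgroup (Cfsg.qdOver F)} (hn : N.Normal) (hle : N ≤ block.ker)
    (hne : N ≠ ⊥) : N = block.ker := by
  let A : AddSubgroup (F × F) :=
    { carrier := {v | tr v.1 v.2 ∈ N}
      zero_mem' := by show tr (0 : F) 0 ∈ N; rw [tr_zero]; exact one_mem _
      add_mem' := fun {v w} hv hw => by
        show tr (v.1 + w.1) (v.2 + w.2) ∈ N
        rw [← tr_mul]; exact mul_mem hv hw
      neg_mem' := fun {v} hv => by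
        show tr (-v.1) (-v.2) ∈ N
        have h : tr (-v.1) (-v.2) = (tr v.1 v.2)⁻¹ := eq_inv_of_mul_eq_one_left (by
          rw [tr_mul, neg_add_cancel, neg_add_cancel, tr_zero])
        rw [h]; exact inv_mem hv }
  have hinv : ∀ (g : Matrix.SpecialLinearGroup (Fin 2) F) (a b : F), (a, b) ∈ A →
      (g.1 0 0 * a + g.1 0 1 * b, g.1 1 0 * a + g.1 1 1 * b) ∈ A := fun g a b h => by
    show tr _ _ ∈ N
    rw [← emb_conj_tr]
    exact hn.conj_mem _ h _
  have hup : ∀ x a b : F, (a, b) ∈ A → (x * b, (0 : F)) ∈ A := fun x a b h => by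
    simpa [up] using A.sub_mem (hinv (up x) a b h) h
  have hlow : ∀ x a b : F, (a, b) ∈ A → ((0 : F), x * a) ∈ A := fun x a b h => by
    simpa [low] using A.sub_mem (hinv (low x) a b h) h
  obtain ⟨M, hM, hM1⟩ := (N.bot_or_exists_ne_one).resolve_left hne
  have hv : (ent M 0 2, ent M 1 2) ∈ A := by
    show tr _ _ ∈ N
    rw [← eq_tr (hle hM)]; exact hM
  have hx : ∀ x : F, (x, (0 : F)) ∈ A ∧ ((0 : F), x) ∈ A := by
    rcases eq_or_ne (ent M 1 2) 0 with h | h
    · have h0 : ent M 0 2 ≠ 0 := fun h0 => hM1 (by rw [eq_tr (hle hM), h0, h, tr_zero])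
      have h1 : ∀ x : F, ((0 : F), x) ∈ A := fun x => by
        simpa [h0] using hlow (x / ent M 0 2) _ _ hv
      exact fun x => ⟨by simpa using hup x _ _ (h1 1), h1 x⟩
    · have h1 : ∀ x : F, (x, (0 : F)) ∈ A := fun x => by
        simpa [h] using hup (x / ent M 1 2) _ _ hv
      exact fun x => ⟨h1 x, by simpa using hlow x _ _ (h1 1)⟩
  refine le_antisymm hle fun K hK => ?_
  rw [eq_tr hK]
  have h2 := A.add_mem (hx (ent K 0 2)).1 (hx (ent K 1 2)).2
  simpa [A] using h2

include p in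
/-- The statement for the upper unitriangular Sylow subgroup. -/
theorem normalizer_char_upper (T : Subgroup ↥(upper F)) (hT : T ≠ ⊥) [hTc : T.Characteristic] :
    Subgroup.normalizer ((T.map (upper F).subtype : Subgroup (Cfsg.qdOver F)) : Set (Cfsg.qdOver F)) =
        Subgroup.normalizer (upper F : Set (Cfsg.qdOver F)) ∧
      Subgroup.normalizer (upper F : Set (Cfsg.qdOver F)) ≠ ⊤ := by
  have hle := Cores.normalizer_le_normalizer_map (H := upper F) T
  constructor
  · refine le_antisymm (fun g hg => ?_) hle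
    by_contra hgU
    rw [mem_normalizer_upper] at hgU
    have htop := eq_top_of_borel_le (fun M hM => hle (mem_normalizer_upper.2 hM)) hg hgU
    have hn : (T.map (upper F).subtype).Normal := Subgroup.normalizer_eq_top_iff.1 htop
    have hker : T.map (upper F).subtype ≤ block.ker := by
      rw [← pCore_eq_ker (p := p)]
      exact le_sSup ⟨hn, ((upper_isPGroup (p := p)).to_subgroup T).map _⟩
    have heq := eq_ker_of_normal hn hker (by
      rw [ne_eq, Subgroup.map_eq_bot_iff_of_injective _ (upper F).subtype_injective]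
      exact hT)
    have hmem : mkU (0 : F) 0 1 ∈ T := by
      have h1 : ((mkU (0 : F) 0 1 : upper F) : Cfsg.qdOver F) ∈ T.map (upper F).subtype := by
        rw [heq]; exact mem_ker_block.2 ⟨rfl, rfl, rfl, rfl⟩
      obtain ⟨x, hx, hxe⟩ := h1
      rwa [← Subtype.ext hxe]
    have hθ : swapAut (mkU (0 : F) 0 1) ∈ T := by
      rw [← Subgroup.Characteristic.fixed hTc swapAut] at hmem
      exact hmem
    have h2 := mem_ker_block.1 (hker (Subgroup.mem_map_of_mem _ hθ))
    simp [swapAut, mkU] at h2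
  · intro h
    have h2 := (mem_normalizer_upper (M := emb (low (1 : F)))).1 (h ▸ Subgroup.mem_top _)
    simp [emb, low] at h2

end

/-- The statement over `qdOver (ZMod p)`. -/
theorem result_qdOver {p : ℕ} [Fact p.Prime] (S : Sylow p ↥(Cfsg.qdOver (ZMod p)))
    (T : Subgroup ↥(S : Subgroup ↥(Cfsg.qdOver (ZMod p)))) (hT : T ≠ ⊥) (hTc : T.Characteristic) :
    Subgroup.normalizer ((T.map (S : Subgroup ↥(Cfsg.qdOver (ZMod p))).subtype : Subgroup ↥(Cfsg.qdOver (ZMod p))) : Set ↥(Cfsg.qdOver (ZMod p))) =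
      Subgroup.normalizer ((S : Subgroup ↥(Cfsg.qdOver (ZMod p))) : Set ↥(Cfsg.qdOver (ZMod p))) ∧
    Subgroup.normalizer ((S : Subgroup ↥(Cfsg.qdOver (ZMod p))) : Set ↥(Cfsg.qdOver (ZMod p))) ≠ ⊤ := by
  obtain ⟨g, hg⟩ := MulAction.exists_smul_eq ↥(Cfsg.qdOver (ZMod p))
    (upperSylow (F := ZMod p) (p := p) : Sylow p ↥(Cfsg.qdOver (ZMod p))) S
  have hS : ((upper (ZMod p)).map (MulAut.conj g).toMonoidHom : Subgroup ↥(Cfsg.qdOver (ZMod p))) = S := by
    rw [← hg, Sylow.coe_subgroup_smul, Subgroup.pointwise_smul_def]; rfl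
  let φ : ↥(upper (ZMod p)) ≃* ↥(S : Subgroup ↥(Cfsg.qdOver (ZMod p))) :=
    ((upper (ZMod p)).equivMapOfInjective (MulAut.conj g).toMonoidHom (MulAut.conj g).injective).trans
      (MulEquiv.subgroupCongr hS)
  let T₀ := T.comap φ.toMonoidHom
  have hT₀ : T₀ ≠ ⊥ := by
    intro h
    apply hT
    rw [← Subgroup.map_comap_eq_self_of_surjective (f := φ.toMonoidHom) φ.surjective T]
    show T₀.map _ = ⊥
    rw [h, Subgroup.map_bot]
  have : T₀.Characteristic := ⟨fun ψ => by
    have h := Subgroup.Characteristic.fixed hTc ((φ.symm.trans ψ).trans φ)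
    show (T.comap φ.toMonoidHom).comap ψ.toMonoidHom = T.comap φ.toMonoidHom
    conv_rhs => rw [← h]
    ext x
    simp⟩
  obtain ⟨h1, h2⟩ := normalizer_char_upper (p := p) T₀ hT₀
  have hmap : (T₀.map (upper (ZMod p)).subtype).map (MulAut.conj g).toMonoidHom =
      T.map (S : Subgroup ↥(Cfsg.qdOver (ZMod p))).subtype := by
    ext x
    simp only [Subgroup.mem_map]
    constructor
    · rintro ⟨_, ⟨y, hy, rfl⟩, rfl⟩
      exact ⟨φ y, hy, rfl⟩
    · rintro ⟨z, hz, rfl⟩
      refine ⟨_, ⟨φ.symm z, ?_, rfl⟩, ?_⟩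
      · show φ (φ.symm z) ∈ T
        rw [MulEquiv.apply_symm_apply]; exact hz
      · exact congrArg Subtype.val (φ.apply_symm_apply z)
  have hS' : (S : Subgroup ↥(Cfsg.qdOver (ZMod p))) = (upper (ZMod p)).map (MulAut.conj g).toMonoidHom := hS.symm
  rw [← hmap, hS', ← Subgroup.map_equiv_normalizer_eq, ← Subgroup.map_equiv_normalizer_eq]
  refine ⟨by rw [h1], fun h => h2 ?_⟩
  refine Subgroup.map_injective (MulAut.conj g).injective (h.trans ?_)
  exact (Subgroup.map_top_of_surjective _ (MulAut.conj g).surjective).symm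

/-- In the group Qd(p) (p prime; the natural semidirect product of an elementary abelian group of order p² by SL₂(p)), the normalizer of every nontrivial characteristic subgroup of a Sylow p-subgroup S equals the normalizer of S, which is a proper subgroup; in particular no such characteristic subgroup is normal. -/
theorem result {p : ℕ} [Fact p.Prime] (S : Sylow p ↥(Cfsg.qd p)) (T : Subgroup ↥(S : Subgroup ↥(Cfsg.qd p))) (hT : T ≠ ⊥) (hTc : T.Characteristic) : Subgroup.normalizer ((T.map (S : Subgroup ↥(Cfsg.qd p)).subtype : Subgroup ↥(Cfsg.qd p)) : Set ↥(Cfsg.qd p)) = Subgroup.normalizer ((S : Subgroup ↥(Cfsg.qd p)) : Set ↥(Cfsg.qd p)) ∧ Subgroup.normalizer ((S : Subgroup ↥(Cfsg.qd p)) : Set ↥(Cfsg.qd p)) ≠ ⊤ := by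
  exact result_qdOver S T hT hTc

end Cfsg.Agent.S2763
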