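import Cfsg.Statements.S4387
import Cfsg.Agent.EqLemmas

set_option autoImplicit false
open Pointwise
open Cfsg

namespace Cfsg.Agent.S4387

theorem union_conj_ne_univ {G : Type*} [Group G] [Finite G] (M : Subgroup G) (hM : M ≠ ⊤) :
    ¬ ∀ g : G, ∃ x : G, g ∈ MulAut.conj x • M := by
  intro h
  let F : (G ⧸ M) × M → G := fun c => c.1.out * c.2 * c.1.out⁻¹
  have hsurj : Function.Surjective F := by
    intro g
    obtain ⟨x, hx⟩ := h g
    rw [Subgroup.mem_pointwise_smul_iff_inv_smul_mem, ← map_inv, MulAut.smul_def, MulAut.conj_apply, inv_inv] at hx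
    obtain ⟨k, hk⟩ := QuotientGroup.mk_out_eq_mul M x
    refine ⟨((x : G ⧸ M), ⟨(k : G)⁻¹ * (x⁻¹ * g * x) * k, mul_mem (mul_mem (inv_mem k.2) hx) k.2⟩), ?_⟩
    simp only [F, hk]
    group
  have hcard : Nat.card ((G ⧸ M) × M) = Nat.card G := by
    rw [Nat.card_prod]; exact (Subgroup.card_eq_card_quotient_mul_card_subgroup M).symm
  have hinj : Function.Injective F := ((Nat.bijective_iff_surjective_and_card F).2 ⟨hsurj, hcard⟩).1
  apply hM
  rw [eq_top_iff]
  intro g _
  have := @hinj ((g : G ⧸ M), 1) (((1 : G) : G ⧸ M), 1) (by simp [F])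
  have h2 : ((g : G ⧸ M)) = ((1 : G) : G ⧸ M) := (Prod.mk.injEq _ _ _ _ ▸ this).1
  rw [QuotientGroup.eq, mul_one] at h2
  simpa using h2

/-- Let G be a non-trivial finite group in which any two maximal subgroups are conjugate. Then G is cyclic of prime-power order. -/
theorem result {G : Type*} [Group G] [Finite G] [Nontrivial G]
    (h : ∀ M N : Subgroup G, IsCoatom M → IsCoatom N → ∃ g : G, N = MulAut.conj g • M) :
    IsCyclic G ∧ IsPrimePow (Nat.card G) := by
  obtain ⟨M, hM, -⟩ := (IsCoatomic.eq_top_or_exists_le_coatom (⊥ : Subgroup G)).resolve_left bot_ne_top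
  have key : ∃ g : G, Subgroup.zpowers g = ⊤ := by
    by_contra hc
    push Not at hc
    apply union_conj_ne_univ M hM.1
    intro g
    obtain ⟨N, hN, hle⟩ := (IsCoatomic.eq_top_or_exists_le_coatom (Subgroup.zpowers g)).resolve_left (hc g)
    obtain ⟨x, rfl⟩ := h M N hM hN
    exact ⟨x, hle (Subgroup.mem_zpowers g)⟩
  obtain ⟨g, hg⟩ := key
  have hall : ∀ x : G, ∃ i : ℤ, g ^ i = x := fun x =>
    Subgroup.mem_zpowers_iff.1 (hg ▸ Subgroup.mem_top x)
  refine ⟨⟨g, hall⟩, ?_⟩
  have huniq : ∀ N : Subgroup G, IsCoatom N → N = M := by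
    intro N hN
    obtain ⟨x, rfl⟩ := h M N hM hN
    ext y
    rw [Subgroup.mem_pointwise_smul_iff_inv_smul_mem, ← map_inv, MulAut.smul_def, MulAut.conj_apply, inv_inv]
    obtain ⟨i, rfl⟩ := hall x
    obtain ⟨j, rfl⟩ := hall y
    rw [← zpow_neg, ← zpow_add, ← zpow_add, show -i + j + i = j by ring]
  obtain ⟨r, hr, hrd⟩ := Nat.exists_prime_and_dvd (fun h1 => hM.1 (Subgroup.index_eq_one.1 h1))
  haveI := Fact.mk hr
  let R : Sylow r G := default
  have hRtop : (R : Subgroup G) = ⊤ := by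
    by_contra hne
    obtain ⟨N, hN, hle⟩ := (IsCoatomic.eq_top_or_exists_le_coatom (R : Subgroup G)).resolve_left hne
    rw [huniq N hN] at hle
    exact R.not_dvd_index (hrd.trans (Subgroup.index_dvd_of_le hle))
  have hP := R.isPGroup'
  rw [hRtop] at hP
  obtain ⟨n, hn⟩ := IsPGroup.iff_card.1 hP
  rw [Subgroup.card_top] at hn
  have hne : n ≠ 0 := by
    rintro rfl
    rw [pow_zero] at hn
    exact (Finite.one_lt_card (α := G)).ne' hn
  rw [hn]
  exact hr.isPrimePow.pow hne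

end Cfsg.Agent.S4387
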