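import Cfsg.Statements.S4765
import Cfsg.Agent.Lib.GLTwoChar.SLTable
import Cfsg.Agent.Lib.SL2Cusp.Kinds
import Cfsg.Agent.Lib.Codegree.Basic
import Cfsg.Agent.Lib.Blocks.Defect

set_option autoImplicit false
open Cfsg

namespace Cfsg.Agent.S4765

open Matrix GLTwoChar

theorem eq_stS {F : Type*} [Field F] [Fintype F] [DecidableEq F] (p : ℕ) [hp : Fact p.Prime] [CharP F p]
    (hF : 4 ≤ Fintype.card F) (θ : IrrCharacter (SpecialLinearGroup (Fin 2) F))
    (hd : p ∣ charDegree (θ : SpecialLinearGroup (Fin 2) F → ℂ)) :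
    (θ : SpecialLinearGroup (Fin 2) F → ℂ) = stS F := by
  obtain ⟨n, -, hq⟩ := FiniteField.card F p
  have hpq : p ∣ Fintype.card F := hq ▸ dvd_pow_self p n.2.ne'
  have hp2 := hp.out.two_le
  have hc := Blocks.charDegree_cast θ
  set d := charDegree (θ : SpecialLinearGroup (Fin 2) F → ℂ)
  have hnot : ∀ m : ℕ, p ∣ m → (m = 1 ∨ m = Fintype.card F + 1 ∨ m + 1 = Fintype.card F) → False := by
    intro m hm h
    have h1 : p ∣ 1 := by
      rcases h with rfl | rfl | h
      · exact hm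
      · exact (Nat.dvd_add_right hpq).1 hm
      · exact (Nat.dvd_add_right hm).1 (h ▸ hpq)
    have := Nat.le_of_dvd one_pos h1
    omega
  have hF1 : (1 : ℕ) ≤ Fintype.card F := by omega
  rcases sl_cases θ.2 with h | h | ⟨γ, -, h⟩ | ⟨γ, -, -, -, h⟩ | ⟨-, ⟨h, -⟩ | h⟩
  · rw [h, Pi.one_apply, Nat.cast_eq_one] at hc
    exact (hnot d hd (Or.inl hc)).elim
  · exact h
  · rw [h, psS_one, ← Nat.cast_add_one, Nat.cast_inj] at hc
    exact (hnot d hd (Or.inr (Or.inl hc))).elim
  · rw [← hc] at h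
    exact (hnot (2 * d) (dvd_mul_of_dvd_right hd 2) (Or.inr (Or.inl (by exact_mod_cast h)))).elim
  · rw [← hc] at h
    exact (hnot d hd (Or.inr (Or.inr (by
      exact_mod_cast (by linear_combination h : (d : ℂ) + 1 = (Fintype.card F : ℂ)))))).elim
  · rw [← hc] at h
    exact (hnot (2 * d) (dvd_mul_of_dvd_right hd 2) (Or.inr (Or.inr (by
      exact_mod_cast (by linear_combination h : 2 * (d : ℂ) + 1 = (Fintype.card F : ℂ)))))).elim

/-- Let F be a finite field of characteristic p with at least 4 elements. Then PSL(2,F) has exactly one irreducible complex character of degree divisible by p, and its degree is the order of F. -/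
theorem result (p : ℕ) [Fact p.Prime] (F : Type*) [Field F] [Fintype F] [CharP F p] (hF : 4 ≤ Fintype.card F) : Nat.card {χ : Cfsg.IrrCharacter (Matrix.ProjectiveSpecialLinearGroup (Fin 2) F) // p ∣ Cfsg.charDegree (χ : Matrix.ProjectiveSpecialLinearGroup (Fin 2) F → ℂ)} = 1 ∧ ∀ χ : Cfsg.IrrCharacter (Matrix.ProjectiveSpecialLinearGroup (Fin 2) F), p ∣ Cfsg.charDegree (χ : Matrix.ProjectiveSpecialLinearGroup (Fin 2) F → ℂ) → Cfsg.charDegree (χ : Matrix.ProjectiveSpecialLinearGroup (Fin 2) F → ℂ) = Fintype.card F := by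
  classical
  have hpq : p ∣ Fintype.card F := by
    obtain ⟨n, -, hq⟩ := FiniteField.card F p
    exact hq ▸ dvd_pow_self p n.2.ne'
  let Z := Subgroup.center (SpecialLinearGroup (Fin 2) F)
  let st : IrrCharacter (SpecialLinearGroup (Fin 2) F) := ⟨stS F, stS_irr⟩
  have hker : Z ≤ Codegree.kerSub st := by
    intro z hz
    show stS F z = stS F 1
    rcases GLOrder.center_SL2.1 hz with rfl | rfl
    · rfl
    · simp only [stS, Pi.sub_apply, Pi.one_apply]
      rw [SL2Cusp.psS_neg, MulChar.one_apply (isUnit_one.neg), one_mul]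
  obtain ⟨ψ, hψ⟩ := Codegree.exists_quot st Z hker
  have hψd : charDegree (ψ : ProjectiveSpecialLinearGroup (Fin 2) F → ℂ) = Fintype.card F := by
    have h1 : (ψ : ProjectiveSpecialLinearGroup (Fin 2) F → ℂ) 1 = (Fintype.card F : ℂ) :=
      (hψ 1).trans stS_one
    rw [charDegree, h1, Complex.natCast_re, Nat.floor_natCast]
  have huniq : ∀ χ : IrrCharacter (ProjectiveSpecialLinearGroup (Fin 2) F),
      p ∣ charDegree (χ : ProjectiveSpecialLinearGroup (Fin 2) F → ℂ) → χ = ψ := by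
    intro χ hχ
    have hd : p ∣ charDegree (Codegree.inflate Z χ : SpecialLinearGroup (Fin 2) F → ℂ) := hχ
    have h := eq_stS p hF _ hd
    refine Subtype.ext (funext fun x => ?_)
    obtain ⟨g, rfl⟩ := QuotientGroup.mk_surjective x
    exact (congrFun h g).trans (hψ g).symm
  refine ⟨?_, fun χ hχ => by rw [huniq χ hχ, hψd]⟩
  refine Nat.card_eq_one_iff_unique.2 ⟨⟨fun a b => Subtype.ext ((huniq _ a.2).trans (huniq _ b.2).symm)⟩, ⟨⟨ψ, ?_⟩⟩⟩
  rwa [hψd]

end Cfsg.Agent.S4765
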