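import Cfsg.Statements.S3376
import Cfsg.Agent.Lib.Cores.Fitting
import Mathlib.GroupTheory.Perm.Centralizer
import Mathlib.GroupTheory.Index
-- import your own Cfsg.Agent.* helpers here

set_option autoImplicit false
open Cfsg

namespace Cfsg.Agent.S3376

open scoped Pointwise

/-- Three disjoint three-cycles of `Fin 9`. -/
abbrev threeCycles : Equiv.Perm (Fin 9) :=
  Equiv.swap (0 : Fin 9) 1 * Equiv.swap 1 2 * Equiv.swap 3 4 * Equiv.swap 4 5 * Equiv.swap 6 7 * Equiv.swap 7 8

theorem cycleType_of_pow_three {σ : Equiv.Perm (Fin 9)} (h3 : σ ^ 3 = 1) (hfix : ∀ i, σ i ≠ i) :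
    σ.cycleType = Multiset.replicate 3 3 := by
  haveI : Fact (Nat.Prime 3) := ⟨Nat.prime_three⟩
  have h := Equiv.Perm.cycleType_of_pow_prime_eq_one h3
  have hs := σ.sum_cycleType
  rw [h, Multiset.sum_replicate, smul_eq_mul,
    show σ.support = Finset.univ from Finset.eq_univ_of_forall fun i => Equiv.Perm.mem_support.mpr (hfix i),
    Finset.card_univ, Fintype.card_fin] at hs
  rw [h, show σ.cycleType.card = 3 by omega]

theorem cycleType_threeCycles : threeCycles.cycleType = Multiset.replicate 3 3 :=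
  cycleType_of_pow_three (by decide +kernel) (by decide +kernel)

theorem card_centralizer_threeCycles : Nat.card (Subgroup.centralizer ({threeCycles} : Set (Equiv.Perm (Fin 9)))) = 162 := by
  rw [Equiv.Perm.nat_card_centralizer, cycleType_threeCycles]
  decide +kernel

/-- Let G be a group of order 162 = 3⁴·2 with Sylow 3-subgroup S and Sylow 2-subgroup T, having an elementary abelian normal subgroup J of order 27, such that Z = Z(S) has order 3, Z centralizes T, and C_S(T) ≠ S. Then G is isomorphic to the centralizer in Sym(9) of a product of three disjoint 3-cycles. -/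
theorem result {G : Type*} [Group G] [Finite G] (hG : Nat.card G = 162)
    (S : Sylow 3 G) (T : Sylow 2 G) (J : Subgroup G) [hJn : J.Normal] (hJcomm : IsMulCommutative J)
    (hJexp : ∀ a ∈ J, a ^ 3 = 1) (hJcard : Nat.card J = 27)
    (Z : Subgroup G) (hZ : Z = (S : Subgroup G) ⊓ Subgroup.centralizer ((S : Subgroup G) : Set G)) (hZcard : Nat.card Z = 3)
    (hZT : Z ≤ Subgroup.centralizer ((T : Subgroup G) : Set G))
    (hST : (S : Subgroup G) ⊓ Subgroup.centralizer ((T : Subgroup G) : Set G) ≠ S) :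
    Nonempty (G ≃* Subgroup.centralizer ({Equiv.swap (0 : Fin 9) 1 * Equiv.swap 1 2 * Equiv.swap 3 4 * Equiv.swap 4 5 * Equiv.swap 6 7 * Equiv.swap 7 8} : Set (Equiv.Perm (Fin 9)))) := by
  classical
  haveI : Fact (Nat.Prime 3) := ⟨Nat.prime_three⟩
  have hScard : Nat.card (S : Subgroup G) = 81 := by
    rw [S.card_eq_multiplicity, hG, show (162 : ℕ) = 2 * 3 ^ 4 by norm_num, Nat.factorization_mul (by norm_num) (by norm_num),
      Nat.factorization_pow]
    simp [Nat.prime_three.factorization, Nat.prime_two.factorization]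
  have hSn : (S : Subgroup G).Normal := Subgroup.normal_of_index_eq_two (by
    have := (S : Subgroup G).card_mul_index
    rw [hScard, hG] at this
    omega)
  have hJp : IsPGroup 3 J := IsPGroup.of_card (n := 3) (by rw [hJcard]; norm_num)
  have hJS : J ≤ (S : Subgroup G) := hJp.le_sylow_of_normal S
  have hTcard : Nat.card (T : Subgroup G) = 2 := by
    rw [T.card_eq_multiplicity, hG, show (162 : ℕ) = 2 * 3 ^ 4 by norm_num, Nat.factorization_mul (by norm_num) (by norm_num),
      Nat.factorization_pow]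
    simp [Nat.prime_three.factorization, Nat.prime_two.factorization]
  haveI : Nontrivial (T : Subgroup G) := Finite.one_lt_card_iff_nontrivial.mp (by rw [hTcard]; norm_num)
  obtain ⟨⟨t, htT⟩, ht1⟩ := exists_ne (1 : (T : Subgroup G))
  have htne : t ≠ 1 := fun h => ht1 (Subtype.ext h)
  have ht2 : t ^ 2 = 1 := by
    have := pow_card_eq_one' (x := (⟨t, htT⟩ : (T : Subgroup G)))
    rw [hTcard] at this
    exact congrArg Subtype.val this
  have hTeq : Subgroup.zpowers t = (T : Subgroup G) := Subgroup.eq_of_le_of_card_ge (Subgroup.zpowers_le.mpr htT)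
    (by rw [hTcard, Nat.card_zpowers, orderOf_eq_prime ht2 htne])
  have htS : t ∉ (S : Subgroup G) := fun h => by
    have h1 := Subgroup.orderOf_dvd_natCard _ h
    rw [orderOf_eq_prime ht2 htne, hScard] at h1
    norm_num at h1
  have htinv : t⁻¹ = t := inv_eq_of_mul_eq_one_right (by rw [← sq, ht2])
  haveI : Nontrivial Z := Finite.one_lt_card_iff_nontrivial.mp (by rw [hZcard]; norm_num)
  obtain ⟨⟨z, hzZ⟩, hz1⟩ := exists_ne (1 : Z)
  have hzne : z ≠ 1 := fun h => hz1 (Subtype.ext h)
  have hz3 : z ^ 3 = 1 := by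
    have := pow_card_eq_one' (x := (⟨z, hzZ⟩ : Z))
    rw [hZcard] at this
    exact congrArg Subtype.val this
  have hzo : orderOf z = 3 := orderOf_eq_prime hz3 hzne
  have hZeq : Subgroup.zpowers z = Z := Subgroup.eq_of_le_of_card_ge (Subgroup.zpowers_le.mpr hzZ) (by rw [hZcard, Nat.card_zpowers, hzo])
  have hzS : z ∈ (S : Subgroup G) := (hZ.le hzZ).1
  have hzc : ∀ s ∈ (S : Subgroup G), s * z = z * s := (hZ.le hzZ).2
  have htz : t * z = z * t := hZT hzZ t htT
  -- `G = S T`, so `z` is central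
  have hST2 : ∀ g : G, g ∈ (S : Subgroup G) ∨ ∃ s ∈ (S : Subgroup G), g = s * t := by
    intro g
    by_cases hg : g ∈ (S : Subgroup G)
    · exact Or.inl hg
    · refine Or.inr ⟨g * t, ?_, by rw [mul_assoc, ← sq, ht2, mul_one]⟩
      have hidx : (S : Subgroup G).index = 2 := by
        have := (S : Subgroup G).card_mul_index
        rw [hScard, hG] at this
        omega
      exact (Subgroup.mul_mem_iff_of_index_two hidx).mpr ⟨fun h => absurd h hg, fun h => absurd h htS⟩
  have hzG : ∀ g : G, g * z = z * g := by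
    intro g
    rcases hST2 g with h | ⟨s, hs, rfl⟩
    · exact hzc g h
    · rw [mul_assoc, htz, ← mul_assoc, hzc s hs, mul_assoc]
  -- every non-trivial normal subgroup contains `z`
  have hnorm : ∀ N : Subgroup G, N.Normal → N ≠ ⊥ → z ∈ N := by
    intro N hN hN1
    have h1 : (N.subgroupOf (S : Subgroup G)) ≠ ⊥ := by
      intro h
      rw [Subgroup.subgroupOf_eq_bot, disjoint_iff] at h
      -- then `N` has order two, so is central
      have hc : ∀ n ∈ N, ∀ s ∈ (S : Subgroup G), s * n = n * s := fun n hn s hs =>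
        (Subgroup.commute_of_normal_of_disjoint _ _ hN hSn (disjoint_iff.mpr h) n s hn hs).eq.symm
      obtain ⟨n, hn, hn1⟩ := N.ne_bot_iff_exists_ne_one.mp hN1 |> fun ⟨x, hx⟩ => (⟨x, x.2, fun h => hx (Subtype.ext h)⟩ : ∃ n, n ∈ N ∧ n ≠ 1)
      rcases hST2 n with hns | ⟨s, hs, rfl⟩
      · exact hn1 (Subgroup.mem_bot.mp (h ▸ ⟨hn, hns⟩ : n ∈ (⊥ : Subgroup G)))
      · have hsq : (s * t) * (s * t) = 1 := by
          refine Subgroup.mem_bot.mp (h ▸ ⟨mul_mem hn hn, ?_⟩ : (s * t) * (s * t) ∈ (⊥ : Subgroup G))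
          rw [show (s * t) * (s * t) = s * (t * s * t⁻¹) * (t * t) by group, ← sq, ht2, mul_one]
          exact mul_mem hs (hSn.conj_mem s hs t)
        have hts : t * s = s * t := by
          have h2 := hc _ hn s hs
          rw [mul_assoc s t s] at h2
          exact (mul_left_cancel h2).symm
        have hs2 : s * s = 1 := by
          rw [show (s * t) * (s * t) = s * (t * s) * t by group, hts,
            show s * (s * t) * t = s * s * (t * t) by group, ← sq t, ht2, mul_one] at hsq
          exact hsq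
        have hs1 : s = 1 := by
          have h3 := Subgroup.orderOf_dvd_natCard _ hs
          rw [hScard] at h3
          have h4 : orderOf s ∣ 2 := orderOf_dvd_of_pow_eq_one (by rw [sq, hs2])
          exact orderOf_eq_one_iff.mp (Nat.eq_one_of_dvd_coprimes (by norm_num : Nat.Coprime 81 2) h3 h4)
        refine hST (inf_eq_left.mpr fun x hx => ?_)
        rw [← hTeq, Subgroup.zpowers_eq_closure, Subgroup.centralizer_closure]
        intro y hy
        rw [Set.mem_singleton_iff.mp hy]
        have h5 := hc _ hn x hx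
        rw [hs1, one_mul] at h5
        exact h5.symm
    have hne := Subgroup.nontrivial_iff_ne_bot _ |>.mpr h1
    have hSp : IsPGroup 3 (S : Subgroup G) := S.isPGroup'
    have := hSp.isNilpotent
    obtain ⟨w, hw1, hwc⟩ : ∃ w : (S : Subgroup G), w ≠ 1 ∧ w ∈ N.subgroupOf (S : Subgroup G) ⊓ Subgroup.center _ := by
      obtain ⟨w, hw⟩ := Subgroup.ne_bot_iff_exists_ne_one.mp (Cfsg.Agent.Cores.inf_center_ne_bot (N.subgroupOf (S : Subgroup G)) h1)
      exact ⟨w, fun h => hw (Subtype.ext h), w.2⟩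
    have hwZ : (w : G) ∈ Z := hZ ▸ ⟨w.2, fun s hs => congrArg Subtype.val (Subgroup.mem_center_iff.mp hwc.2 ⟨s, hs⟩)⟩
    have hwne : (w : G) ≠ 1 := fun h => hw1 (Subtype.ext h)
    have hwz : Subgroup.zpowers (w : G) = Z := Subgroup.eq_of_le_of_card_ge (Subgroup.zpowers_le.mpr hwZ) (by
      rw [hZcard, Nat.card_zpowers]
      rcases (Nat.dvd_prime Nat.prime_three).mp (hZcard ▸ Subgroup.orderOf_dvd_natCard Z hwZ) with h | h
      · exact absurd (orderOf_eq_one_iff.mp h) hwne
      · exact h.ge)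
    exact (Subgroup.zpowers_le.mpr (Subgroup.mem_subgroupOf.mp hwc.1)) (hwz.ge hzZ)
  have hzJ : z ∈ J := hnorm J hJn fun h => by rw [h, Subgroup.card_bot] at hJcard; norm_num at hJcard
  -- a `t`-invariant complement of `z` in `J`
  obtain ⟨W, ⟨hWJ, hWz, hWt⟩, hmax⟩ := (Set.toFinite {U : Subgroup G | U ≤ J ∧ z ∉ U ∧ ∀ u ∈ U, t * u * t⁻¹ ∈ U}).exists_maximal
    ⟨⊥, bot_le, fun h => hzne (Subgroup.mem_bot.mp h), fun u hu => by rw [Subgroup.mem_bot.mp hu]; simp⟩
  have hJc : ∀ a ∈ J, ∀ b ∈ J, a * b = b * a := fun a ha b hb =>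
    congrArg Subtype.val (hJcomm.is_comm.comm (⟨a, ha⟩ : J) ⟨b, hb⟩)
  have hZW : J ≤ Subgroup.zpowers z ⊔ W := by
    intro j hj
    by_contra hjn
    have hjt : t * j * t⁻¹ ∈ J := hJn.conj_mem j hj t
    -- a fixed or inverted element outside
    obtain ⟨v, hvJ, hvn, hvt⟩ : ∃ v ∈ J, v ∉ Subgroup.zpowers z ⊔ W ∧ (t * v * t⁻¹ = v ∨ t * v * t⁻¹ = v⁻¹) := by
      have htt : t * (t * j * t⁻¹) * t⁻¹ = j := by
        rw [show t * (t * j * t⁻¹) * t⁻¹ = (t * t) * j * (t * t)⁻¹ by group, ← sq, ht2]; group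
      by_cases h1 : j * (t * j * t⁻¹) ∈ Subgroup.zpowers z ⊔ W
      · refine ⟨j * (t * j * t⁻¹)⁻¹, mul_mem hj (inv_mem hjt), fun h2 => hjn ?_, Or.inr ?_⟩
        · have h3 := mul_mem h1 h2
          have h4 : j * (t * j * t⁻¹) * (j * (t * j * t⁻¹)⁻¹) = j * j := by
            calc j * (t * j * t⁻¹) * (j * (t * j * t⁻¹)⁻¹) = j * ((t * j * t⁻¹) * j) * (t * j * t⁻¹)⁻¹ := by group
              _ = j * (j * (t * j * t⁻¹)) * (t * j * t⁻¹)⁻¹ := by rw [hJc _ hjt j hj]
              _ = j * j := by group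
          rw [h4] at h3
          have h5 : j = (j * j) * (j * j) := by
            rw [show j * j * (j * j) = j ^ 3 * j by simp only [← mul_assoc, pow_succ, pow_zero, one_mul], hJexp j hj, one_mul]
          rw [h5]
          exact mul_mem h3 h3
        · rw [show t * (j * (t * j * t⁻¹)⁻¹) * t⁻¹ = (t * j * t⁻¹) * (t * (t * j * t⁻¹) * t⁻¹)⁻¹ by group, htt]
          group
      · refine ⟨j * (t * j * t⁻¹), mul_mem hj hjt, h1, Or.inl ?_⟩
        rw [show t * (j * (t * j * t⁻¹)) * t⁻¹ = (t * j * t⁻¹) * (t * (t * j * t⁻¹) * t⁻¹) by group, htt, hJc _ hjt j hj]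
    have hvW : Subgroup.zpowers v ≤ Subgroup.normalizer (W : Set G) := by
      rw [Subgroup.zpowers_le, Subgroup.mem_normalizer_iff]
      intro u
      constructor
      · intro hu
        rwa [hJc v hvJ u (hWJ hu), mul_inv_cancel_right]
      · intro hu
        have h2 := hJc v hvJ _ (hWJ hu)
        have h3 : v * u * v⁻¹ = u := by
          calc v * u * v⁻¹ = v⁻¹ * (v * (v * u * v⁻¹)) := by group
            _ = v⁻¹ * (v * u * v⁻¹ * v) := by rw [h2]
            _ = u := by group
        rwa [h3] at hu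
    have hWlt : W < Subgroup.zpowers v ⊔ W := lt_of_le_of_ne le_sup_right fun h =>
      hvn (Subgroup.mem_sup_right (h.ge (Subgroup.mem_sup_left (Subgroup.mem_zpowers v))))
    refine hWlt.not_ge (hmax ⟨sup_le (Subgroup.zpowers_le.mpr hvJ) hWJ, ?_, ?_⟩ hWlt.le)
    · intro hzmem
      have hmem := hzmem
      rw [← SetLike.mem_coe, Subgroup.coe_mul_of_left_le_normalizer_right _ _ hvW, Set.mem_mul] at hmem
      obtain ⟨a, ha, u, hu, hau⟩ := hmem
      by_cases ha1 : a = 1
      · rw [ha1, one_mul] at hau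
        exact hWz (hau ▸ hu)
      refine hvn ?_
      have hav : Subgroup.zpowers a = Subgroup.zpowers v := Subgroup.eq_of_le_of_card_ge (Subgroup.zpowers_le.mpr ha) (by
        rw [Nat.card_zpowers, Nat.card_zpowers, orderOf_eq_prime (hJexp a (Subgroup.zpowers_le.mpr hvJ ha)) ha1]
        exact Nat.le_of_dvd (by norm_num) (orderOf_dvd_of_pow_eq_one (hJexp v hvJ)))
      refine (Subgroup.zpowers_le.mpr ?_) (hav.ge (Subgroup.mem_zpowers v))
      rw [show a = z * u⁻¹ by rw [← hau]; group]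
      exact Subgroup.mul_mem_sup (Subgroup.mem_zpowers z) (inv_mem hu)
    · intro u hu
      have hle : Subgroup.zpowers v ⊔ W ≤ (Subgroup.zpowers v ⊔ W).comap (MulAut.conj t).toMonoidHom := by
        refine sup_le (Subgroup.zpowers_le.mpr ?_) fun w hw => ?_
        · rw [Subgroup.mem_comap, MulEquiv.coe_toMonoidHom, MulAut.conj_apply]
          rcases hvt with h | h <;> rw [h]
          · exact Subgroup.mem_sup_left (Subgroup.mem_zpowers v)
          · exact Subgroup.mem_sup_left (inv_mem (Subgroup.mem_zpowers v))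
        · rw [Subgroup.mem_comap, MulEquiv.coe_toMonoidHom, MulAut.conj_apply]
          exact Subgroup.mem_sup_right (hWt w hw)
      exact hle hu
  have hWzn : Subgroup.zpowers z ≤ Subgroup.normalizer (W : Set G) := by
    rw [Subgroup.zpowers_le, Subgroup.mem_normalizer_iff]
    exact fun u => by rw [show z * u * z⁻¹ = u by rw [← hzG u, mul_inv_cancel_right]]
  have hWcard : Nat.card W = 9 := by
    have heq : Subgroup.zpowers z ⊔ W = J := le_antisymm (sup_le (Subgroup.zpowers_le.mpr hzJ) hWJ) hZW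
    have hdisj : Subgroup.zpowers z ⊓ W = ⊥ := by
      rw [eq_bot_iff]
      rintro a ⟨ha, haW⟩
      by_contra hne
      have hzz : Subgroup.zpowers a = Subgroup.zpowers z := Subgroup.eq_of_le_of_card_ge (Subgroup.zpowers_le.mpr ha) (by
        rw [Nat.card_zpowers, Nat.card_zpowers, hzo, orderOf_eq_prime (hJexp a (hWJ haW)) fun h => hne (h ▸ one_mem ⊥)])
      exact hWz ((Subgroup.zpowers_le.mpr haW) (hzz.ge (Subgroup.mem_zpowers z)))
    have hc : Nat.card ↥(Subgroup.zpowers z ⊔ W) = Nat.card ↥(Subgroup.zpowers z) * Nat.card W := by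
      rw [← Nat.card_prod]
      refine (Nat.card_eq_of_bijective (fun x : ↥(Subgroup.zpowers z) × ↥W =>
        (⟨(x.1 : G) * x.2, Subgroup.mul_mem_sup x.1.2 x.2.2⟩ : ↥(Subgroup.zpowers z ⊔ W))) ⟨?_, ?_⟩).symm
      · intro x y h
        exact Subgroup.mul_injective_of_disjoint (disjoint_iff.mpr hdisj) (congrArg Subtype.val h)
      · rintro ⟨g, hg⟩
        rw [← SetLike.mem_coe, Subgroup.coe_mul_of_left_le_normalizer_right _ _ hWzn, Set.mem_mul] at hg
        obtain ⟨a, ha, b, hb, rfl⟩ := hg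
        exact ⟨(⟨a, ha⟩, ⟨b, hb⟩), rfl⟩
    rw [heq, hJcard, Nat.card_zpowers, hzo] at hc
    omega
  set K := Subgroup.zpowers t ⊔ W with hK
  have htN : Subgroup.zpowers t ≤ Subgroup.normalizer (W : Set G) := by
    rw [Subgroup.zpowers_le, Subgroup.mem_normalizer_iff]
    refine fun u => ⟨hWt u, fun h => ?_⟩
    have h2 := hWt _ h
    rwa [show t * (t * u * t⁻¹) * t⁻¹ = (t * t) * u * (t * t)⁻¹ by group, ← sq, ht2, one_mul, inv_one, mul_one] at h2
  have hKset : (K : Set G) = (Subgroup.zpowers t : Set G) * (W : Set G) :=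
    Subgroup.coe_mul_of_left_le_normalizer_right _ _ htN
  have hdisj : Disjoint (Subgroup.zpowers t) W := Subgroup.disjoint_of_coprime_natCard (by
    rw [Nat.card_zpowers, orderOf_eq_prime ht2 htne, hWcard]; norm_num)
  have hKcard : Nat.card K = 18 := by
    have h : Nat.card K = Nat.card (↥(Subgroup.zpowers t) × ↥W) := by
      refine (Nat.card_eq_of_bijective (fun x : ↥(Subgroup.zpowers t) × ↥W =>
        (⟨(x.1 : G) * x.2, Subgroup.mul_mem_sup x.1.2 x.2.2⟩ : ↥K)) ⟨?_, ?_⟩).symm
      · intro x y h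
        exact Subgroup.mul_injective_of_disjoint hdisj (congrArg Subtype.val h)
      · rintro ⟨g, hg⟩
        rw [← SetLike.mem_coe, hKset, Set.mem_mul] at hg
        obtain ⟨a, ha, b, hb, rfl⟩ := hg
        exact ⟨(⟨a, ha⟩, ⟨b, hb⟩), rfl⟩
    rw [h, Nat.card_prod, Nat.card_zpowers, orderOf_eq_prime ht2 htne, hWcard]
  have hzK : z ∉ K := by
    intro h
    rw [← SetLike.mem_coe, hKset, Set.mem_mul] at h
    obtain ⟨a, ha, b, hb, hab⟩ := h
    have hb3 := hWJ hb
    have ha1 : a = 1 := by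
      by_contra hne
      refine htS ?_
      have hat : a = t := by
        obtain ⟨k, rfl⟩ := Subgroup.mem_zpowers_iff.mp ha
        rcases Int.even_or_odd k with ⟨m, rfl⟩ | ⟨m, rfl⟩
        · exact absurd (by rw [← two_mul, zpow_mul, zpow_two, ← sq, ht2, one_zpow]) hne
        · rw [zpow_add, zpow_mul, zpow_two, ← sq, ht2, one_zpow, one_mul, zpow_one]
      rw [← hat, show a = z * b⁻¹ by rw [← hab]; group]
      exact mul_mem hzS (inv_mem (hJS hb3))
    rw [ha1, one_mul] at hab
    exact hWz (hab ▸ hb)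
  let e : G ⧸ K ≃ Fin 9 := (Finite.equivFinOfCardEq (by
    rw [← Subgroup.index_eq_card]
    have := K.card_mul_index
    rw [hKcard, hG] at this
    omega : Nat.card (G ⧸ K) = 9))
  let φ : G →* Equiv.Perm (Fin 9) := e.permCongrHom.toMonoidHom.comp (MulAction.toPermHom G (G ⧸ K))
  have hφinj : Function.Injective φ := by
    rw [← MonoidHom.ker_eq_bot_iff]
    by_contra hker
    refine hzK (Subgroup.normalCore_le K ?_)
    rw [Subgroup.normalCore_eq_ker]
    have h := hnorm _ φ.normal_ker hker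
    exact e.permCongrHom.injective (by rw [map_one]; exact h)
  have hfix : ∀ i, φ z i ≠ i := by
    intro i h
    obtain ⟨g, hg⟩ := QuotientGroup.mk_surjective (e.symm i)
    have h2 : e (z • e.symm i) = i := h
    rw [← hg, MulAction.Quotient.smul_mk, ← e.eq_symm_apply, ← hg, QuotientGroup.eq, smul_eq_mul] at h2
    refine hzK ?_
    have h3 : (z * g)⁻¹ * g = z⁻¹ := by rw [← hzG g]; group
    rw [h3] at h2
    exact inv_mem_iff.mp h2
  obtain ⟨π, hπ⟩ := isConj_iff.mp (Equiv.Perm.isConj_iff_cycleType_eq.mpr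
    ((cycleType_of_pow_three (by rw [← map_pow, hz3, map_one]) hfix).trans cycleType_threeCycles.symm))
  let ψ : G →* Equiv.Perm (Fin 9) := (MulAut.conj π).toMonoidHom.comp φ
  have hψ : ∀ g, ψ g ∈ Subgroup.centralizer ({threeCycles} : Set (Equiv.Perm (Fin 9))) := by
    intro g x hx
    rw [Set.mem_singleton_iff.mp hx, ← hπ]
    show π * φ z * π⁻¹ * (π * φ g * π⁻¹) = π * φ g * π⁻¹ * (π * φ z * π⁻¹)
    rw [show π * φ z * π⁻¹ * (π * φ g * π⁻¹) = π * (φ z * φ g) * π⁻¹ by group, ← map_mul, ← hzG g, map_mul]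
    group
  refine ⟨MulEquiv.ofBijective (ψ.codRestrict _ hψ) ?_⟩
  have hinj : Function.Injective (ψ.codRestrict _ hψ) := fun a b h =>
    hφinj ((MulAut.conj π).injective (congrArg Subtype.val h))
  exact hinj.bijective_of_nat_card_le (le_of_eq (card_centralizer_threeCycles.trans hG.symm))

end Cfsg.Agent.S3376
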