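import Cfsg.Statements.S1250
import Cfsg.Agent.EqLemmas

set_option autoImplicit false
open Cfsg

namespace Cfsg.Agent.S1250

/-- Let S be a Sylow p-subgroup of the finite group G, A ≤ S strongly closed in S, and N a normal subgroup. Then the image of A in G ⧸ N is strongly closed in the image of S (which is a Sylow p-subgroup of G ⧸ N). -/
theorem result {G : Type*} [Group G] [Finite G] {p : ℕ} [Fact p.Prime] (S : Sylow p G) (A : Subgroup G) (hA : Cfsg.IsStronglyClosed A (S : Subgroup G)) (N : Subgroup G) [N.Normal] : Cfsg.IsStronglyClosed (A.map (QuotientGroup.mk' N)) ((S : Subgroup G).map (QuotientGroup.mk' N)) := by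
  refine ⟨Subgroup.map_mono hA.1, ?_⟩
  rintro _ ⟨a, ha, rfl⟩ gbar hg
  obtain ⟨g, rfl⟩ := QuotientGroup.mk'_surjective N gbar
  obtain ⟨s, hs, hsg⟩ := hg
  let y : G := g * a * g⁻¹
  let M : Subgroup G := (S : Subgroup G) ⊔ N
  have hyM : y ∈ M := by
    have hmem : s⁻¹ * y ∈ N := by
      rw [← QuotientGroup.eq_one_iff (N := N)]
      have := congrArg (fun t => (QuotientGroup.mk' N s)⁻¹ * t) hsg
      simp only [inv_mul_cancel] at this
      simpa [y] using this.symm
    have h2 := M.mul_mem (Subgroup.mem_sup_left hs) (Subgroup.mem_sup_right hmem)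
    simpa using h2
  have hyp : IsPGroup p (Subgroup.zpowers y) := by
    obtain ⟨k, hk⟩ := S.isPGroup' ⟨a, hA.1 ha⟩
    have hyk : y ^ p ^ k = 1 := by
      have hak : a ^ p ^ k = 1 := congrArg Subtype.val hk
      simp [y, conj_pow, hak]
    rintro ⟨z, hz⟩
    obtain ⟨j, rfl⟩ := Subgroup.mem_zpowers_iff.mp hz
    exact ⟨k, Subtype.ext (by
      simp only [SubmonoidClass.coe_pow, OneMemClass.coe_one]
      rw [← zpow_natCast, ← zpow_mul, mul_comm, zpow_mul, zpow_natCast, hyk, one_zpow])⟩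
  obtain ⟨R, hR⟩ := (hyp.comap_subtype (K := M)).exists_le_sylow
  obtain ⟨m, hm⟩ := MulAction.exists_smul_eq M R (S.subtype (le_sup_left : (S : Subgroup G) ≤ M))
  have hmy : (m : G) * y * (m : G)⁻¹ ∈ (S : Subgroup G) := by
    have h1 : (⟨y, hyM⟩ : M) ∈ (R : Subgroup M) := hR (Subgroup.mem_zpowers y)
    have h2 : MulAut.conj m (⟨y, hyM⟩ : M) ∈
        ((S.subtype (le_sup_left : (S : Subgroup G) ≤ M) : Sylow p M) : Subgroup M) := by
      rw [← hm, Sylow.coe_subgroup_smul]
      exact Subgroup.smul_mem_pointwise_smul _ _ _ h1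
    rw [Sylow.coe_subtype, Subgroup.mem_subgroupOf] at h2
    simpa using h2
  obtain ⟨u, hu, n, hn, hun⟩ := Subgroup.mem_sup_of_normal_right.mp m.2
  have hny : n * y * n⁻¹ ∈ (S : Subgroup G) := by
    rw [← hun] at hmy
    have := (S : Subgroup G).mul_mem ((S : Subgroup G).mul_mem ((S : Subgroup G).inv_mem hu) hmy) hu
    simpa [mul_assoc] using this
  refine ⟨n * y * n⁻¹, ?_, ?_⟩
  · have := hA.2 a ha (n * g) (by simpa [y, mul_assoc] using hny)
    simpa [y, mul_assoc] using this
  · have hn1 : QuotientGroup.mk' N n = 1 := (QuotientGroup.eq_one_iff n).mpr hn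
    simp [map_mul, map_inv, hn1, y]

end Cfsg.Agent.S1250
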