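import Cfsg.Agent.Lib.PLocal.Omega

set_option autoImplicit false
open Cfsg

namespace Cfsg.Agent.S0602

/-- The Thompson subgroup is characteristic, and nontrivial as soon as p divides the group order. -/
theorem result {G : Type*} [Group G] [Finite G] {p : ℕ} [Fact p.Prime] : (Cfsg.thompsonSubgroup p G).Characteristic ∧ (p ∣ Nat.card G → Cfsg.thompsonSubgroup p G ≠ ⊥) := by
  refine ⟨PLocal.thompsonSubgroup_characteristic, fun hp e => ?_⟩
  obtain ⟨A, hA⟩ := PLocal.exists_maxIn (Q := PLocal.elemAb p) PLocal.elemAb_bot (⊤ : Subgroup G)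
  have hle : A ≤ ⊥ := e ▸ PLocal.thompsonSubgroup_eq (p := p) (G := G) ▸ le_sSup hA
  obtain ⟨x, hx⟩ := exists_prime_orderOf_dvd_card' p hp
  have hxA : x ∈ A := PLocal.mem_of_centralizes hA (Subgroup.mem_top x) (hx ▸ pow_orderOf_eq_one x)
    (Subgroup.mem_centralizer_iff.2 fun h hh => by simp [Subgroup.mem_bot.1 (hle hh)])
  rw [Subgroup.mem_bot.1 (hle hxA), orderOf_one] at hx
  exact (Fact.out : p.Prime).one_lt.ne hx

end Cfsg.Agent.S0602
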