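import Cfsg.Statements.S4250
import Cfsg.Agent.Lib.Fusion.TameChain
import Cfsg.Agent.Lib.Transfer.Focal

set_option autoImplicit false
open Cfsg
open scoped commutatorElement

namespace Cfsg.Agent.S4250

open TameChain

variable {G : Type*} [Group G] [Finite G] {p : ℕ} [Fact p.Prime]

theorem chain_focal (P : Sylow p G) (Φ : Subgroup G) (k : ℕ)
    (hstep : ∀ Q : Sylow p G, IsTame P Q → k ≤ Nat.card ((P : Subgroup G) ⊓ (Q : Subgroup G) : Subgroup G) →
      ∀ x ∈ interNormalizer P Q, ∀ a ∈ (P : Subgroup G) ⊓ (Q : Subgroup G), a⁻¹ * x⁻¹ * a * x ∈ Φ) :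
    ∀ (A : Set G) (g : G), Chain P A g → k ≤ Nat.card A → ∀ a ∈ A, a⁻¹ * g⁻¹ * a * g ∈ Φ := by
  intro A g h
  induction h with
  | nil A => intro _ a _; simp
  | cons A Q x g hx ht hA _ ih =>
    intro hk a ha
    have hc : Nat.card (conjSet x A) = Nat.card A :=
      Nat.card_image_of_injective (fun u v (huv : x⁻¹ * u * x = x⁻¹ * v * x) => by simpa using huv) A
    have hle : Nat.card A ≤ Nat.card ((P : Subgroup G) ⊓ (Q : Subgroup G) : Subgroup G) :=
      Nat.card_mono (Set.toFinite _) hA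
    have h1 := hstep Q ht (hk.trans hle) x hx a (hA ha)
    have h2 := ih (hc ▸ hk) (x⁻¹ * a * x) ⟨a, ha, rfl⟩
    have := mul_mem h1 h2
    simpa [mul_assoc] using this

/-- Every element of the normaliser of a tame intersection moves it inside the focal generators. -/
theorem step_focal (P : Sylow p G) (Φ : Subgroup G)
    (hNP : ⁅(P : Subgroup G), Subgroup.normalizer ((P : Subgroup G) : Set G)⁆ ≤ Φ)
    (hp : ∀ Q : Sylow p G, IsTame P Q → ∀ x ∈ interNormalizer P Q, (∃ k : ℕ, orderOf x = p ^ k) →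
      ⁅(P : Subgroup G) ⊓ (Q : Subgroup G), Subgroup.zpowers x⁆ ≤ Φ) :
    ∀ (c : ℕ) (Q : Sylow p G), IsTame P Q →
      Nat.card (P : Subgroup G) - Nat.card ((P : Subgroup G) ⊓ (Q : Subgroup G) : Subgroup G) = c →
      ∀ x ∈ interNormalizer P Q, ∀ a ∈ (P : Subgroup G) ⊓ (Q : Subgroup G), a⁻¹ * x⁻¹ * a * x ∈ Φ := by
  intro c
  induction c using Nat.strong_induction_on with
  | _ c ih =>
    intro Q ht hc
    set D := (P : Subgroup G) ⊓ (Q : Subgroup G) with hD
    have hconv : ∀ a x : G, a⁻¹ * x⁻¹ * a * x = ⁅a⁻¹, x⁻¹⁆ := fun a x => by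
      rw [commutatorElement_def, inv_inv, inv_inv]
    by_cases hDP : D = (P : Subgroup G)
    · intro x hx a ha
      rw [hconv]
      refine hNP (Subgroup.commutator_mem_commutator (inv_mem (hDP ▸ ha : a ∈ (P : Subgroup G))) (inv_mem ?_))
      rw [interNormalizer, ← hD, hDP] at hx
      exact hx
    set N := interNormalizer P Q with hN
    have hconj : ∀ x ∈ N, ∀ a ∈ D, x⁻¹ * a * x ∈ D := fun x hx a ha =>
      (Subgroup.mem_normalizer_iff''.mp hx a).mp ha
    let K : Subgroup G :=
      { carrier := {x | x ∈ N ∧ ∀ a ∈ D, a⁻¹ * x⁻¹ * a * x ∈ Φ}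
        one_mem' := ⟨one_mem N, fun a _ => by simp⟩
        mul_mem' := fun {x y} hx hy => ⟨mul_mem hx.1 hy.1, fun a ha => by
          have := mul_mem (hx.2 a ha) (hy.2 _ (hconj x hx.1 a ha))
          simpa [mul_assoc] using this⟩
        inv_mem' := fun {x} hx => ⟨inv_mem hx.1, fun a ha => by
          have ha' : x * a * x⁻¹ ∈ D := by simpa using hconj x⁻¹ (inv_mem hx.1) a ha
          have := inv_mem (hx.2 _ ha')
          simpa [mul_assoc] using this⟩ }
    suffices hK : N ≤ K from fun x hx => (hK hx).2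
    set S := (P : Subgroup G) ⊓ N with hS
    have hDS : D < S := lt_normalizer P.isPGroup' (lt_of_le_of_ne inf_le_left hDP)
    -- the `p`-elements of `N`
    let O : Subgroup N := Subgroup.closure {x : N | ∃ k : ℕ, orderOf x = p ^ k}
    haveI : O.Normal := ⟨fun n hn y => by
      have h : O ≤ O.comap (MulAut.conj y).toMonoidHom := (Subgroup.closure_le _).mpr fun x ⟨k, hk⟩ =>
        Subgroup.subset_closure ⟨k, ((MulAut.conj y).orderOf_eq x).trans hk⟩
      exact h hn⟩
    have hOK : O ≤ K.comap N.subtype := (Subgroup.closure_le _).mpr fun x ⟨k, hk⟩ => ⟨x.2, fun a ha => by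
      rw [hconv]
      exact hp Q ht x x.2 ⟨k, by rw [Subgroup.orderOf_coe]; exact hk⟩
        (Subgroup.commutator_mem_commutator (inv_mem ha) (inv_mem (Subgroup.mem_zpowers _)))⟩
    have hidx : ¬ p ∣ (S.subgroupOf N).index := ht.1
    let T : Sylow p N := IsPGroup.toSylow ((P.isPGroup'.to_le inf_le_left).comap_subtype (K := N)) hidx
    have hTO : (T : Subgroup N) ≤ O := fun x hx => Subgroup.subset_closure (IsPGroup.iff_orderOf.mp T.isPGroup' ⟨x, hx⟩ |>.imp
      fun k hk => by rwa [Subgroup.orderOf_mk] at hk)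
    have hsup := Sylow.normalizer_sup_eq_top (T.subtype hTO)
    have hT : ((T.subtype hTO : Sylow p O) : Subgroup O).map O.subtype = (T : Subgroup N) :=
      Subgroup.map_subgroupOf_eq_of_le hTO
    rw [hT] at hsup
    intro x hx
    have hmem : (⟨x, hx⟩ : N) ∈ K.comap N.subtype := by
      refine (sup_le ?_ hOK : _ ≤ K.comap N.subtype) (hsup ▸ Subgroup.mem_top _)
      intro m hm
      refine ⟨m.2, fun a ha => ?_⟩
      have hsub : conjSet (m : G) (S : Set G) ⊆ ((P : Subgroup G) : Set G) := by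
        rintro _ ⟨b, hb, rfl⟩
        exact ((Subgroup.mem_normalizer_iff''.mp hm ⟨b, hb.2⟩).mp (show (⟨b, hb.2⟩ : N) ∈ (T : Subgroup N) from hb)).1
      refine chain_focal P Φ (Nat.card S) (fun Q' ht' hk' => ?_) _ _
        (exists_chain P (SetLike.coe_subset_coe.mpr inf_le_left) hsub) le_rfl a (hDS.le ha)
      refine ih _ ?_ Q' ht' rfl
      have h1 : Nat.card D < Nat.card S := lt_of_le_of_ne (Subgroup.card_le_of_le hDS.le)
        fun he => hDS.ne (Subgroup.eq_of_le_of_card_ge hDS.le he.ge)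
      have h2 := Subgroup.card_le_of_le (inf_le_left : (P : Subgroup G) ⊓ (Q' : Subgroup G) ≤ P)
      omega
    exact hmem

/-- Let P be a Sylow p-subgroup of a finite group G. Call an intersection H = P ∩ Q with a Sylow p-subgroup Q tame when N_P(H) and N_Q(H) are Sylow p-subgroups of N_G(H). Then P ∩ G′ is generated by [P, N_G(P)] together with the commutator subgroups [P ∩ Q, ⟨x⟩] for all tame intersections P ∩ Q and all p-elements x of N_G(P ∩ Q). -/
theorem result {G : Type*} [Group G] [Finite G] (p : ℕ) [Fact p.Prime] (P : Sylow p G) :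
    (P : Subgroup G) ⊓ commutator G =
      ⁅(P : Subgroup G), Subgroup.normalizer ((P : Subgroup G) : Set G)⁆ ⊔
        ⨆ (Q : Sylow p G) (_ : (¬ p ∣ ((P : Subgroup G) ⊓ Subgroup.normalizer (((P : Subgroup G) ⊓ (Q : Subgroup G) : Subgroup G) : Set G)).relIndex (Subgroup.normalizer (((P : Subgroup G) ⊓ (Q : Subgroup G) : Subgroup G) : Set G)) ∧ ¬ p ∣ ((Q : Subgroup G) ⊓ Subgroup.normalizer (((P : Subgroup G) ⊓ (Q : Subgroup G) : Subgroup G) : Set G)).relIndex (Subgroup.normalizer (((P : Subgroup G) ⊓ (Q : Subgroup G) : Subgroup G) : Set G))))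
          (x : G) (_ : x ∈ Subgroup.normalizer (((P : Subgroup G) ⊓ (Q : Subgroup G) : Subgroup G) : Set G) ∧ ∃ k : ℕ, orderOf x = p ^ k),
          ⁅(P : Subgroup G) ⊓ (Q : Subgroup G), Subgroup.zpowers x⁆ := by
  refine le_antisymm ?_ (sup_le ?_ (iSup_le fun Q => iSup_le fun _ => iSup_le fun x => iSup_le fun hx => ?_))
  · rw [inf_comm, ← Transfer.focalSubgroup_eq_of_coprime _ (Transfer.coprime_index_relIndex_sylow P),
      Subgroup.focalSubgroup_def, Subgroup.closure_le]
    rintro _ ⟨hgP, a, ha, u, rfl⟩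
    have hu : u * a⁻¹ * u⁻¹ ∈ (P : Subgroup G) := by
      have := mul_mem (inv_mem ha) hgP
      simpa [commutatorElement_def, mul_assoc] using this
    set Φ := ⁅(P : Subgroup G), Subgroup.normalizer ((P : Subgroup G) : Set G)⁆ ⊔ _ with hΦ
    have hsub : ({a⁻¹} : Set G) ⊆ ((P : Subgroup G) : Set G) := Set.singleton_subset_iff.mpr (inv_mem ha)
    have hch := TameChain.exists_chain P (g := u⁻¹) hsub (by
      simp only [TameChain.conjSet, Set.image_singleton, Set.singleton_subset_iff, inv_inv]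
      exact hu)
    have := chain_focal P Φ 0 (fun Q ht _ => step_focal P Φ le_sup_left (fun Q ht x hx hk => ?_) _ Q ht rfl)
      _ _ hch (Nat.zero_le _) a⁻¹ rfl
    · simpa [commutatorElement_def, mul_assoc] using this
    · exact le_sup_of_le_right (le_iSup_of_le Q (le_iSup_of_le ht (le_iSup_of_le x (le_iSup_of_le ⟨hx, hk⟩ le_rfl))))
  · refine le_inf (Subgroup.le_normalizer_iff_commutator_le_left.mp le_rfl) ?_
    exact Subgroup.commutator_mono le_top le_top
  · refine le_inf ((Subgroup.le_normalizer_iff_commutator_le_left.mp (Subgroup.zpowers_le.mpr hx.1)).trans inf_le_left) ?_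
    exact Subgroup.commutator_mono le_top le_top

end Cfsg.Agent.S4250
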