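import Cfsg.Statements.S1009
import Cfsg.Agent.Lib.SmallOrders.Basic

set_option autoImplicit false
open Cfsg

namespace Cfsg.Agent.S1009

/-- Brodkey's Theorem: if a finite group has abelian Sylow p-subgroups, then there are two Sylow p-subgroups whose intersection equals the intersection of all Sylow p-subgroups. -/
theorem result {G : Type*} [Group G] [Finite G] (p : ℕ) [Fact p.Prime] (hab : ∀ P : Sylow p G, IsMulCommutative ↥(P : Subgroup G)) : ∃ P Q : Sylow p G, (P : Subgroup G) ⊓ (Q : Subgroup G) = ⨅ R : Sylow p G, (R : Subgroup G) := by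
  classical
  have : Finite (Sylow p G × Sylow p G) := inferInstance
  obtain ⟨⟨P, Q⟩, hmin⟩ := Finite.exists_min
    (fun x : Sylow p G × Sylow p G => Nat.card ↥((x.1 : Subgroup G) ⊓ (x.2 : Subgroup G)))
  refine ⟨P, Q, le_antisymm (le_iInf fun R => ?_) (le_inf (iInf_le _ P) (iInf_le _ Q))⟩
  set I := (P : Subgroup G) ⊓ (Q : Subgroup G)
  set N := Subgroup.centralizer (I : Set G) with hNdef
  have hle : ∀ S : Sylow p G, I ≤ S → (S : Subgroup G) ≤ N := fun S hS x hx y hy => by
    have := hab S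
    exact congrArg Subtype.val (mul_comm' (⟨y, hS hy⟩ : (S : Subgroup G)) ⟨x, hx⟩)
  obtain ⟨S, hS⟩ := (R.isPGroup'.comap_subtype (K := N)).exists_le_sylow
  obtain ⟨n, hn⟩ := MulAction.exists_smul_eq N S (Q.subtype (hle Q inf_le_right))
  -- a conjugate of `R` by an element centralising `I`
  have key : (P : Subgroup G) ⊓ ((n : G) • R : Sylow p G) ≤ I := by
    intro x hx
    refine ⟨hx.1, ?_⟩
    have hxR : x ∈ ((((n : G) • R : Sylow p G)) : Subgroup G) := hx.2
    rw [Sylow.coe_subgroup_smul, Subgroup.mem_pointwise_smul_iff_inv_smul_mem] at hxR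
    have hxN : x ∈ N := hle P inf_le_left hx.1
    have hmem : n⁻¹ * ⟨x, hxN⟩ * n ∈ (S : Subgroup N) := hS (by
      simpa [Subgroup.mem_subgroupOf, MulAut.smul_def] using hxR)
    have : (⟨x, hxN⟩ : N) ∈ ((n • S : Sylow p N) : Subgroup N) := by
      rw [Sylow.coe_subgroup_smul, Subgroup.mem_pointwise_smul_iff_inv_smul_mem]
      simpa [MulAut.smul_def] using hmem
    rw [hn] at this
    exact this
  have heq := Subgroup.eq_of_le_of_card_ge key (hmin (P, (n : G) • R))
  intro x hx
  have hxR : x ∈ ((((n : G) • R : Sylow p G)) : Subgroup G) := (heq.ge hx).2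
  rw [Sylow.coe_subgroup_smul, Subgroup.mem_pointwise_smul_iff_inv_smul_mem] at hxR
  have hc : x * (n : G) = (n : G) * x := Subgroup.mem_centralizer_iff.mp n.2 x hx
  have hcx : (n : G)⁻¹ * x * (n : G) = x := by rw [mul_assoc, hc, inv_mul_cancel_left]
  simpa [MulAut.smul_def, hcx] using hxR

end Cfsg.Agent.S1009
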