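import Cfsg.Statements.S0898
import Cfsg.Agent.Lib.Char.Linear
import Cfsg.Agent.Lib.CharApp.Schur

set_option autoImplicit false
open Cfsg

namespace Cfsg.Agent.S0898

open Cfsg Cfsg.Agent.Char
open scoped ComplexConjugate

/-- Averaging an irreducible character over a normal subgroup gives itself or zero. -/
lemma avg_irr {N : Type*} [Group N] (K : Subgroup N) [K.Normal] [Fintype K] {φ : N → ℂ}
    (hφ : IsIrrCharacter N φ) :
    (∀ n, (Nat.card K : ℂ)⁻¹ * ∑ k : K, φ (n * k) = φ n) ∨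
      ∀ n, (Nat.card K : ℂ)⁻¹ * ∑ k : K, φ (n * k) = 0 := by
  obtain ⟨d, ρ, hρ, rfl⟩ := hφ
  haveI := hρ
  set P : Module.End ℂ (Fin d → ℂ) := (Nat.card K : ℂ)⁻¹ • ∑ k : K, ρ k with hP
  have htr : ∀ n, (Nat.card K : ℂ)⁻¹ * ∑ k : K, ρ.character (n * k) = LinearMap.trace ℂ _ (ρ n * P) := by
    intro n
    rw [hP, mul_smul_comm, map_smul, smul_eq_mul]
    congr 1
    rw [Finset.mul_sum, map_sum]
    exact Finset.sum_congr rfl fun k _ => by rw [← map_mul]; rfl
  have hcomm : ∀ n, P * ρ n = ρ n * P := by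
    intro n
    rw [hP, smul_mul_assoc, mul_smul_comm, Finset.sum_mul, Finset.mul_sum]
    congr 1
    refine Fintype.sum_equiv (MulAut.conjNormal n⁻¹ : MulAut K).toEquiv _ _ fun k => ?_
    rw [← map_mul, ← map_mul]
    congr 1
    simp [mul_assoc]
  obtain ⟨a, ha⟩ := CharApp.exists_scalar_of_commute ρ P hcomm
  have hPP : P * P = P := by
    have hk : ∀ k : K, ρ (k : N) * P = P := by
      intro k
      rw [hP, mul_smul_comm, Finset.mul_sum]
      congr 1
      refine Fintype.sum_equiv (Equiv.mulLeft k) _ _ fun k' => ?_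
      rw [← map_mul]; rfl
    conv_lhs => rw [hP, smul_mul_assoc, Finset.sum_mul]
    rw [Finset.sum_congr rfl fun k _ => hk k, Finset.sum_const, Finset.card_univ,
      ← Nat.cast_smul_eq_nsmul ℂ, smul_smul, ← Nat.card_eq_fintype_card,
      inv_mul_cancel₀ (Nat.cast_ne_zero.mpr Nat.card_pos.ne'), one_smul]
  have hn : (1 : Module.End ℂ (Fin d → ℂ)) ≠ 0 := by
    have : Nontrivial (Fin d → ℂ) := CharApp.nontrivial_of_irr ρ
    exact one_ne_zero
  rw [ha, smul_mul_smul_comm, mul_one] at hPP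
  rcases eq_or_ne a 0 with h0 | h0
  · right; intro n; rw [htr, ha, h0, zero_smul, mul_zero, map_zero]
  · left
    have : a = 1 := mul_left_cancel₀ h0 ((smul_left_injective ℂ hn hPP).trans (mul_one a).symm)
    intro n; rw [htr, ha, this, one_smul, mul_one]; rfl

variable {G : Type*} [Group G] [Fintype G]

/-- The averaged function. -/
noncomputable def avg (H : Subgroup G) [Fintype H] (χ : G → ℂ) (g : G) : ℂ :=
  (Nat.card H : ℂ)⁻¹ * ∑ h : H, χ (g * h)

lemma avg_mul_right (H : Subgroup G) [Fintype H] (χ : G → ℂ) (g : G) (h : H) :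
    avg H χ (g * h) = avg H χ g := by
  unfold avg
  congr 1
  exact Fintype.sum_equiv (Equiv.mulLeft h) _ _ fun k => by simp [mul_assoc]

open Classical in
/-- First inequality. -/
theorem degree_bound (H : Subgroup G) [Fintype H] (hab : ∀ a ∈ H, ∀ b ∈ H, a * b = b * a)
    (hZ : H ⊓ Subgroup.center G = ⊥)
    (hone : ∀ g : G, g ∉ Subgroup.center G → ∀ a b : G,
      Subgroup.centralizer ({g} : Set G) ⊓ H.map (MulAut.conj a).toMonoidHom ≠ ⊥ →
      Subgroup.centralizer ({g} : Set G) ⊓ H.map (MulAut.conj b).toMonoidHom ≠ ⊥ →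
      H.map (MulAut.conj a).toMonoidHom = H.map (MulAut.conj b).toMonoidHom)
    (χ : G → ℂ) (hχ : IsIrrCharacter G χ) (hker : ∃ h ∈ H, χ h ≠ χ 1) (d c : ℕ) (hd : χ 1 = d)
    (hc : classInner (fun h : H => χ h) (fun _ => 1) = c) :
    (Nat.card H : ℝ) * (c : ℝ) ^ 2 < (d : ℝ) ^ 2 := by
  have hcl := IsIrrCharacter.isClassFunction hχ
  obtain ⟨h₀, hh₀, hh₀'⟩ := hker
  have hh₀1 : h₀ ≠ 1 := fun h => hh₀' (by rw [h])
  set N := Subgroup.normalizer (H : Set G) with hN
  set Γ : Finset G := Finset.univ.filter (fun g => g ∈ N ∧ ∃ h ∈ H, h ≠ 1 ∧ g * h = h * g) with hΓ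
  set Zf : Finset G := Finset.univ.filter (fun g => g ∈ Subgroup.center G) with hZf
  have hZΓ : Zf ⊆ Γ := by
    intro z hz
    simp only [hZf, Finset.mem_filter, Finset.mem_univ, true_and] at hz
    simp only [hΓ, Finset.mem_filter, Finset.mem_univ, true_and]
    refine ⟨Subgroup.mem_normalizer_iff.mpr fun x => ?_, h₀, hh₀, hh₀1, (Subgroup.mem_center_iff.mp hz h₀).symm⟩
    rw [← Subgroup.mem_center_iff.mp hz x, mul_inv_cancel_right]
  -- central values
  obtain ⟨n, ρ, hρ, hρχ⟩ := hχ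
  haveI := hρ
  have hnd : n = d := by
    rw [← hρχ, Representation.char_one, Module.finrank_fin_fun] at hd
    exact_mod_cast hd
  subst hnd
  have hd0 : 0 < n := by
    have := CharApp.finrank_pos_of_irr ρ
    rwa [Module.finrank_fin_fun] at this
  have hcent : ∀ z ∈ Zf, ∃ a : ℂ, ‖a‖ = 1 ∧ ∀ g : G, χ (z * g) = a * χ g := by
    intro z hz
    simp only [hZf, Finset.mem_filter, Finset.mem_univ, true_and] at hz
    obtain ⟨a, ha⟩ := CharApp.exists_scalar_of_mem_center ρ hz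
    have hnorm : ‖ρ.character z‖ = (Module.finrank ℂ (Fin n → ℂ) : ℝ) :=
      (norm_character_eq_iff ρ z).mpr ⟨a, ha⟩
    refine ⟨a, ?_, fun g => ?_⟩
    · have : ρ.character z = a * n := by
        show LinearMap.trace ℂ _ (ρ z) = _
        rw [ha, map_smul, LinearMap.trace_one, Module.finrank_fin_fun, smul_eq_mul]
      rw [this, norm_mul, Complex.norm_natCast, Module.finrank_fin_fun] at hnorm
      exact (mul_eq_right₀ (Nat.cast_ne_zero.mpr hd0.ne')).mp hnorm
    · rw [← hρχ]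
      show LinearMap.trace ℂ _ (ρ (z * g)) = a * LinearMap.trace ℂ _ (ρ g)
      rw [map_mul, ha, smul_mul_assoc, one_mul, map_smul, smul_eq_mul]
  have hirr : IsIrrCharacter G χ := ⟨n, ρ, hρ, hρχ⟩
  have hZsum : ∑ z ∈ Zf, ‖χ z‖ ^ 2 = (Zf.card : ℝ) * (n : ℝ) ^ 2 := by
    rw [Finset.sum_congr rfl (g := fun _ => (n : ℝ) ^ 2) fun z hz => ?_, Finset.sum_const, nsmul_eq_mul]
    obtain ⟨a, ha, ha'⟩ := hcent z hz
    have := ha' 1
    rw [mul_one, hd] at this
    rw [this, norm_mul, ha, one_mul, Complex.norm_natCast]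
  -- total mass
  have htot : ∑ g : G, ‖χ g‖ ^ 2 = (Nat.card G : ℝ) := by
    have h := classInner_irr_self hirr
    rw [classInner_self_eq, Complex.ofReal_eq_one, inv_mul_eq_one₀ (Nat.cast_ne_zero.mpr Nat.card_pos.ne')] at h
    exact h.symm
  -- the disjointness estimate
  set S := Γ \ Zf with hS
  set T := ∑ g ∈ S, ‖χ g‖ ^ 2 with hT
  have hB : (Nat.card G : ℝ) * T ≤ (Nat.card N : ℝ) * ((Nat.card G : ℝ) - (Zf.card : ℝ) * (n : ℝ) ^ 2) := by
    have h1 : ∀ x : G, T = ∑ g : G, if x⁻¹ * g * x ∈ S then ‖χ g‖ ^ 2 else 0 := by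
      intro x
      rw [hT, ← Finset.sum_filter]
      refine Finset.sum_equiv (MulAut.conj x).toEquiv (fun g => ?_) (fun g _ => ?_)
      · simp [mul_assoc]
      · show ‖χ g‖ ^ 2 = ‖χ (x * g * x⁻¹)‖ ^ 2
        rw [hcl g x]
    have h2 : (Nat.card G : ℝ) * T = ∑ g : G, ((Finset.univ.filter fun x : G => x⁻¹ * g * x ∈ S).card : ℝ) * ‖χ g‖ ^ 2 := by
      rw [Nat.card_eq_fintype_card, ← nsmul_eq_mul, ← Finset.card_univ, ← Finset.sum_const,
        Finset.sum_congr rfl fun x _ => h1 x, Finset.sum_comm]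
      refine Finset.sum_congr rfl fun g _ => ?_
      rw [← Finset.sum_filter, Finset.sum_const, nsmul_eq_mul]
    rw [h2, show (Nat.card G : ℝ) - (Zf.card : ℝ) * (n : ℝ) ^ 2 = ∑ g ∈ Zfᶜ, ‖χ g‖ ^ 2 by
      rw [← htot, ← hZsum, ← Finset.sum_compl_add_sum Zf, add_sub_cancel_right], Finset.mul_sum,
      ← Finset.sum_compl_add_sum Zf]
    have hz0 : ∑ g ∈ Zf, ((Finset.univ.filter fun x : G => x⁻¹ * g * x ∈ S).card : ℝ) * ‖χ g‖ ^ 2 = 0 := by
      refine Finset.sum_eq_zero fun g hg => ?_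
      rw [Finset.filter_false_of_mem fun x _ hx => ?_]
      · simp
      · have hgz : g ∈ Subgroup.center G := by simpa [hZf] using hg
        rw [show x⁻¹ * g * x = g by rw [mul_assoc, ← Subgroup.mem_center_iff.mp hgz x, inv_mul_cancel_left]] at hx
        exact (Finset.mem_sdiff.mp hx).2 hg
    rw [hz0, add_zero]
    refine Finset.sum_le_sum fun g _ => mul_le_mul_of_nonneg_right ?_ (sq_nonneg _)
    rw [Nat.cast_le, Nat.card_eq_fintype_card, Fintype.card_subtype]
    rcases (Finset.univ.filter fun x : G => x⁻¹ * g * x ∈ S).eq_empty_or_nonempty with h | ⟨x₀, hx₀⟩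
    · simp [h]
    refine Finset.card_le_card_of_injOn (fun x => x₀⁻¹ * x) ?_ (fun x _ y _ e => mul_left_cancel e)
    intro x hx
    simp only [Finset.mem_coe, Finset.mem_filter, Finset.mem_univ, true_and, hS, Finset.mem_sdiff, hΓ, hZf] at hx hx₀ ⊢
    obtain ⟨⟨-, k, hk, hk1, hgk⟩, -⟩ := hx
    obtain ⟨⟨-, k₀, hk₀, hk₀1, hgk₀⟩, hnz⟩ := hx₀
    set g' := x₀⁻¹ * g * x₀ with hg'
    set y := x₀⁻¹ * x with hy
    have e1 : Subgroup.centralizer ({g'} : Set G) ⊓ H.map (MulAut.conj (1 : G)).toMonoidHom ≠ ⊥ := by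
      intro h
      refine hk₀1 ((Subgroup.eq_bot_iff_forall _).mp h k₀ ⟨Subgroup.mem_centralizer_singleton_iff.mpr hgk₀.symm, k₀, hk₀, by simp⟩)
    have e2 : Subgroup.centralizer ({g'} : Set G) ⊓ H.map (MulAut.conj y).toMonoidHom ≠ ⊥ := by
      intro h
      have hmem : y * k * y⁻¹ ∈ Subgroup.centralizer ({g'} : Set G) := by
        rw [Subgroup.mem_centralizer_singleton_iff,
          show g' = y * (x⁻¹ * g * x) * y⁻¹ by rw [hg', hy]; group]
        calc y * k * y⁻¹ * (y * (x⁻¹ * g * x) * y⁻¹) = y * (k * (x⁻¹ * g * x)) * y⁻¹ := by group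
          _ = y * ((x⁻¹ * g * x) * k) * y⁻¹ := by rw [← hgk]
          _ = _ := by group
      have h0 := (Subgroup.eq_bot_iff_forall _).mp h _ ⟨hmem, k, hk, rfl⟩
      exact hk1 (by simpa using h0)
    have hmap : H.map (MulAut.conj y).toMonoidHom = H := by
      rw [← hone g' hnz 1 y e1 e2]
      ext u; simp
    rw [hN, Subgroup.mem_normalizer_iff]
    intro u
    conv_rhs => rw [← hmap]
    exact ⟨fun hu => ⟨u, hu, rfl⟩, fun ⟨v, hv, hvu⟩ => by
      have : v = u := (MulAut.conj y).injective hvu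
      exact this ▸ hv⟩
  -- properties of the average
  set χ₀ := avg H χ with hχ₀
  have hΓmul : ∀ g ∈ Γ, ∀ h : H, g * h ∈ Γ := by
    intro g hg h
    simp only [hΓ, Finset.mem_filter, Finset.mem_univ, true_and] at hg ⊢
    obtain ⟨hgN, k, hk, hk1, hgk⟩ := hg
    refine ⟨mul_mem hgN (Subgroup.le_normalizer h.2), k, hk, hk1, ?_⟩
    rw [mul_assoc, hab _ h.2 _ hk, ← mul_assoc, hgk, mul_assoc]
  have hbad : ∀ g ∈ N, g ∉ Γ → χ₀ g = χ g := by
    intro g hg hgΓ
    let φ : H → H := fun k => ⟨g⁻¹ * k * g * (k : G)⁻¹,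
      mul_mem ((Subgroup.mem_normalizer_iff''.mp hg _).mp k.2) (inv_mem k.2)⟩
    have hφ : Function.Injective φ := by
      intro k l hkl
      have h' : g⁻¹ * k * g * (k : G)⁻¹ = g⁻¹ * l * g * (l : G)⁻¹ := congrArg Subtype.val hkl
      by_contra hne
      refine hgΓ (Finset.mem_filter.mpr ⟨Finset.mem_univ _, hg, (l : G)⁻¹ * k, mul_mem (inv_mem l.2) k.2,
        fun h => hne (Subtype.ext (inv_mul_eq_one.mp h).symm), ?_⟩)
      have hgl : g⁻¹ * (l : G)⁻¹ * g ∈ H := (Subgroup.mem_normalizer_iff''.mp hg _).mp (inv_mem l.2)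
      have h2 : g⁻¹ * ((l : G)⁻¹ * k) * g = (l : G)⁻¹ * k := by
        calc g⁻¹ * ((l : G)⁻¹ * k) * g = (g⁻¹ * (l : G)⁻¹ * g) * (g⁻¹ * k * g * (k : G)⁻¹) * k := by group
          _ = (g⁻¹ * (l : G)⁻¹ * g) * (g⁻¹ * l * g * (l : G)⁻¹) * k := by rw [h']
          _ = (l : G)⁻¹ * k := by group
      calc g * ((l : G)⁻¹ * k) = g * (g⁻¹ * ((l : G)⁻¹ * k) * g) := by rw [h2]
        _ = (l : G)⁻¹ * k * g := by group
    have hall : ∀ h : H, χ (g * h) = χ g := by
      intro h
      obtain ⟨k, rfl⟩ := (Finite.injective_iff_surjective.mp hφ) h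
      show χ (g * (g⁻¹ * k * g * (k : G)⁻¹)) = χ g
      rw [show g * (g⁻¹ * k * g * (k : G)⁻¹) = k * g * (k : G)⁻¹ by group, hcl g k]
    rw [hχ₀, avg, Finset.sum_congr rfl fun h _ => hall h, Finset.sum_const, Finset.card_univ, nsmul_eq_mul,
      Nat.card_eq_fintype_card, ← mul_assoc, inv_mul_cancel₀ (Nat.cast_ne_zero.mpr Fintype.card_ne_zero), one_mul]
  have hinvr : ∀ (h : H) (F : G → ℂ), ∑ g ∈ Γ, F (g * h) = ∑ g ∈ Γ, F g := fun h F =>
    Finset.sum_equiv (Equiv.mulRight (h : G)) (fun g => ⟨fun hg => hΓmul g hg h,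
      fun hg => by simpa using hΓmul _ hg h⁻¹⟩) (fun g _ => rfl)
  have horth : ∑ g ∈ Γ, ‖χ g‖ ^ 2 = ∑ g ∈ Γ, ‖χ₀ g‖ ^ 2 + ∑ g ∈ Γ, ‖χ g - χ₀ g‖ ^ 2 := by
    have hcross : ∑ g ∈ Γ, χ g * conj (χ₀ g) = ∑ g ∈ Γ, χ₀ g * conj (χ₀ g) := by
      have hterm : ∀ h : H, ∑ g ∈ Γ, χ (g * h) * conj (χ₀ g) = ∑ g ∈ Γ, χ g * conj (χ₀ g) := by
        intro h
        rw [← hinvr h (fun g => χ g * conj (χ₀ g))]
        exact Finset.sum_congr rfl fun g _ => by rw [hχ₀, avg_mul_right]
      calc ∑ g ∈ Γ, χ g * conj (χ₀ g)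
          = (Nat.card H : ℂ)⁻¹ * ∑ h : H, ∑ g ∈ Γ, χ (g * h) * conj (χ₀ g) := by
            rw [Finset.sum_congr rfl fun h _ => hterm h, Finset.sum_const, Finset.card_univ, nsmul_eq_mul,
              Nat.card_eq_fintype_card, ← mul_assoc,
              inv_mul_cancel₀ (Nat.cast_ne_zero.mpr Fintype.card_ne_zero), one_mul]
        _ = ∑ g ∈ Γ, χ₀ g * conj (χ₀ g) := by
            rw [Finset.sum_comm, Finset.mul_sum]
            refine Finset.sum_congr rfl fun g _ => ?_
            rw [← Finset.sum_mul, ← mul_assoc]; rfl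
    have hre := congrArg Complex.re hcross
    simp only [Complex.re_sum] at hre
    rw [← Finset.sum_add_distrib]
    have hpt : ∀ g, ‖χ g‖ ^ 2 = ‖χ₀ g‖ ^ 2 + ‖χ g - χ₀ g‖ ^ 2
        + 2 * ((χ g * conj (χ₀ g)).re - (χ₀ g * conj (χ₀ g)).re) := by
      intro g
      simp only [← Complex.normSq_eq_norm_sq, Complex.normSq_apply, Complex.sub_re, Complex.sub_im,
        Complex.mul_re, Complex.conj_re, Complex.conj_im]
      ring
    rw [Finset.sum_congr rfl fun g _ => hpt g, Finset.sum_add_distrib, ← Finset.mul_sum,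
      Finset.sum_sub_distrib, hre, sub_self, mul_zero, add_zero]
  have h0Γ : (Zf.card : ℝ) * (Nat.card H : ℝ) * (c : ℝ) ^ 2 ≤ ∑ g ∈ Γ, ‖χ₀ g‖ ^ 2 := by
    let emb : G × H → G := fun p => p.1 * p.2
    have hinj : Set.InjOn emb ((Zf ×ˢ (Finset.univ : Finset H) : Finset (G × H)) : Set (G × H)) := by
      rintro ⟨z, h⟩ hzh ⟨z', h'⟩ hzh' e
      simp only [Finset.coe_product, Set.mem_prod, hZf, Finset.coe_filter, Finset.mem_univ, true_and] at hzh hzh'
      have e' : z * (h : G) = z' * (h' : G) := e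
      have hmem : (h : G) * (h' : G)⁻¹ ∈ H ⊓ Subgroup.center G := by
        refine Subgroup.mem_inf.mpr ⟨mul_mem h.2 (inv_mem h'.2), ?_⟩
        have : (h : G) * (h' : G)⁻¹ = z⁻¹ * z' := by
          rw [← inv_mul_cancel_left z (h : G), e']; group
        rw [this]
        exact Subgroup.mul_mem _ (Subgroup.inv_mem _ hzh.1) hzh'.1
      rw [hZ, Subgroup.mem_bot, mul_inv_eq_one] at hmem
      have hh : h = h' := Subtype.ext hmem
      subst hh
      exact Prod.ext (mul_right_cancel e') rfl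
    calc (Zf.card : ℝ) * (Nat.card H : ℝ) * (c : ℝ) ^ 2
        = ∑ p ∈ Zf ×ˢ (Finset.univ : Finset H), ‖χ₀ (emb p)‖ ^ 2 := by
          rw [Finset.sum_congr rfl (g := fun _ => (c : ℝ) ^ 2) fun p hp => ?_, Finset.sum_const,
            Finset.card_product, Finset.card_univ, nsmul_eq_mul, Nat.cast_mul, Nat.card_eq_fintype_card]
          obtain ⟨a, ha, ha'⟩ := hcent p.1 (Finset.mem_product.mp hp).1
          have hval : χ₀ p.1 = a * c := by
            rw [hχ₀, avg, ← hc, classInner]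
            simp only [ha', map_one, mul_one, ← Finset.mul_sum]
            ring
          show ‖χ₀ (p.1 * p.2)‖ ^ 2 = _
          rw [hχ₀, avg_mul_right, ← hχ₀, hval, norm_mul, ha, one_mul, Complex.norm_natCast]
      _ = ∑ g ∈ (Zf ×ˢ (Finset.univ : Finset H)).image emb, ‖χ₀ g‖ ^ 2 := by rw [Finset.sum_image hinj]
      _ ≤ _ := by
          refine Finset.sum_le_sum_of_subset_of_nonneg ?_ fun _ _ _ => sq_nonneg _
          intro g hg
          obtain ⟨⟨z, h⟩, hp, rfl⟩ := Finset.mem_image.mp hg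
          exact hΓmul z (hZΓ (Finset.mem_product.mp hp).1) h
  have h1Γ : (Nat.card N : ℝ) ≤ ∑ g ∈ Γ, ‖χ g - χ₀ g‖ ^ 2 := by
    haveI : Fintype N := Fintype.ofFinite N
    haveI : (H.subgroupOf N).Normal := Subgroup.normal_in_normalizer
    haveI : Fintype (H.subgroupOf N) := Fintype.ofFinite _
    haveI : Fintype (IrrCharacter N) := Fintype.ofFinite _
    let ψ : N → ℂ := fun x => χ x - χ₀ x
    obtain ⟨m, hm, -⟩ := IsCharacter.decompose (IsCharacter.restrict (IsIrrCharacter.isCharacter hirr) N)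
    let eH : H.subgroupOf N ≃* H := Subgroup.subgroupOfEquivOfLe Subgroup.le_normalizer
    have hψ : IsCharacter N ψ := by
      have hex : ∀ φ : IrrCharacter N, ∃ k : ℕ, ∀ x,
          (φ : N → ℂ) x - (Nat.card (H.subgroupOf N) : ℂ)⁻¹ * ∑ h : H.subgroupOf N, (φ : N → ℂ) (x * h)
            = (k : ℂ) * (φ : N → ℂ) x := by
        intro φ
        rcases avg_irr (H.subgroupOf N) φ.2 with h | h
        · exact ⟨0, fun x => by rw [h x]; simp⟩
        · exact ⟨1, fun x => by rw [h x]; simp⟩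
      choose k hk using hex
      have : ψ = ∑ φ : IrrCharacter N, ((m φ * k φ : ℕ) : ℂ) • (φ : N → ℂ) := by
        funext x
        have hx : ∀ y : N, χ y = ∑ φ : IrrCharacter N, (m φ : ℂ) * (φ : N → ℂ) y := fun y => by
          simpa [Finset.sum_apply] using congrFun hm y
        have havg : χ₀ x = ∑ φ : IrrCharacter N, (m φ : ℂ) *
            ((Nat.card (H.subgroupOf N) : ℂ)⁻¹ * ∑ h : H.subgroupOf N, (φ : N → ℂ) (x * h)) := by
          rw [hχ₀, avg, Nat.card_congr eH.toEquiv,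
            ← Fintype.sum_equiv eH.toEquiv (fun h : H.subgroupOf N => χ ((x * (h : N) : N) : G)) (fun h : H => χ ((x : G) * h))
              (fun h => rfl),
            Finset.sum_congr rfl fun (h : H.subgroupOf N) _ => hx (x * (h : N)), Finset.sum_comm, Finset.mul_sum]
          refine Finset.sum_congr rfl fun φ _ => ?_
          rw [← Finset.mul_sum]; ring
        show χ x - χ₀ x = _
        rw [hx x, havg, ← Finset.sum_sub_distrib, Finset.sum_apply]
        refine Finset.sum_congr rfl fun φ _ => ?_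
        rw [← mul_sub, hk, Pi.smul_apply, smul_eq_mul, Nat.cast_mul, mul_assoc]
      rw [this]
      exact IsCharacter.sum _ fun φ _ => IsCharacter.natCast_smul (IsIrrCharacter.isCharacter φ.2) _
    obtain ⟨k, hk⟩ := IsCharacter.classInner_nat hψ hψ
    have hk0 : k ≠ 0 := by
      intro h
      rw [h, Nat.cast_zero, classInner_self_eq_zero] at hk
      have e1 : χ (1 : G) - χ₀ 1 = 0 := congrFun hk 1
      have e2 : χ h₀ - χ₀ h₀ = 0 := congrFun hk ⟨h₀, Subgroup.le_normalizer hh₀⟩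
      have e3 : χ₀ h₀ = χ₀ 1 := by
        have := avg_mul_right H χ 1 ⟨h₀, hh₀⟩
        rwa [one_mul] at this
      exact hh₀' (by rw [sub_eq_zero.mp e1, sub_eq_zero.mp e2, e3])
    rw [classInner_self_eq] at hk
    have hk' : (Nat.card N : ℝ)⁻¹ * ∑ x : N, ‖ψ x‖ ^ 2 = (k : ℝ) := by exact_mod_cast hk
    rw [inv_mul_eq_iff_eq_mul₀ (Nat.cast_ne_zero.mpr Nat.card_pos.ne')] at hk'
    calc (Nat.card N : ℝ) ≤ (Nat.card N : ℝ) * k :=
          le_mul_of_one_le_right (Nat.cast_nonneg _) (Nat.one_le_cast.mpr (Nat.pos_of_ne_zero hk0))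
      _ = ∑ x : N, ‖χ x - χ₀ x‖ ^ 2 := hk'.symm
      _ = ∑ g ∈ Finset.univ.filter (· ∈ N), ‖χ g - χ₀ g‖ ^ 2 := by
          rw [Finset.sum_subtype (Finset.univ.filter (· ∈ N)) (p := (· ∈ N)) (fun x => by simp)]
      _ = ∑ g ∈ Γ, ‖χ g - χ₀ g‖ ^ 2 := by
          refine (Finset.sum_subset (fun g hg => by
            simp only [hΓ, Finset.mem_filter, Finset.mem_univ, true_and] at hg ⊢; exact hg.1) fun g hg hgΓ => ?_).symm
          rw [hbad g (by simpa using hg) hgΓ, sub_self]; simp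
  have hsplit : T + (Zf.card : ℝ) * (n : ℝ) ^ 2 = ∑ g ∈ Γ, ‖χ g‖ ^ 2 := by
    rw [hT, hS, ← hZsum, Finset.sum_sdiff hZΓ]
  by_contra hle
  push Not at hle
  have hZpos : (0 : ℝ) < Zf.card := Nat.cast_pos.mpr (Finset.card_pos.mpr ⟨1, by simp [hZf, one_mem]⟩)
  have hTN : (Nat.card N : ℝ) ≤ T := by nlinarith
  have hGpos : (0 : ℝ) < Nat.card G := Nat.cast_pos.mpr Nat.card_pos
  have hNpos : (0 : ℝ) < Nat.card N := Nat.cast_pos.mpr Nat.card_pos
  have hdpos : (0 : ℝ) < n := Nat.cast_pos.mpr hd0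
  nlinarith [mul_le_mul_of_nonneg_left hTN hGpos.le, mul_pos (mul_pos hNpos hZpos) (pow_pos hdpos 2)]

/-- Let H be an abelian subgroup of the finite group G meeting the centre of G trivially, such that for every non-central g the centralizer of g has nontrivial intersection with at most one conjugate of H. Let χ be an irreducible character of G with χ h ≠ χ 1 for some h in H, and let c be the inner product of the restriction of χ to H with the principal character. Then χ(1)² > (order of H)·c²; and if in addition χ 1 ≠ 1 and no proper normal subgroup of G contains H, then (1 + χ 1)² > order of H (both sides read as real numbers). -/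
theorem result {G : Type*} [Group G] [Fintype G] (H : Subgroup G) [Fintype H] (hab : ∀ a ∈ H, ∀ b ∈ H, a * b = b * a) (hZ : H ⊓ Subgroup.center G = ⊥) (hone : ∀ g : G, g ∉ Subgroup.center G → ∀ a b : G, Subgroup.centralizer ({g} : Set G) ⊓ H.map (MulAut.conj a).toMonoidHom ≠ ⊥ → Subgroup.centralizer ({g} : Set G) ⊓ H.map (MulAut.conj b).toMonoidHom ≠ ⊥ → H.map (MulAut.conj a).toMonoidHom = H.map (MulAut.conj b).toMonoidHom) (χ : G → ℂ) (hχ : Cfsg.IsIrrCharacter G χ) (hker : ∃ h ∈ H, χ h ≠ χ 1) : (χ 1).re ^ 2 > (Nat.card H : ℝ) * (Cfsg.classInner (fun h : H => χ h) (fun _ => 1)).re ^ 2 ∧ (χ 1 ≠ 1 → (∀ M : Subgroup G, M.Normal → H ≤ M → M = ⊤) → (1 + (χ 1).re) ^ 2 > (Nat.card H : ℝ)) := by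
  classical
  obtain ⟨d, hd0, hd⟩ := IsIrrCharacter.exists_degree hχ
  have hcon : ∀ (φ : G → ℂ), IsIrrCharacter G φ → ∃ c : ℕ, classInner (fun h : H => φ h) (fun _ => 1) = c :=
    fun φ hφ => IsCharacter.classInner_nat (IsCharacter.restrict (IsIrrCharacter.isCharacter hφ) H)
      (IsIrrCharacter.isCharacter isIrrCharacter_one)
  obtain ⟨c, hc⟩ := hcon χ hχ
  refine ⟨?_, fun hd1 hM => ?_⟩
  · have := degree_bound H hab hZ hone χ hχ hker d c hd hc
    rw [hd, hc]
    simpa using this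
  rw [hd, Complex.natCast_re]
  haveI : Fintype (IrrCharacter G) := Fintype.ofFinite _
  haveI : Fintype (IrrCharacter H) := Fintype.ofFinite _
  let θ : G → ℂ := χ * fun g => conj (χ g)
  have hθ : IsCharacter G θ :=
    IsCharacter.mul (IsIrrCharacter.isCharacter hχ) (IsCharacter.conj (IsIrrCharacter.isCharacter hχ))
  obtain ⟨m, hm, hm'⟩ := IsCharacter.decompose hθ
  choose e he0 he using fun ψ : IrrCharacter G => IsIrrCharacter.exists_degree ψ.2
  choose cψ hcψ using fun ψ : IrrCharacter G => hcon ψ ψ.2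
  let one' : IrrCharacter G := ⟨1, isIrrCharacter_one⟩
  have hone_e : e one' = 1 := Nat.cast_injective (R := ℂ) (by rw [← he]; simp [one'])
  have hone_c : cψ one' = 1 := by
    have h2 := classInner_irr_self (isIrrCharacter_one (G := H))
    have h3 : classInner (fun h : H => (one' : G → ℂ) h) (fun _ => 1) = 1 := h2
    rw [hcψ] at h3
    exact_mod_cast h3
  have hone_m : m one' = 1 := by
    have h1 := hm' one'
    rw [show classInner θ (one' : G → ℂ) = classInner χ χ by simp [classInner, θ, one'],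
      classInner_irr_self hχ] at h1
    exact_mod_cast h1.symm
  have hdeg : (d : ℝ) * d = ∑ ψ, (m ψ : ℝ) * e ψ := by
    have h := congrFun hm 1
    simp only [θ, Pi.mul_apply, hd, Complex.conj_natCast, Finset.sum_apply, Pi.smul_apply, he,
      smul_eq_mul] at h
    exact_mod_cast h
  obtain ⟨k, hk, hk'⟩ := IsCharacter.decompose (IsCharacter.restrict (IsIrrCharacter.isCharacter hχ) H)
  have hksum : (d : ℝ) = ∑ φ, (k φ : ℝ) := by
    have h := congrFun hk 1
    simp only [OneMemClass.coe_one, hd, Finset.sum_apply, Pi.smul_apply, smul_eq_mul] at h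
    rw [Finset.sum_congr rfl (g := fun φ => ((k φ : ℕ) : ℂ)) fun φ _ => by
      rw [apply_one_eq_one_of_comm (fun a b => Subtype.ext (hab a a.2 b b.2)) φ, mul_one]] at h
    exact_mod_cast h
  have hnorm : (d : ℝ) ≤ ∑ ψ, (m ψ : ℝ) * cψ ψ := by
    have h1 : classInner (fun h : H => θ h) (fun _ => 1) = ∑ ψ, (m ψ : ℂ) * cψ ψ := by
      rw [show (fun h : H => θ h) = ∑ ψ : IrrCharacter G, (m ψ : ℂ) • (fun h : H => (ψ : G → ℂ) h) from
        funext fun h => by simpa [Finset.sum_apply] using congrFun hm h, classInner_sum_left]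
      simp [classInner_smul_left, hcψ]
    have h2 : classInner (fun h : H => θ h) (fun _ => 1) = ((∑ φ, k φ * k φ : ℕ) : ℂ) := by
      rw [show classInner (fun h : H => θ h) (fun _ => 1)
          = classInner (fun h : H => χ h) (fun h : H => χ h) by simp [classInner, θ],
        classInner_eq_sum (IsCharacter.isClassFunction (IsCharacter.restrict (IsIrrCharacter.isCharacter hχ) H))]
      simp [hk', Complex.conj_natCast]
    rw [h1] at h2
    have h3 : ∑ ψ, (m ψ : ℝ) * cψ ψ = ((∑ φ, k φ * k φ : ℕ) : ℝ) := by exact_mod_cast h2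
    rw [h3, hksum]
    push_cast
    exact Finset.sum_le_sum fun φ _ => by exact_mod_cast Nat.le_mul_self (k φ)
  set s := Real.sqrt (Nat.card H) with hs
  have hs2 : s ^ 2 = (Nat.card H : ℝ) := Real.sq_sqrt (Nat.cast_nonneg _)
  have hterm : ∀ ψ ∈ (Finset.univ : Finset (IrrCharacter G)).erase one', m ψ ≠ 0 →
      s * ((m ψ : ℝ) * cψ ψ) < (m ψ : ℝ) * e ψ := by
    intro ψ hψ hm0
    have hker' : ∃ h ∈ H, (ψ : G → ℂ) h ≠ (ψ : G → ℂ) 1 := by
      by_contra hall
      push Not at hall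
      obtain ⟨r, ρ, hρ, hρψ⟩ := ψ.2
      have hrch : ∀ g : G, (ψ : G → ℂ) g = (ψ : G → ℂ) 1 ↔ g ∈ MonoidHom.ker ρ := by
        intro g
        rw [← hρψ, Representation.char_one, character_eq_finrank_iff, MonoidHom.mem_ker]
        rfl
      have htop := hM (MonoidHom.ker ρ) inferInstance fun h hh => (hrch h).mp (hall h hh)
      refine (Finset.mem_erase.mp hψ).1 (Subtype.ext ?_)
      by_contra hne
      have h0 := classInner_irr_of_ne ψ.2 isIrrCharacter_one hne
      rw [show classInner (ψ : G → ℂ) 1 = (ψ : G → ℂ) 1 by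
        rw [classInner, Finset.sum_congr rfl fun g _ => by
          rw [(hrch g).mpr (htop ▸ Subgroup.mem_top g), Pi.one_apply, map_one, mul_one]]
        rw [Finset.sum_const, Finset.card_univ, nsmul_eq_mul, Nat.card_eq_fintype_card, ← mul_assoc,
          inv_mul_cancel₀ (Nat.cast_ne_zero.mpr Fintype.card_ne_zero), one_mul]] at h0
      exact IsIrrCharacter.apply_one_ne_zero ψ.2 h0
    have hb := degree_bound H hab hZ hone ψ ψ.2 hker' (e ψ) (cψ ψ) (he ψ) (hcψ ψ)
    have hlt : s * cψ ψ < e ψ := by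
      refine lt_of_pow_lt_pow_left₀ 2 (Nat.cast_nonneg _) ?_
      rw [mul_pow, hs2]; exact hb
    have : (0 : ℝ) < m ψ := Nat.cast_pos.mpr (Nat.pos_of_ne_zero hm0)
    nlinarith
  rw [← Finset.add_sum_erase _ _ (Finset.mem_univ one'), hone_m, hone_e] at hdeg
  rw [← Finset.add_sum_erase _ _ (Finset.mem_univ one'), hone_m, hone_c] at hnorm
  simp only [Nat.cast_one, mul_one] at hdeg hnorm
  have hdne : d ≠ 1 := fun h => hd1 (by rw [hd, h, Nat.cast_one])
  have hd2 : (2 : ℝ) ≤ d := by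
    have : 2 ≤ d := by omega
    exact_mod_cast this
  obtain ⟨ψ₁, hψ₁, hψ₁'⟩ : ∃ ψ ∈ (Finset.univ : Finset (IrrCharacter G)).erase one', m ψ ≠ 0 := by
    by_contra hall
    push Not at hall
    rw [Finset.sum_eq_zero fun ψ hψ => by rw [hall ψ hψ, Nat.cast_zero, zero_mul]] at hdeg
    nlinarith
  have hsum : s * ∑ ψ ∈ Finset.univ.erase one', (m ψ : ℝ) * cψ ψ
      < ∑ ψ ∈ Finset.univ.erase one', (m ψ : ℝ) * e ψ := by
    rw [Finset.mul_sum]
    refine Finset.sum_lt_sum (fun ψ hψ => ?_) ⟨ψ₁, hψ₁, hterm ψ₁ hψ₁ hψ₁'⟩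
    by_cases hm0 : m ψ = 0
    · simp [hm0]
    · exact (hterm ψ hψ hm0).le
  have hs0 : 0 ≤ s := Real.sqrt_nonneg _
  have hlt : s < 1 + d := by nlinarith [mul_le_mul_of_nonneg_left hnorm hs0]
  rw [gt_iff_lt, ← hs2]
  nlinarith


end Cfsg.Agent.S0898
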