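import Cfsg.Statements.S0899
import Cfsg.Agent.Lib.BlichfeldtSylow.Basic
import Cfsg.Agent.S0898
import Cfsg.Agent.S0088

set_option autoImplicit false
open Cfsg

namespace Cfsg.Agent.S0899

open Cfsg.Agent Cfsg.Agent.Char

universe u

lemma commutator_normal_aux (G : Type*) [Group G] : (commutator G).Normal :=
  Subgroup.Normal.of_commutator_le G le_rfl

theorem main_aux : ∀ (m : ℕ) (G : Type u) [Group G] [Finite G], Nat.card G ≤ m →
    ∀ (n : ℕ) (ρ : Representation ℂ G (Fin n → ℂ)), Function.Injective ρ → ∀ (p : ℕ) [Fact p.Prime],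
      ((n + 1) ^ 2 ≤ p ∨ (n + 1 < p ∧ ∀ K : Subgroup G, ¬ p ^ 2 ∣ Nat.card K →
        ∀ Q : Sylow p K, (Q : Subgroup K).Normal)) →
      ∀ P : Sylow p G, (P : Subgroup G).Normal := by
  intro m
  induction m using Nat.strong_induction_on with
  | _ m ih =>
  intro G _ _ hGm n ρ hρ p _ h P
  classical
  letI := Fintype.ofFinite G
  have hpp : p.Prime := Fact.out
  by_contra hPn
  have hnp : n + 1 < p := by
    rcases h with h | h
    · rcases Nat.eq_zero_or_pos n with rfl | hn
      · exact hpp.one_lt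
      · refine lt_of_lt_of_le ?_ h
        nlinarith
    · exact h.1
  set χ := Representation.character ρ with hχdef
  have hχ : IsCharacter G χ := Char.isCharacter_character ρ
  have hn : χ 1 = (n : ℂ) := by rw [hχdef, Representation.char_one, Module.finrank_fin_fun]
  have hfaith : ∀ g, χ g = χ 1 → g = 1 := fun g hg => hρ (by
    rw [hχdef, Representation.char_one, Char.character_eq_finrank_iff] at hg
    rw [hg, map_one]; rfl)
  have hab : ∀ Q : Sylow p G, ∀ x ∈ Q, ∀ y ∈ Q, x * y = y * x := by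
    intro Q x hx y hy
    refine congrArg Subtype.val (Blichfeldt.commute_of_primes_gt (Char.IsCharacter.restrict hχ (Q : Subgroup G))
      (fun g hg => Subtype.ext (hfaith g hg)) (n := n) hn (fun q hq hd => ?_) ⟨x, hx⟩ ⟨y, hy⟩)
    obtain ⟨k, hk⟩ := IsPGroup.iff_card.mp Q.isPGroup'
    rw [hk] at hd
    rw [(Nat.prime_dvd_prime_iff_eq hq hpp).mp (hq.dvd_of_dvd_pow hd)]
    omega
  have huniq : ∀ L : Subgroup G, L ≠ ⊤ → Subsingleton (Sylow p L) := by
    intro L hL
    have hlt : Nat.card L < m := lt_of_lt_of_le (lt_of_le_of_ne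
      (Nat.le_of_dvd Nat.card_pos (Subgroup.card_subgroup_dvd_card L))
      (fun h => hL (Subgroup.eq_top_of_card_eq L h))) hGm
    have hL' := ih _ hlt L le_rfl n (ρ.comp L.subtype) (hρ.comp L.subtype_injective) p (by
      rcases h with h | ⟨h1, h2⟩
      · exact Or.inl h
      · refine Or.inr ⟨h1, fun K hK Q => ?_⟩
        let e : K ≃* K.map L.subtype := K.equivMapOfInjective L.subtype L.subtype_injective
        have hQ := h2 (K.map L.subtype) (by rwa [Subgroup.card_subtype])
          (Q.mapSurjective (f := e.toMonoidHom) e.surjective)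
        have heq : (Q : Subgroup K) = ((Q : Subgroup K).map e.toMonoidHom).comap e.toMonoidHom :=
          (Subgroup.comap_map_eq_self_of_injective e.injective _).symm
        rw [heq]
        exact hQ.comap e.toMonoidHom)
    exact ⟨fun A B => haveI := Sylow.unique_of_normal A (hL' A); Subsingleton.elim _ _⟩
  have hpm : ∀ {L : Subgroup G}, L ≠ ⊤ → ∀ {P Q : Sylow p G} {x y : G}, x ∈ L → y ∈ L →
      x ∈ P → y ∈ Q → x * y = y * x := fun {_} hL {_ _ _ _} hx hy hxP hyQ =>
    BlichfeldtSylow.commute_of_proper hab huniq hL hx hy hxP hyQ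
  -- an element of P outside the centre
  obtain ⟨x₀, hx₀, hx₀Z⟩ : ∃ x ∈ P, x ∉ Subgroup.center G := by
    by_contra hall
    push Not at hall
    refine hPn ⟨fun u hu g => ?_⟩
    rw [Subgroup.mem_center_iff.mp (hall u hu) g, mul_inv_cancel_right]
    exact hu
  have hxg : ∀ (g : G) (x : G), x ∈ P → g * x * g⁻¹ ∈ g • P := fun g x hx => by
    rw [Sylow.smul_def]; exact ⟨x, hx, rfl⟩
  set G' := commutator G with hG'def
  by_cases hpG : p ∣ Nat.card G'
  · -- the derived subgroup contains p-elements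
    have hHZ : ∀ x ∈ P, x ∈ G' → x ∈ Subgroup.center G → x = 1 := by
      intro x hx hx' hxz
      have h0 := S0088.result (P : Subgroup G) ⟨⟨fun a b => Subtype.ext (hab P a a.2 b b.2)⟩⟩ P.card_coprime_index
      exact Subgroup.mem_bot.mp (h0.le ⟨⟨hx, hx'⟩, hxz⟩)
    obtain ⟨x₁, hx₁, hx₁', hx₁1⟩ : ∃ x ∈ P, x ∈ G' ∧ x ≠ 1 := by
      obtain ⟨y, hy⟩ := exists_prime_orderOf_dvd_card' p hpG
      have hyp : IsPGroup p (Subgroup.zpowers (y : G)) :=
        IsPGroup.of_card (n := 1) (by rw [Nat.card_zpowers, pow_one, ← hy, Subgroup.orderOf_coe])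
      obtain ⟨S, hS⟩ := hyp.exists_le_sylow
      obtain ⟨g, hg⟩ := MulAction.exists_smul_eq G S P
      refine ⟨g * y * g⁻¹, ?_, (commutator_normal_aux G).conj_mem _ y.2 g, fun h1 => ?_⟩
      · rw [← hg, Sylow.smul_def]
        exact ⟨y, hS (Subgroup.mem_zpowers _), rfl⟩
      · rw [conj_eq_one_iff, OneMemClass.coe_eq_one] at h1
        rw [h1, orderOf_one] at hy
        exact hpp.one_lt.ne hy
    have htop : G' = ⊤ := by
      by_contra hne
      exact hPn (BlichfeldtSylow.normal_of_mem_proper_normal P hab huniq (commutator_normal_aux G) hne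
        hx₁' hx₁ fun hz => hx₁1 (hHZ x₁ hx₁ hx₁' hz))
    have hPZ : (P : Subgroup G) ⊓ Subgroup.center G = ⊥ := (Subgroup.eq_bot_iff_forall _).mpr
      fun x hx => hHZ x hx.1 (htop ▸ Subgroup.mem_top x) hx.2
    have hPcard : (n + 1) ^ 2 ≤ Nat.card P := by
      rw [Sylow.card_eq_multiplicity]
      rcases h with h | ⟨h1, h2⟩
      · refine h.trans (Nat.le_self_pow ?_ p)
        refine (hpp.factorization_pos_of_dvd Nat.card_pos.ne' ?_).ne'
        exact hpG.trans (Subgroup.card_subgroup_dvd_card _)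
      · have hsq : p ^ 2 ∣ Nat.card G := by
          by_contra hsq
          let e : (⊤ : Subgroup G) ≃* G := Subgroup.topEquiv
          let Q : Sylow p (⊤ : Subgroup G) := P.mapSurjective (f := e.symm.toMonoidHom) e.symm.surjective
          have hQ := h2 ⊤ (by rwa [Subgroup.card_top]) Q
          have heq : (P : Subgroup G) = ((P : Subgroup G).map e.symm.toMonoidHom).comap e.symm.toMonoidHom :=
            (Subgroup.comap_map_eq_self_of_injective e.symm.injective _).symm
          rw [heq] at hPn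
          exact hPn (hQ.comap _)
        refine le_trans (Nat.pow_le_pow_left h1.le 2) (Nat.pow_le_pow_right hpp.pos ?_)
        exact (hpp.pow_dvd_iff_le_factorization Nat.card_pos.ne').mp hsq
    obtain ⟨φ, hφ, hφx, d, hd, hdn⟩ := BlichfeldtSylow.exists_constituent hχ hn (g := x₁)
      (fun h => hx₁1 (hfaith _ h))
    have hmem : ∀ (g a : G), Subgroup.centralizer ({g} : Set G) ⊓
        (P : Subgroup G).map (MulAut.conj a).toMonoidHom ≠ ⊥ →
        ∃ u, u ∈ a • P ∧ g * u = u * g ∧ u ∉ Subgroup.center G := by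
      intro g a hne
      obtain ⟨u, hu, hu1⟩ := (Subgroup.bot_or_exists_ne_one _).resolve_left hne
      obtain ⟨huC, v, hv, rfl⟩ := hu
      refine ⟨_, hxg a v hv, (Subgroup.mem_centralizer_singleton_iff.mp huC).symm, fun hz => hu1 ?_⟩
      have h2 : (MulAut.conj a) v ∈ Subgroup.center G := hz
      have h3 : v ∈ Subgroup.center G := by
        have h4 := (Subgroup.Normal.conj_mem inferInstance _ h2 a⁻¹ : _ ∈ Subgroup.center G)
        simpa [mul_assoc] using h4
      have h5 : v = 1 := Subgroup.mem_bot.mp (hPZ.le ⟨hv, h3⟩)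
      simp [h5]
    have hb := (S0898.result (P : Subgroup G) (hab P) hPZ (fun g hg a b ha hb => by
      obtain ⟨u, huP, hgu, huZ⟩ := hmem g a ha
      obtain ⟨v, hvP, hgv, hvZ⟩ := hmem g b hb
      have hC : Subgroup.centralizer ({g} : Set G) ≠ ⊤ := fun h => hg (Subgroup.mem_center_iff.mpr fun x =>
        Subgroup.mem_centralizer_singleton_iff.mp (h ▸ Subgroup.mem_top x : x ∈ Subgroup.centralizer ({g} : Set G)))
      have hcomm := hpm hC (Subgroup.mem_centralizer_singleton_iff.mpr hgu.symm)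
        (Subgroup.mem_centralizer_singleton_iff.mpr hgv.symm) huP hvP
      have := congrArg (fun S : Sylow p G => (S : Subgroup G))
        (BlichfeldtSylow.conj_mem_of_commute (a • P) hab huniq huP huZ hvP hvZ hcomm)
      exact this)
      φ hφ ⟨x₁, hx₁, hφx⟩).2 (fun h1 => hφx (by
        obtain ⟨l, rfl⟩ := Char.exists_hom_of_degree_one (IsIrrCharacter.isCharacter hφ) h1
        have hx' : x₁ ∈ l.toHomUnits.ker := Abelianization.commutator_subset_ker l.toHomUnits hx₁'
        have := congrArg Units.val (MonoidHom.mem_ker.mp hx')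
        rw [MonoidHom.coe_toHomUnits, Units.val_one] at this
        rw [this, map_one])) (fun M hM hPM => by
        by_contra hne
        exact hPn (BlichfeldtSylow.normal_of_mem_proper_normal P hab huniq hM hne (hPM hx₀) hx₀ hx₀Z))
    rw [hd, Complex.natCast_re] at hb
    have h6 : ((n : ℝ) + 1) ^ 2 ≤ (Nat.card P : ℝ) := by exact_mod_cast hPcard
    have h7 : (d : ℝ) ≤ n := by exact_mod_cast hdn
    nlinarith
  · -- the derived subgroup is a p'-group
    haveI hG'n : G'.Normal := commutator_normal_aux G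
    have hdisj : ∀ x ∈ P, x ∈ G' → x = 1 := by
      intro x hx hx'
      obtain ⟨k, hk⟩ := P.isPGroup' ⟨x, hx⟩
      obtain ⟨b, -, hb⟩ := (Nat.dvd_prime_pow hpp).1
        (orderOf_dvd_of_pow_eq_one (show x ^ p ^ k = 1 from congrArg Subtype.val hk))
      rcases b with _ | b
      · exact orderOf_eq_one_iff.mp (by simpa using hb)
      · exact absurd ((Dvd.intro_left _ (pow_succ p b).symm).trans (hb ▸ Subgroup.orderOf_dvd_natCard G' hx')) hpG
    have hKP : G' ⊔ (P : Subgroup G) = ⊤ := by
      by_contra hne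
      refine hPn (BlichfeldtSylow.normal_of_mem_proper_normal P hab huniq ?_ hne
        (Subgroup.mem_sup_right hx₀) hx₀ hx₀Z)
      exact Subgroup.Normal.of_commutator_le G le_sup_left
    have hcomm : ∀ u ∈ P, ∀ L : Subgroup G, L ≠ ⊤ → u ∈ L → ∀ k ∈ G', k ∈ L → u * k = k * u := by
      intro u hu L hL huL k hk hkL
      by_cases huZ : u ∈ Subgroup.center G
      · exact (Subgroup.mem_center_iff.mp huZ k).symm
      have huk : k * u * k⁻¹ ∈ L := mul_mem (mul_mem hkL huL) (inv_mem hkL)
      have hc := hpm hL huL huk hu (hxg k u hu)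
      have hZ' : k * u * k⁻¹ ∉ Subgroup.center G := fun hz => huZ (by
        have h4 := (Subgroup.Normal.conj_mem inferInstance _ hz k⁻¹ : _ ∈ Subgroup.center G)
        simpa [mul_assoc] using h4)
      have heq := BlichfeldtSylow.conj_mem_of_commute P hab huniq hu huZ (hxg k u hu) hZ' hc
      have h1 : k * u * k⁻¹ * u⁻¹ ∈ P := mul_mem (by rw [heq]; exact hxg k u hu) (inv_mem hu)
      have h2 : k * u * k⁻¹ * u⁻¹ ∈ G' := by
        rw [show k * u * k⁻¹ * u⁻¹ = k * (u * k⁻¹ * u⁻¹) by group]
        exact mul_mem hk (hG'n.conj_mem _ (inv_mem hk) u)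
      have h3 := hdisj _ h1 h2
      rw [mul_inv_eq_one, mul_inv_eq_iff_eq_mul] at h3
      exact h3.symm
    obtain ⟨a, ha, k₀, hk₀, hak₀⟩ : ∃ a ∈ P, ∃ k ∈ G', a * k ≠ k * a := by
      by_contra hall
      push Not at hall
      refine hx₀Z (Subgroup.mem_center_iff.mpr fun g => ?_)
      have hle : G' ⊔ (P : Subgroup G) ≤ Subgroup.centralizer ({x₀} : Set G) := sup_le
        (fun k hk => Subgroup.mem_centralizer_singleton_iff.mpr (hall x₀ hx₀ k hk).symm)
        (fun y hy => Subgroup.mem_centralizer_singleton_iff.mpr (hab P y hy x₀ hx₀))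
      exact Subgroup.mem_centralizer_singleton_iff.mp (hle (hKP ▸ Subgroup.mem_top g))
    obtain ⟨e, he⟩ := P.isPGroup' ⟨a, ha⟩
    have hae : a ^ p ^ e = 1 := congrArg Subtype.val he
    have hgen : ∀ x : G, ∃ k ∈ G', ∃ i : ℕ, x = k * a ^ i := by
      have htop : G' ⊔ Subgroup.zpowers a = ⊤ := by
        by_contra hne
        exact hak₀ (hcomm a ha _ hne (Subgroup.mem_sup_right (Subgroup.mem_zpowers a)) k₀ hk₀
          (Subgroup.mem_sup_left hk₀))
      intro x
      obtain ⟨k, hk, y, hy, rfl⟩ := Subgroup.mem_sup_of_normal_left.mp (htop ▸ Subgroup.mem_top x)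
      obtain ⟨i, rfl⟩ := (mem_zpowers_iff_mem_range_orderOf.mp hy |> fun h => Finset.mem_image.mp h |>
        fun ⟨i, _, hi⟩ => (⟨i, hi⟩ : ∃ i : ℕ, a ^ i = y))
      exact ⟨k, hk, i, rfl⟩
    have hidx : ∃ i, G'.index = p ^ i := by
      obtain ⟨c, hc⟩ := IsPGroup.iff_card.mp P.isPGroup'
      have h1 : Nat.card G' * G'.index ∣ Nat.card G' * Nat.card P := by
        rw [Subgroup.card_mul_index]
        refine dvd_of_eq (Subgroup.IsComplement'.card_mul ?_).symm
        refine Subgroup.isComplement'_of_disjoint_and_mul_eq_univ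
          (Subgroup.disjoint_def.mpr fun h1 h2 => hdisj _ h2 h1) ?_
        rw [← Subgroup.normal_mul, hKP, Subgroup.coe_top]
      have h2 := Nat.dvd_of_mul_dvd_mul_left Nat.card_pos h1
      rw [hc] at h2
      obtain ⟨i, -, hi⟩ := (Nat.dvd_prime_pow hpp).1 h2
      exact ⟨i, hi⟩
    refine BlichfeldtSylow.false_of_minimal G' a e hae hpG hidx hgen ⟨k₀, hk₀, hak₀⟩ ?_ hχ hfaith hn hnp
    intro M hMK hne hinv k hk
    set N := Subgroup.normalizer (M : Set G) with hN
    have haN : a ∈ N := by
      rw [hN, Subgroup.mem_normalizer_iff]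
      intro y
      refine ⟨hinv y, fun hy => ?_⟩
      have hiter : ∀ i : ℕ, ∀ z ∈ M, a ^ i * z * (a ^ i)⁻¹ ∈ M := by
        intro i
        induction i with
        | zero => simp
        | succ i ih' =>
          intro z hz
          have := hinv _ (ih' z hz)
          rw [pow_succ']
          simpa [mul_assoc] using this
      obtain ⟨j, hj⟩ := Nat.exists_eq_add_one.mpr (pow_pos hpp.pos e)
      have h5 := hiter j _ hy
      rw [hj, pow_succ] at hae
      rw [show a ^ j = a⁻¹ from eq_inv_of_mul_eq_one_left hae] at h5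
      simpa [mul_assoc] using h5
    refine hcomm a ha (M ⊔ Subgroup.zpowers a) (fun htop => hne (le_antisymm hMK fun x hx => ?_))
      (Subgroup.mem_sup_right (Subgroup.mem_zpowers a)) k (hMK hk) (Subgroup.mem_sup_left hk)
    have hx' : x ∈ ((M ⊔ Subgroup.zpowers a : Subgroup G) : Set G) := by rw [htop]; trivial
    rw [Subgroup.coe_mul_of_right_le_normalizer_left _ _ ((Subgroup.zpowers_le).mpr haN)] at hx'
    obtain ⟨u, hu, v, hv, rfl⟩ := hx'
    have hv1 : v = 1 := hdisj v (Subgroup.zpowers_le.mpr ha hv) (by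
      have := mul_mem (inv_mem (hMK hu)) hx
      rwa [inv_mul_cancel_left] at this)
    show u * v ∈ M; rw [hv1, mul_one]; exact hu

/-- Let G be a finite group with a faithful complex representation of degree n (on Fin n → ℂ) and p a prime. Suppose either that (n + 1) ^ 2 ≤ p, or that n + 1 < p and every subgroup of G whose order is not divisible by p ^ 2 has a normal Sylow p-subgroup. Then every Sylow p-subgroup of G is normal. -/
theorem result {G : Type*} [Group G] [Finite G] (n : ℕ) (ρ : Representation ℂ G (Fin n → ℂ)) (hρ : Function.Injective ρ) (p : ℕ) [Fact p.Prime] (h : (n + 1) ^ 2 ≤ p ∨ (n + 1 < p ∧ ∀ K : Subgroup G, ¬ p ^ 2 ∣ Nat.card K → ∀ Q : Sylow p K, (Q : Subgroup K).Normal)) (P : Sylow p G) : (P : Subgroup G).Normal :=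
  main_aux (Nat.card G) G le_rfl n ρ hρ p h P

end Cfsg.Agent.S0899
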