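import Cfsg.Statements.S1508
import Cfsg.Agent.Lib.CyclicTI.Rigid
import Cfsg.Agent.Lib.BSW.Values
-- import your own Cfsg.Agent.* helpers here

set_option autoImplicit false
open Cfsg Cfsg.Agent Cfsg.Agent.Char Cfsg.Agent.Coherence Cfsg.Agent.CyclicTI

namespace Cfsg.Agent.S1508

/-- Let W₁, W₂ ≤ G form a self-normalising cyclic subgroup W = W₁ ⊔ W₂ of odd order and χ an orthonormal family of irreducible characters of G up to sign, indexed by the linear characters ω of W, with χ_1 = 1, χ_ω = ω on W outside W₁ ∪ W₂, and the induction identity for (1 − φ)(1 − ψ). Let ω be a linear character of W and g an element of G whose order is coprime to the order of ω. Then χ ω g is an integer. -/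
theorem result {G : Type*} [Group G] [Fintype G] (W₁ W₂ : Subgroup G) (hW : Cfsg.IsSelfNormalizingCyclic W₁ W₂) (hodd : Odd (Nat.card ↥(W₁ ⊔ W₂))) (χ : (↥(W₁ ⊔ W₂) →* ℂˣ) → (G → ℂ)) (hχ : Cfsg.IsCyclicTIFamily W₁ W₂ χ) (ω : ↥(W₁ ⊔ W₂) →* ℂˣ) (g : G) (hg : Nat.Coprime (orderOf g) (orderOf ω)) : ∃ n : ℤ, χ ω g = n := by
  classical
  haveI := Fintype.ofFinite ↥(W₁ ⊔ W₂)
  have hn : orderOf ω ∣ Nat.card G := by
    refine dvd_trans (orderOf_dvd_of_pow_eq_one ?_) (Subgroup.card_subgroup_dvd_card (W₁ ⊔ W₂))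
    ext w
    rw [MonoidHom.pow_apply, ← map_pow, pow_card_eq_one', map_one, MonoidHom.one_apply]
  have hN : Nat.card G ≠ 0 := Nat.card_pos.ne'
  have hinv : ∀ k : ℕ, k.Coprime (Nat.card G) → χ ω (g ^ k) = χ ω g := by
    intro k hk
    obtain ⟨r, hr1, hr2⟩ := Nat.chineseRemainder hg k 1
    have hd : orderOf g * orderOf ω ∣ Nat.card G :=
      hg.mul_dvd_of_dvd_of_dvd (orderOf_dvd_natCard g) hn
    have hrc : r.Coprime (orderOf g * orderOf ω) := by
      refine Nat.Coprime.mul_right ?_ ?_
      · exact (Nat.ModEq.gcd_eq hr1).trans (hk.coprime_dvd_right (orderOf_dvd_natCard g))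
      · exact (Nat.ModEq.gcd_eq hr2).trans (Nat.coprime_one_left _)
    haveI : NeZero (Nat.card G) := ⟨hN⟩
    obtain ⟨u, hu⟩ := ZMod.unitsMap_surjective hd (ZMod.unitOfCoprime r hrc)
    set K := (u : ZMod (Nat.card G)).val with hKdef
    have hK : K.Coprime (Nat.card G) := ZMod.val_coe_unit_coprime u
    have hKr : K ≡ r [MOD orderOf g * orderOf ω] := by
      rw [← ZMod.natCast_eq_natCast_iff, hKdef, ZMod.natCast_val]
      exact congrArg Units.val hu
    have hg' : g ^ K = g ^ k := pow_eq_pow_iff_modEq.mpr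
      ((hKr.of_mul_right (orderOf ω)).trans hr1)
    have hω : ω ^ K = ω := by
      have hmod : K % orderOf ω = 1 % orderOf ω := (hKr.of_mul_left (orderOf g)).trans hr2
      rw [← pow_mod_orderOf ω K, hmod, pow_mod_orderOf, pow_one]
    have hx : IsSignedIrr G (fun y => χ ω (y ^ K)) := by
      rcases hχ.irr_or_neg ω with h | h
      · exact Or.inl (GaloisPow.isIrrCharacter_comp_pow hK h)
      · exact Or.inr (GaloisPow.isIrrCharacter_comp_pow hK h)
    have key := eq_of_eq_on hW hodd hχ hx ω fun w h1 h2 => by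
      obtain ⟨m, hm⟩ := exists_pow_eq_self_of_coprime (x := (w : G))
        (hK.coprime_dvd_right (orderOf_dvd_natCard _))
      show χ ω ((w : G) ^ K) = _
      rw [← SubgroupClass.coe_pow, hχ.eq_on ω (w ^ K) (fun h => h1 ?_) (fun h => h2 ?_)]
      · rw [map_pow, ← MonoidHom.pow_apply, hω]
      · rw [← hm]; exact pow_mem (by simpa using h) m
      · rw [← hm]; exact pow_mem (by simpa using h) m
    rw [← hg']
    exact congrFun key g
  rcases hχ.irr_or_neg ω with h | h
  · exact BSW.exists_int_of_invariant (GaloisAvg.cycloValued_character (IsIrrCharacter.isCharacter h)) g hinv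
  · obtain ⟨m, hm⟩ := BSW.exists_int_of_invariant
      (GaloisAvg.cycloValued_character (IsIrrCharacter.isCharacter h)) g (fun k hk => by simp [hinv k hk])
    refine ⟨-m, ?_⟩
    simp only [Pi.neg_apply] at hm
    push_cast
    rw [← hm, neg_neg]

end Cfsg.Agent.S1508
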