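import Cfsg.Statements.S1514
import Cfsg.Agent.Lib.Coherence.Virtual
import Cfsg.Agent.S1509

set_option autoImplicit false
open Cfsg

namespace Cfsg.Agent.S1514

open Cfsg.Agent.Char Cfsg.Agent.Coherence

/-- Let S be a nonempty set of irreducible characters of the finite group L, closed under complex conjugation and containing no real-valued member, and τ a linear isometry on the integer combinations of S vanishing at 1, with values virtual characters of G vanishing at 1. Then there is a choice R making (S, τ, R) a coherence system. -/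
theorem result {L : Type*} [Group L] [Fintype L] {G : Type*} [Group G] [Fintype G] (S : Set (L → ℂ)) (hS : S.Nonempty) (hirr : ∀ χ ∈ S, Cfsg.IsIrrCharacter L χ) (hconj : ∀ χ ∈ S, Cfsg.conjFun χ ∈ S ∧ Cfsg.conjFun χ ≠ χ) (τ : (L → ℂ) → (G → ℂ)) (hτ : Cfsg.IsLinearIsometryOn (Cfsg.zspanOn S {1}ᶜ) τ) (hτ1 : ∀ α ∈ Cfsg.zspanOn S {1}ᶜ, τ α 1 = 0) : ∃ R : (L → ℂ) → Finset (G → ℂ), Cfsg.IsCoherenceSystem S τ R := by
  classical
  obtain ⟨hadd, hsmul, hiso, hgc⟩ := hτ
  have horth : ∀ χ ∈ S, ∀ φ ∈ S, χ ≠ φ → Cfsg.classInner χ φ = 0 :=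
    fun χ hχ φ hφ h => classInner_irr_of_ne (hirr χ hχ) (hirr φ hφ) h
  have hmem : ∀ χ ∈ S, χ - Cfsg.conjFun χ ∈ Cfsg.zspanOn S {1}ᶜ := by
    intro χ hχ
    refine ⟨zspan_sub (subset_zspan hχ) (subset_zspan (hconj χ hχ).1), fun x hx => ?_⟩
    simp at hx
    subst hx
    obtain ⟨n, hn⟩ := IsCharacter.exists_degree (IsIrrCharacter.isCharacter (hirr χ hχ))
    simp [Cfsg.conjFun, hn]
  have hnorm : ∀ χ ∈ S, Cfsg.classInner (χ - Cfsg.conjFun χ) (χ - Cfsg.conjFun χ) = 2 := by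
    intro χ hχ
    obtain ⟨hc, hne⟩ := hconj χ hχ
    simp only [classInner_sub_left, classInner_sub_right, classInner_irr_self (hirr χ hχ),
      classInner_irr_self (hirr _ hc), horth χ hχ _ hc hne.symm, horth _ hc χ hχ hne]
    norm_num
  have hdec : ∀ χ : L → ℂ, ∃ μ ν : G → ℂ, χ ∈ S → IsIrrCharacter G μ ∧ IsIrrCharacter G ν ∧ μ ≠ ν ∧
      τ (χ - Cfsg.conjFun χ) = μ - ν := by
    intro χ
    by_cases hχ : χ ∈ S
    · obtain ⟨μ, ν, h⟩ := gc_norm_two (hgc _ (hmem χ hχ))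
        (by rw [hiso _ (hmem χ hχ) _ (hmem χ hχ), hnorm χ hχ]) (hτ1 _ (hmem χ hχ))
      exact ⟨μ, ν, fun _ => h⟩
    · exact ⟨0, 0, fun h => absurd h hχ⟩
  choose μ ν hμν using hdec
  have hne : ∀ χ ∈ S, μ χ ≠ -ν χ := by
    intro χ hχ h
    have h1 := re_degree_pos (hμν χ hχ).1
    have h2 := re_degree_pos (hμν χ hχ).2.1
    rw [h] at h1
    simp at h1
    linarith
  have horb : ∀ χ ∈ S, Cfsg.classInner (μ χ) (ν χ) = 0 := fun χ hχ =>
    classInner_irr_of_ne (hμν χ hχ).1 (hμν χ hχ).2.1 (hμν χ hχ).2.2.1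
  refine ⟨fun χ => {μ χ, -ν χ}, hS, fun χ hχ => IsIrrCharacter.isCharacter (hirr χ hχ),
    fun χ hχ => (hconj χ hχ).1, fun χ hχ => (hconj χ hχ).2, ⟨hadd, hsmul, hiso, hgc⟩, hτ1, horth,
    ?_, ?_, ?_, ?_⟩
  · intro χ hχ α hα β hβ
    have e1 : Cfsg.classInner (ν χ) (μ χ) = 0 := by rw [← classInner_conj_symm, horb χ hχ, map_zero]
    simp only [Finset.mem_insert, Finset.mem_singleton] at hα hβ
    rcases hα with rfl | rfl <;> rcases hβ with rfl | rfl
    · simp [classInner_irr_self (hμν χ hχ).1]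
    · simp [hne χ hχ, classInner_neg_right, horb χ hχ]
    · simp [(hne χ hχ).symm, classInner_neg_left, e1]
    · simp [classInner_neg_left, classInner_neg_right, classInner_irr_self (hμν χ hχ).2.1]
  · intro χ hχ α hα
    simp only [Finset.mem_insert, Finset.mem_singleton] at hα
    rcases hα with rfl | rfl
    · exact isGC_of_irr (hμν χ hχ).1
    · exact isGC_neg (isGC_of_irr (hμν χ hχ).2.1)
  · intro χ hχ
    rw [(hμν χ hχ).2.2.2, Finset.sum_pair (hne χ hχ), sub_eq_add_neg]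
  · intro χ hχ φ hφ h1 h2 α hα β hβ
    have e : Cfsg.classInner (τ (φ - Cfsg.conjFun φ)) (τ (χ - Cfsg.conjFun χ)) = 0 := by
      obtain ⟨hc, -⟩ := hconj χ hχ
      obtain ⟨hc', -⟩ := hconj φ hφ
      have hn1 : φ ≠ χ := fun e => by
        rw [e, classInner_irr_self (hirr χ hχ)] at h1; exact one_ne_zero h1
      have hn2 : φ ≠ Cfsg.conjFun χ := fun e => by
        rw [e, classInner_irr_self (hirr _ hc)] at h2; exact one_ne_zero h2
      have hcc : ∀ f : L → ℂ, Cfsg.conjFun (Cfsg.conjFun f) = f := fun f => by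
        funext x; simp [Cfsg.conjFun]
      have hn3 : Cfsg.conjFun φ ≠ χ := fun e => hn2 (by rw [← e, hcc])
      have hn4 : Cfsg.conjFun φ ≠ Cfsg.conjFun χ := fun e => hn1 (by
        rw [← hcc φ, e, hcc])
      rw [hiso _ (hmem φ hφ) _ (hmem χ hχ)]
      simp only [classInner_sub_left, classInner_sub_right, h1, h2, horth _ hc' χ hχ hn3,
        horth _ hc' _ hc hn4, sub_zero]
    rw [(hμν χ hχ).2.2.2, (hμν φ hφ).2.2.2] at e
    have hd : ∀ ψ ∈ S, μ ψ 1 = ν ψ 1 := fun ψ hψ => by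
      have := hτ1 _ (hmem ψ hψ)
      rw [(hμν ψ hψ).2.2.2] at this
      exact sub_eq_zero.mp this
    obtain ⟨o1, o2, o3, o4⟩ := Cfsg.Agent.S1509.result (μ φ) (ν φ) (μ χ) (ν χ)
      (Or.inl (hμν φ hφ).1) (Or.inl (hμν φ hφ).2.1) (Or.inl (hμν χ hχ).1) (Or.inl (hμν χ hχ).2.1)
      1 1 one_ne_zero one_ne_zero (horb φ hφ) (horb χ hχ) (by simpa using e) (hd φ hφ)
      (by simp [hd χ hχ])
    simp only [Finset.mem_insert, Finset.mem_singleton] at hα hβ
    rcases hα with rfl | rfl <;> rcases hβ with rfl | rfl <;>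
      simp [classInner_neg_left, classInner_neg_right, o1, o2, o3, o4]

end Cfsg.Agent.S1514
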