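import Cfsg.Statements.S1524
import Cfsg.Agent.Lib.Coherence.TIKernel

set_option autoImplicit false
open Cfsg

namespace Cfsg.Agent.S1524

/-- Let G be a finite group and H ≤ L subgroups with L of odd order, H ≠ ⊥ nilpotent and normal in L with a nontrivial complement W₁ in L (H ⊓ W₁ = ⊥, H ⊔ W₁ = L) acting on H without non-identity fixed points (L is a Frobenius group with kernel H), and suppose the underlying set of H is a TI-subset of G whose normaliser is L. Let S be the set of functions on L induced from the non-principal irreducible characters of H. Then (S, L minus 1, induction to G) is coherent. -/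
theorem result {G : Type*} [Group G] [Fintype G] (H L W₁ : Subgroup G) [Fintype L] (hodd : Odd (Nat.card L)) (hHL : H ≤ L) (hW₁L : W₁ ≤ L) (hH1 : H ≠ ⊥) (hW1 : W₁ ≠ ⊥) (hnil : Group.IsNilpotent H) (hHn : ∀ x ∈ L, ∀ h ∈ H, x * h * x⁻¹ ∈ H) (hinf : H ⊓ W₁ = ⊥) (hsup : H ⊔ W₁ = L) (hfpf : ∀ w ∈ W₁, w ≠ 1 → ∀ h ∈ H, w * h = h * w → h = 1) (hTI : Cfsg.IsTISubset (H : Set G)) (hN : Subgroup.normalizer (H : Set G) = L) : Cfsg.IsCoherent (Cfsg.inducedIrrAbove (H.subgroupOf L) ⊥) {1}ᶜ (fun α : L → ℂ => Cfsg.indFun L α) := by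
  classical
  subst hN
  have hF := Coherence.frobK_fpf H W₁ hW₁L hsup hfpf
  have hlt : H < Subgroup.normalizer (H : Set G) := lt_of_le_of_ne hHL fun e =>
    hW1 (le_bot_iff.1 (hinf ▸ le_inf (hW₁L.trans_eq e.symm) le_rfl))
  have hoddH : Odd (Nat.card H) := hodd.of_dvd_nat (Subgroup.card_dvd_of_le hHL)
  rcases Coherence.ti_trichotomy H hH1 hTI hlt hF with ⟨-, -, hc, -⟩ | ⟨h2, -⟩ | h
  · exfalso
    rw [hc, Nat.odd_add_one] at hoddH
    exact hoddH (hodd.of_dvd_nat (Subgroup.index_dvd_card _))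
  · exfalso
    rw [h2] at hoddH
    rcases Nat.eq_zero_or_pos ((Nat.card G).factorization 2) with h0 | h0
    · exact hH1 (Subgroup.eq_bot_of_card_eq _ (by rw [h2, h0, pow_zero]))
    · exact Nat.not_even_iff_odd.2 hoddH ((Nat.even_pow).2 ⟨even_two, h0.ne'⟩)
  · exact h

end Cfsg.Agent.S1524
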