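import Cfsg.Statements.S1522
import Cfsg.Agent.S1521
import Cfsg.Agent.S4845
import Cfsg.Agent.EqLemmas

set_option autoImplicit false
open Cfsg

open Cfsg

namespace Cfsg.Agent.S1522

/-- Let K be a nilpotent normal subgroup of the finite group L of odd order with [K,K] < K < L and L/[K,K] a Frobenius group with kernel K/[K,K] (elements of K outside [K,K] are centralised modulo [K,K] only from inside K); let (S, τ, R) be a coherence system from L to G with S the functions induced from non-principal irreducible characters of K. Let Z be a nontrivial normal subgroup of L contained in the centre of K, and suppose every member of S outside S(Z) is an irreducible character of L. Then S minus S(Z) is the set of irreducible characters χ of L with χ z ≠ χ 1 for some z ∈ Z, and it is coherent. -/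
theorem result {L : Type*} [Group L] [Fintype L] {G : Type*} [Group G] [Fintype G] (K : Subgroup L) [hK : K.Normal] (hsolv : Group.IsSolvable K) (τ : (L → ℂ) → (G → ℂ)) (R : (L → ℂ) → Finset (G → ℂ)) (hS : Cfsg.IsCoherenceSystem (Cfsg.inducedIrrAbove K ⊥) τ R) (hodd : Odd (Nat.card L)) (hnil : Group.IsNilpotent K) (hH₁K : ⁅K, K⁆ < K) (hKL : K < ⊤) (hfrob : ∀ k ∈ K, k ∉ ⁅K, K⁆ → ∀ x : L, x * k * x⁻¹ * k⁻¹ ∈ ⁅K, K⁆ → x ∈ K) (Z : Subgroup L) [Z.Normal] (hZ1 : Z ≠ ⊥) (hZK : Z ≤ K) (hZc : ∀ z ∈ Z, ∀ k ∈ K, z * k = k * z) (hirr : ∀ χ ∈ Cfsg.inducedIrrAbove K ⊥ \ Cfsg.inducedIrrAbove K Z, Cfsg.IsIrrCharacter L χ) : Cfsg.inducedIrrAbove K ⊥ \ Cfsg.inducedIrrAbove K Z = {χ | Cfsg.IsIrrCharacter L χ ∧ ∃ z ∈ Z, χ z ≠ χ 1} ∧ Cfsg.IsCoherent (Cfsg.inducedIrrAbove K ⊥ \ Cfsg.inducedIrrAbove K Z) {1}ᶜ τ := by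
  classical
  haveI hK' := Fintype.ofFinite K
  haveI := Fintype.ofFinite (IrrCharacter K)
  set X := inducedIrrAbove K ⊥ \ inducedIrrAbove K Z with hX
  have hXS : X ⊆ inducedIrrAbove K ⊥ := fun φ h => h.1
  -- members of `X` come from characters nontrivial on `Z`
  have hXθ : ∀ θ : IrrCharacter K, (∃ a : K, (a : L) ∈ Z ∧ (θ : K → ℂ) a ≠ (θ : K → ℂ) 1) →
      indFun K (θ : K → ℂ) ∈ X := by
    rintro θ ⟨a, haZ, ha⟩
    refine ⟨⟨θ, θ.2, fun e => ha (by rw [e]), fun b hb => by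
      rw [show b = 1 from Subtype.ext (Subgroup.mem_bot.1 hb)], rfl⟩, ?_⟩
    rintro ⟨θ', h1, h2, h3, h4⟩
    exact ha ((Coherence.eq_of_indFun_eq Z hZK h1 θ.2 h4 h2 h3).2 a haZ)
  have hset : X = {χ | Cfsg.IsIrrCharacter L χ ∧ ∃ z ∈ Z, χ z ≠ χ 1} := by
    ext χ
    refine ⟨fun hχ => ⟨hirr χ hχ, ?_⟩, ?_⟩
    · obtain ⟨θ, h1, h2, -, rfl⟩ := hχ.1
      by_contra hno
      push Not at hno
      exact hχ.2 ⟨θ, h1, h2, (S1487.result Z K hZK θ h1).2 hno, rfl⟩
    · rintro ⟨hχi, z, hz, hne⟩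
      have hres : IsCharacter K (fun k : K => χ k) :=
        Char.IsCharacter.restrict (Char.IsIrrCharacter.isCharacter hχi) K
      obtain ⟨m, hm, hmφ⟩ := Char.IsCharacter.decompose hres
      obtain ⟨θ, hθm, hθ⟩ : ∃ θ : IrrCharacter K, m θ ≠ 0 ∧
          (θ : K → ℂ) ⟨z, hZK hz⟩ ≠ (θ : K → ℂ) 1 := by
        by_contra hno
        push Not at hno
        apply hne
        have e1 := congrFun hm ⟨z, hZK hz⟩
        have e2 := congrFun hm 1
        simp only [OneMemClass.coe_one, Finset.sum_apply, Pi.smul_apply, smul_eq_mul] at e1 e2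
        rw [e1, e2]
        refine Finset.sum_congr rfl fun θ _ => ?_
        by_cases h : m θ = 0
        · simp [h]
        · rw [hno θ h]
      have hmem := hXθ θ ⟨⟨z, hZK hz⟩, hz, hθ⟩
      have hi : classInner χ (indFun K (θ : K → ℂ)) ≠ 0 := by
        rw [Char.frobenius_reciprocity' K _ (Char.IsIrrCharacter.isClassFunction hχi), hmφ]
        exact Nat.cast_ne_zero.2 hθm
      have : χ = indFun K (θ : K → ℂ) := by
        by_contra hne'
        exact hi (Char.classInner_irr_of_ne hχi (hirr _ hmem) hne')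
      rw [this]; exact hmem
  refine ⟨hset, ?_⟩
  have hXne : X.Nonempty := by
    obtain ⟨⟨z, hz⟩, hz1⟩ := Subgroup.ne_bot_iff_exists_ne_one.1 hZ1
    have hzK : (⟨z, hZK hz⟩ : K) ≠ 1 := fun e => hz1 (Subtype.ext (congrArg (fun a : K => (a : L)) e))
    obtain ⟨θ, hθ⟩ : ∃ θ : IrrCharacter K, (θ : K → ℂ) ⟨z, hZK hz⟩ ≠ (θ : K → ℂ) 1 := by
      by_contra hno
      push Not at hno
      exact hzK (isConj_one_left.1 ((Char.isConj_iff_irr _ _).2 hno))
    exact ⟨_, hXθ θ ⟨⟨z, hZK hz⟩, hz, hθ⟩⟩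
  have hXc : ∀ φ ∈ X, conjFun φ ∈ X := fun φ hφ =>
    ⟨Coherence.inducedSet_conj_mem ⊥ hφ.1, fun h => hφ.2 (by
      simpa [Coherence.conjFun_conjFun] using Coherence.inducedSet_conj_mem Z h)⟩
  set H₁ := ⁅K, K⁆ with hH₁
  by_cases hgood : ¬ ∃ p m : ℕ, p.Prime ∧ (⊥ : Subgroup L).relIndex K = p ^ m
  · haveI : ((⊥ : Subgroup L).subgroupOf K).Normal := inferInstance
    have hnil' : Group.IsNilpotent (↥K ⧸ (⊥ : Subgroup L).subgroupOf K) :=
      haveI := hnil
      Group.nilpotent_of_surjective (QuotientGroup.mk' ((⊥ : Subgroup L).subgroupOf K))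
        (QuotientGroup.mk'_surjective _)
    exact Coherence.isCoherent_subset hS subset_rfl hXS hXne hXc
      (S1521.result K hsolv τ R hS hodd ⊥ bot_le hnil' H₁ (by rw [sup_bot_eq]) hH₁K hKL hfrob
        (Or.inr (Or.inr (Or.inl hgood))))
  obtain ⟨p, r, hp, hr⟩ := not_not.1 hgood
  haveI := Fact.mk hp
  rw [Subgroup.relIndex_bot_left] at hr
  have hpg : IsPGroup p K := IsPGroup.of_card hr
  haveI : H₁.Normal := by rw [hH₁]; infer_instance
  -- `e` is prime to `p`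
  set e := K.index with he
  have he0 : 0 < e := Nat.pos_of_ne_zero Subgroup.index_ne_zero_of_finite
  have hn1 : H₁.relIndex K ≠ 1 := fun h => hH₁K.not_ge (Subgroup.relIndex_eq_one.1 h)
  have hpn : p ∣ H₁.relIndex K := by
    have h1 : H₁.relIndex K ∣ p ^ r := hr ▸ Subgroup.index_dvd_card _
    obtain ⟨i, -, hi⟩ := (Nat.dvd_prime_pow hp).1 h1
    rcases i with _ | i
    · exact absurd hi hn1
    · exact hi ▸ dvd_pow_self p i.succ_ne_zero
  have hodp : Odd p := hodd.of_dvd_nat (hpn.trans ((Subgroup.index_dvd_card _).trans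
    (Subgroup.card_subgroup_dvd_card K)))
  have hp3 : 3 ≤ p := by
    have h2 := hp.two_le
    obtain ⟨c, hc⟩ := hodp
    omega
  have hecop : Nat.Coprime e p := by
    refine (hp.coprime_iff_not_dvd.2 fun hpe => hp.one_lt.ne' ?_).symm
    have h1 := S1521.dvd_relIndex_sub_one hH₁K.le le_rfl hfrob K hH₁K.le le_rfl
    have h2 : p ∣ H₁.relIndex K - (H₁.relIndex K - 1) := Nat.dvd_sub hpn (hpe.trans h1)
    have h3 : H₁.relIndex K ≠ 0 := Subgroup.index_ne_zero_of_finite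
    rw [show H₁.relIndex K - (H₁.relIndex K - 1) = 1 by omega] at h2
    exact Nat.dvd_one.1 h2
  -- the degrees
  have hdeg : ∀ φ ∈ X, ∃ k : ℕ, φ 1 = ((e * p ^ k : ℕ) : ℂ) ∧ p ^ (2 * k) ∣ Z.relIndex K := by
    intro φ hφ
    obtain ⟨θ, rfl, -, -, hd⟩ := Coherence.inducedSet_degree ⊥ hφ.1
    obtain ⟨k, -, hk⟩ := (Nat.dvd_prime_pow hp).1 (hr ▸ Codegree.deg_dvd_card θ)
    refine ⟨k, by rw [hd, hk], ?_⟩
    have hle : Z.subgroupOf K ≤ Subgroup.center K := fun a ha => Subgroup.mem_center_iff.2 fun b =>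
      Subtype.ext (hZc a ha b b.2).symm
    have h1 := le_trans (Nat.mul_le_mul_left (charDegree (θ : K → ℂ) ^ 2)
      (Subgroup.card_le_of_le hle)) (S4845.sq_deg_le θ)
    rw [← Subgroup.card_mul_index (Z.subgroupOf K), mul_comm _ (Z.subgroupOf K).index, hk,
      ← pow_mul, mul_comm k 2] at h1
    have h2 := Nat.le_of_mul_le_mul_right h1 Nat.card_pos
    obtain ⟨i, -, hi⟩ := (Nat.dvd_prime_pow hp).1 (hr ▸ Subgroup.index_dvd_card (Z.subgroupOf K))
    rw [Subgroup.relIndex, hi]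
    rw [hi] at h2
    exact pow_dvd_pow p ((Nat.pow_le_pow_iff_right hp.one_lt).1 h2)
  choose! k hk hkdvd using hdeg
  have hfin : X.Finite := (Coherence.sys_finite hS).subset hXS
  set Xf := hfin.toFinset with hXf
  have hmem : ∀ φ, φ ∈ Xf ↔ φ ∈ X := fun φ => Set.Finite.mem_toFinset hfin
  have hnorm : ∀ φ ∈ X, classInner φ φ = 1 := fun φ hφ => Char.classInner_irr_self (hirr φ hφ)
  -- the total
  have hfinS := Coherence.sys_finite hS
  have hfinZ : (inducedIrrAbove K Z).Finite := hfinS.subset (Coherence.inducedSet_le_bot Z)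
  have htot : e * ∑ φ ∈ Xf, p ^ (2 * k φ) + Z.relIndex K = Nat.card K := by
    have h1 := Coherence.sum_sq_div (K := K) ⊥ bot_le hfinS.toFinset (Set.Finite.coe_toFinset hfinS)
    have h2 := Coherence.sum_sq_div (K := K) Z hZK hfinZ.toFinset (Set.Finite.coe_toFinset hfinZ)
    have hsd : hfinS.toFinset \ hfinZ.toFinset = Xf := by
      ext φ
      simp only [Finset.mem_sdiff, Set.Finite.mem_toFinset, hmem]
      rfl
    have h3 := Finset.sum_sdiff (f := fun φ => φ 1 ^ 2 / classInner φ φ)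
      (show hfinZ.toFinset ⊆ hfinS.toFinset from fun φ hφ => by
        rw [Set.Finite.mem_toFinset] at hφ ⊢
        exact Coherence.inducedSet_le_bot Z hφ)
    rw [hsd, h1, h2, Subgroup.relIndex_bot_left] at h3
    have h4 : ∑ φ ∈ Xf, φ 1 ^ 2 / classInner φ φ =
        ((e * (e * ∑ φ ∈ Xf, p ^ (2 * k φ)) : ℕ) : ℂ) := by
      push_cast
      rw [Finset.mul_sum, Finset.mul_sum]
      refine Finset.sum_congr rfl fun φ hφ => ?_
      rw [hk φ ((hmem φ).1 hφ), hnorm φ ((hmem φ).1 hφ)]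
      push_cast; ring
    rw [h4, ← he] at h3
    push_cast at h3
    have h5 : (e : ℂ) ≠ 0 := Nat.cast_ne_zero.2 he0.ne'
    have h6 : (e : ℂ) * ∑ φ ∈ Xf, (p : ℂ) ^ (2 * k φ) + (Z.relIndex K : ℂ) = (Nat.card K : ℂ) :=
      mul_left_cancel₀ h5 (by linear_combination h3)
    exact_mod_cast h6
  have hZdvd : ∀ φ ∈ X, p ^ (2 * k φ) ∣ Nat.card K := fun φ hφ =>
    (hkdvd φ hφ).trans (Subgroup.index_dvd_card _)
  obtain ⟨φ₀, hφ₀, hmin⟩ := Finset.exists_min_image Xf k (by simpa [hXf] using hXne)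
  have hφ₀X := (hmem φ₀).1 hφ₀
  let Y : ℕ → Finset (L → ℂ) := fun j => Xf.filter fun φ => k φ ≤ j
  have hYX : ∀ j, (↑(Y j) : Set (L → ℂ)) ⊆ X := fun j φ hφ =>
    (hmem φ).1 (Finset.mem_filter.1 hφ).1
  have hkc : ∀ φ ∈ X, k (conjFun φ) = k φ := fun φ hφ => by
    have h1 := hk _ (hXc φ hφ)
    have h2 : conjFun φ 1 = ((e * p ^ k φ : ℕ) : ℂ) := by
      show (starRingEnd ℂ) (φ 1) = _
      rw [hk φ hφ, Complex.conj_natCast]
    rw [h2] at h1
    exact (Nat.pow_right_injective hp.two_le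
      (Nat.eq_of_mul_eq_mul_left he0 (Nat.cast_injective h1))).symm
  suffices h : ∀ j, k φ₀ ≤ j → IsCoherent (↑(Y j) : Set (L → ℂ)) {1}ᶜ τ by
    have hall : X ⊆ ↑(Y (max (k φ₀) (Xf.sup k))) := fun φ hφ => Finset.mem_filter.2
      ⟨(hmem φ).2 hφ, le_max_of_le_right (Finset.le_sup ((hmem φ).2 hφ))⟩
    exact Coherence.isCoherent_subset hS ((hYX _).trans hXS) hall hXne hXc (h _ (le_max_left _ _))
  intro j hj
  induction j, hj using Nat.le_induction with
  | base =>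
    refine S1517.result _ τ R (Coherence.sys_subset hS ((hYX _).trans hXS)
      ⟨φ₀, Finset.mem_filter.2 ⟨hφ₀, le_rfl⟩⟩ fun φ hφ => ?_) ?_
    · have h := hYX _ hφ
      exact Finset.mem_filter.2 ⟨(hmem _).2 (hXc φ h),
        (hkc φ h).le.trans (Finset.mem_filter.1 hφ).2⟩
    · intro φ hφ ψ hψ
      rw [hk φ (hYX _ hφ), hk ψ (hYX _ hψ),
        le_antisymm (Finset.mem_filter.1 hφ).2 (hmin φ (Finset.mem_filter.1 hφ).1),
        le_antisymm (Finset.mem_filter.1 hψ).2 (hmin ψ (Finset.mem_filter.1 hψ).1)]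
  | succ j hj ih =>
    suffices h : ∀ s : Finset (L → ℂ), s ⊆ Y (j + 1) → ∃ U : Finset (L → ℂ),
        Y j ⊆ U ∧ s ⊆ U ∧ U ⊆ Y (j + 1) ∧ (∀ φ ∈ U, conjFun φ ∈ U) ∧
        IsCoherent (↑U : Set (L → ℂ)) {1}ᶜ τ by
      obtain ⟨U, -, hU1, hU2, -, hU⟩ := h (Y (j + 1)) subset_rfl
      rwa [show Y (j + 1) = U from Finset.Subset.antisymm hU1 hU2]
    intro s
    induction s using Finset.induction_on with
    | empty =>
      refine fun _ => ⟨Y j, subset_rfl, Finset.empty_subset _, ?_, ?_, ih⟩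
      · exact Finset.monotone_filter_right _ fun φ _ h => le_trans h j.le_succ
      · intro φ hφ
        exact Finset.mem_filter.2 ⟨(hmem _).2 (hXc φ (hYX j hφ)),
          (hkc φ (hYX j hφ)).le.trans (Finset.mem_filter.1 hφ).2⟩
    | insert χ s hχs ihs =>
      intro hsub
      obtain ⟨hχY, hsY⟩ := Finset.insert_subset_iff.1 hsub
      obtain ⟨U, hYU, hsU, hUY, hUc, hU⟩ := ihs hsY
      by_cases hχU : χ ∈ U
      · exact ⟨U, hYU, Finset.insert_subset hχU hsU, hUY, hUc, hU⟩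
      have hχX := hYX _ hχY
      have hχk : k χ = j + 1 := by
        refine le_antisymm (Finset.mem_filter.1 hχY).2 (Nat.succ_le_of_lt (lt_of_not_ge fun h => ?_))
        exact hχU (hYU (Finset.mem_filter.2 ⟨(hmem χ).2 hχX, h⟩))
      -- the sum over `Y j` is a positive multiple of `p ^ (2 (j+1))`
      have hdvd : p ^ (2 * (j + 1)) ∣ ∑ φ ∈ Y j, p ^ (2 * k φ) := by
        refine (Nat.Coprime.pow_left _ hecop.symm).dvd_of_dvd_mul_left ?_
        have hsplit := Finset.sum_filter_add_sum_filter_not Xf (fun φ => k φ ≤ j)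
          (fun φ => p ^ (2 * k φ))
        rw [← hsplit, mul_add] at htot
        have hrest : p ^ (2 * (j + 1)) ∣ ∑ φ ∈ Xf.filter (fun φ => ¬ k φ ≤ j), p ^ (2 * k φ) :=
          Finset.dvd_sum fun φ hφ => pow_dvd_pow p (by
            have := (Finset.mem_filter.1 hφ).2; omega)
        have hZd : p ^ (2 * (j + 1)) ∣ Z.relIndex K := hχk ▸ hkdvd χ hχX
        have hKd : p ^ (2 * (j + 1)) ∣ Nat.card K := hχk ▸ hZdvd χ hχX
        rw [← htot, Nat.dvd_add_left hZd, Nat.dvd_add_left (dvd_mul_of_dvd_right hrest e)] at hKd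
        exact hKd
      have hφ₀Y : φ₀ ∈ Y j := Finset.mem_filter.2 ⟨hφ₀, hj⟩
      have hposY : 0 < ∑ φ ∈ Y j, p ^ (2 * k φ) :=
        Finset.sum_pos (fun φ _ => pow_pos hp.pos _) ⟨φ₀, hφ₀Y⟩
      have hge := Nat.le_of_dvd hposY hdvd
      have hUX : ∀ φ ∈ U, φ ∈ X := fun φ hφ => hYX _ (hUY hφ)
      have hkey : (2 * (χ 1).re * (φ₀ 1).re : ℝ) <
          ∑ φ ∈ U, (φ 1).re ^ 2 / (classInner φ φ).re := by
        refine lt_of_lt_of_le ?_ (Finset.sum_le_sum_of_subset_of_nonneg hYU fun φ _ _ =>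
          div_nonneg (sq_nonneg _) (Char.classInner_self_re_nonneg φ))
        have hval : ∑ φ ∈ Y j, (φ 1).re ^ 2 / (classInner φ φ).re =
            ((e ^ 2 * ∑ φ ∈ Y j, p ^ (2 * k φ) : ℕ) : ℝ) := by
          rw [Finset.mul_sum]; push_cast
          refine Finset.sum_congr rfl fun φ hφ => ?_
          rw [hk φ (hYX _ hφ), hnorm φ (hYX _ hφ), Complex.natCast_re]
          simp only [Complex.one_re, div_one]; push_cast; ring
        rw [hval, hk χ hχX, hk φ₀ hφ₀X, Complex.natCast_re, Complex.natCast_re, hχk]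
        have h1 : 2 * (e * p ^ (j + 1)) * (e * p ^ k φ₀) < e ^ 2 * ∑ φ ∈ Y j, p ^ (2 * k φ) := by
          refine lt_of_lt_of_le ?_ (Nat.mul_le_mul_left _ hge)
          have h2 : p ^ k φ₀ * 2 < p ^ (j + 1) := by
            calc p ^ k φ₀ * 2 < p ^ k φ₀ * p := Nat.mul_lt_mul_of_pos_left (by omega) (pow_pos hp.pos _)
              _ = p ^ (k φ₀ + 1) := (pow_succ _ _).symm
              _ ≤ p ^ (j + 1) := Nat.pow_le_pow_right hp.pos (by omega)
          calc 2 * (e * p ^ (j + 1)) * (e * p ^ k φ₀) = e ^ 2 * p ^ (j + 1) * (p ^ k φ₀ * 2) := by ring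
            _ < e ^ 2 * p ^ (j + 1) * p ^ (j + 1) :=
              Nat.mul_lt_mul_of_pos_left h2 (Nat.mul_pos (pow_pos he0 2) (pow_pos hp.pos _))
            _ = e ^ 2 * p ^ (2 * (j + 1)) := by ring
        exact_mod_cast h1
      have hcoh := Coherence.extend_pair hS U (fun φ hφ => hXS (hUX φ hφ)) hUc hU (hXS hχX) hχU
        (hYU hφ₀Y) (a := ((p ^ (j + 1 - k φ₀) : ℕ) : ℤ))
        (by rw [hk χ hχX, hk φ₀ hφ₀X, hχk]; push_cast
            rw [show (j + 1) = (j + 1 - k φ₀) + k φ₀ by omega, pow_add]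
            rw [show (j + 1 - k φ₀) + k φ₀ - k φ₀ = j + 1 - k φ₀ by omega]; ring) hkey
      refine ⟨U ∪ {χ, conjFun χ}, fun φ hφ => Finset.mem_union_left _ (hYU hφ), ?_, ?_, ?_,
        by simpa using hcoh⟩
      · exact Finset.insert_subset (Finset.mem_union_right _ (Finset.mem_insert_self _ _))
          fun φ hφ => Finset.mem_union_left _ (hsU hφ)
      · refine Finset.union_subset hUY (Finset.insert_subset hχY (Finset.singleton_subset_iff.2 ?_))
        exact Finset.mem_filter.2 ⟨(hmem _).2 (hXc χ hχX), by rw [hkc χ hχX, hχk]⟩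
      · intro φ hφ
        simp only [Finset.mem_union, Finset.mem_insert, Finset.mem_singleton] at hφ ⊢
        rcases hφ with h | rfl | rfl
        · exact Or.inl (hUc φ h)
        · exact Or.inr (Or.inr rfl)
        · exact Or.inr (Or.inl (Coherence.conjFun_conjFun χ))

end Cfsg.Agent.S1522
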