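import Cfsg.Statements.S1497
import Cfsg.Agent.EqLemmas

set_option autoImplicit false
open Cfsg

namespace Cfsg.Agent.S1497

/-- Let A be a nonempty subset of the finite group G not containing 1 and L a subgroup. Then A is a TI-subset whose normaliser is L if and only if the Dade hypothesis holds for A, L and the constant choice H(a) = ⊥. -/
theorem result {G : Type*} [Group G] [Finite G] (A : Set G) (hA : A.Nonempty) (h1 : (1 : G) ∉ A) (L : Subgroup G) : (Cfsg.IsTISubset A ∧ Subgroup.normalizer A = L) ↔ Cfsg.DadeHypothesis A L (fun _ => ⊥) := by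
  constructor
  · rintro ⟨hTI, hN⟩
    subst hN
    have hC : ∀ a ∈ A, Subgroup.centralizer ({a} : Set G) ≤ Subgroup.normalizer A := by
      intro a ha c hc
      by_contra h
      have hca : c * a * c⁻¹ = a := by
        rw [Subgroup.mem_centralizer_singleton_iff.mp hc]; group
      exact h1 (hTI c h a ha (by rw [hca]; exact ha) ▸ ha)
    refine ⟨h1, ?_, ?_, ?_, fun a _ => bot_le, ?_, fun a _ => bot_inf_eq _, ?_, ?_⟩
    · exact fun a ha => hC a ha (Subgroup.mem_centralizer_singleton_iff.mpr rfl)
    · exact fun x hx a ha => (Subgroup.mem_set_normalizer_iff.mp hx a).mp ha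
    · intro a ha g hg
      refine ⟨g, ?_, rfl⟩
      by_contra h
      exact h1 (hTI g h a ha hg ▸ ha)
    · intro a _ c _ u hu
      simp only [Subgroup.mem_bot] at hu ⊢
      simp [hu]
    · intro a ha
      rw [bot_sup_eq, inf_eq_right]
      exact hC a ha
    · intro a _ b _
      simp
  · intro hD
    have hC : ∀ a ∈ A, Subgroup.centralizer ({a} : Set G) ≤ L := by
      intro a ha
      have := hD.sup_eq a ha
      rw [bot_sup_eq, inf_eq_right] at this
      exact this
    have hin : ∀ g : G, ∀ a ∈ A, g * a * g⁻¹ ∈ A → g ∈ L := by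
      intro g a ha hg
      obtain ⟨x, hx, hxe⟩ := hD.fusion a ha g hg
      have hc : x⁻¹ * g ∈ Subgroup.centralizer ({a} : Set G) := by
        rw [Subgroup.mem_centralizer_singleton_iff]
        calc x⁻¹ * g * a = x⁻¹ * (g * a * g⁻¹) * g := by group
          _ = a * (x⁻¹ * g) := by rw [← hxe]; group
      simpa using mul_mem hx (hC a ha hc)
    have hN : Subgroup.normalizer A = L := by
      refine le_antisymm (fun g hg => ?_) (fun x hx => ?_)
      · obtain ⟨a, ha⟩ := hA
        exact hin g a ha ((Subgroup.mem_set_normalizer_iff.mp hg a).mp ha)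
      · rw [Subgroup.mem_set_normalizer_iff]
        intro a
        refine ⟨hD.conj_mem x hx a, fun h => ?_⟩
        simpa [mul_assoc] using hD.conj_mem x⁻¹ (inv_mem hx) _ h
    exact ⟨fun g hg a ha hga => absurd (hN ▸ hin g a ha hga) hg, hN⟩

end Cfsg.Agent.S1497
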