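import Cfsg.Statements.S1527
import Cfsg.Agent.EqLemmas

set_option autoImplicit false
open Cfsg

namespace Cfsg.Agent.S1527

/-- Let G be a finite group and H i (i in a finite index type) subgroups of pairwise coprime orders, each of whose underlying sets is a TI-subset of G, such that every non-identity element of G is conjugate to an element of some H i. Then Nat.card G − 1 = Σ_i [G : N_G(H i)] · (Nat.card (H i) − 1). -/
theorem result {G : Type*} [Group G] [Finite G] {ι : Type*} [Fintype ι] (H : ι → Subgroup G) (hcop : ∀ i j, i ≠ j → Nat.Coprime (Nat.card (H i)) (Nat.card (H j))) (hTI : ∀ i, Cfsg.IsTISubset (H i : Set G)) (hcover : ∀ g : G, g ≠ 1 → ∃ i, ∃ x : G, x * g * x⁻¹ ∈ H i) : Nat.card G - 1 = ∑ i, (Subgroup.normalizer (H i : Set G)).index * (Nat.card (H i) - 1) := by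
  classical
  have : Fintype G := Fintype.ofFinite G
  let S : ι → Finset G := fun i => Finset.univ.filter fun g => g ≠ 1 ∧ ∃ x : G, x * g * x⁻¹ ∈ H i
  have horder : ∀ i g, g ∈ S i → orderOf g ∣ Nat.card (H i) := by
    intro i g hg
    obtain ⟨-, x, hx⟩ := (Finset.mem_filter.mp hg).2
    have h1 : orderOf (x * g * x⁻¹) = orderOf g := by
      rw [← MulAut.conj_apply]; exact MulEquiv.orderOf_eq (MulAut.conj x) g
    exact h1 ▸ Subgroup.orderOf_dvd_natCard _ hx
  have hdisj : Set.PairwiseDisjoint (↑(Finset.univ : Finset ι) : Set ι) S := by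
    intro i _ j _ hij
    change Disjoint (S i) (S j)
    rw [Finset.disjoint_left]
    intro g hgi hgj
    exact (Finset.mem_filter.mp hgi).2.1 (orderOf_eq_one_iff.mp
      (Nat.eq_one_of_dvd_coprimes (hcop i j hij) (horder i g hgi) (horder j g hgj)))
  have hcard : ∀ i, (S i).card =
      (Subgroup.normalizer (H i : Set G)).index * (Nat.card (H i) - 1) := by
    intro i
    set N := Subgroup.normalizer (H i : Set G) with hN
    let T : Finset ((G ⧸ N) × H i) := Finset.univ.filter fun p => p.2 ≠ 1
    have hT : T.card = N.index * (Nat.card (H i) - 1) := by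
      have : T = (Finset.univ : Finset (G ⧸ N)) ×ˢ (Finset.univ.erase (1 : H i)) := by
        ext p; simp [T]
      rw [this, Finset.card_product, Finset.card_univ, Finset.card_erase_of_mem (Finset.mem_univ _),
        Finset.card_univ, Nat.card_eq_fintype_card, Subgroup.index, Nat.card_eq_fintype_card]
    rw [← hT]
    symm
    refine Finset.card_bij (fun p _ => p.1.out * (p.2 : G) * p.1.out⁻¹) ?_ ?_ ?_
    · intro p hp
      have hp1 : (p.2 : G) ≠ 1 := fun h => (Finset.mem_filter.mp hp).2 (Subtype.ext h)
      refine Finset.mem_filter.mpr ⟨Finset.mem_univ _, ?_, p.1.out⁻¹, ?_⟩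
      · intro h; exact hp1 (conj_eq_one_iff.mp h)
      · simp [mul_assoc]
    · intro p hp p' _ he
      have hp1 : (p.2 : G) ≠ 1 := fun h => (Finset.mem_filter.mp hp).2 (Subtype.ext h)
      have hc : p'.1.out⁻¹ * p.1.out * (p.2 : G) * (p'.1.out⁻¹ * p.1.out)⁻¹ = (p'.2 : G) := by
        have := congrArg (fun t => p'.1.out⁻¹ * t * p'.1.out) he
        simpa [mul_assoc] using this
      have hmem : p'.1.out⁻¹ * p.1.out ∈ N := by
        by_contra h
        exact hp1 (hTI i _ h _ p.2.2 (hc ▸ p'.2.2))
      have h1 : p'.1 = p.1 := by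
        rw [← QuotientGroup.out_eq' p'.1, ← QuotientGroup.out_eq' p.1]
        exact QuotientGroup.eq.mpr hmem
      refine Prod.ext h1.symm (Subtype.ext ?_)
      rw [← hc, h1]; simp
    · intro g hg
      obtain ⟨hg1, x, hx⟩ := (Finset.mem_filter.mp hg).2
      set c : G ⧸ N := QuotientGroup.mk x⁻¹ with hcdef
      have hn : x * c.out ∈ N := by
        have := QuotientGroup.eq.mp (QuotientGroup.out_eq' c).symm
        simpa using this
      have hh : c.out⁻¹ * g * c.out ∈ H i := by
        refine (Subgroup.mem_normalizer_iff.mp hn _).mpr ?_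
        simpa [mul_assoc] using hx
      refine ⟨(c, ⟨_, hh⟩), Finset.mem_filter.mpr ⟨Finset.mem_univ _, fun h => ?_⟩, by simp [mul_assoc]⟩
      have := congrArg (fun t : H i => c.out * (t : G) * c.out⁻¹) h
      simp [mul_assoc] at this
      exact hg1 this
  have hunion : Finset.univ.erase (1 : G) = Finset.univ.biUnion S := by
    ext g
    simp only [Finset.mem_erase, Finset.mem_univ, and_true, Finset.mem_biUnion, S,
      Finset.mem_filter, true_and]
    exact ⟨fun h => (hcover g h).imp fun i hi => ⟨h, hi⟩, fun ⟨i, h, _⟩ => h⟩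
  rw [Nat.card_eq_fintype_card, ← Finset.card_univ,
    ← Finset.card_erase_of_mem (Finset.mem_univ (1 : G)), hunion, Finset.card_biUnion hdisj]
  exact Finset.sum_congr rfl fun i _ => hcard i

end Cfsg.Agent.S1527
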