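import Cfsg.Statements.S1511
import Cfsg.Agent.Lib.CyclicTI.TypeP
-- import your own Cfsg.Agent.* helpers here

set_option autoImplicit false
open Cfsg Cfsg.Agent Cfsg.Agent.Char Cfsg.Agent.Coherence Cfsg.Agent.CyclicTI

namespace Cfsg.Agent.S1511

/-- Let L be a finite group with K normal with complement W₁ ≠ 1 a cyclic Hall subgroup, and W₂ ≠ 1 a cyclic subgroup of K equal to C_K(x) for every non-identity x ∈ W₁, with W₁W₂ of odd order. Then there are a map μ from the linear characters of W = W₁ ⊔ W₂ to irreducible characters of L, injective, and a sign δ(ω) ∈ {1, −1} depending only on the values of ω on W₂, such that: for ω, ω' agreeing on W₂, the function induced to L from ω − ω' equals δ(ω) • (μ ω − μ ω'); μ ω x = δ(ω) ω x for x ∈ W outside W₂; every irreducible character of L not of the form μ ω vanishes on W outside W₂; and μ ω 1 − δ(ω) is an integer multiple of Nat.card W₁. -/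
theorem result {L : Type*} [Group L] [Fintype L] (K W₁ W₂ : Subgroup L) [hK : K.Normal] (hKW₁ : K ⊓ W₁ = ⊥) (hKW₁' : K ⊔ W₁ = ⊤) (hW₁ : W₁ ≠ ⊥) (hW₁c : IsCyclic W₁) (hHall : Nat.Coprime (Nat.card W₁) W₁.index) (hW₂ : W₂ ≠ ⊥) (hW₂c : IsCyclic W₂) (hW₂K : W₂ ≤ K) (hC : ∀ x ∈ W₁, x ≠ 1 → K ⊓ Subgroup.centralizer ({x} : Set L) = W₂) (hodd : Odd (Nat.card ↥(W₁ ⊔ W₂))) : ∃ (μ : (↥(W₁ ⊔ W₂) →* ℂˣ) → (L → ℂ)) (δ : (↥(W₁ ⊔ W₂) →* ℂˣ) → ℂ), Function.Injective μ ∧ (∀ ω, Cfsg.IsIrrCharacter L (μ ω)) ∧ (∀ ω, δ ω = 1 ∨ δ ω = -1) ∧ (∀ ω ω' : ↥(W₁ ⊔ W₂) →* ℂˣ, (∀ w : ↥(W₁ ⊔ W₂), (w : L) ∈ W₂ → ω w = ω' w) → δ ω = δ ω' ∧ Cfsg.indFun (W₁ ⊔ W₂) (fun w => (ω w : ℂ) - (ω' w : ℂ)) = δ ω • (μ ω - μ ω')) ∧ (∀ ω, ∀ w : ↥(W₁ ⊔ W₂), (w : L) ∉ W₂ → μ ω w = δ ω * (ω w : ℂ)) ∧ (∀ θ : L → ℂ, Cfsg.IsIrrCharacter L θ → (∀ ω, θ ≠ μ ω) → ∀ w : ↥(W₁ ⊔ W₂), (w : L) ∉ W₂ → θ w = 0) ∧ (∀ ω, ∃ n : ℤ, μ ω 1 - δ ω = n * (Nat.card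 W₁ : ℂ)) := by
  classical
  have h : TypeP.Setup K W₁ W₂ := ⟨hK, hKW₁, hKW₁', hW₁, hW₁c, hW₂c, hHall, hW₂K, hC⟩
  haveI := Fintype.ofFinite ↥(W₁ ⊔ W₂)
  haveI := Fintype.ofFinite W₁
  obtain ⟨x, hx, ho, hd⟩ := h.exists_family hodd
  have hP := h.isPair
  have hxc : ∀ ω, IsClassFunction L (x ω) := fun ω => isGC_isClassFunction (isGC_signed (hx ω))
  let δ : (↥(W₁ ⊔ W₂) →* ℂˣ) → ℂ := fun ω => if IsIrrCharacter L (x ω) then 1 else -1
  let μ : (↥(W₁ ⊔ W₂) →* ℂˣ) → L → ℂ := fun ω => δ ω • x ω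
  have hμ : ∀ ω, IsIrrCharacter L (μ ω) := by
    intro ω
    simp only [μ, δ]
    split_ifs with e
    · rwa [one_smul]
    · rw [neg_one_smul]; exact (hx ω).resolve_left e
  have hδ : ∀ ω, δ ω = 1 ∨ δ ω = -1 := fun ω => by simp only [δ]; split_ifs <;> simp
  have hδ2 : ∀ ω, δ ω * δ ω = 1 := fun ω => by rcases hδ ω with e | e <;> simp [e]
  have hxμ : ∀ ω, x ω = δ ω • μ ω := fun ω => by simp only [μ, smul_smul, hδ2, one_smul]
  have hsame : ∀ ω η, hP.lsnd ω = hP.lsnd η → δ ω = δ η := by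
    intro ω η e
    have h1 := congrArg Complex.re (hd ω η e).2
    rw [hxμ ω, hxμ η] at h1
    have p1 := re_degree_pos (hμ ω)
    have p2 := re_degree_pos (hμ η)
    rcases hδ ω with a | a <;> rcases hδ η with b | b <;> simp [a, b] at h1 ⊢ <;> linarith
  have hagree : ∀ ω ω' : ↥(W₁ ⊔ W₂) →* ℂˣ, (∀ w : ↥(W₁ ⊔ W₂), (w : L) ∈ W₂ → ω w = ω' w) →
      hP.lsnd ω = hP.lsnd ω' := fun ω ω' e => MonoidHom.ext fun w => e _ (hP.p₂_mem w)
  have hfrob : ∀ θ : L → ℂ, IsClassFunction L θ → ∀ η η' : ↥(W₁ ⊔ W₂) →* ℂˣ, hP.lsnd η = hP.lsnd η' →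
      classInner (fun w : ↥(W₁ ⊔ W₂) => θ w) (lin η) - classInner (fun w : ↥(W₁ ⊔ W₂) => θ w) (lin η') =
        classInner θ (x η) - classInner θ (x η') := fun θ hθ η η' e => by
    rw [← classInner_sub_right, ← frobenius_reciprocity' (W₁ ⊔ W₂) _ hθ, (hd η η' e).1, classInner_sub_right]
  have hxx : ∀ ω η, classInner (x ω) (x η) = if ω = η then 1 else 0 := fun ω η => by
    split_ifs with e
    · subst e; exact (classInner_signed (hx ω) (hx ω)).1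
    · exact ho ω η e
  have hval : ∀ ω, ∀ w : ↥(W₁ ⊔ W₂), (w : L) ∉ W₂ → x ω w = (ω w : ℂ) := by
    intro ω w hw
    have := h.vanish ((fun w : ↥(W₁ ⊔ W₂) => x ω w) - lin ω) (fun η η' e => ?_) w hw
    · exact sub_eq_zero.mp this
    · rw [classInner_sub_left, classInner_sub_left, sub_eq_sub_iff_sub_eq_sub, hfrob _ (hxc ω) η η' e,
        hxx, hxx, classInner_lin, classInner_lin]
  refine ⟨μ, δ, ?_, hμ, hδ, ?_, ?_, ?_, ?_⟩
  · intro ω η e
    by_contra hne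
    have h1 := classInner_irr_self (hμ ω)
    nth_rewrite 2 [e] at h1
    simp only [μ, classInner_smul_left, classInner_smul_right, ho ω η hne, mul_zero] at h1
    exact zero_ne_one h1
  · intro ω ω' e
    have hs := hagree ω ω' e
    refine ⟨hsame ω ω' hs, ?_⟩
    rw [smul_sub, ← hxμ]
    conv_rhs => arg 2; rw [hsame ω ω' hs, ← hxμ]
    exact (hd ω ω' hs).1
  · intro ω w hw
    show δ ω * x ω w = _
    rw [hval ω w hw]
  · intro θ hθ hne w hw
    have hzero : ∀ η, classInner θ (x η) = 0 := fun η => by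
      rw [hxμ, classInner_smul_right, classInner_irr_of_ne hθ (hμ η) (hne η), mul_zero]
    refine h.vanish (fun w : ↥(W₁ ⊔ W₂) => θ w) (fun η η' e => ?_) w hw
    have := hfrob θ (IsIrrCharacter.isClassFunction hθ) η η' e
    rw [hzero, hzero, sub_self, sub_eq_zero] at this
    exact this
  · intro ω
    set i : W₁ →* ↥(W₁ ⊔ W₂) := Subgroup.inclusion le_sup_left
    set f : W₁ → ℂ := (fun a : W₁ => x ω a) - lin (ω.comp i) with hfdef
    have hf0 : ∀ a : W₁, a ≠ 1 → f a = 0 := fun a ha => by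
      have hnot : (a : L) ∉ W₂ := fun hm => ha (Subtype.ext (by
        have := Subgroup.mem_inf.mpr ⟨a.2, hm⟩
        rwa [hP.disj, Subgroup.mem_bot] at this))
      show x ω a - ((ω (i a)) : ℂ) = 0
      rw [sub_eq_zero]
      exact hval ω (i a) hnot
    have hgc : IsGeneralizedCharacter W₁ f := isGC_sub
      (IsGeneralizedCharacter.restrict (isGC_signed (hx ω)) W₁) (isGC_of_irr (lin_irr _))
    obtain ⟨n, hn⟩ := classInner_gc_int hgc (isGC_of_irr isIrrCharacter_one)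
    have hsum : classInner f 1 = (Nat.card W₁ : ℂ)⁻¹ * f 1 := by
      unfold classInner
      rw [Finset.sum_eq_single (1 : W₁) (fun a _ ha => by rw [hf0 a ha, zero_mul])
        (fun hh => absurd (Finset.mem_univ _) hh)]
      simp
    have hf1 : f 1 = x ω 1 - 1 := by simp [f]
    have hcard : (Nat.card W₁ : ℂ) ≠ 0 := Nat.cast_ne_zero.mpr Nat.card_pos.ne'
    have hval1 : x ω 1 - 1 = (n : ℂ) * (Nat.card W₁ : ℂ) := by
      rw [← hn, hsum, hf1]; field_simp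
    rcases hδ ω with e | e
    · refine ⟨n, ?_⟩
      rw [e, ← hval1]; show δ ω * x ω 1 - 1 = _
      rw [e, one_mul]
    · refine ⟨-n, ?_⟩
      rw [e]; show δ ω * x ω 1 - -1 = _
      rw [e]; push_cast; linear_combination -hval1

end Cfsg.Agent.S1511
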