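import Cfsg.Statements.S1491
import Cfsg.Agent.Lib.Clifford.AbelianQuotient
import Cfsg.Agent.Lib.CharExtend.Coprime
-- import your own Cfsg.Agent.* helpers here

set_option autoImplicit false
open Cfsg Cfsg.Agent.Char Cfsg.Agent.CharApp

namespace Cfsg.Agent.S1491

/-- Let H be a normal subgroup of the finite group G and θ an irreducible character of H with inertia group T, where T/H is abelian (commutators of T lie in H) and the index of H in T is coprime to the order of H. Then the function induced from θ is the sum of a set of exactly [T:H] irreducible characters of G, each of degree [G:T] * θ(1). -/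
theorem result {G : Type*} [Group G] [Fintype G] (H T : Subgroup G) [hN : H.Normal] (θ : H → ℂ) (hθ : Cfsg.IsIrrCharacter H θ) (hT : ∀ g : G, g ∈ T ↔ ∀ h : H, θ ⟨g * h * g⁻¹, hN.conj_mem h h.2 g⟩ = θ h) (hab : ∀ x ∈ T, ∀ y ∈ T, x * y * x⁻¹ * y⁻¹ ∈ H) (hcop : Nat.Coprime (Nat.card H) (H.relIndex T)) : ∃ C : Finset (G → ℂ), (∀ χ ∈ C, Cfsg.IsIrrCharacter G χ) ∧ C.card = H.relIndex T ∧ Cfsg.indFun H θ = ∑ χ ∈ C, χ ∧ ∀ χ ∈ C, χ 1 = (T.index : ℂ) * θ 1 := by
  classical
  obtain rfl := Cfsg.Agent.Clifford.eq_inertia H hT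
  haveI := Fintype.ofFinite H
  obtain ⟨e, C, he, hC, hcard, hind, hdeg, he1⟩ := Cfsg.Agent.Clifford.inertia_decomp H hθ hab
  have hle : H ≤ inertia H θ := le_inertia H (IsIrrCharacter.isClassFunction hθ)
  let ι : H.subgroupOf (inertia H θ) ≃* H := Subgroup.subgroupOfEquivOfLe hle
  obtain ⟨η, hη, hηe⟩ := Cfsg.Agent.CharExtend.extends_of_coprime
    (θ := fun x : H.subgroupOf (inertia H θ) => θ (ι x)) (IsIrrCharacter.comp_equiv hθ ι)
    (fun g x => by
      have := (mem_inertia_iff H).mp g.2 (ι x)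
      exact this)
    (by rw [Nat.card_congr ι.toEquiv]; exact hcop)
  have e1 : e = 1 := he1 ⟨η, hη, fun n => (hηe (ι.symm n)).trans (congrArg θ (ι.apply_symm_apply n))⟩
  subst e1
  refine ⟨C, hC, by simpa using hcard, by simpa using hind, fun χ h => by simpa using hdeg χ h⟩

end Cfsg.Agent.S1491
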