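import Cfsg.Statements.S1513
import Cfsg.Agent.S1491
import Cfsg.Agent.S1496
import Cfsg.Agent.Lib.CharApp.PermLemma
-- import your own Cfsg.Agent.* helpers here

set_option autoImplicit false
open Cfsg Cfsg.Agent.Char Cfsg.Agent.CharApp

namespace Cfsg.Agent.S1513

/-- A coprime automorphism `x` fixes as many classes of `K` as there are elements in its abelian centraliser. -/
theorem card_fixed_classes {L : Type*} [Group L] [Finite L] (K D : Subgroup L) [hK : K.Normal] (x : L)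
    (hcop : Nat.Coprime (orderOf x) (Nat.card K)) (hD : ∀ k : L, k ∈ D ↔ k ∈ K ∧ k * x = x * k)
    (hab : ∀ a ∈ D, ∀ b ∈ D, a * b = b * a) :
    Nat.card {C : ConjClasses K // ConjClasses.map
      ((MulAut.conjNormal x : MulAut K) : K ≃* K).toMonoidHom C = C} = Nat.card D := by
  symm
  let f : D → {C : ConjClasses K // ConjClasses.map
      ((MulAut.conjNormal x : MulAut K) : K ≃* K).toMonoidHom C = C} := fun d =>
    ⟨ConjClasses.mk ⟨d, ((hD _).mp d.2).1⟩, congrArg ConjClasses.mk (Subtype.ext (by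
      show x * (d : L) * x⁻¹ = d
      rw [← ((hD _).mp d.2).2, mul_inv_cancel_right]))⟩
  have hx : x ∈ Subgroup.normalizer (K : Set L) := by
    rw [Subgroup.normalizer_eq_top_iff.mpr hK]; trivial
  refine Nat.card_eq_of_bijective f ⟨?_, ?_⟩
  · rintro ⟨w, hw⟩ ⟨w', hw'⟩ h
    obtain ⟨k, hk⟩ := isConj_iff.mp (ConjClasses.mk_eq_mk_iff_isConj.mp (Subtype.ext_iff.mp h))
    have hk' : (k : L) * w * (k : L)⁻¹ = w' := congrArg Subtype.val hk
    obtain ⟨hwK, hwx⟩ := (hD w).mp hw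
    obtain ⟨-, hwx'⟩ := (hD w').mp hw'
    set C := Subgroup.centralizer ({w} : Set L) ⊓ K
    have hxw : x * w * x⁻¹ = w := by rw [← hwx, mul_inv_cancel_right]
    have hxw' : x * w' * x⁻¹ = w' := by rw [← hwx', mul_inv_cancel_right]
    have hxwi : x⁻¹ * w * x = w := by rw [mul_assoc, hwx, inv_mul_cancel_left]
    have hxC : x ∈ Subgroup.normalizer (C : Set L) := by
      rw [Subgroup.mem_normalizer_iff]
      intro c
      simp only [C, Subgroup.mem_inf, Subgroup.mem_centralizer_singleton_iff]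
      constructor
      · rintro ⟨h1, h2⟩
        refine ⟨?_, hK.conj_mem _ h2 x⟩
        calc x * c * x⁻¹ * w = x * (c * (x⁻¹ * w * x)) * x⁻¹ := by group
          _ = x * (w * c) * x⁻¹ := by rw [hxwi, h1]
          _ = (x * w * x⁻¹) * (x * c * x⁻¹) := by group
          _ = w * (x * c * x⁻¹) := by rw [hxw]
      · rintro ⟨h1, h2⟩
        refine ⟨?_, by simpa [mul_assoc] using hK.conj_mem _ h2 x⁻¹⟩
        calc c * w = x⁻¹ * ((x * c * x⁻¹) * (x * w * x⁻¹)) * x := by group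
          _ = x⁻¹ * (w * (x * c * x⁻¹)) * x := by rw [hxw, h1]
          _ = (x⁻¹ * w * x) * c := by group
          _ = w * c := by rw [hxwi]
    -- `k⁻¹ x k x⁻¹` centralises `w`
    have hc : (k : L)⁻¹ * (x * k * x⁻¹) ∈ C := by
      refine Subgroup.mem_inf.mpr ⟨Subgroup.mem_centralizer_singleton_iff.mpr ?_,
        mul_mem (inv_mem k.2) (hK.conj_mem _ k.2 x)⟩
      have h1 : (x * k * x⁻¹) * w * (x * k * x⁻¹)⁻¹ = w' := by
        calc (x * k * x⁻¹) * w * (x * k * x⁻¹)⁻¹ = x * (k * (x⁻¹ * w * x) * (k : L)⁻¹) * x⁻¹ := by group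
          _ = w' := by rw [hxwi, hk', hxw']
      calc (k : L)⁻¹ * (x * k * x⁻¹) * w
          = (k : L)⁻¹ * ((x * k * x⁻¹) * w * (x * k * x⁻¹)⁻¹) * (x * k * x⁻¹) := by group
        _ = w * ((k : L)⁻¹ * (x * k * x⁻¹)) := by rw [h1, ← hk']; group
    obtain ⟨y, hy, c, hcC, hcx, hyc⟩ := Cfsg.Agent.S1496.result C x hxC
      (hcop.coprime_dvd_right (Subgroup.card_dvd_of_le inf_le_right)) _ hc
    have hconj : c * x = (y * (k : L)⁻¹) * x * (y * (k : L)⁻¹)⁻¹ := by rw [← hyc]; group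
    have hc1 : c = 1 := by
      have hord : orderOf (c * x) = orderOf x := by
        rw [hconj]; exact (MulAut.conj (y * (k : L)⁻¹)).orderOf_eq x
      have hco : Nat.Coprime (orderOf c) (orderOf x) := (hcop.coprime_dvd_right
        (Subgroup.orderOf_dvd_natCard K (Subgroup.mem_inf.mp hcC).2)).symm
      rw [Commute.orderOf_mul_eq_mul_orderOf_of_coprime hcx hco] at hord
      exact orderOf_eq_one_iff.mp (Nat.eq_of_mul_eq_mul_right (orderOf_pos x) (hord.trans (one_mul _).symm))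
    rw [hc1, one_mul] at hconj
    set z := (k : L) * y⁻¹ with hz
    have hzx : z * x = x * z := by
      have h3 : z⁻¹ * x * z = x := by
        rw [show z⁻¹ = y * (k : L)⁻¹ by rw [hz]; group]
        calc y * (k : L)⁻¹ * x * z = (y * (k : L)⁻¹) * x * (y * (k : L)⁻¹)⁻¹ := by rw [hz]; group
          _ = x := hconj.symm
      calc z * x = z * (z⁻¹ * x * z) := by rw [h3]
        _ = x * z := by group
    have hzw : z * w * z⁻¹ = w' := by
      have hyw : y⁻¹ * w = w * y⁻¹ :=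
        Subgroup.mem_centralizer_singleton_iff.mp (Subgroup.mem_inf.mp (inv_mem hy)).1
      calc z * w * z⁻¹ = (k : L) * (y⁻¹ * w) * y * (k : L)⁻¹ := by rw [hz]; group
        _ = w' := by rw [hyw, ← hk']; group
    have hzD : z ∈ D := (hD z).mpr ⟨mul_mem k.2 (inv_mem (Subgroup.mem_inf.mp hy).2), hzx⟩
    refine Subtype.ext ?_
    show w = w'
    rw [← hzw, hab z hzD w hw, mul_inv_cancel_right]
  · rintro ⟨C, hC⟩
    obtain ⟨y, rfl⟩ := ConjClasses.mk_surjective C
    obtain ⟨k, hk⟩ := isConj_iff.mp (ConjClasses.mk_eq_mk_iff_isConj.mp hC)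
    have hk' : (k : L) * (x * y * x⁻¹) * (k : L)⁻¹ = y := congrArg Subtype.val hk
    obtain ⟨h, hh, c, hcK, hcx, hhc⟩ := Cfsg.Agent.S1496.result K x hx hcop _ k.2
    have hky : ((k : L) * x) * y = y * ((k : L) * x) := by
      calc ((k : L) * x) * y = (k : L) * (x * y * x⁻¹) * (k : L)⁻¹ * ((k : L) * x) := by group
        _ = y * ((k : L) * x) := by rw [hk']
    set w := h * (y : L) * h⁻¹ with hw
    have hwc : Commute w (c * x) := by
      show w * (c * x) = (c * x) * w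
      rw [← hhc, hw]
      calc h * (y : L) * h⁻¹ * (h * ((k : L) * x) * h⁻¹) = h * ((y : L) * ((k : L) * x)) * h⁻¹ := by group
        _ = h * (((k : L) * x) * y) * h⁻¹ := by rw [hky]
        _ = _ := by group
    have hwx : Commute w x := by
      have hco : Nat.Coprime (orderOf c) (orderOf x) :=
        (hcop.coprime_dvd_right (Subgroup.orderOf_dvd_natCard K hcK)).symm
      have h1 : (c * x) ^ orderOf c = x ^ orderOf c := by
        rw [Commute.mul_pow hcx, pow_orderOf_eq_one, one_mul]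
      obtain ⟨m, hm⟩ := exists_pow_eq_self_of_coprime (x := x) (n := orderOf c) hco
      rw [← hm, ← h1]
      exact (hwc.pow_right _).pow_right _
    have hwK : w ∈ K := by rw [hw]; exact hK.conj_mem _ y.2 h
    refine ⟨⟨w, (hD w).mpr ⟨hwK, hwx⟩⟩, Subtype.ext (ConjClasses.mk_eq_mk_iff_isConj.mpr ?_)⟩
    exact (isConj_iff.mpr ⟨⟨h, hh⟩, Subtype.ext hw.symm⟩).symm

/-- Let L be a finite group with K normal with complement W₁ ≠ 1 a cyclic Hall subgroup, and W₂ ≠ 1 a cyclic subgroup of K equal to C_K(x) for every non-identity x ∈ W₁, with W₁W₂ of odd order. For an irreducible character θ of K: if θ is not fixed under conjugation by some element of W₁, then the function induced from θ to L is an irreducible character of L; and the irreducible characters of K fixed by all of W₁ are exactly Nat.card W₂ in number, each inducing to the sum of Nat.card W₁ pairwise distinct irreducible characters of L. -/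
theorem result {L : Type*} [Group L] [Fintype L] (K W₁ W₂ : Subgroup L) [hK : K.Normal] (hKW₁ : K ⊓ W₁ = ⊥) (hKW₁' : K ⊔ W₁ = ⊤) (hW₁ : W₁ ≠ ⊥) (hW₁c : IsCyclic W₁) (hHall : Nat.Coprime (Nat.card W₁) W₁.index) (hW₂ : W₂ ≠ ⊥) (hW₂c : IsCyclic W₂) (hW₂K : W₂ ≤ K) (hC : ∀ x ∈ W₁, x ≠ 1 → K ⊓ Subgroup.centralizer ({x} : Set L) = W₂) (hodd : Odd (Nat.card ↥(W₁ ⊔ W₂))) : (∀ θ : K → ℂ, Cfsg.IsIrrCharacter K θ → (∃ x ∈ W₁, (fun k : K => θ ⟨x * k * x⁻¹, hK.conj_mem (k : L) k.2 x⟩) ≠ θ) → Cfsg.IsIrrCharacter L (Cfsg.indFun K θ)) ∧ Nat.card {θ : Cfsg.IrrCharacter K // ∀ x ∈ W₁, (fun k : K => (θ : K → ℂ) ⟨x * k * x⁻¹, hK.conj_mem (k : L) k.2 x⟩) = θ} = Nat.card W₂ ∧ (∀ θ : K → ℂ, Cfsg.IsIrrCharacter K θ → (∀ x ∈ W₁, (fun k : K => θ ⟨x * k * x⁻¹, hK.conj_mem (k : L) k.2 x⟩) = θ) → ∃ C : Finset (L → ℂ), C.card = Nat.card W₁ ∧ (∀ μ ∈ C, Cfsg.IsIrrCharacter L μ) ∧ Cfsg.indFun K θ = ∑ μ ∈ C, μ) := by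
  classical
  haveI := Fintype.ofFinite K
  have hdisj : Disjoint K W₁ := disjoint_iff.mpr hKW₁
  have hcomp : Subgroup.IsComplement' K W₁ := Subgroup.isComplement'_of_disjoint_and_mul_eq_univ hdisj
    (by rw [← Subgroup.normal_mul, hKW₁']; rfl)
  have hidx : W₁.index = Nat.card K := hcomp.index_eq_card
  have hcop : Nat.Coprime (Nat.card K) (Nat.card W₁) := (hidx ▸ hHall).symm
  have hD : ∀ x ∈ W₁, x ≠ 1 → ∀ k : L, k ∈ W₂ ↔ k ∈ K ∧ k * x = x * k := by
    intro x hx h1 k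
    rw [← hC x hx h1, Subgroup.mem_inf, Subgroup.mem_centralizer_singleton_iff]
  have hab : ∀ a ∈ W₂, ∀ b ∈ W₂, a * b = b * a := fun a ha b hb => by
    haveI := hW₂c
    obtain ⟨g, hg⟩ := IsCyclic.exists_generator (α := W₂)
    obtain ⟨i, hi⟩ := Subgroup.mem_zpowers_iff.mp (hg ⟨a, ha⟩)
    obtain ⟨j, hj⟩ := Subgroup.mem_zpowers_iff.mp (hg ⟨b, hb⟩)
    have h := congrArg Subtype.val ((zpow_mul_comm g i j))
    rw [hi, hj] at h
    exact h
  -- the action on functions
  let act : L → (K → ℂ) → (K → ℂ) := fun x θ k => θ ⟨x * k * x⁻¹, hK.conj_mem (k : L) k.2 x⟩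
  let F : L → Type _ := fun x => {θ : IrrCharacter K // act x (θ : K → ℂ) = θ}
  have hcount : ∀ x ∈ W₁, x ≠ 1 → Nat.card (F x) = Nat.card W₂ := by
    intro x hx h1
    rw [← card_fixed_classes K W₂ x
      ((hcop.coprime_dvd_right (Subgroup.orderOf_dvd_natCard W₁ hx)).symm) (hD x hx h1) hab,
      card_fixed_automorphism]
    exact Nat.card_congr (Equiv.subtypeEquivRight fun θ => Iff.rfl)
  obtain ⟨x₀, hx₀⟩ := hW₁c.exists_generator
  have hgen : ∀ x ∈ W₁, ∀ θ : K → ℂ, act (x₀ : L) θ = θ → act x θ = θ := by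
    intro x hx θ hθ
    let S : Subgroup L :=
      { carrier := {y | act y θ = θ}
        one_mem' := by funext k; simp [act]
        mul_mem' := fun {a b} ha hb => by
          funext k
          have h1 := congrFun ha ⟨b * k * b⁻¹, hK.conj_mem (k : L) k.2 b⟩
          have h2 := congrFun hb k
          simp only [act] at h1 h2 ⊢
          rw [← h2, ← h1]
          exact congrArg θ (Subtype.ext (by group))
        inv_mem' := fun {a} ha => by
          funext k
          have h1 := congrFun ha ⟨a⁻¹ * k * a⁻¹⁻¹, hK.conj_mem (k : L) k.2 a⁻¹⟩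
          simp only [act] at h1 ⊢
          rw [← h1]
          exact congrArg θ (Subtype.ext (by group)) }
    obtain ⟨i, hi⟩ := Subgroup.mem_zpowers_iff.mp (hx₀ ⟨x, hx⟩)
    have := S.zpow_mem (show (x₀ : L) ∈ S from hθ) i
    rw [← SubgroupClass.coe_zpow, hi] at this
    exact this
  have hx₀1 : (x₀ : L) ≠ 1 := by
    intro h
    apply hW₁
    rw [eq_bot_iff]
    intro x hx
    obtain ⟨i, hi⟩ := Subgroup.mem_zpowers_iff.mp (hx₀ ⟨x, hx⟩)
    have := congrArg Subtype.val hi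
    rw [SubgroupClass.coe_zpow, h, one_zpow] at this
    exact this.symm
  -- one element fixes exactly what `W₁` fixes
  have hall : ∀ x ∈ W₁, x ≠ 1 → ∀ θ : IrrCharacter K, act x (θ : K → ℂ) = θ → act (x₀ : L) (θ : K → ℂ) = θ := by
    intro x hx h1 θ hθ
    haveI : Finite (F x) := Subtype.finite
    have hinj : Function.Injective (fun θ : F x₀ => (⟨θ.1, hgen x hx _ θ.2⟩ : F x)) := fun a b h => by
      have := congrArg Subtype.val h
      exact Subtype.ext this
    haveI : Finite (F x₀) := Subtype.finite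
    obtain ⟨θ', hθ'⟩ := ((Nat.bijective_iff_injective_and_card _).mpr
      ⟨hinj, by rw [hcount x₀ x₀.2 hx₀1, hcount x hx h1]⟩).2 ⟨θ, hθ⟩
    have e : θ'.1 = θ := congrArg Subtype.val hθ'
    rw [← e]; exact θ'.2
  have hdec : ∀ g : L, ∃ k ∈ K, ∃ w ∈ W₁, k * w = g := by
    intro g
    obtain ⟨⟨k, w⟩, h⟩ := hcomp.2 g
    exact ⟨k, k.2, w, w.2, h⟩
  have hKfix : ∀ θ : K → ℂ, IsClassFunction K θ → ∀ k ∈ K, act k θ = θ :=
    fun θ hθ k hk => funext fun y => hθ y ⟨k, hk⟩
  have hmul : ∀ a b : L, ∀ θ : K → ℂ, act (a * b) θ = act b (act a θ) := fun a b θ => funext fun k =>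
    congrArg θ (Subtype.ext (by group))
  have habT : ∀ T : Subgroup L, ∀ u ∈ T, ∀ v ∈ T, u * v * u⁻¹ * v⁻¹ ∈ K := by
    intro T u _ v _
    obtain ⟨k, hk, w, hw, rfl⟩ := hdec u
    obtain ⟨k', hk', w', hw', rfl⟩ := hdec v
    haveI := hW₁c
    have hcomm : w * w' = w' * w := by
      obtain ⟨i, hi⟩ := Subgroup.mem_zpowers_iff.mp (hx₀ ⟨w, hw⟩)
      obtain ⟨j, hj⟩ := Subgroup.mem_zpowers_iff.mp (hx₀ ⟨w', hw'⟩)
      have h := congrArg Subtype.val (zpow_mul_comm x₀ i j)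
      rw [hi, hj] at h
      exact h
    rw [← QuotientGroup.eq_one_iff]
    simp only [QuotientGroup.mk_mul, QuotientGroup.mk_inv]
    rw [(QuotientGroup.eq_one_iff k).mpr hk, (QuotientGroup.eq_one_iff k').mpr hk', one_mul, one_mul,
      ← QuotientGroup.mk_mul, hcomm, QuotientGroup.mk_mul]
    group
  refine ⟨?_, ?_, ?_⟩
  · rintro θ hθ ⟨x, hx, hne⟩
    have hT : ∀ g : L, g ∈ K ↔ ∀ h : K, θ ⟨g * h * g⁻¹, hK.conj_mem h h.2 g⟩ = θ h := by
      intro g
      refine ⟨fun hg h => congrFun (hKfix θ (IsIrrCharacter.isClassFunction hθ) g hg) h, fun hg => ?_⟩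
      obtain ⟨k, hk, w, hw, rfl⟩ := hdec g
      by_cases hw1 : w = 1
      · simpa [hw1] using hk
      have h1 : act (k * w) θ = θ := funext hg
      rw [hmul, hKfix θ (IsIrrCharacter.isClassFunction hθ) k hk] at h1
      exact absurd (hgen x hx θ (hall w hw hw1 ⟨θ, hθ⟩ h1)) hne
    obtain ⟨C, hC', hcard, hind, -⟩ := Cfsg.Agent.S1491.result K K θ hθ hT (habT K)
      (by rw [Subgroup.relIndex_self]; exact Nat.coprime_one_right _)
    rw [Subgroup.relIndex_self, Finset.card_eq_one] at hcard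
    obtain ⟨μ, rfl⟩ := hcard
    rw [hind, Finset.sum_singleton]
    exact hC' μ (Finset.mem_singleton_self μ)
  · rw [← hcount x₀ x₀.2 hx₀1]
    exact Nat.card_congr (Equiv.subtypeEquivRight fun θ =>
      ⟨fun h => h x₀ x₀.2, fun h x hx => hgen x hx _ h⟩)
  · intro θ hθ hfix
    have hT : ∀ g : L, g ∈ (⊤ : Subgroup L) ↔ ∀ h : K, θ ⟨g * h * g⁻¹, hK.conj_mem h h.2 g⟩ = θ h := by
      intro g
      simp only [Subgroup.mem_top, true_iff]
      obtain ⟨k, hk, w, hw, rfl⟩ := hdec g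
      have h1 : act (k * w) θ = θ := by
        rw [hmul, hKfix θ (IsIrrCharacter.isClassFunction hθ) k hk]
        exact hfix w hw
      exact congrFun h1
    have hKi : K.index = Nat.card W₁ := hcomp.symm.index_eq_card
    obtain ⟨C, hC', hcard, hind, -⟩ := Cfsg.Agent.S1491.result K ⊤ θ hθ hT (habT ⊤)
      (by rw [Subgroup.relIndex_top_right, hKi]; exact hcop)
    exact ⟨C, by rw [hcard, Subgroup.relIndex_top_right, hKi], hC', hind⟩

end Cfsg.Agent.S1513
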