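import Cfsg.Statements.S1546
import Cfsg.Agent.EqLemmas

set_option autoImplicit false
open Cfsg

namespace Cfsg.Agent.S1546

/-- Let p and q be odd primes and N = (p ^ q − 1) / (p − 1) = 1 + p + ⋯ + p^(q−1). Then N is odd; if p ≡ 1 (mod q) then q ∣ N; and if p is not ≡ 1 (mod q) then N is coprime to p − 1 and every divisor of N is ≡ 1 (mod q). -/
theorem result (p q : ℕ) (hp : p.Prime) (hq : q.Prime) (hp2 : p ≠ 2) (hq2 : q ≠ 2) : Odd ((p ^ q - 1) / (p - 1)) ∧ (p % q = 1 → q ∣ (p ^ q - 1) / (p - 1)) ∧ (p % q ≠ 1 → Nat.Coprime ((p ^ q - 1) / (p - 1)) (p - 1) ∧ ∀ x : ℕ, x ∣ (p ^ q - 1) / (p - 1) → x % q = 1) := by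
  set N := (p ^ q - 1) / (p - 1) with hN
  have hsum : N = ∑ i ∈ Finset.range q, p ^ i := (Nat.geomSum_eq hp.two_le q).symm
  have hpodd : Odd p := hp.odd_of_ne_two hp2
  have hqodd : Odd q := hq.odd_of_ne_two hq2
  have hdvd : p % q = 1 ↔ q ∣ p - 1 := by
    rw [← Nat.modEq_iff_dvd' hp.one_le]
    exact ⟨fun h => by rw [Nat.ModEq, h, Nat.one_mod_eq_one.mpr hq.ne_one],
      fun h => by rw [← h, Nat.one_mod_eq_one.mpr hq.ne_one]⟩
  have hmod : ∀ n, p ≡ 1 [MOD n] → N ≡ q [MOD n] := by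
    intro n hn
    rw [← ZMod.natCast_eq_natCast_iff] at hn ⊢
    rw [hsum, Nat.cast_sum]
    simp [Nat.cast_pow, hn]
  refine ⟨?_, ?_, ?_⟩
  · rw [Nat.odd_iff]
    have := hmod 2 (by rw [Nat.ModEq, Nat.odd_iff.mp hpodd])
    rw [this, Nat.odd_iff.mp hqodd]
  · intro h
    have h1 := hmod q (by rw [Nat.ModEq, h, Nat.one_mod_eq_one.mpr hq.ne_one])
    exact Nat.modEq_zero_iff_dvd.mp (h1.trans (Nat.modEq_zero_iff_dvd.mpr dvd_rfl))
  · intro h
    have hnd : ¬ q ∣ p - 1 := fun hd => h (hdvd.mpr hd)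
    have hcop : Nat.Coprime N (p - 1) := by
      have h1 := (hmod (p - 1) ((Nat.modEq_iff_dvd' hp.one_le).mpr dvd_rfl).symm).gcd_eq
      rw [Nat.Coprime, h1]
      exact (Nat.Prime.coprime_iff_not_dvd hq).mpr hnd
    refine ⟨hcop, fun x hx => ?_⟩
    haveI := Fact.mk hq
    have hprime : ∀ r, r.Prime → r ∣ N → r % q = 1 := by
      intro r hr hrN
      haveI := Fact.mk hr
      have hq1 : (p : ZMod r) ^ q = 1 := by
        have hmul : N * (p - 1) = p ^ q - 1 := by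
          rw [hN]; exact Nat.div_mul_cancel (Nat.sub_one_dvd_pow_sub_one p q)
        have h0 : ((p ^ q - 1 : ℕ) : ZMod r) = 0 :=
          (ZMod.natCast_eq_zero_iff _ _).mpr (hmul ▸ hrN.mul_right _)
        rw [Nat.cast_sub (Nat.one_le_pow _ _ hp.pos), Nat.cast_pow, Nat.cast_one, sub_eq_zero] at h0
        exact h0
      have hne : (p : ZMod r) ≠ 1 := by
        intro h1
        have hd : r ∣ p - 1 := by
          rw [← ZMod.natCast_eq_zero_iff, Nat.cast_sub hp.one_le, h1, Nat.cast_one, sub_self]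
        exact hr.ne_one (Nat.eq_one_of_dvd_coprimes hcop hrN hd)
      have ho : orderOf (p : ZMod r) = q := orderOf_eq_prime hq1 hne
      have hp0 : (p : ZMod r) ≠ 0 := fun h0 => by simp [h0, zero_pow hq.ne_zero] at hq1
      have hqr : q ∣ r - 1 := ho ▸ ZMod.orderOf_dvd_card_sub_one hp0
      have := (Nat.modEq_iff_dvd' hr.one_le).mpr hqr
      rw [← this, Nat.one_mod_eq_one.mpr hq.ne_one]
    have hN0 : N ≠ 0 := by
      rw [hsum]
      exact (Finset.sum_pos (fun i _ => pow_pos hp.pos i) ⟨0, Finset.mem_range.mpr hq.pos⟩).ne'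
    clear_value N
    induction x using Nat.recOnMul with
    | zero => exact absurd (zero_dvd_iff.mp hx) hN0
    | one => exact Nat.one_mod_eq_one.mpr hq.ne_one
    | prime r hr => exact hprime r hr hx
    | mul a b iha ihb =>
      rw [Nat.mul_mod, iha (dvd_of_mul_right_dvd hx), ihb (dvd_of_mul_left_dvd hx), mul_one,
        Nat.one_mod_eq_one.mpr hq.ne_one]

end Cfsg.Agent.S1546
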