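import Cfsg.Statements.S1545
import Cfsg.Agent.Lib.FixedFormula.Frobenius
-- import your own Cfsg.Agent.* helpers here

set_option autoImplicit false
open Cfsg Cfsg.Agent.FixedFormula

namespace Cfsg.Agent.S1545

/-- Let X be a finite group with subgroups U, E and H such that U and E generate a subgroup UE = U ⊔ E normalising H, with U normal in UE, U ⊓ E = ⊥, U ≠ ⊥, E ≠ ⊥, every non-identity element of E commuting with no non-identity element of U (UE is a Frobenius group with kernel U acting on H by conjugation), H solvable, H ⊓ (U ⊔ E) = ⊥ and the orders of H and U ⊔ E coprime. Then Nat.card (H ⊓ C(U ⊔ E)) ^ Nat.card E * Nat.card H = Nat.card (H ⊓ C(E)) ^ Nat.card E * Nat.card (H ⊓ C(U)), where C(·) denotes the centraliser. -/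
theorem result {X : Type*} [Group X] [Finite X] (U E H : Subgroup X) (hU1 : U ≠ ⊥) (hE1 : E ≠ ⊥) (hUE : U ⊓ E = ⊥) (hUn : ∀ e ∈ E, ∀ u ∈ U, e * u * e⁻¹ ∈ U) (hfpf : ∀ e ∈ E, e ≠ 1 → ∀ u ∈ U, e * u = u * e → u = 1) (hHn : ∀ x ∈ U ⊔ E, ∀ h ∈ H, x * h * x⁻¹ ∈ H) (hdisj : H ⊓ (U ⊔ E) = ⊥) (hsolv : Group.IsSolvable H) (hcop : Nat.Coprime (Nat.card H) (Nat.card ↥(U ⊔ E))) : Nat.card ↥(H ⊓ Subgroup.centralizer ((U ⊔ E : Subgroup X) : Set X)) ^ Nat.card E * Nat.card H = Nat.card ↥(H ⊓ Subgroup.centralizer (E : Set X)) ^ Nat.card E * Nat.card ↥(H ⊓ Subgroup.centralizer (U : Set X)) := by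
  classical
  set M := U ⊔ E with hM
  have hn : M ≤ Subgroup.normalizer (H : Set X) := fun x hx => by
    rw [Subgroup.mem_normalizer_iff]
    exact fun h => ⟨hHn x hx h, fun hh => by simpa [mul_assoc] using hHn x⁻¹ (inv_mem hx) _ hh⟩
  let φ : M →* MulAut H := H.normalizerMonoidHom.comp (Subgroup.inclusion hn)
  have hφ : ∀ (g : M) (h : H), ((φ g h : H) : X) = g * h * (g : X)⁻¹ := fun g h => rfl
  have hUle : U ≤ M := le_sup_left
  have hEle : E ≤ M := le_sup_right
  have hEn : E ≤ Subgroup.normalizer (U : Set X) := fun e he => by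
    rw [Subgroup.mem_normalizer_iff]
    exact fun u => ⟨hUn e he u, fun hh => by simpa [mul_assoc] using hUn e⁻¹ (inv_mem he) _ hh⟩
  have hF : FrobData (U.subgroupOf M) (E.subgroupOf M) := by
    refine ⟨(Subgroup.normal_subgroupOf_iff_le_normalizer hUle).mpr (sup_le Subgroup.le_normalizer hEn),
      ?_, ?_, ?_⟩
    · rw [eq_bot_iff]
      intro x hx
      obtain ⟨h1, h2⟩ := Subgroup.mem_inf.mp hx
      exact Subgroup.mem_bot.mpr (Subtype.ext (Subgroup.mem_bot.mp (hUE.le
        (Subgroup.mem_inf.mpr ⟨Subgroup.mem_subgroupOf.mp h1, Subgroup.mem_subgroupOf.mp h2⟩))))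
    · rw [← Subgroup.subgroupOf_sup hUle hEle, Subgroup.subgroupOf_self]
    · intro e he he1 u hu h
      exact Subtype.ext (hfpf e (Subgroup.mem_subgroupOf.mp he) (fun e1 => he1 (Subtype.ext e1)) u
        (Subgroup.mem_subgroupOf.mp hu) (congrArg Subtype.val h))
  have hfix : ∀ K : Subgroup X, K ≤ M →
      Nat.card (fixBy φ (K.subgroupOf M)) = Nat.card ↥(H ⊓ Subgroup.centralizer (K : Set X)) := fun K hK =>
    Nat.card_congr
      { toFun := fun h => ⟨(h.1 : X), Subgroup.mem_inf.mpr ⟨h.1.2, Subgroup.mem_centralizer_iff.mpr fun k hk =>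
          mul_inv_eq_iff_eq_mul.mp ((hφ ⟨k, hK hk⟩ h.1).symm.trans
            (congrArg Subtype.val (h.2 ⟨k, hK hk⟩ (Subgroup.mem_subgroupOf.mpr hk))))⟩⟩
        invFun := fun h => ⟨⟨(h : X), (Subgroup.mem_inf.mp h.2).1⟩, fun k hk => Subtype.ext (by
          rw [hφ]
          exact mul_inv_eq_iff_eq_mul.mpr
            (Subgroup.mem_centralizer_iff.mp (Subgroup.mem_inf.mp h.2).2 k (Subgroup.mem_subgroupOf.mp hk)))⟩
        left_inv := fun h => rfl
        right_inv := fun h => rfl }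
  have hmain := formula hF φ hsolv hcop
  rw [← Subgroup.subgroupOf_self (H := M), hfix M le_rfl, hfix E hEle, hfix U hUle,
    Nat.card_congr (Subgroup.subgroupOfEquivOfLe hEle).toEquiv] at hmain
  exact hmain

end Cfsg.Agent.S1545
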