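import Cfsg.Statements.S1487
import Cfsg.Agent.Lib.Char.Orth

set_option autoImplicit false
open Cfsg

namespace Cfsg.Agent.S1487

open Cfsg.Agent.Char

/-- Let A ≤ H be normal subgroups of the finite group G and θ an irreducible character of H. Then θ takes the value θ 1 on all of A if and only if the function induced from θ to G takes its value at 1 on all of A. -/
theorem result {G : Type*} [Group G] [Fintype G] (A H : Subgroup G) [A.Normal] [H.Normal] (hAH : A ≤ H) (θ : H → ℂ) (hθ : Cfsg.IsIrrCharacter H θ) : (∀ a : H, (a : G) ∈ A → θ a = θ 1) ↔ (∀ a : G, a ∈ A → Cfsg.indFun H θ a = Cfsg.indFun H θ 1) := by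
  classical
  have hext : ∀ h : H, Cfsg.extendByZero H θ (h : G) = θ h := fun h =>
    (Subtype.val_injective).extend_apply θ 0 h
  have hmem : ∀ a ∈ A, ∀ x : G, x⁻¹ * a * x ∈ A := fun a ha x => by
    simpa using (inferInstance : A.Normal).conj_mem a ha x⁻¹
  have hone : ∀ x : G, Cfsg.extendByZero H θ (x⁻¹ * 1 * x) = θ 1 := fun x => by
    rw [show x⁻¹ * 1 * x = ((1 : H) : G) by simp, hext]
  have hc := IsIrrCharacter.isCharacter hθ
  obtain ⟨n, hn⟩ := IsCharacter.exists_degree hc
  constructor
  · intro h a ha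
    unfold Cfsg.indFun
    congr 1
    refine Finset.sum_congr rfl fun x _ => ?_
    rw [hone]
    exact (hext ⟨x⁻¹ * a * x, hAH (hmem a ha x)⟩).trans (h _ (hmem a ha x))
  · intro h a ha
    have hbound : ∀ b : H, (θ b).re ≤ n ∧ ((θ b).re = n → θ b = θ 1) := fun b => by
      have hle : ‖θ b‖ ≤ n := by
        have := IsCharacter.norm_le hc b
        rw [hn] at this; simpa using this
      refine ⟨(Complex.re_le_norm _).trans hle, fun he => ?_⟩
      have hsq : (θ b).re ^ 2 + (θ b).im ^ 2 ≤ (n : ℝ) ^ 2 := by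
        have := pow_le_pow_left₀ (norm_nonneg _) hle 2
        rw [Complex.sq_norm, Complex.normSq_apply] at this
        linarith [this]
      have him : (θ b).im = 0 := by nlinarith
      rw [hn]
      exact Complex.ext (by simpa using he) (by simpa using him)
    have hsum := h a ha
    unfold Cfsg.indFun at hsum
    have h0 := congrArg Complex.re
      (mul_left_cancel₀ (inv_ne_zero (Nat.cast_ne_zero.mpr Nat.card_pos.ne')) hsum)
    simp only [Complex.re_sum, hone, hn, Complex.natCast_re] at h0
    have hle : ∀ x ∈ (Finset.univ : Finset G),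
        (Cfsg.extendByZero H θ (x⁻¹ * (a : G) * x)).re ≤ (n : ℝ) := fun x _ => by
      rw [show Cfsg.extendByZero H θ (x⁻¹ * (a : G) * x) = θ ⟨_, hAH (hmem a ha x)⟩ from
        hext ⟨_, hAH (hmem a ha x)⟩]
      exact (hbound _).1
    have h1 := (Finset.sum_eq_sum_iff_of_le hle).mp h0 1 (Finset.mem_univ _)
    rw [show (1 : G)⁻¹ * (a : G) * 1 = (a : G) by simp, hext] at h1
    exact (hbound a).2 h1

end Cfsg.Agent.S1487
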