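import Cfsg.Statements.S1503
import Cfsg.Agent.Lib.CyclicTI.Basic

set_option autoImplicit false
open Cfsg

namespace Cfsg.Agent.S1503

open Cfsg.Agent Cfsg.Agent.Char Cfsg.Agent.CyclicTI

/-- Let W₁, W₂ ≤ G with W = W₁ ⊔ W₂ and let χ an orthonormal family of irreducible characters of G up to sign, indexed by the linear characters ω of W, with χ_1 = 1, χ_ω = ω on W outside W₁ ∪ W₂, and the induction identity for (1 − φ)(1 − ψ). If θ is an irreducible character of G orthogonal to χ ω for every linear character ω of W, then θ vanishes at every element of W lying outside W₁ ∪ W₂. -/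
theorem result {G : Type*} [Group G] [Fintype G] (W₁ W₂ : Subgroup G) (hW : Cfsg.IsSelfNormalizingCyclic W₁ W₂) (χ : (↥(W₁ ⊔ W₂) →* ℂˣ) → (G → ℂ)) (hχ : Cfsg.IsCyclicTIFamily W₁ W₂ χ) (θ : G → ℂ) (hθ : Cfsg.IsIrrCharacter G θ) (horth : ∀ ω, Cfsg.classInner θ (χ ω) = 0) (w : ↥(W₁ ⊔ W₂)) (hw₁ : (w : G) ∉ W₁) (hw₂ : (w : G) ∉ W₂) : θ w = 0 := by
  classical
  have hP := isPair_of_selfNormalizing hW
  have := finite_lin ↥(W₁ ⊔ W₂)
  have : Fintype (↥(W₁ ⊔ W₂) →* ℂˣ) := Fintype.ofFinite _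
  let f : ↥(W₁ ⊔ W₂) → ℂ := fun u => if (u : G) ∈ W₁ ∨ (u : G) ∈ W₂ then 0 else θ u
  have hf : ∀ u : ↥(W₁ ⊔ W₂), (u : G) ∈ W₁ ∨ (u : G) ∈ W₂ → f u = 0 := fun u hu => if_pos hu
  have h0 : ∀ ω, Cfsg.classInner f (hP.alpha ω) = 0 := by
    intro ω
    have h := inner_alpha hP hχ (IsIrrCharacter.isClassFunction hθ) ω
    simp only [horth, sub_zero, add_zero] at h
    refine Eq.trans ?_ h
    unfold Cfsg.classInner
    congr 1
    refine Finset.sum_congr rfl fun u _ => ?_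
    by_cases hu : (u : G) ∈ W₁ ∨ (u : G) ∈ W₂
    · rw [hP.alpha_apply_mem ω hu, map_zero, mul_zero, mul_zero]
    · simp [f, hu]
  have hff : Cfsg.classInner f f = 0 := by
    conv_lhs => arg 2; rw [hP.expansion_alpha (comm_of_selfNormalizing hW) f hf]
    rw [classInner_sum_right]
    exact Finset.sum_eq_zero fun ω _ => by rw [classInner_smul_right, h0, mul_zero]
  have := congrFun (classInner_self_eq_zero.mp hff) w
  simpa [f, hw₁, hw₂] using this

end Cfsg.Agent.S1503
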