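import Cfsg.Statements.S1470
import Cfsg.Agent.EqLemmas

set_option autoImplicit false
open Cfsg

namespace Cfsg.Agent.S1470

/-- Let p and q be odd primes with (p^q − 1)/(p − 1) coprime to p − 1, and let E be the set of elements a of the field with p ^ q elements whose norm to the prime field is 1 and for which 2 − a also has norm 1. If a⁻¹ ∈ E for every a ∈ E and E has at least two elements, then p ≤ q. -/
theorem result (p q : ℕ) [Fact p.Prime] [Fact q.Prime] (hp : p ≠ 2) (hq : q ≠ 2) (hA : Nat.Coprime ((p ^ q - 1) / (p - 1)) (p - 1))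
    (hinv : ∀ a ∈ {a : GaloisField p q | Algebra.norm (ZMod p) a = 1 ∧ Algebra.norm (ZMod p) (2 - a) = 1}, a⁻¹ ∈ {a : GaloisField p q | Algebra.norm (ZMod p) a = 1 ∧ Algebra.norm (ZMod p) (2 - a) = 1})
    (h2 : 2 ≤ Set.ncard {a : GaloisField p q | Algebra.norm (ZMod p) a = 1 ∧ Algebra.norm (ZMod p) (2 - a) = 1}) :
    p ≤ q := by
  set E := {a : GaloisField p q | Algebra.norm (ZMod p) a = 1 ∧ Algebra.norm (ZMod p) (2 - a) = 1} with hE
  haveI : Fintype (GaloisField p q) := Fintype.ofFinite _
  have hfr : Module.finrank (ZMod p) (GaloisField p q) = q :=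
    GaloisField.finrank p (Fact.out : q.Prime).ne_zero
  -- a point different from 1
  obtain ⟨a, ha, ha1⟩ : ∃ a ∈ E, a ≠ 1 :=
    Set.exists_ne_of_one_lt_ncard (by omega) 1
  set b := a - 1 with hb
  have hb0 : b ≠ 0 := sub_ne_zero.2 ha1
  have hnorm1 : Algebra.norm (ZMod p) (1 : GaloisField p q) = 1 := map_one _
  -- 1 + k b has norm one for all natural k
  have key : ∀ k : ℕ, Algebra.norm (ZMod p) (1 + (k : GaloisField p q) * b) = 1 ∧
      (1 + ((k + 1 : ℕ) : GaloisField p q) * b) / (1 + (k : GaloisField p q) * b) ∈ E := by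
    intro k
    induction k with
    | zero => simpa [hb] using ha
    | succ k ih =>
      obtain ⟨hk, hmem⟩ := ih
      set u := 1 + (k : GaloisField p q) * b with hu
      set v := 1 + ((k + 1 : ℕ) : GaloisField p q) * b with hv
      have hu0 : u ≠ 0 := fun h => by simp [h] at hk
      have hvn : Algebra.norm (ZMod p) v = 1 := by
        have h1 : v = v / u * u := (div_mul_cancel₀ v hu0).symm
        rw [h1, map_mul, hk, hmem.1, one_mul]
      refine ⟨hvn, ?_⟩
      have hv0 : v ≠ 0 := fun h => by simp [h] at hvn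
      have hw := hinv _ hmem
      rw [inv_div] at hw
      have hstep : (1 + ((k + 1 + 1 : ℕ) : GaloisField p q) * b) / v = 2 - u / v := by
        rw [eq_sub_iff_add_eq, ← add_div, div_eq_iff hv0, hu, hv]
        push_cast; ring
      rw [hstep]
      exact ⟨hw.2, by rw [sub_sub_cancel]; exact hw.1⟩
  by_contra hlt
  push Not at hlt
  -- the norm of 1 + X b as a polynomial of degree q
  open Polynomial in
  obtain ⟨P, hPdeg, hPeval, hPlead⟩ : ∃ P : Polynomial (GaloisField p q), P.natDegree ≤ q ∧
      (∀ k : ℕ, P.eval (k : GaloisField p q) = 0) ∧ P.coeff q ≠ 0 := by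
    refine ⟨(∏ i ∈ Finset.range q, (C (b ^ (p ^ i)) * X + 1)) - 1, ?_, ?_, ?_⟩
    · refine (natDegree_sub_le _ _).trans (max_le ?_ (by simp))
      refine (natDegree_prod_le _ _).trans ?_
      refine (Finset.sum_le_sum (g := fun _ => 1) fun i _ => ?_).trans (by simp)
      compute_degree
    · intro k
      have h := (key k).1
      have h2 := FiniteField.algebraMap_norm_eq_prod_pow (K := ZMod p) (L := GaloisField p q)
        (1 + (k : GaloisField p q) * b)
      rw [h, map_one, hfr, Nat.card_zmod] at h2
      rw [eval_sub, eval_one, eval_prod, sub_eq_zero]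
      refine Eq.trans (Finset.prod_congr rfl fun i _ => ?_) h2.symm
      have hk' : (k : GaloisField p q) ^ (p ^ i) = (k : GaloisField p q) := by
        rw [← iterateFrobenius_def (R := GaloisField p q) (p := p) i, map_natCast]
      rw [add_pow_char_pow, one_pow, mul_pow, hk', eval_add, eval_mul, eval_C, eval_X, eval_one]
      ring
    · rw [coeff_sub, coeff_one, if_neg (Fact.out : q.Prime).ne_zero, sub_zero]
      have := coeff_prod_of_natDegree_le (s := Finset.range q)
        (fun i => C (b ^ (p ^ i)) * X + 1) 1 (fun i _ => by compute_degree)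
      rw [Finset.card_range, mul_one] at this
      rw [this]
      refine Finset.prod_ne_zero_iff.2 fun i _ => ?_
      rw [coeff_add, coeff_C_mul_X, if_pos rfl, coeff_one, if_neg Nat.one_ne_zero, add_zero]
      exact pow_ne_zero _ hb0
  have hP0 : P = 0 := by
    refine Polynomial.eq_zero_of_natDegree_lt_card_of_eval_eq_zero P
      (f := fun k : Fin p => ((k : ℕ) : GaloisField p q)) ?_ (fun k => hPeval _) ?_
    · intro i j hij
      exact Fin.ext (CharP.natCast_injOn_Iio (GaloisField p q) p i.2 j.2 hij)
    · rw [Fintype.card_fin]; omega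
  simp [hP0] at hPlead

end Cfsg.Agent.S1470
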