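import Cfsg.Statements.S1472
import Cfsg.Agent.Lib.FinalField.Inversion
import Cfsg.Agent.S1470
import Cfsg.Agent.S1471

set_option autoImplicit false
open Cfsg

namespace Cfsg.Agent.S1472

open Cfsg.Agent.FinalField

/-- The norm to the prime field is a power. -/
theorem norm_eq_one_iff {p q : ℕ} [Fact p.Prime] (hq : q ≠ 0) (a : GaloisField p q) :
    Algebra.norm (ZMod p) a = 1 ↔ a ^ normExp p q = 1 := by
  haveI : Fintype (GaloisField p q) := Fintype.ofFinite _
  have h := FiniteField.algebraMap_norm_eq_prod_pow (K := ZMod p) (L := GaloisField p q) a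
  rw [GaloisField.finrank p hq, Nat.card_zmod, Finset.prod_pow_eq_pow_sum,
    Nat.geomSum_eq (Fact.out : p.Prime).two_le] at h
  rw [← h, map_eq_one_iff _ (algebraMap (ZMod p) (GaloisField p q)).injective]

/-- Let p, q be primes with (p^q − 1)/(p − 1) coprime to p − 1, G a finite group, F a field with p ^ q elements, and P, U, Q subgroups of G with: f : G → F bijective from P onto F and additive on P; U normalizing P and acting through ψ : G → F, injective and multiplicative on U with ψ(u) ≠ 0 and f(uxu⁻¹) = ψ(u) f(x); #U · (p − 1) = p^q − 1; Q abelian of order coprime to p, normalized by every x ∈ P with f(x) in the prime field; and some y ∈ Q such that y x y⁻¹ normalizes U for every such x. Then p ≤ q. -/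
theorem result {G : Type*} [Group G] [Finite G] (p q : ℕ) [Fact p.Prime] [Fact q.Prime] (hA : Nat.Coprime ((p ^ q - 1) / (p - 1)) (p - 1))
    (F : Type*) [Field F] [Fintype F] (hF : Fintype.card F = p ^ q) (P U Q : Subgroup G) (f ψ : G → F)
    (hf : Set.BijOn f (P : Set G) Set.univ) (hfadd : ∀ x ∈ P, ∀ z ∈ P, f (x * z) = f x + f z)
    (hUP : U ≤ Subgroup.normalizer (P : Set G)) (hψ : ∀ u ∈ U, ψ u ≠ 0 ∧ ∀ x ∈ P, f (u * x * u⁻¹) = ψ u * f x)
    (hψmul : ∀ u ∈ U, ∀ v ∈ U, ψ (u * v) = ψ u * ψ v) (hψinj : Set.InjOn ψ (U : Set G)) (hUcard : Nat.card U * (p - 1) = p ^ q - 1)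
    (hQ : IsMulCommutative Q) (hQp : (Nat.card Q).Coprime p) (hP0Q : ∀ x ∈ P, f x ^ p = f x → x ∈ Subgroup.normalizer (Q : Set G))
    (y : G) (hy : y ∈ Q) (hP0U : ∀ x ∈ P, f x ^ p = f x → y * x * y⁻¹ ∈ Subgroup.normalizer (U : Set G)) :
    p ≤ q := by
  classical
  have hp : p.Prime := Fact.out
  have hq : q.Prime := Fact.out
  by_contra hpq
  have hlt : q < p := Nat.lt_of_not_le hpq
  have hp2 : p ≠ 2 := by have := hq.two_le; omega
  have hq2 : q ≠ 2 := by
    rintro rfl
    obtain ⟨k, hk⟩ := hp.odd_of_ne_two hp2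
    have h1 : (p ^ 2 - 1) / (p - 1) = p + 1 := by
      rw [← Nat.geomSum_eq hp.two_le, Finset.sum_range_succ, Finset.sum_range_succ, Finset.range_zero,
        Finset.sum_empty, pow_zero, pow_one, zero_add, add_comm]
    rw [h1] at hA
    have h2 : 2 ∣ Nat.gcd (p + 1) (p - 1) :=
      Nat.dvd_gcd ⟨k + 1, by omega⟩ ⟨k, by omega⟩
    rw [hA] at h2
    omega
  have hp1 : 0 < p - 1 := by have := hp.two_le; omega
  -- move to the Galois field
  haveI : Fintype (GaloisField p q) := Fintype.ofFinite _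
  have hcard : Fintype.card (GaloisField p q) = p ^ q := by
    rw [Fintype.card_eq_nat_card, GaloisField.card p q hq.ne_zero]
  let e : F ≃+* GaloisField p q := FiniteField.ringEquivOfCardEq (hF.trans hcard.symm)
  let ι : (GaloisField p q) → G := fun a => Function.invFunOn f P (e.symm a)
  have hι : ∀ a, ι a ∈ P ∧ f (ι a) = e.symm a := fun a =>
    have h := hf.surjOn (Set.mem_univ (e.symm a))
    ⟨Function.invFunOn_mem h, Function.invFunOn_eq h⟩
  have hιf : ∀ g ∈ P, ι (e (f g)) = g := fun g hg =>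
    hf.injOn (hι _).1 hg (by rw [(hι _).2, RingEquiv.symm_apply_apply])
  have hιa : ∀ a, e (f (ι a)) = a := fun a => by rw [(hι a).2, RingEquiv.apply_symm_apply]
  set A := normExp p q with hAdef
  have hAmul : A * (p - 1) = p ^ q - 1 :=
    Nat.div_mul_cancel (by simpa using Nat.sub_dvd_pow_sub_pow p 1 q)
  have hUA : Nat.card U = A := Nat.eq_of_mul_eq_mul_right hp1 (hUcard.trans hAmul.symm)
  have hA1 : A = ∑ i ∈ Finset.range q, p ^ i := (Nat.geomSum_eq hp.two_le q).symm
  have hA2 : 1 < A := by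
    rw [hA1]
    have h : ∑ i ∈ Finset.range 2, p ^ i ≤ ∑ i ∈ Finset.range q, p ^ i :=
      Finset.sum_le_sum_of_subset (Finset.range_mono hq.two_le)
    rw [Finset.sum_range_succ, Finset.sum_range_succ, Finset.range_zero, Finset.sum_empty, pow_zero,
      pow_one] at h
    have := hp.two_le
    omega
  have hψone : ψ 1 = 1 := by
    have h := hψmul 1 (one_mem _) 1 (one_mem _)
    rw [mul_one] at h
    exact (mul_eq_left₀ (hψ 1 (one_mem _)).1).1 h.symm
  let Ψ : U →* (GaloisField p q) :=
    { toFun := fun u => e (ψ u)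
      map_one' := by rw [OneMemClass.coe_one, hψone, map_one]
      map_mul' := fun u v => by rw [Subgroup.coe_mul, hψmul _ u.2 _ v.2, map_mul] }
  have hΨinj : Function.Injective Ψ := fun u v h =>
    Subtype.ext (hψinj u.2 v.2 (e.injective h))
  have hΨpow : ∀ u : U, Ψ u ^ A = 1 := fun u => by
    rw [← hUA, ← map_pow, pow_card_eq_one', map_one]
  have hΨsurj : ∀ x : (GaloisField p q), x ^ A = 1 → ∃ u : U, Ψ u = x := by
    haveI : Fintype U := Fintype.ofFinite _
    have hsub : Finset.univ.image Ψ ⊆ (Polynomial.nthRoots A (1 : (GaloisField p q))).toFinset := by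
      intro x hx
      obtain ⟨u, -, rfl⟩ := Finset.mem_image.1 hx
      rw [Multiset.mem_toFinset, Polynomial.mem_nthRoots (by omega)]
      exact hΨpow u
    have heq := Finset.eq_of_subset_of_card_le hsub (by
      rw [Finset.card_image_of_injective _ hΨinj, Finset.card_univ, Fintype.card_eq_nat_card, hUA]
      exact (Multiset.toFinset_card_le _).trans (Polynomial.card_nthRoots _ _))
    intro x hx
    have hxm : x ∈ Finset.univ.image Ψ := by
      rw [heq, Multiset.mem_toFinset, Polynomial.mem_nthRoots (by omega)]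
      exact hx
    obtain ⟨u, -, hu⟩ := Finset.mem_image.1 hxm
    exact ⟨u, hu⟩
  have hrat : ∀ c : ZMod p, algebraMap (ZMod p) (GaloisField p q) c ^ A = 1 → c = 1 := fun c hc => by
    rw [← map_pow, map_eq_one_iff _ (algebraMap (ZMod p) (GaloisField p q)).injective] at hc
    have hc0 : c ≠ 0 := fun h => by rw [h, zero_pow (by omega)] at hc; exact zero_ne_one hc
    rw [← orderOf_eq_one_iff, ← Nat.dvd_one]
    exact hA ▸ Nat.dvd_gcd (orderOf_dvd_of_pow_eq_one hc)
      (orderOf_dvd_of_pow_eq_one (ZMod.pow_card_sub_one_eq_one hc0))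
  have hdec : ∀ x : (GaloisField p q), x ≠ 0 → ∃ c : ZMod p, c ≠ 0 ∧ (x / algebraMap (ZMod p) (GaloisField p q) c) ^ A = 1 := by
    intro x hx
    have h1 : (x ^ A) ^ p = x ^ A := by
      have h3 : (x ^ A) ^ (p - 1) = 1 := by
        rw [← pow_mul, hAmul, ← hcard]
        exact FiniteField.pow_card_sub_one_eq_one x hx
      calc (x ^ A) ^ p = (x ^ A) ^ ((p - 1) + 1) := congrArg _ (by omega)
        _ = x ^ A := by rw [pow_succ, h3, one_mul]
    obtain ⟨d, hd⟩ : ∃ d : ZMod p, algebraMap (ZMod p) (GaloisField p q) d = x ^ A := by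
      have h2 : x ^ A ∈ (⊥ : Subfield (GaloisField p q)) := (Subfield.mem_bot_iff_pow_eq_self (GaloisField p q) p).2 h1
      rw [← ZMod.fieldRange_castHom_eq_bot p] at h2
      obtain ⟨d, hd⟩ := h2
      exact ⟨d, by rw [Subsingleton.elim (algebraMap (ZMod p) (GaloisField p q)) (ZMod.castHom dvd_rfl (GaloisField p q))]; exact hd⟩
    have hd0 : d ≠ 0 := fun h => pow_ne_zero A hx (by rw [← hd, h, map_zero])
    have hcop : (Nat.card (ZMod p)ˣ).Coprime A := by
      rw [Nat.card_eq_fintype_card, ZMod.card_units]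
      exact hA.symm
    obtain ⟨c, hc⟩ := (powCoprime hcop).surjective (Units.mk0 d hd0)
    have hc' : (c : ZMod p) ^ A = d := by
      rw [← Units.val_pow_eq_pow_val]
      exact congrArg Units.val hc
    refine ⟨c, c.ne_zero, ?_⟩
    rw [div_pow, ← map_pow, hc', hd, div_self (pow_ne_zero A hx)]
  have hprime : ∀ c : ZMod p, f (ι (algebraMap (ZMod p) (GaloisField p q) c)) ^ p = f (ι (algebraMap (ZMod p) (GaloisField p q) c)) :=
    fun c => by rw [(hι _).2, ← map_pow, ← map_pow, ZMod.pow_card]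
  let cf : Config G (GaloisField p q) p q :=
    { ι := ι
      ι_add := fun a b => hf.injOn (hι _).1 (mul_mem (hι a).1 (hι b).1)
        (by rw [(hι _).2, hfadd _ (hι a).1 _ (hι b).1, (hι a).2, (hι b).2, map_add])
      ι_inj := fun a b h => by rw [← hιa a, h, hιa]
      U := U
      ψ := fun g => e (ψ g)
      conj := fun u hu a => by
        have hm : u * ι a * u⁻¹ ∈ P := (Subgroup.mem_normalizer_iff.1 (hUP hu) _).1 (hι a).1
        rw [← hιf _ hm, (hψ u hu).2 _ (hι a).1, map_mul, hιa]
      ψ_mul := fun u hu v hv => by rw [hψmul u hu v hv, map_mul]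
      ψ_ne := fun u hu h => (hψ u hu).1 (e.injective (by rw [h, map_zero]))
      ψ_inj := fun u hu v hv h => hψinj hu hv (e.injective h)
      ψ_pow := fun u hu => hΨpow ⟨u, hu⟩
      exists_ψ := fun x hx => by
        obtain ⟨u, hu⟩ := hΨsurj x hx
        exact ⟨u, u.2, hu⟩
      dec := hdec
      card_U := by
        rw [hUA]
        refine ((Nat.Prime.coprime_iff_not_dvd hp).2 fun hd => ?_).symm
        have h1 : ((A : ℕ) : ZMod p) = 0 := by rwa [ZMod.natCast_eq_zero_iff]
        rw [hA1, Nat.cast_sum, Finset.sum_eq_single 0 (fun i _ hi => by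
          rw [Nat.cast_pow, ZMod.natCast_self, zero_pow hi]) (fun h => absurd (Finset.mem_range.2 hq.pos) h),
          pow_zero, Nat.cast_one] at h1
        exact one_ne_zero h1
      one_lt := by
        haveI : Nontrivial U := Finite.one_lt_card_iff_nontrivial.1 (hUA.symm ▸ hA2)
        obtain ⟨u, hu⟩ := exists_ne (1 : U)
        exact ⟨u, u.2, fun h => hu (Subtype.ext h)⟩
      Q := Q
      Q_comm := fun a ha b hb => congrArg Subtype.val (hQ.is_comm.comm (⟨a, ha⟩ : Q) ⟨b, hb⟩)
      Q_cop := hQp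
      y := y
      y_mem := hy
      S_norm := fun c => hP0Q _ (hι _).1 (hprime c)
      T_norm := fun c => hP0U _ (hι _).1 (hprime c) }
  refine hpq (S1470.result p q hp2 hq2 hA ?_ (S1471.result p q hp2 hq2 hA))
  intro a ha
  obtain ⟨ha1, ha2⟩ := ha
  rw [norm_eq_one_iff hq.ne_zero] at ha1 ha2
  refine ⟨?_, ?_⟩
  · rw [norm_eq_one_iff hq.ne_zero, inv_pow, ha1, inv_one]
  · rw [norm_eq_one_iff hq.ne_zero]
    exact cf.inv_norm hrat hq.pos hlt hp2 ha1 ha2

end Cfsg.Agent.S1472
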