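import Cfsg.Statements.S1518
import Cfsg.Agent.Lib.Dade.Virtual
import Cfsg.Agent.Lib.Coherence.Virtual
import Cfsg.Agent.S1500
-- import your own Cfsg.Agent.* helpers here

set_option autoImplicit false
open Cfsg Cfsg.Agent.Char

namespace Cfsg.Agent.S1518

/-- Under the Dade hypothesis for (A, L, H): if χ is an irreducible character of L vanishing at every non-identity element of L outside A, then the Dade image of χ − conj χ equals μ − conj μ for some irreducible character μ of G. -/
theorem result {G : Type*} [Group G] [Fintype G] (A : Set G) (L : Subgroup G) [Fintype L] (H : G → Subgroup G) (hD : Cfsg.DadeHypothesis A L H) (χ : L → ℂ) (hχ : Cfsg.IsIrrCharacter L χ) (hsupp : ∀ x : L, x ≠ 1 → (x : G) ∉ A → χ x = 0) : ∃ μ : G → ℂ, Cfsg.IsIrrCharacter G μ ∧ Cfsg.dadeIsometry A L H (χ - Cfsg.conjFun χ) = μ - Cfsg.conjFun μ := by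
  classical
  have hTconj : ∀ f : L → ℂ, Cfsg.dadeIsometry A L H (Cfsg.conjFun f) =
      Cfsg.conjFun (Cfsg.dadeIsometry A L H f) := fun f => funext fun g => by
    unfold Cfsg.dadeIsometry Cfsg.conjFun
    split_ifs with h
    · simp only [Cfsg.dadeIsometry, dif_pos h]
    · simp only [Cfsg.dadeIsometry, dif_neg h, map_zero]
  have hTneg : ∀ f : L → ℂ, Cfsg.dadeIsometry A L H (-f) = -(Cfsg.dadeIsometry A L H f) :=
    fun f => funext fun g => by
    simp only [Cfsg.dadeIsometry, Pi.neg_apply]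
    split_ifs <;> simp
  have hχ' : Cfsg.IsIrrCharacter L (Cfsg.conjFun χ) := IsIrrCharacter.conj hχ
  by_cases heq : χ = Cfsg.conjFun χ
  · refine ⟨1, isIrrCharacter_one, ?_⟩
    rw [← heq, sub_self, show (1 : G → ℂ) - Cfsg.conjFun 1 = 0 from funext fun g => by simp [Cfsg.conjFun]]
    funext g
    unfold Cfsg.dadeIsometry
    split_ifs <;> simp
  set α := χ - Cfsg.conjFun χ with hα_def
  have hα : Cfsg.IsGeneralizedCharacter L α := IsGeneralizedCharacter.sub
    (isGeneralizedCharacter_of_isCharacter (IsIrrCharacter.isCharacter hχ))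
    (isGeneralizedCharacter_of_isCharacter (IsIrrCharacter.isCharacter hχ'))
  have hαc := IsGeneralizedCharacter.isClassFunction hα
  have hαA : ∀ x : L, (x : G) ∉ A → α x = 0 := by
    intro x hx
    by_cases h1 : x = 1
    · subst h1
      obtain ⟨n, hn⟩ := IsCharacter.exists_degree (IsIrrCharacter.isCharacter hχ)
      simp [α, Cfsg.conjFun, hn]
    · simp [α, Cfsg.conjFun, hsupp x h1 hx]
  have h2 : classInner (Cfsg.dadeIsometry A L H α) (Cfsg.dadeIsometry A L H α) = 2 := by
    rw [(Cfsg.Agent.S1500.result A L H hD α hαc hαA).1 α hαc hαA]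
    simp only [α, classInner_sub_left, classInner_sub_right, classInner_irr_self hχ,
      classInner_irr_self hχ', classInner_irr_of_ne hχ hχ' heq,
      classInner_irr_of_ne hχ' hχ (Ne.symm heq)]
    norm_num
  have h1 : Cfsg.dadeIsometry A L H α 1 = 0 := by
    refine Cfsg.Agent.Dade.dadeIsometry_eq_zero hD ?_
    rintro ⟨a, ha, u, hu, x, h⟩
    rw [mul_one, mul_inv_cancel] at h
    have hau : a = u⁻¹ := eq_inv_of_mul_eq_one_left h.symm
    have hm := inv_mem hu
    rw [← hau] at hm
    have : a = 1 := Cfsg.Agent.Dade.eq_one_of_mem_H_of_mem hD ha hm (hD.subset ha)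
    exact hD.one_not_mem (this ▸ ha)
  obtain ⟨μ, ν, hμ, hν, hne, hT⟩ := Cfsg.Agent.Coherence.gc_norm_two
    (Cfsg.Agent.Dade.dadeIsometry_isGeneralized hD hα hαA) h2 h1
  refine ⟨μ, hμ, ?_⟩
  have hc : Cfsg.conjFun (μ - ν) = ν - μ := by
    rw [← hT, ← hTconj, show Cfsg.conjFun α = -α from funext fun x => by simp [α, Cfsg.conjFun],
      hTneg, hT, neg_sub]
  have hμ' : Cfsg.IsIrrCharacter G (Cfsg.conjFun μ) := IsIrrCharacter.conj hμ
  have hν' : Cfsg.IsIrrCharacter G (Cfsg.conjFun ν) := IsIrrCharacter.conj hν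
  have hne' : Cfsg.conjFun ν ≠ Cfsg.conjFun μ := fun e => hne (funext fun g =>
    ((starRingEnd ℂ).injective (congrFun e g)).symm)
  have hc' : Cfsg.conjFun μ - Cfsg.conjFun ν = ν - μ := by
    rw [← hc]; funext g; simp [Cfsg.conjFun]
  suffices ν = Cfsg.conjFun μ by rw [hT, this]
  by_contra hν'μ
  have h := congrArg (fun f => classInner f (Cfsg.conjFun μ)) hc'
  simp only [classInner_sub_left, classInner_irr_self hμ', classInner_irr_of_ne hν' hμ' hne',
    classInner_irr_of_ne hν hμ' hν'μ] at h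
  by_cases e : μ = Cfsg.conjFun μ
  · rw [← e, classInner_irr_self hμ] at h; norm_num at h
  · rw [classInner_irr_of_ne hμ hμ' e] at h; norm_num at h

end Cfsg.Agent.S1518
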