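import Cfsg.Statements.S0806
import Cfsg.Agent.Lib.PSL2.Overgroups

set_option autoImplicit false
open Cfsg

namespace Cfsg.Agent.S0806

/-- Minimal index (Galois): if q ∉ {2, 3, 5, 7, 9, 11} then every proper subgroup of PSL_2(q) has index ≥ q + 1, and some subgroup has index exactly q + 1. -/
theorem result {F : Type*} [Field F] [Fintype F] {q : ℕ} (hF : Fintype.card F = q) (hq : q ∉ ({2, 3, 5, 7, 9, 11} : Finset ℕ)) : (∀ H : Subgroup (Matrix.ProjectiveSpecialLinearGroup (Fin 2) F), H ≠ ⊤ → q + 1 ≤ H.index) ∧ ∃ H : Subgroup (Matrix.ProjectiveSpecialLinearGroup (Fin 2) F), H.index = q + 1 := by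
  subst hF
  rw [← Nat.card_eq_fintype_card] at hq ⊢
  obtain ⟨p, hp⟩ := CharP.exists F
  have : Fact p.Prime := ⟨CharP.char_is_prime F p⟩
  obtain ⟨n, hn, hqn, hcase⟩ := PSL2.q_cases (F := F) p
  simp only [Finset.mem_insert, Finset.mem_singleton, not_or] at hq
  obtain ⟨hq2, hq3, hq5, hq7, hq9, hq11⟩ := hq
  have hq1 : 1 < Nat.card F := Finite.one_lt_card
  refine ⟨fun H hH => ?_, ?_⟩
  swap
  · exact ⟨MulAction.stabilizer (PSL2.PSL2 F) (PSL2.pinf : PSL2.Pt F), PSL2.index_borel _⟩
  have hmul := PSL2.card_psl_mul (F := F)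
  have hd0 : 0 < Nat.gcd 2 (Nat.card F - 1) := Nat.gcd_pos_of_pos_left _ two_pos
  suffices key : Nat.gcd 2 (Nat.card F - 1) * Nat.card H ≤ Nat.card F * (Nat.card F - 1) by
    refine Nat.le_of_mul_le_mul_left ?_ (Nat.card_pos (α := H))
    refine Nat.le_of_mul_le_mul_left ?_ hd0
    rw [H.card_mul_index, hmul, mul_comm (Nat.card F + 1) (Nat.card F - 1), ← mul_assoc, ← mul_assoc]
    exact Nat.mul_le_mul_right _ key
  have hd2 : Nat.gcd 2 (Nat.card F - 1) ≤ 2 := Nat.le_of_dvd two_pos (Nat.gcd_dvd_left _ _)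
  have hqq : ∀ b, b ≤ Nat.card F → b * (b - 1) ≤ Nat.card F * (Nat.card F - 1) := fun b hb =>
    Nat.mul_le_mul hb (by omega)
  rcases PSL2.psl_card_bound p H with ⟨P, hP⟩ | h | h | ⟨r, m, hr, hm, hrm, hpar, h⟩
  · rw [← PSL2.card_borel_mul P]
    exact Nat.mul_le_mul_left _ (Subgroup.card_le_of_le hP)
  · rw [mul_comm]
    refine h.trans ?_
    have h4 : 4 ≤ Nat.card F := by omega
    have h3 : Nat.card F * 3 ≤ Nat.card F * (Nat.card F - 1) := Nat.mul_le_mul_left _ (by omega)
    omega
  · rcases hcase with ⟨rfl, he, hd, -⟩ | ⟨-, ho, hd, -⟩ <;> rw [hd, ]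
    · rw [one_mul]
      rw [Nat.even_iff] at he
      rcases h with h | ⟨h, h16⟩ | ⟨h, h5⟩
      · rw [h]; exact (hqq 4 (by omega)).trans' (by norm_num)
      · rw [Nat.pow_mod] at h16
        have := Nat.mod_lt (Nat.card F) (show 16 > 0 by norm_num)
        interval_cases hc : Nat.card F % 16 <;> omega
      · rcases Nat.lt_or_ge n 4 with hn4 | hn4
        · interval_cases n
          · omega
          · exfalso
            refine hH (Subgroup.eq_top_of_card_eq H ?_)
            rw [hd, one_mul, hqn] at hmul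
            rw [h, hmul]
            norm_num
          · rw [hqn] at h5
            norm_num at h5
        · rw [h]
          have : 16 ≤ Nat.card F := hqn ▸ (Nat.pow_le_pow_right two_pos hn4).trans' (by norm_num)
          exact (hqq 16 this).trans' (by norm_num)
    · rw [Nat.odd_iff] at ho
      have h13 : 13 ≤ Nat.card F := by omega
      refine (hqq 13 h13).trans' ?_
      rcases h with h | ⟨h, -⟩ | ⟨h, -⟩ <;> rw [h] <;> norm_num
  · rcases Nat.lt_or_ge m 2 with hm2 | hm2
    · exfalso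
      obtain rfl : m = 1 := by omega
      rw [pow_one] at hrm
      subst hrm
      rcases h with h | ⟨-, he, -⟩
      · exact hH (Subgroup.eq_top_of_card_eq H
          (Nat.eq_of_mul_eq_mul_left hd0 (h.trans hmul.symm)))
      · exact absurd he (by decide)
    · have hle : r ^ 2 ≤ Nat.card F := hrm ▸ Nat.pow_le_pow_right (by omega) hm2
      have hH' : Nat.card H ≤ r * ((r + 1) * (r - 1)) := by
        rcases h with h | ⟨-, -, h⟩
        · rw [← h]; exact Nat.le_mul_of_pos_left _ (Nat.gcd_pos_of_pos_left _ two_pos)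
        · exact h.le
      refine le_trans (Nat.mul_le_mul hd2 hH') ?_
      refine le_trans ?_ (hqq (r ^ 2) hle)
      rw [← Nat.sq_sub_sq r 1, one_pow, ← mul_assoc]
      exact Nat.mul_le_mul_right _ (by rw [pow_two]; exact Nat.mul_le_mul_right r hr)

end Cfsg.Agent.S0806
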