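import Cfsg.Agent.Lib.Orth.Klein
import Cfsg.Agent.Lib.Orth.SLTools
import Cfsg.Agent.S0286

set_option autoImplicit false
open Cfsg

namespace Cfsg.Agent.S0298

open Cfsg.Agent.Orth Matrix

variable {F : Type*} [Field F]

/-- The index of the form. -/
abbrev J : Type := Unit ⊕ (Fin 1 ⊕ Fin 1)

/-- The coordinate number. -/
def pr : J → Fin 3 := Sum.elim (fun _ => 0) (Sum.elim (fun _ => 1) (fun _ => 2))

/-- The adjoint action on trace zero matrices. -/
def adMat (g : Matrix (Fin 2) (Fin 2) F) : Matrix J J F := Matrix.of fun i j =>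
  !![g 0 0 * g 1 1 + g 0 1 * g 1 0, -(g 0 0 * g 1 0), g 0 1 * g 1 1;
     -(2 * g 0 0 * g 0 1), g 0 0 * g 0 0, -(g 0 1 * g 0 1);
     2 * g 1 0 * g 1 1, -(g 1 0 * g 1 0), g 1 1 * g 1 1] (pr i) (pr j)

theorem adMat_one : adMat (1 : Matrix (Fin 2) (Fin 2) F) = 1 := by
  ext i j
  rcases i with ⟨⟩ | i | i <;> rcases j with ⟨⟩ | j | j <;> simp [adMat, pr, Matrix.one_apply, Fin.fin_one_eq_zero]

theorem adMat_mul (g h : Matrix (Fin 2) (Fin 2) F) : adMat (g * h) = adMat g * adMat h := by
  ext i j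
  rcases i with ⟨⟩ | i | i <;> rcases j with ⟨⟩ | j | j <;>
    simp [adMat, pr, Matrix.mul_apply, Fintype.sum_sum_type, Fin.sum_univ_two] <;> ring

theorem Q_adMat (g : Matrix (Fin 2) (Fin 2) F) (hg : g.det = 1) (v : J → F) :
    quadFormOdd 1 F (adMat g *ᵥ v) = quadFormOdd 1 F v := by
  rw [Matrix.det_fin_two] at hg
  simp [quadFormOdd, adMat, pr, Matrix.mulVec, dotProduct, Fintype.sum_sum_type]
  linear_combination (v (.inl ()) ^ 2 + v (.inr (.inl 0)) * v (.inr (.inr 0))) *
    (g 0 0 * g 1 1 - g 0 1 * g 1 0 + 1) * hg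

/-- The homomorphism. -/
def adHom : SpecialLinearGroup (Fin 2) F →* ↥(isometryGroup F (quadFormOdd 1 F)) :=
  isoHom
    { toFun := fun g => adMat (g : Matrix (Fin 2) (Fin 2) F)
      map_one' := adMat_one
      map_mul' := fun g h => adMat_mul _ _ }
    (fun g v => Q_adMat _ g.2 v)

theorem adHom_eq_one_iff (h2 : (2 : F) ≠ 0) (g : SpecialLinearGroup (Fin 2) F) :
    adHom g = 1 ↔ g = 1 ∨ g = -1 := by
  rw [adHom, isoHom_eq_one_iff]
  show adMat (g : Matrix (Fin 2) (Fin 2) F) = 1 ↔ _
  constructor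
  · intro h
    set M := (g : Matrix (Fin 2) (Fin 2) F) with hM
    have e11 := congrFun (congrFun h (.inr (.inl 0))) (.inr (.inl 0))
    have e22 := congrFun (congrFun h (.inr (.inr 0))) (.inr (.inr 0))
    have e10 := congrFun (congrFun h (.inr (.inl 0))) (.inl ())
    have e20 := congrFun (congrFun h (.inr (.inr 0))) (.inl ())
    simp [adMat, pr] at e11 e22 e10 e20
    have hdet : M.det = 1 := g.2
    rw [Matrix.det_fin_two] at hdet
    have hp : M 0 0 ≠ 0 := left_ne_zero_of_mul_eq_one e11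
    have hu : M 0 1 = 0 := by
      rcases e10 with (h' | h') | h'
      · exact absurd h' h2
      · exact absurd h' hp
      · exact h'
    have hr : M 1 0 = 0 := by
      rcases e20 with (h' | h') | h'
      · exact absurd h' h2
      · exact h'
      · exact absurd h' (left_ne_zero_of_mul_eq_one e22)
    rw [hu, zero_mul, sub_zero] at hdet
    rcases mul_self_eq_one_iff.1 e11 with hp1 | hp1
    · refine .inl (Subtype.ext ?_)
      rw [hp1, one_mul] at hdet
      ext i j; fin_cases i <;> fin_cases j <;> simp [← hM, hp1, hu, hr, hdet]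
    · refine .inr (Subtype.ext ?_)
      rw [hp1] at hdet
      have hw : M 1 1 = -1 := by linear_combination -hdet
      rw [Matrix.SpecialLinearGroup.coe_neg]
      ext i j; fin_cases i <;> fin_cases j <;> simp [← hM, hp1, hu, hr, hw]
  · rintro (rfl | rfl)
    · exact adMat_one
    · rw [Matrix.SpecialLinearGroup.coe_neg]
      rw [← adMat_one (F := F)]
      ext i j
      simp [adMat]

/-- PΩ_3(q) is isomorphic to PSL_2(q) for q odd. -/
theorem result {F : Type*} [Field F] [Fintype F] (hodd : Odd (Fintype.card F)) : Nonempty (Cfsg.POmega F (Cfsg.quadFormOdd 1 F) ≃* Matrix.ProjectiveSpecialLinearGroup (Fin 2) F) := by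
  classical
  have h2 : (2 : F) ≠ 0 := fun h => by
    have hc := CharP.ringChar_of_prime_eq_zero Nat.prime_two (by exact_mod_cast h : ((2 : ℕ) : F) = 0)
    exact Nat.not_even_iff_odd.2 hodd (Nat.even_iff.2 ((FiniteField.even_card_iff_char_two).1 hc))
  have h3 : 3 ≤ Fintype.card F := by
    have := Fintype.one_lt_card (α := F)
    obtain ⟨k, hk⟩ := hodd
    omega
  have hG := Good.of_two_ne_zero (quadOdd_nondeg (F := F) 1 h2) h2
  have hiff := adHom_eq_one_iff (F := F) h2
  have hz : (-1 : SpecialLinearGroup (Fin 2) F) ∈ Subgroup.center (SpecialLinearGroup (Fin 2) F) :=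
    Subgroup.mem_center_iff.2 fun g => Subtype.ext (by simp)
  obtain ⟨hk, hk2, -⟩ := card_ker_of_iff adHom (-1) hiff
  have ho : Nat.card (IsoGrp (quadOdd 1 F)) = _ := Cfsg.Agent.S0286.result (F := F) rfl hodd 1
  refine pomega_equiv_of_card (Q := quadFormOdd 1 F) adHom
    (range_le_omega hG adHom (slTwo_hom_trivial h3)) (slTwo_hom_trivial h3)
    (ker_le_center_of_iff adHom _ hiff hz) hk ?_
  show _ * (Omega F ⇑(quadOdd 1 F)).index = _ * Nat.card (IsoGrp (quadOdd 1 F))
  have h1 : (-1 : SpecialLinearGroup (Fin 2) F) ≠ 1 := fun h => h2 (by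
    have h' := congrArg (fun g : SpecialLinearGroup (Fin 2) F => (g : Matrix (Fin 2) (Fin 2) F) 0 0) h
    simp at h'
    linear_combination -h')
  rw [ho, omega_index_odd hG (by simp) h2, hk2 h1, Cfsg.Agent.GLOrder.card_SL_two,
    Nat.card_eq_fintype_card, Finset.prod_range_one]
  ring

end Cfsg.Agent.S0298
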