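import Cfsg.Statements.S2469
import Cfsg.Agent.EqLemmas
import Cfsg.Agent.Lib.GLOrder.SympOrders

open Polynomial Cfsg.Agent.GLOrder
-- import your own Cfsg.Agent.* helpers here

set_option autoImplicit false
open Cfsg

namespace Cfsg.Agent.S2469

/-- Adjacency of two odd primes in the prime graph of PSp(2n,q): let F be a finite field of characteristic p with q elements, n ≥ 2 with PSp(2n,F) simple, and let r ≠ s be odd primes different from p dividing the order of PSp(2n,F). Let k, l be the multiplicative orders of q modulo r and s, put η(m) = m for odd m and η(m) = m/2 for even m, and suppose η(k) ≤ η(l). Then PSp(2n,F) has NO element of order r·s if and only if η(k) + η(l) > n and l/k is not an odd integer. -/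
theorem result {F : Type*} [Field F] [Fintype F] (p : ℕ) [Fact p.Prime] [CharP F p] (n : ℕ) (hn : 2 ≤ n) (hsmall : n = 2 → 3 ≤ Fintype.card F)
    (r s : ℕ) (hr : r.Prime) (hs : s.Prime) (hr2 : r ≠ 2) (hs2 : s ≠ 2) (hrp : r ≠ p) (hsp : s ≠ p) (hrs : r ≠ s)
    (hrG : r ∣ Nat.card (Cfsg.PSp n F)) (hsG : s ∣ Nat.card (Cfsg.PSp n F))
    (k l ηk ηl : ℕ) (hk : k = orderOf ((Fintype.card F : ℕ) : ZMod r)) (hl : l = orderOf ((Fintype.card F : ℕ) : ZMod s))
    (hηk : (Odd k ∧ ηk = k) ∨ (Even k ∧ 2 * ηk = k)) (hηl : (Odd l ∧ ηl = l) ∨ (Even l ∧ 2 * ηl = l)) (hkl : ηk ≤ ηl) :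
    (r * s ∉ Set.range (orderOf : Cfsg.PSp n F → ℕ)) ↔ (n < ηk + ηl ∧ ¬ ∃ t : ℕ, Odd t ∧ l = k * t) := by
  classical
  have hrF : (r : F) ≠ 0 := cast_ne_zero_of_prime p hr hrp
  have hsF : (s : F) ≠ 0 := cast_ne_zero_of_prime p hs hsp
  have hN : ((r * s : ℕ) : F) ≠ 0 := by rw [Nat.cast_mul]; exact mul_ne_zero hrF hsF
  have hk0 : 0 < k := hk ▸ orderOf_pos_zmod p hr hrp
  have hl0 : 0 < l := hl ▸ orderOf_pos_zmod p hs hsp
  have hodd : Odd (r * s) := (hr.odd_of_ne_two hr2).mul (hs.odd_of_ne_two hs2)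
  have hcop := (Nat.coprime_primes hr hs).2 hrs
  constructor
  · intro hno
    by_contra hcon
    rw [not_and_or, not_lt, not_not] at hcon
    refine hno (HasOrd.exists_psp_orderOf (F := F) ?_ (Or.inl hodd))
    rcases hcon with hle | ⟨t, ht, hlt⟩
    · have h := (hasOrd_prime p hr hrp hk hηk).prod (hasOrd_prime p hs hsp hl hηl)
      rw [hcop.lcm_eq_mul] at h
      exact h.le hle
    · have hln := eta_le_of_dvd_card p hs hsp hsG hl hηl
      refine HasOrd.le ?_ hln
      rcases hηl with ⟨hlo, rfl⟩ | ⟨hle', h2l⟩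
      · refine (hasOrd_sub_one F (d := ηl) hl0).mono ?_
        rw [Nat.card_eq_fintype_card]
        refine hcop.mul_dvd_of_dvd_of_dvd ((dvd_pow_sub_one hk).trans ?_) (dvd_pow_sub_one hl)
        rw [hlt]
        exact Nat.pow_sub_one_dvd_pow_sub_one _ (dvd_mul_right k t)
      · rcases hηk with ⟨hko, -⟩ | ⟨-, h2k⟩
        · exact absurd (hlt ▸ hko.mul ht) (Nat.not_odd_iff_even.2 hle')
        refine (hasOrd_add_one F (d := ηl) (by omega)).mono ?_
        rw [Nat.card_eq_fintype_card]
        refine hcop.mul_dvd_of_dvd_of_dvd ?_ (dvd_pow_add_one p hs hsp hl h2l)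
        have hη : ηl = ηk * t := by
          have : 2 * ηl = 2 * (ηk * t) := by rw [h2l, hlt, ← mul_assoc, h2k]
          omega
        have h1 := dvd_pow_add_one p hr hrp hk h2k
        rw [← ZMod.natCast_eq_zero_iff, Nat.cast_add, Nat.cast_pow, Nat.cast_one,
          add_eq_zero_iff_eq_neg] at h1
        rw [← ZMod.natCast_eq_zero_iff, Nat.cast_add, Nat.cast_pow, Nat.cast_one, hη, pow_mul, h1,
          ht.neg_one_pow, neg_add_cancel]
  · rintro ⟨hsum, hnt⟩ ⟨y, hy⟩
    obtain ⟨x, hx⟩ := exists_sp_orderOf (Or.inl hodd) hy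
    set M := (x : Matrix (Fin n ⊕ Fin n) (Fin n ⊕ Fin n) F) with hM
    have hxN : M ^ (r * s * p ^ 0) = 1 := by rw [pow_zero, mul_one, ← hx, pow_orderOf_eq_one]
    have hne : ∀ a, a = r ∨ a = s → M ^ (a * p ^ 0) ≠ 1 := by
      intro a ha h
      rw [pow_zero, mul_one] at h
      have h' := hx ▸ orderOf_dvd_of_pow_eq_one h
      rcases ha with rfl | rfl
      · exact hs.ne_one (Nat.dvd_one.1 ((Nat.mul_dvd_mul_iff_left hr.pos).1 (by rwa [mul_one])))
      · exact hr.ne_one (Nat.dvd_one.1 ((Nat.mul_dvd_mul_iff_right hs.pos).1 (by rwa [one_mul])))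
    have hχ := Matrix.minpoly_dvd_charpoly M
    have hχ0 : M.charpoly ≠ 0 := (Matrix.charpoly_monic M).ne_zero
    have hdeg : M.charpoly.natDegree = 2 * n := by
      rw [Matrix.charpoly_natDegree_eq_dim, Fintype.card_sum, Fintype.card_fin, two_mul]
    have hrs0 : 0 < r * s := Nat.mul_pos hr.pos hs.pos
    have hroots : ∀ {f : F[X]}, f ∣ X ^ (r * s) - 1 →
        rootOrder f = 1 ∨ rootOrder f = r ∨ rootOrder f = s ∨ rootOrder f = r * s := by
      intro f hf
      obtain ⟨a, b, ha, hb, hab⟩ := Nat.dvd_mul.1 (dvd_X_pow_sub_one_iff.1 hf)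
      rcases (Nat.dvd_prime hr).1 ha with rfl | rfl <;>
        rcases (Nat.dvd_prime hs).1 hb with rfl | rfl <;> simp [← hab]
    -- no root of order `r * s`
    have hbig : ∀ f : F[X], Irreducible f → f.Monic → f ∣ M.charpoly → f ∣ X ^ (r * s) - 1 →
        rootOrder f ≠ r * s := by
      intro f hf hfm hfχ hfN hroot
      obtain ⟨f', hf', hf'm, hf'd, -, hstar, hself⟩ := exists_star hf hfm hrs0 hfN
      have hL : f.natDegree = orderOf ((Fintype.card F : ℕ) : ZMod (r * s)) := by
        rw [natDegree_eq_orderOf hf hrs0 hfN, hroot, Nat.card_eq_fintype_card]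
      have hkL : k ∣ f.natDegree := by
        have := orderOf_map_dvd (ZMod.castHom (dvd_mul_right r s) (ZMod r)).toMonoidHom
          ((Fintype.card F : ℕ) : ZMod (r * s))
        simpa [hL, hk] using this
      have hlL : l ∣ f.natDegree := by
        have := orderOf_map_dvd (ZMod.castHom (dvd_mul_left s r) (ZMod s)).toMonoidHom
          ((Fintype.card F : ℕ) : ZMod (r * s))
        simpa [hL, hl] using this
      have hLl : f.natDegree < 2 * l → f.natDegree = l := fun h => by
        obtain ⟨c, hc⟩ := hlL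
        have h0 := hf.natDegree_pos
        have : c < 2 := Nat.lt_of_mul_lt_mul_left (a := l) (by rw [← hc]; omega)
        interval_cases c <;> omega
      rcases eq_or_ne f' f with hff | hff
      · obtain ⟨i, hi⟩ := hself hff
        rw [hroot, Nat.card_eq_fintype_card] at hi
        have hir : ((Fintype.card F : ℕ) : ZMod r) ^ i = -1 := by
          simpa using congrArg (ZMod.castHom (dvd_mul_right r s) (ZMod r)) hi
        have his : ((Fintype.card F : ℕ) : ZMod s) ^ i = -1 := by
          simpa using congrArg (ZMod.castHom (dvd_mul_left s r) (ZMod s)) hi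
        rcases hηl with ⟨hlo, rfl⟩ | ⟨-, h2l⟩
        · exact ne_of_odd_orderOf (by have := hs.two_le; omega) (hl ▸ hlo) his
        have hLe := natDegree_le_of_dvd hfχ hχ0
        have hLl' := hLl (by omega)
        obtain ⟨t, ht⟩ := hLl' ▸ hkL
        refine hnt ⟨t, Nat.not_even_iff_odd.1 fun hte => ?_, ht⟩
        obtain ⟨u, rfl⟩ := hte
        have h1 : l ∣ 2 * i := by
          rw [hl]; refine orderOf_dvd_of_pow_eq_one ?_
          rw [mul_comm, pow_mul, his, neg_one_sq]
        have h2 : k * u ∣ i := by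
          have hlu : l = 2 * (k * u) := by rw [ht]; ring
          rwa [hlu, Nat.mul_dvd_mul_iff_left two_pos] at h1
        obtain ⟨w, hw⟩ := h2
        rw [hw, mul_assoc, pow_mul, hk, pow_orderOf_eq_one, one_pow] at hir
        haveI : Fact (2 < r) := ⟨by have := hr.two_le; omega⟩
        exact ZMod.neg_one_ne_one hir.symm
      · have hf'χ : f' ∣ M.charpoly := by
          simpa using hstar 1 _ (associated_reverse_charpoly x) (by simpa using hfχ)
        have := natDegree_add_le_of_coprime (coprime_of_ne hf hf' hfm hf'm (Ne.symm hff)) hχ0 hfχ hf'χ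
        have hLge := Nat.le_of_dvd hf.natDegree_pos hlL
        rcases hηl with ⟨hlo, rfl⟩ | ⟨-, h2l⟩
        · have hLl' := hLl (by omega)
          obtain ⟨t, ht⟩ := hLl' ▸ hkL
          exact hnt ⟨t, (Nat.odd_mul.1 (ht ▸ hlo)).2, ht⟩
        · omega
    -- blocks for roots of prime order
    have hblock : ∀ (a m η : ℕ), a.Prime → a ≠ 2 → m = orderOf ((Fintype.card F : ℕ) : ZMod a) →
        ((Odd m ∧ η = m) ∨ (Even m ∧ 2 * η = m)) → ∀ f : F[X], Irreducible f → f.Monic →
        f ∣ M.charpoly → f ∣ X ^ (r * s) - 1 → rootOrder f = a →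
        ∃ P : F[X], P ∣ M.charpoly ∧ P.natDegree = 2 * η ∧
          ∀ g : F[X], Irreducible g → g.Monic → rootOrder g ≠ a → IsCoprime P g := by
      intro a m η ha ha2 hm hη f hf hfm hfχ hfN hroot
      have hd : f.natDegree = m := by
        rw [natDegree_eq_orderOf hf hrs0 hfN, hroot, Nat.card_eq_fintype_card, hm]
      rcases hη with ⟨hmo, rfl⟩ | ⟨-, h2⟩
      · obtain ⟨f', hf', hf'm, hf'd, hroot', hstar, hself⟩ := exists_star hf hfm hrs0 hfN
        have hne : f' ≠ f := fun h => by
          obtain ⟨i, hi⟩ := hself h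
          rw [hroot, Nat.card_eq_fintype_card] at hi
          exact ne_of_odd_orderOf (by have := ha.two_le; omega) (hm ▸ hmo) hi
        have hf'χ : f' ∣ M.charpoly := by
          simpa using hstar 1 _ (associated_reverse_charpoly x) (by simpa using hfχ)
        refine ⟨f * f', (coprime_of_ne hf hf' hfm hf'm (Ne.symm hne)).mul_dvd hfχ hf'χ, ?_, ?_⟩
        · rw [natDegree_mul hf.ne_zero hf'.ne_zero, hf'd, hd, two_mul]
        · intro g hg hgm hga
          refine (coprime_of_ne hf hg hfm hgm ?_).mul_left (coprime_of_ne hf' hg hf'm hgm ?_)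
          · rintro rfl; exact hga hroot
          · rintro rfl; exact hga (hroot'.trans hroot)
      · refine ⟨f, hfχ, hd.trans h2.symm, fun g hg hgm hga => coprime_of_ne hf hg hfm hgm ?_⟩
        rintro rfl; exact hga hroot
    obtain ⟨f, hf, hfm, hfμ, hfN, hfr⟩ :=
      exists_factor_not_dvd p hN hr.pos hxN (hne r (Or.inl rfl))
    obtain ⟨g, hg, hgm, hgμ, hgN, hgs⟩ :=
      exists_factor_not_dvd p hN hs.pos hxN (hne s (Or.inr rfl))
    rw [dvd_X_pow_sub_one_iff] at hfr hgs
    have hfroot : rootOrder f = s := by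
      rcases hroots hfN with h | h | h | h
      · exact absurd (h ▸ one_dvd r) hfr
      · exact absurd (h ▸ dvd_rfl) hfr
      · exact h
      · exact absurd h (hbig f hf hfm (hfμ.trans hχ) hfN)
    have hgroot : rootOrder g = r := by
      rcases hroots hgN with h | h | h | h
      · exact absurd (h ▸ one_dvd s) hgs
      · exact h
      · exact absurd (h ▸ dvd_rfl) hgs
      · exact absurd h (hbig g hg hgm (hgμ.trans hχ) hgN)
    obtain ⟨P, hPχ, hPd, hPco⟩ :=
      hblock s l ηl hs hs2 hl hηl f hf hfm (hfμ.trans hχ) hfN hfroot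
    obtain ⟨Q, hQχ, hQd, hQco⟩ :=
      hblock r k ηk hr hr2 hk hηk g hg hgm (hgμ.trans hχ) hgN hgroot
    have hPg : IsCoprime P Q := by
      · rw [← EuclideanDomain.gcd_isUnit_iff]
        by_contra hu
        obtain ⟨w, hw, hwd⟩ := WfDvdMonoid.exists_irreducible_factor hu
          (fun h0 => hχ0 (zero_dvd_iff.1 ((EuclideanDomain.gcd_eq_zero_iff.1 h0).1 ▸ hPχ)))
        have hwP := hwd.trans (EuclideanDomain.gcd_dvd_left P Q)
        have hwQ := hwd.trans (EuclideanDomain.gcd_dvd_right P Q)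
        have hw' : Irreducible (normalize w) := (normalize_associated w).symm.irreducible hw
        have hwm : (normalize w).Monic := monic_normalize hw.ne_zero
        by_cases hwr : rootOrder (normalize w) = r
        · exact hw'.not_isUnit ((hPco _ hw' hwm (by rw [hwr]; exact hrs)).isUnit_of_dvd'
            (normalize_dvd_iff.2 hwP) dvd_rfl)
        · exact hw'.not_isUnit ((hQco _ hw' hwm hwr).isUnit_of_dvd'
            (normalize_dvd_iff.2 hwQ) dvd_rfl)
    have := natDegree_add_le_of_coprime hPg hχ0 hPχ hQχ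
    omega

end Cfsg.Agent.S2469
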