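import Cfsg.Statements.S2472
import Cfsg.Agent.EqLemmas
import Cfsg.Agent.Lib.GLOrder.SympOrders

open Polynomial Cfsg.Agent.GLOrder
-- import your own Cfsg.Agent.* helpers here

set_option autoImplicit false
open Cfsg

namespace Cfsg.Agent.S2472

/-- Adjacency of a prime and the characteristic in the prime graph of PSp(2n,q): let F be a finite field of characteristic p with q elements, n ≥ 2 with PSp(2n,F) simple, and let r ≠ p be an odd prime dividing the order of PSp(2n,F), with k the multiplicative order of q modulo r and η(k) = k for odd k, k/2 for even k. Then PSp(2n,F) has NO element of order r·p if and only if η(k) > n − 1. -/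
theorem result {F : Type*} [Field F] [Fintype F] (p : ℕ) [Fact p.Prime] [CharP F p] (n : ℕ) (hn : 2 ≤ n) (hsmall : n = 2 → 3 ≤ Fintype.card F)
    (r : ℕ) (hr : r.Prime) (hr2 : r ≠ 2) (hrp : r ≠ p) (hrG : r ∣ Nat.card (Cfsg.PSp n F))
    (k ηk : ℕ) (hk : k = orderOf ((Fintype.card F : ℕ) : ZMod r)) (hηk : (Odd k ∧ ηk = k) ∨ (Even k ∧ 2 * ηk = k)) :
    (r * p ∉ Set.range (orderOf : Cfsg.PSp n F → ℕ)) ↔ n - 1 < ηk := by
  classical
  have hp : p.Prime := Fact.out
  have hrF : (r : F) ≠ 0 := cast_ne_zero_of_prime p hr hrp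
  have hk0 : 0 < k := hk ▸ orderOf_pos_zmod p hr hrp
  have hpar : Odd (r * p) ∨ (2 : F) = 0 := by
    rcases hp.eq_two_or_odd' with h | h
    · exact Or.inr (by exact_mod_cast (CharP.cast_eq_zero_iff F p 2).2 (h ▸ dvd_rfl))
    · exact Or.inl ((hr.odd_of_ne_two hr2).mul h)
  constructor
  · intro hno
    by_contra hle
    have h := ((hasOrd_prime p hr hrp hk hηk).prod
      ((hasOrd_char F p).le (show 1 ≤ n - ηk by omega)))
    rw [Nat.add_sub_cancel' (show ηk ≤ n by omega),
      ((Nat.coprime_primes hr hp).2 hrp).lcm_eq_mul] at h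
    exact hno (h.exists_psp_orderOf hpar)
  · intro hlt hmem
    obtain ⟨y, hy⟩ := hmem
    obtain ⟨x, hx⟩ := exists_sp_orderOf hpar hy
    set M := (x : Matrix (Fin n ⊕ Fin n) (Fin n ⊕ Fin n) F) with hM
    have hxN : M ^ (r * p ^ 1) = 1 := by rw [pow_one, ← hx, pow_orderOf_eq_one]
    have hxr : M ^ r ≠ 1 := fun h => by
      have h' := hx ▸ orderOf_dvd_of_pow_eq_one h
      have := Nat.le_of_dvd hr.pos h'
      nlinarith [hr.pos, hp.two_le]
    have hx1 : M ^ (1 * p ^ 1) ≠ 1 := fun h => by
      rw [one_mul, pow_one] at h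
      have := Nat.le_of_dvd hp.pos (hx ▸ orderOf_dvd_of_pow_eq_one h)
      nlinarith [hr.two_le, hp.pos]
    obtain ⟨f, hf, hfm, hfμ, hfN, hf1⟩ := exists_factor_not_dvd p hrF one_pos hxN hx1
    obtain ⟨g, hg, hgm, hgμ, -⟩ := exists_sq_factor p hrF hxN hxr
    have hχ := Matrix.minpoly_dvd_charpoly M
    have hχ0 : M.charpoly ≠ 0 := (Matrix.charpoly_monic M).ne_zero
    have hdeg : M.charpoly.natDegree = 2 * n := by
      rw [Matrix.charpoly_natDegree_eq_dim, Fintype.card_sum, Fintype.card_fin, two_mul]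
    obtain ⟨hroot, hfd⟩ := natDegree_of_prime hr hf hfN hf1
    rw [← hk] at hfd
    have hgd := hg.natDegree_pos
    have hfχ := hfμ.trans hχ
    have hgχ := hgμ.trans hχ
    rcases hηk with ⟨hko, rfl⟩ | ⟨-, h2⟩
    · obtain ⟨f', hf', hf'm, hf'd, -, hstar, hself⟩ := exists_star hf hfm hr.pos hfN
      have hne : f' ≠ f := fun h => by
        obtain ⟨i, hi⟩ := hself h
        rw [hroot, Nat.card_eq_fintype_card] at hi
        exact ne_of_odd_orderOf (by have := hr.two_le; omega) (hk ▸ hko) hi
      have hf'χ : f' ∣ M.charpoly := by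
        simpa using hstar 1 _ (associated_reverse_charpoly x) (by simpa using hfχ)
      have hff := coprime_of_ne hf hf' hfm hf'm (Ne.symm hne)
      rcases eq_or_ne g f with rfl | hgf
      · have := natDegree_add_le_of_coprime (hff.pow_left (m := 2)) hχ0 hgχ hf'χ
        rw [natDegree_pow] at this
        omega
      rcases eq_or_ne g f' with rfl | hgf'
      · have := natDegree_add_le_of_coprime (hff.pow_right (n := 2)) hχ0 hfχ hgχ
        rw [natDegree_pow] at this
        omega
      have h3 : IsCoprime (g ^ 2) (f * f') :=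
        ((coprime_of_ne hg hf hgm hfm hgf).mul_right (coprime_of_ne hg hf' hgm hf'm hgf')).pow_left
      have := natDegree_add_le_of_coprime h3 hχ0 hgχ (hff.mul_dvd hfχ hf'χ)
      rw [natDegree_pow, natDegree_mul hf.ne_zero hf'.ne_zero] at this
      omega
    · rcases eq_or_ne g f with rfl | hgf
      · have := natDegree_le_of_dvd hgχ hχ0
        rw [natDegree_pow] at this
        omega
      · have := natDegree_add_le_of_coprime ((coprime_of_ne hg hf hgm hfm hgf).pow_left (m := 2))
          hχ0 hgχ hfχ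
        rw [natDegree_pow] at this
        omega

end Cfsg.Agent.S2472
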