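import Cfsg.Statements.S2364
import Cfsg.Agent.EqLemmas
import Cfsg.Agent.Lib.GLOrder.Basic

set_option autoImplicit false
open Cfsg

namespace Cfsg.Agent.S2364

open Matrix

variable {F : Type*} [Field F] [Fintype F] {r : ℕ} [Fact r.Prime]
variable {V : Type*} [AddCommGroup V] [Module F V] [FiniteDimensional F V]

theorem dvd_of_fixed_free (b : V →ₗ[F] V) (hb : b ^ r = 1) (X : Submodule F V)
    (hX : ∀ x ∈ X, b x ∈ X) (hfree : ∀ x ∈ X, b x = x → x = 0) :
    r ∣ Fintype.card F ^ Module.finrank F X - 1 := by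
  haveI : Finite V := Module.finite_of_finite F
  have hpow : ∀ k, ∀ x ∈ X, (b ^ k) x ∈ X := by
    intro k
    induction k with
    | zero => simp
    | succ k ih => intro x hx; rw [pow_succ', Module.End.mul_apply]; exact hX _ (ih x hx)
  let u : Equiv.Perm X :=
    { toFun := fun x => ⟨b x, hX x x.2⟩
      invFun := fun x => ⟨(b ^ (r - 1)) x, hpow (r - 1) x x.2⟩
      left_inv := fun x => by
        apply Subtype.ext
        show (b ^ (r - 1)) (b x) = x
        rw [← Module.End.mul_apply, ← pow_succ, Nat.sub_add_cancel (Fact.out : r.Prime).one_le, hb]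
        rfl
      right_inv := fun x => by
        apply Subtype.ext
        show b ((b ^ (r - 1)) x) = x
        rw [← Module.End.mul_apply, ← pow_succ', Nat.sub_add_cancel (Fact.out : r.Prime).one_le, hb]
        rfl }
  have hu : ∀ k, ∀ x : X, (((u ^ k) x : X) : V) = (b ^ k) x := by
    intro k
    induction k with
    | zero => simp
    | succ k ih => intro x; rw [pow_succ', pow_succ', Equiv.Perm.mul_apply, Module.End.mul_apply, ← ih]; rfl
  have hP : IsPGroup r (Subgroup.zpowers u) := by
    intro g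
    refine ⟨1, ?_⟩
    obtain ⟨g, k, rfl⟩ := g
    apply Subtype.ext
    have : u ^ r = 1 := by
      ext x
      rw [hu r x, hb]; rfl
    simp [pow_one, ← zpow_natCast, ← _root_.zpow_mul]
    rw [mul_comm, _root_.zpow_mul, zpow_natCast, this, _root_.one_zpow]
  have hfix : MulAction.fixedPoints (Subgroup.zpowers u) X = {0} := by
    ext x
    constructor
    · intro h
      have h1 := congrArg Subtype.val (h ⟨u, Subgroup.mem_zpowers u⟩)
      exact Subtype.ext (hfree x x.2 h1)
    · rintro rfl ⟨g, hg⟩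
      show g (0 : X) = 0
      exact Subgroup.zpowers_le.2 (show u ∈ MulAction.stabilizer (Equiv.Perm X) (0 : X) from
        Subtype.ext (map_zero b)) hg
  have h := hP.card_modEq_card_fixedPoints X
  rw [hfix, Module.natCard_eq_pow_finrank (K := F), Nat.card_eq_fintype_card] at h
  simp at h
  exact (Nat.modEq_iff_dvd' (Nat.one_le_pow _ _ Fintype.card_pos)).1 h.symm

theorem no_unipotent {n : ℕ} (hn : 4 ≤ n) (hV : Module.finrank F V = n)
    (hdvd : ∀ k, 1 ≤ k → k ≤ n - 2 → ¬ r ∣ Fintype.card F ^ k - 1)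
    (hrF : (r : F) ≠ 0) (b N : V →ₗ[F] V) (hb : b ^ r = 1) (hb1 : b ≠ 1)
    (hc : Commute b N) (hN : IsNilpotent N) : N = 0 := by
  set W := LinearMap.range (b - 1) with hW
  set K := LinearMap.ker (b - 1) with hK
  have hbW : ∀ x ∈ W, b x ∈ W := by
    rintro _ ⟨y, rfl⟩
    exact ⟨b y, by simp⟩
  have hNW : ∀ x ∈ W, N x ∈ W := by
    rintro _ ⟨y, rfl⟩
    refine ⟨N y, ?_⟩
    have := LinearMap.congr_fun hc.eq y
    simp only [Module.End.mul_apply] at this
    simp [this]
  have hfree : ∀ x ∈ W, b x = x → x = 0 := by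
    rintro x ⟨y, hy⟩ hx
    have hiter : ∀ k : ℕ, (b ^ k) y = y + (k : F) • x := by
      intro k
      induction k with
      | zero => simp
      | succ k ih =>
        rw [pow_succ', Module.End.mul_apply, ih, map_add, map_smul, hx]
        simp [add_smul, ← hy]; abel
    have := hiter r
    rw [hb] at this
    simpa [hrF] using this
  have big : ∀ X : Submodule F V, (∀ x ∈ X, b x ∈ X) → X ≤ W → X ≠ ⊥ → n - 1 ≤ Module.finrank F X := by
    intro X hX hle hne
    by_contra hlt
    refine hdvd _ ?_ (by omega) (dvd_of_fixed_free b hb X hX fun x hx => hfree x (hle hx))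
    rw [Nat.one_le_iff_ne_zero]
    exact fun h => hne (Submodule.finrank_eq_zero.1 h)
  have hW0 : W ≠ ⊥ := fun h => hb1 (sub_eq_zero.1 (LinearMap.range_eq_bot.1 h))
  have hWn := big W hbW le_rfl hW0
  have hsum : Module.finrank F W + Module.finrank F K = n := by
    rw [LinearMap.finrank_range_add_finrank_ker, hV]
  obtain ⟨k, hk⟩ := hN
  have hNW0 : ∀ x ∈ W, N x = 0 := by
    by_contra hne
    push Not at hne
    obtain ⟨x, hxW, hx⟩ := hne
    have hI : ∀ y ∈ Submodule.map N W, b y ∈ Submodule.map N W := by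
      rintro _ ⟨z, hz, rfl⟩
      exact ⟨b z, hbW z hz, (LinearMap.congr_fun hc.eq z).symm⟩
    have h1 := big (Submodule.map N W) hI (Submodule.map_le_iff_le_comap.2 hNW) (fun h => hx (by
      have : N x ∈ Submodule.map N W := ⟨x, hxW, rfl⟩
      rwa [h, Submodule.mem_bot] at this))
    have hne0 : W ⊓ LinearMap.ker N ≠ ⊥ := by
      intro hbot
      have : ∀ j, ∀ z ∈ W, (N ^ j) z = 0 → z = 0 := by
        intro j
        induction j with
        | zero => intro z _ h; simpa using h
        | succ j ih =>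
          intro z hz h
          rw [pow_succ, Module.End.mul_apply] at h
          have hz0 := ih (N z) (hNW z hz) h
          have : z ∈ W ⊓ LinearMap.ker N := ⟨hz, hz0⟩
          rwa [hbot, Submodule.mem_bot] at this
      exact hx (by rw [this k x hxW (by rw [hk]; rfl)]; exact map_zero N)
    have h2 := big (W ⊓ LinearMap.ker N) (fun z hz => ⟨hbW z hz.1, by
      have := LinearMap.congr_fun hc.eq z
      simp only [Module.End.mul_apply, LinearMap.mem_ker.1 hz.2, map_zero] at this
      exact this.symm⟩) inf_le_left hne0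
    have h3 : Module.finrank F (Submodule.map N W) + Module.finrank F ↥(W ⊓ LinearMap.ker N)
        = Module.finrank F W := by
      have := LinearMap.finrank_range_add_finrank_ker (N.domRestrict W)
      rw [LinearMap.range_domRestrict, LinearMap.ker_domRestrict] at this
      rw [← this]
      congr 1
      rw [← Submodule.finrank_map_subtype_eq W ((LinearMap.ker N).comap W.subtype),
        Submodule.map_comap_subtype]
    omega
  have hNK : ∀ x ∈ K, N x = 0 := by
    intro x hx
    have hmem : N x ∈ K := by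
      have := LinearMap.congr_fun hc.eq x
      simp only [Module.End.mul_apply] at this
      simp [hK, LinearMap.mem_ker, sub_eq_zero] at hx ⊢
      rw [this, hx]
    by_contra hne
    have hK1 : Module.finrank F K ≤ 1 := by omega
    have hx0 : x ≠ 0 := fun h => hne (by rw [h, map_zero])
    have hK1' : Module.finrank F K = 1 := le_antisymm hK1 (Nat.one_le_iff_ne_zero.2 fun h => by
      rw [Submodule.finrank_eq_zero] at h; rw [h, Submodule.mem_bot] at hx; exact hx0 hx)
    obtain ⟨c, hc'⟩ := exists_smul_eq_of_finrank_eq_one hK1' (x := ⟨x, hx⟩)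
      (fun h => hx0 (congrArg Subtype.val h)) ⟨N x, hmem⟩
    have hc'' : c • x = N x := congrArg Subtype.val hc'
    have hiter : ∀ j, (N ^ j) x = c ^ j • x := by
      intro j
      induction j with
      | zero => simp
      | succ j ih => rw [pow_succ', Module.End.mul_apply, ih, map_smul, ← hc'', smul_smul, pow_succ]
    have h0 := hiter k
    rw [hk] at h0
    have hck : c ^ k = 0 := (smul_eq_zero.1 (h0.symm.trans (LinearMap.zero_apply x))).resolve_right hx0
    exact hne (by rw [← hc'', eq_zero_of_pow_eq_zero hck, zero_smul])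
  ext x
  have hdis : Disjoint W K := Submodule.disjoint_def.2 fun z hz hzK =>
    hfree z hz (sub_eq_zero.1 (LinearMap.mem_ker.1 hzK))
  have htop : W ⊔ K = ⊤ := Submodule.eq_top_of_disjoint _ _ (by omega) hdis
  obtain ⟨y, hy, z, hz, rfl⟩ := Submodule.mem_sup.1 (htop ▸ Submodule.mem_top : x ∈ W ⊔ K)
  simp [hNW0 y hy, hNK z hz]

omit [Fact r.Prime] in
theorem center_pow {n : ℕ} [NeZero n] {z : Matrix.SpecialLinearGroup (Fin n) F}
    (hz : z ∈ Subgroup.center (Matrix.SpecialLinearGroup (Fin n) F)) :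
    z ^ (Fintype.card F - 1) = 1 := by
  obtain ⟨c, hc1, hcz⟩ := Matrix.SpecialLinearGroup.mem_center_iff.1 hz
  have hc0 : c ≠ 0 := fun h => by simp [h, zero_pow (NeZero.ne n)] at hc1
  apply Subtype.ext
  rw [Matrix.SpecialLinearGroup.coe_pow, ← hcz, ← map_pow, FiniteField.pow_card_sub_one_eq_one c hc0]
  simp


/-- Let F be a finite field of characteristic p, n ≥ 4, and let a, b be commuting elements of PSL(n, F) with a of order p. Then every prime divisor of the order of b divides the order of SL(n − 2, F). -/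
theorem result {F : Type*} [Field F] [Fintype F] (p : ℕ) [Fact p.Prime] [CharP F p] (n : ℕ) (hn : 4 ≤ n)
    (a b : Matrix.ProjectiveSpecialLinearGroup (Fin n) F) (ha : orderOf a = p) (hab : Commute a b) :
    (orderOf b).primeFactors ⊆ (Nat.card (Matrix.SpecialLinearGroup (Fin (n - 2)) F)).primeFactors := by
  classical
  have hp : p.Prime := Fact.out
  haveI : NeZero n := ⟨by omega⟩
  obtain ⟨s, -, hs⟩ := FiniteField.card F p
  set q := Fintype.card F with hq
  have hq2 : 2 ≤ q := Fintype.one_lt_card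
  intro r hr
  rw [Nat.mem_primeFactors] at hr ⊢
  obtain ⟨hrp, hrb, -⟩ := hr
  refine ⟨hrp, ?_, Nat.card_pos.ne'⟩
  by_contra hndvd
  haveI := Fact.mk hrp
  have hSL := Cfsg.Agent.GLOrder.card_SL (F := F) (n - 2)
  rw [Nat.card_eq_fintype_card (α := F), ← hq] at hSL
  have hdk : ∀ k, 1 ≤ k → k ≤ n - 2 → ¬ r ∣ q ^ k - 1 := by
    intro k h1 h2 hd
    apply hndvd
    have hmem : max k 2 - 1 ∈ Finset.Ico 1 (n - 2) := by simp; omega
    rw [hSL]
    refine Dvd.dvd.mul_left (dvd_trans ?_ (Finset.dvd_prod_of_mem _ hmem)) _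
    rw [Nat.sub_add_cancel (by omega)]
    rcases (show k = 1 ∨ 2 ≤ k by omega) with rfl | hk
    · refine dvd_trans hd ?_
      simpa using Nat.sub_dvd_pow_sub_pow q 1 2
    · rwa [max_eq_left hk]
  have hrp' : r ≠ p := by
    rintro rfl
    apply hndvd
    rw [hSL]
    refine Dvd.dvd.mul_right (dvd_pow (hs ▸ dvd_pow_self r s.ne_zero) ?_) _
    have : 2 * 1 ≤ (n - 2) * (n - 2 - 1) := Nat.mul_le_mul (by omega) (by omega)
    omega
  have hr1 : ¬ r ∣ q - 1 := fun h => hdk 1 le_rfl (by omega) (by simpa using h)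
  have hrF : (r : F) ≠ 0 := fun h => hrp' (((Nat.prime_dvd_prime_iff_eq hp hrp).1
    ((CharP.cast_eq_zero_iff F p r).1 h)).symm)
  have hp1 : ¬ p ∣ q - 1 := fun h => by
    have hpq : p ∣ q := hs ▸ dvd_pow_self p s.ne_zero
    have : p ∣ 1 := by simpa [Nat.sub_sub_self (show 1 ≤ q by omega)] using Nat.dvd_sub hpq h
    exact hp.ne_one (Nat.dvd_one.1 this)
  obtain ⟨d, hd⟩ := hrb
  have hbd : orderOf (b ^ d) = r := by
    have hd0 : d ≠ 0 := fun h => by simp [h, (orderOf_pos b).ne'] at hd
    rw [orderOf_pow' _ hd0, hd]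
    rw [Nat.gcd_mul_left_left, Nat.mul_div_cancel _ (by omega)]
  obtain ⟨A, rfl⟩ := QuotientGroup.mk'_surjective (Subgroup.center (Matrix.SpecialLinearGroup (Fin n) F)) a
  obtain ⟨B, hB⟩ := QuotientGroup.mk'_surjective (Subgroup.center (Matrix.SpecialLinearGroup (Fin n) F)) (b ^ d)
  set π := QuotientGroup.mk' (Subgroup.center (Matrix.SpecialLinearGroup (Fin n) F))
  set A' := A ^ (q - 1)
  set B' := B ^ (q - 1)
  have hA1 : A' ^ p = 1 := by
    rw [← pow_mul, mul_comm, pow_mul]
    refine center_pow ((QuotientGroup.eq_one_iff _).1 ?_)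
    show π (A ^ p) = 1
    rw [map_pow, ← ha, pow_orderOf_eq_one]
  have hB1 : B' ^ r = 1 := by
    rw [← pow_mul, mul_comm, pow_mul]
    refine center_pow ((QuotientGroup.eq_one_iff _).1 ?_)
    show π (B ^ r) = 1
    rw [map_pow, hB, ← hbd, pow_orderOf_eq_one]
  have hA0 : π A' ≠ 1 := fun h => by
    rw [map_pow] at h
    exact hp1 (ha ▸ orderOf_dvd_of_pow_eq_one h)
  have hB0 : π B' ≠ 1 := fun h => by
    rw [map_pow, hB] at h
    exact hr1 (hbd ▸ orderOf_dvd_of_pow_eq_one h)
  have hcomm : Commute A' B' := by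
    have hz : A'⁻¹ * (B' * A' * B'⁻¹) ∈ Subgroup.center (Matrix.SpecialLinearGroup (Fin n) F) := by
      refine (QuotientGroup.eq_one_iff _).1 ?_
      show π _ = 1
      have hc : Commute (π A') (π B') := by
        rw [map_pow, map_pow, hB]
        exact ((hab.pow_right d).pow_pow _ _)
      simp only [map_mul, map_inv]
      rw [← hc.eq]; group
    set z := A'⁻¹ * (B' * A' * B'⁻¹) with hzdef
    have hconj : B' * A' * B'⁻¹ = A' * z := by rw [hzdef]; group
    have hzp : z ^ p = 1 := by
      have hc : Commute A' z := (Subgroup.mem_center_iff.1 hz A')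
      have h := congrArg (· ^ p) hconj
      simp only [conj_pow, hA1, hc.mul_pow, one_mul] at h
      simpa using h.symm
    have hz1 : z = 1 := by
      have h1 := Nat.dvd_gcd (orderOf_dvd_of_pow_eq_one hzp) (orderOf_dvd_of_pow_eq_one (center_pow hz))
      rw [← hq, (hp.coprime_iff_not_dvd.2 hp1)] at h1
      exact orderOf_eq_one_iff.1 (Nat.dvd_one.1 h1)
    rw [hz1, mul_one, mul_inv_eq_iff_eq_mul] at hconj
    exact hconj.symm
  have hN := no_unipotent (F := F) (V := Fin n → F) hn (by simp) hdk hrF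
    (Matrix.toLin' (B' : Matrix (Fin n) (Fin n) F))
    (Matrix.toLin' ((A' : Matrix (Fin n) (Fin n) F) - 1)) ?_ ?_ ?_ ?_
  · refine hA0 ?_
    have : A' = 1 := by
      apply Subtype.ext
      have := sub_eq_zero.1 ((map_eq_zero_iff _ Matrix.toLin'.injective).1 hN)
      simpa using this
    rw [this, map_one]
  · rw [← Matrix.toLin'_pow, ← Matrix.SpecialLinearGroup.coe_pow, hB1]
    simp
    rfl
  · intro h
    refine hB0 ?_
    have : B' = 1 := by
      apply Subtype.ext
      apply Matrix.toLin'.injective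
      rw [h]; simp; rfl
    rw [this, map_one]
  · have : Commute (B' : Matrix (Fin n) (Fin n) F) ((A' : Matrix (Fin n) (Fin n) F) - 1) := by
      refine Commute.sub_right ?_ (Commute.one_right _)
      exact congrArg Subtype.val hcomm.eq.symm
    show _ * _ = _ * _
    rw [Module.End.mul_eq_comp, Module.End.mul_eq_comp, ← Matrix.toLin'_mul, this.eq, Matrix.toLin'_mul]
  · refine ⟨p, ?_⟩
    rw [← Matrix.toLin'_pow, sub_pow_char_of_commute _ (Commute.one_right _),
      ← Matrix.SpecialLinearGroup.coe_pow, hA1]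
    simp

end Cfsg.Agent.S2364
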