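import Cfsg.Statements.S2365
import Cfsg.Agent.S2364
import Cfsg.Agent.Lib.GLOrder.Torus
import Cfsg.Agent.Lib.Unitary.Center
import Cfsg.Agent.Lib.Unitary.Count
import Cfsg.Agent.EqLemmas

set_option autoImplicit false
open Cfsg

namespace Cfsg.Agent.S2365

open Matrix Polynomial Cfsg.Agent.Unitary

section Helpers

variable {F : Type*} [Field F] {V : Type*} [AddCommGroup V] [Module F V]

theorem aeval_mem (b : Module.End F V) (W : Submodule F V) (hW : ∀ x ∈ W, b x ∈ W) (f : F[X]) :
    ∀ x ∈ W, aeval b f x ∈ W := by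
  induction f using Polynomial.induction_on with
  | C a => intro x hx; simp [Algebra.algebraMap_eq_smul_one, W.smul_mem a hx]
  | add f g hf hg => intro x hx; simp only [map_add, LinearMap.add_apply]; exact W.add_mem (hf x hx) (hg x hx)
  | monomial n a ih =>
    intro x hx
    rw [pow_succ, ← mul_assoc, map_mul, aeval_X, Module.End.mul_apply]
    exact ih (b x) (hW x hx)

theorem aeval_comm (b N : Module.End F V) (hc : Commute b N) (f : F[X]) :
    Commute (aeval b f) N := by
  induction f using Polynomial.induction_on with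
  | C a => rw [aeval_C]; exact Algebra.commutes a N
  | add f g hf hg => rw [map_add]; exact hf.add_left hg
  | monomial n a ih => rw [pow_succ, ← mul_assoc, map_mul, aeval_X]; exact ih.mul_left hc

/-- An irreducible factor annihilating a subspace with no invariant proper part. -/
theorem simple_factor [FiniteDimensional F V] {r : ℕ} (b : Module.End F V) (hb : b ^ r = 1)
    (X : Submodule F V) (hX : ∀ x ∈ X, b x ∈ X) (hne : X ≠ ⊥)
    (hfree : ∀ x ∈ X, b x = x → x = 0)
    (hsimp : ∀ Y : Submodule F V, (∀ x ∈ Y, b x ∈ Y) → Y ≤ X → Y = ⊥ ∨ Y = X) :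
    ∃ f : F[X], Irreducible f ∧ f.natDegree ≤ Module.finrank F X ∧
      f ∣ Polynomial.X ^ r - 1 ∧ f.eval 1 ≠ 0 ∧ ∀ x ∈ X, aeval b f x = 0 := by
  haveI : Nontrivial X := Submodule.nontrivial_iff_ne_bot.2 hne
  let bX : Module.End F X := LinearMap.restrict b hX
  have hval : ∀ (f : F[X]) (x : X), ((aeval bX f x : X) : V) = aeval b f x := by
    intro f
    induction f using Polynomial.induction_on with
    | C a => intro x; simp [Algebra.algebraMap_eq_smul_one]
    | add f g hf hg => intro x; simp [map_add, hf x, hg x]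
    | monomial n a ih =>
      intro x
      simp only [pow_succ, ← mul_assoc]
      rw [map_mul (aeval bX) (C a * Polynomial.X ^ n), map_mul (aeval b) (C a * Polynomial.X ^ n),
        aeval_X, aeval_X, Module.End.mul_apply, Module.End.mul_apply]
      rw [ih (bX x)]
      rfl
  have hint : IsIntegral F bX := Algebra.IsIntegral.isIntegral bX
  have hz : ∀ f : F[X], (∀ x ∈ X, aeval b f x = 0) → minpoly F bX ∣ f := fun f hf =>
    minpoly.dvd F bX (LinearMap.ext fun x => Subtype.ext (by rw [hval]; exact hf x x.2))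
  have hμ : ∀ x ∈ X, aeval b (minpoly F bX) x = 0 := fun x hx => by
    rw [← hval _ ⟨x, hx⟩, minpoly.aeval]; rfl
  have hirr : Irreducible (minpoly F bX) := by
    refine ⟨minpoly.not_isUnit F bX, fun u v huv => ?_⟩
    have hmul : ∀ x ∈ X, aeval b u (aeval b v x) = 0 := fun x hx => by
      rw [← Module.End.mul_apply, ← map_mul, ← huv]; exact hμ x hx
    have h0 : minpoly F bX ≠ 0 := minpoly.ne_zero hint
    rcases hsimp (X ⊓ LinearMap.ker (aeval b v)) (fun x hx => ⟨hX x hx.1, by
        have h := LinearMap.congr_fun (aeval_comm b b (Commute.refl b) v).eq x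
        simp only [Module.End.mul_apply, LinearMap.mem_ker.1 hx.2, map_zero] at h
        exact h⟩) inf_le_left with h | h
    · right
      have hu : ∀ x ∈ X, aeval b u x = 0 := by
        intro x hx
        have hinj : Function.Injective ((aeval b v).restrict (aeval_mem b X hX v)) := by
          intro y z hyz
          have : (y : V) - z ∈ X ⊓ LinearMap.ker (aeval b v) := ⟨X.sub_mem y.2 z.2,
            LinearMap.mem_ker.2 (by rw [map_sub, sub_eq_zero]; exact congrArg Subtype.val hyz)⟩
          rw [h, Submodule.mem_bot, sub_eq_zero] at this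
          exact Subtype.ext this
        obtain ⟨y, hy⟩ := LinearMap.injective_iff_surjective.1 hinj ⟨x, hx⟩
        have : aeval b v y = x := congrArg Subtype.val hy
        rw [← this]; exact hmul y y.2
      obtain ⟨w, hw⟩ := hz u hu
      rw [huv, mul_assoc] at hw
      have hu0 : u ≠ 0 := fun h => h0 (by rw [huv, h, zero_mul])
      exact IsUnit.of_mul_eq_one w (mul_left_cancel₀ hu0 (by rw [← hw, mul_one]))
    · left
      obtain ⟨w, hw⟩ := hz v fun x hx => LinearMap.mem_ker.1 (h.ge hx).2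
      rw [huv, mul_comm u v, mul_assoc] at hw
      have hv0 : v ≠ 0 := fun h => h0 (by rw [huv, h, mul_zero])
      exact IsUnit.of_mul_eq_one w (mul_left_cancel₀ hv0 (by rw [← hw, mul_one]))
  refine ⟨minpoly F bX, hirr, ?_, hz _ fun x _ => by simp [hb], fun h1 => ?_, hμ⟩
  · rw [← LinearMap.charpoly_natDegree bX]
    exact natDegree_le_of_dvd (LinearMap.minpoly_dvd_charpoly bX) (LinearMap.charpoly_monic bX).ne_zero
  · have hd : (Polynomial.X - C 1) ∣ minpoly F bX := dvd_iff_isRoot.2 h1
    obtain ⟨w, hw⟩ := hd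
    rcases hirr.2 hw with hu | hu
    · exact not_isUnit_X_sub_C 1 hu
    · obtain ⟨c, hc0, rfl⟩ := Polynomial.isUnit_iff.1 hu
      refine hne ((Submodule.eq_bot_iff X).2 fun x hx => hfree x hx ?_)
      have h := hμ x hx
      rw [hw, mul_comm, map_mul, Module.End.mul_apply, aeval_C, Module.algebraMap_end_apply,
        smul_eq_zero] at h
      have h' := h.resolve_left hc0.ne_zero
      simpa [sub_eq_zero] using h'

end Helpers

section Unitary

variable {F : Type*} [Field F] [Fintype F] {q : ℕ}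

theorem zmod_of_pow_eq {M : Type*} [Monoid M] {β : M} {r : ℕ} [Fact r.Prime] (h : orderOf β = r)
    {i j : ℕ} (hij : β ^ i = β ^ j) : (i : ZMod r) = j := by
  have hfin : IsOfFinOrder β := orderOf_pos_iff.1 (h ▸ (Fact.out : r.Prime).pos)
  have := hfin.pow_eq_pow_iff_modEq.1 hij
  rw [h] at this
  exact (ZMod.natCast_eq_natCast_iff _ _ _).2 this

/-- The degree of a self-paired eigenvalue orbit. -/
theorem neg_q_pow (hF : Fintype.card F = q ^ 2) {r : ℕ} [hr : Fact r.Prime] {V : Type*}
    [AddCommGroup V] [Module F V] {h : V → V → F} (H : IsHerm q h)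
    (b : Module.End F V) (hb : b ^ r = 1) (hu : ∀ x y, h (b x) (b y) = h x y)
    (W : Submodule F V) (hW : ∀ x ∈ W, b x ∈ W) (hne : W ≠ ⊥)
    (hnd : ∀ x ∈ W, (∀ y ∈ W, h x y = 0) → x = 0)
    (f : F[X]) (hf : Irreducible f) (hdvd : f ∣ Polynomial.X ^ r - 1) (h1 : f.eval 1 ≠ 0)
    (hann : ∀ x ∈ W, aeval b f x = 0) :
    (-(q : ZMod r)) ^ f.natDegree = 1 := by
  set σ := Cfsg.Agent.Unitary.conjHom hF with hσ
  set ν := (f.map σ).comp (Polynomial.X ^ (r - 1)) with hνdef
  have hadj : ∀ (i : ℕ) x y, h ((b ^ i) x) y = h x (((b ^ (r - 1)) ^ i) y) := by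
    intro i
    induction i with
    | zero => intro x y; simp
    | succ i ih =>
      intro x y
      rw [pow_succ, Module.End.mul_apply, ih, pow_succ' _ i, Module.End.mul_apply]
      generalize ((b ^ (r - 1)) ^ i) y = z
      conv_lhs => rw [show z = b ((b ^ (r - 1)) z) by
        rw [← Module.End.mul_apply, ← pow_succ', Nat.sub_add_cancel hr.out.one_le, hb]; rfl]
      rw [hu]
  have hexp : ∀ x y, h (aeval b f x) y = h x (aeval b ν y) := by
    intro x y
    rw [hνdef, aeval_comp, aeval_X_pow, aeval_eq_sum_range, aeval_eq_sum_range,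
      natDegree_map_eq_of_injective σ.injective, LinearMap.sum_apply, LinearMap.sum_apply,
      H.sum_left, H.sum_right hF]
    refine Finset.sum_congr rfl fun i _ => ?_
    rw [LinearMap.smul_apply, LinearMap.smul_apply, H.smul_left, H.smul_right, hadj, coeff_map,
      hσ, Cfsg.Agent.Unitary.conjHom_apply, pow_q_pow_q hF]
  have hν : f ∣ ν := by
    by_contra hn
    obtain ⟨u, v, huv⟩ := hf.coprime_iff_not_dvd.2 hn
    refine hne ((Submodule.eq_bot_iff W).2 fun w hw => ?_)
    have hzero : aeval b ν w = 0 := hnd _ (aeval_mem b W hW ν w hw) fun y hy => by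
      rw [H.eq_zero_symm hF, ← hexp, hann y hy, H.zero_left]
    have := LinearMap.congr_fun (congrArg (aeval b) huv) w
    simp only [map_add, map_mul, map_one, LinearMap.add_apply, Module.End.mul_apply,
      Module.End.one_apply, hann w hw, hzero, map_zero, add_zero] at this
    exact this.symm
  haveI := Fact.mk hf
  let E := AdjoinRoot f
  let β : E := AdjoinRoot.root f
  have hroot : aeval β f = 0 := by rw [AdjoinRoot.aeval_eq, AdjoinRoot.mk_self]
  have hβr : β ^ r = 1 := by
    have h0 : aeval β (Polynomial.X ^ r - 1 : F[X]) = 0 := by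
      obtain ⟨w, hw⟩ := hdvd
      rw [hw, map_mul, hroot, zero_mul]
    simpa [sub_eq_zero] using h0
  have hβ1 : β ≠ 1 := by
    intro h
    rw [h, ← map_one (algebraMap F E), aeval_algebraMap_apply, map_eq_zero_iff _ (RingHom.injective _),
      coe_aeval_eq_eval] at hroot
    exact h1 hroot
  have hord : orderOf β = r := orderOf_eq_prime hβr hβ1
  obtain ⟨p, s, hp, hchar, rfl, hs⟩ := exists_prime_pow hF
  haveI := Fact.mk hp
  haveI : CharP E p := charP_of_injective_algebraMap (RingHom.injective (algebraMap F E)) p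
  have hy : aeval (β ^ (r - 1)) (f.map σ) = 0 := by
    obtain ⟨w, hw⟩ := hν
    have : aeval β ν = 0 := by rw [hw, map_mul, hroot, zero_mul]
    rwa [hνdef, aeval_comp, aeval_X_pow] at this
  have hy' : aeval (β ^ ((r - 1) * p ^ s)) f = 0 := by
    have h := congrArg (· ^ p ^ s) hy
    simp only [aeval_eq_sum_range, natDegree_map_eq_of_injective σ.injective, sum_pow_char_pow,
      zero_pow (pow_ne_zero s hp.ne_zero)] at h
    rw [aeval_eq_sum_range, ← h]
    refine Finset.sum_congr rfl fun i _ => ?_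
    rw [coeff_map, hσ, Cfsg.Agent.Unitary.conjHom_apply, Algebra.smul_def, Algebra.smul_def, mul_pow, ← map_pow,
      pow_q_pow_q hF, ← pow_mul, ← pow_mul, ← pow_mul]
    congr 2
    ring
  haveI : Module.Finite F E := (AdjoinRoot.powerBasis hf.ne_zero).finite
  haveI : Finite E := Module.finite_of_finite F
  obtain ⟨i, hi⟩ := (FiniteField.bijective_frobeniusAlgHom_pow F E).2
    (AdjoinRoot.liftAlgHom f (Algebra.ofId F E) (β ^ ((r - 1) * p ^ s)) hy')
  have hi' := DFunLike.congr_fun hi β
  simp only [AlgHom.coe_pow, FiniteField.coe_frobeniusAlgHom, pow_iterate, β] at hi'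
  erw [AdjoinRoot.liftAlgHom_root] at hi'
  rw [Fintype.card_eq_nat_card.trans rfl] at hi'
  have hQ : ((Nat.card F : ℕ) : ZMod r) = (p ^ s : ℕ) ^ 2 := by
    rw [Nat.card_eq_fintype_card, hF, Nat.cast_pow]
  have e1 := zmod_of_pow_eq hord hi'
  rw [Nat.cast_pow, hQ, Nat.cast_mul, Nat.cast_sub hr.out.one_le, ZMod.natCast_self, Nat.cast_one,
    zero_sub, neg_one_mul] at e1
  have e2 : β ^ (Nat.card F ^ f.natDegree) = β ^ 1 := by
    rw [pow_one]
    have hc : Nat.card E = Nat.card F ^ f.natDegree := by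
      rw [Module.natCard_eq_pow_finrank (K := F), (AdjoinRoot.powerBasis hf.ne_zero).finrank,
        AdjoinRoot.powerBasis_dim]
    rw [← hc]
    haveI := Fintype.ofFinite E
    rw [Nat.card_eq_fintype_card, FiniteField.pow_card]
  have e3 := zmod_of_pow_eq hord e2
  rw [Nat.cast_pow, hQ, Nat.cast_one] at e3
  rw [← e1, ← pow_mul, mul_comm, pow_mul, e3, one_pow]

theorem no_unipotent (hF : Fintype.card F = q ^ 2) {r : ℕ} [hr : Fact r.Prime] {V : Type*}
    [AddCommGroup V] [Module F V] [FiniteDimensional F V] {h : V → V → F} (H : IsHerm q h)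
    (hnondeg : Nondeg h) {m : ℕ} (hm : 4 ≤ m) (hV : Module.finrank F V = m) (hrF : (r : F) ≠ 0)
    (hu : ∀ i, 1 ≤ i → i ≤ m - 2 → (-(q : ZMod r)) ^ i ≠ 1)
    (b N : Module.End F V) (hb : b ^ r = 1) (hb1 : b ≠ 1) (hun : ∀ x y, h (b x) (b y) = h x y)
    (hc : Commute b N) (hN : IsNilpotent N) : N = 0 := by
  set W := LinearMap.range (b - 1) with hWdef
  set K := LinearMap.ker (b - 1) with hKdef
  have hfix : ∀ x, x ∈ K ↔ b x = x := fun x => by simp [hKdef, LinearMap.mem_ker, sub_eq_zero]
  have hbW : ∀ x ∈ W, b x ∈ W := by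
    rintro _ ⟨y, rfl⟩
    exact ⟨b y, by simp⟩
  have hNW : ∀ x ∈ W, N x ∈ W := by
    rintro _ ⟨y, rfl⟩
    refine ⟨N y, ?_⟩
    have := LinearMap.congr_fun hc.eq y
    simp only [Module.End.mul_apply] at this
    simp [this]
  have hfree : ∀ x ∈ W, b x = x → x = 0 := by
    rintro x ⟨y, hy⟩ hx
    have hiter : ∀ k : ℕ, (b ^ k) y = y + (k : F) • x := by
      intro k
      induction k with
      | zero => simp
      | succ k ih =>
        rw [pow_succ', Module.End.mul_apply, ih, map_add, map_smul, hx]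
        simp [add_smul, ← hy]; abel
    have := hiter r
    rw [hb] at this
    simpa [hrF] using this
  have hsum : Module.finrank F W + Module.finrank F K = m := by
    rw [LinearMap.finrank_range_add_finrank_ker, hV]
  have hdis : Disjoint W K := Submodule.disjoint_def.2 fun z hz hzK => hfree z hz ((hfix z).1 hzK)
  have htop : W ⊔ K = ⊤ := Submodule.eq_top_of_disjoint _ _ (by omega) hdis
  have hnd : ∀ x ∈ W, (∀ y ∈ W, h x y = 0) → x = 0 := by
    rintro x ⟨z, rfl⟩ hx
    refine hnondeg _ fun y => ?_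
    obtain ⟨y₁, hy₁, y₂, hy₂, rfl⟩ := Submodule.mem_sup.1 (htop ▸ Submodule.mem_top : y ∈ W ⊔ K)
    rw [H.add_right hF, hx y₁ hy₁, zero_add]
    have hh := hun z y₂
    rw [(hfix y₂).1 hy₂] at hh
    rw [LinearMap.sub_apply, Module.End.one_apply, H.sub_left, hh, sub_self]
  -- the dimension of an invariant fixed-point-free subspace
  have hq2 : (((Fintype.card F : ℕ) : ZMod r)) = (-(q : ZMod r)) ^ 2 := by
    rw [hF, Nat.cast_pow]; ring
  have big0 : ∀ X : Submodule F V, (∀ x ∈ X, b x ∈ X) → X ≤ W →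
      (-(q : ZMod r)) ^ (2 * Module.finrank F X) = 1 := by
    intro X hX hle
    have h0 := S2364.dvd_of_fixed_free b hb X hX fun x hx => hfree x (hle hx)
    rw [← ZMod.natCast_eq_zero_iff, Nat.cast_sub (Nat.one_le_pow _ _ Fintype.card_pos), Nat.cast_pow,
      hq2, ← pow_mul, Nat.cast_one, sub_eq_zero] at h0
    exact h0
  have bigu : ∀ i, 1 ≤ i → (-(q : ZMod r)) ^ i = 1 → m - 1 ≤ i := fun i h1 h2 => by
    by_contra hlt
    exact hu i h1 (by omega) h2
  have hpos : ∀ X : Submodule F V, X ≠ ⊥ → 1 ≤ Module.finrank F X := fun X hX =>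
    Nat.one_le_iff_ne_zero.2 fun h => hX (Submodule.finrank_eq_zero.1 h)
  have big : ∀ X : Submodule F V, (∀ x ∈ X, b x ∈ X) → X ≤ W → X ≠ ⊥ →
      m - 1 ≤ 2 * Module.finrank F X := fun X hX hle hne =>
    bigu _ (by have := hpos X hne; omega) (big0 X hX hle)
  have hgap : ∀ X Y : Submodule F V, (∀ x ∈ X, b x ∈ X) → (∀ x ∈ Y, b x ∈ Y) → X ≤ W → Y ≤ X →
      Y ≠ X → m - 1 ≤ 2 * (Module.finrank F X - Module.finrank F Y) := by
    intro X Y hX hY hle hYX hne
    have hlt := Submodule.finrank_lt_finrank_of_lt (lt_of_le_of_ne hYX hne)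
    refine bigu _ (by omega) ?_
    have h1 := big0 X hX hle
    rw [show 2 * Module.finrank F X = 2 * Module.finrank F Y +
      2 * (Module.finrank F X - Module.finrank F Y) by omega, pow_add,
      big0 Y hY (hYX.trans hle), one_mul] at h1
    exact h1
  have hW0 : W ≠ ⊥ := fun h => hb1 (sub_eq_zero.1 (LinearMap.range_eq_bot.1 h))
  -- `N` kills `W`
  obtain ⟨k, hk⟩ := hN
  have hNW0 : ∀ x ∈ W, N x = 0 := by
    by_contra hne
    push Not at hne
    obtain ⟨x, hxW, hx⟩ := hne
    set X := Submodule.map N W with hXdef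
    set L := W ⊓ LinearMap.ker N with hLdef
    have hXb : ∀ y ∈ X, b y ∈ X := by
      rintro _ ⟨z, hz, rfl⟩
      exact ⟨b z, hbW z hz, (LinearMap.congr_fun hc.eq z).symm⟩
    have hXW : X ≤ W := Submodule.map_le_iff_le_comap.2 hNW
    have hX0 : X ≠ ⊥ := fun h => hx (by
      have : N x ∈ X := ⟨x, hxW, rfl⟩
      rwa [h, Submodule.mem_bot] at this)
    have hker : ∀ j, ∀ z, (N ^ j) z = 0 → ∀ Z : Submodule F V, (∀ y ∈ Z, N y ∈ Z) →
        Z ⊓ LinearMap.ker N = ⊥ → z ∈ Z → z = 0 := by
      intro j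
      induction j with
      | zero => intro z h _ _ _ _; simpa using h
      | succ j ih =>
        intro z h Z hZ hbot hz
        rw [pow_succ, Module.End.mul_apply] at h
        have hz0 := ih (N z) h Z hZ hbot (hZ z hz)
        have : z ∈ Z ⊓ LinearMap.ker N := ⟨hz, hz0⟩
        rwa [hbot, Submodule.mem_bot] at this
    have hLb : ∀ y ∈ L, b y ∈ L := fun z hz => ⟨hbW z hz.1, by
      have := LinearMap.congr_fun hc.eq z
      simp only [Module.End.mul_apply, LinearMap.mem_ker.1 hz.2, map_zero] at this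
      exact this.symm⟩
    have hL0 : L ≠ ⊥ := fun hbot => hx (by
      rw [hker k x (by rw [hk]; rfl) W hNW hbot hxW, map_zero])
    have h3 : Module.finrank F X + Module.finrank F L = Module.finrank F W := by
      have := LinearMap.finrank_range_add_finrank_ker (N.domRestrict W)
      rw [LinearMap.range_domRestrict, LinearMap.ker_domRestrict] at this
      rw [← this, hXdef, hLdef]
      congr 1
      rw [← Submodule.finrank_map_subtype_eq W ((LinearMap.ker N).comap W.subtype),
        Submodule.map_comap_subtype]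
    have hbX := big X hXb hXW hX0
    have hbL := big L hLb inf_le_left hL0
    have simp : ∀ Z : Submodule F V, (∀ y ∈ Z, b y ∈ Z) → Z ≤ W → 2 * Module.finrank F Z < 2 * (m - 1) →
        ∀ Y : Submodule F V, (∀ y ∈ Y, b y ∈ Y) → Y ≤ Z → Y = ⊥ ∨ Y = Z := by
      intro Z hZ hZW hlt Y hY hYZ
      by_contra hcon
      push Not at hcon
      have h1 := big Y hY (hYZ.trans hZW) hcon.1
      have h2 := hgap Z Y hZ hY hZW hYZ hcon.2
      have := Submodule.finrank_mono hYZ
      omega
    have hXL : X = L := by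
      rcases simp X hXb hXW (by omega) (X ⊓ LinearMap.ker N)
        (fun y hy => ⟨hXb y hy.1, (hLb y ⟨hXW hy.1, hy.2⟩).2⟩) inf_le_left with h | h
      · exfalso
        refine hX0 ((Submodule.eq_bot_iff X).2 fun z hz => hker k z (by rw [hk]; rfl) X ?_ h hz)
        exact fun y hy => ⟨y, hXW hy, rfl⟩
      · have hle : X ≤ L := fun y hy => ⟨hXW hy, (h.ge hy).2⟩
        exact (simp L hLb inf_le_left (by omega) X hXb hle).resolve_left hX0
    obtain ⟨f, hf, hdeg, hdvd, hf1, hann⟩ := simple_factor b hb X hXb hX0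
      (fun z hz => hfree z (hXW hz)) (simp X hXb hXW (by omega))
    have hsq : ∀ w ∈ W, aeval b f (aeval b f w) = 0 := by
      intro w hw
      refine hann _ (hXL.ge ⟨aeval_mem b W hbW f w hw, LinearMap.mem_ker.2 ?_⟩)
      rw [← Module.End.mul_apply, ← (aeval_comm b N hc f).eq, Module.End.mul_apply]
      exact hann _ ⟨w, hw, rfl⟩
    obtain ⟨c, hcf⟩ := hdvd
    have hsep : (Polynomial.X ^ r - 1 : F[X]).Separable := by
      rw [← map_one (C : F →+* F[X])]
      exact separable_X_pow_sub_C 1 hrF one_ne_zero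
    rw [hcf] at hsep
    obtain ⟨u, v, huv⟩ := hsep.isCoprime
    have hannW : ∀ w ∈ W, aeval b f w = 0 := by
      intro w hw
      have e : f = u * (f * f) + v * (Polynomial.X ^ r - 1) := by
        rw [hcf]; linear_combination -f * huv
      have h0 := LinearMap.congr_fun (congrArg (aeval b) e) w
      simp only [map_add, map_mul, map_sub, map_pow, aeval_X, map_one, hb, sub_self, mul_zero,
        add_zero, Module.End.mul_apply, hsq w hw, map_zero] at h0
      exact h0
    have hd := bigu _ hf.natDegree_pos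
      (neg_q_pow hF H b hb hun W hbW hW0 hnd f hf ⟨c, hcf⟩ hf1 hannW)
    omega
  -- the fixed space is at most one-dimensional
  have hWbig : m - 1 ≤ Module.finrank F W := by
    by_cases hsW : ∀ Y : Submodule F V, (∀ y ∈ Y, b y ∈ Y) → Y ≤ W → Y = ⊥ ∨ Y = W
    · obtain ⟨f, hf, hdeg, hdvd, hf1, hann⟩ := simple_factor b hb W hbW hW0 hfree hsW
      have := bigu _ hf.natDegree_pos (neg_q_pow hF H b hb hun W hbW hW0 hnd f hf hdvd hf1 hann)
      omega
    · push Not at hsW
      obtain ⟨Y, hY, hYW, hY0, hYne⟩ := hsW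
      have h1 := big Y hY hYW hY0
      have h2 := hgap W Y hbW hY le_rfl hYW hYne
      have := Submodule.finrank_mono hYW
      omega
  have hNK : ∀ x ∈ K, N x = 0 := by
    intro x hx
    have hmem : N x ∈ K := by
      have := LinearMap.congr_fun hc.eq x
      simp only [Module.End.mul_apply] at this
      rw [hfix] at hx ⊢
      rw [this, hx]
    by_contra hne
    have hK1 : Module.finrank F K ≤ 1 := by omega
    have hx0 : x ≠ 0 := fun h => hne (by rw [h, map_zero])
    have hK1' : Module.finrank F K = 1 := le_antisymm hK1 (Nat.one_le_iff_ne_zero.2 fun h => by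
      rw [Submodule.finrank_eq_zero] at h; rw [h, Submodule.mem_bot] at hx; exact hx0 hx)
    obtain ⟨c, hc'⟩ := exists_smul_eq_of_finrank_eq_one hK1' (x := ⟨x, hx⟩)
      (fun h => hx0 (congrArg Subtype.val h)) ⟨N x, hmem⟩
    have hc'' : c • x = N x := congrArg Subtype.val hc'
    have hiter : ∀ j, (N ^ j) x = c ^ j • x := by
      intro j
      induction j with
      | zero => simp
      | succ j ih => rw [pow_succ', Module.End.mul_apply, ih, map_smul, ← hc'', smul_smul, pow_succ]
    have h0 := hiter k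
    rw [hk] at h0
    have hck : c ^ k = 0 := (smul_eq_zero.1 (h0.symm.trans (LinearMap.zero_apply x))).resolve_right hx0
    exact hne (by rw [← hc'', eq_zero_of_pow_eq_zero hck, zero_smul])
  ext x
  obtain ⟨y, hy, z, hz, rfl⟩ := Submodule.mem_sup.1 (htop ▸ Submodule.mem_top : x ∈ W ⊔ K)
  simp [hNW0 y hy, hNK z hz]

omit [Fintype F] in
/-- The matrix of an element of `SU`, as a monoid homomorphism. -/
def suMat (m : ℕ) : Cfsg.SU m F q →* Matrix (Fin m) (Fin m) F where
  toFun g := ((g : Matrix.SpecialLinearGroup (Fin m) F) : Matrix (Fin m) (Fin m) F)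
  map_one' := rfl
  map_mul' _ _ := rfl

theorem center_pow (hF : Fintype.card F = q ^ 2) {m : ℕ} (hm : 2 ≤ m) {z : Cfsg.SU m F q}
    (hz : z ∈ Subgroup.center (Cfsg.SU m F q)) : z ^ (q + 1) = 1 := by
  obtain ⟨c, -, hc, hcz⟩ := center_SU_scalar hF hm hz
  apply Subtype.ext
  apply Subtype.ext
  show suMat m (z ^ (q + 1)) = 1
  rw [map_pow]
  show ((z : Matrix.SpecialLinearGroup (Fin m) F) : Matrix (Fin m) (Fin m) F) ^ (q + 1) = 1
  rw [hcz, ← map_pow, hc, map_one]

end Unitary

/-- Let q be a power of the prime p, F the field with q² elements, m ≥ 4, and let a, b be commuting elements of PSU(m, q) with a of order p. Then every prime divisor of the order of b divides the order of SU(m − 2, q). -/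
theorem result {F : Type*} [Field F] [Fintype F] (p : ℕ) [Fact p.Prime] [CharP F p] (m q : ℕ) (hm : 4 ≤ m) (hF : Fintype.card F = q ^ 2)
    (a b : Cfsg.PSU m F q) (ha : orderOf a = p) (hab : Commute a b) :
    (orderOf b).primeFactors ⊆ (Nat.card ↥(Cfsg.SU (m - 2) F q)).primeFactors := by
  classical
  have hp : p.Prime := Fact.out
  obtain ⟨s, hs, hq⟩ : ∃ s, 1 ≤ s ∧ q = p ^ s := by
    obtain ⟨p', s, -, hchar', hq, hs⟩ := exists_prime_pow hF
    exact ⟨s, hs, by rw [hq, CharP.eq F hchar' ‹CharP F p›]⟩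
  have hq2 := two_le_q hF
  intro r hr
  rw [Nat.mem_primeFactors] at hr ⊢
  obtain ⟨hrp, hrb, -⟩ := hr
  refine ⟨hrp, ?_, Nat.card_pos.ne'⟩
  by_contra hndvd
  haveI := Fact.mk hrp
  obtain ⟨j, hj⟩ : ∃ j, m - 2 = j + 1 := ⟨m - 3, by omega⟩
  have hSU : Nat.card (Cfsg.SU (m - 2) F q) = q ^ ((m - 2) * (m - 2 - 1) / 2) *
      ∏ i ∈ Finset.range j, (if Even (i + 1) then q ^ (i + 2) + 1 else q ^ (i + 2) - 1) := by
    have h := card_SU hF (m - 2) (by omega)
    rw [hj, Finset.prod_range_succ', if_pos (show Even 0 by simp), zero_add, pow_one] at h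
    rw [hj]
    refine Nat.eq_of_mul_eq_mul_left (show 0 < q + 1 by omega) (h.trans ?_)
    ring
  have hfac : ∀ i, i < j → ¬ r ∣ (if Even (i + 1) then q ^ (i + 2) + 1 else q ^ (i + 2) - 1) :=
    fun i hi hd => hndvd (by
      rw [hSU]
      exact Dvd.dvd.mul_left (hd.trans (Finset.dvd_prod_of_mem
        (fun i => if Even (i + 1) then q ^ (i + 2) + 1 else q ^ (i + 2) - 1) (Finset.mem_range.2 hi))) _)
  have hrpne : r ≠ p := by
    rintro rfl
    apply hndvd
    rw [hSU]
    refine Dvd.dvd.mul_right (dvd_pow (hq ▸ dvd_pow_self r (by omega)) ?_) _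
    have : 2 * 1 ≤ (m - 2) * (m - 2 - 1) := Nat.mul_le_mul (by omega) (by omega)
    omega
  have hr1 : ¬ r ∣ q + 1 := fun h => by
    refine hfac 0 (by omega) ?_
    rw [if_neg (by simp)]
    exact h.trans (Dvd.intro (q - 1) (Cfsg.Agent.GLOrder.sq_sub_one q).symm)
  have hu : ∀ i, 1 ≤ i → i ≤ m - 2 → (-(q : ZMod r)) ^ i ≠ 1 := by
    intro i h1 h2 h
    rcases Nat.eq_or_lt_of_le h1 with rfl | h1
    · rw [pow_one, neg_eq_iff_add_eq_zero] at h
      exact hr1 ((ZMod.natCast_eq_zero_iff _ _).1 (by push_cast; linear_combination h))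
    · refine hfac (i - 2) (by omega) ?_
      rw [show i - 2 + 1 = i - 1 by omega, show i - 2 + 2 = i by omega, ← ZMod.natCast_eq_zero_iff]
      rcases Nat.even_or_odd i with he | ho
      · rw [if_neg (by rw [Nat.not_even_iff_odd]; exact Nat.Even.sub_odd (by omega) he odd_one),
          Nat.cast_sub (Nat.one_le_pow _ _ (by omega)), Nat.cast_pow, ← he.neg_pow, h, Nat.cast_one,
          sub_self]
      · rw [if_pos (Nat.Odd.sub_odd ho odd_one)]
        rw [ho.neg_pow] at h
        push_cast
        linear_combination -h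
  have hrF : (r : F) ≠ 0 := fun h => hrpne (((Nat.prime_dvd_prime_iff_eq hp hrp).1
    ((CharP.cast_eq_zero_iff F p r).1 h)).symm)
  have hp1 : ¬ p ∣ q + 1 := fun h => by
    have hpq : p ∣ q := hq ▸ dvd_pow_self p (by omega)
    exact hp.ne_one (Nat.dvd_one.1 ((Nat.dvd_add_right hpq).1 h))
  obtain ⟨d, hd⟩ := hrb
  have hbd : orderOf (b ^ d) = r := by
    have hd0 : d ≠ 0 := fun h => by simp [h, (orderOf_pos b).ne'] at hd
    rw [orderOf_pow' _ hd0, hd]
    rw [Nat.gcd_mul_left_left, Nat.mul_div_cancel _ (by omega)]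
  obtain ⟨A, rfl⟩ := QuotientGroup.mk'_surjective (Subgroup.center (Cfsg.SU m F q)) a
  obtain ⟨B, hB⟩ := QuotientGroup.mk'_surjective (Subgroup.center (Cfsg.SU m F q)) (b ^ d)
  set π := QuotientGroup.mk' (Subgroup.center (Cfsg.SU m F q))
  set A' := A ^ (q + 1)
  set B' := B ^ (q + 1)
  have hA1 : A' ^ p = 1 := by
    rw [← pow_mul, mul_comm, pow_mul]
    refine center_pow hF (by omega) ((QuotientGroup.eq_one_iff _).1 ?_)
    show π (A ^ p) = 1
    rw [map_pow, ← ha, pow_orderOf_eq_one]
  have hB1 : B' ^ r = 1 := by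
    rw [← pow_mul, mul_comm, pow_mul]
    refine center_pow hF (by omega) ((QuotientGroup.eq_one_iff _).1 ?_)
    show π (B ^ r) = 1
    rw [map_pow, hB, ← hbd, pow_orderOf_eq_one]
  have hA0 : π A' ≠ 1 := fun h => by
    rw [map_pow] at h
    exact hp1 (ha ▸ orderOf_dvd_of_pow_eq_one h)
  have hB0 : π B' ≠ 1 := fun h => by
    rw [map_pow, hB] at h
    exact hr1 (hbd ▸ orderOf_dvd_of_pow_eq_one h)
  have hcomm : Commute A' B' := by
    have hz : A'⁻¹ * (B' * A' * B'⁻¹) ∈ Subgroup.center (Cfsg.SU m F q) := by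
      refine (QuotientGroup.eq_one_iff _).1 ?_
      show π _ = 1
      have hc : Commute (π A') (π B') := by
        rw [map_pow, map_pow, hB]
        exact ((hab.pow_right d).pow_pow _ _)
      simp only [map_mul, map_inv]
      rw [← hc.eq]; group
    set z := A'⁻¹ * (B' * A' * B'⁻¹) with hzdef
    have hconj : B' * A' * B'⁻¹ = A' * z := by rw [hzdef]; group
    have hzp : z ^ p = 1 := by
      have hc : Commute A' z := (Subgroup.mem_center_iff.1 hz A')
      have h := congrArg (· ^ p) hconj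
      simp only [conj_pow, hA1, hc.mul_pow, one_mul] at h
      simpa using h.symm
    have hz1 : z = 1 := by
      have h1 := Nat.dvd_gcd (orderOf_dvd_of_pow_eq_one hzp)
        (orderOf_dvd_of_pow_eq_one (center_pow hF (by omega) hz))
      rw [(hp.coprime_iff_not_dvd.2 hp1)] at h1
      exact orderOf_eq_one_iff.1 (Nat.dvd_one.1 h1)
    rw [hz1, mul_one, mul_inv_eq_iff_eq_mul] at hconj
    exact hconj.symm
  let T : Cfsg.SU m F q →* Module.End F (Fin m → F) :=
    (Matrix.toLinAlgEquiv' : Matrix (Fin m) (Fin m) F ≃ₐ[F] _).toMonoidHom.comp (suMat m)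
  have hT : ∀ g, T g = 1 → g = 1 := fun g h => Subtype.ext (Subtype.ext
    (Matrix.toLinAlgEquiv'.injective (h.trans (map_one _).symm)))
  haveI : Nonempty (Fin m) := ⟨⟨0, by omega⟩⟩
  haveI : CharP (Module.End F (Fin m → F)) p :=
    charP_of_injective_algebraMap (RingHom.injective (algebraMap F _)) p
  have hN := no_unipotent hF (hermForm_isHerm hF m) (hermForm_nondeg hF m) hm
    (Module.finrank_fin_fun F) hrF hu (T B') (T A' - 1)
    (by rw [← map_pow, hB1, map_one])
    (fun h => hB0 (by rw [hT _ h, map_one]))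
    (fun x y => SU_apply B' x y)
    ((hcomm.symm.map T).sub_right (Commute.one_right _))
    ⟨p, by rw [sub_pow_char_of_commute _ (Commute.one_right _), ← map_pow, hA1, map_one, one_pow,
      sub_self]⟩
  exact hA0 (by rw [hT _ (sub_eq_zero.1 hN), map_one])

end Cfsg.Agent.S2365
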