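import Cfsg.Statements.S2362
import Cfsg.Agent.Lib.SylowTorus.Sp
import Cfsg.Agent.Lib.Orth.Order
import Cfsg.Agent.S0286
import Cfsg.Agent.S2365
import Cfsg.Agent.Lib.Semisimple.Basic
import Cfsg.Agent.Lib.Zsigmondy.Basic
import Cfsg.Agent.EqLemmas

set_option autoImplicit false
open Cfsg

namespace Cfsg.Agent.S2362

open Matrix Polynomial

section Symplectic

variable {F : Type*} [Field F] [Fintype F]

/-- `PSp_{2(k+1)}(q)` has an element of order `p (q^k + 1)`. -/
theorem exists_psp_order (p : ℕ) [hp : Fact p.Prime] [CharP F p] (hp2 : p ≠ 2) (k : ℕ) (hk : 0 < k) :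
    ∃ x : Cfsg.PSp (k + 1) F, orderOf x = p * (Fintype.card F ^ k + 1) := by
  haveI : NeZero k := ⟨hk.ne'⟩
  let K := FiniteField.Extension F p k
  obtain ⟨s, hs⟩ := GLOrder.exists_orderOf_SL_two (F := K) (d := Fintype.card F ^ k + 1) (Or.inr (by
    rw [FiniteField.natCard_extension F p k, Nat.card_eq_fintype_card]))
  have hfin : Module.finrank F (K × F) = k + 1 := by
    rw [Module.finrank_prod, Module.finrank_self]
    simp only [K, FiniteField.finrank_extension]
  let b := Module.finBasisOfFinrankEq F (K × F) hfin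
  obtain ⟨l, hl⟩ : ∃ l : K →ₗ[F] F, l 1 = 1 :=
    Module.Projective.exists_dual_eq_one F (one_ne_zero : (1 : K) ≠ 0)
  let τ : K × F →ₗ[F] F := l.comp (LinearMap.fst F K F) + LinearMap.snd F K F
  have hτ : ∀ x, (∀ y, τ (x * y) = 0) → x = 0 := by
    intro x hx
    refine Prod.ext ?_ ?_
    · by_contra h
      have h' : x.1 ≠ 0 := h
      have := hx (x.1⁻¹, 0)
      simp [τ, mul_inv_cancel₀ h', hl] at this
    · by_contra h
      have := hx (0, 1)
      simp [τ] at this
      exact h this
  obtain ⟨φ, hφ, hneg⟩ := SylowTorus.exists_sl2_hom_neg b τ hτ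
  let u : Matrix (Fin 2) (Fin 2) F := !![1, 1; 0, 1]
  let X2 : Matrix (Fin 2) (Fin 2) (K × F) := Matrix.of fun i j => (s.1 i j, u i j)
  have hX : X2.det = 1 := by
    rw [Matrix.det_fin_two]
    refine Prod.ext ?_ (by simp [X2, u])
    have := s.2
    rw [Matrix.det_fin_two] at this
    simpa [X2] using this
  let x : Matrix.SpecialLinearGroup (Fin 2) (K × F) := ⟨X2, hX⟩
  have hpow : ∀ j : ℕ, ∀ a b, ((x ^ j).1 a b).1 = (s ^ j).1 a b ∧
      ((x ^ j).1 a b).2 = (!![1, (j : F); 0, 1] : Matrix (Fin 2) (Fin 2) F) a b := by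
    intro j
    induction j with
    | zero =>
      intro a b
      rw [pow_zero, pow_zero, Matrix.SpecialLinearGroup.coe_one, Matrix.SpecialLinearGroup.coe_one]
      fin_cases a <;> fin_cases b <;> simp
    | succ j ih =>
      intro a b
      rw [pow_succ, pow_succ, Matrix.SpecialLinearGroup.coe_mul, Matrix.SpecialLinearGroup.coe_mul,
        Matrix.mul_apply, Matrix.mul_apply, Fin.sum_univ_two, Fin.sum_univ_two]
      refine ⟨?_, ?_⟩
      · rw [Prod.fst_add, Prod.fst_mul, Prod.fst_mul, (ih a 0).1, (ih a 1).1]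
        rfl
      · rw [Prod.snd_add, Prod.snd_mul, Prod.snd_mul, (ih a 0).2, (ih a 1).2]
        show _ * u 0 b + _ * u 1 b = _
        fin_cases a <;> fin_cases b <;> simp [u, add_comm]
  have h2 : (2 : F) ≠ 0 := fun h => hp2 ((Nat.prime_dvd_prime_iff_eq hp.out Nat.prime_two).1
    ((CharP.cast_eq_zero_iff F p 2).1 (by exact_mod_cast h)))
  have hiff : ∀ j : ℕ, φ x ^ j ∈ Subgroup.center ↥(Matrix.symplecticGroup (Fin (k + 1)) F) ↔
      p * (Fintype.card F ^ k + 1) ∣ j := by
    intro j
    rw [← map_pow, GLOrder.center_Sp]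
    have hcop : Nat.Coprime p (Fintype.card F ^ k + 1) := by
      rw [hp.out.coprime_iff_not_dvd]
      intro h
      obtain ⟨e, -, he⟩ := FiniteField.card F p
      have : p ∣ Fintype.card F ^ k := dvd_pow (he ▸ dvd_pow_self p e.ne_zero) hk.ne'
      exact hp.out.ne_one (Nat.dvd_one.1 ((Nat.dvd_add_right this).1 h))
    constructor
    · intro h
      have hx : x ^ j = 1 := by
        rcases h with h | h
        · exact hφ ((Subtype.ext h : φ (x ^ j) = 1).trans (map_one φ).symm)
        · exfalso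
          have hn : (x ^ j).1 = -1 := by
            let m1 : Matrix.SpecialLinearGroup (Fin 2) (K × F) := ⟨-1, by
              rw [Matrix.det_neg]; simp⟩
            have : x ^ j = m1 := hφ (Subtype.ext (h.trans (hneg m1 rfl).symm))
            rw [this]
          have h1 := (hpow j 0 0).2
          rw [hn] at h1
          simp at h1
          exact h2 (by linear_combination -h1)
      refine hcop.mul_dvd_of_dvd_of_dvd ?_ ?_
      · have h1 := (hpow j 0 1).2
        rw [hx] at h1
        simp at h1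
        exact (CharP.cast_eq_zero_iff F p j).1 h1.symm
      · rw [← hs]
        refine orderOf_dvd_of_pow_eq_one (Subtype.ext (Matrix.ext fun a b => ?_))
        rw [← (hpow j a b).1, hx]
        fin_cases a <;> fin_cases b <;> simp
    · intro h
      refine Or.inl ?_
      have h1 : (j : F) = 0 := (CharP.cast_eq_zero_iff F p j).2 (dvd_trans (dvd_mul_right _ _) h)
      have h3 : s ^ j = 1 := orderOf_dvd_iff_pow_eq_one.1 (hs ▸ dvd_trans (dvd_mul_left _ _) h)
      have hx : x ^ j = 1 := by
        refine Subtype.ext (Matrix.ext fun a b => Prod.ext ?_ ?_)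
        · rw [(hpow j a b).1, h3]
          fin_cases a <;> fin_cases b <;> simp
        · rw [(hpow j a b).2, h1]
          fin_cases a <;> fin_cases b <;> simp
      rw [hx, map_one]; rfl
  refine ⟨QuotientGroup.mk' _ (φ x), orderOf_eq_iff (Nat.mul_pos hp.out.pos (Nat.succ_pos _)) |>.2
    ⟨?_, fun j hj hj0 h => ?_⟩⟩
  · rw [← map_pow]
    exact (QuotientGroup.eq_one_iff _).2 ((hiff _).2 dvd_rfl)
  · rw [← map_pow] at h
    exact absurd (Nat.le_of_dvd hj0 ((hiff j).1 ((QuotientGroup.eq_one_iff _).1 h))) (not_le.2 hj)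

end Symplectic

section Square

variable {F : Type*} [Field F]

/-- The determinant of a non-degenerate alternating form is a square. -/
theorem det_alternating {V : Type*} [AddCommGroup V] [Module F V] [FiniteDimensional F V]
    (A : LinearMap.BilinForm F V) (halt : ∀ x, A x x = 0) (hnd : ∀ x, (∀ y, A x y = 0) → x = 0)
    {k : ℕ} (hV : Module.finrank F V = 2 * k) {ι : Type*} [Fintype ι] [DecidableEq ι]
    (b : Module.Basis ι F V) : ∃ c : F, c ≠ 0 ∧ (Matrix.of fun i j => A (b i) (b j)).det = c ^ 2 := by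
  obtain ⟨⟨⟨e, f⟩, he, hf, hef⟩⟩ := GLOrder.nonempty_frame k A halt hnd hV
  have hE : ∀ i j, A (Sum.elim e f i) (Sum.elim e f j) = (-(Matrix.J (Fin k) F)) i j := by
    rintro (i | i) (j | j)
    · simp [Matrix.J, he]
    · simp [Matrix.J, hef, Matrix.one_apply]
    · simp only [Sum.elim_inr, Sum.elim_inl]
      rw [GLOrder.alt_swap halt (e j) (f i), hef]
      simp [Matrix.J, Matrix.one_apply, eq_comm]
    · simp [Matrix.J, hf]
  let P : Matrix ι (Fin k ⊕ Fin k) F := Matrix.of fun i a => b.repr (Sum.elim e f a) i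
  have hg : P.transpose * (Matrix.of fun i j => A (b i) (b j)) * P = -(Matrix.J (Fin k) F) := by
    ext a c
    rw [← hE]
    conv_rhs => rw [← b.sum_repr (Sum.elim e f a), ← b.sum_repr (Sum.elim e f c)]
    simp only [map_sum, map_smul, LinearMap.sum_apply, LinearMap.smul_apply, smul_eq_mul, Matrix.mul_apply,
      Matrix.transpose_apply, Matrix.of_apply, P, Finset.sum_mul, Finset.mul_sum]
    refine Finset.sum_congr rfl fun i _ => Finset.sum_congr rfl fun j _ => ?_
    ring
  have hcard : Fintype.card ι = Fintype.card (Fin k ⊕ Fin k) := by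
    rw [← Module.finrank_eq_card_basis b, hV, Fintype.card_sum, Fintype.card_fin]; ring
  let e' := Fintype.equivOfCardEq hcard
  set G := Matrix.of fun i j => A (b i) (b j)
  have hdet : (P.submatrix e'.symm id).det ^ 2 * (G.submatrix e'.symm e'.symm).det =
      (-(Matrix.J (Fin k) F)).det := by
    have h1 : P.transpose * G * P = (P.submatrix e'.symm id).transpose * (G.submatrix e'.symm e'.symm) *
        (P.submatrix e'.symm id) := by
      rw [Matrix.transpose_submatrix, Matrix.submatrix_mul_equiv, Matrix.submatrix_mul_equiv]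
      rfl
    have h2 := congrArg Matrix.det (hg.symm.trans h1)
    rw [Matrix.det_mul, Matrix.det_mul, Matrix.det_transpose] at h2
    rw [h2]; ring
  have hJ : (-(Matrix.J (Fin k) F)).det = 1 := by
    have h1 : -(Matrix.J (Fin k) F) = Matrix.fromBlocks 0 (1 : Matrix (Fin k) (Fin k) F) (-1) 0 := by
      rw [Matrix.J, Matrix.fromBlocks_neg]; simp
    have h2 : Matrix.fromBlocks (0 : Matrix (Fin k) (Fin k) F) (1 : Matrix (Fin k) (Fin k) F)
          (-1 : Matrix (Fin k) (Fin k) F) (0 : Matrix (Fin k) (Fin k) F) *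
        Matrix.fromBlocks (1 : Matrix (Fin k) (Fin k) F) (0 : Matrix (Fin k) (Fin k) F) 1 1 =
        Matrix.fromBlocks (1 : Matrix (Fin k) (Fin k) F) (1 : Matrix (Fin k) (Fin k) F) (-1) 0 := by
      simp [Matrix.fromBlocks_multiply]
    have h3 := congrArg Matrix.det h2
    rw [Matrix.det_mul, Matrix.det_fromBlocks_zero₁₂, Matrix.det_one, mul_one, mul_one,
      Matrix.det_fromBlocks_one₁₁] at h3
    rw [h1, h3]; simp
  rw [hJ, Matrix.det_submatrix_equiv_self] at hdet
  have hne : (P.submatrix e'.symm id).det ≠ 0 := fun h0 => by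
    rw [h0] at hdet; simp at hdet
  exact ⟨(P.submatrix e'.symm id).det⁻¹, inv_ne_zero hne, by field_simp; linear_combination hdet⟩

end Square

section Orthogonal

open Cfsg.Agent.Orth
open QuadraticMap (polar)

variable {ι : Type} [Fintype ι] [DecidableEq ι] {F : Type*} [Field F] [Fintype F]
variable {Q : QuadraticForm F (ι → F)}

/-- No element of `Ω` in dimension `2k+3` has order `p (q^k + 1)`. -/
theorem no_omega_order (hG : Good Q) (p : ℕ) [hp : Fact p.Prime] [CharP F p] (hp2 : p ≠ 2) {k : ℕ}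
    (hk : 2 ≤ k) (hι : Fintype.card ι = 2 * k + 3) (g : IsoGrp Q) (hg : g ∈ Omega F ⇑Q) :
    orderOf g ≠ p * (Fintype.card F ^ k + 1) := by
  intro hord
  classical
  set q := Fintype.card F with hqdef
  have hq : 1 < q := Fintype.one_lt_card
  obtain ⟨e, -, hqe⟩ := FiniteField.card F p
  have hpq : p ∣ q := by rw [hqdef, hqe]; exact dvd_pow_self p e.ne_zero
  set M := q ^ k + 1 with hM
  have hqodd : Odd q := by rw [hqdef, hqe]; exact (hp.out.odd_of_ne_two hp2).pow
  have hMeven : Even M := (hqodd.pow).add_one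
  have hM3 : 3 ≤ M := by
    have : q ≤ q ^ k := Nat.le_self_pow (by omega) q
    obtain ⟨t, ht⟩ := hqodd; omega
  have hpM : Nat.Coprime p M := hp.out.coprime_iff_not_dvd.2 fun h => hp.out.ne_one
    (Nat.dvd_one.1 ((Nat.dvd_add_right (dvd_pow hpq (by omega))).1 h))
  obtain ⟨r, hr, hrd, hrp⟩ := Zsigmondy.exists_primitive hq (show 1 < 2 * k by omega)
    (fun h => by obtain ⟨t, ht⟩ := hqodd; omega) (fun h => by omega)
  haveI := Fact.mk hr
  have hrq : ¬ r ∣ q := fun h => by
    have h1 : r ∣ q ^ (2 * k) := dvd_pow h (by omega)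
    have h2 := Nat.dvd_sub h1 hrd
    rw [Nat.sub_sub_self (Nat.one_le_pow _ _ (by omega))] at h2
    exact hr.ne_one (Nat.dvd_one.1 h2)
  have hrk : ¬ r ∣ q ^ k - 1 := hrp k (by omega) (by omega)
  have hsplit : q ^ (2 * k) - 1 = M * (q ^ k - 1) := by
    rw [hM, ← GLOrder.sq_sub_one, mul_comm 2 k, pow_mul]
  have hrM : r ∣ M := (hr.dvd_mul.1 (hsplit ▸ hrd)).resolve_right hrk
  have hrne : r ≠ p := fun h => hrq (h ▸ hpq)
  have hrF : (r : F) ≠ 0 := fun h => hrne (((Nat.prime_dvd_prime_iff_eq hp.out hr).1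
    ((CharP.cast_eq_zero_iff F p r).1 h)).symm)
  have hordr : orderOf (q : ZMod r) = 2 * k := by
    refine (orderOf_eq_iff (by omega)).2 ⟨?_, fun m hm hm0 h => hrp m hm0 hm ?_⟩
    · have h := (ZMod.natCast_eq_zero_iff _ _).2 hrd
      rwa [Nat.cast_sub (Nat.one_le_pow _ _ (by omega)), Nat.cast_pow, Nat.cast_one, sub_eq_zero] at h
    · rw [← ZMod.natCast_eq_zero_iff, Nat.cast_sub (Nat.one_le_pow _ _ (by omega)), Nat.cast_pow,
        Nat.cast_one, sub_eq_zero]
      exact h
  have h2F : (2 : F) ≠ 0 := fun h => hp2 ((Nat.prime_dvd_prime_iff_eq hp.out Nat.prime_two).1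
    ((CharP.cast_eq_zero_iff F p 2).1 (by exact_mod_cast h)))
  -- the semisimple part `s` and the unipotent part
  set s := g ^ p with hs
  have hsM : orderOf s = M := by
    rw [hs, orderOf_pow' _ hp.out.ne_zero, hord, Nat.gcd_eq_right (dvd_mul_right p M), Nat.mul_div_cancel_left _ hp.out.pos]
  have hsΩ : s ∈ Omega F ⇑Q := Subgroup.pow_mem _ hg p
  let T : IsoGrp Q →* Module.End F (ι → F) :=
    { toFun := fun x => ap x
      map_one' := LinearMap.ext fun x => ap_one x
      map_mul' := fun a b => LinearMap.ext fun x => ap_mul a b x }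
  have hT : Function.Injective T := fun a b h => ext_ap fun x => LinearMap.congr_fun h x
  set b : Module.End F (ι → F) := T s with hbdef
  have hb : b ^ M = 1 := by rw [hbdef, ← map_pow, ← hsM, pow_orderOf_eq_one, map_one]
  have hiso : ∀ x y, polar ⇑Q (b x) (b y) = polar ⇑Q x y := fun x y => polar_ap s x y
  have hpow : ∀ (x : IsoGrp Q) u v, polar ⇑Q (T x u) (T x v) = polar ⇑Q u v := fun x u v => polar_ap x u v
  set N : Module.End F (ι → F) := T (g ^ M) - 1 with hNdef
  have hN0 : N ≠ 0 := fun h => by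
    have h1 : g ^ M = 1 := hT ((sub_eq_zero.1 h).trans (map_one T).symm)
    have := Nat.le_of_dvd (by omega) (hord ▸ orderOf_dvd_of_pow_eq_one h1)
    have := hp.out.two_le
    nlinarith
  have hNnil : N ^ p = 0 := by
    haveI : CharP (Module.End F (ι → F)) p := by
      haveI : Nonempty ι := Fintype.card_pos_iff.1 (by omega)
      exact charP_of_injective_algebraMap (RingHom.injective (algebraMap F _)) p
    rw [hNdef, sub_pow_char_of_commute _ (Commute.one_right _), ← map_pow, ← pow_mul, mul_comm, ← hord,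
      pow_orderOf_eq_one, map_one, one_pow, sub_self]
  have hcN : Commute b N := by
    refine Commute.sub_right ?_ (Commute.one_right _)
    exact ((Commute.refl g).pow_pow p M).map T
  -- the element of prime order
  set s0 : Module.End F (ι → F) := b ^ (M / r) with hs0
  have hs0r : s0 ^ r = 1 := by rw [hs0, ← pow_mul, Nat.div_mul_cancel hrM, hb]
  have hs01 : s0 ≠ 1 := fun h => by
    have h1 : s ^ (M / r) = 1 := hT (by rw [map_pow, map_one]; exact h)
    have h2 := Nat.le_of_dvd (Nat.div_pos (Nat.le_of_dvd (by omega) hrM) hr.pos)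
      (hsM ▸ orderOf_dvd_of_pow_eq_one h1)
    exact absurd h2 (not_le.2 (Nat.div_lt_self (by omega) hr.one_lt))
  set W := LinearMap.range (s0 - 1) with hWdef
  set K := LinearMap.ker (s0 - 1) with hKdef
  have hfix : ∀ x, x ∈ K ↔ s0 x = x := fun x => by simp [hKdef, LinearMap.mem_ker, sub_eq_zero]
  have invW : ∀ X : Module.End F (ι → F), Commute s0 X → ∀ x ∈ W, X x ∈ W := by
    rintro X hX _ ⟨y, rfl⟩
    exact ⟨X y, (LinearMap.congr_fun ((hX.sub_left (Commute.one_left X)).eq) y)⟩
  have invK : ∀ X : Module.End F (ι → F), Commute s0 X → ∀ x ∈ K, X x ∈ K := fun X hX x hx => by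
    rw [hfix] at hx ⊢
    calc s0 (X x) = (s0 * X) x := rfl
      _ = X (s0 x) := by rw [hX.eq]; rfl
      _ = X x := by rw [hx]
  have hfree : ∀ x ∈ W, s0 x = x → x = 0 := by
    rintro x ⟨y, hy⟩ hx
    have hiter : ∀ j : ℕ, (s0 ^ j) y = y + (j : F) • x := by
      intro j
      induction j with
      | zero => simp
      | succ j ih =>
        rw [pow_succ', Module.End.mul_apply, ih, map_add, map_smul, hx]
        simp [add_smul, ← hy]; abel
    have := hiter r
    rw [hs0r] at this
    simpa [hrF] using this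
  have hdimdvd : ∀ X : Submodule F (ι → F), (∀ x ∈ X, s0 x ∈ X) → X ≤ W → 2 * k ∣ Module.finrank F X := by
    intro X hX hle
    have h0 := S2364.dvd_of_fixed_free s0 hs0r X hX fun x hx => hfree x (hle hx)
    rw [← hordr]
    refine orderOf_dvd_of_pow_eq_one ?_
    rwa [← ZMod.natCast_eq_zero_iff, Nat.cast_sub (Nat.one_le_pow _ _ (by omega)), Nat.cast_pow,
      Nat.cast_one, sub_eq_zero] at h0
  have hW0 : W ≠ ⊥ := fun h => hs01 (sub_eq_zero.1 (LinearMap.range_eq_bot.1 h))
  have hsum : Module.finrank F W + Module.finrank F K = 2 * k + 3 := by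
    rw [LinearMap.finrank_range_add_finrank_ker, Module.finrank_fintype_fun_eq_card, hι]
  have hWd : Module.finrank F W = 2 * k := by
    obtain ⟨c, hc⟩ := hdimdvd W (invW s0 (Commute.refl _)) le_rfl
    have h0 : Module.finrank F W ≠ 0 := fun h => hW0 (Submodule.finrank_eq_zero.1 h)
    rcases c with _ | _ | c
    · omega
    · omega
    · nlinarith
  have hdis : Disjoint W K := Submodule.disjoint_def.2 fun z hz hzK => hfree z hz ((hfix z).1 hzK)
  have htop : W ⊔ K = ⊤ := Submodule.eq_top_of_disjoint _ _ (by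
    rw [Module.finrank_fintype_fun_eq_card, hι]; omega) hdis
  have hsimp : ∀ Y : Submodule F (ι → F), (∀ x ∈ Y, s0 x ∈ Y) → Y ≤ W → Y = ⊥ ∨ Y = W := by
    intro Y hY hle
    obtain ⟨c, hc⟩ := hdimdvd Y hY hle
    have h1 := Submodule.finrank_mono hle
    rcases c with _ | _ | c
    · exact Or.inl (Submodule.finrank_eq_zero.1 (by omega))
    · exact Or.inr (Submodule.eq_of_le_of_finrank_eq hle (by omega))
    · nlinarith
  obtain ⟨f₀, hf₀, hfdeg, -, -, hfW₀⟩ := S2365.simple_factor s0 hs0r W (invW s0 (Commute.refl _)) hW0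
    hfree hsimp
  obtain ⟨f, hfm, hf, hfdeg, hfW⟩ : ∃ f : F[X], f.Monic ∧ Irreducible f ∧
      f.natDegree ≤ Module.finrank F W ∧ ∀ x ∈ W, aeval s0 f x = 0 := by
    have hu : IsUnit (C f₀.leadingCoeff⁻¹) :=
      isUnit_C.2 (Ne.isUnit (inv_ne_zero (leadingCoeff_ne_zero.2 hf₀.ne_zero)))
    refine ⟨f₀ * C f₀.leadingCoeff⁻¹, monic_mul_leadingCoeff_inv hf₀.ne_zero,
      (irreducible_mul_isUnit hu).2 hf₀, ?_, fun x hx => ?_⟩
    · rw [natDegree_mul_leadingCoeff_inv _ hf₀.ne_zero]; exact hfdeg
    · rw [mul_comm, map_mul, Module.End.mul_apply, hfW₀ x hx, map_zero]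
  obtain ⟨w, hw, hw0⟩ := (Submodule.ne_bot_iff W).1 hW0
  have hcyc : ∀ X : Module.End F (ι → F), Commute s0 X → ∃ c : F[X], ∀ x ∈ W, X x = aeval s0 c x := by
    intro X hX
    have horb : LinearMap.range (Semisimple.orbitMap s0 w) = W := by
      refine (hsimp _ (Semisimple.range_invt s0 w) ?_).resolve_left fun h => hw0 ?_
      · rintro _ ⟨c, rfl⟩
        exact S2365.aeval_mem s0 W (invW s0 (Commute.refl _)) c w hw
      · have : w ∈ LinearMap.range (Semisimple.orbitMap s0 w) := ⟨1, by simp⟩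
        rwa [h, Submodule.mem_bot] at this
    obtain ⟨c, hc⟩ : X w ∈ LinearMap.range (Semisimple.orbitMap s0 w) := by rw [horb]; exact invW X hX w hw
    refine ⟨c, fun x hx => ?_⟩
    obtain ⟨d, rfl⟩ : x ∈ LinearMap.range (Semisimple.orbitMap s0 w) := by rw [horb]; exact hx
    rw [Semisimple.orbitMap_apply]
    rw [Semisimple.orbitMap_apply] at hc
    calc X (aeval s0 d w) = aeval s0 d (X w) := (LinearMap.congr_fun (S2365.aeval_comm s0 X hX d).eq w).symm
      _ = _ := by rw [← hc, ← Module.End.mul_apply, ← map_mul, mul_comm, map_mul, Module.End.mul_apply]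
  have hs0b : Commute s0 b := (Commute.refl b).pow_left _
  have hs0N : Commute s0 N := hcN.pow_left _
  -- `N` vanishes on `W`
  have hNW : ∀ x ∈ W, N x = 0 := by
    obtain ⟨c, hc⟩ := hcyc N hs0N
    have hiter : ∀ j, ∀ x ∈ W, (N ^ j) x = aeval s0 (c ^ j) x := by
      intro j
      induction j with
      | zero => intro x _; simp
      | succ j ih =>
        intro x hx
        rw [pow_succ', pow_succ', map_mul, Module.End.mul_apply, Module.End.mul_apply, ← ih x hx]
        refine hc _ ?_
        rw [ih x hx]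
        exact S2365.aeval_mem s0 W (invW s0 (Commute.refl _)) _ x hx
    have hz := hiter p w hw
    rw [hNnil, LinearMap.zero_apply] at hz
    have hfc : f ∣ c := hf.prime.dvd_of_dvd_pow (n := p)
      ((Semisimple.orbitMap_eq_zero_iff s0 hw0 hf (hfW w hw) (c ^ p)).1 hz.symm)
    intro x hx
    obtain ⟨t, rfl⟩ := hfc
    rw [hc x hx, mul_comm, map_mul, Module.End.mul_apply, hfW x hx, map_zero]
  -- `b` is a scalar on `K`
  obtain ⟨cc, hcc, hbK⟩ : ∃ cc : F, cc * cc = 1 ∧ ∀ x ∈ K, b x = cc • x := by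
    have hKd : Module.finrank F K = 3 := by omega
    have hndK : ∀ x ∈ K, (∀ y ∈ K, polar ⇑Q x y = 0) → x = 0 := by
      intro x hx h
      by_contra hne
      obtain ⟨y, hy⟩ := exists_polar_ne hG.nd hne
      refine hy ?_
      obtain ⟨y₁, ⟨y₀, rfl⟩, y₂, hy₂, rfl⟩ := Submodule.mem_sup.1 (htop ▸ Submodule.mem_top : y ∈ W ⊔ K)
      rw [pl_add_right, h y₂ hy₂, add_zero]
      show polar ⇑Q x (s0 y₀ - y₀) = 0
      rw [pl_sub_right, sub_eq_zero]
      conv_lhs => rw [← (hfix x).1 hx]
      rw [hs0, hbdef, ← map_pow, hpow]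
    let NK : Module.End F K := N.restrict (invK N hs0N)
    let bK : Module.End F K := b.restrict (invK b hs0b)
    have hNKv : ∀ x : K, ((NK x : K) : ι → F) = N x := fun x => rfl
    have hskew : ∀ x y : ι → F, polar ⇑Q (N x) y + polar ⇑Q x (N y) + polar ⇑Q (N x) (N y) = 0 := by
      intro x y
      have h := hpow (g ^ M) x y
      rw [show T (g ^ M) = 1 + N by rw [hNdef]; abel, LinearMap.add_apply, LinearMap.add_apply,
        Module.End.one_apply, Module.End.one_apply, pl_add_left, pl_add_right, pl_add_right] at h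
      linear_combination h
    have hNK : NK ≠ 0 := fun h => hN0 (by
      refine LinearMap.ext fun x => ?_
      obtain ⟨y, hy, z, hz, rfl⟩ := Submodule.mem_sup.1 (htop ▸ Submodule.mem_top : x ∈ W ⊔ K)
      rw [map_add, hNW y hy, show N z = 0 from congrArg Subtype.val (LinearMap.congr_fun h ⟨z, hz⟩)]
      simp)
    have hNK2 : ∃ x, NK (NK x) ≠ 0 := by
      by_contra hall
      push Not at hall
      have hsq : ∀ z ∈ K, N (N z) = 0 := fun z hz => congrArg Subtype.val (hall ⟨z, hz⟩)
      have hiso2 : ∀ x ∈ K, ∀ y ∈ K, polar ⇑Q (N x) (N y) = 0 := fun x _ y hy => by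
        have h := hskew x (N y)
        rw [hsq y hy, pl_zero_right, pl_zero_right, add_zero, add_zero] at h
        exact h
      have hsk : ∀ x ∈ K, polar ⇑Q (N x) x = 0 := fun x hx => by
        have h := hskew x x
        rw [hiso2 x hx x hx, add_zero, pl_comm Q x (N x)] at h
        exact (mul_eq_zero.1 (show (2 : F) * _ = 0 by linear_combination h)).resolve_left h2F
      have hle : LinearMap.range NK ≤ LinearMap.ker NK := by
        rintro _ ⟨x, rfl⟩; exact hall x
      have hrk := LinearMap.finrank_range_add_finrank_ker NK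
      have hmono := Submodule.finrank_mono hle
      rw [hKd] at hrk
      have h1 : Module.finrank F (LinearMap.range NK) ≤ 1 := by omega
      obtain ⟨x0, hx0⟩ : ∃ x0, NK x0 ≠ 0 := by
        by_contra hh; push Not at hh; exact hNK (LinearMap.ext hh)
      set a := NK x0
      have hlin : ∀ x, ∃ c : F, NK x = c • a := by
        intro x
        have h1' : Module.finrank F (LinearMap.range NK) = 1 := le_antisymm h1 (Nat.one_le_iff_ne_zero.2
          fun h => hx0 ((Submodule.eq_bot_iff _).1 (Submodule.finrank_eq_zero.1 h) _ ⟨x0, rfl⟩))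
        obtain ⟨c, hc⟩ := exists_smul_eq_of_finrank_eq_one h1' (x := (⟨a, x0, rfl⟩ : LinearMap.range NK))
          (fun h => hx0 (congrArg Subtype.val h)) (⟨NK x, x, rfl⟩ : LinearMap.range NK)
        exact ⟨c, (congrArg Subtype.val hc).symm⟩
      obtain ⟨y, hy⟩ : ∃ y : K, polar ⇑Q (a : ι → F) y ≠ 0 := by
        by_contra hh; push Not at hh
        exact hx0 (Subtype.ext (hndK a a.2 fun y hy => hh ⟨y, hy⟩))
      have key : ∀ x : K, NK x = 0 ∨ polar ⇑Q (a : ι → F) x = 0 := by
        intro x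
        obtain ⟨c, hc⟩ := hlin x
        have h := hsk x x.2
        rw [← hNKv, hc, Submodule.coe_smul, pl_smul_left, mul_eq_zero] at h
        rcases h with h | h
        · exact Or.inl (by rw [hc, h, zero_smul])
        · exact Or.inr h
      have hy0 : NK y = 0 := (key y).resolve_right hy
      have hx0' : polar ⇑Q (a : ι → F) x0 = 0 := (key x0).resolve_left hx0
      rcases key (x0 + y) with h | h
      · rw [map_add, hy0, add_zero] at h; exact hx0 h
      · rw [Submodule.coe_add, pl_add_right, hx0', zero_add] at h; exact hy h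
    obtain ⟨x, hx⟩ := hNK2
    have hcKN : Commute bK NK := LinearMap.ext fun z => Subtype.ext (LinearMap.congr_fun hcN.eq z)
    have hval : ∀ j, ∀ z : K, (((NK ^ j) z : K) : ι → F) = (N ^ j) z := by
      intro j
      induction j with
      | zero => intro z; rfl
      | succ j ih =>
        intro z
        rw [pow_succ, pow_succ, Module.End.mul_apply, Module.End.mul_apply, ih, hNKv]
    have hnil : IsNilpotent NK := ⟨p, LinearMap.ext fun z => Subtype.ext (by rw [hval, hNnil]; rfl)⟩
    have hN3 : NK ^ 3 = 0 := hKd ▸ (hnil.charpoly_eq_X_pow_finrank ▸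
      (by simpa using LinearMap.aeval_self_charpoly NK :
        aeval NK NK.charpoly = 0) |> fun h => by simpa using h)
    have h3 : ∀ z, NK (NK (NK z)) = 0 := fun z => by
      have := LinearMap.congr_fun hN3 z
      simpa [pow_succ, Module.End.mul_apply] using this
    have hli : LinearIndependent F ![x, NK x, NK (NK x)] := by
      rw [Fintype.linearIndependent_iff]
      intro c hc i
      rw [Fin.sum_univ_three] at hc
      change c 0 • x + c 1 • NK x + c 2 • NK (NK x) = 0 at hc
      have h0 : c 0 = 0 := by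
        have h := congrArg (fun z => NK (NK z)) hc
        simp only [map_add, map_smul, h3, map_zero, smul_zero, add_zero, smul_eq_zero] at h
        exact h.resolve_right hx
      rw [h0, zero_smul, zero_add] at hc
      have h1 : c 1 = 0 := by
        have h := congrArg NK hc
        simp only [map_add, map_smul, h3, smul_zero, add_zero, map_zero, smul_eq_zero] at h
        exact h.resolve_right hx
      rw [h1, zero_smul, zero_add, smul_eq_zero] at hc
      fin_cases i
      · exact h0
      · exact h1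
      · exact hc.resolve_right hx
    let B3 := basisOfLinearIndependentOfCardEqFinrank hli (by rw [Fintype.card_fin, hKd])
    have hrep := B3.sum_repr (bK x)
    rw [Fin.sum_univ_three] at hrep
    simp only [B3, coe_basisOfLinearIndependentOfCardEqFinrank] at hrep
    set c0 := B3.repr (bK x) 0 with hc0
    set Z : Module.End F K := bK - c0 • 1 with hZ
    have hcomm' : ∀ z, bK (NK z) = NK (bK z) := fun z => LinearMap.congr_fun hcKN.eq z
    have hZx : Z x = B3.repr (bK x) 1 • NK x + B3.repr (bK x) 2 • NK (NK x) := by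
      show bK x - c0 • x = _
      conv_lhs => rw [← hrep]
      show c0 • x + _ + _ - c0 • x = _
      abel
    have hZN : ∀ z, Z (NK z) = NK (Z z) := fun z => by
      show bK (NK z) - c0 • NK z = NK (bK z - c0 • z)
      rw [map_sub, map_smul, hcomm']
    have hZ3 : Z ^ 3 = 0 := by
      refine B3.ext fun i => ?_
      have e1 : Z (Z (Z x)) = 0 := by
        simp only [hZx, map_add, map_smul, hZN, h3, map_zero, smul_zero, add_zero]
      simp only [B3, coe_basisOfLinearIndependentOfCardEqFinrank, pow_succ, pow_zero, one_mul,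
        Module.End.mul_apply, LinearMap.zero_apply]
      fin_cases i <;> simp [hZN, e1]
    haveI : CharP (Module.End F K) p := by
      haveI : Nontrivial K := ⟨⟨x, 0, fun h => hx (by rw [h, map_zero, map_zero])⟩⟩
      exact charP_of_injective_algebraMap (RingHom.injective (algebraMap F _)) p
    have hbp : bK ^ p = (c0 ^ p) • 1 := by
      have hc1 : Commute bK (c0 • 1) := by
        rw [← Algebra.algebraMap_eq_smul_one]; exact (Algebra.commutes c0 bK).symm
      have h := sub_pow_char_of_commute (R := Module.End F K) p hc1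
      rw [_root_.smul_pow, one_pow] at h
      have hz : Z ^ p = 0 := pow_eq_zero_of_le (by have := hp.out.two_le; omega) hZ3
      rw [hZ, h, sub_eq_zero] at hz
      exact hz
    have hbKM : bK ^ M = 1 := by
      have hv : ∀ j, ∀ z : K, (((bK ^ j) z : K) : ι → F) = (b ^ j) z := by
        intro j
        induction j with
        | zero => intro z; rfl
        | succ j ih => intro z; rw [pow_succ, pow_succ, Module.End.mul_apply, Module.End.mul_apply, ih]; rfl
      exact LinearMap.ext fun z => Subtype.ext (by rw [hv, hb]; rfl)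
    obtain ⟨i, hi⟩ : ∃ i, p * i % M = 1 := Nat.exists_mul_mod_eq_one_of_coprime hpM (by omega)
      |>.imp fun i h => h.2
    have hbscal : bK = ((c0 ^ p) ^ i) • 1 := by
      have h : bK ^ (p * i) = bK := by
        rw [← Nat.div_add_mod (p * i) M, hi, pow_add, pow_mul, hbKM, one_pow, one_mul, pow_one]
      rw [← h, pow_mul, hbp, _root_.smul_pow, one_pow]
    refine ⟨(c0 ^ p) ^ i, ?_, fun z hz => congrArg Subtype.val (LinearMap.congr_fun hbscal ⟨z, hz⟩)⟩
    obtain ⟨y, hy⟩ : ∃ y : K, polar ⇑Q (x : ι → F) y ≠ 0 := by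
      by_contra hh; push Not at hh
      exact hx (by rw [show x = 0 from Subtype.ext (hndK x x.2 fun y hy => hh ⟨y, hy⟩), map_zero, map_zero])
    have h := hiso x y
    have ex : b (x : ι → F) = ((c0 ^ p) ^ i) • (x : ι → F) := congrArg Subtype.val (LinearMap.congr_fun hbscal x)
    have ey : b (y : ι → F) = ((c0 ^ p) ^ i) • (y : ι → F) := congrArg Subtype.val (LinearMap.congr_fun hbscal y)
    rw [ex, ey, pl_smul_left, pl_smul_right, ← mul_assoc] at h
    exact mul_right_cancel₀ hy (h.trans (one_mul _).symm)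
  -- the field `E`
  haveI := Fact.mk hf
  haveI : Module.Finite F (AdjoinRoot f) := (AdjoinRoot.powerBasis hf.ne_zero).finite
  haveI : Finite (AdjoinRoot f) := Module.finite_of_finite F
  have hEdim : Module.finrank F (AdjoinRoot f) = f.natDegree := by
    rw [(AdjoinRoot.powerBasis hf.ne_zero).finrank, AdjoinRoot.powerBasis_dim]
  have horb : ∀ d : F[X], aeval s0 d w = 0 ↔ f ∣ d :=
    Semisimple.orbitMap_eq_zero_iff s0 hw0 hf (hfW w hw)
  let Wf : F[X] →ₗ[F] W := (Semisimple.orbitMap s0 w).codRestrict W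
    (fun d => S2365.aeval_mem s0 W (invW s0 (Commute.refl _)) d w hw)
  let L : AdjoinRoot f →ₗ[F] W := Wf.comp (AdjoinRoot.modByMonicHom hfm)
  have hL : ∀ d, ((L (AdjoinRoot.mk f d) : W) : ι → F) = aeval s0 d w := fun d => by
    show aeval s0 (AdjoinRoot.modByMonicHom hfm (AdjoinRoot.mk f d)) w = _
    rw [AdjoinRoot.modByMonicHom_mk, ← sub_eq_zero, ← LinearMap.sub_apply, ← map_sub]
    exact (horb _).2 ⟨-(d /ₘ f), by linear_combination modByMonic_add_div d f⟩
  have hLinj : Function.Injective L := by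
    rw [injective_iff_map_eq_zero]
    intro z hz
    obtain ⟨d, rfl⟩ := AdjoinRoot.mk_surjective z
    exact AdjoinRoot.mk_eq_zero.2 ((horb d).1 (by rw [← hL, hz]; rfl))
  have hdeg : f.natDegree = 2 * k := by
    refine le_antisymm (hWd ▸ hfdeg) ?_
    have h1 : Module.finrank F (LinearMap.range L) = f.natDegree := by
      rw [LinearMap.finrank_range_of_inj hLinj, hEdim]
    have hr1 : (LinearMap.range L).map W.subtype = W := by
      refine (hsimp _ ?_ (Submodule.map_subtype_le _ _)).resolve_left fun h => hw0 ?_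
      · rintro _ ⟨_, ⟨z, rfl⟩, rfl⟩
        obtain ⟨d, rfl⟩ := AdjoinRoot.mk_surjective z
        refine ⟨_, ⟨AdjoinRoot.mk f (Polynomial.X * d), rfl⟩, ?_⟩
        show ((L _ : W) : ι → F) = s0 ((L _ : W) : ι → F)
        rw [hL, hL, map_mul, aeval_X, Module.End.mul_apply]
      · have : ((L (AdjoinRoot.mk f 1) : W) : ι → F) ∈ (LinearMap.range L).map W.subtype :=
          ⟨_, ⟨_, rfl⟩, rfl⟩
        rw [h, Submodule.mem_bot, hL] at this
        simpa using this
    rw [← hWd, ← h1, ← Submodule.finrank_map_subtype_eq W (LinearMap.range L), hr1]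
  let eL : AdjoinRoot f ≃ₗ[F] W := LinearEquiv.ofInjectiveOfFinrankEq L hLinj (by rw [hEdim, hdeg, hWd])
  obtain ⟨c, hc⟩ := hcyc b hs0b
  set ζ := AdjoinRoot.mk f c with hζdef
  have hbW : ∀ j, ∀ x ∈ W, (b ^ j) x = aeval s0 (c ^ j) x := by
    intro j
    induction j with
    | zero => intro x _; simp
    | succ j ih =>
      intro x hx
      rw [pow_succ', pow_succ', map_mul, Module.End.mul_apply, Module.End.mul_apply, ← ih x hx]
      refine hc _ ?_
      rw [ih x hx]
      exact S2365.aeval_mem s0 W (invW s0 (Commute.refl _)) _ x hx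
  have hζpow : ∀ j, (ζ ^ j = 1 ↔ (b ^ j) w = w) := fun j => by
    rw [hbW j w hw, hζdef, ← map_pow, ← map_one (AdjoinRoot.mk f), AdjoinRoot.mk_eq_mk,
      ← horb, map_sub, map_one, LinearMap.sub_apply, Module.End.one_apply, sub_eq_zero]
  have hζM : ζ ^ M = 1 := (hζpow M).2 (by rw [hb]; rfl)
  have hEcard : Nat.card (AdjoinRoot f) = q ^ (2 * k) := by
    rw [Module.natCard_eq_pow_finrank (K := F), Nat.card_eq_fintype_card, hEdim, hdeg]
  have hnorm : ∀ y : AdjoinRoot f, algebraMap F (AdjoinRoot f) (Algebra.norm F y) =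
      y ^ ((q ^ (2 * k) - 1) / (q - 1)) := fun y => by
    rw [FiniteField.algebraMap_norm_eq_pow, hEcard, Nat.card_eq_fintype_card]
  have hq1 : q - 1 ∣ q ^ k - 1 := by simpa using Nat.sub_dvd_pow_sub_pow q 1 k
  have hNζ : Algebra.norm F ζ = 1 := by
    apply (algebraMap F (AdjoinRoot f)).injective
    rw [hnorm, map_one, hsplit, Nat.mul_div_assoc _ hq1, pow_mul, hζM, one_pow]
  -- determinants
  have hdetW : ∀ X : Module.End F (ι → F), ∀ hX : Commute s0 X, ∀ d : F[X],
      (∀ x ∈ W, X x = aeval s0 d x) →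
      LinearMap.det (X.restrict (invW X hX)) = Algebra.norm F (AdjoinRoot.mk f d) := by
    intro X hX d hd
    rw [Algebra.norm_apply, ← LinearMap.det_conj (Algebra.lmul F (AdjoinRoot f) (AdjoinRoot.mk f d)) eL]
    congr 1
    refine LinearMap.ext fun z => ?_
    obtain ⟨y, rfl⟩ := eL.surjective z
    obtain ⟨e', rfl⟩ := AdjoinRoot.mk_surjective y
    simp only [LinearMap.comp_apply, LinearEquiv.coe_coe, LinearEquiv.symm_apply_apply, Algebra.coe_lmul_eq_mul,
      LinearMap.mul_apply_apply]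
    refine Subtype.ext ?_
    show X ((L (AdjoinRoot.mk f e') : W) : ι → F) = ((L (_ * _) : W) : ι → F)
    rw [← map_mul, hL, hL, map_mul, Module.End.mul_apply, hd]
    exact S2365.aeval_mem s0 W (invW s0 (Commute.refl _)) _ w hw
  have hWK : IsCompl W K := ⟨hdis, codisjoint_iff.2 htop⟩
  have hdick := ((mem_omega_iff hG s).1 hsΩ)
  have hKd : Module.finrank F K = 3 := by omega
  have hcc1 : cc = 1 := by
    have hdet : LinearMap.det b = 1 := by
      show LinearMap.det (Matrix.mulVecLin ((s : GL ι F) : Matrix ι ι F)) = 1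
      rw [← Matrix.toLin'_apply', LinearMap.det_toLin', det_eq_dick hG, hdick.1]; simp
    rw [← Semisimple.conj_prodMap hWK (invW b hs0b) (invK b hs0b), LinearEquiv.conj_apply,
      LinearMap.comp_assoc, LinearMap.det_conj, LinearMap.det_prodMap, hdetW b hs0b c hc, hNζ, one_mul,
      show b.restrict (invK b hs0b) = cc • (1 : Module.End F K) from
        LinearMap.ext fun z => Subtype.ext (hbK z z.2), LinearMap.det_smul, map_one, mul_one, hKd] at hdet
    linear_combination hdet - cc * hcc
  have hbK1 : ∀ x ∈ K, b x = x := fun x hx => by rw [hbK x hx, hcc1, one_smul]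
  have hζhalf : ζ ^ (M / 2) ≠ 1 := fun h => by
    have h1 : b ^ (M / 2) = 1 := by
      refine LinearMap.ext fun z => ?_
      obtain ⟨y, hy, z, hz, rfl⟩ := Submodule.mem_sup.1 (htop ▸ Submodule.mem_top : z ∈ W ⊔ K)
      have hyy : (b ^ (M / 2)) y = y := by
        rw [hbW _ y hy, ← sub_eq_zero]
        have hd : f ∣ c ^ (M / 2) - 1 := by
          rw [← AdjoinRoot.mk_eq_mk, map_pow, ← hζdef, h, map_one]
        obtain ⟨t, ht⟩ := hd
        calc aeval s0 (c ^ (M / 2)) y - y = aeval s0 (c ^ (M / 2) - 1) y := by simp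
          _ = 0 := by rw [ht, mul_comm, map_mul, Module.End.mul_apply, hfW y hy, map_zero]
      have hzz : ∀ j, (b ^ j) z = z := by
        intro j
        induction j with
        | zero => rfl
        | succ j ih => rw [pow_succ', Module.End.mul_apply, ih, hbK1 z hz]
      rw [map_add, hyy, hzz]; rfl
    have h2 : s ^ (M / 2) = 1 := hT (by rw [map_pow, map_one]; exact h1)
    have := Nat.le_of_dvd (by omega) (hsM ▸ orderOf_dvd_of_pow_eq_one h2)
    omega
  have hζ2 : ζ ^ (M / 2) = -1 := by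
    refine (mul_self_eq_one_iff.1 ?_).resolve_left hζhalf
    rw [← pow_add, ← two_mul, Nat.two_mul_div_two_of_even hMeven, hζM]
  have hζ1 : ζ - 1 ≠ 0 := fun h => hζhalf (by rw [sub_eq_zero.1 h, one_pow])
  -- the spinor character of `s`
  have hres : resSpace s = W := by
    apply le_antisymm
    · rintro _ ⟨x, rfl⟩
      obtain ⟨y, hy, z, hz, rfl⟩ := Submodule.mem_sup.1 (htop ▸ Submodule.mem_top : x ∈ W ⊔ K)
      show b (y + z) - (y + z) ∈ W
      rw [map_add, hbK1 z hz, add_sub_add_right_eq_sub]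
      exact W.sub_mem (invW b hs0b y hy) hy
    · intro x hx
      let D : Module.End F W := (b - 1).restrict (invW (b - 1) (hs0b.sub_right (Commute.one_right _)))
      have hDdet : LinearMap.det D ≠ 0 := by
        rw [hdetW (b - 1) (hs0b.sub_right (Commute.one_right _)) (c - 1) (fun x hx => by simp [hc x hx]),
          map_sub, map_one]
        exact Algebra.norm_ne_zero_iff.2 hζ1
      obtain ⟨y, hy⟩ := (LinearMap.equivOfDetNeZero D hDdet).surjective ⟨x, hx⟩
      exact ⟨y, congrArg Subtype.val hy⟩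
  let D : Module.End F W := (b - 1).restrict (invW (b - 1) (hs0b.sub_right (Commute.one_right _)))
  have hDd : LinearMap.det D = Algebra.norm F (ζ - 1) := by
    rw [hdetW (b - 1) (hs0b.sub_right (Commute.one_right _)) (c - 1) (fun x hx => by simp [hc x hx]),
      map_sub, map_one]
  have hDne : LinearMap.det D ≠ 0 := by rw [hDd]; exact Algebra.norm_ne_zero_iff.2 hζ1
  let β := Module.finBasisOfFinrankEq F W hWd
  let xs : Fin (2 * k) → ι → F := fun i => (β i : ι → F)
  let ws : Fin (2 * k) → ι → F := fun i => ((D (β i) : W) : ι → F)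
  have hspin := spin_eq (g := s) ws xs
    ((β.map (LinearMap.equivOfDetNeZero D hDne)).linearIndependent.map' W.subtype (Submodule.ker_subtype _))
    (by
      rw [hres]
      have h := congrArg (Submodule.map W.subtype) (β.map (LinearMap.equivOfDetNeZero D hDne)).span_eq
      rw [Submodule.map_span, Submodule.map_top, Submodule.range_subtype, ← Set.range_comp] at h
      exact h)
    (fun i => rfl)
  -- compare with an alternating form
  have hinvb : Commute s0 (b ^ (M - 1)) := hs0b.pow_right _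
  let δ : Module.End F (ι → F) := b - b ^ (M - 1)
  have hδc : Commute s0 δ := hs0b.sub_right hinvb
  let Dδ : Module.End F W := δ.restrict (invW δ hδc)
  have hDδd : LinearMap.det Dδ = Algebra.norm F (ζ - ζ ^ (M - 1)) := by
    rw [hdetW δ hδc (c - c ^ (M - 1)) (fun x hx => by
      show b x - (b ^ (M - 1)) x = _
      rw [hc x hx, hbW _ x hx, map_sub, LinearMap.sub_apply]), map_sub, map_pow]
  have hδne : ζ - ζ ^ (M - 1) ≠ 0 := fun h => by
    have hζ1' : ζ ≠ -1 := fun hm => by
      -- then `s` squares to one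
      have h2s : s ^ 2 = 1 := hT (by
        rw [map_pow, map_one]
        refine LinearMap.ext fun z => ?_
        obtain ⟨y, hy, z, hz, rfl⟩ := Submodule.mem_sup.1 (htop ▸ Submodule.mem_top : z ∈ W ⊔ K)
        have hd : f ∣ c ^ 2 - 1 := by
          rw [← AdjoinRoot.mk_eq_mk, map_pow, ← hζdef, hm, map_one]; ring
        show (b ^ 2) (y + z) = y + z
        rw [map_add, hbW 2 y hy, sq b, Module.End.mul_apply, hbK1 z hz, hbK1 z hz]
        congr 1
        obtain ⟨t, ht⟩ := hd
        rw [sub_eq_iff_eq_add.1 ht, map_add, map_one, LinearMap.add_apply, mul_comm, map_mul,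
          Module.End.mul_apply, hfW y hy, map_zero, zero_add, Module.End.one_apply])
      have := Nat.le_of_dvd two_pos (hsM ▸ orderOf_dvd_of_pow_eq_one h2s)
      omega
    have h1 : ζ ^ 2 = 1 := by
      rw [sq]
      nth_rewrite 2 [sub_eq_zero.1 h]
      rw [← pow_succ', Nat.sub_add_cancel (by omega), hζM]
    obtain ⟨t, ht⟩ := hMeven
    rcases Nat.even_or_odd (M / 2) with ⟨u, hu⟩ | ⟨u, hu⟩
    · exact hζhalf (by rw [hu, ← two_mul, pow_mul, h1, one_pow])
    · rw [hu, pow_succ, pow_mul, h1, one_pow, one_mul] at hζ2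
      exact hζ1' hζ2
  have hadj : ∀ u v, polar ⇑Q ((b ^ (M - 1)) u) v = polar ⇑Q u (b v) := fun u v => by
    conv_rhs => rw [show u = b ((b ^ (M - 1)) u) by
      rw [← Module.End.mul_apply, ← pow_succ', Nat.sub_add_cancel (by omega), hb]; rfl]
    rw [hiso]
  let A : LinearMap.BilinForm F W := Q.polarBilin.compl₁₂ (W.subtype.comp Dδ) W.subtype
  have hA : ∀ u v : W, A u v = polar ⇑Q (δ u) v := fun u v => rfl
  have hAalt : ∀ u, A u u = 0 := fun u => by
    rw [hA]
    show polar ⇑Q (b u - (b ^ (M - 1)) u) u = 0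
    rw [pl_sub_left, hadj, pl_comm, sub_self]
  have hndW : ∀ x ∈ W, (∀ y ∈ W, polar ⇑Q x y = 0) → x = 0 := by
    intro x hx h
    by_contra hne
    obtain ⟨y, hy⟩ := exists_polar_ne hG.nd hne
    refine hy ?_
    obtain ⟨y₁, hy₁, y₂, hy₂, rfl⟩ := Submodule.mem_sup.1 (htop ▸ Submodule.mem_top : y ∈ W ⊔ K)
    rw [pl_add_right, h y₁ hy₁, zero_add]
    obtain ⟨x₀, rfl⟩ := hx
    show polar ⇑Q (s0 x₀ - x₀) y₂ = 0
    rw [pl_sub_left, sub_eq_zero]
    conv_lhs => rw [← (hfix y₂).1 hy₂]
    rw [hs0, hbdef, ← map_pow, hpow]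
  have hAnd : ∀ u, (∀ v, A u v = 0) → u = 0 := fun u hu => by
    have h0 : Dδ u = 0 := Subtype.ext (hndW _ (Dδ u).2 fun y hy => hu ⟨y, hy⟩)
    exact (LinearMap.equivOfDetNeZero Dδ (by rw [hDδd]; exact Algebra.norm_ne_zero_iff.2 hδne)).injective
      (h0.trans (map_zero _).symm)
  obtain ⟨a, ha, hdetA⟩ := det_alternating A hAalt hAnd hWd β
  let G : Matrix (Fin (2 * k)) (Fin (2 * k)) F := Matrix.of fun i j => polar ⇑Q (xs i) (xs j)
  have hmat : ∀ X : Module.End F W, (Matrix.of fun i j => polar ⇑Q ((X (β i) : W) : ι → F) (xs j)) =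
      (LinearMap.toMatrix β β X).transpose * G := by
    intro X
    ext i j
    simp only [Matrix.of_apply, Matrix.mul_apply, Matrix.transpose_apply, LinearMap.toMatrix_apply, G]
    conv_lhs => rw [← β.sum_repr (X (β i))]
    rw [Submodule.coe_sum]
    show Q.polarBilin (∑ l, _) (xs j) = _
    rw [map_sum, LinearMap.sum_apply]
    refine Finset.sum_congr rfl fun l _ => ?_
    rw [Submodule.coe_smul, map_smul, LinearMap.smul_apply, smul_eq_mul]
    rfl
  have hw' : (wallMat Q ws xs).det = Algebra.norm F (ζ - 1) * G.det := by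
    rw [show wallMat Q ws xs = _ from hmat D, Matrix.det_mul, Matrix.det_transpose, LinearMap.det_toMatrix, hDd]
  have hA' : a ^ 2 = Algebra.norm F (ζ - ζ ^ (M - 1)) * G.det := by
    rw [← hdetA, show (Matrix.of fun i j => A (β i) (β j)) = _ from hmat Dδ, Matrix.det_mul,
      Matrix.det_transpose, LinearMap.det_toMatrix, hDδd]
  set e' := (ζ - 1) * (ζ - ζ ^ (M - 1)) with he'
  have he0 : e' ≠ 0 := mul_ne_zero hζ1 hδne
  have hsq : IsSquare (Algebra.norm F e') := by
    have h1 := hdick.2
    rw [hspin, quadraticChar_one_iff_isSquare] at h1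
    · rw [pow_mul, neg_one_sq, one_pow, one_mul, hw'] at h1
      obtain ⟨y, hy⟩ := h1
      refine ⟨y * Algebra.norm F (ζ - ζ ^ (M - 1)) / a, ?_⟩
      rw [he', map_mul]
      field_simp
      linear_combination (Algebra.norm F (ζ - 1)) * hA' * Algebra.norm F (ζ - ζ ^ (M - 1)) +
        (Algebra.norm F (ζ - ζ ^ (M - 1))) ^ 2 * hy
    · rw [hw']
      refine mul_ne_zero (pow_ne_zero _ (neg_ne_zero.2 one_ne_zero))
        (mul_ne_zero (Algebra.norm_ne_zero_iff.2 hζ1) fun h0 => ha ?_)
      rw [h0, mul_zero] at hA'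
      exact pow_eq_zero_iff (n := 2) two_ne_zero |>.1 hA'
  -- but `e'` is not a square
  have hhalf : e' ^ ((q ^ (2 * k) - 1) / 2) = 1 := by
    obtain ⟨y, hy⟩ := hsq
    have hy0 : y ≠ 0 := fun h => he0 (Algebra.norm_eq_zero_iff.1 (by rw [hy, h, mul_zero]))
    have h2 : (2 : ℕ) ∣ q - 1 := by obtain ⟨t, ht⟩ := hqodd; exact ⟨t, by omega⟩
    have hS : q - 1 ∣ q ^ (2 * k) - 1 := by simpa using Nat.sub_dvd_pow_sub_pow q 1 (2 * k)
    have h3 : (q ^ (2 * k) - 1) / 2 = (q ^ (2 * k) - 1) / (q - 1) * ((q - 1) / 2) := by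
      rw [← Nat.mul_div_assoc _ h2, Nat.div_mul_cancel hS]
    rw [h3, pow_mul, ← hnorm, ← map_pow, hy, ← sq, ← pow_mul, Nat.mul_div_cancel' h2,
      FiniteField.pow_card_sub_one_eq_one y hy0, map_one]
  haveI : CharP (AdjoinRoot f) p := charP_of_injective_algebraMap (RingHom.injective (algebraMap F _)) p
  have hζ0 : ζ ≠ 0 := fun h => by rw [h, zero_pow (by omega)] at hζM; exact zero_ne_one hζM
  set y := ζ + 1 with hy
  have hyne : y ≠ 0 := fun h => by
    apply hδne
    rw [eq_neg_of_add_eq_zero_left h, Odd.neg_one_pow (by obtain ⟨t, ht⟩ := hMeven; exact ⟨t - 1, by omega⟩),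
      sub_self]
  have hprod : e' * ζ = (ζ - 1) ^ 2 * y := by
    have h1 : ζ ^ (M - 1) * ζ = 1 := by rw [← pow_succ, Nat.sub_add_cancel (by omega), hζM]
    rw [he', hy]; linear_combination -(ζ - 1) * h1
  have hQ : q ^ (2 * k) - 1 = M * (q ^ k - 1) := hsplit
  have hh2 : (q ^ (2 * k) - 1) / 2 = M / 2 * (q ^ k - 1) := by
    rw [hQ, Nat.mul_comm, Nat.mul_div_assoc _ hMeven.two_dvd, Nat.mul_comm]
  have hyQ : y ^ (q ^ k - 1) * ζ = 1 := by
    obtain ⟨e2, -, he2⟩ := FiniteField.card F p
    have hfrob : y ^ (q ^ k) = ζ ^ (q ^ k) + 1 := by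
      rw [hy, hqdef, he2, ← pow_mul, add_pow_char_pow, one_pow]
    have hζq : ζ ^ (q ^ k) * ζ = 1 := by rw [← pow_succ]; exact hζM
    refine mul_right_cancel₀ hyne ?_
    rw [mul_right_comm, ← pow_succ, Nat.sub_add_cancel (Nat.one_le_pow _ _ (by omega)), hfrob, one_mul, add_mul,
      hζq, one_mul, hy]
    ring
  have hpowQ : ∀ z : AdjoinRoot f, z ≠ 0 → z ^ (q ^ (2 * k) - 1) = 1 := fun z hz => by
    haveI := Fintype.ofFinite (AdjoinRoot f)
    rw [← hEcard, Nat.card_eq_fintype_card]
    exact FiniteField.pow_card_sub_one_eq_one z hz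
  have h4 := congrArg (· ^ ((q ^ (2 * k) - 1) / 2)) hprod
  simp only [mul_pow, hhalf, one_mul, ← pow_mul] at h4
  have h5 : 2 * ((q ^ (2 * k) - 1) / 2) = q ^ (2 * k) - 1 :=
    Nat.mul_div_cancel' (by rw [hQ]; exact hMeven.two_dvd.mul_right _)
  rw [h5, hpowQ _ hζ1, one_mul, hh2, mul_comm (M / 2), pow_mul, pow_mul] at h4
  have h6 : (y ^ (q ^ k - 1)) ^ (M / 2) = -1 := by
    have h7 := congrArg (· ^ (M / 2)) hyQ
    simp only [mul_pow, hζ2, one_pow] at h7
    linear_combination -h7
  rw [h6, ← pow_mul, mul_comm, pow_mul, hζ2, Even.neg_one_pow (by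
    obtain ⟨t, ht⟩ := hqodd.pow (n := k); exact ⟨t, by omega⟩)] at h4
  exact Ring.neg_one_ne_one_of_char_ne_two (R := AdjoinRoot f)
    (by rw [ringChar.eq (AdjoinRoot f) p]; exact hp2) h4.symm

end Orthogonal

/-- Let F be a finite field of odd order and n ≥ 3. The simple orthogonal group PΩ(2n+1, F) (type B_n) and the projective symplectic group PSp(2n, F) (type C_n), which have the same order, do not have the same set of element orders. -/
theorem result {F : Type*} [Field F] [Fintype F] (hodd : Odd (Fintype.card F)) (n : ℕ) (hn : 3 ≤ n) :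
    Set.range (orderOf : Cfsg.POmega F (Cfsg.quadFormOdd n F) → ℕ) ≠ Set.range (orderOf : Cfsg.PSp n F → ℕ) := by
  classical
  intro hEq
  obtain ⟨p, hchar⟩ := CharP.exists F
  haveI : Fact p.Prime := ⟨CharP.char_is_prime F p⟩
  obtain ⟨e, -, he⟩ := FiniteField.card F p
  have hp2 : p ≠ 2 := fun h => by
    rw [he, h] at hodd
    exact (Nat.not_even_iff_odd.2 hodd) (Nat.even_pow.2 ⟨even_two, e.ne_zero⟩)
  have h2 : (2 : F) ≠ 0 := fun h => hp2 ((Nat.prime_dvd_prime_iff_eq Fact.out Nat.prime_two).1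
    ((CharP.cast_eq_zero_iff F p 2).1 (by exact_mod_cast h)))
  obtain ⟨k, rfl⟩ : ∃ k, n = k + 1 := ⟨n - 1, by omega⟩
  obtain ⟨x, hx⟩ := exists_psp_order (F := F) p hp2 k (by omega)
  have hmem : p * (Fintype.card F ^ k + 1) ∈
      Set.range (orderOf : Cfsg.POmega F (Cfsg.quadFormOdd (k + 1) F) → ℕ) := by
    rw [hEq]; exact ⟨x, hx⟩
  set Q := Cfsg.Agent.Orth.quadOdd (k + 1) F
  obtain ⟨y, hy⟩ : p * (Fintype.card F ^ k + 1) ∈ Set.range (orderOf : Cfsg.POmega F ⇑Q → ℕ) := hmem
  have hQ := Cfsg.Agent.Orth.quadOdd_nondeg (F := F) (k + 1) h2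
  have hG := Cfsg.Agent.Orth.Good.of_two_ne_zero hQ h2
  have hι : Fintype.card (Unit ⊕ (Fin (k + 1) ⊕ Fin (k + 1))) = 2 * k + 3 := by simp; omega
  have hE := Cfsg.Agent.Orth.eichGen_le_omega hQ (by omega) (.inr (by omega))
  have hneg : Cfsg.Agent.Orth.negOne Q ∉ Cfsg.Omega F ⇑Q := fun h => by
    have h1 := ((Cfsg.Agent.Orth.mem_omega_iff hG _).1 h).1
    rw [Cfsg.Agent.Orth.dick_negOne Q h2, hι, show 2 * k + 3 = 2 * (k + 1) + 1 by omega, pow_succ, pow_mul] at h1
    norm_num at h1
  have hbot := Cfsg.Agent.Orth.center_omega_eq_bot hQ (by omega) hE (.inl hneg)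
  obtain ⟨g, rfl⟩ := QuotientGroup.mk'_surjective _ y
  rw [orderOf_injective (QuotientGroup.mk' _) (by
    rw [← MonoidHom.ker_eq_bot_iff, QuotientGroup.ker_mk', hbot]), ← Subgroup.orderOf_coe] at hy
  exact no_omega_order hG p hp2 (by omega) hι g.1 g.2 hy

end Cfsg.Agent.S2362
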