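import Cfsg.Statements.S5979
import Cfsg.Agent.EqLemmas
import Cfsg.Agent.Lib.PrimeOrderElt.Diag
import Cfsg.Agent.Lib.GLOrder.Basic
import Cfsg.Agent.Lib.Aschbacher.Simple

set_option autoImplicit false
open scoped MatrixGroups
open Cfsg

namespace Cfsg.Agent.S5979

open Cfsg.Agent.PrimeOrderElt Module Matrix
open scoped Kronecker

variable {F : Type*} [Field F]
variable {ι : Type} [Fintype ι] [DecidableEq ι]

/-- The eigenspace of a matrix. -/
abbrev eig (M : Matrix ι ι F) (c : F) : Submodule F (ι → F) :=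
  LinearMap.ker ((Matrix.toLin' M : Module.End F (ι → F)) - c • 1)

theorem mem_eig {M : Matrix ι ι F} {c : F} {v : ι → F} : v ∈ eig M c ↔ M *ᵥ v = c • v := by
  rw [LinearMap.mem_ker, LinearMap.sub_apply, sub_eq_zero, LinearMap.smul_apply, Module.End.one_apply, Matrix.toLin'_apply]

theorem eig_scalar (c d : F) (M : Matrix ι ι F) (hM : M = d • 1) :
    finrank F (eig M c) = 0 ∨ finrank F (eig M c) = Fintype.card ι := by
  subst hM
  by_cases h : d = c
  · right
    rw [show eig (d • (1 : Matrix ι ι F)) c = ⊤ from eq_top_iff.mpr fun v _ => mem_eig.mpr (by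
      rw [Matrix.smul_mulVec, Matrix.one_mulVec, h]), finrank_top, Module.finrank_pi]
  · left
    rw [show eig (d • (1 : Matrix ι ι F)) c = ⊥ from eq_bot_iff.mpr fun v hv => (Submodule.mem_bot F).mpr ?_,
      finrank_bot]
    have h1 := mem_eig.mp hv
    rw [Matrix.smul_mulVec, Matrix.one_mulVec, ← sub_eq_zero, ← sub_smul, smul_eq_zero] at h1
    exact h1.resolve_left (sub_ne_zero.mpr h)

theorem eig_diagonal (d : ι → F) (c : F) :
    finrank F (eig (Matrix.diagonal d) c) = Nat.card {i // d i = c} := by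
  classical
  have h1 : (Matrix.toLin' (Matrix.diagonal d) : Module.End F (ι → F)) - c • 1 =
      Matrix.toLin' (Matrix.diagonal fun i => d i - c) := by
    refine LinearMap.ext fun v => funext fun i => ?_
    rw [LinearMap.sub_apply, LinearMap.smul_apply, Module.End.one_apply, Pi.sub_apply, Pi.smul_apply,
      Matrix.toLin'_apply, Matrix.toLin'_apply, Matrix.mulVec_diagonal, Matrix.mulVec_diagonal, smul_eq_mul, sub_mul]
  have hr := Matrix.rank_diagonal (fun i => d i - c)
  have hn := LinearMap.finrank_range_add_finrank_ker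
    (Matrix.toLin' (Matrix.diagonal fun i => d i - c) : (ι → F) →ₗ[F] (ι → F))
  rw [Module.finrank_pi] at hn
  rw [eig, h1]
  rw [show Matrix.rank (Matrix.diagonal fun i => d i - c) =
      finrank F ↥(LinearMap.range (Matrix.toLin' (Matrix.diagonal fun i => d i - c))) from rfl] at hr
  have hc : Fintype.card {i // d i - c ≠ 0} = Fintype.card ι - Fintype.card {i // d i = c} := by
    rw [Fintype.card_congr (Equiv.subtypeEquivRight (fun i => (by rw [Ne, sub_eq_zero] : d i - c ≠ 0 ↔ ¬ d i = c))),
      Fintype.card_subtype_compl]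
  have hle : Fintype.card {i // d i = c} ≤ Fintype.card ι := Fintype.card_subtype_le _
  rw [Nat.card_eq_fintype_card]
  omega

/-- Eigenspaces of intertwined matrices. -/
theorem eig_intertwine {κ : Type} [Fintype κ] [DecidableEq κ] (M : Matrix ι ι F) (N : Matrix κ κ F)
    (f : (ι → F) ≃ₗ[F] (κ → F)) (h : ∀ v, f (M *ᵥ v) = N *ᵥ f v) (c : F) :
    finrank F (eig M c) = finrank F (eig N c) := by
  have hmap : (eig M c).map (f : (ι → F) →ₗ[F] (κ → F)) = eig N c := by
    ext w
    rw [Submodule.mem_map_equiv, mem_eig, mem_eig]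
    constructor
    · intro h1
      have := congrArg f h1
      rwa [h, map_smul, LinearEquiv.apply_symm_apply] at this
    · intro h1
      apply f.injective
      rw [h, map_smul, LinearEquiv.apply_symm_apply, h1]
  rw [← hmap, LinearEquiv.finrank_map_eq f]

theorem eig_conj (g X : GL ι F) (c : F) :
    finrank F (eig ((g⁻¹ * X * g : GL ι F) : Matrix ι ι F) c) = finrank F (eig (X : Matrix ι ι F) c) := by
  let f : (ι → F) ≃ₗ[F] (ι → F) :=
    { toLinearMap := Matrix.toLin' (g : Matrix ι ι F)
      invFun := fun v => ((g⁻¹ : GL ι F) : Matrix ι ι F) *ᵥ v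
      left_inv := fun v => by simp [Matrix.mulVec_mulVec]
      right_inv := fun v => by simp [Matrix.mulVec_mulVec] }
  refine eig_intertwine _ _ f (fun v => ?_) c
  show Matrix.toLin' (g : Matrix ι ι F) _ = (X : Matrix ι ι F) *ᵥ Matrix.toLin' (g : Matrix ι ι F) v
  rw [Matrix.toLin'_apply, Matrix.toLin'_apply, Matrix.mulVec_mulVec, Matrix.mulVec_mulVec, ← Units.val_mul, ← Units.val_mul]
  congr 2
  group

theorem exists_moved {a : ℕ} (A : Matrix (Fin a) (Fin a) F) (h : ∀ α : F, A ≠ α • 1) :
    ∃ (u : Fin a → F) (φ : (Fin a → F) →ₗ[F] F), φ u = 0 ∧ φ (A *ᵥ u) = 1 := by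
  by_contra hcon
  push Not at hcon
  have hspan : ∀ u, A *ᵥ u ∈ Submodule.span F {u} := by
    intro u
    by_contra hu
    obtain ⟨φ, hφ, hφ'⟩ := Submodule.exists_le_ker_of_notMem hu
    refine hcon u ((φ (A *ᵥ u))⁻¹ • φ) ?_ ?_
    · rw [LinearMap.smul_apply, show φ u = 0 from hφ' (Submodule.mem_span_singleton_self u), smul_zero]
    · rw [LinearMap.smul_apply, smul_eq_mul, inv_mul_cancel₀ hφ]
  rcases Nat.eq_zero_or_pos a with h0 | h0
  · subst h0
    exact h 1 (Subsingleton.elim _ _)
  choose d hd using fun u => Submodule.mem_span_singleton.mp (hspan u)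
  have hentry : ∀ j i, A i j = if i = j then d (Pi.single j 1) else 0 := fun j i => by
    have := congrFun (hd (Pi.single j 1)) i
    rw [Pi.smul_apply, smul_eq_mul, Matrix.mulVec_single_one, Matrix.col_apply, Pi.single_apply, mul_ite, mul_one, mul_zero] at this
    exact this.symm
  have hsame : ∀ j, d (Pi.single j 1) = d (Pi.single (⟨0, h0⟩ : Fin a) 1) := by
    intro j
    by_cases hj : j = ⟨0, h0⟩
    · rw [hj]
    set i0 : Fin a := ⟨0, h0⟩
    set u : Fin a → F := Pi.single j 1 + Pi.single i0 1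
    have h1 := hd u
    have e1 := congrFun h1 j
    have e2 := congrFun h1 i0
    rw [show u = Pi.single j 1 + Pi.single i0 1 from rfl, Matrix.mulVec_add, Matrix.mulVec_single_one, Matrix.mulVec_single_one] at e1 e2
    simp [Matrix.col_apply, hentry, hj, Ne.symm hj] at e1 e2
    exact e1.symm.trans e2
  refine h (d (Pi.single (⟨0, h0⟩ : Fin a) 1)) (Matrix.ext fun i j => ?_)
  rw [hentry, hsame, Matrix.smul_apply, Matrix.one_apply, smul_eq_mul, mul_ite, mul_one, mul_zero]

section kron

variable {a b : ℕ}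

theorem kron_mulVec (A : Matrix (Fin a) (Fin a) F) (B : Matrix (Fin b) (Fin b) F) (u : Fin a → F) (w : Fin b → F) :
    (A ⊗ₖ B) *ᵥ (fun p => u p.1 * w p.2) = fun p => (A *ᵥ u) p.1 * (B *ᵥ w) p.2 := by
  funext p
  simp only [Matrix.mulVec, dotProduct, Fintype.sum_prod_type, Finset.sum_mul_sum, Matrix.kroneckerMap_apply]
  exact Finset.sum_congr rfl fun i _ => Finset.sum_congr rfl fun j _ => by ring

theorem eig_kron_le (A : Matrix (Fin a) (Fin a) F) (B : GL (Fin b) F) (h : ∀ α : F, A ≠ α • 1) (c : F) :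
    finrank F (eig (A ⊗ₖ (B : Matrix (Fin b) (Fin b) F)) c) + b ≤ a * b := by
  obtain ⟨u, φ, hu, hAu⟩ := exists_moved A h
  let J : (Fin b → F) →ₗ[F] (Fin a × Fin b → F) :=
    { toFun := fun w p => u p.1 * w p.2
      map_add' := fun w w' => funext fun p => mul_add _ _ _
      map_smul' := fun c w => funext fun p => by simp [mul_left_comm] }
  let Λ : (Fin a × Fin b → F) → (Fin b → F) := fun v j => φ fun i => v (i, j)
  have hΛ : ∀ (x : Fin a → F) (y : Fin b → F), Λ (fun p => x p.1 * y p.2) = φ x • y := fun x y => funext fun j => by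
    show φ (fun i => x i * y j) = φ x * y j
    rw [show (fun i => x i * y j) = y j • x from funext fun i => by simp [mul_comm], map_smul, smul_eq_mul, mul_comm]
  have hkill : ∀ w, J w ∈ eig (A ⊗ₖ (B : Matrix (Fin b) (Fin b) F)) c → w = 0 := by
    intro w hw
    have h1 := mem_eig.mp hw
    rw [show J w = fun p => u p.1 * w p.2 from rfl, kron_mulVec] at h1
    have h2 := congrArg Λ h1
    rw [hΛ, hAu, one_smul] at h2
    have h3 : (B : Matrix (Fin b) (Fin b) F) *ᵥ w = 0 := by
      rw [h2]
      funext j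
      show φ (fun i => c * (u i * w j)) = 0
      rw [show (fun i => c * (u i * w j)) = (c * w j) • u from funext fun i => by simp; ring, map_smul, hu, smul_zero]
    exact Matrix.mulVec_injective_of_isUnit B.isUnit (h3.trans (Matrix.mulVec_zero _).symm)
  have hJ : Function.Injective J := by
    rw [← LinearMap.ker_eq_bot, LinearMap.ker_eq_bot']
    exact fun w hw => hkill w (hw ▸ Submodule.zero_mem _)
  have hdis : eig (A ⊗ₖ (B : Matrix (Fin b) (Fin b) F)) c ⊓ LinearMap.range J = ⊥ := by
    refine eq_bot_iff.mpr ?_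
    rintro _ ⟨hv, w, rfl⟩
    rw [hkill w hv, map_zero]
    exact Submodule.zero_mem _
  have h1 := Submodule.finrank_sup_add_finrank_inf_eq (eig (A ⊗ₖ (B : Matrix (Fin b) (Fin b) F)) c) (LinearMap.range J)
  have h2 := Submodule.finrank_le (eig (A ⊗ₖ (B : Matrix (Fin b) (Fin b) F)) c ⊔ LinearMap.range J)
  rw [hdis, finrank_bot, LinearMap.finrank_range_of_inj hJ, Module.finrank_fin_fun] at h1
  rw [Module.finrank_pi, Fintype.card_prod, Fintype.card_fin, Fintype.card_fin] at h2
  omega

theorem eig_one_kron (B : Matrix (Fin b) (Fin b) F) (c : F) :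
    finrank F (eig ((1 : Matrix (Fin a) (Fin a) F) ⊗ₖ B) c) = a * finrank F (eig B c) := by
  have happ : ∀ (v : Fin a × Fin b → F) i j, (((1 : Matrix (Fin a) (Fin a) F) ⊗ₖ B) *ᵥ v) (i, j) = (B *ᵥ fun k => v (i, k)) j := by
    intro v i j
    simp only [Matrix.mulVec, dotProduct, Fintype.sum_prod_type, Matrix.kroneckerMap_apply, Matrix.one_apply]
    rw [Finset.sum_eq_single i (fun k _ hk => by simp [Ne.symm hk]) (by simp)]
    simp
  let f : eig ((1 : Matrix (Fin a) (Fin a) F) ⊗ₖ B) c ≃ₗ[F] (Fin a → eig B c) :=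
    { toFun := fun v i => ⟨fun k => v.1 (i, k), mem_eig.mpr (funext fun j => by
        rw [← happ, mem_eig.mp v.2]; rfl)⟩
      invFun := fun w => ⟨fun p => (w p.1).1 p.2, mem_eig.mpr (funext fun p => by
        obtain ⟨i, j⟩ := p
        rw [happ]
        exact congrFun (mem_eig.mp (w i).2) j)⟩
      map_add' := fun _ _ => rfl
      map_smul' := fun _ _ => rfl
      left_inv := fun _ => rfl
      right_inv := fun _ => rfl }
  rw [f.finrank_eq, Module.finrank_pi_fintype]
  simp

theorem kron_pow (A : Matrix (Fin a) (Fin a) F) (B : Matrix (Fin b) (Fin b) F) (r : ℕ) :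
    (A ⊗ₖ B) ^ r = (A ^ r) ⊗ₖ (B ^ r) := by
  induction r with
  | zero => simp
  | succ r ih => rw [pow_succ, ih, ← Matrix.mul_kronecker_mul, ← pow_succ, ← pow_succ]

/-- Members of the tensor stabiliser. -/
theorem dichotomy (ha : 0 < a) (hb : 0 < b) {n : ℕ} (hn : n = a * b) (e : Fin n ≃ Fin a × Fin b) (P : GL (Fin n) F) {g : GL (Fin n) F}
    (hg : g ∈ Cfsg.Geo.tensorProductSubgroup a b e P) :
    ((∀ c, finrank F (eig (g : Matrix (Fin n) (Fin n) F) c) + b ≤ n) ∧
      ∀ (r : ℕ) (z : F), ((g ^ r : GL (Fin n) F) : Matrix (Fin n) (Fin n) F) = z • 1 →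
        ∃ (A : Matrix (Fin a) (Fin a) F) (β : F), (∀ α : F, A ≠ α • 1) ∧ β ≠ 0 ∧ A ^ r = β • 1) ∨
    ∃ B : Matrix (Fin b) (Fin b) F, (∀ c, finrank F (eig (g : Matrix (Fin n) (Fin n) F) c) = a * finrank F (eig B c)) ∧
      ∀ (r : ℕ) (z : F), ((g ^ r : GL (Fin n) F) : Matrix (Fin n) (Fin n) F) = z • 1 → B ^ r = z • 1 := by
  classical
  obtain ⟨A, B, hAB⟩ := (Aschbacher.mem_tensorProductSubgroup_iff e P g).mp hg
  set K : Matrix (Fin a × Fin b) (Fin a × Fin b) F := (A : Matrix (Fin a) (Fin a) F) ⊗ₖ (B : Matrix (Fin b) (Fin b) F) with hK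
  have hgK : (g : Matrix (Fin n) (Fin n) F) = (P : Matrix (Fin n) (Fin n) F) * K.submatrix e e * ((P⁻¹ : GL (Fin n) F) : Matrix (Fin n) (Fin n) F) := by
    rw [hAB, PrimeDim.cj_apply]
    rfl
  let f : (Fin n → F) ≃ₗ[F] (Fin a × Fin b → F) :=
    { toFun := fun v p => (((P⁻¹ : GL (Fin n) F) : Matrix (Fin n) (Fin n) F) *ᵥ v) (e.symm p)
      invFun := fun w => (P : Matrix (Fin n) (Fin n) F) *ᵥ (w ∘ e)
      map_add' := fun v w => by rw [Matrix.mulVec_add]; rfl
      map_smul' := fun c v => by rw [Matrix.mulVec_smul]; rfl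
      left_inv := fun v => by
        show (P : Matrix (Fin n) (Fin n) F) *ᵥ
          ((fun p => (((P⁻¹ : GL (Fin n) F) : Matrix (Fin n) (Fin n) F) *ᵥ v) (e.symm p)) ∘ e) = v
        rw [show ((fun p => (((P⁻¹ : GL (Fin n) F) : Matrix (Fin n) (Fin n) F) *ᵥ v) (e.symm p)) ∘ e) =
          ((P⁻¹ : GL (Fin n) F) : Matrix (Fin n) (Fin n) F) *ᵥ v from funext fun i => by simp]
        simp [Matrix.mulVec_mulVec]
      right_inv := fun w => funext fun p => by simp [Matrix.mulVec_mulVec] }
  have hf : ∀ v, f ((g : Matrix (Fin n) (Fin n) F) *ᵥ v) = K *ᵥ f v := by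
    intro v
    funext p
    show (((P⁻¹ : GL (Fin n) F) : Matrix (Fin n) (Fin n) F) *ᵥ ((g : Matrix (Fin n) (Fin n) F) *ᵥ v)) (e.symm p) = _
    rw [hgK, ← Matrix.mulVec_mulVec, ← Matrix.mulVec_mulVec, Matrix.mulVec_mulVec (M := ((P⁻¹ : GL (Fin n) F) : Matrix (Fin n) (Fin n) F)),
      Units.inv_mul, Matrix.one_mulVec, Matrix.submatrix_mulVec_equiv]
    simp [f, Function.comp_def]
  have hpow : ∀ (r : ℕ) (z : F), ((g ^ r : GL (Fin n) F) : Matrix (Fin n) (Fin n) F) = z • 1 → K ^ r = z • 1 := by
    intro r z hz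
    have h1 : ∀ (r : ℕ) v, f ((g : Matrix (Fin n) (Fin n) F) ^ r *ᵥ v) = K ^ r *ᵥ f v := by
      intro r
      induction r with
      | zero => intro v; simp
      | succ r ih => intro v; rw [pow_succ, pow_succ, ← Matrix.mulVec_mulVec, ← Matrix.mulVec_mulVec, ih, hf]
    refine Matrix.ext_iff_mulVec.2 fun w => ?_
    obtain ⟨v, rfl⟩ := f.surjective w
    rw [← h1, ← Units.val_pow_eq_pow_val, hz, Matrix.smul_mulVec, Matrix.smul_mulVec, Matrix.one_mulVec,
      Matrix.one_mulVec, map_smul]
  by_cases hA : ∀ α : F, (A : Matrix (Fin a) (Fin a) F) ≠ α • 1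
  · refine Or.inl ⟨fun c => ?_, fun r z hz => ?_⟩
    · rw [eig_intertwine _ K f hf c, hn]
      exact eig_kron_le _ B hA c
    · have h1 := hpow r z hz
      rw [hK, kron_pow] at h1
      have hu : IsUnit ((B : Matrix (Fin b) (Fin b) F) ^ r) := B.isUnit.pow r
      obtain ⟨k, l, hkl⟩ : ∃ k l, ((B : Matrix (Fin b) (Fin b) F) ^ r) k l ≠ 0 := by
        by_contra h0
        push Not at h0
        have : ((B : Matrix (Fin b) (Fin b) F) ^ r) = 0 := Matrix.ext h0
        rw [this] at hu
        have hne : Nonempty (Fin b) := ⟨⟨0, hb⟩⟩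
        exact not_isUnit_zero hu
      suffices hAr : (A : Matrix (Fin a) (Fin a) F) ^ r =
          (z * (if k = l then 1 else 0) / ((B : Matrix (Fin b) (Fin b) F) ^ r) k l) • 1 by
        refine ⟨(A : Matrix (Fin a) (Fin a) F), _, hA, fun h0 => ?_, hAr⟩
        rw [h0, zero_smul] at hAr
        have hne : Nonempty (Fin a) := ⟨⟨0, ha⟩⟩
        exact not_isUnit_zero (hAr ▸ A.isUnit.pow r)
      refine Matrix.ext fun i j => ?_
      have h2 := congr_fun (congr_fun h1 (i, k)) (j, l)
      rw [Matrix.kroneckerMap_apply, Matrix.smul_apply, smul_eq_mul, Matrix.one_apply] at h2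
      rw [Matrix.smul_apply, smul_eq_mul, Matrix.one_apply, eq_comm, div_mul_eq_mul_div, div_eq_iff hkl, h2]
      simp only [Prod.mk.injEq, ite_and]
      split_ifs <;> simp
  · push Not at hA
    obtain ⟨α, hα⟩ := hA
    refine Or.inr ⟨α • (B : Matrix (Fin b) (Fin b) F), fun c => ?_, fun r z hz => ?_⟩
    · rw [eig_intertwine _ K f hf c, ← eig_one_kron, hK, hα, Matrix.smul_kronecker, Matrix.kronecker_smul]
    · have h1 := hpow r z hz
      rw [hK, hα, Matrix.smul_kronecker, ← Matrix.kronecker_smul, kron_pow, one_pow] at h1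
      refine Matrix.ext fun k l => ?_
      have h2 := congr_fun (congr_fun h1 (⟨0, ha⟩, k)) (⟨0, ha⟩, l)
      rw [Matrix.kroneckerMap_apply, Matrix.one_apply_eq, one_mul, Matrix.smul_apply, Matrix.one_apply] at h2
      rw [h2, Matrix.smul_apply, Matrix.one_apply]
      simp

end kron

variable [Fintype F]

/-- The 2-part condition. -/
theorem neg_one_pow_root (h2 : (2 : F) ≠ 0) {N : ℕ} (hN : N ≠ 0) :
    (∃ ζ : F, ζ ^ N = -1) ↔ padicValNat 2 N < padicValNat 2 (Fintype.card F - 1) := by
  classical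
  have : Fact (Nat.Prime 2) := ⟨Nat.prime_two⟩
  have hq : 1 < Fintype.card F := Fintype.one_lt_card
  have hne1 : (-1 : F) ≠ 1 := fun h => h2 (by linear_combination -h)
  set α := padicValNat 2 N with hα
  set β := padicValNat 2 (Fintype.card F - 1) with hβ
  obtain ⟨u, hu⟩ : 2 ^ α ∣ N := pow_padicValNat_dvd
  obtain ⟨w, hw⟩ : 2 ^ β ∣ Fintype.card F - 1 := pow_padicValNat_dvd
  have hu2 : Odd u := by
    rw [← Nat.not_even_iff_odd]
    rintro ⟨k, rfl⟩
    exact pow_succ_padicValNat_not_dvd (p := 2) hN ⟨k, by rw [← hα, hu, pow_succ]; ring⟩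
  have hw2 : Odd w := by
    rw [← Nat.not_even_iff_odd]
    rintro ⟨k, rfl⟩
    exact pow_succ_padicValNat_not_dvd (p := 2) (show Fintype.card F - 1 ≠ 0 by omega) ⟨k, by rw [← hβ, hw, pow_succ]; ring⟩
  constructor
  · rintro ⟨ζ, hζN⟩
    by_contra hcon
    obtain ⟨d, hd⟩ := Nat.exists_eq_add_of_le (not_lt.mp hcon)
    have hζ : ζ ≠ 0 := fun h0 => by
      rw [h0, zero_pow hN] at hζN
      exact neg_ne_zero.mpr one_ne_zero hζN.symm
    have h1 : (ζ ^ N) ^ w = (ζ ^ (Fintype.card F - 1)) ^ (2 ^ d * u) := by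
      rw [← pow_mul, ← pow_mul, hu, hw, hd, pow_add]; ring_nf
    rw [FiniteField.pow_card_sub_one_eq_one _ hζ, one_pow, hζN, hw2.neg_one_pow] at h1
    exact hne1 h1
  · intro hlt
    obtain ⟨a, ha⟩ := IsCyclic.exists_ofOrder_eq_natCard (α := Fˣ)
    rw [Nat.card_eq_fintype_card, Fintype.card_units, ← orderOf_units] at ha
    obtain ⟨d, hd⟩ := Nat.exists_eq_add_of_lt hlt
    refine ⟨(a : F) ^ (2 ^ d * w), ?_⟩
    have hsq : ((a : F) ^ (2 ^ (α + d) * w)) ^ 2 = 1 := by
      rw [← pow_mul, show 2 ^ (α + d) * w * 2 = Fintype.card F - 1 by rw [hw, hd, pow_succ]; ring, ← ha, pow_orderOf_eq_one]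
    have hne : (a : F) ^ (2 ^ (α + d) * w) ≠ 1 := by
      intro h
      have := orderOf_dvd_of_pow_eq_one h
      rw [ha, hw, hd, pow_succ] at this
      have hpos : 0 < 2 ^ (α + d) * w := Nat.mul_pos (by positivity) hw2.pos
      have := Nat.le_of_dvd hpos this
      nlinarith
    rw [← pow_mul, hu, show 2 ^ d * w * (2 ^ α * u) = 2 ^ (α + d) * w * u by rw [pow_add]; ring, pow_mul,
      (sq_eq_one_iff.mp hsq).resolve_left hne, hu2.neg_one_pow]

theorem exists_quadratic_norm (hq : Fintype.card F % 2 = 1) {z : F} (hz : z ≠ 0) (d : F) :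
    ∃ α β : F, α ^ 2 - z * β ^ 2 = d := by
  obtain ⟨α, β, h⟩ := FiniteField.exists_root_sum_quadratic (R := F)
    (f := Polynomial.X ^ 2 - Polynomial.C d) (g := Polynomial.C (-z) * Polynomial.X ^ 2)
    (Polynomial.degree_X_pow_sub_C two_pos d) (Polynomial.degree_C_mul_X_pow 2 (neg_ne_zero.mpr hz)) hq
  refine ⟨α, β, ?_⟩
  simp at h
  linear_combination h

omit [Fintype F] in
/-- A basis of pairs `v, x v`. -/
theorem exists_pair_family (h2 : (2 : F) ≠ 0) {n : ℕ} {X : Module.End F (Fin n → F)} {z : F} (hz : ∀ c : F, c ^ 2 ≠ z)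
    (hX : X ^ 2 = z • 1) : ∀ k : ℕ, k * 2 ≤ n →
      ∃ v : Fin k → (Fin n → F), LinearIndependent F (fun p : Fin 2 × Fin k => (X ^ (p.1 : ℕ)) (v p.2)) := by
  have : Fact (Nat.Prime 2) := ⟨Nat.prime_two⟩
  have hz0 : z ≠ 0 := fun h => hz 0 (by rw [h, zero_pow two_ne_zero])
  intro k
  induction k with
  | zero => exact fun _ => ⟨Fin.elim0, linearIndependent_empty_type⟩
  | succ k ih =>
    intro hk
    obtain ⟨v, hv⟩ := ih (by omega)
    set U := Submodule.span F (Set.range fun p : Fin 2 × Fin k => (X ^ (p.1 : ℕ)) (v p.2)) with hU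
    have hUinv : Inv X U := Submodule.map_le_iff_le_comap.mpr (Submodule.span_le.mpr (by
      rintro _ ⟨⟨i, j⟩, rfl⟩
      show X ((X ^ (i : ℕ)) (v j)) ∈ U
      rw [← Module.End.mul_apply, ← pow_succ']
      fin_cases i
      · exact Submodule.subset_span ⟨(1, j), rfl⟩
      · show (X ^ 2) (v j) ∈ U
        rw [hX, LinearMap.smul_apply, Module.End.one_apply]
        exact U.smul_mem z (Submodule.subset_span ⟨(0, j), by simp⟩)))
    have hUd : finrank F U = 2 * k := by
      rw [hU, finrank_span_eq_card hv, Fintype.card_prod, Fintype.card_fin, Fintype.card_fin]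
    obtain ⟨U', hU', -, hinf, hsup⟩ :=
      exists_invariant_complement (r := 2) (by simpa using h2) hz0 hX (W := ⊤) le_top hUinv le_top
    obtain ⟨w, hw, hw0⟩ := Submodule.exists_mem_ne_zero_of_ne_bot (show U' ≠ ⊥ from fun h => by
      rw [h, sup_bot_eq] at hsup
      rw [hsup, finrank_top, Module.finrank_fin_fun] at hUd
      omega)
    refine ⟨Fin.snoc v w, Fintype.linearIndependent_iff.mpr fun g hg => ?_⟩
    rw [Fintype.sum_prod_type, Fin.sum_univ_two] at hg
    simp only [Fin.sum_univ_castSucc, Fin.snoc_castSucc, Fin.snoc_last] at hg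
    set S0 := ∑ j : Fin k, g (0, j.castSucc) • (X ^ ((0 : Fin 2) : ℕ)) (v j)
    set S1 := ∑ j : Fin k, g (1, j.castSucc) • (X ^ ((1 : Fin 2) : ℕ)) (v j)
    have hUmem : S0 + S1 ∈ U := U.add_mem
      (U.sum_mem fun j _ => U.smul_mem _ (Submodule.subset_span ⟨(0, j), rfl⟩))
      (U.sum_mem fun j _ => U.smul_mem _ (Submodule.subset_span ⟨(1, j), rfl⟩))
    set t := g (0, Fin.last k) • (X ^ ((0 : Fin 2) : ℕ)) w + g (1, Fin.last k) • (X ^ ((1 : Fin 2) : ℕ)) w with ht
    have ht' : t ∈ U' := U'.add_mem (U'.smul_mem _ (by simpa using hw)) (U'.smul_mem _ (by simpa using inv_apply hU' hw))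
    have hsum : S0 + S1 + t = 0 := by
      rw [← hg, ht]; abel
    have ht0 : t = 0 := by
      have : t ∈ U ⊓ U' := ⟨by rw [eq_neg_of_add_eq_zero_right hsum]; exact U.neg_mem hUmem, ht'⟩
      rwa [hinf, Submodule.mem_bot] at this
    have hlast : g (0, Fin.last k) = 0 ∧ g (1, Fin.last k) = 0 := by
      rw [ht] at ht0
      simp at ht0
      by_cases h1 : g (1, Fin.last k) = 0
      · rw [h1, zero_smul, add_zero] at ht0
        exact ⟨(smul_eq_zero.mp ht0).resolve_right hw0, h1⟩
      · exfalso
        set c := -(g (0, Fin.last k)) / g (1, Fin.last k) with hc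
        have hXw : X w = c • w := by
          have h3 := congrArg ((g (1, Fin.last k))⁻¹ • ·) ht0
          simp only [smul_add, smul_smul, inv_mul_cancel₀ h1, one_smul, smul_zero] at h3
          rw [eq_neg_of_add_eq_zero_right h3, ← neg_smul, hc]
          congr 1
          ring
        have h4 := LinearMap.congr_fun hX w
        rw [pow_two, Module.End.mul_apply, hXw, map_smul, hXw, smul_smul, LinearMap.smul_apply, Module.End.one_apply] at h4
        exact hz c (by rw [pow_two]; exact smul_left_injective F hw0 h4)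
    have hrest := Fintype.linearIndependent_iff.mp hv (fun p => g (p.1, p.2.castSucc)) (by
      rw [Fintype.sum_prod_type, Fin.sum_univ_two]
      show S0 + S1 = 0
      rw [ht0, add_zero] at hsum
      exact hsum)
    rintro ⟨i, j⟩
    induction j using Fin.lastCases with
    | last => fin_cases i; exacts [hlast.1, hlast.2]
    | cast j => exact hrest (i, j)


set_option maxHeartbeats 1600000 in
/-- Elements of prime order of PSL_n(q) and the stabilizers of tensor decompositions with factors of different dimensions. Here `T = PSL_n(F)` for a field `F` with `q` elements and `n = a·b` with `2 ≤ a < b`; a tensor decomposition `F^n ≅ F^a ⊗ F^b` is given by a bijection `e` of index sets and a change of basis `P`, and `H` is the subgroup of matrices of determinant 1 in its stabilizer (the conjugate by `P` of the group of Kronecker products `g₁ ⊗ g₂`) — a subgroup of type GL_a(q) ⊗ GL_b(q) (maximality is not assumed); Ω is the set of cosets of `H` in `T`, so an element of `T` of prime order `r` (a matrix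 `x` of determinant 1 with `x^r` scalar, `x` not scalar) fixes a point of Ω exactly when some conjugate of `x` by a matrix of determinant 1 lies in `H`. Let `r` be a prime dividing the index of `H`. Then every element of `T` of order `r` fixes a point of Ω if and only if `r = 2`, `a = 2`, `q` is odd and `(q − 1)_2 ≤ (n)_2` (2-parts). -/
theorem result {F : Type*} [Field F] [Fintype F] {p : ℕ} [Fact p.Prime] [CharP F p] {q : ℕ} (hq : Fintype.card F = q)
    (n a b : ℕ) (hab : n = a * b) (ha : 2 ≤ a) (hlt : a < b) (e : Fin n ≃ Fin a × Fin b) (P : GL (Fin n) F)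
    (r : ℕ) [Fact r.Prime]
    (hΩ : r ∣ (Cfsg.Geo.tensorProductSubgroup a b e P).relIndex (Cfsg.Geo.specialLinear (Fin n) F)) :
    (∀ x ∈ Cfsg.Geo.specialLinear (Fin n) F, (∃ z : F, ((x ^ r : GL (Fin n) F) : Matrix (Fin n) (Fin n) F) = z • (1 : Matrix (Fin n) (Fin n) F)) →
      (∀ z : F, (x : Matrix (Fin n) (Fin n) F) ≠ z • (1 : Matrix (Fin n) (Fin n) F)) →
      ∃ g ∈ Cfsg.Geo.specialLinear (Fin n) F, g⁻¹ * x * g ∈ Cfsg.Geo.tensorProductSubgroup a b e P) ↔
    (r = 2 ∧ a = 2 ∧ Odd q ∧ padicValNat 2 (q - 1) ≤ padicValNat 2 n) := by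
  classical
  subst hq
  set S := Cfsg.Geo.specialLinear (Fin n) F with hS
  have hmemS : ∀ g : GL (Fin n) F, g ∈ S ↔ (g : Matrix (Fin n) (Fin n) F).det = 1 := fun g => by
    rw [hS, Cfsg.Geo.specialLinear, MonoidHom.mem_ker, Units.ext_iff]
    rfl
  have hb : 3 ≤ b := by omega
  have hn6 : 6 ≤ n := by rw [hab]; exact Nat.mul_le_mul ha hb
  have h2a : 2 * b ≤ n := by rw [hab]; exact Nat.mul_le_mul_right b ha
  have hbn : a * 2 ≤ n := by rw [hab]; exact Nat.mul_le_mul_left a (by omega)
  have han : a ∣ n := hab ▸ dvd_mul_right a b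
  have mkWitness : ∀ (M : Matrix (Fin n) (Fin n) F) (c c' : F), M.det = 1 → (∃ z : F, M ^ r = z • 1) →
      n < finrank F (eig M c) + b → ¬ a ∣ finrank F (eig M c') →
      ¬ (∀ x ∈ S, (∃ z : F, ((x ^ r : GL (Fin n) F) : Matrix (Fin n) (Fin n) F) = z • 1) →
        (∀ z : F, (x : Matrix (Fin n) (Fin n) F) ≠ z • 1) →
        ∃ g ∈ S, g⁻¹ * x * g ∈ Cfsg.Geo.tensorProductSubgroup a b e P) := by
    intro M c c' hMd hMz hbig hnd h
    obtain ⟨z, hz⟩ := hMz
    let x : GL (Fin n) F := Matrix.GeneralLinearGroup.mkOfDetNeZero M (by rw [hMd]; exact one_ne_zero)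
    have hxr : ((x ^ r : GL (Fin n) F) : Matrix (Fin n) (Fin n) F) = z • 1 := by
      rw [Units.val_pow_eq_pow_val]; exact hz
    obtain ⟨g, -, hgx⟩ := h x ((hmemS x).mpr hMd) ⟨z, hxr⟩ (fun d hd => by
      rcases eig_scalar c' d M hd with e' | e'
      · exact hnd (e' ▸ dvd_zero a)
      · exact hnd (e' ▸ (by rw [Fintype.card_fin]; exact han)))
    rcases dichotomy (by omega) (by omega) hab e P hgx with ⟨h1, -⟩ | ⟨B, hB, -⟩
    · have := h1 c
      rw [eig_conj] at this
      exact absurd (show finrank F (eig M c) + b ≤ n from this) (not_le.mpr hbig)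
    · have := hB c'
      rw [eig_conj] at this
      exact hnd ⟨_, this⟩
  obtain ⟨e₁, -, he₁⟩ := FiniteField.card F p
  by_cases hrp : r = p
  · subst hrp
    constructor
    · intro h
      exfalso
      let i0 : Fin n := ⟨0, by omega⟩
      let i1 : Fin n := ⟨1, by omega⟩
      have h01 : i0 ≠ i1 := fun h => by simp [i0, i1] at h
      let N : Matrix (Fin n) (Fin n) F := Matrix.single i0 i1 1
      have hN2 : N * N = 0 := by
        rw [Matrix.single_mul_single_of_ne]
        exact h01.symm
      have hNr : N ^ r = 0 := by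
        obtain ⟨k, hk⟩ : ∃ k, r = k + 2 := ⟨r - 2, by have := (Fact.out : r.Prime).two_le; omega⟩
        rw [hk, pow_add, pow_two N, hN2, mul_zero]
      have hne : Nonempty (Fin n) := ⟨i0⟩
      have : CharP (Matrix (Fin n) (Fin n) F) r := inferInstance
      have hpow : (1 + N) ^ r = 1 := by
        rw [add_pow_char_of_commute r (Commute.one_left N), one_pow, hNr, add_zero]
      have hdet : (1 + N).det = 1 := by
        have h1 : (1 + N).det ^ r = 1 := by rw [← Matrix.det_pow, hpow, Matrix.det_one]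
        have h2 : ((1 + N).det - 1) ^ r = 0 := by rw [sub_pow_char, one_pow, h1, sub_self]
        exact sub_eq_zero.mp ((pow_eq_zero_iff (Fact.out : r.Prime).ne_zero).mp h2)
      have hker : finrank F (eig (1 + N) 1) = n - 1 := by
        have heq : eig (1 + N) 1 = LinearMap.ker (LinearMap.proj i1 : (Fin n → F) →ₗ[F] F) := by
          ext v
          rw [mem_eig, one_smul, Matrix.add_mulVec, Matrix.one_mulVec, add_eq_left, LinearMap.mem_ker, LinearMap.proj_apply]
          constructor
          · intro h1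
            have := congrFun h1 i0
            simpa [N, Matrix.single_mulVec] using this
          · intro h1
            funext i
            simp [N, Matrix.single_mulVec, h1]
        have hn' := LinearMap.finrank_range_add_finrank_ker (LinearMap.proj i1 : (Fin n → F) →ₗ[F] F)
        rw [LinearMap.range_eq_top.mpr (LinearMap.proj_surjective i1), finrank_top, Module.finrank_self,
          Module.finrank_fin_fun, ← heq] at hn'
        omega
      refine mkWitness (1 + N) 1 1 hdet ⟨1, by rw [hpow, one_smul]⟩ (by rw [hker]; omega) ?_ h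
      rw [hker]
      intro hd
      have h1 := Nat.dvd_sub han hd
      rw [Nat.sub_sub_self (by omega), Nat.dvd_one] at h1
      omega
    · rintro ⟨hr2, -, hodd, -⟩
      subst hr2
      exact absurd (he₁ ▸ dvd_pow_self 2 e₁.ne_zero) (Nat.two_dvd_ne_zero.mpr (Nat.odd_iff.mp hodd))
  have hr0 : (r : F) ≠ 0 := natCast_ne_zero_of_ne hrp
  have hipos : 0 < orderOf (Fintype.card F : ZMod r) := orderOf_card_pos hr0
  rcases Nat.eq_or_lt_of_le (Nat.succ_le_of_lt hipos) with h1 | h2
  swap
  · -- `r ∤ q - 1`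
    set i := orderOf (Fintype.card F : ZMod r) with hi
    constructor
    swap
    · rintro ⟨hr2, -, -, -⟩
      subst hr2
      exfalso
      have h1 : orderOf (Fintype.card F : ZMod 2) = 1 := orderOf_card_eq_one_iff.mpr (by
        have hq : ¬ 2 ∣ Fintype.card F := fun hd => hrp ((Nat.prime_dvd_prime_iff_eq Nat.prime_two Fact.out).mp
          (Nat.prime_two.dvd_of_dvd_pow (he₁ ▸ hd)))
        omega)
      omega
    intro h
    exfalso
    have hin : i ≤ n := by
      have hScard : Nat.card S = Nat.card (Matrix.SpecialLinearGroup (Fin n) F) := by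
        rw [hS, Cfsg.Geo.specialLinear, ← GLOrder.range_toGL]
        exact (Nat.card_congr (MonoidHom.ofInjective (f := (Matrix.SpecialLinearGroup.toGL : Matrix.SpecialLinearGroup (Fin n) F →* GL (Fin n) F)) Matrix.SpecialLinearGroup.toGL_injective).toEquiv).symm
      have hdvd : r ∣ Nat.card S := hΩ.trans (by
        rw [← Subgroup.card_mul_index ((Cfsg.Geo.tensorProductSubgroup a b e P).subgroupOf S)]
        exact dvd_mul_left _ _)
      rw [hScard, GLOrder.card_SL, Nat.card_eq_fintype_card (α := F)] at hdvd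
      rcases (Fact.out : r.Prime).dvd_mul.mp hdvd with hd | hd
      · exfalso
        have := (Fact.out : r.Prime).dvd_of_dvd_pow hd
        rw [he₁] at this
        exact hrp ((Nat.prime_dvd_prime_iff_eq Fact.out Fact.out).mp ((Fact.out : r.Prime).dvd_of_dvd_pow this))
      · obtain ⟨j, hj, hjd⟩ := ((Fact.out : r.Prime).prime.dvd_finsetProd_iff _).mp hd
        rw [dvd_pow_sub_one_iff, ← hi] at hjd
        have := Nat.le_of_dvd (by omega) hjd
        have := (Finset.mem_Ico.mp hj).2
        omega
    obtain ⟨x, hxr, hxf, hns⟩ := exists_type (F := F) (r := r) (p := p) (n := n) 1 Nat.one_pos h2 (by omega)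
    rw [Nat.one_mul, ← hi] at hxf
    let X : GL (Fin n) F := Matrix.SpecialLinearGroup.toGL x
    have hXr : ((X ^ r : GL (Fin n) F) : Matrix (Fin n) (Fin n) F) = 1 := by
      rw [Units.val_pow_eq_pow_val]
      refine Matrix.toLin'.injective ?_
      rw [show Matrix.toLin' ((X : Matrix (Fin n) (Fin n) F) ^ r) = _ from pow_toLin' _ r, Matrix.toLin'_one]
      exact hxr
    obtain ⟨g, -, hgx⟩ := h X ((hmemS X).mpr x.2) ⟨1, by rw [hXr, one_smul]⟩ hns
    have hge : finrank F (eig ((g⁻¹ * X * g : GL (Fin n) F) : Matrix (Fin n) (Fin n) F) 1) = n - i := by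
      rw [eig_conj, ← hxf]
      have e0 : eig (X : Matrix (Fin n) (Fin n) F) 1 = fix (Matrix.toLin' (x : Matrix (Fin n) (Fin n) F) : Module.End F (Fin n → F)) := by
        ext v; rw [mem_eig, mem_fix, one_smul, Matrix.toLin'_apply]; rfl
      rw [e0]
    have hgr : (((g⁻¹ * X * g) ^ r : GL (Fin n) F) : Matrix (Fin n) (Fin n) F) = (1 : F) • 1 := by
      rw [show g⁻¹ * X * g = g⁻¹ * X * (g⁻¹)⁻¹ by rw [inv_inv], conj_pow, inv_inv, Units.val_mul, Units.val_mul, hXr,
        mul_one, ← Units.val_mul, inv_mul_cancel, Units.val_one, one_smul]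
    rcases dichotomy (by omega) (by omega) hab e P hgx with ⟨hbound, hA⟩ | ⟨B, hB, hBp⟩
    · have hb1 := hbound 1
      rw [hge] at hb1
      obtain ⟨A, β, hAns, hβ, hAr⟩ := hA r 1 hgr
      have hr1 : ¬ r ∣ Fintype.card F - 1 := fun hd => by
        rw [← orderOf_card_eq_one_iff, ← hi] at hd; omega
      obtain ⟨ζ, hζ⟩ := exists_root hr1 β
      have hζ0 : ζ ≠ 0 := fun h0 => hβ (by rw [← hζ, h0, zero_pow (Fact.out : r.Prime).ne_zero])
      have hy : (Matrix.toLin' (ζ⁻¹ • A) : Module.End F (Fin a → F)) ^ r = 1 := by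
        rw [← pow_toLin', _root_.smul_pow, hAr, smul_smul, ← hζ, ← mul_pow, inv_mul_cancel₀ hζ0, one_pow, one_smul,
          Matrix.toLin'_one]
        rfl
      obtain ⟨s, hs, -⟩ := exists_dims hr0 hy (W := ⊤) le_top
      rw [finrank_top, top_inf_eq, Module.finrank_fin_fun, ← hi] at hs
      rcases s with _ | s
      · rw [Nat.zero_mul, Nat.add_zero] at hs
        refine hAns ζ (Matrix.toLin'.injective (LinearMap.ext fun v => ?_))
        have hv : v ∈ fix (Matrix.toLin' (ζ⁻¹ • A) : Module.End F (Fin a → F)) := by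
          rw [Submodule.eq_top_of_finrank_eq (hs.symm.trans (Module.finrank_fin_fun F).symm)]
          trivial
        have := congrArg (ζ • ·) (mem_fix.mp hv)
        simp only [map_smul, LinearMap.smul_apply, smul_smul, mul_inv_cancel₀ hζ0, one_smul] at this
        rw [this, map_smul, Matrix.toLin'_one]
        rfl
      · rw [Nat.add_mul, Nat.one_mul] at hs
        omega
    · have hB1 := hB 1
      rw [hge] at hB1
      have hy : (Matrix.toLin' B : Module.End F (Fin b → F)) ^ r = 1 := by
        rw [← pow_toLin', hBp r 1 hgr, one_smul, Matrix.toLin'_one]; rfl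
      obtain ⟨s, hs, -⟩ := exists_dims hr0 hy (W := ⊤) le_top
      rw [finrank_top, top_inf_eq, Module.finrank_fin_fun, ← hi] at hs
      have heq : finrank F (eig B 1) = finrank F ↥(fix (Matrix.toLin' B : Module.End F (Fin b → F))) := by
        have e0 : eig B 1 = fix (Matrix.toLin' B : Module.End F (Fin b → F)) := by
          ext v; rw [mem_eig, mem_fix, one_smul, Matrix.toLin'_apply]
        rw [e0]
      rw [heq] at hB1
      set fB := finrank F ↥(fix (Matrix.toLin' B : Module.End F (Fin b → F)))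
      have hnf : n = a * fB + a * (s * i) := by rw [hab, hs, Nat.mul_add]
      rcases s with _ | s
      · rw [Nat.zero_mul, Nat.mul_zero] at hnf; omega
      · have : 2 * i ≤ a * ((s + 1) * i) := Nat.mul_le_mul ha (Nat.le_mul_of_pos_left i (Nat.succ_pos s))
        omega
  -- `r ∣ q - 1`
  have hr1 : r ∣ Fintype.card F - 1 := orderOf_card_eq_one_iff.mp h1.symm
  have hq1 := Fintype.one_lt_card (α := F)
  let i0 : Fin n := ⟨0, by omega⟩
  let i1 : Fin n := ⟨1, by omega⟩
  have h01 : i0 ≠ i1 := fun h => by simp [i0, i1] at h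
  by_cases hr2 : r = 2
  swap
  · constructor
    swap
    · rintro ⟨h, -⟩; exact absurd h hr2
    intro h
    exfalso
    obtain ⟨u, hu⟩ := exists_prime_orderOf_dvd_card (G := Fˣ) r (by rw [Fintype.card_units]; exact hr1)
    have hur : (u : F) ^ r = 1 := by rw [← Units.val_pow_eq_pow_val, ← hu, pow_orderOf_eq_one, Units.val_one]
    have hu1 : (u : F) ≠ 1 := fun h0 => by
      rw [Units.val_eq_one] at h0; rw [h0, orderOf_one] at hu; exact (Fact.out : r.Prime).ne_one hu.symm
    have huinv : (u : F)⁻¹ ≠ u := by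
      intro h0
      have h2 : (u : F) ^ 2 = 1 := by rw [pow_two]; nth_rewrite 1 [← h0]; exact inv_mul_cancel₀ u.ne_zero
      have h3 := pow_gcd_eq_one.mpr ⟨hur, h2⟩
      rw [show Nat.gcd r 2 = 1 from (Nat.coprime_primes Fact.out Nat.prime_two).mpr hr2, pow_one] at h3
      exact hu1 h3
    let d : Fin n → F := Function.update (Function.update 1 i0 (u : F)) i1 (u : F)⁻¹
    refine mkWitness (Matrix.diagonal d) 1 (u : F) ?_ ⟨1, ?_⟩ ?_ ?_ h
    · rw [Matrix.det_diagonal, Finset.prod_update_of_mem (Finset.mem_univ _),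
        Finset.prod_update_of_mem (by simp [h01])]
      simp
    · rw [Matrix.diagonal_pow, one_smul, show d ^ r = 1 from funext fun i => by
        simp only [d, Pi.pow_apply, Function.update_apply]
        split_ifs
        · rw [inv_pow, hur, inv_one]; rfl
        · exact hur
        · rw [Pi.one_apply, one_pow], Matrix.diagonal_one']
    · rw [eig_diagonal, Nat.card_congr (Equiv.subtypeEquivRight (q := fun i => ¬ (i ∈ ({i0, i1} : Finset (Fin n)))) fun i => ?_),
        Nat.card_eq_fintype_card, Fintype.card_subtype_compl, Fintype.card_fin, Fintype.card_coe, Finset.card_pair h01]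
      · omega
      · simp only [d, Function.update_apply, Finset.mem_insert, Finset.mem_singleton]
        split_ifs with hi hi'
        · simp [hi, inv_eq_one, hu1]
        · simp [hi', hu1]
        · simp [hi, hi']
    · rw [eig_diagonal, Nat.card_congr (Equiv.subtypeEquivRight (q := fun i => i = i0) fun i => ?_)]
      · simp; omega
      simp only [d, Function.update_apply]
      split_ifs with hi hi'
      · subst hi; simp [huinv, h01.symm]
      · simp [hi']
      · simp [Ne.symm hu1, hi']
  subst hr2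
  have h2F : (2 : F) ≠ 0 := by simpa using hr0
  have hqodd : Odd (Fintype.card F) := Nat.odd_iff.mpr (by omega)
  have hne1 : (-1 : F) ≠ 1 := fun h => h2F (by linear_combination -h)
  by_cases ha2 : a = 2
  swap
  · constructor
    swap
    · rintro ⟨-, h, -⟩; exact absurd h ha2
    intro h
    exfalso
    let d : Fin n → F := Function.update (Function.update 1 i0 (-1)) i1 (-1)
    refine mkWitness (Matrix.diagonal d) 1 (-1) ?_ ⟨1, ?_⟩ ?_ ?_ h
    · rw [Matrix.det_diagonal, Finset.prod_update_of_mem (Finset.mem_univ _),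
        Finset.prod_update_of_mem (by simp [h01])]
      simp
    · rw [Matrix.diagonal_pow, one_smul, show d ^ 2 = 1 from funext fun i => by
        simp only [d, Pi.pow_apply, Function.update_apply]
        split_ifs <;> simp, Matrix.diagonal_one']
    · rw [eig_diagonal, Nat.card_congr (Equiv.subtypeEquivRight (q := fun i => ¬ (i ∈ ({i0, i1} : Finset (Fin n)))) fun i => ?_),
        Nat.card_eq_fintype_card, Fintype.card_subtype_compl, Fintype.card_fin, Fintype.card_coe, Finset.card_pair h01]
      · omega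
      · simp only [d, Function.update_apply, Finset.mem_insert, Finset.mem_singleton]
        split_ifs with hi hi'
        · simp [hi, hne1]
        · simp [hi', hne1]
        · simp [hi, hi']
    · rw [eig_diagonal, Nat.card_congr (Equiv.subtypeEquivRight (q := fun i => i ∈ ({i0, i1} : Finset (Fin n))) fun i => ?_),
        Nat.card_eq_fintype_card, Fintype.card_coe, Finset.card_pair h01]
      · intro hd
        have := Nat.le_of_dvd two_pos hd
        omega
      · simp only [d, Function.update_apply, Finset.mem_insert, Finset.mem_singleton]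
        split_ifs with hi hi'
        · simp [hi]
        · simp [hi']
        · simp [hi, hi', Ne.symm hne1]
  subst ha2
  have hrhs : (2 = 2 ∧ 2 = 2 ∧ Odd (Fintype.card F) ∧ padicValNat 2 (Fintype.card F - 1) ≤ padicValNat 2 n) ↔
      ¬ (padicValNat 2 n < padicValNat 2 (Fintype.card F - 1)) :=
    ⟨fun h => not_lt.mpr h.2.2.2, fun h => ⟨rfl, rfl, hqodd, not_lt.mp h⟩⟩
  rw [hrhs, ← neg_one_pow_root h2F (by omega)]
  constructor
  · rintro h ⟨ζ, hζn⟩
    have hζ0 : ζ ≠ 0 := fun h0 => by
      rw [h0, zero_pow (by omega)] at hζn; exact neg_ne_zero.mpr one_ne_zero hζn.symm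
    have hne : -ζ ≠ ζ := fun h => h2F (mul_right_cancel₀ hζ0 (by linear_combination -h))
    let d : Fin n → F := Function.update (fun _ => ζ) i0 (-ζ)
    have hd : ∀ i, d i = ζ ∨ d i = -ζ := fun i => by
      simp only [d, Function.update_apply]; split_ifs <;> simp
    refine mkWitness (Matrix.diagonal d) ζ ζ ?_ ⟨ζ ^ 2, ?_⟩ ?_ ?_ h
    · rw [Matrix.det_diagonal, Finset.prod_update_of_mem (Finset.mem_univ _), Finset.prod_const,
        Finset.card_sdiff_of_subset (Finset.singleton_subset_iff.mpr (Finset.mem_univ _)), Finset.card_univ,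
        Fintype.card_fin, Finset.card_singleton, neg_mul, ← pow_succ', Nat.sub_add_cancel (by omega), hζn, neg_neg]
    · rw [Matrix.diagonal_pow, show d ^ 2 = fun _ => ζ ^ 2 from funext fun i => by
        rcases hd i with e' | e' <;> rw [Pi.pow_apply, e']
        rw [neg_sq], Matrix.smul_one_eq_diagonal]
    all_goals
      have hcard : Nat.card {i // d i = ζ} = n - 1 := by
        rw [Nat.card_congr (Equiv.subtypeEquivRight (q := fun i => ¬ i = i0) fun i => ?_), Nat.card_eq_fintype_card,
          Fintype.card_subtype_compl, Fintype.card_fin, Fintype.card_subtype_eq]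
        simp only [d, Function.update_apply]
        split_ifs with hi <;> simp [hi, hne]
      rw [eig_diagonal, hcard]
    · omega
    · intro hd'
      have h1' := Nat.dvd_sub han hd'
      rw [Nat.sub_sub_self (by omega), Nat.dvd_one] at h1'
      omega
  · intro hno x hx ⟨z, hz⟩ hns
    have hxd : (x : Matrix (Fin n) (Fin n) F).det = 1 := (hmemS x).mp hx
    have hlin : (Matrix.toLin' (x : Matrix (Fin n) (Fin n) F) : Module.End F (Fin n → F)) ^ 2 = z • 1 := by
      rw [← pow_toLin', ← Units.val_pow_eq_pow_val, hz, map_smul, Matrix.toLin'_one]; rfl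
    have hz0 : z ≠ 0 := fun h0 => by
      have h1' := congrArg Matrix.det hz
      rw [Units.val_pow_eq_pow_val, Matrix.det_pow, hxd, one_pow, h0, zero_smul] at h1'
      have : Nonempty (Fin n) := ⟨i0⟩
      rw [Matrix.det_zero] at h1'
      exact one_ne_zero h1'
    have htens : ∀ (A : GL (Fin 2) F) (B : GL (Fin b) F) (Y : GL (Fin n) F),
        (Y : Matrix (Fin n) (Fin n) F) * (P : Matrix (Fin n) (Fin n) F) =
          (P : Matrix (Fin n) (Fin n) F) * Aschbacher.tens e (A : Matrix (Fin 2) (Fin 2) F) (B : Matrix (Fin b) (Fin b) F) →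
        Y ∈ Cfsg.Geo.tensorProductSubgroup 2 b e P := fun A B Y hY => by
      refine (Aschbacher.mem_tensorProductSubgroup_iff e P Y).mpr ⟨A, B, ?_⟩
      rw [PrimeDim.cj_apply, ← hY, Matrix.mul_assoc, Units.mul_inv, Matrix.mul_one]
    by_cases hsq : ∃ ζ : F, ζ ^ 2 = z
    · obtain ⟨ζ, hζ⟩ := hsq
      have hζ0 : ζ ≠ 0 := fun h0 => hz0 (by rw [← hζ, h0, zero_pow two_ne_zero])
      obtain ⟨M, d, hM, hd, hYM⟩ := exists_diag (r := 2) hr1 hr0 (ζ⁻¹ • (x : Matrix (Fin n) (Fin n) F)) (by
        rw [map_smul]; exact pow_eq_scalar_lift hζ0 (by rw [hζ]; exact hlin))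
      have hd' : ∀ i, d i = 1 ∨ d i = -1 := fun i => sq_eq_one_iff.mp (hd i)
      have hxM : (x : Matrix (Fin n) (Fin n) F) * M = M * Matrix.diagonal (fun i => ζ * d i) := by
        rw [show (fun i => ζ * d i) = ζ • d from rfl, Matrix.diagonal_smul, Matrix.mul_smul, ← hYM, Matrix.smul_mul,
          smul_smul, mul_inv_cancel₀ hζ0, one_smul]
      set k := Nat.card {i // d i = -1} with hk
      have hcard1 : Nat.card {i // d i = 1} = n - k := by
        rw [hk, Nat.card_congr (Equiv.subtypeEquivRight (q := fun i => ¬ d i = -1) fun i => ?_),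
          Nat.card_eq_fintype_card, Fintype.card_subtype_compl, Fintype.card_fin, ← Nat.card_eq_fintype_card]
        rcases hd' i with e' | e' <;> simp [e', hne1, Ne.symm hne1]
      have hprod : ∏ i, d i = (-1 : F) ^ k := by
        rw [hk, Nat.card_eq_fintype_card, Fintype.card_subtype, ← Finset.prod_filter_mul_prod_filter_not _ (fun i => d i = -1)]
        rw [Finset.prod_congr rfl (fun i hi => (Finset.mem_filter.mp hi).2), Finset.prod_const,
          Finset.prod_eq_one (fun i hi => (hd' i).resolve_right (Finset.mem_filter.mp hi).2), mul_one]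
      have hkeven : Even k := by
        rw [← Nat.not_odd_iff_even]
        intro hodd
        refine hno ⟨ζ, ?_⟩
        have h1' := congrArg Matrix.det hxM
        rw [Matrix.det_mul, Matrix.det_mul, hxd, one_mul, Matrix.det_diagonal, Finset.prod_mul_distrib, Finset.prod_const,
          Finset.card_univ, Fintype.card_fin, hprod, hodd.neg_one_pow] at h1'
        have h2' : ζ ^ n * -1 = 1 := mul_left_cancel₀ hM (h1'.symm.trans (mul_one _).symm)
        rw [← neg_neg (ζ ^ n), ← h2']; ring
      obtain ⟨k', hk'⟩ := hkeven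
      have hkn : k ≤ n := by
        rw [hk]
        exact (Nat.card_le_card_of_injective _ Subtype.val_injective).trans_eq (Nat.card_fin n)
      let δ : Fin b → F := fun j => if (j : ℕ) < b - k' then 1 else -1
      have hδ : ∀ c : F, Nat.card {i : Fin n // d i = c} = Nat.card {i : Fin n // δ (e i).2 = c} := by
        intro c
        let φ : {i : Fin n // δ (e i).2 = c} ≃ Fin 2 × {j : Fin b // δ j = c} :=
          { toFun := fun i => ((e i.1).1, ⟨(e i.1).2, i.2⟩)
            invFun := fun p => ⟨e.symm (p.1, p.2.1), by simpa using p.2.2⟩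
            left_inv := fun i => Subtype.ext (by simp)
            right_inv := fun p => by simp }
        rw [Nat.card_congr φ, Nat.card_prod, Nat.card_fin]
        have hlt : Nat.card {j : Fin b // (j : ℕ) < b - k'} = b - k' := by
          rw [← Nat.card_congr (Fin.castLEquiv (by omega : b - k' ≤ b))]
          exact Nat.card_fin _
        by_cases hc1 : c = 1
        · subst hc1
          rw [hcard1, Nat.card_congr (Equiv.subtypeEquivRight (q := fun j : Fin b => (j : ℕ) < b - k') fun j => ?_), hlt]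
          · omega
          · simp only [δ]; split_ifs with hj <;> simp [hj, hne1]
        by_cases hc2 : c = -1
        · subst hc2
          rw [← hk, Nat.card_congr (Equiv.subtypeEquivRight (q := fun j : Fin b => ¬ (j : ℕ) < b - k') fun j => ?_),
            Nat.card_eq_fintype_card, Fintype.card_subtype_compl, ← Nat.card_eq_fintype_card (α := {j : Fin b // (j : ℕ) < b - k'}), hlt,
            Fintype.card_fin]
          · omega
          · simp only [δ]; split_ifs with hj <;> simp [hj, Ne.symm hne1]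
        · have e1 : IsEmpty {i : Fin n // d i = c} := ⟨fun ⟨i, hi⟩ => by
            rcases hd' i with e' | e' <;> rw [e'] at hi
            exacts [hc1 hi.symm, hc2 hi.symm]⟩
          have e2 : IsEmpty {j : Fin b // δ j = c} := ⟨fun ⟨j, hj⟩ => by
            simp only [δ] at hj; split_ifs at hj
            exacts [hc1 hj.symm, hc2 hj.symm]⟩
          rw [Nat.card_of_isEmpty, Nat.card_of_isEmpty, Nat.mul_zero]
      let π : Fin n ≃ Fin n := Equiv.ofFiberEquiv (f := fun i => δ (e i).2) (g := d)
        (fun c => (Finite.card_eq.mp (hδ c).symm).some)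
      have hπ : ∀ i, d (π i) = δ (e i).2 := fun i => Equiv.ofFiberEquiv_map _ i
      let M' : Matrix (Fin n) (Fin n) F := M.submatrix id π
      have hM'det : M'.det ≠ 0 := by
        rw [Matrix.det_permute']
        exact mul_ne_zero (by rcases Int.units_eq_one_or (Equiv.Perm.sign π) with e' | e' <;> simp [e']) hM
      let f : Fin n → F := fun i => ζ * δ (e i).2
      have hxM' : (x : Matrix (Fin n) (Fin n) F) * M' = M' * Matrix.diagonal f := by
        ext i j
        have := congr_fun (congr_fun hxM i) (π j)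
        rw [Matrix.mul_diagonal] at this ⊢
        rw [Matrix.mul_apply] at this ⊢
        simp only [M', Matrix.submatrix_apply, id, f]
        rw [this, hπ]
      let Bd : GL (Fin b) F := Matrix.GeneralLinearGroup.mkOfDetNeZero (Matrix.diagonal fun j => ζ * δ j) (by
        rw [Matrix.det_diagonal]
        exact Finset.prod_ne_zero_iff.mpr fun j _ => mul_ne_zero hζ0 (by simp only [δ]; split_ifs <;> simp))
      have hfdet : (Matrix.diagonal f).det ≠ 0 := by
        rw [Matrix.det_diagonal]
        exact Finset.prod_ne_zero_iff.mpr fun j _ => mul_ne_zero hζ0 (by simp only [δ]; split_ifs <;> simp)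
      let Y : GL (Fin n) F := P * Matrix.GeneralLinearGroup.mkOfDetNeZero (Matrix.diagonal f) hfdet * P⁻¹
      have hYP : (Y : Matrix (Fin n) (Fin n) F) * (P : Matrix (Fin n) (Fin n) F) = (P : Matrix (Fin n) (Fin n) F) * Matrix.diagonal f := by
        rw [← Units.val_mul, inv_mul_cancel_right]; exact Units.val_mul P _
      have hYH : Y ∈ Cfsg.Geo.tensorProductSubgroup 2 b e P := by
        refine htens 1 Bd Y ?_
        rw [hYP]
        congr 1
        ext i j
        rw [Aschbacher.tens_apply, Units.val_one]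
        show (if i = j then f i else 0) = (if (e i).1 = (e j).1 then 1 else 0) * (Matrix.diagonal (fun j => ζ * δ j) (e i).2 (e j).2)
        by_cases hij : i = j
        · subst hij; simp [f]
        · rw [if_neg hij]
          by_cases h1' : (e i).1 = (e j).1
          · rw [Matrix.diagonal_apply_ne _ (fun h2' => hij (e.injective (Prod.ext h1' h2'))), mul_zero]
          · rw [if_neg h1', zero_mul]
      obtain ⟨g, hg, hgx⟩ := sl_conj_diag (n := n) (by omega) (X := x) (Y := Y)
        (P := Matrix.GeneralLinearGroup.mkOfDetNeZero M' hM'det) (Q := P) (f := f) hxM' hYP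
      exact ⟨g, hg, hgx ▸ hYH⟩
    · push Not at hsq
      obtain ⟨v, hv⟩ := exists_pair_family h2F hsq hlin b (by omega)
      set X : Module.End F (Fin n → F) := Matrix.toLin' (x : Matrix (Fin n) (Fin n) F) with hXdef
      let u : Fin 2 × Fin b → (Fin n → F) := fun p => (X ^ (p.1 : ℕ)) (v p.2)
      let Q : Matrix (Fin n) (Fin n) F := Matrix.of fun i j => u (e j) i
      have hQ : Q.det ≠ 0 := ((Matrix.isUnit_iff_isUnit_det _).mp (Matrix.linearIndependent_cols_iff_isUnit.mp
        (hv.comp _ e.injective : LinearIndependent F Q.col))).ne_zero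
      let C : Matrix (Fin 2) (Fin 2) F := !![0, z; 1, 0]
      have hCdet : C.det ≠ 0 := by rw [Matrix.det_fin_two]; simp [C, hz0]
      let K : Matrix (Fin n) (Fin n) F := Aschbacher.tens e C (1 : Matrix (Fin b) (Fin b) F)
      have hxQ : (x : Matrix (Fin n) (Fin n) F) * Q = Q * K := by
        refine Matrix.ext fun i j => ?_
        rw [Matrix.mul_apply, Matrix.mul_apply]
        have hrhs' : ∑ k, Q i k * K k j = ∑ p : Fin 2 × Fin b, u p i * (C p.1 (e j).1 * (1 : Matrix (Fin b) (Fin b) F) p.2 (e j).2) := by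
          rw [← e.sum_comp]
          exact Finset.sum_congr rfl fun k _ => by simp only [K, Aschbacher.tens_apply]; rfl
        rw [hrhs', Fintype.sum_prod_type, Fin.sum_univ_two]
        rw [Finset.sum_eq_single (e j).2 (fun k _ hk => by simp [hk]) (by simp),
          Finset.sum_eq_single (e j).2 (fun k _ hk => by simp [hk]) (by simp)]
        show (X (u (e j))) i = _
        rcases Fin.exists_fin_two.mp ⟨(e j).1, rfl⟩ with h1' | h1'
        · simp [u, C, h1']
        · rw [show u (e j) = (X ^ 1) (v (e j).2) by simp [u, h1'], ← Module.End.mul_apply, ← pow_succ', hlin]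
          simp [u, C, h1', mul_comm]
      obtain ⟨α, β, hαβ⟩ := exists_quadratic_norm (Nat.odd_iff.mp hqodd) hz0
        ((P : Matrix (Fin n) (Fin n) F).det / Q.det)
      let N : Matrix (Fin 2) (Fin 2) F := !![α, z * β; β, α]
      have hNdet : N.det = (P : Matrix (Fin n) (Fin n) F).det / Q.det := by
        rw [Matrix.det_fin_two, ← hαβ]; simp [N]; ring
      have hNC : C * N = N * C := by
        ext i j; fin_cases i <;> fin_cases j <;> simp [C, N, Matrix.mul_apply, Fin.sum_univ_two] <;> ring
      let Z0 : Matrix (Fin 2 × Fin b) (Fin 2 × Fin b) F := Matrix.blockDiagonal fun k : Fin b => if (k : ℕ) = 0 then N else 1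
      let Z : Matrix (Fin n) (Fin n) F := Matrix.reindexAlgEquiv F F e.symm Z0
      have hZdet : Z.det = (P : Matrix (Fin n) (Fin n) F).det / Q.det := by
        rw [show Z = Matrix.reindexAlgEquiv F F e.symm Z0 from rfl, Matrix.det_reindexAlgEquiv, Matrix.det_blockDiagonal,
          Finset.prod_eq_single (⟨0, by omega⟩ : Fin b) (fun k _ hk => by
            rw [if_neg (fun h0 => hk (Fin.ext h0)), Matrix.det_one]) (by simp), if_pos rfl, hNdet]
      have hKZ : K * Z = Z * K := by
        rw [show K = Matrix.reindexAlgEquiv F F e.symm (C ⊗ₖ (1 : Matrix (Fin b) (Fin b) F)) from rfl, ← map_mul, ← map_mul,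
          Matrix.kronecker_one, ← Matrix.blockDiagonal_mul, ← Matrix.blockDiagonal_mul]
        congr 2
        funext k
        split_ifs
        · exact hNC
        · rw [mul_one, one_mul]
      have hTd : (Q * Z * ((P⁻¹ : GL (Fin n) F) : Matrix (Fin n) (Fin n) F)).det = 1 := by
        rw [Matrix.det_mul, Matrix.det_mul, hZdet, mul_div_cancel₀ _ hQ, ← Matrix.det_mul, Units.mul_inv, Matrix.det_one]
      let g : GL (Fin n) F := Matrix.GeneralLinearGroup.mkOfDetNeZero (Q * Z * ((P⁻¹ : GL (Fin n) F) : Matrix (Fin n) (Fin n) F))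
        (by rw [hTd]; exact one_ne_zero)
      refine ⟨g, (hmemS g).mpr hTd, htens (Matrix.GeneralLinearGroup.mkOfDetNeZero C hCdet) 1 _ ?_⟩
      show _ = (P : Matrix (Fin n) (Fin n) F) * K
      have hmain : (x : Matrix (Fin n) (Fin n) F) * (g : Matrix (Fin n) (Fin n) F) * (P : Matrix (Fin n) (Fin n) F) =
          (g : Matrix (Fin n) (Fin n) F) * ((P : Matrix (Fin n) (Fin n) F) * K) := by
        show (x : Matrix (Fin n) (Fin n) F) * (Q * Z * ((P⁻¹ : GL (Fin n) F) : Matrix (Fin n) (Fin n) F)) * P =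
          Q * Z * ((P⁻¹ : GL (Fin n) F) : Matrix (Fin n) (Fin n) F) * (P * K)
        simp only [Matrix.mul_assoc, Units.inv_mul, Matrix.mul_one]
        rw [← Matrix.mul_assoc _ (P : Matrix (Fin n) (Fin n) F) K, Units.inv_mul, Matrix.one_mul, ← Matrix.mul_assoc, hxQ,
          Matrix.mul_assoc, hKZ]
      rw [Units.val_mul, Units.val_mul, Matrix.mul_assoc ((g⁻¹ : GL (Fin n) F) : Matrix (Fin n) (Fin n) F), Matrix.mul_assoc,
        hmain, ← Matrix.mul_assoc, Units.inv_mul, Matrix.one_mul]

end Cfsg.Agent.S5979
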