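import Cfsg.Statements.S4349
import Cfsg.Agent.EqLemmas

set_option autoImplicit false
open Cfsg

namespace Cfsg.Agent.S4349

open Equiv Equiv.Perm
open scoped Nat Pointwise

/-- An involution whose conjugates under `x` commute with it lies in a unique Sylow subgroup containing `x`. -/
theorem mem_of_unique {G : Type*} [Group G] [Finite G] {x t : G} {P : Sylow 2 G}
    (hP : ∀ Q : Sylow 2 G, x ∈ Q → Q = P) (hx : ∃ k : ℕ, orderOf x = 2 ^ k) (ht : t * t = 1)
    (hcomm : ∀ i j : ℤ, Commute (x ^ i * t * (x ^ i)⁻¹) (x ^ j * t * (x ^ j)⁻¹)) : t ∈ P := by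
  set E := Subgroup.closure (Set.range fun i : ℤ => x ^ i * t * (x ^ i)⁻¹) with hE
  haveI : IsMulCommutative E := Subgroup.isMulCommutative_closure (by
    rintro _ ⟨i, rfl⟩ _ ⟨j, rfl⟩
    exact (hcomm i j).eq)
  have hsq : ∀ e ∈ E, e * e = 1 := by
    intro e he
    induction he using Subgroup.closure_induction with
    | mem y hy => obtain ⟨i, rfl⟩ := hy; rw [conj_mul, ht]; group
    | one => simp
    | mul a b ha hb iha ihb =>
      rw [show a * b * (a * b) = a * (b * a) * b by group,
        show b * a = a * b from setLike_mul_comm hb ha, show a * (a * b) * b = a * a * (b * b) by group,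
        iha, ihb, one_mul]
    | inv a ha iha => rw [← mul_inv_rev, iha, inv_one]
  have hEp : IsPGroup 2 E := fun e => ⟨1, Subtype.ext (by simpa [sq] using hsq e e.2)⟩
  have hxp : IsPGroup 2 (Subgroup.zpowers x) := by
    obtain ⟨k, hk⟩ := hx
    exact IsPGroup.of_card (n := k) (by rw [Nat.card_zpowers, hk])
  have hconj : ∀ (i : ℤ), ∀ e ∈ E, x ^ i * e * (x ^ i)⁻¹ ∈ E := by
    intro i e he
    induction he using Subgroup.closure_induction with
    | mem y hy =>
      obtain ⟨j, rfl⟩ := hy
      refine Subgroup.subset_closure ⟨i + j, ?_⟩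
      show x ^ (i + j) * t * (x ^ (i + j))⁻¹ = x ^ i * (x ^ j * t * (x ^ j)⁻¹) * (x ^ i)⁻¹
      rw [zpow_add]; group
    | one => simp
    | mul a b _ _ iha ihb => rw [← conj_mul]; exact E.mul_mem iha ihb
    | inv a _ iha => rw [← conj_inv]; exact E.inv_mem iha
  have hnorm : Subgroup.zpowers x ≤ Subgroup.normalizer (E : Set G) := by
    rintro _ ⟨i, rfl⟩
    rw [Subgroup.mem_normalizer_iff]
    intro e
    refine ⟨hconj i e, fun h => ?_⟩
    have := hconj (-i) _ h
    simpa [zpow_neg, mul_assoc] using this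
  obtain ⟨Q, hQ⟩ := (hxp.to_sup_of_normal_right' hEp hnorm).exists_le_sylow
  have := hP Q (hQ (Subgroup.mem_sup_left (Subgroup.mem_zpowers x)))
  subst this
  exact hQ (Subgroup.mem_sup_right (Subgroup.subset_closure ⟨0, by simp⟩))

theorem swap_commute {α : Type*} [DecidableEq α] {a b c d : α}
    (h : (a = c ∧ b = d) ∨ (a = d ∧ b = c) ∨ (a ≠ c ∧ a ≠ d ∧ b ≠ c ∧ b ≠ d)) :
    Commute (swap a b) (swap c d) := by
  rcases h with ⟨rfl, rfl⟩ | ⟨rfl, rfl⟩ | ⟨h1, h2, h3, h4⟩
  · exact Commute.refl _
  · rw [swap_comm]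
  · refine (Disjoint.commute fun y => ?_)
    by_cases hy : y = a ∨ y = b
    · right
      rcases hy with rfl | rfl
      · exact swap_apply_of_ne_of_ne h1 h2
      · exact swap_apply_of_ne_of_ne h3 h4
    · push Not at hy
      exact Or.inl (swap_apply_of_ne_of_ne hy.1 hy.2)

theorem not_two_swaps {α : Type*} [Fintype α] [DecidableEq α] (P : Sylow 2 (Perm α)) {a b c : α}
    (hab : a ≠ b) (hac : a ≠ c) (hbc : b ≠ c) (h1 : swap a b ∈ P) (h2 : swap a c ∈ P) : False := by
  obtain ⟨k, hk⟩ := IsPGroup.iff_orderOf.mp P.2 ⟨_, P.mul_mem h1 h2⟩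
  rw [Subgroup.orderOf_mk, (isThreeCycle_swap_mul_swap_same hab hac hbc).orderOf] at hk
  rcases k with _ | k
  · simp at hk
  · rw [pow_succ'] at hk; omega

/-- At most two fixed points, and moved points with equal periods share a cycle. -/
def Good {α : Type*} (x : Perm α) : Prop :=
  (∀ a b c, x a = a → x b = b → x c = c → a = b ∨ a = c ∨ b = c) ∧
    ∀ a b, x a ≠ a → x b ≠ b → (∀ m : ℕ, (x ^ m) a = a ↔ (x ^ m) b = b) → ∃ m : ℕ, (x ^ m) a = b

theorem exists_period {α : Type*} {x : Perm α} {k : ℕ} (hk : x ^ 2 ^ k = 1) (a : α) :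
    ∃ j, ∀ m : ℕ, (x ^ m) a = a ↔ 2 ^ j ∣ m := by
  have h : Function.IsPeriodicPt x (2 ^ k) a := by
    show x^[2 ^ k] a = a
    rw [← coe_pow, hk]; rfl
  obtain ⟨j, -, hj⟩ := (Nat.dvd_prime_pow Nat.prime_two).mp h.minimalPeriod_dvd
  refine ⟨j, fun m => ?_⟩
  rw [← hj, ← Function.isPeriodicPt_iff_minimalPeriod_dvd, coe_pow]
  rfl

/-- A pairing commuting with a good element is determined by it. -/
theorem pairing_apply {α : Type*} {x π : Perm α} {k : ℕ} (hk : x ^ 2 ^ k = 1) (hx : Good x)
    (hπ2 : π * π = 1) (hπf : ∀ a, π a ≠ a) (hcomm : Commute x π) {a : α} {j : ℕ} (hj : 1 ≤ j)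
    (hper : ∀ m : ℕ, (x ^ m) a = a ↔ 2 ^ j ∣ m) : π a = (x ^ 2 ^ (j - 1)) a := by
  have hcm : ∀ (m : ℕ) (b : α), (x ^ m) (π b) = π ((x ^ m) b) := fun m b => by
    rw [← mul_apply, (hcomm.pow_left m).eq, mul_apply]
  have hmoved : x a ≠ a := fun h => by
    have := (hper 1).mp (by simpa using h)
    rw [Nat.dvd_one, Nat.pow_eq_one] at this
    omega
  have hsame : ∀ m : ℕ, (x ^ m) a = a ↔ (x ^ m) (π a) = π a := fun m => by
    rw [hcm, π.apply_eq_iff_eq]
  have hmoved' : x (π a) ≠ π a := fun h => hmoved (by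
    have := (hsame 1).mpr (by simpa using h)
    simpa using this)
  obtain ⟨i, hi⟩ := hx.2 a (π a) hmoved hmoved' hsame
  have h2i : (x ^ (i + i)) a = a := by
    rw [pow_add, mul_apply, hi, hcm, hi, ← mul_apply, hπ2, one_apply]
  have hd := (hper _).mp h2i
  have hnd : ¬ 2 ^ j ∣ i := fun h => hπf a (hi ▸ (hper i).mpr h)
  obtain ⟨j', rfl⟩ : ∃ j', j = j' + 1 := ⟨j - 1, by omega⟩
  rw [← two_mul, pow_succ'] at hd
  obtain ⟨q, rfl⟩ := Nat.dvd_of_mul_dvd_mul_left two_pos hd
  rcases Nat.even_or_odd' q with ⟨r, rfl | rfl⟩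
  · exact absurd ⟨r, by ring⟩ hnd
  · rw [← hi, show 2 ^ j' * (2 * r + 1) = 2 ^ (j' + 1 - 1) + 2 ^ (j' + 1) * r by
      rw [Nat.add_sub_cancel]; ring, pow_add, mul_apply, (hper _).mpr (dvd_mul_right _ r)]

theorem pairing_unique {α : Type*} {x π π' : Perm α} {k : ℕ} (hk : x ^ 2 ^ k = 1) (hx : Good x)
    (hπ2 : π * π = 1) (hπf : ∀ a, π a ≠ a) (hc : Commute x π)
    (hπ2' : π' * π' = 1) (hπf' : ∀ a, π' a ≠ a) (hc' : Commute x π') : π = π' := by
  ext a
  obtain ⟨j, hj⟩ := exists_period hk a
  rcases Nat.eq_zero_or_pos j with rfl | hpos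
  · have hfix : x a = a := by simpa using (hj 1).mpr (by simp)
    have h1 : x (π a) = π a := by rw [← mul_apply, hc.eq, mul_apply, hfix]
    have h2 : x (π' a) = π' a := by rw [← mul_apply, hc'.eq, mul_apply, hfix]
    rcases hx.1 a (π a) (π' a) hfix h1 h2 with h | h | h
    · exact absurd h.symm (hπf a)
    · exact absurd h.symm (hπf' a)
    · exact h
  · rw [pairing_apply hk hx hπ2 hπf hc hpos hj, pairing_apply hk hx hπ2' hπf' hc' hpos hj]

/-- Passing to a quotient with `2`-group kernel. -/
theorem descend {G H : Type*} [Group G] [Finite G] [Group H] [Finite H] (C : Subgroup G) (f : C →* H)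
    (hker : IsPGroup 2 f.ker) {P Q : Sylow 2 G} (hP : (P : Subgroup G) ≤ C) (hQ : (Q : Subgroup G) ≤ C)
    {x : C} (hxP : (x : G) ∈ P) (hxQ : (x : G) ∈ Q)
    (huniq : ∀ R S : Sylow 2 H, f x ∈ R → f x ∈ S → R = S) : P = Q := by
  obtain ⟨R, hR⟩ := ((P.2.comap_subtype (K := C)).map f).exists_le_sylow
  obtain ⟨S, hS⟩ := ((Q.2.comap_subtype (K := C)).map f).exists_le_sylow
  have hRS : R = S := huniq R S (hR ⟨x, hxP, rfl⟩) (hS ⟨x, hxQ, rfl⟩)
  subst hRS
  have hM : IsPGroup 2 (((R : Subgroup H).comap f).map C.subtype) :=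
    (R.2.comap_of_ker_isPGroup f hker).map C.subtype
  have hle : ∀ T : Sylow 2 G, (T : Subgroup G) ≤ C → ((T : Subgroup G).subgroupOf C).map f ≤ R →
      ((R : Subgroup H).comap f).map C.subtype = T := fun T hT h =>
    T.3 hM fun g hg => ⟨⟨g, hT hg⟩, h ⟨⟨g, hT hg⟩, hg, rfl⟩, rfl⟩
  exact Sylow.ext ((hle P hP hR).symm.trans (hle Q hQ hS))

/-- The pairing centralised by a Sylow subgroup. -/
theorem exists_pairing {α : Type*} [Fintype α] [DecidableEq α] {m : ℕ} (hα : Fintype.card α = 2 * m)
    (P : Sylow 2 (Perm α)) :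
    ∃ π : Perm α, π * π = 1 ∧ (∀ a, π a ≠ a) ∧ ∀ g ∈ P, Commute g π := by
  obtain ⟨π₀, hπ₀⟩ := (exists_with_cycleType_iff (α := α) (m := Multiset.replicate m 2)).mpr
    ⟨by simp [hα, mul_comm], fun a ha => by rw [Multiset.eq_of_mem_replicate ha]⟩
  have hfpf : ∀ a, π₀ a ≠ a := by
    intro a
    rw [← mem_support]
    have hs : π₀.support = Finset.univ := Finset.eq_univ_of_card _ (by
      rw [← sum_cycleType, hπ₀, hα]; simp [mul_comm])
    rw [hs]; exact Finset.mem_univ a
  have hsq : π₀ * π₀ = 1 := by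
    rw [← sq, ← orderOf_dvd_iff_pow_eq_one, ← lcm_cycleType, hπ₀]
    exact Multiset.lcm_dvd.mpr fun a ha => by rw [Multiset.eq_of_mem_replicate ha]
  have hcard : Nat.card (Subgroup.centralizer ({π₀} : Set (Perm α))) = 2 ^ m * m ! := by
    rw [nat_card_centralizer, hπ₀]
    rcases Nat.eq_zero_or_pos m with rfl | hm
    · simp [hα]
    · rw [Multiset.sum_replicate, Multiset.prod_replicate, Multiset.toFinset_replicate, if_neg hm.ne',
        Finset.prod_singleton, Multiset.count_replicate_self, smul_eq_mul, hα, mul_comm m 2, Nat.sub_self,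
        Nat.factorial_zero, one_mul]
  obtain ⟨R⟩ : Nonempty (Sylow 2 (Subgroup.centralizer ({π₀} : Set (Perm α)))) := inferInstance
  have hRcard : Nat.card ((R : Subgroup _).map (Subgroup.centralizer ({π₀} : Set (Perm α))).subtype) =
      2 ^ (Nat.card (Perm α)).factorization 2 := by
    rw [Subgroup.card_subtype, R.card_eq_multiplicity, hcard]
    congr 1
    rw [Nat.card_perm, Nat.card_eq_fintype_card, hα, Nat.factorization_mul (by positivity) (Nat.factorial_ne_zero m),
      Finsupp.coe_add, Pi.add_apply, Nat.prime_two.factorization_pow, Finsupp.single_eq_same,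
      Nat.factorization_def _ Nat.prime_two, Nat.factorization_def _ Nat.prime_two,
      padicValNat_factorial_mul (p := 2) m]
    ring
  obtain ⟨g, hg⟩ := MulAction.exists_smul_eq (Perm α) (Sylow.ofCard _ hRcard) P
  refine ⟨g * π₀ * g⁻¹, by rw [conj_mul, hsq]; group, fun a h => hfpf (g⁻¹ a) ?_, fun y hy => ?_⟩
  · apply g.injective
    rw [show g (g⁻¹ a) = a by simp]
    exact h
  · rw [← hg] at hy
    have hy' : g⁻¹ * y * g ∈ ((R : Subgroup _).map (Subgroup.centralizer ({π₀} : Set (Perm α))).subtype) := by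
      have h := Subgroup.mem_pointwise_smul_iff_inv_smul_mem.mp (show y ∈ MulAut.conj g • _ from hy)
      rw [← map_inv] at h
      simpa [MulAut.smul_def] using h
    obtain ⟨w, -, hw⟩ := hy'
    have hwc := Subgroup.mem_centralizer_singleton_iff.mp w.2
    have hwe : (w : Perm α) = g⁻¹ * y * g := hw
    rw [hwe] at hwc
    show y * (g * π₀ * g⁻¹) = g * π₀ * g⁻¹ * y
    calc y * (g * π₀ * g⁻¹) = g * (g⁻¹ * y * g * π₀) * g⁻¹ := by group
      _ = g * (π₀ * (g⁻¹ * y * g)) * g⁻¹ := by rw [hwc]
      _ = _ := by group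

/-- A good element lies in only one Sylow `2`-subgroup. -/
theorem sylow_unique : ∀ (n : ℕ) (α : Type) [Fintype α] [DecidableEq α], Fintype.card α = n →
    ∀ (x : Perm α), Good x → ∀ P Q : Sylow 2 (Perm α), x ∈ P → x ∈ Q → P = Q := by
  intro n
  induction n using Nat.strong_induction_on with
  | _ n ih =>
  intro α _ _ hn x hx P Q hxP hxQ
  obtain ⟨k, hk⟩ : ∃ k, x ^ 2 ^ k = 1 := by
    obtain ⟨k, hk⟩ := P.2 ⟨x, hxP⟩
    exact ⟨k, congrArg Subtype.val hk⟩
  have : Fact (Nat.Prime 2) := ⟨Nat.prime_two⟩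
  rcases Nat.even_or_odd' n with ⟨m, rfl | rfl⟩
  · by_cases hm : m = 0
    · subst hm
      haveI : IsEmpty α := Fintype.card_eq_zero_iff.mp hn
      exact Sylow.ext (Subsingleton.elim _ _)
    obtain ⟨π, hπ2, hπf, hπP⟩ := exists_pairing hn P
    obtain ⟨π', hπ2', hπf', hπQ⟩ := exists_pairing hn Q
    obtain rfl : π = π' := pairing_unique hk hx hπ2 hπf (hπP x hxP) hπ2' hπf' (hπQ x hxQ)
    have hππ : ∀ a, π (π a) = a := fun a => by rw [← mul_apply, hπ2, one_apply]
    let sd : Setoid α :=
      { r := fun a b => b = a ∨ b = π a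
        iseqv :=
          { refl := fun a => Or.inl rfl
            symm := by
              rintro a b (rfl | rfl)
              · exact Or.inl rfl
              · exact Or.inr (hππ a).symm
            trans := by
              rintro a b c (rfl | rfl) (rfl | rfl)
              · exact Or.inl rfl
              · exact Or.inr rfl
              · exact Or.inr rfl
              · exact Or.inl (hππ a) } }
    have hr : ∀ a b, (Quotient.mk sd a = Quotient.mk sd b) ↔ (b = a ∨ b = π a) := fun a b => Quotient.eq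
    letI : DecidableRel sd.r := fun a b => decEq b a |>.rec
      (fun h => match decEq b (π a) with
        | isTrue h' => isTrue (Or.inr h')
        | isFalse h' => isFalse fun hh => hh.elim h h')
      (fun h => isTrue (Or.inl h))
    set C := Subgroup.centralizer ({π} : Set (Perm α)) with hC
    have hcomm : ∀ g ∈ C, ∀ a, g (π a) = π (g a) := fun g hg a => by
      rw [← mul_apply, Subgroup.mem_centralizer_singleton_iff.mp hg, mul_apply]
    let qmap : C → Quotient sd → Quotient sd := fun g => Quotient.map (fun a => (g : Perm α) a) fun a b hab => by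
      rcases hab with rfl | rfl
      · exact Or.inl rfl
      · exact Or.inr (hcomm g g.2 a)
    let f : C →* Perm (Quotient sd) :=
      { toFun := fun g =>
          { toFun := qmap g
            invFun := qmap g⁻¹
            left_inv := fun q => Quotient.inductionOn q fun a =>
              congrArg (Quotient.mk sd) (show ((g⁻¹ : C) : Perm α) ((g : Perm α) a) = a by simp)
            right_inv := fun q => Quotient.inductionOn q fun a =>
              congrArg (Quotient.mk sd) (show (g : Perm α) (((g⁻¹ : C) : Perm α) a) = a by simp) }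
        map_one' := Equiv.ext fun q => Quotient.inductionOn q fun a => rfl
        map_mul' := fun g h => Equiv.ext fun q => Quotient.inductionOn q fun a => rfl }
    have hf : ∀ (g : C) (a : α), f g (Quotient.mk sd a) = Quotient.mk sd ((g : Perm α) a) := fun g a => rfl
    have hker : IsPGroup 2 f.ker := by
      intro g
      refine ⟨1, Subtype.ext (Subtype.ext (Equiv.ext fun a => ?_))⟩
      have h := DFunLike.congr_fun (MonoidHom.mem_ker.mp g.2) (Quotient.mk sd a)
      rw [hf, one_apply, hr] at h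
      show (((g : C) : Perm α) ^ 2 ^ 1) a = a
      rw [pow_one, sq, mul_apply]
      rcases h with h | h
      · rw [← h, ← h]
      · have e : ((g : C) : Perm α) a = π a := by
          have := congrArg π h
          rwa [hππ, eq_comm] at this
        rw [e, hcomm _ (g : C).2, e, hππ]
    have hxC : x ∈ C := Subgroup.mem_centralizer_singleton_iff.mpr (hπP x hxP).eq
    refine descend C f hker (fun g hg => Subgroup.mem_centralizer_singleton_iff.mpr (hπP g hg).eq)
      (fun g hg => Subgroup.mem_centralizer_singleton_iff.mpr (hπQ g hg).eq) (x := ⟨x, hxC⟩) hxP hxQ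
      (ih (Fintype.card (Quotient sd)) ?_ _ rfl _ ?_)
    · rw [← hn]
      obtain ⟨a⟩ : Nonempty α := Fintype.card_pos_iff.mp (by omega)
      refine Fintype.card_lt_of_surjective_not_injective (Quotient.mk sd) Quotient.mk_surjective fun hinj => ?_
      exact hπf a (hinj ((hr a (π a)).mpr (Or.inr rfl))).symm
    -- the induced element is good
    set xb := f ⟨x, hxC⟩ with hxb
    have hpowb : ∀ (m : ℕ) (a : α), (xb ^ m) (Quotient.mk sd a) = Quotient.mk sd ((x ^ m) a) := by
      intro m a
      rw [hxb, ← map_pow, hf]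
      rfl
    have hfixb : ∀ (m : ℕ) (a : α) (j : ℕ), 1 ≤ j → (∀ m, (x ^ m) a = a ↔ 2 ^ j ∣ m) →
        ((xb ^ m) (Quotient.mk sd a) = Quotient.mk sd a ↔ 2 ^ (j - 1) ∣ m) := by
      intro m a j hj hper
      have hπa := pairing_apply hk hx hπ2 hπf (hπP x hxP) hj hper
      have hsplit : 2 ^ j = 2 * 2 ^ (j - 1) := by rw [← pow_succ', show j - 1 + 1 = j by omega]
      rw [hpowb, hr]
      constructor
      · rintro (h | h)
        · exact (Dvd.intro_left 2 hsplit.symm).trans ((hper m).mp h.symm)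
        · have hm' : (x ^ m) a = π a := by
            have := congrArg π h
            rwa [hππ, eq_comm] at this
          have h2 : (x ^ (m + 2 ^ (j - 1))) a = a := by
            rw [pow_add, mul_apply, ← hπa, ← mul_apply, ((hπP x hxP).pow_left m).eq, mul_apply, hm', hππ]
          exact (Nat.dvd_add_left dvd_rfl).mp ((Dvd.intro_left 2 hsplit.symm).trans ((hper _).mp h2))
      · rintro ⟨q, rfl⟩
        rcases Nat.even_or_odd' q with ⟨r, rfl | rfl⟩
        · left
          exact ((hper _).mpr ⟨r, by rw [hsplit]; ring⟩).symm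
        · right
          have e : (x ^ (2 ^ (j - 1) * (2 * r + 1))) a = π a := by
            rw [show 2 ^ (j - 1) * (2 * r + 1) = 2 ^ (j - 1) + 2 ^ j * r by rw [hsplit]; ring, pow_add,
              mul_apply, (hper _).mpr (dvd_mul_right _ r), hπa]
          rw [e, hππ]
    have hsameb : ∀ a b, (∃ j, (∀ m, (x ^ m) a = a ↔ 2 ^ j ∣ m) ∧ (∀ m, (x ^ m) b = b ↔ 2 ^ j ∣ m) ∧ 1 ≤ j) →
        ∃ m : ℕ, (x ^ m) a = b := by
      rintro a b ⟨j, hja, hjb, hj⟩
      have hmv : ∀ c, (∀ m, (x ^ m) c = c ↔ 2 ^ j ∣ m) → x c ≠ c := fun c hc h => by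
        have := (hc 1).mp (by simpa using h)
        rw [Nat.dvd_one, Nat.pow_eq_one] at this
        omega
      exact hx.2 a b (hmv a hja) (hmv b hjb) fun m => (hja m).trans (hjb m).symm
    constructor
    · intro qa qb qc
      refine Quotient.inductionOn₃ qa qb qc fun a b c ha hb hc => ?_
      -- fixed classes come from fixed points or from transpositions
      have htype : ∀ a, xb (Quotient.mk sd a) = Quotient.mk sd a →
          x a = a ∨ (∀ m, (x ^ m) a = a ↔ 2 ^ 1 ∣ m) := by
        intro a ha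
        obtain ⟨j, hj⟩ := exists_period hk a
        rcases Nat.eq_zero_or_pos j with rfl | hpos
        · left; simpa using (hj 1).mpr (by simp)
        · right
          have h1 := (hfixb 1 a j hpos hj).mp (by simpa using ha)
          rw [Nat.dvd_one, Nat.pow_eq_one] at h1
          obtain rfl : j = 1 := by omega
          exact hj
      have hfix2 : ∀ a b, x a = a → x b = b → Quotient.mk sd a = Quotient.mk sd b := by
        intro a b ha' hb'
        have hπa : x (π a) = π a := by rw [← mul_apply, (hπP x hxP).eq, mul_apply, ha']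
        rcases hx.1 a (π a) b ha' hπa hb' with h | h | h
        · exact absurd h.symm (hπf a)
        · rw [h]
        · exact (hr a b).mpr (Or.inr h.symm)
      have hswap2 : ∀ a b, (∀ m, (x ^ m) a = a ↔ 2 ^ 1 ∣ m) → (∀ m, (x ^ m) b = b ↔ 2 ^ 1 ∣ m) →
          Quotient.mk sd a = Quotient.mk sd b := by
        intro a b ha' hb'
        obtain ⟨m, hm⟩ := hsameb a b ⟨1, ha', hb', le_rfl⟩
        have hπa := pairing_apply hk hx hπ2 hπf (hπP x hxP) le_rfl ha'
        simp only [Nat.sub_self, pow_zero, pow_one] at hπa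
        rw [hr, ← hm]
        rcases Nat.even_or_odd' m with ⟨r, rfl | rfl⟩
        · exact Or.inl ((ha' _).mpr (by simp))
        · right
          rw [show 2 * r + 1 = 1 + 2 * r by ring, pow_add, mul_apply, (ha' _).mpr (by simp), pow_one, hπa]
      rcases htype a ha with h1 | h1 <;> rcases htype b hb with h2 | h2 <;> rcases htype c hc with h3 | h3
      all_goals first
        | exact Or.inl (hfix2 _ _ h1 h2)
        | exact Or.inl (hswap2 _ _ h1 h2)
        | exact Or.inr (Or.inl (hfix2 _ _ h1 h3))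
        | exact Or.inr (Or.inl (hswap2 _ _ h1 h3))
        | exact Or.inr (Or.inr (hfix2 _ _ h2 h3))
        | exact Or.inr (Or.inr (hswap2 _ _ h2 h3))
    · intro qa qb
      refine Quotient.inductionOn₂ qa qb fun a b ha hb hab => ?_
      have hjj : ∀ c, xb (Quotient.mk sd c) ≠ Quotient.mk sd c →
          ∃ j, 1 ≤ j ∧ ∀ m, (x ^ m) c = c ↔ 2 ^ j ∣ m := by
        intro c hc
        obtain ⟨j, hj⟩ := exists_period hk c
        refine ⟨j, Nat.pos_of_ne_zero ?_, hj⟩
        rintro rfl
        have hfx : x c = c := by simpa using (hj 1).mpr (by simp)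
        exact hc (by rw [hxb, hf]; exact congrArg (Quotient.mk sd) hfx)
      obtain ⟨ja, hja1, hja⟩ := hjj a ha
      obtain ⟨jb, hjb1, hjb⟩ := hjj b hb
      have heq : ja = jb := by
        have h1 := (hab (2 ^ (jb - 1))).mpr ((hfixb _ b jb hjb1 hjb).mpr dvd_rfl)
        have h2 := (hab (2 ^ (ja - 1))).mp ((hfixb _ a ja hja1 hja).mpr dvd_rfl)
        rw [hfixb _ a ja hja1 hja, Nat.pow_dvd_pow_iff_le_right (by norm_num)] at h1
        rw [hfixb _ b jb hjb1 hjb, Nat.pow_dvd_pow_iff_le_right (by norm_num)] at h2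
        omega
      subst heq
      obtain ⟨m, hm⟩ := hsameb a b ⟨ja, hja, hjb, hja1⟩
      exact ⟨m, by rw [hpowb, hm]⟩
  · -- an odd number of points: a common fixed point
    have hodd : ¬ 2 ∣ Nat.card α := by rw [Nat.card_eq_fintype_card, hn]; omega
    obtain ⟨c, hc⟩ := P.2.nonempty_fixed_point_of_prime_not_dvd_card α hodd
    obtain ⟨d, hd⟩ := Q.2.nonempty_fixed_point_of_prime_not_dvd_card α hodd
    have hxc : x c = c := hc ⟨x, hxP⟩
    have hxd : x d = d := hd ⟨x, hxQ⟩
    have huniq : ∀ e, x e = e → e = c := by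
      intro e he
      by_contra hne
      have hsub : ({c, e} : Finset α) ⊆ x.supportᶜ := by
        intro u hu
        rw [Finset.mem_compl, notMem_support]
        rcases Finset.mem_insert.mp hu with rfl | hu
        · exact hxc
        · rw [Finset.mem_singleton.mp hu]; exact he
      have hle : x.supportᶜ ⊆ {c, e} := by
        intro u hu
        rw [Finset.mem_compl, notMem_support] at hu
        rcases hx.1 u c e hu hxc he with h | h | h
        · simp [h]
        · simp [h]
        · exact absurd h.symm hne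
      have hmod := card_compl_support_modEq (p := 2) (n := k) hk
      rw [Finset.Subset.antisymm hle hsub, Finset.card_pair (Ne.symm hne), hn, Nat.ModEq] at hmod
      omega
    obtain rfl : d = c := huniq d hxd
    set C := MulAction.stabilizer (Perm α) d with hC
    have hmem : ∀ g : C, ∀ a, ((g : Perm α) a ≠ d) ↔ a ≠ d := by
      intro g a
      have hgd : (g : Perm α) d = d := g.2
      refine not_congr ⟨fun h => (g : Perm α).injective (h.trans hgd.symm), fun h => h ▸ hgd⟩
    let f : C →* Perm {a : α // a ≠ d} :=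
      { toFun := fun g => (g : Perm α).subtypePerm (fun a => hmem g a)
        map_one' := Equiv.ext fun a => Subtype.ext rfl
        map_mul' := fun g h => Equiv.ext fun a => Subtype.ext rfl }
    have hker : IsPGroup 2 f.ker := by
      intro g
      refine ⟨0, Subtype.ext (Subtype.ext (Equiv.ext fun a => ?_))⟩
      show (((g : C) : Perm α) ^ 2 ^ 0) a = a
      rw [pow_zero, pow_one]
      by_cases had : a = d
      · subst had; exact (g : C).2
      · exact congrArg Subtype.val (DFunLike.congr_fun (MonoidHom.mem_ker.mp g.2) ⟨a, had⟩)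
    refine descend C f hker (fun g hg => hc ⟨g, hg⟩) (fun g hg => hd ⟨g, hg⟩) (x := ⟨x, hxc⟩) hxP hxQ
      (ih (Fintype.card {a : α // a ≠ d}) ?_ _ rfl _ ?_)
    · rw [← hn]
      exact Fintype.card_subtype_lt (x := d) (by simp)
    have hval : ∀ (m : ℕ) (a : {a : α // a ≠ d}), ((f ⟨x, hxc⟩ ^ m) a : α) = (x ^ m) a := by
      intro m a
      rw [← map_pow]
      rfl
    constructor
    · intro a b c ha hb hc
      exact absurd (huniq a (congrArg Subtype.val ha)) a.2
    · intro a b ha hb hab
      obtain ⟨m, hm⟩ := hx.2 a b (fun h => ha (Subtype.ext h)) (fun h => hb (Subtype.ext h)) fun m => by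
        rw [← hval, ← hval, ← Subtype.ext_iff, ← Subtype.ext_iff]
        exact hab m
      exact ⟨m, Subtype.ext (by rw [hval, hm])⟩


/-- Let n ≥ 2 and let x be an element of 2-power order of the symmetric group of degree n. Then x lies in exactly one Sylow 2-subgroup if and only if x has at most two fixed points and the nontrivial cycles of x have pairwise different lengths. -/
theorem result (n : ℕ) (hn : 2 ≤ n)
    (x : Equiv.Perm (Fin n)) (hx : ∃ k : ℕ, orderOf x = 2 ^ k) :
    (∃! P : Sylow 2 (Equiv.Perm (Fin n)), x ∈ P) ↔ (n ≤ x.support.card + 2 ∧ x.cycleType.Nodup) := by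
  classical
  have : Fact (Nat.Prime 2) := ⟨Nat.prime_two⟩
  obtain ⟨k, hk⟩ := hx
  have hk1 : x ^ 2 ^ k = 1 := hk ▸ pow_orderOf_eq_one x
  have hmem : ∀ a, a ∈ x.supportᶜ ↔ x a = a := fun a => by rw [Finset.mem_compl, Equiv.Perm.notMem_support]
  have hcompl : x.supportᶜ.card = n - x.support.card := by rw [Finset.card_compl, Fintype.card_fin]
  have hle : x.support.card ≤ n := by simpa using Finset.card_le_univ x.support
  -- periods are cycle lengths
  have hper : ∀ a, x a ≠ a → ∀ m : ℕ, (x ^ m) a = a ↔ (x.cycleOf a).support.card ∣ m := by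
    intro a ha m
    have hcyc := Equiv.Perm.isCycle_cycleOf x ha
    rw [← hcyc.orderOf, orderOf_dvd_iff_pow_eq_one,
      hcyc.pow_eq_one_iff' (by rwa [Equiv.Perm.cycleOf_apply_self]), Equiv.Perm.cycleOf_pow_apply_self]
  have hnodup : x.cycleType.Nodup ↔ ∀ a b, x a ≠ a → x b ≠ b →
      (x.cycleOf a).support.card = (x.cycleOf b).support.card → x.cycleOf a = x.cycleOf b := by
    rw [Equiv.Perm.cycleType_def, Multiset.nodup_map_iff_inj_on x.cycleFactorsFinset.nodup]
    constructor
    · intro h a b ha hb hab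
      exact h _ (Finset.mem_val.mpr (Equiv.Perm.cycleOf_mem_cycleFactorsFinset_iff.mpr (Equiv.Perm.mem_support.mpr ha))) _
        (Finset.mem_val.mpr (Equiv.Perm.cycleOf_mem_cycleFactorsFinset_iff.mpr (Equiv.Perm.mem_support.mpr hb))) hab
    · intro h c hc c' hc' hcc
      rw [Finset.mem_val] at hc hc'
      obtain ⟨hcy, hcx⟩ := Equiv.Perm.mem_cycleFactorsFinset_iff.mp hc
      obtain ⟨hcy', hcx'⟩ := Equiv.Perm.mem_cycleFactorsFinset_iff.mp hc'
      obtain ⟨a, ha, -⟩ := hcy
      obtain ⟨b, hb, -⟩ := hcy'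
      have ha' := Equiv.Perm.mem_support.mpr ha
      have hb' := Equiv.Perm.mem_support.mpr hb
      have e := Equiv.Perm.cycle_is_cycleOf ha' hc
      have e' := Equiv.Perm.cycle_is_cycleOf hb' hc'
      rw [e, e']
      refine h a b (by rw [← hcx a ha']; exact ha) (by rw [← hcx' b hb']; exact hb) ?_
      rw [← e, ← e']
      exact hcc
  have hxz : ∃ j : ℕ, orderOf x = 2 ^ j := ⟨k, hk⟩
  have hconj : ∀ (i : ℤ) (a b : Fin n), x ^ i * Equiv.swap a b * (x ^ i)⁻¹ = Equiv.swap ((x ^ i) a) ((x ^ i) b) :=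
    fun i a b => (Equiv.swap_apply_apply (x ^ i) a b).symm
  constructor
  · rintro ⟨P, hxP, hP⟩
    refine ⟨?_, hnodup.mpr ?_⟩
    · by_contra hlt
      obtain ⟨a, b, c, ha, hb, hc, hab, hac, hbc⟩ := Finset.two_lt_card_iff.mp (show 2 < x.supportᶜ.card by omega)
      have key : ∀ u v, x u = u → x v = v → Equiv.swap u v ∈ P := fun u v hu hv => by
        refine mem_of_unique hP hxz (Equiv.swap_mul_self u v) fun i j => ?_
        rw [hconj, hconj]
        simp only [Equiv.Perm.zpow_apply_eq_self_of_apply_eq_self hu, Equiv.Perm.zpow_apply_eq_self_of_apply_eq_self hv]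
        exact Commute.refl _
      rw [hmem] at ha hb hc
      exact not_two_swaps P hab hac hbc (key a b ha hb) (key a c ha hc)
    · intro a b ha hb hcard
      by_contra hne
      have hns : ¬ x.SameCycle a b := fun h => hne h.cycleOf_eq
      obtain ⟨j, hj⟩ := exists_period hk1 a
      have hj' : ∀ m : ℕ, (x ^ m) b = b ↔ 2 ^ j ∣ m := fun m => by
        rw [hper b hb, ← hcard, ← hper a ha]; exact hj m
      obtain ⟨j', rfl⟩ : ∃ j', j = j' + 1 := ⟨j - 1, by
        have : j ≠ 0 := by
          rintro rfl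
          exact ha (by simpa using (hj 1).mpr (by simp))
        omega⟩
      have hz : ∀ u, (∀ m : ℕ, (x ^ m) u = u ↔ 2 ^ (j' + 1) ∣ m) → ∀ m : ℤ,
          (x ^ m) u = u ↔ ((2 ^ (j' + 1) : ℕ) : ℤ) ∣ m := by
        intro u hu m
        obtain ⟨l, rfl | rfl⟩ := Int.eq_nat_or_neg m
        · rw [zpow_natCast, hu, Int.natCast_dvd_natCast]
        · rw [zpow_neg, Equiv.Perm.inv_eq_iff_eq, zpow_natCast, eq_comm, hu, dvd_neg, Int.natCast_dvd_natCast]
      have hsh : ∀ (u : Fin n) (i i' : ℤ), (x ^ i) u = (x ^ i') u ↔ (x ^ (i - i')) u = u := by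
        intro u i i'
        rw [zpow_sub, ((Commute.refl x).zpow_zpow i i').inv_right.eq, Equiv.Perm.mul_apply, Equiv.Perm.inv_eq_iff_eq, eq_comm]
      set a' := (x ^ 2 ^ j') a with ha'
      have haa : a ≠ a' := fun h => by
        have h' := Nat.le_of_dvd (pow_pos two_pos _) ((hj _).mp h.symm)
        rw [pow_succ'] at h'
        have := pow_pos (two_pos (α := ℕ)) j'
        omega
      have hab : a ≠ b := fun h => hns (h ▸ Equiv.Perm.SameCycle.refl _ _)
      have ha'b : a' ≠ b := fun h => hns ⟨((2 ^ j' : ℕ) : ℤ), by rw [zpow_natCast]; exact h⟩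
      have h1 : Equiv.swap a a' ∈ P := by
        refine mem_of_unique hP hxz (Equiv.swap_mul_self _ _) fun i i' => ?_
        rw [hconj, hconj]
        have hshift : ∀ i : ℤ, (x ^ i) a' = (x ^ (i + ((2 ^ j' : ℕ) : ℤ))) a := fun i => by
          rw [zpow_add, Equiv.Perm.mul_apply, zpow_natCast]
        apply swap_commute
        simp only [hshift, hsh, hz a hj, ne_eq]
        push_cast
        rw [pow_succ']
        by_cases h : (2 : ℤ) ^ j' ∣ i - i'
        · obtain ⟨q, hq⟩ := h
          rcases Int.even_or_odd' q with ⟨r, rfl | rfl⟩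
          · exact Or.inl ⟨⟨r, by linear_combination hq⟩, ⟨r, by linear_combination hq⟩⟩
          · exact Or.inr (Or.inl ⟨⟨r, by linear_combination hq⟩, ⟨r + 1, by linear_combination hq⟩⟩)
        · refine Or.inr (Or.inr ⟨?_, ?_, ?_, ?_⟩) <;> refine fun hd => h ?_ <;> obtain ⟨q, hq⟩ := hd
          · exact ⟨2 * q, by linear_combination hq⟩
          · exact ⟨2 * q + 1, by linear_combination hq⟩
          · exact ⟨2 * q - 1, by linear_combination hq⟩
          · exact ⟨2 * q, by linear_combination hq⟩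
      have h2 : Equiv.swap a b ∈ P := by
        refine mem_of_unique hP hxz (Equiv.swap_mul_self _ _) fun i i' => ?_
        rw [hconj, hconj]
        apply swap_commute
        have hne1 : ∀ i i' : ℤ, (x ^ i) a ≠ (x ^ i') b := fun i i' h => hns ⟨-i' + i, by
          rw [zpow_add, Equiv.Perm.mul_apply, h, ← Equiv.Perm.mul_apply, ← zpow_add, neg_add_cancel, zpow_zero,
            Equiv.Perm.one_apply]⟩
        by_cases h : (x ^ i) a = (x ^ i') a
        · refine Or.inl ⟨h, ?_⟩
          rwa [hsh, hz b hj', ← hz a hj, ← hsh]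
        · refine Or.inr (Or.inr ⟨h, hne1 _ _, fun h' => hne1 _ _ h'.symm, fun h' => h ?_⟩)
          rwa [hsh, hz a hj, ← hz b hj', ← hsh]
      exact not_two_swaps P haa hab ha'b h1 h2
  · rintro ⟨hfix, hnd⟩
    have hgood : Good x := by
      refine ⟨fun a b c ha hb hc => ?_, fun a b ha hb hab => ?_⟩
      · by_contra hcon
        push Not at hcon
        obtain ⟨h1, h2, h3⟩ := hcon
        have := Finset.two_lt_card_iff.mpr ⟨a, b, c, (hmem a).mpr ha, (hmem b).mpr hb, (hmem c).mpr hc, h1, h2, h3⟩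
        omega
      · have e := hnodup.mp hnd a b ha hb (Nat.dvd_antisymm
          ((hper a ha _).mp ((hab _).mpr ((hper b hb _).mpr dvd_rfl)))
          ((hper b hb _).mp ((hab _).mp ((hper a ha _).mpr dvd_rfl))))
        have hb' : b ∈ (x.cycleOf a).support := by
          rw [e, Equiv.Perm.mem_support_cycleOf_iff' hb]
        exact (((Equiv.Perm.mem_support_cycleOf_iff' ha).mp hb')).exists_nat_pow_eq
    obtain ⟨P, hP⟩ := (IsPGroup.of_card (p := 2) (n := k) (G := Subgroup.zpowers x)
      (by rw [Nat.card_zpowers, hk])).exists_le_sylow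
    refine ⟨P, hP (Subgroup.mem_zpowers x), fun Q hQ => ?_⟩
    exact sylow_unique n (Fin n) (Fintype.card_fin n) x hgood Q P hQ (hP (Subgroup.mem_zpowers x))

end Cfsg.Agent.S4349
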