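import Cfsg.Statements.S1218
import Cfsg.Agent.S1217
import Cfsg.Agent.Lib.Unitary.Count

set_option autoImplicit false
open scoped MatrixGroups
open Cfsg

namespace Cfsg.Agent.S1218

open Subgroup
open scoped Matrix
open Cfsg.Agent.S1217 (diagOne swapGL)

section

variable {F : Type*} [Field F] [Fintype F] {q : ℕ}

theorem card_gu (hF : Fintype.card F = q ^ 2) :
    Nat.card (Cfsg.GU 2 F q) = q * ((q + 1) * (q ^ 2 - 1)) := by
  rw [Unitary.card_GU hF, Finset.prod_range_succ, Finset.prod_range_succ, Finset.prod_range_zero]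
  simp

theorem norm_one_of_pow {a : Fˣ} (h : a ^ (q + 1) = 1) : (a : F) ^ (q + 1) = 1 := by
  rw [← Units.val_pow_eq_pow_val, h, Units.val_one]

theorem mem_of_unitary {g : GL (Fin 2) F} (h : Unitary.IsUnitary q (g : Matrix (Fin 2) (Fin 2) F)) :
    g ∈ Cfsg.GU 2 F q := fun u v => h u v

theorem diagOne_mem (hF : Fintype.card F = q ^ 2) {a : Fˣ} (h : a ^ (q + 1) = 1) : diagOne a ∈ Cfsg.GU 2 F q := by
  refine mem_of_unitary ?_
  show Unitary.IsUnitary q (Matrix.diagonal ![(a : F), 1])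
  refine Unitary.isUnitary_diagonal hF fun i => ?_
  fin_cases i
  · exact norm_one_of_pow h
  · exact one_pow _

theorem swap_mem : (swapGL : GL (Fin 2) F) ∈ Cfsg.GU 2 F q := by
  intro u v
  simp [Cfsg.hermForm, swapGL, Matrix.mulVec, dotProduct, Fin.sum_univ_two, add_comm]

theorem wreathed_case (hF : Fintype.card F = q ^ 2) (hq : q % 4 = 3) (P : Sylow 2 ↥(Cfsg.GU 2 F q)) :
    Cfsg.IsWreathed (P : Subgroup ↥(Cfsg.GU 2 F q)) := by
  obtain ⟨n, k, hk, hko⟩ := S1217.two_part (N := q + 1) (by omega)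
  have hn : 2 ≤ n := by
    by_contra h
    interval_cases n
    · obtain ⟨r, hr⟩ := hko; omega
    · obtain ⟨r, hr⟩ := hko; omega
  set l := q / 2 with hl
  have hlo : Odd l := ⟨q / 4, by omega⟩
  have hq1 : q - 1 = 2 * l := by omega
  have hsq : q ^ 2 - 1 = (q + 1) * (q - 1) := by simpa using Nat.sq_sub_sq q 1
  have hv : (Nat.card (Cfsg.GU 2 F q)).factorization 2 = 2 * n + 1 := by
    refine S1217.factorization_two (k := q * (k * (k * l))) ((Odd.mul ⟨q / 2, by omega⟩ (hko.mul (hko.mul hlo)))) ?_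
    rw [card_gu hF, hsq, hk, hq1]
    ring
  obtain ⟨a, ha⟩ := S1217.exists_unit_order (F := F) (d := 2 ^ n) (by
    rw [Nat.card_units, Nat.card_eq_fintype_card, hF, hsq, hk, mul_assoc]; exact dvd_mul_right _ _)
  have ha1 : a ^ (q + 1) = 1 := by
    rw [hk, pow_mul, ← ha, pow_orderOf_eq_one, one_pow]
  set x : Cfsg.GU 2 F q := ⟨diagOne a, diagOne_mem hF ha1⟩
  set z : Cfsg.GU 2 F q := ⟨swapGL, swap_mem⟩
  refine S1217.wreathed_of hn hv P (x := x) (y := z * x * z⁻¹) (z := z) ?_ ?_ ?_ ?_ rfl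
  · rw [← Subgroup.orderOf_coe]
    exact (orderOf_injective _ S1217.diagOne_injective a).trans ha
  · exact Subtype.ext (S1217.diag_commute a)
  · apply map_injective (Cfsg.GU 2 F q).subtype_injective
    rw [map_inf _ _ _ (Cfsg.GU 2 F q).subtype_injective, MonoidHom.map_zpowers, MonoidHom.map_zpowers, Subgroup.map_bot]
    exact S1217.diag_disjoint a
  · rw [← Subgroup.orderOf_coe]
    exact S1217.swapGL_order

/-- Change to a basis of isotropic vectors. -/
noncomputable def basisGL (h2 : (2 : F) ≠ 0) (c : Fˣ) : GL (Fin 2) F :=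
  ⟨!![1, 1; (c : F), -(c : F)],
   !![2⁻¹, 2⁻¹ * ((c⁻¹ : Fˣ) : F); 2⁻¹, -(2⁻¹ * ((c⁻¹ : Fˣ) : F))],
   by rw [Matrix.mul_fin_two, Matrix.one_fin_two]; ext i j; fin_cases i <;> fin_cases j <;> simp <;> field_simp <;> ring,
   by rw [Matrix.mul_fin_two, Matrix.one_fin_two]; ext i j; fin_cases i <;> fin_cases j <;> simp <;> field_simp <;> ring⟩

/-- `diag(a, a^{-q})`. -/
noncomputable def diagPair (q : ℕ) : Fˣ →* GL (Fin 2) F where
  toFun a := diagOne a * (swapGL * diagOne (a ^ q)⁻¹ * swapGL⁻¹)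
  map_one' := by simp
  map_mul' a b := by
    apply Units.ext
    simp only [Units.val_mul _ (swapGL * _ * swapGL⁻¹), S1217.swap_conj, Units.val_mul (diagOne _) (diagOne _),
      Units.val_mul (_ * _) (_ * _), mul_pow, mul_inv_rev]
    ext i j; fin_cases i <;> fin_cases j <;>
      simp [diagOne, Matrix.mul_apply, Fin.sum_univ_two, mul_comm]

theorem diagPair_val (a : Fˣ) :
    ((diagPair q a : GL (Fin 2) F) : Matrix (Fin 2) (Fin 2) F) = !![(a : F), 0; 0, (((a ^ q)⁻¹ : Fˣ) : F)] := by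
  show ((diagOne a * (swapGL * diagOne (a ^ q)⁻¹ * swapGL⁻¹) : GL (Fin 2) F) : Matrix (Fin 2) (Fin 2) F) = _
  rw [Units.val_mul, S1217.swap_conj]
  ext i j; fin_cases i <;> fin_cases j <;> simp [diagOne, Matrix.mul_apply, Fin.sum_univ_two]

theorem diagPair_injective : Function.Injective (diagPair q : Fˣ →* GL (Fin 2) F) := by
  intro a b h
  have := congrArg (fun g : GL (Fin 2) F => (g : Matrix (Fin 2) (Fin 2) F) 0 0) h
  simp only [diagPair_val] at this
  exact Units.ext (by simpa using this)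

theorem pair_conj_mem (hF : Fintype.card F = q ^ 2) (h2 : (2 : F) ≠ 0) {c : Fˣ} (hc : (c : F) ^ (q + 1) = -1) (a : Fˣ) :
    basisGL h2 c * diagPair q a * (basisGL h2 c)⁻¹ ∈ Cfsg.GU 2 F q := by
  have hL : ∀ u v : Fin 2 → F, Cfsg.hermForm 2 F q ((basisGL h2 c : Matrix (Fin 2) (Fin 2) F) *ᵥ u)
      ((basisGL h2 c : Matrix (Fin 2) (Fin 2) F) *ᵥ v) = 2 * (u 0 * v 1 ^ q + u 1 * v 0 ^ q) := by
    intro u v
    have e : ∀ w : Fin 2 → F, (basisGL h2 c : Matrix (Fin 2) (Fin 2) F) *ᵥ w =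
        ![w 0 + w 1, (c : F) * (w 0 - w 1)] := by
      intro w
      ext i; fin_cases i <;> simp [basisGL, Matrix.mulVec, dotProduct, Fin.sum_univ_two]
      ring
    simp only [Cfsg.hermForm, Fin.sum_univ_two, e, Matrix.cons_val_zero, Matrix.cons_val_one,
      Unitary.add_pow_q hF, Unitary.sub_pow_q hF, mul_pow]
    rw [pow_succ'] at hc
    linear_combination (u 0 - u 1) * (v 0 ^ q - v 1 ^ q) * hc
  intro u v
  set M := basisGL h2 c
  set D := diagPair q a
  have hD : ∀ w : Fin 2 → F, (D : Matrix (Fin 2) (Fin 2) F) *ᵥ w =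
      ![(a : F) * w 0, ((a : F) ^ q)⁻¹ * w 1] := by
    intro w
    rw [diagPair_val]
    ext i; fin_cases i <;> simp [Matrix.mulVec, dotProduct, Fin.sum_univ_two]
  have key : ∀ w : Fin 2 → F, (M : Matrix (Fin 2) (Fin 2) F) *ᵥ ((M⁻¹ : GL (Fin 2) F) : Matrix (Fin 2) (Fin 2) F) *ᵥ w = w := by
    intro w
    rw [Matrix.mulVec_mulVec, ← Units.val_mul, mul_inv_cancel, Units.val_one, Matrix.one_mulVec]
  conv_rhs => rw [← key u, ← key v]
  simp only [Units.coeHom_apply, Units.val_mul, ← Matrix.mulVec_mulVec, hL, hD, Matrix.cons_val_zero,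
    Matrix.cons_val_one, mul_pow, inv_pow, Unitary.pow_q_pow_q hF]
  have ha : (a : F) ≠ 0 := a.ne_zero
  have haq : (a : F) ^ q ≠ 0 := pow_ne_zero _ ha
  field_simp

theorem swap_conj_basis (h2 : (2 : F) ≠ 0) (c : Fˣ) :
    basisGL h2 c * swapGL * (basisGL h2 c)⁻¹ = swapGL * diagOne (-1) * swapGL⁻¹ := by
  rw [mul_inv_eq_iff_eq_mul]
  apply Units.ext
  rw [Units.val_mul, Units.val_mul (swapGL * diagOne _ * swapGL⁻¹), S1217.swap_conj]
  show !![1, 1; (c : F), -(c : F)] * !![0, 1; 1, 0] = !![1, 0; 0, ((-1 : Fˣ) : F)] * !![1, 1; (c : F), -(c : F)]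
  rw [Matrix.mul_fin_two, Matrix.mul_fin_two]
  simp

theorem qd_case (hF : Fintype.card F = q ^ 2) (hq : q % 4 = 1) (P : Sylow 2 ↥(Cfsg.GU 2 F q)) :
    Cfsg.IsQuasiDihedral (P : Subgroup ↥(Cfsg.GU 2 F q)) := by
  have h2q : 2 ≤ q := Unitary.two_le_q hF
  have h2 : (2 : F) ≠ 0 := by
    intro h
    have hc : ringChar F = 2 := CharP.ringChar_of_prime_eq_zero Nat.prime_two (by exact_mod_cast h)
    have := FiniteField.even_card_of_char_two hc
    rw [hF, Nat.pow_mod, show q % 2 = 1 by omega] at this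
    omega
  obtain ⟨m, k, hk, hko⟩ := S1217.two_part (N := q - 1) (by omega)
  have hm : 2 ≤ m := by
    by_contra h
    interval_cases m
    · obtain ⟨r, hr⟩ := hko; omega
    · obtain ⟨r, hr⟩ := hko; omega
  set l := (q + 1) / 2 with hl
  have hlo : Odd l := ⟨q / 4, by omega⟩
  have hq1 : q + 1 = 2 * l := by omega
  have hsq : q ^ 2 - 1 = (q + 1) * (q - 1) := by simpa using Nat.sq_sub_sq q 1
  have hv : (Nat.card (Cfsg.GU 2 F q)).factorization 2 = m + 1 + 1 := by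
    refine S1217.factorization_two (k := q * (l * (l * k))) ((Odd.mul ⟨q / 2, by omega⟩ (hlo.mul (hlo.mul hko)))) ?_
    rw [card_gu hF, hsq, hk, hq1]
    ring
  obtain ⟨c0, hc0⟩ := Unitary.exists_norm_eq hF (c := -1) (by rw [Unitary.neg_pow_q hF, one_pow])
  have hc0' : c0 ≠ 0 := by
    rintro rfl
    rw [zero_pow (by omega)] at hc0
    exact one_ne_zero (neg_eq_zero.mp hc0.symm)
  set c := Units.mk0 c0 hc0'
  obtain ⟨a, ha⟩ := S1217.exists_unit_order (F := F) (d := 2 ^ (m + 1)) (by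
    rw [Nat.card_units, Nat.card_eq_fintype_card, hF, hsq, hk, hq1]
    exact ⟨l * k, by ring⟩)
  have haq : (a ^ q)⁻¹ = a ^ (2 ^ (m + 1 - 1) - 1) := by
    rw [inv_eq_iff_mul_eq_one, ← pow_add, ← orderOf_dvd_iff_pow_eq_one, ha, Nat.add_sub_cancel]
    obtain ⟨r, hr⟩ := hko
    refine ⟨r + 1, ?_⟩
    have h1 := Nat.one_le_two_pow (n := m)
    have : 2 ^ (m + 1) * (r + 1) = 2 ^ m * k + 2 ^ m := by rw [hr]; ring
    omega
  set L := basisGL h2 c
  let φ : Fˣ →* GL (Fin 2) F := (MulAut.conj L).toMonoidHom.comp (diagPair q)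
  have hφ : Function.Injective φ := (MulAut.conj L).injective.comp diagPair_injective
  set s : GL (Fin 2) F := swapGL * diagOne (-1) * swapGL⁻¹
  have hs : s ∈ Cfsg.GU 2 F q := mul_mem (mul_mem swap_mem (diagOne_mem hF (Even.neg_one_pow ⟨l, by omega⟩)))
    (inv_mem swap_mem)
  have hsL : L * swapGL * L⁻¹ = s := swap_conj_basis h2 c
  refine S1217.qd_of (n := m + 1) (by omega) hv P (x := ⟨φ a, pair_conj_mem hF h2 hc0 a⟩) (y := ⟨s, hs⟩) ?_ ?_ ?_
  · rw [← Subgroup.orderOf_coe]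
    exact (orderOf_injective φ hφ a).trans ha
  · rw [← Subgroup.orderOf_coe, Subgroup.coe_mk, ← hsL]
    exact ((MulAut.conj L).orderOf_eq swapGL).trans S1217.swapGL_order
  · refine Subtype.ext ?_
    show s * φ a * s⁻¹ = (φ a) ^ (2 ^ (m + 1 - 1) - 1)
    rw [← map_pow, ← haq, ← hsL]
    have hsw : swapGL * diagPair q a * swapGL⁻¹ = diagPair q (a ^ q)⁻¹ := by
      apply Units.ext
      rw [diagPair_val, Units.val_mul, Units.val_mul, diagPair_val]
      have : ((((a ^ q)⁻¹) ^ q)⁻¹ : Fˣ) = a := by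
        rw [inv_pow, inv_inv]
        exact Units.ext (by simpa using Unitary.pow_q_pow_q hF (a : F))
      rw [this]
      show !![0, 1; 1, 0] * !![(a : F), 0; 0, (((a ^ q)⁻¹ : Fˣ) : F)] * !![0, 1; 1, 0] = _
      rw [Matrix.mul_fin_two, Matrix.mul_fin_two]
      simp
    show L * swapGL * L⁻¹ * (L * diagPair q a * L⁻¹) * (L * swapGL * L⁻¹)⁻¹ = L * diagPair q (a ^ q)⁻¹ * L⁻¹
    rw [← hsw]; group

end

/-- Let F be a finite field with q² elements, q odd, let GU be the subgroup of GL(2,F) preserving the Hermitian form u₁v₁^q + u₂v₂^q, and P a Sylow 2-subgroup of GU. If q ≡ 1 (mod 4) then P is quasi-dihedral; if q ≡ 3 (mod 4) then P is wreathed. -/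
theorem result {F : Type*} [Field F] [Fintype F] (q : ℕ) (hF : Fintype.card F = q ^ 2) (hq : Odd q) (P : Sylow 2 ↥(Cfsg.preserving (Units.coeHom (Matrix (Fin 2) (Fin 2) F)) (Cfsg.hermForm 2 F q))) : (q % 4 = 1 → Cfsg.IsQuasiDihedral (P : Subgroup ↥(Cfsg.preserving (Units.coeHom (Matrix (Fin 2) (Fin 2) F)) (Cfsg.hermForm 2 F q)))) ∧ (q % 4 = 3 → Cfsg.IsWreathed (P : Subgroup ↥(Cfsg.preserving (Units.coeHom (Matrix (Fin 2) (Fin 2) F)) (Cfsg.hermForm 2 F q)))) := by
  exact ⟨fun h => qd_case hF h P, fun h => wreathed_case hF h P⟩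

end Cfsg.Agent.S1218
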