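import Cfsg.Statements.S3007
import Cfsg.Agent.Lib.CentrallyLarge.Basic

set_option autoImplicit false
open Cfsg Cfsg.Agent.CentrallyLarge
open scoped Pointwise commutatorElement

namespace Cfsg.Agent.S3007

/-- Let P be a finite p-group and Q, R minimal centrally large subgroups of P (centrally large: |Q|·|Z(Q)| maximal among subgroups of P; minimal among such under inclusion). Then Q = (Q ∩ R)·Z(Q), the derived subgroups [Q, Q] and [R, R] coincide, |Q| = |R| and |Z(Q)| = |Z(R)|; and if Q is abelian then the minimal centrally large subgroups of P are exactly the abelian subgroups of P of largest order. -/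
theorem result {p : ℕ} [Fact p.Prime] (P : Type*) [Group P] [Finite P] (hP : IsPGroup p P) (Q R : Subgroup P) (hQ : Cfsg.IsMinimalCentrallyLarge Q) (hR : Cfsg.IsMinimalCentrallyLarge R) : (Q ⊓ R) ⊔ (Q ⊓ Subgroup.centralizer (Q : Set P)) = Q ∧ ⁅Q, Q⁆ = ⁅R, R⁆ ∧ Nat.card ↥Q = Nat.card ↥R ∧ Nat.card ↥(Q ⊓ Subgroup.centralizer (Q : Set P)) = Nat.card ↥(R ⊓ Subgroup.centralizer (R : Set P)) ∧ (IsMulCommutative ↥Q → ∀ X : Subgroup P, Cfsg.IsMinimalCentrallyLarge X ↔ X ∈ Cfsg.maxAbelianSubgroups P) := by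
  have hzQ : Q ⊓ Subgroup.centralizer (Q : Set P) = Subgroup.centralizer (Q : Set P) :=
    inf_eq_right.mpr (CL.le hQ.1)
  have hzR : R ⊓ Subgroup.centralizer (R : Set P) = Subgroup.centralizer (R : Set P) :=
    inf_eq_right.mpr (CL.le hR.1)
  rw [hzQ, hzR]
  have key : ∀ {U V : Subgroup P}, Cfsg.IsMinimalCentrallyLarge U → Cfsg.IsMinimalCentrallyLarge V →
      ⁅U, U⁆ ≤ ⁅U ⊓ V, U ⊓ V⁆ := by
    intro U V hU hV
    have hset : (U : Set P) = ((U ⊓ V : Subgroup P) : Set P) * (Subgroup.centralizer (U : Set P) : Set P) := by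
      rw [← coe_sup_eq_mul (centralizerLarge_inf (CL.large hU.1) (CL.large hV.1))
        (centralizerLarge_centralizer (CL.large hU.1)), minimal_inf_sup hU hV.1]
    rw [Subgroup.commutator_le]
    intro x hx y hy
    have hx' : x ∈ ((U ⊓ V : Subgroup P) : Set P) * (Subgroup.centralizer (U : Set P) : Set P) := hset ▸ hx
    have hy' : y ∈ ((U ⊓ V : Subgroup P) : Set P) * (Subgroup.centralizer (U : Set P) : Set P) := hset ▸ hy
    obtain ⟨d, hd, z, hz, rfl⟩ := hx'
    obtain ⟨e, he, w, hw, rfl⟩ := hy'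
    have h1 : Commute (e * w) z := hz _ hy
    have h2 : Commute d w := hw d hd.1
    have h : ⁅d * z, e * w⁆ = ⁅d, e⁆ := by
      rw [commutatorElement_def, commutatorElement_def]
      calc d * z * (e * w) * (d * z)⁻¹ * (e * w)⁻¹
          = d * (z * (e * w)) * z⁻¹ * d⁻¹ * (e * w)⁻¹ := by group
        _ = d * ((e * w) * z) * z⁻¹ * d⁻¹ * (e * w)⁻¹ := by rw [h1.eq]
        _ = d * e * (w * d⁻¹) * w⁻¹ * e⁻¹ := by group
        _ = d * e * (d⁻¹ * w) * w⁻¹ * e⁻¹ := by rw [h2.inv_left.eq]
        _ = d * e * d⁻¹ * e⁻¹ := by group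
    show ⁅d * z, e * w⁆ ∈ _
    rw [h]
    exact Subgroup.commutator_mem_commutator hd he
  refine ⟨minimal_inf_sup hQ hR.1, le_antisymm ?_ ?_, (minimal_card_eq hQ hR).1, (minimal_card_eq hQ hR).2, ?_⟩
  · exact (key hQ hR).trans (Subgroup.commutator_mono inf_le_right inf_le_right)
  · exact (key hR hQ).trans (Subgroup.commutator_mono inf_le_right inf_le_right)
  · intro hab X
    have hQC : Subgroup.centralizer (Q : Set P) = Q := le_antisymm (CL.le hQ.1) ((abelian_iff Q).mp hab)
    have hm : Nat.card Q * Nat.card Q = Cfsg.maxCentralizerProduct P := by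
      have h : _ = _ := CL.large hQ.1
      rwa [hQC] at h
    have hbound : ∀ B : Subgroup P, IsMulCommutative B → Nat.card B ≤ Nat.card Q := by
      intro B hB
      refine Nat.mul_self_le_mul_self_iff.mp ?_
      rw [hm]
      exact (Nat.mul_le_mul_left _ (Subgroup.card_le_of_le ((abelian_iff B).mp hB))).trans (measure_le B)
    constructor
    · intro hX
      obtain ⟨hc1, hc2⟩ := minimal_card_eq hQ hX
      have hXC : Subgroup.centralizer (X : Set P) = X :=
        eq_of_card _ _ (CL.le hX.1) (by rw [← hc1, ← hc2, hQC])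
      exact ⟨(abelian_iff X).mpr hXC.ge, fun B hB => (hbound B hB).trans hc1.le⟩
    · intro hX
      have hc : Nat.card X = Nat.card Q := le_antisymm (hbound X hX.1) (hX.2 Q hab)
      have hXC := maxAbelian_centralizer hX
      have hXcl : Cfsg.IsCentrallyLarge X := by
        refine centrallyLarge_iff.mpr ⟨?_, hXC.le⟩
        show _ = _
        rw [hXC, hc, hm]
      refine ⟨hXcl, fun X' hle hX' => ?_⟩
      obtain ⟨Y, hY, hYX'⟩ := exists_minimal_le hX'
      have h := eq_of_card Y X (hYX'.trans hle) (by rw [hc, (minimal_card_eq hQ hY).1])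
      exact le_antisymm hle (h ▸ hYX')

end Cfsg.Agent.S3007
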