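import Cfsg.Statements.S5061
import Cfsg.Agent.EqLemmas

set_option autoImplicit false
open Cfsg

namespace Cfsg.Agent.S5061

variable {k : Type*} [Field k] {M : Type*} [AddCommGroup M] [Module k M] [FiniteDimensional k M]

local notation "GLM" => LinearMap.GeneralLinearGroup k M

/-- The linear part `g - 1`. -/
abbrev dev (g : GLM) : M →ₗ[k] M := (g : M →ₗ[k] M) - 1

theorem dev_mul (g h : GLM) : dev (g * h) = dev g * (h : M →ₗ[k] M) + dev h := by
  simp [dev, sub_mul]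

theorem coe_apply (g : GLM) (v : M) : (g : M →ₗ[k] M) v = dev g v + v := by simp [dev]

/-- A finite descending series of subspaces from the whole space to zero. -/
structure IsFlag (F : ℕ → Submodule k M) : Prop where
  anti : Antitone F
  top : F 0 = ⊤
  bot : ∃ n, F n = ⊥

theorem map_coe_le {F : ℕ → Submodule k M} (hF : IsFlag F) {g : GLM} {j : ℕ}
    (hg : ∀ i, (F i).map (dev g) ≤ F (i + j)) (i : ℕ) : (F i).map (g : M →ₗ[k] M) = F i := by
  refine Submodule.eq_of_le_of_finrank_eq ?_ ?_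
  · rintro _ ⟨v, hv, rfl⟩
    rw [coe_apply]
    exact add_mem (hF.anti (Nat.le_add_right i j) (hg i ⟨v, hv, rfl⟩)) hv
  · exact (Submodule.equivMapOfInjective (g : M →ₗ[k] M)
      (LinearMap.GeneralLinearGroup.toLinearEquiv g).injective (F i)).finrank_eq.symm

/-- The elements moving each `F i` into `F (i + j)`. -/
def level (F : ℕ → Submodule k M) (hF : IsFlag F) (j : ℕ) : Subgroup GLM where
  carrier := {g | ∀ i, (F i).map (dev g) ≤ F (i + j)}
  one_mem' := fun i => by simp [dev]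
  mul_mem' := by
    intro g h hg hh i
    rintro _ ⟨v, hv, rfl⟩
    rw [dev_mul, LinearMap.add_apply, Module.End.mul_apply]
    refine add_mem (hg i ⟨_, ?_, rfl⟩) (hh i ⟨v, hv, rfl⟩)
    exact (map_coe_le hF hh i).le ⟨v, hv, rfl⟩
  inv_mem' := by
    intro g hg i
    rintro _ ⟨v, hv, rfl⟩
    obtain ⟨w, hw, rfl⟩ := (map_coe_le hF hg i).ge hv
    have : dev g⁻¹ ((g : M →ₗ[k] M) w) = - dev g w := by
      simp only [dev, LinearMap.sub_apply, ← Module.End.mul_apply, ← Units.val_mul, inv_mul_cancel,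
        Units.val_one, Module.End.one_apply, neg_sub, one_mul]
    rw [this]
    exact neg_mem (hg i ⟨w, hw, rfl⟩)

theorem level_bot {F : ℕ → Submodule k M} (hF : IsFlag F) {n : ℕ} (hn : F n = ⊥) : level F hF n = ⊥ := by
  rw [eq_bot_iff]
  intro g hg
  rw [Subgroup.mem_bot]
  refine Units.ext (LinearMap.ext fun v => ?_)
  have h := hg 0 ⟨v, hF.top ▸ Submodule.mem_top, rfl⟩
  rw [zero_add, hn, Submodule.mem_bot] at h
  rw [coe_apply, h, zero_add, Units.val_one, Module.End.one_apply]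

open scoped commutatorElement

theorem commutator_level {F : ℕ → Submodule k M} (hF : IsFlag F) {a b : ℕ} {g h : GLM}
    (hg : g ∈ level F hF a) (hh : h ∈ level F hF b) : ⁅g, h⁆ ∈ level F hF (a + b) := by
  intro i
  rintro _ ⟨v, hv, rfl⟩
  have e : ∀ u, dev ⁅g, h⁆ ((h : M →ₗ[k] M) ((g : M →ₗ[k] M) u)) = dev g (dev h u) - dev h (dev g u) := by
    intro u
    have : (⁅g, h⁆ : GLM) * (h * g) = g * h := by simp [commutatorElement_def, mul_assoc]
    have h1 := congrArg (fun x : GLM => (x : M →ₗ[k] M) u) this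
    simp only [Units.val_mul, Module.End.mul_apply] at h1
    simp only [dev, LinearMap.sub_apply, Module.End.one_apply, h1, map_sub]
    abel
  obtain ⟨w, hw, rfl⟩ := (map_coe_le hF hh i).ge hv
  obtain ⟨u, hu, rfl⟩ := (map_coe_le hF hg i).ge hw
  rw [e]
  refine sub_mem ?_ ?_
  · have := hg (i + b) ⟨_, hh i ⟨u, hu, rfl⟩, rfl⟩
    rwa [show i + b + a = i + (a + b) by omega] at this
  · have := hh (i + a) ⟨_, hg i ⟨u, hu, rfl⟩, rfl⟩
    rwa [show i + a + b = i + (a + b) by omega] at this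

/-- A set acting unipotently. -/
def Nil (Y : Set GLM) : Prop :=
  ∃ (F : ℕ → Submodule k M) (hF : IsFlag F), Y ⊆ (level F hF 1 : Set GLM)

/-- The series obtained from `S` by iterated application of `Y`. -/
def fl (Y : Set GLM) (S : Submodule k M) : ℕ → Submodule k M
  | 0 => S
  | m + 1 => ⨆ y ∈ Y, (fl Y S m).map (dev y)

theorem fl_le (Y : Set GLM) (S T : Submodule k M) : ∀ m,
    (∀ l : List GLM, (∀ g ∈ l, g ∈ Y) → l.length = m → S.map (l.map dev).prod ≤ T) → fl Y S m ≤ T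
  | 0, h => by simpa [fl, Submodule.map_id, Module.End.one_eq_id] using h [] (by simp) rfl
  | m + 1, h => by
    rw [fl]
    refine iSup₂_le fun y hy => Submodule.map_le_iff_le_comap.mpr (fl_le Y S _ m fun l hl hlen => ?_)
    rw [← Submodule.map_le_iff_le_comap, ← Submodule.map_comp]
    simpa [Module.End.mul_eq_comp] using
      h (y :: l) (by simpa using And.intro hy hl) (by simp [hlen])

theorem fl_mono_left (Y : Set GLM) {S T : Submodule k M} (h : S ≤ T) : ∀ m, fl Y S m ≤ fl Y T m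
  | 0 => h
  | m + 1 => iSup₂_mono fun _ _ => Submodule.map_mono (fl_mono_left Y h m)

theorem fl_add (Y : Set GLM) (S : Submodule k M) (a : ℕ) : ∀ b, fl Y S (a + b) = fl Y (fl Y S a) b
  | 0 => rfl
  | b + 1 => by
    show (⨆ y ∈ Y, (fl Y S (a + b)).map (dev y)) = _
    rw [fl_add Y S a b]
    rfl

theorem fl_flag {Y : Set GLM} (h : ∃ n, fl Y (⊤ : Submodule k M) n = ⊥) : IsFlag (fl Y ⊤) := by
  refine ⟨antitone_nat_of_succ_le fun m => ?_, rfl, h⟩
  rw [Nat.add_comm m 1, fl_add]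
  exact fl_mono_left Y le_top m

theorem nil_of_fl {Y : Set GLM} (h : ∃ n, fl Y (⊤ : Submodule k M) n = ⊥) : Nil Y :=
  ⟨_, fl_flag h, fun y hy i => le_iSup₂_of_le (f := fun y (_ : y ∈ Y) => (fl Y ⊤ i).map (dev y)) y hy le_rfl⟩

theorem nil_iff {Y : Set GLM} : Nil Y ↔
    ∃ n, ∀ l : List GLM, (∀ g ∈ l, g ∈ Y) → l.length = n → (l.map dev).prod = 0 := by
  constructor
  · rintro ⟨F, hF, hY⟩
    obtain ⟨n, hn⟩ := hF.bot
    have key : ∀ (l : List GLM), (∀ g ∈ l, g ∈ Y) → ∀ i, (F i).map (l.map dev).prod ≤ F (i + l.length) := by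
      intro l
      induction l with
      | nil => intro _ i; simp [Module.End.one_eq_id]
      | cons y l ih =>
        intro hl i
        rw [List.map_cons, List.prod_cons, Module.End.mul_eq_comp, Submodule.map_comp]
        refine (Submodule.map_mono (ih (fun g hg => hl g (List.mem_cons_of_mem _ hg)) i)).trans ?_
        exact (hY (hl y (by simp)) _).trans (le_of_eq (by rw [List.length_cons, add_assoc]))
    refine ⟨n, fun l hl hlen => LinearMap.ext fun v => ?_⟩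
    have := key l hl 0 ⟨v, hF.top ▸ Submodule.mem_top, rfl⟩
    rw [zero_add, hlen, hn, Submodule.mem_bot] at this
    simpa using this
  · rintro ⟨n, hn⟩
    exact nil_of_fl ⟨n, le_bot_iff.mp (fl_le Y ⊤ ⊥ n fun l hl hlen => by simp [hn l hl hlen])⟩

theorem nil_iff_isUnipotentOn {H : Subgroup GLM} : Nil (H : Set GLM) ↔ IsUnipotentOn H := by
  rw [nil_iff]
  refine exists_congr fun n => forall_congr' fun l => ?_
  have h1 : List.flatMap (fun a : GLM => [(a : M →ₗ[k] M)]) l = l.map fun a : GLM => (a : M →ₗ[k] M) := by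
    induction l <;> simp [*]
  simp only [List.pure_def, List.bind_eq_flatMap, h1, List.map_map, SetLike.mem_coe]
  rfl

theorem fl_stable {D : Set GLM} {g : GLM} (hg : ∀ d ∈ D, g * d * g⁻¹ ∈ D) : ∀ q,
    ∀ v ∈ fl D (⊤ : Submodule k M) q, (g : M →ₗ[k] M) v ∈ fl D (⊤ : Submodule k M) q
  | 0 => fun _ _ => Submodule.mem_top
  | q + 1 => by
    suffices h : fl D (⊤ : Submodule k M) (q + 1) ≤ (fl D ⊤ (q + 1)).comap (g : M →ₗ[k] M) from fun v hv => h hv
    refine iSup₂_le fun d hd => ?_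
    rintro _ ⟨v, hv, rfl⟩
    have e : (g : M →ₗ[k] M) (dev d v) = dev (g * d * g⁻¹) ((g : M →ₗ[k] M) v) := by
      simp only [dev, LinearMap.sub_apply, Module.End.one_apply, map_sub]
      simp only [Units.val_mul, Module.End.mul_apply, mul_assoc]
      rw [← Module.End.mul_apply (↑g⁻¹ : M →ₗ[k] M) (↑g) v, ← Units.val_mul g⁻¹, inv_mul_cancel,
        Units.val_one, Module.End.one_apply]
    rw [Submodule.mem_comap]
    rw [e]
    exact le_iSup₂_of_le (f := fun y (_ : y ∈ D) => (fl D ⊤ q).map (dev y)) (g * d * g⁻¹) (hg d hd) le_rfl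
      ⟨_, fl_stable hg q v hv, rfl⟩

/-- If `Z` normalises `D` and both act unipotently, so does their union. -/
theorem nil_union {D Z : Set GLM} (hD : Nil D) (hZ : Nil Z) (hn : ∀ z ∈ Z, ∀ d ∈ D, z * d * z⁻¹ ∈ D) :
    Nil (D ∪ Z) := by
  obtain ⟨n, hn0⟩ := nil_iff.mp hD
  obtain ⟨m, hm⟩ := nil_iff.mp hZ
  set F := fl D (⊤ : Submodule k M)
  have hbot : F n = ⊥ := le_bot_iff.mp (fl_le D ⊤ ⊥ n fun l hl hlen => by simp [hn0 l hl hlen])
  have hF : IsFlag F := fl_flag ⟨n, hbot⟩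
  have hd : ∀ q, ∀ d ∈ D, (F q).map (dev d) ≤ F (q + 1) := fun q d hd =>
    le_iSup₂_of_le (f := fun y (_ : y ∈ D) => (F q).map (dev y)) d hd le_rfl
  have hz : ∀ q, ∀ z ∈ Z, (F q).map (dev z) ≤ F q := by
    rintro q z hz _ ⟨v, hv, rfl⟩
    exact sub_mem (fl_stable (hn z hz) q v hv) hv
  have hstep : ∀ q, fl (D ∪ Z) (F q) m ≤ F (q + 1) := by
    refine fun q => fl_le _ _ _ m fun l hl hlen => ?_
    by_cases hall : ∀ g ∈ l, g ∈ Z
    · simp [hm l hall hlen]
    clear hlen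
    have hkeep : ∀ (l : List GLM), (∀ g ∈ l, g ∈ D ∪ Z) → ∀ q, (F q).map (l.map dev).prod ≤ F q := by
      intro l
      induction l with
      | nil => intro _ q; simp [Module.End.one_eq_id]
      | cons y l ih =>
        intro hl q
        rw [List.map_cons, List.prod_cons, Module.End.mul_eq_comp, Submodule.map_comp]
        refine (Submodule.map_mono (ih (fun g hg => hl g (List.mem_cons_of_mem _ hg)) q)).trans ?_
        rcases hl y (by simp) with h | h
        · exact (hd q y h).trans (hF.anti (Nat.le_succ q))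
        · exact hz q y h
    induction l with
    | nil => exact absurd (by simp) hall
    | cons y l ih =>
      have hl' : ∀ g ∈ l, g ∈ D ∪ Z := fun g hg => hl g (List.mem_cons_of_mem _ hg)
      rw [List.map_cons, List.prod_cons, Module.End.mul_eq_comp, Submodule.map_comp]
      rcases hl y (by simp) with h | h
      · exact (Submodule.map_mono (hkeep l hl' q)).trans (hd q y h)
      · refine (Submodule.map_mono (ih hl' fun hl2 => hall ?_)).trans (hz (q + 1) y h)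
        simpa using And.intro h hl2
  have hall : ∀ q, fl (D ∪ Z) (⊤ : Submodule k M) (q * m) ≤ F q := by
    intro q
    induction q with
    | zero => exact le_top.trans (le_of_eq hF.top.symm)
    | succ q ih =>
      rw [Nat.add_mul, one_mul, fl_add]
      exact (fl_mono_left _ ih m).trans (hstep q)
  exact nil_of_fl ⟨n * m, le_bot_iff.mp (hbot ▸ hall n)⟩

theorem nil_of_span {Y Z : Set GLM} (hY : Nil Y)
    (hZ : ∀ z ∈ Z, dev z ∈ Submodule.span k (dev '' Y)) : Nil Z := by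
  obtain ⟨F, hF, hYF⟩ := hY
  refine ⟨F, hF, fun z hz i => ?_⟩
  rintro _ ⟨v, hv, rfl⟩
  have : Submodule.span k (dev '' Y) ≤ (F (i + 1)).comap (LinearMap.applyₗ v) := by
    rw [Submodule.span_le]
    rintro _ ⟨y, hy, rfl⟩
    exact hYF hy i ⟨v, hv, rfl⟩
  exact this (hZ z hz)

theorem nil_mono {Y Z : Set GLM} (hY : Nil Y) (h : Z ⊆ Y) : Nil Z :=
  let ⟨F, hF, hYF⟩ := hY
  ⟨F, hF, h.trans hYF⟩

/-- A maximal subset of `X` acting unipotently. -/
def IsMax (X Δ : Set GLM) : Prop := Maximal (fun Y => Y ⊆ X ∧ Nil Y) Δ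

theorem exists_isMax {X Y : Set GLM} (hY : Nil Y) (hYX : Y ⊆ X) : ∃ Δ, IsMax X Δ ∧ Y ⊆ Δ := by
  let μ : Set GLM → ℕ := fun Z => Module.finrank k (Submodule.span k (dev '' Z))
  have hb : BddAbove (μ '' {Z | Y ⊆ Z ∧ Z ⊆ X ∧ Nil Z}) :=
    ⟨Module.finrank k (M →ₗ[k] M), by rintro _ ⟨Z, -, rfl⟩; exact Submodule.finrank_le _⟩
  have hne : (μ '' {Z | Y ⊆ Z ∧ Z ⊆ X ∧ Nil Z}).Nonempty := ⟨_, Y, ⟨le_rfl, hYX, hY⟩, rfl⟩
  obtain ⟨Z, ⟨hYZ, hZX, hZ⟩, hμ⟩ := Nat.sSup_mem hne hb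
  refine ⟨{x | x ∈ X ∧ dev x ∈ Submodule.span k (dev '' Z)},
    ⟨⟨fun x hx => hx.1, nil_of_span hZ fun x hx => hx.2⟩, fun T hT hle x hx => ⟨hT.1 hx, ?_⟩⟩,
    fun y hy => ⟨hYX hy, Submodule.subset_span ⟨y, hYZ hy, rfl⟩⟩⟩
  have hZT : Z ⊆ T := fun z hz => hle ⟨hZX hz, Submodule.subset_span ⟨z, hz, rfl⟩⟩
  have h1 : μ T ≤ μ Z := hμ ▸ le_csSup hb ⟨T, ⟨hYZ.trans hZT, hT⟩, rfl⟩
  rw [Submodule.eq_of_le_of_finrank_le (Submodule.span_mono (Set.image_mono hZT)) h1]
  exact Submodule.subset_span ⟨x, hx, rfl⟩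

theorem IsMax.eq_inter {X Δ : Set GLM} (h : IsMax X Δ) :
    ∃ (F : ℕ → Submodule k M) (hF : IsFlag F), Δ = X ∩ (level F hF 1 : Set GLM) := by
  obtain ⟨⟨hX, F, hF, hΔ⟩, hmax⟩ := h
  exact ⟨F, hF, Set.Subset.antisymm (Set.subset_inter hX hΔ)
    (hmax ⟨Set.inter_subset_left, F, hF, Set.inter_subset_right⟩ (Set.subset_inter hX hΔ))⟩

theorem exists_normalizing {X Δ D : Set GLM} (hΔ : IsMax X Δ) (hDΔ : D ⊆ Δ) (hne : ¬ Δ ⊆ D)
    (hsat : ∀ x ∈ Δ, x ∈ Subgroup.closure D → x ∈ D) (hinv : ∀ x ∈ X, ∀ y ∈ X, x * y * x⁻¹ ∈ X) :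
    ∃ y ∈ Δ, y ∉ D ∧ ∀ d ∈ D, y * d * y⁻¹ ∈ D := by
  obtain ⟨F, hF, hΔF⟩ := hΔ.eq_inter
  set K := Subgroup.closure D
  have hKU : K ≤ level F hF 1 := (Subgroup.closure_le _).mpr fun d hd => (hΔF ▸ hDΔ hd).2
  classical
  have hex : ∃ j, ∀ x ∈ Δ, x ∈ K ⊔ level F hF (j + 1) → x ∈ D := by
    obtain ⟨n, hn⟩ := hF.bot
    refine ⟨n, fun x hx hxK => hsat x hx ?_⟩
    rwa [level_bot hF (le_bot_iff.mp (hn ▸ hF.anti (Nat.le_succ n))), sup_bot_eq] at hxK
  cases hj : Nat.find hex with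
  | zero =>
    refine absurd (fun x hx => ?_) hne
    exact Nat.find_spec hex x hx (hj ▸ Subgroup.mem_sup_right (hΔF ▸ hx).2)
  | succ j =>
    have hmin := Nat.find_min hex (show j < Nat.find hex by omega)
    push Not at hmin
    obtain ⟨y, hyΔ, hyK, hyD⟩ := hmin
    refine ⟨y, hyΔ, hyD, fun d hd => ?_⟩
    have hspec := Nat.find_spec hex
    rw [hj] at hspec
    have hy' := hΔF ▸ hyΔ
    have hd' := hΔF ▸ hDΔ hd
    refine hspec _ ?_ ?_
    · rw [hΔF]
      exact ⟨hinv y hy'.1 d hd'.1, mul_mem (mul_mem hy'.2 hd'.2) (inv_mem hy'.2)⟩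
    · set H := K ⊔ level F hF (j + 1 + 1)
      have conjH : ∀ g ∈ level F hF 1, (∀ a ∈ K, g * a * g⁻¹ ∈ H) → ∀ a ∈ H, g * a * g⁻¹ ∈ H := by
        intro g hg hK a ha
        refine (sup_le hK (fun u hu => ?_) : H ≤ H.comap (MulAut.conj g).toMonoidHom) ha
        have h := commutator_level hF hg hu
        have h' : (⁅g, u⁆ : GLM) ∈ level F hF (j + 1 + 1) := fun i => (h i).trans (hF.anti (by omega))
        show g * u * g⁻¹ ∈ H
        exact Subgroup.mem_sup_right (by simpa [commutatorElement_def] using mul_mem h' hu)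
      have hnorm : K ⊔ level F hF (j + 1) ≤ Subgroup.normalizer (H : Set GLM) := by
        refine sup_le ?_ ?_ <;> rw [Subgroup.le_normalizer_iff] <;> intro g hg
        · exact conjH g (hKU hg) fun a ha =>
            Subgroup.mem_sup_left (mul_mem (mul_mem hg ha) (inv_mem hg))
        · refine conjH g (fun i => (hg i).trans (hF.anti (by omega))) fun a ha => ?_
          have h := commutator_level hF hg (hKU ha)
          have : (⁅g, a⁆ : GLM) * a ∈ H := mul_mem (Subgroup.mem_sup_right h) (Subgroup.mem_sup_left ha)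
          simpa [commutatorElement_def] using this
      exact (Subgroup.mem_normalizer_iff.mp (hnorm hyK) d).mp (Subgroup.mem_sup_left (Subgroup.subset_closure hd))

theorem isMax_unique {X : Set GLM} (hinv : ∀ x ∈ X, ∀ y ∈ X, x * y * x⁻¹ ∈ X)
    (hpair : ∀ x ∈ X, ∀ y ∈ X, Nil ({x, y} : Set GLM)) {Δ₁ Δ₂ : Set GLM}
    (h₁ : IsMax X Δ₁) (h₂ : IsMax X Δ₂) : Δ₁ = Δ₂ := by
  by_contra hne
  let μ : Set GLM → ℕ := fun Z => Module.finrank k (Submodule.span k (dev '' Z))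
  let P : Set ℕ := {r | ∃ A B, IsMax X A ∧ IsMax X B ∧ A ≠ B ∧ μ (A ∩ B) = r}
  have hb : BddAbove P := ⟨Module.finrank k (M →ₗ[k] M), by
    rintro _ ⟨A, B, -, -, -, rfl⟩; exact Submodule.finrank_le _⟩
  obtain ⟨A, B, hA, hB, hAB, hμ⟩ := Nat.sSup_mem (s := P) ⟨_, Δ₁, Δ₂, h₁, h₂, hne, rfl⟩ hb
  set D := A ∩ B
  obtain ⟨FA, hFA, eA⟩ := hA.eq_inter
  obtain ⟨FB, hFB, eB⟩ := hB.eq_inter
  have hsat : ∀ x ∈ X, dev x ∈ Submodule.span k (dev '' D) → x ∈ D := by
    intro x hx hxs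
    have aux : ∀ Δ, IsMax X Δ → D ⊆ Δ → x ∈ Δ := by
      intro Δ hΔ hD
      have hn : Nil (insert x Δ) := nil_of_span hΔ.1.2 (by
        rintro z (rfl | hz)
        · exact Submodule.span_mono (Set.image_mono hD) hxs
        · exact Submodule.subset_span ⟨z, hz, rfl⟩)
      exact hΔ.2 ⟨Set.insert_subset hx hΔ.1.1, hn⟩ (Set.subset_insert _ _) (Set.mem_insert _ _)
    exact ⟨aux A hA Set.inter_subset_left, aux B hB Set.inter_subset_right⟩
  have hcl : ∀ x ∈ X, x ∈ Subgroup.closure D → x ∈ D := by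
    intro x hx hxc
    refine ⟨eA ▸ ⟨hx, ?_⟩, eB ▸ ⟨hx, ?_⟩⟩
    · exact (Subgroup.closure_le _).mpr (fun d hd => (eA ▸ hd.1).2) hxc
    · exact (Subgroup.closure_le _).mpr (fun d hd => (eB ▸ hd.2).2) hxc
  have hAD : ¬ A ⊆ D := fun h => hAB (Set.Subset.antisymm (fun x hx => (h hx).2)
    (hA.2 hB.1 fun x hx => (h hx).2))
  have hBD : ¬ B ⊆ D := fun h => hAB (Set.Subset.antisymm
    (hB.2 hA.1 fun x hx => (h hx).1) fun x hx => (h hx).1)
  obtain ⟨a, haA, haD, han⟩ := exists_normalizing hA Set.inter_subset_left hAD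
    (fun x hx => hcl x (hA.1.1 hx)) hinv
  obtain ⟨b, hbB, hbD, hbn⟩ := exists_normalizing hB Set.inter_subset_right hBD
    (fun x hx => hcl x (hB.1.1 hx)) hinv
  obtain ⟨C, hC, hCs⟩ := exists_isMax
    (nil_union (nil_mono hA.1.2 Set.inter_subset_left) (hpair a (hA.1.1 haA) b (hB.1.1 hbB))
      (by rintro z (rfl | rfl) <;> assumption))
    (Set.union_subset (fun x hx => hA.1.1 hx.1)
      (Set.insert_subset (hA.1.1 haA) (Set.singleton_subset_iff.mpr (hB.1.1 hbB))))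
  have hlt : ∀ E : Set GLM, E ⊆ X → D ⊆ E → ∀ z ∈ E, z ∉ D → sSup P < μ E := by
    intro E hEX hDE z hz hzD
    rw [← hμ]
    refine lt_of_le_of_ne (Submodule.finrank_mono (Submodule.span_mono (Set.image_mono hDE))) fun he => hzD ?_
    refine hsat z (hEX hz) ?_
    rw [Submodule.eq_of_le_of_finrank_eq (Submodule.span_mono (Set.image_mono hDE)) he]
    exact Submodule.subset_span ⟨z, hz, rfl⟩
  have haC : a ∈ C := hCs (Or.inr (Or.inl rfl))
  have hbC : b ∈ C := hCs (Or.inr (Or.inr rfl))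
  by_cases hCA : C = A
  · have hbA : b ∈ A := hCA ▸ hbC
    exact hbD ⟨hbA, hbB⟩
  · have h1 : μ (A ∩ C) ≤ sSup P := le_csSup hb ⟨A, C, hA, hC, Ne.symm hCA, rfl⟩
    have h2 := hlt (A ∩ C) (fun x hx => hA.1.1 hx.1) (fun x hx => ⟨hx.1, hCs (Or.inl hx)⟩) a ⟨haA, haC⟩ haD
    omega


/-- Let M be a finite-dimensional vector space over a field k, G ≤ GL(M), and 𝒲 a set of subgroups of G, invariant under conjugation by G, such that any two members of 𝒲 generate a subgroup acting unipotently on M (for some n all products of n endomorphisms g − 1 from it vanish). Then the subgroup generated by all members of 𝒲 acts unipotently on M and is normal in G. -/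
theorem result {k : Type*} [Field k] {M : Type*} [AddCommGroup M] [Module k M] [FiniteDimensional k M]
    {G : Subgroup (LinearMap.GeneralLinearGroup k M)} {W : Set (Subgroup (LinearMap.GeneralLinearGroup k M))} (hWG : ∀ A ∈ W, A ≤ G)
    (hWW : ∀ A ∈ W, ∀ B ∈ W, Cfsg.IsUnipotentOn (A ⊔ B)) (hWconj : ∀ A ∈ W, ∀ g ∈ G, Cfsg.conjBy A g ∈ W) :
    Cfsg.IsUnipotentOn (⨆ A ∈ W, A) ∧ ∀ g ∈ G, Cfsg.conjBy (⨆ A ∈ W, A) g = ⨆ A ∈ W, A := by
  set X : Set (LinearMap.GeneralLinearGroup k M) := ⋃ A ∈ W, (A : Set (LinearMap.GeneralLinearGroup k M))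
  have hX : ∀ x, x ∈ X ↔ ∃ A ∈ W, x ∈ A := by simp [X]
  have hinv : ∀ x ∈ X, ∀ y ∈ X, x * y * x⁻¹ ∈ X := by
    intro x hx y hy
    obtain ⟨A, hA, hxA⟩ := (hX x).mp hx
    obtain ⟨B, hB, hyB⟩ := (hX y).mp hy
    exact (hX _).mpr ⟨_, hWconj B hB x (hWG A hA hxA), y, hyB, rfl⟩
  have hpair : ∀ x ∈ X, ∀ y ∈ X, Nil ({x, y} : Set (LinearMap.GeneralLinearGroup k M)) := by
    intro x hx y hy
    obtain ⟨A, hA, hxA⟩ := (hX x).mp hx
    obtain ⟨B, hB, hyB⟩ := (hX y).mp hy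
    exact nil_mono (nil_iff_isUnipotentOn.mpr (hWW A hA B hB))
      (Set.insert_subset (Subgroup.mem_sup_left hxA) (Set.singleton_subset_iff.mpr (Subgroup.mem_sup_right hyB)))
  obtain ⟨Δ, hΔ, -⟩ := exists_isMax (X := X) (Y := ∅) (nil_iff.mpr ⟨1, fun l hl hlen => by
    match l, hlen with
    | [g], _ => exact absurd (hl g (by simp)) (by simp)⟩) (Set.empty_subset _)
  have hall : X ⊆ Δ := by
    intro x hx
    obtain ⟨Δ', hΔ', hxΔ'⟩ := exists_isMax (X := X) (nil_mono (hpair x hx x hx) (by simp : ({x} : Set _) ⊆ _))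
      (Set.singleton_subset_iff.mpr hx)
    exact isMax_unique hinv hpair hΔ' hΔ ▸ hxΔ' rfl
  obtain ⟨F, hF, hΔF⟩ := hΔ.1.2
  refine ⟨?_, fun g hg => ?_⟩
  · have hle : (⨆ A ∈ W, A) ≤ level F hF 1 :=
      iSup₂_le fun A hA x hx => hΔF (hall ((hX x).mpr ⟨A, hA, hx⟩))
    exact nil_iff_isUnipotentOn.mp ⟨F, hF, hle⟩
  · apply le_antisymm
    · simp only [Cfsg.conjBy, Subgroup.map_iSup]
      exact iSup₂_le fun A hA => le_iSup₂_of_le _ (hWconj A hA g hg) le_rfl
    · refine iSup₂_le fun A hA => ?_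
      simp only [Cfsg.conjBy, Subgroup.map_iSup]
      refine le_iSup₂_of_le _ (hWconj A hA g⁻¹ (inv_mem hg)) (le_of_eq ?_)
      rw [Cfsg.conjBy, Subgroup.map_map]
      conv_lhs => rw [← Subgroup.map_id A]
      congr 1
      ext x
      simp [mul_assoc]

end Cfsg.Agent.S5061
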