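import Cfsg.Statements.S5032
import Cfsg.Agent.Lib.RankOne.Connected

set_option autoImplicit false
open Cfsg

namespace Cfsg.Agent.S5032

/-- Let S be a set of abstract root subgroups of G with more than one member. Then the graph of rank one pairs on S is connected if and only if S is a single conjugacy class of G and some member of S has a rank one partner in S. -/
theorem result {G : Type*} [Group G] {S : Set (Subgroup G)} (hS : Cfsg.IsRootSubgroupSet S) (h2 : ∃ A ∈ S, ∃ B ∈ S, A ≠ B) :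
    Cfsg.IsConnectedFamily (Cfsg.FAdj S) S ↔
      (Cfsg.IsConjClassOfSubgroups S ∧ ∃ A ∈ S, ¬ Cfsg.IsIsolatedIn (Cfsg.FAdj S) S A) := by
  constructor
  · intro hconn
    obtain ⟨A, hA, B, hB, hne⟩ := h2
    refine ⟨⟨⟨A, hA⟩, fun P hP Q hQ => ?_⟩, ?_⟩
    · suffices ∀ R, Relation.ReflTransGen (Cfsg.FAdj S) P R → ∃ g : G, R = Cfsg.conjBy P g from
        this Q (hconn P hP Q hQ)
      intro R hR
      induction hR with
      | refl => exact ⟨1, (Agent.RankOne.conjBy_one P).symm⟩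
      | tail _ e ih =>
        obtain ⟨g, rfl⟩ := ih
        obtain ⟨x, -, hx⟩ := Agent.RankOne.exists_conjBy_swap e.2.2
        exact ⟨x * g, by rw [← hx, Agent.RankOne.conjBy_conjBy]⟩
    · rcases Relation.ReflTransGen.cases_head (hconn A hA B hB) with e | ⟨D, hD, -⟩
      · exact absurd e hne
      · exact ⟨A, hA, fun hiso => (hiso.2 D).1 hD⟩
  · rintro ⟨hcl, A₀, hA₀, hiso⟩
    obtain ⟨D₀, hD₀, h₀⟩ := Agent.RankOne.exists_partner hS hA₀ hiso
    have hall : ∀ A ∈ S, ∃ D ∈ S, Cfsg.IsRankOnePair A D := by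
      intro A hA
      obtain ⟨g, rfl⟩ := hcl.2 A₀ hA₀ A hA
      exact ⟨_, hS.conj_mem D₀ hD₀ g, Agent.RankOne.isRankOnePair_conjBy h₀ g⟩
    intro P hP Q hQ
    obtain ⟨g, rfl⟩ := hcl.2 P hP Q hQ
    exact Agent.RankOne.fReach_conj hS hall g P hP

end Cfsg.Agent.S5032
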