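import Cfsg.Statements.S5036
import Cfsg.Agent.Lib.RankOne.Lines

set_option autoImplicit false
open Cfsg
open scoped commutatorElement

namespace Cfsg.Agent.S5036

open Cfsg.Agent.RankOne in
/-- `B` and `D` form a rank one pair. -/
theorem rankOne {G : Type*} [Group G] {S : Set (Subgroup G)} (hS : Cfsg.IsRootSubgroupSet S)
    {A B D : Subgroup G} (hB : B ∈ S) (hD : D ∈ S) (h1 : Cfsg.RootCommutatorCase S A B)
    (h2 : Cfsg.RootCommutatorCase S D ⁅A, B⁆) (hDC : ⁅D, ⁅A, B⁆⁆ = A) (hA : A ∈ S) :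
    Cfsg.IsRankOnePair B D := by
  have hdA : ∀ d ∈ D, ∀ x ∈ A, Commute d x := fun d hd x hx =>
    (central_of_case h2 (by rwa [hDC]) (Subgroup.mem_sup_left hd)).symm
  rcases hS.pair B hB D hD with h | h | h
  · exfalso
    apply hS.ne_bot A hA
    have hbot : ⁅⁅A, B⁆, D⁆ = ⊥ := by
      refine Subgroup.commutator_commutator_eq_bot_of_rotate ?_ ?_
      · rw [h, Subgroup.commutator_bot_left]
      · rw [commutator_eq_bot_of fun d hd x hx => (hdA d hd x hx).eq, Subgroup.commutator_bot_left]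
    rw [← hDC, Subgroup.commutator_comm, hbot]
  · exact h
  · exfalso
    obtain ⟨b, hb, hb1⟩ := member_exists_ne_one hS hB
    obtain ⟨d, hd, hd1⟩ := member_exists_ne_one hS hD
    obtain ⟨u₀, hu₀, hu₁⟩ := member_exists_ne_one hS hA
    refine case_not_commute_left hS (case_symm h1) hb hb1 fun u hu => ?_
    -- write `u` as a threefold commutator
    obtain ⟨y, hy, hyu⟩ := exists_commutator_eq h2 hd hd1 (c := u) (by rwa [hDC])
    obtain ⟨x, hx, hxy⟩ := exists_commutator_eq (case_symm h1) hb hb1 (c := y)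
      (by rwa [Subgroup.commutator_comm])
    obtain ⟨c, hc, hcx⟩ := exists_commutator_eq h2 hd hd1 (c := x) (by rwa [hDC])
    set v := b * u * b⁻¹ * u⁻¹ with hv_def
    have hvC : v ∈ ⁅A, B⁆ := by
      rw [Subgroup.commutator_comm]; exact Subgroup.commutator_mem_commutator hb hu
    set z := b * d * b⁻¹ * d⁻¹ with hz_def
    have hz : z ∈ ⁅B, D⁆ := Subgroup.commutator_mem_commutator hb hd
    have hbC : ∀ w ∈ ⁅A, B⁆, Commute b w := fun w hw =>
      (central_of_case h1 hw (Subgroup.mem_sup_right hb)).symm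
    have hzc : z * c * z⁻¹ = v * u * y * c := by
      have e1 : d⁻¹ * c * d = x⁻¹ * c := by
        have hxc : x⁻¹ * c = d⁻¹ * (x⁻¹ * (d * c * d⁻¹ * c⁻¹) * c) * d := by
          calc x⁻¹ * c = d⁻¹ * (d * x⁻¹) * c := by group
            _ = d⁻¹ * (x⁻¹ * d) * c := by rw [(hdA d hd x hx).inv_right.eq]
            _ = _ := by group
        rw [hxc, hcx]; group
      have e2 : b⁻¹ * x⁻¹ * b = x⁻¹ * y := by
        rw [← hxy]
        calc b⁻¹ * x⁻¹ * b = x⁻¹ * (x * b⁻¹ * x⁻¹ * b) := by group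
          _ = x⁻¹ * (b * (x * b⁻¹ * x⁻¹ * b) * b⁻¹) := by
              have hm : x * b⁻¹ * x⁻¹ * b ∈ ⁅A, B⁆ := by
                have := Subgroup.commutator_mem_commutator hx (B.inv_mem hb)
                rwa [commutatorElement_def, inv_inv] at this
              rw [(hbC _ hm).eq]; group
          _ = _ := by group
      have e3 : d * c * d⁻¹ = x * c := by rw [← hcx]; group
      have e4 : d * y * d⁻¹ = u * y := by rw [← hyu]; group
      have e5 : d * x⁻¹ * d⁻¹ = x⁻¹ := by rw [(hdA d hd x hx).inv_right.eq]; group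
      calc z * c * z⁻¹ = b * (d * (b⁻¹ * (d⁻¹ * c * d) * b) * d⁻¹) * b⁻¹ := by
            simp only [hz_def]; group
        _ = b * (d * (x⁻¹ * y * c) * d⁻¹) * b⁻¹ := by
            rw [e1, show b⁻¹ * (x⁻¹ * c) * b = (b⁻¹ * x⁻¹ * b) * (b⁻¹ * c * b) by group, e2,
              show b⁻¹ * c * b = c by rw [mul_assoc, ← (hbC c hc).eq, inv_mul_cancel_left]]
        _ = b * ((d * x⁻¹ * d⁻¹) * (d * y * d⁻¹) * (d * c * d⁻¹)) * b⁻¹ := by group
        _ = b * (x⁻¹ * u * (y * x) * c) * b⁻¹ := by rw [e5, e4, e3]; group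
        _ = b * (x⁻¹ * (u * x) * y * c) * b⁻¹ := by
            rw [(central_of_case h1 hy (Subgroup.mem_sup_left hx)).eq]; group
        _ = b * (u * (y * c)) * b⁻¹ := by rw [(member_comm hS hA hu hx).eq]; group
        _ = (v * u) * (b * (y * c) * b⁻¹) := by simp only [hv_def]; group
        _ = _ := by rw [(hbC (y * c) (mul_mem hy hc)).eq]; group
    have hzb : Commute z b := central_of_case h hz (Subgroup.mem_sup_left hb)
    have hcom : Commute b (z * c * z⁻¹) :=
      (hzb.symm.mul_right (hbC c hc)).mul_right hzb.symm.inv_right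
    rw [hzc, mul_assoc, mul_assoc] at hcom
    have := (((hbC v hvC).inv_right).mul_right hcom).mul_right ((hbC (y * c) (mul_mem hy hc)).inv_right)
    rw [inv_mul_cancel_left, mul_inv_cancel_right] at this
    exact this.eq

/-- Let S be a set of abstract root subgroups of G, A, B ∈ S with C = ⁅A, B⁆ ∈ S, and D ∈ S with ⁅D, C⁆ = A. Put X = ⟨B, D⟩ and N = AC. Then B, D form a rank one pair; the conjugates of A under X are the conjugates of C under X, namely the conjugates of A by elements of B together with C, equally the conjugates of C by elements of D together with A, and they partition N; and the centralizer of N in X is central in X. -/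
theorem result {G : Type*} [Group G] {S : Set (Subgroup G)} (hS : Cfsg.IsRootSubgroupSet S)
    {A B D : Subgroup G} (hA : A ∈ S) (hB : B ∈ S) (hC : ⁅A, B⁆ ∈ S) (hD : D ∈ S) (hDC : ⁅D, ⁅A, B⁆⁆ = A) :
    Cfsg.IsRankOnePair B D ∧
    {E | ∃ x ∈ B ⊔ D, E = Cfsg.conjBy A x} = {E | ∃ x ∈ B ⊔ D, E = Cfsg.conjBy ⁅A, B⁆ x} ∧
    {E | ∃ x ∈ B ⊔ D, E = Cfsg.conjBy A x} = (fun b : G => Cfsg.conjBy A b) '' (B : Set G) ∪ {⁅A, B⁆} ∧
    {E | ∃ x ∈ B ⊔ D, E = Cfsg.conjBy A x} = (fun d : G => Cfsg.conjBy ⁅A, B⁆ d) '' (D : Set G) ∪ {A} ∧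
    Cfsg.IsSubgroupPartition (A ⊔ ⁅A, B⁆) {E | ∃ x ∈ B ⊔ D, E = Cfsg.conjBy A x} ∧
    ∀ x ∈ (B ⊔ D) ⊓ Subgroup.centralizer ((A ⊔ ⁅A, B⁆ : Subgroup G) : Set G), ∀ y ∈ B ⊔ D, x * y = y * x := by
  have h1 := Agent.RankOne.case_of_commutator_mem hS hA hB hC
  have h2 := Agent.RankOne.case_of_commutator_mem hS hD hC (by rwa [hDC])
  have h := rankOne hS hB hD h1 h2 hDC hA
  set C := ⁅A, B⁆ with hC_def
  have hsymm := RankOnePair_symm h
  have hAC : ⁅A, C⁆ = ⊥ := by rw [Subgroup.commutator_comm]; exact Agent.RankOne.central_left h1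
  have hbC : ∀ b ∈ B, ∀ c ∈ C, Commute c b := fun b hb c hc =>
    Agent.RankOne.central_of_case h1 hc (Subgroup.mem_sup_right hb)
  have hdA : ∀ d ∈ D, ∀ a ∈ A, Commute a d := fun d hd a ha =>
    Agent.RankOne.central_of_case h2 (by rwa [hDC]) (Subgroup.mem_sup_left hd)
  have hinj : ∀ a ∈ A, ∀ b ∈ B, b ≠ 1 → a * b = b * a → a = 1 := by
    intro a ha b hb hb1 hab
    by_contra ha1
    exact Agent.RankOne.case_not_commute_left hS h1 ha ha1 fun b' hb' =>
      (Agent.RankOne.mem_centralizer_sup hsymm hb hb1 (fun d hd => (hdA d hd a ha).eq) hab b'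
        (Subgroup.mem_sup_right hb')).symm
  have hinj' : ∀ c ∈ C, ∀ d ∈ D, d ≠ 1 → c * d = d * c → c = 1 := by
    intro c hc d hd hd1 hcd
    by_contra hc1
    exact Agent.RankOne.case_not_commute_left hS (Agent.RankOne.case_symm h2) hc hc1 fun d' hd' =>
      (Agent.RankOne.mem_centralizer_sup h hd hd1 (fun b hb => (hbC b hb c hc).eq) hcd d'
        (Subgroup.mem_sup_right hd')).symm
  obtain ⟨b₀, hb₀, hb₀1⟩ := Agent.RankOne.member_exists_ne_one hS hB
  obtain ⟨d₀, hd₀, hd₀1⟩ := Agent.RankOne.member_exists_ne_one hS hD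
  have hinf : A ⊓ C = ⊥ := by
    rw [Subgroup.eq_bot_iff_forall]
    rintro x ⟨hxA, hxC⟩
    exact hinj x hxA b₀ hb₀ hb₀1 (hbC b₀ hb₀ x hxC).eq
  set W := A ⊔ C with hW
  let cz : Subgroup G → Subgroup G := fun E => W ⊓ Subgroup.centralizer (E : Set G)
  have hczB : cz B = C := by
    refine le_antisymm ?_ (le_inf le_sup_right fun c hc b hb => ((hbC b hb c hc).eq).symm)
    rintro x ⟨hxW, hxc⟩
    obtain ⟨a, ha, c, hc, rfl⟩ := Agent.RankOne.mem_sup_of_commutator_eq_bot hAC hxW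
    have hab : Commute (a * c) b₀ := (hxc b₀ hb₀).symm
    have := hab.mul_left ((hbC b₀ hb₀ c hc).inv_left)
    rw [mul_inv_cancel_right] at this
    rw [hinj a ha b₀ hb₀ hb₀1 this.eq, one_mul]
    exact hc
  have hczD : cz D = A := by
    refine le_antisymm ?_ (le_inf le_sup_left fun a ha d hd => ((hdA d hd a ha).eq).symm)
    rintro x ⟨hxW, hxc⟩
    obtain ⟨a, ha, c, hc, rfl⟩ := Agent.RankOne.mem_sup_of_commutator_eq_bot hAC hxW
    have hab : Commute (a * c) d₀ := (hxc d₀ hd₀).symm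
    have := ((hdA d₀ hd₀ a ha).inv_left).mul_left hab
    rw [inv_mul_cancel_left] at this
    rw [hinj' c hc d₀ hd₀ hd₀1 this.eq, mul_one]
    exact ha
  have hnorm : B ⊔ D ≤ Subgroup.normalizer (W : Set G) := by
    refine sup_le (Agent.RankOne.le_normalizer_of_conjBy_le fun b hb => ?_)
      (Agent.RankOne.le_normalizer_of_conjBy_le fun d hd => ?_)
    · rw [Agent.RankOne.conjBy_sup]
      refine sup_le (Agent.RankOne.conjBy_line_le hS h1 hb) ?_
      rw [Agent.RankOne.conjBy_of_commute fun c hc => (hbC b hb c hc).symm.eq]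
      exact le_sup_right
    · rw [Agent.RankOne.conjBy_sup]
      refine sup_le ?_ ((Agent.RankOne.conjBy_line_le hS (Agent.RankOne.case_symm h2) hd).trans
        (sup_le le_sup_right ?_))
      · rw [Agent.RankOne.conjBy_of_commute fun a ha => (hdA d hd a ha).symm.eq]
        exact le_sup_left
      · rw [Subgroup.commutator_comm, hDC]
        exact le_sup_left
  have hequiv : ∀ x ∈ B ⊔ D, ∀ E : Subgroup G, Cfsg.conjBy (cz E) x = cz (Cfsg.conjBy E x) := by
    intro x hx E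
    simp only [cz]
    rw [Agent.RankOne.conjBy_inf, Agent.RankOne.conjBy_of_mem_normalizer (hnorm hx),
      Agent.RankOne.conjBy_centralizer]
  have hA' : {E | ∃ x ∈ B ⊔ D, E = Cfsg.conjBy A x} =
      cz '' Cfsg.unipotentSubgroups B D := by
    ext E
    constructor
    · rintro ⟨x, hx, rfl⟩
      exact ⟨Cfsg.conjBy D x, Agent.RankOne.conjBy_mem_unipotents
        (Agent.RankOne.right_mem_unipotents h) hx, by rw [← hequiv x hx, hczD]⟩
    · rintro ⟨F, hF, rfl⟩
      rw [Agent.RankOne.unipotents_symm h] at hF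
      obtain ⟨x, hx, rfl⟩ := hF
      rw [sup_comm] at hx
      exact ⟨x, hx, by rw [← hequiv x hx, hczD]⟩
  have hC' : {E | ∃ x ∈ B ⊔ D, E = Cfsg.conjBy C x} = cz '' Cfsg.unipotentSubgroups B D := by
    ext E
    constructor
    · rintro ⟨x, hx, rfl⟩
      exact ⟨Cfsg.conjBy B x, ⟨x, hx, rfl⟩, by rw [← hequiv x hx, hczB]⟩
    · rintro ⟨F, ⟨x, hx, rfl⟩, rfl⟩
      exact ⟨x, hx, by rw [← hequiv x hx, hczB]⟩
  refine ⟨h, hA'.trans hC'.symm, ?_, ?_, ?_, ?_⟩
  · rw [hA']
    ext E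
    constructor
    · rintro ⟨F, hF, rfl⟩
      rcases (Agent.RankOne.mem_unipotents_iff h).1 hF with rfl | ⟨b, hb, rfl⟩
      · exact Or.inr hczB
      · exact Or.inl ⟨b, hb, by rw [← hequiv b (Subgroup.mem_sup_left hb), hczD]⟩
    · rintro (⟨b, hb, rfl⟩ | hE)
      · exact ⟨_, Agent.RankOne.conjBy_mem_unipotents (Agent.RankOne.right_mem_unipotents h)
          (Subgroup.mem_sup_left hb), by rw [← hequiv b (Subgroup.mem_sup_left hb), hczD]⟩
      · exact ⟨B, Agent.RankOne.left_mem_unipotents B D, hczB.trans (Set.mem_singleton_iff.1 hE).symm⟩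
  · rw [hA', Agent.RankOne.unipotents_symm h]
    ext E
    constructor
    · rintro ⟨F, hF, rfl⟩
      rcases (Agent.RankOne.mem_unipotents_iff hsymm).1 hF with rfl | ⟨d, hd, rfl⟩
      · exact Or.inr hczD
      · exact Or.inl ⟨d, hd, by rw [← hequiv d (Subgroup.mem_sup_right hd), hczB]⟩
    · rintro (⟨d, hd, rfl⟩ | hE)
      · exact ⟨_, Agent.RankOne.conjBy_mem_unipotents (Agent.RankOne.right_mem_unipotents hsymm)
          (Subgroup.mem_sup_left hd), by rw [← hequiv d (Subgroup.mem_sup_right hd), hczB]⟩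
      · exact ⟨D, Agent.RankOne.left_mem_unipotents D B, hczD.trans (Set.mem_singleton_iff.1 hE).symm⟩
  · rw [hA']
    refine ⟨?_, fun x hx hx1 => ?_, ?_⟩
    · rintro _ ⟨F, -, rfl⟩
      exact inf_le_left
    · obtain ⟨a, ha, c, hc, rfl⟩ := Agent.RankOne.mem_sup_of_commutator_eq_bot hAC hx
      rcases eq_or_ne a 1 with rfl | ha1
      · exact ⟨C, ⟨B, Agent.RankOne.left_mem_unipotents B D, hczB⟩, by rwa [one_mul]⟩
      · obtain ⟨b, hb, he⟩ := Agent.RankOne.exists_conj_eq_mul hS h1 ha ha1 hc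
        refine ⟨Cfsg.conjBy A b, ⟨_, Agent.RankOne.conjBy_mem_unipotents
          (Agent.RankOne.right_mem_unipotents h) (Subgroup.mem_sup_left hb), ?_⟩,
          he ▸ Agent.RankOne.conj_mem_conjBy b ha⟩
        rw [← hequiv b (Subgroup.mem_sup_left hb), hczD]
    · rintro _ ⟨F, hF, rfl⟩ _ ⟨F', hF', rfl⟩ hne
      have hne' : F ≠ F' := fun e => hne (by rw [e])
      obtain ⟨-, hsup, -⟩ := Agent.RankOne.isRankOnePair_of_mem h hF hF' hne'
      rw [eq_bot_iff]
      rintro x ⟨⟨hxW, hxF⟩, -, hxF'⟩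
      have hxX : x ∈ Subgroup.centralizer ((B ⊔ D : Subgroup G) : Set G) := by
        rw [← hsup, Subgroup.sup_eq_closure, Subgroup.centralizer_closure]
        rintro y (hy | hy)
        · exact hxF y hy
        · exact hxF' y hy
      have hxC : x ∈ cz B := ⟨hxW, fun y hy => hxX y (Subgroup.mem_sup_left hy)⟩
      have hxA : x ∈ cz D := ⟨hxW, fun y hy => hxX y (Subgroup.mem_sup_right hy)⟩
      rw [hczB] at hxC
      rw [hczD] at hxA
      rw [← hinf]
      exact ⟨hxA, hxC⟩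
  · intro x hx y hy
    have hN : B ⊔ D ≤ Subgroup.normalizer
        (((B ⊔ D) ⊓ Subgroup.centralizer (W : Set G) : Subgroup G) : Set G) :=
      Agent.RankOne.le_normalizer_of_conjBy_le fun g hg => by
        rw [Agent.RankOne.conjBy_inf, Agent.RankOne.conjBy_centralizer,
          Agent.RankOne.conjBy_of_mem hg, Agent.RankOne.conjBy_of_mem_normalizer (hnorm hg)]
    rcases Agent.RankOne.sup_eq_or_le_centralizer h inf_le_left hN with htop | hcen
    · exfalso
      obtain ⟨c, hc, hc1⟩ := Agent.RankOne.member_exists_ne_one hS hC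
      have hle : B ⊔ D ≤ Subgroup.centralizer (C : Set G) := by
        rw [← htop]
        exact sup_le (inf_le_right.trans (Subgroup.centralizer_le (SetLike.coe_subset_coe.2 le_sup_right)))
          (fun b hb c hc => ((hbC b hb c hc).eq))
      exact hc1 (hinj' c hc d₀ hd₀ hd₀1 (hle (Subgroup.mem_sup_right hd₀) c hc))
    · exact (hcen hx y hy).symm

end Cfsg.Agent.S5036
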