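import Cfsg.Statements.S5038
import Cfsg.Agent.Lib.RankOne.LineGroup

set_option autoImplicit false
open Cfsg

namespace Cfsg.Agent.S5038

/-- Let S be a set of abstract root subgroups of G in which every member has a rank one partner, A ∈ S and B a line partner of A. Then the subgroup generated by the members of S normalizing AB permutes the members of S inside AB doubly transitively by conjugation. -/
theorem result {G : Type*} [Group G] {S : Set (Subgroup G)} (hS : Cfsg.IsRootSubgroupSet S)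
    (hF : ∀ A ∈ S, ¬ Cfsg.IsIsolatedIn (Cfsg.FAdj S) S A) {A B : Subgroup G} (hA : A ∈ S) (hB : B ∈ Cfsg.linePartners S A) :
    ∀ C₁ ∈ Cfsg.membersIn S (A ⊔ B), ∀ C₂ ∈ Cfsg.membersIn S (A ⊔ B), ∀ D₁ ∈ Cfsg.membersIn S (A ⊔ B),
      ∀ D₂ ∈ Cfsg.membersIn S (A ⊔ B), C₁ ≠ C₂ → D₁ ≠ D₂ →
        ∃ x ∈ ⨆ E ∈ Cfsg.normalizingMembers S (A ⊔ B), E, Cfsg.conjBy C₁ x = D₁ ∧ Cfsg.conjBy C₂ x = D₂ := by
  have hall : ∀ P ∈ S, ∃ D ∈ S, Cfsg.IsRankOnePair P D :=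
    fun P hP => Agent.RankOne.exists_partner hS hP (hF P hP)
  obtain ⟨E, hE, hc, hW⟩ := Agent.RankOne.exists_line_form hS hall hA hB
  obtain ⟨D, hD, h⟩ := hall A hA
  set W := A ⊔ B with hWdef
  set Λ := Cfsg.membersIn S W with hΛ
  obtain ⟨hset, hpart⟩ := Agent.RankOne.line_partition hS h hA hD hE hc
  rw [hW] at hset hpart
  set M := ⨆ E ∈ Cfsg.normalizingMembers S W, E with hM
  have hMn : M ≤ Subgroup.normalizer (W : Set G) := iSup₂_le fun F hF' => hF'.2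
  have hconj : ∀ g : G, Cfsg.conjBy W g = W → ∀ P ∈ Λ, Cfsg.conjBy P g ∈ Λ := fun g hg P hP =>
    ⟨hS.conj_mem P hP.1 g, hg ▸ Agent.RankOne.conjBy_mono hP.2 g⟩
  have hAΛ : A ∈ Λ := ⟨hA, le_sup_left⟩
  have hCΛ : ⁅A, E⁆ ∈ Λ := ⟨hc.1, hW ▸ le_sup_right⟩
  have hEW : ∀ e ∈ E, Cfsg.conjBy W e = W := by
    intro e he
    refine Agent.RankOne.conjBy_of_mem_normalizer
      (Agent.RankOne.le_normalizer_of_conjBy_le (H := E) (fun g hg => ?_) he)
    rw [← hW, Agent.RankOne.conjBy_sup]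
    refine sup_le (Agent.RankOne.conjBy_line_le hS hc hg) ?_
    rw [Agent.RankOne.conjBy_of_commute fun x hx =>
      ((Agent.RankOne.central_of_case hc hx (Subgroup.mem_sup_right hg)).symm).eq]
    exact le_sup_right
  -- any two members of the line generate it
  have hCconj : ∀ e ∈ E, Cfsg.conjBy ⁅A, E⁆ e = ⁅A, E⁆ := fun e he =>
    Agent.RankOne.conjBy_of_commute fun x hx =>
      ((Agent.RankOne.central_of_case hc hx (Subgroup.mem_sup_right he)).symm).eq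
  have hsupA : ∀ P ∈ Λ, P ≠ A → A ⊔ P = W := fun P hP hne =>
    (Agent.RankOne.line_sup_eq hS h hA hD hE hc hP.1 (hW ▸ hP.2) hne).trans hW
  have hpair : ∀ P ∈ Λ, ∀ Q ∈ Λ, P ≠ Q → P ⊔ Q = W := by
    have hrefl : ∀ P ∈ Λ, ∀ e ∈ E, P ≠ Cfsg.conjBy A e → Cfsg.conjBy A e ⊔ P = W := by
      intro P hP e he hne
      have h' := hsupA _ (hconj e⁻¹ (by rw [Agent.RankOne.conjBy_inv_eq_self_iff]; exact hEW e he) P hP)
        (fun e' => hne (by rw [← e', Agent.RankOne.conjBy_conjBy_inv]))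
      have := congrArg (fun X => Cfsg.conjBy X e) h'
      rwa [Agent.RankOne.conjBy_sup, Agent.RankOne.conjBy_conjBy_inv, hEW e he] at this
    intro P hP Q hQ hne
    have hP' : P ∈ (fun b : G => Cfsg.conjBy A b) '' (E : Set G) ∪ {⁅A, E⁆} := hset ▸ hP
    have hQ' : Q ∈ (fun b : G => Cfsg.conjBy A b) '' (E : Set G) ∪ {⁅A, E⁆} := hset ▸ hQ
    rcases hP' with ⟨e, he, rfl⟩ | hP'
    · exact hrefl Q hQ e he hne.symm
    rcases hQ' with ⟨e, he, rfl⟩ | hQ'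
    · rw [sup_comm]; exact hrefl P hP e he hne
    · exact absurd ((Set.mem_singleton_iff.1 hP').trans (Set.mem_singleton_iff.1 hQ').symm) hne
  -- every member is moved to all but one member, fixing that one
  have mover : ∀ X ∈ Λ, ∃ P ∈ Λ, P ≠ X ∧ ∀ Q ∈ Λ, Q ≠ P →
      ∃ e ∈ M, Cfsg.conjBy X e = Q ∧ Cfsg.conjBy P e = P := by
    intro X hX
    obtain ⟨Y, hY, hYX⟩ : ∃ Y ∈ Λ, Y ≠ X := by
      by_cases hXA : X = A
      · exact ⟨⁅A, E⁆, hCΛ, fun e => hS.ne_bot A hA (by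
          have := Agent.RankOne.line_inf hS h hA hD hc
          rwa [e.trans hXA, inf_idem] at this)⟩
      · exact ⟨A, hAΛ, Ne.symm hXA⟩
    have hsupXY := hpair X hX Y hY hYX.symm
    have hline : Y ∈ Cfsg.linePartners S X := by
      refine ⟨⟨hY.1, hYX, Agent.RankOne.commutator_eq_bot_of fun x hx y hy => ?_⟩, by
        rw [hsupXY]; exact hpart⟩
      obtain ⟨a', ha', c', hc', hxe⟩ := Agent.RankOne.mem_sup_of_commutator_eq_bot
        (by rw [Subgroup.commutator_comm]; exact Agent.RankOne.central_left hc) (hW.symm ▸ hX.2 hx)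
      obtain ⟨a'', ha'', c'', hc'', hye⟩ := Agent.RankOne.mem_sup_of_commutator_eq_bot
        (by rw [Subgroup.commutator_comm]; exact Agent.RankOne.central_left hc) (hW.symm ▸ hY.2 hy)
      subst hxe hye
      exact (((Agent.RankOne.member_comm hS hA ha' ha'').mul_right
        (Agent.RankOne.central_of_case hc hc'' (Subgroup.mem_sup_left ha')).symm).mul_left
        ((Agent.RankOne.central_of_case hc hc' (Subgroup.mem_sup_left ha'')).mul_right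
          (Agent.RankOne.member_comm hS hc.1 hc' hc''))).eq
    obtain ⟨F, hF', hcF, hWF⟩ := Agent.RankOne.exists_line_form hS hall hX.1 hline
    rw [hsupXY] at hWF
    obtain ⟨D', hD', h'⟩ := hall X hX.1
    have hfixF : ∀ f ∈ F, Cfsg.conjBy ⁅X, F⁆ f = ⁅X, F⁆ := fun f hf =>
      Agent.RankOne.conjBy_of_commute fun x hx =>
        ((Agent.RankOne.central_of_case hcF hx (Subgroup.mem_sup_right hf)).symm).eq
    have hFn : F ∈ Cfsg.normalizingMembers S W := by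
      refine ⟨hF', Agent.RankOne.le_normalizer_of_conjBy_le fun f hf => ?_⟩
      rw [← hWF, Agent.RankOne.conjBy_sup, hfixF f hf]
      exact sup_le (Agent.RankOne.conjBy_line_le hS hcF hf) le_sup_right
    refine ⟨⁅X, F⁆, ⟨hcF.1, hWF ▸ le_sup_right⟩, fun e => hS.ne_bot X hX.1 ?_, fun Q hQ hne => ?_⟩
    · have := Agent.RankOne.line_inf hS h' hX.1 hD' hcF
      rwa [e, inf_idem] at this
    · rcases Agent.RankOne.line_members hS h' hX.1 hD' hF' hcF hQ.1 (hWF ▸ hQ.2) with ⟨f, hf, rfl⟩ | e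
      · exact ⟨f, le_iSup₂ (f := fun (E : Subgroup G) (_ : E ∈ Cfsg.normalizingMembers S W) => E) F hFn hf,
          rfl, hfixF f hf⟩
      · exact absurd e hne
  -- three members
  obtain ⟨a, ha, ha1⟩ := Agent.RankOne.member_exists_ne_one hS hA
  obtain ⟨e, he, he1, -⟩ := Agent.RankOne.exists_commutator_ne_one hS hc ha ha1
  have hCA : ⁅A, E⁆ ≠ A := fun e' => hS.ne_bot A hA (by
    have := Agent.RankOne.line_inf hS h hA hD hc
    rwa [e', inf_idem] at this)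
  have hAe : Cfsg.conjBy A e ∈ Λ := hconj e (hEW e he) A hAΛ
  have hAe1 : Cfsg.conjBy A e ≠ ⁅A, E⁆ := fun e' => hCA (by
    rw [← hCconj e he] at e'
    exact (Agent.RankOne.conjBy_inj.1 e').symm)
  have hAe2 : Cfsg.conjBy A e ≠ A := by
    intro e'
    refine he1 (Agent.RankOne.line_injective hS h hA hE hD hc ha ha1 he ?_)
    have h1 : e * a * e⁻¹ * a⁻¹ ∈ A ⊓ ⁅A, E⁆ := ⟨A.mul_mem (by
      have := Agent.RankOne.conj_mem_conjBy e ha
      rwa [e'] at this) (A.inv_mem ha),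
      by rw [Subgroup.commutator_comm]; exact Subgroup.commutator_mem_commutator he ha⟩
    rw [Agent.RankOne.line_inf hS h hA hD hc, Subgroup.mem_bot, mul_inv_eq_one,
      mul_inv_eq_iff_eq_mul] at h1
    exact h1.symm
  have hthree : ∀ P Q : Subgroup G, ∃ R ∈ Λ, R ≠ P ∧ R ≠ Q := by
    intro P Q
    rcases eq_or_ne A P with rfl | h1
    · rcases eq_or_ne ⁅A, E⁆ Q with rfl | h2
      · exact ⟨_, hAe, hAe2, hAe1⟩
      · exact ⟨_, hCΛ, hCA, h2⟩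
    · rcases eq_or_ne A Q with rfl | h2
      · rcases eq_or_ne ⁅A, E⁆ P with rfl | h3
        · exact ⟨_, hAe, hAe1, hAe2⟩
        · exact ⟨_, hCΛ, h3, hCA⟩
      · exact ⟨A, hAΛ, h1, h2⟩
  have htrans : ∀ X ∈ Λ, ∀ Y ∈ Λ, ∃ m ∈ M, Cfsg.conjBy X m = Y := by
    intro X hX Y hY
    obtain ⟨P, hP, -, hmP⟩ := mover X hX
    obtain ⟨Q, hQ, -, hmQ⟩ := mover Y hY
    obtain ⟨R, hR, hRP, hRQ⟩ := hthree P Q
    obtain ⟨m, hm, hme, -⟩ := hmP R hR hRP
    obtain ⟨n, hn, hne, -⟩ := hmQ R hR hRQ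
    exact ⟨n⁻¹ * m, Subgroup.mul_mem _ (Subgroup.inv_mem _ hn) hm, by
      rw [← Agent.RankOne.conjBy_conjBy, hme, ← hne, Agent.RankOne.conjBy_inv_conjBy]⟩
  obtain ⟨P₀, hP₀, -, hm₀⟩ := mover A hAΛ
  intro C₁ hC₁ C₂ hC₂ D₁ hD₁ D₂ hD₂ hne hne'
  obtain ⟨m₁, hm₁, he₁⟩ := htrans C₁ hC₁ P₀ hP₀
  obtain ⟨m₂, hm₂, he₂⟩ := htrans D₁ hD₁ P₀ hP₀
  have hMW : ∀ m ∈ M, Cfsg.conjBy W m = W := fun m hm =>
    Agent.RankOne.conjBy_of_mem_normalizer (hMn hm)
  obtain ⟨e₁, hx₁, hA₁, hf₁⟩ := hm₀ _ (hconj m₁ (hMW m₁ hm₁) C₂ hC₂)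
    (fun e => hne (Agent.RankOne.conjBy_inj.1 (he₁.trans e.symm)))
  obtain ⟨e₂, hx₂, hA₂, hf₂⟩ := hm₀ _ (hconj m₂ (hMW m₂ hm₂) D₂ hD₂)
    (fun e => hne' (Agent.RankOne.conjBy_inj.1 (he₂.trans e.symm)))
  refine ⟨m₂⁻¹ * (e₂ * (e₁⁻¹ * m₁)), Subgroup.mul_mem _ (Subgroup.inv_mem _ hm₂)
    (Subgroup.mul_mem _ hx₂ (Subgroup.mul_mem _ (Subgroup.inv_mem _ hx₁) hm₁)), ?_, ?_⟩
  · simp only [← Agent.RankOne.conjBy_conjBy]
    rw [he₁, Agent.RankOne.conjBy_eq_iff.2 (by rw [inv_inv, hf₁] : P₀ = Cfsg.conjBy P₀ e₁⁻¹⁻¹), hf₂,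
      ← he₂, Agent.RankOne.conjBy_inv_conjBy]
  · simp only [← Agent.RankOne.conjBy_conjBy]
    rw [← hA₁, Agent.RankOne.conjBy_inv_conjBy, hA₂, Agent.RankOne.conjBy_inv_conjBy]

end Cfsg.Agent.S5038
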