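import Cfsg.Statements.S2553
import Cfsg.Agent.Lib.AltEightSub.Perm
import Cfsg.Agent.Lib.AltEightSub.Linear
import Cfsg.Agent.Lib.Linear.AltEight
import Cfsg.Agent.Lib.Cores.Basic
import Cfsg.Agent.Lib.Solvable.Basic
import Cfsg.Agent.Lib.CharSimple.Basic
import Cfsg.Agent.Lib.CharApp.Burnside
import Cfsg.Agent.Lib.SmallOrders.Check
import Cfsg.Agent.Lib.SmallOrders.SymSylow
import Cfsg.Agent.S0494
import Cfsg.Agent.S2119

set_option autoImplicit false
open Cfsg

namespace Cfsg.Agent.S2553

open Equiv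

local notation "𝔾" => GL (Fin 4) (ZMod 2)

set_option maxHeartbeats 800000

theorem nonempty_glFour_two : Nonempty (𝔾 ≃* alternatingGroup (Fin 8)) := by
  obtain ⟨e⟩ := Linear.nonempty_slFour_two
  have hu : ∀ u : (ZMod 2)ˣ, u = 1 := by decide
  have hbij : Function.Bijective
      (Matrix.SpecialLinearGroup.toGL : Matrix.SpecialLinearGroup (Fin 4) (ZMod 2) →* 𝔾) := by
    refine ⟨Matrix.SpecialLinearGroup.toGL_injective, fun g => ?_⟩
    have hd : (g : Matrix (Fin 4) (Fin 4) (ZMod 2)).det = 1 := by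
      rw [← Matrix.GeneralLinearGroup.val_det_apply, hu (Matrix.GeneralLinearGroup.det g), Units.val_one]
    exact ⟨⟨(g : Matrix (Fin 4) (Fin 4) (ZMod 2)), hd⟩, Units.ext (Matrix.SpecialLinearGroup.coe_GL_coe_matrix _)⟩
  exact ⟨(MulEquiv.ofBijective _ hbij).symm.trans e⟩

theorem card_glFour_two : Nat.card 𝔾 = 20160 := by
  obtain ⟨e⟩ := nonempty_glFour_two
  have h := two_mul_nat_card_alternatingGroup (α := Fin 8)
  rw [Nat.card_perm, Nat.card_fin, show Nat.factorial 8 = 40320 from rfl] at h
  rw [Nat.card_congr e.toEquiv]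
  omega

theorem card_normalizer_seven (P : Subgroup 𝔾) (hP : Nat.card P = 7) :
    Nat.card (Subgroup.normalizer (P : Set 𝔾)) = 21 := by
  haveI : Fact (Nat.Prime 7) := ⟨by norm_num⟩
  obtain ⟨e⟩ := nonempty_glFour_two
  set A := alternatingGroup (Fin 8)
  set PA : Subgroup A := P.map e.toMonoidHom with hPA
  set Q0 : Subgroup (Perm (Fin 8)) := PA.map A.subtype
  have hc : Nat.card Q0 = 7 := by
    rw [Subgroup.card_map_of_injective A.subtype_injective, hPA, Subgroup.card_map_of_injective (f := e.toMonoidHom) e.injective, hP]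
  have hf : (Nat.card (Perm (Fin 8))).factorization 7 = 1 := by
    rw [Nat.card_perm, Nat.card_fin, show Nat.factorial 8 = 7 * 5760 from rfl, Nat.factorization_mul (by norm_num) (by norm_num)]
    rw [Finsupp.add_apply, Nat.Prime.factorization_self (by norm_num), Nat.factorization_eq_zero_of_not_dvd (by norm_num : ¬ 7 ∣ 5760)]
  let Q : Sylow 7 (Perm (Fin 8)) := Sylow.ofCard Q0 (by rw [hc, hf, pow_one])
  have h1 := SmallOrders.card_normalizer_sylow_perm (p := 7) (α := Fin 8) (by simp) (by simp) Q
  have h2 := SmallOrders.two_mul_card_normalizer_alternating (p := 7) (α := Fin 8) (by simp) (by norm_num) Q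
  have hQ : (Q : Subgroup (Perm (Fin 8))).subgroupOf A = PA := by
    show (PA.map A.subtype).subgroupOf A = PA
    exact Subgroup.comap_map_eq_self_of_injective A.subtype_injective PA
  rw [hQ] at h2
  have h3 : Nat.card ((Subgroup.normalizer (P : Set 𝔾)).map e.toMonoidHom) =
      Nat.card (Subgroup.normalizer (PA : Set A)) := by
    rw [Subgroup.map_equiv_normalizer_eq]
  rw [Subgroup.card_map_of_injective (f := e.toMonoidHom) e.injective] at h3
  rw [Fintype.card_fin, show Nat.factorial (8 - 7) = 1 from rfl] at h1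
  have h5 := h2.trans h1
  refine h3.trans ?_
  exact Nat.eq_of_mul_eq_mul_left two_pos (h5.trans (by norm_num))

/-- A simple subgroup contains the normaliser of each of its subgroups of order seven. -/
theorem normalizer_seven_le (T : Subgroup 𝔾) [IsSimpleGroup T] (hT : ¬ IsMulCommutative T)
    (P : Subgroup 𝔾) (hPT : P ≤ T) (hP : Nat.card P = 7) :
    Subgroup.normalizer (P : Set 𝔾) ≤ T := by
  haveI : Fact (Nat.Prime 7) := ⟨by norm_num⟩
  have h7T : 7 ∣ Nat.card T := hP ▸ Subgroup.card_dvd_of_le hPT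
  have h49 : ¬ 49 ∣ Nat.card T := fun h => by
    have := h.trans (Subgroup.card_subgroup_dvd_card T)
    rw [card_glFour_two] at this
    norm_num at this
  have hc : Nat.card (P.subgroupOf T) = 7 := by
    rw [Nat.card_congr (Subgroup.subgroupOfEquivOfLe hPT).toEquiv, hP]
  have hf : (Nat.card T).factorization 7 = 1 := by
    have a1 := ((Fact.out : Nat.Prime 7).dvd_iff_one_le_factorization Nat.card_pos.ne').1 h7T
    have a2 : ¬ 2 ≤ (Nat.card T).factorization 7 := fun h =>
      h49 (((Fact.out : Nat.Prime 7).pow_dvd_iff_le_factorization Nat.card_pos.ne').2 h)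
    omega
  let Q : Sylow 7 T := Sylow.ofCard (P.subgroupOf T) (by rw [hc, hf, pow_one])
  have hB := SmallOrders.normalizer_not_le_centralizer hT h7T Q
  set NT := Subgroup.normalizer ((P.subgroupOf T : Subgroup T) : Set T) with hNT
  have hsub : NT.map T.subtype ≤ Subgroup.normalizer (P : Set 𝔾) := by
    rintro _ ⟨t, ht, rfl⟩
    rw [Subgroup.mem_normalizer_iff]
    intro x
    have ht' := Subgroup.mem_normalizer_iff.1 ht
    constructor
    · intro hx
      exact (ht' ⟨x, hPT hx⟩).1 hx
    · intro hx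
      have hxT : x ∈ T := by
        have := T.mul_mem (T.mul_mem (T.inv_mem t.2) (hPT hx)) t.2
        simpa [mul_assoc] using this
      exact (ht' ⟨x, hxT⟩).2 hx
  have hd : Nat.card NT ∣ 21 := by
    rw [← card_normalizer_seven P hP, ← Subgroup.card_map_of_injective T.subtype_injective]
    exact Subgroup.card_dvd_of_le hsub
  have h7N : 7 ∣ Nat.card NT := hc ▸ Subgroup.card_dvd_of_le Subgroup.le_normalizer
  have h21 : Nat.card NT = 21 := by
    obtain ⟨k, hk⟩ := h7N
    rw [hk, show 21 = 7 * 3 from rfl, Nat.mul_dvd_mul_iff_left (by norm_num)] at hd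
    rcases (Nat.dvd_prime (by norm_num)).1 hd with rfl | rfl
    · exfalso
      apply hB
      have he : (P.subgroupOf T) = NT :=
        Subgroup.eq_of_le_of_card_ge Subgroup.le_normalizer (by omega)
      intro t ht
      rw [Subgroup.mem_centralizer_iff]
      intro s hs
      have htP : t ∈ P.subgroupOf T := he ▸ ht
      haveI : IsCyclic (P.subgroupOf T) := isCyclic_of_prime_card hc
      obtain ⟨g, hg⟩ := IsCyclic.exists_generator (α := (P.subgroupOf T))
      obtain ⟨i, hi⟩ := hg ⟨s, hs⟩
      obtain ⟨j, hj⟩ := hg ⟨t, htP⟩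
      have := congrArg Subtype.val ((Commute.zpow_zpow_self g i j).eq)
      rw [show g ^ i = ⟨s, hs⟩ from hi, show g ^ j = ⟨t, htP⟩ from hj] at this
      exact this
    · exact hk
  have := Subgroup.eq_of_le_of_card_ge hsub (by
    rw [card_normalizer_seven P hP, Subgroup.card_map_of_injective T.subtype_injective, h21])
  rw [← this]
  exact Subgroup.map_subtype_le _

theorem five_or_seven {T : Type*} [Group T] [Finite T] [IsSimpleGroup T]
    (hT : ¬ IsMulCommutative T) (hd : Nat.card T ∣ 20160) : 5 ∣ Nat.card T ∨ 7 ∣ Nat.card T := by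
  by_contra h
  push Not at h
  have h5 : Nat.Coprime (Nat.card T) 5 := ((Nat.prime_five).coprime_iff_not_dvd.2 h.1).symm
  have h7 : Nat.Coprime (Nat.card T) 7 := ((by norm_num : Nat.Prime 7).coprime_iff_not_dvd.2 h.2).symm
  have h576 : Nat.card T ∣ 2 ^ 6 * 3 ^ 2 := (h5.mul_right h7).dvd_of_dvd_mul_left hd
  obtain ⟨a, b, ha, hb, hab⟩ := Nat.dvd_mul.1 h576
  obtain ⟨i, -, rfl⟩ := (Nat.dvd_prime_pow Nat.prime_two).1 ha
  obtain ⟨j, -, rfl⟩ := (Nat.dvd_prime_pow Nat.prime_three).1 hb
  have := CharApp.isSolvable_of_card_eq_prime_pow_mul 2 3 Nat.prime_two Nat.prime_three _ T rfl i j hab.symm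
  exact hT ⟨⟨IsSimpleGroup.comm_iff_isSolvable.2 this⟩⟩

/-- Simple subgroups of `GL_4(2)`. -/
theorem simple_subgroup (T : Subgroup 𝔾) [IsSimpleGroup T] (hT : ¬ IsMulCommutative T) :
    9 ∣ Nat.card T ∨ Nat.card T = 60 ∨
      (Nat.card T = 168 ∧ Nonempty (T ≃* GL (Fin 3) (ZMod 2))) := by
  haveI : Fact (Nat.Prime 7) := ⟨by norm_num⟩
  rw [or_iff_not_imp_left]
  intro h9
  have hd : Nat.card T ∣ 20160 := card_glFour_two ▸ Subgroup.card_subgroup_dvd_card T
  have h6720 : Nat.card T ∣ 3 * 2240 := by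
    obtain ⟨a, b, ha, hb, hab⟩ := Nat.dvd_mul.1 (show Nat.card T ∣ 3 ^ 2 * 2240 from hd)
    obtain ⟨i, hi, rfl⟩ := (Nat.dvd_prime_pow Nat.prime_three).1 ha
    rw [← hab]
    refine Nat.mul_dvd_mul ?_ hb
    have : i ≤ 1 := by
      by_contra h
      exact h9 (hab ▸ (pow_dvd_pow 3 (show 2 ≤ i by omega)).mul_right b)
    simpa using pow_dvd_pow 3 this
  by_cases h7 : 7 ∣ Nat.card T
  · right
    obtain ⟨x, hx⟩ := exists_prime_orderOf_dvd_card' 7 h7
    let P : Subgroup 𝔾 := Subgroup.zpowers (x : 𝔾)
    have hP : Nat.card P = 7 := by rw [Nat.card_zpowers, Subgroup.orderOf_coe, hx]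
    have hPT : P ≤ T := Subgroup.zpowers_le.2 x.2
    have h21 : 21 ∣ Nat.card T :=
      card_normalizer_seven P hP ▸ Subgroup.card_dvd_of_le (normalizer_seven_le T hT P hPT hP)
    obtain ⟨m, hm⟩ := h21
    have hm320 : m ∣ 320 := by
      rw [hm, show 3 * 2240 = 21 * 320 from rfl, Nat.mul_dvd_mul_iff_left (by norm_num)] at h6720
      exact h6720
    -- the number of Sylow 7-subgroups
    have hcP : Nat.card (P.subgroupOf T) = 7 := by
      rw [Nat.card_congr (Subgroup.subgroupOfEquivOfLe hPT).toEquiv, hP]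
    have hf : (Nat.card T).factorization 7 = 1 := by
      rw [hm, show 21 * m = 7 * (3 * m) by ring,
        Nat.factorization_mul (by norm_num) (by have := Nat.pos_of_dvd_of_pos hm320 (by norm_num); omega)]
      rw [Finsupp.add_apply, Nat.Prime.factorization_self (by norm_num), Nat.factorization_eq_zero_of_not_dvd]
      intro h
      rcases (Fact.out : Nat.Prime 7).dvd_mul.1 h with h | h
      · norm_num at h
      · have := h.trans hm320
        norm_num at this
    let Q : Sylow 7 T := Sylow.ofCard (P.subgroupOf T) (by rw [hcP, hf, pow_one])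
    have hNT : Nat.card (Subgroup.normalizer ((Q : Subgroup T) : Set T)) = 21 := by
      rw [show (Q : Subgroup T) = P.subgroupOf T from rfl, ← card_normalizer_seven P hP,
        ← Subgroup.subgroupOf_normalizer_eq hPT]
      exact Nat.card_congr (Subgroup.subgroupOfEquivOfLe (normalizer_seven_le T hT P hPT hP)).toEquiv
    have hs := Q.card_eq_index_normalizer
    have hmul := Subgroup.card_mul_index (Subgroup.normalizer ((Q : Subgroup T) : Set T))
    rw [hNT, hm] at hmul
    replace hs : Nat.card (Sylow 7 T) = (Subgroup.normalizer ((Q : Subgroup T) : Set T)).index := hs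
    have hs7 := card_sylow_modEq_one 7 T
    rw [show Nat.card (Sylow 7 T) = m by omega, Nat.ModEq] at hs7
    have hmem : m ∈ Nat.divisors 320 := Nat.mem_divisors.2 ⟨hm320, by norm_num⟩
    rw [show Nat.divisors 320 = {1, 2, 4, 5, 8, 10, 16, 20, 32, 40, 64, 80, 160, 320} by decide +kernel] at hmem
    simp only [Finset.mem_insert, Finset.mem_singleton] at hmem
    rcases hmem with rfl | rfl | rfl | rfl | rfl | rfl | rfl | rfl | rfl | rfl | rfl | rfl | rfl | rfl <;>
      norm_num at hs7
    · exact absurd hm (SmallOrders.card_ne_of_critBool hT 3 1 (by decide +kernel))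
    · exact AltEightSub.simple_seven_structure T hT (Or.inl hm)
    · exact AltEightSub.simple_seven_structure T hT (Or.inr hm)
  · left
    have h960 : Nat.card T ∣ 960 :=
      (((by norm_num : Nat.Prime 7).coprime_iff_not_dvd.2 h7).symm).dvd_of_dvd_mul_left
        (show Nat.card T ∣ 7 * 960 from h6720)
    have hmem : Nat.card T ∈ Nat.divisors 960 := Nat.mem_divisors.2 ⟨h960, by norm_num⟩
    rw [show Nat.divisors 960 = {1, 2, 3, 4, 5, 6, 8, 10, 12, 15, 16, 20, 24, 30, 32, 40, 48, 60,
      64, 80, 96, 120, 160, 192, 240, 320, 480, 960} by decide +kernel] at hmem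
    simp only [Finset.mem_insert, Finset.mem_singleton] at hmem
    have nn := @SmallOrders.card_ne_of_critBool T _ _ _ hT
    rcases hmem with h | h | h | h | h | h | h | h | h | h | h | h | h | h | h | h | h | h | h | h |
      h | h | h | h | h | h | h | h
    · have := Finite.one_lt_card (α := T); omega
    · exact absurd h (nn 2 1 (by decide +kernel))
    · exact absurd h (nn 3 1 (by decide +kernel))
    · exact absurd h (nn 2 2 (by decide +kernel))
    · exact absurd h (nn 5 1 (by decide +kernel))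
    · exact absurd h (nn 2 1 (by decide +kernel))
    · exact absurd h (nn 2 3 (by decide +kernel))
    · exact absurd h (nn 2 1 (by decide +kernel))
    · exact absurd h (nn 2 2 (by decide +kernel))
    · exact absurd h (nn 3 1 (by decide +kernel))
    · exact absurd h (nn 2 4 (by decide +kernel))
    · exact absurd h (nn 2 2 (by decide +kernel))
    · exact absurd h (nn 2 3 (by decide +kernel))
    · exact absurd h (nn 2 1 (by decide +kernel))
    · exact absurd h (nn 2 5 (by decide +kernel))
    · exact absurd h (nn 2 3 (by decide +kernel))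
    · exact absurd h (nn 2 4 (by decide +kernel))
    · exact h
    · exact absurd h (nn 2 6 (by decide +kernel))
    · exact absurd h (nn 2 4 (by decide +kernel))
    · exact absurd h (nn 2 5 (by decide +kernel))
    · exact absurd h (nn 2 3 (by decide +kernel))
    · exact absurd h (nn 2 5 (by decide +kernel))
    · exact absurd h (nn 2 6 (by decide +kernel))
    · exact absurd h (nn 2 4 (by decide +kernel))
    · exact absurd h (nn 2 6 (by decide +kernel))
    · exact absurd h (nn 2 5 (by decide +kernel))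
    · exact absurd h (nn 2 6 (by decide +kernel))

theorem minimal_simple (H : Subgroup 𝔾) (hO : Cfsg.pPrimeCore 2 H = ⊥) (hO2 : Cfsg.pCore 2 H = ⊥)
    (M : Subgroup H) [hMn : M.Normal] (hM0 : M ≠ ⊥)
    (hmin : ∀ K : Subgroup H, K.Normal → K ≤ M → K = ⊥ ∨ K = M) :
    IsSimpleGroup M ∧ ¬ IsMulCommutative M := by
  haveI : Nontrivial M := (Subgroup.nontrivial_iff_ne_bot M).2 hM0
  have hns : ¬ Group.IsSolvable M := fun hs => by
    obtain ⟨p, hp, K, hK, hK0, -, -, hKp, -⟩ := Solvable.exists_minimal_normal_pGroup (N := M) hM0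
    apply hK0
    rcases eq_or_ne p 2 with rfl | hp2
    · exact le_bot_iff.1 (hO2 ▸ Cores.le_pCore hK hKp)
    · haveI := Fact.mk hp
      obtain ⟨n, hn⟩ := hKp.exists_card_eq
      refine le_bot_iff.1 (hO ▸ Cores.le_pPrimeCore hK ?_)
      rw [hn]
      exact ((Nat.coprime_primes hp Nat.prime_two).2 hp2).pow_left n
  obtain ⟨S, hSg, hSs, n, hn, ⟨e⟩⟩ := CharSimple.exists_pi_simple (G := M) (fun K hK => by
    haveI := hK
    rcases hmin (K.map M.subtype) inferInstance (Subgroup.map_subtype_le K) with h | h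
    · exact Or.inl ((Subgroup.map_eq_bot_iff_of_injective K M.subtype_injective).1 h)
    · refine Or.inr (Subgroup.map_injective M.subtype_injective (h.trans ?_))
      rw [← MonoidHom.range_eq_map, Subgroup.range_subtype])
  haveI : Finite (Fin n → S) := Finite.of_equiv _ e.toEquiv
  haveI : Finite S := Finite.of_injective (fun s => (fun _ => s : Fin n → S))
    (fun a b h => congrFun h ⟨0, hn⟩)
  have hSna : ¬ IsMulCommutative S := fun h => hns (by
    haveI : Std.Commutative (α := S) (· * ·) := h.is_comm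
    refine Group.isSolvable_of_comm fun a b => e.injective ?_
    rw [map_mul, map_mul]
    exact funext fun i => h.is_comm.comm _ _)
  have hd : Nat.card S ^ n ∣ 20160 := by
    have h1 : Nat.card M = Nat.card S ^ n := by
      rw [Nat.card_congr e.toEquiv, Nat.card_fun, Nat.card_fin]
    rw [← h1, ← card_glFour_two]
    exact (Subgroup.card_subgroup_dvd_card M).trans (Subgroup.card_subgroup_dvd_card H)
  have hn1 : n = 1 := by
    by_contra hne
    have h2 : ∀ p, p ∣ Nat.card S → p ^ 2 ∣ 20160 := fun p hp =>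
      ((pow_dvd_pow_of_dvd hp 2).trans (pow_dvd_pow _ (by omega))).trans hd
    rcases five_or_seven hSna ((dvd_pow_self _ (by omega)).trans hd) with h | h <;>
      have := h2 _ h <;> norm_num at this
  subst hn1
  have e1 : M ≃* S := e.trans (MulEquiv.funUnique (Fin 1) S)
  exact ⟨IsSimpleGroup.isSimpleGroup_of_surjective e1.symm.toMonoidHom e1.symm.surjective,
    fun h => hSna ⟨⟨fun a b => e1.symm.injective (by rw [map_mul, map_mul]; exact h.is_comm.comm _ _)⟩⟩⟩

theorem structure_sixty {K : Type*} [Group K] [Finite K] (M : Subgroup K) [M.Normal]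
    [IsSimpleGroup M] (h60 : Nat.card M = 60) (hC : ∀ k : K, (∀ m ∈ M, k * m = m * k) → k = 1) :
    Nonempty (K ≃* alternatingGroup (Fin 5)) ∨ Nonempty (K ≃* Perm (Fin 5)) := by
  obtain ⟨e⟩ := S0494.result (G := M) h60
  let c := MulEquiv.ofBijective _ (S2119.result 5 (by norm_num) (by norm_num))
  let r : K →* Perm (Fin 5) :=
    (c.symm.toMonoidHom.comp (MulAut.congr e).toMonoidHom).comp MulAut.conjNormal
  have hrinj : Function.Injective r := by
    rw [injective_iff_map_eq_one]
    intro k hk
    have h1 : (MulAut.conjNormal k : MulAut M) = 1 :=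
      (MulAut.congr e).injective (c.symm.injective (hk.trans (by rw [map_one, map_one])))
    refine hC k fun m hm => ?_
    have h2 := congrArg Subtype.val (DFunLike.congr_fun h1 (⟨m, hm⟩ : M))
    simp only [MulAut.conjNormal_apply, MulAut.one_apply] at h2
    exact mul_inv_eq_iff_eq_mul.1 h2
  have hle : alternatingGroup (Fin 5) ≤ r.range := by
    intro σ hσ
    refine ⟨(e.symm ⟨σ, hσ⟩ : M), ?_⟩
    show c.symm (MulAut.congr e (MulAut.conjNormal ((e.symm ⟨σ, hσ⟩ : M) : K))) = σ
    rw [MulEquiv.symm_apply_eq]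
    refine MulEquiv.ext fun x => ?_
    have h3 : (MulAut.conjNormal ((e.symm ⟨σ, hσ⟩ : M) : K) : MulAut M) (e.symm x) =
        e.symm ⟨σ, hσ⟩ * e.symm x * (e.symm ⟨σ, hσ⟩)⁻¹ := Subtype.ext rfl
    show e ((MulAut.conjNormal ((e.symm ⟨σ, hσ⟩ : M) : K) : MulAut M) (e.symm x)) = c σ x
    rw [h3, map_mul, map_mul, map_inv, e.apply_symm_apply, e.apply_symm_apply]
    exact Subtype.ext rfl
  have eK := MonoidHom.ofInjective hrinj
  rcases AltEightSub.eq_alternatingGroup_or_eq_top hle with h | h
  · exact Or.inl ⟨eK.trans (MulEquiv.subgroupCongr h)⟩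
  · exact Or.inr ⟨(eK.trans (MulEquiv.subgroupCongr h)).trans Subgroup.topEquiv⟩

/-- Let H be a nontrivial subgroup of GL(4,2) (a group isomorphic to the alternating group of degree 8) whose largest normal 2-subgroup and largest normal subgroup of odd order are both trivial. Then H is isomorphic to an alternating group of degree n for some 5 ≤ n ≤ 8, to the symmetric group of degree 5 or 6, or to GL(3,2). -/
theorem result (H : Subgroup (GL (Fin 4) (ZMod 2))) (hH : H ≠ ⊥) (hO : Cfsg.pPrimeCore 2 ↥H = ⊥) (hO2 : Cfsg.pCore 2 ↥H = ⊥) :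
    (∃ n : ℕ, 5 ≤ n ∧ n ≤ 8 ∧ Nonempty (↥H ≃* alternatingGroup (Fin n))) ∨
    Nonempty (↥H ≃* Equiv.Perm (Fin 5)) ∨ Nonempty (↥H ≃* Equiv.Perm (Fin 6)) ∨ Nonempty (↥H ≃* GL (Fin 3) (ZMod 2)) := by
  haveI : Nontrivial H := (Subgroup.nontrivial_iff_ne_bot H).2 hH
  obtain ⟨M, hMn, hM0, -, hmin⟩ := Solvable.exists_minimal_normal (N := (⊤ : Subgroup H)) top_ne_bot
  haveI := hMn
  obtain ⟨hMs, hMna⟩ := minimal_simple H hO hO2 M hM0 hmin
  let T : Subgroup 𝔾 := M.map H.subtype
  let eM : M ≃* T := M.equivMapOfInjective H.subtype H.subtype_injective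
  haveI : Nontrivial T := eM.toEquiv.nontrivial_congr.1 inferInstance
  haveI : IsSimpleGroup T := IsSimpleGroup.isSimpleGroup_of_surjective eM.toMonoidHom eM.surjective
  have hTna : ¬ IsMulCommutative T := fun h => hMna ⟨⟨fun a b => eM.injective (by
    rw [map_mul, map_mul]; exact h.is_comm.comm _ _)⟩⟩
  have hTH : T ≤ H := Subgroup.map_subtype_le M
  -- the centraliser of M is trivial
  have hC : ∀ k : H, (∀ m ∈ M, k * m = m * k) → k = 1 := by
    have hbot : Subgroup.centralizer (M : Set H) = ⊥ := by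
      by_contra hne
      obtain ⟨M2, hM2n, hM20, hM2C, hmin2⟩ :=
        Solvable.exists_minimal_normal (N := Subgroup.centralizer (M : Set H)) hne
      haveI := hM2n
      obtain ⟨hM2s, hM2na⟩ := minimal_simple H hO hO2 M2 hM20 hmin2
      have hcomm : ∀ m ∈ M, ∀ z ∈ M2, m * z = z * m := fun m hm z hz =>
        Subgroup.mem_centralizer_iff.1 (hM2C hz) m hm
      have hdis : M ⊓ M2 = ⊥ := by
        rcases hmin2 (M ⊓ M2) inferInstance inf_le_right with h | h
        · exact h
        · exact absurd ⟨⟨fun a b => Subtype.ext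
            (hcomm a (h.ge a.2 : (a : H) ∈ M ⊓ M2).1 b b.2)⟩⟩ hM2na
      let f : M × M2 →* H := MonoidHom.noncommCoprod M.subtype M2.subtype
        fun m z => hcomm m m.2 z z.2
      have hf : Function.Injective f := by
        rw [injective_iff_map_eq_one]
        rintro ⟨⟨m, hm⟩, ⟨z, hz⟩⟩ h
        have hmz : m * z = 1 := h
        have hm1 : m ∈ M ⊓ M2 := ⟨hm, (eq_inv_of_mul_eq_one_left hmz) ▸ M2.inv_mem hz⟩
        rw [hdis, Subgroup.mem_bot] at hm1
        subst hm1
        rw [one_mul] at hmz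
        subst hmz
        rfl
      have hprod : Nat.card M * Nat.card M2 ∣ 20160 := by
        rw [← Nat.card_prod, ← card_glFour_two]
        exact (Subgroup.card_dvd_of_injective f hf).trans (Subgroup.card_subgroup_dvd_card H)
      -- no elements of orders five and seven commute
      have h57 : ∀ a b : H, orderOf a = 7 → orderOf b = 5 → a * b ≠ b * a := by
        intro a b ha hb hab
        let P : Subgroup 𝔾 := Subgroup.zpowers (a : 𝔾)
        have hP : Nat.card P = 7 := by rw [Nat.card_zpowers, Subgroup.orderOf_coe, ha]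
        have hbN : (b : 𝔾) ∈ Subgroup.normalizer (P : Set 𝔾) := by
          have hc : ∀ x ∈ P, (b : 𝔾) * x * (b : 𝔾)⁻¹ = x := by
            rintro x ⟨i, rfl⟩
            have : Commute (a : 𝔾) (b : 𝔾) := congrArg Subtype.val hab
            show (b : 𝔾) * (a : 𝔾) ^ i * (b : 𝔾)⁻¹ = (a : 𝔾) ^ i
            rw [← (this.zpow_left i).eq, mul_inv_cancel_right]
          rw [Subgroup.mem_normalizer_iff]
          intro x
          refine ⟨fun hx => by rw [hc x hx]; exact hx, fun hx => ?_⟩
          have h := hc _ hx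
          have : (b : 𝔾) * x * (b : 𝔾)⁻¹ = x := by
            have := mul_right_cancel h
            exact mul_left_cancel (a := (b : 𝔾)) (by simpa [mul_assoc] using congrArg (· * (b : 𝔾)) h)
          rwa [this] at hx
        have := card_normalizer_seven P hP ▸ orderOf_dvd_natCard (⟨(b : 𝔾), hbN⟩ : Subgroup.normalizer (P : Set 𝔾))
        rw [Subgroup.orderOf_mk, Subgroup.orderOf_coe, hb] at this
        norm_num at this
      haveI : Fact (Nat.Prime 5) := ⟨Nat.prime_five⟩
      haveI : Fact (Nat.Prime 7) := ⟨by norm_num⟩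
      have hdM : Nat.card M ∣ 20160 := (dvd_mul_right _ _).trans hprod
      have hdM2 : Nat.card M2 ∣ 20160 := (dvd_mul_left _ _).trans hprod
      rcases five_or_seven hMna hdM with h1 | h1 <;> rcases five_or_seven hM2na hdM2 with h2 | h2
      · exact absurd ((Nat.mul_dvd_mul h1 h2).trans hprod) (by norm_num)
      · obtain ⟨b, hb⟩ := exists_prime_orderOf_dvd_card' 5 h1
        obtain ⟨a, ha⟩ := exists_prime_orderOf_dvd_card' 7 h2
        exact h57 a b ((Subgroup.orderOf_coe a).trans ha) ((Subgroup.orderOf_coe b).trans hb) (hcomm b b.2 a a.2).symm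
      · obtain ⟨a, ha⟩ := exists_prime_orderOf_dvd_card' 7 h1
        obtain ⟨b, hb⟩ := exists_prime_orderOf_dvd_card' 5 h2
        exact h57 a b ((Subgroup.orderOf_coe a).trans ha) ((Subgroup.orderOf_coe b).trans hb) (hcomm a a.2 b b.2)
      · exact absurd ((Nat.mul_dvd_mul h1 h2).trans hprod) (by norm_num)
    intro k hk
    rw [← Subgroup.mem_bot, ← hbot, Subgroup.mem_centralizer_iff]
    exact fun m hm => (hk m hm).symm
  rcases simple_subgroup T hTna with h9 | h60 | ⟨h168, ⟨e3⟩⟩
  · obtain ⟨e⟩ := nonempty_glFour_two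
    let φ : 𝔾 →* Perm (Fin 8) := (alternatingGroup (Fin 8)).subtype.comp e.toMonoidHom
    have hφ : Function.Injective φ := (Subgroup.subtype_injective _).comp e.injective
    let eT : T ≃* T.map φ := T.equivMapOfInjective φ hφ
    haveI : Nontrivial (T.map φ) := eT.toEquiv.nontrivial_congr.1 inferInstance
    haveI : IsSimpleGroup (T.map φ) := IsSimpleGroup.isSimpleGroup_of_surjective eT.toMonoidHom eT.surjective
    obtain ⟨k, hk5, hk8, hk⟩ := AltEightSub.normalizer_structure (H.map φ) (T.map φ)
      (by rintro _ ⟨x, -, rfl⟩; exact (e x).2)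
      (Subgroup.map_mono hTH)
      (by
        rintro _ ⟨x, hx, rfl⟩
        refine Subgroup.le_normalizer_map φ ⟨x, Subgroup.mem_normalizer_iff.2 ?_, rfl⟩
        intro y
        constructor
        · rintro ⟨m, hm, rfl⟩
          exact ⟨(⟨x, hx⟩ : H) * m * (⟨x, hx⟩ : H)⁻¹, hMn.conj_mem m hm _, rfl⟩
        · rintro ⟨m, hm, hy⟩
          refine ⟨(⟨x, hx⟩ : H)⁻¹ * m * ((⟨x, hx⟩ : H)⁻¹)⁻¹, hMn.conj_mem m hm _, ?_⟩
          rw [inv_inv, map_mul, map_mul, map_inv, hy]
          show x⁻¹ * (x * y * x⁻¹) * x = y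
          group)
      (fun h => hTna ⟨⟨fun a b => eT.injective (by rw [map_mul, map_mul]; exact h.is_comm.comm _ _)⟩⟩)
      (by
        rintro _ ⟨x, hx, rfl⟩ hc
        have := hC ⟨x, hx⟩ fun m hm => Subtype.ext (hφ (by
          rw [Subgroup.coe_mul, Subgroup.coe_mul, map_mul, map_mul]
          exact hc _ ⟨(m : 𝔾), ⟨m, hm, rfl⟩, rfl⟩))
        rw [show x = 1 from congrArg Subtype.val this, map_one])
      (by rw [Subgroup.card_map_of_injective hφ]; exact h9)
    let eH : H ≃* H.map φ := H.equivMapOfInjective φ hφ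
    rcases hk with ⟨⟨e'⟩⟩ | ⟨hk6, ⟨e'⟩⟩
    · exact Or.inl ⟨k, hk5, hk8, ⟨eH.trans e'⟩⟩
    · rcases (show k = 5 ∨ k = 6 by omega) with rfl | rfl
      · exact Or.inr (Or.inl ⟨eH.trans e'⟩)
      · exact Or.inr (Or.inr (Or.inl ⟨eH.trans e'⟩))
  · have hM60 : Nat.card M = 60 := (Nat.card_congr eM.toEquiv).trans h60
    rcases structure_sixty M hM60 hC with h | h
    · exact Or.inl ⟨5, le_rfl, by norm_num, h⟩
    · exact Or.inr (Or.inl h)
  · -- Frattini argument
    haveI : Fact (Nat.Prime 7) := ⟨by norm_num⟩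
    obtain ⟨P⟩ := (inferInstance : Nonempty (Sylow 7 M))
    have hPc : Nat.card P = 7 := by
      rw [P.card_eq_multiplicity, Nat.card_congr eM.toEquiv, h168,
        show (168 : ℕ) = 7 * 24 from rfl, Nat.factorization_mul (by norm_num) (by norm_num),
        Finsupp.add_apply, Nat.Prime.factorization_self (by norm_num),
        Nat.factorization_eq_zero_of_not_dvd (by norm_num : ¬ 7 ∣ 24)]
      norm_num
    let PG : Subgroup 𝔾 := ((P : Subgroup M).map M.subtype).map H.subtype
    have hPG : Nat.card PG = 7 := by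
      rw [Subgroup.card_map_of_injective H.subtype_injective, Subgroup.card_map_of_injective M.subtype_injective, hPc]
    have hle := normalizer_seven_le T hTna PG (Subgroup.map_mono (Subgroup.map_subtype_le _)) hPG
    have htop : M = ⊤ := by
      rw [eq_top_iff, ← Sylow.normalizer_sup_eq_top P, sup_le_iff]
      refine ⟨fun h hh => ?_, le_rfl⟩
      obtain ⟨m, hm, hmh⟩ := hle (Subgroup.le_normalizer_map H.subtype ⟨h, hh, rfl⟩)
      exact H.subtype_injective hmh ▸ hm
    refine Or.inr (Or.inr (Or.inr ⟨((Subgroup.topEquiv.symm.trans (MulEquiv.subgroupCongr htop.symm)).trans eM).trans e3⟩))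

end Cfsg.Agent.S2553
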