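import Cfsg.Statements.S3559
import Cfsg.Agent.EqLemmas

set_option autoImplicit false
open Cfsg
open scoped Pointwise

namespace Cfsg.Agent.S3559

/-- Let G act faithfully and transitively on a finite set whose number of points n ≥ 2 is not a prime power, and suppose G has a cyclic subgroup acting regularly (transitively with trivial point stabilizers). Then G is imprimitive or doubly transitive. -/
theorem result {G Ω : Type*} [Group G] [Finite G] [MulAction G Ω] [FaithfulSMul G Ω] [Finite Ω]
    (htrans : MulAction.IsPretransitive G Ω) (hn : 2 ≤ Nat.card Ω) (hnp : ¬ IsPrimePow (Nat.card Ω))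
    (C : Subgroup G) (hcyc : IsCyclic ↥C) (hC : MulAction.IsPretransitive ↥C Ω ∧ ∀ a : Ω, MulAction.stabilizer ↥C a = ⊥) :
    ¬ MulAction.IsPreprimitive G Ω ∨ MulAction.IsMultiplyPretransitive G Ω 2 := by
  classical
  refine or_iff_not_imp_left.2 fun hprim => not_not.1 fun hnot => ?_
  rw [not_not] at hprim
  have hCt := hC.1
  obtain ⟨a⟩ : Nonempty Ω := (Nat.card_pos_iff.1 (by omega)).1
  have : Nontrivial Ω := Finite.one_lt_card_iff_nontrivial.1 (by omega)
  let _ : CommGroup C := IsCyclic.commGroup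
  have : Fintype C := Fintype.ofFinite _
  set H := MulAction.stabilizer G a with hH
  -- labelling of the points by `C`
  have hinj : ∀ x y : C, (x : G) • a = (y : G) • a → x = y := by
    intro x y h
    have h' : y⁻¹ * x ∈ MulAction.stabilizer C a := by
      rw [MulAction.mem_stabilizer_iff, mul_smul]
      show ((y⁻¹ : C) : G) • (x : G) • a = a
      rw [h, Subgroup.coe_inv, inv_smul_smul]
    rw [hC.2 a, Subgroup.mem_bot] at h'
    exact (inv_mul_eq_one.1 h').symm
  have hsurj : ∀ u : Ω, ∃ x : C, (x : G) • a = u := fun u => MulAction.exists_smul_eq C a u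
  have hcard : Nat.card C = Nat.card Ω :=
    Nat.card_congr (Equiv.ofBijective (fun x : C => (x : G) • a) ⟨hinj, hsurj⟩)
  -- the Schur relation: `y` lies in the orbit of `x`
  let R : C → C → Prop := fun x y => ∃ h ∈ H, (h * x) • a = (y : G) • a
  have hRrefl : ∀ x, R x x := fun x => ⟨1, one_mem _, by rw [one_mul]⟩
  have hRsymm : ∀ x y, R x y → R y x := fun x y ⟨h, hh, e⟩ =>
    ⟨h⁻¹, inv_mem hh, by rw [mul_smul, ← e, mul_smul, inv_smul_smul]⟩
  have hRtrans : ∀ x y z, R x y → R y z → R x z := fun x y z ⟨h, hh, e⟩ ⟨k, hk, e'⟩ =>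
    ⟨k * h, mul_mem hk hh, by
      rw [mul_assoc, mul_smul, e, ← mul_smul, e']⟩
  -- compatibility with translations
  have hconv : ∀ x y x' y' : C, ∀ h ∈ H, (h * x) • a = (x' : G) • a →
      (h * y) • a = (y' : G) • a → R (x⁻¹ * y) (x'⁻¹ * y') := by
    intro x y x' y' h hh ex ey
    refine ⟨(x' : G)⁻¹ * h * x, ?_, ?_⟩
    · rw [MulAction.mem_stabilizer_iff, mul_assoc, mul_smul, ex, inv_smul_smul]
    · calc ((x' : G)⁻¹ * h * x * ((x⁻¹ * y : C) : G)) • a
          = ((x' : G)⁻¹ * (h * y)) • a := by simp [mul_assoc]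
        _ = ((x'⁻¹ * y' : C) : G) • a := by
          rw [mul_smul, ey, ← mul_smul]; simp
  -- an invariant set generates everything
  have hgen : ∀ O : Set C, (∀ x ∈ O, ∀ y, R x y → y ∈ O) → (∃ x ∈ O, x ≠ 1) →
      Subgroup.closure O = ⊤ := by
    intro O hO hne
    set L := Subgroup.closure O with hL
    have hLinv : ∀ l ∈ L, ∀ y, R l y → y ∈ L := by
      intro l hl
      induction hl using Subgroup.closure_induction_right with
      | one =>
        rintro y ⟨h, hh, e⟩
        have : (1 : C) = y := hinj _ _ (by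
          rw [← e, OneMemClass.coe_one, mul_one, MulAction.mem_stabilizer_iff.1 hh, one_smul])
        exact this ▸ one_mem _
      | mul_right l hl o ho ih =>
        rintro y ⟨h, hh, e⟩
        obtain ⟨l', hl'⟩ := hsurj ((h * l) • a)
        have h1 : R (l⁻¹ * (l * o)) (l'⁻¹ * y) := hconv l (l * o) l' y h hh hl'.symm e
        rw [inv_mul_cancel_left] at h1
        rw [show y = l' * (l'⁻¹ * y) by group]
        exact mul_mem (ih l' ⟨h, hh, hl'.symm⟩) (Subgroup.subset_closure (hO o ho _ h1))
      | mul_inv_cancel l hl o ho ih =>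
        rintro y ⟨h, hh, e⟩
        obtain ⟨l', hl'⟩ := hsurj ((h * l) • a)
        have h1 : R ((l * o⁻¹)⁻¹ * l) (y⁻¹ * l') := hconv _ l y l' h hh e hl'.symm
        rw [show (l * o⁻¹)⁻¹ * l = o by group] at h1
        rw [show y = l' * (y⁻¹ * l')⁻¹ by group]
        exact mul_mem (ih l' ⟨h, hh, hl'.symm⟩)
          (inv_mem (Subgroup.subset_closure (hO o ho _ h1)))
    let S : Set Ω := {u | ∃ l ∈ L, (l : G) • a = u}
    have hHS : ∀ h ∈ H, h ∈ MulAction.stabilizer G S := by
      intro h hh
      rw [MulAction.mem_stabilizer_set_iff_subset_smul_set (Set.toFinite _)]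
      rintro _ ⟨l, hl, rfl⟩
      obtain ⟨l', hl'⟩ := hsurj ((h⁻¹ * l) • a)
      refine ⟨(l' : G) • a, ⟨l', hLinv l hl l' ⟨h⁻¹, inv_mem hh, hl'.symm⟩, rfl⟩, ?_⟩
      show h • (l' : G) • a = _
      rw [hl', mul_smul, smul_inv_smul]
    have hLS : ∀ l ∈ L, (l : G) ∈ MulAction.stabilizer G S := by
      intro l hl
      rw [MulAction.mem_stabilizer_set_iff_subset_smul_set (Set.toFinite _)]
      rintro _ ⟨m, hm, rfl⟩
      refine ⟨((l⁻¹ * m : C) : G) • a, ⟨_, mul_mem (inv_mem hl) hm, rfl⟩, ?_⟩
      show (l : G) • ((l⁻¹ * m : C) : G) • a = _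
      rw [← mul_smul]; simp
    obtain ⟨x, hxO, hx⟩ := hne
    have hco : IsCoatom H := (MulAction.isCoatom_stabilizer_iff_preprimitive G a).2 hprim
    have htop : MulAction.stabilizer G S = ⊤ := by
      refine hco.2 _ (lt_of_le_of_ne hHS fun e => hx (hinj x 1 ?_))
      rw [OneMemClass.coe_one, one_smul]
      exact (e.symm ▸ hLS x (Subgroup.subset_closure hxO) : (x : G) ∈ H)
    rw [eq_top_iff]
    intro y _
    have h1 : (y : G) • a ∈ (y : G) • S := Set.smul_mem_smul_set ⟨1, one_mem _, by simp⟩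
    rw [MulAction.mem_stabilizer_iff.1 (htop.symm ▸ Subgroup.mem_top (y : G))] at h1
    obtain ⟨l, hl, e⟩ := h1
    exact hinj l y e ▸ hl
  -- basic sets contain elements of each prime order
  have hmeet : ∀ p : ℕ, p.Prime → p ∣ Nat.card Ω → ∀ x : C, x ≠ 1 →
      (∃ y, R x y ∧ y ≠ 1 ∧ y ^ p = 1) ∧ ∀ u, u ^ p = 1 → x ^ p ≠ 1 → R x (x * u) := by
    intro p hp hpn x hx
    have := Fact.mk hp
    let T : Finset C := Finset.univ.filter (R x)
    let A : MonoidAlgebra (ZMod p) C := ∑ t ∈ T, MonoidAlgebra.single t 1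
    -- coefficients of powers of the basic set are invariant
    have hinv : ∀ (k : ℕ) (y y' : C), R y y' → (A ^ k).coeff y = (A ^ k).coeff y' := by
      intro k
      induction k with
      | zero =>
        intro y y' hyy
        have h1 : y = 1 ↔ y' = 1 := by
          constructor
          · rintro rfl
            obtain ⟨h, hh, e⟩ := hyy
            exact hinj _ _ (by rw [← e, OneMemClass.coe_one, mul_one,
              MulAction.mem_stabilizer_iff.1 hh, one_smul])
          · rintro rfl
            obtain ⟨h, hh, e⟩ := hRsymm _ _ hyy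
            exact hinj _ _ (by rw [← e, OneMemClass.coe_one, mul_one,
              MulAction.mem_stabilizer_iff.1 hh, one_smul])
        simp [MonoidAlgebra.one_def, MonoidAlgebra.coeff_single, Finsupp.single_apply, eq_comm, h1]
      | succ k ih =>
        intro y y' ⟨h, hh, e⟩
        have hexp : ∀ z : C, (A ^ (k + 1)).coeff z
            = ∑ w : C, if R x (w⁻¹ * z) then (A ^ k).coeff w else 0 := by
          intro z
          rw [pow_succ, Finset.mul_sum, MonoidAlgebra.coeff_sum, Finset.sum_apply',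
            ← Finset.sum_filter]
          refine Finset.sum_nbij' (fun t => z * t⁻¹) (fun w => w⁻¹ * z) ?_ ?_ ?_ ?_ ?_
          · intro t ht; simpa [T, mul_comm z t⁻¹] using ht
          · intro w hw; simpa [T] using hw
          · intro t _; simp [mul_comm z t⁻¹]
          · intro w _; simp [mul_comm w⁻¹ z]
          · intro t _; simp [MonoidAlgebra.coeff_mul_single_apply]
        rw [hexp, hexp]
        choose π hπ using fun w : C => hsurj ((h * w) • a)
        have hπi : Function.Injective π := fun w w' e' => hinj _ _ (by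
          have h2 := (hπ w).symm.trans ((congrArg (fun v : C => (v : G) • a) e').trans (hπ w'))
          rw [mul_smul, mul_smul] at h2
          exact MulAction.injective h h2)
        refine Fintype.sum_bijective π (Finite.injective_iff_bijective.1 hπi) _ _ fun w => ?_
        have h1 : R (w⁻¹ * y) ((π w)⁻¹ * y') := hconv w y (π w) y' h hh (hπ w).symm e
        have h2 : R x (w⁻¹ * y) ↔ R x ((π w)⁻¹ * y') :=
          ⟨fun h3 => hRtrans _ _ _ h3 h1, fun h3 => hRtrans _ _ _ h3 (hRsymm _ _ h1)⟩
        rw [ih w (π w) ⟨h, hh, (hπ w).symm⟩]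
        simp only [h2]
    have hAp : ∀ z, (A ^ p).coeff z = ((T.filter fun t => t ^ p = z).card : ZMod p) := by
      intro z
      have : CharP (MonoidAlgebra (ZMod p) C) p :=
        charP_of_injective_algebraMap (FaithfulSMul.algebraMap_injective (ZMod p) _) p
      rw [sum_pow_char p T fun t => MonoidAlgebra.single t (1 : ZMod p), MonoidAlgebra.coeff_sum,
        Finset.sum_apply', Finset.natCast_card_filter]
      refine Finset.sum_congr rfl fun t _ => ?_
      simp [MonoidAlgebra.single_pow, MonoidAlgebra.coeff_single, Finsupp.single_apply]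
    have hzero : ∀ z, z ≠ 1 → ((T.filter fun t => t ^ p = z).card : ZMod p) = 0 := by
      intro z hz
      by_contra hne
      have hsub : Subgroup.closure {y : C | R z y} ≤ (powMonoidHom p : C →* C).range := by
        rw [Subgroup.closure_le]
        intro y hy
        have h1 : ((T.filter fun t => t ^ p = y).card : ZMod p) ≠ 0 := by
          rwa [← hAp, ← hinv p z y hy, hAp]
        obtain ⟨t, ht⟩ := Finset.card_pos.1 (Nat.pos_of_ne_zero fun e => h1 (by rw [e, Nat.cast_zero]))
        exact ⟨t, (Finset.mem_filter.1 ht).2⟩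
      rw [hgen {y | R z y} (fun u hu v hv => hRtrans z u v hu hv) ⟨z, hRrefl z, hz⟩,
        top_le_iff, MonoidHom.range_eq_top] at hsub
      obtain ⟨w, hw⟩ := exists_prime_orderOf_dvd_card' p (hcard.symm ▸ hpn : p ∣ Nat.card C)
      have h1 : w = 1 := (Finite.injective_iff_surjective.2 hsub) (by
        show w ^ p = 1 ^ p
        rw [← hw, pow_orderOf_eq_one, one_pow])
      rw [h1, orderOf_one] at hw
      exact hp.ne_one hw.symm
    -- cosets of the subgroup of order `p`
    have hstar : ∀ t u, R x t → t ^ p ≠ 1 → u ^ p = 1 → R x (t * u) := by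
      intro t u ht htp hu
      have hdvd := (ZMod.natCast_eq_zero_iff _ p).1 (hzero _ htp)
      have hsub : (T.filter fun s => s ^ p = t ^ p)
          ⊆ (Finset.univ.filter fun v : C => v ^ p = 1).image (t * ·) := by
        intro s hs
        refine Finset.mem_image.2 ⟨t⁻¹ * s, ?_, mul_inv_cancel_left _ _⟩
        simp only [Finset.mem_filter, Finset.mem_univ, true_and, mul_pow, inv_pow,
          (Finset.mem_filter.1 hs).2, inv_mul_cancel]
      have hle : ((Finset.univ.filter fun v : C => v ^ p = 1).image (t * ·)).card ≤ p :=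
        le_trans Finset.card_image_le (IsCyclic.card_pow_eq_one_le hp.pos)
      have hpos : 0 < (T.filter fun s => s ^ p = t ^ p).card :=
        Finset.card_pos.2 ⟨t, by simp [T, ht]⟩
      have hmem : t * u ∈ T.filter fun s => s ^ p = t ^ p := by
        rw [Finset.eq_of_subset_of_card_le hsub (hle.trans (Nat.le_of_dvd hpos hdvd))]
        exact Finset.mem_image.2 ⟨u, by simp [hu], rfl⟩
      simpa [T] using (Finset.mem_filter.1 hmem).1
    refine ⟨?_, fun u hu hxp => hstar x u (hRrefl x) hxp hu⟩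
    by_contra hno
    push Not at hno
    have hne1 : ∀ t, R x t → t ^ p ≠ 1 := by
      intro t ht
      refine hno t ht ?_
      rintro rfl
      obtain ⟨h, hh, e⟩ := hRsymm _ _ ht
      exact hx (hinj x 1 (by rw [← e, OneMemClass.coe_one, mul_one,
        MulAction.mem_stabilizer_iff.1 hh, one_smul]))
    -- the translations fixing the basic set
    let St : Set C := {u | ∀ t, R x t ↔ R x (u⁻¹ * t)}
    obtain ⟨w, hw⟩ := exists_prime_orderOf_dvd_card' p (hcard.symm ▸ hpn : p ∣ Nat.card C)
    have hwp : w ^ p = 1 := by rw [← hw, pow_orderOf_eq_one]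
    have hwSt : w ∈ St := fun t =>
      ⟨fun ht => by rw [mul_comm]; exact hstar t _ ht (hne1 t ht) (by simp [hwp]), fun ht => by
        have := hstar _ w ht (hne1 _ ht) hwp
        rwa [mul_comm w⁻¹ t, inv_mul_cancel_right] at this⟩
    have htop := hgen St (by
      intro u hu v ⟨h, hh, e⟩ t
      obtain ⟨t₀, ht₀⟩ := hsurj ((h⁻¹ * t) • a)
      have e₀ : (h * t₀) • a = (t : G) • a := by rw [mul_smul, ht₀, mul_smul, smul_inv_smul]
      have h1 : R (u⁻¹ * t₀) (v⁻¹ * t) := hconv u t₀ v t h hh e e₀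
      have h2 : R t₀ t := ⟨h, hh, e₀⟩
      constructor
      · intro h3
        exact hRtrans _ _ _ ((hu t₀).1 (hRtrans _ _ _ h3 (hRsymm _ _ h2))) h1
      · intro h3
        exact hRtrans _ _ _ ((hu t₀).2 (hRtrans _ _ _ h3 (hRsymm _ _ h1))) h2)
      ⟨w, hwSt, fun e => by rw [e, orderOf_one] at hw; exact hp.ne_one hw.symm⟩
    let StG : Subgroup C :=
      { carrier := St
        one_mem' := fun t => by simp
        mul_mem' := fun {u v} hu hv t => (hu t).trans ((hv _).trans (by rw [mul_inv_rev, mul_assoc]))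
        inv_mem' := fun {u} hu t => by rw [inv_inv, hu (u * t), inv_mul_cancel_left] }
    have hall : x ∈ StG := top_le_iff.2 htop |>.trans ((Subgroup.closure_le StG).2 le_rfl)
      (Subgroup.mem_top x)
    have h1 : R x 1 := by simpa using (hall x).1 (hRrefl x)
    obtain ⟨h, hh, e⟩ := hRsymm _ _ h1
    exact hx (hinj x 1 (by rw [← e, OneMemClass.coe_one, mul_one,
      MulAction.mem_stabilizer_iff.1 hh, one_smul]))
  -- two primes
  obtain ⟨p, hp, hpn⟩ := Nat.exists_prime_and_dvd (show Nat.card Ω ≠ 1 by omega)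
  obtain ⟨q, hq, hqn, hqp⟩ : ∃ q, q.Prime ∧ q ∣ Nat.card Ω ∧ q ≠ p := by
    by_contra! h
    refine hnp ((isPrimePow_nat_iff _).2 ⟨p, _, hp, ?_, (Nat.eq_prime_pow_of_unique_prime_dvd
      (by omega) fun {d} hd hdn => h d hd hdn).symm⟩)
    refine Nat.pos_of_ne_zero fun h0 => ?_
    have := Nat.eq_prime_pow_of_unique_prime_dvd (n := Nat.card Ω) (p := p) (by omega)
      fun {d} hd hdn => h d hd hdn
    rw [h0, pow_zero] at this
    omega
  have hone : ∀ x y : C, x ≠ 1 → y ≠ 1 → R x y := by
    intro x y hx hy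
    obtain ⟨u, hxu, hu1, hup⟩ := (hmeet p hp hpn x hx).1
    obtain ⟨v, hyv, hv1, hvq⟩ := (hmeet q hq hqn y hy).1
    have key : ∀ (w : C) (r s : ℕ), r.Prime → s.Prime → r ≠ s → w ≠ 1 → w ^ r = 1 →
        w ^ s ≠ 1 := by
      intro w r s hr hs hrs hw1 hwr hws
      have := Fact.mk hr
      have h1 := orderOf_eq_prime hwr hw1
      have h2 := orderOf_dvd_of_pow_eq_one hws
      rw [h1] at h2
      exact hrs ((Nat.prime_dvd_prime_iff_eq hr hs).1 h2)
    have h1 : R x (u * v) := hRtrans _ _ _ hxu
      ((hmeet q hq hqn u hu1).2 v hvq (key u p q hp hq hqp.symm hu1 hup))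
    have h2 : R y (v * u) := hRtrans _ _ _ hyv
      ((hmeet p hp hpn v hv1).2 u hup (key v q p hq hp hqp hv1 hvq))
    rw [mul_comm] at h2
    exact hRtrans _ _ _ h1 (hRsymm _ _ h2)
  refine hnot ?_
  rw [MulAction.is_two_pretransitive_iff]
  intro b c d e hbc hde
  obtain ⟨g₁, hg₁⟩ := MulAction.exists_smul_eq G b a
  obtain ⟨g₂, hg₂⟩ := MulAction.exists_smul_eq G d a
  obtain ⟨x, hx⟩ := hsurj (g₁ • c)
  obtain ⟨y, hy⟩ := hsurj (g₂ • e)
  have hx1 : x ≠ 1 := by
    rintro rfl
    rw [OneMemClass.coe_one, one_smul, ← hg₁] at hx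
    exact hbc (MulAction.injective g₁ hx)
  have hy1 : y ≠ 1 := by
    rintro rfl
    rw [OneMemClass.coe_one, one_smul, ← hg₂] at hy
    exact hde (MulAction.injective g₂ hy)
  obtain ⟨h, hh, eh⟩ := hone x y hx1 hy1
  refine ⟨g₂⁻¹ * h * g₁, ?_, ?_⟩
  · rw [mul_smul, mul_smul, hg₁, MulAction.mem_stabilizer_iff.1 hh, ← hg₂, inv_smul_smul]
  · rw [mul_smul, mul_smul, ← hx, ← mul_smul h, eh, hy, inv_smul_smul]

end Cfsg.Agent.S3559
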