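import Cfsg.Statements.S4186
import Cfsg.Agent.EqLemmas

set_option autoImplicit false
open Cfsg

namespace Cfsg.Agent.S4186

/-- Let T and X be subgroups of a group with T a finite 2-group normalizing X but not centralizing it. Then some element of T inverts some non-identity element of X under conjugation. -/
theorem result {G : Type*} [Group G] (T X : Subgroup G) [Finite ↥T] (hT : IsPGroup 2 ↥T) (hTN : T ≤ Subgroup.normalizer (X : Set G)) (hTC : ¬ T ≤ Subgroup.centralizer (X : Set G)) : ∃ t ∈ T, ∃ x ∈ X, x ≠ 1 ∧ t * x * t⁻¹ = x⁻¹ := by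
  obtain ⟨t0, ht0, ht0c⟩ := SetLike.not_le_iff_exists.mp hTC
  obtain ⟨k, hk⟩ := hT ⟨t0, ht0⟩
  have hk' : t0 ^ 2 ^ k = 1 := congrArg Subtype.val hk
  have key : ∀ (k : ℕ) (t : G), t ∈ T → t ^ 2 ^ k ∈ Subgroup.centralizer (X : Set G) →
      t ∉ Subgroup.centralizer (X : Set G) →
      ∃ s ∈ T, s ∉ Subgroup.centralizer (X : Set G) ∧ s ^ 2 ∈ Subgroup.centralizer (X : Set G) := by
    intro k
    induction k with
    | zero => intro t _ h1 h2; simp at h1; exact absurd h1 h2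
    | succ k ih =>
      intro t ht h1 h2
      by_cases h3 : t ^ 2 ∈ Subgroup.centralizer (X : Set G)
      · exact ⟨t, ht, h2, h3⟩
      · exact ih (t ^ 2) (pow_mem ht 2) (by rwa [← pow_mul, ← pow_succ']) h3
  obtain ⟨t, ht, htc, ht2⟩ := key k t0 ht0 (by rw [hk']; exact one_mem _) ht0c
  rw [Subgroup.mem_centralizer_iff] at htc ht2
  push Not at htc
  obtain ⟨x, hx, hxt⟩ := htc
  have hc : t * x * t⁻¹ ∈ X := (Subgroup.mem_normalizer_iff.mp (hTN ht) x).mp hx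
  refine ⟨t, ht, x⁻¹ * (t * x * t⁻¹), mul_mem (inv_mem hx) hc, ?_, ?_⟩
  · intro h
    apply hxt
    rw [inv_mul_eq_one] at h
    conv_lhs => rw [h]
    group
  · have h2 : x * t ^ 2 = t ^ 2 * x := ht2 x hx
    calc t * (x⁻¹ * (t * x * t⁻¹)) * t⁻¹ = t * x⁻¹ * t⁻¹ * (t ^ 2 * x) * (t ^ 2)⁻¹ := by group
      _ = t * x⁻¹ * t⁻¹ * (x * t ^ 2) * (t ^ 2)⁻¹ := by rw [h2]
      _ = (x⁻¹ * (t * x * t⁻¹))⁻¹ := by group

end Cfsg.Agent.S4186
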