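import Cfsg.Statements.S2758
import Cfsg.Agent.Lib.Involves.Basic
import Cfsg.Agent.S4186

set_option autoImplicit false
open Cfsg

namespace Cfsg.Agent.S2758

/-- For an odd prime p and a finite group G the following are equivalent: the dihedral group of order 2p is involved in G; some element of 2-power order normalizes but does not centralize some p-subgroup of G; some element of 2-power order inverts some nonidentity element of p-power order. -/
theorem result {G : Type*} [Group G] [Finite G] {p : ℕ} [Fact p.Prime] (hp : p ≠ 2) : (Cfsg.Involves (DihedralGroup p) G ↔ ∃ (x : G) (P : Subgroup G), (∃ k : ℕ, orderOf x = 2 ^ k) ∧ IsPGroup p ↥P ∧ x ∈ Subgroup.normalizer (P : Set G) ∧ x ∉ Subgroup.centralizer (P : Set G)) ∧ (Cfsg.Involves (DihedralGroup p) G ↔ ∃ x y : G, (∃ k : ℕ, orderOf x = 2 ^ k) ∧ (∃ k : ℕ, orderOf y = p ^ k) ∧ y ≠ 1 ∧ x * y * x⁻¹ = y⁻¹) := by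
  have AC : Cfsg.Involves (DihedralGroup p) G → ∃ x y : G, (∃ k : ℕ, orderOf x = 2 ^ k) ∧
      (∃ k : ℕ, orderOf y = p ^ k) ∧ y ≠ 1 ∧ x * y * x⁻¹ = y⁻¹ := by
    intro h
    obtain ⟨K, f, hf⟩ := Involves.exists_hom_of_involves h
    obtain ⟨t, y, ht, hy, hty, hfy⟩ := Involves.exists_inverting_of_surjective hp f hf
    refine ⟨t, y, ?_, ?_, ?_, congrArg Subtype.val hty⟩
    · rwa [Subgroup.orderOf_coe]
    · rwa [Subgroup.orderOf_coe]
    · intro h1
      exact hfy (by rw [show y = 1 from Subtype.ext h1, map_one])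
  refine ⟨⟨fun h => ?_, ?_⟩, AC, ?_⟩
  · obtain ⟨x, y, hx, ⟨k, hk⟩, hy1, hxy⟩ := AC h
    refine ⟨x, Subgroup.zpowers y, hx, IsPGroup.of_card (n := k) (by rw [Nat.card_zpowers, hk]), ?_, ?_⟩
    · rw [Subgroup.mem_normalizer_iff_map_conj_eq, MonoidHom.map_zpowers]
      show Subgroup.zpowers (x * y * x⁻¹) = _
      rw [hxy, Subgroup.zpowers_inv]
    · intro hc
      have h1 := Subgroup.mem_centralizer_iff.1 hc y (Subgroup.mem_zpowers y)
      rw [← h1, mul_inv_cancel_right] at hxy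
      have h2 : orderOf y ∣ 2 := orderOf_dvd_of_pow_eq_one (by
        rw [sq]; nth_rw 2 [hxy]; exact mul_inv_cancel y)
      rw [hk] at h2
      rcases k with _ | k
      · exact hy1 (orderOf_eq_one_iff.1 (by simpa using hk))
      · exact hp ((Nat.prime_dvd_prime_iff_eq Fact.out Nat.prime_two).1
          ((dvd_pow_self p k.succ_ne_zero).trans h2))
  · rintro ⟨x, P, ⟨k, hk⟩, hP, hxN, hxC⟩
    have : Fact (Nat.Prime 2) := ⟨Nat.prime_two⟩
    obtain ⟨t, ht, y, hy, hy1, hty⟩ := S4186.result (Subgroup.zpowers x) P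
      (IsPGroup.of_card (n := k) (by rw [Nat.card_zpowers, hk])) (Subgroup.zpowers_le.2 hxN)
      (fun hle => hxC (hle (Subgroup.mem_zpowers x)))
    have h2 : orderOf t ∣ 2 ^ k := hk ▸ orderOf_dvd_of_mem_zpowers ht
    obtain ⟨j, -, hj⟩ := (Nat.dvd_prime_pow Nat.prime_two).1 h2
    obtain ⟨i, hi⟩ := IsPGroup.iff_orderOf.1 hP ⟨y, hy⟩
    rw [Subgroup.orderOf_mk] at hi
    exact Involves.involves_dihedral_of_inverting hp ⟨j, hj⟩ ⟨i, hi⟩ hy1 hty
  · rintro ⟨x, y, hx, hy, hy1, hxy⟩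
    exact Involves.involves_dihedral_of_inverting hp hx hy hy1 hxy

end Cfsg.Agent.S2758
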