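import Cfsg.Statements.S0106
import Cfsg.Agent.Lib.Transfer.QuaternionFusion

set_option autoImplicit false
open Cfsg

namespace Cfsg.Agent.S0106

/-- A finite group with generalized quaternion Sylow 2-subgroups either has a normal 2-complement or has a section isomorphic to SL(2,3). -/
theorem result {G : Type*} [Group G] [Finite G] (T : Sylow 2 G) (n : ℕ) (hn : 1 ≤ n) (hT : Nonempty ((T : Subgroup G) ≃* QuaternionGroup (2 ^ n))) : Cfsg.HasNormalPComplement 2 G ∨ ∃ (H K : Subgroup G) (hK : (K.subgroupOf H).Normal), Nonempty ((H ⧸ K.subgroupOf H) ≃* Matrix.SpecialLinearGroup (Fin 2) (ZMod 3)) := by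
  obtain ⟨e⟩ := hT
  by_cases hloc : ∀ R : Subgroup G, R ≤ (T : Subgroup G) → ∀ y ∈ Subgroup.normalizer (R : Set G),
      Nat.Coprime (orderOf y) 2 → y ∈ Subgroup.centralizer (R : Set G)
  · exact Or.inl (Transfer.hasNormalPComplement_of_local T fun R hR _ => hloc R hR.1)
  · right
    push Not at hloc
    obtain ⟨R, hR, y, hy, hco, hnc⟩ := hloc
    set i : R →* QuaternionGroup (2 ^ n) := e.toMonoidHom.comp (Subgroup.inclusion hR) with hi
    have e1 : R ≃* i.range := MonoidHom.ofInjective (e.injective.comp (Subgroup.inclusion_injective hR))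
    rcases Transfer.quaternion_subgroup_cases rfl i.range with h | he
    · exact absurd (Transfer.centralizes_of_isPGroup_mulAut (Transfer.isPGroup_mulAut_of_equiv e1 h) hy hco) hnc
    · obtain ⟨e2⟩ := he
      exact Transfer.exists_slTwoThree_section (e1.trans e2) hy hco hnc

end Cfsg.Agent.S0106
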