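import Cfsg.Statements.S0942
import Cfsg.Agent.Lib.ZStar.SecondPrincipal
import Cfsg.Agent.Lib.Cores.Basic

set_option autoImplicit false
open Cfsg

namespace Cfsg.Agent.S0942

/-- Let u be a p-element of the finite group G, let v lie in the largest normal subgroup of C_G(u) of order prime to p, and let χ belong to the principal block (relative to a maximal ideal M of the algebraic integers containing p). Then χ (u * v) = χ u. -/
theorem result {G : Type*} [Group G] [Finite G] (p : ℕ) [Fact p.Prime] (M : Ideal Cfsg.AlgInt) (hM : Cfsg.IsPModular p M) (u : G) (hu : ∃ k : ℕ, orderOf u = p ^ k) (v : G) (hv : v ∈ Cfsg.centralizerPPrimeCore p u) (χ : Cfsg.IrrCharacter G) (hχ : χ ∈ Cfsg.principalBlock M G) : (χ : G → ℂ) (u * v) = (χ : G → ℂ) u := by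
  obtain ⟨k, hk⟩ := hu
  set C := Subgroup.centralizer ({u} : Set G) with hC
  set K := Cfsg.pPrimeCore p C with hK
  refine ZStar.apply_mul_eq hM ⟨k, hk⟩ (Cfsg.centralizerPPrimeCore p u) ?_ ?_ ?_ hv hχ
  · rw [Cfsg.centralizerPPrimeCore, Subgroup.card_map_of_injective (Subgroup.subtype_injective _)]
    exact Cores.not_dvd_card_pPrimeCore
  · intro o ho
    obtain ⟨⟨o', ho'⟩, -, rfl⟩ := Subgroup.mem_map.1 ho
    exact (Subgroup.mem_centralizer_iff.1 ho' u rfl).symm
  · intro c hc o ho
    obtain ⟨o', ho', rfl⟩ := Subgroup.mem_map.1 ho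
    have hcC : c ∈ C := Subgroup.mem_centralizer_iff.2 fun z hz => by
      rw [Set.mem_singleton_iff.1 hz]; exact hc.eq.symm
    exact Subgroup.mem_map.2 ⟨⟨c, hcC⟩ * o' * ⟨c, hcC⟩⁻¹,
      (inferInstance : (Cfsg.pPrimeCore p C).Normal).conj_mem o' ho' _, rfl⟩

end Cfsg.Agent.S0942
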