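import Cfsg.Statements.S1328
import Cfsg.Agent.Lib.Components.PLike
import Cfsg.Agent.Lib.Components.GenFitting
import Cfsg.Agent.EqLemmas

set_option autoImplicit false
open Cfsg

namespace Cfsg.Agent.S1328

open Subgroup
open scoped commutatorElement

/-- If `y` normalizes `E` and `t E t⁻¹`, these commute, and `y` lies in a subgroup `O` of odd order
normalized by the diagonal elements, then `y` centralizes `E`. -/
theorem centralizes_of_diag {G : Type*} [Group G] [Finite G] {E : Subgroup G}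
    (hq : Cfsg.IsQuasisimple ↥E) (hEeven : 2 ∣ Nat.card E) {t : G} (ht : t * t = 1)
    (hc : ∀ u ∈ E, ∀ v ∈ E, Commute u (t * v * t⁻¹)) {O : Subgroup G}
    (hO : (Nat.card O).Coprime 2) (hOn : ∀ u ∈ E, u * (t * u * t⁻¹) ∈ normalizer (O : Set G))
    {y : G} (hy : y ∈ O) (hyE : y ∈ normalizer (E : Set G))
    (hyt : Commute y t) : y ∈ centralizer (E : Set G) := by
  have hty : y * t = t * y := hyt.eq
  let δ : ↥E →* G :=
    { toFun := fun u => u * (t * u * t⁻¹)
      map_one' := by simp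
      map_mul' := fun u v => by
        have h := (hc v v.2 u u.2).eq
        calc ((u * v : ↥E) : G) * (t * (u * v : ↥E) * t⁻¹)
            = u * (v * (t * u * t⁻¹)) * (t * v * t⁻¹) := by push_cast; group
          _ = u * ((t * u * t⁻¹) * v) * (t * v * t⁻¹) := by rw [h]
          _ = u * (t * u * t⁻¹) * (v * (t * v * t⁻¹)) := by group }
  have hδ : ∀ u : ↥E, δ u = (u : G) * (t * u * t⁻¹) := fun _ => rfl
  have hfix : ∀ u : ↥E, t * δ u * t⁻¹ = δ u := by
    intro u
    have h2 : t⁻¹ = t := inv_eq_of_mul_eq_one_right ht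
    rw [hδ]
    calc t * ((u : G) * (t * u * t⁻¹)) * t⁻¹ = (t * u * t⁻¹) * ((t * t) * u * (t * t)⁻¹) := by group
      _ = (t * u * t⁻¹) * u := by rw [ht]; group
      _ = u * (t * u * t⁻¹) := ((hc u u.2 u u.2).eq).symm
  set N := O.comap δ with hN
  have hNn : N.Normal := ⟨fun a ha b => by
    show δ (b * a * b⁻¹) ∈ O
    rw [map_mul, map_mul, map_inv]
    exact (mem_normalizer_iff.mp (hOn b b.2) _).mp ha⟩
  rcases Components.IsQuasisimple.normal_eq_top_or_le_center hq N with h | h
  · exfalso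
    have := hq.1
    refine Components.not_dvd_card_of_pElements_central (G := ↥E) (p := 2) ?_ hEeven
    rintro u ⟨k, hk⟩
    have h1 : δ u = 1 := orderOf_eq_one_iff.mp (Nat.eq_one_of_dvd_coprimes (hO.pow_right k)
      (Subgroup.orderOf_dvd_natCard O (h.ge (mem_top u) : u ∈ N))
      (orderOf_dvd_of_pow_eq_one (by rw [← map_pow, hk, map_one])))
    refine mem_center_iff.mpr fun v => Subtype.ext ?_
    rw [hδ, mul_eq_one_iff_eq_inv] at h1
    have h2 := (hc v v.2 u u.2).inv_right.eq
    rw [← h1] at h2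
    exact h2
  · have hall : ∀ v' : ↥E, (⟨y * v' * y⁻¹ * (v' : G)⁻¹,
        E.mul_mem ((mem_normalizer_iff.mp hyE _).mp v'.2) (E.inv_mem v'.2)⟩ : ↥E) ∈ center ↥E := by
      rintro ⟨v, hv⟩
      set v' : ↥E := ⟨v, hv⟩
      have hconj : δ ⟨y * v * y⁻¹, (mem_normalizer_iff.mp hyE v).mp hv⟩ = y * δ v' * y⁻¹ := by
        rw [hδ, hδ]
        show y * v * y⁻¹ * (t * (y * v * y⁻¹) * t⁻¹) = y * (v * (t * v * t⁻¹)) * y⁻¹
        have h3 : t * y = y * t := hty.symm
        calc y * v * y⁻¹ * (t * (y * v * y⁻¹) * t⁻¹)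
            = y * v * y⁻¹ * ((t * y) * v * (t * y)⁻¹) := by group
          _ = y * (v * (t * v * t⁻¹)) * y⁻¹ := by rw [h3]; group
      refine h ?_
      show δ _ ∈ O
      have e : (⟨y * v * y⁻¹ * v⁻¹, E.mul_mem ((mem_normalizer_iff.mp hyE v).mp hv) (E.inv_mem hv)⟩ : ↥E) =
          ⟨y * v * y⁻¹, (mem_normalizer_iff.mp hyE v).mp hv⟩ * v'⁻¹ := Subtype.ext rfl
      rw [e, map_mul, map_inv, hconj, mul_assoc, mul_assoc, ← mul_assoc (δ v')]
      exact O.mul_mem hy ((mem_normalizer_iff.mp (hOn v hv) _).mp (O.inv_mem hy))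
    let ψ : ↥E →* ↥(center ↥E) :=
      { toFun := fun v => ⟨_, hall v⟩
        map_one' := Subtype.ext (Subtype.ext (by simp))
        map_mul' := fun a b => by
          refine Subtype.ext (Subtype.ext ?_)
          have hz : (a : G) * (y * b * y⁻¹ * (b : G)⁻¹) = y * b * y⁻¹ * (b : G)⁻¹ * a :=
            congrArg Subtype.val (mem_center_iff.mp (hall b) a)
          show y * ((a : G) * b) * y⁻¹ * ((a : G) * b)⁻¹ =
            y * a * y⁻¹ * (a : G)⁻¹ * (y * b * y⁻¹ * (b : G)⁻¹)
          calc y * ((a : G) * b) * y⁻¹ * ((a : G) * b)⁻¹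
              = y * a * y⁻¹ * (y * b * y⁻¹ * (b : G)⁻¹) * (a : G)⁻¹ := by group
            _ = y * a * y⁻¹ * (a : G)⁻¹ * ((a : G) * (y * b * y⁻¹ * (b : G)⁻¹)) * (a : G)⁻¹ := by group
            _ = _ := by rw [hz]; group }
    have hker : ψ.ker = ⊤ := by
      have := hq.1
      rw [eq_top_iff, ← Group.IsPerfect.commutator_eq_top (G := ↥E), _root_.commutator_def,
        commutator_le]
      intro a _ b _
      rw [MonoidHom.mem_ker, map_commutatorElement, commutatorElement_eq_one_iff_mul_comm]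
      exact Subtype.ext (mem_center_iff.mp (ψ b).2 _)
    intro v hv
    have h1 := congrArg (fun w : ↥(center ↥E) => ((w : ↥E) : G))
      (MonoidHom.mem_ker.mp (hker.ge (mem_top (⟨v, hv⟩ : ↥E))))
    have h2 : y * v * y⁻¹ * v⁻¹ = 1 := h1
    rw [mul_inv_eq_one, mul_inv_eq_iff_eq_mul] at h2
    exact h2.symm

/-- Let G be finite, H ≤ G with O(H) = 1, t an involution of G normalizing H, and Y a nontrivial subgroup of O(C_H(t)). Then some component E of H is normalized by t and by Y and centralized by neither t nor Y. -/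
theorem result {G : Type*} [Group G] [Finite G] (H : Subgroup G) (hO : Cfsg.oddCore ↥H = ⊥) (t : G) (ht : orderOf t = 2) (htH : t ∈ Subgroup.normalizer (H : Set G)) (Y : Subgroup G) (hY1 : Y ≠ ⊥) (hY : Y ≤ (Cfsg.oddCore ↥(H ⊓ Subgroup.centralizer ({t} : Set G))).map (H ⊓ Subgroup.centralizer ({t} : Set G)).subtype) : ∃ E : Subgroup ↥H, Cfsg.IsComponent E ∧ (E.map H.subtype).map (MulAut.conj t).toMonoidHom = E.map H.subtype ∧ Y ≤ Subgroup.normalizer ((E.map H.subtype : Subgroup G) : Set G) ∧ ¬ (t ∈ Subgroup.centralizer ((E.map H.subtype : Subgroup G) : Set G)) ∧ ¬ (Y ≤ Subgroup.centralizer ((E.map H.subtype : Subgroup G) : Set G)) := by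
  classical
  haveI : Fact (Nat.Prime 2) := ⟨Nat.prime_two⟩
  set CH := H ⊓ centralizer ({t} : Set G) with hCH
  set X := H ⊔ zpowers t with hX
  have hHX : H ≤ X := le_sup_left
  have htX : t ∈ X := mem_sup_right (mem_zpowers t)
  set H' := H.subgroupOf X with hH'
  have hHn : H'.Normal := normal_subgroupOf_of_le_normalizer (sup_le le_normalizer (zpowers_le.mpr htH))
  have ht2 : t * t = 1 := by rw [← pow_two, ← ht, pow_orderOf_eq_one]
  -- `O(X) = 1`
  have hOX : Cfsg.pPrimeCore 2 ↥X = ⊥ := by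
    set O := Cfsg.pPrimeCore 2 ↥X
    have hH'core : Cfsg.pPrimeCore 2 ↥H' = ⊥ := by
      rw [← Cfsg.Agent.ExtLayer.map_pPrimeCore 2 (subgroupOfEquivOfLe hHX).symm,
        Subgroup.map_eq_bot_iff_of_injective _ (MulEquiv.injective _)]
      exact hO
    have hcap : O.subgroupOf H' ≤ ⊥ := hH'core ▸ Cfsg.Agent.Cores.le_pPrimeCore inferInstance
      (((Cfsg.Agent.Cores.coprime_card_pPrimeCore (G := ↥X) 2)).coprime_dvd_left
        (card_comap_dvd_of_injective _ _ (subtype_injective H')))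
    rw [eq_bot_iff]
    intro u hu
    rw [mem_bot]
    set q := QuotientGroup.mk' H'
    set t' : ↥X := ⟨t, htX⟩
    have hgen : (⊤ : Subgroup ↥X) ≤ H' ⊔ zpowers t' := by
      intro v _
      have h1 : v ∈ (H ⊔ zpowers t).subgroupOf X := mem_subgroupOf.mpr v.2
      rw [subgroupOf_sup hHX (zpowers_le.mpr htX)] at h1
      have hle : (zpowers t).subgroupOf X ≤ zpowers t' := by
        intro w hw
        obtain ⟨i, hi⟩ := mem_subgroupOf.mp hw
        exact ⟨i, Subtype.ext (by simpa [t'] using hi)⟩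
      exact (sup_le_sup le_rfl hle : H' ⊔ (zpowers t).subgroupOf X ≤ H' ⊔ zpowers t') h1
    have hu2 : u ^ 2 ∈ H' := by
      obtain ⟨h0, hh0, w, ⟨i, rfl⟩, hvw⟩ := mem_sup_of_normal_left.mp (hgen (mem_top u))
      rw [← QuotientGroup.eq_one_iff]
      show q (u ^ 2) = 1
      rw [map_pow, ← hvw, map_mul, show q h0 = 1 from (QuotientGroup.eq_one_iff _).mpr hh0, one_mul,
        map_zpow, ← zpow_natCast, ← zpow_mul, mul_comm i, zpow_mul, zpow_natCast, ← map_pow,
        show t' ^ 2 = 1 from Subtype.ext (by show t ^ 2 = 1; rw [pow_two, ht2]), map_one, one_zpow]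
    have h1 : u ^ 2 = 1 :=
      congrArg Subtype.val (mem_bot.mp (hcap (show (⟨u ^ 2, hu2⟩ : ↥H') ∈ O.subgroupOf H' from
        mem_subgroupOf.mpr (O.pow_mem hu 2))))
    exact orderOf_eq_one_iff.mp (Nat.eq_one_of_dvd_coprimes
      (Cfsg.Agent.Cores.coprime_card_pPrimeCore (G := ↥X) 2)
      (Subgroup.orderOf_dvd_natCard O hu) (orderOf_dvd_of_pow_eq_one h1))
  set t' : ↥X := ⟨t, htX⟩
  set R := zpowers t' with hR
  have hRp : IsPGroup 2 ↥R := IsPGroup.of_card (n := 1) (by
    rw [Nat.card_zpowers, pow_one, ← orderOf_injective X.subtype (subtype_injective X) t']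
    exact ht)
  set C' := centralizer (R : Set ↥X) with hC'
  have hmemC : ∀ u : ↥X, u ∈ C' ↔ (u : G) * t = t * u := by
    intro u
    rw [hC', hR, zpowers_eq_closure, centralizer_closure]
    constructor
    · intro hu
      exact (congrArg Subtype.val (hu t' rfl)).symm
    · intro hu z hz
      rw [Set.mem_singleton_iff] at hz
      subst hz
      exact Subtype.ext hu.symm
  set O' := (Cfsg.pPrimeCore 2 ↥C').map C'.subtype with hO'
  have hYO : ∀ y ∈ Y, ∃ hy : y ∈ X, (⟨y, hy⟩ : ↥X) ∈ O' := by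
    intro y hy
    obtain ⟨v, hv, rfl⟩ := hY hy
    refine ⟨hHX v.2.1, ?_⟩
    let ι : ↥CH →* ↥C' :=
      { toFun := fun w => ⟨⟨w, hHX w.2.1⟩, (hmemC _).mpr (w.2.2 t rfl).symm⟩
        map_one' := rfl
        map_mul' := fun _ _ => rfl }
    have hι : Function.Injective ι := fun a b h =>
      Subtype.ext (congrArg (fun w : ↥C' => ((w : ↥X) : G)) h)
    have hr : ι.range.Normal := by
      refine ⟨?_⟩
      rintro _ ⟨w, rfl⟩ g
      refine ⟨⟨((g : ↥X) : G) * w * ((g : ↥X) : G)⁻¹, ?_, ?_⟩, Subtype.ext (Subtype.ext rfl)⟩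
      · exact mem_subgroupOf.mp (hHn.conj_mem ⟨w, hHX w.2.1⟩ (mem_subgroupOf.mpr w.2.1) g)
      · intro z hz
        rw [Set.mem_singleton_iff] at hz
        rw [hz]
        exact ((C'.mul_mem (C'.mul_mem g.2 (ι w).2) (C'.inv_mem g.2) |> (hmemC _).mp)).symm
    have h1 : (Cfsg.pPrimeCore 2 ↥CH).map ι ≤ Cfsg.pPrimeCore 2 ↥C' := by
      have e : (Cfsg.pPrimeCore 2 ↥CH).map ι =
          (Cfsg.pPrimeCore 2 ↥ι.range).map ι.range.subtype := by
        rw [← Cfsg.Agent.ExtLayer.map_pPrimeCore 2 (MonoidHom.ofInjective hι), Subgroup.map_map]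
        congr 1
      rw [e, Cfsg.Agent.Cores.pPrimeCore_map_subtype]
      exact inf_le_left
    exact ⟨ι v, h1 (mem_map_of_mem ι hv), Subtype.ext rfl⟩
  have hO'card : (Nat.card O').Coprime 2 := by
    rw [hO', Cfsg.Agent.Cores.card_map_subtype]
    exact Cfsg.Agent.Cores.coprime_card_pPrimeCore 2
  -- components of `H` in `X`
  have hcompX : ∀ E : Subgroup ↥H, Cfsg.IsComponent E →
      Cfsg.IsComponent ((E.map H.subtype).subgroupOf X) := by
    intro E hE
    have h1 : Cfsg.IsComponent ((E.map (subgroupOfEquivOfLe hHX).symm.toMonoidHom).map H'.subtype) :=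
      (Cfsg.Agent.Components.isComponent_map_subtype_iff hHn.isSubnormal _).mpr
        (Cfsg.Agent.Components.IsComponent.map_equiv _ hE)
    convert h1 using 1
    ext v
    constructor
    · rintro hv
      obtain ⟨e, he, hev⟩ := mem_subgroupOf.mp hv
      exact ⟨(subgroupOfEquivOfLe hHX).symm e, ⟨e, he, rfl⟩, Subtype.ext hev⟩
    · rintro ⟨_, ⟨e, he, rfl⟩, rfl⟩
      exact mem_subgroupOf.mpr ⟨e, he, rfl⟩
  have hnorm : ∀ E : Subgroup ↥H, Cfsg.IsComponent E → ∀ y ∈ Y,
      y ∈ normalizer (E.map H.subtype : Set G) := by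
    intro E hE y hy
    obtain ⟨hyX, hyO⟩ := hYO y hy
    have hc := hcompX E hE
    have hp : Cfsg.IsPComponent 2 ((E.map H.subtype).subgroupOf X) :=
      Cfsg.Agent.Components.isPComponent_iff.mpr ⟨hc.1, by
        refine ⟨(Cfsg.Agent.Components.isQuasisimple_congr ?_).mp hc.2,
          Cfsg.Agent.Components.IsComponent.pGen_eq hOX hc⟩
        have hbot : Cfsg.pPrimeCore 2 ↥((E.map H.subtype).subgroupOf X) = ⊥ := by
          apply Subgroup.map_injective (subtype_injective _)
          rw [Subgroup.map_bot, eq_bot_iff, ← hOX]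
          exact Cfsg.Agent.Cores.le_pPrimeCore_of_isSubnormal
            ((Cfsg.Agent.Cores.pPrimeCore_normal 2 _).isSubnormal.trans' hc.1)
            (Cfsg.Agent.Components.coprime_card_OCore _)
        exact ((QuotientGroup.quotientMulEquivOfEq hbot).trans QuotientGroup.quotientBot).symm⟩
    have h2 := le_normalizer_map X.subtype
      ⟨_, Cfsg.Agent.Components.pPrimeCore_centralizer_le_normalizer hRp hp hyO, rfl⟩
    rwa [map_subgroupOf_eq_of_le ((map_subtype_le E).trans hHX)] at h2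
  -- some component is not centralized by `Y`
  obtain ⟨E, hE, hEY⟩ : ∃ E : Subgroup ↥H, Cfsg.IsComponent E ∧
      ¬ Y ≤ centralizer (E.map H.subtype : Set G) := by
    by_contra hcon
    refine hY1 (eq_bot_iff.mpr fun y hy => ?_)
    obtain ⟨hyX, hyO⟩ := hYO y hy
    have hyH : y ∈ H := by
      obtain ⟨v, -, hv⟩ := hY hy
      rw [← hv]; exact v.2.1
    have hyC : (⟨y, hyH⟩ : ↥H) ∈ centralizer (Cfsg.generalizedFittingSubgroup ↥H : Set ↥H) := by
      have hle : Cfsg.generalizedFittingSubgroup ↥H ≤ centralizer ({⟨y, hyH⟩} : Set ↥H) := by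
        refine sup_le ?_ ?_
        · refine Cfsg.Agent.Components.layer_le fun L hL l hl z hz => ?_
          rw [Set.mem_singleton_iff] at hz
          rw [hz]
          by_contra hne
          exact hcon ⟨L, hL, fun hYL => hne (Subtype.ext ((hYL hy) l ⟨l, hl, rfl⟩).symm)⟩
        · rw [Cfsg.Agent.Components.fitting_eq_pCore_of hO]
          intro l hl z hz
          rw [Set.mem_singleton_iff] at hz
          rw [hz]
          set l' : ↥H' := (subgroupOfEquivOfLe hHX).symm l
          have hl' : (l' : ↥X) ∈ Cfsg.pCore 2 ↥X := by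
            refine Cfsg.Agent.Cores.pCore_map_le_of_isSubnormal hHn.isSubnormal 2 ⟨l', ?_, rfl⟩
            have hle' : (Cfsg.pCore 2 ↥H).map (subgroupOfEquivOfLe hHX).symm.toMonoidHom ≤
                Cfsg.pCore 2 ↥H' :=
              Cfsg.Agent.Cores.le_pCore ((Cfsg.Agent.Cores.pCore_normal 2 ↥H).map _ (MulEquiv.surjective _))
                ((Cfsg.Agent.Cores.isPGroup_pCore 2 ↥H).map _)
            exact hle' ⟨l, hl, rfl⟩
          set π := QuotientGroup.mk' (Cfsg.pPrimeCore 2 ↥X)
          have h3 := Cfsg.Agent.Components.pPrimeCore_centralizer_le_centralizer_pCore hRp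
            ⟨⟨y, hyX⟩, hyO, rfl⟩
          have h4 : π l' ∈ Cfsg.pCore 2 (↥X ⧸ Cfsg.pPrimeCore 2 ↥X) :=
            Cfsg.Agent.Cores.le_pCore ((Cfsg.Agent.Cores.pCore_normal 2 ↥X).map π (QuotientGroup.mk'_surjective _))
              ((Cfsg.Agent.Cores.isPGroup_pCore 2 ↥X).map π) ⟨_, hl', rfl⟩
          have h5 := h3 _ h4
          rw [← map_mul, ← map_mul] at h5
          have hinj : Function.Injective π := by
            rw [← MonoidHom.ker_eq_bot_iff, QuotientGroup.ker_mk', hOX]
          exact Subtype.ext (congrArg Subtype.val (hinj h5)).symm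
      exact fun w hw => (hle hw _ rfl).symm
    have hyF := Cfsg.Agent.Components.centralizer_genFitting_le_fitting hyC
    rw [Cfsg.Agent.Components.fitting_eq_pCore_of hO] at hyF
    obtain ⟨k, hk⟩ := Cfsg.Agent.Cores.isPGroup_pCore 2 ↥H ⟨_, hyF⟩
    have hk' : y ^ 2 ^ k = 1 := congrArg (fun w : ↥(Cfsg.pCore 2 ↥H) => ((w : ↥H) : G)) hk
    have hd : orderOf y ∣ Nat.card O' := by
      rw [← Subgroup.orderOf_mk y hyX]
      exact Subgroup.orderOf_dvd_natCard O' hyO
    exact mem_bot.mpr (orderOf_eq_one_iff.mp (Nat.eq_one_of_dvd_coprimes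
      (hO'card.pow_right k) hd (orderOf_dvd_of_pow_eq_one hk')))
  refine ⟨E, hE, ?_, fun y hy => hnorm E hE y hy, ?_, hEY⟩
  all_goals set E0 := E.map H.subtype with hE0
  all_goals
    have hEX : E0 ≤ X := (map_subtype_le E).trans hHX
  all_goals
    have hEq : Cfsg.IsQuasisimple ↥E0 :=
      (Cfsg.Agent.Components.isQuasisimple_map_iff (subtype_injective H) E).mpr hE.2
  all_goals
    have hEeven : 2 ∣ Nat.card E0 := by
      rw [hE0, Cfsg.Agent.Cores.card_map_subtype]
      exact Cfsg.Agent.Components.IsComponent.dvd_card hO hE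
  all_goals set O0 := O'.map X.subtype with hO0
  all_goals
    have hO0card : (Nat.card O0).Coprime 2 := by
      rw [hO0, Cfsg.Agent.Cores.card_map_subtype]; exact hO'card
  all_goals
    have hO0n : ∀ g ∈ X, g * t = t * g → g ∈ normalizer (O0 : Set G) := fun g hg hgt => by
      refine le_normalizer_map X.subtype ⟨⟨g, hg⟩, ?_, rfl⟩
      exact le_normalizer_map C'.subtype ⟨⟨⟨g, hg⟩, (hmemC _).mpr hgt⟩,
        normalizer_eq_top (H := Cfsg.pPrimeCore 2 ↥C') ▸ mem_top _, rfl⟩
  all_goals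
    have hYt : ∀ y ∈ Y, Commute y t := fun y hy => by
      obtain ⟨v, -, hv⟩ := hY hy
      rw [← hv]
      exact (v.2.2 t rfl).symm
  · -- `t` normalizes `E`
    by_contra hne
    refine hEY fun y hy => ?_
    obtain ⟨hyX, hyO⟩ := hYO y hy
    refine centralizes_of_diag hEq hEeven ht2 ?_ hO0card ?_ (y := y) ⟨_, hyO, rfl⟩
      (hnorm E hE y hy) (hYt y hy)
    · intro u hu v hv
      have hc := hcompX E hE
      set t'' : ↥X := ⟨t, htX⟩
      have hne' : (E0.subgroupOf X).map (MulAut.conj t'').toMonoidHom ≠ E0.subgroupOf X := by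
        intro e
        apply hne
        have e' := congrArg (Subgroup.map X.subtype) e
        rw [map_subgroupOf_eq_of_le hEX, Subgroup.map_map,
          show X.subtype.comp (MulAut.conj t'').toMonoidHom = (MulAut.conj t).toMonoidHom.comp X.subtype
            from MonoidHom.ext fun _ => rfl, ← Subgroup.map_map, map_subgroupOf_eq_of_le hEX] at e'
        exact e'
      have h1 := commutator_eq_bot_iff_le_centralizer.mp
        (Cfsg.Agent.Components.IsComponent.commutator_eq_bot hc
          (Cfsg.Agent.Components.IsComponent.conj hc t'') (Ne.symm hne'))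
        (show (⟨u, hEX hu⟩ : ↥X) ∈ E0.subgroupOf X from mem_subgroupOf.mpr hu)
        _ ⟨⟨v, hEX hv⟩, mem_subgroupOf.mpr hv, rfl⟩
      exact (congrArg Subtype.val h1).symm
    · intro u hu
      have hu' := hEX hu
      refine hO0n _ (X.mul_mem hu' (X.mul_mem (X.mul_mem htX hu') (X.inv_mem htX))) ?_
      have h2 : t⁻¹ = t := inv_eq_of_mul_eq_one_right ht2
      have hcc : u * (t * u * t⁻¹) = (t * u * t⁻¹) * u := by
        have hc := hcompX E hE
        set t'' : ↥X := ⟨t, htX⟩
        have hne' : (E0.subgroupOf X).map (MulAut.conj t'').toMonoidHom ≠ E0.subgroupOf X := by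
          intro e
          apply hne
          have e' := congrArg (Subgroup.map X.subtype) e
          rw [map_subgroupOf_eq_of_le hEX, Subgroup.map_map,
            show X.subtype.comp (MulAut.conj t'').toMonoidHom = (MulAut.conj t).toMonoidHom.comp X.subtype
              from MonoidHom.ext fun _ => rfl, ← Subgroup.map_map, map_subgroupOf_eq_of_le hEX] at e'
          exact e'
        have h1 := commutator_eq_bot_iff_le_centralizer.mp
          (Cfsg.Agent.Components.IsComponent.commutator_eq_bot hc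
            (Cfsg.Agent.Components.IsComponent.conj hc t'') (Ne.symm hne'))
          (show (⟨u, hEX hu⟩ : ↥X) ∈ E0.subgroupOf X from mem_subgroupOf.mpr hu)
          _ ⟨⟨u, hEX hu⟩, mem_subgroupOf.mpr hu, rfl⟩
        exact (congrArg Subtype.val h1).symm
      calc u * (t * u * t⁻¹) * t = u * (t * u) := by group
        _ = (t * t) * u * (t * u) := by rw [ht2, one_mul]
        _ = t * ((t * u * t⁻¹) * (t * t) * u) := by group
        _ = t * ((t * u * t⁻¹) * u) := by rw [ht2, mul_one]
        _ = t * (u * (t * u * t⁻¹)) := by rw [hcc]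
  · -- `t` does not centralize `E`
    intro htC
    refine hEY fun y hy => ?_
    obtain ⟨hyX, hyO⟩ := hYO y hy
    have hc := hcompX E hE
    have hEC : E0.subgroupOf X ≤ C' := fun u hu => (hmemC u).mpr (htC u (mem_subgroupOf.mp hu))
    have hcC := Cfsg.Agent.Components.IsComponent.subgroupOf hc hEC
    rcases Cfsg.Agent.Components.IsComponent.le_or_commutes hcC
      (Cfsg.Agent.Cores.pPrimeCore_normal 2 ↥C').isSubnormal with h | h
    · exfalso
      refine Nat.not_coprime_of_dvd_of_dvd one_lt_two (hEeven) dvd_rfl ?_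
      refine (Cfsg.Agent.Cores.coprime_card_pPrimeCore (G := ↥C') 2).coprime_dvd_left ?_
      rw [← Nat.card_congr (subgroupOfEquivOfLe hEX).toEquiv, ← Nat.card_congr (subgroupOfEquivOfLe hEC).toEquiv]
      exact Subgroup.card_dvd_of_le h
    · intro u hu
      obtain ⟨w, hw, hwe⟩ := hyO
      have h1 := commutator_eq_bot_iff_le_centralizer.mp h
        (show (⟨⟨u, hEX hu⟩, hEC (mem_subgroupOf.mpr hu)⟩ : ↥C') ∈ (E0.subgroupOf X).subgroupOf C' from
          mem_subgroupOf.mpr (mem_subgroupOf.mpr hu)) w hw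
      have h2 := congrArg (fun z : ↥C' => ((z : ↥X) : G)) h1
      have h3 : ((w : ↥X) : G) = y := congrArg Subtype.val hwe
      simpa [h3] using h2.symm

end Cfsg.Agent.S1328
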