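import Cfsg.Statements.S5562
import Cfsg.Agent.Lib.Involution.Basic

set_option autoImplicit false
open Cfsg

namespace Cfsg.Agent.S5562

/-- Let G be a finite group, d an involution of G whose conjugates pairwise have products of odd order, and x any involution of G. Then the conjugacy class of d is the disjoint union, over the conjugates a of d commuting with x, of the sets of conjugates of d commuting with ax: every conjugate of d commutes with ax for exactly one conjugate a of d that commutes with x. -/
theorem result {G : Type*} [Group G] [Finite G] (d : G) (hd : orderOf d = 2)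
    (hodd : ∀ a ∈ conjugatesOf d, ∀ b ∈ conjugatesOf d, Odd (orderOf (a * b)))
    (x : G) (hx : orderOf x = 2) :
    ∀ e ∈ conjugatesOf d,
      ∃! a : G, a ∈ conjugatesOf d ∧ Commute a x ∧ Commute e (a * x) := by
  intro e he
  have hmem : ∀ c ∈ conjugatesOf d, orderOf c = 2 := fun c hc =>
    (Involution.orderOf_eq_of_isConj hc).symm.trans hd
  have hxx := Involution.mul_self hx
  have hee := Involution.mul_self (hmem e he)
  obtain ⟨f, hf_def⟩ : ∃ f, f = x * e * x := ⟨_, rfl⟩
  have hf : f ∈ conjugatesOf d := by
    have : IsConj e f := isConj_iff.mpr ⟨x, by rw [hf_def, Involution.inv_eq hx]⟩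
    exact IsConj.trans he this
  obtain ⟨m, hm⟩ := hodd e he f hf
  obtain ⟨u, hu_def⟩ : ∃ u, u = e * f := ⟨_, rfl⟩
  rw [← hu_def] at hm
  have hun : u ^ (2 * m + 1) = 1 := hm ▸ pow_orderOf_eq_one u
  have heu : e * u = f := by rw [hu_def, ← mul_assoc, hee, one_mul]
  -- the candidate
  obtain ⟨a, ha_def⟩ : ∃ a, a = e * u ^ (m + 1) := ⟨_, rfl⟩
  have hconj_e : e * u ^ (m + 1) * e = (u ^ (m + 1))⁻¹ := by
    have h := Involution.inverts_pow (Involution.inverts_mul_left (hmem e he) (hmem f hf)) (m + 1)
    rwa [Involution.inv_eq (hmem e he), ← hu_def] at h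
  have hxux : x * u * x = u⁻¹ := by
    have h1 : x * f * x = e := by
      calc x * f * x = (x * x) * e * (x * x) := by rw [hf_def]; simp only [mul_assoc]
        _ = e := by rw [hxx, one_mul, mul_one]
    have h2 : x * u * x = f * e := by
      calc x * u * x = (x * e * x) * (x * f * x) := by
            rw [hu_def]
            simp only [mul_assoc]
            rw [← mul_assoc x x, hxx, one_mul]
        _ = f * e := by rw [h1, ← hf_def]
    rw [h2, hu_def, Involution.inv_mul_eq (hmem e he) (hmem f hf)]
  have hxk : x * u ^ (m + 1) * x = (u ^ (m + 1))⁻¹ := by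
    have h := Involution.inverts_pow (t := x) (r := u) (by rw [Involution.inv_eq hx]; exact hxux) (m + 1)
    rwa [Involution.inv_eq hx] at h
  have hinv : (u ^ (m + 1))⁻¹ = u ^ m := by
    apply inv_eq_of_mul_eq_one_right
    rw [← pow_add, show m + 1 + m = 2 * m + 1 by omega, hun]
  have hax : x * a * x = a := by
    calc x * a * x = (x * e * x) * (x * u ^ (m + 1) * x) := by
          rw [ha_def]
          simp only [mul_assoc]
          rw [← mul_assoc x x, hxx, one_mul]
      _ = (e * u) * u ^ m := by rw [← hf_def, hxk, hinv, heu]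
      _ = a := by rw [ha_def, mul_assoc, ← pow_succ']
  have haea : a * e * a = f := by
    calc a * e * a = e * u ^ (m + 1) * e * e * u ^ (m + 1) := by rw [ha_def]; simp only [mul_assoc]
      _ = e * (u ^ (m + 1) * u ^ (m + 1)) := by
          simp only [mul_assoc]
          rw [← mul_assoc e e, hee, one_mul]
      _ = f := by rw [← pow_add, show m + 1 + (m + 1) = (2 * m + 1) + 1 by omega, pow_succ, hun, one_mul, heu]
  have haD : a ∈ conjugatesOf d := by
    obtain ⟨c, -, hc⟩ := (Involution.exists_conj_eq_mul_zpow_iff (hmem e he) (hmem f hf) ((m + 1 : ℕ) : ℤ)).2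
      ⟨(m + 1 : ℕ) * (m + 1 : ℕ), ⟨((m + 1 : ℕ) : ℤ), by rw [← hu_def, hm]; push_cast; ring⟩⟩
    rw [zpow_natCast, ← hu_def, ← ha_def] at hc
    exact IsConj.trans he (isConj_iff.mpr ⟨c, hc⟩)
  have comm_iff : ∀ b : G, orderOf b = 2 → Commute b x → (Commute e (b * x) ↔ b * e * b = f) := by
    intro b hb hbx
    have hbb := Involution.mul_self hb
    constructor
    · intro h
      calc b * e * b = b * (e * (b * x)) * x := by
            simp only [mul_assoc]
            rw [hxx, mul_one]
        _ = (b * b) * (x * e * x) := by rw [h.eq]; simp only [mul_assoc]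
        _ = f := by rw [hbb, one_mul, hf_def]
    · intro h
      show e * (b * x) = b * x * e
      calc e * (b * x) = b * (b * e * b) * x := by
            simp only [mul_assoc]
            rw [← mul_assoc b b, hbb, one_mul]
        _ = b * x * e := by
            rw [h, hf_def]
            simp only [mul_assoc]
            rw [hxx, mul_one]
  have hac : Commute a x := by
    show a * x = x * a
    calc a * x = x * a * x * x := by rw [hax]
      _ = x * a := by rw [mul_assoc, hxx, mul_one]
  refine ⟨a, ⟨haD, hac, (comm_iff a (hmem a haD) hac).2 haea⟩, ?_⟩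
  rintro b ⟨hb, hbx, hbe⟩
  have hbeb := (comm_iff b (hmem b hb) hbx).1 hbe
  have hv2 : (e * b) ^ 2 = u := by
    rw [hu_def, ← hbeb, sq]
    simp only [mul_assoc]
  have hvn : (e * b) ^ (2 * m + 1) = 1 := by
    have h1 : orderOf (e * b) ∣ 2 * (2 * m + 1) := orderOf_dvd_of_pow_eq_one (by rw [pow_mul, hv2, hun])
    have h2 : (orderOf (e * b)).Coprime 2 := Nat.coprime_two_right.mpr (hodd e he b hb)
    exact orderOf_dvd_iff_pow_eq_one.mp (h2.dvd_of_dvd_mul_left h1)
  have hv : e * b = u ^ (m + 1) := by
    rw [← hv2, ← pow_mul, show 2 * (m + 1) = (2 * m + 1) + 1 by omega, pow_succ, hvn, one_mul]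
  rw [ha_def, ← hv, ← mul_assoc, hee, one_mul]

end Cfsg.Agent.S5562
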