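import Cfsg.Statements.S4774
import Cfsg.Agent.Lib.SL2Cusp.Disc
import Cfsg.Agent.Lib.Codegree.Basic
import Cfsg.Agent.Lib.Blocks.Defect
import Cfsg.Agent.Lib.GLOrder.TorusNormalizer

set_option autoImplicit false
open Cfsg

namespace Cfsg.Agent.S4774

open Matrix GLTwoChar

variable {F : Type*} [Field F] [Fintype F] [DecidableEq F]

/-- Degrees divide one of `q`, `q + 1`, `q - 1`. -/
theorem degree_dvd {d : ℕ} (hd : d ∈ charDegrees (SpecialLinearGroup (Fin 2) F)) :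
    d ∣ Fintype.card F ∨ d ∣ Fintype.card F + 1 ∨ d ∣ Fintype.card F - 1 := by
  obtain ⟨θ, rfl⟩ := hd
  have hc := Blocks.charDegree_cast θ
  set d := charDegree (θ : SpecialLinearGroup (Fin 2) F → ℂ)
  have h1 : 1 ≤ Fintype.card F := Fintype.card_pos
  rcases sl_cases θ.2 with h | h | ⟨γ, -, h⟩ | ⟨γ, -, -, -, h⟩ | ⟨-, ⟨h, -⟩ | h⟩
  · rw [h, Pi.one_apply, Nat.cast_eq_one] at hc
    exact Or.inl (hc ▸ one_dvd _)
  · rw [h, stS_one, Nat.cast_inj] at hc
    exact Or.inl hc.dvd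
  · rw [h, psS_one, ← Nat.cast_add_one, Nat.cast_inj] at hc
    exact Or.inr (Or.inl hc.dvd)
  · rw [← hc] at h
    exact Or.inr (Or.inl (Dvd.intro_left 2 (by exact_mod_cast h)))
  · rw [← hc] at h
    have h' : (d : ℂ) + 1 = (Fintype.card F : ℂ) := by linear_combination h
    have h'' : d + 1 = Fintype.card F := by exact_mod_cast h'
    exact Or.inr (Or.inr (by rw [← h'', Nat.add_sub_cancel]))
  · rw [← hc] at h
    have h' : 2 * (d : ℂ) + 1 = (Fintype.card F : ℂ) := by linear_combination h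
    have h'' : 2 * d + 1 = Fintype.card F := by exact_mod_cast h'
    exact Or.inr (Or.inr (by rw [← h'', Nat.add_sub_cancel]; exact dvd_mul_left d 2))

/-- A character trivial on the centre gives a degree of the quotient. -/
theorem mem_psl {θ : SpecialLinearGroup (Fin 2) F → ℂ} (hθ : IsIrrCharacter _ θ)
    (hneg : θ (-1) = θ 1) {n : ℕ} (hn : θ 1 = (n : ℂ)) :
    n ∈ charDegrees (ProjectiveSpecialLinearGroup (Fin 2) F) := by
  let χ : IrrCharacter (SpecialLinearGroup (Fin 2) F) := ⟨θ, hθ⟩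
  have hker : Subgroup.center (SpecialLinearGroup (Fin 2) F) ≤ Codegree.kerSub χ := by
    intro z hz
    show θ z = θ 1
    rcases GLOrder.center_SL2.1 hz with rfl | rfl
    · rfl
    · exact hneg
  obtain ⟨ψ, hψ⟩ := Codegree.exists_quot χ _ hker
  refine ⟨ψ, ?_⟩
  have h1 : (ψ : ProjectiveSpecialLinearGroup (Fin 2) F → ℂ) 1 = (n : ℂ) := (hψ 1).trans hn
  rw [charDegree, h1, Complex.natCast_re, Nat.floor_natCast]

theorem psl_subset {d : ℕ} (hd : d ∈ charDegrees (ProjectiveSpecialLinearGroup (Fin 2) F)) :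
    d ∈ charDegrees (SpecialLinearGroup (Fin 2) F) := by
  obtain ⟨ψ, rfl⟩ := hd
  exact ⟨Codegree.inflate _ ψ, rfl⟩

theorem charDegrees_equiv {G H : Type*} [Group G] [Group H] (e : G ≃* H) :
    charDegrees G = charDegrees H := by
  ext d
  constructor <;> rintro ⟨χ, rfl⟩
  · exact ⟨⟨fun h => (χ : G → ℂ) (e.symm h), Char.IsIrrCharacter.comp_equiv χ.2 e.symm⟩,
      by simp [charDegree]⟩
  · exact ⟨⟨fun g => (χ : H → ℂ) (e g), Char.IsIrrCharacter.comp_equiv χ.2 e⟩,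
      by simp [charDegree]⟩

theorem stS_mem : Fintype.card F ∈ charDegrees (ProjectiveSpecialLinearGroup (Fin 2) F) := by
  refine mem_psl stS_irr ?_ stS_one
  simp only [stS, Pi.sub_apply, Pi.one_apply, SL2Cusp.psS_neg_one, psS_one]
  rw [MulChar.one_apply (isUnit_one.neg), one_mul]

theorem plus_mem (hodd : Odd (Fintype.card F)) (h5 : 5 < Fintype.card F) :
    Fintype.card F + 1 ∈ charDegrees (ProjectiveSpecialLinearGroup (Fin 2) F) := by
  have hu : Fintype.card F - 1 ≠ 0 := by omega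
  obtain ⟨δ, hδ⟩ := MulChar.exists_mulChar_orderOf F (dvd_refl (Fintype.card F - 1))
    (Complex.isPrimitiveRoot_exp _ hu)
  have hγ : (δ ^ 2) ^ 2 ≠ 1 := by
    rw [← pow_mul]
    intro h
    have := Nat.le_of_dvd (by norm_num) (hδ ▸ orderOf_dvd_of_pow_eq_one h)
    omega
  refine mem_psl ((psS_irr_iff _).2 hγ) ?_ (by rw [psS_one, Nat.cast_add_one])
  rw [SL2Cusp.psS_neg_one, psS_one, sq δ, MulChar.mul_apply, ← map_mul, neg_mul_neg, one_mul, map_one,
    one_mul]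

theorem minus_mem (hodd : Odd (Fintype.card F)) (h5 : 5 < Fintype.card F) :
    Fintype.card F - 1 ∈ charDegrees (ProjectiveSpecialLinearGroup (Fin 2) F) := by
  have h2 := SL2Cusp.two_ne_zero_of_odd hodd
  obtain ⟨t, ht, -⟩ := GLOrder.exists_nonsplit_torus (F := F) h2
  have hT : SL2Cusp.IsTorus (Subgroup.zpowers t) :=
    ⟨inferInstance, by rw [Nat.card_zpowers, ht, Nat.card_eq_fintype_card]⟩
  have : NeZero (Fintype.card F + 1) := ⟨Nat.succ_ne_zero _⟩
  obtain ⟨u, hu⟩ : ∃ u : ℂˣ, orderOf u = Fintype.card F + 1 := by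
    obtain ⟨u, hu⟩ := (Complex.isPrimitiveRoot_exp _ (Nat.succ_ne_zero (Fintype.card F))).isUnit
      (Nat.succ_ne_zero _)
    exact ⟨u, by rw [← orderOf_units, hu]; exact (Complex.isPrimitiveRoot_exp _ (Nat.succ_ne_zero _)).eq_orderOf.symm⟩
  have hgen : ∀ x : Subgroup.zpowers t, x ∈ Subgroup.zpowers
      (⟨t, Subgroup.mem_zpowers t⟩ : Subgroup.zpowers t) := by
    rintro ⟨x, k, rfl⟩
    exact ⟨k, Subtype.ext (by simp)⟩
  have hord : orderOf u ∣ orderOf (⟨t, Subgroup.mem_zpowers t⟩ : Subgroup.zpowers t) := by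
    rw [hu, Subgroup.orderOf_mk, ht, Nat.card_eq_fintype_card]
  let δ : Subgroup.zpowers t →* ℂˣ := monoidHomOfForallMemZpowers hgen hord
  have hex : ∃ c, (δ ^ 2) c ^ 2 ≠ 1 := by
    refine ⟨⟨t, Subgroup.mem_zpowers t⟩, ?_⟩
    rw [MonoidHom.pow_apply, ← pow_mul]
    show monoidHomOfForallMemZpowers hgen hord _ ^ _ ≠ 1
    rw [monoidHomOfForallMemZpowers_apply_gen]
    intro h
    have := Nat.le_of_dvd (by norm_num) (hu ▸ orderOf_dvd_of_pow_eq_one h)
    omega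
  obtain ⟨π, hπ, hv, -⟩ := SL2Cusp.exists_disc hT hodd (δ ^ 2) hex
  have hε : SL2Cusp.th (δ ^ 2) (SL2Cusp.negC hT hodd) = 1 := by
    rw [SL2Cusp.th_apply, MonoidHom.pow_apply, sq, ← map_mul,
      show SL2Cusp.negC hT hodd * SL2Cusp.negC hT hodd = 1 from Subtype.ext (by simp [SL2Cusp.negC]),
      map_one, Units.val_one]
  refine mem_psl hπ ?_ (by rw [hv.one, Nat.cast_sub (by omega), Nat.cast_one])
  rw [hv.negOne, hε, one_mul, hv.one]

/-- Let F be a finite field of odd characteristic t with q > 5 elements and let S be isomorphic to PSL(2,F) or to SL(2,F). Then the vertices of the character degree graph of S are the primes dividing q(q²−1); the prime t is adjacent to no vertex; two distinct primes dividing q² − 1 are adjacent exactly when one of them is 2, or both divide q + 1, or both divide q − 1. -/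
theorem result (F : Type*) [Field F] [Fintype F] (t : ℕ) [Fact t.Prime] [CharP F t] (ht : t ≠ 2) (q : ℕ) (hq : Fintype.card F = q) (h5 : 5 < q) {S : Type*} [Group S] [Finite S] (hS : Nonempty (S ≃* Matrix.ProjectiveSpecialLinearGroup (Fin 2) F) ∨ Nonempty (S ≃* Matrix.SpecialLinearGroup (Fin 2) F)) : Cfsg.degreePrimes S = {r : ℕ | r.Prime ∧ r ∣ q * (q ^ 2 - 1)} ∧ ∀ r s : ℕ, (Cfsg.degreeGraph S).Adj r s ↔ (r ≠ s ∧ r.Prime ∧ s.Prime ∧ r ∣ q ^ 2 - 1 ∧ s ∣ q ^ 2 - 1 ∧ (r = 2 ∨ s = 2 ∨ (r ∣ q + 1 ∧ s ∣ q + 1) ∨ (r ∣ q - 1 ∧ s ∣ q - 1))) := by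
  classical
  subst hq
  have hodd : Odd (Fintype.card F) := by
    obtain ⟨n, hp, hn⟩ := FiniteField.card F t
    rw [hn]
    exact (hp.odd_of_ne_two ht).pow
  have hup : ∀ d ∈ charDegrees S,
      d ∣ Fintype.card F ∨ d ∣ Fintype.card F + 1 ∨ d ∣ Fintype.card F - 1 := by
    intro d hd
    rcases hS with ⟨⟨e⟩⟩ | ⟨⟨e⟩⟩
    · exact degree_dvd (psl_subset (charDegrees_equiv e ▸ hd))
    · exact degree_dvd (charDegrees_equiv e ▸ hd)
  have hlow : ∀ d ∈ charDegrees (ProjectiveSpecialLinearGroup (Fin 2) F), d ∈ charDegrees S := by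
    intro d hd
    rcases hS with ⟨⟨e⟩⟩ | ⟨⟨e⟩⟩
    · rwa [charDegrees_equiv e]
    · rw [charDegrees_equiv e]
      exact psl_subset hd
  have m0 := hlow _ stS_mem
  have mp := hlow _ (plus_mem hodd h5)
  have mm := hlow _ (minus_mem hodd h5)
  have hfac : Fintype.card F ^ 2 - 1 = (Fintype.card F + 1) * (Fintype.card F - 1) := by
    rw [← Nat.sq_sub_sq, one_pow]
  refine ⟨Set.ext fun r => ⟨fun ⟨hr, d, hd, hrd⟩ => ⟨hr, ?_⟩, fun ⟨hr, h⟩ => ⟨hr, ?_⟩⟩, fun r s => ?_⟩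
  · rw [hfac]
    rcases hup d hd with h | h | h
    · exact dvd_mul_of_dvd_left (hrd.trans h) _
    · exact dvd_mul_of_dvd_right (dvd_mul_of_dvd_left (hrd.trans h) _) _
    · exact dvd_mul_of_dvd_right (dvd_mul_of_dvd_right (hrd.trans h) _) _
  · rw [hfac] at h
    rcases hr.dvd_mul.1 h with h | h
    · exact ⟨_, m0, h⟩
    rcases hr.dvd_mul.1 h with h | h
    · exact ⟨_, mp, h⟩
    · exact ⟨_, mm, h⟩
  · show (r ≠ s ∧ r.Prime ∧ s.Prime ∧ ∃ d ∈ charDegrees S, r * s ∣ d) ↔ _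
    rw [hfac]
    constructor
    · rintro ⟨hne, hr, hs, d, hd, hrs⟩
      have hr' : r ∣ d := (dvd_mul_right r s).trans hrs
      have hs' : s ∣ d := (dvd_mul_left s r).trans hrs
      rcases hup d hd with h | h | h
      · obtain ⟨n, hp, hn⟩ := FiniteField.card F t
        have e1 := (Nat.prime_dvd_prime_iff_eq hr hp).1 (hr.dvd_of_dvd_pow (hn ▸ hr'.trans h))
        have e2 := (Nat.prime_dvd_prime_iff_eq hs hp).1 (hs.dvd_of_dvd_pow (hn ▸ hs'.trans h))
        exact absurd (e1.trans e2.symm) hne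
      · exact ⟨hne, hr, hs, dvd_mul_of_dvd_left (hr'.trans h) _, dvd_mul_of_dvd_left (hs'.trans h) _,
          Or.inr (Or.inr (Or.inl ⟨hr'.trans h, hs'.trans h⟩))⟩
      · exact ⟨hne, hr, hs, dvd_mul_of_dvd_right (hr'.trans h) _, dvd_mul_of_dvd_right (hs'.trans h) _,
          Or.inr (Or.inr (Or.inr ⟨hr'.trans h, hs'.trans h⟩))⟩
    · rintro ⟨hne, hr, hs, h1, h2, h⟩
      refine ⟨hne, hr, hs, ?_⟩
      have h2p : 2 ∣ Fintype.card F + 1 := even_iff_two_dvd.1 hodd.add_one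
      have h2m : 2 ∣ Fintype.card F - 1 := by omega
      have key : r ∣ Fintype.card F + 1 ∧ s ∣ Fintype.card F + 1 ∨
          r ∣ Fintype.card F - 1 ∧ s ∣ Fintype.card F - 1 := by
        rcases h with rfl | rfl | h | h
        · rcases hs.dvd_mul.1 h2 with h | h
          · exact Or.inl ⟨h2p, h⟩
          · exact Or.inr ⟨h2m, h⟩
        · rcases hr.dvd_mul.1 h1 with h | h
          · exact Or.inl ⟨h, h2p⟩
          · exact Or.inr ⟨h, h2m⟩
        · exact Or.inl h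
        · exact Or.inr h
      have hco : Nat.Coprime r s := (Nat.coprime_primes hr hs).2 hne
      rcases key with ⟨a, b⟩ | ⟨a, b⟩
      · exact ⟨_, mp, hco.mul_dvd_of_dvd_of_dvd a b⟩
      · exact ⟨_, mm, hco.mul_dvd_of_dvd_of_dvd a b⟩

end Cfsg.Agent.S4774
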