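import Cfsg.Statements.S4782
import Cfsg.Agent.Lib.CharApp.TwoPrimeDegrees

set_option autoImplicit false
open Cfsg

namespace Cfsg.Agent.S4782

/-- If the finite group G is not solvable, then at least three distinct primes each divide some irreducible complex character degree of G. -/
theorem result {G : Type*} [Group G] [Finite G] (hG : ¬ Group.IsSolvable G) : ∃ p q r : ℕ, p ≠ q ∧ q ≠ r ∧ p ≠ r ∧ p ∈ Cfsg.degreePrimes G ∧ q ∈ Cfsg.degreePrimes G ∧ r ∈ Cfsg.degreePrimes G := by
  by_contra hno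
  apply hG
  by_cases h1 : ∃ p, p ∈ Cfsg.degreePrimes G
  · obtain ⟨p, hp⟩ := h1
    by_cases h2 : ∃ q ∈ Cfsg.degreePrimes G, q ≠ p
    · obtain ⟨q, hq, hqp⟩ := h2
      refine CharApp.TwoPrimeDegrees.isSolvable_of_two _ G le_rfl p q fun r hr => ?_
      by_contra hne
      rw [not_or] at hne
      exact hno ⟨p, q, r, hqp.symm, Ne.symm hne.2, Ne.symm hne.1, hp, hq, hr⟩
    · refine CharApp.TwoPrimeDegrees.isSolvable_of_two _ G le_rfl p p fun r hr => Or.inl ?_
      by_contra hne
      exact h2 ⟨r, hr, hne⟩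
  · exact CharApp.TwoPrimeDegrees.isSolvable_of_two _ G le_rfl 0 0 fun r hr => absurd ⟨r, hr⟩ h1

end Cfsg.Agent.S4782
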