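import Cfsg.Statements.S4812
import Cfsg.Agent.S4774

set_option autoImplicit false
open Cfsg

namespace Cfsg.Agent.S4812

open Matrix GLTwoChar S4774

variable {F : Type*} [Field F] [Fintype F] [DecidableEq F] [CharP F 2]

theorem neg_one_eq : (-1 : SpecialLinearGroup (Fin 2) F) = 1 := by
  apply Subtype.ext
  ext i j
  simp [CharTwo.neg_eq]

theorem even_plus_mem (h4 : 4 ≤ Fintype.card F) :
    Fintype.card F + 1 ∈ charDegrees (ProjectiveSpecialLinearGroup (Fin 2) F) := by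
  have hu : Fintype.card F - 1 ≠ 0 := by omega
  obtain ⟨δ, hδ⟩ := MulChar.exists_mulChar_orderOf F (dvd_refl (Fintype.card F - 1))
    (Complex.isPrimitiveRoot_exp _ hu)
  have hγ : δ ^ 2 ≠ 1 := fun h => by
    have h1 := sq_eq_one_of_char_two h
    rw [h1, orderOf_one] at hδ
    omega
  exact mem_psl ((psS_irr_iff _).2 hγ) (by rw [neg_one_eq]) (by rw [psS_one, Nat.cast_add_one])

theorem even_minus_mem (h4 : 4 ≤ Fintype.card F) :
    Fintype.card F - 1 ∈ charDegrees (ProjectiveSpecialLinearGroup (Fin 2) F) := by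
  have hpos : 0 < Nat.card {χ : IrrCharacter (GL (Fin 2) F) //
      (glDatum F).Cusp (χ : GL (Fin 2) F → ℂ)} := by
    rw [card_cusp]
    exact Nat.div_pos (le_trans (by norm_num) (Nat.mul_le_mul h4 (show 3 ≤ Fintype.card F - 1 by omega)))
      two_pos
  obtain ⟨⟨ψ, hc⟩⟩ := (Nat.card_pos_iff.1 hpos).1
  refine mem_psl (res_irr_of_char_two ψ.2) (by rw [neg_one_eq]) ?_
  rw [res, map_one, (gl_cusp ψ.2 hc).1, Nat.cast_sub (by omega), Nat.cast_one]

/-- Let F be a finite field of characteristic 2 with q ≥ 4 elements and let S be isomorphic to PSL(2,F) or to SL(2,F). Then the vertices of the character degree graph of S are the primes dividing q(q²−1), and two distinct primes are adjacent exactly when both divide q + 1 or both divide q − 1; so the graph has the three connected components {2}, the primes dividing q + 1 and the primes dividing q − 1, each complete. -/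
theorem result (F : Type*) [Field F] [Fintype F] [CharP F 2] (q : ℕ) (hq : Fintype.card F = q) (h4 : 4 ≤ q) {S : Type*} [Group S] [Finite S] (hS : Nonempty (S ≃* Matrix.ProjectiveSpecialLinearGroup (Fin 2) F) ∨ Nonempty (S ≃* Matrix.SpecialLinearGroup (Fin 2) F)) : Cfsg.degreePrimes S = {r : ℕ | r.Prime ∧ r ∣ q * (q ^ 2 - 1)} ∧ ∀ r s : ℕ, (Cfsg.degreeGraph S).Adj r s ↔ (r ≠ s ∧ r.Prime ∧ s.Prime ∧ ((r ∣ q + 1 ∧ s ∣ q + 1) ∨ (r ∣ q - 1 ∧ s ∣ q - 1))) := by
  classical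
  subst hq
  have hup : ∀ d ∈ charDegrees S,
      d ∣ Fintype.card F ∨ d ∣ Fintype.card F + 1 ∨ d ∣ Fintype.card F - 1 := by
    intro d hd
    rcases hS with ⟨⟨e⟩⟩ | ⟨⟨e⟩⟩
    · exact degree_dvd (psl_subset (charDegrees_equiv e ▸ hd))
    · exact degree_dvd (charDegrees_equiv e ▸ hd)
  have hlow : ∀ d ∈ charDegrees (ProjectiveSpecialLinearGroup (Fin 2) F), d ∈ charDegrees S := by
    intro d hd
    rcases hS with ⟨⟨e⟩⟩ | ⟨⟨e⟩⟩
    · rwa [charDegrees_equiv e]
    · rw [charDegrees_equiv e]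
      exact psl_subset hd
  have m0 := hlow _ stS_mem
  have mp := hlow _ (even_plus_mem h4)
  have mm := hlow _ (even_minus_mem h4)
  have hfac : Fintype.card F ^ 2 - 1 = (Fintype.card F + 1) * (Fintype.card F - 1) := by
    rw [← Nat.sq_sub_sq, one_pow]
  refine ⟨Set.ext fun r => ⟨fun ⟨hr, d, hd, hrd⟩ => ⟨hr, ?_⟩, fun ⟨hr, h⟩ => ⟨hr, ?_⟩⟩, fun r s => ?_⟩
  · rw [hfac]
    rcases hup d hd with h | h | h
    · exact dvd_mul_of_dvd_left (hrd.trans h) _
    · exact dvd_mul_of_dvd_right (dvd_mul_of_dvd_left (hrd.trans h) _) _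
    · exact dvd_mul_of_dvd_right (dvd_mul_of_dvd_right (hrd.trans h) _) _
  · rw [hfac] at h
    rcases hr.dvd_mul.1 h with h | h
    · exact ⟨_, m0, h⟩
    rcases hr.dvd_mul.1 h with h | h
    · exact ⟨_, mp, h⟩
    · exact ⟨_, mm, h⟩
  · show (r ≠ s ∧ r.Prime ∧ s.Prime ∧ ∃ d ∈ charDegrees S, r * s ∣ d) ↔ _
    constructor
    · rintro ⟨hne, hr, hs, d, hd, hrs⟩
      have hr' : r ∣ d := (dvd_mul_right r s).trans hrs
      have hs' : s ∣ d := (dvd_mul_left s r).trans hrs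
      rcases hup d hd with h | h | h
      · obtain ⟨n, hp, hn⟩ := FiniteField.card F 2
        have e1 := (Nat.prime_dvd_prime_iff_eq hr hp).1 (hr.dvd_of_dvd_pow (hn ▸ hr'.trans h))
        have e2 := (Nat.prime_dvd_prime_iff_eq hs hp).1 (hs.dvd_of_dvd_pow (hn ▸ hs'.trans h))
        exact absurd (e1.trans e2.symm) hne
      · exact ⟨hne, hr, hs, Or.inl ⟨hr'.trans h, hs'.trans h⟩⟩
      · exact ⟨hne, hr, hs, Or.inr ⟨hr'.trans h, hs'.trans h⟩⟩
    · rintro ⟨hne, hr, hs, h⟩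
      have hco : Nat.Coprime r s := (Nat.coprime_primes hr hs).2 hne
      refine ⟨hne, hr, hs, ?_⟩
      rcases h with ⟨a, b⟩ | ⟨a, b⟩
      · exact ⟨_, mp, hco.mul_dvd_of_dvd_of_dvd a b⟩
      · exact ⟨_, mm, hco.mul_dvd_of_dvd_of_dvd a b⟩

end Cfsg.Agent.S4812
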