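import Cfsg.Statements.S0904
import Cfsg.Agent.Lib.Blocks.Simple

set_option autoImplicit false
open Cfsg

namespace Cfsg.Agent.S0904

/-- Let G be a finite simple group of order p ^ a * q ^ b * r with p, q, r distinct primes. Then every Sylow r-subgroup S of G satisfies C_G(S) = S. -/
theorem result {G : Type*} [Group G] [Finite G] [IsSimpleGroup G] (p q r a b : ℕ) (hp : p.Prime) (hq : q.Prime) [Fact r.Prime] (hpq : p ≠ q) (hpr : p ≠ r) (hqr : q ≠ r) (hcard : Nat.card G = p ^ a * q ^ b * r) (S : Sylow r G) : Subgroup.centralizer (S : Set G) = (S : Subgroup G) := by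
  classical
  by_cases hcomm : ∀ x y : G, x * y = y * x
  · have hS : (S : Subgroup G) = ⊤ := by
      refine ((⟨fun n hn g => by rwa [hcomm g n, mul_inv_cancel_right]⟩ :
        (S : Subgroup G).Normal).eq_bot_or_eq_top).resolve_left (S.ne_bot_of_dvd_card ?_)
      rw [hcard]
      exact dvd_mul_left r _
    rw [hS, eq_top_iff]
    intro x _
    exact Subgroup.mem_centralizer_iff.mpr fun y _ => hcomm y x
  push Not at hcomm
  have hr : r.Prime := Fact.out
  have hrest : ¬ r ∣ p ^ a * q ^ b := fun h => (hr.dvd_mul.mp h).elim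
    (fun h' => hpr ((Nat.prime_dvd_prime_iff_eq hr hp).mp (hr.dvd_of_dvd_pow h')).symm)
    (fun h' => hqr ((Nat.prime_dvd_prime_iff_eq hr hq).mp (hr.dvd_of_dvd_pow h')).symm)
  have hSr : Nat.card (S : Subgroup G) = r := by
    have hne0 : p ^ a * q ^ b ≠ 0 := mul_ne_zero (pow_ne_zero _ hp.ne_zero) (pow_ne_zero _ hq.ne_zero)
    rw [S.card_eq_multiplicity, hcard, Nat.factorization_mul hne0 hr.ne_zero, Finsupp.add_apply,
      Nat.factorization_eq_zero_of_not_dvd hrest, hr.factorization_self, zero_add, pow_one]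
  obtain ⟨⟨x, hxS⟩, hx⟩ := exists_prime_orderOf_dvd_card' r (hSr.symm ▸ dvd_rfl :
    r ∣ Nat.card (S : Subgroup G))
  rw [Subgroup.orderOf_mk] at hx
  set C := Subgroup.centralizer (S : Set G)
  have hno : ∀ s t c d : ℕ, s.Prime → t.Prime → s ≠ r → t ≠ r →
      Nat.card G = s ^ c * t ^ d * r → ¬ s ∣ Nat.card C := by
    intro s t c d hs ht hsr htr hG hd
    have := Fact.mk hs
    obtain ⟨⟨z, hzC⟩, hz⟩ := exists_prime_orderOf_dvd_card' s hd
    rw [Subgroup.orderOf_mk] at hz
    exact Blocks.not_commute_order_prime hcomm hs ht hr hsr htr hG hx hz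
      (Subgroup.mem_centralizer_iff.mp hzC x hxS)
  have hp' := hno p q a b hp hq hpr hqr hcard
  have hq' := hno q p b a hq hp hqr hpr (by rw [hcard, mul_comm (p ^ a)])
  have hSC : (S : Subgroup G) ≤ C := by
    intro y hy
    rw [Subgroup.mem_centralizer_iff]
    intro u hu
    haveI : IsCyclic (S : Subgroup G) := isCyclic_of_prime_card hSr
    exact congrArg Subtype.val ((IsCyclic.commutative (α := (S : Subgroup G))).1.comm ⟨u, hu⟩ ⟨y, hy⟩)
  refine (Subgroup.eq_of_le_of_card_ge hSC ?_).symm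
  rw [hSr]
  refine Nat.le_of_dvd hr.pos ?_
  have hdvd := Subgroup.card_subgroup_dvd_card C
  rw [hcard] at hdvd
  exact (Nat.Coprime.mul_right ((hp.coprime_iff_not_dvd.mpr hp').symm.pow_right a)
    ((hq.coprime_iff_not_dvd.mpr hq').symm.pow_right b)).dvd_of_dvd_mul_left hdvd

end Cfsg.Agent.S0904
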