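import Cfsg.Statements.S4439
import Cfsg.Agent.Lib.Fong.Setup
import Cfsg.Agent.Lib.Blocks.CoverDefect
import Cfsg.Agent.Lib.CentralChar.Twist
import Cfsg.Agent.Lib.PLocal.LeastRadical
import Cfsg.Agent.Lib.PLocal.ActionStable
import Cfsg.Agent.S0867
import Cfsg.Agent.S0887
import Cfsg.Agent.Lib.GlauberChar.CyclicExt

set_option autoImplicit false
open Cfsg Cfsg.Agent.Blocks

universe v

namespace Cfsg.Agent.S4439

/-- The degree of a character over an invariant character of a normal `p'`-subgroup `N` is prime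
to `p` when the quotient is an abelian `p`-group. -/
theorem not_dvd_degree_over {A : Type*} [Group A] [Fintype A] {p : ℕ} [Fact p.Prime]
    (N : Subgroup A) [hN : N.Normal] [Fintype N] (hpN : ¬ p ∣ Nat.card N) {k : ℕ}
    (hidx : N.index = p ^ k) (hab : ∀ a b : A, a * b * a⁻¹ * b⁻¹ ∈ N) (θ : IrrCharacter N)
    (hinv : ∀ (g : A) (n : N),
      (θ : N → ℂ) ⟨g * n * g⁻¹, hN.conj_mem n n.2 g⟩ = (θ : N → ℂ) n)
    (η : IrrCharacter A) (hη : classInner (fun n : N => (η : A → ℂ) n) (θ : N → ℂ) ≠ 0) :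
    ¬ p ∣ charDegree (η : A → ℂ) := by
  classical
  have hp : p.Prime := Fact.out
  have hdt : detOrder (θ : N → ℂ) * charDegree (θ : N → ℂ) ∣ Nat.card N * Nat.card N :=
    mul_dvd_mul (GlauberChar.Cyc.detOrder_dvd _ (Char.IsIrrCharacter.isCharacter θ.2))
      (charDegree_dvd_card θ)
  have hcop : Nat.Coprime N.index (detOrder (θ : N → ℂ) * charDegree (θ : N → ℂ)) := by
    rw [hidx]
    refine Nat.Coprime.coprime_dvd_right hdt ?_
    exact ((hp.coprime_iff_not_dvd.mpr hpN).mul_right (hp.coprime_iff_not_dvd.mpr hpN)).pow_left k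
  obtain ⟨χ₀, ⟨hχ₀, hres, -⟩, -⟩ :=
    S0867.result N (θ : N → ℂ) θ.2 hinv _ (charDegree_cast θ).symm hcop
  have hfun : (fun n : N => χ₀ n) = (θ : N → ℂ) := funext hres
  obtain ⟨β, hβ, hβN, hφ⟩ := CharApp.gallagher_exhaustive N hχ₀ (hfun ▸ θ.2) η.2 (by rwa [hfun])
  obtain ⟨ψ, hψ⟩ := CentralChar.exists_deflation N ⟨β, hβ⟩ fun n hn => hβN ⟨n, hn⟩
  have hcomm : ∀ a b : A ⧸ N, a * b = b * a := by
    intro a b
    obtain ⟨a, rfl⟩ := QuotientGroup.mk_surjective a
    obtain ⟨b, rfl⟩ := QuotientGroup.mk_surjective b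
    rw [← mul_inv_eq_one, ← QuotientGroup.mk_mul, ← QuotientGroup.mk_mul, ← QuotientGroup.mk_inv,
      ← QuotientGroup.mk_mul, QuotientGroup.eq_one_iff]
    simpa [mul_assoc] using hab a b
  have h1 : β 1 = 1 := by
    rw [show β 1 = (ψ : A ⧸ N → ℂ) 1 from hψ 1]
    exact Char.apply_one_eq_one_of_comm hcomm ψ
  have h2 : charDegree (η : A → ℂ) = charDegree (θ : N → ℂ) := by
    have h3 := congrFun hφ 1
    rw [Pi.mul_apply, h1, mul_one, show χ₀ 1 = (θ : N → ℂ) 1 from hres 1, ← charDegree_cast,
      ← charDegree_cast] at h3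
    exact_mod_cast h3
  rw [h2]
  exact fun hd => hpN (hd.trans (charDegree_dvd_card θ))

/-- The invariant case. -/
theorem height_le_invariant {G : Type*} [Group G] [Fintype G] {p : ℕ} [Fact p.Prime] {M : Ideal AlgInt}
    (hM : IsPModular p M) (hsolv : IsPSolvable p G) (N : Subgroup G) [hN : N.Normal] [Fintype N]
    (hNdef : N = pPrimeCore p G) (θ : IrrCharacter N)
    (hinv : ∀ (g : G) (n : N),
      (θ : N → ℂ) ⟨g * n * g⁻¹, hN.conj_mem n n.2 g⟩ = (θ : N → ℂ) n)
    (B : Set (IrrCharacter G)) (hB : IsPBlock M B) (D : Subgroup G) (hD : IsDefectGroup p M B D)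
    (χ : IrrCharacter G) (hχ : χ ∈ B)
    (hover : classInner (fun n : N => (χ : G → ℂ) n) (θ : N → ℂ) ≠ 0) :
    blockHeight p B (χ : G → ℂ) ≤ ((Subgroup.center D).index).factorization p := by
  classical
  subst hNdef
  have hp : p.Prime := Fact.out
  set L := pPrimePCore p G with hL
  obtain ⟨k, hLN⟩ := Fong.relIndex_pPrimePCore (G := G) (p := p)
  have hpN := Fong.not_dvd_card_pPrimeCore (G := G) (p := p)
  have hNL : pPrimeCore p G ≤ L := HallHigman.pPrimeCore_le_pPrimePCore
  -- the block is the set of characters over θ, its defect group is a Sylow subgroup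
  let B₀ : Set (IrrCharacter G) := {χ | Fong.Over (pPrimeCore p G) θ χ}
  have hBdef : ∀ χ, χ ∈ B₀ ↔ Fong.Over (pPrimeCore p G) θ χ := fun χ => Iff.rfl
  obtain ⟨P₁⟩ : Nonempty (Sylow p L) := inferInstance
  set Q₁ : Subgroup G := (P₁ : Subgroup L).map L.subtype with hQ₁
  have hQ₁L : Q₁ ≤ L := Subgroup.map_subtype_le _
  have hQ₁S : ¬ p ∣ Q₁.relIndex L := by
    rw [Subgroup.relIndex, hQ₁, Subgroup.subgroupOf,
      Subgroup.comap_map_eq_self_of_injective L.subtype_injective]
    exact P₁.not_dvd_index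
  have hcons := HallHigman.isPConstrained_of_isPSolvable hsolv
  have hB₀ : IsPBlock M B₀ := Fong.isPBlock_over hBdef hM hpN hNL hLN (P₁.2.map _) hQ₁L
    (Fong.le_sup_of_not_dvd hNL hLN hQ₁L hQ₁S)
    (fun x hx hr => Fong.mem_of_mem_of_pRegular hLN (hcons P₁ hx) hr) hinv
  obtain rfl : B = B₀ := isPBlock_eq_of_mem hM hB hB₀ hχ hover
  obtain ⟨P, rfl⟩ := (Fong.isDefectGroup_over hBdef hM hpN hinv hB₀).2 D hD
  -- the Sylow subgroup of L and the centre of P
  set Q : Subgroup G := (P : Subgroup G) ⊓ L with hQ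
  have hQL : Q ≤ L := inf_le_right
  have hQS : ¬ p ∣ Q.relIndex L :=
    PLocal.not_dvd_relIndex_inf P (M := ⊤) le_top le_top
      (by rw [Subgroup.normalizer_eq_top_iff.mpr inferInstance])
  have hLQ := Fong.le_sup_of_not_dvd hNL hLN hQL hQS
  let P₂ : Sylow p L := (P.2.to_le inf_le_left |>.of_equiv
    (Subgroup.subgroupOfEquivOfLe hQL).symm).toSylow hQS
  have hP₂ : (P₂ : Subgroup L).map L.subtype = Q := by
    show (Q.subgroupOf L).map L.subtype = Q
    rw [Subgroup.subgroupOf_map_subtype, inf_eq_left.mpr hQL]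
  set Z : Subgroup G := (Subgroup.center (P : Subgroup G)).map (P : Subgroup G).subtype with hZ
  have hZP : Z ≤ P := Subgroup.map_subtype_le _
  have hZc : ∀ z ∈ Z, ∀ w ∈ (P : Subgroup G), w * z = z * w := by
    rintro _ ⟨z, hz, rfl⟩ w hw
    exact congrArg Subtype.val (Subgroup.mem_center_iff.mp hz ⟨w, hw⟩)
  have hZL : Z ≤ L := fun z hz => hcons P₂ (by
    rw [hP₂]
    exact Subgroup.mem_centralizer_iff.mpr fun w hw => hZc z hz w hw.1)
  -- the normal subgroup
  set π := QuotientGroup.mk' (pPrimeCore p G)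
  set A : Subgroup G := L ⊓ (Subgroup.centralizer ((L.map π : Subgroup (G ⧸ pPrimeCore p G)) : Set (G ⧸ pPrimeCore p G))).comap π with hA
  haveI : (L.map π).Normal :=
    (inferInstance : L.Normal).map π (QuotientGroup.mk'_surjective _)
  haveI : A.Normal := inferInstanceAs ((L ⊓ _ : Subgroup G).Normal)
  have hAL : A ≤ L := inf_le_left
  have hNA : pPrimeCore p G ≤ A := le_inf hNL fun n hn => by
    rw [Subgroup.mem_comap, show π n = 1 from (QuotientGroup.eq_one_iff n).mpr hn]
    exact one_mem _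
  have hZA : Z ≤ A := fun z hz => by
    refine Subgroup.mem_inf.mpr ⟨hZL hz, ?_⟩
    rw [Subgroup.mem_comap, Subgroup.mem_centralizer_iff]
    rintro _ ⟨l, hl, rfl⟩
    obtain ⟨n, hn, q, hq, rfl⟩ := Subgroup.mem_sup_of_normal_left.mp (hLQ hl)
    rw [map_mul, show π n = 1 from (QuotientGroup.eq_one_iff n).mpr hn, one_mul, ← map_mul,
      ← map_mul, hZc z hz q hq.1]
  obtain ⟨j, -, hj⟩ := (Nat.dvd_prime_pow hp).mp (hLN ▸
    (Dvd.intro _ (Subgroup.relIndex_mul_relIndex _ _ _ hNA hAL) :
      (pPrimeCore p G).relIndex A ∣ (pPrimeCore p G).relIndex L))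
  -- a constituent over θ
  have := Fintype.ofFinite A
  have := Fintype.ofFinite (IrrCharacter A)
  set N' := (pPrimeCore p G).subgroupOf A with hN'
  have := Fintype.ofFinite N'
  set e := Subgroup.subgroupOfEquivOfLe hNA with he
  let θ' : IrrCharacter N' := BrauerPairs.pullIrr e θ
  obtain ⟨m, hm, hm'⟩ := Char.IsCharacter.decompose
    (Char.IsCharacter.restrict (Char.IsIrrCharacter.isCharacter χ.2) A)
  have hinner : ∀ f : G → ℂ, classInner (fun n : N' => f ((n : A) : G)) (θ' : N' → ℂ)
      = classInner (fun n : pPrimeCore p G => f n) (θ : pPrimeCore p G → ℂ) := fun f =>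
    Char.classInner_comp_equiv e (fun n : pPrimeCore p G => f n) _
  obtain ⟨η, hη1, hη2⟩ : ∃ η : IrrCharacter A,
      classInner (fun a : A => (χ : G → ℂ) a) (η : A → ℂ) ≠ 0 ∧
        classInner (fun n : N' => (η : A → ℂ) n) (θ' : N' → ℂ) ≠ 0 := by
    by_contra hno
    push Not at hno
    refine hover ?_
    rw [← hinner (χ : G → ℂ), show (fun n : N' => (χ : G → ℂ) ((n : A) : G))
      = ∑ η : IrrCharacter A, (m η : ℂ) • (fun n : N' => (η : A → ℂ) n) from
      funext fun n => by simpa [Finset.sum_apply] using congrFun hm (n : A), Char.classInner_sum_left]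
    refine Finset.sum_eq_zero fun η _ => ?_
    by_cases h0 : (m η : ℂ) = 0
    · rw [Char.classInner_smul_left, h0, zero_mul]
    · rw [Char.classInner_smul_left, hno η (by rw [hm' η]; exact h0), mul_zero]
  have hdegA : ¬ p ∣ charDegree (η : A → ℂ) := by
    refine not_dvd_degree_over N' ?_ hj (fun a b => ?_) θ' (fun g n => ?_) η hη2
    · rwa [Nat.card_congr e.toEquiv]
    · show (a : G) * (b : G) * (a : G)⁻¹ * (b : G)⁻¹ ∈ pPrimeCore p G
      rw [← QuotientGroup.eq_one_iff]
      show π _ = 1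
      have h := Subgroup.mem_centralizer_iff.mp a.2.2 (π b) ⟨b, hAL b.2, rfl⟩
      rw [map_mul, map_mul, map_mul, map_inv, map_inv, ← h, mul_inv_cancel_right, mul_inv_cancel]
    · exact hinv (g : G) (e n)
  obtain ⟨hdvd, hdvd'⟩ := S0887.result A (χ : G → ℂ) χ.2 (η : A → ℂ) η.2 hη1 _ _
    (charDegree_cast χ).symm (charDegree_cast η).symm
  obtain ⟨q, hq⟩ := hdvd
  have hqA : q ∣ A.index := by
    rwa [hq, Nat.mul_div_cancel_left _ (charDegree_pos η)] at hdvd'
  have hq0 : q ≠ 0 := fun h0 => (charDegree_pos χ).ne' (by rw [hq, h0, mul_zero])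
  have hZi : Z.index = (Subgroup.center (P : Subgroup G)).index * (P : Subgroup G).index := by
    rw [hZ, Subgroup.index_map_subtype]
  have h1 : (charDegree (χ : G → ℂ)).factorization p = q.factorization p := by
    rw [hq, Nat.factorization_mul (charDegree_pos η).ne' hq0, Finsupp.add_apply,
      Nat.factorization_eq_zero_of_not_dvd hdegA, zero_add]
  have hpos : (Subgroup.center (P : Subgroup G)).index ≠ 0 := Subgroup.index_ne_zero_of_finite
  have h2 : q.factorization p ≤ Z.index.factorization p :=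
    (Nat.factorization_le_iff_dvd hq0 Subgroup.index_ne_zero_of_finite).mpr
      (hqA.trans (Subgroup.index_dvd_of_le hZA)) p
  rw [hZi, Nat.factorization_mul hpos Subgroup.index_ne_zero_of_finite, Finsupp.add_apply,
    Nat.factorization_eq_zero_of_not_dvd P.not_dvd_index, add_zero] at h2
  rw [blockHeight]
  omega

/-- The induction on the group order. -/
theorem height_le_aux {p : ℕ} [Fact p.Prime] {M : Ideal AlgInt} (hM : IsPModular p M) :
    ∀ m : ℕ, ∀ (G : Type v) [Group G] [Fintype G], Nat.card G = m → IsPSolvable p G →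
      ∀ (B : Set (IrrCharacter G)), IsPBlock M B → ∀ D : Subgroup G, IsDefectGroup p M B D →
      ∀ χ ∈ B, blockHeight p B (χ : G → ℂ) ≤ ((Subgroup.center D).index).factorization p := by
  classical
  intro m
  induction m using Nat.strong_induction_on with
  | _ m ih =>
    intro G _ _ hm hsolv B hB D hD χ hχ
    set N := pPrimeCore p G with hNdef
    have := Fintype.ofFinite N
    haveI : N.Normal := Cores.pPrimeCore_normal p G
    obtain ⟨θ, hθ⟩ := BlocksNormal.exists_constituent N χ
    set T := CharApp.inertia N (θ : N → ℂ) with hTdef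
    by_cases hT : T = ⊤
    · refine height_le_invariant hM hsolv N hNdef θ (fun g n => ?_) B hB D hD χ hχ hθ
      exact (CharApp.mem_inertia_iff N).mp (hT ▸ Subgroup.mem_top g : g ∈ T) n
    · have := Fintype.ofFinite T
      have hNT : N ≤ T := CharApp.le_inertia N (irr_class θ)
      have hb : IsPBlock M ({θ} : Set (IrrCharacter N)) :=
        Fong.isPBlock_singleton hM Fong.not_dvd_card_pPrimeCore θ
      have hstab : FongReynolds.IsBlockStab N T ({θ} : Set (IrrCharacter N)) := fun g => by
        rw [hTdef, CharApp.mem_inertia_iff N]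
        refine ⟨fun h θ₁ hθ₁ θ' hθ' => ?_, fun h n => ?_⟩
        · rw [Set.mem_singleton_iff] at hθ₁ ⊢
          subst hθ₁
          exact Subtype.ext (funext fun n => (hθ' n).trans (h n))
        · let θ' : IrrCharacter N := BrauerPairs.pullIrr (MulAut.conjNormal g) θ
          have h1 := h θ rfl θ' fun n => rfl
          rw [Set.mem_singleton_iff] at h1
          exact congrFun (congrArg Subtype.val h1) n
      obtain ⟨η, hη, hind⟩ := CharApp.OverStab.exists_under N T hNT θ.2 le_rfl χ.2 hθ
      set B' := blockOf M (η : T → ℂ)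
      have hB' : IsPBlock M B' := ⟨η, rfl⟩
      have hηB' : η ∈ B' := mem_blockOf_self hM η
      have hBeq : B = blockOf M (χ : G → ℂ) := isPBlock_eq_blockOf hM hB hχ
      have hi : IsInducedBlock M T B' B :=
        hBeq ▸ FongReynolds.isInducedBlock hM hb hstab hB' hηB' hind
      have hcov : FongReynolds.Covers N T hNT B' {θ} := ⟨η, hηB', θ, rfl, hη⟩
      obtain ⟨χ', -, hχ', hh⟩ := (CoverDefect.fong_reynolds_degrees hM hb hstab hNT hB' hcov hi).2 η hηB'
      obtain rfl : χ' = χ := Subtype.ext (hχ'.trans hind)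
      obtain ⟨D', hD'⟩ := exists_isDefectGroup hM hB'
      obtain ⟨x, hx⟩ := isDefectGroup_conj_eq hM hB
        (CoverDefect.fong_reynolds_defect hM hb hstab hNT hB' hcov hi hD') hD
      have e : D' ≃* D :=
        ((D'.equivMapOfInjective _ T.subtype_injective).trans
          ((MulAut.conj x).subgroupMap (D'.map T.subtype))).trans (MulEquiv.subgroupCongr hx)
      have hidx : (Subgroup.center D').index = (Subgroup.center D).index := by
        have h1 := (Subgroup.center D').index_mul_card
        rw [Nat.card_congr e.toEquiv, ← (Subgroup.center D).index_mul_card,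
          Nat.card_congr (Subgroup.centerCongr e).toEquiv] at h1
        exact Nat.eq_of_mul_eq_mul_right Nat.card_pos h1
      rw [hh, ← hidx]
      refine ih (Nat.card T) ?_ T rfl (PLocal.isPSolvable_subgroup hsolv T) B' hB' D' hD' η hηB'
      rw [← hm]
      refine lt_of_le_of_ne (Nat.le_of_dvd Nat.card_pos T.card_subgroup_dvd_card) fun h => hT ?_
      exact T.eq_top_of_card_eq h

/-- Let G be a finite p-solvable group and B a p-block of G with defect group P (relative to a maximal ideal M of the algebraic integers containing p). Then the height of every irreducible character in B is at most the exponent of p in the index of the centre of P in P. -/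
theorem result {G : Type*} [Group G] [Finite G] (p : ℕ) [Fact p.Prime] (M : Ideal Cfsg.AlgInt) (hM : Cfsg.IsPModular p M) (hsolv : Cfsg.IsPSolvable p G) (B : Set (Cfsg.IrrCharacter G)) (hB : Cfsg.IsPBlock M B) (P : Subgroup G) (hP : Cfsg.IsDefectGroup p M B P) (χ : Cfsg.IrrCharacter G) (hχ : χ ∈ B) : Cfsg.blockHeight p B (χ : G → ℂ) ≤ ((Subgroup.center P).index).factorization p := by
  have := Fintype.ofFinite G
  exact height_le_aux hM _ G rfl hsolv B hB P hP χ hχ

end Cfsg.Agent.S4439
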