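import Cfsg.Statements.S4492
import Cfsg.Agent.EqLemmas
import Cfsg.Agent.Lib.Fong.Setup

set_option autoImplicit false
open Cfsg

namespace Cfsg.Agent.S4492

/-- Let G be a finite p-solvable group, N = O_{p'}(G) its largest normal subgroup of order prime to p, and θ an irreducible character of N invariant under conjugation by G; fix a maximal ideal M of the algebraic integers containing p. Then the irreducible characters of G lying over θ (those whose restriction to N contains θ) form a single p-block of G, and the defect groups of that block are exactly the Sylow p-subgroups of G. -/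
theorem result {G : Type*} [Group G] [Fintype G] (p : ℕ) [Fact p.Prime] (M : Ideal Cfsg.AlgInt) (hM : Cfsg.IsPModular p M) (hsolv : Cfsg.IsPSolvable p G) (N : Subgroup G) [hN : N.Normal] [Fintype N] (hNdef : N = Cfsg.pPrimeCore p G) (θ : Cfsg.IrrCharacter N) (hinv : ∀ (g : G) (n : N), (θ : N → ℂ) ⟨g * n * g⁻¹, hN.conj_mem n n.2 g⟩ = (θ : N → ℂ) n) : ∃ B : Set (Cfsg.IrrCharacter G), Cfsg.IsPBlock M B ∧ (∀ χ : Cfsg.IrrCharacter G, χ ∈ B ↔ Cfsg.classInner (fun n : N => (χ : G → ℂ) n) (θ : N → ℂ) ≠ 0) ∧ (∀ P : Sylow p G, Cfsg.IsDefectGroup p M B (P : Subgroup G)) ∧ ∀ D : Subgroup G, Cfsg.IsDefectGroup p M B D → ∃ P : Sylow p G, D = (P : Subgroup G) := by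
  subst hNdef
  set L := Cfsg.pPrimePCore p G with hL
  obtain ⟨k, hLN⟩ := Fong.relIndex_pPrimePCore (G := G) (p := p)
  have hpN := Fong.not_dvd_card_pPrimeCore (G := G) (p := p)
  have hNL : Cfsg.pPrimeCore p G ≤ L := HallHigman.pPrimeCore_le_pPrimePCore
  obtain ⟨P⟩ : Nonempty (Sylow p L) := inferInstance
  set Q : Subgroup G := (P : Subgroup L).map L.subtype with hQ
  have hQL : Q ≤ L := Subgroup.map_subtype_le _
  have hQS : ¬ p ∣ Q.relIndex L := by
    rw [Subgroup.relIndex, hQ, Subgroup.subgroupOf,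
      Subgroup.comap_map_eq_self_of_injective L.subtype_injective]
    exact P.not_dvd_index
  have hCQ : Subgroup.centralizer (Q : Set G) ≤ L :=
    HallHigman.isPConstrained_of_isPSolvable hsolv P
  let B : Set (Cfsg.IrrCharacter G) := {χ | Fong.Over (Cfsg.pPrimeCore p G) θ χ}
  have hBdef : ∀ χ, χ ∈ B ↔ Fong.Over (Cfsg.pPrimeCore p G) θ χ := fun χ => Iff.rfl
  have hB : Cfsg.IsPBlock M B := Fong.isPBlock_over hBdef hM hpN hNL hLN (P.2.map _) hQL
    (Fong.le_sup_of_not_dvd hNL hLN hQL hQS)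
    (fun x hx hr => Fong.mem_of_mem_of_pRegular hLN (hCQ hx) hr) hinv
  obtain ⟨h1, h2⟩ := Fong.isDefectGroup_over hBdef hM hpN hinv hB
  exact ⟨B, hB, fun χ => Iff.rfl, h1, h2⟩

end Cfsg.Agent.S4492
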