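import Cfsg.Statements.S4965
import Cfsg.Agent.EqLemmas

set_option autoImplicit false
open Cfsg

namespace Cfsg.Agent.S4965


/-- Let X be a finite group with an abelian normal subgroup V (any two elements of V commute), and let φ be the action of X ⧸ V on V induced by conjugation (well defined because V is abelian; the hypothesis hφ says that the class of x acts as conjugation by x). Then X has at most as many conjugacy classes as the semidirect product of V by X ⧸ V formed with this action: the split extension has the largest class number among extensions with the given action. -/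
theorem result {X : Type*} [Group X] [Finite X] (V : Subgroup X) [V.Normal] (hab : ∀ a ∈ V, ∀ b ∈ V, a * b = b * a) (φ : X ⧸ V →* MulAut ↥V) (hφ : ∀ (x : X) (v : ↥V), ((φ (QuotientGroup.mk x) v : ↥V) : X) = x * v * x⁻¹) : Nat.card (ConjClasses X) ≤ Nat.card (ConjClasses (SemidirectProduct ↥V (X ⧸ V) φ)) := by
  classical
  have : Finite (SemidirectProduct ↥V (X ⧸ V) φ) :=
    Finite.of_equiv _ SemidirectProduct.equivProd.symm
  have hcY : Nat.card (SemidirectProduct ↥V (X ⧸ V) φ) = Nat.card X := by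
    rw [SemidirectProduct.card, Subgroup.card_eq_card_quotient_mul_card_subgroup V, mul_comm]
  let P : (X ⧸ V) × (X ⧸ V) → X × X → Prop := fun ab z =>
    Commute z.1 z.2 ∧ QuotientGroup.mk z.1 = ab.1 ∧ QuotientGroup.mk z.2 = ab.2
  let L : (X ⧸ V) × (X ⧸ V) → X × X := fun ab => if h : ∃ z, P ab z then h.choose else (1, 1)
  have key : ∀ z : {z : X × X // Commute z.1 z.2},
      P (QuotientGroup.mk z.1.1, QuotientGroup.mk z.1.2)
        (L (QuotientGroup.mk z.1.1, QuotientGroup.mk z.1.2)) := by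
    intro z
    have h : ∃ w, P (QuotientGroup.mk z.1.1, QuotientGroup.mk z.1.2) w := ⟨z.1, z.2, rfl, rfl⟩
    simp only [L, dif_pos h]
    exact h.choose_spec
  have hmem : ∀ x y : X, (QuotientGroup.mk y : X ⧸ V) = QuotientGroup.mk x → x * y⁻¹ ∈ V := by
    intro x y h
    rw [← QuotientGroup.eq_one_iff, QuotientGroup.mk_mul, QuotientGroup.mk_inv, h, mul_inv_cancel]
  have hφ' : ∀ (x : X) (q : X ⧸ V) (v : ↥V), QuotientGroup.mk x = q →
      ((φ q v : ↥V) : X) = x * v * x⁻¹ := by
    rintro x q v rfl; exact hφ x v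
  let F : {z : X × X // Commute z.1 z.2} →
      {z : SemidirectProduct ↥V (X ⧸ V) φ × SemidirectProduct ↥V (X ⧸ V) φ // Commute z.1 z.2} :=
    fun z => ⟨(⟨⟨_, hmem z.1.1 _ (key z).2.1⟩, QuotientGroup.mk z.1.1⟩,
      ⟨⟨_, hmem z.1.2 _ (key z).2.2⟩, QuotientGroup.mk z.1.2⟩), by
      obtain ⟨⟨x, y⟩, hxy⟩ := z
      obtain ⟨h0, hx, hy⟩ := key ⟨(x, y), hxy⟩
      simp only at hx hy hxy h0 ⊢
      generalize hL0 : L (QuotientGroup.mk x, QuotientGroup.mk y) = L0 at h0 hx hy
      obtain ⟨x0, y0⟩ := L0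
      simp only at h0 hx hy
      refine SemidirectProduct.ext ?_ ?_
      · refine Subtype.ext ?_
        simp only [SemidirectProduct.mul_left, Subgroup.coe_mul]
        rw [hφ' x0 _ _ hx, hφ' y0 _ _ hy]
        calc x * x0⁻¹ * (x0 * (y * y0⁻¹) * x0⁻¹)
              = (x * y) * (x0 * y0)⁻¹ := by group
          _ = (y * x) * (y0 * x0)⁻¹ := by rw [hxy.eq, h0.eq]
          _ = y * y0⁻¹ * (y0 * (x * x0⁻¹) * y0⁻¹) := by group
      · simp only [SemidirectProduct.mul_right]
        rw [← QuotientGroup.mk_mul, hxy.eq, QuotientGroup.mk_mul]⟩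
  have hF : Function.Injective F := by
    rintro ⟨⟨x, y⟩, hxy⟩ ⟨⟨x', y'⟩, hxy'⟩ h
    simp only [F, Subtype.mk.injEq, Prod.mk.injEq, SemidirectProduct.ext_iff] at h
    obtain ⟨⟨hv, ha⟩, hw, hb⟩ := h
    rw [ha, hb] at hv hw
    simp only [Prod.mk.injEq, Subtype.mk.injEq]
    exact ⟨mul_right_cancel hv, mul_right_cancel hw⟩
  have h := Nat.card_le_card_of_injective F hF
  rw [card_comm_eq_card_conjClasses_mul_card, card_comm_eq_card_conjClasses_mul_card, hcY] at h
  exact Nat.le_of_mul_le_mul_right h Nat.card_pos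

end Cfsg.Agent.S4965
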