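import Cfsg.Statements.S0547
import Cfsg.Agent.S0548

set_option autoImplicit false
open Cfsg

namespace Cfsg.Agent.S0547

/-- Let a finite solvable group G act faithfully and primitively on a set, and let M be a minimal normal subgroup of G. Then M is transitive with trivial point stabilizers, and the number of points equals the order of M, which is a prime power p ^ d with d ≥ 1. -/
theorem result {G : Type*} [Group G] [Finite G] [Group.IsSolvable G] {Ω : Type*} [Nonempty Ω] [MulAction G Ω] [FaithfulSMul G Ω] (hprim : MulAction.IsPreprimitive G Ω) (M : Subgroup G) [M.Normal] (hM : M ≠ ⊥) (hmin : ∀ K : Subgroup G, K.Normal → K ≤ M → K = ⊥ ∨ K = M) : MulAction.IsPretransitive M Ω ∧ (∀ ω : Ω, MulAction.stabilizer M ω = ⊥) ∧ ∃ p d : ℕ, p.Prime ∧ 0 < d ∧ Nat.card Ω = p ^ d ∧ Nat.card M = p ^ d := by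
  obtain ⟨ω₀⟩ := ‹Nonempty Ω›
  have h548 := fun ω => Cfsg.Agent.S0548.result hprim M hM hmin ω
  obtain ⟨hMc, p, hp, hpg, -⟩ :=
    Cfsg.Agent.Solvable.elementaryAbelian_of_minimal_normal M hM hmin
  have htr : MulAction.IsPretransitive M Ω := by
    refine ⟨fun x y => ?_⟩
    obtain ⟨g, rfl⟩ := MulAction.exists_smul_eq G x y
    obtain ⟨⟨m, u⟩, hmu⟩ := (h548 x).1.2 g
    exact ⟨m, by simp only at hmu; rw [← hmu, mul_smul, MulAction.mem_stabilizer_iff.mp u.2]; rfl⟩
  have hstab : ∀ ω : Ω, MulAction.stabilizer M ω = ⊥ := fun ω => by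
    refine (Subgroup.eq_bot_iff_forall _).mpr fun m hm => Subtype.ext ?_
    exact Subgroup.mem_bot.mp ((h548 ω).1.disjoint.eq_bot ▸ ⟨m.2, hm⟩)
  refine ⟨htr, hstab, ?_⟩
  have : Fact p.Prime := ⟨hp⟩
  obtain ⟨d, hd⟩ := IsPGroup.iff_card.mp hpg
  refine ⟨p, d, hp, Nat.pos_of_ne_zero fun h0 => hM (Subgroup.card_eq_one.mp (by simp [hd, h0])), ?_, hd⟩
  rw [← hd, ← MulAction.index_stabilizer_of_transitive M ω₀, hstab, Subgroup.index_bot]

end Cfsg.Agent.S0547
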