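import Cfsg.Statements.S4958
import Cfsg.Agent.Lib.KGV.Abelian

set_option autoImplicit false
open Cfsg

namespace Cfsg.Agent.S4958

/-- Let X be a finite group and V a normal subgroup of X in which every element has order dividing the prime p, whose index in X is prime to p and which is its own centralizer in X; so V is an elementary abelian normal Sylow p-subgroup, and any complement G to V in X is a group of order prime to p acting faithfully on the vector space V by conjugation (the coprime linear setting of the k(GV) problem). Let G be a complement to V in X and suppose that for some v in V the centralizer of v in G is abelian. Then the number of conjugacy classes of X is at most the order of V (the abelian-stabilizer criterion for the k(GV) problem). -/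
theorem result {X : Type*} [Group X] [Finite X] (p : ℕ) [Fact p.Prime] (V : Subgroup X) [V.Normal] (hVexp : ∀ v ∈ V, v ^ p = 1) (hidx : ¬ p ∣ V.index) (hself : Subgroup.centralizer (V : Set X) = V) (G : Subgroup X) (hGV : Subgroup.IsComplement' V G) (v : X) (hv : v ∈ V) (hab : ∀ a ∈ G ⊓ Subgroup.centralizer ({v} : Set X), ∀ b ∈ G ⊓ Subgroup.centralizer ({v} : Set X), a * b = b * a) : Nat.card (ConjClasses X) ≤ Nat.card V := by
  classical
  have hp : p.Prime := Fact.out
  have habV : ∀ a ∈ V, ∀ b ∈ V, Commute a b := fun a ha b hb =>
    ((Subgroup.mem_centralizer_iff.mp (hself.symm ▸ ha : a ∈ Subgroup.centralizer (V : Set X))) b hb).symm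
  set H := G ⊓ Subgroup.centralizer ({v} : Set X) with hH
  haveI := Fintype.ofFinite H
  have hGcard : Nat.card G = V.index := hGV.symm.index_eq_card.symm
  have hcop : ¬ p ∣ Nat.card H := fun hd => hidx (hGcard ▸ hd.trans
    (Subgroup.card_dvd_of_le inf_le_left))
  obtain ⟨θ, hθ⟩ := KGV.exists_good_abelian (H := H) (W := V) hp hVexp habV hab hcop
    fun h _ w hw => Subgroup.Normal.conj_mem inferInstance w hw h
  refine KGV.card_conjClasses_le hVexp hidx habV hGV hv hH le_rfl hθ fun h hh hc => ?_
  have hV : h ∈ V := by
    rw [← hself]
    exact Subgroup.mem_centralizer_iff.mpr fun w hw => (hc w hw).symm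
  exact Subgroup.disjoint_def.mp hGV.disjoint hV hh.1

end Cfsg.Agent.S4958
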