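import Cfsg.Statements.S0536
import Cfsg.Agent.EqLemmas
import Cfsg.Agent.Lib.Transfer.Alperin
import Cfsg.Agent.Lib.Solvable.Basic
import Cfsg.Agent.S0577

set_option autoImplicit false
open Cfsg

namespace Cfsg.Agent.S0536

/-- Structure of minimal non-nilpotent groups: if a finite group is not nilpotent but all its proper subgroups are, then there are distinct primes p and q, a cyclic Sylow p-subgroup P and a normal Sylow q-subgroup Q with G generated by P and Q. -/
theorem result {G : Type*} [Group G] [Finite G] (hG : Cfsg.IsMinimalNonNilpotent G) : ∃ p q : ℕ, p.Prime ∧ q.Prime ∧ p ≠ q ∧ ∃ (P : Sylow p G) (Q : Sylow q G), IsCyclic P ∧ (Q : Subgroup G).Normal ∧ (P : Subgroup G) ⊔ Q = ⊤ := by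
  classical
  obtain ⟨hnn, hmin⟩ := hG
  by_cases hall : ∀ p : ℕ, p.Prime → Cfsg.HasNormalPComplement p G
  · exfalso
    apply hnn
    have h3 : ∀ (p : ℕ) (_ : Fact p.Prime) (P : Sylow p G), (P : Subgroup G).Normal := by
      intro p hp P
      haveI := hp
      set K : Subgroup G := ⨅ r : {r : ℕ // r.Prime ∧ r ≠ p}, Cfsg.pResidual (r : ℕ) G with hK
      haveI : K.Normal := Subgroup.normal_iInf_normal fun _ => Transfer.pResidual_normal
      have hPK : (P : Subgroup G) ≤ K := le_iInf fun r x hx => by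
        refine Transfer.mem_pResidual_of_coprime ?_
        obtain ⟨j, hj⟩ := IsPGroup.iff_orderOf.1 P.isPGroup' ⟨x, hx⟩
        rw [Subgroup.orderOf_mk] at hj
        rw [hj]
        exact Nat.Coprime.pow_left j ((Nat.coprime_primes hp.out r.2.1).2 r.2.2.symm)
      have hKp : IsPGroup p K := IsPGroup.of_card (n := (Nat.card K).factorization p) (by
        conv_lhs => rw [← Nat.prod_factorization_pow_eq_self (Nat.card_pos (α := K)).ne']
        rw [Finsupp.prod, Finset.prod_eq_single p]
        · intro b hb hbp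
          exfalso
          have hbP := Nat.prime_of_mem_primeFactors hb
          haveI := Fact.mk hbP
          exact hbP.coprime_iff_not_dvd.1 (Transfer.hasNormalPComplement_iff_coprime.1 (hall b hbP)).symm
            ((Nat.dvd_of_mem_primeFactors hb).trans (Subgroup.card_dvd_of_le
              (iInf_le (fun r : {r : ℕ // r.Prime ∧ r ≠ p} => Cfsg.pResidual (r : ℕ) G) ⟨b, hbP, hbp⟩)))
        · intro h
          rw [Finsupp.notMem_support_iff] at h
          rw [h, pow_zero])
      rw [← P.is_maximal' hKp hPK]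
      infer_instance
    exact (Group.isNilpotent_of_finite_tfae.out 0 3).2 h3
  push Not at hall
  obtain ⟨p, hp, hpc⟩ := hall
  haveI := Fact.mk hp
  obtain ⟨Q0⟩ := (inferInstance : Nonempty (Sylow p G))
  obtain ⟨R, hRp, x, hxN, hxp, hxc⟩ : ∃ R : Subgroup G, IsPGroup p R ∧
      ∃ x ∈ Subgroup.normalizer (R : Set G), Nat.Coprime (orderOf x) p ∧
        x ∉ Subgroup.centralizer (R : Set G) := by
    by_contra hc
    push Not at hc
    exact hpc (Transfer.hasNormalPComplement_of_local Q0 fun R hR _ x hx hxo =>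
      hc R (Q0.isPGroup'.to_le hR.1) x hx hxo)
  -- a prime power part of x does not centralise R
  obtain ⟨q, hq, y, hyN, ⟨k, hk⟩, hyp, hyc⟩ : ∃ q, q.Prime ∧ ∃ y ∈ Subgroup.normalizer (R : Set G),
      (∃ k, orderOf y = q ^ k) ∧ Nat.Coprime (orderOf y) p ∧ y ∉ Subgroup.centralizer (R : Set G) := by
    suffices H : ∀ m : ℕ, ∀ x ∈ Subgroup.normalizer (R : Set G), orderOf x = m →
        Nat.Coprime m p → x ∉ Subgroup.centralizer (R : Set G) → _ from H _ x hxN rfl hxp hxc
    intro m
    induction m using Nat.strong_induction_on with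
    | _ m ih =>
      intro x hxN hxm hxp hxc
      rcases eq_or_ne m 1 with e | e
      · exact absurd (orderOf_eq_one_iff.1 (hxm.trans e) ▸ one_mem _) hxc
      obtain ⟨s, hs, hsm⟩ := Nat.exists_prime_and_dvd e
      haveI := Fact.mk hs
      obtain ⟨u, v, huv, hu, hv, hko, hvs⟩ := Transfer.exists_pPart_mul (p := s) x
      have hdvd : ∀ w ∈ Subgroup.zpowers x, orderOf w ∣ m := fun w hw => by
        rw [← hxm, ← Nat.card_zpowers x]
        exact Subgroup.orderOf_dvd_natCard _ hw
      by_cases huc : u ∈ Subgroup.centralizer (R : Set G)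
      · have hvc : v ∉ Subgroup.centralizer (R : Set G) := fun h => hxc (huv ▸ mul_mem huc h)
        refine ih _ ?_ v (Subgroup.zpowers_le.2 hxN hv) rfl (hxp.coprime_dvd_left (hdvd v hv)) hvc
        refine lt_of_le_of_ne (Nat.le_of_dvd (hxm ▸ orderOf_pos x) (hdvd v hv)) fun e' => ?_
        exact hs.coprime_iff_not_dvd.1 hvs.symm (e' ▸ hsm)
      · exact ⟨s, hs, u, Subgroup.zpowers_le.2 hxN hu, hko, hxp.coprime_dvd_left (hdvd u hu), huc⟩
  haveI := Fact.mk hq
  have hyR : Subgroup.zpowers y ≤ Subgroup.normalizer (R : Set G) := Subgroup.zpowers_le.2 hyN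
  have htop : R ⊔ Subgroup.zpowers y = ⊤ := by
    by_contra hne
    have hnil := hmin _ hne
    refine hyc (Subgroup.mem_centralizer_iff.2 fun r hr => ?_)
    obtain ⟨j, hj⟩ := IsPGroup.iff_orderOf.1 hRp ⟨r, hr⟩
    rw [Subgroup.orderOf_mk] at hj
    exact (S0577.commute_of_coprime hnil (Subgroup.mem_sup_left hr)
      (Subgroup.mem_sup_right (Subgroup.mem_zpowers y)) (by rw [hj]; exact (Nat.Coprime.pow_right j hyp).symm)).eq
  haveI hRn : R.Normal := by
    refine Subgroup.normalizer_eq_top_iff.1 (eq_top_iff.2 ?_)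
    rw [← htop]
    exact sup_le Subgroup.le_normalizer hyR
  obtain ⟨a, ha⟩ := IsPGroup.iff_card.1 hRp
  have hcop : (Nat.card (Subgroup.zpowers y)).Coprime (Nat.card R) := by
    rw [Nat.card_zpowers, ha]; exact Nat.Coprime.pow_right a hyp
  have hcard := Solvable.card_sup_of_disjoint (Subgroup.zpowers y) R (Solvable.inf_eq_bot_of_coprime hcop)
  rw [sup_comm, htop, Subgroup.card_top] at hcard
  have hpq : q ≠ p := by
    rintro rfl
    rcases Nat.eq_zero_or_pos k with e | e
    · exact hyc (orderOf_eq_one_iff.1 (by rw [hk, e, pow_zero]) ▸ one_mem _)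
    · exact hq.coprime_iff_not_dvd.1 hyp.symm (hk ▸ dvd_pow_self q e.ne')
  have hiy : ¬ q ∣ (Subgroup.zpowers y).index := by
    have h1 := (Subgroup.zpowers y).card_mul_index
    rw [hcard] at h1
    rw [Nat.eq_of_mul_eq_mul_left Nat.card_pos h1, ha]
    exact fun h => hpq ((Nat.prime_dvd_prime_iff_eq hq hp).1 (hq.dvd_of_dvd_pow h))
  have hiR : ¬ p ∣ R.index := by
    have h1 := R.card_mul_index
    rw [hcard, mul_comm (Nat.card (Subgroup.zpowers y))] at h1
    rw [Nat.eq_of_mul_eq_mul_left Nat.card_pos h1, Nat.card_zpowers, hk]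
    exact fun h => hpq.symm ((Nat.prime_dvd_prime_iff_eq hp hq).1 (hp.dvd_of_dvd_pow h))
  have hyg : IsPGroup q (Subgroup.zpowers y) := IsPGroup.of_card (n := k) (by rw [Nat.card_zpowers, hk])
  refine ⟨q, p, hq, hp, hpq, hyg.toSylow hiy, hRp.toSylow hiR, ?_, ?_, ?_⟩
  · show IsCyclic ↥((hyg.toSylow hiy : Sylow q G) : Subgroup G)
    rw [IsPGroup.toSylow_coe]
    infer_instance
  · rw [IsPGroup.toSylow_coe]; infer_instance
  · rw [IsPGroup.toSylow_coe, IsPGroup.toSylow_coe, sup_comm]; exact htop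

end Cfsg.Agent.S0536
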