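import Cfsg.Statements.S5892
import Cfsg.Agent.Lib.PSL2.MaximalTypes

set_option autoImplicit false
set_option maxHeartbeats 1000000
open Cfsg

namespace Cfsg.Agent.S5892

/-- Let F be a finite field of odd order q ≥ 5 and characteristic p, and let M be a maximal subgroup of PSL₂(F). Then one of the following holds: |M| = q(q − 1)/2 (the stabiliser of a point of the projective line); q ≥ 13 and M is dihedral of order q − 1; q ∉ {7, 9} and M is dihedral of order q + 1; q = q₀² and M ≅ PGL₂(F₀) with |F₀| = q₀; q = q₀^r for an odd prime r and M ≅ PSL₂(F₀) with |F₀| = q₀; q ≡ ±1 (mod 10) with q = p or q = p², p ≡ ±3 (mod 10), and M ≅ A₅; q = p ≡ ±3 (mod 8), q ≢ ±1 (mod 10), and M ≅ A₄; or q = p ≡ ±1 (mod 8) and M ≅ S₄. -/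
theorem result {F : Type*} [Field F] [Fintype F] (p : ℕ)
    [Fact p.Prime] [CharP F p] (hodd : Odd (Fintype.card F)) (h5 : 5 ≤ Fintype.card F)
    (M : Subgroup (Matrix.ProjectiveSpecialLinearGroup (Fin 2) F)) (hM : IsCoatom M) :
    2 * Nat.card M = Fintype.card F * (Fintype.card F - 1) ∨
    (13 ≤ Fintype.card F ∧ (∃ k : ℕ, 2 * k = Fintype.card F - 1 ∧ Nonempty (M ≃* DihedralGroup k))) ∨
    (Fintype.card F ≠ 7 ∧ Fintype.card F ≠ 9 ∧ (∃ k : ℕ, 2 * k = Fintype.card F + 1 ∧ Nonempty (M ≃* DihedralGroup k))) ∨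
    (∃ (F₀ : Type) (_ : Field F₀) (_ : Fintype F₀), Fintype.card F = Fintype.card F₀ ^ 2 ∧
        Nonempty (M ≃* Matrix.ProjGenLinGroup (Fin 2) F₀)) ∨
    (∃ (F₀ : Type) (_ : Field F₀) (_ : Fintype F₀) (r : ℕ), r.Prime ∧ Odd r ∧ Fintype.card F = Fintype.card F₀ ^ r ∧
        Nonempty (M ≃* Matrix.ProjectiveSpecialLinearGroup (Fin 2) F₀)) ∨
    ((Fintype.card F % 10 = 1 ∨ Fintype.card F % 10 = 9) ∧
        (Fintype.card F = p ∨ (Fintype.card F = p ^ 2 ∧ (p % 10 = 3 ∨ p % 10 = 7))) ∧
        Nonempty (M ≃* alternatingGroup (Fin 5))) ∨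
    (Fintype.card F = p ∧ (p % 8 = 3 ∨ p % 8 = 5) ∧ ¬ (p % 10 = 1 ∨ p % 10 = 9) ∧
        Nonempty (M ≃* alternatingGroup (Fin 4))) ∨
    (Fintype.card F = p ∧ (p % 8 = 1 ∨ p % 8 = 7) ∧ Nonempty (M ≃* Equiv.Perm (Fin 4))) := by
  rw [← Nat.card_eq_fintype_card] at hodd h5 ⊢
  obtain ⟨n, hn, hqn, ⟨h, -⟩ | ⟨hp2, -, hd, h2⟩⟩ := PSL2.q_cases (F := F) p
  · exfalso
    rw [hqn, h, Nat.odd_pow_iff (by omega)] at hodd
    exact absurd hodd (by decide)
  have hpp : p.Prime := Fact.out
  have h4 : 4 ≤ Nat.card F := by omega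
  have hGcard := PSL2.card_psl_mul (F := F)
  rw [hd] at hGcard
  have hmodd : Nat.card F % 2 = 1 := Nat.odd_iff.1 hodd
  have hbig : ∀ N, 60 ≥ N → 9 ≤ Nat.card F → Nat.card (PSL2.PSL2 F) ≠ N := by
    intro N hN h9 e
    have : 9 * (10 * 8) ≤ Nat.card F * ((Nat.card F + 1) * (Nat.card F - 1)) :=
      Nat.mul_le_mul h9 (Nat.mul_le_mul (by omega) (by omega))
    omega
  -- proper subfield groups
  have hsub : ∀ (l m : ℕ), 1 ≤ l → 2 ≤ m → l * m = n → ∃ H : Subgroup (PSL2.PSL2 F), H ≠ ⊤ ∧
      Nat.card H = Nat.card (PSL2.PSL2 (GaloisField p l)) ∧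
      ∃ f : PSL2.PSL2 (GaloisField p l) →* PSL2.PSL2 F, Function.Injective f ∧ f.range ≤ H := by
    intro l m hl hm hlm
    obtain ⟨H, ⟨e⟩⟩ := PSL2.exists_psl_subfield_sub (F := F) (L := GaloisField p l) (m := m)
      (by rw [GaloisField.card p l (by omega), ← pow_mul, hlm, hqn])
    refine ⟨H, fun ht => ?_, Nat.card_congr e.toEquiv,
      H.subtype.comp e.symm.toMonoidHom, Subtype.coe_injective.comp e.symm.injective, ?_⟩
    · have h1 : Nat.card (PSL2.PSL2 (GaloisField p l)) = Nat.card (PSL2.PSL2 F) := by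
        rw [← Nat.card_congr e.toEquiv, ht, Subgroup.card_top]
      have h2 := PSL2.card_psl_inj p h1
      rw [GaloisField.card p l (by omega), hqn] at h2
      have := Nat.pow_right_injective hpp.two_le h2
      have : l * 2 ≤ l * m := Nat.mul_le_mul_left l hm
      omega
    · rintro _ ⟨x, rfl⟩
      exact Subtype.prop _
  -- icosahedral maximal subgroups
  have hA5 : Nonempty (M ≃* alternatingGroup (Fin 5)) → p ≠ 5 →
      (Nat.card F % 10 = 1 ∨ Nat.card F % 10 = 9) ∧
        (Nat.card F = p ∨ (Nat.card F = p ^ 2 ∧ (p % 10 = 3 ∨ p % 10 = 7))) := by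
    rintro ⟨e⟩ hp5
    have h5' := PSL2.exists_alternatingFive_sub_iff.1 ⟨M, ⟨e⟩⟩
    have hq5 : Nat.card F % 5 ≠ 0 := fun h0 => hp5
      ((Nat.prime_dvd_prime_iff_eq (by norm_num) hpp).1
        (Nat.Prime.dvd_of_dvd_pow (by norm_num : (5 : ℕ).Prime)
          (hqn ▸ Nat.dvd_of_mod_eq_zero h0))).symm
    have hsq : Nat.card F ^ 2 % 5 = 1 := by
      have hpos : 1 ≤ Nat.card F ^ 2 := Nat.one_le_pow _ _ Nat.card_pos
      rcases (Nat.Prime.dvd_mul (by norm_num : (5 : ℕ).Prime)).1 h5' with h | h <;> omega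
    have hmod5 : Nat.card F % 5 = 1 ∨ Nat.card F % 5 = 4 := by
      rw [Nat.pow_mod] at hsq
      have := Nat.mod_lt (Nat.card F) (show 5 > 0 by norm_num)
      interval_cases h : Nat.card F % 5 <;> simp_all
    refine ⟨by omega, ?_⟩
    by_contra hne
    push Not at hne
    obtain ⟨hne1, hne2⟩ := hne
    have hn2 : 2 ≤ n := by
      by_contra hlt
      obtain rfl : n = 1 := by omega
      exact hne1 (by rw [hqn, pow_one])
    -- a subfield group containing `A_5`
    obtain ⟨l, m, hl, hm, hlm, hl5, hlbig⟩ : ∃ l m, 1 ≤ l ∧ 2 ≤ m ∧ l * m = n ∧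
        5 ∣ p ^ l * ((p ^ l) ^ 2 - 1) ∧ 9 ≤ p ^ l := by
      by_cases hp5' : p % 5 = 1 ∨ p % 5 = 4
      · refine ⟨1, n, le_rfl, hn2, one_mul n, Dvd.dvd.mul_left ?_ _, ?_⟩
        · rw [pow_one]
          have h : p ^ 2 % 5 = 1 := by
            rw [Nat.pow_mod]; rcases hp5' with h | h <;> rw [h] <;> norm_num
          omega
        · rw [pow_one]
          have := hpp.two_le
          by_contra hlt
          interval_cases p <;> simp_all (config := { decide := true })
      · have hp0 : p % 5 ≠ 0 := fun h0 => hp5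
          ((Nat.prime_dvd_prime_iff_eq (by norm_num) hpp).1 (Nat.dvd_of_mod_eq_zero h0)).symm
        have hp23 : p % 5 = 2 ∨ p % 5 = 3 := by omega
        have hp3 : 3 ≤ p := by have := hpp.two_le; omega
        rcases Nat.even_or_odd n with ⟨k, hk⟩ | ⟨k, hk⟩
        · refine ⟨2, k, by norm_num, ?_, by omega, Dvd.dvd.mul_left ?_ _, ?_⟩
          · by_contra hlt
            obtain rfl : k = 1 := by omega
            subst hk
            obtain ⟨h3, h7⟩ := hne2 hqn
            have := Nat.odd_iff.1 (hpp.odd_of_ne_two hp2)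
            omega
          · have h : (p ^ 2) ^ 2 % 5 = 1 := by
              rw [← pow_mul, Nat.pow_mod]; rcases hp23 with h | h <;> rw [h] <;> norm_num
            omega
          · exact (Nat.pow_le_pow_left hp3 2).trans' (by norm_num)
        · exfalso
          rw [hqn, hk, ← pow_mul, show (2 * k + 1) * 2 = 4 * k + 2 by ring, pow_add, pow_mul,
            Nat.mul_mod, Nat.pow_mod, Nat.pow_mod p 4, Nat.pow_mod p 2] at hsq
          rcases hp23 with h | h <;> rw [h] at hsq <;> norm_num at hsq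
    obtain ⟨H, hH, hHc, f, hf, hfH⟩ := hsub l m hl hm hlm
    have hcL : Nat.card (GaloisField p l) = p ^ l := GaloisField.card p l (by omega)
    obtain ⟨A, ⟨eA⟩⟩ := (PSL2.exists_alternatingFive_sub_iff (F := GaloisField p l)).2
      (by rw [hcL]; exact hl5)
    have h60 := PSL2.altFive_absorb h2 hM e hH
      ⟨f.comp (A.subtype.comp eA.symm.toMonoidHom),
        hf.comp (Subtype.coe_injective.comp eA.symm.injective),
        (show MonoidHom.range _ ≤ MonoidHom.range _ by rw [MonoidHom.range_comp]; exact Subgroup.map_le_range _ _).trans hfH⟩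
    have h1 := PSL2.two_card_psl_ge (F := GaloisField p l)
    rw [← hHc, h60, hcL] at h1
    have : 9 * (10 * 8) ≤ p ^ l * ((p ^ l + 1) * (p ^ l - 1)) :=
      Nat.mul_le_mul hlbig (Nat.mul_le_mul (by omega) (by omega))
    omega
  rcases PSL2.psl_dickson_std p M with ⟨-, S, hS⟩ | ⟨hpM, hc, -⟩ | ⟨k, hk2, hpk, -, -, ⟨e⟩⟩ |
    ⟨hpM, h⟩ | ⟨hp3, -, h⟩ | ⟨R, m, u, hm, hR, h⟩
  · left
    have h := PSL2.borel_of_isCoatom p hM hS
    rwa [hd] at h
  · exact (PSL2.cyclic_not_isCoatom p h4 hM hc hpM).elim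
  · -- dihedral
    obtain ⟨hk3, hfull, -⟩ := PSL2.dihedral_full_of_isCoatom p h4 hM hk2 hpk e
    rw [hd] at hfull
    have hS4 : Nat.card F ^ 2 % 16 = 1 → 7 ≤ Nat.card F → k ≠ 3 ∧ k ≠ 4 := by
      intro h16 h7
      obtain ⟨H, ⟨eH⟩⟩ := PSL2.exists_permFour_sub_iff.2 h16
      have hH : H ≠ ⊤ := fun ht => by
        have h24 : Nat.card (PSL2.PSL2 F) = 24 := by
          rw [← Subgroup.card_top (G := PSL2.PSL2 F), ← ht, Nat.card_congr eH.toEquiv,
            PSL2.card_perm_four]
        have : 7 * (8 * 6) ≤ Nat.card F * ((Nat.card F + 1) * (Nat.card F - 1)) :=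
          Nat.mul_le_mul h7 (Nat.mul_le_mul (by omega) (by omega))
        omega
      have hHc : Nat.card H = 24 := (Nat.card_congr eH.toEquiv).trans PSL2.card_perm_four
      constructor <;> rintro rfl
      · obtain ⟨x, w, hx1, hx3, hw⟩ := PSL2.permFour_three_inverted
        have : Fact (Nat.Prime 3) := ⟨Nat.prime_three⟩
        exact PSL2.dihedral_absorb p h4 hM le_rfl hpk e hH (by omega)
          (x' := eH.symm x) (w' := eH.symm w)
          (by rw [MulEquiv.orderOf_eq, orderOf_eq_prime hx3 hx1])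
          (by rw [← map_inv, ← map_mul, ← map_mul, hw, map_inv])
      · obtain ⟨x, w, hx2, hx4, hw⟩ := PSL2.permFour_four_inverted
        exact PSL2.dihedral_absorb p h4 hM (by norm_num) hpk e hH (by omega)
          (x' := eH.symm x) (w' := eH.symm w)
          (by rw [MulEquiv.orderOf_eq]; exact orderOf_eq_prime_pow (p := 2) (n := 1) hx2 hx4)
          (by rw [← map_inv, ← map_mul, ← map_mul, hw, map_inv])
    have hA : (Nat.card F = 9 ∨ Nat.card F = 11) → k ≠ 5 := by
      rintro hq rfl
      obtain ⟨H, ⟨eH⟩⟩ := (PSL2.exists_alternatingFive_sub_iff (F := F)).2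
        (by rcases hq with h | h <;> rw [h] <;> norm_num)
      have hHc : Nat.card H = 60 := (Nat.card_congr eH.toEquiv).trans PSL2.card_alt_five
      have hH : H ≠ ⊤ := fun ht => by
        rw [ht, Subgroup.card_top] at hHc
        exact hbig 60 le_rfl (by omega) hHc
      obtain ⟨x, w, hx1, hx5, hw⟩ := PSL2.altFive_five_inverted
      have : Fact (Nat.Prime 5) := ⟨by norm_num⟩
      exact PSL2.dihedral_absorb p h4 hM (by norm_num) hpk e hH (by omega)
        (x' := eH.symm x) (w' := eH.symm w)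
        (by rw [MulEquiv.orderOf_eq, orderOf_eq_prime hx5 hx1])
        (by rw [← map_inv, ← map_mul, ← map_mul, hw, map_inv])
    have h79 : (Nat.card F = 7 → k ≠ 3 ∧ k ≠ 4) ∧ (Nat.card F = 9 → k ≠ 4 ∧ k ≠ 5) :=
      ⟨fun h => hS4 (by rw [h]; norm_num) (by omega),
        fun h => ⟨(hS4 (by rw [h]; norm_num) (by omega)).2, hA (Or.inl h)⟩⟩
    rcases hfull with hk | hk
    · refine Or.inr (Or.inl ⟨?_, k, by omega, ⟨e⟩⟩)
      by_contra hlt
      obtain hq | hq | hq | hq : Nat.card F = 5 ∨ Nat.card F = 7 ∨ Nat.card F = 9 ∨ Nat.card F = 11 := by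
        omega
      · omega
      · exact (h79.1 hq).1 (by omega)
      · exact (h79.2 hq).1 (by omega)
      · exact hA (Or.inr hq) (by omega)
    · exact Or.inr (Or.inr (Or.inl ⟨fun h => (h79.1 h).2 (by omega), fun h => (h79.2 h).2 (by omega),
        k, by omega, ⟨e⟩⟩))
  · -- polyhedral, `p` prime to the order
    have hp5 : Nonempty (M ≃* alternatingGroup (Fin 4)) ∨ Nonempty (M ≃* Equiv.Perm (Fin 4)) →
        5 ≤ p := by
      intro h'
      by_contra hlt
      have h12 : 12 ∣ Nat.card M := by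
        rcases h' with ⟨⟨e⟩⟩ | ⟨⟨e⟩⟩
        · rw [Nat.card_congr e.toEquiv, PSL2.card_alt_four]
        · rw [Nat.card_congr e.toEquiv, PSL2.card_perm_four]; norm_num
      have := hpp.two_le
      rcases (show p = 3 ∨ p = 4 by omega) with rfl | rfl
      · exact hpM (Dvd.dvd.trans (by norm_num) h12)
      · exact absurd hpp (by decide)
    have hFp : ∀ hn2 : 2 ≤ n, ∀ A : Type, ∀ _ : Group A, ∀ f : A →* PSL2.PSL2 (GaloisField p 1),
        Function.Injective f → ∃ H : Subgroup (PSL2.PSL2 F), H ≠ ⊤ ∧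
          Nat.card H = Nat.card (PSL2.PSL2 (GaloisField p 1)) ∧
          ∃ g : A →* PSL2.PSL2 F, Function.Injective g ∧ g.range ≤ H := by
      intro hn2 A _ f hf
      obtain ⟨H, hH, hHc, g, hg, hgH⟩ := hsub 1 n le_rfl hn2 (one_mul n)
      exact ⟨H, hH, hHc, g.comp f, hg.comp hf, (show MonoidHom.range _ ≤ MonoidHom.range _ by rw [MonoidHom.range_comp]; exact Subgroup.map_le_range _ _).trans hgH⟩
    have hc1 : Nat.card (GaloisField p 1) = p := by rw [GaloisField.card p 1 one_ne_zero, pow_one]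
    have hPbig : 5 ≤ p → 60 ≤ Nat.card (PSL2.PSL2 (GaloisField p 1)) := by
      intro h
      have h1 := PSL2.two_card_psl_ge (F := GaloisField p 1)
      rw [hc1] at h1
      have : 5 * (6 * 4) ≤ p * ((p + 1) * (p - 1)) :=
        Nat.mul_le_mul h (Nat.mul_le_mul (by omega) (by omega))
      omega
    rcases h with h | h | h
    · -- `A_4`
      have hM12 : Nat.card M = 12 := (Nat.card_congr h.some.toEquiv).trans PSL2.card_alt_four
      have h5p := hp5 (Or.inl h)
      have hn1 : n = 1 := by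
        by_contra hne
        obtain ⟨A, ⟨eA⟩⟩ := PSL2.exists_alternatingFour_sub (F := GaloisField p 1)
          (PSL2.two_ne_zero_iff_odd.2 (by rw [hc1]; exact hpp.odd_of_ne_two hp2))
        obtain ⟨H, hH, hHc, g, hg, hgH⟩ := hFp (by omega) _ _
          (A.subtype.comp eA.symm.toMonoidHom) (Subtype.coe_injective.comp eA.symm.injective)
        have := PSL2.four_absorb h4 h2 hM (Or.inl h) hH ⟨g, hg, hgH⟩ (fun h24 => absurd (hM12.symm.trans h24) (by norm_num))
        have := this.trans hM12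
        have := hPbig h5p
        omega
      subst hn1
      rw [pow_one] at hqn
      have h16 : Nat.card F ^ 2 % 16 ≠ 1 := by
        intro h16
        obtain ⟨H, ⟨eH⟩⟩ := PSL2.exists_permFour_sub_iff.2 h16
        have hHc : Nat.card H = 24 := (Nat.card_congr eH.toEquiv).trans PSL2.card_perm_four
        have := PSL2.four_absorb h4 h2 hM (Or.inl h) (H := H) (fun ht => by
            rw [ht, Subgroup.card_top] at hHc
            have : 5 * (6 * 4) ≤ Nat.card F * ((Nat.card F + 1) * (Nat.card F - 1)) :=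
              Nat.mul_le_mul h5 (Nat.mul_le_mul (by omega) (by omega))
            omega)
          ⟨H.subtype.comp (eH.symm.toMonoidHom.comp (alternatingGroup (Fin 4)).subtype),
            Subtype.coe_injective.comp (eH.symm.injective.comp Subtype.coe_injective),
            by rintro _ ⟨x, rfl⟩; exact Subtype.prop _⟩ (fun h24 => absurd (hM12.symm.trans h24) (by norm_num))
        have := this.trans hM12
        omega
      refine Or.inr (Or.inr (Or.inr (Or.inr (Or.inr (Or.inr (Or.inl ⟨hqn, ?_, ?_, h⟩))))))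
      · rw [hqn, Nat.pow_mod] at h16
        rw [hqn] at hmodd
        rcases (show p % 8 = 1 ∨ p % 8 = 3 ∨ p % 8 = 5 ∨ p % 8 = 7 by omega) with r | r | r | r
        · exfalso; rcases (show p % 16 = 1 ∨ p % 16 = 9 by omega) with s | s <;> rw [s] at h16 <;> norm_num at h16
        · exact Or.inl r
        · exact Or.inr r
        · exfalso; rcases (show p % 16 = 7 ∨ p % 16 = 15 by omega) with s | s <;> rw [s] at h16 <;> norm_num at h16
      · intro h10
        obtain ⟨H, ⟨eH⟩⟩ := (PSL2.exists_alternatingFive_sub_iff (F := F)).2 (by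
          refine Dvd.dvd.mul_left ?_ _
          rw [hqn]
          have h' : p ^ 2 % 5 = 1 := by
            rw [Nat.pow_mod]
            rcases (show p % 5 = 1 ∨ p % 5 = 4 by omega) with r | r <;> rw [r] <;> norm_num
          omega)
        have hHc : Nat.card H = 60 := (Nat.card_congr eH.toEquiv).trans PSL2.card_alt_five
        obtain ⟨f, hf⟩ := PSL2.exists_altFour_in_altFive
        have := PSL2.four_absorb h4 h2 hM (Or.inl h) (H := H) (fun ht => by
            rw [ht, Subgroup.card_top] at hHc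
            exact hbig 60 le_rfl (by omega) hHc)
          ⟨H.subtype.comp (eH.symm.toMonoidHom.comp f),
            Subtype.coe_injective.comp (eH.symm.injective.comp hf),
            by rintro _ ⟨x, rfl⟩; exact Subtype.prop _⟩ (fun h24 => absurd (hM12.symm.trans h24) (by norm_num))
        have := this.trans hM12
        omega
    · -- `S_4`
      have hM24 : Nat.card M = 24 := (Nat.card_congr h.some.toEquiv).trans PSL2.card_perm_four
      have h5p := hp5 (Or.inr h)
      have h16 := PSL2.exists_permFour_sub_iff.1 ⟨M, h⟩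
      have hpodd : p % 2 = 1 := Nat.odd_iff.1 (hpp.odd_of_ne_two hp2)
      have hn1 : n = 1 := by
        by_contra hne
        obtain ⟨A, ⟨eA⟩⟩ := PSL2.exists_alternatingFour_sub (F := GaloisField p 1)
          (PSL2.two_ne_zero_iff_odd.2 (by rw [hc1]; exact hpp.odd_of_ne_two hp2))
        have hf := Subtype.coe_injective.comp eA.symm.injective
        by_cases hp16 : p ^ 2 % 16 = 1
        · obtain ⟨H, hH, hHc, g, hg, hgH⟩ := hFp (by omega) _ _ (A.subtype.comp eA.symm.toMonoidHom) hf
          have h8 : 8 ∣ Nat.card H := by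
            rw [hHc]
            have h1 := PSL2.card_psl_mul (F := GaloisField p 1)
            rw [hc1, Nat.gcd_eq_left (by omega : 2 ∣ p - 1)] at h1
            have h16' : 16 ∣ (p + 1) * (p - 1) := by rw [← GLOrder.sq_sub_one]; omega
            exact Nat.dvd_of_mul_dvd_mul_left two_pos (show 2 * 8 ∣ _ from h1 ▸ h16'.mul_left p)
          have := PSL2.four_absorb h4 h2 hM (Or.inr h) hH ⟨g, hg, hgH⟩ (fun _ => h8)
          have := this.trans hM24
          have := hPbig h5p
          omega
        · have hne' : Even n := by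
            rcases Nat.even_or_odd n with h | ⟨k, hk⟩
            · exact h
            · exfalso
              apply hp16
              have h88 : (p ^ 2) ^ 2 % 16 = 1 := by
                rw [← pow_mul, Nat.pow_mod]
                have := Nat.mod_lt p (show 16 > 0 by norm_num)
                rcases (show p % 16 = 1 ∨ p % 16 = 3 ∨ p % 16 = 5 ∨ p % 16 = 7 ∨ p % 16 = 9 ∨
                  p % 16 = 11 ∨ p % 16 = 13 ∨ p % 16 = 15 by omega) with r | r | r | r | r | r | r | r <;>
                  rw [r] <;> norm_num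
              rw [hqn, hk, ← pow_mul, show (2 * k + 1) * 2 = 2 * 2 * k + 2 by ring, pow_add, pow_mul,
                Nat.mul_mod, Nat.pow_mod, pow_mul, h88, one_pow] at h16
              simpa using h16
          obtain ⟨H, ⟨eH⟩⟩ := PSL2.exists_pgl_subfield_sub (F := F) (L := GaloisField p 1) (m := n)
            (by rw [hc1, hqn]) hne'
          have hHc : Nat.card H = p * ((p + 1) * (p - 1)) := by
            rw [Nat.card_congr eH.toEquiv, PSL2.card_pgl_eq, hc1]
          have hle120 : 5 * (6 * 4) ≤ p * ((p + 1) * (p - 1)) :=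
            Nat.mul_le_mul h5p (Nat.mul_le_mul (by omega) (by omega))
          have hH : H ≠ ⊤ := fun ht => by
            rw [ht, Subgroup.card_top] at hHc
            have hp2le : p ^ 2 ≤ Nat.card F := hqn ▸ Nat.pow_le_pow_right hpp.pos (by omega)
            have h3 : p * p ≤ Nat.card F := by rwa [← pow_two]
            have h3p : 3 * p ≤ p * p := Nat.mul_le_mul_right p (by omega)
            have hstep : 3 * p * ((p + 1) * (p - 1)) ≤
                Nat.card F * ((Nat.card F + 1) * (Nat.card F - 1)) :=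
              Nat.mul_le_mul (by omega) (Nat.mul_le_mul (by omega) (by omega))
            rw [mul_assoc] at hstep
            omega
          have h8 : 8 ∣ Nat.card H := by
            rw [hHc]
            refine Dvd.dvd.mul_left ?_ _
            rw [← GLOrder.sq_sub_one]
            have h88 : p ^ 2 % 8 = 1 := by
              rw [Nat.pow_mod]
              rcases (show p % 8 = 1 ∨ p % 8 = 3 ∨ p % 8 = 5 ∨ p % 8 = 7 by omega) with r | r | r | r <;>
                rw [r] <;> norm_num
            omega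
          have := PSL2.four_absorb h4 h2 hM (Or.inr h) hH
            ⟨H.subtype.comp (eH.symm.toMonoidHom.comp
                (Matrix.ProjectiveSpecialLinearGroup.toPGL.comp (A.subtype.comp eA.symm.toMonoidHom))),
              Subtype.coe_injective.comp (eH.symm.injective.comp
                (Matrix.ProjectiveSpecialLinearGroup.toPGL_injective.comp hf)),
              by rintro _ ⟨x, rfl⟩; exact Subtype.prop _⟩ (fun _ => h8)
          have := this.trans hM24
          omega
      subst hn1
      rw [pow_one] at hqn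
      refine Or.inr (Or.inr (Or.inr (Or.inr (Or.inr (Or.inr (Or.inr ⟨hqn, ?_, h⟩))))))
      rw [hqn, Nat.pow_mod] at h16
      rcases (show p % 8 = 1 ∨ p % 8 = 3 ∨ p % 8 = 5 ∨ p % 8 = 7 by omega) with r | r | r | r
      · exact Or.inl r
      · exfalso; rcases (show p % 16 = 3 ∨ p % 16 = 11 by omega) with s | s <;> rw [s] at h16 <;> norm_num at h16
      · exfalso; rcases (show p % 16 = 5 ∨ p % 16 = 13 by omega) with s | s <;> rw [s] at h16 <;> norm_num at h16
      · exact Or.inr r
    · have hp5' : p ≠ 5 := by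
        rintro rfl
        exact hpM (by rw [(Nat.card_congr h.some.toEquiv).trans PSL2.card_alt_five]; norm_num)
      obtain ⟨ha, hb⟩ := hA5 h hp5'
      exact Or.inr (Or.inr (Or.inr (Or.inr (Or.inr (Or.inl ⟨ha, hb, h⟩)))))
  · obtain ⟨ha, hb⟩ := hA5 h (by omega)
    exact Or.inr (Or.inr (Or.inr (Or.inr (Or.inr (Or.inl ⟨ha, hb, h⟩)))))
  · have := PSL2.charP_subfield p R
    have := Fintype.ofFinite R
    obtain ⟨l, hl, hRl, -⟩ := PSL2.q_cases (F := R) p
    have hl0 : l ≠ 0 := by omega
    letI : Fintype (GaloisField p l) := Fintype.ofFinite _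
    have hcard : Fintype.card R = Fintype.card (GaloisField p l) := by
      rw [← Nat.card_eq_fintype_card, ← Nat.card_eq_fintype_card, hRl, GaloisField.card p l hl0]
    let σ : R ≃+* GaloisField p l := FiniteField.ringEquivOfCardEq hcard
    rcases PSL2.subfield_prime_of_isCoatom p hm hR hM h with ⟨⟨e⟩, hmp, hmo⟩ | ⟨⟨e⟩, rfl, -⟩
    · refine Or.inr (Or.inr (Or.inr (Or.inr (Or.inl ⟨GaloisField p l, inferInstance, inferInstance,
        m, hmp, hmo hp2, ?_, ⟨e.trans (PSL2.pslEquiv σ)⟩⟩))))
      rw [← hcard, ← Nat.card_eq_fintype_card, hR]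
    · refine Or.inr (Or.inr (Or.inr (Or.inl ⟨GaloisField p l, inferInstance, inferInstance, ?_,
        ⟨e.trans (PSL2.pglEquiv σ)⟩⟩)))
      rw [← hcard, ← Nat.card_eq_fintype_card, hR]

end Cfsg.Agent.S5892
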