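import Cfsg.Statements.S0322
import Cfsg.Agent.Lib.BN.Parabolic

set_option autoImplicit false
open Cfsg

namespace Cfsg.Agent.S0322

/-- A group with a (B,N)-pair of rank one acts doubly transitively on the left cosets of `B`. -/
theorem result {G : Type*} [Group G] (P : Cfsg.BNPair G) (h : P.rank = 1) : MulAction.IsMultiplyPretransitive G (G ⧸ P.B) 2 := by
  obtain ⟨s, hs⟩ : ∃ s, P.S = {s} := by
    unfold Cfsg.BNPair.rank at h
    rw [Nat.card_coe_set_eq, Set.ncard_eq_one] at h
    exact h
  have hsS : s ∈ P.S := by rw [hs]; rfl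
  have huniv : ∀ g : G, g ∈ P.B ∨
      ∃ b ∈ P.B, ∃ b' ∈ P.B, g = b * s * b' := fun g => by
    obtain ⟨w, hw⟩ := BN.exists_mem_C P g
    obtain ⟨l, hl, rfl⟩ := BN.exists_isReduced (BN.sigma_sq P) (BN.closure_sigma P) w
    have hall : ∀ t : P.S, t = ⟨s, hsS⟩ := fun t => Subtype.ext (by simpa [hs] using t.2)
    match l, hl, hw with
    | [], _, hw => exact Or.inl ((BN.mem_C_one_iff P).1 hw)
    | [t], _, hw =>
      rw [hall t, BN.wprod_cons, BN.wprod_nil, mul_one] at hw
      exact Or.inr ((BN.mem_C_mk P).1 hw)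
    | t :: t' :: l, hl, _ =>
      exfalso
      have e : BN.wprod (BN.sigma P) (t :: t' :: l) = BN.wprod (BN.sigma P) l := by
        rw [hall t, hall t', BN.wprod_cons, BN.wprod_cons, BN.sigma_mul_cancel (BN.sigma_sq P)]
      have := BN.wlen_le (σ := BN.sigma P) l
      rw [BN.IsReduced, e] at hl
      simp only [List.length_cons] at hl
      omega
  have hsB : s ∉ P.B := fun h' =>
    BN.sigma_ne_one P ⟨s, hsS⟩ ((BN.wOf_eq_one_iff P (P.subset hsS)).2 h')
  rw [MulAction.is_two_pretransitive_iff]
  -- every ordered pair of distinct cosets is a translate of `(B, sB)`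
  have key : ∀ a b : G ⧸ P.B, a ≠ b →
      ∃ g : G, g • ((1 : G) : G ⧸ P.B) = a ∧ g • ((s : G) : G ⧸ P.B) = b := by
    intro a b hab
    induction a using QuotientGroup.induction_on with
    | H x =>
      induction b using QuotientGroup.induction_on with
      | H y =>
        rcases huniv (x⁻¹ * y) with hxy | ⟨c, hc, c', hc', hxy⟩
        · exact absurd (QuotientGroup.eq.2 hxy) hab
        · refine ⟨x * c, ?_, ?_⟩
          · rw [MulAction.Quotient.smul_mk, QuotientGroup.eq]
            simpa using hc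
          · rw [MulAction.Quotient.smul_mk, QuotientGroup.eq]
            have e : (x * c * s)⁻¹ * y = c' := by
              rw [show y = x * (x⁻¹ * y) by group, hxy]; group
            simpa only [smul_eq_mul, e] using hc'
  intro a b c d hab hcd
  obtain ⟨g₁, h1, h2⟩ := key a b hab
  obtain ⟨g₂, h3, h4⟩ := key c d hcd
  exact ⟨g₂ * g₁⁻¹, by rw [← h1, mul_smul, inv_smul_smul, h3],
    by rw [← h2, mul_smul, inv_smul_smul, h4]⟩

end Cfsg.Agent.S0322
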