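import Cfsg.Statements.S3056
import Cfsg.Agent.Lib.StrongEmb.Basic

set_option autoImplicit false
open Cfsg
open scoped Pointwise

namespace Cfsg.Agent.S3056

private theorem coe_smul_sylow {G : Type*} [Group G] {p : ℕ} (g : G) (P : Sylow p G) :
    ((g • P : Sylow p G) : Subgroup G) = (P : Subgroup G).map (MulAut.conj g).toMonoidHom := rfl

/-- Let G be a finite group and p a prime. Join two Sylow p-subgroups when they are distinct and meet nontrivially. This graph on the Sylow p-subgroups is disconnected (the Sylow p-subgroups are not chain-connected through nontrivial intersections) if and only if G has a strongly p-embedded subgroup in the classical sense: a proper subgroup H of order divisible by p such that H ∩ gHg⁻¹ has order prime to p for every g outside H. -/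
theorem result {G : Type*} [Group G] [Finite G]
    (p : ℕ) [Fact p.Prime] :
    ¬ Cfsg.IsSylowChainConnected p G ↔
      ∃ H : Subgroup G, H ≠ ⊤ ∧ p ∣ Nat.card H ∧
        ∀ g : G, g ∉ H → ¬ p ∣ Nat.card ↥(H ⊓ H.map (MulAut.conj g).toMonoidHom) := by
  constructor
  · intro h
    unfold Cfsg.IsSylowChainConnected at h
    push_neg at h
    obtain ⟨S, T, hST⟩ := h
    have hne : S ≠ T := by
      rintro rfl
      obtain ⟨i, -⟩ := hST 0 (fun _ => S) rfl rfl (fun _ => inf_le_left)
      exact i.elim0
    have hbot : (S : Subgroup G) ⊓ (T : Subgroup G) = ⊥ := by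
      by_contra hb
      have hle : ∀ i : Fin (1 + 1), (S : Subgroup G) ⊓ (T : Subgroup G) ≤ ((![S, T] i : Sylow p G) : Subgroup G) := by
        intro i; fin_cases i
        · exact inf_le_left
        · exact inf_le_right
      obtain ⟨i, hi⟩ := hST 1 ![S, T] rfl rfl hle
      fin_cases i
      exact hb (hi hne)
    let r : Sylow p G → Sylow p G → Prop := fun A B => A ≠ B ∧ (A : Subgroup G) ⊓ (B : Subgroup G) ≠ ⊥
    have hsymm : ∀ {A B}, Relation.ReflTransGen r A B → Relation.ReflTransGen r B A := by
      intro A B hAB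
      induction hAB with
      | refl => exact .refl
      | tail _ h2 ih => exact .head ⟨h2.1.symm, by rw [inf_comm]; exact h2.2⟩ ih
    have hsmul : ∀ (g : G) {A B}, Relation.ReflTransGen r A B → Relation.ReflTransGen r (g • A) (g • B) := by
      intro g A B hAB
      refine hAB.lift (g • ·) ?_
      intro a b hab
      refine ⟨fun e => hab.1 (smul_left_cancel g e), ?_⟩
      rw [coe_smul_sylow, coe_smul_sylow, ← Subgroup.map_inf _ _ _ (MulAut.conj g).injective, Ne,
        Subgroup.map_eq_bot_iff_of_injective _ (MulAut.conj g).injective]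
      exact hab.2
    have hno : ¬ Relation.ReflTransGen r S T := by
      intro hc
      have hchain : ∀ B, Relation.ReflTransGen r S B → ∃ (n : ℕ) (c : Fin (n + 1) → Sylow p G),
          c 0 = S ∧ c (Fin.last n) = B ∧ ∀ i : Fin n, r (c i.castSucc) (c i.succ) := by
        intro B hB
        induction hB with
        | refl => exact ⟨0, fun _ => S, rfl, rfl, fun i => i.elim0⟩
        | @tail b c hb hbc ih =>
          obtain ⟨n, f, h0, hl, hs⟩ := ih
          refine ⟨n + 1, Fin.snoc f c, ?_, by simp, ?_⟩
          · rw [← Fin.castSucc_zero, Fin.snoc_castSucc, h0]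
          · intro i
            induction i using Fin.lastCases with
            | last => rw [Fin.snoc_castSucc, Fin.succ_last, Fin.snoc_last, hl]; exact hbc
            | cast j => rw [Fin.snoc_castSucc, Fin.succ_castSucc, Fin.snoc_castSucc]; exact hs j
      obtain ⟨n, c, h0, hl, hs⟩ := hchain T hc
      obtain ⟨i, hi⟩ := hST n c h0 hl (fun i => hbot.le.trans bot_le)
      exact (hs i).2 (hi (hs i).1)
    let H : Subgroup G :=
      { carrier := {g | Relation.ReflTransGen r S (g • S)}
        one_mem' := by
          show Relation.ReflTransGen r S ((1 : G) • S)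
          rw [one_smul]
        mul_mem' := by
          intro a b ha hb
          show Relation.ReflTransGen r S ((a * b) • S)
          rw [mul_smul]
          exact Relation.ReflTransGen.trans ha (hsmul a hb)
        inv_mem' := by
          intro a ha
          show Relation.ReflTransGen r S (a⁻¹ • S)
          have h1 := hsmul a⁻¹ ha
          rw [inv_smul_smul] at h1
          exact hsymm h1 }
    have hmem : ∀ g, g ∈ H ↔ Relation.ReflTransGen r S (g • S) := fun _ => Iff.rfl
    have hSH : (S : Subgroup G) ≤ H := by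
      intro s hs
      rw [hmem, Sylow.smul_eq_iff_mem_normalizer.mpr (Subgroup.le_normalizer hs)]
    have hS1 : (S : Subgroup G) ≠ ⊥ := by
      intro hS0
      obtain ⟨g, hg⟩ := MulAction.exists_smul_eq G S T
      apply hne
      apply Sylow.ext
      rw [← hg, coe_smul_sylow, hS0, Subgroup.map_bot]
    refine ⟨H, ?_, ?_, ?_⟩
    · intro hH
      obtain ⟨g, hg⟩ := MulAction.exists_smul_eq G S T
      apply hno
      have h1 : Relation.ReflTransGen r S (g • S) := (hmem g).mp (hH ▸ Subgroup.mem_top g)
      rwa [hg] at h1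
    · obtain ⟨k, hk⟩ := IsPGroup.iff_card.mp S.isPGroup'
      have hk0 : k ≠ 0 := by
        rintro rfl
        exact hS1 (Subgroup.card_eq_one.mp (by simpa using hk))
      exact (dvd_pow_self p hk0).trans (hk ▸ Subgroup.card_dvd_of_le hSH)
    · intro g hg hdvd
      apply hg
      obtain ⟨x, hx⟩ := exists_prime_orderOf_dvd_card' p hdvd
      have hxH : (x : G) ∈ H := x.2.1
      have hxg : (x : G) ∈ H.map (MulAut.conj g).toMonoidHom := x.2.2
      obtain ⟨y, hy, hyx⟩ := hxg
      -- every `p`-element of `H` lies in some `h • S`, `h ∈ H`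
      have hcover : ∀ z ∈ H, orderOf z = p → ∃ h ∈ H, z ∈ ((h • S : Sylow p G) : Subgroup G) := by
        intro z hz hzo
        have hzp : IsPGroup p ↥(Subgroup.zpowers (⟨z, hz⟩ : ↥H)) := by
          refine IsPGroup.of_card (n := 1) ?_
          rw [Nat.card_zpowers, pow_one, ← hzo]
          exact (Subgroup.orderOf_coe (⟨z, hz⟩ : ↥H)).symm
        obtain ⟨Q, hQ⟩ := hzp.exists_le_sylow
        obtain ⟨h, hh⟩ := MulAction.exists_smul_eq (↥H) (S.subtype hSH) Q
        refine ⟨h, h.2, ?_⟩
        have h2 : (⟨z, hz⟩ : ↥H) ∈ ((h • S.subtype hSH : Sylow p ↥H) : Subgroup ↥H) := hh ▸ hQ (Subgroup.mem_zpowers _)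
        rw [Sylow.smul_subtype] at h2
        exact h2
      obtain ⟨h₁, hh₁, hx₁⟩ := hcover x hxH (by rw [Subgroup.orderOf_coe]; exact hx)
      have hyo : orderOf y = p := by
        rw [← orderOf_injective (MulAut.conj g).toMonoidHom (MulAut.conj g).injective y, hyx,
          Subgroup.orderOf_coe, hx]
      obtain ⟨h₂, hh₂, hy₂⟩ := hcover y hy hyo
      have hx₂ : (x : G) ∈ ((g • h₂ • S : Sylow p G) : Subgroup G) := by
        rw [coe_smul_sylow, ← hyx]
        exact Subgroup.mem_map_of_mem _ hy₂
      have hx1 : (x : G) ≠ 1 := by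
        intro h0
        rw [← Subgroup.orderOf_coe, h0, orderOf_one] at hx
        exact (Fact.out : p.Prime).ne_one hx.symm
      have hlink : Relation.ReflTransGen r (h₁ • S) (g • h₂ • S) := by
        by_cases he : h₁ • S = g • h₂ • S
        · rw [he]
        · refine .single ⟨he, fun hb => hx1 (Subgroup.mem_bot.mp (hb.le ⟨hx₁, hx₂⟩))⟩
      exact (hmem g).mpr (((hmem h₁).mp hh₁).trans (hlink.trans (hsymm (hsmul g ((hmem h₂).mp hh₂)))))
  · rintro ⟨H, hH, hpH, hse⟩ hconn
    obtain ⟨P, hPH⟩ := StrongEmb.sylow_le hpH hse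
    obtain ⟨g, hg⟩ := SetLike.exists_not_mem_of_ne_top H hH rfl
    obtain ⟨n, c, h0, hl, -, hs⟩ := hconn P (g • P)
    have hall : ∀ i : Fin (n + 1), (c i : Subgroup G) ≤ H := by
      intro i
      induction i using Fin.induction with
      | zero => rw [h0]; exact hPH
      | succ j ih =>
        refine StrongEmb.sylow_le_of_inf_ne_bot hse _ ?_
        intro hb
        exact (hs j).2 (le_bot_iff.mp ((inf_le_inf_right _ ih).trans hb.le))
    have hT := hall (Fin.last n)
    rw [hl] at hT
    apply hse g hg
    have hP1 : (P : Subgroup G) ≠ ⊥ := P.ne_bot_of_dvd_card (hpH.trans (Subgroup.card_subgroup_dvd_card H))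
    obtain ⟨k, hk⟩ := IsPGroup.iff_card.mp (g • P : Sylow p G).isPGroup'
    have hle : ((g • P : Sylow p G) : Subgroup G) ≤ H ⊓ H.map (MulAut.conj g).toMonoidHom := by
      refine le_inf hT ?_
      rw [coe_smul_sylow]
      exact Subgroup.map_mono hPH
    have hk0 : k ≠ 0 := by
      rintro rfl
      apply hP1
      rw [pow_zero, Subgroup.card_eq_one, coe_smul_sylow,
        Subgroup.map_eq_bot_iff_of_injective _ (MulAut.conj g).injective] at hk
      exact hk
    exact (dvd_pow_self p hk0).trans (hk ▸ Subgroup.card_dvd_of_le hle)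

end Cfsg.Agent.S3056
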