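import Cfsg.Statements.S3058
import Cfsg.Agent.S3056
import Cfsg.Agent.Lib.Coprime.Generation

set_option autoImplicit false
open Cfsg
open scoped Pointwise

namespace Cfsg.Agent.S3058

/-- Let p be a prime and G a finite group whose Sylow p-subgroups are not chain-connected through nontrivial intersections (so G has a strongly p-embedded subgroup). If N and M are normal subgroups of G whose orders are both divisible by p, then the order of N ∩ M is divisible by p. Consequently, among the normal subgroups of G whose order is divisible by p there is a smallest one (the intersection of all of them). -/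
theorem result {G : Type*} [Group G] [Finite G]
    (p : ℕ) [Fact p.Prime] (hG : ¬ Cfsg.IsSylowChainConnected p G)
    (N M : Subgroup G) [N.Normal] [M.Normal] (hN : p ∣ Nat.card N) (hM : p ∣ Nat.card M) :
    p ∣ Nat.card ↥(N ⊓ M) := by
  obtain ⟨H, hH, hpH, hse⟩ := (S3056.result (G := G) p).mp hG
  by_contra hK
  have hpp : p.Prime := Fact.out
  obtain ⟨P, hPH⟩ := StrongEmb.sylow_le hpH hse
  set K := N ⊓ M with hKdef
  have hmeet : ∀ L : Subgroup G, L.Normal → p ∣ Nat.card L → ∃ x ∈ (P : Subgroup G) ⊓ L, orderOf x = p := by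
    intro L hL hpL
    haveI := hL
    have h1 : p ∣ Nat.card ↥((P : Subgroup G) ⊓ L) := by
      have h2 := StrongEmb.not_dvd_relIndex_inf P L
      have h3 : Nat.card ↥(((P : Subgroup G)).subgroupOf L) * (P : Subgroup G).relIndex L = Nat.card L :=
        Subgroup.card_mul_index _
      have h4 : Nat.card ↥(((P : Subgroup G)).subgroupOf L) = Nat.card ↥((P : Subgroup G) ⊓ L) := by
        rw [← Subgroup.subgroupOf_map_subtype]
        exact Nat.card_congr (((P : Subgroup G).subgroupOf L).equivMapOfInjective L.subtype L.subtype_injective).toEquiv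
      exact h4 ▸ ((hpp.dvd_mul.mp (h3 ▸ hpL)).resolve_right h2)
    obtain ⟨x, hx⟩ := exists_prime_orderOf_dvd_card' p h1
    exact ⟨x, x.2, (Subgroup.orderOf_coe x).trans hx⟩
  obtain ⟨x, ⟨hxP, hxN⟩, hxo⟩ := hmeet N inferInstance hN
  obtain ⟨y, ⟨hyP, hyM⟩, hyo⟩ := hmeet M inferInstance hM
  -- `p`-elements of `K` are trivial
  have hKtriv : ∀ z ∈ K, z ∈ (P : Subgroup G) → z = 1 := by
    intro z hzK hzP
    obtain ⟨k, hk⟩ := P.isPGroup' ⟨z, hzP⟩
    exact orderOf_eq_one_iff.mp (Nat.eq_one_of_dvd_coprimes ((hpp.coprime_iff_not_dvd.mpr hK).symm.pow_right k)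
      (Subgroup.orderOf_dvd_natCard K hzK) (orderOf_dvd_of_pow_eq_one (congrArg Subtype.val hk)))
  have hxy : Commute x y := by
    have hc : x * y * x⁻¹ * y⁻¹ = 1 := by
      refine hKtriv _ ⟨?_, ?_⟩ ((P : Subgroup G).mul_mem ((P : Subgroup G).mul_mem ((P : Subgroup G).mul_mem hxP hyP) ((P : Subgroup G).inv_mem hxP)) ((P : Subgroup G).inv_mem hyP))
      · rw [show x * y * x⁻¹ * y⁻¹ = x * (y * x⁻¹ * y⁻¹) by group]
        exact N.mul_mem hxN (Subgroup.Normal.conj_mem inferInstance _ (N.inv_mem hxN) y)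
      · exact M.mul_mem (Subgroup.Normal.conj_mem inferInstance _ hyM x) (M.inv_mem hyM)
    calc x * y = (x * y * x⁻¹ * y⁻¹) * (y * x) := by group
      _ = y * x := by rw [hc, one_mul]
  set A := Subgroup.zpowers x ⊔ Subgroup.zpowers y
  haveI hAab : IsMulCommutative A := by
    rw [show A = Subgroup.closure {x, y} from by
      show Subgroup.zpowers x ⊔ Subgroup.zpowers y = _
      rw [Subgroup.zpowers_eq_closure, Subgroup.zpowers_eq_closure, ← Subgroup.closure_union, Set.singleton_union]]
    exact Subgroup.isMulCommutative_closure (by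
      rintro a (rfl | rfl) b (rfl | rfl)
      · rfl
      · exact hxy.eq
      · exact hxy.eq.symm
      · rfl)
  have hAP : A ≤ (P : Subgroup G) := sup_le (Subgroup.zpowers_le.mpr hxP) (Subgroup.zpowers_le.mpr hyP)
  have hAcyc : ¬ IsCyclic A := by
    intro hc
    have hzx : Nat.card ↥(Subgroup.zpowers x) = p := by rw [Nat.card_zpowers, hxo]
    have hzy : Nat.card ↥(Subgroup.zpowers y) = p := by rw [Nat.card_zpowers, hyo]
    have hy' : y ∈ Subgroup.zpowers x := by
      obtain ⟨g, hg⟩ := IsCyclic.exists_generator (α := ↥A)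
      have hAc : ∀ z ∈ A, z ^ p = 1 := by
        intro z hz
        obtain ⟨a, ha, b, hb, rfl⟩ : z ∈ (Subgroup.zpowers x : Set G) * (Subgroup.zpowers y : Set G) := by
          have hn : Subgroup.zpowers y ≤ Subgroup.normalizer ((Subgroup.zpowers x : Subgroup G) : Set G) := by
            rw [Subgroup.zpowers_le]
            apply Subgroup.mem_normalizer_fintype
            rintro _ ⟨j, rfl⟩
            refine ⟨j, ?_⟩
            show x ^ j = y * x ^ j * y⁻¹
            rw [((hxy.zpow_left j).eq).symm]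
            group
          rw [← Subgroup.coe_mul_of_right_le_normalizer_left _ _ hn]
          exact hz
        obtain ⟨i, rfl⟩ := ha
        obtain ⟨j, rfl⟩ := hb
        show (x ^ i * y ^ j) ^ p = 1
        rw [(hxy.zpow_zpow i j).mul_pow, ← zpow_natCast, ← zpow_natCast, ← zpow_mul, ← zpow_mul, mul_comm i, mul_comm j,
          zpow_mul, zpow_mul, zpow_natCast, zpow_natCast, ← hxo, pow_orderOf_eq_one, hxo, ← hyo, pow_orderOf_eq_one,
          one_zpow, one_zpow, one_mul]
      have hcardA : Nat.card A ≤ p := by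
        rw [← orderOf_eq_card_of_forall_mem_zpowers hg]
        exact Nat.le_of_dvd hpp.pos (orderOf_dvd_of_pow_eq_one (Subtype.ext (hAc g g.2)))
      have := Subgroup.eq_of_le_of_card_ge (le_sup_left : Subgroup.zpowers x ≤ A) (hzx.symm ▸ hcardA)
      exact this ▸ Subgroup.mem_sup_right (Subgroup.mem_zpowers y)
    have h1 := hKtriv y ⟨(Subgroup.zpowers_le.mpr hxN) hy', hyM⟩ hyP
    rw [h1, orderOf_one] at hyo
    exact hpp.ne_one hyo.symm
  have hKH : K ≤ H := by
    have hAp : IsPGroup p ↥A := P.isPGroup'.to_le hAP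
    obtain ⟨k, hk⟩ := IsPGroup.iff_card.mp hAp
    refine Coprime.le_of_noncyclic hAcyc Subgroup.le_normalizer_of_normal
      (hk ▸ (hpp.coprime_iff_not_dvd.mpr hK).pow_left k) fun a ha ha1 => ?_
    refine inf_le_right.trans (le_trans ?_ (StrongEmb.normalizer_le hse (R := Subgroup.zpowers a)
      (hAp.to_le (Subgroup.zpowers_le.mpr ha)) (Subgroup.zpowers_ne_bot.mpr ha1)
      (Subgroup.zpowers_le.mpr (hPH (hAP ha)))))
    intro c hc
    have hca : Commute a c := Subgroup.mem_centralizer_iff.mp hc a rfl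
    apply Subgroup.mem_normalizer_fintype
    rintro _ ⟨j, rfl⟩
    refine ⟨j, ?_⟩
    show a ^ j = c * a ^ j * c⁻¹
    rw [((hca.zpow_left j).eq).symm]
    group
  have hy1 : y ≠ 1 := fun h => hpp.ne_one (by rw [← hyo, h, orderOf_one])
  have hNH : N ≤ H := by
    intro n hn
    by_contra hnH
    have hcK : n * y * n⁻¹ * y⁻¹ ∈ K := by
      refine ⟨?_, M.mul_mem (Subgroup.Normal.conj_mem inferInstance _ hyM n) (M.inv_mem hyM)⟩
      rw [show n * y * n⁻¹ * y⁻¹ = n * (y * n⁻¹ * y⁻¹) by group]
      exact N.mul_mem hn (Subgroup.Normal.conj_mem inferInstance _ (N.inv_mem hn) y)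
    have hyH : n * y * n⁻¹ ∈ H := by
      have := H.mul_mem (hKH hcK) (hPH hyP)
      simpa using this
    apply hse n⁻¹ (fun h => hnH (H.inv_mem_iff.mp h))
    have hmem : y ∈ H ⊓ H.map (MulAut.conj n⁻¹).toMonoidHom := by
      refine ⟨hPH hyP, n * y * n⁻¹, hyH, ?_⟩
      simp [mul_assoc]
    rw [← hyo]
    exact Subgroup.orderOf_dvd_natCard _ hmem
  have hxNP : (P : Subgroup G) ⊓ N ≠ ⊥ := by
    intro h
    have : x = 1 := Subgroup.mem_bot.mp (h.le ⟨hxP, hxN⟩)
    exact hpp.ne_one (by rw [← hxo, this, orderOf_one])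
  apply hH
  rw [eq_top_iff, ← StrongEmb.normalizer_inf_sup_eq_top P N]
  exact sup_le (StrongEmb.normalizer_le hse (P.isPGroup'.to_le inf_le_left) hxNP (inf_le_left.trans hPH)) hNH

end Cfsg.Agent.S3058
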