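import Cfsg.Statements.S1125
import Cfsg.Agent.Lib.RankOne.SetupInvolutions

set_option autoImplicit false
open Cfsg Cfsg.Agent Cfsg.Agent.RankOne

namespace Cfsg.Agent.S1125

/-- In the rank-one set-up (`G` finite and doubly transitive on `Ω`, `t` an involution moving `a`, `Q` normal in `G_a` with `G_a = Q D`, `Q ⊓ D = 1` for the two-point stabiliser `D = G_a ⊓ G_{t • a}`, `|Q|` even, `|D|` odd), let `X ⊆ D` fix at least three points of `Ω`. Then `C_G(X)` is doubly transitive on the fixed-point set of `X`, `|C_Q(X)|` is even, and `C_{G_a}(X) = C_Q(X) C_D(X)`. -/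
theorem result {G Ω : Type*} [Group G] [Finite G] [MulAction G Ω] {a : Ω} {t : G} {Q : Subgroup G}
    (hS : Cfsg.IsRankOneSetup G Ω a t Q)
    (X : Set G) (hX : X ⊆ ((MulAction.stabilizer G a ⊓ MulAction.stabilizer G (t • a)) : Set G))
    (h3 : ∃ b c d : Ω, b ≠ c ∧ b ≠ d ∧ c ≠ d ∧ ∀ x ∈ X, x • b = b ∧ x • c = c ∧ x • d = d) :
    (∀ b₁ b₂ c₁ c₂ : Ω, (∀ x ∈ X, x • b₁ = b₁ ∧ x • b₂ = b₂ ∧ x • c₁ = c₁ ∧ x • c₂ = c₂) →
        b₁ ≠ b₂ → c₁ ≠ c₂ → ∃ g ∈ Subgroup.centralizer X, g • b₁ = c₁ ∧ g • b₂ = c₂) ∧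
      Even (Nat.card ↥(Subgroup.centralizer X ⊓ Q)) ∧
      (Subgroup.centralizer X ⊓ Q) ⊔ (Subgroup.centralizer X ⊓ (MulAction.stabilizer G a ⊓ MulAction.stabilizer G (t • a))) = Subgroup.centralizer X ⊓ MulAction.stabilizer G a := by
  refine ⟨fun b₁ b₂ c₁ c₂ hfix hb hc => Setup.centralizer_two_transitive hS h3 hfix hb hc, ?_, ?_⟩
  · obtain ⟨s, hs, hsX⟩ := Setup.exists_ii_centralizer hS h3 hX
    have hmem : s ∈ Subgroup.centralizer X ⊓ Q := ⟨hsX, Setup.mem_Q_of_ii hS hs⟩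
    rw [even_iff_two_dvd, ← Involution.orderOf_of_sq hs.2.2 hs.2.1]
    exact Subgroup.orderOf_dvd_natCard _ hmem
  · refine le_antisymm (sup_le (inf_le_inf le_rfl hS.le) (inf_le_inf le_rfl inf_le_left)) ?_
    rintro g ⟨hgX, hga⟩
    obtain ⟨x, hx, d, hd, rfl⟩ := Setup.exists_decomp hS hga
    have key : ∀ c ∈ X, c * x * c⁻¹ = x ∧ c * d * c⁻¹ = d := by
      intro c hc
      have hcD := hX hc
      refine Setup.decomp_unique hS (hS.conj_mem c hcD.1 x hx) hx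
        (mul_mem (mul_mem hcD hd) (inv_mem hcD)) hd ?_
      calc c * x * c⁻¹ * (c * d * c⁻¹) = c * (x * d) * c⁻¹ := by group
        _ = x * d := by rw [Subgroup.mem_centralizer_iff.1 hgX c hc, mul_inv_cancel_right]
    exact Subgroup.mul_mem_sup
      ⟨Subgroup.mem_centralizer_iff.2 fun c hc => mul_inv_eq_iff_eq_mul.1 (key c hc).1, hx⟩
      ⟨Subgroup.mem_centralizer_iff.2 fun c hc => mul_inv_eq_iff_eq_mul.1 (key c hc).2, hd⟩

end Cfsg.Agent.S1125
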