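import Cfsg.Statements.S4534
import Cfsg.Agent.EqLemmas
import Cfsg.Agent.Lib.SymBlocks.Defect

set_option autoImplicit false
open Cfsg

namespace Cfsg.Agent.S4534

open Cfsg.Agent.SymBlocks

/-- An elementary abelian subgroup of a group of sectional rank at most `s`. -/
theorem card_le_of_sectional {G : Type*} [Group G] {p s : ℕ} (hs : Cfsg.SectionalPRankLE p s G)
    (A : Subgroup G) (hA : IsMulCommutative A) (hexp : ∀ a ∈ A, a ^ p = 1) :
    Nat.card A ≤ p ^ s := by
  have h := hs ⊤ ⊥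
  let e : G ≃* ((⊤ : Subgroup G) ⧸ (⊥ : Subgroup (⊤ : Subgroup G))) :=
    Subgroup.topEquiv.symm.trans QuotientGroup.quotientBot.symm
  rw [Nat.card_congr (A.equivMapOfInjective e.toMonoidHom e.injective).toEquiv]
  refine h _ ⟨⟨fun a b => ?_⟩⟩ ?_
  · obtain ⟨a', ha', ha⟩ := a.2
    obtain ⟨b', hb', hb⟩ := b.2
    refine Subtype.ext ?_
    rw [Subgroup.coe_mul, Subgroup.coe_mul, ← ha, ← hb, ← map_mul, ← map_mul]
    exact congrArg _ (congrArg Subtype.val (hA.is_comm.comm ⟨a', ha'⟩ ⟨b', hb'⟩))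
  · rintro _ ⟨a, ha, rfl⟩
    rw [← map_pow, hexp a ha, map_one]

/-- Let B be a p-block of a finite symmetric group (relative to a maximal ideal M of the algebraic integers containing p) with a nontrivial defect group D all of whose sections have p-rank at most s. Then the p-regular rank of B is less than p ^ s. -/
theorem result (n : ℕ) (p : ℕ) [Fact p.Prime] (M : Ideal Cfsg.AlgInt) (hM : Cfsg.IsPModular p M) (B : Set (Cfsg.IrrCharacter (Equiv.Perm (Fin n)))) (hB : Cfsg.IsPBlock M B) (D : Subgroup (Equiv.Perm (Fin n))) (hD : Cfsg.IsDefectGroup p M B D) (hD1 : D ≠ ⊥) (s : ℕ) (hs : Cfsg.SectionalPRankLE p s D) : Cfsg.blockRank p B < p ^ s := by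
  have hp : p.Prime := Fact.out
  obtain ⟨ψ, hψ⟩ := Blocks.isPBlock_nonempty hM hB
  obtain ⟨α, hinj, hsum, hε, -, -⟩ := exists_label (N := n) le_rfl ψ
  have hne : coef n α ψ ≠ 0 := by rcases hε with h | h <;> simp [h]
  have hα : α ∈ lev n n := mem_lev.mpr hsum
  obtain ⟨w, hw⟩ := exists_weight (p := p) hinj
  have hsub : B ⊆ coreSet n p (cnt p α) := fun φ hφ =>
    cnt_eq_of_mem_block hM le_rfl hB hψ hφ hα hne
  obtain ⟨E, D', hD', hED, hcomm, hexp, hcard⟩ := exists_weight_subgroup hM le_rfl hB hψ hα hne hw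
  obtain ⟨g, hg⟩ := Blocks.isDefectGroup_conj_eq hM hB hD' hD
  have hE' : Blocks.conjSub g E ≤ D := hg ▸ Blocks.conjSub_mono g hED
  have hws : p ^ w ≤ p ^ s := by
    have h1 := card_le_of_sectional hs ((Blocks.conjSub g E).subgroupOf D) ⟨⟨fun a b => ?_⟩⟩ ?_
    · rwa [Nat.card_congr (Subgroup.subgroupOfEquivOfLe hE').toEquiv, Blocks.card_conjSub,
        hcard] at h1
    · refine Subtype.ext (Subtype.ext ?_)
      obtain ha := Blocks.mem_conjSub.mp (Subgroup.mem_subgroupOf.mp a.2)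
      obtain hb := Blocks.mem_conjSub.mp (Subgroup.mem_subgroupOf.mp b.2)
      have h2 := congrArg Subtype.val (hcomm.is_comm.comm ⟨_, ha⟩ ⟨_, hb⟩)
      simp only [Subgroup.coe_mul] at h2 ⊢
      have h3 := congrArg (fun z => g * z * g⁻¹) h2
      simpa [mul_assoc] using h3
    · intro a ha
      have h2 := hexp _ (Blocks.mem_conjSub.mp (Subgroup.mem_subgroupOf.mp ha))
      have h3 : g⁻¹ * (a : Equiv.Perm (Fin n)) * g = g⁻¹ * (a : Equiv.Perm (Fin n)) * g⁻¹⁻¹ := by
        rw [inv_inv]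
      rw [h3, conj_pow, conj_eq_one_iff] at h2
      exact Subtype.ext h2
  have hs1 : 1 ≤ s := by
    by_contra h0
    obtain rfl : s = 0 := by omega
    obtain ⟨x, hx, hx1⟩ : ∃ x ∈ D, x ≠ 1 := by
      by_contra hcon
      push Not at hcon
      exact hD1 ((Subgroup.eq_bot_iff_forall D).mpr hcon)
    have hDp := Blocks.isPGroup_defectGroup hM hD
    obtain ⟨k, hk⟩ := IsPGroup.iff_orderOf.mp hDp ⟨x, hx⟩
    cases k with
    | zero =>
      rw [pow_zero, orderOf_eq_one_iff] at hk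
      exact hx1 (congrArg Subtype.val hk)
    | succ k =>
      have hord : orderOf ((⟨x, hx⟩ : D) ^ p ^ k) = p := by
        rw [orderOf_pow, hk, Nat.gcd_eq_right (pow_dvd_pow p (Nat.le_succ k)),
          pow_succ, Nat.mul_div_cancel_left _ (Nat.pow_pos hp.pos)]
      have h1 := card_le_of_sectional hs (Subgroup.zpowers ((⟨x, hx⟩ : D) ^ p ^ k)) inferInstance
        fun a ha => by
          obtain ⟨i, rfl⟩ := Subgroup.mem_zpowers_iff.mp ha
          have h4 : ((⟨x, hx⟩ : D) ^ p ^ k) ^ p = 1 := orderOf_dvd_iff_pow_eq_one.mp hord.dvd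
          rw [← zpow_natCast, ← zpow_mul, mul_comm, zpow_mul, zpow_natCast, h4, one_zpow]
      rw [Nat.card_zpowers, hord, pow_zero] at h1
      have := hp.one_lt
      omega
  refine lt_of_le_of_lt (blockRank_le_card_exactSets hp le_rfl hsum hw hsub) ?_
  exact card_exact_lt hp.pos hinj ((Nat.pow_le_pow_iff_right hp.one_lt).mp hws) hs1 hp.one_lt

end Cfsg.Agent.S4534
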