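import Cfsg.Statements.S4713
import Cfsg.Agent.Lib.PDegree.DerivedBound
import Cfsg.Agent.Lib.Ito.Basic

set_option autoImplicit false
open Cfsg

namespace Cfsg.Agent.S4713

/-- Let p be a prime and G a finite p-solvable group. Then G has a normal abelian Sylow p-subgroup if and only if the degree of every irreducible character of G is prime to p. -/
theorem result {G : Type*} [Group G] [Finite G] (p : ℕ) [Fact p.Prime] (hsolv : Cfsg.IsPSolvable p G) (P : Sylow p G) : ((P : Subgroup G).Normal ∧ IsMulCommutative P) ↔ ∀ χ : Cfsg.IrrCharacter G, ¬ p ∣ Cfsg.charDegree (χ : G → ℂ) := by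
  classical
  constructor
  · rintro ⟨hn, hc⟩ χ hd
    obtain ⟨n, -, h1, h2⟩ := Cfsg.Agent.Ito.exists_degree_dvd_index χ.2 (P : Subgroup G)
      (fun a ha b hb => congrArg Subtype.val (hc.is_comm.comm ⟨a, ha⟩ ⟨b, hb⟩))
    have h3 : Cfsg.charDegree (χ : G → ℂ) = n := by
      exact_mod_cast (Cfsg.Agent.Blocks.charDegree_cast χ).trans h1
    exact P.not_dvd_index ((h3 ▸ hd).trans h2)
  · intro h
    have hsep := Cfsg.Agent.Solvable.isPiSeparable_of_isPSolvable hsolv
    have hn : Cfsg.Agent.PDegree.nDiv p G = 0 := by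
      rw [Cfsg.Agent.PDegree.nDiv]
      exact @Nat.card_of_isEmpty _ ⟨fun χ => h χ.1 χ.2⟩
    set R := Cfsg.pCore p G with hR
    set f := QuotientGroup.mk' R with hf
    have hn' : Cfsg.Agent.PDegree.nDiv p (G ⧸ R) = 0 := by
      rw [Cfsg.Agent.PDegree.nDiv]
      refine @Nat.card_of_isEmpty _ ⟨fun χ => h ⟨fun g => (χ.1 : G ⧸ R → ℂ) (f g),
        Cfsg.Agent.Char.IsIrrCharacter.comp_surjective χ.1.2 _ (QuotientGroup.mk'_surjective R)⟩ ?_⟩
      rw [Cfsg.Agent.PDegree.charDegree_eq_of_apply_one (ψ := (χ.1 : G ⧸ R → ℂ)) (by simp)]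
      exact χ.2
    have h1 := (Cfsg.Agent.PDegree.derived_bound (hsep.quotient R)
      (P.mapSurjective (QuotientGroup.mk'_surjective R))).2
      (Cfsg.Agent.Cores.pCore_quotient_self p G)
    rw [hn', derivedSeries_zero] at h1
    have hle : (P : Subgroup G) ≤ R := by
      intro x hx
      have hmem : f x ∈ ((P.mapSurjective (QuotientGroup.mk'_surjective R) : Sylow p (G ⧸ R)) :
          Subgroup (G ⧸ R)) := by
        rw [Sylow.coe_mapSurjective]
        exact ⟨x, hx, rfl⟩
      have h2 : (⟨f x, hmem⟩ : ((P.mapSurjective (QuotientGroup.mk'_surjective R) : Sylow p (G ⧸ R)) :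
          Subgroup (G ⧸ R))) ∈ (⊥ : Subgroup _) := h1 ▸ Subgroup.mem_top _
      rw [Subgroup.mem_bot] at h2
      exact (QuotientGroup.eq_one_iff x).mp (congrArg Subtype.val h2)
    refine ⟨?_, ⟨⟨fun a b => ?_⟩⟩⟩
    · rw [le_antisymm hle (Cfsg.Agent.Cores.pCore_le_sylow P)]
      exact Cfsg.Agent.Cores.pCore_normal p G
    · have h2 := (Cfsg.Agent.PDegree.derived_bound hsep P).1
      rw [hn, zero_add, derivedSeries_succ, derivedSeries_zero] at h2
      have h3 := Subgroup.commutator_mem_commutator (Subgroup.mem_top a) (Subgroup.mem_top b)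
      rw [h2, Subgroup.mem_bot, commutatorElement_eq_one_iff_mul_comm] at h3
      exact h3

end Cfsg.Agent.S4713
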