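import Cfsg.Statements.S4493
import Cfsg.Agent.S4713
import Cfsg.Agent.Lib.ClassIndex.PSolvable

set_option autoImplicit false
open Cfsg

namespace Cfsg.Agent.S4493

/-- Let G be a finite solvable group and p a prime. Then G has a normal abelian Sylow p-subgroup if and only if no irreducible character degree of G is divisible by p. -/
theorem result {G : Type*} [Group G] [Finite G] (hsolv : Group.IsSolvable G) (p : ℕ) (hp : p.Prime) : (∃ P : Subgroup G, P.Normal ∧ (∀ x ∈ P, ∀ y ∈ P, x * y = y * x) ∧ IsPGroup p P ∧ ¬ p ∣ P.index) ↔ ∀ χ : Cfsg.IrrCharacter G, ¬ p ∣ Cfsg.charDegree (χ : G → ℂ) := by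
  haveI := Fact.mk hp
  haveI := hsolv
  have hps : Cfsg.IsPSolvable p G := ClassIndex.isPSolvable_of_isSolvable G hsolv
  rw [← Cfsg.Agent.S4713.result p hps (default : Sylow p G)]
  constructor
  · rintro ⟨Q, hQn, hQab, hQp, hQi⟩
    let S : Sylow p G := hQp.toSylow hQi
    have : ((default : Sylow p G) : Subgroup G) = Q := by
      have hS : (S : Subgroup G) = Q := rfl
      haveI : (S : Subgroup G).Normal := hS.symm ▸ hQn
      haveI := Sylow.unique_of_normal S inferInstance
      rw [Subsingleton.elim (default : Sylow p G) S, hS]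
    exact ⟨this ▸ hQn, this ▸ ⟨⟨fun a b => Subtype.ext (hQab a a.2 b b.2)⟩⟩⟩
  · rintro ⟨hn, hab⟩
    refine ⟨_, hn, fun x hx y hy => congrArg Subtype.val (hab.is_comm.comm ⟨x, hx⟩ ⟨y, hy⟩),
      (default : Sylow p G).2, ?_⟩
    exact Sylow.not_dvd_index _

end Cfsg.Agent.S4493
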