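import Cfsg.Statements.S0689
import Cfsg.Agent.Lib.Frobenius.ZassMain
-- import your own Cfsg.Agent.* helpers here

set_option autoImplicit false
open Cfsg

namespace Cfsg.Agent.S0689

open scoped Pointwise

/-- The arithmetic of the three cases. -/
theorem arith : ∀ Q : Fin 240, ∀ e : Fin 3, (1 ≤ e.val ∧ (Q.val * Q - 1) % (120 * e) = 0 ∧
    Nat.gcd ((Q.val * Q - 1) / (120 * e)) 30 = 1 ∧
    (Q.val - 1) % ((Q.val * Q - 1) / (120 * e)) = 0 ∧ Q.val ≠ 119) →
    (Q.val = 11 ∧ e.val = 1) ∨ (Q.val = 29 ∧ e.val = 1) ∨ (Q.val = 59 ∧ e.val = 1) := by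
  decide +kernel

/-- The insoluble sharply doubly transitive groups: a non-solvable linear group over the prime field that is regular on the non-zero vectors of `V` occurs only for `|V| = 11², 29², 59²`, and is `SL(2,5) × C_m` with `m = 1, 7, 29` respectively. -/
theorem result {p : ℕ} [Fact p.Prime] {V : Type*} [AddCommGroup V] [Module (ZMod p) V] [Finite V] (H : Subgroup (V ≃ₗ[ZMod p] V)) (hreg : ∀ v w : V, v ≠ 0 → w ≠ 0 → ∃! h : H, (h : V ≃ₗ[ZMod p] V) v = w) (hsolv : ¬ Group.IsSolvable H) : (Nat.card V = 121 ∧ Nonempty (H ≃* Matrix.SpecialLinearGroup (Fin 2) (ZMod 5))) ∨ (Nat.card V = 841 ∧ Nonempty (H ≃* Matrix.SpecialLinearGroup (Fin 2) (ZMod 5) × Multiplicative (ZMod 7))) ∨ (Nat.card V = 3481 ∧ Nonempty (H ≃* Matrix.SpecialLinearGroup (Fin 2) (ZMod 5) × Multiplicative (ZMod 29))) := by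
  classical
  have hp : p.Prime := Fact.out
  -- basic facts
  obtain ⟨v₀, hv₀⟩ : ∃ v : V, v ≠ 0 := by
    by_contra hne
    push Not at hne
    refine hsolv (Group.isSolvable_of_comm fun x y => Subtype.ext (LinearEquiv.ext fun v => ?_))
    rw [hne ((x * y : H).1 v), hne ((y * x : H).1 v)]
  have : Nontrivial V := ⟨v₀, 0, hv₀⟩
  have hne0 : ∀ (h : H) (v : V), v ≠ 0 → h.1 v ≠ 0 := fun h v hv e =>
    hv (h.1.injective (e.trans (map_zero h.1).symm))
  have hone : ((1 : H) : V ≃ₗ[ZMod p] V) = 1 := rfl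
  have hfpf : ∀ h : H, h ≠ 1 → ∀ v : V, h.1 v = v → v = 0 := by
    intro h hh v hv
    by_contra hv0
    exact hh ((hreg v v hv0 hv0).unique hv rfl)
  let orb : H → {w : V // w ≠ 0} := fun h => ⟨h.1 v₀, hne0 h v₀ hv₀⟩
  have horb : Function.Bijective orb :=
    ⟨fun a b e => (hreg v₀ (b.1 v₀) hv₀ (hne0 b v₀ hv₀)).unique (congrArg Subtype.val e) rfl,
      fun w => ⟨(hreg v₀ w.1 hv₀ w.2).choose,
        Subtype.ext (hreg v₀ w.1 hv₀ w.2).choose_spec.1⟩⟩
  have hcardH : Nat.card H + 1 = Nat.card V := by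
    have := Fintype.ofFinite V
    rw [Nat.card_eq_of_bijective orb horb, Nat.card_eq_fintype_card, Nat.card_eq_fintype_card,
      Fintype.card_subtype_compl, Fintype.card_subtype_eq, Nat.sub_add_cancel Fintype.card_pos]
  have hfin : Finite H := Finite.of_injective orb horb.1
  have hpV : p ∣ Nat.card V := by
    rw [Module.natCard_eq_pow_finrank (K := ZMod p), Nat.card_zmod]
    exact dvd_pow_self p Module.finrank_pos.ne'
  have hpH : ¬ p ∣ Nat.card H := fun hd => hp.ne_one (Nat.dvd_one.1 ((Nat.dvd_add_iff_right hd).2 (hcardH.symm ▸ hpV)))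
  -- the structure
  obtain ⟨n, σ, hn, -, -, hσ⟩ := S3357.exists_rep hpH
    ((LinearEquiv.automorphismGroup.toLinearMapMonoidHom (R := ZMod p) (M := V)).comp H.subtype)
    hfpf ℚ
  let ρ : Frobenius.FPFRep H :=
    { n := n, M := (Units.coeHom _).comp σ, pos := hn, fpf := hσ }
  have := Fintype.ofFinite H
  obtain ⟨G₀, -, hidx, S, M, hSM, hbot, hcomm, ⟨eS⟩, -, hM30⟩ := ρ.exists_structure hsolv
  let φ : S × M →* H := MonoidHom.noncommCoprod S.subtype M.subtype fun s x => hcomm s s.2 x x.2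
  have hφ : Function.Injective φ := by
    rw [injective_iff_map_eq_one]
    rintro ⟨s, x⟩ h
    have h' : (s : H) * x = 1 := h
    have hs : (s : H) ∈ S ⊓ M := by
      refine Subgroup.mem_inf.2 ⟨s.2, ?_⟩
      rw [mul_eq_one_iff_eq_inv.1 h']
      exact inv_mem x.2
    rw [hbot, Subgroup.mem_bot] at hs
    rw [hs, one_mul] at h'
    exact Prod.ext (Subtype.ext hs) (Subtype.ext h')
  have hφr : φ.range = G₀ := by
    rw [← hSM]
    refine le_antisymm ?_ (sup_le (fun s hs => ⟨(⟨s, hs⟩, 1), ?_⟩) fun x hx => ⟨(1, ⟨x, hx⟩), ?_⟩)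
    · rintro _ ⟨⟨s, x⟩, rfl⟩
      exact mul_mem (Subgroup.mem_sup_left s.2) (Subgroup.mem_sup_right x.2)
    · show s * ((1 : M) : H) = s
      rw [OneMemClass.coe_one, mul_one]
    · show ((1 : S) : H) * x = x
      rw [OneMemClass.coe_one, one_mul]
  have hcard : Nat.card H = 120 * G₀.index * Nat.card M := by
    have : Fact (Nat.Prime 5) := ⟨by norm_num⟩
    rw [← Subgroup.card_mul_index G₀, ← hφr, ← Nat.card_congr (MonoidHom.ofInjective hφ).toEquiv,
      Nat.card_prod, Nat.card_congr eS.toEquiv, GLOrder.card_SL_two, Nat.card_zmod, hφr]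
    norm_num
    ring
  -- two anticommuting elements whose square is `-1`
  obtain ⟨i, hiS, j, hjS, e1, e2, e3, e4⟩ : ∃ i ∈ S, ∃ j ∈ S, j * j = i * i ∧
      j * i = i * i * (i * j) ∧ i * i * (i * i) = 1 ∧ i * i ≠ 1 := by
    let I' : Matrix.SpecialLinearGroup (Fin 2) (ZMod 5) :=
      ⟨Frobenius.I5, by simp [Frobenius.I5, Matrix.det_fin_two]; decide⟩
    let J' : Matrix.SpecialLinearGroup (Fin 2) (ZMod 5) :=
      ⟨Frobenius.J5, by simp [Frobenius.J5, Matrix.det_fin_two]; decide⟩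
    have f1 : J' * J' = I' * I' := Subtype.ext
      (show Frobenius.J5 * Frobenius.J5 = Frobenius.I5 * Frobenius.I5 by decide)
    have f2 : J' * I' = I' * I' * (I' * J') := Subtype.ext (show Frobenius.J5 * Frobenius.I5 =
      Frobenius.I5 * Frobenius.I5 * (Frobenius.I5 * Frobenius.J5) by decide)
    have f3 : I' * I' * (I' * I') = 1 := Subtype.ext (show Frobenius.I5 * Frobenius.I5 *
      (Frobenius.I5 * Frobenius.I5) = 1 by decide)
    have f4 : I' * I' ≠ 1 := fun e => (by decide : Frobenius.I5 * Frobenius.I5 ≠ 1)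
      (congrArg Subtype.val e)
    refine ⟨(eS.symm I').1, (eS.symm I').2, (eS.symm J').1, (eS.symm J').2, ?_, ?_, ?_, fun e => f4 ?_⟩
    · simpa using congrArg (fun x => (eS.symm x : H)) f1
    · simpa using congrArg (fun x => (eS.symm x : H)) f2
    · simpa using congrArg (fun x => (eS.symm x : H)) f3
    · exact eS.symm.injective (Subtype.ext (by simpa using e))
  have hz : ∀ v : V, (i * i : H).1 v = -v := by
    intro v
    have hzz : ∀ w : V, (i * i : H).1 ((i * i : H).1 w) = w := fun w =>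
      LinearEquiv.congr_fun (congrArg Subtype.val e3) w
    have h := hfpf _ e4 (v + (i * i : H).1 v) (by rw [map_add, hzz, add_comm])
    exact eq_neg_of_add_eq_zero_right h
  obtain ⟨a, b, hab⟩ := ZMod.sq_add_sq p (-1)
  have hii : ∀ v, i.1 (i.1 v) = -v := hz
  have hjj : ∀ v, j.1 (j.1 v) = -v := fun v => by
    rw [show j.1 (j.1 v) = (j * j : H).1 v from rfl, e1, hz]
  have hji : ∀ v, j.1 (i.1 v) = -(i.1 (j.1 v)) := fun v => by
    rw [show j.1 (i.1 v) = (j * i : H).1 v from rfl, e2,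
      show (i * i * (i * j) : H).1 v = (i * i : H).1 ((i * j : H).1 v) from rfl, hz]
    rfl
  let X : V →ₗ[ZMod p] V := a • (i.1 : V →ₗ[ZMod p] V) + b • (j.1 : V →ₗ[ZMod p] V)
  let k : V →ₗ[ZMod p] V := (i.1 : V →ₗ[ZMod p] V).comp (j.1 : V →ₗ[ZMod p] V)
  have hX : ∀ v, X v = a • i.1 v + b • j.1 v := fun v => rfl
  have hk : ∀ v, k v = i.1 (j.1 v) := fun v => rfl
  have hXX : ∀ v, X (X v) = v := fun v => by
    simp only [hX, map_add, map_smul, hii, hjj, hji, smul_add, smul_smul, smul_neg]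
    calc _ = (-(a ^ 2 + b ^ 2)) • v := by module
      _ = v := by rw [hab, neg_neg, one_smul]
  have hXk : ∀ v, X (k v) = -k (X v) := fun v => by
    simp only [hX, hk, map_add, map_smul, hii, hjj, hji, map_neg, smul_neg, neg_neg]
    module
  have hkk : ∀ v, k (k v) = -v := fun v => by
    simp only [hk, hji, hjj, map_neg, hii, neg_neg]
  have hp2 : (2 : ZMod p) ≠ 0 := by
    intro h
    have h2 : p ∣ 2 := (ZMod.natCast_eq_zero_iff 2 p).1 (by exact_mod_cast h)
    refine hpH ?_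
    rw [hcard]
    exact Dvd.dvd.mul_right (Dvd.dvd.mul_right (h2.trans (by norm_num)) _) _
  let U : Submodule (ZMod p) V := LinearMap.ker (X - LinearMap.id)
  have hU : ∀ v, v ∈ U ↔ X v = v := fun v => by
    simp [U, sub_eq_zero]
  have hbij : Function.Bijective (fun uw : U × U => (uw.1 : V) + k uw.2) := by
    constructor
    · rintro ⟨u, w⟩ ⟨u', w'⟩ h
      have h1 : (u : V) + k w = u' + k w' := h
      have h2 : (u : V) - k w = u' - k w' := by
        have := congrArg X h1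
        simp only [map_add, hXk, (hU _).1 u.2, (hU _).1 u'.2, (hU _).1 w.2, (hU _).1 w'.2] at this
        simpa [sub_eq_add_neg] using this
      have h3 : (2 : ZMod p) • (u : V) = (2 : ZMod p) • (u' : V) := by
        linear_combination (norm := module) h1 + h2
      have hu : (u : V) = u' := smul_right_injective V hp2 h3
      rw [hu, add_right_inj] at h1
      have hw : (w : V) = w' := by
        have := congrArg k h1
        rwa [hkk, hkk, neg_inj] at this
      exact Prod.ext (Subtype.ext hu) (Subtype.ext hw)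
    · intro v
      refine ⟨(⟨(2 : ZMod p)⁻¹ • (v + X v), (hU _).2 ?_⟩,
        ⟨-k ((2 : ZMod p)⁻¹ • (v - X v)), (hU _).2 ?_⟩), ?_⟩
      · rw [map_smul, map_add, hXX, add_comm]
      · rw [map_neg, hXk, map_smul, map_sub, hXX, ← map_neg k, ← smul_neg, neg_sub]
      · show (2 : ZMod p)⁻¹ • (v + X v) + k (-k ((2 : ZMod p)⁻¹ • (v - X v))) = v
        rw [map_neg, hkk, neg_neg, ← smul_add, show v + X v + (v - X v) = (2 : ZMod p) • v by module,
          smul_smul, inv_mul_cancel₀ hp2, one_smul]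
  have hcardV : Nat.card V = Nat.card U * Nat.card U := by
    rw [← Nat.card_prod]; exact (Nat.card_eq_of_bijective _ hbij).symm
  -- `M` acts freely on the non-zero vectors of `U`
  have hMU : ∀ (x : M) (u : U), (x : H).1 u ∈ U := fun x u => by
    have c : ∀ s ∈ S, ∀ v : V, s.1 ((x : H).1 v) = (x : H).1 (s.1 v) := fun s hs v =>
      LinearEquiv.congr_fun (congrArg Subtype.val (hcomm s hs x x.2)) v
    rw [hU, hX, c i hiS, c j hjS]
    calc _ = (x : H).1 (X (u : V)) := by rw [hX, map_add, map_smul, map_smul]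
      _ = _ := by rw [(hU _).1 u.2]
  have hne' : ∀ (x : M) (u : {u : U // u ≠ 0}), (⟨(x : H).1 u.1, hMU x u.1⟩ : U) ≠ 0 := fun x u e =>
    hne0 x u.1.1 (fun e' => u.2 (Subtype.ext e')) (congrArg Subtype.val e)
  let act : MulAction M {u : U // u ≠ 0} :=
    { smul := fun x u => ⟨⟨(x : H).1 u.1, hMU x u.1⟩, hne' x u⟩
      one_smul := fun u => Subtype.ext (Subtype.ext rfl)
      mul_smul := fun x y u => Subtype.ext (Subtype.ext rfl) }
  have hdvd : Nat.card M ∣ Nat.card U - 1 := by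
    letI := act
    have hfree : ∀ u : {u : U // u ≠ 0}, MulAction.stabilizer M u = ⊥ := by
      intro u
      rw [Subgroup.eq_bot_iff_forall]
      intro x hx
      by_contra hne
      refine u.2 (Subtype.ext (hfpf x (fun e => hne (Subtype.ext e)) _ ?_))
      exact congrArg (fun w : {u : U // u ≠ 0} => (w.1 : V)) hx
    have e := MulAction.selfEquivOrbitsQuotientProd hfree
    have := Fintype.ofFinite U
    have hc : Nat.card {u : U // u ≠ 0} = Nat.card U - 1 := by
      rw [Nat.card_eq_fintype_card, Nat.card_eq_fintype_card, Fintype.card_subtype_compl,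
        Fintype.card_subtype_eq]
    rw [← hc, Nat.card_congr e, Nat.card_prod]
    exact dvd_mul_left _ _
  -- arithmetic
  set Q := Nat.card U with hQdef
  set m := Nat.card M with hmdef
  set e := G₀.index with hedef
  have hQQ : Q * Q - 1 = 120 * e * m := by omega
  have he : 1 ≤ e ∧ e < 3 := by omega
  have hm : 0 < m := Nat.card_pos
  have hQ1 : 1 < Q := by nlinarith
  have hQ119 : Q ≠ 119 := by
    intro h
    have hQpow : Q = p ^ Module.finrank (ZMod p) U := by
      rw [hQdef, Module.natCard_eq_pow_finrank (K := ZMod p), Nat.card_zmod]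
    rw [h] at hQpow
    have h7 : 7 ∣ p ^ Module.finrank (ZMod p) U := hQpow ▸ by norm_num
    have h17 : 17 ∣ p ^ Module.finrank (ZMod p) U := hQpow ▸ by norm_num
    have := (Nat.prime_dvd_prime_iff_eq (by norm_num) hp).1 ((show Nat.Prime 7 by norm_num).dvd_of_dvd_pow h7)
    have := (Nat.prime_dvd_prime_iff_eq (by norm_num) hp).1 ((show Nat.Prime 17 by norm_num).dvd_of_dvd_pow h17)
    omega
  have hQlt : Q < 240 := by
    have h1 : m ≤ Q - 1 := Nat.le_of_dvd (by omega) hdvd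
    by_contra hge
    have h2 : 120 * e * m ≤ 240 * (Q - 1) := by
      refine Nat.mul_le_mul ?_ h1
      omega
    obtain ⟨q, hq⟩ : ∃ q, Q = q + 1 := ⟨Q - 1, by omega⟩
    rw [hq] at hQQ h2 hge
    simp only [Nat.add_sub_cancel] at h2
    have h3 : (q + 1) * (q + 1) - 1 = q * q + 2 * q := by
      apply Nat.sub_eq_of_eq_add; ring
    have h4 : q * 241 ≤ q * (q + 2) := Nat.mul_le_mul_left q (by omega)
    rw [← hQQ, h3] at h2
    clear * - h4 h2 hge
    rw [Nat.mul_add] at h4; omega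
  have hdiv : (Q * Q - 1) / (120 * e) = m := by
    rw [hQQ, Nat.mul_div_cancel_left _ (by omega)]
  have key := arith ⟨Q, hQlt⟩ ⟨e, he.2⟩ ⟨he.1,
    show (Q * Q - 1) % (120 * e) = 0 by rw [hQQ, Nat.mul_mod_right],
    show Nat.gcd ((Q * Q - 1) / (120 * e)) 30 = 1 by rw [hdiv]; exact hM30,
    show (Q - 1) % ((Q * Q - 1) / (120 * e)) = 0 by rw [hdiv]; exact Nat.mod_eq_zero_of_dvd hdvd,
    hQ119⟩
  replace key : (Q = 11 ∧ e = 1) ∨ (Q = 29 ∧ e = 1) ∨ (Q = 59 ∧ e = 1) := key
  have htop : G₀.index = 1 → φ.range = ⊤ := fun h => by rw [hφr]; exact Subgroup.index_eq_one.1 h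
  have heq : G₀.index = 1 → Nonempty (H ≃* Matrix.SpecialLinearGroup (Fin 2) (ZMod 5) × M) := fun h =>
    ⟨((MulEquiv.ofBijective φ ⟨hφ, MonoidHom.range_eq_top.1 (htop h)⟩).symm).trans
      (eS.prodCongr (MulEquiv.refl M))⟩
  have hcyc : ∀ r : ℕ, r.Prime → m = r → Nonempty (M ≃* Multiplicative (ZMod r)) := by
    intro r hr hmr
    have := Fact.mk hr
    have : IsCyclic M := isCyclic_of_prime_card hmr
    exact ⟨mulEquivOfCyclicCardEq (by rw [← hmdef, hmr]; simp)⟩
  have hV : Nat.card V = Q * Q := hcardV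
  rcases key with ⟨hQ, he1⟩ | ⟨hQ, he1⟩ | ⟨hQ, he1⟩
  · obtain ⟨ee⟩ := heq he1
    rw [hQ, he1] at hQQ
    have hm1 : Nat.card M = 1 := by omega
    have := (Nat.card_eq_one_iff_unique.1 hm1).1
    have : Unique M := uniqueOfSubsingleton 1
    exact Or.inl ⟨by rw [hV, hQ], ⟨ee.trans MulEquiv.prodUnique⟩⟩
  · obtain ⟨ee⟩ := heq he1
    rw [hQ, he1] at hQQ
    obtain ⟨ec⟩ := hcyc 7 (by norm_num) (by omega)
    exact Or.inr (Or.inl ⟨by rw [hV, hQ], ⟨ee.trans ((MulEquiv.refl _).prodCongr ec)⟩⟩)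
  · obtain ⟨ee⟩ := heq he1
    rw [hQ, he1] at hQQ
    obtain ⟨ec⟩ := hcyc 29 (by norm_num) (by omega)
    exact Or.inr (Or.inr ⟨by rw [hV, hQ], ⟨ee.trans ((MulEquiv.refl _).prodCongr ec)⟩⟩)

end Cfsg.Agent.S0689
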