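import Cfsg.Statements.S4473
import Cfsg.Agent.EqLemmas
import Cfsg.Agent.Lib.Char.Induced
import Cfsg.Agent.Lib.Char.Linear
import Cfsg.Agent.Lib.Blocks.Defect
import Cfsg.Agent.Lib.Char.Eigen
import Mathlib.RepresentationTheory.Character

set_option autoImplicit false
set_option linter.unusedSimpArgs false
set_option linter.style.haveILetI false
open Cfsg

namespace Cfsg.Agent.S4473

open scoped ComplexConjugate

/-- The arithmetic of three short orbits. -/
theorem orbit_arith {a b c N : ℕ} (hsum : a + b + c = N + 2) (ha : a ∣ N) (hb : b ∣ N) (hc : c ∣ N)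
    (hab : b ≤ a) (hbc : c ≤ b) (ha2 : 2 * a ≤ N) (h3 : 3 ≤ c) : N = 12 ∨ N = 24 ∨ N = 60 := by
  obtain ⟨n, hn⟩ := ha
  have hn2 : n = 2 := by
    have h1 : n < 3 := by
      by_contra h
      have : a * 3 ≤ a * n := Nat.mul_le_mul_left a (by omega)
      omega
    have h2 : 2 ≤ n := by
      by_contra h
      have : a * n ≤ a * 1 := Nat.mul_le_mul_left a (by omega)
      omega
    omega
  subst hn2
  obtain ⟨l, hl⟩ := hb
  have hl3 : l = 3 := by
    have h1 : l < 4 := by
      by_contra h
      have : b * 4 ≤ b * l := Nat.mul_le_mul_left b (by omega)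
      omega
    have h2 : 3 ≤ l := by
      by_contra h
      have : b * l ≤ b * 2 := Nat.mul_le_mul_left b (by omega)
      omega
    omega
  subst hl3
  obtain ⟨m, hm⟩ := hc
  have hm1 : m < 6 := by
    by_contra h
    have : c * 6 ≤ c * m := Nat.mul_le_mul_left c (by omega)
    omega
  have hm2 : 3 ≤ m := by
    by_contra h
    have : c * m ≤ c * 2 := Nat.mul_le_mul_left c (by omega)
    omega
  interval_cases m <;> omega

theorem orbit_arith' {a b c N : ℕ} (hsum : a + b + c = N + 2) (ha : a ∣ N) (hb : b ∣ N) (hc : c ∣ N)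
    (a2 : 2 * a ≤ N) (b2 : 2 * b ≤ N) (c2 : 2 * c ≤ N) (a3 : 3 ≤ a) (b3 : 3 ≤ b) (c3 : 3 ≤ c) :
    N = 12 ∨ N = 24 ∨ N = 60 := by
  rcases le_total b a with h1 | h1 <;> rcases le_total c b with h2 | h2 <;>
    rcases le_total c a with h4 | h4
  all_goals first
    | exact orbit_arith hsum ha hb hc (by omega) (by omega) a2 c3
    | exact orbit_arith (a := a) (b := c) (c := b) (by omega) ha hc hb (by omega) (by omega) a2 b3
    | exact orbit_arith (a := b) (b := a) (c := c) (by omega) hb ha hc (by omega) (by omega) b2 c3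
    | exact orbit_arith (a := b) (b := c) (c := a) (by omega) hb hc ha (by omega) (by omega) b2 a3
    | exact orbit_arith (a := c) (b := a) (c := b) (by omega) hc ha hb (by omega) (by omega) c2 b3
    | exact orbit_arith (a := c) (b := b) (c := a) (by omega) hc hb ha (by omega) (by omega) c2 a3

variable {G : Type*} [Group G] [Finite G]

/-- A line invariant under a subgroup of index 2 induces an irreducible character of degree 2. -/
theorem induced_of_line [Fintype G] (ρ : Representation ℂ G (Fin 2 → ℂ)) [ρ.IsIrreducible]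
    (H : Subgroup G) (hH : H.index = 2) {v : Fin 2 → ℂ} (hv : v ≠ 0)
    (hinv : ∀ h ∈ H, ρ h v ∈ Submodule.span ℂ {v}) :
    ∃ θ : H → ℂ, IsCharacter H θ ∧ ρ.character = indFun H θ := by
  classical
  haveI := Fintype.ofFinite H
  haveI := Fintype.ofFinite (IrrCharacter G)
  choose c hc using fun h : H => Submodule.mem_span_singleton.1 (hinv h h.2)
  have hinj := smul_left_injective ℂ hv
  have c1 : c 1 = 1 := hinj (by
    show c 1 • v = (1 : ℂ) • v
    rw [hc, one_smul, Subgroup.coe_one, map_one, Module.End.one_apply])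
  have cmul : ∀ a b, c (a * b) = c a * c b := fun a b => hinj (by
    show c (a * b) • v = (c a * c b) • v
    rw [hc, Subgroup.coe_mul, map_mul, Module.End.mul_apply, ← hc b, map_smul, ← hc a, smul_smul,
      mul_comm])
  let l : H →* ℂ := ⟨⟨c, c1⟩, cmul⟩
  have hlirr : IsIrrCharacter H (l : H → ℂ) := Char.isIrrCharacter_of_hom l
  have hlchar : IsCharacter H (l : H → ℂ) := Char.IsIrrCharacter.isCharacter hlirr
  refine ⟨l, hlchar, ?_⟩
  have hne : ∀ h : H, c h ≠ 0 := fun h h0 => by
    have := cmul h h⁻¹
    rw [mul_inv_cancel, c1, h0, zero_mul] at this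
    exact one_ne_zero this
  -- the twisted representation fixes `v`
  let τ : Representation ℂ H (Fin 2 → ℂ) :=
    { toFun := fun h => (c h)⁻¹ • ρ (h : G)
      map_one' := by rw [c1, inv_one, one_smul, Subgroup.coe_one, map_one]
      map_mul' := fun a b => by
        rw [cmul, mul_inv, Subgroup.coe_mul, map_mul, smul_mul_smul_comm] }
  have hfix : v ∈ τ.invariants := (Representation.mem_invariants τ v).2 fun h => by
    show (c h)⁻¹ • ρ (h : G) v = v
    rw [← hc, smul_smul, inv_mul_cancel₀ (hne h), one_smul]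
  have hpos : classInner (fun h : H => ρ.character (h : G)) (l : H → ℂ) ≠ 0 := by
    have hconj : ∀ h : H, conj (c h) = (c h)⁻¹ := fun h => by
      have h1 := Char.IsCharacter.apply_inv hlchar h
      change c h⁻¹ = conj (c h) at h1
      rw [← h1]
      exact eq_inv_of_mul_eq_one_left (by rw [← cmul, inv_mul_cancel, c1])
    have hA := FDRep.average_char_eq_finrank_invariants (FDRep.of τ)
    have : classInner (fun h : H => ρ.character (h : G)) (l : H → ℂ) =
        (Module.finrank ℂ τ.invariants : ℂ) := by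
      rw [← FDRep.of_ρ' τ, ← hA, classInner]
      congr 1
      refine Finset.sum_congr rfl fun h _ => ?_
      show ρ.character (h : G) * conj (c h) = LinearMap.trace ℂ _ ((c h)⁻¹ • ρ (h : G))
      rw [map_smul, smul_eq_mul, hconj, mul_comm]
      rfl
    rw [this, Nat.cast_ne_zero]
    intro h0
    rw [Submodule.finrank_eq_zero] at h0
    rw [h0, Submodule.mem_bot] at hfix
    exact hv hfix
  have hχ : IsIrrCharacter G ρ.character := ⟨2, ρ, inferInstance, rfl⟩
  obtain ⟨m, hm, hmi⟩ := Char.IsCharacter.decompose (Char.IsCharacter.indFun H hlchar)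
  let χ : IrrCharacter G := ⟨ρ.character, hχ⟩
  have hm1 : m χ ≠ 0 := fun h0 => hpos (by
    have h := hmi χ
    rw [Char.frobenius_reciprocity H _ (Char.IsIrrCharacter.isClassFunction hχ), h0, Nat.cast_zero] at h
    rw [← Char.classInner_conj_symm, h, map_zero])
  have hdeg : ∑ φ : IrrCharacter G, m φ * charDegree (φ : G → ℂ) = 2 := by
    have h := congrFun hm 1
    rw [Char.indFun_one_apply, hH] at h
    simp only [Finset.sum_apply, Pi.smul_apply, smul_eq_mul, ← Blocks.charDegree_cast] at h
    change (2 : ℂ) * c 1 = _ at h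
    rw [c1, mul_one] at h
    exact_mod_cast h.symm
  have hχ2 : charDegree ((χ : IrrCharacter G) : G → ℂ) = 2 := by
    have h := Blocks.charDegree_cast χ
    rw [show (χ : G → ℂ) 1 = ρ.character 1 from rfl, Representation.char_one,
      Module.finrank_fin_fun] at h
    exact_mod_cast h
  rw [← Finset.add_sum_erase _ _ (Finset.mem_univ χ), hχ2] at hdeg
  have hmχ : m χ = 1 := by omega
  have hrest : ∀ φ, φ ≠ χ → m φ = 0 := fun φ hφ => by
    have h0 : ∑ φ ∈ Finset.univ.erase χ, m φ * charDegree (φ : G → ℂ) = 0 := by omega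
    have := (Finset.sum_eq_zero_iff.1 h0) φ (Finset.mem_erase.2 ⟨hφ, Finset.mem_univ _⟩)
    exact (Nat.mul_eq_zero.1 this).resolve_right (Blocks.charDegree_pos φ).ne'
  rw [hm, Finset.sum_eq_single χ (fun φ _ hφ => by rw [hrest φ hφ, Nat.cast_zero, zero_smul])
    (fun h => absurd (Finset.mem_univ _) h), hmχ, Nat.cast_one, one_smul]

/-- Let the finite group G have a faithful irreducible character χ of degree 2 that is primitive: χ is not induced from a character of any proper subgroup. Then the centre of G has index 12, 24 or 60. -/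
theorem result {G : Type*} [Group G] [Fintype G] (χ : Cfsg.IrrCharacter G) (hfaith : ∀ g : G, (χ : G → ℂ) g = (χ : G → ℂ) 1 → g = 1) (h2 : Cfsg.charDegree (χ : G → ℂ) = 2) (hprim : ∀ H : Subgroup G, H ≠ ⊤ → ∀ θ : H → ℂ, Cfsg.IsCharacter H θ → (χ : G → ℂ) ≠ Cfsg.indFun H θ) : (Subgroup.center G).index = 12 ∨ (Subgroup.center G).index = 24 ∨ (Subgroup.center G).index = 60 := by
  classical
  obtain ⟨d, ρ, hi, he⟩ := χ.2
  haveI := hi
  have hd : d = 2 := by
    have h := Blocks.charDegree_cast χ
    rw [h2, ← he, Representation.char_one, Module.finrank_fin_fun] at h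
    exact_mod_cast h.symm
  subst hd
  have hscal : ∀ g : G, ∀ c : ℂ, ρ g = c • LinearMap.id → g ∈ Subgroup.center G := by
    intro g c hg
    refine Subgroup.mem_center_iff.2 fun x => ?_
    have h1 : ρ (x * g * (g * x)⁻¹) = 1 := by
      rw [map_mul, map_mul, show ρ x * ρ g = ρ g * ρ x by
          rw [hg]; ext v i; simp, ← map_mul, ← map_mul, mul_inv_cancel, map_one]
    exact mul_inv_eq_one.1 (hfaith _ (by rw [← he, Representation.character, Representation.character, h1, map_one ρ]))
  -- no common line
  have hnoline : ∀ v : Fin 2 → ℂ, v ≠ 0 → ¬ ∀ g : G, ρ g v ∈ Submodule.span ℂ {v} := by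
    intro v hv hall
    let S : Subrepresentation ρ := ⟨Submodule.span ℂ {v}, fun g u hu => by
      obtain ⟨a, rfl⟩ := Submodule.mem_span_singleton.1 hu
      rw [map_smul]; exact Submodule.smul_mem _ a (hall g)⟩
    rcases eq_bot_or_eq_top S with hS | hS
    · exact hv ((Submodule.span_singleton_eq_bot).1 (congrArg Subrepresentation.toSubmodule hS))
    · have h := congrArg (fun W : Submodule ℂ (Fin 2 → ℂ) => Module.finrank ℂ W)
        (congrArg Subrepresentation.toSubmodule hS)
      change Module.finrank ℂ (Submodule.span ℂ {v}) = Module.finrank ℂ (⊤ : Submodule ℂ (Fin 2 → ℂ)) at h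
      rw [finrank_span_singleton hv, finrank_top, Module.finrank_fin_fun] at h
      omega
  let L : (Fin 2 → ℂ) → Submodule ℂ (Fin 2 → ℂ) := fun v => Submodule.span ℂ {v}
  have hmap : ∀ (g : G) (v : Fin 2 → ℂ), (L v).map (ρ g) = L (ρ g v) := fun g v => by
    simp only [L, Submodule.map_span, Set.image_singleton]
  -- the two lines of a noncentral element
  have hfix : ∀ g ∉ Subgroup.center G, ∃ v w : Fin 2 → ℂ, v ≠ 0 ∧ w ≠ 0 ∧ L v ≠ L w ∧
      ∀ u, u ≠ 0 → (L (ρ g u) = L u ↔ L u = L v ∨ L u = L w) := by
    intro g hg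
    obtain ⟨b, μ, hμ, hμ1⟩ := Char.exists_eigenbasis ρ g
    have h0 : (0 : ℕ) < Module.finrank ℂ (Fin 2 → ℂ) := by rw [Module.finrank_fin_fun]; norm_num
    have h1 : (1 : ℕ) < Module.finrank ℂ (Fin 2 → ℂ) := by rw [Module.finrank_fin_fun]; norm_num
    let i : Fin (Module.finrank ℂ (Fin 2 → ℂ)) := ⟨0, h0⟩
    let j : Fin (Module.finrank ℂ (Fin 2 → ℂ)) := ⟨1, h1⟩
    have hij : i ≠ j := fun h => absurd (congrArg Fin.val h) (by simp [i, j])
    have hall : ∀ k, k = i ∨ k = j := fun k => by
      have hk : (k : ℕ) < 2 := lt_of_lt_of_eq k.2 (Module.finrank_fin_fun ℂ)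
      rcases (show (k : ℕ) = 0 ∨ (k : ℕ) = 1 by omega) with h | h
      · exact Or.inl (Fin.ext h)
      · exact Or.inr (Fin.ext h)
    have hne : μ i ≠ μ j := fun h => hg (hscal g (μ i) (b.ext fun k => by
      rw [hμ, LinearMap.smul_apply, LinearMap.id_apply]
      rcases hall k with rfl | rfl
      · rfl
      · rw [h]))
    have hμ0 : ∀ k, μ k ≠ 0 := fun k h => by
      have := hμ1 k
      rw [h, zero_pow (orderOf_pos g).ne'] at this
      exact zero_ne_one this
    refine ⟨b i, b j, b.ne_zero i, b.ne_zero j, ?_, fun u hu => ⟨fun hu' => ?_, ?_⟩⟩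
    · intro h
      obtain ⟨a, ha⟩ := Submodule.mem_span_singleton.1 (h ▸ Submodule.mem_span_singleton_self (b i) : b i ∈ L (b j))
      have := congrArg (fun x => b.repr x i) ha
      simp [hij, hij.symm] at this
    · obtain ⟨a, ha⟩ := Submodule.mem_span_singleton.1 (hu' ▸ Submodule.mem_span_singleton_self (ρ g u) : ρ g u ∈ L u)
      have huv : u = b.repr u i • b i + b.repr u j • b j := by
        conv_lhs => rw [← b.sum_repr u]
        rw [← Finset.sum_subset (Finset.subset_univ {i, j}) fun k _ hk => by
          exact absurd (by rcases hall k with rfl | rfl <;> simp) hk, Finset.sum_pair hij]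
      have key : ∀ k, b.repr u k * (μ k - a) = 0 := fun k => by
        have h : b.repr (ρ g u) k = b.repr (a • u) k := by rw [ha]
        rw [huv] at h
        simp only [map_add, map_smul, hμ, Finsupp.add_apply, Finsupp.smul_apply, Module.Basis.repr_self,
          Finsupp.single_apply, smul_eq_mul] at h
        rcases hall k with rfl | rfl
        · simp [hij, hij.symm] at h; linear_combination h
        · simp [hij, hij.symm] at h; linear_combination h
      by_cases hi0 : b.repr u i = 0
      · refine Or.inr ?_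
        have hj0 : b.repr u j ≠ 0 := fun hj0 => hu (by rw [huv, hi0, hj0, zero_smul, zero_smul, add_zero])
        rw [hi0, zero_smul, zero_add] at huv
        rw [huv]
        exact Submodule.span_singleton_smul_eq (isUnit_iff_ne_zero.2 hj0) _
      · refine Or.inl ?_
        have hj0 : b.repr u j = 0 := by
          by_contra hj0
          have e1 := (mul_eq_zero.1 (key i)).resolve_left hi0
          have e2 := (mul_eq_zero.1 (key j)).resolve_left hj0
          exact hne ((sub_eq_zero.1 e1).trans (sub_eq_zero.1 e2).symm)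
        rw [hj0, zero_smul, add_zero] at huv
        rw [huv]
        exact Submodule.span_singleton_smul_eq (isUnit_iff_ne_zero.2 hi0) _
    · rintro (h | h) <;> rw [← hmap, h, hmap, hμ] <;>
        exact Submodule.span_singleton_smul_eq (isUnit_iff_ne_zero.2 (hμ0 _)) _
  -- the poles
  let X := {U : Submodule ℂ (Fin 2 → ℂ) // ∃ v, v ≠ 0 ∧ U = L v ∧ ∃ g ∉ Subgroup.center G, L (ρ g v) = L v}
  haveI : Finite X := by
    choose v w hv hw hvw hiff using hfix
    let f : {g : G // g ∉ Subgroup.center G} × Bool → Submodule ℂ (Fin 2 → ℂ) :=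
      fun p => if p.2 then L (v p.1 p.1.2) else L (w p.1 p.1.2)
    refine Finite.of_injective (β := Set.range f) (fun U => ⟨U.1, ?_⟩) fun U U' h => Subtype.ext (congrArg Subtype.val h :)
    obtain ⟨u, hu, hU, g, hg, hgu⟩ := U.2
    rcases (hiff g hg u hu).1 hgu with h | h
    · exact ⟨(⟨g, hg⟩, true), by rw [hU, h]; rfl⟩
    · exact ⟨(⟨g, hg⟩, false), by rw [hU, h]; rfl⟩
  have hρ0 : ∀ (g : G) (v : Fin 2 → ℂ), v ≠ 0 → ρ g v ≠ 0 := fun g v hv h => hv (by
    have := congrArg (ρ g⁻¹) h
    rwa [map_zero, ← Module.End.mul_apply, ← map_mul, inv_mul_cancel, map_one, Module.End.one_apply] at this)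
  letI : MulAction G X :=
    { smul := fun g U => ⟨U.1.map (ρ g), by
        obtain ⟨v, hv, hU, k, hk, hkv⟩ := U.2
        refine ⟨ρ g v, hρ0 g v hv, by rw [hU, hmap], g * k * g⁻¹, fun hc => hk ?_, ?_⟩
        · have := (Subgroup.center G).normal_of_characteristic
          simpa [mul_assoc] using (inferInstance : (Subgroup.center G).Normal).conj_mem _ hc g⁻¹
        · rw [← Module.End.mul_apply, ← map_mul, inv_mul_cancel_right, map_mul, Module.End.mul_apply,
            ← hmap, hkv, hmap]⟩
      one_smul := fun U => Subtype.ext (by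
        show U.1.map (ρ 1) = U.1
        rw [map_one, Module.End.one_eq_id, Submodule.map_id])
      mul_smul := fun g k U => Subtype.ext (by
        show U.1.map (ρ (g * k)) = (U.1.map (ρ k)).map (ρ g)
        rw [map_mul, Module.End.mul_eq_comp, Submodule.map_comp]) }
  have hsmul : ∀ (g : G) (U : X), (g • U : X).1 = U.1.map (ρ g) := fun _ _ => rfl
  haveI := Fintype.ofFinite X
  -- central elements fix every pole
  have hZ : ∀ g ∈ Subgroup.center G, ∀ U : X, g • U = U := by
    intro g hg U
    obtain ⟨c, hc⟩ : ∃ c : ℂ, ρ g = c • LinearMap.id := by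
      let T : Representation.IntertwiningMap ρ ρ := ⟨ρ g, fun x => by
        rw [← Module.End.mul_eq_comp, ← Module.End.mul_eq_comp, ← map_mul, ← map_mul,
          Subgroup.mem_center_iff.1 hg x]⟩
      obtain ⟨c, hc⟩ := (Representation.IsIrreducible.algebraMap_intertwiningMap_bijective_of_isAlgClosed (ρ := ρ)).2 T
      exact ⟨c, ((congrArg Representation.IntertwiningMap.toLinearMap hc).symm.trans rfl :)⟩
    have hc0 : c ≠ 0 := fun h => by
      have h2 := hρ0 g (Pi.single 0 1) (fun e => by simpa using congrFun e 0)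
      rw [hc, h, zero_smul] at h2
      exact h2 rfl
    refine Subtype.ext ?_
    obtain ⟨v, hv, hU, -⟩ := U.2
    rw [hsmul, hU, hmap, hc, LinearMap.smul_apply, LinearMap.id_apply]
    exact Submodule.span_singleton_smul_eq (isUnit_iff_ne_zero.2 hc0) _
  have hcard2 : ∀ g ∉ Subgroup.center G, Fintype.card (MulAction.fixedBy X g) = 2 := by
    intro g hg
    obtain ⟨v, w, hv, hw, hvw, hiff⟩ := hfix g hg
    let a : X := ⟨L v, v, hv, rfl, g, hg, (hiff v hv).2 (Or.inl rfl)⟩
    let b : X := ⟨L w, w, hw, rfl, g, hg, (hiff w hw).2 (Or.inr rfl)⟩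
    have hab : a ≠ b := fun h => hvw (congrArg Subtype.val h)
    rw [← Set.toFinset_card, show (MulAction.fixedBy X g).toFinset = {a, b} from ?_, Finset.card_pair hab]
    ext U
    obtain ⟨u, hu, hU, -⟩ := U.2
    rw [Set.mem_toFinset, MulAction.mem_fixedBy, Subtype.ext_iff, hsmul, hU, hmap, hiff u hu,
      Finset.mem_insert, Finset.mem_singleton, Subtype.ext_iff, Subtype.ext_iff, hU]
  haveI := Fintype.ofFinite (MulAction.orbitRel.Quotient G X)
  have hburn := MulAction.sum_card_fixedBy_eq_card_orbits_mul_card_group G X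
  rw [← Finset.sum_filter_add_sum_filter_not _ (· ∈ Subgroup.center G),
    Finset.sum_congr rfl (g := fun _ => Fintype.card X) (fun g hg => by
      rw [← Nat.card_eq_fintype_card, ← Nat.card_eq_fintype_card]
      exact Nat.card_congr (Equiv.subtypeUnivEquiv (hZ g (Finset.mem_filter.1 hg).2))),
    Finset.sum_congr rfl (fun g hg => hcard2 g (Finset.mem_filter.1 hg).2),
    Finset.sum_const, Finset.sum_const, smul_eq_mul, smul_eq_mul,
    Finset.filter_not, Finset.card_univ_sdiff,
    show (Finset.univ.filter (· ∈ Subgroup.center G)).card = Nat.card (Subgroup.center G) by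
      rw [Nat.card_eq_fintype_card, Fintype.card_subtype]] at hburn
  rw [← Nat.card_eq_fintype_card (α := G)] at hburn
  -- orbit sizes
  let o : MulAction.orbitRel.Quotient G X → ℕ := fun ω => (MulAction.stabilizer G ω.out).index
  have hXsum : Fintype.card X = ∑ ω, o ω := by
    rw [← Nat.card_eq_fintype_card, Nat.card_congr (MulAction.selfEquivSigmaOrbitsQuotientStabilizer G X),
      Nat.card_sigma]
    rfl
  have ho : ∀ U : X, (MulAction.stabilizer G U).index ∣ (Subgroup.center G).index ∧
      2 * (MulAction.stabilizer G U).index ≤ (Subgroup.center G).index ∧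
      3 ≤ (MulAction.stabilizer G U).index := by
    intro U
    have hle : Subgroup.center G ≤ MulAction.stabilizer G U := fun g hg => hZ g hg U
    obtain ⟨v, hv, hU, g, hg, hgv⟩ := U.2
    have hgs : g ∈ MulAction.stabilizer G U := Subtype.ext (by rw [hsmul, hU, hmap, hgv])
    have hd := Subgroup.index_dvd_of_le hle
    have hinv : ∀ h ∈ MulAction.stabilizer G U, ρ h v ∈ Submodule.span ℂ {v} := fun h hh => by
      have e := congrArg Subtype.val hh
      rw [hsmul, hU, hmap] at e
      show ρ h v ∈ L v
      rw [← e]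
      exact Submodule.mem_span_singleton_self _
    refine ⟨hd, ?_, ?_⟩
    · obtain ⟨m, hm⟩ := hd
      have hm2 : 2 ≤ m := by
        rcases m with _ | _ | m
        · exact absurd (hm.trans (mul_zero _)) Subgroup.index_ne_zero_of_finite
        · exfalso
          have h1 := Subgroup.relIndex_mul_index hle
          rw [hm, Nat.zero_add, mul_one] at h1
          have h2' := Nat.eq_of_mul_eq_mul_right (Nat.pos_of_ne_zero Subgroup.index_ne_zero_of_finite)
            (h1.trans (one_mul _).symm)
          exact hg (Subgroup.relIndex_eq_one.1 h2' hgs)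
        · omega
      rw [hm, mul_comm]
      exact Nat.mul_le_mul_left _ hm2
    · have h0 : (MulAction.stabilizer G U).index ≠ 0 := Subgroup.index_ne_zero_of_finite
      by_contra hlt
      rcases (show (MulAction.stabilizer G U).index = 1 ∨ (MulAction.stabilizer G U).index = 2 by omega)
        with h | h
      · exact hnoline v hv fun x => hinv x (by rw [Subgroup.index_eq_one.1 h]; trivial)
      · obtain ⟨θ, hθ, hθe⟩ := induced_of_line ρ _ h hv hinv
        exact hprim _ (fun e => by rw [e, Subgroup.index_top] at h; omega) θ hθ (he.symm.trans hθe)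
  -- noncentral elements exist
  have hne : (Subgroup.center G) ≠ ⊤ := by
    intro htop
    have : IsMulCommutative G := ⟨⟨fun a b =>
      (Subgroup.mem_center_iff.1 (htop ▸ Subgroup.mem_top a : a ∈ Subgroup.center G) b).symm⟩⟩
    have h := Representation.IsIrreducible.finrank_eq_one_of_isMulCommutative ρ
    rw [Module.finrank_fin_fun] at h
    omega
  have hN2 : 2 ≤ (Subgroup.center G).index := Subgroup.one_lt_index_of_ne_top hne
  have hzN := (Subgroup.center G).card_mul_index
  have hz0 : 0 < Nat.card (Subgroup.center G) := Nat.card_pos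
  generalize Nat.card (Subgroup.center G) = z at *
  generalize (Subgroup.center G).index = N at *
  rw [← hzN, hXsum] at hburn
  have hS : (∑ ω, o ω) + 2 * N = Fintype.card (MulAction.orbitRel.Quotient G X) * N + 2 := by
    refine Nat.eq_of_mul_eq_mul_left hz0 ?_
    have hle : z ≤ z * N := Nat.le_mul_of_pos_right z (by omega)
    rw [Nat.mul_add, Nat.mul_add, mul_left_comm z (Fintype.card _), ← hburn, mul_left_comm z 2 N]
    omega
  have hbound : 2 * ∑ ω, o ω ≤ Fintype.card (MulAction.orbitRel.Quotient G X) * N := by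
    rw [Finset.mul_sum]
    refine (Finset.sum_le_card_nsmul _ _ N fun ω _ => (ho _).2.1).trans ?_
    rw [Finset.card_univ, smul_eq_mul]
  have hlow : 3 * Fintype.card (MulAction.orbitRel.Quotient G X) ≤ ∑ ω, o ω := by
    refine le_trans ?_ (Finset.card_nsmul_le_sum _ _ 3 fun ω _ => (ho _).2.2)
    rw [Finset.card_univ, smul_eq_mul, mul_comm]
  have hk3 : Fintype.card (MulAction.orbitRel.Quotient G X) = 3 := by
    generalize Fintype.card (MulAction.orbitRel.Quotient G X) = k at hS hbound hlow
    rcases k with _ | _ | _ | _ | k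
    · omega
    · omega
    · omega
    · rfl
    · exfalso; nlinarith
  rw [hk3] at hS
  let e := (Fintype.equivFinOfCardEq hk3).symm
  rw [← e.sum_comp, Fin.sum_univ_three] at hS
  exact orbit_arith' (a := o (e 0)) (b := o (e 1)) (c := o (e 2)) (by omega) (ho _).1 (ho _).1 (ho _).1
    (ho _).2.1 (ho _).2.1 (ho _).2.1 (ho _).2.2 (ho _).2.2 (ho _).2.2

end Cfsg.Agent.S4473
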