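import Cfsg.Statements.S0341
import Cfsg.Agent.Lib.Perm.Regular
import Cfsg.Agent.Lib.Frobenius.Kernel
import Cfsg.Agent.Lib.FixedFormula.Frobenius
import Cfsg.Agent.EqLemmas

set_option autoImplicit false
open Cfsg
open scoped IsMulCommutative

namespace Cfsg.Agent.S0341

/-- If a finite group acts faithfully and doubly transitively, no non-identity element fixes three points, some
non-identity element fixes two points, and some normal subgroup acts regularly, then the number of points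
is `2^p` with `p` prime. -/
theorem result {G Ω : Type*} [Group G]
    [MulAction G Ω] [Fintype Ω] [FaithfulSMul G Ω] (h2 : MulAction.IsMultiplyPretransitive G Ω 2)
    (h3 : ∀ g : G, ∀ a b c : Ω, a ≠ b → b ≠ c → a ≠ c → g • a = a → g • b = b → g • c = c → g = 1)
    (hfix : ∃ g : G, g ≠ 1 ∧ ∃ a b : Ω, a ≠ b ∧ g • a = a ∧ g • b = b)
    (N : Subgroup G) [N.Normal] (hNt : MulAction.IsPretransitive N Ω)
    (hNr : ∀ a : Ω, MulAction.stabilizer N a = ⊥) :
    ∃ p : ℕ, p.Prime ∧ Fintype.card Ω = 2 ^ p := by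
  classical
  have hFin : Finite G := Finite.of_injective _ (MulAction.toPerm_injective (α := G) (β := Ω))
  obtain ⟨g₀, hg₀, a, b, hab, hga, hgb⟩ := hfix
  have : Nonempty Ω := ⟨a⟩
  obtain ⟨hNc, p₀, hp₀, hNp⟩ := Perm.regular_normal_of_two_transitive h2 hNt hNr
  have hNcard : Nat.card N = Fintype.card Ω := by
    rw [Perm.card_eq_of_regular hNt hNr, Nat.card_eq_fintype_card]
  have hpair : ∀ {c d : Ω}, c ≠ d → ∃ g : G, g • a = c ∧ g • b = d :=
    fun hcd => MulAction.is_two_pretransitive_iff.1 h2 hab hcd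
  have hinj : ∀ n m : N, (n : G) • a = (m : G) • a → n = m :=
    fun n m h => Perm.eq_of_smul_eq_of_regular hNr (a := a) h
  have hpt : ∀ (g : G), g • a = a → ∀ n : N, MulAut.conjNormal g n = n ↔ g • ((n : G) • a) = (n : G) • a := by
    intro g hg n
    constructor
    · intro h
      rw [← Perm.conj_smul_of_fix (n : G) hg, ← MulAut.conjNormal_apply, h]
    · intro h
      apply hinj
      rw [MulAut.conjNormal_apply, Perm.conj_smul_of_fix (n : G) hg, h]
  obtain ⟨⟨n₀, hn₀N⟩, hn₀⟩ := MulAction.exists_smul_eq N a b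
  set n₁ : N := ⟨n₀, hn₀N⟩ with hn₁
  have hn₁b : (n₁ : G) • a = b := hn₀
  have hn₁1 : n₁ ≠ 1 := fun h => hab (by rw [h, Subgroup.coe_one, one_smul] at hn₁b; exact hn₁b)
  have hsq₁ : n₁ * n₁ = 1 := by
    have h1 : MulAut.conjNormal g₀ n₁ = n₁ := (hpt g₀ hga n₁).2 (by rw [hn₁b, hgb])
    have h2' : MulAut.conjNormal g₀ (n₁ * n₁) = n₁ * n₁ := by rw [map_mul, h1]
    have h4 := (hpt g₀ hga _).1 h2'
    by_contra hne
    refine hg₀ (h3 g₀ a b (((n₁ * n₁ : N) : G) • a) hab ?_ ?_ hga hgb h4)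
    · intro h
      have := hinj n₁ (n₁ * n₁) (by rw [hn₁b]; exact h)
      exact hn₁1 (left_eq_mul.1 this)
    · intro h
      exact hne (hinj (n₁ * n₁) 1 (by rw [Subgroup.coe_one, one_smul]; exact h.symm))
  have hp₀2 : p₀ = 2 := by
    have ho : orderOf n₁ = p₀ := by
      haveI := Fact.mk hp₀
      exact orderOf_eq_prime (hNp n₁) hn₁1
    have : p₀ ∣ 2 := ho ▸ orderOf_dvd_of_pow_eq_one (by rw [pow_two]; exact hsq₁)
    exact (Nat.prime_dvd_prime_iff_eq hp₀ Nat.prime_two).1 this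
  subst hp₀2
  obtain ⟨m, hm⟩ : ∃ m, Nat.card N = 2 ^ m := by
    haveI : Fact (Nat.Prime 2) := ⟨Nat.prime_two⟩
    exact IsPGroup.iff_card.mp fun n => ⟨1, by rw [pow_one]; exact hNp n⟩
  obtain ⟨c₀, hc₀a, hc₀b⟩ : ∃ c : Ω, c ≠ a ∧ c ≠ b := by
    by_contra h
    push Not at h
    exact hg₀ (FaithfulSMul.eq_of_smul_eq_smul (α := Ω) fun c => by
      rw [one_smul]
      by_cases hc : c = a
      · rw [hc, hga]
      · rw [h c hc, hgb])
  have hn3 : 3 ≤ Fintype.card Ω := by
    calc 3 = ({a, b, c₀} : Finset Ω).card := by simp [hab, hc₀a.symm, hc₀b.symm]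
      _ ≤ _ := Finset.card_le_univ _
  -- the point stabiliser is a Frobenius group
  let G₀ : Subgroup G := MulAction.stabilizer G a
  let H : Subgroup G₀ := MulAction.stabilizer G₀ b
  have horb : MulAction.orbit G₀ b = {a}ᶜ := by
    ext c
    simp only [Set.mem_compl_iff, Set.mem_singleton_iff]
    constructor
    · rintro ⟨g, rfl⟩ h
      exact hab (smul_left_cancel (g : G) ((show (g : G) • a = a from g.2).trans h.symm))
    · intro hc
      obtain ⟨g, hg, hg'⟩ := hpair (Ne.symm hc)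
      exact ⟨⟨g, hg⟩, hg'⟩
  have hHidx : H.index = Fintype.card Ω - 1 := by
    rw [MulAction.index_stabilizer, horb, Set.ncard_compl, Set.ncard_singleton, Nat.card_eq_fintype_card]
  have hFC : Cfsg.IsFrobeniusComplement H := by
    refine ⟨fun h => ?_, fun h => ?_, fun g hg => ?_⟩
    · have : (⟨g₀, hga⟩ : G₀) ∈ H := hgb
      rw [h, Subgroup.mem_bot] at this
      exact hg₀ (congrArg Subtype.val this)
    · rw [h, Subgroup.index_top] at hHidx
      omega
    · rw [Subgroup.eq_bot_iff_forall]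
      rintro x ⟨hx, hx'⟩
      obtain ⟨y, hy, rfl⟩ := hx'
      have hy' : (y : G) • b = b := hy
      have hfixc : ((MulAut.conj g y : G₀) : G) • ((g : G) • b) = (g : G) • b := by
        simp only [MulAut.conj_apply, Subgroup.coe_mul, Subgroup.coe_inv, mul_smul, inv_smul_smul, hy']
      refine Subtype.ext (h3 _ a b ((g : G) • b) hab (fun h => hg h.symm) ?_ (MulAut.conj g y : G₀).2 hx hfixc)
      intro h
      exact hab (smul_left_cancel (g : G) ((show (g : G) • a = a from g.2).trans h))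
  let K : Subgroup G₀ := Frobenius.frobKernel hFC
  have hKn : K.Normal := Frobenius.frobKernel_normal hFC
  have hKc : Nat.card K = Fintype.card Ω - 1 := by rw [Frobenius.card_frobKernel hFC, hHidx]
  have hKH : Disjoint K H := (Frobenius.frobKernel_isComplement hFC).disjoint
  have hKfix : ∀ k ∈ K, ∀ c : Ω, c ≠ a → (k : G) • c = c → k = 1 := by
    intro k hk c hc hkc
    obtain ⟨g, hg, hgc⟩ := hpair (Ne.symm hc)
    let g' : G₀ := ⟨g, hg⟩
    have h1 : g'⁻¹ * k * g' ∈ K := by simpa using hKn.conj_mem k hk g'⁻¹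
    have h2' : g'⁻¹ * k * g' ∈ H := by
      change (g⁻¹ * (k : G) * g) • b = b
      rw [mul_smul, mul_smul, hgc, hkc, ← hgc, inv_smul_smul]
    have := Subgroup.mem_bot.1 (hKH.le_bot ⟨h1, h2'⟩)
    rw [mul_assoc, inv_mul_eq_one] at this
    exact mul_eq_right.1 this.symm
  obtain ⟨k₀, hk₀, hk₀1⟩ : ∃ k ∈ K, k ≠ 1 := by
    by_contra h
    push Not at h
    exact Frobenius.frobKernel_ne_bot hFC (Subgroup.eq_bot_iff_forall _ |>.2 h)
  obtain ⟨r, hr, hrd⟩ := Nat.exists_prime_and_dvd (n := Nat.card H) (fun h => hFC.1 (Subgroup.card_eq_one.1 h))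
  haveI := Fact.mk hr
  obtain ⟨⟨x, hxH⟩, hxo⟩ := exists_prime_orderOf_dvd_card' (G := H) r hrd
  have hxo' : orderOf x = r := (Subgroup.orderOf_coe (⟨x, hxH⟩ : H)).trans hxo
  have hxb : (x : G) • b = b := hxH
  have hx1 : x ≠ 1 := fun h => hr.ne_one (by rw [← hxo', h, orderOf_one])
  have hx1' : (x : G) ≠ 1 := fun h => hx1 (Subtype.ext h)
  let φ : G₀ →* MulAut N := MulAut.conjNormal.comp G₀.subtype
  have hfixx : ∀ n : N, φ x n = n → n ∈ Subgroup.zpowers n₁ := by
    intro n hn
    have h1 := (hpt (x : G) x.2 n).1 hn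
    by_cases hna : (n : G) • a = a
    · rw [hinj n 1 (by rw [hna, Subgroup.coe_one, one_smul])]; exact one_mem _
    · by_cases hnb : (n : G) • a = b
      · rw [hinj n n₁ (by rw [hnb, hn₁b])]; exact Subgroup.mem_zpowers _
      · exact absurd (h3 _ a b _ hab (Ne.symm hnb) (Ne.symm hna) x.2 hxb h1) hx1'
  have hn₁o : orderOf n₁ = 2 := orderOf_eq_prime (hNp n₁) hn₁1
  have hxn₁ : φ x n₁ = n₁ := (hpt (x : G) x.2 n₁).2 (by rw [hn₁b, hxb])
  by_cases hr2 : r = 2
  · subst hr2
    haveI := hNc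
    have hxx : x * x = 1 := by rw [← sq, ← hxo', pow_orderOf_eq_one]
    let f : N →* N := MonoidHom.id N * (φ x).toMonoidHom
    have hf : ∀ n, f n = n * φ x n := fun n => rfl
    have hker : f.ker ≤ Subgroup.zpowers n₁ := fun n hn => hfixx n <| by
      rw [MonoidHom.mem_ker, hf] at hn
      rw [eq_inv_of_mul_eq_one_right hn, inv_eq_iff_mul_eq_one, ← sq, hNp]
    have hrange : f.range ≤ Subgroup.zpowers n₁ := by
      rintro _ ⟨n, rfl⟩
      apply hfixx
      rw [hf, map_mul, ← MulAut.mul_apply, ← map_mul φ, hxx, map_one, MulAut.one_apply, mul_comm']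
    have hz : Nat.card (Subgroup.zpowers n₁) = 2 := by rw [Nat.card_zpowers, hn₁o]
    have h1 := Subgroup.card_le_of_le hker
    have h2' := Subgroup.card_le_of_le hrange
    have h4 := Subgroup.card_mul_index f.ker
    rw [Subgroup.index_ker] at h4
    rw [hz] at h1 h2'
    have h5 : Nat.card N ≤ 4 := by
      rw [← h4]; exact le_trans (Nat.mul_le_mul h1 h2') le_rfl
    refine ⟨2, Nat.prime_two, ?_⟩
    rw [← hNcard, hm] at hn3 ⊢
    rw [hm] at h5
    rcases m with _ | _ | _ | m
    · norm_num at hn3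
    · norm_num at hn3
    · rfl
    · have : 2 ^ 3 ≤ 2 ^ (m + 3) := Nat.pow_le_pow_right (by norm_num) (by omega)
      omega
  · let E : Subgroup G₀ := Subgroup.zpowers x
    let M : Subgroup G₀ := K ⊔ E
    have hFPF : Frobenius.FPF E K :=
      (Frobenius.fpf_frobKernel hFC).mono (Subgroup.zpowers_le.2 hxH) le_rfl
    have hKM : K ≤ M := le_sup_left
    have hEM : E ≤ M := le_sup_right
    have hFD : FixedFormula.FrobData (K.subgroupOf M) (E.subgroupOf M) := by
      refine ⟨Subgroup.Normal.subgroupOf hKn M, ?_, ?_, ?_⟩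
      · rw [Subgroup.eq_bot_iff_forall]
        rintro ⟨y, hy⟩ ⟨h1, h2'⟩
        exact Subtype.ext (Subgroup.mem_bot.1 (hFPF.inf_eq_bot.le ⟨h1, h2'⟩))
      · rw [← Subgroup.subgroupOf_sup hKM hEM, Subgroup.subgroupOf_self]
      · intro e he he1 u hu h
        exact Subtype.ext (hFPF e he (fun e1 => he1 (Subtype.ext e1)) u hu (congrArg Subtype.val h))
    let φM : M →* MulAut N := φ.comp M.subtype
    have hU : FixedFormula.fixBy φM (K.subgroupOf M) = ⊥ := by
      rw [Subgroup.eq_bot_iff_forall]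
      intro n hn
      have h1 := hn ⟨k₀, hKM hk₀⟩ hk₀
      have h1' := (hpt (k₀ : G) k₀.2 n).1 h1
      by_contra hn1
      exact hk₀1 (hKfix k₀ hk₀ _ (fun h => hn1 (hinj n 1 (by rw [h, Subgroup.coe_one, one_smul]))) h1')
    have htop : FixedFormula.fixBy φM ⊤ = ⊥ := by
      rw [eq_bot_iff, ← hU]
      exact fun n hn k _ => hn k (Subgroup.mem_top k)
    have hE : FixedFormula.fixBy φM (E.subgroupOf M) = Subgroup.zpowers n₁ := by
      apply le_antisymm
      · intro n hn
        exact hfixx n (hn ⟨x, hEM (Subgroup.mem_zpowers x)⟩ (Subgroup.mem_zpowers x))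
      · rw [Subgroup.zpowers_le]
        rintro ⟨k, hk⟩ hkE
        have hk' : k ∈ (MulAction.stabilizer (MulAut N) n₁).comap φ := by
          refine (Subgroup.zpowers_le.2 ?_) (hkE : k ∈ E)
          exact hxn₁
        exact hk'
    have hcardE : Nat.card (E.subgroupOf M) = r := by
      rw [Nat.card_congr (Subgroup.subgroupOfEquivOfLe hEM).toEquiv, Nat.card_zpowers, hxo']
    have hcardK : Nat.card (K.subgroupOf M) = 2 ^ m - 1 := by
      rw [Nat.card_congr (Subgroup.subgroupOfEquivOfLe hKM).toEquiv, hKc, ← hNcard, hm]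
    have hm0 : m ≠ 0 := by rintro rfl; rw [← hNcard, hm] at hn3; norm_num at hn3
    have hodd : Odd (2 ^ m - 1) :=
      Nat.Even.sub_odd Nat.one_le_two_pow (Nat.even_pow.2 ⟨even_two, hm0⟩) odd_one
    have hcop : (Nat.card N).Coprime (Nat.card M) := by
      rw [hm, hFD.card, hcardE, hcardK]
      exact Nat.Coprime.pow_left _ (Nat.coprime_two_left.2 (hodd.mul (hr.odd_of_ne_two hr2)))
    haveI := hNc
    have hsolv : Group.IsSolvable N := Group.isSolvable_of_comm fun a b => mul_comm' a b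
    have hf := FixedFormula.formula hFD φM hsolv hcop
    rw [htop, hU, hE, hcardE, Subgroup.card_bot, one_pow, one_mul, mul_one, Nat.card_zpowers, hn₁o] at hf
    exact ⟨r, hr, hNcard ▸ hf⟩

end Cfsg.Agent.S0341
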