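import Cfsg.Statements.S4718
import Cfsg.Agent.Lib.ClassCount.PRegularSum

set_option autoImplicit false
universe u
open Cfsg

namespace Cfsg.Agent.S4718

open Cfsg.Agent

/-- Landau: boundedly many unit fractions with given sum have bounded denominators. -/
theorem landau : ∀ (k : ℕ) (r : ℚ), ∃ N : ℕ, ∀ s : Multiset ℕ, Multiset.card s ≤ k →
    (∀ n ∈ s, 0 < n) → (s.map fun n : ℕ => (1 : ℚ) / n).sum = r → ∀ n ∈ s, n ≤ N := by
  intro k
  induction k with
  | zero =>
    intro r
    refine ⟨0, fun s hs _ _ n hn => ?_⟩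
    rw [Multiset.card_eq_zero.mp (Nat.le_zero.mp hs)] at hn
    simp at hn
  | succ k ih =>
    intro r
    choose N hN using fun n : ℕ => ih (r - 1 / (n : ℚ))
    refine ⟨max ⌊((k + 1 : ℕ) : ℚ) / r⌋₊ ((Finset.range (⌊((k + 1 : ℕ) : ℚ) / r⌋₊ + 1)).sup N),
      fun s hs hpos hsum n hn => ?_⟩
    have hr : 0 < r := by
      rw [← hsum, ← Multiset.cons_erase hn, Multiset.map_cons, Multiset.sum_cons]
      refine add_pos_of_pos_of_nonneg (by have := hpos n hn; positivity) ?_
      exact Multiset.sum_nonneg fun x hx => by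
        obtain ⟨m, -, rfl⟩ := Multiset.mem_map.mp hx
        positivity
    obtain ⟨m, hm, hmle⟩ : ∃ m ∈ s, m ≤ ⌊((k + 1 : ℕ) : ℚ) / r⌋₊ := by
      by_contra hne
      push Not at hne
      have hb : ∀ m ∈ s, (1 : ℚ) / m < r / ((k + 1 : ℕ) : ℚ) := by
        intro m hm
        have h1 := Nat.lt_of_floor_lt (hne m hm)
        have hm0 : (0 : ℚ) < m := by exact_mod_cast hpos m hm
        have hk0 : (0 : ℚ) < ((k + 1 : ℕ) : ℚ) := by exact_mod_cast k.succ_pos
        rw [div_lt_iff₀ hr] at h1
        rw [div_lt_div_iff₀ hm0 hk0]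
        linarith
      have hlt : (s.map fun n : ℕ => (1 : ℚ) / n).sum <
          (s.map fun _ : ℕ => r / ((k + 1 : ℕ) : ℚ)).sum :=
        Multiset.sum_lt_sum_of_nonempty (by rintro rfl; simp at hn) hb
      rw [hsum, Multiset.map_const', Multiset.sum_replicate, nsmul_eq_mul] at hlt
      have hc : (Multiset.card s : ℚ) * (r / ((k + 1 : ℕ) : ℚ)) ≤
          ((k + 1 : ℕ) : ℚ) * (r / ((k + 1 : ℕ) : ℚ)) :=
        mul_le_mul_of_nonneg_right (by exact_mod_cast hs) (by positivity)
      rw [mul_div_cancel₀ _ (by exact_mod_cast k.succ_ne_zero)] at hc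
      linarith
    rcases eq_or_ne n m with rfl | hnm
    · exact le_max_of_le_left hmle
    refine le_max_of_le_right (le_trans ?_ (Finset.le_sup (Finset.mem_range.mpr
      (Nat.lt_succ_of_le hmle))))
    refine hN m (s.erase m) ?_ (fun x hx => hpos x (Multiset.mem_of_mem_erase hx)) ?_ n
      ((Multiset.mem_erase_of_ne hnm).mpr hn)
    · rw [Multiset.card_erase_of_mem hm]; exact Nat.sub_le_iff_le_add.mpr hs
    · rw [← hsum]
      conv_rhs => rw [← Multiset.cons_erase hm, Multiset.map_cons, Multiset.sum_cons]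
      ring


/-- Let p be a prime and a a natural number. There is a bound N such that every finite group whose Sylow p-subgroups have order p^a and whose only p-block (relative to a maximal ideal of the algebraic integers containing p) is the principal block has order at most N. -/
theorem result (p : ℕ) [Fact p.Prime] (a : ℕ) : ∃ N : ℕ, ∀ (G : Type u) [Group G] [Finite G] (M : Ideal Cfsg.AlgInt), Cfsg.IsPModular p M → (Nat.card G).factorization p = a → (∀ B : Set (Cfsg.IrrCharacter G), Cfsg.IsPBlock M B → B = Cfsg.principalBlock M G) → Nat.card G ≤ N := by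
  obtain ⟨N, hN⟩ := landau (p ^ (2 * a)) 1
  refine ⟨N, fun G _ _ M hM ha hB => ?_⟩
  classical
  have := Fintype.ofFinite G
  have := Fintype.ofFinite (ConjClasses G)
  have hall : ∀ χ : Cfsg.IrrCharacter G, χ ∈ Cfsg.principalBlock M G := fun χ => by
    rw [← hB _ ⟨χ, rfl⟩]
    exact fun g => by rw [sub_self]; exact Blocks.memI_zero hM
  have hk := ClassCount.card_le_of_all_ne_zero (p := p)
    (fun χ => ClassCount.regSum_ne_zero_of_principal hM (hall χ))
  rw [ha, Char.card_irr_eq_card_conjClasses] at hk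
  refine hN ((Finset.univ : Finset (ConjClasses G)).val.map
      fun C => Nat.card ↥(Subgroup.centralizer ({C.out} : Set G))) ?_ ?_ ?_ (Nat.card G) ?_
  · rw [Multiset.card_map, Finset.card_val, Finset.card_univ, ← Nat.card_eq_fintype_card]
    exact hk
  · intro n hn
    obtain ⟨C, -, rfl⟩ := Multiset.mem_map.mp hn
    exact Nat.card_pos
  · rw [Multiset.map_map]
    show ∑ C : ConjClasses G,
      (1 : ℚ) / (Nat.card ↥(Subgroup.centralizer ({C.out} : Set G)) : ℕ) = 1
    have hsum : ∑ C : ConjClasses G, Nat.card {g : G // IsConj C.out g} = Nat.card G := by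
      rw [← Nat.card_sigma]
      refine Nat.card_congr (Equiv.ofBijective (fun s => s.2.1) ⟨?_, ?_⟩)
      · rintro ⟨C, g, hg⟩ ⟨D, g', hg'⟩ (h : g = g')
        subst h
        have : C = D := by
          rw [← Quotient.out_eq C, ← Quotient.out_eq D]
          exact Quotient.sound (hg.trans hg'.symm)
        subst this
        rfl
      · intro g
        exact ⟨⟨ConjClasses.mk g, g, Quotient.exact (Quotient.out_eq (ConjClasses.mk g))⟩, rfl⟩
    have hG : (Nat.card G : ℚ) ≠ 0 := by exact_mod_cast Nat.card_pos.ne'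
    calc _ = ∑ C : ConjClasses G, (Nat.card {g : G // IsConj C.out g} : ℚ) / (Nat.card G : ℚ) := by
          refine Finset.sum_congr rfl fun C _ => ?_
          rw [← ClassCount.card_class_mul_card_centralizer C.out]
          push_cast
          have : (Nat.card {g : G // IsConj C.out g} : ℚ) ≠ 0 := by
            have : Nonempty {g : G // IsConj C.out g} := ⟨⟨C.out, IsConj.refl _⟩⟩
            exact_mod_cast Nat.card_pos.ne'
          field_simp
      _ = 1 := by rw [← Finset.sum_div, ← Nat.cast_sum, hsum, div_self hG]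
  · refine Multiset.mem_map.mpr ⟨ConjClasses.mk 1, Finset.mem_univ_val _, ?_⟩
    have h1 : (ConjClasses.mk (1 : G)).out = 1 := by
      obtain ⟨c, hc⟩ := isConj_iff.mp
        (Quotient.exact (Quotient.out_eq (ConjClasses.mk (1 : G))) : IsConj _ (1 : G))
      rw [mul_inv_eq_one] at hc
      simpa using hc
    rw [h1, Subgroup.centralizer_eq_top_iff_subset.mpr (by simp), Subgroup.card_top]

end Cfsg.Agent.S4718
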