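import Cfsg.Statements.S2760
import Cfsg.Agent.Lib.Cores.Subnormal

set_option autoImplicit false
open Cfsg

namespace Cfsg.Agent.S2760

/-- A normal subgroup of `G` all whose odd-order elements are trivial is contained in `O₂(G)`. -/
theorem le_pCore_of_odd {G : Type*} [Group G] [Finite G] {M : Subgroup G} (hM : M.Normal)
    (h : ∀ x ∈ M, Odd (orderOf x) → x = 1) : M ≤ Cfsg.pCore 2 G := by
  refine le_sSup ⟨hM, IsPGroup.iff_orderOf.2 fun ⟨x, hx⟩ => ?_⟩
  rw [Subgroup.orderOf_mk]
  obtain ⟨e, m, hm, he⟩ := Nat.exists_eq_pow_mul_and_not_dvd (orderOf_pos x).ne' 2 (by norm_num)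
  refine ⟨e, ?_⟩
  have hm1 : x ^ (2 ^ e) = 1 := by
    refine h _ (pow_mem hx _) ?_
    rw [orderOf_pow_of_dvd (by positivity) (he ▸ dvd_mul_right _ _), he,
      Nat.mul_div_cancel_left _ (by positivity)]
    exact Nat.odd_iff.2 (by omega)
  have hd := orderOf_dvd_of_pow_eq_one hm1
  rw [he] at hd
  have h2 : 0 < 2 ^ e := by positivity
  have hm' : m = 1 := Nat.dvd_one.1 ((Nat.mul_dvd_mul_iff_left h2).1 (by rwa [mul_one]))
  rw [he, hm', mul_one]

/-- Constraint is inherited by normal subgroups. -/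
theorem normal_case {G : Type*} [Group G] [Finite G]
    (hchar : Subgroup.centralizer (Cfsg.pCore 2 G : Set G) ≤ Cfsg.pCore 2 G) (H : Subgroup G)
    [hH : H.Normal] :
    Subgroup.centralizer (Cfsg.pCore 2 ↥H : Set ↥H) ≤ Cfsg.pCore 2 ↥H := by
  have hCn : (Subgroup.centralizer (Cfsg.pCore 2 ↥H : Set ↥H)).Normal := inferInstance
  refine le_pCore_of_odd hCn fun x hx hodd => ?_
  have hxQ : (x : G) ∈ Subgroup.centralizer (Cfsg.pCore 2 G : Set G) := by
    refine Subgroup.mem_centralizer_iff.2 fun q hq => ?_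
    have hQn := Cores.isPGroup_pCore 2 G
    have hn : (Cfsg.pCore 2 G).Normal := inferInstance
    -- the commutator lies in `Q ∩ H`, hence is a 2-element fixed by `x`
    set z := q⁻¹ * ((x : G) * q * (x : G)⁻¹) with hz
    have hzQ : z ∈ Cfsg.pCore 2 G := mul_mem (inv_mem hq) (hn.conj_mem q hq _)
    have hzH : z ∈ H := by
      have := H.mul_mem (hH.conj_mem _ x.2 q⁻¹) (H.inv_mem x.2)
      rw [hz]; convert this using 1; group
    have hzH2 : (⟨z, hzH⟩ : H) ∈ Cfsg.pCore 2 ↥H := by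
      have h1 : (Cfsg.pCore 2 G).subgroupOf H ≤ Cfsg.pCore 2 ↥H :=
        le_sSup ⟨inferInstance, hQn.comap_of_injective H.subtype H.subtype_injective⟩
      exact h1 hzQ
    have hcomm : z * (x : G) = (x : G) * z :=
      congrArg Subtype.val (Subgroup.mem_centralizer_iff.1 hx _ hzH2)
    have hpow : ∀ n : ℕ, (x : G) ^ n * q * ((x : G) ^ n)⁻¹ = q * z ^ n := by
      intro n
      induction n with
      | zero => simp
      | succ n ih =>
        have hzn : (x : G) * z ^ n * (x : G)⁻¹ = z ^ n := by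
          rw [mul_inv_eq_iff_eq_mul]; exact ((show Commute z (x : G) from hcomm).pow_left n).eq.symm
        calc (x : G) ^ (n + 1) * q * ((x : G) ^ (n + 1))⁻¹
            = (x : G) * ((x : G) ^ n * q * ((x : G) ^ n)⁻¹) * (x : G)⁻¹ := by
              rw [pow_succ', mul_inv_rev]; simp [mul_assoc]
          _ = (x : G) * (q * z ^ n) * (x : G)⁻¹ := by rw [ih]
          _ = ((x : G) * q * (x : G)⁻¹) * ((x : G) * z ^ n * (x : G)⁻¹) := by group
          _ = q * z * z ^ n := by rw [hzn, hz]; group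
          _ = q * z ^ (n + 1) := by rw [mul_assoc, pow_succ']
    have h1 := hpow (orderOf x)
    rw [← Subgroup.orderOf_coe, pow_orderOf_eq_one, Subgroup.orderOf_coe] at h1
    simp at h1
    obtain ⟨k, hk⟩ := IsPGroup.iff_orderOf.1 hQn ⟨z, hzQ⟩
    rw [Subgroup.orderOf_mk] at hk
    have hd : orderOf z ∣ orderOf x := orderOf_dvd_of_pow_eq_one h1
    have hz1 : z = 1 := by
      rcases k with _ | k
      · exact orderOf_eq_one_iff.1 (by simpa using hk)
      · exact absurd ((dvd_pow_self 2 k.succ_ne_zero).trans (hk ▸ hd)) hodd.not_two_dvd_nat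
    have h2 : (x : G) * q * (x : G)⁻¹ = q := by
      rw [← one_mul ((x : G) * q * (x : G)⁻¹), ← mul_inv_cancel q, mul_assoc q, ← hz, hz1, mul_one]
    exact (mul_inv_eq_iff_eq_mul.1 h2).symm
  obtain ⟨k, hk⟩ := IsPGroup.iff_orderOf.1 (Cores.isPGroup_pCore 2 G) ⟨(x : G), hchar hxQ⟩
  rw [Subgroup.orderOf_mk, Subgroup.orderOf_coe] at hk
  rcases k with _ | k
  · exact orderOf_eq_one_iff.1 (by simpa using hk)
  · exact absurd (hk ▸ dvd_pow_self 2 k.succ_ne_zero) hodd.not_two_dvd_nat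

/-- Let G be a finite group with C_G(O₂(G)) ≤ O₂(G) and H a subgroup of G such that H is normal in G, or the subgroup O²(H) generated by the elements of H of odd order is normal in G. Then C_H(O₂(H)) ≤ O₂(H). -/
theorem result {G : Type*} [Group G] [Finite G] (hchar : Subgroup.centralizer (Cfsg.pCore 2 G : Set G) ≤ Cfsg.pCore 2 G) (H : Subgroup G) (hH : H.Normal ∨ ((Cfsg.pResidual 2 ↥H).map H.subtype).Normal) : Subgroup.centralizer (Cfsg.pCore 2 ↥H : Set ↥H) ≤ Cfsg.pCore 2 ↥H := by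
  rcases hH with hH | hH
  · exact normal_case hchar H
  set R := Cfsg.pResidual 2 ↥H
  have hR : R.Normal := by
    refine ⟨fun n hn g => ?_⟩
    have hle : R ≤ R.comap (MulAut.conj g).toMonoidHom := by
      refine (Subgroup.closure_le _).2 fun y hy => Subgroup.subset_closure ?_
      show Nat.Coprime (orderOf ((MulAut.conj g) y)) 2
      rw [MulEquiv.orderOf_eq]; exact hy
    exact hle hn
  set R' := R.map H.subtype with hR'
  have hRchar := normal_case hchar R'
  have hCn : (Subgroup.centralizer (Cfsg.pCore 2 ↥H : Set ↥H)).Normal := inferInstance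
  refine le_pCore_of_odd hCn fun x hx hodd => ?_
  have hxR : x ∈ R := Subgroup.subset_closure (Nat.coprime_two_right.2 hodd)
  have hxR' : (x : G) ∈ R' := Subgroup.mem_map_of_mem _ hxR
  let e : R ≃* R' := R.equivMapOfInjective H.subtype H.subtype_injective
  have hmem : (⟨(x : G), hxR'⟩ : R') ∈ Subgroup.centralizer (Cfsg.pCore 2 ↥R' : Set ↥R') := by
    refine Subgroup.mem_centralizer_iff.2 fun y hy => ?_
    rw [SetLike.mem_coe, ← Cores.pCore_map_mulEquiv e] at hy
    obtain ⟨y₀, hy₀, rfl⟩ := hy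
    have hyH : (y₀ : H) ∈ Cfsg.pCore 2 ↥H :=
      Cores.pCore_map_le_of_isSubnormal (K := R) hR.isSubnormal 2 (Subgroup.mem_map_of_mem _ hy₀)
    apply Subtype.ext
    show ((y₀ : H) : G) * (x : G) = (x : G) * ((y₀ : H) : G)
    exact congrArg Subtype.val (Subgroup.mem_centralizer_iff.1 hx _ hyH)
  obtain ⟨k, hk⟩ := IsPGroup.iff_orderOf.1 (Cores.isPGroup_pCore 2 ↥R') ⟨_, hRchar hmem⟩
  rw [Subgroup.orderOf_mk, Subgroup.orderOf_mk, Subgroup.orderOf_coe] at hk
  rcases k with _ | k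
  · exact orderOf_eq_one_iff.1 (by simpa using hk)
  · exact absurd (hk ▸ dvd_pow_self 2 k.succ_ne_zero) hodd.not_two_dvd_nat

end Cfsg.Agent.S2760
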