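import Cfsg.Statements.S2587
import Cfsg.Agent.EqLemmas
import Cfsg.Agent.Lib.UnitaryConj.Basic

set_option autoImplicit false
open Cfsg

namespace Cfsg.Agent.S2587

/-- Conjugacy in the finite general unitary group is controlled by the general linear group: two elements of GU_n(q) (the invertible matrices over the field with q² elements preserving the Hermitian form Σ u_i v_i^q) are conjugate in GU_n(q) if and only if they are conjugate in GL_n(q²). -/
theorem result {K : Type*} [Field K] [Fintype K] {q n : ℕ} (hK : Fintype.card K = q ^ 2) (A B : ↥(Cfsg.GU n K q)) : IsConj A B ↔ IsConj (A : GL (Fin n) K) (B : GL (Fin n) K) := by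
  classical
  constructor
  · exact fun h => MonoidHom.map_isConj (Cfsg.GU n K q).subtype h
  · intro h
    obtain ⟨g, hg⟩ := isConj_iff.mp h
    have hA := (UnitaryConj.mem_GU_iff_adj hK (A : GL (Fin n) K)).mp A.2
    have hB := (UnitaryConj.mem_GU_iff_adj hK (B : GL (Fin n) K)).mp B.2
    have hgA : g * (A : GL (Fin n) K) = (B : GL (Fin n) K) * g := mul_inv_eq_iff_eq_mul.mp hg
    have hgA' := congrArg Units.val hgA
    simp only [Units.val_mul] at hgA'
    set Ag := UnitaryConj.adj hK ((g : GL (Fin n) K) : Matrix (Fin n) (Fin n) K)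
    have hu : IsUnit (Ag * (g : Matrix (Fin n) (Fin n) K)) := (UnitaryConj.isUnit_adj hK g.isUnit).mul g.isUnit
    have hhs : UnitaryConj.adj hK (hu.unit : Matrix (Fin n) (Fin n) K) = (hu.unit : Matrix (Fin n) (Fin n) K) := by
      rw [IsUnit.unit_spec, UnitaryConj.adj_mul, UnitaryConj.adj_adj]
    obtain ⟨x, hx, hxc⟩ := UnitaryConj.exists_adj_mul hK hu.unit hhs
    have hcomm : Commute ((A : GL (Fin n) K) : Matrix (Fin n) (Fin n) K) (hu.unit : Matrix (Fin n) (Fin n) K) := by
      rw [IsUnit.unit_spec]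
      set a := ((A : GL (Fin n) K) : Matrix (Fin n) (Fin n) K)
      set b := ((B : GL (Fin n) K) : Matrix (Fin n) (Fin n) K)
      have h1 : UnitaryConj.adj hK a * (Ag * (g : Matrix (Fin n) (Fin n) K)) * a = Ag * (g : Matrix (Fin n) (Fin n) K) := by
        calc _ = UnitaryConj.adj hK ((g : Matrix (Fin n) (Fin n) K) * a) * ((g : Matrix (Fin n) (Fin n) K) * a) := by
              rw [UnitaryConj.adj_mul]; simp only [Ag, mul_assoc]
          _ = _ := by
              rw [hgA', UnitaryConj.adj_mul, mul_assoc, ← mul_assoc (UnitaryConj.adj hK b), hB, one_mul]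
      have h2 : a * UnitaryConj.adj hK a = 1 := mul_eq_one_comm.mp hA
      show a * _ = _ * a
      calc a * (Ag * (g : Matrix (Fin n) (Fin n) K))
          = a * (UnitaryConj.adj hK a * (Ag * (g : Matrix (Fin n) (Fin n) K)) * a) := by rw [h1]
        _ = (a * UnitaryConj.adj hK a) * (Ag * (g : Matrix (Fin n) (Fin n) K)) * a := by simp only [mul_assoc]
        _ = _ := by rw [h2, one_mul]
    have hxA := hxc _ hcomm
    have hU : g * x⁻¹ ∈ Cfsg.GU n K q := by
      rw [UnitaryConj.mem_GU_iff_adj hK, Units.val_mul, UnitaryConj.adj_mul, mul_assoc, ← mul_assoc _ (g : Matrix (Fin n) (Fin n) K),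
        ← IsUnit.unit_spec hu, ← hx, mul_assoc, Units.mul_inv, mul_one, UnitaryConj.adj_inv_mul]
    refine isConj_iff.mpr ⟨⟨g * x⁻¹, hU⟩, Subtype.ext ?_⟩
    show g * x⁻¹ * (A : GL (Fin n) K) * (g * x⁻¹)⁻¹ = (B : GL (Fin n) K)
    have hxA' : (A : GL (Fin n) K) * x = x * (A : GL (Fin n) K) := Units.ext hxA.eq
    calc g * x⁻¹ * (A : GL (Fin n) K) * (g * x⁻¹)⁻¹ = g * (x⁻¹ * ((A : GL (Fin n) K) * x)) * g⁻¹ := by group
      _ = _ := by rw [hxA', inv_mul_cancel_left, hg]

end Cfsg.Agent.S2587
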