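import Cfsg.Statements.S2588
import Cfsg.Agent.EqLemmas
import Cfsg.Agent.Lib.UnitaryConj.Basic

set_option autoImplicit false
open Cfsg

namespace Cfsg.Agent.S2588

/-- An invertible matrix A over the field with q² elements is conjugate in GL_n(q²) to an element of the general unitary group GU_n(q) (isometries of the Hermitian form Σ u_i v_i^q) if and only if A is similar to the inverse transpose of its entrywise q-th power (A ~ A^(−qT), the image of A under the map sending a matrix to the inverse transpose of its entrywise q-th power — inverse transpose composed with the field automorphism — whose fixed points form GU_n(q)). -/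
theorem result {K : Type*} [Field K] [Fintype K] {q n : ℕ} (hK : Fintype.card K = q ^ 2) (A : GL (Fin n) K) : (∃ B : ↥(Cfsg.GU n K q), IsConj A (B : GL (Fin n) K)) ↔ IsConj (A : Matrix (Fin n) (Fin n) K) (((A : Matrix (Fin n) (Fin n) K).map (fun x : K => x ^ q)).transpose)⁻¹ := by
  classical
  have hstar : ((A : Matrix (Fin n) (Fin n) K).map (fun x : K => x ^ q)).transpose
      = UnitaryConj.adj hK (A : Matrix (Fin n) (Fin n) K) := rfl
  rw [hstar]
  have hsu := UnitaryConj.isUnit_adj hK A.isUnit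
  set S := hsu.unit with hS
  have hinv : (UnitaryConj.adj hK (A : Matrix (Fin n) (Fin n) K))⁻¹
      = ((S⁻¹ : GL (Fin n) K) : Matrix (Fin n) (Fin n) K) := by
    rw [Matrix.coe_units_inv, hS, IsUnit.unit_spec]
  rw [hinv]
  constructor
  · rintro ⟨⟨B, hB⟩, hAB⟩
    have hB' := (UnitaryConj.mem_GU_iff_adj hK B).mp hB
    obtain ⟨g, hg⟩ := isConj_iff.mp hAB
    have hgA : g * A = B * g := mul_inv_eq_iff_eq_mul.mp hg
    have hgA' := congrArg Units.val hgA
    simp only [Units.val_mul] at hgA'
    have hsg := UnitaryConj.isUnit_adj hK g.isUnit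
    refine ⟨hsg.unit * g, ?_⟩
    show ((hsg.unit * g : GL (Fin n) K) : Matrix (Fin n) (Fin n) K) * (A : Matrix (Fin n) (Fin n) K) = _ * _
    rw [Units.eq_inv_mul_iff_mul_eq, hS, IsUnit.unit_spec, Units.val_mul, IsUnit.unit_spec]
    calc _ = UnitaryConj.adj hK ((g : Matrix (Fin n) (Fin n) K) * (A : Matrix (Fin n) (Fin n) K)) * ((g : Matrix (Fin n) (Fin n) K) * (A : Matrix (Fin n) (Fin n) K)) := by
          rw [UnitaryConj.adj_mul]; simp only [mul_assoc]
      _ = _ := by
          rw [hgA', UnitaryConj.adj_mul, mul_assoc, ← mul_assoc (UnitaryConj.adj hK (B : Matrix (Fin n) (Fin n) K)), hB', one_mul]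
  · rintro ⟨g, hg⟩
    have hg' : (g : Matrix (Fin n) (Fin n) K) * (A : Matrix (Fin n) (Fin n) K)
        = ((S⁻¹ : GL (Fin n) K) : Matrix (Fin n) (Fin n) K) * (g : Matrix (Fin n) (Fin n) K) := hg
    have hg2 : UnitaryConj.adj hK (A : Matrix (Fin n) (Fin n) K) * g * A = (g : Matrix (Fin n) (Fin n) K) := by
      rw [mul_assoc, hg', ← IsUnit.unit_spec hsu, ← hS, Units.mul_inv_cancel_left]
    obtain ⟨H, hH1, hH2⟩ := UnitaryConj.exists_hermitian_of_similar hK A g hg2
    obtain ⟨P, hP⟩ := UnitaryConj.exists_factor hK H hH1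
    refine ⟨⟨P * A * P⁻¹, ?_⟩, isConj_iff.mpr ⟨P, rfl⟩⟩
    rw [UnitaryConj.mem_GU_iff_adj hK, Units.val_mul, Units.val_mul, UnitaryConj.adj_mul, UnitaryConj.adj_mul]
    set p := (P : Matrix (Fin n) (Fin n) K)
    set pi := ((P⁻¹ : GL (Fin n) K) : Matrix (Fin n) (Fin n) K)
    set a := (A : Matrix (Fin n) (Fin n) K)
    calc _ = UnitaryConj.adj hK pi * (UnitaryConj.adj hK a * (UnitaryConj.adj hK p * p) * a) * pi := by
          simp only [mul_assoc]
      _ = UnitaryConj.adj hK pi * UnitaryConj.adj hK p * (p * pi) := by rw [hP, hH2, ← hP]; simp only [mul_assoc]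
      _ = 1 := by rw [UnitaryConj.adj_inv_mul, Units.mul_inv, one_mul]

end Cfsg.Agent.S2588
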