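import Cfsg.Statements.S0518
import Cfsg.Agent.S2947
import Cfsg.Agent.Lib.JComp.OddCore
-- import your own Cfsg.Agent.* helpers here

set_option autoImplicit false
open Cfsg

namespace Cfsg.Agent.S0518

open Cfsg.Agent.JComp Cfsg.Agent.PLocal

variable {G : Type*} [Group G] [Finite G]

/-- A pair gives a maximal 2-local `S₄` of the subgroup generated by the elements of odd order. -/
theorem side_facts {T K K' : Subgroup G} (p : Pair T K K') (H : Subgroup G)
    (hH : H = Subgroup.closure {g : G | Odd (orderOf g)}) :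
    (K ⊔ T) ⊓ H = K ⊔ dOf K K' ∧ T ⊓ H = dOf K K' ∧
      IsMaximalTwoLocal (((K ⊔ T) ⊓ H).subgroupOf H) ∧
      Nonempty (↥(((K ⊔ T) ⊓ H).subgroupOf H) ≃* Equiv.Perm (Fin 4)) := by
  have : Fact (Nat.Prime 2) := ⟨Nat.prime_two⟩
  set D := dOf K K'
  have hodd : ∀ {K₁ K₂ : Subgroup G}, Pair T K₁ K₂ → K₁ ≤ H := fun q =>
    q.left.comp.1.symm.trans_le (hH ▸ Subgroup.closure_mono fun _ h => h.2)
  have hKH : K ≤ H := hodd p
  have hDH : D ≤ H := sup_le (p.left.w_le_K.trans hKH) (p.right.w_le_K.trans (hodd p.symm))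
  have hTH : T ⊓ H = D := le_antisymm (hH ▸ p.inf_odd_le) (le_inf p.dOf_le_T hDH)
  have hPH : (K ⊔ T) ⊓ H = K ⊔ D := by
    refine le_antisymm (fun g hg => ?_)
      (le_inf (sup_le_sup_left p.dOf_le_T K) (sup_le hKH hDH))
    obtain ⟨k, hk, t, ht, rfl⟩ := p.left.mem_P hg.1
    refine Subgroup.mul_mem_sup hk ?_
    rw [← hTH]
    refine ⟨ht, ?_⟩
    have := mul_mem (inv_mem (hKH hk)) hg.2
    rwa [inv_mul_cancel_left] at this
  have hKT : K ⊓ T = K ⊓ D :=
    le_antisymm (le_inf inf_le_left ((le_inf inf_le_right (inf_le_left.trans hKH)).trans hTH.le))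
      (inf_le_inf_left _ p.dOf_le_T)
  have hKD24 : Nat.card ↥(K ⊔ D) = 24 := by
    have h1 := card_sup_mul_card_inf (H := K) (K := D) (p.dOf_le_T.trans p.left.norm)
    have h2 := card_sup_mul_card_inf (H := K) (K := T) p.left.norm
    rw [← hKT, p.card_dOf] at h1
    rw [p.left.card_P] at h2
    have hpos : 0 < Nat.card ↥(K ⊓ T) := Nat.card_pos
    have hTpos : 0 < Nat.card T := Nat.card_pos
    have h3 : Nat.card K = 3 * Nat.card ↥(K ⊓ T) :=
      Nat.eq_of_mul_eq_mul_right hTpos (by linarith)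
    refine Nat.eq_of_mul_eq_mul_right hpos ?_
    rw [h1, h3]; ring
  obtain ⟨N, hNP, hNzc, hNsup, ⟨e⟩⟩ := p.exists_s4
  -- complements of `zc`
  have hcent : K ⊔ T ≤ Subgroup.centralizer (zc T K : Set G) := sup_le
    (fun k hk => Subgroup.mem_centralizer_iff.mpr fun c hc => (Subgroup.mem_centralizer_iff.mp hc.2 k hk).symm)
    (fun t ht => Subgroup.mem_centralizer_iff.mpr fun c hc => (p.z0_central ht hc.1).symm)
  have hzP : zc T K ≤ K ⊔ T := (inf_le_left.trans (z0_le T)).trans le_sup_right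
  set Z' := (zc T K).subgroupOf (K ⊔ T)
  have hZn : Z'.Normal := (Subgroup.normal_subgroupOf_iff_le_normalizer hzP).2
    (hcent.trans (Subgroup.centralizer_le_normalizer _))
  have hcompl : ∀ U : Subgroup G, U ≤ K ⊔ T → U ⊓ zc T K = ⊥ → Nat.card U = 24 →
      Nonempty (↥(K ⊔ T) ⧸ Z' ≃* ↥U) := by
    intro U hU hUz hU24
    have hc : Subgroup.IsComplement' (U.subgroupOf (K ⊔ T)) Z' := by
      refine Subgroup.isComplement'_of_card_mul_and_disjoint ?_ ?_
      · rw [Nat.card_congr (Subgroup.subgroupOfEquivOfLe hU).toEquiv,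
          Nat.card_congr (Subgroup.subgroupOfEquivOfLe hzP).toEquiv, hU24, p.left.card_P, p.card_T]
        ring
      · rw [disjoint_iff, Subgroup.eq_bot_iff_forall]
        intro x hx
        exact Subtype.ext (Subgroup.mem_bot.mp (hUz ▸ (⟨hx.1, hx.2⟩ : (x : G) ∈ U ⊓ zc T K)))
    exact ⟨hc.QuotientMulEquiv.trans (Subgroup.subgroupOfEquivOfLe hU)⟩
  have hDz : (K ⊔ D) ⊓ zc T K = ⊥ := by
    refine (Subgroup.eq_bot_iff_forall _).mpr fun z hz => ?_
    have hzD : z ∈ D := hTH.le ⟨z0_le T hz.2.1, (hPH.ge hz.1).2⟩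
    exact Subgroup.mem_bot.mp (p.left.zc_inf_w ▸
      ⟨hz.2, p.inf_dOf.le ⟨p.zc_le_q hz.2, hzD⟩⟩)
  have hN24 : Nat.card N = 24 := by
    rw [Nat.card_congr e.toEquiv, Nat.card_perm, Nat.card_fin]; rfl
  obtain ⟨e₁⟩ := hcompl N hNP hNzc hN24
  obtain ⟨e₂⟩ := hcompl (K ⊔ D) (sup_le_sup_left p.dOf_le_T K) hDz hKD24
  -- normalizers in `H`
  have hnorm : ∀ Q : Subgroup H, Subgroup.normalizer (Q : Set H) =
      (Subgroup.normalizer ((Q.map H.subtype : Subgroup G) : Set G)).subgroupOf H := fun Q => by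
    ext x
    rw [Subgroup.mem_subgroupOf, Subgroup.mem_normalizer_iff, Subgroup.mem_normalizer_iff]
    constructor
    · intro h g
      constructor
      · rintro ⟨q, hq, rfl⟩
        exact ⟨x * q * x⁻¹, (h q).mp hq, rfl⟩
      · rintro ⟨q, hq, hqe⟩
        refine ⟨x⁻¹ * q * x, (h _).mpr (by simpa [mul_assoc] using hq), ?_⟩
        show (x : G)⁻¹ * q * x = g
        rw [show (q : G) = x * g * (x : G)⁻¹ from hqe]; group
    · intro h q
      have hm : ∀ z : H, (z : G) ∈ Q.map H.subtype ↔ z ∈ Q := fun z =>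
        ⟨fun ⟨y, hy, he⟩ => Subtype.ext he ▸ hy, fun hz => ⟨z, hz, rfl⟩⟩
      rw [← hm q, ← hm (x * q * x⁻¹)]
      exact h q
  have hWH : Cfsg.wOf K ≤ H := p.left.w_le_K.trans hKH
  have hloc : IsTwoLocal (((K ⊔ T) ⊓ H).subgroupOf H) := by
    refine ⟨(Cfsg.wOf K).subgroupOf H,
      ((elemAb_isPGroup (elemAb_of_sq fun w hw => p.left.w_sq hw))).comap_subtype, ?_, ?_⟩
    · intro h
      exact p.left.wOf_ne_bot (le_bot_iff.mp ((Subgroup.map_subgroupOf_eq_of_le hWH).symm.trans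
        (by rw [h, Subgroup.map_bot])).le)
    · rw [hnorm, Subgroup.map_subgroupOf_eq_of_le hWH, p.normalizer_w, Subgroup.inf_subgroupOf_right]
  refine ⟨hPH, hTH, ⟨hloc, ?_⟩, ⟨((Subgroup.subgroupOfEquivOfLe inf_le_right).trans
    (MulEquiv.subgroupCongr hPH)).trans (e₂.symm.trans (e₁.trans e))⟩⟩
  rintro _ ⟨Q₀, hQ₀, hQ₀1, rfl⟩ hle
  set U := Q₀.map H.subtype with hU
  have hU1 : U ≠ ⊥ := fun h => hQ₀1 ((Subgroup.map_eq_bot_iff_of_injective _ H.subtype_injective).mp h)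
  have hUp : IsPGroup 2 U := hQ₀.map _
  have hUH : U ≤ H := Subgroup.map_subtype_le _
  have hKDU : K ⊔ D ≤ Subgroup.normalizer (U : Set G) := by
    intro g hg
    have hgm : g ∈ (K ⊔ T) ⊓ H := hPH.ge hg
    have := hle (Subgroup.mem_subgroupOf.mpr hgm : (⟨g, hgm.2⟩ : H) ∈ ((K ⊔ T) ⊓ H).subgroupOf H)
    rw [hnorm] at this
    exact this
  -- 2-subgroups normalised by `K ⊔ D` inside it lie in `D`
  have hsmall : ∀ R : Subgroup G, IsPGroup 2 R → R ≤ K ⊔ D → K ⊔ D ≤ Subgroup.normalizer (R : Set G) →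
      R ≤ D := by
    intro R hR hRle hRn
    have h2 : IsPGroup 2 ↥(R ⊔ D) :=
      hR.to_sup_of_normal_left' (p.left.twoGroup.to_le p.dOf_le_T) (le_sup_right.trans hRn)
    have hdvd := Subgroup.card_dvd_of_le (sup_le hRle le_sup_right : R ⊔ D ≤ K ⊔ D)
    obtain ⟨n, hn⟩ := h2.exists_card_eq
    rw [hn, hKD24] at hdvd
    have hle3 : n ≤ 3 := by
      by_contra hc
      have := (Nat.pow_dvd_pow 2 (by omega : 4 ≤ n)).trans hdvd
      norm_num at this
    have := Subgroup.eq_of_le_of_card_ge (le_sup_right : D ≤ R ⊔ D)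
      (by rw [hn, p.card_dOf]; exact (Nat.pow_le_pow_right two_pos hle3).trans (by norm_num))
    exact le_sup_left.trans this.ge
  have hKDW : K ⊔ D ≤ Subgroup.normalizer (Cfsg.wOf K : Set G) :=
    (sup_le_sup_left p.dOf_le_T K).trans p.left.le_normalizer_w
  have hCle : ∀ V : Subgroup G, V ≤ U → V ≤ Subgroup.normalizer (Cfsg.wOf K : Set G) → V ≤ K ⊔ D :=
    fun V hV hV' => hPH ▸ le_inf (hV'.trans p.normalizer_w.le) (hV.trans hUH)
  -- `W ≤ U`
  set C := U ⊓ Subgroup.centralizer (Cfsg.wOf K : Set G) with hC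
  have hCD : C ≤ D := hsmall C (hUp.to_le inf_le_left)
    (hCle C inf_le_left (inf_le_right.trans (Subgroup.centralizer_le_normalizer _)))
    ((le_inf hKDU (hKDW.trans (normalizer_le_normalizer_centralizer _))).trans
      Subgroup.inf_normalizer_le_normalizer_inf)
  have hCW : C ≤ Cfsg.wOf K := fun x hx => p.inf_dOf.le
    ⟨p.left.mem_q.mpr ⟨p.dOf_le_T (hCD hx), fun v hv => Subgroup.mem_centralizer_iff.mp hx.2 v hv⟩, hCD hx⟩
  have hC1 : C ≠ ⊥ := by
    intro hCbot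
    have hWn : Cfsg.wOf K ≤ Subgroup.normalizer (U : Set G) :=
      (p.left.w_le_K.trans le_sup_left).trans hKDU
    have hWp : IsPGroup 2 (Cfsg.wOf K) := elemAb_isPGroup (elemAb_of_sq fun w hw => p.left.w_sq hw)
    set P := U ⊔ Cfsg.wOf K with hP
    have hn : (U.subgroupOf P).Normal := (Subgroup.normal_subgroupOf_iff_le_normalizer le_sup_left).2
      (sup_le Subgroup.le_normalizer hWn)
    have hne : U.subgroupOf P ≠ ⊥ := fun h => hU1 ((Subgroup.map_subgroupOf_eq_of_le le_sup_left).symm.trans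
      (by rw [h, Subgroup.map_bot]))
    obtain ⟨z, hz, hz1⟩ := (Subgroup.bot_or_exists_ne_one _).resolve_left
      (Cfsg.Agent.PGroup.inf_center_ne_bot (hUp.to_sup_of_normal_left' hWp hWn) hne)
    refine hz1 (Subtype.ext (Subgroup.mem_bot.mp (hCbot ▸ ⟨hz.1, Subgroup.mem_centralizer_iff.mpr fun v hv => ?_⟩)))
    exact congrArg Subtype.val (Subgroup.mem_center_iff.1 hz.2 ⟨v, Subgroup.mem_sup_right hv⟩)
  have hWU : Cfsg.wOf K ≤ U := by
    obtain ⟨⟨x, hx⟩, hx1⟩ : ∃ x : C, x ≠ 1 := by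
      have : Nontrivial C := (Subgroup.nontrivial_iff_ne_bot C).mpr hC1
      exact exists_ne 1
    have hx1' : x ≠ 1 := fun e => hx1 (Subtype.ext e)
    intro v hv
    by_cases hv1 : v = 1
    · rw [hv1]; exact one_mem _
    obtain ⟨y, hy, hy3, -, hfp⟩ := p.left.exists_y
    obtain ⟨i, hi⟩ := p.left.exists_pow_conj hy hy3 hfp (hCW hx) hx1' hv hv1
    rw [← hi]
    exact (Subgroup.mem_normalizer_iff.mp (hKDU (Subgroup.mem_sup_left (K.pow_mem hy i))) x).mp hx.1
  -- `U = W`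
  set V := U ⊓ Subgroup.normalizer (Cfsg.wOf K : Set G) with hV
  have hVn : K ⊔ D ≤ Subgroup.normalizer (V : Set G) :=
    (le_inf hKDU (hKDW.trans Subgroup.le_normalizer)).trans Subgroup.inf_normalizer_le_normalizer_inf
  have hVD : V ≤ D := hsmall V (hUp.to_le inf_le_left) (hCle V inf_le_left inf_le_right) hVn
  have hWV : Cfsg.wOf K ≤ V := le_inf hWU Subgroup.le_normalizer
  have hVW : V = Cfsg.wOf K := by
    refine (Subgroup.eq_of_le_of_card_ge hWV ?_).symm
    rw [p.left.comp.2.2.2.2.1]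
    have hd := Subgroup.card_dvd_of_le hVD
    rw [p.card_dOf] at hd
    have h8 : Nat.card V ≠ 8 := fun e8 => by
      have hVeq : V = D := Subgroup.eq_of_le_of_card_ge hVD (by rw [p.card_dOf, e8])
      refine p.dOf_not_le_q (Cfsg.Agent.LargeSub.le_pCoreOf (p.dOf_le_T.trans le_sup_right) ?_
        (p.left.twoGroup.to_le p.dOf_le_T))
      refine sup_le ?_ p.T_le_normalizer_dOf
      show K ≤ Subgroup.normalizer (D : Set G)
      rw [← hVeq]
      exact le_sup_left.trans hVn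
    have hle8 := Nat.le_of_dvd (by norm_num) hd
    interval_cases Nat.card V <;> omega
  have hUW : U = Cfsg.wOf K := by
    rw [← hVW]
    refine (Cfsg.Agent.Isolated.eq_of_normalizer_le hUp inf_le_left fun g hgU hg => ⟨hgU, ?_⟩).symm
    rw [← hV, hVW] at hg
    exact hg
  rw [hnorm, ← hU, hUW, p.normalizer_w, Subgroup.inf_subgroupOf_right]


/-- Let G be a finite group of characteristic 2 type with trivial 2-core in which every 2-local subgroup is solvable
and, for every Sylow 2-subgroup S, the centralizer of the set of central involutions of S lies in the normalizer of S.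
Then either G has a strongly embedded subgroup, or the subgroup generated by the elements of odd order has two distinct
maximal 2-local subgroups, each isomorphic to the symmetric group of degree 4, whose intersection has order 8. -/
theorem result {G : Type*} [Group G] [Finite G]
    (hL : Cfsg.IsCharacteristicTwoType G) (hO : Cfsg.pCore 2 G = ⊥)
    (hN : ∀ N : Subgroup G, Cfsg.IsTwoLocal N → Group.IsSolvable N)
    (hZ : ∀ S : Sylow 2 G,
      Subgroup.centralizer {z : G | z ∈ (S : Subgroup G) ∧ z ^ 2 = 1 ∧ ∀ s ∈ (S : Subgroup G), s * z = z * s} ≤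
        Subgroup.normalizer ((S : Subgroup G) : Set G))
    (H : Subgroup G) (hH : H = Subgroup.closure {g : G | Odd (orderOf g)}) :
    (∃ K : Subgroup G, Cfsg.IsStronglyEmbedded K) ∨
      ∃ M₁ M₂ : Subgroup H, M₁ ≠ M₂ ∧ Cfsg.IsMaximalTwoLocal M₁ ∧ Cfsg.IsMaximalTwoLocal M₂ ∧
        Nonempty (M₁ ≃* Equiv.Perm (Fin 4)) ∧ Nonempty (M₂ ≃* Equiv.Perm (Fin 4)) ∧ Nat.card ↥(M₁ ⊓ M₂) = 8 := by
  have : Fact (Nat.Prime 2) := ⟨Nat.prime_two⟩
  have hZ' : ∀ S : Sylow 2 G, Subgroup.centralizer (Cfsg.omegaCenterOf (S : Subgroup G) : Set G) ≤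
      Subgroup.normalizer ((S : Subgroup G) : Set G) := by
    intro S
    refine le_trans (Subgroup.centralizer_le fun z hz => ?_) (hZ S)
    obtain ⟨h1, h2, h3⟩ := hz
    exact mem_omegaCenterOf.mpr ⟨h1, h3, by rw [← pow_two]; exact h2⟩
  let S : Sylow 2 G := default
  have hS1 : (S : Subgroup G) ≠ ⊥ := Sylow.ne_bot_of_dvd_card S (even_iff_two_dvd.mp hL.1)
  obtain ⟨M, hM, hJM⟩ := exists_maximal_ge
    (N := Subgroup.normalizer (Cfsg.thompsonSubgroupOf 2 (S : Subgroup G) : Set G))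
    ⟨_, S.2.to_le (jOf_le _), jOf_ne_bot S.2 hS1, rfl⟩
  rcases (Cfsg.straddlingTwoSubgroups M).eq_empty_or_nonempty with he | hne
  · exact Or.inl ⟨M, (Cfsg.Agent.S2947.result hL hN hZ' hO S M hM.1 hJM).mpr he⟩
  right
  obtain ⟨T, hT, -⟩ := exists_max_straddle_le S ((jOf_normalized _).trans hJM) hne
  have h : Straddle S M T := ⟨⟨hL, hN, hZ'⟩, hJM, hT⟩
  obtain ⟨K, K₂, p, -, -⟩ := h.exists_pair hO
  obtain ⟨e1, eT, hm1, hi1⟩ := side_facts p H hH
  obtain ⟨e2, -, hm2, hi2⟩ := side_facts p.symm H hH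
  refine ⟨_, _, ?_, hm1, hm2, hi1, hi2, ?_⟩
  · intro he
    have h' := Subgroup.subgroupOf_inj.mp he
    simp only [inf_assoc, inf_idem] at h'
    have hle : K ⊔ T ≤ K₂ ⊔ T := sup_le ((le_inf le_sup_left (p.left.comp.1.symm.trans_le
      (hH ▸ Subgroup.closure_mono fun _ h => h.2))).trans (h'.le.trans inf_le_left)) le_sup_right
    exact p.P_ne (Subgroup.eq_of_le_of_card_ge hle (by rw [p.left.card_P, p.right.card_P]))
  · have : ((K ⊔ T) ⊓ H).subgroupOf H ⊓ ((K₂ ⊔ T) ⊓ H).subgroupOf H = (dOf K K₂).subgroupOf H := by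
      rw [Subgroup.inf_subgroupOf_right, Subgroup.inf_subgroupOf_right, ← eT, Subgroup.inf_subgroupOf_right]
      show Subgroup.comap _ _ ⊓ Subgroup.comap _ _ = Subgroup.comap _ _
      rw [← Subgroup.comap_inf, p.P_inf]
    rw [this, Nat.card_congr (Subgroup.subgroupOfEquivOfLe (eT.ge.trans inf_le_right)).toEquiv, p.card_dOf]

end Cfsg.Agent.S0518
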