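import Cfsg.Statements.S0007
import Cfsg.Agent.Lib.Cores.Fitting

set_option autoImplicit false
open Cfsg

namespace Cfsg.Agent.S0007

/-- Subgroups of coprime index: the intersection has index equal to the product of the indices, and every element is a product of an element of the first subgroup and an element of the second. -/
theorem result {G : Type*} [Group G] [Finite G] (H K : Subgroup G)
    (h : H.index.Coprime K.index) :
    (H ⊓ K).index = H.index * K.index ∧ ∀ g : G, ∃ x ∈ H, ∃ y ∈ K, g = x * y := by
  have h1 : (H ⊓ K).index = H.relIndex K * K.index := by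
    rw [← Subgroup.inf_relIndex_right, Subgroup.relIndex_mul_index inf_le_right]
  have h2 : (H ⊓ K).index = K.relIndex H * H.index := by
    rw [← Subgroup.inf_relIndex_left, Subgroup.relIndex_mul_index inf_le_left]
  have h4 : H.index ∣ H.relIndex K :=
    h.dvd_of_dvd_mul_right ⟨K.relIndex H, by rw [← h1, h2, mul_comm]⟩
  have h5 : H.relIndex K ≤ H.index := by
    rw [← Subgroup.relIndex_top_right]
    exact Subgroup.relIndex_le_of_le_right le_top (by simp [Subgroup.index_ne_zero_of_finite])
  have h6 : H.relIndex K = H.index :=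
    le_antisymm h5 (Nat.le_of_dvd (Nat.pos_of_ne_zero Subgroup.index_ne_zero_of_finite) h4)
  refine ⟨by rw [h1, h6], fun g => ?_⟩
  have hinj : Function.Injective
      (Quotient.lift (fun k : K => ((k : G) : G ⧸ H)) fun a b hab => QuotientGroup.eq.mpr (by
        have := QuotientGroup.leftRel_apply.mp hab
        simpa [Subgroup.mem_subgroupOf] using this) : K ⧸ H.subgroupOf K → G ⧸ H) := by
    rintro ⟨a⟩ ⟨b⟩ hab
    exact QuotientGroup.eq.mpr (Subgroup.mem_subgroupOf.mpr (by
      simpa using QuotientGroup.eq.mp hab))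
  obtain ⟨⟨k⟩, hk⟩ :=
    (hinj.bijective_of_nat_card_le (le_of_eq h6.symm)).2 ((g⁻¹ : G) : G ⧸ H)
  have hm := QuotientGroup.eq.mp hk
  exact ⟨((k : G)⁻¹ * g⁻¹)⁻¹, H.inv_mem hm, (k : G)⁻¹, K.inv_mem k.2, by simp [mul_assoc]⟩

end Cfsg.Agent.S0007
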