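import Cfsg.Statements.S0015
import Cfsg.Agent.Lib.Cores.Fitting

set_option autoImplicit false
open Cfsg

namespace Cfsg.Agent.S0015

/-- In a finite nilpotent group, an abelian normal subgroup that is maximal among abelian normal subgroups equals its own centralizer. -/
theorem result {G : Type*} [Group G] [Finite G] [Group.IsNilpotent G]
    (N : Subgroup G) [N.Normal] [IsMulCommutative N]
    (hmax : ∀ M : Subgroup G, M.Normal → IsMulCommutative M → N ≤ M → M = N) :
    Subgroup.centralizer (N : Set G) = N := by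
  refine le_antisymm ?_ (Subgroup.le_centralizer N)
  by_contra hle
  set C := Subgroup.centralizer (N : Set G) with hC
  have hne : C.map (QuotientGroup.mk' N) ≠ ⊥ := by
    rwa [Ne, Subgroup.map_eq_bot_iff, QuotientGroup.ker_mk']
  have : (C.map (QuotientGroup.mk' N)).Normal :=
    (inferInstance : C.Normal).map _ (QuotientGroup.mk'_surjective N)
  obtain ⟨y, hy, hy1⟩ := Subgroup.ne_bot_iff_exists_ne_one.mp
    (Cfsg.Agent.Cores.inf_center_ne_bot (C.map (QuotientGroup.mk' N)) hne) |> fun ⟨z, hz⟩ =>
      (⟨z.1, z.2, fun h => hz (Subtype.ext h)⟩ : ∃ y, y ∈ C.map (QuotientGroup.mk' N) ⊓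
        Subgroup.center (G ⧸ N) ∧ y ≠ 1)
  obtain ⟨x, hx, rfl⟩ := hy.1
  set M := Subgroup.closure (insert x (N : Set G)) with hM
  have hNM : N ≤ M := fun n hn => Subgroup.subset_closure (Set.mem_insert_of_mem _ hn)
  have hc : ∀ a ∈ insert x (N : Set G), ∀ b ∈ insert x (N : Set G), a * b = b * a := by
    rintro a (rfl | ha) b (rfl | hb)
    · rfl
    · exact (hx b hb).symm
    · exact hx a ha
    · exact setLike_mul_comm ha hb
  have hMcomm : IsMulCommutative M := Subgroup.isMulCommutative_closure hc
  have hMn : M.Normal := by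
    rw [← Subgroup.normalizer_eq_top_iff, eq_top_iff]
    have hxc : ∀ g : G, g * x * g⁻¹ ∈ M := by
      intro g
      have h1 : ((g * x * g⁻¹ * x⁻¹ : G) : G ⧸ N) = 1 := by
        have h2 := Subgroup.mem_center_iff.mp hy.2 (g : G ⧸ N)
        simp only [QuotientGroup.mk'_apply] at h2
        rw [QuotientGroup.mk_mul, QuotientGroup.mk_mul, QuotientGroup.mk_mul, QuotientGroup.mk_inv,
          QuotientGroup.mk_inv, h2, mul_inv_cancel_right, mul_inv_cancel]
      have h3 := M.mul_mem (hNM ((QuotientGroup.eq_one_iff _).mp h1))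
        (Subgroup.subset_closure (Set.mem_insert x (N : Set G)))
      simpa [mul_assoc] using h3
    intro g _
    rw [Subgroup.mem_normalizer_iff]
    have key : ∀ g : G, M ≤ M.comap (MulAut.conj g).toMonoidHom := fun g =>
      (Subgroup.closure_le _).mpr fun a ha => by
        rcases ha with rfl | ha
        · simpa using hxc g
        · simpa using hNM ((inferInstance : N.Normal).conj_mem a ha g)
    refine fun z => ⟨fun hz => key g hz, fun hz => ?_⟩
    have := key g⁻¹ hz
    simpa [mul_assoc] using this
  have hxN : x ∈ N := (hmax M hMn hMcomm hNM) ▸ Subgroup.subset_closure (Set.mem_insert x _)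
  exact hy1 ((QuotientGroup.eq_one_iff x).mpr hxN)

end Cfsg.Agent.S0015
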