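import Cfsg.Statements.S0031
import Cfsg.Agent.EqLemmas

set_option autoImplicit false
open Cfsg

namespace Cfsg.Agent.S0031

/-- A fixed-point-free automorphism of a finite group maps some Sylow p-subgroup to itself. -/
theorem result {G : Type*} [Group G] [Finite G] (φ : G ≃* G)
    (hφ : MonoidHom.FixedPointFree (φ : G →* G)) (p : ℕ) [Fact p.Prime] :
    ∃ P : Sylow p G, (P : Subgroup G).map (φ : G →* G) = P := by
  obtain ⟨P⟩ := (inferInstance : Nonempty (Sylow p G))
  obtain ⟨Q, hQ⟩ : ∃ Q : Sylow p G, (Q : Subgroup G) = (P : Subgroup G).map (φ : G →* G) := by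
    refine ⟨Sylow.ofCard ((P : Subgroup G).map (φ : G →* G)) ?_, rfl⟩
    rw [Subgroup.card_map_of_injective φ.injective]
    exact P.card_eq_multiplicity
  obtain ⟨g, hg⟩ := MulAction.exists_smul_eq G P Q
  obtain ⟨k, hk⟩ := hφ.commutatorMap_surjective g⁻¹
  set h : G := k⁻¹ with hh
  have hk' : k / φ k = g⁻¹ := hk
  have hg' : φ h * g = h := by
    rw [div_eq_mul_inv] at hk'
    rw [← inv_inv g, ← hk', hh, map_inv]
    group
  refine ⟨h • P, ?_⟩
  have key : ∀ (a : G) (R : Sylow p G), ((a • R : Sylow p G) : Subgroup G) =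
      (R : Subgroup G).map (MulAut.conj a).toMonoidHom := fun a R => rfl
  have e1 : (φ : G →* G).comp (MulAut.conj h).toMonoidHom =
      (MulAut.conj (φ h)).toMonoidHom.comp (φ : G →* G) := by
    ext x; simp
  have hP : (Q : Subgroup G) = (P : Subgroup G).map (MulAut.conj g).toMonoidHom := by
    rw [← key, hg]
  rw [key, Subgroup.map_map, e1, ← Subgroup.map_map, ← hQ, hP, Subgroup.map_map]
  congr 1
  ext x
  simp [MonoidHom.comp_apply, MulAut.conj_apply, ← mul_assoc, hg']
  simp [mul_assoc, ← mul_inv_rev, hg']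

end Cfsg.Agent.S0031
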