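import Cfsg.Statements.S0033
import Cfsg.Agent.Lib.FPF.Thompson
set_option linter.style.haveILetI false

set_option autoImplicit false
open Cfsg

namespace Cfsg.Agent.S0033

/-- Thompson's Theorem on fixed-point-free automorphisms: a finite group with an automorphism of prime order fixing only the identity is nilpotent. -/
theorem result {G : Type*} [Group G] [Finite G] (φ : G ≃* G)
    (hφ : MonoidHom.FixedPointFree (φ : G →* G)) (p : ℕ) (hp : p.Prime) (hord : orderOf φ = p) :
    Group.IsNilpotent G := by
  haveI := Fact.mk hp
  let φ' : MulAut G := φ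
  refine Cfsg.Agent.FPF.nilpotent_of_fpf_prime (A := Subgroup.zpowers φ') (p := p)
    (by rw [Nat.card_zpowers]; exact hord) G (Subgroup.zpowers φ').subtype ?_
  intro g hg
  exact hφ g (hg ⟨φ', Subgroup.mem_zpowers _⟩)

end Cfsg.Agent.S0033
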