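import Cfsg.Statements.S0036
import Cfsg.Agent.Lib.Frobenius.Basic

set_option autoImplicit false
open Cfsg

namespace Cfsg.Agent.S0036

/-- When a Frobenius complement contains an involution, an elementary argument shows the Frobenius kernel is closed under multiplication (hence a subgroup). -/
theorem result {G : Type*} [Group G] [Finite G] (H : Subgroup G) (hH : Cfsg.IsFrobeniusComplement H)
    (t : G) (ht : t ∈ H) (ht1 : t ≠ 1) (ht2 : t * t = 1) :
    ∀ x ∈ Cfsg.frobeniusKernel H, ∀ y ∈ Cfsg.frobeniusKernel H, x * y ∈ Cfsg.frobeniusKernel H := by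
  classical
  -- one conjugate of `t` in each conjugate of `H`
  let T : G ⧸ H → G := fun q => q.out * t * q.out⁻¹
  have hTinv : ∀ q, T q * T q = 1 := fun q => by
    simp only [T]
    calc q.out * t * q.out⁻¹ * (q.out * t * q.out⁻¹) = q.out * (t * t) * q.out⁻¹ := by group
      _ = 1 := by rw [ht2]; group
  have hTne : ∀ q, T q ≠ 1 := fun q h => ht1 (conj_eq_one_iff.1 h)
  have hTinj : Function.Injective T := by
    intro q r h
    have := Frobenius.coset_eq_of_mem hH (hTne q) (a := q.out) (b := r.out)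
      (by simp [T, mul_assoc, ht]) (by rw [h]; simp [T, mul_assoc, ht])
    simpa using this
  have key : ∀ q r, T q * T r ∈ Cfsg.frobeniusKernel H := by
    intro q r
    rw [Frobenius.mem_kernel_iff]
    refine or_iff_not_imp_left.2 fun hy g hg => hy ?_
    -- both involutions invert their product, so they lie in the conjugate containing it
    have hq : T q * (T q * T r) * T q = (T q * T r)⁻¹ := by
      rw [← mul_assoc (T q) (T q), hTinv, one_mul, mul_inv_rev, inv_eq_of_mul_eq_one_right (hTinv q),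
        inv_eq_of_mul_eq_one_right (hTinv r)]
    have hqH : g⁻¹ * T q * g ∈ H := by
      refine Frobenius.mem_of_conj_mem hH (x := g⁻¹ * (T q * T r) * g) ?_ hg ?_
      · intro h
        apply hy
        calc T q * T r = g * (g⁻¹ * (T q * T r) * g) * g⁻¹ := by group
          _ = 1 := by rw [h]; group
      · have : (g⁻¹ * T q * g)⁻¹ * (g⁻¹ * (T q * T r) * g) * (g⁻¹ * T q * g)
            = (g⁻¹ * (T q * T r) * g)⁻¹ := by
          rw [mul_inv_rev, mul_inv_rev, inv_inv, inv_eq_of_mul_eq_one_right (hTinv q)]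
          calc g⁻¹ * (T q * g) * (g⁻¹ * (T q * T r) * g) * (g⁻¹ * T q * g)
              = g⁻¹ * (T q * (T q * T r) * T q) * g := by group
            _ = _ := by rw [hq]; group
        rw [this]
        exact H.inv_mem hg
    have hrH : g⁻¹ * T r * g ∈ H := by
      have : g⁻¹ * T r * g = (g⁻¹ * T q * g) * (g⁻¹ * (T q * T r) * g) := by
        calc g⁻¹ * T r * g = g⁻¹ * (T q * T q * T r) * g := by rw [hTinv, one_mul]
          _ = _ := by group
      rw [this]
      exact H.mul_mem hqH hg
    have h1 := Frobenius.coset_eq_of_mem hH (hTne q) (a := q.out) (b := g)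
      (by simp [T, mul_assoc, ht]) hqH
    have h2 := Frobenius.coset_eq_of_mem hH (hTne r) (a := r.out) (b := g)
      (by simp [T, mul_assoc, ht]) hrH
    rw [QuotientGroup.out_eq'] at h1 h2
    rw [h1, ← h2, hTinv]
  have hsurj : ∀ q, ∀ z ∈ Cfsg.frobeniusKernel H, ∃ r, T q * T r = z := by
    intro q z hz
    let f : G ⧸ H → Cfsg.frobeniusKernel H := fun r => ⟨T q * T r, key q r⟩
    have hf : Function.Injective f := fun r s h => hTinj (mul_left_cancel (congrArg Subtype.val h))
    have hb := (Nat.bijective_iff_injective_and_card f).2 ⟨hf, by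
      rw [Frobenius.card_kernel hH]; rfl⟩
    obtain ⟨r, hr⟩ := hb.2 ⟨z, hz⟩
    exact ⟨r, congrArg Subtype.val hr⟩
  intro x hx y hy
  obtain ⟨a, ha⟩ := hsurj ((1 : G) : G ⧸ H) x⁻¹ (Frobenius.inv_mem_kernel hx)
  obtain ⟨b, hb⟩ := hsurj ((1 : G) : G ⧸ H) y hy
  have hx' : x = T a * T ((1 : G) : G ⧸ H) := by
    rw [← inv_inv x, ← ha, mul_inv_rev, inv_eq_of_mul_eq_one_right (hTinv _),
      inv_eq_of_mul_eq_one_right (hTinv _)]
  rw [hx', ← hb, mul_assoc, ← mul_assoc (T ((1 : G) : G ⧸ H)), hTinv, one_mul]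
  exact key a b

end Cfsg.Agent.S0036
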