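import Cfsg.Statements.S0040
import Cfsg.Agent.Lib.Frobenius.Complement
import Cfsg.Agent.Lib.PGroup.UniqueOrderP

set_option autoImplicit false
open Cfsg

namespace Cfsg.Agent.S0040

/-- Sylow subgroups of Frobenius complements: if H complements a nontrivial normal subgroup K and every nonidentity element of H has trivial centraliser in K, then each Sylow subgroup of H is cyclic or isomorphic to a generalized quaternion group. -/
theorem result {G : Type*} [Group G] [Finite G] (K H : Subgroup G) [K.Normal]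
    (hc : Subgroup.IsComplement' K H) (hK : K ≠ ⊥) (hfpf : ∀ h ∈ H, h ≠ 1 → K ⊓ Subgroup.centralizer {h} = ⊥)
    (p : ℕ) [Fact p.Prime] (P : Sylow p H) :
    IsCyclic P ∨ ∃ n : ℕ, Nonempty (P ≃* QuaternionGroup (2 ^ n)) := by
  have h := Frobenius.smallCyclic_of_fpf hK (by rw [Subgroup.normalizer_eq_top]; exact le_top)
    (Frobenius.fpf_iff_inf_centralizer.2 hfpf)
  refine (PGroup.unique_order_p_cases P.isPGroup' fun x y hx hy => ?_).imp id And.right
  rcases eq_or_ne y 1 with rfl | hy1
  · exact one_mem _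
  obtain ⟨i, hi⟩ := Subgroup.mem_zpowers_iff.1 (h.mem_zpowers_of_orderOf_eq P.isPGroup' y.2 x.2
    (by rw [Subgroup.orderOf_coe, orderOf_eq_prime hy hy1]) (by rw [Subgroup.orderOf_coe, hx]))
  exact Subgroup.mem_zpowers_iff.2 ⟨i, Subtype.ext (by simpa using hi)⟩

end Cfsg.Agent.S0040
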