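import Cfsg.Statements.S0053
import Cfsg.Agent.Lib.Solvable.Maximal

set_option autoImplicit false
open Cfsg

namespace Cfsg.Agent.S0053

/-- An abelian minimal normal subgroup N of a finite group is complemented exactly when N is not inside the Frattini subgroup. -/
theorem result {G : Type*} [Group G] [Finite G]
    (N : Subgroup G) [N.Normal] [IsMulCommutative N] (hN : N ≠ ⊥)
    (hmin : ∀ M : Subgroup G, M.Normal → M ≤ N → M = ⊥ ∨ M = N) :
    (∃ H : Subgroup G, Subgroup.IsComplement' N H) ↔ ¬ N ≤ frattini G := by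
  constructor
  · rintro ⟨H, hH⟩ hle
    have htop : H = ⊤ := frattini_nongenerating (top_le_iff.1
      (hH.symm.sup_eq_top.ge.trans (sup_le_sup_left hle H)))
    apply hN
    have := disjoint_iff.1 hH.disjoint
    rwa [htop, inf_top_eq] at this
  · intro hle
    obtain ⟨M, hM, hNM⟩ : ∃ M : Subgroup G, IsCoatom M ∧ ¬ N ≤ M := by
      by_contra hcon
      simp only [not_exists, not_and, not_not] at hcon
      exact hle (le_iInf₂ hcon)
    exact ⟨M, Cfsg.Agent.Solvable.isComplement'_of_minimal_normal_abelian hmin
      (hM.2 _ (left_lt_sup.2 hNM)) hNM⟩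

end Cfsg.Agent.S0053
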