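import Cfsg.Statements.S0060
import Cfsg.Agent.EqLemmas

set_option autoImplicit false
open Pointwise
open Cfsg

namespace Cfsg.Agent.S0060

/-- Brodkey's Theorem: in a finite group with abelian Sylow p-subgroups and no nontrivial normal p-subgroup, some conjugate of a Sylow p-subgroup meets it trivially. -/
theorem result {G : Type*} [Group G] [Finite G] (p : ℕ) [Fact p.Prime]
    (S : Sylow p G) (hS : IsMulCommutative S) (hOp : Cfsg.pCore p G = ⊥) :
    ∃ g : G, (S : Subgroup G) ⊓ MulAut.conj g • (S : Subgroup G) = ⊥ := by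
  classical
  have : Finite (Sylow p G) := inferInstance
  have hab : ∀ P : Sylow p G, ∀ a ∈ (P : Subgroup G), ∀ b ∈ (P : Subgroup G), a * b = b * a := by
    intro P a ha b hb
    obtain ⟨e⟩ : Nonempty (S ≃* P) := ⟨Sylow.equiv S P⟩
    have h := hS.is_comm.comm (e.symm ⟨a, ha⟩) (e.symm ⟨b, hb⟩)
    rw [← map_mul, ← map_mul, e.symm.injective.eq_iff] at h
    exact congrArg Subtype.val h
  obtain ⟨g, hg⟩ := Finite.exists_min (fun g : G => Nat.card ((S : Subgroup G) ⊓ (g • S : Sylow p G) : Subgroup G))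
  set Q := (g • S : Sylow p G) with hQdef
  set D : Subgroup G := (S : Subgroup G) ⊓ Q with hD
  set N := Subgroup.normalizer (D : Set G) with hN
  have hle : ∀ P : Sylow p G, D ≤ P → (P : Subgroup G) ≤ N := by
    intro P hP x hx
    refine Subgroup.mem_normalizer_iff.mpr fun h => ?_
    constructor
    · intro hh
      rw [hab P x hx h (hP hh), mul_inv_cancel_right]
      exact hh
    · intro hh
      have h1 := hab P x hx _ (hP hh)
      have h2 : x * h * x⁻¹ = h := by
        have : x * (x * h * x⁻¹) = x * h := by rw [h1]; group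
        exact mul_left_cancel this
      rwa [h2] at hh
  have hSN : (S : Subgroup G) ≤ N := hle S inf_le_left
  have hQN : (Q : Subgroup G) ≤ N := hle Q inf_le_right
  have hall : ∀ R : Sylow p G, D ≤ R := by
    intro R
    obtain ⟨T, hT⟩ := ((R.2.to_le (inf_le_left : (R : Subgroup G) ⊓ N ≤ _)).comap_of_injective
      N.subtype Subtype.val_injective).exists_le_sylow
    obtain ⟨y, hy⟩ := MulAction.exists_smul_eq N (S.subtype hSN) T
    rw [Sylow.smul_subtype hSN y] at hy
    have h1 : (R : Subgroup G) ⊓ ((y : G) • Q : Sylow p G) ≤ ((y : G) • S : Sylow p G) := by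
      intro x hx
      have hxN : x ∈ N := Sylow.smul_le hQN y hx.2
      have hxT : (⟨x, hxN⟩ : N) ∈ T := hT (show N.subtype ⟨x, hxN⟩ ∈ (R : Subgroup G) ⊓ N from ⟨hx.1, hxN⟩)
      rw [← hy] at hxT
      exact hxT
    have h2 : (R : Subgroup G) ⊓ ((y : G) • Q : Sylow p G) ≤ D := by
      intro x hx
      have a1 : x ∈ (((y : G) • S : Sylow p G) : Subgroup G) := h1 hx
      have a2 : x ∈ (((y : G) • Q : Sylow p G) : Subgroup G) := hx.2
      rw [Sylow.coe_subgroup_smul, Subgroup.mem_pointwise_smul_iff_inv_smul_mem] at a1 a2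
      have hz : (MulAut.conj (y : G))⁻¹ • x ∈ D := ⟨a1, a2⟩
      have hyx := (Subgroup.mem_normalizer_iff.mp y.2 _).mp hz
      simpa [mul_assoc] using hyx
    obtain ⟨k, hk⟩ := MulAction.exists_smul_eq G S R
    have h3 : Nat.card D ≤ Nat.card ((R : Subgroup G) ⊓ ((y : G) • Q : Sylow p G) : Subgroup G) := by
      refine (hg (k⁻¹ * ((y : G) * g))).trans_eq ?_
      rw [← hk]
      have e : ((k • S : Sylow p G) : Subgroup G) ⊓ ((y : G) • Q : Sylow p G)
          = MulAut.conj k • ((S : Subgroup G) ⊓ ((k⁻¹ * ((y : G) * g)) • S : Sylow p G)) := by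
        rw [Subgroup.smul_inf, ← Sylow.coe_subgroup_smul, ← Sylow.coe_subgroup_smul]
        rw [hQdef]
        simp [smul_smul, mul_assoc]
      rw [e]
      exact Nat.card_congr (Subgroup.equivSMul (MulAut.conj k) _).toEquiv
    have h4 := Subgroup.eq_of_le_of_card_ge h2 h3
    exact h4 ▸ inf_le_left
  have hbot : D = ⊥ := by
    have hnc : Subgroup.normalClosure (D : Set G) ≤ S := by
      rw [Subgroup.normalClosure, Subgroup.closure_le]
      intro x hx
      rw [Group.mem_conjugatesOfSet_iff] at hx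
      obtain ⟨d, hd, hdx⟩ := hx
      obtain ⟨c, rfl⟩ := isConj_iff.mp hdx
      have h := hall (c⁻¹ • S) hd
      rw [Sylow.coe_subgroup_smul, Subgroup.mem_pointwise_smul_iff_inv_smul_mem] at h
      simpa [mul_assoc] using SetLike.mem_coe.mpr h
    have hle2 : Subgroup.normalClosure (D : Set G) ≤ Cfsg.pCore p G :=
      le_sSup ⟨Subgroup.normalClosure_normal, S.2.to_le hnc⟩
    rw [hOp] at hle2
    exact le_bot_iff.mp (Subgroup.subset_normalClosure.trans hle2)
  refine ⟨g, ?_⟩
  rw [← Sylow.coe_subgroup_smul]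
  exact hbot

end Cfsg.Agent.S0060
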