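import Cfsg.Statements.S0061
import Cfsg.Agent.Lib.SmallOrders.Intersect

set_option autoImplicit false
open Cfsg

namespace Cfsg.Agent.S0061

universe u

/-- In a simple group of order `p ^ a * q` the group is commutative. -/
theorem comm_of_simple {G : Type u} [Group G] [Finite G] [IsSimpleGroup G] {p q a : ℕ}
    [hp : Fact p.Prime] (hq : q.Prime) (hpq : p ≠ q) (hG : Nat.card G = p ^ a * q) :
    IsMulCommutative G := by
  classical
  by_contra hnc
  have hqf : Fact q.Prime := ⟨hq⟩
  rcases Nat.eq_zero_or_pos a with rfl | ha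
  · have : IsCyclic G := isCyclic_of_prime_card (p := q) (by rw [hG, pow_zero, one_mul])
    exact hnc ⟨⟨fun x y => by
      let _ : CommGroup G := IsCyclic.commGroup
      exact mul_comm x y⟩⟩
  have hpG : p ∣ Nat.card G := hG ▸ (dvd_pow_self p ha.ne').mul_right q
  have hqm : ¬ p ∣ q := fun h => hpq ((Nat.prime_dvd_prime_iff_eq hp.out hq).mp h)
  have hdvdq : ∀ {H : Type u} [Group H] [Finite H], Nat.card H ∣ p ^ a * q →
      Nat.card (Sylow p H) ∣ q := by
    intro H _ _ hH
    obtain ⟨S⟩ := (inferInstance : Nonempty (Sylow p H))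
    have h1 : (S : Subgroup H).index ∣ p ^ a * q := ((S : Subgroup H).index_dvd_card).trans hH
    have h2 : Nat.Coprime (S : Subgroup H).index (p ^ a) :=
      Nat.Coprime.pow_right a (((Nat.Prime.coprime_iff_not_dvd hp.out).mpr S.not_dvd_index).symm)
    exact (S.card_dvd_index).trans (h2.dvd_of_dvd_mul_left h1)
  have hn : Nat.card (Sylow p G) = q :=
    ((Nat.dvd_prime hq).mp (hdvdq hG.dvd)).resolve_left
      (Ne.symm (Nat.ne_of_lt (SmallOrders.one_lt_card_sylow hnc hpG)))
  have hnt : Nontrivial (Sylow p G) :=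
    Finite.one_lt_card_iff_nontrivial.mp (by rw [hn]; exact hq.one_lt)
  obtain ⟨P0, Q0, h0⟩ := exists_pair_ne (Sylow p G)
  have hne : Nonempty {x : Sylow p G × Sylow p G // x.1 ≠ x.2} := ⟨⟨(P0, Q0), h0⟩⟩
  obtain ⟨⟨⟨P, Q⟩, hPQ⟩, hmax⟩ := Finite.exists_max
    (fun x : {x : Sylow p G × Sylow p G // x.1 ≠ x.2} =>
      Nat.card ↥((x.1.1 : Subgroup G) ⊓ (x.1.2 : Subgroup G)))
  have hmax' : ∀ P' Q' : Sylow p G, P' ≠ Q' →
      Nat.card ↥((P' : Subgroup G) ⊓ (Q' : Subgroup G)) ≤
        Nat.card ↥((P : Subgroup G) ⊓ (Q : Subgroup G)) := fun P' Q' h => hmax ⟨(P', Q'), h⟩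
  set D := (P : Subgroup G) ⊓ (Q : Subgroup G) with hD
  by_cases hDb : D = ⊥
  · -- all intersections are trivial
    have hTI : ∀ P' Q' : Sylow p G, P' ≠ Q' → (P' : Subgroup G) ⊓ (Q' : Subgroup G) = ⊥ := by
      intro P' Q' h
      refine Subgroup.eq_bot_of_card_le _ ?_
      have := hmax' P' Q' h
      rwa [hDb, Subgroup.card_bot] at this
    let _ : Fintype G := Fintype.ofFinite G
    let A : Sylow p G → Finset G := fun R => Finset.univ.filter (fun x => x ∈ (R : Subgroup G) ∧ x ≠ 1)
    have hA : ∀ R : Sylow p G, (A R).card = p ^ a - 1 := by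
      intro R
      have h1 : (Finset.univ.filter (fun x : G => x ∈ (R : Subgroup G))).card = p ^ a := by
        rw [← SmallOrders.card_sylow_subgroup hG hqm R, Nat.card_eq_fintype_card, Fintype.card_subtype]
      have h2 : A R = (Finset.univ.filter (fun x : G => x ∈ (R : Subgroup G))).erase 1 := by
        ext x; simp [A, and_comm]
      rw [h2, Finset.card_erase_of_mem (by simp), h1]
    let _ : Fintype (Sylow p G) := Fintype.ofFinite _
    have hdisj : ∀ R ∈ (Finset.univ : Finset (Sylow p G)), ∀ R' ∈ (Finset.univ : Finset (Sylow p G)),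
        R ≠ R' → Disjoint (A R) (A R') := by
      intro R _ R' _ h
      rw [Finset.disjoint_left]
      intro x hx hx'
      simp only [A, Finset.mem_filter] at hx hx'
      have : x ∈ (R : Subgroup G) ⊓ (R' : Subgroup G) := ⟨hx.2.1, hx'.2.1⟩
      rw [hTI R R' h, Subgroup.mem_bot] at this
      exact hx.2.2 this
    set U := (Finset.univ : Finset (Sylow p G)).biUnion A with hU
    have hUc : U.card = q * (p ^ a - 1) := by
      rw [hU, Finset.card_biUnion hdisj, Finset.sum_congr rfl (fun R _ => hA R), Finset.sum_const,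
        Finset.card_univ, ← Nat.card_eq_fintype_card, hn, smul_eq_mul]
    let B : Finset G := Finset.univ.filter (fun x => orderOf x = q)
    have hBU : Disjoint B U := by
      rw [Finset.disjoint_left]
      intro x hx hx'
      simp only [hU, Finset.mem_biUnion, A, Finset.mem_filter] at hx'
      obtain ⟨R, -, -, hxR, -⟩ := hx'
      have hxo : orderOf x = q := (Finset.mem_filter.mp hx).2
      have h1 : orderOf x ∣ p ^ a :=
        SmallOrders.card_sylow_subgroup hG hqm R ▸ Subgroup.orderOf_dvd_natCard _ hxR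
      rw [hxo] at h1
      exact hpq ((Nat.prime_dvd_prime_iff_eq hq hp.out).mp (hq.dvd_of_dvd_pow h1)).symm
    have h1U : (1 : G) ∉ B ∪ U := by
      simp [hU, A, B, hq.one_lt.ne]
    have hle : (B ∪ U).card + 1 ≤ Nat.card G := by
      rw [← Finset.card_insert_of_notMem h1U, Nat.card_eq_fintype_card]
      exact Finset.card_le_univ _
    rw [Finset.card_union_of_disjoint hBU, hUc, hG] at hle
    have hpa : 1 ≤ p ^ a := Nat.one_le_pow _ _ hp.out.pos
    have hBle : B.card ≤ q - 1 := by
      obtain ⟨c, hc⟩ : ∃ c, p ^ a = c + 1 := ⟨p ^ a - 1, by omega⟩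
      rw [hc, Nat.add_sub_cancel] at hle
      rw [add_mul, mul_comm q c] at hle
      omega
    obtain ⟨T⟩ := (inferInstance : Nonempty (Sylow q G))
    have hqp : ¬ q ∣ p ^ a := fun h => hpq ((Nat.prime_dvd_prime_iff_eq hq hp.out).mp (hq.dvd_of_dvd_pow h)).symm
    have hT : Nat.card (T : Subgroup G) = q := by
      rw [SmallOrders.card_sylow_subgroup (e := 1) (by rw [hG, pow_one, mul_comm]) hqp T, pow_one]
    let T' : Finset G := Finset.univ.filter (fun x => x ∈ (T : Subgroup G) ∧ x ≠ 1)
    have hT' : T'.card = q - 1 := by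
      have h2 : T' = (Finset.univ.filter (fun x : G => x ∈ (T : Subgroup G))).erase 1 := by
        ext x; simp [T', and_comm]
      rw [h2, Finset.card_erase_of_mem (by simp), ← Fintype.card_subtype, ← Nat.card_eq_fintype_card, hT]
    have hTB : T' ⊆ B := by
      intro x hx
      simp only [T', Finset.mem_filter] at hx
      have h1 : orderOf x ∣ q := hT ▸ Subgroup.orderOf_dvd_natCard _ hx.2.1
      refine Finset.mem_filter.mpr ⟨Finset.mem_univ _, ((Nat.dvd_prime hq).mp h1).resolve_left ?_⟩
      simpa using hx.2.2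
    have hTB' : T' = B := Finset.eq_of_subset_of_card_le hTB (by omega)
    have hnorm : (T : Subgroup G).Normal := by
      refine ⟨fun x hx g => ?_⟩
      by_cases hx1 : x = 1
      · simp [hx1]
      have hxB : x ∈ B := hTB (Finset.mem_filter.mpr ⟨Finset.mem_univ _, hx, hx1⟩)
      have hsc : SemiconjBy g x (g * x * g⁻¹) := by rw [SemiconjBy]; group
      have hgB : g * x * g⁻¹ ∈ B := Finset.mem_filter.mpr ⟨Finset.mem_univ _, by
        rw [← SemiconjBy.orderOf_eq g hsc]; exact (Finset.mem_filter.mp hxB).2⟩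
      rw [← hTB'] at hgB
      exact (Finset.mem_filter.mp hgB).2.1
    rcases hnorm.eq_bot_or_eq_top with h | h
    · rw [h, Subgroup.card_bot] at hT; exact hq.one_lt.ne hT
    · rw [h, Subgroup.card_top] at hT
      have : IsCyclic G := isCyclic_of_prime_card (p := q) hT
      exact hnc ⟨⟨fun x y => by
        let _ : CommGroup G := IsCyclic.commGroup
        exact mul_comm x y⟩⟩
  · obtain ⟨h1, -, h3⟩ := SmallOrders.normalizer_inter_normalizer P Q hPQ hmax' _ rfl
    set N := Subgroup.normalizer ((D : Subgroup G) : Set G) with hN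
    have hNq : Nat.card (Sylow p N) = q :=
      ((Nat.dvd_prime hq).mp (hdvdq ((Subgroup.card_subgroup_dvd_card N).trans hG.dvd))).resolve_left
        (Ne.symm (Nat.ne_of_lt h1))
    choose f hf hfu using h3
    have hinj : Function.Injective f := by
      intro S T hST
      have e1 := S.is_maximal' ((f S).isPGroup'.comap_subtype (K := N)) (Subgroup.map_le_iff_le_comap.mp (hf S))
      have e2 := T.is_maximal' ((f T).isPGroup'.comap_subtype (K := N)) (Subgroup.map_le_iff_le_comap.mp (hf T))
      exact Sylow.ext (e1.symm.trans (by rw [hST]; exact e2))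
    have hsurj : Function.Surjective f :=
      (Nat.bijective_iff_injective_and_card f).mpr ⟨hinj, by rw [hNq, hn]⟩ |>.2
    have hDnorm : (D.subgroupOf N).Normal := Subgroup.normal_subgroupOf_of_le_normalizer le_rfl
    have hall : ∀ R : Sylow p G, D ≤ (R : Subgroup G) := by
      intro R
      obtain ⟨S, rfl⟩ := hsurj R
      intro x hx
      have hxN : x ∈ N := Subgroup.le_normalizer hx
      have hxS : (⟨x, hxN⟩ : N) ∈ (S : Subgroup N) :=
        @IsPGroup.le_sylow_of_normal p N _ (D.subgroupOf N) hDnorm (P.isPGroup'.to_le inf_le_left).comap_subtype S _ hx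
      exact hf S ⟨_, hxS, rfl⟩
    have hcore : D ≤ (P : Subgroup G).normalCore := by
      intro x hx g
      have h := hall (g⁻¹ • P) hx
      rw [Sylow.coe_subgroup_smul, Subgroup.mem_pointwise_smul_iff_inv_smul_mem] at h
      simpa [mul_assoc] using h
    have hPtop : (P : Subgroup G) ≠ ⊤ := fun h => by
      have hc := SmallOrders.card_sylow_subgroup hG hqm P
      rw [h, Subgroup.card_top, hG] at hc
      have := Nat.one_le_pow a p hp.out.pos
      nlinarith [hq.one_lt]
    rw [SmallOrders.normalCore_eq_bot hPtop, le_bot_iff] at hcore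
    exact hDb hcore

/-- A group of order dividing `p ^ a * q` is solvable. -/
theorem solvable_of_dvd {p q a : ℕ} (hp : p.Prime) (hq : q.Prime) :
    ∀ (n : ℕ) (G : Type u) [Group G] [Finite G], Nat.card G = n → n ∣ p ^ a * q → Group.IsSolvable G := by
  intro n
  induction n using Nat.strong_induction_on with
  | _ n ih =>
    intro G _ _ hn hdvd
    have : Fact p.Prime := ⟨hp⟩
    have hpg : ∀ {r b : ℕ}, r.Prime → n ∣ r ^ b → Group.IsSolvable G := by
      intro r b hr h
      obtain ⟨c, -, hc⟩ := (Nat.dvd_prime_pow hr).mp h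
      have : Fact r.Prime := ⟨hr⟩
      have hP : IsPGroup r G := IsPGroup.of_card (hn.trans hc)
      have := hP.isNilpotent
      infer_instance
    by_cases hpq : p = q
    · exact hpg hp (b := a + 1) (by rw [pow_succ]; exact hpq ▸ hdvd)
    obtain ⟨c, e, hc, he, hnce⟩ := exists_dvd_and_dvd_of_dvd_mul hdvd
    obtain ⟨c', -, rfl⟩ := (Nat.dvd_prime_pow hp).mp hc
    rcases (Nat.dvd_prime hq).mp he with rfl | rfl
    · exact hpg hp (b := c') (by rw [hnce, mul_one])
    by_cases hsimp : ∃ N : Subgroup G, N.Normal ∧ N ≠ ⊥ ∧ N ≠ ⊤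
    · obtain ⟨N, hN, hb, ht⟩ := hsimp
      have h1 := N.index_mul_card
      rw [hn] at h1
      have hN1 : 1 < Nat.card N := N.one_lt_card_iff_ne_bot.mpr hb
      have hN2 : 1 < N.index := N.one_lt_index_of_ne_top ht
      have hsN : Group.IsSolvable N :=
        ih (Nat.card N) (by rw [← h1]; exact lt_mul_left (by omega) hN2) N rfl
          ((Dvd.intro_left _ h1).trans hdvd)
      have hsQ : Group.IsSolvable (G ⧸ N) :=
        ih N.index (by rw [← h1]; exact lt_mul_right (by omega) hN1) (G ⧸ N) N.index_eq_card.symm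
          ((Dvd.intro _ h1).trans hdvd)
      exact (Group.isSolvable_iff_subgroup_quotient N).mpr ⟨hsN, hsQ⟩
    · push Not at hsimp
      have hn1 : 1 < Nat.card G := by
        rw [hn, hnce]
        exact lt_of_lt_of_le hq.one_lt (Nat.le_mul_of_pos_left _ (pow_pos hp.pos _))
      have : Nontrivial G := Finite.one_lt_card_iff_nontrivial.mp hn1
      have : IsSimpleGroup G := ⟨fun N hN => or_iff_not_imp_left.mpr fun hb => hsimp N hN hb⟩
      have hc := comm_of_simple hq hpq (hn.trans hnce)
      let _ : CommGroup G := { ‹Group G› with mul_comm := fun x y => hc.is_comm.comm x y }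
      infer_instance

/-- A finite group whose order is a prime power times a prime is solvable. -/
theorem result {G : Type*} [Group G] [Finite G] (p q m : ℕ) (hp : p.Prime) (hq : q.Prime)
    (hG : Nat.card G = p ^ m * q) : Group.IsSolvable G := by
  exact solvable_of_dvd hp hq _ G rfl (by rw [hG])

end Cfsg.Agent.S0061
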