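import Cfsg.Statements.S0062
import Cfsg.Agent.S0061

set_option autoImplicit false
open Cfsg

namespace Cfsg.Agent.S0062

universe u

/-- The case `q < p`. -/
theorem solvable_aux {G : Type u} [Group G] [Finite G] {p q : ℕ} (hp : p.Prime) (hq : q.Prime)
    (hlt : q < p) (hG : Nat.card G = p ^ 2 * q ^ 2) : Group.IsSolvable G := by
  classical
  have : Fact p.Prime := ⟨hp⟩
  have : Fact q.Prime := ⟨hq⟩
  have hm : ¬ p ∣ q ^ 2 := fun h => by
    have := (Nat.prime_dvd_prime_iff_eq hp hq).mp (hp.dvd_of_dvd_pow h); omega
  obtain ⟨P⟩ := (inferInstance : Nonempty (Sylow p G))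
  have hidx := SmallOrders.index_sylow hG hm P
  have hdvd : Nat.card (Sylow p G) ∣ q ^ 2 := hidx ▸ P.card_dvd_index
  obtain ⟨i, hi, hni⟩ := (Nat.dvd_prime_pow hq).mp hdvd
  have hmod := card_sylow_modEq_one p G
  rw [hni] at hmod
  interval_cases i
  · have : Subsingleton (Sylow p G) :=
      (Finite.card_le_one_iff_subsingleton (α := Sylow p G)).mp (by rw [hni, pow_zero])
    have hPn : (P : Subgroup G).Normal := P.normal_of_subsingleton
    have h1 : Group.IsSolvable (P : Subgroup G) := by
      have := P.isPGroup'.isNilpotent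
      infer_instance
    have h2 : Group.IsSolvable (G ⧸ (P : Subgroup G)) := by
      have hQ : IsPGroup q (G ⧸ (P : Subgroup G)) :=
        IsPGroup.of_card (n := 2) (by rw [← Subgroup.index_eq_card, hidx])
      have := hQ.isNilpotent
      infer_instance
    exact (Group.isSolvable_iff_subgroup_quotient (P : Subgroup G)).mpr ⟨h1, h2⟩
  · exfalso
    rw [pow_one] at hmod
    have := hmod
    rw [Nat.ModEq, Nat.mod_eq_of_lt hlt, Nat.mod_eq_of_lt hp.one_lt] at this
    exact hq.one_lt.ne' this
  · have hd : p ∣ (q + 1) * (q - 1) := by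
      have h1 : p ∣ q ^ 2 - 1 := (Nat.modEq_iff_dvd' (Nat.one_le_pow _ _ hq.pos)).mp hmod.symm
      rwa [← one_pow 2, Nat.sq_sub_sq] at h1
    have hp1 : p ∣ q + 1 := (hp.dvd_mul.mp hd).resolve_right fun h => by
      have := Nat.le_of_dvd (by have := hq.two_le; omega) h; omega
    have hpe : p = q + 1 := by
      have := Nat.le_of_dvd (by omega) hp1; omega
    have hq2 : q = 2 := by
      by_contra hne
      have ho := hq.odd_of_ne_two hne
      have : Even p := hpe ▸ ho.add_one
      have := (hp.even_iff).mp this
      have := hq.two_le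
      omega
    subst hq2
    obtain rfl : p = 3 := hpe
    let f : G →* Equiv.Perm (Sylow 3 G) := MulAction.toPermHom G (Sylow 3 G)
    have hf : Nat.card f.range ∣ 24 := by
      have h := Subgroup.card_subgroup_dvd_card f.range
      rwa [Nat.card_perm, hni] at h
    have hf2 : Nat.card f.range ∣ 36 := by
      have h := Subgroup.card_range_dvd f
      rwa [hG] at h
    have hker4 : 4 ∣ f.ker.index := by
      have : f.ker ≤ Subgroup.normalizer (P : Set G) := by
        intro g hg
        rw [← Sylow.smul_eq_iff_mem_normalizer]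
        exact congrArg (fun σ : Equiv.Perm (Sylow 3 G) => σ P) hg
      have h := Subgroup.index_dvd_of_le this
      rwa [← P.card_eq_index_normalizer, hni] at h
    rw [Subgroup.index_ker] at hker4
    have hQ : Group.IsSolvable (G ⧸ f.ker) := by
      refine S0061.solvable_of_dvd (p := 2) (q := 3) (a := 2) Nat.prime_two Nat.prime_three _ _ rfl ?_
      rw [← Subgroup.index_eq_card, Subgroup.index_ker]
      have := Nat.dvd_gcd hf hf2
      exact this
    have hK : IsPGroup 3 f.ker := by
      have h := f.ker.index_mul_card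
      rw [hG, Subgroup.index_ker] at h
      obtain ⟨c, hc⟩ := hker4
      rw [hc] at h
      have hd : Nat.card f.ker ∣ 3 ^ 2 := ⟨c, by nlinarith⟩
      obtain ⟨b, -, hb⟩ := (Nat.dvd_prime_pow Nat.prime_three).mp hd
      exact IsPGroup.of_card hb
    have hKs : Group.IsSolvable f.ker := by
      have := hK.isNilpotent
      infer_instance
    exact (Group.isSolvable_iff_subgroup_quotient f.ker).mpr ⟨hKs, hQ⟩

/-- A finite group of order p^2 * q^2 with p and q prime is solvable. -/
theorem result {G : Type*} [Group G] [Finite G] (p q : ℕ) (hp : p.Prime) (hq : q.Prime)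
    (hG : Nat.card G = p ^ 2 * q ^ 2) : Group.IsSolvable G := by
  rcases lt_trichotomy q p with h | h | h
  · exact solvable_aux hp hq h hG
  · subst h
    have : Fact q.Prime := ⟨hq⟩
    have hP : IsPGroup q G := IsPGroup.of_card (n := 4) (by rw [hG]; ring)
    have := hP.isNilpotent
    infer_instance
  · exact solvable_aux hq hp h (by rw [hG, mul_comm])

end Cfsg.Agent.S0062
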