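import Cfsg.Statements.S0063
import Cfsg.Agent.EqLemmas

set_option autoImplicit false
open Cfsg

namespace Cfsg.Agent.S0063

theorem class_le_one {G : Type*} [Group G] (hc : ∀ a b : G, a * b = b * a) :
    Group.nilpotencyClass G ≤ 1 :=
  @CommGroup.nilpotencyClass_le_one G { (inferInstance : Group G) with mul_comm := hc }

/-- Induction: class at most `max (m-1) 1`. -/
theorem class_le : ∀ (n : ℕ) (G : Type*) [Group G] [Finite G] (p : ℕ) [Fact p.Prime] (m : ℕ),
    m ≤ n → Nat.card G = p ^ m → Group.nilpotencyClass G ≤ max (m - 1) 1 := by
  intro n
  induction n with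
  | zero =>
    intro G _ _ p _ m hm hG
    have : Subsingleton G := (Nat.card_eq_one_iff_unique.mp (by
      rw [hG, Nat.le_zero.mp hm, pow_zero])).1
    exact (class_le_one fun a b => Subsingleton.elim _ _).trans (le_max_right _ _)
  | succ n ih =>
    intro G _ _ p hp m hm hG
    have hP : IsPGroup p G := IsPGroup.of_card hG
    have := hP.isNilpotent
    rcases Nat.eq_zero_or_pos m with h0 | hpos
    · exact ih G p m (by omega) hG
    have : Nontrivial G := by
      rw [← Finite.one_lt_card_iff_nontrivial, hG]
      exact Nat.one_lt_pow hpos.ne' hp.out.one_lt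
    have := hP.center_nontrivial
    obtain ⟨k, hk⟩ := IsPGroup.iff_card.mp (hP.to_quotient (Subgroup.center G))
    have hkm : k < m := by
      by_contra hcon
      push Not at hcon
      have h1 := Subgroup.card_eq_card_quotient_mul_card_subgroup (Subgroup.center G)
      rw [hG, hk] at h1
      have h2 : 1 < Nat.card (Subgroup.center G) := Finite.one_lt_card
      have h3 : p ^ m ≤ p ^ k := Nat.pow_le_pow_right hp.out.pos hcon
      have h4 : p ^ k < p ^ k * Nat.card (Subgroup.center G) :=
        lt_mul_of_one_lt_right (pow_pos hp.out.pos k) h2
      omega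
    rcases le_or_gt k 1 with hk1 | hk1
    · have : IsCyclic (G ⧸ Subgroup.center G) := by
        interval_cases k
        · have : Subsingleton (G ⧸ Subgroup.center G) :=
            (Nat.card_eq_one_iff_unique.mp (by simpa using hk)).1
          infer_instance
        · exact isCyclic_of_prime_card (p := p) (by simpa using hk)
      refine (class_le_one fun a b => ?_).trans (le_max_right _ _)
      exact commutative_of_cyclic_center_quotient (QuotientGroup.mk' (Subgroup.center G))
        (by rw [QuotientGroup.ker_mk']) a b
    · have h1 := ih (G ⧸ Subgroup.center G) p k (by omega) hk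
      rw [Group.nilpotencyClass_eq_quotient_center_plus_one]
      omega

/-- A finite group of prime-power order p ^ m with m > 1 is nilpotent of class at most m - 1. -/
theorem result {G : Type*} [Group G] [Finite G] (p m : ℕ) [Fact p.Prime]
    (hG : Nat.card G = p ^ m) (hm : 1 < m) : Group.nilpotencyClass G ≤ m - 1 :=
  (class_le m G p m le_rfl hG).trans (by omega)

end Cfsg.Agent.S0063
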