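import Cfsg.Statements.S0064
import Cfsg.Agent.Lib.Cores.Subnormal

set_option autoImplicit false
open Cfsg
open scoped Pointwise

namespace Cfsg.Agent.S0064

/-- A finite group is nilpotent exactly when each of its subgroups is subnormal. -/
theorem result {G : Type*} [Group G] [Finite G] :
    Group.IsNilpotent G ↔ ∀ H : Subgroup G, H.IsSubnormal := by
  refine ⟨fun h H => Cfsg.Agent.Cores.isSubnormal_of_nilpotent H, fun h => ?_⟩
  refine ((Group.isNilpotent_of_finite_tfae (G := G)).out 0 2).mpr fun M hM => ?_
  obtain rfl | ⟨K, hK, hMK, hKt⟩ := (h M).lt_normal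
  · infer_instance
  · rwa [(hM.le_iff.mp hMK).resolve_left hKt.ne] at hK

end Cfsg.Agent.S0064
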