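import Cfsg.Statements.S0073
import Cfsg.Agent.Lib.SmallOrders.Basic

set_option autoImplicit false
open Cfsg

namespace Cfsg.Agent.S0073

/-- For a finite non-abelian simple group, either the cube of the least prime divisor of the order divides the order, or 12 does. -/
theorem result {G : Type*} [Group G] [Finite G] [IsSimpleGroup G] (hG : ∃ x y : G, x * y ≠ y * x) : (Nat.card G).minFac ^ 3 ∣ Nat.card G ∨ 12 ∣ Nat.card G := by
  have hnc : ¬ IsMulCommutative G := fun hc => by
    obtain ⟨x, y, hxy⟩ := hG
    exact hxy (mul_comm' x y)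
  by_contra hcon
  rw [not_or] at hcon
  obtain ⟨h3, h12⟩ := hcon
  have hn1 : Nat.card G ≠ 1 := (Finite.one_lt_card (α := G)).ne'
  set p := (Nat.card G).minFac with hpdef
  have hp : p.Prime := Nat.minFac_prime hn1
  have := Fact.mk hp
  have hdvd : p ∣ Nat.card G := Nat.minFac_dvd _
  obtain ⟨P⟩ := (inferInstance : Nonempty (Sylow p G))
  set e := (Nat.card G).factorization p
  have hfac : Nat.card G = p ^ e * (Nat.card G / p ^ e) :=
    (Nat.mul_div_cancel' (Nat.ordProj_dvd _ p)).symm
  have hm : ¬ p ∣ Nat.card G / p ^ e := Nat.not_dvd_ordCompl hp Nat.card_pos.ne'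
  have he1 : 1 ≤ e := (hp.dvd_iff_one_le_factorization Nat.card_pos.ne').mp hdvd
  have he2 : e ≤ 2 := by
    by_contra h
    exact h3 ((pow_dvd_pow p (by omega : 3 ≤ e)).trans (Nat.ordProj_dvd _ p))
  have hcard := SmallOrders.card_sylow_subgroup hfac hm P
  have hab : IsMulCommutative (P : Subgroup G) := by
    rcases (show e = 1 ∨ e = 2 by omega) with h | h
    · have := isCyclic_of_prime_card (p := p) (α := (P : Subgroup G))
        (by rw [hcard, h, pow_one])
      infer_instance
    · exact IsPGroup.isMulCommutative_of_card_eq_prime_sq (by rw [hcard, h])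
  obtain ⟨q, i, hq, hqm, hi, hie, hqi⟩ :=
    SmallOrders.exists_prime_dvd_normalizer hnc (by omega) hfac hm P hab
  have hqdvd : q ∣ Nat.card G / p ^ e := (dvd_mul_right q _).trans hqm
  have hqG : q ∣ Nat.card G := hqdvd.trans (Nat.div_dvd_of_dvd (Nat.ordProj_dvd _ p))
  have hpq : p < q := lt_of_le_of_ne (Nat.minFac_le_of_dvd hq.two_le hqG)
    fun h => hm (h ▸ hqdvd)
  have h2 := hp.two_le
  rcases (show i = 1 ∨ i = 2 by omega) with rfl | rfl
  · rw [pow_one] at hqi
    have := Nat.le_of_dvd (by omega) hqi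
    omega
  · have hprod : p ^ 2 - 1 = (p + 1) * (p - 1) := by
      have := Nat.sq_sub_sq p 1
      rwa [one_pow] at this
    rw [hprod] at hqi
    rcases hq.dvd_mul.mp hqi with h | h
    · have hle := Nat.le_of_dvd (by omega) h
      have hq1 : q = p + 1 := by omega
      have hp2 : p = 2 := by
        by_contra hp2
        have ho := hp.odd_of_ne_two hp2
        have hqo := hq.odd_of_ne_two (by omega)
        rw [hq1] at hqo
        obtain ⟨a, ha⟩ := ho
        obtain ⟨b, hb⟩ := hqo
        omega
      apply h12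
      have h4 : p ^ e * q ∣ Nat.card G := hfac ▸ Nat.mul_dvd_mul_left _ hqdvd
      rwa [hq1, hp2, show e = 2 by omega] at h4
    · have := Nat.le_of_dvd (by omega) h
      omega

end Cfsg.Agent.S0073
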