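import Cfsg.Statements.S0078
import Cfsg.Agent.Lib.Transfer.Criteria

set_option autoImplicit false
open Cfsg

namespace Cfsg.Agent.S0078

/-- In a p-normal group, a Sylow p-subgroup P meets O^p(G) exactly where it meets O^p(V), for any subgroup V containing the normalizer of the centre of P. -/
theorem result {G : Type*} [Group G] [Finite G] {p : ℕ} [Fact p.Prime] (P : Sylow p G) (hn : ∀ Q : Sylow p G, (P : Subgroup G) ⊓ Subgroup.centralizer (P : Set G) ≤ (Q : Subgroup G) → (Q : Subgroup G) ⊓ Subgroup.centralizer (Q : Set G) = (P : Subgroup G) ⊓ Subgroup.centralizer (P : Set G)) (V : Subgroup G) (hV : Subgroup.normalizer (((P : Subgroup G) ⊓ Subgroup.centralizer (P : Set G) : Subgroup G) : Set G) ≤ V) : (P : Subgroup G) ⊓ Cfsg.pResidual p G = (P : Subgroup G) ⊓ (Cfsg.pResidual p V).map V.subtype := by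
  set Z := (P : Subgroup G) ⊓ Subgroup.centralizer (P : Set G)
  have hW : Cfsg.IsWeaklyClosed Z (P : Subgroup G) := by
    refine ⟨inf_le_left, fun g hg => ?_⟩
    have hR : Z ≤ ((g⁻¹ • P : Sylow p G) : Subgroup G) := by
      intro z hz
      rw [Transfer.sylow_coe_smul, Transfer.mem_map_conj_iff, inv_inv]
      exact hg ⟨z, hz, rfl⟩
    have heq := hn _ hR
    have h2 : Z.map (MulAut.conj g⁻¹).toMonoidHom ≤ Z := by
      rintro _ ⟨z, hz, rfl⟩
      refine heq.le ⟨⟨z, hz.1, rfl⟩, Subgroup.mem_centralizer_iff.mpr ?_⟩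
      rintro _ ⟨x, hx, rfl⟩
      exact ((MulAut.conj g⁻¹).toMonoidHom.map_mul x z).symm.trans
        ((congrArg _ (Subgroup.mem_centralizer_iff.mp hz.2 x hx)).trans
          ((MulAut.conj g⁻¹).toMonoidHom.map_mul z x))
    refine Transfer.map_conj_eq_iff_mem_normalizer.mpr ?_
    rw [← inv_mem_iff, ← Transfer.map_conj_eq_iff_mem_normalizer]
    exact Subgroup.eq_of_le_of_card_ge h2 (Transfer.card_map_conj Z g⁻¹).ge
  have hZc : Z ≤ Subgroup.centralizer (P : Set G) := inf_le_right
  have hPN := Transfer.le_normalizer_of_le_centralizer (Z := Z) (P := (P : Subgroup G)) hZc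
  refine Transfer.tate_sylow P V (hPN.trans hV) ?_
  rw [Transfer.commutator_inf_eq_of_control P _ hPN (Transfer.weaklyClosed_central_control P hZc hW)]
  exact inf_le_left.trans (Subgroup.commutator_mono hV hV)

end Cfsg.Agent.S0078
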