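import Cfsg.Statements.S0079
import Cfsg.Agent.Lib.Transfer.NilpotentHall

set_option autoImplicit false
open Cfsg

namespace Cfsg.Agent.S0079

/-- A nilpotent Hall subgroup has a normal complement exactly when elements of it that are conjugate in the whole group are already conjugate inside it. -/
theorem result {G : Type*} [Group G] [Finite G] (H : Subgroup G) (hH : Group.IsNilpotent H) (hHall : Nat.Coprime (Nat.card H) H.index) : (∃ N : Subgroup G, N.Normal ∧ N.IsComplement' H) ↔ ∀ x ∈ H, ∀ y ∈ H, (∃ g : G, g * x * g⁻¹ = y) → ∃ h ∈ H, h * x * h⁻¹ = y := by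
  constructor
  · rintro ⟨N, hN, hc⟩ x hx y hy ⟨g, hg⟩
    obtain ⟨h, hh, n, hn, rfl⟩ := Subgroup.mem_sup_of_normal_right.mp
      (hc.symm.sup_eq_top.symm ▸ Subgroup.mem_top g)
    refine ⟨h, hh, ?_⟩
    have h1 : n * x * n⁻¹ * x⁻¹ ∈ N := by
      rw [show n * x * n⁻¹ * x⁻¹ = n * (x * n⁻¹ * x⁻¹) by group]
      exact N.mul_mem hn (hN.conj_mem _ (N.inv_mem hn) x)
    have h2 : n * x * n⁻¹ * x⁻¹ ∈ H := by
      have h3 : n * x * n⁻¹ = h⁻¹ * y * h := by rw [← hg]; group
      rw [h3]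
      exact H.mul_mem (H.mul_mem (H.mul_mem (H.inv_mem hh) hy) hh) (H.inv_mem hx)
    have h4 := mul_inv_eq_one.mp (Subgroup.mem_bot.mp (hc.disjoint.le_bot ⟨h1, h2⟩))
    rw [← hg, show h * n * x * (h * n)⁻¹ = h * (n * x * n⁻¹) * h⁻¹ by group, h4]
  · intro hfus
    exact Transfer.exists_normal_complement_of_no_fusion H hHall fun x hx g hg =>
      hfus x hx _ hg ⟨g, rfl⟩

end Cfsg.Agent.S0079
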