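import Cfsg.Statements.S0083
import Cfsg.Agent.Lib.Transfer.Criteria

set_option autoImplicit false
open Cfsg

namespace Cfsg.Agent.S0083

/-- For an abelian Sylow p-subgroup P, a normal p-complement exists exactly when the normalizer of P is an internal direct product of P with some subgroup. -/
theorem result {G : Type*} [Group G] [Finite G] {p : ℕ} [Fact p.Prime] (P : Sylow p G) (hP : IsMulCommutative P) : Cfsg.HasNormalPComplement p G ↔ ∃ Q : Subgroup G, Q ≤ Subgroup.centralizer (P : Set G) ∧ Q ⊓ (P : Subgroup G) = ⊥ ∧ Q ⊔ (P : Subgroup G) = Subgroup.normalizer (P : Set G) := by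
  constructor
  · intro h
    refine ⟨Cfsg.pResidual p G ⊓ Subgroup.normalizer (P : Set G), fun g hg => ?_, ?_, ?_⟩
    · exact Transfer.mem_centralizer_of_coprime h P.2 hg.2 ((Transfer.mem_pResidual_iff h g).mp hg.1)
    · rw [inf_comm, ← inf_assoc, (Transfer.hasNormalPComplement_iff_inf_eq_bot P).mp h, bot_inf_eq]
    · refine le_antisymm (sup_le inf_le_right P.le_normalizer) fun n hn => ?_
      obtain ⟨x, hx, u, hu, rfl⟩ := Subgroup.mem_sup_of_normal_right.mp
        ((Transfer.sylow_sup_eq_top P).symm ▸ Subgroup.mem_top n)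
      have hu' : u ∈ Subgroup.normalizer (P : Set G) := by
        simpa using mul_mem (inv_mem (P.le_normalizer hx)) hn
      exact mul_mem (Subgroup.mem_sup_right hx) (Subgroup.mem_sup_left ⟨hu, hu'⟩)
  · rintro ⟨Q, hQ, -, hsup⟩
    refine Transfer.hasNormalPComplement_of_normalizer_le_centralizer P (hsup.symm.le.trans (sup_le hQ ?_))
    exact fun x hx => Subgroup.mem_centralizer_iff.mpr fun y hy =>
      congrArg Subtype.val (mul_comm' (⟨y, hy⟩ : (P : Subgroup G)) ⟨x, hx⟩)

end Cfsg.Agent.S0083
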