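import Cfsg.Statements.S0084
import Cfsg.Agent.Lib.Transfer.Criteria

set_option autoImplicit false
open Cfsg

namespace Cfsg.Agent.S0084

/-- A group whose Sylow 2-subgroups are Klein four-groups and whose order is prime to 3 has a normal 2-complement. -/
theorem result {G : Type*} [Group G] [Finite G] (T : Sylow 2 G) (hT : IsKleinFour T) (h3 : ¬ 3 ∣ Nat.card G) : Cfsg.HasNormalPComplement 2 G := by
  have : IsMulCommutative (T : Subgroup G) := ⟨⟨fun a b => mul_comm_of_exponent_two hT.exponent_two a b⟩⟩
  refine Transfer.hasNormalPComplement_of_normalizer_le_centralizer T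
    (Transfer.normalizer_le_centralizer_of_primePow T fun q hq hq2 hqG y hy ⟨k, hk⟩ => ?_)
  have := Fact.mk hq
  obtain ⟨C, hC, h1, -, hmod⟩ := Transfer.card_fixed_modEq (T : Subgroup G) hy hk
  have h4 : Nat.card (T : Subgroup G) = 4 := hT.card_four
  have hd := Subgroup.card_dvd_of_le hC
  rw [h4] at hd hmod
  have hle : Nat.card C ≤ 4 := Nat.le_of_dvd (by norm_num) hd
  have hq3 : q ≠ 3 := fun h => h3 (h ▸ hqG)
  have hcard : Nat.card C = 4 := by
    have hdvd := (Nat.modEq_iff_dvd' hle).mp hmod.symm
    have hqle : Nat.card C = 4 ∨ q ≤ 3 := by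
      by_cases h : Nat.card C = 4
      · exact Or.inl h
      · right
        have := Nat.le_of_dvd (by omega) hdvd
        have := Nat.card_pos (α := C)
        omega
    rcases hqle with h | h
    · exact h
    · have := hq.two_le
      omega
  refine Subgroup.mem_centralizer_iff.mpr fun x hx => ?_
  have hCT : C = (T : Subgroup G) := Subgroup.eq_of_le_of_card_ge hC (by rw [h4, hcard])
  exact (mul_inv_eq_iff_eq_mul.mp (h1 x (hCT.symm.le hx))).symm

end Cfsg.Agent.S0084
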