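import Cfsg.Statements.S0085
import Cfsg.Agent.Lib.Transfer.Criteria

set_option autoImplicit false
open Cfsg

namespace Cfsg.Agent.S0085

/-- A group whose Sylow 2-subgroups are elementary abelian of order 8 and whose order is prime to 3 and to 7 has a normal 2-complement. -/
theorem result {G : Type*} [Group G] [Finite G] (T : Sylow 2 G) (h8 : Nat.card T = 8) (he : ∀ x : T, x * x = 1) (h3 : ¬ 3 ∣ Nat.card G) (h7 : ¬ 7 ∣ Nat.card G) : Cfsg.HasNormalPComplement 2 G := by
  have : IsMulCommutative (T : Subgroup G) := ⟨⟨fun a b => by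
    have hinv : ∀ z : (T : Subgroup G), z⁻¹ = z := fun z => inv_eq_of_mul_eq_one_right (he z)
    calc a * b = (a * b)⁻¹ := (hinv _).symm
      _ = b⁻¹ * a⁻¹ := mul_inv_rev a b
      _ = b * a := by rw [hinv, hinv]⟩⟩
  refine Transfer.hasNormalPComplement_of_normalizer_le_centralizer T
    (Transfer.normalizer_le_centralizer_of_primePow T fun q hq hq2 hqG y hy ⟨k, hk⟩ => ?_)
  have := Fact.mk hq
  obtain ⟨C, hC, h1, -, hmod⟩ := Transfer.card_fixed_modEq (T : Subgroup G) hy hk
  have hd := Subgroup.card_dvd_of_le hC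
  change Nat.card (T : Subgroup G) = 8 at h8
  rw [h8] at hd hmod
  have hle : Nat.card C ≤ 8 := Nat.le_of_dvd (by norm_num) hd
  have hcard : Nat.card C = 8 := by
    have hdvd := (Nat.modEq_iff_dvd' hle).mp hmod.symm
    by_contra hne
    have hq8 := Nat.le_of_dvd (by omega) hdvd
    have hpos := Nat.card_pos (α := C)
    have hq3 : q ≠ 3 := fun h => h3 (h ▸ hqG)
    have hq7 : q ≠ 7 := fun h => h7 (h ▸ hqG)
    have hq_le : q ≤ 7 := by omega
    have hc_mem : Nat.card C ∈ Nat.divisors 8 := Nat.mem_divisors.mpr ⟨hd, by norm_num⟩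
    rw [show Nat.divisors 8 = {1, 2, 4, 8} by rfl] at hc_mem
    simp only [Finset.mem_insert, Finset.mem_singleton] at hc_mem
    rcases hc_mem with h | h | h | h <;> rw [h] at hdvd <;>
      interval_cases q <;> first | omega | norm_num at hq
  refine Subgroup.mem_centralizer_iff.mpr fun x hx => ?_
  have hCT : C = (T : Subgroup G) := Subgroup.eq_of_le_of_card_ge hC (by rw [h8, hcard])
  exact (mul_inv_eq_iff_eq_mul.mp (h1 x (hCT.symm.le hx))).symm

end Cfsg.Agent.S0085
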