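import Cfsg.Statements.S0091
import Cfsg.Agent.Lib.Transfer.Focal

set_option autoImplicit false
open Cfsg

namespace Cfsg.Agent.S0091

/-- If a nontrivial Sylow p-subgroup controls its own fusion then it is not contained in the derived subgroup. -/
theorem result {G : Type*} [Group G] [Finite G] {p : ℕ} [Fact p.Prime] (P : Sylow p G) (hp : p ∣ Nat.card G) (h : ∀ x ∈ P, ∀ y ∈ P, (∃ g : G, g * x * g⁻¹ = y) → ∃ z ∈ P, z * x * z⁻¹ = y) : ¬ (P : Subgroup G) ≤ commutator G := by
  intro hle
  have h0 : commutator G ⊓ (P : Subgroup G) = ⁅(P : Subgroup G), (P : Subgroup G)⁆ :=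
    Transfer.commutator_inf_eq_of_self_control P fun x hx g hg => by
      obtain ⟨z, hz, he⟩ := h x hx (g * x * g⁻¹) hg ⟨g, rfl⟩
      exact ⟨z, hz, he⟩
  rw [inf_eq_right.mpr hle] at h0
  have : Nontrivial (P : Subgroup G) :=
    (Subgroup.nontrivial_iff_ne_bot _).mpr (P.ne_bot_of_dvd_card hp)
  have : Group.IsNilpotent (P : Subgroup G) := P.2.isNilpotent
  refine (Group.IsSolvable.commutator_lt_top_of_nontrivial (P : Subgroup G)).ne ?_
  apply Subgroup.map_injective (P : Subgroup G).subtype_injective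
  rw [Subgroup.map_subtype_commutator, ← MonoidHom.range_eq_map, Subgroup.range_subtype]
  exact h0.symm

end Cfsg.Agent.S0091
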