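import Cfsg.Statements.S0092
import Cfsg.Agent.Lib.Transfer.AbelianHall
import Cfsg.Agent.Lib.Transfer.Alperin
import Cfsg.Agent.Lib.Solvable.SchurZassenhaus

set_option autoImplicit false
open Cfsg

namespace Cfsg.Agent.S0092

/-- If the Sylow p-subgroups of O^p(G) are abelian then G splits over O^p(G). -/
theorem result {G : Type*} [Group G] [Finite G] {p : ℕ} [Fact p.Prime] (h : ∀ Q : Sylow p (Cfsg.pResidual p G), IsMulCommutative Q) : ∃ K : Subgroup G, K.IsComplement' (Cfsg.pResidual p G) := by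
  set K := Cfsg.pResidual p G
  obtain ⟨Q0⟩ := (inferInstance : Nonempty (Sylow p K))
  have : IsMulCommutative (Q0 : Subgroup K) := h Q0
  set NK := Subgroup.normalizer ((Q0 : Subgroup K) : Set K)
  -- `Q0` has no nontrivial element centralized by its normalizer in `K`
  have hcen : (Q0 : Subgroup K) ⊓ Subgroup.centralizer (NK : Set K) = ⊥ := by
    have h1 := Transfer.inf_pResidual_eq_commutator_normalizer Q0
    rw [Transfer.pResidual_pResidual, inf_top_eq] at h1
    exact (inf_le_inf_right _ h1.le).trans (Transfer.commutator_normalizer_inf_centralizer Q0).le |> le_bot_iff.mp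
  set Q : Subgroup G := (Q0 : Subgroup K).map K.subtype
  have hQp : IsPGroup p Q := Q0.2.map _
  have hQK : Q ≤ K := Subgroup.map_subtype_le _
  set M := Subgroup.normalizer (Q : Set G)
  have hMK : M ⊔ K = ⊤ := Sylow.normalizer_sup_eq_top Q0
  have hQM : Q ≤ M := Subgroup.le_normalizer
  -- work inside `M`
  set L : Subgroup M := K.subgroupOf M
  set QM : Subgroup M := Q.subgroupOf M
  have hQn : QM.Normal := Subgroup.normal_in_normalizer
  have hLn : L.Normal := Subgroup.normal_subgroupOf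
  have hQc : IsMulCommutative QM := ⟨⟨fun a b => by
    obtain ⟨a', ha', hea⟩ := a.2
    obtain ⟨b', hb', heb⟩ := b.2
    have hab : a' * b' = b' * a' := congrArg Subtype.val (mul_comm' (⟨a', ha'⟩ : (Q0 : Subgroup K)) ⟨b', hb'⟩)
    refine Subtype.ext (Subtype.ext ?_)
    change ((a : M) : G) * ((b : M) : G) = ((b : M) : G) * ((a : M) : G)
    rw [← show K.subtype a' = ((a : M) : G) from hea, ← show K.subtype b' = ((b : M) : G) from heb,
      ← map_mul, ← map_mul, hab]⟩⟩
  have hQL : QM ≤ L := fun x hx => hQK hx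
  have hrel : ¬ p ∣ QM.relIndex L := by
    intro hd
    have e1 : QM.map M.subtype = Q := Subgroup.map_subgroupOf_eq_of_le hQM
    have e2 : L.map M.subtype = M ⊓ K := by rw [inf_comm]; exact Subgroup.subgroupOf_map_subtype K M
    have h2 : QM.relIndex L = Q.relIndex (M ⊓ K) := by
      rw [← Subgroup.relIndex_map_map_of_injective (f := M.subtype) QM L M.subtype_injective, e1, e2]
    have h3 : Q.relIndex (M ⊓ K) * (M ⊓ K).relIndex K = Q.relIndex K :=
      Subgroup.relIndex_mul_relIndex _ _ _ (le_inf hQM hQK) inf_le_right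
    have h4 : Q.relIndex K = (Q0 : Subgroup K).index := by
      change (((Q0 : Subgroup K).map K.subtype).comap K.subtype).index = _
      rw [Subgroup.comap_map_eq_self_of_injective K.subtype_injective]
    exact Q0.not_dvd_index ((h2 ▸ hd).trans (h4 ▸ Dvd.intro _ h3))
  obtain ⟨k, hk⟩ := IsPGroup.iff_card.mp (hQp.of_equiv (Subgroup.subgroupOfEquivOfLe hQM).symm)
  -- a complement `R` of `QM` in `L`
  have hQLn : (QM.subgroupOf L).Normal := Subgroup.normal_subgroupOf
  obtain ⟨R0, hR0⟩ := Subgroup.exists_right_complement'_of_coprime (N := QM.subgroupOf L) (by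
    rw [Nat.card_congr (Subgroup.subgroupOfEquivOfLe hQL).toEquiv, hk]
    exact ((Fact.out : p.Prime).coprime_iff_not_dvd.mpr hrel).pow_left k)
  set R : Subgroup M := R0.map L.subtype
  have hRL : R ≤ L := Subgroup.map_subtype_le _
  have hRco : (Nat.card R).Coprime p := by
    rw [Subgroup.card_map_of_injective L.subtype_injective, ← hR0.symm.index_eq_card]
    exact ((Fact.out : p.Prime).coprime_iff_not_dvd.mpr hrel).symm
  have hQR : R ⊔ QM = L := by
    have h4 := congrArg (Subgroup.map L.subtype) hR0.sup_eq_top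
    rw [Subgroup.map_sup, Subgroup.map_subgroupOf_eq_of_le hQL, ← MonoidHom.range_eq_map,
      Subgroup.range_subtype] at h4
    rw [sup_comm]
    exact h4
  have hco : (Nat.card R).Coprime (Nat.card QM) := hk ▸ hRco.pow_right k
  set M1 := Subgroup.normalizer (R : Set M)
  -- the Frattini argument
  have hM1 : M1 ⊔ QM = ⊤ := by
    refine eq_top_iff.mpr fun m _ => ?_
    set R' := R.map (MulAut.conj m).toMonoidHom
    have hR' : R' ⊔ QM = R ⊔ QM := by
      have e1 : QM.map (MulAut.conj m).toMonoidHom = QM :=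
        Transfer.map_conj_eq_iff_mem_normalizer.mpr (by rw [Subgroup.normalizer_eq_top]; exact Subgroup.mem_top m)
      have e2 : L.map (MulAut.conj m).toMonoidHom = L :=
        Transfer.map_conj_eq_iff_mem_normalizer.mpr (by rw [Subgroup.normalizer_eq_top]; exact Subgroup.mem_top m)
      rw [hQR]
      conv_rhs => rw [← e2, ← hQR, Subgroup.map_sup, e1]
    obtain ⟨n, hn, hne⟩ := Solvable.exists_conj_of_sup_eq_of_isMulCommutative (N := QM) hR'
      (by rw [Transfer.card_map_conj]; exact hco) hco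
    have hnm : n * m ∈ M1 := by
      refine Transfer.map_conj_eq_iff_mem_normalizer.mp ?_
      rw [← Transfer.map_conj_map_conj]
      exact hne
    rw [show m = n⁻¹ * (n * m) by group]
    exact Subgroup.mul_mem _ (Subgroup.mem_sup_right (QM.inv_mem hn)) (Subgroup.mem_sup_left hnm)
  -- `M1` meets `QM` trivially
  have hdis : M1 ⊓ QM = ⊥ := by
    refine le_bot_iff.mp ?_
    rintro q ⟨hq1, hq2⟩
    have hcomm : ∀ r ∈ R, r * q = q * r := by
      intro r hr
      have e1 : q * r * q⁻¹ * r⁻¹ ∈ R := R.mul_mem ((Subgroup.mem_normalizer_iff.mp hq1 r).mp hr) (R.inv_mem hr)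
      have e2 : q * r * q⁻¹ * r⁻¹ ∈ QM := by
        rw [show q * r * q⁻¹ * r⁻¹ = q * (r * q⁻¹ * r⁻¹) by group]
        exact QM.mul_mem hq2 (hQn.conj_mem _ (QM.inv_mem hq2) r)
      have e3 : q * r * q⁻¹ * r⁻¹ = 1 :=
        Subgroup.mem_bot.mp ((Subgroup.disjoint_of_coprime_natCard hco).le_bot ⟨e1, e2⟩)
      exact (mul_inv_eq_iff_eq_mul.mp (mul_inv_eq_one.mp e3)).symm
    have hcommL : ∀ l ∈ L, l * q = q * l := by
      intro l hl
      obtain ⟨r, hr, u, hu, rfl⟩ := Subgroup.mem_sup_of_normal_right.mp (hQR.symm ▸ hl)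
      have hu' : u * q = q * u :=
        congrArg Subtype.val (mul_comm' (⟨u, hu⟩ : QM) ⟨q, hq2⟩)
      rw [mul_assoc, hu', ← mul_assoc, hcomm r hr, mul_assoc]
    obtain ⟨q0, hq0, hq0e⟩ := hq2
    have hq0c : q0 ∈ (Q0 : Subgroup K) ⊓ Subgroup.centralizer (NK : Set K) := by
      refine ⟨hq0, Subgroup.mem_centralizer_iff.mpr fun x hx => Subtype.ext ?_⟩
      have hxM : (x : G) ∈ M := by
        refine Subgroup.mem_normalizer_iff.mpr fun y => ⟨?_, ?_⟩
        · rintro ⟨w, hw, rfl⟩
          exact ⟨x * w * x⁻¹, (Subgroup.mem_normalizer_iff.mp hx w).mp hw, rfl⟩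
        · rintro ⟨w, hw, he⟩
          refine ⟨x⁻¹ * w * x, (Subgroup.mem_normalizer_iff''.mp hx w).mp hw, ?_⟩
          calc K.subtype (x⁻¹ * w * x) = (x : G)⁻¹ * K.subtype w * (x : G) := rfl
            _ = y := by rw [he]; group
      have := congrArg Subtype.val (hcommL ⟨x, hxM⟩ (Subgroup.mem_subgroupOf.mpr x.2))
      change (x : G) * K.subtype q0 = K.subtype q0 * (x : G)
      rw [hq0e]
      exact this
    rw [hcen, Subgroup.mem_bot] at hq0c
    rw [hq0c, map_one] at hq0e
    exact Subgroup.mem_bot.mpr (Subtype.ext hq0e.symm)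
  -- pick a Sylow subgroup of `M1`
  set M1' : Subgroup G := M1.map M.subtype
  have hM1K : M1' ⊔ K = ⊤ := by
    refine top_le_iff.mp (hMK.ge.trans (sup_le ?_ le_sup_right))
    intro x hx
    obtain ⟨a, ha, b, hb, hab⟩ := Subgroup.mem_sup_of_normal_right.mp (hM1.symm ▸ Subgroup.mem_top (⟨x, hx⟩ : M))
    rw [show x = (a : G) * b from congrArg Subtype.val hab.symm]
    exact Subgroup.mul_mem _ (Subgroup.mem_sup_left ⟨a, ha, rfl⟩) (Subgroup.mem_sup_right (hQK hb))
  have hinf : ¬ p ∣ Nat.card (M1' ⊓ K : Subgroup G) := by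
    have h5 : M1' ⊓ K ≤ R.map M.subtype := by
      rintro x ⟨⟨a, ha, rfl⟩, hxK⟩
      refine ⟨a, ?_, rfl⟩
      obtain ⟨r, hr, u, hu, rfl⟩ := Subgroup.mem_sup_of_normal_right.mp
        (hQR.symm ▸ (show a ∈ L from hxK))
      have hu1 : u ∈ M1 := by
        have := M1.mul_mem (M1.inv_mem (Subgroup.le_normalizer hr)) ha
        rwa [inv_mul_cancel_left] at this
      have hu2 : u ∈ M1 ⊓ QM := ⟨hu1, hu⟩
      rw [hdis, Subgroup.mem_bot] at hu2
      rw [hu2, mul_one]
      exact hr
    intro hd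
    have h6 := hd.trans (Subgroup.card_dvd_of_le h5)
    rw [Subgroup.card_map_of_injective M.subtype_injective] at h6
    exact (Fact.out : p.Prime).ne_one (Nat.eq_one_of_dvd_coprimes hRco h6 dvd_rfl)
  obtain ⟨S⟩ := (inferInstance : Nonempty (Sylow p M1'))
  obtain ⟨j, hj⟩ := Transfer.exists_index_pResidual (G := G) (p := p)
  have hidx : (M1' ⊓ K).relIndex M1' = p ^ j := by
    rw [← hj, ← Subgroup.relIndex_top_right, Subgroup.inf_relIndex_left, ← hM1K,
      Subgroup.relIndex_sup_right]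
  have hS : Nat.card ((S : Subgroup M1').map M1'.subtype) = p ^ j := by
    rw [Subgroup.card_map_of_injective M1'.subtype_injective, S.card_eq_multiplicity]
    have hc := Subgroup.relIndex_bot_left (M1' ⊓ K)
    have hm : Nat.card M1' = Nat.card (M1' ⊓ K : Subgroup G) * p ^ j := by
      rw [← hidx, ← Subgroup.relIndex_bot_left, ← Subgroup.relIndex_bot_left,
        Subgroup.relIndex_mul_relIndex _ _ _ bot_le inf_le_left]
    rw [hm, Nat.factorization_mul Nat.card_pos.ne' (pow_ne_zero _ (Fact.out : p.Prime).ne_zero),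
      Finsupp.add_apply, Nat.factorization_eq_zero_of_not_dvd hinf, zero_add,
      (Fact.out : p.Prime).factorization_pow, Finsupp.single_eq_same]
  refine ⟨(S : Subgroup M1').map M1'.subtype, Subgroup.isComplement'_of_card_mul_and_disjoint ?_ ?_⟩
  · rw [hS, ← hj, mul_comm, Subgroup.card_mul_index]
  · refine disjoint_iff.mpr (le_bot_iff.mp ?_)
    rintro x ⟨hx, hxK⟩
    have hx1 : x ∈ M1' ⊓ K := ⟨Subgroup.map_subtype_le _ hx, hxK⟩
    obtain ⟨i, hi⟩ := IsPGroup.iff_orderOf.mp (S.2.map M1'.subtype) ⟨x, hx⟩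
    rw [Subgroup.orderOf_mk] at hi
    have h7 : orderOf x ∣ Nat.card (M1' ⊓ K : Subgroup G) := Subgroup.orderOf_dvd_natCard _ hx1
    rw [hi] at h7
    cases i with
    | zero => exact Subgroup.mem_bot.mpr (orderOf_eq_one_iff.mp (by rw [hi, pow_zero]))
    | succ i => exact absurd ((dvd_pow_self p (Nat.succ_ne_zero i)).trans h7) hinf

end Cfsg.Agent.S0092
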