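import Cfsg.Statements.S0094
import Cfsg.Agent.Lib.PGroup.Omega

set_option autoImplicit false
open Cfsg
open scoped commutatorElement

namespace Cfsg.Agent.S0094

/-- In a special p-group every central element has order dividing p. -/
theorem result {P : Type*} [Group P] [Finite P] {p : ℕ} [Fact p.Prime] (h : Cfsg.IsSpecial p P) (z : P) (hz : z ∈ Subgroup.center P) : z ^ p = 1 := by
  obtain ⟨hP, hΦ, hD⟩ := h
  have hc : ∀ a b : P, ⁅a, b⁆ ∈ Subgroup.center P := fun a b =>
    hD ▸ Subgroup.commutator_mem_commutator (Subgroup.mem_top a) (Subgroup.mem_top b)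
  rw [← hD, commutator_eq_closure] at hz
  induction hz using Subgroup.closure_induction with
  | mem x hx =>
    obtain ⟨a, b, rfl⟩ := hx
    rw [PGroup.classTwo_pow_commutator hc, PGroup.commutator_eq_one_of_mem_center
      (hΦ ▸ PGroup.pow_mem_frattini hP a)]
  | one => exact one_pow p
  | mul x y hx hy ihx ihy =>
    have hy' : y ∈ Subgroup.center P := hD ▸ (commutator_eq_closure (G := P) ▸ hy)
    rw [(PGroup.commute_of_mem_center hy' x).mul_pow, ihx, ihy, one_mul]
  | inv x _ ihx => rw [inv_pow, ihx, inv_one]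

end Cfsg.Agent.S0094
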