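import Cfsg.Statements.S0095
import Cfsg.Agent.Lib.PGroup.Extraspecial

set_option autoImplicit false
open Cfsg

namespace Cfsg.Agent.S0095

/-- The order of an extraspecial p-group is an odd power p^(2n+1) of p with n ≥ 1. -/
theorem result {P : Type*} [Group P] [Finite P] {p : ℕ} [Fact p.Prime] (h : Cfsg.IsExtraspecial p P) : ∃ n : ℕ, 1 ≤ n ∧ Nat.card P = p ^ (2 * n + 1) := by
  obtain ⟨m, hm⟩ := PGroup.IsES.card_eq_odd_pow _ P (PGroup.isES_of_isExtraspecial h) le_rfl
  refine ⟨m, Nat.one_le_iff_ne_zero.mpr fun h0 => ?_, hm⟩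
  subst h0
  rw [Nat.mul_zero, Nat.zero_add, pow_one] at hm
  obtain ⟨⟨-, -, hD⟩, hc⟩ := h
  have htop : Subgroup.center P = ⊤ := Subgroup.eq_top_of_card_eq _ (hc.trans hm.symm)
  rw [(commutator_eq_bot_iff_center_eq_top (G := P)).mpr htop, htop] at hD
  have hcard : Nat.card P = 1 := by rw [← Subgroup.card_top, ← hD, Subgroup.card_bot]
  exact (Fact.out : p.Prime).ne_one (hm.symm.trans hcard)

end Cfsg.Agent.S0095
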