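import Cfsg.Statements.S0097
import Cfsg.Agent.Lib.PGroup.Extraspecial

set_option autoImplicit false
open Cfsg

namespace Cfsg.Agent.S0097

/-- For odd p and E extraspecial, the subgroup generated by the elements of order dividing p has exponent dividing p and index at most p. -/
theorem result {E : Type*} [Group E] [Finite E] {p : ℕ} [Fact p.Prime] (hp : p ≠ 2) (h : Cfsg.IsExtraspecial p E) : (Subgroup.closure {x : E | x ^ p = 1}).index ≤ p ∧ ∀ g ∈ Subgroup.closure {x : E | x ^ p = 1}, g ^ p = 1 := by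
  have hE := PGroup.isES_of_isExtraspecial h
  let f : E →* E := MonoidHom.mk' (fun x => x ^ p) fun x y =>
    PGroup.mul_pow_classTwo Fact.out hp hE.comm_mem (hE.pow_mem y)
  have hK : ∀ g : E, g ∈ f.ker ↔ g ^ p = 1 := fun g => MonoidHom.mem_ker
  have he : Subgroup.closure {x : E | x ^ p = 1} = f.ker :=
    le_antisymm ((Subgroup.closure_le _).mpr fun x hx => (hK x).mpr hx)
      fun x hx => Subgroup.subset_closure ((hK x).mp hx)
  rw [he]
  refine ⟨?_, fun g hg => (hK g).mp hg⟩
  rw [Subgroup.index_ker]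
  refine le_of_le_of_eq (Nat.le_of_dvd Nat.card_pos (Subgroup.card_dvd_of_le ?_)) hE.card_center
  rintro _ ⟨x, rfl⟩
  exact hE.pow_mem x

end Cfsg.Agent.S0097
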