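import Cfsg.Statements.S0100
import Cfsg.Agent.Lib.PGroup.NormalAbelian

set_option autoImplicit false
open Cfsg

namespace Cfsg.Agent.S0100

/-- For odd p, a p-group without normal elementary abelian subgroups of order p^3 has p-rank at most 2. -/
theorem result {P : Type*} [Group P] [Finite P] {p : ℕ} [Fact p.Prime] (hp : p ≠ 2) (hP : IsPGroup p P) (h : ∀ A : Subgroup P, A.Normal → IsMulCommutative A → (∀ a ∈ A, a ^ p = 1) → Nat.card A ≠ p ^ 3) (E : Subgroup P) (hE : IsMulCommutative E) (hEe : ∀ e ∈ E, e ^ p = 1) : Nat.card E ≤ p ^ 2 := by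
  obtain ⟨A, -, hAn, hAc, hAe, hmax⟩ := PGroup.exists_maximal_normal_elementary (p := p)
    (⊥ : Subgroup P) inferInstance (fun a ha b hb => by simp_all) (fun a ha => by simp_all)
  obtain ⟨a, ha⟩ := PGroup.exists_subgroup_card_eq_pow hP A
  have ha2 : a ≤ 2 := by
    by_contra hcon
    obtain ⟨K, hKn, hKA, hK⟩ := PGroup.exists_normal_le_card hP ha 3 (by omega)
    exact h K hKn ⟨⟨fun u v => Subtype.ext (hAc u (hKA u.2) v (hKA v.2))⟩⟩
      (fun x hx => hAe x (hKA hx)) hK
  set C := Subgroup.centralizer (A : Set P)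
  have hEC : E ⊓ C ≤ A := fun x hx =>
    PGroup.mem_of_maximal_normal_elementary hP hp hAc hAe hmax hx.2 (hEe x hx.1)
  have hA2 : Nat.card A ≤ p ^ 2 := ha ▸ Nat.pow_le_pow_right (Fact.out : p.Prime).pos ha2
  by_cases hEC' : E ≤ C
  · exact (Nat.le_of_dvd Nat.card_pos (Subgroup.card_dvd_of_le ((le_inf le_rfl hEC').trans hEC))).trans hA2
  have hne : E ⊓ C ≠ A := by
    intro he
    refine hEC' fun x hx => Subgroup.mem_centralizer_iff.mpr fun y hy => ?_
    exact congrArg Subtype.val (hE.is_comm.comm ⟨y, (he.ge hy).1⟩ ⟨x, hx⟩)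
  have hlt := PGroup.mul_card_le_of_lt hP (lt_of_le_of_ne hEC hne)
  have hi : C.index ≤ p :=
    (PGroup.index_centralizer_le hP a A hAn ha).trans
      ((Nat.pow_le_pow_right (Fact.out : p.Prime).pos (show a * (a - 1) / 2 ≤ 1 by
        interval_cases a <;> simp)).trans (pow_one p).le)
  have hrel : C.relIndex E ≤ C.index := by
    rw [← C.relIndex_top_right]
    exact Subgroup.relIndex_le_of_le_right le_top
      (by rw [C.relIndex_top_right]; exact Subgroup.index_ne_zero_of_finite)
  have hmul := Subgroup.relIndex_mul_relIndex ⊥ (C.subgroupOf E) ⊤ bot_le le_top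
  rw [Subgroup.relIndex_bot_left, Subgroup.relIndex_bot_left, Subgroup.card_top,
    Subgroup.relIndex_top_right] at hmul
  have hcard : Nat.card (C.subgroupOf E) = Nat.card (E ⊓ C : Subgroup P) := by
    rw [← Subgroup.card_map_of_injective E.subtype_injective, Subgroup.subgroupOf_map_subtype,
      inf_comm]
  calc Nat.card E = Nat.card (E ⊓ C : Subgroup P) * C.relIndex E := by
        rw [← hmul, hcard]; rfl
    _ ≤ Nat.card (E ⊓ C : Subgroup P) * p := Nat.mul_le_mul le_rfl (hrel.trans hi)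
    _ ≤ p ^ 2 := by rw [mul_comm]; exact hlt.trans hA2

end Cfsg.Agent.S0100
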