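import Cfsg.Statements.S0102
import Cfsg.Agent.Lib.PGroup.SylowCentral

set_option autoImplicit false
open Cfsg

namespace Cfsg.Agent.S0102

/-- A finite perfect group with cyclic Sylow p-subgroups has no perfect central extension whose kernel has order divisible by p. -/
theorem result {G : Type*} {H : Type*} [Group G] [Group H] [Finite G] [Finite H] (hG : commutator G = ⊤) {p : ℕ} [Fact p.Prime] (hcyc : ∀ P : Sylow p G, IsCyclic P) (σ : H →* G) (hσ : Function.Surjective σ) (hz : σ.ker ≤ Subgroup.center H) (hH : commutator H = ⊤) : ¬ p ∣ Nat.card σ.ker := by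
  intro hdvd
  obtain ⟨⟨z, hzk⟩, hzo⟩ := exists_prime_orderOf_dvd_card' p hdvd
  rw [Subgroup.orderOf_mk] at hzo
  let P : Sylow p H := default
  refine PGroup.not_perfect_of_cyclic_sylow_central hH P ?_ (hz hzk) hzo
  obtain ⟨g, hg⟩ := (Subgroup.isCyclic_iff_exists_zpowers_eq_top _).mp (hcyc (P.mapSurjective hσ))
  obtain ⟨y, hyP, rfl⟩ : ∃ y ∈ (P : Subgroup H), σ y = g := by
    have : g ∈ ((P.mapSurjective hσ : Sylow p G) : Subgroup G) := hg ▸ Subgroup.mem_zpowers g
    exact this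
  refine PGroup.isCyclic_of_sup_frattini (x := (⟨y, hyP⟩ : P)) (eq_top_iff.mpr fun x _ => ?_)
  have hx : σ x ∈ Subgroup.zpowers (σ y) := hg ▸ Subgroup.mem_map_of_mem σ x.2
  obtain ⟨k, hk⟩ := Subgroup.mem_zpowers_iff.mp hx
  rw [← map_zpow, MonoidHom.eq_iff] at hk
  have hinv : (y ^ k)⁻¹ * (x : H) ∈ σ.ker := by
    have h := hk
    first
      | exact h
      | simpa [mul_assoc] using inv_mem h
      | (rw [MonoidHom.mem_ker] at h ⊢; simp_all)
  have hmem := PGroup.mem_frattini_of_perfect_central hH P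
    (mul_mem (inv_mem (zpow_mem hyP k)) x.2) (hz hinv)
  rw [show x = (⟨y, hyP⟩ : P) ^ k * ⟨(y ^ k)⁻¹ * (x : H), mul_mem (inv_mem (zpow_mem hyP k)) x.2⟩ from
    Subtype.ext (by simp)]
  exact mul_mem (Subgroup.mem_sup_left (zpow_mem (Subgroup.mem_zpowers _) k)) (Subgroup.mem_sup_right hmem)

end Cfsg.Agent.S0102
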