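import Cfsg.Statements.S0104
import Cfsg.Agent.Lib.Transfer.Focal

set_option autoImplicit false
open Cfsg

namespace Cfsg.Agent.S0104

/-- A subgroup Z of a Sylow p-subgroup P that is normalized by N_G(P) is weakly closed in P exactly when it is normal in every Sylow p-subgroup containing it. -/
theorem result {G : Type*} [Group G] [Finite G] {p : ℕ} [Fact p.Prime] (P : Sylow p G) (Z : Subgroup G) (hZP : Z ≤ (P : Subgroup G)) (hZN : Subgroup.normalizer (P : Set G) ≤ Subgroup.normalizer (Z : Set G)) : Cfsg.IsWeaklyClosed Z P ↔ ∀ R : Sylow p G, Z ≤ (R : Subgroup G) → (R : Subgroup G) ≤ Subgroup.normalizer (Z : Set G) := by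
  constructor
  · intro hW R hR
    obtain ⟨h, rfl⟩ := MulAction.exists_smul_eq G P R
    have h3 : Z.map (MulAut.conj (1 : G)).toMonoidHom = Z :=
      Transfer.map_conj_eq_iff_mem_normalizer.mpr (one_mem _)
    have h4 : Z.map (MulAut.conj h).toMonoidHom ≤ ((h • P : Sylow p G) : Subgroup G) :=
      Subgroup.map_mono hZP
    have hh : h ∈ Subgroup.normalizer (Z : Set G) :=
      Transfer.map_conj_eq_iff_mem_normalizer.mp
        ((Transfer.map_conj_eq_of_le_sylow P hW h4 (h3.le.trans hR)).trans h3)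
    rintro _ ⟨x, hx, rfl⟩
    change h * x * h⁻¹ ∈ _
    exact mul_mem (mul_mem hh (hZN (P.le_normalizer hx))) (inv_mem hh)
  · intro hall
    refine ⟨hZP, fun g hg => ?_⟩
    have hR : Z ≤ ((g⁻¹ • P : Sylow p G) : Subgroup G) := by
      intro z hz
      rw [Transfer.sylow_coe_smul, Transfer.mem_map_conj_iff, inv_inv]
      exact hg ⟨z, hz, rfl⟩
    obtain ⟨m, hm, he⟩ := Transfer.exists_conj_sylow_le (g⁻¹ • P) P (hall _ hR)
      (P.le_normalizer.trans hZN)
    rw [Transfer.sylow_coe_smul, Transfer.map_conj_map_conj] at he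
    have hmg : m * g⁻¹ ∈ Subgroup.normalizer (Z : Set G) :=
      hZN (Transfer.map_conj_eq_iff_mem_normalizer.mp he)
    refine Transfer.map_conj_eq_iff_mem_normalizer.mpr (inv_mem_iff.mp ?_)
    simpa using mul_mem (inv_mem hm) hmg

end Cfsg.Agent.S0104
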