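import Cfsg.Statements.S0105
import Cfsg.Agent.Lib.Transfer.Criteria

set_option autoImplicit false
open Cfsg

namespace Cfsg.Agent.S0105

/-- With an abelian Sylow p-subgroup P, some quotient of G is isomorphic to the part of P central in N_G(P). -/
theorem result {G : Type*} [Group G] [Finite G] {p : ℕ} [Fact p.Prime] (P : Sylow p G) (hP : IsMulCommutative P) : ∃ (N : Subgroup G) (hN : N.Normal), Nonempty (G ⧸ N ≃* ((P : Subgroup G) ⊓ Subgroup.centralizer (Subgroup.normalizer (P : Set G) : Set G) : Subgroup G)) := by
  set C : Subgroup G := (P : Subgroup G) ⊓ Subgroup.centralizer (Subgroup.normalizer (P : Set G) : Set G)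
  set H : Subgroup G := (P : Subgroup G)
  have hfoc : H.focalSubgroup = ⁅H, Subgroup.normalizer (H : Set G)⁆ := by
    rw [← Transfer.commutator_inf_eq_commutator_normalizer P]
    exact Transfer.focalSubgroup_eq_of_coprime H (Transfer.coprime_index_relIndex_sylow P)
  let φ : C →* H ⧸ H.focalSubgroupOf :=
    (QuotientGroup.mk' _).comp (Subgroup.inclusion (inf_le_left : C ≤ H))
  have hφ : Function.Bijective φ := by
    constructor
    · refine (MonoidHom.ker_eq_bot_iff φ).mp (le_bot_iff.mp fun c hc => ?_)
      have h1 : (c : G) ∈ H.focalSubgroup :=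
        Subgroup.mem_subgroupOf.mp
          ((QuotientGroup.eq_one_iff (N := H.focalSubgroupOf) (Subgroup.inclusion inf_le_left c)).mp hc)
      rw [hfoc] at h1
      exact Subgroup.mem_bot.mpr (Subtype.ext (Subgroup.mem_bot.mp
        ((Transfer.commutator_normalizer_inf_centralizer P).le ⟨h1, c.2.2⟩)))
    · intro y
      induction y using QuotientGroup.induction_on with
      | H x =>
        have hN : H.focalSubgroup ⊔ C = H := hfoc ▸ Transfer.commutator_normalizer_sup_centralizer P
        have hn : (H.focalSubgroup.subgroupOf H).Normal :=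
          (inferInstance : H.focalSubgroupOf.Normal)
        obtain ⟨f, hf, c, hc, hfc⟩ := Subgroup.mem_sup_of_normal_left.mp
          (show x ∈ H.focalSubgroup.subgroupOf H ⊔ C.subgroupOf H by
            rw [← Subgroup.subgroupOf_sup H.focalSubgroup_le inf_le_left, hN, Subgroup.subgroupOf_self]
            exact Subgroup.mem_top x)
        refine ⟨⟨c, hc⟩, ?_⟩
        change ((c : H) : H ⧸ H.focalSubgroupOf) = (x : H ⧸ H.focalSubgroupOf)
        rw [← hfc, QuotientGroup.mk_mul, (QuotientGroup.eq_one_iff (N := H.focalSubgroupOf) f).mpr hf,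
          one_mul]
  exact ⟨H.transferFocal.ker, MonoidHom.normal_ker _,
    ⟨(Subgroup.transferFocal.quotientKerMulEquivQuotientFocalSubroupOf P).trans
      (MulEquiv.ofBijective φ hφ).symm⟩⟩

end Cfsg.Agent.S0105
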