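import Cfsg.Statements.S0109
import Cfsg.Agent.Lib.FFPair.Failure
import Cfsg.Agent.Lib.PLocal.ActionStable

set_option autoImplicit false
open Cfsg

namespace Cfsg.Agent.S0109

/-- The Thompson factorization Theorem for solvable groups states that, with p odd (and abelian Sylow 2-subgroups when p = 3) and no nontrivial normal subgroup of order prime to p, every element of G is a product of an element normalizing J(P) and an element centralizing the elements of order dividing p in the centre of P. -/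
theorem result {G : Type*} [Group G] [Finite G] {p : ℕ} [Fact p.Prime] (hp : p ≠ 2) (hs : Group.IsSolvable G) (h3 : p = 3 → ∀ T : Sylow 2 G, IsMulCommutative T) (hF : ∀ N : Subgroup G, N.Normal → Nat.Coprime (Nat.card N) p → N = ⊥) (P : Sylow p G) (g : G) : ∃ a ∈ Subgroup.normalizer (Cfsg.thompsonSubgroupOf p (P : Subgroup G) : Set G), ∃ c ∈ Subgroup.centralizer {x : G | x ∈ (P : Subgroup G) ∧ (∀ y ∈ (P : Subgroup G), x * y = y * x) ∧ x ^ p = 1}, g = a * c := by
  have hsep : Solvable.IsPiSeparable {p} G := Solvable.isPiSeparable_of_isSolvable _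
  have hO : Cfsg.pPrimeCore p G = ⊥ :=
    hF _ inferInstance (Cores.coprime_card_pPrimeCore p)
  have hfact : Cfsg.IsThompsonFactorizable p G := by
    by_contra hnf
    obtain ⟨X, _, _, U, ι, j, A, hM, hFF, hgen, hAH, hT⟩ := FFPair.failure_model hsep hO hnf
    obtain ⟨hf, hEH, -, -, -⟩ := hFF.exists_factor hAH hT
    have hp3 : p = 3 := hf.small.resolve_left hp
    subst hp3
    haveI : Fact (Nat.Prime 2) := ⟨Nat.prime_two⟩
    have hR2 : IsPGroup 2 ↥(⁅(Cfsg.pPrimeCore 3 ↥((Cfsg.thompsonSubgroup 3 G).map ι)).map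
        ((Cfsg.thompsonSubgroup 3 G).map ι).subtype, A⁆) := hf.isPGroup
    refine hf.nonab rfl ?_
    set R := ⁅(Cfsg.pPrimeCore 3 ↥((Cfsg.thompsonSubgroup 3 G).map ι)).map
        ((Cfsg.thompsonSubgroup 3 G).map ι).subtype, A⁆
    have hRr : R ≤ ι.range :=
      le_trans (le_trans le_sup_left hEH) (Subgroup.map_le_range ι _)
    have h2 := PLocal.sylow_two_subgroup (PLocal.sylow_two_surjective (h3 rfl) ι.rangeRestrict
      ι.rangeRestrict_surjective) (R.subgroupOf ι.range)
    have hp2 : IsPGroup 2 (R.subgroupOf ι.range) :=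
      hR2.comap_of_injective _ (Subgroup.subtype_injective _)
    obtain ⟨T, hT'⟩ := (hp2.comap_of_injective (Subgroup.subtype (R.subgroupOf ι.range))
      (Subgroup.subtype_injective _)).exists_le_sylow
    refine ⟨⟨fun a b => Subtype.ext ?_⟩⟩
    let a' : ↥(R.subgroupOf ι.range) := ⟨⟨a, hRr a.2⟩, a.2⟩
    let b' : ↥(R.subgroupOf ι.range) := ⟨⟨b, hRr b.2⟩, b.2⟩
    have hc := congrArg Subtype.val ((h2 T).1.1 ⟨a', hT' a'.2⟩ ⟨b', hT' b'.2⟩)
    exact congrArg (fun x : ↥(R.subgroupOf ι.range) => ((x : ι.range) : X)) hc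
  obtain ⟨x, hx, c, hc, n, hn, hg⟩ := hfact P g⁻¹
  rw [hO, Subgroup.mem_bot] at hx
  rw [hx, one_mul] at hg
  refine ⟨n⁻¹, inv_mem hn, c⁻¹, inv_mem (Subgroup.mem_centralizer_iff.2 ?_), ?_⟩
  · rintro z ⟨hz, hzc, hzp⟩
    exact Subgroup.mem_centralizer_iff.1 hc z (Subgroup.subset_closure
      ⟨⟨hz, Subgroup.mem_centralizer_iff.2 fun y hy => (hzc y hy).symm⟩, hzp⟩)
  · rw [← mul_inv_rev, ← hg, inv_inv]

end Cfsg.Agent.S0109
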