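import Cfsg.Statements.S0110
import Cfsg.Agent.Lib.PGroup.Extraspecial

set_option autoImplicit false
open Cfsg
open scoped commutatorElement

namespace Cfsg.Agent.S0110

/-- In a p-group G, an extraspecial subgroup E with [G, E] ≤ Z(E) satisfies G = E C_G(E). -/
theorem result {G : Type*} [Group G] [Finite G] {p : ℕ} [Fact p.Prime] (hG : IsPGroup p G) (E : Subgroup G) (hE : Cfsg.IsExtraspecial p E) (h : ⁅(⊤ : Subgroup G), E⁆ ≤ E ⊓ Subgroup.centralizer (E : Set G)) : E ⊔ Subgroup.centralizer (E : Set G) = ⊤ := by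
  have hE' := PGroup.isES_of_isExtraspecial hE
  have hcomm : ∀ (g : G) (e : E), ⁅g, (e : G)⁆ ∈ E ⊓ Subgroup.centralizer (E : Set G) := fun g e =>
    h (Subgroup.commutator_mem_commutator (Subgroup.mem_top g) e.2)
  haveI hEn : E.Normal := Subgroup.commutator_top_left_le_iff.mp (h.trans inf_le_left)
  set Z : Subgroup G := E ⊓ Subgroup.centralizer (E : Set G) with hZ
  have hZmap : (Subgroup.center E).map E.subtype = Z := by
    ext x
    constructor
    · rintro ⟨y, hy, rfl⟩
      exact ⟨y.2, Subgroup.mem_centralizer_iff.mpr fun e he =>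
        congrArg Subtype.val (Subgroup.mem_center_iff.mp hy ⟨e, he⟩)⟩
    · rintro ⟨hxE, hxC⟩
      exact ⟨⟨x, hxE⟩, Subgroup.mem_center_iff.mpr fun e =>
        Subtype.ext (Subgroup.mem_centralizer_iff.mp hxC e e.2), rfl⟩
  have hZcard : Nat.card Z = p := by
    rw [← hZmap, Subgroup.card_map_of_injective E.subtype_injective, hE'.card_center]
  have hZc : Z ≤ Subgroup.center G := PGroup.le_center_of_card_eq hG hZcard
  rw [eq_top_iff]
  intro g _
  obtain ⟨a, ha⟩ := PGroup.IsES.exists_inner _ E hE' le_rfl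
    (fun e => ⟨⁅g, (e : G)⁆, (hcomm g e).1⟩)
    (fun e e' => Subtype.ext (PGroup.commutator_mul_right
      (Subgroup.mem_center_iff.mp (hZc (hcomm g e')) e)))
    (fun e => Subgroup.mem_center_iff.mpr fun d =>
      Subtype.ext (Subgroup.mem_center_iff.mp (hZc (hcomm g e)) d))
    (fun e he => Subtype.ext (commutatorElement_eq_one_iff_mul_comm.mpr
      (Subgroup.mem_center_iff.mp (hZc (hZmap ▸ Subgroup.mem_map_of_mem E.subtype he)) g)))
  have hag : (a : G)⁻¹ * g ∈ Subgroup.centralizer (E : Set G) := by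
    refine Subgroup.mem_centralizer_iff.mpr fun e he => ?_
    have h1 : ⁅(a : G), e⁆ = ⁅g, e⁆ := congrArg Subtype.val (ha ⟨e, he⟩)
    rw [commutatorElement_def, commutatorElement_def, mul_left_inj] at h1
    calc e * ((a : G)⁻¹ * g) = (a : G)⁻¹ * ((a : G) * e * (a : G)⁻¹) * g := by group
      _ = _ := by rw [h1]; group
  rw [← mul_inv_cancel_left (a : G) g]
  exact mul_mem (Subgroup.mem_sup_left a.2) (Subgroup.mem_sup_right hag)

end Cfsg.Agent.S0110
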