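import Cfsg.Statements.S0114
import Cfsg.Agent.Lib.PGroup.MaximalClass

set_option autoImplicit false
open Cfsg

namespace Cfsg.Agent.S0114

/-- The central quotient of a 2-group of maximal class is dihedral. -/
theorem result {X : Type*} [Group X] [Finite X] (n : ℕ) (hn : 3 ≤ n) (hX : Nat.card X = 2 ^ n) (hc : Group.nilpotencyClass X = n - 1) : Nonempty (X ⧸ Subgroup.center X ≃* DihedralGroup (2 ^ (n - 2))) := by
  haveI : Fact (Nat.Prime 2) := ⟨Nat.prime_two⟩
  have hab : (commutator X).index = 4 := by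
    have h := (commutator X).card_mul_index
    rw [← Subgroup.top_lowerCentralSeries_one, PGroup.card_lcs_of_maximal_class hn hX hc le_rfl (by omega), hX,
      Subgroup.top_lowerCentralSeries_one] at h
    refine Nat.eq_of_mul_eq_mul_left (pow_pos two_pos (n - 1 - 1)) (h.trans ?_)
    rw [show (4 : ℕ) = 2 ^ 2 from rfl, ← pow_add]; congr 1; omega
  obtain ⟨a, b, ha, hbA, hb2, hba, hcen, -⟩ := PGroup.two_group_data hn hX hab
  obtain ⟨m, rfl⟩ : ∃ m, n = m + 2 := ⟨n - 2, by omega⟩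
  rw [show m + 2 - 1 = m + 1 by omega] at ha
  simp only [Nat.add_sub_cancel] at hcen ⊢
  have hzo : orderOf (a ^ 2 ^ m) = 2 := by
    rw [orderOf_pow' _ (pow_ne_zero _ two_ne_zero), ha, Nat.gcd_eq_right (pow_dvd_pow 2 (Nat.le_succ m)),
      pow_succ, Nat.mul_div_cancel_left _ (pow_pos two_pos m)]
  have hq : Nat.card (X ⧸ Subgroup.center X) = 2 * 2 ^ m := by
    have h := Subgroup.card_eq_card_quotient_mul_card_subgroup (Subgroup.center X)
    have hz : Nat.card (Subgroup.center X) = 2 := by rw [hcen, Nat.card_zpowers, hzo]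
    rw [hX, hz, pow_succ, pow_succ'] at h
    omega
  have ha' : orderOf (a : X ⧸ Subgroup.center X) = 2 ^ m := by
    refine orderOf_eq_of_pow_and_pow_div_prime (pow_pos two_pos m) ?_ fun q hq hqd => ?_
    · rw [← QuotientGroup.mk_pow, QuotientGroup.eq_one_iff, hcen]; exact Subgroup.mem_zpowers _
    · obtain rfl := (Nat.prime_dvd_prime_iff_eq hq Nat.prime_two).mp (hq.dvd_of_dvd_pow hqd)
      obtain ⟨j, rfl⟩ : ∃ j, m = j + 1 := ⟨m - 1, by omega⟩
      rw [pow_succ, Nat.mul_div_cancel _ two_pos, ← QuotientGroup.mk_pow, Ne, QuotientGroup.eq_one_iff, hcen]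
      intro h
      obtain ⟨k, hk⟩ := Subgroup.mem_zpowers_iff.mp h
      have : ((a ^ 2 ^ (j + 1)) ^ k) ^ 2 = (a ^ 2 ^ j) ^ 2 := by rw [hk]
      rw [← zpow_natCast, zpow_comm, zpow_natCast, orderOf_dvd_iff_pow_eq_one.mp hzo.dvd, one_zpow,
        ← pow_mul, eq_comm, ← orderOf_dvd_iff_pow_eq_one, ha, ← pow_succ,
        Nat.pow_dvd_pow_iff_le_right (by norm_num : 1 < 2)] at this
      omega
  haveI : NeZero (2 ^ m) := ⟨by positivity⟩
  obtain ⟨e⟩ := PGroup.dihedralEquivOfGen (a := (a : X ⧸ Subgroup.center X))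
    (b := (b : X ⧸ Subgroup.center X)) ha'
    (by rw [← QuotientGroup.mk_pow, QuotientGroup.eq_one_iff]; exact hb2)
    (by
      refine eq_inv_of_mul_eq_one_left ?_
      rw [← QuotientGroup.mk_mul, ← QuotientGroup.mk_inv, ← QuotientGroup.mk_mul, ← QuotientGroup.mk_mul,
        QuotientGroup.eq_one_iff]
      exact hba)
    (fun h => hbA (by
      obtain ⟨k, hk⟩ := Subgroup.mem_zpowers_iff.mp h
      rw [← QuotientGroup.mk_zpow, QuotientGroup.eq, hcen] at hk
      have := mul_mem (zpow_mem (Subgroup.mem_zpowers a) k)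
        (Subgroup.zpowers_le.mpr (pow_mem (Subgroup.mem_zpowers a) _) hk)
      rwa [mul_inv_cancel_left] at this))
    hq
  exact ⟨e.symm⟩

end Cfsg.Agent.S0114
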