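import Cfsg.Statements.S0115
import Cfsg.Agent.Lib.PGroup.MaximalClass

set_option autoImplicit false
open Cfsg

namespace Cfsg.Agent.S0115

/-- A 2-group of order 2^n, n ≥ 3, is of maximal class exactly when its commutator quotient is a Klein four-group. -/
theorem result {X : Type*} [Group X] [Finite X] (n : ℕ) (hn : 3 ≤ n) (hX : Nat.card X = 2 ^ n) : Group.nilpotencyClass X = n - 1 ↔ IsKleinFour (X ⧸ commutator X) := by
  haveI : Fact (Nat.Prime 2) := ⟨Nat.prime_two⟩
  constructor
  · intro hc
    have hab : (commutator X).index = 4 := by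
      have h := (commutator X).card_mul_index
      rw [← Subgroup.top_lowerCentralSeries_one, PGroup.card_lcs_of_maximal_class hn hX hc le_rfl (by omega), hX,
        Subgroup.top_lowerCentralSeries_one] at h
      refine Nat.eq_of_mul_eq_mul_left (pow_pos two_pos (n - 1 - 1)) (h.trans ?_)
      rw [show (4 : ℕ) = 2 ^ 2 from rfl, ← pow_add]; congr 1; omega
    have h4 : Nat.card (X ⧸ commutator X) = 4 := by rw [← Subgroup.index_eq_card, hab]
    refine ⟨h4, ?_⟩
    have hdvd : Monoid.exponent (X ⧸ commutator X) ∣ 4 := h4 ▸ Group.exponent_dvd_nat_card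
    have hne4 : Monoid.exponent (X ⧸ commutator X) ≠ 4 := fun he => by
      letI : CommGroup (X ⧸ commutator X) :=
        { (inferInstance : Group (X ⧸ commutator X)) with
          mul_comm := fun a b =>
            (Subgroup.Normal.quotient_commutative_iff_commutator_le.mpr le_rfl).is_comm.comm a b }
      haveI := IsCyclic.of_exponent_eq_card (he.trans h4.symm)
      haveI := PGroup.isCyclic_of_abelianization (IsPGroup.of_card hX) this
      rw [commutator_eq_bot X, Subgroup.index_bot, hX] at hab
      have : 2 ^ 3 ≤ 2 ^ n := Nat.pow_le_pow_right (by norm_num) hn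
      omega
    have hne1 : Monoid.exponent (X ⧸ commutator X) ≠ 1 := fun he => by
      haveI := Monoid.exp_eq_one_iff.mp he
      rw [Nat.card_of_subsingleton (1 : X ⧸ commutator X)] at h4
      norm_num at h4
    have hle := Nat.le_of_dvd (by norm_num) hdvd
    interval_cases h : Monoid.exponent (X ⧸ commutator X) <;> simp_all <;> omega
  · intro hK
    obtain ⟨a, b, -, -, -, -, -, hc⟩ := PGroup.two_group_data hn hX
      (by rw [Subgroup.index_eq_card]; exact hK.card_four)
    exact hc

end Cfsg.Agent.S0115
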