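import Cfsg.Statements.S0116
import Cfsg.Agent.Lib.Fusion.TameChain

set_option autoImplicit false
open Cfsg

namespace Cfsg.Agent.S0116

/-- Unfold a chain into indexed families. -/
theorem exists_family {G : Type*} [Group G] {p : ℕ} {P : Sylow p G} {A : Set G} {g : G}
    (h : TameChain.Chain P A g) :
    ∃ (n : ℕ) (Q : Fin n → Sylow p G) (x : Fin n → G), (List.ofFn x).prod = g ∧
      (∀ i : Fin n, x i ∈ TameChain.interNormalizer P (Q i) ∧ TameChain.IsTame P (Q i)) ∧
      ∀ i : Fin n, TameChain.conjSet (((List.ofFn x).take i.val).prod) A ⊆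
        (((P : Subgroup G) ⊓ (Q i : Subgroup G) : Subgroup G) : Set G) := by
  induction h with
  | nil A => exact ⟨0, Fin.elim0, Fin.elim0, by simp, fun i => i.elim0, fun i => i.elim0⟩
  | cons A Q₀ x₀ g hx ht hA _ ih =>
    obtain ⟨n, Q, x, hprod, hc, himg⟩ := ih
    refine ⟨n + 1, Fin.cons Q₀ Q, Fin.cons x₀ x, ?_, ?_, ?_⟩
    · rw [List.ofFn_cons, List.prod_cons, hprod]
    · intro i
      refine Fin.cases ?_ (fun j => ?_) i
      · simpa using ⟨hx, ht⟩
      · simpa using hc j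
    · intro i
      refine Fin.cases ?_ (fun j => ?_) i
      · simpa [TameChain.conjSet_one] using hA
      · rw [List.ofFn_cons, Fin.val_succ, List.take_succ_cons, List.prod_cons, TameChain.conjSet_mul]
        simpa using himg j

/-- The Alperin fusion Theorem states that conjugation between subsets of a Sylow p-subgroup P factors through normalizers of tame intersections P ∩ Q_i with other Sylow p-subgroups, carrying the subset along step by step. -/
theorem result {G : Type*} [Group G] [Finite G] {p : ℕ} [Fact p.Prime] (P : Sylow p G) (A : Set G) (g : G) (hA : A ⊆ (P : Set G)) (hAg : (fun a => g⁻¹ * a * g) '' A ⊆ (P : Set G)) : ∃ (n : ℕ) (Q : Fin n → Sylow p G) (x : Fin n → G), (List.ofFn x).prod = g ∧ (∀ i : Fin n, x i ∈ Subgroup.normalizer ((((P : Subgroup G) ⊓ (Q i : Subgroup G)) : Subgroup G) : Set G) ∧ ¬ p ∣ ((P : Subgroup G) ⊓ Subgroup.normalizer ((((P : Subgroup G) ⊓ (Q i : Subgroup G)) : Subgroup G) : Set G)).relIndex (Subgroup.normalizer ((((P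 : Subgroup G) ⊓ (Q i : Subgroup G)) : Subgroup G) : Set G)) ∧ ¬ p ∣ ((Q i : Subgroup G) ⊓ Subgroup.normalizer ((((P : Subgroup G) ⊓ (Q i : Subgroup G)) : Subgroup G) : Set G)).relIndex (Subgroup.normalizer ((((P : Subgroup G) ⊓ (Q i : Subgroup G)) : Subgroup G) : Set G))) ∧ (∀ h : 0 < n, A ⊆ (((P : Subgroup G) ⊓ (Q ⟨0, h⟩ : Subgroup G) : Subgroup G) : Set G)) ∧ ∀ i : Fin n, ∀ h : i.val + 1 < n, (fun a => (((List.ofFn x).take (i.val + 1)).prod)⁻¹ * a * ((List.ofFn x).take (i.val + 1)).prod) '' A ⊆ (((P : Subgroup G) ⊓ (Q ⟨i.val + 1, h⟩ : Subgroup G) : Subgroup G) : Set G) := by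
  obtain ⟨n, Q, x, hprod, hc, himg⟩ := exists_family (TameChain.exists_chain P hA hAg)
  refine ⟨n, Q, x, hprod, fun i => ⟨(hc i).1, (hc i).2.1, (hc i).2.2⟩, fun h => ?_, fun i h => himg ⟨i.val + 1, h⟩⟩
  have h0 := himg ⟨0, h⟩
  rwa [List.take_zero, List.prod_nil, TameChain.conjSet_one] at h0

end Cfsg.Agent.S0116
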