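import Cfsg.Statements.S0123
import Cfsg.Agent.Lib.PGroup.Omega

set_option autoImplicit false
open Cfsg
open scoped commutatorElement

namespace Cfsg.Agent.S0123

/-- For a p-group of small class relative to p (class ≤ 2 with p odd, or class ≤ 3 with p > 3) whose derived subgroup is generated by elements of order dividing p, the p-th power map is multiplicative. -/
theorem result {R : Type*} [Group R] [Finite R] {p : ℕ} [Fact p.Prime] (hR : IsPGroup p R) (hcl : (p ≠ 2 ∧ ⁅commutator R, (⊤ : Subgroup R)⁆ = ⊥) ∨ (3 < p ∧ ⁅⁅commutator R, (⊤ : Subgroup R)⁆, (⊤ : Subgroup R)⁆ = ⊥)) (hder : commutator R ≤ Subgroup.closure {x : R | x ^ p = 1}) (x y : R) : (x * y) ^ p = x ^ p * y ^ p := by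
  have hp' : p.Prime := Fact.out
  rcases hcl with ⟨hp2, h2⟩ | ⟨hp3, h3⟩
  · have hc := PGroup.classTwo_comm_center h2
    refine PGroup.mul_pow_prime_eq hp' hp2 (PGroup.commute_of_mem_center (hc y x) x)
      (PGroup.commute_of_mem_center (hc y x) y) ?_
    exact PGroup.exponent_omega_classTwo hp' hp2 hc
      (hder (Subgroup.commutator_mem_commutator (Subgroup.mem_top y) (Subgroup.mem_top x)))
  · have hc := PGroup.classThree_commutator_center h3
    have hcp : ∀ a b : R, ⁅a, b⁆ ^ p = 1 := fun a b =>
      PGroup.exponent_omega_classThree hp' hp3 hc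
        (hder (Subgroup.commutator_mem_commutator (Subgroup.mem_top a) (Subgroup.mem_top b)))
    have hpow : ∀ {g : R} {k : ℕ}, g ^ p = 1 → p ∣ k → g ^ k = 1 := by
      intro g k hg ⟨j, hj⟩; rw [hj, pow_mul, hg, one_pow]
    rw [PGroup.mul_pow_eq_three (PGroup.commute_of_mem_center (hc x y x) x)
      (PGroup.commute_of_mem_center (hc x y x) y) (PGroup.commute_of_mem_center (hc x y x) _)
      (PGroup.commute_of_mem_center (hc y y x) x) (PGroup.commute_of_mem_center (hc y y x) y)
      (PGroup.commute_of_mem_center (hc y y x) _),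
      hpow (hcp y x) (hp'.dvd_choose_self (by norm_num) (by omega)),
      hpow (hcp x _) (PGroup.dvd_sumSq hp' hp3),
      hpow (hcp y _) (hp'.dvd_choose_self (by norm_num) hp3)]
    simp

end Cfsg.Agent.S0123
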