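import Cfsg.Statements.S0129
import Cfsg.Agent.Lib.PGroup.NormalAbelian

set_option autoImplicit false
open Cfsg

namespace Cfsg.Agent.S0129

/-- The order of a p-group is bounded by p^(a(a+1)/2) when it has a maximal normal abelian subgroup of order p^a. -/
theorem result {G : Type*} [Group G] [Finite G] {p : ℕ} [Fact p.Prime] (hG : IsPGroup p G) (A : Subgroup G) [A.Normal] (hA : IsMulCommutative A) (hmax : ∀ B : Subgroup G, B.Normal → IsMulCommutative B → A ≤ B → B = A) (a : ℕ) (ha : Nat.card A = p ^ a) : Nat.card G ≤ p ^ (a * (a + 1) / 2) := by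
  have hA' : ∀ x ∈ A, ∀ y ∈ A, x * y = y * x := fun x hx y hy =>
    congrArg Subtype.val (hA.is_comm.comm ⟨x, hx⟩ ⟨y, hy⟩)
  have hC := PGroup.centralizer_eq_of_maximal_normal_abelian hG hA' fun B hB hBc hAB =>
    hmax B hB ⟨⟨fun u v => Subtype.ext (hBc u u.2 v v.2)⟩⟩ hAB
  have hb := PGroup.index_centralizer_le hG a A inferInstance ha
  rw [hC] at hb
  refine (PGroup.card_le_of_index_le ha.le hb).trans (le_of_eq ?_)
  rw [← pow_add]
  congr 1
  cases a with
  | zero => rfl
  | succ b =>
    simp only [Nat.add_sub_cancel]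
    have e : (b + 1) * (b + 1 + 1) = (b + 1) * b + 2 * (b + 1) := by ring
    rw [e, Nat.add_mul_div_left _ _ (by norm_num)]; ring

end Cfsg.Agent.S0129
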