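import Cfsg.Statements.S0131
import Cfsg.Agent.Lib.Transfer.Focal

set_option autoImplicit false
open Cfsg
open scoped commutatorElement

namespace Cfsg.Agent.S0131

/-- P/P' has a normal complement in G exactly when the focal subgroup G' ∩ P is as small as possible, namely P'. -/
theorem result {G : Type*} [Group G] [Finite G] {p : ℕ} [Fact p.Prime] (P : Sylow p G) : (∃ N : Subgroup G, N.Normal ∧ N ⊓ (P : Subgroup G) = ⁅(P : Subgroup G), (P : Subgroup G)⁆ ∧ N ⊔ (P : Subgroup G) = ⊤) ↔ commutator G ⊓ (P : Subgroup G) = ⁅(P : Subgroup G), (P : Subgroup G)⁆ := by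
  constructor
  · rintro ⟨N, hN, h1, h2⟩
    refine le_antisymm ?_ (le_inf (Subgroup.commutator_mono le_top le_top) (Subgroup.commutator_le_self _))
    have hle : commutator G ≤ N := by
      refine Subgroup.Normal.quotient_commutative_iff_commutator_le.mp ?_
      have hs : ∀ g : G ⧸ N, ∃ x ∈ (P : Subgroup G), (x : G ⧸ N) = g := by
        intro g
        induction g using QuotientGroup.induction_on with
        | H g =>
          obtain ⟨n, hn, x, hx, rfl⟩ := Subgroup.mem_sup_of_normal_left.mp (h2 ▸ Subgroup.mem_top g)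
          exact ⟨x, hx, by rw [QuotientGroup.mk_mul, (QuotientGroup.eq_one_iff n).mpr hn, one_mul]⟩
      refine ⟨⟨fun a b => ?_⟩⟩
      obtain ⟨x, hx, rfl⟩ := hs a
      obtain ⟨y, hy, rfl⟩ := hs b
      rw [← QuotientGroup.mk_mul, ← QuotientGroup.mk_mul, QuotientGroup.eq]
      have hc : ⁅y⁻¹, x⁻¹⁆ ∈ N :=
        (h1.symm.le.trans inf_le_left) (Subgroup.commutator_mem_commutator (inv_mem hy) (inv_mem hx))
      rw [commutatorElement_def] at hc
      simpa [mul_assoc] using hc
    exact (inf_le_inf_right _ hle).trans h1.le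
  · intro h
    obtain ⟨N, hN, h1, h2⟩ := Transfer.exists_normal_focal_complement (P : Subgroup G)
      (Transfer.coprime_index_relIndex_sylow P)
    exact ⟨N, hN, h1.trans h, h2⟩

end Cfsg.Agent.S0131
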