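import Cfsg.Statements.S0159
import Cfsg.Agent.Lib.CharApp.PermLemma

set_option autoImplicit false
open Cfsg

namespace Cfsg.Agent.S0159

/-- The number of solutions of s * s = 1 in a finite group equals the sum, over the irreducible characters χ, of (the average over s of χ (s * s)) times χ 1. -/
theorem result {G : Type*} [Group G] [Fintype G] : (Nat.card {s : G // s * s = 1} : ℂ) = ∑ᶠ χ : Cfsg.IrrCharacter G, ((Nat.card G : ℂ)⁻¹ * ∑ s : G, (χ : G → ℂ) (s * s)) * (χ : G → ℂ) 1 := by
  classical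
  haveI := Fintype.ofFinite (Cfsg.IrrCharacter G)
  rw [finsum_eq_sum_of_fintype]
  simp only [mul_assoc, Finset.sum_mul, ← Finset.mul_sum]
  rw [Finset.sum_comm]
  have h : ∀ s : G, ∑ χ : Cfsg.IrrCharacter G, (χ : G → ℂ) (s * s) * (χ : G → ℂ) 1 =
      if s * s = 1 then (Nat.card G : ℂ) else 0 := fun s => by
    rw [← Char.sum_degree_mul_apply (s * s)]
    exact Finset.sum_congr rfl fun χ _ => mul_comm _ _
  rw [Finset.sum_congr rfl fun s _ => h s, Finset.sum_ite, Finset.sum_const_zero, add_zero,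
    Finset.sum_const, nsmul_eq_mul, Nat.card_eq_fintype_card, Fintype.card_subtype, ← mul_assoc,
    mul_comm _ ((Finset.univ.filter fun s : G => s * s = 1).card : ℂ), mul_assoc,
    inv_mul_cancel₀ (Nat.cast_ne_zero.mpr (Nat.card_pos (α := G)).ne'), mul_one]

end Cfsg.Agent.S0159
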