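import Cfsg.Statements.S0162
import Cfsg.Agent.Lib.CharApp.PermLemma
import Cfsg.Agent.Lib.Char.Integral

set_option autoImplicit false
open Cfsg
open scoped ComplexConjugate

namespace Cfsg.Agent.S0162

/-- If a finite group has odd order, its order is congruent to its number of conjugacy classes modulo 16. -/
theorem result {G : Type*} [Group G] [Finite G] (hodd : Odd (Nat.card G)) : Nat.card G ≡ Nat.card (ConjClasses G) [MOD 16] := by
  classical
  haveI := Fintype.ofFinite G
  haveI := Fintype.ofFinite (Cfsg.IrrCharacter G)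
  have hdeg : ∀ χ : Cfsg.IrrCharacter G, ∃ d : ℕ, Odd d ∧ (χ : G → ℂ) 1 = d := by
    rintro ⟨χ, n, ρ, hρ, rfl⟩
    haveI := hρ
    exact ⟨_, hodd.of_dvd_nat (Char.degree_dvd_card ρ), Representation.char_one ρ⟩
  choose d hd hd1 using hdeg
  have hsum : ∑ χ : Cfsg.IrrCharacter G, d χ ^ 2 = Nat.card G := by
    have := Char.sum_sq_degrees (G := G)
    simp only [hd1] at this
    exact_mod_cast this
  rw [← Char.card_irr_eq_card_conjClasses, ← hsum, Nat.card_eq_fintype_card,
    Fintype.card_eq_sum_ones]
  -- in `ZMod 16`, the involution `χ ↦ conj χ` pairs off the summands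
  rw [← ZMod.natCast_eq_natCast_iff]
  push_cast
  rw [← sub_eq_zero, ← Finset.sum_sub_distrib]
  let F : Cfsg.IrrCharacter G → Cfsg.IrrCharacter G :=
    fun χ => ⟨fun g => conj ((χ : G → ℂ) g), Char.IsIrrCharacter.conj χ.2⟩
  refine Finset.sum_involution (fun χ _ => F χ) ?_ ?_ (fun χ _ => Finset.mem_univ _)
    (fun χ _ => Subtype.ext (funext fun g => Complex.conj_conj _))
  · intro χ _
    have hF : d (F χ) = d χ := by
      have h1 : ((d (F χ) : ℕ) : ℂ) = conj ((d χ : ℕ) : ℂ) := by
        rw [← hd1, ← hd1]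
      rw [Complex.conj_natCast] at h1
      exact_mod_cast h1
    rw [hF]
    obtain ⟨k, hk⟩ := hd χ
    obtain ⟨m, hm⟩ := Nat.even_mul_succ_self k
    have h16 : (16 : ZMod 16) = 0 := rfl
    have hk' : (k : ZMod 16) * (k + 1) = m + m := by exact_mod_cast congrArg (Nat.cast (R := ZMod 16)) hm
    rw [hk]
    push_cast
    linear_combination (8 : ZMod 16) * hk' + (m : ZMod 16) * h16
  · intro χ _ hne hfix
    apply hne
    have hreal : ∀ g : G, ((χ : G → ℂ) g).im = 0 := fun g =>
      Complex.conj_eq_iff_im.mp (congrFun (congrArg Subtype.val hfix) g)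
    have h1 := CharApp.real_irr_of_odd hodd χ.2 hreal
    have hd1' : d χ = 1 := by
      have := hd1 χ
      rw [h1] at this
      simp only at this
      exact_mod_cast this.symm
    rw [hd1']
    norm_num

end Cfsg.Agent.S0162
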