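import Cfsg.Statements.S0166
import Cfsg.Agent.Lib.Char.Realize

set_option autoImplicit false
open Cfsg

namespace Cfsg.Agent.S0166

/-- Brauer's splitting field Theorem: a complex representation of a finite group of exponent m is equivalent to a representation by matrices with entries in ℚ adjoined exp(2πi/m). -/
theorem result {G : Type*} [Group G] [Finite G] (n : ℕ) (ρ : Representation ℂ G (Fin n → ℂ)) : ∃ σ : Representation ℂ G (Fin n → ℂ), Nonempty (ρ.Equiv σ) ∧ ∀ g : G, ∀ i j : Fin n, LinearMap.toMatrix' (σ g) i j ∈ Algebra.adjoin ℚ ({Complex.exp (2 * Real.pi * Complex.I / (Monoid.exponent G : ℂ))} : Set ℂ) := by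
  classical
  have := Fintype.ofFinite G
  set m := Monoid.exponent G with hm
  set ζ := Complex.exp (2 * Real.pi * Complex.I / (m : ℂ)) with hζdef
  have hm0 : m ≠ 0 := Monoid.exponent_ne_zero_of_finite
  have hζ : IsPrimitiveRoot ζ m := Complex.isPrimitiveRoot_exp m hm0
  have halg : IsAlgebraic ℚ ζ :=
    ((hζ.isIntegral (Nat.pos_of_ne_zero hm0)).tower_top (A := ℚ)).isAlgebraic
  let K : IntermediateField ℚ ℂ := IntermediateField.adjoin ℚ {ζ}
  have hroots : ∀ z : ℂ, z ^ m = 1 → z ∈ Set.range (algebraMap K ℂ) := by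
    intro z hz
    have : NeZero m := ⟨hm0⟩
    obtain ⟨i, -, rfl⟩ := hζ.eq_pow_of_pow_eq_one hz
    exact ⟨⟨ζ ^ i, pow_mem (IntermediateField.subset_adjoin ℚ {ζ} (Set.mem_singleton ζ)) i⟩, rfl⟩
  obtain ⟨d, τ, hτ⟩ := Agent.Char.isKChar_of_exponent_roots hroots
    (Agent.Char.isCharacter_character ρ)
  have hdn : d = n := by
    have h := hτ 1
    rw [Representation.char_one, Representation.char_one, Module.finrank_fin_fun,
      Module.finrank_fin_fun, map_natCast] at h
    exact_mod_cast h.symm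
  subst hdn
  let σ : Representation ℂ G (Fin d → ℂ) :=
    (Matrix.toLinAlgEquiv').toMonoidHom.comp
      (((algebraMap K ℂ).mapMatrix (m := Fin d)).toMonoidHom.comp
        ((LinearMap.toMatrixAlgEquiv').toMonoidHom.comp τ))
  have hσ : ∀ g, LinearMap.toMatrix' (σ g) = (LinearMap.toMatrix' (τ g)).map (algebraMap K ℂ) :=
    fun g => LinearMap.toMatrix'_toLin' _
  refine ⟨σ, Agent.Char.equiv_of_character_eq ρ σ (funext fun g => ?_), fun g i j => ?_⟩
  · rw [hτ g, Representation.character, Representation.character]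
    conv_lhs => rw [← Matrix.toLin'_toMatrix' (τ g), Matrix.trace_toLin'_eq]
    conv_rhs => rw [← Matrix.toLin'_toMatrix' (σ g), Matrix.trace_toLin'_eq, hσ]
    exact AddMonoidHom.map_trace (algebraMap K ℂ).toAddMonoidHom _
  · rw [hσ, Matrix.map_apply]
    have h : ((LinearMap.toMatrix' (τ g) i j : K) : ℂ) ∈ K.toSubalgebra :=
      (LinearMap.toMatrix' (τ g) i j).2
    rw [IntermediateField.adjoin_simple_toSubalgebra_of_isAlgebraic halg] at h
    exact h

end Cfsg.Agent.S0166
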