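import Cfsg.Statements.S0167
import Cfsg.Agent.Lib.Char.Orth
import Cfsg.Agent.Lib.CharApp.Schur

set_option autoImplicit false
open Cfsg

namespace Cfsg.Agent.S0167

/-- An element g of a finite group is a commutator if and only if the sum over the irreducible characters χ of χ g / χ 1 is nonzero. -/
theorem result {G : Type*} [Group G] [Finite G] (g : G) : (∃ a b : G, g = a * b * a⁻¹ * b⁻¹) ↔ ∑ᶠ χ : Cfsg.IrrCharacter G, (χ : G → ℂ) g / (χ : G → ℂ) 1 ≠ 0 := by
  classical
  haveI := Fintype.ofFinite G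
  haveI := Fintype.ofFinite (Cfsg.IrrCharacter G)
  rw [finsum_eq_sum_of_fintype]
  -- the count of pairs
  set N := (Finset.univ.filter fun p : G × G => g = p.1 * p.2 * p.1⁻¹ * p.2⁻¹).card with hN
  have hcount : (Nat.card G : ℂ) * N =
      (Nat.card G : ℂ) ^ 2 * ∑ χ : Cfsg.IrrCharacter G, (χ : G → ℂ) g⁻¹ / (χ : G → ℂ) 1 := by
    have hχ : ∀ χ : Cfsg.IrrCharacter G,
        (Nat.card G : ℂ) ^ 2 * ((χ : G → ℂ) g⁻¹ / (χ : G → ℂ) 1) =
          (χ : G → ℂ) 1 * ∑ p : G × G, (χ : G → ℂ) (p.1 * p.2 * p.1⁻¹ * p.2⁻¹ * g⁻¹) := by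
      rintro ⟨χ, n, ρ, hρ, rfl⟩
      haveI := hρ
      rw [Fintype.sum_prod_type]
      simp only [Representation.char_one]
      rw [CharApp.sum_char_commutator_mul]
      have := CharApp.finrank_cast_ne_zero ρ
      field_simp
    rw [Finset.mul_sum, Finset.sum_congr rfl fun χ _ => hχ χ]
    simp only [Finset.mul_sum]
    rw [Finset.sum_comm, Finset.sum_congr rfl fun p _ => Char.sum_degree_mul_apply _,
      Finset.sum_ite, Finset.sum_const_zero, add_zero, Finset.sum_const, nsmul_eq_mul, mul_comm, hN]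
    congr 3
    exact Finset.filter_congr fun p _ => by rw [mul_inv_eq_one, eq_comm]
  have hconj : ∑ χ : Cfsg.IrrCharacter G, (χ : G → ℂ) g⁻¹ / (χ : G → ℂ) 1 =
      starRingEnd ℂ (∑ χ : Cfsg.IrrCharacter G, (χ : G → ℂ) g / (χ : G → ℂ) 1) := by
    rw [map_sum]
    refine Finset.sum_congr rfl fun χ _ => ?_
    have hc := Char.IsIrrCharacter.isCharacter χ.2
    rw [map_div₀, Char.IsCharacter.apply_inv hc, Char.IsCharacter.conj_apply_one hc]
  have hG : (Nat.card G : ℂ) ≠ 0 := Nat.cast_ne_zero.mpr Nat.card_pos.ne'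
  constructor
  · rintro ⟨a, b, hab⟩ hzero
    rw [hconj, hzero, map_zero, mul_zero, mul_eq_zero] at hcount
    have : N = 0 := by exact_mod_cast hcount.resolve_left hG
    rw [hN, Finset.card_eq_zero, Finset.filter_eq_empty_iff] at this
    exact this (x := (a, b)) (Finset.mem_univ _) hab
  · intro hne
    by_contra hno
    push Not at hno
    have : N = 0 := by
      rw [hN, Finset.card_eq_zero, Finset.filter_eq_empty_iff]
      exact fun p _ => hno p.1 p.2
    rw [this, Nat.cast_zero, mul_zero, hconj, eq_comm, mul_eq_zero] at hcount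
    exact hne (star_eq_zero.mp (hcount.resolve_left (pow_ne_zero 2 hG)))

end Cfsg.Agent.S0167
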