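import Cfsg.Statements.S0198
import Cfsg.Agent.Lib.Char.Orth

set_option autoImplicit false
open Cfsg

namespace Cfsg.Agent.S0198

/-- An integer vector of square norm two with vanishing positive weighted sum is a difference of two unit vectors. -/
theorem exists_pair_of_sq_two {ι : Type*} [Fintype ι] [DecidableEq ι] (a : ι → ℤ) (d : ι → ℕ)
    (hd : ∀ φ, 0 < d φ) (hsq : ∑ φ, a φ ^ 2 = 2) (hsum : ∑ φ, a φ * (d φ : ℤ) = 0) :
    ∃ x y, x ≠ y ∧ a x = 1 ∧ a y = -1 ∧ ∀ φ, φ ≠ x → φ ≠ y → a φ = 0 := by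
  have hle : ∀ φ, a φ = 0 ∨ a φ = 1 ∨ a φ = -1 := by
    intro φ
    have h := Finset.single_le_sum (f := fun φ => a φ ^ 2) (fun i _ => sq_nonneg _) (Finset.mem_univ φ)
    simp only [hsq] at h
    have : -1 ≤ a φ ∧ a φ ≤ 1 := ⟨by nlinarith, by nlinarith⟩
    omega
  set S := Finset.univ.filter (fun φ => a φ ≠ 0) with hS
  have hScard : S.card = 2 := by
    have h : ∑ φ, a φ ^ 2 = ∑ φ, if a φ ≠ 0 then (1 : ℤ) else 0 := by
      refine Finset.sum_congr rfl fun φ _ => ?_
      rcases hle φ with h | h | h <;> simp [h]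
    rw [h, Finset.sum_boole] at hsq
    exact_mod_cast hsq
  obtain ⟨u, v, huv, hSe⟩ := Finset.card_eq_two.mp hScard
  have h0 : ∀ φ, φ ≠ u → φ ≠ v → a φ = 0 := by
    intro φ h1 h2
    by_contra hne
    have : φ ∈ S := by simp [hS, hne]
    simp [hSe, h1, h2] at this
  have hu : a u ≠ 0 := by
    have : u ∈ S := by simp [hSe]
    simpa [hS] using this
  have hv : a v ≠ 0 := by
    have : v ∈ S := by simp [hSe]
    simpa [hS] using this
  rw [Fintype.sum_eq_add u v huv (fun φ h => by simp [h0 φ h.1 h.2])] at hsum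
  have hdu := hd u
  have hdv := hd v
  rcases hle u with h | h | h
  · exact absurd h hu
  · rcases hle v with h' | h' | h'
    · exact absurd h' hv
    · rw [h, h'] at hsum; omega
    · exact ⟨u, v, huv, h, h', h0⟩
  · rcases hle v with h' | h' | h'
    · exact absurd h' hv
    · exact ⟨v, u, huv.symm, h', h, fun φ a b => h0 φ b a⟩
    · rw [h, h'] at hsum; omega

/-- A generalized character vanishing at `1` of norm two is a difference of two irreducible characters. -/
theorem exists_irr_sub {G : Type*} [Group G] [Fintype G] {θ : G → ℂ}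
    (hθ : Cfsg.IsGeneralizedCharacter G θ) (h1 : θ 1 = 0) (hn : Cfsg.classInner θ θ = 2) :
    ∃ x y : Cfsg.IrrCharacter G, x ≠ y ∧ θ = (x : G → ℂ) - (y : G → ℂ) := by
  classical
  let _ : Fintype (Cfsg.IrrCharacter G) := Fintype.ofFinite _
  obtain ⟨χ, ψ, hχ, hψ, rfl⟩ := hθ
  obtain ⟨m, hm, -⟩ := Cfsg.Agent.Char.IsCharacter.decompose hχ
  obtain ⟨m', hm', -⟩ := Cfsg.Agent.Char.IsCharacter.decompose hψ
  set a : Cfsg.IrrCharacter G → ℤ := fun φ => (m φ : ℤ) - (m' φ : ℤ) with ha
  have hθ : χ - ψ = ∑ φ : Cfsg.IrrCharacter G, (a φ : ℂ) • (φ : G → ℂ) := by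
    rw [hm, hm', ← Finset.sum_sub_distrib]
    refine Finset.sum_congr rfl fun φ _ => ?_
    rw [← sub_smul]; congr 1; simp [ha]
  choose d hd using fun φ : Cfsg.IrrCharacter G =>
    Cfsg.Agent.Char.IsCharacter.exists_degree (Cfsg.Agent.Char.IsIrrCharacter.isCharacter φ.2)
  have hdpos : ∀ φ, 0 < d φ := by
    intro φ
    rcases Nat.eq_zero_or_pos (d φ) with h | h
    · exact absurd (by rw [hd φ, h, Nat.cast_zero]) (Cfsg.Agent.Char.IsIrrCharacter.apply_one_ne_zero φ.2)
    · exact h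
  have hsum : ∑ φ, a φ * (d φ : ℤ) = 0 := by
    rw [hθ] at h1
    simp only [Finset.sum_apply, Pi.smul_apply, smul_eq_mul, hd] at h1
    exact_mod_cast h1
  have hsq : ∑ φ, a φ ^ 2 = 2 := by
    rw [hθ, Cfsg.Agent.Char.classInner_sum_right] at hn
    rw [Finset.sum_congr rfl (fun φ _ => by
      rw [Cfsg.Agent.Char.classInner_smul_right,
        Cfsg.Agent.Char.classInner_sum_smul (fun φ => (a φ : ℂ)) Finset.univ φ (Finset.mem_univ φ)])] at hn
    simp only [map_intCast, ← pow_two] at hn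
    exact_mod_cast hn
  obtain ⟨x, y, hxy, hx, hy, h0⟩ := exists_pair_of_sq_two a d hdpos hsq hsum
  refine ⟨x, y, hxy, ?_⟩
  rw [hθ, Fintype.sum_eq_add x y hxy (fun φ h => by simp [h0 φ h.1 h.2]), hx, hy]
  simp [sub_eq_add_neg]

/-- The isometry lemma behind exceptional characters. Let τ be a family of generalized characters of a finite group G indexed by Fin n, with τ i₀ = 0, every τ i vanishing at the identity, and inner products ⟨τ i, τ j⟩ = 2 if i = j and 1 otherwise for i, j ≠ i₀. Then there are a sign ε and pairwise distinct irreducible characters μ i with τ i = ε (μ i − μ i₀) for all i. -/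
theorem result {G : Type*} [Group G] [Fintype G] (n : ℕ) (i₀ : Fin n) (τ : Fin n → (G → ℂ)) (h0 : τ i₀ = 0) (hgen : ∀ i, Cfsg.IsGeneralizedCharacter G (τ i)) (hone : ∀ i, τ i 1 = 0) (hgram : ∀ i j, i ≠ i₀ → j ≠ i₀ → Cfsg.classInner (τ i) (τ j) = if i = j then 2 else 1) : ∃ ε : ℂ, (ε = 1 ∨ ε = -1) ∧ ∃ μ : Fin n → (G → ℂ), (∀ i, Cfsg.IsIrrCharacter G (μ i)) ∧ Function.Injective μ ∧ ∀ i, τ i = ε • (μ i - μ i₀) := by
  classical
  have hfin : Finite (Cfsg.IrrCharacter G) := inferInstance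
  have hnorm : ∀ i, i ≠ i₀ → Cfsg.classInner (τ i) (τ i) = 2 := fun i hi => by simpa using hgram i i hi hi
  choose x y hxy hτ using fun i : {i : Fin n // i ≠ i₀} =>
    exists_irr_sub (hgen i.1) (hone i.1) (hnorm i.1 i.2)
  have hcases : ∀ i j : {i : Fin n // i ≠ i₀}, i ≠ j →
      (x i = x j ∧ y i ≠ y j) ∨ (x i ≠ x j ∧ y i = y j) := by
    intro i j hij
    have h := hgram i.1 j.1 i.2 j.2
    rw [if_neg (fun e => hij (Subtype.ext e)), hτ i, hτ j, Cfsg.Agent.Char.classInner_sub_left,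
      Cfsg.Agent.Char.classInner_sub_right, Cfsg.Agent.Char.classInner_sub_right,
      Cfsg.Agent.Char.classInner_irr (x i).2 (x j).2, Cfsg.Agent.Char.classInner_irr (x i).2 (y j).2,
      Cfsg.Agent.Char.classInner_irr (y i).2 (x j).2, Cfsg.Agent.Char.classInner_irr (y i).2 (y j).2] at h
    simp only [← Subtype.ext_iff] at h
    by_cases a : x i = x j
    · by_cases b : y i = y j
      · have c : x i ≠ y j := fun c => hxy j (a.symm.trans c)
        have e : y i ≠ x j := fun e => hxy j (e.symm.trans b)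
        rw [if_pos a, if_pos b, if_neg c, if_neg e] at h
        norm_num at h
      · exact Or.inl ⟨a, b⟩
    · by_cases b : y i = y j
      · exact Or.inr ⟨a, b⟩
      · rw [if_neg a, if_neg b] at h
        split_ifs at h <;> norm_num at h
  have key : ∀ (u v : {i : Fin n // i ≠ i₀} → Cfsg.IrrCharacter G) (ε : ℂ) (c : Cfsg.IrrCharacter G),
      (∀ i, τ i.1 = ε • ((u i : G → ℂ) - (v i : G → ℂ))) → (∀ i, v i = c) → (∀ i, u i ≠ v i) →
      (∀ i j, i ≠ j → v i = v j → u i ≠ u j) →
      ∃ μ : Fin n → (G → ℂ), (∀ i, Cfsg.IsIrrCharacter G (μ i)) ∧ Function.Injective μ ∧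
        ∀ i, τ i = ε • (μ i - μ i₀) := by
    intro u v ε c hu hv huv hinj
    refine ⟨fun i => if h : i = i₀ then (c : G → ℂ) else (u ⟨i, h⟩ : G → ℂ), fun i => ?_, ?_, fun i => ?_⟩
    · by_cases h : i = i₀
      · simp only [dif_pos h]; exact c.2
      · simp only [dif_neg h]; exact (u ⟨i, h⟩).2
    · intro i j hij
      by_cases hi : i = i₀ <;> by_cases hj : j = i₀
      · rw [hi, hj]
      · simp only [dif_pos hi, dif_neg hj] at hij
        exact absurd ((Subtype.ext hij.symm).trans (hv _).symm) (huv ⟨j, hj⟩)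
      · simp only [dif_neg hi, dif_pos hj] at hij
        exact absurd ((Subtype.ext hij).trans (hv _).symm) (huv ⟨i, hi⟩)
      · simp only [dif_neg hi, dif_neg hj] at hij
        by_contra hne
        exact hinj ⟨i, hi⟩ ⟨j, hj⟩ (fun e => hne (congrArg Subtype.val e)) (by rw [hv, hv]) (Subtype.ext hij)
    · by_cases h : i = i₀
      · subst h; simp [h0]
      · simp only [dif_neg h, dite_true]
        rw [← hv ⟨i, h⟩]; exact hu ⟨i, h⟩
  by_cases hally : ∀ i j, y i = y j
  · by_cases hne : Nonempty {i : Fin n // i ≠ i₀}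
    · obtain ⟨k⟩ := hne
      refine ⟨1, Or.inl rfl, key x y 1 (y k) (fun i => by rw [one_smul, hτ i]) (fun i => hally i k) hxy ?_⟩
      intro i j hij hy'
      rcases hcases i j hij with ⟨-, h⟩ | ⟨h, -⟩
      · exact absurd hy' h
      · exact h
    · refine ⟨1, Or.inl rfl, key x y 1 ⟨_, Cfsg.Agent.Char.isIrrCharacter_one⟩ (fun i => absurd ⟨i⟩ hne)
        (fun i => absurd ⟨i⟩ hne) (fun i => absurd ⟨i⟩ hne) (fun i => absurd ⟨i⟩ hne)⟩
  · push Not at hally
    obtain ⟨i, j, hij⟩ := hally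
    have hx' : ∀ k, x k = x i := by
      intro k
      have hxij : x i = x j := by
        rcases hcases i j (fun e => hij (congrArg y e)) with ⟨h, -⟩ | ⟨-, h⟩
        · exact h
        · exact absurd h hij
      by_contra hk
      have e1 : y k = y i := by
        rcases hcases k i (fun e => hk (congrArg x e)) with ⟨h, -⟩ | ⟨-, h⟩
        · exact absurd h hk
        · exact h
      have e2 : y k = y j := by
        rcases hcases k j (fun e => hk (by rw [hxij]; exact congrArg x e)) with ⟨h, -⟩ | ⟨-, h⟩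
        · exact absurd (h.trans hxij.symm) hk
        · exact h
      exact hij (e1.symm.trans e2)
    refine ⟨-1, Or.inr rfl, key y x (-1) (x i) (fun k => ?_) hx' (fun k => (hxy k).symm) ?_⟩
    · rw [neg_one_smul, neg_sub, hτ k]
    · intro a b hab hxab
      rcases hcases a b hab with ⟨-, h⟩ | ⟨h, -⟩
      · exact h
      · exact absurd hxab h

end Cfsg.Agent.S0198
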