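import Cfsg.Statements.S0170
import Cfsg.Agent.Lib.Char.Induced
import Cfsg.Agent.S0198

set_option autoImplicit false
open Cfsg

namespace Cfsg.Agent.S0170

/-- Exceptional characters. Let S be a subset of a finite group contained in its normalizer N and meeting its conjugates by elements outside N only in the identity. Given n ≥ 2 distinct irreducible characters of N of equal degree that vanish on N away from S, there exist a sign ε and n distinct irreducible characters θ_i of G such that inducing χ_i − χ_j to G gives ε (θ_i − θ_j) for all i, j. -/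
theorem result {G : Type*} [Group G] [Fintype G] (S : Set G) (hSN : S ⊆ Subgroup.normalizer S) (hTI : ∀ g : G, g ∉ Subgroup.normalizer S → ∀ s ∈ S, g * s * g⁻¹ ∈ S → s = 1) (n : ℕ) (hn : 2 ≤ n) (χ : Fin n → (Subgroup.normalizer S → ℂ)) (hirr : ∀ i, Cfsg.IsIrrCharacter (Subgroup.normalizer S) (χ i)) (hinj : Function.Injective χ) (hvan : ∀ i, ∀ x : Subgroup.normalizer S, (x : G) ∉ S → χ i x = 0) (hdeg : ∀ i j, χ i 1 = χ j 1) : ∃ ε : ℂ, (ε = 1 ∨ ε = -1) ∧ ∃ θ : Fin n → (G → ℂ), (∀ i, Cfsg.IsIrrCharacter G (θ i)) ∧ Function.Injective θ ∧ ∀ i j, Cfsg.indFun (Subgroup.normalizer S) (χ i) - Cfsg.indFun (Subgroup.normalizer S) (χ j) = ε • (θ i - θ j) := by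
  classical
  let N := Subgroup.normalizer S
  haveI := Fintype.ofFinite N
  let i₀ : Fin n := ⟨0, by omega⟩
  let τ : Fin n → G → ℂ := fun i => Cfsg.indFun N (χ i) - Cfsg.indFun N (χ i₀)
  have hdiff : ∀ i, τ i = Cfsg.indFun N (χ i - χ i₀) := fun i => (Char.indFun_sub N _ _).symm
  have hgen : ∀ i, Cfsg.IsGeneralizedCharacter G (τ i) := fun i =>
    ⟨_, _, Char.IsCharacter.indFun N (Char.IsIrrCharacter.isCharacter (hirr i)),
      Char.IsCharacter.indFun N (Char.IsIrrCharacter.isCharacter (hirr i₀)), rfl⟩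
  have hone : ∀ i, τ i 1 = 0 := fun i => by
    rw [hdiff, Char.indFun_one_apply, Pi.sub_apply, hdeg i i₀, sub_self, mul_zero]
  have hgram : ∀ i j, i ≠ i₀ → j ≠ i₀ →
      Cfsg.classInner (τ i) (τ j) = if i = j then 2 else 1 := by
    intro i j hi hj
    rw [hdiff, hdiff, Char.indFun_ti_isometry S hTI (χ i - χ i₀) (χ j - χ i₀)
      (Char.isClassFunction_sub (Char.IsIrrCharacter.isClassFunction (hirr i))
        (Char.IsIrrCharacter.isClassFunction (hirr i₀)))
      (fun x hx => by simp [hvan i x hx, hvan i₀ x hx])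
      (fun x hx => by simp [hvan j x hx, hvan i₀ x hx])
      (by rw [Pi.sub_apply, hdeg i i₀, sub_self])]
    rw [Char.classInner_sub_left, Char.classInner_sub_right, Char.classInner_sub_right,
      Char.classInner_irr (hirr i) (hirr j), Char.classInner_irr_of_ne (hirr i) (hirr i₀) (hinj.ne hi),
      Char.classInner_irr_of_ne (hirr i₀) (hirr j) (hinj.ne (Ne.symm hj)),
      Char.classInner_irr_self (hirr i₀)]
    by_cases hij : i = j
    · subst hij; simp; norm_num
    · simp [hij, hinj.ne hij]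
  obtain ⟨ε, hε, μ, hμ, hμinj, hμτ⟩ :=
    S0198.result n i₀ τ (sub_self _) hgen hone hgram
  refine ⟨ε, hε, μ, hμ, hμinj, fun i j => ?_⟩
  calc Cfsg.indFun N (χ i) - Cfsg.indFun N (χ j) = τ i - τ j := by simp only [τ]; abel
    _ = ε • (μ i - μ j) := by rw [hμτ i, hμτ j, ← smul_sub]; congr 1; abel

end Cfsg.Agent.S0170
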