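import Cfsg.Statements.S0171
import Cfsg.Agent.Lib.CliffordChar.Basic
import Cfsg.Agent.Lib.CharApp.PermLemma

set_option autoImplicit false
open Cfsg

namespace Cfsg.Agent.S0171

/-- In a Frobenius group a nontrivial kernel element has its centraliser inside the kernel. -/
theorem centralizer_le {G : Type*} [Group G] [Finite G] (K H : Subgroup G) [K.Normal]
    (hKH : K ⊓ H = ⊥) (hKH' : K ⊔ H = ⊤)
    (hfpf : ∀ h ∈ H, h ≠ 1 → ∀ k ∈ K, h * k = k * h → k = 1) (k : K) (hk : k ≠ 1) (g : G)
    (hc : Commute (k : G) g) : g ∈ K := by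
  by_contra hg
  obtain ⟨k₁, hk₁, h, hh, e⟩ := Subgroup.mem_sup_of_normal_left.mp (hKH'.symm ▸ Subgroup.mem_top g : g ∈ K ⊔ H)
  subst e
  have hh1 : h ≠ 1 := fun e => hg (by rw [e, mul_one]; exact hk₁)
  let F : K → K := fun a => ⟨(a : G) * h * (a : G)⁻¹ * h⁻¹, by
    simpa [mul_assoc] using K.mul_mem a.2 ((inferInstance : K.Normal).conj_mem _ (K.inv_mem a.2) h)⟩
  have hF : Function.Injective F := by
    intro a b e
    have e' : (a : G) * h * (a : G)⁻¹ * h⁻¹ = (b : G) * h * (b : G)⁻¹ * h⁻¹ := congrArg Subtype.val e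
    have e1 : h * ((a : G)⁻¹ * b) = ((a : G)⁻¹ * b) * h :=
      calc h * ((a : G)⁻¹ * b) = (a : G)⁻¹ * ((a : G) * h * (a : G)⁻¹ * h⁻¹) * h * b := by group
        _ = (a : G)⁻¹ * ((b : G) * h * (b : G)⁻¹ * h⁻¹) * h * b := by rw [e']
        _ = ((a : G)⁻¹ * b) * h := by group
    exact Subtype.ext (inv_mul_eq_one.mp (hfpf h hh hh1 _ (K.mul_mem (K.inv_mem a.2) b.2) e1))
  obtain ⟨a, ha⟩ := Finite.injective_iff_surjective.mp hF ⟨k₁, hk₁⟩
  have ha' : (a : G) * h * (a : G)⁻¹ * h⁻¹ = k₁ := congrArg Subtype.val ha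
  have hg' : k₁ * h = (a : G) * h * (a : G)⁻¹ := by rw [← ha']; group
  rw [hg'] at hc
  have e2 : h * ((a : G)⁻¹ * k * a) = ((a : G)⁻¹ * k * a) * h :=
    calc h * ((a : G)⁻¹ * k * a) = (a : G)⁻¹ * ((a : G) * h * (a : G)⁻¹ * k) * a := by group
      _ = (a : G)⁻¹ * ((k : G) * ((a : G) * h * (a : G)⁻¹)) * a := by rw [hc.eq]
      _ = ((a : G)⁻¹ * k * a) * h := by group
  have := hfpf h hh hh1 _ (K.mul_mem (K.mul_mem (K.inv_mem a.2) k.2) a.2) e2
  exact hk (Subtype.ext (by
    calc (k : G) = (a : G) * ((a : G)⁻¹ * k * a) * (a : G)⁻¹ := by group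
      _ = 1 := by rw [this]; group))


/-- Let G = K H with K normal, K ⊓ H trivial, and no non-identity element of H commuting with a non-identity element of K (a Frobenius group with kernel K and complement H). Then every non-principal irreducible character of K induces to an irreducible character of G. -/
theorem result {G : Type*} [Group G] [Fintype G] (K H : Subgroup G) [K.Normal] (hKH : K ⊓ H = ⊥) (hKH' : K ⊔ H = ⊤) (hfpf : ∀ h ∈ H, h ≠ 1 → ∀ k ∈ K, h * k = k * h → k = 1) (τ : K → ℂ) (hτ : Cfsg.IsIrrCharacter K τ) (hτ1 : τ ≠ fun _ => 1) : Cfsg.IsIrrCharacter G (Cfsg.indFun K τ) := by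
  classical
  haveI := Fintype.ofFinite K
  rw [Char.isIrrCharacter_iff_norm_one (Char.IsCharacter.indFun K (Char.IsIrrCharacter.isCharacter hτ)),
    Char.frobenius_reciprocity' K τ (Char.indFun_isClassFunction K τ),
    show (fun n : K => Cfsg.indFun K τ (n : G)) = (Nat.card K : ℂ)⁻¹ • CliffordChar.orbitSum K τ from
      funext fun n => CliffordChar.indFun_coe K τ n,
    Char.classInner_smul_left, CliffordChar.classInner_orbitSum K hτ hτ]
  have hstab : (Finset.univ.filter fun x : G => CliffordChar.conjFun K x τ = τ) =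
      Finset.univ.filter fun x : G => x ∈ K := by
    ext x
    simp only [Finset.mem_filter, Finset.mem_univ, true_and]
    constructor
    · intro hx
      by_contra hxK
      -- only the trivial class, so only the principal character, is fixed
      have h := CharApp.card_fixed_automorphism (MulAut.conjNormal x⁻¹ : K ≃* K)
      have h1 : Nat.card {C : ConjClasses K //
          ConjClasses.map ((MulAut.conjNormal x⁻¹ : K ≃* K)).toMonoidHom C = C} = 1 := by
        rw [Nat.card_eq_one_iff_exists]
        refine ⟨⟨ConjClasses.mk 1, ?_⟩, fun C => Subtype.ext ?_⟩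
        · exact congrArg ConjClasses.mk (map_one _)
        · obtain ⟨k, hk⟩ := ConjClasses.mk_surjective C.1
          rw [← hk]
          refine congrArg ConjClasses.mk ?_
          by_contra hk1
          have hC := C.2
          rw [← hk] at hC
          obtain ⟨a, ha⟩ := isConj_iff.mp (ConjClasses.mk_eq_mk_iff_isConj.mp hC.symm)
          have ha' : (a : G) * k * (a : G)⁻¹ = x⁻¹ * k * x := by
            have := congrArg Subtype.val ha
            simpa using this
          have hcomm : Commute (k : G) (x * a) := by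
            show (k : G) * (x * a) = x * a * k
            calc (k : G) * (x * a) = x * (x⁻¹ * k * x) * a := by group
              _ = x * ((a : G) * k * (a : G)⁻¹) * a := by rw [ha']
              _ = x * a * k := by group
          have hmem := centralizer_le K H hKH hKH' hfpf k hk1 _ hcomm
          exact hxK (by simpa using K.mul_mem hmem (K.inv_mem a.2))
      rw [h, Nat.card_eq_one_iff_unique] at h1
      have := @Subsingleton.elim _ h1.1
        (⟨⟨τ, hτ⟩, hx⟩ : {χ : Cfsg.IrrCharacter K // (χ : K → ℂ) ∘ (MulAut.conjNormal x⁻¹ : K ≃* K) = (χ : K → ℂ)})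
        ⟨⟨1, Char.isIrrCharacter_one⟩, rfl⟩
      exact hτ1 (congrArg (fun y => (y.1.1 : K → ℂ)) this)
    · intro hx
      funext n
      rw [CliffordChar.conjFun_apply]
      have h := Char.IsIrrCharacter.isClassFunction hτ n ⟨x⁻¹, K.inv_mem hx⟩
      rw [← h]
      congr 1
      ext
      simp
  rw [hstab, ← Fintype.card_subtype, ← Nat.card_eq_fintype_card]
  exact inv_mul_cancel₀ (Nat.cast_ne_zero.mpr Nat.card_pos.ne')

end Cfsg.Agent.S0171
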