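import Cfsg.Statements.S0172
import Cfsg.Agent.EqLemmas

set_option autoImplicit false
open Cfsg

namespace Cfsg.Agent.S0172

/-- Class number of a Frobenius group: if G = K H with K normal, K ⊓ H trivial and no non-identity element of H commuting with a non-identity element of K, then |H| * k(G) + 1 = |H| * k(H) + k(K), where k denotes the number of conjugacy classes. -/
theorem result {G : Type*} [Group G] [Finite G] (K H : Subgroup G) [K.Normal] (hKH : K ⊓ H = ⊥) (hKH' : K ⊔ H = ⊤) (hfpf : ∀ h ∈ H, h ≠ 1 → ∀ k ∈ K, h * k = k * h → k = 1) : Nat.card H * Nat.card (ConjClasses G) + 1 = Nat.card H * Nat.card (ConjClasses H) + Nat.card (ConjClasses K) := by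
  classical
  -- every element is `k * h`
  have hsurjKH : ∀ g : G, ∃ k : K, ∃ h : H, g = (k : G) * h := by
    intro g
    have : g ∈ K ⊔ H := hKH'.symm ▸ Subgroup.mem_top g
    obtain ⟨k, hk, h, hh, e⟩ := Subgroup.mem_sup_of_normal_left.mp this
    exact ⟨⟨k, hk⟩, ⟨h, hh⟩, e.symm⟩
  have hdisj : ∀ x : G, x ∈ K → x ∈ H → x = 1 := by
    intro x h1 h2
    have : x ∈ K ⊓ H := ⟨h1, h2⟩
    rwa [hKH, Subgroup.mem_bot] at this
  -- every element outside `K` is a `K`-conjugate of an element of `H`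
  have hconj : ∀ g : G, g ∉ K → ∃ k : K, ∃ h : H, g = (k : G) * h * (k : G)⁻¹ := by
    intro g hg
    obtain ⟨k₁, h, rfl⟩ := hsurjKH g
    have hh1 : (h : G) ≠ 1 := by intro e; exact hg (by rw [e, mul_one]; exact k₁.2)
    let F : K → K := fun k => ⟨(k : G) * h * (k : G)⁻¹ * (h : G)⁻¹, by
      have h3 : (h : G) * (k : G)⁻¹ * (h : G)⁻¹ ∈ K :=
        (inferInstance : K.Normal).conj_mem _ (K.inv_mem k.2) _
      simpa [mul_assoc] using K.mul_mem k.2 h3⟩
    have hF : Function.Injective F := by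
      intro a b e
      have e' : (a : G) * h * (a : G)⁻¹ * (h : G)⁻¹ = (b : G) * h * (b : G)⁻¹ * (h : G)⁻¹ :=
        congrArg Subtype.val e
      have e1 : (h : G) * ((a : G)⁻¹ * b) = ((a : G)⁻¹ * b) * h :=
        calc (h : G) * ((a : G)⁻¹ * b)
            = (a : G)⁻¹ * ((a : G) * h * (a : G)⁻¹ * (h : G)⁻¹) * h * b := by group
          _ = (a : G)⁻¹ * ((b : G) * h * (b : G)⁻¹ * (h : G)⁻¹) * h * b := by rw [e']
          _ = ((a : G)⁻¹ * b) * h := by group
      have := hfpf h h.2 hh1 _ (K.mul_mem (K.inv_mem a.2) b.2) e1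
      exact Subtype.ext (inv_mul_eq_one.mp this)
    obtain ⟨k, hk⟩ := (Finite.injective_iff_surjective.mp hF) k₁
    refine ⟨k, h, ?_⟩
    have : (k : G) * h * (k : G)⁻¹ * (h : G)⁻¹ = k₁ := congrArg Subtype.val hk
    rw [← this]; group
  -- centraliser of an element of `H`
  have hcentH : ∀ h : H, h ≠ 1 → ∀ g : G, Commute (h : G) g → g ∈ H := by
    intro h hh1 g hc
    obtain ⟨k, h', rfl⟩ := hsurjKH g
    have hh1' : (h : G) ≠ 1 := fun e => hh1 (Subtype.ext e)
    have e : (h : G) * k * (h : G)⁻¹ * (h * h' * (h : G)⁻¹ * (h' : G)⁻¹) = k := by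
      calc (h : G) * k * (h : G)⁻¹ * (h * h' * (h : G)⁻¹ * (h' : G)⁻¹)
          = (h : G) * (k * h') * (h : G)⁻¹ * (h' : G)⁻¹ := by group
        _ = (k : G) * h' * h * (h : G)⁻¹ * (h' : G)⁻¹ := by rw [hc.eq]
        _ = k := by group
    have hk1 : (h : G) * k * (h : G)⁻¹ ∈ K := (inferInstance : K.Normal).conj_mem _ k.2 _
    have h2 : (h : G) * h' * (h : G)⁻¹ * (h' : G)⁻¹ = 1 := by
      apply hdisj
      · have : (h : G) * h' * (h : G)⁻¹ * (h' : G)⁻¹ = ((h : G) * k * (h : G)⁻¹)⁻¹ * k := by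
          rw [eq_inv_mul_iff_mul_eq]; exact e
        rw [this]; exact K.mul_mem (K.inv_mem hk1) k.2
      · exact H.mul_mem (H.mul_mem (H.mul_mem h.2 h'.2) (H.inv_mem h.2)) (H.inv_mem h'.2)
    rw [h2, mul_one, mul_inv_eq_iff_eq_mul] at e
    rw [hfpf h h.2 hh1' k k.2 e, one_mul]
    exact h'.2
  -- centraliser of a nontrivial element of `K`
  have hcentK : ∀ k : K, k ≠ 1 → ∀ g : G, Commute (k : G) g → g ∈ K := by
    intro k hk g hc
    by_contra hg
    obtain ⟨a, h, rfl⟩ := hconj g hg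
    have hh : (h : G) ≠ 1 := fun e => hg (by rw [e, mul_one, mul_inv_cancel]; exact K.one_mem)
    have e : (h : G) * ((a : G)⁻¹ * k * a) = ((a : G)⁻¹ * k * a) * h :=
      calc (h : G) * ((a : G)⁻¹ * k * a) = (a : G)⁻¹ * ((a : G) * h * (a : G)⁻¹ * k) * a := by group
        _ = (a : G)⁻¹ * ((k : G) * ((a : G) * h * (a : G)⁻¹)) * a := by rw [hc.eq]
        _ = ((a : G)⁻¹ * k * a) * h := by group
    have := hfpf h h.2 hh _ (K.mul_mem (K.mul_mem (K.inv_mem a.2) k.2) a.2) e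
    exact hk (Subtype.ext (by
      calc (k : G) = (a : G) * ((a : G)⁻¹ * k * a) * (a : G)⁻¹ := by group
        _ = 1 := by rw [this]; group))
  -- counting commuting pairs
  have split : ∀ (M : Type _) [Group M] [Finite M],
      Nat.card {p : M × M // Commute p.1 p.2}
        = Nat.card M + Nat.card {p : M × M // Commute p.1 p.2 ∧ p.1 ≠ 1} := by
    intro M _ _
    rw [← Nat.card_congr (Equiv.sumCompl fun p : {p : M × M // Commute p.1 p.2} => p.1.1 = 1),
      Nat.card_sum]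
    congr 1
    · exact Nat.card_congr
        { toFun := fun p => p.1.1.2
          invFun := fun m => ⟨⟨(1, m), Commute.one_left m⟩, rfl⟩
          left_inv := fun p => Subtype.ext (Subtype.ext (Prod.ext p.2.symm rfl))
          right_inv := fun m => rfl }
    · exact Nat.card_congr
        (Equiv.subtypeSubtypeEquivSubtypeInter (fun p : M × M => Commute p.1 p.2) fun p => ¬ p.1 = 1)
  -- pairs with first entry in `K \\ 1`
  have eK : Nat.card {p : G × G // (Commute p.1 p.2 ∧ p.1 ≠ 1) ∧ p.1 ∈ K}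
      = Nat.card {p : K × K // Commute p.1 p.2 ∧ p.1 ≠ 1} := by
    refine Nat.card_congr
      { toFun := fun p => ⟨(⟨p.1.1, p.2.2⟩, ⟨p.1.2,
          hcentK ⟨p.1.1, p.2.2⟩ (fun e => p.2.1.2 (congrArg Subtype.val e)) _ p.2.1.1⟩),
          Subtype.ext p.2.1.1, fun e => p.2.1.2 (congrArg Subtype.val e)⟩
        invFun := fun p => ⟨((p.1.1 : G), (p.1.2 : G)),
          ⟨congrArg Subtype.val p.2.1, fun e => p.2.2 (Subtype.ext e)⟩, p.1.1.2⟩
        left_inv := fun p => rfl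
        right_inv := fun p => rfl }
  -- pairs with first entry outside `K`
  have eH : Nat.card {p : G × G // (Commute p.1 p.2 ∧ p.1 ≠ 1) ∧ p.1 ∉ K}
      = Nat.card K * Nat.card {p : H × H // Commute p.1 p.2 ∧ p.1 ≠ 1} := by
    rw [← Nat.card_prod]
    symm
    refine Nat.card_congr (Equiv.ofBijective (fun q : K × {p : H × H // Commute p.1 p.2 ∧ p.1 ≠ 1} =>
      (⟨((q.1 : G) * q.2.1.1 * (q.1 : G)⁻¹, (q.1 : G) * q.2.1.2 * (q.1 : G)⁻¹), ?_⟩ :
        {p : G × G // (Commute p.1 p.2 ∧ p.1 ≠ 1) ∧ p.1 ∉ K})) ⟨?_, ?_⟩)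
    · have hne : (q.2.1.1 : G) ≠ 1 := fun e => q.2.2.2 (Subtype.ext e)
      refine ⟨⟨?_, ?_⟩, ?_⟩
      · exact (Commute.conj_iff _).mpr (congrArg Subtype.val q.2.2.1)
      · simpa using hne
      · intro hmem
        refine hne (hdisj _ ?_ q.2.1.1.2)
        have := (inferInstance : K.Normal).conj_mem _ hmem (q.1 : G)⁻¹
        simpa [mul_assoc] using this
    · intro x y hxy
      obtain ⟨a, ⟨⟨h, g⟩, hc, hh⟩⟩ := x
      obtain ⟨b, ⟨⟨h', g'⟩, hc', hh'⟩⟩ := y
      have hxy' := Prod.ext_iff.mp (congrArg Subtype.val hxy)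
      simp only at hxy'
      obtain ⟨h1, h2⟩ := hxy'
      -- `b⁻¹ a` conjugates `h` to `h'`
      have hK : (b : G)⁻¹ * a ∈ K := K.mul_mem (K.inv_mem b.2) a.2
      have e : ((b : G)⁻¹ * a) * h * ((b : G)⁻¹ * a)⁻¹ = h' :=
        calc ((b : G)⁻¹ * a) * h * ((b : G)⁻¹ * a)⁻¹ = (b : G)⁻¹ * ((a : G) * h * (a : G)⁻¹) * b := by group
          _ = (b : G)⁻¹ * ((b : G) * h' * (b : G)⁻¹) * b := by rw [h1]
          _ = h' := by group
      have hhh : (h' : G) * (h : G)⁻¹ = 1 := by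
        apply hdisj
        · rw [← e]
          have h3 : (h : G) * ((b : G)⁻¹ * a)⁻¹ * (h : G)⁻¹ ∈ K :=
            (inferInstance : K.Normal).conj_mem _ (K.inv_mem hK) _
          simpa [mul_assoc] using K.mul_mem hK h3
        · exact H.mul_mem h'.2 (H.inv_mem h.2)
      rw [mul_inv_eq_one] at hhh
      rw [hhh, mul_inv_eq_iff_eq_mul] at e
      have hab := hfpf h h.2 (fun e' => hh (Subtype.ext e')) _ hK e.symm
      have hab' : b = a := Subtype.ext (inv_mul_eq_one.mp hab)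
      subst hab'
      have hh' : h = h' := Subtype.ext hhh.symm
      subst hh'
      have hg' : g = g' := Subtype.ext (mul_left_cancel (mul_right_cancel h2))
      subst hg'
      rfl
    · rintro ⟨⟨x, y⟩, ⟨hc, hx1⟩, hxK⟩
      obtain ⟨a, h, rfl⟩ := hconj x hxK
      have hh : h ≠ 1 := by intro e; exact hx1 (by simp [e])
      have hy : (a : G)⁻¹ * y * a ∈ H := by
        apply hcentH h hh
        show (h : G) * ((a : G)⁻¹ * y * a) = ((a : G)⁻¹ * y * a) * h
        calc (h : G) * ((a : G)⁻¹ * y * a) = (a : G)⁻¹ * ((a : G) * h * (a : G)⁻¹ * y) * a := by group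
          _ = (a : G)⁻¹ * (y * ((a : G) * h * (a : G)⁻¹)) * a := by rw [hc.eq]
          _ = ((a : G)⁻¹ * y * a) * h := by group
      refine ⟨(a, ⟨(h, ⟨_, hy⟩), Subtype.ext ?_, hh⟩), Subtype.ext (Prod.ext rfl ?_)⟩
      · show (h : G) * ((a : G)⁻¹ * y * a) = ((a : G)⁻¹ * y * a) * h
        calc (h : G) * ((a : G)⁻¹ * y * a) = (a : G)⁻¹ * ((a : G) * h * (a : G)⁻¹ * y) * a := by group
          _ = (a : G)⁻¹ * (y * ((a : G) * h * (a : G)⁻¹)) * a := by rw [hc.eq]
          _ = ((a : G)⁻¹ * y * a) * h := by group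
      · show (a : G) * ((a : G)⁻¹ * y * a) * (a : G)⁻¹ = y
        group
  have hKne : 0 < Nat.card K := Nat.card_pos
  have hG : Nat.card G = Nat.card K * Nat.card H := by
    rw [← Nat.card_prod]
    symm
    refine Nat.card_congr (Equiv.ofBijective (fun q : K × H => (q.1 : G) * q.2) ⟨?_, ?_⟩)
    · rintro ⟨a, h⟩ ⟨b, h'⟩ e
      simp only at e
      have e2 : (b : G)⁻¹ * a = h' * (h : G)⁻¹ := by
        rw [inv_mul_eq_iff_eq_mul, ← mul_assoc, eq_mul_inv_iff_mul_eq]; exact e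
      have h1 := hdisj _ (K.mul_mem (K.inv_mem b.2) a.2) (e2 ▸ H.mul_mem h'.2 (H.inv_mem h.2))
      have hab : b = a := Subtype.ext (inv_mul_eq_one.mp h1)
      subst hab
      exact Prod.ext rfl (Subtype.ext (mul_left_cancel e))
    · intro g
      obtain ⟨a, h, e⟩ := hsurjKH g
      exact ⟨(a, h), e.symm⟩
  have hGpairs : Nat.card {p : G × G // Commute p.1 p.2 ∧ p.1 ≠ 1}
      = Nat.card {p : K × K // Commute p.1 p.2 ∧ p.1 ≠ 1}
        + Nat.card K * Nat.card {p : H × H // Commute p.1 p.2 ∧ p.1 ≠ 1} := by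
    rw [← eK, ← eH, ← Nat.card_sum]
    refine (Nat.card_congr ?_).symm
    exact (Equiv.sumCongr (Equiv.subtypeSubtypeEquivSubtypeInter _ fun p : G × G => p.1 ∈ K).symm
      (Equiv.subtypeSubtypeEquivSubtypeInter _ fun p : G × G => p.1 ∉ K).symm).trans
        (Equiv.sumCompl fun p : {p : G × G // Commute p.1 p.2 ∧ p.1 ≠ 1} => p.1.1 ∈ K)
  have cG := split G
  have cK := split K
  have cH := split H
  rw [card_comm_eq_card_conjClasses_mul_card] at cG cK cH
  rw [hGpairs, hG] at cG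
  refine Nat.eq_of_mul_eq_mul_left hKne ?_
  nlinarith

end Cfsg.Agent.S0172
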