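import Cfsg.Statements.S0174
import Cfsg.Agent.Lib.CliffordChar.Basic

set_option autoImplicit false
open Cfsg

namespace Cfsg.Agent.S0174

/-- The Clifford Theorem for characters: if θ is an irreducible character of a finite group G, N is a normal subgroup and χ is an irreducible character of N occurring in the restriction of θ, then θ restricted to N equals e times the sum of the distinct G-conjugates of χ, where e is the inner product of the restriction with χ. -/
theorem result {G : Type*} [Group G] [Fintype G] (N : Subgroup G) [Fintype N] (hN : N.Normal) (θ : G → ℂ) (hθ : Cfsg.IsIrrCharacter G θ) (χ : N → ℂ) (hχ : Cfsg.IsIrrCharacter N χ) (hconst : Cfsg.classInner (fun n : N => θ n) χ ≠ 0) : (fun n : N => θ n) = Cfsg.classInner (fun n : N => θ n) χ • ∑ᶠ ψ ∈ {ψ : N → ℂ | ∃ g : G, ψ = fun n : N => χ ⟨g * n * g⁻¹, hN.conj_mem n n.2 g⟩}, ψ := by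
  classical
  haveI := hN
  let S : Set (N → ℂ) := {ψ : N → ℂ | ∃ g : G, ψ = fun n : N => χ ⟨g * n * g⁻¹, hN.conj_mem n n.2 g⟩}
  show (fun n : N => θ n) = Cfsg.classInner (fun n : N => θ n) χ • ∑ᶠ ψ ∈ S, ψ
  have hmem : ∀ ψ, ψ ∈ S ↔ ∃ x : G, CliffordChar.conjFun N x χ = ψ := by
    intro ψ
    constructor
    · rintro ⟨g, rfl⟩
      refine ⟨g⁻¹, funext fun n => ?_⟩
      rw [CliffordChar.conjFun_apply]
      simp only [inv_inv]
    · rintro ⟨x, rfl⟩
      refine ⟨x⁻¹, funext fun n => ?_⟩
      rw [CliffordChar.conjFun_apply]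
      simp only [inv_inv]
  have hSf : S.Finite := (Set.finite_range fun x : G => CliffordChar.conjFun N x χ).subset fun ψ h => (hmem ψ).mp h
  rw [finsum_mem_eq_finite_toFinset_sum (fun ψ => ψ) hSf]
  have hirr : ∀ ψ ∈ hSf.toFinset, Cfsg.IsIrrCharacter N ψ := by
    intro ψ h
    obtain ⟨x, rfl⟩ := (hmem ψ).mp (hSf.mem_toFinset.mp h)
    exact CliffordChar.isIrr_conjFun N x hχ
  have hres : Cfsg.IsClassFunction N (fun n : N => θ n) :=
    Char.IsCharacter.isClassFunction (Char.IsCharacter.restrict (Char.IsIrrCharacter.isCharacter hθ) N)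
  refine Char.classFunction_ext hres (Char.isClassFunction_smul (Char.isClassFunction_sum _ fun ψ h =>
    Char.IsIrrCharacter.isClassFunction (hirr ψ h)) _) fun φ => ?_
  rw [Char.classInner_smul_left, Char.classInner_sum_left,
    Finset.sum_congr rfl fun ψ h => Char.classInner_irr (hirr ψ h) φ.2, Finset.sum_ite_eq']
  split_ifs with h
  · obtain ⟨x, hx⟩ := (hmem _).mp (hSf.mem_toFinset.mp h)
    rw [← hx, CliffordChar.classInner_restrict_conjFun N (Char.IsIrrCharacter.isClassFunction hθ), mul_one]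
  · rw [mul_zero]
    by_contra hne
    exact h (hSf.mem_toFinset.mpr ((hmem _).mpr (CliffordChar.constituents_conjugate N hθ hχ φ.2 hconst hne)))

end Cfsg.Agent.S0174
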