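import Cfsg.Statements.S0175
import Cfsg.Agent.Lib.Char.Induced

set_option autoImplicit false
open Cfsg
open scoped commutatorElement

namespace Cfsg.Agent.S0175

/-- Taketa's Theorem on M-groups: if every irreducible complex character of a finite group is induced from a linear character (a homomorphism to ℂˣ) of some subgroup, the group is solvable. -/
theorem result {G : Type*} [Group G] [Fintype G] (hM : ∀ χ : G → ℂ, Cfsg.IsIrrCharacter G χ → ∃ (H : Subgroup G) (lam : H →* ℂˣ), χ = Cfsg.indFun H (fun h => (lam h : ℂ))) : Group.IsSolvable G := by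
  classical
  haveI := Fintype.ofFinite (Cfsg.IrrCharacter G)
  -- the `(m)`th derived subgroup is in the kernel of every character of degree at most `m`
  have key : ∀ m : ℕ, ∀ χ : G → ℂ, Cfsg.IsIrrCharacter G χ → (χ 1).re ≤ m →
      ∀ x ∈ derivedSeries G m, χ x = χ 1 := by
    intro m
    induction m with
    | zero =>
      intro χ hχ hle
      obtain ⟨d, hd, hd1⟩ := Char.IsIrrCharacter.exists_degree hχ
      rw [hd1, Complex.natCast_re] at hle
      have : d ≤ 0 := by exact_mod_cast hle
      omega
    | succ m ih =>
      intro χ hχ hle
      obtain ⟨d, hd, hd1⟩ := Char.IsIrrCharacter.exists_degree hχ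
      have hdm : d ≤ m + 1 := by
        rw [hd1, Complex.natCast_re] at hle
        exact_mod_cast hle
      by_cases hlow : d ≤ m
      · intro x hx
        exact ih χ hχ (by rw [hd1, Complex.natCast_re]; exact_mod_cast hlow) x (derivedSeries_antitone G (Nat.le_succ m) hx)
      obtain ⟨H, lam, hlam⟩ := hM χ hχ
      have hidx : H.index = d := by
        have := hd1
        rw [hlam, Char.indFun_one_apply, map_one, Units.val_one, mul_one] at this
        exact_mod_cast this
      haveI := Fintype.ofFinite H
      haveI : (derivedSeries G m).Normal := derivedSeries_normal G m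
      -- `derivedSeries G m` lies in `H`
      have hDH : derivedSeries G m ≤ H := by
        by_cases hd2 : d = 1
        · rw [hd2] at hidx
          rw [Subgroup.index_eq_one.mp hidx]; exact le_top
        let π : G → ℂ := Cfsg.indFun H (fun _ => 1)
        have hπc : Cfsg.IsCharacter G π := Char.IsCharacter.indFun H Char.isCharacter_one
        obtain ⟨a, ha, hinner⟩ := Char.IsCharacter.decompose hπc
        choose e he using fun φ : Cfsg.IrrCharacter G =>
          Char.IsCharacter.exists_degree (Char.IsIrrCharacter.isCharacter φ.2)
        let one : Cfsg.IrrCharacter G := ⟨1, Char.isIrrCharacter_one⟩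
        have ha1 : a one = 1 := by
          have h1 : Cfsg.classInner π (1 : G → ℂ) = 1 := by
            rw [Char.frobenius_reciprocity H _ (Char.IsIrrCharacter.isClassFunction Char.isIrrCharacter_one)]
            exact Char.classInner_irr_self (Char.isIrrCharacter_one (G := H))
          exact_mod_cast (hinner one).symm.trans h1
        have hsum : (d : ℕ) = ∑ φ, a φ * e φ := by
          have h1 : π 1 = (d : ℂ) := by
            rw [show π 1 = (H.index : ℂ) * 1 from Char.indFun_one_apply H _, mul_one, hidx]
          rw [ha] at h1
          simp only [Finset.sum_apply, Pi.smul_apply, smul_eq_mul, he] at h1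
          exact_mod_cast h1.symm
        have hker : ∀ φ : Cfsg.IrrCharacter G, ∀ x ∈ derivedSeries G m,
            (a φ : ℂ) * (φ : G → ℂ) x = (a φ : ℂ) * (φ : G → ℂ) 1 := by
          intro φ x hx
          by_cases hφ : φ = one
          · subst hφ; rfl
          by_cases ha0 : a φ = 0
          · simp [ha0]
          congr 1
          refine ih φ φ.2 ?_ x hx
          rw [he φ, Complex.natCast_re]
          have h2 : a one * e one + a φ * e φ ≤ d := by
            rw [hsum, ← Finset.sum_pair (f := fun ψ => a ψ * e ψ) (Ne.symm hφ)]
            exact Finset.sum_le_sum_of_subset (Finset.subset_univ _)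
          have he1 : e one = 1 := by
            have := he one
            exact Nat.cast_injective (R := ℂ) (this.symm.trans Nat.cast_one.symm)
          rw [ha1, he1, one_mul] at h2
          have h3 : e φ ≤ a φ * e φ := Nat.le_mul_of_pos_left _ (Nat.pos_of_ne_zero ha0)
          exact_mod_cast (by omega : e φ ≤ m)
        intro x hx
        have hπx : π x = π 1 := by
          rw [ha]
          simp only [Finset.sum_apply, Pi.smul_apply, smul_eq_mul]
          exact Finset.sum_congr rfl fun φ _ => hker φ x hx
        have hπ : ∀ y, π y = (Nat.card H : ℂ)⁻¹ *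
            ((Finset.univ.filter fun z : G => z⁻¹ * y * z ∈ H).card : ℂ) := by
          intro y
          simp only [π, Cfsg.indFun]
          congr 1
          rw [← Finset.sum_boole]
          refine Finset.sum_congr rfl fun z _ => ?_
          rw [Char.extendByZero_eq]
          split_ifs <;> rfl
        rw [hπ, hπ, mul_right_inj' (inv_ne_zero (Nat.cast_ne_zero.mpr Nat.card_pos.ne')), Nat.cast_inj] at hπx
        have hall : (Finset.univ.filter fun z : G => z⁻¹ * x * z ∈ H) = Finset.univ := by
          refine Finset.eq_univ_of_card _ ?_
          rw [hπx]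
          simp
        have := Finset.eq_univ_iff_forall.mp hall 1
        simpa using this
      intro x hx
      rw [hlam, Cfsg.indFun, Cfsg.indFun]
      congr 1
      refine Finset.sum_congr rfl fun z _ => ?_
      have hz : z⁻¹ * x * z ∈ derivedSeries G (m + 1) := by
        simpa using (derivedSeries_normal G (m + 1)).conj_mem x hx z⁻¹
      have hle' : derivedSeries G (m + 1) ≤ (lam.ker).map H.subtype := by
        rw [derivedSeries_succ, Subgroup.commutator_le]
        intro u hu v hv
        refine ⟨⁅(⟨u, hDH hu⟩ : H), ⟨v, hDH hv⟩⁆, ?_, rfl⟩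
        rw [SetLike.mem_coe, MonoidHom.mem_ker, map_commutatorElement]
        exact commutatorElement_eq_one_iff_mul_comm.mpr (mul_comm _ _)
      obtain ⟨w, hw, hwe⟩ := hle' hz
      have hwe' : (w : G) = z⁻¹ * x * z := hwe
      have hone : z⁻¹ * 1 * z = ((1 : H) : G) := by simp
      rw [← hwe', hone, Char.extendByZero_coe, Char.extendByZero_coe,
        MonoidHom.mem_ker.mp hw, map_one]
  choose d hd using fun φ : Cfsg.IrrCharacter G =>
    Char.IsCharacter.exists_degree (Char.IsIrrCharacter.isCharacter φ.2)
  refine ⟨⟨∑ φ, d φ, ?_⟩⟩
  rw [eq_bot_iff]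
  intro x hx
  rw [Subgroup.mem_bot]
  refine isConj_one_left.mp ((Char.isConj_iff_irr x 1).mpr fun φ => ?_)
  refine key _ φ φ.2 ?_ x hx
  rw [hd φ, Complex.natCast_re]
  exact_mod_cast Finset.single_le_sum (fun ψ _ => Nat.zero_le (d ψ)) (Finset.mem_univ φ)

end Cfsg.Agent.S0175
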