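import Cfsg.Statements.S0178
import Cfsg.Agent.EqLemmas

set_option autoImplicit false
open Cfsg

namespace Cfsg.Agent.S0178

/-- An abelian subgroup has a common eigenvector in a nonzero complex representation. -/
theorem exists_common_eigenvector {G : Type*} [Group G] {V : Type*} [AddCommGroup V] [Module ℂ V]
    [FiniteDimensional ℂ V] (ρ : Representation ℂ G V) [ρ.IsIrreducible] (A : Subgroup G)
    (hA : ∀ a ∈ A, ∀ b ∈ A, a * b = b * a) :
    ∃ w : V, w ≠ 0 ∧ ∀ a ∈ A, ∃ c : ℂ, ρ a w = c • w := by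
  classical
  let P : ℕ → Prop := fun d => ∃ W : Submodule ℂ V, W ≠ ⊥ ∧
    (∀ a ∈ A, ∀ v ∈ W, ρ a v ∈ W) ∧ Module.finrank ℂ W = d
  have hne : Nontrivial V := by
    by_contra h
    rw [not_nontrivial_iff_subsingleton] at h
    exact bot_ne_top (α := Subrepresentation ρ)
      (Subrepresentation.toSubmodule_injective (Subsingleton.elim _ _))
  have hP : ∃ d, P d := ⟨_, ⊤, top_ne_bot, fun _ _ _ _ => Submodule.mem_top, rfl⟩
  obtain ⟨W, hW0, hWinv, hWd⟩ := Nat.find_spec hP
  have hscal : ∀ a ∈ A, ∃ c : ℂ, ∀ v ∈ W, ρ a v = c • v := by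
    intro a ha
    haveI : Nontrivial W := Submodule.nontrivial_iff_ne_bot.mpr hW0
    obtain ⟨c, hc⟩ := Module.End.exists_eigenvalue ((ρ a).restrict (hWinv a ha))
    obtain ⟨u, hu⟩ := hc.exists_hasEigenvector
    refine ⟨c, ?_⟩
    let W' : Submodule ℂ V := W ⊓ LinearMap.ker (ρ a - c • (1 : Module.End ℂ V))
    have hu' : (u : V) ∈ W' := by
      refine ⟨u.2, ?_⟩
      have := congrArg Subtype.val hu.apply_eq_smul
      simp only [LinearMap.coe_restrict_apply, Submodule.coe_smul] at this
      simp [LinearMap.mem_ker, this]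
    have hW'0 : W' ≠ ⊥ := by
      intro h
      rw [h, Submodule.mem_bot] at hu'
      exact hu.2 (Subtype.ext hu')
    have hW'inv : ∀ b ∈ A, ∀ v ∈ W', ρ b v ∈ W' := by
      rintro b hb v ⟨hv, hv'⟩
      refine ⟨hWinv b hb v hv, ?_⟩
      simp only [SetLike.mem_coe, LinearMap.mem_ker, LinearMap.sub_apply, LinearMap.smul_apply,
        Module.End.one_apply, sub_eq_zero] at hv' ⊢
      rw [← Module.End.mul_apply, ← map_mul, hA a ha b hb, map_mul, Module.End.mul_apply, hv',
        map_smul]
    have hle : W' ≤ W := inf_le_left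
    have heq : W' = W := by
      refine Submodule.eq_of_le_of_finrank_le hle ?_
      rw [hWd]
      exact Nat.find_min' hP ⟨W', hW'0, hW'inv, rfl⟩
    intro v hv
    rw [← heq] at hv
    simpa [LinearMap.mem_ker, sub_eq_zero] using hv.2
  obtain ⟨w, hw, hw0⟩ := Submodule.exists_mem_ne_zero_of_ne_bot hW0
  exact ⟨w, hw0, fun a ha => let ⟨c, hc⟩ := hscal a ha; ⟨c, hc w hw⟩⟩


/-- The degree of an irreducible complex representation of a finite group is at most the index of any abelian subgroup. -/
theorem result {G : Type*} [Group G] [Finite G] {V : Type*} [AddCommGroup V] [Module ℂ V] [FiniteDimensional ℂ V] (ρ : Representation ℂ G V) [ρ.IsIrreducible] (A : Subgroup G) (hA : ∀ a ∈ A, ∀ b ∈ A, a * b = b * a) : Module.finrank ℂ V ≤ A.index := by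
  classical
  -- a common eigenvector of `A`
  obtain ⟨w, hw0, hwA⟩ := exists_common_eigenvector ρ A hA
  let f : G ⧸ A → V := fun q => ρ q.out w
  let W : Submodule ℂ V := Submodule.span ℂ (Set.range f)
  have hgen : ∀ g : G, ρ g w ∈ W := by
    intro g
    obtain ⟨a, ha⟩ := QuotientGroup.mk_out_eq_mul A g
    obtain ⟨c, hc⟩ := hwA _ (A.inv_mem a.2)
    have hg : g = (QuotientGroup.mk g : G ⧸ A).out * (a : G)⁻¹ := by rw [ha]; group
    rw [hg, map_mul, Module.End.mul_apply, hc, map_smul]
    exact W.smul_mem _ (Submodule.subset_span ⟨_, rfl⟩)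
  have hinv : ∀ (g : G) ⦃v : V⦄, v ∈ W → ρ g v ∈ W := by
    intro g v hv
    induction hv using Submodule.span_induction with
    | mem x hx =>
      obtain ⟨q, rfl⟩ := hx
      simp only [f, ← Module.End.mul_apply, ← map_mul]
      exact hgen _
    | zero => simp
    | add x y _ _ hx hy => rw [map_add]; exact W.add_mem hx hy
    | smul c x _ hx => rw [map_smul]; exact W.smul_mem c hx
  let S : Subrepresentation ρ := ⟨W, hinv⟩
  rcases eq_bot_or_eq_top S with h | h
  · have hW : W = ⊥ := congrArg Subrepresentation.toSubmodule h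
    have := hgen 1
    rw [hW, Submodule.mem_bot, map_one] at this
    exact absurd this hw0
  · have hW : W = ⊤ := congrArg Subrepresentation.toSubmodule h
    haveI := Fintype.ofFinite (G ⧸ A)
    calc Module.finrank ℂ V = Module.finrank ℂ (⊤ : Submodule ℂ V) := (finrank_top ℂ V).symm
      _ = Module.finrank ℂ W := by rw [hW]
      _ ≤ Fintype.card (G ⧸ A) := finrank_range_le_card (R := ℂ) f
      _ = A.index := by rw [Subgroup.index, Nat.card_eq_fintype_card]

end Cfsg.Agent.S0178
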