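import Cfsg.Statements.S0181
import Cfsg.Agent.Lib.CharApp.Unitary

set_option autoImplicit false
open Cfsg

namespace Cfsg.Agent.S0181

/-- Let H be a normal subgroup of a finite group G and ρ an irreducible complex representation whose kernel does not contain H. If g commutes with no non-identity element of H, then the character of ρ vanishes at g. -/
theorem result {G : Type*} [Group G] [Finite G] {V : Type*} [AddCommGroup V] [Module ℂ V] [FiniteDimensional ℂ V] (ρ : Representation ℂ G V) [ρ.IsIrreducible] (H : Subgroup G) [H.Normal] (hker : ∃ h ∈ H, ρ h ≠ LinearMap.id) (g : G) (hg : ∀ h ∈ H, h * g = g * h → h = 1) : ρ.character g = 0 := by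
  classical
  haveI := Fintype.ofFinite G
  haveI := Fintype.ofFinite H
  -- the sum over `H` of `ρ` is zero
  have hS : ∑ h : H, ρ (h : G) = 0 := by
    obtain ⟨c, hc⟩ := CharApp.exists_scalar_of_commute ρ (∑ h : H, ρ (h : G)) (fun x => by
      rw [Finset.sum_mul, Finset.mul_sum]
      refine Fintype.sum_equiv (MulAut.conjNormal x⁻¹).toEquiv _ _ fun h => ?_
      simp only [MulEquiv.toEquiv_eq_coe, EquivLike.coe_coe, MulAut.conjNormal_apply]
      rw [← map_mul, ← map_mul]
      congr 1
      group)
    obtain ⟨h₀, hh₀, hne⟩ := hker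
    have h1 : ρ h₀ * ∑ h : H, ρ (h : G) = ∑ h : H, ρ (h : G) := by
      rw [Finset.mul_sum]
      refine Fintype.sum_equiv (Equiv.mulLeft (⟨h₀, hh₀⟩ : H)) _ _ fun h => ?_
      rw [← map_mul]; rfl
    rw [hc, mul_smul_comm, mul_one] at h1
    by_cases hc0 : c = 0
    · rw [hc, hc0, zero_smul]
    · exact absurd (smul_right_injective _ hc0 h1) hne
  -- every element of `g H` is an `H`-conjugate of `g`
  let F : H → H := fun h => ⟨g⁻¹ * (h : G) * g * (h : G)⁻¹, H.mul_mem
    (by simpa [mul_assoc] using (inferInstance : H.Normal).conj_mem _ h.2 g⁻¹) (H.inv_mem h.2)⟩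
  have hF : Function.Injective F := by
    intro a b e
    have e' : g⁻¹ * (a : G) * g * (a : G)⁻¹ = g⁻¹ * (b : G) * g * (b : G)⁻¹ :=
      congrArg Subtype.val e
    have e2 : ((b : G)⁻¹ * a) * g = g * ((b : G)⁻¹ * a) :=
      calc ((b : G)⁻¹ * a) * g = (b : G)⁻¹ * g * (g⁻¹ * (a : G) * g * (a : G)⁻¹) * a := by group
        _ = (b : G)⁻¹ * g * (g⁻¹ * (b : G) * g * (b : G)⁻¹) * a := by rw [e']
        _ = g * ((b : G)⁻¹ * a) := by group
    exact Subtype.ext (inv_mul_eq_one.mp (hg _ (H.mul_mem (H.inv_mem b.2) a.2) e2)).symm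
  have hbij : Function.Bijective F := ⟨hF, Finite.injective_iff_surjective.mp hF⟩
  have hsum : ∑ h : H, ρ.character (g * h) = (Fintype.card H : ℂ) * ρ.character g := by
    rw [← (Equiv.ofBijective F hbij).sum_comp fun h : H => ρ.character (g * h)]
    rw [Finset.sum_congr rfl (fun h _ => show ρ.character (g * (Equiv.ofBijective F hbij h : H)) =
      ρ.character g by
        rw [Equiv.ofBijective_apply, show g * (F h : G) = (h : G) * g * (h : G)⁻¹ by
          simp only [F]; group]
        exact Representation.char_conj ρ g h)]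
    simp
  have h0 : ∑ h : H, ρ.character (g * h) = 0 := by
    simp only [Representation.character, map_mul]
    rw [← map_sum, ← Finset.mul_sum, hS, mul_zero, map_zero]
  rw [h0] at hsum
  exact (mul_eq_zero.mp hsum.symm).resolve_left (Nat.cast_ne_zero.mpr Fintype.card_ne_zero)

end Cfsg.Agent.S0181
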