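import Cfsg.Statements.S0186
import Cfsg.Agent.Lib.CharApp.Burnside

set_option autoImplicit false
open Cfsg

namespace Cfsg.Agent.S0186

open Module in
/-- A non-principal irreducible representation of degree at most `p` cannot exist. -/
theorem small_degree_false {G : Type*} [Group G] [Finite G] [IsSimpleGroup G] (p : ℕ) [Fact p.Prime]
    (P : Sylow p G) {n : ℕ} (ρ : Representation ℂ G (Fin n → ℂ)) (hρ : ρ.IsIrreducible)
    (hne : ρ.character ≠ 1) (hcenter : Subgroup.center G = ⊥) (hn : n ≤ p)
    (a b : G) (ha : a ∈ P) (hb : b ∈ P) (hab : ¬ a * b = b * a) : False := by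
  classical
  haveI := hρ
  have hpp : p.Prime := Fact.out
  let φ : G →* Module.End ℂ (Fin n → ℂ) := ρ
  -- `ρ` is faithful
  have hinj : Function.Injective φ := by
    rcases φ.toHomUnits.normal_ker.eq_bot_or_eq_top with h | h
    · exact fun x y e => (MonoidHom.ker_eq_bot_iff _).mp h (Units.ext e)
    · exfalso
      apply hne
      have htriv : ∀ x : G, ρ x = 1 := fun x =>
        congrArg Units.val (MonoidHom.mem_ker.mp (h ▸ Subgroup.mem_top x : x ∈ φ.toHomUnits.ker))
      have hd : finrank ℂ (Fin n → ℂ) = 1 := by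
        obtain ⟨v, hv⟩ := @exists_ne _ (CharApp.nontrivial_of_irr ρ) (0 : Fin n → ℂ)
        rcases CharApp.eq_bot_or_top_of_invariant ρ (Submodule.span ℂ {v}) (fun x w hw => by
          rw [htriv]; exact hw) with hW | hW
        · exact absurd (Submodule.span_singleton_eq_bot.mp hW) hv
        · rw [← finrank_top ℂ, ← hW, finrank_span_singleton hv]
      funext x
      show LinearMap.trace ℂ _ (ρ x) = 1
      rw [htriv, LinearMap.trace_one, hd, Nat.cast_one]
  let σ : Representation ℂ P (Fin n → ℂ) := ρ.comp (P : Subgroup G).subtype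
  have hσinj : Function.Injective σ := fun x y e => Subtype.ext (hinj e)
  obtain ⟨s, hs⟩ := (P.isPGroup' : IsPGroup p P).exists_card_eq
  have hdvd : ∀ q : ℕ, q.Prime → q ∣ Nat.card P → q = p := fun q hq h => by
    rw [hs] at h
    exact (Nat.prime_dvd_prime_iff_eq hq hpp).mp (hq.dvd_of_dvd_pow h)
  rcases lt_or_eq_of_le hn with hlt | heq
  · refine hab (congrArg Subtype.val (CharApp.commute_of_faithful_small σ hσinj (fun q hq h => ?_)
      (⟨a, ha⟩ : P) ⟨b, hb⟩))
    rw [hdvd q hq h, finrank_fin_fun]; exact hlt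
  subst heq
  haveI := Fintype.ofFinite P
  haveI := Fintype.ofFinite (IrrCharacter P)
  obtain ⟨m, he, -⟩ := Char.IsCharacter.decompose (Char.isCharacter_character σ)
  choose e hed hede hedvd using fun ψ : IrrCharacter P => Char.IsIrrCharacter.degree_dvd_card ψ.2
  have hsum : n = ∑ ψ, m ψ * e ψ := by
    have h1 := congrFun he 1
    simp only [Representation.char_one, finrank_fin_fun, Finset.sum_apply, Pi.smul_apply,
      smul_eq_mul, hede] at h1
    exact_mod_cast h1
  by_cases hall : ∀ ψ, m ψ = 0 ∨ e ψ = 1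
  · -- only linear constituents
    have h0 : σ.character ((⟨a, ha⟩ : P) * ⟨b, hb⟩ * (⟨a, ha⟩ : P)⁻¹ * (⟨b, hb⟩ : P)⁻¹) =
        (finrank ℂ (Fin n → ℂ) : ℂ) := by
      rw [← Representation.char_one σ, he]
      simp only [Finset.sum_apply, Pi.smul_apply, smul_eq_mul]
      refine Finset.sum_congr rfl fun ψ _ => ?_
      rcases hall ψ with h | h
      · simp [h]
      · rw [CharApp.apply_commutator_of_degree_one (Char.IsIrrCharacter.isCharacter ψ.2)
          (by rw [hede, h, Nat.cast_one]), hede, h, Nat.cast_one]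
    rw [Char.character_eq_finrank_iff] at h0
    have h1 := hσinj (h0.trans (map_one σ).symm)
    rw [mul_inv_eq_one, mul_inv_eq_iff_eq_mul] at h1
    exact hab (congrArg Subtype.val h1)
  · -- a single constituent of degree `p`: the centre of `P` acts by scalars
    push Not at hall
    obtain ⟨ψ, hm, he1⟩ := hall
    have hep : n ≤ e ψ := by
      have h2 : e ψ ≠ 1 := he1
      obtain ⟨q, hq, hqe⟩ := Nat.exists_prime_and_dvd h2
      rw [← hdvd q hq (hqe.trans (hedvd ψ))]
      exact Nat.le_of_dvd (hed ψ) hqe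
    have hterm : m ψ * e ψ ≤ n := by
      rw [hsum]; exact Finset.single_le_sum (f := fun ψ => m ψ * e ψ) (fun _ _ => Nat.zero_le _) (Finset.mem_univ ψ)
    have hm1 : m ψ = 1 := by
      have := Nat.pos_of_ne_zero hm
      nlinarith [hed ψ]
    have hrest : ∀ χ, χ ≠ ψ → m χ = 0 := by
      intro χ hχ
      have h2 : m ψ * e ψ + m χ * e χ ≤ n := by
        rw [hsum, ← Finset.sum_pair (f := fun ψ => m ψ * e ψ) hχ.symm]
        exact Finset.sum_le_sum_of_subset (Finset.subset_univ _)
      rw [hm1, one_mul] at h2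
      exact (mul_eq_zero.mp (by omega : m χ * e χ = 0)).resolve_right (hed χ).ne'
    have hσψ : σ.character = (ψ : P → ℂ) := by
      rw [he, Finset.sum_eq_single ψ (fun χ _ h => by simp [hrest χ h])
        (fun h => absurd (Finset.mem_univ _) h), hm1, Nat.cast_one, one_smul]
    have hσirr : IsIrrCharacter P σ.character := hσψ ▸ ψ.2
    obtain ⟨k, τ, hτ, hτe⟩ := hσirr
    haveI := hτ
    haveI : Nontrivial P := ⟨⟨a, ha⟩, ⟨b, hb⟩, fun e => hab (by rw [Subtype.mk.inj e])⟩
    haveI := P.isPGroup'.center_nontrivial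
    obtain ⟨z, hz⟩ := exists_ne (1 : Subgroup.center P)
    obtain ⟨c, hc⟩ := CharApp.exists_scalar_of_mem_center τ z.2
    have hnorm : ‖σ.character z‖ = (finrank ℂ (Fin n → ℂ) : ℝ) := by
      have hk : finrank ℂ (Fin k → ℂ) = finrank ℂ (Fin n → ℂ) := by
        have := congrFun hτe 1
        rw [Representation.char_one, Representation.char_one] at this
        exact_mod_cast this
      rw [← hτe, ← hk]
      exact (Char.norm_character_eq_iff τ z).mpr ⟨c, hc⟩
    obtain ⟨c', hc'⟩ := (Char.norm_character_eq_iff σ z).mp hnorm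
    have hzc : ((z : P) : G) ∈ Subgroup.center G := Subgroup.mem_center_iff.mpr fun x => hinj (by
      show ρ _ = ρ _
      have hz' : ρ ((z : P) : G) = c' • LinearMap.id := hc'
      rw [map_mul, map_mul, hz', mul_smul_comm, smul_mul_assoc]
      rfl)
    rw [hcenter, Subgroup.mem_bot] at hzc
    exact hz (Subtype.ext (Subtype.ext hzc))


/-- Let G be a finite simple group of order n and p a prime dividing n. If G has more than n / p^2 conjugacy classes, then every Sylow p-subgroup of G is abelian. -/
theorem result {G : Type*} [Group G] [Finite G] [IsSimpleGroup G] (p : ℕ) [Fact p.Prime] (hp : p ∣ Nat.card G) (hmany : Nat.card G < p ^ 2 * Nat.card (ConjClasses G)) (P : Sylow p G) (a b : G) (ha : a ∈ P) (hb : b ∈ P) : a * b = b * a := by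
  classical
  haveI := Fintype.ofFinite G
  haveI := Fintype.ofFinite (Cfsg.IrrCharacter G)
  by_contra hab
  have hpp : p.Prime := Fact.out
  -- `G` has trivial centre
  have hcenter : Subgroup.center G = ⊥ := by
    rcases (inferInstance : (Subgroup.center G).Normal).eq_bot_or_eq_top with h | h
    · exact h
    · exact absurd (Subgroup.mem_center_iff.mp (h ▸ Subgroup.mem_top b : b ∈ Subgroup.center G) a) hab
  -- the order of `P` is at least `p³`
  obtain ⟨s, hs⟩ := (P.isPGroup' : IsPGroup p P).exists_card_eq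
  have hs3 : 3 ≤ s := by
    by_contra hlt
    apply hab
    obtain rfl | rfl | rfl : s = 0 ∨ s = 1 ∨ s = 2 := by omega
    · haveI : Subsingleton P := (Nat.card_eq_one_iff_unique.mp (by rw [hs, pow_zero])).1
      exact congrArg Subtype.val (Subsingleton.elim (⟨a, ha⟩ * ⟨b, hb⟩ : P) (⟨b, hb⟩ * ⟨a, ha⟩))
    · haveI : IsCyclic P := isCyclic_of_prime_card (p := p) (by rw [hs, pow_one])
      letI : CommGroup P := IsCyclic.commGroup
      exact congrArg Subtype.val (mul_comm (⟨a, ha⟩ : P) ⟨b, hb⟩)
    · exact congrArg Subtype.val (IsPGroup.commutative_of_card_eq_prime_sq hs (⟨a, ha⟩ : P) ⟨b, hb⟩)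
  have hp3 : p ^ 3 ≤ Nat.card G :=
    le_trans (Nat.pow_le_pow_right hpp.pos hs3)
      (hs ▸ Nat.le_of_dvd Nat.card_pos (Subgroup.card_subgroup_dvd_card (P : Subgroup G)))
  -- every non-principal degree exceeds `p`
  choose d hd using fun φ : Cfsg.IrrCharacter G =>
    Char.IsCharacter.exists_degree (Char.IsIrrCharacter.isCharacter φ.2)
  let one : Cfsg.IrrCharacter G := ⟨1, Char.isIrrCharacter_one⟩
  have hbig : ∀ φ, φ ≠ one → p + 1 ≤ d φ := by
    intro φ hφ
    obtain ⟨n, ρ, hρ, hρe⟩ := φ.2
    have hdn : d φ = n := by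
      have := hd φ
      rw [← hρe, Representation.char_one, Module.finrank_fin_fun] at this
      exact_mod_cast this.symm
    by_contra hlt
    refine small_degree_false p P ρ hρ (fun h => hφ (Subtype.ext (hρe.symm.trans h))) hcenter
      (by omega) a b ha hb hab
  have hsum : ∑ φ, d φ ^ 2 = Nat.card G := by
    have := Char.sum_sq_degrees (G := G)
    simp only [hd] at this
    exact_mod_cast this
  have hone : d one = 1 := by
    have := hd one
    simp only [one, Pi.one_apply] at this
    exact_mod_cast this.symm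
  rw [← Finset.add_sum_erase _ _ (Finset.mem_univ one), hone] at hsum
  have hlow := Finset.card_nsmul_le_sum (Finset.univ.erase one) (fun φ => d φ ^ 2) ((p + 1) ^ 2)
    fun φ hφ => Nat.pow_le_pow_left (hbig φ (Finset.mem_erase.mp hφ).1) 2
  rw [Finset.card_erase_of_mem (Finset.mem_univ one), Finset.card_univ, ← Nat.card_eq_fintype_card,
    Char.card_irr_eq_card_conjClasses, smul_eq_mul] at hlow
  obtain ⟨j, hj⟩ : ∃ j, Nat.card (ConjClasses G) = j + 1 :=
    Nat.exists_eq_succ_of_ne_zero Nat.card_pos.ne'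
  rw [hj] at hlow hmany
  rw [Nat.add_sub_cancel] at hlow
  have hpj : p ≤ j := by
    by_contra h
    have : p ^ 2 * (j + 1) ≤ p ^ 3 := by
      rw [pow_succ p 2]; exact Nat.mul_le_mul_left _ (by omega)
    omega
  nlinarith

end Cfsg.Agent.S0186
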