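import Cfsg.Statements.S0189
import Cfsg.Agent.Lib.CharApp.Unitary

set_option autoImplicit false
open Cfsg

namespace Cfsg.Agent.S0189

/-- If a complex character of a finite group vanishes at every non-identity element of a Sylow p-subgroup P, then |P| divides its degree. -/
theorem result {G : Type*} [Group G] [Finite G] (p : ℕ) [Fact p.Prime] (P : Sylow p G) (χ : G → ℂ) (hχ : Cfsg.IsCharacter G χ) (hvan : ∀ g : G, g ∈ P → g ≠ 1 → χ g = 0) : ∃ k : ℕ, χ 1 = (Nat.card P : ℂ) * k := by
  classical
  haveI := Fintype.ofFinite G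
  obtain ⟨n, ρ, rfl⟩ := hχ
  let σ : Representation ℂ P (Fin n → ℂ) := ρ.comp (P : Subgroup G).subtype
  refine ⟨Module.finrank ℂ (Representation.invariants σ), ?_⟩
  haveI := Fintype.ofFinite P
  rw [← CharApp.sum_char_eq_card_mul σ]
  erw [Fintype.sum_eq_single (1 : P)]
  · rfl
  · intro x hx
    exact hvan x x.2 fun h => hx (Subtype.ext h)

end Cfsg.Agent.S0189
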