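import Cfsg.Statements.S0190
import Cfsg.Agent.EqLemmas

set_option autoImplicit false
open Cfsg

namespace Cfsg.Agent.S0190

/-- For a transitive action of a finite group on X, the permutation character g ↦ (number of fixed points of g) is the function induced from the principal character of the stabilizer of any point. -/
theorem result {G : Type*} [Group G] [Fintype G] (X : Type*) [MulAction G X] [Finite X] [MulAction.IsPretransitive G X] (x : X) : (fun g : G => (Nat.card (MulAction.fixedBy X g) : ℂ)) = Cfsg.indFun (MulAction.stabilizer G x) (fun _ => 1) := by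
  classical
  haveI := Fintype.ofFinite X
  funext g
  let H := MulAction.stabilizer G x
  have hval : ∀ y : G, extendByZero H (fun _ => (1 : ℂ)) y = if y ∈ H then 1 else 0 := by
    intro y
    unfold extendByZero
    split_ifs with hy
    · exact Subtype.val_injective.extend_apply (fun _ : H => (1 : ℂ)) 0 ⟨y, hy⟩
    · rw [Function.extend_apply']
      · rfl
      · rintro ⟨⟨a, ha⟩, rfl⟩; exact hy ha
  unfold indFun
  simp only [H] at hval
  simp only [hval, Finset.sum_boole]
  let e : {y : G // y⁻¹ * g * y ∈ H} ≃ MulAction.fixedBy X g × H :=
    { toFun := fun y => (⟨y.1 • x, by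
        have h := y.2
        rw [MulAction.mem_stabilizer_iff, mul_smul, mul_smul, inv_smul_eq_iff] at h
        exact h⟩, ⟨(Classical.choose (MulAction.exists_smul_eq G x (y.1 • x)))⁻¹ * y.1, by
        rw [MulAction.mem_stabilizer_iff, mul_smul, inv_smul_eq_iff]
        exact (Classical.choose_spec (MulAction.exists_smul_eq G x (y.1 • x))).symm⟩)
      invFun := fun p => ⟨Classical.choose (MulAction.exists_smul_eq G x p.1.1) * p.2.1, by
        have hp : p.2.1 • x = x := p.2.2
        rw [MulAction.mem_stabilizer_iff, mul_smul, mul_smul, inv_smul_eq_iff, mul_smul, hp,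
          Classical.choose_spec (MulAction.exists_smul_eq G x p.1.1)]
        exact p.1.2⟩
      left_inv := fun y => Subtype.ext (mul_inv_cancel_left _ _)
      right_inv := fun p => by
        have hp : (Classical.choose (MulAction.exists_smul_eq G x p.1.1) * p.2.1) • x = p.1.1 := by
          rw [mul_smul, show p.2.1 • x = x from p.2.2]
          exact Classical.choose_spec (MulAction.exists_smul_eq G x p.1.1)
        refine Prod.ext (Subtype.ext hp) (Subtype.ext ?_)
        simp only [hp]
        exact inv_mul_cancel_left _ _ }
  have hc : (Finset.univ.filter fun y : G => y⁻¹ * g * y ∈ H).card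
      = Nat.card (MulAction.fixedBy X g) * Nat.card H := by
    rw [← Nat.card_prod, ← Nat.card_congr e, Nat.card_eq_fintype_card, Fintype.card_subtype]
  rw [hc]
  have h0 : (Nat.card (MulAction.stabilizer G x) : ℂ) ≠ 0 := Nat.cast_ne_zero.mpr Nat.card_pos.ne'
  push_cast
  simp only [H]
  field_simp

end Cfsg.Agent.S0190
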