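import Cfsg.Statements.S0192
import Cfsg.Agent.Lib.CharApp.Unitary

set_option autoImplicit false
open Cfsg

namespace Cfsg.Agent.S0192

/-- Brauer's generation criterion. Let G be a finite simple group, H₁ and H₂ subgroups, and χ a non-principal irreducible character. If the multiplicity of the principal character in χ restricted to H₁ ⊓ H₂ is less than the sum of the corresponding multiplicities for H₁ and H₂, then H₁ and H₂ do not generate G. -/
theorem result {G : Type*} [Group G] [Fintype G] [IsSimpleGroup G] (H₁ H₂ : Subgroup G) [Fintype H₁] [Fintype H₂] [Fintype ↥(H₁ ⊓ H₂)] (χ : G → ℂ) (hχ : Cfsg.IsIrrCharacter G χ) (hχ1 : χ ≠ fun _ => 1) (hlt : (Cfsg.classInner (fun x : ↥(H₁ ⊓ H₂) => χ x) (fun _ => 1)).re < (Cfsg.classInner (fun x : H₁ => χ x) (fun _ => 1)).re + (Cfsg.classInner (fun x : H₂ => χ x) (fun _ => 1)).re) : H₁ ⊔ H₂ ≠ ⊤ := by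
  classical
  obtain ⟨n, ρ, hρ, rfl⟩ := hχ
  intro htop
  let W : Subgroup G → Submodule ℂ (Fin n → ℂ) := fun K =>
    Representation.invariants (ρ.comp K.subtype : Representation ℂ K (Fin n → ℂ))
  have hinner : ∀ (K : Subgroup G) [Fintype K],
      (Cfsg.classInner (fun x : K => ρ.character x) (fun _ => 1)).re = Module.finrank ℂ (W K) := by
    intro K _
    have h := CharApp.sum_char_eq_card_mul (ρ.comp K.subtype : Representation ℂ K (Fin n → ℂ))
    unfold Cfsg.classInner
    simp only [map_one, mul_one]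
    rw [show (∑ x : K, ρ.character x) = (Nat.card K : ℂ) * (Module.finrank ℂ (W K) : ℂ) from h,
      ← mul_assoc, inv_mul_cancel₀ (Nat.cast_ne_zero.mpr Nat.card_pos.ne'), one_mul]
    exact Complex.natCast_re _
  rw [hinner, hinner, hinner] at hlt
  norm_cast at hlt
  have hmono : ∀ K L : Subgroup G, K ≤ L → W L ≤ W K := fun K L h v hv x => hv ⟨x, h x.2⟩
  have hsup : W H₁ ⊔ W H₂ ≤ W (H₁ ⊓ H₂) :=
    sup_le (hmono _ _ inf_le_left) (hmono _ _ inf_le_right)
  have hne : W H₁ ⊓ W H₂ ≠ ⊥ := by
    intro hb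
    have h1 := Submodule.finrank_sup_add_finrank_inf_eq (W H₁) (W H₂)
    have h2 := Submodule.finrank_mono hsup
    rw [hb, finrank_bot] at h1
    omega
  obtain ⟨v, hv, hv0⟩ := Submodule.exists_mem_ne_zero_of_ne_bot hne
  -- `v` is fixed by all of `G`
  let S : Subgroup G :=
    { carrier := {g | ρ g v = v}
      one_mem' := by simp
      mul_mem' := fun {a b} (ha : ρ a v = v) (hb : ρ b v = v) => by
        show ρ (a * b) v = v
        rw [map_mul, Module.End.mul_apply, hb, ha]
      inv_mem' := fun {a} (ha : ρ a v = v) => by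
        show ρ a⁻¹ v = v
        nth_rewrite 1 [← ha]
        rw [← Module.End.mul_apply, ← map_mul, inv_mul_cancel, map_one, Module.End.one_apply] }
  have hS : ∀ g : G, ρ g v = v := by
    intro g
    have : H₁ ⊔ H₂ ≤ S := sup_le (fun g hg => hv.1 ⟨g, hg⟩) (fun g hg => hv.2 ⟨g, hg⟩)
    exact (htop ▸ this) (Subgroup.mem_top g)
  rcases CharApp.eq_bot_or_top_of_invariant ρ (Submodule.span ℂ {v}) (fun g u hu => by
    obtain ⟨c, rfl⟩ := Submodule.mem_span_singleton.mp hu
    rw [map_smul, hS]
    exact Submodule.smul_mem _ _ (Submodule.mem_span_singleton_self v)) with h | h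
  · exact hv0 (Submodule.span_singleton_eq_bot.mp h)
  · apply hχ1
    funext g
    have hg : ρ g = 1 := by
      refine LinearMap.ext fun u => ?_
      have hu : u ∈ Submodule.span ℂ {v} := h ▸ Submodule.mem_top
      obtain ⟨c, rfl⟩ := Submodule.mem_span_singleton.mp hu
      rw [map_smul, hS]; rfl
    have hd : Module.finrank ℂ (Fin n → ℂ) = 1 := by
      rw [← finrank_top ℂ, ← h, finrank_span_singleton hv0]
    show LinearMap.trace ℂ _ (ρ g) = 1
    rw [hg, LinearMap.trace_one, hd, Nat.cast_one]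

end Cfsg.Agent.S0192
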