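import Cfsg.Statements.S0193
import Cfsg.Agent.Lib.CliffordChar.Basic

set_option autoImplicit false
open Cfsg

namespace Cfsg.Agent.S0193

/-- Let H be a normal subgroup of a finite group G and θ an irreducible character of H. Then |H| times the inner product of the induced function of θ with itself equals the number of g in G with θ(g h g⁻¹) = θ(h) for all h in H; in particular the induced character is irreducible when only elements of H stabilise θ. -/
theorem result {G : Type*} [Group G] [Fintype G] (H : Subgroup G) [hN : H.Normal] (θ : H → ℂ) (hθ : Cfsg.IsIrrCharacter H θ) : (Nat.card H : ℂ) * Cfsg.classInner (Cfsg.indFun H θ) (Cfsg.indFun H θ) = (Nat.card {g : G // ∀ h : H, θ ⟨g * h * g⁻¹, hN.conj_mem h h.2 g⟩ = θ h} : ℂ) := by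
  classical
  haveI := Fintype.ofFinite H
  rw [Char.frobenius_reciprocity' H θ (Char.indFun_isClassFunction H θ),
    show (fun n : H => Cfsg.indFun H θ (n : G)) = (Nat.card H : ℂ)⁻¹ • CliffordChar.orbitSum H θ from
      funext fun n => CliffordChar.indFun_coe H θ n,
    Char.classInner_smul_left, CliffordChar.classInner_orbitSum H hθ hθ, ← mul_assoc,
    mul_inv_cancel₀ (Nat.cast_ne_zero.mpr Nat.card_pos.ne'), one_mul]
  rw [Nat.card_eq_fintype_card, Fintype.card_subtype]
  congr 1
  refine Finset.card_equiv (Equiv.inv G) fun x => ?_
  simp only [Finset.mem_filter, Finset.mem_univ, true_and, Equiv.inv_apply, funext_iff]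
  refine forall_congr' fun n => ?_
  rw [CliffordChar.conjFun_apply]
  simp only [inv_inv]

end Cfsg.Agent.S0193
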