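import Cfsg.Statements.S0194
import Cfsg.Agent.Lib.CliffordChar.Basic
import Cfsg.Agent.Lib.CharApp.PermLemma

set_option autoImplicit false
open scoped ComplexConjugate
open Cfsg

namespace Cfsg.Agent.S0194

/-- Let G have odd order, H be a normal subgroup and θ a non-principal irreducible character of H. Then the function induced from θ is orthogonal to its complex conjugate. -/
theorem result {G : Type*} [Group G] [Fintype G] (hodd : Odd (Nat.card G)) (H : Subgroup G) [H.Normal] (θ : H → ℂ) (hθ : Cfsg.IsIrrCharacter H θ) (hθ1 : θ ≠ fun _ => 1) : Cfsg.classInner (fun g => conj (Cfsg.indFun H θ g)) (Cfsg.indFun H θ) = 0 := by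
  classical
  haveI := Fintype.ofFinite H
  have hconjind : (fun g => conj (Cfsg.indFun H θ g)) = Cfsg.indFun H (fun n => conj (θ n)) := by
    funext g
    simp only [Cfsg.indFun, map_mul, map_inv₀, map_natCast, map_sum]
    congr 1
    refine Finset.sum_congr rfl fun x _ => ?_
    rw [Char.extendByZero_eq, Char.extendByZero_eq]
    split_ifs <;> simp
  rw [hconjind, Char.frobenius_reciprocity H _ (Char.indFun_isClassFunction H θ),
    show (fun n : H => Cfsg.indFun H θ (n : G)) = (Nat.card H : ℂ)⁻¹ • CliffordChar.orbitSum H θ from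
      funext fun n => CliffordChar.indFun_coe H θ n,
    Char.classInner_smul_right, ← Char.classInner_conj_symm (CliffordChar.orbitSum H θ),
    CliffordChar.classInner_orbitSum H hθ (Char.IsIrrCharacter.conj hθ),
    Finset.filter_false_of_mem, Finset.card_empty, Nat.cast_zero, map_zero, mul_zero]
  intro x _ hx
  -- `x²` fixes `θ`, hence so does `x`
  have h2 : CliffordChar.conjFun H (x * x) θ = θ := by
    rw [CliffordChar.conjFun_mul, hx]
    funext n
    show conj (θ _) = θ n
    have := congrFun hx n
    rw [show θ ((MulAut.conjNormal x⁻¹ : MulAut H) n) = CliffordChar.conjFun H x θ n from rfl, this,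
      Complex.conj_conj]
  have hpow : ∀ m : ℕ, CliffordChar.conjFun H ((x * x) ^ m) θ = θ := by
    intro m
    induction m with
    | zero => rw [pow_zero, CliffordChar.conjFun_one]
    | succ m ih => rw [pow_succ, CliffordChar.conjFun_mul, h2, ih]
  obtain ⟨m, hm⟩ := exists_pow_eq_self_of_coprime (x := x) (n := 2)
    (Nat.coprime_two_right.mpr (hodd.of_dvd_nat (orderOf_dvd_natCard x))).symm
  have hfix : CliffordChar.conjFun H x θ = θ := by
    have := hpow m
    rwa [← pow_two, hm] at this
  apply hθ1
  refine CharApp.real_irr_of_odd (hodd.of_dvd_nat (Subgroup.card_subgroup_dvd_card H)) hθ fun n => ?_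
  rw [← Complex.conj_eq_iff_im]
  exact ((congrFun hx n).symm.trans (congrFun hfix n))

end Cfsg.Agent.S0194
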