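import Cfsg.Statements.S0196
import Cfsg.Agent.EqLemmas

set_option autoImplicit false
open Cfsg

namespace Cfsg.Agent.S0196

/-- Let A be a subgroup of a finite group G that equals the centralizer of each of its non-identity elements, and let N be its normalizer. Then the index of A in N divides |A| − 1 (N/A permutes the non-identity elements of A in orbits of full length). -/
theorem result {G : Type*} [Group G] [Finite G] (A : Subgroup G) (hA : ∀ x ∈ A, x ≠ 1 → Subgroup.centralizer ({x} : Set G) = A) : (A.subgroupOf (Subgroup.normalizer (A : Set G))).index ∣ Nat.card A - 1 := by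
  classical
  let N := Subgroup.normalizer (A : Set G)
  let X := {a : G // a ∈ A ∧ a ≠ 1}
  have hmem : ∀ (n : N) (a : X), (n : G) * a.1 * (n : G)⁻¹ ∈ A ∧ (n : G) * a.1 * (n : G)⁻¹ ≠ 1 :=
    fun n a => ⟨(Subgroup.mem_normalizer_iff.mp n.2 a.1).mp a.2.1, fun h => a.2.2 (by simpa using h)⟩
  letI : MulAction N X :=
    { smul := fun n a => ⟨(n : G) * a.1 * (n : G)⁻¹, hmem n a⟩
      one_smul := fun a => Subtype.ext (show (1 : G) * a.1 * (1 : G)⁻¹ = a.1 by simp)
      mul_smul := fun n m a => Subtype.ext
        (show (n : G) * m * a.1 * ((n : G) * m)⁻¹ = (n : G) * ((m : G) * a.1 * (m : G)⁻¹) * (n : G)⁻¹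
          by group) }
  have hstab : ∀ a : X, MulAction.stabilizer N a = A.subgroupOf N := by
    intro a
    ext n
    rw [MulAction.mem_stabilizer_iff, Subgroup.mem_subgroupOf]
    constructor
    · intro h
      have h' : (n : G) * a.1 * (n : G)⁻¹ = a.1 := congrArg Subtype.val h
      rw [← hA a.1 a.2.1 a.2.2, Subgroup.mem_centralizer_singleton_iff]
      calc (n : G) * a.1 = (n : G) * a.1 * (n : G)⁻¹ * n := by group
        _ = a.1 * n := by rw [h']
    · intro h
      rw [← hA a.1 a.2.1 a.2.2, Subgroup.mem_centralizer_singleton_iff] at h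
      exact Subtype.ext (show (n : G) * a.1 * (n : G)⁻¹ = a.1 by rw [h]; group)
  have hcard : Nat.card X = Nat.card A - 1 := by
    have e : X ≃ {a : A // a ≠ 1} :=
      { toFun := fun a => ⟨⟨a.1, a.2.1⟩, fun h => a.2.2 (congrArg Subtype.val h)⟩
        invFun := fun a => ⟨a.1.1, a.1.2, fun h => a.2 (Subtype.ext h)⟩
        left_inv := fun a => rfl
        right_inv := fun a => rfl }
    haveI := Fintype.ofFinite A
    rw [Nat.card_congr e, Nat.card_eq_fintype_card, Nat.card_eq_fintype_card,
      Fintype.card_subtype_compl, Fintype.card_subtype_eq]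
  rw [← hcard, Nat.card_congr (MulAction.selfEquivSigmaOrbitsQuotientStabilizer N X)]
  haveI := Fintype.ofFinite (MulAction.orbitRel.Quotient N X)
  rw [Nat.card_sigma]
  refine Finset.dvd_sum fun ω _ => ?_
  rw [hstab]
  exact dvd_rfl

end Cfsg.Agent.S0196
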