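import Cfsg.Statements.S0212
import Cfsg.Agent.Lib.Involution.Real

set_option autoImplicit false
open Cfsg

namespace Cfsg.Agent.S0212

/-- The Brauer–Fowler bound: if G is a finite simple group and t an involution of G whose centralizer has order n, then |G| ≤ (2n^2)!. -/
theorem result {G : Type*} [Group G] [Finite G] [IsSimpleGroup G] (t : G) (ht : orderOf t = 2) : Nat.card G ≤ Nat.factorial (2 * (Nat.card (Subgroup.centralizer ({t} : Set G))) ^ 2) := by
  set c := Nat.card (Subgroup.centralizer ({t} : Set G)) with hc
  have hcpos : 0 < c := Nat.card_pos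
  by_cases hcen : Subgroup.centralizer ({t} : Set G) = ⊤
  · have hcard : c = Nat.card G := by rw [hc, hcen, Subgroup.card_top]
    rw [← hcard]
    exact le_trans (by nlinarith) (Nat.self_le_factorial _)
  have hZ : Odd (Nat.card (Subgroup.center G)) := by
    rcases (inferInstance : (Subgroup.center G).Normal).eq_bot_or_eq_top with h | h
    · rw [h, Subgroup.card_bot]; exact odd_one
    · exfalso
      refine hcen (top_unique fun g _ => Involution.mem_centralizer_singleton.2 ?_)
      exact Subgroup.mem_center_iff.1 (h.ge (Subgroup.mem_top t)) g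
  have heven : Even (Nat.card G) := even_iff_two_dvd.2 (ht ▸ orderOf_dvd_natCard t)
  obtain ⟨H, hH, h2⟩ := Involution.exists_small_index heven hZ
  refine le_trans (Involution.card_le_factorial_of_index hH) (Nat.factorial_le ?_)
  rcases h2 with h2 | h2
  · rw [h2]; nlinarith
  · have hle := Involution.card_le_centralizer_mul ht
    rw [← hc] at hle
    generalize Nat.card G = N at h2 hle
    generalize Nat.card {t : G // orderOf t = 2} = n at h2 hle
    have h3 : N * (N + n) ≤ (c * n) * (c * n + n) := Nat.mul_le_mul hle (by omega)
    have h4 : 2 * H.index * n ^ 2 < (c * (c + 1)) * n ^ 2 := by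
      calc 2 * H.index * n ^ 2 < N * (N + n) := h2
        _ ≤ (c * n) * (c * n + n) := h3
        _ = (c * (c + 1)) * n ^ 2 := by ring
    have h5 := Nat.lt_of_mul_lt_mul_right h4
    nlinarith

end Cfsg.Agent.S0212
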