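import Cfsg.Statements.S0214
import Cfsg.Agent.Lib.Involution.StronglyEmbedded

set_option autoImplicit false
open Cfsg

namespace Cfsg.Agent.S0214

open scoped Pointwise

/-- Let H be a proper subgroup of the finite group G and P a nontrivial Sylow 2-subgroup of H. Then H is strongly embedded in G if and only if N_G(X) ≤ H for every nontrivial subgroup X of P. -/
theorem result {G : Type*} [Group G] [Finite G] (H : Subgroup G) (hH : H ≠ ⊤) (P : Sylow 2 ↥H) (hP : (P : Subgroup ↥H) ≠ ⊥) : Cfsg.IsStronglyEmbedded H ↔ (∀ X : Subgroup ↥H, X ≤ (P : Subgroup ↥H) → X ≠ ⊥ → Subgroup.normalizer ((X.map H.subtype : Subgroup G) : Set G) ≤ H) := by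
  haveI : Fact (Nat.Prime 2) := ⟨Nat.prime_two⟩
  constructor
  · intro hSE X hXP hX
    refine Involution.normalizer_le hSE (Subgroup.map_subtype_le X) ?_
    rw [Subgroup.card_map_of_injective H.subtype_injective]
    obtain ⟨n, hn⟩ := (P.isPGroup'.to_le hXP).exists_card_eq
    rcases n with _ | n
    · rw [pow_zero, Subgroup.card_eq_one] at hn; exact absurd hn hX
    · exact ⟨2 ^ n, by rw [hn, pow_succ]; ring⟩
  · intro h
    refine Involution.isStronglyEmbedded_of_normalizers hH ?_ ?_
    · obtain ⟨n, hn⟩ := P.isPGroup'.exists_card_eq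
      rcases n with _ | n
      · rw [pow_zero, Subgroup.card_eq_one] at hn; exact absurd hn hP
      · rw [even_iff_two_dvd]
        exact dvd_trans ⟨2 ^ n, by rw [hn, pow_succ]; ring⟩ (Subgroup.card_subgroup_dvd_card _)
    · intro X hXH hX hXne
      obtain ⟨Q, hQ⟩ : ∃ Q : Sylow 2 H, X.subgroupOf H ≤ Q :=
        (hX.of_equiv (Subgroup.subgroupOfEquivOfLe hXH).symm).exists_le_sylow
      obtain ⟨a, ha⟩ := MulAction.exists_smul_eq H Q P
      have hne : (MulAut.conj a • X.subgroupOf H) ≠ ⊥ := by
        intro hb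
        apply hXne
        rw [eq_bot_iff]
        intro x hx
        have h1 : a * ⟨x, hXH hx⟩ * a⁻¹ ∈ MulAut.conj a • X.subgroupOf H :=
          Subgroup.smul_mem_pointwise_smul _ (MulAut.conj a) _ (Subgroup.mem_subgroupOf.2 hx)
        rw [hb, Subgroup.mem_bot, mul_inv_eq_one, mul_eq_left] at h1
        exact Subgroup.mem_bot.2 (congrArg Subtype.val h1)
      have hle : (MulAut.conj a • X.subgroupOf H) ≤ (P : Subgroup H) := by
        rw [← ha]
        exact Subgroup.pointwise_smul_le_pointwise_smul_iff.2 hQ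
      intro g hg
      have hg' : (a : G) * g * (a : G)⁻¹ ∈ Subgroup.normalizer
          (((MulAut.conj a • X.subgroupOf H).map H.subtype : Subgroup G) : Set G) := by
        have hmem : ∀ x : G, x ∈ (MulAut.conj a • X.subgroupOf H).map H.subtype ↔
            (a : G)⁻¹ * x * a ∈ X := by
          intro x
          constructor
          · rintro ⟨y, ⟨z, hz, rfl⟩, rfl⟩
            simpa [mul_assoc] using Subgroup.mem_subgroupOf.1 hz
          · intro hx
            exact ⟨_, ⟨⟨_, hXH hx⟩, Subgroup.mem_subgroupOf.2 hx, rfl⟩, by simp [mul_assoc]⟩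
        rw [Subgroup.mem_normalizer_iff]
        intro x
        rw [hmem, hmem]
        have h1 := Subgroup.mem_normalizer_iff.1 hg ((a : G)⁻¹ * x * a)
        simpa [mul_assoc] using h1
      have := h _ hle hne hg'
      simpa [mul_assoc] using H.mul_mem (H.mul_mem (H.inv_mem a.2) this) a.2

end Cfsg.Agent.S0214
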