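import Cfsg.Statements.S0216
import Cfsg.Agent.Lib.Involution.Isolated

set_option autoImplicit false
open Cfsg

namespace Cfsg.Agent.S0216

/-- For an involution u in a Sylow 2-subgroup P of a finite group G, the following are equivalent: no G-conjugate of u other than u lies in P; every commutator of u with an element of G has odd order. -/
theorem result {G : Type*} [Group G] [Finite G] (P : Sylow 2 G) (u : G) (hu : orderOf u = 2) (huP : u ∈ P) : (∀ g : G, g * u * g⁻¹ ∈ P → g * u * g⁻¹ = u) ↔ (∀ g : G, Odd (orderOf (u * g * u⁻¹ * g⁻¹))) := by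
  haveI : Fact (Nat.Prime 2) := ⟨Nat.prime_two⟩
  constructor
  · intro hiso g
    have hv : orderOf (g * u⁻¹ * g⁻¹) = 2 := by rw [Involution.orderOf_conj, Involution.inv_eq hu, hu]
    rw [show u * g * u⁻¹ * g⁻¹ = u * (g * u⁻¹ * g⁻¹) by group]
    exact Involution.odd_of_isolated P hu huP hiso hv
      (isConj_iff.2 ⟨g, by rw [Involution.inv_eq hu]⟩)
  · intro h g hg
    have h1 := h g
    rw [show u * g * u⁻¹ * g⁻¹ = u * (g * u⁻¹ * g⁻¹) by group, Involution.inv_eq hu] at h1
    by_contra hne
    have h2 : orderOf (u * (g * u * g⁻¹)) ∣ Nat.card (P : Subgroup G) :=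
      Subgroup.orderOf_dvd_natCard _ ((P : Subgroup G).mul_mem huP hg)
    obtain ⟨k, hk⟩ := P.isPGroup'.exists_card_eq
    rw [hk] at h2
    obtain ⟨j, -, hj⟩ := (Nat.dvd_prime_pow Nat.prime_two).1 h2
    rcases j with _ | j
    · rw [pow_zero, orderOf_eq_one_iff, mul_eq_one_iff_inv_eq, Involution.inv_eq hu] at hj
      exact hne hj.symm
    · obtain ⟨m, hm⟩ := h1
      rw [hj, pow_succ] at hm
      omega

end Cfsg.Agent.S0216
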