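import Cfsg.Statements.S0218
import Cfsg.Agent.Lib.Involution.Real

set_option autoImplicit false
open Cfsg

namespace Cfsg.Agent.S0218

/-- The generalized quaternion group of order 2^(n+3) contains exactly one element of order 2. -/
theorem result (n : ℕ) : Nat.card {x : QuaternionGroup (2 ^ (n + 1)) // orderOf x = 2} = 1 := by
  rw [Nat.card_eq_one_iff_exists]
  have hne : NeZero (2 ^ (n + 1)) := ⟨by positivity⟩
  refine ⟨⟨QuaternionGroup.a ((2 ^ (n + 1) : ℕ) : ZMod (2 * 2 ^ (n + 1))), ?_⟩, ?_⟩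
  · rw [QuaternionGroup.orderOf_a, ZMod.val_natCast,
      Nat.mod_eq_of_lt (by have : 0 < 2 ^ (n + 1) := Nat.two_pow_pos _; omega),
      Nat.gcd_eq_right (dvd_mul_left _ 2), Nat.mul_div_cancel _ (Nat.two_pow_pos _)]
  · rintro ⟨x, hx⟩
    rcases x with i | i
    · simp only [Subtype.mk.injEq, QuaternionGroup.a.injEq]
      rw [QuaternionGroup.orderOf_a] at hx
      have h1 : Nat.gcd (2 * 2 ^ (n + 1)) i.val * 2 = 2 * 2 ^ (n + 1) := by
        conv_rhs => rw [← Nat.mul_div_cancel' (Nat.gcd_dvd_left (2 * 2 ^ (n + 1)) i.val), hx]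
      have h2 : Nat.gcd (2 * 2 ^ (n + 1)) i.val = 2 ^ (n + 1) := by omega
      obtain ⟨k, hk⟩ : 2 ^ (n + 1) ∣ i.val := h2 ▸ Nat.gcd_dvd_right _ _
      have h3 : i.val < 2 * 2 ^ (n + 1) := ZMod.val_lt i
      rcases k with _ | _ | k
      · rw [mul_zero] at hk; rw [hk, Nat.gcd_zero_right] at h2; omega
      · rw [← ZMod.natCast_rightInverse i]; simp [hk]
      · nlinarith
    · rw [QuaternionGroup.orderOf_xa] at hx; omega

end Cfsg.Agent.S0218
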