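import Cfsg.Statements.S0224
import Cfsg.Agent.Lib.Involution.StronglyEmbedded

set_option autoImplicit false
open Cfsg

namespace Cfsg.Agent.S0224

/-- Let H be a proper subgroup of even order of the finite group G. Then H is strongly embedded if and only if each involution of H fixes exactly one point (namely the coset H) in the action of G on the cosets of H. -/
theorem result {G : Type*} [Group G] [Finite G] (H : Subgroup G) (hH : H ≠ ⊤) (heven : Even (Nat.card H)) : Cfsg.IsStronglyEmbedded H ↔ ∀ t ∈ H, orderOf t = 2 → Nat.card {c : G ⧸ H // t • c = c} = 1 := by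
  have hone : ∀ t ∈ H, t • ((1 : G) : G ⧸ H) = ((1 : G) : G ⧸ H) := fun t ht =>
    (Involution.smul_mk_eq_iff t 1).2 (by simpa using ht)
  constructor
  · intro hSE t ht h2
    rw [Nat.card_eq_one_iff_exists]
    exact ⟨⟨_, hone t ht⟩, fun c => Subtype.ext (Involution.fixed_unique hSE h2 c.2 (hone t ht))⟩
  · intro h
    refine Involution.isStronglyEmbedded_iff_forall.2 ⟨hH, heven, fun g t h2 ht hg => ?_⟩
    haveI := (Nat.card_eq_one_iff_unique.1 (h t ht h2)).1
    have hfix : t • ((g⁻¹ : G) : G ⧸ H) = ((g⁻¹ : G) : G ⧸ H) :=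
      (Involution.smul_mk_eq_iff t g⁻¹).2 (by simpa using hg)
    have h1 := Subsingleton.elim
      (⟨_, hone t ht⟩ : {c : G ⧸ H // t • c = c}) ⟨_, hfix⟩
    rw [Subtype.mk.injEq, QuotientGroup.eq] at h1
    simpa using H.inv_mem h1

end Cfsg.Agent.S0224
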