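import Cfsg.Statements.S0226
import Cfsg.Agent.Lib.Involution.Real

set_option autoImplicit false
open Cfsg

namespace Cfsg.Agent.S0226

/-- A finite group of even order has an odd number of involutions. -/
theorem result {G : Type*} [Group G] [Finite G] (heven : Even (Nat.card G)) : Odd (Nat.card {t : G // orderOf t = 2}) := by
  classical
  haveI := Fintype.ofFinite G
  haveI : Fact (Nat.Prime 2) := ⟨Nat.prime_two⟩
  let σ : Function.End G := fun g => g⁻¹
  have hfix : Nat.card {g : G // g * g = 1} % 2 = 0 := by
    have hp : (Finset.univ.filter fun g : G => g⁻¹ = g).card % 2 = Fintype.card G % 2 := by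
      have hev : Even (Finset.univ.filter fun g : G => ¬ g⁻¹ = g).card := by
        rw [← ZMod.natCast_eq_zero_iff_even, Finset.card_eq_sum_ones, Nat.cast_sum]
        refine Finset.sum_involution (fun a _ => a⁻¹) (fun a _ => CharTwo.add_self_eq_zero _) (fun a ha _ => ?_)
          (fun a ha => ?_) (fun a _ => inv_inv a)
        · exact (Finset.mem_filter.1 ha).2
        · refine Finset.mem_filter.2 ⟨Finset.mem_univ _, ?_⟩
          rw [inv_inv]
          exact fun h => (Finset.mem_filter.1 ha).2 h.symm
      obtain ⟨k, hk⟩ := hev
      have := Finset.card_filter_add_card_filter_not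
        (s := (Finset.univ : Finset G)) (fun g : G => g⁻¹ = g)
      rw [Finset.card_univ] at this
      omega
    rw [Nat.card_eq_fintype_card, even_iff_two_dvd] at heven
    have he : Nat.card {g : G // g * g = 1} = (Finset.univ.filter fun g : G => g⁻¹ = g).card := by
      rw [Nat.card_eq_fintype_card, Fintype.card_subtype]
      congr 1
      ext g
      simp [inv_eq_iff_mul_eq_one]
    rw [he, hp]
    omega
  have hsplit : Nat.card {g : G // g * g = 1} = Nat.card {t : G // orderOf t = 2} + 1 := by
    rw [← Finite.card_option]
    exact Nat.card_congr
      { toFun := fun g => if h : g.1 = 1 then none else some ⟨g.1, Involution.orderOf_of_sq g.2 h⟩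
        invFun := fun o => match o with
          | none => ⟨1, mul_one 1⟩
          | some t => ⟨t.1, Involution.mul_self t.2⟩
        left_inv := fun g => by
          by_cases h : g.1 = 1
          · simp only [dif_pos h]; exact Subtype.ext h.symm
          · simp only [dif_neg h]
        right_inv := by
          rintro (_ | t)
          · simp
          · simp [dif_neg (Involution.ne_one t.2)] }
  rw [Nat.odd_iff]
  omega

end Cfsg.Agent.S0226
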