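import Cfsg.Statements.S0230
import Cfsg.Agent.Lib.Involution.Real

set_option autoImplicit false
open Cfsg

namespace Cfsg.Agent.S0230

/-- Let G be a finite group with two non-conjugate involutions, and let t be an involution whose centralizer has maximal order among centralizers of involutions. Then |G| < |C_G(t)|^3. -/
theorem result {G : Type*} [Group G] [Finite G] (s t : G) (hs : orderOf s = 2) (ht : orderOf t = 2) (hnc : ¬ IsConj s t) (hmax : ∀ u : G, orderOf u = 2 → Nat.card (Subgroup.centralizer ({u} : Set G)) ≤ Nat.card (Subgroup.centralizer ({t} : Set G))) : Nat.card G < Nat.card (Subgroup.centralizer ({t} : Set G)) ^ 3 := by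
  classical
  haveI := Fintype.ofFinite G
  set ct := Nat.card (Subgroup.centralizer ({t} : Set G)) with hct
  set cs := Nat.card (Subgroup.centralizer ({s} : Set G)) with hcs
  -- the involutions commuting with `s`, and the centralizer of each
  set Z : Finset G := Finset.univ.filter fun z => orderOf z = 2 ∧ Commute z s with hZ
  set F : G → Finset G := fun z => Finset.univ.filter fun g => g ∈ Subgroup.centralizer ({z} : Set G)
  set D : Finset G := Finset.univ.image fun g => g * t * g⁻¹ with hD
  have hsub : D ⊆ Z.biUnion F := by
    intro v hv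
    obtain ⟨g, -, rfl⟩ := Finset.mem_image.1 hv
    have he := Involution.even_of_not_isConj hs (y := g * t * g⁻¹)
      (by rw [Involution.orderOf_conj, ht])
      (fun h => hnc (h.trans (isConj_iff.2 ⟨g⁻¹, by group⟩)))
    obtain ⟨z, hz, hzs, hzv, -⟩ := Involution.exists_commuting_involution hs
      (by rw [Involution.orderOf_conj, ht]) he
    simp only [Finset.mem_biUnion, hZ, F, Finset.mem_filter, Finset.mem_univ, true_and]
    exact ⟨z, ⟨hz, hzs⟩, Involution.mem_centralizer_iff_commute.2 hzv.symm⟩
  have h1 : D.card ≤ Z.card * ct := by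
    refine (Finset.card_le_card hsub).trans (Finset.card_biUnion_le_card_mul _ _ _ fun z hz => ?_)
    refine le_of_eq_of_le ?_ (hmax z (Finset.mem_filter.1 hz).2.1)
    simp [F, Nat.card_eq_fintype_card, Fintype.card_subtype]
  have h2 : Z.card < cs := by
    rw [hcs, Nat.card_eq_fintype_card, Fintype.card_subtype]
    refine Finset.card_lt_card ⟨?_, ?_⟩
    · intro z hz
      simp only [hZ, Finset.mem_filter, Finset.mem_univ, true_and] at hz ⊢
      exact Involution.mem_centralizer_iff_commute.2 hz.2
    · intro h
      have := h (Finset.mem_filter.2 ⟨Finset.mem_univ 1, Subgroup.one_mem _⟩)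
      simp [hZ] at this
  have h3 : Nat.card G ≤ ct * D.card := by
    rw [← Subgroup.card_mul_index (Subgroup.centralizer ({t} : Set G)), ← hct]
    refine Nat.mul_le_mul_left _ ?_
    have hinj := Nat.card_le_card_of_injective (α := G ⧸ Subgroup.centralizer ({t} : Set G))
      (β := ↥D) (fun q => ⟨q.out * t * q.out⁻¹, Finset.mem_image_of_mem _ (Finset.mem_univ q.out)⟩)
      (fun a b h => by
        simp only [Subtype.mk.injEq] at h
        rw [← a.out_eq, ← b.out_eq]
        apply QuotientGroup.eq.2
        rw [Involution.mem_centralizer_singleton]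
        calc a.out⁻¹ * b.out * t = a.out⁻¹ * (b.out * t * b.out⁻¹) * b.out := by group
          _ = a.out⁻¹ * (a.out * t * a.out⁻¹) * b.out := by rw [h]
          _ = t * (a.out⁻¹ * b.out) := by group)
    rw [Nat.card_eq_finsetCard] at hinj
    exact hinj
  have h4 : cs ≤ ct := hmax s hs
  have h5 : 0 < ct := Nat.card_pos
  calc Nat.card G ≤ ct * D.card := h3
    _ ≤ ct * (Z.card * ct) := Nat.mul_le_mul_left _ h1
    _ < ct * (ct * ct) := by
        apply Nat.mul_lt_mul_of_pos_left _ h5
        exact Nat.mul_lt_mul_of_pos_right (h2.trans_le h4) h5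
    _ = ct ^ 3 := by ring

end Cfsg.Agent.S0230
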