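import Cfsg.Statements.S0231
import Cfsg.Agent.Lib.Involution.StronglyEmbedded

set_option autoImplicit false
open scoped Pointwise
open Cfsg

namespace Cfsg.Agent.S0231

/-- Let T be a Sylow 2-subgroup of the finite group G which is not normal and which intersects every other Sylow 2-subgroup trivially. Then G has a single conjugacy class of involutions. -/
theorem result {G : Type*} [Group G] [Finite G] (T : Sylow 2 G) (hnn : ¬ (T : Subgroup G).Normal) (hTI : ∀ g : G, MulAut.conj g • (T : Subgroup G) ≠ T → MulAut.conj g • (T : Subgroup G) ⊓ T = ⊥) (s t : G) (hs : orderOf s = 2) (ht : orderOf t = 2) : IsConj s t := by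
  haveI : Fact (Nat.Prime 2) := ⟨Nat.prime_two⟩
  refine Involution.isConj_involutions (H := Subgroup.normalizer ((T : Subgroup G) : Set G))
    (Involution.isStronglyEmbedded_iff_forall.2 ⟨?_, ?_, ?_⟩) hs ht
  · exact fun h => hnn (Subgroup.normalizer_eq_top_iff.1 h)
  · obtain ⟨Q, hQ⟩ : ∃ Q : Sylow 2 G, Subgroup.zpowers s ≤ Q :=
      (IsPGroup.of_card (n := 1) (by rw [Nat.card_zpowers, hs, pow_one])).exists_le_sylow
    rw [even_iff_two_dvd]
    calc 2 = orderOf s := hs.symm
      _ ∣ Nat.card (Q : Subgroup G) := Subgroup.orderOf_dvd_natCard _ (hQ (Subgroup.mem_zpowers s))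
      _ = Nat.card (T : Subgroup G) := Nat.card_congr (Q.equiv T).toEquiv
      _ ∣ _ := Subgroup.card_dvd_of_le Subgroup.le_normalizer
  · intro g x hx hxN hgx
    have key : ∀ y : G, orderOf y = 2 → y ∈ Subgroup.normalizer ((T : Subgroup G) : Set G) →
        y ∈ (T : Subgroup G) := by
      intro y hy hyN
      have hp : IsPGroup 2 (Subgroup.zpowers y) :=
        IsPGroup.of_card (n := 1) (by rw [Nat.card_zpowers, hy, pow_one])
      have hsup := hp.to_sup_of_normal_right' T.isPGroup' (Subgroup.zpowers_le.2 hyN)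
      have := T.is_maximal' hsup le_sup_right
      exact this ▸ (le_sup_left (b := (T : Subgroup G)) (Subgroup.mem_zpowers y))
    have h1 := key x hx hxN
    have h2 := key _ (by rw [Involution.orderOf_conj, hx]) hgx
    by_contra hg
    have hne : MulAut.conj g • (T : Subgroup G) ≠ T := by
      intro h
      exact hg (Sylow.smul_eq_iff_mem_normalizer.1 (Sylow.ext h))
    have hmem : g * x * g⁻¹ ∈ MulAut.conj g • (T : Subgroup G) ⊓ T :=
      ⟨Subgroup.smul_mem_pointwise_smul _ (MulAut.conj g) _ h1, h2⟩
    rw [hTI g hne, Subgroup.mem_bot] at hmem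
    exact Involution.ne_one hx (by simpa using hmem)

end Cfsg.Agent.S0231
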