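import Cfsg.Statements.S0232
import Cfsg.Agent.Lib.Involution.Real
import Cfsg.Agent.Lib.Involution.IndexTwo

set_option autoImplicit false
open Cfsg

namespace Cfsg.Agent.S0232

universe u

theorem large_subgroup {G : Type u} [Group G] [Finite G] (N : ℕ) (hN : Nat.card G = N)
    (heven : Even (Nat.card G)) (hgt : 2 < Nat.card G) :
    ∃ H : Subgroup G, H ≠ ⊤ ∧ Nat.card G < (Nat.card H) ^ 3 := by
  induction N using Nat.strong_induction_on generalizing G with
  | _ N ih =>
    haveI : Fact (Nat.Prime 2) := ⟨Nat.prime_two⟩
    -- a subgroup of index two suffices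
    have htwo : ∀ H : Subgroup G, H.index = 2 → H ≠ ⊤ ∧ Nat.card G < (Nat.card H) ^ 3 := by
      intro H hH
      refine ⟨fun h => by rw [h, Subgroup.index_top] at hH; omega, ?_⟩
      have h1 := Subgroup.card_mul_index H
      rw [hH] at h1
      have h2 : 2 ≤ Nat.card H := by omega
      calc Nat.card G = Nat.card H * 2 := h1.symm
        _ ≤ Nat.card H * Nat.card H := Nat.mul_le_mul_left _ h2
        _ < Nat.card H * Nat.card H * Nat.card H := by
          have h3 : 0 < Nat.card H * Nat.card H := by positivity
          nlinarith
        _ = Nat.card H ^ 3 := by ring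
    by_cases hidx : ∃ H : Subgroup G, H.index = 2
    · obtain ⟨H, hH⟩ := hidx
      exact ⟨H, htwo H hH⟩
    by_cases hZ : Odd (Nat.card (Subgroup.center G))
    · obtain ⟨H, hne, hH⟩ := Involution.exists_small_index heven hZ
      rcases hH with hH | hH
      · exact ⟨H, htwo H hH⟩
      obtain ⟨t, ht⟩ := exists_prime_orderOf_dvd_card' (G := G) 2 (even_iff_two_dvd.1 heven)
      set C := Subgroup.centralizer ({t} : Set G) with hC
      have hCne : C ≠ ⊤ := by
        intro h
        have htc : t ∈ Subgroup.center G := Subgroup.mem_center_iff.2 fun g =>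
          Involution.mem_centralizer_singleton.1 (h.ge (Subgroup.mem_top g))
        have h2 := Subgroup.orderOf_dvd_natCard _ htc
        rw [ht] at h2
        obtain ⟨k, hk⟩ := hZ
        omega
      have hle := Involution.card_le_centralizer_mul ht
      have hmul := Subgroup.card_mul_index H
      have hcpos : 0 < Nat.card C := Nat.card_pos
      rw [← hC] at hle
      have hlt : Nat.card G < Nat.card C ^ 2 * Nat.card H := by
        generalize Nat.card {t : G // orderOf t = 2} = n at hH hle
        generalize Nat.card C = c at hle hcpos
        generalize Nat.card H = h at hmul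
        generalize H.index = k at hH hmul
        generalize Nat.card G = g at hH hle hmul
        have h3 : g * (g + n) ≤ (c * n) * (c * n + n) := Nat.mul_le_mul hle (by omega)
        have h4 : 2 * k * n ^ 2 < (c * (c + 1)) * n ^ 2 := by
          calc 2 * k * n ^ 2 < g * (g + n) := hH
            _ ≤ (c * n) * (c * n + n) := h3
            _ = (c * (c + 1)) * n ^ 2 := by ring
        have h5 := Nat.lt_of_mul_lt_mul_right h4
        have hh : 0 < h := by
          rcases Nat.eq_zero_or_pos h with rfl | hh
          · simp at hmul; subst hmul; simp at hH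
          · exact hh
        have h6 : k < c ^ 2 := by nlinarith
        rw [← hmul, mul_comm h k]
        exact Nat.mul_lt_mul_of_pos_right h6 hh
      rcases le_total (Nat.card C) (Nat.card H) with h | h
      · exact ⟨H, hne, hlt.trans_le (by rw [pow_succ _ 2]; exact Nat.mul_le_mul_right _ (Nat.pow_le_pow_left h 2))⟩
      · exact ⟨C, hCne, hlt.trans_le (by rw [pow_succ _ 2]; exact Nat.mul_le_mul_left _ h)⟩
    · -- factor out a central involution
      obtain ⟨z, hz⟩ := exists_prime_orderOf_dvd_card' (G := Subgroup.center G) 2
        (even_iff_two_dvd.1 (Nat.not_odd_iff_even.1 hZ))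
      set K := Subgroup.zpowers (z : G) with hK
      haveI : K.Normal := ⟨fun x hx g => by
        rw [Subgroup.mem_center_iff.1 (Subgroup.zpowers_le.2 z.2 hx) g, mul_inv_cancel_right]; exact hx⟩
      have hKc : Nat.card K = 2 := by rw [Nat.card_zpowers, Subgroup.orderOf_coe, hz]
      have hq : Nat.card (G ⧸ K) * 2 = Nat.card G := by
        rw [← hKc, ← Subgroup.card_eq_card_quotient_mul_card_subgroup]
      by_cases hsmall : 2 < Nat.card (G ⧸ K) ∧ Even (Nat.card (G ⧸ K))
      · obtain ⟨H, hne, hH⟩ := ih _ (by omega) (G := G ⧸ K) rfl hsmall.2 hsmall.1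
        refine ⟨H.comap (QuotientGroup.mk' K), ?_, ?_⟩
        · intro h
          apply hne
          rw [← Subgroup.map_comap_eq_self_of_surjective (QuotientGroup.mk'_surjective K) H, h,
            Subgroup.map_top_of_surjective _ (QuotientGroup.mk'_surjective K)]
        · have h1 := Subgroup.card_mul_index (H.comap (QuotientGroup.mk' K))
          rw [Subgroup.index_comap_of_surjective _ (QuotientGroup.mk'_surjective K), ← hq,
            ← Subgroup.card_mul_index H] at h1
          have h2 : Nat.card (H.comap (QuotientGroup.mk' K)) = 2 * Nat.card H :=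
            Nat.eq_of_mul_eq_mul_right (Nat.pos_of_ne_zero Subgroup.index_ne_zero_of_finite)
              (h1.trans (by ring))
          rw [h2, ← hq, mul_pow]
          omega
      · exfalso
        apply hidx
        obtain ⟨T⟩ : Nonempty (Sylow 2 G) := inferInstance
        by_cases hodd : Even (Nat.card (G ⧸ K))
        · have h2 : Nat.card (G ⧸ K) = 2 := by
            have : 0 < Nat.card (G ⧸ K) := Nat.card_pos
            obtain ⟨k, hk⟩ := hodd
            have : ¬ 2 < Nat.card (G ⧸ K) := fun h => hsmall ⟨h, ⟨k, hk⟩⟩
            omega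
          exact ⟨K, h2⟩
        · refine Involution.exists_index_two heven T (isCyclic_of_prime_card (p := 2) ?_)
          rw [Sylow.card_eq_multiplicity, ← hq,
            Nat.factorization_mul Nat.card_pos.ne' (by norm_num), Finsupp.add_apply,
            Nat.factorization_eq_zero_of_not_dvd (fun h => hodd (even_iff_two_dvd.2 h)),
            Nat.Prime.factorization_self Nat.prime_two, zero_add, pow_one]

/-- A finite group G of even order greater than 2 has a proper subgroup H with |G| < |H|^3. -/
theorem result {G : Type*} [Group G] [Finite G] (heven : Even (Nat.card G)) (hgt : 2 < Nat.card G) : ∃ H : Subgroup G, H ≠ ⊤ ∧ Nat.card G < (Nat.card H) ^ 3 := large_subgroup (Nat.card G) rfl heven hgt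

end Cfsg.Agent.S0232
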