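import Cfsg.Statements.S0234
import Cfsg.Agent.Lib.Involution.Real
import Cfsg.Agent.Lib.Involution.IndexTwo

set_option autoImplicit false
open Cfsg

namespace Cfsg.Agent.S0234

theorem alt_four_involutions :
    (Finset.univ.filter fun g : Equiv.Perm (Fin 4) => Equiv.Perm.sign g = 1 ∧ g ≠ 1 ∧ g * g = 1).card ≤ 3 := by
  decide +kernel

theorem alt_five_involutions :
    (Finset.univ.filter fun g : Equiv.Perm (Fin 5) => Equiv.Perm.sign g = 1 ∧ g ≠ 1 ∧ g * g = 1).card ≤ 15 := by
  decide +kernel

theorem comm_false {G : Type*} [Group G] [Finite G] [IsSimpleGroup G] (heven : Even (Nat.card G))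
    (hgt : 2 < Nat.card G) (h : ∀ a b : G, a * b = b * a) : False := by
  letI : CommGroup G := { (inferInstance : Group G) with mul_comm := h }
  have hp : (Nat.card G).Prime := IsSimpleGroup.prime_card
  rcases hp.eq_one_or_self_of_dvd 2 (even_iff_two_dvd.1 heven) with h | h <;> omega

theorem normal_false {G : Type*} [Group G] [Finite G] [IsSimpleGroup G]
    (N : Subgroup G) (hN : N.Normal) (h1 : 1 < Nat.card N) (h2 : Nat.card N < Nat.card G) : False := by
  rcases hN.eq_bot_or_eq_top with h | h
  · rw [h, Subgroup.card_bot] at h1; omega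
  · rw [h, Subgroup.card_top] at h2; omega

theorem index_two_false {G : Type*} [Group G] [Finite G] [IsSimpleGroup G]
    (hgt : 2 < Nat.card G) {H : Subgroup G} (hH : H.index = 2) : False := by
  have h := Subgroup.card_mul_index H
  rw [hH] at h
  exact normal_false H (Subgroup.normal_of_index_eq_two hH) (by omega) (by omega)

theorem few_involutions {G : Type*} [Group G] [Finite G] [IsSimpleGroup G] (heven : Even (Nat.card G))
    (hgt : 2 < Nat.card G) : 3 * Nat.card {t : G // orderOf t = 2} < Nat.card G := by
  classical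
  haveI : Fact (Nat.Prime 2) := ⟨Nat.prime_two⟩
  have hZ : Odd (Nat.card (Subgroup.center G)) := by
    rcases (inferInstance : (Subgroup.center G).Normal).eq_bot_or_eq_top with h | h
    · rw [h, Subgroup.card_bot]; exact odd_one
    · exact (comm_false heven hgt fun a b => Subgroup.mem_center_iff.1 (h.ge (Subgroup.mem_top b)) a).elim
  by_contra hbig
  push_neg at hbig
  set n := Nat.card {t : G // orderOf t = 2} with hn
  obtain ⟨H, hne, hH⟩ := Involution.exists_small_index heven hZ
  rcases hH with hH | hH
  · exact index_two_false hgt hH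
  rw [← hn] at hH
  have hk6 : H.index < 6 := by
    have h3 : Nat.card G * (Nat.card G + n) ≤ (3 * n) * (3 * n + n) := Nat.mul_le_mul hbig (by omega)
    have h4 : 2 * H.index * n ^ 2 < 12 * n ^ 2 :=
      calc 2 * H.index * n ^ 2 < Nat.card G * (Nat.card G + n) := hH
        _ ≤ (3 * n) * (3 * n + n) := h3
        _ = 12 * n ^ 2 := by ring
    have := Nat.lt_of_mul_lt_mul_right h4
    omega
  obtain ⟨k, ⟨e⟩, hk⟩ : ∃ k, Nonempty (G ⧸ H ≃ Fin k) ∧ H.index = k :=
    ⟨H.index, ⟨Finite.equivFinOfCardEq rfl⟩, rfl⟩
  have hkd : k ∣ Nat.card G := hk ▸ Subgroup.index_dvd_card H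
  rw [hk] at hk6
  have hk0 : k ≠ 0 := hk ▸ Subgroup.index_ne_zero_of_finite
  have hk1 : k ≠ 1 := fun h => hne (Subgroup.index_eq_one.1 (hk.trans h))
  have hk2 : k ≠ 2 := fun h => index_two_false hgt (hk.trans h)
  -- `G` acts by even permutations on the cosets of `H`
  let φ : G →* Equiv.Perm (Fin k) := e.permCongrHom.toMonoidHom.comp (MulAction.toPermHom G (G ⧸ H))
  have hinj : Function.Injective φ := by
    refine e.permCongrHom.injective.comp ?_
    rw [← MonoidHom.ker_eq_bot_iff, ← Subgroup.normalCore_eq_ker]
    rcases H.normalCore_normal.eq_bot_or_eq_top with h | h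
    · exact h
    · exact absurd (top_unique (h ▸ H.normalCore_le)) hne
  have hsign : ∀ g, Equiv.Perm.sign (φ g) = 1 := by
    have hker : (Equiv.Perm.sign.comp φ).ker = ⊤ := by
      rcases (MonoidHom.normal_ker (Equiv.Perm.sign.comp φ)).eq_bot_or_eq_top with h | h
      · have hi : Function.Injective (Equiv.Perm.sign.comp φ) := (MonoidHom.ker_eq_bot_iff _).1 h
        exact (comm_false heven hgt fun a b => hi (by rw [map_mul, map_mul, mul_comm])).elim
      · exact h
    exact fun g => hker.ge (Subgroup.mem_top g)
  have hrange : φ.range ≤ alternatingGroup (Fin k) := by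
    rintro _ ⟨g, rfl⟩
    exact Equiv.Perm.mem_alternatingGroup.2 (hsign g)
  have hdvd : Nat.card G ∣ Nat.card (alternatingGroup (Fin k)) := by
    rw [Nat.card_congr (MonoidHom.ofInjective hinj).toEquiv]
    exact Subgroup.card_dvd_of_le hrange
  have hnle : n ≤ (Finset.univ.filter fun g : Equiv.Perm (Fin k) =>
      Equiv.Perm.sign g = 1 ∧ g ≠ 1 ∧ g * g = 1).card := by
    rw [hn, ← Fintype.card_subtype, ← Nat.card_eq_fintype_card]
    refine Nat.card_le_card_of_injective (fun t => ⟨φ t.1, hsign _, ?_, ?_⟩) ?_
    · rw [← φ.map_one]; exact fun h => Involution.ne_one t.2 (hinj h)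
    · rw [← map_mul, Involution.mul_self t.2, map_one]
    · intro a b h
      exact Subtype.ext (hinj (congrArg Subtype.val h))
  have hcyc : ∀ m : ℕ, Nat.card G = 2 * m → Odd m → False := by
    intro m hm hodd
    obtain ⟨T⟩ : Nonempty (Sylow 2 G) := inferInstance
    obtain ⟨K, hK⟩ := Involution.exists_index_two heven T (isCyclic_of_prime_card (p := 2) (by
      rw [Sylow.card_eq_multiplicity, hm, Nat.factorization_mul (by norm_num) (by rintro rfl; simp at hodd),
        Finsupp.add_apply, Nat.Prime.factorization_self Nat.prime_two,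
        Nat.factorization_eq_zero_of_not_dvd (fun h => (Nat.not_even_iff_odd.2 hodd) (even_iff_two_dvd.2 h)),
        add_zero, pow_one]))
    exact index_two_false hgt hK
  have halt : 2 * Nat.card (alternatingGroup (Fin k)) = k.factorial := by
    haveI : Nontrivial (Fin k) := ⟨⟨0, by omega⟩, ⟨1, by omega⟩, fun h => absurd (congrArg Fin.val h) (by norm_num)⟩
    rw [two_mul_nat_card_alternatingGroup, Nat.card_eq_fintype_card, Fintype.card_perm, Fintype.card_fin]
  have hev : 2 ∣ Nat.card G := even_iff_two_dvd.1 heven
  clear hk hH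
  obtain rfl | rfl | rfl : k = 3 ∨ k = 4 ∨ k = 5 := by omega
  · -- three points: order three is odd
    rw [show Nat.card (alternatingGroup (Fin 3)) = 3 by
      have hf : (3 : ℕ).factorial = 6 := rfl
      omega] at hdvd
    have := Nat.le_of_dvd (by norm_num) hdvd
    omega
  · rw [show Nat.card (alternatingGroup (Fin 4)) = 12 by
      have hf : (4 : ℕ).factorial = 24 := rfl
      omega] at hdvd
    have hle := Nat.le_of_dvd (by norm_num) hdvd
    have := hnle.trans alt_four_involutions
    have h4 : Nat.card G = 4 ∨ Nat.card G = 8 := by omega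
    rcases h4 with h4 | h4
    · exact comm_false heven hgt fun a b => by
        haveI := IsPGroup.isMulCommutative_of_card_eq_prime_sq (p := 2) (G := G) (by rw [h4]; norm_num)
        exact mul_comm' a b
    · rw [h4] at hdvd; norm_num at hdvd
  · rw [show Nat.card (alternatingGroup (Fin 5)) = 60 by
      have hf : (5 : ℕ).factorial = 120 := rfl
      omega] at hdvd
    have hle := Nat.le_of_dvd (by norm_num) hdvd
    have := hnle.trans alt_five_involutions
    have h10 : Nat.card G = 10 ∨ Nat.card G = 20 ∨ Nat.card G = 30 := by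
      have h40 : Nat.card G ≠ 40 := fun h => by rw [h] at hdvd; norm_num at hdvd
      omega
    rcases h10 with h | h | h
    · exact hcyc 5 h (by decide)
    · haveI : Fact (Nat.Prime 5) := ⟨by norm_num⟩
      obtain ⟨Q⟩ : Nonempty (Sylow 5 G) := inferInstance
      have hQ : Nat.card (Q : Subgroup G) = 5 := by
        rw [Sylow.card_eq_multiplicity, h, show 20 = 5 * 4 by norm_num,
          Nat.factorization_mul (by norm_num) (by norm_num), Finsupp.add_apply,
          Nat.Prime.factorization_self (by norm_num),
          Nat.factorization_eq_zero_of_not_dvd (show ¬ 5 ∣ 4 by norm_num), pow_one]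
      have h1 := Q.card_dvd_index
      have h2 := Subgroup.card_mul_index (Q : Subgroup G)
      rw [hQ, h] at h2
      rw [show (Q : Subgroup G).index = 4 by omega] at h1
      have h3 : Nat.card (Sylow 5 G) ≡ 1 [MOD 5] := card_sylow_modEq_one 5 G
      have h4 := Nat.le_of_dvd (by norm_num) h1
      unfold Nat.ModEq at h3
      have h5 : Nat.card (Sylow 5 G) = 1 := by omega
      haveI := (Nat.card_eq_one_iff_unique.1 h5).1
      exact normal_false _ Q.normal_of_subsingleton (by omega) (by omega)
    · exact hcyc 15 h (by decide)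

/-- In a finite simple group G of even order greater than 2, the number n of involutions satisfies 3n < |G|. -/
theorem result {G : Type*} [Group G] [Finite G] [IsSimpleGroup G] (heven : Even (Nat.card G)) (hgt : 2 < Nat.card G) : 3 * Nat.card {t : G // orderOf t = 2} < Nat.card G := few_involutions heven hgt

end Cfsg.Agent.S0234
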