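import Cfsg.Statements.S0239
import Cfsg.Agent.Lib.Involution.Real

set_option autoImplicit false
open Cfsg

namespace Cfsg.Agent.S0239

/-- If some nontrivial element x of a finite group G is conjugate to x⁻¹, then |G| is even. -/
theorem result {G : Type*} [Group G] [Finite G] (x : G) (hx : x ≠ 1) (hreal : IsConj x x⁻¹) : Even (Nat.card G) := by
  obtain ⟨g, hg⟩ := isConj_iff.1 hreal
  by_contra hodd
  rw [Nat.not_even_iff_odd] at hodd
  obtain ⟨m, hm⟩ := hodd
  have h2 : g ^ 2 * x * (g ^ 2)⁻¹ = x := by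
    calc g ^ 2 * x * (g ^ 2)⁻¹ = g * (g * x * g⁻¹) * g⁻¹ := by rw [sq]; group
      _ = (g * x * g⁻¹)⁻¹ := by rw [hg]; conv_rhs => rw [← hg, conj_inv]
      _ = x := by rw [hg, inv_inv]
  have hgpow : g = (g ^ 2) ^ (m + 1) := by
    rw [← pow_mul, show 2 * (m + 1) = Nat.card G + 1 by omega, pow_succ, pow_card_eq_one', one_mul]
  have hfix : ∀ k : ℕ, (g ^ 2) ^ k * x * ((g ^ 2) ^ k)⁻¹ = x := by
    intro k
    induction k with
    | zero => simp
    | succ k ih =>
      calc (g ^ 2) ^ (k + 1) * x * ((g ^ 2) ^ (k + 1))⁻¹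
          = (g ^ 2) ^ k * (g ^ 2 * x * (g ^ 2)⁻¹) * ((g ^ 2) ^ k)⁻¹ := by rw [pow_succ]; group
        _ = x := by rw [h2, ih]
  have hxx : x = x⁻¹ := by
    have := hfix (m + 1)
    rw [← hgpow, hg] at this
    exact this.symm
  have := orderOf_dvd_natCard x
  rw [Involution.orderOf_of_sq (by nth_rewrite 1 [hxx]; exact inv_mul_cancel x) hx, hm] at this
  omega

end Cfsg.Agent.S0239
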