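import Cfsg.Statements.S0240
import Cfsg.Agent.Lib.Involution.Real

set_option autoImplicit false
open Cfsg

namespace Cfsg.Agent.S0240

/-- Let G be a finite group with n involutions and H a subgroup with |H|·(n+1) > |G|. Then some nontrivial h ∈ H is strongly real in G: an involution t of G satisfies t h t⁻¹ = h⁻¹. -/
theorem result {G : Type*} [Group G] [Finite G] (H : Subgroup G) (hH : Nat.card G < Nat.card H * (Nat.card {t : G // orderOf t = 2} + 1)) : ∃ h : G, h ∈ H ∧ h ≠ 1 ∧ ∃ t : G, orderOf t = 2 ∧ t * h * t⁻¹ = h⁻¹ := by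
  classical
  haveI := Fintype.ofFinite (G ⧸ H)
  have hlt : H.index < Nat.card (Option {t : G // orderOf t = 2}) := by
    rw [Finite.card_option]
    rw [← Subgroup.card_mul_index H] at hH
    exact Nat.lt_of_mul_lt_mul_left hH
  let f : Option {t : G // orderOf t = 2} → G := fun o => o.elim 1 Subtype.val
  obtain ⟨a, b, hab, hf⟩ : ∃ a b, a ≠ b ∧ (QuotientGroup.mk (f a) : G ⧸ H) = QuotientGroup.mk (f b) := by
    by_contra! h
    exact absurd (Nat.card_le_card_of_injective (fun o => (QuotientGroup.mk (f o) : G ⧸ H))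
      fun a b e => by_contra fun hne => h a b hne e) (not_le.2 hlt)
  rw [QuotientGroup.eq] at hf
  rcases a with _ | ⟨u, hu⟩ <;> rcases b with _ | ⟨v, hv⟩
  · exact absurd rfl hab
  · simp only [f, Option.elim, inv_one, one_mul] at hf
    exact ⟨v, hf, Involution.ne_one hv, v, hv, by rw [Involution.inv_eq hv, Involution.mul_self hv, one_mul]⟩
  · simp only [f, Option.elim, mul_one] at hf
    rw [Involution.inv_eq hu] at hf
    exact ⟨u, hf, Involution.ne_one hu, u, hu, by rw [Involution.inv_eq hu, Involution.mul_self hu, one_mul]⟩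
  · simp only [f, Option.elim, Involution.inv_eq hu] at hf
    refine ⟨u * v, hf, ?_, u, hu, Involution.inverts_mul_left hu hv⟩
    intro h
    rw [mul_eq_one_iff_inv_eq, Involution.inv_eq hu] at h
    subst h
    exact hab rfl

end Cfsg.Agent.S0240
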