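import Cfsg.Statements.S0241
import Cfsg.Agent.Lib.Involution.Real

set_option autoImplicit false
open Cfsg

namespace Cfsg.Agent.S0241

/-- If x ≠ 1 is conjugate to x⁻¹ in a finite group G and |C_G(x)| is odd, then some involution t satisfies t x t⁻¹ = x⁻¹. -/
theorem result {G : Type*} [Group G] [Finite G] (x : G) (hx : x ≠ 1) (hreal : IsConj x x⁻¹) (hodd : Odd (Nat.card (Subgroup.centralizer ({x} : Set G)))) : ∃ t : G, orderOf t = 2 ∧ t * x * t⁻¹ = x⁻¹ := by
  obtain ⟨g, hg⟩ := isConj_iff.1 hreal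
  have hxx : x * x ≠ 1 := by
    intro h
    have h2 := Involution.orderOf_of_sq h hx
    have h3 : orderOf x ∣ Nat.card (Subgroup.centralizer ({x} : Set G)) :=
      Subgroup.orderOf_dvd_natCard _ (Involution.mem_centralizer_singleton.2 rfl)
    rw [h2] at h3
    obtain ⟨k, hk⟩ := hodd
    omega
  set c := Nat.card (Subgroup.centralizer ({x} : Set G)) with hc
  have hg2 : g ^ 2 ∈ Subgroup.centralizer ({x} : Set G) := by
    rw [Involution.mem_centralizer_singleton, ← mul_inv_eq_iff_eq_mul]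
    calc g ^ 2 * x * (g ^ 2)⁻¹ = g * (g * x * g⁻¹) * g⁻¹ := by rw [sq]; group
      _ = x := by rw [hg, ← conj_inv, hg, inv_inv]
  have hsq : (g ^ c) * (g ^ c) = 1 := by
    rw [← pow_add, ← two_mul, pow_mul]
    exact congrArg Subtype.val (pow_card_eq_one' (x := (⟨g ^ 2, hg2⟩ : Subgroup.centralizer ({x} : Set G))))
  have hinv : g ^ c * x * (g ^ c)⁻¹ = x⁻¹ := by
    obtain ⟨k, hk⟩ := hodd
    have hgk : (g ^ 2) ^ k ∈ Subgroup.centralizer ({x} : Set G) := pow_mem hg2 k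
    rw [Involution.mem_centralizer_singleton, ← mul_inv_eq_iff_eq_mul] at hgk
    rw [hk, pow_succ', pow_mul]
    calc g * (g ^ 2) ^ k * x * (g * (g ^ 2) ^ k)⁻¹
        = g * ((g ^ 2) ^ k * x * ((g ^ 2) ^ k)⁻¹) * g⁻¹ := by group
      _ = x⁻¹ := by rw [hgk, hg]
  refine ⟨g ^ c, Involution.orderOf_of_sq hsq ?_, hinv⟩
  intro h
  rw [h, one_mul, inv_one, mul_one] at hinv
  exact hxx (by nth_rewrite 1 [hinv]; exact inv_mul_cancel x)

end Cfsg.Agent.S0241
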