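import Cfsg.Statements.S0244
import Cfsg.Agent.EqLemmas
import Cfsg.Agent.Lib.GLOrder.Symplectic

set_option autoImplicit false
open Cfsg

namespace Cfsg.Agent.S0244

open Cfsg.Agent

/-- Sp_2 = SL_2: a matrix on Fin 1 ⊕ Fin 1 lies in Mathlib's symplectic group iff its determinant is 1. -/
theorem result {R : Type*} [CommRing R] (A : Matrix (Fin 1 ⊕ Fin 1) (Fin 1 ⊕ Fin 1) R) : A ∈ Matrix.symplecticGroup (Fin 1) R ↔ A.det = 1 := by
  have hd : A.det = A (.inl 0) (.inl 0) * A (.inr 0) (.inr 0)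
      - A (.inl 0) (.inr 0) * A (.inr 0) (.inl 0) := by
    rw [← Matrix.det_reindex_self (finSumFinEquiv : Fin 1 ⊕ Fin 1 ≃ Fin 2) A, Matrix.det_fin_two]
    rfl
  rw [SymplecticGroup.mem_iff, ← Matrix.ext_iff, hd]
  simp [Fin.forall_fin_one, Sum.forall, Matrix.mul_apply, Matrix.J, Fintype.sum_sum_type]
  constructor
  · intro h
    linear_combination h.2.1
  · intro h
    refine ⟨⟨by ring, ?_⟩, ?_, by ring⟩
    · linear_combination -h
    · linear_combination h

end Cfsg.Agent.S0244
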