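import Cfsg.Statements.S0258
import Cfsg.Agent.EqLemmas
import Cfsg.Agent.Lib.GLOrder.Two

set_option autoImplicit false
open Cfsg

namespace Cfsg.Agent.S0258

open Cfsg.Agent

/-- GL_2(q), q a power of the prime p, has exactly q + 1 Sylow p-subgroups. -/
theorem result {F : Type*} [Field F] [Fintype F] {q : ℕ} (hF : Fintype.card F = q) (p : ℕ) [Fact p.Prime] [CharP F p] : Nat.card (Sylow p (Matrix.GeneralLinearGroup (Fin 2) F)) = q + 1 := by
  subst hF
  rw [← Nat.card_eq_fintype_card]
  obtain ⟨P⟩ : Nonempty (Sylow p (Matrix.GeneralLinearGroup (Fin 2) F)) := inferInstance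
  obtain ⟨g, hg⟩ := GLOrder.exists_conj_upperU p P
  rw [P.card_eq_index_normalizer]
  change (Subgroup.normalizer ((P : Subgroup (Matrix.GeneralLinearGroup (Fin 2) F)) :
    Set (Matrix.GeneralLinearGroup (Fin 2) F))).index = _
  rw [hg,
    ← Subgroup.map_normalizer_eq_of_bijective _ (MulAut.conj g).bijective,
    GLOrder.normalizer_upperU, Subgroup.index_map_of_bijective (MulAut.conj g).bijective]
  have h := (GLOrder.borel F).card_mul_index
  rw [GLOrder.card_borel, GLOrder.card_GL_two] at h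
  have hq := GLOrder.one_lt_card_field (F := F)
  obtain ⟨r, hr⟩ : ∃ r, Nat.card F = r + 2 := ⟨Nat.card F - 2, by omega⟩
  rw [hr] at h ⊢
  have e : (r + 2) ^ 2 - 1 = (r + 3) * (r + 1) :=
    Nat.sub_eq_of_eq_add (by ring)
  rw [e, show r + 2 - 1 = r + 1 from rfl] at h
  apply Nat.eq_of_mul_eq_mul_left (show 0 < (r + 2) * (r + 1) ^ 2 by positivity)
  rw [h]; ring

end Cfsg.Agent.S0258
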