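import Cfsg.Statements.S0259
import Cfsg.Agent.EqLemmas
import Cfsg.Agent.Lib.GLOrder.Two

set_option autoImplicit false
open Cfsg

namespace Cfsg.Agent.S0259

open Cfsg.Agent

/-- Distinct Sylow p-subgroups of GL_2(q), p the characteristic, intersect trivially. -/
theorem result {F : Type*} [Field F] [Fintype F] (p : ℕ) [Fact p.Prime] [CharP F p] (P Q : Sylow p (Matrix.GeneralLinearGroup (Fin 2) F)) (h : P ≠ Q) : (P : Subgroup (Matrix.GeneralLinearGroup (Fin 2) F)) ⊓ (Q : Subgroup (Matrix.GeneralLinearGroup (Fin 2) F)) = ⊥ := by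
  obtain ⟨g, hg⟩ := GLOrder.exists_conj_upperU p P
  obtain ⟨k, hk⟩ := GLOrder.exists_conj_upperU p Q
  rw [hg, hk, Subgroup.eq_bot_iff_forall]
  intro x hx
  rw [Subgroup.mem_inf, GLOrder.mem_map_conj_iff, GLOrder.mem_map_conj_iff] at hx
  by_contra hx1
  have h1 : g⁻¹ * x * g ≠ 1 := by
    intro h'
    apply hx1
    have := congrArg (fun y => g * y * g⁻¹) h'
    simpa [mul_assoc] using this
  have hb : k⁻¹ * g ∈ GLOrder.borel F :=
    GLOrder.mem_borel_of_conj_mem hx.1 h1 (by simpa [mul_assoc] using hx.2)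
  apply h
  apply Sylow.ext
  rw [hg, hk]
  ext y
  rw [GLOrder.mem_map_conj_iff, GLOrder.mem_map_conj_iff]
  constructor <;> intro hy
  · simpa [mul_assoc] using GLOrder.conj_mem_upperU hb hy
  · simpa [mul_assoc] using GLOrder.conj_mem_upperU (inv_mem hb) hy

end Cfsg.Agent.S0259
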