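import Cfsg.Statements.S0260
import Cfsg.Agent.EqLemmas
import Cfsg.Agent.Lib.GLOrder.Two

set_option autoImplicit false
open Cfsg

namespace Cfsg.Agent.S0260

open Cfsg.Agent

/-- Any two distinct Sylow p-subgroups of SL_2(q), p the characteristic, generate SL_2(q). -/
theorem result {F : Type*} [Field F] [Fintype F] (p : ℕ) [Fact p.Prime] [CharP F p] (P Q : Sylow p (Matrix.SpecialLinearGroup (Fin 2) F)) (h : P ≠ Q) : (P : Subgroup (Matrix.SpecialLinearGroup (Fin 2) F)) ⊔ (Q : Subgroup (Matrix.SpecialLinearGroup (Fin 2) F)) = ⊤ := by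
  obtain ⟨g, hg⟩ := GLOrder.exists_conj_upperS p P
  obtain ⟨k, hk⟩ := GLOrder.exists_conj_upperS p Q
  have hne : (g⁻¹ * k) 1 0 ≠ 0 := by
    intro h0
    apply h
    apply Sylow.ext
    rw [hg, hk]
    have h0' : (g⁻¹ * k)⁻¹ 1 0 = 0 := by
      rw [Matrix.SpecialLinearGroup.SL2_inv_expl (g⁻¹ * k)]
      simp at h0 ⊢
      exact h0
    ext y
    rw [GLOrder.mem_map_conj_iff, GLOrder.mem_map_conj_iff]
    constructor <;> intro hy
    · simpa [mul_assoc] using GLOrder.conj_mem_upperS h0' hy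
    · simpa [mul_assoc] using GLOrder.conj_mem_upperS h0 hy
  rw [hg, hk]
  have e : (GLOrder.upperS F).map (MulAut.conj k).toMonoidHom =
      ((GLOrder.upperS F).map (MulAut.conj (g⁻¹ * k)).toMonoidHom).map
        (MulAut.conj g).toMonoidHom := by
    rw [Subgroup.map_map]
    congr 1
    ext y; simp [mul_assoc]
  rw [e, ← Subgroup.map_sup, GLOrder.upperS_sup_conj hne, Subgroup.map_top_of_surjective]
  exact (MulAut.conj g).surjective

end Cfsg.Agent.S0260
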