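import Cfsg.Statements.S0264
import Cfsg.Agent.EqLemmas
import Cfsg.Agent.Lib.GLOrder.Two
import Cfsg.Agent.Lib.Linear.SLn

set_option autoImplicit false
open Cfsg

namespace Cfsg.Agent.S0264

open Matrix
open scoped commutatorElement

theorem transvection_mem {F : Type*} [Field F] {n : ℕ} (h : n = 2 → ∃ a : F, a ≠ 0 ∧ a ≠ 1)
    {i j : Fin n} (hij : i ≠ j) (c : F) :
    SpecialLinearGroup.toGL (SpecialLinearGroup.transvection hij c) ∈
      commutator (GL (Fin n) F) := by
  by_cases hn : 3 ≤ n
  · obtain ⟨k, hik, hkj⟩ := Linear.exists_third (by simpa using hn) i j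
    have e := Linear.transvection_mul_comm hik hkj hij c 1
    rw [mul_one] at e
    rw [← e, map_commutatorElement]
    exact Subgroup.commutator_mem_commutator (Subgroup.mem_top _) (Subgroup.mem_top _)
  · have hn2 : n = 2 := by
      have := i.isLt; have := j.isLt
      have : (i : ℕ) ≠ j := Fin.val_ne_of_ne hij
      omega
    obtain ⟨a, ha0, ha1⟩ := h hn2
    let d : Fin n → F := fun k => if k = i then a else 1
    let D : GL (Fin n) F := GeneralLinearGroup.mkOfDetNeZero (Matrix.diagonal d)
      (by rw [Matrix.det_diagonal]; exact Finset.prod_ne_zero_iff.2 fun k _ => by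
            simp only [d]; split <;> simp [ha0])
    let t := fun b : F => SpecialLinearGroup.toGL (SpecialLinearGroup.transvection hij b)
    have hD : ∀ b, D * t b = t (a * b) * D := by
      intro b
      apply GeneralLinearGroup.ext
      intro k l
      show (Matrix.diagonal d * Matrix.transvection i j b) k l =
        (Matrix.transvection i j (a * b) * Matrix.diagonal d) k l
      rw [Matrix.diagonal_mul, Matrix.mul_diagonal]
      by_cases hki : k = i ∧ l = j
      · obtain ⟨rfl, rfl⟩ := hki
        simp [d, Matrix.transvection, hij, hij.symm]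
      · have : Matrix.single i j b k l = 0 := Matrix.single_apply_of_ne _ _ _ _ _
          (fun e => hki ⟨e.1.symm, e.2.symm⟩)
        have h' : Matrix.single i j (a * b) k l = 0 := Matrix.single_apply_of_ne _ _ _ _ _
          (fun e => hki ⟨e.1.symm, e.2.symm⟩)
        simp only [Matrix.transvection, Matrix.add_apply, this, h', add_zero]
        by_cases hkl : k = l
        · subst hkl; simp
        · simp [hkl]
    have key : ⁅D, t (c / (a - 1))⁆ = t c := by
      rw [commutatorElement_def, hD, mul_inv_cancel_right]
      show _ * (SpecialLinearGroup.toGL _)⁻¹ = _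
      rw [← map_inv, ← map_mul, SpecialLinearGroup.transvection_inv,
        ← SpecialLinearGroup.transvection_add]
      congr 2
      field_simp [sub_ne_zero.2 ha1]
      ring
    show t c ∈ _
    rw [← key]
    exact Subgroup.commutator_mem_commutator (Subgroup.mem_top _) (Subgroup.mem_top _)

/-- GL_n(F)' = SL_n(F) (as the kernel of det), for every field F and every n, except n = 2 over the field of two elements. -/
theorem result {F : Type*} [Field F] (n : ℕ) (h : n = 2 → ∃ a : F, a ≠ 0 ∧ a ≠ 1) : commutator (Matrix.GeneralLinearGroup (Fin n) F) = (Matrix.GeneralLinearGroup.det : Matrix.GeneralLinearGroup (Fin n) F →* Fˣ).ker := by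
  refine le_antisymm (Abelianization.commutator_subset_ker _) ?_
  rw [← GLOrder.range_toGL, MonoidHom.range_eq_map, ← Linear.closure_slTvSet,
    MonoidHom.map_closure, Subgroup.closure_le]
  rintro _ ⟨_, ⟨i, j, hij, c, rfl⟩, rfl⟩
  exact transvection_mem h hij c

end Cfsg.Agent.S0264
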