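import Cfsg.Statements.S0273
import Cfsg.Agent.EqLemmas
import Cfsg.Agent.Lib.GLOrder.Two

set_option autoImplicit false
open Cfsg

namespace Cfsg.Agent.S0273

open Cfsg.Agent

/-- In GL_2(q) the centraliser of a non-trivial element of a Sylow p-subgroup (p the characteristic) has order q (q-1): the Sylow subgroup times the scalars. -/
theorem result {F : Type*} [Field F] [Fintype F] {q : ℕ} (hF : Fintype.card F = q) (p : ℕ) [Fact p.Prime] [CharP F p] (P : Sylow p (Matrix.GeneralLinearGroup (Fin 2) F)) (a : Matrix.GeneralLinearGroup (Fin 2) F) (ha : a ∈ P) (ha1 : a ≠ 1) : Nat.card (Subgroup.centralizer ({a} : Set (Matrix.GeneralLinearGroup (Fin 2) F))) = q * (q - 1) := by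
  subst hF
  obtain ⟨g, hg⟩ := GLOrder.exists_conj_upperU p P
  have ha' : g⁻¹ * a * g ∈ GLOrder.upperU F := GLOrder.mem_map_conj_iff.1 (hg ▸ ha)
  have hu1 : g⁻¹ * a * g ≠ 1 := fun h' => ha1 (by
    simpa [mul_assoc] using congrArg (fun y => g * y * g⁻¹) h')
  have e : Nat.card (Subgroup.centralizer ({a} : Set (Matrix.GeneralLinearGroup (Fin 2) F))) =
      Nat.card (Subgroup.centralizer ({g⁻¹ * a * g} : Set (Matrix.GeneralLinearGroup (Fin 2) F))) :=
    Nat.card_congr ((MulAut.conj g⁻¹).toEquiv.subtypeEquiv fun x => by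
      have hx : (MulAut.conj g⁻¹).toEquiv x = g⁻¹ * x * g := by simp
      rw [Subgroup.mem_centralizer_singleton_iff, Subgroup.mem_centralizer_singleton_iff, hx]
      constructor <;> intro h'
      · calc g⁻¹ * x * g * (g⁻¹ * a * g) = g⁻¹ * (x * a) * g := by group
          _ = g⁻¹ * (a * x) * g := by rw [h']
          _ = _ := by group
      · calc x * a = g * (g⁻¹ * x * g * (g⁻¹ * a * g)) * g⁻¹ := by group
          _ = g * (g⁻¹ * a * g * (g⁻¹ * x * g)) * g⁻¹ := by rw [h']
          _ = _ := by group)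
  rw [e, GLOrder.card_centralizer_upperU ha' hu1, Nat.card_eq_fintype_card]

end Cfsg.Agent.S0273
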