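import Cfsg.Statements.S0281
import Cfsg.Agent.Lib.Unitary.Count
import Cfsg.Agent.Lib.GLOrder.Basic

set_option autoImplicit false
open Cfsg

namespace Cfsg.Agent.S0281

open scoped Matrix in
open Cfsg.Agent.Unitary in
theorem su_two_equiv {F K : Type*} [Field F] [Fintype F] [Field K] [Fintype K] {q : ℕ} (hF : Fintype.card F = q ^ 2) (hK : Fintype.card K = q) : Nonempty (Cfsg.SU 2 F q ≃* Matrix.SpecialLinearGroup (Fin 2) K) := by
  obtain ⟨δ, hδ0, hδ⟩ := exists_skew hF
  let h : (Fin 2 → F) → (Fin 2 → F) → F := fun u v => δ * (u 0 * v 1 ^ q - u 1 * v 0 ^ q)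
  have H : IsHerm q h := by
    refine ⟨fun x y z => ?_, fun c x z => ?_, fun x y => ?_⟩
    · simp only [h, Pi.add_apply]; ring
    · simp only [h, Pi.smul_apply, smul_eq_mul]; ring
    · simp only [h, mul_pow, sub_pow_q hF, pow_q_pow_q hF, hδ]; ring
  have hnd : Nondeg h := by
    intro x hx
    have h0 := hx (Pi.single 0 1)
    have h1 := hx (Pi.single 1 1)
    simp [h, hδ0, zero_pow_q hF] at h0 h1
    ext i; fin_cases i <;> assumption
  obtain ⟨c, hc, -⟩ := exists_orthonormal_extend hF H hnd (k := 0) (b := Fin.elim0)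
    ⟨fun i => i.elim0, fun i => i.elim0⟩ (Nat.zero_le 2) (le_of_eq (Module.finrank_fin_fun F).symm)
  let P : Matrix (Fin 2) (Fin 2) F := (Matrix.of c)ᵀ
  have hPu : IsUnit P :=
    Matrix.linearIndependent_cols_iff_isUnit.1 (hc.linearIndependent H)
  have hPd : IsUnit P.det := (Matrix.isUnit_iff_isUnit_det P).1 hPu
  have hP : ∀ u v : Fin 2 → F, h (P.mulVec u) (P.mulVec v) = Cfsg.hermForm 2 F q u v := by
    intro u v
    have e : ∀ w : Fin 2 → F, P.mulVec w = ∑ i, w i • c i := fun w => by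
      ext j; simp [P, Matrix.mulVec, dotProduct, mul_comm]
    rw [e, e, hc.inner_sum hF H]
    rfl
  let eK : K ≃+* fixedField hF := by
    have : Fintype (fixedField hF) := Fintype.ofFinite _
    exact FiniteField.ringEquivOfCardEq (K := K) (K' := fixedField hF)
      (by rw [hK, ← Nat.card_eq_fintype_card, card_fixedField hF])
  let ι : K →+* F := (fixedField hF).subtype.comp eK.toRingHom
  have hι : ∀ x : K, ι x ^ q = ι x := fun x => (mem_fixedField hF).1 (eK x).2
  let J : Matrix.SpecialLinearGroup (Fin 2) K → Matrix (Fin 2) (Fin 2) F :=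
    fun A => P⁻¹ * ι.mapMatrix (A : Matrix (Fin 2) (Fin 2) K) * P
  have hJd : ∀ A, (J A).det = 1 := fun A => by
    rw [Matrix.det_mul, Matrix.det_mul, mul_right_comm, ← Matrix.det_mul,
      Matrix.nonsing_inv_mul _ hPd, Matrix.det_one, one_mul, ← RingHom.map_det, A.2, map_one]
  have hJu : ∀ A, IsUnitary q (J A) := fun A u v => by
    rw [← hP, ← hP (u := u) (v := v)]
    have e : P * J A = ι.mapMatrix (A : Matrix (Fin 2) (Fin 2) K) * P := by
      simp only [J, ← mul_assoc, Matrix.mul_nonsing_inv _ hPd, one_mul]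
    simp only [Matrix.mulVec_mulVec, e]
    simp only [← Matrix.mulVec_mulVec]
    generalize P.mulVec u = x
    generalize P.mulVec v = y
    have hdet : ι ((A : Matrix (Fin 2) (Fin 2) K) 0 0) * ι ((A : Matrix (Fin 2) (Fin 2) K) 1 1)
        - ι ((A : Matrix (Fin 2) (Fin 2) K) 0 1) * ι ((A : Matrix (Fin 2) (Fin 2) K) 1 0) = 1 := by
      have := congrArg ι A.2
      rw [Matrix.det_fin_two, map_sub, map_mul, map_mul, map_one] at this
      exact this
    simp only [h, Matrix.mulVec, dotProduct, Fin.sum_univ_two, RingHom.mapMatrix_apply,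
      Matrix.map_apply, add_pow_q hF, mul_pow, hι]
    linear_combination (δ * (x 0 * y 1 ^ q - x 1 * y 0 ^ q)) * hdet
  have hcancel : ∀ M : Matrix (Fin 2) (Fin 2) F, P * (P⁻¹ * M * P) * P⁻¹ = M := fun M => by
    rw [← mul_assoc, ← mul_assoc, Matrix.mul_nonsing_inv _ hPd, one_mul, mul_assoc,
      Matrix.mul_nonsing_inv _ hPd, mul_one]
  let f : Matrix.SpecialLinearGroup (Fin 2) K →* Cfsg.SU 2 F q :=
    MonoidHom.mk' (fun A => suOfUnitary (J A) (hJu A) (hJd A)) fun A B => by
      refine Subtype.ext (Subtype.ext ?_)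
      simp only [Subgroup.coe_mul, Matrix.SpecialLinearGroup.coe_mul, suOfUnitary_val, J, map_mul]
      rw [show P⁻¹ * ι.mapMatrix (A : Matrix (Fin 2) (Fin 2) K) * P *
          (P⁻¹ * ι.mapMatrix (B : Matrix (Fin 2) (Fin 2) K) * P) =
        P⁻¹ * ι.mapMatrix (A : Matrix (Fin 2) (Fin 2) K) *
          (P * P⁻¹) * ι.mapMatrix (B : Matrix (Fin 2) (Fin 2) K) * P by simp only [mul_assoc],
        Matrix.mul_nonsing_inv _ hPd, mul_one]
      simp only [mul_assoc]
  have hf : Function.Injective f := fun A B hAB => by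
    apply Subtype.ext
    apply Matrix.map_injective ι.injective
    have h2 : J A = J B := congrArg (fun x : Cfsg.SU 2 F q =>
      ((x : Matrix.SpecialLinearGroup (Fin 2) F) : Matrix (Fin 2) (Fin 2) F)) hAB
    have h3 := congrArg (fun M => P * M * P⁻¹) h2
    simpa [J, hcancel] using h3
  have hcard : Nat.card (Matrix.SpecialLinearGroup (Fin 2) K) = Nat.card (Cfsg.SU 2 F q) := by
    rw [Cfsg.Agent.GLOrder.card_SL_two, Nat.card_eq_fintype_card, hK]
    apply Nat.eq_of_mul_eq_mul_left (Nat.succ_pos q)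
    rw [card_SU hF 2 (by omega)]
    simp [Finset.prod_range_succ]
    ring
  exact ⟨(MulEquiv.ofBijective f ((Nat.bijective_iff_injective_and_card f).2 ⟨hf, hcard⟩)).symm⟩

/-- SU_2(q) is isomorphic to SL_2(q). -/
theorem result {F K : Type*} [Field F] [Fintype F] [Field K] [Fintype K] {q : ℕ} (hF : Fintype.card F = q ^ 2) (hK : Fintype.card K = q) : Nonempty (Cfsg.SU 2 F q ≃* Matrix.SpecialLinearGroup (Fin 2) K) := by
  exact su_two_equiv hF hK

end Cfsg.Agent.S0281
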