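import Cfsg.Statements.S0289
import Cfsg.Agent.Lib.Forms.Count

set_option autoImplicit false
open Cfsg

namespace Cfsg.Agent.S0289

/-- The hyperbolic quadratic form on F^(2m), m at least 1, has q^(2m-1) + q^m - q^(m-1) zeros (that is, (q^m - 1)(q^(m-1) + 1) non-zero isotropic vectors). -/
theorem result {F : Type*} [Field F] [Fintype F] {q : ℕ} (hF : Fintype.card F = q) (m : ℕ) (hm : 1 ≤ m) : Nat.card {v : Fin m ⊕ Fin m → F // Cfsg.quadFormPlus m F v = 0} = q ^ (2 * m - 1) + q ^ m - q ^ (m - 1) := by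
  have hq : Nat.card F = q := by rw [Nat.card_eq_fintype_card, hF]
  have h1 : 1 ≤ q := hq ▸ Nat.card_pos
  obtain ⟨k, rfl⟩ := Nat.exists_eq_add_of_le' hm
  have h := Cfsg.Agent.Forms.card_zeros_qfPlus (F := F) k
  simp only [Cfsg.Agent.Forms.qfPlus_apply, hq] at h
  rw [show 2 * (k + 1) - 1 = 2 * k + 1 by omega, Nat.add_sub_cancel]
  have h2 : q ^ k ≤ q ^ (k + 1) := Nat.pow_le_pow_right h1 (Nat.le_succ k)
  zify [le_trans h2 (Nat.le_add_left _ (q ^ (2 * k + 1)))]
  exact h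

end Cfsg.Agent.S0289
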