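import Cfsg.Agent.Lib.Orth.Simple
import Cfsg.Agent.Lib.Orth.Models


set_option autoImplicit false
open Cfsg

namespace Cfsg.Agent.S0295

/-- PΩ_{2m+1}(q) is simple for q odd and m at least 3. -/
theorem result {F : Type*} [Field F] [Fintype F] (hodd : Odd (Fintype.card F)) (m : ℕ) (hm : 3 ≤ m) : IsSimpleGroup (Cfsg.POmega F (Cfsg.quadFormOdd m F)) := by
  have h2 : (2 : F) ≠ 0 := fun h => by
    have hc := CharP.ringChar_of_prime_eq_zero Nat.prime_two (by exact_mod_cast h : ((2 : ℕ) : F) = 0)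
    exact Nat.not_even_iff_odd.2 hodd (Nat.even_iff.2 ((FiniteField.even_card_iff_char_two).1 hc))
  exact Cfsg.Agent.Orth.isSimpleGroup_pomega (Cfsg.Agent.Orth.quadOdd_nondeg m h2) (by simp; omega)

end Cfsg.Agent.S0295
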