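import Cfsg.Agent.Lib.Orth.Klein
import Cfsg.Agent.Lib.Orth.SLTools
import Cfsg.Agent.S0287

set_option autoImplicit false
open Cfsg

namespace Cfsg.Agent.S0299

open Cfsg.Agent.Orth Matrix

variable {F : Type*} [Field F]

/-- The 2×2 matrix of a vector. -/
def mk2 : (Fin 2 ⊕ Fin 2 → F) →ₗ[F] Matrix (Fin 2) (Fin 2) F where
  toFun v := !![v (.inl 0), v (.inl 1); -v (.inr 1), v (.inr 0)]
  map_add' u v := by ext i j; fin_cases i <;> fin_cases j <;> simp; ring
  map_smul' c v := by ext i j; fin_cases i <;> fin_cases j <;> simp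

/-- The coordinates of a 2×2 matrix. -/
def co2 : Matrix (Fin 2) (Fin 2) F →ₗ[F] (Fin 2 ⊕ Fin 2 → F) where
  toFun Y := Sum.elim ![Y 0 0, Y 0 1] ![Y 1 1, -Y 1 0]
  map_add' u v := by funext k; rcases k with k | k <;> fin_cases k <;> simp; ring
  map_smul' c v := by funext k; rcases k with k | k <;> fin_cases k <;> simp

theorem mk2_co2 (Y : Matrix (Fin 2) (Fin 2) F) : mk2 (co2 Y) = Y := by
  ext i j; fin_cases i <;> fin_cases j <;> simp [mk2, co2]

theorem co2_mk2 (v : Fin 2 ⊕ Fin 2 → F) : co2 (mk2 v) = v := by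
  funext k; rcases k with k | k <;> fin_cases k <;> simp [mk2, co2]

theorem Q_eq_det (Y : Matrix (Fin 2) (Fin 2) F) : quadFormPlus 2 F (co2 Y) = Y.det := by
  simp [quadFormPlus, co2, Fin.sum_univ_two, Matrix.det_fin_two]; ring

/-- `X ↦ g X hᵀ`. -/
def pairLin (g h : Matrix (Fin 2) (Fin 2) F) : (Fin 2 ⊕ Fin 2 → F) →ₗ[F] (Fin 2 ⊕ Fin 2 → F) where
  toFun v := co2 (g * mk2 v * hᵀ)
  map_add' u v := by simp [Matrix.mul_add, Matrix.add_mul]
  map_smul' c v := by simp

/-- The homomorphism. -/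
noncomputable def pairHom : SpecialLinearGroup (Fin 2) F × SpecialLinearGroup (Fin 2) F →*
    ↥(isometryGroup F (quadFormPlus 2 F)) :=
  isoHom
    { toFun := fun p => LinearMap.toMatrix' (pairLin (p.1 : Matrix (Fin 2) (Fin 2) F) (p.2 : Matrix (Fin 2) (Fin 2) F))
      map_one' := Matrix.ext_of_mulVec_single fun i => by
        rw [LinearMap.toMatrix'_mulVec, Matrix.one_mulVec]
        show co2 ((1 : Matrix (Fin 2) (Fin 2) F) * mk2 _ * (1 : Matrix (Fin 2) (Fin 2) F)ᵀ) = _
        rw [Matrix.one_mul, Matrix.transpose_one, Matrix.mul_one, co2_mk2]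
      map_mul' := fun p q => Matrix.ext_of_mulVec_single fun i => by
        rw [← Matrix.mulVec_mulVec, LinearMap.toMatrix'_mulVec, LinearMap.toMatrix'_mulVec,
          LinearMap.toMatrix'_mulVec]
        show co2 (((p.1 : Matrix (Fin 2) (Fin 2) F) * (q.1 : Matrix (Fin 2) (Fin 2) F)) * mk2 _ *
            ((p.2 : Matrix (Fin 2) (Fin 2) F) * (q.2 : Matrix (Fin 2) (Fin 2) F))ᵀ) =
          co2 ((p.1 : Matrix (Fin 2) (Fin 2) F) * mk2 (co2 _) * _)
        rw [mk2_co2, Matrix.transpose_mul]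
        simp only [Matrix.mul_assoc] }
    (fun p v => by
      show quadFormPlus 2 F (LinearMap.toMatrix' _ *ᵥ v) = _
      rw [LinearMap.toMatrix'_mulVec]
      show quadFormPlus 2 F (co2 _) = _
      rw [Q_eq_det, Matrix.det_mul, Matrix.det_mul, Matrix.det_transpose, p.1.2, p.2.2, one_mul, mul_one]
      conv_rhs => rw [← co2_mk2 v, Q_eq_det])

theorem pairHom_eq_one_iff (p : SpecialLinearGroup (Fin 2) F × SpecialLinearGroup (Fin 2) F) :
    pairHom p = 1 ↔ p = 1 ∨ p = (-1, -1) := by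
  rw [pairHom, isoHom_eq_one_iff]
  show LinearMap.toMatrix' (pairLin (p.1 : Matrix (Fin 2) (Fin 2) F) (p.2 : Matrix (Fin 2) (Fin 2) F)) = 1 ↔ _
  constructor
  · intro h
    have hX : ∀ Y : Matrix (Fin 2) (Fin 2) F,
        (p.1 : Matrix (Fin 2) (Fin 2) F) * Y * (p.2 : Matrix (Fin 2) (Fin 2) F)ᵀ = Y := fun Y => by
      have h1 := congrArg (fun M => M *ᵥ co2 Y) h
      simp only [LinearMap.toMatrix'_mulVec, Matrix.one_mulVec] at h1
      have h2 := congrArg mk2 h1
      simp only [pairLin, LinearMap.coe_mk, AddHom.coe_mk, mk2_co2] at h2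
      exact h2
    set M := (p.1 : Matrix (Fin 2) (Fin 2) F) with hM
    set N := (p.2 : Matrix (Fin 2) (Fin 2) F) with hN
    have hm : ∀ a b c d : Fin 2, M c a * N d b = if c = a ∧ d = b then 1 else 0 := by
      intro a b c d
      have := congrFun (congrFun (hX (Matrix.single a b (1 : F))) c) d
      simpa [Matrix.mul_apply, Matrix.single_apply, ite_and, eq_comm] using this
    have m1 : M 0 0 * N 0 0 = 1 := by simpa using hm 0 0 0 0
    have m2 : M 1 1 * N 0 0 = 1 := by simpa using hm 1 0 1 0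
    have m3 : M 0 0 * N 1 1 = 1 := by simpa using hm 0 1 0 1
    have hN0 := right_ne_zero_of_mul_eq_one m1
    have hM0 := left_ne_zero_of_mul_eq_one m1
    have hM01 : M 0 1 = 0 := by have := hm 1 0 0 0; simp [hN0] at this; exact this
    have hM10 : M 1 0 = 0 := by have := hm 0 0 1 0; simp [hN0] at this; exact this
    have hN01 : N 0 1 = 0 := by have := hm 0 1 0 0; simp [hM0] at this; exact this
    have hN10 : N 1 0 = 0 := by have := hm 0 0 0 1; simp [hM0] at this; exact this
    have hMM : M 1 1 = M 0 0 := mul_right_cancel₀ hN0 (m2.trans m1.symm)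
    have hNN : N 1 1 = N 0 0 := mul_left_cancel₀ hM0 (m3.trans m1.symm)
    have hd : M.det = 1 := p.1.2
    rw [Matrix.det_fin_two, hM01, zero_mul, sub_zero, hMM] at hd
    rcases mul_self_eq_one_iff.1 hd with h1 | h1
    · rw [h1, one_mul] at m1
      refine .inl (Prod.ext (Subtype.ext ?_) (Subtype.ext ?_))
      · ext i j; fin_cases i <;> fin_cases j <;> simp [← hM, hM01, hM10, hMM, h1]
      · ext i j; fin_cases i <;> fin_cases j <;> simp [← hN, hN01, hN10, hNN, m1]
    · have hn : N 0 0 = -1 := by rw [h1] at m1; linear_combination -m1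
      refine .inr (Prod.ext (Subtype.ext ?_) (Subtype.ext ?_))
      · rw [Matrix.SpecialLinearGroup.coe_neg]
        ext i j; fin_cases i <;> fin_cases j <;> simp [← hM, hM01, hM10, hMM, h1]
      · rw [Matrix.SpecialLinearGroup.coe_neg]
        ext i j; fin_cases i <;> fin_cases j <;> simp [← hN, hN01, hN10, hNN, hn]
  · rintro (rfl | rfl) <;> refine Matrix.ext_of_mulVec_single fun i => ?_ <;>
      rw [LinearMap.toMatrix'_mulVec, Matrix.one_mulVec] <;>
      simp [pairLin, co2_mk2]

/-- PΩ^+_4(q) is isomorphic to PSL_2(q) x PSL_2(q) for q at least 3. -/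
theorem result {F : Type*} [Field F] [Fintype F] (hF : 3 ≤ Fintype.card F) : Nonempty (Cfsg.POmega F (Cfsg.quadFormPlus 2 F) ≃* Matrix.ProjectiveSpecialLinearGroup (Fin 2) F × Matrix.ProjectiveSpecialLinearGroup (Fin 2) F) := by
  classical
  let G := SpecialLinearGroup (Fin 2) F
  have hχ : ∀ χ : G × G →* ℤˣ, χ = 1 := fun χ => by
    have h1 := slTwo_hom_trivial hF (χ.comp (MonoidHom.inl G G))
    have h2 := slTwo_hom_trivial hF (χ.comp (MonoidHom.inr G G))
    ext p : 1
    have e1 : χ (p.1, 1) = 1 := congrArg (fun φ => φ p.1) h1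
    have e2 : χ (1, p.2) = 1 := congrArg (fun φ => φ p.2) h2
    have : p = (p.1, 1) * (1, p.2) := by simp
    rw [this, map_mul, e1, e2, one_mul]
    rfl
  have hG : Good (quadPlus 2 F) := Good.of_card (quadPlus_nondeg 2) (.inl (by omega))
  have hiff := pairHom_eq_one_iff (F := F)
  have hz : ((-1, -1) : G × G) ∈ Subgroup.center (G × G) := by
    refine Subgroup.mem_center_iff.2 fun g => Prod.ext (Subtype.ext ?_) (Subtype.ext ?_) <;> simp [G]
  obtain ⟨hk, hk2, hk1⟩ := card_ker_of_iff pairHom ((-1, -1) : G × G) hiff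
  have ho : Nat.card (IsoGrp (quadPlus 2 F)) = _ := Cfsg.Agent.S0287.result (F := F) rfl 2 (by omega)
  have hc : Subgroup.center (G × G) = (Subgroup.center G).prod (Subgroup.center G) := by
    ext p
    simp only [Subgroup.mem_prod, Subgroup.mem_center_iff]
    constructor
    · exact fun h => ⟨fun g => congrArg Prod.fst (h (g, 1)), fun g => congrArg Prod.snd (h (1, g))⟩
    · exact fun h g => Prod.ext (h.1 g.1) (h.2 g.2)
  obtain ⟨e⟩ := pomega_equiv_of_card (Q := quadFormPlus 2 F) pairHom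
    (range_le_omega hG pairHom hχ) hχ (ker_le_center_of_iff pairHom _ hiff hz) hk (by
    show _ * (Omega F ⇑(quadPlus 2 F)).index = _ * Nat.card (IsoGrp (quadPlus 2 F))
    rw [ho, Nat.card_prod, Cfsg.Agent.GLOrder.card_SL_two, Nat.card_eq_fintype_card (α := F),
      Finset.prod_range_one]
    by_cases h2 : (2 : F) = 0
    · have h1 : ((-1, -1) : G × G) = 1 := by
        refine Prod.ext ?_ ?_ <;>
        · refine Subtype.ext ?_
          show -(1 : Matrix (Fin 2) (Fin 2) F) = 1
          ext i j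
          show -((1 : Matrix (Fin 2) (Fin 2) F) i j) = (1 : Matrix (Fin 2) (Fin 2) F) i j
          linear_combination -((1 : Matrix (Fin 2) (Fin 2) F) i j) * h2
      rw [omega_index_two hG (by simp) h2, hk1 h1]
      ring
    · have h1 : ((-1, -1) : G × G) ≠ 1 := fun h => h2 (by
        have h' := congrArg (fun g : G × G => (g.1 : Matrix (Fin 2) (Fin 2) F) 0 0) h
        simp [G, Matrix.SpecialLinearGroup.coe_neg] at h'
        linear_combination -h')
      rw [omega_index_odd hG (by simp) h2, hk2 h1]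
      ring)
  let ψ : G × G →* (G ⧸ Subgroup.center G) × (G ⧸ Subgroup.center G) :=
    MonoidHom.prodMap (QuotientGroup.mk' _) (QuotientGroup.mk' _)
  have hψs : Function.Surjective ψ := by
    rintro ⟨a, b⟩
    obtain ⟨a, rfl⟩ := QuotientGroup.mk_surjective a
    obtain ⟨b, rfl⟩ := QuotientGroup.mk_surjective b
    exact ⟨(a, b), rfl⟩
  have hψk : ψ.ker = Subgroup.center (G × G) := by
    ext p; simp [ψ, hc, Subgroup.mem_prod, MonoidHom.mem_ker, Prod.ext_iff, QuotientGroup.eq_one_iff]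
  exact ⟨e.trans ((QuotientGroup.quotientMulEquivOfEq hψk.symm).trans
    (QuotientGroup.quotientKerEquivOfSurjective ψ hψs))⟩

end Cfsg.Agent.S0299
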