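import Cfsg.Agent.Lib.Orth.Klein
import Cfsg.Agent.Lib.Orth.SLTools
import Cfsg.Agent.Lib.Linear.GenTools
import Cfsg.Agent.S0288
import Cfsg.Agent.S0824

set_option autoImplicit false
open Cfsg

namespace Cfsg.Agent.S0300

open Cfsg.Agent.Orth Matrix

variable {F : Type*} [Field F] {a b : F}

/-- The index type of the form. -/
abbrev J : Type := (Fin 1 ⊕ Fin 1) ⊕ Fin 2

/-- The hermitian matrix of a vector. -/
def mk4 : (J → F) →ₗ[F] Matrix (Fin 2) (Fin 2) (QuadraticAlgebra F (-b) a) where
  toFun v := !![⟨v (.inl (.inl 0)), 0⟩, ⟨v (.inr 0), v (.inr 1)⟩;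
    star ⟨v (.inr 0), v (.inr 1)⟩, -⟨v (.inl (.inr 0)), 0⟩]
  map_add' u v := by ext i j <;> fin_cases i <;> fin_cases j <;> simp <;> ring
  map_smul' c v := by ext i j <;> fin_cases i <;> fin_cases j <;> simp <;> ring

/-- The coordinates of a hermitian matrix. -/
def co4 : Matrix (Fin 2) (Fin 2) (QuadraticAlgebra F (-b) a) →ₗ[F] (J → F) where
  toFun Y := Sum.elim (Sum.elim (fun _ => (Y 0 0).re) (fun _ => -(Y 1 1).re)) ![(Y 0 1).re, (Y 0 1).im]
  map_add' u v := by funext k; rcases k with (k | k) | k <;> fin_cases k <;> simp <;> ring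
  map_smul' c v := by funext k; rcases k with (k | k) | k <;> fin_cases k <;> simp

theorem co4_mk4 (v : J → F) : co4 (mk4 (a := a) (b := b) v) = v := by
  funext k; rcases k with (k | k) | k <;> fin_cases k <;> simp [mk4, co4]

theorem mk4_herm (v : J → F) : (mk4 (a := a) (b := b) v)ᴴ = mk4 v := by
  ext i j <;> fin_cases i <;> fin_cases j <;> simp [mk4] <;> ring

theorem im_eq_zero (h : a ≠ 0 ∨ (2 : F) ≠ 0) {z : QuadraticAlgebra F (-b) a} (hz : star z = z) :
    z.im = 0 := by
  have h1 : z.re + a * z.im = z.re := congrArg QuadraticAlgebra.re hz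
  have h2 : -z.im = z.im := congrArg QuadraticAlgebra.im hz
  rcases h with h | h
  · exact (mul_eq_zero.1 (add_eq_left.1 h1)).resolve_left h
  · exact (mul_eq_zero.1 (show (2 : F) * z.im = 0 by linear_combination -h2)).resolve_left h

theorem mk4_co4 (h : a ≠ 0 ∨ (2 : F) ≠ 0) {Y : Matrix (Fin 2) (Fin 2) (QuadraticAlgebra F (-b) a)}
    (hY : Yᴴ = Y) : mk4 (co4 Y) = Y := by
  have h00 : star (Y 0 0) = Y 0 0 := congrFun (congrFun hY 0) 0
  have h11 : star (Y 1 1) = Y 1 1 := congrFun (congrFun hY 1) 1
  have h10 : star (Y 0 1) = Y 1 0 := congrFun (congrFun hY 1) 0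
  have i0 := im_eq_zero h h00
  have i1 := im_eq_zero h h11
  rw [Matrix.eta_fin_two Y, ← h10]
  ext i j <;> fin_cases i <;> fin_cases j <;> simp [mk4, co4, i0, i1]

theorem det_mk4 (v : J → F) :
    (mk4 (a := a) (b := b) v).det = algebraMap F _ (-quadFormMinus 1 F a b v) := by
  ext <;> simp [mk4, quadFormMinus, Matrix.det_fin_two, sq] <;> ring

/-- `X ↦ g X gᴴ`. -/
def actLin (g : Matrix (Fin 2) (Fin 2) (QuadraticAlgebra F (-b) a)) : (J → F) →ₗ[F] (J → F) where
  toFun v := co4 (g * mk4 v * gᴴ)
  map_add' u v := by simp [Matrix.mul_add, Matrix.add_mul]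
  map_smul' c v := by simp

variable [Fact (∀ r : F, r ^ 2 ≠ -b + a * r)]

/-- The homomorphism. -/
noncomputable def hermHom (h : a ≠ 0 ∨ (2 : F) ≠ 0) :
    SpecialLinearGroup (Fin 2) (QuadraticAlgebra F (-b) a) →* ↥(isometryGroup F (quadFormMinus 1 F a b)) :=
  isoHom
    { toFun := fun g => LinearMap.toMatrix' (actLin (g : Matrix (Fin 2) (Fin 2) (QuadraticAlgebra F (-b) a)))
      map_one' := Matrix.ext_of_mulVec_single fun i => by
        rw [LinearMap.toMatrix'_mulVec, Matrix.one_mulVec]
        show co4 ((1 : Matrix (Fin 2) (Fin 2) (QuadraticAlgebra F (-b) a)) * mk4 _ * _) = _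
        rw [Matrix.one_mul, Matrix.SpecialLinearGroup.coe_one, Matrix.conjTranspose_one, Matrix.mul_one,
          co4_mk4]
      map_mul' := fun g k => Matrix.ext_of_mulVec_single fun i => by
        rw [← Matrix.mulVec_mulVec, LinearMap.toMatrix'_mulVec, LinearMap.toMatrix'_mulVec,
          LinearMap.toMatrix'_mulVec]
        simp only [actLin, LinearMap.coe_mk, AddHom.coe_mk, Matrix.SpecialLinearGroup.coe_mul]
        rw [mk4_co4 h, Matrix.conjTranspose_mul]
        · simp only [Matrix.mul_assoc]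
        · rw [Matrix.conjTranspose_mul, Matrix.conjTranspose_mul, Matrix.conjTranspose_conjTranspose,
            mk4_herm, Matrix.mul_assoc] }
    (fun g v => by
      show quadFormMinus 1 F a b (LinearMap.toMatrix' _ *ᵥ v) = _
      rw [LinearMap.toMatrix'_mulVec]
      show quadFormMinus 1 F a b (co4 ((g : Matrix (Fin 2) (Fin 2) (QuadraticAlgebra F (-b) a)) * mk4 v *
        (g : Matrix (Fin 2) (Fin 2) (QuadraticAlgebra F (-b) a))ᴴ)) = _
      set G := (g : Matrix (Fin 2) (Fin 2) (QuadraticAlgebra F (-b) a))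
      have hG : G.det = 1 := g.2
      have hH : (G * mk4 v * Gᴴ)ᴴ = G * mk4 v * Gᴴ := by
        rw [Matrix.conjTranspose_mul, Matrix.conjTranspose_mul, Matrix.conjTranspose_conjTranspose,
          mk4_herm, Matrix.mul_assoc]
      have := det_mk4 (a := a) (b := b) (co4 (G * mk4 v * Gᴴ))
      rw [mk4_co4 h hH, Matrix.det_mul, Matrix.det_mul, Matrix.det_conjTranspose, hG, star_one,
        one_mul, mul_one, det_mk4] at this
      exact (neg_injective ((algebraMap F (QuadraticAlgebra F (-b) a)).injective this)).symm)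

theorem hermHom_eq_one_iff (h : a ≠ 0 ∨ (2 : F) ≠ 0)
    (g : SpecialLinearGroup (Fin 2) (QuadraticAlgebra F (-b) a)) :
    hermHom h g = 1 ↔ g = 1 ∨ g = -1 := by
  rw [hermHom, isoHom_eq_one_iff]
  show LinearMap.toMatrix' (actLin (g : Matrix (Fin 2) (Fin 2) (QuadraticAlgebra F (-b) a))) = 1 ↔ _
  set G := (g : Matrix (Fin 2) (Fin 2) (QuadraticAlgebra F (-b) a)) with hG
  constructor
  · intro h1
    have hX : ∀ v, G * mk4 v * Gᴴ = mk4 v := fun v => by
      have h2 := congrArg (fun M => mk4 (a := a) (b := b) (M *ᵥ v)) h1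
      simp only [LinearMap.toMatrix'_mulVec, Matrix.one_mulVec] at h2
      simp only [actLin, LinearMap.coe_mk, AddHom.coe_mk] at h2
      rwa [mk4_co4 h] at h2
      rw [Matrix.conjTranspose_mul, Matrix.conjTranspose_mul, Matrix.conjTranspose_conjTranspose,
        mk4_herm, Matrix.mul_assoc]
    have a00 := congrFun (congrFun (hX (Pi.single (.inl (.inl 0)) 1)) 0) 0
    have a11 := congrFun (congrFun (hX (Pi.single (.inl (.inl 0)) 1)) 1) 1
    have b00 := congrFun (congrFun (hX (Pi.single (.inl (.inr 0)) 1)) 0) 0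
    have b11 := congrFun (congrFun (hX (Pi.single (.inl (.inr 0)) 1)) 1) 1
    have c01 := congrFun (congrFun (hX (Pi.single (.inr 0) 1)) 0) 1
    have e1 : (⟨1, 0⟩ : QuadraticAlgebra F (-b) a) = 1 := rfl
    have e0 : (⟨0, 0⟩ : QuadraticAlgebra F (-b) a) = 0 := rfl
    have em : (⟨-1, 0⟩ : QuadraticAlgebra F (-b) a) = -1 := by
      ext <;> simp [QuadraticAlgebra.re_one, QuadraticAlgebra.im_one]
    simp [mk4, Matrix.mul_apply, Fin.sum_univ_two, e1, e0, em, -QuadraticAlgebra.star_mk] at a00 a11 b00 b11 c01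
    have hg10 : G 1 0 = 0 := a11
    have hg01 : G 0 1 = 0 := b00
    rw [hg10, hg01] at c01
    simp at c01
    have hd : G.det = 1 := g.2
    rw [Matrix.det_fin_two, hg01, zero_mul, sub_zero] at hd
    have hs : star (G 1 1) = G 1 1 :=
      mul_left_cancel₀ (left_ne_zero_of_mul_eq_one hd) (c01.trans hd.symm)
    rw [hs] at b11
    rcases mul_self_eq_one_iff.1 b11 with h1 | h1
    · rw [h1, mul_one] at hd
      refine .inl (Subtype.ext ?_)
      rw [← hG, Matrix.eta_fin_two G, hg01, hg10, h1, hd]
      exact Matrix.one_fin_two.symm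
    · rw [h1, mul_neg, mul_one, neg_eq_iff_eq_neg] at hd
      refine .inr (Subtype.ext ?_)
      rw [← hG, Matrix.eta_fin_two G, hg01, hg10, h1, hd, Matrix.SpecialLinearGroup.coe_neg,
        Matrix.SpecialLinearGroup.coe_one, Matrix.one_fin_two]
      simp
  · intro hg
    refine Matrix.ext_of_mulVec_single fun i => ?_
    rw [LinearMap.toMatrix'_mulVec, Matrix.one_mulVec]
    rcases hg with rfl | rfl <;> simp [actLin, hG, co4_mk4]

set_option maxHeartbeats 1000000 in
/-- PΩ^-_4(q) is isomorphic to PSL_2(q^2). -/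
theorem result {F K : Type*} [Field F] [Fintype F] [Field K] [Fintype K] {q : ℕ} (hF : Fintype.card F = q) (hK : Fintype.card K = q ^ 2) (a b : F) (hab : ∀ z₁ z₂ : F, z₁ ^ 2 + a * z₁ * z₂ + b * z₂ ^ 2 = 0 → z₁ = 0 ∧ z₂ = 0) : Nonempty (Cfsg.POmega F (Cfsg.quadFormMinus 1 F a b) ≃* Matrix.ProjectiveSpecialLinearGroup (Fin 2) K) := by
  classical
  have hirr : Fact (∀ r : F, r ^ 2 ≠ -b + a * r) :=
    ⟨fun r h => one_ne_zero (hab (-r) 1 (by linear_combination h)).2⟩
  have hA : a ≠ 0 ∨ (2 : F) ≠ 0 := by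
    by_contra! h
    obtain ⟨t, ht⟩ := FiniteField.isSquare_of_char_two
      (CharP.ringChar_of_prime_eq_zero Nat.prime_two (by exact_mod_cast h.2)) b
    exact one_ne_zero (hab t 1 (by rw [h.1, ht]; linear_combination t * t * h.2)).2
  have : Finite (QuadraticAlgebra F (-b) a) := Finite.of_equiv _ (QuadraticAlgebra.equivProd (-b) a).symm
  let _ : Fintype (QuadraticAlgebra F (-b) a) := Fintype.ofFinite _
  have hK' : Fintype.card (QuadraticAlgebra F (-b) a) = q ^ 2 := by
    rw [← Nat.card_eq_fintype_card, Nat.card_congr (QuadraticAlgebra.equivProd (-b) a), Nat.card_prod,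
      Nat.card_eq_fintype_card, hF, sq]
  have hq : 2 ≤ q := hF ▸ Fintype.one_lt_card
  let G := SpecialLinearGroup (Fin 2) (QuadraticAlgebra F (-b) a)
  have h3 : 3 ≤ Fintype.card (QuadraticAlgebra F (-b) a) := by rw [hK']; nlinarith
  have hχ : ∀ χ : G →* ℤˣ, χ = 1 := slTwo_hom_trivial h3
  have hiff := hermHom_eq_one_iff (F := F) (a := a) (b := b) hA
  have hz : (-1 : G) ∈ Subgroup.center G :=
    Subgroup.mem_center_iff.2 fun g => Subtype.ext (by simp [G])
  obtain ⟨hk, hk2, hk1⟩ := card_ker_of_iff (hermHom hA) (-1 : G) hiff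
  have ho : Nat.card ↥(isometryGroup F (quadFormMinus 1 F a b)) = 2 * q ^ 2 * (q ^ 4 - 1) := by
    have := Cfsg.Agent.S0288.result hF 2 (by omega) a b hab
    rw [show (2 : ℕ) - 1 = 1 from rfl] at this
    rw [this, Finset.prod_range_one]
    have h1 : 1 ≤ q ^ 2 := Nat.one_le_pow _ _ (by omega)
    zify [h1, show 1 ≤ q ^ 4 from Nat.one_le_pow _ _ (by omega), show 1 ≤ q ^ (2 * (0 + 1)) from h1]
    ring
  have hsl : Nat.card G = q ^ 2 * (q ^ 4 - 1) := by
    rw [Cfsg.Agent.GLOrder.card_SL_two, Nat.card_eq_fintype_card, hK']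
    ring_nf
  have key : Nonempty (POmega F (quadFormMinus 1 F a b) ≃* G ⧸ Subgroup.center G) := by
    by_cases h2 : (2 : F) = 0
    · have h1 : (-1 : G) = 1 := by
        refine Subtype.ext ?_
        have h2' : (2 : QuadraticAlgebra F (-b) a) = 0 := by
          rw [← map_ofNat (algebraMap F (QuadraticAlgebra F (-b) a)) 2, h2, map_zero]
        rw [Matrix.SpecialLinearGroup.coe_neg, Matrix.SpecialLinearGroup.coe_one]
        ext i j : 1
        show -((1 : Matrix (Fin 2) (Fin 2) _) i j) = (1 : Matrix (Fin 2) (Fin 2) _) i j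
        linear_combination -((1 : Matrix (Fin 2) (Fin 2) (QuadraticAlgebra F (-b) a)) i j) * h2'
      suffices (Omega F (quadFormMinus 1 F a b)).index = 2 ∧
          (hermHom hA).range ≤ Omega F (quadFormMinus 1 F a b) by
        refine pomega_equiv_of_card (Q := quadFormMinus 1 F a b) (hermHom hA) this.2 hχ
          (ker_le_center_of_iff _ _ hiff hz) hk ?_
        rw [this.1, hk1 h1, ho, hsl]; ring
      by_cases h4 : 3 ≤ q
      · have hG : Good (quadMinus 1 F a b) :=
          Good.of_card (quadMinus_nondeg 1 hab) (.inl (by omega))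
        have hi : (Omega F ⇑(quadMinus 1 F a b)).index = 2 := omega_index_two hG (by simp) h2
        have hr := range_le_omega (G := G) hG
          (hermHom hA : G →* IsoGrp (quadMinus 1 F a b)) hχ
        exact ⟨hi, hr⟩
      · -- the field with two elements
        have hq2 : q = 2 := by omega
        subst hq2
        have hu : ∀ c : F, c ≠ 0 → c = 1 := fun c hc => by
          by_contra h1
          have : ({0, 1, c} : Finset F).card = 3 := by simp [Ne.symm hc, Ne.symm h1]
          have := Finset.card_le_univ ({0, 1, c} : Finset F)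
          omega
        obtain rfl : a = 1 := hu a (hA.resolve_right fun h => h h2)
        obtain rfl : b = 1 := hu b fun hb => one_ne_zero (hab 0 1 (by rw [hb]; ring)).2
        have hperf : commutator G = ⊤ := by
          refine Linear.commutator_sl_eq_top (.inr ?_)
          obtain ⟨x, hx0, hx1⟩ := exists_scalar_of_card (F := QuadraticAlgebra F (-1) (1 : F)) (by omega)
          refine ⟨x, hx0, fun h => hx1 ?_⟩
          have h2' : (2 : QuadraticAlgebra F (-1) (1 : F)) = 0 := by
            rw [← map_ofNat (algebraMap F (QuadraticAlgebra F (-1) (1 : F))) 2, h2, map_zero]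
          have : (x - 1) * (x - 1) = 0 := by linear_combination h + (1 - x) * h2'
          exact sub_eq_zero.1 (mul_self_eq_zero.1 this)
        have hle : (hermHom hA).range ≤ Omega F (quadFormMinus 1 F (1 : F) 1) :=
          range_le_omega_of_perfect (hermHom hA) hperf
        refine ⟨?_, hle⟩
        obtain ⟨e⟩ := Cfsg.Agent.S0824.result hF
        have hne : Omega F (quadFormMinus 1 F (1 : F) 1) ≠ ⊤ := fun htop => by
          have h := units_hom_eq_one_of_perfect htop (Equiv.Perm.sign.comp e.toMonoidHom)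
          have := congrArg (fun φ => φ (e.symm (Equiv.swap 0 1))) h
          simp at this
        have h5 : Nat.card G ≤ Nat.card ↥(Omega F (quadFormMinus 1 F (1 : F) 1)) := by
          have hinj : Function.Injective (hermHom (b := (1 : F)) hA) := by
            rw [injective_iff_map_eq_one]
            intro g hg
            rcases (hiff g).1 hg with rfl | rfl
            · rfl
            · exact h1
          have : Finite ↥(isometryGroup F (quadFormMinus 1 F (1 : F) 1)) :=
            Nat.finite_of_card_ne_zero (by rw [ho]; norm_num)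
          rw [Nat.card_congr (MonoidHom.ofInjective hinj).toEquiv]
          exact Subgroup.card_le_of_le hle
        have hm := (Omega F (quadFormMinus 1 F (1 : F) 1)).card_mul_index
        rw [ho] at hm
        rw [hsl] at h5
        norm_num at h5 hm
        have h1' : (Omega F (quadFormMinus 1 F (1 : F) 1)).index ≠ 1 := fun h =>
          hne (Subgroup.index_eq_one.1 h)
        rcases Nat.lt_or_ge (Omega F (quadFormMinus 1 F (1 : F) 1)).index 3 with h | h
        · rcases Nat.eq_zero_or_pos (Omega F (quadFormMinus 1 F (1 : F) 1)).index with h' | h'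
          · rw [h'] at hm; norm_num at hm
          · omega
        · nlinarith
    · have hG : Good (quadMinus 1 F a b) := Good.of_two_ne_zero (quadMinus_nondeg 1 hab) h2
      refine pomega_equiv_of_card (Q := quadFormMinus 1 F a b) (hermHom hA)
        (range_le_omega hG (hermHom hA) hχ) hχ (ker_le_center_of_iff _ _ hiff hz) hk ?_
      have h1 : (-1 : G) ≠ 1 := fun h => h2 (by
        have h' := congrArg (fun g : G => ((g : Matrix (Fin 2) (Fin 2) (QuadraticAlgebra F (-b) a)) 0 0).re) h
        simp [G, QuadraticAlgebra.re_one] at h'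
        linear_combination -h')
      show _ * (Omega F ⇑(quadMinus 1 F a b)).index = _
      rw [omega_index_odd hG (by simp) h2, hk2 h1, ho, hsl]
      ring
  obtain ⟨e⟩ := key
  exact ⟨e.trans (Linear.pslMapEquiv (FiniteField.ringEquivOfCardEq (hK'.trans hK.symm)))⟩

end Cfsg.Agent.S0300
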