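import Cfsg.Agent.Lib.Orth.Klein
import Cfsg.Agent.Lib.Orth.SLTools
import Cfsg.Agent.S0287

set_option autoImplicit false
open Cfsg

namespace Cfsg.Agent.S0302

open Cfsg.Agent.Orth Matrix

/-- PΩ^+_6(q) is isomorphic to PSL_4(q). -/
theorem result {F : Type*} [Field F] [Fintype F] : Nonempty (Cfsg.POmega F (Cfsg.quadFormPlus 3 F) ≃* Matrix.ProjectiveSpecialLinearGroup (Fin 4) F) := by
  classical
  have hQ := quadPlus_nondeg (F := F) 3
  have hG : Good (quadPlus 3 F) := ⟨hQ, .inr (by simp)⟩
  have hiff := fun g => kleinHom_eq_one_iff (F := F) g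
  have hz : (negOneSL : SpecialLinearGroup (Fin 4) F) ∈ Subgroup.center (SpecialLinearGroup (Fin 4) F) := by
    refine Subgroup.mem_center_iff.2 fun g => Subtype.ext ?_
    simp [coe_negOneSL]
  obtain ⟨hk, hk2, hk1⟩ := card_ker_of_iff kleinHom negOneSL hiff
  have ho : Nat.card (IsoGrp (quadPlus 3 F)) = _ := Cfsg.Agent.S0287.result (F := F) rfl 3 (by omega)
  have hSL := Cfsg.Agent.GLOrder.card_SL (F := F) 4
  refine pomega_equiv_of_card (Q := quadFormPlus 3 F) kleinHom
    (range_le_omega hG kleinHom (sl_hom_trivial (by omega))) (sl_hom_trivial (by omega))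
    (ker_le_center_of_iff kleinHom _ hiff hz) hk ?_
  show _ * (Omega F ⇑(quadPlus 3 F)).index = _ * Nat.card (IsoGrp (quadPlus 3 F))
  rw [ho, hSL, Nat.card_eq_fintype_card (α := F), show Finset.Ico 1 4 = {1, 2, 3} from rfl]
  simp only [Finset.prod_insert, Finset.prod_singleton, Finset.prod_range_succ, Finset.prod_range_zero,
    Finset.mem_insert, Finset.mem_singleton, show (1 : ℕ) ≠ 2 by omega, show (1 : ℕ) ≠ 3 by omega,
    show (2 : ℕ) ≠ 3 by omega, or_self, not_false_eq_true, one_mul]
  by_cases h2 : (2 : F) = 0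
  · have h1 : (negOneSL : SpecialLinearGroup (Fin 4) F) = 1 := Subtype.ext (by
      ext i j
      rw [coe_negOneSL]
      show -((1 : Matrix (Fin 4) (Fin 4) F) i j) = (1 : Matrix (Fin 4) (Fin 4) F) i j
      linear_combination -((1 : Matrix (Fin 4) (Fin 4) F) i j) * h2)
    rw [omega_index_two hG (by simp) h2, hk1 h1]
    norm_num
    ring
  · have h1 : (negOneSL : SpecialLinearGroup (Fin 4) F) ≠ 1 := fun h => h2 (by
      have h' := congrArg (fun g : SpecialLinearGroup (Fin 4) F => (g : Matrix (Fin 4) (Fin 4) F) 0 0) h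
      simp [coe_negOneSL] at h'
      linear_combination -h')
    rw [omega_index_odd hG (by simp) h2, hk2 h1]
    norm_num
    ring

end Cfsg.Agent.S0302
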