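import Cfsg.Agent.Lib.Orth.Dihedral

set_option autoImplicit false
open Cfsg

namespace Cfsg.Agent.S0305

open Matrix Cfsg.Agent.Orth

variable {F : Type*} [Field F]

/-- The matrix of `(x, y) ↦ (t x, s y)`. -/
def dg (t s : F) : Matrix (Fin 1 ⊕ Fin 1) (Fin 1 ⊕ Fin 1) F :=
  Matrix.diagonal (Sum.elim (fun _ => t) (fun _ => s))

theorem dg_mul (t s t' s' : F) : dg t s * dg t' s' = dg (t * t') (s * s') := by
  rw [dg, dg, dg, Matrix.diagonal_mul_diagonal]
  congr 1
  funext i; rcases i with i | i <;> rfl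

theorem dg_one : dg (1 : F) 1 = 1 := by
  rw [dg, ← Matrix.diagonal_one]
  congr 1
  funext i; rcases i with i | i <;> rfl

theorem Q_dg {t : Fˣ} (v : Fin 1 ⊕ Fin 1 → F) :
    quadFormPlus 1 F (dg (t : F) ((t⁻¹ : Fˣ) : F) *ᵥ v) = quadFormPlus 1 F v := by
  simp [quadFormPlus, dg, Matrix.mulVec_diagonal]
  field_simp

/-- The diagonal isometries. -/
def torusHom : Fˣ →* ↥(isometryGroup F (quadFormPlus 1 F)) :=
  MonoidHom.mk' (fun t => isoMk (dg (t : F) ((t⁻¹ : Fˣ) : F)) (dg ((t⁻¹ : Fˣ) : F) (t : F))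
      (by rw [dg_mul, Units.mul_inv, Units.inv_mul, dg_one])
      (by rw [dg_mul, Units.mul_inv, Units.inv_mul, dg_one]) Q_dg)
    (fun t t' => iso_ext (by
      rw [iso_coe_mul, coe_isoMk, coe_isoMk, coe_isoMk, dg_mul, Units.val_mul, mul_comm t t',
        _root_.mul_inv_rev, Units.val_mul]))

/-- The swap. -/
def swapIso : ↥(isometryGroup F (quadFormPlus 1 F)) :=
  isoMk (Matrix.fromBlocks 0 1 1 0) (Matrix.fromBlocks 0 1 1 0)
    (by rw [Matrix.fromBlocks_multiply]; simp) (by rw [Matrix.fromBlocks_multiply]; simp)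
    (fun v => by simp [quadFormPlus, Matrix.fromBlocks_mulVec, mul_comm])

theorem mem_range_or (g : ↥(isometryGroup F (quadFormPlus 1 F))) :
    g ∈ (torusHom (F := F)).range ∨ swapIso * g ∈ (torusHom (F := F)).range := by
  set M := ((g : GL (Fin 1 ⊕ Fin 1) F) : Matrix (Fin 1 ⊕ Fin 1) (Fin 1 ⊕ Fin 1) F) with hM
  set p := M (.inl 0) (.inl 0)
  set u := M (.inl 0) (.inr 0)
  set r := M (.inr 0) (.inl 0)
  set w := M (.inr 0) (.inr 0)
  have hQ : ∀ x y : F, (p * x + u * y) * (r * x + w * y) = x * y := fun x y => by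
    have := iso_preserves g (Sum.elim (fun _ => x) (fun _ => y))
    simpa [quadFormPlus, Matrix.mulVec, dotProduct, Fintype.sum_sum_type, ← hM] using this
  have h1 : p * r = 0 := by simpa using hQ 1 0
  have h2 : u * w = 0 := by simpa using hQ 0 1
  have h3 : p * w + u * r = 1 := by linear_combination hQ 1 1 - h1 - h2
  rcases mul_eq_zero.1 h1 with hp | hr
  · have hur : u * r = 1 := by rw [hp] at h3; simpa using h3
    have hw : w = 0 := (mul_eq_zero.1 h2).resolve_left (left_ne_zero_of_mul_eq_one hur)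
    refine .inr ⟨Units.mk0 r (right_ne_zero_of_mul_eq_one hur), iso_ext ?_⟩
    have hinv : r⁻¹ = u := by rw [inv_eq_iff_eq_inv, eq_inv_of_mul_eq_one_right hur]
    show dg r _ = Matrix.fromBlocks 0 1 1 0 * M
    ext i j
    rcases i with i | i <;> rcases j with j | j <;> fin_cases i <;> fin_cases j <;>
      simp [dg, Matrix.mul_apply, Fintype.sum_sum_type, ← hM, Matrix.one_apply, hinv] <;>
      first | rfl | exact hp.symm | exact hw.symm
  · have hpw : p * w = 1 := by rw [hr] at h3; simpa using h3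
    have hu : u = 0 := (mul_eq_zero.1 h2).resolve_right (right_ne_zero_of_mul_eq_one hpw)
    refine .inl ⟨Units.mk0 p (left_ne_zero_of_mul_eq_one hpw), iso_ext ?_⟩
    have hinv : p⁻¹ = w := by rw [eq_inv_of_mul_eq_one_right hpw]
    show dg p _ = M
    ext i j
    rcases i with i | i <;> rcases j with j | j <;> fin_cases i <;> fin_cases j <;>
      simp [dg, hinv] <;> first | rfl | exact hu.symm | exact hr.symm

/-- GO^+_2(q) is dihedral of order 2(q-1). -/
theorem result {F : Type*} [Field F] [Fintype F] {q : ℕ} (hF : Fintype.card F = q) : Nonempty (Cfsg.isometryGroup F (Cfsg.quadFormPlus 1 F) ≃* DihedralGroup (q - 1)) := by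
  classical
  have hq : 2 ≤ q := hF ▸ Fintype.one_lt_card
  have : NeZero (q - 1) := ⟨by omega⟩
  have hinj : Function.Injective (torusHom (F := F)) := fun t t' h => by
    have := congrArg (fun g : ↥(isometryGroup F (quadFormPlus 1 F)) =>
      ((g : GL (Fin 1 ⊕ Fin 1) F) : Matrix (Fin 1 ⊕ Fin 1) (Fin 1 ⊕ Fin 1) F) (.inl 0) (.inl 0)) h
    exact Units.ext (by simpa [torusHom, dg, coe_isoMk] using this)
  have hcard : Nat.card (torusHom (F := F)).range = q - 1 := by
    rw [Nat.card_congr (MonoidHom.ofInjective hinj).toEquiv.symm, Nat.card_eq_fintype_card,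
      Fintype.card_units, hF]
  have : IsCyclic (torusHom (F := F)).range :=
    isCyclic_of_surjective _ (MonoidHom.rangeRestrict_surjective (torusHom (F := F)))
  refine equiv_dihedral _ hcard swapIso (iso_ext ?_) ?_ ?_ mem_range_or
  · rw [iso_coe_mul, iso_coe_one, swapIso, coe_isoMk, Matrix.fromBlocks_multiply]; simp
  · rintro ⟨t, ht⟩
    have := congrArg (fun g : ↥(isometryGroup F (quadFormPlus 1 F)) =>
      ((g : GL (Fin 1 ⊕ Fin 1) F) : Matrix (Fin 1 ⊕ Fin 1) (Fin 1 ⊕ Fin 1) F) (.inl 0) (.inr 0)) ht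
    simp [torusHom, dg, coe_isoMk, swapIso, Matrix.one_apply] at this
  · rintro _ ⟨t, rfl⟩
    rw [← map_inv]
    refine iso_ext ?_
    simp only [torusHom, MonoidHom.mk'_apply, iso_coe_mul, coe_isoMk, swapIso, inv_inv]
    ext i j
    rcases i with i | i <;> rcases j with j | j <;> fin_cases i <;> fin_cases j <;>
      simp [dg, Matrix.mul_apply, Fintype.sum_sum_type, Matrix.one_apply]

end Cfsg.Agent.S0305
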