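import Cfsg.Agent.Lib.Orth.Dihedral
import Cfsg.Agent.S0288

set_option autoImplicit false
open Cfsg

namespace Cfsg.Agent.S0306

open Matrix Cfsg.Agent.Orth

variable {F : Type*} [Field F]

/-- The index type of the form. -/
abbrev J : Type := (Fin 0 ⊕ Fin 0) ⊕ Fin 2

/-- The coordinate. -/
def pr : J → Fin 2 := Sum.elim (Sum.elim Fin.elim0 Fin.elim0) id

/-- A `2 × 2` matrix on `J`. -/
def em (M : Matrix (Fin 2) (Fin 2) F) : Matrix J J F := Matrix.of fun i j => M (pr i) (pr j)

theorem em_mul (M N : Matrix (Fin 2) (Fin 2) F) : em M * em N = em (M * N) := by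
  ext i j; simp [em, Matrix.mul_apply, Fintype.sum_sum_type, pr]

theorem em_one : em (1 : Matrix (Fin 2) (Fin 2) F) = 1 := by
  ext i j
  rcases i with (i | i) | i
  · exact i.elim0
  · exact i.elim0
  rcases j with (j | j) | j
  · exact j.elim0
  · exact j.elim0
  simp [em, pr, Matrix.one_apply] <;> congr

theorem em_mulVec (M : Matrix (Fin 2) (Fin 2) F) (v : J → F) (i : Fin 2) :
    (em M *ᵥ v) (.inr i) = M i 0 * v (.inr 0) + M i 1 * v (.inr 1) := by
  simp [em, Matrix.mulVec, dotProduct, Fintype.sum_sum_type, pr]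

theorem eq_em (N : Matrix J J F) : N = em (Matrix.of fun i j => N (.inr i) (.inr j)) := by
  ext i j
  rcases i with (i | i) | i
  · exact i.elim0
  · exact i.elim0
  rcases j with (j | j) | j
  · exact j.elim0
  · exact j.elim0
  rfl

/-- The matrix of multiplication by `z` in the quadratic algebra. -/
def mulMat (a b : F) (z : QuadraticAlgebra F (-b) a) : Matrix (Fin 2) (Fin 2) F :=
  !![z.re, -b * z.im; z.im, z.re + a * z.im]

theorem mulMat_mul (a b : F) (z w : QuadraticAlgebra F (-b) a) :
    mulMat a b z * mulMat a b w = mulMat a b (z * w) := by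
  ext i j
  fin_cases i <;> fin_cases j <;>
    simp [mulMat, Matrix.mul_apply, QuadraticAlgebra.re_mul, QuadraticAlgebra.im_mul] <;> ring

theorem mulMat_one (a b : F) : mulMat a b 1 = 1 := by
  ext i j; fin_cases i <;> fin_cases j <;> simp [mulMat, QuadraticAlgebra.re_one, QuadraticAlgebra.im_one]

theorem qf_eq (a b : F) (v : J → F) : quadFormMinus 0 F a b v =
    v (.inr 0) ^ 2 + a * v (.inr 0) * v (.inr 1) + b * v (.inr 1) ^ 2 := by
  simp [quadFormMinus]

theorem norm_eq (a b : F) (z : QuadraticAlgebra F (-b) a) :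
    QuadraticAlgebra.norm z = z.re * z.re + a * z.re * z.im + b * z.im * z.im := by
  rw [QuadraticAlgebra.norm_def]; ring

theorem Q_mulMat (a b : F) (z : QuadraticAlgebra F (-b) a) (hz : QuadraticAlgebra.norm z = 1)
    (v : J → F) : quadFormMinus 0 F a b (em (mulMat a b z) *ᵥ v) = quadFormMinus 0 F a b v := by
  rw [norm_eq] at hz
  simp only [qf_eq, em_mulVec, mulMat]
  simp
  linear_combination (v (.inr 0) ^ 2 + a * v (.inr 0) * v (.inr 1) + b * v (.inr 1) ^ 2) * hz

/-- The norm-one units act as isometries. -/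
def rotHom (a b : F) :
    ↥((QuadraticAlgebra.norm.comp (Units.coeHom (QuadraticAlgebra F (-b) a))).ker) →*
      ↥(isometryGroup F (quadFormMinus 0 F a b)) :=
  MonoidHom.mk' (fun z => isoMk (em (mulMat a b z.1)) (em (mulMat a b (z⁻¹).1))
      (by rw [em_mul, mulMat_mul, ← Units.val_mul, ← Subgroup.coe_mul, mul_inv_cancel]
          simp [mulMat_one, em_one])
      (by rw [em_mul, mulMat_mul, ← Units.val_mul, ← Subgroup.coe_mul, inv_mul_cancel]
          simp [mulMat_one, em_one]) (Q_mulMat a b _ z.2))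
    (fun z w => iso_ext (by
      rw [iso_coe_mul, coe_isoMk, coe_isoMk, coe_isoMk, em_mul, mulMat_mul]; simp))

/-- The conjugation. -/
def conjIso (a b : F) : ↥(isometryGroup F (quadFormMinus 0 F a b)) :=
  isoMk (em !![1, a; 0, -1]) (em !![1, a; 0, -1])
    (by rw [em_mul, ← em_one]; congr 1; ext i j; fin_cases i <;> fin_cases j <;> simp)
    (by rw [em_mul, ← em_one]; congr 1; ext i j; fin_cases i <;> fin_cases j <;> simp)
    (fun v => by simp [qf_eq, em_mulVec]; ring)

/-- GO^-_2(q) is dihedral of order 2(q+1). -/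
theorem result {F : Type*} [Field F] [Fintype F] {q : ℕ} (hF : Fintype.card F = q) (a b : F) (hab : ∀ z₁ z₂ : F, z₁ ^ 2 + a * z₁ * z₂ + b * z₂ ^ 2 = 0 → z₁ = 0 ∧ z₂ = 0) : Nonempty (Cfsg.isometryGroup F (Cfsg.quadFormMinus 0 F a b) ≃* DihedralGroup (q + 1)) := by
  classical
  have hirr : Fact (∀ r : F, r ^ 2 ≠ -b + a * r) :=
    ⟨fun r h => one_ne_zero (hab (-r) 1 (by linear_combination h)).2⟩
  have : IsDomain (QuadraticAlgebra F (-b) a) := inferInstance
  have : Finite (QuadraticAlgebra F (-b) a) := Finite.of_equiv _ (QuadraticAlgebra.equivProd (-b) a).symm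
  let ψ := rotHom a b
  have hψ : Function.Injective ψ := fun z w h => by
    have h' := congrArg (fun g : ↥(isometryGroup F (quadFormMinus 0 F a b)) =>
      ((g : GL J F) : Matrix J J F)) h
    simp only [ψ, rotHom, MonoidHom.mk'_apply, coe_isoMk] at h'
    refine Subtype.ext (Units.ext (QuadraticAlgebra.ext ?_ ?_))
    · simpa [em, pr, mulMat] using congrFun (congrFun h' (.inr 0)) (.inr 0)
    · simpa [em, pr, mulMat] using congrFun (congrFun h' (.inr 1)) (.inr 0)
  have : IsCyclic ψ.range :=
    isCyclic_of_surjective _ (MonoidHom.rangeRestrict_surjective ψ)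
  have hs : conjIso a b * conjIso a b = 1 := iso_ext (by
    rw [iso_coe_mul, iso_coe_one, conjIso, coe_isoMk, em_mul, ← em_one]
    congr 1; ext i j; fin_cases i <;> fin_cases j <;> simp)
  have hinv : ∀ c ∈ ψ.range, conjIso a b * c * conjIso a b = c⁻¹ := by
    rintro _ ⟨z, rfl⟩
    refine eq_inv_of_mul_eq_one_left (iso_ext ?_)
    have hz : z.1.1.re * z.1.1.re + a * z.1.1.re * z.1.1.im + b * z.1.1.im * z.1.1.im = 1 := by
      rw [← norm_eq]; exact z.2
    simp only [iso_coe_mul, iso_coe_one, ψ, rotHom, MonoidHom.mk'_apply, conjIso, coe_isoMk, em_mul,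
      ← em_one]
    congr 1
    ext i j
    fin_cases i <;> fin_cases j <;> simp [mulMat, Matrix.mul_apply] <;>
      first | linear_combination hz | linear_combination -hz | linear_combination (norm := ring1) (0 : F) * hz
  have hsC : conjIso a b ∉ ψ.range := by
    rintro ⟨z, hz⟩
    have h' := congrArg (fun g : ↥(isometryGroup F (quadFormMinus 0 F a b)) =>
      ((g : GL J F) : Matrix J J F)) hz
    simp only [ψ, rotHom, MonoidHom.mk'_apply, conjIso, coe_isoMk] at h'
    have e10 := congrFun (congrFun h' (.inr 1)) (.inr 0)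
    have e00 := congrFun (congrFun h' (.inr 0)) (.inr 0)
    have e01 := congrFun (congrFun h' (.inr 0)) (.inr 1)
    have e11 := congrFun (congrFun h' (.inr 1)) (.inr 1)
    simp [em, pr, mulMat] at e10 e00 e01 e11
    rw [e10] at e01 e11
    -- forces `a = 0` and `1 = -1`, so the form is isotropic
    have ha : a = 0 := by linear_combination -e01
    have h2 : (2 : F) = 0 := by linear_combination e11 - e00
    obtain ⟨t, ht⟩ := FiniteField.isSquare_of_char_two
      (CharP.ringChar_of_prime_eq_zero Nat.prime_two (by exact_mod_cast h2)) b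
    exact one_ne_zero (hab t 1 (by rw [ha, ht]; linear_combination t * t * h2)).2
  have hall : ∀ g, g ∈ ψ.range ∨ conjIso a b * g ∈ ψ.range := by
    intro g
    obtain ⟨M, hM⟩ : ∃ M, ((g : GL J F) : Matrix J J F) = em M := ⟨_, eq_em _⟩
    have hQ : ∀ x y : F, (M 0 0 * x + M 0 1 * y) ^ 2 + a * (M 0 0 * x + M 0 1 * y) *
        (M 1 0 * x + M 1 1 * y) + b * (M 1 0 * x + M 1 1 * y) ^ 2 = x ^ 2 + a * x * y + b * y ^ 2 :=
      fun x y => by
      have := iso_preserves g (Sum.elim (fun _ => 0) ![x, y])
      rw [hM, qf_eq, qf_eq, em_mulVec, em_mulVec] at this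
      simpa using this
    let z : QuadraticAlgebra F (-b) a := ⟨M 0 0, M 1 0⟩
    have hz : QuadraticAlgebra.norm z = 1 := by
      rw [norm_eq]
      linear_combination hQ 1 0
    have hz0 : z ≠ 0 := fun h => by rw [h, QuadraticAlgebra.norm_zero] at hz; exact zero_ne_one hz
    let Z : ↥((QuadraticAlgebra.norm.comp (Units.coeHom (QuadraticAlgebra F (-b) a))).ker) :=
      ⟨Units.mk0 z hz0, hz⟩
    -- the second column is determined up to conjugation
    set u := (M 0 0 + a * M 1 0) * M 0 1 + b * M 1 0 * M 1 1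
    set v := -(M 1 0) * M 0 1 + M 0 0 * M 1 1
    rw [norm_eq] at hz
    have hp : M 0 1 = M 0 0 * u - b * M 1 0 * v := by linear_combination -(M 0 1) * hz
    have hr : M 1 1 = M 1 0 * u + (M 0 0 + a * M 1 0) * v := by linear_combination -(M 1 1) * hz
    have huv2 : u ^ 2 + a * u * v + b * v ^ 2 = b := by
      have := hQ 0 1
      simp only [mul_zero, mul_one, zero_add] at this
      rw [hp, hr] at this
      linear_combination this - (u ^ 2 + a * u * v + b * v ^ 2) * hz
    have huv1 : 2 * u + a * v = a := by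
      have h1 := hQ 1 1
      rw [hp, hr] at h1
      linear_combination h1 - hQ 1 0 - huv2 - (u ^ 2 + a * u * v + b * v ^ 2 + 2 * u + a * v) * hz
    have hor : (u = 0 ∧ v = 1) ∨ (u = a ∧ v = -1) := by
      by_cases h2 : (2 : F) = 0
      · have ha : a ≠ 0 := fun ha => by
          obtain ⟨t, ht⟩ := FiniteField.isSquare_of_char_two
            (CharP.ringChar_of_prime_eq_zero Nat.prime_two (by exact_mod_cast h2)) b
          exact one_ne_zero (hab t 1 (by rw [ha, ht]; linear_combination t * t * h2)).2
        have hv : v = 1 := mul_left_cancel₀ ha (by linear_combination huv1 - u * h2)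
        rw [hv] at huv2
        have : u * (u + a) = 0 := by linear_combination huv2
        rcases mul_eq_zero.1 this with hu | hu
        · exact .inl ⟨hu, hv⟩
        · exact .inr ⟨by linear_combination hu - a * h2, by rw [hv]; linear_combination h2⟩
      · have hd : a * a - 4 * b ≠ 0 := fun hd => by
          have := (hab (-a / 2) 1 (by field_simp; linear_combination -hd)).2
          exact one_ne_zero this
        have hvv : (a * a - 4 * b) * (v * v - 1) = 0 := by
          linear_combination (2 * u + a * v + a) * huv1 - 4 * huv2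
        rcases mul_self_eq_one_iff.1 (sub_eq_zero.1 ((mul_eq_zero.1 hvv).resolve_left hd)) with hv | hv
        · exact .inl ⟨mul_left_cancel₀ h2 (by rw [hv] at huv1; linear_combination huv1), hv⟩
        · exact .inr ⟨mul_left_cancel₀ h2 (by rw [hv] at huv1; linear_combination huv1), hv⟩
    rcases hor with ⟨hu, hv⟩ | ⟨hu, hv⟩
    · left
      refine ⟨Z, iso_ext ?_⟩
      rw [hM]
      show em (mulMat a b z) = em M
      congr 1
      ext i j
      fin_cases i <;> fin_cases j <;> simp [mulMat, z, hp, hr, hu, hv]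
    · right
      have hg : g = ψ Z * conjIso a b := iso_ext (by
        rw [hM, iso_coe_mul]
        show em M = em (mulMat a b z) * em !![1, a; 0, -1]
        rw [em_mul]
        congr 1
        ext i j
        fin_cases i <;> fin_cases j <;> simp [mulMat, Matrix.mul_apply, z, hp, hr, hu, hv] <;> ring)
      rw [hg, ← mul_assoc, hinv _ ⟨Z, rfl⟩]
      exact inv_mem ⟨Z, rfl⟩
  have : NeZero (Nat.card ψ.range) := ⟨Nat.card_pos.ne'⟩
  obtain ⟨e⟩ := equiv_dihedral ψ.range rfl (conjIso a b) hs hsC hinv hall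
  have hc := Nat.card_congr e.toEquiv
  have ho : Nat.card ↥(isometryGroup F (quadFormMinus 0 F a b)) = _ :=
    Cfsg.Agent.S0288.result hF 1 le_rfl a b hab
  rw [ho, DihedralGroup.nat_card] at hc
  have hq : Nat.card ψ.range = q + 1 := by
    simp only [Nat.sub_self, Finset.range_zero, Finset.prod_empty, pow_zero, pow_one, mul_zero, mul_one] at hc
    omega
  exact ⟨hq ▸ e⟩

end Cfsg.Agent.S0306
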