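import Cfsg.Statements.S0307
import Cfsg.Agent.EqLemmas

set_option autoImplicit false
open Cfsg

namespace Cfsg.Agent.S0307

/-- Surjection of a finite cyclic group of order `c` onto `ZMod (gcd n c)` whose kernel is the `n`-th powers. -/
theorem exists_power_quot {U : Type*} [CommGroup U] [Finite U] [IsCyclic U] (n c : ℕ) (hc : Nat.card U = c) :
    ∃ χ : U →* Multiplicative (ZMod (Nat.gcd n c)), Function.Surjective χ ∧ ∀ x, χ x = 1 ↔ ∃ y, y ^ n = x := by
  subst hc
  set c := Nat.card U
  set d := Nat.gcd n c with hd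
  have hdc : d ∣ c := Nat.gcd_dvd_right _ _
  let e : Multiplicative (ZMod c) ≃* U := zmodCyclicMulEquiv (inferInstance : IsCyclic U)
  let φ : ZMod c →+ ZMod d := (ZMod.castHom hdc (ZMod d)).toAddMonoidHom
  refine ⟨φ.toMultiplicative.comp e.symm.toMonoidHom, ?_, ?_⟩
  · exact Function.Surjective.comp (g := φ.toMultiplicative)
      (fun z => by
        obtain ⟨w, hw⟩ := ZMod.castHom_surjective hdc z.toAdd
        exact ⟨Multiplicative.ofAdd w, congrArg Multiplicative.ofAdd hw⟩) e.symm.surjective
  · intro x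
    constructor
    · intro hx
      set w : ZMod c := (e.symm x).toAdd with hw
      have h0 : ZMod.castHom hdc (ZMod d) w = 0 := congrArg Multiplicative.toAdd hx
      obtain ⟨k, hk⟩ := ZMod.intCast_surjective w
      rw [← hk, map_intCast, ZMod.intCast_zmod_eq_zero_iff_dvd] at h0
      obtain ⟨t, ht⟩ := h0
      have hb := Nat.gcd_eq_gcd_ab n c
      refine ⟨e (Multiplicative.ofAdd ((t * Nat.gcdA n c : ℤ) : ZMod c)), ?_⟩
      rw [← map_pow, ← MulEquiv.eq_symm_apply]
      apply Multiplicative.toAdd.injective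
      rw [toAdd_pow, toAdd_ofAdd, ← hw, ← hk, ht, nsmul_eq_mul, ← hd] at *
      rw [hb]
      push_cast
      simp
      ring
    · rintro ⟨y, rfl⟩
      rw [map_pow]
      apply Multiplicative.toAdd.injective
      rw [toAdd_pow, toAdd_one, nsmul_eq_mul, (ZMod.natCast_eq_zero_iff n d).mpr (Nat.gcd_dvd_left _ _), zero_mul]

/-- PSL_n(q) is normal in PGL_n(q) with cyclic quotient of order gcd(n, q-1): the image of the natural map PSL_n → PGL_n is the kernel of a surjective homomorphism onto the cyclic group of that order. -/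
theorem result {F : Type*} [Field F] [Fintype F] {q : ℕ} (hF : Fintype.card F = q) (n : ℕ) (hn : 1 ≤ n) : ∃ g : Matrix.ProjGenLinGroup (Fin n) F →* Multiplicative (ZMod (Nat.gcd n (q - 1))), Function.Surjective g ∧ g.ker = (Matrix.ProjectiveSpecialLinearGroup.toPGL : Matrix.ProjectiveSpecialLinearGroup (Fin n) F →* Matrix.ProjGenLinGroup (Fin n) F).range := by
  classical
  have hcard : Nat.card Fˣ = q - 1 := by
    rw [Nat.card_units, Nat.card_eq_fintype_card, hF]
  obtain ⟨χ, hχs, hχ⟩ := exists_power_quot (U := Fˣ) n (q - 1) hcard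
  let f : GL (Fin n) F →* Multiplicative (ZMod (Nat.gcd n (q - 1))) := χ.comp Matrix.GeneralLinearGroup.det
  have hdet : ∀ u : Fˣ, Matrix.GeneralLinearGroup.det (Matrix.GeneralLinearGroup.scalar (Fin n) u) = u ^ n := by
    intro u; ext; simp
  have hker : Subgroup.center (GL (Fin n) F) ≤ f.ker := by
    rw [Matrix.GeneralLinearGroup.center_eq_range_scalar]
    rintro _ ⟨u, rfl⟩
    exact (hχ _).mpr ⟨u, (hdet u).symm⟩
  let g : Matrix.ProjGenLinGroup (Fin n) F →* Multiplicative (ZMod (Nat.gcd n (q - 1))) :=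
    QuotientGroup.lift _ f hker
  refine ⟨g, ?_, ?_⟩
  · intro z
    obtain ⟨v, hv⟩ := hχs z
    obtain ⟨A, hA⟩ : ∃ A : GL (Fin n) F, Matrix.GeneralLinearGroup.det A = v := by
      let D : Matrix (Fin n) (Fin n) F := Matrix.diagonal (Function.update 1 ⟨0, hn⟩ (v : F))
      have hD : D.det = v := by simp [D, Finset.prod_update_of_mem]
      exact ⟨Matrix.GeneralLinearGroup.mkOfDetNeZero D (hD ▸ v.ne_zero), Units.ext hD⟩
    exact ⟨Matrix.ProjGenLinGroup.mk A, by show χ (Matrix.GeneralLinearGroup.det A) = z; rw [hA, hv]⟩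
  · apply le_antisymm
    · intro x hx
      cases x with
      | mk A =>
        obtain ⟨u, hu⟩ := (hχ (Matrix.GeneralLinearGroup.det A)).mp hx
        set B : GL (Fin n) F := A * Matrix.GeneralLinearGroup.scalar (Fin n) u⁻¹ with hB
        have h1 : Matrix.GeneralLinearGroup.det B = 1 := by
          rw [hB, map_mul, hdet, ← hu, inv_pow, mul_inv_cancel]
        let S : Matrix.SpecialLinearGroup (Fin n) F :=
          ⟨(B : Matrix (Fin n) (Fin n) F), congrArg Units.val h1⟩
        refine ⟨(S : Matrix.ProjectiveSpecialLinearGroup (Fin n) F), ?_⟩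
        have hS : Matrix.SpecialLinearGroup.toGL S = B := Units.ext rfl
        rw [Matrix.ProjectiveSpecialLinearGroup.toPGL_mk, hS, hB, map_mul,
          Matrix.ProjGenLinGroup.mk_scalar, mul_one]
    · rintro _ ⟨x, rfl⟩
      induction x using QuotientGroup.induction_on with
      | H S =>
        show χ (Matrix.GeneralLinearGroup.det (Matrix.SpecialLinearGroup.toGL S)) = 1
        have h1 : Matrix.GeneralLinearGroup.det (Matrix.SpecialLinearGroup.toGL S) = 1 := Units.ext S.2
        rw [h1, map_one]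

end Cfsg.Agent.S0307
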