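import Cfsg.Statements.S0313
import Cfsg.Agent.Lib.BN.Parabolic

set_option autoImplicit false
open Cfsg

namespace Cfsg.Agent.S0313

/-- Two standard parabolic subgroups of a group with a (B,N)-pair which are conjugate in `G` coincide. -/
theorem result {G : Type*} [Group G] (P : Cfsg.BNPair G) {J K : Set G}
    (hJ : J ⊆ P.S) (hK : K ⊆ P.S) (g : G)
    (h : (P.parabolic J).map (MulAut.conj g).toMonoidHom = P.parabolic K) :
    P.parabolic J = P.parabolic K := by
  have hg : g ∈ P.parabolic K := by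
    refine BN.mem_of_conj_le P (BN.le_parabolic P K) fun b hb => ?_
    rw [← h]
    exact ⟨b, BN.le_parabolic P J hb, rfl⟩
  refine le_antisymm (fun x hx => ?_) (fun x hx => ?_)
  · have h1 : g * x * g⁻¹ ∈ P.parabolic K := h ▸ ⟨x, hx, rfl⟩
    simpa [mul_assoc] using mul_mem (mul_mem (inv_mem hg) h1) hg
  · have h1 : g * x * g⁻¹ ∈ (P.parabolic J).map (MulAut.conj g).toMonoidHom := by
      rw [h]; exact mul_mem (mul_mem hg hx) (inv_mem hg)
    obtain ⟨y, hy, he⟩ := h1
    have e : g * y * g⁻¹ = g * x * g⁻¹ := he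
    rw [mul_left_inj, mul_right_inj] at e
    exact e ▸ hy

end Cfsg.Agent.S0313
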