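import Cfsg.Statements.S0321
import Cfsg.Agent.Lib.BN.Parabolic

set_option autoImplicit false
open Cfsg

namespace Cfsg.Agent.S0321

/-- For `n ∈ N` not in `B`, the union `B ∪ B n B` is (the underlying set of) a subgroup exactly when `n` agrees
modulo `B ⊓ N` with one of the distinguished representatives; thus the distinguished involutions are
determined by `B` and `N`. -/
theorem result {G : Type*} [Group G] (P : Cfsg.BNPair G) {n : G}
    (hn : n ∈ P.N) (hnB : n ∉ P.B) :
    (∃ H : Subgroup G, (H : Set G) = (P.B : Set G) ∪ DoubleCoset.doubleCoset n (P.B : Set G) P.B) ↔ ∃ s ∈ P.S, s⁻¹ * n ∈ P.B := by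
  constructor
  · rintro ⟨H, hH⟩
    have hBH : P.B ≤ H := fun b hb => by
      rw [← SetLike.mem_coe, hH]; exact Or.inl hb
    have hnH : n ∈ H := by
      rw [← SetLike.mem_coe, hH, ← BN.C_wOf P hn]
      exact Or.inr (BN.self_mem_C P hn)
    obtain ⟨l, hl, hlw⟩ := BN.exists_isReduced (BN.sigma_sq P) (BN.closure_sigma P) (BN.wOf P hn)
    match l with
    | [] => exact absurd ((BN.wOf_eq_one_iff P hn).1 hlw.symm) hnB
    | s :: l =>
      have hs : (s : G) ∈ H := BN.letters_mem P hBH hl (hlw ▸ BN.self_mem_C P hn)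
        (fun b hb => mul_mem (mul_mem hnH (hBH hb)) (inv_mem hnH)) s (by simp)
      rw [← SetLike.mem_coe, hH, ← BN.C_wOf P hn] at hs
      refine ⟨s, s.2, ?_⟩
      rcases hs with hs | hs
      · exact absurd ((BN.wOf_eq_one_iff P (P.subset s.2)).2 hs) (BN.sigma_ne_one P s)
      · exact (BN.wOf_eq_iff P (P.subset s.2) hn).1
          (BN.C_unique P (BN.self_mem_C P (P.subset s.2)) hs)
  · rintro ⟨s, hs, hsn⟩
    refine ⟨P.parabolic {s}, Set.Subset.antisymm ?_ ?_⟩
    · intro g hg
      obtain ⟨w, hw, hgw⟩ := (BN.mem_parabolic_iff P (Set.singleton_subset_iff.2 hs)).1 hg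
      have hw' : w = 1 ∨ w = BN.wOf P hn := by
        rw [← (BN.wOf_eq_iff P (P.subset hs) hn).2 hsn]
        clear hgw
        induction hw using Subgroup.closure_induction with
        | mem x hx =>
          obtain ⟨t, ht, rfl⟩ := hx
          obtain rfl : t = ⟨s, hs⟩ := Subtype.ext ht
          exact Or.inr rfl
        | one => exact Or.inl rfl
        | mul x y _ _ hx hy =>
          rcases hx with rfl | rfl
          · simpa using hy
          · rcases hy with rfl | rfl
            · simp
            · exact Or.inl (BN.sigma_sq P ⟨s, hs⟩)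
        | inv x _ hx =>
          rcases hx with rfl | rfl
          · simp
          · exact Or.inr (BN.sigma_inv' P ⟨s, hs⟩)
      rcases hw' with rfl | rfl
      · exact Or.inl ((BN.mem_C_one_iff P).1 hgw)
      · exact Or.inr (by rwa [BN.C_wOf P hn] at hgw)
    · refine Set.union_subset (BN.le_parabolic P _) ?_
      rw [← BN.C_wOf P hn, ← (BN.wOf_eq_iff P (P.subset hs) hn).2 hsn]
      exact BN.C_subset_parabolic P (Subgroup.subset_closure ⟨⟨s, hs⟩, rfl, rfl⟩)

end Cfsg.Agent.S0321
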