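import Cfsg.Statements.S0349
import Cfsg.Agent.Lib.SplitBNRankOne.Main

set_option autoImplicit false
open Cfsg

namespace Cfsg.Agent.S0349

/-- Let a finite simple group have a (B,N)-pair of rank one which is strongly split (`B = U (B ⊓ N)` with `U` nilpotent,
normal in `B` and meeting `N` trivially), with `[G : B]` and `|B ⊓ N|` odd. Then the group is isomorphic to `PSL₂(F)` with
`|F|` a power of `2`, or is simple of Suzuki order, or is isomorphic to `PSU₃` realised over a field with `q²` elements,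
`q = 2^n`, `n ≥ 2`. -/
theorem result {G : Type*} [Group G] [Finite G] [IsSimpleGroup G]
    (P : Cfsg.BNPair G) (hrank : P.rank = 1) (U : Subgroup G) (hUB : U ≤ P.B)
    (hUn : (U.subgroupOf P.B).Normal) (hUnil : Group.IsNilpotent U) (hsplit : U ⊔ (P.B ⊓ P.N) = P.B)
    (hdisj : U ⊓ P.N = ⊥) (hind : Odd P.B.index) (hH : Odd (Nat.card ↥(P.B ⊓ P.N))) :
    (∃ (F : Type) (_ : Field F) (_ : Fintype F), (∃ n : ℕ, Fintype.card F = 2 ^ n) ∧ Nonempty (G ≃* Matrix.ProjectiveSpecialLinearGroup (Fin 2) F)) ∨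
      Cfsg.IsSuzuki G ∨
      (∃ (F : Type) (_ : Field F) (_ : Fintype F) (n : ℕ), 2 ≤ n ∧ Fintype.card F = (2 ^ n) ^ 2 ∧
        Nonempty (G ≃* Cfsg.PSU 3 F (2 ^ n))) := by
  obtain ⟨b, h⟩ := SplitBNRankOne.hyp_of_bn P hrank U hUB hUn hUnil hsplit hind hH
  haveI := SplitBNRankOne.faithful_cosets P hrank
  rcases h.classify with ⟨F, _, _, hc, -, he⟩ | hs | ⟨F, _, _, q, hF, hq, hq4, ⟨e⟩⟩
  · refine Or.inl ⟨F, inferInstance, inferInstance, ?_, he⟩
    haveI := hc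
    obtain ⟨n, -, hn⟩ := FiniteField.card F 2
    exact ⟨n, hn⟩
  · exact Or.inr (Or.inl hs)
  · obtain ⟨p, hp⟩ := CharP.exists F
    haveI := hp
    obtain ⟨n, hpp, hn⟩ := FiniteField.card F p
    have h1 : q ^ 2 = p ^ (n : ℕ) := hF.symm.trans hn
    have h2 : 2 ∣ p := Nat.prime_two.dvd_of_dvd_pow
      (h1 ▸ (even_iff_two_dvd.1 hq).trans (dvd_pow_self q two_ne_zero))
    obtain rfl : p = 2 := ((Nat.prime_dvd_prime_iff_eq Nat.prime_two hpp).1 h2).symm
    obtain ⟨i, -, rfl⟩ := (Nat.dvd_prime_pow Nat.prime_two).1 (h1 ▸ dvd_pow_self q two_ne_zero)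
    refine Or.inr (Or.inr ⟨F, inferInstance, inferInstance, i, ?_, hF, ⟨e⟩⟩)
    by_contra hi
    have : 2 ^ i ≤ 2 ^ 1 := Nat.pow_le_pow_right (by norm_num) (by omega)
    omega

end Cfsg.Agent.S0349
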