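import Cfsg.Statements.S0353
import Cfsg.Agent.Lib.Golay.DesignCode

set_option autoImplicit false
open Cfsg

namespace Cfsg.Agent.S0353

/-- In an S(5, 8, 24), the symmetric difference of two blocks meeting in four points is a block. -/
theorem result {α : Type*} [Fintype α] [DecidableEq α] (hα : Fintype.card α = 24) {B : Set (Finset α)} (hB : Cfsg.IsSteinerSystem 5 8 B) {b c : Finset α} (hb : b ∈ B) (hc : c ∈ B) (h4 : (b ∩ c).card = 4) : symmDiff b c ∈ B := by
  obtain ⟨f, hf⟩ := Golay.exists_iso_octads hα hB
  have hbo : b.image f ∈ Cfsg.octads := hf ▸ Set.mem_image_of_mem _ hb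
  have hco : c.image f ∈ Cfsg.octads := hf ▸ Set.mem_image_of_mem _ hc
  have hsd : (symmDiff b c).image f ∈ Cfsg.octads := by
    rw [Finset.image_symmDiff _ _ f.injective]
    refine ⟨Golay.symmDiff_mem hbo.1 hco.1, ?_⟩
    have h := Golay.card_symmDiff_add (b.image f) (c.image f)
    rw [← Finset.image_inter _ _ f.injective, Finset.card_image_of_injective _ f.injective, h4,
      show (b.image f).card = 8 from hbo.2, show (c.image f).card = 8 from hco.2] at h
    omega
  rw [← hf] at hsd
  obtain ⟨d, hd, he⟩ := hsd
  exact Finset.image_injective f.injective he ▸ hd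

end Cfsg.Agent.S0353
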