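import Cfsg.Statements.S0355
import Cfsg.Agent.Lib.Golay.Steiner

set_option autoImplicit false
open Cfsg

namespace Cfsg.Agent.S0355

/-- In a Steiner system S(4, 7, 23), two distinct blocks intersect in 1 or 3 points. -/
theorem result {α : Type*} [Fintype α] [DecidableEq α] (hα : Fintype.card α = 23) {B : Set (Finset α)} (hB : Cfsg.IsSteinerSystem 4 7 B) {b c : Finset α} (hb : b ∈ B) (hc : c ∈ B) (hbc : b ≠ c) : (b ∩ c).card = 1 ∨ (b ∩ c).card = 3 := by
  have m0 := Golay.Design.moment hB (by norm_num) b (i := 0) (lam := 253) (by norm_num)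
    (by rw [hα]; decide +kernel)
  have m1 := Golay.Design.moment hB (by norm_num) b (i := 1) (lam := 77) (by norm_num)
    (by rw [hα]; decide +kernel)
  have m2 := Golay.Design.moment hB (by norm_num) b (i := 2) (lam := 21) (by norm_num)
    (by rw [hα]; decide +kernel)
  have m3 := Golay.Design.moment hB (by norm_num) b (i := 3) (lam := 5) (by norm_num)
    (by rw [hα]; decide +kernel)
  have z4 := Golay.Design.cnt_zero hB hb (j := 4) (by norm_num) (by norm_num)
  have z5 := Golay.Design.cnt_zero hB hb (j := 5) (by norm_num) (by norm_num)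
  have z6 := Golay.Design.cnt_zero hB hb (j := 6) (by norm_num) (by norm_num)
  have self := Golay.Design.cnt_self hB (by norm_num) hb
  simp only [hB.1 b hb, Finset.sum_range_succ, Finset.sum_range_zero, Nat.choose_zero_right,
    Nat.reduceAdd, z4, z5, z6, self] at m0 m1 m2 m3
  norm_num [Nat.choose] at m0 m1 m2 m3
  have hpos := Golay.Design.cnt_pos_of_mem (Y := b) hc
  have hlt := Golay.Design.inter_lt_of_ne hB hb hc hbc
  rw [Finset.inter_comm] at hpos
  generalize hj : (b ∩ c).card = j at hpos hlt ⊢
  interval_cases j <;> omega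

end Cfsg.Agent.S0355
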