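import Cfsg.Statements.S0357
import Cfsg.Agent.Lib.Golay.Steiner

set_option autoImplicit false
open Cfsg

namespace Cfsg.Agent.S0357

/-- In a Steiner system S(5, 6, 12), the complement of every block is again a block. -/
theorem result {α : Type*} [Fintype α] [DecidableEq α] (hα : Fintype.card α = 12) {B : Set (Finset α)} (hB : Cfsg.IsSteinerSystem 5 6 B) {b : Finset α} (hb : b ∈ B) : bᶜ ∈ B := by
  have m0 := Golay.Design.moment hB (by norm_num) b (i := 0) (lam := 132) (by norm_num)
    (by rw [hα]; decide +kernel)
  have m1 := Golay.Design.moment hB (by norm_num) b (i := 1) (lam := 66) (by norm_num)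
    (by rw [hα]; decide +kernel)
  have m2 := Golay.Design.moment hB (by norm_num) b (i := 2) (lam := 30) (by norm_num)
    (by rw [hα]; decide +kernel)
  have m3 := Golay.Design.moment hB (by norm_num) b (i := 3) (lam := 12) (by norm_num)
    (by rw [hα]; decide +kernel)
  have m4 := Golay.Design.moment hB (by norm_num) b (i := 4) (lam := 4) (by norm_num)
    (by rw [hα]; decide +kernel)
  have z5 := Golay.Design.cnt_zero hB hb (j := 5) (by norm_num) (by norm_num)
  have self := Golay.Design.cnt_self hB (by norm_num) hb
  simp only [hB.1 b hb, Finset.sum_range_succ, Finset.sum_range_zero, Nat.choose_zero_right,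
    Nat.reduceAdd, z5, self] at m0 m1 m2 m3 m4
  norm_num [Nat.choose] at m0 m1 m2 m3 m4
  have h0 : 0 < Golay.Design.cnt B b 0 := by omega
  obtain ⟨c, hc⟩ := Finset.card_pos.mp h0
  rw [Finset.mem_filter, SteinerCount.mem_blocks, Finset.card_eq_zero] at hc
  have : c = bᶜ := by
    refine Finset.eq_of_subset_of_card_le (fun x hx => ?_) ?_
    · rw [Finset.mem_compl]
      intro hxb
      have hmem : x ∈ c ∩ b := Finset.mem_inter.mpr ⟨hx, hxb⟩
      rw [hc.2] at hmem
      simp at hmem
    · rw [Finset.card_compl, hα, hB.1 b hb, hB.1 c hc.1]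
  exact this ▸ hc.1

end Cfsg.Agent.S0357
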