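import Cfsg.Statements.S0370
import Cfsg.Agent.Lib.Golay.Perm

set_option autoImplicit false
open Cfsg

namespace Cfsg.Agent.S0370

/-- The permutation x ↦ x + 1 of the residues modulo 23, fixing the extra point, lies in the group of the length-24 code. -/
theorem result : Equiv.optionCongr (Equiv.addRight (1 : ZMod 23)) ∈ Cfsg.M24 := by
  refine Golay.mem_M24_of_rows fun r hr => ?_
  rw [Golay.mem_supports_iff, Golay.smul_eq_image]
  have h : ∀ r ∈ Golay.rows, Golay.isCode (Golay.maskOf
      ((Golay.pts r).image fun p => Option.map (fun t : ZMod 23 => t + 1) p)) = true := by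
    decide +kernel
  convert h r hr using 3
  exact Finset.image_congr fun p _ => by cases p <;> rfl

end Cfsg.Agent.S0370
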