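import Cfsg.Statements.S0371
import Cfsg.Agent.Lib.Golay.Perm

set_option autoImplicit false
open Cfsg

namespace Cfsg.Agent.S0371

/-- Multiplication by a nonzero square residue modulo 23, fixing the extra point, lies in the group of the length-24 code. -/
theorem result (u : (ZMod 23)ˣ) (hu : IsSquare u) : Equiv.optionCongr (Units.mulLeft u) ∈ Cfsg.M24 := by
  have huniq : ∀ x : ZMod 23, IsUnit x → IsSquare x →
      ∀ r ∈ Golay.rows, Golay.isCode (Golay.maskOf
        ((Golay.pts r).image fun p => p.map fun t => x * t)) = true := by
    decide +kernel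
  refine Golay.mem_M24_of_rows fun r hr => ?_
  rw [Golay.mem_supports_iff, Golay.smul_eq_image]
  have hsq : IsSquare (u : ZMod 23) := hu.map (Units.coeHom (ZMod 23))
  convert huniq (u : ZMod 23) u.isUnit hsq r hr using 3
  exact Finset.image_congr fun p _ => by cases p <;> rfl

end Cfsg.Agent.S0371
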