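import Cfsg.Statements.S0373
import Cfsg.Agent.Lib.Golay.Perm

set_option autoImplicit false
open Cfsg

namespace Cfsg.Agent.S0373

/-- The cube-twist permutation (squares t ↦ t^3/9, non-squares t ↦ 9t^3, extra point fixed) lies in the group of the length-24 code. -/
theorem result : Cfsg.cubeTwist ∈ Cfsg.M24 := by
  refine Golay.mem_M24_of_rows ?_
  intro r hr
  rw [Golay.mem_supports_iff, Golay.smul_eq_image]
  exact (by decide +kernel : ∀ r ∈ Golay.rows,
    Golay.isCode (Golay.maskOf ((Golay.pts r).image Cfsg.cubeTwistFun)) = true) r hr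

end Cfsg.Agent.S0373
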