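import Cfsg.Statements.S0385
import Cfsg.Agent.Lib.Golay.Dodecad

set_option autoImplicit false
open Cfsg

namespace Cfsg.Agent.S0385

/-- The 6-point intersections of octads with a fixed dodecad form a Steiner system S(5, 6, 12) on the dodecad. -/
theorem result (d : Finset Cfsg.GolayPt) (hd : d ∈ Cfsg.dodecads) : Cfsg.IsSteinerSystem 5 6 {h : Finset {p : Cfsg.GolayPt // p ∈ d} | ∃ o ∈ Cfsg.octads, (o ∩ d).card = 6 ∧ h = Finset.subtype (fun p => p ∈ d) o} := by
  refine ⟨?_, fun s hs => ?_⟩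
  · rintro _ ⟨o, -, h6, rfl⟩
    rw [Finset.card_subtype, Finset.filter_mem_eq_inter]
    exact h6
  · have hs' : (s.map (Function.Embedding.subtype _)).card = 5 := by rw [Finset.card_map, hs]
    obtain ⟨o, ho, hso⟩ := Golay.exists_octad hs'
    have hmem : ∀ x ∈ s, (x : Cfsg.GolayPt) ∈ o ∩ d := fun x hx =>
      Finset.mem_inter.mpr ⟨hso (Finset.mem_map_of_mem (Function.Embedding.subtype _) hx), x.2⟩
    have h5 : 5 ≤ (o ∩ d).card := by
      rw [← hs']
      refine Finset.card_le_card fun x hx => ?_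
      obtain ⟨y, hy, rfl⟩ := Finset.mem_map.mp hx
      exact hmem y hy
    have h6 : (o ∩ d).card = 6 := by
      rcases Golay.octad_inter_dodecad ho hd with h | h | h <;> omega
    refine ⟨Finset.subtype (fun p => p ∈ d) o, ⟨⟨o, ho, h6, rfl⟩, fun x hx => ?_⟩, ?_⟩
    · exact Finset.mem_subtype.mpr (Finset.mem_inter.mp (hmem x hx)).1
    · rintro _ ⟨⟨o', ho', -, rfl⟩, hsub⟩
      suffices o' = o by rw [this]
      refine Golay.octad_eq_of_five ho' ho ?_
      rw [← hs']
      refine Finset.card_le_card fun x hx => ?_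
      obtain ⟨y, hy, rfl⟩ := Finset.mem_map.mp hx
      exact Finset.mem_inter.mpr
        ⟨Finset.mem_subtype.mp (hsub hy), (Finset.mem_inter.mp (hmem y hy)).1⟩

end Cfsg.Agent.S0385
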