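import Cfsg.Statements.S0395
import Cfsg.Agent.Lib.Leech.Count

set_option autoImplicit false
open Cfsg

namespace Cfsg.Agent.S0395

/-- Exactly 16773120 lattice vectors have sum of squares 48. -/
theorem result : {x : Cfsg.GolayPt → ℤ | x ∈ Cfsg.leechLattice ∧ Cfsg.sqNorm x = 48}.ncard = 16773120 := by
  have h := Cfsg.Agent.Leech.ncard_shellSet (N := 48) (by norm_num) (by norm_num) (by norm_num)
    Cfsg.Agent.Leech.allVals
  rw [Cfsg.Agent.Leech.shellSet_full (by norm_num)] at h
  rw [show Cfsg.Agent.Leech.leechCount 48 Cfsg.Agent.Leech.allVals = 16773120 by decide +kernel] at h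
  exact_mod_cast h

end Cfsg.Agent.S0395
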