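import Cfsg.Statements.S0399
import Cfsg.Agent.Lib.Leech.Co1Simple

set_option autoImplicit false
open Cfsg

namespace Cfsg.Agent.S0399

/-- Automorphism group of the lattice modulo its centre is simple of order 4157776806543360000. -/
theorem result : Cfsg.IsCo1 (Cfsg.Co0 ⧸ Subgroup.center Cfsg.Co0) := by
  refine ⟨Leech.isSimpleGroup_co1, ?_⟩
  have h := Subgroup.card_eq_card_quotient_mul_card_subgroup (Subgroup.center Cfsg.Co0)
  rw [Leech.card_co0, Leech.natCard_center] at h
  omega

end Cfsg.Agent.S0399
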