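import Cfsg.Statements.S0402
import Cfsg.Agent.Lib.Leech.Co2Simple

set_option autoImplicit false
open Cfsg

namespace Cfsg.Agent.S0402

/-- Stabiliser of a minimal vector is simple of order 42305421312000. -/
theorem result (v : Cfsg.leechLattice) (hv : Cfsg.sqNorm (v : Cfsg.GolayPt → ℤ) = 32) : Cfsg.IsCo2 (MulAction.stabilizer Cfsg.Co0 v) := by
  obtain ⟨g, hg⟩ := Leech.transitive32 Leech.golayUnique hv Leech.sqNorm_baseU
  have e : (MulAction.stabilizer Co0 v).map (MulAut.conj g).toMonoidHom = Leech.co2Group := by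
    rw [← MulAction.stabilizer_smul_eq_stabilizer_map_conj, hg]
    rfl
  have f : MulAction.stabilizer Co0 v ≃* Leech.co2Group :=
    (Subgroup.equivMapOfInjective _ _ (MulAut.conj g).injective).trans (MulEquiv.subgroupCongr e)
  exact ⟨@MulEquiv.isSimpleGroup _ _ _ _ Leech.isSimpleGroup_co2Group f,
    (Nat.card_congr f.toEquiv).trans Leech.natCard_co2Group⟩

end Cfsg.Agent.S0402
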