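import Cfsg.Statements.S0403
import Cfsg.Agent.Lib.Leech.Co3Simple

set_option autoImplicit false
open Cfsg

namespace Cfsg.Agent.S0403

/-- Stabiliser of a vector of sum of squares 48 is simple of order 495766656000. -/
theorem result (v : Cfsg.leechLattice) (hv : Cfsg.sqNorm (v : Cfsg.GolayPt → ℤ) = 48) : Cfsg.IsCo3 (MulAction.stabilizer Cfsg.Co0 v) := by
  obtain ⟨g, hg⟩ := Leech.exists_to_baseF Leech.golayUnique hv
  have e : (MulAction.stabilizer Co0 v).map (MulAut.conj g).toMonoidHom = Leech.co3Group := by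
    rw [← MulAction.stabilizer_smul_eq_stabilizer_map_conj, hg]
    rfl
  have f : MulAction.stabilizer Co0 v ≃* Leech.co3Group :=
    (Subgroup.equivMapOfInjective _ _ (MulAut.conj g).injective).trans (MulEquiv.subgroupCongr e)
  exact ⟨@MulEquiv.isSimpleGroup _ _ _ _ Leech.isSimpleGroup_co3Group f,
    (Nat.card_congr f.toEquiv).trans Leech.natCard_co3Group⟩

end Cfsg.Agent.S0403
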