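import Cfsg.Statements.S0404
import Cfsg.Agent.Lib.Leech.McLSimple

set_option autoImplicit false
open Cfsg

namespace Cfsg.Agent.S0404

/-- Joint stabiliser of two minimal vectors with coordinate dot product −8 is simple of order 898128000. -/
theorem result (v w : Cfsg.leechLattice) (hv : Cfsg.sqNorm (v : Cfsg.GolayPt → ℤ) = 32) (hw : Cfsg.sqNorm (w : Cfsg.GolayPt → ℤ) = 32) (hvw : Cfsg.dotInt (v : Cfsg.GolayPt → ℤ) (w : Cfsg.GolayPt → ℤ) = -8) : Cfsg.IsMcL ↥(MulAction.stabilizer Cfsg.Co0 v ⊓ MulAction.stabilizer Cfsg.Co0 w) := by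
  open MulAction Leech in
  have hu : sqNorm ((v + w : leechLattice) : GolayPt → ℤ) = 48 := by
    rw [AddSubgroup.coe_add, sqNorm_add, hv, hw, hvw]; norm_num
  have huv : dotInt ((v + w : leechLattice) : GolayPt → ℤ) (v : GolayPt → ℤ) = 24 := by
    rw [AddSubgroup.coe_add, Leech.dotInt_add_left, ← Leech.sqNorm_eq_dotInt, hv,
      Leech.dotInt_comm, hvw]
    norm_num
  obtain ⟨g, g1, g2⟩ := Leech.exists_normal_six hu hv huv
  have e : MulAction.stabilizer Co0 v ⊓ MulAction.stabilizer Co0 w =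
      MulAction.stabilizer Co0 (v + w) ⊓ MulAction.stabilizer Co0 v := by
    ext k
    simp only [Subgroup.mem_inf, MulAction.mem_stabilizer_iff]
    exact ⟨fun h => ⟨by rw [Leech.smul_vadd, h.1, h.2], h.1⟩, fun h => ⟨h.2, add_left_cancel
      (a := v) (by rw [← h.1, Leech.smul_vadd, h.2])⟩⟩
  obtain ⟨f⟩ := Leech.smul_stabilizer_pair g1 g2
  rw [e]
  exact ⟨@MulEquiv.isSimpleGroup _ _ _ _ Leech.isSimpleGroup_mclGroup f,
    (Nat.card_congr f.toEquiv).trans Leech.natCard_mclGroup⟩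

end Cfsg.Agent.S0404
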