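import Cfsg.Agent.S1587

set_option autoImplicit false
open Matrix

namespace Cfsg.Agent.S1588

variable {B : Matrix (Fin 24) (Fin 24) ℤ}

/-- Reduction modulo 2 of an integer vector. -/
def red (x : Fin 24 → ℤ) : Fin 24 → ZMod 2 := fun i => (x i : ZMod 2)

theorem red_eq_iff (x y : Fin 24 → ℤ) : red x = red y ↔ ∀ i, (2 : ℤ) ∣ (x - y) i := by
  constructor
  · intro h i
    have := congrFun h i
    simp only [red] at this
    rw [ZMod.intCast_eq_intCast_iff_dvd_sub] at this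
    rw [Pi.sub_apply, ← dvd_neg, neg_sub]
    exact_mod_cast this
  · intro h; funext i
    simp only [red]
    rw [ZMod.intCast_eq_intCast_iff_dvd_sub]
    have := h i
    rw [Pi.sub_apply, ← dvd_neg, neg_sub] at this
    exact_mod_cast this

theorem orth_card_le (hsymm : B.IsSymm) (R : Finset (Fin 24 → ℤ))
    (h8 : ∀ y ∈ R, y ⬝ᵥ (B *ᵥ y) = 8)
    (ho : ∀ y ∈ R, ∀ y' ∈ R, y ≠ y' → y ⬝ᵥ (B *ᵥ y') = 0) : R.card ≤ 24 := by
  have hli : LinearIndependent ℤ (fun y : R => (y : Fin 24 → ℤ)) := by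
    rw [Fintype.linearIndependent_iff]
    intro c hc j
    have h := congrArg (fun v : Fin 24 → ℤ => v ⬝ᵥ (B *ᵥ (j : Fin 24 → ℤ))) hc
    simp only [sum_dotProduct, smul_dotProduct, zero_dotProduct, smul_eq_mul] at h
    rw [Finset.sum_eq_single j] at h
    · rw [h8 _ j.2] at h; omega
    · intro b _ hb
      rw [ho _ b.2 _ j.2 (fun e => hb (Subtype.ext e)), mul_zero]
    · intro hj; exact absurd (Finset.mem_univ j) hj
  have := hli.fintype_card_le_finrank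
  rwa [Module.finrank_fin_fun, Fintype.card_coe] at this

theorem fibre8_le (hsymm : B.IsSymm) (hpos : ∀ x : Fin 24 → ℤ, x ≠ 0 → 0 < x ⬝ᵥ (B *ᵥ x))
    (heven : ∀ x : Fin 24 → ℤ, (2 : ℤ) ∣ x ⬝ᵥ (B *ᵥ x))
    (h2 : ∀ x : Fin 24 → ℤ, x ⬝ᵥ (B *ᵥ x) ≠ 2) (F : Finset (Fin 24 → ℤ))
    (h8 : ∀ y ∈ F, y ⬝ᵥ (B *ᵥ y) = 8) (hc : ∀ y ∈ F, ∀ y' ∈ F, red y = red y') :
    F.card ≤ 48 := by
  classical
  let rep : (Fin 24 → ℤ) → (Fin 24 → ℤ) := fun y => if toLex y ≤ toLex (-y) then y else -y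
  have hrep : ∀ y, rep y = y ∨ rep y = -y := by
    intro y
    by_cases h : toLex y ≤ toLex (-y)
    · exact Or.inl (if_pos h)
    · exact Or.inr (if_neg h)
  have hrep_neg : ∀ y, rep (-y) = rep y := by
    intro y
    simp only [rep, neg_neg]
    rcases lt_trichotomy (toLex y) (toLex (-y)) with h | h | h
    · rw [if_neg (not_le.2 h), if_pos h.le]
    · have : y = -y := toLex.injective h
      rw [if_pos h.le, if_pos h.ge]; exact this.symm
    · rw [if_pos h.le, if_neg (not_le.2 h)]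
  have h1 : F.card ≤ 2 * (F.image rep).card := by
    refine Finset.card_le_mul_card_image F 2 (fun b _ => ?_)
    calc (F.filter fun a => rep a = b).card ≤ ({b, -b} : Finset (Fin 24 → ℤ)).card := by
          refine Finset.card_le_card fun a ha => ?_
          obtain ⟨-, ha⟩ := Finset.mem_filter.1 ha
          rcases hrep a with h | h <;> rw [h] at ha <;> simp [← ha]
      _ ≤ 2 := Finset.card_le_two
  have h2' : (F.image rep).card ≤ 24 := by
    apply orth_card_le hsymm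
    · intro y hy
      obtain ⟨a, ha, rfl⟩ := Finset.mem_image.1 hy
      rcases hrep a with h | h <;> rw [h]
      · exact h8 a ha
      · simpa [mulVec_neg] using h8 a ha
    · intro y hy y' hy' hne
      obtain ⟨a, ha, rfl⟩ := Finset.mem_image.1 hy
      obtain ⟨a', ha', rfl⟩ := Finset.mem_image.1 hy'
      rcases S1587.result B hsymm hpos heven h2 a a' (h8 a ha) (h8 a' ha')
        ((red_eq_iff a a').1 (hc a ha a' ha')) with h | h | h
      · exact absurd (by rw [h]) hne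
      · exact absurd (by rw [h, hrep_neg]) hne
      · rcases hrep a with e | e <;> rcases hrep a' with e' | e' <;> rw [e, e'] <;>
          simp [mulVec_neg, h]
  omega

theorem result (B : Matrix (Fin 24) (Fin 24) ℤ) (hsymm : B.IsSymm) (hpos : ∀ x : Fin 24 → ℤ, x ≠ 0 → 0 < x ⬝ᵥ (B *ᵥ x)) (heven : ∀ x : Fin 24 → ℤ, (2 : ℤ) ∣ x ⬝ᵥ (B *ᵥ x)) (h2 : ∀ x : Fin 24 → ℤ, x ⬝ᵥ (B *ᵥ x) ≠ 2) (h4 : {x : Fin 24 → ℤ | x ⬝ᵥ (B *ᵥ x) = 4}.ncard = 196560) (h6 : {x : Fin 24 → ℤ | x ⬝ᵥ (B *ᵥ x) = 6}.ncard = 16773120) (h8 : {x : Fin 24 → ℤ | x ⬝ᵥ (B *ᵥ x) = 8}.ncard = 398034000) (x : Fin 24 → ℤ) (hx : x ⬝ᵥ (B *ᵥ x) = 8) : {y : Fin 24 → ℤ | y ⬝ᵥ (B *ᵥ y) = 8 ∧ ∀ i, (2 : ℤ) ∣ (x - y) i}.ncard = 48 := by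
  classical
  obtain ⟨S4, e4⟩ := (Set.finite_of_ncard_ne_zero (by omega :
    {x : Fin 24 → ℤ | x ⬝ᵥ (B *ᵥ x) = 4}.ncard ≠ 0)).exists_finset_coe
  obtain ⟨S6, e6⟩ := (Set.finite_of_ncard_ne_zero (by omega :
    {x : Fin 24 → ℤ | x ⬝ᵥ (B *ᵥ x) = 6}.ncard ≠ 0)).exists_finset_coe
  obtain ⟨S8, e8⟩ := (Set.finite_of_ncard_ne_zero (by omega :
    {x : Fin 24 → ℤ | x ⬝ᵥ (B *ᵥ x) = 8}.ncard ≠ 0)).exists_finset_coe
  rw [← e4, Set.ncard_coe_finset] at h4
  rw [← e6, Set.ncard_coe_finset] at h6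
  rw [← e8, Set.ncard_coe_finset] at h8
  have m4 : ∀ y, y ∈ S4 ↔ y ⬝ᵥ (B *ᵥ y) = 4 := fun y => Set.ext_iff.1 e4 y
  have m6 : ∀ y, y ∈ S6 ↔ y ⬝ᵥ (B *ᵥ y) = 6 := fun y => Set.ext_iff.1 e6 y
  have m8 : ∀ y, y ∈ S8 ↔ y ⬝ᵥ (B *ᵥ y) = 8 := fun y => Set.ext_iff.1 e8 y
  have hsmall : ∀ y y' : Fin 24 → ℤ, y ⬝ᵥ (B *ᵥ y) + y' ⬝ᵥ (B *ᵥ y') < 16 → red y = red y' →
      y' = y ∨ y' = -y := by
    intro y y' hlt he
    rcases S1587.congr_two hsymm hpos heven h2 y y' ((red_eq_iff _ _).1 he) with h | h | ⟨h, h'⟩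
    · exact Or.inl h
    · exact Or.inr h
    · omega
  have hneg : ∀ y : Fin 24 → ℤ, (-y) ⬝ᵥ (B *ᵥ (-y)) = y ⬝ᵥ (B *ᵥ y) := by
    intro y; simp [mulVec_neg]
  have hfib : ∀ (S : Finset (Fin 24 → ℤ)) (n : ℤ), n < 8 → (∀ y ∈ S, y ⬝ᵥ (B *ᵥ y) = n) →
      S.card ≤ 2 * (S.image red).card := by
    intro S n hn hS
    refine Finset.card_le_mul_card_image S 2 (fun b hb => ?_)
    obtain ⟨a, ha, rfl⟩ := Finset.mem_image.1 hb
    calc (S.filter fun y => red y = red a).card ≤ ({a, -a} : Finset (Fin 24 → ℤ)).card := by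
          refine Finset.card_le_card fun y hy => ?_
          obtain ⟨hy, hy'⟩ := Finset.mem_filter.1 hy
          rcases hsmall a y (by rw [hS a ha, hS y hy]; omega) hy'.symm with h | h <;> simp [h]
      _ ≤ 2 := Finset.card_le_two
  have hdisj : ∀ (S T : Finset (Fin 24 → ℤ)) (n m : ℤ), n + m < 16 → n ≠ m →
      (∀ y ∈ S, y ⬝ᵥ (B *ᵥ y) = n) → (∀ y ∈ T, y ⬝ᵥ (B *ᵥ y) = m) →
      Disjoint (S.image red) (T.image red) := by
    intro S T n m hlt hne hS hT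
    rw [Finset.disjoint_left]
    intro v hv hv'
    obtain ⟨a, ha, rfl⟩ := Finset.mem_image.1 hv
    obtain ⟨b, hb, hb'⟩ := Finset.mem_image.1 hv'
    rcases hsmall a b (by rw [hS a ha, hT b hb]; omega) hb'.symm with h | h
    · exact hne (by rw [← hS a ha, ← hT b hb, h])
    · exact hne (by rw [← hS a ha, ← hT b hb, h, hneg])
  have hzero : ∀ y : Fin 24 → ℤ, red y = red 0 → 0 < y ⬝ᵥ (B *ᵥ y) →
      y ⬝ᵥ (B *ᵥ y) ≤ 8 → False := by
    intro y he hp hle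
    rcases hsmall y 0 (by simp; omega) he with h | h
    · rw [← h] at hp; simp at hp
    · rw [zero_eq_neg] at h; rw [h] at hp; simp at hp
  have hu4 := hfib S4 4 (by norm_num) (fun y hy => (m4 y).1 hy)
  have hu6 := hfib S6 6 (by norm_num) (fun y hy => (m6 y).1 hy)
  have hd46 := hdisj S4 S6 4 6 (by norm_num) (by norm_num) (fun y hy => (m4 y).1 hy)
    (fun y hy => (m6 y).1 hy)
  have hd48 := hdisj S4 S8 4 8 (by norm_num) (by norm_num) (fun y hy => (m4 y).1 hy)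
    (fun y hy => (m8 y).1 hy)
  have hd68 := hdisj S6 S8 6 8 (by norm_num) (by norm_num) (fun y hy => (m6 y).1 hy)
    (fun y hy => (m8 y).1 hy)
  have hnot : red 0 ∉ S4.image red ∪ S6.image red ∪ S8.image red := by
    simp only [Finset.mem_union, Finset.mem_image]
    rintro ((⟨y, hy, he⟩ | ⟨y, hy, he⟩) | ⟨y, hy, he⟩)
    · rw [m4] at hy; exact hzero y he (by omega) (by omega)
    · rw [m6] at hy; exact hzero y he (by omega) (by omega)
    · rw [m8] at hy; exact hzero y he (by omega) (by omega)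
  have htot := Finset.card_le_univ (insert (red 0) (S4.image red ∪ S6.image red ∪ S8.image red))
  rw [Finset.card_insert_of_notMem hnot, Finset.card_union_of_disjoint
    (Finset.disjoint_union_left.2 ⟨hd48, hd68⟩), Finset.card_union_of_disjoint hd46,
    Fintype.card_fun, ZMod.card, Fintype.card_fin] at htot
  have h224 : (2 : ℕ) ^ 24 = 16777216 := by norm_num
  rw [h224] at htot
  have hf8 : ∀ v ∈ S8.image red, (S8.filter fun y => red y = v).card ≤ 48 := by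
    intro v _
    apply fibre8_le hsymm hpos heven h2
    · intro y hy; exact (m8 y).1 (Finset.mem_filter.1 hy).1
    · intro y hy y' hy'; rw [(Finset.mem_filter.1 hy).2, (Finset.mem_filter.1 hy').2]
  have hset : {y : Fin 24 → ℤ | y ⬝ᵥ (B *ᵥ y) = 8 ∧ ∀ i, (2 : ℤ) ∣ (x - y) i}
      = ↑(S8.filter fun y => red y = red x) := by
    ext y
    simp only [Set.mem_setOf_eq, Finset.coe_filter, m8, ← red_eq_iff]
    exact and_congr_right fun _ => eq_comm
  rw [hset, Set.ncard_coe_finset]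
  have hxmem : red x ∈ S8.image red := Finset.mem_image_of_mem red ((m8 x).2 hx)
  by_contra hne
  have hlt : (S8.filter fun y => red y = red x).card < 48 := lt_of_le_of_ne (hf8 _ hxmem) hne
  have hsum := Finset.card_eq_sum_card_image red S8
  have : ∑ v ∈ S8.image red, (S8.filter fun y => red y = v).card < ∑ v ∈ S8.image red, 48 :=
    Finset.sum_lt_sum hf8 ⟨red x, hxmem, hlt⟩
  rw [← hsum, Finset.sum_const, smul_eq_mul] at this
  omega

end Cfsg.Agent.S1588
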