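import Cfsg.Statements.S0406
import Cfsg.Agent.S1588
import Cfsg.Agent.Lib.Leech.Unique

set_option autoImplicit false
open Matrix
open Cfsg

namespace Cfsg.Agent.S0406

open Leech

variable {B : Matrix (Fin 24) (Fin 24) ℤ}

theorem characterisation (B : Matrix (Fin 24) (Fin 24) ℤ) (hsymm : B.IsSymm)
    (hpos : ∀ x : Fin 24 → ℤ, x ≠ 0 → 0 < x ⬝ᵥ (B *ᵥ x))
    (heven : ∀ x : Fin 24 → ℤ, (2 : ℤ) ∣ x ⬝ᵥ (B *ᵥ x)) (h2 : ∀ x : Fin 24 → ℤ, x ⬝ᵥ (B *ᵥ x) ≠ 2)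
    (h4 : {x : Fin 24 → ℤ | x ⬝ᵥ (B *ᵥ x) = 4}.ncard = 196560)
    (h6 : {x : Fin 24 → ℤ | x ⬝ᵥ (B *ᵥ x) = 6}.ncard = 16773120)
    (h8 : {x : Fin 24 → ℤ | x ⬝ᵥ (B *ᵥ x) = 8}.ncard = 398034000) :
    ∃ f : (Fin 24 → ℤ) ≃+ leechLattice, ∀ x : Fin 24 → ℤ,
      sqNorm ((f x : leechLattice) : GolayPt → ℤ) = 8 * (x ⬝ᵥ (B *ᵥ x)) := by
  classical
  obtain ⟨x0, hx0⟩ := Set.nonempty_of_ncard_ne_zero (by omega :
    {x : Fin 24 → ℤ | x ⬝ᵥ (B *ᵥ x) = 8}.ncard ≠ 0)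
  have h48 := S1588.result B hsymm hpos heven h2 h4 h6 h8 x0 hx0
  obtain ⟨F, eF⟩ := (Set.finite_of_ncard_ne_zero (by omega :
    {y : Fin 24 → ℤ | y ⬝ᵥ (B *ᵥ y) = 8 ∧ ∀ i, (2 : ℤ) ∣ (x0 - y) i}.ncard ≠ 0)).exists_finset_coe
  rw [← eF, Set.ncard_coe_finset] at h48
  have hF : ∀ y ∈ F, y ⬝ᵥ (B *ᵥ y) = 8 ∧ ∀ i, (2 : ℤ) ∣ (x0 - y) i := fun y hy =>
    (Set.ext_iff.1 eF y).1 hy
  have hFc : ∀ y ∈ F, ∀ z ∈ F, ∀ i, (2 : ℤ) ∣ (y - z) i := by
    intro y hy z hz i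
    have a := (hF y hy).2 i
    have b := (hF z hz).2 i
    simp only [Pi.sub_apply] at a b ⊢
    omega
  let rep : (Fin 24 → ℤ) → Finset (Fin 24 → ℤ) := fun y => {y, -y}
  have h24 : F.card ≤ 2 * (F.image rep).card := by
    refine Finset.card_le_mul_card_image F 2 (fun b hb => ?_)
    obtain ⟨a, ha, rfl⟩ := Finset.mem_image.1 hb
    calc (F.filter fun y => rep y = rep a).card ≤ (rep a).card := by
          refine Finset.card_le_card fun y hy => ?_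
          rw [← (Finset.mem_filter.1 hy).2]; simp [rep]
      _ ≤ 2 := Finset.card_le_two
  have hsec : ∀ P : (F.image rep : Finset _), ∃ y ∈ F, rep y = P.1 := fun P =>
    Finset.mem_image.1 P.2
  choose g hg hgP using hsec
  obtain ⟨e⟩ : Nonempty (GolayPt ↪ (F.image rep : Finset _)) :=
    Function.Embedding.nonempty_of_card_le (by rw [card_pt, Fintype.card_coe]; omega)
  set y : GolayPt → Fin 24 → ℤ := fun p => g (e p) with hy
  have hn : ∀ p, y p ⬝ᵥ (B *ᵥ y p) = 8 := fun p => (hF _ (hg _)).1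
  have ho : ∀ p q, p ≠ q → y p ⬝ᵥ (B *ᵥ y q) = 0 := by
    intro p q hpq
    rcases S1587.result B hsymm hpos heven h2 (y p) (y q) (hn p) (hn q)
      (hFc _ (hg _) _ (hg _)) with h | h | h
    · exact absurd (e.injective (Subtype.ext (by rw [← hgP (e p), ← hgP (e q)]; exact congrArg rep h.symm))) hpq
    · refine absurd (e.injective (Subtype.ext ?_)) hpq
      rw [← hgP (e p), ← hgP (e q)]
      show rep (y p) = rep (y q)
      rw [h]
      simp only [rep, neg_neg, Finset.pair_comm]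
    · exact h
  -- coordinates with respect to the frame
  let φ : (Fin 24 → ℤ) →+ (GolayPt → ℤ) := AddMonoidHom.mk' (fun x p => x ⬝ᵥ (B *ᵥ y p))
    (fun a b => funext fun p => add_dotProduct a b _)
  have hφ : ∀ x p, φ x p = x ⬝ᵥ (B *ᵥ y p) := fun _ _ => rfl
  have hy8 : ∀ p, φ (y p) = Pi.single p 8 := by
    intro p
    funext q
    rw [hφ]
    by_cases h : q = p
    · subst h; rw [Pi.single_eq_same, hn]
    · rw [Pi.single_eq_of_ne h, ho p q (Ne.symm h)]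
  obtain ⟨ε⟩ : Nonempty (Fin 24 ≃ GolayPt) := ⟨(Fintype.equivFinOfCardEq card_pt).symm⟩
  set Y : Matrix (Fin 24) (Fin 24) ℚ := Matrix.of fun k i => (y (ε k) i : ℚ) with hY
  set Bq : Matrix (Fin 24) (Fin 24) ℚ := B.map (fun z => (z : ℚ)) with hBq
  have hcast : ∀ a b : Fin 24 → ℤ,
      ((fun i => (a i : ℚ)) ⬝ᵥ (Bq *ᵥ fun i => (b i : ℚ))) = ((a ⬝ᵥ (B *ᵥ b) : ℤ) : ℚ) := by
    intro a b
    simp [dotProduct, Matrix.mulVec, hBq]
  have h1 : Y * ((8 : ℚ)⁻¹ • (Bq * Y.transpose)) = 1 := by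
    ext k l
    rw [Matrix.mul_smul, Matrix.smul_apply, smul_eq_mul]
    have : (Y * (Bq * Y.transpose)) k l = ((y (ε k) ⬝ᵥ (B *ᵥ y (ε l)) : ℤ) : ℚ) := by
      rw [← hcast]
      simp [Matrix.mul_apply, dotProduct, Matrix.mulVec, hY]
    rw [this]
    by_cases h : k = l
    · subst h; rw [hn, Matrix.one_apply_eq]; norm_num
    · rw [Matrix.one_apply_ne h, ho _ _ (fun e => h (ε.injective e))]; simp
  have h3 := mul_eq_one_comm.1 h1
  have hdot : ∀ a b : Fin 24 → ℤ, dotInt (φ a) (φ b) = 8 * (a ⬝ᵥ (B *ᵥ b)) := by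
    intro a b
    have h4 : Bq * Y.transpose * Y = (8 : ℚ) • (1 : Matrix (Fin 24) (Fin 24) ℚ) := by
      rw [← h3, Matrix.smul_mul, smul_smul]
      norm_num
    set A : Fin 24 → ℚ := fun i => (a i : ℚ)
    set Bv : Fin 24 → ℚ := fun i => (b i : ℚ)
    have hYm : ∀ (z : Fin 24 → ℤ) k, (Y *ᵥ (Bq *ᵥ fun i => (z i : ℚ))) k
        = ((z ⬝ᵥ (B *ᵥ y (ε k)) : ℤ) : ℚ) := by
      intro z k
      rw [S1587.bil_comm hsymm, ← hcast]
      rfl
    have h5 : A ⬝ᵥ ((Bq * Y.transpose * Y) *ᵥ (Bq *ᵥ Bv)) = 8 * (A ⬝ᵥ (Bq *ᵥ Bv)) := by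
      rw [h4, Matrix.smul_mulVec, Matrix.one_mulVec, dotProduct_smul, smul_eq_mul]
    rw [Matrix.mul_assoc, ← Matrix.mulVec_mulVec, ← Matrix.mulVec_mulVec,
      Matrix.dotProduct_mulVec, hcast] at h5
    have hsy : A ᵥ* Bq = Bq *ᵥ A := by
      rw [← Matrix.mulVec_transpose]
      congr 1
      rw [hBq]; ext i j
      simp [hsymm.apply i j]
    rw [hsy, Matrix.dotProduct_mulVec, Matrix.vecMul_transpose] at h5
    have h6 : (dotInt (φ a) (φ b) : ℚ) = (8 * (a ⬝ᵥ (B *ᵥ b)) : ℤ) := by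
      rw [dotInt, ← Equiv.sum_comp ε (fun p => φ a p * φ b p)]
      push_cast
      rw [← h5]
      simp only [dotProduct]
      refine Finset.sum_congr rfl fun k _ => ?_
      rw [hYm, hYm, hφ, hφ]
    exact_mod_cast h6
  have hnorm : ∀ a, sqNorm (φ a) = 8 * (a ⬝ᵥ (B *ᵥ a)) := fun a => by
    rw [sqNorm_eq_dotInt, hdot]
  have hinj : Function.Injective φ := by
    intro a b h
    by_contra hne
    have h1 := hnorm (a - b)
    rw [map_sub, h, sub_self, sqNorm_zero] at h1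
    have := hpos (a - b) (sub_ne_zero.2 hne)
    omega
  have hL : LeechLike φ.range :=
  { four_mem := by
      intro p q s t hst
      obtain ⟨k, hk⟩ := hst
      choose z hz using hFc _ (hg (e p)) _ (hg (e q))
      refine ⟨k • y p - t • (z : Fin 24 → ℤ), ?_⟩
      have h2 : (2 : ℤ) • φ z = Pi.single p 8 - Pi.single q 8 := by
        rw [← hy8 p, ← hy8 q, ← map_sub, ← map_zsmul]
        refine congrArg φ (funext fun i => ?_)
        rw [Pi.smul_apply, smul_eq_mul, ← hz i]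
      rw [map_sub, map_zsmul, map_zsmul, hy8 p]
      funext l
      have h3 := congrFun h2 l
      simp only [Pi.smul_apply, Pi.sub_apply, Pi.single_apply, smul_eq_mul] at h3
      simp only [Pi.sub_apply, Pi.add_apply, Pi.smul_apply, Pi.single_apply, smul_eq_mul]
      have h4 : φ z l = (if l = p then 4 else 0) - (if l = q then 4 else 0) := by
        split_ifs at h3 ⊢ <;> omega
      rw [h4]
      split_ifs <;> first
        | ring1
        | linear_combination (4 : ℤ) * hk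
        | linear_combination (-4 : ℤ) * hk
    dvd_dot := by
      rintro _ ⟨v, rfl⟩ _ ⟨w, rfl⟩
      exact ⟨_, hdot v w⟩
    dvd_norm := by
      rintro _ ⟨v, rfl⟩
      obtain ⟨m, hm⟩ := heven v
      exact ⟨m, by rw [hnorm, hm]; ring⟩
    min32 := by
      rintro _ ⟨v, rfl⟩ h0
      have := S1587.four_le hpos heven h2 (z := v) (fun h => h0 (by rw [h, map_zero]))
      rw [hnorm]; omega
    count := by
      rw [← h4, ← Set.ncard_image_of_injective {x : Fin 24 → ℤ | x ⬝ᵥ (B *ᵥ x) = 4} hinj]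
      congr 1
      ext x
      constructor
      · rintro ⟨⟨v, rfl⟩, hv⟩
        refine ⟨v, ?_, rfl⟩
        rw [hnorm] at hv
        show v ⬝ᵥ (B *ᵥ v) = 4
        omega
      · rintro ⟨v, hv, rfl⟩
        exact ⟨⟨v, rfl⟩, by rw [hnorm, show v ⬝ᵥ (B *ᵥ v) = 4 from hv]; norm_num⟩ }
  obtain ⟨σ, d, hd, hmap⟩ := recognition golayUnique hL
  let f : (Fin 24 → ℤ) →+ leechLattice := AddMonoidHom.mk'
    (fun v => ⟨twist σ d (φ v), (SetLike.ext_iff.1 hmap _).1 (AddSubgroup.mem_map_of_mem _ ⟨v, rfl⟩)⟩)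
    (fun a b => Subtype.ext (by simp))
  have hf : Function.Bijective f := by
    refine ⟨fun v w h => hinj (twist_injective σ hd (congrArg Subtype.val h)), fun w => ?_⟩
    obtain ⟨u, ⟨v, rfl⟩, hu⟩ := (SetLike.ext_iff.1 hmap _).2 w.2
    exact ⟨v, Subtype.ext hu⟩
  refine ⟨AddEquiv.ofBijective f hf, fun x => ?_⟩
  show sqNorm (twist σ d (φ x)) = _
  rw [sqNorm_twist σ hd, hnorm]

/-- A rank-24 even lattice with no roots and the stated numbers of vectors of norms 4, 6, 8 is isomorphic to the Leech lattice. -/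
theorem result (B : Matrix (Fin 24) (Fin 24) ℤ) (hsymm : B.IsSymm) (hpos : ∀ x : Fin 24 → ℤ, x ≠ 0 → 0 < x ⬝ᵥ (B *ᵥ x)) (heven : ∀ x : Fin 24 → ℤ, (2 : ℤ) ∣ x ⬝ᵥ (B *ᵥ x)) (h2 : ∀ x : Fin 24 → ℤ, x ⬝ᵥ (B *ᵥ x) ≠ 2) (h4 : {x : Fin 24 → ℤ | x ⬝ᵥ (B *ᵥ x) = 4}.ncard = 196560) (h6 : {x : Fin 24 → ℤ | x ⬝ᵥ (B *ᵥ x) = 6}.ncard = 16773120) (h8 : {x : Fin 24 → ℤ | x ⬝ᵥ (B *ᵥ x) = 8}.ncard = 398034000) : ∃ f : (Fin 24 → ℤ) ≃+ Cfsg.leechLattice, ∀ x : Fin 24 → ℤ, Cfsg.sqNorm ((f x : Cfsg.leechLattice) : Cfsg.GolayPt → ℤ) = 8 * (x ⬝ᵥ (B *ᵥ x)) := by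
  exact characterisation B hsymm hpos heven h2 h4 h6 h8

end Cfsg.Agent.S0406
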