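import Cfsg.Statements.S0412
import Cfsg.Agent.Lib.Golay.DesignAut

set_option autoImplicit false
open Cfsg

namespace Cfsg.Agent.S0412

/-- Aut of an S(5, 8, 24) is simple of order 244823040 and 5-transitive on points. -/
theorem result {α : Type*} [Fintype α] [DecidableEq α] (hα : Fintype.card α = 24) {B : Set (Finset α)} (hB : Cfsg.IsSteinerSystem 5 8 B) : Cfsg.IsM24 (Cfsg.setSystemAut B) ∧ MulAction.IsMultiplyPretransitive (Cfsg.setSystemAut B) α 5 := by
  obtain ⟨f, φ, h⟩ := Golay.aut24_equiv hα hB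
  refine ⟨⟨?_, ?_⟩, ⟨fun x y => ?_⟩⟩
  · have := Golay.isSimpleGroup_m24
    exact φ.isSimpleGroup
  · rw [Nat.card_congr φ.toEquiv, Golay.natCard_M24]
  · obtain ⟨g, hg, hgx⟩ := Golay.exists_map_five (x.trans f.toEmbedding) (y.trans f.toEmbedding)
    refine ⟨φ.symm ⟨g, hg⟩, Function.Embedding.ext fun i => f.injective ?_⟩
    have h2 := h (φ.symm ⟨g, hg⟩) (x i)
    rw [MulEquiv.apply_symm_apply] at h2
    exact h2.symm.trans (hgx i)

end Cfsg.Agent.S0412
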