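import Cfsg.Statements.S0413
import Cfsg.Agent.Lib.Golay.DesignAut

set_option autoImplicit false
open Cfsg

namespace Cfsg.Agent.S0413

/-- Aut of an S(4, 7, 23) is simple of order 10200960 and 4-transitive. -/
theorem result {α : Type*} [Fintype α] [DecidableEq α] (hα : Fintype.card α = 23) {B : Set (Finset α)} (hB : Cfsg.IsSteinerSystem 4 7 B) : Cfsg.IsM23 (Cfsg.setSystemAut B) ∧ MulAction.IsMultiplyPretransitive (Cfsg.setSystemAut B) α 4 := by
  obtain ⟨f, φ, h⟩ := Golay.aut23_equiv hα hB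
  refine ⟨⟨?_, ?_⟩, ⟨fun x y => ?_⟩⟩
  · have := Golay.isSimpleGroup_m23 (f none)
    exact φ.isSimpleGroup
  · rw [Nat.card_congr φ.toEquiv, Golay.natCard_m23]
  · let ext : (Fin 4 ↪ α) → (Fin 5 ↪ Cfsg.GolayPt) := fun u =>
      ⟨Fin.cons (f none) fun i => f (some (u i)), Fin.cons_injective_iff.mpr
        ⟨fun ⟨i, hi⟩ => Option.some_ne_none _ (f.injective hi),
          f.injective.comp ((Option.some_injective α).comp u.injective)⟩⟩
    obtain ⟨g, hg, hgx⟩ := Golay.exists_map_five (ext x) (ext y)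
    have hfix : g (f none) = f none := hgx 0
    refine ⟨φ.symm ⟨g, hg, hfix⟩, Function.Embedding.ext fun i =>
      Option.some_injective _ (f.injective ?_)⟩
    have h2 := h (φ.symm ⟨g, hg, hfix⟩) (x i)
    rw [MulEquiv.apply_symm_apply] at h2
    exact h2.symm.trans (by simpa [ext] using hgx i.succ)

end Cfsg.Agent.S0413
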