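import Cfsg.Statements.S0418
import Cfsg.Agent.EqLemmas

set_option autoImplicit false
open Cfsg

namespace Cfsg.Agent.S0418

open MulAction in
/-- A group acting sharply 4-transitively on 11 points is simple of order 7920. -/
theorem simple_of_sharply_four {G β : Type*} [Group G] [Finite G] [MulAction G β] [Fintype β]
    (hβ : Fintype.card β = 11) [IsMultiplyPretransitive G β 4]
    (hsharp : ∀ x : Fin 4 ↪ β, stabilizer G x = ⊥) : IsSimpleGroup G ∧ Nat.card G = 7920 := by
  classical
  have : Fact (Nat.Prime 11) := ⟨by norm_num⟩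
  have hne : Nonempty β := Fintype.card_pos_iff.mp (by omega)
  obtain ⟨a⟩ := hne
  let x0 : Fin 4 ↪ β := (Fin.castLEEmb (by omega : 4 ≤ Fintype.card β)).trans (Fintype.equivFin β).symm.toEmbedding
  have hcard : Nat.card G = 7920 := by
    have h1 := (stabilizer G x0).index_mul_card
    rw [index_stabilizer_of_transitive G x0, hsharp x0, Subgroup.card_bot, mul_one,
      Nat.card_eq_fintype_card, Fintype.card_embedding_eq, Fintype.card_fin, hβ] at h1
    rw [← h1]; rfl
  have hfaith : ∀ g : G, (∀ b : β, g • b = b) → g = 1 := by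
    intro g hg
    have h : g ∈ stabilizer G x0 := DFunLike.ext _ _ fun i => hg _
    rwa [hsharp x0, Subgroup.mem_bot] at h
  have h2 : IsMultiplyPretransitive G β 2 :=
    isMultiplyPretransitive_of_le (n := 4) (by omega) (by rw [Nat.card_eq_fintype_card, hβ]; norm_num)
  have hpre : IsPretransitive G β := isPretransitive_of_is_two_pretransitive
  have hprim : IsPreprimitive G β := isPreprimitive_of_is_two_pretransitive h2
  have htr : ∀ N : Subgroup G, N.Normal → N ≠ ⊥ → IsPretransitive N β := by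
    intro N hN hNb
    refine IsQuasiPreprimitive.isPretransitive_of_normal ?_
    intro hfix
    refine hNb ((Subgroup.eq_bot_iff_forall N).mpr fun g hg => hfaith g fun b => ?_)
    have hb : b ∈ fixedPoints N β := hfix ▸ Set.mem_univ b
    exact hb ⟨g, hg⟩
  have hdvd : ∀ N : Subgroup G, N.Normal → N ≠ ⊥ → 11 ∣ Nat.card N := by
    intro N hN hNb
    have := htr N hN hNb
    have h := (stabilizer N a).index_mul_card
    rw [index_stabilizer_of_transitive N a, Nat.card_eq_fintype_card (α := β), hβ] at h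
    exact ⟨_, h.symm⟩
  obtain ⟨P⟩ := (inferInstance : Nonempty (Sylow 11 G))
  have hPcard : Nat.card P = 11 := by
    have h11 : Nat.factorization 7920 11 = 1 := by
      rw [Nat.factorization_def _ (by norm_num : Nat.Prime 11), show (7920 : ℕ) = 11 * 720 from rfl,
        padicValNat.mul (by norm_num) (by norm_num), padicValNat.self (by norm_num),
        padicValNat.eq_zero_of_not_dvd (by norm_num)]
    rw [P.card_eq_multiplicity, hcard, h11, pow_one]
  have hPtr : IsPretransitive P β := by
    obtain ⟨g, hgP, hg1⟩ : ∃ g ∈ (P : Subgroup G), g ≠ 1 := by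
      by_contra hno
      push Not at hno
      have : (P : Subgroup G) = ⊥ := (Subgroup.eq_bot_iff_forall _).mpr hno
      have h := hPcard
      rw [show Nat.card P = Nat.card (P : Subgroup G) from rfl, this, Subgroup.card_bot] at h
      omega
    obtain ⟨b, hb⟩ : ∃ b : β, g • b ≠ b := by
      by_contra hno; push Not at hno; exact hg1 (hfaith g hno)
    have horb : Nat.card (orbit P b) = 11 := by
      have h := Nat.card_coe_set_eq (orbit P b)
      have hd : Nat.card (orbit P b) ∣ 11 := by
        rw [Nat.card_congr (orbitEquivQuotientStabilizer P b)]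
        exact (Subgroup.card_quotient_dvd_card _).trans hPcard.dvd
      rcases (Nat.dvd_prime (by norm_num)).mp hd with h1 | h1
      · rw [Nat.card_eq_one_iff_unique] at h1
        obtain ⟨hs, -⟩ := h1
        exact absurd (congrArg Subtype.val (hs.elim ⟨g • b, ⟨⟨g, hgP⟩, rfl⟩⟩ ⟨b, mem_orbit_self b⟩)) hb
      · exact h1
    have huniv : orbit P b = Set.univ := by
      apply Set.eq_of_subset_of_ncard_le (Set.subset_univ _)
      rw [Set.ncard_univ, Nat.card_eq_fintype_card, hβ, ← Nat.card_coe_set_eq, horb]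
    refine ⟨fun x y => ?_⟩
    obtain ⟨k1, hk1⟩ : x ∈ orbit P b := huniv ▸ Set.mem_univ x
    obtain ⟨k2, hk2⟩ : y ∈ orbit P b := huniv ▸ Set.mem_univ y
    exact ⟨k2 * k1⁻¹, by rw [← hk1, ← hk2]; simp [mul_smul]⟩
  have hPfree : ∀ g ∈ (P : Subgroup G), g • a = a → g = 1 := by
    intro g hg hga
    have h := (stabilizer P a).index_mul_card
    rw [index_stabilizer_of_transitive P a, Nat.card_eq_fintype_card (α := β), hβ, hPcard] at h
    have h1 : Nat.card (stabilizer P a) = 1 := by omega
    have hbot := (Subgroup.card_eq_one (H := stabilizer P a)).mp h1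
    have : (⟨g, hg⟩ : P) ∈ stabilizer P a := hga
    rw [hbot, Subgroup.mem_bot] at this
    exact congrArg Subtype.val this
  -- `P` is self-centralising
  have hcent : ∀ c : G, (∀ g ∈ (P : Subgroup G), c * g = g * c) → c ∈ (P : Subgroup G) := by
    intro c hc
    obtain ⟨⟨g, hg⟩, hga⟩ := exists_smul_eq P a (c • a)
    have hga' : g • a = c • a := hga
    have h1 : ∀ b : β, (g⁻¹ * c) • b = b := by
      intro b
      obtain ⟨⟨k, hk⟩, rfl⟩ := exists_smul_eq P a b
      show (g⁻¹ * c) • k • a = k • a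
      have hgk : g⁻¹ * k = k * g⁻¹ := by
        have hcyc : IsCyclic P := isCyclic_of_prime_card hPcard
        let _ : CommGroup P := hcyc.commGroup
        exact congrArg Subtype.val (mul_comm (⟨g, hg⟩⁻¹ : P) ⟨k, hk⟩)
      rw [← mul_smul, mul_assoc, hc k hk, ← mul_assoc, hgk, mul_assoc, mul_smul, mul_smul, ← hga', inv_smul_smul]
    have h2 := hfaith _ h1
    rw [inv_mul_eq_one] at h2
    exact h2 ▸ hg
  have hgen : ∀ g ∈ (P : Subgroup G), g ≠ 1 → (P : Subgroup G) = Subgroup.zpowers g := by
    intro g hg hg1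
    refine (Subgroup.eq_of_le_of_card_ge (Subgroup.zpowers_le.mpr hg) ?_).symm
    rw [Nat.card_zpowers]
    have hd : orderOf g ∣ 11 := hPcard ▸ (Subgroup.orderOf_dvd_natCard _ hg)
    rcases (Nat.dvd_prime (by norm_num)).mp hd with h | h
    · exact absurd (orderOf_eq_one_iff.mp h) hg1
    · exact le_of_eq (hPcard.trans h.symm)
  -- the normaliser of `P` has order 55
  set M := Subgroup.normalizer ((P : Subgroup G) : Set G) with hM
  have hPM : (P : Subgroup G) ≤ M := Subgroup.le_normalizer
  have hMtr : IsPretransitive M β := ⟨fun b b' => by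
    obtain ⟨⟨g, hg⟩, h⟩ := exists_smul_eq P b b'; exact ⟨⟨g, hPM hg⟩, h⟩⟩
  have hMa : Nat.card (stabilizer M a) ≤ 10 := by
    obtain ⟨g, hgP, hg1⟩ : ∃ g ∈ (P : Subgroup G), g ≠ 1 := by
      have : Nontrivial P := Finite.one_lt_card_iff_nontrivial.mp (by omega)
      obtain ⟨⟨k, hk⟩, hk2⟩ := exists_ne (1 : P)
      exact ⟨k, hk, fun h => hk2 (Subtype.ext h)⟩
    let f : stabilizer M a → {k : P // k ≠ 1} := fun m =>
      ⟨⟨(m.1 : G) * g * (m.1 : G)⁻¹, (Subgroup.mem_normalizer_iff.mp m.1.2 g).mp hgP⟩, fun h => by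
        have h' : (m.1 : G) * g * (m.1 : G)⁻¹ = 1 := congrArg Subtype.val h
        exact hg1 (conj_eq_one_iff.mp h')⟩
    have hf : Function.Injective f := by
      intro m m' hmm
      have h0 : (m.1 : G) * g * (m.1 : G)⁻¹ = (m'.1 : G) * g * (m'.1 : G)⁻¹ :=
        congrArg (fun k : {k : P // k ≠ 1} => (k.1 : G)) hmm
      set d := (m.1 : G)⁻¹ * (m'.1 : G) with hd
      have hdg : d * g = g * d := by
        rw [hd]
        calc (m.1 : G)⁻¹ * m'.1 * g = (m.1 : G)⁻¹ * ((m'.1 : G) * g * (m'.1 : G)⁻¹) * m'.1 := by group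
          _ = (m.1 : G)⁻¹ * ((m.1 : G) * g * (m.1 : G)⁻¹) * m'.1 := by rw [h0]
          _ = g * ((m.1 : G)⁻¹ * m'.1) := by group
      have hdP : d ∈ (P : Subgroup G) := hcent d (by
        intro k hk
        rw [hgen g hgP hg1] at hk
        obtain ⟨i, rfl⟩ := hk
        exact (Commute.zpow_right hdg i).eq)
      have h1 : d • a = a := by
        have e1 : (m.1 : G) • a = a := m.2
        have e2 : (m'.1 : G) • a = a := m'.2
        rw [hd, mul_smul, e2, inv_smul_eq_iff, e1]
      have h2 := hPfree d hdP h1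
      rw [hd, inv_mul_eq_one] at h2
      exact Subtype.ext (Subtype.ext h2)
    refine (Nat.card_le_card_of_injective f hf).trans (le_of_eq ?_)
    have : Fintype P := Fintype.ofFinite _
    rw [Nat.card_eq_fintype_card, Fintype.card_subtype_compl, Fintype.card_subtype_eq,
      ← Nat.card_eq_fintype_card]
    change Nat.card P - 1 = 10
    omega
  have hM55 : Nat.card M = 55 := by
    have h := (stabilizer M a).index_mul_card
    rw [index_stabilizer_of_transitive M a, Nat.card_eq_fintype_card (α := β), hβ] at h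
    have hidx := M.index_mul_card
    rw [hcard] at hidx
    have hmod := card_sylow_modEq_one 11 G
    rw [P.card_eq_index_normalizer] at hmod
    change M.index % 11 = 1 % 11 at hmod
    generalize Nat.card (stabilizer M a) = s at h hMa
    rw [← h] at hidx
    have hs : 0 < s := by rcases Nat.eq_zero_or_pos s with rfl | h0 <;> omega
    rw [← h]
    interval_cases s <;> omega
  refine ⟨?_, hcard⟩
  have : Nontrivial G := Finite.one_lt_card_iff_nontrivial.mp (by omega)
  refine ⟨fun N hN => or_iff_not_imp_left.mpr fun hNb => ?_⟩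
  have hPN : (P : Subgroup G) ≤ N := by
    obtain ⟨T⟩ := (inferInstance : Nonempty (Sylow 11 N))
    obtain ⟨k, hk⟩ : ∃ k ∈ N, orderOf k = 11 := by
      obtain ⟨k, hk⟩ := exists_prime_orderOf_dvd_card' 11 (hdvd N hN hNb)
      exact ⟨k, k.2, by rw [Subgroup.orderOf_coe]; exact hk⟩
    have hz : IsPGroup 11 (Subgroup.zpowers k) := IsPGroup.of_card (n := 1) (by rw [Nat.card_zpowers, hk.2, pow_one])
    obtain ⟨R, hR⟩ := hz.exists_le_sylow
    obtain ⟨g, hg⟩ := exists_smul_eq G R P
    have hRN : (R : Subgroup G) ≤ N := by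
      have hRc : Nat.card R = 11 := by rw [Nat.card_congr (Sylow.equiv R P).toEquiv, hPcard]
      have he : Subgroup.zpowers k = R :=
        Subgroup.eq_of_le_of_card_ge hR (by rw [Nat.card_zpowers, hk.2]; exact hRc.le)
      rw [← he]; exact Subgroup.zpowers_le.mpr hk.1
    rw [← hg]
    intro y hy
    rw [Sylow.coe_subgroup_smul, Subgroup.mem_pointwise_smul_iff_inv_smul_mem] at hy
    have := hN.conj_mem _ (hRN hy) g
    simpa [mul_assoc] using this
  have hsup : M ⊔ N = ⊤ := Sylow.normalizer_sup_eq_top' P hPN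
  by_cases hMN : M ≤ N
  · rw [sup_eq_right.mpr hMN] at hsup; exact hsup
  exfalso
  have hPeq : M ⊓ N = P := by
    refine (Subgroup.eq_of_le_of_card_ge (le_inf hPM hPN) ?_).symm
    have hd1 : Nat.card (M ⊓ N : Subgroup G) ∣ 55 := hM55 ▸ Subgroup.card_dvd_of_le inf_le_left
    have hd2 : 11 ∣ Nat.card (M ⊓ N : Subgroup G) := hPcard ▸ Subgroup.card_dvd_of_le (le_inf hPM hPN)
    have hne' : Nat.card (M ⊓ N : Subgroup G) ≠ 55 := fun he =>
      hMN ((Subgroup.eq_of_le_of_card_ge inf_le_left (by rw [he, hM55])).symm.le.trans inf_le_right)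
    have hle : Nat.card (M ⊓ N : Subgroup G) ≤ 55 := Nat.le_of_dvd (by norm_num) hd1
    refine le_trans ?_ (le_of_eq hPcard.symm)
    obtain ⟨c, hc⟩ := hd2
    rw [hc] at hd1 hne' hle ⊢
    have : c ∣ 5 := Nat.dvd_of_mul_dvd_mul_left (by norm_num) (show 11 * c ∣ 11 * 5 from hd1)
    rcases (Nat.dvd_prime (by norm_num)).mp this with rfl | rfl <;> omega
  let Q : Sylow 11 N := P.subtype hPN
  have hcyc : IsCyclic P := isCyclic_of_prime_card hPcard
  have hQ : Subgroup.normalizer ((Q : Subgroup N) : Set N) ≤ Subgroup.centralizer ((Q : Subgroup N) : Set N) := by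
    intro n hn
    have h1 : (n : G) ∈ M := by
      rw [hM, Subgroup.mem_normalizer_iff]
      intro k
      constructor
      · intro hk
        exact (Subgroup.mem_normalizer_iff.mp hn ⟨k, hPN hk⟩).mp hk
      · intro hk
        have hkN : k ∈ N := by
          have := hN.conj_mem _ (hPN hk) (n : G)⁻¹
          simpa [mul_assoc] using this
        exact (Subgroup.mem_normalizer_iff.mp hn ⟨k, hkN⟩).mpr hk
    have h2 : (n : G) ∈ (P : Subgroup G) := hPeq ▸ ⟨h1, n.2⟩
    rw [Subgroup.mem_centralizer_iff]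
    intro k hk
    let _ : CommGroup P := hcyc.commGroup
    exact Subtype.ext (congrArg (fun z : P => (z : G)) (mul_comm (⟨(k : G), hk⟩ : P) ⟨(n : G), h2⟩))
  have hcompl := MonoidHom.ker_transferSylow_isComplement' Q hQ
  have hnd := MonoidHom.not_dvd_card_ker_transferSylow Q hQ
  set K := (MonoidHom.transferSylow Q hQ).ker with hK
  have hKcop : Nat.Coprime (Nat.card K) 11 :=
    ((Nat.Prime.coprime_iff_not_dvd (by norm_num)).mpr hnd).symm
  have hQc : Nat.card (Q : Subgroup N) = 11 := by
    rw [show (Q : Subgroup N) = (P : Subgroup G).subgroupOf N from rfl,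
      Nat.card_congr (Subgroup.subgroupOfEquivOfLe hPN).toEquiv, hPcard]
  have hKmem : ∀ z : N, z ∈ K ↔ z ^ Nat.card K = 1 := by
    intro z
    constructor
    · intro hz
      exact orderOf_dvd_iff_pow_eq_one.mp (Subgroup.orderOf_dvd_natCard _ hz)
    · intro hz
      have e1 : (MonoidHom.transferSylow Q hQ z) ^ Nat.card K = 1 := by rw [← map_pow, hz, map_one]
      have e2 : orderOf (MonoidHom.transferSylow Q hQ z) ∣ 11 := (orderOf_dvd_natCard _).trans hQc.dvd
      have e3 := Nat.dvd_gcd (orderOf_dvd_iff_pow_eq_one.mpr e1) e2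
      rw [hKcop.gcd_eq_one, Nat.dvd_one, orderOf_eq_one_iff] at e3
      exact e3
  set K' : Subgroup G := K.map N.subtype with hK'
  have hK'n : K'.Normal := by
    refine ⟨fun z hz g => ?_⟩
    obtain ⟨w, hw, rfl⟩ := hz
    refine ⟨⟨g * (w : G) * g⁻¹, hN.conj_mem _ w.2 g⟩, (hKmem _).mpr ?_, rfl⟩
    apply Subtype.ext
    have hw' : (w : G) ^ Nat.card K = 1 := congrArg Subtype.val ((hKmem _).mp hw)
    simp [conj_pow, hw']
  have hK'c : Nat.card K' = Nat.card K :=
    (Nat.card_congr (K.equivMapOfInjective _ Subtype.val_injective).toEquiv).symm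
  by_cases hKb : K' = ⊥
  · have h1 := hcompl.card_mul_card
    rw [← hK'c, hKb, Subgroup.card_bot, one_mul, hQc] at h1
    have h2 : (P : Subgroup G) = N := Subgroup.eq_of_le_of_card_ge hPN (by rw [← h1, hPcard])
    have : (P : Subgroup G).Normal := h2 ▸ hN
    have h3 : M = ⊤ := Subgroup.normalizer_eq_top_iff.mpr this
    rw [h3, Subgroup.card_top, hcard] at hM55
    omega
  · exact hnd ((hdvd K' hK'n hKb).trans hK'c.dvd)

/-- A sharply 4-transitive group of degree 11 is simple of order 7920. -/
theorem result {α : Type*} [Fintype α] [DecidableEq α] (hα : Fintype.card α = 11) (G : Subgroup (Equiv.Perm α)) [MulAction.IsMultiplyPretransitive G α 4] (hsharp : ∀ x : Fin 4 ↪ α, MulAction.stabilizer G x = ⊥) : Cfsg.IsM11 G := by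
  exact simple_of_sharply_four hα hsharp

end Cfsg.Agent.S0418
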