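import Cfsg.Statements.S0419
import Cfsg.Agent.S0418

set_option autoImplicit false
open Cfsg

namespace Cfsg.Agent.S0419

open MulAction in
/-- A group acting sharply 5-transitively on 12 points is simple of order 95040. -/
theorem simple_of_sharply_five {G β : Type*} [Group G] [Finite G] [MulAction G β] [Fintype β]
    (hβ : Fintype.card β = 12) [IsMultiplyPretransitive G β 5]
    (hsharp : ∀ x : Fin 5 ↪ β, stabilizer G x = ⊥) : IsSimpleGroup G ∧ Nat.card G = 95040 := by
  classical
  have hne : Nonempty β := Fintype.card_pos_iff.mp (by omega)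
  obtain ⟨a⟩ := hne
  have h2 : IsMultiplyPretransitive G β 2 :=
    isMultiplyPretransitive_of_le (n := 5) (by omega) (by rw [Nat.card_eq_fintype_card, hβ]; norm_num)
  have hpre : IsPretransitive G β := isPretransitive_of_is_two_pretransitive
  have hprim : IsPreprimitive G β := isPreprimitive_of_is_two_pretransitive h2
  let X := SubMulAction.ofStabilizer G a
  have hX : Fintype.card X = 11 := by
    rw [← Nat.card_eq_fintype_card]
    have := SubMulAction.nat_card_ofStabilizer_add_one_eq (G := G) a
    rw [Nat.card_eq_fintype_card (α := β), hβ] at this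
    change Nat.card X + 1 = 12 at this
    omega
  have : IsMultiplyPretransitive (stabilizer G a) X 4 :=
    (SubMulAction.ofStabilizer.isMultiplyPretransitive (n := 4) (a := a)).mp inferInstance
  obtain ⟨hS, hScard⟩ := S0418.simple_of_sharply_four hX (G := stabilizer G a) (fun x => by
    refine (Subgroup.eq_bot_iff_forall _).mpr fun g hg => ?_
    let y : Fin 5 ↪ β := SubMulAction.ofStabilizer.snoc x
    have hy : (g : G) ∈ stabilizer G y := by
      refine DFunLike.ext _ _ fun i => ?_
      refine Fin.lastCases ?_ (fun j => ?_) i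
      · show (g : G) • y (Fin.last 4) = y (Fin.last 4)
        rw [SubMulAction.ofStabilizer.snoc_last]
        exact g.2
      · show (g : G) • y j.castSucc = y j.castSucc
        rw [SubMulAction.ofStabilizer.snoc_castSucc]
        exact congrArg Subtype.val (DFunLike.congr_fun hg j)
    rw [hsharp y, Subgroup.mem_bot] at hy
    exact Subtype.ext hy)
  have hcard : Nat.card G = 95040 := by
    have h1 := (stabilizer G a).index_mul_card
    rw [index_stabilizer_of_transitive G a, Nat.card_eq_fintype_card (α := β), hβ, hScard] at h1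
    omega
  refine ⟨?_, hcard⟩
  let x0 : Fin 5 ↪ β := (Fin.castLEEmb (by omega : 5 ≤ Fintype.card β)).trans (Fintype.equivFin β).symm.toEmbedding
  have hfaith : ∀ g : G, (∀ b : β, g • b = b) → g = 1 := by
    intro g hg
    have h : g ∈ stabilizer G x0 := DFunLike.ext _ _ fun i => hg _
    rwa [hsharp x0, Subgroup.mem_bot] at h
  have : Nontrivial G := Finite.one_lt_card_iff_nontrivial.mp (by omega)
  refine ⟨fun N hN => or_iff_not_imp_left.mpr fun hNb => ?_⟩
  have htr : IsPretransitive N β := by
    refine IsQuasiPreprimitive.isPretransitive_of_normal ?_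
    intro hfix
    refine hNb ((Subgroup.eq_bot_iff_forall N).mpr fun g hg => hfaith g fun b => ?_)
    have hb : b ∈ fixedPoints N β := hfix ▸ Set.mem_univ b
    exact hb ⟨g, hg⟩
  set Na : Subgroup (stabilizer G a) := N.subgroupOf (stabilizer G a) with hNa
  have hNan : Na.Normal := Subgroup.normal_subgroupOf
  rcases hS.eq_bot_or_eq_top_of_normal Na hNan with hb | ht
  · exfalso
    have hNfree : ∀ m ∈ N, m • a = a → m = 1 := by
      intro m hm hma
      have : (⟨m, hma⟩ : stabilizer G a) ∈ Na := hm
      rw [hb, Subgroup.mem_bot] at this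
      exact congrArg Subtype.val this
    have hNcard : Nat.card N = 12 := by
      have h := (stabilizer N a).index_mul_card
      rw [index_stabilizer_of_transitive N a, Nat.card_eq_fintype_card (α := β), hβ] at h
      have : stabilizer N a = ⊥ := (Subgroup.eq_bot_iff_forall _).mpr fun m hm =>
        Subtype.ext (hNfree m m.2 hm)
      rw [this, Subgroup.card_bot, mul_one] at h
      exact h.symm
    have : Fact (Nat.Prime 2) := ⟨Nat.prime_two⟩
    have : Fact (Nat.Prime 3) := ⟨Nat.prime_three⟩
    obtain ⟨m2, hm2⟩ := exists_prime_orderOf_dvd_card' (G := N) 2 (by rw [hNcard]; norm_num)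
    obtain ⟨m3, hm3⟩ := exists_prime_orderOf_dvd_card' (G := N) 3 (by rw [hNcard]; norm_num)
    have hm2a : (m2 : G) • a ≠ a := fun h => by
      have := hNfree _ m2.2 h
      rw [← Subgroup.orderOf_coe, this, orderOf_one] at hm2; omega
    have hm3a : (m3 : G) • a ≠ a := fun h => by
      have := hNfree _ m3.2 h
      rw [← Subgroup.orderOf_coe, this, orderOf_one] at hm3; omega
    obtain ⟨g, hga, hg⟩ := is_two_pretransitive_iff.mp h2 hm2a.symm hm3a.symm
    set c := g * (m2 : G) * g⁻¹ with hc
    have hcN : c ∈ N := hN.conj_mem _ m2.2 g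
    have hca : c • a = (m3 : G) • a := by
      rw [hc, mul_smul, mul_smul, inv_smul_eq_iff.mpr hga.symm, hg]
    have heq : (m3 : G)⁻¹ * c = 1 :=
      hNfree _ (mul_mem (inv_mem m3.2) hcN) (by rw [mul_smul, hca, inv_smul_smul])
    rw [inv_mul_eq_one] at heq
    have hsc : SemiconjBy g (m2 : G) c := by
      rw [SemiconjBy, hc]; group
    have : orderOf c = 2 := by rw [← SemiconjBy.orderOf_eq g hsc, Subgroup.orderOf_coe, hm2]
    rw [← heq, Subgroup.orderOf_coe, hm3] at this
    omega
  · rw [eq_top_iff]
    intro g _
    obtain ⟨m, hm⟩ := exists_smul_eq N a (g • a)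
    have hst : (m : G)⁻¹ * g ∈ stabilizer G a := by
      rw [mem_stabilizer_iff, mul_smul, ← hm]; exact inv_smul_smul _ _
    have : (⟨_, hst⟩ : stabilizer G a) ∈ Na := ht ▸ Subgroup.mem_top _
    simpa using mul_mem m.2 (show (m : G)⁻¹ * g ∈ N from this)

/-- A sharply 5-transitive group of degree 12 is simple of order 95040. -/
theorem result {α : Type*} [Fintype α] [DecidableEq α] (hα : Fintype.card α = 12) (G : Subgroup (Equiv.Perm α)) [MulAction.IsMultiplyPretransitive G α 5] (hsharp : ∀ x : Fin 5 ↪ α, MulAction.stabilizer G x = ⊥) : Cfsg.IsM12 G := by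
  exact simple_of_sharply_five hα hsharp

end Cfsg.Agent.S0419
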