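import Cfsg.Statements.S0421
import Cfsg.Agent.Lib.Order95040.Unique
-- import your own Cfsg.Agent.* helpers here

set_option autoImplicit false
open scoped Pointwise
open Cfsg

namespace Cfsg.Agent.S0421

/-- Simple groups of order 95040 are all isomorphic to the concrete Mathieu group of degree 12. -/
theorem result {G : Type*} [Group G] [Finite G] (hG : Cfsg.IsM12 G) (d : Finset Cfsg.GolayPt) (hd : d ∈ Cfsg.dodecads) : Nonempty (G ≃* ↥(MulAction.stabilizer Cfsg.M24 d)) := by
  have : IsSimpleGroup G := hG.1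
  obtain ⟨e⟩ := Order95040.nonempty_mulEquiv_m12 (G := G) hG.2
  obtain ⟨t, ht, htd⟩ := Golay.exists_map_dodecad (Golay.pts_dodecad0 ▸ Golay.dodecad0_mem) hd
  let e' := Golay.infStabilizerEquiv Spor.squareDodecad
  have hstab : MulAction.stabilizer ↥M24 d =
      (MulAction.stabilizer ↥M24 Spor.squareDodecad).map (MulAut.conj (⟨t, ht⟩ : M24)).toMonoidHom := by
    rw [← htd]
    exact MulAction.stabilizer_smul_eq_stabilizer_map_conj (⟨t, ht⟩ : M24) Spor.squareDodecad
  exact ⟨((e.trans e').trans ((MulAut.conj (⟨t, ht⟩ : M24)).subgroupMap _)).trans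
    (MulEquiv.subgroupCongr hstab.symm)⟩

end Cfsg.Agent.S0421
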