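import Cfsg.Statements.S0429
import Cfsg.Agent.EqLemmas
import Cfsg.Agent.Lib.Srg77.Coclique
import Cfsg.Agent.Lib.Golay.DesignTwoTwo

set_option autoImplicit false
open Cfsg

namespace Cfsg.Agent.S0429

/-- An isomorphism of set systems gives one of the block graphs. -/
theorem block_graph_iso {α β : Type*} [DecidableEq β] {B : Set (Finset α)} {B' : Set (Finset β)}
    (h : Cfsg.SetSystemIso B B') : Nonempty (Cfsg.blockGraph B ≃g Cfsg.blockGraph B') := by
  obtain ⟨e, he⟩ := h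
  let eB : B ≃ B' := Equiv.ofBijective (fun b => ⟨b.1.image e, he ▸ ⟨b.1, b.2, rfl⟩⟩)
    ⟨fun b c h => Subtype.ext (Finset.image_injective e.injective (congrArg Subtype.val h)),
     fun c => by
      obtain ⟨b, hb, hbc⟩ := (Set.ext_iff.1 he c.1).2 c.2
      exact ⟨⟨b, hb⟩, Subtype.ext hbc⟩⟩
  have hval : ∀ b : B, (eB b : Finset β) = b.1.image e := fun b => rfl
  exact ⟨⟨eB, fun {x y} => by
    simp [Cfsg.blockGraph, SimpleGraph.fromRel_adj, hval, Finset.disjoint_image e.injective]⟩⟩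

/-- Uniqueness of the strongly regular graph with parameters (77, 16, 0, 4). -/
theorem result {V W : Type*} [Fintype V] [Fintype W] {G : SimpleGraph V} {H : SimpleGraph W} [DecidableRel G.Adj] [DecidableRel H.Adj] (hG : G.IsSRGWith 77 16 0 4) (hH : H.IsSRGWith 77 16 0 4) : Nonempty (G ≃g H) := by
  classical
  obtain ⟨B, hα, hB, ⟨i⟩⟩ := Cfsg.Agent.Srg77.exists_steiner hG
  obtain ⟨B', hβ, hB', ⟨j⟩⟩ := Cfsg.Agent.Srg77.exists_steiner hH
  rw [Nat.card_eq_fintype_card] at hα hβ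
  obtain ⟨k⟩ := block_graph_iso (Cfsg.Agent.Golay.steiner_3_6_22_iso hα hβ hB hB')
  exact ⟨(i.trans k).trans j.symm⟩

end Cfsg.Agent.S0429
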