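import Cfsg.Statements.S0434
import Cfsg.Agent.Lib.Order7920.Three

set_option autoImplicit false
open Cfsg

namespace Cfsg.Agent.S0434

/-- Sylow 3-normalisers in a simple group of order 7920 have order 144 (so there are 55 Sylow 3-subgroups). -/
theorem result {G : Type*} [Group G] [Finite G] (hG : Cfsg.IsM11 G) (P : Sylow 3 G) : Nat.card (Subgroup.normalizer ((P : Subgroup G) : Set G)) = 144 := by
  have := hG.1
  have : Fact (Nat.Prime 11) := ⟨by norm_num⟩
  have : Fact (Nat.Prime 5) := ⟨by norm_num⟩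
  have : Fact (Nat.Prime 3) := ⟨Nat.prime_three⟩
  obtain ⟨f, a, y, T⟩ := Cfsg.Agent.Order7920.exists_table3 hG.2
  have h := Cfsg.Agent.SmallOrders.card_normalizer_mul_card_sylow P
  rw [T.card_sylow, hG.2] at h
  omega

end Cfsg.Agent.S0434
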