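import Cfsg.Statements.S0439
import Cfsg.Agent.EqLemmas
import Cfsg.Agent.Lib.ThreeTrans.Basic

set_option autoImplicit false
open Cfsg

namespace Cfsg.Agent.S0439

/-- In the symmetric group of degree n ≥ 2, the set of transpositions is a conjugacy class of 3-transpositions which generates the group. -/
theorem result (n : ℕ) (hn : 2 ≤ n) : Cfsg.IsThreeTranspositionClass {σ : Equiv.Perm (Fin n) | σ.IsSwap} := by
  classical
  refine ⟨⟨?_, ?_⟩, ?_, Equiv.Perm.closure_isSwap⟩
  · rintro d ⟨x, y, hxy, rfl⟩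
    exact orderOf_eq_prime (by rw [pow_two, Equiv.swap_mul_self]) (by simpa using hxy)
  · rintro d hd e he
    obtain ⟨a, b, hab, rfl⟩ := hd
    obtain ⟨c, e', hce, rfl⟩ := he
    by_cases h1 : a = c ∨ a = e' ∨ b = c ∨ b = e'
    · have key : ∀ x y z w : Fin n, x ≠ y → x ≠ z →
          (Equiv.swap x y * Equiv.swap x z) ^ 2 = 1 ∨
          (Equiv.swap x y * Equiv.swap x z) ^ 3 = 1 := by
        intro x y z _ hxy hxz
        by_cases hyz : y = z
        · subst hyz; left; simp
        · right
          have := (Equiv.Perm.isThreeCycle_swap_mul_swap_same hxy hxz hyz).orderOf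
          rw [← this]; exact pow_orderOf_eq_one _
      rcases h1 with h1 | h1 | h1 | h1
      · subst h1; exact key a b e' a hab hce
      · subst h1; rw [Equiv.swap_comm c a]; exact key a b c a hab hce.symm
      · subst h1; rw [Equiv.swap_comm a b]; exact key b a e' a hab.symm hce
      · subst h1; rw [Equiv.swap_comm a b, Equiv.swap_comm c b]
        exact key b a c a hab.symm hce.symm
    · left
      simp only [not_or] at h1
      have hcm : Commute (Equiv.swap a b) (Equiv.swap c e') := by
        rw [commute_iff_eq, Equiv.mul_swap_eq_swap_mul,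
          Equiv.swap_apply_of_ne_of_ne (Ne.symm h1.1) (Ne.symm h1.2.2.1),
          Equiv.swap_apply_of_ne_of_ne (Ne.symm h1.2.1) (Ne.symm h1.2.2.2)]
      rw [hcm.mul_pow, pow_two, pow_two, Equiv.swap_mul_self, Equiv.swap_mul_self, one_mul]
  · have h01 : (⟨0, by omega⟩ : Fin n) ≠ ⟨1, by omega⟩ := by simp
    refine ⟨Equiv.swap ⟨0, by omega⟩ ⟨1, by omega⟩, ⟨_, _, h01, rfl⟩, ?_⟩
    ext σ
    show σ.IsSwap ↔ IsConj _ σ
    constructor
    · rintro ⟨x, y, hxy, rfl⟩
      exact Equiv.Perm.isConj_swap h01 hxy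
    · intro hσ
      rw [Equiv.Perm.isConj_iff_cycleType_eq] at hσ
      rw [← Equiv.Perm.card_support_eq_two, ← Equiv.Perm.sum_cycleType, ← hσ,
        Equiv.Perm.sum_cycleType, Equiv.Perm.card_support_eq_two]
      exact ⟨_, _, h01, rfl⟩

end Cfsg.Agent.S0439
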