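import Cfsg.Statements.S0440
import Cfsg.Agent.Lib.Linear.Symplectic
import Cfsg.Agent.Lib.ThreeTrans.Basic

set_option autoImplicit false
open Cfsg

namespace Cfsg.Agent.S0440

open Cfsg.Agent.Linear in
/-- The transvections. -/
def transvectionSet (n : ℕ) : Set (Cfsg.spGL n (ZMod 2)) :=
  {g | ∃ v : Fin n ⊕ Fin n → ZMod 2, v ≠ 0 ∧ spTv v 1 = g}

theorem zmod_two_cases (a : ZMod 2) : a = 0 ∨ a = 1 := by revert a; decide

open Cfsg.Agent.Linear in
theorem spTv_ne_one {n : ℕ} (v : Fin n ⊕ Fin n → ZMod 2) (hv : v ≠ 0) :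
    spTv v (1 : ZMod 2) ≠ 1 := by
  intro h
  obtain ⟨w, hw⟩ := exists_sympForm_ne_zero hv
  have h1 : spTv v (1 : ZMod 2) • w = w := by rw [h, one_smul]
  rw [spTv_smul, one_mul, add_eq_left, smul_eq_zero] at h1
  rcases h1 with h1 | h1
  · rw [sympForm_swap, h1, neg_zero] at hw; exact hw rfl
  · exact hv h1

open Cfsg.Agent.Linear in
theorem rank_transvection {n : ℕ} (v : Fin n ⊕ Fin n → ZMod 2) (hv : v ≠ 0) :
    ((((spEquiv n (ZMod 2)).symm (spTv v 1) :
      Matrix.symplecticGroup (Fin n) (ZMod 2)) :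
        Matrix (Fin n ⊕ Fin n) (Fin n ⊕ Fin n) (ZMod 2)) - 1).rank = 1 := by
  have e : (spEquiv n (ZMod 2)).symm (spTv v 1) =
      ⟨Cfsg.sympTransvection n v 1, sympTransvection_mem v 1⟩ :=
    (spEquiv n (ZMod 2)).symm_apply_apply _
  rw [e]
  show (Cfsg.sympTransvection n v 1 - 1).rank = 1
  refine le_antisymm ?_ ?_
  · rw [Cfsg.sympTransvection, add_sub_cancel_left, one_smul]
    exact Matrix.rank_vecMulVec_le _ _
  · rw [Nat.one_le_iff_ne_zero]
    intro h0
    rw [Matrix.rank, Submodule.finrank_eq_zero, LinearMap.range_eq_bot] at h0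
    have h : Cfsg.sympTransvection n v (1 : ZMod 2) = 1 :=
      sub_eq_zero.1 (Matrix.mulVec_injective (funext fun x => by
        have := LinearMap.congr_fun h0 x
        simpa [Matrix.sub_mulVec] using this))
    exact spTv_ne_one v hv (Subtype.ext (Units.ext h))

open Cfsg.Agent.Linear in
theorem mem_transvectionSet_of_rank {n : ℕ} (g : Matrix.symplecticGroup (Fin n) (ZMod 2))
    (h : ((g : Matrix (Fin n ⊕ Fin n) (Fin n ⊕ Fin n) (ZMod 2)) - 1).rank = 1) :
    spEquiv n (ZMod 2) g ∈ transvectionSet n := by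
  set A := (g : Matrix (Fin n ⊕ Fin n) (Fin n ⊕ Fin n) (ZMod 2))
  have hr : Module.finrank (ZMod 2) (LinearMap.range (A - 1).mulVecLin) = 1 := h
  obtain ⟨⟨w, hwm⟩, hw0, hw⟩ := finrank_eq_one_iff'.1 hr
  have hw0' : w ≠ 0 := fun e => hw0 (Subtype.ext e)
  have hx : ∀ x, ∃ c : ZMod 2, spEquiv n (ZMod 2) g • x = x + c • w := by
    intro x
    obtain ⟨c, hc⟩ := hw ⟨(A - 1).mulVecLin x, LinearMap.mem_range_self _ x⟩
    refine ⟨c, ?_⟩
    have hc' : c • w = (A - 1).mulVec x := congrArg Subtype.val hc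
    rw [spEquiv_smul, hc', Matrix.sub_mulVec, Matrix.one_mulVec, add_sub_cancel]
  choose c hc using hx
  have key : ∀ x y, c x * Cfsg.sympForm n (ZMod 2) w y + c y * Cfsg.sympForm n (ZMod 2) x w = 0 := by
    intro x y
    have := sympForm_smul_smul (spEquiv n (ZMod 2) g) x y
    rw [hc x, hc y] at this
    simp only [sympForm_add_left, sympForm_add_right, sympForm_smul_left, sympForm_smul_right,
      sympForm_self] at this
    linear_combination this
  obtain ⟨y, hy⟩ := exists_sympForm_ne_zero hw0'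
  have hy1 := (zmod_two_cases (Cfsg.sympForm n (ZMod 2) w y)).resolve_left hy
  have hcx : ∀ x, c x = c y * Cfsg.sympForm n (ZMod 2) x w := by
    intro x
    have := key x y
    rw [hy1, mul_one, add_eq_zero_iff_eq_neg, ZModModule.neg_eq_self] at this
    exact this
  rcases zmod_two_cases (c y) with hcy | hcy
  · exfalso
    obtain ⟨x, hxw⟩ : ∃ x, (A - 1).mulVec x = w := LinearMap.mem_range.1 hwm
    apply hw0'
    have := hc x
    rw [hcx, hcy, zero_mul, zero_smul, add_zero, spEquiv_smul] at this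
    rw [← hxw, Matrix.sub_mulVec, Matrix.one_mulVec, this, sub_self]
  · refine ⟨w, hw0', spGL_ext fun x => ?_⟩
    rw [spTv_smul, hc, hcx, hcy]

theorem class_mulEquiv {H K : Type*} [Group H] [Group K] (e : H ≃* K) {S : Set H}
    (h : Cfsg.IsThreeTranspositionClass S) : Cfsg.IsThreeTranspositionClass (e '' S) := by
  obtain ⟨⟨h1, h2⟩, ⟨d, hd, hS⟩, hgen⟩ := h
  refine ⟨⟨?_, ?_⟩, ⟨e d, ⟨d, hd, rfl⟩, ?_⟩, ?_⟩
  · rintro _ ⟨x, hx, rfl⟩
    rw [MulEquiv.orderOf_eq]
    exact h1 x hx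
  · rintro _ ⟨x, hx, rfl⟩ _ ⟨y, hy, rfl⟩
    rcases h2 x hx y hy with h | h
    · left; rw [← map_mul, ← map_pow, h, map_one]
    · right; rw [← map_mul, ← map_pow, h, map_one]
  · ext z
    constructor
    · rintro ⟨x, hx, rfl⟩
      rw [hS] at hx
      exact e.toMonoidHom.map_isConj hx
    · intro hz
      refine ⟨e.symm z, ?_, e.apply_symm_apply z⟩
      rw [hS]
      have := e.symm.toMonoidHom.map_isConj (show IsConj (e d) z from hz)
      rw [MulEquiv.coe_toMonoidHom, e.symm_apply_apply] at this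
      exact this
  · have := MonoidHom.map_closure e.toMonoidHom S
    rw [hgen, Subgroup.map_top_of_surjective _ e.surjective] at this
    exact this.symm

open Cfsg.Agent.Linear in
theorem transvectionSet_class (m : ℕ) :
    Cfsg.IsThreeTranspositionClass (transvectionSet (m + 1)) := by
  have hone : ∀ v : Fin (m + 1) ⊕ Fin (m + 1) → ZMod 2,
      spTv v (1 : ZMod 2) * spTv v 1 = 1 := fun v => by
    rw [← spTv_add, show (1 : ZMod 2) + 1 = 0 by decide, spTv_zero]
  refine ⟨⟨?_, ?_⟩, ?_, ?_⟩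
  · rintro _ ⟨v, hv, rfl⟩
    exact orderOf_eq_prime (by rw [pow_two, hone]) (spTv_ne_one v hv)
  · rintro _ ⟨u, hu, rfl⟩ _ ⟨v, hv, rfl⟩
    have iu : (spTv u (1 : ZMod 2))⁻¹ = spTv u 1 := inv_eq_of_mul_eq_one_left (hone u)
    have iv : (spTv v (1 : ZMod 2))⁻¹ = spTv v 1 := inv_eq_of_mul_eq_one_left (hone v)
    have e1 := spTv_conj (spTv u 1) v (1 : ZMod 2)
    have e2 := spTv_conj (spTv v 1) u (1 : ZMod 2)
    rw [iu, spTv_smul, one_mul] at e1
    rw [iv, spTv_smul, one_mul] at e2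
    rcases zmod_two_cases (Cfsg.sympForm (m + 1) (ZMod 2) v u) with h | h
    · left
      rw [h, zero_smul, add_zero] at e1
      rw [pow_two, ← mul_assoc, e1, hone]
    · right
      have h' : Cfsg.sympForm (m + 1) (ZMod 2) u v = 1 := by
        rw [sympForm_swap, h]; decide
      rw [h, one_smul] at e1
      rw [h', one_smul, add_comm u v] at e2
      rw [pow_three]
      calc spTv u 1 * spTv v 1 * (spTv u 1 * spTv v 1 * (spTv u 1 * spTv v 1))
          = (spTv u 1 * spTv v 1 * spTv u 1) * (spTv v 1 * spTv u 1 * spTv v 1) := by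
            simp only [mul_assoc]
        _ = 1 := by rw [e1, e2, hone]
  · set v₀ : Fin (m + 1) ⊕ Fin (m + 1) → ZMod 2 := Pi.single (.inl 0) 1
    have hv₀ : v₀ ≠ 0 := by simp [v₀]
    refine ⟨spTv v₀ 1, ⟨v₀, hv₀, rfl⟩, ?_⟩
    ext g
    constructor
    · rintro ⟨v, hv, rfl⟩
      obtain ⟨k, hk⟩ := exists_spGL_smul_eq hv₀ hv
      exact isConj_iff.2 ⟨k, by rw [spTv_conj, hk]⟩
    · intro h
      obtain ⟨k, rfl⟩ := isConj_iff.1 (show IsConj _ g from h)
      refine ⟨k • v₀, fun h0 => hv₀ ?_, (spTv_conj k v₀ 1).symm⟩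
      have := congrArg (k⁻¹ • ·) h0
      simpa using this
  · rw [eq_top_iff, ← closure_spTvSet, Subgroup.closure_le]
    rintro _ ⟨w, -, c, rfl⟩
    rcases zmod_two_cases c with rfl | rfl
    · rw [spTv_zero]; exact one_mem _
    · by_cases hw : w = 0
      · rw [hw, spTv_zero_vec]; exact one_mem _
      · exact Subgroup.subset_closure ⟨w, hw, rfl⟩

/-- In the symplectic group in dimension 2n ≥ 2 over the field with two elements, the elements g for which g - 1 has rank one (the symplectic transvections) form a conjugacy class of 3-transpositions generating the group. -/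
theorem result (n : ℕ) (hn : 1 ≤ n) : Cfsg.IsThreeTranspositionClass {g : Matrix.symplecticGroup (Fin n) (ZMod 2) | ((g : Matrix (Fin n ⊕ Fin n) (Fin n ⊕ Fin n) (ZMod 2)) - 1).rank = 1} := by
  obtain ⟨m, rfl⟩ : ∃ m, n = m + 1 := ⟨n - 1, by omega⟩
  set e := Linear.spEquiv (m + 1) (ZMod 2)
  have hset : {g : Matrix.symplecticGroup (Fin (m + 1)) (ZMod 2) |
      ((g : Matrix (Fin (m + 1) ⊕ Fin (m + 1)) (Fin (m + 1) ⊕ Fin (m + 1)) (ZMod 2)) - 1).rank = 1}
        = e.symm '' transvectionSet (m + 1) := by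
    ext g
    exact ⟨fun h => ⟨e g, mem_transvectionSet_of_rank g h, e.symm_apply_apply g⟩,
      fun h => by
        obtain ⟨t, ⟨v, hv, rfl⟩, rfl⟩ := h
        exact rank_transvection v hv⟩
  rw [hset]
  exact class_mulEquiv e.symm (transvectionSet_class m)

end Cfsg.Agent.S0440
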