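import Cfsg.Statements.S0441
import Cfsg.Agent.EqLemmas
import Cfsg.Agent.Lib.ThreeTrans.RankThree

set_option autoImplicit false
open Cfsg

namespace Cfsg.Agent.S0441

/-- Fischer's rank-three property. Let a finite group be generated by a conjugacy class D of 3-transpositions, with non-abelian simple commutator subgroup. Then for a in D there are members of D other than a commuting with a and members not commuting with a, and the centraliser of a acts transitively on each of these two sets. -/
theorem result {G : Type*} [Group G] [Finite G] {D : Set G} (hD : Cfsg.IsThreeTranspositionClass D) (hsimple : IsSimpleGroup (commutator G)) (hnonab : ∃ x y : commutator G, x * y ≠ y * x) {a : G} (ha : a ∈ D) : (∃ b ∈ D, b ≠ a ∧ Commute a b) ∧ (∃ c ∈ D, ¬ Commute a c) ∧ (∀ b ∈ D, ∀ b' ∈ D, b ≠ a → b' ≠ a → Commute a b → Commute a b' → ∃ g : G, Commute g a ∧ g * b * g⁻¹ = b') ∧ (∀ c ∈ D, ∀ c' ∈ D, ¬ Commute a c → ¬ Commute a c' → ∃ g : G, Commute g a ∧ g * c * g⁻¹ = c') := by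
  have h2 := ThreeTrans.two_members_of_simple_derived hD hnonab
  have hc := ThreeTrans.centralCores_of_simple_derived hsimple hnonab
  have hg := ThreeTrans.group_of_class hD
  refine ⟨?_, ThreeTrans.exists_not_commute hD h2 ha, ?_, ?_⟩
  · obtain ⟨x, hx, y, hy, hxy, hcxy⟩ := ThreeTrans.exists_commuting_pair hD h2 hc.2
    obtain ⟨g, hga⟩ := ThreeTrans.class_conj hD hx ha
    refine ⟨g * y * g⁻¹, hg.2.1 g y hy, fun h => hxy ?_, ?_⟩
    · rw [← hga] at h
      exact (mul_left_cancel (mul_right_cancel h)).symm
    · rw [← hga]; exact hcxy.map (MulAut.conj g).toMonoidHom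
  · intro b hb b' hb' h1 h1' h3 h3'
    exact ThreeTrans.commuting_transitive_of_centralCores hD h2 hc ha ⟨hb, h1, h3⟩ ⟨hb', h1', h3'⟩
  · intro c hc1 c' hc' h3 h3'
    exact ThreeTrans.noncommuting_transitive_of_centralCores hD hc
      (ThreeTrans.connected_of_simple_derived hD hsimple hnonab) ha hc1 hc' h3 h3'

end Cfsg.Agent.S0441
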