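import Cfsg.Statements.S0442
import Cfsg.Agent.EqLemmas

set_option autoImplicit false
open Cfsg

namespace Cfsg.Agent.S0442

/-- A standard trick for producing elements of an involution centraliser: for an involution a and an element g, let b be the conjugate g⁻¹ * a * g. If a * b has odd order 2m + 1 then g * (a * b) ^ m commutes with a; if a * b has even order 2m then (a * b) ^ m and (a * (g * a * g⁻¹)) ^ m commute with a. -/
theorem result {G : Type*} [Group G] (a g : G) (ha : orderOf a = 2) : (∀ m : ℕ, orderOf (a * (g⁻¹ * a * g)) = 2 * m + 1 → Commute (g * (a * (g⁻¹ * a * g)) ^ m) a) ∧ (∀ m : ℕ, orderOf (a * (g⁻¹ * a * g)) = 2 * m → Commute ((a * (g⁻¹ * a * g)) ^ m) a ∧ Commute ((a * (g * a * g⁻¹)) ^ m) a) := by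
  have haa : a * a = 1 := by
    have := pow_orderOf_eq_one a
    rwa [ha, pow_two] at this
  have hia : a⁻¹ = a := inv_eq_of_mul_eq_one_left haa
  have key : ∀ y : G, y * y = 1 → ∀ k : ℕ, a * (a * y) ^ k * a = ((a * y) ^ k)⁻¹ := by
    intro y hy k
    have h1 : a * (a * y) * a⁻¹ = (a * y)⁻¹ := by
      rw [mul_inv_rev, inv_eq_of_mul_eq_one_left hy, hia, ← mul_assoc, haa, one_mul]
    rw [← inv_pow, ← h1, conj_pow, hia]
  have hb : (g⁻¹ * a * g) * (g⁻¹ * a * g) = 1 := by
    calc (g⁻¹ * a * g) * (g⁻¹ * a * g) = g⁻¹ * (a * a) * g := by group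
      _ = 1 := by rw [haa]; group
  refine ⟨fun m hm => ?_, fun m hm => ⟨?_, ?_⟩⟩
  · set b := g⁻¹ * a * g with hbdef
    set x := a * b with hx
    have hk := key b hb m
    show g * x ^ m * a = a * (g * x ^ m)
    have hag : a * g = g * b := by rw [hbdef]; group
    have hba : b * a * (x * 1) = 1 := by
      rw [mul_one, hx, mul_assoc, ← mul_assoc a a b, haa, one_mul, hb]
    have hba' : b * a = x⁻¹ := eq_inv_of_mul_eq_one_left (by simpa using hba)
    have hk' : a * x ^ m = (x ^ m)⁻¹ * a := by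
      rw [← hk, mul_assoc _ a a, haa, mul_one]
    have hxm : x ^ m = x⁻¹ * (x ^ m)⁻¹ := by
      refine (eq_inv_of_mul_eq_one_left (b := x ^ m * x) ?_).trans (mul_inv_rev _ _)
      rw [← pow_succ, ← pow_add, show m + (m + 1) = orderOf x by omega, pow_orderOf_eq_one]
    calc g * x ^ m * a = g * (x⁻¹ * (x ^ m)⁻¹) * a := congrArg (fun y => g * y * a) hxm
      _ = g * (b * a) * ((x ^ m)⁻¹ * a) := by rw [hba']; group
      _ = g * b * (a * a) * x ^ m := by rw [← hk']; group
      _ = g * b * x ^ m := by rw [haa, mul_one]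
      _ = a * (g * x ^ m) := by rw [← hag]; group
  · set x := a * (g⁻¹ * a * g) with hx
    have hk := key _ hb m
    have h2 : x ^ m * x ^ m = 1 := by
      rw [← pow_add, show m + m = orderOf x by omega, pow_orderOf_eq_one]
    rw [← eq_inv_of_mul_eq_one_left h2] at hk
    show x ^ m * a = a * x ^ m
    conv_lhs => rw [← hk, mul_assoc _ a a, haa, mul_one]
  · have hb' : (g * a * g⁻¹) * (g * a * g⁻¹) = 1 := by
      calc (g * a * g⁻¹) * (g * a * g⁻¹) = g * (a * a) * g⁻¹ := by group
        _ = 1 := by rw [haa]; group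
    set x := a * (g * a * g⁻¹) with hx
    have hk := key _ hb' m
    have hord : orderOf x = 2 * m := by
      rw [← hm, ← orderOf_inv]
      have h3 : x⁻¹ = g * (a * (g⁻¹ * a * g)) * g⁻¹ := by
        rw [hx, mul_inv_rev, inv_eq_of_mul_eq_one_left hb', hia]; group
      rw [h3]
      exact orderOf_injective (MulAut.conj g).toMonoidHom (MulAut.conj g).injective _
    have h2 : x ^ m * x ^ m = 1 := by
      rw [← pow_add, show m + m = orderOf x by omega, pow_orderOf_eq_one]
    rw [← eq_inv_of_mul_eq_one_left h2] at hk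
    show x ^ m * a = a * x ^ m
    conv_lhs => rw [← hk, mul_assoc _ a a, haa, mul_one]

end Cfsg.Agent.S0442
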