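import Cfsg.Statements.S0444
import Cfsg.Agent.EqLemmas
import Cfsg.Agent.Lib.ThreeTrans.Basic
import Cfsg.Agent.Lib.ThreeTrans.SymmPresentation

set_option autoImplicit false
open Cfsg

namespace Cfsg.Agent.S0444

/-- Two members of a set of 3-transpositions which do not commute generate a subgroup isomorphic to the symmetric group on three letters. -/
theorem result {G : Type*} [Group G] {E : Set G} (hE : Cfsg.IsThreeTranspositionSet E) {d e : G} (hd : d ∈ E) (he : e ∈ E) (h : ¬ Commute d e) : Nonempty (Subgroup.closure ({d, e} : Set G) ≃* Equiv.Perm (Fin 3)) := by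
  let t : ℕ → G := fun i => if i = 0 then d else e
  have hb : ThreeTrans.BraidA t 2 := by
    refine ⟨fun i hi => ?_, fun i hi => ?_, fun i j h1 h2 => ?_⟩
    · interval_cases i <;> simp [t, ThreeTrans.mul_self hE hd, ThreeTrans.mul_self hE he]
    · obtain rfl : i = 0 := by omega
      simpa [t] using ThreeTrans.braid hE hd he h
    · omega
  obtain ⟨φ, hφ⟩ := ThreeTrans.exists_hom_perm hb
  have hrange : φ.range = Subgroup.closure ({d, e} : Set G) := by
    rw [ThreeTrans.range_hom_perm hφ]
    congr 1
    ext x
    simp only [Set.mem_image, Set.mem_Iio, Set.mem_insert_iff, Set.mem_singleton_iff]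
    constructor
    · rintro ⟨i, hi, rfl⟩; interval_cases i <;> simp [t]
    · rintro (rfl | rfl)
      · exact ⟨0, by omega, rfl⟩
      · exact ⟨1, by omega, rfl⟩
  have h0 : φ (Equiv.swap 0 1) = d := hφ 0
  have h1 : φ (Equiv.swap 1 2) = e := hφ 1
  have hinj : Function.Injective φ := ThreeTrans.injective_perm_three (by
    rw [map_mul, h0, h1]
    intro hc
    apply h
    have : d = e⁻¹ := eq_inv_of_mul_eq_one_left hc
    rw [ThreeTrans.inv_eq hE he] at this
    rw [this])
  exact ⟨((MonoidHom.ofInjective hinj).trans (MulEquiv.subgroupCongr hrange)).symm⟩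

end Cfsg.Agent.S0444
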