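import Cfsg.Statements.S0445
import Cfsg.Agent.EqLemmas

set_option autoImplicit false
open Cfsg

namespace Cfsg.Agent.S0445

/-- In the special linear group of dimension 5 over the field with two elements, the centraliser of a transvection has order 21504 = 2 ^ 7 · 168 (it is an extension of an extraspecial group of order 2 ^ 7 by the simple group of order 168). -/
theorem result (s : Matrix.SpecialLinearGroup (Fin 5) (ZMod 2)) (hs : (s : Matrix (Fin 5) (Fin 5) (ZMod 2)) = Matrix.transvection 0 1 1) : Nat.card (Subgroup.centralizer ({s} : Set (Matrix.SpecialLinearGroup (Fin 5) (ZMod 2)))) = 21504 := by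
  classical
  let M : Matrix (Fin 3) (Fin 3) (ZMod 2) → (Fin 3 → ZMod 2) → ZMod 2 → (Fin 3 → ZMod 2) →
      Matrix (Fin 5) (Fin 5) (ZMod 2) := fun A u a w =>
    !![1, a, u 0, u 1, u 2; 0, 1, 0, 0, 0; 0, w 0, A 0 0, A 0 1, A 0 2;
       0, w 1, A 1 0, A 1 1, A 1 2; 0, w 2, A 2 0, A 2 1, A 2 2]
  have hdet : ∀ A u a w, (M A u a w).det = A.det := by
    intro A u a w
    rw [Matrix.det_succ_column_zero, Fin.sum_univ_succ, Finset.sum_eq_zero, add_zero]
    · rw [Matrix.det_succ_row_zero, Fin.sum_univ_succ, Finset.sum_eq_zero, add_zero]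
      · simp [M, Matrix.det_fin_three, Matrix.submatrix_apply]
      · intro i _; fin_cases i <;> simp [M]
    · intro i _; fin_cases i <;> simp [M]
  have hdet1 : ∀ x : ZMod 2, x ≠ 0 → x = 1 := by decide
  have hmem : ∀ g : Matrix.SpecialLinearGroup (Fin 5) (ZMod 2),
      g ∈ Subgroup.centralizer ({s} : Set (Matrix.SpecialLinearGroup (Fin 5) (ZMod 2))) ↔
      ∃ A u a w, (g : Matrix (Fin 5) (Fin 5) (ZMod 2)) = M A u a w := by
    intro g
    rw [Subgroup.mem_centralizer_singleton_iff]
    refine Subtype.ext_iff.trans ?_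
    simp only [Matrix.SpecialLinearGroup.coe_mul, hs, Matrix.transvection, Matrix.mul_add,
      Matrix.add_mul, Matrix.mul_one, Matrix.one_mul, add_right_inj]
    generalize hN : (g : Matrix (Fin 5) (Fin 5) (ZMod 2)) = N
    have hNdet : N.det ≠ 0 := by rw [← hN, g.2]; exact one_ne_zero
    constructor
    · intro h
      have e : ∀ i j, (N * Matrix.single (0 : Fin 5) (1 : Fin 5) (1 : ZMod 2)) i j =
          (Matrix.single (0 : Fin 5) (1 : Fin 5) (1 : ZMod 2) * N) i j := fun i j => by rw [h]
      have c1 : ∀ i, i ≠ 0 → N i 0 = 0 := by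
        intro i hi
        have := e i 1
        simpa [hi] using this
      have r1 : ∀ j, j ≠ 1 → N 1 j = 0 := by
        intro j hj
        have := e 0 j
        simpa [hj] using this.symm
      have h00 : N 0 0 = 1 := by
        apply hdet1
        intro h0
        apply hNdet
        apply Matrix.det_eq_zero_of_column_eq_zero 0
        intro i
        by_cases hi : i = 0
        · rw [hi, h0]
        · exact c1 i hi
      have h11 : N 1 1 = 1 := by
        apply hdet1
        intro h0
        apply hNdet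
        apply Matrix.det_eq_zero_of_row_eq_zero 1
        intro i
        by_cases hi : i = 1
        · rw [hi, h0]
        · exact r1 i hi
      refine ⟨!![N 2 2, N 2 3, N 2 4; N 3 2, N 3 3, N 3 4; N 4 2, N 4 3, N 4 4],
        ![N 0 2, N 0 3, N 0 4], N 0 1, ![N 2 1, N 3 1, N 4 1], ?_⟩
      ext i j
      fin_cases i <;> fin_cases j <;> simp [M, h00, h11, c1, r1]
    · rintro ⟨A, u, a, w, rfl⟩
      ext i j
      fin_cases i <;> fin_cases j <;> simp [M, Matrix.mul_apply, Fin.sum_univ_succ, Matrix.single]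
  let T : Type := Matrix.GeneralLinearGroup (Fin 3) (ZMod 2) × (Fin 3 → ZMod 2) × ZMod 2 ×
    (Fin 3 → ZMod 2)
  let f : T → Subgroup.centralizer ({s} : Set (Matrix.SpecialLinearGroup (Fin 5) (ZMod 2))) :=
    fun p => ⟨⟨M (p.1 : Matrix (Fin 3) (Fin 3) (ZMod 2)) p.2.1 p.2.2.1 p.2.2.2, by
        rw [hdet]; exact hdet1 _ (p.1.isUnit.map Matrix.detMonoidHom).ne_zero⟩,
      (hmem _).2 ⟨_, _, _, _, rfl⟩⟩
  have hf : Function.Bijective f := by
    constructor
    · intro p q h
      have e : ∀ i j, M (p.1 : Matrix (Fin 3) (Fin 3) (ZMod 2)) p.2.1 p.2.2.1 p.2.2.2 i j =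
          M (q.1 : Matrix (Fin 3) (Fin 3) (ZMod 2)) q.2.1 q.2.2.1 q.2.2.2 i j := fun i j =>
        congrArg (fun x : Matrix.SpecialLinearGroup (Fin 5) (ZMod 2) => x i j)
          (congrArg Subtype.val h)
      refine Prod.ext (Units.ext ?_) (Prod.ext ?_ (Prod.ext ?_ ?_))
      · ext i j
        fin_cases i <;> fin_cases j
        · exact e 2 2
        · exact e 2 3
        · exact e 2 4
        · exact e 3 2
        · exact e 3 3
        · exact e 3 4
        · exact e 4 2
        · exact e 4 3
        · exact e 4 4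
      · funext i; fin_cases i
        · exact e 0 2
        · exact e 0 3
        · exact e 0 4
      · exact e 0 1
      · funext i; fin_cases i
        · exact e 2 1
        · exact e 3 1
        · exact e 4 1
    · rintro ⟨g, hg⟩
      obtain ⟨A, u, a, w, hg'⟩ := (hmem g).1 hg
      have hA : IsUnit A := by
        rw [Matrix.isUnit_iff_isUnit_det, ← hdet A u a w, ← hg', g.2]
        exact isUnit_one
      exact ⟨⟨hA.unit, u, a, w⟩, Subtype.ext (Subtype.ext hg'.symm)⟩
  rw [← Nat.card_eq_of_bijective f hf]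
  simp only [T, Nat.card_prod, Nat.card_fun, Nat.card_zmod, Nat.card_fin]
  rw [Matrix.card_GL_field]
  simp [Fin.prod_univ_three]

end Cfsg.Agent.S0445
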