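import Cfsg.Statements.S0447
import Cfsg.Agent.Lib.DoubleCoverAlt.Basic
import Cfsg.Agent.Lib.DoubleCoverAlt.Multiplier

set_option autoImplicit false
open Cfsg

namespace Cfsg.Agent.S0447

open scoped commutatorElement

open Cfsg.Agent in
/-- An even involution of at most seven letters is conjugate, by an even permutation, to a product of
two given swaps. -/
theorem exists_conj_double {n : ℕ} (hn : 4 ≤ n) (hn7 : n ≤ 7) {σ : Equiv.Perm (Fin n)}
    (hs : Equiv.Perm.sign σ = 1) (h2 : σ ^ 2 = 1) (h1 : σ ≠ 1) :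
    ∃ τ : Equiv.Perm (Fin n), Equiv.Perm.sign τ = 1 ∧
      τ * (Equiv.swap (⟨0, by omega⟩ : Fin n) ⟨1, by omega⟩ *
        Equiv.swap (⟨2, by omega⟩ : Fin n) ⟨3, by omega⟩) * τ⁻¹ = σ := by
  have : Fact (Nat.Prime 2) := ⟨Nat.prime_two⟩
  set a : Fin n := ⟨0, by omega⟩
  set b : Fin n := ⟨1, by omega⟩
  set c : Fin n := ⟨2, by omega⟩
  set e : Fin n := ⟨3, by omega⟩
  have hab : a ≠ b := by simp [a, b]
  have hac : a ≠ c := by simp [a, c]
  have hae : a ≠ e := by simp [a, e]
  have hbc : b ≠ c := by simp [b, c]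
  have hbe : b ≠ e := by simp [b, e]
  have hce : c ≠ e := by simp [c, e]
  set ρ := Equiv.swap a b * Equiv.swap c e with hρ
  have hcomm : Commute (Equiv.swap a b) (Equiv.swap c e) := by
    refine (Equiv.Perm.disjoint_iff_eq_or_eq.2 fun x => ?_).commute
    by_cases h : x = a ∨ x = b
    · right
      rcases h with rfl | rfl
      · exact Equiv.swap_apply_of_ne_of_ne hac hae
      · exact Equiv.swap_apply_of_ne_of_ne hbc hbe
    · left
      simp only [not_or] at h
      exact Equiv.swap_apply_of_ne_of_ne h.1 h.2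
  have hρ2 : ρ ^ 2 = 1 := by
    rw [hρ, hcomm.mul_pow, pow_two, pow_two, Equiv.swap_mul_self, Equiv.swap_mul_self, one_mul]
  have hρs : Equiv.Perm.sign ρ = 1 := by
    rw [hρ, map_mul, Equiv.Perm.sign_swap hab, Equiv.Perm.sign_swap hce]; decide
  have hρ1 : ρ ≠ 1 := fun h => by
    have := congrArg (fun p : Equiv.Perm (Fin n) => p a) h
    simp [hρ, Equiv.swap_apply_of_ne_of_ne hac hae] at this
    exact hab this.symm
  have two : ∀ p : Equiv.Perm (Fin n), Equiv.Perm.sign p = 1 → p ^ 2 = 1 → p ≠ 1 →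
      p.cycleType = Multiset.replicate 2 2 := by
    intro p hp hp2 hp1
    have hrep := Equiv.Perm.cycleType_of_pow_prime_eq_one hp2
    set j := Multiset.card p.cycleType with hj
    have hle := Equiv.Perm.sum_cycleType_le p
    rw [hrep, Multiset.sum_replicate, smul_eq_mul, Fintype.card_fin] at hle
    have hsign := Equiv.Perm.sign_of_cycleType p
    rw [hp, hrep, Multiset.sum_replicate, smul_eq_mul, Multiset.card_replicate] at hsign
    have hj0 : j ≠ 0 := fun h0 => hp1 (Equiv.Perm.cycleType_eq_zero.1 (Multiset.card_eq_zero.1 h0))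
    have hj3 : j < 4 := by omega
    interval_cases j
    · omega
    · exact absurd hsign (by decide)
    · exact hrep
    · exact absurd hsign (by decide)
  obtain ⟨τ, hτ⟩ := isConj_iff.1 (Equiv.Perm.isConj_iff_cycleType_eq.2
    ((two ρ hρs hρ2 hρ1).trans (two σ hs h2 h1).symm))
  rcases Int.units_eq_one_or (Equiv.Perm.sign τ) with ht | ht
  · exact ⟨τ, ht, hτ⟩
  · refine ⟨τ * Equiv.swap a b, by rw [map_mul, ht, Equiv.Perm.sign_swap hab]; decide, ?_⟩
    rw [← hτ, mul_inv_rev, Equiv.swap_inv]
    have e1 : Equiv.swap a b * ρ * Equiv.swap a b = ρ := by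
      rw [hρ, ← mul_assoc, Equiv.swap_mul_self, one_mul, hcomm.eq]
    calc τ * Equiv.swap a b * ρ * (Equiv.swap a b * τ⁻¹)
        = τ * (Equiv.swap a b * ρ * Equiv.swap a b) * τ⁻¹ := by simp only [mul_assoc]
      _ = τ * ρ * τ⁻¹ := by rw [e1]

open Cfsg.Agent in
theorem unique_involution (k : ℕ) (hk : k + 4 ≤ 7) (H : Type) [Group H] [Finite H]
    (hH : Cfsg.IsNonsplitDoubleCover H (alternatingGroup (Fin (k + 4)))) {x : H}
    (hx : orderOf x = 2) : x ∈ Subgroup.center H := by
  obtain ⟨hZ, ⟨e⟩, hsplit⟩ := hH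
  by_contra hxZ
  set n := k + 4
  set π : H →* Equiv.Perm (Fin n) :=
    (alternatingGroup (Fin n)).subtype.comp (e.toMonoidHom.comp (QuotientGroup.mk' _)) with hπ
  have hker : ∀ h, π h = 1 ↔ h ∈ Subgroup.center H := by
    intro h
    show ((e (QuotientGroup.mk h) : alternatingGroup (Fin n)) : Equiv.Perm (Fin n)) = 1 ↔ _
    rw [← OneMemClass.coe_one (alternatingGroup (Fin n)), Subtype.coe_inj, e.map_eq_one_iff,
      QuotientGroup.eq_one_iff]
  have heven : ∀ h, Equiv.Perm.sign (π h) = 1 := fun h =>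
    Equiv.Perm.mem_alternatingGroup.1 (e (QuotientGroup.mk h)).2
  have hsurj : ∀ σ : Equiv.Perm (Fin n), Equiv.Perm.sign σ = 1 → ∃ h, π h = σ := by
    intro σ hσ
    obtain ⟨h, hh⟩ := QuotientGroup.mk_surjective
      (e.symm ⟨σ, Equiv.Perm.mem_alternatingGroup.2 hσ⟩)
    refine ⟨h, ?_⟩
    show ((e (QuotientGroup.mk h) : alternatingGroup (Fin n)) : Equiv.Perm (Fin n)) = σ
    rw [hh, e.apply_symm_apply]
  have hz2 : ∀ z ∈ Subgroup.center H, z ^ 2 = 1 := by
    intro z hz
    have h := orderOf_dvd_natCard (⟨z, hz⟩ : Subgroup.center H)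
    rw [hZ, orderOf_dvd_iff_pow_eq_one] at h
    exact congrArg Subtype.val h
  have hx2 : x ^ 2 = 1 := by rw [← hx, pow_orderOf_eq_one]
  -- every element over an element of order at most two squares to one
  have key : ∀ h : H, π h ^ 2 = 1 → h ^ 2 = 1 := by
    intro h hh
    by_cases h1 : π h = 1
    · exact hz2 h ((hker h).1 h1)
    obtain ⟨τ, hτ, hτe⟩ := exists_conj_double (Nat.le_add_left 4 k) hk (heven h) hh h1
    obtain ⟨τ', hτ', hτe'⟩ := exists_conj_double (Nat.le_add_left 4 k) hk (heven x)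
      (by rw [← map_pow, hx2, map_one]) (fun hh => hxZ ((hker x).1 hh))
    obtain ⟨g, hg⟩ := hsurj (τ * τ'⁻¹) (by rw [map_mul, map_inv, hτ, hτ']; decide)
    have hz : g * x * g⁻¹ * h⁻¹ ∈ Subgroup.center H := by
      rw [← hker, map_mul, map_mul, map_mul, map_inv, map_inv, hg, ← hτe', ← hτe]
      group
    have e1 : h = (g * x * g⁻¹ * h⁻¹)⁻¹ * (g * x * g⁻¹) := by group
    rw [e1, (Commute.symm (show Commute (g * x * g⁻¹) (g * x * g⁻¹ * h⁻¹)⁻¹ from
      (show Commute (g * x * g⁻¹) (g * x * g⁻¹ * h⁻¹) from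
        Subgroup.mem_center_iff.1 hz _).inv_right)).mul_pow, conj_pow, hx2, mul_one, mul_inv_cancel,
      mul_one, inv_pow, hz2 _ hz, inv_one]
  -- lift the Moore generators
  have hgen : ∀ i, i < k + 2 → ∃ h, π h = DoubleCoverAlt.gen (k + 1) i := fun i hi =>
    hsurj _ (Equiv.Perm.mem_alternatingGroup.1 (DoubleCoverAlt.gen_mem (k := k + 1) (by omega)))
  choose! g hg using hgen
  have hrels := DoubleCoverAlt.rels_gen (k + 1)
  obtain ⟨z, hzZ, hz1⟩ : ∃ z ∈ Subgroup.center H, z ≠ 1 := by
    by_contra hcon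
    have hbot : Subgroup.center H = ⊥ := by
      rw [eq_bot_iff]
      intro z hz
      by_contra h1
      exact hcon ⟨z, hz, fun e => h1 (Subgroup.mem_bot.2 e)⟩
    rw [hbot, Subgroup.card_bot] at hZ
    omega
  have hzc : ∀ a : H, Commute a z := fun a => Subgroup.mem_center_iff.1 hzZ a
  have hcases : ∀ w ∈ Subgroup.center H, w = 1 ∨ w = z := by
    intro w hw
    by_contra hcon
    simp only [not_or] at hcon
    have h3 : ({1, z, w} : Set H) ⊆ (Subgroup.center H : Set H) := by
      rintro u (rfl | rfl | rfl)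
      exacts [one_mem _, hzZ, hw]
    have h4 := Set.ncard_le_ncard h3
    rw [Set.ncard_eq_three.2 ⟨1, z, w, hz1.symm, fun e => hcon.1 e.symm, fun e => hcon.2 e.symm, rfl⟩,
      ← Nat.card_coe_set_eq] at h4
    change 3 ≤ Nat.card (Subgroup.center H) at h4
    omega
  classical
  let y : ℕ → H := fun i => Nat.rec ((g 0) ^ 4)
    (fun i prev => if (prev * g (i + 1)) ^ 3 = 1 then g (i + 1) else z * g (i + 1)) i
  have hy : ∀ i, i < k + 2 → π (y i) = DoubleCoverAlt.gen (k + 1) i := by
    intro i hi
    cases i with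
    | zero =>
      show π (g 0 ^ 4) = _
      rw [map_pow, hg 0 hi, pow_succ, hrels.cube (by omega), one_mul]
    | succ i =>
      show π (if _ then _ else _) = _
      split_ifs
      · exact hg _ hi
      · rw [map_mul, (hker z).2 hzZ, one_mul, hg _ hi]
  have hy0 : y 0 ^ 3 = 1 := by
    show (g 0 ^ 4) ^ 3 = 1
    have h3 : g 0 ^ 3 ∈ Subgroup.center H := by
      rw [← hker, map_pow, hg 0 (by omega), hrels.cube (by omega)]
    rw [← pow_mul, show 4 * 3 = 3 * (2 * 2) from rfl, pow_mul, pow_mul, hz2 _ h3, one_pow]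
  have hyadj : ∀ i, i + 1 < k + 2 → (y i * y (i + 1)) ^ 3 = 1 := by
    intro i hi
    show (y i * if (y i * g (i + 1)) ^ 3 = 1 then g (i + 1) else z * g (i + 1)) ^ 3 = 1
    split_ifs with h
    · exact h
    · have h3 : (y i * g (i + 1)) ^ 3 ∈ Subgroup.center H := by
        rw [← hker, map_pow, map_mul, hy i (by omega), hg _ hi, hrels.adj i (by omega)]
      rw [← mul_assoc, (hzc (y i)).eq, mul_assoc z, (hzc _).symm.mul_pow,
        (hcases _ h3).resolve_left h, ← pow_succ, show 3 + 1 = 2 * 2 from rfl, pow_mul, hz2 z hzZ,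
        one_pow]
  set R := ({g : FreeGroup (Fin (n - 2)) | ∃ i : Fin (n - 2), i.val = 0 ∧ g = FreeGroup.of i ^ 3} ∪
       {g | ∃ i : Fin (n - 2), 1 ≤ i.val ∧ g = FreeGroup.of i ^ 2} ∪
       {g | ∃ i j : Fin (n - 2), j.val = i.val + 1 ∧ g = (FreeGroup.of i * FreeGroup.of j) ^ 3} ∪
       {g | ∃ i j : Fin (n - 2), i.val + 1 < j.val ∧ g = (FreeGroup.of i * FreeGroup.of j) ^ 2})
    with hR
  have hlt : ∀ i : Fin (n - 2), i.val < k + 2 := fun i => by
    have := i.isLt
    omega
  have hrel : ∀ r ∈ R, FreeGroup.lift (fun i : Fin (n - 2) => y i.val) r = 1 := by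
    rintro r (((⟨i, hi, rfl⟩ | ⟨i, hi, rfl⟩) | ⟨i, j, hij, rfl⟩) | ⟨i, j, hij, rfl⟩) <;>
      simp only [map_pow, map_mul, FreeGroup.lift_apply_of]
    · rw [hi]; exact hy0
    · refine key _ ?_
      rw [hy _ (hlt i)]
      exact hrels.sq _ hi (by have := hlt i; omega)
    · rw [hij]
      exact hyadj _ (hij ▸ hlt j)
    · refine key _ ?_
      rw [map_mul, hy _ (hlt i), hy _ (hlt j)]
      exact hrels.far _ _ hij (by have := hlt j; omega)
  set f := PresentedGroup.toGroup hrel with hf
  obtain ⟨eP⟩ := S3335.result n (by omega)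
  have hcardL : Nat.card f.range ≤ Nat.card (alternatingGroup (Fin n)) := by
    have : Finite (PresentedGroup R) := Finite.of_equiv _ eP.symm.toEquiv
    exact (Nat.card_le_card_of_surjective _ f.rangeRestrict_surjective).trans
      (Nat.card_congr eP.toEquiv).le
  let r : f.range →* alternatingGroup (Fin n) :=
    (e.toMonoidHom.comp (QuotientGroup.mk' _)).comp f.range.subtype
  have hrs : Function.Surjective r := by
    intro σ
    have hmem := DoubleCoverAlt.mem_closure_gens (k + 1) (g := (σ : Equiv.Perm (Fin n))) σ.2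
    have hle : Subgroup.closure (DoubleCoverAlt.gen (k + 1) '' Set.Iio (k + 1 + 1)) ≤
        f.range.map π := by
      rw [Subgroup.closure_le]
      rintro _ ⟨i, hi, rfl⟩
      refine ⟨y i, ⟨PresentedGroup.of ⟨i, by rw [Set.mem_Iio] at hi; omega⟩, ?_⟩, hy i hi⟩
      rw [hf, PresentedGroup.toGroup.of]
    obtain ⟨h, hh, he⟩ := hle hmem
    exact ⟨⟨h, hh⟩, Subtype.ext he⟩
  have hri : Function.Injective r := by
    have hb := (Nat.bijective_iff_surjective_and_card r).2
      ⟨hrs, le_antisymm hcardL (Nat.card_le_card_of_surjective r hrs)⟩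
    exact hb.1
  refine hsplit f.range (Subgroup.IsComplement'.symm (Subgroup.isComplement'_of_card_mul_and_disjoint ?_ ?_))
  · rw [hZ, Nat.card_congr (MulEquiv.ofBijective r ⟨hri, hrs⟩).toEquiv,
      Subgroup.card_eq_card_quotient_mul_card_subgroup (Subgroup.center H), hZ,
      Nat.card_congr e.toEquiv]
  · rw [Subgroup.disjoint_def]
    intro h hh hc
    have : (⟨h, hh⟩ : f.range) = 1 := hri (by
      rw [map_one]
      show e (QuotientGroup.mk h) = 1
      rw [(QuotientGroup.eq_one_iff h).2 hc, map_one])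
    exact congrArg Subtype.val this

open Cfsg.Agent Cfsg.Agent.DoubleCoverAlt in
theorem exists_cover_eight : ∃ (H : Type) (_ : Group H) (_ : Finite H),
    Cfsg.IsNonsplitDoubleCover H (alternatingGroup (Fin 8)) ∧
      ∃ x y : H, x ≠ y ∧ orderOf x = 2 ∧ orderOf y = 2 := by
  refine ⟨Cover 8, inferInstance, inferInstance, ?_⟩
  have hker : (proj 8).ker = Subgroup.center (Cover 8) := by
    refine le_antisymm (fun p hp => ?_) fun p hp => ?_
    · rcases (mem_ker_proj_iff 8 p).1 hp with rfl | rfl
      · exact one_mem _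
      · exact negOne_mem_center 8
    · have : proj 8 p ∈ Subgroup.center (alternatingGroup (Fin 8)) := by
        rw [Subgroup.mem_center_iff]
        intro σ
        obtain ⟨q, rfl⟩ := proj_surjective 8 σ
        rw [← map_mul, ← map_mul, Subgroup.mem_center_iff.1 hp q]
      rw [alternatingGroup.center_eq_bot (by simp), Subgroup.mem_bot] at this
      exact this
  have hne : negOne 8 ≠ 1 := fun h => by
    have := orderOf_negOne 8
    rw [h, orderOf_one] at this
    omega
  have hcard : Nat.card (Subgroup.center (Cover 8)) = 2 := by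
    rw [← hker]
    have e : ((proj 8).ker : Set (Cover 8)) = {1, negOne 8} := by
      ext p
      exact mem_ker_proj_iff 8 p
    have h2 : Nat.card ((proj 8).ker : Set (Cover 8)) = 2 := by
      rw [Nat.card_coe_set_eq, e, Set.ncard_pair hne.symm]
    exact h2
  refine ⟨⟨hcard, ⟨(QuotientGroup.quotientMulEquivOfEq hker.symm).trans
    (QuotientGroup.quotientKerEquivOfSurjective (proj 8) (proj_surjective 8))⟩, fun L hL => ?_⟩, ?_⟩
  · have hdec : ∀ a : Cover 8, ∃ z ∈ Subgroup.center (Cover 8), ∃ l ∈ L, z * l = a := by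
      intro a
      obtain ⟨⟨⟨z, hz⟩, ⟨l, hl⟩⟩, he⟩ := (hL.existsUnique a).exists
      exact ⟨z, hz, l, hl, he⟩
    have hle : commutator (Cover 8) ≤ L := by
      rw [commutator_def, Subgroup.commutator_le]
      intro a _ b _
      obtain ⟨z, hz, l, hl, rfl⟩ := hdec a
      obtain ⟨w, hw, m, hm, rfl⟩ := hdec b
      have cz : ∀ a, Commute z a := fun a => (Subgroup.mem_center_iff.1 hz a).symm
      have cw : ∀ a, Commute w a := fun a => (Subgroup.mem_center_iff.1 hw a).symm
      have e : ⁅z * l, w * m⁆ = ⁅l, m⁆ := by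
        rw [commutatorElement_def, commutatorElement_def, mul_inv_rev, mul_inv_rev]
        calc z * l * (w * m) * (l⁻¹ * z⁻¹) * (m⁻¹ * w⁻¹)
            = z * (l * (w * m) * l⁻¹) * z⁻¹ * (m⁻¹ * w⁻¹) := by group
          _ = l * (w * m) * l⁻¹ * (m⁻¹ * w⁻¹) := by rw [(cz _).eq, mul_inv_cancel_right]
          _ = l * w * (m * l⁻¹ * m⁻¹) * w⁻¹ := by group
          _ = w * (l * m * l⁻¹ * m⁻¹) * w⁻¹ := by rw [← (cw l).eq]; group
          _ = l * m * l⁻¹ * m⁻¹ := by rw [(cw _).eq, mul_inv_cancel_right]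
      rw [e, commutatorElement_def]
      exact L.mul_mem (L.mul_mem (L.mul_mem hl hm) (L.inv_mem hl)) (L.inv_mem hm)
    exact hne (Subgroup.disjoint_def.1 hL.disjoint (negOne_mem_center 8)
      (hle (negOne_mem_commutator 8 (by norm_num))))
  · have anti : ∀ i j p q : Fin 8, i ≠ j → p ≠ i → p ≠ j → q ≠ i → q ≠ j →
        T i j * T p q = -(T p q * T i j) := by
      intro i j p q hij h1 h2 h3 h4
      conv_lhs => rw [show T p q = e p - e q from rfl]
      rw [mul_sub, T_e hij, T_e hij, Equiv.swap_apply_of_ne_of_ne h1 h2,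
        Equiv.swap_apply_of_ne_of_ne h3 h4, T, T, sub_mul]
      abel
    set U : (A 8)ˣ := uT (show (0 : Fin 8) ≠ 1 by decide) * uT (show (2 : Fin 8) ≠ 3 by decide) *
      (uT (show (4 : Fin 8) ≠ 5 by decide) * uT (show (6 : Fin 8) ≠ 7 by decide)) with hU
    set s : Equiv.Perm (Fin 8) := Equiv.swap 0 1 * Equiv.swap 2 3 * (Equiv.swap 4 5 * Equiv.swap 6 7)
      with hs
    have hcompat : Compat (U : A 8) s := by
      simp only [hU, Units.val_mul, coe_uT]
      exact ((compat_T (by decide)).mul (compat_T (by decide))).mul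
        ((compat_T (by decide)).mul (compat_T (by decide)))
    have halt : s ∈ alternatingGroup (Fin 8) := by
      rw [Equiv.Perm.mem_alternatingGroup, hs]
      simp [Equiv.Perm.sign_swap]
    have hs0 : s 0 = 1 := by simp [hs, Equiv.swap_apply_def]
    refine ⟨negOne 8, ⟨(U, s), hcompat, halt⟩, fun h => ?_, orderOf_negOne 8, ?_⟩
    · have h1 := congrArg (fun p : Cover 8 => p.1.2 0) h
      change (0 : Fin 8) = s 0 at h1
      rw [hs0] at h1
      exact absurd h1 (by decide)
    · set v : Cover 8 := ⟨(U, s), hcompat, halt⟩ with hv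
      have hmat : (U : A 8) * (U : A 8) = 1 ∧ s * s = 1 := ⟨?_, ?_⟩
      · refine orderOf_eq_prime ?_ fun h => ?_
        · rw [pow_two]
          exact Subtype.ext (Prod.ext (Units.ext hmat.1) hmat.2)
        · have h1 := congrArg (fun p : Cover 8 => p.1.2 0) h
          change s 0 = (0 : Fin 8) at h1
          rw [hs0] at h1
          exact absurd h1 (by decide)
      · show (U : A 8) * (U : A 8) = 1
        simp only [hU, Units.val_mul, coe_uT]
        set a := (T 0 1 : A 8)
        set b := (T 2 3 : A 8)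
        set c := (T 4 5 : A 8)
        set d := (T 6 7 : A 8)
        have ha : a * a = -1 := T_mul_self (by decide)
        have hb : b * b = -1 := T_mul_self (by decide)
        have hc : c * c = -1 := T_mul_self (by decide)
        have hd : d * d = -1 := T_mul_self (by decide)
        have hba : b * a = -(a * b) := anti 2 3 0 1 (by decide) (by decide) (by decide) (by decide) (by decide)
        have hdc : d * c = -(c * d) := anti 6 7 4 5 (by decide) (by decide) (by decide) (by decide) (by decide)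
        have hca : c * a = -(a * c) := anti 4 5 0 1 (by decide) (by decide) (by decide) (by decide) (by decide)
        have hcb : c * b = -(b * c) := anti 4 5 2 3 (by decide) (by decide) (by decide) (by decide) (by decide)
        have hda : d * a = -(a * d) := anti 6 7 0 1 (by decide) (by decide) (by decide) (by decide) (by decide)
        have hdb : d * b = -(b * d) := anti 6 7 2 3 (by decide) (by decide) (by decide) (by decide) (by decide)
        have hswap : c * d * (a * b) = a * b * (c * d) := by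
          calc c * d * (a * b) = c * (d * a) * b := by simp only [mul_assoc]
            _ = -(c * a * (d * b)) := by rw [hda]; noncomm_ring
            _ = -(a * c * (b * d)) := by rw [hca, hdb]; noncomm_ring
            _ = -(a * (c * b) * d) := by simp only [mul_assoc]
            _ = a * b * (c * d) := by rw [hcb]; noncomm_ring
        have sq : ∀ u v : A 8, u * u = -1 → v * v = -1 → v * u = -(u * v) → u * v * (u * v) = -1 := by
          intro u v hu hv huv
          calc u * v * (u * v) = u * (v * u) * v := by simp only [mul_assoc]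
            _ = -(u * u * (v * v)) := by rw [huv]; noncomm_ring
            _ = -1 := by rw [hu, hv]; noncomm_ring
        calc a * b * (c * d) * (a * b * (c * d)) = a * b * (c * d * (a * b)) * (c * d) := by
              simp only [mul_assoc]
          _ = a * b * (a * b) * (c * d * (c * d)) := by rw [hswap]; simp only [mul_assoc]
          _ = 1 := by rw [sq a b ha hb hba, sq c d hc hd hdc]; noncomm_ring
      · show s * s = 1
        rw [hs]
        decide +kernel


/-- Involutions in double covers of alternating groups: for n ≤ 7, a finite non-split double cover of the alternating group of degree n has exactly one element of order 2 (the central one); for degree 8 there is a non-split double cover with two distinct involutions. -/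
theorem result : (∀ (n : ℕ) (H : Type) (_ : Group H) (_ : Finite H), n ≤ 7 → Cfsg.IsNonsplitDoubleCover H (alternatingGroup (Fin n)) → ∀ x y : H, orderOf x = 2 → orderOf y = 2 → x = y) ∧ ∃ (H : Type) (_ : Group H) (_ : Finite H), Cfsg.IsNonsplitDoubleCover H (alternatingGroup (Fin 8)) ∧ ∃ x y : H, x ≠ y ∧ orderOf x = 2 ∧ orderOf y = 2 := by
  refine ⟨?_, exists_cover_eight⟩
  intro n H _ _ hn hH x y hx hy
  have hcen : ∀ w : H, orderOf w = 2 → w ∈ Subgroup.center H := by
    intro w hw
    rcases Nat.lt_or_ge n 4 with h | h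
    · by_contra hwZ
      obtain ⟨hZ, ⟨e⟩, -⟩ := id hH
      have hn3 : Nat.card (alternatingGroup (Fin n)) ∣ 3 := by
        interval_cases n <;> rw [Nat.card_eq_fintype_card] <;> decide
      rw [← Nat.card_congr e.toEquiv] at hn3
      have h1 := orderOf_dvd_natCard (QuotientGroup.mk' (Subgroup.center H) w)
      have h2 := orderOf_map_dvd (QuotientGroup.mk' (Subgroup.center H)) w
      rw [hw] at h2
      have h3 : orderOf (QuotientGroup.mk' (Subgroup.center H) w) ∣ Nat.gcd 2 3 :=
        Nat.dvd_gcd h2 (h1.trans hn3)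
      rw [show Nat.gcd 2 3 = 1 from rfl, Nat.dvd_one, orderOf_eq_one_iff] at h3
      exact hwZ ((QuotientGroup.eq_one_iff w).1 h3)
    · obtain ⟨k, rfl⟩ : ∃ k, n = k + 4 := ⟨n - 4, by omega⟩
      exact unique_involution k hn H hH hw
  obtain ⟨hZ, -⟩ := hH
  by_contra hxy
  have h3 : ({1, x, y} : Set H) ⊆ (Subgroup.center H : Set H) := by
    rintro u (rfl | rfl | rfl)
    exacts [one_mem _, hcen _ hx, hcen _ hy]
  have hne : ∀ w : H, orderOf w = 2 → 1 ≠ w := fun w hw e => by
    rw [← e, orderOf_one] at hw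
    omega
  have h4 := Set.ncard_le_ncard h3
  rw [Set.ncard_eq_three.2 ⟨1, x, y, hne x hx, hne y hy, hxy, rfl⟩, ← Nat.card_coe_set_eq] at h4
  change 3 ≤ Nat.card (Subgroup.center H) at h4
  omega

end Cfsg.Agent.S0447
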