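import Cfsg.Statements.S0458
import Cfsg.Agent.EqLemmas
import Cfsg.Agent.Lib.JankoThree.PointStab
import Cfsg.Agent.Lib.U62Cover.Field

set_option autoImplicit false
open Cfsg

namespace Cfsg.Agent.S0458

/-- Janko's third group exists as a transitive permutation group of degree 6156 with point stabiliser of order 8160: a simple group of order 50232960. -/
theorem result : ∃ H : Subgroup (Equiv.Perm (Fin 6156)), Cfsg.IsJ3 H ∧ MulAction.IsPretransitive H (Fin 6156) ∧ Nat.card (MulAction.stabilizer H (0 : Fin 6156)) = 8160 := by
  have hc : Nat.card (GaloisField 2 2) = 4 := by rw [GaloisField.card 2 2 (by norm_num)]; norm_num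
  haveI : Finite (GaloisField 2 2) := Nat.finite_of_card_ne_zero (by omega)
  letI : Fintype (GaloisField 2 2) := Fintype.ofFinite _
  have hF : Fintype.card (GaloisField 2 2) = 4 := by rw [← Nat.card_eq_fintype_card, hc]
  have h2 : (2 : GaloisField 2 2) = 0 := U62Cover.two_eq_zero hF
  obtain ⟨w, -, hw⟩ := U62Cover.exists_omega hF
  exact JankoThree.perm_realization h2 (ω := w) (by linear_combination hw + (w + 1) * h2)

end Cfsg.Agent.S0458
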