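import Cfsg.Statements.S0459
import Cfsg.Agent.Lib.RuPerm.Groups

set_option autoImplicit false
open Cfsg

namespace Cfsg.Agent.S0459

open Cfsg.Agent.RuPerm MulAction

/-- The Rudvalis group exists as a transitive permutation group of degree 4060: simple of order 145926144000, with point stabiliser of order 35942400 containing a simple subgroup of order 17971200 (the order of the Tits group). -/
theorem result : ∃ H : Subgroup (Equiv.Perm (Fin 4060)), Cfsg.IsRu H ∧ MulAction.IsPretransitive H (Fin 4060) ∧ Nat.card (MulAction.stabilizer H (0 : Fin 4060)) = 35942400 ∧ ∃ T : Subgroup (MulAction.stabilizer H (0 : Fin 4060)), Cfsg.IsTits T := by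
  have htrans : IsPretransitive rud (Fin 4060) := by
    refine isPretransitive_iff_base (pt 0) |>.2 fun y => ?_
    have h : orbit rud (pt 0) = Set.univ := Set.eq_of_subset_of_ncard_le (Set.subset_univ _)
      (by rw [Set.ncard_univ, Nat.card_fin, ← Nat.card_coe_set_eq, level_rud.2.2]) (Set.toFinite _)
    obtain ⟨g, hg⟩ : y ∈ orbit rud (pt 0) := h ▸ Set.mem_univ y
    exact ⟨g, hg⟩
  refine ⟨rud, ⟨level_rud.1, natCard_rud⟩, htrans, ?_, ?_⟩
  · have h := (stabilizer rud (0 : Fin 4060)).index_mul_card
    rw [index_stabilizer_of_transitive, Nat.card_fin, natCard_rud] at h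
    omega
  · have hle : titsSub ≤ rud := titsSub_le.trans inf_le_left
    have hst : titsSub.subgroupOf rud ≤ stabilizer rud (0 : Fin 4060) := fun x hx => by
      have := (titsSub_le hx).2
      exact this
    refine ⟨(titsSub.subgroupOf rud).subgroupOf _, ?_⟩
    let e : ↥((titsSub.subgroupOf rud).subgroupOf (stabilizer rud (0 : Fin 4060))) ≃* titsSub :=
      (Subgroup.subgroupOfEquivOfLe hst).trans (Subgroup.subgroupOfEquivOfLe hle)
    exact ⟨@MulEquiv.isSimpleGroup _ _ _ _ level_tits e,
      (Nat.card_congr e.toEquiv).trans natCard_titsSub⟩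

end Cfsg.Agent.S0459
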