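import Cfsg.Statements.S0462
import Cfsg.Agent.EqLemmas
import Cfsg.Agent.Lib.HeldSp4.Held

set_option autoImplicit false
open Cfsg

namespace Cfsg.Agent.S0462

open Cfsg.Agent.CosetEnum in
theorem main : ∃ H : Subgroup (Equiv.Perm (Fin he2058.n)), Cfsg.IsHe H ∧
    MulAction.IsPretransitive H (Fin he2058.n) ∧
    ∃ (F : Type) (_ : Field F) (_ : Fintype F), Fintype.card F = 4 ∧
      ∃ N : Subgroup (MulAction.stabilizer H (⟨0, S1683.table.perm.hn⟩ : Fin he2058.n)),
        N.index = 2 ∧ Nonempty (N ≃* Matrix.symplecticGroup (Fin 2) F) := by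
  have T := S1683.table
  obtain ⟨ext, hsrc, hext⟩ := T.src
  obtain ⟨e, he0, he⟩ := Setup.exists_equiv T.gens T.letters T.check T.rels T.perm T.subs hsrc HeldSp4.Hs rfl hext
  set z : Fin he2058.n := ⟨0, S1683.table.perm.hn⟩ with hz
  have hfix : ∀ g, HeldSp4.rho g z = z ↔ g ∈ HeldSp4.Hs := fun g => by
    rw [← e.injective.eq_iff, ← he g z]
    show g • e z = e z ↔ _
    rw [show e z = ((1 : heSetup.G) : heSetup.G ⧸ HeldSp4.Hs) from he0]
    constructor
    · intro h
      have h' := QuotientGroup.eq.mp h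
      exact by simpa using h'
    · intro h
      exact QuotientGroup.eq.mpr (by simpa using h)
  have htr : ∀ i, ∃ g, HeldSp4.rho g z = i := fun i => by
    obtain ⟨g, hg⟩ := QuotientGroup.mk_surjective (e i)
    refine ⟨g, e.injective ?_⟩
    rw [← he g z, show e z = ((1 : heSetup.G) : heSetup.G ⧸ HeldSp4.Hs) from he0, ← hg]
    show ((g * 1 : heSetup.G) : heSetup.G ⧸ HeldSp4.Hs) = _
    rw [mul_one]
  have := S1695.main.1
  have hinj : Function.Injective HeldSp4.rho := by
    rw [← MonoidHom.ker_eq_bot_iff]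
    refine (HeldSp4.rho.normal_ker.eq_bot_or_eq_top).resolve_right fun h => ?_
    obtain ⟨g, hg⟩ := htr ⟨1, by decide⟩
    rw [MonoidHom.mem_ker.mp (h ▸ Subgroup.mem_top g : g ∈ HeldSp4.rho.ker)] at hg
    exact zero_ne_one (congrArg Fin.val hg)
  let E := MonoidHom.ofInjective hinj
  refine ⟨HeldSp4.rho.range, ⟨E.isSimpleGroup_congr.mp S1695.main.1, ?_⟩, ⟨fun a b => ?_⟩,
    Unitary.GF4, inferInstance, inferInstance, Unitary.GF4.card, ?_⟩
  · rw [← Nat.card_congr E.toEquiv, S1695.main.2]
  · obtain ⟨g, rfl⟩ := htr a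
    obtain ⟨h, rfl⟩ := htr b
    refine ⟨E (h * g⁻¹), ?_⟩
    show HeldSp4.rho (h * g⁻¹) (HeldSp4.rho g z) = _
    rw [← Equiv.Perm.mul_apply, ← map_mul, inv_mul_cancel_right]
  · obtain ⟨N, -, h2, ⟨h3⟩⟩ := HeldSp4.exists_sp_index_two
    have hmap : (HeldSp4.Hs).map E.toMonoidHom = MulAction.stabilizer HeldSp4.rho.range z := by
      ext x
      obtain ⟨g, rfl⟩ := E.surjective x
      rw [Subgroup.mem_map, MulAction.mem_stabilizer_iff]
      constructor
      · rintro ⟨g', hg', h⟩
        rw [← E.injective h]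
        exact (hfix g').mpr hg'
      · intro h
        exact ⟨g, (hfix g).mp h, rfl⟩
    let F : HeldSp4.Hs ≃* MulAction.stabilizer HeldSp4.rho.range z :=
      (E.subgroupMap HeldSp4.Hs).trans (MulEquiv.subgroupCongr hmap)
    exact ⟨N.map F.toMonoidHom, (Subgroup.index_map_equiv N F).trans h2, ⟨(F.subgroupMap N).symm.trans h3⟩⟩

/-- The Held group exists as a transitive permutation group of degree 2058: simple of order 4030387200, with point stabiliser containing, with index 2, a copy of the 4-dimensional symplectic group over the field with four elements. -/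
theorem result : ∃ H : Subgroup (Equiv.Perm (Fin 2058)), Cfsg.IsHe H ∧ MulAction.IsPretransitive H (Fin 2058) ∧ ∃ (F : Type) (_ : Field F) (_ : Fintype F), Fintype.card F = 4 ∧ ∃ N : Subgroup (MulAction.stabilizer H (0 : Fin 2058)), N.index = 2 ∧ Nonempty (N ≃* Matrix.symplecticGroup (Fin 2) F) := by
  exact main

end Cfsg.Agent.S0462
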