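import Cfsg.Statements.S0473
import Cfsg.Agent.Lib.FiHeld.Hom
import Cfsg.Agent.Lib.FiHeld.Derived

set_option autoImplicit false
open Cfsg

namespace Cfsg.Agent.S0473

/-- The largest Fischer 3-transposition group: a group of order 2 · 1255205709190661721292800 generated by a conjugacy class of 306936 3-transpositions, in which a transposition centraliser has order 2 · 4089470473293004800 and contains a simple subgroup of order 4089470473293004800; its subgroup of index 2 is simple and contains simple subgroups of orders 4089470473293004800 and 4030387200. -/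
theorem result : ∃ (G : Type) (_ : Group G) (_ : Finite G), Nat.card G = 2 * 1255205709190661721292800 ∧ ∃ D : Set G, Cfsg.IsThreeTranspositionClass D ∧ Nat.card D = 306936 ∧ (∀ d ∈ D, Nat.card (Subgroup.centralizer ({d} : Set G)) = 2 * 4089470473293004800 ∧ ∃ K : Subgroup G, K ≤ Subgroup.centralizer ({d} : Set G) ∧ Cfsg.IsFi23 K) ∧ ∃ H : Subgroup G, H.index = 2 ∧ Cfsg.IsFi24' H ∧ (∃ K : Subgroup H, Cfsg.IsFi23 K) ∧ (∃ K : Subgroup H, Cfsg.IsHe K) := by
  obtain ⟨S, hZ⟩ := FiHeld.fi24_setup
  obtain ⟨hi, hH⟩ := FiHeld.derived_fi24 S hZ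
  obtain ⟨f, hf⟩ := FiHeld.exists_held_hom
  obtain ⟨hs, hc⟩ := Cfsg.Agent.S1695.result
  haveI := hs
  have hperf : commutator Cfsg.Spor.He = ⊤ := by
    refine (Subgroup.Normal.eq_bot_or_eq_top (H := commutator Cfsg.Spor.He) inferInstance).resolve_left fun h => ?_
    have hcomm : ∀ a b : Cfsg.Spor.He, a * b = b * a := fun a b => by
      have := Subgroup.commutator_mem_commutator (Subgroup.mem_top a) (Subgroup.mem_top b)
      rw [← commutator_def, h, Subgroup.mem_bot] at this
      exact commutatorElement_eq_one_iff_mul_comm.mp this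
    letI : CommGroup Cfsg.Spor.He := { (inferInstance : Group Cfsg.Spor.He) with mul_comm := hcomm }
    have : Finite Cfsg.Spor.He := Nat.finite_of_card_ne_zero (by rw [hc]; norm_num)
    have hp := IsSimpleGroup.prime_card (α := Cfsg.Spor.He)
    rw [hc] at hp
    revert hp
    norm_num
  have hr : f.range ≤ commutator FischerExist.Img24 := by
    rintro _ ⟨x, rfl⟩
    have hx : x ∈ commutator Cfsg.Spor.He := hperf.symm ▸ Subgroup.mem_top x
    have hle : (commutator Cfsg.Spor.He).map f ≤ commutator FischerExist.Img24 := by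
      simp only [commutator_def, Subgroup.map_commutator]
      exact Subgroup.commutator_mono le_top le_top
    exact hle ⟨x, hx, rfl⟩
  have hd : FischerExist.el24 0 ∈ conjugatesOf (FischerExist.el24 0) := mem_conjugatesOf_self
  refine ⟨FischerExist.Img24, inferInstance, inferInstance, (FischerM24.group_card S).trans (by norm_num), _,
    S.cls, (Nat.card_coe_set_eq _).trans (FischerM24.class_ncard S), fun d hd => ⟨?_, ?_⟩, _, hi, hH, ?_, ?_⟩
  · rw [FischerM24.centralizer_eq_loc S hd, FischerM24.loc_card S hd]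
  · obtain ⟨K, h1, -, h3⟩ := FiHeld.local_fi23 S hd
    exact ⟨K, h1, h3⟩
  · obtain ⟨K, -, h2, h3, h4⟩ := FiHeld.local_fi23 S hd
    haveI := h3
    exact ⟨K.subgroupOf _, (Subgroup.subgroupOfEquivOfLe h2).isSimpleGroup,
      (Nat.card_congr (Subgroup.subgroupOfEquivOfLe h2).toEquiv).trans h4⟩
  · let e := (Subgroup.subgroupOfEquivOfLe hr).trans (MonoidHom.ofInjective hf).symm
    exact ⟨f.range.subgroupOf _, e.isSimpleGroup, (Nat.card_congr e.toEquiv).trans hc⟩

end Cfsg.Agent.S0473
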