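import Cfsg.Statements.S0481
import Cfsg.Agent.EqLemmas

set_option autoImplicit false
open Cfsg

namespace Cfsg.Agent.S0481

/-- Large extraspecial subgroups: let z be an involution of a finite group G whose centraliser C contains a normal 2-subgroup Q with centre of order 2 and all squares central, such that every element of G centralising Q lies in Q. Then C contains a Sylow 2-subgroup of G, and any involution of G whose centraliser contains a Sylow 2-subgroup of G is conjugate to z. -/
theorem result {G : Type*} [Group G] [Finite G] (z : G) (hz : orderOf z = 2) (Q : Subgroup G) (hQC : Q ≤ Subgroup.centralizer ({z} : Set G)) (hQn : ∀ g ∈ Subgroup.centralizer ({z} : Set G), ∀ q ∈ Q, g * q * g⁻¹ ∈ Q) (hQ2 : IsPGroup 2 Q) (hZ : Nat.card (Subgroup.center Q) = 2) (hsq : ∀ x : Q, x ^ 2 ∈ Subgroup.center Q) (hlarge : Subgroup.centralizer (Q : Set G) ≤ Q) : (∃ P : Sylow 2 G, (P : Subgroup G) ≤ Subgroup.centralizer ({z} : Set G)) ∧ ∀ u : G, orderOf u = 2 → (∃ P : Sylow 2 G, (P : Subgroup G) ≤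 Subgroup.centralizer ({u} : Set G)) → IsConj z u := by
  haveI : Fact (Nat.Prime 2) := ⟨Nat.prime_two⟩
  have hzQ : z ∈ Q := hlarge (by
    intro q hq
    exact Subgroup.mem_centralizer_singleton_iff.1 (hQC hq))
  obtain ⟨S, hS⟩ := hQ2.exists_le_sylow
  have uniq : ∀ w ∈ Subgroup.centralizer ((S : Subgroup G) : Set G), orderOf w = 2 → w = z := by
    intro w hw hw2
    have hwQ : w ∈ Q := hlarge (Subgroup.centralizer_le hS hw)
    have hwc : (⟨w, hwQ⟩ : Q) ∈ Subgroup.center Q := by
      rw [Subgroup.mem_center_iff]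
      intro g
      exact Subtype.ext (hw g (hS g.2))
    have hzc : (⟨z, hzQ⟩ : Q) ∈ Subgroup.center Q := by
      rw [Subgroup.mem_center_iff]
      intro g
      exact Subtype.ext (Subgroup.mem_centralizer_singleton_iff.1 (hQC g.2))
    have hw1 : w ≠ 1 := fun e => by simp [e] at hw2
    have hz1 : z ≠ 1 := fun e => by simp [e] at hz
    by_contra hne
    obtain ⟨a, ha⟩ := Nat.card_eq_two_iff' (1 : Subgroup.center Q) |>.1 hZ
    have e1 := ha.2 ⟨⟨w, hwQ⟩, hwc⟩ (fun e => hw1 (congrArg (fun t : Subgroup.center Q => ((t : Q) : G)) e))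
    have e2 := ha.2 ⟨⟨z, hzQ⟩, hzc⟩ (fun e => hz1 (congrArg (fun t : Subgroup.center Q => ((t : Q) : G)) e))
    exact hne (congrArg (fun t : Subgroup.center Q => ((t : Q) : G)) (e1.trans e2.symm))
  have hzS : (S : Subgroup G) ≤ Subgroup.centralizer ({z} : Set G) := by
    have hne : (S : Subgroup G) ≠ ⊥ := by
      intro e
      have : z ∈ (S : Subgroup G) := hS hzQ
      rw [e, Subgroup.mem_bot] at this
      simp [this] at hz
    haveI : Nontrivial (S : Subgroup G) := (Subgroup.nontrivial_iff_ne_bot _).2 hne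
    have hS2 : IsPGroup 2 (S : Subgroup G) := S.isPGroup'
    haveI := hS2.center_nontrivial
    have hdvd : 2 ∣ Nat.card (Subgroup.center (S : Subgroup G)) := by
      obtain ⟨n, hn⟩ := IsPGroup.iff_card.1 (hS2.to_subgroup (Subgroup.center (S : Subgroup G)))
      rw [hn]
      refine dvd_pow_self 2 (fun e => ?_)
      have h1 : 1 < Nat.card (Subgroup.center (S : Subgroup G)) := Finite.one_lt_card
      rw [hn, e] at h1
      omega
    obtain ⟨w, hw⟩ := exists_prime_orderOf_dvd_card' 2 hdvd
    have hwc : ((w : (S : Subgroup G)) : G) ∈ Subgroup.centralizer ((S : Subgroup G) : Set G) := by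
      intro s hs
      exact congrArg Subtype.val (Subgroup.mem_center_iff.1 w.2 ⟨s, hs⟩)
    have hwz := uniq _ hwc ((Subgroup.orderOf_coe _).trans ((Subgroup.orderOf_coe _).trans hw))
    intro s hs
    rw [Subgroup.mem_centralizer_singleton_iff]
    rw [← hwz]
    exact hwc s hs
  refine ⟨⟨S, hzS⟩, ?_⟩
  rintro u hu ⟨P, hP⟩
  obtain ⟨g, hg⟩ := MulAction.exists_smul_eq G P S
  refine (IsConj.trans (isConj_iff.2 ⟨g, rfl⟩) ?_).symm
  rw [show g * u * g⁻¹ = z from uniq _ ?_ ?_]
  · intro s hs
    rw [← hg] at hs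
    obtain ⟨p, hp, rfl⟩ := hs
    have := Subgroup.mem_centralizer_singleton_iff.1 (hP hp)
    calc MulAut.conj g p * (g * u * g⁻¹) = g * (p * u) * g⁻¹ := by rw [MulAut.conj_apply]; group
      _ = g * (u * p) * g⁻¹ := by rw [this]
      _ = (g * u * g⁻¹) * MulAut.conj g p := by rw [MulAut.conj_apply]; group
  · rw [← MulAut.conj_apply]
    exact (MulEquiv.orderOf_eq (MulAut.conj g) u).trans hu

end Cfsg.Agent.S0481
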