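import Cfsg.Statements.S0484
import Cfsg.Agent.Lib.LThreeRec.Setup
import Cfsg.Agent.Lib.LThreeRec.Main
import Cfsg.Agent.Lib.LThreeRec.Three

set_option autoImplicit false
open Cfsg

namespace Cfsg.Agent.S0484

/-- If a finite simple group has an involution whose centralizer is isomorphic to the quotient of the general linear
group of dimension 2 over a finite field of odd order by a central subgroup of odd order, then it is isomorphic to the
projective special linear group of dimension 3 over that field, or is simple of order 7920. -/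
theorem result {G : Type*} [Group G] [Finite G]
    [IsSimpleGroup G] {F : Type*} [Field F] [Fintype F] (hF : Odd (Fintype.card F)) (Z : Subgroup (GL (Fin 2) F))
    [Z.Normal] (hZc : Z ≤ Subgroup.center (GL (Fin 2) F)) (hZo : Odd (Nat.card Z)) (t : G) (ht : orderOf t = 2)
    (hC : Nonempty (Subgroup.centralizer ({t} : Set G) ≃* (GL (Fin 2) F ⧸ Z))) :
    Nonempty (G ≃* Matrix.ProjectiveSpecialLinearGroup (Fin 3) F) ∨ Cfsg.IsM11 G := by
  by_cases h3 : Fintype.card F = 3
  · exact LThreeRec.three h3 Z hZc hZo t ht hC
  have h1 := Fintype.one_lt_card (α := F)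
  have h2 : (2 : F) ≠ 0 := fun h => by
    have hchar := FiniteField.even_card_iff_char_two (F := F)
    obtain ⟨k, hk⟩ := hF
    rcases CharP.exists F with ⟨p, hp⟩
    haveI := hp
    have hd : p ∣ 2 := (CharP.cast_eq_zero_iff F p 2).1 (by exact_mod_cast h)
    rcases (Nat.dvd_prime Nat.prime_two).1 hd with rfl | rfl
    · exact CharP.char_ne_one F 1 rfl
    · have := hchar.1 (ringChar.eq F 2)
      omega
  obtain ⟨e⟩ := hC
  obtain ⟨H, hH, -, -⟩ := LThreeRec.exists_hyp h2 Z hZc hZo t ht e
  haveI := hH
  refine Or.inl (H.main ?_)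
  obtain ⟨k, hk⟩ := hF
  omega

end Cfsg.Agent.S0484
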