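import Cfsg.Statements.S0489
import Cfsg.Agent.Lib.TwoGen.Main

set_option autoImplicit false
open Cfsg

namespace Cfsg.Agent.S0489

/-- A finite group in which every two elements generate a solvable subgroup is solvable. -/
theorem result {G : Type*} [Group G] [Finite G]
    (h : ∀ a b : G, Group.IsSolvable (Subgroup.closure ({a, b} : Set G))) : Group.IsSolvable G := by
  refine TwoGen.solvable_of_inherited
    (fun K [Group K] => ∀ a b : K, Group.IsSolvable (Subgroup.closure ({a, b} : Set K))) ?_ ?_ ?_ G h
  · intro K _ _ H hK a b
    haveI := hK (a : K) b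
    have e : (Subgroup.closure ({a, b} : Set H)).map H.subtype = Subgroup.closure ({(a : K), (b : K)} : Set K) := by
      rw [MonoidHom.map_closure, Set.image_pair]
      rfl
    exact Group.isSolvable_of_isSolvable_injective
      (f := ((MulEquiv.subgroupCongr e).toMonoidHom).comp
        ((Subgroup.closure ({a, b} : Set H)).equivMapOfInjective H.subtype H.subtype_injective).toMonoidHom)
      ((MulEquiv.subgroupCongr e).injective.comp (MulEquiv.injective _))
  · intro K _ _ N _ _ hK x y
    obtain ⟨a, rfl⟩ := QuotientGroup.mk'_surjective N x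
    obtain ⟨b, rfl⟩ := QuotientGroup.mk'_surjective N y
    haveI := hK a b
    have e : (Subgroup.closure ({a, b} : Set K)).map (QuotientGroup.mk' N) =
        Subgroup.closure ({QuotientGroup.mk' N a, QuotientGroup.mk' N b} : Set (K ⧸ N)) := by
      rw [MonoidHom.map_closure, Set.image_pair]
    rw [← e]
    exact Group.isSolvable_of_surjective (MonoidHom.subgroupMap_surjective _ _)
  · intro K _ _ hK hna hsol hall
    obtain ⟨a, b, hab⟩ := TwoGen.exists_pair_generating hK hna hsol
    obtain ⟨x, y, hxy⟩ := hna
    haveI := hK
    have h1 := hall a b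
    rw [hab] at h1
    haveI := h1
    exact hxy (IsSimpleGroup.comm_iff_isSolvable.2
      (Group.isSolvable_of_surjective (f := (⊤ : Subgroup K).subtype) fun g => ⟨⟨g, Subgroup.mem_top g⟩, rfl⟩) x y)

end Cfsg.Agent.S0489
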