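import Cfsg.Statements.S0499
import Cfsg.Agent.EqLemmas
import Cfsg.Agent.Lib.Transfer.Alperin

set_option autoImplicit false
open Cfsg

namespace Cfsg.Agent.S0499

/-- A non-abelian finite simple group of even order has order divisible by 12, 16 or 56. -/
theorem result {G : Type*} [Group G] [Finite G] [IsSimpleGroup G]
    (hG : ¬ IsMulCommutative G) (h2 : Even (Nat.card G)) :
    12 ∣ Nat.card G ∨ 16 ∣ Nat.card G ∨ 56 ∣ Nat.card G := by
  classical
  by_contra hcon
  push Not at hcon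
  obtain ⟨h12, h16, h56⟩ := hcon
  haveI : Fact (Nat.Prime 2) := ⟨Nat.prime_two⟩
  obtain ⟨S⟩ := (inferInstance : Nonempty (Sylow 2 G))
  have hcomp : Cfsg.HasNormalPComplement 2 G := by
    refine Transfer.hasNormalPComplement_of_local S fun R hR hR1 x hx hxo => ?_
    by_contra hxc
    let f : Subgroup.normalizer (R : Set G) →* MulAut R := R.normalizerMonoidHom
    let φ := f ⟨x, hx⟩
    have hφ : φ ≠ 1 := by
      intro e
      refine hxc (Subgroup.mem_centralizer_iff.2 fun r hr => ?_)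
      have := congrArg (fun ψ : MulAut R => ((ψ ⟨r, hr⟩ : R) : G)) e
      exact (mul_inv_eq_iff_eq_mul.1 (show x * r * x⁻¹ = r from this)).symm
    obtain ⟨r, hr, hrd⟩ := Nat.exists_prime_and_dvd (mt orderOf_eq_one_iff.1 hφ)
    haveI := Fact.mk hr
    have hrx : r ∣ orderOf x := hrd.trans ((orderOf_map_dvd f ⟨x, hx⟩).trans (by rw [Subgroup.orderOf_mk]))
    have hrG : r ∣ Nat.card G := hrx.trans (orderOf_dvd_natCard x)
    have hr2 : r ≠ 2 := fun e => (Nat.Prime.coprime_iff_not_dvd Nat.prime_two).1 hxo.symm (e ▸ hrx)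
    have hR2 : IsPGroup 2 R := S.isPGroup'.to_le hR.1
    obtain ⟨m, hm⟩ := IsPGroup.iff_card.1 hR2
    have hmG : 2 ^ m ∣ Nat.card G := hm ▸ R.card_subgroup_dvd_card
    have hm3 : m ≤ 3 := by
      by_contra h
      exact h16 ((Nat.pow_dvd_pow 2 (show 4 ≤ m by omega)).trans hmG)
    set ψ := φ ^ (orderOf φ / r) with hψ
    have hψo : orderOf ψ = r := orderOf_pow_orderOf_div (orderOf_pos φ).ne' hrd
    have hZ : IsPGroup r (Subgroup.zpowers ψ) := IsPGroup.of_card (n := 1) (by rw [Nat.card_zpowers, hψo, pow_one])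
    have hmod := hZ.card_modEq_card_fixedPoints R
    let F : Subgroup R :=
      { carrier := MulAction.fixedPoints (Subgroup.zpowers ψ) R
        one_mem' := fun g => map_one (g : MulAut R)
        mul_mem' := fun {a b} ha hb g => by
          show (g : MulAut R) (a * b) = a * b
          rw [map_mul, show (g : MulAut R) a = a from ha g, show (g : MulAut R) b = b from hb g]
        inv_mem' := fun {a} ha g => by
          show (g : MulAut R) a⁻¹ = a⁻¹
          rw [map_inv, show (g : MulAut R) a = a from ha g] }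
    obtain ⟨k, hkm, hk⟩ := (Nat.dvd_prime_pow Nat.prime_two).1 (hm ▸ F.card_subgroup_dvd_card)
    have hkne : k ≠ m := by
      intro e
      have hFt : F = ⊤ := Subgroup.eq_top_of_card_eq F (by rw [hk, e, hm])
      have : ψ = 1 := MulEquiv.ext fun a => by
        have ha : a ∈ F := by rw [hFt]; trivial
        exact ha ⟨ψ, Subgroup.mem_zpowers ψ⟩
      rw [this, orderOf_one] at hψo
      exact hr.one_lt.ne hψo
    have hF' : Nat.card (MulAction.fixedPoints (Subgroup.zpowers ψ) R) = 2 ^ k := hk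
    rw [hF', hm] at hmod
    have h12' : ∀ j, 2 ≤ j → 2 ^ j ∣ Nat.card G → r = 3 → False := by
      intro j hj hjG e
      subst e
      exact h12 (Nat.Coprime.mul_dvd_of_dvd_of_dvd (by norm_num : Nat.Coprime 4 3)
        ((Nat.pow_dvd_pow 2 hj).trans hjG) hrG)
    have hrd' : r ∣ 2 ^ m - 2 ^ k := (Nat.modEq_iff_dvd' (Nat.pow_le_pow_right two_pos hkm)).1 hmod.symm
    have hkey : r ∣ 1 ∨ r ∣ 2 ∨ r ∣ 3 ∧ 2 ≤ m ∨ r ∣ 7 ∧ m = 3 ∨ r ∣ 4 ∨ r ∣ 6 ∧ 2 ≤ m := by
      interval_cases m <;> interval_cases k <;> simp_all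
    have hprime : ∀ q : ℕ, q.Prime → r ∣ q → r = q := fun q hq h => (Nat.prime_dvd_prime_iff_eq hr hq).1 h
    rcases hkey with h | h | ⟨h, hm2⟩ | ⟨h, hm2⟩ | h | ⟨h, hm2⟩
    · exact hr.not_dvd_one h
    · exact hr2 (hprime 2 Nat.prime_two h)
    · exact h12' m hm2 hmG (hprime 3 Nat.prime_three h)
    · obtain rfl := hprime 7 (by norm_num) h
      subst hm2
      exact h56 (Nat.Coprime.mul_dvd_of_dvd_of_dvd (by norm_num : Nat.Coprime 8 7) hmG hrG)
    · exact hr2 (hprime 2 Nat.prime_two (hr.dvd_of_dvd_pow (show r ∣ 2 ^ 2 from h)))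
    · rcases hr.dvd_mul.1 (show r ∣ 2 * 3 from h) with h' | h'
      · exact hr2 (hprime 2 Nat.prime_two h')
      · exact h12' m hm2 hmG (hprime 3 Nat.prime_three h')
  have hcop := Transfer.hasNormalPComplement_iff_coprime.1 hcomp
  rcases Subgroup.Normal.eq_bot_or_eq_top (Transfer.pResidual_normal (p := 2) (G := G)) with e | e
  · obtain ⟨k, hk⟩ := Transfer.exists_index_pResidual (p := 2) (G := G)
    rw [e, Subgroup.index_bot] at hk
    haveI : Group.IsNilpotent G := (IsPGroup.of_card hk).isNilpotent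
    haveI : Group.IsSolvable G := inferInstance
    exact hG ⟨⟨IsSimpleGroup.comm_iff_isSolvable.2 inferInstance⟩⟩
  · rw [e, Subgroup.card_top, Nat.coprime_two_right] at hcop
    exact Nat.not_even_iff_odd.2 hcop h2

end Cfsg.Agent.S0499
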