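import Cfsg.Statements.S0505
import Cfsg.Agent.EqLemmas
import Cfsg.Agent.Lib.Coprime.PQ
import Cfsg.Agent.Lib.Solvable.Fitting
import Cfsg.Agent.Lib.Cores.Fitting
import Cfsg.Agent.Lib.Solvable.Basic

set_option autoImplicit false
open Cfsg

namespace Cfsg.Agent.S0505

theorem fitting_le_two (X : Type*) [Group X] [Finite X]
    (h : ∀ q : ℕ, q.Prime → q ≠ 2 → Cfsg.pCore q X = ⊥) :
    Cfsg.fittingSubgroup X ≤ Cfsg.pCore 2 X := by
  rw [Cores.fittingSubgroup_eq_iSup_pCore]
  refine iSup_le fun q => ?_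
  rcases eq_or_ne (q : ℕ) 2 with e | e
  · rw [e]
  · rw [h q q.2 e]; exact bot_le

/-- Let G be a finite group of even order in which the centralizer of every involution is solvable and has trivial
core (no nontrivial normal subgroup of odd order). Then G is of characteristic 2 type. -/
theorem result {G : Type*} [Group G] [Finite G]
    (h2 : Even (Nat.card G))
    (hs : ∀ t : G, orderOf t = 2 → Group.IsSolvable (Subgroup.centralizer ({t} : Set G)))
    (hc : ∀ t : G, orderOf t = 2 → Cfsg.oddCore (Subgroup.centralizer ({t} : Set G)) = ⊥) :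
    Cfsg.IsCharacteristicTwoType G := by
  refine ⟨h2, fun T hT hT1 => ?_⟩
  haveI : Fact (Nat.Prime 2) := ⟨Nat.prime_two⟩
  haveI : Nontrivial T := (Subgroup.nontrivial_iff_ne_bot _).2 hT1
  haveI := hT.center_nontrivial
  have hdvd : 2 ∣ Nat.card (Subgroup.center T) := by
    obtain ⟨m, hm⟩ := IsPGroup.iff_card.1 (hT.to_subgroup (Subgroup.center T))
    rw [hm]
    refine dvd_pow_self 2 fun e => ?_
    have h1 : 1 < Nat.card (Subgroup.center T) := Finite.one_lt_card
    rw [hm, e] at h1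
    omega
  obtain ⟨z, hz⟩ := exists_prime_orderOf_dvd_card' 2 hdvd
  set z0 : G := ((z : T) : G) with hz0
  have hz2 : orderOf z0 = 2 := (Subgroup.orderOf_coe _).trans ((Subgroup.orderOf_coe _).trans hz)
  set H := Subgroup.centralizer ({z0} : Set G) with hH
  have hTH : T ≤ H := fun t ht => Subgroup.mem_centralizer_singleton_iff.2
    (congrArg Subtype.val (Subgroup.mem_center_iff.1 z.2 ⟨t, ht⟩))
  have hCT : Subgroup.centralizer (T : Set G) ≤ H := fun c hc =>
    Subgroup.mem_centralizer_singleton_iff.2 (Subgroup.mem_centralizer_iff.1 hc z0 (z : T).2).symm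
  set R := (Cfsg.pCore 2 H).map H.subtype with hR
  haveI := hs z0 hz2
  have hfit : Cfsg.fittingSubgroup H ≤ Cfsg.pCore 2 H := fitting_le_two _ fun q hq hq2 => by
    haveI := Fact.mk hq
    rw [eq_bot_iff, ← hc z0 hz2]
    refine Cores.le_pPrimeCore (Cfsg.pCore_normal q H) ?_
    obtain ⟨m, hm⟩ := IsPGroup.iff_card.1 (Cores.isPGroup_pCore q H)
    rw [hm]
    exact Nat.Coprime.pow_left m ((Nat.coprime_primes hq Nat.prime_two).2 hq2)
  have hCR : ∀ k ∈ H, k ∈ Subgroup.centralizer (R : Set G) → k ∈ R := by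
    intro k hk hkR
    refine ⟨⟨k, hk⟩, hfit (Solvable.centralizer_fitting_le H ?_), rfl⟩
    rw [Subgroup.mem_centralizer_iff]
    intro w hw
    exact Subtype.ext (Subgroup.mem_centralizer_iff.1 hkR w ⟨w, hfit hw, rfl⟩)
  have hHR : H ≤ Subgroup.normalizer (R : Set G) := fun a ha => by
    rw [Subgroup.mem_normalizer_iff]
    intro b
    constructor
    · rintro ⟨w, hw, rfl⟩
      exact ⟨⟨a, ha⟩ * w * ⟨a, ha⟩⁻¹, (Cfsg.pCore_normal 2 H).conj_mem w hw _, rfl⟩
    · rintro ⟨w, hw, hwb⟩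
      refine ⟨⟨a, ha⟩⁻¹ * w * ⟨a, ha⟩, ?_, ?_⟩
      · simpa using (Cfsg.pCore_normal 2 H).conj_mem w hw (⟨a, ha⟩ : H)⁻¹
      · simp only [map_mul, map_inv, hwb, Subgroup.subtype_apply]; group
  set N := Subgroup.normalizer (T : Set G) with hN
  have hTN : T ≤ N := Subgroup.le_normalizer
  haveI : (T.subgroupOf N).Normal := Subgroup.normal_in_normalizer
  have hT2 : T.subgroupOf N ≤ Cfsg.pCore 2 N :=
    Cores.le_pCore inferInstance (hT.of_equiv (Subgroup.subgroupOfEquivOfLe hTN).symm)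
  -- the odd core of N is trivial
  set K := Cfsg.pPrimeCore 2 N with hK
  have hKc : (Nat.card K).Coprime 2 := Cores.coprime_card_pPrimeCore 2
  set K' := K.map N.subtype with hK'
  have hK'c : (Nat.card K').Coprime 2 := by
    rw [hK', Subgroup.card_map_of_injective N.subtype_injective]; exact hKc
  have hKT : K' ≤ Subgroup.centralizer (T : Set G) := by
    rintro _ ⟨k, hk, rfl⟩
    rw [Subgroup.mem_centralizer_iff]
    intro t ht
    have hdis : Disjoint K (T.subgroupOf N) := disjoint_iff.2 (Solvable.inf_eq_bot_of_coprime (by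
      obtain ⟨m, hm⟩ := IsPGroup.iff_card.1 (hT.of_equiv (Subgroup.subgroupOfEquivOfLe hTN).symm)
      rw [hm]
      exact Nat.Coprime.pow_right m hKc))
    exact (congrArg Subtype.val (Subgroup.commute_of_normal_of_disjoint K (T.subgroupOf N)
      (Cfsg.pPrimeCore_normal 2 N) inferInstance hdis k ⟨t, hTN ht⟩ hk ht).eq).symm
  have hK'H : K' ≤ H := hKT.trans hCT
  have hK'R : K' ≤ Subgroup.centralizer (R : Set G) := by
    refine Coprime.thompson_pq 2 hT hK'c ((Cores.isPGroup_pCore 2 H).map _) ?_ (hTH.trans hHR)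
      (hK'H.trans hHR) ?_
    · intro t ht
      rw [Subgroup.mem_centralizer_iff]
      intro k hk
      exact (Subgroup.mem_centralizer_iff.1 (hKT hk) t ht).symm
    · intro r hr
      rw [Subgroup.mem_centralizer_iff]
      intro k hk
      have hrN : r ∈ N := Subgroup.centralizer_le_normalizer _ hr.2
      have h1 : r * k⁻¹ * r⁻¹ ∈ K' := by
        obtain ⟨k0, hk0, rfl⟩ := hk
        exact ⟨⟨r, hrN⟩ * k0⁻¹ * ⟨r, hrN⟩⁻¹,
          (Cfsg.pPrimeCore_normal 2 N).conj_mem _ (K.inv_mem hk0) _, rfl⟩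
      have h2' : k * r * k⁻¹ * r⁻¹ ∈ K' ⊓ R := ⟨by
          simpa [mul_assoc] using K'.mul_mem hk h1,
        R.mul_mem ((Subgroup.mem_normalizer_iff.1 ((hK'H.trans hHR) hk) r).1 hr.1) (R.inv_mem hr.1)⟩
      have hdis : K' ⊓ R = ⊥ := Solvable.inf_eq_bot_of_coprime (by
        obtain ⟨m, hm⟩ := IsPGroup.iff_card.1 ((Cores.isPGroup_pCore 2 H).map H.subtype)
        rw [hm]
        exact Nat.Coprime.pow_right m hK'c)
      rw [hdis, Subgroup.mem_bot] at h2'
      exact mul_inv_eq_iff_eq_mul.1 (mul_inv_eq_one.1 h2')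
  have hK1 : K = ⊥ := by
    rw [← Subgroup.map_eq_bot_iff_of_injective K N.subtype_injective, ← hK', eq_bot_iff]
    intro k hk
    have hdis : K' ⊓ R = ⊥ := Solvable.inf_eq_bot_of_coprime (by
      obtain ⟨m, hm⟩ := IsPGroup.iff_card.1 ((Cores.isPGroup_pCore 2 H).map H.subtype)
      rw [hm]
      exact Nat.Coprime.pow_right m hK'c)
    rw [← hdis]
    exact ⟨hk, hCR k (hK'H hk) (hK'R hk)⟩
  -- hence the centralizer of the 2-core is a 2-group
  set C := Subgroup.centralizer (Cfsg.pCore 2 N : Set N) with hC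
  haveI : (Cfsg.pCore 2 N).Normal := Cfsg.pCore_normal 2 N
  haveI hCn : C.Normal := inferInstance
  have hCH : ∀ c ∈ C, (c : G) ∈ H := fun c hc' => hCT (Subgroup.mem_centralizer_iff.2 fun t ht =>
    congrArg Subtype.val (Subgroup.mem_centralizer_iff.1 hc' ⟨t, hTN ht⟩ (hT2 ht)))
  haveI : Group.IsSolvable C :=
    Group.isSolvable_of_isSolvable_injective
      (f := (MonoidHom.mk' (fun c : C => (⟨((c : N) : G), hCH c c.2⟩ : H)) fun _ _ => rfl))
      (fun a b e => Subtype.ext (Subtype.ext (congrArg (fun w : H => (w : G)) e)))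
  have hCfit : Cfsg.fittingSubgroup C ≤ Cfsg.pCore 2 C := fitting_le_two _ fun q hq hq2 => by
    haveI := Fact.mk hq
    rw [← Subgroup.map_eq_bot_iff_of_injective _ C.subtype_injective, eq_bot_iff, ← hK1]
    rw [Cores.pCore_map_subtype C q]
    refine le_trans inf_le_left (Cores.le_pPrimeCore (Cfsg.pCore_normal q N) ?_)
    obtain ⟨m, hm⟩ := IsPGroup.iff_card.1 (Cores.isPGroup_pCore q N)
    rw [hm]
    exact Nat.Coprime.pow_left m ((Nat.coprime_primes hq Nat.prime_two).2 hq2)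
  have hO2 : ∀ w ∈ Cfsg.pCore 2 C, (w : N) ∈ Cfsg.pCore 2 N := fun w hw => by
    have : (w : N) ∈ Cfsg.pCore 2 N ⊓ C := by rw [← Cores.pCore_map_subtype C 2]; exact ⟨w, hw, rfl⟩
    exact this.1
  intro c hc'
  refine hO2 ⟨c, hc'⟩ (hCfit (Solvable.centralizer_fitting_le C ?_))
  rw [Subgroup.mem_centralizer_iff]
  intro w hw
  exact Subtype.ext (Subgroup.mem_centralizer_iff.1 hc' w (hO2 w (hCfit hw)))

end Cfsg.Agent.S0505
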