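import Cfsg.Statements.S0519
import Cfsg.Agent.EqLemmas
import Cfsg.Agent.Lib.PGroup.UniqueOrderP

set_option autoImplicit false
open Cfsg

namespace Cfsg.Agent.S0519

/-- An involution acting as `1 + 2^(m-1)` or, for `m = 2`, as `-1` gives a normal four-group. -/
theorem no_four {G : Type*} [Group G] [Finite G] {z c : G}
    (hn : ∀ A : Subgroup G, A.Normal → IsMulCommutative A → IsCyclic A)
    (hz2 : z ^ 2 = 1) (hc2 : c ^ 2 = 1) (hzc : Commute z c) (hz1 : z ≠ 1) (hc : c ∉ Subgroup.zpowers z)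
    (hconjz : ∀ g : G, g * z * g⁻¹ ∈ Subgroup.zpowers z)
    (hconjc : ∀ g : G, ∃ j : ℤ, g * c * g⁻¹ = z ^ j * c) : False := by
  haveI : Fact (Nat.Prime 2) := ⟨Nat.prime_two⟩
  set E := Subgroup.zpowers z ⊔ Subgroup.zpowers c with hE
  have hEn : E.Normal := by
    refine ⟨fun x hx g => ?_⟩
    have hle : E ≤ E.comap (MulAut.conj g).toMonoidHom := by
      refine sup_le (Subgroup.zpowers_le.2 ?_) (Subgroup.zpowers_le.2 ?_)
      · exact Subgroup.mem_sup_left (hconjz g)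
      · obtain ⟨j, hj⟩ := hconjc g
        show g * c * g⁻¹ ∈ E
        rw [hj]
        exact E.mul_mem (Subgroup.mem_sup_left (Subgroup.zpow_mem _ (Subgroup.mem_zpowers z) j))
          (Subgroup.mem_sup_right (Subgroup.mem_zpowers c))
    exact hle hx
  have hEc : ∀ x ∈ E, ∀ y ∈ E, x * y = y * x := PGroup.sup_zpowers_comm
    (fun x hx y hy => congrArg Subtype.val
      ((IsCyclic.isMulCommutative (α := Subgroup.zpowers z)).is_comm.comm ⟨x, hx⟩ ⟨y, hy⟩))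
    (Subgroup.mem_centralizer_iff.2 fun x hx => by
      obtain ⟨k, rfl⟩ := Subgroup.mem_zpowers_iff.1 hx
      exact (hzc.zpow_left k).eq)
  have hcyc := hn E hEn ⟨⟨fun x y => Subtype.ext (hEc x x.2 y y.2)⟩⟩
  exact hc (PGroup.mem_zpowers_of_isCyclic hcyc (Subgroup.mem_sup_left (Subgroup.mem_zpowers z))
    (Subgroup.mem_sup_right (Subgroup.mem_zpowers c)) (orderOf_eq_prime hz2 hz1) hc2)

/-- Let P be a finite p-group in which every abelian normal subgroup is cyclic, but which has a non-cyclic abelian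
subgroup. Then p = 2 and P is generalized quaternion, dihedral of order at least 16, or quasi-dihedral. -/
theorem result {P : Type*} [Group P] [Finite P] (p : ℕ) [Fact p.Prime]
    (hP : IsPGroup p P) (hn : ∀ A : Subgroup P, A.Normal → IsMulCommutative A → IsCyclic A)
    (hm : ∃ B : Subgroup P, IsMulCommutative B ∧ ¬ IsCyclic B) :
    p = 2 ∧ ((∃ n : ℕ, Nonempty (P ≃* QuaternionGroup n)) ∨ (∃ n : ℕ, 8 ≤ n ∧ Nonempty (P ≃* DihedralGroup n)) ∨
      Cfsg.IsQuasiDihedral P) := by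
  classical
  obtain ⟨B, hB, hBc⟩ := hm
  have hp2 : p = 2 := by
    by_contra hp2
    have hS : ¬ IsCyclic (⊤ : Subgroup P) := fun h => hBc
      (isCyclic_of_injective (Subgroup.inclusion (le_top : B ≤ ⊤)) (Subgroup.inclusion_injective _))
    obtain ⟨A, -, hAn, hAe, hAcard⟩ := PGroup.exists_normal_elementary_sq hp2 hP hS
    haveI := hn A hAn hAe.1
    obtain ⟨g, hg⟩ := IsCyclic.exists_ofOrder_eq_natCard (α := A)
    have h1 := orderOf_dvd_of_pow_eq_one (show g ^ p = 1 from Subtype.ext (hAe.2 g g.2))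
    rw [hg, hAcard] at h1
    have hp := (Fact.out : p.Prime).two_le
    have := Nat.le_of_dvd (by omega) h1
    nlinarith
  subst hp2
  refine ⟨rfl, ?_⟩
  obtain ⟨A, -, hAmax⟩ := Finite.exists_le_maximal (α := Subgroup P)
    (p := fun A => A.Normal ∧ ∀ x ∈ A, ∀ y ∈ A, x * y = y * x) (a := ⊥)
    ⟨inferInstance, fun x hx y hy => by rw [Subgroup.mem_bot.mp hx, Subgroup.mem_bot.mp hy]⟩
  obtain ⟨hAn, hAc⟩ := hAmax.prop
  haveI := hAn
  have hCA : Subgroup.centralizer (A : Set P) = A := PGroup.centralizer_eq_of_maximal_normal_abelian hP hAc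
    fun B' hB' hBc' hAB => le_antisymm (hAmax.2 ⟨hB', hBc'⟩ hAB) hAB
  obtain ⟨a, rfl⟩ := (Subgroup.isCyclic_iff_exists_zpowers_eq_top _).1
    (hn A hAn ⟨⟨fun x y => Subtype.ext (hAc x x.2 y y.2)⟩⟩)
  have htop : Subgroup.zpowers a ≠ ⊤ := fun h => hBc
    (isCyclic_of_injective (Subgroup.inclusion (le_top.trans h.ge : B ≤ Subgroup.zpowers a))
      (Subgroup.inclusion_injective _))
  have hcent : ∀ b : P, Commute b a → b ∈ Subgroup.zpowers a := fun b hb => by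
    rw [← hCA, Subgroup.mem_centralizer_iff]
    intro h hh
    obtain ⟨k, rfl⟩ := Subgroup.mem_zpowers_iff.mp hh
    exact (hb.zpow_right k).eq.symm
  have hconj : ∀ b : P, b * a * b⁻¹ ∈ Subgroup.zpowers a := fun b => hAn.conj_mem a (Subgroup.mem_zpowers a) b
  obtain ⟨m, hma⟩ := IsPGroup.iff_orderOf.mp hP a
  have hzp : ∀ {i j : ℤ}, a ^ i = a ^ j ↔ ((2 : ℤ) ^ m) ∣ i - j := by
    intro i j; rw [PGroup.zpow_eq_zpow_iff_dvd hma]; simp
  -- P/A is abelian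
  have hcomm : ∀ g x : P, g * x * g⁻¹ * x⁻¹ ∈ Subgroup.zpowers a := by
    intro g x
    obtain ⟨r, hr⟩ := Subgroup.mem_zpowers_iff.1 (hconj g)
    obtain ⟨s, hs⟩ := Subgroup.mem_zpowers_iff.1 (hconj x)
    refine hcent _ ?_
    have h1 : (g * x) * a * (g * x)⁻¹ = a ^ (r * s) := by
      rw [show (g * x) * a * (g * x)⁻¹ = g * (x * a * x⁻¹) * g⁻¹ by group, ← hs,
        PGroup.conj_zpow_of_conj_eq hr.symm]
    have h2 : (x * g) * a * (x * g)⁻¹ = a ^ (r * s) := by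
      rw [show (x * g) * a * (x * g)⁻¹ = x * (g * a * g⁻¹) * x⁻¹ by group, ← hr,
        PGroup.conj_zpow_of_conj_eq hs.symm, mul_comm]
    show g * x * g⁻¹ * x⁻¹ * a = a * (g * x * g⁻¹ * x⁻¹)
    have h3 : (g * x) * a * (g * x)⁻¹ = (x * g) * a * (x * g)⁻¹ := h1.trans h2.symm
    -- write a as a conjugate under x * g
    obtain ⟨w, hw⟩ : ∃ w, a = (x * g) * w * (x * g)⁻¹ := ⟨(x * g)⁻¹ * a * (x * g), by group⟩
    have hw2 : ∃ t : ℤ, w = a ^ t := by
      obtain ⟨t, ht⟩ := Subgroup.mem_zpowers_iff.1 (hconj (x * g)⁻¹)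
      exact ⟨t, by rw [ht, hw]; group⟩
    obtain ⟨t, ht⟩ := hw2
    have h4 : (g * x) * w * (g * x)⁻¹ = a := by
      conv_rhs => rw [hw]
      rw [ht, ← conj_zpow, ← conj_zpow, h3]
    calc g * x * g⁻¹ * x⁻¹ * a = g * x * g⁻¹ * x⁻¹ * ((x * g) * w * (x * g)⁻¹) := by rw [← hw]
      _ = (g * x) * w * (g * x)⁻¹ * (g * x * g⁻¹ * x⁻¹) := by group
      _ = a * (g * x * g⁻¹ * x⁻¹) := by rw [h4]
  -- no element squaring into A acts as 1 + 2^(m-1)
  have hnomod : ∀ c : P, 3 ≤ m → c ^ 2 = 1 → c * a * c⁻¹ = a ^ (1 + 2 ^ (m - 1) : ℤ) → False := by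
    intro c hm3 hc2 hca
    obtain ⟨k, rfl⟩ : ∃ k, m = k + 3 := ⟨m - 3, by omega⟩
    rw [show k + 3 - 1 = k + 2 from rfl] at hca
    set z := a ^ ((2 : ℤ) ^ (k + 2)) with hzdef
    have hcA : c ∉ Subgroup.zpowers a := by
      intro h
      obtain ⟨i, hi⟩ := Subgroup.mem_zpowers_iff.1 h
      have : a ^ (1 : ℤ) = a ^ (1 + 2 ^ (k + 2) : ℤ) := by
        rw [zpow_one, ← hca, ← hi]; group
      rw [hzp] at this
      obtain ⟨u, hu⟩ := this
      ring_nf at hu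
      have h2 : (2 : ℤ) ^ k ≠ 0 := by positivity
      have : (-4 : ℤ) = 8 * u := mul_left_cancel₀ h2 (by linear_combination hu)
      omega
    have hz2 : z ^ 2 = 1 := by
      rw [hzdef, ← zpow_natCast, ← zpow_mul, ← zpow_zero a, hzp]
      exact ⟨1, by push_cast; ring⟩
    have hz1 : z ≠ 1 := by
      rw [hzdef, ← zpow_zero a, Ne, hzp]
      rintro ⟨u, hu⟩
      ring_nf at hu
      have h2 : (2 : ℤ) ^ k ≠ 0 := by positivity
      have : (4 : ℤ) = 8 * u := mul_left_cancel₀ h2 (by linear_combination hu)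
      omega
    have hzc : Commute z c := by
      have h := PGroup.conj_zpow_of_conj_eq hca ((2 : ℤ) ^ (k + 2))
      rw [show a ^ ((1 + 2 ^ (k + 2)) * (2 : ℤ) ^ (k + 2)) = z from hzp.2 ⟨2 ^ (k + 1), by ring⟩, ← hzdef,
        mul_inv_eq_iff_eq_mul] at h
      exact h.symm
    refine no_four hn hz2 hc2 hzc hz1 (fun h => hcA ((Subgroup.zpowers_le.2
      (Subgroup.zpow_mem _ (Subgroup.mem_zpowers a) _)) h)) (fun g => ?_) (fun g => ?_)
    · refine PGroup.mem_zpowers_of_isCyclic (C := Subgroup.zpowers a) inferInstance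
        (Subgroup.zpow_mem _ (Subgroup.mem_zpowers a) _) ?_ (orderOf_eq_prime hz2 hz1) (by rw [conj_pow, hz2]; group)
      exact hAn.conj_mem _ (Subgroup.zpow_mem _ (Subgroup.mem_zpowers a) _) g
    · obtain ⟨j, hj⟩ := Subgroup.mem_zpowers_iff.1 (hcomm g c)
      have hgc : g * c * g⁻¹ = a ^ j * c := by rw [hj]; group
      have hsq : (a ^ j * c) ^ 2 = 1 := by rw [← hgc, conj_pow, hc2]; group
      have h2 : a ^ (j + (1 + 2 ^ (k + 2)) * j) = a ^ (0 : ℤ) := by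
        rw [zpow_add, ← PGroup.conj_zpow_of_conj_eq hca j, zpow_zero,
          show c⁻¹ = c from inv_eq_of_mul_eq_one_right (by rw [← pow_two]; exact hc2), ← hsq, pow_two]
        group
      rw [hzp] at h2
      obtain ⟨u, hu⟩ := h2
      have h4 : (2 : ℤ) ^ (k + 2) ∣ j * (1 + 2 ^ (k + 1)) := ⟨u, by
        apply mul_left_cancel₀ (two_ne_zero : (2 : ℤ) ≠ 0); linear_combination hu⟩
      have hcop : IsCoprime ((2 : ℤ) ^ (k + 2)) (1 + 2 ^ (k + 1)) :=
        IsCoprime.pow_left ⟨-(2 ^ k), 1, by ring⟩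
      obtain ⟨v, rfl⟩ := hcop.dvd_of_dvd_mul_right h4
      exact ⟨v, by rw [hgc, hzdef, ← zpow_mul]⟩
  have kind : ∀ b : P, b ∉ Subgroup.zpowers a → b ^ 2 ∈ Subgroup.zpowers a →
      2 ≤ m ∧ ∃ i : ℤ,
      ((b * a ^ i) ^ 2 = 1 ∧ b * a * b⁻¹ = a⁻¹) ∨
      ((b * a ^ i) ^ 2 = a ^ (2 ^ (m - 1)) ∧ b * a * b⁻¹ = a⁻¹) ∨
      (3 ≤ m ∧ (b * a ^ i) ^ 2 = 1 ∧ b * a * b⁻¹ = a ^ (2 ^ (m - 1) - 1 : ℤ)) := by
    intro b hbA hb2
    obtain ⟨hm2, i, h⟩ := PGroup.two_local hma (hconj b) hb2 (fun h => hbA (hcent b h))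
    have hsame : (b * a ^ i) * a * (b * a ^ i)⁻¹ = b * a * b⁻¹ := by group
    refine ⟨hm2, i, ?_⟩
    rcases h with ⟨h1, h2⟩ | ⟨h1, h2⟩ | ⟨h3, h1, h2⟩ | ⟨h3, h1, h2⟩
    · exact Or.inl ⟨h1, hsame.symm.trans h2⟩
    · exact Or.inr (Or.inl ⟨h1, hsame.symm.trans h2⟩)
    · refine (hnomod _ h3 h1 (h2.trans ?_)).elim
      rw [← zpow_natCast]; push_cast; rfl
    · refine Or.inr (Or.inr ⟨h3, h1, (hsame.symm.trans h2).trans ?_⟩)
      rw [← zpow_natCast]
      push_cast [Nat.one_le_two_pow]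
      rfl
  have act : ∀ b : P, b ∉ Subgroup.zpowers a → b ^ 2 ∈ Subgroup.zpowers a →
      b * a * b⁻¹ = a ^ (-1 : ℤ) ∨ (3 ≤ m ∧ b * a * b⁻¹ = a ^ (2 ^ (m - 1) - 1 : ℤ)) := by
    intro b h1 h2
    obtain ⟨-, i, h | h | h⟩ := kind b h1 h2
    · exact Or.inl (by rw [zpow_neg_one]; exact h.2)
    · exact Or.inl (by rw [zpow_neg_one]; exact h.2)
    · exact Or.inr ⟨h.1, h.2.2⟩
  -- every square lies in A
  have hsqA : ∀ g : P, g ^ 2 ∈ Subgroup.zpowers a := by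
    intro g
    by_contra hg
    obtain ⟨k, hk⟩ := hP g
    have hex : ∃ k, g ^ 2 ^ k ∈ Subgroup.zpowers a := ⟨k, hk ▸ one_mem _⟩
    obtain ⟨j, hj⟩ : ∃ j, Nat.find hex = j + 2 := ⟨Nat.find hex - 2, by
      have h0 : Nat.find hex ≠ 0 := fun h => hg (by
        have := Nat.find_spec hex; rw [h, pow_zero, pow_one] at this; exact pow_mem this 2)
      have h1 : Nat.find hex ≠ 1 := fun h => hg (by
        have := Nat.find_spec hex; rwa [h, pow_one] at this)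
      omega⟩
    obtain ⟨r, hr⟩ := Subgroup.mem_zpowers_iff.mp (hconj (g ^ 2 ^ j))
    have h2 := PGroup.conj_pow_of_conj_eq hr.symm 2
    rw [← pow_mul, ← pow_succ] at h2
    have hnot : g ^ 2 ^ (j + 1) ∉ Subgroup.zpowers a := Nat.find_min hex (m := j + 1) (by omega)
    have hsq' : (g ^ 2 ^ (j + 1)) ^ 2 ∈ Subgroup.zpowers a := by
      rw [← pow_mul, ← pow_succ, show j + 1 + 1 = Nat.find hex by omega]; exact Nat.find_spec hex
    obtain ⟨hm2, -⟩ := kind _ hnot hsq'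
    obtain ⟨i, rfl⟩ : ∃ i, m = i + 2 := ⟨m - 2, by omega⟩
    rcases act _ hnot hsq' with h | ⟨h3, h⟩
    · rw [h, hzp] at h2
      obtain ⟨u, hu⟩ := h2
      rcases Int.even_or_odd r with ⟨v, rfl⟩ | ⟨v, rfl⟩
      · ring_nf at hu; omega
      · ring_nf at hu; omega
    · obtain ⟨e, rfl⟩ : ∃ e, i = e + 1 := ⟨i - 1, by omega⟩
      rw [h, hzp, show e + 1 + 2 - 1 = e + 2 from rfl] at h2
      obtain ⟨u, hu⟩ := h2
      rcases Int.even_or_odd r with ⟨v, rfl⟩ | ⟨v, rfl⟩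
      · ring_nf at hu; omega
      · ring_nf at hu; omega
  obtain ⟨b, -, hbA⟩ := SetLike.exists_of_lt (lt_top_iff_ne_top.2 htop)
  have hidx : (Subgroup.zpowers a).index = 2 := by
    rw [Subgroup.index_eq_two_iff]
    refine ⟨b, fun g => ?_⟩
    rw [xor_iff_or_and_not_and]
    refine ⟨?_, fun h => hbA (by simpa using mul_mem (inv_mem h.2) h.1)⟩
    by_contra hg
    push Not at hg
    obtain ⟨hgb, hgA⟩ := hg
    have hgbm : g * a * g⁻¹ = a ^ (-1 : ℤ) ∨ (3 ≤ m ∧ g * a * g⁻¹ = a ^ (2 ^ (m - 1) - 1 : ℤ)) :=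
      act g hgA (hsqA g)
    have key : ∀ {r s : ℤ}, g * a * g⁻¹ = a ^ r → b * a * b⁻¹ = a ^ s →
        (g * b) * a * (g * b)⁻¹ = a ^ (r * s) := by
      intro r s h1 h2
      rw [show (g * b) * a * (g * b)⁻¹ = g * (b * a * b⁻¹) * g⁻¹ by group, h2,
        PGroup.conj_zpow_of_conj_eq h1]
    have hne1 : ∀ t : ℤ, (g * b) * a * (g * b)⁻¹ = a ^ t → ¬ (2 : ℤ) ^ m ∣ t - 1 := by
      intro t ht hd
      apply hgb
      refine hcent _ ?_
      rw [(hzp (i := t) (j := 1)).2 hd, zpow_one] at ht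
      exact mul_inv_eq_iff_eq_mul.1 ht
    have hprod : ¬ (3 ≤ m ∧ (g * b) * a * (g * b)⁻¹ = a ^ (1 + 2 ^ (m - 1) : ℤ)) := by
      rintro ⟨hm3, hw⟩
      obtain ⟨k, rfl⟩ : ∃ k, m = k + 3 := ⟨m - 3, by omega⟩
      rw [show k + 3 - 1 = k + 2 from rfl] at hw
      rcases act (g * b) hgb (hsqA _) with h | ⟨-, h⟩
      · rw [hw, hzp] at h
        obtain ⟨u, hu⟩ := h
        ring_nf at hu
        rcases Int.even_or_odd u with ⟨v, rfl⟩ | ⟨v, rfl⟩ <;> ring_nf at hu <;> omega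
      · rw [hw, hzp, show k + 3 - 1 = k + 2 from rfl] at h
        obtain ⟨u, hu⟩ := h
        ring_nf at hu
        omega
    rcases hgbm with h1 | ⟨hm3, h1⟩ <;> rcases act b hbA (hsqA b) with h2 | ⟨hm3', h2⟩
    · exact hne1 _ (key h1 h2) ⟨0, by norm_num⟩
    · refine hprod ⟨hm3', (key h1 h2).trans (hzp.2 ⟨-1, ?_⟩)⟩
      obtain ⟨k, rfl⟩ : ∃ k, m = k + 3 := ⟨m - 3, by omega⟩
      rw [show k + 3 - 1 = k + 2 from rfl]; ring
    · refine hprod ⟨hm3, (key h1 h2).trans (hzp.2 ⟨-1, ?_⟩)⟩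
      obtain ⟨k, rfl⟩ : ∃ k, m = k + 3 := ⟨m - 3, by omega⟩
      rw [show k + 3 - 1 = k + 2 from rfl]; ring
    · obtain ⟨k, rfl⟩ : ∃ k, m = k + 3 := ⟨m - 3, by omega⟩
      rw [show k + 3 - 1 = k + 2 from rfl] at h1 h2
      exact hne1 _ (key h1 h2) ⟨2 ^ (k + 1) - 1, by ring⟩
  have hcard : Nat.card P = 2 ^ (m + 1) := by
    rw [← (Subgroup.zpowers a).card_mul_index, Nat.card_zpowers, hma, hidx, pow_succ]
  obtain ⟨hm2, i, hk⟩ := kind b hbA (hsqA b)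
  have hbA' : b * a ^ i ∉ Subgroup.zpowers a := fun h => hbA (by
    simpa using mul_mem h (inv_mem (Subgroup.zpow_mem _ (Subgroup.mem_zpowers a) i)))
  have hsame : (b * a ^ i) * a * (b * a ^ i)⁻¹ = b * a * b⁻¹ := by group
  rcases hk with ⟨h1, h2⟩ | ⟨h1, h2⟩ | ⟨h3, h1, h2⟩
  · haveI : NeZero (2 ^ m) := ⟨by positivity⟩
    obtain ⟨e⟩ := PGroup.dihedralEquivOfGen (N := 2 ^ m) hma h1 (hsame.trans h2) hbA' (by rw [hcard, pow_succ']; )
    refine Or.inr (Or.inl ⟨2 ^ m, ?_, ⟨e.symm⟩⟩)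
    by_contra hlt
    have hm3 : m = 2 := by
      by_contra hne
      exact hlt ((Nat.pow_le_pow_right two_pos (show 3 ≤ m by omega)).trans' (by norm_num))
    subst hm3
    set c := b * a ^ i with hc
    set z := a ^ (2 : ℤ) with hz
    have hca : c * a * c⁻¹ = a ^ (-1 : ℤ) := by rw [zpow_neg_one]; exact hsame.trans h2
    have hz2 : z ^ 2 = 1 := by
      rw [hz, ← zpow_natCast, ← zpow_mul, ← zpow_zero a, hzp]; norm_num
    have hz1 : z ≠ 1 := by
      rw [hz, ← zpow_zero a, Ne, hzp]; norm_num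
    refine no_four hn hz2 h1 ?_ hz1 (fun h => hbA' ((Subgroup.zpowers_le.2
      (Subgroup.zpow_mem _ (Subgroup.mem_zpowers a) _)) h)) (fun g => ?_) (fun g => ?_)
    · have h := PGroup.conj_zpow_of_conj_eq hca 2
      rw [show a ^ ((-1 : ℤ) * 2) = z from hzp.2 (by norm_num), ← hz, mul_inv_eq_iff_eq_mul] at h
      exact h.symm
    · exact PGroup.mem_zpowers_of_isCyclic (C := Subgroup.zpowers a) inferInstance
        (Subgroup.zpow_mem _ (Subgroup.mem_zpowers a) _)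
        (hAn.conj_mem _ (Subgroup.zpow_mem _ (Subgroup.mem_zpowers a) _) g)
        (orderOf_eq_prime hz2 hz1) (by rw [conj_pow, hz2]; group)
    · have hci : c⁻¹ = c := inv_eq_of_mul_eq_one_right (by rw [← pow_two]; exact h1)
      rcases em (g ∈ Subgroup.zpowers a) with hg | hg
      · obtain ⟨j, rfl⟩ := Subgroup.mem_zpowers_iff.1 hg
        refine ⟨j, ?_⟩
        have h := PGroup.conj_zpow_of_conj_eq hca (-j)
        rw [neg_one_mul, neg_neg] at h
        calc a ^ j * c * (a ^ j)⁻¹ = a ^ j * (c * a ^ (-j) * c⁻¹) * c := by group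
          _ = z ^ j * c := by rw [h, ← zpow_add, hz, ← zpow_mul, two_mul]
      · obtain ⟨j, hj⟩ := Subgroup.mem_zpowers_iff.1
          ((Subgroup.mul_mem_iff_of_index_two hidx).2 (iff_of_false (inv_mem_iff.not.2 hbA') hg) : c⁻¹ * g ∈ _)
        refine ⟨-j, ?_⟩
        have h := PGroup.conj_zpow_of_conj_eq hca (2 * j)
        have h' := PGroup.conj_zpow_of_conj_eq hca (-j)
        rw [neg_one_mul, neg_neg] at h'
        have hg' : g = c * a ^ j := by rw [hj]; group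
        calc g * c * g⁻¹ = c * (a ^ j * (c * a ^ (-j) * c⁻¹)) * c⁻¹ * c := by rw [hg']; group
          _ = c * a ^ (2 * j) * c⁻¹ * c := by rw [h', ← zpow_add, two_mul]
          _ = z ^ (-j) * c := by rw [h, hz, ← zpow_mul]; congr 2; ring
  · obtain ⟨k, rfl⟩ : ∃ k, m = k + 1 := ⟨m - 1, by omega⟩
    haveI : NeZero (2 ^ k) := ⟨by positivity⟩
    obtain ⟨e⟩ := PGroup.quaternionEquivOfGen (N := 2 ^ k) (a := a) (b := b * a ^ i)
      (by rw [hma]; ring) (by simpa using h1) (hsame.trans h2) hbA' (by rw [hcard]; ring)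
    exact Or.inl ⟨2 ^ k, ⟨e.symm⟩⟩
  · refine Or.inr (Or.inr ⟨m, h3, hcard, a, b * a ^ i, hma, ?_, ?_⟩)
    · exact orderOf_eq_prime h1 (fun e => hbA' (e ▸ one_mem _))
    · rw [hsame, h2, ← zpow_natCast]
      push_cast [Nat.one_le_two_pow]
      rfl

end Cfsg.Agent.S0519
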