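import Cfsg.Statements.S0520
import Cfsg.Agent.EqLemmas
import Cfsg.Agent.Lib.Solvable.Basic

set_option autoImplicit false
open Cfsg
open scoped Pointwise

namespace Cfsg.Agent.S0520

theorem isKleinFour_of_equiv {A B : Type*} [Group A] [Group B] (e : A ≃* B) (h : IsKleinFour A) : IsKleinFour B :=
  ⟨by rw [← Nat.card_congr e.toEquiv]; exact h.card_four,
   by rw [← Monoid.exponent_eq_of_mulEquiv e]; exact h.exponent_two⟩

theorem isKleinFour_conj {G : Type*} [Group G] (g : G) {U : Subgroup G} (h : IsKleinFour U) :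
    IsKleinFour ↥(MulAut.conj g • U) :=
  isKleinFour_of_equiv (Subgroup.equivSMul (MulAut.conj g) U) h

theorem isPGroup_four {G : Type*} [Group G] {U : Subgroup G} (h : IsKleinFour U) : IsPGroup 2 U :=
  IsPGroup.of_card (n := 2) (by rw [h.card_four]; norm_num)

theorem exists_four_of_rank {G : Type*} [Group G] [Finite G] (h : ¬ Cfsg.PRankLE 2 1 G) :
    ∃ U : Subgroup G, IsKleinFour U := by
  simp only [Cfsg.PRankLE, not_forall, not_le] at h
  obtain ⟨A, hA, hA2, hA3⟩ := h
  rw [pow_one] at hA3
  have hAp : IsPGroup 2 A := fun a => ⟨1, Subtype.ext (by simpa using hA2 a a.2)⟩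
  obtain ⟨m, hm⟩ := IsPGroup.iff_card.1 hAp
  haveI : Fact (Nat.Prime 2) := ⟨Nat.prime_two⟩
  obtain ⟨B, hB⟩ := Sylow.exists_subgroup_card_pow_prime 2 (G := A) (n := 2) (by
    rw [hm]
    refine Nat.pow_dvd_pow 2 ?_
    by_contra hlt
    interval_cases m <;> omega)
  refine ⟨B.map A.subtype, ?_, ?_⟩
  · rw [Subgroup.card_map_of_injective A.subtype_injective, hB]; norm_num
  · have hsq : ∀ x : ↥(B.map A.subtype), x ^ 2 = 1 := fun x =>
      Subtype.ext (by simpa using hA2 x (Subgroup.map_subtype_le _ x.2))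
    refine ((Nat.dvd_prime Nat.prime_two).1 (Monoid.exponent_dvd_of_forall_pow_eq_one hsq)).resolve_left ?_
    intro e
    have := Monoid.exp_eq_one_iff.1 e
    have h4 : Nat.card ↥(B.map A.subtype) = 4 := by
      rw [Subgroup.card_map_of_injective A.subtype_injective, hB]; norm_num
    rw [Nat.card_unique] at h4
    omega

theorem exists_four_of_rank' {G : Type*} [Group G] [Finite G] {Q : Subgroup G} (h : ¬ Cfsg.PRankLE 2 1 Q) :
    ∃ U : Subgroup G, IsKleinFour U ∧ U ≤ Q := by
  obtain ⟨U, hU⟩ := exists_four_of_rank h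
  exact ⟨U.map Q.subtype, isKleinFour_of_equiv (U.equivMapOfInjective _ Q.subtype_injective) hU,
    Subgroup.map_subtype_le _⟩

theorem rank_of_four {G : Type*} [Group G] {Q U : Subgroup G} (hU : IsKleinFour U) (h : U ≤ Q) :
    ¬ Cfsg.PRankLE 2 1 Q := by
  intro hr
  have h4 : IsKleinFour ↥(U.subgroupOf Q) :=
    isKleinFour_of_equiv (Subgroup.subgroupOfEquivOfLe h).symm hU
  have := hr (U.subgroupOf Q) ⟨⟨mul_comm_of_exponent_two h4.exponent_two⟩⟩ (fun a ha => by
    have h1 := Monoid.pow_exponent_eq_one (⟨a, ha⟩ : U.subgroupOf Q)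
    rw [h4.exponent_two] at h1
    exact congrArg Subtype.val h1)
  rw [h4.card_four] at this
  norm_num at this

/-- The intersection of two Sylow subgroups of 2-rank at least 2 pins the conjugating element. -/
theorem mem_of_four {G : Type*} [Group G] [Finite G] {S : Sylow 2 G} {Γ : Subgroup G}
    (hmem : ∀ Q : Subgroup G, Q ≤ (S : Subgroup G) → ∀ U : Subgroup G, IsKleinFour U → U ≤ Q →
      Subgroup.normalizer (Q : Set G) ≤ Γ) (n : ℕ) :
    ∀ (x : G) (A : Subgroup G), IsKleinFour A → A ≤ (S : Subgroup G) ⊓ MulAut.conj x • (S : Subgroup G) →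
      Nat.card G ≤ n + Nat.card ↥((S : Subgroup G) ⊓ MulAut.conj x • (S : Subgroup G)) → x ∈ Γ := by
  induction n using Nat.strong_induction_on with
  | _ n ih =>
    intro x A hA hAD hn
    set xS := MulAut.conj x • (S : Subgroup G) with hxS
    set D := (S : Subgroup G) ⊓ xS with hD
    by_cases hDS : D = (S : Subgroup G)
    · have : (S : Subgroup G) ≤ xS := hDS ▸ inf_le_right
      have heq := Subgroup.eq_of_le_of_card_ge this (Solvable.card_conj x (S : Subgroup G)).le
      exact hmem _ le_rfl A hA (hAD.trans inf_le_left) (Solvable.mem_normalizer_iff_conj.2 heq.symm)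
    have step : ∀ T : Subgroup G, IsPGroup 2 T → D < T →
        D < T ⊓ Subgroup.normalizer (D : Set G) := by
      intro T hT hlt
      haveI : Group.IsNilpotent T := hT.isNilpotent
      have h2 : D.subgroupOf T < Subgroup.normalizer ((D.subgroupOf T) : Set T) :=
        Group.normalizerCondition_of_isNilpotent _ (lt_top_iff_ne_top.2 (fun e => by
          rw [Subgroup.subgroupOf_eq_top] at e
          exact hlt.not_ge e))
      obtain ⟨t, ht, htD⟩ := SetLike.exists_of_lt h2
      rw [← Subgroup.subgroupOf_normalizer_eq hlt.le, Subgroup.mem_subgroupOf] at ht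
      exact SetLike.lt_iff_le_and_exists.2 ⟨le_inf hlt.le Subgroup.le_normalizer, (t : G), Subgroup.mem_inf.2 ⟨t.2, ht⟩,
        fun h => htD (Subgroup.mem_subgroupOf.2 h)⟩
    have hxp : IsPGroup 2 xS := S.isPGroup'.map _
    have h1 := step _ S.isPGroup' (lt_of_le_of_ne inf_le_left hDS)
    have h2 := step _ hxp (lt_of_le_of_ne inf_le_right fun e => hDS (Subgroup.eq_of_le_of_card_ge
      inf_le_left (le_of_eq ((congrArg (fun H : Subgroup G => Nat.card H) e).trans (Solvable.card_conj x _)).symm)))
    set L := Subgroup.normalizer (D : Set G) with hL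
    set T1 := (S : Subgroup G) ⊓ L with hT1
    set T2 := xS ⊓ L with hT2
    obtain ⟨P1, hP1⟩ := ((S.isPGroup'.to_le (inf_le_left : T1 ≤ _)).comap_of_injective L.subtype L.subtype_injective).exists_le_sylow
    obtain ⟨P2, hP2⟩ := ((hxp.to_le (inf_le_left : T2 ≤ _)).comap_of_injective L.subtype L.subtype_injective).exists_le_sylow
    obtain ⟨y, hy⟩ := MulAction.exists_smul_eq L P2 P1
    obtain ⟨W, hW⟩ := (P1.isPGroup'.map L.subtype).exists_le_sylow
    obtain ⟨w, hw⟩ := MulAction.exists_smul_eq G S W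
    have hwS : (P1 : Subgroup L).map L.subtype ≤ MulAut.conj w • (S : Subgroup G) :=
      hW.trans (le_of_eq (congrArg Sylow.toSubgroup hw).symm)
    have hT1w : T1 ≤ MulAut.conj w • (S : Subgroup G) := fun t ht =>
      hwS ⟨⟨t, ht.2⟩, hP1 (show (⟨t, ht.2⟩ : L) ∈ T1.comap L.subtype from ht), rfl⟩
    have hT2w : MulAut.conj (y : G) • T2 ≤ MulAut.conj w • (S : Subgroup G) := by
      rintro _ ⟨t, ht, rfl⟩
      refine hwS ⟨MulAut.conj y ⟨t, ht.2⟩, ?_, rfl⟩
      rw [← hy]
      exact ⟨⟨t, ht.2⟩, hP2 (show (⟨t, ht.2⟩ : L) ∈ T2.comap L.subtype from ht), rfl⟩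
    have hDcard : Nat.card D < Nat.card G :=
      lt_of_lt_of_le (lt_of_le_of_ne (Subgroup.card_le_of_le inf_le_left) fun e =>
        hDS (Subgroup.eq_of_le_of_card_ge inf_le_left e.ge)) (Subgroup.card_le_card_group _)
    have hT1card : Nat.card D < Nat.card T1 :=
      lt_of_le_of_ne (Subgroup.card_le_of_le h1.le) fun e => h1.ne (Subgroup.eq_of_le_of_card_ge h1.le e.ge)
    have hT2card : Nat.card D < Nat.card T2 :=
      lt_of_le_of_ne (Subgroup.card_le_of_le h2.le) fun e => h2.ne (Subgroup.eq_of_le_of_card_ge h2.le e.ge)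
    have hwΓ : w ∈ Γ := by
      refine ih (n - 1) (by omega) w A hA (le_inf (hAD.trans inf_le_left) ((hAD.trans h1.le).trans hT1w)) ?_
      have : Nat.card T1 ≤ Nat.card ↥((S : Subgroup G) ⊓ MulAut.conj w • (S : Subgroup G)) :=
        Subgroup.card_le_of_le (le_inf inf_le_left hT1w)
      omega
    have hyΓ : (y : G) ∈ Γ := hmem D inf_le_left A hA hAD y.2
    have hz : w⁻¹ * ((y : G) * x) ∈ Γ := by
      have e1 : MulAut.conj (w⁻¹ * (y : G)) • T2 ≤ (S : Subgroup G) := by
        have := Solvable.conj_mono w⁻¹ hT2w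
        rwa [Solvable.conj_inv_smul, Solvable.conj_conj] at this
      have e2 : MulAut.conj (w⁻¹ * (y : G)) • T2 ≤ MulAut.conj (w⁻¹ * ((y : G) * x)) • (S : Subgroup G) := by
        rw [← mul_assoc, ← Solvable.conj_conj _ x]
        exact Solvable.conj_mono _ inf_le_left
      refine ih (n - 1) (by omega) _ (MulAut.conj (w⁻¹ * (y : G)) • A) (isKleinFour_conj _ hA)
        ((Solvable.conj_mono _ (hAD.trans h2.le)).trans (le_inf e1 e2)) ?_
      have := Subgroup.card_le_of_le (le_inf e1 e2)
      rw [Solvable.card_conj] at this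
      omega
    have := Γ.mul_mem (Γ.inv_mem hyΓ) (Γ.mul_mem hwΓ hz)
    simpa [mul_assoc] using this

/-- Let G be a finite group of 2-rank at least 2 and S a Sylow 2-subgroup whose commuting graph of Klein four-subgroups is
connected. Then the commuting graph of Klein four-subgroups of G is disconnected if and only if the 2-generated core — the
subgroup generated by the normalizers N_G(Q) of the subgroups Q of S that contain a Klein four-group — is a proper
subgroup of G. -/
theorem result {G : Type*} [Group G] [Finite G] (h2 : ¬ Cfsg.PRankLE 2 1 G)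
    (S : Sylow 2 G) (hS : Cfsg.IsFourConnected (S : Subgroup G)) :
    ¬ Cfsg.IsFourConnected G ↔
      (⨆ Q : {Q : Subgroup G // Q ≤ (S : Subgroup G) ∧ ¬ Cfsg.PRankLE 2 1 Q},
          Subgroup.normalizer ((Q : Subgroup G) : Set G)) ≠ ⊤ := by
  obtain ⟨U0, hU0, hU0S⟩ : ∃ U : Subgroup G, IsKleinFour U ∧ U ≤ (S : Subgroup G) := by
    obtain ⟨U, hU⟩ := exists_four_of_rank h2
    obtain ⟨P, hP⟩ := (isPGroup_four hU).exists_le_sylow
    obtain ⟨g, hg⟩ := MulAction.exists_smul_eq G P S
    exact ⟨MulAut.conj g • U, isKleinFour_conj g hU, (Solvable.conj_mono g hP).trans (le_of_eq (congrArg Sylow.toSubgroup hg))⟩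
  set Γ := (⨆ Q : {Q : Subgroup G // Q ≤ (S : Subgroup G) ∧ ¬ Cfsg.PRankLE 2 1 Q},
      Subgroup.normalizer ((Q : Subgroup G) : Set G)) with hΓ
  rw [not_iff_not]
  have hmem : ∀ Q : Subgroup G, Q ≤ (S : Subgroup G) → ∀ U : Subgroup G, IsKleinFour U → U ≤ Q →
      Subgroup.normalizer (Q : Set G) ≤ Γ := fun Q hQ U hU hUQ =>
    le_iSup (fun Q : {Q : Subgroup G // Q ≤ (S : Subgroup G) ∧ ¬ Cfsg.PRankLE 2 1 Q} =>
      Subgroup.normalizer ((Q : Subgroup G) : Set G)) ⟨Q, hQ, rank_of_four hU hUQ⟩
  let R : Subgroup G → Subgroup G → Prop := fun A B =>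
    IsKleinFour A ∧ IsKleinFour B ∧ ∀ a ∈ A, ∀ b ∈ B, a * b = b * a
  constructor
  · intro hcon
    have K : ∀ A : Subgroup G, IsKleinFour A → A ≤ (S : Subgroup G) → ∀ x : G,
        A ≤ MulAut.conj x • (S : Subgroup G) → x ∈ Γ := fun A hA hAS x hAx =>
      mem_of_four hmem (Nat.card G) x A hA (le_inf hAS hAx) (Nat.le_add_right_of_le le_rfl)
    have main : ∀ V : Subgroup G, Relation.ReflTransGen R U0 V →
        ∀ x : G, V ≤ MulAut.conj x • (S : Subgroup G) → x ∈ Γ := by
      intro V hV
      induction hV with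
      | refl => exact K U0 hU0 hU0S
      | @tail A B _ hAB ihA =>
        intro x hx
        obtain ⟨hA, hB, hc⟩ := hAB
        have hle : A ≤ Subgroup.normalizer (B : Set G) := fun a ha =>
          Subgroup.centralizer_le_normalizer _ (Subgroup.mem_centralizer_iff.2 fun b hb => (hc a ha b hb).symm)
        obtain ⟨P, hP⟩ := (IsPGroup.to_sup_of_normal_right' (isPGroup_four hA) (isPGroup_four hB) hle).exists_le_sylow
        obtain ⟨z, hz⟩ := MulAction.exists_smul_eq G S P
        have hP' : A ⊔ B ≤ MulAut.conj z • (S : Subgroup G) :=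
          hP.trans (le_of_eq (congrArg Sylow.toSubgroup hz).symm)
        have hzΓ := ihA z (le_sup_left.trans hP')
        have h3 : z⁻¹ * x ∈ Γ := K (MulAut.conj z⁻¹ • B) (isKleinFour_conj _ hB) (by
            have := Solvable.conj_mono z⁻¹ (le_sup_right.trans hP')
            rwa [Solvable.conj_inv_smul] at this) _ (by
            have := Solvable.conj_mono z⁻¹ hx
            rwa [Solvable.conj_conj] at this)
        simpa using Γ.mul_mem hzΓ h3
    rw [eq_top_iff]
    intro g _
    exact main _ (hcon U0 (MulAut.conj g • U0) hU0 (isKleinFour_conj g hU0)) g (Solvable.conj_mono g hU0S)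
  · intro htop
    have symm : ∀ {A B : Subgroup G}, Relation.ReflTransGen R A B → Relation.ReflTransGen R B A := by
      intro A B h
      induction h with
      | refl => exact .refl
      | tail _ h ih => exact Relation.ReflTransGen.head ⟨h.2.1, h.1, fun b hb a ha => (h.2.2 a ha b hb).symm⟩ ih
    have conjR : ∀ (g : G) {A B : Subgroup G}, Relation.ReflTransGen R A B →
        Relation.ReflTransGen R (MulAut.conj g • A) (MulAut.conj g • B) := by
      intro g A B h
      induction h with
      | refl => exact .refl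
      | tail _ h ih =>
        refine ih.tail ⟨isKleinFour_conj g h.1, isKleinFour_conj g h.2.1, ?_⟩
        rintro _ ⟨a, ha, rfl⟩ _ ⟨b, hb, rfl⟩
        show MulAut.conj g a * MulAut.conj g b = MulAut.conj g b * MulAut.conj g a
        rw [← map_mul, ← map_mul, h.2.2 a ha b hb]
    have inS : ∀ U V : Subgroup G, IsKleinFour U → IsKleinFour V → U ≤ (S : Subgroup G) →
        V ≤ (S : Subgroup G) → Relation.ReflTransGen R U V := by
      intro U V hU hV hUS hVS
      have h1 := hS (U.subgroupOf S) (V.subgroupOf S) (isKleinFour_of_equiv (Subgroup.subgroupOfEquivOfLe hUS).symm hU)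
        (isKleinFour_of_equiv (Subgroup.subgroupOfEquivOfLe hVS).symm hV)
      have h2 := Relation.ReflTransGen.lift (p := R) (fun W : Subgroup (S : Subgroup G) => W.map (S : Subgroup G).subtype)
        (fun W W' h => ?_) _ _ h1
      · simpa [Function.onFun, Subgroup.map_subgroupOf_eq_of_le, hUS, hVS] using h2
      · refine ⟨isKleinFour_of_equiv (W.equivMapOfInjective _ (S : Subgroup G).subtype_injective) h.1,
          isKleinFour_of_equiv (W'.equivMapOfInjective _ (S : Subgroup G).subtype_injective) h.2.1, ?_⟩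
        rintro _ ⟨a, ha, rfl⟩ _ ⟨b, hb, rfl⟩
        exact congrArg Subtype.val (h.2.2 a ha b hb)
    let M : Submonoid G :=
      { carrier := {g | Relation.ReflTransGen R U0 (MulAut.conj g • U0)}
        one_mem' := by simp only [Set.mem_ofPred_eq, map_one, one_smul]; exact .refl
        mul_mem' := fun {g h} hg hh => by
          have := conjR g hh
          rw [← mul_smul, ← map_mul] at this
          exact hg.trans this }
    let M' : Subgroup G :=
      { M with
        inv_mem' := fun {g} hg => by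
          have := conjR g⁻¹ hg
          rw [Solvable.conj_inv_smul] at this
          exact symm this }
    have hle : Γ ≤ M' := iSup_le fun Q g hg => by
      obtain ⟨U, hU, hUQ⟩ := exists_four_of_rank' Q.2.2
      have hgU : MulAut.conj g • U ≤ (S : Subgroup G) := by
        refine le_trans ?_ Q.2.1
        exact (Solvable.conj_mono g hUQ).trans (le_of_eq (Solvable.mem_normalizer_iff_conj.1 hg))
      exact (inS U0 _ hU0 (isKleinFour_conj g hU) hU0S hgU).trans
        (conjR g (inS U U0 hU hU0 (hUQ.trans Q.2.1) hU0S))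
    intro U V hU hV
    have all : ∀ W : Subgroup G, IsKleinFour W → Relation.ReflTransGen R U0 W := by
      intro W hW
      obtain ⟨P, hP⟩ := (isPGroup_four hW).exists_le_sylow
      obtain ⟨z, hz⟩ := MulAction.exists_smul_eq G S P
      have hW' : MulAut.conj z⁻¹ • W ≤ (S : Subgroup G) := by
        have := Solvable.conj_mono z⁻¹ (hP.trans (le_of_eq (congrArg Sylow.toSubgroup hz).symm))
        rwa [show MulAut.conj z⁻¹ • ((z • S : Sylow 2 G) : Subgroup G) = (S : Subgroup G) from
          Solvable.conj_inv_smul z _] at this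
      have hzM : z ∈ M' := hle (htop ▸ Subgroup.mem_top z)
      have h3 := conjR z (inS U0 _ hU0 (isKleinFour_conj z⁻¹ hW) hU0S hW')
      rw [← mul_smul, ← map_mul, mul_inv_cancel, map_one, one_smul] at h3
      exact Relation.ReflTransGen.trans hzM h3
    exact (symm (all U hU)).trans (all V hV)

end Cfsg.Agent.S0520
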