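import Cfsg.Statements.S0521
import Cfsg.Agent.Lib.OddStable.Quadratic
import Cfsg.Agent.Lib.Coprime.Frattini
import Cfsg.Agent.Lib.PGroup.Basic
import Cfsg.Agent.Lib.Solvable.Fitting
import Cfsg.Agent.Lib.FusionChain.Stabilizer

set_option autoImplicit false
open Cfsg

namespace Cfsg.Agent.S0521

open scoped commutatorElement

theorem commute_of_normalizes_order_p {G : Type*} [Group G] {p : ℕ} [hp : Fact p.Prime] {s c : G}
    (hs : ∃ k : ℕ, s ^ p ^ k = 1) (hc : c ^ p = 1) (h : s * c * s⁻¹ ∈ Subgroup.zpowers c) :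
    Commute s c := by
  by_cases hc1 : c = 1
  · rw [hc1]; exact Commute.one_right s
  have hord : orderOf c = p := orderOf_eq_prime hc hc1
  obtain ⟨j, hj⟩ := Subgroup.mem_zpowers_iff.1 h
  obtain ⟨k, hk⟩ := hs
  have hiter : ∀ n : ℕ, s ^ n * c * (s ^ n)⁻¹ = c ^ (j ^ n) := by
    intro n
    induction n with
    | zero => simp
    | succ n ih =>
      calc s ^ (n + 1) * c * (s ^ (n + 1))⁻¹ = s * (s ^ n * c * (s ^ n)⁻¹) * s⁻¹ := by
            rw [pow_succ']; group
        _ = (s * c * s⁻¹) ^ (j ^ n) := by rw [ih, conj_zpow]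
        _ = c ^ (j ^ (n + 1)) := by rw [← hj, ← zpow_mul, pow_succ']
  have h1 : c ^ (j ^ p ^ k) = c ^ (1 : ℤ) := by rw [← hiter, hk, zpow_one]; simp
  rw [← orderOf_dvd_sub_iff_zpow_eq_zpow, hord, ← ZMod.intCast_zmod_eq_zero_iff_dvd] at h1
  push_cast at h1
  rw [ZMod.pow_card_pow, sub_eq_zero] at h1
  have h2 : c ^ j = c ^ (1 : ℤ) := by
    rw [← orderOf_dvd_sub_iff_zpow_eq_zpow, hord, ← ZMod.intCast_zmod_eq_zero_iff_dvd]
    push_cast
    rw [h1, sub_self]
  rw [hj, zpow_one] at h2
  exact mul_inv_eq_iff_eq_mul.1 h2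

theorem mem_zpowers_of_orderOf_eq {C : Type*} [Group C] [Finite C] [IsCyclic C] {u v : C}
    (h : orderOf v = orderOf u) : v ∈ Subgroup.zpowers u := by
  classical
  haveI := Fintype.ofFinite C
  set S := Finset.univ.filter fun a : C => a ^ orderOf u = 1 with hS
  have hsub : (Finset.univ.filter fun a : C => a ∈ Subgroup.zpowers u) ⊆ S := by
    intro a ha
    obtain ⟨i, rfl⟩ := Subgroup.mem_zpowers_iff.1 (Finset.mem_filter.1 ha).2
    refine Finset.mem_filter.2 ⟨Finset.mem_univ _, ?_⟩
    rw [← zpow_natCast, ← zpow_mul, mul_comm, zpow_mul, zpow_natCast, pow_orderOf_eq_one, one_zpow]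
  have hcard : S.card ≤ (Finset.univ.filter fun a : C => a ∈ Subgroup.zpowers u).card := by
    refine le_trans (IsCyclic.card_pow_eq_one_le (orderOf_pos u)) ?_
    rw [← Nat.card_zpowers, Nat.card_eq_fintype_card, Fintype.card_subtype]
  have heq := Finset.eq_of_subset_of_card_le hsub hcard
  have hv : v ∈ S := Finset.mem_filter.2 ⟨Finset.mem_univ _, h ▸ pow_orderOf_eq_one v⟩
  rw [← heq] at hv
  exact (Finset.mem_filter.1 hv).2

theorem sylow_normal {Y : Type*} [Group Y] [Finite Y] [Group.IsSolvable Y] (hodd : Odd (Nat.card Y))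
    (p : ℕ) [Fact p.Prime] (hp2 : p ≠ 2) (hY : Cfsg.pPrimeCore p Y = ⊥) (T : Sylow p Y)
    (hcyc : IsCyclic (commutator (T : Subgroup Y))) : (T : Subgroup Y) = Cfsg.pCore p Y := by
  set P := Cfsg.pCore p Y with hPdef
  have hP : IsPGroup p P := Cores.isPGroup_pCore p Y
  haveI hPn : P.Normal := Cores.pCore_normal p Y
  have hPT : P ≤ (T : Subgroup Y) := Cores.pCore_le_sylow T
  refine le_antisymm (fun s hs => ?_) hPT
  set F := (frattini P).map P.subtype with hFdef
  haveI hFn : F.Normal := Cores.map_subtype_normal_of_characteristic P (frattini P)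
  set π := QuotientGroup.mk' F with hπ
  set V := P.map π with hVdef
  haveI : V.Normal := hPn.map π (QuotientGroup.mk'_surjective F)
  have hmemF : ∀ a : P, a ∈ frattini P → π (a : Y) = 1 := fun a ha =>
    (QuotientGroup.eq_one_iff _).2 ⟨a, ha, rfl⟩
  have hVe : Cfsg.IsElementaryAbelian p V := by
    refine ⟨⟨⟨?_⟩⟩, ?_⟩
    · rintro ⟨_, a, ha, rfl⟩ ⟨_, b, hb, rfl⟩
      have h := hmemF _ (PGroup.commutatorElement_mem_frattini hP ⟨a, ha⟩ ⟨b, hb⟩)
      simp only [commutatorElement_def, Subgroup.coe_mul, Subgroup.coe_inv, map_mul, map_inv] at h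
      refine Subtype.ext ?_
      show π a * π b = π b * π a
      rwa [mul_inv_eq_one, mul_inv_eq_iff_eq_mul] at h
    · rintro _ ⟨a, ha, rfl⟩
      have h := hmemF _ (PGroup.pow_mem_frattini hP ⟨a, ha⟩)
      simpa using h
  set C := Subgroup.centralizer (V : Set (Y ⧸ F)) with hC
  let f : Y →* (Y ⧸ F) ⧸ C := (QuotientGroup.mk' C).comp π
  -- the kernel of the action on `V` is a `p`-group
  have hker : IsPGroup p f.ker := by
    refine FusionChain.isPGroup_of_coprime_trivial fun g hg => ?_
    have hgV : ∀ k ∈ P, (g : Y) * k * (g : Y)⁻¹ * k⁻¹ ∈ F := fun k hk => by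
      have hgC : π (g : Y) ∈ C := by
        rw [← QuotientGroup.eq_one_iff]; exact g.2
      have := Subgroup.mem_centralizer_iff.1 hgC (π k) (Subgroup.mem_map_of_mem π hk)
      refine (QuotientGroup.eq_one_iff _).1 ?_
      show π ((g : Y) * k * (g : Y)⁻¹ * k⁻¹) = 1
      simp only [map_mul, map_inv]
      rw [← this]
      group
    have hnorm : Subgroup.zpowers (g : Y) ≤ Subgroup.normalizer (P : Set Y) :=
      Subgroup.normalizer_eq_top (P : Subgroup Y) ▸ le_top
    have hcop : (Nat.card (Subgroup.zpowers (g : Y))).Coprime (Nat.card (frattini P)) := by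
      obtain ⟨n, hn⟩ := IsPGroup.iff_card.1 (hP.to_subgroup (frattini P))
      rw [hn, Nat.card_zpowers, Subgroup.orderOf_coe]
      exact hg.pow_right n
    have hcen := Coprime.le_centralizer_of_forall_mem_frattini hnorm hcop (by
      rintro _ ⟨i, rfl⟩ k hk
      dsimp only
      have hmem : ∀ j : ℕ, ∀ k ∈ P, (g : Y) ^ j * k * ((g : Y) ^ j)⁻¹ * k⁻¹ ∈ F := by
        intro j
        induction j with
        | zero => intro k _; simp
        | succ j ih =>
          intro k hk
          have h1 := ih ((g : Y) * k * (g : Y)⁻¹) (hPn.conj_mem k hk _)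
          have h2 := F.mul_mem h1 (hgV k hk)
          rw [pow_succ]
          convert h2 using 1
          group
      obtain ⟨j, hj⟩ : ∃ j : ℕ, (g : Y) ^ i = (g : Y) ^ j := ⟨(i % (orderOf (g : Y) : ℤ)).toNat, by
        rw [← zpow_natCast, Int.toNat_of_nonneg (Int.emod_nonneg _ (by exact_mod_cast (orderOf_pos (g : Y)).ne')),
          zpow_mod_orderOf]⟩
      rw [hj]
      exact hmem j k hk)
    have hgP : (g : Y) ∈ P :=
      Solvable.centralizer_pCore_le_of_isSolvable hY (hcen (Subgroup.mem_zpowers _))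
    obtain ⟨n, hn⟩ := hP ⟨g, hgP⟩
    have hn' : (g : Y) ^ p ^ n = 1 := congrArg Subtype.val hn
    refine orderOf_eq_one_iff.1 (Nat.eq_one_of_dvd_coprimes (hg.pow_right n) dvd_rfl ?_)
    rw [← Subgroup.orderOf_coe]
    exact orderOf_dvd_of_pow_eq_one hn'
  -- elements of `T` act quadratically on `V`
  have hquad : OddStable.QuadOn (π s) V := by
    rintro _ ⟨x, hx, rfl⟩
    set c : commutator (T : Subgroup Y) :=
      ⟨⁅(⟨s, hs⟩ : (T : Subgroup Y)), ⟨x, hPT hx⟩⁆,
        Subgroup.commutator_mem_commutator (Subgroup.mem_top _) (Subgroup.mem_top _)⟩ with hc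
    let g : commutator (T : Subgroup Y) →* Y ⧸ F :=
      π.comp ((T : Subgroup Y).subtype.comp (commutator (T : Subgroup Y)).subtype)
    have hgc : g c = π s * π x * (π s)⁻¹ * (π x)⁻¹ := by
      simp [g, hc, commutatorElement_def]
    rw [← hgc]
    have hcp : (g c) ^ p = 1 := by
      rw [hgc, ← map_inv, ← map_inv, ← map_mul, ← map_mul, ← map_mul]
      exact hVe.2 _ (Subgroup.mem_map_of_mem π (P.mul_mem (hPn.conj_mem x hx s) (P.inv_mem hx)))
    refine commute_of_normalizes_order_p ?_ hcp ?_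
    · obtain ⟨k, hk⟩ := T.isPGroup' ⟨s, hs⟩
      exact ⟨k, by rw [← map_pow, show s ^ p ^ k = 1 from congrArg Subtype.val hk, map_one]⟩
    · -- conjugation by `s` preserves the subgroups of the cyclic group `g(T')`
      haveI := hcyc
      haveI : IsCyclic g.range := isCyclic_of_surjective g.rangeRestrict g.rangeRestrict_surjective
      have hy : π s * g c * (π s)⁻¹ ∈ g.range := by
        refine ⟨⟨⟨s, hs⟩ * (c : (T : Subgroup Y)) * (⟨s, hs⟩ : (T : Subgroup Y))⁻¹,
          Subgroup.Normal.conj_mem inferInstance _ c.2 _⟩, ?_⟩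
        simp [g]
      set u : g.range := ⟨g c, c, rfl⟩
      set v : g.range := ⟨_, hy⟩
      have hord : orderOf v = orderOf u := by
        rw [← Subgroup.orderOf_coe, ← Subgroup.orderOf_coe]
        exact Involution.orderOf_conj _ _
      have hv : v ∈ Subgroup.zpowers u := mem_zpowers_of_orderOf_eq hord
      obtain ⟨i, hi⟩ := Subgroup.mem_zpowers_iff.1 hv
      exact Subgroup.mem_zpowers_iff.2 ⟨i, congrArg Subtype.val hi⟩
  have hW : Odd (Nat.card (Y ⧸ F)) := hodd.of_dvd_nat (Subgroup.card_quotient_dvd_card F)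
  have hmem := OddStable.mem_pCore_quotient_centralizer hW hp2 (hP.map π) hquad
  exact Cores.comap_pCore_le f hker (show f s ∈ _ from hmem)

theorem p_length_one {X : Type*} [Group X] [Finite X] [Group.IsSolvable X]
    (hX : Odd (Nat.card X)) (p : ℕ) [Fact p.Prime] (S : Sylow p X) (hS : IsCyclic (commutator (S : Subgroup X))) :
    (Cfsg.pPrimeCore p X ⊔ (S : Subgroup X)).Normal := by
  set O := Cfsg.pPrimeCore p X with hO
  by_cases hp2 : p = 2
  · subst hp2
    have hbot : (S : Subgroup X) = ⊥ := by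
      obtain ⟨n, hn⟩ := S.isPGroup'.exists_card_eq
      rw [← Subgroup.card_eq_one, hn]
      rcases n with _ | n
      · rfl
      · exfalso
        have h := hX.of_dvd_nat (Subgroup.card_subgroup_dvd_card (S : Subgroup X))
        rw [hn, pow_succ] at h
        exact (Nat.not_even_iff_odd.2 h) ⟨2 ^ n, by ring⟩
    rw [hbot, sup_bot_eq]
    infer_instance
  set π := QuotientGroup.mk' O with hπ
  have hsurj := QuotientGroup.mk'_surjective O
  let T := S.mapSurjective hsurj
  have hTc : IsCyclic (commutator (T : Subgroup (X ⧸ O))) := by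
    let g : (S : Subgroup X) →* (T : Subgroup (X ⧸ O)) := π.subgroupMap (S : Subgroup X)
    have hg : Function.Surjective g := π.subgroupMap_surjective _
    have heq : (commutator (S : Subgroup X)).map g = commutator (T : Subgroup (X ⧸ O)) := by
      show Subgroup.map g ⁅⊤, ⊤⁆ = ⁅⊤, ⊤⁆
      rw [Subgroup.map_commutator, Subgroup.map_top_of_surjective g hg]
    rw [← heq]
    haveI := hS
    exact isCyclic_of_surjective (g.subgroupMap _) (g.subgroupMap_surjective _)
  have h := sylow_normal (hX.of_dvd_nat (Subgroup.card_quotient_dvd_card O)) p hp2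
    (Cores.pPrimeCore_quotient_self p) T hTc
  have heq : O ⊔ (S : Subgroup X) = (Cfsg.pCore p (X ⧸ O)).comap π := by
    rw [← h]
    show _ = ((S : Subgroup X).map π).comap π
    rw [Subgroup.comap_map_eq, QuotientGroup.ker_mk', sup_comm]
  rw [heq]
  exact (Cores.pCore_normal p _).comap π

/-- Let X be a finite solvable group of odd order, p a prime and S a Sylow p-subgroup of X whose commutator subgroup is
cyclic. Then the product of the largest normal subgroup of X of order prime to p with S is a normal subgroup of X. -/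
theorem result {X : Type*} [Group X] [Finite X] [Group.IsSolvable X]
    (hX : Odd (Nat.card X)) (p : ℕ) [Fact p.Prime] (S : Sylow p X) (hS : IsCyclic (commutator (S : Subgroup X))) :
    (Cfsg.pPrimeCore p X ⊔ (S : Subgroup X)).Normal := p_length_one hX p S hS

end Cfsg.Agent.S0521
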