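import Cfsg.Statements.S0522
import Cfsg.Agent.EqLemmas
import Cfsg.Agent.Lib.ConstrainedTrans.Transitivity
import Cfsg.Agent.Lib.HallHigman.PSolvable
import Cfsg.Agent.Lib.Transfer.Focal

set_option autoImplicit false
open Cfsg

namespace Cfsg.Agent.S0522

/-- Transitivity Theorem (odd-order setting). Let X be a finite group of odd order in which the normalizer of every
nontrivial p-subgroup is solvable, P a Sylow p-subgroup, and B an abelian subgroup of P, normalized by P, with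
C_P(B) = B and containing an elementary abelian subgroup of order p^3. Then for every prime q ≠ p, any two q-subgroups
that are maximal among the q-subgroups normalized by B are conjugate by an element of the centralizer of B. -/
theorem result {X : Type*} [Group X] [Finite X] (hX : Odd (Nat.card X)) (p : ℕ)
    [Fact p.Prime] (hloc : ∀ T : Subgroup X, IsPGroup p T → T ≠ ⊥ → Group.IsSolvable (Subgroup.normalizer (T : Set X)))
    (P : Sylow p X) (B : Subgroup X) (hBP : B ≤ (P : Subgroup X))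
    (hBn : ∀ x ∈ (P : Subgroup X), ∀ b ∈ B, x * b * x⁻¹ ∈ B) (hBa : IsMulCommutative B)
    (hBc : (P : Subgroup X) ⊓ Subgroup.centralizer (B : Set X) = B)
    (hB3 : ∃ E : Subgroup X, E ≤ B ∧ (∀ e ∈ E, e ^ p = 1) ∧ p ^ 3 ≤ Nat.card E)
    (q : ℕ) [Fact q.Prime] (hqp : q ≠ p) (Q₁ Q₂ : Subgroup X)
    (h₁ : IsPGroup q Q₁ ∧ B ≤ Subgroup.normalizer (Q₁ : Set X) ∧
      ∀ R : Subgroup X, IsPGroup q R → B ≤ Subgroup.normalizer (R : Set X) → Q₁ ≤ R → R = Q₁)
    (h₂ : IsPGroup q Q₂ ∧ B ≤ Subgroup.normalizer (Q₂ : Set X) ∧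
      ∀ R : Subgroup X, IsPGroup q R → B ≤ Subgroup.normalizer (R : Set X) → Q₂ ≤ R → R = Q₂) :
    ∃ c ∈ Subgroup.centralizer (B : Set X), Q₂ = Q₁.map (MulAut.conj c).toMonoidHom := by
  have hp : p.Prime := Fact.out
  have hBp : IsPGroup p B := P.isPGroup'.to_le hBP
  obtain ⟨E, hEB, hEe, hE3⟩ := hB3
  have hPN : (P : Subgroup X) ≤ Subgroup.normalizer (B : Set X) := fun x hx =>
    Coprime.mem_normalizer_of_forall fun b hb => hBn x hx b hb
  have hfull : ∀ x ∈ Subgroup.centralizer (B : Set X), IsPGroup p (Subgroup.zpowers x) → x ∈ B := by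
    intro x hx hxp
    obtain ⟨n, hn, hle⟩ := Transfer.exists_conj_le_of_not_dvd_relIndex hPN P.isPGroup'
      (fun h => P.not_dvd_index (h.trans ⟨_, (Subgroup.relIndex_mul_index hPN).symm⟩))
      (Subgroup.zpowers_le.2 (Subgroup.centralizer_le_normalizer _ hx)) hxp
    have h1 : n * x * n⁻¹ ∈ (P : Subgroup X) := hle ⟨x, Subgroup.mem_zpowers x, rfl⟩
    have h2 : n * x * n⁻¹ ∈ Subgroup.centralizer (B : Set X) := by
      rw [Subgroup.mem_centralizer_iff]
      intro b hb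
      have hb' := Subgroup.mem_centralizer_iff.1 hx _ ((Subgroup.mem_normalizer_iff''.1 hn b).1 hb)
      calc b * (n * x * n⁻¹) = n * ((n⁻¹ * b * n) * x) * n⁻¹ := by group
        _ = n * (x * (n⁻¹ * b * n)) * n⁻¹ := by rw [hb']
        _ = (n * x * n⁻¹) * b := by group
    exact (Subgroup.mem_normalizer_iff.1 hn x).2 (hBc.le ⟨h1, h2⟩)
  have hrank : ¬ Cfsg.PRankLE p 2 B := by
    intro h
    have hec : IsMulCommutative (E.subgroupOf B) := ⟨⟨fun a b => Subtype.ext (hBa.is_comm.comm a.1 b.1)⟩⟩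
    have h1 := h (E.subgroupOf B) hec (fun a ha => Subtype.ext (by simpa using hEe a ha))
    rw [Cores.card_subgroupOf hEB] at h1
    have := hp.two_le
    nlinarith
  have hp2 : p ≠ 2 := by
    rintro rfl
    obtain ⟨k, hk⟩ := IsPGroup.iff_card.1 hBp
    have h1 : Nat.card E ≤ Nat.card B := Subgroup.card_le_of_le hEB
    rcases Nat.eq_zero_or_pos k with e | e
    · rw [hk, e] at h1; omega
    · have h2 : 2 ∣ Nat.card X := (hk ▸ dvd_pow_self 2 e.ne').trans B.card_subgroup_dvd_card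
      exact Nat.not_even_iff_odd.2 hX (even_iff_two_dvd.2 h2)
  have hloc' : ∀ T : Subgroup X, IsPGroup p T → T ≠ ⊥ →
      Cfsg.IsPConstrained p ↥(Subgroup.normalizer (T : Set X)) := fun T hT hT1 => by
    haveI := hloc T hT hT1
    exact HallHigman.isPConstrained_of_isSolvable
  have hmem : ∀ Q : Subgroup X, (IsPGroup q Q ∧ B ≤ Subgroup.normalizer (Q : Set X) ∧
      ∀ R : Subgroup X, IsPGroup q R → B ≤ Subgroup.normalizer (R : Set X) → Q ≤ R → R = Q) →
      Q ∈ Cfsg.maxInvSubgroups ⊤ B {q} := by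
    rintro Q ⟨h1, h2, h3⟩
    exact ⟨⟨le_top, OddTrans.pi_of_isPGroup h1, h2⟩, fun R hR hle =>
      h3 R (OddTrans.isPGroup_of_pi Fact.out hR.2.1) hR.2.2 hle⟩
  obtain ⟨k, hk, he⟩ := ConstrainedTrans.maxInv_conj hloc' (fun e => absurd e hp2) hBp hBa hrank hfull
    hqp (hmem Q₁ h₁) (hmem Q₂ h₂)
  exact ⟨k, OddTrans.piCoreOf_le _ _ hk, he.symm⟩

end Cfsg.Agent.S0522
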