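import Cfsg.Statements.S0534
import Cfsg.Agent.EqLemmas
import Cfsg.Agent.Lib.Solvable.Hall

set_option autoImplicit false
open Cfsg

namespace Cfsg.Agent.S0534

/-- A finite abelian group has a subgroup of every order dividing its order. -/
theorem exists_card_eq_of_dvd.{u} (n : ℕ) : ∀ (A : Type u) [CommGroup A] [Finite A],
    n ∣ Nat.card A → ∃ B : Subgroup A, Nat.card B = n := by
  induction n using Nat.strong_induction_on with
  | _ n ih =>
    intro A _ _ hn
    rcases eq_or_ne n 1 with rfl | h1
    · exact ⟨⊥, Subgroup.card_bot⟩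
    obtain ⟨p, hp, hpn⟩ := Nat.exists_prime_and_dvd h1
    haveI := Fact.mk hp
    obtain ⟨x, hx⟩ := exists_prime_orderOf_dvd_card' p (hpn.trans hn)
    obtain ⟨m, rfl⟩ := hpn
    have hm0 : m ≠ 0 := by
      rintro rfl
      rw [mul_zero, zero_dvd_iff] at hn
      exact Nat.card_pos.ne' hn
    have hcard := (Subgroup.zpowers x).card_eq_card_quotient_mul_card_subgroup
    rw [Nat.card_zpowers, hx, mul_comm] at hcard
    rw [hcard] at hn
    obtain ⟨B, hB⟩ := ih m (by nlinarith [hp.two_le, Nat.pos_of_ne_zero hm0]) (A ⧸ Subgroup.zpowers x)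
      (Nat.dvd_of_mul_dvd_mul_left hp.pos hn)
    refine ⟨B.comap (QuotientGroup.mk' _), ?_⟩
    have h2 := Solvable.card_eq_card_map_mul (QuotientGroup.mk' (Subgroup.zpowers x)) (B.comap (QuotientGroup.mk' _))
    rw [Subgroup.map_comap_eq_self_of_surjective (QuotientGroup.mk'_surjective _), hB,
      inf_eq_right.2 (Subgroup.ker_le_comap _ _), QuotientGroup.ker_mk', Nat.card_zpowers, hx] at h2
    rw [h2, mul_comm]

/-- Let G be a finite solvable group and A a finite abelian group such that every prime dividing the order of A divides the order of G and, for each prime p dividing the order of G, the exponent of p in the order of A is one less than its exponent in the order of G. Then G × A has a subgroup of every order dividing its order. -/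
theorem result {G A : Type*} [Group G] [CommGroup A] [Finite G] [Finite A] [Group.IsSolvable G] (hA : ∀ p : ℕ, p.Prime → p ∣ Nat.card A → p ∣ Nat.card G) (hexp : ∀ p : ℕ, p.Prime → p ∣ Nat.card G → (Nat.card A).factorization p + 1 = (Nat.card G).factorization p) : Cfsg.HasSubgroupOfEveryOrder (G × A) := by
  classical
  intro d hd
  rw [Nat.card_prod] at hd
  have hG0 : Nat.card G ≠ 0 := Nat.card_pos.ne'
  have hA0 : Nat.card A ≠ 0 := Nat.card_pos.ne'
  have hd0 : d ≠ 0 := fun e => mul_ne_zero hG0 hA0 (Nat.eq_zero_of_zero_dvd (e ▸ hd))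
  let π : Set ℕ := {p | p ∣ Nat.card G ∧ (Nat.card G).factorization p ≤ d.factorization p}
  obtain ⟨H, hH1, hH2⟩ := Solvable.exists_piHall_of_solvable (G := G) π
  have hH0 : Nat.card H ≠ 0 := Nat.card_pos.ne'
  have hval : ∀ q, q.Prime → q ∈ π → (Nat.card H).factorization q = (Nat.card G).factorization q := by
    intro q hq hmem
    have h1 := congrArg (fun n : ℕ => n.factorization q) H.card_mul_index
    simp only [Nat.factorization_mul hH0 Subgroup.index_ne_zero_of_finite, Finsupp.add_apply,
      Nat.factorization_eq_zero_of_not_dvd (hH2 q hq hmem), add_zero] at h1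
    exact h1
  have hvaln : ∀ q, q.Prime → q ∉ π → (Nat.card H).factorization q = 0 := fun q hq hmem =>
    Nat.factorization_eq_zero_of_not_dvd fun h => hmem (hH1 q hq h)
  have hHd : Nat.card H ∣ d := by
    rw [← Nat.factorization_prime_le_iff_dvd hH0 hd0]
    intro q hq
    by_cases hmem : q ∈ π
    · rw [hval q hq hmem]; exact hmem.2
    · rw [hvaln q hq hmem]; exact Nat.zero_le _
  obtain ⟨e, rfl⟩ := hHd
  have he0 : e ≠ 0 := (mul_ne_zero_iff.1 hd0).2
  have heA : e ∣ Nat.card A := by
    rw [← Nat.factorization_prime_le_iff_dvd he0 hA0]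
    intro q hq
    have h1 : (Nat.card H * e).factorization q ≤ (Nat.card G * Nat.card A).factorization q :=
      (Nat.factorization_le_iff_dvd hd0 (mul_ne_zero hG0 hA0)).2 hd q
    rw [Nat.factorization_mul hH0 he0, Nat.factorization_mul hG0 hA0, Finsupp.add_apply,
      Finsupp.add_apply] at h1
    by_cases hqG : q ∣ Nat.card G
    · by_cases hmem : q ∈ π
      · rw [hval q hq hmem] at h1; omega
      · have h2 := hvaln q hq hmem
        have h3 : ¬ (Nat.card G).factorization q ≤ (Nat.card H * e).factorization q :=
          fun h => hmem ⟨hqG, h⟩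
        rw [Nat.factorization_mul hH0 he0, Finsupp.add_apply, h2] at h3
        have := hexp q hq hqG
        omega
    · rw [Nat.factorization_eq_zero_of_not_dvd hqG] at h1
      omega
  obtain ⟨B, hB⟩ := exists_card_eq_of_dvd e A heA
  refine ⟨H.prod B, ?_⟩
  rw [Nat.card_congr (H.prodEquiv B).toEquiv, Nat.card_prod, hB]

end Cfsg.Agent.S0534
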