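import Cfsg.Statements.S0535
import Cfsg.Agent.EqLemmas
import Cfsg.Agent.Lib.Solvable.Converse

set_option autoImplicit false
open Cfsg

namespace Cfsg.Agent.S0535

/-- Suppose that for every nontrivial subgroup H of a finite group and every prime p dividing the order of H there is a proper subgroup of H whose index in H is a power of p. Then the group is solvable. -/
theorem result {G : Type*} [Group G] [Finite G] (h : ∀ H : Subgroup G, H ≠ ⊥ → ∀ p : ℕ, p.Prime → p ∣ Nat.card H → ∃ K : Subgroup H, K ≠ ⊤ ∧ ∃ k : ℕ, K.index = p ^ k) : Group.IsSolvable G := by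
  refine Solvable.isSolvable_of_complementSystem fun p hp => ?_
  have := Fact.mk hp
  obtain ⟨H, ⟨k, hk⟩, hmin⟩ := wellFounded_lt.has_min
    {H : Subgroup G | ∃ k, H.index = p ^ k} ⟨⊤, 0, by simp⟩
  refine ⟨H, ?_⟩
  have hnd : ¬ p ∣ Nat.card H := by
    intro hd
    have hne : H ≠ ⊥ := fun e => hp.ne_one (Nat.dvd_one.1 (by rwa [e, Subgroup.card_bot] at hd))
    obtain ⟨K, hK, l, hl⟩ := h H hne p hp hd
    refine hmin (K.map H.subtype) ⟨k + l, ?_⟩ (lt_of_le_of_ne (Subgroup.map_subtype_le K) fun e => hK ?_)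
    · rw [Subgroup.index_map_subtype, hl, hk, pow_add, mul_comm]
    · refine Subgroup.eq_top_of_card_eq K ?_
      rw [← Subgroup.card_map_of_injective H.subtype_injective, e]
  rw [hk, ← Subgroup.card_mul_index H, hk, Nat.factorization_mul Nat.card_pos.ne' (pow_ne_zero _ hp.ne_zero),
    Finsupp.add_apply, Nat.factorization_eq_zero_of_not_dvd hnd, zero_add, hp.factorization_pow,
    Finsupp.single_eq_same]

end Cfsg.Agent.S0535
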