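import Cfsg.Statements.S0537
import Cfsg.Agent.EqLemmas
import Cfsg.Agent.S0536
import Cfsg.Agent.Lib.PGroup.Critical
import Cfsg.Agent.Lib.Solvable.Basic

set_option autoImplicit false
open Cfsg

namespace Cfsg.Agent.S0537

/-- A finite non-abelian group in which every proper subgroup is abelian is either of prime-power order, or is generated by a cyclic Sylow p-subgroup and a normal Sylow q-subgroup that is elementary abelian, for distinct primes p and q. -/
theorem result {G : Type*} [Group G] [Finite G] (hna : ¬ IsMulCommutative G) (h : ∀ H : Subgroup G, H ≠ ⊤ → IsMulCommutative H) : (∃ p : ℕ, p.Prime ∧ IsPGroup p G) ∨ ∃ p q : ℕ, p.Prime ∧ q.Prime ∧ p ≠ q ∧ ∃ (P : Sylow p G) (Q : Sylow q G), IsCyclic P ∧ (Q : Subgroup G).Normal ∧ Cfsg.IsElementaryAbelian q (Q : Subgroup G) ∧ (P : Subgroup G) ⊔ Q = ⊤ := by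
  classical
  by_cases hnil : Group.IsNilpotent G
  · left
    have hSyl := (Group.isNilpotent_of_finite_tfae.out 0 3).1 hnil
    by_cases hex : ∃ (p : ℕ) (_ : Fact p.Prime) (P : Sylow p G), (P : Subgroup G) = ⊤
    · obtain ⟨p, hp, P, hP⟩ := hex
      exact ⟨p, hp.out, (hP ▸ P.isPGroup' : IsPGroup p (⊤ : Subgroup G)).of_equiv Subgroup.topEquiv⟩
    · exfalso
      push Not at hex
      apply hna
      obtain ⟨e⟩ := (Group.isNilpotent_of_finite_tfae.out 0 4).1 hnil
      refine ⟨⟨fun a b => ?_⟩⟩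
      obtain ⟨a', rfl⟩ := e.surjective a
      obtain ⟨b', rfl⟩ := e.surjective b
      rw [← map_mul, ← map_mul]
      congr 1
      funext p P
      have hp : Fact (p : ℕ).Prime := ⟨Nat.prime_of_mem_primeFactors p.2⟩
      exact (h _ (hex _ hp P)).is_comm.comm _ _
  · right
    have hmn : Cfsg.IsMinimalNonNilpotent G := ⟨hnil, fun H hH => by
      have := h H hH
      open scoped IsMulCommutative in infer_instance⟩
    obtain ⟨p, q, hp, hq, hpq, P, Q, hPc, hQn, htop⟩ := S0536.result hmn
    haveI := Fact.mk hq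
    haveI := Fact.mk hp
    haveI := hQn
    refine ⟨p, q, hp, hq, hpq, P, Q, hPc, hQn, ?_, htop⟩
    have hQne : (Q : Subgroup G) ≠ ⊤ := by
      intro e
      exact hnil ((e ▸ Q.isPGroup' : IsPGroup q (⊤ : Subgroup G)).of_equiv Subgroup.topEquiv).isNilpotent
    have hQa := h _ hQne
    have hQc : ∀ a ∈ (Q : Subgroup G), ∀ b ∈ (Q : Subgroup G), a * b = b * a := fun a ha b hb =>
      congrArg Subtype.val (hQa.is_comm.comm (⟨a, ha⟩ : (Q : Subgroup G)) ⟨b, hb⟩)
    refine ⟨hQa, ?_⟩
    by_contra hexp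
    push Not at hexp
    obtain ⟨w, hw, hwq⟩ := hexp
    let W : Subgroup G :=
      { carrier := {a | a ∈ (Q : Subgroup G) ∧ a ^ q = 1}
        one_mem' := ⟨one_mem _, one_pow _⟩
        mul_mem' := fun {a b} ha hb => ⟨mul_mem ha.1 hb.1, by
          rw [(show Commute a b from hQc a ha.1 b hb.1).mul_pow, ha.2, hb.2, one_mul]⟩
        inv_mem' := fun {a} ha => ⟨inv_mem ha.1, by rw [inv_pow, ha.2, inv_one]⟩ }
    haveI hWn : W.Normal := ⟨fun a ha g => ⟨hQn.conj_mem a ha.1 g, by rw [conj_pow, ha.2]; simp⟩⟩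
    have hPq : (Nat.card (P : Subgroup G)).Coprime (Nat.card (Q : Subgroup G)) :=
      IsPGroup.coprime_card_of_ne _ _ hpq _ _ P.isPGroup' Q.isPGroup'
    have hWQ : W ≤ (Q : Subgroup G) := fun a ha => ha.1
    have hne : (P : Subgroup G) ⊔ W ≠ ⊤ := by
      intro e
      have h1 := Solvable.card_sup_of_disjoint (P : Subgroup G) W
        (Solvable.inf_eq_bot_of_coprime (hPq.coprime_dvd_right (Subgroup.card_dvd_of_le hWQ)))
      have h2 := Solvable.card_sup_of_disjoint (P : Subgroup G) (Q : Subgroup G) (Solvable.inf_eq_bot_of_coprime hPq)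
      rw [e] at h1
      rw [htop] at h2
      have h3 := Nat.eq_of_mul_eq_mul_left Nat.card_pos (h1.symm.trans h2)
      have h4 := Subgroup.eq_of_le_of_card_ge hWQ h3.ge
      exact hwq ((h4 ▸ hw : w ∈ W).2)
    have hsupa := h _ hne
    -- elements of P fix every element of order q of Q, hence all of Q
    apply hna
    have hPQ : ∀ x ∈ (P : Subgroup G), ∀ a ∈ (Q : Subgroup G), x * a = a * x := by
      intro x hx
      let φ : MulAut (Q : Subgroup G) := (MulAut.conjNormal : G →* MulAut (Q : Subgroup G)) x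
      have hφ : Nat.Coprime (orderOf φ) q := by
        obtain ⟨j, hj⟩ := IsPGroup.iff_orderOf.1 P.isPGroup' ⟨x, hx⟩
        rw [Subgroup.orderOf_mk] at hj
        exact (Nat.Coprime.pow_left j ((Nat.coprime_primes hp hq).2 hpq)).coprime_dvd_left
          (hj ▸ orderOf_map_dvd _ x)
      have hfix := PGroup.fixed_of_fix_order_p_abelian Q.isPGroup' hφ (A := ⊤)
        (fun a _ b _ => hQa.is_comm.comm a b) (fun a _ => trivial) (fun a _ ha => Subtype.ext (by
          show x * (a : G) * x⁻¹ = a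
          have hcm := congrArg Subtype.val (hsupa.is_comm.comm
            (⟨x, Subgroup.mem_sup_left hx⟩ : ↥((P : Subgroup G) ⊔ W))
            ⟨a, Subgroup.mem_sup_right ⟨a.2, by simpa using congrArg Subtype.val ha⟩⟩)
          exact mul_inv_eq_iff_eq_mul.2 hcm))
      intro a ha
      have := congrArg Subtype.val (hfix ⟨a, ha⟩ trivial)
      exact mul_inv_eq_iff_eq_mul.1 (show x * a * x⁻¹ = a from this)
    haveI := hPc
    have hPab : ∀ a ∈ (P : Subgroup G), ∀ b ∈ (P : Subgroup G), a * b = b * a := fun a ha b hb =>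
      congrArg Subtype.val ((IsCyclic.isMulCommutative (α := (P : Subgroup G))).is_comm.comm ⟨a, ha⟩ ⟨b, hb⟩)
    have hcen : (P : Subgroup G) ⊔ Q ≤ Subgroup.center G := by
      have hgen : ∀ z : G, (∀ a ∈ (P : Subgroup G), a * z = z * a) → (∀ a ∈ (Q : Subgroup G), a * z = z * a) →
          z ∈ Subgroup.center G := by
        intro z h1 h2
        rw [Subgroup.mem_center_iff]
        intro g
        have hle : (P : Subgroup G) ⊔ Q ≤ Subgroup.centralizer ({z} : Set G) :=
          sup_le (fun a ha => Subgroup.mem_centralizer_singleton_iff.2 (h1 a ha))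
            (fun a ha => Subgroup.mem_centralizer_singleton_iff.2 (h2 a ha))
        exact Subgroup.mem_centralizer_singleton_iff.1 (hle (htop ▸ Subgroup.mem_top g))
      exact sup_le (fun z hz => hgen z (fun a ha => hPab a ha z hz) (fun a ha => (hPQ z hz a ha).symm))
        (fun z hz => hgen z (fun a ha => hPQ a ha z hz) (fun a ha => hQc a ha z hz))
    rw [htop] at hcen
    exact ⟨⟨fun a b => Subgroup.mem_center_iff.1 (hcen (Subgroup.mem_top b)) a⟩⟩

end Cfsg.Agent.S0537
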