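import Cfsg.Statements.S0539
import Cfsg.Agent.Lib.Cores.Subnormal

set_option autoImplicit false
open Pointwise
open Cfsg
open scoped Pointwise

namespace Cfsg.Agent.S0539

/-- Let S be a family of subnormal subgroups of a finite group that is closed under conjugation, and S₀ a proper subfamily. Then some member of S not in S₀ normalizes the join of S₀. -/
theorem result {G : Type*} [Group G] [Finite G] (S S₀ : Set (Subgroup G)) (hS : ∀ U ∈ S, U.IsSubnormal) (hconj : ∀ U ∈ S, ∀ g : G, MulAut.conj g • U ∈ S) (h₀ : S₀ ⊂ S) : ∃ X ∈ S, X ∉ S₀ ∧ X ≤ Subgroup.normalizer ((sSup S₀ : Subgroup G) : Set G) := by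
  classical
  obtain ⟨hsub, hns⟩ := Set.ssubset_iff_exists.mp h₀
  obtain ⟨Y, hY, hY'⟩ := hns
  set J : Subgroup G := sSup S₀ with hJ
  have hJs : J.IsSubnormal := Cfsg.Agent.Cores.isSubnormal_sSup S₀ fun U hU => hS U (hsub hU)
  by_cases hJn : J.Normal
  · exact ⟨Y, hY, hY', le_top.trans (Subgroup.normalizer_eq_top_iff.mpr hJn).ge⟩
  obtain ⟨g, hg, hgN⟩ := Cfsg.Agent.Cores.exists_conj_le_normalizer hJs hJn
  have hnle : ¬ MulAut.conj g • J ≤ J := fun h => hg (Cfsg.Agent.Cores.conj_smul_le_iff_eq.mp h)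
  have : ∃ U ∈ S₀, ¬ MulAut.conj g • U ≤ J := by
    by_contra hcon
    push_neg at hcon
    apply hnle
    rw [Subgroup.pointwise_smul_subset_iff]
    exact sSup_le fun U hU => Subgroup.pointwise_smul_subset_iff.mp (hcon U hU)
  obtain ⟨U, hU, hUJ⟩ := this
  refine ⟨MulAut.conj g • U, hconj U (hsub hU) g, fun h => hUJ (le_sSup h), ?_⟩
  exact (Subgroup.pointwise_smul_le_pointwise_smul_iff.mpr (le_sSup hU)).trans hgN

end Cfsg.Agent.S0539
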