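import Cfsg.Statements.S0540
import Cfsg.Agent.EqLemmas
import Cfsg.Agent.Lib.Cores.Subnormal

set_option autoImplicit false
open Pointwise
open Cfsg

namespace Cfsg.Agent.S0540

/-- A uniqueness lemma of zipper type. Let A be a subgroup of a finite group G and U a nonempty family of subgroups. For V in U write S(V) for the set of conjugates of A that lie in V and are subnormal in V. Assume: A belongs to S(V) for every V in U; a member of some S(W) that lies in V belongs to S(V); and for all V, W in U the normalizer of the join of S(V) ∩ S(W) lies in some member of U. Then U has a greatest element. -/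
theorem result {G : Type*} [Group G] [Finite G] (A : Subgroup G) (U : Set (Subgroup G)) (hU : U.Nonempty) (S : Subgroup G → Set (Subgroup G)) (hS : ∀ V B : Subgroup G, B ∈ S V ↔ (∃ g : G, B = MulAut.conj g • A) ∧ B ≤ V ∧ (B.subgroupOf V).IsSubnormal) (h1 : ∀ V ∈ U, A ∈ S V) (h2 : ∀ V ∈ U, ∀ W ∈ U, ∀ B ∈ S W, B ≤ V → B ∈ S V) (h3 : ∀ V ∈ U, ∀ W ∈ U, ∃ X ∈ U, Subgroup.normalizer ((sSup (S V ∩ S W) : Subgroup G) : Set G) ≤ X) : ∃ M ∈ U, ∀ V ∈ U, V ≤ M := by
  classical
  obtain ⟨V₀, hV₀⟩ := hU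
  -- conjugation inside `V` permutes `S V`
  have hconj : ∀ V : Subgroup G, ∀ g ∈ V, ∀ B ∈ S V, MulAut.conj g • B ∈ S V := by
    intro V g hg B hB
    obtain ⟨⟨a, rfl⟩, hle, hsub⟩ := (hS V B).1 hB
    refine (hS V _).2 ⟨⟨g * a, by rw [map_mul, mul_smul]⟩, ?_, ?_⟩
    · intro x hx
      have := V.mul_mem (V.mul_mem hg (hle (Cores.mem_conj_smul.1 hx))) (V.inv_mem hg)
      simpa [mul_assoc] using this
    · rw [Cores.subgroupOf_conj_smul (⟨g, hg⟩ : V)]
      exact Cores.isSubnormal_conj_smul hsub _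
  -- a join of members of `S V` is subnormal in `V`
  have hjoin : ∀ V : Subgroup G, ∀ D : Set (Subgroup G), D ⊆ S V →
      sSup D ≤ V ∧ ((sSup D).subgroupOf V).IsSubnormal := by
    intro V D hD
    have hle : sSup D ≤ V := sSup_le fun B hB => ((hS V B).1 (hD hB)).2.1
    refine ⟨hle, ?_⟩
    have e : (sSup D).subgroupOf V = sSup ((fun B => B.subgroupOf V) '' D) := by
      apply Subgroup.map_injective V.subtype_injective
      rw [Subgroup.map_subgroupOf_eq_of_le hle, (Subgroup.gc_map_comap V.subtype).l_sSup,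
        sSup_eq_iSup, iSup_image]
      exact iSup_congr fun B => iSup_congr fun hB =>
        (Subgroup.map_subgroupOf_eq_of_le ((hS V B).1 (hD hB)).2.1).symm
    rw [e]
    refine Cores.isSubnormal_sSup _ ?_
    rintro _ ⟨B, hB, rfl⟩
    exact ((hS V B).1 (hD hB)).2.2
  have hup : ∀ X ∈ U, ∃ M, Maximal (· ∈ U) M ∧ X ≤ M := fun X hX => by
    obtain ⟨M, hXM, hM⟩ := (Set.toFinite U).exists_le_maximal hX
    exact ⟨M, hM, hXM⟩
  -- the normalizer of the join of all of `S V`
  have hJV : ∀ V, Maximal (· ∈ U) V → Subgroup.normalizer ((sSup (S V) : Subgroup G) : Set G) = V := by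
    intro V hV
    have hVN : V ≤ Subgroup.normalizer ((sSup (S V) : Subgroup G) : Set G) := by
      intro g hg
      rw [← Cores.conj_smul_eq_self_iff]
      refine Cores.conj_smul_le_iff_eq.1 ?_
      refine Subgroup.pointwise_smul_subset_iff.2 (sSup_le fun B hB => ?_)
      exact Subgroup.pointwise_smul_subset_iff.1 (le_sSup (hconj V g hg B hB))
    obtain ⟨X, hX, hNX⟩ := h3 V hV.prop V hV.prop
    rw [Set.inter_self] at hNX
    exact le_antisymm (hNX.trans (hV.le_of_ge hX (hVN.trans hNX))) hVN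
  have huniq : ∀ V W, Maximal (· ∈ U) V → Maximal (· ∈ U) W → V = W := by
    by_contra hcon
    push Not at hcon
    obtain ⟨V, W, hV, hW, hne⟩ := hcon
    obtain ⟨⟨V, W⟩, ⟨hV, hW, hne⟩, hmax⟩ := Set.exists_max_image
      {P : Subgroup G × Subgroup G | Maximal (· ∈ U) P.1 ∧ Maximal (· ∈ U) P.2 ∧ P.1 ≠ P.2}
      (fun P => (S P.1 ∩ S P.2).ncard) (Set.toFinite _) ⟨(V, W), hV, hW, hne⟩
    dsimp only at hV hW hne hmax
    have step : ∀ V' : Subgroup G, Maximal (· ∈ U) V' → S V ∩ S W ⊆ S V' → S V' ≠ S V ∩ S W →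
        ∃ B ∈ S V', B ∉ S V ∩ S W ∧
          B ≤ Subgroup.normalizer ((sSup (S V ∩ S W) : Subgroup G) : Set G) := by
      intro V' hV' hsub hneq
      obtain ⟨B₀, hB₀, hB₀'⟩ := Set.not_subset.1 fun h => hneq (Set.Subset.antisymm h hsub)
      by_cases hn : V' ≤ Subgroup.normalizer ((sSup (S V ∩ S W) : Subgroup G) : Set G)
      · exact ⟨B₀, hB₀, hB₀', ((hS V' B₀).1 hB₀).2.1.trans hn⟩
      obtain ⟨hJle, hJsub⟩ := hjoin V' _ hsub
      obtain ⟨g, hg, hgne, hgN, -⟩ := Cores.exists_conj_le_normalizer_of_le hJle hJsub hn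
      by_contra hcon
      push Not at hcon
      refine hgne (Cores.conj_smul_le_iff_eq.1 ?_)
      refine Subgroup.pointwise_smul_subset_iff.2 (sSup_le fun B hB => ?_)
      refine Subgroup.pointwise_smul_subset_iff.1 (le_sSup ?_)
      by_contra hnot
      refine hcon _ (hconj V' g hg B (hsub hB)) hnot ?_
      exact le_trans (Subgroup.pointwise_smul_le_pointwise_smul_iff.2 (le_sSup hB)) hgN
    obtain ⟨X₀, hX₀, hNX₀⟩ := h3 V hV.prop W hW.prop
    obtain ⟨X, hX, hX₀X⟩ := hup X₀ hX₀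
    have hNX := hNX₀.trans hX₀X
    have hDX : ∀ B ∈ S V ∩ S W, B ∈ S X := fun B hB =>
      h2 X hX.prop V hV.prop B hB.1 ((le_sSup hB).trans (Subgroup.le_normalizer.trans hNX))
    -- if `D` is a proper subset of `S V'` then `X = V'`
    have eqX : ∀ V' : Subgroup G, Maximal (· ∈ U) V' → S V ∩ S W ⊆ S V' → S V' ≠ S V ∩ S W →
        X = V' := by
      intro V' hV' hsub hneq
      by_contra hXV
      obtain ⟨B, hB, hB', hBN⟩ := step V' hV' hsub hneq
      have hlt : S V ∩ S W ⊂ S X ∩ S V' :=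
        Set.ssubset_iff_subset_ne.2 ⟨fun C hC => ⟨hDX C hC, hsub hC⟩, fun e => hB' (e ▸
          ⟨h2 X hX.prop V' hV'.prop B hB (hBN.trans hNX), hB⟩)⟩
      exact absurd (hmax (X, V') ⟨hX, hV', hXV⟩) (not_le.2 (Set.ncard_lt_ncard hlt (Set.toFinite _)))
    -- the case where `D` is all of `S V'`
    have full : ∀ V' W' : Subgroup G, Maximal (· ∈ U) V' → Maximal (· ∈ U) W' →
        S V ∩ S W ⊆ S W' → S V' = S V ∩ S W → V' ≠ W' → False := by
      intro V' W' hV' hW' hsub heq hne'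
      by_cases hW'' : S W' = S V ∩ S W
      · apply hne'
        rw [← hJV V' hV', ← hJV W' hW', heq, hW'']
      obtain ⟨B, hB, hB', hBN⟩ := step W' hW' hsub hW''
      rw [← heq, hJV V' hV'] at hBN
      exact hB' (heq ▸ h2 V' hV'.prop W' hW'.prop B hB hBN)
    by_cases h1' : S V = S V ∩ S W
    · exact full V W hV hW Set.inter_subset_right h1' hne
    by_cases h2' : S W = S V ∩ S W
    · exact full W V hW hV Set.inter_subset_left h2' (Ne.symm hne)
    exact hne ((eqX V hV Set.inter_subset_left h1').symm.trans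
      (eqX W hW Set.inter_subset_right h2'))
  obtain ⟨M, hM, -⟩ := hup V₀ hV₀
  refine ⟨M, hM.prop, fun V hV => ?_⟩
  obtain ⟨M', hM', hVM'⟩ := hup V hV
  exact huniq M' M hM' hM ▸ hVM'


end Cfsg.Agent.S0540
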