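import Cfsg.Statements.S0541
import Cfsg.Agent.EqLemmas
import Cfsg.Agent.Lib.Solvable.Basic

set_option autoImplicit false
open Pointwise
open Cfsg
open scoped Pointwise

namespace Cfsg.Agent.S0541

/-- The subgroup generated by the conjugates of `Z` contained in `H`. -/
def wcl {G : Type*} [Group G] (Z H : Subgroup G) : Subgroup G :=
  ⨆ g ∈ {g : G | MulAut.conj g • Z ≤ H}, MulAut.conj g • Z

/-- Let Z and Y be subgroups of a finite group G and p a prime. Suppose that for every g in G the subgroup generated by the conjugates of g Z g⁻¹ under Y is a p-group. Then there is a Sylow p-subgroup P of G such that Y normalizes the subgroup generated by all conjugates of Z contained in P. -/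
theorem result {G : Type*} [Group G] [Finite G] (p : ℕ) [Fact p.Prime] (Z Y : Subgroup G) (h : ∀ g : G, IsPGroup p ↥(⨆ y ∈ Y, MulAut.conj (y * g) • Z)) : ∃ P : Sylow p G, Y ≤ Subgroup.normalizer ((⨆ g ∈ {g : G | MulAut.conj g • Z ≤ (P : Subgroup G)}, MulAut.conj g • Z : Subgroup G) : Set G) := by
  classical
  have Cle : ∀ H : Subgroup G, wcl Z H ≤ H := fun H => iSup₂_le fun g hg => hg
  have Cmono : ∀ {H K : Subgroup G}, H ≤ K → wcl Z H ≤ wcl Z K := fun hHK =>
    iSup₂_le fun g hg => le_iSup₂ (f := fun g (_ : g ∈ {g : G | MulAut.conj g • Z ≤ _}) => MulAut.conj g • Z)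
      g (le_trans hg hHK)
  let Good : Subgroup G → Prop := fun D =>
    IsPGroup p D ∧ Y ≤ Subgroup.normalizer (D : Set G) ∧ wcl Z D = D
  have hbot : Good ⊥ := ⟨IsPGroup.of_bot, fun y _ => by
    rw [Subgroup.normalizer_eq_top]; trivial, le_bot_iff.1 (Cle ⊥)⟩
  obtain ⟨D, hD⟩ := (Set.toFinite {D : Subgroup G | Good D}).exists_maximal ⟨⊥, hbot⟩
  obtain ⟨hDp, hDY, hDC⟩ := hD.1
  obtain ⟨P, hDP⟩ := hDp.exists_le_sylow
  refine ⟨P, ?_⟩
  change Y ≤ Subgroup.normalizer ((wcl Z P : Subgroup G) : Set G)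
  suffices wcl Z (P : Subgroup G) = D by rwa [this]
  by_cases hout : ∃ g : G, MulAut.conj g • Z ≤ (P : Subgroup G) ⊓ Subgroup.normalizer (D : Set G) ∧
      ¬ MulAut.conj g • Z ≤ D
  · exfalso
    obtain ⟨g, hg, hgD⟩ := hout
    set W := ⨆ y ∈ Y, MulAut.conj (y * g) • Z with hW
    have hWN : W ≤ Subgroup.normalizer (D : Set G) := iSup₂_le fun y hy => by
      rw [map_mul, mul_smul, Subgroup.pointwise_smul_subset_iff,
        ← map_inv, Subgroup.conj_smul_eq_self_of_mem ((Subgroup.normalizer _).inv_mem (hDY hy))]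
      exact le_trans hg inf_le_right
    have hp' : IsPGroup p ↥(W ⊔ D) := IsPGroup.to_sup_of_normal_right' (h g) hDp hWN
    have hWY : Y ≤ Subgroup.normalizer (W : Set G) := by
      intro y hy
      rw [Solvable.mem_normalizer_iff_conj]
      refine Subgroup.eq_of_le_of_card_ge ?_ (Solvable.card_conj y W).ge
      rw [Subgroup.pointwise_smul_subset_iff, hW]
      refine iSup₂_le fun y' hy' => ?_
      rw [← Subgroup.pointwise_smul_subset_iff, ← mul_smul, ← map_mul, ← mul_assoc]
      exact le_iSup₂ (f := fun y (_ : y ∈ Y) => MulAut.conj (y * g) • Z) (y * y') (Y.mul_mem hy hy')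
    have hgood : Good (W ⊔ D) := by
      refine ⟨hp', fun y hy => ?_, le_antisymm (Cle _) (sup_le (iSup₂_le fun y hy => ?_) ?_)⟩
      · rw [Solvable.mem_normalizer_iff_conj, Subgroup.smul_sup,
          Solvable.mem_normalizer_iff_conj.1 (hWY hy), Solvable.mem_normalizer_iff_conj.1 (hDY hy)]
      · exact le_iSup₂ (f := fun g' (_ : g' ∈ {g' : G | MulAut.conj g' • Z ≤ W ⊔ D}) => MulAut.conj g' • Z)
          (y * g) (le_trans (le_iSup₂ (f := fun y (_ : y ∈ Y) => MulAut.conj (y * g) • Z) y hy) le_sup_left)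
      · calc D = wcl Z D := hDC.symm
          _ ≤ wcl Z (W ⊔ D) := Cmono le_sup_right
    have hle : W ⊔ D ≤ D := hD.2 hgood le_sup_right
    refine hgD (le_trans ?_ (le_trans le_sup_left hle))
    have h1 := le_iSup₂ (f := fun y (_ : y ∈ Y) => MulAut.conj (y * g) • Z) 1 Y.one_mem
    simpa [hW] using h1
  · push Not at hout
    set M := (P : Subgroup G) ⊓ Subgroup.normalizer (D : Set G) with hM
    have hMC : wcl Z M = D := le_antisymm (iSup₂_le fun g hg => hout g hg) (by
      calc D = wcl Z D := hDC.symm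
        _ ≤ wcl Z M := Cmono (le_inf hDP Subgroup.le_normalizer))
    suffices hMP : M = (P : Subgroup G) by rw [← hMP]; exact hMC
    by_contra hne
    have hlt : M < (P : Subgroup G) := lt_of_le_of_ne inf_le_left hne
    haveI : Group.IsNilpotent (P : Subgroup G) := P.isPGroup'.isNilpotent
    have h2 : M.subgroupOf P < Subgroup.normalizer ((M.subgroupOf P) : Set (P : Subgroup G)) :=
      Group.normalizerCondition_of_isNilpotent _ (lt_top_iff_ne_top.2 (fun e => by
        rw [Subgroup.subgroupOf_eq_top] at e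
        exact hlt.not_ge e))
    obtain ⟨x, hx, hxM⟩ := SetLike.exists_of_lt h2
    rw [← Subgroup.subgroupOf_normalizer_eq inf_le_left, Subgroup.mem_subgroupOf] at hx
    refine hxM (Subgroup.mem_subgroupOf.2 ⟨x.2, ?_⟩)
    show (x : G) ∈ Subgroup.normalizer (D : Set G)
    rw [Solvable.mem_normalizer_iff_conj] at hx ⊢
    refine Subgroup.eq_of_le_of_card_ge ?_ (Solvable.card_conj _ D).ge
    rw [← hMC, Subgroup.pointwise_smul_subset_iff]
    refine iSup₂_le fun g hg => ?_
    rw [← Subgroup.pointwise_smul_subset_iff, ← mul_smul, ← map_mul]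
    refine le_iSup₂ (f := fun g' (_ : g' ∈ {g' : G | MulAut.conj g' • Z ≤ M}) => MulAut.conj g' • Z)
      ((x : G) * g) ?_
    show MulAut.conj ((x : G) * g) • Z ≤ M
    conv_rhs => rw [hM, ← hx]
    rw [map_mul, mul_smul]
    exact Solvable.conj_mono _ hg

end Cfsg.Agent.S0541
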