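import Cfsg.Statements.S0550
import Cfsg.Agent.Lib.Cores.CoreFree

set_option autoImplicit false
open Cfsg
open scoped Pointwise

namespace Cfsg.Agent.S0550

/-- Let U be a maximal subgroup with trivial normal core in a finite group G, and A ≠ B two minimal normal subgroups. Then A is the centralizer of B and B that of A, U complements each of them, A and B are non-abelian, and A, B and (A ⊔ B) ∩ U are pairwise isomorphic. -/
theorem result {G : Type*} [Group G] [Finite G] (U : Subgroup G) (hU : IsCoatom U) (hcore : U.normalCore = ⊥) (A B : Subgroup G) [A.Normal] [B.Normal] (hA : A ≠ ⊥) (hB : B ≠ ⊥) (hAmin : ∀ K : Subgroup G, K.Normal → K ≤ A → K = ⊥ ∨ K = A) (hBmin : ∀ K : Subgroup G, K.Normal → K ≤ B → K = ⊥ ∨ K = B) (hAB : A ≠ B) : Subgroup.centralizer (B : Set G) = A ∧ Subgroup.centralizer (A : Set G) = B ∧ Subgroup.IsComplement' A U ∧ Subgroup.IsComplement' B U ∧ ¬ IsMulCommutative A ∧ Nonempty (A ≃* B) ∧ Nonempty (A ≃* ↥((A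 ⊔ B) ⊓ U)) := by
  obtain ⟨hinf, hCB, hCA⟩ :=
    Cfsg.Agent.Cores.minimalNormal_pair_of_coreFree hU hcore A B hA hB hAmin hBmin hAB
  have hAU : A ⊓ U = ⊥ :=
    hCB ▸ Cfsg.Agent.Cores.centralizer_inf_eq_bot_of_coreFree hU hcore B hB
  have hBU : B ⊓ U = ⊥ :=
    hCA ▸ Cfsg.Agent.Cores.centralizer_inf_eq_bot_of_coreFree hU hcore A hA
  have hna : ¬ IsMulCommutative A := by
    intro h
    have : A ≤ B := hCA ▸ Subgroup.le_centralizer A
    exact hA (le_bot_iff.mp ((le_inf le_rfl this).trans hinf.le))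
  -- the projection along a normal complement gives the isomorphisms
  have key : ∀ (X Y : Subgroup G) [X.Normal], U ⊔ X = ⊤ → X ⊓ U = ⊥ → X ⊓ Y = ⊥ →
      Nonempty (↥((X ⊔ Y) ⊓ U) ≃* Y) := by
    intro X Y _ hXU hXU' hXY
    have inj : ∀ D : Subgroup G, X ⊓ D = ⊥ → Function.Injective ((QuotientGroup.mk' X).subgroupMap D) := by
      intro D hD
      rw [← MonoidHom.ker_eq_bot_iff, eq_bot_iff]
      intro a ha
      have ha' : (a : G) ∈ X := (QuotientGroup.eq_one_iff _).mp (congrArg Subtype.val ha)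
      exact Subtype.ext (Subgroup.mem_bot.mp (hD ▸ ⟨ha', a.2⟩))
    have e1 := MulEquiv.ofBijective _ ⟨inj Y hXY, (QuotientGroup.mk' X).subgroupMap_surjective Y⟩
    have hD : X ⊓ ((X ⊔ Y) ⊓ U) = ⊥ := le_bot_iff.mp (le_trans
      (le_inf inf_le_left (inf_le_right.trans inf_le_right)) hXU'.le)
    have e2 := MulEquiv.ofBijective _
      ⟨inj _ hD, (QuotientGroup.mk' X).subgroupMap_surjective ((X ⊔ Y) ⊓ U)⟩
    have heq : ((X ⊔ Y) ⊓ U).map (QuotientGroup.mk' X) = Y.map (QuotientGroup.mk' X) := by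
      refine le_antisymm ?_ ?_
      · rintro _ ⟨d, hd, rfl⟩
        have : d ∈ (X : Set G) * (Y : Set G) := by
          rw [← Subgroup.normal_mul]; exact hd.1
        obtain ⟨x, hx, y, hy, rfl⟩ := this
        exact ⟨y, hy, by simp [QuotientGroup.eq_one_iff x |>.mpr hx]⟩
      · rintro _ ⟨y, hy, rfl⟩
        have : y ∈ (X : Set G) * (U : Set G) := by
          rw [← Subgroup.normal_mul, sup_comm, hXU]; trivial
        obtain ⟨x, hx, u, hu, rfl⟩ := this
        refine ⟨u, ⟨?_, hu⟩, by simp [QuotientGroup.eq_one_iff x |>.mpr hx]⟩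
        have := (X ⊔ Y).mul_mem ((X ⊔ Y).inv_mem (Subgroup.mem_sup_left hx))
          (Subgroup.mem_sup_right hy)
        simpa using this
    exact ⟨e2.trans ((MulEquiv.subgroupCongr heq).trans e1.symm)⟩
  obtain ⟨f1⟩ := key A B (Cfsg.Agent.Cores.sup_eq_top_of_coreFree hU hcore A hA) hAU hinf
  obtain ⟨f2⟩ := key B A (Cfsg.Agent.Cores.sup_eq_top_of_coreFree hU hcore B hB) hBU
    (inf_comm A B ▸ hinf)
  have f3 : ↥((A ⊔ B) ⊓ U) ≃* A :=
    (MulEquiv.subgroupCongr (by rw [sup_comm])).trans f2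
  exact ⟨hCB, hCA,
    Cfsg.Agent.Cores.eq_bot_of_inf_eq_bot_of_sup hAU (Cfsg.Agent.Cores.sup_eq_top_of_coreFree hU hcore A hA),
    Cfsg.Agent.Cores.eq_bot_of_inf_eq_bot_of_sup hBU (Cfsg.Agent.Cores.sup_eq_top_of_coreFree hU hcore B hB),
    hna, ⟨f3.symm.trans f1⟩, ⟨f3.symm⟩⟩

end Cfsg.Agent.S0550
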