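import Cfsg.Statements.S0551
import Cfsg.Agent.EqLemmas
import Cfsg.Agent.Lib.Solvable.Basic
import Cfsg.Agent.Lib.PGroup.Basic

set_option autoImplicit false
open Pointwise
open Cfsg

namespace Cfsg.Agent.S0551

/-- In a finite solvable group all core-free maximal subgroups are conjugate. -/
theorem result {G : Type*} [Group G] [Finite G] [Group.IsSolvable G] (U V : Subgroup G) (hU : IsCoatom U) (hV : IsCoatom V) (hUc : U.normalCore = ⊥) (hVc : V.normalCore = ⊥) : ∃ g : G, MulAut.conj g • U = V := by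
  have : Nontrivial G := by
    refine not_subsingleton_iff_nontrivial.1 fun _ => hU.1 ?_
    exact Subsingleton.elim _ _
  obtain ⟨p, hp, N, hN, hN0, -, hNc, hNp, -, hmin⟩ :=
    Solvable.exists_minimal_normal_pGroup (N := (⊤ : Subgroup G)) top_ne_bot
  have := Fact.mk hp
  have hNC : N ≤ Subgroup.centralizer (N : Set G) := fun x hx =>
    Subgroup.mem_centralizer_iff.2 fun y hy =>
      congrArg Subtype.val (hNc.is_comm.comm ⟨y, hy⟩ ⟨x, hx⟩)
  -- facts about a core-free maximal subgroup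
  have facts : ∀ W : Subgroup G, IsCoatom W → W.normalCore = ⊥ →
      W ⊓ N = ⊥ ∧ W ⊔ N = ⊤ ∧ Subgroup.centralizer (N : Set G) = N := by
    intro W hW hWc
    have hNW : ¬ N ≤ W := fun h => hN0 (le_bot_iff.1 (hWc ▸ (Subgroup.normal_le_normalCore).2 h))
    have htop : W ⊔ N = ⊤ := hW.2 _ (left_lt_sup.2 hNW)
    have hdec : ∀ g : G, ∃ w ∈ W, ∃ n ∈ N, g = w * n := by
      intro g
      obtain ⟨w, hw, n, hn, h⟩ := Subgroup.mem_sup_of_normal_right.1 (htop ▸ Subgroup.mem_top g)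
      exact ⟨w, hw, n, hn, h.symm⟩
    have key : ∀ T : Subgroup G, T ≤ W → T ≤ Subgroup.centralizer (N : Set G) →
        (∀ w ∈ W, ∀ x ∈ T, w * x * w⁻¹ ∈ T) → T = ⊥ := by
      intro T hTW hTC hconj
      have : T.Normal := ⟨fun x hx g => by
        obtain ⟨w, hw, n, hn, rfl⟩ := hdec g
        have e : n * x * n⁻¹ = x := by
          rw [Subgroup.mem_centralizer_iff.1 (hTC hx) n hn, mul_inv_cancel_right]
        have e2 : w * n * x * (w * n)⁻¹ = w * (n * x * n⁻¹) * w⁻¹ := by group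
        rw [e2, e]
        exact hconj w hw x hx⟩
      exact le_bot_iff.1 (hWc ▸ (Subgroup.normal_le_normalCore).2 hTW)
    have h1 : W ⊓ N = ⊥ := key _ inf_le_left (inf_le_right.trans hNC) fun w hw x hx =>
      ⟨W.mul_mem (W.mul_mem hw hx.1) (W.inv_mem hw), hN.conj_mem x hx.2 w⟩
    have h2 : W ⊓ Subgroup.centralizer (N : Set G) = ⊥ := key _ inf_le_left inf_le_right
      fun w hw x hx => ⟨W.mul_mem (W.mul_mem hw hx.1) (W.inv_mem hw),
        Subgroup.Normal.conj_mem inferInstance x hx.2 w⟩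
    refine ⟨h1, htop, le_antisymm (fun x hx => ?_) hNC⟩
    obtain ⟨w, hw, n, hn, rfl⟩ := hdec x
    have hw' : w ∈ W ⊓ Subgroup.centralizer (N : Set G) := by
      refine ⟨hw, ?_⟩
      have := mul_mem hx (inv_mem (hNC hn))
      simpa using this
    rw [h2, Subgroup.mem_bot] at hw'
    rw [hw', one_mul]
    exact hn
  obtain ⟨hU1, hU2, hC⟩ := facts U hU hUc
  obtain ⟨hV1, hV2, -⟩ := facts V hV hVc
  by_cases hNt : N = ⊤
  · refine ⟨1, ?_⟩
    subst hNt
    rw [inf_top_eq] at hU1 hV1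
    rw [hU1, hV1, map_one, one_smul]
  have : Nontrivial (G ⧸ N) := QuotientGroup.nontrivial_iff.2 hNt
  obtain ⟨q, hq, B, hB, hB0, hBq⟩ := Solvable.exists_normal_pGroup_ne_bot (G ⧸ N)
  have := Fact.mk hq
  let f := QuotientGroup.mk' N
  have hf : f.ker = N := QuotientGroup.ker_mk' N
  have hfs : Function.Surjective f := QuotientGroup.mk'_surjective N
  let M := B.comap f
  have hMn : M.Normal := hB.comap f
  have hNM : N ≤ M := by
    rw [← hf, ← MonoidHom.comap_bot]
    exact Subgroup.comap_mono bot_le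
  have hMcard : Nat.card M = Nat.card B * Nat.card N := by
    have := Solvable.card_eq_card_map_mul f M
    rwa [hf, inf_eq_right.2 hNM, Subgroup.map_comap_eq_self_of_surjective hfs B] at this
  obtain ⟨k, hk⟩ := IsPGroup.iff_card.1 hBq
  obtain ⟨l, hl⟩ := IsPGroup.iff_card.1 hNp
  have hk0 : k ≠ 0 := by
    rintro rfl
    exact hB0 (Subgroup.eq_bot_of_card_eq _ (by rw [hk, pow_zero]))
  have hpq : q ≠ p := by
    rintro rfl
    have hMp : IsPGroup q M := IsPGroup.of_card (n := k + l) (by rw [hMcard, hk, hl, pow_add])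
    have hne : N.subgroupOf M ≠ ⊥ := by
      rw [Ne, Subgroup.subgroupOf_eq_bot, disjoint_iff, inf_eq_left.2 hNM]
      exact hN0
    have hz := PGroup.inf_center_ne_bot hMp hne
    -- `N ⊓ Z(M)` is normal in `G`, and centralised by `M`
    let T : Subgroup G := (N ⊓ Subgroup.centralizer (M : Set G))
    have hT : T ≠ ⊥ := by
      intro hT
      refine hz (eq_bot_iff.2 fun x hx => ?_)
      have : (x : G) ∈ T := ⟨hx.1, Subgroup.mem_centralizer_iff.2 fun y hy =>
        congrArg Subtype.val (Subgroup.mem_center_iff.1 hx.2 ⟨y, hy⟩)⟩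
      rw [hT, Subgroup.mem_bot] at this
      exact Subgroup.mem_bot.2 (Subtype.ext this)
    have hTn : T.Normal := inferInstance
    have hNT : N ≤ T := ((hmin T hTn inf_le_left).resolve_left hT).ge
    have hMN : M ≤ N := fun x hx => hC ▸ Subgroup.mem_centralizer_iff.2 fun y hy =>
      (Subgroup.mem_centralizer_iff.1 (hNT hy).2 x hx).symm
    have : Nat.card M = Nat.card N := by rw [le_antisymm hMN hNM]
    rw [hMcard, hk, hl] at this
    have h1 : q ^ k = 1 := (Nat.mul_eq_right (pow_ne_zero _ hq.ne_zero)).1 this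
    exact hk0 ((Nat.pow_eq_one.1 h1).resolve_left hq.ne_one)
  have hWM : ∀ W : Subgroup G, W ⊓ N = ⊥ → W ⊔ N = ⊤ → Nat.card (W ⊓ M : Subgroup G) = q ^ k := by
    intro W h1 h2
    have hsup : (W ⊓ M) ⊔ N = M := by
      refine le_antisymm (sup_le inf_le_right hNM) fun x hx => ?_
      obtain ⟨w, hw, n, hn, rfl⟩ := Subgroup.mem_sup_of_normal_right.1 (h2 ▸ Subgroup.mem_top x)
      refine mul_mem (Subgroup.mem_sup_left ⟨hw, ?_⟩) (Subgroup.mem_sup_right hn)
      simpa using mul_mem hx (inv_mem (hNM hn))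
    have := Solvable.card_sup_of_disjoint (W ⊓ M) N
      (le_bot_iff.1 ((inf_le_inf_right N inf_le_left).trans h1.le))
    rw [hsup, hMcard, hk] at this
    exact (Nat.eq_of_mul_eq_mul_right Nat.card_pos this).symm
  have hv : (Nat.card M).factorization q = k := by
    rw [hMcard, hk, hl, Nat.factorization_mul (pow_ne_zero _ hq.ne_zero) (pow_ne_zero _ hp.ne_zero),
      Finsupp.add_apply, hq.factorization_pow, hp.factorization_pow, Finsupp.single_eq_same,
      Finsupp.single_eq_of_ne hpq, add_zero]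
  have syl : ∀ W : Subgroup G, W ⊓ N = ⊥ → W ⊔ N = ⊤ →
      ∃ S : Sylow q M, (S : Subgroup M) = W.subgroupOf M := fun W h1 h2 =>
    ⟨Sylow.ofCard (W.subgroupOf M) (by
      rw [← Subgroup.inf_subgroupOf_right,
        Nat.card_congr (Subgroup.subgroupOfEquivOfLe inf_le_right).toEquiv, hWM W h1 h2, hv]), rfl⟩
  obtain ⟨S, hS⟩ := syl U hU1 hU2
  obtain ⟨S', hS'⟩ := syl V hV1 hV2
  obtain ⟨m, hm⟩ := MulAction.exists_smul_eq M S S'
  refine ⟨m, ?_⟩
  have key : ∀ W : Subgroup G, IsCoatom W → W.normalCore = ⊥ → W ⊓ N = ⊥ → W ⊔ N = ⊤ →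
      Subgroup.normalizer ((W ⊓ M : Subgroup G) : Set G) = W := by
    intro W hW hWc h1 h2
    refine (hW.le_iff.1 ?_).resolve_left fun htop => ?_
    · intro w hw
      refine Subgroup.mem_normalizer_iff.2 fun x => ?_
      have hMmem : x ∈ M ↔ w * x * w⁻¹ ∈ M := ⟨fun h => hMn.conj_mem x h w, fun h => by
        simpa [mul_assoc] using hMn.conj_mem _ h w⁻¹⟩
      have hWmem : x ∈ W ↔ w * x * w⁻¹ ∈ W := ⟨fun h => mul_mem (mul_mem hw h) (inv_mem hw),
        fun h => by simpa [mul_assoc] using mul_mem (mul_mem (inv_mem hw) h) hw⟩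
      exact and_congr hWmem hMmem
    · have hn : (W ⊓ M).Normal := Subgroup.normalizer_eq_top_iff.1 htop
      have h0 : W ⊓ M = ⊥ := le_bot_iff.1 (hWc ▸ (Subgroup.normal_le_normalCore).2 inf_le_left)
      have hc := hWM W h1 h2
      rw [h0, Subgroup.card_bot] at hc
      exact hk0 ((Nat.pow_eq_one.1 hc.symm).resolve_left hq.ne_one)
  have hconj : MulAut.conj (m : G) • (U ⊓ M) = V ⊓ M := by
    have h' := congrArg (fun T : Sylow q M => (T : Subgroup M)) hm
    simp only [Sylow.coe_subgroup_smul, hS, hS'] at h'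
    have h'' := congrArg (Subgroup.map M.subtype) h'
    rw [Subgroup.subgroupOf_map_subtype] at h''
    rw [← h'']
    ext x
    constructor
    · rintro ⟨y, hy, rfl⟩
      exact ⟨m * ⟨y, hy.2⟩ * m⁻¹, ⟨⟨y, hy.2⟩, hy.1, rfl⟩, rfl⟩
    · rintro ⟨z, ⟨y, hy, rfl⟩, rfl⟩
      exact ⟨y, ⟨hy, y.2⟩, rfl⟩
  rw [← key U hU hUc hU1 hU2, ← key V hV hVc hV1 hV2, ← hconj]
  exact Subgroup.map_equiv_normalizer_eq (U ⊓ M) (MulAut.conj (m : G))

end Cfsg.Agent.S0551
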