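import Cfsg.Statements.S0552
import Cfsg.Agent.Lib.Solvable.Fitting

set_option autoImplicit false
open Cfsg

namespace Cfsg.Agent.S0552

/-- Let σ be an automorphism of a finite solvable group G fixing every element of the Fitting subgroup. If σ is not the identity then the order of σ and the order of G have a common prime factor. -/
theorem result {G : Type*} [Group G] [Finite G] [Group.IsSolvable G] (σ : G ≃* G) (hσ : ∀ x ∈ Cfsg.fittingSubgroup G, σ x = x) (hne : σ ≠ MulEquiv.refl G) : ¬ (orderOf σ).Coprime (Nat.card G) := by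
  intro hcop
  apply hne
  ext g
  have hfix : ∀ n : ℕ, ∀ x ∈ Cfsg.fittingSubgroup G, (σ ^ n) x = x := fun n => by
    induction n with
    | zero => simp
    | succ n ih => intro x hx; rw [pow_succ, MulAut.mul_apply, hσ x hx, ih x hx]
  have hn : (Cfsg.fittingSubgroup G).Normal := Subgroup.sSup_normal _ fun _ h => h.1
  have hz : g⁻¹ * σ g ∈ Cfsg.fittingSubgroup G := by
    apply Cfsg.Agent.Solvable.centralizer_fitting_le G
    intro f hf
    have h1 : σ (g * f * g⁻¹) = g * f * g⁻¹ := hσ _ (hn.conj_mem f hf g)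
    rw [map_mul, map_mul, hσ f hf, map_inv] at h1
    calc f * (g⁻¹ * σ g) = g⁻¹ * (g * f * g⁻¹) * σ g := by group
      _ = g⁻¹ * (σ g * f * (σ g)⁻¹) * σ g := by rw [h1]
      _ = g⁻¹ * σ g * f := by group
  set z := g⁻¹ * σ g with hzdef
  have hpow : ∀ n : ℕ, (σ ^ n) g = g * z ^ n := by
    intro n
    induction n with
    | zero => simp
    | succ n ih =>
      rw [pow_succ', MulAut.mul_apply, ih, map_mul, hσ _ (pow_mem hz n), pow_succ',
        show σ g = g * z by simp [hzdef], mul_assoc]
  have h1 : z ^ orderOf σ = 1 := by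
    have := hpow (orderOf σ)
    rw [pow_orderOf_eq_one, MulAut.one_apply] at this
    simpa using this.symm
  have h2 : z ^ Nat.card G = 1 := pow_card_eq_one'
  have hz1 : z = 1 := by
    rw [← pow_one z, ← hcop.gcd_eq_one]; exact pow_gcd_eq_one.mpr ⟨h1, h2⟩
  simpa [show σ g = g * z by simp [hzdef]] using hz1

end Cfsg.Agent.S0552
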