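import Cfsg.Statements.S0553
import Cfsg.Agent.EqLemmas
import Cfsg.Agent.Lib.Solvable.Basic

set_option autoImplicit false
open Cfsg

namespace Cfsg.Agent.S0553

theorem aux.{u} (n : ℕ) : ∀ (G : Type u) [Group G] [Finite G] [Group.IsSolvable G] [Nontrivial G],
    Nat.card G ≤ n → (∀ M : Subgroup G, IsCoatom M → (Nat.card M).Coprime M.index) →
    ∃ p : ℕ, p.Prime ∧ p ∣ Nat.card G ∧ ∃ P : Sylow p G, (P : Subgroup G).Normal := by
  induction n with
  | zero => intro G _ _ _ _ hn _; have := Nat.card_pos (α := G); omega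
  | succ n ih =>
    intro G _ _ _ _ hn h
    obtain ⟨p, hp, N, hN, hN1, hNp⟩ := Cfsg.Agent.Solvable.exists_normal_pGroup_ne_bot G
    haveI := Fact.mk hp
    haveI := hN
    have hpG : p ∣ Nat.card G := by
      obtain ⟨m, hm⟩ := IsPGroup.iff_card.1 hNp
      refine Dvd.dvd.trans ?_ N.card_subgroup_dvd_card
      rw [hm]
      exact dvd_pow_self p (fun e => hN1 (Subgroup.eq_bot_of_card_eq N (by rw [hm, e, pow_zero])))
    by_cases hall : ∀ M : Subgroup G, IsCoatom M → N ≤ M
    · have hNt : N ≠ ⊤ := by
        rintro rfl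
        obtain ⟨M, hM, -⟩ := (eq_top_or_exists_le_coatom (⊥ : Subgroup G)).resolve_left bot_ne_top
        exact hM.1 (top_le_iff.1 (hall M hM))
      have hNF : N ≤ frattini G := le_iInf fun M => le_iInf fun hM => hall M hM
      haveI : Nontrivial (G ⧸ N) := QuotientGroup.nontrivial_iff.2 hNt
      have hsurj := QuotientGroup.mk'_surjective N
      obtain ⟨q, hq, hqd, Q, hQ⟩ := ih (G ⧸ N)
        (by have := Cfsg.Agent.Solvable.card_quotient_lt hN1; omega) (fun M hM => by
          have hM' : IsCoatom (M.comap (QuotientGroup.mk' N)) :=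
            Subgroup.isCoatom_comap_of_surjective hsurj hM
          have h2 := h _ hM'
          rw [Subgroup.index_comap_of_surjective M hsurj] at h2
          refine Nat.Coprime.coprime_dvd_left ?_ h2
          have h3 := Subgroup.card_map_dvd (f := QuotientGroup.mk' N) (H := M.comap (QuotientGroup.mk' N))
          rwa [Subgroup.map_comap_eq_self_of_surjective hsurj] at h3)
      haveI := Fact.mk hq
      haveI := Sylow.unique_of_normal Q hQ
      obtain ⟨P, hP⟩ := Sylow.mapSurjective_surjective hsurj q Q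
      have hPN : ((P : Subgroup G) ⊔ N) = (Q : Subgroup (G ⧸ N)).comap (QuotientGroup.mk' N) := by
        rw [← hP, Sylow.coe_mapSurjective, Subgroup.comap_map_eq, QuotientGroup.ker_mk']
      haveI : ((P : Subgroup G) ⊔ N).Normal := by rw [hPN]; exact hQ.comap _
      have htop : Subgroup.normalizer ((P : Subgroup G) : Set G) ⊔ ((P : Subgroup G) ⊔ N) = ⊤ :=
        Sylow.normalizer_sup_eq_top' P le_sup_left
      rw [← sup_assoc, sup_eq_left.2 (Subgroup.le_normalizer : (P : Subgroup G) ≤ _)] at htop
      have : Subgroup.normalizer ((P : Subgroup G) : Set G) = ⊤ := by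
        refine frattini_nongenerating (eq_top_iff.2 ?_)
        rw [← htop]
        exact sup_le_sup_left hNF _
      exact ⟨q, hq, hqd.trans (Subgroup.card_quotient_dvd_card N), P,
        Subgroup.normalizer_eq_top_iff.1 this⟩
    · push Not at hall
      obtain ⟨M, hM, hNM⟩ := hall
      have htop : M ⊔ N = ⊤ := hM.2 _ (left_lt_sup.2 hNM)
      have hcard := Cfsg.Agent.Solvable.card_sup_mul_card_inf M N
      rw [htop, Subgroup.card_top, ← M.card_mul_index, mul_assoc] at hcard
      have h3 : M.index * Nat.card ↥(M ⊓ N) = Nat.card N := Nat.eq_of_mul_eq_mul_left Nat.card_pos hcard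
      obtain ⟨m, hm⟩ := IsPGroup.iff_card.1 hNp
      have hidx : p ∣ M.index := by
        obtain ⟨k, -, hk⟩ := (Nat.dvd_prime_pow hp).1 (hm ▸ Dvd.intro _ h3)
        rw [hk]
        refine dvd_pow_self p (fun e => hM.1 (Subgroup.index_eq_one.1 ?_))
        rw [hk, e, pow_zero]
      have hMp : ¬ p ∣ Nat.card M := fun hd =>
        Nat.not_coprime_of_dvd_of_dvd hp.one_lt hd hidx (h M hM)
      have hinf : Nat.card ↥(M ⊓ N) = 1 := by
        obtain ⟨k, -, hk⟩ := (Nat.dvd_prime_pow hp).1 (hm ▸ Dvd.intro_left _ h3)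
        rcases Nat.eq_zero_or_pos k with e | e
        · rw [hk, e, pow_zero]
        · exact absurd ((hk ▸ dvd_pow_self p e.ne').trans (Subgroup.card_dvd_of_le inf_le_left)) hMp
      rw [hinf, mul_one] at h3
      have hNi : ¬ p ∣ N.index := by
        have h4 := N.card_mul_index
        rw [← M.card_mul_index, h3, mul_comm (Nat.card M)] at h4
        rw [Nat.eq_of_mul_eq_mul_left Nat.card_pos h4]
        exact hMp
      refine ⟨p, hp, hpG, hNp.toSylow hNi, ?_⟩
      rw [IsPGroup.toSylow_coe]
      exact hN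

/-- Let G be a nontrivial finite solvable group in which every maximal subgroup has order coprime to its index. Then for some prime p dividing the order of G the Sylow p-subgroups of G are normal. -/
theorem result {G : Type*} [Group G] [Finite G] [Group.IsSolvable G] [Nontrivial G] (h : ∀ M : Subgroup G, IsCoatom M → (Nat.card M).Coprime M.index) : ∃ p : ℕ, p.Prime ∧ p ∣ Nat.card G ∧ ∀ P : Sylow p G, (P : Subgroup G).Normal := by
  obtain ⟨p, hp, hd, P, hP⟩ := aux (Nat.card G) G le_rfl h
  haveI := Fact.mk hp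
  haveI := Sylow.unique_of_normal P hP
  exact ⟨p, hp, hd, fun Q => by rw [Subsingleton.elim Q P]; exact hP⟩

end Cfsg.Agent.S0553
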