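import Cfsg.Statements.S0554
import Cfsg.Agent.EqLemmas
import Cfsg.Agent.Lib.Solvable.Basic

set_option autoImplicit false
open Cfsg

namespace Cfsg.Agent.S0554

/-- A factor in a normal subgroup can be moved into any slot of a product. -/
theorem exists_move {G : Type*} [Group G] (N : Subgroup G) [N.Normal] :
    ∀ (t : ℕ) (s : Fin t → G) (n : G), n ∈ N → ∀ j : Fin t, ∃ s' : Fin t → G,
      (∀ i, i ≠ j → s' i = s i) ∧ (∃ m ∈ N, s' j = s j * m) ∧
      (List.ofFn s').prod = (List.ofFn s).prod * n := by
  intro t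
  induction t with
  | zero => exact fun _ _ _ j => j.elim0
  | succ t ih =>
    intro s n hn j
    induction j using Fin.cases with
    | zero =>
      let P := (List.ofFn fun i : Fin t => s i.succ).prod
      refine ⟨Fin.cons (s 0 * (P * n * P⁻¹)) fun i => s i.succ, fun i hi => ?_,
        ⟨_, ‹N.Normal›.conj_mem n hn P, Fin.cons_zero _ _⟩, ?_⟩
      · induction i using Fin.cases with
        | zero => exact absurd rfl hi
        | succ i => rw [Fin.cons_succ]
      · simp only [List.ofFn_succ, List.prod_cons, Fin.cons_zero, Fin.cons_succ, P]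
        group
    | succ j =>
      obtain ⟨s', h1, ⟨m, hm, h2⟩, h3⟩ := ih (fun i => s i.succ) n hn j
      refine ⟨Fin.cons (s 0) s', fun i hi => ?_, ⟨m, hm, by rw [Fin.cons_succ, h2]⟩, ?_⟩
      · induction i using Fin.cases with
        | zero => rw [Fin.cons_zero]
        | succ i =>
          rw [Fin.cons_succ]
          exact h1 i fun h => hi (by rw [h])
      · simp only [List.ofFn_succ, List.prod_cons, Fin.cons_zero, Fin.cons_succ]
        rw [h3, mul_assoc]

universe u

theorem aux (n : ℕ) : ∀ {G : Type u} [Group G] [Finite G] [Group.IsSolvable G],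
    Nat.card G = n → ∀ (t : ℕ) (p : Fin t → ℕ), (∀ i, (p i).Prime) →
    (∀ q : ℕ, q.Prime → q ∣ Nat.card G → ∃ i, p i = q) → ∀ S : (i : Fin t) → Sylow (p i) G,
    ∀ g : G, ∃ s : (i : Fin t) → G, (∀ i, s i ∈ (S i : Subgroup G)) ∧ g = (List.ofFn s).prod := by
  induction n using Nat.strongRecOn with
  | _ c ih =>
    intro G _ _ _ hc t p hp hall S g
    subst hc
    rcases subsingleton_or_nontrivial G with hG | hG
    · exact ⟨fun _ => 1, fun i => one_mem _, Subsingleton.elim _ _⟩
    obtain ⟨q, hq, N, hN, hN0, hNq⟩ := Solvable.exists_normal_pGroup_ne_bot G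
    haveI := hN
    haveI := Fact.mk hq
    have hqG : q ∣ Nat.card G := by
      obtain ⟨k, hk⟩ := IsPGroup.iff_card.1 hNq
      refine dvd_trans ?_ (Subgroup.card_subgroup_dvd_card N)
      rw [hk]
      refine dvd_pow_self q ?_
      rintro rfl
      rw [pow_zero] at hk
      exact hN0 (Subgroup.eq_bot_of_card_eq _ hk)
    obtain ⟨j, rfl⟩ := hall q hq hqG
    have hNS : N ≤ (S j : Subgroup G) := by
      obtain ⟨T, hT⟩ := hNq.exists_le_sylow
      obtain ⟨a, ha⟩ := MulAction.exists_smul_eq G T (S j)
      intro x hx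
      rw [← ha, Sylow.coe_subgroup_smul, Subgroup.mem_pointwise_smul_iff_inv_smul_mem]
      refine hT ?_
      have := hN.conj_mem x hx a⁻¹
      simpa [MulAut.smul_def, MulAut.conj_inv_apply] using this
    let f := QuotientGroup.mk' N
    have hf : Function.Surjective f := QuotientGroup.mk'_surjective N
    have hlt : Nat.card (G ⧸ N) < Nat.card G := by
      rw [Subgroup.card_eq_card_quotient_mul_card_subgroup N]
      exact lt_mul_of_one_lt_right Nat.card_pos
        ((Nat.one_lt_iff_ne_zero_and_ne_one).2 ⟨Nat.card_pos.ne', fun h =>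
          hN0 (Subgroup.eq_bot_of_card_eq _ h)⟩)
    haveI : ∀ i, Fact (p i).Prime := fun i => ⟨hp i⟩
    obtain ⟨sb, hsb, hsbg⟩ := ih _ hlt (G := G ⧸ N) rfl t p hp
      (fun r hr hd => hall r hr (hd.trans (Subgroup.card_quotient_dvd_card N)))
      (fun i => (S i).mapSurjective hf) (f g)
    have hlift : ∀ i, ∃ x ∈ (S i : Subgroup G), f x = sb i := fun i => by
      have := hsb i
      rw [Sylow.coe_mapSurjective] at this
      exact this
    choose s hs hfs using hlift
    have hn : (List.ofFn s).prod⁻¹ * g ∈ N := by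
      refine (QuotientGroup.eq_one_iff (N := N) _).1 ?_
      show f _ = 1
      rw [map_mul, map_inv, map_list_prod, List.map_ofFn, show ⇑f ∘ s = sb from funext hfs, ← hsbg,
        inv_mul_cancel]
    obtain ⟨s', h1, ⟨m, hm, h2⟩, h3⟩ := exists_move N t s _ hn j
    refine ⟨s', fun i => ?_, by rw [h3, mul_inv_cancel_left]⟩
    by_cases hij : i = j
    · subst hij
      rw [h2]
      exact mul_mem (hs _) (hNS hm)
    · rw [h1 i hij]
      exact hs i

/-- Let G be a finite solvable group and let S assign to each of t distinct primes, including every prime divisor of the order of G, a Sylow subgroup of G. Then every element of G is a product s_0 s_1 ⋯ s_(t-1) with s_i in S i, the factors taken in the given order. -/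
theorem result {G : Type*} [Group G] [Finite G] [Group.IsSolvable G] (t : ℕ) (p : Fin t → ℕ) (hp : ∀ i, (p i).Prime) (hinj : Function.Injective p) (hall : ∀ q : ℕ, q.Prime → q ∣ Nat.card G → ∃ i, p i = q) (S : (i : Fin t) → Sylow (p i) G) : ∀ g : G, ∃ s : (i : Fin t) → G, (∀ i, s i ∈ (S i : Subgroup G)) ∧ g = (List.ofFn s).prod := by
  exact aux (Nat.card G) rfl t p hp hall S

end Cfsg.Agent.S0554
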