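import Cfsg.Statements.S0555
import Cfsg.Agent.EqLemmas

set_option autoImplicit false
open Cfsg

namespace Cfsg.Agent.S0555

/-- Let i ≥ 1. If in the derived series of a group the quotient of the i-th term by the (i+1)-st and the quotient of the (i+1)-st by the (i+2)-nd are both cyclic, then the (i+1)-st and (i+2)-nd terms coincide. -/
theorem result {G : Type*} [Group G] (i : ℕ) (hi : 1 ≤ i) (h₁ : IsCyclic (↥(derivedSeries G i) ⧸ (derivedSeries G (i + 1)).subgroupOf (derivedSeries G i))) (h₂ : IsCyclic (↥(derivedSeries G (i + 1)) ⧸ (derivedSeries G (i + 2)).subgroupOf (derivedSeries G (i + 1)))) : derivedSeries G (i + 1) = derivedSeries G (i + 2) := by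
  set X := derivedSeries G i
  set Y := derivedSeries G (i + 1)
  set Z := derivedSeries G (i + 2)
  have hXn : X.Normal := derivedSeries_normal G i
  have hYn : Y.Normal := derivedSeries_normal G (i + 1)
  have hZn : Z.Normal := derivedSeries_normal G (i + 2)
  have hYX : Y ≤ X := derivedSeries_antitone G (Nat.le_succ i)
  have hZY : Z ≤ Y := derivedSeries_antitone G (Nat.le_succ (i + 1))
  have hXC : X ≤ commutator G := by
    have := derivedSeries_antitone G hi
    rwa [derivedSeries_one] at this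
  let q := QuotientGroup.mk' Z
  have hcyc : IsCyclic (Y.map q) := by
    let f : ↥Y ⧸ Z.subgroupOf Y →* ↥(Y.map q) :=
      QuotientGroup.lift _ (q.subgroupMap Y) (fun y hy => Subtype.ext
        ((QuotientGroup.eq_one_iff _).2 (Subgroup.mem_subgroupOf.1 hy)))
    haveI := h₂
    refine isCyclic_of_surjective f ?_
    rintro ⟨_, y, hy, rfl⟩
    exact ⟨QuotientGroup.mk ⟨y, hy⟩, rfl⟩
  have hcen : ∀ x ∈ X, ∀ y ∈ Y, Commute (q x) (q y) := by
    haveI : (Y.map q).Normal := hYn.map q (QuotientGroup.mk'_surjective Z)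
    haveI := hcyc
    have hle : commutator G ≤ ((MulAut.conjNormal (H := Y.map q)).comp q).ker := by
      rw [commutator_eq_closure, Subgroup.closure_le]
      rintro _ ⟨a, b, rfl⟩
      rw [SetLike.mem_coe, MonoidHom.mem_ker, map_commutatorElement, commutatorElement_eq_one_iff_commute]
      refine MulEquiv.ext (fun w => ?_)
      obtain ⟨m, hm⟩ := MonoidHom.map_cyclic (MulEquiv.toMonoidHom
        (((MulAut.conjNormal (H := Y.map q)).comp q) a))
      obtain ⟨n, hn⟩ := MonoidHom.map_cyclic (MulEquiv.toMonoidHom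
        (((MulAut.conjNormal (H := Y.map q)).comp q) b))
      simp only [MulEquiv.coe_toMonoidHom] at hm hn
      simp only [MulAut.mul_apply]
      rw [hm, hn, hm, hn, ← zpow_mul, ← zpow_mul, mul_comm]
    intro x hx y hy
    have h3 := MonoidHom.mem_ker.1 (hle (hXC hx))
    have h4 := congrArg (fun φ : MulAut ↥(Y.map q) => (φ ⟨q y, ⟨y, hy, rfl⟩⟩ : G ⧸ Z)) h3
    simp only [MonoidHom.comp_apply, MulAut.conjNormal_apply, MulAut.one_apply] at h4
    exact mul_inv_eq_iff_eq_mul.1 h4
  obtain ⟨x0, hx0⟩ := h₁.exists_generator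
  obtain ⟨⟨a, ha⟩, rfl⟩ := QuotientGroup.mk_surjective x0
  have hdec : ∀ x ∈ X, ∃ n : ℤ, ∃ y ∈ Y, x = a ^ n * y := by
    intro x hx
    obtain ⟨n, hn⟩ := Subgroup.mem_zpowers_iff.1 (hx0 (QuotientGroup.mk ⟨x, hx⟩))
    rw [← QuotientGroup.mk_zpow, QuotientGroup.eq] at hn
    refine ⟨n, (a ^ n)⁻¹ * x, ?_, by group⟩
    exact Subgroup.mem_subgroupOf.1 hn
  refine le_antisymm ?_ hZY
  show derivedSeries G (i + 1) ≤ Z
  rw [derivedSeries_succ, Subgroup.commutator_le]
  intro x hx x' hx'
  obtain ⟨n, y, hy, rfl⟩ := hdec x hx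
  obtain ⟨n', y', hy', rfl⟩ := hdec x' hx'
  rw [← QuotientGroup.eq_one_iff, ← QuotientGroup.mk'_apply, map_commutatorElement,
    commutatorElement_eq_one_iff_commute, map_mul, map_mul]
  have hp : ∀ m : ℤ, ∀ w ∈ Y, Commute (q (a ^ m)) (q w) := fun m w hw =>
    hcen _ (X.zpow_mem ha m) w hw
  refine Commute.mul_left (Commute.mul_right ?_ (hp n y' hy')) (Commute.mul_right (hp n' y hy).symm (hcen y (hYX hy) y' hy'))
  exact ((Commute.zpow_zpow_self a n n').map q)

end Cfsg.Agent.S0555
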