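import Cfsg.Statements.S0556
import Cfsg.Agent.EqLemmas
import Cfsg.Agent.Lib.Solvable.Basic
import Cfsg.Agent.Lib.Signalizer.PAction

set_option autoImplicit false
open Cfsg
open scoped Pointwise

namespace Cfsg.Agent.S0556

theorem core_free_case {G : Type*} [Group G] [Finite G] (A : Subgroup G) (hA : IsCoatom A)
    [IsMulCommutative A] (hcore : A.normalCore = ⊥) (hAn : ¬ A.Normal) :
    derivedSeries G 2 = ⊥ := by
  have hab : ∀ a ∈ A, ∀ b ∈ A, a * b = b * a := fun a ha b hb =>
    congrArg Subtype.val (IsMulCommutative.is_comm.comm (⟨a, ha⟩ : A) ⟨b, hb⟩)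
  have hCa : ∀ a ∈ A, a ≠ 1 → Subgroup.centralizer ({a} : Set G) = A := by
    intro a ha ha1
    have hle : A ≤ Subgroup.centralizer ({a} : Set G) := fun b hb =>
      Subgroup.mem_centralizer_singleton_iff.2 (hab b hb a ha)
    rcases eq_or_lt_of_le hle with e | e
    · exact e.symm
    · exfalso
      have hc : a ∈ Subgroup.center G := Subgroup.mem_center_iff.2 fun g =>
        Subgroup.mem_centralizer_singleton_iff.1 (hA.2 _ e ▸ Subgroup.mem_top g)
      have hle2 : Subgroup.zpowers a ≤ A.normalCore := by
        haveI : (Subgroup.zpowers a).Normal :=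
          ⟨fun n hn g => by
            have := Subgroup.mem_center_iff.1 ((Subgroup.zpowers_le.2 hc : Subgroup.zpowers a ≤ Subgroup.center G) hn) g
            rwa [this, mul_inv_cancel_right]⟩
        exact Subgroup.normal_le_normalCore.2 (Subgroup.zpowers_le.2 ha)
      rw [hcore, le_bot_iff, Subgroup.zpowers_eq_bot] at hle2
      exact ha1 hle2
  -- Sylow subgroups of `A` are Sylow subgroups of `G`, and are killed by no transfer
  have key : ∀ p : ℕ, p.Prime → p ∣ Nat.card A → ∃ P : Sylow p G, (P : Subgroup G) ≤ A ∧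
      Subgroup.normalizer ((P : Subgroup G) : Set G) ≤ Subgroup.centralizer ((P : Subgroup G) : Set G) := by
    intro p hp hpA
    haveI := Fact.mk hp
    obtain ⟨P0⟩ := (inferInstance : Nonempty (Sylow p A))
    set T := (P0 : Subgroup A).map A.subtype with hT
    have hTA : T ≤ A := Subgroup.map_subtype_le _
    have hT1 : T ≠ ⊥ := by
      rw [hT, Ne, Subgroup.map_eq_bot_iff_of_injective _ A.subtype_injective]
      exact P0.ne_bot_of_dvd_card hpA
    have hNT : Subgroup.normalizer (T : Set G) = A := by
      have hle : A ≤ Subgroup.normalizer (T : Set G) := fun a ha => by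
        refine Subgroup.centralizer_le_normalizer (T : Set G) (Subgroup.mem_centralizer_iff.2 fun t ht => ?_)
        exact hab t (hTA ht) a ha
      rcases eq_or_lt_of_le hle with e | e
      · exact e.symm
      · exfalso
        haveI : T.Normal := Subgroup.normalizer_eq_top_iff.1 (hA.2 _ e)
        exact hT1 (le_bot_iff.1 (hcore ▸ Subgroup.normal_le_normalCore.2 hTA))
    obtain ⟨P, hTP⟩ := (P0.isPGroup'.map A.subtype).exists_le_sylow
    have hPT : (P : Subgroup G) = T := by
      by_contra hne
      have hlt : T < (P : Subgroup G) := lt_of_le_of_ne hTP (Ne.symm hne)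
      haveI : Group.IsNilpotent (P : Subgroup G) := P.isPGroup'.isNilpotent
      have h2 : T.subgroupOf P < Subgroup.normalizer ((T.subgroupOf P) : Set (P : Subgroup G)) :=
        Group.normalizerCondition_of_isNilpotent _ (lt_top_iff_ne_top.2 (fun e => by
          rw [Subgroup.subgroupOf_eq_top] at e
          exact hlt.not_ge e))
      obtain ⟨x, hx, hxT⟩ := SetLike.exists_of_lt h2
      rw [← Subgroup.subgroupOf_normalizer_eq hTP, Subgroup.mem_subgroupOf, hNT] at hx
      have hxp : IsPGroup p ↥((P : Subgroup G).subgroupOf A) :=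
        P.isPGroup'.comap_of_injective _ A.subtype_injective
      have hle2 : (P0 : Subgroup A) ≤ (P : Subgroup G).subgroupOf A := fun a ha =>
        hTP ⟨a, ha, rfl⟩
      have h3 := P0.is_maximal' hxp hle2
      have hxA : (⟨x, hx⟩ : A) ∈ (P : Subgroup G).subgroupOf A := x.2
      rw [h3] at hxA
      exact hxT (Subgroup.mem_subgroupOf.2 ⟨⟨x, hx⟩, hxA, rfl⟩)
    refine ⟨P, hPT ▸ hTA, ?_⟩
    rw [hPT, hNT]
    intro a ha
    exact Subgroup.mem_centralizer_iff.2 fun t ht => hab t (hTA ht) a ha
  have hinf : commutator G ⊓ A = ⊥ := by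
    rw [Subgroup.eq_bot_iff_card]
    by_contra hne
    obtain ⟨p, hp, hpd⟩ := Nat.exists_prime_and_dvd hne
    haveI := Fact.mk hp
    obtain ⟨x, hx⟩ := exists_prime_orderOf_dvd_card' p hpd
    obtain ⟨P, hPA, hP⟩ := key p hp (hpd.trans (Subgroup.card_dvd_of_le inf_le_right))
    have hK := MonoidHom.ker_transferSylow_isComplement' P hP
    have hxK : (x : G) ∈ (MonoidHom.transferSylow P hP).ker := by
      haveI : IsMulCommutative (P : Subgroup G) :=
        ⟨⟨fun a b => Subtype.ext (hab a (hPA a.2) b (hPA b.2))⟩⟩
      have hle : commutator G ≤ (MonoidHom.transferSylow P hP).ker := by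
        rw [commutator_eq_closure, Subgroup.closure_le]
        rintro _ ⟨u, v, rfl⟩
        rw [SetLike.mem_coe, MonoidHom.mem_ker, map_commutatorElement, commutatorElement_eq_one_iff_commute]
        exact mul_comm' _ _
      exact hle x.2.1
    have h1 : orderOf (x : G) ∣ Nat.card (MonoidHom.transferSylow P hP).ker :=
      Subgroup.orderOf_dvd_natCard _ hxK
    rw [Subgroup.orderOf_coe, hx, ← hK.index_eq_card] at h1
    exact P.not_dvd_index h1
  have hA1 : A ≠ ⊥ := fun e => hAn (e ▸ inferInstance)
  have hAK : ∀ H : Subgroup G, A ≤ Subgroup.normalizer (H : Set G) → H ≤ commutator G → H ≠ ⊥ →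
      H = commutator G := by
    intro H hn hle hne
    have htop : H ⊔ A = ⊤ := by
      refine hA.2 _ (lt_of_le_of_ne le_sup_right fun e => hne (le_bot_iff.1 ?_))
      rw [← hinf]
      exact le_inf hle (e ▸ le_sup_left)
    refine le_antisymm hle fun k hk => ?_
    have : k ∈ H ⊔ A := by rw [htop]; trivial
    rw [← SetLike.mem_coe, Subgroup.coe_mul_of_right_le_normalizer_left H A hn] at this
    obtain ⟨h, hh, a, ha, rfl⟩ := this
    have : a ∈ commutator G ⊓ A :=
      ⟨((commutator G).mul_mem_cancel_left (hle hh)).1 hk, ha⟩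
    rw [hinf, Subgroup.mem_bot] at this
    simpa [this] using hh
  obtain ⟨r, hr, hrA⟩ := Nat.exists_prime_and_dvd (fun e : Nat.card A = 1 => hA1 (Subgroup.eq_bot_of_card_eq A e))
  haveI := Fact.mk hr
  obtain ⟨⟨a, haA⟩, hao⟩ := exists_prime_orderOf_dvd_card' r hrA
  rw [← Subgroup.orderOf_coe] at hao
  set R := Subgroup.zpowers a with hR
  have hRp : IsPGroup r R := IsPGroup.of_card (n := 1) (by rw [hR, Nat.card_zpowers, hao, pow_one])
  have hRA : R ≤ A := Subgroup.zpowers_le.2 haA
  have hrK : ¬ r ∣ Nat.card (commutator G) := by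
    intro hd
    obtain ⟨P, hPA, hP⟩ := key r hr hrA
    have hKP : commutator G ⊓ (P : Subgroup G) = ⊥ :=
      le_bot_iff.1 (hinf ▸ inf_le_inf_left _ hPA)
    have := Solvable.card_sup_of_disjoint (P : Subgroup G) (commutator G) (inf_comm _ (commutator G) ▸ hKP)
    have h5 : Nat.card (P : Subgroup G) * r ∣ Nat.card G :=
      (Nat.mul_dvd_mul_left _ hd).trans (this ▸ Subgroup.card_subgroup_dvd_card _)
    rw [← (P : Subgroup G).card_mul_index] at h5
    exact P.not_dvd_index (Nat.dvd_of_mul_dvd_mul_left Nat.card_pos h5)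
  have hRK : R ≤ Subgroup.normalizer ((commutator G : Subgroup G) : Set G) := by
    rw [Subgroup.normalizer_eq_top]; exact le_top
  by_cases hK1 : commutator G = ⊥
  · have : derivedSeries G 1 = ⊥ := by rw [derivedSeries_one, hK1]
    exact le_bot_iff.1 (this ▸ derivedSeries_antitone G (by omega))
  obtain ⟨q, hq, hqd⟩ := Nat.exists_prime_and_dvd (fun e : Nat.card (commutator G) = 1 => hK1 (Subgroup.eq_bot_of_card_eq _ e))
  haveI := Fact.mk hq
  obtain ⟨S, hS, hRS⟩ := Signalizer.exists_invariant_sylow (q := q) hRp (commutator G) hrK hRK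
  have hAS : A ≤ Subgroup.normalizer (S : Set G) := by
    intro b hb
    have hbS : Signalizer.IsSylowIn q (commutator G) (S.map (MulAut.conj b).toMonoidHom) := by
      obtain ⟨s, hs⟩ := hS.exists_sylow
      have hmap : (commutator G).map (MulAut.conj b).toMonoidHom = commutator G :=
        Subgroup.Normal.conj_smul_eq_self b (commutator G)
      obtain ⟨h1, h2, h3⟩ := hS
      refine ⟨(Subgroup.map_mono h1).trans hmap.le, h2.map _, ?_⟩
      have h4 := Subgroup.relIndex_map_map_of_injective (f := (MulAut.conj b).toMonoidHom) S (commutator G)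
        (MulAut.conj b).injective
      rw [hmap] at h4
      rw [h4]
      exact h3
    have hRS' : R ≤ Subgroup.normalizer ((S.map (MulAut.conj b).toMonoidHom : Subgroup G) : Set G) := by
      rw [← Subgroup.map_equiv_normalizer_eq]
      intro t ht
      refine ⟨t, hRS ht, ?_⟩
      show b * t * b⁻¹ = t
      rw [mul_inv_eq_iff_eq_mul]
      exact hab b hb t (hRA ht)
    obtain ⟨c, hc, hcR, hcS⟩ := Signalizer.exists_conj_invariant_sylow hRp hrK hRK hS hbS hRS hRS'
    have hc1 : c = 1 := by
      have : c ∈ commutator G ⊓ A := ⟨hc, by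
        rw [← hCa a haA (fun e => by simp [e, hr.one_lt.ne] at hao)]
        exact Subgroup.mem_centralizer_singleton_iff.2
          (Subgroup.mem_centralizer_iff.1 hcR a (Subgroup.mem_zpowers a)).symm⟩
      rwa [hinf, Subgroup.mem_bot] at this
    subst hc1
    rw [Solvable.mem_normalizer_iff_conj, Solvable.conj_eq_map, ← hcS]
    exact Subgroup.ext fun t => ⟨by rintro ⟨s, hs, rfl⟩; simpa using hs, fun h => ⟨t, h, by simp⟩⟩
  have hSK : S = commutator G := hAK S hAS hS.1 fun e => by
    obtain ⟨s, hs⟩ := hS.exists_sylow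
    rw [e, Subgroup.map_eq_bot_iff_of_injective _ (commutator G).subtype_injective] at hs
    exact s.ne_bot_of_dvd_card hqd hs
  have hZ : (Subgroup.center ↥(commutator G)).map (commutator G).subtype = commutator G := by
    haveI hch := Subgroup.centerCharacteristic (G := ↥(commutator G))
    haveI : ((Subgroup.center ↥(commutator G)).map (commutator G).subtype).Normal :=
      ConjAct.normal_of_characteristic_of_normal
    refine hAK _ (by rw [Subgroup.normalizer_eq_top]; exact le_top) (Subgroup.map_subtype_le _) ?_
    rw [Ne, Subgroup.map_eq_bot_iff_of_injective _ (commutator G).subtype_injective]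
    haveI : Nontrivial ↥(commutator G) := (Subgroup.nontrivial_iff_ne_bot _).2 hK1
    have := (hSK ▸ hS.2.1).center_nontrivial
    exact (Subgroup.nontrivial_iff_ne_bot _).1 this
  rw [show derivedSeries G 2 = ⁅commutator G, commutator G⁆ by rw [derivedSeries_succ, derivedSeries_one],
    Subgroup.commutator_eq_bot_iff_le_centralizer]
  intro z hz
  rw [← hZ] at hz
  obtain ⟨⟨z, hzK⟩, hzc, rfl⟩ := hz
  exact Subgroup.mem_centralizer_iff.2 fun g hg =>
    congrArg Subtype.val (Subgroup.mem_center_iff.1 hzc ⟨g, hg⟩)

/-- If a finite group has a maximal subgroup that is abelian, then the third term of its derived series is trivial (so the group is solvable of derived length at most three). -/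
theorem result {G : Type*} [Group G] [Finite G] (A : Subgroup G) (hA : IsCoatom A) [IsMulCommutative A] : derivedSeries G 3 = ⊥ := by
  by_cases hAn : A.Normal
  · -- the quotient by a normal maximal subgroup has prime order
    haveI := hAn
    haveI : Nontrivial (G ⧸ A) := QuotientGroup.nontrivial_iff.2 hA.1
    have h1 : derivedSeries G 1 ≤ A := by
      obtain ⟨x, hx⟩ := exists_ne (1 : G ⧸ A)
      haveI : IsCyclic (G ⧸ A) := by
        refine ⟨⟨x, fun y => ?_⟩⟩
        have hne : ((Subgroup.zpowers x).comap (QuotientGroup.mk' A)) ≠ A := fun e => by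
          obtain ⟨g, rfl⟩ := QuotientGroup.mk'_surjective A x
          apply hx
          rw [QuotientGroup.mk'_apply, QuotientGroup.eq_one_iff]
          rw [← e]
          exact Subgroup.mem_zpowers _
        have hle : A ≤ (Subgroup.zpowers x).comap (QuotientGroup.mk' A) :=
          (QuotientGroup.ker_mk' A).ge.trans (Subgroup.ker_le_comap _ _)
        have htop := hA.2 _ (lt_of_le_of_ne hle hne.symm)
        obtain ⟨g, rfl⟩ := QuotientGroup.mk'_surjective A y
        have : g ∈ (Subgroup.zpowers x).comap (QuotientGroup.mk' A) := by rw [htop]; trivial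
        exact this
      rw [derivedSeries_one, Subgroup.Normal.quotient_commutative_iff_commutator_le.symm]
      exact IsCyclic.isMulCommutative
    have h2 : derivedSeries G 2 = ⊥ := le_bot_iff.1 (le_trans (Subgroup.commutator_mono h1 h1)
      (le_of_eq (Subgroup.commutator_eq_bot_iff_le_centralizer.2 (A.le_centralizer))))
    exact le_bot_iff.1 (h2 ▸ derivedSeries_antitone G (by omega))
  · set C := A.normalCore with hC
    have hCA : C ≤ A := A.normalCore_le
    have hCc : C ≤ Subgroup.center G := by
      have h1 : A ≤ Subgroup.centralizer (C : Set G) := A.le_centralizer.trans (Subgroup.centralizer_le hCA)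
      haveI : (Subgroup.centralizer (C : Set G)).Normal := inferInstance
      rcases eq_or_lt_of_le h1 with e | e
      · exact absurd (e ▸ inferInstance) hAn
      · have := hA.2 _ e
        intro c hc
        rw [Subgroup.mem_center_iff]
        intro g
        exact (Subgroup.mem_centralizer_iff.1 (this ▸ Subgroup.mem_top g) c hc).symm
    have hsurj := QuotientGroup.mk'_surjective C
    have hcomap : (A.map (QuotientGroup.mk' C)).comap (QuotientGroup.mk' C) = A := by
      rw [Subgroup.comap_map_eq, QuotientGroup.ker_mk', sup_eq_left.2 hCA]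
    have hA' : IsCoatom (A.map (QuotientGroup.mk' C)) := by
      refine ⟨fun e => hA.1 (by rw [← hcomap, e, Subgroup.comap_top]), fun B hB => ?_⟩
      have : A < B.comap (QuotientGroup.mk' C) :=
        lt_of_eq_of_lt hcomap.symm ((Subgroup.comap_lt_comap_of_surjective hsurj).2 hB)
      rw [← Subgroup.map_comap_eq_self_of_surjective hsurj B, hA.2 _ this,
        Subgroup.map_top_of_surjective _ hsurj]
    have hcore : (A.map (QuotientGroup.mk' C)).normalCore = ⊥ := by
      rw [eq_bot_iff]
      intro x hx
      obtain ⟨g, rfl⟩ := hsurj x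
      rw [Subgroup.mem_bot, QuotientGroup.mk'_apply, QuotientGroup.eq_one_iff, hC]
      haveI := (A.map (QuotientGroup.mk' C)).normalCore_normal
      have hle : (A.map (QuotientGroup.mk' C)).normalCore.comap (QuotientGroup.mk' C) ≤ A :=
        (Subgroup.comap_mono (Subgroup.normalCore_le _)).trans hcomap.le
      exact (Subgroup.normal_le_normalCore (hN := inferInstance)).2 hle hx
    have h2 : derivedSeries G 2 ≤ C := by
      have := core_free_case (G := G ⧸ C) _ hA' hcore (fun h => hAn (hcomap ▸ h.comap _))
      rw [← map_derivedSeries_eq hsurj, Subgroup.map_eq_bot_iff, QuotientGroup.ker_mk'] at this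
      exact this
    exact le_bot_iff.1 (le_trans (Subgroup.commutator_mono (le_trans h2 hCc) (le_trans h2 hCc))
      (le_of_eq (Subgroup.commutator_eq_bot_iff_le_centralizer.2 (fun z hz =>
        Subgroup.mem_centralizer_iff.2 fun g _ => (Subgroup.mem_center_iff.1 hz g)))))

end Cfsg.Agent.S0556
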