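import Cfsg.Statements.S0557
import Cfsg.Agent.EqLemmas
import Cfsg.Agent.Lib.Transfer.Focal
import Cfsg.Agent.Lib.Solvable.Hall

set_option autoImplicit false
open Cfsg

namespace Cfsg.Agent.S0557

theorem aux.{u} (n : ℕ) : ∀ (G : Type u) [Group G] [Finite G] (H : Subgroup G),
    (Nat.card H).Coprime H.index → (fun K : Subgroup G => Subgroup.focalSubgroup K)^[n] H = ⊥ →
    ∃ N : Subgroup G, N.Normal ∧ Subgroup.IsComplement' N H := by
  induction n with
  | zero =>
    intro G _ _ H _ h
    simp only [Function.iterate_zero_apply] at h
    subst h
    exact ⟨⊤, inferInstance, Subgroup.isComplement'_top_bot⟩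
  | succ n ih =>
    intro G _ _ H hH h
    rw [Function.iterate_succ_apply] at h
    have hcop := Transfer.coprime_index_relIndex_hall hH
    obtain ⟨K, hKn, hKH, hKtop⟩ := Transfer.exists_normal_focal_complement H hcop
    rw [← Transfer.focalSubgroup_eq_of_coprime H hcop] at hKH
    have hmono : ∀ m, ∀ (A : Subgroup K) (B : Subgroup G), A.map K.subtype ≤ B →
        ((fun L : Subgroup K => Subgroup.focalSubgroup L)^[m] A).map K.subtype ≤
          (fun L : Subgroup G => Subgroup.focalSubgroup L)^[m] B := by
      intro m
      induction m with
      | zero => intro A B hAB; simpa using hAB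
      | succ m ihm =>
        intro A B hAB
        rw [Function.iterate_succ_apply, Function.iterate_succ_apply]
        refine ihm _ _ ?_
        rw [Subgroup.map_le_iff_le_comap, Subgroup.focalSubgroup_def, Subgroup.closure_le]
        rintro _ ⟨hg, x, hx, v, rfl⟩
        refine Subgroup.mem_comap.2 ?_
        rw [Subgroup.focalSubgroup_def]
        exact Subgroup.subset_closure ⟨hAB ⟨_, hg, rfl⟩, K.subtype x, hAB ⟨x, hx, rfl⟩, K.subtype v,
          map_commutatorElement K.subtype x v⟩
    have hmap : (H.subgroupOf K).map K.subtype = H.focalSubgroup := by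
      rw [Subgroup.subgroupOf_map_subtype, inf_comm, hKH]
    have h1 : (fun L : Subgroup K => Subgroup.focalSubgroup L)^[n] (H.subgroupOf K) = ⊥ := by
      have := hmono n (H.subgroupOf K) H.focalSubgroup hmap.le
      rw [h, le_bot_iff, Subgroup.map_eq_bot_iff_of_injective _ K.subtype_injective] at this
      exact this
    -- |K : H ∩ K| = |G : H|
    have hidx : (H.subgroupOf K).index = H.index := by
      have hc1 := Solvable.card_sup_mul_card_inf H K
      rw [sup_comm, hKtop, Subgroup.card_top, ← H.card_mul_index, mul_assoc] at hc1
      have hc2 := Nat.eq_of_mul_eq_mul_left Nat.card_pos hc1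
      have hc3 := (H.subgroupOf K).card_mul_index
      rw [← Subgroup.card_map_of_injective K.subtype_injective, Subgroup.subgroupOf_map_subtype, ← hc2,
        mul_comm H.index] at hc3
      exact Nat.eq_of_mul_eq_mul_left Nat.card_pos hc3
    have hH1 : (Nat.card (H.subgroupOf K)).Coprime (H.subgroupOf K).index := by
      rw [hidx]
      refine Nat.Coprime.coprime_dvd_left ?_ hH
      rw [← Subgroup.card_map_of_injective K.subtype_injective]
      exact Subgroup.card_dvd_of_le (by rw [Subgroup.subgroupOf_map_subtype]; exact inf_le_left)
    obtain ⟨M, hM, hMc⟩ := ih K _ hH1 h1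
    have hMcard : Nat.card M = H.index := by
      rw [← hidx, hMc.index_eq_card]
    haveI : M.Characteristic := by
      rw [Subgroup.characteristic_iff_comap_eq]
      intro φ
      have hMi : M.index = Nat.card (H.subgroupOf K) := hMc.symm.index_eq_card
      have hcop2 : (Nat.card M).Coprime M.index := by
        rw [hMcard, hMi, ← hidx]
        exact hH1.symm
      haveI : (M.comap φ.toMonoidHom).Normal := hM.comap _
      have hcard : Nat.card (M.comap φ.toMonoidHom) = Nat.card M :=
        by rw [show M.comap φ.toMonoidHom = M.map φ.symm.toMonoidHom from Subgroup.comap_equiv_eq_map_symm φ M]; exact Subgroup.card_map_of_injective φ.symm.injective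
      refine Subgroup.eq_of_le_of_card_ge ?_ hcard.ge
      -- a normal subgroup of order coprime to the index lies in M
      intro x hx
      have h2 : orderOf (QuotientGroup.mk' M x) ∣ 1 := by
        refine Nat.dvd_gcd ((orderOf_map_dvd _ x).trans ((Subgroup.orderOf_dvd_natCard _ hx).trans hcard.dvd))
          (orderOf_dvd_natCard _) |>.trans ?_
        rw [← Subgroup.index_eq_card, hcop2]
      rw [Nat.dvd_one, orderOf_eq_one_iff] at h2
      exact (QuotientGroup.eq_one_iff x).1 h2
    refine ⟨M.map K.subtype, ConjAct.normal_of_characteristic_of_normal, ?_⟩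
    have hcardM : Nat.card (M.map K.subtype) = H.index := by
      rw [Subgroup.card_map_of_injective K.subtype_injective, hMcard]
    exact Subgroup.isComplement'_of_coprime (by rw [hcardM, mul_comm, H.card_mul_index])
      (by rw [hcardM]; exact hH.symm)

/-- Let H be a subgroup of a finite group G with order coprime to its index. If iterating the focal-subgroup construction starting from H reaches the trivial subgroup after finitely many steps, then H has a normal complement in G. -/
theorem result {G : Type*} [Group G] [Finite G] (H : Subgroup G) (hHall : (Nat.card H).Coprime H.index) (n : ℕ) (hfoc : (fun K : Subgroup G => Subgroup.focalSubgroup K)^[n] H = ⊥) : ∃ N : Subgroup G, N.Normal ∧ Subgroup.IsComplement' N H := by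
  obtain ⟨N, hN, hc⟩ := aux n G H hHall hfoc
  exact ⟨N, hN, hc⟩

end Cfsg.Agent.S0557
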