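import Cfsg.Statements.S0558
import Cfsg.Agent.EqLemmas
import Cfsg.Agent.Lib.Transfer.Tate
import Cfsg.Agent.Lib.Solvable.Basic

set_option autoImplicit false
open Cfsg

namespace Cfsg.Agent.S0558

/-- A cyclic subgroup lies in `K` when all its prime power subgroups do. -/
theorem le_of_forall_sylow {G : Type*} [Group G] [Finite G] (A K : Subgroup G)
    (h : ∀ s : ℕ, s.Prime → ∀ S : Subgroup G, IsPGroup s S ∧ S ≤ A → S ≤ K) : A ≤ K := by
  intro a ha
  have hmain : ∀ n : ℕ, ∀ u : G, orderOf u = n → u ∈ A → u ∈ K := by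
    intro n
    induction n using Nat.strong_induction_on with
    | _ n ih =>
      intro u hu hA
      rcases eq_or_ne n 1 with e | e
      · rw [orderOf_eq_one_iff.1 (hu.trans e)]; exact one_mem K
      obtain ⟨s, hs, hsn⟩ := Nat.exists_prime_and_dvd e
      haveI := Fact.mk hs
      obtain ⟨x, y, hxy, hx, hy, ⟨k, hk⟩, hys⟩ := Transfer.exists_pPart_mul (p := s) u
      have hxA : x ∈ A := Subgroup.zpowers_le.2 hA hx
      have hxK : x ∈ K :=
        h s hs (Subgroup.zpowers x) ⟨IsPGroup.of_card (n := k) (by rw [Nat.card_zpowers, hk]),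
          Subgroup.zpowers_le.2 hxA⟩ (Subgroup.mem_zpowers x)
      have hd : orderOf y ∣ n := by
        obtain ⟨j, rfl⟩ := Subgroup.mem_zpowers_iff.1 hy
        rw [← hu, orderOf_dvd_iff_pow_eq_one, ← zpow_natCast, ← zpow_mul, mul_comm, zpow_mul,
          zpow_natCast, pow_orderOf_eq_one, one_zpow]
      have hlt : orderOf y < n := lt_of_le_of_ne (Nat.le_of_dvd (hu ▸ orderOf_pos u) hd) fun e' =>
        (hs.coprime_iff_not_dvd.1 hys.symm) (e' ▸ hsn)
      rw [hxy]
      exact mul_mem hxK (ih _ hlt y rfl (Subgroup.zpowers_le.2 hA hy))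
  exact hmain _ a rfl ha

/-- Let H be a subgroup of a finite group G that is not a Sylow subgroup of G for any prime, and suppose that for every prime p dividing the order of H and every Sylow p-subgroup P of H the normalizer of P in G is exactly H. Then some normal subgroup of G is a complement to H. -/
theorem result {G : Type*} [Group G] [Finite G] (H : Subgroup G) (hnot : ∀ p : ℕ, p.Prime → ∀ P : Sylow p G, (P : Subgroup G) ≠ H) (hnorm : ∀ p : ℕ, p.Prime → p ∣ Nat.card H → ∀ P : Sylow p H, Subgroup.normalizer (((P : Subgroup H).map H.subtype : Subgroup G) : Set G) = H) : ∃ N : Subgroup G, N.Normal ∧ Subgroup.IsComplement' N H := by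
  classical
  have hH0 : Nat.card H ≠ 0 := Nat.card_pos.ne'
  -- Sylow subgroups of H are Sylow in G and their normalizers are H
  have hSyl : ∀ p : ℕ, p.Prime → p ∣ Nat.card H → ∃ P : Sylow p G, (P : Subgroup G) ≤ H ∧
      Subgroup.normalizer ((P : Subgroup G) : Set G) = H := by
    intro p hp hd
    haveI := Fact.mk hp
    obtain ⟨P0⟩ := (inferInstance : Nonempty (Sylow p H))
    set T := (P0 : Subgroup H).map H.subtype with hT
    have hN : Subgroup.normalizer (T : Set G) = H := hnorm p hp hd P0
    obtain ⟨P, hTP⟩ := (P0.isPGroup'.map H.subtype).exists_le_sylow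
    have hPT : (P : Subgroup G) = T := by
      by_contra hne
      have hlt : T < (P : Subgroup G) := lt_of_le_of_ne hTP (Ne.symm hne)
      haveI : Group.IsNilpotent (P : Subgroup G) := P.isPGroup'.isNilpotent
      have h2 : T.subgroupOf P < Subgroup.normalizer ((T.subgroupOf P) : Set (P : Subgroup G)) :=
        Group.normalizerCondition_of_isNilpotent _ (lt_top_iff_ne_top.2 (fun e => by
          rw [Subgroup.subgroupOf_eq_top] at e
          exact hlt.not_ge e))
      obtain ⟨x, hx, hxT⟩ := SetLike.exists_of_lt h2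
      rw [← Subgroup.subgroupOf_normalizer_eq hTP, Subgroup.mem_subgroupOf, hN] at hx
      have hxp : IsPGroup p ↥((P : Subgroup G).subgroupOf H) :=
        P.isPGroup'.comap_of_injective _ H.subtype_injective
      have hle2 : (P0 : Subgroup H) ≤ (P : Subgroup G).subgroupOf H := fun a ha =>
        hTP ⟨a, ha, rfl⟩
      have hxH : (⟨x, hx⟩ : H) ∈ (P : Subgroup G).subgroupOf H := x.2
      rw [P0.is_maximal' hxp hle2] at hxH
      exact hxT (Subgroup.mem_subgroupOf.2 ⟨⟨x, hx⟩, hxH, rfl⟩)
    exact ⟨P, hPT ▸ Subgroup.map_subtype_le _, hPT ▸ hN⟩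
  have hcop : ∀ r : ℕ, r.Prime → r ∣ Nat.card H → ¬ r ∣ H.index := by
    intro r hr hd hi
    haveI := Fact.mk hr
    obtain ⟨P, hPH, -⟩ := hSyl r hr hd
    exact P.not_dvd_index (hi.trans (Subgroup.index_dvd_of_le hPH))
  have hcomp : ∀ r : ℕ, r.Prime → r ∣ Nat.card H → Cfsg.HasNormalPComplement r G := by
    intro r hr hd
    haveI := Fact.mk hr
    obtain ⟨P, hPH, hPN⟩ := hSyl r hr hd
    obtain ⟨q, hq, hqd, hqr⟩ : ∃ q, q.Prime ∧ q ∣ Nat.card H ∧ q ≠ r := by
      by_contra hc
      push Not at hc
      refine hnot r hr P (le_antisymm hPH ?_)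
      have h1 : Nat.card H = r ^ (Nat.card H).factorization r := by
        conv_lhs => rw [← Nat.prod_factorization_pow_eq_self hH0]
        rw [Finsupp.prod, Finset.prod_eq_single r]
        · intro b hb hbr
          exact absurd (hc b (Nat.prime_of_mem_primeFactors hb) (Nat.dvd_of_mem_primeFactors hb)) hbr
        · intro h
          rw [Finsupp.notMem_support_iff] at h
          rw [h, pow_zero]
      have hHp : IsPGroup r H := IsPGroup.of_card h1
      exact (P.is_maximal' hHp hPH).le
    haveI := Fact.mk hq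
    obtain ⟨Q, hQH, hQN⟩ := hSyl q hq hqd
    have hcomm : ∀ a ∈ (P : Subgroup G), ∀ b ∈ (Q : Subgroup G), a * b = b * a := by
      intro a ha b hb
      have hdisj : (P : Subgroup G) ⊓ (Q : Subgroup G) = ⊥ :=
        Solvable.inf_eq_bot_of_coprime (IsPGroup.coprime_card_of_ne _ _ hqr.symm _ _ P.isPGroup' Q.isPGroup')
      have : a * b * a⁻¹ * b⁻¹ ∈ (P : Subgroup G) ⊓ (Q : Subgroup G) := by
        refine Subgroup.mem_inf.2 ⟨?_, ?_⟩
        · rw [mul_assoc, mul_assoc, ← mul_assoc b]
          exact mul_mem ha ((Subgroup.mem_normalizer_iff.1 (hPN.ge (hQH hb)) _).1 (inv_mem ha))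
        · exact mul_mem ((Subgroup.mem_normalizer_iff.1 (hQN.ge (hPH ha)) _).1 hb) (inv_mem hb)
      rw [hdisj, Subgroup.mem_bot] at this
      exact mul_inv_eq_iff_eq_mul.1 (mul_inv_eq_one.1 this)
    refine Transfer.hasNormalPComplement_of_self_control P fun x hx g hgx => ?_
    set C := Subgroup.centralizer ({g * x * g⁻¹} : Set G) with hC
    have hQC : (Q : Subgroup G) ≤ C := fun b hb =>
      Subgroup.mem_centralizer_singleton_iff.2 (hcomm _ hgx b hb).symm
    have hgQC : ((g • Q : Sylow q G) : Subgroup G) ≤ C := by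
      rintro _ ⟨b, hb, rfl⟩
      rw [hC, Subgroup.mem_centralizer_singleton_iff]
      show MulAut.conj g b * MulAut.conj g x = MulAut.conj g x * MulAut.conj g b
      rw [← map_mul, ← map_mul, hcomm x hx b hb]
    obtain ⟨c, hc, hcQ⟩ := Transfer.exists_conj_sylow_le (g • Q : Sylow q G) Q hgQC hQC
    rw [Transfer.sylow_coe_smul, Transfer.map_conj_map_conj, Transfer.map_conj_eq_iff_mem_normalizer,
      hQN] at hcQ
    have hh : (c * g) * x * (c * g)⁻¹ = g * x * g⁻¹ := by
      rw [hC, Subgroup.mem_centralizer_singleton_iff] at hc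
      calc (c * g) * x * (c * g)⁻¹ = (c * (g * x * g⁻¹)) * c⁻¹ := by group
        _ = _ := by rw [hc, mul_inv_cancel_right]
    obtain ⟨y, z, hyz, hyh, hzh, ⟨k, hk⟩, hz⟩ := Transfer.exists_pPart_mul (p := r) (c * g)
    have hyH : y ∈ H := Subgroup.zpowers_le.2 hcQ hyh
    have hzH : z ∈ H := Subgroup.zpowers_le.2 hcQ hzh
    have hyP : y ∈ (P : Subgroup G) := by
      have h1 : IsPGroup r (Subgroup.zpowers y) := IsPGroup.of_card (n := k) (by rw [Nat.card_zpowers, hk])
      have h2 := le_inf (le_refl (Subgroup.zpowers y)) ((Subgroup.zpowers_le.2 hyH).trans hPN.ge)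
      exact (h2.trans ((h1.inf_normalizer_sylow P).le.trans inf_le_right)) (Subgroup.mem_zpowers y)
    have hzc : z * x = x * z := by
      -- the r'-element z of H acts trivially on P: its commutator with x is in P and in the other part
      have hzero : ∀ w ∈ H, Nat.Coprime (orderOf w) r → w ∈ Subgroup.centralizer ((P : Subgroup G) : Set G) := by
        intro w hw hwr
        have : Subgroup.zpowers w ≤ Subgroup.centralizer ((P : Subgroup G) : Set G) := by
          refine le_of_forall_sylow _ _ fun s hs S hS => ?_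
          haveI := Fact.mk hs
          by_cases hsr : s = r
          · subst hsr
            have hS1 : Nat.card S = 1 := by
              obtain ⟨j, hj⟩ := IsPGroup.iff_card.1 hS.1
              have hd : Nat.card S ∣ orderOf w := by
                rw [← Nat.card_zpowers]; exact Subgroup.card_dvd_of_le hS.2
              rcases Nat.eq_zero_or_pos j with e | e
              · rw [hj, e, pow_zero]
              · exact absurd ((hj ▸ dvd_pow_self s e.ne').trans hd)
                  ((Fact.out : s.Prime).coprime_iff_not_dvd.1 hwr.symm)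
            rw [Subgroup.eq_bot_of_card_eq S hS1]
            exact bot_le
          · intro u hu
            have huH : u ∈ H := Subgroup.zpowers_le.2 hw (hS.2 hu)
            by_cases hu1 : u = 1
            · subst hu1; exact one_mem _
            have hsH : s ∣ Nat.card H := by
              obtain ⟨j, hj⟩ := IsPGroup.iff_orderOf.1 hS.1 ⟨u, hu⟩
              rw [Subgroup.orderOf_mk] at hj
              rcases Nat.eq_zero_or_pos j with e | e
              · exact absurd (orderOf_eq_one_iff.1 (by rw [hj, e, pow_zero])) hu1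
              · exact ((hj ▸ dvd_pow_self s e.ne' : s ∣ orderOf u)).trans (Subgroup.orderOf_dvd_natCard H huH)
            obtain ⟨T, hTH, hTN⟩ := hSyl s hs hsH
            have huT : u ∈ (T : Subgroup G) := by
              have h2 := le_inf (le_refl (Subgroup.zpowers u)) ((Subgroup.zpowers_le.2 huH).trans hTN.ge)
              exact (h2.trans (((hS.1.to_le (Subgroup.zpowers_le.2 hu)).inf_normalizer_sylow T).le.trans
                inf_le_right)) (Subgroup.mem_zpowers u)
            refine Subgroup.mem_centralizer_iff.2 fun a ha => ?_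
            have hdisj : (P : Subgroup G) ⊓ (T : Subgroup G) = ⊥ :=
              Solvable.inf_eq_bot_of_coprime (IsPGroup.coprime_card_of_ne _ _ (Ne.symm hsr) _ _ P.isPGroup' T.isPGroup')
            have : a * u * a⁻¹ * u⁻¹ ∈ (P : Subgroup G) ⊓ (T : Subgroup G) := by
              refine Subgroup.mem_inf.2 ⟨?_, ?_⟩
              · rw [mul_assoc, mul_assoc, ← mul_assoc u]
                exact mul_mem ha ((Subgroup.mem_normalizer_iff.1 (hPN.ge (hTH huT)) _).1 (inv_mem ha))
              · exact mul_mem ((Subgroup.mem_normalizer_iff.1 (hTN.ge (hPH ha)) _).1 huT) (inv_mem huT)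
            rw [hdisj, Subgroup.mem_bot] at this
            exact mul_inv_eq_iff_eq_mul.1 (mul_inv_eq_one.1 this)
        exact this (Subgroup.mem_zpowers w)
      exact (Subgroup.mem_centralizer_iff.1 (hzero z hzH hz) x hx).symm
    refine ⟨y, hyP, ?_⟩
    rw [← hh, hyz]
    calc y * x * y⁻¹ = y * (z * x) * z⁻¹ * y⁻¹ := by rw [hzc]; group
      _ = y * z * x * (y * z)⁻¹ := by group
  let N : Subgroup G := ⨅ r ∈ (Nat.card H).primeFactors, Cfsg.pResidual r G
  haveI hNn : N.Normal := Subgroup.normal_iInf_normal fun r => Subgroup.normal_iInf_normal fun _ =>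
    Transfer.pResidual_normal
  have hNr : ∀ r ∈ (Nat.card H).primeFactors, N ≤ Cfsg.pResidual r G := fun r hr => iInf₂_le r hr
  have hidx : ∀ s : Finset ℕ, s ⊆ (Nat.card H).primeFactors → ∀ ℓ : ℕ, ℓ.Prime →
      ℓ ∣ (⨅ r ∈ s, Cfsg.pResidual r G).index → ℓ ∈ s := by
    intro s
    induction s using Finset.induction_on with
    | empty => intro _ ℓ hℓ h; simp at h; exact absurd h hℓ.ne_one
    | @insert a s ha ih =>
      intro hsub ℓ hℓ h
      rw [Finset.iInf_insert] at h
      obtain ⟨haS, hsS⟩ := Finset.insert_subset_iff.1 hsub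
      haveI := Fact.mk (Nat.prime_of_mem_primeFactors haS)
      set A := Cfsg.pResidual a G
      set B := ⨅ r ∈ s, Cfsg.pResidual r G
      rw [← Subgroup.relIndex_mul_index (inf_le_right : A ⊓ B ≤ B), Subgroup.inf_relIndex_right,
        hℓ.dvd_mul] at h
      rcases h with h | h
      · haveI : A.Normal := Transfer.pResidual_normal
        obtain ⟨k, hk⟩ := Transfer.exists_index_pResidual (p := a) (G := G)
        have := h.trans (Subgroup.relIndex_dvd_index_of_normal A B)
        rw [hk] at this
        rw [(Nat.prime_dvd_prime_iff_eq hℓ Fact.out).1 (hℓ.dvd_of_dvd_pow this)]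
        exact Finset.mem_insert_self a s
      · exact Finset.mem_insert_of_mem (ih hsS ℓ hℓ h)
  have hdisj : N ⊓ H = ⊥ := by
    rw [Subgroup.eq_bot_iff_card]
    by_contra hne
    obtain ⟨r, hr, hrd⟩ := Nat.exists_prime_and_dvd hne
    haveI := Fact.mk hr
    have hrH : r ∣ Nat.card H := hrd.trans (Subgroup.card_dvd_of_le inf_le_right)
    have h1 := Transfer.hasNormalPComplement_iff_coprime.1 (hcomp r hr hrH)
    exact (hr.coprime_iff_not_dvd.1 h1.symm) (hrd.trans (Subgroup.card_dvd_of_le
      (inf_le_left.trans (hNr r (Nat.mem_primeFactors.2 ⟨hr, hrH, hH0⟩)))))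
  have htop : N ⊔ H = ⊤ := by
    rw [← Subgroup.index_eq_one]
    by_contra hne
    obtain ⟨r, hr, hrd⟩ := Nat.exists_prime_and_dvd hne
    exact hcop r hr (Nat.dvd_of_mem_primeFactors
      (hidx _ (subset_refl _) r hr (hrd.trans (Subgroup.index_dvd_of_le le_sup_left))))
      (hrd.trans (Subgroup.index_dvd_of_le le_sup_right))
  exact ⟨N, hNn, Subgroup.isComplement'_of_disjoint_and_mul_eq_univ (disjoint_iff.2 hdisj) (by
    rw [← Subgroup.normal_mul, htop, Subgroup.coe_top])⟩

end Cfsg.Agent.S0558
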