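import Cfsg.Statements.S0560
import Cfsg.Agent.EqLemmas
import Cfsg.Agent.Lib.Coprime.Factorization

set_option autoImplicit false
open Pointwise
open Cfsg

namespace Cfsg.Agent.S0560

/-- Let the finite group G be the product HK of two subgroups and p a prime. Then there are Sylow p-subgroups P of H and Q of K and a Sylow p-subgroup R of G whose underlying set is the product set of P and Q. -/
theorem result {G : Type*} [Group G] [Finite G] (H K : Subgroup G) (hHK : ∀ g : G, ∃ h ∈ H, ∃ k ∈ K, g = h * k) (p : ℕ) [Fact p.Prime] : ∃ (P : Sylow p H) (Q : Sylow p K) (R : Sylow p G), ((R : Subgroup G) : Set G) = (((P : Subgroup H).map H.subtype : Subgroup G) : Set G) * (((Q : Subgroup K).map K.subtype : Subgroup G) : Set G) := by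
  have hp : p.Prime := Fact.out
  obtain ⟨P₁⟩ : Nonempty (Sylow p H) := inferInstance
  obtain ⟨Q₁⟩ : Nonempty (Sylow p K) := inferInstance
  have hP₁ : IsPGroup p ((P₁ : Subgroup H).map H.subtype) := P₁.isPGroup'.map _
  have hQ₁ : IsPGroup p ((Q₁ : Subgroup K).map K.subtype) := Q₁.isPGroup'.map _
  obtain ⟨R₁, hR₁⟩ := hP₁.exists_le_sylow
  obtain ⟨R₂, hR₂⟩ := hQ₁.exists_le_sylow
  obtain ⟨g, hg⟩ := MulAction.exists_smul_eq G R₁ R₂
  obtain ⟨h, hh, k, hk, hgk⟩ := hHK g⁻¹
  let R : Sylow p G := h⁻¹ • R₁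
  have hcard : ∀ {L : Subgroup G} (S : Sylow p L) (a : G),
      Nat.card (MulAut.conj a • (S : Subgroup L).map L.subtype : Subgroup G) =
        p ^ (Nat.card L).factorization p := by
    intro L S a
    rw [← Nat.card_congr (Subgroup.equivSMul (MulAut.conj a) _).toEquiv,
      Subgroup.card_map_of_injective L.subtype_injective, S.card_eq_multiplicity]
  have key : ∀ {L : Subgroup G} (S : Sylow p L) (a : G),
      MulAut.conj a • (S : Subgroup L).map L.subtype ≤ (R : Subgroup G) → a ∈ L →
      ∃ T : Sylow p L, (T : Subgroup L).map L.subtype = (R : Subgroup G) ⊓ L := by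
    intro L S a hle ha
    have hleL : MulAut.conj a • (S : Subgroup L).map L.subtype ≤ L := by
      have := (Subgroup.pointwise_smul_le_pointwise_smul_iff (a := MulAut.conj a)).mpr
        (Subgroup.map_subtype_le (S : Subgroup L))
      rwa [Subgroup.conj_smul_eq_self_of_mem ha] at this
    refine Coprime.exists_sylow_map_eq inf_le_right (le_antisymm ?_ ?_)
    · exact Coprime.card_le_of_isPGroup (R.isPGroup'.to_le inf_le_left) inf_le_right
    · rw [← hcard S a]
      exact Subgroup.card_le_of_le (le_inf hle hleL)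
  obtain ⟨P, hP⟩ := key P₁ h⁻¹ (by
    show _ ≤ ((h⁻¹ • R₁ : Sylow p G) : Subgroup G)
    rw [Sylow.coe_subgroup_smul, Subgroup.pointwise_smul_le_pointwise_smul_iff]
    exact hR₁) (inv_mem hh)
  obtain ⟨Q, hQ⟩ := key Q₁ k (by
    show _ ≤ ((h⁻¹ • R₁ : Sylow p G) : Subgroup G)
    have e : R₁ = (h * k) • R₂ := by rw [← hgk, ← hg, inv_smul_smul]
    have e2 : h⁻¹ • R₁ = k • R₂ := by rw [e, ← mul_smul, inv_mul_cancel_left]
    rw [e2, Sylow.coe_subgroup_smul, Subgroup.pointwise_smul_le_pointwise_smul_iff]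
    exact hR₂) hk
  refine ⟨P, Q, R, ?_⟩
  rw [hP, hQ]
  symm
  refine Set.eq_of_subset_of_ncard_le ?_ ?_ (Set.toFinite _)
  · rintro _ ⟨x, hx, y, hy, rfl⟩
    exact mul_mem (Subgroup.mem_inf.mp hx).1 (Subgroup.mem_inf.mp hy).1
  rw [← Nat.card_coe_set_eq, ← Nat.card_coe_set_eq]
  have hG := Coprime.card_mul_inf H K
  have huniv : ((H : Set G) * (K : Set G)) = Set.univ := by
    refine Set.eq_univ_of_forall fun x => ?_
    obtain ⟨a, ha, b, hb, rfl⟩ := hHK x
    exact Set.mul_mem_mul ha hb
  rw [huniv, Nat.card_univ] at hG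
  have hf := congrArg (fun n => n.factorization p) hG
  simp only [Nat.factorization_mul Nat.card_pos.ne' Nat.card_pos.ne', Finsupp.add_apply] at hf
  have hPQ := Coprime.card_mul_inf ((R : Subgroup G) ⊓ H) ((R : Subgroup G) ⊓ K)
  have c1 : Nat.card ((R : Subgroup G) ⊓ H : Subgroup G) = p ^ (Nat.card H).factorization p := by
    rw [← hP, Subgroup.card_map_of_injective H.subtype_injective, P.card_eq_multiplicity]
  have c2 : Nat.card ((R : Subgroup G) ⊓ K : Subgroup G) = p ^ (Nat.card K).factorization p := by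
    rw [← hQ, Subgroup.card_map_of_injective K.subtype_injective, Q.card_eq_multiplicity]
  have c3 : Nat.card (((R : Subgroup G) ⊓ H) ⊓ ((R : Subgroup G) ⊓ K) : Subgroup G) ≤
      p ^ (Nat.card (H ⊓ K : Subgroup G)).factorization p :=
    Coprime.card_le_of_isPGroup ((R.isPGroup'.to_le inf_le_left).to_le inf_le_left)
      (inf_le_inf inf_le_right inf_le_right)
  rw [c1, c2, ← pow_add, ← hf, pow_add, ← R.card_eq_multiplicity] at hPQ
  refine Nat.le_of_mul_le_mul_right ?_ (Nat.pow_pos hp.pos (n := (Nat.card (H ⊓ K : Subgroup G)).factorization p))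
  calc Nat.card ↥(R : Subgroup G) * p ^ (Nat.card (H ⊓ K : Subgroup G)).factorization p
      = _ := hPQ.symm
    _ ≤ _ := Nat.mul_le_mul_left _ c3

end Cfsg.Agent.S0560
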