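import Cfsg.Statements.S0561
import Cfsg.Agent.Lib.Solvable.NilpotentHall
import Cfsg.Agent.Lib.Solvable.Converse

set_option autoImplicit false
open Pointwise
open Cfsg

namespace Cfsg.Agent.S0561

/-- Let the finite solvable group G be the product HK of subgroups, and let A be normal in H and B normal in K, where A and B are Hall subgroups of G (order coprime to index). Then for all x, y the product set of xAx⁻¹ and yBy⁻¹ is a subgroup of G. -/
theorem result {G : Type*} [Group G] [Finite G] [Group.IsSolvable G] (H K A B : Subgroup G) (hHK : ∀ g : G, ∃ h ∈ H, ∃ k ∈ K, g = h * k) (hA : A ≤ H) (hAn : (A.subgroupOf H).Normal) (hB : B ≤ K) (hBn : (B.subgroupOf K).Normal) (hAh : (Nat.card A).Coprime A.index) (hBh : (Nat.card B).Coprime B.index) (x y : G) : ∃ S : Subgroup G, (S : Set G) = ((MulAut.conj x • A : Subgroup G) : Set G) * ((MulAut.conj y • B : Subgroup G) : Set G) := by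
  have hnormA : ∀ h ∈ H, MulAut.conj h • A = A := fun h hh =>
    Solvable.mem_normalizer_iff_conj.1 (Subgroup.le_normalizer_of_normal_subgroupOf hA hh)
  have hnormB : ∀ k ∈ K, MulAut.conj k • B = B := fun k hk =>
    Solvable.mem_normalizer_iff_conj.1 (Subgroup.le_normalizer_of_normal_subgroupOf hB hk)
  have hAπ : Cfsg.IsPiHall ((Nat.card A).primeFactors : Set ℕ) A :=
    (Solvable.isPiHall_primeFactors_iff A.card_mul_index.symm hAh).2 rfl
  obtain ⟨B', hB', hperm⟩ :=
    Solvable.exists_permuting_hall (ρ := ((Nat.card B).primeFactors : Set ℕ)) hAπ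
  obtain ⟨g, hg⟩ := Solvable.conj_of_coprime_index_of_card_eq hBh
    ((Solvable.isPiHall_primeFactors_iff B.card_mul_index.symm hBh).1 hB')
  obtain ⟨h, hh, k, hk, rfl⟩ := hHK g
  rw [← Solvable.conj_conj, hnormB k hk] at hg
  rw [← hg] at hperm
  have hAB : (A : Set G) * B = (B : Set G) * A := by
    have h1 := congrArg (fun X : Set G => (MulAut.conj h⁻¹).toMonoidHom '' X) hperm
    simp only [Set.image_mul] at h1
    have hA1 : (MulAut.conj h⁻¹).toMonoidHom '' (A : Set G) = A :=
      congrArg (fun L : Subgroup G => (L : Set G)) (hnormA h⁻¹ (inv_mem hh))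
    have hB1 : (MulAut.conj h⁻¹).toMonoidHom '' ((MulAut.conj h • B : Subgroup G) : Set G) = B :=
      congrArg (fun L : Subgroup G => (L : Set G)) (Solvable.conj_inv_smul h B)
    rw [hA1, hB1] at h1
    exact h1
  obtain ⟨T, hT⟩ := Solvable.exists_subgroup_mul hAB
  obtain ⟨a, ha, b, hb, hab⟩ := hHK (x⁻¹ * y)
  refine ⟨MulAut.conj (x * a) • T, ?_⟩
  have e1 : MulAut.conj x • A = MulAut.conj (x * a) • A := by
    rw [← Solvable.conj_conj, hnormA a ha]
  have e2 : MulAut.conj y • B = MulAut.conj (x * a) • B := by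
    rw [show y = x * a * b by rw [mul_assoc, ← hab, mul_inv_cancel_left], ← Solvable.conj_conj,
      hnormB b hb]
  rw [e1, e2]
  show (MulAut.conj (x * a)).toMonoidHom '' (T : Set G) = _
  rw [hT, Set.image_mul]
  rfl

end Cfsg.Agent.S0561
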