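import Cfsg.Statements.S0563
import Cfsg.Agent.Lib.Products.KegelWielandt
-- import your own Cfsg.Agent.* helpers here

set_option autoImplicit false
open Pointwise
open Cfsg

namespace Cfsg.Agent.S0563

/-- If a finite group G is the product AB of two nilpotent subgroups of coprime orders, then G is solvable, and for every Sylow p-subgroup P of A and Sylow q-subgroup Q of B the product set PQ is a subgroup. -/
theorem result {G : Type*} [Group G] [Finite G] (A B : Subgroup G) (hA : Group.IsNilpotent A) (hB : Group.IsNilpotent B) (hcop : (Nat.card A).Coprime (Nat.card B)) (hAB : ∀ g : G, ∃ a ∈ A, ∃ b ∈ B, g = a * b) : Group.IsSolvable G ∧ ∀ (p q : ℕ) [Fact p.Prime] [Fact q.Prime] (P : Sylow p A) (Q : Sylow q B), ∃ S : Subgroup G, (S : Set G) = (((P : Subgroup A).map A.subtype : Subgroup G) : Set G) * (((Q : Subgroup B).map B.subtype : Subgroup G) : Set G) := by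
  classical
  have hs := Cfsg.Agent.Products.kegel_wielandt hA hB hAB
  refine ⟨hs, fun p q hp hq P Q => ?_⟩
  have P0 : Cfsg.Agent.Products.NPair A B := ⟨hA, hB, hcop, hAB⟩
  set X := (P : Subgroup A).map A.subtype with hX
  set Y := (Q : Subgroup B).map B.subtype with hY
  obtain ⟨i, hi⟩ := IsPGroup.iff_card.mp P.2
  obtain ⟨j, hj⟩ := IsPGroup.iff_card.mp Q.2
  have hcX : Nat.card X = p ^ i := by rw [hX, Subgroup.card_map_of_injective A.subtype_injective, hi]
  have hcY : Nat.card Y = q ^ j := by rw [hY, Subgroup.card_map_of_injective B.subtype_injective, hj]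
  by_cases hX1 : X = ⊥
  · exact ⟨Y, by rw [hX1]; simp⟩
  by_cases hY1 : Y = ⊥
  · exact ⟨X, by rw [hY1]; simp⟩
  have hpA : p ∣ Nat.card A := by
    have : i ≠ 0 := fun e => hX1 (Subgroup.card_eq_one.mp (by rw [hcX, e, pow_zero]))
    exact (dvd_pow_self p this).trans (hcX ▸ Subgroup.card_dvd_of_le (Subgroup.map_subtype_le _))
  have hqB : q ∣ Nat.card B := by
    have : j ≠ 0 := fun e => hY1 (Subgroup.card_eq_one.mp (by rw [hcY, e, pow_zero]))
    exact (dvd_pow_self q this).trans (hcY ▸ Subgroup.card_dvd_of_le (Subgroup.map_subtype_le _))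
  have hpB := Cfsg.Agent.Products.not_dvd_right P0 hp.out hpA
  have hqA := Cfsg.Agent.Products.not_dvd_right P0.symm hq.out hqB
  have hXn : A ≤ Subgroup.normalizer (X : Set G) := by
    haveI := hA
    intro a ha
    exact Subgroup.le_normalizer_map A.subtype
      ⟨⟨a, ha⟩, (Subgroup.normalizer_eq_top_iff.mpr inferInstance).ge (Subgroup.mem_top _), rfl⟩
  have hYn : B ≤ Subgroup.normalizer (Y : Set G) := by
    haveI := hB
    intro b hb
    exact Subgroup.le_normalizer_map B.subtype
      ⟨⟨b, hb⟩, (Subgroup.normalizer_eq_top_iff.mpr inferInstance).ge (Subgroup.mem_top _), rfl⟩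
  obtain ⟨S, hS, hXS⟩ := Solvable.exists_piHall_ge_of_solvable (π := ({p, q} : Set ℕ)) (U := X)
    (hcX ▸ Solvable.isPiNum_pow hp.out (Set.mem_insert p _) i)
  have hSidx : ¬ q ∣ S.index := fun h =>
    (Solvable.isPiHall_iff.mp hS).2 q hq.out h (Set.mem_insert_of_mem p rfl)
  obtain ⟨T⟩ : Nonempty (Sylow q S) := inferInstance
  have hT : ¬ q ∣ ((T : Subgroup S).map S.subtype).index := by
    rw [Subgroup.index_map_subtype]
    exact hq.out.not_dvd_mul T.not_dvd_index hSidx
  have hYidx : ¬ q ∣ Y.index := by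
    rw [hY, Subgroup.index_map_subtype, P0.index_right]
    exact hq.out.not_dvd_mul Q.not_dvd_index hqA
  obtain ⟨c, hc⟩ := MulAction.exists_smul_eq G ((Q.2.map B.subtype).toSylow hYidx)
    ((T.2.map S.subtype).toSylow hT)
  obtain ⟨a, ha, b, hb, rfl⟩ := hAB c
  set S' : Subgroup G := MulAut.conj a⁻¹ • S with hS'
  have hXS' : X ≤ S' := by
    rw [← Solvable.mem_normalizer_iff_conj.mp (hXn (inv_mem ha))]
    exact Solvable.conj_mono _ hXS
  have hYS' : Y ≤ S' := by
    have h1 : MulAut.conj (a * b) • Y ≤ S := by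
      have h2 := congrArg (fun R : Sylow q G => (R : Subgroup G)) hc
      simp only [Sylow.coe_subgroup_smul] at h2
      exact h2.le.trans (Subgroup.map_subtype_le _)
    rw [← Solvable.conj_conj, Solvable.mem_normalizer_iff_conj.mp (hYn hb)] at h1
    rw [← Solvable.conj_inv_smul a Y]
    exact Solvable.conj_mono _ h1
  refine ⟨S', Cfsg.Agent.Products.permutes_of_card hXS' hYS' ?_⟩
  have hbot : X ⊓ Y = ⊥ := le_bot_iff.mp
    ((inf_le_inf (Subgroup.map_subtype_le _) (Subgroup.map_subtype_le _)).trans P0.inf_eq_bot.le)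
  rw [hbot, Subgroup.card_bot, mul_one]
  refine Nat.dvd_antisymm ?_ ?_
  · refine Nat.Coprime.mul_dvd_of_dvd_of_dvd ?_ (Subgroup.card_dvd_of_le hXS') (Subgroup.card_dvd_of_le hYS')
    exact (hcop.coprime_dvd_left (Subgroup.card_dvd_of_le (Subgroup.map_subtype_le _))).coprime_dvd_right
      (Subgroup.card_dvd_of_le (Subgroup.map_subtype_le _))
  · have hd : Nat.card S' ∣ (Nat.card X * Nat.card Y) * ((P : Subgroup A).index * (Q : Subgroup B).index) := by
      rw [show Nat.card X * Nat.card Y * ((P : Subgroup A).index * (Q : Subgroup B).index) =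
        (Nat.card X * (P : Subgroup A).index) * (Nat.card Y * (Q : Subgroup B).index) by ring,
        hcX, hcY, ← hi, ← hj, Subgroup.card_mul_index, Subgroup.card_mul_index, P0.card_mul]
      exact Subgroup.card_subgroup_dvd_card S'
    refine Nat.Coprime.dvd_of_dvd_mul_right ?_ hd
    rw [hS', Solvable.card_conj]
    refine Nat.coprime_of_dvd fun r hr h1 h2 => ?_
    rcases (Solvable.isPiHall_iff.mp hS).1 r hr h1 with rfl | hmem
    · rcases hr.dvd_mul.mp h2 with h | h
      · exact P.not_dvd_index h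
      · exact hpB (h.trans (Subgroup.index_dvd_card _))
    · obtain rfl : r = q := hmem
      rcases hr.dvd_mul.mp h2 with h | h
      · exact hqA (h.trans (Subgroup.index_dvd_card _))
      · exact Q.not_dvd_index h

end Cfsg.Agent.S0563
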