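import Cfsg.Statements.S0565
import Cfsg.Agent.Lib.Products.KegelWielandt
import Cfsg.Agent.Lib.Cores.Frattini
-- import your own Cfsg.Agent.* helpers here

set_option autoImplicit false
open Cfsg

namespace Cfsg.Agent.S0565

open scoped Pointwise

universe u

theorem exists_ge_of_nilpotent {G : Type u} [Group G] [Finite G] [Group.IsNilpotent G]
    {A : Subgroup G} (hA : A ≠ ⊤) : ∃ N : Subgroup G, N.Normal ∧ N ≠ ⊤ ∧ A ≤ N := by
  obtain ⟨M, hM, hle⟩ := (eq_top_or_exists_le_coatom A).resolve_left hA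
  exact ⟨M, Cores.coatom_normal_of_nilpotent hM, hM.1, hle⟩

/-- A non-normal nilpotent complement of an abelian minimal normal subgroup is the normaliser of
its Hall `p'`-part. -/
theorem normalizer_pPart {G : Type u} [Group G] [Finite G] {A M : Subgroup G} [M.Normal]
    [IsMulCommutative M] {p : ℕ} [Fact p.Prime] (hMp : IsPGroup p M)
    (hmin : ∀ K : Subgroup G, K.Normal → K ≤ M → K = ⊥ ∨ K = M) (hdis : A ⊓ M = ⊥)
    (hsup : A ⊔ M = ⊤) (hnA : ¬ A.Normal) {Q K : Subgroup G} (hQA : Q ≤ A) (hKA : K ≤ A)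
    (hQ : IsPGroup p Q) (hNQ : A ≤ Subgroup.normalizer (Q : Set G))
    (hNK : A ≤ Subgroup.normalizer (K : Set G)) (hs : Q ⊔ K = A) :
    Subgroup.normalizer (K : Set G) ≤ A := by
  intro x hx
  have hxt : x ∈ ((A ⊔ M : Subgroup G) : Set G) := hsup ▸ Subgroup.mem_top x
  rw [Subgroup.mul_normal] at hxt
  obtain ⟨a, ha, m, hm, rfl⟩ := hxt
  have hmN : m ∈ Subgroup.normalizer (K : Set G) := by
    have := mul_mem (inv_mem (hNK ha)) hx
    rwa [inv_mul_cancel_left] at this
  have hcm : ∀ k ∈ K, k * m = m * k := fun k hk => by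
    have h1 : m * k * m⁻¹ * k⁻¹ ∈ A ⊓ M := ⟨A.mul_mem
      (hKA ((Subgroup.mem_normalizer_iff.mp hmN k).mp hk)) (A.inv_mem (hKA hk)), by
      rw [show m * k * m⁻¹ * k⁻¹ = m * (k * m⁻¹ * k⁻¹) by group]
      exact M.mul_mem hm ((inferInstance : M.Normal).conj_mem _ (M.inv_mem hm) k)⟩
    rw [hdis, Subgroup.mem_bot, mul_inv_eq_one, mul_inv_eq_iff_eq_mul] at h1
    exact h1.symm
  have hmemC : ∀ y ∈ A, ∀ f : G, f ∈ Subgroup.centralizer (K : Set G) →
      y * f * y⁻¹ ∈ Subgroup.centralizer (K : Set G) := by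
    intro y hy f hf
    refine Subgroup.mem_centralizer_iff.mpr fun k hk => ?_
    have h1 := Subgroup.mem_centralizer_iff.mp hf _
      ((Subgroup.mem_normalizer_iff.mp (inv_mem (hNK hy)) k).mp hk)
    have h2 := congrArg (fun t => y * t * y⁻¹) h1
    simpa [mul_assoc] using h2
  have hMN : ∀ y : G, y ∈ Subgroup.normalizer (M : Set G) := fun y =>
    (Subgroup.normalizer_eq_top_iff.mpr inferInstance).ge (Subgroup.mem_top y)
  set F := M ⊓ Subgroup.centralizer (K : Set G) with hF
  have hFn : F.Normal := by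
    refine Subgroup.normalizer_eq_top_iff.mp (eq_top_iff.mpr ?_)
    rw [← hsup]
    refine sup_le (fun y hy => Subgroup.mem_normalizer_iff.mpr fun f => and_congr
      (Subgroup.mem_normalizer_iff.mp (hMN y) f) ⟨hmemC y hy f, fun h => ?_⟩) fun y hy => ?_
    · simpa [mul_assoc] using hmemC y⁻¹ (inv_mem hy) _ h
    · refine Subgroup.centralizer_le_normalizer _ (Subgroup.mem_centralizer_iff.mpr fun f hf => ?_)
      exact congrArg Subtype.val (mul_comm' (⟨f, hf.1⟩ : M) ⟨y, hy⟩)
  rcases hmin F hFn inf_le_left with h | h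
  · have hmF : m ∈ F := ⟨hm, Subgroup.mem_centralizer_iff.mpr hcm⟩
    rw [h, Subgroup.mem_bot] at hmF
    simpa [hmF] using ha
  exfalso
  refine hnA ?_
  -- otherwise all of `A` centralises `M`
  have hAM : A ≤ Subgroup.centralizer (M : Set G) := by
    rw [← hs]
    refine sup_le ?_ fun k hk => Subgroup.mem_centralizer_iff.mpr fun v hv =>
      (Subgroup.mem_centralizer_iff.mp ((h.ge.trans inf_le_right) hv) k hk).symm
    have hPn : (Q ⊔ M).Normal := by
      refine Subgroup.normalizer_eq_top_iff.mp (eq_top_iff.mpr ?_)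
      rw [← hsup]
      exact sup_le ((le_inf hNQ fun y _ => hMN y).trans
        (Cores.normalizer_inf_le_normalizer_sup Q M))
        (le_sup_right.trans Subgroup.le_normalizer)
    have hp' : IsPGroup p ↥(Q ⊔ M) := hQ.to_sup_of_normal_right hMp
    have hfit : Q ⊔ M ≤ Cfsg.fittingSubgroup G := Cores.le_fittingSubgroup hPn hp'.isNilpotent
    exact (le_sup_left.trans hfit).trans (Cores.fitting_le_centralizer_minimalNormal M hmin)
  refine Subgroup.normalizer_eq_top_iff.mp (eq_top_iff.mpr ?_)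
  rw [← hsup]
  refine sup_le Subgroup.le_normalizer fun y hy => Subgroup.centralizer_le_normalizer _ ?_
  exact Subgroup.mem_centralizer_iff.mpr fun a ha =>
    (Subgroup.mem_centralizer_iff.mp (hAM ha) y hy).symm

theorem aux : ∀ (n : ℕ) (G : Type u) [Group G] [Finite G], Nat.card G = n →
    ∀ A B : Subgroup G, Group.IsNilpotent A → Group.IsNilpotent B →
      (∀ g : G, ∃ a ∈ A, ∃ b ∈ B, g = a * b) → (A ≠ ⊤ ∨ B ≠ ⊤) →
      ∃ N : Subgroup G, N.Normal ∧ N ≠ ⊤ ∧ (A ≤ N ∨ B ≤ N) := by
  intro n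
  induction n using Nat.strong_induction_on with
  | _ n ih =>
    intro G _ _ hn A B hA hB hAB hproper
    haveI := Products.kegel_wielandt hA hB hAB
    haveI : Nontrivial G := by
      by_contra hnt
      haveI := not_nontrivial_iff_subsingleton.mp hnt
      rcases hproper with h | h <;> exact h (Subsingleton.elim _ _)
    by_cases hAtop : A = ⊤
    · subst hAtop
      haveI := hA
      haveI : Group.IsNilpotent G := Group.nilpotent_of_mulEquiv Subgroup.topEquiv
      obtain ⟨N, h1, h2, h3⟩ := exists_ge_of_nilpotent (hproper.resolve_left fun h => h rfl)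
      exact ⟨N, h1, h2, Or.inr h3⟩
    by_cases hBtop : B = ⊤
    · subst hBtop
      haveI := hB
      haveI : Group.IsNilpotent G := Group.nilpotent_of_mulEquiv Subgroup.topEquiv
      obtain ⟨N, h1, h2, h3⟩ := exists_ge_of_nilpotent hAtop
      exact ⟨N, h1, h2, Or.inl h3⟩
    obtain ⟨M, hMn, hM1, hMmin⟩ := Cores.exists_minimal_normal (G := G)
    haveI := hMn
    haveI : Group.IsSolvable M := inferInstance
    obtain ⟨hMc, p, hp, hMp, -⟩ := Solvable.elementaryAbelian_of_minimal_normal M hM1 hMmin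
    haveI := hMc
    haveI := Fact.mk hp
    by_cases hq : A.map (QuotientGroup.mk' M) ≠ ⊤ ∨ B.map (QuotientGroup.mk' M) ≠ ⊤
    · obtain ⟨N, hNn, hNtop, hN⟩ := ih _ (hn ▸ Solvable.card_quotient_lt hM1) (G ⧸ M) rfl
        _ _ (Cores.isNilpotent_map _ hA) (Cores.isNilpotent_map _ hB) (fun x => by
          obtain ⟨g, rfl⟩ := QuotientGroup.mk'_surjective M x
          obtain ⟨a, ha, b, hb, rfl⟩ := hAB g
          exact ⟨_, Subgroup.mem_map_of_mem _ ha, _, Subgroup.mem_map_of_mem _ hb, map_mul _ a b⟩) hq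
      refine ⟨N.comap (QuotientGroup.mk' M), inferInstance, fun e => hNtop ?_,
        hN.imp Subgroup.map_le_iff_le_comap.mp Subgroup.map_le_iff_le_comap.mp⟩
      rw [← Subgroup.map_comap_eq_self_of_surjective (QuotientGroup.mk'_surjective M) N, e,
        Subgroup.map_top_of_surjective _ (QuotientGroup.mk'_surjective M)]
    push Not at hq
    have hsupA : A ⊔ M = ⊤ := by
      have := congrArg (Subgroup.comap (QuotientGroup.mk' M)) hq.1
      rwa [Subgroup.comap_map_eq, QuotientGroup.ker_mk', Subgroup.comap_top] at this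
    have hsupB : B ⊔ M = ⊤ := by
      have := congrArg (Subgroup.comap (QuotientGroup.mk' M)) hq.2
      rwa [Subgroup.comap_map_eq, QuotientGroup.ker_mk', Subgroup.comap_top] at this
    have hcompl : ∀ C : Subgroup G, C ≠ ⊤ → C ⊔ M = ⊤ → Subgroup.IsComplement' M C := by
      intro C hC hsup
      refine Solvable.isComplement'_of_minimal_normal_abelian hMmin hsup fun h => hC ?_
      rw [← hsup, sup_eq_left.mpr h]
    have hcA := hcompl A hAtop hsupA
    have hcB := hcompl B hBtop hsupB
    have hcardA : Nat.card A = M.index := hcA.symm.index_eq_card.symm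
    have hcardB : Nat.card B = M.index := hcB.symm.index_eq_card.symm
    by_cases hnA : A.Normal
    · exact ⟨A, hnA, hAtop, Or.inl le_rfl⟩
    obtain ⟨QA, KA, hQAA, hKAA, hQA, hKA, hNQA, hNKA, hsA, -, hcQA, -, -⟩ := Products.exists_pPart p A hA
    obtain ⟨QB, KB, -, hKBB, hQB, hKB, -, hNKB, -, -, hcQB, -, -⟩ := Products.exists_pPart p B hB
    obtain ⟨i, hi⟩ := IsPGroup.iff_card.mp hQA
    obtain ⟨j, hj⟩ := IsPGroup.iff_card.mp hQB
    have hKK : Nat.card KA = Nat.card KB := by
      have e : p ^ i * Nat.card KA = p ^ j * Nat.card KB := by rw [← hi, ← hj, hcQA, hcQB, hcardA, hcardB]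
      exact Nat.dvd_antisymm
        ((hKA.pow_right j).dvd_of_dvd_mul_left (e ▸ Dvd.intro_left _ rfl))
        ((hKB.pow_right i).dvd_of_dvd_mul_left (e.symm ▸ Dvd.intro_left _ rfl))
    have hHall : (Nat.card KB).Coprime KB.index := by
      obtain ⟨k, hk⟩ := IsPGroup.iff_card.mp hMp
      have : KB.index = p ^ (k + j) := by
        refine Nat.eq_of_mul_eq_mul_left (Nat.card_pos (α := KB)) ?_
        rw [KB.card_mul_index, ← hcB.card_mul, ← hcQB, hk, hj, pow_add]
        ring
      rw [this]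
      exact hKB.pow_right _
    haveI := hA
    haveI := hB
    haveI : Group.IsNilpotent KA := CN.isNilpotent_of_le hKAA
    haveI : Group.IsNilpotent KB := CN.isNilpotent_of_le hKBB
    obtain ⟨g, hg⟩ := Transfer.nilpotent_hall_conj (H := KB) (K := KA) hKK.symm hHall
    have hNA := normalizer_pPart hMp hMmin hcA.symm.disjoint.eq_bot hsupA hnA hQAA hKAA hQA hNQA hNKA hsA
    exfalso
    have hBA : MulAut.conj g • B ≤ A := by
      rw [Solvable.conj_eq_map]
      refine ((Subgroup.map_mono hNKB).trans (Subgroup.le_normalizer_map _)).trans ?_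
      rw [hg]
      exact hNA
    have heq : MulAut.conj g • B = A := Subgroup.eq_of_le_of_card_ge hBA
      (by rw [Solvable.card_conj, hcardA, hcardB])
    obtain ⟨a, ha, b, hb, rfl⟩ := hAB g
    rw [← Solvable.conj_conj, Solvable.conj_eq_self hb] at heq
    have hBeq : B = A := by
      have := Solvable.eq_conj_inv heq
      rw [Solvable.conj_eq_self (A.inv_mem ha)] at this
      exact this.symm
    refine hAtop (eq_top_iff.mpr fun x _ => ?_)
    obtain ⟨a, ha, b, hb, rfl⟩ := hAB x
    exact A.mul_mem ha (hBeq ▸ hb)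


/-- Let the finite group G be the product AB of nilpotent subgroups A and B, not both equal to G. Then there is a proper normal subgroup of G containing A or containing B. -/
theorem result {G : Type*} [Group G] [Finite G] (A B : Subgroup G) (hA : Group.IsNilpotent A) (hB : Group.IsNilpotent B) (hAB : ∀ g : G, ∃ a ∈ A, ∃ b ∈ B, g = a * b) (hproper : A ≠ ⊤ ∨ B ≠ ⊤) : ∃ N : Subgroup G, N.Normal ∧ N ≠ ⊤ ∧ (A ≤ N ∨ B ≤ N) := by
  exact aux _ G rfl A B hA hB hAB hproper

end Cfsg.Agent.S0565
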