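import Cfsg.Statements.S0566
import Cfsg.Agent.Lib.Products.Permute
import Cfsg.Agent.EqLemmas

set_option autoImplicit false
open Pointwise
open Cfsg

namespace Cfsg.Agent.S0566

/-- Let A and B be nontrivial subgroups of a finite group G such that for every x the product set of A and xBx⁻¹ is a proper subgroup of G. Then there is a proper normal subgroup of G containing A or containing B. -/
theorem result {G : Type*} [Group G] [Finite G] (A B : Subgroup G) (hA : A ≠ ⊥) (hB : B ≠ ⊥) (h : ∀ x : G, ∃ S : Subgroup G, S ≠ ⊤ ∧ (S : Set G) = (A : Set G) * ((MulAut.conj x • B : Subgroup G) : Set G)) : ∃ N : Subgroup G, N.Normal ∧ N ≠ ⊤ ∧ (A ≤ N ∨ B ≤ N) := by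
  have hperm : ∀ x : G, Cfsg.Agent.Products.Permutes A (MulAut.conj x • B) := fun x => by
    obtain ⟨S, -, hS⟩ := h x
    exact Cfsg.Agent.Products.permutes_of_coe_eq hS
  have hQ : ∀ g : G, A ⊔ MulAut.conj g • B ≠ ⊤ := fun g e => by
    obtain ⟨S, hS1, hS⟩ := h g
    refine hS1 (SetLike.coe_injective ?_)
    rw [hS, ← (hperm g).coe_sup, e]
  obtain ⟨A', hle, hQ', -, hN⟩ := Cfsg.Agent.Products.exists_normalized_ge hperm
    (fun A' => ∀ g : G, A' ⊔ MulAut.conj g • B ≠ ⊤) hQ (by
      intro A' g b hA' _ _ hp2 heq y htop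
      apply hA' g
      rw [← heq]
      set A'' := A' ⊔ MulAut.conj b • A'
      have hfac : ∀ t : G, ∃ a ∈ A'', ∃ c ∈ MulAut.conj y • B, t = a * c := fun t => by
        have ht : t ∈ ((A'' ⊔ MulAut.conj y • B : Subgroup G) : Set G) := htop ▸ Subgroup.mem_top t
        rw [(hp2 y).coe_sup] at ht
        obtain ⟨a, ha, c, hc, e⟩ := ht
        exact ⟨a, ha, c, hc, e.symm⟩
      -- the element moving `B^y` to `B^g` factorises through `A''` and `B^y`
      obtain ⟨a, ha, c, hc, e⟩ := hfac (g * y⁻¹)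
      have hBg : MulAut.conj g • B = MulAut.conj a • (MulAut.conj y • B) := by
        rw [← Subgroup.conj_smul_eq_self_of_mem hc, ← mul_smul, ← mul_smul, ← map_mul, ← map_mul,
          ← e, inv_mul_cancel_right]
      refine top_le_iff.mp ?_
      rw [← htop, hBg]
      refine sup_le le_sup_left fun x hx => ?_
      have h1 : a * x * a⁻¹ ∈ MulAut.conj a • (MulAut.conj y • B) :=
        Subgroup.smul_mem_pointwise_smul x (MulAut.conj a) _ hx
      have ha' : a ∈ A'' ⊔ MulAut.conj a • (MulAut.conj y • B) := Subgroup.mem_sup_left ha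
      have := mul_mem (mul_mem (inv_mem ha') (Subgroup.mem_sup_right h1)) ha'
      simpa [mul_assoc] using this)
  by_cases hB' : Subgroup.normalClosure (B : Set G) = ⊤
  · refine ⟨A', ?_, fun e => hQ' 1 (by rw [e]; exact top_sup_eq _), Or.inl hle⟩
    exact Subgroup.normalizer_eq_top_iff.mp (top_le_iff.mp (hB' ▸ hN))
  · exact ⟨_, Subgroup.normalClosure_normal, hB', Or.inr Subgroup.le_normalClosure⟩

end Cfsg.Agent.S0566
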