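import Cfsg.Statements.S0570
import Cfsg.Agent.Lib.Solvable.Carter

set_option autoImplicit false
open Cfsg

namespace Cfsg.Agent.S0570

/-- Let G be a finite group with a nilpotent normal subgroup F such that G modulo F is nilpotent (nilpotent length at most two). Then a subgroup of G is a Carter subgroup if and only if it is the system normalizer of some Hall complement system. -/
theorem result {G : Type*} [Group G] [Finite G] (F : Subgroup G) [F.Normal] (hF : Group.IsNilpotent F) (hGF : Group.IsNilpotent (G ⧸ F)) (C : Subgroup G) : Cfsg.IsCarterSubgroup C ↔ ∃ K : Nat.Primes → Subgroup G, Cfsg.IsComplementSystem K ∧ C = Cfsg.systemNormalizer K := by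
  have := hF
  have := hGF
  have : Group.IsSolvable G := (Cfsg.Agent.Solvable.isSolvable_subgroup_quotient_iff F).2
    ⟨inferInstance, inferInstance⟩
  have key : ∀ C : Subgroup G, Cfsg.IsCarterSubgroup C → ∀ K : Nat.Primes → Subgroup G,
      Cfsg.IsComplementSystem K → Cfsg.Agent.Solvable.Reduces K C →
        C = Cfsg.systemNormalizer K := fun C hC K hK hred => le_antisymm
    (Cfsg.Agent.Solvable.carter_le_systemNormalizer hF hGF hK hC hred)
    (Cfsg.Agent.Solvable.systemNormalizer_le_of_reduces hK hC hred)
  constructor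
  · intro hC
    obtain ⟨K, hK, hred⟩ := Cfsg.Agent.Solvable.exists_reduces C
    exact ⟨K, hK, key C hC K hK hred⟩
  · rintro ⟨K, hK, rfl⟩
    obtain ⟨C0, hC0⟩ := Cfsg.Agent.Solvable.exists_carter (G := G)
    obtain ⟨K0, hK0, hred⟩ := Cfsg.Agent.Solvable.exists_reduces C0
    obtain ⟨g, hg⟩ := Cfsg.Agent.Solvable.complementSystem_conj hK0 hK
    rw [← funext hg, Cfsg.Agent.Solvable.systemNormalizer_conj, ← key C0 hC0 K0 hK0 hred]
    exact Cfsg.Agent.Solvable.isCarter_conj hC0 g

end Cfsg.Agent.S0570
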