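import Cfsg.Statements.S0573
import Cfsg.Agent.EqLemmas
import Cfsg.Agent.S0572

set_option autoImplicit false
open Cfsg
open scoped commutatorElement

namespace Cfsg.Agent.S0573

section
variable {G : Type*} [Group G] [Finite G]

/-- Two homomorphisms from a group of coprime order which agree modulo an abelian subgroup `V`
normalised by their images are conjugate by an element of `V`. -/
theorem exists_conj_of_congr_mod {Q : Type*} [Group Q] [Finite Q] (V : Subgroup G) [V.Normal]
    [IsMulCommutative V] (hcop : (Nat.card Q).Coprime (Nat.card V)) (φ ψ : Q →* G)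
    (h : ∀ q, φ q * (ψ q)⁻¹ ∈ V) : ∃ v ∈ V, ∀ q, φ q = v * ψ q * v⁻¹ := by
  classical
  haveI := Fintype.ofFinite Q
  open IsMulCommutative in
  obtain ⟨u, hu⟩ : ∃ u : V, ∀ q, (⟨φ q * (ψ q)⁻¹, h q⟩ : V) = u * (MulAut.conjNormal (ψ q) u)⁻¹ := by
    set c : Q → V := fun q => ⟨φ q * (ψ q)⁻¹, h q⟩ with hc
    set s : V := ∏ q, c q with hs
    have key : ∀ q, c q ^ Nat.card Q = s * (MulAut.conjNormal (ψ q) s)⁻¹ := by
      intro q
      have hmul : ∀ r, c (q * r) = c q * MulAut.conjNormal (ψ q) (c r) := fun r => by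
        ext
        simp [hc, MulAut.conjNormal_apply, mul_assoc]
      have : s = c q ^ Nat.card Q * MulAut.conjNormal (ψ q) s := by
        calc s = ∏ r, c (q * r) := (Equiv.prod_comp (Equiv.mulLeft q) c).symm
          _ = ∏ r, (c q * MulAut.conjNormal (ψ q) (c r)) := Finset.prod_congr rfl fun r _ => hmul r
          _ = _ := by rw [Finset.prod_mul_distrib, Finset.prod_const, Finset.card_univ,
              ← map_prod, Nat.card_eq_fintype_card]
      calc c q ^ Nat.card Q
          = c q ^ Nat.card Q * MulAut.conjNormal (ψ q) s * (MulAut.conjNormal (ψ q) s)⁻¹ :=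
            (mul_inv_cancel_right _ _).symm
        _ = _ := by rw [← this]
    obtain ⟨u, hu⟩ := (powCoprime (G := V) hcop.symm).surjective s
    rw [powCoprime_apply] at hu
    refine ⟨u, fun q => (powCoprime (G := V) hcop.symm).injective ?_⟩
    rw [powCoprime_apply, powCoprime_apply, mul_pow, inv_pow, ← map_pow, hu]
    exact key q
  refine ⟨u, u.2, fun q => ?_⟩
  have := congrArg Subtype.val (hu q)
  simp only [Subgroup.coe_mul, Subgroup.coe_inv, MulAut.conjNormal_apply] at this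
  calc φ q = φ q * (ψ q)⁻¹ * ψ q := by group
    _ = u * (ψ q * u * (ψ q)⁻¹)⁻¹ * ψ q := by rw [this]
    _ = _ := by group

/-- When all commutators lie in the abelian normal subgroup `V`, fixed points in `V` of any set of
elements form a normal subgroup. -/
theorem inf_centralizer_normal (V : Subgroup G) [hV : V.Normal] [IsMulCommutative V]
    (hG : commutator G ≤ V) (X : Set G) : (V ⊓ Subgroup.centralizer X).Normal := by
  constructor
  rintro x ⟨hxV, hxX⟩ g
  refine ⟨hV.conj_mem x hxV g, Subgroup.mem_centralizer_iff.mpr fun y hy => ?_⟩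
  have hyx : y * x = x * y := Subgroup.mem_centralizer_iff.mp hxX y hy
  have hm : y⁻¹ * (g⁻¹ * y * g) ∈ V := by
    have : ⁅y⁻¹, g⁻¹⁆ ∈ V := hG (Subgroup.commutator_mem_commutator trivial trivial)
    simpa [commutatorElement_def, mul_assoc] using this
  have hc : y⁻¹ * (g⁻¹ * y * g) * x = x * (y⁻¹ * (g⁻¹ * y * g)) :=
    congrArg Subtype.val (mul_comm' (⟨_, hm⟩ : V) ⟨x, hxV⟩)
  calc y * (g * x * g⁻¹) = g * y⁻¹⁻¹ * (y⁻¹ * (g⁻¹ * y * g) * x) * g⁻¹ := by group
    _ = g * (y * x) * (y⁻¹ * (g⁻¹ * y * g)) * g⁻¹ := by rw [hc]; group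
    _ = g * (x * y) * (y⁻¹ * (g⁻¹ * y * g)) * g⁻¹ := by rw [hyx]
    _ = _ := by group

/-- If a normal `p`-subgroup `V` containing the commutator subgroup has nontrivial fixed points under the
elements of `A` of order prime to `p`, it has them under all of `A`. -/
theorem fixed_of_fixed_coprime {p : ℕ} [Fact p.Prime] (A V : Subgroup G) [V.Normal]
    [IsMulCommutative A] [IsMulCommutative V] (hG : commutator G ≤ V) (hV : IsPGroup p V)
    (h : V ⊓ Subgroup.centralizer {a : G | a ∈ A ∧ (orderOf a).Coprime p} ≠ ⊥) :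
    V ⊓ Subgroup.centralizer (A : Set G) ≠ ⊥ := by
  classical
  set W := V ⊓ Subgroup.centralizer {a : G | a ∈ A ∧ (orderOf a).Coprime p} with hW
  haveI : W.Normal := inf_centralizer_normal V hG _
  obtain ⟨P⟩ := (inferInstance : Nonempty (Sylow p A))
  letI : MulAction ↥(P : Subgroup A) W := MulAction.compHom W
    ((MulAut.conjNormal (H := W)).comp (A.subtype.comp (P : Subgroup A).subtype))
  have hsmul : ∀ (q : ↥(P : Subgroup A)) (w : W),
      ((q • w : W) : G) = ((q : A) : G) * w * ((q : A) : G)⁻¹ := fun q w => rfl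
  have hWp : IsPGroup p W := hV.to_le inf_le_left
  have hdvd : p ∣ Nat.card W := hWp.card_eq_or_dvd.resolve_left fun e => h (Subgroup.card_eq_one.mp e)
  obtain ⟨w, hw, hw1⟩ := P.isPGroup'.exists_fixed_point_of_prime_dvd_card_of_fixed_point W hdvd
    (a := 1) (fun q => Subtype.ext (by rw [hsmul]; simp))
  intro hbot
  refine hw1 (Subtype.ext ?_)
  have : (w : G) ∈ V ⊓ Subgroup.centralizer (A : Set G) := by
    refine ⟨w.2.1, Subgroup.mem_centralizer_iff.mpr ?_⟩
    suffices hle : A ≤ Subgroup.centralizer {(w : G)} from fun a ha =>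
      Subgroup.mem_centralizer_singleton_iff.mp (hle ha)
    intro a ha
    have hPa : ∀ b : A, b ∈ (P : Subgroup A) → (b : G) ∈ Subgroup.centralizer {(w : G)} := by
      intro b hb
      rw [Subgroup.mem_centralizer_singleton_iff]
      have := congrArg Subtype.val (hw ⟨b, hb⟩)
      rw [hsmul] at this
      calc (b : G) * w = (b : G) * w * (b : G)⁻¹ * b := by group
        _ = w * b := by rw [this]
    set n := orderOf a with hn
    have hn0 : n ≠ 0 := (orderOf_pos a).ne'
    have hp : p.Prime := Fact.out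
    have h1 : a ^ (n / p ^ n.factorization p) ∈ Subgroup.centralizer {(w : G)} := by
      have hpg : IsPGroup p (Subgroup.zpowers (⟨a, ha⟩ ^ (n / p ^ n.factorization p) : A)) := by
        refine IsPGroup.of_card (n := n.factorization p) ?_
        rw [Nat.card_zpowers, orderOf_pow' _ (Nat.div_pos (Nat.ordProj_le p hn0) (pow_pos hp.pos _)).ne',
          Subgroup.orderOf_mk, ← hn, Nat.gcd_eq_right (Nat.div_dvd_of_dvd (Nat.ordProj_dvd n p)),
          Nat.div_div_self (Nat.ordProj_dvd n p) hn0]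
      obtain ⟨P', hP'⟩ := hpg.exists_le_sylow
      haveI : (P : Subgroup A).Normal := ⟨fun x hx g => by rwa [mul_comm' g x, mul_inv_cancel_right]⟩
      have : (P' : Subgroup A) = (P : Subgroup A) := by
        haveI := Sylow.unique_of_normal P inferInstance
        rw [Subsingleton.elim P' P]
      have := hPa _ (this ▸ hP' (Subgroup.mem_zpowers _))
      simpa using this
    have h2 : a ^ (p ^ n.factorization p) ∈ Subgroup.centralizer {(w : G)} := by
      rw [Subgroup.mem_centralizer_singleton_iff]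
      refine Subgroup.mem_centralizer_iff.mp w.2.2 _ ⟨pow_mem ha _, ?_⟩
      rw [orderOf_pow' _ (pow_pos hp.pos _).ne', ← hn, Nat.gcd_eq_right (Nat.ordProj_dvd n p)]
      exact (Nat.coprime_ordCompl hp hn0).symm
    have hg : Nat.gcd (p ^ n.factorization p) (n / p ^ n.factorization p) = 1 :=
      ((Nat.coprime_ordCompl hp hn0).pow_left _)
    have hb := Nat.gcd_eq_gcd_ab (p ^ n.factorization p) (n / p ^ n.factorization p)
    rw [hg] at hb
    rw [← zpow_one a, ← Nat.cast_one, hb, zpow_add, zpow_mul, zpow_mul, zpow_natCast, zpow_natCast]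
    exact mul_mem (zpow_mem h2 _) (zpow_mem h1 _)
  rw [hbot, Subgroup.mem_bot] at this
  simpa using this.symm

/-- The core of Itô's argument, when the derived subgroup lies in an abelian normal `p`-subgroup. -/
theorem fixed_of_commutator_le_pgroup {p : ℕ} [Fact p.Prime] (A B V : Subgroup G) [V.Normal]
    [IsMulCommutative A] [IsMulCommutative B] [IsMulCommutative V]
    (hAB : ∀ g : G, ∃ a ∈ A, ∃ b ∈ B, g = a * b) (hG : commutator G ≤ V) (hV : IsPGroup p V)
    (hne : V ≠ ⊥) :
    V ⊓ Subgroup.centralizer (A : Set G) ≠ ⊥ ∨ V ⊓ Subgroup.centralizer (B : Set G) ≠ ⊥ := by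
  classical
  by_contra hcon
  push Not at hcon
  obtain ⟨hA, hB⟩ := hcon
  have hp : p.Prime := Fact.out
  have hAc : ∀ {x y : G}, x ∈ A → y ∈ A → x * y = y * x := fun hx hy =>
    congrArg Subtype.val (mul_comm' (⟨_, hx⟩ : A) ⟨_, hy⟩)
  have hBc : ∀ {x y : G}, x ∈ B → y ∈ B → x * y = y * x := fun hx hy =>
    congrArg Subtype.val (mul_comm' (⟨_, hx⟩ : B) ⟨_, hy⟩)
  have hVc : ∀ {x y : G}, x ∈ V → y ∈ V → x * y = y * x := fun hx hy =>
    congrArg Subtype.val (mul_comm' (⟨_, hx⟩ : V) ⟨_, hy⟩)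
  have hVA : ∀ x ∈ A, x ∈ V → x = 1 := fun x hxA hxV => by
    have : x ∈ V ⊓ Subgroup.centralizer (A : Set G) :=
      ⟨hxV, Subgroup.mem_centralizer_iff.mpr fun y hy => hAc hy hxA⟩
    rwa [hA, Subgroup.mem_bot] at this
  have hQ : V ⊓ Subgroup.centralizer {a : G | a ∈ A ∧ (orderOf a).Coprime p} = ⊥ := by
    by_contra h
    exact fixed_of_fixed_coprime A V hG hV h hA
  obtain ⟨k, hk⟩ := IsPGroup.iff_card.mp hV
  have hcV : ∀ {n : ℕ}, n.Coprime p → n.Coprime (Nat.card V) := fun h => hk ▸ h.pow_right k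
  -- the subgroup of elements of `A` of order prime to `p`
  let Q : Subgroup G :=
    { carrier := {a : G | a ∈ A ∧ (orderOf a).Coprime p}
      one_mem' := ⟨A.one_mem, by simp⟩
      mul_mem' := fun {x y} hx hy => ⟨A.mul_mem hx.1 hy.1,
        Nat.Coprime.coprime_dvd_left ((show Commute x y from hAc hx.1 hy.1).orderOf_mul_dvd_mul_orderOf)
          (hx.2.mul_left hy.2)⟩
      inv_mem' := fun {x} hx => ⟨A.inv_mem hx.1, by rw [orderOf_inv]; exact hx.2⟩ }
  have hQcop : (Nat.card Q).Coprime p := by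
    rw [Nat.coprime_comm, hp.coprime_iff_not_dvd]
    intro hdvd
    obtain ⟨⟨q, hq⟩, ho⟩ := exists_prime_orderOf_dvd_card' p hdvd
    have := hq.2
    rw [Subgroup.orderOf_mk] at ho
    rw [ho, Nat.coprime_self] at this
    exact hp.ne_one this
  have hcomm : ∀ g h : G, g * h * g⁻¹ * h⁻¹ ∈ V := fun g h => by
    have : ⁅g, h⁆ ∈ V := hG (Subgroup.commutator_mem_commutator trivial trivial)
    simpa [commutatorElement_def] using this
  have hdecomp : ∀ b ∈ B, ∃ x z, x ∈ B ∧ z ∈ Subgroup.center G ∧ b = x * z ∧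
      ∃ u ∈ V, ∃ a ∈ A, x = u * a := by
    intro b hb
    obtain ⟨v, hv, hvb⟩ := exists_conj_of_congr_mod V (hcV hQcop)
      ((MulAut.conj b).toMonoidHom.comp Q.subtype) Q.subtype (fun q => hcomm b q)
    obtain ⟨a, ha, z, hz, hd⟩ := hAB (v⁻¹ * b)
    have hdQ : v⁻¹ * b ∈ Subgroup.centralizer (Q : Set G) := Subgroup.mem_centralizer_iff.mpr fun q hq => by
      have h1 : b * q * b⁻¹ = v * q * v⁻¹ := hvb ⟨q, hq⟩
      calc q * (v⁻¹ * b) = v⁻¹ * (v * q * v⁻¹) * b := by group
        _ = v⁻¹ * (b * q * b⁻¹) * b := by rw [h1]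
        _ = _ := by group
    have haQ : ∀ a' ∈ A, a' ∈ Subgroup.centralizer (Q : Set G) := fun a' ha' =>
      Subgroup.mem_centralizer_iff.mpr fun q hq => hAc hq.1 ha'
    have hzQ : z ∈ Subgroup.centralizer (Q : Set G) := by
      have : z = a⁻¹ * (v⁻¹ * b) := by rw [hd, inv_mul_cancel_left]
      rw [this]
      exact mul_mem (haQ _ (A.inv_mem ha)) hdQ
    have hzA : ∀ a' ∈ A, a' * z = z * a' := by
      intro a' ha'
      have h1 : ⁅a', z⁆ ∈ V ⊓ Subgroup.centralizer (Q : Set G) :=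
        ⟨hG (Subgroup.commutator_mem_commutator trivial trivial), by
          rw [commutatorElement_def]
          exact mul_mem (mul_mem (mul_mem (haQ _ ha') hzQ) (Subgroup.inv_mem _ (haQ _ ha'))) (Subgroup.inv_mem _ hzQ)⟩
      rw [show V ⊓ Subgroup.centralizer (Q : Set G) = ⊥ from hQ, Subgroup.mem_bot] at h1
      exact commutatorElement_eq_one_iff_mul_comm.mp h1
    refine ⟨b * z⁻¹, z, B.mul_mem hb (B.inv_mem hz), ?_, by group, v, hv, a, ha, ?_⟩
    · rw [Subgroup.mem_center_iff]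
      intro g
      obtain ⟨a', ha', b', hb', rfl⟩ := hAB g
      exact Commute.mul_left (hzA a' ha') (hBc hb' hz)
    · calc b * z⁻¹ = v * (v⁻¹ * b) * z⁻¹ := by group
        _ = v * a := by rw [hd]; group
  have hcentral : ∀ b ∈ B, (orderOf b).Coprime p → b ∈ Subgroup.center G := by
    intro b hb hbo
    obtain ⟨x, z, hx, hz, rfl, u, hu, a, ha, rfl⟩ := hdecomp b hb
    obtain ⟨r, m, hm, hrm⟩ := Nat.exists_eq_pow_mul_and_not_dvd (orderOf_pos (u * a)).ne' p hp.ne_one
    set N := p ^ r with hN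
    have hm' : m.Coprime p := Nat.coprime_comm.mp (hp.coprime_iff_not_dvd.mpr hm)
    have hxm : ((u * a) ^ N) ^ m = 1 := by rw [← pow_mul, ← hrm, pow_orderOf_eq_one]
    have hq : ∀ i : ℕ, (u * a) ^ i * (a ^ i)⁻¹ ∈ V := by
      intro i
      rw [← QuotientGroup.eq_one_iff, QuotientGroup.mk_mul, QuotientGroup.mk_inv,
        QuotientGroup.mk_pow, QuotientGroup.mk_pow, QuotientGroup.mk_mul,
        (QuotientGroup.eq_one_iff u).mpr hu, one_mul, mul_inv_cancel]
    have ham : (a ^ N) ^ m = 1 := by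
      refine hVA _ (pow_mem (pow_mem ha _) _) ?_
      have h1 := hq (N * m)
      rw [pow_mul, hxm, one_mul, pow_mul, inv_mem_iff] at h1
      exact h1
    set y := (u * a) ^ N with hy
    have hdvd : orderOf (a ^ N) ∣ orderOf y := by
      rw [orderOf_dvd_iff_pow_eq_one]
      refine hVA _ (pow_mem (pow_mem ha _) _) ?_
      have h1 := hq (N * orderOf y)
      rw [pow_mul, ← hy, pow_orderOf_eq_one, one_mul, pow_mul, inv_mem_iff] at h1
      exact h1
    set g0 : Subgroup.zpowers y := ⟨y, Subgroup.mem_zpowers y⟩ with hg0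
    have hgen : ∀ t, t ∈ Subgroup.zpowers g0 := fun ⟨t, i, ht⟩ => ⟨i, Subtype.ext ht⟩
    let ψ : Subgroup.zpowers y →* G := monoidHomOfForallMemZpowers hgen (g' := a ^ N)
      (by rw [hg0, Subgroup.orderOf_mk]; exact hdvd)
    have hψ : ψ g0 = a ^ N := monoidHomOfForallMemZpowers_apply_gen _ _
    have hcop : (Nat.card (Subgroup.zpowers y)).Coprime p := by
      rw [Nat.card_zpowers]
      exact hm'.coprime_dvd_left (orderOf_dvd_of_pow_eq_one hxm)
    obtain ⟨v, hv, hvq⟩ := exists_conj_of_congr_mod V (hcV hcop) (Subgroup.zpowers y).subtype ψ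
      (fun t => by
        obtain ⟨i, rfl⟩ := hgen t
        have : (QuotientGroup.mk' V) ((Subgroup.zpowers y).subtype (g0 ^ i)) =
            (QuotientGroup.mk' V) (ψ (g0 ^ i)) := by
          simp only [map_zpow, hψ]
          congr 1
          rw [← div_eq_one, div_eq_mul_inv, ← map_inv, ← map_mul]
          exact (QuotientGroup.eq_one_iff _).mpr (hq N)
        rw [← QuotientGroup.eq_one_iff, ← QuotientGroup.mk'_apply, map_mul, map_inv, this,
          mul_inv_cancel])
    have h1 : y = v * a ^ N * v⁻¹ := by rw [← hψ]; exact hvq g0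
    obtain ⟨α, hα, β, hβ, hv'⟩ := hAB v⁻¹
    have h2 : a ^ N = y := by
      have hyB : y ∈ B := pow_mem hx _
      have hcv : v⁻¹ * y * v = a ^ N := by rw [h1]; group
      have hv'' : v = β⁻¹ * α⁻¹ := by rw [← inv_inv v, hv', mul_inv_rev]
      have hby : β * y * β⁻¹ = y := by rw [hBc hβ hyB, mul_inv_cancel_right]
      calc a ^ N = α⁻¹ * a ^ N * α := by
            rw [hAc (A.inv_mem hα) (pow_mem ha N)]; group
        _ = α⁻¹ * (v⁻¹ * y * v) * α := by rw [hcv]
        _ = β * y * β⁻¹ := by rw [hv', hv'']; group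
        _ = y := hby
    have hyc : y ∈ Subgroup.center G := by
      rw [Subgroup.mem_center_iff]
      intro g
      obtain ⟨a', ha', b', hb', rfl⟩ := hAB g
      exact Commute.mul_left (hAc ha' (h2 ▸ pow_mem ha N)) (hBc hb' (pow_mem hx _))
    have hbN : (u * a * z) ^ N ∈ Subgroup.center G := by
      rw [(show Commute (u * a) z from Subgroup.mem_center_iff.mp hz _).mul_pow]
      exact mul_mem hyc (pow_mem hz _)
    obtain ⟨i, hi⟩ := exists_pow_eq_self_of_coprime (x := u * a * z) (n := N) (hbo.pow_right r).symm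
    rw [← hi]
    exact pow_mem hbN i
  refine fixed_of_fixed_coprime B V hG hV ?_ hB
  intro h
  refine hne (eq_bot_iff.mpr (le_trans (fun x hx => ?_) h.le))
  exact ⟨hx, Subgroup.mem_centralizer_iff.mpr fun b hb =>
    (Subgroup.mem_center_iff.mp (hcentral b hb.1 hb.2) x).symm⟩

end

/-- If a nontrivial finite group G is the product AB of abelian subgroups A and B, then some nontrivial normal subgroup of G is contained in A or in B. -/
theorem result {G : Type*} [Group G] [Finite G] [Nontrivial G] (A B : Subgroup G) [IsMulCommutative A] [IsMulCommutative B] (hAB : ∀ g : G, ∃ a ∈ A, ∃ b ∈ B, g = a * b) : ∃ N : Subgroup G, N.Normal ∧ N ≠ ⊥ ∧ (N ≤ A ∨ N ≤ B) := by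
  classical
  by_cases hz : ∃ x : G, x ≠ 1 ∧ x ∈ Subgroup.center G ∧ (x ∈ A ∨ x ∈ B)
  · obtain ⟨x, hx1, hxc, hx⟩ := hz
    refine ⟨Subgroup.zpowers x, ⟨fun y hy g => ?_⟩, Subgroup.zpowers_ne_bot.mpr hx1, hx.imp
      (fun h => Subgroup.zpowers_le.mpr h) (fun h => Subgroup.zpowers_le.mpr h)⟩
    rw [Subgroup.mem_center_iff.mp (Subgroup.zpowers_le.mpr hxc hy) g, mul_inv_cancel_right]
    exact hy
  push Not at hz
  by_cases hG : commutator G = ⊥
  · have hn : ∀ H : Subgroup G, H.Normal := fun H => ⟨fun x hx g => by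
      have h1 : ⁅g, x⁆ ∈ commutator G := Subgroup.commutator_mem_commutator trivial trivial
      rw [hG, Subgroup.mem_bot, commutatorElement_eq_one_iff_mul_comm] at h1
      rw [h1, mul_inv_cancel_right]
      exact hx⟩
    by_cases hA : A = ⊥
    · refine ⟨B, hn B, fun hB => ?_, Or.inr le_rfl⟩
      obtain ⟨g, hg⟩ := exists_ne (1 : G)
      obtain ⟨a, ha, b, hb, rfl⟩ := hAB g
      rw [hA, Subgroup.mem_bot] at ha
      rw [hB, Subgroup.mem_bot] at hb
      exact hg (by rw [ha, hb, mul_one])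
    · exact ⟨A, hn A, hA, Or.inl le_rfl⟩
  have hN : IsMulCommutative (commutator G) := ⟨⟨fun x y => by
    have h1 : ⁅(x : G), (y : G)⁆ ∈ derivedSeries G 2 := by
      rw [derivedSeries_succ, derivedSeries_one]
      exact Subgroup.commutator_mem_commutator x.2 y.2
    rw [Cfsg.Agent.S0572.result A B hAB, Subgroup.mem_bot, commutatorElement_eq_one_iff_mul_comm] at h1
    exact Subtype.ext h1⟩⟩
  set N := commutator G with hNdef
  obtain ⟨p, hp, hpd⟩ := Nat.exists_prime_and_dvd (fun e => hG (Subgroup.card_eq_one.mp e))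
  haveI : Fact p.Prime := ⟨hp⟩
  obtain ⟨k, m, hm, hnk⟩ := Nat.exists_eq_pow_mul_and_not_dvd (Nat.card_pos (α := N)).ne' p hp.ne_one
  let T : ℕ → Subgroup G := fun n =>
    { carrier := {x : G | x ∈ N ∧ x ^ n = 1}
      one_mem' := ⟨N.one_mem, one_pow n⟩
      mul_mem' := fun {x y} hx hy => ⟨N.mul_mem hx.1 hy.1, by
        rw [(show Commute x y from congrArg Subtype.val (mul_comm' (⟨x, hx.1⟩ : N) ⟨y, hy.1⟩)).mul_pow,
          hx.2, hy.2, one_mul]⟩
      inv_mem' := fun {x} hx => ⟨N.inv_mem hx.1, by rw [inv_pow, hx.2, inv_one]⟩ }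
  have hTn : ∀ n, (T n).Normal := fun n => ⟨fun x hx g =>
    ⟨Subgroup.Normal.conj_mem inferInstance x hx.1 g, by rw [conj_pow, hx.2, mul_one, mul_inv_cancel]⟩⟩
  set V := T (p ^ k) with hV
  set W := T m with hW
  haveI := hTn (p ^ k)
  haveI := hTn m
  have hgcd : (p ^ k).Coprime m := (hp.coprime_iff_not_dvd.mpr hm).pow_left k
  have hVW : ∀ x ∈ V, x ∈ W → x = 1 := fun x hx hx' => by
    have := pow_gcd_eq_one.mpr ⟨hx.2, hx'.2⟩
    rwa [hgcd, pow_one] at this
  have hcov : ∀ x ∈ N, ∃ v ∈ V, ∃ w ∈ W, x = v * w := by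
    intro x hx
    have hx' : x ^ (p ^ k * m) = 1 := by
      rw [← hnk]
      exact congrArg Subtype.val (pow_card_eq_one' (x := (⟨x, hx⟩ : N)))
    have hb := Nat.gcd_eq_gcd_ab (p ^ k) m
    rw [hgcd] at hb
    set g1 := Nat.gcdA (p ^ k) m
    set g2 := Nat.gcdB (p ^ k) m
    refine ⟨(x ^ m) ^ g2, ⟨zpow_mem (pow_mem hx _) _, ?_⟩, (x ^ (p ^ k)) ^ g1,
      ⟨zpow_mem (pow_mem hx _) _, ?_⟩, ?_⟩
    · rw [← zpow_natCast ((x ^ m) ^ g2), zpow_comm, zpow_natCast, ← pow_mul, mul_comm, hx', one_zpow]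
    · rw [← zpow_natCast ((x ^ (p ^ k)) ^ g1), zpow_comm, zpow_natCast, ← pow_mul, hx', one_zpow]
    · conv_lhs => rw [← zpow_one x, ← Nat.cast_one, hb, add_comm]
      rw [zpow_add, zpow_mul, zpow_mul, zpow_natCast, zpow_natCast]
  set π := QuotientGroup.mk' W with hπ
  have hVp : IsPGroup p (V.map π) := by
    refine IsPGroup.map (fun x => ⟨k, Subtype.ext ?_⟩) π
    exact x.2.2
  haveI : IsMulCommutative V := ⟨⟨fun x y => Subtype.ext (congrArg (fun t : N => (t : G))
    (mul_comm' (⟨x.1, x.2.1⟩ : N) ⟨y.1, y.2.1⟩))⟩⟩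
  haveI : (V.map π).Normal := Subgroup.Normal.map inferInstance π (QuotientGroup.mk'_surjective W)
  obtain ⟨v0, hv0⟩ := exists_prime_orderOf_dvd_card' p hpd
  have hv01 : (v0 : G) ≠ 1 := fun e => by
    have e' : v0 = 1 := Subtype.ext e
    rw [e', orderOf_one] at hv0
    exact hp.ne_one hv0.symm
  have hk : k ≠ 0 := fun e => by
    rw [hnk, e, pow_zero, one_mul] at hpd
    exact hm hpd
  have hv0V : (v0 : G) ∈ V := ⟨v0.2, orderOf_dvd_iff_pow_eq_one.mp
    (by rw [Subgroup.orderOf_coe, hv0]; exact dvd_pow_self p hk)⟩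
  have hVne : V.map π ≠ ⊥ := by
    intro e
    have : π (v0 : G) ∈ V.map π := Subgroup.mem_map_of_mem _ hv0V
    rw [e, Subgroup.mem_bot, hπ, QuotientGroup.mk'_apply, QuotientGroup.eq_one_iff] at this
    exact hv01 (hVW _ hv0V this)
  have hQ : commutator (G ⧸ W) ≤ V.map π := by
    rw [commutator_def, Subgroup.commutator_le]
    intro x _ y _
    obtain ⟨x, rfl⟩ := QuotientGroup.mk'_surjective W x
    obtain ⟨y, rfl⟩ := QuotientGroup.mk'_surjective W y
    rw [← map_commutatorElement]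
    obtain ⟨v, hv, w, hw, hvw⟩ := hcov _ (Subgroup.commutator_mem_commutator (Subgroup.mem_top x) (Subgroup.mem_top y))
    rw [hvw, map_mul, show QuotientGroup.mk' W w = 1 from (QuotientGroup.eq_one_iff w).mpr hw, mul_one]
    exact Subgroup.mem_map_of_mem _ hv
  have hAB' : ∀ g : G ⧸ W, ∃ a ∈ A.map π, ∃ b ∈ B.map π, g = a * b := by
    intro g
    obtain ⟨g, rfl⟩ := QuotientGroup.mk'_surjective W g
    obtain ⟨a, ha, b, hb, rfl⟩ := hAB g
    exact ⟨_, Subgroup.mem_map_of_mem π ha, _, Subgroup.mem_map_of_mem π hb, map_mul π a b⟩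
  have lift : ∀ C D : Subgroup G, (∀ g : G, ∃ c ∈ C, ∃ d ∈ D, g = c * d) → IsMulCommutative C →
      IsMulCommutative D → (∀ x ∈ Subgroup.center G, x ∈ D → x = 1) →
      V.map π ⊓ Subgroup.centralizer ((C.map π : Subgroup (G ⧸ W)) : Set (G ⧸ W)) ≠ ⊥ →
      ∃ M : Subgroup G, M.Normal ∧ M ≠ ⊥ ∧ M ≤ C := by
    intro C D hCD hC hD hcen hfix
    refine ⟨N ⊓ Subgroup.centralizer (C : Set G), inf_centralizer_normal N le_rfl _, ?_, ?_⟩
    · intro e
      apply hfix
      rw [eq_bot_iff]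
      rintro _ ⟨⟨x, hx, rfl⟩, hxc⟩
      have : x ∈ N ⊓ Subgroup.centralizer (C : Set G) := by
        refine ⟨hx.1, Subgroup.mem_centralizer_iff.mpr fun c hc => ?_⟩
        have h1 : π c * π x = π x * π c :=
          Subgroup.mem_centralizer_iff.mp hxc _ (Subgroup.mem_map_of_mem π hc)
        rw [← commutatorElement_eq_one_iff_mul_comm]
        refine hVW _ ?_ ?_
        · rw [commutatorElement_def]
          exact mul_mem (Subgroup.Normal.conj_mem inferInstance x hx c) (inv_mem hx)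
        · rw [← QuotientGroup.eq_one_iff, ← QuotientGroup.mk'_apply, map_commutatorElement,
            commutatorElement_eq_one_iff_mul_comm]
          exact h1
      rw [e, Subgroup.mem_bot] at this
      simp [this]
    · rintro x ⟨-, hx⟩
      obtain ⟨c, hc, d, hd, rfl⟩ := hCD x
      have : d ∈ Subgroup.center G := by
        rw [Subgroup.mem_center_iff]
        intro g
        obtain ⟨c', hc', d', hd', rfl⟩ := hCD g
        have h1 : Commute c' d := by
          have h2 : Commute c' (c * d) := Subgroup.mem_centralizer_iff.mp hx c' hc'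
          have h3 : Commute c' c := congrArg Subtype.val (mul_comm' (⟨c', hc'⟩ : C) ⟨c, hc⟩)
          simpa using h3.inv_right.mul_right h2
        have h4 : Commute d' d := congrArg Subtype.val (mul_comm' (⟨d', hd'⟩ : D) ⟨d, hd⟩)
        exact h1.mul_left h4
      rw [hcen d this hd, mul_one]
      exact hc
  rcases fixed_of_commutator_le_pgroup (A.map π) (B.map π) (V.map π) hAB' hQ hVp hVne with h | h
  · obtain ⟨M, h1, h2, h3⟩ := lift A B hAB inferInstance inferInstance
      (fun x hx hxB => by by_contra h'; exact (hz x h' hx).2 hxB) h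
    exact ⟨M, h1, h2, Or.inl h3⟩
  · obtain ⟨M, h1, h2, h3⟩ := lift B A (fun g => by
      obtain ⟨a, ha, b, hb, e⟩ := hAB g⁻¹
      exact ⟨b⁻¹, B.inv_mem hb, a⁻¹, A.inv_mem ha, by rw [← inv_inv g, e, mul_inv_rev]⟩)
      inferInstance inferInstance (fun x hx hxA => by by_contra h'; exact (hz x h' hx).1 hxA) h
    exact ⟨M, h1, h2, Or.inr h3⟩

end Cfsg.Agent.S0573
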