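import Cfsg.Statements.S0571
import Cfsg.Agent.EqLemmas
import Cfsg.Agent.S0573

set_option autoImplicit false
open Cfsg

namespace Cfsg.Agent.S0571

/-- If a finite group G is the product AB of two cyclic subgroups (every element is a product ab), then G is supersolvable. -/
theorem result {G : Type*} [Group G] [Finite G] (A B : Subgroup G) [IsCyclic A] [IsCyclic B] (hAB : ∀ g : G, ∃ a ∈ A, ∃ b ∈ B, g = a * b) : Cfsg.IsSupersolvable G := by
  classical
  induction hn : Nat.card G using Nat.strong_induction_on generalizing G with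
  | _ n ih =>
    subst hn
    rcases subsingleton_or_nontrivial G with hs | hs
    · exact ⟨0, fun _ => ⊥, rfl, (Subsingleton.elim _ _), fun _ => inferInstance, fun i => i.elim0⟩
    haveI : IsMulCommutative A := inferInstance
    haveI : IsMulCommutative B := inferInstance
    obtain ⟨N, hN, hN1, hle⟩ := Cfsg.Agent.S0573.result A B hAB
    haveI := hN
    obtain ⟨a, rfl⟩ : ∃ a : G, N = Subgroup.zpowers a := by
      have key : ∀ C : Subgroup G, IsCyclic C → N ≤ C → ∃ a : G, N = Subgroup.zpowers a := by
        intro C hC hNC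
        haveI := isCyclic_of_injective (Subgroup.inclusion hNC) (Subgroup.inclusion_injective hNC)
        obtain ⟨⟨a, ha⟩, hgen⟩ := IsCyclic.exists_generator (α := N)
        refine ⟨a, le_antisymm (fun x hx => ?_) (Subgroup.zpowers_le.mpr ha)⟩
        obtain ⟨i, hi⟩ := hgen ⟨x, hx⟩
        exact ⟨i, congrArg Subtype.val hi⟩
      rcases hle with h | h
      · exact key A inferInstance h
      · exact key B inferInstance h
    set π := QuotientGroup.mk' (Subgroup.zpowers a) with hπ
    have hsurj : Function.Surjective π := QuotientGroup.mk'_surjective _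
    have hlt : Nat.card (G ⧸ Subgroup.zpowers a) < Nat.card G := by
      rw [← Subgroup.index_eq_card, ← (Subgroup.zpowers a).card_mul_index]
      exact lt_mul_of_one_lt_left (Nat.pos_of_ne_zero Subgroup.index_ne_zero_of_finite)
        ((Subgroup.one_lt_card_iff_ne_bot _).mpr hN1)
    haveI : IsCyclic (A.map π) := isCyclic_of_surjective _ (π.subgroupMap_surjective A)
    haveI : IsCyclic (B.map π) := isCyclic_of_surjective _ (π.subgroupMap_surjective B)
    obtain ⟨m, H, h0, hl, hHn, hstep⟩ := ih _ hlt (G := G ⧸ Subgroup.zpowers a) (A.map π) (B.map π)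
      (fun g => by
        obtain ⟨g, rfl⟩ := hsurj g
        obtain ⟨x, hx, y, hy, rfl⟩ := hAB g
        exact ⟨_, Subgroup.mem_map_of_mem π hx, _, Subgroup.mem_map_of_mem π hy, map_mul π x y⟩) rfl
    refine ⟨m + 1, Fin.cons ⊥ (fun i => (H i).comap π), rfl, ?_, ?_, ?_⟩
    · rw [← Fin.succ_last, Fin.cons_succ, hl, Subgroup.comap_top]
    · intro i
      refine Fin.cases ?_ (fun j => ?_) i
      · rw [Fin.cons_zero]; infer_instance
      · rw [Fin.cons_succ]; exact (hHn j).comap π
    · intro i
      refine Fin.cases ⟨a, ?_⟩ (fun j => ?_) i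
      · rw [Fin.cons_succ, Fin.castSucc_zero, Fin.cons_zero, h0, bot_sup_eq, MonoidHom.comap_bot, hπ,
          QuotientGroup.ker_mk']
      · obtain ⟨q, hq⟩ := hstep j
        obtain ⟨g, rfl⟩ := hsurj q
        refine ⟨g, ?_⟩
        rw [Fin.cons_succ, ← Fin.succ_castSucc, Fin.cons_succ, hq,
          ← MonoidHom.map_zpowers]
        apply le_antisymm
        · rw [← Subgroup.map_comap_eq_self_of_surjective hsurj (H j.castSucc), ← Subgroup.map_sup,
            Subgroup.comap_map_eq, Subgroup.map_comap_eq_self_of_surjective hsurj (H j.castSucc)]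
          refine sup_le le_rfl (le_trans ?_ le_sup_left)
          rw [← MonoidHom.comap_bot]
          exact Subgroup.comap_mono bot_le
        · exact sup_le (Subgroup.comap_mono le_sup_left)
            ((Subgroup.le_comap_map π _).trans (Subgroup.comap_mono le_sup_right))

end Cfsg.Agent.S0571
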