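import Cfsg.Statements.S0574
import Cfsg.Agent.Lib.Products.DerivedLength
-- import your own Cfsg.Agent.* helpers here

set_option autoImplicit false
open Cfsg
open scoped commutatorElement

namespace Cfsg.Agent.S0574

/-- Let the finite group G be the product AB of an abelian subgroup A and a subgroup B of nilpotency class at most two, and let Ω be the number of prime factors, with multiplicity, of the order of the commutator subgroup of B. Then the term of index 2(1 + Ω) of the derived series of G is trivial. -/
theorem result {G : Type*} [Group G] [Finite G] (A B : Subgroup G) [IsMulCommutative A] (hB : commutator ↥B ≤ Subgroup.center ↥B) (hAB : ∀ g : G, ∃ a ∈ A, ∃ b ∈ B, g = a * b) : derivedSeries G (2 * (1 + (Nat.card ↥(commutator ↥B)).primeFactorsList.length)) = ⊥ := by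
  classical
  have hmap : (commutator ↥B).map B.subtype = ⁅B, B⁆ := Subgroup.map_subtype_commutator B
  have hcard : Nat.card ↥(commutator ↥B) = Nat.card ↥(⁅B, B⁆ : Subgroup G) := by
    rw [← hmap, Subgroup.card_map_of_injective B.subtype_injective]
  have hcen : ⁅B, B⁆ ≤ Subgroup.centralizer (B : Set G) := by
    rw [← hmap]
    rintro _ ⟨c, hc, rfl⟩
    exact Subgroup.mem_centralizer_iff.mpr fun b hb =>
      congrArg Subtype.val (Subgroup.mem_center_iff.mp (hB hc) ⟨b, hb⟩)
  have hnil : Group.IsNilpotent B := by
    haveI : IsMulCommutative (B ⧸ Subgroup.center B) :=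
      ⟨⟨fun x y => QuotientGroup.induction_on x fun a => QuotientGroup.induction_on y fun b => by
        rw [← QuotientGroup.mk_mul, ← QuotientGroup.mk_mul, QuotientGroup.eq]
        have h1 := hB (Subgroup.commutator_mem_commutator (Subgroup.mem_top b⁻¹) (Subgroup.mem_top a⁻¹))
        simpa [commutatorElement_def, mul_assoc] using h1⟩⟩
    letI : CommGroup (B ⧸ Subgroup.center B) :=
      { (inferInstance : Group (B ⧸ Subgroup.center B)) with mul_comm := mul_comm' }
    exact Subgroup.isNilpotent_of_ker_le_center (QuotientGroup.mk' (Subgroup.center B))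
      (QuotientGroup.ker_mk' _).le
  rw [hcard]
  exact Cfsg.Agent.Products.derivedSeries_eq_bot _ G A B rfl inferInstance hnil hcen hAB

end Cfsg.Agent.S0574
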