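import Cfsg.Statements.S0576
import Cfsg.Agent.EqLemmas

set_option autoImplicit false
open Cfsg

namespace Cfsg.Agent.S0576

/-- Let H be a normal subgroup of a finite group G with H contained in the Frattini subgroup of G. Then the group of inner automorphisms of H is contained in the Frattini subgroup of the automorphism group of H. -/
theorem result {G : Type*} [Group G] [Finite G] (H : Subgroup G) [H.Normal] (hH : H ≤ frattini G) : (MulAut.conj : ↥H →* MulAut ↥H).range ≤ frattini (MulAut ↥H) := by
  refine le_iInf₂ fun M hM => ?_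
  set φ : G →* MulAut H := MulAut.conjNormal with hφ
  set I : Subgroup (MulAut H) := (MulAut.conj : ↥H →* MulAut ↥H).range with hI
  have hIφ : I = H.map φ := by
    ext f
    constructor
    · rintro ⟨h, rfl⟩
      exact ⟨h, h.2, by ext k; simp [hφ, MulAut.conjNormal_apply]⟩
    · rintro ⟨g, hg, rfl⟩
      exact ⟨⟨g, hg⟩, by ext k; simp [hφ, MulAut.conjNormal_apply]⟩
  haveI : I.Normal := by
    constructor
    rintro _ ⟨h, rfl⟩ f
    exact ⟨f h, by ext k; simp [MulAut.mul_apply]⟩
  by_contra hIM
  have htop : I ⊔ M = ⊤ := hM.2 _ (by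
    refine lt_of_le_of_ne le_sup_right fun e => hIM ?_
    rw [e]; exact le_sup_left)
  set N : Subgroup G := M.comap φ with hN
  have hHN : H ⊔ N = ⊤ := by
    rw [eq_top_iff]
    intro g _
    obtain ⟨i, hi, m, hm, hg⟩ := Subgroup.mem_sup_of_normal_left.mp
      (show φ g ∈ I ⊔ M by rw [htop]; trivial)
    rw [hIφ] at hi
    obtain ⟨h, hh, rfl⟩ := hi
    have : h⁻¹ * g ∈ N := by
      show φ (h⁻¹ * g) ∈ M
      rw [map_mul, map_inv, ← hg]
      simpa using hm
    have := Subgroup.mul_mem_sup hh this
    simpa using this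
  have hNtop : N = ⊤ := by
    by_contra hne
    obtain hL | ⟨L, hL, hNL⟩ := eq_top_or_exists_le_coatom N
    · exact hne hL
    · refine hL.1 (top_le_iff.mp ?_)
      rw [← hHN]
      exact sup_le (hH.trans (frattini_le_coatom hL)) hNL
  apply hIM
  rw [hIφ, Subgroup.map_le_iff_le_comap, ← hN, hNtop]
  exact le_top

end Cfsg.Agent.S0576
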