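import Cfsg.Statements.S0578
import Cfsg.Agent.EqLemmas

set_option autoImplicit false
open Cfsg
open scoped commutatorElement

namespace Cfsg.Agent.S0578

/-- If in a finite group the normalizer of each abelian subgroup coincides with its centralizer, then the group is abelian. -/
theorem result {G : Type*} [Group G] [Finite G] (h : ∀ A : Subgroup G, IsMulCommutative A → Subgroup.normalizer (A : Set G) = Subgroup.centralizer (A : Set G)) : IsMulCommutative G := by
  classical
  have hPab : ∀ (p : ℕ) [Fact p.Prime] (P : Sylow p G), IsMulCommutative (P : Subgroup G) := by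
    intro p _ P
    obtain ⟨A, hA⟩ := exists_maximal_of_wellFoundedGT
      (fun A : Subgroup G => A ≤ (P : Subgroup G) ∧ IsMulCommutative A) ⟨⊥, bot_le, inferInstance⟩
    obtain ⟨⟨hAP, hAc⟩, hmax⟩ := hA
    by_contra hne
    haveI : Group.IsNilpotent (P : Subgroup G) := P.isPGroup'.isNilpotent
    have hlt : A.subgroupOf (P : Subgroup G) < ⊤ := by
      rw [lt_top_iff_ne_top]
      intro e
      rw [Subgroup.subgroupOf_eq_top] at e
      exact hne (le_antisymm hAP e ▸ hAc)
    obtain ⟨⟨x, hxP⟩, hxN, hxA⟩ :=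
      SetLike.exists_of_lt (Group.normalizerCondition_of_isNilpotent (G := (P : Subgroup G)) _ hlt)
    rw [← Subgroup.subgroupOf_normalizer_eq hAP, Subgroup.mem_subgroupOf, h A hAc] at hxN
    rw [Subgroup.mem_subgroupOf] at hxA
    have hcl : Subgroup.closure (↑A ∪ {x}) ≤ (P : Subgroup G) := by
      rw [Subgroup.closure_le]
      rintro y (hy | hy)
      · exact hAP hy
      · exact hy ▸ hxP
    have hco : IsMulCommutative (Subgroup.closure ((A : Set G) ∪ {x})) := by
      refine Subgroup.isMulCommutative_closure ?_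
      have hx : ∀ y ∈ A, y * x = x * y := Subgroup.mem_centralizer_iff.mp hxN
      rintro a (ha | ha) b (hb | hb)
      · exact congrArg Subtype.val (hAc.is_comm.comm ⟨a, ha⟩ ⟨b, hb⟩)
      · rw [Set.mem_singleton_iff.mp hb]; exact hx a ha
      · rw [Set.mem_singleton_iff.mp ha]; exact (hx b hb).symm
      · rw [Set.mem_singleton_iff.mp ha, Set.mem_singleton_iff.mp hb]
    exact hxA (hmax ⟨hcl, hco⟩ (fun y hy => Subgroup.subset_closure (Or.inl hy))
      (Subgroup.subset_closure (Or.inr rfl)))
  refine ⟨⟨fun x y => ?_⟩⟩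
  rw [← commutatorElement_eq_one_iff_mul_comm]
  by_contra hc
  obtain ⟨p, hp, hpd⟩ := Nat.exists_prime_and_dvd (fun e => hc (orderOf_eq_one_iff.mp e))
  haveI : Fact p.Prime := ⟨hp⟩
  obtain ⟨P⟩ := (inferInstance : Nonempty (Sylow p G))
  haveI := hPab p P
  have hP : Subgroup.normalizer ((P : Subgroup G) : Set G) ≤ Subgroup.centralizer ((P : Subgroup G) : Set G) :=
    (h _ (hPab p P)).le
  have hk : ⁅x, y⁆ ∈ (MonoidHom.transferSylow P hP).ker := by
    rw [MonoidHom.mem_ker, map_commutatorElement, commutatorElement_eq_one_iff_commute]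
    exact mul_comm' _ _
  refine MonoidHom.not_dvd_card_ker_transferSylow P hP (hpd.trans ?_)
  rw [← Subgroup.orderOf_mk _ hk]
  exact orderOf_dvd_natCard _

end Cfsg.Agent.S0578
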