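import Cfsg.Statements.S0580
import Cfsg.Agent.EqLemmas

set_option autoImplicit false
open Cfsg

namespace Cfsg.Agent.S0580

/-- If every maximal subgroup of a finite group has prime index, then the group is solvable. -/
theorem result {G : Type*} [Group G] [Finite G] (h : ∀ M : Subgroup G, IsCoatom M → M.index.Prime) : Group.IsSolvable G := by
  classical
  induction hn : Nat.card G using Nat.strong_induction_on generalizing G with
  | _ n ih =>
    subst hn
    rcases subsingleton_or_nontrivial G with hs | hs
    · infer_instance
    have hne : Nat.card G ≠ 1 := fun e => by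
      rw [Nat.card_eq_one_iff_unique] at e
      haveI := e.1
      exact not_subsingleton G this
    obtain ⟨p, hpmem, hpmax⟩ : ∃ p ∈ (Nat.card G).primeFactors, ∀ q ∈ (Nat.card G).primeFactors, q ≤ p := by
      have hnon : (Nat.card G).primeFactors.Nonempty := by
        rw [Nat.nonempty_primeFactors]
        have : 0 < Nat.card G := Nat.card_pos
        omega
      exact ⟨_, Finset.max'_mem _ hnon, fun q hq => Finset.le_max' _ q hq⟩
    haveI : Fact p.Prime := ⟨Nat.prime_of_mem_primeFactors hpmem⟩
    obtain ⟨P⟩ := (inferInstance : Nonempty (Sylow p G))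
    have hPne : (P : Subgroup G) ≠ ⊥ := P.ne_bot_of_dvd_card (Nat.dvd_of_mem_primeFactors hpmem)
    have hN : Subgroup.normalizer ((P : Subgroup G) : Set G) = ⊤ := by
      by_contra hne'
      obtain hM | ⟨M, hM, hNM⟩ := eq_top_or_exists_le_coatom (Subgroup.normalizer ((P : Subgroup G) : Set G))
      · exact hne' hM
      have hPM : (P : Subgroup G) ≤ M := Subgroup.le_normalizer.trans hNM
      have hq := h M hM
      have h1 : (Subgroup.normalizer ((P : Subgroup G) : Set G)).index ≡ 1 [MOD p] := by
        have := card_sylow_modEq_one p G
        rw [Sylow.card_eq_index_normalizer P] at this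
        exact this
      rw [← Subgroup.relIndex_mul_index hNM] at h1
      have h2 : (Subgroup.normalizer (((P : Subgroup G).subgroupOf M : Subgroup M) : Set M)).index ≡ 1 [MOD p] := by
        have := card_sylow_modEq_one p M
        rw [Sylow.card_eq_index_normalizer (P.subtype hPM)] at this
        exact this
      rw [← Subgroup.subgroupOf_normalizer_eq hPM] at h2
      have h3 : M.index ≡ 1 [MOD p] := by
        have h4 := (Nat.ModEq.mul_right M.index h2).symm
        rw [one_mul] at h4
        exact h4.trans h1
      have h5 : p ∣ M.index - 1 := (Nat.modEq_iff_dvd' hq.one_lt.le).mp h3.symm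
      have h6 : M.index ≤ p := hpmax _ (Nat.mem_primeFactors.mpr ⟨hq, M.index_dvd_card, Nat.card_pos.ne'⟩)
      have h7 := Nat.le_of_dvd (by have := hq.one_lt; omega) h5
      have := hq.one_lt
      omega
    haveI : (P : Subgroup G).Normal := Subgroup.normalizer_eq_top_iff.mp hN
    haveI : Group.IsNilpotent (P : Subgroup G) := P.isPGroup'.isNilpotent
    have hlt : Nat.card (G ⧸ (P : Subgroup G)) < Nat.card G := by
      rw [← Subgroup.index_eq_card, ← (P : Subgroup G).card_mul_index]
      exact lt_mul_of_one_lt_left (Nat.pos_of_ne_zero Subgroup.index_ne_zero_of_finite)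
        ((Subgroup.one_lt_card_iff_ne_bot _).mpr hPne)
    haveI : Group.IsSolvable (G ⧸ (P : Subgroup G)) := ih _ hlt (G := G ⧸ (P : Subgroup G))
      (fun M hM => by
        rw [← Subgroup.index_comap_of_surjective M (QuotientGroup.mk'_surjective (P : Subgroup G))]
        exact h _ (Subgroup.isCoatom_comap_of_surjective (QuotientGroup.mk'_surjective (P : Subgroup G)) hM)) rfl
    haveI : Group.IsSolvable (P : Subgroup G) := inferInstance
    exact solvable_of_ker_le_range (P : Subgroup G).subtype (QuotientGroup.mk' (P : Subgroup G)) (by simp)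

end Cfsg.Agent.S0580
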