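import Cfsg.Statements.S0579
import Cfsg.Agent.Lib.FusionSupersoluble.Invariant
import Cfsg.Agent.Lib.Solvable.SupersolvableSylow
import Cfsg.Agent.Lib.Cores.Frattini
import Cfsg.Agent.S0580
-- import your own Cfsg.Agent.* helpers here

set_option autoImplicit false
open Cfsg

namespace Cfsg.Agent.S0579

open scoped Pointwise commutatorElement

universe u

/-- An element of order prime to `p` whose `(p-1)`-th power is `k` centralises a normal `p`-subgroup
of a supersolvable group through `k`. -/
theorem pow_centralizes : ∀ (n : ℕ) (Q : Type u) [Group Q] [Finite Q], Nat.card Q = n →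
    Cfsg.IsSupersolvable Q → ∀ (p : ℕ) [Fact p.Prime] (B : Subgroup Q), B.Normal → IsPGroup p B →
      ∀ h : Q, (orderOf h).Coprime p → ∀ x ∈ B, h ^ (p - 1) * x = x * h ^ (p - 1) := by
  intro n
  induction n using Nat.strong_induction_on with
  | _ n ih =>
    intro Q _ _ hn hQ p hp B hBn hB h hord x hx
    haveI := hBn
    by_cases hB1 : B = ⊥
    · rw [hB1, Subgroup.mem_bot] at hx
      rw [hx, mul_one, one_mul]
    obtain ⟨M, hMn, hMB, hMp⟩ := Solvable.supersolvable_exists_normal_card_prime hQ hB1
    haveI := hMn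
    have hcard : Nat.card M = p := by
      obtain ⟨i, hi⟩ := IsPGroup.iff_card.mp (hB.to_le hMB)
      exact (Nat.prime_dvd_prime_iff_eq hMp hp.out).mp (hMp.dvd_of_dvd_pow (dvd_of_eq hi))
    have hM1 : M ≠ ⊥ := fun e => hMp.ne_one (by rw [e, Subgroup.card_bot])
    set k := h ^ (p - 1) with hk
    -- `k` centralises `M`
    have hkM : ∀ t ∈ M, k * t * k⁻¹ = t := by
      haveI : IsCyclic M := isCyclic_of_prime_card hcard
      intro t ht
      have h1 : (MulAut.conjNormal k : MulAut M) = 1 := by
        rw [hk, map_pow]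
        have hA : Nat.card (MulAut M) = p - 1 := by
          rw [IsCyclic.card_mulAut, hcard, Nat.totient_prime hp.out]
        rw [← hA]
        exact pow_card_eq_one'
      have := congrArg (fun φ : MulAut M => ((φ ⟨t, ht⟩ : M) : Q)) h1
      simpa using this
    -- and `B / M`
    have h2 := ih (Nat.card (Q ⧸ M)) (hn ▸ Solvable.card_quotient_lt hM1) (Q ⧸ M) rfl
      (Solvable.supersolvable_quotient hQ M) p (B.map (QuotientGroup.mk' M))
      (hBn.map _ (QuotientGroup.mk'_surjective M)) (hB.map _) (h : Q ⧸ M)
      (hord.coprime_dvd_left (orderOf_map_dvd (QuotientGroup.mk' M) h)) (x : Q ⧸ M)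
      (Subgroup.mem_map_of_mem _ hx)
    rw [← QuotientGroup.mk_pow, ← QuotientGroup.mk_mul, ← QuotientGroup.mk_mul, ← hk,
      QuotientGroup.eq] at h2
    set t := (k * x)⁻¹ * (x * k) with htdef
    have ht : k⁻¹ * t * k = t := by
      have := congrArg (fun u => k⁻¹ * u * k) (hkM t h2)
      simpa [mul_assoc] using this.symm
    have hxk : x⁻¹ * k * x = k * t⁻¹ := by
      rw [htdef]
      group
    have hc : Commute k t⁻¹ := by
      refine Commute.inv_right ?_
      have := congrArg (fun u => k * u) ht
      simpa [mul_assoc, Commute, SemiconjBy] using this.symm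
    have hpow : t ^ orderOf k = 1 := by
      have h3 : (x⁻¹ * k * x⁻¹⁻¹) ^ orderOf k = 1 := by rw [conj_pow, pow_orderOf_eq_one]; group
      rw [inv_inv, hxk, hc.mul_pow, pow_orderOf_eq_one, one_mul, inv_pow, inv_eq_one] at h3
      exact h3
    have ht1 : t = 1 := orderOf_eq_one_iff.mp (Nat.eq_one_of_dvd_coprimes
      (hord.coprime_dvd_left (orderOf_pow_dvd (p - 1))) (orderOf_dvd_of_pow_eq_one hpow)
      (hcard ▸ Subgroup.orderOf_dvd_natCard M h2))
    rw [htdef, inv_mul_eq_one] at ht1
    exact ht1

theorem aux : ∀ (n : ℕ) (G : Type u) [Group G] [Finite G], Nat.card G = n →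
    (∀ M : Subgroup G, IsCoatom M → M.index.Prime) → Cfsg.IsSupersolvable G := by
  intro n
  induction n using Nat.strong_induction_on with
  | _ n ih =>
    intro G _ _ hn hmax
    haveI := Cfsg.Agent.S0580.result hmax
    rcases subsingleton_or_nontrivial G with hs | hnt
    · exact Solvable.isSupersolvable_of_isNilpotent
    have hquot : ∀ N : Subgroup G, [N.Normal] → N ≠ ⊥ → Cfsg.IsSupersolvable (G ⧸ N) := by
      intro N _ hN
      refine ih _ (hn ▸ Solvable.card_quotient_lt hN) (G ⧸ N) rfl fun M hM => ?_
      rw [← Subgroup.index_comap_of_surjective M (QuotientGroup.mk'_surjective N)]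
      exact hmax _ (Subgroup.isCoatom_comap_of_surjective (QuotientGroup.mk'_surjective N) hM)
    obtain ⟨N, hNn, hN1, hNmin⟩ := Cores.exists_minimal_normal (G := G)
    haveI := hNn
    haveI : Group.IsSolvable N := inferInstance
    obtain ⟨hNc, p, hp, hNp, hNexp⟩ := Solvable.elementaryAbelian_of_minimal_normal N hN1 hNmin
    haveI := hNc
    haveI := Fact.mk hp
    suffices hcyc : IsCyclic N ∨ ∃ N' : Subgroup G, N'.Normal ∧ N' ≠ ⊥ ∧ N ⊓ N' = ⊥ by
      rcases hcyc with hcyc | ⟨N', hN'n, hN'1, hdis⟩
      · haveI := hcyc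
        exact Solvable.isSupersolvable_of_cyclic_normal N (hquot N hN1)
      · haveI := hN'n
        have hf : Function.Injective ((QuotientGroup.mk' N).prod (QuotientGroup.mk' N')) := by
          rw [← MonoidHom.ker_eq_bot_iff, MonoidHom.ker_prod, QuotientGroup.ker_mk',
            QuotientGroup.ker_mk', hdis]
        let e := MonoidHom.ofInjective hf
        exact Solvable.supersolvable_of_surjective
          (Solvable.supersolvable_subgroup (Solvable.supersolvable_prod (hquot N hN1) (hquot N' hN'1)) _)
          e.symm.toMonoidHom e.symm.surjective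
    by_contra hcon
    push Not at hcon
    obtain ⟨hncyc, huniq⟩ := hcon
    have hle : ∀ N' : Subgroup G, N'.Normal → N' ≠ ⊥ → N ≤ N' := by
      intro N' hN' hN'1
      haveI := hN'
      rcases hNmin (N ⊓ N') inferInstance inf_le_left with h | h
      · exact absurd h (huniq N' hN' hN'1)
      · exact h ▸ inf_le_right
    -- `N` lies in the Frattini subgroup
    have hNΦ : N ≤ frattini G := by
      refine Cores.le_frattini fun M hM => ?_
      by_contra hNM
      have htop : M ⊔ N = ⊤ := hM.2 _ (lt_of_le_of_ne le_sup_left fun e => hNM (e ▸ le_sup_right))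
      have hc := Solvable.isComplement'_of_minimal_normal_abelian hNmin htop hNM
      have hpr := hmax M hM
      rw [hc.index_eq_card] at hpr
      haveI := Fact.mk hpr
      exact hncyc (isCyclic_of_prime_card (p := Nat.card N) rfl)
    -- the Fitting subgroup is `O_p(G)`
    have hFP : Cfsg.fittingSubgroup G ≤ Cfsg.pCore p G := by
      rw [Cores.fittingSubgroup_eq_iSup_pCore]
      refine iSup_le fun r => ?_
      haveI := Fact.mk r.2
      by_cases hr : (r : ℕ) = p
      · rw [hr]
      · by_cases hbot : Cfsg.pCore (r : ℕ) G = ⊥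
        · rw [hbot]; exact bot_le
        exact absurd (disjoint_self.mp (IsPGroup.disjoint_of_ne (r : ℕ) p hr _ _
          ((Cores.isPGroup_pCore (r : ℕ) G).to_le (hle _ inferInstance hbot)) hNp)) hN1
    set P := Cfsg.pCore p G with hP
    have hPp : IsPGroup p P := Cores.isPGroup_pCore p G
    have hNP : N ≤ P := Cores.le_pCore hNn hNp
    have hcomm : commutator G ≤ P := by
      have hq := hquot N hN1
      have h1 : commutator (G ⧸ N) ≤ Cfsg.fittingSubgroup (G ⧸ N) :=
        Cores.le_fittingSubgroup inferInstance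
          (Solvable.supersolvable_isNilpotent_commutator hq)
      rw [← Cores.fittingSubgroup_map_of_ker_le_frattini (QuotientGroup.mk' N)
        (QuotientGroup.mk'_surjective N) (by rw [QuotientGroup.ker_mk']; exact hNΦ)] at h1
      have h2 : (commutator G).map (QuotientGroup.mk' N) ≤ commutator (G ⧸ N) := by
        rw [commutator_def, commutator_def, Subgroup.map_commutator]
        exact Subgroup.commutator_mono le_top le_top
      have h3 := Subgroup.map_le_iff_le_comap.mp (h2.trans h1)
      rw [Subgroup.comap_map_eq, QuotientGroup.ker_mk'] at h3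
      exact h3.trans (sup_le hFP hNP)
    obtain ⟨S⟩ : Nonempty (Sylow p G) := inferInstance
    have hPS : P ≤ S := Cores.pCore_le_sylow S
    have hSn : (S : Subgroup G).Normal := ⟨fun s hs g => by
      have h1 : g * s * g⁻¹ * s⁻¹ ∈ (S : Subgroup G) := hPS (hcomm
        (Subgroup.commutator_mem_commutator (Subgroup.mem_top g) (Subgroup.mem_top s)))
      simpa using (S : Subgroup G).mul_mem h1 hs⟩
    have hSP : (S : Subgroup G) = P := le_antisymm (Cores.le_pCore hSn S.2) hPS
    have hcop : (Nat.card P).Coprime P.index := by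
      obtain ⟨i, hi⟩ := IsPGroup.iff_card.mp hPp
      rw [hi]
      refine Nat.Coprime.pow_left i ((hp.coprime_iff_not_dvd).mpr ?_)
      rw [← hSP]
      exact S.not_dvd_index
    obtain ⟨H, hH⟩ := Subgroup.exists_right_complement'_of_coprime hcop
    have hHcard : (Nat.card H).Coprime p := by
      rw [← hH.symm.index_eq_card, ← hSP]
      exact ((hp.coprime_iff_not_dvd).mpr S.not_dvd_index).symm
    have hHord : ∀ h ∈ H, (orderOf h).Coprime p := fun h hh =>
      hHcard.coprime_dvd_left (Subgroup.orderOf_dvd_natCard _ hh)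
    have hHab : ∀ a ∈ H, ∀ b ∈ H, a * b = b * a := by
      intro a ha b hb
      have h1 : a * b * a⁻¹ * b⁻¹ ∈ P ⊓ H := ⟨hcomm
        (Subgroup.commutator_mem_commutator (Subgroup.mem_top a) (Subgroup.mem_top b)),
        H.mul_mem (H.mul_mem (H.mul_mem ha hb) (H.inv_mem ha)) (H.inv_mem hb)⟩
      rwa [hH.disjoint.eq_bot, Subgroup.mem_bot, mul_inv_eq_one, mul_inv_eq_iff_eq_mul] at h1
    -- `H` has exponent dividing `p - 1`
    have hexp : ∀ h ∈ H, h ^ (p - 1) = 1 := by
      intro h hh
      set k := h ^ (p - 1) with hk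
      have hkord : (orderOf k).Coprime p := (hHord h hh).coprime_dvd_left (orderOf_pow_dvd _)
      have hmod : ∀ x ∈ P, (k * x)⁻¹ * (x * k) ∈ N := by
        intro x hx
        have h1 := pow_centralizes _ (G ⧸ N) rfl (hquot N hN1) p (P.map (QuotientGroup.mk' N))
          ((inferInstance : P.Normal).map _ (QuotientGroup.mk'_surjective N)) (hPp.map _) (h : G ⧸ N)
          ((hHord h hh).coprime_dvd_left (orderOf_map_dvd (QuotientGroup.mk' N) h)) (x : G ⧸ N)
          (Subgroup.mem_map_of_mem _ hx)
        rwa [← QuotientGroup.mk_pow, ← QuotientGroup.mk_mul, ← QuotientGroup.mk_mul, ← hk,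
          QuotientGroup.eq] at h1
      set C := Subgroup.centralizer ({k} : Set G) with hC
      have hPC : P ≤ C ⊔ N := by
        intro x hx
        have hsup : Subgroup.zpowers k ⊔ N = MulAut.conj x • Subgroup.zpowers k ⊔ N := by
          have h1 : x * k * x⁻¹ ∈ MulAut.conj x • Subgroup.zpowers k :=
            Subgroup.smul_mem_pointwise_smul k (MulAut.conj x) _ (Subgroup.mem_zpowers k)
          have h2 : k⁻¹ * (x * k * x⁻¹) ∈ N := by
            rw [show k⁻¹ * (x * k * x⁻¹) = x * ((k * x)⁻¹ * (x * k)) * x⁻¹ by group]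
            exact hNn.conj_mem _ (hmod x hx) x
          refine le_antisymm (sup_le (Subgroup.zpowers_le.mpr ?_) le_sup_right) (sup_le ?_ le_sup_right)
          · have h3 : x * k * x⁻¹ * (k⁻¹ * (x * k * x⁻¹))⁻¹ ∈ MulAut.conj x • Subgroup.zpowers k ⊔ N :=
              mul_mem (Subgroup.mem_sup_left h1) (Subgroup.mem_sup_right (inv_mem h2))
            simpa [mul_assoc] using h3
          · rw [Solvable.conj_eq_map, MonoidHom.map_zpowers, Subgroup.zpowers_le]
            show x * k * x⁻¹ ∈ _
            rw [show x * k * x⁻¹ = k * (k⁻¹ * (x * k * x⁻¹)) by group]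
            exact mul_mem (Subgroup.mem_sup_left (Subgroup.mem_zpowers k)) (Subgroup.mem_sup_right h2)
        have hcopk : (Nat.card (Subgroup.zpowers k)).Coprime (Nat.card N) := by
          obtain ⟨i, hi⟩ := IsPGroup.iff_card.mp hNp
          rw [Nat.card_zpowers, hi]
          exact hkord.pow_right i
        obtain ⟨m, hm, hconj⟩ := Solvable.exists_conj_of_sup_eq (Or.inl inferInstance) hsup hcopk
          (by rw [Solvable.card_conj]; exact hcopk)
        set y := m⁻¹ * x with hy
        have hyN : MulAut.conj y • Subgroup.zpowers k = Subgroup.zpowers k := by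
          rw [hy, ← Solvable.conj_conj, ← hconj, Solvable.conj_inv_smul]
        have hyP : y ∈ P := P.mul_mem (P.inv_mem (hNP hm)) hx
        have hyk : y * k * y⁻¹ * k⁻¹ ∈ P ⊓ Subgroup.zpowers k := by
          refine Subgroup.mem_inf.mpr ⟨?_, mul_mem (hyN ▸ Subgroup.smul_mem_pointwise_smul k (MulAut.conj y) _
            (Subgroup.mem_zpowers k)) (inv_mem (Subgroup.mem_zpowers k))⟩
          rw [show y * k * y⁻¹ * k⁻¹ = y * (k * y⁻¹ * k⁻¹) by group]
          exact P.mul_mem hyP ((inferInstance : P.Normal).conj_mem _ (P.inv_mem hyP) k)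
        have hbot : P ⊓ Subgroup.zpowers k = ⊥ := le_bot_iff.mp (le_trans (inf_le_inf le_rfl
          (Subgroup.zpowers_le.mpr (H.pow_mem hh _))) hH.disjoint.eq_bot.le)
        rw [hbot, Subgroup.mem_bot, mul_inv_eq_one, mul_inv_eq_iff_eq_mul] at hyk
        rw [show x = m * y by rw [hy, mul_inv_cancel_left]]
        exact mul_mem (Subgroup.mem_sup_right hm)
          (Subgroup.mem_sup_left (Subgroup.mem_centralizer_singleton_iff.mpr hyk))
      have hCtop : C = ⊤ := by
        refine frattini_nongenerating (top_le_iff.mp (le_trans ?_ (sup_le_sup_left hNΦ C)))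
        rw [← hH.sup_eq_top]
        refine sup_le hPC fun a ha => Subgroup.mem_sup_left ?_
        exact Subgroup.mem_centralizer_singleton_iff.mpr (hHab a ha k (H.pow_mem hh _))
      have hkn : (Subgroup.zpowers k).Normal := ⟨fun z hz g => by
        obtain ⟨i, rfl⟩ := Subgroup.mem_zpowers_iff.mp hz
        have hg : Commute g k := Subgroup.mem_centralizer_singleton_iff.mp (hCtop.ge (Subgroup.mem_top g) : g ∈ C)
        rw [(hg.zpow_right i).eq, mul_inv_cancel_right]
        exact hz⟩
      by_contra hk1
      have h1 : Nat.card N ∣ orderOf k := Nat.card_zpowers k ▸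
        Subgroup.card_dvd_of_le (hle _ hkn (Subgroup.zpowers_ne_bot.mpr hk1))
      obtain ⟨i, hi⟩ := IsPGroup.iff_card.mp hNp
      exact hN1 (Subgroup.card_eq_one.mp (Nat.eq_one_of_dvd_coprimes
        (hkord.pow_right i) h1 (dvd_of_eq hi)))
    -- a common eigenvector in `N`
    have hPcent : ∀ x ∈ P, ∀ w ∈ N, x * w = w * x := by
      intro x hx w hw
      have hF : P ≤ Cfsg.fittingSubgroup G := Cores.pCore_le_fittingSubgroup p
      exact (Subgroup.mem_centralizer_iff.mp
        (Cores.fitting_le_centralizer_minimalNormal N hNmin (hF hx)) w hw).symm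
    have hiter : ∀ (g : G) (j : ℕ) (w : N),
        ((MulAut.conjNormal g : MulAut N).toMonoidHom : N → N)^[j] w =
          (MulAut.conjNormal (g ^ j) : MulAut N) w := by
      intro g j
      induction j with
      | zero => intro w; simp
      | succ j ihj =>
        intro w
        rw [Function.iterate_succ_apply', ihj, pow_succ', map_mul]
        rfl
    obtain ⟨w, -, hw1, hw⟩ := FusionSupersoluble.exists_common_eigen (p := p)
      ((fun g : G => (MulAut.conjNormal g : MulAut N).toMonoidHom) '' (H : Set G))
      (by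
        rintro _ ⟨a, ha, rfl⟩ _ ⟨b, hb, rfl⟩ v
        show (MulAut.conjNormal a : MulAut N) ((MulAut.conjNormal b : MulAut N) v) = _
        rw [← MulAut.mul_apply, ← map_mul, hHab a ha b hb, map_mul]
        rfl)
      (by
        rintro _ ⟨a, ha, rfl⟩ v
        rw [hiter, hexp a ha, map_one]
        rfl)
      ⊤ (by
        haveI : Nontrivial N := (Subgroup.nontrivial_iff_ne_bot N).mpr hN1
        exact top_ne_bot)
      (fun v _ => Subgroup.mem_center_iff.mpr fun u => mul_comm' u v)
      (fun v _ => Subtype.ext (hNexp v v.2)) (fun _ _ _ _ => Subgroup.mem_top _)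
    have hWn : (Subgroup.zpowers (w : G)).Normal := by
      refine Subgroup.normalizer_eq_top_iff.mp (top_le_iff.mp ?_)
      rw [← hH.sup_eq_top]
      refine sup_le (fun x hx => ?_) fun a ha => ?_
      · refine Subgroup.centralizer_le_normalizer _ (Subgroup.mem_centralizer_iff.mpr fun z hz => ?_)
        exact (hPcent x hx z (Subgroup.zpowers_le.mpr w.2 hz)).symm
      · refine Solvable.mem_normalizer_iff_conj.mpr (Subgroup.eq_of_le_of_card_ge ?_
          (Solvable.card_conj _ _).ge)
        rw [Solvable.conj_eq_map, MonoidHom.map_zpowers, Subgroup.zpowers_le]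
        obtain ⟨i, hi⟩ := Subgroup.mem_zpowers_iff.mp (hw _ ⟨a, ha, rfl⟩)
        exact Subgroup.mem_zpowers_iff.mpr ⟨i, congrArg Subtype.val hi⟩
    have hNW : N = Subgroup.zpowers (w : G) := le_antisymm
      (hle _ hWn (Subgroup.zpowers_ne_bot.mpr fun e => hw1 (Subtype.ext e)))
      (Subgroup.zpowers_le.mpr w.2)
    refine hncyc ?_
    rw [hNW]
    infer_instance


/-- Huppert's supersolvability criterion: if every maximal subgroup of a finite group has prime index, then the group is supersolvable. -/
theorem result {G : Type*} [Group G] [Finite G] (h : ∀ M : Subgroup G, IsCoatom M → M.index.Prime) : Cfsg.IsSupersolvable G := by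
  exact aux _ G rfl h

end Cfsg.Agent.S0579
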