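import Cfsg.Statements.S0585
import Cfsg.Agent.EqLemmas

set_option autoImplicit false
open Cfsg

namespace Cfsg.Agent.S0585

/-- If the Frattini subgroup of a finite group G is trivial, then every abelian normal subgroup of G has a complement in G. -/
theorem result {G : Type*} [Group G] [Finite G] (hΦ : frattini G = ⊥) (A : Subgroup G) [A.Normal] [IsMulCommutative A] : ∃ H : Subgroup G, Subgroup.IsComplement' A H := by
  classical
  obtain ⟨H, hH⟩ := exists_minimal_of_wellFoundedLT (fun H : Subgroup G => A ⊔ H = ⊤)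
    ⟨⊤, by simp⟩
  refine ⟨H, ?_⟩
  have hAH : A ⊔ H = ⊤ := hH.1
  set D : Subgroup G := A ⊓ H with hDdef
  have hDn : D.Normal := by
    constructor
    intro d hd g
    obtain ⟨a, ha, h, hh, rfl⟩ := Subgroup.mem_sup_of_normal_left.mp
      (show g ∈ A ⊔ H by rw [hAH]; trivial)
    obtain ⟨hd1, hd2⟩ := hd
    have h1 : h * d * h⁻¹ ∈ A := ‹A.Normal›.conj_mem d hd1 h
    have h2 : h * d * h⁻¹ ∈ H := H.mul_mem (H.mul_mem hh hd2) (H.inv_mem hh)
    have hc : a * (h * d * h⁻¹) = (h * d * h⁻¹) * a := by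
      exact congrArg Subtype.val (mul_comm' (⟨a, ha⟩ : A) ⟨_, h1⟩)
    have : a * h * d * (a * h)⁻¹ = h * d * h⁻¹ := by
      calc a * h * d * (a * h)⁻¹ = a * (h * d * h⁻¹) * a⁻¹ := by group
        _ = h * d * h⁻¹ := by rw [hc, mul_inv_cancel_right]
    rw [this]
    exact ⟨h1, h2⟩
  have hD : D = ⊥ := by
    by_contra hne
    obtain ⟨M, hM, hDM⟩ : ∃ M : Subgroup G, IsCoatom M ∧ ¬ D ≤ M := by
      by_contra hcon
      push Not at hcon
      refine hne (le_bot_iff.mp ?_)
      rw [← hΦ]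
      exact le_iInf₂ fun M hM => hcon M hM
    have htop : D ⊔ M = ⊤ := hM.2 _ (by
      refine lt_of_le_of_ne le_sup_right fun e => hDM ?_
      rw [e]; exact le_sup_left)
    have hH' : A ⊔ (H ⊓ M) = ⊤ := by
      rw [eq_top_iff, ← hAH]
      refine sup_le le_sup_left ?_
      intro h hh
      obtain ⟨d, hd, m, hm, rfl⟩ := Subgroup.mem_sup_of_normal_left.mp
        (show h ∈ D ⊔ M by rw [htop]; trivial)
      refine Subgroup.mul_mem_sup hd.1 ⟨?_, hm⟩
      simpa using H.mul_mem (H.inv_mem hd.2) hh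
    have : H ≤ H ⊓ M := hH.2 hH' inf_le_left
    exact hDM (le_trans inf_le_right (le_trans this inf_le_right))
  refine Subgroup.isComplement'_of_disjoint_and_mul_eq_univ (disjoint_iff.mpr hD) ?_
  rw [← Subgroup.normal_mul, hAH, Subgroup.coe_top]

end Cfsg.Agent.S0585
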