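import Cfsg.Statements.S0587
import Cfsg.Agent.Lib.Solvable.Maximal
import Cfsg.Agent.Lib.PGroup.Basic
import Cfsg.Agent.Lib.Cores.Basic

set_option autoImplicit false
open Cfsg

namespace Cfsg.Agent.S0587

/-- Let G be a finite group whose largest normal p-subgroup L is nontrivial, and M a maximal subgroup of G with trivial normal core. Then L is elementary abelian, M is a complement to L, L is a minimal normal subgroup of G, the centralizer of L is L, and for every prime q such that the largest normal q-subgroup of M is nontrivial, the order of L is congruent to 1 modulo q and q ≠ p. -/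
theorem result {G : Type*} [Group G] [Finite G] (p : ℕ) [Fact p.Prime] (hL : Cfsg.pCore p G ≠ ⊥) (M : Subgroup G) (hM : IsCoatom M) (hcore : M.normalCore = ⊥) : Cfsg.IsElementaryAbelian p (Cfsg.pCore p G) ∧ Subgroup.IsComplement' (Cfsg.pCore p G) M ∧ (∀ K : Subgroup G, K.Normal → K ≤ Cfsg.pCore p G → K = ⊥ ∨ K = Cfsg.pCore p G) ∧ Subgroup.centralizer ((Cfsg.pCore p G : Subgroup G) : Set G) = Cfsg.pCore p G ∧ ∀ (q : ℕ) [Fact q.Prime], Cfsg.pCore q ↥M ≠ ⊥ → Nat.card (Cfsg.pCore p G) % q = 1 % q ∧ q ≠ p := by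
  classical
  set L := Cfsg.pCore p G with hLdef
  have hLp : IsPGroup p L := Cores.isPGroup_pCore p G
  haveI : Group.IsNilpotent L := hLp.isNilpotent
  have hcoreLe : ∀ T : Subgroup G, T.Normal → T ≤ M → T = ⊥ := fun T hT hTM => by
    haveI := hT
    exact le_bot_iff.mp (hcore ▸ Subgroup.normal_le_normalCore.mpr hTM)
  obtain ⟨K, hKn, hK1, hKL, hKmin⟩ := Solvable.exists_minimal_normal (N := L) hL
  haveI := hKn
  haveI : Group.IsSolvable K := Solvable.isSolvable_of_le hKL
  obtain ⟨hKc, r, hr, hrK, hrpow⟩ := Solvable.elementaryAbelian_of_minimal_normal K hK1 hKmin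
  haveI := hKc
  have hKp : IsPGroup p K := hLp.to_le hKL
  have hrp : r = p := by
    haveI : Fact r.Prime := ⟨hr⟩
    by_contra hne
    exact hK1 (disjoint_self.mp (IsPGroup.disjoint_of_ne r p hne _ _ hrK hKp))
  subst hrp
  have hKM : ¬ K ≤ M := fun h => hK1 (hcoreLe K hKn h)
  have htop : M ⊔ K = ⊤ := hM.2 _ (lt_of_le_of_ne le_sup_left fun e => hKM (e ▸ le_sup_right))
  have hcompl : Subgroup.IsComplement' K M :=
    Solvable.isComplement'_of_minimal_normal_abelian hKmin htop hKM
  have hdec : ∀ g : G, ∃ m ∈ M, ∃ k ∈ K, g = m * k := fun g => by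
    obtain ⟨m, hm, k, hk, e⟩ := Subgroup.mem_sup_of_normal_right.mp
      (show g ∈ M ⊔ K by rw [htop]; trivial)
    exact ⟨m, hm, k, hk, e.symm⟩
  have hCKM : ∀ x ∈ M, x ∈ Subgroup.centralizer (K : Set G) → x = 1 := by
    intro x hxM hxC
    have hn : (M ⊓ Subgroup.centralizer (K : Set G)).Normal := by
      refine ⟨fun y hy g => ?_⟩
      obtain ⟨m, hm, k, hk, rfl⟩ := hdec g
      have hky : k * y * k⁻¹ = y := by
        rw [Subgroup.mem_centralizer_iff.mp hy.2 k hk, mul_inv_cancel_right]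
      have e : m * k * y * (m * k)⁻¹ = m * y * m⁻¹ := by
        calc m * k * y * (m * k)⁻¹ = m * (k * y * k⁻¹) * m⁻¹ := by group
          _ = _ := by rw [hky]
      rw [e]
      exact ⟨M.mul_mem (M.mul_mem hm hy.1) (M.inv_mem hm),
        Subgroup.Normal.conj_mem inferInstance y hy.2 m⟩
    have := hcoreLe _ hn inf_le_left
    exact Subgroup.mem_bot.mp (this ▸ ⟨hxM, hxC⟩)
  have hCK : Subgroup.centralizer (K : Set G) = K := by
    refine le_antisymm (fun g hg => ?_) (Subgroup.le_centralizer K)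
    obtain ⟨m, hm, k, hk, rfl⟩ := hdec g
    have : m ∈ Subgroup.centralizer (K : Set G) :=
      (Subgroup.mul_mem_cancel_right _ (Subgroup.le_centralizer K hk)).mp hg
    rw [hCKM m hm this, one_mul]
    exact hk
  have hLK : L = K := by
    refine le_antisymm ?_ hKL
    set Z := (Subgroup.center L).map L.subtype with hZ
    haveI : Z.Normal := Cores.map_subtype_normal_of_characteristic L _
    have hne : K ⊓ Z ≠ ⊥ := by
      haveI : Nontrivial K := (Subgroup.nontrivial_iff_ne_bot K).mpr hK1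
      intro e
      have hKn' : (K.subgroupOf L).Normal := inferInstance
      have h1 := PGroup.inf_center_ne_bot hLp (N := K.subgroupOf L) (by
        intro e'
        rw [Subgroup.subgroupOf_eq_bot, disjoint_iff, inf_eq_left.mpr hKL] at e'
        exact hK1 e')
      apply h1
      rw [eq_bot_iff]
      intro x hx
      have : (x : G) ∈ K ⊓ Z := ⟨hx.1, ⟨x, hx.2, rfl⟩⟩
      rw [e, Subgroup.mem_bot] at this
      exact Subgroup.mem_bot.mpr (Subtype.ext this)
    have hKZ : K ≤ Z := by
      have := (hKmin (K ⊓ Z) inferInstance inf_le_left).resolve_left hne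
      exact this ▸ inf_le_right
    rw [← hCK]
    intro l hl
    refine Subgroup.mem_centralizer_iff.mpr fun k hk => ?_
    obtain ⟨z, hz, rfl⟩ := hKZ hk
    exact congrArg Subtype.val (Subgroup.mem_center_iff.mp hz ⟨l, hl⟩).symm
  rw [hLK]
  refine ⟨⟨hKc, hrpow⟩, hcompl, hKmin, hCK, fun q hq hR => ?_⟩
  set R := (Cfsg.pCore q M).map M.subtype with hRdef
  have hRne : R ≠ ⊥ := fun e => hR ((Subgroup.map_eq_bot_iff_of_injective _ M.subtype_injective).mp e)
  have hRM : R ≤ M := Subgroup.map_subtype_le _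
  letI : MulAction (Cfsg.pCore q M) K := MulAction.compHom K
    ((MulAut.conjNormal (H := K)).comp (M.subtype.comp (Cfsg.pCore q M).subtype))
  have hsmul : ∀ (x : Cfsg.pCore q M) (k : K),
      ((x • k : K) : G) = ((x : M) : G) * k * ((x : M) : G)⁻¹ := fun x k => rfl
  have hfix : MulAction.fixedPoints (Cfsg.pCore q M) K = {1} := by
    ext k
    simp only [MulAction.mem_fixedPoints, Set.mem_singleton_iff]
    refine ⟨fun hk => ?_, fun hk x => Subtype.ext (by rw [hsmul, hk]; simp)⟩
    set F := K ⊓ Subgroup.centralizer (R : Set G) with hF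
    have hFn : F.Normal := by
      refine ⟨fun y hy g => ?_⟩
      obtain ⟨m, hm, k', hk', rfl⟩ := hdec g
      have hky : k' * y * k'⁻¹ = y := by
        rw [show k' * y = y * k' from congrArg Subtype.val (mul_comm' (⟨k', hk'⟩ : K) ⟨y, hy.1⟩),
          mul_inv_cancel_right]
      have e : m * k' * y * (m * k')⁻¹ = m * y * m⁻¹ := by
        calc m * k' * y * (m * k')⁻¹ = m * (k' * y * k'⁻¹) * m⁻¹ := by group
          _ = _ := by rw [hky]
      rw [e]
      refine ⟨hKn.conj_mem y hy.1 m, Subgroup.mem_centralizer_iff.mpr ?_⟩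
      rintro _ ⟨z, hz, rfl⟩
      have hz' : ((⟨m, hm⟩ : M)⁻¹ * z * ⟨m, hm⟩ : M) ∈ Cfsg.pCore q M := by
        have := (Cores.pCore_normal q M).conj_mem z hz (⟨m, hm⟩ : M)⁻¹
        simpa using this
      have h1 := Subgroup.mem_centralizer_iff.mp hy.2 _ (Subgroup.mem_map_of_mem M.subtype hz')
      simp only [Subgroup.coe_subtype, Subgroup.coe_mul, Subgroup.coe_inv] at h1 ⊢
      calc (z : G) * (m * y * m⁻¹) = m * (m⁻¹ * z * m * y) * m⁻¹ := by group
        _ = m * (y * (m⁻¹ * z * m)) * m⁻¹ := by rw [h1]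
        _ = _ := by group
    have hkF : (k : G) ∈ F := ⟨k.2, Subgroup.mem_centralizer_iff.mpr (by
      rintro _ ⟨z, hz, rfl⟩
      have := congrArg Subtype.val (hk ⟨z, hz⟩)
      rw [hsmul] at this
      exact mul_inv_eq_iff_eq_mul.mp this)⟩
    rcases hKmin F hFn inf_le_left with h | h
    · rw [h, Subgroup.mem_bot] at hkF
      exact Subtype.ext hkF
    · refine absurd ?_ hRne
      rw [eq_bot_iff]
      intro x hx
      refine Subgroup.mem_bot.mpr (hCKM x (hRM hx) (Subgroup.mem_centralizer_iff.mpr fun y hy => ?_))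
      exact (Subgroup.mem_centralizer_iff.mp ((h.ge.trans inf_le_right) hy) x hx).symm
  have hmod := (Cores.isPGroup_pCore q M).card_modEq_card_fixedPoints K
  rw [hfix, show Nat.card ({1} : Set K) = 1 by simp] at hmod
  refine ⟨hmod, fun e => ?_⟩
  subst e
  obtain ⟨n, hn⟩ := IsPGroup.iff_card.mp hKp
  rcases n with _ | n
  · exact hK1 (Subgroup.card_eq_one.mp (by simpa using hn))
  · rw [hn, Nat.ModEq, Nat.mod_eq_zero_of_dvd (dvd_pow_self q n.succ_ne_zero)] at hmod
    exact absurd hmod.symm (by rw [Nat.one_mod_eq_one.mpr (Fact.out : q.Prime).ne_one]; exact one_ne_zero)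

end Cfsg.Agent.S0587
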