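import Cfsg.Statements.S0588
import Cfsg.Agent.EqLemmas

set_option autoImplicit false
open Cfsg

namespace Cfsg.Agent.S0588

/-- If a subgroup H of a finite group G contains the centralizer of every non-identity element of H, then the order of H is coprime to its index. -/
theorem result {G : Type*} [Group G] [Finite G] (H : Subgroup G) (h : ∀ x ∈ H, x ≠ 1 → Subgroup.centralizer ({x} : Set G) ≤ H) : (Nat.card H).Coprime H.index := by
  rw [Nat.coprime_iff_gcd_eq_one]
  by_contra hne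
  obtain ⟨p, hp, hpd⟩ := Nat.exists_prime_and_dvd hne
  haveI : Fact p.Prime := ⟨hp⟩
  have hp1 : p ∣ Nat.card H := hpd.trans (Nat.gcd_dvd_left _ _)
  have hp2 : p ∣ H.index := hpd.trans (Nat.gcd_dvd_right _ _)
  obtain ⟨⟨x, hxH⟩, hx⟩ := exists_prime_orderOf_dvd_card' p hp1
  rw [Subgroup.orderOf_mk] at hx
  have hx1 : x ≠ 1 := by rintro rfl; rw [orderOf_one] at hx; exact hp.ne_one hx.symm
  have hxp : IsPGroup p (Subgroup.zpowers x) :=
    IsPGroup.of_card (n := 1) (by rw [Nat.card_zpowers, hx, pow_one])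
  obtain ⟨P, hxP⟩ := hxp.exists_le_sylow
  have hxP' : x ∈ (P : Subgroup G) := hxP (Subgroup.mem_zpowers x)
  haveI : Nontrivial (P : Subgroup G) :=
    ⟨⟨⟨x, hxP'⟩, 1, fun e => hx1 (congrArg Subtype.val e)⟩⟩
  haveI := P.isPGroup'.center_nontrivial
  obtain ⟨z, hzne⟩ := exists_ne (1 : Subgroup.center (P : Subgroup G))
  have hzc : ∀ y ∈ (P : Subgroup G), y * ((z : (P : Subgroup G)) : G) = ((z : (P : Subgroup G)) : G) * y :=
    fun y hy => congrArg Subtype.val (Subgroup.mem_center_iff.mp z.2 ⟨y, hy⟩)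
  have hzH : ((z : (P : Subgroup G)) : G) ∈ H :=
    h x hxH hx1 (Subgroup.mem_centralizer_singleton_iff.mpr (hzc x hxP').symm)
  have hz1 : ((z : (P : Subgroup G)) : G) ≠ 1 := fun e => hzne (Subtype.ext (Subtype.ext e))
  have hPH : (P : Subgroup G) ≤ H := fun y hy =>
    h _ hzH hz1 (Subgroup.mem_centralizer_singleton_iff.mpr (hzc y hy))
  exact P.not_dvd_index (hp2.trans (Subgroup.index_dvd_of_le hPH))

end Cfsg.Agent.S0588
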