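import Cfsg.Statements.S0589
import Cfsg.Agent.Lib.Frobenius.Complement

set_option autoImplicit false
open Pointwise
open Cfsg

namespace Cfsg.Agent.S0589

/-- Let H be a Frobenius complement in a finite group G and L a subgroup of G whose order divides the order of H. Then L is contained in some conjugate of H. -/
theorem result {G : Type*} [Group G] [Finite G] (H : Subgroup G) (hH : Cfsg.IsFrobeniusComplement H) (L : Subgroup G) (hL : Nat.card L ∣ Nat.card H) : ∃ x : G, L ≤ MulAut.conj x • H := by
  rcases eq_or_ne L ⊥ with rfl | hL1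
  · exact ⟨1, bot_le⟩
  set K := Frobenius.frobKernel hH
  have := Frobenius.frobKernel_normal hH
  have hc := Frobenius.frobKernel_isComplement hH
  have hd : Disjoint L K := by
    refine disjoint_iff.2 (Subgroup.inf_eq_bot_of_coprime ?_)
    rw [Frobenius.card_frobKernel hH]
    exact (Frobenius.coprime_card_index hH).coprime_dvd_left hL
  let f : L →* H :=
    (hc.symm.QuotientMulEquiv.toMonoidHom).comp ((QuotientGroup.mk' K).comp L.subtype)
  have hf : Function.Injective f := by
    refine hc.symm.QuotientMulEquiv.injective.comp ?_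
    refine (injective_iff_map_eq_one ((QuotientGroup.mk' K).comp L.subtype)).2 fun x hx => ?_
    exact Subtype.ext (Subgroup.mem_bot.1 (hd.le_bot ⟨x.2, (QuotientGroup.eq_one_iff _).1 hx⟩))
  obtain ⟨x, hx⟩ := Subgroup.ne_bot_iff_exists_ne_one.1 hL1
  have hxK : (x : G) ∉ K := fun h => hx (Subtype.ext (Subgroup.mem_bot.1 (hd.le_bot ⟨x.2, h⟩)))
  obtain ⟨k, -, hk⟩ := (Frobenius.fpf_frobKernel hH).exists_conj_mem hc hxK
  refine ⟨k, Frobenius.le_conj_of_inf_ne_bot hH
    ((Frobenius.smallCyclic_complement hH).of_injective hf) fun hbot => hx ?_⟩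
  have hm : (x : G) ∈ L ⊓ MulAut.conj k • H := ⟨x.2, Frobenius.mem_conj_smul.2 hk⟩
  rw [hbot, Subgroup.mem_bot] at hm
  exact Subtype.ext hm

end Cfsg.Agent.S0589
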