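import Cfsg.Agent.Lib.PLocal.Action

set_option autoImplicit false
open Cfsg
open scoped commutatorElement

namespace Cfsg.Agent.S0591

/-- For a quadratically acting element a on an elementary abelian p-group V, the fixed points C_V(a) have order at least the square root of the order of V. -/
theorem result {G : Type*} [Group G] [Finite G] {p : ℕ} [Fact p.Prime] (V : Subgroup G) (hV : Cfsg.IsElementaryAbelian p V) (a : G) (ha : a ∈ Subgroup.normalizer (V : Set G)) (hq : ⁅⁅V, Subgroup.zpowers a⁆, Subgroup.zpowers a⁆ = ⊥) : Nat.card V ≤ Nat.card ↥(V ⊓ Subgroup.centralizer (Subgroup.zpowers a : Set G)) ^ 2 := by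
  have hmem : ∀ v : V, v * a * (v : G)⁻¹ * a⁻¹ ∈ V := fun v => by
    rw [mul_assoc, mul_assoc, ← mul_assoc a]
    exact V.mul_mem v.2 (PLocal.conj_mem ha (V.inv_mem v.2))
  let f : V →* V :=
    { toFun := fun v => ⟨v * a * (v : G)⁻¹ * a⁻¹, hmem v⟩
      map_one' := Subtype.ext (by simp)
      map_mul' := fun v w => Subtype.ext (by
        show (v : G) * w * a * ((v : G) * w)⁻¹ * a⁻¹
          = (v : G) * a * (v : G)⁻¹ * a⁻¹ * ((w : G) * a * (w : G)⁻¹ * a⁻¹)
        have hc := PLocal.elemAb_comm hV (hmem w) (PLocal.conj_mem ha (V.inv_mem v.2))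
        calc (v : G) * w * a * ((v : G) * w)⁻¹ * a⁻¹
            = (v : G) * (((w : G) * a * (w : G)⁻¹ * a⁻¹) * (a * (v : G)⁻¹ * a⁻¹)) := by group
          _ = (v : G) * ((a * (v : G)⁻¹ * a⁻¹) * ((w : G) * a * (w : G)⁻¹ * a⁻¹)) := by rw [hc]
          _ = _ := by group) }
  set C := V ⊓ Subgroup.centralizer (Subgroup.zpowers a : Set G)
  have hC : ∀ x : G, x ∈ V → x * a = a * x → x ∈ C := fun x hx hxa => ⟨hx, by
    rw [Subgroup.zpowers_eq_closure, Subgroup.centralizer_closure]
    exact Subgroup.mem_centralizer_iff.2 fun y hy => by rw [Set.mem_singleton_iff.1 hy, hxa]⟩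
  have hker : Nat.card f.ker ≤ Nat.card C := by
    refine Nat.card_le_card_of_injective
      (fun v => (⟨(v.1 : G), hC _ v.1.2 ?_⟩ : C)) fun v w h => Subtype.ext (Subtype.ext (congrArg (Subtype.val) h :))
    have h1 : (v.1 : G) * a * (v.1 : G)⁻¹ * a⁻¹ = 1 := congrArg Subtype.val (MonoidHom.mem_ker.1 v.2)
    exact mul_inv_eq_iff_eq_mul.1 (mul_inv_eq_one.1 h1)
  have hrange : Nat.card f.range ≤ Nat.card C := by
    refine Nat.card_le_card_of_injective
      (fun v => (⟨(v.1 : G), hC _ v.1.2 ?_⟩ : C)) fun v w h => Subtype.ext (Subtype.ext (congrArg (Subtype.val) h :))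
    obtain ⟨w, hw⟩ := v.2
    have hwm : (v.1 : G) ∈ ⁅V, Subgroup.zpowers a⁆ := by
      rw [← hw]
      exact Subgroup.commutator_mem_commutator w.2 (Subgroup.mem_zpowers a)
    exact (PLocal.commute_of_le_centralizer (Subgroup.commutator_eq_bot_iff_le_centralizer.1 hq) hwm
      (Subgroup.mem_zpowers a)).eq
  calc Nat.card V = Nat.card f.range * Nat.card f.ker := by
        rw [← Subgroup.index_ker, mul_comm, Subgroup.card_mul_index]
    _ ≤ _ := by rw [sq]; exact Nat.mul_le_mul hrange hker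

end Cfsg.Agent.S0591
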