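import Cfsg.Statements.S0592
import Cfsg.Agent.Lib.Quadratic.Ambient

set_option autoImplicit false
open Cfsg

namespace Cfsg.Agent.S0592

open Quadratic Polynomial

theorem exists_eigen {K : Type*} [Field K] [Fintype K] {W : Type*} [AddCommGroup W] [Module K W]
    (X : Module.End K W) (hX : X ^ Fintype.card K = X) {v : W} (hv : v ≠ 0) :
    ∃ (u : K) (w : W), w ≠ 0 ∧ X w = u • w := by
  by_contra hno
  push Not at hno
  have hinj : ∀ u : K, Function.Injective (X - u • (1 : Module.End K W)) := by
    intro u
    rw [← LinearMap.ker_eq_bot, Submodule.eq_bot_iff]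
    intro w hw
    by_contra h0
    exact hno u w h0 (sub_eq_zero.1 (by simpa using hw))
  have hsplit : ((Polynomial.X : K[X]) ^ Fintype.card K - Polynomial.X) =
      (Finset.univ.val.map fun u : K => Polynomial.X - C u).prod := by
    have hroots := FiniteField.roots_X_pow_card_sub_X K
    have hdeg : ((Polynomial.X : K[X]) ^ Fintype.card K - Polynomial.X).natDegree = Fintype.card K :=
      FiniteField.X_pow_card_sub_X_natDegree_eq K Fintype.one_lt_card
    have hmonic : ((Polynomial.X : K[X]) ^ Fintype.card K - Polynomial.X).Monic :=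
      monic_X_pow_sub (by rw [degree_X]; exact_mod_cast Fintype.one_lt_card)
    have := prod_multiset_X_sub_C_of_monic_of_roots_card_eq hmonic (by rw [hroots, hdeg]; rfl)
    rw [← hroots]
    exact this.symm
  have hall : ∀ s : Multiset K,
      Function.Injective (aeval X (s.map fun u : K => Polynomial.X - C u).prod) := by
    intro s
    induction s using Multiset.induction with
    | empty =>
      intro x y h
      simpa using h
    | cons u s ih =>
      rw [Multiset.map_cons, Multiset.prod_cons, map_mul, map_sub, aeval_X, aeval_C,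
        Algebra.algebraMap_eq_smul_one]
      exact (hinj u).comp ih
  have h0 := hall Finset.univ.val
  rw [← hsplit, map_sub, map_pow, aeval_X, hX, sub_self] at h0
  exact hv (h0 (by simp))

/-- Two quadratically acting generators of a linear group that is not a p-group, with the p'-part of the order of their product dividing q - 1, give a homomorphism onto a subgroup of SL(2, q) that is not a p-group. -/
theorem result {K : Type*} [Field K] [Fintype K] {p : ℕ} [Fact p.Prime] [CharP K p] {W : Type*} [AddCommGroup W] [Module K W] [FiniteDimensional K W] [Finite W] [Nontrivial W] (H : Subgroup (W ≃ₗ[K] W)) (a b : W ≃ₗ[K] W) (hH : H = Subgroup.closure {a, b}) (ha : ∀ w : W, a (a w - w) = a w - w) (hb : ∀ w : W, b (b w - w) = b w - w) (hnp : ¬ IsPGroup p H) (hk : ∃ e k : ℕ, orderOf (a * b) = p ^ e * k ∧ k ∣ Fintype.card K - 1) : ∃ φ : H →* Matrix.SpecialLinearGroup (Fin 2) K, ¬ IsPGroup p φ.range := by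
  classical
  haveI : Finite (W ≃ₗ[K] W) := Finite.of_injective _ DFunLike.coe_injective
  have haH : a ∈ H := hH ▸ Subgroup.subset_closure (Set.mem_insert _ _)
  have hbH : b ∈ H := hH ▸ Subgroup.subset_closure (Set.mem_insert_of_mem _ rfl)
  have hgen : Subgroup.closure ({⟨a, haH⟩, ⟨b, hbH⟩} : Set H) = ⊤ := by
    apply Subgroup.map_injective H.subtype_injective
    rw [MonoidHom.map_closure, Set.image_pair, ← MonoidHom.range_eq_map, Subgroup.range_subtype]
    exact hH.symm
  let ρ : H →* Module.End K W :=
    { toFun := fun h => (h : W ≃ₗ[K] W).toLinearMap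
      map_one' := rfl
      map_mul' := fun _ _ => rfl }
  obtain ⟨g₀, hg₀⟩ := exists_not_pElement hnp
  obtain ⟨U, i1, i2, i3, σ, hirr, hq, hker, hσ0⟩ := exists_irreducible_constituent (p := p) ρ g₀
    (fun n h => hg₀ n (Subtype.ext (LinearEquiv.toLinearMap_injective h)))
  set a' : H := ⟨a, haH⟩
  set b' : H := ⟨b, hbH⟩
  have hqa : IsQuad σ a' := hq a' ha
  have hqb : IsQuad σ b' := hq b' hb
  obtain ⟨v, hv⟩ : ∃ v : U, v ≠ 0 := by
    by_contra h
    push Not at h
    exact hσ0 0 (LinearMap.ext fun v => by rw [h v, map_zero, map_zero])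
  -- an eigenvalue of the product
  obtain ⟨e, k, hord, hdvd⟩ := hk
  set X := σ (a' * b') with hXdef
  obtain ⟨u, w, hw, huw⟩ : ∃ (u : K) (w : U), w ≠ 0 ∧ X w = u • w := by
    have h1 : X ^ (p ^ e * k) = 1 := by
      rw [hXdef, ← map_pow]
      refine hker _ ?_
      have : (a' * b') ^ (p ^ e * k) = 1 := Subtype.ext (by
        rw [SubgroupClass.coe_pow, OneMemClass.coe_one]
        show (a * b) ^ (p ^ e * k) = 1
        rw [← hord, pow_orderOf_eq_one])
      rw [this, map_one]
    have hcharp : CharP (Module.End K U) p := by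
      haveI : Nontrivial U := ⟨v, 0, hv⟩
      exact charP_of_injective_algebraMap (algebraMap K (Module.End K U)).injective p
    have hnil : (X ^ k - 1) ^ p ^ e = 0 := by
      rw [sub_pow_char_pow_of_commute p e (Commute.one_right _), one_pow, ← pow_mul, mul_comm, h1,
        sub_self]
    let F : Submodule K U := LinearMap.ker (X ^ k - 1)
    obtain ⟨w₀, hw₀, hw₀F⟩ : ∃ w₀ : U, w₀ ≠ 0 ∧ w₀ ∈ F := by
      by_contra h
      push Not at h
      have hinj : Function.Injective ((X ^ k - 1 : Module.End K U)) := by
        rw [← LinearMap.ker_eq_bot, Submodule.eq_bot_iff]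
        exact fun x hx => by_contra fun hx0 => h x hx0 hx
      have : Function.Injective (((X ^ k - 1) ^ p ^ e : Module.End K U)) := by
        rw [Module.End.coe_pow]
        exact hinj.iterate _
      exact hv (this (by simp [hnil]))
    have hFX : ∀ x ∈ F, X x ∈ F := by
      intro x hx
      rw [LinearMap.mem_ker] at hx ⊢
      rw [← Module.End.mul_apply, ((Commute.refl X).pow_left k |>.sub_left (Commute.one_left X)).eq,
        Module.End.mul_apply, hx, map_zero]
    have hX' : (X.restrict hFX) ^ Fintype.card K = X.restrict hFX := by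
      obtain ⟨m, hm⟩ := hdvd
      have hcard : Fintype.card K = k * m + 1 := by
        have := Fintype.card_pos (α := K)
        omega
      refine LinearMap.ext fun x => Subtype.ext ?_
      rw [Module.End.pow_restrict _ hFX]
      show (X ^ Fintype.card K) (x : U) = X x
      have hfix : ∀ j : ℕ, ((X ^ k) ^ j) (x : U) = x := by
        intro j
        have hx : (X ^ k) (x : U) = x := sub_eq_zero.1 x.2
        induction j with
        | zero => rfl
        | succ j ih => rw [pow_succ, Module.End.mul_apply, hx, ih]
      rw [hcard, pow_succ', pow_mul, Module.End.mul_apply, hfix]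
    obtain ⟨u, w, hw, huw⟩ := exists_eigen (X.restrict hFX) hX' (v := ⟨w₀, hw₀F⟩)
      fun h => hw₀ (congrArg Subtype.val h)
    exact ⟨u, w, fun h => hw (Subtype.ext h), congrArg Subtype.val huw⟩
  have hu : u ≠ 0 := by
    intro h
    rw [h, zero_smul, hXdef] at huw
    exact hw (by rw [← apply_inv_self σ (a' * b') w, huw, map_zero])
  have hXi : σ (a' * b')⁻¹ w = u⁻¹ • w := by
    have := apply_inv_self σ (a' * b') w
    rw [← hXdef, huw, map_smul] at this
    conv_rhs => rw [← this]
    rw [smul_smul, inv_mul_cancel₀ hu, one_smul]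
  -- the anticommutator is a scalar
  let C : Module.End K U := (σ a' - 1) * (σ b' - 1) + (σ b' - 1) * (σ a' - 1)
  set μ : K := u + u⁻¹ - 2
  have hinvq : ∀ (g : H), IsQuad σ g → ∀ x, σ g⁻¹ x = x - (σ g x - x) := by
    intro g hg x
    refine (Function.LeftInverse.injective (apply_inv_self σ g)) ?_
    rw [apply_self_inv, map_sub, hg]
    abel
  have hCX : ∀ x, C x = X x + σ (a' * b')⁻¹ x - (2 : K) • x := by
    intro x
    rw [hXdef, mul_inv_rev, apply_mul, apply_mul, hinvq b' hqb, hinvq a' hqa, two_smul]
    simp [C]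
    abel
  have hsq : ∀ g : H, IsQuad σ g → (σ g - 1) * (σ g - 1) = 0 := fun g hg =>
    LinearMap.ext fun x => by simp [hg x]
  have hCc : ∀ g : H, σ g * C = C * σ g := by
    intro g
    have hg : g ∈ Submonoid.closure ({a', b'} : Set H) := by
      rw [← Subgroup.closure_toSubmonoid_of_finite, Subgroup.mem_toSubmonoid, hgen]
      exact Subgroup.mem_top g
    induction hg using Submonoid.closure_induction with
    | mem x hx =>
      have key : ∀ A B : Module.End K U, A * A = 0 →
          A * (A * B + B * A) = (A * B + B * A) * A := by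
        intro A B hA
        rw [mul_add, add_mul, ← mul_assoc, hA, zero_mul, zero_add, mul_assoc B A A, hA, mul_zero,
          add_zero, mul_assoc]
      have hone : ∀ g : H, (σ g - 1) * C = C * (σ g - 1) → σ g * C = C * σ g := by
        intro g hg
        rw [sub_mul, mul_sub, one_mul, mul_one, sub_left_inj] at hg
        exact hg
      rcases hx with rfl | rfl
      · exact hone _ (key _ _ (hsq _ hqa))
      · refine hone _ ?_
        show _ * ((σ a' - 1) * (σ b' - 1) + (σ b' - 1) * (σ a' - 1)) = _
        rw [add_comm]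
        have := key _ (σ a' - 1) (hsq _ hqb)
        simp only [C]
        rw [this, add_comm]
    | one => rw [map_one, mul_one, one_mul]
    | mul x y _ _ hx hy => rw [map_mul, mul_assoc, hy, ← mul_assoc, hx, mul_assoc]
  have hCμ : ∀ x, C x = μ • x := by
    have hbot := hirr (LinearMap.ker (C - μ • (1 : Module.End K U))) fun g x hx => by
      rw [LinearMap.mem_ker] at hx ⊢
      have h1 : C x = μ • x := sub_eq_zero.1 (by simpa using hx)
      simp only [LinearMap.sub_apply, LinearMap.smul_apply, Module.End.one_apply]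
      rw [← Module.End.mul_apply, ← hCc, Module.End.mul_apply, h1, map_smul, sub_self]
    have htop := hbot.resolve_left fun h => hw ((Submodule.mem_bot K).1 (h ▸ (by
      rw [LinearMap.mem_ker, LinearMap.sub_apply, hCX, huw, hXi, LinearMap.smul_apply,
        Module.End.one_apply, sub_eq_zero]
      simp only [μ, sub_smul, add_smul] : w ∈ LinearMap.ker (C - μ • (1 : Module.End K U)))))
    intro x
    have := LinearMap.congr_fun (LinearMap.ker_eq_top.1 htop) x
    simpa [sub_eq_zero] using this
  obtain ⟨-, φ, -, -, hφ⟩ := exists_hom_sl2_of_pair σ hgen hqa hqb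
    (fun U₀ hUa hUb => hirr U₀ fun g x hx => apply_mem_of_closure hgen σ (U₀ : Set U)
      (by rintro s (rfl | rfl) y hy; exacts [hUa y hy, hUb y hy]) g x hx)
    ⟨_, hσ0 0⟩ μ (fun x => by rw [← hCμ x]; simp [C])
  refine ⟨φ, fun hP => ?_⟩
  obtain ⟨n, hn⟩ := hP ⟨φ g₀, ⟨g₀, rfl⟩⟩
  have h1 := congrArg Subtype.val hn
  rw [SubgroupClass.coe_pow, OneMemClass.coe_one, ← map_pow] at h1
  exact hσ0 n ((hφ _).1 h1)

end Cfsg.Agent.S0592
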