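import Cfsg.Statements.S0594
import Cfsg.Agent.Lib.Quadratic.Section

set_option autoImplicit false
open Cfsg

namespace Cfsg.Agent.S0594

open Quadratic

/-- For odd p, two quadratic generators of a faithful group that is not a p-group, one of which acts nontrivially on a normal subgroup of order prime to p, force p = 3 and a section isomorphic to SL(2,3). -/
theorem result {G : Type*} [Group G] [Finite G] {p : ℕ} [Fact p.Prime] (hp : p ≠ 2) (V H : Subgroup G) (hV : Cfsg.IsElementaryAbelian p V) (hHV : H ≤ Subgroup.normalizer (V : Set G)) (hf : H ⊓ Subgroup.centralizer (V : Set G) = ⊥) (a b : G) (hab : H = Subgroup.closure {a, b}) (ha : ⁅⁅V, Subgroup.zpowers a⁆, Subgroup.zpowers a⁆ = ⊥) (hb : ⁅⁅V, Subgroup.zpowers b⁆, Subgroup.zpowers b⁆ = ⊥) (hnp : ¬ IsPGroup p H) (Q : Subgroup G) (hQH : Q ≤ H) (hQn : H ≤ Subgroup.normalizer (Q : Set G)) (hQ : (Nat.card Q).Coprime p) (hQa : ⁅Q, Subgroup.zpowers a⁆ ≠ ⊥) : p = 3 ∧ ∃ (K L : Subgroup G) (hL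 : (L.subgroupOf K).Normal), K ≤ H ∧ Nonempty ((K ⧸ L.subgroupOf K) ≃* Matrix.SpecialLinearGroup (Fin 2) (ZMod 3)) := by
  have haH : a ∈ H := hab ▸ Subgroup.subset_closure (Set.mem_insert _ _)
  have hbH : b ∈ H := hab ▸ Subgroup.subset_closure (Set.mem_insert_of_mem _ rfl)
  have hgen : Subgroup.closure ({⟨a, haH⟩, ⟨b, hbH⟩} : Set H) = ⊤ := by
    apply Subgroup.map_injective H.subtype_injective
    rw [MonoidHom.map_closure, Set.image_pair, ← MonoidHom.range_eq_map, Subgroup.range_subtype]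
    exact hab.symm
  obtain ⟨q, hqQ, hq⟩ : ∃ q ∈ Q, ¬ a * q * a⁻¹ * q⁻¹ = 1 := by
    by_contra h
    push Not at h
    refine hQa (Subgroup.commutator_eq_bot_iff_le_centralizer.2 fun q hqQ => ?_)
    refine Subgroup.mem_centralizer_iff.2 fun x hx => ?_
    have hqa : Commute a q := mul_inv_eq_iff_eq_mul.1 (mul_inv_eq_one.1 (h q hqQ))
    obtain ⟨i, rfl⟩ := Subgroup.mem_zpowers_iff.1 hx
    exact (hqa.zpow_left i).eq
  haveI : (Q.subgroupOf H).Normal :=
    (Subgroup.normal_subgroupOf_iff_le_normalizer hQH).2 hQn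
  obtain ⟨hp3, h⟩ := section_of_move hp hV hHV hf hgen (commute_of_quad ha) (commute_of_quad hb)
    (Q := Q.subgroupOf H) (R := ⊥) bot_le IsPGroup.of_bot
    (by
      rw [Subgroup.relIndex_bot_left]
      rw [Nat.card_congr (Subgroup.subgroupOfEquivOfLe hQH).toEquiv]
      exact hQ)
    (q := ⟨q, hQH hqQ⟩) hqQ
    (fun h => hq (congrArg Subtype.val (Subgroup.mem_bot.1 h)))
  subst hp3
  exact ⟨rfl, h⟩

end Cfsg.Agent.S0594
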