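import Cfsg.Agent.Lib.Cores.Subnormal
import Cfsg.Agent.Lib.PLocal.Action

set_option autoImplicit false
open Cfsg
open scoped commutatorElement

namespace Cfsg.Agent.S0597

/-- If two subnormal subgroups of a faithful group on an elementary abelian p-group satisfy [V, E₁, E₂] = 1, then their commutator lies in the largest normal p-subgroup. -/
theorem result {G : Type*} [Group G] [Finite G] {p : ℕ} [Fact p.Prime] (V H : Subgroup G) (hV : Cfsg.IsElementaryAbelian p V) (hHV : H ≤ Subgroup.normalizer (V : Set G)) (hf : H ⊓ Subgroup.centralizer (V : Set G) = ⊥) (E₁ E₂ : Subgroup G) (h₁ : E₁ ≤ H) (h₂ : E₂ ≤ H) (hs₁ : (E₁.subgroupOf H).IsSubnormal) (hs₂ : (E₂.subgroupOf H).IsSubnormal) (hc : ⁅⁅V, E₁⁆, E₂⁆ = ⊥) : ⁅E₁, E₂⁆ ≤ (Cfsg.pCore p H).map H.subtype := by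
  set W := ⁅V, E₁⁆
  set L := E₁ ⊔ E₂
  set X := ⁅E₁, E₂⁆
  have hLH : L ≤ H := sup_le h₁ h₂
  have hXL : X ≤ L := Subgroup.commutator_le_sup E₁ E₂
  have hWV : W ≤ V := PLocal.commutator_le_left_of_normalizes (h₁.trans hHV)
  have hE₂W : E₂ ≤ Subgroup.centralizer (W : Set G) :=
    PLocal.le_centralizer_comm (Subgroup.commutator_eq_bot_iff_le_centralizer.1 hc)
  have hE₁W : E₁ ≤ Subgroup.normalizer (W : Set G) := Subgroup.normalizer_commutator_ge_right V E₁
  have hX1 : X ≤ Subgroup.centralizer (W : Set G) := by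
    refine Subgroup.commutator_le.2 fun a ha b hb => ?_
    rw [commutatorElement_def]
    exact Subgroup.mul_mem _ ((Subgroup.mem_normalizer_iff.1
      (PLocal.normalizer_le_normalizer_centralizer W (hE₁W ha)) b).1 (hE₂W hb))
      (Subgroup.inv_mem _ (hE₂W hb))
  have hgenX : ∀ x ∈ X, ∀ v ∈ V, x * v * x⁻¹ * v⁻¹ ∈ W := by
    intro x hx
    rw [show X = Subgroup.closure {g | ∃ a ∈ E₁, ∃ b ∈ E₂, ⁅a, b⁆ = g} from Subgroup.commutator_def E₁ E₂] at hx
    induction hx using Subgroup.closure_induction with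
    | one => intro v _; simp
    | mul x y hxm hym ihx ihy =>
      intro v hv
      have hxW : x ∈ Subgroup.normalizer (W : Set G) := Subgroup.centralizer_le_normalizer _ (hX1 hxm)
      have e : x * y * v * (x * y)⁻¹ * v⁻¹ = (x * (y * v * y⁻¹ * v⁻¹) * x⁻¹) * (x * v * x⁻¹ * v⁻¹) := by group
      rw [e]
      exact W.mul_mem (PLocal.conj_mem hxW (ihy v hv)) (ihx v hv)
    | inv x hxm ihx =>
      intro v hv
      have hxW : x⁻¹ ∈ Subgroup.normalizer (W : Set G) :=
        Subgroup.inv_mem _ (Subgroup.centralizer_le_normalizer _ (hX1 hxm))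
      have e : x⁻¹ * v * x⁻¹⁻¹ * v⁻¹ = x⁻¹ * (x * v * x⁻¹ * v⁻¹)⁻¹ * x⁻¹⁻¹ := by group
      rw [e]
      exact PLocal.conj_mem hxW (W.inv_mem (ihx v hv))
    | mem x hx =>
      obtain ⟨a, ha, b, hb, rfl⟩ := hx
      intro v hv
      set v' := b⁻¹ * v * b
      have hv' : v' ∈ V := by simpa [v', mul_assoc] using PLocal.conj_mem (hHV (H.inv_mem (h₂ hb))) hv
      have hw : a⁻¹ * v' * a * v'⁻¹ ∈ W := by
        have := W.inv_mem (Subgroup.commutator_mem_commutator hv' (E₁.inv_mem ha))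
        rw [commutatorElement_def] at this
        simpa [mul_assoc] using this
      set w := a⁻¹ * v' * a * v'⁻¹
      have hwb : b * w = w * b := (Subgroup.mem_centralizer_iff.1 (hE₂W hb) w hw).symm
      have e : ⁅a, b⁆ * v * (⁅a, b⁆)⁻¹ * v⁻¹ = (a * w * a⁻¹) * (⁅v, a⁆)⁻¹ := by
        have e1 : b * (a⁻¹ * v' * a) * b⁻¹ = w * v := by
          rw [show a⁻¹ * v' * a = w * v' by simp only [w]; group, ← mul_assoc, hwb]
          simp only [v']; group
        calc ⁅a, b⁆ * v * (⁅a, b⁆)⁻¹ * v⁻¹ = a * (b * (a⁻¹ * v' * a) * b⁻¹) * a⁻¹ * v⁻¹ := by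
              rw [commutatorElement_def]; simp only [v']; group
          _ = a * (w * v) * a⁻¹ * v⁻¹ := by rw [e1]
          _ = _ := by rw [commutatorElement_def]; group
      rw [e]
      exact W.mul_mem (PLocal.conj_mem (hE₁W ha) hw) (W.inv_mem (Subgroup.commutator_mem_commutator hv ha))
  have hq : ⁅⁅V, X⁆, X⁆ = ⊥ := by
    refine le_bot_iff.1 ((Subgroup.commutator_mono (?_ : ⁅V, X⁆ ≤ W) le_rfl).trans
      (Subgroup.commutator_eq_bot_iff_le_centralizer.2 (PLocal.le_centralizer_comm hX1)).le)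
    refine Subgroup.commutator_le.2 fun v hv x hx => ?_
    have h2 := W.inv_mem (hgenX x hx v hv)
    rw [commutatorElement_def]
    simpa [mul_assoc] using h2
  have hXV : X ≤ Subgroup.normalizer (V : Set G) := (hXL.trans hLH).trans hHV
  have hXp : IsPGroup p X := fun x => ⟨1, Subtype.ext (by
    have h1 : (x : G) ^ p ∈ H ⊓ Subgroup.centralizer (V : Set G) :=
      ⟨H.pow_mem (hLH (hXL x.2)) p, PLocal.pow_mem_centralizer_of_quadratic hXV hV.2 hq x.2⟩
    rw [hf, Subgroup.mem_bot] at h1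
    simpa using h1)⟩
  have hsL : (L.subgroupOf H).IsSubnormal := by
    rw [Subgroup.subgroupOf_sup h₁ h₂]
    exact Cores.isSubnormal_sup hs₁ hs₂
  have hsX : (X.subgroupOf H).IsSubnormal := by
    refine Subgroup.IsSubnormal.step _ _ (Subgroup.comap_mono hXL) hsL ?_
    haveI : (X.subgroupOf L).Normal := (Subgroup.normal_subgroupOf_iff_le_normalizer hXL).2
      (sup_le (Subgroup.normalizer_commutator_ge_left _ _) (Subgroup.normalizer_commutator_ge_right _ _))
    refine Cores.subgroupOf_normal_of_le_normalizer fun x hx => ?_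
    rw [← Subgroup.subgroupOf_normalizer_eq (hXL.trans hLH)]
    exact Subgroup.mem_subgroupOf.2 (((Subgroup.normal_subgroupOf_iff_le_normalizer hXL).1 inferInstance)
      (Subgroup.mem_subgroupOf.1 hx))
  have := Subgroup.map_mono (f := H.subtype) (Cores.le_pCore_of_isSubnormal hsX hXp.comap_subtype)
  rwa [Subgroup.map_subgroupOf_eq_of_le (hXL.trans hLH)] at this

end Cfsg.Agent.S0597
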