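import Cfsg.Agent.Lib.Cores.Basic
import Cfsg.Agent.Lib.PLocal.Basic

set_option autoImplicit false
open Cfsg

namespace Cfsg.Agent.S0600

/-- A normal elementary abelian p-subgroup generated by the fixed points of the Sylow p-subgroups admits no nontrivial normal p-subgroup of G modulo its centralizer. -/
theorem result {G : Type*} [Group G] [Finite G] {p : ℕ} [Fact p.Prime] (V : Subgroup G) [V.Normal] (hV : Cfsg.IsElementaryAbelian p V) (hgen : V = ⨆ S : Sylow p G, V ⊓ Subgroup.centralizer ((S : Subgroup G) : Set G)) : Cfsg.pCore p (G ⧸ Subgroup.centralizer (V : Set G)) = ⊥ := by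
  set C := Subgroup.centralizer (V : Set G)
  set D := (Cfsg.pCore p (G ⧸ C)).comap (QuotientGroup.mk' C)
  have hD : D ≤ C := by
    intro d hd
    have key : ∀ S : Sylow p G, d ∈ Subgroup.centralizer
        ((V ⊓ Subgroup.centralizer ((S : Subgroup G) : Set G) : Subgroup G) : Set G) := by
      intro S
      obtain ⟨s, hs, hsd⟩ :=
        Cores.pCore_le_sylow (S.mapSurjective (QuotientGroup.mk'_surjective C)) hd
      have hc : s⁻¹ * d ∈ C := QuotientGroup.eq.1 hsd
      refine Subgroup.mem_centralizer_iff.2 fun v hv => ?_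
      have h1 := Subgroup.mem_centralizer_iff.1 hc v hv.1
      have h2 := Subgroup.mem_centralizer_iff.1 hv.2 s hs
      calc v * d = (v * s) * (s⁻¹ * d) := by group
        _ = s * (v * (s⁻¹ * d)) := by rw [← h2]; group
        _ = d * v := by rw [h1]; group
    show d ∈ Subgroup.centralizer (V : Set G)
    rw [hgen, PLocal.centralizer_iSup]
    exact Subgroup.mem_iInf.2 key
  refine le_bot_iff.1 fun q hq => ?_
  obtain ⟨d, rfl⟩ := QuotientGroup.mk_surjective q
  exact Subgroup.mem_bot.2 ((QuotientGroup.eq_one_iff d).2 (hD hq))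

end Cfsg.Agent.S0600
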