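import Cfsg.Agent.Lib.Cores.Basic
import Cfsg.Agent.Lib.PLocal.Omega
import Cfsg.Agent.Lib.PLocal.Action

set_option autoImplicit false
open Cfsg

namespace Cfsg.Agent.S0601

/-- When O_p(G) contains its centralizer, the normal closure of Ω₁(Z(S)) is elementary abelian and G has no nontrivial normal p-subgroup modulo its centralizer. -/
theorem result {G : Type*} [Group G] [Finite G] {p : ℕ} [Fact p.Prime] (hc : Subgroup.centralizer (Cfsg.pCore p G : Set G) ≤ Cfsg.pCore p G) : (⨆ S : Sylow p G, Cfsg.omegaOne p (((S : Subgroup G)) ⊓ Subgroup.centralizer ((S : Subgroup G) : Set G))).Normal ∧ Cfsg.IsElementaryAbelian p (⨆ S : Sylow p G, Cfsg.omegaOne p (((S : Subgroup G)) ⊓ Subgroup.centralizer ((S : Subgroup G) : Set G))) ∧ ∀ D : Subgroup G, D.Normal → Subgroup.centralizer ((⨆ S : Sylow p G, Cfsg.omegaOne p (((S : Subgroup G)) ⊓ Subgroup.centralizer ((S : Subgroup G) : Set G)) : Subgroup G) : Set G) ≤ D → (∃ k : ℕ, (Subgroup.centralizer ((⨆ S : Sylow p G, Cfsg.omegaOne p (((S :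 Subgroup G)) ⊓ Subgroup.centralizer ((S : Subgroup G) : Set G)) : Subgroup G) : Set G)).relIndex D = p ^ k) → D = Subgroup.centralizer ((⨆ S : Sylow p G, Cfsg.omegaOne p (((S : Subgroup G)) ⊓ Subgroup.centralizer ((S : Subgroup G) : Set G)) : Subgroup G) : Set G) := by
  set O := Cfsg.pCore p G
  set W := fun S : Sylow p G => Cfsg.omegaOne p
    (((S : Subgroup G)) ⊓ Subgroup.centralizer ((S : Subgroup G) : Set G))
  show (⨆ S, W S).Normal ∧ Cfsg.IsElementaryAbelian p (⨆ S, W S) ∧ ∀ D : Subgroup G, D.Normal →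
    Subgroup.centralizer ((⨆ S, W S : Subgroup G) : Set G) ≤ D →
    (∃ k : ℕ, (Subgroup.centralizer ((⨆ S, W S : Subgroup G) : Set G)).relIndex D = p ^ k) →
    D = Subgroup.centralizer ((⨆ S, W S : Subgroup G) : Set G)
  have hWle : ∀ S, W S ≤ Subgroup.centralizer ((S : Subgroup G) : Set G) := fun S =>
    (PLocal.omegaOne_le _).trans inf_le_right
  have hnormal : (⨆ S, W S).Normal := by
    refine Subgroup.normalizer_eq_top_iff.1 (top_le_iff.1 fun g _ => ?_)
    rw [PLocal.mem_normalizer_iff_map_eq, Subgroup.map_iSup]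
    have hstep : ∀ S : Sylow p G, (W S).map (MulAut.conj g).toMonoidHom = W (g • S) := fun S => by
      have hi := (MulAut.conj g).injective
      show (Cfsg.omegaOne p _).map _ = Cfsg.omegaOne p _
      rw [PLocal.map_omegaOne _ hi.injOn, PLocal.map_centralizer_inf _ hi.injOn le_rfl]
      rfl
    simp only [hstep]
    exact (MulAction.toPerm g).iSup_comp (g := W)
  have helem : Cfsg.IsElementaryAbelian p (⨆ S, W S) := by
    refine PLocal.elemAb_iSup W (fun S => PLocal.omegaOne_elemAb
      (inf_le_right.trans (Subgroup.centralizer_le inf_le_left))) fun S T => ?_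
    have hS : W S ≤ O := (hWle S).trans ((Subgroup.centralizer_le (Cores.pCore_le_sylow S)).trans hc)
    exact hS.trans ((Cores.pCore_le_sylow T).trans (PLocal.le_centralizer_comm (hWle T)))
  refine ⟨hnormal, helem, fun D hD hle ⟨k, hk⟩ => le_antisymm ?_ hle⟩
  have := hD
  have := hnormal
  set C := Subgroup.centralizer ((⨆ S, W S : Subgroup G) : Set G)
  haveI : C.Normal := Subgroup.normalizer_eq_top_iff.1 (top_le_iff.1
    ((Subgroup.normalizer_eq_top_iff.2 hnormal).ge.trans
      (Cfsg.Agent.PLocal.normalizer_le_normalizer_centralizer _)))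
  intro d hd
  show d ∈ Subgroup.centralizer ((⨆ S, W S : Subgroup G) : Set G)
  rw [PLocal.centralizer_iSup]
  refine Subgroup.mem_iInf.2 fun S => ?_
  have hP : IsPGroup p ↥(D.map (QuotientGroup.mk' C)) := by
    refine IsPGroup.of_card (n := k) ?_
    rw [← hk, ← Subgroup.relIndex_ker, QuotientGroup.ker_mk']
  haveI := hD.map _ (QuotientGroup.mk'_surjective C)
  obtain ⟨s, hs, hsd⟩ := (hP.le_sylow_of_normal
    (S.mapSurjective (QuotientGroup.mk'_surjective C))) ⟨d, hd, rfl⟩
  have hcC : s⁻¹ * d ∈ C := QuotientGroup.eq.1 hsd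
  refine Subgroup.mem_centralizer_iff.2 fun v hv => ?_
  have hv' : v ∈ (⨆ S, W S : Subgroup G) := Subgroup.mem_iSup_of_mem S hv
  have h1 := Subgroup.mem_centralizer_iff.1 hcC v hv'
  have h2 := Subgroup.mem_centralizer_iff.1 (hWle S hv) s hs
  calc v * d = (v * s) * (s⁻¹ * d) := by group
    _ = s * (v * (s⁻¹ * d)) := by rw [← h2]; group
    _ = d * v := by rw [h1]; group

end Cfsg.Agent.S0601
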