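import Cfsg.Agent.Lib.PLocal.Omega

set_option autoImplicit false
open Cfsg

namespace Cfsg.Agent.S0603

/-- The Thompson subgroup of any subgroup containing J(G) is J(G) itself. -/
theorem result {G : Type*} [Group G] [Finite G] {p : ℕ} [Fact p.Prime] (U : Subgroup G) (hU : Cfsg.thompsonSubgroup p G ≤ U) : Cfsg.thompsonSubgroupOf p U = Cfsg.thompsonSubgroup p G := by
  rw [PLocal.thompsonSubgroupOf_eq, PLocal.thompsonSubgroup_eq] at *
  obtain ⟨A, hA⟩ := PLocal.exists_maxIn (Q := PLocal.elemAb p) PLocal.elemAb_bot (⊤ : Subgroup G)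
  have hAU : A ≤ U := (le_sSup hA).trans hU
  refine le_antisymm (sSup_le_sSup (PLocal.maxIn_subset hA hAU le_top)) (sSup_le fun B hB => ?_)
  exact le_sSup (PLocal.maxIn_of_mem_le hB ((le_sSup hB).trans hU) le_top)

end Cfsg.Agent.S0603
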