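import Cfsg.Agent.Lib.PLocal.Omega

set_option autoImplicit false
open Cfsg

namespace Cfsg.Agent.S0604

/-- The Thompson subgroup of G is the join of the Thompson subgroups of its Sylow p-subgroups. -/
theorem result {G : Type*} [Group G] [Finite G] {p : ℕ} [Fact p.Prime] : Cfsg.thompsonSubgroup p G = ⨆ S : Sylow p G, Cfsg.thompsonSubgroupOf p (S : Subgroup G) := by
  refine le_antisymm ?_ (iSup_le PLocal.thompsonSubgroupOf_sylow_le)
  rw [PLocal.thompsonSubgroup_eq]
  refine sSup_le fun A hA => ?_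
  obtain ⟨S, hS⟩ := (PLocal.elemAb_isPGroup hA.2.1).exists_le_sylow
  refine le_iSup_of_le S ?_
  rw [PLocal.thompsonSubgroupOf_eq]
  exact le_sSup (PLocal.maxIn_of_mem_le hA hS le_top)

end Cfsg.Agent.S0604
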