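import Cfsg.Agent.Lib.PLocal.Omega

set_option autoImplicit false
open Cfsg

namespace Cfsg.Agent.S0606

/-- Elementary abelian p-subgroups of maximal order are best offenders on any normal elementary abelian p-subgroup. -/
theorem result {G : Type*} [Group G] [Finite G] {p : ℕ} [Fact p.Prime] (V : Subgroup G) [V.Normal] (hV : Cfsg.IsElementaryAbelian p V) (A : Subgroup G) (hA : A ∈ Cfsg.maxElementaryAbelianSubgroups p G) : Cfsg.IsBestOffenderOn p V A := by
  rw [PLocal.maxElemAb_eq] at hA
  refine ⟨fun B hB => ?_, ?_, fun a ha => ?_⟩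
  · have hVB : Cfsg.IsElementaryAbelian p ((V ⊓ Subgroup.centralizer (B : Set G)) ⊔ B) :=
      PLocal.elemAb_sup (PLocal.elemAb_mono hV inf_le_left) (PLocal.elemAb_mono hA.2.1 hB) inf_le_right
    have hcard := PLocal.maxIn_card hA le_top hVB
    have hle : (V ⊓ Subgroup.centralizer (B : Set G)) ⊓ B ≤ V ⊓ Subgroup.centralizer (A : Set G) :=
      le_inf (inf_le_left.trans inf_le_left) (inf_le_right.trans (hB.trans (PLocal.elemAb_le_centralizer hA.2.1)))
    calc Nat.card B * Nat.card ↥(V ⊓ Subgroup.centralizer (B : Set G))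
        = Nat.card ↥(V ⊓ Subgroup.centralizer (B : Set G)) * Nat.card B := mul_comm _ _
      _ ≤ _ := PLocal.card_mul_card_le _ _
      _ ≤ _ := Nat.mul_le_mul hcard (PLocal.card_le_of_le hle)
  · rw [Subgroup.commutator_self_eq_bot_iff.2 hA.2.1.1]
    exact bot_le
  · rw [hA.2.1.2 a ha]
    exact Subgroup.one_mem _

end Cfsg.Agent.S0606
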