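import Cfsg.Agent.Lib.PLocal.Replacement
import Cfsg.Agent.S0606

set_option autoImplicit false
open Cfsg
open scoped commutatorElement

namespace Cfsg.Agent.S0607

/-- The replacement Theorem for the Thompson subgroup: from A of maximal order among elementary abelian p-subgroups one obtains A₀ = [V, A] C_A([V, A]) of the same kind, quadratic on V and nontrivial on V when A is. -/
theorem result {G : Type*} [Group G] [Finite G] {p : ℕ} [Fact p.Prime] (V : Subgroup G) [V.Normal] (hV : Cfsg.IsElementaryAbelian p V) (A : Subgroup G) (hA : A ∈ Cfsg.maxElementaryAbelianSubgroups p G) : (⁅V, A⁆ ⊔ (A ⊓ Subgroup.centralizer ((⁅V, A⁆ : Subgroup G) : Set G))) ∈ Cfsg.maxElementaryAbelianSubgroups p G ∧ ⁅⁅V, ⁅V, A⁆ ⊔ (A ⊓ Subgroup.centralizer ((⁅V, A⁆ : Subgroup G) : Set G))⁆, ⁅V, A⁆ ⊔ (A ⊓ Subgroup.centralizer ((⁅V, A⁆ : Subgroup G) : Set G))⁆ = ⊥ ∧ (⁅V, A⁆ ≠ ⊥ → ⁅V, ⁅V, A⁆ ⊔ (A ⊓ Subgroup.centralizer ((⁅V, A⁆ : Subgroup G) : Set G))⁆ ≠ ⊥) := by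
  have hbest := S0606.result V hV A hA
  rw [PLocal.maxElemAb_eq] at hA
  have hAV : A ≤ Subgroup.normalizer (V : Set G) := Subgroup.le_normalizer_of_normal
  have hne := PLocal.not_centralize_replacement hV hAV hbest (U := V) le_rfl
  obtain ⟨h1, h2⟩ := PLocal.replacement (PLocal.elemAb_le_centralizer hV) hAV hbest.2.1 hbest.1 (U := V) le_rfl
  have hWV : ⁅V, A⁆ ≤ V := PLocal.commutator_le_left_of_normalizes hAV
  have hVV := PLocal.elemAb_le_centralizer hV
  have hAA := PLocal.elemAb_le_centralizer hA.2.1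
  have hC : V ⊓ Subgroup.centralizer (A : Set G) = V ⊓ A := le_antisymm
    (le_inf inf_le_left fun x hx => PLocal.mem_of_centralizes hA (Subgroup.mem_top x) (hV.2 x hx.1) hx.2)
    (inf_le_inf_left V hAA)
  rw [hC] at h1 h2
  set W := ⁅V, A⁆
  set B := A ⊓ Subgroup.centralizer (W : Set G)
  have hBW : B ≤ Subgroup.centralizer (W : Set G) := inf_le_right
  have e1 := PLocal.card_sup_mul_card_inf (H := W) (K := B) (hBW.trans (Subgroup.centralizer_le_normalizer _))
  have e2 := PLocal.card_sup_mul_card_inf (H := W) (K := V ⊓ A)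
    (((inf_le_left.trans hVV).trans (Subgroup.centralizer_le hWV)).trans (Subgroup.centralizer_le_normalizer _))
  have i1 : W ⊓ B = W ⊓ A := le_antisymm (inf_le_inf_left W inf_le_left)
    (le_inf inf_le_left (le_inf inf_le_right
      ((inf_le_left.trans (hWV.trans hVV)).trans (Subgroup.centralizer_le hWV))))
  have i2 : W ⊓ (V ⊓ A) = W ⊓ A := by rw [← inf_assoc, inf_eq_left.2 hWV]
  rw [i1] at e1
  rw [i2] at e2
  rw [h2] at h1
  have hcard : Nat.card ↥(W ⊔ B) = Nat.card A := by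
    have hpos : 0 < Nat.card ↥(W ⊓ A) * Nat.card ↥(V ⊓ A) := Nat.mul_pos Nat.card_pos Nat.card_pos
    refine Nat.eq_of_mul_eq_mul_right hpos ?_
    calc Nat.card ↥(W ⊔ B) * (Nat.card ↥(W ⊓ A) * Nat.card ↥(V ⊓ A))
        = Nat.card B * (Nat.card W * Nat.card ↥(V ⊓ A)) := by rw [← mul_assoc, e1]; ring
      _ = (Nat.card B * Nat.card ↥(W ⊔ (V ⊓ A))) * Nat.card ↥(W ⊓ A) := by rw [← e2]; ring
      _ = Nat.card A * (Nat.card ↥(W ⊓ A) * Nat.card ↥(V ⊓ A)) := by rw [h1]; ring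
  refine ⟨?_, ?_, fun h e => hne h (le_bot_iff.1 ((Subgroup.commutator_mono le_rfl le_sup_right).trans e.le))⟩
  · rw [PLocal.maxElemAb_eq]
    refine ⟨le_top, PLocal.elemAb_sup (PLocal.elemAb_mono hV hWV) (PLocal.elemAb_mono hA.2.1 inf_le_left)
      (PLocal.le_centralizer_comm hBW), fun C hC hQ => ?_⟩
    rw [hcard]
    exact hA.2.2 C hC hQ
  · have hA0V : W ⊔ B ≤ Subgroup.normalizer (V : Set G) := Subgroup.le_normalizer_of_normal
    have hle : ⁅V, W ⊔ B⁆ ≤ W := by
      refine Subgroup.commutator_le.2 fun v hv x hx => ?_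
      rw [← SetLike.mem_coe, Subgroup.coe_mul_of_right_le_normalizer_left _ _
        (hBW.trans (Subgroup.centralizer_le_normalizer _))] at hx
      obtain ⟨w, hw, b, hb, rfl⟩ := Set.mem_mul.1 hx
      rw [PLocal.commutatorElement_eq_of_centralizes (hVV (hWV hw)) (hA0V (Subgroup.mem_sup_right hb)) hv]
      exact Subgroup.commutator_mem_commutator hv hb.1
    refine le_bot_iff.1 ((Subgroup.commutator_mono hle le_rfl).trans (le_of_eq ?_))
    rw [Subgroup.commutator_eq_bot_iff_le_centralizer, PLocal.centralizer_sup]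
    exact le_inf ((hWV.trans hVV).trans (Subgroup.centralizer_le hWV)) (PLocal.le_centralizer_comm hBW)

end Cfsg.Agent.S0607
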