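import Cfsg.Agent.Lib.Cores.Basic
import Cfsg.Agent.Lib.PLocal.Quotient

set_option autoImplicit false
open Cfsg

namespace Cfsg.Agent.S0609

/-- Thompson factorizability passes to and from the quotient by the largest normal subgroup of order prime to p. -/
theorem result {G : Type*} [Group G] [Finite G] {p : ℕ} [Fact p.Prime] : Cfsg.IsThompsonFactorizable p G ↔ Cfsg.IsThompsonFactorizable p (G ⧸ Cfsg.pPrimeCore p G) := by
  set K := Cfsg.pPrimeCore p G
  set f := QuotientGroup.mk' K
  have hf : Function.Surjective f := QuotientGroup.mk'_surjective K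
  have hker : (Nat.card f.ker).Coprime p := by
    rw [QuotientGroup.ker_mk']; exact Cores.coprime_card_pPrimeCore p
  have hZ : ∀ S : Sylow p G,
      Subgroup.centralizer (Cfsg.omegaOne p (((S : Subgroup G).map f) ⊓
        Subgroup.centralizer ((S : Subgroup G).map f : Set (G ⧸ K))) : Set (G ⧸ K))
      = (Subgroup.centralizer (Cfsg.omegaOne p ((S : Subgroup G) ⊓
          Subgroup.centralizer ((S : Subgroup G) : Set G)) : Set G)).map f := fun S => by
    have hi := PLocal.injOn_of_pGroup f hker S.isPGroup'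
    rw [← PLocal.map_centralizer_inf f hi le_rfl, ← PLocal.map_omegaOne f (hi.mono inf_le_left)]
    exact PLocal.centralizer_map_eq f hf hker
      (S.isPGroup'.to_le ((PLocal.omegaOne_le _).trans inf_le_left))
  have hJ : ∀ S : Sylow p G,
      Subgroup.normalizer (Cfsg.thompsonSubgroupOf p ((S : Subgroup G).map f) : Set (G ⧸ K))
      = (Subgroup.normalizer (Cfsg.thompsonSubgroupOf p (S : Subgroup G) : Set G)).map f := fun S => by
    rw [← PLocal.map_thompsonSubgroupOf f (PLocal.injOn_of_pGroup f hker S.isPGroup')]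
    exact PLocal.normalizer_map_eq f hf hker (S.isPGroup'.to_le (PLocal.thompsonSubgroupOf_le _))
  constructor
  · intro h T y
    obtain ⟨S, rfl⟩ := Sylow.mapSurjective_surjective hf p T
    obtain ⟨g, rfl⟩ := hf y
    obtain ⟨x, hx, c, hc, n, hn, rfl⟩ := h S g
    refine ⟨1, Subgroup.one_mem _, f c, ?_, f n, ?_, ?_⟩
    · rw [Sylow.coe_mapSurjective, hZ]; exact ⟨c, hc, rfl⟩
    · rw [Sylow.coe_mapSurjective, hJ]; exact ⟨n, hn, rfl⟩
    · rw [map_mul, map_mul, (QuotientGroup.eq_one_iff x).2 hx |> fun e => (show f x = 1 from e)]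
  · intro h S g
    obtain ⟨x, hx, c, hc, n, hn, hg⟩ := h (S.mapSurjective hf) (f g)
    rw [Sylow.coe_mapSurjective, hZ] at hc
    rw [Sylow.coe_mapSurjective, hJ] at hn
    obtain ⟨c', hc', rfl⟩ := hc
    obtain ⟨n', hn', rfl⟩ := hn
    rw [Cores.pPrimeCore_quotient_self, Subgroup.mem_bot] at hx
    rw [hx, one_mul, ← map_mul] at hg
    refine ⟨g * (c' * n')⁻¹, ?_, c', hc', n', hn', by group⟩
    rw [← QuotientGroup.eq_one_iff (N := K)]
    show f (g * (c' * n')⁻¹) = 1
    rw [map_mul, map_inv, hg, mul_inv_cancel]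

end Cfsg.Agent.S0609
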