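import Cfsg.Statements.S0615
import Cfsg.Agent.Lib.FFPair.Subnormal

set_option autoImplicit false
open Cfsg
open scoped commutatorElement

namespace Cfsg.Agent.S0615

/-- Two subnormal subgroups acting irreducibly on their incomparable commutator modules, in a faithful group with trivial largest normal p-subgroup, generate their direct product, and the commutator module splits accordingly. -/
theorem result {G : Type*} [Group G] [Finite G] {p : ℕ} [Fact p.Prime] (V E E₁ E₂ : Subgroup G) (hV : Cfsg.IsElementaryAbelian p V) (hEV : E ≤ Subgroup.normalizer (V : Set G)) (hf : E ⊓ Subgroup.centralizer (V : Set G) = ⊥) (hgen : E = E₁ ⊔ E₂) (hs₁ : (E₁.subgroupOf E).IsSubnormal) (hs₂ : (E₂.subgroupOf E).IsSubnormal) (hOp : Cfsg.pCore p ↥E = ⊥) (hirr₁ : (∀ U : Subgroup G, U ≤ ⁅V, E₁⁆ → E₁ ≤ Subgroup.normalizer (U : Set G) → U = ⊥ ∨ U = ⁅V, E₁⁆)) (hirr₂ : (∀ U : Subgroup G, U ≤ ⁅V, E₂⁆ → E₂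 ≤ Subgroup.normalizer (U : Set G) → U = ⊥ ∨ U = ⁅V, E₂⁆)) (h12 : ¬ ⁅V, E₁⁆ ≤ ⁅V, E₂⁆) (h21 : ¬ ⁅V, E₂⁆ ≤ ⁅V, E₁⁆) (hc₁ : 2 < Nat.card E₁) (hc₂ : 2 < Nat.card E₂) : ⁅E₁, E₂⁆ = ⊥ ∧ E₁ ⊓ E₂ = ⊥ ∧ ⁅V, E₁⁆ ⊓ ⁅V, E₂⁆ = ⊥ ∧ ⁅V, E⁆ = ⁅V, E₁⁆ ⊔ ⁅V, E₂⁆ := by
  have hB : FFPair.FaithfulBase p V E := ⟨hV, hEV, hf, hOp⟩
  have h1 : FFPair.IrrSub V E E₁ := ⟨hgen ▸ le_sup_left, hs₁, hirr₁, hc₁⟩
  have h2 : FFPair.IrrSub V E E₂ := ⟨hgen ▸ le_sup_right, hs₂, hirr₂, hc₂⟩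
  obtain ⟨hc, hi, hC2, hC1⟩ := FFPair.commute_of_irreducible hB h1 h2 h12 h21
  have hW₁ : ⁅V, E₁⁆ ≤ V := FFPair.commutator_module_le hEV h1.le
  have hW₂ : ⁅V, E₂⁆ ≤ V := FFPair.commutator_module_le hEV h2.le
  refine ⟨hc, ?_, hi, le_antisymm ?_ (sup_le (Subgroup.commutator_mono le_rfl h1.le)
    (Subgroup.commutator_mono le_rfl h2.le))⟩
  · rw [eq_bot_iff]
    intro x hx
    rw [← hf]
    refine ⟨h1.le hx.1, Subgroup.mem_centralizer_iff.2 fun v hv => ?_⟩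
    have h : ⁅v, x⁆ ∈ ⁅V, E₁⁆ ⊓ ⁅V, E₂⁆ :=
      ⟨Subgroup.commutator_mem_commutator hv hx.1, Subgroup.commutator_mem_commutator hv hx.2⟩
    rw [hi, Subgroup.mem_bot] at h
    exact commutatorElement_eq_one_iff_mul_comm.1 h
  · have hn : E ≤ Subgroup.normalizer ((⁅V, E₁⁆ ⊔ ⁅V, E₂⁆ : Subgroup G) : Set G) := by
      rw [hgen]
      refine sup_le (fun a ha => FFPair.mem_normalizer_of_comm fun w hw => ?_)
        (fun a ha => FFPair.mem_normalizer_of_comm fun w hw => ?_)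
      · rw [← commutatorElement_inv]
        exact Subgroup.inv_mem _ (Subgroup.mem_sup_left
          (Subgroup.commutator_mem_commutator (sup_le hW₁ hW₂ hw) ha))
      · rw [← commutatorElement_inv]
        exact Subgroup.inv_mem _ (Subgroup.mem_sup_right
          (Subgroup.commutator_mem_commutator (sup_le hW₁ hW₂ hw) ha))
    conv_lhs => rw [hgen, Subgroup.sup_eq_closure]
    refine FFPair.commutator_closure_le ?_ ?_
    · rintro s (hs | hs)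
      · exact hn (h1.le hs)
      · exact hn (h2.le hs)
    · rintro v hv s (hs | hs)
      · exact Subgroup.mem_sup_left (Subgroup.commutator_mem_commutator hv hs)
      · exact Subgroup.mem_sup_right (Subgroup.commutator_mem_commutator hv hs)

end Cfsg.Agent.S0615
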