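import Cfsg.Statements.S0617
import Cfsg.Agent.Lib.FFPair.Factors

set_option autoImplicit false
open Cfsg

namespace Cfsg.Agent.S0617

/-- Structure Theorem for failure of factorization: a faithful group generated by best offenders, with self-centralizing p'-core, is a direct product of copies of SL(2, p) (p = 2 or 3), each acting on its own plane in V, which is the direct product of these planes and C_V(H). -/
theorem result {G : Type*} [Group G] [Finite G] {p : ℕ} [Fact p.Prime] (V H : Subgroup G) (hV : Cfsg.IsElementaryAbelian p V) (hHV : H ≤ Subgroup.normalizer (V : Set G)) (hf : H ⊓ Subgroup.centralizer (V : Set G) = ⊥) (hS1 : Subgroup.centralizer (Cfsg.pPrimeCore p ↥H : Set ↥H) ≤ Cfsg.pPrimeCore p ↥H) (hS3 : H = ⨆ A : {A : Subgroup G // A ≤ H ∧ Cfsg.IsBestOffenderOn p V A}, (A : Subgroup G)) (hH1 : H ≠ ⊥) : (p = 2 ∨ p = 3) ∧ (∀ E : {E : Subgroup G // ∃ A : Subgroup G, A ≤ H ∧ Cfsg.IsBestOffenderOn p V A ∧ ⁅V, A⁆ ≠ ⊥ ∧ (∀ B : Subgroup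 G, B ≤ A → Cfsg.IsBestOffenderOn p V B → ⁅V, B⁆ ≠ ⊥ → B = A) ∧ E = ⁅((Cfsg.pPrimeCore p ↥H).map H.subtype), A⁆ ⊔ A}, H ≤ Subgroup.normalizer ((E : Subgroup G) : Set G) ∧ Nonempty (↥(E : Subgroup G) ≃* Matrix.SpecialLinearGroup (Fin 2) (ZMod p)) ∧ Nat.card ↥(⁅V, (E : Subgroup G)⁆) = p ^ 2) ∧ iSupIndep (fun E : {E : Subgroup G // ∃ A : Subgroup G, A ≤ H ∧ Cfsg.IsBestOffenderOn p V A ∧ ⁅V, A⁆ ≠ ⊥ ∧ (∀ B : Subgroup G, B ≤ A → Cfsg.IsBestOffenderOn p V B → ⁅V, B⁆ ≠ ⊥ → B = A) ∧ E = ⁅((Cfsg.pPrimeCore p ↥H).map H.subtype), A⁆ ⊔ A} => (E : Subgroup G)) ∧ (⨆ E : {E : Subgroup G // ∃ A : Subgroup G, A ≤ H ∧ Cfsg.IsBestOffenderOn p V A ∧ ⁅V, A⁆ ≠ ⊥ ∧ (∀ B : Subgroup G, B ≤ A → Cfsg.IsBestOffenderOn p V B → ⁅V, B⁆ ≠ ⊥ → B = A) ∧ E = ⁅((Cfsg.pPrimeCore p ↥H).map H.subtype), A⁆ ⊔ A}, (E : Subgroup G)) = H ∧ iSupIndep (fun o : Option {E : Subgroup G // ∃ A : Subgroup G, A ≤ H ∧ Cfsg.IsBestOffenderOn p V A ∧ ⁅V, A⁆ ≠ ⊥ ∧ (∀ B : Subgroup G, B ≤ A → Cfsg.IsBestOffenderOn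 p V B → ⁅V, B⁆ ≠ ⊥ → B = A) ∧ E = ⁅((Cfsg.pPrimeCore p ↥H).map H.subtype), A⁆ ⊔ A} => o.elim (V ⊓ Subgroup.centralizer (H : Set G)) (fun E => ⁅V, (E : Subgroup G)⁆)) ∧ (V ⊓ Subgroup.centralizer (H : Set G)) ⊔ (⨆ E : {E : Subgroup G // ∃ A : Subgroup G, A ≤ H ∧ Cfsg.IsBestOffenderOn p V A ∧ ⁅V, A⁆ ≠ ⊥ ∧ (∀ B : Subgroup G, B ≤ A → Cfsg.IsBestOffenderOn p V B → ⁅V, B⁆ ≠ ⊥ → B = A) ∧ E = ⁅((Cfsg.pPrimeCore p ↥H).map H.subtype), A⁆ ⊔ A}, ⁅V, (E : Subgroup G)⁆) = V := by
  have hF := FFPair.isFF_pPrimeCore hV hHV hf hS1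
  set K := (Cfsg.pPrimeCore p ↥H).map H.subtype with hK
  set S := {E : Subgroup G // ∃ A : Subgroup G, A ≤ H ∧ Cfsg.IsBestOffenderOn p V A ∧ ⁅V, A⁆ ≠ ⊥ ∧ (∀ B : Subgroup G, B ≤ A → Cfsg.IsBestOffenderOn p V B → ⁅V, B⁆ ≠ ⊥ → B = A) ∧ E = ⁅K, A⁆ ⊔ A} with hSdef
  have hS : ∀ i : S, ∃ A, A ≤ H ∧ FFPair.IsTv p V A ∧ (i : Subgroup G) = FFPair.factor K A := by
    rintro ⟨E, A, hAH, hAb, hAV, hmin, rfl⟩
    exact ⟨A, hAH, hF.tv_of_minimal hAH hAb (fun e => hAV (FFPair.not_commutator_bot e))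
      (fun B hB hBb hB1 => hmin B hB hBb fun e => hB1 (hF.commutator_eq_bot (hB.trans hAH) e)), rfl⟩
  choose T hTH hTv hTE using hS
  have hmem : ∀ B, B ≤ H → FFPair.IsTv p V B → ∃ i : S, B ≤ (i : Subgroup G) := fun B hB hTB =>
    ⟨⟨⁅K, B⁆ ⊔ B, B, hB, hTB.best, hTB.not_centralize, fun C hC _ hC1 =>
      (hTB.eq_bot_or_self hC).resolve_left fun e => hC1 (FFPair.not_commutator_bot e), rfl⟩, le_sup_right⟩
  have hfac : ∀ i : S, FFPair.IsFactor p V K (T i) ⁅K, T i⁆ (i : Subgroup G) ⁅V, (i : Subgroup G)⁆ ∧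
      (i : Subgroup G) ≤ H := fun i => by
    obtain ⟨h1, h2, -⟩ := hF.exists_factor (hTH i) (hTv i)
    rw [hTE i]; exact ⟨h1, h2⟩
  have hother : ∀ i j : S, j ≠ i →
      (j : Subgroup G) ≤ H ⊓ Subgroup.centralizer ((⁅V, (i : Subgroup G)⁆ : Subgroup G) : Set G) ∧
      ⁅V, (j : Subgroup G)⁆ ≤ V ⊓ Subgroup.centralizer ((i : Subgroup G) : Set G) := by
    intro i j hji
    rcases hF.eq_or_commute (hTH i) (hTv i) (hTH j) (hTv j) with h | ⟨-, h2, h3⟩
    · exact absurd (Subtype.ext ((hTE j).trans (h.trans (hTE i).symm))) hji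
    · rw [hTE i, hTE j]
      exact ⟨le_inf (hTE j ▸ (hfac j).2) (Subgroup.le_centralizer_iff.1 (h3.trans inf_le_right)), h2⟩
  have htop : (⨆ i : S, (i : Subgroup G)) = H := le_antisymm (iSup_le fun i => (hfac i).2)
    (hF.gen_tv hS3 fun B hB hTB => let ⟨i, hi⟩ := hmem B hB hTB; le_iSup_of_le i hi)
  have hcomm : ∀ {X Y : Subgroup G}, X ≤ V → Y ≤ V → Y ≤ Subgroup.normalizer (X : Set G) := fun hX hY =>
    ((hY.trans (PLocal.elemAb_le_centralizer hV)).trans (Subgroup.centralizer_le hX)).trans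
      (Subgroup.centralizer_le_normalizer _)
  have hne : Nonempty S := by
    by_contra h
    rw [not_nonempty_iff] at h
    exact hH1 (by rw [← htop, iSup_of_empty])
  refine ⟨?_, fun i => ⟨?_, (hfac i).1.plane.iso, (hfac i).1.plane.card⟩, fun i => ?_, htop, ?_, ?_⟩
  · exact (hfac hne.some).1.small
  · rw [hTE i]
    exact (hF.factor_decomp hS3 (hTH i) (hTv i)).1
  · refine disjoint_iff.2 (le_bot_iff.1 (le_trans ?_ (hfac i).1.plane.faith.le))
    exact le_inf inf_le_left (inf_le_right.trans (iSup₂_le fun j hj => (hother i j hj).1.trans inf_le_right))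
  · intro o
    rcases o with _ | i
    · classical
      have : Fintype S := Fintype.ofFinite S
      have key : ∀ s : Finset S, (V ⊓ Subgroup.centralizer (H : Set G)) ⊓
          s.sup (fun i : S => ⁅V, (i : Subgroup G)⁆) = ⊥ := by
        intro s
        induction s using Finset.induction_on with
        | empty => rw [Finset.sup_empty, inf_bot_eq]
        | insert i s hi ih =>
          rw [Finset.sup_insert, eq_bot_iff]
          rintro x hxx
          obtain ⟨hx, hx'⟩ := Subgroup.mem_inf.1 hxx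
          have hsU : s.sup (fun j : S => ⁅V, (j : Subgroup G)⁆) ≤
              V ⊓ Subgroup.centralizer ((i : Subgroup G) : Set G) :=
            Finset.sup_le fun j hj => (hother i j (fun e => hi (e ▸ hj))).2
          rw [← SetLike.mem_coe, Subgroup.coe_mul_of_right_le_normalizer_left _ _
            (hcomm (hfac i).1.plane.le (hsU.trans inf_le_left))] at hx'
          obtain ⟨w, hw, y, hy, rfl⟩ := Set.mem_mul.1 hx'
          have hw1 : w ∈ ⁅V, (i : Subgroup G)⁆ ⊓ Subgroup.centralizer ((i : Subgroup G) : Set G) := ⟨hw, by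
            have h := (Subgroup.centralizer ((i : Subgroup G) : Set G)).mul_mem
              (Subgroup.centralizer_le (hfac i).2 hx.2)
              ((Subgroup.centralizer ((i : Subgroup G) : Set G)).inv_mem (hsU hy).2)
            rwa [mul_inv_cancel_right] at h⟩
          rw [(hfac i).1.plane.inf, Subgroup.mem_bot] at hw1
          subst hw1
          rw [one_mul] at hx ⊢
          exact ih.le ⟨hx, hy⟩
      rw [disjoint_iff, eq_bot_iff]
      refine le_trans (inf_le_inf le_rfl ?_) (key Finset.univ).le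
      refine iSup₂_le fun j hj => ?_
      rcases j with _ | j
      · exact absurd rfl hj
      · exact Finset.le_sup (f := fun i : S => ⁅V, (i : Subgroup G)⁆) (Finset.mem_univ j)
    · refine disjoint_iff.2 (le_bot_iff.1 (le_trans ?_ (hfac i).1.plane.inf.le))
      refine le_inf inf_le_left (inf_le_right.trans (iSup₂_le fun j hj => ?_))
      rcases j with _ | j
      · exact inf_le_right.trans (Subgroup.centralizer_le (hfac i).2)
      · exact (hother i j fun e => hj (e ▸ rfl)).2.trans inf_le_right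
  · classical
    have : Fintype S := Fintype.ofFinite S
    refine le_antisymm (sup_le inf_le_left (iSup_le fun i => (hfac i).1.plane.le)) ?_
    have key : ∀ s : Finset S, V ≤ s.sup (fun i : S => ⁅V, (i : Subgroup G)⁆) ⊔
        (V ⊓ Subgroup.centralizer ((s.sup (fun i : S => (i : Subgroup G)) : Subgroup G) : Set G)) := by
      intro s
      induction s using Finset.induction_on with
      | empty => rw [Finset.sup_empty, Finset.sup_empty, FFPair.fx_bot]; exact le_sup_right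
      | insert i s hi ih =>
        rw [Finset.sup_insert, Finset.sup_insert, PLocal.centralizer_sup]
        intro v hv
        have hv' := ih hv
        rw [← SetLike.mem_coe, Subgroup.coe_mul_of_right_le_normalizer_left _ _
          (hcomm (Finset.sup_le fun j _ => (hfac j).1.plane.le) inf_le_left)] at hv'
        obtain ⟨t, ht, u, hu, rfl⟩ := Set.mem_mul.1 hv'
        have hu' : u ∈ ⁅V, (i : Subgroup G)⁆ ⊔ (V ⊓ Subgroup.centralizer ((i : Subgroup G) : Set G)) :=
          (hfac i).1.plane.sup.symm ▸ hu.1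
        rw [← SetLike.mem_coe, Subgroup.coe_mul_of_right_le_normalizer_left _ _
          (hcomm (hfac i).1.plane.le inf_le_left)] at hu'
        obtain ⟨w, hw, u', hu1, rfl⟩ := Set.mem_mul.1 hu'
        have hwc : w ∈ Subgroup.centralizer ((s.sup (fun i : S => (i : Subgroup G)) : Subgroup G) : Set G) := by
          have : s.sup (fun i : S => (i : Subgroup G)) ≤
              Subgroup.centralizer ((⁅V, (i : Subgroup G)⁆ : Subgroup G) : Set G) :=
            Finset.sup_le fun j hj => (hother i j (fun e => hi (e ▸ hj))).1.trans inf_le_right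
          exact Subgroup.le_centralizer_iff.1 this hw
        rw [← mul_assoc]
        refine Subgroup.mul_mem_sup (Subgroup.mul_mem _ (Subgroup.mem_sup_right ht) (Subgroup.mem_sup_left hw))
          ⟨hu1.1, hu1.2, ?_⟩
        have h := (Subgroup.centralizer ((s.sup (fun i : S => (i : Subgroup G)) : Subgroup G) : Set G)).mul_mem
          ((Subgroup.centralizer ((s.sup (fun i : S => (i : Subgroup G)) : Subgroup G) : Set G)).inv_mem hwc) hu.2
        rwa [inv_mul_cancel_left] at h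
    refine (key Finset.univ).trans (sup_le ?_ ?_)
    · exact le_sup_of_le_right (Finset.sup_le fun i _ => le_iSup (fun i : S => ⁅V, (i : Subgroup G)⁆) i)
    · refine le_sup_of_le_left (inf_le_inf_left V (Subgroup.centralizer_le ?_))
      exact htop.ge.trans (iSup_le fun i => Finset.le_sup (f := fun i : S => (i : Subgroup G)) (Finset.mem_univ i))

end Cfsg.Agent.S0617
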