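import Cfsg.Statements.S0618
import Cfsg.Agent.Lib.FFPair.Failure

set_option autoImplicit false
open Cfsg

namespace Cfsg.Agent.S0618

/-- A p-separable group with trivial p'-core in which the Thompson factorization fails has p = 2 or 3, and J(G) induces on the normal closure of Ω₁(Z(S)) a group containing a normal SL(2, p). -/
theorem result {G : Type*} [Group G] [Finite G] {p : ℕ} [Fact p.Prime] (hsep : Cfsg.IsPSolvable p G) (hO : Cfsg.pPrimeCore p G = ⊥) (hnf : ¬ Cfsg.IsThompsonFactorizable p G) : (p = 2 ∨ p = 3) ∧ ∃ E : Subgroup G, Subgroup.centralizer ((⨆ S : Sylow p G, Cfsg.omegaOne p ((S : Subgroup G) ⊓ Subgroup.centralizer ((S : Subgroup G) : Set G))) : Set G) ≤ E ∧ E ≤ Cfsg.thompsonSubgroup p G ⊔ Subgroup.centralizer ((⨆ S : Sylow p G, Cfsg.omegaOne p ((S : Subgroup G) ⊓ Subgroup.centralizer ((S : Subgroup G) : Set G))) : Set G) ∧ Cfsg.thompsonSubgroup p G ⊔ Subgroup.centralizer ((⨆ S : Sylow p G, Cfsg.omegaOne p ((S : Subgroup G) ⊓ Subgroup.centralizer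 ((S : Subgroup G) : Set G))) : Set G) ≤ Subgroup.normalizer (E : Set G) ∧ ∃ hn : ((Subgroup.centralizer ((⨆ S : Sylow p G, Cfsg.omegaOne p ((S : Subgroup G) ⊓ Subgroup.centralizer ((S : Subgroup G) : Set G))) : Set G)).subgroupOf E).Normal, Nonempty ((↥E ⧸ (Subgroup.centralizer ((⨆ S : Sylow p G, Cfsg.omegaOne p ((S : Subgroup G) ⊓ Subgroup.centralizer ((S : Subgroup G) : Set G))) : Set G)).subgroupOf E) ≃* Matrix.SpecialLinearGroup (Fin 2) (ZMod p)) := by
  have hsep' := Solvable.isPiSeparable_of_isPSolvable hsep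
  obtain ⟨X, _, _, U, ι, j, A, hM, hF, hgen, hAH, hT⟩ := FFPair.failure_model hsep' hO hnf
  obtain ⟨hf, hEH, -, -, -⟩ := hF.exists_factor hAH hT
  obtain ⟨hnorm, -⟩ := hF.factor_decomp hgen hAH hT
  refine ⟨hf.small, ?_⟩
  have hset : Subgroup.centralizer (⨆ S : Sylow p G,
      (Cfsg.omegaOne p ((S : Subgroup G) ⊓ Subgroup.centralizer ((S : Subgroup G) : Set G)) : Set G)) =
      Subgroup.centralizer ((FFPair.zSup p G : Subgroup G) : Set G) := by
    rw [FFPair.zSup, Subgroup.iSup_eq_closure, Subgroup.centralizer_closure, Set.iSup_eq_iUnion]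
  rw [hset]
  set J := Cfsg.thompsonSubgroup p G
  set C := Subgroup.centralizer ((FFPair.zSup p G : Subgroup G) : Set G)
  set E' := FFPair.factor ((Cfsg.pPrimeCore p ↥(J.map ι)).map (J.map ι).subtype) A
  have hker : ι.ker = C := hM.ker
  have hEJ : E'.comap ι ≤ J ⊔ C := by
    rw [← hker, ← Subgroup.comap_map_eq]
    exact Subgroup.comap_mono hEH
  have hCE : C ≤ E'.comap ι := by
    rw [← hker]; exact fun x hx => by
      show ι x ∈ E'
      rw [MonoidHom.mem_ker.1 hx]; exact one_mem _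
  refine ⟨E'.comap ι, hCE, hEJ, ?_, ?_⟩
  · intro g hg
    refine Coprime.mem_normalizer_of_forall fun e he => ?_
    show ι (g * e * g⁻¹) ∈ E'
    rw [map_mul, map_mul, map_inv]
    have hg' : ι g ∈ J.map ι := by
      have : ι g ∈ (J ⊔ C).map ι := ⟨g, hg, rfl⟩
      rwa [Subgroup.map_sup, ← hker, (Subgroup.map_eq_bot_iff ι.ker).2 le_rfl, sup_bot_eq] at this
    exact (Subgroup.mem_normalizer_iff.1 (hnorm hg') _).1 he
  · let f : ↥(E'.comap ι) →* ↥E' := ι.subgroupComap E'
    have hf' : Function.Surjective f := by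
      rintro ⟨y, hy⟩
      obtain ⟨x, -, rfl⟩ := hEH hy
      exact ⟨⟨x, hy⟩, rfl⟩
    have hk : f.ker = C.subgroupOf (E'.comap ι) := by
      ext x
      rw [Subgroup.mem_subgroupOf, ← hker, MonoidHom.mem_ker, MonoidHom.mem_ker, Subtype.ext_iff]
      rfl
    have hn : (C.subgroupOf (E'.comap ι)).Normal := hk ▸ inferInstance
    obtain ⟨e⟩ := hf.plane.iso
    exact ⟨hn, ⟨((QuotientGroup.quotientMulEquivOfEq hk.symm).trans
      (QuotientGroup.quotientKerEquivOfSurjective f hf')).trans e⟩⟩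

end Cfsg.Agent.S0618
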