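import Cfsg.Statements.S0619
import Cfsg.Agent.Lib.FFPair.Failure

set_option autoImplicit false
open Cfsg
open scoped commutatorElement

namespace Cfsg.Agent.S0619

/-- For a p-separable group and a normal elementary abelian p-subgroup V with no nontrivial normal p-subgroup modulo its centralizer C, the Thompson subgroup J(G) moves Ω₁(Z(J(C))) only inside V. -/
theorem result {G : Type*} [Group G] [Finite G] {p : ℕ} [Fact p.Prime] (hsep : Cfsg.IsPSolvable p G) (V : Subgroup G) [V.Normal] (hV : Cfsg.IsElementaryAbelian p V) (hO : Cfsg.pCore p (G ⧸ Subgroup.centralizer (V : Set G)) = ⊥) : ⁅Cfsg.omegaOne p (Cfsg.centerThompsonOf p (Subgroup.centralizer (V : Set G))), Cfsg.thompsonSubgroup p G⁆ ≤ V := by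
  have hsep' := Solvable.isPiSeparable_of_isPSolvable hsep
  set C := Subgroup.centralizer (V : Set G) with hC
  set Y := Cfsg.omegaOne p (Cfsg.centerThompsonOf p C)
  obtain ⟨X, _, _, U, ι, j, hM⟩ := FFPair.exists_model V
  have hJn := FFPair.thompsonSubgroup_normal (G := G) (p := p)
  have hF := hM.isFF hV hsep' hO (J := Cfsg.thompsonSubgroup p G)
  have hYe : Cfsg.IsElementaryAbelian p Y :=
    PLocal.omegaOne_elemAb (inf_le_right.trans (Subgroup.centralizer_le inf_le_left))
  have hYC : Y ≤ C := (PLocal.omegaOne_le _).trans (inf_le_left.trans (PLocal.thompsonSubgroupOf_le C))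
  rw [Cfsg.thompsonSubgroup, sSup_eq_iSup', Subgroup.iSup_eq_closure]
  refine FFPair.commutator_closure_le (fun s _ => Subgroup.le_normalizer_of_normal (K := ⊤) (Subgroup.mem_top s))
    fun y hy a ha => ?_
  obtain ⟨⟨A, hA⟩, haA⟩ := Set.mem_iUnion.1 ha
  have hb := FFPair.maxIn_best hV hA
  have hcent : ∀ {B : Subgroup G}, B ∈ PLocal.maxIn (PLocal.elemAb p) C → Y ≤ B := by
    intro B hB y hy
    have hy' := PLocal.omegaOne_le _ hy
    refine PLocal.mem_of_centralizes hB (hYC hy) (hYe.2 y hy) ?_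
    refine Subgroup.centralizer_le ?_ hy'.2
    rw [PLocal.thompsonSubgroupOf_eq]
    exact SetLike.coe_subset_coe.2 (le_sSup hB)
  by_cases hA0 : A.map ι = ⊥
  · have hB : A ∈ PLocal.maxIn (PLocal.elemAb p) C := ⟨hM.map_eq_bot.1 hA0, hA.1, fun B _ hB => hA.2 B hB⟩
    rw [commutatorElement_eq_one_iff_mul_comm.2 (PLocal.elemAb_comm hA.1 (hcent hB hy) haA)]
    exact one_mem _
  · have hval := hF.best_card (Subgroup.map_mono (le_sSup hA)) (hM.best hb) hA0
    rw [hM.card_fixed A] at hval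
    have hUc : Nat.card U = Nat.card V := by
      rw [← hM.range]
      exact (Nat.card_congr (MonoidHom.ofInjective hM.inj).toEquiv).symm
    rw [hUc] at hval
    set A0 := A ⊓ C
    have hA0e : Cfsg.IsElementaryAbelian p A0 := PLocal.elemAb_mono hA.1 inf_le_left
    have hsup : Cfsg.IsElementaryAbelian p (A0 ⊔ V) := PLocal.elemAb_sup hA0e hV inf_le_right
    have hcard := PLocal.card_sup_mul_card_inf (H := A0) (K := V)
      ((Subgroup.le_centralizer_iff.1 (inf_le_right : A0 ≤ C)).trans (Subgroup.centralizer_le_normalizer _))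
    have hVC : V ≤ C := PLocal.elemAb_le_centralizer hV
    have hle : Nat.card ↥(A0 ⊓ V) ≤ Nat.card ↥(V ⊓ Subgroup.centralizer (A : Set G)) :=
      PLocal.card_le_of_le fun x hx => ⟨hx.2, PLocal.elemAb_le_centralizer hA.1 hx.1.1⟩
    have hk := FFPair.card_map_mul ι A
    rw [hM.ker] at hk
    have hge : Nat.card A ≤ Nat.card ↥(A0 ⊔ V) := by
      refine Nat.le_of_mul_le_mul_right ?_ (Nat.card_pos (α := (V ⊓ Subgroup.centralizer (A : Set G) : Subgroup G)))
      calc Nat.card A * Nat.card ↥(V ⊓ Subgroup.centralizer (A : Set G))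
          = Nat.card ↥A0 * (Nat.card ↥(A.map ι) * Nat.card ↥(V ⊓ Subgroup.centralizer (A : Set G))) := by
            rw [← hk]; ring
        _ = Nat.card ↥(A0 ⊔ V) * Nat.card ↥(A0 ⊓ V) := by rw [hval, hcard]
        _ ≤ _ := Nat.mul_le_mul_left _ hle
    have hB : A0 ⊔ V ∈ PLocal.maxIn (PLocal.elemAb p) C :=
      ⟨sup_le inf_le_right hVC, hsup, fun B _ hB => (hA.2 B hB).trans hge⟩
    have hy' := hcent hB hy
    rw [← SetLike.mem_coe, Subgroup.mul_normal] at hy'
    obtain ⟨a0, ha0, v, hv, rfl⟩ := Set.mem_mul.1 hy'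
    have hc : a0 * a = a * a0 := PLocal.elemAb_comm hA.1 ha0.1 haA
    have e : ⁅a0 * v, a⁆ = a0 * ⁅v, a⁆ * a0⁻¹ := by
      rw [commutatorElement_mul_left_eq_conj_mul, commutatorElement_eq_one_iff_mul_comm.2 hc, mul_one]
    rw [e]
    refine (inferInstance : V.Normal).conj_mem _ ?_ a0
    rw [commutatorElement_def, mul_assoc, mul_assoc, ← mul_assoc a]
    exact V.mul_mem hv ((inferInstance : V.Normal).conj_mem _ (V.inv_mem hv) a)

end Cfsg.Agent.S0619
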