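import Cfsg.Statements.S0620
import Cfsg.Agent.Lib.FFPair.Orbit
import Cfsg.Agent.Lib.FFPair.Failure
import Cfsg.Agent.Lib.Cores.Subnormal

set_option autoImplicit false
open Cfsg

namespace Cfsg.Agent.S0620

/-- Under coprime action of an elementary abelian q-group X on a p-separable group K with trivial p'-core, K is generated by the normalizer of J(S), the centralizer of Ω₁(Z(S)) and the fixed points of X. -/
theorem result {G : Type*} [Group G] [Finite G] {p : ℕ} [Fact p.Prime] {q : ℕ} [Fact q.Prime] (K X : Subgroup G) (hXK : X ≤ Subgroup.normalizer (K : Set G)) (hX : Cfsg.IsElementaryAbelian q X) (hq : ¬ q ∣ Nat.card K) (hsep : Cfsg.IsPSolvable p ↥K) (hO : Cfsg.pPrimeCore p ↥K = ⊥) (S : Sylow p ↥K) : (Subgroup.normalizer (Cfsg.thompsonSubgroupOf p (S : Subgroup ↥K) : Set ↥K) ⊔ Subgroup.centralizer (Cfsg.omegaOne p ((S : Subgroup ↥K) ⊓ Subgroup.centralizer ((S : Subgroup ↥K) : Set ↥K)) : Set ↥K) ⊔ (Subgroup.centralizer (X : Set G)).subgroupOf K) = ⊤ := by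
  classical
  have hsep' := Solvable.isPiSeparable_of_isPSolvable hsep
  set L := (Subgroup.normalizer (Cfsg.thompsonSubgroupOf p (S : Subgroup ↥K) : Set ↥K) ⊔ Subgroup.centralizer (Cfsg.omegaOne p ((S : Subgroup ↥K) ⊓ Subgroup.centralizer ((S : Subgroup ↥K) : Set ↥K)) : Set ↥K) ⊔ (Subgroup.centralizer (X : Set G)).subgroupOf K) with hL
  by_cases hfact : Cfsg.IsThompsonFactorizable p ↥K
  · refine eq_top_iff.2 fun g _ => ?_
    obtain ⟨x, hx, c, hc, n, hn, rfl⟩ := hfact S g
    rw [hO, Subgroup.mem_bot] at hx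
    rw [hx, one_mul]
    exact L.mul_mem (Subgroup.mem_sup_left (Subgroup.mem_sup_right hc))
        (Subgroup.mem_sup_left (Subgroup.mem_sup_left hn))
  -- the model of `K ⊔ X`
  obtain ⟨hZ, -, hcore⟩ := FFPair.zSup_props hsep' hO
  have hZn := FFPair.zSup_normal (G := ↥K) (p := p)
  have hJn := FFPair.thompsonSubgroup_normal (G := ↥K) (p := p)
  set Y := K ⊔ X with hY
  have hYK : Y ≤ Subgroup.normalizer (K : Set G) := sup_le Subgroup.le_normalizer hXK
  have hchar : (FFPair.zSup p ↥K).Characteristic := by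
    refine Subgroup.characteristic_iff_map_le.2 fun φ => ?_
    rw [FFPair.zSup, Subgroup.map_iSup]
    refine iSup_le fun T => ?_
    rw [PLocal.map_omegaOne _ φ.injective.injOn, PLocal.map_centralizer_inf _ φ.injective.injOn le_rfl]
    have hφs : Function.Surjective φ.toMonoidHom := φ.surjective
    refine le_iSup_of_le (T.mapSurjective hφs) (le_of_eq ?_)
    rfl
  set VG := (FFPair.zSup p ↥K).map K.subtype with hVG
  have hYV : Y ≤ Subgroup.normalizer (VG : Set G) := hYK.trans (Cores.normalizer_le_normalizer_map _)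
  set VY := VG.subgroupOf Y with hVY
  have : VY.Normal := Subgroup.normal_subgroupOf_of_le_normalizer hYV
  obtain ⟨Xm, _, _, U, ι, j, hM⟩ := FFPair.exists_model VY
  set i : ↥K →* ↥Y := Subgroup.inclusion le_sup_left
  have hiV : ∀ v : FFPair.zSup p ↥K, i (v : ↥K) ∈ VY := fun v => ⟨v, v.2, rfl⟩
  let j0 : FFPair.zSup p ↥K →* VY := (i.comp (FFPair.zSup p ↥K).subtype).codRestrict VY hiV
  set ι' : ↥K →* Xm := ι.comp i
  have hker : ∀ k : ↥K, i k ∈ Subgroup.centralizer (VY : Set ↥Y) ↔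
      k ∈ Subgroup.centralizer ((FFPair.zSup p ↥K : Subgroup ↥K) : Set ↥K) := by
    intro k
    constructor
    · intro hk
      refine Subgroup.mem_centralizer_iff.2 fun v hv => Subtype.ext ?_
      exact congrArg (Subtype.val : ↥Y → G) (Subgroup.mem_centralizer_iff.1 hk (i v) ⟨v, hv, rfl⟩)
    · intro hk
      refine Subgroup.mem_centralizer_iff.2 ?_
      rintro v ⟨w, hw, hwv⟩
      obtain rfl : i w = v := Subtype.ext hwv
      exact congrArg i (Subgroup.mem_centralizer_iff.1 hk w hw)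
  have hM' : FFPair.IsModel (FFPair.zSup p ↥K) U ι' (j.comp j0) := by
    refine ⟨fun a b h => ?_, ?_, fun g => hM.mem _, fun g v v' h => ?_, ?_, ?_⟩
    · exact Subtype.ext (Subgroup.inclusion_injective (le_sup_left : K ≤ Y) (congrArg (Subtype.val : VY → ↥Y) (hM.inj h)))
    · have hj0 : j0.range = ⊤ := MonoidHom.range_eq_top.2 fun w => by
        obtain ⟨v, hv, hvw⟩ := w.2
        exact ⟨⟨v, hv⟩, Subtype.ext (Subtype.ext hvw)⟩
      rw [← hM.range, MonoidHom.range_comp, hj0, MonoidHom.range_eq_map]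
    · exact hM.conj (i g) (j0 v) (j0 v') (congrArg i h |>.trans (by rw [map_mul, map_mul, map_inv]; rfl))
    · ext k
      rw [MonoidHom.mem_ker, ← hker k, ← hM.ker, MonoidHom.mem_ker]
      rfl
    · exact le_bot_iff.1 ((inf_le_inf_right _ (by
        rintro _ ⟨k, rfl⟩; exact ⟨i k, rfl⟩)).trans hM.faith.le)
  set J := Cfsg.thompsonSubgroup p ↥K
  have hJc : J.Characteristic := PLocal.thompsonSubgroup_characteristic
  have hF := hM'.isFF hZ hsep' (hcore inferInstance) (J := J)
  have hgen := hM'.gen (J := J) (S := Cfsg.maxElementaryAbelianSubgroups p ↥K) rfl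
    (fun A hA => FFPair.maxIn_best hZ hA)
  set H := J.map ι'
  set KH := (Cfsg.pPrimeCore p ↥H).map H.subtype
  -- the operators
  set Xb := (X.subgroupOf Y).map ι
  have hXe : Cfsg.IsElementaryAbelian q Xb := PLocal.elemAb_map ι (PLocal.elemAb_subgroupOf hX)
  have hXbV : Xb ≤ Subgroup.normalizer (U : Set Xm) := hM.le_normalizer _
  have hXbH : Xb ≤ Subgroup.normalizer (H : Set Xm) := by
    rintro _ ⟨y, -, rfl⟩
    refine Coprime.mem_normalizer_of_forall ?_
    rintro _ ⟨k, hk, rfl⟩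
    obtain ⟨k', hk', hke⟩ := (Subgroup.mem_normalizer_iff.1
      ((hYK.trans (Cores.normalizer_le_normalizer_map J)) y.2) _).1 ⟨k, hk, rfl⟩
    refine ⟨k', hk', ?_⟩
    show ι (i k') = ι y * ι (i k) * (ι y)⁻¹
    rw [← map_inv, ← map_mul, ← map_mul]
    exact congrArg ι (Subtype.ext hke)
  have hXbK : Xb ≤ Subgroup.normalizer (KH : Set Xm) := hXbH.trans (Cores.normalizer_le_normalizer_map _)
  have hkerL : ι'.ker ≤ L := by
    rw [hM'.ker]
    exact le_sup_of_le_left (le_sup_of_le_right (Subgroup.centralizer_le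
      (SetLike.coe_subset_coe.2 (le_iSup (fun T : Sylow p ↥K => Cfsg.omegaOne p
        ((T : Subgroup ↥K) ⊓ Subgroup.centralizer ((T : Subgroup ↥K) : Set ↥K))) S))))
  have hlift : ∀ d ∈ H, d ∈ Subgroup.centralizer (Xb : Set Xm) → d ∈ L.map ι' := by
    intro d hd hdX
    obtain ⟨k0, -, rfl⟩ := hd
    set N := K ⊓ Subgroup.centralizer (VG : Set G)
    have hcop : (Nat.card X).Coprime (Nat.card K) := by
      obtain ⟨m, hm⟩ := IsPGroup.iff_card.1 (PLocal.elemAb_isPGroup hX)
      rw [hm]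
      exact ((Fact.out : q.Prime).coprime_iff_not_dvd.2 hq).pow_left m
    obtain ⟨c, hc, hck⟩ := Coprime.exists_mem_centralizer_of_coset hXK hcop
      (Or.inl (Group.isSolvable_of_comm fun a b => hX.1.1.1 a b)) (inf_le_left : N ≤ K)
      (fun x hx => Coprime.mem_normalizer_of_forall fun z hz =>
        ⟨(Subgroup.mem_normalizer_iff.1 (hXK hx) z).1 hz.1,
          (Subgroup.mem_normalizer_iff.1 (PLocal.normalizer_le_normalizer_centralizer _
            (hYV (Subgroup.mem_sup_right hx))) z).1 hz.2⟩)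
      k0.2 (fun x hx => by
        let y : ↥Y := ⟨x, Subgroup.mem_sup_right hx⟩
        have h1 : ι y * ι (i k0) = ι (i k0) * ι y :=
          Subgroup.mem_centralizer_iff.1 hdX _ ⟨y, hx, rfl⟩
        have h2 : ι (y * i k0 * y⁻¹ * (i k0)⁻¹) = 1 := by
          rw [map_mul, map_mul, map_mul, map_inv, map_inv, h1, mul_inv_cancel_right, mul_inv_cancel]
        rw [← MonoidHom.mem_ker, hM.ker] at h2
        refine ⟨?_, Subgroup.mem_centralizer_iff.2 fun v hv => ?_⟩
        · exact K.mul_mem ((Subgroup.mem_normalizer_iff.1 (hXK hx) _).1 k0.2) (K.inv_mem k0.2)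
        · exact congrArg (Subtype.val : ↥Y → G) (Subgroup.mem_centralizer_iff.1 h2
            ⟨v, Subgroup.mem_sup_left (Subgroup.map_subtype_le _ hv)⟩ hv))
    refine ⟨⟨c, hc.1⟩, Subgroup.mem_sup_right hc.2, ?_⟩
    have h3 : (⟨c, hc.1⟩ : ↥K) * k0⁻¹ ∈ ι'.ker := by
      rw [hM'.ker]
      exact Subgroup.mem_centralizer_iff.2 fun v hv => Subtype.ext
        (Subgroup.mem_centralizer_iff.1 hck.2 _ ⟨v, hv, rfl⟩)
    rw [MonoidHom.mem_ker, map_mul, map_inv, mul_inv_eq_one] at h3
    exact h3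
  -- the Sylow subgroup meets every factor
  have hHR : H ≤ ι'.range := Subgroup.map_le_range ι' J
  have hJL : J ≤ L := by
    suffices h : H ≤ L.map ι' by
      have h1 := Subgroup.comap_mono (f := ι') h
      rw [Subgroup.comap_map_eq (H := L), sup_eq_left.2 hkerL] at h1
      exact (Subgroup.le_comap_map ι' J).trans h1
    refine hF.gen_tv hgen fun B hB hTB => ?_
    obtain ⟨hf, hEH, -, -, hall⟩ := hF.exists_factor hB hTB
    obtain ⟨hnE, -⟩ := hF.factor_decomp hgen hB hTB
    obtain ⟨x0, hx0, hx0c⟩ := Set.not_subset.1 (hF.not_le_centralizer hB hTB.best hTB.ne_bot)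
    obtain ⟨e0⟩ := hf.plane.iso
    have hcardE : Nat.card ↥(FFPair.factor KH B) = p * (p ^ 2 - 1) := by
      rw [FFPair.factor, Nat.card_congr e0.toEquiv, GLOrder.card_SL_two, Nat.card_zmod]
    have hq23 : q ≠ 2 ∧ q ≠ 3 := by
      have hd : p * (p ^ 2 - 1) ∣ Nat.card K := by
        rw [← hcardE]
        exact (Subgroup.card_dvd_of_le hEH).trans ((Subgroup.card_map_dvd J ι').trans J.card_subgroup_dvd_card)
      have h6 : 6 ∣ p * (p ^ 2 - 1) := by rcases hf.small with rfl | rfl <;> norm_num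
      exact ⟨fun h => hq (h ▸ (dvd_trans (by norm_num) (h6.trans hd))),
        fun h => hq (h ▸ (dvd_trans (by norm_num) (h6.trans hd)))⟩
    set E := FFPair.factor KH B
    have hsn : (E.subgroupOf ι'.range).IsSubnormal := by
      refine Subgroup.IsSubnormal.trans (K := H.subgroupOf ι'.range) (fun z hz => hEH hz) ?_ ?_
      · exact Subgroup.Normal.isSubnormal ⟨fun z hz g =>
          (Subgroup.mem_normalizer_iff.1 (hnE g.2) _).1 hz⟩
      · refine Subgroup.Normal.isSubnormal ⟨?_⟩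
        rintro ⟨_, b, rfl⟩ ⟨a, ha, hab⟩ ⟨_, c, rfl⟩
        refine ⟨c * a * c⁻¹, hJn.conj_mem a ha c, ?_⟩
        show ι' (c * a * c⁻¹) = ι' c * ι' b * (ι' c)⁻¹
        rw [map_mul, map_mul, map_inv, show ι' a = ι' b from hab]
    let T := S.mapSurjective ι'.rangeRestrict_surjective
    have hne : (T : Subgroup ι'.range) ⊓ E.subgroupOf ι'.range ≠ ⊥ := by
      intro h
      apply Cores.not_dvd_relIndex_of_isSubnormal T hsn
      have hE' : Nat.card (E.subgroupOf ι'.range) = Nat.card E :=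
        Nat.card_congr (Subgroup.subgroupOfEquivOfLe (show E ≤ ι'.range from hEH.trans hHR)).toEquiv
      rw [← Subgroup.inf_relIndex_right, h, Subgroup.relIndex_bot_left, hE', hcardE]
      exact dvd_mul_right p _
    obtain ⟨m, hm⟩ := IsPGroup.iff_card.1 (T.2.to_le (inf_le_left :
      (T : Subgroup ι'.range) ⊓ E.subgroupOf ι'.range ≤ T))
    have hm0 : m ≠ 0 := fun h => hne (Subgroup.card_eq_one.1 (by rw [hm, h, pow_zero]))
    obtain ⟨a, hao⟩ := exists_prime_orderOf_dvd_card' p (hm ▸ dvd_pow_self p hm0)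
    have haE : ((a : ι'.range) : Xm) ∈ E := a.2.2
    have haL : ((a : ι'.range) : Xm) ∈ L.map ι' := by
      obtain ⟨s, hs, hse⟩ := a.2.1
      exact ⟨s, Subgroup.mem_sup_left (Subgroup.mem_sup_left
        (PLocal.normalizer_le_normalizer_thompsonSubgroupOf _ (Subgroup.le_normalizer hs))),
        congrArg Subtype.val hse⟩
    have haord : orderOf ((a : ι'.range) : Xm) = p := by
      rw [Subgroup.orderOf_coe, Subgroup.orderOf_coe, hao]
    have hBe : B ≤ E := le_sup_right
    refine hBe.trans (FFPair.le_of_conjugates (hall x0 hx0 hx0c).symm hTB.1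
      ((Coprime.card_conj x0 B).trans hTB.1) hcardE haE haord fun e he => ?_)
    obtain ⟨d, hdH, hdX, hde, -⟩ := hF.exists_diag hB hTB hXe hq23.1 hq23.2 hXbV hXbH hXbK he
    rw [← hde _ haE]
    exact (L.map ι').mul_mem ((L.map ι').mul_mem (hlift d hdH hdX) haL) ((L.map ι').inv_mem (hlift d hdH hdX))
  -- Frattini
  set C := Subgroup.centralizer ((FFPair.zSup p ↥K : Subgroup ↥K) : Set ↥K)
  set D := J ⊔ C with hD
  have hDL : D ≤ L := sup_le hJL (hM'.ker.ge.trans hkerL)
  have : D.Normal := Subgroup.sup_normal _ _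
  let P : Sylow p D := (S.isPGroup'.comap_subtype (K := D)).toSylow fun hd =>
    S.not_dvd_index (hd.trans (Cores.relIndex_dvd_index_of_normal_right _ D))
  have hP : (P : Subgroup D).map D.subtype = (S : Subgroup ↥K) ⊓ D := Subgroup.subgroupOf_map_subtype _ _
  have hJD : Cfsg.thompsonSubgroupOf p (S : Subgroup ↥K) ≤ D :=
    (PLocal.thompsonSubgroupOf_sylow_le S).trans le_sup_left
  have hJ : Cfsg.thompsonSubgroupOf p ((S : Subgroup ↥K) ⊓ D) = Cfsg.thompsonSubgroupOf p (S : Subgroup ↥K) := by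
    rw [PLocal.thompsonSubgroupOf_eq] at hJD ⊢
    rw [PLocal.thompsonSubgroupOf_eq]
    obtain ⟨A, hA⟩ := PLocal.exists_maxIn (Q := PLocal.elemAb p) PLocal.elemAb_bot (S : Subgroup ↥K)
    refine le_antisymm (sSup_le_sSup (PLocal.maxIn_subset hA (le_inf hA.1 ((le_sSup hA).trans hJD)) inf_le_left))
      (sSup_le fun B hB => le_sSup (PLocal.maxIn_of_mem_le hB (le_inf hB.1 ((le_sSup hB).trans hJD)) inf_le_left))
  refine eq_top_iff.2 fun g _ => ?_
  have hg : g ∈ Subgroup.normalizer ((P : Subgroup D).map D.subtype : Set ↥K) ⊔ D := by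
    rw [Sylow.normalizer_sup_eq_top]; exact Subgroup.mem_top g
  refine (sup_le ?_ hDL : _ ≤ L) hg
  rw [hP]
  refine le_sup_of_le_left (le_sup_of_le_left ?_)
  rw [← hJ]
  exact PLocal.normalizer_le_normalizer_thompsonSubgroupOf _

end Cfsg.Agent.S0620
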