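import Cfsg.Statements.S0621
import Cfsg.Agent.Lib.FFPair.Diagonal
import Cfsg.Agent.Lib.FFPair.Failure
import Cfsg.Agent.Lib.Cores.Subnormal
-- import your own Cfsg.Agent.* helpers here

set_option autoImplicit false
open Cfsg

namespace Cfsg.Agent.S0621

/-- Let K be p-separable with O_p'(K) = 1, normalized by an elementary abelian q-group X for a prime q not dividing the order of K. If the Thompson factorization fails in K, then p is 2 or 3 and the fixed points of X contain a plane W of order p² and a subgroup inducing SL(2, p) on it. -/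
theorem result {G : Type*} [Group G] [Finite G] {p : ℕ} [Fact p.Prime] {q : ℕ} [Fact q.Prime] (K X : Subgroup G) (hXK : X ≤ Subgroup.normalizer (K : Set G)) (hX : Cfsg.IsElementaryAbelian q X) (hq : ¬ q ∣ Nat.card K) (hsep : Cfsg.IsPSolvable p ↥K) (hO : Cfsg.pPrimeCore p ↥K = ⊥) (hnf : ¬ Cfsg.IsThompsonFactorizable p ↥K) : (p = 2 ∨ p = 3) ∧ ∃ W D : Subgroup G, W ≤ K ⊓ Subgroup.centralizer (X : Set G) ∧ D ≤ K ⊓ Subgroup.centralizer (X : Set G) ∧ Cfsg.IsElementaryAbelian p W ∧ Nat.card W = p ^ 2 ∧ D ≤ Subgroup.normalizer (W : Set G) ∧ ∃ hn : ((Subgroup.centralizer (W : Set G)).subgroupOf D).Normal, Nonempty ((↥D ⧸ (Subgroup.centralizer (W : Set G)).subgroupOf D) ≃* Matrix.SpecialLinearGroup (Fin 2) (ZMod p)) := by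
  classical
  have hsep' := Solvable.isPiSeparable_of_isPSolvable hsep
  -- the model of `K ⊔ X`
  obtain ⟨hZ, -, hcore⟩ := FFPair.zSup_props hsep' hO
  have hZn := FFPair.zSup_normal (G := ↥K) (p := p)
  have hJn := FFPair.thompsonSubgroup_normal (G := ↥K) (p := p)
  set Y := K ⊔ X with hY
  have hYK : Y ≤ Subgroup.normalizer (K : Set G) := sup_le Subgroup.le_normalizer hXK
  have hchar : (FFPair.zSup p ↥K).Characteristic := by
    refine Subgroup.characteristic_iff_map_le.2 fun φ => ?_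
    rw [FFPair.zSup, Subgroup.map_iSup]
    refine iSup_le fun T => ?_
    rw [PLocal.map_omegaOne _ φ.injective.injOn, PLocal.map_centralizer_inf _ φ.injective.injOn le_rfl]
    have hφs : Function.Surjective φ.toMonoidHom := φ.surjective
    refine le_iSup_of_le (T.mapSurjective hφs) (le_of_eq ?_)
    rfl
  set VG := (FFPair.zSup p ↥K).map K.subtype with hVG
  have hYV : Y ≤ Subgroup.normalizer (VG : Set G) := hYK.trans (Cores.normalizer_le_normalizer_map _)
  set VY := VG.subgroupOf Y with hVY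
  have : VY.Normal := Subgroup.normal_subgroupOf_of_le_normalizer hYV
  obtain ⟨Xm, _, _, U, ι, j, hM⟩ := FFPair.exists_model VY
  set i : ↥K →* ↥Y := Subgroup.inclusion le_sup_left
  have hiV : ∀ v : FFPair.zSup p ↥K, i (v : ↥K) ∈ VY := fun v => ⟨v, v.2, rfl⟩
  let j0 : FFPair.zSup p ↥K →* VY := (i.comp (FFPair.zSup p ↥K).subtype).codRestrict VY hiV
  set ι' : ↥K →* Xm := ι.comp i
  have hker : ∀ k : ↥K, i k ∈ Subgroup.centralizer (VY : Set ↥Y) ↔
      k ∈ Subgroup.centralizer ((FFPair.zSup p ↥K : Subgroup ↥K) : Set ↥K) := by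
    intro k
    constructor
    · intro hk
      refine Subgroup.mem_centralizer_iff.2 fun v hv => Subtype.ext ?_
      exact congrArg (Subtype.val : ↥Y → G) (Subgroup.mem_centralizer_iff.1 hk (i v) ⟨v, hv, rfl⟩)
    · intro hk
      refine Subgroup.mem_centralizer_iff.2 ?_
      rintro v ⟨w, hw, hwv⟩
      obtain rfl : i w = v := Subtype.ext hwv
      exact congrArg i (Subgroup.mem_centralizer_iff.1 hk w hw)
  have hM' : FFPair.IsModel (FFPair.zSup p ↥K) U ι' (j.comp j0) := by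
    refine ⟨fun a b h => ?_, ?_, fun g => hM.mem _, fun g v v' h => ?_, ?_, ?_⟩
    · exact Subtype.ext (Subgroup.inclusion_injective (le_sup_left : K ≤ Y) (congrArg (Subtype.val : VY → ↥Y) (hM.inj h)))
    · have hj0 : j0.range = ⊤ := MonoidHom.range_eq_top.2 fun w => by
        obtain ⟨v, hv, hvw⟩ := w.2
        exact ⟨⟨v, hv⟩, Subtype.ext (Subtype.ext hvw)⟩
      rw [← hM.range, MonoidHom.range_comp, hj0, MonoidHom.range_eq_map]
    · exact hM.conj (i g) (j0 v) (j0 v') (congrArg i h |>.trans (by rw [map_mul, map_mul, map_inv]; rfl))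
    · ext k
      rw [MonoidHom.mem_ker, ← hker k, ← hM.ker, MonoidHom.mem_ker]
      rfl
    · exact le_bot_iff.1 ((inf_le_inf_right _ (by
        rintro _ ⟨k, rfl⟩; exact ⟨i k, rfl⟩)).trans hM.faith.le)
  set J := Cfsg.thompsonSubgroup p ↥K
  have hJc : J.Characteristic := PLocal.thompsonSubgroup_characteristic
  have hF := hM'.isFF hZ hsep' (hcore inferInstance) (J := J)
  have hgen := hM'.gen (J := J) (S := Cfsg.maxElementaryAbelianSubgroups p ↥K) rfl
    (fun A hA => FFPair.maxIn_best hZ hA)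
  set H := J.map ι'
  set KH := (Cfsg.pPrimeCore p ↥H).map H.subtype
  -- the operators
  set Xb := (X.subgroupOf Y).map ι
  have hXe : Cfsg.IsElementaryAbelian q Xb := PLocal.elemAb_map ι (PLocal.elemAb_subgroupOf hX)
  have hXbV : Xb ≤ Subgroup.normalizer (U : Set Xm) := hM.le_normalizer _
  have hXbH : Xb ≤ Subgroup.normalizer (H : Set Xm) := by
    rintro _ ⟨y, -, rfl⟩
    refine Coprime.mem_normalizer_of_forall ?_
    rintro _ ⟨k, hk, rfl⟩
    obtain ⟨k', hk', hke⟩ := (Subgroup.mem_normalizer_iff.1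
      ((hYK.trans (Cores.normalizer_le_normalizer_map J)) y.2) _).1 ⟨k, hk, rfl⟩
    refine ⟨k', hk', ?_⟩
    show ι (i k') = ι y * ι (i k) * (ι y)⁻¹
    rw [← map_inv, ← map_mul, ← map_mul]
    exact congrArg ι (Subtype.ext hke)
  have hXbK : Xb ≤ Subgroup.normalizer (KH : Set Xm) := hXbH.trans (Cores.normalizer_le_normalizer_map _)
  have hlift : ∀ d ∈ H, d ∈ Subgroup.centralizer (Xb : Set Xm) → ∃ c ∈ (Subgroup.centralizer (X : Set G)).subgroupOf K, ι' c = d := by
    intro d hd hdX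
    obtain ⟨k0, -, rfl⟩ := hd
    set N := K ⊓ Subgroup.centralizer (VG : Set G)
    have hcop : (Nat.card X).Coprime (Nat.card K) := by
      obtain ⟨m, hm⟩ := IsPGroup.iff_card.1 (PLocal.elemAb_isPGroup hX)
      rw [hm]
      exact ((Fact.out : q.Prime).coprime_iff_not_dvd.2 hq).pow_left m
    obtain ⟨c, hc, hck⟩ := Coprime.exists_mem_centralizer_of_coset hXK hcop
      (Or.inl (Group.isSolvable_of_comm fun a b => hX.1.1.1 a b)) (inf_le_left : N ≤ K)
      (fun x hx => Coprime.mem_normalizer_of_forall fun z hz =>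
        ⟨(Subgroup.mem_normalizer_iff.1 (hXK hx) z).1 hz.1,
          (Subgroup.mem_normalizer_iff.1 (PLocal.normalizer_le_normalizer_centralizer _
            (hYV (Subgroup.mem_sup_right hx))) z).1 hz.2⟩)
      k0.2 (fun x hx => by
        let y : ↥Y := ⟨x, Subgroup.mem_sup_right hx⟩
        have h1 : ι y * ι (i k0) = ι (i k0) * ι y :=
          Subgroup.mem_centralizer_iff.1 hdX _ ⟨y, hx, rfl⟩
        have h2 : ι (y * i k0 * y⁻¹ * (i k0)⁻¹) = 1 := by
          rw [map_mul, map_mul, map_mul, map_inv, map_inv, h1, mul_inv_cancel_right, mul_inv_cancel]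
        rw [← MonoidHom.mem_ker, hM.ker] at h2
        refine ⟨?_, Subgroup.mem_centralizer_iff.2 fun v hv => ?_⟩
        · exact K.mul_mem ((Subgroup.mem_normalizer_iff.1 (hXK hx) _).1 k0.2) (K.inv_mem k0.2)
        · exact congrArg (Subtype.val : ↥Y → G) (Subgroup.mem_centralizer_iff.1 h2
            ⟨v, Subgroup.mem_sup_left (Subgroup.map_subtype_le _ hv)⟩ hv))
    refine ⟨⟨c, hc.1⟩, hc.2, ?_⟩
    have h3 : (⟨c, hc.1⟩ : ↥K) * k0⁻¹ ∈ ι'.ker := by
      rw [hM'.ker]
      exact Subgroup.mem_centralizer_iff.2 fun v hv => Subtype.ext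
        (Subgroup.mem_centralizer_iff.1 hck.2 _ ⟨v, hv, rfl⟩)
    rw [MonoidHom.mem_ker, map_mul, map_inv, mul_inv_eq_one] at h3
    exact h3
  -- a transvection subgroup
  obtain ⟨B, hB, hTB⟩ : ∃ B, B ≤ H ∧ FFPair.IsTv p U B := by
    by_contra! h
    refine hnf ((S0608.result hO).2 (hM'.map_eq_bot.1 (le_bot_iff.1 ?_)))
    exact hF.gen_tv hgen fun B hB hTB => absurd hTB (h B hB)
  obtain ⟨hf, hEH, -, -, -⟩ := hF.exists_factor hB hTB
  obtain ⟨e0⟩ := hf.plane.iso
  set E := FFPair.factor KH B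
  change FFPair.IsFactor p U KH B ⁅KH, B⁆ E ⁅U, E⁆ at hf
  set W0 := ⁅U, E⁆
  have hq23 : q ≠ 2 ∧ q ≠ 3 := by
    have hd : p * (p ^ 2 - 1) ∣ Nat.card K := by
      rw [← (show Nat.card ↥E = p * (p ^ 2 - 1) by
        rw [show Nat.card ↥E = _ from Nat.card_congr e0.toEquiv, GLOrder.card_SL_two, Nat.card_zmod])]
      exact (Subgroup.card_dvd_of_le hEH).trans ((Subgroup.card_map_dvd J ι').trans J.card_subgroup_dvd_card)
    have h6 : 6 ∣ p * (p ^ 2 - 1) := by rcases hf.small with rfl | rfl <;> norm_num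
    exact ⟨fun h => hq (h ▸ (dvd_trans (by norm_num) (h6.trans hd))),
      fun h => hq (h ▸ (dvd_trans (by norm_num) (h6.trans hd)))⟩
  obtain ⟨φ, hφi, hφm, hφd⟩ := hF.diag_plane hB hTB hXe hq23.1 hq23.2 hXbV hXbH hXbK
  -- the plane in `G`
  set jj := j.comp j0
  let eU : FFPair.zSup p ↥K ≃* U := (MonoidHom.ofInjective hM'.inj).trans (MulEquiv.subgroupCongr hM'.range)
  have heU : ∀ v, (eU v : Xm) = jj v := fun v => rfl
  let φU : ↥W0 →* U := φ.codRestrict U fun w => (hφm w).1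
  let ψ0 : ↥W0 →* FFPair.zSup p ↥K := eU.symm.toMonoidHom.comp φU
  have hψ0 : ∀ w, jj (ψ0 w) = φ w := fun w => by
    rw [← heU]; exact congrArg Subtype.val (eU.apply_symm_apply (φU w))
  let ψ : ↥W0 →* G := K.subtype.comp ((FFPair.zSup p ↥K).subtype.comp ψ0)
  have hψi : Function.Injective ψ := fun a b h => hφi (by
    rw [← hψ0, ← hψ0, Subtype.ext (Subtype.ext h : ((ψ0 a : ↥K)) = ψ0 b)])
  set W := ψ.range with hW
  have hWK : W ≤ K := by rintro _ ⟨w, rfl⟩; exact (ψ0 w : ↥K).2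
  have hWX : W ≤ Subgroup.centralizer (X : Set G) := by
    rintro _ ⟨w, rfl⟩
    refine Subgroup.mem_centralizer_iff.2 fun x hx => ?_
    let y : ↥Y := ⟨x, Subgroup.mem_sup_right hx⟩
    have h1 := hM.conj y (j0 (ψ0 w))
      ⟨y * (j0 (ψ0 w) : ↥Y) * y⁻¹, ‹VY.Normal›.conj_mem _ (j0 (ψ0 w)).2 y⟩ rfl
    have h2 : ι y * j (j0 (ψ0 w)) = j (j0 (ψ0 w)) * ι y := by
      rw [show j (j0 (ψ0 w)) = φ w from hψ0 w]
      exact Subgroup.mem_centralizer_iff.1 (hφm w).2 _ ⟨y, hx, rfl⟩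
    rw [h2, mul_inv_cancel_right] at h1
    exact (eq_mul_inv_iff_mul_eq.1 (congrArg (fun v : VY => ((v : ↥Y) : G)) (hM.inj h1))).symm
  have hWe : Cfsg.IsElementaryAbelian p W := by
    refine PLocal.elemAb_mono (PLocal.elemAb_map K.subtype hZ) ?_
    rintro _ ⟨w, rfl⟩
    exact ⟨_, (ψ0 w).2, rfl⟩
  have hWc : Nat.card W = p ^ 2 := by
    rw [hW, ← Nat.card_congr (MonoidHom.ofInjective hψi).toEquiv]
    exact hf.plane.card
  -- the action of `E` on the plane
  let eW : ↥W0 ≃* W := MonoidHom.ofInjective hψi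
  have heW : ∀ w, (eW w : G) = ψ w := fun w => rfl
  let σ : ↥E →* MulAut W := (MulAut.congr eW).toMonoidHom.comp (Coprime.conjAut hf.plane.norm)
  have hσ : ∀ (e : ↥E) (w : ↥W0), σ e (eW w) = eW (Coprime.conjAut hf.plane.norm e w) := fun e w => by
    simp [σ, MulAut.congr]
  have hσi : Function.Injective σ := (injective_iff_map_eq_one σ).2 fun e he => by
    refine Subtype.ext (Subgroup.mem_bot.1 (hf.plane.faith ▸ ⟨e.2, Subgroup.mem_centralizer_iff.2 fun w hw => ?_⟩))
    have h := hσ e ⟨w, hw⟩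
    rw [he, MulAut.one_apply] at h
    have h' : w = (e : Xm) * w * (e : Xm)⁻¹ := congrArg Subtype.val (eW.injective h)
    exact eq_mul_inv_iff_mul_eq.1 h'
  -- an element of `K` acting like `e`
  have hact : ∀ (k : ↥K) (e : ↥E), (∀ w w' : ↥W0, (w' : Xm) = e * w * (e : Xm)⁻¹ →
      ι' k * φ w * (ι' k)⁻¹ = φ w') → (k : G) ∈ Subgroup.normalizer (W : Set G) ∧
      ∀ w, (k : G) * ψ w * (k : G)⁻¹ = ψ (Coprime.conjAut hf.plane.norm e w) := by
    intro k e h
    have h1 : ∀ w, (k : G) * ψ w * (k : G)⁻¹ = ψ (Coprime.conjAut hf.plane.norm e w) := by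
      intro w
      have h2 := h w _ (Coprime.coe_conjAut hf.plane.norm e w)
      rw [← hψ0, ← hψ0] at h2
      have h3 := hM'.conj k (ψ0 w) ⟨k * ψ0 w * k⁻¹, hZn.conj_mem _ (ψ0 w).2 k⟩ rfl
      rw [h2] at h3
      exact congrArg (fun v : FFPair.zSup p ↥K => ((v : ↥K) : G)) (hM'.inj h3).symm
    refine ⟨Coprime.mem_normalizer_of_forall ?_, h1⟩
    rintro _ ⟨w, rfl⟩
    exact ⟨_, (h1 w).symm⟩
  set D1 := K ⊓ Subgroup.centralizer (X : Set G) ⊓ Subgroup.normalizer (W : Set G)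
  have hD1n : D1 ≤ Subgroup.normalizer (W : Set G) := inf_le_right
  set ρ : ↥D1 →* MulAut W := Coprime.conjAut hD1n
  set D := (σ.range.comap ρ).map D1.subtype with hD
  have hDD1 : D ≤ D1 := Subgroup.map_subtype_le _
  have hDW : D ≤ Subgroup.normalizer (W : Set G) := hDD1.trans hD1n
  have hn : ((Subgroup.centralizer (W : Set G)).subgroupOf D).Normal :=
    Subgroup.normal_subgroupOf_of_le_normalizer (hDW.trans (PLocal.normalizer_le_normalizer_centralizer W))
  refine ⟨hf.small, W, D, le_inf hWK hWX, hDD1.trans inf_le_left, hWe, hWc, hDW, hn, ?_⟩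
  set ρD : ↥D →* MulAut W := Coprime.conjAut hDW
  have hker : ρD.ker = (Subgroup.centralizer (W : Set G)).subgroupOf D := by
    ext d
    rw [MonoidHom.mem_ker, Subgroup.mem_subgroupOf, Subgroup.mem_centralizer_iff]
    constructor
    · intro h w hw
      have h' : (d : G) * w * (d : G)⁻¹ = w :=
        congrArg (fun a : MulAut W => ((a ⟨w, hw⟩ : W) : G)) h
      exact (mul_inv_eq_iff_eq_mul.1 h').symm
    · intro h
      refine MulEquiv.ext fun w => Subtype.ext ?_
      rw [Coprime.coe_conjAut, MulAut.one_apply, ← h w w.2, mul_inv_cancel_right]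
  have hrange : ρD.range = σ.range := by
    refine le_antisymm ?_ ?_
    · rintro _ ⟨⟨d, d1, hd1, rfl⟩, rfl⟩
      exact hd1
    · rintro _ ⟨e, rfl⟩
      obtain ⟨d, hdH, hdX, hdw⟩ := hφd e e.2
      obtain ⟨k, hkX, rfl⟩ := hlift d hdH hdX
      obtain ⟨hkW, hkact⟩ := hact k e hdw
      have hkD1 : (k : G) ∈ D1 := ⟨⟨k.2, hkX⟩, hkW⟩
      have hρ : ρ ⟨k, hkD1⟩ = σ e := by
        refine MulEquiv.ext fun w => ?_
        obtain ⟨w, rfl⟩ := eW.surjective w
        rw [hσ]
        exact Subtype.ext (hkact w)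
      exact ⟨⟨k, ⟨k, hkD1⟩, Subgroup.mem_comap.2 ⟨e, hρ.symm⟩, rfl⟩, hρ⟩
  exact ⟨(QuotientGroup.quotientMulEquivOfEq hker.symm).trans ((QuotientGroup.quotientKerEquivRange ρD).trans
    ((MulEquiv.subgroupCongr hrange).trans ((MonoidHom.ofInjective hσi).symm.trans e0)))⟩

end Cfsg.Agent.S0621
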