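import Cfsg.Agent.Lib.PLocal.Omega

set_option autoImplicit false
universe u
open Cfsg

namespace Cfsg.Agent.S0622

/-- Basic properties of the stable normal closure W(S) of Ω₁(Z(S)) in a finite p-group: characteristic, squeezed between Ω₁(Z(S)) and Ω₁(Z(J(S))), nontrivial for S ≠ 1, and transported by group isomorphisms. -/
theorem result {S : Type u} [Group S] [Finite S] {p : ℕ} [Fact p.Prime] (hS : IsPGroup p S) : (Cfsg.stableNormalClosure p S).Characteristic ∧ Cfsg.omegaOne p (Subgroup.center S) ≤ Cfsg.stableNormalClosure p S ∧ Cfsg.stableNormalClosure p S ≤ Cfsg.omegaCenterThompson p S ∧ (Nontrivial S → Cfsg.stableNormalClosure p S ≠ ⊥) ∧ ∀ (S' : Type u) [Group S'] (η : S ≃* S'), (Cfsg.stableNormalClosure p S).map η.toMonoidHom = Cfsg.stableNormalClosure p S' := by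
  have htr : ∀ (S' : Type u) [Group S'] (η : S ≃* S'),
      (Cfsg.stableNormalClosure p S).map η.toMonoidHom = Cfsg.stableNormalClosure p S' := by
    have key : ∀ (A B : Type u) [Group A] [Group B] (η : A ≃* B),
        (Cfsg.stableNormalClosure p A).map η.toMonoidHom ≤ Cfsg.stableNormalClosure p B := by
      intro A B _ _ η
      refine le_sInf fun W hW => Subgroup.map_le_iff_le_comap.2 (sInf_le ⟨?_, fun H _ τ hτ => ?_⟩)
      · refine Subgroup.map_le_iff_le_comap.1 ?_
        refine le_trans ?_ hW.1
        rw [PLocal.map_omegaOne _ η.injective.injOn]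
        exact PLocal.omegaOne_mono (by
          rintro _ ⟨z, hz, rfl⟩
          refine Subgroup.mem_center_iff.2 fun b => ?_
          obtain ⟨a, rfl⟩ := η.surjective b
          show η a * η z = η z * η a
          rw [← map_mul, ← map_mul, Subgroup.mem_center_iff.1 hz a])
      · have hτ' : Cfsg.IsStableEmbedding p (τ.comp η.symm.toMonoidHom) := by
          obtain ⟨h1, h2, h3, h4, h5, h6⟩ := hτ
          have hr : (τ.comp η.symm.toMonoidHom).range = τ.range := by
            rw [MonoidHom.range_comp, MonoidHom.range_eq_top.2 η.symm.surjective, ← MonoidHom.range_eq_map]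
          have hJ : (Cfsg.thompsonSubgroup p B).map (τ.comp η.symm.toMonoidHom) = (Cfsg.thompsonSubgroup p A).map τ := by
            rw [← Subgroup.map_map, PLocal.map_thompsonSubgroup η.symm]
          have hZ : (Cfsg.omegaCenterThompson p B).map η.symm.toMonoidHom = Cfsg.omegaCenterThompson p A := by
            rw [Cfsg.omegaCenterThompson, PLocal.map_omegaOne _ η.symm.injective.injOn,
              PLocal.map_centralizer_inf _ η.symm.injective.injOn le_rfl, PLocal.map_thompsonSubgroup η.symm]
            rfl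
          refine ⟨h1.comp η.symm.injective, h2, ?_, h4, hJ ▸ h5, fun V _ hV => h6 V ?_⟩
          · rw [hr]; exact h3
          · rwa [← Subgroup.map_map, hZ] at hV
        have := hW.2 H _ hτ'
        rwa [← Subgroup.map_map, Subgroup.map_equiv_eq_comap_symm' η.symm W, MulEquiv.symm_symm] at this
    intro S' _ η
    refine le_antisymm (key S S' η) fun x hx => ?_
    exact ⟨η.symm x, key S' S η.symm ⟨x, hx, rfl⟩, η.apply_symm_apply x⟩
  have hZJ : Cfsg.omegaOne p (Subgroup.center S) ≤ Cfsg.omegaCenterThompson p S := by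
    refine (Subgroup.closure_le _).2 fun z hz => ?_
    rw [Cfsg.omegaCenterThompson, PLocal.thompsonSubgroup_eq, ← PLocal.sInf_maxIn_elemAb_eq_omegaOne_center]
    exact Subgroup.mem_sInf.2 fun A hA => PLocal.mem_of_centralizes hA (Subgroup.mem_top z) hz.2
      (Subgroup.center_le_centralizer _ hz.1)
  have hle : Cfsg.omegaOne p (Subgroup.center S) ≤ Cfsg.stableNormalClosure p S := le_sInf fun W hW => hW.1
  refine ⟨Subgroup.characteristic_iff_map_eq.2 fun e => htr S e, hle, sInf_le ⟨hZJ, fun H _ τ hτ => ?_⟩,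
    fun _ e => ?_, htr⟩
  · haveI := hτ.2.2.2.2.1
    rw [Cfsg.omegaCenterThompson, PLocal.map_omegaOne _ hτ.1.injOn,
      PLocal.map_centralizer_inf _ hτ.1.injOn le_rfl]
    refine Subgroup.normalizer_eq_top_iff.1 (top_le_iff.1 fun g _ => ?_)
    rw [PLocal.mem_normalizer_iff_map_eq, PLocal.map_omegaOne _ (MulAut.conj g).injective.injOn,
      PLocal.map_centralizer_inf _ (MulAut.conj g).injective.injOn le_rfl]
    rw [PLocal.mem_normalizer_iff_map_eq.1 (show g ∈ Subgroup.normalizer (((Cfsg.thompsonSubgroup p S).map τ : Subgroup H) : Set H) from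
      Subgroup.le_normalizer_of_normal (K := ⊤) (Subgroup.mem_top g))]
  · refine PLocal.omegaOne_ne_bot ?_ (le_bot_iff.1 (hle.trans e.le))
    obtain ⟨k, hk0, hk⟩ := (IsPGroup.nontrivial_iff_card (hS.to_subgroup (Subgroup.center S))).1 hS.center_nontrivial
    rw [hk]
    exact dvd_pow_self p (by omega)

end Cfsg.Agent.S0622
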