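import Cfsg.Statements.S0623
import Cfsg.Agent.EqLemmas
import Cfsg.Agent.Lib.Cores.Subnormal

set_option autoImplicit false
open Cfsg

namespace Cfsg.Agent.S0623
universe u

/-- The family whose intersection is the stable normal closure. -/
def family (p : ℕ) (S : Type u) [Group S] : Set (Subgroup S) :=
  {W : Subgroup S | Cfsg.omegaOne p (Subgroup.center S) ≤ W ∧
    ∀ (H : Type u) [Group H] (τ : S →* H), Cfsg.IsStableEmbedding p τ → (W.map τ).Normal}

theorem stableNormalClosure_eq (p : ℕ) (S : Type u) [Group S] :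
    Cfsg.stableNormalClosure p S = sInf (family p S) := rfl

theorem omegaCenter_le_omegaCenterThompson {p : ℕ} [Fact p.Prime] (S : Type u) [Group S] [Finite S] :
    Cfsg.omegaOne p (Subgroup.center S) ≤ Cfsg.omegaCenterThompson p S := by
  classical
  rw [Cfsg.omegaOne, Subgroup.closure_le]
  rintro z ⟨hzc, hzp⟩
  refine Subgroup.subset_closure ⟨⟨?_, ?_⟩, hzp⟩
  · obtain ⟨A, ⟨hA, hmax⟩⟩ : ∃ A : Subgroup S, A ∈ Cfsg.maxElementaryAbelianSubgroups p S := by
      haveI : Fintype (Subgroup S) := Fintype.ofFinite _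
      have hne : (Finset.univ.filter fun A : Subgroup S => Cfsg.IsElementaryAbelian p A).Nonempty :=
        ⟨⊥, Finset.mem_filter.mpr ⟨Finset.mem_univ _, inferInstance, fun a ha => by
          rw [Subgroup.mem_bot.mp ha, one_pow]⟩⟩
      obtain ⟨A, hA, hmax⟩ := Finset.exists_max_image _ (fun A : Subgroup S => Nat.card A) hne
      exact ⟨A, (Finset.mem_filter.mp hA).2, fun B hB =>
        hmax B (Finset.mem_filter.mpr ⟨Finset.mem_univ _, hB⟩)⟩
    have hle : A ≤ Subgroup.closure ((A : Set S) ∪ {z}) := fun x hx => Subgroup.subset_closure (Or.inl hx)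
    have hel : Cfsg.IsElementaryAbelian p (Subgroup.closure ((A : Set S) ∪ {z})) := by
      have hcomm : IsMulCommutative (Subgroup.closure ((A : Set S) ∪ {z})) := by
        refine Subgroup.isMulCommutative_closure ?_
        rintro a (ha | ha) b (hb | hb)
        · exact congrArg Subtype.val (hA.1.is_comm.comm ⟨a, ha⟩ ⟨b, hb⟩)
        · rw [Set.mem_singleton_iff.mp hb]; exact Subgroup.mem_center_iff.mp hzc a
        · rw [Set.mem_singleton_iff.mp ha]; exact (Subgroup.mem_center_iff.mp hzc b).symm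
        · rw [Set.mem_singleton_iff.mp ha, Set.mem_singleton_iff.mp hb]
      refine ⟨hcomm, fun x hx => ?_⟩
      induction hx using Subgroup.closure_induction with
      | mem y hy =>
        rcases hy with hy | hy
        · exact hA.2 y hy
        · rw [Set.mem_singleton_iff.mp hy]; exact hzp
      | one => exact one_pow p
      | mul y w hy hw h1 h2 =>
        have : Commute y w := congrArg Subtype.val (hcomm.is_comm.comm ⟨y, hy⟩ ⟨w, hw⟩)
        rw [this.mul_pow, h1, h2, one_mul]
      | inv y hy h1 => rw [inv_pow, h1, inv_one]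
    have heq : A = Subgroup.closure ((A : Set S) ∪ {z}) := Subgroup.eq_of_le_of_card_ge hle (hmax _ hel)
    have : z ∈ A := by rw [heq]; exact Subgroup.subset_closure (Or.inr rfl)
    exact (le_sSup (show A ∈ Cfsg.maxElementaryAbelianSubgroups p S from ⟨hA, hmax⟩)) this
  · exact Subgroup.mem_centralizer_iff.mpr fun y _ => Subgroup.mem_center_iff.mp hzc y

theorem omegaCenterThompson_map_normal {p : ℕ} {S H : Type u} [Group S] [Group H] (τ : S →* H)
    (hτ : Function.Injective τ) (hJ : ((Cfsg.thompsonSubgroup p S).map τ).Normal) :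
    ((Cfsg.omegaCenterThompson p S).map τ).Normal := by
  constructor
  intro y hy g
  rw [Cfsg.omegaCenterThompson, Cfsg.omegaOne, MonoidHom.map_closure] at hy ⊢
  induction hy using Subgroup.closure_induction with
  | mem y hy =>
    obtain ⟨x, ⟨⟨hxJ, hxc⟩, hxp⟩, rfl⟩ := hy
    obtain ⟨x', hx', hgx⟩ := hJ.conj_mem _ (Subgroup.mem_map_of_mem τ hxJ) g
    refine Subgroup.subset_closure ⟨x', ⟨⟨hx', ?_⟩, hτ ?_⟩, hgx⟩
    · refine Subgroup.mem_centralizer_iff.mpr fun j hj => hτ ?_
      obtain ⟨j', hj', hgj⟩ := hJ.conj_mem _ (Subgroup.mem_map_of_mem τ hj) g⁻¹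
      have hc : τ j' * τ x = τ x * τ j' := by
        rw [← map_mul, ← map_mul, Subgroup.mem_centralizer_iff.mp hxc j' hj']
      have hj2 : τ j = g * τ j' * g⁻¹ := by rw [hgj]; group
      rw [map_mul, map_mul, hgx, hj2]
      calc g * τ j' * g⁻¹ * (g * τ x * g⁻¹) = g * (τ j' * τ x) * g⁻¹ := by group
        _ = g * (τ x * τ j') * g⁻¹ := by rw [hc]
        _ = _ := by group
    · rw [map_pow, map_one, hgx, conj_pow, ← map_pow, hxp, map_one, mul_one, mul_inv_cancel]
  | one => simp
  | mul y w _ _ h1 h2 =>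
    have := mul_mem h1 h2
    simpa [mul_assoc] using this
  | inv y _ h1 =>
    have := inv_mem h1
    simpa [mul_assoc] using this

theorem sInf_map_normal {p : ℕ} {S : Type u} [Group S] (hω : Cfsg.omegaOne p (Subgroup.center S) ≤
    Cfsg.omegaCenterThompson p S) {H : Type u} [Group H] (τ : S →* H)
    (hst : Cfsg.IsStableEmbedding p τ) : ((sInf (family p S)).map τ).Normal := by
  constructor
  rintro _ ⟨w, hw, rfl⟩ g
  have hmem : Cfsg.omegaCenterThompson p S ∈ family p S :=
    ⟨hω, fun K _ σ hσ => omegaCenterThompson_map_normal σ hσ.1 hσ.2.2.2.2.1⟩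
  obtain ⟨w', hw', hgw⟩ := (omegaCenterThompson_map_normal τ hst.1 hst.2.2.2.2.1).conj_mem _
    (Subgroup.mem_map_of_mem τ (Subgroup.mem_sInf.mp hw _ hmem)) g
  refine ⟨w', Subgroup.mem_sInf.mpr fun W hW => ?_, hgw⟩
  obtain ⟨w'', hw'', hgw''⟩ :=
    (hW.2 H τ hst).conj_mem _ (Subgroup.mem_map_of_mem τ (Subgroup.mem_sInf.mp hw W hW)) g
  rwa [← hst.1 (hgw''.trans hgw.symm)]

/-- Frattini argument: if a normal `p`-subgroup of `H ⧸ C` is given, `H = C · N_H(P ∩ D)`. -/
theorem exists_mul_normalizer {p : ℕ} [Fact p.Prime] {H : Type u} [Group H] [Finite H]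
    (C : Subgroup H) [C.Normal] (P : Sylow p H) (g : H) :
    ∃ n ∈ Subgroup.normalizer (((P : Subgroup H) ⊓
        (Cfsg.pCore p (H ⧸ C)).comap (QuotientGroup.mk' C) : Subgroup H) : Set H),
      ∃ c ∈ C, g = n * c := by
  set D := (Cfsg.pCore p (H ⧸ C)).comap (QuotientGroup.mk' C) with hD
  have hDC : D ≤ C ⊔ ((P : Subgroup H) ⊓ D) := by
    intro d hd
    have hP : (Cfsg.pCore p (H ⧸ C)) ≤ ((P.mapSurjective (QuotientGroup.mk'_surjective C) :
        Sylow p (H ⧸ C)) : Subgroup (H ⧸ C)) := Cfsg.Agent.Cores.pCore_le_sylow _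
    obtain ⟨y, hy, hyd⟩ := hP hd
    have hc : d * y⁻¹ ∈ C := by
      rw [← QuotientGroup.eq_one_iff, QuotientGroup.mk_mul, QuotientGroup.mk_inv]
      simp only [QuotientGroup.mk'_apply] at hyd
      rw [hyd, mul_inv_cancel]
    have hyD : y ∈ D := by
      rw [hD, Subgroup.mem_comap, hyd]
      exact hd
    have := Subgroup.mul_mem_sup hc (show y ∈ (P : Subgroup H) ⊓ D from ⟨hy, hyD⟩)
    simpa using this
  set R := (P : Subgroup H) ⊓ D with hR
  have htop : C ⊔ Subgroup.normalizer (R : Set H) = ⊤ := by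
    have hnorm : ∀ g : H, ∃ c ∈ C ⊔ R, c * g ∈ Subgroup.normalizer (R : Set H) := by
      intro g
      -- the two conjugates of `R` are Sylow subgroups of `D`
      obtain ⟨P', hP'⟩ : ∃ P' : Sylow p D, (P' : Subgroup D) = R.subgroupOf D := by
        obtain ⟨Q, hQ⟩ := (P.2.to_le (inf_le_left : R ≤ _)).comap_subtype.exists_le_sylow (P := R.subgroupOf D)
        refine ⟨Q, le_antisymm (fun q hq => ?_) hQ⟩
        obtain ⟨P2, hP2⟩ := (Q.isPGroup'.map D.subtype).exists_le_sylow
        rw [Subgroup.mem_subgroupOf]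
        refine ⟨?_, q.2⟩
        have hPD : IsPGroup p R := P.2.to_le inf_le_left
        have hle : R ≤ (Q : Subgroup D).map D.subtype := fun r hr =>
          ⟨⟨r, hr.2⟩, hQ (Subgroup.mem_subgroupOf.mpr hr), rfl⟩
        -- orders agree because `p` does not divide the index of `R` in `D`
        have hidx : ¬ p ∣ R.relIndex D := by
          haveI : D.Normal := inferInstance
          have h1 : R.relIndex D = (P : Subgroup H).relIndex D := Subgroup.inf_relIndex_right _ _
          rw [h1]
          intro hdvd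
          exact P.not_dvd_index (hdvd.trans (Cfsg.Agent.Cores.relIndex_dvd_index_of_normal_right _ _))
        have hqp : IsPGroup p ((Q : Subgroup D).map D.subtype) := Q.isPGroup'.map _
        have hdvd : R.relIndex ((Q : Subgroup D).map D.subtype) ∣ R.relIndex D :=
          Dvd.intro _ (Subgroup.relIndex_mul_relIndex _ _ _ hle (Subgroup.map_subtype_le _))
        obtain ⟨k, hk⟩ := IsPGroup.iff_card.mp hqp
        have h2 : R.relIndex ((Q : Subgroup D).map D.subtype) ∣ p ^ k := hk ▸ Subgroup.relIndex_dvd_card _ _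
        obtain ⟨j, -, hj⟩ := (Nat.dvd_prime_pow (Fact.out : p.Prime)).mp h2
        have h3 : R.relIndex ((Q : Subgroup D).map D.subtype) = 1 := by
          rcases j with _ | j
          · simpa using hj
          · exact absurd ((hj ▸ dvd_pow_self p j.succ_ne_zero : p ∣ R.relIndex _).trans hdvd) hidx
        exact ((Subgroup.relIndex_eq_one.mp h3) ⟨q, hq, rfl⟩).1
      have hF := Sylow.normalizer_sup_eq_top P'
      rw [hP', Subgroup.map_subgroupOf_eq_of_le inf_le_right] at hF
      obtain ⟨d, hd, n, hn, rfl⟩ := Subgroup.mem_sup_of_normal_left.mp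
        (show g ∈ D ⊔ Subgroup.normalizer (R : Set H) by rw [sup_comm, hF]; trivial)
      exact ⟨d⁻¹, inv_mem (hDC hd), by simpa using hn⟩
    rw [eq_top_iff]
    intro g _
    obtain ⟨c, hc, hcg⟩ := hnorm g
    have hle : C ⊔ R ≤ C ⊔ Subgroup.normalizer (R : Set H) := sup_le_sup_left Subgroup.le_normalizer _
    have := mul_mem (inv_mem (hle hc)) (le_sup_right (a := C) hcg)
    simpa using this
  obtain ⟨n, hn, c, hc, e⟩ := Subgroup.mem_sup_of_normal_right.mp
    (show g ∈ Subgroup.normalizer (R : Set H) ⊔ C by rw [sup_comm, htop]; trivial)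
  exact ⟨n, hn, c, hc, e.symm⟩

/-- No element of a finite p-group acts quadratically and nontrivially on the stable normal closure W(S). -/
theorem result {S : Type*} [Group S] [Finite S] {p : ℕ} [Fact p.Prime] (hS : IsPGroup p S) (x : S) (hq : ⁅⁅Cfsg.stableNormalClosure p S, Subgroup.zpowers x⁆, Subgroup.zpowers x⁆ = ⊥) : ⁅Cfsg.stableNormalClosure p S, Subgroup.zpowers x⁆ = ⊥ := by
  classical
  have hω := omegaCenter_le_omegaCenterThompson (p := p) S
  set W := Cfsg.stableNormalClosure p S with hW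
  set Q : Set S := {y : S | ⁅⁅W, Subgroup.zpowers y⁆, Subgroup.zpowers y⁆ = ⊥} with hQ
  have hmem : W ⊓ Subgroup.centralizer Q ∈ family p S := by
    refine ⟨le_inf (le_sInf fun V hV => hV.1) ?_, ?_⟩
    · refine le_trans ?_ (Subgroup.center_le_centralizer Q)
      rw [Cfsg.omegaOne, Subgroup.closure_le]
      exact fun z hz => hz.1
    intro H _ τ hst
    have hst' := hst
    obtain ⟨hinj, hfin, ⟨P, hP⟩, -, hJ, hstab⟩ := hst
    haveI := hfin
    set W1 := W ⊓ Subgroup.centralizer Q with hW1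
    set V := Subgroup.normalClosure ((W1.map τ : Subgroup H) : Set H) with hV
    have hWn : (W.map τ).Normal := sInf_map_normal hω τ hst'
    have hVW : V ≤ W.map τ := by
      haveI := hWn
      exact Subgroup.normalClosure_le_normal (Subgroup.map_mono inf_le_left)
    have hWω : W ≤ Cfsg.omegaCenterThompson p S :=
      sInf_le ⟨hω, fun K _ σ hσ => omegaCenterThompson_map_normal σ hσ.1 hσ.2.2.2.2.1⟩
    have hcent : ∀ y ∈ Q, τ y ∈ Subgroup.centralizer (V : Set H) := by
      intro y hy
      have hq : ∀ z ∈ Q, ⁅⁅V, Subgroup.zpowers (τ z)⁆, Subgroup.zpowers (τ z)⁆ = ⊥ := by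
        intro z hz
        rw [← MonoidHom.map_zpowers, eq_bot_iff]
        refine le_trans (Subgroup.commutator_mono (Subgroup.commutator_mono hVW le_rfl) le_rfl) ?_
        rw [← Subgroup.map_commutator, ← Subgroup.map_commutator,
          show ⁅⁅W, Subgroup.zpowers z⁆, Subgroup.zpowers z⁆ = ⊥ from hz, Subgroup.map_bot]
      have hDmem : ∀ z ∈ Q, τ z ∈ (P : Subgroup H) ⊓
          (Cfsg.pCore p (H ⧸ Subgroup.centralizer (V : Set H))).comap
            (QuotientGroup.mk' (Subgroup.centralizer (V : Set H))) := fun z hz =>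
        ⟨hP ▸ ⟨z, rfl⟩, hstab V (hVW.trans (Subgroup.map_mono hWω)) (τ z) (hq z hz)⟩
      suffices hle : V ≤ Subgroup.centralizer {τ y} from Subgroup.mem_centralizer_iff.mpr fun v hv =>
        Subgroup.mem_centralizer_singleton_iff.mp (hle hv)
      rw [hV, Subgroup.normalClosure, Subgroup.closure_le]
      intro v hv
      obtain ⟨a, ⟨w, hw, rfl⟩, hconj⟩ := Group.mem_conjugatesOfSet_iff.mp hv
      obtain ⟨g, rfl⟩ := isConj_iff.mp hconj
      obtain ⟨n, hn, c, hc, rfl⟩ := exists_mul_normalizer (Subgroup.centralizer (V : Set H)) P g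
      have hwV : τ w ∈ V := Subgroup.subset_normalClosure (Subgroup.mem_map_of_mem τ hw)
      have hcw : c * τ w * c⁻¹ = τ w := by
        have := Subgroup.mem_centralizer_iff.mp hc _ hwV
        rw [← this, mul_inv_cancel_right]
      have hyR := ((Subgroup.mem_normalizer_iff.mp (Subgroup.inv_mem _ hn)) (τ y)).mp (hDmem y hy)
      rw [inv_inv] at hyR
      obtain ⟨y', hy'⟩ : n⁻¹ * τ y * n ∈ τ.range := hP ▸ hyR.1
      have hy'Q : y' ∈ Q := by
        show ⁅⁅W, Subgroup.zpowers y'⁆, Subgroup.zpowers y'⁆ = ⊥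
        apply Subgroup.map_injective hinj
        rw [Subgroup.map_commutator, Subgroup.map_commutator, Subgroup.map_bot, MonoidHom.map_zpowers, hy']
        have hcW : (W.map τ).map (MulAut.conj n⁻¹).toMonoidHom = W.map τ :=
          le_antisymm (by rintro _ ⟨u, hu, rfl⟩; exact hWn.conj_mem u hu n⁻¹)
            (fun u hu => ⟨n * u * n⁻¹, hWn.conj_mem u hu n, by simp [mul_assoc]⟩)
        have hc2 : n⁻¹ * τ y * n = (MulAut.conj n⁻¹).toMonoidHom (τ y) := by simp
        rw [hc2, ← MonoidHom.map_zpowers, ← hcW, ← Subgroup.map_commutator, ← Subgroup.map_commutator,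
          ← MonoidHom.map_zpowers τ, ← Subgroup.map_commutator, ← Subgroup.map_commutator,
          show ⁅⁅W, Subgroup.zpowers y⁆, Subgroup.zpowers y⁆ = ⊥ from hy, Subgroup.map_bot, Subgroup.map_bot]
      have hcomm : τ y' * τ w = τ w * τ y' := by
        rw [← map_mul, ← map_mul, Subgroup.mem_centralizer_iff.mp hw.2 y' hy'Q]
      rw [hy'] at hcomm
      rw [SetLike.mem_coe, Subgroup.mem_centralizer_singleton_iff,
        show n * c * τ w * (n * c)⁻¹ = n * (c * τ w * c⁻¹) * n⁻¹ by group, hcw]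
      calc n * τ w * n⁻¹ * τ y = n * (τ w * (n⁻¹ * τ y * n)) * n⁻¹ := by group
        _ = n * (n⁻¹ * τ y * n * τ w) * n⁻¹ := by rw [hcomm]
        _ = _ := by group
    have hVeq : V = W1.map τ := by
      refine le_antisymm (fun v hv => ?_) Subgroup.subset_normalClosure
      obtain ⟨w, hw, rfl⟩ := hVW hv
      refine ⟨w, ⟨hw, Subgroup.mem_centralizer_iff.mpr fun y hy => hinj ?_⟩, rfl⟩
      rw [map_mul, map_mul]
      exact (Subgroup.mem_centralizer_iff.mp (hcent y hy) _ hv).symm
    rw [← hVeq]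
    infer_instance
  have hle : W ≤ W ⊓ Subgroup.centralizer Q := sInf_le hmem
  rw [Subgroup.commutator_eq_bot_iff_le_centralizer]
  intro w hw
  rw [Subgroup.mem_centralizer_iff]
  intro z hz
  obtain ⟨i, rfl⟩ := hz
  exact ((show Commute x w from Subgroup.mem_centralizer_iff.mp (hle hw).2 x hq).zpow_left i).eq

end Cfsg.Agent.S0623
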