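import Cfsg.Statements.S0629
import Cfsg.Agent.Lib.PSeries.Basic

set_option autoImplicit false
open Cfsg

namespace Cfsg.Agent.S0629

/-- A group in which the centralizer of a Sylow p-subgroup of O_{p',p}(G) is p-solvable is p-constrained. -/
theorem result {G : Type*} [Group G] [Finite G] {p : ℕ} [Fact p.Prime] (P : Sylow p ↥(Cfsg.pPrimePCore p G)) (hsol : Cfsg.IsPSolvable p ↥(Subgroup.centralizer (((P : Subgroup ↥(Cfsg.pPrimePCore p G)).map (Cfsg.pPrimePCore p G).subtype : Subgroup G) : Set G))) : Cfsg.IsPConstrained p G := by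
  classical
  set U1 := Cfsg.pPrimeCore p G
  set π := QuotientGroup.mk' U1 with hπ
  have hπs : Function.Surjective π := QuotientGroup.mk'_surjective _
  have hU : (Nat.card U1).Coprime p := Cores.coprime_card_pPrimeCore p
  intro P' c hc
  -- every Sylow subgroup of `(Cfsg.pPrimePCore p G)` covers `(Cfsg.pPrimePCore p G) / U1`
  have hcov : ∀ R : Sylow p (Cfsg.pPrimePCore p G), ((R : Subgroup (Cfsg.pPrimePCore p G)).map (Cfsg.pPrimePCore p G).subtype).map π = Cfsg.pCore p (G ⧸ U1) := by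
    intro R
    refine le_antisymm ?_ fun q hq => ?_
    · rintro _ ⟨_, ⟨x, hx, rfl⟩, rfl⟩
      exact x.2
    · obtain ⟨g, rfl⟩ := hπs q
      let r : (Cfsg.pPrimePCore p G) →* Cfsg.pCore p (G ⧸ U1) := (π.comp (Cfsg.pPrimePCore p G).subtype).codRestrict _ (fun x => x.2)
      have hr : Function.Surjective r := fun ⟨y, hy⟩ => by
        obtain ⟨x, rfl⟩ := hπs y
        exact ⟨⟨x, hy⟩, rfl⟩
      have htop : ((R.mapSurjective hr : Sylow p _) : Subgroup (Cfsg.pCore p (G ⧸ U1))) = ⊤ :=
        top_le_iff.mp ((Cores.pCore_eq_top_iff.mpr (Cores.isPGroup_pCore p _)).ge.trans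
          (Cores.pCore_le_sylow _))
      have hmem : (⟨π g, hq⟩ : Cfsg.pCore p (G ⧸ U1)) ∈
          ((R.mapSurjective hr : Sylow p _) : Subgroup (Cfsg.pCore p (G ⧸ U1))) := by
        rw [htop]; trivial
      obtain ⟨x, hx, hxg⟩ := hmem
      exact ⟨x, ⟨x, hx, rfl⟩, congrArg Subtype.val hxg⟩
  set PG := (P : Subgroup (Cfsg.pPrimePCore p G)).map (Cfsg.pPrimePCore p G).subtype with hPG
  have hPp : IsPGroup p PG := P.isPGroup'.map _
  have hM : U1 ⊔ PG = (Cfsg.pPrimePCore p G) := by
    refine le_antisymm (sup_le ?_ (Subgroup.map_subtype_le _)) fun x hx => ?_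
    · rw [Cfsg.pPrimePCore]; exact QuotientGroup.le_comap_mk' _ _
    · obtain ⟨y, hy, hyx⟩ := (hcov P).ge hx
      have h1 : x * y⁻¹ ∈ U1 := by
        rw [← QuotientGroup.eq_one_iff, QuotientGroup.mk_mul, QuotientGroup.mk_inv,
          show (QuotientGroup.mk y : G ⧸ U1) = QuotientGroup.mk x from hyx, mul_inv_cancel]
      simpa using Subgroup.mul_mem_sup h1 hy
  have hMn : (U1 ⊔ PG).Normal := by rw [hM, Cfsg.pPrimePCore]; infer_instance
  set K := Subgroup.centralizer (Cfsg.pCore p (G ⧸ U1) : Set (G ⧸ U1))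
  haveI : K.Normal := inferInstance
  let f : Subgroup.centralizer (PG : Set G) →* K :=
    (π.comp (Subgroup.centralizer (PG : Set G)).subtype).codRestrict K fun x => by
      refine Subgroup.mem_centralizer_iff.mpr fun q hq => ?_
      obtain ⟨y, hy, rfl⟩ := (hcov P).ge hq
      show π y * π x = π x * π y
      rw [← map_mul, ← map_mul, Subgroup.mem_centralizer_iff.mp x.2 y hy]
  have hf : Function.Surjective f := by
    rintro ⟨q, hq⟩
    obtain ⟨g, rfl⟩ := hπs q
    obtain ⟨n, hn, u, hu, rfl⟩ := PSeries.exists_normalizer_mul U1 PG hU hPp hMn g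
    have hπu : π (n * u) = π n := by
      rw [map_mul, show π u = 1 from (QuotientGroup.eq_one_iff u).mpr hu, mul_one]
    refine ⟨⟨n, PSeries.mem_centralizer_of_commutator_mem hU hPp hn fun x hx => ?_⟩, Subtype.ext hπu.symm⟩
    have h1 := Subgroup.mem_centralizer_iff.mp hq (π x) ((hcov P).le (Subgroup.mem_map_of_mem π hx))
    rw [← QuotientGroup.eq_one_iff, ← QuotientGroup.mk'_apply, ← hπ, map_mul, map_mul, map_mul,
      map_inv, map_inv, ← hπu, ← h1, mul_inv_cancel_right, mul_inv_cancel]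
  have hsep : Solvable.IsPiSeparable {p} K :=
    (Solvable.isPiSeparable_of_isPSolvable hsol).of_surjective f hf
  have hKcore : Cfsg.pPrimeCore p K = ⊥ := by
    have := Cores.pPrimeCore_map_subtype K p
    rw [Cores.pPrimeCore_quotient_self, bot_inf_eq, Subgroup.map_eq_bot_iff, Subgroup.ker_subtype,
      le_bot_iff] at this
    exact this
  have hKle : K ≤ Cfsg.pCore p (G ⧸ U1) := by
    intro k hk
    have h1 : (⟨k, hk⟩ : K) ∈ Cfsg.pCore p K := by
      refine Solvable.centralizer_pCore_le hsep hKcore (Subgroup.mem_centralizer_iff.mpr fun z hz => ?_)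
      have h2 : (z : G ⧸ U1) ∈ Cfsg.pCore p (G ⧸ U1) :=
        ((Cores.pCore_map_subtype K p).le (Subgroup.mem_map_of_mem _ hz)).1
      exact Subtype.ext (Subgroup.mem_centralizer_iff.mp hk _ h2)
    exact ((Cores.pCore_map_subtype K p).le (Subgroup.mem_map_of_mem _ h1)).1
  refine hKle (Subgroup.mem_centralizer_iff.mpr fun q hq => ?_)
  obtain ⟨y, hy, rfl⟩ := (hcov P').ge hq
  show π y * π c = π c * π y
  rw [← map_mul, ← map_mul, Subgroup.mem_centralizer_iff.mp hc y hy]

end Cfsg.Agent.S0629
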