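import Cfsg.Agent.Lib.Cores.Basic
import Cfsg.Agent.Lib.PLocal.Quotient

set_option autoImplicit false
open Cfsg

namespace Cfsg.Agent.S0630

/-- p-constraint passes to and from the quotient by the largest normal subgroup of order prime to p. -/
theorem result {G : Type*} [Group G] [Finite G] {p : ℕ} [Fact p.Prime] : Cfsg.IsPConstrained p G ↔ Cfsg.IsPConstrained p (G ⧸ Cfsg.pPrimeCore p G) := by
  set K := Cfsg.pPrimeCore p G
  set f := QuotientGroup.mk' K
  have hf : Function.Surjective f := QuotientGroup.mk'_surjective K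
  have hker : (Nat.card f.ker).Coprime p := by
    rw [QuotientGroup.ker_mk']; exact Cores.coprime_card_pPrimeCore p
  have hQ : Cfsg.pPrimePCore p (G ⧸ K) = Cfsg.pCore p (G ⧸ K) := by
    have hb : Cfsg.pPrimeCore p (G ⧸ K) = ⊥ := Cores.pPrimeCore_quotient_self p
    have hk : (QuotientGroup.mk' (Cfsg.pPrimeCore p (G ⧸ K))).ker = ⊥ := by
      rw [QuotientGroup.ker_mk', hb]
    rw [Cfsg.pPrimePCore, ← Cores.pCore_map_of_ker _ (QuotientGroup.mk'_surjective _)
      (by rw [hk]; exact IsPGroup.of_bot), Subgroup.comap_map_eq, hk, sup_bot_eq]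
  have hP : ∀ P : Sylow p ↥(Cfsg.pPrimePCore p G),
      ((P : Subgroup ↥(Cfsg.pPrimePCore p G)).map (Cfsg.pPrimePCore p G).subtype).map f
        = Cfsg.pCore p (G ⧸ K) := by
    set M := Cfsg.pPrimePCore p G
    intro P
    rw [Subgroup.map_map]
    set φ := f.comp M.subtype
    have hr : φ.range = Cfsg.pCore p (G ⧸ K) := by
      rw [MonoidHom.range_comp, Subgroup.range_subtype]
      exact Subgroup.map_comap_eq_self_of_surjective hf _
    refine PLocal.eq_of_le_of_card_le (hr ▸ (MonoidHom.range_eq_map φ).symm ▸ Subgroup.map_mono le_top) ?_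
    obtain ⟨n, hn⟩ := IsPGroup.iff_card.1 (Cores.isPGroup_pCore p (G ⧸ K))
    have h1 : ((P : Subgroup M) ⊔ φ.ker).index = 1 := by
      refine Nat.eq_one_of_dvd_coprimes (((Fact.out : p.Prime).coprime_iff_not_dvd.2 P.not_dvd_index).pow_left n)
        ?_ (Subgroup.index_dvd_of_le le_sup_left)
      rw [← hn, ← hr, ← Subgroup.index_ker]
      exact Subgroup.index_dvd_of_le le_sup_right
    rw [Subgroup.index_eq_one] at h1
    have h2 : (P : Subgroup M).map φ = φ.range := by
      rw [MonoidHom.range_eq_map, ← h1, Subgroup.map_sup, (Subgroup.map_eq_bot_iff _).2 le_rfl, sup_bot_eq]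
    rw [h2, hr]
  constructor
  · intro h T
    obtain ⟨P⟩ : Nonempty (Sylow p ↥(Cfsg.pPrimePCore p G)) := inferInstance
    have h2 : (T : Subgroup ↥(Cfsg.pPrimePCore p (G ⧸ K))) = ⊤ := by
      have hp : IsPGroup p ↥(Cfsg.pPrimePCore p (G ⧸ K)) := hQ ▸ Cores.isPGroup_pCore p (G ⧸ K)
      exact (T.3 (Q := ⊤) (hp.to_subgroup _) le_top).symm
    rw [h2, PLocal.top_map_subtype]
    have := Subgroup.map_mono (f := f) (h P)
    rw [← PLocal.centralizer_map_eq f hf hker (P.isPGroup'.map _), hP] at this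
    rw [hQ]
    exact this.trans (Subgroup.map_comap_eq_self_of_surjective hf _).le
  · intro h P
    obtain ⟨T⟩ : Nonempty (Sylow p ↥(Cfsg.pPrimePCore p (G ⧸ K))) := inferInstance
    have hT := h T
    have h2 : (T : Subgroup ↥(Cfsg.pPrimePCore p (G ⧸ K))) = ⊤ := by
      have hp : IsPGroup p ↥(Cfsg.pPrimePCore p (G ⧸ K)) := hQ ▸ Cores.isPGroup_pCore p (G ⧸ K)
      exact (T.3 (Q := ⊤) (hp.to_subgroup _) le_top).symm
    rw [h2, PLocal.top_map_subtype, hQ, ← hP P,
      PLocal.centralizer_map_eq f hf hker (P.isPGroup'.map _), hP P] at hT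
    exact Subgroup.map_le_iff_le_comap.1 hT

end Cfsg.Agent.S0630
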