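import Cfsg.Statements.S0632
import Cfsg.Agent.Lib.PSeries.Basic

set_option autoImplicit false
open Cfsg
open scoped commutatorElement

namespace Cfsg.Agent.S0632

/-- For a group with a nontrivial normal p-subgroup, p-stability passes to and from the quotient by the largest normal subgroup of order prime to p. -/
theorem result {G : Type*} [Group G] [Finite G] {p : ℕ} [Fact p.Prime] (hO : Cfsg.pCore p G ≠ ⊥) : Cfsg.IsPStable p G ↔ Cfsg.IsPStable p (G ⧸ Cfsg.pPrimeCore p G) := by
  classical
  set U1 := Cfsg.pPrimeCore p G with hU1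
  set π := QuotientGroup.mk' U1 with hπ
  have hπs : Function.Surjective π := QuotientGroup.mk'_surjective _
  have hU : (Nat.card U1).Coprime p := Cores.coprime_card_pPrimeCore p
  have hcore : Cfsg.pPrimeCore p (G ⧸ U1) = ⊥ := Cores.pPrimeCore_quotient_self p
  have hne : Cfsg.pCore p (G ⧸ U1) ≠ ⊥ := fun e => hO (by
    have h1 := Cores.map_pCore_le π hπs p
    rw [e, le_bot_iff, Subgroup.map_eq_bot_iff, QuotientGroup.ker_mk'] at h1
    exact le_bot_iff.mp ((Cores.disjoint_pCore_pPrimeCore (p := p) (G := G)).le_bot.trans' (le_inf le_rfl h1)))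
  have hpp : ∀ x : G ⧸ U1, x ∈ Cfsg.pPrimePCore p (G ⧸ U1) ↔ x ∈ Cfsg.pCore p (G ⧸ U1) := by
    intro x
    rw [Cfsg.pPrimePCore]
    have h1 := PSeries.comap_pCore_congr (p := p) (QuotientGroup.mk' (Cfsg.pPrimeCore p (G ⧸ U1)))
      (MonoidHom.id _) (QuotientGroup.mk'_surjective _) Function.surjective_id
      (by rw [QuotientGroup.ker_mk', MonoidHom.ker_id, hcore])
    rw [h1, Subgroup.comap_id]
  have key : ∀ A P : Subgroup G, IsPGroup p P → (U1 ⊔ P).Normal →
      A ≤ Subgroup.normalizer (P : Set G) →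
      ((A.subgroupOf (Subgroup.normalizer (P : Set G))).map
          (QuotientGroup.mk' ((Subgroup.centralizer (P : Set G)).subgroupOf
            (Subgroup.normalizer (P : Set G)))) ≤ Cfsg.pCore p _ ↔
        ((A.map π).subgroupOf (Subgroup.normalizer ((P.map π : Subgroup _) : Set (G ⧸ U1)))).map
          (QuotientGroup.mk' ((Subgroup.centralizer ((P.map π : Subgroup _) : Set (G ⧸ U1))).subgroupOf
            (Subgroup.normalizer ((P.map π : Subgroup _) : Set (G ⧸ U1))))) ≤ Cfsg.pCore p _) := by
    intro A P hP hM hA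
    haveI hPbn : (P.map π).Normal := by
      have := hM.map π hπs
      rwa [Subgroup.map_sup, QuotientGroup.map_mk'_self, bot_sup_eq] at this
    set N := Subgroup.normalizer (P : Set G)
    set C := (Subgroup.centralizer (P : Set G)).subgroupOf N
    set N' := Subgroup.normalizer ((P.map π : Subgroup _) : Set (G ⧸ U1))
    set C' := (Subgroup.centralizer ((P.map π : Subgroup _) : Set (G ⧸ U1))).subgroupOf N'
    have hN' : N' = ⊤ := Subgroup.normalizer_eq_top_iff.mpr hPbn
    let r : N →* N' := (π.comp N.subtype).codRestrict N' fun x => by rw [hN']; trivial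
    have hr : Function.Surjective r := by
      rintro ⟨q, hq⟩
      obtain ⟨g, rfl⟩ := hπs q
      obtain ⟨n, hn, u, hu, rfl⟩ := PSeries.exists_normalizer_mul U1 P hU hP hM g
      exact ⟨⟨n, hn⟩, Subtype.ext (by
        show π n = π (n * u)
        rw [map_mul, show π u = 1 from (QuotientGroup.eq_one_iff u).mpr hu, mul_one])⟩
    have hkC : ∀ n : N, r n ∈ C' ↔ n ∈ C := by
      intro n
      simp only [C, C', Subgroup.mem_subgroupOf]
      constructor
      · intro h
        refine PSeries.mem_centralizer_of_commutator_mem hU hP n.2 fun x hx => ?_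
        have h1 : π x * π n = π n * π x :=
          Subgroup.mem_centralizer_iff.mp h (π x) (Subgroup.mem_map_of_mem π hx)
        rw [← QuotientGroup.eq_one_iff, ← QuotientGroup.mk'_apply, ← hπ, map_mul, map_mul, map_mul,
          map_inv, map_inv, ← h1, mul_inv_cancel_right, mul_inv_cancel]
      · intro h
        refine Subgroup.mem_centralizer_iff.mpr ?_
        rintro _ ⟨x, hx, rfl⟩
        show π x * π n = π n * π x
        rw [← map_mul, ← map_mul, Subgroup.mem_centralizer_iff.mp h x hx]
    have h1 := PSeries.comap_pCore_congr (p := p) (QuotientGroup.mk' C) ((QuotientGroup.mk' C').comp r)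
      (QuotientGroup.mk'_surjective _) ((QuotientGroup.mk'_surjective _).comp hr) (by
        rw [← MonoidHom.comap_ker, QuotientGroup.ker_mk', QuotientGroup.ker_mk']
        exact Subgroup.ext fun n => (hkC n).symm)
    rw [Subgroup.map_le_iff_le_comap, Subgroup.map_le_iff_le_comap, h1, ← Subgroup.comap_comap]
    constructor
    · rintro h ⟨q, hq⟩ hqA
      obtain ⟨x, hx, hxq⟩ := Subgroup.mem_subgroupOf.mp hqA
      have h2 := Subgroup.mem_comap.mp (h (x := ⟨x, hA hx⟩) hx)
      rwa [show r ⟨x, hA hx⟩ = ⟨q, hq⟩ from Subtype.ext hxq] at h2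
    · intro h n hn
      exact h (x := r n) (Subgroup.mem_map_of_mem π (Subgroup.mem_subgroupOf.mp hn))
  constructor
  · rintro ⟨hodd, -, hst⟩
    refine ⟨hodd, hne, fun A' P' hA' hP' hnorm hle hn hq => ?_⟩
    rw [hcore, bot_sup_eq] at hn
    haveI := hn
    -- lift `P'` to a `p`-subgroup
    obtain ⟨P0⟩ := (inferInstance : Nonempty (Sylow p (P'.comap π)))
    set P := (P0 : Subgroup (P'.comap π)).map (P'.comap π).subtype with hPdef
    have hPp : IsPGroup p P := P0.isPGroup'.map _
    have lift : ∀ (L : Subgroup (G ⧸ U1)), IsPGroup p L → ∀ (H : Subgroup G), H.map π = L →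
        ∀ S : Sylow p H, ((S : Subgroup H).map H.subtype).map π = L := by
      intro L hL H hHL S
      refine le_antisymm ((Subgroup.map_mono (Subgroup.map_subtype_le _)).trans hHL.le) fun q hq => ?_
      let r : H →* L := (π.comp H.subtype).codRestrict L fun x => hHL ▸ Subgroup.mem_map_of_mem π x.2
      have hr : Function.Surjective r := fun ⟨y, hy⟩ => by
        obtain ⟨x, hx, rfl⟩ := hHL.ge hy
        exact ⟨⟨x, hx⟩, rfl⟩
      have htop : ((S.mapSurjective hr : Sylow p L) : Subgroup L) = ⊤ :=
        top_le_iff.mp ((Cores.pCore_eq_top_iff.mpr hL).ge.trans (Cores.pCore_le_sylow _))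
      have hmem : (⟨q, hq⟩ : L) ∈ ((S.mapSurjective hr : Sylow p L) : Subgroup L) := by
        rw [htop]; trivial
      obtain ⟨x, hx, hxq⟩ := hmem
      exact ⟨x, ⟨x, hx, rfl⟩, congrArg Subtype.val hxq⟩
    have hPmap : P.map π = P' :=
      lift P' hP' _ (Subgroup.map_comap_eq_self_of_surjective hπs P') P0
    have hM : (U1 ⊔ P).Normal := by
      have : U1 ⊔ P = P'.comap π := by
        rw [← hPmap, Subgroup.comap_map_eq, QuotientGroup.ker_mk', sup_comm]
      rw [this]; infer_instance
    set H := A'.comap π ⊓ Subgroup.normalizer (P : Set G)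
    have hH : H.map π = A' := by
      refine le_antisymm ((Subgroup.map_mono inf_le_left).trans (Subgroup.map_comap_le _ _)) fun q hq => ?_
      obtain ⟨g, rfl⟩ := hπs q
      obtain ⟨n, hn', u, hu, rfl⟩ := PSeries.exists_normalizer_mul U1 P hU hPp hM g
      have hπu : π (n * u) = π n := by
        rw [map_mul, show π u = 1 from (QuotientGroup.eq_one_iff u).mpr hu, mul_one]
      exact ⟨n, ⟨show π n ∈ A' by rw [← hπu]; exact hq, hn'⟩, hπu.symm⟩
    obtain ⟨A0⟩ := (inferInstance : Nonempty (Sylow p H))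
    set A := (A0 : Subgroup H).map H.subtype with hAdef
    have hAmap : A.map π = A' := lift A' hA' H hH A0
    have hAN : A ≤ Subgroup.normalizer (P : Set G) := (Subgroup.map_subtype_le _).trans inf_le_right
    have := (key A P hPp hM hAN).mp (hst A P (A0.isPGroup'.map _) hPp
      (fun x hx y hy => (Subgroup.mem_normalizer_iff.mp (hAN hx) y).mp hy) (fun x hx => by
        rw [Cfsg.pPrimePCore, Subgroup.mem_comap]
        exact (hpp _).mp (hle (hPmap ▸ Subgroup.mem_map_of_mem π hx))) hM ?_)
    · rw [hAmap, hPmap] at this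
      exact this
    · obtain ⟨k, hk⟩ := IsPGroup.iff_card.mp hPp
      have hd : P ⊓ U1 = ⊥ := Subgroup.inf_eq_bot_of_coprime (hk ▸ hU.symm.pow_left k)
      rw [eq_bot_iff, ← hd]
      refine le_inf ?_ ?_
      · have hPA : ∀ X : Subgroup G, X ≤ P → ⁅X, A⁆ ≤ P := fun X hX =>
          Subgroup.commutator_le.mpr fun x hx a ha => by
            rw [commutatorElement_def, mul_assoc, mul_assoc, ← mul_assoc a]
            exact P.mul_mem (hX hx) ((Subgroup.mem_normalizer_iff.mp (hAN ha) _).mp (P.inv_mem (hX hx)))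
        exact hPA _ (hPA P le_rfl)
      · rw [← QuotientGroup.ker_mk' U1, ← MonoidHom.comap_bot, ← hπ, ← Subgroup.map_le_iff_le_comap,
          Subgroup.map_commutator, Subgroup.map_commutator, hAmap, hPmap, hq]
  · rintro ⟨hodd, -, hst⟩
    refine ⟨hodd, hO, fun A P hA hP hnorm hle hM hq => ?_⟩
    have hAN : A ≤ Subgroup.normalizer (P : Set G) := by
      intro a ha
      refine Subgroup.mem_normalizer_iff.mpr fun x => ⟨hnorm a ha x, fun hx => ?_⟩
      have := hnorm a⁻¹ (A.inv_mem ha) _ hx
      simpa [mul_assoc] using this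
    refine (key A P hP hM hAN).mpr (hst (A.map π) (P.map π) (hA.map π) (hP.map π) ?_ ?_ ?_ ?_)
    · rintro _ ⟨a, ha, rfl⟩ _ ⟨x, hx, rfl⟩
      rw [← map_inv, ← map_mul, ← map_mul]
      exact Subgroup.mem_map_of_mem π (hnorm a ha x hx)
    · rintro _ ⟨x, hx, rfl⟩
      exact (hpp _).mpr (hle hx)
    · rw [hcore, bot_sup_eq]
      have := hM.map π hπs
      rwa [Subgroup.map_sup, QuotientGroup.map_mk'_self, bot_sup_eq] at this
    · rw [← Subgroup.map_commutator, ← Subgroup.map_commutator, hq, Subgroup.map_bot]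

end Cfsg.Agent.S0632
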