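import Cfsg.Statements.S0633
import Cfsg.Agent.EqLemmas
import Cfsg.Agent.Lib.HallHigman.TheoremB

set_option autoImplicit false
open Cfsg

namespace Cfsg.Agent.S0633

/-- Theorem B of Hall and Higman on the minimal polynomial of a p-element of order p^n in a p-solvable linear group on a nonzero vector space in characteristic p with no nontrivial normal p-subgroup: its degree is p^n, except when some p^n₀ - 1 (n₀ ≤ n) is a power of a prime q for which the Sylow q-subgroups are non-abelian, in which case the degree is at least p^(n-n₀)(p^n₀ - 1). -/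
theorem result {F : Type*} [Field F] {p : ℕ} [Fact p.Prime] [CharP F p] {V : Type*} [AddCommGroup V] [Module F V] [FiniteDimensional F V] [Nontrivial V] (H : Subgroup (V ≃ₗ[F] V)) [Finite H] (hsol : Cfsg.IsPSolvable p H) (hOp : Cfsg.pCore p H = ⊥) (x : V ≃ₗ[F] V) (hx : x ∈ H) (n : ℕ) (hn : orderOf x = p ^ n) (r : ℕ) (hr : minpoly F (x : Module.End F V) = (Polynomial.X - 1) ^ r) : r = p ^ n ∨ ∃ n₀ q m : ℕ, 1 ≤ n₀ ∧ n₀ ≤ n ∧ q.Prime ∧ 1 ≤ m ∧ p ^ n₀ - 1 = q ^ m ∧ (∀ Q : Sylow q H, ¬ IsMulCommutative Q) ∧ p ^ (n - n₀) * (p ^ n₀ - 1) ≤ r := by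
  classical
  have hp : p.Prime := Fact.out
  let ρ : H →* Module.End F V :=
    LinearEquiv.automorphismGroup.toLinearMapMonoidHom.comp H.subtype
  have hρ : Function.Injective ρ :=
    LinearEquiv.toLinearMap_injective.comp Subtype.val_injective
  have hdeg : ∀ k : ℕ, (((Polynomial.X : Polynomial F) - 1) ^ k).natDegree = k := fun k => by
    rw [Polynomial.natDegree_pow, ← Polynomial.C_1, Polynomial.natDegree_X_sub_C, mul_one]
  have hr0 : (ρ ⟨x, hx⟩ - 1) ^ r = 0 := by
    have h := minpoly.aeval F (x : Module.End F V)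
    rw [hr] at h
    simpa [ρ] using h
  have hle : r ≤ p ^ n := by
    have h1 : minpoly F (x : Module.End F V) ∣ ((Polynomial.X : Polynomial F) - 1) ^ p ^ n := by
      refine minpoly.dvd F _ ?_
      have h2 : ρ ⟨x, hx⟩ ^ p ^ n = 1 := by
        rw [← map_pow]
        have h3 : (⟨x, hx⟩ : H) ^ p ^ n = 1 :=
          Subtype.ext (by rw [SubgroupClass.coe_pow, ← hn, pow_orderOf_eq_one]; rfl)
        rw [h3, map_one]
      have h4 := HallHigman.sub_one_pow_prime_pow (F := F) (p := p) (ρ ⟨x, hx⟩) n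
      rw [h2, sub_self] at h4
      simpa [ρ] using h4
    rw [hr] at h1
    have h2 := Polynomial.natDegree_le_of_dvd h1
      (pow_ne_zero _ (by simpa using Polynomial.X_sub_C_ne_zero (1 : F)))
    rwa [hdeg, hdeg] at h2
  rcases n with _ | n
  · refine Or.inl (le_antisymm hle (Nat.one_le_iff_ne_zero.mpr fun h0 => ?_))
    rw [h0, pow_zero] at hr0
    exact one_ne_zero hr0
  rcases HallHigman.theorem_b ρ hρ (Solvable.isPiSeparable_of_isPSolvable hsol) hOp ⟨x, hx⟩
      (n := n) ((Subgroup.orderOf_coe (⟨x, hx⟩ : H)).symm.trans hn) hr0 with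
    h | ⟨n₀, q, m, h1, h2, hq, -, h3, h4, h5, h6⟩
  · exact Or.inl (le_antisymm hle h)
  · exact Or.inr ⟨n₀, q, m, h1, h2, hq, h3, h4, h6, h5⟩

end Cfsg.Agent.S0633
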