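import Cfsg.Statements.S0634
import Cfsg.Agent.Lib.PSeries.Basic

set_option autoImplicit false
open Cfsg

namespace Cfsg.Agent.S0634

/-- In a p-soluble group each p-factor of the upper p-series contains its own centralizer in the corresponding quotient. -/
theorem result {G : Type*} [Group G] [Finite G] {p : ℕ} [Fact p.Prime] (hsol : Cfsg.IsPSolvable p G) (k : ℕ) : Subgroup.centralizer ((((Cfsg.upperPSeries p G (2 * k + 2)).1.map (QuotientGroup.mk' (Cfsg.upperPSeries p G (2 * k + 1)).1)) : Subgroup (G ⧸ (Cfsg.upperPSeries p G (2 * k + 1)).1)) : Set (G ⧸ (Cfsg.upperPSeries p G (2 * k + 1)).1)) ≤ (Cfsg.upperPSeries p G (2 * k + 2)).1.map (QuotientGroup.mk' (Cfsg.upperPSeries p G (2 * k + 1)).1) := by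
  haveI := (Cfsg.upperPSeries p G (2 * k + 1)).2
  set a := QuotientGroup.mk' (Cfsg.upperPSeries p G (2 * k + 1)).1
  have ha : Function.Surjective a := QuotientGroup.mk'_surjective _
  have hk : a.ker = (Cfsg.upperPSeries p G (2 * k + 1)).1 := QuotientGroup.ker_mk' _
  have h1 : (Cfsg.upperPSeries p G (2 * k + 2)).1.map a = Cfsg.pCore p _ := by
    rw [show 2 * k + 2 = 2 * k + 1 + 1 from rfl, PSeries.upperPSeries_succ_odd (by simp) a ha hk,
      Subgroup.map_comap_eq_self_of_surjective ha]
  rw [h1]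
  exact PSeries.centralizer_pCore_quotient_odd (Solvable.isPiSeparable_of_isPSolvable hsol) k a ha hk

end Cfsg.Agent.S0634
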