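import Cfsg.Statements.S0635
import Cfsg.Agent.Lib.PSeries.Basic

set_option autoImplicit false
open Cfsg

namespace Cfsg.Agent.S0635

universe u

theorem length_le_class {p : ℕ} [Fact p.Prime] : ∀ (c : ℕ) (G : Type u) [Group G] [Finite G],
    Solvable.IsPiSeparable {p} G → ∀ S : Sylow p G,
    Group.nilpotencyClass (S : Subgroup G) ≤ c → (Cfsg.upperPSeries p G (2 * c + 1)).1 = ⊤ := by
  intro c
  induction c with
  | zero =>
    intro G _ _ _ S hS
    haveI : Group.IsNilpotent (S : Subgroup G) := S.isPGroup'.isNilpotent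
    haveI : Subsingleton (S : Subgroup G) :=
      Group.nilpotencyClass_zero_iff_subsingleton.mp (Nat.le_zero.mp hS)
    have hcop : (Nat.card G).Coprime p := by
      refine Nat.coprime_comm.mp (((Fact.out : p.Prime).coprime_iff_not_dvd).mpr fun hd => ?_)
      exact S.ne_bot_of_dvd_card hd (Subgroup.eq_bot_of_subsingleton _)
    rw [show 2 * 0 + 1 = 1 from rfl, PSeries.upperPSeries_one]
    exact top_le_iff.mp (Cores.le_pPrimeCore inferInstance (by rwa [Subgroup.card_top]))
  | succ c ih =>
    intro G _ _ hsep S hS
    haveI : Group.IsNilpotent (S : Subgroup G) := S.isPGroup'.isNilpotent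
    set a := QuotientGroup.mk' (Cfsg.upperPSeries p G 1).1
    have ha : Function.Surjective a := QuotientGroup.mk'_surjective _
    have hak : a.ker = (Cfsg.upperPSeries p G (2 * 0 + 1)).1 := QuotientGroup.ker_mk' _
    set b := QuotientGroup.mk' (Cfsg.upperPSeries p G 2).1
    have hb : Function.Surjective b := QuotientGroup.mk'_surjective _
    have hbk : b.ker = (Cfsg.upperPSeries p G (2 * 1)).1 := QuotientGroup.ker_mk' _
    have hz : ∀ z : (S : Subgroup G), z ∈ Subgroup.center (S : Subgroup G) → b z = 1 := by
      intro z hz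
      have h1 : a z ∈ Cfsg.pCore p _ := by
        refine PSeries.centralizer_pCore_quotient_odd hsep 0 a ha hak ?_
        refine Subgroup.mem_centralizer_iff.mpr fun q hq => ?_
        obtain ⟨s, hs, hsq⟩ := Cores.pCore_le_sylow (S.mapSurjective ha) hq
        rw [← hsq, ← map_mul, ← map_mul]
        exact congrArg a (congrArg Subtype.val (Subgroup.mem_center_iff.mp hz ⟨s, hs⟩))
      have h2 : (z : G) ∈ (Cfsg.upperPSeries p G (2 * 1)).1 := by
        rw [show (2 * 1 : ℕ) = 2 * 0 + 1 + 1 from rfl, PSeries.upperPSeries_succ_odd (by simp) a ha hak]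
        exact h1
      rwa [← hbk, MonoidHom.mem_ker] at h2
    let S' := S.mapSurjective hb
    have hS' : Group.nilpotencyClass (S' : Subgroup (G ⧸ (Cfsg.upperPSeries p G 2).1)) ≤ c := by
      let f := QuotientGroup.lift (Subgroup.center (S : Subgroup G))
        (b.subgroupMap (S : Subgroup G)) (fun z hz' => Subtype.ext (hz z hz'))
      have hf : Function.Surjective f := fun y => by
        obtain ⟨x, hx⟩ := b.subgroupMap_surjective (S : Subgroup G) y
        exact ⟨QuotientGroup.mk x, hx⟩
      refine (Group.nilpotencyClass_le_of_surjective f hf).trans ?_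
      rw [Group.nilpotencyClass_quotient_center]
      omega
    have h := ih (G ⧸ (Cfsg.upperPSeries p G 2).1) (hsep.of_surjective b hb) S' hS'
    rw [show 2 * (c + 1) + 1 = 2 * 1 + (2 * c + 1) by ring, ← PSeries.comap_upperPSeries 1 b hb hbk,
      h, Subgroup.comap_top]

/-- The p-length of a p-soluble group is at most the nilpotency class of its Sylow p-subgroups. -/
theorem result {G : Type*} [Group G] [Finite G] {p : ℕ} [Fact p.Prime] (hsol : Cfsg.IsPSolvable p G) (S : Sylow p G) : Cfsg.PLengthLE p (Group.nilpotencyClass ↥(S : Subgroup G)) G := by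
  exact length_le_class (Group.nilpotencyClass ↥(S : Subgroup G)) G
    (Solvable.isPiSeparable_of_isPSolvable hsol) S le_rfl

end Cfsg.Agent.S0635
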