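import Cfsg.Agent.Lib.PLocal.Basic

set_option autoImplicit false
open Cfsg

namespace Cfsg.Agent.S0641

/-- Regularity of a p-group passes to quotient groups. -/
theorem result {G : Type*} [Group G] {p : ℕ} [Fact p.Prime] (hG : Cfsg.IsRegularPGroup p G) (N : Subgroup G) [N.Normal] : Cfsg.IsRegularPGroup p (G ⧸ N) := by
  refine ⟨hG.1.to_quotient N, fun a b n => ?_⟩
  obtain ⟨a, rfl⟩ := QuotientGroup.mk_surjective a
  obtain ⟨b, rfl⟩ := QuotientGroup.mk_surjective b
  obtain ⟨c, hc, he⟩ := hG.2 a b n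
  refine ⟨(c : G ⧸ N), ?_, ?_⟩
  · have hmap : ∀ H : Subgroup G, (Cfsg.powerClosure p n H).map (QuotientGroup.mk' N)
        ≤ Cfsg.powerClosure p n (H.map (QuotientGroup.mk' N)) := fun H => by
      rw [Cfsg.powerClosure, MonoidHom.map_closure]
      exact Subgroup.closure_mono (by rintro _ ⟨_, ⟨x, hx, rfl⟩, rfl⟩; exact ⟨_, ⟨x, hx, rfl⟩, map_pow _ _ _⟩)
    have := hmap _ ⟨c, hc, rfl⟩
    rw [Subgroup.map_commutator, MonoidHom.map_closure, Set.image_pair] at this
    exact this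
  · simp only [← QuotientGroup.mk_mul, ← QuotientGroup.mk_pow, he]

end Cfsg.Agent.S0641
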