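import Cfsg.Agent.Lib.PLocal.Thompson

set_option autoImplicit false
open Cfsg
open scoped commutatorElement

namespace Cfsg.Agent.S0642

/-- Among finite 2-groups the regular ones are exactly the abelian ones. -/
theorem result {G : Type*} [Group G] [Finite G] (hG : IsPGroup 2 G) : Cfsg.IsRegularPGroup 2 G ↔ ∀ a b : G, a * b = b * a := by
  constructor
  · intro h a b
    set H := Subgroup.closure ({a, b} : Set G)
    have ha : a ∈ H := Subgroup.subset_closure (Set.mem_insert _ _)
    have hb : b ∈ H := Subgroup.subset_closure (Set.mem_insert_of_mem _ rfl)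
    obtain ⟨c, hc, he⟩ := h.2 a b 1
    set D : Subgroup G := ⁅H, H⁆
    set U := Cfsg.powerClosure 2 1 D
    have hUD : U ≤ D := (Subgroup.closure_le D).2 (by rintro _ ⟨x, hx, rfl⟩; exact D.pow_mem hx _)
    have hDH : D ≤ H := Subgroup.commutator_le_self H
    have hUH : H ≤ Subgroup.normalizer (U : Set G) := by
      refine Subgroup.le_normalizer_closure_iff.2 ?_
      rintro g hg _ ⟨x, hx, rfl⟩
      refine Subgroup.subset_closure ⟨g * x * g⁻¹, ?_, (conj_pow).symm⟩
      exact (Subgroup.mem_normalizer_iff.1 (Subgroup.normalizer_commutator_ge_left H H hg) x).1 hx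
    haveI : (U.subgroupOf H).Normal := (Subgroup.normal_subgroupOf_iff_le_normalizer (hUD.trans hDH)).2 hUH
    have hab : ⁅b⁻¹, a⁻¹⁆ ∈ U := by
      have e : ⁅b⁻¹, a⁻¹⁆ = b * c * b⁻¹ := by
        rw [pow_one, pow_two, pow_two, pow_two] at he
        have : c = (a * a * (b * b))⁻¹ * (a * b * (a * b)) := by rw [he]; group
        rw [this, commutatorElement_def]; group
      rw [e]; exact (Subgroup.mem_normalizer_iff.1 (hUH hb) c).1 hc
    have hDU : D ≤ U := by
      set q := QuotientGroup.mk' (U.subgroupOf H)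
      have hgen : Subgroup.closure ({⟨a, ha⟩, ⟨b, hb⟩} : Set H) = ⊤ := by
        apply Subgroup.map_injective H.subtype_injective
        rw [MonoidHom.map_closure, Set.image_pair, PLocal.top_map_subtype]
        rfl
      have hcomm : q ⟨b, hb⟩ * q ⟨a, ha⟩ = q ⟨a, ha⟩ * q ⟨b, hb⟩ := by
        have h1 : q ⁅(⟨b, hb⟩ : H)⁻¹, (⟨a, ha⟩ : H)⁻¹⁆ = 1 :=
          (QuotientGroup.eq_one_iff _).2 (Subgroup.mem_subgroupOf.2 hab)
        rw [map_commutatorElement, commutatorElement_eq_one_iff_commute, map_inv, map_inv] at h1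
        exact h1.inv_inv.eq |> fun e => by simpa using e
      have hcl : IsMulCommutative ↥(Subgroup.closure ({q ⟨a, ha⟩, q ⟨b, hb⟩} : Set (H ⧸ U.subgroupOf H))) := by
        refine Subgroup.isMulCommutative_closure ?_
        rintro x (rfl | rfl) y (rfl | rfl)
        · rfl
        · exact hcomm.symm
        · exact hcomm
        · rfl
      rw [← Set.image_pair, ← MonoidHom.map_closure, hgen] at hcl
      refine Subgroup.commutator_le.2 fun x hx y hy => ?_
      have h2 : q ⁅(⟨x, hx⟩ : H), (⟨y, hy⟩ : H)⁆ = 1 := by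
        rw [map_commutatorElement, commutatorElement_eq_one_iff_commute]
        exact PLocal.commute_of_le_centralizer (Subgroup.le_centralizer_iff_isMulCommutative.2 hcl)
          ⟨_, Subgroup.mem_top _, rfl⟩ ⟨_, Subgroup.mem_top _, rfl⟩
      exact Subgroup.mem_subgroupOf.1 ((QuotientGroup.eq_one_iff _).1 h2)
    have hD : D = ⊥ := by
      by_contra hne
      haveI : Nontrivial D := D.nontrivial_iff_ne_bot.2 hne
      obtain ⟨k, hk0, hk⟩ := (IsPGroup.nontrivial_iff_card (hp := ⟨Nat.prime_two⟩) (hG.to_subgroup D)).1 inferInstance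
      obtain ⟨k, rfl⟩ : ∃ j, k = j + 1 := ⟨k - 1, by omega⟩
      haveI := Fact.mk Nat.prime_two
      obtain ⟨M, hM⟩ := Sylow.exists_subgroup_card_pow_prime (G := D) 2 (n := k) (hk ▸ pow_dvd_pow 2 k.le_succ)
      have hidx : M.index = 2 := by
        have := Subgroup.card_mul_index M
        rw [hM, hk, pow_succ] at this
        exact Nat.eq_of_mul_eq_mul_left (by positivity) this
      have : U ≤ M.map D.subtype := (Subgroup.closure_le _).2 (by
        rintro _ ⟨x, hx, rfl⟩
        exact ⟨⟨x, hx⟩ ^ 2, Subgroup.sq_mem_of_index_two hidx _, by simp⟩)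
      have h2 := PLocal.card_le_of_le (hDU.trans this)
      rw [Subgroup.card_map_of_injective D.subtype_injective, hk, hM] at h2
      exact absurd h2 (not_le.2 (Nat.pow_lt_pow_right one_lt_two k.lt_succ_self))
    exact (PLocal.commute_of_le_centralizer (Subgroup.commutator_eq_bot_iff_le_centralizer.1 hD) ha hb).eq
  · intro h
    exact ⟨hG, fun a b n => ⟨1, Subgroup.one_mem _, by rw [mul_one]; exact (show Commute a b from h a b).mul_pow _⟩⟩

end Cfsg.Agent.S0642
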