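import Cfsg.Statements.S0645
import Cfsg.Agent.Lib.PGroup.UniqueOrderP

set_option autoImplicit false
open Cfsg
open scoped commutatorElement

namespace Cfsg.Agent.S0645

/-- Classification of p-groups with a cyclic maximal subgroup, odd p: a non-abelian one of order p^n has generators a of order p^(n-1) and b of order p, b outside the cyclic subgroup generated by a, with b a b⁻¹ = a^(1 + p^(n-2)). -/
theorem result {G : Type*} [Group G] [Finite G] {p : ℕ} [Fact p.Prime] (hp : p ≠ 2) (n : ℕ) (hn : 3 ≤ n) (hG : Nat.card G = p ^ n) (C : Subgroup G) (hC : IsCyclic C) (hCi : C.index = p) (hna : ∃ x y : G, x * y ≠ y * x) : ∃ a b : G, orderOf a = p ^ (n - 1) ∧ orderOf b = p ∧ b ∉ Subgroup.zpowers a ∧ b * a * b⁻¹ = a ^ (1 + p ^ (n - 2)) := by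
  have hP : IsPGroup p G := IsPGroup.of_card hG
  have hpp : p.Prime := Fact.out
  obtain ⟨a, rfl⟩ := (C.isCyclic_iff_exists_zpowers_eq_top).mp hC
  have ha : orderOf a = p ^ (n - 1) := by
    have h := Subgroup.card_mul_index (Subgroup.zpowers a)
    rw [Nat.card_zpowers, hCi, hG] at h
    obtain ⟨m, rfl⟩ : ∃ m, n = m + 1 := ⟨n - 1, by omega⟩
    rw [pow_succ] at h
    exact Nat.eq_of_mul_eq_mul_right hpp.pos h
  have hne : Subgroup.zpowers a ≠ ⊤ := fun h => hpp.ne_one (by rw [← hCi, h, Subgroup.index_top])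
  obtain ⟨b, -, hb⟩ := SetLike.exists_of_lt (lt_top_iff_ne_top.mpr hne)
  have hCn : (Subgroup.zpowers a).Normal := by
    refine PGroup.isCoatom_normal hP ⟨hne, fun K hK => PGroup.eq_of_le_of_card_le le_top ?_⟩
    rw [Subgroup.card_top, ← Subgroup.card_mul_index (Subgroup.zpowers a), hCi, mul_comm]
    exact PGroup.mul_card_le_of_lt hP hK
  have hbp : b ^ p ∈ Subgroup.zpowers a := hCi ▸ (Subgroup.zpowers a).pow_index_mem b
  have hnab : ¬ a ∈ Subgroup.zpowers b := fun h => by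
    have hsup : Subgroup.zpowers a ⊔ Subgroup.zpowers b = ⊤ := by
      refine PGroup.eq_sup_zpowers_of_card hP le_top ?_ (Subgroup.mem_top b) hb
      rw [Subgroup.card_top, ← Subgroup.card_mul_index (Subgroup.zpowers a), hCi, mul_comm]
    rw [sup_eq_right.mpr (Subgroup.zpowers_le.mpr h)] at hsup
    obtain ⟨x, y, hxy⟩ := hna
    obtain ⟨i, rfl⟩ := Subgroup.mem_zpowers_iff.mp (hsup ▸ Subgroup.mem_top x : x ∈ Subgroup.zpowers b)
    obtain ⟨j, rfl⟩ := Subgroup.mem_zpowers_iff.mp (hsup ▸ Subgroup.mem_top y : y ∈ Subgroup.zpowers b)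
    exact hxy (Commute.zpow_zpow_self b i j).eq
  obtain ⟨i, hi⟩ := (PGroup.odd_local_order_p hpp hp ha (hCn.conj_mem a (Subgroup.mem_zpowers a) b)
    hbp).resolve_left hnab
  set b₀ := b * a ^ i with hb₀
  have hb₀A : b₀ ∉ Subgroup.zpowers a := fun h =>
    hb (by simpa [hb₀] using mul_mem h (inv_mem (zpow_mem (Subgroup.mem_zpowers a) i)))
  obtain ⟨hc1, hca, hcb, hcA⟩ := PGroup.odd_local hpp hp ha
    (hCn.conj_mem a (Subgroup.mem_zpowers a) b₀) (hi ▸ Commute.one_left a)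
  have hz : orderOf (a ^ p ^ (n - 2)) = p := by
    obtain ⟨m, rfl⟩ : ∃ m, n = m + 2 := ⟨n - 2, by omega⟩
    simp only [Nat.add_sub_cancel] at ha ⊢
    rw [show m + 2 - 1 = m + 1 from rfl] at ha
    rw [orderOf_pow' _ (pow_ne_zero _ hpp.ne_zero), ha,
      Nat.gcd_eq_right (pow_dvd_pow p (Nat.le_succ m)), pow_succ,
      Nat.mul_div_cancel_left _ (pow_pos hpp.pos m)]
  have hcne : ⁅b₀, a⁆ ≠ 1 := by
    intro h
    have hsup : Subgroup.zpowers a ⊔ Subgroup.zpowers b₀ = ⊤ := by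
      refine PGroup.eq_sup_zpowers_of_card hP le_top ?_ (Subgroup.mem_top b₀) hb₀A
      rw [Subgroup.card_top, ← Subgroup.card_mul_index (Subgroup.zpowers a), hCi, mul_comm]
    obtain ⟨x, y, hxy⟩ := hna
    have h1 := PGroup.commutator_mem_of_generators (N := (⊥ : Subgroup G))
      (PGroup.sup_zpowers_eq_closure a b₀ ▸ hsup) (Subgroup.mem_bot.mpr h) x y
    exact hxy (commutatorElement_eq_one_iff_mul_comm.mp (Subgroup.mem_bot.mp h1))
  have hmem := PGroup.mem_zpowers_of_isCyclic (p := p) (C := Subgroup.zpowers a) inferInstance hcA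
    (pow_mem (Subgroup.mem_zpowers a) _) (orderOf_eq_prime hc1 hcne) (orderOf_dvd_iff_pow_eq_one.mp hz.dvd)
  obtain ⟨j, hj⟩ := mem_powers_iff_mem_zpowers.mpr hmem
  have hj' : ⁅b₀ ^ j, a⁆ = a ^ p ^ (n - 2) := (PGroup.commutator_pow_left hcb j).trans hj
  have hz1 : a ^ p ^ (n - 2) ≠ 1 := fun h => hpp.ne_one (by rw [← hz, h, orderOf_one])
  refine ⟨a, b₀ ^ j, ha, orderOf_eq_prime ?_ ?_, ?_, ?_⟩
  · rw [← pow_mul, mul_comm, pow_mul, hi, one_pow]
  · intro h; rw [h, commutatorElement_one_left] at hj'; exact hz1 hj'.symm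
  · intro h
    obtain ⟨k, hk⟩ := Subgroup.mem_zpowers_iff.mp h
    rw [← hk, commutatorElement_eq_one_iff_commute.mpr ((Commute.refl a).zpow_left k)] at hj'
    exact hz1 hj'.symm
  · rw [add_comm, pow_add, pow_one, ← hj', commutatorElement_def, inv_mul_cancel_right]

end Cfsg.Agent.S0645
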