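import Cfsg.Statements.S0646
import Cfsg.Agent.Lib.PGroup.UniqueOrderP

set_option autoImplicit false
open Cfsg
open scoped commutatorElement

namespace Cfsg.Agent.S0646

/-- Classification of non-abelian 2-groups with a cyclic maximal subgroup: dihedral, generalized quaternion, and for order at least 16 the modular group and the semidihedral group, each given by generators a (of index 2) and b with the stated relations. -/
theorem result {G : Type*} [Group G] [Finite G] (n : ℕ) (hn : 3 ≤ n) (hG : Nat.card G = 2 ^ n) (C : Subgroup G) (hC : IsCyclic C) (hCi : C.index = 2) (hna : ∃ x y : G, x * y ≠ y * x) : ∃ a b : G, orderOf a = 2 ^ (n - 1) ∧ b ∉ Subgroup.zpowers a ∧ ((b ^ 2 = 1 ∧ b * a * b⁻¹ = a⁻¹) ∨ (b ^ 2 = a ^ (2 ^ (n - 2)) ∧ b * a * b⁻¹ = a⁻¹) ∨ (4 ≤ n ∧ b ^ 2 = 1 ∧ b * a * b⁻¹ = a ^ (1 + 2 ^ (n - 2))) ∨ (4 ≤ n ∧ b ^ 2 = 1 ∧ b * a * b⁻¹ = a ^ (2 ^ (n - 2) - 1))) := by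
  have hP : IsPGroup 2 G := IsPGroup.of_card hG
  obtain ⟨a, rfl⟩ := (C.isCyclic_iff_exists_zpowers_eq_top).mp hC
  have ha : orderOf a = 2 ^ (n - 1) := by
    have h := Subgroup.card_mul_index (Subgroup.zpowers a)
    rw [Nat.card_zpowers, hCi, hG] at h
    obtain ⟨m, rfl⟩ : ∃ m, n = m + 1 := ⟨n - 1, by omega⟩
    rw [pow_succ] at h
    simpa using Nat.eq_of_mul_eq_mul_right two_pos h
  have hne : Subgroup.zpowers a ≠ ⊤ := fun h => by
    rw [h, Subgroup.index_top] at hCi; norm_num at hCi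
  obtain ⟨b, -, hb⟩ := SetLike.exists_of_lt (lt_top_iff_ne_top.mpr hne)
  haveI := Subgroup.normal_of_index_eq_two hCi
  have hnc : ¬ Commute b a := by
    intro h
    have hsup : Subgroup.zpowers a ⊔ Subgroup.zpowers b = ⊤ := by
      refine PGroup.eq_sup_zpowers_of_card hP le_top ?_ (Subgroup.mem_top b) hb
      rw [Subgroup.card_top, ← Subgroup.card_mul_index (Subgroup.zpowers a), hCi, mul_comm]
    obtain ⟨x, y, hxy⟩ := hna
    have h1 := PGroup.commutator_mem_of_generators (N := (⊥ : Subgroup G))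
      (PGroup.sup_zpowers_eq_closure a b ▸ hsup)
      (Subgroup.mem_bot.mpr (commutatorElement_eq_one_iff_commute.mpr h)) x y
    exact hxy (commutatorElement_eq_one_iff_mul_comm.mp (Subgroup.mem_bot.mp h1))
  obtain ⟨hm, i, h⟩ := PGroup.two_local ha
    (Subgroup.Normal.conj_mem inferInstance a (Subgroup.mem_zpowers a) b)
    (hCi ▸ (Subgroup.zpowers a).pow_index_mem b) hnc
  refine ⟨a, b * a ^ i, ha, fun h' => hb ?_, ?_⟩
  · simpa using mul_mem h' (inv_mem (zpow_mem (Subgroup.mem_zpowers a) i))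
  have e : n - 1 - 1 = n - 2 := by omega
  rw [e] at h
  rcases h with h | h | ⟨h0, h⟩ | ⟨h0, h⟩
  · exact Or.inl h
  · exact Or.inr (Or.inl h)
  · exact Or.inr (Or.inr (Or.inl ⟨by omega, h⟩))
  · exact Or.inr (Or.inr (Or.inr ⟨by omega, h⟩))

end Cfsg.Agent.S0646
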