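import Cfsg.Agent.Lib.PLocal.Omega

set_option autoImplicit false
open Cfsg

namespace Cfsg.Agent.S0647

/-- For a nonempty family of maximal abelian subgroups of a finite group, the intersection of the family is the centre of the subgroup it generates, which is also the full centralizer of that subgroup. -/
theorem result {S : Type*} [Group S] [Finite S] (𝒜 : Set (Subgroup S)) (hne : 𝒜.Nonempty) (hab : ∀ A ∈ 𝒜, IsMulCommutative A) (hmax : ∀ A ∈ 𝒜, ∀ B : Subgroup S, IsMulCommutative B → A ≤ B → B = A) : sInf 𝒜 = sSup 𝒜 ⊓ Subgroup.centralizer ((sSup 𝒜 : Subgroup S) : Set S) ∧ sInf 𝒜 = Subgroup.centralizer ((sSup 𝒜 : Subgroup S) : Set S) := by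
  have h2 : sInf 𝒜 = Subgroup.centralizer ((sSup 𝒜 : Subgroup S) : Set S) := by
    refine le_antisymm ?_ fun x hx => Subgroup.mem_sInf.2 fun A hA => ?_
    · rw [sSup_eq_iSup', PLocal.centralizer_iSup]
      exact le_iInf fun A => (sInf_le A.2).trans (Subgroup.le_centralizer_iff_isMulCommutative.2 (hab A A.2))
    · have hxA : x ∈ Subgroup.centralizer (A : Set S) :=
        Subgroup.centralizer_le (SetLike.coe_subset_coe.2 (le_sSup hA)) hx
      have hAA := Subgroup.le_centralizer_iff_isMulCommutative.2 (hab A hA)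
      have hcomm : IsMulCommutative ↥(A ⊔ Subgroup.zpowers x) := by
        refine Subgroup.le_centralizer_iff_isMulCommutative.1 ?_
        rw [PLocal.centralizer_sup]
        exact sup_le (le_inf hAA (PLocal.le_centralizer_comm (Subgroup.zpowers_le.2 hxA)))
          (le_inf (Subgroup.zpowers_le.2 hxA) (Subgroup.le_centralizer_iff_isMulCommutative.2 inferInstance))
      rw [← hmax A hA _ hcomm le_sup_left]
      exact Subgroup.mem_sup_right (Subgroup.mem_zpowers x)
  refine ⟨?_, h2⟩
  rw [← h2]
  obtain ⟨A, hA⟩ := hne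
  exact (inf_eq_right.2 ((sInf_le hA).trans (le_sSup hA))).symm

end Cfsg.Agent.S0647
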