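import Cfsg.Agent.Lib.PLocal.Basic

set_option autoImplicit false
open Cfsg

namespace Cfsg.Agent.S0649

/-- In the Glauberman replacement situation, if B does not normalize A then some element of B normalizes N_S(A) without normalizing A. -/
theorem result {S : Type*} [Group S] [Finite S] {p : ℕ} [Fact p.Prime] (hS : IsPGroup p S) (B : Subgroup S) [B.Normal] (hB2 : p = 2 → IsMulCommutative B) (A : Subgroup S) (hA : IsMulCommutative A) (hBA : ⁅B, B⁆ ≤ A) (hnot : ¬ B ≤ Subgroup.normalizer (A : Set S)) : ∃ b ∈ B, b ∈ Subgroup.normalizer ((Subgroup.normalizer (A : Set S)) : Set S) ∧ b ∉ Subgroup.normalizer (A : Set S) := by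
  have hnot' : Subgroup.normalizer (A : Set S) < Subgroup.normalizer (A : Set S) ⊔ B :=
    lt_of_le_of_ne le_sup_left fun e => hnot (e ▸ le_sup_right)
  haveI : Group.IsNilpotent ↥(Subgroup.normalizer (A : Set S) ⊔ B) := (hS.to_subgroup _).isNilpotent
  set N := Subgroup.normalizer (A : Set S)
  have hne : N.subgroupOf (N ⊔ B) < ⊤ := lt_top_iff_ne_top.2 fun e => hnot'.not_ge (Subgroup.subgroupOf_eq_top.1 e)
  have hlt := normalizerCondition_of_isNilpotent _ hne
  obtain ⟨⟨y, hy⟩, hy1, hy2⟩ := SetLike.exists_of_lt hlt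
  rw [← Subgroup.subgroupOf_normalizer_eq le_sup_left] at hy1
  rw [Subgroup.mem_subgroupOf] at hy1 hy2
  obtain ⟨n, hn, b, hb, rfl⟩ := Subgroup.mem_sup_of_normal_right.1 hy
  refine ⟨b, hb, ?_, fun h => hy2 (N.mul_mem hn h)⟩
  have : n ∈ Subgroup.normalizer (N : Set S) := Subgroup.le_normalizer hn
  simpa using (Subgroup.normalizer (N : Set S)).mul_mem (Subgroup.inv_mem _ this) hy1

end Cfsg.Agent.S0649
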