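import Cfsg.Agent.Lib.PLocal.ZJ

set_option autoImplicit false
open Cfsg

namespace Cfsg.Agent.S0654

/-- The ZJ-Theorem for the elementary-abelian Thompson subgroup: for an odd prime p, a finite group G with C_G(O_p(G)) ≤ O_p(G) acting p-stably on its normal p-subgroups, and a Sylow p-subgroup S of G, the subgroup generated by the elements of order dividing p in Z(J_e(S)) is characteristic in G. -/
theorem result {G : Type*} [Group G] [Finite G] {p : ℕ} [Fact p.Prime] (hp : p ≠ 2) (hc : Subgroup.centralizer (Cfsg.pCore p G : Set G) ≤ Cfsg.pCore p G) (hst : ∀ (P : Subgroup G) [P.Normal], IsPGroup p P → Cfsg.IsPStableOn p P) (S : Sylow p G) : ((Cfsg.omegaCenterThompson p ↥(S : Subgroup G)).map (S : Subgroup G).subtype).Characteristic := by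
  have key : ∀ H : Subgroup G,
      (Cfsg.omegaCenterThompson p ↥H).map H.subtype = Cfsg.omegaOne p
        (Cfsg.thompsonSubgroupOf p H ⊓ Subgroup.centralizer (Cfsg.thompsonSubgroupOf p H : Set G)) := fun H => by
    have h1 := PLocal.map_omegaOne (p := p) H.subtype
      (H := Cfsg.thompsonSubgroup p ↥H ⊓ Subgroup.centralizer (Cfsg.thompsonSubgroup p ↥H : Set ↥H))
      (Set.injOn_of_injective H.subtype_injective)
    have h2 := PLocal.map_centralizer_inf H.subtype (H := Cfsg.thompsonSubgroup p ↥H)
      (K := Cfsg.thompsonSubgroup p ↥H) (Set.injOn_of_injective H.subtype_injective) le_rfl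
    unfold Cfsg.omegaCenterThompson Cfsg.thompsonSubgroupOf
    exact h1.trans (congrArg (Cfsg.omegaOne p) h2)
  rw [key]
  have hn := PLocal.zj_normal hp (PLocal.goodClass_elemAb p) hc hst S
  rw [PLocal.sInf_maxIn_elemAb_eq_omegaOne_center, ← PLocal.thompsonSubgroupOf_eq] at hn
  refine @PLocal.characteristic_of_normal_functorial G _ _ p _ (fun H => Cfsg.omegaOne p
    (Cfsg.thompsonSubgroupOf p H ⊓ Subgroup.centralizer (Cfsg.thompsonSubgroupOf p H : Set G))) ?_ S ?_
  · intro e H
    rw [PLocal.map_omegaOne e.toMonoidHom e.injective.injOn,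
      PLocal.map_centralizer_inf e.toMonoidHom e.injective.injOn le_rfl,
      PLocal.map_thompsonSubgroupOf e.toMonoidHom e.injective.injOn]
  · exact hn

end Cfsg.Agent.S0654
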