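import Cfsg.Statements.S0656
import Cfsg.Agent.Lib.Quadratic.Stable

set_option autoImplicit false
open Cfsg

namespace Cfsg.Agent.S0656

open Quadratic

/-- For odd p, a faithful group on an elementary abelian p-group with no nontrivial normal p-subgroup in which some nontrivial p-element acts quadratically has a section isomorphic to SL(2, p). -/
theorem result {G : Type*} [Group G] [Finite G] {p : ℕ} [Fact p.Prime] (hp : p ≠ 2) (V H : Subgroup G) (hV : Cfsg.IsElementaryAbelian p V) (hHV : H ≤ Subgroup.normalizer (V : Set G)) (hf : H ⊓ Subgroup.centralizer (V : Set G) = ⊥) (hO : Cfsg.pCore p ↥H = ⊥) (x : G) (hxH : x ∈ H) (hx1 : x ≠ 1) (hxp : ∃ k : ℕ, orderOf x = p ^ k) (hq : ⁅⁅V, Subgroup.zpowers x⁆, Subgroup.zpowers x⁆ = ⊥) : ∃ (K L : Subgroup G) (hL : (L.subgroupOf K).Normal), K ≤ H ∧ Nonempty ((K ⧸ L.subgroupOf K) ≃* Matrix.SpecialLinearGroup (Fin 2) (ZMod p)) := by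
  obtain ⟨g, hg⟩ := exists_pair_of_not_mem_pCore (p := p) (x := (⟨x, hxH⟩ : H))
    fun h => hx1 (by rw [hO, Subgroup.mem_bot] at h; exact congrArg Subtype.val h)
  have hqa := commute_of_quad hq
  set b : G := (g : G) * x * (g : G)⁻¹
  set H₀ := Subgroup.closure ({x, b} : Set G) with hH₀
  have hmap : (Subgroup.closure ({⟨x, hxH⟩, g * ⟨x, hxH⟩ * g⁻¹} : Set H)).map H.subtype = H₀ := by
    rw [MonoidHom.map_closure, Set.image_pair]
    rfl
  have hle : H₀ ≤ H := hmap ▸ Subgroup.map_subtype_le _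
  obtain ⟨K, L, hL, hK, h⟩ := section_sl2_of_faithful hp hV (hle.trans hHV)
    (le_bot_iff.1 (hf ▸ inf_le_inf_right _ hle)) hH₀ hqa (commute_of_quad_conj (hHV g.2) hqa)
    (fun hP => hg (by
      have := (hP.to_le (le_of_eq hmap))
      exact this.of_equiv (Subgroup.equivMapOfInjective _ _ H.subtype_injective).symm))
  exact ⟨K, L, hL, hK.trans hle, h⟩

end Cfsg.Agent.S0656
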