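import Cfsg.Statements.S0657
import Cfsg.Agent.Lib.Quadratic.Stable
import Cfsg.Agent.Lib.Cores.Basic

set_option autoImplicit false
open Cfsg

namespace Cfsg.Agent.S0657

open Quadratic

theorem section_of_not_isPStable {G : Type*} [Group G] [Finite G] {p : ℕ} [Fact p.Prime] (hp : p ≠ 2)
    (hO' : Cfsg.pPrimeCore p G = ⊥) (hO : Cfsg.pCore p G ≠ ⊥) (hns : ¬ Cfsg.IsPStable p G) :
    ∃ (K L : Subgroup G) (_ : (L.subgroupOf K).Normal),
      K ≤ ⊤ ∧ Nonempty ((K ⧸ L.subgroupOf K) ≃* Matrix.SpecialLinearGroup (Fin 2) (ZMod p)) := by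
  rw [IsPStable] at hns
  have hodd : Odd p := (Fact.out : p.Prime).odd_of_ne_two hp
  simp only [hodd, hO, ne_eq, not_false_iff, true_and] at hns
  push Not at hns
  obtain ⟨A, P, hA, hP, hAP, hPle, hPn, hq, hnle⟩ := hns
  rw [hO', bot_sup_eq] at hPn
  haveI := hPn
  obtain ⟨x, ⟨⟨a, haN⟩, haA, rfl⟩, hx⟩ := SetLike.not_le_iff_exists.1 hnle
  refine section_sl2_of_not_stable hp hP (a := a) ?_ ?_
  · intro v hv
    have hmem : a * v * a⁻¹ * v⁻¹ ∈ ⁅P, A⁆ := by
      rw [Subgroup.commutator_comm]
      exact Subgroup.commutator_mem_commutator haA hv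
    exact Subgroup.mem_centralizer_iff.1
      (Subgroup.commutator_eq_bot_iff_le_centralizer.1 hq hmem) a haA
  · intro hmem
    apply hx
    have hN : Subgroup.normalizer (P : Set G) = ⊤ := Subgroup.normalizer_eq_top P
    let N := Subgroup.normalizer (P : Set G)
    let C := Subgroup.centralizer (P : Set G)
    haveI : (C.subgroupOf N).Normal := inferInstance
    let f : N ⧸ C.subgroupOf N →* G ⧸ C :=
      QuotientGroup.map _ _ N.subtype (fun u hu => hu)
    have hf : Function.Bijective f := by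
      constructor
      · rw [injective_iff_map_eq_one]
        intro u
        refine QuotientGroup.induction_on u fun u hu => ?_
        exact (QuotientGroup.eq_one_iff u).2 ((QuotientGroup.eq_one_iff (u : G)).1 hu)
      · intro u
        refine QuotientGroup.induction_on u fun u => ?_
        exact ⟨QuotientGroup.mk ⟨u, by show u ∈ Subgroup.normalizer (P : Set G); rw [hN]; exact Subgroup.mem_top u⟩, rfl⟩
    let e := MulEquiv.ofBijective f hf
    have h := Cores.pCore_map_mulEquiv e.symm p
    rw [← h]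
    exact ⟨_, hmem, e.symm_apply_eq.2 rfl⟩

/-- For odd p, a group that fails to be p-stable modulo its largest normal subgroup of order prime to p, and whose upper p-series does not stop there, has a section isomorphic to SL(2, p). -/
theorem result {G : Type*} [Group G] [Finite G] {p : ℕ} [Fact p.Prime] (hp : p ≠ 2) (hO : Cfsg.pPrimeCore p G < Cfsg.pPrimePCore p G) (hns : ¬ Cfsg.IsPStable p (G ⧸ Cfsg.pPrimeCore p G)) : ∃ (K L : Subgroup G) (hL : (L.subgroupOf K).Normal), K ≤ ⊤ ∧ Nonempty ((K ⧸ L.subgroupOf K) ≃* Matrix.SpecialLinearGroup (Fin 2) (ZMod p)) := by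
  have h := section_of_not_isPStable hp (Cores.pPrimeCore_quotient_self p) (fun h => hO.ne' ?_) hns
  · obtain ⟨K, L, hL, -, hiso⟩ := section_of_quotient _ h
    exact ⟨K, L, hL, le_top, hiso⟩
  · rw [pPrimePCore, h, MonoidHom.comap_bot, QuotientGroup.ker_mk']

end Cfsg.Agent.S0657
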