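import Cfsg.Statements.S0663
import Cfsg.Agent.Lib.PGroup.Basic
import Cfsg.Agent.Lib.Cores.Subnormal
import Cfsg.Agent.Lib.Solvable.Basic
-- import your own Cfsg.Agent.* helpers here

set_option autoImplicit false
open Cfsg

namespace Cfsg.Agent.S0663

open scoped Pointwise commutatorElement

universe u

variable {L : Type u} [Group L] [Finite L] {p : ℕ} [Fact p.Prime]

omit [Finite L] in
theorem commutator_le_of_normalized {X G : Subgroup L}
    (h : G ≤ Subgroup.normalizer (X : Set L)) : ⁅X, G⁆ ≤ X := by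
  refine Subgroup.commutator_le.mpr fun x hx g hg => ?_
  rw [show ⁅x, g⁆ = x * (g * x⁻¹ * g⁻¹) by rw [commutatorElement_def]; group]
  exact X.mul_mem hx ((Subgroup.mem_normalizer_iff.mp (h hg) _).mp (X.inv_mem hx))

omit [Finite L] in
theorem le_normalizer_commutator (X G : Subgroup L) :
    G ≤ Subgroup.normalizer ((⁅X, G⁆ : Subgroup L) : Set L) :=
  Cores.commutator_normalizer_right X G

/-- Between `G`-invariant subgroups `M < X` of a `p`-group, with `M` normal in `X`, the commutator
with `G` does not fill `X`. -/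
theorem commutator_sup_lt {X M G : Subgroup L} (hX : IsPGroup p X) (hG : IsPGroup p G)
    (hGX : G ≤ Subgroup.normalizer (X : Set L)) (hGM : G ≤ Subgroup.normalizer (M : Set L))
    (hXM : X ≤ Subgroup.normalizer (M : Set L)) (hlt : M < X) : ⁅X, G⁆ ⊔ M < X := by
  refine lt_of_le_of_ne (sup_le (commutator_le_of_normalized hGX) hlt.le) fun e => ?_
  set J := G ⊔ X with hJ
  have hJp : IsPGroup p J := hG.to_sup_of_normal_right' hX hGX
  have hXJ : X ≤ J := le_sup_right
  haveI : (X.subgroupOf J).Normal :=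
    PGroup.normal_iff_conj_mem.mpr fun x hx g => by
      rw [Subgroup.mem_subgroupOf] at hx ⊢
      exact (Subgroup.mem_normalizer_iff.mp ((sup_le hGX Subgroup.le_normalizer) g.2) _).mp hx
  haveI : (M.subgroupOf J).Normal :=
    PGroup.normal_iff_conj_mem.mpr fun x hx g => by
      rw [Subgroup.mem_subgroupOf] at hx ⊢
      exact (Subgroup.mem_normalizer_iff.mp ((sup_le hGM hXM) g.2) _).mp hx
  set f := QuotientGroup.mk' (M.subgroupOf J) with hf
  haveI : ((X.subgroupOf J).map f).Normal :=
    (inferInstance : (X.subgroupOf J).Normal).map f (QuotientGroup.mk'_surjective _)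
  have hne : (X.subgroupOf J).map f ≠ ⊥ := by
    rw [ne_eq, Subgroup.map_eq_bot_iff, hf, QuotientGroup.ker_mk']
    intro hle
    exact hlt.not_ge fun x hx => hle (x := (⟨x, hXJ hx⟩ : J)) hx
  refine (PGroup.commutator_lt_of_ne_bot (hJp.to_quotient (M.subgroupOf J)) hne).not_ge ?_
  -- `X` is generated by `[X, J]` and `M`
  have hle : X ≤ (⁅X.subgroupOf J, ⊤⁆ ⊔ M.subgroupOf J).map J.subtype := by
    refine e.ge.trans (sup_le ?_ ?_)
    · refine Subgroup.commutator_le.mpr fun x hx g hg => ?_
      exact ⟨⁅(⟨x, hXJ hx⟩ : J), ⟨g, Subgroup.mem_sup_left hg⟩⁆, Subgroup.mem_sup_left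
        (Subgroup.commutator_mem_commutator hx (Subgroup.mem_top _)), rfl⟩
    · intro x hx
      exact ⟨⟨x, hXJ (hlt.le hx)⟩, Subgroup.mem_sup_right hx, rfl⟩
  have hle' : X.subgroupOf J ≤ ⁅X.subgroupOf J, ⊤⁆ ⊔ M.subgroupOf J := by
    intro x hx
    obtain ⟨y, hy, hyx⟩ := hle hx
    exact (Subtype.ext hyx : y = x) ▸ hy
  refine (Subgroup.map_mono hle').trans ?_
  rw [Subgroup.map_sup, Subgroup.map_commutator]
  refine sup_le (Subgroup.commutator_mono le_rfl le_top) ?_
  rw [(Subgroup.map_eq_bot_iff _).mpr (le_of_eq (QuotientGroup.ker_mk' _).symm)]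
  exact bot_le

/-- The data shared by both directions: the chain drops by index `p` down to `⊥`. -/
def Steps (p : ℕ) (N G : Subgroup L) (n : ℕ) : Prop :=
  ∀ i ≤ n, Nat.card (Cfsg.iterCommutator N G i) = p ^ (n - i)

theorem inv_iter {N G : Subgroup L} (hGN : G ≤ Subgroup.normalizer (N : Set L)) :
    ∀ i, G ≤ Subgroup.normalizer ((Cfsg.iterCommutator N G i : Subgroup L) : Set L) ∧
      Cfsg.iterCommutator N G i ≤ N := by
  intro i
  induction i with
  | zero => exact ⟨hGN, le_rfl⟩
  | succ i ih => exact ⟨le_normalizer_commutator _ _, (commutator_le_of_normalized ih.1).trans ih.2⟩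

theorem eq_iter_of_invariant {N G : Subgroup L} (hN : IsPGroup p N) (hG : IsPGroup p G)
    (hGN : G ≤ Subgroup.normalizer (N : Set L)) {n : ℕ} (hst : Steps p N G n) {H : Subgroup L}
    (hH : H ≤ N) (hGH : G ≤ Subgroup.normalizer (H : Set L)) :
    ∃ i ≤ n, H = Cfsg.iterCommutator N G i := by
  classical
  have hbot : Cfsg.iterCommutator N G n = ⊥ := by
    refine Subgroup.card_eq_one.mp ?_
    rw [hst n le_rfl, Nat.sub_self, pow_zero]
  by_contra hno
  push Not at hno
  have key : ∀ i ≤ n, H ≤ Cfsg.iterCommutator N G i := by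
    intro i
    induction i with
    | zero => exact fun _ => hH
    | succ i ih =>
      intro hi
      have hHX := ih (Nat.le_of_succ_le hi)
      set X := Cfsg.iterCommutator N G i with hX
      have hGX := (inv_iter hGN i).1
      have hXp : IsPGroup p X := hN.to_le (inv_iter hGN i).2
      obtain ⟨M, ⟨hHM, hMX, hGM⟩, hMmax⟩ := Set.Finite.exists_maximal
        (Set.toFinite {M : Subgroup L | H ≤ M ∧ M < X ∧ G ≤ Subgroup.normalizer (M : Set L)})
        ⟨H, le_rfl, lt_of_le_of_ne hHX (hno i (Nat.le_of_succ_le hi)), hGH⟩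
      -- `M` is normal in `X`
      set T := Subgroup.normalizer (M : Set L) ⊓ X with hT
      have hGT : G ≤ Subgroup.normalizer (T : Set L) := fun g hg => by
        refine Subgroup.mem_normalizer_iff.mpr fun t => and_congr ?_ ((Subgroup.mem_normalizer_iff.mp (hGX hg)) t)
        exact (Subgroup.mem_normalizer_iff.mp (Subgroup.le_normalizer (hGM hg))) t
      have hMT : M < T := by
        haveI : Group.IsNilpotent X := hXp.isNilpotent
        have hne : M.subgroupOf X < ⊤ := lt_top_iff_ne_top.mpr fun e =>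
          hMX.not_ge (Subgroup.subgroupOf_eq_top.mp e)
        obtain ⟨x, hx, hxM⟩ := SetLike.exists_of_lt (Group.normalizerCondition_of_isNilpotent _ hne)
        refine (SetLike.lt_iff_le_and_exists (A := Subgroup L) (B := L)).mpr
          ⟨le_inf Subgroup.le_normalizer hMX.le, (x : L), Subgroup.mem_inf.mpr ⟨?_, x.2⟩,
            fun h => hxM (Subgroup.mem_subgroupOf.mpr h)⟩
        refine Solvable.mem_normalizer_iff_conj.mpr (Subgroup.eq_of_le_of_card_ge ?_
          (Solvable.card_conj _ _).ge)
        intro y hy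
        rw [Solvable.mem_conj_iff] at hy
        have h1 := (Subgroup.mem_normalizer_iff.mp hx ⟨_, hMX.le hy⟩).mp hy
        have h2 : ((x : L) * ((x : L)⁻¹ * y * x) * (x : L)⁻¹) ∈ M := h1
        simpa [mul_assoc] using h2
      have hTX : T = X := by
        by_contra hne
        exact hMT.not_ge (hMmax ⟨hHM.trans hMT.le, lt_of_le_of_ne inf_le_right hne, hGT⟩ hMT.le)
      have hlt := commutator_sup_lt hXp hG hGX hGM (hTX ▸ inf_le_left) hMX
      have hle : ⁅X, G⁆ ≤ M := le_sup_left.trans (hMmax ⟨hHM.trans le_sup_right, hlt,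
        (le_inf (le_normalizer_commutator X G) hGM).trans
          (Cores.normalizer_inf_le_normalizer_sup _ _)⟩ le_sup_right)
      -- `[X, G]` has index `p` in `X`, so it equals `M`
      refine hHM.trans (ge_of_eq (Subgroup.eq_of_le_of_card_ge hle ?_))
      have h1 : Nat.card M ∣ p ^ (n - i) := hst i (Nat.le_of_succ_le hi) ▸ Subgroup.card_dvd_of_le hMX.le
      obtain ⟨m, hm, hmc⟩ := (Nat.dvd_prime_pow Fact.out).mp h1
      have hne : m ≠ n - i := fun e => hMX.ne (Subgroup.eq_of_le_of_card_ge hMX.le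
        (by rw [hmc, e, hst i (Nat.le_of_succ_le hi)]))
      show Nat.card M ≤ Nat.card (Cfsg.iterCommutator N G (i + 1))
      rw [hmc, hst (i + 1) hi]
      exact Nat.pow_le_pow_right (Fact.out : p.Prime).pos (by omega)
  exact hno n le_rfl (le_antisymm ((key n le_rfl).trans (le_refl _)) (hbot.le.trans bot_le))

theorem normal_iter {N G : Subgroup L} (hN : IsPGroup p N) (hG : IsPGroup p G)
    (hGN : G ≤ Subgroup.normalizer (N : Set L)) {n : ℕ} (hst : Steps p N G n) (i : ℕ) (hi : i ≤ n) :
    N ≤ Subgroup.normalizer ((Cfsg.iterCommutator N G i : Subgroup L) : Set L) := by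
  set J := G ⊔ N with hJ
  have hJp : IsPGroup p J := hG.to_sup_of_normal_right' hN hGN
  haveI : (N.subgroupOf J).Normal :=
    PGroup.normal_iff_conj_mem.mpr fun x hx g => by
      rw [Subgroup.mem_subgroupOf] at hx ⊢
      exact (Subgroup.mem_normalizer_iff.mp ((sup_le hGN Subgroup.le_normalizer) g.2) _).mp hx
  obtain ⟨K, hKn, hKN, hKc⟩ := PGroup.exists_normal_le_card hJp (N := N.subgroupOf J)
    (a := n) (by
      rw [Nat.card_congr (Subgroup.subgroupOfEquivOfLe (le_sup_right : N ≤ J)).toEquiv]
      simpa [Cfsg.iterCommutator] using hst 0 (Nat.zero_le _)) (n - i) (Nat.sub_le _ _)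
  have hle : J ≤ Subgroup.normalizer ((K.map J.subtype : Subgroup L) : Set L) := by
    intro g hg
    exact Subgroup.le_normalizer_map J.subtype
      ⟨⟨g, hg⟩, (Subgroup.normalizer_eq_top_iff.mpr hKn).ge (Subgroup.mem_top _), rfl⟩
  obtain ⟨j, hj, he⟩ := eq_iter_of_invariant hN hG hGN hst (H := K.map J.subtype)
    (by rintro _ ⟨x, hx, rfl⟩; exact hKN hx) (le_sup_left.trans hle)
  have hc : Nat.card (K.map J.subtype) = p ^ (n - i) := by
    rw [Subgroup.card_map_of_injective J.subtype_injective, hKc]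
  rw [he, hst j hj] at hc
  have := Nat.pow_right_injective (Fact.out : p.Prime).two_le hc
  obtain rfl : j = i := by omega
  exact he ▸ le_sup_right.trans hle

theorem steps_of_ne_bot {N G : Subgroup L} (hN : IsPGroup p N) (hG : IsPGroup p G)
    (hGN : G ≤ Subgroup.normalizer (N : Set L)) {n : ℕ} (hn : Nat.card N = p ^ n)
    (h : Cfsg.iterCommutator N G (n - 1) ≠ ⊥ ∨ n = 0) : Steps p N G n := by
  have hp : p.Prime := Fact.out
  by_cases hn0 : n = 0
  · subst hn0
    intro i hi
    obtain rfl : i = 0 := Nat.le_zero.mp hi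
    simpa [Cfsg.iterCommutator] using hn
  have h' := h.resolve_right hn0
  have hcard : ∀ i, ∃ e, Nat.card (Cfsg.iterCommutator N G i) = p ^ e := fun i =>
    IsPGroup.iff_card.mp (hN.to_le (inv_iter hGN i).2)
  choose e he using hcard
  have hdec : ∀ i, e i ≠ 0 → e (i + 1) < e i := by
    intro i hi
    have hne : Cfsg.iterCommutator N G i ≠ ⊥ := fun hb => hi (by
      have := he i
      rw [hb, Subgroup.card_bot] at this
      exact (Nat.pow_eq_one.mp this.symm).resolve_left hp.ne_one)
    have hlt := commutator_sup_lt (hN.to_le (inv_iter hGN i).2) hG (inv_iter hGN i).1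
      (M := ⊥) (fun g _ => (Subgroup.normalizer_eq_top_iff.mpr inferInstance).ge (Subgroup.mem_top g))
      (fun g _ => (Subgroup.normalizer_eq_top_iff.mpr inferInstance).ge (Subgroup.mem_top g)) (bot_lt_iff_ne_bot.mpr hne)
    rw [sup_bot_eq] at hlt
    refine (Nat.pow_lt_pow_iff_right hp.one_lt).mp ?_
    rw [← he, ← he]
    exact lt_of_le_of_ne (Subgroup.card_le_of_le hlt.le) fun hc =>
      hlt.ne (Subgroup.eq_of_le_of_card_ge hlt.le hc.ge)
  have hzero : ∀ i, e i = 0 → e (i + 1) = 0 := by
    intro i hi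
    have hb : Cfsg.iterCommutator N G i = ⊥ := Subgroup.card_eq_one.mp (by rw [he, hi, pow_zero])
    have := he (i + 1)
    rw [show Cfsg.iterCommutator N G (i + 1) = ⊥ by
      rw [Cfsg.iterCommutator, hb, Subgroup.commutator_bot_left], Subgroup.card_bot] at this
    exact (Nat.pow_eq_one.mp this.symm).resolve_left hp.ne_one
  have hlast : e (n - 1) ≠ 0 := fun h0 => h' (Subgroup.card_eq_one.mp (by rw [he, h0, pow_zero]))
  have h0 : e 0 = n := Nat.pow_right_injective hp.two_le ((he 0).symm.trans hn)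
  have hup : ∀ i ≤ n, e i + i ≤ n := by
    intro i
    induction i with
    | zero => intro _; omega
    | succ i ih =>
      intro hi
      have := ih (by omega)
      by_cases hz : e i = 0
      · have := hzero i hz; omega
      · have := hdec i hz; omega
  have hlow : ∀ d i, i + d = n - 1 → d + 1 ≤ e i := by
    intro d
    induction d with
    | zero =>
      intro i hi
      have : i = n - 1 := by omega
      subst this
      omega
    | succ d ih =>
      intro i hi
      have := ih (i + 1) (by omega)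
      by_cases hz : e i = 0
      · have := hzero i hz; omega
      · have := hdec i hz; omega
  intro i hi
  rw [he]
  congr 1
  have := hup i hi
  by_cases hin : i = n
  · omega
  · have := hlow (n - 1 - i) i (by omega); omega

theorem steps_of_uniserial {N G : Subgroup L} (hN : IsPGroup p N)
    (hGN : G ≤ Subgroup.normalizer (N : Set L)) {n : ℕ} (hn : Nat.card N = p ^ n)
    (h : ∀ H : Subgroup L, H ≤ N → G ≤ Subgroup.normalizer (H : Set L) → H ≠ ⊥ →
      (⁅H, G⁆).relIndex H = p) : Steps p N G n := by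
  have hp : p.Prime := Fact.out
  intro i
  induction i with
  | zero => intro _; simpa [Cfsg.iterCommutator] using hn
  | succ i ih =>
    intro hi
    have hc := ih (Nat.le_of_succ_le hi)
    set X := Cfsg.iterCommutator N G i with hX
    have hne : X ≠ ⊥ := fun e => by
      rw [e, Subgroup.card_bot] at hc
      have := (Nat.pow_eq_one.mp hc.symm).resolve_left hp.ne_one
      omega
    have h1 := h X (inv_iter hGN i).2 (inv_iter hGN i).1 hne
    have hle : ⁅X, G⁆ ≤ X := commutator_le_of_normalized (inv_iter hGN i).1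
    have h2 := Subgroup.relIndex_mul_relIndex ⊥ ⁅X, G⁆ X bot_le hle
    rw [Subgroup.relIndex_bot_left, Subgroup.relIndex_bot_left, h1, hc] at h2
    show Nat.card (⁅X, G⁆ : Subgroup L) = _
    refine Nat.eq_of_mul_eq_mul_right hp.pos ?_
    rw [h2, ← pow_succ]
    congr 1
    omega


/-- A p-group acts uniserially on a p-group N of order p^n exactly when the iterated commutator chain from N has length n; in that case the chain terms are all the invariant subgroups of N and they are normal in N. -/
theorem result {L : Type*} [Group L] [Finite L] {p : ℕ} [Fact p.Prime] (N G : Subgroup L) (hN : IsPGroup p N) (hG : IsPGroup p G) (hGN : G ≤ Subgroup.normalizer (N : Set L)) (n : ℕ) (hn : Nat.card N = p ^ n) : ((∀ H : Subgroup L, H ≤ N → G ≤ Subgroup.normalizer (H : Set L) → H ≠ ⊥ → (⁅H, G⁆).relIndex H = p) ↔ Cfsg.iterCommutator N G (n - 1) ≠ ⊥ ∨ n = 0) ∧ ((∀ H : Subgroup L, H ≤ N → G ≤ Subgroup.normalizer (H : Set L) → H ≠ ⊥ → (⁅H, G⁆).relIndex H = p) → ∀ H : Subgroup L, H ≤ N → G ≤ Subgroup.normalizer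 (H : Set L) → (∃ i ≤ n, H = Cfsg.iterCommutator N G i) ∧ N ≤ Subgroup.normalizer (H : Set L)) := by
  refine ⟨⟨fun h => ?_, fun h H hH hGH hne => ?_⟩, fun h H hH hGH => ?_⟩
  · by_cases hn0 : n = 0
    · exact Or.inr hn0
    refine Or.inl fun hb => ?_
    have := steps_of_uniserial hN hGN hn h (n - 1) (Nat.sub_le _ _)
    rw [hb, Subgroup.card_bot] at this
    have := (Nat.pow_eq_one.mp this.symm).resolve_left (Fact.out : p.Prime).ne_one
    omega
  · have hst := steps_of_ne_bot hN hG hGN hn h
    obtain ⟨i, hi, rfl⟩ := eq_iter_of_invariant hN hG hGN hst hH hGH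
    have hin : i ≠ n := by
      rintro rfl
      exact hne (Subgroup.card_eq_one.mp (by rw [hst i le_rfl, Nat.sub_self, pow_zero]))
    have hle : ⁅Cfsg.iterCommutator N G i, G⁆ ≤ Cfsg.iterCommutator N G i :=
      commutator_le_of_normalized (inv_iter hGN i).1
    have h2 := Subgroup.relIndex_mul_relIndex ⊥ ⁅Cfsg.iterCommutator N G i, G⁆
      (Cfsg.iterCommutator N G i) bot_le hle
    rw [Subgroup.relIndex_bot_left, Subgroup.relIndex_bot_left, hst i hi] at h2
    rw [show Nat.card (⁅Cfsg.iterCommutator N G i, G⁆ : Subgroup L) = p ^ (n - (i + 1)) from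
      hst (i + 1) (by omega)] at h2
    refine Nat.eq_of_mul_eq_mul_left (pow_pos (Fact.out : p.Prime).pos (n - (i + 1))) ?_
    rw [h2, ← pow_succ]
    congr 1
    omega
  · have hst := steps_of_uniserial hN hGN hn h
    obtain ⟨i, hi, he⟩ := eq_iter_of_invariant hN hG hGN hst hH hGH
    exact ⟨⟨i, hi, he⟩, he ▸ normal_iter hN hG hGN hst i hi⟩

end Cfsg.Agent.S0663
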