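import Cfsg.Statements.S0666
import Cfsg.Agent.Lib.Frobenius.Kernel
-- import your own Cfsg.Agent.* helpers here

set_option autoImplicit false
open Cfsg

namespace Cfsg.Agent.S0666

/-- A Frobenius group acting on a nontrivial abelian group of order prime to that of its kernel, with the kernel acting without nontrivial fixed points, has a complement with a nontrivial fixed point. -/
theorem result {G : Type*} [Group G] [Finite G] (V F : Subgroup G) (hVab : IsMulCommutative V) (hV1 : V ≠ ⊥) (hFV : F ≤ Subgroup.normalizer (V : Set G)) (H : Subgroup ↥F) (hH : Cfsg.IsFrobeniusComplement H) (hcop : (Nat.card V).Coprime (Nat.card (Cfsg.frobeniusKernel H))) (hCK : V ⊓ Subgroup.centralizer (Subtype.val '' Cfsg.frobeniusKernel H : Set G) = ⊥) : V ⊓ Subgroup.centralizer ((H.map F.subtype : Subgroup G) : Set G) ≠ ⊥ := by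
  classical
  intro hbot
  have := Fintype.ofFinite G
  letI : CommGroup V := { (inferInstance : Group V) with mul_comm := hVab.is_comm.comm }
  let act : F → V → V := fun x v =>
    ⟨(x : G) * v * (x : G)⁻¹, (Subgroup.mem_normalizer_iff.1 (hFV x.2) v).1 v.2⟩
  have act_one : ∀ v, act 1 v = v := fun v => Subtype.ext (by simp [act])
  have act_comp : ∀ x y v, act (x * y) v = act x (act y v) := fun x y v =>
    Subtype.ext (by simp [act, mul_assoc])
  let A : F → V →* V := fun x => MonoidHom.mk' (act x) fun u v => Subtype.ext (by simp [act, mul_assoc])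
  have hA : ∀ x v, A x v = act x v := fun _ _ => rfl
  set K := Frobenius.frobKernel hH with hKdef
  have hKs : (K : Set F) = Cfsg.frobeniusKernel H := Frobenius.coe_frobKernel hH
  have hnorm : ∀ (S : Subgroup F) (v : V) (s : F), s ∈ S →
      act s (∏ x : S, act x v) = ∏ x : S, act x v := by
    intro S v s hs
    rw [← hA s, map_prod]
    exact Fintype.prod_equiv (Equiv.mulLeft ⟨s, hs⟩) _ _ fun x => by
      simp only [hA, Equiv.coe_mulLeft, Subgroup.coe_mul, act_comp]
  have hfixK : ∀ v : V, (∀ k ∈ K, act k v = v) → v = 1 := by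
    intro v hv
    refine Subtype.ext (Subgroup.mem_bot.1 (hCK ▸ Subgroup.mem_inf.2 ⟨v.2, ?_⟩))
    rw [Subgroup.mem_centralizer_iff]
    rintro _ ⟨k, hk, rfl⟩
    exact mul_inv_eq_iff_eq_mul.1 (congrArg Subtype.val (hv k (by rw [← SetLike.mem_coe, hKs]; exact hk)))
  have hfixH : ∀ v : V, (∀ h ∈ H, act h v = v) → v = 1 := by
    intro v hv
    refine Subtype.ext (Subgroup.mem_bot.1 (hbot ▸ Subgroup.mem_inf.2 ⟨v.2, ?_⟩))
    rw [Subgroup.mem_centralizer_iff]
    rintro _ ⟨h, hh, rfl⟩
    exact mul_inv_eq_iff_eq_mul.1 (congrArg Subtype.val (hv h hh))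
  have hHK : ∀ x : F, x ∈ K → x ∈ H → x = 1 := fun x hK hx => by
    have h2 : x ∈ K ⊓ H := ⟨hK, hx⟩
    rwa [(Frobenius.frobKernel_isComplement hH).disjoint.eq_bot, Subgroup.mem_bot] at h2
  let e : K ⊕ (K × {h : H // h ≠ 1}) → F := Sum.elim (fun k => (k : F))
    (fun p => (p.1 : F) * (p.2.1 : F) * (p.1 : F)⁻¹)
  have hne : ∀ (k : K) (p : K × {h : H // h ≠ 1}), (k : F) ≠ (p.1 : F) * (p.2.1 : F) * (p.1 : F)⁻¹ := by
    intro k p heq
    refine p.2.2 (Subtype.ext (hHK _ ?_ p.2.1.2))
    rw [show (p.2.1 : F) = (p.1 : F)⁻¹ * (k : F) * (p.1 : F) by rw [heq]; group]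
    exact mul_mem (mul_mem (inv_mem p.1.2) k.2) p.1.2
  have he : Function.Bijective e := by
    rw [Nat.bijective_iff_injective_and_card]
    constructor
    · rintro (k | p) (k' | p') heq
      · exact congrArg Sum.inl (Subtype.ext heq)
      · exact absurd heq (hne k p')
      · exact absurd heq.symm (hne k' p)
      · have h1 : ((p'.1 : F)⁻¹ * p.1) * (p.2.1 : F) * ((p'.1 : F)⁻¹ * p.1)⁻¹ = p'.2.1 := by
          have heq' : (p.1 : F) * (p.2.1 : F) * (p.1 : F)⁻¹ = (p'.1 : F) * (p'.2.1 : F) * (p'.1 : F)⁻¹ := heq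
          calc ((p'.1 : F)⁻¹ * p.1) * (p.2.1 : F) * ((p'.1 : F)⁻¹ * p.1)⁻¹
              = (p'.1 : F)⁻¹ * ((p.1 : F) * (p.2.1 : F) * (p.1 : F)⁻¹) * p'.1 := by group
            _ = p'.2.1 := by rw [heq']; group
        have h2 : (p'.1 : F)⁻¹ * p.1 ∈ H := inv_mem_iff.1 (Frobenius.mem_of_conj_mem hH
          (g := ((p'.1 : F)⁻¹ * p.1)⁻¹) (fun e1 => p.2.2 (Subtype.ext e1)) p.2.1.2
          (by rw [inv_inv, h1]; exact p'.2.1.2))
        have h3 : (p'.1 : F) = p.1 := inv_mul_eq_one.1 (hHK _ (mul_mem (inv_mem p'.1.2) p.1.2) h2)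
        rw [h3, inv_mul_cancel, one_mul, inv_one, mul_one] at h1
        exact congrArg Sum.inr (Prod.ext (Subtype.ext h3.symm) (Subtype.ext (Subtype.ext h1)))
    · rw [Nat.card_sum, Nat.card_prod, ← (Frobenius.frobKernel_isComplement hH).card_mul,
        Nat.card_eq_fintype_card (α := {h : H // h ≠ 1}), Fintype.card_subtype_compl,
        Fintype.card_subtype_eq, Nat.card_eq_fintype_card (α := H)]
      have : 0 < Fintype.card H := Fintype.card_pos
      obtain ⟨m, hm⟩ : ∃ m, Fintype.card H = m + 1 := ⟨_, (Nat.succ_pred_eq_of_pos this).symm⟩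
      rw [hm, Nat.add_sub_cancel]; ring
  have hK0 : ∀ v : V, ∏ k : K, act k v = 1 := fun v => hfixK _ fun k hk => hnorm K v k hk
  have hH0 : ∀ v : V, ∏ h : H, act h v = 1 := fun v => hfixH _ fun h hh => hnorm H v h hh
  have hF0 : ∀ v : V, ∏ x : F, act x v = 1 := fun v => by
    refine hfixK _ fun k _ => ?_
    rw [← hA k, map_prod]
    exact Fintype.prod_equiv (Equiv.mulLeft k) _ _ fun x => by
      simp only [hA, Equiv.coe_mulLeft, act_comp]
  have hall : ∀ v : V, v = 1 := by
    intro v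
    have hin : ∀ k : K, ∏ h : {h : H // h ≠ 1}, act ((k : F) * (h.1 : F) * (k : F)⁻¹) v = v⁻¹ := by
      intro k
      have h1 : ∏ h : H, act ((k : F) * (h : F) * (k : F)⁻¹) v = 1 := by
        rw [show (fun h : H => act ((k : F) * (h : F) * (k : F)⁻¹) v) =
          fun h : H => A (k : F) (act h (act (k : F)⁻¹ v)) from funext fun h => by
            rw [hA, act_comp, act_comp], ← map_prod, hH0, map_one]
      rw [← Finset.mul_prod_erase Finset.univ _ (Finset.mem_univ (1 : H))] at h1
      rw [Finset.prod_subtype (Finset.univ.erase (1 : H)) (p := fun h => h ≠ 1) (by simp)] at h1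
      simp only [Subgroup.coe_one, mul_one, mul_inv_cancel, act_one] at h1
      exact eq_inv_of_mul_eq_one_right h1
    have h1 := hF0 v
    rw [← Fintype.prod_bijective e he _ _ (fun _ => rfl), Fintype.prod_sum_type,
      Fintype.prod_prod_type] at h1
    simp only [e, Sum.elim_inl, Sum.elim_inr, hK0, one_mul, hin, Finset.prod_const,
      Finset.card_univ, inv_pow, inv_eq_one] at h1
    refine orderOf_eq_one_iff.1 (Nat.eq_one_of_dvd_coprimes hcop (orderOf_dvd_natCard v) ?_)
    rw [show Nat.card (Cfsg.frobeniusKernel H) = Nat.card K by rw [← hKs]; rfl,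
      Nat.card_eq_fintype_card]
    exact orderOf_dvd_of_pow_eq_one h1
  exact hV1 ((Subgroup.eq_bot_iff_forall V).2 fun v hv => congrArg Subtype.val (hall ⟨v, hv⟩))

end Cfsg.Agent.S0666
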