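import Cfsg.Statements.S0668
import Cfsg.Agent.EqLemmas

set_option autoImplicit false
open Cfsg

namespace Cfsg.Agent.S0668

/-- The equivariant linear maps between the permutation modules of two finite `G`-sets form a space whose dimension is the number of `G`-orbits on the product of the two sets. -/
theorem result {G : Type*} [Group G] {K : Type*} [Field K] {Ω₁ Ω₂ : Type*} [Fintype Ω₁] [Fintype Ω₂] [MulAction G Ω₁] [MulAction G Ω₂] : Module.finrank K ((Cfsg.permRep K G Ω₁).linHom (Cfsg.permRep K G Ω₂)).invariants = Nat.card (MulAction.orbitRel.Quotient G (Ω₁ × Ω₂)) := by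
  classical
  let Q := MulAction.orbitRel.Quotient G (Ω₁ × Ω₂)
  let ρ₁ := Cfsg.permRep K G Ω₁
  let ρ₂ := Cfsg.permRep K G Ω₂
  have hsingle : ∀ (g : G) (x : Ω₁),
      ρ₁ g (Pi.single x (1 : K)) = Pi.single (g • x) (1 : K) := by
    intro g x
    ext z
    show (Pi.single x (1 : K) : Ω₁ → K) (g⁻¹ • z) = _
    by_cases h : z = g • x
    · subst h; rw [inv_smul_smul, Pi.single_eq_same, Pi.single_eq_same]
    · rw [Pi.single_eq_of_ne h, Pi.single_eq_of_ne]
      intro e
      exact h (by rw [← e, smul_inv_smul])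
  have hinv : ∀ f : ((Ω₁ → K) →ₗ[K] (Ω₂ → K)), f ∈ (ρ₁.linHom ρ₂).invariants →
      ∀ (g : G) (v : Ω₁ → K), f (ρ₁ g v) = ρ₂ g (f v) := by
    intro f hf g v
    have h := congrArg (fun l : (Ω₁ → K) →ₗ[K] (Ω₂ → K) => l (ρ₁ g v))
      ((Representation.mem_invariants _ f).mp hf g)
    simp only [Representation.linHom_apply, LinearMap.comp_apply] at h
    rw [← h, ← Module.End.mul_apply (f := ρ₁ g⁻¹), ← map_mul, inv_mul_cancel, map_one]
    rfl
  let fwd : (ρ₁.linHom ρ₂).invariants →ₗ[K] (Q → K) :=
    { toFun := fun f => Quotient.lift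
        (fun z : Ω₁ × Ω₂ => (f : (Ω₁ → K) →ₗ[K] (Ω₂ → K)) (Pi.single z.1 1) z.2) (by
        rintro _ z ⟨g, rfl⟩
        show (f : (Ω₁ → K) →ₗ[K] (Ω₂ → K)) (Pi.single (g • z.1) 1) (g • z.2) = _
        rw [← hsingle, hinv _ f.2]
        show (f : (Ω₁ → K) →ₗ[K] (Ω₂ → K)) (Pi.single z.1 1) (g⁻¹ • g • z.2) = _
        rw [inv_smul_smul])
      map_add' := fun f f' => funext fun q => Quotient.inductionOn q fun z => rfl
      map_smul' := fun c f => funext fun q => Quotient.inductionOn q fun z => rfl }
  have hbij : Function.Bijective fwd := by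
    constructor
    · intro f f' h
      apply Subtype.ext
      refine LinearMap.pi_ext fun x c => ?_
      have hc : (Pi.single x c : Ω₁ → K) = c • Pi.single x (1 : K) := by
        ext z
        by_cases hz : z = x <;> simp [hz]
      rw [hc, map_smul, map_smul]
      congr 1
      funext y
      exact congrFun h (Quotient.mk _ (x, y))
    · intro φ
      let f : (Ω₁ → K) →ₗ[K] (Ω₂ → K) :=
        { toFun := fun v y => ∑ x, v x * φ (Quotient.mk _ (x, y))
          map_add' := fun u v => funext fun y => by simp [add_mul, Finset.sum_add_distrib]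
          map_smul' := fun c v => funext fun y => by simp [Finset.mul_sum, mul_assoc] }
      have hf : f ∈ (ρ₁.linHom ρ₂).invariants := by
        rw [Representation.mem_invariants]
        intro g
        refine LinearMap.ext fun v => funext fun y => ?_
        show (∑ x, v ((g⁻¹)⁻¹ • x) * φ (Quotient.mk _ (x, g⁻¹ • y))) = _
        rw [inv_inv]
        refine Fintype.sum_equiv (MulAction.toPerm g) _ _ fun x => ?_
        show _ = v (g • x) * φ (Quotient.mk _ (g • x, y))
        congr 1
        refine congrArg φ (Quotient.sound ⟨g⁻¹, ?_⟩)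
        exact Prod.ext (inv_smul_smul g x) rfl
      refine ⟨⟨f, hf⟩, funext fun q => Quotient.inductionOn q fun z => ?_⟩
      show (∑ x, (Pi.single z.1 (1 : K) : Ω₁ → K) x * φ (Quotient.mk _ (x, z.2))) = _
      rw [Finset.sum_eq_single_of_mem z.1 (Finset.mem_univ _) (fun x _ hx => by
        rw [Pi.single_eq_of_ne hx, zero_mul]), Pi.single_eq_same, one_mul]
  have : Fintype Q := Fintype.ofFinite Q
  show Module.finrank K (ρ₁.linHom ρ₂).invariants = Nat.card Q
  rw [LinearEquiv.finrank_eq (LinearEquiv.ofBijective fwd hbij), Module.finrank_pi,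
    Nat.card_eq_fintype_card]

end Cfsg.Agent.S0668
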