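import Cfsg.Statements.S0669
import Cfsg.Agent.EqLemmas

set_option autoImplicit false
open Cfsg

namespace Cfsg.Agent.S0669

/-- The rank of a transitive action: orbits on ordered pairs correspond to orbits of a point stabiliser. -/
theorem result {G : Type*} [Group G] {Ω : Type*} [Finite Ω] [MulAction G Ω] [MulAction.IsPretransitive G Ω] (a : Ω) : Nat.card (MulAction.orbitRel.Quotient G (Ω × Ω)) = Nat.card (MulAction.orbitRel.Quotient (MulAction.stabilizer G a) Ω) := by
  symm
  refine Nat.card_eq_of_bijective (Quotient.lift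
    (fun x => (Quotient.mk (MulAction.orbitRel G (Ω × Ω)) (a, x))) ?_) ⟨?_, ?_⟩
  · rintro x y ⟨⟨g, hg⟩, rfl⟩
    exact Quotient.sound ⟨g, Prod.ext (MulAction.mem_stabilizer_iff.mp hg) rfl⟩
  · intro q r
    induction q using Quotient.inductionOn with
    | _ x =>
      induction r using Quotient.inductionOn with
      | _ y =>
        intro h
        obtain ⟨g, hg⟩ := Quotient.exact h
        exact Quotient.sound ⟨⟨g, congrArg Prod.fst hg⟩, congrArg Prod.snd hg⟩
  · intro q
    induction q using Quotient.inductionOn with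
    | _ x =>
      obtain ⟨g, hg⟩ := MulAction.exists_smul_eq G x.1 a
      exact ⟨Quotient.mk _ (g • x.2), Quotient.sound ⟨g, Prod.ext hg rfl⟩⟩

end Cfsg.Agent.S0669
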