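import Cfsg.Statements.S0671
import Cfsg.Agent.Lib.Perm.PermModule

set_option autoImplicit false
open Cfsg

namespace Cfsg.Agent.S0671

/-- If the heart of the permutation module in characteristic `p` of a transitive action of degree `p ^ f` has no trivial composition factor, the action is doubly transitive. The hypothesis is phrased without composition series: no invariant subspaces `W < W'` between the constants and the sum-zero functions with trivial action on the quotient. -/
theorem result {G : Type*} [Group G] [Finite G] {K : Type*} [Field K] {p f : ℕ} [Fact p.Prime] [CharP K p] {Ω : Type*} [Fintype Ω] [MulAction G Ω] [MulAction.IsPretransitive G Ω] (hf : 1 ≤ f) (hcard : Fintype.card Ω = p ^ f) (h : ∀ W W' : Subrepresentation (Cfsg.permRep K G Ω), (Cfsg.permConstants K G Ω).toSubmodule ≤ W.toSubmodule → W.toSubmodule < W'.toSubmodule → W'.toSubmodule ≤ (Cfsg.permSumZero K G Ω).toSubmodule → ∃ g : G, ∃ v ∈ W'.toSubmodule, Cfsg.permRep K G Ω g v - v ∉ W.toSubmodule)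 : MulAction.IsMultiplyPretransitive G Ω 2 := by
  classical
  by_contra h2
  obtain ⟨P⟩ : Nonempty (Sylow p G) := inferInstance
  have hPt := Perm.sylow_isPretransitive_of_card_prime_pow (Ω := Ω) (f := f)
    (by rw [Nat.card_eq_fintype_card, hcard]) P
  have hconst : ∀ U : Submodule K (Ω → K), (∀ g, ∀ w ∈ U, Cfsg.permRep K G Ω g w ∈ U) → U ≠ ⊥ →
      (fun _ => (1 : K)) ∈ U := fun U hU h0 =>
    Perm.constants_le_of_invariant (G := (P : Subgroup G)) P.2 U (fun g w hw => hU g w hw) h0
  obtain ⟨φ, hφ, hφ1, hφsum, a, δ, b, b', hδa, hδ0, hφδ⟩ := Perm.exists_orbital_map (K := K) h2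
  have hsumδ : ∑ x, δ x = 1 := by
    rw [Finset.sum_eq_single_of_mem a (Finset.mem_univ a) (fun x _ hx => hδ0 x hx), hδa]
  have hker : ∀ v, φ v = 0 → ∑ x, v x = 0 := by
    intro v hv
    obtain ⟨V, hV0, hVinv, hVorth⟩ := Perm.exists_annihilator (G := G) (LinearMap.ker φ)
      (fun g w hw => by
        rw [LinearMap.mem_ker] at hw ⊢
        rw [hφ, hw, map_zero])
      (fun e => hφδ (by rw [show φ δ = 0 from LinearMap.mem_ker.mp (e ▸ Submodule.mem_top)]; rfl))
    simpa using hVorth _ (hconst V hVinv hV0) v hv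
  let S := (Cfsg.permSumZero K G Ω).toSubmodule
  have hinv : ∀ U : Submodule K (Ω → K), (∀ g, ∀ w ∈ U, Cfsg.permRep K G Ω g w ∈ U) →
      ∀ g, ∀ w ∈ U.map φ, Cfsg.permRep K G Ω g w ∈ U.map φ := by
    rintro U hU g _ ⟨w, hw, rfl⟩
    exact ⟨_, hU g w hw, hφ g w⟩
  have hS : ∀ g, ∀ w ∈ S, Cfsg.permRep K G Ω g w ∈ S := fun g w hw =>
    (Cfsg.permSumZero K G Ω).apply_mem_toSubmodule g hw
  let W : Subrepresentation (Cfsg.permRep K G Ω) :=
    ⟨S.map φ, fun g w hw => hinv S hS g w hw⟩
  let W' : Subrepresentation (Cfsg.permRep K G Ω) :=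
    ⟨(⊤ : Submodule K (Ω → K)).map φ, fun g w hw => hinv ⊤ (fun _ _ _ => trivial) g w hw⟩
  have hdiff : ∀ (g : G) (v : Ω → K), Cfsg.permRep K G Ω g v - v ∈ S := by
    intro g v
    show ∑ x, (v (g⁻¹ • x) - v x) = 0
    rw [Finset.sum_sub_distrib, sub_eq_zero]
    exact Fintype.sum_equiv (MulAction.toPerm g⁻¹) _ _ fun x => rfl
  have hWne : W.toSubmodule ≠ ⊥ := by
    intro hbot
    apply hφδ
    obtain ⟨g, hg⟩ := MulAction.exists_smul_eq G b b'
    have h0 : φ (Cfsg.permRep K G Ω g δ - δ) = 0 :=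
      (Submodule.eq_bot_iff _).mp hbot _ (Submodule.mem_map_of_mem (hdiff g δ))
    rw [map_sub, sub_eq_zero, hφ] at h0
    have h1 := congrFun h0 b'
    rw [← h1]
    show φ δ b = φ δ (g⁻¹ • b')
    rw [← hg, inv_smul_smul]
  obtain ⟨g, v, hv, hgv⟩ := h W W'
    (by
      show Submodule.span K {fun _ => (1 : K)} ≤ S.map φ
      rw [Submodule.span_singleton_le_iff_mem]
      exact hconst _ (hinv S hS) hWne)
    (by
      refine lt_of_le_not_ge (Submodule.map_mono le_top) fun hle => ?_
      obtain ⟨s, hs, hs'⟩ := hle (Submodule.mem_map_of_mem (f := φ) (Submodule.mem_top (x := δ)))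
      have h0 := hker (δ - s) (by rw [map_sub, hs', sub_self])
      simp only [Pi.sub_apply, Finset.sum_sub_distrib, hsumδ, show ∑ x, s x = 0 from hs,
        sub_zero] at h0
      exact one_ne_zero h0)
    (by
      rintro _ ⟨w, -, rfl⟩
      exact hφsum w)
  obtain ⟨m, -, rfl⟩ := hv
  exact hgv ⟨_, hdiff g m, by rw [map_sub, hφ]⟩

end Cfsg.Agent.S0671
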