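import Cfsg.Statements.S0672
import Cfsg.Agent.Lib.Perm.Basic

set_option autoImplicit false
open Cfsg

namespace Cfsg.Agent.S0672

open MulAction

/-- Without a non-zero map from the heart to the module on pairs, the setwise stabiliser of a pair
is transitive on the remaining points. -/
theorem pair_stabilizer_transitive {G : Type*} [Group G] {K : Type*} [Field K] {Ω : Type*}
    [Fintype Ω] [DecidableEq Ω] [MulAction G Ω]
    (hpre : IsPretransitive G (Set.powersetCard Ω 2))
    (h : ∀ f : Representation.IntertwiningMap (Cfsg.permSumZero K G Ω).toRepresentation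
      (Cfsg.permRep K G (Set.powersetCard Ω 2)), (∀ v : (Cfsg.permSumZero K G Ω).toSubmodule,
      (v : Ω → K) ∈ (Cfsg.permConstants K G Ω).toSubmodule → f v = 0) → f = 0)
    (e₀ : Set.powersetCard Ω 2) {c c' : Ω} (hc : c ∉ e₀) (hc' : c' ∉ e₀) :
    ∃ g : G, g • e₀ = e₀ ∧ g • c = c' := by
  classical
  by_contra hno
  set O : Set (Set.powersetCard Ω 2 × Ω) := orbit G (e₀, c) with hO
  have hOinv : ∀ (g : G) p, g • p ∈ O ↔ p ∈ O := fun g p => by
    rw [hO, ← orbit_eq_iff, ← orbit_eq_iff, orbit_smul]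
  have hmem : ∀ (g : G) (e : Set.powersetCard Ω 2) (x : Ω), g • x ∈ g • e ↔ x ∈ e := fun g e x => by
    rw [← Set.powersetCard.mem_coe_iff, ← Set.powersetCard.mem_coe_iff,
      Set.powersetCard.coe_smul, Finset.smul_mem_smul_finset_iff]
  have hdis : ∀ e x, (e, x) ∈ O → x ∉ e := by
    rintro e x ⟨g, hg⟩
    obtain ⟨rfl, rfl⟩ := Prod.ext_iff.mp hg.symm
    change g • c ∉ g • e₀
    rwa [hmem]
  let d : ℕ := (Finset.univ.filter fun x => (e₀, x) ∈ O).card
  have hd : ∀ e, (Finset.univ.filter fun x => (e, x) ∈ O).card = d := fun e => by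
    obtain ⟨g, rfl⟩ := exists_smul_eq G e₀ e
    refine (Finset.card_equiv (MulAction.toPerm g) fun x => ?_).symm
    simp only [Finset.mem_filter, Finset.mem_univ, true_and, toPerm_apply]
    rw [← hOinv g (e₀, x), Prod.smul_mk]
  obtain ⟨t₀, t₁, ht, hne⟩ : ∃ t₀ t₁ : K, 2 * t₀ + (d : K) * t₁ = 0 ∧ (t₁ ≠ 0 ∨ t₀ ≠ 0) := by
    by_cases h2 : (2 : K) = 0
    · exact ⟨1, 0, by rw [mul_zero, add_zero, mul_one, h2], Or.inr one_ne_zero⟩
    · exact ⟨-(d : K) / 2, 1, by field_simp; ring, Or.inl one_ne_zero⟩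
  let U : Set.powersetCard Ω 2 → Ω → K := fun e x =>
    if x ∈ e then t₀ else if (e, x) ∈ O then t₁ else 0
  have hU : ∀ (g : G) e x, U (g • e) (g • x) = U e x := fun g e x => by
    simp only [U, hmem]
    rw [if_congr (show (g • e, g • x) ∈ O ↔ (e, x) ∈ O from hOinv g (e, x)) rfl rfl]
  have hsum : ∀ e, ∑ x, U e x = 0 := fun e => by
    have h1 : ∀ x, U e x = (if x ∈ e then t₀ else 0) + (if (e, x) ∈ O then t₁ else 0) := fun x => by
      by_cases hx : x ∈ e
      · rw [if_pos hx, if_neg fun hO' => hdis e x hO' hx, add_zero]; exact if_pos hx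
      · rw [if_neg hx, zero_add]; exact if_neg hx
    rw [Finset.sum_congr rfl fun x _ => h1 x, Finset.sum_add_distrib, ← Finset.sum_filter,
      ← Finset.sum_filter, Finset.sum_const, Finset.sum_const, hd e,
      show (Finset.univ.filter fun x => x ∈ e) = (e : Finset Ω) from
        Finset.ext fun x => by simp [Set.powersetCard.mem_coe_iff],
      Set.powersetCard.card_eq, nsmul_eq_mul, nsmul_eq_mul]
    exact_mod_cast ht
  let F : Representation.IntertwiningMap (Cfsg.permSumZero K G Ω).toRepresentation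
      (Cfsg.permRep K G (Set.powersetCard Ω 2)) :=
    { toLinearMap :=
        { toFun := fun v e => ∑ x, U e x * (v : Ω → K) x
          map_add' := fun v w => funext fun e => by
            simp [mul_add, Finset.sum_add_distrib]
          map_smul' := fun r v => funext fun e => by
            simp [Finset.mul_sum, mul_left_comm] }
      isIntertwining' := fun g => LinearMap.ext fun v => funext fun e => by
        change ∑ x, U e x * (v : Ω → K) (g⁻¹ • x) = ∑ x, U (g⁻¹ • e) x * (v : Ω → K) x
        refine (Fintype.sum_equiv (MulAction.toPerm g) _ _ fun y => ?_).symm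
        rw [toPerm_apply, inv_smul_smul, ← hU g⁻¹ e (g • y), inv_smul_smul] }
  have hF : F = 0 := h F fun v hv => funext fun e => by
    obtain ⟨r, hr⟩ := Submodule.mem_span_singleton.mp hv
    change ∑ x, U e x * (v : Ω → K) x = 0
    rw [← hr]
    simp only [Pi.smul_apply, smul_eq_mul, mul_one]
    rw [← Finset.sum_mul, hsum, zero_mul]
  have hflat : ∀ x y, U e₀ x = U e₀ y := fun x y => by
    have hv : (Pi.single x 1 - Pi.single y 1 : Ω → K) ∈ (Cfsg.permSumZero K G Ω).toSubmodule := by
      change ∑ z, (Pi.single x (1 : K) - Pi.single y 1 : Ω → K) z = 0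
      simp
    have := congrFun (DFunLike.congr_fun hF ⟨_, hv⟩) e₀
    change ∑ z, U e₀ z * (Pi.single x (1 : K) - Pi.single y 1 : Ω → K) z = 0 at this
    simpa [mul_sub, Pi.single_apply, sub_eq_zero] using this
  have hcO : (e₀, c) ∈ O := mem_orbit_self _
  have hc'O : (e₀, c') ∉ O := fun ⟨g, hg⟩ => hno ⟨g, congrArg Prod.fst hg, congrArg Prod.snd hg⟩
  have h1 := hflat c c'
  simp only [U, if_neg hc, if_neg hc', if_pos hcO, if_neg hc'O] at h1
  obtain ⟨m, hm⟩ : ∃ m, m ∈ e₀ := by
    obtain ⟨m, hm⟩ := Finset.card_pos.mp (show 0 < (e₀ : Finset Ω).card by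
      rw [Set.powersetCard.card_eq]; norm_num)
    exact ⟨m, hm⟩
  have h0 := hflat m c'
  simp only [U, if_pos hm, if_neg hc', if_neg hc'O] at h0
  exact hne.elim (fun h => h h1) (fun h => h h0)

/-- Let a finite group act faithfully and doubly transitively with point stabilisers of even order, and let `K` have characteristic `p` dividing the degree. If the heart of the permutation module admits no non-zero equivariant map to the permutation module on unordered pairs (phrased: every intertwining map from the sum-zero functions vanishing on the constants is zero), the action is triply transitive. -/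
theorem result {G : Type*} [Group G] [Finite G] {K : Type*} [Field K] {p : ℕ} [Fact p.Prime] [CharP K p] {Ω : Type*} [Fintype Ω] [DecidableEq Ω] [MulAction G Ω] [FaithfulSMul G Ω] (h2 : MulAction.IsMultiplyPretransitive G Ω 2) (hp : p ∣ Fintype.card Ω) (heven : ∀ a : Ω, Even (Nat.card (MulAction.stabilizer G a))) (h : ∀ f : Representation.IntertwiningMap (Cfsg.permSumZero K G Ω).toRepresentation (Cfsg.permRep K G (Set.powersetCard Ω 2)), (∀ v : (Cfsg.permSumZero K G Ω).toSubmodule, (v : Ω → K) ∈ (Cfsg.permConstants K G Ω).toSubmodule → f v = 0) → f = 0) : MulAction.IsMultiplyPretransitive G Ω 3 := by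
  classical
  have := Set.powersetCard.isPretransitive_of_isMultiplyPretransitive (G := G) (α := Ω) (n := 2) (h := h2)
  have h2' : ∀ {a b c d : Ω}, a ≠ b → c ≠ d → ∃ g : G, g • a = c ∧ g • b = d :=
    is_two_pretransitive_iff.mp h2
  have hpair : ∀ a b c b' c' : Ω, b ≠ a → c ≠ a → b ≠ c → b' ≠ a → c' ≠ a → b' ≠ c' →
      ∃ g : G, g • a = a ∧ ((g • b = b' ∧ g • c = c') ∨ (g • b = c' ∧ g • c = b')) := by
    intro a b c b' c' hba hca hbc hba' hca' hbc'
    obtain ⟨g₁, hb, hc⟩ := h2' hbc hbc'
    let e : Set.powersetCard Ω 2 := Set.powersetCard.ofCard (Finset.card_pair hbc')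
    have hmem : ∀ x, x ∈ e ↔ x = b' ∨ x = c' := fun x => by
      rw [← Set.powersetCard.mem_coe_iff]
      simp [e]
    obtain ⟨g₂, he, ha⟩ := pair_stabilizer_transitive this h e (c := g₁ • a) (c' := a)
      (by rw [hmem, ← hb, ← hc, smul_left_cancel_iff, smul_left_cancel_iff]
          exact not_or.mpr ⟨hba.symm, hca.symm⟩)
      (by rw [hmem]; exact not_or.mpr ⟨hba'.symm, hca'.symm⟩)
    have him : ∀ x, x ∈ e → g₂ • x ∈ e := fun x hx => by
      rw [← he, ← Set.powersetCard.mem_coe_iff, Set.powersetCard.coe_smul]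
      exact Finset.smul_mem_smul_finset hx
    refine ⟨g₂ * g₁, by rw [mul_smul, ha], ?_⟩
    rw [mul_smul, mul_smul, hb, hc]
    have hne : g₂ • b' ≠ g₂ • c' := fun e => hbc' (smul_left_cancel g₂ e)
    rcases (hmem _).mp (him b' ((hmem b').mpr (Or.inl rfl))) with hb1 | hb1 <;>
      rcases (hmem _).mp (him c' ((hmem c').mpr (Or.inr rfl))) with hc1 | hc1
    · exact absurd (hb1.trans hc1.symm) hne
    · exact Or.inl ⟨hb1, hc1⟩
    · exact Or.inr ⟨hb1, hc1⟩
    · exact absurd (hb1.trans hc1.symm) hne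
  have hswap : ∀ a b c : Ω, b ≠ a → c ≠ a → b ≠ c →
      ∃ g : G, g • a = a ∧ g • b = c ∧ g • c = b := by
    intro a b c hba hca hbc
    obtain ⟨t, ht⟩ := exists_prime_orderOf_dvd_card' (G := stabilizer G a) 2
      (even_iff_two_dvd.mp (heven a))
    have hta : (t : G) • a = a := t.2
    have ht2 : (t : G) * t = 1 := by
      have : t * t = 1 := by rw [← pow_two, ← ht, pow_orderOf_eq_one]
      exact congrArg Subtype.val this
    obtain ⟨x, hx⟩ : ∃ x, (t : G) • x ≠ x := by
      by_contra hall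
      push Not at hall
      have h1 : (t : G) = 1 := eq_of_smul_eq_smul (α := Ω) fun x => by rw [hall x, one_smul]
      have h1' : t = 1 := Subtype.ext h1
      rw [h1', orderOf_one] at ht
      omega
    have hxa : x ≠ a := fun e => hx (by rw [e, hta])
    have hxa' : (t : G) • x ≠ a := fun e => hxa (smul_left_cancel (t : G) (e.trans hta.symm))
    obtain ⟨g, hga, hg⟩ := hpair a x ((t : G) • x) b c hxa hxa' hx.symm hba hca hbc
    have htt : (t : G) • (t : G) • x = x := by rw [← mul_smul, ht2, one_smul]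
    have hinv : ∀ u v : Ω, g • u = v → g⁻¹ • v = u := fun u v e => by rw [← e, inv_smul_smul]
    refine ⟨g * t * g⁻¹, by rw [mul_smul, mul_smul, hinv a a hga, hta, hga], ?_⟩
    simp only [mul_smul]
    rcases hg with ⟨h1, h2⟩ | ⟨h1, h2⟩
    · exact ⟨by rw [hinv _ _ h1, h2], by rw [hinv _ _ h2, htt, h1]⟩
    · exact ⟨by rw [hinv _ _ h2, htt, h1], by rw [hinv _ _ h1, h2]⟩
  rcases subsingleton_or_nontrivial Ω with hs | hn
  · have : Fintype.card Ω ≤ 1 := Fintype.card_le_one_iff_subsingleton.mpr hs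
    refine ⟨fun u v => absurd (u.injective (Subsingleton.elim (u 0) (u 1))) (by decide)⟩
  obtain ⟨a, b, hab⟩ := hn
  refine Perm.isMultiplyPretransitive_three_of_stabilizer h2 a b hab
    fun x z hxa hxb hza hzb => ?_
  obtain ⟨g, hga, ⟨h1, h2⟩ | ⟨h1, h2⟩⟩ := hpair a b x b z hab.symm hxa hxb.symm hab.symm hza hzb.symm
  · exact ⟨g, hga, h1, h2⟩
  · obtain ⟨s, hsa, hsb, hsz⟩ := hswap a b z hab.symm hza hzb.symm
    exact ⟨s * g, by rw [mul_smul, hga, hsa], by rw [mul_smul, h1, hsz], by rw [mul_smul, h2, hsb]⟩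

end Cfsg.Agent.S0672
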