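import Cfsg.Statements.S0677
import Cfsg.Agent.S0675
import Cfsg.Agent.Lib.Perm.PrimeTransitive
import Cfsg.Agent.Lib.Perm.SharpThreeExchange
import Cfsg.Agent.EqLemmas

set_option autoImplicit false
open Cfsg

namespace Cfsg.Agent.S0677

open MulAction

variable {α : Type*} [Fintype α] [DecidableEq α] {p : ℕ} [Fact p.Prime]

theorem not_dvd_card_of_index (hα : Fintype.card α = p) (G : Subgroup (Equiv.Perm α))
    [IsPretransitive G α] (H : Subgroup G) (hH : H.index = p) : ¬ p ∣ Nat.card H := fun h => by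
  apply Perm.not_sq_dvd_card_of_prime_degree (G := G) (Nat.card_eq_fintype_card.trans hα)
  rw [← H.index_mul_card, hH, pow_two]
  exact mul_dvd_mul_left p h

/-- A subgroup fixing a point is that point stabiliser. -/
theorem eq_stabilizer_of_fix (hα : Fintype.card α = p) (G : Subgroup (Equiv.Perm α))
    [IsPretransitive G α] (H : Subgroup G) (hH : H.index = p) (a : α)
    (h : ∀ g ∈ H, g • a = a) : H = stabilizer G a := by
  refine Subgroup.eq_of_le_of_card_ge (fun g hg => h g hg) ?_
  have h1 := H.index_mul_card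
  have h2 := (stabilizer G a).index_mul_card
  rw [hH] at h1
  rw [index_stabilizer_of_transitive, Nat.card_eq_fintype_card, hα, ← h1] at h2
  exact (Nat.eq_of_mul_eq_mul_left (Fact.out : p.Prime).pos h2).le

/-- The case of a normal Sylow subgroup. -/
theorem fix_of_normal (hα : Fintype.card α = p) (G : Subgroup (Equiv.Perm α))
    [IsPretransitive G α] (P : Sylow p G) (hPn : (P : Subgroup G).Normal)
    (H : Subgroup G) (hH : H.index = p) : ∃ a : α, ∀ g ∈ H, g • a = a := by
  obtain ⟨hP, ht, hC, -⟩ :=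
    Perm.sylow_prime_degree (G := G) (Nat.card_eq_fintype_card.trans hα) P
  have hne : Nonempty α := Fintype.card_pos_iff.mp (hα ▸ (Fact.out : p.Prime).pos)
  obtain ⟨a⟩ := hne
  have : IsCyclic (P : Subgroup G) := isCyclic_of_prime_card hP
  let ι : H →* MulAut (P : Subgroup G) := MulAut.conjNormal.comp H.subtype
  have hι : Function.Injective ι := by
    rw [injective_iff_map_eq_one]
    intro h hh
    have hc : (h : G) ∈ (P : Subgroup G) := by
      rw [← hC, Subgroup.mem_centralizer_iff]
      intro x hx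
      have := congrArg (fun f : MulAut (P : Subgroup G) => ((f ⟨x, hx⟩ : (P : Subgroup G)) : G)) hh
      simp only [ι, MonoidHom.comp_apply, Subgroup.coe_subtype, MulAut.conjNormal_apply,
        MulAut.one_apply] at this
      exact (mul_inv_eq_iff_eq_mul.mp this).symm
    by_contra hne
    apply not_dvd_card_of_index hα G H hH
    have h1 := Subgroup.orderOf_dvd_natCard _ hc
    rw [hP] at h1
    rcases (Nat.dvd_prime Fact.out).mp h1 with h2 | h2
    · exact absurd (Subtype.ext (orderOf_eq_one_iff.mp h2)) hne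
    · exact h2 ▸ Subgroup.orderOf_dvd_natCard H h.2
  have : IsCyclic (ZMod (Nat.card (P : Subgroup G)))ˣ := by
    rw [hP]; exact ZMod.isCyclic_units_prime Fact.out
  have : IsCyclic H :=
    isCyclic_of_injective ((IsCyclic.mulAutMulEquiv (P : Subgroup G)).toMonoidHom.comp ι)
      ((IsCyclic.mulAutMulEquiv (P : Subgroup G)).injective.comp hι)
  obtain ⟨h, hgen⟩ := IsCyclic.exists_generator (α := H)
  suffices ∃ b : α, (h : G) • b = b by
    obtain ⟨b, hb⟩ := this
    refine ⟨b, fun g hg => ?_⟩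
    obtain ⟨k, hk⟩ := Subgroup.mem_zpowers_iff.mp (hgen ⟨g, hg⟩)
    have hmem : h ^ k ∈ stabilizer H b := zpow_mem (show h ∈ stabilizer H b from hb) k
    rw [hk] at hmem
    exact hmem
  by_cases h1 : h = 1
  · exact ⟨a, by rw [h1, Subgroup.coe_one, one_smul]⟩
  obtain ⟨u, hu⟩ := exists_smul_eq (P : Subgroup G) a ((h : G) • a)
  let F : ↥(P : Subgroup G) → ↥(P : Subgroup G) := fun v => v⁻¹ * ι h v
  have hFi : Function.Injective F := fun v w e => by
    let : CommGroup (P : Subgroup G) := IsCyclic.commGroup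
    have e' : ι h (v * w⁻¹) = v * w⁻¹ := by
      simp only [F] at e
      rw [map_mul, map_inv, show ι h v = v * (w⁻¹ * ι h w) by rw [← e, mul_inv_cancel_left],
        mul_assoc, mul_inv_cancel_right]
    by_contra hvw
    refine h1 (hι (MulEquiv.ext fun x => ?_))
    rw [map_one, MulAut.one_apply]
    obtain ⟨k, rfl⟩ := Subgroup.mem_zpowers_iff.mp
      (mem_zpowers_of_prime_card hP (g' := x) (g := v * w⁻¹) fun h => hvw (mul_inv_eq_one.mp h))
    rw [map_zpow, e']
  obtain ⟨v, hv⟩ := Finite.injective_iff_surjective.mp hFi u⁻¹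
  refine ⟨v • a, ?_⟩
  have hval : ((ι h v : (P : Subgroup G)) : G) = (h : G) * v * (h : G)⁻¹ :=
    MulAut.conjNormal_apply _ _
  have hv' : ι h v * u = v := by
    simp only [F] at hv
    rw [← mul_inv_cancel_left v (ι h v), hv, mul_assoc, inv_mul_cancel, mul_one]
  change (h : G) • (v : G) • a = (v : G) • a
  rw [← mul_smul]
  calc ((h : G) * (v : G)) • a = ((h : G) * v * (h : G)⁻¹) • (h : G) • a := by
        rw [← mul_smul, inv_mul_cancel_right]
    _ = (v : G) • a := by
        rw [← hu, ← hval]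
        change ((ι h v : (P : Subgroup G)) : G) • (u : G) • a = (v : G) • a
        rw [← mul_smul, ← Subgroup.coe_mul, hv']

/-- The doubly transitive case. -/
theorem fix_of_two_transitive (hα : Fintype.card α = p) (hp2 : p ≠ 2) (G : Subgroup (Equiv.Perm α))
    [IsPretransitive G α] (h2 : IsMultiplyPretransitive G α 2) (P : Sylow p G)
    (heven : Even (Nat.card (Subgroup.normalizer ((P : Subgroup G) : Set G))))
    (H : Subgroup G) (hH : H.index = p) : ∃ a : α, ∀ g ∈ H, g • a = a := by
  classical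
  have hp := (Fact.out : p.Prime)
  obtain ⟨hP, ht, hC, -⟩ :=
    Perm.sylow_prime_degree (G := G) (Nat.card_eq_fintype_card.trans hα) P
  have hne : Nonempty α := Fintype.card_pos_iff.mp (hα ▸ hp.pos)
  obtain ⟨t, ht2⟩ := exists_prime_orderOf_dvd_card'
    (G := Subgroup.normalizer ((P : Subgroup G) : Set G)) 2 heven.two_dvd
  have htt : (t : G) * t = 1 := by
    rw [← Subgroup.coe_mul, ← pow_two, ← ht2, pow_orderOf_eq_one, Subgroup.coe_one]
  have ht1 : (t : G) ≠ 1 := fun e => by
    rw [← orderOf_eq_one_iff, Subgroup.orderOf_coe, ht2] at e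
    omega
  obtain ⟨σ, hσord⟩ := exists_prime_orderOf_dvd_card' (G := (P : Subgroup G)) p (dvd_of_eq hP.symm)
  have hσ1 : σ ≠ 1 := fun e => hp.ne_one (by rw [← hσord, e, orderOf_one])
  have hgen : ∀ x : (P : Subgroup G), x ∈ Subgroup.zpowers σ :=
    fun x => mem_zpowers_of_prime_card hP hσ1
  -- `t` inverts `σ`
  have hinvert : (t : G) * σ * (t : G)⁻¹ = ((σ : G))⁻¹ := by
    have hmem : ∀ g ∈ (P : Subgroup G), (t : G) * g * (t : G)⁻¹ ∈ (P : Subgroup G) :=
      fun g hg => (Subgroup.mem_normalizer_iff.mp t.2 g).mp hg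
    obtain ⟨k, hk⟩ := Subgroup.mem_zpowers_iff.mp (hgen ⟨_, hmem σ σ.2⟩)
    have hk' : (t : G) * σ * (t : G)⁻¹ = (σ : G) ^ k := by
      rw [← Subgroup.coe_zpow, hk]
    have h3 : (σ : G) ^ (k * k) = σ := by
      rw [zpow_mul, ← hk', conj_zpow, ← hk', show (t : G)⁻¹ = t from inv_eq_of_mul_eq_one_right htt,
        show (t : G) * ((t : G) * σ * t) * t = ((t : G) * t) * σ * ((t : G) * t) by group, htt,
        one_mul, mul_one]
    have h4 : ((k : ZMod p)) * k = 1 := by
      have : (σ : G) ^ (k * k - 1) = 1 := by rw [zpow_sub_one, h3, mul_inv_cancel]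
      rw [← orderOf_dvd_iff_zpow_eq_one, Subgroup.orderOf_coe, hσord,
        ← ZMod.intCast_zmod_eq_zero_iff_dvd, Int.cast_sub, Int.cast_mul, Int.cast_one, sub_eq_zero]
        at this
      exact this
    rcases mul_self_eq_one_iff.mp h4 with e | e
    · exfalso
      have hkσ : (σ : G) ^ k = σ := by
        conv_rhs => rw [← zpow_one (σ : G)]
        rw [zpow_eq_zpow_iff_modEq, Subgroup.orderOf_coe, hσord, ← ZMod.intCast_eq_intCast_iff,
          e, Int.cast_one]
      have htP : (t : G) ∈ (P : Subgroup G) := by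
        suffices h : (t : G) ∈ Subgroup.centralizer ((P : Subgroup G) : Set G) by rwa [hC] at h
        rw [Subgroup.mem_centralizer_iff]
        intro g hg
        obtain ⟨j, hj⟩ := Subgroup.mem_zpowers_iff.mp (hgen ⟨g, hg⟩)
        have hg' : g = (σ : G) ^ j := by rw [← Subgroup.coe_zpow, hj]
        rw [hg']
        exact ((show Commute (t : G) σ from
          mul_inv_eq_iff_eq_mul.mp (hk'.trans hkσ)).zpow_right j).eq.symm
      have := Subgroup.orderOf_dvd_natCard _ htP
      rw [Subgroup.orderOf_coe, ht2, hP] at this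
      exact hp2 ((Nat.prime_dvd_prime_iff_eq Nat.prime_two hp).mp this).symm
    · rw [hk', ← zpow_neg_one, zpow_eq_zpow_iff_modEq, Subgroup.orderOf_coe, hσord,
        ← ZMod.intCast_eq_intCast_iff, e, Int.cast_neg, Int.cast_one]
  -- powers of `σ` indexed by `ZMod p`
  let s : ZMod p → G := fun i => (σ : G) ^ i.val
  have hsadd : ∀ i j, s (i + j) = s i * s j := fun i j => by
    simp only [s]
    rw [← pow_add, pow_eq_pow_iff_modEq, Subgroup.orderOf_coe, hσord, ← ZMod.natCast_eq_natCast_iff]
    simp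
  have hs0 : s 0 = 1 := by simp [s]
  have hsneg : ∀ i, s (-i) = (s i)⁻¹ := fun i => eq_inv_of_mul_eq_one_left (by
    rw [← hsadd, neg_add_cancel, hs0])
  have hts : ∀ i, (t : G) * s i = s (-i) * t := fun i => by
    rw [hsneg, ← mul_inv_eq_iff_eq_mul]
    simp only [s]
    rw [← conj_pow, hinvert, inv_pow]
  -- a fixed point and a fixed coset of `t`
  have hfix : ∀ (β : Type _) (_ : Fintype β) (_ : MulAction G β), Fintype.card β = p →
      ∃ x : β, (t : G) • x = x := by
    intro β _ _ hβ
    by_contra hcon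
    push Not at hcon
    let τ : Equiv.Perm β := MulAction.toPerm (t : G)
    have h1 : τ.support = Finset.univ := Finset.eq_univ_of_forall fun x =>
      Equiv.Perm.mem_support.mpr (hcon x)
    have h2 := Perm.even_support_of_sq_eq_one (t := τ) (Equiv.ext fun x => by
      change (t : G) • (t : G) • x = x
      rw [← mul_smul, htt, one_smul])
    rw [h1, Finset.card_univ, hβ] at h2
    exact (Nat.not_even_iff_odd.mpr (hp.odd_of_ne_two hp2)) h2
  let : Fintype (G ⧸ H) := Fintype.ofFinite _
  have hQcard : Fintype.card (G ⧸ H) = p := by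
    rw [← Nat.card_eq_fintype_card, ← Subgroup.index, hH]
  obtain ⟨q₀, hq₀⟩ : ∃ q : G ⧸ H, (t : G) • q = q := hfix _ inferInstance inferInstance hQcard
  obtain ⟨g₀, rfl⟩ := QuotientGroup.mk_surjective q₀
  obtain ⟨a, hta⟩ : ∃ a : α, (t : G) • a = a := hfix _ inferInstance inferInstance hα
  have hsbij : Function.Bijective fun i => s i • a := by
    rw [Fintype.bijective_iff_surjective_and_card]
    refine ⟨fun x => ?_, by rw [ZMod.card, hα]⟩
    obtain ⟨u, hu⟩ := exists_smul_eq (P : Subgroup G) a x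
    obtain ⟨k, hk⟩ := Subgroup.mem_zpowers_iff.mp (hgen u)
    refine ⟨(k : ZMod p), ?_⟩
    change ((σ : G) ^ (k : ZMod p).val) • a = x
    rw [← hu, ← hk]
    change _ = ((σ ^ k : (P : Subgroup G)) : G) • a
    rw [Subgroup.coe_zpow, ← zpow_natCast]
    congr 1
    rw [zpow_eq_zpow_iff_modEq, Subgroup.orderOf_coe, hσord, ← ZMod.intCast_eq_intCast_iff]
    simp
  have hsQ : Function.Bijective fun i => s i • (g₀ : G ⧸ H) := by
    rw [Fintype.bijective_iff_injective_and_card]
    refine ⟨fun i j e => ?_, by rw [ZMod.card, hQcard]⟩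
    by_contra hij
    have h1 : g₀⁻¹ * s (i - j) * g₀ ∈ H := by
      have e' : s (i - j) • (g₀ : G ⧸ H) = (g₀ : G ⧸ H) := by
        rw [show i - j = -j + i by ring, hsadd, mul_smul, hsneg]
        exact inv_smul_eq_iff.mpr e
      rw [MulAction.Quotient.smul_mk, QuotientGroup.eq, smul_eq_mul] at e'
      simpa [mul_assoc] using inv_mem e'
    have h2 : orderOf (g₀⁻¹ * s (i - j) * g₀) = p := by
      have h3 : g₀⁻¹ * s (i - j) * g₀ = MulAut.conj g₀⁻¹ (s (i - j)) := by simp
      rw [h3, MulEquiv.orderOf_eq]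
      refine orderOf_eq_prime ?_ ?_
      · simp only [s]
        rw [← pow_mul, mul_comm, pow_mul, show (σ : G) ^ p = 1 by
          have h := pow_orderOf_eq_one σ
          rw [hσord] at h
          exact congrArg Subtype.val h, one_pow]
      · simp only [s]
        intro e3
        rw [← orderOf_dvd_iff_pow_eq_one, Subgroup.orderOf_coe, hσord,
          ← ZMod.natCast_eq_zero_iff, ZMod.natCast_zmod_val, sub_eq_zero] at e3
        exact hij e3
    exact not_dvd_card_of_index hα G H hH (h2 ▸ Subgroup.orderOf_dvd_natCard H h1)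
  -- the blocks
  obtain ⟨x₀⟩ := (inferInstance : Nonempty α)
  let O : Set α := orbit H x₀
  have hOinv : ∀ g ∈ H, ∀ x, g • x ∈ O ↔ x ∈ O := fun g hg x => by
    constructor
    · intro hx
      have := mem_orbit_of_mem_orbit (⟨g⁻¹, inv_mem hg⟩ : H) hx
      rwa [Subgroup.smul_def, inv_smul_smul] at this
    · intro hx
      exact mem_orbit_of_mem_orbit (⟨g, hg⟩ : H) hx
  let blk : G ⧸ H → Set α := Quotient.lift (fun g : G => {x | g⁻¹ • x ∈ O}) fun g g' e => by
    have hm : g⁻¹ * g' ∈ H := (QuotientGroup.leftRel_apply).mp e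
    ext x
    change g⁻¹ • x ∈ O ↔ g'⁻¹ • x ∈ O
    rw [← hOinv _ hm (g'⁻¹ • x), ← mul_smul, mul_assoc, mul_inv_cancel, mul_one]
  have hblk : ∀ (g : G) (x : α) (q : G ⧸ H), g • x ∈ blk (g • q) ↔ x ∈ blk q := fun g x q => by
    obtain ⟨g', rfl⟩ := QuotientGroup.mk_surjective q
    change (g * g')⁻¹ • g • x ∈ O ↔ g'⁻¹ • x ∈ O
    rw [← mul_smul, _root_.mul_inv_rev, inv_mul_cancel_right]
  let D : Finset (ZMod p) := Finset.univ.filter fun j => s j • a ∈ blk (g₀ : G ⧸ H)
  have hDneg : ∀ j, -j ∈ D ↔ j ∈ D := fun j => by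
    simp only [D, Finset.mem_filter, Finset.mem_univ, true_and]
    rw [← hblk (t : G) (s j • a) (g₀ : G ⧸ H), hq₀, ← mul_smul, hts, mul_smul, hta]
  let N : α → α → ℕ := fun x y => (Finset.univ.filter fun q => x ∈ blk q ∧ y ∈ blk q).card
  have hN : ∀ (g : G) x y, N (g • x) (g • y) = N x y := fun g x y => by
    refine (Finset.card_equiv (MulAction.toPerm g) fun q => ?_).symm
    simp only [Finset.mem_filter, Finset.mem_univ, true_and, MulAction.toPerm_apply, hblk]
  have hNc : ∀ c : ZMod p, N a (s c • a) = (D.filter fun x => c - x ∈ D).card := fun c => by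
    have e : ∀ (i j : ZMod p), s j • a ∈ blk (s i • (g₀ : G ⧸ H)) ↔ j - i ∈ D := fun i j => by
      rw [show s j • a = s i • (s (j - i) • a) by rw [← mul_smul, ← hsadd, add_sub_cancel], hblk]
      simp [D]
    refine (Finset.card_bij (fun x _ => s x • (g₀ : G ⧸ H)) ?_ ?_ ?_).symm
    · intro x hx
      simp only [Finset.mem_filter] at hx
      simp only [Finset.mem_filter, Finset.mem_univ, true_and]
      refine ⟨?_, (e _ _).mpr hx.2⟩
      have := (e x 0).mpr (by rw [zero_sub, hDneg]; exact hx.1)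
      rwa [hs0, one_smul] at this
    · intro x _ y _ e'
      exact hsQ.1 e'
    · intro q hq
      obtain ⟨i, rfl⟩ := hsQ.2 q
      simp only [Finset.mem_filter, Finset.mem_univ, true_and] at hq
      refine ⟨i, Finset.mem_filter.mpr ⟨?_, (e _ _).mp hq.2⟩, rfl⟩
      have := (e i 0).mp (by rw [hs0, one_smul]; exact hq.1)
      rwa [zero_sub, hDneg] at this
  have h20 : (2 : ZMod p) ≠ 0 := by
    intro e
    have h : ((2 : ℕ) : ZMod p) = 0 := by exact_mod_cast e
    rw [ZMod.natCast_eq_zero_iff, Nat.prime_dvd_prime_iff_eq hp Nat.prime_two] at h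
    exact hp2 h
  have hpar : ∀ d : ZMod p, (N a (s (d + d) • a) : ZMod 2) = if d ∈ D then 1 else 0 := fun d => by
    rw [hNc]
    set S := D.filter fun x => d + d - x ∈ D
    have h0 : ∑ _x ∈ S.erase d, (1 : ZMod 2) = 0 := by
      refine Finset.sum_involution (fun x _ => d + d - x) (fun _ _ => by decide) ?_ ?_ ?_
      · intro x hx _ e
        refine (Finset.mem_erase.mp hx).1 (mul_left_cancel₀ h20 ?_)
        linear_combination -e
      · intro x hx
        obtain ⟨hne, hxS⟩ := Finset.mem_erase.mp hx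
        obtain ⟨h1, h2⟩ := Finset.mem_filter.mp hxS
        refine Finset.mem_erase.mpr ⟨fun e => hne (by linear_combination -e),
          Finset.mem_filter.mpr ⟨h2, by rwa [sub_sub_cancel]⟩⟩
      · intro x _
        exact sub_sub_cancel _ _
    rw [Finset.sum_const, nsmul_eq_mul, mul_one] at h0
    by_cases hd : d ∈ D
    · have hdS : d ∈ S := Finset.mem_filter.mpr ⟨hd, by rwa [add_sub_cancel_right]⟩
      rw [if_pos hd, ← Finset.card_erase_add_one hdS, Nat.cast_add, h0, zero_add, Nat.cast_one]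
    · have hdS : d ∉ S := fun h => hd (Finset.mem_filter.mp h).1
      rw [Finset.erase_eq_of_notMem hdS] at h0
      rw [if_neg hd, h0]
  have hconst : ∀ d d' : ZMod p, d ≠ 0 → d' ≠ 0 → d ∈ D → d' ∈ D := fun d d' hd hd' hmem => by
    have hne : ∀ c : ZMod p, c ≠ 0 → a ≠ s (c + c) • a := fun c hc e => by
      have h := hsbij.1 (show s (c + c) • a = s 0 • a by rw [hs0, one_smul, ← e])
      exact mul_ne_zero h20 hc (by rw [two_mul, h])
    obtain ⟨g, hg1, hg2⟩ := is_two_pretransitive_iff.mp h2 (hne d hd) (hne d' hd')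
    have h := hN g a (s (d + d) • a)
    rw [hg1, hg2] at h
    have h' := congrArg (fun n : ℕ => (n : ZMod 2)) h
    simp only [hpar, if_pos hmem] at h'
    by_contra hn
    rw [if_neg hn] at h'
    exact zero_ne_one h'
  have hmemD : ∀ j, j ∈ D ↔ g₀⁻¹ • s j • a ∈ O := fun j => by
    simp only [D, Finset.mem_filter, Finset.mem_univ, true_and]
    rfl
  have hx : ∀ x : α, ∃ j, g₀⁻¹ • s j • a = x := fun x => by
    obtain ⟨j, hj⟩ := hsbij.2 (g₀ • x)
    exact ⟨j, inv_smul_eq_iff.mpr hj⟩
  by_cases hall : ∀ d : ZMod p, d ≠ 0 → d ∈ D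
  · have h0 : (0 : ZMod p) ∉ D := fun h0 => by
      have hO : ∀ x, x ∈ O := fun x => by
        obtain ⟨j, rfl⟩ := hx x
        apply (hmemD j).mp
        by_cases hj : j = 0
        exacts [hj ▸ h0, hall j hj]
      have : IsPretransitive H α := ⟨fun x y => by
        obtain ⟨g, rfl⟩ := hO x
        obtain ⟨g', rfl⟩ := hO y
        exact ⟨g' * g⁻¹, show (g' * g⁻¹) • g • x₀ = g' • x₀ by
          rw [mul_smul, inv_smul_smul]⟩⟩
      exact not_dvd_card_of_index hα G H hH
        (Perm.prime_dvd_card_of_transitive (Nat.card_eq_fintype_card.trans hα) H)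
    refine ⟨g₀⁻¹ • a, fun g hg => ?_⟩
    have hout : g₀⁻¹ • a ∉ O := fun h => h0 ((hmemD 0).mpr (by rwa [hs0, one_smul]))
    obtain ⟨j, hj⟩ := hx (g • g₀⁻¹ • a)
    by_cases hj0 : j = 0
    · rw [hj0, hs0, one_smul] at hj
      exact hj.symm
    · exfalso
      have := (hmemD j).mp (hall j hj0)
      rw [hj, hOinv g hg] at this
      exact hout this
  · push Not at hall
    obtain ⟨d₁, hd₁, hd₁'⟩ := hall
    have hsingle : ∀ y ∈ O, y = g₀⁻¹ • a := fun y hy => by
      obtain ⟨j, rfl⟩ := hx y
      by_cases hj : j = 0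
      · rw [hj, hs0, one_smul]
      · exact absurd (hconst j d₁ hj hd₁ ((hmemD j).mpr hy)) hd₁'
    refine ⟨x₀, fun g hg => ?_⟩
    rw [hsingle _ ((hOinv g hg x₀).mpr (mem_orbit_self x₀)), hsingle _ (mem_orbit_self x₀)]

/-- In a transitive permutation group of prime degree `p` whose Sylow `p`-normaliser has even order, the point stabilisers are the only subgroups of index `p`. -/
theorem result {α : Type*} [Fintype α] [DecidableEq α] {p : ℕ} [Fact p.Prime] (hα : Fintype.card α = p) (G : Subgroup (Equiv.Perm α)) [MulAction.IsPretransitive G α] (P : Sylow p G) (heven : Even (Nat.card (Subgroup.normalizer ((P : Subgroup G) : Set G)))) (H : Subgroup G) (hH : H.index = p) : ∃ a : α, H = MulAction.stabilizer G a := by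
  have hp := (Fact.out : p.Prime)
  have hα' : Nat.card α = p := Nat.card_eq_fintype_card.trans hα
  suffices ∃ a : α, ∀ g ∈ H, g • a = a by
    obtain ⟨a, ha⟩ := this
    exact ⟨a, eq_stabilizer_of_fix hα G H hH a ha⟩
  by_cases hn : (P : Subgroup G).Normal
  · exact fix_of_normal hα G P hn H hH
  have hp2 : p ≠ 2 := by
    rintro rfl
    apply hn
    obtain ⟨d, n, hd, hN, -, -, -⟩ := Perm.exists_sylow_data (G := G) hα' P
    have hd1 : d = 1 := Nat.dvd_one.mp hd
    have hcard := Perm.card_eq_prime_of_normalizer_eq (G := G) hα' P (by rw [hN, hd1, mul_one])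
    have hPtop : (P : Subgroup G) = ⊤ := Subgroup.eq_top_of_card_eq _ (by
      rw [(Perm.sylow_prime_degree (G := G) hα' P).1, hcard])
    rw [hPtop]
    infer_instance
  rcases S0675.result (hα.symm ▸ hp) G with hs | h2
  · exact absurd (Perm.sylow_normal_of_isSolvable (G := G) hα' hs P) hn
  · exact fix_of_two_transitive hα hp2 G h2 P heven H hH

end Cfsg.Agent.S0677
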