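import Cfsg.Statements.S0678
import Cfsg.Agent.Lib.Perm.PrimeTransitive
import Mathlib.GroupTheory.GroupAction.Jordan
import Mathlib.GroupTheory.SpecificGroups.Alternating
import Cfsg.Agent.EqLemmas

set_option autoImplicit false
open Cfsg

namespace Cfsg.Agent.S0678

open MulAction Equiv

variable {α : Type*} [Fintype α] [DecidableEq α]

theorem mem_alternating_of_pow_seven {g : Perm α} (h : g ^ 7 = 1) : g ∈ alternatingGroup α := by
  rw [Equiv.Perm.mem_alternatingGroup]
  have h1 : Perm.sign g ^ 7 = 1 := by rw [← map_pow, h, map_one]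
  rwa [Int.units_pow_eq_pow_mod_two, show 7 % 2 = 1 from rfl, pow_one] at h1

theorem isPretransitive_inf_alternating (hα : Fintype.card α = 7) (G : Subgroup (Perm α))
    [IsPretransitive G α] : IsPretransitive ↥(G ⊓ alternatingGroup α) α := by
  have : Fact (Nat.Prime 7) := ⟨by norm_num⟩
  obtain ⟨P⟩ : Nonempty (Sylow 7 G) := inferInstance
  obtain ⟨hP, ht, -⟩ := Perm.sylow_prime_degree (G := G) (Nat.card_eq_fintype_card.trans hα) P
  refine ⟨fun x y => ?_⟩
  obtain ⟨g, hg⟩ := exists_smul_eq (P : Subgroup G) x y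
  have h7 : (g : G) ^ 7 = 1 := by
    have h := pow_card_eq_one' (x := g)
    rw [hP] at h
    exact congrArg Subtype.val h
  exact ⟨⟨((g : G) : Perm α), (g : G).2, mem_alternating_of_pow_seven (by
    rw [← Subgroup.coe_pow, h7, Subgroup.coe_one])⟩, hg⟩

theorem data_of_le_alternating (hα : Fintype.card α = 7) (M : Subgroup (Perm α))
    [IsPretransitive M α] (hM : M ≤ alternatingGroup α) (hsol : ¬ Group.IsSolvable M) :
    ∃ n, Nat.card M = 21 * n ∧ n % 7 = 1 ∧ n ≠ 1 ∧ ∀ P : Sylow 7 M, Nat.card (Sylow 7 M) = n := by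
  have : Fact (Nat.Prime 7) := ⟨by norm_num⟩
  have hα' : Nat.card α = 7 := Nat.card_eq_fintype_card.trans hα
  obtain ⟨P⟩ : Nonempty (Sylow 7 M) := inferInstance
  obtain ⟨hP, ht, hC, -⟩ := Perm.sylow_prime_degree (G := M) hα' P
  obtain ⟨d, n, hd, hN, hn, hn1, hcard⟩ := Perm.exists_sylow_data (G := M) hα' P
  have hnot : ¬ IsCyclic M := fun h => hsol (by
    let : CommGroup M := IsCyclic.commGroup
    infer_instance)
  have hd1 : d ≠ 1 := by
    rintro rfl
    exact hnot (isCyclic_of_prime_card
      (Perm.card_eq_prime_of_normalizer_eq (G := M) hα' P (by rw [hN, mul_one])))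
  have hd2 : ¬ 2 ∣ d := by
    intro h2
    obtain ⟨t, ht2⟩ := exists_prime_orderOf_dvd_card'
      (G := Subgroup.normalizer ((P : Subgroup M) : Set M)) 2 (hN ▸ h2.mul_left 7)
    have hP' : Nat.card ↥((P : Subgroup M).map M.subtype) = 7 := by
      rw [Subgroup.card_map_of_injective M.subtype_injective, hP]
    have : IsPretransitive ↥((P : Subgroup M).map M.subtype) α := by
      refine ⟨fun x y => ?_⟩
      obtain ⟨g, hg⟩ := exists_smul_eq (P : Subgroup M) x y
      exact ⟨⟨_, (g : M), g.2, rfl⟩, hg⟩
    have ht1 : ((t : M) : Perm α) ≠ 1 := fun e => by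
      rw [← orderOf_eq_one_iff, Subgroup.orderOf_coe, Subgroup.orderOf_coe, ht2] at e
      omega
    have hCC : ∀ c : Perm α, (∀ g ∈ (P : Subgroup M).map M.subtype, g * c = c * g) →
        c ∈ (P : Subgroup M).map M.subtype := by
      intro c hc
      obtain ⟨a⟩ : Nonempty α := Fintype.card_pos_iff.mp (by omega)
      obtain ⟨g, hg⟩ := exists_smul_eq ↥((P : Subgroup M).map M.subtype) a (c a)
      have : c = g := Equiv.ext fun x => by
        obtain ⟨u, rfl⟩ := exists_smul_eq ↥((P : Subgroup M).map M.subtype) a x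
        change c ((u : Perm α) a) = (g : Perm α) ((u : Perm α) a)
        have h1 := DFunLike.congr_fun (hc u u.2) a
        obtain ⟨u', hu', e⟩ := u.2
        obtain ⟨g', hg', e'⟩ := g.2
        have hcy : IsCyclic (P : Subgroup M) := isCyclic_of_prime_card hP
        have hcomm : (u : Perm α) * g = g * u := by
          rw [← e, ← e', ← map_mul, ← map_mul]
          have := IsCyclic.commGroup.mul_comm (⟨u', hu'⟩ : (P : Subgroup M)) ⟨g', hg'⟩
          exact congrArg M.subtype (congrArg Subtype.val this)
        rw [← Perm.mul_apply, ← Perm.mul_apply, ← hcomm, ← hc u u.2, Perm.mul_apply,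
          Perm.mul_apply, show (g : Perm α) a = c a from hg]
      rw [this]
      exact g.2
    have hs := Perm.support_card_of_involution (p := 7) ((P : Subgroup M).map M.subtype) hα hP'
      hCC (by norm_num) ((t : M) : Perm α)
      (by rw [← orderOf_dvd_iff_pow_eq_one, Subgroup.orderOf_coe, Subgroup.orderOf_coe, ht2]) ht1
      (by
        rintro _ ⟨g, hg, rfl⟩
        exact ⟨(t : M) * g * (t : M)⁻¹, (Subgroup.mem_normalizer_iff.mp t.2 g).mp hg, rfl⟩)
    have hsign : Perm.sign ((t : M) : Perm α) = 1 := Equiv.Perm.mem_alternatingGroup.mp (hM (t : M).2)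
    have hord : orderOf ((t : M) : Perm α) = 2 := by
      rw [Subgroup.orderOf_coe, Subgroup.orderOf_coe, ht2]
    have hall : ∀ c ∈ Perm.cycleType ((t : M) : Perm α), c = 2 := fun c hc => by
      have h1 := Perm.dvd_of_mem_cycleType hc
      rw [hord] at h1
      exact Nat.le_antisymm (Nat.le_of_dvd two_pos h1) (Perm.two_le_of_mem_cycleType hc)
    have hrep := Multiset.eq_replicate_card.mpr hall
    have hsum := Perm.sum_cycleType ((t : M) : Perm α)
    rw [hrep, Multiset.sum_replicate, smul_eq_mul] at hsum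
    rw [Perm.sign_of_cycleType, hrep, Multiset.sum_replicate, Multiset.card_replicate,
      smul_eq_mul] at hsign
    rw [show Multiset.card (Perm.cycleType ((t : M) : Perm α)) = 3 by omega] at hsign
    exact absurd hsign (by decide)
  have hd3 : d = 3 := by
    have hd6 := Nat.le_of_dvd (by norm_num) hd
    interval_cases d <;> omega
  subst hd3
  refine ⟨n, by rw [hcard], hn1, fun h1 => hsol ?_, fun _ => hn.symm⟩
  exact Perm.isSolvable_of_normal_sylow (G := M) hα' P (hn.symm.trans h1)

theorem no_order_fifteen (hα : Fintype.card α = 7) (g : Perm α) : orderOf g ≠ 15 := by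
  intro h
  have hsum := Perm.sum_cycleType g
  have hle : g.support.card ≤ 7 := hα ▸ Finset.card_le_univ _
  have hlcm := Perm.lcm_cycleType g
  rw [h] at hlcm
  have hmem : ∀ c ∈ Perm.cycleType g, c = 3 ∨ c = 5 := fun c hc => by
    have h1 := Perm.dvd_of_mem_cycleType hc
    have h2 := Perm.two_le_of_mem_cycleType hc
    have h3 := (Multiset.le_sum_of_mem hc).trans (hsum.trans_le hle)
    rw [h] at h1
    interval_cases c <;> omega
  have h3 : 3 ∈ Perm.cycleType g := by
    by_contra h3
    have : Multiset.lcm (Perm.cycleType g) ∣ 5 := Multiset.lcm_dvd.mpr fun c hc => by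
      rcases hmem c hc with rfl | rfl
      · exact absurd hc h3
      · rfl
    rw [hlcm] at this
    norm_num at this
  have h5 : 5 ∈ Perm.cycleType g := by
    by_contra h5
    have : Multiset.lcm (Perm.cycleType g) ∣ 3 := Multiset.lcm_dvd.mpr fun c hc => by
      rcases hmem c hc with rfl | rfl
      · rfl
      · exact absurd hc h5
    rw [hlcm] at this
    norm_num at this
  obtain ⟨s, hs⟩ := Multiset.exists_cons_of_mem h5
  rw [hs] at h3 hsum
  simp only [Multiset.mem_cons] at h3
  rw [Multiset.sum_cons] at hsum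
  have := Multiset.le_sum_of_mem (h3.resolve_left (by norm_num))
  omega

theorem card_inf_alternating (hα : Fintype.card α = 7) (H : Subgroup (Perm α))
    [IsPretransitive H α] (hH : H ≤ alternatingGroup α) (hsol : ¬ Group.IsSolvable H)
    (hne : H ≠ alternatingGroup α) : Nat.card H = 168 := by
  have : Nontrivial α := Fintype.one_lt_card_iff_nontrivial.mp (by omega)
  obtain ⟨n, hn, hn7, hn1, -⟩ := data_of_le_alternating hα H hH hsol
  have hA : Nat.card (alternatingGroup α) = 2520 := by
    rw [nat_card_alternatingGroup, Nat.card_eq_fintype_card, hα]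
    rfl
  have hdvd := Subgroup.card_dvd_of_le hH
  rw [hA, hn, show 2520 = 21 * 120 from rfl, Nat.mul_dvd_mul_iff_left (by norm_num)] at hdvd
  have hn120 : n ≠ 120 := fun e => hne (Subgroup.eq_of_le_of_card_ge hH (by rw [hA, hn, e]))
  have hn15 : n ≠ 15 := by
    intro e
    obtain ⟨a⟩ : Nonempty α := Fintype.card_pos_iff.mp (by omega)
    have hS := (stabilizer H a).index_mul_card
    rw [index_stabilizer_of_transitive, Nat.card_eq_fintype_card, hα, hn, e] at hS
    set S := stabilizer H a
    have : Fact (Nat.Prime 5) := ⟨by norm_num⟩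
    obtain ⟨Q⟩ : Nonempty (Sylow 5 S) := inferInstance
    have hQ1 : Nat.card (Sylow 5 S) = 1 := by
      have h1 := card_sylow_modEq_one 5 S
      have h2 := (Sylow.card_dvd_index Q).trans (Subgroup.index_dvd_card (Q : Subgroup S))
      rw [show Nat.card S = 45 by omega] at h2
      have h3 := Nat.le_of_dvd (by norm_num) h2
      rw [Nat.ModEq] at h1
      have h5 : ¬ 5 ∣ Nat.card (Sylow 5 S) := by omega
      have h9 : Nat.card (Sylow 5 S) ∣ 9 := by
        refine (Nat.Coprime.dvd_of_dvd_mul_left ?_ (show Nat.card (Sylow 5 S) ∣ 5 * 9 from h2))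
        exact ((Nat.Prime.coprime_iff_not_dvd (by norm_num)).mpr h5).symm
      have := Nat.le_of_dvd (by norm_num) h9
      have h6 : Nat.card (Sylow 5 S) ≠ 6 := fun e => by
        rw [e] at h9
        norm_num at h9
      have h0 : 0 < Nat.card (Sylow 5 S) := Nat.card_pos
      omega
    have : Subsingleton (Sylow 5 S) := (Nat.card_eq_one_iff_unique.mp hQ1).1
    have hQc : Nat.card (Q : Subgroup S) = 5 := by
      rw [Q.card_eq_multiplicity, show Nat.card S = 45 by omega,
        show (45 : ℕ) = 5 ^ 1 * 9 from rfl, Nat.factorization_mul (by norm_num) (by norm_num),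
        Finsupp.add_apply, Nat.Prime.factorization_pow (by norm_num), Finsupp.single_eq_same,
        Nat.factorization_eq_zero_of_not_dvd (show ¬ 5 ∣ 9 by norm_num)]
      rfl
    have : (Q : Subgroup S).Normal := Sylow.normal_of_subsingleton Q
    obtain ⟨u, hu⟩ := exists_prime_orderOf_dvd_card' (G := S) 3 (by omega)
    obtain ⟨v, hv⟩ := exists_prime_orderOf_dvd_card' (G := (Q : Subgroup S)) 5 (by omega)
    have : IsCyclic (Q : Subgroup S) := isCyclic_of_prime_card hQc
    have h4 : Nat.card (MulAut (Q : Subgroup S)) = 4 := by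
      rw [IsCyclic.card_mulAut, hQc, Nat.totient_prime (by norm_num)]
    have hconj : MulAut.conjNormal (H := (Q : Subgroup S)) u = 1 := by
      rw [← orderOf_eq_one_iff]
      have h1 := orderOf_map_dvd (MulAut.conjNormal (H := (Q : Subgroup S))) u
      have h2 := orderOf_dvd_natCard (MulAut.conjNormal (H := (Q : Subgroup S)) u)
      rw [hu] at h1
      rw [h4] at h2
      exact Nat.dvd_one.mp (show _ ∣ Nat.gcd 3 4 from Nat.dvd_gcd h1 h2)
    have hcomm : Commute u (v : S) := by
      have h1 := congrArg (fun f : MulAut (Q : Subgroup S) => ((f v : (Q : Subgroup S)) : S)) hconj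
      simp only [MulAut.conjNormal_apply, MulAut.one_apply] at h1
      exact mul_inv_eq_iff_eq_mul.mp h1
    apply no_order_fifteen hα (((u * v : S) : H) : Perm α)
    rw [Subgroup.orderOf_coe, Subgroup.orderOf_coe, hcomm.orderOf_mul_eq_mul_orderOf_of_coprime
      (by rw [hu, Subgroup.orderOf_coe, hv]; norm_num), hu, Subgroup.orderOf_coe, hv]
  have := Nat.le_of_dvd (by norm_num) hdvd
  have hn8 : n = 8 ∨ n = 15 ∨ n = 120 := by
    interval_cases n <;> first | omega | norm_num at hdvd
  omega

theorem isSimple_of_card (hα : Fintype.card α = 7) (H : Subgroup (Perm α)) [IsPretransitive H α]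
    (hH : H ≤ alternatingGroup α) (hsol : ¬ Group.IsSolvable H) (h168 : Nat.card H = 168) :
    IsSimpleGroup H := by
  have : Fact (Nat.Prime 7) := ⟨by norm_num⟩
  have hα' : Nat.card α = 7 := Nat.card_eq_fintype_card.trans hα
  have : Nontrivial H := Finite.one_lt_card_iff_nontrivial.mp (by omega)
  refine ⟨fun N hN => ?_⟩
  by_cases hN1 : N = ⊥
  · exact Or.inl hN1
  refine Or.inr ?_
  have := IsPreprimitive.of_prime_card (G := H) (X := α) (hα'.symm ▸ by norm_num)
  have : IsPretransitive N α := Perm.isPretransitive_of_normal_ne_bot hN1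
  let M : Subgroup (Perm α) := N.map H.subtype
  have hMc : Nat.card M = Nat.card N := Subgroup.card_map_of_injective H.subtype_injective
  have : IsPretransitive M α := by
    refine ⟨fun x y => ?_⟩
    obtain ⟨g, hg⟩ := exists_smul_eq N x y
    exact ⟨⟨_, (g : H), g.2, rfl⟩, hg⟩
  have hMA : M ≤ alternatingGroup α := (Subgroup.map_subtype_le N).trans hH
  by_cases hMs : Group.IsSolvable M
  · exfalso
    obtain ⟨P⟩ : Nonempty (Sylow 7 N) := inferInstance
    obtain ⟨hP, -, -, -⟩ := Perm.sylow_prime_degree (G := N) hα' P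
    obtain ⟨d, n, hd, hNP, hn, hn1, hcard⟩ := Perm.exists_sylow_data (G := N) hα' P
    have hd6 := Nat.le_of_dvd (by norm_num) hd
    have hdvd := N.card_subgroup_dvd_card
    rw [h168, hcard] at hdvd
    have hdn : d * n ∣ 24 := by
      rw [mul_assoc, show 168 = 7 * 24 from rfl, Nat.mul_dvd_mul_iff_left (by norm_num)] at hdvd
      exact hdvd
    have hn24 : n ≤ 24 := Nat.le_of_dvd (by norm_num) (dvd_of_mul_left_dvd hdn)
    have hnn : n = 1 := by
      by_contra hne
      have hn8 : n = 8 := by
        interval_cases n <;> first | omega | exact absurd (dvd_of_mul_left_dvd hdn) (by norm_num)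
      subst hn8
      have hd3 : d ∣ 3 := by
        rw [mul_comm, show 24 = 8 * 3 from rfl, Nat.mul_dvd_mul_iff_left (by norm_num)] at hdn
        exact hdn
      rcases (Nat.dvd_prime Nat.prime_three).mp hd3 with rfl | rfl
      · have := Perm.card_eq_prime_of_normalizer_eq (G := N) hα' P (by rw [hNP])
        omega
      · apply hsol
        have hNtop : N = ⊤ := Subgroup.eq_top_of_card_eq N (by rw [hcard, h168])
        have hMH : M = H := by
          change N.map H.subtype = H
          rw [hNtop, ← MonoidHom.range_eq_map, Subgroup.range_subtype]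
        exact hMH ▸ hMs
    have : Subsingleton (Sylow 7 N) := (Nat.card_eq_one_iff_unique.mp (hn.symm.trans hnn)).1
    have : (P : Subgroup N).Normal := Sylow.normal_of_subsingleton P
    have : (P : Subgroup N).Characteristic := Sylow.characteristic_of_normal P ‹_›
    have hQn : ((P : Subgroup N).map N.subtype).Normal :=
      ConjAct.normal_of_characteristic_of_normal
    obtain ⟨Q, hQ⟩ := (IsPGroup.map P.2 N.subtype).exists_le_sylow
    have hQc : Nat.card (Q : Subgroup H) = 7 := (Perm.sylow_prime_degree (G := H) hα' Q).1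
    have hQ' : (Q : Subgroup H) = (P : Subgroup N).map N.subtype :=
      (Subgroup.eq_of_le_of_card_ge hQ (by
        rw [hQc, Subgroup.card_map_of_injective N.subtype_injective, hP])).symm
    obtain ⟨m, hm, -, hm1, hmQ⟩ := data_of_le_alternating hα H hH hsol
    have : (Q : Subgroup H).Normal := hQ' ▸ hQn
    have := Sylow.unique_of_normal Q this
    exact hm1 ((hmQ Q).symm.trans Nat.card_unique)
  · have h := card_inf_alternating hα M hMA hMs (fun e => by
      have h1 := Subgroup.card_le_card_group N
      have : Nontrivial α := Fintype.one_lt_card_iff_nontrivial.mp (by omega)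
      rw [← hMc, e, h168, nat_card_alternatingGroup, hα'] at h1
      norm_num [Nat.factorial] at h1)
    exact Subgroup.eq_top_of_card_eq N (by rw [← hMc, h, h168])

theorem isSwap_conj {τ g : Perm α} (h : τ.IsSwap) : (g * τ * g⁻¹).IsSwap := by
  obtain ⟨x, y, hxy, rfl⟩ := h
  exact ⟨g x, g y, g.injective.ne hxy, by rw [Equiv.swap_apply_apply]⟩

theorem not_sixteen_dvd (hα : Fintype.card α = 7) (G : Subgroup (Perm α)) [IsPretransitive G α]
    (hA : ¬ alternatingGroup α ≤ G) : ¬ 16 ∣ Nat.card G := by
  intro h16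
  have : Fact (Nat.Prime 2) := ⟨Nat.prime_two⟩
  obtain ⟨R, hR⟩ := Sylow.exists_subgroup_card_pow_prime (G := G) 2 (n := 4) (by norm_num; exact h16)
  obtain ⟨x, y, hxy⟩ := Fintype.exists_pair_of_one_lt_card (α := α) (by omega)
  have hτ : IsPGroup 2 (Subgroup.zpowers (Equiv.swap x y)) :=
    IsPGroup.of_card (n := 1) (by rw [Nat.card_zpowers, Equiv.Perm.IsSwap.orderOf ⟨x, y, hxy, rfl⟩, pow_one])
  obtain ⟨S, hS⟩ := hτ.exists_le_sylow
  have hR' : IsPGroup 2 (R.map G.subtype) :=
    (IsPGroup.of_card hR).map G.subtype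
  obtain ⟨T, hT⟩ := hR'.exists_le_sylow
  have hTc : Nat.card (T : Subgroup (Perm α)) = 16 := by
    rw [T.card_eq_multiplicity, Nat.card_perm, Nat.card_eq_fintype_card, hα,
      show (7 : ℕ).factorial = 2 ^ 4 * 315 from rfl, Nat.factorization_mul (by norm_num) (by norm_num),
      Finsupp.add_apply, Nat.Prime.factorization_pow Nat.prime_two, Finsupp.single_eq_same,
      Nat.factorization_eq_zero_of_not_dvd (show ¬ 2 ∣ 315 by norm_num)]
    rfl
  have hTe : R.map G.subtype = T := Subgroup.eq_of_le_of_card_ge hT (by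
    rw [hTc, Subgroup.card_map_of_injective G.subtype_injective, hR]; norm_num)
  obtain ⟨g, hg⟩ := exists_smul_eq (Perm α) S T
  have hmem : g * Equiv.swap x y * g⁻¹ ∈ G := by
    apply Subgroup.map_subtype_le R
    rw [hTe, ← hg, Sylow.coe_subgroup_smul]
    exact Subgroup.smul_mem_pointwise_smul (a := MulAut.conj g) _ _
      (hS (Subgroup.mem_zpowers _))
  have hprim := IsPreprimitive.of_prime_card (G := G) (X := α)
    (by rw [Nat.card_eq_fintype_card, hα]; norm_num)
  exact hA (by
    rw [Equiv.Perm.subgroup_eq_top_of_isPreprimitive_of_isSwap_mem hprim _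
      (isSwap_conj ⟨x, y, hxy, rfl⟩) hmem]
    exact le_top)

/-- A non-solvable transitive permutation group on 7 points that does not contain the alternating group is a simple group of order 168. -/
theorem result {α : Type*} [Fintype α] [DecidableEq α] (hα : Fintype.card α = 7) (G : Subgroup (Equiv.Perm α)) [MulAction.IsPretransitive G α] (hG : ¬ Group.IsSolvable G) (hA : ¬ alternatingGroup α ≤ G) : Nat.card G = 168 ∧ IsSimpleGroup G := by
  let H := G ⊓ alternatingGroup α
  have : IsPretransitive H α := isPretransitive_inf_alternating hα G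
  let σ : G →* ℤˣ := Perm.sign.comp G.subtype
  have hker : σ.ker = H.subgroupOf G := by
    ext g
    simp [σ, H, Subgroup.mem_subgroupOf, Equiv.Perm.mem_alternatingGroup]
  have hHs : ¬ Group.IsSolvable H := fun h => hG (by
    refine Group.isSolvable_of_ker_le_range (Subgroup.inclusion inf_le_left : H →* G) σ ?_
    rw [Subgroup.inclusion_range, hker])
  have h168 := card_inf_alternating hα H inf_le_right hHs
    (fun e => hA (e ▸ inf_le_left))
  have hGH : G = H := by
    have h1 := σ.ker.index_mul_card
    rw [Subgroup.index_ker, hker,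
      Nat.card_congr (Subgroup.subgroupOfEquivOfLe (inf_le_left : H ≤ G)).toEquiv, h168] at h1
    have h2 : Nat.card σ.range ∣ 2 := by
      refine σ.range.card_subgroup_dvd_card.trans ?_
      rw [Nat.card_eq_fintype_card, Fintype.card_units_int]
    rcases (Nat.dvd_prime Nat.prime_two).mp h2 with h3 | h3
    · exact (Subgroup.eq_of_le_of_card_ge (inf_le_left : H ≤ G) (by rw [h3] at h1; rw [← h1, h168])).symm
    · exact absurd (h1 ▸ by rw [h3]; norm_num : 16 ∣ Nat.card G) (not_sixteen_dvd hα G hA)
  have hsimple := isSimple_of_card hα H inf_le_right hHs h168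
  rw [hGH]
  exact ⟨h168, hsimple⟩

end Cfsg.Agent.S0678
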