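import Cfsg.Statements.S1013
import Cfsg.Agent.Lib.SmallOrders.SymSylow
import Cfsg.Agent.Lib.Perm.Regular

set_option autoImplicit false
open Cfsg

namespace Cfsg.Agent.S1013

/-- Let G be a transitive permutation group of prime degree p having more than one Sylow p-subgroup, and suppose a Sylow p-subgroup P has prime index in its normalizer. Then G is simple. -/
theorem result {α : Type*} [Fintype α] [DecidableEq α] {p : ℕ} [Fact p.Prime] (hα : Fintype.card α = p) (G : Subgroup (Equiv.Perm α)) [MulAction.IsPretransitive ↥G α] (P : Sylow p ↥G) (hn : 1 < Nat.card (Sylow p ↥G)) (ht : (((P : Subgroup ↥G).subgroupOf (Subgroup.normalizer ((P : Subgroup ↥G) : Set ↥G))).index).Prime) : IsSimpleGroup ↥G := by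
  have hp : p.Prime := Fact.out
  have hαc : Nat.card α = p := by rw [Nat.card_eq_fintype_card, hα]
  have : Nonempty α := Fintype.card_pos_iff.mp (hα ▸ hp.pos)
  have : MulAction.IsPreprimitive G α := MulAction.IsPreprimitive.of_prime_card (hαc.symm ▸ hp)
  have hdvd : ∀ (K : Subgroup G), MulAction.IsPretransitive K α → p ∣ Nat.card K := by
    intro K hK
    obtain ⟨a⟩ := (inferInstance : Nonempty α)
    rw [← hαc]
    have := MulAction.index_stabilizer_of_transitive (G := K) a
    rw [← this]
    exact Subgroup.index_dvd_card _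
  have htop : MulAction.IsPretransitive (⊤ : Subgroup G) α :=
    ⟨fun a b => by
      obtain ⟨g, hg⟩ := MulAction.exists_smul_eq G a b
      exact ⟨⟨g, Subgroup.mem_top g⟩, hg⟩⟩
  have hpG : p ∣ Nat.card G := Subgroup.card_top (G := G) ▸ hdvd ⊤ htop
  obtain ⟨m, hm⟩ := hpG
  have hpm : ¬ p ∣ m := fun h => SmallOrders.factorial_two_mul_sq hp (show p < 2 * p by
      have := hp.two_le; omega) (by
    have h1 : Nat.card G ∣ p.factorial := by
      have := G.card_subgroup_dvd_card
      rwa [Nat.card_perm, hαc] at this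
    rw [pow_two]
    exact ((Nat.mul_dvd_mul_left p h).trans (dvd_of_eq hm.symm)).trans h1)
  have hfac : Nat.card G = p ^ 1 * m := by rw [pow_one]; exact hm
  have hPc : ∀ R : Sylow p G, Nat.card (R : Subgroup G) = p := fun R => by
    rw [SmallOrders.card_sylow_subgroup hfac hpm R, pow_one]
  have : Nontrivial G := by
    apply Finite.one_lt_card_iff_nontrivial.mp
    have := Subgroup.card_dvd_of_le (le_top : (P : Subgroup G) ≤ ⊤)
    rw [hPc, Subgroup.card_top] at this
    exact lt_of_lt_of_le hp.one_lt (Nat.le_of_dvd Nat.card_pos this)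
  refine ⟨fun K hK => or_iff_not_imp_left.mpr fun hKbot => ?_⟩
  have hKn : K.Normal := hK
  have hKt : MulAction.IsPretransitive K α :=
    Perm.isPretransitive_of_normal_ne_bot hKbot
  -- `K` contains every Sylow `p`-subgroup
  obtain ⟨x, hx⟩ := exists_prime_orderOf_dvd_card' p (hdvd K hKt)
  obtain ⟨R, hR⟩ := (IsPGroup.of_card (n := 1) (by rw [Nat.card_zpowers, Subgroup.orderOf_coe, hx, pow_one] :
    Nat.card (Subgroup.zpowers (x : G)) = p ^ 1)).exists_le_sylow
  have hRK : (R : Subgroup G) ≤ K := by
    rw [← Subgroup.eq_of_le_of_card_ge hR (by rw [hPc, Nat.card_zpowers, Subgroup.orderOf_coe, hx])]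
    exact Subgroup.zpowers_le.mpr x.2
  have hPK : (P : Subgroup G) ≤ K := by
    obtain ⟨g, hg⟩ := MulAction.exists_smul_eq G R P
    rw [← hg]
    intro a ha
    rw [Sylow.coe_subgroup_smul, Subgroup.mem_pointwise_smul_iff_inv_smul_mem] at ha
    have := hKn.conj_mem _ (hRK ha) g
    simpa [MulAut.smul_def, mul_assoc] using this
  set N := Subgroup.normalizer ((P : Subgroup G) : Set G) with hN
  by_cases hNK : N ≤ K
  · have := P.normalizer_sup_eq_top' hPK
    exact top_le_iff.mp (this ▸ sup_le hNK le_rfl)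
  exfalso
  -- otherwise `P` is its own normaliser in `K`
  have hint : N ⊓ K = (P : Subgroup G) := by
    set t := ((P : Subgroup G).subgroupOf N).index
    have hle : (P : Subgroup G) ≤ N ⊓ K := le_inf Subgroup.le_normalizer hPK
    have h1 : (P : Subgroup G).relIndex (N ⊓ K) * (N ⊓ K).relIndex N = (P : Subgroup G).relIndex N :=
      Subgroup.relIndex_mul_relIndex _ _ _ hle inf_le_left
    have h2 : (P : Subgroup G).relIndex (N ⊓ K) ∣ t := Dvd.intro _ h1
    rcases (Nat.dvd_prime ht).mp h2 with h3 | h3
    · exact le_antisymm (Subgroup.relIndex_eq_one.mp h3) hle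
    · exfalso
      change _ = (P : Subgroup G).relIndex N at h3
      rw [h3] at h1
      have h4 : (N ⊓ K).relIndex N = 1 :=
        (mul_right_eq_self₀.mp h1).resolve_right ht.ne_zero
      exact hNK ((Subgroup.relIndex_eq_one.mp h4).trans inf_le_right)
  let P' : Sylow p K := P.subtype hPK
  have hP'eq : (P' : Subgroup K) = (P : Subgroup G).subgroupOf K := P.coe_subtype hPK
  have hcycP : IsCyclic (P : Subgroup G) := isCyclic_of_prime_card (hPc P)
  have hNC : Subgroup.normalizer ((P' : Subgroup K) : Set K) ≤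
      Subgroup.centralizer ((P' : Subgroup K) : Set K) := by
    intro a ha b hb
    have haG : (a : G) ∈ N ⊓ K := by
      refine ⟨?_, a.2⟩
      have h := Subgroup.le_normalizer_map (H := (P' : Subgroup K)) K.subtype ⟨a, ha, rfl⟩
      rwa [hP'eq, Subgroup.subgroupOf_map_subtype, inf_of_le_left hPK] at h
    rw [hint] at haG
    have hbG : (b : G) ∈ (P : Subgroup G) := by
      have : b ∈ (P : Subgroup G).subgroupOf K := hP'eq ▸ hb
      exact this
    have h := mul_comm' (⟨b, hbG⟩ : (P : Subgroup G)) ⟨a, haG⟩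
    have h' := congrArg Subtype.val h
    exact Subtype.ext h'
  set L := (MonoidHom.transferSylow P' hNC).ker with hL
  have hcompl := MonoidHom.ker_transferSylow_isComplement' P' hNC
  have hLp : ¬ p ∣ Nat.card L := MonoidHom.not_dvd_card_ker_transferSylow P' hNC
  have hidx : L.index = p := by
    rw [hcompl.symm.index_eq_card, hP'eq,
      Nat.card_congr (Subgroup.subgroupOfEquivOfLe hPK).toEquiv, hPc]
  -- `L` consists of the elements of `K` of order prime to `p`
  have hmem : ∀ a : K, a ∈ L ↔ a ^ Nat.card L = 1 := by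
    intro a
    refine ⟨fun ha => congrArg Subtype.val (pow_card_eq_one' (x := (⟨a, ha⟩ : L))), fun ha => ?_⟩
    have hLn : L.Normal := MonoidHom.normal_ker _
    rw [← QuotientGroup.eq_one_iff, ← orderOf_eq_one_iff]
    refine Nat.eq_one_of_dvd_coprimes ((hp.coprime_iff_not_dvd.mpr hLp).symm)
      (orderOf_dvd_of_pow_eq_one (by rw [← QuotientGroup.mk_pow, ha, QuotientGroup.mk_one])) ?_
    exact hidx ▸ orderOf_dvd_natCard _
  have hLG : (L.map K.subtype).Normal := by
    refine ⟨?_⟩
    rintro _ ⟨a, ha, rfl⟩ g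
    refine ⟨⟨g * a * g⁻¹, hKn.conj_mem _ a.2 g⟩, (hmem _).mpr ?_, rfl⟩
    have h1 := congrArg Subtype.val ((hmem a).mp ha)
    exact Subtype.ext (by simpa [conj_pow] using h1)
  have hLbot : L = ⊥ := by
    by_contra hne
    have hne' : L.map K.subtype ≠ ⊥ := by
      rwa [Ne, Subgroup.map_eq_bot_iff_of_injective _ K.subtype_injective]
    have := hdvd _ (Perm.isPretransitive_of_normal_ne_bot (G := G) (X := α) hne')
    rw [Subgroup.card_map_of_injective K.subtype_injective] at this
    exact hLp this
  rw [hLbot] at hidx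
  rw [Subgroup.index_bot] at hidx
  have hKP : K = (P : Subgroup G) := (Subgroup.eq_of_le_of_card_ge hPK (by rw [hPc, hidx])).symm
  have : (P : Subgroup G).Normal := hKP ▸ hKn
  have := Sylow.unique_of_normal P this
  rw [Nat.card_unique] at hn
  omega

end Cfsg.Agent.S1013
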