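import Cfsg.Statements.S0679
import Cfsg.Agent.EqLemmas
import Cfsg.Agent.Lib.Perm.PrimeTransitive
import Cfsg.Agent.Lib.Order7920.Unique
import Cfsg.Agent.Lib.MathieuEleven.Aut
import Cfsg.Agent.S0498
import Cfsg.Agent.S0676
import Cfsg.Agent.S0713
import Cfsg.Agent.S1013

set_option autoImplicit false
set_option linter.unusedSectionVars false
open Cfsg

namespace Cfsg.Agent.S0679

open MulAction Equiv

variable {α : Type*} [Fintype α] [DecidableEq α]

theorem sign_of_support_ten {g : Perm α} (h2 : g ^ 2 = 1) (hs : g.support.card = 10) :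
    Perm.sign g = -1 := by
  have hg1 : g ≠ 1 := fun e => by simp [e] at hs
  have hord := orderOf_eq_prime h2 hg1
  obtain ⟨n, hn⟩ := Perm.cycleType_prime_order (σ := g) (hord ▸ Nat.prime_two)
  rw [hord] at hn
  have := Perm.sum_cycleType g
  rw [hn, Multiset.sum_replicate, smul_eq_mul, hs] at this
  rw [Perm.sign_of_cycleType, hn, Multiset.sum_replicate, Multiset.card_replicate, smul_eq_mul,
    show n + 1 = 5 by omega]
  decide

theorem mem_of_commute [Nonempty α] (P : Subgroup (Perm α)) [IsPretransitive P α]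
    (hcomm : ∀ u ∈ P, ∀ v ∈ P, u * v = v * u) (c : Perm α) (hc : ∀ g ∈ P, g * c = c * g) :
    c ∈ P := by
  obtain ⟨a⟩ := ‹Nonempty α›
  obtain ⟨g, hg⟩ := exists_smul_eq P a (c a)
  have : c = g := Equiv.ext fun x => by
    obtain ⟨u, rfl⟩ := exists_smul_eq P a x
    show c ((u : Perm α) a) = (g : Perm α) ((u : Perm α) a)
    rw [← Perm.mul_apply, ← Perm.mul_apply, ← hc u u.2, ← hcomm u u.2 g g.2, Perm.mul_apply,
      Perm.mul_apply, show (g : Perm α) a = c a from hg]
  exact this ▸ g.2

theorem cycle_absent (hα : Fintype.card α = 11) (H : Subgroup (Perm α)) [IsPretransitive H α]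
    (hA : ¬ alternatingGroup α ≤ H) {g : Perm α} (hg : g ∈ H) {p : ℕ} (hp : p.Prime) (hp8 : p ≤ 8)
    (h : g.cycleType = {p}) : False :=
  hA (Cfsg.Agent.S0713.result H
    (IsPreprimitive.of_prime_card (by rw [Nat.card_eq_fintype_card, hα]; norm_num)) hp (by omega)
    (by omega) (Perm.card_cycleType_eq_one.mp (by rw [h]; rfl))
    (by rw [← Perm.sum_cycleType, h, Multiset.sum_singleton]) hg)

theorem cycleType_five (hα : Fintype.card α = 11) (H : Subgroup (Perm α)) [IsPretransitive H α]
    (hA : ¬ alternatingGroup α ≤ H) {g : Perm α} (hg : g ∈ H) (h : orderOf g = 5) :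
    g.cycleType = Multiset.replicate 2 5 := by
  obtain ⟨n, hn⟩ := Perm.cycleType_prime_order (σ := g) (h ▸ Nat.prime_five)
  rw [h] at hn
  have := (Perm.sum_cycleType g).trans_le (hα ▸ Finset.card_le_univ g.support)
  rw [hn, Multiset.sum_replicate, smul_eq_mul] at this
  have : n ≠ 0 := fun e => cycle_absent hα H hA hg Nat.prime_five (by norm_num) (by rw [hn, e]; rfl)
  rw [hn, show n + 1 = 2 by omega]

theorem exists_conj_mem {p e m : ℕ} [Fact p.Prime] (hfac : (Fintype.card α).factorial = p ^ e * m)
    (hm : ¬ p ∣ m) (H : Subgroup (Perm α)) (hd : p ^ e ∣ Nat.card H) (c : Perm α)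
    (hc : orderOf c = p) : ∃ g : Perm α, g * c * g⁻¹ ∈ H := by
  obtain ⟨R, hR⟩ := Sylow.exists_subgroup_card_pow_prime (G := H) p hd
  obtain ⟨S, hS⟩ := (IsPGroup.of_card (n := 1)
    (show Nat.card (Subgroup.zpowers c) = p ^ 1 by rw [Nat.card_zpowers, hc, pow_one])).exists_le_sylow
  obtain ⟨T, hT⟩ := ((IsPGroup.of_card hR).map H.subtype).exists_le_sylow
  have hTc : Nat.card (T : Subgroup (Perm α)) = p ^ e := by
    rw [T.card_eq_multiplicity, Nat.card_perm, Nat.card_eq_fintype_card, hfac,
      Nat.factorization_mul (pow_ne_zero _ (Fact.out : p.Prime).ne_zero) (fun e : m = 0 => hm (by simp [e])),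
      Finsupp.add_apply, Nat.Prime.factorization_pow Fact.out, Finsupp.single_eq_same,
      Nat.factorization_eq_zero_of_not_dvd hm, add_zero]
  have hTe : R.map H.subtype = T := Subgroup.eq_of_le_of_card_ge hT (by
    rw [hTc, Subgroup.card_map_of_injective H.subtype_injective, hR])
  obtain ⟨g, hg⟩ := exists_smul_eq (Perm α) S T
  refine ⟨g, ?_⟩
  apply Subgroup.map_subtype_le R
  rw [hTe, ← hg, Sylow.coe_subgroup_smul]
  exact Subgroup.smul_mem_pointwise_smul (a := MulAut.conj g) _ _ (hS (Subgroup.mem_zpowers _))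

theorem sylow_image (hα : Fintype.card α = 11) (M : Subgroup (Perm α)) [IsPretransitive M α]
    [Fact (Nat.Prime 11)] (P : Sylow 11 M) :
    Nat.card ↥((P : Subgroup M).map M.subtype) = 11 ∧
      IsPretransitive ↥((P : Subgroup M).map M.subtype) α ∧
      ∀ u ∈ (P : Subgroup M).map M.subtype, ∀ v ∈ (P : Subgroup M).map M.subtype, u * v = v * u := by
  obtain ⟨hP, ht, -⟩ := Perm.sylow_prime_degree (G := M) (Nat.card_eq_fintype_card.trans hα) P
  have hP' : Nat.card ↥((P : Subgroup M).map M.subtype) = 11 := by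
    rw [Subgroup.card_map_of_injective M.subtype_injective, hP]
  refine ⟨hP', ⟨fun x y => ?_⟩, fun u hu v hv => ?_⟩
  · obtain ⟨g, hg⟩ := exists_smul_eq (P : Subgroup M) x y
    exact ⟨⟨_, (g : M), g.2, rfl⟩, hg⟩
  · have : IsCyclic ↥((P : Subgroup M).map M.subtype) := isCyclic_of_prime_card hP'
    exact congrArg Subtype.val
      (IsCyclic.commGroup.mul_comm (⟨u, hu⟩ : ↥((P : Subgroup M).map M.subtype)) ⟨v, hv⟩)

theorem no_invol_commute_five (hα : Fintype.card α = 11) {x c : Perm α}
    (hx : x.cycleType = Multiset.replicate 2 5) (hc2 : c ^ 2 = 1) (hc1 : c ≠ 1)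
    (hcomm : Commute c x) (hsign : Perm.sign c = 1) : False := by
  have hx5 : orderOf x = 5 := by rw [← Perm.lcm_cycleType, hx]; rfl
  have hxs : x.support.card = 10 := by rw [← Perm.sum_cycleType, hx]; rfl
  obtain ⟨a, ha⟩ : ∃ a, x.supportᶜ = {a} := Finset.card_eq_one.mp (by
    rw [Finset.card_compl, hα, hxs])
  have hfix : ∀ b, x b = b → b = a := fun b hb => by
    rw [← Finset.mem_singleton, ← ha, Finset.mem_compl, Perm.notMem_support]; exact hb
  have hxa : x a = a := by
    rw [← Perm.notMem_support, ← Finset.mem_compl, ha]; exact Finset.mem_singleton_self a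
  have hcx : ∀ (j : ℕ) (b : α), c ((x ^ j) b) = (x ^ j) (c b) := fun j b => by
    rw [← Perm.mul_apply, (hcomm.pow_right j).eq, Perm.mul_apply]
  have hcc : ∀ b, c (c b) = b := fun b => by rw [← Perm.mul_apply, ← pow_two, hc2]; rfl
  have hca : c a = a := hfix _ (by have := hcx 1 a; rw [pow_one, hxa] at this; exact this.symm)
  have hfree : ∀ b, b ≠ a → ∀ m : ℕ, (x ^ m) b = b → 5 ∣ m := by
    intro b hb m hm
    by_contra h5
    obtain ⟨k, hk⟩ := exists_pow_eq_self_of_coprime (x := x) (n := m)
      (by rw [hx5]; exact (Nat.Prime.coprime_iff_not_dvd Nat.prime_five).mpr h5 |>.symm)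
    apply hb
    apply hfix
    rw [← hk]
    exact Perm.pow_apply_eq_self_of_apply_eq_self hm k
  have hinj : ∀ b, b ≠ a → Function.Injective (fun j : Fin 5 => (x ^ (j : ℕ)) b) := by
    intro b hb i j hij
    simp only at hij
    wlog hle : (i : ℕ) ≤ j generalizing i j
    · exact (this hij.symm (le_of_not_ge hle)).symm
    have h : (x ^ ((j : ℕ) - i)) b = b := (x ^ (i : ℕ)).injective (by
      rw [← Perm.mul_apply, ← pow_add, show (i : ℕ) + ((j : ℕ) - i) = j by omega, hij])
    have := hfree b hb _ h
    exact Fin.ext (by omega)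
  have hsupp : c.support = Finset.univ.erase a := by
    ext b
    simp only [Perm.mem_support, Finset.mem_erase, Finset.mem_univ, and_true]
    refine ⟨fun h e => h (e ▸ hca), fun hb hcb => hc1 ?_⟩
    let O := Finset.univ.image (fun j : Fin 5 => (x ^ (j : ℕ)) b)
    have hO : ∀ o ∈ O, c o = o := fun o ho => by
      obtain ⟨j, -, rfl⟩ := Finset.mem_image.mp ho
      rw [hcx, hcb]
    refine Equiv.ext fun b' => ?_
    rw [Perm.one_apply]
    by_cases h1 : b' = a
    · rw [h1, hca]
    by_cases h2 : b' ∈ O
    · exact hO b' h2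
    let O' := Finset.univ.image (fun j : Fin 5 => (x ^ (j : ℕ)) b')
    have hd : Disjoint O O' := by
      rw [Finset.disjoint_left]
      intro o ho ho'
      obtain ⟨i, -, rfl⟩ := Finset.mem_image.mp ho
      obtain ⟨j, -, hj⟩ := Finset.mem_image.mp ho'
      apply h2
      refine Finset.mem_image.mpr ⟨⟨((i : ℕ) + (5 - j)) % 5, Nat.mod_lt _ (by norm_num)⟩,
        Finset.mem_univ _, ?_⟩
      show (x ^ (((i : ℕ) + (5 - j)) % 5)) b = b'
      have key : x ^ (((i : ℕ) + (5 - (j : ℕ))) % 5) = x ^ ((5 - (j : ℕ)) + i) := by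
        rw [← pow_mod_orderOf x (5 - (j : ℕ) + i), hx5, add_comm]
      have h5 : x ^ 5 = 1 := hx5 ▸ pow_orderOf_eq_one x
      rw [key, pow_add, Perm.mul_apply, ← hj, ← Perm.mul_apply,
        ← pow_add, show 5 - (j : ℕ) + j = 5 by omega, h5, Perm.one_apply]
    have hna : ∀ b₀, b₀ ≠ a → a ∉ Finset.univ.image (fun j : Fin 5 => (x ^ (j : ℕ)) b₀) := by
      intro b₀ hb₀ h
      obtain ⟨j, -, hj⟩ := Finset.mem_image.mp h
      apply hb₀
      exact (x ^ (j : ℕ)).injective (hj.trans (Perm.pow_apply_eq_self_of_apply_eq_self hxa _).symm)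
    have hcard : (insert a (O ∪ O')).card = 11 := by
      rw [Finset.card_insert_of_notMem (by
        rw [Finset.mem_union, not_or]; exact ⟨hna b hb, hna b' h1⟩),
        Finset.card_union_of_disjoint hd, Finset.card_image_of_injective _ (hinj b hb),
        Finset.card_image_of_injective _ (hinj b' h1), Finset.card_univ, Fintype.card_fin]
    have hall : insert a (O ∪ O') = Finset.univ := Finset.eq_univ_of_card _ (hcard.trans hα.symm)
    have hmem := Finset.mem_univ (c b')
    rw [← hall, Finset.mem_insert, Finset.mem_union] at hmem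
    rcases hmem with h | h | h
    · exact absurd (c.injective (h.trans hca.symm)) h1
    · exact absurd (by have := hO _ h; rw [hcc] at this; rw [this]; exact h) h2
    · obtain ⟨j, -, hj⟩ := Finset.mem_image.mp h
      have e : (x ^ ((j : ℕ) + j)) b' = b' := by
        rw [pow_add, Perm.mul_apply, show (x ^ (j : ℕ)) b' = c b' from hj, ← hcx,
          show (x ^ (j : ℕ)) b' = c b' from hj, hcc]
      have := hfree b' h1 _ e
      rw [← hj, show (j : ℕ) = 0 by omega, pow_zero, Perm.one_apply]
  have := sign_of_support_ten hc2 (by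
    rw [hsupp, Finset.card_erase_of_mem (Finset.mem_univ a), Finset.card_univ, hα])
  rw [hsign] at this
  exact absurd this (by decide)

theorem false_of_card_95040 (hα : Fintype.card α = 11) (M : Subgroup (Perm α)) [IsPretransitive M α]
    (hM : M ≤ alternatingGroup α) (hA : ¬ alternatingGroup α ≤ M) (h : Nat.card M = 95040) : False := by
  have : Fact (Nat.Prime 5) := ⟨Nat.prime_five⟩
  obtain ⟨x, hx⟩ := exists_prime_orderOf_dvd_card' (G := M) 5 (by rw [h]; norm_num)
  have hxp : orderOf (x : Perm α) = 5 := by rw [Subgroup.orderOf_coe, hx]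
  have hct := cycleType_five hα M hA x.2 hxp
  set C := Subgroup.centralizer ({x} : Set M) with hC
  have hCd : Nat.card C ∣ 50 := by
    have h1 : C.map M.subtype ≤ Subgroup.centralizer ({(x : Perm α)} : Set (Perm α)) := by
      rintro _ ⟨y, hy, rfl⟩
      exact Subgroup.mem_centralizer_singleton_iff.mpr
        (congrArg Subtype.val (Subgroup.mem_centralizer_singleton_iff.mp hy))
    have h2 := Subgroup.card_dvd_of_le h1
    rw [Subgroup.card_map_of_injective M.subtype_injective, Perm.nat_card_centralizer, hct,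
      hα] at h2
    exact h2.trans (dvd_of_eq (by decide))
  have h25 : ¬ 25 ∣ Nat.card C := fun h25 => by
    have := h25.trans C.card_subgroup_dvd_card
    rw [h] at this
    norm_num at this
  have hC10 : ¬ 2 ∣ Nat.card C := by
    intro h2
    have : Fact (Nat.Prime 2) := ⟨Nat.prime_two⟩
    obtain ⟨⟨c, hc⟩, hco⟩ := exists_prime_orderOf_dvd_card' (G := C) 2 h2
    rw [Subgroup.orderOf_mk] at hco
    have hcp : orderOf (c : Perm α) = 2 := by rw [Subgroup.orderOf_coe, hco]
    refine no_invol_commute_five hα hct (c := (c : Perm α))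
      (hcp ▸ pow_orderOf_eq_one _) (fun e => by rw [e, orderOf_one] at hcp; norm_num at hcp) ?_
      (Perm.mem_alternatingGroup.mp (hM c.2))
    exact congrArg Subtype.val (Subgroup.mem_centralizer_singleton_iff.mp hc)
  have h5C : 5 ∣ Nat.card C := hx ▸ Subgroup.orderOf_dvd_natCard C (by
    rw [hC, Subgroup.mem_centralizer_singleton_iff])
  have hC5 : Nat.card C = 5 := by
    obtain ⟨k, hk⟩ := h5C
    rw [hk] at hCd h25 hC10 ⊢
    have hk10 : k ∣ 10 := Nat.dvd_of_mul_dvd_mul_left (by norm_num : 0 < 5) (show 5 * k ∣ 5 * 10 from hCd)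
    have := Nat.le_of_dvd (by norm_num) hk10
    interval_cases k <;> omega
  obtain ⟨Q, hQ⟩ := (IsPGroup.of_card (n := 1) (show Nat.card (Subgroup.zpowers x) = 5 ^ 1 by
    rw [Nat.card_zpowers, hx, pow_one])).exists_le_sylow
  have hQc : Nat.card (Q : Subgroup M) = 5 := by
    rw [Q.card_eq_multiplicity, h, show (95040 : ℕ) = 5 ^ 1 * 19008 from rfl,
      Nat.factorization_mul (by norm_num) (by norm_num), Finsupp.add_apply,
      Nat.Prime.factorization_pow Nat.prime_five, Finsupp.single_eq_same,
      Nat.factorization_eq_zero_of_not_dvd (show ¬ 5 ∣ 19008 by norm_num)]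
    rfl
  have hQe : Subgroup.zpowers x = Q :=
    Subgroup.eq_of_le_of_card_ge hQ (by rw [hQc, Nat.card_zpowers, hx])
  have hcent : Subgroup.centralizer ((Q : Subgroup M) : Set M) = C := by
    rw [← hQe, hC, Subgroup.zpowers_eq_closure, Subgroup.centralizer_closure]
  have hle : Subgroup.centralizer ((Q : Subgroup M) : Set M) ≤
      Subgroup.normalizer ((Q : Subgroup M) : Set M) := by
    intro c hc
    rw [Subgroup.mem_normalizer_iff]
    intro q
    constructor
    · intro hq
      rw [← Subgroup.mem_centralizer_iff.mp hc q hq, mul_inv_cancel_right]; exact hq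
    · intro hq
      have := Subgroup.mem_centralizer_iff.mp hc _ hq
      rw [inv_mul_cancel_right] at this
      exact (mul_left_cancel this) ▸ hq
  let φ := Subgroup.normalizerMonoidHom (Q : Subgroup M)
  have hN := φ.ker.card_mul_index
  rw [Subgroup.index_ker, Subgroup.normalizerMonoidHom_ker,
    Nat.card_congr (Subgroup.subgroupOfEquivOfLe hle).toEquiv, hcent, hC5] at hN
  have hr : Nat.card φ.range ∣ 4 := by
    have : IsCyclic (Q : Subgroup M) := isCyclic_of_prime_card hQc
    have := φ.range.card_subgroup_dvd_card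
    rwa [IsCyclic.card_mulAut, hQc, Nat.totient_prime Nat.prime_five] at this
  have hn := card_sylow_modEq_one 5 M
  have hidx := (Subgroup.normalizer ((Q : Subgroup M) : Set M)).index_mul_card
  have hi : Nat.card (Sylow 5 M) = (Subgroup.normalizer ((Q : Subgroup M) : Set M)).index :=
    Sylow.card_eq_index_normalizer Q
  rw [← hi, ← hN, h] at hidx
  unfold Nat.ModEq at hn
  have := Nat.le_of_dvd (by norm_num) hr
  have : Nat.card φ.range ≠ 3 := fun e => by rw [e] at hr; norm_num at hr
  have : Nat.card φ.range ≠ 0 := Nat.card_pos.ne'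
  interval_cases Nat.card φ.range <;> omega

theorem data_of_le_alternating (hα : Fintype.card α = 11) [Fact (Nat.Prime 11)]
    (M : Subgroup (Perm α)) [IsPretransitive M α] (hM : M ≤ alternatingGroup α)
    (hA : ¬ alternatingGroup α ≤ M) (hsol : ¬ Group.IsSolvable M) :
    (Nat.card M = 660 ∨ Nat.card M = 7920) ∧ IsSimpleGroup M := by
  have hα' : Nat.card α = 11 := Nat.card_eq_fintype_card.trans hα
  have : Nonempty α := Fintype.card_pos_iff.mp (by omega)
  obtain ⟨P⟩ : Nonempty (Sylow 11 M) := inferInstance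
  obtain ⟨hP, ht, hC, -⟩ := Perm.sylow_prime_degree (G := M) hα' P
  obtain ⟨hP', ht', hab⟩ := sylow_image hα M P
  obtain ⟨d, n, hd, hN, hn, hn1, hcard⟩ := Perm.exists_sylow_data (G := M) hα' P
  have hd1 : d ≠ 1 := by
    rintro rfl
    exact hsol (by
      have : IsCyclic M := isCyclic_of_prime_card
        (Perm.card_eq_prime_of_normalizer_eq (G := M) hα' P (by rw [hN, mul_one]))
      let : CommGroup M := IsCyclic.commGroup
      infer_instance)
  have hd2 : ¬ 2 ∣ d := by
    intro h2
    have : Fact (Nat.Prime 2) := ⟨Nat.prime_two⟩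
    obtain ⟨t, ht2⟩ := exists_prime_orderOf_dvd_card'
      (G := Subgroup.normalizer ((P : Subgroup M) : Set M)) 2 (hN ▸ h2.mul_left 11)
    have htp : orderOf ((t : M) : Perm α) = 2 := by
      rw [Subgroup.orderOf_coe, Subgroup.orderOf_coe, ht2]
    have hs := Perm.support_card_of_involution (p := 11) ((P : Subgroup M).map M.subtype) hα hP'
      (fun c hc => mem_of_commute _ hab c hc) (by norm_num) ((t : M) : Perm α)
      (htp ▸ pow_orderOf_eq_one _) (fun e => by rw [e, orderOf_one] at htp; norm_num at htp)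
      (by
        rintro _ ⟨g, hg, rfl⟩
        exact ⟨(t : M) * g * (t : M)⁻¹, (Subgroup.mem_normalizer_iff.mp t.2 g).mp hg, rfl⟩)
    have := sign_of_support_ten (htp ▸ pow_orderOf_eq_one _) hs
    rw [Perm.mem_alternatingGroup.mp (hM (t : M).2)] at this
    exact absurd this (by decide)
  have hd5 : d = 5 := by
    have := Nat.le_of_dvd (by norm_num) hd
    interval_cases d <;> omega
  subst hd5
  have hn_ne : n ≠ 1 := fun h1 => hsol (Perm.isSolvable_of_normal_sylow (G := M) hα' P (hn.symm.trans h1))
  have hsimple : IsSimpleGroup M := by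
    refine Cfsg.Agent.S1013.result hα M P (by rw [← hn]; have := Nat.card_pos (α := Sylow 11 M); omega) ?_
    have h1 := ((P : Subgroup M).subgroupOf (Subgroup.normalizer ((P : Subgroup M) : Set M))).index_mul_card
    rw [Nat.card_congr (Subgroup.subgroupOfEquivOfLe Subgroup.le_normalizer).toEquiv, hP, hN] at h1
    rw [show ((P : Subgroup M).subgroupOf (Subgroup.normalizer ((P : Subgroup M) : Set M))).index = 5
      by omega]
    norm_num
  refine ⟨?_, hsimple⟩
  have h55 : Nat.card M = 55 * n := by rw [hcard]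
  have hdA : 55 * n ∣ 55 * 362880 := by
    have := Subgroup.card_dvd_of_le hM
    have : Nontrivial α := Fintype.one_lt_card_iff_nontrivial.mp (by omega)
    rw [h55, nat_card_alternatingGroup, hα'] at *
    exact ‹55 * n ∣ _›.trans (dvd_of_eq (by decide))
  have hn0 : n ∣ 362880 := Nat.dvd_of_mul_dvd_mul_left (by norm_num) hdA
  have h5 : ¬ 5 ∣ n := by
    intro h5
    have : Fact (Nat.Prime 5) := ⟨Nat.prime_five⟩
    obtain ⟨c, hc⟩ := (Perm.exists_with_cycleType_iff α).mpr
      (show ({5} : Multiset ℕ).sum ≤ Fintype.card α ∧ ∀ a ∈ ({5} : Multiset ℕ), 2 ≤ a by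
        rw [hα]; simp)
    obtain ⟨g, hg⟩ := exists_conj_mem (p := 5) (e := 2) (m := 1596672) (by rw [hα]; decide) (by norm_num)
      M (by rw [h55]; exact (show 5 ^ 2 = 5 * 5 by norm_num) ▸ mul_dvd_mul (by norm_num) h5) c
      (by rw [← Perm.lcm_cycleType, hc]; rfl)
    exact cycle_absent hα M hA hg Nat.prime_five (by norm_num) (by rw [Perm.cycleType_conj, hc])
  have h7 : ¬ 7 ∣ n := by
    intro h7
    have : Fact (Nat.Prime 7) := ⟨by norm_num⟩
    obtain ⟨g, hg⟩ := exists_prime_orderOf_dvd_card' (G := M) 7 (h55 ▸ h7.mul_left 55)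
    have hgp : orderOf (g : Perm α) = 7 := by rw [Subgroup.orderOf_coe, hg]
    obtain ⟨k, hk⟩ := Perm.cycleType_prime_order (σ := (g : Perm α)) (hgp ▸ by norm_num)
    rw [hgp] at hk
    have := (Perm.sum_cycleType (g : Perm α)).trans_le (hα ▸ Finset.card_le_univ _)
    rw [hk, Multiset.sum_replicate, smul_eq_mul] at this
    exact cycle_absent hα M hA g.2 (p := 7) (by norm_num) (by norm_num)
      (by rw [hk, show k = 0 by omega]; rfl)
  have h81 : ¬ 81 ∣ n := by
    intro h81
    have : Fact (Nat.Prime 3) := ⟨Nat.prime_three⟩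
    obtain ⟨c, hc⟩ := (Perm.exists_with_cycleType_iff α).mpr
      (show ({3} : Multiset ℕ).sum ≤ Fintype.card α ∧ ∀ a ∈ ({3} : Multiset ℕ), 2 ≤ a by
        rw [hα]; simp)
    obtain ⟨g, hg⟩ := exists_conj_mem (p := 3) (e := 4) (m := 492800) (by rw [hα]; decide) (by norm_num)
      M (by rw [h55]; exact (show (3 : ℕ) ^ 4 = 81 by norm_num) ▸ h81.mul_left 55) c
      (by rw [← Perm.lcm_cycleType, hc]; rfl)
    exact cycle_absent hα M hA hg Nat.prime_three (by norm_num) (by rw [Perm.cycleType_conj, hc])
  have h10368 : n ∣ 2 ^ 7 * 3 ^ 4 := by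
    have c5 : Nat.Coprime n 5 := (Nat.prime_five.coprime_iff_not_dvd.mpr h5).symm
    have c7 : Nat.Coprime n 7 := ((show Nat.Prime 7 by norm_num).coprime_iff_not_dvd.mpr h7).symm
    exact (c5.mul_right c7).dvd_of_dvd_mul_right (show n ∣ 2 ^ 7 * 3 ^ 4 * (5 * 7) from hn0)
  obtain ⟨a, b, ha, hb, rfl⟩ := Nat.dvd_mul.mp h10368
  obtain ⟨i, hi, rfl⟩ := (Nat.dvd_prime_pow Nat.prime_two).mp ha
  obtain ⟨j, hj, rfl⟩ := (Nat.dvd_prime_pow Nat.prime_three).mp hb
  have hj3 : j ≤ 3 := by
    by_contra hj3
    exact h81 (Dvd.dvd.mul_left (show 81 ∣ 3 ^ j by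
      rw [show j = 4 by omega]; norm_num) _)
  have hne : Nat.card M ≠ 95040 := false_of_card_95040 hα M hM hA
  rw [h55] at hne ⊢
  interval_cases i <;> interval_cases j <;> simp at hn1 hn_ne hne ⊢

theorem sharply_four (hα : Fintype.card α = 11) [Fact (Nat.Prime 11)] (M : Subgroup (Perm α))
    [IsPretransitive M α] (hM : M ≤ alternatingGroup α) (hA : ¬ alternatingGroup α ≤ M)
    [IsSimpleGroup M] (h : Nat.card M = 7920) :
    IsMultiplyPretransitive M α 4 ∧ ∀ x : Fin 4 ↪ α, stabilizer M x = ⊥ := by
  classical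
  have : Fact (Nat.Prime 5) := ⟨Nat.prime_five⟩
  have : Fact (Nat.Prime 3) := ⟨Nat.prime_three⟩
  obtain ⟨f, a, x₀, T⟩ := Cfsg.Agent.Order7920.exists_table3 (G := M) h
  have hle : ∀ g : Perm α, g.cycleType.sum ≤ 11 := fun g =>
    (Perm.sum_cycleType g).trans_le (hα ▸ Finset.card_le_univ g.support)
  have h3 : ∀ u : M, orderOf u = 3 → (u : Perm α).support.card = 9 := by
    intro u hu
    have hup : orderOf (u : Perm α) = 3 := by rw [Subgroup.orderOf_coe, hu]
    obtain ⟨k, hk⟩ := Perm.cycleType_prime_order (σ := (u : Perm α)) (hup ▸ Nat.prime_three)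
    rw [hup] at hk
    have hs := hle (u : Perm α)
    rw [hk, Multiset.sum_replicate, smul_eq_mul] at hs
    have hk0 : k ≠ 0 := fun e =>
      cycle_absent hα M hA u.2 Nat.prime_three (by norm_num) (by rw [hk, e]; rfl)
    have hk1 : k ≠ 1 := by
      intro e
      obtain ⟨Q⟩ : Nonempty (Sylow 3 M) := inferInstance
      have hQc := Cfsg.Agent.Order7920.card_sylow_three_subgroup T.toTable2 Q
      have hfix : ∀ q : (Q : Subgroup M), q ≠ 1 → Fintype.card (fixedBy α q) = 5 := by
        intro q hq
        have hqo : orderOf (q : M) = 3 := by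
          have h1 : orderOf q ∣ 3 ^ 2 := by
            have := orderOf_dvd_natCard q; rwa [hQc] at this
          obtain ⟨i, hi, hi'⟩ := (Nat.dvd_prime_pow Nat.prime_three).mp h1
          have h9 := T.toTable2.pow_three (y := (q : M))
          rw [Subgroup.orderOf_coe] at h9 ⊢
          rw [hi'] at h9 ⊢
          interval_cases i
          · exact absurd (orderOf_eq_one_iff.mp (by rw [hi', pow_zero])) hq
          · norm_num
          · norm_num at h9
        obtain ⟨g, hg⟩ := isConj_iff.mp (T.conj_u u q hu hqo)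
        have hsq : ((q : M) : Perm α).support.card = 6 := by
          rw [← Perm.sum_cycleType, ← hg, Subgroup.coe_mul, Subgroup.coe_mul, Subgroup.coe_inv,
            Perm.cycleType_conj, hk, e]
          rfl
        rw [Fintype.card_of_subtype ((q : M) : Perm α).supportᶜ (fun y => by
          rw [Finset.mem_compl, Perm.notMem_support]; rfl), Finset.card_compl, hα, hsq]
      have hB := sum_card_fixedBy_eq_card_orbits_mul_card_group (Q : Subgroup M) α
      rw [← Finset.add_sum_erase _ _ (Finset.mem_univ (1 : (Q : Subgroup M))),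
        Finset.sum_const_nat (fun q hq => hfix q (Finset.ne_of_mem_erase hq)),
        Finset.card_erase_of_mem (Finset.mem_univ _), Finset.card_univ,
        show Fintype.card (Q : Subgroup M) = 9 by rw [← Nat.card_eq_fintype_card, hQc]] at hB
      have h1 : Fintype.card (fixedBy α (1 : (Q : Subgroup M))) = 11 := by
        rw [← hα]; exact Fintype.card_congr (Equiv.subtypeUnivEquiv fun y => one_smul _ y)
      rw [h1] at hB
      omega
    rw [← Perm.sum_cycleType, hk, Multiset.sum_replicate, smul_eq_mul]
    omega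
  have h2 : ∀ t : M, orderOf t = 2 → (t : Perm α).support.card = 8 := by
    have : Fact (Nat.Prime 2) := ⟨Nat.prime_two⟩
    obtain ⟨u, hu⟩ := exists_prime_orderOf_dvd_card' (G := M) 3 (by rw [h]; norm_num)
    obtain ⟨c, hc, hcu⟩ := Cfsg.Agent.Order7920.exists_invol_commute T.toTable2 hu
    have hcp : orderOf (c : Perm α) = 2 := by rw [Subgroup.orderOf_coe, hc]
    have hcu' : Commute (c : Perm α) (u : Perm α) := congrArg Subtype.val hcu.eq
    have hbig : 6 ≤ (c : Perm α).support.card ∨ (c : Perm α).support.card ≤ 2 := by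
      by_cases hS : ∃ b ∈ (c : Perm α).support, b ∈ (u : Perm α).support
      · left
        obtain ⟨b, hbc, hbu⟩ := hS
        rw [Perm.mem_support] at hbc hbu
        set C := (c : Perm α)
        set U := (u : Perm α)
        have hU3 : ∀ y, U (U (U y)) = y := fun y => by
          have e : U ^ 3 = 1 := by
            rw [show (3 : ℕ) = orderOf U by rw [Subgroup.orderOf_coe, hu]]; exact pow_orderOf_eq_one _
          calc U (U (U y)) = (U ^ 3) y := rfl
            _ = y := by rw [e]; rfl
        have hC2 : ∀ y, C (C y) = y := fun y => by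
          have e : C ^ 2 = 1 := hcp ▸ pow_orderOf_eq_one _
          calc C (C y) = (C ^ 2) y := rfl
            _ = y := by rw [e]; rfl
        have hCU : ∀ y, C (U y) = U (C y) := fun y => by
          rw [← Perm.mul_apply, hcu'.eq, Perm.mul_apply]
        have e1 : U b ≠ U (U b) := fun e => hbu (U.injective e).symm
        have e2 : b ≠ U (U b) := fun e => hbu (by conv_lhs => rw [e]; rw [hU3])
        have f0 : C b ≠ U b := fun e => by
          have := congrArg C e; rw [hC2, hCU, e] at this; exact e2 this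
        have f1 : C b ≠ U (U b) := fun e => by
          have := congrArg C e
          rw [hC2, hCU, hCU, e, hU3] at this
          exact hbu this.symm
        let O : Finset α := {b, U b, U (U b)}
        have hO : O.card = 3 := Finset.card_eq_three.mpr ⟨_, _, _, Ne.symm hbu, e2, e1, rfl⟩
        have hdisj : Disjoint O (O.image C) := by
          rw [Finset.disjoint_left]
          intro y hy hy'
          obtain ⟨z, hz, rfl⟩ := Finset.mem_image.mp hy'
          simp only [O, Finset.mem_insert, Finset.mem_singleton] at hy hz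
          rcases hz with rfl | rfl | rfl <;> rcases hy with hy | hy | hy <;>
            (try simp only [hCU] at hy) <;>
            first
              | exact hbc hy
              | exact f0 hy
              | exact f1 hy
              | exact hbc (U.injective hy)
              | exact hbc (U.injective (U.injective hy))
              | exact f0 (U.injective hy)
              | exact f1 (U.injective (U.injective (hy.trans (hU3 _).symm)))
              | (have := congrArg U hy; simp only [hU3] at this; first | exact f0 this | exact f1 this | exact hbc this)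
              | (have := congrArg (fun y => U (U y)) hy; simp only [hU3] at this; first | exact f0 this | exact f1 this | exact hbc this)
        have hsub : O ∪ O.image C ⊆ C.support := by
          intro y hy
          rw [Perm.mem_support]
          rcases Finset.mem_union.mp hy with hy | hy
          · intro e
            exact Finset.disjoint_left.mp hdisj hy (Finset.mem_image.mpr ⟨y, hy, e⟩)
          · obtain ⟨z, hz, rfl⟩ := Finset.mem_image.mp hy
            intro e
            rw [hC2] at e
            exact Finset.disjoint_left.mp hdisj hz (Finset.mem_image.mpr ⟨z, hz, e.symm⟩)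
        have := Finset.card_le_card hsub
        rw [Finset.card_union_of_disjoint hdisj, Finset.card_image_of_injective _ C.injective, hO] at this
        omega
      · right
        simp only [not_exists, not_and] at hS
        calc (c : Perm α).support.card ≤ (u : Perm α).supportᶜ.card :=
              Finset.card_le_card fun y hy => Finset.mem_compl.mpr (hS y hy)
          _ = 2 := by rw [Finset.card_compl, hα, h3 u hu]
    obtain ⟨k, hk⟩ := Perm.cycleType_prime_order (σ := (c : Perm α)) (hcp ▸ Nat.prime_two)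
    rw [hcp] at hk
    have hk' := hle (c : Perm α)
    have hsum := Perm.sum_cycleType (c : Perm α)
    have hsg := Perm.mem_alternatingGroup.mp (hM c.2)
    rw [Perm.sign_of_cycleType, hk, Multiset.sum_replicate, Multiset.card_replicate, smul_eq_mul] at hsg
    rw [hk, Multiset.sum_replicate, smul_eq_mul] at hk' hsum
    have : k ≤ 4 := by omega
    have hc8 : (c : Perm α).support.card = 8 := by
      interval_cases k <;> first | omega | exact absurd hsg (by decide)
    intro t ht
    obtain ⟨g, hg⟩ := isConj_iff.mp (T.conj_t c t hc ht)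
    rw [← hg, Subgroup.coe_mul, Subgroup.coe_mul, Subgroup.coe_inv, Perm.card_support_conj, hc8]
  have hreg : ∀ x : Fin 4 ↪ α, stabilizer M x = ⊥ := by
    intro x
    by_contra hne
    obtain ⟨r, hr, hrd⟩ := Nat.exists_prime_and_dvd (n := Nat.card (stabilizer M x))
      (fun e => hne (Subgroup.card_eq_one.mp e))
    have : Fact r.Prime := ⟨hr⟩
    obtain ⟨⟨g, hg⟩, hgo⟩ := exists_prime_orderOf_dvd_card' r hrd
    rw [Subgroup.orderOf_mk] at hgo
    have hgp : orderOf (g : Perm α) = r := by rw [Subgroup.orderOf_coe, hgo]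
    have hfix : ∀ i, (g : Perm α) (x i) = x i := fun i =>
      congrArg (fun e : Fin 4 ↪ α => e i) (mem_stabilizer_iff.mp hg)
    have hs7 : (g : Perm α).support.card ≤ 7 := by
      calc (g : Perm α).support.card ≤ ((Finset.univ.map x)ᶜ).card :=
            Finset.card_le_card fun y hy => Finset.mem_compl.mpr fun hy' => by
              obtain ⟨i, -, rfl⟩ := Finset.mem_map.mp hy'
              exact Perm.mem_support.mp hy (hfix i)
        _ = 7 := by rw [Finset.card_compl, hα, Finset.card_map, Finset.card_univ, Fintype.card_fin]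
    have hr7920 : r ∣ 2 ^ 4 * 3 ^ 2 * 5 * 11 := (hrd.trans (stabilizer M x).card_subgroup_dvd_card).trans
      (dvd_of_eq (by rw [h]; norm_num))
    have hr' : r = 2 ∨ r = 3 ∨ r = 5 ∨ r = 11 := by
      rcases (Nat.Prime.dvd_mul hr).mp hr7920 with h1 | h1
      · rcases (Nat.Prime.dvd_mul hr).mp h1 with h2 | h2
        · rcases (Nat.Prime.dvd_mul hr).mp h2 with h3 | h3
          · exact Or.inl ((Nat.prime_dvd_prime_iff_eq hr Nat.prime_two).mp (hr.dvd_of_dvd_pow h3))
          · exact Or.inr (Or.inl ((Nat.prime_dvd_prime_iff_eq hr Nat.prime_three).mp (hr.dvd_of_dvd_pow h3)))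
        · exact Or.inr (Or.inr (Or.inl ((Nat.prime_dvd_prime_iff_eq hr Nat.prime_five).mp h2)))
      · exact Or.inr (Or.inr (Or.inr ((Nat.prime_dvd_prime_iff_eq hr (by norm_num)).mp h1)))
    rcases hr' with rfl | rfl | rfl | rfl
    · have := h2 g hgo; omega
    · have := h3 g hgo; omega
    · have := Perm.sum_cycleType (g : Perm α)
      rw [cycleType_five hα M hA g.2 hgp, Multiset.sum_replicate, smul_eq_mul] at this
      omega
    · obtain ⟨k, hk⟩ := Perm.cycleType_prime_order (σ := (g : Perm α)) (hgp ▸ hr)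
      have := Perm.sum_cycleType (g : Perm α)
      rw [hk, hgp, Multiset.sum_replicate, smul_eq_mul] at this
      omega
  refine ⟨⟨fun x y => ?_⟩, hreg⟩
  have horb : orbit M x = Set.univ := by
    apply Set.eq_of_subset_of_ncard_le (Set.subset_univ _)
    have hi : (stabilizer M x).index = (orbit M x).ncard := index_stabilizer ..
    rw [Set.ncard_univ, ← hi, hreg, Subgroup.index_bot, h, Nat.card_eq_fintype_card,
      Fintype.card_embedding_eq, hα, Fintype.card_fin]
    decide
  exact mem_orbit_iff.mp (horb ▸ Set.mem_univ y)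

theorem le_alternating (hα : Fintype.card α = 11) (G : Subgroup (Perm α)) [IsPretransitive G α]
    (hG : ¬ Group.IsSolvable G) (hA : ¬ alternatingGroup α ≤ G) :
    G ≤ alternatingGroup α := by
  have : Fact (Nat.Prime 11) := ⟨by norm_num⟩
  have hα' : Nat.card α = 11 := Nat.card_eq_fintype_card.trans hα
  have : Nonempty α := Fintype.card_pos_iff.mp (by omega)
  let σ : G →* ℤˣ := Perm.sign.comp G.subtype
  obtain ⟨P⟩ : Nonempty (Sylow 11 G) := inferInstance
  obtain ⟨hP, ht, -⟩ := Perm.sylow_prime_degree (G := G) hα' P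
  have hPσ : (P : Subgroup G) ≤ σ.ker := by
    intro g hg
    have h1 : g ^ 11 = 1 := by
      have := pow_card_eq_one' (x := (⟨g, hg⟩ : (P : Subgroup G)))
      rw [hP] at this
      exact congrArg Subtype.val this
    have h2 : σ g ^ 11 = 1 := by rw [← map_pow, h1, map_one]
    rw [Int.units_pow_eq_pow_mod_two, show 11 % 2 = 1 from rfl, pow_one] at h2
    exact MonoidHom.mem_ker.mpr h2
  by_contra hGA
  have hodd : ∃ g ∈ Subgroup.normalizer ((P : Subgroup G) : Set G), σ g ≠ 1 := by
    by_contra hall
    simp only [not_exists, not_and, not_not] at hall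
    have htop := P.normalizer_sup_eq_top' hPσ
    rw [sup_eq_right.mpr (fun g hg => MonoidHom.mem_ker.mpr (hall g hg))] at htop
    exact hGA fun g hg => Perm.mem_alternatingGroup.mpr
      (MonoidHom.mem_ker.mp (htop ▸ Subgroup.mem_top (⟨g, hg⟩ : G) : (⟨g, hg⟩ : G) ∈ σ.ker))
  obtain ⟨g, hgN, hgσ⟩ := hodd
  have heven : Even (Nat.card (Subgroup.normalizer ((P : Subgroup G) : Set G))) := by
    refine even_iff_two_dvd.mpr ?_
    refine dvd_trans ?_ (Subgroup.orderOf_dvd_natCard _ hgN)
    by_contra hodd'
    apply hgσ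
    have h2 : σ g ^ orderOf g = 1 := by rw [← map_pow, pow_orderOf_eq_one, map_one]
    rwa [Int.units_pow_eq_pow_mod_two, show orderOf g % 2 = 1 by omega, pow_one] at h2
  have h3 := Cfsg.Agent.S0676.result hα G hG P heven
  have h990 : 990 ∣ Nat.card G := by
    classical
    have h3' : IsPretransitive G (Fin 3 ↪ α) := h3
    obtain ⟨e⟩ : Nonempty (Fin 3 ↪ α) :=
      Function.Embedding.nonempty_of_card_le (by rw [Fintype.card_fin, hα]; norm_num)
    have he := (stabilizer G e).index_mul_card
    rw [show (stabilizer G e).index = Nat.card (Fin 3 ↪ α) from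
        @index_stabilizer_of_transitive G (Fin 3 ↪ α) _ _ e h3', Nat.card_eq_fintype_card,
      Fintype.card_embedding_eq, hα, Fintype.card_fin] at he
    exact ⟨_, by rw [← he]; rfl⟩
  -- the even part
  set M := G ⊓ alternatingGroup α with hMdef
  have hker : σ.ker = M.subgroupOf G := by
    ext g
    simp [σ, M, Subgroup.mem_subgroupOf, Perm.mem_alternatingGroup]
  have : IsPretransitive M α := by
    refine ⟨fun x y => ?_⟩
    obtain ⟨q, hq⟩ := exists_smul_eq (P : Subgroup G) x y
    exact ⟨⟨((q : G) : Perm α), (q : G).2, Perm.mem_alternatingGroup.mpr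
      (MonoidHom.mem_ker.mp (hPσ q.2))⟩, hq⟩
  have hMs : ¬ Group.IsSolvable M := fun h => hG (by
    refine Group.isSolvable_of_ker_le_range (Subgroup.inclusion inf_le_left : M →* G) σ ?_
    rw [Subgroup.inclusion_range, hker])
  obtain ⟨hcard, hsimple⟩ := data_of_le_alternating hα M inf_le_right
    (fun h => hA (h.trans inf_le_left)) hMs
  have h2 := σ.ker.index_mul_card
  rw [Subgroup.index_ker, hker, Nat.card_congr (Subgroup.subgroupOfEquivOfLe inf_le_left).toEquiv] at h2
  have hr : Nat.card σ.range ∣ 2 := by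
    refine σ.range.card_subgroup_dvd_card.trans ?_
    rw [Nat.card_eq_fintype_card, Fintype.card_units_int]
  rcases hcard with hc | hc
  · rw [hc] at h2
    rw [← h2] at h990
    rcases (Nat.dvd_prime Nat.prime_two).mp hr with h | h <;> rw [h] at h990 <;> norm_num at h990
  · -- outer automorphisms of the group of order 7920 are inner
    apply hgσ
    obtain ⟨e⟩ := Cfsg.Agent.Order7920.nonempty_mulEquiv_m11 (G := M) hc
    have hAn : (alternatingGroup α).Normal := inferInstance
    have hn1 : ∀ x ∈ M, (g : Perm α) * x * (g : Perm α)⁻¹ ∈ M := fun x hx =>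
      Subgroup.mem_inf.mpr ⟨G.mul_mem (G.mul_mem g.2 (Subgroup.mem_inf.mp hx).1) (G.inv_mem g.2),
        hAn.conj_mem x (Subgroup.mem_inf.mp hx).2 _⟩
    have hn2 : ∀ x ∈ M, (g : Perm α)⁻¹ * x * (g : Perm α) ∈ M := fun x hx =>
      Subgroup.mem_inf.mpr ⟨G.mul_mem (G.mul_mem (G.inv_mem g.2) (Subgroup.mem_inf.mp hx).1) g.2, by
        simpa using hAn.conj_mem x (Subgroup.mem_inf.mp hx).2 (g : Perm α)⁻¹⟩
    let ψ : M ≃* M :=
      { toFun := fun x => ⟨(g : Perm α) * x * (g : Perm α)⁻¹, hn1 x x.2⟩
        invFun := fun x => ⟨(g : Perm α)⁻¹ * x * (g : Perm α), hn2 x x.2⟩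
        left_inv := fun x => Subtype.ext (by simp [mul_assoc])
        right_inv := fun x => Subtype.ext (by simp [mul_assoc])
        map_mul' := fun x y => Subtype.ext (by simp [mul_assoc]) }
    obtain ⟨s, hs⟩ := Cfsg.Agent.MathieuEleven.exists_conj_eq ((e.symm.trans ψ).trans e)
    set m := e.symm s with hm
    have hψ : ∀ x : M, ψ x = m * x * m⁻¹ := fun x => e.injective (by
      have := DFunLike.congr_fun hs (e x)
      simp only [MulAut.conj_apply, MulEquiv.trans_apply, MulEquiv.symm_apply_apply] at this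
      rw [map_mul, map_mul, map_inv, hm, MulEquiv.apply_symm_apply, this])
    obtain ⟨Q⟩ : Nonempty (Sylow 11 M) := inferInstance
    obtain ⟨-, hQt, hQab⟩ := sylow_image hα M Q
    have hcmem : (m : Perm α)⁻¹ * (g : Perm α) ∈ (Q : Subgroup M).map M.subtype := by
      refine mem_of_commute _ hQab _ fun q hq => ?_
      obtain ⟨q', -, rfl⟩ := hq
      have := congrArg Subtype.val (hψ q')
      change (g : Perm α) * q' * (g : Perm α)⁻¹ = m * q' * (m : Perm α)⁻¹ at this
      rw [mul_inv_eq_iff_eq_mul] at this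
      show (q' : Perm α) * _ = _ * (q' : Perm α)
      rw [mul_assoc _ (g : Perm α), this]
      group
    obtain ⟨q, -, hq⟩ := hcmem
    have hgm : (g : Perm α) ∈ M := by
      have : (g : Perm α) = (m : Perm α) * (q : Perm α) := by
        rw [show (q : Perm α) = (m : Perm α)⁻¹ * g from hq, mul_inv_cancel_left]
      rw [this]; exact mul_mem m.2 q.2
    exact Perm.mem_alternatingGroup.mp hgm.2

/-- A non-solvable transitive permutation group on 11 points that does not contain the alternating group is either sharply 4-transitive (of order 7920) or isomorphic to the projective special linear group of degree 2 over the field with 11 elements. -/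
theorem result {α : Type*} [Fintype α] [DecidableEq α] (hα : Fintype.card α = 11) (G : Subgroup (Equiv.Perm α)) [MulAction.IsPretransitive G α] (hG : ¬ Group.IsSolvable G) (hA : ¬ alternatingGroup α ≤ G) : (MulAction.IsMultiplyPretransitive G α 4 ∧ ∀ x : Fin 4 ↪ α, MulAction.stabilizer G x = ⊥) ∨ Nonempty (G ≃* Matrix.ProjectiveSpecialLinearGroup (Fin 2) (ZMod 11)) := by
  have : Fact (Nat.Prime 11) := ⟨by norm_num⟩
  obtain ⟨hcard, hsimple⟩ := data_of_le_alternating hα G (le_alternating hα G hG hA) hA hG
  rcases hcard with h | h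
  · exact Or.inr (Cfsg.Agent.S0498.result 11 (Or.inl rfl) (by rw [h]; norm_num) (ZMod.card 11))
  · exact Or.inl (sharply_four hα G (le_alternating hα G hG hA) hA h)

end Cfsg.Agent.S0679
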