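import Cfsg.Statements.S0680
import Cfsg.Agent.Lib.Perm.FrobeniusNormal
import Cfsg.Agent.Lib.Perm.Sharp

set_option autoImplicit false
open Cfsg

namespace Cfsg.Agent.S0680

/-- A finite sharply doubly transitive permutation group has degree a prime power `p ^ j`; a Sylow `p`-subgroup is normal, elementary abelian and regular, and consists of the identity together with the elements without fixed points. (Frobenius' Theorem is not needed.) -/
theorem result {α : Type*} [Fintype α] [DecidableEq α] (G : Subgroup (Equiv.Perm α)) [MulAction.IsMultiplyPretransitive G α 2] (hsharp : ∀ x : Fin 2 ↪ α, MulAction.stabilizer G x = ⊥) (h2 : 2 ≤ Fintype.card α) : ∃ p j : ℕ, p.Prime ∧ 1 ≤ j ∧ Fintype.card α = p ^ j ∧ ∀ (hp : Fact p.Prime) (P : Sylow p G), (P : Subgroup G).Normal ∧ IsMulCommutative (P : Subgroup G) ∧ (∀ x ∈ (P : Subgroup G), x ^ p = 1) ∧ MulAction.IsPretransitive (P : Subgroup G) α ∧ (∀ a : α, MulAction.stabilizer (P : Subgroup G) a = ⊥) ∧ ∀ g : G, g ∈ (P : Subgroup G) ↔ g = 1 ∨ ∀ a : α, g • a ≠ a :=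 by
  have hs := Perm.eq_one_of_sharp_pair (G := G) hsharp
  obtain ⟨p, j, T, hp, hj, hcard, hTn, hTc, hTp, hTt, hTs, hTmem⟩ :=
    Perm.exists_regular_of_sharply_two_transitive (by rwa [Nat.card_eq_fintype_card]) inferInstance hs
  refine ⟨p, j, hp, hj, by rwa [← Nat.card_eq_fintype_card], fun _ P => ?_⟩
  have : Nonempty α := Fintype.card_pos_iff.mp (by omega)
  have : T.Normal := hTn
  have hTcard : Nat.card T = p ^ j := (Perm.card_eq_of_regular hTt hTs).trans hcard
  obtain ⟨Q, hQ⟩ := (IsPGroup.of_card hTcard).exists_le_sylow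
  have hindex : ¬ p ∣ T.index := by
    intro hdvd
    have hfac : T.index * Nat.card T = Nat.card G := T.index_mul_card
    obtain ⟨x0⟩ := (inferInstance : Nonempty α)
    have hGt : MulAction.IsPretransitive G α := MulAction.isPretransitive_of_is_two_pretransitive
    have h1 := (MulAction.stabilizer G x0).index_mul_card
    rw [MulAction.index_stabilizer_of_transitive G x0, hcard] at h1
    rw [hTcard, ← h1, mul_comm] at hfac
    have heq : T.index = Nat.card (MulAction.stabilizer G x0) :=
      mul_left_cancel₀ (pow_ne_zero j hp.ne_zero) hfac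
    rw [heq] at hdvd
    have : Fact p.Prime := ⟨hp⟩
    obtain ⟨g, hg⟩ := exists_prime_orderOf_dvd_card' p hdvd
    have hgG : orderOf (g : G) = p := by rw [Subgroup.orderOf_coe]; exact hg
    -- an element of order `p` fixing a point fixes two points
    have hPg : IsPGroup p (Subgroup.zpowers (g : G)) :=
      IsPGroup.of_card (n := 1) (by rw [pow_one, Nat.card_zpowers, hgG])
    have hm := hPg.card_modEq_card_fixedPoints α
    have hfix : ∀ y : α, (g : G) • y = y → y = x0 := fun y hy => by
      by_contra hne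
      have h' := hs g y x0 hne hy g.2
      rw [h', orderOf_one] at hgG
      exact hp.one_lt.ne hgG
    have h1' : Nat.card (MulAction.fixedPoints (Subgroup.zpowers (g : G)) α) = 1 := by
      rw [Nat.card_eq_one_iff_exists]
      exact ⟨⟨x0, fun ⟨k, hk⟩ => (Subgroup.zpowers_le.mpr g.2 hk : k ∈ MulAction.stabilizer G x0)⟩,
        fun y => Subtype.ext (hfix y (y.2 ⟨g, Subgroup.mem_zpowers _⟩))⟩
    rw [h1', hcard] at hm
    have h0 : p ^ j ≡ 0 [MOD p] := Nat.modEq_zero_iff_dvd.mpr (dvd_pow_self p (by omega))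
    exact hp.one_lt.ne' (Nat.dvd_one.mp (Nat.modEq_zero_iff_dvd.mp ((h0.symm.trans hm).symm)))
  let Q' : Sylow p G := (IsPGroup.of_card hTcard).toSylow hindex
  have hQ' : (Q' : Subgroup G) = T := rfl
  have : (Q' : Subgroup G).Normal := hQ'.symm ▸ hTn
  have hPQ : P = Q' := by
    have := Sylow.unique_of_normal Q' this
    exact Subsingleton.elim _ _
  rw [hPQ, hQ']
  exact ⟨hTn, hTc, hTp, hTt, hTs, hTmem⟩

end Cfsg.Agent.S0680
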