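import Cfsg.Statements.S0681
import Cfsg.Agent.Lib.Perm.NearField

set_option autoImplicit false
open Cfsg

namespace Cfsg.Agent.S0681

/-- The affine maps `x ↦ x * a + b`, `a ≠ 0`, of a near-field form a sharply doubly transitive permutation group. -/
theorem result {F : Type*} [Cfsg.NearField F] : ∃ H : Subgroup (Equiv.Perm F), (∀ σ : Equiv.Perm F, σ ∈ H ↔ ∃ a b : F, a ≠ 0 ∧ ∀ x : F, σ x = x * a + b) ∧ MulAction.IsMultiplyPretransitive H F 2 ∧ ∀ x : Fin 2 ↪ F, MulAction.stabilizer H x = ⊥ := by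
  let H : Subgroup (Equiv.Perm F) :=
    { carrier := {σ | ∃ a b : F, a ≠ 0 ∧ ∀ x : F, σ x = x * a + b}
      one_mem' := ⟨1, 0, (NearField.zero_ne_one).symm, fun x => by simp⟩
      mul_mem' := by
        rintro σ τ ⟨a, b, ha, hσ⟩ ⟨c, d, hc, hτ⟩
        exact ⟨c * a, d * a + b, Perm.nf_mul_ne_zero hc ha, fun x => by
          rw [Equiv.Perm.mul_apply, hτ, hσ, Perm.nf_add_mul, mul_assoc, add_assoc]⟩
      inv_mem' := by
        rintro σ ⟨a, b, ha, hσ⟩
        obtain ⟨c, hac, hca⟩ := NearField.exists_inv a ha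
        refine ⟨c, -(b * c), fun h => NearField.zero_ne_one (F := F) (by
          rw [← hac, h, Perm.nf_mul_zero]), fun x => ?_⟩
        apply σ.injective
        rw [Equiv.Perm.inv_def, Equiv.apply_symm_apply, hσ, Perm.nf_add_mul, Perm.nf_neg_mul,
          mul_assoc, mul_assoc, hca, mul_one, mul_one, neg_add_cancel_right] }
  refine ⟨H, fun σ => Iff.rfl, ?_, ?_⟩
  · rw [MulAction.is_two_pretransitive_iff]
    intro x y u v hxy huv
    obtain ⟨c, hc, -⟩ := NearField.exists_inv (x - y) (sub_ne_zero.mpr hxy)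
    have hmul : (x - y) * (c * (u - v)) = u - v := by rw [← mul_assoc, hc, one_mul]
    have ha : c * (u - v) ≠ 0 := fun h => sub_ne_zero.mpr huv (by
      rw [← hmul, h, Perm.nf_mul_zero])
    refine ⟨⟨Equiv.ofBijective _ (Perm.nf_bijective_affine ha (-(y * (c * (u - v))) + v)),
      _, _, ha, fun z => rfl⟩, ?_, ?_⟩
    · show x * (c * (u - v)) + (-(y * (c * (u - v))) + v) = u
      rw [← add_assoc, ← sub_eq_add_neg, ← Perm.nf_sub_mul, hmul, sub_add_cancel]
    · show y * (c * (u - v)) + (-(y * (c * (u - v))) + v) = v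
      rw [add_neg_cancel_left]
  · intro x
    rw [Subgroup.eq_bot_iff_forall]
    rintro ⟨σ, a, b, ha, hσ⟩ hx
    rw [MulAction.mem_stabilizer_iff] at hx
    have e : ∀ i : Fin 2, x i * a + b = x i := fun i => by
      rw [← hσ]
      exact congrArg (fun f : Fin 2 ↪ F => f i) hx
    have hsub : (x 0 - x 1) * a = (x 0 - x 1) * 1 := by
      rw [mul_one, Perm.nf_sub_mul, ← add_sub_add_right_eq_sub (x 0 * a) (x 1 * a) b, e, e]
    have ha1 : a = 1 :=
      Perm.nf_eq_of_mul_eq_left (sub_ne_zero.mpr (x.injective.ne (by decide))) hsub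
    have hb : b = 0 := by
      have := e 0
      rwa [ha1, mul_one, add_eq_left] at this
    apply Subtype.ext
    ext z
    rw [hσ, ha1, hb]
    simp

end Cfsg.Agent.S0681
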