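import Cfsg.Statements.S0682
import Cfsg.Agent.Lib.Perm.NearField

set_option autoImplicit false
open Cfsg

namespace Cfsg.Agent.S0682

/-- A finite near-field has prime-power order; its additive group is commutative of prime exponent. -/
theorem result {F : Type*} [Cfsg.NearField F] [Finite F] : ∃ p j : ℕ, p.Prime ∧ 1 ≤ j ∧ Nat.card F = p ^ j ∧ (∀ x y : F, x + y = y + x) ∧ ∀ x : F, p • x = 0 := by
  have : Nontrivial F := ⟨⟨0, 1, NearField.zero_ne_one⟩⟩
  obtain ⟨hc, p, hp, hexp⟩ :=
    Perm.isMulCommutative_prime_exponent_of_transitive_auts (N := Multiplicative F) (by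
      intro x y hx hy
      have hx' : x.toAdd ≠ 0 := fun h => hx (Multiplicative.toAdd.injective h)
      have hy' : y.toAdd ≠ 0 := fun h => hy (Multiplicative.toAdd.injective h)
      obtain ⟨c, hc, -⟩ := NearField.exists_inv x.toAdd hx'
      have hcy : c * y.toAdd ≠ 0 := fun h => hy' (by
        rw [← one_mul y.toAdd, ← hc, mul_assoc, h, Perm.nf_mul_zero])
      let e : F ≃+ F :=
        { Equiv.ofBijective _ (Perm.nf_bijective_affine hcy 0) with
          map_add' := fun u v => by simp [Perm.nf_add_mul] }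
      refine ⟨AddEquiv.toMultiplicative e, Multiplicative.toAdd.injective ?_⟩
      show x.toAdd * (c * y.toAdd) + 0 = y.toAdd
      rw [add_zero, ← mul_assoc, hc, one_mul])
  have : Fact p.Prime := ⟨hp⟩
  have hpg : IsPGroup p (Multiplicative F) := fun g => ⟨1, by rw [pow_one]; exact hexp g⟩
  obtain ⟨j, hj⟩ := IsPGroup.iff_card.mp hpg
  have hcard : Nat.card F = p ^ j := hj ▸ (Nat.card_congr Multiplicative.ofAdd)
  refine ⟨p, j, hp, ?_, hcard, fun x y => hc.is_comm.comm (Multiplicative.ofAdd x)
    (Multiplicative.ofAdd y), fun x => hexp (Multiplicative.ofAdd x)⟩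
  by_contra h
  rw [show j = 0 by omega, pow_zero] at hcard
  exact (Finite.one_lt_card (α := F)).ne' hcard

end Cfsg.Agent.S0682
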