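import Cfsg.Statements.S0683
import Cfsg.Agent.Lib.Perm.FrobeniusNormal
import Cfsg.Agent.Lib.Perm.Sharp

set_option autoImplicit false
open Cfsg

namespace Cfsg.Agent.S0683

/-- A finite sharply doubly transitive permutation group is the affine group of a near-field: the permuted set carries a near-field structure for which the group consists exactly of the maps `x ↦ x * a + b` with `a ≠ 0`. -/
theorem result {α : Type*} [Fintype α] [DecidableEq α] (H : Subgroup (Equiv.Perm α)) [MulAction.IsMultiplyPretransitive H α 2] (hsharp : ∀ x : Fin 2 ↪ α, MulAction.stabilizer H x = ⊥) (h2 : 2 ≤ Fintype.card α) : ∃ _ : Cfsg.NearField α, ∀ σ : Equiv.Perm α, σ ∈ H ↔ ∃ a b : α, a ≠ 0 ∧ ∀ x : α, σ x = x * a + b := by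
  classical
  have hs := Perm.eq_one_of_sharp_pair (G := H) hsharp
  obtain ⟨p, j, T, hp, hj, hcard, hTn, hTc, -, hTt, hTs, -⟩ :=
    Perm.exists_regular_of_sharply_two_transitive (by rwa [Nat.card_eq_fintype_card]) inferInstance hs
  have : T.Normal := hTn
  have : Nontrivial α := Fintype.one_lt_card_iff_nontrivial.mp h2
  obtain ⟨o, e, hoe⟩ := exists_pair_ne α
  have hex : ∀ a : α, a ≠ o → ∃ g : H, g • o = o ∧ g • e = a := fun a ha =>
    MulAction.is_two_pretransitive_iff.mp inferInstance hoe (Ne.symm ha)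
  choose m hm0 hm1 using hex
  have huniq : ∀ g h : H, g • o = o → h • o = o → g • e = h • e → g = h := by
    intro g h hg hh he
    have := hs (h⁻¹ * g) o e hoe (by rw [mul_smul, hg, inv_smul_eq_iff, hh])
      (by rw [mul_smul, he, inv_smul_smul])
    exact (inv_mul_eq_one.mp this).symm
  let τ : α → T := fun x => (MulAction.exists_smul_eq T o x).choose
  have hτ : ∀ x, τ x • o = x := fun x => (MulAction.exists_smul_eq T o x).choose_spec
  have hτu : ∀ (t : T) x, t • o = x → τ x = t := fun t x h =>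
    Perm.eq_of_smul_eq_of_regular hTs ((hτ x).trans h.symm)
  have hmne : ∀ (g : H), g • o = o → ∀ {x : α}, x ≠ o → g • x ≠ o := fun g hg x hx h =>
    hx (MulAction.injective g (h.trans hg.symm))
  have hlin : ∀ (g : H), g • o = o → ∀ x y : α, g • (τ x • y) = τ (g • x) • (g • y) := by
    intro g hg x y
    have : τ (g • x) = MulAut.conjNormal g (τ x) := hτu _ _ (by
      rw [Subgroup.smul_def, MulAut.conjNormal_apply, Perm.conj_smul_of_fix _ hg,
        ← Subgroup.smul_def, hτ])
    rw [this, Subgroup.smul_def (MulAut.conjNormal g (τ x)), MulAut.conjNormal_apply, mul_smul,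
      mul_smul, inv_smul_smul]
    rfl
  let addI : AddGroup α :=
    { add := fun x y => τ x • y
      zero := o
      neg := fun x => (τ x)⁻¹ • o
      nsmul := @nsmulRec α ⟨o⟩ ⟨fun x y => τ x • y⟩
      zsmul := @zsmulRec α ⟨o⟩ ⟨fun x y => τ x • y⟩ ⟨fun x => (τ x)⁻¹ • o⟩ (@nsmulRec α ⟨o⟩ ⟨fun x y => τ x • y⟩)
      add_assoc := fun x y z => by
        show τ (τ x • y) • z = τ x • (τ y • z)
        rw [hτu (τ x * τ y) _ (by rw [mul_smul, hτ]), mul_smul]
      zero_add := fun x => by
        show τ o • x = x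
        rw [hτu 1 o (one_smul _ _), one_smul]
      add_zero := fun x => hτ x
      neg_add_cancel := fun x => by
        show τ ((τ x)⁻¹ • o) • x = o
        rw [hτu _ _ rfl]
        conv_lhs => arg 2; rw [← hτ x]
        rw [inv_smul_smul] }
  let mulop : α → α → α := fun x a => if h : a = o then o else m a h • x
  have hmul_o : ∀ x, mulop x o = o := fun x => dif_pos rfl
  have hmul_ne : ∀ x a (h : a ≠ o), mulop x a = m a h • x := fun x a h => dif_neg h
  let monI : Monoid α :=
    { mul := mulop
      one := e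
      mul_assoc := fun x a b => by
        show mulop (mulop x a) b = mulop x (mulop a b)
        by_cases hb : b = o
        · rw [hb, hmul_o, hmul_o, hmul_o]
        by_cases ha : a = o
        · rw [ha, hmul_o, hmul_ne _ _ hb, hm0 b hb, hmul_o]
        rw [hmul_ne _ _ hb, hmul_ne _ _ ha, hmul_ne a _ hb,
          hmul_ne x _ (hmne _ (hm0 b hb) ha), smul_smul]
        congr 1
        refine huniq _ _ ?_ (hm0 _ _) ?_
        · rw [mul_smul, hm0, hm0]
        · rw [mul_smul, hm1, hm1]
      one_mul := fun a => by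
        show mulop e a = a
        by_cases ha : a = o
        · rw [ha, hmul_o]
        · rw [hmul_ne _ _ ha, hm1]
      mul_one := fun x => by
        show mulop x e = x
        rw [hmul_ne _ _ hoe.symm]
        have : m e hoe.symm = 1 := huniq _ _ (hm0 _ _) (one_smul _ _) (by rw [hm1, one_smul])
        rw [this, one_smul] }
  let nf : Cfsg.NearField α :=
    { addI, monI with
      right_distrib := fun x y c => by
        show mulop (τ x • y) c = τ (mulop x c) • mulop y c
        by_cases hc : c = o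
        · rw [hc, hmul_o, hmul_o, hmul_o, hτu 1 o (one_smul _ _), one_smul]
        · rw [hmul_ne _ _ hc, hmul_ne _ _ hc, hmul_ne _ _ hc, hlin _ (hm0 c hc)]
      mul_zero := hmul_o
      zero_ne_one := hoe
      exists_inv := fun a (ha : a ≠ o) => by
        have hfix : (m a ha)⁻¹ • o = o := by rw [inv_smul_eq_iff, hm0]
        have hb : (m a ha)⁻¹ • e ≠ o := hmne _ hfix hoe.symm
        refine ⟨(m a ha)⁻¹ • e, ?_, ?_⟩
        · show mulop a ((m a ha)⁻¹ • e) = e
          rw [hmul_ne _ _ hb, huniq (m _ hb) (m a ha)⁻¹ (hm0 _ _) hfix (hm1 _ _)]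
          conv_lhs => arg 2; rw [← hm1 a ha]
          rw [inv_smul_smul]
        · show mulop ((m a ha)⁻¹ • e) a = e
          rw [hmul_ne _ _ ha, smul_inv_smul] }
  refine ⟨nf, fun σ => ⟨fun hσ => ?_, ?_⟩⟩
  · let g : H := ⟨σ, hσ⟩
    let g0 : H := (τ (g • o) : H)⁻¹ * g
    have hg0 : g0 • o = o := by
      rw [mul_smul, inv_smul_eq_iff, ← Subgroup.smul_def, hτ]
    have hne : g0 • e ≠ o := hmne _ hg0 hoe.symm
    refine ⟨g0 • e, g • o, hne, fun x => ?_⟩
    show σ x = τ (mulop x (g0 • e)) • (g • o)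
    rw [hmul_ne _ _ hne, huniq (m _ hne) g0 (hm0 _ _) hg0 (hm1 _ _)]
    -- translations commute
    have hcomm : τ (g • o) * τ (g0 • x) = τ (g0 • x) * τ (g • o) := hTc.is_comm.comm _ _
    calc σ x = (τ (g • o) : H) • (g0 • x) := by rw [mul_smul, smul_inv_smul]; rfl
      _ = τ (g • o) • (τ (g0 • x) • o) := by rw [hτ]; rfl
      _ = τ (g0 • x) • (g • o) := by rw [smul_smul, hcomm, mul_smul, hτ]
  · rintro ⟨a, b, ha, hσ⟩
    have hσ' : σ = (((τ b : H) * m a ha : H) : Equiv.Perm α) := by
      ext x
      show σ x = ((τ b : H) * m a ha) • x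
      rw [hσ]
      show τ (mulop x a) • b = _
      have hcomm : τ (mulop x a) * τ b = τ b * τ (mulop x a) := hTc.is_comm.comm _ _
      conv_lhs => arg 2; rw [← hτ b]
      rw [smul_smul, hcomm, mul_smul, hτ, hmul_ne _ _ ha, mul_smul, Subgroup.smul_def]
    rw [hσ']
    exact SetLike.coe_mem _

end Cfsg.Agent.S0683
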