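import Cfsg.Statements.S0688
import Cfsg.Agent.Lib.Perm.RegularLinearQ

set_option autoImplicit false
open Cfsg

namespace Cfsg.Agent.S0688

/-- Degrees of the soluble exceptional sharply doubly transitive groups: if a solvable linear group over the prime field is regular on the non-zero vectors of `V` and has no irreducible cyclic normal subgroup, then `V` has 25, 49, 121 or 529 elements. -/
theorem result {p : ℕ} [Fact p.Prime] {V : Type*} [AddCommGroup V] [Module (ZMod p) V] [Finite V] (H : Subgroup (V ≃ₗ[ZMod p] V)) (hreg : ∀ v w : V, v ≠ 0 → w ≠ 0 → ∃! h : H, (h : V ≃ₗ[ZMod p] V) v = w) (hI : ∀ A : Subgroup H, A.Normal → IsCyclic A → ∃ W : Submodule (ZMod p) V, W ≠ ⊥ ∧ W ≠ ⊤ ∧ ∀ a ∈ A, ∀ v ∈ W, ((a : H) : V ≃ₗ[ZMod p] V) v ∈ W) (hsolv : Group.IsSolvable H) : Nat.card V = 25 ∨ Nat.card V = 49 ∨ Nat.card V = 121 ∨ Nat.card V = 529 := by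
  have := Perm.RegLin.nontrivial_of_noIrred hI
  have := Perm.RegLin.finite_aut (K := ZMod p) (V := V)
  obtain ⟨A, ⟨hAn, hAc⟩, hAmax⟩ := (Set.toFinite
    {B : Subgroup H | B.Normal ∧ IsMulCommutative B}).exists_maximal ⟨⊥, inferInstance, inferInstance⟩
  have hmax : ∀ B : Subgroup H, B.Normal → IsMulCommutative B → A ≤ B → B = A :=
    fun B h1 h2 h3 => le_antisymm (hAmax ⟨h1, h2⟩ h3) h3
  have := hAn
  have hc : ∀ a b : A, a * b = b * a := hAc.is_comm.comm
  have hne := Perm.RegLin.centralizer_ne hreg hI A hc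
  have hC : ¬ IsMulCommutative (Subgroup.centralizer (A : Set H)) := fun h =>
    hne (hmax _ inferInstance h fun a ha b hb => congrArg Subtype.val (hc ⟨b, hb⟩ ⟨a, ha⟩))
  obtain ⟨N, ⟨hNn, hNle, hNna⟩, hNmin⟩ := (Set.toFinite {M : Subgroup H |
    M.Normal ∧ M ≤ Subgroup.centralizer (A : Set H) ∧ ¬ IsMulCommutative M}).exists_minimal
      ⟨_, inferInstance, le_rfl, hC⟩
  have := hNn
  obtain ⟨e⟩ := Perm.RegLin.quaternion_of_minimal hreg A hAc hmax N hNle hNna
    (fun M h1 h2 h3 => le_antisymm h2 (hNmin ⟨h1, h2.trans hNle, h3⟩ h2))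
    (solvable_of_solvable_injective N.subtype_injective)
  exact Perm.RegLin.card_eq_of_quaternion hreg hI A hAc hmax N hNle hNna e

end Cfsg.Agent.S0688
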