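import Cfsg.Statements.S0694
import Cfsg.Agent.EqLemmas
import Mathlib.NumberTheory.Multiplicity

set_option autoImplicit false
open Cfsg

namespace Cfsg.Agent.S0694

theorem mul_sub_one_dvd (n : ℕ) : ∀ x : ℤ, (∀ r : ℕ, r.Prime → r ∣ n → (r : ℤ) ∣ x - 1) →
    (n : ℤ) * (x - 1) ∣ x ^ n - 1 := by
  induction n using Nat.recOnMul with
  | zero => intro x _; simp
  | one => intro x _; simp
  | prime p hp =>
    intro x hx
    rw [← geom_sum_mul]
    refine mul_dvd_mul_right ?_ _
    have := dvd_geom_sum₂_self (n := p) (x := x) (y := 1) (hx p hp dvd_rfl)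
    simpa using this
  | mul a b iha ihb =>
    intro x hx
    have h1 := iha x fun r hr h => hx r hr (h.mul_right b)
    have hsub : x - 1 ∣ x ^ a - 1 := sub_one_dvd_pow_sub_one x a
    have h2 := ihb (x ^ a) fun r hr h => (hx r hr (h.mul_left a)).trans hsub
    rw [pow_mul, Nat.cast_mul]
    calc (a : ℤ) * b * (x - 1) = b * (a * (x - 1)) := by ring
      _ ∣ b * (x ^ a - 1) := mul_dvd_mul_left _ h1
      _ ∣ _ := h2

/-- The Dickson pair condition: for a prime power `q` and `n > 1`, (every prime factor of `n` divides `q - 1`, and `4 ∣ n → 4 ∣ q - 1`) holds exactly when `q ^ n ≡ 1` modulo `n * (q - 1)` but `q ^ i` is not, for `0 < i < n`. -/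
theorem result (q n : ℕ) (hq : IsPrimePow q) (hn : 1 < n) : ((∀ r : ℕ, r.Prime → r ∣ n → r ∣ q - 1) ∧ (4 ∣ n → 4 ∣ q - 1)) ↔ (q ^ n ≡ 1 [MOD n * (q - 1)] ∧ ∀ i : ℕ, 0 < i → i < n → ¬ q ^ i ≡ 1 [MOD n * (q - 1)]) := by
  have hq2 : 2 ≤ q := hq.two_le
  have hN : ∀ e, q ^ e ≡ 1 [MOD n * (q - 1)] ↔ ((n * (q - 1) : ℕ) : ℤ) ∣ (q : ℤ) ^ e - 1 := by
    intro e
    rw [Nat.ModEq.comm, Nat.modEq_iff_dvd]
    push_cast
    rfl
  have hm1 : ((q - 1 : ℕ) : ℤ) = (q : ℤ) - 1 := by rw [Nat.cast_sub (by omega)]; simp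
  constructor
  · rintro ⟨hdiv, h4⟩
    have htop : q ^ n ≡ 1 [MOD n * (q - 1)] := by
      rw [hN, Nat.cast_mul, hm1]
      exact mul_sub_one_dvd n q fun r hr h => by
        rw [← hm1]; exact_mod_cast hdiv r hr h
    refine ⟨htop, fun i hi hin hcon => ?_⟩
    have hgcd : q ^ i.gcd n ≡ 1 [MOD n * (q - 1)] := by
      rw [← ZMod.natCast_eq_natCast_iff, Nat.cast_pow, Nat.cast_one] at hcon htop ⊢
      exact pow_gcd_eq_one.mpr ⟨hcon, htop⟩
    obtain ⟨t, ht⟩ := Nat.gcd_dvd_right i n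
    have hdn : i.gcd n < n := lt_of_le_of_lt (Nat.gcd_le_left n hi) hin
    have ht1 : t ≠ 1 := by rintro rfl; omega
    obtain ⟨r, hr, hrt⟩ := Nat.exists_prime_and_dvd ht1
    obtain ⟨u, hu⟩ := hrt
    set d := i.gcd n * u with hd
    have hnd : n = r * d := by rw [hd]; calc
      n = i.gcd n * t := ht
      _ = r * (i.gcd n * u) := by rw [hu]; ring
    have hd0 : d ≠ 0 := fun e => by rw [e, mul_zero] at hnd; omega
    have hqd : q ^ d ≡ 1 [MOD n * (q - 1)] := by
      rw [hd, pow_mul]; simpa using hgcd.pow u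
    have hdvd : n * (q - 1) ∣ q ^ d - 1 :=
      (Nat.modEq_iff_dvd' (Nat.one_le_pow _ _ (by omega))).mp hqd.symm
    have : Fact r.Prime := ⟨hr⟩
    have hrm : r ∣ q - 1 := hdiv r hr (hnd ▸ dvd_mul_right r d)
    have hrq : ¬ r ∣ q := fun h => hr.not_dvd_one (by
      have := Nat.dvd_sub h hrm
      rwa [Nat.sub_sub_self (by omega)] at this)
    have hpos : 0 < q ^ d - 1 := by
      have := Nat.one_lt_pow hd0 (show 1 < q by omega)
      omega
    have hv : padicValNat r (n * (q - 1)) ≤ padicValNat r (q ^ d - 1) :=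
      padicValNat_dvd_iff_le (hp := ‹_›) hpos.ne' |>.mp (dvd_trans pow_padicValNat_dvd hdvd)
    rw [padicValNat.mul (by omega) (by omega), hnd, padicValNat.mul hr.ne_zero hd0,
      padicValNat.self hr.one_lt] at hv
    rcases hr.eq_two_or_odd' with rfl | hodd
    · rcases Nat.even_or_odd d with hev | hodd
      · have h4' : 4 ∣ q - 1 := h4 (by obtain ⟨e, he⟩ := hev; exact ⟨e, by omega⟩)
        have h := padicValNat.pow_two_sub_one (x := q) (n := d) (by omega)
          (fun h => hrq h) hd0 hev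
        have hq1 : padicValNat 2 (q + 1) = 1 := by
          obtain ⟨e, he⟩ := h4'
          rw [show q + 1 = 2 * (2 * e + 1) by omega, padicValNat.mul (by norm_num) (by omega),
            padicValNat.self (by norm_num), padicValNat.eq_zero_of_not_dvd (by omega)]
        omega
      · -- `q ^ d` and `q ^ (d - 1)` are 1 modulo `2 * (q - 1)`
        obtain ⟨e, he⟩ := hodd
        have h2m : 2 * (q - 1) ∣ n * (q - 1) := mul_dvd_mul_right (hnd ▸ dvd_mul_right 2 d) _
        have h1 : (((q ^ d : ℕ)) : ZMod (2 * (q - 1))) = 1 := by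
          rw [← Nat.cast_one (R := ZMod (2 * (q - 1))), ZMod.natCast_eq_natCast_iff]
          exact hqd.of_dvd h2m
        have h2 : (((q ^ 2 : ℕ)) : ZMod (2 * (q - 1))) = 1 := by
          rw [← Nat.cast_one (R := ZMod (2 * (q - 1))), ZMod.natCast_eq_natCast_iff,
            Nat.ModEq.comm, Nat.modEq_iff_dvd' (Nat.one_le_pow _ _ (by omega))]
          obtain ⟨f, hf⟩ := hrm
          refine ⟨f + 1, ?_⟩
          obtain ⟨w, rfl⟩ : ∃ w, q = w + 1 := ⟨q - 1, by omega⟩
          simp only [Nat.add_sub_cancel] at hf ⊢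
          subst hf
          rw [Nat.sub_eq_iff_eq_add (Nat.one_le_pow _ _ (by omega))]
          ring
        have h3 : ((q : ℕ) : ZMod (2 * (q - 1))) = ((1 : ℕ) : ZMod (2 * (q - 1))) := by
          rw [Nat.cast_pow] at h1 h2
          rw [he, pow_succ, pow_mul, h2, one_pow, one_mul] at h1
          rw [h1, Nat.cast_one]
        rw [ZMod.natCast_eq_natCast_iff, Nat.ModEq.comm, Nat.modEq_iff_dvd' (by omega)] at h3
        have := Nat.le_of_dvd (by omega) h3
        omega
    · have h := padicValNat.pow_sub_pow hodd (x := q) (y := 1) (by omega) hrm hrq hd0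
      rw [one_pow] at h
      omega
  · rintro ⟨htop, hmin⟩
    have : NeZero (n * (q - 1)) := ⟨Nat.mul_ne_zero (by omega) (by omega)⟩
    have hinj : Function.Injective fun i : Fin n => ((q : ℕ) : ZMod (n * (q - 1))) ^ (i : ℕ) := by
      have hord : orderOf ((q : ℕ) : ZMod (n * (q - 1))) = n := by
        rw [orderOf_eq_iff (by omega)]
        refine ⟨?_, fun i hi hi0 h => hmin i hi0 hi ?_⟩
        · rw [← Nat.cast_pow, ← Nat.cast_one (R := ZMod (n * (q - 1))), ZMod.natCast_eq_natCast_iff]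
          exact htop
        · rwa [← ZMod.natCast_eq_natCast_iff, Nat.cast_pow, Nat.cast_one]
      intro a b h
      exact Fin.ext (pow_injOn_Iio_orderOf (by simp [hord]) (by simp [hord]) h)
    have hmem : ∀ i : Fin n, ∃ j : Fin n,
        ((1 + (j : ℕ) * (q - 1) : ℕ) : ZMod (n * (q - 1))) = ((q : ℕ) : ZMod (n * (q - 1))) ^ (i : ℕ) := by
      intro i
      obtain ⟨t, ht⟩ : q - 1 ∣ q ^ (i : ℕ) - 1 := by simpa using Nat.sub_dvd_pow_sub_pow q 1 i
      refine ⟨⟨t % n, Nat.mod_lt _ (by omega)⟩, ?_⟩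
      rw [← Nat.cast_pow, ZMod.natCast_eq_natCast_iff]
      have h1 : q ^ (i : ℕ) = 1 + t * (q - 1) := by
        have := Nat.one_le_pow i q (by omega)
        rw [mul_comm t]; omega
      rw [h1]
      exact Nat.ModEq.add_left 1 ((Nat.mod_modEq t n).mul_right' (q - 1))
    choose J hJ using hmem
    have hJs : Function.Surjective J := (Finite.injective_iff_surjective).mp fun a b h =>
      hinj (by simp only [← hJ, h])
    have hqu : IsUnit ((q : ℕ) : ZMod (n * (q - 1))) := by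
      refine IsUnit.of_mul_eq_one (((q : ℕ) : ZMod (n * (q - 1))) ^ (n - 1)) ?_
      rw [← pow_succ', show n - 1 + 1 = n by omega, ← Nat.cast_pow,
        ← Nat.cast_one (R := ZMod (n * (q - 1))), ZMod.natCast_eq_natCast_iff]
      exact htop
    have hunit : ∀ j, j < n → Nat.Coprime (1 + j * (q - 1)) (n * (q - 1)) := by
      intro j hj
      obtain ⟨i, hi⟩ := hJs ⟨j, hj⟩
      have := hJ i
      rw [hi] at this
      rw [← ZMod.isUnit_iff_coprime, this]
      exact hqu.pow _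
    have hdiv : ∀ r : ℕ, r.Prime → r ∣ n → r ∣ q - 1 := by
      intro r hr hrn
      by_contra hrm
      have : Fact r.Prime := ⟨hr⟩
      set j := (-((q - 1 : ℕ) : ZMod r)⁻¹).val with hj
      have hjr : j < r := ZMod.val_lt _
      have hdvd : r ∣ 1 + j * (q - 1) := by
        rw [← ZMod.natCast_eq_zero_iff]
        rw [Nat.cast_add, Nat.cast_mul, hj, ZMod.natCast_zmod_val, Nat.cast_one,
          neg_mul, inv_mul_cancel₀ (fun e => hrm ((ZMod.natCast_eq_zero_iff ..).mp e)),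
          add_neg_cancel]
      exact hr.not_dvd_one ((hunit j (hjr.trans_le (Nat.le_of_dvd (by omega) hrn))) ▸
        Nat.dvd_gcd hdvd (hrn.mul_right _))
    refine ⟨hdiv, fun h4 => ?_⟩
    by_contra hm4
    obtain ⟨k, hk⟩ := h4
    obtain ⟨f, hf⟩ := hdiv 2 Nat.prime_two ⟨2 * k, by omega⟩
    refine hmin (2 * k) (by omega) (by omega) ?_
    rw [hN, Nat.cast_mul, hm1, pow_mul]
    have h := mul_sub_one_dvd k ((q : ℤ) ^ 2) fun r hr h => by
      have := hdiv r hr (h.trans ⟨4, by omega⟩)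
      exact (hm1 ▸ Int.natCast_dvd_natCast.mpr this).trans (sub_one_dvd_pow_sub_one _ _)
    obtain ⟨e, he⟩ : (4 : ℤ) ∣ (q : ℤ) + 1 := ⟨((f + 1) / 2 : ℕ), by omega⟩
    refine dvd_trans ⟨e, ?_⟩ h
    rw [hk]
    push_cast
    linear_combination ((k : ℤ) * ((q : ℤ) - 1)) * he

end Cfsg.Agent.S0694
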