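import Cfsg.Statements.S0699
import Cfsg.Agent.Lib.Perm.Wagner

set_option autoImplicit false
open Cfsg

namespace Cfsg.Agent.S0699

/-- Wagner's Theorem: a non-trivial normal subgroup of a triply transitive permutation group of odd degree at least 5 is triply transitive. -/
theorem result {α : Type*} [Fintype α] [DecidableEq α] (G : Subgroup (Equiv.Perm α)) (hodd : Odd (Fintype.card α)) (h5 : 5 ≤ Fintype.card α) (hG : MulAction.IsMultiplyPretransitive G α 3) (N : Subgroup G) [N.Normal] (hN : N ≠ ⊥) : MulAction.IsMultiplyPretransitive N α 3 := by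
  have hne : N.map G.subtype ≠ ⊥ := by
    rw [ne_eq, Subgroup.map_eq_bot_iff_of_injective _ G.subtype_injective]
    exact hN
  have h := Perm.wagner_triply_transitive G (N.map G.subtype) hodd h5 hG
    (Subgroup.map_subtype_le N) hne (by
      rintro g hg _ ⟨n, hn, rfl⟩
      exact ⟨⟨g, hg⟩ * n * ⟨g, hg⟩⁻¹, Subgroup.Normal.conj_mem inferInstance n hn _, rfl⟩)
  refine ⟨fun x y => ?_⟩
  obtain ⟨⟨_, n, hn, rfl⟩, h'⟩ := h.exists_smul_eq x y
  exact ⟨⟨n, hn⟩, h'⟩

end Cfsg.Agent.S0699
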