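import Cfsg.Statements.S0701
import Cfsg.Agent.Lib.Perm.Centralizer

set_option autoImplicit false
open Cfsg

namespace Cfsg.Agent.S0701

/-- The centraliser in the full symmetric group of a transitive permutation group `G` is semiregular, and it is transitive if and only if `G` is regular. -/
theorem result {α : Type*} (G : Subgroup (Equiv.Perm α)) [MulAction.IsPretransitive G α] : (∀ c ∈ Subgroup.centralizer (G : Set (Equiv.Perm α)), ∀ a : α, c a = a → c = 1) ∧ (MulAction.IsPretransitive (Subgroup.centralizer (G : Set (Equiv.Perm α))) α ↔ ∀ a : α, MulAction.stabilizer G a = ⊥) := by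
  refine ⟨fun c hc a ha => Perm.eq_one_of_commute_of_fix inferInstance hc ha, ⟨?_, ?_⟩⟩
  · intro hC a
    rw [Subgroup.eq_bot_iff_forall]
    rintro ⟨g, hg⟩ hga
    rw [MulAction.mem_stabilizer_iff, Subgroup.smul_def, Equiv.Perm.smul_def] at hga
    apply Subtype.ext
    refine Perm.eq_one_of_commute_of_fix hC ?_ hga
    rw [Subgroup.mem_centralizer_iff]
    intro c hc
    exact (Subgroup.mem_centralizer_iff.mp hc g hg).symm
  · intro hreg
    refine ⟨fun a b => ?_⟩
    obtain ⟨c, hca, hc⟩ := Perm.exists_commuting_perm_of_regular (G := G) inferInstance hreg a b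
    refine ⟨⟨c, Subgroup.mem_centralizer_iff.mpr fun g hg => ?_⟩, hca⟩
    ext x
    exact (hc ⟨g, hg⟩ x).symm

end Cfsg.Agent.S0701
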