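import Cfsg.Statements.S0702
import Cfsg.Agent.Lib.Perm.Centralizer

set_option autoImplicit false
open Cfsg

namespace Cfsg.Agent.S0702

/-- For a transitive permutation group `G` on a finite set, the centraliser of `G` in the symmetric group is isomorphic to `N_G(G_ω)/G_ω`, and its orbit of `ω` is the set of fixed points of `G_ω`. -/
theorem result {α : Type*} [Finite α] (G : Subgroup (Equiv.Perm α)) [MulAction.IsPretransitive G α] (a : α) : Nonempty (Subgroup.centralizer (G : Set (Equiv.Perm α)) ≃* Subgroup.normalizer ((MulAction.stabilizer G a : Subgroup G) : Set G) ⧸ (MulAction.stabilizer G a).subgroupOf (Subgroup.normalizer ((MulAction.stabilizer G a : Subgroup G) : Set G))) ∧ MulAction.orbit (Subgroup.centralizer (G : Set (Equiv.Perm α))) a = MulAction.fixedPoints (MulAction.stabilizer G a) α := by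
  set K := MulAction.stabilizer G a with hK
  set N := Subgroup.normalizer (K : Set G)
  choose σ hσ using fun x : α => MulAction.exists_smul_eq G a x
  have hwd : ∀ (n : N) (g h : G), g • a = h • a → g • (n : G)⁻¹ • a = h • (n : G)⁻¹ • a := by
    intro n g h e
    have hmem : h⁻¹ * g ∈ K := by rw [hK, MulAction.mem_stabilizer_iff, mul_smul, e, inv_smul_smul]
    have hc : (n : G) * (h⁻¹ * g) * (n : G)⁻¹ ∈ K := (Subgroup.mem_normalizer_iff.mp n.2 _).mp hmem
    rw [hK, MulAction.mem_stabilizer_iff] at hc
    have hc' := congrArg (fun x => h • (n : G)⁻¹ • x) hc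
    simp only [mul_smul, inv_smul_smul, smul_inv_smul] at hc'
    exact hc'
  let F : N → α → α := fun n x => σ x • (n : G)⁻¹ • a
  have hF : ∀ (n : N) (g : G), F n (g • a) = g • (n : G)⁻¹ • a := fun n g =>
    hwd n _ g (hσ (g • a))
  have hone : ∀ x, F 1 x = x := fun x => by
    show σ x • ((1 : N) : G)⁻¹ • a = x
    rw [OneMemClass.coe_one, inv_one, one_smul, hσ]
  have hmul : ∀ m n x, F (m * n) x = F m (F n x) := by
    intro m n x
    show σ x • ((m * n : N) : G)⁻¹ • a = F m (σ x • (n : G)⁻¹ • a)
    rw [smul_smul (σ x) (n : G)⁻¹, hF, Subgroup.coe_mul, mul_inv_rev, mul_smul, mul_smul]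
  let φ : N →* Equiv.Perm α :=
    { toFun := fun n =>
        { toFun := F n
          invFun := F n⁻¹
          left_inv := fun x => by rw [← hmul, inv_mul_cancel, hone]
          right_inv := fun x => by rw [← hmul, mul_inv_cancel, hone] }
      map_one' := Equiv.ext hone
      map_mul' := fun m n => Equiv.ext (hmul m n) }
  have hφC : ∀ n, φ n ∈ Subgroup.centralizer (G : Set (Equiv.Perm α)) := by
    intro n
    rw [Subgroup.mem_centralizer_iff]
    intro g hg
    ext x
    show g (σ x • (n : G)⁻¹ • a) = F n (g x)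
    rw [show g x = ((⟨g, hg⟩ : G) * σ x) • a by rw [mul_smul, hσ]; rfl, hF, mul_smul]
    rfl
  have hfix : ∀ c ∈ Subgroup.centralizer (G : Set (Equiv.Perm α)), ∀ (g : G) (x : α),
      g • c x = c (g • x) := fun c hc g x =>
    congrArg (fun e : Equiv.Perm α => e x) (Subgroup.mem_centralizer_iff.mp hc g g.2)
  have hsurj : ∀ b ∈ MulAction.fixedPoints K α, ∃ n : N, (n : G)⁻¹ • a = b := by
    intro b hb
    obtain ⟨g, hg⟩ := MulAction.exists_smul_eq G b a
    have hg' : g⁻¹ • a = b := by rw [← hg, inv_smul_smul]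
    refine ⟨⟨g, ?_⟩, hg'⟩
    have hfin : Finite G := inferInstance
    have hle : ∀ k ∈ K, g * k * g⁻¹ ∈ K := fun k hk => by
      rw [hK, MulAction.mem_stabilizer_iff, mul_smul, mul_smul, hg', show k • b = b from hb ⟨k, hk⟩,
        hg]
    have heq : K.map (MulAut.conj g).toMonoidHom = K := by
      refine Subgroup.eq_of_le_of_card_ge ?_
        (Nat.card_congr (K.equivMapOfInjective _ (MulEquiv.injective _)).toEquiv).le
      rintro _ ⟨k, hk, rfl⟩
      exact hle k hk
    refine Subgroup.mem_normalizer_iff.mpr fun k => ?_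
    conv_rhs => rw [← heq]
    exact (Subgroup.mem_map_iff_mem
      (f := (MulAut.conj g).toMonoidHom) (MulEquiv.injective _)).symm
  have horb : ∀ c : Subgroup.centralizer (G : Set (Equiv.Perm α)),
      ((c : Equiv.Perm α)) a ∈ MulAction.fixedPoints K α := by
    rintro ⟨c, hc⟩ ⟨k, hk⟩
    show k • c a = c a
    rw [hfix c hc, MulAction.mem_stabilizer_iff.mp hk]
  have hφa : ∀ n : N, φ n a = (n : G)⁻¹ • a := fun n => by
    have := hF n 1
    rw [one_smul, one_smul] at this
    exact this
  let ψ : N →* Subgroup.centralizer (G : Set (Equiv.Perm α)) := φ.codRestrict _ hφC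
  have hψs : Function.Surjective ψ := by
    intro c
    obtain ⟨n, hn⟩ := hsurj _ (horb c)
    exact ⟨n, Subtype.ext (Perm.eq_of_commute_of_apply_eq inferInstance (hφC n) c.2
      ((hφa n).trans hn))⟩
  have hker : ψ.ker = K.subgroupOf N := by
    ext n
    rw [MonoidHom.mem_ker, Subgroup.mem_subgroupOf]
    constructor
    · intro h
      have h1 : φ n = 1 := congrArg Subtype.val h
      have h2 := hφa n
      rw [h1, Equiv.Perm.one_apply] at h2
      have h3 : (n : G)⁻¹ ∈ K := h2.symm
      exact inv_mem_iff.mp h3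
    · intro hn
      apply Subtype.ext
      refine Perm.eq_one_of_commute_of_fix inferInstance (hφC n) (a := a) ?_
      show φ n a = a
      rw [hφa]
      exact MulAction.mem_stabilizer_iff.mp (inv_mem hn)
  refine ⟨⟨((QuotientGroup.quotientMulEquivOfEq hker.symm).trans
    (QuotientGroup.quotientKerEquivOfSurjective ψ hψs)).symm⟩, ?_⟩
  ext b
  constructor
  · rintro ⟨c, rfl⟩
    exact horb c
  · intro hb
    obtain ⟨n, hn⟩ := hsurj b hb
    exact ⟨⟨φ n, hφC n⟩, (hφa n).trans hn⟩

end Cfsg.Agent.S0702
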