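import Cfsg.Statements.S0703
import Cfsg.Agent.Lib.Perm.Centralizer

set_option autoImplicit false
open Cfsg

namespace Cfsg.Agent.S0703

/-- An abelian transitive minimal normal subgroup `M` of a permutation group on a finite set is self-centralising in the symmetric group, regular, elementary abelian, and is the unique minimal normal subgroup. -/
theorem result {α : Type*} [Finite α] (G : Subgroup (Equiv.Perm α)) (M : Subgroup G) [M.Normal] (hM : M ≠ ⊥) (hmin : ∀ L : Subgroup G, L.Normal → L ≤ M → L = ⊥ ∨ L = M) (hab : IsMulCommutative M) (htrans : MulAction.IsPretransitive M α) : Subgroup.centralizer ((M.map G.subtype : Subgroup (Equiv.Perm α)) : Set (Equiv.Perm α)) = M.map G.subtype ∧ (∀ a : α, MulAction.stabilizer M a = ⊥) ∧ (∃ p : ℕ, p.Prime ∧ ∀ m ∈ M, m ^ p = 1) ∧ ∀ L : Subgroup G, L.Normal → L ≠ ⊥ → (∀ L' : Subgroup G, L'.Normal → L' ≤ L → L' = ⊥ ∨ L' = L) → L = M := by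
  have := Perm.nonempty_of_subgroup_ne_bot hM
  have hMS := Perm.isPretransitive_map_subtype htrans
  have hcom : ∀ m ∈ M, ∀ n ∈ M, Commute m n := fun m hm n hn =>
    congrArg Subtype.val (hab.is_comm.comm ⟨m, hm⟩ ⟨n, hn⟩)
  have hcen := Perm.centralizer_eq_of_transitive hMS hMS
    (Perm.map_le_centralizer_of_commute hcom)
  refine ⟨hcen, fun a => Perm.stabilizer_eq_bot_of_isMulCommutative htrans hab a, ?_, ?_⟩
  · have : Nontrivial M := (Subgroup.nontrivial_iff_ne_bot M).mpr hM
    obtain ⟨p, hp, hdvd⟩ := Nat.exists_prime_and_dvd (Nat.ne_of_gt (Finite.one_lt_card (α := M)))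
    have : Fact p.Prime := ⟨hp⟩
    obtain ⟨x, hx⟩ := exists_prime_orderOf_dvd_card' p hdvd
    let L : Subgroup G :=
      { carrier := {g | g ∈ M ∧ g ^ p = 1}
        one_mem' := ⟨M.one_mem, one_pow p⟩
        mul_mem' := fun {g h} hg hh => ⟨M.mul_mem hg.1 hh.1, by
          rw [(hcom g hg.1 h hh.1).mul_pow, hg.2, hh.2, one_mul]⟩
        inv_mem' := fun {g} hg => ⟨M.inv_mem hg.1, by rw [inv_pow, hg.2, inv_one]⟩ }
    have hLn : L.Normal := ⟨fun g hg h => ⟨Subgroup.Normal.conj_mem inferInstance g hg.1 h, by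
      rw [conj_pow, hg.2, mul_one, mul_inv_cancel]⟩⟩
    have hxL : (x : G) ∈ L := ⟨x.2, by
      rw [← hx, ← Subgroup.coe_pow, pow_orderOf_eq_one, Subgroup.coe_one]⟩
    rcases hmin L hLn (fun g hg => hg.1) with h | h
    · exfalso
      rw [h, Subgroup.mem_bot, OneMemClass.coe_eq_one] at hxL
      rw [hxL, orderOf_one] at hx
      exact hp.one_lt.ne hx
    · exact ⟨p, hp, fun m hm => (h ▸ hm : m ∈ L).2⟩
  · intro L hLn hL hLmin
    by_contra hne
    obtain ⟨hd, hc⟩ := Perm.commute_of_minimal_normal hLmin hmin hne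
    apply hL
    rw [disjoint_iff] at hd
    rw [← hd, eq_comm, inf_eq_left]
    intro l hl
    have := Perm.map_le_centralizer_of_commute (fun m hm n hn => (hc n hn m hm).symm)
      (Subgroup.mem_map_of_mem G.subtype hl)
    rw [hcen] at this
    obtain ⟨m, hm, e⟩ := this
    exact (Subtype.ext e : m = l) ▸ hm

end Cfsg.Agent.S0703
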