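import Cfsg.Statements.S0704
import Cfsg.Agent.Lib.Perm.Centralizer

set_option autoImplicit false
open Cfsg

namespace Cfsg.Agent.S0704

/-- Two distinct transitive minimal normal subgroups `M`, `N` of a permutation group are regular, non-abelian, isomorphic, each other's centraliser in the symmetric group, and the only minimal normal subgroups. -/
theorem result {α : Type*} (G : Subgroup (Equiv.Perm α)) (M N : Subgroup G) [M.Normal] [N.Normal] (hM : M ≠ ⊥) (hN : N ≠ ⊥) (hMmin : ∀ L : Subgroup G, L.Normal → L ≤ M → L = ⊥ ∨ L = M) (hNmin : ∀ L : Subgroup G, L.Normal → L ≤ N → L = ⊥ ∨ L = N) (hMN : M ≠ N) (hMt : MulAction.IsPretransitive M α) (hNt : MulAction.IsPretransitive N α) : (∀ a : α, MulAction.stabilizer M a = ⊥) ∧ (∀ a : α, MulAction.stabilizer N a = ⊥) ∧ ¬ IsMulCommutative M ∧ Nonempty (M ≃* N) ∧ Subgroup.centralizer ((M.map G.subtype : Subgroup (Equiv.Perm α)) : Set (Equiv.Perm α)) = N.map G.subtype ∧ Subgroup.centralizer ((N.map G.subtype : Subgroup (Equiv.Perm α)) : Set (Equiv.Perm α)) = M.map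 G.subtype ∧ ∀ L : Subgroup G, L.Normal → L ≠ ⊥ → (∀ L' : Subgroup G, L'.Normal → L' ≤ L → L' = ⊥ ∨ L' = L) → L = M ∨ L = N := by
  have := Perm.nonempty_of_subgroup_ne_bot hM
  obtain ⟨a⟩ := (inferInstance : Nonempty α)
  obtain ⟨hd, hc⟩ := Perm.commute_of_minimal_normal hMmin hNmin hMN
  have hc' : ∀ n ∈ N, ∀ m ∈ M, Commute n m := fun n hn m hm => (hc m hm n hn).symm
  have hMS := Perm.isPretransitive_map_subtype hMt
  have hNS := Perm.isPretransitive_map_subtype hNt
  have hMreg : ∀ x : α, MulAction.stabilizer M x = ⊥ :=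
    Perm.stabilizer_eq_bot_of_commute_of_transitive hNt hc'
  have hNreg : ∀ x : α, MulAction.stabilizer N x = ⊥ :=
    Perm.stabilizer_eq_bot_of_commute_of_transitive hMt hc
  have hCM := Perm.centralizer_eq_of_transitive hMS hNS (Perm.map_le_centralizer_of_commute hc)
  have hCN := Perm.centralizer_eq_of_transitive hNS hMS (Perm.map_le_centralizer_of_commute hc')
  refine ⟨hMreg, hNreg, ?_, ?_, hCM, hCN, ?_⟩
  · intro hab
    apply hMN
    have h1 := Perm.centralizer_eq_of_transitive hMS hMS
      (Perm.map_le_centralizer_of_commute (M := M) (N := M) (fun m hm n hn =>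
        congrArg Subtype.val (hab.is_comm.comm ⟨m, hm⟩ ⟨n, hn⟩)))
    exact Subgroup.map_injective (Subgroup.subtype_injective G) (h1.symm.trans hCM)
  · let e : M ≃ N := (Equiv.ofBijective _ (Perm.bijective_smul_of_regular hMt hMreg a)).trans
      (Equiv.ofBijective _ (Perm.bijective_smul_of_regular hNt hNreg a)).symm
    have he : ∀ m : M, e m • a = m • a := fun m =>
      Equiv.ofBijective_apply_symm_apply _ (Perm.bijective_smul_of_regular hNt hNreg a) (m • a)
    have he' : ∀ m m' : M, e (m * m') = e m' * e m := fun m m' => by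
      apply Perm.eq_of_smul_eq_of_regular hNreg (a := a)
      rw [he, mul_smul, mul_smul, ← he m', he m]
      simp only [Subgroup.smul_def, ← mul_smul]
      rw [← Subgroup.coe_mul, (hc _ m.2 _ (e m').2).eq, Subgroup.coe_mul]
    let e' : M ≃* N := MulEquiv.mk' (e.trans (Equiv.inv (G := N))) (fun m m' => by
      simp only [Equiv.trans_apply, Equiv.inv_apply, he', mul_inv_rev])
    exact ⟨e'⟩
  · intro L hLn hL hLmin
    by_contra hne
    push Not at hne
    obtain ⟨hd1, hc1⟩ := Perm.commute_of_minimal_normal hMmin hLmin (Ne.symm hne.1)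
    have hle := Perm.map_le_centralizer_of_commute hc1
    rw [hCM, Subgroup.map_le_map_iff_of_injective (Subgroup.subtype_injective G)] at hle
    rcases hNmin L hLn hle with h | h
    · exact hL h
    · exact hne.2 h

end Cfsg.Agent.S0704
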