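import Cfsg.Statements.S0706
import Cfsg.Agent.Lib.Perm.Generous

set_option autoImplicit false
open Cfsg
open scoped Pointwise

namespace Cfsg.Agent.S0706

/-- In a generously `k`-transitive permutation group, for a prime `p ≤ k` and a `k`-set `Γ`, there are no `p` points outside `Γ` lying in distinct orbits of the pointwise stabiliser of `Γ` all of length prime to `p` (at most `p - 1` such orbits). -/
theorem result {α : Type*} [Fintype α] [DecidableEq α] (G : Subgroup (Equiv.Perm α)) {k : ℕ} (hk : k < Fintype.card α) (hgen : ∀ s : Finset α, s.card = k + 1 → ∀ σ : Equiv.Perm ↥s, ∃ g ∈ G, ∀ x : ↥s, g (x : α) = σ x) {p : ℕ} (hp : p.Prime) (hpk : p ≤ k) (Γ : Finset α) (hΓ : Γ.card = k) (f : Fin p → α) (hf : ∀ i, f i ∉ Γ) (hdist : ∀ i j, i ≠ j → f j ∉ MulAction.orbit (fixingSubgroup G (Γ : Set α)) (f i)) : ∃ i, p ∣ Nat.card (MulAction.orbit (fixingSubgroup G (Γ : Set α)) (f i)) := by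
  classical
  have : Fact p.Prime := ⟨hp⟩
  let H := G ⊓ fixingSubgroup (Equiv.Perm α) (Γ : Set α)
  have hH : ∀ g, g ∈ H ↔ g ∈ G ∧ ∀ x ∈ Γ, g x = x := fun g => by
    simp [H, Subgroup.mem_inf, mem_fixingSubgroup_iff]
  by_contra hno
  push Not at hno
  -- orbits of `H` are the given ones
  let O : Fin p → Set α := fun i => MulAction.orbit (fixingSubgroup G (Γ : Set α)) (f i)
  have hO : ∀ i x, x ∈ O i ↔ ∃ h ∈ H, h (f i) = x := by
    intro i x
    constructor
    · rintro ⟨⟨⟨g, hg⟩, hfix⟩, rfl⟩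
      exact ⟨g, (hH g).mpr ⟨hg, fun y hy => (mem_fixingSubgroup_iff G).mp hfix y hy⟩, rfl⟩
    · rintro ⟨h, hh, rfl⟩
      exact ⟨⟨⟨h, ((hH h).mp hh).1⟩, (mem_fixingSubgroup_iff G).mpr
        fun y hy => ((hH h).mp hh).2 y hy⟩, rfl⟩
  have hOout : ∀ i x, x ∈ O i → x ∉ Γ := by
    intro i x hx hxΓ
    obtain ⟨h, hh, rfl⟩ := (hO i x).mp hx
    exact hf i ((h.injective (((hH h).mp hh).2 _ hxΓ)) ▸ hxΓ)
  obtain ⟨P0⟩ : Nonempty (Sylow p H) := inferInstance
  let P : Subgroup (Equiv.Perm α) := (P0 : Subgroup H).map H.subtype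
  have hPH : P ≤ H := Subgroup.map_subtype_le _
  -- a rotation of `p` points of the set
  obtain ⟨B, hBΓ, hBcard⟩ := Finset.exists_subset_card_eq (hΓ.symm ▸ hpk)
  let emb : Fin p ↪ α :=
    (Finset.equivFinOfCardEq hBcard).symm.toEmbedding.trans (Function.Embedding.subtype _)
  let τ : Equiv.Perm α := (finRotate p).viaFintypeEmbedding emb
  have hτout : ∀ x, x ∉ Γ → τ x = x := fun x hx =>
    Equiv.Perm.viaFintypeEmbedding_apply_notMem_range _ _ (by
      rintro ⟨i, rfl⟩
      exact hx (hBΓ ((Finset.equivFinOfCardEq hBcard).symm i).2))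
  have hτΓ : ∀ x, x ∈ Γ → τ x ∈ Γ := fun x hx => by
    by_contra h
    exact h (by rw [τ.injective (hτout _ h)]; exact hx)
  obtain ⟨g, hg, hgΓ⟩ := Perm.generous_exists_agree hk hgen τ Γ hΓ.le
  have hgH : ∀ h, h ∈ H → g * h * g⁻¹ ∈ H := by
    intro h hh
    refine (hH _).mpr ⟨mul_mem (mul_mem hg ((hH h).mp hh).1) (inv_mem hg), fun x hx => ?_⟩
    obtain ⟨y, hy, hyx⟩ : ∃ y ∈ Γ, τ y = x := by
      by_contra hne
      push Not at hne
      have hs : Finset.image τ Γ = Γ :=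
        Finset.eq_of_subset_of_card_le (fun z hz => by
          obtain ⟨w, hw, rfl⟩ := Finset.mem_image.mp hz
          exact hτΓ w hw) (by rw [Finset.card_image_of_injective _ τ.injective])
      rw [← hs] at hx
      obtain ⟨w, hw, rfl⟩ := Finset.mem_image.mp hx
      exact hne w hw rfl
    rw [← hgΓ y hy] at hyx
    rw [← hyx, Equiv.Perm.mul_apply, Equiv.Perm.mul_apply, Equiv.Perm.inv_def,
      Equiv.symm_apply_apply, ((hH h).mp hh).2 y hy]
  -- Frattini: a `g' = h g` normalising `P`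
  have hmapH : H.map (MulAut.conj g).toMonoidHom = H := by
    refine Subgroup.eq_of_le_of_card_ge ?_
      (Nat.card_congr (H.equivMapOfInjective _ (MulEquiv.injective _)).toEquiv).le
    rintro _ ⟨h, hh, rfl⟩
    exact hgH h hh
  let P1 : Subgroup (Equiv.Perm α) := P.map (MulAut.conj g).toMonoidHom
  have hP1 : P1 ≤ H := hmapH ▸ Subgroup.map_mono hPH
  have hcardP : Nat.card P = Nat.card (P0 : Subgroup H) :=
    (Nat.card_congr ((P0 : Subgroup H).equivMapOfInjective _ H.subtype_injective).toEquiv).symm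
  have hmax : ∀ R : Subgroup (Equiv.Perm α), IsPGroup p R → R ≤ H →
      Nat.card R ≤ Nat.card P := by
    intro R hR hRH
    obtain ⟨S, hS⟩ := (hR.comap_subtype (K := H)).exists_le_sylow
    rw [hcardP, Sylow.card_eq_multiplicity P0, ← Sylow.card_eq_multiplicity S,
      ← Nat.card_congr (Subgroup.subgroupOfEquivOfLe hRH).toEquiv]
    exact Subgroup.card_le_of_le hS
  have hP1g : IsPGroup p P1 := (P0.2.map H.subtype).map _
  obtain ⟨S, hS⟩ := (hP1g.comap_subtype (K := H)).exists_le_sylow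
  obtain ⟨h, hh⟩ := MulAction.exists_smul_eq H S P0
  have hS' : P1 = (S : Subgroup H).map H.subtype := by
    refine Subgroup.eq_of_le_of_card_ge (fun x hx => ?_) ?_
    · exact ⟨⟨x, hP1 hx⟩, hS (Subgroup.mem_subgroupOf.mpr hx), rfl⟩
    · refine (hmax _ (S.2.map _) (Subgroup.map_subtype_le _)).trans (le_of_eq ?_)
      exact Nat.card_congr (P.equivMapOfInjective _ (MulEquiv.injective _)).toEquiv
  set y0 := (h : Equiv.Perm α) * g with hy0
  have hy0P : P.map (MulAut.conj y0).toMonoidHom = P := by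
    have e : P.map (MulAut.conj y0).toMonoidHom
        = P1.map (MulAut.conj (h : Equiv.Perm α)).toMonoidHom := by
      have hcomp : (MulAut.conj (h : Equiv.Perm α)).toMonoidHom.comp (MulAut.conj g).toMonoidHom
          = (MulAut.conj y0).toMonoidHom := MonoidHom.ext fun z => by simp [hy0, mul_assoc]
      rw [← hcomp, ← Subgroup.map_map]
    rw [e, hS', Subgroup.map_map]
    show _ = (P0 : Subgroup H).map H.subtype
    rw [← hh, Sylow.coe_subgroup_smul]
    show _ = ((S : Subgroup H).map (MulAut.conj h).toMonoidHom).map H.subtype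
    rw [Subgroup.map_map]
    rfl
  have hy0Γ : ∀ x ∈ Γ, y0 x = τ x := fun x hx => by
    rw [hy0, Equiv.Perm.mul_apply, hgΓ x hx, ((hH _).mp h.2).2 _ (hτΓ x hx)]
  have hy0G : y0 ∈ G := G.mul_mem ((hH _).mp h.2).1 hg
  obtain ⟨e, m, hord, hm'⟩ :=
    Nat.exists_eq_pow_mul_and_not_dvd (orderOf_pos y0).ne' p hp.ne_one
  set y := y0 ^ m
  have hyp : IsPGroup p (Subgroup.zpowers y) := by
    rintro ⟨_, i, rfl⟩
    refine ⟨e, Subtype.ext ?_⟩
    show (y ^ i) ^ p ^ e = 1
    rw [← zpow_natCast (y ^ i), ← zpow_mul, mul_comm, zpow_mul, zpow_natCast, ← pow_mul,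
      mul_comm m, ← hm', pow_orderOf_eq_one, one_zpow]
  have hynorm : y ∈ Subgroup.normalizer (P : Set (Equiv.Perm α)) := by
    refine pow_mem (Subgroup.mem_normalizer_iff.mpr fun z => ?_) m
    conv_rhs => rw [← hy0P]
    exact (Subgroup.mem_map_iff_mem
      (f := (MulAut.conj y0).toMonoidHom) (MulEquiv.injective _)).symm
  have hypow : ∀ i, ∀ x ∈ Γ, (y0 ^ i) x = (τ ^ i) x ∧ (τ ^ i) x ∈ Γ := by
    intro i
    induction i with
    | zero => exact fun x hx => ⟨rfl, hx⟩
    | succ i ih =>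
      intro x hx
      obtain ⟨h1, h2⟩ := ih x hx
      rw [pow_succ', pow_succ']
      show y0 ((y0 ^ i) x) = τ ((τ ^ i) x) ∧ τ ((τ ^ i) x) ∈ Γ
      rw [h1, hy0Γ _ h2]
      exact ⟨rfl, hτΓ _ h2⟩
  have hτm : ∀ x ∈ B, (τ ^ m) x ≠ x := by
    intro x hx hfix
    obtain ⟨i, hi⟩ := (Finset.equivFinOfCardEq hBcard).symm.surjective ⟨x, hx⟩
    have hx' : emb i = x := congrArg Subtype.val hi
    have hpow : ∀ j, (τ ^ j) (emb i) = emb ((finRotate p ^ j) i) := by
      intro j
      induction j with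
      | zero => rfl
      | succ j ih =>
        rw [pow_succ', pow_succ', Equiv.Perm.mul_apply, Equiv.Perm.mul_apply, ih]
        exact Equiv.Perm.viaFintypeEmbedding_apply_image _ _ _
    rw [← hx', hpow] at hfix
    have hfix' := emb.injective hfix
    obtain ⟨n, rfl⟩ : ∃ n, p = n + 2 := ⟨p - 2, by have := hp.two_le; omega⟩
    have hroti : ∀ j : ℕ, (((finRotate (n + 2) ^ j) i) : ℕ) = ((i : ℕ) + j) % (n + 2) := by
      intro j
      induction j with
      | zero => simp [Nat.mod_eq_of_lt i.isLt]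
      | succ j ih =>
        rw [pow_succ', Equiv.Perm.mul_apply, finRotate_apply, Fin.val_add, ih, Fin.val_one,
          Nat.mod_add_mod, add_assoc]
    have hval := (hroti m).symm.trans (congrArg Fin.val hfix')
    have hmod : (i : ℕ) + m ≡ (i : ℕ) + 0 [MOD n + 2] := by
      rw [Nat.ModEq, add_zero, hval, Nat.mod_eq_of_lt i.isLt]
    exact hord (Nat.modEq_zero_iff_dvd.mp (Nat.ModEq.add_left_cancel' _ hmod))
  let Q := P ⊔ Subgroup.zpowers y
  have hQ : IsPGroup p Q := by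
    rw [show Q = Subgroup.zpowers y ⊔ P from sup_comm _ _]
    exact hyp.to_sup_of_normal_right' (P0.2.map H.subtype) (Subgroup.zpowers_le.mpr hynorm)
  have hyG : y ∈ G := pow_mem hy0G m
  have hQG : Q ≤ G := sup_le (fun z hz => ((hH z).mp (hPH hz)).1) (Subgroup.zpowers_le.mpr hyG)
  have hsetΓ : ∀ z ∈ Q, z • Γ = Γ := by
    have hstab : Q ≤ MulAction.stabilizer (Equiv.Perm α) Γ := by
      refine sup_le (fun z hz => ?_) (Subgroup.zpowers_le.mpr ?_)
      · rw [MulAction.mem_stabilizer_iff]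
        refine Finset.eq_of_subset_of_card_le (fun w hw => ?_) (by rw [Finset.card_smul_finset])
        obtain ⟨v, hv, rfl⟩ := Finset.mem_smul_finset.mp hw
        rw [Equiv.Perm.smul_def, ((hH z).mp (hPH hz)).2 v hv]
        exact hv
      · rw [MulAction.mem_stabilizer_iff]
        refine Finset.eq_of_subset_of_card_le (fun w hw => ?_) (by rw [Finset.card_smul_finset])
        obtain ⟨v, hv, rfl⟩ := Finset.mem_smul_finset.mp hw
        rw [Equiv.Perm.smul_def, (hypow m v hv).1]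
        exact (hypow m v hv).2
    exact fun z hz => hstab hz
  -- `Q` has a fixed point in each orbit
  have hfixed : ∀ i, ∃ c ∈ O i, ∀ z ∈ Q, z c = c := by
    intro i
    have hinv : ∀ z ∈ Q, ∀ x ∈ O i, z x ∈ O i := by
      intro z hz x hx
      have hxΓ := hOout i x hx
      have hzx : z x ∉ Γ := fun hzx => hxΓ (by
        rw [← hsetΓ z hz, ← Equiv.Perm.smul_def, Finset.smul_mem_smul_finset_iff] at hzx
        exact hzx)
      obtain ⟨h', hh', hfix, hh'x⟩ :=
        Perm.generous_fixing_orbit hk hgen Γ hΓ x (z x) hxΓ hzx z (hQG hz) (hsetΓ z hz) rfl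
      obtain ⟨h'', hh'', rfl⟩ := (hO i x).mp hx
      exact (hO i _).mpr ⟨h' * h'', mul_mem ((hH _).mpr ⟨hh', hfix⟩) hh'', hh'x⟩
    let U : SubMulAction Q α :=
      { carrier := O i
        smul_mem' := fun z x hx => hinv z z.2 x hx }
    obtain ⟨c, hc⟩ := hQ.nonempty_fixed_point_of_prime_not_dvd_card U (by
      have : Nat.card U = Nat.card (O i) := rfl
      rw [this]
      exact hno i)
    exact ⟨c.1, c.2, fun z hz => congrArg Subtype.val (hc ⟨z, hz⟩)⟩
  choose c hcO hcfix using hfixed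
  have hcinj : Function.Injective c := by
    intro i j hij
    by_contra hne
    apply hdist i j hne
    show f j ∈ O i
    obtain ⟨h1, hh1, e1⟩ := (hO j _).mp (hcO j)
    obtain ⟨h2, hh2, e2⟩ := (hO i _).mp (hcO i)
    refine (hO i _).mpr ⟨h1⁻¹ * h2, mul_mem (inv_mem hh1) hh2, ?_⟩
    rw [Equiv.Perm.mul_apply, e2, hij, ← e1, Equiv.Perm.inv_def, Equiv.symm_apply_apply]
  let Γ' := (Γ \ B) ∪ Finset.univ.image c
  have hΓ' : Γ'.card = k := by
    rw [Finset.card_union_of_disjoint, Finset.card_sdiff_of_subset hBΓ,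
      Finset.card_image_of_injective _ hcinj, Finset.card_univ, Fintype.card_fin, hΓ, hBcard]
    · omega
    · rw [Finset.disjoint_left]
      intro x hx hx'
      obtain ⟨i, -, rfl⟩ := Finset.mem_image.mp hx'
      exact hOout i _ (hcO i) (Finset.mem_sdiff.mp hx).1
  have hQfix : ∀ z ∈ Q, ∀ x ∈ Γ', z x = x := by
    intro z hz x hx
    rcases Finset.mem_union.mp hx with hx | hx
    · have hstab : Q ≤ MulAction.stabilizer (Equiv.Perm α) x := by
        obtain ⟨hxΓ, hxB⟩ := Finset.mem_sdiff.mp hx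
        refine sup_le (fun w hw => ((hH w).mp (hPH hw)).2 x hxΓ) (Subgroup.zpowers_le.mpr ?_)
        rw [MulAction.mem_stabilizer_iff, Equiv.Perm.smul_def, (hypow m x hxΓ).1]
        have hτx : τ x = x := Equiv.Perm.viaFintypeEmbedding_apply_notMem_range _ _ (by
          rintro ⟨i, rfl⟩
          exact hxB ((Finset.equivFinOfCardEq hBcard).symm i).2)
        exact Equiv.Perm.pow_apply_eq_self_of_apply_eq_self hτx m
      exact hstab hz
    · obtain ⟨i, -, rfl⟩ := Finset.mem_image.mp hx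
      exact hcfix i z hz
  -- `Q` is conjugate into `H` but too big
  obtain ⟨τ', hτ'⟩ : ∃ τ' : Equiv.Perm α, ∀ x ∈ Γ, τ' x ∈ Γ' := by
    let e : {x // x ∈ Γ} ≃ {x // x ∈ Γ'} := Finset.equivOfCardEq (hΓ.trans hΓ'.symm)
    exact ⟨e.extendSubtype, fun x hx => Equiv.extendSubtype_mem e x hx⟩
  obtain ⟨n, hn, hnΓ⟩ := Perm.generous_exists_agree hk hgen τ' Γ hΓ.le
  have hQ' : Q.map (MulAut.conj n⁻¹).toMonoidHom ≤ H := by
    rintro _ ⟨z, hz, rfl⟩
    refine (hH _).mpr ⟨mul_mem (mul_mem (inv_mem hn) (hQG hz))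
      (inv_mem (inv_mem hn)), fun x hx => ?_⟩
    show (n⁻¹ * z * n⁻¹⁻¹) x = x
    rw [inv_inv, Equiv.Perm.mul_apply, Equiv.Perm.mul_apply, hnΓ x hx, hQfix z hz _ (hτ' x hx),
      ← hnΓ x hx, Equiv.Perm.inv_def, Equiv.symm_apply_apply]
  have hle := hmax _ (hQ.map _) hQ'
  rw [← Nat.card_congr (Q.equivMapOfInjective _ (MulEquiv.injective _)).toEquiv] at hle
  have heq : P = Q := Subgroup.eq_of_le_of_card_ge le_sup_left hle
  have hyP : y ∈ P := heq ▸ (le_sup_right (a := P) (Subgroup.mem_zpowers y) : y ∈ Q)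
  obtain ⟨x, hx⟩ : B.Nonempty := Finset.card_pos.mp (hBcard ▸ hp.pos)
  apply hτm x hx
  rw [← (hypow m x (hBΓ hx)).1]
  exact ((hH y).mp (hPH hyP)).2 x (hBΓ hx)

end Cfsg.Agent.S0706
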