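import Cfsg.Statements.S0707
import Cfsg.Agent.Lib.Perm.Regular

set_option autoImplicit false
open Cfsg

namespace Cfsg.Agent.S0707

/-- In a primitive permutation group, distinct points have distinct stabilisers unless the group is regular of prime degree. -/
theorem result {α : Type*} (G : Subgroup (Equiv.Perm α)) [MulAction.IsPreprimitive G α] (h : ¬ (Nat.card α).Prime ∨ ∃ a : α, MulAction.stabilizer G a ≠ ⊥) {a b : α} (hab : a ≠ b) : MulAction.stabilizer G a ≠ MulAction.stabilizer G b := by
  intro hs
  have : Nontrivial α := ⟨a, b, hab⟩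
  have htop : ∀ x : α, MulAction.stabilizer G a ≤ MulAction.stabilizer G x := by
    have hr : Equivalence fun x y : α => MulAction.stabilizer G x = MulAction.stabilizer G y :=
      ⟨fun _ => rfl, fun h => h.symm, fun h h' => h.trans h'⟩
    rcases Perm.eq_or_all_of_invariant_equivalence (G := G) _ hr (fun g x y e => by
      rw [MulAction.stabilizer_smul_eq_stabilizer_map_conj, e,
        MulAction.stabilizer_smul_eq_stabilizer_map_conj]) with h' | h'
    · exact absurd (h' a b hs) hab
    · exact fun x => (h' a x).le
  have hbot : MulAction.stabilizer G a = ⊥ := by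
    rw [Subgroup.eq_bot_iff_forall]
    intro g hg
    apply Subtype.ext
    ext x
    exact htop x hg
  rcases h with h | ⟨c, hc⟩
  · apply h
    have hco : IsCoatom (⊥ : Subgroup G) := hbot ▸
      MulAction.IsPreprimitive.isCoatom_stabilizer_of_isPreprimitive G a
    have hgen : ∀ g : G, g ≠ 1 → Subgroup.zpowers g = ⊤ := fun g hg =>
      hco.2 _ (bot_lt_iff_ne_bot.mpr (by simpa [Subgroup.zpowers_eq_bot] using hg))
    have : Nontrivial G := by
      obtain ⟨g, hg⟩ := MulAction.exists_smul_eq G a b
      exact ⟨g, 1, fun e => hab (by rw [← hg, e, one_smul])⟩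
    have hcard : Nat.card G = Nat.card α := by
      refine Nat.card_eq_of_bijective (fun g : G => g • a) ⟨fun g g' e => ?_, fun x => ?_⟩
      · have : g'⁻¹ * g ∈ MulAction.stabilizer G a := by
          rw [MulAction.mem_stabilizer_iff, mul_smul]
          simp only at e
          rw [e, inv_smul_smul]
        rw [hbot, Subgroup.mem_bot, inv_mul_eq_one] at this
        exact this.symm
      · exact MulAction.exists_smul_eq G a x
    rw [← hcard]
    obtain ⟨g, hg⟩ := exists_ne (1 : G)
    have : IsCyclic G := isCyclic_iff_exists_zpowers_eq_top.mpr ⟨g, hgen g hg⟩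
    have : IsSimpleGroup G := ⟨fun H _ => by
      by_cases hH : H = ⊥
      · exact Or.inl hH
      · exact Or.inr (hco.2 H (bot_lt_iff_ne_bot.mpr hH))⟩
    let : CommGroup G := IsCyclic.commGroup
    exact IsSimpleGroup.prime_card
  · obtain ⟨g, rfl⟩ := MulAction.exists_smul_eq G a c
    exact hc (by rw [MulAction.stabilizer_smul_eq_stabilizer_map_conj, hbot, Subgroup.map_bot])

end Cfsg.Agent.S0707
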