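import Cfsg.Statements.S0709
import Cfsg.Agent.EqLemmas

set_option autoImplicit false
open Cfsg

namespace Cfsg.Agent.S0709

/-- Witt's Lemma for constructing transitive extensions. Points `q 1, …, q t` (`t ≥ 2`) of a finite set are given; `G` fixes `q i` for `i ≥ 3` and is doubly transitive on the remaining points; `s 1 ∈ G` swaps `q 1, q 2`; for `2 ≤ i ≤ t-1`, `s i` swaps `q i, q (i+1)` and fixes the other `q j`; with `H` the stabiliser of `q 1, q 2` in `G`: `s i ^ 2 ∈ H`, `(s i * s (i+1)) ^ 3 ∈ H`, `(s i * s j) ^ 2 ∈ H` for `j ≥ i + 2`, and `s i` (`i ≥ 2`) normalises the stabiliser of `q 2` in `G`. Then `G` and the `s i` generate a `t`-transitive group whose pointwise stabiliser of the `q`'s is `H`. -/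
theorem result {α : Type*} [Fintype α] [DecidableEq α] (t : ℕ) (ht : 2 ≤ t) (q : ℕ → α) (hq : ∀ i j : ℕ, 1 ≤ i → i ≤ t → 1 ≤ j → j ≤ t → q i = q j → i = j) (G : Subgroup (Equiv.Perm α)) (hfix : ∀ g ∈ G, ∀ i : ℕ, 3 ≤ i → i ≤ t → g (q i) = q i) (h2 : ∀ a b c d : α, (∀ i, 3 ≤ i → i ≤ t → a ≠ q i ∧ b ≠ q i ∧ c ≠ q i ∧ d ≠ q i) → a ≠ b → c ≠ d → ∃ g ∈ G, g a = c ∧ g b = d) (s : ℕ → Equiv.Perm α) (hs1 : s 1 ∈ G) (hs1q : s 1 (q 1) = q 2 ∧ s 1 (q 2) = q 1) (hsq : ∀ i : ℕ, 2 ≤ i → i + 1 ≤ t → s i (q i) = q (i + 1) ∧ s i (q (i + 1)) = q i ∧ ∀ j : ℕ, 1 ≤ j → j ≤ t → j ≠ i → j ≠ i + 1 → s i (q j) = q j) (H : Subgroup (Equiv.Perm α)) (hH : H = G ⊓ MulAction.stabilizer (Equiv.Perm α) (q 1) ⊓ MulAction.stabilizer (Equiv.Perm α) (q 2)) (hsq2 : ∀ i : ℕ, 1 ≤ i → i + 1 ≤ t → s i ^ 2 ∈ H) (hbraid : ∀ i : ℕ, 1 ≤ i → i + 2 ≤ t → (s i * s (i + 1)) ^ 3 ∈ H) (hcomm : ∀ i j : ℕ, 1 ≤ i → i + 2 ≤ j → j + 1 ≤ t → (s i * s j) ^ 2 ∈ H ∧ (s j * s i) ^ 2 ∈ H) (hnorm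 : ∀ i : ℕ, 2 ≤ i → i + 1 ≤ t → ∀ g ∈ G ⊓ MulAction.stabilizer (Equiv.Perm α) (q 2), s i * g * (s i)⁻¹ ∈ G ⊓ MulAction.stabilizer (Equiv.Perm α) (q 2)) : MulAction.IsMultiplyPretransitive ↥(Subgroup.closure ((G : Set (Equiv.Perm α)) ∪ {x | ∃ i : ℕ, 2 ≤ i ∧ i + 1 ≤ t ∧ x = s i})) α t ∧ Subgroup.closure ((G : Set (Equiv.Perm α)) ∪ {x | ∃ i : ℕ, 2 ≤ i ∧ i + 1 ≤ t ∧ x = s i}) ⊓ fixingSubgroup (Equiv.Perm α) {x | ∃ i : ℕ, 1 ≤ i ∧ i ≤ t ∧ x = q i} = H := by
  classical
  -- `K j` is generated by `G` and `s 2, …, s j`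
  let K : ℕ → Subgroup (Equiv.Perm α) := fun j => if j = 0 then
    G ⊓ MulAction.stabilizer (Equiv.Perm α) (q 2)
    else Subgroup.closure ((G : Set (Equiv.Perm α)) ∪ {x | ∃ i : ℕ, 2 ≤ i ∧ i ≤ j ∧ x = s i})
  have hK0 : K 0 = G ⊓ MulAction.stabilizer (Equiv.Perm α) (q 2) := if_pos rfl
  have hKj : ∀ j, 1 ≤ j → K j = Subgroup.closure
      ((G : Set (Equiv.Perm α)) ∪ {x | ∃ i : ℕ, 2 ≤ i ∧ i ≤ j ∧ x = s i}) :=
    fun j hj => if_neg (by omega)
  have hK1 : K 1 = G := by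
    rw [hKj 1 le_rfl]
    refine le_antisymm ((Subgroup.closure_le _).mpr ?_)
      (fun g hg => Subgroup.subset_closure (Or.inl hg))
    rintro x (hx | ⟨i, hi, hi', -⟩)
    · exact hx
    · omega
  have hGK : ∀ j, 1 ≤ j → G ≤ K j := fun j hj g hg => by
    rw [hKj j hj]; exact Subgroup.subset_closure (Or.inl hg)
  have hsK : ∀ i j, 1 ≤ i → i ≤ j → s i ∈ K j := fun i j hi hij => by
    by_cases h1 : i = 1
    · exact hGK j (by omega) (h1 ▸ hs1)
    · rw [hKj j (by omega)]; exact Subgroup.subset_closure (Or.inr ⟨i, by omega, hij, rfl⟩)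
  have hmono : ∀ j, K j ≤ K (j + 1) := fun j => by
    rcases Nat.eq_zero_or_pos j with rfl | hj
    · rw [hK0, hK1]; exact inf_le_left
    · rw [hKj j hj, hKj (j + 1) (by omega)]
      refine Subgroup.closure_mono (Set.union_subset_union_right _ ?_)
      rintro x ⟨i, hi, hi', rfl⟩
      exact ⟨i, hi, by omega, rfl⟩
  have hHK : ∀ j, H ≤ K j := fun j => by
    induction j with
    | zero => rw [hK0, hH]; exact le_inf (inf_le_left.trans inf_le_left) inf_le_right
    | succ j ih => exact ih.trans (hmono j)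
  -- `G` is the union of two double cosets of the stabiliser of `q 2`
  have hq12 : q 1 ≠ q 2 := fun e => by
    have := hq 1 2 le_rfl (by omega) (by omega) ht e
    omega
  have hfix' : ∀ g ∈ G, ∀ x, (∀ i, 3 ≤ i → i ≤ t → x ≠ q i) → ∀ i, 3 ≤ i → i ≤ t → g x ≠ q i :=
    fun g hg x hx i h3 hit e => hx i h3 hit (g.injective (e.trans (hfix g hg i h3 hit).symm))
  have hq2av : ∀ i, 3 ≤ i → i ≤ t → q 2 ≠ q i := fun i h3 hit e => by
    have := hq 2 i (by omega) ht (by omega) hit e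
    omega
  have hq1av : ∀ i, 3 ≤ i → i ≤ t → q 1 ≠ q i := fun i h3 hit e => by
    have := hq 1 i le_rfl (by omega) (by omega) hit e
    omega
  have hG2 : ∀ g ∈ G, g ∈ K 0 ∨ ∃ a ∈ K 0, ∃ b ∈ K 0, g = a * s 1 * b := by
    intro g hg
    simp only [hK0, Subgroup.mem_inf, MulAction.mem_stabilizer_iff, Equiv.Perm.smul_def]
    by_cases h : g (q 2) = q 2
    · exact Or.inl ⟨hg, h⟩
    · obtain ⟨a, ha, ha2, ha1⟩ := h2 (q 2) (q 1) (q 2) (g (q 2))
        (fun i h3 hit => ⟨hq2av i h3 hit, hq1av i h3 hit, hq2av i h3 hit,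
          hfix' g hg _ hq2av i h3 hit⟩) hq12.symm (Ne.symm h)
      refine Or.inr ⟨a, ⟨ha, ha2⟩, (a * s 1)⁻¹ * g,
        ⟨G.mul_mem (G.inv_mem (G.mul_mem ha hs1)) hg, ?_⟩, (mul_inv_cancel_left _ _).symm⟩
      rw [Equiv.Perm.mul_apply, Equiv.Perm.inv_eq_iff_eq, Equiv.Perm.mul_apply, hs1q.2, ha1]
  -- a swap far enough away normalises `K j`
  have hconj : ∀ j i, j + 2 ≤ i → i + 1 ≤ t → ∀ x ∈ K j, s i * x * (s i)⁻¹ ∈ K j := by
    intro j i hji hit
    rcases Nat.eq_zero_or_pos j with rfl | hj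
    · rw [hK0]; exact hnorm i (by omega) hit
    have hgen : ∀ l, 1 ≤ l → l ≤ j → s i * s l * (s i)⁻¹ ∈ K j := fun l hl hlj => by
      have h := hHK j (hcomm l i hl (by omega) hit).2
      have h' := hHK j (hsq2 i (by omega) hit)
      have e : s i * s l * (s i)⁻¹ = (s i * s l) ^ 2 * (s l)⁻¹ * (s i ^ 2)⁻¹ := by rw [pow_two, pow_two]; group
      rw [e]
      exact mul_mem (mul_mem h (inv_mem (hsK l j hl hlj))) (inv_mem h')
    have hle : K j ≤ (K j).comap (MulAut.conj (s i)).toMonoidHom := by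
      conv_lhs => rw [hKj j hj]
      rw [Subgroup.closure_le]
      rintro x (hx | ⟨l, hl, hlj, rfl⟩)
      · change s i * x * (s i)⁻¹ ∈ K j
        rcases hG2 x hx with h | ⟨a, ha, b, hb, rfl⟩
        · rw [hK0] at h
          exact hGK j hj (hnorm i (by omega) hit x h).1
        · rw [hK0] at ha hb
          have e : s i * (a * s 1 * b) * (s i)⁻¹ =
              (s i * a * (s i)⁻¹) * (s i * s 1 * (s i)⁻¹) * (s i * b * (s i)⁻¹) := by group
          rw [e]
          exact mul_mem (mul_mem (hGK j hj (hnorm i (by omega) hit a ha).1) (hgen 1 le_rfl hj))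
            (hGK j hj (hnorm i (by omega) hit b hb).1)
      · exact hgen l (by omega) hlj
    exact fun x hx => hle hx
  -- the double coset decomposition
  have hdec : ∀ j, j + 2 ≤ t → ∀ x ∈ K (j + 1),
      x ∈ K j ∨ ∃ a ∈ K j, ∃ b ∈ K j, x = a * s (j + 1) * b := by
    intro j
    induction j with
    | zero => intro _ x hx; rw [hK1] at hx; exact hG2 x hx
    | succ j ih =>
      intro hjt
      have ih := ih (by omega)
      have hv2 : ∀ n, s (j + 2) ^ 2 ∈ K n := fun n => hHK n (hsq2 (j + 2) (by omega) (by omega))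
      have hu : s (j + 1) ∈ K (j + 1) := hsK _ _ (by omega) le_rfl
      let D : Equiv.Perm α → Prop := fun x =>
        x ∈ K (j + 1) ∨ ∃ a ∈ K (j + 1), ∃ b ∈ K (j + 1), x = a * s (j + 2) * b
      have hvkv : ∀ k ∈ K (j + 1), D (s (j + 2) * k * s (j + 2)) := by
        intro k hk
        have hc := hconj j (j + 2) le_rfl (by omega)
        rcases ih k hk with h | ⟨a, ha, b, hb, rfl⟩
        · left
          have e : s (j + 2) * k * s (j + 2) =
              (s (j + 2) * k * (s (j + 2))⁻¹) * s (j + 2) ^ 2 := by group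
          rw [e]
          exact mul_mem (hmono j (hc k h)) (hv2 _)
        · right
          have hb' : (s (j + 2))⁻¹ * b * s (j + 2) ∈ K j := by
            have e : (s (j + 2))⁻¹ * b * s (j + 2) =
                (s (j + 2) ^ 2)⁻¹ * (s (j + 2) * b * (s (j + 2))⁻¹) * s (j + 2) ^ 2 := by group
            rw [e]
            exact mul_mem (mul_mem (inv_mem (hv2 j)) (hc b hb)) (hv2 j)
          have hbr := hHK (j + 1) (hbraid (j + 1) (by omega) (by omega))
          refine ⟨(s (j + 2) * a * (s (j + 2))⁻¹) * ((s (j + 1))⁻¹ * (s (j + 1) * s (j + 2)) ^ 3),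
            mul_mem (hmono j (hc a ha)) (mul_mem (inv_mem hu) hbr),
            (s (j + 2) ^ 2)⁻¹ * (s (j + 1))⁻¹ * ((s (j + 2))⁻¹ * b * s (j + 2)),
            mul_mem (mul_mem (inv_mem (hv2 _)) (inv_mem hu)) (hmono j hb'), ?_⟩
          simp only [pow_succ, pow_zero, one_mul, mul_assoc, mul_inv_rev, inv_mul_cancel_left,
            mul_inv_cancel_left]
      intro x hx
      rw [hKj _ (by omega)] at hx
      induction hx using Subgroup.closure_induction with
      | mem x hx =>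
        rcases hx with hx | ⟨i, hi, hi', rfl⟩
        · exact Or.inl (hGK _ (by omega) hx)
        · by_cases h : i ≤ j + 1
          · exact Or.inl (hsK i _ (by omega) h)
          · obtain rfl : i = j + 2 := by omega
            exact Or.inr ⟨1, one_mem _, 1, one_mem _, by simp⟩
      | one => exact Or.inl (one_mem _)
      | mul x y _ _ hx hy =>
        rcases hx with hx | ⟨a, ha, b, hb, rfl⟩ <;> rcases hy with hy | ⟨c, hc, d, hd, rfl⟩
        · exact Or.inl (mul_mem hx hy)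
        · exact Or.inr ⟨x * c, mul_mem hx hc, d, hd, by simp only [mul_assoc]⟩
        · exact Or.inr ⟨a, ha, b * y, mul_mem hb hy, by simp only [mul_assoc]⟩
        · have e : a * s (j + 1 + 1) * b * (c * s (j + 1 + 1) * d)
              = a * (s (j + 2) * (b * c) * s (j + 2)) * d := by simp only [mul_assoc]
          rw [e]
          rcases hvkv _ (mul_mem hb hc) with h | ⟨a', ha', b', hb', h⟩
          · exact Or.inl (mul_mem (mul_mem ha h) hd)
          · exact Or.inr ⟨a * a', mul_mem ha ha', b' * d, mul_mem hb' hd,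
              by simp only [h, mul_assoc]⟩
      | inv x _ hx =>
        rcases hx with hx | ⟨a, ha, b, hb, rfl⟩
        · exact Or.inl (inv_mem hx)
        · exact Or.inr ⟨b⁻¹, inv_mem hb, (s (j + 2) ^ 2)⁻¹ * a⁻¹,
            mul_mem (inv_mem (hv2 _)) (inv_mem ha), by group⟩
  -- fixed points
  have hKfix : ∀ j, 1 ≤ j → ∀ i, j + 2 ≤ i → i ≤ t → ∀ x ∈ K j, x (q i) = q i := by
    intro j hj i hji hit
    have hle : K j ≤ MulAction.stabilizer (Equiv.Perm α) (q i) := by
      rw [hKj j hj, Subgroup.closure_le]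
      rintro x (hx | ⟨l, hl, hlj, rfl⟩)
      · exact hfix x hx i (by omega) hit
      · exact (hsq l hl (by omega)).2.2 i (by omega) hit (by omega) (by omega)
    exact fun x hx => hle hx
  have hdesc : ∀ j, 1 ≤ j → j + 2 ≤ t → ∀ x ∈ K (j + 1), x (q (j + 2)) = q (j + 2) → x ∈ K j := by
    intro j hj hjt x hx hxq
    rcases hdec j hjt x hx with h | ⟨a, ha, b, hb, rfl⟩
    · exact h
    exfalso
    rw [Equiv.Perm.mul_apply, Equiv.Perm.mul_apply, hKfix j hj (j + 2) le_rfl hjt b hb,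
      (hsq (j + 1) (by omega) (by omega)).2.1] at hxq
    have := hq (j + 1) (j + 2) (by omega) (by omega) (by omega) hjt
      (a.injective (hxq.trans (hKfix j hj (j + 2) le_rfl hjt a ha).symm))
    omega
  -- transitivity on the points that are left free
  have horb : ∀ j, 1 ≤ j → j + 1 ≤ t → ∀ y, (∀ i, j + 2 ≤ i → i ≤ t → y ≠ q i) →
      ∃ k ∈ K j, k (q (j + 1)) = y := by
    intro j hj
    induction j, hj using Nat.le_induction with
    | base =>
      intro _ y hy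
      rw [hK1]
      by_cases h : y = q 2
      · exact ⟨1, one_mem _, h.symm⟩
      · obtain ⟨g, hg, hg1, -⟩ := h2 (q 2) (q 1) y (q 2) (fun i h3 hit =>
          ⟨hq2av i h3 hit, hq1av i h3 hit, hy i h3 hit, hq2av i h3 hit⟩) hq12.symm h
        exact ⟨g, hg, hg1⟩
    | succ j hj ih =>
      intro hjt y hy
      by_cases h : y = q (j + 2)
      · exact ⟨1, one_mem _, h.symm⟩
      · obtain ⟨k, hk, hky⟩ := ih (by omega) y fun i hi hit => by
          by_cases e : i = j + 2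
          · exact e ▸ h
          · exact hy i (by omega) hit
        refine ⟨k * s (j + 1), mul_mem (hmono j hk) (hsK _ _ (by omega) le_rfl), ?_⟩
        rw [Equiv.Perm.mul_apply, (hsq (j + 1) (by omega) (by omega)).2.1, hky]
  have htr : ∀ j, 1 ≤ j → j + 1 ≤ t → ∀ u w : Fin (j + 1) ↪ α,
      (∀ l i, j + 2 ≤ i → i ≤ t → u l ≠ q i) → (∀ l i, j + 2 ≤ i → i ≤ t → w l ≠ q i) →
      ∃ k ∈ K j, ∀ l, k (u l) = w l := by
    intro j hj
    induction j, hj using Nat.le_induction with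
    | base =>
      intro _ u w hu hw
      obtain ⟨g, hg, h0, h1⟩ := h2 (u 0) (u 1) (w 0) (w 1)
        (fun i h3 hit => ⟨hu 0 i h3 hit, hu 1 i h3 hit, hw 0 i h3 hit, hw 1 i h3 hit⟩)
        (fun e => by simpa using u.injective e) (fun e => by simpa using w.injective e)
      refine ⟨g, hK1.symm ▸ hg, fun l => ?_⟩
      match l with
      | 0 => exact h0
      | 1 => exact h1
    | succ j hj ih =>
      intro hjt u w hu hw
      have hmove : ∀ v : Fin (j + 1 + 1) ↪ α, (∀ l i, j + 3 ≤ i → i ≤ t → v l ≠ q i) →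
          ∃ k ∈ K (j + 1), ∃ v' : Fin (j + 1) ↪ α, (∀ l i, j + 2 ≤ i → i ≤ t → v' l ≠ q i) ∧
            k (q (j + 2)) = v 0 ∧ ∀ l, k (v' l) = v l.succ := by
        intro v hv
        obtain ⟨k, hk, hk0⟩ := horb (j + 1) (by omega) hjt (v 0) (hv 0)
        refine ⟨k, hk, ⟨fun l => k⁻¹ (v l.succ),
          fun a b e => Fin.succ_injective _ (v.injective ((k⁻¹).injective e))⟩, ?_, hk0,
          fun l => k.apply_symm_apply _⟩
        intro l i hi hit e
        have e' : v l.succ = k (q i) := (congrArg k e).symm ▸ (k.apply_symm_apply _).symm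
        by_cases h : i = j + 2
        · rw [h, hk0] at e'
          exact Fin.succ_ne_zero l (v.injective e')
        · rw [hKfix (j + 1) (by omega) i (by omega) hit k hk] at e'
          exact hv l.succ i (by omega) hit e'
      obtain ⟨k, hk, u', hu', hku0, hku⟩ := hmove u hu
      obtain ⟨m, hm, w', hw', hmw0, hmw⟩ := hmove w hw
      obtain ⟨g, hg, hgu⟩ := ih (by omega) u' w' hu' hw'
      refine ⟨m * g * k⁻¹, mul_mem (mul_mem hm (hmono j hg)) (inv_mem hk), fun l => ?_⟩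
      induction l using Fin.cases with
      | zero =>
        rw [Equiv.Perm.mul_apply, Equiv.Perm.mul_apply,
          Equiv.Perm.inv_eq_iff_eq.mpr hku0.symm, hKfix j hj (j + 2) le_rfl (by omega) g hg, hmw0]
      | succ l =>
        rw [Equiv.Perm.mul_apply, Equiv.Perm.mul_apply,
          Equiv.Perm.inv_eq_iff_eq.mpr (hku l).symm, hgu, hmw]
  -- conclusion
  obtain ⟨j, rfl⟩ : ∃ j, t = j + 1 := ⟨t - 1, by omega⟩
  have hTop : Subgroup.closure ((G : Set (Equiv.Perm α)) ∪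
      {x | ∃ i : ℕ, 2 ≤ i ∧ i + 1 ≤ j + 1 ∧ x = s i}) = K j := by
    rw [hKj j (by omega)]
    simp only [Nat.add_le_add_iff_right]
  rw [hTop]
  constructor
  · refine ⟨fun u w => ?_⟩
    obtain ⟨k, hk, hkuw⟩ := htr j (by omega) le_rfl u w (fun l i hi hit => by omega)
      (fun l i hi hit => by omega)
    exact ⟨⟨k, hk⟩, DFunLike.ext _ _ hkuw⟩
  · apply le_antisymm
    · intro x hx
      obtain ⟨hxK, hxq⟩ := Subgroup.mem_inf.mp hx
      have hxq' : ∀ i, 1 ≤ i → i ≤ j + 1 → x (q i) = q i := fun i hi hit =>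
        (mem_fixingSubgroup_iff _).mp hxq (q i) ⟨i, hi, hit, rfl⟩
      have hG' : ∀ l, 1 ≤ l → l ≤ j → x ∈ K l → x ∈ G := fun l hl => by
        induction l, hl using Nat.le_induction with
        | base => intro _ h; exact hK1 ▸ h
        | succ l hl ih =>
          intro hlj h
          exact ih (by omega) (hdesc l hl (by omega) x h (hxq' _ (by omega) (by omega)))
      rw [hH]
      exact ⟨⟨hG' j (by omega) le_rfl hxK, hxq' 1 le_rfl (by omega)⟩, hxq' 2 (by omega) ht⟩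
    · intro x hx
      refine ⟨hHK j hx, (mem_fixingSubgroup_iff _).mpr ?_⟩
      rw [hH] at hx
      obtain ⟨⟨hxG, hx1⟩, hx2⟩ := hx
      rintro y ⟨i, hi, hit, rfl⟩
      rcases (show i = 1 ∨ i = 2 ∨ 3 ≤ i by omega) with rfl | rfl | h
      · exact hx1
      · exact hx2
      · exact hfix x hxG i h hit

end Cfsg.Agent.S0709
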