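import Cfsg.Statements.S0710
import Cfsg.Agent.Lib.Perm.Centralizer

set_option autoImplicit false
open Cfsg

namespace Cfsg.Agent.S0710

/-- No transitive permutation group on 13 points has order `13 * 12 * 11 * 10 * 9 * 8`. -/
theorem result {α : Type*} [Fintype α] [DecidableEq α] (hα : Fintype.card α = 13) (G : Subgroup (Equiv.Perm α)) [MulAction.IsPretransitive G α] : Nat.card G ≠ 13 * 12 * 11 * 10 * 9 * 8 := by
  intro hcard
  have : Fact (Nat.Prime 13) := ⟨by norm_num⟩
  have : Nonempty α := Fintype.card_pos_iff.mp (by omega)
  obtain ⟨P⟩ : Nonempty (Sylow 13 G) := inferInstance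
  have hP : Nat.card (P : Subgroup G) = 13 := by
    rw [Sylow.card_eq_multiplicity, hcard,
      show (13 * 12 * 11 * 10 * 9 * 8 : ℕ) = 13 ^ 1 * 95040 by norm_num,
      Nat.factorization_mul (by norm_num) (by norm_num), Finsupp.add_apply,
      Nat.Prime.factorization_pow (by norm_num), Finsupp.single_eq_same,
      Nat.factorization_eq_zero_of_not_dvd (by norm_num), pow_one]
  -- `P` is transitive
  have hPt : MulAction.IsPretransitive ((P : Subgroup G).map G.subtype) α := by
    have h1 : ∀ a : α, MulAction.orbit (P : Subgroup G) a = Set.univ := by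
      intro a
      by_contra hne
      -- a point fixed by the whole Sylow subgroup contradicts transitivity
      have hdvd' : Nat.card (MulAction.orbit (P : Subgroup G) a) ∣ Nat.card (P : Subgroup G) :=
        Dvd.intro _ (by
          rw [← Nat.card_prod]
          exact Nat.card_congr (MulAction.orbitProdStabilizerEquivGroup _ a))
      have hdvd : Nat.card (MulAction.orbit (P : Subgroup G) a) ∣ 13 := hdvd'.trans (dvd_of_eq hP)
      rcases (Nat.dvd_prime (by norm_num)).mp hdvd with h | h
      · have hfix : (P : Subgroup G) ≤ MulAction.stabilizer G a := by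
          intro z hz
          have hz' : (⟨z, hz⟩ : (P : Subgroup G)) • a ∈ MulAction.orbit (P : Subgroup G) a :=
            MulAction.mem_orbit a _
          have hs := (Nat.card_eq_one_iff_unique.mp h).1
          exact congrArg Subtype.val (hs.elim (⟨_, hz'⟩ : MulAction.orbit (P : Subgroup G) a)
            ⟨a, MulAction.mem_orbit_self a⟩)
        have h13 : 13 ∣ Nat.card (MulAction.stabilizer G a) :=
          hP ▸ Subgroup.card_dvd_of_le hfix
        have hidx := (MulAction.stabilizer G a).index_mul_card
        rw [MulAction.index_stabilizer_of_transitive, Nat.card_eq_fintype_card (α := α), hα,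
          hcard] at hidx
        omega
      · exact hne (Set.eq_univ_iff_ncard _ |>.mpr (by
          rw [← Nat.card_coe_set_eq, h, Nat.card_eq_fintype_card, hα]))
    refine ⟨fun x y => ?_⟩
    obtain ⟨z, hz⟩ := (h1 x).symm ▸ Set.mem_univ y
    exact ⟨⟨_, Subgroup.mem_map_of_mem G.subtype z.2⟩, hz⟩
  obtain ⟨a⟩ := (inferInstance : Nonempty α)
  have hC : Nat.card (Subgroup.centralizer ((P : Subgroup G) : Set G)) ≤ 13 := by
    refine le_of_le_of_eq (?_ : _ ≤ Nat.card α) (Nat.card_eq_fintype_card.trans hα)
    refine Nat.card_le_card_of_injective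
      (fun c : Subgroup.centralizer ((P : Subgroup G) : Set G) => ((c : G) : Equiv.Perm α) a) ?_
    intro c d hcd
    have hmem : ∀ c : Subgroup.centralizer ((P : Subgroup G) : Set G),
        ((c : G) : Equiv.Perm α) ∈
          Subgroup.centralizer (((P : Subgroup G).map G.subtype : Subgroup _) : Set _) := by
      intro c
      rw [Subgroup.mem_centralizer_iff]
      rintro _ ⟨z, hz, rfl⟩
      exact congrArg Subtype.val (Subgroup.mem_centralizer_iff.mp c.2 z hz)
    exact Subtype.ext (Subtype.ext (Perm.eq_of_commute_of_apply_eq hPt (hmem c) (hmem d) hcd))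
  have hN : ∃ d, d ∣ 12 ∧
      Nat.card (Subgroup.normalizer ((P : Subgroup G) : Set G)) = 13 * d := by
    let φ := (P : Subgroup G).normalizerMonoidHom
    refine ⟨Nat.card φ.range, ?_, ?_⟩
    · have hd := φ.range.card_subgroup_dvd_card
      have : IsCyclic (P : Subgroup G) := isCyclic_of_prime_card hP
      rwa [IsCyclic.card_mulAut, hP, Nat.totient_prime (by norm_num)] at hd
    · have h := φ.ker.index_mul_card
      rw [Subgroup.index_ker] at h
      rw [← h, mul_comm]
      congr 1
      apply le_antisymm
      · rw [Subgroup.normalizerMonoidHom_ker,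
          Nat.card_congr (Subgroup.subgroupOfEquivOfLe (fun c hc =>
            Subgroup.centralizer_le_normalizer _ hc)).toEquiv]
        exact hC
      · have : IsMulCommutative (P : Subgroup G) := by
          have := isCyclic_of_prime_card hP
          exact ⟨⟨fun u v => IsCyclic.commGroup.mul_comm u v⟩⟩
        rw [Subgroup.normalizerMonoidHom_ker,
          Nat.card_congr (Subgroup.subgroupOfEquivOfLe (fun c hc =>
            Subgroup.centralizer_le_normalizer _ hc)).toEquiv]
        refine le_of_eq_of_le hP.symm ?_
        exact Subgroup.card_le_of_le (Subgroup.le_centralizer (P : Subgroup G))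
  obtain ⟨d, hd, hNd⟩ := hN
  have hn := card_sylow_modEq_one 13 G
  rw [Sylow.card_eq_index_normalizer P] at hn
  have hidx := (Subgroup.normalizer ((P : Subgroup G) : Set G)).index_mul_card
  rw [hNd, hcard] at hidx
  have hd0 : d ≤ 12 := Nat.le_of_dvd (by norm_num) hd
  generalize (Subgroup.normalizer ((P : Subgroup G) : Set G)).index = n at hn hidx
  rw [Nat.ModEq] at hn
  interval_cases d <;> omega

end Cfsg.Agent.S0710
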