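import Cfsg.Statements.S0711
import Cfsg.Agent.EqLemmas
import Mathlib.GroupTheory.GroupAction.Jordan
import Mathlib.GroupTheory.Perm.Cycle.Type

set_option autoImplicit false
open Cfsg

namespace Cfsg.Agent.S0711

open MulAction Equiv Equiv.Perm

variable {α : Type*} [Fintype α] [DecidableEq α]

/-- A `k`-transitive group agrees with any permutation on any set of at most `k` points. -/
theorem exists_agree {G : Subgroup (Equiv.Perm α)} {k : ℕ} (hkn : k ≤ Fintype.card α)
    (hG : IsMultiplyPretransitive G α k) (T : Finset α) (hT : T.card ≤ k) (π : Equiv.Perm α) :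
    ∃ h ∈ G, ∀ x ∈ T, h x = π x := by
  obtain ⟨S, hTS, hS⟩ := Finset.exists_superset_card_eq (s := T) hT hkn
  let u : Fin k ↪ α := (Finset.equivFinOfCardEq hS).symm.toEmbedding.trans (Function.Embedding.subtype _)
  obtain ⟨h, hh⟩ := hG.exists_smul_eq u (u.trans π.toEmbedding)
  refine ⟨h, h.2, fun x hx => ?_⟩
  have := congrArg (fun f : Fin k ↪ α => f ((Finset.equivFinOfCardEq hS) ⟨x, hTS hx⟩)) hh
  simpa [u, Subgroup.smul_def] using this

/-- Conjugation depends only on the images of the moved points. -/
theorem conj_eq_of_agree {g h π : Equiv.Perm α} (hh : ∀ x ∈ g.support, h x = π x) :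
    h * g * h⁻¹ = π * g * π⁻¹ := by
  rw [mul_inv_eq_iff_eq_mul]
  ext y
  simp only [Perm.mul_apply]
  by_cases hy : y ∈ g.support
  · rw [hh y hy, hh _ (apply_mem_support.mpr hy), Perm.inv_eq_iff_eq.mpr rfl]
  · have h1 : π⁻¹ (h y) ∉ g.support := fun hm => by
      have h2 := hh _ hm
      rw [show π (π⁻¹ (h y)) = h y from π.apply_symm_apply _] at h2
      exact hy (h.injective h2 ▸ hm)
    rw [notMem_support.mp hy, notMem_support.mp h1, show π (π⁻¹ (h y)) = h y from π.apply_symm_apply _]

/-- A non-identity element of minimal support in a `k`-transitive group with fewer than `2k-2`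
moved points moves at most three points. -/
theorem card_support_le_three {G : Subgroup (Equiv.Perm α)} {k : ℕ} (hk : 3 ≤ k)
    (hkn : k ≤ Fintype.card α) (hG : IsMultiplyPretransitive G α k) {g : Equiv.Perm α}
    (hg : g ∈ G) (hg1 : g ≠ 1) (hm : g.support.card < 2 * k - 2)
    (hmin : ∀ c ∈ G, c ≠ 1 → g.support.card ≤ c.support.card) : g.support.card ≤ 3 := by
  by_contra hm3
  -- the case of the symmetric group
  have hn : k + 2 ≤ Fintype.card α := by
    by_contra hn
    have htop : G = ⊤ := eq_top_of_isMultiplyPretransitive (isMultiplyPretransitive_of_le (n := k)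
      (by rw [Nat.card_eq_fintype_card]; omega) (by rw [Nat.card_eq_fintype_card]; exact hkn))
    obtain ⟨a, b, hab⟩ := Fintype.exists_pair_of_one_lt_card (α := α) (by omega)
    have := hmin (Equiv.swap a b) (htop ▸ Subgroup.mem_top _)
      (fun e => hab (Equiv.swap_eq_one_iff.mp e))
    rw [card_support_swap hab] at this
    omega
  -- a support larger than `k`
  have hmk : k < g.support.card := by
    by_contra hmk
    obtain ⟨a, ha⟩ := Finset.card_pos.mp (show 0 < g.support.card by omega)
    obtain ⟨e, he⟩ : ∃ e, e ∉ g.support := by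
      by_contra hall
      push Not at hall
      have := Finset.card_le_card (show (Finset.univ : Finset α) ⊆ g.support from fun x _ => hall x)
      rw [Finset.card_univ] at this
      omega
    obtain ⟨h, hhG, hh⟩ := exists_agree hkn hG g.support (by omega) (Equiv.swap a e)
    have hc : h * g⁻¹ * h⁻¹ = Equiv.swap a e * g⁻¹ * (Equiv.swap a e)⁻¹ :=
      conj_eq_of_agree (by rw [support_inv]; exact hh)
    have hmem : g * (h * g⁻¹ * h⁻¹) ∈ G :=
      G.mul_mem hg (G.mul_mem (G.mul_mem hhG (G.inv_mem hg)) (G.inv_mem hhG))
    have hga : g a ≠ a := mem_support.mp ha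
    have hge : g e = e := notMem_support.mp he
    have hae : a ≠ e := fun h => he (h ▸ ha)
    have heq : g * (h * g⁻¹ * h⁻¹) = Equiv.swap (g a) e * Equiv.swap a e := by
      rw [hc, Equiv.swap_inv, ← mul_assoc, ← mul_assoc,
        Equiv.mul_swap_eq_swap_mul g a e, hge, mul_inv_cancel_right]
    rw [heq] at hmem
    have hne : Equiv.swap (g a) e * Equiv.swap a e ≠ 1 := fun h => by
      have := congrArg (fun f : Equiv.Perm α => f a) h
      simp only [Perm.mul_apply, Equiv.swap_apply_left, Equiv.swap_apply_right, Perm.one_apply] at this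
      exact hga this
    have hle := (hmin _ hmem hne).trans (Finset.card_le_card (show
        (Equiv.swap (g a) e * Equiv.swap a e).support ⊆ {g a, e, a} from fun x hx => by
      by_contra hx'
      simp only [Finset.mem_insert, Finset.mem_singleton, not_or] at hx'
      apply mem_support.mp hx
      rw [Perm.mul_apply, Equiv.swap_apply_of_ne_of_ne hx'.2.2 hx'.2.1,
        Equiv.swap_apply_of_ne_of_ne hx'.1 hx'.2.1]))
    have := hle.trans Finset.card_le_three
    omega
  let inner : Finset α → Finset α := fun T => T.filter fun t => g t ∈ T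
  -- the main inequality
  have key : ∀ T ⊆ g.support, ∀ x ∈ g.support, x ∉ T → ∀ h ∈ G, (∀ t ∈ T, h t = t) →
      x ∈ (h * g * h⁻¹).support → h * g * h⁻¹ ≠ g →
      T.card + 1 + (inner T).card ≤ g.support.card := by
    intro T hT x hx hxT h hhG hfix hx' hne
    set g' := h * g * h⁻¹ with hg'
    have hg'ap : ∀ t, g' (h t) = h (g t) := fun t => by
      rw [hg', Perm.mul_apply, Perm.mul_apply, Perm.inv_eq_iff_eq.mpr rfl]
    have hc : g⁻¹ * g' ∈ G :=
      G.mul_mem (G.inv_mem hg) (G.mul_mem (G.mul_mem hhG hg) (G.inv_mem hhG))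
    have hc1 : g⁻¹ * g' ≠ 1 := fun e => hne (inv_mul_eq_one.mp e).symm
    have hsub : (g⁻¹ * g').support ⊆ (g.support ∪ g'.support) \ inner T := by
      intro z hz
      rw [Finset.mem_sdiff, Finset.mem_union]
      constructor
      · by_contra hz'
        rw [not_or, notMem_support, notMem_support] at hz'
        apply mem_support.mp hz
        rw [Perm.mul_apply, hz'.2, Perm.inv_eq_iff_eq, hz'.1]
      · intro hzI
        obtain ⟨hzT, hgz⟩ := Finset.mem_filter.mp hzI
        apply mem_support.mp hz
        have := hg'ap z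
        rw [hfix z hzT, hfix _ hgz] at this
        rw [Perm.mul_apply, this, Perm.inv_eq_iff_eq]
    have hinter : insert x T ⊆ g.support ∩ g'.support := by
      intro z hz
      rw [Finset.mem_inter]
      rcases Finset.mem_insert.mp hz with rfl | hzT
      · exact ⟨hx, hx'⟩
      · refine ⟨hT hzT, mem_support.mpr fun e => mem_support.mp (hT hzT) ?_⟩
        have := hg'ap z
        rw [hfix z hzT, e] at this
        exact h.injective (this.symm.trans (hfix z hzT).symm)
    have hI : inner T ⊆ g.support ∪ g'.support := fun z hz =>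
      Finset.mem_union_left _ (hT (Finset.mem_filter.mp hz).1)
    have h1 := (hmin _ hc hc1).trans (Finset.card_le_card hsub)
    rw [Finset.card_sdiff_of_subset hI] at h1
    have h2 := Finset.card_union_add_card_inter g.support g'.support
    have h3 : g'.support.card = g.support.card := card_support_conj
    have h4 := Finset.card_le_card hinter
    rw [Finset.card_insert_of_notMem hxT] at h4
    omega
  -- a set with many inner edges and an exit is impossible
  have exit : ∀ T ⊆ g.support, T.card + 1 = k → k ≤ (inner T).card + 2 →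
      ∀ t ∈ T, g t ∉ T → False := by
    intro T hT hTk hI t ht hgt
    obtain ⟨y, hy, hy'⟩ : ∃ y ∈ g.support, y ∉ insert (g t) T := by
      refine Finset.exists_mem_notMem_of_card_lt_card ?_
      have := Finset.card_insert_le (g t) T
      omega
    rw [Finset.mem_insert, not_or] at hy'
    obtain ⟨h, hhG, hh⟩ := exists_agree hkn hG (insert (g t) T)
      (by rw [Finset.card_insert_of_notMem hgt]; omega) (Equiv.swap (g t) y)
    have hfix : ∀ z ∈ T, h z = z := fun z hz => by
      rw [hh z (Finset.mem_insert_of_mem hz), Equiv.swap_apply_of_ne_of_ne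
        (fun e : z = g t => hgt (e ▸ hz)) (fun e : z = y => hy'.2 (e ▸ hz))]
    have hhx : h (g t) = y := by rw [hh _ (Finset.mem_insert_self _ _), Equiv.swap_apply_left]
    have hy1 : (h * g * h⁻¹) t = y := by
      rw [Perm.mul_apply, Perm.mul_apply, Perm.inv_eq_iff_eq.mpr (hfix t ht).symm, hhx]
    have hyt : t ≠ y := fun e => hy'.2 (e ▸ ht)
    have := key T hT y hy hy'.2 h hhG hfix
      (mem_support.mpr fun e => hyt ((h * g * h⁻¹).injective (hy1.trans e.symm)))
      (fun e => hy'.1 ((congrArg (fun f : Equiv.Perm α => f t) e).symm.trans hy1).symm)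
    omega
  -- greedy choice of a set with many inner edges
  have greedy : ∀ j, 1 ≤ j → j ≤ g.support.card →
      ∃ T ⊆ g.support, T.card = j ∧ j ≤ (inner T).card + 1 := by
    intro j hj
    induction j, hj using Nat.le_induction with
    | base =>
      intro h
      obtain ⟨a, ha⟩ := Finset.card_pos.mp (show 0 < g.support.card by omega)
      exact ⟨{a}, by simpa using ha, Finset.card_singleton a, by omega⟩
    | succ j hj ih =>
      intro hjm
      obtain ⟨T, hT, hTc, hI⟩ := ih (by omega)
      have mono : ∀ a, inner T ⊆ inner (insert a T) := fun a z hz => by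
        obtain ⟨hz1, hz2⟩ := Finset.mem_filter.mp hz
        exact Finset.mem_filter.mpr ⟨Finset.mem_insert_of_mem hz1, Finset.mem_insert_of_mem hz2⟩
      by_cases hex : ∃ t ∈ T, g t ∉ T
      · obtain ⟨t, ht, hgt⟩ := hex
        refine ⟨insert (g t) T, Finset.insert_subset (apply_mem_support.mpr (hT ht)) hT,
          by rw [Finset.card_insert_of_notMem hgt, hTc], ?_⟩
        have : insert t (inner T) ⊆ inner (insert (g t) T) :=
          Finset.insert_subset (Finset.mem_filter.mpr ⟨Finset.mem_insert_of_mem ht,
            Finset.mem_insert_self _ _⟩) (mono _)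
        have h := Finset.card_le_card this
        rw [Finset.card_insert_of_notMem (fun h : t ∈ inner T => hgt (Finset.mem_filter.mp h).2)] at h
        omega
      · push Not at hex
        obtain ⟨x, hx, hxT⟩ := Finset.exists_mem_notMem_of_card_lt_card
          (show T.card < g.support.card by omega)
        refine ⟨insert x T, Finset.insert_subset hx hT,
          by rw [Finset.card_insert_of_notMem hxT, hTc], ?_⟩
        have h := Finset.card_le_card (mono x)
        rw [show inner T = T from Finset.filter_true_of_mem hex, hTc] at h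
        omega
  obtain ⟨T, hT, hTc, hI⟩ := greedy (k - 1) (by omega) (by omega)
  by_cases hex : ∃ t ∈ T, g t ∉ T
  · obtain ⟨t, ht, hgt⟩ := hex
    exact exit T hT (by omega) (by omega) t ht hgt
  push Not at hex
  -- `T` is invariant; so is the rest of the support
  have himg : T.image g = T := Finset.eq_of_subset_of_card_le
    (Finset.image_subset_iff.mpr hex) (by rw [Finset.card_image_of_injective _ g.injective])
  have hR : ∀ x ∈ g.support \ T, g x ∈ g.support \ T := by
    intro x hx
    rw [Finset.mem_sdiff] at hx ⊢
    refine ⟨apply_mem_support.mpr hx.1, fun h => ?_⟩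
    rw [← himg, Finset.mem_image] at h
    obtain ⟨t, ht, e⟩ := h
    exact hx.2 (g.injective e ▸ ht)
  obtain ⟨z, hz⟩ := Finset.card_pos.mp (show 0 < T.card by omega)
  have hgz : g z ≠ z := mem_support.mp (hT hz)
  have hRc := Finset.card_sdiff_of_subset hT
  by_cases hm' : g.support.card + 3 = 2 * k
  · -- the rest of the support and one point of `T`
    have hzR : z ∉ g.support \ T := fun h => (Finset.mem_sdiff.mp h).2 hz
    refine exit (insert z (g.support \ T)) (Finset.insert_subset (hT hz) Finset.sdiff_subset)
      (by rw [Finset.card_insert_of_notMem hzR]; omega) ?_ z (Finset.mem_insert_self _ _) ?_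
    · have h : g.support \ T ⊆ inner (insert z (g.support \ T)) := fun x hx =>
        Finset.mem_filter.mpr ⟨Finset.mem_insert_of_mem hx, Finset.mem_insert_of_mem (hR x hx)⟩
      have := Finset.card_le_card h
      omega
    · rw [Finset.mem_insert, Finset.mem_sdiff, not_or, not_and_not_right]
      exact ⟨hgz, fun _ => hex z hz⟩
  · -- the support is small
    obtain ⟨x, hx⟩ := Finset.card_pos.mp (show 0 < (g.support \ T).card by omega)
    obtain ⟨hxs, hxT⟩ := Finset.mem_sdiff.mp hx
    obtain ⟨hgxs, hgxT⟩ := Finset.mem_sdiff.mp (hR x hx)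
    have hgx : g x ≠ x := mem_support.mp hxs
    set T' := T.erase z with hT'
    have hT's : T' ⊆ T := Finset.erase_subset _ _
    have hT'c : T'.card + 2 = k := by rw [hT', Finset.card_erase_of_mem hz]; omega
    obtain ⟨h, hhG, hh⟩ := exists_agree hkn hG (insert x (insert (g x) T'))
      (by
        have := Finset.card_insert_le x (insert (g x) T')
        have := Finset.card_insert_le (g x) T'
        omega) (Equiv.swap x z * Equiv.swap (g x) z)
    have hfix : ∀ t ∈ T', h t = t := fun t ht => by
      have htz : t ≠ z := (Finset.mem_erase.mp ht).1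
      have htT : t ∈ T := hT's ht
      rw [hh t (Finset.mem_insert_of_mem (Finset.mem_insert_of_mem ht)), Perm.mul_apply,
        Equiv.swap_apply_of_ne_of_ne (fun e : t = g x => hgxT (e ▸ htT)) htz,
        Equiv.swap_apply_of_ne_of_ne (fun e : t = x => hxT (e ▸ htT)) htz]
    have hzx : z ≠ x := fun e => hxT (e ▸ hz)
    have hhx : h x = z := by
      rw [hh x (Finset.mem_insert_self _ _), Perm.mul_apply,
        Equiv.swap_apply_of_ne_of_ne hgx.symm hzx.symm, Equiv.swap_apply_left]
    have hhgx : h (g x) = x := by
      rw [hh (g x) (Finset.mem_insert_of_mem (Finset.mem_insert_self _ _)), Perm.mul_apply,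
        Equiv.swap_apply_left, Equiv.swap_apply_right]
    have hg'z : (h * g * h⁻¹) z = x := by
      rw [Perm.mul_apply, Perm.mul_apply, Perm.inv_eq_iff_eq.mpr hhx.symm, hhgx]
    have hne : h * g * h⁻¹ ≠ g := fun e => hxT (by
      rw [← hg'z, e]; exact hex z hz)
    have hx' : x ∈ (h * g * h⁻¹).support :=
      mem_support.mpr fun e => hzx ((h * g * h⁻¹).injective (hg'z.trans e.symm))
    have hz' : z ∈ (h * g * h⁻¹).support := mem_support.mpr fun e => hzx (e.symm.trans hg'z)
    -- `z` and `x` are two extra common moved points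
    have hsub : inner T' ⊆ inner T := fun t ht => by
      obtain ⟨h1, h2⟩ := Finset.mem_filter.mp ht
      exact Finset.mem_filter.mpr ⟨hT's h1, hT's h2⟩
    have hIc : k ≤ (inner T').card + 3 := by
      have h : T.erase (g⁻¹ z) ∩ T' ⊆ inner T' := fun t ht => by
        obtain ⟨h1, h2⟩ := Finset.mem_inter.mp ht
        obtain ⟨h1, h1'⟩ := Finset.mem_erase.mp h1
        refine Finset.mem_filter.mpr ⟨h2, Finset.mem_erase.mpr ⟨fun e => h1 ?_, hex t h1'⟩⟩
        rw [← e, Perm.inv_eq_iff_eq.mpr rfl]
      have h1 := Finset.card_le_card h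
      have h2 : T' ⊆ insert (g⁻¹ z) (T.erase (g⁻¹ z) ∩ T') := fun t ht => by
        by_cases e : t = g⁻¹ z
        · exact Finset.mem_insert.mpr (Or.inl e)
        · exact Finset.mem_insert_of_mem (Finset.mem_inter.mpr
            ⟨Finset.mem_erase.mpr ⟨e, hT's ht⟩, ht⟩)
      have h3 := (Finset.card_le_card h2).trans (Finset.card_insert_le _ _)
      omega
    have hgsup : ∀ t ∈ insert x (insert z T'), t ∈ g.support ∩ (h * g * h⁻¹).support := by
      intro t ht
      rcases Finset.mem_insert.mp ht with rfl | ht
      · exact Finset.mem_inter.mpr ⟨hxs, hx'⟩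
      rcases Finset.mem_insert.mp ht with rfl | ht
      · exact Finset.mem_inter.mpr ⟨hT hz, hz'⟩
      refine Finset.mem_inter.mpr ⟨hT (hT's ht), mem_support.mpr fun e => ?_⟩
      rw [Perm.mul_apply, Perm.mul_apply, Perm.inv_eq_iff_eq.mpr (hfix t ht).symm] at e
      exact mem_support.mp (hT (hT's ht)) (h.injective (e.trans (hfix t ht).symm))
    have hI' : inner T' ⊆ g.support ∪ (h * g * h⁻¹).support := fun t ht =>
      Finset.mem_union_left _ (hT (hT's (Finset.mem_filter.mp ht).1))
    have hsd : (g⁻¹ * (h * g * h⁻¹)).support ⊆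
        (g.support ∪ (h * g * h⁻¹).support) \ inner T' := by
      intro t ht
      rw [Finset.mem_sdiff, Finset.mem_union]
      constructor
      · by_contra ht'
        rw [not_or, notMem_support, notMem_support] at ht'
        apply mem_support.mp ht
        rw [Perm.mul_apply, ht'.2, Perm.inv_eq_iff_eq, ht'.1]
      · intro htI
        obtain ⟨h1, h2⟩ := Finset.mem_filter.mp htI
        apply mem_support.mp ht
        rw [Perm.mul_apply, Perm.mul_apply, Perm.mul_apply, Perm.inv_eq_iff_eq.mpr (hfix t h1).symm,
          hfix _ h2, Perm.inv_eq_iff_eq]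
    have h1 := (hmin _ (G.mul_mem (G.inv_mem hg) (G.mul_mem (G.mul_mem hhG hg) (G.inv_mem hhG)))
      (fun e => hne (inv_mul_eq_one.mp e).symm)).trans (Finset.card_le_card hsd)
    rw [Finset.card_sdiff_of_subset hI'] at h1
    have h2 := Finset.card_union_add_card_inter g.support (h * g * h⁻¹).support
    have h3 : (h * g * h⁻¹).support.card = g.support.card := card_support_conj
    have h4 := Finset.card_le_card hgsup
    rw [Finset.card_insert_of_notMem (by
        simp only [Finset.mem_insert, not_or]
        exact ⟨hzx.symm, fun h => hxT (hT's h)⟩),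
      Finset.card_insert_of_notMem (fun h => (Finset.mem_erase.mp h).1 rfl)] at h4
    have h5 := Finset.card_le_card hI'
    have h6 : T'.card = (T.erase z).card := by rw [hT']
    omega

/-- A `k`-transitive permutation group (`k ≥ 3`) with a non-identity element of support smaller than `2k - 2` contains a non-identity element of support at most 3, and therefore contains the alternating group. -/
theorem result {α : Type*} [Fintype α] [DecidableEq α] (G : Subgroup (Equiv.Perm α)) {k : ℕ} (hk : 3 ≤ k) (hkn : k ≤ Fintype.card α) (hG : MulAction.IsMultiplyPretransitive G α k) (g : Equiv.Perm α) (hg : g ∈ G) (hg1 : g ≠ 1) (hsupp : g.support.card < 2 * k - 2) : (∃ h : Equiv.Perm α, h ∈ G ∧ h ≠ 1 ∧ h.support.card ≤ 3) ∧ alternatingGroup α ≤ G := by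
  classical
  obtain ⟨h, hh, hmin⟩ := Finset.exists_min_image
    (Finset.univ.filter fun c : Equiv.Perm α => c ∈ G ∧ c ≠ 1) (fun c => c.support.card)
    ⟨g, by simp [hg, hg1]⟩
  simp only [Finset.mem_filter, Finset.mem_univ, true_and] at hh hmin
  have h3 := card_support_le_three hk hkn hG hh.1 hh.2
    (lt_of_le_of_lt (hmin g ⟨hg, hg1⟩) hsupp) fun c h1 h2 => hmin c ⟨h1, h2⟩
  refine ⟨⟨h, hh.1, hh.2, h3⟩, ?_⟩
  have h2 : IsMultiplyPretransitive G α 2 :=
    isMultiplyPretransitive_of_le (n := k) (by omega) (by rwa [Nat.card_eq_fintype_card])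
  have hpre := isPreprimitive_of_is_two_pretransitive h2
  have h1 := card_support_ne_one h
  have h0 : h.support.card ≠ 0 := fun e => hh.2 (support_eq_empty_iff.mp (Finset.card_eq_zero.mp e))
  rcases (show h.support.card = 2 ∨ h.support.card = 3 by omega) with h4 | h4
  · rw [subgroup_eq_top_of_isPreprimitive_of_isSwap_mem hpre h (card_support_eq_two.mp h4) hh.1]
    exact le_top
  · exact alternatingGroup_le_of_isPreprimitive_of_isThreeCycle_mem hpre
      (card_support_eq_three_iff.mp h4) hh.1

end Cfsg.Agent.S0711
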