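import Cfsg.Statements.S0714
import Cfsg.Agent.EqLemmas

set_option autoImplicit false
open Cfsg

namespace Cfsg.Agent.S0714

open Equiv

variable {α : Type*} [Fintype α] [DecidableEq α]

lemma exists_even_map (hα : 5 ≤ Fintype.card α) (a b c a' b' c' : α) (hab : a ≠ b) (hac : a ≠ c)
    (hbc : b ≠ c) (hab' : a' ≠ b') (hac' : a' ≠ c') (hbc' : b' ≠ c') :
    ∃ g : alternatingGroup α, g • a = a' ∧ g • b = b' ∧ g • c = c' := by
  let σ₁ : Perm α := swap a a'
  have h1b : σ₁ b ≠ a' := fun h => hab (σ₁.injective ((swap_apply_left a a').trans h.symm))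
  let σ₂ : Perm α := swap (σ₁ b) b' * σ₁
  have h2a : σ₂ a = a' := by
    simp only [σ₂, σ₁, Perm.mul_apply, swap_apply_left]
    exact swap_apply_of_ne_of_ne h1b.symm hab'
  have h2b : σ₂ b = b' := by simp [σ₂, Perm.mul_apply]
  have h2ca : σ₂ c ≠ a' := fun h => hac (σ₂.injective (h2a.trans h.symm))
  have h2cb : σ₂ c ≠ b' := fun h => hbc (σ₂.injective (h2b.trans h.symm))
  let σ : Perm α := swap (σ₂ c) c' * σ₂
  have ha : σ a = a' := by
    simp only [σ, Perm.mul_apply, h2a]; exact swap_apply_of_ne_of_ne h2ca.symm hac'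
  have hb : σ b = b' := by
    simp only [σ, Perm.mul_apply, h2b]; exact swap_apply_of_ne_of_ne h2cb.symm hbc'
  have hc : σ c = c' := by simp [σ, Perm.mul_apply]
  have hcard : 1 < (Finset.univ \ ({a', b', c'} : Finset α)).card := by
    have : ({a', b', c'} : Finset α).card ≤ 3 := Finset.card_le_three
    have := Finset.le_card_sdiff ({a', b', c'} : Finset α) Finset.univ
    rw [Finset.card_univ] at this
    omega
  obtain ⟨x, hx, y, hy, hxy⟩ := Finset.one_lt_card.1 hcard
  simp only [Finset.mem_sdiff, Finset.mem_univ, true_and, Finset.mem_insert,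
    Finset.mem_singleton, not_or] at hx hy
  rcases Int.units_eq_one_or (Perm.sign σ) with h | h
  · exact ⟨⟨σ, Perm.mem_alternatingGroup.2 h⟩, ha, hb, hc⟩
  · refine ⟨⟨swap x y * σ, Perm.mem_alternatingGroup.2 (by simp [h, Perm.sign_swap hxy])⟩, ?_, ?_, ?_⟩
    · change swap x y (σ a) = a'
      rw [ha, swap_apply_of_ne_of_ne (Ne.symm hx.1) (Ne.symm hy.1)]
    · change swap x y (σ b) = b'
      rw [hb, swap_apply_of_ne_of_ne (Ne.symm hx.2.1) (Ne.symm hy.2.1)]
    · change swap x y (σ c) = c'
      rw [hc, swap_apply_of_ne_of_ne (Ne.symm hx.2.2) (Ne.symm hy.2.2)]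

variable {K : Type*} [Field K]

lemma permRep_single (g : alternatingGroup α) (a : α) (r : K) :
    Cfsg.permRep K (alternatingGroup α) α g (Pi.single a r : α → K) = Pi.single (g • a) r := by
  funext x
  change (Pi.single a r : α → K) (g⁻¹ • x) = _
  simp only [Pi.single_apply, inv_smul_eq_iff]

lemma sub_single_mem (hα : 5 ≤ Fintype.card α)
    (W : Subrepresentation (Cfsg.permRep K (alternatingGroup α) α)) {w : α → K}
    (hw : w ∈ W.toSubmodule) {i j : α} (hij : w i ≠ w j) (d e : α) (hde : d ≠ e) :
    Pi.single d (1 : K) - Pi.single e 1 ∈ W.toSubmodule := by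
  have hne : i ≠ j := fun h => hij (congrArg w h)
  obtain ⟨k, hk, l, hl, hkl⟩ : ∃ k ∈ ((Finset.univ.erase i).erase j : Finset α),
      ∃ l ∈ ((Finset.univ.erase i).erase j : Finset α), k ≠ l := by
    apply Finset.one_lt_card.1
    rw [Finset.card_erase_of_mem (by simp [hne.symm]), Finset.card_erase_of_mem (by simp), Finset.card_univ]
    omega
  simp only [Finset.mem_erase, Finset.mem_univ, and_true] at hk hl
  obtain ⟨m, hm⟩ : ∃ m, m ∈ (Finset.univ \ ({i, j, k, l} : Finset α)) := by
    apply Finset.card_pos.1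
    have : ({i, j, k, l} : Finset α).card ≤ 4 := Finset.card_le_four
    have := Finset.le_card_sdiff ({i, j, k, l} : Finset α) Finset.univ
    rw [Finset.card_univ] at this
    omega
  simp only [Finset.mem_sdiff, Finset.mem_univ, true_and, Finset.mem_insert,
    Finset.mem_singleton, not_or] at hm
  let g : alternatingGroup α := ⟨swap i j * swap k l, Perm.mem_alternatingGroup.2 (by simp [Perm.sign_swap hne, Perm.sign_swap hkl])⟩
  let t : alternatingGroup α := ⟨swap i j * swap j m, Perm.mem_alternatingGroup.2 (by simp [Perm.sign_swap hne, Perm.sign_swap (Ne.symm hm.2.1)])⟩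
  set v := Cfsg.permRep K (alternatingGroup α) α g w - w with hv
  have hvW : v ∈ W.toSubmodule := W.toSubmodule.sub_mem (W.apply_mem_toSubmodule g hw) hw
  have hveq : v = (w j - w i) • (Pi.single i 1 - Pi.single j 1) +
      (w l - w k) • (Pi.single k 1 - Pi.single l 1) := by
    funext x
    change w ((swap i j * swap k l)⁻¹ x) - w x = _
    rw [mul_inv_rev, swap_inv, swap_inv, Perm.mul_apply]
    simp only [Pi.add_apply, Pi.smul_apply, Pi.sub_apply, Pi.single_apply, smul_eq_mul]
    by_cases hxi : x = i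
    · subst hxi; simp [swap_apply_of_ne_of_ne, hne, hne.symm, hk.1, hk.2, hl.1, hl.2, Ne.symm hk.1, Ne.symm hk.2, Ne.symm hl.1, Ne.symm hl.2]
    by_cases hxj : x = j
    · subst hxj; simp [swap_apply_of_ne_of_ne, hne, hne.symm, hk.1, hk.2, hl.1, hl.2, Ne.symm hk.1, Ne.symm hk.2, Ne.symm hl.1, Ne.symm hl.2]
    by_cases hxk : x = k
    · subst hxk; simp [swap_apply_of_ne_of_ne, hxi, hxj, hkl, hkl.symm]
    by_cases hxl : x = l
    · subst hxl; simp [swap_apply_of_ne_of_ne, hxi, hxj, hkl, hkl.symm]
    simp [swap_apply_of_ne_of_ne, hxi, hxj, hxk, hxl]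
  set u : α → α → α → (α → K) := fun a b c => (2 : K) • Pi.single a 1 - Pi.single b 1 - Pi.single c 1 with hu
  have huW : u j i m ∈ W.toSubmodule := by
    have hd : w j - w i ≠ 0 := sub_ne_zero.2 (Ne.symm hij)
    have h1 : Cfsg.permRep K (alternatingGroup α) α t v - v = (w j - w i) • u j i m := by
      have ti : t • i = j := by
        change (swap i j * swap j m) i = j
        simp [Perm.mul_apply, swap_apply_of_ne_of_ne hne (Ne.symm hm.1)]
      have tj : t • j = m := by
        change (swap i j * swap j m) j = m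
        simp [Perm.mul_apply, swap_apply_of_ne_of_ne hm.1 hm.2.1]
      have tk : t • k = k := by
        change (swap i j * swap j m) k = k
        simp [Perm.mul_apply, swap_apply_of_ne_of_ne hk.1 (Ne.symm hm.2.2.1),
          swap_apply_of_ne_of_ne hk.2 hk.1]
      have tl : t • l = l := by
        change (swap i j * swap j m) l = l
        simp [Perm.mul_apply, swap_apply_of_ne_of_ne hl.1 (Ne.symm hm.2.2.2),
          swap_apply_of_ne_of_ne hl.2 hl.1]
      rw [hveq]
      simp only [map_add, map_smul, map_sub, permRep_single, ti, tj, tk, tl, hu]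
      module
    have := W.toSubmodule.sub_mem (W.apply_mem_toSubmodule t hvW) hvW
    rw [h1] at this
    simpa [smul_smul, inv_mul_cancel₀ hd] using W.toSubmodule.smul_mem (w j - w i)⁻¹ this
  have hall : ∀ a b c : α, a ≠ b → a ≠ c → b ≠ c → u a b c ∈ W.toSubmodule := by
    intro a b c hab hac hbc
    obtain ⟨g, ga, gb, gc⟩ := exists_even_map hα j i m a b c hne.symm (Ne.symm hm.2.1) (Ne.symm hm.1) hab hac hbc
    have := W.apply_mem_toSubmodule g huW
    simpa [hu, map_sub, map_smul, permRep_single, ga, gb, gc] using this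
  obtain ⟨a, ha, b, hb, hab⟩ : ∃ a ∈ ((Finset.univ.erase d).erase e : Finset α),
      ∃ b ∈ ((Finset.univ.erase d).erase e : Finset α), a ≠ b := by
    apply Finset.one_lt_card.1
    rw [Finset.card_erase_of_mem (by simp [hde.symm]), Finset.card_erase_of_mem (by simp), Finset.card_univ]
    omega
  simp only [Finset.mem_erase, Finset.mem_univ, and_true] at ha hb
  have := W.toSubmodule.sub_mem (hall a b e hab ha.1 hb.1) (hall a b d hab ha.2 hb.2)
  convert this using 1
  simp only [hu]; module

/-- Over any field, the permutation module of the alternating group of degree at least 5 has exactly four invariant subspaces: zero, the constant functions, the functions with coordinate sum zero, and everything. -/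
theorem result {α : Type*} [Fintype α] [DecidableEq α] (hα : 5 ≤ Fintype.card α) {K : Type*} [Field K] (W : Subrepresentation (Cfsg.permRep K (alternatingGroup α) α)) : W.toSubmodule = ⊥ ∨ W = Cfsg.permConstants K (alternatingGroup α) α ∨ W = Cfsg.permSumZero K (alternatingGroup α) α ∨ W.toSubmodule = ⊤ := by
  classical
  by_cases hconst : ∀ w ∈ W.toSubmodule, ∀ i j, w i = w j
  · by_cases h0 : W.toSubmodule = ⊥
    · exact Or.inl h0
    refine Or.inr (Or.inl (Subrepresentation.toSubmodule_injective ?_))
    change W.toSubmodule = Submodule.span K {fun _ => (1 : K)}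
    obtain ⟨w, hw, hw0⟩ := W.toSubmodule.ne_bot_iff.1 h0
    obtain ⟨i, hi⟩ := Function.ne_iff.1 hw0
    refine le_antisymm (fun x hx => ?_) (Submodule.span_le.2 ?_)
    · exact Submodule.mem_span_singleton.2 ⟨x i, funext fun y => by simp [hconst x hx i y]⟩
    · rintro _ rfl
      have : (fun _ => (1 : K)) = (w i)⁻¹ • w := funext fun y => by
        simp only [Pi.smul_apply, smul_eq_mul, hconst w hw y i]
        exact (inv_mul_cancel₀ hi).symm
      rw [this]
      exact W.toSubmodule.smul_mem _ hw
  push_neg at hconst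
  obtain ⟨w, hw, i, j, hij⟩ := hconst
  have hdiff : ∀ d : α, Pi.single d (1 : K) - Pi.single i 1 ∈ W.toSubmodule := fun d => by
    by_cases h : d = i
    · simp [h]
    · exact sub_single_mem hα W hw hij d i h
  have hsum : ∀ f : α → K, ∑ x, f x = 0 → f ∈ W.toSubmodule := fun f hf => by
    have : f = ∑ x, f x • (Pi.single x (1 : K) - Pi.single i 1) := by
      simp only [smul_sub, Finset.sum_sub_distrib, ← Finset.sum_smul, hf, zero_smul, sub_zero]
      exact pi_eq_sum_univ' f
    rw [this]
    exact Submodule.sum_mem _ fun x _ => W.toSubmodule.smul_mem _ (hdiff x)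
  by_cases hW : ∀ f ∈ W.toSubmodule, ∑ x, f x = 0
  · exact Or.inr (Or.inr (Or.inl (Subrepresentation.toSubmodule_injective
      (le_antisymm (fun f hf => hW f hf) (fun f hf => hsum f hf)))))
  push_neg at hW
  obtain ⟨f, hf, hs⟩ := hW
  refine Or.inr (Or.inr (Or.inr (Submodule.eq_top_iff'.2 fun v => ?_)))
  have h := hsum (v - ((∑ x, v x) / ∑ x, f x) • f) (by
    simp [Finset.sum_sub_distrib, ← Finset.mul_sum, div_mul_cancel₀ _ hs])
  simpa using W.toSubmodule.add_mem h (W.toSubmodule.smul_mem ((∑ x, v x) / ∑ x, f x) hf)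

end Cfsg.Agent.S0714
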