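import Cfsg.Statements.S0716
import Cfsg.Agent.Lib.Perm.Subdegrees

set_option autoImplicit false
open Cfsg

namespace Cfsg.Agent.S0716

/-- (a) If all non-principal irreducible constituents of the permutation character of a transitive group have the same degree `f`, the character is multiplicity-free and all non-trivial subdegrees equal `f`. (b) A transitive group of rank at most 5 has multiplicity-free permutation character. -/
theorem result {G : Type*} [Group G] [Fintype G] {Ω : Type*} [Fintype Ω] [MulAction G Ω] [MulAction.IsPretransitive G Ω] (a : Ω) : ((f : ℕ) → (∀ χ : G → ℂ, Cfsg.IsIrrCharacter G χ → χ ≠ (fun _ => 1) → Cfsg.classInner (fun g : G => (Nat.card (MulAction.fixedBy Ω g) : ℂ)) χ ≠ 0 → χ 1 = f) → (∀ χ : G → ℂ, Cfsg.IsIrrCharacter G χ → Cfsg.classInner (fun g : G => (Nat.card (MulAction.fixedBy Ω g) : ℂ)) χ = 0 ∨ Cfsg.classInner (fun g : G => (Nat.card (MulAction.fixedBy Ω g) : ℂ)) χ = 1) ∧ ∀ b : Ω, b ≠ a → Nat.card (MulAction.orbit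 (MulAction.stabilizer G a) b) = f) ∧ (Nat.card (MulAction.orbitRel.Quotient (MulAction.stabilizer G a) Ω) ≤ 5 → ∀ χ : G → ℂ, Cfsg.IsIrrCharacter G χ → Cfsg.classInner (fun g : G => (Nat.card (MulAction.fixedBy Ω g) : ℂ)) χ = 0 ∨ Cfsg.classInner (fun g : G => (Nat.card (MulAction.fixedBy Ω g) : ℂ)) χ = 1) := by
  classical
  have key : ∀ χ : G → ℂ, Cfsg.IsIrrCharacter G χ → Perm.Orbital.mult G Ω χ ≤ 1 →
      Cfsg.classInner (fun g : G => (Nat.card (MulAction.fixedBy Ω g) : ℂ)) χ = 0 ∨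
        Cfsg.classInner (fun g : G => (Nat.card (MulAction.fixedBy Ω g) : ℂ)) χ = 1 := by
    intro χ hχ hm
    change Cfsg.classInner (Perm.Orbital.pi G Ω) χ = 0 ∨ Cfsg.classInner (Perm.Orbital.pi G Ω) χ = 1
    rw [Perm.Orbital.classInner_pi (Char.IsIrrCharacter.isCharacter hχ)]
    rcases (show Perm.Orbital.mult G Ω χ = 0 ∨ Perm.Orbital.mult G Ω χ = 1 by omega) with e | e <;>
      simp [e]
  refine ⟨fun f hf => ?_, fun hr χ hχ => key χ hχ (Perm.Orbital.multFree_of_rank_le_five a hr χ hχ)⟩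
  obtain ⟨h1, h2⟩ := Perm.Orbital.multFree_of_equal_degree a f hf
  exact ⟨fun χ hχ => key χ hχ (h1 χ hχ), h2⟩

end Cfsg.Agent.S0716
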