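import Cfsg.Statements.S0717
import Cfsg.Agent.Lib.Perm.Subdegrees

set_option autoImplicit false
open Cfsg

namespace Cfsg.Agent.S0717

/-- All suborbits of a transitive group are self-paired (every pair of points is interchanged by some group element) if and only if the permutation character is multiplicity-free and each of its irreducible constituents is real-valued. -/
theorem result {G : Type*} [Group G] [Fintype G] {Ω : Type*} [Fintype Ω] [MulAction G Ω] [MulAction.IsPretransitive G Ω] : (∀ a b : Ω, ∃ g : G, g • a = b ∧ g • b = a) ↔ ∀ χ : G → ℂ, Cfsg.IsIrrCharacter G χ → Cfsg.classInner (fun g : G => (Nat.card (MulAction.fixedBy Ω g) : ℂ)) χ ≠ 0 → Cfsg.classInner (fun g : G => (Nat.card (MulAction.fixedBy Ω g) : ℂ)) χ = 1 ∧ ∀ g : G, (starRingEnd ℂ) (χ g) = χ g := by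
  classical
  change _ ↔ ∀ χ : G → ℂ, Cfsg.IsIrrCharacter G χ →
    Cfsg.classInner (Perm.Orbital.pi G Ω) χ ≠ 0 →
      Cfsg.classInner (Perm.Orbital.pi G Ω) χ = 1 ∧ ∀ g : G, (starRingEnd ℂ) (χ g) = χ g
  have := Fintype.ofFinite (Cfsg.IrrCharacter G)
  constructor
  · intro h χ hχ h0
    constructor
    · have hm := Perm.Orbital.mult_le_one_of_comm (Ω := Ω)
        (fun S hS T hT => Perm.Orbital.comm_of_selfPaired h hS hT) hχ
      rw [Perm.Orbital.classInner_pi (Char.IsIrrCharacter.isCharacter hχ)] at h0 ⊢
      rw [Nat.cast_ne_zero] at h0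
      rw [Nat.cast_eq_one]
      omega
    · have hsym : (Perm.Orbital.mat (Perm.Orbital.idem (Ω := Ω) χ)).transpose =
          Perm.Orbital.mat (Perm.Orbital.idem (Ω := Ω) χ) := by
        ext x y
        obtain ⟨g, h1, h2⟩ := h x y
        have := Perm.Orbital.mem_cAlg_iff.mp (Perm.Orbital.idem_mem (Ω := Ω) hχ) g x y
        rwa [h1, h2] at this
      rw [Perm.Orbital.idem_transpose hχ] at hsym
      have he := LinearMap.toMatrix'.injective hsym
      by_contra hreal
      have hne : (fun g => (starRingEnd ℂ) (χ g)) ≠ χ := fun e => hreal fun g => congrFun e g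
      have h1 := Perm.Orbital.idem_mul (Ω := Ω) (Char.IsIrrCharacter.conj hχ) hχ
      rw [if_neg hne, he, Perm.Orbital.idem_mul hχ hχ, if_pos rfl] at h1
      exact h0 ((Perm.Orbital.idem_eq_zero_iff hχ).mp h1)
  · intro h a b
    have hm : ∀ χ : Cfsg.IrrCharacter G, Perm.Orbital.mult G Ω (χ : G → ℂ) ≤ 1 := by
      intro χ
      by_contra hlt
      have h1 := h χ χ.2
      rw [Perm.Orbital.classInner_pi (Char.IsIrrCharacter.isCharacter χ.2)] at h1
      have h2 := (h1 (Nat.cast_ne_zero.2 (by omega))).1
      rw [Nat.cast_eq_one] at h2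
      omega
    have hA := Perm.Orbital.orbMat_mem (G := G) a b
    have hsym : ∀ T ∈ Perm.Orbital.cAlg G Ω,
        (Perm.Orbital.mat T).transpose = Perm.Orbital.mat T := by
      intro T hT
      rw [← Perm.Orbital.span_idem_eq hm] at hT
      refine Submodule.span_induction ?_ (by simp [Perm.Orbital.mat])
        (fun u v _ _ hu hv => by
          simp only [Perm.Orbital.mat, map_add, Matrix.transpose_add] at hu hv ⊢
          rw [hu, hv])
        (fun c u _ hu => by
          simp only [Perm.Orbital.mat, map_smul, Matrix.transpose_smul] at hu ⊢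
          rw [hu]) hT
      rintro _ ⟨χ, rfl⟩
      beta_reduce
      rw [Perm.Orbital.idem_transpose χ.2]
      by_cases h0 : Cfsg.classInner (Perm.Orbital.pi G Ω) (χ : G → ℂ) = 0
      · have h0' : Cfsg.classInner (Perm.Orbital.pi G Ω)
            (fun g => (starRingEnd ℂ) ((χ : G → ℂ) g)) = 0 := by
          have e := congrArg (starRingEnd ℂ) h0
          rw [map_zero, Cfsg.classInner, map_mul, map_sum] at e
          rw [← e, Cfsg.classInner]
          simp [Perm.Orbital.pi]
        rw [(Perm.Orbital.idem_eq_zero_iff χ.2).mpr h0,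
          (Perm.Orbital.idem_eq_zero_iff (Char.IsIrrCharacter.conj χ.2)).mpr h0']
      · rw [funext (h χ χ.2 h0).2]
    have := congrArg (fun M : Matrix Ω Ω ℂ => M a b) (hsym _ hA)
    simp only [Perm.Orbital.mat, LinearMap.toMatrix'_toLin', Matrix.transpose_apply, Matrix.map_apply,
      Int.cast_inj] at this
    unfold Perm.Orbital.orbMat at this
    rw [if_pos (MulAction.mem_orbit_self (a, b))] at this
    have hmem : (b, a) ∈ MulAction.orbit G (a, b) := by
      by_contra hcon
      rw [if_neg hcon] at this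
      exact zero_ne_one this
    obtain ⟨g, hg⟩ := hmem
    exact ⟨g, congrArg Prod.fst hg, congrArg Prod.snd hg⟩

end Cfsg.Agent.S0717
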