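import Cfsg.Statements.S0718
import Cfsg.Agent.Lib.Perm.Subdegrees

set_option autoImplicit false
open Cfsg

namespace Cfsg.Agent.S0718

/-- Multiplicity-freeness of the permutation character is equivalent to commutativity of the centraliser ring, i.e. of the algebra of `G`-equivariant endomorphisms of the complex permutation module. -/
theorem result {G : Type*} [Group G] [Fintype G] {Ω : Type*} [Fintype Ω] [MulAction G Ω] : (∀ χ : G → ℂ, Cfsg.IsIrrCharacter G χ → Cfsg.classInner (fun g : G => (Nat.card (MulAction.fixedBy Ω g) : ℂ)) χ = 0 ∨ Cfsg.classInner (fun g : G => (Nat.card (MulAction.fixedBy Ω g) : ℂ)) χ = 1) ↔ ∀ S T : (Ω → ℂ) →ₗ[ℂ] (Ω → ℂ), S ∈ ((Cfsg.permRep ℂ G Ω).linHom (Cfsg.permRep ℂ G Ω)).invariants → T ∈ ((Cfsg.permRep ℂ G Ω).linHom (Cfsg.permRep ℂ G Ω)).invariants → S ∘ₗ T = T ∘ₗ S := by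
  classical
  constructor
  · intro h S T hS hT
    rw [Perm.Orbital.mem_invariants_iff] at hS hT
    refine Perm.Orbital.comm_of_mult_le_one (fun χ => ?_) hS hT
    rcases h χ χ.2 with e | e <;>
      change Cfsg.classInner (Perm.Orbital.pi G Ω) _ = _ at e <;>
      rw [Perm.Orbital.classInner_pi (Char.IsIrrCharacter.isCharacter χ.2)] at e
    · rw [Nat.cast_eq_zero] at e; omega
    · rw [Nat.cast_eq_one] at e; omega
  · intro h χ hχ
    have hm := Perm.Orbital.mult_le_one_of_comm (Ω := Ω) (fun S hS T hT =>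
      h S T (Perm.Orbital.mem_invariants_iff.mpr hS) (Perm.Orbital.mem_invariants_iff.mpr hT)) hχ
    change Cfsg.classInner (Perm.Orbital.pi G Ω) χ = 0 ∨ Cfsg.classInner (Perm.Orbital.pi G Ω) χ = 1
    rw [Perm.Orbital.classInner_pi (Char.IsIrrCharacter.isCharacter hχ)]
    rcases (show Perm.Orbital.mult G Ω χ = 0 ∨ Perm.Orbital.mult G Ω χ = 1 by omega) with e | e <;>
      simp [e]

end Cfsg.Agent.S0718
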