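import Cfsg.Statements.S0720
import Cfsg.Agent.Lib.Perm.TwiceP.Main
import Mathlib.GroupTheory.SpecificGroups.Alternating.MaximalSubgroups
import Mathlib.GroupTheory.Nilpotent

set_option autoImplicit false
open Cfsg

namespace Cfsg.Agent.S0720

open MulAction

/-- A primitive group of degree four is doubly transitive. -/
theorem two_trans_degree_four {α : Type*} [Fintype α] [DecidableEq α] (hα : Fintype.card α = 4)
    (G : Subgroup (Equiv.Perm α)) (hG : IsPreprimitive G α) :
    IsMultiplyPretransitive G α 2 := by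
  have : Fact (Nat.Prime 2) := ⟨Nat.prime_two⟩
  have : Fact (Nat.Prime 3) := ⟨Nat.prime_three⟩
  have : Nonempty α := Fintype.card_pos_iff.mp (by omega)
  have : Nontrivial α := Fintype.one_lt_card_iff_nontrivial.mp (by omega)
  have h3 : 3 ∣ Nat.card G := by
    by_contra h3
    obtain ⟨a⟩ := ‹Nonempty α›
    have hd : Nat.card G ∣ 8 := by
      have h := Subgroup.card_subgroup_dvd_card G
      rw [Nat.card_perm, show Nat.card α = 4 by rw [Nat.card_eq_fintype_card, hα]] at h
      refine Nat.Coprime.dvd_of_dvd_mul_right ?_ (show Nat.card G ∣ 8 * 3 from h)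
      exact (Nat.prime_three.coprime_iff_not_dvd.mpr h3).symm
    obtain ⟨k, -, hk⟩ := (Nat.dvd_prime_pow Nat.prime_two).mp (show Nat.card G ∣ 2 ^ 3 from hd)
    have := (IsPGroup.of_card hk : IsPGroup 2 G).isNilpotent
    have hco := IsPreprimitive.isCoatom_stabilizer_of_isPreprimitive (G := G) a
    have hn : (stabilizer G a).Normal :=
      Subgroup.NormalizerCondition.normal_of_coatom _ normalizerCondition_of_isNilpotent hco
    have hbot : stabilizer G a = ⊥ := by
      rw [Subgroup.eq_bot_iff_forall]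
      intro g hg
      refine Subtype.ext (Equiv.ext fun x => ?_)
      obtain ⟨h, rfl⟩ := exists_smul_eq G a x
      have := hn.conj_mem g hg h⁻¹
      rw [inv_inv, mem_stabilizer_iff, mul_smul, mul_smul, inv_smul_eq_iff] at this
      exact this
    have hcard : Nat.card G = 4 := by
      rw [← (stabilizer G a).index_mul_card, hbot, Subgroup.card_bot, mul_one, ← hbot,
        index_stabilizer_of_transitive, Nat.card_eq_fintype_card, hα]
    obtain ⟨g, hg⟩ := exists_prime_orderOf_dvd_card' 2 (G := G) (hcard ▸ by norm_num)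
    have htop : Subgroup.zpowers g = ⊤ := hco.2 _ (by
      rw [hbot, bot_lt_iff_ne_bot, Ne, Subgroup.zpowers_eq_bot]
      intro e
      rw [e, orderOf_one] at hg
      omega)
    have := congrArg (fun H : Subgroup G => Nat.card H) htop
    rw [Nat.card_zpowers, hg, Subgroup.card_top, hcard] at this
    omega
  obtain ⟨g, hg⟩ := exists_prime_orderOf_dvd_card' 3 h3
  have hg' : orderOf (g : Equiv.Perm α) = 3 := by rw [Subgroup.orderOf_coe, hg]
  obtain ⟨n, hn⟩ := Equiv.Perm.cycleType_prime_order (σ := (g : Equiv.Perm α))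
    (hg' ▸ Nat.prime_three)
  have h3g : (g : Equiv.Perm α).IsThreeCycle := by
    rw [← card_support_eq_three_iff, ← Equiv.Perm.sum_cycleType, hn, Multiset.sum_replicate, hg']
    have h := Finset.card_le_univ (g : Equiv.Perm α).support
    rw [← Equiv.Perm.sum_cycleType, hn, Multiset.sum_replicate, hg', hα, smul_eq_mul] at h
    rw [smul_eq_mul]
    omega
  have hle := Equiv.Perm.alternatingGroup_le_of_isPreprimitive_of_isThreeCycle_mem hG h3g g.2
  have h2 : IsMultiplyPretransitive (alternatingGroup α) α 2 := by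
    have := alternatingGroup.isMultiplyPretransitive α
    rwa [Nat.card_eq_fintype_card, hα] at this
  rw [is_two_pretransitive_iff] at h2 ⊢
  intro a b c d hab hcd
  obtain ⟨x, hx⟩ := h2 hab hcd
  exact ⟨⟨x, hle x.2⟩, hx⟩

/-- Wielandt's Theorem on primitive groups of degree `2p`: such a group is doubly transitive, or it has rank 3, `p = 2a² + 2a + 1`, and subdegrees `a(2a+1)` and `(a+1)(2a+1)`. -/
theorem result {α : Type*} [Fintype α] [DecidableEq α] {p : ℕ} (hp : p.Prime) (hα : Fintype.card α = 2 * p) (G : Subgroup (Equiv.Perm α)) (hG : MulAction.IsPreprimitive G α) (a₀ : α) : MulAction.IsMultiplyPretransitive G α 2 ∨ (Nat.card (MulAction.orbitRel.Quotient (MulAction.stabilizer G a₀) α) = 3 ∧ ∃ a : ℕ, 0 < a ∧ p = 2 * a ^ 2 + 2 * a + 1 ∧ ∀ b : α, b ≠ a₀ → Nat.card (MulAction.orbit (MulAction.stabilizer G a₀) b) = a * (2 * a + 1) ∨ Nat.card (MulAction.orbit (MulAction.stabilizer G a₀) b) = (a + 1) * (2 * a + 1)) := by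
  have : Fact p.Prime := ⟨hp⟩
  rcases hp.eq_two_or_odd' with rfl | hodd
  · exact Or.inl (two_trans_degree_four (by omega) G hG)
  by_cases h2 : MulAction.IsMultiplyPretransitive G α 2
  · exact Or.inl h2
  · have : Fintype G := Fintype.ofFinite G
    obtain ⟨D⟩ := Perm.TwiceP.exists_setup hodd (by rw [Nat.card_eq_fintype_card, hα]) hG h2
    exact Or.inr (D.wielandt a₀)

end Cfsg.Agent.S0720
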