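import Cfsg.Statements.S0723
import Cfsg.Agent.S0721
import Cfsg.Agent.S0722
import Cfsg.Agent.Lib.Perm.Regular
import Cfsg.Agent.Lib.Perm.ProductSubgroup

set_option autoImplicit false
open Cfsg

namespace Cfsg.Agent.S0723

/-- The core of the O'Nan–Scott Theorem. Let `H` be a primitive permutation group on a finite set whose unique minimal normal subgroup `N` is non-abelian, and `K` a point stabiliser. Then there are a non-abelian simple group `T` and an isomorphism `N ≃* T^m` (`m ≥ 1`) under which `K ⊓ N` becomes either a product `∏ K_i` of proper subgroups `K_i < T`, or the set of functions constant on each block of a partition of the index set into blocks of one common size `k ≥ 2`. -/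
theorem result {α : Type*} [Finite α] (H : Subgroup (Equiv.Perm α)) [MulAction.IsPreprimitive H α] (N : Subgroup H) [N.Normal] (hN : N ≠ ⊥) (hmin : ∀ M : Subgroup H, M.Normal → M ≤ N → M = ⊥ ∨ M = N) (huniq : ∀ L : Subgroup H, L.Normal → L ≠ ⊥ → (∀ M : Subgroup H, M.Normal → M ≤ L → M = ⊥ ∨ M = L) → L = N) (hnab : ¬ IsMulCommutative N) (a : α) : ∃ (T : Type) (_ : Group T) (m : ℕ) (e : N ≃* (Fin m → T)), IsSimpleGroup T ∧ ¬ IsMulCommutative T ∧ 0 < m ∧ ((∃ K : Fin m → Subgroup T, (∀ i, K i ≠ ⊤) ∧ ∀ n : N, (n : H) ∈ MulAction.stabilizer H a ↔ ∀ i, e n i ∈ K i) ∨ (∃ (k : ℕ) (c : Fin m → Fin m), 2 ≤ k ∧ (∀ j : Fin m, Nat.card {i : Fin m // c i = j} = k ∨ Nat.card {i : Fin m // c i = j} = 0) ∧ ∀ n : N, (n : H) ∈ MulAction.stabilizer H a ↔ ∀ i j : Fin m, c i = c j → e n i = e n j)) := by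
  classical
  obtain ⟨T, iT, m, hTs, hm, ⟨e⟩⟩ := S0721.result N hN hmin
  have hTnab : ¬ IsMulCommutative T := fun h => hnab ⟨⟨fun x y => e.injective (by
    rw [map_mul, map_mul]
    funext i
    exact h.is_comm.comm _ _)⟩⟩
  set K := MulAction.stabilizer H a with hK
  haveI := MulAction.IsPreprimitive.toIsPretransitive (G := H) (X := α)
  have hNt : MulAction.IsPretransitive N α := Perm.isPretransitive_of_normal_ne_bot hN
  let D : Subgroup (Fin m → T) := (K.subgroupOf N).map e.toMonoidHom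
  have hmem : ∀ n : N, e n ∈ D ↔ (n : H) ∈ K := by
    intro n
    constructor
    · rintro ⟨u, hu, hun⟩
      rw [← e.injective hun]
      exact hu
    · exact fun hn => ⟨n, hn, rfl⟩
  let φ : H → (Fin m → T) ≃* (Fin m → T) := fun g =>
    (e.symm.trans (MulAut.conjNormal g)).trans e
  have hφ : ∀ (g : H) (n : N), φ g (e n) = e (MulAut.conjNormal g n) := fun g n => by
    show e (MulAut.conjNormal g (e.symm (e n))) = _
    rw [e.symm_apply_apply]
  have hDinv : ∀ k ∈ K, ∀ x, φ k x ∈ D ↔ x ∈ D := by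
    intro k hk x
    obtain ⟨n, rfl⟩ := e.surjective x
    rw [hφ, hmem, hmem, MulAut.conjNormal_apply]
    constructor
    · intro h
      have h1 := K.mul_mem (K.mul_mem (K.inv_mem hk) h) hk
      simpa [mul_assoc] using h1
    · exact fun h => K.mul_mem (K.mul_mem hk h) (K.inv_mem hk)
  choose σ θ hσθ using fun g : H => Perm.ProdSub.exists_shuffle hTnab (φ g)
  have hsplit : ∀ g : H, ∃ n : N, ∃ k ∈ K, g = (n : H) * k := by
    intro g
    obtain ⟨n, hn⟩ := MulAction.exists_smul_eq N a (g • a)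
    refine ⟨n, (n : H)⁻¹ * g, ?_, by rw [mul_inv_cancel_left]⟩
    rw [hK, MulAction.mem_stabilizer_iff, mul_smul, inv_smul_eq_iff]
    exact hn.symm
  have hinj : ∀ (g : H) (n : N) (i : Fin m), e (MulAut.conjNormal g n) (σ g i) = 1 ↔ e n i = 1 := by
    intro g n i
    rw [← hφ, hσθ, MulEquiv.map_eq_one_iff]
  have htrans : ∀ i j : Fin m, ∃ k ∈ K, ∃ k' ∈ K, σ k' (σ k i) = j ∨ σ k i = j ∨ i = j ∨
      σ k j = i := by
    intro i j
    by_contra hcon
    push Not at hcon
    -- the indices reachable from `i`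
    let O : Set (Fin m) := {l | ∀ O' : Set (Fin m), i ∈ O' → (∀ k ∈ K, ∀ x ∈ O', σ k x ∈ O') → l ∈ O'}
    have hOi : i ∈ O := fun O' h _ => h
    have hOinv : ∀ k ∈ K, ∀ x ∈ O, σ k x ∈ O := fun k hk x hx O' h h' => h' k hk x (hx O' h h')
    have hOinv' : ∀ k ∈ K, ∀ x, σ k x ∈ O → x ∈ O := by
      intro k hk x hx
      have hb : Set.BijOn (σ k) O O := by
        refine ((Set.toFinite O).injOn_iff_bijOn_of_mapsTo (fun z hz => hOinv k hk z hz)).1 ?_
        exact (σ k).injective.injOn
      obtain ⟨z, hz, hzx⟩ := hb.2.2 hx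
      rwa [← (σ k).injective hzx]
    let M₀ : Subgroup N :=
      { carrier := {n | ∀ l, l ∉ O → e n l = 1}
        one_mem' := fun l _ => by rw [map_one]; rfl
        mul_mem' := fun {x y} hx hy l hl => by rw [map_mul, Pi.mul_apply, hx l hl, hy l hl, one_mul]
        inv_mem' := fun {x} hx l hl => by rw [map_inv, Pi.inv_apply, hx l hl, inv_one] }
    have hM : (M₀.map N.subtype).Normal := ⟨fun x hx g => by
      obtain ⟨n, hn, rfl⟩ := hx
      obtain ⟨n', k, hk, rfl⟩ := hsplit g
      refine ⟨n' * MulAut.conjNormal k n * n'⁻¹, fun l hl => ?_, ?_⟩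
      · obtain ⟨l', rfl⟩ := (σ k).surjective l
        rw [map_mul, map_mul, Pi.mul_apply, Pi.mul_apply, map_inv, Pi.inv_apply,
          (hinj k n l').2 (hn l' fun h => hl (hOinv k hk l' h)), mul_one, mul_inv_cancel]
      · simp [mul_assoc]⟩
    rcases hmin _ hM (Subgroup.map_subtype_le M₀) with h | h
    · obtain ⟨t₀, ht₀⟩ := exists_ne (1 : T)
      have hmem' : e.symm (Pi.mulSingle i t₀) ∈ M₀ := fun l hl => by
        rw [e.apply_symm_apply, Pi.mulSingle_eq_of_ne]
        rintro rfl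
        exact hl hOi
      have : ((e.symm (Pi.mulSingle i t₀) : N) : H) ∈ M₀.map N.subtype := ⟨_, hmem', rfl⟩
      rw [h, Subgroup.mem_bot, OneMemClass.coe_eq_one, MulEquiv.map_eq_one_iff,
        Pi.mulSingle_eq_one_iff] at this
      exact ht₀ this
    · have hj : j ∈ O := by
        by_contra hj
        obtain ⟨t₀, ht₀⟩ := exists_ne (1 : T)
        have h1 : ((e.symm (Pi.mulSingle j t₀) : N) : H) ∈ M₀.map N.subtype := by
          rw [h]; exact (e.symm (Pi.mulSingle j t₀)).2
        obtain ⟨n, hn, hnn⟩ := h1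
        have := hn j hj
        rw [Subtype.ext hnn, e.apply_symm_apply, Pi.mulSingle_eq_same] at this
        exact ht₀ this
      have h2 := hj {l | ∃ k ∈ K, σ k i = l} ⟨1, K.one_mem, ?_⟩ ?_
      · obtain ⟨k, hk, hkl⟩ := h2
        exact (hcon k hk k hk).2.1 hkl
      · obtain ⟨t₀, ht₀⟩ := exists_ne (1 : T)
        by_contra hne
        have h3 := (hinj 1 (e.symm (Pi.mulSingle i t₀)) i)
        rw [map_one, MulAut.one_apply, e.apply_symm_apply, Pi.mulSingle_eq_of_ne hne,
          Pi.mulSingle_eq_same] at h3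
        exact ht₀ (h3.1 rfl)
      · rintro k hk _ ⟨k₀, hk₀, rfl⟩
        refine ⟨k * k₀, K.mul_mem hk hk₀, ?_⟩
        obtain ⟨t₀, ht₀⟩ := exists_ne (1 : T)
        by_contra hne
        set n := e.symm (Pi.mulSingle i t₀)
        have h3 : e (MulAut.conjNormal k (MulAut.conjNormal k₀ n)) (σ k (σ k₀ i)) = 1 := by
          have h4 : e (MulAut.conjNormal (k * k₀) n) (σ k (σ k₀ i)) = 1 := by
            obtain ⟨l, hl⟩ := (σ (k * k₀)).surjective (σ k (σ k₀ i))
            rw [← hl]
            refine (hinj _ _ _).2 ?_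
            rw [e.apply_symm_apply, Pi.mulSingle_eq_of_ne]
            rintro rfl
            exact hne hl
          rwa [map_mul, MulAut.mul_apply] at h4
        rw [hinj, hinj, e.apply_symm_apply, Pi.mulSingle_eq_same] at h3
        exact ht₀ h3
  let π : Fin m → Subgroup T := fun i => D.map (Pi.evalMonoidHom (fun _ => T) i)
  have hπ : ∀ k ∈ K, ∀ i t, t ∈ π i ↔ θ k i t ∈ π (σ k i) := by
    intro k hk i t
    constructor
    · rintro ⟨d, hd, rfl⟩
      exact ⟨φ k d, (hDinv k hk d).2 hd, hσθ k d i⟩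
    · rintro ⟨d, hd, hdt⟩
      obtain ⟨d', rfl⟩ := (φ k).surjective d
      refine ⟨d', (hDinv k hk d').1 hd, ?_⟩
      apply (θ k i).injective
      rw [← hdt]
      exact (hσθ k d' i).symm
  have hfullK : ∀ k ∈ K, ∀ i, π i = ⊤ ↔ π (σ k i) = ⊤ := by
    intro k hk i
    rw [Subgroup.eq_top_iff', Subgroup.eq_top_iff']
    constructor
    · intro h t
      obtain ⟨u, rfl⟩ := (θ k i).surjective t
      exact (hπ k hk i u).1 (h u)
    · exact fun h t => (hπ k hk i t).2 (h _)
  by_cases hprod : ∀ i, π i ≠ ⊤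
  · refine ⟨T, iT, m, e, hTs, hTnab, hm, Or.inl ⟨π, hprod, fun n => ?_⟩⟩
    let X₀ : Subgroup N := (Subgroup.pi Set.univ π).comap e.toMonoidHom
    have hX₀ : ∀ n : N, n ∈ X₀ ↔ ∀ i, e n i ∈ π i := fun n => by
      simp [X₀, Subgroup.mem_pi]
    have hfwd : ∀ n : N, (n : H) ∈ K → n ∈ X₀ := fun n hn => (hX₀ n).2 fun i =>
      ⟨e n, (hmem n).2 hn, rfl⟩
    have hX : X₀.map N.subtype = K ⊓ N := by
      have hKX : K ⊓ N ≤ X₀.map N.subtype := by
        intro x hx
        exact ⟨⟨x, hx.2⟩, hfwd _ hx.1, rfl⟩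
      have hinv : K ≤ Subgroup.normalizer ((X₀.map N.subtype : Subgroup H) : Set H) := by
        have hstep : ∀ k ∈ K, ∀ x ∈ X₀.map N.subtype, k * x * k⁻¹ ∈ X₀.map N.subtype := by
          rintro k hk _ ⟨u, hu, rfl⟩
          refine ⟨MulAut.conjNormal k u, (hX₀ _).2 fun l => ?_, MulAut.conjNormal_apply _ _⟩
          obtain ⟨l', rfl⟩ := (σ k).surjective l
          rw [← hφ, hσθ]
          exact (hπ k hk l' _).1 ((hX₀ u).1 hu l')
        intro k hk
        rw [Subgroup.mem_normalizer_iff]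
        refine fun x => ⟨hstep k hk x, fun hx => ?_⟩
        have h1 := hstep k⁻¹ (K.inv_mem hk) _ hx
        simpa [mul_assoc] using h1
      rcases S0722.result H N hN hmin a (X₀.map N.subtype) (Subgroup.map_subtype_le X₀) hKX hinv with
        h | h
      · exact h
      · exfalso
        obtain ⟨t, ht⟩ : ∃ t, t ∉ π ⟨0, hm⟩ := by
          by_contra hcon
          push Not at hcon
          exact hprod _ ((Subgroup.eq_top_iff' _).2 hcon)
        obtain ⟨x, hx, hxe⟩ : ((e.symm (Pi.mulSingle ⟨0, hm⟩ t) : N) : H) ∈ X₀.map N.subtype := by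
          rw [h]; exact (e.symm _).2
        have h1 := (hX₀ x).1 hx ⟨0, hm⟩
        rw [Subtype.ext hxe, e.apply_symm_apply, Pi.mulSingle_eq_same] at h1
        exact ht h1
    rw [← hX₀]
    constructor
    · exact hfwd n
    · intro hn
      have h1 : (n : H) ∈ X₀.map N.subtype := ⟨n, hn, rfl⟩
      rw [hX] at h1
      exact h1.1
  push Not at hprod
  obtain ⟨i₀, hi₀⟩ := hprod
  have hfull : ∀ i, π i = ⊤ := by
    intro i
    obtain ⟨k, hk, k', hk', h | h | h | h⟩ := htrans i₀ i
    · rw [← h, ← hfullK k' hk', ← hfullK k hk]; exact hi₀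
    · rw [← h, ← hfullK k hk]; exact hi₀
    · rw [← h]; exact hi₀
    · rw [hfullK k hk, h]; exact hi₀
  obtain ⟨c, ψ, hcc, hcid, hD⟩ := Perm.ProdSub.exists_diagonal hTnab D fun i t => by
    obtain ⟨d, hd, hdt⟩ := (hfull i ▸ Subgroup.mem_top t : t ∈ π i)
    exact ⟨d, hd, hdt⟩
  let e' : N ≃* (Fin m → T) := e.trans (MulEquiv.piCongrRight fun i => (ψ i).symm)
  refine ⟨T, iT, m, e', hTs, hTnab, hm, Or.inr ?_⟩
  have hσc : ∀ k ∈ K, ∀ i j, c (σ k i) = c (σ k j) ↔ c i = c j := by
    intro k hk i j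
    rw [hcc, hcc]
    constructor
    · intro h d hd
      have := h (φ k d) ((hDinv k hk d).2 hd)
      rwa [hσθ, hσθ, MulEquiv.map_eq_one_iff, MulEquiv.map_eq_one_iff] at this
    · intro h d hd
      obtain ⟨d', rfl⟩ := (φ k).surjective d
      rw [hσθ, hσθ, MulEquiv.map_eq_one_iff, MulEquiv.map_eq_one_iff]
      exact h d' ((hDinv k hk d').1 hd)
  have hsize : ∀ k ∈ K, ∀ i, Nat.card {l // c l = c (σ k i)} = Nat.card {l // c l = c i} := by
    intro k hk i
    exact (Nat.card_congr ((σ k).subtypeEquiv fun l => (hσc k hk l i).symm)).symm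
  have hall : ∀ i, Nat.card {l // c l = c i} = Nat.card {l // c l = c i₀} := by
    intro i
    obtain ⟨k, hk, k', hk', h | h | h | h⟩ := htrans i₀ i
    · rw [← h, hsize k' hk', hsize k hk]
    · rw [← h, hsize k hk]
    · rw [← h]
    · rw [← h, hsize k hk]
  refine ⟨Nat.card {l // c l = c i₀}, c, ?_, fun j => ?_, fun n => ?_⟩
  · by_contra hlt
    have hone : ∀ i, c i = i := by
      intro i
      have h1 : Nat.card {l // c l = c i} ≤ 1 := by rw [hall]; omega
      haveI : Subsingleton {l // c l = c i} := by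
        rw [← Finite.card_le_one_iff_subsingleton]
        exact h1
      exact congrArg Subtype.val
        (Subsingleton.elim (⟨c i, (hcid i).1⟩ : {l // c l = c i}) ⟨i, rfl⟩)
    have hNK : ∀ n : N, (n : H) ∈ K := by
      intro n
      rw [← hmem, hD]
      intro i
      have h2 := (hcid i).2
      rw [hone i] at h2
      rw [hone i, h2]
      rfl
    apply hN
    rw [Subgroup.eq_bot_iff_forall]
    intro x hx
    refine FaithfulSMul.eq_of_smul_eq_smul (α := α) fun y => ?_
    rw [one_smul]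
    obtain ⟨g, rfl⟩ := MulAction.exists_smul_eq H a y
    have h3 := hNK ⟨g⁻¹ * x * g, by simpa using Subgroup.Normal.conj_mem inferInstance x hx g⁻¹⟩
    rw [hK, MulAction.mem_stabilizer_iff, mul_smul, mul_smul, inv_smul_eq_iff] at h3
    exact h3
  · by_cases hj : ∃ l, c l = j
    · obtain ⟨l, rfl⟩ := hj
      exact Or.inl (hall l)
    · push Not at hj
      right
      rw [Nat.card_eq_zero]
      exact Or.inl ⟨fun x => hj x.1 x.2⟩
  · rw [show (n : H) ∈ MulAction.stabilizer H a ↔ e n ∈ D from (hmem n).symm, hD]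
    have he' : ∀ i, e' n i = (ψ i).symm (e n i) := fun i => rfl
    constructor
    · intro h i j hij
      rw [he', he', h i, h j, MulEquiv.symm_apply_apply, MulEquiv.symm_apply_apply, hij]
    · intro h i
      have h1 := h i (c i) (hcid i).1.symm
      rw [he', he', (hcid i).2] at h1
      rw [MulEquiv.symm_apply_eq] at h1
      exact h1

end Cfsg.Agent.S0723
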