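import Cfsg.Statements.S0724
import Cfsg.Agent.EqLemmas

set_option autoImplicit false
open Cfsg

namespace Cfsg.Agent.S0724

/-- Blichfeldt's Theorem: if a finite set `L` of natural numbers contains the number of fixed points of every non-identity element of a permutation group `G` of degree `n`, then the order of `G` divides `∏ (n - l)` over `l ∈ L`. -/
theorem result {α : Type*} [Fintype α] [DecidableEq α] (G : Subgroup (Equiv.Perm α)) (L : Finset ℕ) (hL : ∀ g ∈ G, g ≠ 1 → Nat.card (MulAction.fixedBy α g) ∈ L) : Nat.card G ∣ ∏ l ∈ L, (Fintype.card α - l) := by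
  classical
  have hpow : ∀ k : ℕ, (Nat.card G : ℤ) ∣
      ∑ g : G, (Fintype.card (MulAction.fixedBy α g) : ℤ) ^ k := by
    intro k
    have hb := MulAction.sum_card_fixedBy_eq_card_orbits_mul_card_group G (Fin k → α)
    have hfix : ∀ g : G, Fintype.card (MulAction.fixedBy (Fin k → α) g)
        = Fintype.card (MulAction.fixedBy α g) ^ k := by
      intro g
      rw [← Fintype.card_fin k, ← Fintype.card_fun, Fintype.card_fin]
      exact Fintype.card_congr
        { toFun := fun f i => ⟨f.1 i, congrFun f.2 i⟩
          invFun := fun f => ⟨fun i => (f i).1, funext fun i => (f i).2⟩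
          left_inv := fun f => rfl
          right_inv := fun f => rfl }
    rw [Finset.sum_congr rfl (fun g _ => hfix g)] at hb
    refine ⟨Fintype.card (Quotient (MulAction.orbitRel G (Fin k → α))), ?_⟩
    rw [Nat.card_eq_fintype_card, mul_comm]
    exact_mod_cast hb
  have hpoly : ∀ P : Polynomial ℤ, (Nat.card G : ℤ) ∣
      ∑ g : G, P.eval (Fintype.card (MulAction.fixedBy α g) : ℤ) := by
    intro P
    induction P using Polynomial.induction_on' with
    | add p q hp hq =>
      simp only [Polynomial.eval_add, Finset.sum_add_distrib]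
      exact dvd_add hp hq
    | monomial k c =>
      simp only [Polynomial.eval_monomial, ← Finset.mul_sum]
      exact dvd_mul_of_dvd_right (hpow k) c
  by_cases hbig : ∃ l ∈ L, Fintype.card α ≤ l
  · obtain ⟨l, hl, hle⟩ := hbig
    rw [Finset.prod_eq_zero hl (by omega)]
    exact dvd_zero _
  push Not at hbig
  have h := hpoly (∏ l ∈ L, (Polynomial.X - Polynomial.C (l : ℤ)))
  simp only [Polynomial.eval_prod, Polynomial.eval_sub, Polynomial.eval_X, Polynomial.eval_C] at h
  rw [Finset.sum_eq_single_of_mem (1 : G) (Finset.mem_univ _) (fun g _ hg => by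
    have hmem := hL g g.2 (fun e => hg (Subtype.ext e))
    refine Finset.prod_eq_zero hmem ?_
    rw [sub_eq_zero, Nat.card_eq_fintype_card]
    congr 1)] at h
  have h1 : Fintype.card (MulAction.fixedBy α (1 : G)) = Fintype.card α :=
    Fintype.card_congr (Equiv.subtypeUnivEquiv fun x => one_smul G x)
  rw [h1] at h
  have hcast : ((∏ l ∈ L, (Fintype.card α - l) : ℕ) : ℤ)
      = ∏ l ∈ L, ((Fintype.card α : ℤ) - (l : ℤ)) := by
    rw [Nat.cast_prod]
    exact Finset.prod_congr rfl fun l hl => Nat.cast_sub (hbig l hl).le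
  rw [← hcast] at h
  exact_mod_cast h

end Cfsg.Agent.S0724
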