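import Cfsg.Statements.S0730
import Cfsg.Agent.Lib.Perm.Linearization
import Cfsg.Agent.Lib.Perm.RegularOddDim
import Cfsg.Agent.Lib.Perm.SharpThreeOdd
import Cfsg.Agent.EqLemmas

set_option autoImplicit false
open Cfsg

namespace Cfsg.Agent.S0730

/-- A sharply triply transitive group of degree `p^f + 1`, `p` an odd prime and `f` odd, is isomorphic to the projective general linear group of degree 2 over the field with `p^f` elements (for even `f` there is a second, twisted, group). -/
theorem result {α : Type*} [Fintype α] [DecidableEq α] {p f : ℕ} (hp : p.Prime) (hp2 : p ≠ 2) (hfo : Odd f) (hα : Fintype.card α = p ^ f + 1) (G : Subgroup (Equiv.Perm α)) (h3 : MulAction.IsMultiplyPretransitive G α 3) (hsharp : ∀ x : Fin 3 ↪ α, MulAction.stabilizer G x = ⊥) : ∃ (F : Type) (_ : Field F) (_ : Fintype F), Fintype.card F = p ^ f ∧ Nonempty (G ≃* Matrix.ProjGenLinGroup (Fin 2) F) := by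
  classical
  have : Fact p.Prime := ⟨hp⟩
  have hp3 : 3 ≤ p := by have := hp.two_le; omega
  have hq : 3 ≤ p ^ f := hp3.trans (Nat.le_self_pow hfo.pos.ne' p)
  have heven : Even (Fintype.card α) := by
    rw [hα]; exact ((hp.odd_of_ne_two hp2).pow).add_one
  obtain ⟨a, b, c, hab, hac, hbc⟩ :=
    Fintype.two_lt_card_iff.mp (show 2 < Fintype.card α by omega)
  obtain ⟨s, hsa, hsb, hsc⟩ := Perm.exists_smul_three h3 hab hac hbc hab.symm hbc hac
  have hs2 := Perm.sq_eq_one_of_exchange hsharp hab hac hbc hsa hsb hsc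
  have h2G : MulAction.IsMultiplyPretransitive G α 2 :=
    MulAction.isMultiplyPretransitive_of_le (n := 3) (by omega)
      (by rw [Nat.card_eq_fintype_card]; omega)
  have := MulAction.isPretransitive_of_is_two_pretransitive (G := G) (α := α)
  have h2' : MulAction.IsMultiplyPretransitive (MulAction.stabilizer G a)
      (SubMulAction.ofStabilizer G a) 2 :=
    SubMulAction.ofStabilizer.isMultiplyPretransitive.mp h3
  have hs' : ∀ g : MulAction.stabilizer G a, ∀ x y : SubMulAction.ofStabilizer G a,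
      x ≠ y → g • x = x → g • y = y → g = 1 := fun g x y hxy hx hy =>
    Subtype.ext (Perm.key_of_sharp hsharp g a x y (fun e => x.2 e.symm) (fun e => y.2 e.symm)
      (fun e => hxy (Subtype.ext e)) g.2 (congrArg Subtype.val hx) (congrArg Subtype.val hy))
  have hcard : Nat.card (SubMulAction.ofStabilizer G a) + 1 = Fintype.card α := by
    rw [← Nat.card_eq_fintype_card]
    exact SubMulAction.nat_card_ofStabilizer_add_one_eq G a
  let o : SubMulAction.ofStabilizer G a := ⟨b, hab.symm⟩
  obtain ⟨p', hp', V, iV, iM, iF, H, hreg, hV, ⟨e⟩⟩ :=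
    Perm.exists_linearization (by omega) h2' hs' o
  have : Nontrivial V := Finite.one_lt_card_iff_nontrivial.mp (by omega)
  have hVq : p' ^ Module.finrank (ZMod p') V = p ^ f := by
    have h := Module.natCard_eq_pow_finrank (K := ZMod p') (V := V)
    rw [Nat.card_zmod] at h
    omega
  obtain ⟨rfl, hfin⟩ : p' = p ∧ Module.finrank (ZMod p') V = f := by
    obtain ⟨j, hj⟩ : ∃ j, Module.finrank (ZMod p') V = j + 1 :=
      ⟨Module.finrank (ZMod p') V - 1, by
        have h0 : 0 < Module.finrank (ZMod p') V := Module.finrank_pos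
        omega⟩
    obtain ⟨i, rfl⟩ : ∃ i, f = i + 1 := ⟨f - 1, by have := hfo.pos; omega⟩
    rw [hj] at hVq ⊢
    obtain ⟨h1, h2⟩ := Nat.Prime.pow_inj hp'.out hp hVq
    exact ⟨h1, by rw [h2]⟩
  let K : Subgroup G := MulAction.stabilizer G a ⊓ MulAction.stabilizer G b
  let eK : MulAction.stabilizer (MulAction.stabilizer G a) o ≃* K :=
    { toFun := fun g => ⟨((g : MulAction.stabilizer G a) : G), g.1.2, congrArg Subtype.val g.2⟩
      invFun := fun g => ⟨⟨(g : G), g.2.1⟩, Subtype.ext g.2.2⟩
      left_inv := fun g => rfl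
      right_inv := fun g => rfl
      map_mul' := fun g h => rfl }
  let ψ : H ≃* K := e.symm.trans eK
  let φ : H →* H :=
    (ψ.symm.toMonoidHom.comp (Perm.exchConj hsa hsb)).comp ψ.toMonoidHom
  have hφ : ∀ h, ψ (φ h) = Perm.exchConj hsa hsb (ψ h) := fun h => ψ.apply_symm_apply _
  have hcomm := Perm.RegLin.comm_of_involutive hreg hp2 (hfin ▸ hfo) φ
    (fun h => ψ.injective (by rw [hφ, hφ]; exact Perm.exchConj_involutive hsa hsb hs2 (ψ h)))
    (fun h hh => ψ.injective (by
      rw [map_mul, map_one]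
      exact Perm.sq_eq_one_of_exchConj_eq hsharp hab hac hbc hsa hsb hsc (ψ h) (by rw [← hφ, hh])))
  have hKcomm : ∀ g ∈ K, ∀ h ∈ K, g * h = h * g := fun g hg h hh => by
    have := congrArg ψ (hcomm (ψ.symm ⟨g, hg⟩) (ψ.symm ⟨h, hh⟩))
    rw [map_mul, map_mul, MulEquiv.apply_symm_apply, MulEquiv.apply_symm_apply] at this
    exact congrArg Subtype.val this
  obtain ⟨F, iF', iFt, hc, he⟩ :=
    Perm.exists_mulEquiv_pgl G h3 (Perm.key_of_sharp hsharp) hab hac hbc s hsa hsb hsc
      (Perm.inverts_of_comm h3 heven hsharp hab hac hbc hsa hsb hsc hKcomm)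
  exact ⟨F, iF', iFt, by omega, he⟩

end Cfsg.Agent.S0730
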