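import Cfsg.Statements.S0732
import Cfsg.Agent.Lib.Perm.PrimeAddOne
import Cfsg.Agent.Lib.Zassenhaus.AbelianKernel
import Cfsg.Agent.Lib.GLOrder.Basic
import Cfsg.Agent.Lib.Linear.GenTools
import Cfsg.Agent.S0727
import Cfsg.Agent.S0730

set_option autoImplicit false
open Cfsg

namespace Cfsg.Agent.S0732

open MulAction

theorem nonempty_pglEquiv {F K : Type*} [Field F] [Field K] (e : F ≃+* K) :
    Nonempty (Matrix.ProjGenLinGroup (Fin 2) F ≃* Matrix.ProjGenLinGroup (Fin 2) K) := by
  refine ⟨MonoidHom.toMulEquiv (Matrix.ProjGenLinGroup.map e.toRingHom)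
    (Matrix.ProjGenLinGroup.map e.symm.toRingHom) ?_ ?_⟩
  · rw [← Matrix.ProjGenLinGroup.map_comp, show e.symm.toRingHom.comp e.toRingHom = RingHom.id F
      from RingHom.ext fun x => e.symm_apply_apply x]
    exact Matrix.ProjGenLinGroup.map_id
  · rw [← Matrix.ProjGenLinGroup.map_comp, show e.toRingHom.comp e.symm.toRingHom = RingHom.id K
      from RingHom.ext fun x => e.apply_symm_apply x]
    exact Matrix.ProjGenLinGroup.map_id

/-- A transitive permutation group on `p + 1` points (`p` prime) of order `(p+1) p d` with `d < p` is isomorphic to `PGL(2,p)` with `d = p - 1`, or to `PSL(2,p)` with `2d = p - 1`, or else `p + 1 = 2^q` for a prime `q`, `d = 1` or `d = q`, and the group is permutation-isomorphic to a group of semi-affine maps `x ↦ a φ(x) + b` of the field with `2^q` elements. -/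
theorem result {α : Type*} [Fintype α] [DecidableEq α] {p d : ℕ} (hp : p.Prime) (hα : Fintype.card α = p + 1) (G : Subgroup (Equiv.Perm α)) [MulAction.IsPretransitive G α] (hG : Nat.card G = (p + 1) * p * d) (hd : d < p) : (d = p - 1 ∧ Nonempty (G ≃* Matrix.ProjGenLinGroup (Fin 2) (ZMod p))) ∨ (2 * d = p - 1 ∧ Nonempty (G ≃* Matrix.ProjectiveSpecialLinearGroup (Fin 2) (ZMod p))) ∨ (∃ q : ℕ, q.Prime ∧ p + 1 = 2 ^ q ∧ (d = 1 ∨ d = q) ∧ ∃ e : α ≃ GaloisField 2 q, ∀ g : G, (e.symm.trans (((g : Equiv.Perm α)).trans e)) ∈ Cfsg.semiaffineGroup (GaloisField 2 q)) := by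
  classical
  haveI := Fact.mk hp
  have hΩ : Nat.card α = p + 1 := by rw [Nat.card_eq_fintype_card, hα]
  have hd0 : 0 < d := Nat.pos_of_ne_zero fun e => by
    have := Nat.card_pos (α := G)
    rw [hG, e, mul_zero] at this
    omega
  rcases eq_or_ne p 2 with rfl | hp2
  · left
    have hd1 : d = 1 := by omega
    subst hd1
    refine ⟨rfl, ?_⟩
    have htop : G = ⊤ := Subgroup.eq_top_of_card_eq _ (by
      rw [hG, Nat.card_perm, hΩ]
      rfl)
    have h3 : IsMultiplyPretransitive G α 3 := by
      constructor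
      intro x y
      have hb : ∀ z : Fin 3 ↪ α, Function.Bijective z := fun z =>
        (Fintype.bijective_iff_injective_and_card _).mpr ⟨z.injective, by simp [hα]⟩
      refine ⟨⟨(Equiv.ofBijective x (hb x)).symm.trans (Equiv.ofBijective y (hb y)),
        htop ▸ Subgroup.mem_top _⟩, Function.Embedding.ext fun i => ?_⟩
      show (Equiv.ofBijective y (hb y)) ((Equiv.ofBijective x (hb x)).symm (x i)) = y i
      rw [Equiv.ofBijective_symm_apply_apply]
      rfl
    have hsharp : ∀ x : Fin 3 ↪ α, stabilizer G x = ⊥ := by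
      intro x
      rw [Subgroup.eq_bot_iff_forall]
      intro g hg
      have hsurj : Function.Surjective x :=
        ((Fintype.bijective_iff_injective_and_card _).mpr ⟨x.injective, by simp [hα]⟩).2
      refine Subtype.ext (Equiv.ext fun y => ?_)
      obtain ⟨i, rfl⟩ := hsurj y
      exact congrArg (fun z : Fin 3 ↪ α => z i) hg
    obtain ⟨F, iF, iFt, hF, ⟨e⟩⟩ := S0727.result le_rfl (by rw [hα, pow_one]) G h3 hsharp
    rw [pow_one] at hF
    obtain ⟨e'⟩ := nonempty_pglEquiv (ZMod.ringEquivOfPrime F hp hF).symm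
    exact ⟨e.trans e'⟩
  obtain ⟨a⟩ : Nonempty α := (Nat.card_pos_iff.mp (by omega)).1
  obtain ⟨P, hPa, hPp, hPc, hPn, hreg⟩ := Perm.PrimeAddOne.exists_kernel hp hΩ hG hd a
  by_cases hN : ∃ N : Subgroup G, N.Normal ∧ IsPretransitive N α ∧ ∀ x : α, stabilizer N x = ⊥
  · obtain ⟨N, hNn, hNt, hNr⟩ := hN
    exact Or.inr (Or.inr
      (Perm.PrimeAddOne.semiaffine hp hΩ hG hPa hPp hPc hPn hreg hp2 N hNt hNr))
  have hd2 : 2 ≤ d := by
    by_contra h
    have : d = 1 := by omega
    subst this
    exact hN (Perm.PrimeAddOne.exists_regular_normal hp hΩ (by rw [hG, mul_one]))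
  have h2 := Perm.PrimeAddOne.two_transitive hPa hreg
  haveI : IsCyclic P := isCyclic_of_prime_card hPp
  have hcyc : ∀ u v : P, u ≠ 1 → v ∈ Subgroup.zpowers u := fun u v hu =>
    mem_zpowers_of_prime_card hPp hu
  have hfix3 := Perm.PrimeAddOne.eq_one_of_fix_three hPc hPa hPn hcyc hreg
  obtain ⟨b, hba⟩ : ∃ b : α, b ≠ a := Fintype.exists_ne_of_one_lt_card (by omega) a
  set D := stabilizer G a ⊓ stabilizer G b with hDdef
  have hD : Nat.card D = d := by
    have h1 := Nat.card_congr (orbitProdStabilizerEquivGroup (stabilizer G a) b)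
    rw [Nat.card_prod, Perm.PrimeAddOne.card_stab hΩ hG a] at h1
    have h3 : orbit (stabilizer G a) b = {a}ᶜ := by
      ext y
      constructor
      · rintro ⟨g, rfl⟩ (h : (g : G) • b = a)
        exact hba (smul_left_cancel (g : G) (h.trans g.2.symm))
      · intro hy
        obtain ⟨u, hu, -⟩ := hreg b y hba hy
        exact ⟨⟨u, hPa u.2⟩, hu⟩
    rw [h3, Nat.card_coe_set_eq, Set.ncard_compl, Set.ncard_singleton, hΩ, Nat.add_sub_cancel]
      at h1
    rw [← Nat.eq_of_mul_eq_mul_left hp.pos h1]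
    refine Nat.card_congr
      { toFun := fun g => ⟨⟨g, g.2.1⟩, g.2.2⟩
        invFun := fun g => ⟨(g : stabilizer G a), (g : stabilizer G a).2, g.2⟩
        left_inv := fun g => rfl
        right_inv := fun g => rfl }
  have hZ : Cfsg.IsZassenhausGroup G α := by
    refine ⟨inferInstance, h2, hfix3, ?_, fun N hNn hNt => ?_⟩
    · obtain ⟨g, hg⟩ : ∃ g : D, g ≠ 1 := by
        haveI := Finite.one_lt_card_iff_nontrivial.mp (show 1 < Nat.card D by omega)
        exact exists_ne 1
      exact ⟨g, fun e => hg (Subtype.ext e), a, b, hba.symm, g.2.1, g.2.2⟩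
    · by_contra hcon
      push Not at hcon
      exact hN ⟨N, hNn, hNt, hcon⟩
  have hfixP : ∀ u ∈ P, u ≠ 1 → ∀ c : α, u • c = c → c = a := by
    intro u hu hu1 c hc
    by_contra hca
    exact hu1 (congrArg Subtype.val
      ((hreg c c hca hca).unique (y₁ := (⟨u, hu⟩ : P)) (y₂ := 1) hc (one_smul G c)))
  have hcomm : ∀ u ∈ P, ∀ w ∈ P, u * w = w * u := fun u hu w hw =>
    congrArg Subtype.val (hPc.is_comm.comm ⟨u, hu⟩ ⟨w, hw⟩)
  have hPcard : Nat.card P + 1 = Fintype.card α := by rw [hPp, hα]
  have hb := Zassenhaus.abelian_bound hZ hba.symm P hPa hPcard hfixP hcomm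
  obtain ⟨k, hk⟩ := Zassenhaus.card_pair_dvd_sub_two hZ hba.symm
  rw [← hDdef, hD] at hb hk
  rw [hα] at hb
  rw [hΩ] at hk
  have hk12 : k = 1 ∨ k = 2 := by
    rcases k with _ | _ | _ | k
    · rw [mul_zero] at hk
      have := hp.two_le
      omega
    · exact Or.inl rfl
    · exact Or.inr rfl
    · exfalso
      nlinarith
  have hD' : Nat.card ↥(stabilizer G a ⊓ stabilizer G b) = d := hD
  rcases hk12 with rfl | rfl
  · left
    have hdp : d = p - 1 := by omega
    refine ⟨hdp, ?_⟩
    obtain ⟨h3, hsharp⟩ := Zassenhaus.sharply_three_of_card hZ hba.symm (by rw [hD', hΩ]; omega)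
    obtain ⟨F, iF, iFt, hF, ⟨e⟩⟩ :=
      S0730.result (f := 1) hp hp2 odd_one (by rw [hα, pow_one]) G h3 hsharp
    rw [pow_one] at hF
    obtain ⟨e'⟩ := nonempty_pglEquiv (ZMod.ringEquivOfPrime F hp hF).symm
    exact ⟨e.trans e'⟩
  · right; left
    have hdp : 2 * d = p - 1 := by omega
    refine ⟨hdp, ?_⟩
    rcases Zassenhaus.abelian_classify hZ hba.symm P hPa hPn hPcard hfixP hcomm with
      ⟨h3, hsharp⟩ | ⟨r, f, K, iK, iKt, hr, hr2, hK, ⟨e⟩⟩
    · exfalso
      have : IsPretransitive G (Fin 3 ↪ α) := h3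
      obtain ⟨x⟩ : Nonempty (Fin 3 ↪ α) := Function.Embedding.nonempty_of_card_le (by
        rw [Fintype.card_fin, hα]; have := hp.two_le; omega)
      have h1 : Nat.card (Fin 3 ↪ α) = Nat.card G := Nat.card_congr
        (Equiv.ofBijective (fun g : G => g • x) ⟨fun g k hgk => by
          have hm : (g⁻¹ * k) • x = x := by
            refine Function.Embedding.ext fun i => ?_
            have hi : g • x i = k • x i := congrArg (fun z : Fin 3 ↪ α => z i) hgk
            show (g⁻¹ * k) • x i = x i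
            rw [mul_smul, inv_smul_eq_iff]
            exact hi.symm
          exact inv_mul_eq_one.mp (Subgroup.mem_bot.mp ((hsharp x).le hm)), fun y => h3.exists_smul_eq x y⟩).symm
      rw [hG,
        Nat.card_eq_fintype_card, Fintype.card_embedding_eq, Fintype.card_fin, hα,
        Nat.descFactorial_succ, Nat.descFactorial_succ, Nat.descFactorial_one] at h1
      have h5 : (p + 1) * p * d = (p + 1) * p * (p - 1) := by
        rw [← h1, Nat.add_sub_cancel, show p + 1 - 2 = p - 1 by omega]
        ring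
      have := Nat.eq_of_mul_eq_mul_left (Nat.mul_pos p.succ_pos hp.pos) h5
      have := hp.two_le
      omega
    · have hKodd : Odd (Nat.card K) := by
        rw [Nat.card_eq_fintype_card, hK]
        exact (hr.odd_of_ne_two hr2).pow
      have hord := GLOrder.card_PSL_two_of_odd hKodd
      rw [← Nat.card_congr e.toEquiv, hG] at hord
      have hKp : Nat.card K = p := by
        set Q := Nat.card K with hQ
        have h5 : p * (p ^ 2 - 1) = Q * (Q ^ 2 - 1) := by
          rw [← hord]
          have hps : p ^ 2 - 1 = (p + 1) * (p - 1) := by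
            rw [show (1 : ℕ) = 1 ^ 2 from rfl, Nat.sq_sub_sq, one_pow]
          rw [hps, ← hdp]
          ring
        have hQ1 : 1 < Q := Finite.one_lt_card
        rcases lt_trichotomy Q p with h | h | h
        · exact absurd h5 (ne_of_gt (Nat.mul_lt_mul_of_lt_of_le h
            (Nat.sub_le_sub_right (Nat.pow_le_pow_left h.le 2) 1) (by
              have := Nat.pow_le_pow_left hp.two_le 2; omega)))
        · exact h
        · exact absurd h5 (ne_of_lt (Nat.mul_lt_mul_of_lt_of_le h
            (Nat.sub_le_sub_right (Nat.pow_le_pow_left h.le 2) 1) (by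
              have := Nat.pow_le_pow_left (show 2 ≤ Q from hQ1) 2; omega)))
      exact ⟨e.trans (Linear.pslMapEquiv
        (ZMod.ringEquivOfPrime K hp (by rw [← Nat.card_eq_fintype_card]; exact hKp)).symm)⟩

end Cfsg.Agent.S0732
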