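import Cfsg.Statements.S0733
import Cfsg.Agent.Lib.Perm.Regular

set_option autoImplicit false
open Cfsg

namespace Cfsg.Agent.S0733

/-- A permutation group of affine type — generated by the translations of a finite vector space `V` over `ZMod p` together with a group `G₀` of linear automorphisms — is primitive on `V` if and only if `G₀` is irreducible on `V`. -/
theorem result {p : ℕ} [Fact p.Prime] {V : Type*} [AddCommGroup V] [Module (ZMod p) V] [Finite V] [Nontrivial V] (G₀ : Subgroup (V ≃ₗ[ZMod p] V)) (G : Subgroup (Equiv.Perm V)) (hG : ∀ σ : Equiv.Perm V, σ ∈ G ↔ ∃ g ∈ G₀, ∃ b : V, ∀ x : V, σ x = (g : V ≃ₗ[ZMod p] V) x + b) : MulAction.IsPreprimitive G V ↔ ∀ W : Submodule (ZMod p) V, (∀ g ∈ G₀, ∀ v ∈ W, (g : V ≃ₗ[ZMod p] V) v ∈ W) → W = ⊥ ∨ W = ⊤ := by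
  have htr : ∀ b : V, Equiv.addRight b ∈ G := fun b =>
    (hG _).mpr ⟨1, G₀.one_mem, b, fun x => rfl⟩
  have ht : MulAction.IsPretransitive G V :=
    ⟨fun x y => ⟨⟨_, htr (-x + y)⟩, by
      show x + (-x + y) = y
      rw [add_neg_cancel_left]⟩⟩
  constructor
  · intro hprim W hW
    have hr : Equivalence (fun x y : V => x - y ∈ W) :=
      ⟨fun x => by simp, fun {x y} h => by simpa using W.neg_mem h,
        fun {x y z} h h' => by simpa using W.add_mem h h'⟩
    rcases Perm.eq_or_all_of_invariant_equivalence (G := G) _ hr (fun g x y h => by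
      obtain ⟨l, hl, b, hb⟩ := (hG _).mp g.2
      show (g : Equiv.Perm V) x - (g : Equiv.Perm V) y ∈ W
      rw [hb, hb, add_sub_add_right_eq_sub, ← map_sub]
      exact hW l hl _ h) with h | h
    · refine Or.inl ((Submodule.eq_bot_iff W).mpr fun v hv => h v 0 (by simpa using hv))
    · exact Or.inr (eq_top_iff.mpr fun v _ => by simpa using h v 0)
  · intro hirr
    refine MulAction.IsPreprimitive.of_isTrivialBlock_base (G := G) (0 : V) fun {B} h0 hB => ?_
    have hadd : ∀ x ∈ B, ∀ y ∈ B, x + y ∈ B := by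
      intro x hx y hy
      rw [← MulAction.isBlock_iff_smul_eq_of_mem.mp hB (g := ⟨_, htr y⟩) h0
        (by show (0 : V) + y ∈ B; rwa [zero_add])]
      exact ⟨x, hx, rfl⟩
    have hsmul : ∀ (n : ℕ), ∀ x ∈ B, n • x ∈ B := by
      intro n x hx
      induction n with
      | zero => rwa [zero_nsmul]
      | succ n ih => rw [succ_nsmul]; exact hadd _ ih _ hx
    let W : Submodule (ZMod p) V :=
      { carrier := B
        add_mem' := fun {x y} hx hy => hadd x hx y hy
        zero_mem' := h0
        smul_mem' := fun c x hx => by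
          rw [← ZMod.natCast_zmod_val c, Nat.cast_smul_eq_nsmul]
          exact hsmul _ x hx }
    have hW : ∀ g ∈ G₀, ∀ v ∈ W, (g : V ≃ₗ[ZMod p] V) v ∈ W := by
      intro g hg v hv
      have hmem : (g : V ≃ₗ[ZMod p] V).toEquiv ∈ G := (hG _).mpr ⟨g, hg, 0, fun x => by simp⟩
      show _ ∈ B
      rw [← MulAction.isBlock_iff_smul_eq_of_mem.mp hB (g := ⟨_, hmem⟩) h0
        (by show (g : V ≃ₗ[ZMod p] V) 0 ∈ B; rwa [map_zero])]
      exact ⟨v, hv, rfl⟩
    rcases hirr W hW with h | h
    · left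
      intro x hx y hy
      rw [(Submodule.eq_bot_iff W).mp h x hx, (Submodule.eq_bot_iff W).mp h y hy]
    · right
      exact Set.eq_univ_iff_forall.mpr fun v => (h ▸ Submodule.mem_top : v ∈ W)

end Cfsg.Agent.S0733
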