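import Cfsg.Statements.S0734
import Cfsg.Agent.Lib.Perm.Regular

set_option autoImplicit false
open Cfsg

namespace Cfsg.Agent.S0734

/-- Higman's criterion for primitivity: a transitive action on a finite set is primitive if and only if every non-trivial orbital graph (edges = images of a fixed pair of distinct points) is connected. -/
theorem result {G : Type*} [Group G] {Ω : Type*} [Finite Ω] [MulAction G Ω] [MulAction.IsPretransitive G Ω] [Nontrivial Ω] : MulAction.IsPreprimitive G Ω ↔ ∀ a b : Ω, a ≠ b → (SimpleGraph.fromRel fun x y : Ω => ∃ g : G, g • a = x ∧ g • b = y).Connected := by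
  set adj : Ω → Ω → Ω → Ω → Prop := fun a b x y => ∃ g : G, g • a = x ∧ g • b = y with hadj
  constructor
  · intro hp a b hab
    set Γ := SimpleGraph.fromRel (adj a b)
    have hmap : ∀ (g : G) (x y : Ω), Γ.Adj x y → Γ.Adj (g • x) (g • y) := by
      intro g x y h
      obtain ⟨hne, h⟩ := h
      refine ⟨fun e => hne (MulAction.injective g e), ?_⟩
      rcases h with ⟨h, h1, h2⟩ | ⟨h, h1, h2⟩
      · exact Or.inl ⟨g * h, by rw [mul_smul, h1], by rw [mul_smul, h2]⟩
      · exact Or.inr ⟨g * h, by rw [mul_smul, h1], by rw [mul_smul, h2]⟩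
    rcases Perm.eq_or_all_of_invariant_equivalence (G := G) _ Γ.reachable_is_equivalence
      (fun g x y h => h.map (⟨(g • ·), fun h => hmap g _ _ h⟩ : Γ →g Γ)) with h | h
    · exact absurd (h a b (SimpleGraph.Adj.reachable
        ⟨hab, Or.inl ⟨1, one_smul G a, one_smul G b⟩⟩)) hab
    · exact { preconnected := h, nonempty := inferInstance }
  · intro h
    refine ⟨fun {B} hB => ?_⟩
    rcases B.subsingleton_or_nontrivial with h' | ⟨a, ha, b, hb, hab⟩
    · exact Or.inl h'
    right
    rw [Set.eq_univ_iff_forall]
    intro x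
    have hstep : ∀ u v : Ω, adj a b u v → (u ∈ B ↔ v ∈ B) := by
      rintro _ _ ⟨g, rfl, rfl⟩
      constructor
      · intro hu
        rw [← MulAction.isBlock_iff_smul_eq_of_mem.mp hB ha hu]
        exact Set.smul_mem_smul_set hb
      · intro hu
        rw [← MulAction.isBlock_iff_smul_eq_of_mem.mp hB hb hu]
        exact Set.smul_mem_smul_set ha
    obtain ⟨w⟩ := (h a b hab).preconnected a x
    have : ∀ (u v : Ω) (w : (SimpleGraph.fromRel (adj a b)).Walk u v), u ∈ B → v ∈ B := by
      intro u v w
      induction w with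
      | nil => exact id
      | @cons u v w hadj _ ih =>
        intro hu
        rcases hadj.2 with h | h
        · exact ih ((hstep _ _ h).mp hu)
        · exact ih ((hstep _ _ h).mpr hu)
    exact this a x w ha

end Cfsg.Agent.S0734
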