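import Cfsg.Statements.S0740
import Cfsg.Agent.Lib.Zassenhaus.Basic

set_option autoImplicit false
open Cfsg

namespace Cfsg.Agent.S0740

/-- In a finite Zassenhaus group any two points `a ≠ b` are swapped by an involution; every such involution has exactly one fixed point when the degree is odd and 0 or 2 fixed points when the degree is even; and if the two-point stabiliser has even order, some such involution has exactly 2 fixed points. -/
theorem result {G Ω : Type*} [Group G] [Finite G] [MulAction G Ω] [Fintype Ω] (hZ : Cfsg.IsZassenhausGroup G Ω) {a b : Ω} (hab : a ≠ b) : (∃ s : G, orderOf s = 2 ∧ s • a = b ∧ s • b = a) ∧ (∀ s : G, orderOf s = 2 → s • a = b → s • b = a → (Odd (Fintype.card Ω) → Nat.card (MulAction.fixedBy Ω s) = 1) ∧ (Even (Fintype.card Ω) → Nat.card (MulAction.fixedBy Ω s) = 0 ∨ Nat.card (MulAction.fixedBy Ω s) = 2)) ∧ (Even (Fintype.card Ω) → Even (Nat.card ↥(MulAction.stabilizer G a ⊓ MulAction.stabilizer G b)) → ∃ s : G, orderOf s = 2 ∧ s • a = b ∧ s • b = a ∧ Nat.card (MulAction.fixedBy Ω s)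 = 2) := by
  obtain ⟨s, hs⟩ := Zassenhaus.exists_involution_swap hZ hab
  refine ⟨⟨s, hs⟩, ?_, ?_⟩
  · intro t ht _ _
    have ht1 : t ≠ 1 := fun h => by simp [h] at ht
    have htt : t * t = 1 := by
      have := pow_orderOf_eq_one t
      rwa [ht, pow_two] at this
    have h1 := Zassenhaus.card_fixedBy_le_two hZ ht1
    have h2 : Nat.card (MulAction.fixedBy Ω t) % 2 = Nat.card Ω % 2 := Zassenhaus.card_fixedBy_modEq htt
    rw [← Nat.card_eq_fintype_card]
    constructor
    · intro ho
      have := Nat.odd_iff.1 ho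
      omega
    · intro he
      have := Nat.even_iff.1 he
      omega
  · intro _ heven
    obtain ⟨t, ht⟩ := exists_prime_orderOf_dvd_card' 2 heven.two_dvd
    have ht' : orderOf (t : G) = 2 := by rw [Subgroup.orderOf_coe]; exact ht
    have ht1 : (t : G) ≠ 1 := fun h => by simp [h] at ht'
    have hfix : Nat.card (MulAction.fixedBy Ω (t : G)) = 2 := by
      refine le_antisymm (Zassenhaus.card_fixedBy_le_two hZ ht1) ?_
      rw [Nat.card_coe_set_eq, ← Set.ncard_pair hab]
      refine Set.ncard_le_ncard ?_ (Set.toFinite _)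
      rintro c (rfl | rfl)
      · exact t.2.1
      · exact t.2.2
    obtain ⟨g, h1, h2, h3⟩ := Zassenhaus.exists_conj_swap hZ hab ht'
    exact ⟨_, h1, h2, h3, by rw [Zassenhaus.card_fixedBy_conj, hfix]⟩

end Cfsg.Agent.S0740
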