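import Cfsg.Statements.S0754
import Cfsg.Agent.Lib.Forms.Witt

set_option autoImplicit false
open Cfsg

namespace Cfsg.Agent.S0754

/-- In a field F with q^2 elements, every non-zero μ with μ^q = μ (that is, μ in the subfield of order q) has exactly q + 1 solutions λ of λ^(q+1) = μ. -/
theorem result {F : Type*} [Field F] [Fintype F] {q : ℕ} (hF : Fintype.card F = q ^ 2) (μ : F) (hμ : μ ≠ 0) (hμq : μ ^ q = μ) : Nat.card {x : F // x ^ (q + 1) = μ} = q + 1 := by
  classical
  have hq : 1 ≤ q := by
    by_contra h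
    have : q = 0 := by omega
    subst this
    simp at hF
  have hcard : Nat.card Fˣ = (q + 1) * (q - 1) := by
    rw [Nat.card_units, Nat.card_eq_fintype_card, hF, ← Nat.sq_sub_sq, one_pow]
  let u := Units.mk0 μ hμ
  have hu : u ^ (q - 1) = 1 := by
    apply Units.ext
    have h1 : μ ^ (q - 1) * μ = 1 * μ := by
      rw [← pow_succ, Nat.sub_add_cancel hq, hμq, one_mul]
    simpa [u] using mul_right_cancel₀ hμ h1
  obtain ⟨g, hg⟩ := IsCyclic.exists_generator (α := Fˣ)
  obtain ⟨k, hk⟩ : ∃ k : ℕ, g ^ k = u := by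
    obtain ⟨k, hk⟩ := (mem_powers_iff_mem_zpowers.2 (hg u))
    exact ⟨k, hk⟩
  have hdvd : (q + 1) ∣ k := by
    have h1 : g ^ (k * (q - 1)) = 1 := by rw [pow_mul, hk, hu]
    have h2 := orderOf_dvd_of_pow_eq_one h1
    rw [orderOf_eq_card_of_forall_mem_zpowers hg, hcard] at h2
    have hq2 : 0 < q - 1 := by
      by_contra h
      have : q = 1 := by omega
      subst this
      rw [← Nat.card_eq_fintype_card, one_pow] at hF
      have := Finite.one_lt_card (α := F)
      omega
    exact Nat.dvd_of_mul_dvd_mul_right hq2 h2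
  obtain ⟨j, rfl⟩ := hdvd
  let e : (powMonoidHom (q + 1) : Fˣ →* Fˣ).ker ≃ {x : F // x ^ (q + 1) = μ} :=
    { toFun := fun z => ⟨((z.1 * g ^ j : Fˣ) : F), by
        have hz : z.1 ^ (q + 1) = 1 := z.2
        rw [← Units.val_pow_eq_pow_val, mul_pow, hz, one_mul, ← pow_mul, mul_comm, hk]
        rfl⟩
      invFun := fun x => ⟨Units.mk0 x.1 (fun h => hμ (by rw [← x.2, h, zero_pow (by omega)]))
          * (g ^ j)⁻¹, by
        rw [MonoidHom.mem_ker, powMonoidHom_apply, mul_pow, inv_pow, mul_inv_eq_one, ← pow_mul,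
          mul_comm, hk]
        apply Units.ext
        simpa [u] using x.2⟩
      left_inv := fun z => by
        apply Subtype.ext
        apply Units.ext
        simp
      right_inv := fun x => by
        apply Subtype.ext
        simp }
  rw [← Nat.card_congr e, IsCyclic.card_powMonoidHom_ker, hcard, Nat.gcd_mul_right_left]

end Cfsg.Agent.S0754
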