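import Cfsg.Statements.S0757
import Cfsg.Agent.Lib.Forms.Diag

set_option autoImplicit false
open Cfsg

namespace Cfsg.Agent.S0757

/-- The two diagonal forms Σ x_i^2 and Σ_(i<n) x_i^2 + α x_n^2 on F^(n+1), with α a non-square and 2 ≠ 0 in F, are inequivalent quadratic forms (so over a finite field of odd order there are exactly two classes of non-singular symmetric bilinear forms in each dimension). -/
theorem result {F : Type*} [Field F] (h2 : (2 : F) ≠ 0) (n : ℕ) (α : F) (hα : ¬ IsSquare α) : ¬ (QuadraticMap.weightedSumSquares F (fun _ : Fin (n + 1) => (1 : F))).Equivalent (QuadraticMap.weightedSumSquares F (fun i : Fin (n + 1) => if i = Fin.last n then α else (1 : F))) := by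
  classical
  rintro ⟨g⟩
  set w : Fin (n + 1) → F := fun i => if i = Fin.last n then α else 1 with hw
  have hpol : ∀ (c : Fin (n + 1) → F) (x y : Fin (n + 1) → F),
      QuadraticMap.polar (QuadraticMap.weightedSumSquares F c) x y
        = 2 * ∑ k, c k * x k * y k := fun c x y => by
    simp only [QuadraticMap.polar, QuadraticMap.weightedSumSquares_apply, Pi.add_apply,
      smul_eq_mul, Finset.mul_sum, ← Finset.sum_sub_distrib]
    exact Finset.sum_congr rfl fun k _ => by ring
  have h1 : ∀ i j, ∑ k, w k * g (Pi.single i 1) k * g (Pi.single j 1) k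
      = if i = j then 1 else 0 := by
    intro i j
    have h := hpol w (g (Pi.single i 1)) (g (Pi.single j 1))
    simp only [QuadraticMap.polar, ← map_add, QuadraticMap.IsometryEquiv.map_app] at h
    rw [← QuadraticMap.polar, hpol] at h
    have h' := mul_left_cancel₀ h2 h
    rw [← h']
    simp [Pi.single_apply, eq_comm]
  have h2' := Cfsg.Agent.Forms.det_transpose_mul_diag
    (Matrix.of fun k i => g (Pi.single i 1) k) w h1
  have hprod : ∏ k, w k = α := by simp [hw, Finset.prod_ite_eq']
  rw [hprod] at h2'
  refine hα ⟨(Matrix.of fun k i => g (Pi.single i 1) k).det⁻¹, ?_⟩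
  have hd : (Matrix.of fun k i => g (Pi.single i 1) k).det ≠ 0 := fun h => by
    rw [h] at h2'
    simp at h2'
  field_simp
  linear_combination h2'

end Cfsg.Agent.S0757
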