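import Cfsg.Statements.S0758
import Cfsg.Agent.Lib.Forms.Witt

set_option autoImplicit false
open Cfsg

namespace Cfsg.Agent.S0758

/-- For a finite field F of odd order q and a non-square α: the form x² + y² is isotropic iff q ≡ 1 mod 4, and the form x² + α y² is isotropic iff q ≡ 3 mod 4. -/
theorem result {F : Type*} [Field F] [Fintype F] (h2 : (2 : F) ≠ 0) (α : F) (hα : ¬ IsSquare α) : ((∃ x y : F, (x ≠ 0 ∨ y ≠ 0) ∧ x ^ 2 + y ^ 2 = 0) ↔ Fintype.card F % 4 = 1) ∧ ((∃ x y : F, (x ≠ 0 ∨ y ≠ 0) ∧ x ^ 2 + α * y ^ 2 = 0) ↔ Fintype.card F % 4 = 3) := by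
  classical
  have hc : ringChar F ≠ 2 := fun h => h2 (by
    haveI : CharP F 2 := ringChar.of_eq h
    exact CharTwo.two_eq_zero)
  have hodd := FiniteField.odd_card_of_char_ne_two hc
  have hα0 : α ≠ 0 := fun h => hα (h ▸ IsSquare.zero)
  constructor
  · constructor
    · rintro ⟨x, y, hxy, h⟩
      have hy : y ≠ 0 := by
        rintro rfl
        simp at h
        simp [h] at hxy
      have : IsSquare (-1 : F) := ⟨x / y, by field_simp; linear_combination -h⟩
      rw [FiniteField.isSquare_neg_one_iff] at this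
      omega
    · intro h
      obtain ⟨i, hi⟩ : IsSquare (-1 : F) := FiniteField.isSquare_neg_one_iff.2 (by omega)
      exact ⟨i, 1, Or.inr one_ne_zero, by linear_combination -hi⟩
  · constructor
    · rintro ⟨x, y, hxy, h⟩
      have hy : y ≠ 0 := by
        rintro rfl
        simp at h
        simp [h] at hxy
      have hns : ¬ IsSquare (-1 : F) := by
        rintro ⟨i, hi⟩
        refine hα ⟨i * (x / y), ?_⟩
        field_simp
        linear_combination h + x ^ 2 * hi
      rw [FiniteField.isSquare_neg_one_iff] at hns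
      omega
    · intro h
      have hns : ¬ IsSquare (-1 : F) := by rw [FiniteField.isSquare_neg_one_iff]; omega
      obtain ⟨r, hr⟩ : IsSquare (-α) := by
        rw [← quadraticChar_one_iff_isSquare (neg_ne_zero.2 hα0), neg_eq_neg_one_mul, map_mul,
          quadraticChar_neg_one_iff_not_isSquare.2 hns,
          quadraticChar_neg_one_iff_not_isSquare.2 hα]
        rfl
      exact ⟨r, 1, Or.inr one_ne_zero, by linear_combination -hr⟩

end Cfsg.Agent.S0758
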