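import Cfsg.Statements.S0759
import Cfsg.Agent.Lib.Forms.Diag

set_option autoImplicit false
open Cfsg

namespace Cfsg.Agent.S0759

/-- Type of the orthonormal form: over a finite field of odd order q and for m ≥ 1, the quadratic form Σ_(i<2m) x_i² on F^(2m) admits an m-dimensional subspace on which it vanishes identically if and only if it is not the case that q ≡ 3 (mod 4) and m is odd. -/
theorem result {F : Type*} [Field F] [Fintype F] (h2 : (2 : F) ≠ 0) (m : ℕ) (hm : 1 ≤ m) : (∃ W : Submodule F (Fin (2 * m) → F), Module.finrank F W = m ∧ ∀ w ∈ W, ∑ i, w i ^ 2 = 0) ↔ ¬ (Fintype.card F % 4 = 3 ∧ Odd m) := by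
  classical
  have hsq : IsSquare (-1 : F) ↔ Fintype.card F % 4 ≠ 3 := FiniteField.isSquare_neg_one_iff
  constructor
  · rintro ⟨W, hd, hW⟩ ⟨hq, hodd⟩
    have := Cfsg.Agent.Forms.neg_one_pow_square_of_half h2 W hd hW
    rw [hodd.neg_one_pow, hsq] at this
    exact this hq
  · intro h
    obtain ⟨L, hL, hzero⟩ : ∃ L : (Fin m → F) →ₗ[F] (Fin m × Fin 2 → F),
        Function.Injective L ∧ ∀ a, ∑ k : Fin m × Fin 2, L a k ^ 2 = 0 := by
      by_cases hs : IsSquare (-1 : F)
      · obtain ⟨i, hi⟩ := hs
        refine ⟨{ toFun := fun a k => ![a k.1, i * a k.1] k.2
                  map_add' := fun a b => by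
                    funext k
                    obtain ⟨k, l⟩ := k
                    fin_cases l <;> simp [mul_add]
                  map_smul' := fun c a => by
                    funext k
                    obtain ⟨k, l⟩ := k
                    fin_cases l <;> simp [mul_left_comm] }, fun a b hab => ?_, fun a => ?_⟩
        · funext k
          simpa using congrFun hab (k, 0)
        · rw [Fintype.sum_prod_type]
          refine Finset.sum_eq_zero fun k _ => ?_
          simp [Fin.sum_univ_two]
          linear_combination (-(a k ^ 2)) * hi
      · obtain ⟨j, rfl⟩ : Even m := by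
          rw [hsq] at hs
          push Not at hs
          exact Nat.not_odd_iff_even.1 fun ho => h ⟨hs, ho⟩
        haveI : Finite F := inferInstance
        obtain ⟨s, t, hst⟩ : ∃ s t : F, s ^ 2 + t ^ 2 + 1 = 0 := by
          have hc : ringChar F ≠ 2 := fun h' => h2 (by
            haveI : CharP F 2 := ringChar.of_eq h'
            exact CharTwo.two_eq_zero)
          obtain ⟨s, t, hst⟩ := FiniteField.exists_root_sum_quadratic
            (f := (Polynomial.X : Polynomial F) ^ 2 + Polynomial.C 1)
            (g := (Polynomial.X : Polynomial F) ^ 2)
            (by rw [Polynomial.degree_add_C (by rw [Polynomial.degree_X_pow]; decide),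
              Polynomial.degree_X_pow]; rfl) (Polynomial.degree_X_pow 2)
            (FiniteField.odd_card_of_char_ne_two hc)
          simp at hst
          exact ⟨s, t, by linear_combination hst⟩
        refine ⟨{ toFun := fun a k => Fin.append
                    (fun i => ![a (Fin.castAdd j i), a (Fin.natAdd j i)] k.2)
                    (fun i => ![s * a (Fin.castAdd j i) - t * a (Fin.natAdd j i),
                      t * a (Fin.castAdd j i) + s * a (Fin.natAdd j i)] k.2) k.1
                  map_add' := fun a b => by
                    funext k
                    obtain ⟨k, l⟩ := k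
                    refine Fin.addCases (fun i => ?_) (fun i => ?_) k <;>
                      fin_cases l <;> simp [-Fin.natAdd_eq_addNat] <;> ring
                  map_smul' := fun c a => by
                    funext k
                    obtain ⟨k, l⟩ := k
                    refine Fin.addCases (fun i => ?_) (fun i => ?_) k <;>
                      fin_cases l <;> simp [-Fin.natAdd_eq_addNat] <;> ring }, fun a b hab => ?_, fun a => ?_⟩
        · funext k
          refine Fin.addCases (fun i => ?_) (fun i => ?_) k
          · simpa using congrFun hab (Fin.castAdd j i, 0)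
          · simpa [-Fin.natAdd_eq_addNat] using congrFun hab (Fin.castAdd j i, 1)
        · rw [Fintype.sum_prod_type, Fin.sum_univ_add, ← Finset.sum_add_distrib]
          refine Finset.sum_eq_zero fun i _ => ?_
          simp [Fin.sum_univ_two, -Fin.natAdd_eq_addNat]
          linear_combination (a (Fin.castAdd j i) ^ 2 + a (Fin.natAdd j i) ^ 2) * hst
    let e : Fin (2 * m) ≃ Fin m × Fin 2 := (finCongr (mul_comm 2 m)).trans finProdFinEquiv.symm
    refine ⟨LinearMap.range ((LinearMap.funLeft F F e).comp L), ?_, ?_⟩
    · rw [LinearMap.finrank_range_of_inj, Module.finrank_fin_fun]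
      exact fun a b hab => hL (LinearMap.funLeft_injective_of_surjective F F e e.surjective hab)
    · rintro _ ⟨a, rfl⟩
      rw [← hzero a]
      exact e.sum_comp fun k => L a k ^ 2

end Cfsg.Agent.S0759
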