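import Cfsg.Statements.S0763
import Cfsg.Agent.Lib.Forms.Classify

set_option autoImplicit false
open Cfsg

namespace Cfsg.Agent.S0763

/-- Binary quadratic forms in characteristic two over a finite field: if Q is a quadratic form on a 2-dimensional space whose polar form is non-degenerate, then either there are vectors v, w with Q v = Q w = 0 and polar value 1 (Q is xy in these coordinates), or there are v, w and μ with Q v = 1, Q w = μ, polar value 1 and x² + x + μ without roots in F (Q is x² + xy + μy²). -/
theorem result {F V : Type*} [Field F] [Finite F] [CharP F 2] [AddCommGroup V] [Module F V] (Q : QuadraticForm F V) (h2 : Module.finrank F V = 2) (hQ : (QuadraticMap.polarBilin Q).Nondegenerate) : (∃ v w : V, LinearIndependent F ![v, w] ∧ Q v = 0 ∧ Q w = 0 ∧ QuadraticMap.polar Q v w = 1) ∨ (∃ (v w : V) (μ : F), LinearIndependent F ![v, w] ∧ (∀ x : F, x ^ 2 + x + μ ≠ 0) ∧ Q v = 1 ∧ Q w = μ ∧ QuadraticMap.polar Q v w = 1) := by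
  haveI : FiniteDimensional F V := FiniteDimensional.of_finrank_pos (by omega)
  by_cases hs : ∀ v, Q v = 0 → v = 0
  · right
    obtain ⟨a, b, hab, e, he⟩ := Cfsg.Agent.Forms.anisotropic_plane Q hs h2
    have ha : a ≠ 0 := fun h => Cfsg.Agent.Forms.disc_ne_zero_of_anisotropic hab (by
      rw [h]
      have h4 : (2 : F) = 0 := CharTwo.two_eq_zero
      linear_combination 2 * b * h4)
    refine ⟨e (1, 0), e (0, a⁻¹), b / a ^ 2, ?_, fun x hx => ?_, ?_, ?_, ?_⟩
    · rw [LinearIndependent.pair_iff]
      intro s t hst
      rw [← map_smul, ← map_smul, ← map_add, LinearEquiv.map_eq_zero_iff] at hst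
      simpa [ha] using hst
    · have := (hab (a * x) 1 (by
        field_simp at hx
        linear_combination hx)).2
      exact one_ne_zero this
    · rw [he]; simp
    · rw [he]; simp; field_simp
    · rw [QuadraticMap.polar, ← map_add, he, he, he]
      simp
      field_simp
      ring
  · left
    push Not at hs
    obtain ⟨v, hv, hv0⟩ := hs
    obtain ⟨w, hw, hvw⟩ := Cfsg.Agent.Forms.exists_singular_partner Q hQ hv0 hv
    refine ⟨v, w, ?_, hv, hw, hvw⟩
    rw [LinearIndependent.pair_iff]
    intro s t hst
    have h1 := congrArg (QuadraticMap.polar Q v) hst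
    have h2' := congrArg (QuadraticMap.polar Q w) hst
    simp [QuadraticMap.polar_add_right, QuadraticMap.polar_smul_right, QuadraticMap.polar_self,
      hv, hw, hvw, QuadraticMap.polar_comm Q w v] at h1 h2'
    exact ⟨h2', h1⟩

end Cfsg.Agent.S0763
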