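import Cfsg.Statements.S0767
import Cfsg.Agent.Lib.Linear.Symplectic

set_option autoImplicit false
open Cfsg

namespace Cfsg.Agent.S0767

/-- The root group of a point: T_v(c) T_v(d) = T_v(c + d), and for A in the symplectic group with A v = a v, the conjugate A T_v(c) A⁻¹ is again some T_v(d). -/
theorem result {F : Type*} [Field F] (m : ℕ) (v : Fin m ⊕ Fin m → F) : (∀ c d : F, Cfsg.sympTransvection m v c * Cfsg.sympTransvection m v d = Cfsg.sympTransvection m v (c + d)) ∧ ∀ (A : Matrix (Fin m ⊕ Fin m) (Fin m ⊕ Fin m) F) (a : F), A ∈ Matrix.symplecticGroup (Fin m) F → A.mulVec v = a • v → ∀ c : F, ∃ d : F, A * Cfsg.sympTransvection m v c * A⁻¹ = Cfsg.sympTransvection m v d := by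
  open Cfsg.Agent.Linear in
  refine ⟨sympTransvection_mul v, fun A a hA hAv c => ⟨a ^ 2 * c, ?_⟩⟩
  set g := spEquiv m F ⟨A, hA⟩
  have h := spTv_conj g v c
  rw [show g • v = a • v from hAv, spTv_smul_vec] at h
  have h' := congrArg (fun x : Cfsg.spGL m F => x.1.1) h
  change A * Cfsg.sympTransvection m v c * ((g⁻¹).1.1) =
    Cfsg.sympTransvection m v (a ^ 2 * c) at h'
  rw [← h']
  congr 1
  refine Matrix.inv_eq_right_inv ?_
  change g.1.1 * (g.1⁻¹).1 = 1
  exact g.1.mul_inv

end Cfsg.Agent.S0767
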