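import Cfsg.Statements.S0770
import Cfsg.Agent.EqLemmas
import Cfsg.Agent.Lib.GLOrder.Parabolic

set_option autoImplicit false
open Cfsg

namespace Cfsg.Agent.S0770

open Cfsg.Agent

/-- For a field with at least 3 elements, an invertible matrix normalises the subgroup of invertible diagonal matrices of GL_n if and only if it is monomial (exactly one non-zero entry in each row). -/
theorem result {F : Type*} [Field F] (hF : ∃ a : F, a ≠ 0 ∧ a ≠ 1) (n : ℕ) (g : Matrix.GeneralLinearGroup (Fin n) F) : g ∈ Subgroup.normalizer ((Units.map (Matrix.diagonalRingHom (Fin n) F).toMonoidHom).range : Subgroup (Matrix.GeneralLinearGroup (Fin n) F)) ↔ ∀ i : Fin n, ∃! j : Fin n, (g : Matrix (Fin n) (Fin n) F) i j ≠ 0 := by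
  classical
  obtain ⟨c, hc0, hc1⟩ := hF
  have hrow : ∀ i, ∃ j, (g : Matrix (Fin n) (Fin n) F) i j ≠ 0 := by
    intro i
    by_contra h
    push Not at h
    exact Matrix.GeneralLinearGroup.det_ne_zero g (Matrix.det_eq_zero_of_row_eq_zero i h)
  let T : Subgroup (Matrix.GeneralLinearGroup (Fin n) F) :=
    (Units.map (Matrix.diagonalRingHom (Fin n) F).toMonoidHom).range
  change g ∈ Subgroup.normalizer (T : Set (Matrix.GeneralLinearGroup (Fin n) F)) ↔ _
  have key : ∀ x y : Matrix.GeneralLinearGroup (Fin n) F, g * x = y * g →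
      g * x * g⁻¹ = y := by intro x y h; rw [h, mul_inv_cancel_right]
  constructor
  · intro hg i
    obtain ⟨j, hj⟩ := hrow i
    refine ⟨j, hj, fun j' hj' => ?_⟩
    by_contra hne
    let d : (Fin n → F)ˣ := MulEquiv.piUnits.symm (Function.update 1 j' (Units.mk0 c hc0))
    let x : Matrix.GeneralLinearGroup (Fin n) F :=
      Units.map (Matrix.diagonalRingHom (Fin n) F).toMonoidHom d
    obtain ⟨e, he⟩ := (Subgroup.mem_normalizer_iff.1 hg x).1 ⟨d, rfl⟩
    have h2 : Units.map (Matrix.diagonalRingHom (Fin n) F).toMonoidHom e * g = g * x := by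
      rw [he, inv_mul_cancel_right]
    have h3 : (Matrix.diagonal (e : Fin n → F)) * (g : Matrix (Fin n) (Fin n) F) =
        (g : Matrix (Fin n) (Fin n) F) * Matrix.diagonal (d : Fin n → F) :=
      congrArg Units.val h2
    have e1 := congrFun (congrFun h3 i) j
    have e2 := congrFun (congrFun h3 i) j'
    rw [Matrix.diagonal_mul, Matrix.mul_diagonal, mul_comm] at e1 e2
    have d1 : (d : Fin n → F) j = 1 := by
      show ((Function.update (1 : Fin n → Fˣ) j' (Units.mk0 c hc0) j : Fˣ) : F) = 1
      rw [Function.update_of_ne (Ne.symm hne)]; rfl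
    have d2 : (d : Fin n → F) j' = c := by
      show ((Function.update (1 : Fin n → Fˣ) j' (Units.mk0 c hc0) j' : Fˣ) : F) = c
      rw [Function.update_self]; rfl
    rw [d1, mul_one] at e1
    rw [d2] at e2
    have a1 : (e : Fin n → F) i = 1 :=
      mul_left_cancel₀ hj (by rw [mul_one]; exact e1)
    rw [a1] at e2
    exact hc1 (mul_left_cancel₀ hj' e2.symm)
  · intro hg
    choose σ hσ hσu using hg
    have hsurj : Function.Surjective σ := by
      intro j
      by_contra h
      push Not at h
      exact Matrix.GeneralLinearGroup.det_ne_zero g (Matrix.det_eq_zero_of_column_eq_zero j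
        fun i => by_contra fun hi => h i (hσu i j hi).symm)
    let π : Fin n ≃ Fin n := Equiv.ofBijective σ ⟨Finite.injective_iff_surjective.2 hsurj, hsurj⟩
    have conj : ∀ a b : (Fin n → F)ˣ, (∀ i, (b : Fin n → F) i = (a : Fin n → F) (π i)) →
        g * Units.map (Matrix.diagonalRingHom (Fin n) F).toMonoidHom a =
          Units.map (Matrix.diagonalRingHom (Fin n) F).toMonoidHom b * g := by
      intro a b hab
      apply Units.ext
      show (g : Matrix (Fin n) (Fin n) F) * Matrix.diagonal (a : Fin n → F) =
        Matrix.diagonal (b : Fin n → F) * (g : Matrix (Fin n) (Fin n) F)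
      ext i j
      rw [Matrix.mul_diagonal, Matrix.diagonal_mul]
      by_cases h : (g : Matrix (Fin n) (Fin n) F) i j = 0
      · rw [h, zero_mul, mul_zero]
      · rw [hab, hσu i j h, mul_comm]; rfl
    rw [Subgroup.mem_normalizer_iff]
    intro x
    constructor
    · rintro ⟨a, rfl⟩
      exact ⟨MulEquiv.piUnits.symm fun i => MulEquiv.piUnits a (π i),
        (key _ _ (conj a _ fun i => rfl)).symm⟩
    · rintro ⟨b, hb⟩
      refine ⟨MulEquiv.piUnits.symm fun i => MulEquiv.piUnits b (π.symm i), ?_⟩
      have := key _ _ (conj (MulEquiv.piUnits.symm fun i => MulEquiv.piUnits b (π.symm i)) b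
        fun i => by
          show _ = ((MulEquiv.piUnits b (π.symm (π i)) : Fˣ) : F)
          rw [π.symm_apply_apply]; rfl)
      rw [hb] at this
      exact mul_left_cancel (mul_right_cancel this)

end Cfsg.Agent.S0770
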