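import Cfsg.Statements.S0774
import Cfsg.Agent.EqLemmas
import Cfsg.Agent.Lib.SympGeom.Flags

set_option autoImplicit false
open Cfsg

namespace Cfsg.Agent.S0774

open Cfsg.Agent Matrix Module

/-- The span of the first `k + 1` left basis vectors. -/
def stdFlag {F : Type*} [Field F] {m : ℕ} (k : Fin m) : Submodule F (Fin m ⊕ Fin m → F) where
  carrier := {v | (∀ i : Fin m, (k : ℕ) < (i : ℕ) → v (Sum.inl i) = 0) ∧ ∀ i : Fin m, v (Sum.inr i) = 0}
  add_mem' {u v} hu hv := ⟨fun i hi => by simp [hu.1 i hi, hv.1 i hi], fun i => by simp [hu.2 i, hv.2 i]⟩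
  zero_mem' := ⟨fun _ _ => rfl, fun _ => rfl⟩
  smul_mem' a v hv := ⟨fun i hi => by simp [hv.1 i hi], fun i => by simp [hv.2 i]⟩

theorem finrank_stdFlag {F : Type*} [Field F] {m : ℕ} (k : Fin m) :
    finrank F (stdFlag (F := F) k) = 1 + (k : ℕ) := by
  let E : stdFlag (F := F) k ≃ₗ[F] (Fin ((k : ℕ) + 1) → F) :=
    { toFun := fun v j => v.1 (Sum.inl (Fin.castLE k.2 j))
      invFun := fun w => ⟨Sum.elim (fun i => if h : (i : ℕ) ≤ (k : ℕ) then w ⟨i, Nat.lt_succ_of_le h⟩ else 0) 0,
        fun i hi => by simp only [Sum.elim_inl, dif_neg (not_le.2 hi)], fun i => rfl⟩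
      map_add' := fun _ _ => rfl
      map_smul' := fun _ _ => rfl
      left_inv := fun v => by
        apply Subtype.ext
        funext a
        rcases a with i | i
        · by_cases h : (i : ℕ) ≤ (k : ℕ)
          · simp only [Sum.elim_inl, dif_pos h]
            rfl
          · simp only [Sum.elim_inl, dif_neg h]
            exact (v.2.1 i (not_le.1 h)).symm
        · exact (v.2.2 i).symm
      right_inv := fun w => by
        funext j
        simp only [Sum.elim_inl, Fin.val_castLE, dif_pos (Nat.le_of_lt_succ j.2)] }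
  rw [E.finrank_eq, Module.finrank_fin_fun, add_comm]

theorem stdFlag_mono {F : Type*} [Field F] {m : ℕ} : Monotone (stdFlag (F := F) (m := m)) :=
  fun i j hij v hv => ⟨fun l hl => hv.1 l (lt_of_le_of_lt (Fin.le_def.1 hij) hl), hv.2⟩

/-- Borel subgroup of the symplectic group: the elements of Sp_2m(q) stabilising each of the totally isotropic coordinate subspaces ⟨e_0, ..., e_k⟩ (k < m) form a subgroup of order q^(m²) (q − 1)^m. -/
theorem result {F : Type*} [Field F] [Fintype F] {q : ℕ} (hF : Fintype.card F = q) (m : ℕ) : Nat.card ↥(⨅ k : Fin m, Cfsg.stabilizing (Cfsg.spToMat m F) {v : Fin m ⊕ Fin m → F | (∀ i : Fin m, (k : ℕ) < (i : ℕ) → v (Sum.inl i) = 0) ∧ ∀ i : Fin m, v (Sum.inr i) = 0}) = q ^ (m ^ 2) * (q - 1) ^ m := by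
  classical
  subst hF
  have hset : ∀ k : Fin m, {v : Fin m ⊕ Fin m → F | (∀ i : Fin m, (k : ℕ) < (i : ℕ) → v (Sum.inl i) = 0) ∧
      ∀ i : Fin m, v (Sum.inr i) = 0} = (stdFlag (F := F) k : Set _) := fun k => rfl
  simp only [hset]
  have hmem : ∀ g : Matrix.symplecticGroup (Fin m) F,
      (∀ i, g.1 *ᵥ Pi.single (Sum.inl i) 1 ∈ stdFlag (F := F) i) ↔
      g ∈ ⨅ k : Fin m, Cfsg.stabilizing (Cfsg.spToMat m F) (stdFlag (F := F) k : Set _) := by
    intro g
    simp only [Subgroup.mem_iInf, SympGeom.mem_stabilizing_iff]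
    constructor
    · intro h k v hv
      have hsum : g.1 *ᵥ v = ∑ a, v a • (g.1 *ᵥ Pi.single a 1) := by
        conv_lhs => rw [pi_eq_sum_univ' v, ← Matrix.mulVecLin_apply, map_sum]
        exact Finset.sum_congr rfl fun a _ => by rw [map_smul, Matrix.mulVecLin_apply]
      rw [hsum]
      refine Submodule.sum_mem _ fun a _ => ?_
      rcases a with i | i
      · by_cases hi : (k : ℕ) < (i : ℕ)
        · rw [hv.1 i hi, zero_smul]; exact Submodule.zero_mem _
        · exact Submodule.smul_mem _ _ (stdFlag_mono (Fin.le_def.2 (not_lt.1 hi)) (h i))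
      · rw [hv.2 i, zero_smul]; exact Submodule.zero_mem _
    · intro h i
      refine h i _ ⟨fun l hl => Pi.single_eq_of_ne (fun e => ?_) _, fun l => Pi.single_eq_of_ne (by simp) _⟩
      rw [Sum.inl.injEq] at e
      subst e
      omega
  rw [← Nat.card_congr ((Equiv.refl _).subtypeEquiv hmem), Nat.card_congr (SympGeom.spFrameInEquiv _),
    SympGeom.card_frameIn m (GLOrder.sympB m F) GLOrder.sympB_self GLOrder.sympB_nondeg
      GLOrder.finrank_sympSpace _ (fun _ => 1) stdFlag_mono fun i => Or.inr ⟨?_, finrank_stdFlag i⟩]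
  · rw [Finset.prod_mul_distrib, Finset.prod_pow_eq_pow_sum, Nat.card_eq_fintype_card]
    simp only [pow_one, Finset.prod_const, Finset.card_univ, Fintype.card_fin]
    have hsum : ∀ n : ℕ, ∑ i : Fin n, (2 * (n - (i : ℕ) - 1) + 1) = n ^ 2 := by
      intro n
      induction n with
      | zero => simp
      | succ n ih =>
        rw [Fin.sum_univ_succ, Finset.sum_congr rfl fun i _ => show
          2 * (n + 1 - ((Fin.succ i : Fin (n + 1)) : ℕ) - 1) + 1 = 2 * (n - (i : ℕ) - 1) + 1 by
            rw [Fin.val_succ]; omega, ih, Fin.val_zero]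
        simp only [Nat.sub_zero, Nat.add_sub_cancel]
        ring
    rw [hsum, mul_comm]
  · intro u hu v hv
    rw [GLOrder.sympB_apply]
    exact Finset.sum_eq_zero fun l _ => by rw [hu.2 l, hv.2 l]; ring

end Cfsg.Agent.S0774
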