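import Cfsg.Statements.S0775
import Cfsg.Agent.EqLemmas
import Cfsg.Agent.Lib.SympGeom.Flags

set_option autoImplicit false
open Cfsg

namespace Cfsg.Agent.S0775

open Cfsg.Agent Matrix Module

/-- Maximal parabolics of the symplectic group: if W is a k-dimensional subspace of F^(2m) on which the symplectic form vanishes identically, its stabiliser in Sp_2m(q) has order q^(k(k+1)/2 + 2k(m−k)) · |Sp_(2m−2k)(q)| · |GL_k(q)|. -/
theorem result {F : Type*} [Field F] [Fintype F] {q : ℕ} (hF : Fintype.card F = q) (m k : ℕ) (hk : k ≤ m) (W : Submodule F (Fin m ⊕ Fin m → F)) (hWk : Module.finrank F W = k) (hW : ∀ u ∈ W, ∀ v ∈ W, Cfsg.sympForm m F u v = 0) : Nat.card ↥(Cfsg.stabilizing (Cfsg.spToMat m F) (W : Set (Fin m ⊕ Fin m → F))) = q ^ (k * (k + 1) / 2 + 2 * k * (m - k)) * (q ^ ((m - k) ^ 2) * ∏ i ∈ Finset.range (m - k), (q ^ (2 * (i + 1)) - 1)) * ∏ i : Fin k, (q ^ k - q ^ (i : ℕ)) := by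
  classical
  subst hF
  set q := Fintype.card F with hq
  have hq1 : 1 < q := Fintype.one_lt_card
  have hqN : Nat.card F = q := Nat.card_eq_fintype_card
  let c : Fin m → Submodule F (Fin m ⊕ Fin m → F) := fun i => if (i : ℕ) < k then W else ⊤
  let d : Fin m → ℕ := fun i => if (i : ℕ) < k then k - (i : ℕ) else 2 * (m - (i : ℕ))
  have hmono : Monotone c := by
    intro i j hij
    have hij' : (i : ℕ) ≤ j := hij
    simp only [c]
    split_ifs with h1 h2 h2
    · exact le_rfl
    · exact le_top
    · omega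
    · exact le_rfl
  have hcount : Nat.card (SympGeom.FrameIn (GLOrder.sympB m F) m c) =
      ∏ i : Fin m, ((Nat.card F ^ d i - 1) * Nat.card F ^ (2 * (m - (i : ℕ) - 1) + 1)) :=
    SympGeom.card_frameIn m _ GLOrder.sympB_self GLOrder.sympB_nondeg GLOrder.finrank_sympSpace c d
      hmono fun i => by
        by_cases h : (i : ℕ) < k
        · refine Or.inr ⟨?_, ?_⟩
          · simp only [c, if_pos h]; exact (SympGeom.sympB_isotropic_iff W).1 hW
          · rw [show c i = W from if_pos h, hWk]; simp only [d, if_pos h]; omega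
        · refine Or.inl ⟨?_, ?_⟩ <;> simp only [c, d, if_neg h]
  -- some element moves the standard subspace onto `W`
  have hpos : 0 < Nat.card (SympGeom.FrameIn (GLOrder.sympB m F) m c) := by
    rw [hcount]
    refine Finset.prod_pos fun i _ => Nat.mul_pos ?_ (pow_pos (by omega) _)
    rw [hqN]
    refine Nat.sub_pos_of_lt (Nat.one_lt_pow ?_ hq1)
    simp only [d]
    split_ifs <;> omega
  obtain ⟨⟨t⟩, -⟩ := Nat.card_pos_iff.1 hpos
  obtain ⟨M, hM⟩ := (SympGeom.spFrameInEquiv c).symm t
  have hspan : Submodule.span F (Set.range fun j : Fin k =>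
      M.1 *ᵥ Pi.single (Sum.inl (Fin.castLE hk j)) 1) = W := by
    refine Submodule.eq_of_le_of_finrank_eq (Submodule.span_le.2 ?_) ?_
    · rintro _ ⟨j, rfl⟩
      simpa [c] using hM (Fin.castLE hk j)
    · have hli : LinearIndependent F fun a : Fin m ⊕ Fin m => (Pi.single a 1 : Fin m ⊕ Fin m → F) := by
        have h := (Pi.basisFun F (Fin m ⊕ Fin m)).linearIndependent
        convert h using 1
        funext a
        rw [Pi.basisFun_apply]
      have hinj : LinearMap.ker M.1.mulVecLin = ⊥ :=
        LinearMap.ker_eq_bot.2 (SympGeom.mulVec_injective M)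
      rw [hWk, finrank_span_eq_card, Fintype.card_fin]
      exact (hli.comp _ (Sum.inl_injective.comp (Fin.castLE_injective hk))).map' M.1.mulVecLin hinj
  have hmem : ∀ g : Matrix.symplecticGroup (Fin m) F,
      g ∈ Cfsg.stabilizing (Cfsg.spToMat m F) (W : Set _) ↔
      ∀ i, (g * M).1 *ᵥ Pi.single (Sum.inl i) 1 ∈ c i := by
    intro g
    rw [SympGeom.mem_stabilizing_iff]
    simp only [Submonoid.coe_mul, ← Matrix.mulVec_mulVec]
    constructor
    · intro h i
      have hi := hM i
      simp only [c] at hi ⊢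
      split_ifs with hik
      · rw [if_pos hik] at hi; exact h _ hi
      · exact Submodule.mem_top
    · intro h
      suffices hle : W ≤ W.comap g.1.mulVecLin from fun v hv => hle hv
      conv_lhs => rw [← hspan]
      rw [Submodule.span_le]
      rintro _ ⟨j, rfl⟩
      simpa [c] using h (Fin.castLE hk j)
  rw [Nat.card_congr ((Equiv.mulRight M).subtypeEquiv (q := fun g : Matrix.symplecticGroup (Fin m) F =>
      ∀ i, g.1 *ᵥ Pi.single (Sum.inl i) 1 ∈ c i) hmem),
    Nat.card_congr (SympGeom.spFrameInEquiv c), hcount, hqN]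
  -- the arithmetic
  obtain ⟨n, rfl⟩ := Nat.exists_eq_add_of_le hk
  rw [Nat.add_sub_cancel_left, Fin.prod_univ_add]
  have hB : ∏ j : Fin n, ((q ^ d (Fin.natAdd k j) - 1) *
      q ^ (2 * (k + n - ((Fin.natAdd k j : Fin (k + n)) : ℕ) - 1) + 1)) =
      q ^ (n ^ 2) * ∏ i ∈ Finset.range n, (q ^ (2 * (i + 1)) - 1) := by
    rw [← Fin.prod_univ_eq_prod_range, Finset.prod_mul_distrib, mul_comm, Finset.prod_pow_eq_pow_sum]
    congr 1
    · congr 1
      rw [← Equiv.sum_comp Fin.revPerm]
      have : ∀ l : ℕ, ∑ i : Fin l, (2 * (i : ℕ) + 1) = l ^ 2 := by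
        intro l
        induction l with
        | zero => simp
        | succ l ih =>
          rw [Fin.sum_univ_castSucc]
          simp only [Fin.val_castSucc, ih, Fin.val_last]
          ring
      rw [← this n]
      refine Finset.sum_congr rfl fun j _ => ?_
      simp only [Fin.revPerm_apply, Fin.val_natAdd, Fin.val_rev]
      omega
    · rw [← Equiv.prod_comp Fin.revPerm]
      refine Finset.prod_congr rfl fun j _ => ?_
      simp only [d, Fin.revPerm_apply, Fin.val_natAdd, Fin.val_rev,
        if_neg (show ¬ k + (n - ((j : ℕ) + 1)) < k by omega)]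
      congr 2
      omega
  have hA : ∏ j : Fin k, ((q ^ d (Fin.castAdd n j) - 1) *
      q ^ (2 * (k + n - ((Fin.castAdd n j : Fin (k + n)) : ℕ) - 1) + 1)) =
      q ^ (k * (k + 1) / 2 + 2 * k * n) * ∏ i : Fin k, (q ^ k - q ^ (i : ℕ)) := by
    rw [Fin.prod_univ_eq_prod_range (fun i => q ^ k - q ^ i), GLOrder.prod_pow_sub_pow, ← mul_assoc,
      ← pow_add, Finset.prod_mul_distrib, mul_comm, Finset.prod_pow_eq_pow_sum,
      ← Fin.prod_univ_eq_prod_range]
    congr 1
    · congr 1
      have h2 : ∀ l : ℕ, ∑ i : Fin l, (2 * (l + n - (i : ℕ) - 1) + 1) =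
          l * (l + 1) / 2 + 2 * l * n + l * (l - 1) / 2 := by
        intro l
        induction l with
        | zero => simp
        | succ l ih =>
          rw [Fin.sum_univ_succ, Finset.sum_congr rfl fun i _ => show
            2 * (l + 1 + n - ((Fin.succ i : Fin (l + 1)) : ℕ) - 1) + 1 =
              2 * (l + n - (i : ℕ) - 1) + 1 by rw [Fin.val_succ]; omega, ih, Fin.val_zero]
          have e1 : (l + 1) * (l + 1 + 1) / 2 = l * (l + 1) / 2 + (l + 1) := by
            rw [show (l + 1) * (l + 1 + 1) = l * (l + 1) + (l + 1) * 2 by ring,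
              Nat.add_mul_div_right _ _ (by norm_num)]
          have e2 : (l + 1) * (l + 1 - 1) / 2 = l * (l - 1) / 2 + l := by
            rw [Nat.add_sub_cancel]
            rcases l with _ | l
            · simp
            · rw [show (l + 1 + 1) * (l + 1) = (l + 1) * (l + 1 - 1) + (l + 1) * 2 by
                rw [Nat.add_sub_cancel]; ring, Nat.add_mul_div_right _ _ (by norm_num)]
          have e3 : 2 * (l + 1) * n = 2 * l * n + 2 * n := by ring
          rw [e1, e2, e3]
          omega
      simpa using h2 k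
    · rw [← Equiv.prod_comp Fin.revPerm]
      refine Finset.prod_congr rfl fun j _ => ?_
      simp only [d, Fin.revPerm_apply, Fin.val_castAdd, Fin.val_rev,
        if_pos (show k - ((j : ℕ) + 1) < k by omega)]
      congr 2
      omega
  rw [hA, hB]
  ring

end Cfsg.Agent.S0775
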