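import Cfsg.Statements.S0776
import Cfsg.Agent.EqLemmas
import Cfsg.Agent.Lib.SympGeom.Iso
import Cfsg.Agent.Lib.SympGeom.Flags

set_option autoImplicit false
open Cfsg

namespace Cfsg.Agent.S0776

open Cfsg.Agent Module

/-- If W ≤ F^(2m) is a 2k-dimensional subspace on which the symplectic form is non-degenerate, then the stabiliser of W in Sp_2m(F) is isomorphic to Sp_2k(F) × Sp_(2m−2k)(F). -/
theorem result {F : Type*} [Field F] (m k : ℕ) (hk : k ≤ m) (W : Submodule F (Fin m ⊕ Fin m → F)) (hWk : Module.finrank F W = 2 * k) (hW : ∀ u ∈ W, (∀ v ∈ W, Cfsg.sympForm m F u v = 0) → u = 0) : Nonempty (↥(Cfsg.stabilizing (Cfsg.spToMat m F) (W : Set (Fin m ⊕ Fin m → F))) ≃* Matrix.symplecticGroup (Fin k) F × Matrix.symplecticGroup (Fin (m - k)) F) := by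
  classical
  set B := GLOrder.sympB m F with hB
  have halt : ∀ x, B x x = 0 := GLOrder.sympB_self
  have hrefl : B.IsRefl := fun x y h => by
    rw [GLOrder.alt_swap halt x y, h, neg_zero]
  have hW' : ∀ u ∈ W, (∀ v ∈ W, B u v = 0) → u = 0 := fun u hu h => hW u hu fun v hv => by
    simpa [hB, GLOrder.sympB_eq_neg_sympForm] using h v hv
  have hndW : ∀ x : W, (∀ y : W, GLOrder.resForm B W x y = 0) → x = 0 := fun x h =>
    Subtype.ext (hW' x x.2 fun v hv => h ⟨v, hv⟩)
  have hres : (B.restrict W).Nondegenerate :=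
    ⟨hndW, fun y hy => hndW y fun x => hrefl _ _ (hy x)⟩
  set P := B.orthogonal W with hP
  have hc : IsCompl W P := LinearMap.BilinForm.isCompl_orthogonal_of_restrict_nondegenerate hrefl hres
  have hmemP : ∀ v, (∀ w ∈ W, B w v = 0) → v ∈ P := fun v h => fun w hw => h w hw
  have horth : ∀ w ∈ W, ∀ p ∈ P, B w p = 0 ∧ B p w = 0 := fun w hw p hp =>
    ⟨hp w hw, hrefl _ _ (hp w hw)⟩
  have hndP : ∀ x : P, (∀ y : P, GLOrder.resForm B P x y = 0) → x = 0 := fun x h => by
    refine Subtype.ext (GLOrder.sympB_nondeg _ fun v => ?_)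
    obtain ⟨a, b, rfl⟩ := SympGeom.exists_add_of_isCompl hc v
    rw [← hB, map_add, show B (x : Fin m ⊕ Fin m → F) b = 0 from h b, (horth _ a.2 _ x.2).2, add_zero]
  have hPk : finrank F P = 2 * (m - k) := by
    have := Submodule.finrank_add_eq_of_isCompl hc
    rw [hWk, GLOrder.finrank_sympSpace] at this
    omega
  obtain ⟨e₁⟩ := SympGeom.nonempty_isoGrp_equiv (GLOrder.resForm B W) (fun x => halt x) hndW hWk
  obtain ⟨e₂⟩ := SympGeom.nonempty_isoGrp_equiv (GLOrder.resForm B P) (fun x => halt x) hndP hPk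
  obtain ⟨E⟩ := SympGeom.nonempty_stabProdEquiv W P hc horth hmemP
  have hmap : (Cfsg.stabilizing (Cfsg.spToMat m F) (W : Set (Fin m ⊕ Fin m → F))).map
      (SympGeom.spIso m F).toMonoidHom = SympGeom.stabSub B W := by
    ext g
    rw [Subgroup.mem_map_equiv]
    obtain ⟨h, rfl⟩ := (SympGeom.spIso m F).surjective g
    rw [MulEquiv.symm_apply_apply]
    exact Iff.rfl
  exact ⟨((MulEquiv.subgroupMap (SympGeom.spIso m F) _).trans (MulEquiv.subgroupCongr hmap)).trans
    (E.trans (MulEquiv.prodCongr e₁ e₂))⟩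

end Cfsg.Agent.S0776
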