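import Cfsg.Statements.S0777
import Cfsg.Agent.EqLemmas
import Cfsg.Agent.Lib.GLOrder.Symplectic

set_option autoImplicit false
open Cfsg

namespace Cfsg.Agent.S0777

open Cfsg.Agent Matrix

variable {F : Type*} [Field F] {m : ℕ}

/-- The basis index `(i, b)`. -/
def pt (i : Fin m) : Bool → Fin m ⊕ Fin m
  | false => .inl i
  | true => .inr i

/-- The sign of a basis index. -/
def sg (F : Type*) [Field F] : Bool → F
  | false => 1
  | true => -1

theorem sg_mul_sg (b : Bool) : sg F b * sg F b = 1 := by cases b <;> simp [sg]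

theorem pt_surj (a : Fin m ⊕ Fin m) : ∃ i b, a = pt i b := by
  rcases a with i | i
  · exact ⟨i, false, rfl⟩
  · exact ⟨i, true, rfl⟩

theorem pt_inj {i j : Fin m} {a b : Bool} (h : pt i a = pt j b) : i = j ∧ a = b := by
  cases a <;> cases b <;> simp [pt] at h <;> simp [h]

theorem sympB_single (i j : Fin m) (a b : Bool) (x y : F) :
    GLOrder.sympB m F (Pi.single (pt i a) x) (Pi.single (pt j b) y) =
      if i = j ∧ a ≠ b then sg F a * x * y else 0 := by
  rw [GLOrder.sympB_apply]
  cases a <;> cases b <;> by_cases h : i = j <;>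
    simp [pt, sg, Pi.single_apply, h, eq_comm]

/-- The data of a monomial symplectic matrix. -/
abbrev Data (F : Type*) [Field F] (m : ℕ) : Type _ :=
  Equiv.Perm (Fin m) × (Fin m → Bool) × (Fin m → Fˣ)

/-- The monomial symplectic matrix attached to data. -/
noncomputable def mono (d : Data F m) : Matrix.symplecticGroup (Fin m) F :=
  (GLOrder.spFrameEquiv m F).symm ⟨(fun i => Pi.single (pt (d.1 i) (d.2.1 i)) (d.2.2 i : F),
    fun i => Pi.single (pt (d.1 i) (!d.2.1 i)) (sg F (d.2.1 i) * ((d.2.2 i)⁻¹ : Fˣ))), by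
    refine ⟨fun i j => ?_, fun i j => ?_, fun i j => ?_⟩ <;> rw [sympB_single]
    · exact if_neg fun h => h.2 (by rw [d.1.injective h.1])
    · exact if_neg fun h => h.2 (by rw [d.1.injective h.1])
    · by_cases h : i = j
      · subst h
        rw [if_pos ⟨rfl, by simp⟩, if_pos rfl]
        linear_combination (d.2.2 i : F) * ((d.2.2 i)⁻¹ : Fˣ) * sg_mul_sg (F := F) (d.2.1 i) +
          Units.mul_inv (d.2.2 i)
      · rw [if_neg fun h' => h (d.1.injective h'.1), if_neg h]⟩

theorem mono_col_inl (d : Data F m) (i : Fin m) :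
    (mono d).1 *ᵥ Pi.single (.inl i) 1 = Pi.single (pt (d.1 i) (d.2.1 i)) (d.2.2 i : F) := by
  rw [Matrix.mulVec_single_one]; rfl

theorem mono_col_inr (d : Data F m) (i : Fin m) :
    (mono d).1 *ᵥ Pi.single (.inr i) 1 =
      Pi.single (pt (d.1 i) (!d.2.1 i)) (sg F (d.2.1 i) * ((d.2.2 i)⁻¹ : Fˣ)) := by
  rw [Matrix.mulVec_single_one]; rfl

theorem mono_col (d : Data F m) (a : Fin m ⊕ Fin m) :
    ∃ b c, (mono d).1 *ᵥ Pi.single a 1 = Pi.single b c := by
  rcases a with i | i
  · exact ⟨_, _, mono_col_inl d i⟩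
  · exact ⟨_, _, mono_col_inr d i⟩

theorem mono_injective : Function.Injective (mono (F := F) (m := m)) := by
  intro d d' h
  have key : ∀ i, d.1 i = d'.1 i ∧ d.2.1 i = d'.2.1 i ∧ d.2.2 i = d'.2.2 i := by
    intro i
    have hi := (mono_col_inl d i).symm.trans (h ▸ mono_col_inl d' i)
    have hb : pt (d.1 i) (d.2.1 i) = pt (d'.1 i) (d'.2.1 i) := by
      by_contra hne
      have := congrFun hi (pt (d.1 i) (d.2.1 i))
      rw [Pi.single_eq_same, Pi.single_eq_of_ne hne] at this
      exact (d.2.2 i).ne_zero this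
    obtain ⟨h1, h2⟩ := pt_inj hb
    rw [hb] at hi
    exact ⟨h1, h2, Units.ext (Pi.single_injective _ hi)⟩
  exact Prod.ext (Equiv.ext fun i => (key i).1)
    (Prod.ext (funext fun i => (key i).2.1) (funext fun i => (key i).2.2))

theorem exists_mono_eq (g : Matrix.symplecticGroup (Fin m) F)
    (hg : ∀ a, ∃ b c, g.1 *ᵥ Pi.single a 1 = Pi.single b c) : ∃ d, mono d = g := by
  have hg' : ∀ a, ∃ j b c, g.1 *ᵥ Pi.single a 1 = Pi.single (pt j b) c := by
    intro a
    obtain ⟨b, c, h⟩ := hg a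
    obtain ⟨j, b', rfl⟩ := pt_surj b
    exact ⟨j, b', c, h⟩
  choose τ ε c hc using hg'
  have hc0 : ∀ a, c a ≠ 0 := by
    intro a h0
    have := hc a
    rw [h0, Pi.single_zero] at this
    have h1 : (g⁻¹).1 *ᵥ (g.1 *ᵥ Pi.single a 1) = Pi.single a 1 := by
      rw [Matrix.mulVec_mulVec, ← Submonoid.coe_mul, inv_mul_cancel, Submonoid.coe_one,
        Matrix.one_mulVec]
    rw [this, Matrix.mulVec_zero] at h1
    simpa using congrFun h1 a
  have hB : ∀ a b, GLOrder.sympB m F (Pi.single a 1) (Pi.single b 1) =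
      if τ a = τ b ∧ ε a ≠ ε b then sg F (ε a) * c a * c b else 0 := by
    intro a b
    rw [← GLOrder.sympB_mulVec g, hc, hc, sympB_single]
  have e1 : ∀ i j : Fin m, GLOrder.sympB m F (Pi.single (.inl i) 1) (Pi.single (.inr j) 1) =
      if i = j then 1 else 0 := fun i j => by
    simpa [pt, sg] using sympB_single (F := F) i j false true 1 1
  have e2 : ∀ i j : Fin m,
      GLOrder.sympB m F (Pi.single (.inl i) 1) (Pi.single (.inl j) 1) = 0 := fun i j => by
    simpa [pt, sg] using sympB_single (F := F) i j false false 1 1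
  have hef : ∀ i, τ (.inl i) = τ (.inr i) ∧ ε (.inl i) ≠ ε (.inr i) ∧
      sg F (ε (.inl i)) * c (.inl i) * c (.inr i) = 1 := by
    intro i
    have h := (e1 i i).symm.trans (hB _ _)
    rw [if_pos rfl] at h
    by_cases h' : τ (.inl i) = τ (.inr i) ∧ ε (.inl i) ≠ ε (.inr i)
    · rw [if_pos h'] at h; exact ⟨h'.1, h'.2, h.symm⟩
    · rw [if_neg h'] at h; exact absurd h one_ne_zero
  have hτ : Function.Injective fun i => τ (.inl i) := by
    intro i i' h
    by_contra hne
    simp only at h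
    have hs : sg F (ε (.inl i)) ≠ 0 := by cases ε (.inl i) <;> simp [sg]
    by_cases he : ε (.inl i) = ε (.inl i')
    · have hb := (e1 i i').symm.trans (hB _ _)
      rw [if_neg hne, if_pos ⟨h.trans (hef i').1, he ▸ (hef i').2.1⟩] at hb
      exact mul_ne_zero (mul_ne_zero hs (hc0 _)) (hc0 _) hb.symm
    · have hb := (e2 i i').symm.trans (hB _ _)
      rw [if_pos ⟨h, he⟩] at hb
      exact mul_ne_zero (mul_ne_zero hs (hc0 _)) (hc0 _) hb.symm
  refine ⟨(Equiv.ofBijective _ ⟨hτ, Finite.injective_iff_surjective.1 hτ⟩,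
    fun i => ε (.inl i), fun i => Units.mk0 _ (hc0 (.inl i))), ?_⟩
  apply Subtype.ext
  apply Matrix.ext_of_mulVec_single
  rintro (i | i)
  · rw [mono_col_inl, hc]; rfl
  · rw [mono_col_inr, hc]
    obtain ⟨h1, h2, h3⟩ := hef i
    show (Pi.single (pt (τ (.inl i)) (!ε (.inl i)))
      (sg F (ε (.inl i)) * ((Units.mk0 _ (hc0 (.inl i)))⁻¹ : Fˣ)) : Fin m ⊕ Fin m → F) = _
    rw [h1, show (!ε (.inl i)) = ε (.inr i) by
      revert h2; cases ε (.inl i) <;> cases ε (.inr i) <;> simp]
    congr 1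
    rw [Units.val_inv_eq_inv_val, Units.val_mk0]
    field_simp [hc0 (.inl i)]
    linear_combination (-(sg F (ε (.inl i)))) * h3 +
      (c (.inl i) * c (.inr i)) * sg_mul_sg (F := F) (ε (.inl i))

/-- Weyl group of type C_m: for q ≥ 4 the diagonal matrices of Sp_2m(q) form a torus T ≅ (C_(q−1))^m (the elements stabilising every coordinate axis), and the normaliser of T in Sp_2m(q) has order 2^m · m! · (q − 1)^m. -/
theorem result {F : Type*} [Field F] [Fintype F] {q : ℕ} (hF : Fintype.card F = q) (hq : 4 ≤ q) (m : ℕ) : Nat.card ↥(Subgroup.normalizer (⨅ i : Fin m ⊕ Fin m, Cfsg.stabilizing (Cfsg.spToMat m F) ((Submodule.span F {(Pi.single i (1 : F) : Fin m ⊕ Fin m → F)} : Submodule F (Fin m ⊕ Fin m → F)) : Set (Fin m ⊕ Fin m → F)) : Set (Matrix.symplecticGroup (Fin m) F))) = 2 ^ m * Nat.factorial m * (q - 1) ^ m := by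
  classical
  subst hF
  set T := ⨅ i : Fin m ⊕ Fin m, Cfsg.stabilizing (Cfsg.spToMat m F)
    ((Submodule.span F {(Pi.single i (1 : F) : Fin m ⊕ Fin m → F)} :
      Submodule F (Fin m ⊕ Fin m → F)) : Set (Fin m ⊕ Fin m → F)) with hT
  have memT : ∀ t : Matrix.symplecticGroup (Fin m) F,
      t ∈ T ↔ ∀ a, ∃ c : F, t.1 *ᵥ Pi.single a 1 = Pi.single a c := by
    intro t
    rw [hT, Subgroup.mem_iInf]
    constructor
    · intro h a
      obtain ⟨c, hc⟩ := Submodule.mem_span_singleton.1
        ((h a (Pi.single a 1)).1 (Submodule.mem_span_singleton_self _))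
      exact ⟨c, hc.symm.trans (by rw [← Pi.single_smul', smul_eq_mul, mul_one])⟩
    · intro h a v
      obtain ⟨c, hc⟩ := h a
      have hc0 : c ≠ 0 := by
        rintro rfl
        have h1 : (t⁻¹).1 *ᵥ (t.1 *ᵥ Pi.single a 1) = Pi.single a 1 := by
          rw [Matrix.mulVec_mulVec, ← Submonoid.coe_mul, inv_mul_cancel, Submonoid.coe_one,
            Matrix.one_mulVec]
        rw [hc, Pi.single_zero, Matrix.mulVec_zero] at h1
        simpa using congrFun h1 a
      simp only [SetLike.mem_coe, Submodule.mem_span_singleton]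
      constructor
      · rintro ⟨r, rfl⟩
        refine ⟨r * c, ?_⟩
        show _ = t.1 *ᵥ _
        rw [Matrix.mulVec_smul, hc, ← Pi.single_smul', ← Pi.single_smul', smul_eq_mul,
          smul_eq_mul, mul_one]
      · rintro ⟨r, hr⟩
        refine ⟨r * c⁻¹, ?_⟩
        apply Matrix.mulVec_injective_iff_isUnit.2
          ((Matrix.isUnit_iff_isUnit_det _).2 (SymplecticGroup.symplectic_det t.2))
        show t.1 *ᵥ _ = t.1 *ᵥ v
        rw [Matrix.mulVec_smul, hc]
        refine Eq.trans ?_ hr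
        rw [← Pi.single_smul', ← Pi.single_smul', smul_eq_mul, smul_eq_mul, mul_one,
          mul_assoc, inv_mul_cancel₀ hc0, mul_one]
  have hmono : ∀ d, mono d ∈ Subgroup.normalizer (T : Set (Matrix.symplecticGroup (Fin m) F)) := by
    intro d
    have : Finite (Matrix.symplecticGroup (Fin m) F) := inferInstance
    apply Subgroup.mem_normalizer_fintype
    intro t ht
    rw [SetLike.mem_coe, memT] at ht ⊢
    intro b
    obtain ⟨j, e, rfl⟩ := pt_surj b
    obtain ⟨i, rfl⟩ := d.1.surjective j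
    obtain ⟨a, c, hc, hc0⟩ : ∃ a c, (mono d).1 *ᵥ Pi.single a 1 = Pi.single (pt (d.1 i) e) c ∧
        c ≠ 0 := by
      by_cases he : e = d.2.1 i
      · exact ⟨_, _, he ▸ mono_col_inl d i, (d.2.2 i).ne_zero⟩
      · have : e = !d.2.1 i := by revert he; cases e <;> cases d.2.1 i <;> simp
        exact ⟨_, _, this ▸ mono_col_inr d i,
          mul_ne_zero (by cases d.2.1 i <;> simp [sg]) (Units.ne_zero _)⟩
    obtain ⟨x, hx⟩ := ht a
    refine ⟨x, ?_⟩
    have e1 : (Pi.single (pt (d.1 i) e) 1 : Fin m ⊕ Fin m → F) =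
        c⁻¹ • ((mono d).1 *ᵥ Pi.single a 1) := by
      rw [hc, ← Pi.single_smul', smul_eq_mul, inv_mul_cancel₀ hc0]
    rw [e1, Matrix.mulVec_smul, Matrix.mulVec_mulVec, ← Submonoid.coe_mul, inv_mul_cancel_right,
      Submonoid.coe_mul, ← Matrix.mulVec_mulVec, hx,
      show (Pi.single a x : Fin m ⊕ Fin m → F) = x • Pi.single a 1 by
        rw [← Pi.single_smul', smul_eq_mul, mul_one],
      Matrix.mulVec_smul, hc, ← Pi.single_smul', ← Pi.single_smul', smul_eq_mul, smul_eq_mul]
    congr 1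
    field_simp
  have hnorm : ∀ g ∈ Subgroup.normalizer (T : Set (Matrix.symplecticGroup (Fin m) F)),
      ∀ a, ∃ b c, g.1 *ᵥ Pi.single a 1 = Pi.single b c := by
    intro g hg a
    obtain ⟨z, hz1, hz2⟩ : ∃ z : Fˣ, z ≠ 1 ∧ z ≠ -1 := by
      by_contra h
      push Not at h
      have hsub : (Finset.univ : Finset Fˣ) ⊆ {1, -1} := fun z _ => by
        by_cases h1 : z = 1
        · simp [h1]
        · simp [h z h1]
      have := (Finset.card_le_card hsub).trans Finset.card_le_two
      rw [Finset.card_univ, Fintype.card_units] at this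
      omega
    have hz : (z : F) ≠ ((z⁻¹ : Fˣ) : F) := by
      intro h
      have h2 : (z : F) * z = 1 := by nth_rw 2 [h]; exact Units.mul_inv z
      rcases mul_self_eq_one_iff.1 h2 with h' | h'
      · exact hz1 (Units.ext h')
      · exact hz2 (Units.ext h')
    have col : ∀ b b', g.1 b a ≠ 0 → g.1 b' a ≠ 0 → b = b' := by
      intro b b' hb hb'
      by_contra hne
      obtain ⟨i, e, rfl⟩ := pt_surj b
      obtain ⟨i', e', rfl⟩ := pt_surj b'
      let d : Data F m := (1, fun _ => false, Function.update 1 i z)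
      let diag : Fin m ⊕ Fin m → F :=
        Sum.elim (fun j => (d.2.2 j : F)) (fun j => ((d.2.2 j)⁻¹ : Fˣ))
      have hd : ∀ b, (mono d).1 *ᵥ Pi.single b 1 = Pi.single b (diag b) := by
        rintro (j | j)
        · exact mono_col_inl d j
        · rw [mono_col_inr]; simp [d, sg, pt, diag]
      have hdT : mono d ∈ T := (memT _).2 fun b => ⟨_, hd b⟩
      have hh : g⁻¹ * mono d * g ∈ T := by
        simpa using (Subgroup.mem_normalizer_iff.1 (inv_mem hg) (mono d)).1 hdT
      obtain ⟨x, hx⟩ := (memT _).1 hh a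
      have h3 : (mono d).1 *ᵥ (g.1 *ᵥ Pi.single a 1) = x • (g.1 *ᵥ Pi.single a 1) := by
        rw [← Matrix.mulVec_smul, ← Pi.single_smul', smul_eq_mul, mul_one, ← hx,
          Matrix.mulVec_mulVec, Matrix.mulVec_mulVec, ← Submonoid.coe_mul, ← Submonoid.coe_mul,
          mul_assoc g⁻¹, mul_inv_cancel_left]
      have hdiag : (mono d).1 = Matrix.diagonal diag :=
        Matrix.ext_of_mulVec_single fun b => by rw [hd, Matrix.diagonal_mulVec_single, mul_one]
      rw [hdiag, Matrix.mulVec_single_one] at h3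
      have k1 := congrFun h3 (pt i e)
      have k2 := congrFun h3 (pt i' e')
      rw [Matrix.mulVec_diagonal, Pi.smul_apply, smul_eq_mul] at k1 k2
      have k : diag (pt i e) = diag (pt i' e') :=
        (mul_right_cancel₀ hb k1).trans (mul_right_cancel₀ hb' k2).symm
      have hone : z ≠ 1 ∧ (z⁻¹ : Fˣ) ≠ 1 := ⟨hz1, by simpa using hz1⟩
      have hone' : (z : F) ≠ 1 ∧ ((z⁻¹ : Fˣ) : F) ≠ 1 :=
        ⟨fun h => hone.1 (Units.ext h), fun h => hone.2 (Units.ext h)⟩
      by_cases hi : i' = i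
      · subst hi
        cases e <;> cases e' <;>
          simp only [diag, d, pt, Sum.elim_inl, Sum.elim_inr, Function.update_self] at k
        · exact hne rfl
        · exact hz k
        · exact hz k.symm
        · exact hne rfl
      · cases e <;> cases e' <;>
          simp only [diag, d, pt, Sum.elim_inl, Sum.elim_inr, Function.update_self,
            Function.update_of_ne hi, Pi.one_apply, inv_one, Units.val_one] at k
        all_goals first | exact hone'.1 k | exact hone'.2 k
    obtain ⟨b, hb⟩ : ∃ b, g.1 b a ≠ 0 := by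
      by_contra h
      push Not at h
      exact (SymplecticGroup.symplectic_det g.2).ne_zero (Matrix.det_eq_zero_of_column_eq_zero a h)
    refine ⟨b, g.1 b a, ?_⟩
    rw [Matrix.mulVec_single_one]
    funext b'
    rcases eq_or_ne b' b with rfl | h
    · simp [Matrix.col]
    · rw [Pi.single_eq_of_ne h]
      by_contra h'
      exact h (col _ _ h' hb)
  let Φ : Data F m → Subgroup.normalizer (T : Set (Matrix.symplecticGroup (Fin m) F)) :=
    fun d => ⟨mono d, hmono d⟩
  have hΦ : Function.Bijective Φ :=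
    ⟨fun d d' h => mono_injective (congrArg Subtype.val h), fun g => by
      obtain ⟨d, hd⟩ := exists_mono_eq g.1 (hnorm g.1 g.2)
      exact ⟨d, Subtype.ext hd⟩⟩
  have hset : ⨅ i : Fin m ⊕ Fin m, (Cfsg.stabilizing (Cfsg.spToMat m F)
      ((Submodule.span F {(Pi.single i (1 : F) : Fin m ⊕ Fin m → F)} :
        Submodule F (Fin m ⊕ Fin m → F)) : Set (Fin m ⊕ Fin m → F)) :
        Set (Matrix.symplecticGroup (Fin m) F)) = (T : Set (Matrix.symplecticGroup (Fin m) F)) := by
    rw [hT, Subgroup.coe_iInf, Set.iInf_eq_iInter]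
  rw [hset, ← Nat.card_congr (Equiv.ofBijective Φ hΦ), Nat.card_prod, Nat.card_prod, Nat.card_perm,
    Nat.card_fun, Nat.card_fun, GLOrder.card_units, Nat.card_fin,
    Nat.card_eq_fintype_card (α := Bool), Fintype.card_bool,
    Nat.card_eq_fintype_card (α := F)]
  ring

end Cfsg.Agent.S0777
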