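import Cfsg.Statements.S0778
import Cfsg.Agent.EqLemmas
import Cfsg.Agent.Lib.SympGeom.Flags

set_option autoImplicit false
open Cfsg

namespace Cfsg.Agent.S0778

open Cfsg.Agent Matrix

/-- The block matrix `diag(A, A⁻ᵀ)`. -/
def blockMat {F : Type*} [Field F] {m : ℕ} (A : GL (Fin m) F) :
    Matrix (Fin m ⊕ Fin m) (Fin m ⊕ Fin m) F :=
  Matrix.fromBlocks A.1 0 0 (A⁻¹).1ᵀ

theorem blockMat_mem {F : Type*} [Field F] {m : ℕ} (A : GL (Fin m) F) :
    blockMat A ∈ Matrix.symplecticGroup (Fin m) F := by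
  rw [SymplecticGroup.mem_iff]
  simp [blockMat, Matrix.J, Matrix.fromBlocks_transpose, Matrix.fromBlocks_multiply,
    ← Matrix.transpose_mul]

theorem blockMat_mulVec {F : Type*} [Field F] {m : ℕ} (A : GL (Fin m) F) (v : Fin m ⊕ Fin m → F) :
    blockMat A *ᵥ v = Sum.elim (A.1 *ᵥ (v ∘ Sum.inl)) ((A⁻¹).1ᵀ *ᵥ (v ∘ Sum.inr)) := by
  rw [blockMat, Matrix.fromBlocks_mulVec]
  simp [Matrix.zero_mulVec]

/-- `A ↦ diag(A, A⁻ᵀ)`. -/
def blockHom (m : ℕ) (F : Type*) [Field F] :
    GL (Fin m) F →* Matrix.symplecticGroup (Fin m) F where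
  toFun A := ⟨blockMat A, blockMat_mem A⟩
  map_one' := Subtype.ext (by simp [blockMat, Matrix.fromBlocks_one])
  map_mul' A B := Subtype.ext (by simp [blockMat, Matrix.fromBlocks_multiply, ← Matrix.transpose_mul])

/-- The vectors with vanishing second half. -/
def subL (m : ℕ) (F : Type*) [Field F] : Submodule F (Fin m ⊕ Fin m → F) where
  carrier := {v | ∀ i : Fin m, v (Sum.inr i) = 0}
  add_mem' {u v} hu hv i := by simp [hu i, hv i]
  zero_mem' _ := rfl
  smul_mem' c v hv i := by simp [hv i]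

/-- The vectors with vanishing first half. -/
def subR (m : ℕ) (F : Type*) [Field F] : Submodule F (Fin m ⊕ Fin m → F) where
  carrier := {v | ∀ i : Fin m, v (Sum.inl i) = 0}
  add_mem' {u v} hu hv i := by simp [hu i, hv i]
  zero_mem' _ := rfl
  smul_mem' c v hv i := by simp [hv i]

/-- The elements of Sp_2m(F) stabilising both W = ⟨e_1..e_m⟩ and U = ⟨f_1..f_m⟩ form a subgroup isomorphic to GL_m(F) (block-diagonal matrices diag(X, X^(−ᵀ)) up to the sign convention of J), for m ≥ 1 or m = 0 alike. -/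
theorem result {F : Type*} [Field F] (m : ℕ) : Nonempty (↥(Cfsg.stabilizing (Cfsg.spToMat m F) {v : Fin m ⊕ Fin m → F | ∀ i : Fin m, v (Sum.inr i) = 0} ⊓ Cfsg.stabilizing (Cfsg.spToMat m F) {v : Fin m ⊕ Fin m → F | ∀ i : Fin m, v (Sum.inl i) = 0}) ≃* Matrix.GeneralLinearGroup (Fin m) F) := by
  classical
  set S := Cfsg.stabilizing (Cfsg.spToMat m F) (subL m F : Set (Fin m ⊕ Fin m → F)) ⊓
    Cfsg.stabilizing (Cfsg.spToMat m F) (subR m F : Set (Fin m ⊕ Fin m → F))
  suffices h : Nonempty (↥S ≃* GL (Fin m) F) from h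
  have hmem : ∀ A, blockHom m F A ∈ S := by
    intro A
    refine ⟨(SympGeom.mem_stabilizing_iff _ _).2 fun v hv => ?_,
      (SympGeom.mem_stabilizing_iff _ _).2 fun v hv => ?_⟩
    · intro i
      show (blockMat A *ᵥ v) (Sum.inr i) = 0
      rw [blockMat_mulVec, Sum.elim_inr, show v ∘ Sum.inr = 0 from funext hv, Matrix.mulVec_zero]
      rfl
    · intro i
      show (blockMat A *ᵥ v) (Sum.inl i) = 0
      rw [blockMat_mulVec, Sum.elim_inl, show v ∘ Sum.inl = 0 from funext hv, Matrix.mulVec_zero]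
      rfl
  refine ⟨(MulEquiv.ofBijective ((blockHom m F).codRestrict S hmem) ⟨fun A B h => ?_, fun g => ?_⟩).symm⟩
  · have h' := congrArg (fun M : Matrix (Fin m ⊕ Fin m) (Fin m ⊕ Fin m) F => M.toBlocks₁₁)
      (congrArg Subtype.val (congrArg Subtype.val h))
    exact Units.ext (by simpa [blockHom, blockMat] using h')
  · obtain ⟨⟨g, hgm⟩, hg1, hg2⟩ := g
    have h1 := (SympGeom.mem_stabilizing_iff _ _).1 hg1
    have h2 := (SympGeom.mem_stabilizing_iff _ _).1 hg2
    have hB : g.toBlocks₁₂ = 0 := by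
      ext i j
      have := h2 (Pi.single (Sum.inr j) 1) (fun l => Pi.single_eq_of_ne (by simp) _) i
      simpa [Matrix.mulVec_single_one, Matrix.toBlocks₁₂] using this
    have hC : g.toBlocks₂₁ = 0 := by
      ext i j
      have := h1 (Pi.single (Sum.inl j) 1) (fun l => Pi.single_eq_of_ne (by simp) _) i
      simpa [Matrix.mulVec_single_one, Matrix.toBlocks₂₁] using this
    have hblocks := (Matrix.fromBlocks_toBlocks g).symm
    rw [hB, hC] at hblocks
    have hJ := SymplecticGroup.mem_iff.1 hgm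
    rw [hblocks] at hJ
    simp only [Matrix.J, Matrix.fromBlocks_transpose, Matrix.fromBlocks_multiply, Matrix.transpose_zero,
      Matrix.mul_zero, Matrix.zero_mul, add_zero, zero_add, Matrix.mul_one, Matrix.mul_neg,
      Matrix.neg_mul, neg_zero, Matrix.fromBlocks_inj, neg_inj, true_and, and_true] at hJ
    have hDA : g.toBlocks₂₂ * g.toBlocks₁₁ᵀ = 1 := hJ.2
    have hAD : g.toBlocks₁₁ * g.toBlocks₂₂ᵀ = 1 := hJ.1
    refine ⟨⟨g.toBlocks₁₁, g.toBlocks₂₂ᵀ, hAD, by
      have := mul_eq_one_comm.1 hAD; exact this⟩, Subtype.ext (Subtype.ext ?_)⟩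
    show Matrix.fromBlocks g.toBlocks₁₁ 0 0 (g.toBlocks₂₂ᵀ)ᵀ = g
    rw [Matrix.transpose_transpose, ← hblocks]

end Cfsg.Agent.S0778
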