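import Cfsg.Statements.S0783
import Cfsg.Agent.Lib.Unitary.Center

set_option autoImplicit false
open Cfsg

namespace Cfsg.Agent.S0783

open scoped Matrix in
open Cfsg.Agent.Unitary in
theorem det_quotient {F : Type*} [Field F] [Fintype F] {q : ℕ} (hF : Fintype.card F = q ^ 2) {n : ℕ} (hn : 2 ≤ n) : ∃ φ : ↥(Cfsg.GU n F q) →* Multiplicative (ZMod (Nat.gcd n (q + 1))), Function.Surjective φ ∧ φ.ker = (Matrix.GeneralLinearGroup.det : Matrix.GeneralLinearGroup (Fin n) F →* Fˣ).ker.subgroupOf (Cfsg.GU n F q) ⊔ Subgroup.center ↥(Cfsg.GU n F q) := by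
  let C : Subgroup Fˣ := (powMonoidHom (q + 1) : Fˣ →* Fˣ).ker
  have hC : Nat.card C = q + 1 := by
    rw [IsCyclic.card_powMonoidHom_ker, card_units hF, Nat.gcd_eq_right (q_succ_dvd q)]
  let P : Subgroup C := (powMonoidHom n : C →* C).range
  have hQ : Nat.card (C ⧸ P) = Nat.gcd n (q + 1) := by
    rw [← Subgroup.index_eq_card, IsCyclic.index_powMonoidHom_range, hC, Nat.gcd_comm]
  have : IsCyclic (C ⧸ P) :=
    isCyclic_of_surjective _ (QuotientGroup.mk'_surjective P)
  let e : C ⧸ P ≃* Multiplicative (ZMod (Nat.gcd n (q + 1))) :=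
    hQ ▸ (zmodCyclicMulEquiv (inferInstance : IsCyclic (C ⧸ P))).symm
  let d : ↥(Cfsg.GU n F q) →* C := (detHom n F q).codRestrict C fun g => by
    show _ ∈ (powMonoidHom (q + 1) : Fˣ →* Fˣ).ker
    rw [← detHom_range hF (n := n) (by omega)]; exact ⟨g, rfl⟩
  have hd : Function.Surjective d := by
    rintro ⟨u, hu⟩
    have : u ∈ (detHom n F q).range := by rw [detHom_range hF (by omega)]; exact hu
    obtain ⟨g, rfl⟩ := this
    exact ⟨g, rfl⟩
  refine ⟨(e.toMonoidHom.comp (QuotientGroup.mk' P)).comp d,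
    (e.surjective.comp (QuotientGroup.mk'_surjective P)).comp hd, ?_⟩
  have hsc : ∀ z : C, ∃ c ∈ Subgroup.center ↥(Cfsg.GU n F q), d c = z ^ n := by
    intro z
    have hz : ((z : Fˣ) : F) ^ (q + 1) = 1 := by
      rw [← Units.val_pow_eq_pow_val]; exact congrArg Units.val z.2
    have hu : IsUnitary q (Matrix.scalar (Fin n) ((z : Fˣ) : F)) :=
      isUnitary_diagonal hF fun _ => hz
    refine ⟨guOfUnitary hF _ hu, Subgroup.mem_center_iff.2 fun g => ?_, ?_⟩
    · apply Subtype.ext
      apply Units.ext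
      simp only [Subgroup.coe_mul, Units.val_mul, guOfUnitary_val]
      exact (Matrix.scalar_commute _ (fun r => Commute.all _ _) _).symm.eq
    · refine Subtype.ext (Units.ext ?_)
      simp [d, detHom]
  apply le_antisymm
  · intro g hg
    rw [MonoidHom.mem_ker, MonoidHom.comp_apply, MonoidHom.comp_apply] at hg
    have hg' : d g ∈ P := (QuotientGroup.eq_one_iff _).1 ((map_eq_one_iff e e.injective).1 hg)
    obtain ⟨z, hz⟩ := hg'
    obtain ⟨c, hc, hdc⟩ := hsc z
    rw [← div_mul_cancel g c]
    refine Subgroup.mul_mem_sup ?_ hc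
    have : d (g / c) = 1 := by rw [map_div, hdc, div_eq_one]; exact hz.symm
    exact congrArg Subtype.val this
  · refine sup_le (fun g hg => ?_) (fun g hg => ?_)
    · have : d g = 1 := Subtype.ext hg
      simp [this]
    · obtain ⟨z, hz⟩ := scalar_of_commutes hF hn
        ((g : Matrix.GeneralLinearGroup (Fin n) F) : Matrix (Fin n) (Fin n) F) fun B =>
        (congrArg (fun x : ↥(Cfsg.GU n F q) =>
          ((x : Matrix.GeneralLinearGroup (Fin n) F) : Matrix (Fin n) (Fin n) F))
          (Subgroup.mem_center_iff.1 hg (suToGU n F q B))).symm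
      have hz1 : z ^ (q + 1) = 1 := by
        have := ((isUnitary_iff_orthonormal hF
          ((g : Matrix.GeneralLinearGroup (Fin n) F) : Matrix (Fin n) (Fin n) F)).1 g.2).1 ⟨0, by omega⟩
        rw [hz, hermForm_self] at this
        simpa [Matrix.scalar, Matrix.diagonal_apply, apply_ite (fun y : F => y ^ (q + 1)),
          zero_pow (Nat.succ_ne_zero q)] using this
      have hz0 : z ≠ 0 := fun h => by simp [h] at hz1
      have hzC : Units.mk0 z hz0 ∈ C := by
        show (Units.mk0 z hz0) ^ (q + 1) = 1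
        exact Units.ext (by simpa using hz1)
      have : d g ∈ P := by
        refine ⟨⟨_, hzC⟩, Subtype.ext (Units.ext ?_)⟩
        simp [d, detHom, hz]
      rw [MonoidHom.mem_ker, MonoidHom.comp_apply, MonoidHom.comp_apply,
        QuotientGroup.mk'_apply, (QuotientGroup.eq_one_iff _).2 this, map_one]

/-- PGU_n(q)/PSU_n(q) is cyclic of order (n, q+1): for n ≥ 2 and |F| = q² there is a surjective homomorphism from GU_n(q) onto the cyclic group of order gcd(n, q + 1) whose kernel is generated by the determinant-one elements together with the centre. -/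
theorem result {F : Type*} [Field F] [Fintype F] {q : ℕ} (hF : Fintype.card F = q ^ 2) (n : ℕ) (hn : 2 ≤ n) : ∃ φ : ↥(Cfsg.GU n F q) →* Multiplicative (ZMod (Nat.gcd n (q + 1))), Function.Surjective φ ∧ φ.ker = (Matrix.GeneralLinearGroup.det : Matrix.GeneralLinearGroup (Fin n) F →* Fˣ).ker.subgroupOf (Cfsg.GU n F q) ⊔ Subgroup.center ↥(Cfsg.GU n F q) := by
  exact det_quotient hF hn

end Cfsg.Agent.S0783
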