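import Cfsg.Agent.Lib.Orth.Spinor


set_option autoImplicit false
open Cfsg

namespace Cfsg.Agent.S0786

/-- Generation by reflections: if F is finite, Q is a quadratic form on F^n with non-degenerate polar form, and (|F|, n) ≠ (2, 4), then the isometry group of Q is generated by the reflections r_v, Q(v) ≠ 0. -/
theorem result {F : Type*} [Field F] [Fintype F] {n : ℕ} (Q : QuadraticForm F (Fin n → F)) (hQ : (QuadraticMap.polarBilin Q).Nondegenerate) (h : Fintype.card F ≠ 2 ∨ n ≠ 4) : Subgroup.closure {g : ↥(Cfsg.isometryGroup F ⇑Q) | ∃ v : Fin n → F, Q v ≠ 0 ∧ ((g : Matrix.GeneralLinearGroup (Fin n) F) : Matrix (Fin n) (Fin n) F) = Cfsg.reflectionMatrix ⇑Q v} = ⊤ := by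
  have hG := Cfsg.Agent.Orth.Good.of_card hQ (h.imp_right (by simpa using ·))
  rw [eq_top_iff, ← hG.gen]
  unfold Cfsg.Agent.Orth.reflGen
  rw [Subgroup.closure_le]
  rintro _ ⟨v, rfl⟩
  by_cases hv : Q v = 0
  · rw [Cfsg.Agent.Orth.refl_eq_one Q hv]; exact one_mem _
  · exact Subgroup.subset_closure ⟨v, hv, rfl⟩

end Cfsg.Agent.S0786
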