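import Cfsg.Agent.Lib.Orth.Spinor


set_option autoImplicit false
open Cfsg

namespace Cfsg.Agent.S0787

/-- Existence and uniqueness of Ω: if F is finite, n ≥ 2, Q is a quadratic form on F^n with non-degenerate polar form and (|F|, n) ≠ (2, 4), then the group of isometries of determinant one has a unique subgroup of index 2. -/
theorem result {F : Type*} [Field F] [Fintype F] {n : ℕ} (hn : 2 ≤ n) (Q : QuadraticForm F (Fin n → F)) (hQ : (QuadraticMap.polarBilin Q).Nondegenerate) (h : Fintype.card F ≠ 2 ∨ n ≠ 4) : ∃! H : Subgroup ↥(Cfsg.specialIsometryGroup F ⇑Q), H.index = 2 := by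
  classical
  have hn' : 2 ≤ Fintype.card (Fin n) := by simpa using hn
  have hG := Cfsg.Agent.Orth.Good.of_card hQ (h.imp_right (by simpa using ·))
  set SO := Cfsg.specialIsometryGroup F ⇑Q with hSO
  have hle : Cfsg.Omega F ⇑Q ≤ SO := by
    intro g hg
    rw [hSO, Cfsg.Agent.Orth.mem_special_iff, Cfsg.Agent.Orth.det_eq_dick hG,
      ((Cfsg.Agent.Orth.mem_omega_iff hG g).1 hg).1, Int.cast_one]
  have hidx : ((Cfsg.Omega F ⇑Q).subgroupOf SO).index = 2 := by
    have hmul := Subgroup.relIndex_mul_index hle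
    have hdvd : SO.index = if (2 : F) = 0 then 1 else 2 := by
      split_ifs with h2
      · rw [Subgroup.index_eq_one, eq_top_iff]
        intro g _
        rw [hSO, Cfsg.Agent.Orth.mem_special_iff, Cfsg.Agent.Orth.det_eq_dick hG]
        rcases Cfsg.Agent.Orth.dick_eq_or g with hd | hd <;> rw [hd] <;> push_cast
        · rfl
        · linear_combination -h2
      · have hSOker : SO = (Cfsg.Agent.Orth.dickHom hG).toHomUnits.ker := by
          ext g
          rw [MonoidHom.mem_ker, Units.ext_iff, hSO, Cfsg.Agent.Orth.mem_special_iff_dick hG h2 g]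
          rfl
        obtain ⟨v, hv⟩ := Cfsg.Agent.Orth.exists_Q_eq hQ hn' (1 : F)
        rw [hSOker, Subgroup.index_ker, MonoidHom.range_eq_top.2 ?_, Subgroup.card_top]
        · simp
        · intro a
          rcases Int.units_eq_one_or a with rfl | rfl
          · exact ⟨1, map_one _⟩
          · exact ⟨Cfsg.Agent.Orth.refl Q v,
              by simp [Units.ext_iff, Cfsg.Agent.Orth.dick_refl hQ (v := v) (by simp [hv])]⟩
    rw [hdvd] at hmul
    show (Cfsg.Omega F ⇑Q).relIndex SO = 2
    split_ifs at hmul with h2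
    · rw [Cfsg.Agent.Orth.omega_index_two hG (by omega) h2] at hmul; omega
    · rw [Cfsg.Agent.Orth.omega_index_odd hG hn' h2] at hmul; omega
  refine ⟨_, hidx, fun H hH => ?_⟩
  have hOH : Cfsg.Omega F ⇑Q ≤ H.map SO.subtype := by
    let N : Subgroup ↥(Cfsg.isometryGroup F ⇑Q) := Subgroup.closure {x | ∃ g ∈ SO, x = g ^ 2}
    have hNn : N.Normal := ⟨fun x hx g => by
      have hmap : Subgroup.map (MulAut.conj g).toMonoidHom N ≤ N := by
        rw [MonoidHom.map_closure, Subgroup.closure_le]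
        rintro _ ⟨_, ⟨s, hs, rfl⟩, rfl⟩
        refine Subgroup.subset_closure ⟨g * s * g⁻¹, (MonoidHom.normal_ker _).conj_mem s hs g, ?_⟩
        simp [conj_pow]
      exact hmap ⟨x, hx, rfl⟩⟩
    have hNH : N ≤ H.map SO.subtype := by
      rw [Subgroup.closure_le]
      rintro _ ⟨g, hg, rfl⟩
      exact ⟨⟨g, hg⟩ ^ 2, Subgroup.sq_mem_of_index_two hH _, by simp⟩
    refine le_trans (Cfsg.Agent.Orth.commutator_le_of_refl hG N fun u v hu hv => ?_) hNH
    refine Subgroup.subset_closure ⟨Cfsg.Agent.Orth.refl Q u * Cfsg.Agent.Orth.refl Q v, ?_, ?_⟩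
    · rw [hSO, Cfsg.Agent.Orth.mem_special_iff, Cfsg.Agent.Orth.coe_mul_mat, Matrix.det_mul,
        Cfsg.Agent.Orth.det_refl hu, Cfsg.Agent.Orth.det_refl hv]
      ring
    · rw [sq, ← mul_assoc]
  have hle2 : (Cfsg.Omega F ⇑Q).subgroupOf SO ≤ H := by
    intro g hg
    obtain ⟨g', hg', he⟩ := hOH hg
    rwa [← Subtype.ext (show (g' : ↥(Cfsg.isometryGroup F ⇑Q)) = g from he)]
  have hmul2 := Subgroup.relIndex_mul_index hle2
  rw [hidx, hH] at hmul2
  exact le_antisymm (Subgroup.relIndex_eq_one.1 (by omega)) hle2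

end Cfsg.Agent.S0787
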