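import Cfsg.Agent.Lib.Orth.Spinor


set_option autoImplicit false
open Cfsg

namespace Cfsg.Agent.S0792

/-- For q odd and Q with non-degenerate polar form on F^n, the determinant-one isometries form the subgroup generated by all products r_u r_v of two reflections (Q(u), Q(v) ≠ 0). -/
theorem result {F : Type*} [Field F] [Fintype F] (h2 : (2 : F) ≠ 0) {n : ℕ} (Q : QuadraticForm F (Fin n → F)) (hQ : (QuadraticMap.polarBilin Q).Nondegenerate) : Cfsg.specialIsometryGroup F ⇑Q = Subgroup.closure {g : ↥(Cfsg.isometryGroup F ⇑Q) | ∃ u v : Fin n → F, Q u ≠ 0 ∧ Q v ≠ 0 ∧ ((g : Matrix.GeneralLinearGroup (Fin n) F) : Matrix (Fin n) (Fin n) F) = Cfsg.reflectionMatrix ⇑Q u * Cfsg.reflectionMatrix ⇑Q v} := by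
  have hG := Cfsg.Agent.Orth.Good.of_two_ne_zero hQ h2
  classical
  apply le_antisymm
  · intro g hg
    set S := Subgroup.closure {g : ↥(Cfsg.isometryGroup F ⇑Q) | ∃ u v : Fin n → F, Q u ≠ 0 ∧ Q v ≠ 0 ∧
      ((g : Matrix.GeneralLinearGroup (Fin n) F) : Matrix (Fin n) (Fin n) F) =
        Cfsg.reflectionMatrix ⇑Q u * Cfsg.reflectionMatrix ⇑Q v} with hS
    suffices H : ∀ g : ↥(Cfsg.isometryGroup F ⇑Q), (Cfsg.Agent.Orth.dick g = 1 → g ∈ S) ∧
        (Cfsg.Agent.Orth.dick g = -1 → ∀ u, Q u ≠ 0 → Cfsg.Agent.Orth.refl Q u * g ∈ S) from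
      (H g).1 ((Cfsg.Agent.Orth.mem_special_iff_dick hG h2 g).1 hg)
    intro g
    induction g using Cfsg.Agent.Orth.reflGen_induction hG with
    | one =>
      exact ⟨fun _ => one_mem _, fun h => absurd h (by rw [Cfsg.Agent.Orth.dick_one]; decide)⟩
    | mul v g hv ih =>
      rw [Cfsg.Agent.Orth.dick_refl_mul hQ g hv]
      refine ⟨fun h => ih.2 (by omega) v hv, fun h u hu => ?_⟩
      rw [← mul_assoc]
      exact mul_mem (Subgroup.subset_closure ⟨u, v, hu, hv, rfl⟩) (ih.1 (by omega))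
  · rw [Subgroup.closure_le]
    rintro g ⟨u, v, hu, hv, hg⟩
    rw [SetLike.mem_coe, Cfsg.Agent.Orth.mem_special_iff, hg, Matrix.det_mul,
      Cfsg.Agent.Orth.det_reflectionMatrix hu, Cfsg.Agent.Orth.det_reflectionMatrix hv]
    ring

end Cfsg.Agent.S0792
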