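import Cfsg.Agent.Lib.Orth.Eichler


set_option autoImplicit false
open Cfsg

namespace Cfsg.Agent.S0794

/-- For q odd, n ≥ 5 and Q with non-degenerate polar form: an isometry whose matrix is a Siegel transformation T_(u,v)(c) (u, v singular and orthogonal) is a commutator in the isometry group, so lies in Ω. -/
theorem result {F : Type*} [Field F] [Fintype F] (h2 : (2 : F) ≠ 0) {n : ℕ} (hn : 5 ≤ n) (Q : QuadraticForm F (Fin n → F)) (hQ : (QuadraticMap.polarBilin Q).Nondegenerate) (u v : Fin n → F) (hu : Q u = 0) (hv : Q v = 0) (huv : QuadraticMap.polar ⇑Q u v = 0) (c : F) (g : ↥(Cfsg.isometryGroup F ⇑Q)) (hg : ((g : Matrix.GeneralLinearGroup (Fin n) F) : Matrix (Fin n) (Fin n) F) = Cfsg.siegelMatrix ⇑Q u v c) : g ∈ commutatorSet ↥(Cfsg.isometryGroup F ⇑Q) ∧ g ∈ Cfsg.Omega F ⇑Q := by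
  have hcv : QuadraticMap.polar ⇑Q u (c • v) = 0 := by
    rw [Cfsg.Agent.Orth.pl_smul_right, huv, mul_zero]
  have hge : g = Cfsg.Agent.Orth.eich Q u (c • v) := by
    refine Subtype.ext (Units.ext ?_)
    rw [hg, Cfsg.Agent.Orth.siegelMatrix_eq_eichMat hv, Cfsg.Agent.Orth.eich_mat hu hcv]
  suffices h : g ∈ commutatorSet ↥(Cfsg.isometryGroup F ⇑Q) by
    exact ⟨h, by rw [Cfsg.Omega, commutator_eq_closure]; exact Subgroup.subset_closure h⟩
  have hone : (1 : ↥(Cfsg.isometryGroup F ⇑Q)) ∈ commutatorSet ↥(Cfsg.isometryGroup F ⇑Q) :=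
    ⟨1, 1, by simp⟩
  have ht : (-1 : F) ≠ 1 := fun h => h2 (by linear_combination -h)
  by_cases hdep : v ∈ (Submodule.span F {u})
  · obtain ⟨a, rfl⟩ := Submodule.mem_span_singleton.1 hdep
    rw [hge, smul_smul, show (c * a) • u = 0 + (c * a) • u by rw [zero_add],
      Cfsg.Agent.Orth.eich_add_smul_self hu (Cfsg.Agent.Orth.pl_zero_right Q u),
      Cfsg.Agent.Orth.eich_zero]
    exact hone
  by_cases hu0 : u = 0
  · rw [hge, hu0, ← zero_smul F (0 : Fin n → F), Cfsg.Agent.Orth.eich_smul_left, zero_smul,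
      Cfsg.Agent.Orth.eich_zero]
    exact hone
  obtain ⟨x, -, hvx, hux⟩ := Cfsg.Agent.Orth.exists_sep (Q := Q) (W := (⊤ : Submodule F (Fin n → F)))
    (fun y _ hy => by simpa using Cfsg.Agent.Orth.exists_polar_ne hQ hy)
    (z := u) (z2 := v) Submodule.mem_top Submodule.mem_top
    (fun h0 => hdep (by rw [h0]; exact zero_mem _))
    (fun hmem => by
      obtain ⟨b, hb⟩ := Submodule.mem_span_singleton.1 hmem
      have hb0 : b ≠ 0 := fun h0 => hu0 (by rw [← hb, h0, zero_smul])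
      exact hdep (Submodule.mem_span_singleton.2 ⟨b⁻¹, by rw [← hb, inv_smul_smul₀ hb0]⟩))
  set x1 := (QuadraticMap.polar ⇑Q u x)⁻¹ • x with hx1
  have hux1 : QuadraticMap.polar ⇑Q u x1 = 1 := by
    rw [hx1, Cfsg.Agent.Orth.pl_smul_right, inv_mul_cancel₀ hux]
  have hp : Cfsg.Agent.Orth.HPair Q u (x1 - Q x1 • u) := ⟨hu, by
      rw [Cfsg.Agent.Orth.Q_sub, Cfsg.Agent.Orth.Q_smul Q (Q x1) u, hu, Cfsg.Agent.Orth.pl_smul_right,
        Cfsg.Agent.Orth.pl_comm Q x1 u, hux1]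
      ring, by
      rw [Cfsg.Agent.Orth.pl_sub_right, hux1, Cfsg.Agent.Orth.pl_smul_right,
        Cfsg.Agent.Orth.pl_self, hu]
      ring⟩
  have hvW : c • v ∈ Cfsg.Agent.Orth.perp Q u (x1 - Q x1 • u) := by
    refine Submodule.smul_mem _ _ (Cfsg.Agent.Orth.mem_perp.2 ⟨huv, ?_⟩)
    rw [Cfsg.Agent.Orth.pl_sub_left, hx1, Cfsg.Agent.Orth.pl_smul_left, Cfsg.Agent.Orth.pl_smul_left,
      Cfsg.Agent.Orth.pl_comm Q x v, hvx, huv]
    ring
  rw [hge]
  exact hp.eich_mem_commutatorSet (neg_ne_zero.2 one_ne_zero) ht hvW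

end Cfsg.Agent.S0794
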