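import Cfsg.Agent.Lib.Orth.Eichler


set_option autoImplicit false
open Cfsg

namespace Cfsg.Agent.S0795

/-- Generation of Ω by root elements: for q odd, n ≥ 5 and Q with non-degenerate polar form on F^n, the commutator subgroup of the isometry group equals the subgroup generated by the isometries whose matrices are Siegel transformations T_(u,v)(c) with u, v singular and orthogonal. -/
theorem result {F : Type*} [Field F] [Fintype F] (h2 : (2 : F) ≠ 0) {n : ℕ} (hn : 5 ≤ n) (Q : QuadraticForm F (Fin n → F)) (hQ : (QuadraticMap.polarBilin Q).Nondegenerate) : Cfsg.Omega F ⇑Q = Subgroup.closure {g : ↥(Cfsg.isometryGroup F ⇑Q) | ∃ (u v : Fin n → F) (c : F), Q u = 0 ∧ Q v = 0 ∧ QuadraticMap.polar ⇑Q u v = 0 ∧ ((g : Matrix.GeneralLinearGroup (Fin n) F) : Matrix (Fin n) (Fin n) F) = Cfsg.siegelMatrix ⇑Q u v c} := by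
  have hn' : 5 ≤ Fintype.card (Fin n) := by simpa using hn
  have hG := Cfsg.Agent.Orth.Good.of_two_ne_zero hQ h2
  rw [Cfsg.Agent.Orth.omega_eq_eichGen hG (by omega) (.inr hn')]
  apply le_antisymm
  swap
  · rw [Subgroup.closure_le]
    rintro g ⟨u, v, c, hu, hv, huv, hg⟩
    have : g = Cfsg.Agent.Orth.eich Q u (c • v) := by
      refine Subtype.ext (Units.ext ?_)
      rw [hg, Cfsg.Agent.Orth.siegelMatrix_eq_eichMat hv, Cfsg.Agent.Orth.eich_mat hu]
      rw [Cfsg.Agent.Orth.pl_smul_right, huv, mul_zero]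
    rw [this]
    exact Cfsg.Agent.Orth.eich_mem_eichGen _ _
  set S := Subgroup.closure {g : ↥(Cfsg.isometryGroup F ⇑Q) | ∃ (u v : Fin n → F) (c : F), Q u = 0 ∧
      Q v = 0 ∧ QuadraticMap.polar ⇑Q u v = 0 ∧
      ((g : Matrix.GeneralLinearGroup (Fin n) F) : Matrix (Fin n) (Fin n) F) = Cfsg.siegelMatrix ⇑Q u v c}
  have hsing : ∀ u v, Q u = 0 → Q v = 0 → QuadraticMap.polar ⇑Q u v = 0 →
      Cfsg.Agent.Orth.eich Q u v ∈ S := fun u v hu hv huv => by
    refine Subgroup.subset_closure ⟨u, v, 1, hu, hv, huv, ?_⟩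
    rw [Cfsg.Agent.Orth.eich_mat hu huv, Cfsg.Agent.Orth.siegelMatrix_eq_eichMat hv, one_smul]
  obtain ⟨e, f, hp⟩ := Cfsg.Agent.Orth.exists_hpair hQ (by omega : 3 ≤ Fintype.card (Fin n))
  rw [hp.eichGen_eq hQ (by omega), Cfsg.Agent.Orth.eichPair, Subgroup.closure_le]
  have key : ∀ a b : Fin n → F, Cfsg.Agent.Orth.HPair Q a b → ∀ w ∈ Cfsg.Agent.Orth.perp Q a b,
      Cfsg.Agent.Orth.eich Q a w ∈ S := by
    intro a b hab w hw
    -- a hyperbolic pair inside the orthogonal of `a, b`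
    obtain ⟨s, hs, hs0, hQs⟩ : ∃ s ∈ Cfsg.Agent.Orth.perp Q a b, s ≠ 0 ∧ Q s = 0 := by
      obtain ⟨z, hz, hQz⟩ := hab.exists_nonsing_perp hQ (by omega)
      set H := Cfsg.Agent.Orth.orthFam Q ![a, b, z] with hH
      have hm : ∀ x, x ∈ H ↔ x ∈ Cfsg.Agent.Orth.perp Q a b ∧ QuadraticMap.polar ⇑Q z x = 0 := fun x => by
        simp [hH, Cfsg.Agent.Orth.mem_orthFam, Cfsg.Agent.Orth.mem_perp, Fin.forall_fin_succ, and_assoc]
      have hd : Fintype.card (Fin n) ≤ Module.finrank F H + 3 :=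
        Cfsg.Agent.Orth.card_le_finrank_orthFam ![a, b, z]
      have hHn : ∀ x ∈ H, x ≠ 0 → ∃ y ∈ H, QuadraticMap.polar ⇑Q x y ≠ 0 := by
        intro x hx hx0
        obtain ⟨y, hy, hxy⟩ := hab.perp_nondeg hQ ((hm x).1 hx).1 hx0
        refine ⟨y - (QuadraticMap.polar ⇑Q z y / (2 * Q z)) • z,
          (hm _).2 ⟨sub_mem hy (Submodule.smul_mem _ _ hz), ?_⟩, ?_⟩
        · rw [Cfsg.Agent.Orth.pl_sub_right, Cfsg.Agent.Orth.pl_smul_right, Cfsg.Agent.Orth.pl_self,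
            div_mul_cancel₀ _ (mul_ne_zero h2 hQz), sub_self]
        · rw [Cfsg.Agent.Orth.pl_sub_right, Cfsg.Agent.Orth.pl_smul_right,
            Cfsg.Agent.Orth.pl_comm Q x z, ((hm x).1 hx).2]
          simpa using hxy
      obtain ⟨y, hy, hQy⟩ := Cfsg.Agent.Orth.exists_Q_eq_in H hHn (by omega) (-Q z)
      obtain ⟨hyW, hzy⟩ := (hm y).1 hy
      refine ⟨z + y, add_mem hz hyW, fun h0 => ?_, ?_⟩
      · rw [eq_neg_of_add_eq_zero_right h0, Cfsg.Agent.Orth.pl_neg_right, Cfsg.Agent.Orth.pl_self] at hzy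
        exact mul_ne_zero h2 hQz (neg_eq_zero.1 hzy)
      · rw [Cfsg.Agent.Orth.Q_add, hQy, hzy]; ring
    obtain ⟨t0, ht0, hst⟩ := hab.perp_nondeg hQ hs hs0
    set t1 := (QuadraticMap.polar ⇑Q s t0)⁻¹ • t0 with ht1
    have hst1 : QuadraticMap.polar ⇑Q s t1 = 1 := by
      rw [ht1, Cfsg.Agent.Orth.pl_smul_right, inv_mul_cancel₀ hst]
    set t := t1 - Q t1 • s with ht
    have htW : t ∈ Cfsg.Agent.Orth.perp Q a b :=
      sub_mem (Submodule.smul_mem _ _ ht0) (Submodule.smul_mem _ _ hs)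
    have hst' : Cfsg.Agent.Orth.HPair Q s t := ⟨hQs, by
        rw [ht, Cfsg.Agent.Orth.Q_sub, Cfsg.Agent.Orth.Q_smul Q (Q t1) s, hQs, Cfsg.Agent.Orth.pl_smul_right,
          Cfsg.Agent.Orth.pl_comm Q t1 s, hst1]
        ring, by
        rw [ht, Cfsg.Agent.Orth.pl_sub_right, hst1, Cfsg.Agent.Orth.pl_smul_right,
          Cfsg.Agent.Orth.pl_self, hQs]
        ring⟩
    have hadd : ∀ x y, x ∈ Cfsg.Agent.Orth.perp Q a b → y ∈ Cfsg.Agent.Orth.perp Q a b →
        Cfsg.Agent.Orth.eich Q a x ∈ S → Cfsg.Agent.Orth.eich Q a y ∈ S →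
        Cfsg.Agent.Orth.eich Q a (x + y) ∈ S := fun x y hx hy h1 h2' => by
      rw [← Cfsg.Agent.Orth.eich_add hab.qe (Cfsg.Agent.Orth.mem_perp.1 hx).1
        (Cfsg.Agent.Orth.mem_perp.1 hy).1]
      exact mul_mem h1 h2'
    have hsing' : ∀ x, x ∈ Cfsg.Agent.Orth.perp Q a b → Q x = 0 → Cfsg.Agent.Orth.eich Q a x ∈ S :=
      fun x hx hQx => hsing a x hab.qe hQx (Cfsg.Agent.Orth.mem_perp.1 hx).1
    set h := Cfsg.Agent.Orth.wPart Q s t w with hh
    set p := QuadraticMap.polar ⇑Q t w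
    set r := QuadraticMap.polar ⇑Q s w
    have hhW : h ∈ Cfsg.Agent.Orth.perp Q a b :=
      sub_mem (sub_mem hw (Submodule.smul_mem _ _ hs)) (Submodule.smul_mem _ _ htW)
    have hstp := Cfsg.Agent.Orth.mem_perp.1 (hst'.wPart_mem w)
    -- `w = (p - 1) s + (r + Q h) t + (s - Q h t + h)`
    rw [show w = ((p - 1) • s + (r + Q h) • t) + ((1 : F) • s + (-Q h) • t + h) by
      conv_lhs => rw [Cfsg.Agent.Orth.decomp (Q := Q) s t w]
      module]
    refine hadd _ _ (add_mem (Submodule.smul_mem _ _ hs) (Submodule.smul_mem _ _ htW))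
      (add_mem (add_mem (Submodule.smul_mem _ _ hs) (Submodule.smul_mem _ _ htW)) hhW)
      (hadd _ _ (Submodule.smul_mem _ _ hs) (Submodule.smul_mem _ _ htW)
        (hsing' _ (Submodule.smul_mem _ _ hs) (by rw [Cfsg.Agent.Orth.Q_smul, hQs, mul_zero]))
        (hsing' _ (Submodule.smul_mem _ _ htW) (by rw [Cfsg.Agent.Orth.Q_smul, hst'.qf, mul_zero])))
      (hsing' _ (add_mem (add_mem (Submodule.smul_mem _ _ hs) (Submodule.smul_mem _ _ htW)) hhW) ?_)
    rw [hst'.Q_comb (hst'.wPart_mem w)]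
    ring
  rintro _ ⟨w, hw, rfl | rfl⟩
  · exact key e f hp w hw
  · exact key f e hp.swap w (by rwa [Cfsg.Agent.Orth.perp_swap])

end Cfsg.Agent.S0795
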