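import Cfsg.Agent.EqLemmas


set_option autoImplicit false
open Cfsg

namespace Cfsg.Agent.S0796

/-- If G is finite and acts faithfully and primitively on X, H is the stabiliser of a point, A is a normal subgroup of H whose normal closure in G is G, then for every non-trivial normal subgroup K of G the quotient G ⧸ K is isomorphic to A ⧸ B for some normal subgroup B of A. -/
theorem result {G X : Type*} [Group G] [Finite G] [MulAction G X] [FaithfulSMul G X] (hprim : MulAction.IsPreprimitive G X) (x : X) (A : Subgroup G) (hA : A ≤ MulAction.stabilizer G x) (hAn : (A.subgroupOf (MulAction.stabilizer G x)).Normal) (hgen : Subgroup.normalClosure (A : Set G) = ⊤) (K : Subgroup G) [K.Normal] (hK : K ≠ ⊥) : ∃ (B : Subgroup A) (_ : B.Normal), Nonempty (G ⧸ K ≃* A ⧸ B) := by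
  haveI := hprim
  have hcore : MulAction.fixedPoints K X ≠ Set.univ := by
    intro hfix
    apply hK
    rw [Subgroup.eq_bot_iff_forall]
    intro k hk
    refine eq_of_smul_eq_smul (α := X) fun y => ?_
    rw [one_smul]
    exact Set.eq_univ_iff_forall.1 hfix y ⟨k, hk⟩
  have htrK : MulAction.IsPretransitive K X :=
    MulAction.IsQuasiPreprimitive.isPretransitive_of_normal hcore
  have hsup : K ⊔ A = ⊤ := by
    rw [eq_top_iff, ← hgen, Subgroup.normalClosure, Subgroup.closure_le]
    intro y hy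
    obtain ⟨a, ha, hconj⟩ := Group.mem_conjugatesOfSet_iff.1 hy
    obtain ⟨g, rfl⟩ := isConj_iff.1 hconj
    -- `g = k h` with `k ∈ K` and `h` in the stabiliser
    obtain ⟨⟨k, hk⟩, hkx⟩ := MulAction.exists_smul_eq K x (g • x)
    change k • x = g • x at hkx
    have hh : k⁻¹ * g ∈ MulAction.stabilizer G x := by
      rw [MulAction.mem_stabilizer_iff, mul_smul, ← hkx, inv_smul_smul]
    have hmem := hAn.conj_mem ⟨a, hA ha⟩ ha ⟨k⁻¹ * g, hh⟩
    have hA' : (k⁻¹ * g) * a * (k⁻¹ * g)⁻¹ ∈ A := hmem
    have hk' : k ∈ K ⊔ A := Subgroup.mem_sup_left hk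
    have := mul_mem (mul_mem hk' (Subgroup.mem_sup_right (S := K) hA')) (inv_mem hk')
    simpa [mul_assoc] using this
  let π : A →* G ⧸ K := (QuotientGroup.mk' K).comp A.subtype
  have hsurj : Function.Surjective π := by
    intro y
    obtain ⟨g, rfl⟩ := QuotientGroup.mk_surjective y
    have hg : g ∈ K ⊔ A := hsup ▸ Subgroup.mem_top g
    rw [Subgroup.mem_sup_of_normal_left] at hg
    obtain ⟨k, hk, a, ha, rfl⟩ := hg
    refine ⟨⟨a, ha⟩, ?_⟩
    show (QuotientGroup.mk a : G ⧸ K) = QuotientGroup.mk (k * a)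
    rw [QuotientGroup.mk_mul, (QuotientGroup.eq_one_iff k).2 hk, one_mul]
  exact ⟨π.ker, inferInstance, ⟨(QuotientGroup.quotientKerEquivOfSurjective π hsurj).symm⟩⟩

end Cfsg.Agent.S0796
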