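import Cfsg.Agent.Lib.Orth.Spinor


set_option autoImplicit false
open Cfsg

namespace Cfsg.Agent.S0797

/-- O^ε_2m(q) ≅ Ω.2² for q odd: if F is finite of odd characteristic, n ≥ 2 is even and Q has non-degenerate polar form on F^n, the isometry group of Q has exactly three subgroups of index 2. -/
theorem result {F : Type*} [Field F] [Fintype F] (h2 : (2 : F) ≠ 0) {n : ℕ} (hn : 2 ≤ n) (heven : Even n) (Q : QuadraticForm F (Fin n → F)) (hQ : (QuadraticMap.polarBilin Q).Nondegenerate) : Nat.card {H : Subgroup ↥(Cfsg.isometryGroup F ⇑Q) // H.index = 2} = 3 := by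
  classical
  have hG := Cfsg.Agent.Orth.Good.of_two_ne_zero hQ h2
  have hn' : 2 ≤ Fintype.card (Fin n) := by simpa using hn
  set Φ := Cfsg.Agent.Orth.signHom hG
  have hsurj := Cfsg.Agent.Orth.signHom_surjective hG hn' h2
  let χ : Fin 3 → ((ℤˣ × ℤˣ) →* ℤˣ) :=
    ![MonoidHom.fst _ _, MonoidHom.snd _ _, MonoidHom.fst _ _ * MonoidHom.snd _ _]
  have hχs : ∀ i, Function.Surjective (χ i) := by
    intro i a
    fin_cases i
    · exact ⟨(a, 1), rfl⟩
    · exact ⟨(1, a), rfl⟩
    · exact ⟨(a, 1), by simp [χ]⟩
  let f : Fin 3 → {H : Subgroup ↥(Cfsg.isometryGroup F ⇑Q) // H.index = 2} := fun i =>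
    ⟨((χ i).comp Φ).ker, by
      rw [Subgroup.index_ker, MonoidHom.range_eq_top.2 (show Function.Surjective ⇑((χ i).comp Φ) by
        rw [MonoidHom.coe_comp]; exact (hχs i).comp hsurj), Subgroup.card_top]
      simp⟩
  have hf : Function.Bijective f := by
    constructor
    · intro i j hij
      have hij' : ∀ p, χ i p = 1 ↔ χ j p = 1 := fun p => by
        obtain ⟨g, rfl⟩ := hsurj p
        have := SetLike.ext_iff.1 (congrArg Subtype.val hij) g
        simpa [f, MonoidHom.mem_ker] using this
      have h1 := hij' (1, -1)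
      have h2' := hij' (-1, 1)
      clear hij' hij
      fin_cases i <;> fin_cases j <;> first | rfl | exact absurd h1 (by decide) | exact absurd h2' (by decide)
    · rintro ⟨H, hH⟩
      haveI : H.Normal := Subgroup.normal_of_index_eq_two hH
      have hOH : Cfsg.Omega F ⇑Q ≤ H := by
        refine Cfsg.Agent.Orth.commutator_le_of_refl hG H fun u v _ _ => ?_
        rw [mul_assoc]
        have := Subgroup.sq_mem_of_index_two hH
          (Cfsg.Agent.Orth.refl Q u * Cfsg.Agent.Orth.refl Q v)
        rwa [sq] at this
      rw [Cfsg.Agent.Orth.omega_eq_ker hG] at hOH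
      let K : Subgroup (ℤˣ × ℤˣ) := H.map Φ
      have hKidx : K.index = 2 := by
        rw [Subgroup.index_map_eq H hsurj hOH, hH]
      have hmem : ∀ g, Φ g ∈ K ↔ g ∈ H := fun g => by
        refine ⟨?_, fun hg => ⟨g, hg, rfl⟩⟩
        rintro ⟨g', hg', he⟩
        have h3 : g'⁻¹ * g ∈ H := hOH (by rw [MonoidHom.mem_ker, map_mul, map_inv, he, inv_mul_cancel])
        simpa using H.mul_mem hg' h3
      have hm := fun a b => Subgroup.mul_mem_iff_of_index_two hKidx (a := a) (b := b)
      have hneq : K ≠ ⊤ := fun h => by simp [h] at hKidx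
      have key : ∀ i, (∀ p, χ i p = 1 ↔ p ∈ K) → ∃ a, f a = ⟨H, hH⟩ := fun i hi =>
        ⟨i, Subtype.ext (SetLike.ext fun g => by
          show χ i (Φ g) = 1 ↔ g ∈ H
          rw [hi, hmem])⟩
      have hall : ∀ p : ℤˣ × ℤˣ, p = 1 ∨ p = (1, -1) ∨ p = (-1, 1) ∨ p = (1, -1) * (-1, 1) := by decide
      by_cases ha : ((1 : ℤˣ), (-1 : ℤˣ)) ∈ K <;> by_cases hb : ((-1 : ℤˣ), (1 : ℤˣ)) ∈ K
      · exfalso
        apply hneq
        rw [eq_top_iff]
        intro p _
        rcases hall p with rfl | rfl | rfl | rfl
        exacts [one_mem _, ha, hb, mul_mem ha hb]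
      · refine key 0 fun p => ?_
        rcases hall p with rfl | rfl | rfl | rfl <;>
          first
          | exact iff_of_true rfl (one_mem _)
          | exact iff_of_true rfl ha | exact iff_of_true rfl hb
          | exact iff_of_true rfl ((hm _ _).2 (iff_of_true ha hb))
          | exact iff_of_true rfl ((hm _ _).2 (iff_of_false ha hb))
          | exact iff_of_false (by decide) ha | exact iff_of_false (by decide) hb
          | exact iff_of_false (by decide) (mt (hm _ _).1 (by simp [ha, hb]))
      · refine key 1 fun p => ?_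
        rcases hall p with rfl | rfl | rfl | rfl <;>
          first
          | exact iff_of_true rfl (one_mem _)
          | exact iff_of_true rfl ha | exact iff_of_true rfl hb
          | exact iff_of_true rfl ((hm _ _).2 (iff_of_true ha hb))
          | exact iff_of_true rfl ((hm _ _).2 (iff_of_false ha hb))
          | exact iff_of_false (by decide) ha | exact iff_of_false (by decide) hb
          | exact iff_of_false (by decide) (mt (hm _ _).1 (by simp [ha, hb]))
      · refine key 2 fun p => ?_
        rcases hall p with rfl | rfl | rfl | rfl <;>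
          first
          | exact iff_of_true rfl (one_mem _)
          | exact iff_of_true rfl ha | exact iff_of_true rfl hb
          | exact iff_of_true rfl ((hm _ _).2 (iff_of_true ha hb))
          | exact iff_of_true rfl ((hm _ _).2 (iff_of_false ha hb))
          | exact iff_of_false (by decide) ha | exact iff_of_false (by decide) hb
          | exact iff_of_false (by decide) (mt (hm _ _).1 (by simp [ha, hb]))
  rw [← Nat.card_eq_of_bijective f hf, Nat.card_fin]

end Cfsg.Agent.S0797
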