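import Cfsg.Agent.Lib.Orth.Eichler

set_option autoImplicit false
open Cfsg

namespace Cfsg.Agent.S0798

open Cfsg.Agent.Orth Module
open QuadraticMap (polar)

variable {ι : Type} [Fintype ι] [DecidableEq ι] {F : Type*} [Field F]
variable {Q : QuadraticForm F (ι → F)}

theorem resSpace_mul_le (g h : IsoGrp Q) : resSpace (g * h) ≤ resSpace g ⊔ resSpace h := by
  rintro _ ⟨x, rfl⟩
  show ap (g * h) x - x ∈ _
  rw [ap_mul, ← sub_add_sub_cancel (ap g (ap h x)) (ap h x) x]
  exact Submodule.add_mem_sup (sub_mem_resSpace g _) (sub_mem_resSpace h x)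

theorem resSpace_refl_le (v : ι → F) : resSpace (refl Q v) ≤ (F ∙ v) := by
  rintro _ ⟨x, rfl⟩
  show ap (refl Q v) x - x ∈ _
  rw [refl_ap, sub_sub_cancel_left]
  exact Submodule.neg_mem _ (Submodule.smul_mem _ _ (Submodule.mem_span_singleton_self v))

theorem mul_self_of_finrank_one (hQ : Q.polarBilin.Nondegenerate) {h : IsoGrp Q}
    (h1 : finrank F (resSpace h) = 1) : h * h = 1 := by
  have hne : resSpace h ≠ ⊥ := fun hb => by rw [hb, finrank_bot] at h1; omega
  obtain ⟨d, hd, hd0⟩ := (Submodule.ne_bot_iff _).1 hne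
  obtain ⟨x, hx⟩ := mem_resSpace.1 hd
  have hQd : Q d ≠ 0 := by
    intro h0
    apply hd0
    have hfx : polar ⇑Q d x = 0 := by
      have h2 := Q_ap h x
      rw [show ap h x = x + d by rw [← hx]; abel, Q_add, h0] at h2
      rw [pl_comm]; linear_combination h2
    have hall : ∀ w ∈ resSpace h, polar ⇑Q x w = 0 := by
      intro w hw
      obtain ⟨c, rfl⟩ : ∃ c : F, c • d = w := by
        have hle : (F ∙ d) ≤ resSpace h := (Submodule.span_singleton_le_iff_mem _ _).2 hd
        have := Submodule.eq_of_le_of_finrank_eq hle (by rw [h1, finrank_span_singleton hd0])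
        rw [← this] at hw
        exact Submodule.mem_span_singleton.1 hw
      rw [pl_smul_right, pl_comm, hfx, mul_zero]
    rw [← hx, fix_of_orth hQ hall, sub_self]
  have := finrank_resSpace_refl_mul_add_one hQ hQd hd
  have h3 : refl Q d * h = 1 := eq_one_of_resSpace_eq_bot (Submodule.finrank_eq_zero.1 (by omega))
  have h4 : h = refl Q d := by
    rw [← refl_inv, eq_inv_of_mul_eq_one_right h3]
  rw [h4, refl_mul_self]

variable [Fintype F]

/-- The subgroup generated by the reflections with norm in the class of `c`. -/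
def classGrp (Q : QuadraticForm F (ι → F)) (c : F) : Subgroup (IsoGrp Q) :=
  Subgroup.closure {g | ∃ (v : ι → F) (t : F), t ≠ 0 ∧ Q v = c * t ^ 2 ∧ g = refl Q v}

theorem refl_mem_classGrp {c : F} {v : ι → F} (t : F) (ht : t ≠ 0) (hv : Q v = c * t ^ 2) :
    refl Q v ∈ classGrp Q c := Subgroup.subset_closure ⟨v, t, ht, hv, rfl⟩

instance classGrp_normal (c : F) : (classGrp Q c).Normal where
  conj_mem x hx g := by
    have h : Subgroup.map (MulAut.conj g).toMonoidHom (classGrp Q c) ≤ classGrp Q c := by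
      rw [classGrp, MonoidHom.map_closure, Subgroup.closure_le]
      rintro _ ⟨_, ⟨v, t, ht, hv, rfl⟩, rfl⟩
      exact Subgroup.subset_closure ⟨ap g v, t, ht, by rw [Q_ap, hv], by simp [conj_refl]⟩
    exact h ⟨x, hx, rfl⟩

/-- Two vectors of equal norm spanning a non-degenerate plane. -/
theorem pair_mem (hQ : Q.polarBilin.Nondegenerate) (h2 : (2 : F) ≠ 0) {c : F} (hc : c ≠ 0)
    {u x : ι → F} (hu : Q u ≠ 0) (hux : Q x = Q u)
    (hd : polar ⇑Q u x * polar ⇑Q u x ≠ 4 * (Q u * Q u)) :
    refl Q u * refl Q x ∈ classGrp Q c := by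
  have hG := Good.of_two_ne_zero hQ h2
  set z := u - x with hz
  have hQz' : Q u + Q u - polar ⇑Q u x ≠ 0 := fun h => hd (by
    rw [show polar ⇑Q u x = 2 * Q u by linear_combination -h]; ring)
  have hQz : Q z ≠ 0 := by rw [hz, Q_sub, hux]; exact hQz'
  have hzu : ap (refl Q z) u = x := by
    rw [refl_ap, hz, Q_sub, hux, pl_sub_left, pl_self, pl_comm Q x u,
      show 2 * Q u - polar ⇑Q u x = Q u + Q u - polar ⇑Q u x by ring, inv_mul_cancel₀ hQz', one_smul,
      sub_sub_cancel]
  -- the plane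
  set W := Submodule.span F ({u, x} : Set (ι → F)) with hW
  have hWn : ∀ w ∈ W, w ≠ 0 → ∃ y ∈ W, polar ⇑Q w y ≠ 0 := by
    intro w hw hw0
    by_contra! hall
    obtain ⟨α, β, rfl⟩ := Submodule.mem_span_pair.1 hw
    have e1 := hall u (Submodule.subset_span (Set.mem_insert _ _))
    have e2 := hall x (Submodule.subset_span (Set.mem_insert_of_mem _ rfl))
    rw [pl_add_left, pl_smul_left, pl_smul_left, pl_self, pl_comm Q x u] at e1
    rw [pl_add_left, pl_smul_left, pl_smul_left, pl_self, hux] at e2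
    have hα : α * (4 * (Q u * Q u) - polar ⇑Q u x * polar ⇑Q u x) = 0 := by
      linear_combination 2 * Q u * e1 - polar ⇑Q u x * e2
    have hβ : β * (4 * (Q u * Q u) - polar ⇑Q u x * polar ⇑Q u x) = 0 := by
      linear_combination 2 * Q u * e2 - polar ⇑Q u x * e1
    have hd' := sub_ne_zero.2 (Ne.symm hd)
    rw [mul_eq_zero] at hα hβ
    simp [hα.resolve_right hd', hβ.resolve_right hd'] at hw0
  have hdim : 2 ≤ finrank F W := by
    have hind : LinearIndependent F ![u, x] := by
      rw [LinearIndependent.pair_iff' (fun h => hu (by simp [h]))]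
      intro t ht
      apply hd
      have h1 := hux
      rw [← ht, Q_smul] at h1
      have h4 : t * t = 1 := mul_right_cancel₀ hu (by rw [h1, one_mul])
      rw [← ht, pl_smul_right, pl_self]
      linear_combination 4 * (Q u * Q u) * h4
    have := finrank_span_eq_card hind
    rw [show Set.range ![u, x] = {u, x} by ext; simp [eq_comm, or_comm], Fintype.card_fin] at this
    rw [hW, this]
  obtain ⟨a, ha, hQa⟩ := exists_Q_eq_in W hWn hdim c
  have hQa0 : Q a ≠ 0 := by rwa [hQa]
  set g := refl Q z * refl Q u with hg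
  have hgu : ap g u = -x := by rw [hg, ap_mul, refl_ap_self Q hu, map_neg, hzu]
  have hrx : refl Q x = g * refl Q u * g⁻¹ := by
    rw [conj_refl, hgu, ← neg_one_smul F x, refl_smul Q (neg_ne_zero.2 one_ne_zero)]
  -- `r_a g` is a reflection of the plane
  have hsq : (refl Q a * g) * (refl Q a * g) = 1 := by
    refine mul_self_of_finrank_one hQ ?_
    have hle : resSpace (refl Q a * g) ≤ W := by
      refine (resSpace_mul_le _ _).trans (sup_le ((resSpace_refl_le a).trans
        ((Submodule.span_singleton_le_iff_mem _ _).2 ha)) ((resSpace_mul_le _ _).trans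
        (sup_le ((resSpace_refl_le z).trans ((Submodule.span_singleton_le_iff_mem _ _).2
          (sub_mem (Submodule.subset_span (Set.mem_insert _ _))
            (Submodule.subset_span (Set.mem_insert_of_mem _ rfl)))))
          ((resSpace_refl_le u).trans ((Submodule.span_singleton_le_iff_mem _ _).2
            (Submodule.subset_span (Set.mem_insert _ _)))))))
    have hle2 : finrank F W ≤ 2 := by
      classical
      rw [hW]
      exact (finrank_span_le_card _).trans (by simpa using Finset.card_le_two)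
    have h3 := (Submodule.finrank_mono hle).trans hle2
    have hodd : dick (refl Q a * g) = -1 := by
      rw [hg, dick_refl_mul hQ _ hQa0, dick_refl_mul hQ _ hQz, dick_refl hQ hu]; norm_num
    rw [dick] at hodd
    generalize finrank F (resSpace (refl Q a * g)) = k at h3 hodd
    interval_cases k <;> simp_all
  have hginv : refl Q a * g * refl Q a = g⁻¹ := eq_inv_of_mul_eq_one_left (by
    rw [mul_assoc]; exact hsq)
  have key : refl Q u * refl Q x = refl Q a * refl Q (ap g a) := by
    have e2 : refl Q u * refl Q x = g⁻¹ * g⁻¹ := by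
      rw [hrx, hg, _root_.mul_inv_rev, refl_inv, refl_inv]
      simp only [mul_assoc]
      rw [← mul_assoc (refl Q u) (refl Q u) (refl Q u * refl Q z), refl_mul_self, one_mul]
    rw [e2, ← conj_refl]
    nth_rewrite 1 [← hginv]
    simp only [mul_assoc]
  rw [key]
  exact mul_mem (refl_mem_classGrp 1 one_ne_zero (by rw [hQa, one_pow, mul_one]))
    (refl_mem_classGrp 1 one_ne_zero (by rw [Q_ap, hQa, one_pow, mul_one]))

theorem exists_detour (hQ : Q.polarBilin.Nondegenerate) (h2 : (2 : F) ≠ 0)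
    (hn : 4 ≤ Fintype.card ι) (h43 : (∃ t : F, t ≠ 0 ∧ t ≠ 1 ∧ t ≠ -1) ∨ 5 ≤ Fintype.card ι)
    {u s : ι → F} (hu : Q u ≠ 0) (hs : Q s = 0) (hs0 : s ≠ 0) (hus : polar ⇑Q u s = 0) :
    ∃ y, Q y = Q u ∧ polar ⇑Q u y = 0 ∧ polar ⇑Q s y * polar ⇑Q s y ≠ 4 * (Q u * Q u) := by
  obtain ⟨p0, -, hp1, hp2⟩ := exists_sep (Q := Q) (W := (⊤ : Submodule F (ι → F)))
    (fun w _ hw => by simpa using exists_polar_ne hQ hw) (z := s) (z2 := u) Submodule.mem_top
    Submodule.mem_top (fun h => hu (by simp [h])) (fun hmem => by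
      obtain ⟨t, ht⟩ := Submodule.mem_span_singleton.1 hmem
      rw [← ht, pl_smul_right, pl_self, mul_eq_zero] at hus
      rcases hus with h | h
      · exact hs0 (by rw [← ht, h, zero_smul])
      · exact mul_ne_zero h2 hu h)
  set p := (polar ⇑Q s p0)⁻¹ • p0 with hp
  have hsp : polar ⇑Q s p = 1 := by rw [hp, pl_smul_right, inv_mul_cancel₀ hp2]
  have hup : polar ⇑Q u p = 0 := by rw [hp, pl_smul_right, hp1, mul_zero]
  obtain ⟨s', hss, hus'⟩ : ∃ s', HPair Q s s' ∧ polar ⇑Q u s' = 0 :=
    ⟨p - Q p • s, ⟨hs, by rw [Q_sub, Q_smul Q (Q p) s, hs, pl_smul_right, pl_comm Q p s, hsp]; ring,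
      by rw [pl_sub_right, hsp, pl_smul_right, pl_self, hs]; ring⟩,
      by rw [pl_sub_right, hup, pl_smul_right, hus]; ring⟩
  have h4 : (4 : F) * (Q u * Q u) ≠ 0 := by
    rw [show (4 : F) = 2 * 2 by norm_num]; exact mul_ne_zero (mul_ne_zero h2 h2) (mul_ne_zero hu hu)
  rcases h43 with ⟨t, ht0, ht1, ht2⟩ | h5
  · set b := 2 * Q u * t with hb
    have hb0 : b ≠ 0 := mul_ne_zero (mul_ne_zero h2 hu) ht0
    refine ⟨b • s' + (Q u / b) • s, ?_, ?_, ?_⟩
    · rw [Q_add, Q_smul, Q_smul, hss.qf, hs, pl_smul_left, pl_smul_right, pl_comm Q s' s, hss.pf]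
      field_simp; ring
    · rw [pl_add_right, pl_smul_right, pl_smul_right, hus', hus]; ring
    · rw [pl_add_right, pl_smul_right, pl_smul_right, hss.pf, pl_self, hs, hb]
      intro h
      have : (t * t - 1) * (4 * (Q u * Q u)) = 0 := by linear_combination h
      rcases mul_self_eq_one_iff.1 (sub_eq_zero.1 ((mul_eq_zero.1 this).resolve_right h4)) with h' | h'
      · exact ht1 h'
      · exact ht2 h'
  · set H := orthFam Q ![s, s', u] with hH
    have hm : ∀ w, w ∈ H ↔ w ∈ perp Q s s' ∧ polar ⇑Q u w = 0 := fun w => by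
      simp [hH, mem_orthFam, mem_perp, Fin.forall_fin_succ, and_assoc]
    have huW : u ∈ perp Q s s' :=
      mem_perp.2 ⟨by rw [pl_comm]; exact hus, by rw [pl_comm]; exact hus'⟩
    have hHn : ∀ w ∈ H, w ≠ 0 → ∃ y ∈ H, polar ⇑Q w y ≠ 0 := by
      intro w hw hw0
      obtain ⟨y, hy, hwy⟩ := hss.perp_nondeg hQ ((hm w).1 hw).1 hw0
      refine ⟨y - (polar ⇑Q u y / (2 * Q u)) • u,
        (hm _).2 ⟨sub_mem hy (Submodule.smul_mem _ _ huW), ?_⟩, ?_⟩
      · rw [pl_sub_right, pl_smul_right, pl_self, div_mul_cancel₀ _ (mul_ne_zero h2 hu), sub_self]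
      · rw [pl_sub_right, pl_smul_right, pl_comm Q w u, ((hm w).1 hw).2]
        simpa using hwy
    have hd : Fintype.card ι ≤ finrank F H + 3 := card_le_finrank_orthFam ![s, s', u]
    obtain ⟨y, hy, hQy⟩ := exists_Q_eq_in (Q := Q) H hHn (by omega) (Q u)
    refine ⟨y, hQy, ((hm y).1 hy).2, ?_⟩
    rw [(mem_perp.1 ((hm y).1 hy).1).1]
    simpa using h4.symm

/-- For q odd, n ≥ 2 even, Q with non-degenerate polar form (n, |F|) ≠ (4, 3), and a fixed c ≠ 0: the subgroup of the isometry group generated by the reflections r_v with Q(v) ∈ c·(F^×)² has index 2. -/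
theorem result {F : Type*} [Field F] [Fintype F] (h2 : (2 : F) ≠ 0) {n : ℕ} (hn : 2 ≤ n) (heven : Even n) (Q : QuadraticForm F (Fin n → F)) (hQ : (QuadraticMap.polarBilin Q).Nondegenerate) (h43 : ¬ (n = 4 ∧ Fintype.card F = 3)) (c : F) (hc : c ≠ 0) : (Subgroup.closure {g : ↥(Cfsg.isometryGroup F ⇑Q) | ∃ (v : Fin n → F) (t : F), t ≠ 0 ∧ Q v = c * t ^ 2 ∧ ((g : Matrix.GeneralLinearGroup (Fin n) F) : Matrix (Fin n) (Fin n) F) = Cfsg.reflectionMatrix ⇑Q v}).index = 2 := by
  classical
  have hG := Good.of_two_ne_zero hQ h2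
  have hn' : 2 ≤ Fintype.card (Fin n) := by simpa using hn
  have hset : {g : ↥(Cfsg.isometryGroup F ⇑Q) | ∃ (v : Fin n → F) (t : F), t ≠ 0 ∧ Q v = c * t ^ 2 ∧
      ((g : Matrix.GeneralLinearGroup (Fin n) F) : Matrix (Fin n) (Fin n) F) = Cfsg.reflectionMatrix ⇑Q v} =
      {g | ∃ (v : Fin n → F) (t : F), t ≠ 0 ∧ Q v = c * t ^ 2 ∧ g = Orth.refl Q v} := by
    ext g
    refine ⟨?_, ?_⟩
    · rintro ⟨v, t, ht, hv, hg⟩
      exact ⟨v, t, ht, hv, eq_refl_of_mat Q hg⟩
    · rintro ⟨v, t, ht, hv, rfl⟩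
      exact ⟨v, t, ht, hv, rfl⟩
  rw [hset]
  show (classGrp Q c).index = 2
  have hΩ : Omega F ⇑Q ≤ classGrp Q c := by
    refine commutator_le_of_refl hG _ fun u v hu _ => ?_
    rw [refl_quad_eq]
    set x := ap (Orth.refl Q v) u
    have hx : Q x = Q u := Q_ap _ _
    by_cases hd : polar ⇑Q u x * polar ⇑Q u x ≠ 4 * (Q u * Q u)
    · exact pair_mem hQ h2 hc hu hx hd
    rw [not_not] at hd
    obtain ⟨x', hx', hfx, hrx⟩ : ∃ x', Q x' = Q u ∧ polar ⇑Q u x' = 2 * Q u ∧ Orth.refl Q x' = Orth.refl Q x := by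
      have : (polar ⇑Q u x - 2 * Q u) * (polar ⇑Q u x + 2 * Q u) = 0 := by linear_combination hd
      rcases mul_eq_zero.1 this with h | h
      · exact ⟨x, hx, sub_eq_zero.1 h, rfl⟩
      · exact ⟨(-1 : F) • x, by rw [Q_smul, hx]; ring, by rw [pl_smul_right]; linear_combination -h,
          refl_smul Q (neg_ne_zero.2 one_ne_zero) x⟩
    rw [← hrx]
    set s := x' - u with hs
    have hQs : Q s = 0 := by rw [hs, Q_sub, hx', pl_comm Q x' u, hfx]; ring
    have hus : polar ⇑Q u s = 0 := by rw [hs, pl_sub_right, hfx, pl_self]; ring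
    by_cases hs0 : s = 0
    · rw [show x' = u from sub_eq_zero.1 hs0, refl_mul_self]; exact one_mem _
    -- in dimension two the form would be degenerate
    have hn4 : 4 ≤ n := by
      obtain ⟨k, hk⟩ := heven
      by_contra hlt
      have hind : LinearIndependent F ![s, u] := by
        rw [LinearIndependent.pair_iff' hs0]
        intro a ha
        exact hu (by rw [← ha, Q_smul, hQs, mul_zero])
      have hsp := hind.span_eq_top_of_card_eq_finrank' (by rw [finrank_space]; simp; omega)
      obtain ⟨y, hy⟩ := exists_polar_ne hQ hs0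
      apply hy
      have hmem : y ∈ Submodule.span F (Set.range ![s, u]) := hsp ▸ Submodule.mem_top
      obtain ⟨a, ha⟩ := (Submodule.mem_span_range_iff_exists_fun F).1 hmem
      rw [← ha, Fin.sum_univ_two]
      simp [pl_add_right, pl_smul_right, pl_self, hQs, pl_comm Q s u, hus]
    have hor : (∃ t : F, t ≠ 0 ∧ t ≠ 1 ∧ t ≠ -1) ∨ 5 ≤ Fintype.card (Fin n) := by
      by_cases h5 : 5 ≤ n
      · right; simpa using h5
      left
      by_contra! hall
      apply h43
      refine ⟨by omega, ?_⟩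
      have hun : (Finset.univ : Finset F) = {0, 1, -1} := by
        ext t
        simp only [Finset.mem_univ, Finset.mem_insert, Finset.mem_singleton, true_iff]
        by_cases h0 : t = 0
        · exact .inl h0
        by_cases h1 : t = 1
        · exact .inr (.inl h1)
        exact .inr (.inr (hall t h0 h1))
      rw [← Finset.card_univ, hun]
      have h1 : (1 : F) ≠ -1 := fun h => h2 (by linear_combination h)
      simp [h1]
    obtain ⟨y, hy, huy, hsy⟩ := exists_detour hQ h2 (by simpa using hn4) hor hu hQs hs0 hus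
    have hy0 : Q y ≠ 0 := by rw [hy]; exact hu
    have h4 : (4 : F) * (Q u * Q u) ≠ 0 := by
      rw [show (4 : F) = 2 * 2 by norm_num]; exact mul_ne_zero (mul_ne_zero h2 h2) (mul_ne_zero hu hu)
    have m1 := pair_mem hQ h2 hc (u := u) (x := y) hu hy (by rw [huy]; simpa using h4.symm)
    have hxy : polar ⇑Q y x' = polar ⇑Q s y := by
      rw [hs, pl_sub_left, huy, sub_zero, pl_comm]
    have m2 := pair_mem hQ h2 hc (u := y) (x := x') hy0 (by rw [hx', hy]) (by rw [hxy, hy]; exact hsy)
    have := mul_mem m1 m2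
    rwa [mul_assoc, ← mul_assoc (Orth.refl Q y), refl_mul_self, one_mul] at this
  -- the homomorphism whose kernel is the class group
  have hηc := quadraticChar_dichotomy hc
  let ψ : IsoGrp Q →* ℤ := if quadraticChar F c = 1 then spinHom hG else spinHom hG * dickHom hG
  have hψr : ∀ v, Q v ≠ 0 → ψ (Orth.refl Q v) = quadraticChar F (Q v) * quadraticChar F c := by
    intro v hv
    rcases hηc with h | h <;> simp [ψ, h, spin_refl hQ hv, dick_refl hQ hv]
  have hker : classGrp Q c = ψ.toHomUnits.ker := by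
    apply le_antisymm
    · rw [classGrp, Subgroup.closure_le]
      rintro _ ⟨v, t, ht, hv, rfl⟩
      rw [SetLike.mem_coe, MonoidHom.mem_ker, Units.ext_iff]
      show ψ (Orth.refl Q v) = 1
      rw [hψr v (by rw [hv]; exact mul_ne_zero hc (pow_ne_zero _ ht)), hv, map_mul,
        quadraticChar_sq_one' ht, mul_one]
      rcases hηc with h | h <;> simp [h]
    · intro g hg
      rw [MonoidHom.mem_ker, Units.ext_iff] at hg
      have hg' : ψ g = 1 := hg
      have hsd : ∀ g : IsoGrp Q, ψ g = 1 → dick g = 1 → g ∈ classGrp Q c := fun g h hd =>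
        hΩ ((mem_omega_iff hG g).2 ⟨hd, by rcases hηc with hh | hh <;> simpa [ψ, hh, hd] using h⟩)
      obtain ⟨a, ha⟩ := exists_Q_eq hQ hn' c
      have hra : Orth.refl Q a ∈ classGrp Q c :=
        refl_mem_classGrp 1 one_ne_zero (by rw [ha, one_pow, mul_one])
      rcases dick_eq_or g with hd | hd
      · exact hsd g hg' hd
      · have hm := hsd (Orth.refl Q a * g) ?_ ?_
        · have := mul_mem hra hm
          rwa [← mul_assoc, refl_mul_self, one_mul] at this
        · rw [map_mul, hg', hψr a (by rw [ha]; exact hc), ha, mul_one, ← sq, quadraticChar_sq_one hc]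
        · rw [dick_refl_mul hQ g (by rw [ha]; exact hc), hd]; norm_num
  rw [hker, Subgroup.index_ker, MonoidHom.range_eq_top.2 ?_, Subgroup.card_top]
  · simp
  · obtain ⟨d, hd⟩ := quadraticChar_exists_neg_one' (F := F) (fun h => h2 (by
      have := ringChar.charP F
      have := CharP.cast_eq_zero F (ringChar F)
      rw [h] at this; exact_mod_cast this))
    obtain ⟨v, hv⟩ := exists_Q_eq hQ hn' (c * d)
    intro a
    rcases Int.units_eq_one_or a with rfl | rfl
    · exact ⟨1, map_one _⟩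
    · refine ⟨Orth.refl Q v, Units.ext ?_⟩
      show ψ (Orth.refl Q v) = -1
      rw [hψr v (by rw [hv]; exact mul_ne_zero hc d.ne_zero), hv, map_mul, hd]
      rcases hηc with h | h <;> simp [h]

end Cfsg.Agent.S0798
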