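import Cfsg.Statements.S0799
import Cfsg.Agent.Lib.PSL2.Facts

set_option autoImplicit false
open Cfsg

namespace Cfsg.Agent.S0799

/-- Dickson's classification of the subgroups of PSL_2(q), q a power of the prime p, d = gcd(2, q − 1): every subgroup H is (a) cyclic or dihedral with k dividing (q+1)/d or (q−1)/d (cyclic of order k, or dihedral of order 2k), (b) isomorphic to a subgroup of the normaliser of a Sylow p-subgroup, (c) isomorphic to A_4, S_4 or A_5, or (d) isomorphic to PSL_2(K) or PGL_2(K) for a finite field K with |K|^m = q. -/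
theorem result {F : Type*} [Field F] [Fintype F] {q : ℕ} (hF : Fintype.card F = q) (p : ℕ) [Fact p.Prime] [CharP F p] (H : Subgroup (Matrix.ProjectiveSpecialLinearGroup (Fin 2) F)) : (∃ k : ℕ, (k ∣ (q + 1) / Nat.gcd 2 (q - 1) ∨ k ∣ (q - 1) / Nat.gcd 2 (q - 1)) ∧ ((IsCyclic H ∧ Nat.card H = k) ∨ Nonempty (H ≃* DihedralGroup k))) ∨ (∃ (P : Sylow p (Matrix.ProjectiveSpecialLinearGroup (Fin 2) F)) (K : Subgroup (Matrix.ProjectiveSpecialLinearGroup (Fin 2) F)), K ≤ Subgroup.normalizer ((P : Subgroup (Matrix.ProjectiveSpecialLinearGroup (Fin 2) F)) : Set (Matrix.ProjectiveSpecialLinearGroup (Fin 2) F)) ∧ Nonempty (H ≃* K)) ∨ Nonempty (H ≃* alternatingGroup (Fin 4)) ∨ Nonempty (H ≃* Equiv.Perm (Fin 4)) ∨ Nonempty (H ≃* alternatingGroup (Fin 5)) ∨ (∃ (K : Type) (_ : Field K) (_ : Fintype K) (m : ℕ), Fintype.card K ^ m = q ∧ (Nonempty (H ≃* Matrix.ProjectiveSpecialLinearGroup (Fin 2) K) ∨ Nonempty (H ≃* Matrix.ProjGenLinGroup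 (Fin 2) K))) := by
  subst hF
  rw [← Nat.card_eq_fintype_card]
  rcases PSL2.psl_dickson p H with ⟨-, S, hS⟩ | ⟨-, hc, h⟩ | ⟨n, -, -, h, -, -, he⟩ | ⟨-, h⟩ |
    ⟨-, -, h⟩ | ⟨R, m, -, hR, h⟩
  · exact Or.inr (Or.inl ⟨S, H, hS, ⟨MulEquiv.refl H⟩⟩)
  · exact Or.inl ⟨Nat.card H, h.symm, Or.inl ⟨hc, rfl⟩⟩
  · exact Or.inl ⟨n, h.symm, Or.inr he⟩
  · rcases h with h | h | h
    · exact Or.inr (Or.inr (Or.inl h))
    · exact Or.inr (Or.inr (Or.inr (Or.inl h)))
    · exact Or.inr (Or.inr (Or.inr (Or.inr (Or.inl h))))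
  · exact Or.inr (Or.inr (Or.inr (Or.inr (Or.inl h))))
  · obtain ⟨l, hl, hcl, -⟩ := PSL2.q_cases (F := R) p
    have : Fintype R := Fintype.ofFinite R
    have : Fintype (GaloisField p l) := Fintype.ofFinite _
    have hl0 : l ≠ 0 := by omega
    have hcard : Fintype.card R = Fintype.card (GaloisField p l) := by
      rw [← Nat.card_eq_fintype_card, ← Nat.card_eq_fintype_card, hcl, GaloisField.card p l hl0]
    let e : R ≃+* GaloisField p l := FiniteField.ringEquivOfCardEq hcard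
    refine Or.inr (Or.inr (Or.inr (Or.inr (Or.inr ⟨GaloisField p l, inferInstance, inferInstance, m,
      ?_, ?_⟩))))
    · rw [← hcard, ← Nat.card_eq_fintype_card, hR, Nat.card_eq_fintype_card]
    · rcases h with ⟨⟨f⟩⟩ | ⟨-, -, ⟨f⟩⟩
      · exact Or.inl ⟨f.trans (PSL2.pslEquiv e)⟩
      · exact Or.inr ⟨f.trans (PSL2.pglEquiv e)⟩

end Cfsg.Agent.S0799
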