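import Cfsg.Statements.S0810
import Cfsg.Agent.Lib.PSL2.Soluble

set_option autoImplicit false
open Cfsg

namespace Cfsg.Agent.S0810

/-- PSL_2(q) is minimal simple iff q is 2^r (r prime), 3^r (r an odd prime), a prime greater than 5 congruent to 2 or 3 mod 5, or 5. -/
theorem result {F : Type*} [Field F] [Fintype F] {q : ℕ} (hF : Fintype.card F = q) : Cfsg.IsMinimalSimple (Matrix.ProjectiveSpecialLinearGroup (Fin 2) F) ↔ ((∃ r : ℕ, r.Prime ∧ q = 2 ^ r) ∨ (∃ r : ℕ, r.Prime ∧ r ≠ 2 ∧ q = 3 ^ r) ∨ (q.Prime ∧ 5 < q ∧ (q % 5 = 2 ∨ q % 5 = 3)) ∨ q = 5) := by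
  subst hF
  rw [← Nat.card_eq_fintype_card]
  obtain ⟨p, hp⟩ := CharP.exists F
  have : Fact p.Prime := ⟨CharP.char_is_prime F p⟩
  obtain ⟨n, hn, hqn, hcase⟩ := PSL2.q_cases (F := F) p
  have hpp : p.Prime := Fact.out
  have hmul := PSL2.card_psl_mul (F := F)
  constructor
  · rintro ⟨hsimple, hnc, hsol⟩
    have hq4 : 4 ≤ Nat.card F := by
      by_contra hlt
      apply hnc
      have hq1 : 1 < Nat.card F := Finite.one_lt_card
      have hs : Group.IsSolvable (PSL2.PSL2 F) := by
        apply PSL2.isSolvable_of_card_two_three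
        interval_cases hq : Nat.card F <;> norm_num at hmul ⊢ <;> omega
      exact ⟨⟨IsSimpleGroup.comm_iff_isSolvable.2 hs⟩⟩
    -- no proper subfield with at least four elements
    have hsub : ∀ a b, 1 ≤ a → 2 ≤ b → n = a * b → p ^ a < 4 := by
      intro a b ha hb hab
      by_contra hlt
      push Not at hlt
      have hL : Nat.card (GaloisField p a) = p ^ a := GaloisField.card p a (by omega)
      obtain ⟨H, ⟨e⟩⟩ := PSL2.exists_psl_subfield_sub (F := F) (L := GaloisField p a) (m := b)
        (by rw [hL, hqn, hab, pow_mul])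
      refine PSL2.not_isSolvable_psl (L := GaloisField p a) (hL ▸ hlt) ?_
      have : Group.IsSolvable H := hsol H fun htop => by
        have h1 : Nat.card (PSL2.PSL2 F) = Nat.card (PSL2.PSL2 (GaloisField p a)) := by
          rw [← Nat.card_congr e.toEquiv, htop, Subgroup.card_top]
        obtain ⟨x, hx, -, hLx, -⟩ := PSL2.card_psl_split (F := GaloisField p a) p
        obtain ⟨y, hy, -, hFy, -⟩ := PSL2.card_psl_split (F := F) p
        have h2 := PSL2.eq_of_mul_pow_eq (a := n) (b := a) hpp hy hx
          (by rw [← hqn, ← hL, ← hFy, ← hLx, h1])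
        have := Nat.pow_right_injective hpp.two_le h2
        have : a * 2 ≤ a * b := Nat.mul_le_mul_left a hb
        omega
      exact Group.isSolvable_of_surjective (f := e.toMonoidHom) e.surjective
    have hA5 : 5 ∣ Nat.card F * (Nat.card F ^ 2 - 1) → Nat.card F ≤ 5 := by
      intro h5
      by_contra hlt
      obtain ⟨H, ⟨e⟩⟩ := PSL2.exists_alternatingFive_sub_iff.2 h5
      refine PSL2.not_isSolvable_altFive ?_
      have : Group.IsSolvable H := hsol H fun htop => by
        have h1 := PSL2.two_card_psl_ge (F := F)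
        have hc : Nat.card (PSL2.PSL2 F) = 60 := by
          rw [← Subgroup.card_top (G := PSL2.PSL2 F), ← htop]
          exact (Nat.card_congr e.toEquiv).trans PSL2.card_alt_five
        rw [hc] at h1
        have : 6 * (7 * 5) ≤ Nat.card F * ((Nat.card F + 1) * (Nat.card F - 1)) :=
          Nat.mul_le_mul (by omega) (Nat.mul_le_mul (by omega) (by omega))
        omega
      exact Group.isSolvable_of_surjective (f := e.toMonoidHom) e.surjective
    by_cases hn1 : n = 1
    · subst hn1
      rw [pow_one] at hqn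
      rcases Nat.lt_or_ge p 7 with hp7 | hp7
      · refine Or.inr (Or.inr (Or.inr ?_))
        rcases (show p = 4 ∨ p = 5 ∨ p = 6 by omega) with r | r | r
        · exact absurd (r ▸ hpp) (by decide)
        · omega
        · exact absurd (r ▸ hpp) (by decide)
      · refine Or.inr (Or.inr (Or.inl ⟨hqn ▸ hpp, by omega, ?_⟩))
        by_contra hne
        rw [hqn] at hA5 hne
        have : p ≤ 5 := by
          refine hA5 (Dvd.dvd.mul_left ?_ _)
          have h0 : p % 5 ≠ 0 := fun h0 => by
            have := (Nat.prime_dvd_prime_iff_eq (by norm_num : (5 : ℕ).Prime) hpp).1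
              (Nat.dvd_of_mod_eq_zero h0)
            omega
          have h' : p ^ 2 % 5 = 1 := by
            rw [Nat.pow_mod]
            rcases (show p % 5 = 1 ∨ p % 5 = 4 by omega) with r | r <;> rw [r] <;> norm_num
          omega
        omega
    · have hp3 : p ≤ 3 := by
        have := hsub 1 n le_rfl (by omega) (one_mul n).symm
        rw [pow_one] at this
        omega
      have hnp : n.Prime := by
        by_contra hnp
        obtain ⟨a, ⟨b, rfl⟩, ha, ha'⟩ := Nat.exists_dvd_of_not_prime2 (by omega) hnp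
        have hb : 2 ≤ b := by
          by_contra hb
          interval_cases b <;> omega
        have h1 := hsub a b (by omega) hb rfl
        have h2 : 2 ^ 2 ≤ p ^ a := (Nat.pow_le_pow_left hpp.two_le 2).trans
          (Nat.pow_le_pow_right hpp.pos ha)
        omega
      rcases (show p = 2 ∨ p = 3 by have := hpp.two_le; omega) with rfl | rfl
      · exact Or.inl ⟨n, hnp, hqn⟩
      · refine Or.inr (Or.inl ⟨n, hnp, ?_, hqn⟩)
        rintro rfl
        rw [hqn] at hA5
        exact absurd (hA5 (by norm_num)) (by norm_num)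
  · intro h
    have hq4 : 4 ≤ Nat.card F := by
      rcases h with ⟨r, hr, h⟩ | ⟨r, hr, -, h⟩ | ⟨-, h, -⟩ | h
      · rw [h]; exact (Nat.pow_le_pow_right two_pos hr.two_le).trans' (by norm_num)
      · rw [h]; exact (Nat.pow_le_pow_right three_pos hr.two_le).trans' (by norm_num)
      · omega
      · omega
    have hinj : ∀ a b, a.Prime → p ^ n = a ^ b → p = a ∧ n = b := by
      intro a b ha e
      obtain rfl := (Nat.prime_dvd_prime_iff_eq hpp ha).1
        (hpp.dvd_of_dvd_pow (e ▸ dvd_pow_self p (by omega)))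
      exact ⟨rfl, Nat.pow_right_injective hpp.two_le e⟩
    have hdata : (p ≤ 3 ∧ n.Prime ∧ (p = 3 → n ≠ 2)) ∨
        (n = 1 ∧ (p % 5 = 2 ∨ p % 5 = 3 ∨ p = 5)) := by
      rcases h with ⟨r, hr, h⟩ | ⟨r, hr, hr2, h⟩ | ⟨hq, -, h⟩ | h
      · rw [hqn] at h
        obtain ⟨rfl, rfl⟩ := hinj _ _ Nat.prime_two h
        exact Or.inl ⟨by norm_num, hr, fun h => absurd h (by norm_num)⟩
      · rw [hqn] at h
        obtain ⟨rfl, rfl⟩ := hinj _ _ Nat.prime_three h
        exact Or.inl ⟨le_rfl, hr, fun _ => hr2⟩
      · rw [hqn] at hq h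
        obtain rfl := Nat.Prime.eq_one_of_pow hq
        rw [pow_one] at h
        exact Or.inr ⟨rfl, by omega⟩
      · rw [hqn] at h
        obtain ⟨rfl, rfl⟩ := hinj 5 1 (by norm_num) (by rw [h, pow_one])
        exact Or.inr ⟨rfl, by norm_num⟩
    have hsimple := PSL2.isSimpleGroup_psl (L := F) hq4
    refine ⟨hsimple, fun hc => PSL2.not_comm_psl (L := F) (by omega) hc.is_comm.comm, fun H hH => ?_⟩
    have hno5 : ¬ Nonempty (H ≃* alternatingGroup (Fin 5)) := by
      rintro ⟨e⟩
      have h5 := PSL2.exists_alternatingFive_sub_iff.1 ⟨H, ⟨e⟩⟩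
      have h60 : Nat.card (PSL2.PSL2 F) = 60 → False := fun h60 =>
        hH (Subgroup.eq_top_of_card_eq H
          (((Nat.card_congr e.toEquiv).trans PSL2.card_alt_five).trans h60.symm))
      rcases hdata with ⟨hp3, hnp, hn2⟩ | ⟨rfl, hp5⟩
      · rcases hnp.eq_two_or_odd' with rfl | ⟨j, rfl⟩
        · rcases (show p = 2 ∨ p = 3 by have := hpp.two_le; omega) with rfl | rfl
          · apply h60
            rw [hqn] at hmul
            simpa using hmul
          · exact hn2 rfl rfl
        · rw [hqn] at h5
          rcases (Nat.Prime.dvd_mul (by norm_num)).1 h5 with h | h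
          · have := (Nat.prime_dvd_prime_iff_eq (by norm_num) hpp).1
              (Nat.Prime.dvd_of_dvd_pow (by norm_num : (5 : ℕ).Prime) h)
            omega
          · have h4 : (p ^ (2 * j + 1)) ^ 2 % 5 = 4 := by
              rw [← pow_mul, show (2 * j + 1) * 2 = 4 * j + 2 by ring, pow_add, pow_mul, Nat.mul_mod,
                Nat.pow_mod]
              rcases (show p = 2 ∨ p = 3 by have := hpp.two_le; omega) with rfl | rfl <;> norm_num
            omega
      · rw [pow_one] at hqn
        rcases hp5 with r | r | rfl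
        rotate_left 2
        · apply h60
          rw [hqn] at hmul
          norm_num at hmul
          omega
        all_goals
          rw [hqn] at h5
          rcases (Nat.Prime.dvd_mul (by norm_num)).1 h5 with h | h
          · omega
          · have h4 : p ^ 2 % 5 = 4 := by rw [Nat.pow_mod, r]
            omega
    rcases PSL2.psl_dickson p H with ⟨-, S, hS⟩ | ⟨-, hcyc, -⟩ | ⟨k, -, -, -, -, -, ⟨e⟩⟩ |
      ⟨-, ⟨⟨e⟩⟩ | ⟨⟨e⟩⟩ | h⟩ | ⟨-, -, h⟩ | ⟨R, m, hm, hR, hiso⟩
    · obtain ⟨P, hP⟩ := PSL2.normalizer_sylow_le p S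
      exact PSL2.isSolvable_of_le_stabilizer p (hS.trans hP)
    · exact Group.isSolvable_of_comm fun a b => by
        obtain ⟨g, hg⟩ := hcyc.exists_generator
        obtain ⟨i, rfl⟩ := hg a
        obtain ⟨j, rfl⟩ := hg b
        exact ((Commute.refl g).zpow_zpow i j).eq
    · have := PSL2.isSolvable_dihedral k
      exact Group.isSolvable_of_isSolvable_injective (f := e.toMonoidHom) e.injective
    · apply PSL2.isSolvable_of_card_two_three
      rw [(Nat.card_congr e.toEquiv).trans PSL2.card_alt_four]
      decide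
    · apply PSL2.isSolvable_of_card_two_three
      rw [(Nat.card_congr e.toEquiv).trans PSL2.card_perm_four]
      decide
    · exact absurd h hno5
    · exact absurd h hno5
    · by_cases hm1 : m = 1
      · subst hm1
        rcases hiso with ⟨⟨f⟩⟩ | ⟨-, he, -⟩
        · exact absurd (PSL2.eq_top_of_psl (by rw [← hR, pow_one]) f) hH
        · exact absurd he (by decide)
      · obtain ⟨k, -, hk⟩ := (Nat.dvd_prime_pow hpp).1
          (hqn ▸ hR ▸ dvd_pow_self _ (by omega) : Nat.card R ∣ p ^ n)
        rw [hk, hqn, ← pow_mul] at hR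
        have hkm := Nat.pow_right_injective hpp.two_le hR
        rcases hdata with ⟨hp3, hnp, -⟩ | ⟨rfl, -⟩
        · rcases hnp.eq_one_or_self_of_dvd k ⟨m, hkm.symm⟩ with rfl | rfl
          · rw [pow_one] at hk
            apply PSL2.isSolvable_of_card_two_three
            rcases hiso with ⟨⟨f⟩⟩ | ⟨hp2, -, ⟨f⟩⟩
            · have h1 := PSL2.card_psl_mul (F := R)
              rw [Nat.card_congr f.toEquiv]
              rw [hk] at h1
              rcases (show p = 2 ∨ p = 3 by have := hpp.two_le; omega) with rfl | rfl <;>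
                norm_num at h1 <;> rw [Finset.mem_insert, Finset.mem_insert, Finset.mem_singleton] <;>
                omega
            · rw [Nat.card_congr f.toEquiv, PSL2.card_pgl_eq, hk]
              obtain rfl : p = 3 := by have := hpp.two_le; omega
              decide
          · have : m = 1 := Nat.eq_of_mul_eq_mul_left hnp.pos (by rw [mul_one]; exact hkm)
            exact absurd this hm1
        · exact absurd (Nat.eq_one_of_mul_eq_one_left (hkm)) hm1

end Cfsg.Agent.S0810
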