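import Cfsg.Statements.S0817
import Cfsg.Agent.Lib.AutPOmega.OutPlus
import Cfsg.Agent.Lib.Triality.Out
-- import your own Cfsg.Agent.* helpers here

set_option autoImplicit false
open Cfsg

namespace Cfsg.Agent.S0817

/-- |Aut(PΩ⁺_2m(q))| for q = p^f, m ≥ 4: |PΩ⁺_2m(q)| times f, times 3 when m = 4, times 2 if p = 2, and times 8 or 4 if p is odd according as m(q−1)/2 is even or odd. -/
theorem result {F : Type*} [Field F] [Fintype F] (p f : ℕ) [Fact p.Prime] (hf : 1 ≤ f) (hF : Fintype.card F = p ^ f) (m : ℕ) (hm : 4 ≤ m) : Nat.card (MulAut (Cfsg.POmega F (Cfsg.quadFormPlus m F))) = (if m = 4 then 3 else 1) * (if p = 2 then 2 else (if Even (m * (p ^ f - 1) / 2) then 8 else 4)) * f * Nat.card (Cfsg.POmega F (Cfsg.quadFormPlus m F)) := by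
  refine (AutPOmega.card_mulAut_base (AutPOmega.basePlus (F := F) hm)).trans ?_
  congr 1
  by_cases h4 : m = 4
  · subst h4
    refine (Triality.card_out_eight hf hF).trans ?_
    rw [if_pos rfl]
    split_ifs with hp he
    · rfl
    · rfl
    · exact absurd ⟨p ^ f - 1, by omega⟩ he
  rw [if_neg h4, one_mul]
  refine (AutPOmega.card_out_plus hf hF (show 5 ≤ m by omega)).trans ?_
  by_cases hp : p = 2
  · rw [if_pos hp, if_pos hp]
  rw [if_neg hp, if_neg hp]
  have hodd : (p ^ f) % 2 = 1 := Nat.odd_iff.1 (((Fact.out : p.Prime).odd_of_ne_two hp).pow)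
  obtain ⟨k, hk⟩ : ∃ k, p ^ f = 2 * k + 1 := ⟨p ^ f / 2, by omega⟩
  have h1 : Even (m * (p ^ f - 1) / 2) ↔ ¬(p ^ f % 4 = 3 ∧ Odd m) := by
    rw [show m * (p ^ f - 1) = 2 * (m * k) by rw [hk, Nat.add_sub_cancel]; ring,
      Nat.mul_div_cancel_left _ two_pos, Nat.even_mul]
    simp only [Nat.even_iff, Nat.odd_iff, hk]
    omega
  simp only [h1, ite_not]

end Cfsg.Agent.S0817
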