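import Cfsg.Statements.S0819
import Cfsg.Agent.EqLemmas

set_option autoImplicit false
open Cfsg

namespace Cfsg.Agent.S0819

theorem pair_case {K : Type*} [Field K] {f : K → K} (hf : Function.Injective f) (hpow : ∀ x, f x = x ^ 4)
    {a b c : K} (hm : ({f a, f b, f c} : Multiset K) = {a, b, c}) (habc : a * b * c = 1)
    (ha : a ^ 45 = 1) (hab : f a = b) :
    a ^ 9 = 1 ∨ (a ^ 5 = b ^ 5 ∧ a ^ 5 = c ^ 5) := by
  simp only [Multiset.insert_eq_cons, hab] at hm
  rw [Multiset.cons_swap a b, Multiset.cons_inj_right] at hm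
  have hfb : f b = a ∨ f b = c := by
    have : f b ∈ a ::ₘ ({c} : Multiset K) := hm ▸ Multiset.mem_cons_self _ _
    simpa using this
  rcases hfb with hfb | hfb
  · right
    rw [hfb, Multiset.cons_inj_right, Multiset.singleton_inj] at hm
    have hc3 : c ^ 3 = 1 := by
      have h4 : c ^ 4 = c := (hpow c).symm.trans hm
      have hc0 : c ≠ 0 := fun h => by simp [h] at habc
      exact mul_right_cancel₀ hc0 (by rw [one_mul, ← pow_succ]; exact h4)
    have hb4 : a ^ 4 = b := (hpow a).symm.trans hab
    have h5 : a ^ 5 * c = 1 := by rw [← habc, ← hb4]; ring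
    have hcinv : a ^ 5 = c ^ 2 := by
      calc a ^ 5 = a ^ 5 * c ^ 3 := by rw [hc3, mul_one]
        _ = (a ^ 5 * c) * c ^ 2 := by ring
        _ = c ^ 2 := by rw [h5, one_mul]
    have hc5 : c ^ 5 = c ^ 2 := by rw [pow_add c 3 2, hc3, one_mul]
    have ha15 : a ^ 15 = 1 := by
      rw [show a ^ 15 = (a ^ 5) ^ 3 by ring, hcinv, ← pow_mul, pow_mul' c 2 3, hc3, one_pow]
    refine ⟨?_, hcinv.trans hc5.symm⟩
    rw [← hb4, ← pow_mul, show 4 * 5 = 15 + 5 from rfl, pow_add, ha15, one_mul]
  · left
    rw [hfb, show a ::ₘ ({c} : Multiset K) = c ::ₘ {a} from Multiset.cons_swap a c 0, Multiset.cons_inj_right,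
      Multiset.singleton_inj] at hm
    have h64 : a ^ 64 = a := by
      calc a ^ 64 = f (f (f a)) := by rw [hpow, hpow, hpow, ← pow_mul, ← pow_mul]
        _ = a := by rw [hab, hfb, hm]
    have ha0 : a ≠ 0 := fun h => by simp [h] at habc
    have h63 : a ^ 63 = 1 := mul_right_cancel₀ ha0 (by rw [one_mul, ← pow_succ]; exact h64)
    exact (pow_gcd_eq_one (a := a) (m := 63) (n := 45)).2 ⟨h63, ha⟩

theorem first_case {K : Type*} [Field K] {f : K → K} (hf : Function.Injective f) (hpow : ∀ x, f x = x ^ 4)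
    {a b c : K} (hm : ({f a, f b, f c} : Multiset K) = {a, b, c}) (habc : a * b * c = 1)
    (ha : a ^ 45 = 1) : a ^ 9 = 1 ∨ (a ^ 5 = b ^ 5 ∧ a ^ 5 = c ^ 5) := by
  have hfa : f a = a ∨ f a = b ∨ f a = c := by
    have : f a ∈ ({a, b, c} : Multiset K) := hm ▸ Multiset.mem_cons_self _ _
    simpa using this
  rcases hfa with h | h | h
  · left
    have ha0 : a ≠ 0 := fun h => by simp [h] at habc
    have h3 : a ^ 3 = 1 := mul_right_cancel₀ ha0 (by rw [one_mul, ← pow_succ]; exact (hpow a).symm.trans h)
    rw [show a ^ 9 = (a ^ 3) ^ 3 by ring, h3, one_pow]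
  · exact pair_case hf hpow hm habc ha h
  · have sw : ∀ x y z : K, ({x, y, z} : Multiset K) = {x, z, y} := fun x y z => by
      simp only [Multiset.insert_eq_cons, ← Multiset.singleton_add, add_comm ({y} : Multiset K)]
    rcases pair_case hf hpow (a := a) (b := c) (c := b) (by rw [sw (f a), sw a c b]; exact hm)
      (by rw [← habc]; ring) ha h with h' | ⟨h1, h2⟩
    · exact Or.inl h'
    · exact Or.inr ⟨h2, h1⟩


/-- No element of PSL_3(4) has order 15. -/
theorem result {F : Type*} [Field F] [Fintype F] (hF : Fintype.card F = 4) (g : Matrix.ProjectiveSpecialLinearGroup (Fin 3) F) : orderOf g ≠ 15 := by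
  classical
  intro hord
  obtain ⟨g, rfl⟩ := QuotientGroup.mk_surjective g
  obtain ⟨p, hp⟩ := CharP.exists F
  obtain ⟨n, hp', hn⟩ := FiniteField.card F p
  have h4 : p ^ (n : ℕ) = 4 := hn.symm.trans hF
  obtain rfl : p = 2 := by
    have hd : p ∣ 2 ^ 2 := by rw [show (2 : ℕ) ^ 2 = 4 by norm_num, ← h4]; exact dvd_pow_self p n.pos.ne'
    exact (Nat.prime_dvd_prime_iff_eq hp' Nat.prime_two).1 (hp'.dvd_of_dvd_pow hd)
  haveI := Fact.mk Nat.prime_two
  have hg45 : g ^ 45 = 1 := by
    have h15 : g ^ 15 ∈ Subgroup.center (Matrix.SpecialLinearGroup (Fin 3) F) := by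
      rw [← QuotientGroup.eq_one_iff, QuotientGroup.mk_pow, ← hord, pow_orderOf_eq_one]
    obtain ⟨r, hr, hrz⟩ := Matrix.SpecialLinearGroup.mem_center_iff.1 h15
    apply Matrix.SpecialLinearGroup.ext
    intro i j
    rw [show (45 : ℕ) = 15 * 3 from rfl, pow_mul, Matrix.SpecialLinearGroup.coe_pow, ← hrz, ← map_pow]
    rw [Fintype.card_fin] at hr
    rw [hr, map_one]
    rfl
  let K := AlgebraicClosure F
  let φ : F →+* K := algebraMap F K
  haveI : CharP K 2 := charP_of_injective_ringHom φ.injective 2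
  let G : Matrix (Fin 3) (Fin 3) K := (g : Matrix (Fin 3) (Fin 3) F).map φ
  have hG45 : G ^ 45 = 1 := by
    rw [show G = φ.mapMatrix (g : Matrix (Fin 3) (Fin 3) F) from rfl, ← map_pow, ← Matrix.SpecialLinearGroup.coe_pow, hg45, Matrix.SpecialLinearGroup.coe_one, map_one]
  let fr : K →+* K := iterateFrobenius K 2 2
  have hfr : ∀ x : K, fr x = x ^ 4 := fun x => iterateFrobenius_def (R := K) 2 2 x
  have hsplit : G.charpoly.Splits := IsAlgClosed.splits _
  have hcard : G.charpoly.roots.card = 3 := by
    rw [← hsplit.natDegree_eq_card_roots, Matrix.charpoly_natDegree_eq_dim, Fintype.card_fin]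
  have hroots : G.charpoly.roots.map fr = G.charpoly.roots := by
    rw [← hsplit.roots_map fr]
    refine congrArg Polynomial.roots ?_
    rw [← Matrix.charpoly_map]
    refine congrArg Matrix.charpoly (Matrix.ext fun i j => ?_)
    simp only [G, Matrix.map_apply]
    rw [hfr, ← map_pow]
    exact congrArg φ (by rw [← hF, FiniteField.pow_card])
  obtain ⟨a, b, c, habc⟩ := Multiset.card_eq_three.1 hcard
  have hprod : a * b * c = 1 := by
    have h := Matrix.det_eq_prod_roots_charpoly G
    rw [habc] at h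
    simp only [Multiset.insert_eq_cons, Multiset.prod_cons, Multiset.prod_singleton] at h
    have hd : G.det = 1 := by
      change (φ.mapMatrix (g : Matrix (Fin 3) (Fin 3) F)).det = 1
      rw [← RingHom.map_det, g.2, map_one]
    rw [mul_assoc, ← h, hd]
  have hm : ({fr a, fr b, fr c} : Multiset K) = {a, b, c} := by
    rw [← habc, ← hroots, habc]
    simp only [Multiset.insert_eq_cons, Multiset.map_cons, Multiset.map_singleton]
  have hsep : (Polynomial.X ^ 45 - 1 : Polynomial K).Separable := by
    rw [Polynomial.X_pow_sub_one_separable_iff, Ne, CharP.cast_eq_zero_iff K 2]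
    norm_num
  have hmin : minpoly K G ∣ (Polynomial.X ^ 45 - 1 : Polynomial K) := minpoly.dvd K G (by simp [hG45])
  have hmne : minpoly K G ≠ 0 := minpoly.ne_zero (Matrix.isIntegral G)
  have hev : ∀ x ∈ ({a, b, c} : Multiset K), x ^ 45 = 1 := by
    intro x hx
    rw [← habc, Polynomial.mem_roots'] at hx
    have hx' : (minpoly K G).IsRoot x := by
      rw [← Matrix.minpoly_toLin', ← Module.End.hasEigenvalue_iff_isRoot]
      rw [Module.End.hasEigenvalue_iff_isRoot_charpoly, Matrix.charpoly_toLin']
      exact hx.2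
    have := hx'.dvd hmin
    simpa [sub_eq_zero] using this
  have hscal : ∀ (k : ℕ) (s : K), 0 < k → (∀ x ∈ ({a, b, c} : Multiset K), x ^ k = s) →
      g ^ k ∈ Subgroup.center (Matrix.SpecialLinearGroup (Fin 3) F) := by
    intro k s hk hs
    have hdvd : minpoly K G ∣ Polynomial.X ^ k - Polynomial.C s := by
      rw [(IsAlgClosed.splits (minpoly K G)).dvd_iff_roots_le_roots hmne (Polynomial.X_pow_sub_C_ne_zero hk s)]
      rw [Multiset.le_iff_subset (Polynomial.nodup_roots (hsep.of_dvd hmin))]
      intro x hx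
      rw [Polynomial.mem_roots (Polynomial.X_pow_sub_C_ne_zero hk s)]
      rw [Polynomial.mem_roots'] at hx
      have : x ∈ ({a, b, c} : Multiset K) := by
        rw [← habc, Polynomial.mem_roots']
        exact ⟨(Matrix.charpoly_monic G).ne_zero, hx.2.dvd (Matrix.minpoly_dvd_charpoly G)⟩
      simp [hs x this]
    have hz : G ^ k = algebraMap K _ s := by
      obtain ⟨q, hq⟩ := hdvd
      have h := congrArg (Polynomial.aeval G) hq
      rw [map_mul, minpoly.aeval, zero_mul, map_sub, map_pow, Polynomial.aeval_X, Polynomial.aeval_C, sub_eq_zero] at h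
      exact h
    rw [Subgroup.mem_center_iff]
    intro h
    apply Subtype.ext
    apply Matrix.map_injective φ.injective
    change φ.mapMatrix _ = φ.mapMatrix _
    rw [Matrix.SpecialLinearGroup.coe_mul, Matrix.SpecialLinearGroup.coe_mul, map_mul, map_mul,
      Matrix.SpecialLinearGroup.coe_pow, map_pow, show φ.mapMatrix (g : Matrix (Fin 3) (Fin 3) F) = G from rfl, hz]
    exact (Algebra.commutes s _).symm
  have hcontra : ∀ k : ℕ, 0 < k → ¬ 15 ∣ k → g ^ k ∉ Subgroup.center (Matrix.SpecialLinearGroup (Fin 3) F) := by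
    intro k _ hnd hmem
    apply hnd
    rw [← hord, orderOf_dvd_iff_pow_eq_one, ← QuotientGroup.mk_pow, QuotientGroup.eq_one_iff]
    exact hmem
  have mem3 : ∀ {x : K}, x = a ∨ x = b ∨ x = c → x ∈ ({a, b, c} : Multiset K) := fun h => by simpa using h
  have rot : ∀ x y z : K, ({y, z, x} : Multiset K) = {x, y, z} := fun x y z => by
    simp only [Multiset.insert_eq_cons, ← Multiset.singleton_add]; abel
  have hfinj : Function.Injective fr := fr.injective
  rcases first_case hfinj hfr hm hprod (hev a (mem3 (Or.inl rfl))) with h1 | ⟨h1, h2⟩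
  · rcases first_case hfinj hfr (a := b) (b := c) (c := a) (by rw [rot (fr a), rot a b c]; exact hm)
      (by rw [← hprod]; ring) (hev b (mem3 (Or.inr (Or.inl rfl)))) with h3 | ⟨h3, h4⟩
    · rcases first_case hfinj hfr (a := c) (b := a) (c := b)
        (by rw [← rot (fr c) (fr a) (fr b), ← rot c a b]; exact hm)
        (by rw [← hprod]; ring) (hev c (mem3 (Or.inr (Or.inr rfl)))) with h5 | ⟨h5, h6⟩
      · exact hcontra 9 (by norm_num) (by norm_num) (hscal 9 1 (by norm_num) (fun x hx => by
          simp only [Multiset.insert_eq_cons, Multiset.mem_cons, Multiset.mem_singleton] at hx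
          rcases hx with rfl | rfl | rfl <;> assumption))
      · exact hcontra 5 (by norm_num) (by norm_num) (hscal 5 (c ^ 5) (by norm_num) (fun x hx => by
          simp only [Multiset.insert_eq_cons, Multiset.mem_cons, Multiset.mem_singleton] at hx
          rcases hx with rfl | rfl | rfl <;> simp_all))
    · exact hcontra 5 (by norm_num) (by norm_num) (hscal 5 (b ^ 5) (by norm_num) (fun x hx => by
        simp only [Multiset.insert_eq_cons, Multiset.mem_cons, Multiset.mem_singleton] at hx
        rcases hx with rfl | rfl | rfl <;> simp_all))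
  · exact hcontra 5 (by norm_num) (by norm_num) (hscal 5 (a ^ 5) (by norm_num) (fun x hx => by
      simp only [Multiset.insert_eq_cons, Multiset.mem_cons, Multiset.mem_singleton] at hx
      rcases hx with rfl | rfl | rfl <;> simp_all))

end Cfsg.Agent.S0819
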