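import Cfsg.Statements.S0821
import Cfsg.Agent.EqLemmas
import Cfsg.Agent.Lib.InvolCount.Symp
import Cfsg.Agent.Lib.InvolCount.Orth

set_option autoImplicit false
open Cfsg

namespace Cfsg.Agent.S0821

open Cfsg.Agent.InvolCount


/-- PSp_2m(q) ≇ PΩ_(2m+1)(q) for q odd and m ≥ 3 (they have the same order). -/
theorem result {F : Type*} [Field F] [Fintype F] (hodd : Odd (Fintype.card F)) (m : ℕ) (hm : 3 ≤ m) : IsEmpty (Cfsg.PSp m F ≃* Cfsg.POmega F (Cfsg.quadFormOdd m F)) := by
  classical
  refine ⟨fun e => ?_⟩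
  have h2 : (2 : F) ≠ 0 := by
    intro h
    have hc : ringChar F = 2 := CharP.ringChar_of_prime_eq_zero Nat.prime_two (by exact_mod_cast h)
    have h3 := FiniteField.even_card_of_char_two hc
    rw [Nat.odd_iff] at hodd
    omega
  obtain ⟨f, hf, hne⟩ := exists_involutions (F := F) m (by omega) h2
  have hkey : ∀ k, ∃ c, HasKey (e.symm (f k)) c := fun k =>
    exists_key h2 (by omega) (by rw [MulEquiv.orderOf_eq]; exact hf k)
  choose c hc using hkey
  obtain ⟨k, l, hkl, hcl⟩ := Fintype.exists_ne_map_eq_of_card_lt c (by simp; omega)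
  refine hkl (hne k l ?_)
  have h := MonoidHom.map_isConj e.toMonoidHom (isConj_of_key (hc k) (hcl ▸ hc l))
  simpa using h

end Cfsg.Agent.S0821
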