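import Cfsg.Agent.Lib.Orth.Simple
import Cfsg.Agent.Lib.Orth.Models
import Cfsg.Agent.S0286

set_option autoImplicit false
open Cfsg

namespace Cfsg.Agent.S0823

open Cfsg.Agent.Orth

variable {F : Type*} [Field F]

/-- The points of the conic, parametrised. -/
def pt : Option F → (Unit ⊕ (Fin 1 ⊕ Fin 1) → F)
  | none => Sum.elim (fun _ => 0) (Sum.elim (fun _ => 1) (fun _ => 0))
  | some s => Sum.elim (fun _ => s) (Sum.elim (fun _ => -s ^ 2) (fun _ => 1))

theorem pt_spec (o : Option F) : pt o ≠ 0 ∧ quadFormOdd 1 F (pt o) = 0 := by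
  cases o with
  | none => exact ⟨fun h => one_ne_zero (α := F) (congrFun h (.inr (.inl 0))), by simp [pt, quadFormOdd]⟩
  | some s =>
    exact ⟨fun h => one_ne_zero (α := F) (congrFun h (.inr (.inr 0))), by simp [pt, quadFormOdd]⟩

theorem card_spt [Finite F] : Nat.card (SPt (quadOdd 1 F)) = Nat.card F + 1 := by
  rw [← Finite.card_option]
  refine (Nat.card_eq_of_bijective (fun o : Option F =>
    (spt (Q := quadOdd 1 F) (pt o) (pt_spec o).1 (pt_spec o).2 : SPt (quadOdd 1 F))) ⟨?_, ?_⟩).symm
  · intro o o' h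
    obtain ⟨a, ha⟩ := (spt_eq_iff _ _ _ _).1 h
    cases o <;> cases o'
    · rfl
    · have h1 := congrFun ha (.inr (.inr 0))
      have h2 := congrFun ha (.inr (.inl 0))
      simp [pt] at h1 h2
      simp [h1] at h2
    · have h1 := congrFun ha (.inr (.inr 0))
      simp [pt] at h1
    · have h1 := congrFun ha (.inr (.inr 0))
      have h2 := congrFun ha (.inl ())
      simp [pt] at h1 h2
      rw [h1, one_mul] at h2
      rw [h2]
  · intro p
    obtain ⟨v, h0, hv, rfl⟩ := exists_spt p
    have hv' : v (.inl ()) ^ 2 + v (.inr (.inl 0)) * v (.inr (.inr 0)) = 0 := by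
      have : quadFormOdd 1 F v = 0 := hv
      simpa [quadFormOdd] using this
    by_cases hy : v (.inr (.inr 0)) = 0
    · refine ⟨none, (spt_eq_iff _ _ _ _).2 ⟨(v (.inr (.inl 0)))⁻¹, ?_⟩⟩
      have hx : v (.inl ()) = 0 := by
        rw [hy, mul_zero, add_zero] at hv'; simpa using hv'
      have hne : v (.inr (.inl 0)) ≠ 0 := fun h => h0 (by
        funext i; rcases i with ⟨⟩ | i | i
        · exact hx
        · fin_cases i; exact h
        · fin_cases i; exact hy)
      funext i
      rcases i with ⟨⟩ | i | i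
      · simp [pt, hx]
      · fin_cases i; simp [pt, hne]
      · fin_cases i; simp [pt, hy]
    · refine ⟨some (v (.inl ()) / v (.inr (.inr 0))),
        (spt_eq_iff _ _ _ _).2 ⟨(v (.inr (.inr 0)))⁻¹, ?_⟩⟩
      funext i
      rcases i with ⟨⟩ | i | i
      · simp [pt, div_eq_inv_mul]
      · fin_cases i
        simp [pt]
        field_simp
        linear_combination hv'
      · fin_cases i; simp [pt, hy]

/-- SO_3(3) ≅ S_4: the determinant-one isometries of the form x_0² + x_1y_1 over the field with 3 elements form a group isomorphic to the symmetric group on 4 letters. -/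
theorem result {F : Type*} [Field F] [Fintype F] (hF : Fintype.card F = 3) : Nonempty (↥(Cfsg.specialIsometryGroup F (Cfsg.quadFormOdd 1 F)) ≃* Equiv.Perm (Fin 4)) := by
  classical
  have h2 : (2 : F) ≠ 0 := fun h => by
    have := (FiniteField.even_card_iff_char_two).1
      (CharP.ringChar_of_prime_eq_zero Nat.prime_two (by exact_mod_cast h : ((2 : ℕ) : F) = 0))
    omega
  set Q := quadOdd 1 F
  have hQ := quadOdd_nondeg (F := F) 1 h2
  have hG := Good.of_two_ne_zero hQ h2
  have hn : 3 ≤ Fintype.card (Unit ⊕ (Fin 1 ⊕ Fin 1)) := by simp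
  let SO := Cfsg.specialIsometryGroup F ⇑Q
  have hSO : Nat.card SO = 24 := by
    have hker : SO = (dickHom hG).toHomUnits.ker := by
      ext g
      rw [MonoidHom.mem_ker, Units.ext_iff]
      exact mem_special_iff_dick hG h2 g
    obtain ⟨v, hv⟩ := exists_Q_eq hQ (by omega) (1 : F)
    have hidx : SO.index = 2 := by
      rw [hker, Subgroup.index_ker, MonoidHom.range_eq_top.2 ?_, Subgroup.card_top]
      · simp
      · intro a
        rcases Int.units_eq_one_or a with rfl | rfl
        · exact ⟨1, map_one _⟩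
        · exact ⟨refl Q v, Units.ext (dick_refl hQ (v := v) (by rw [hv]; exact one_ne_zero))⟩
    have := SO.card_mul_index
    have ho : Nat.card ↥(isometryGroup F ⇑Q) = 2 * 3 ^ (1 ^ 2) * ∏ i ∈ Finset.range 1, (3 ^ (2 * (i + 1)) - 1) :=
      Cfsg.Agent.S0286.result hF (by decide) 1
    rw [hidx, ho, Finset.prod_range_one] at this
    omega
  let φ : SO →* Equiv.Perm (SPt Q) := (MulAction.toPermHom (IsoGrp Q) (SPt Q)).comp SO.subtype
  have hφ : Function.Injective φ := by
    rw [injective_iff_map_eq_one]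
    intro g hg
    obtain ⟨e, f, hp⟩ := exists_hpair hQ hn
    obtain ⟨a, ha, hga⟩ := hp.scalar_of_fix (g := g.1) hQ hn fun v h0 hv =>
      (smul_spt_eq_self_iff g.1 v h0 hv).1 (Equiv.ext_iff.1 hg _)
    refine Subtype.ext (ext_ap fun x => ?_)
    rw [hga]
    show a • x = ap (1 : IsoGrp Q) x
    rw [ap_one]
    rcases mul_self_eq_one_iff.1 ha with rfl | rfl
    · rw [one_smul]
    exfalso
    have hm : ((g.1 : GL (Unit ⊕ (Fin 1 ⊕ Fin 1)) F) : Matrix (Unit ⊕ (Fin 1 ⊕ Fin 1)) (Unit ⊕ (Fin 1 ⊕ Fin 1)) F) = -1 := by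
      refine Matrix.ext_of_mulVec_single fun i => ?_
      rw [← ap_apply, hga, Matrix.neg_mulVec, Matrix.one_mulVec, neg_one_smul]
    have hd := (mem_special_iff g.1).1 g.2
    rw [hm, Matrix.det_neg, Matrix.det_one, mul_one] at hd
    norm_num at hd
    exact h2 (by linear_combination -hd)
  have hcard : Nat.card (Equiv.Perm (SPt Q)) = Nat.card SO := by
    rw [Nat.card_perm, card_spt, Nat.card_eq_fintype_card, hF, hSO]
    rfl
  have : Finite (SPt Q) := inferInstance
  have hbij : Function.Bijective φ := (Nat.bijective_iff_injective_and_card φ).2 ⟨hφ, hcard.symm⟩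
  have e : SPt Q ≃ Fin 4 := Finite.equivFinOfCardEq (by rw [card_spt, Nat.card_eq_fintype_card, hF])
  exact ⟨(MulEquiv.ofBijective φ hbij).trans e.permCongrHom⟩

end Cfsg.Agent.S0823
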