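import Cfsg.Agent.Lib.Orth.Dihedral
import Cfsg.Agent.S0287

set_option autoImplicit false
set_option maxRecDepth 100000
open Cfsg

namespace Cfsg.Agent.S0825

open Matrix Cfsg.Agent.Orth

/-- The index type. -/
abbrev J : Type := Fin 3 ⊕ Fin 3

/-- The six chosen even subsets: a hyperbolic basis. -/
def vecs : J → Fin 8 → ZMod 2 :=
  Sum.elim
    ![![1, 1, 1, 1, 0, 0, 0, 0], ![1, 0, 0, 1, 1, 1, 0, 0], ![0, 0, 1, 1, 1, 0, 1, 0]]
    ![![1, 1, 1, 0, 1, 0, 0, 0], ![0, 1, 0, 1, 1, 1, 0, 0], ![1, 1, 0, 0, 0, 1, 1, 0]]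

/-- The embedding of the hyperbolic space into the permutation module. -/
def P : Matrix (Fin 8) J (ZMod 2) := Matrix.of fun k j => vecs j k

/-- The coordinate of `x` in that basis, by the symplectic product. -/
def R : Matrix J (Fin 8) (ZMod 2) := Matrix.of fun j k => vecs (Sum.swap j) k

/-- Half the weight modulo two. -/
def qw (x : Fin 8 → ZMod 2) : ZMod 2 := (((Finset.univ.filter fun k => x k = 1).card / 2 : ℕ) : ZMod 2)

theorem RP : R * P = 1 := by decide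

theorem PR : ∀ x : Fin 8 → ZMod 2, (∑ k, x k = 0) → (P *ᵥ (R *ᵥ x) - x = 0 ∨ P *ᵥ (R *ᵥ x) - x = fun _ => 1) := by
  decide

theorem R_one : (R *ᵥ fun _ => 1) = 0 := by decide

theorem P_even : ∀ v : J → ZMod 2, ∑ k, (P *ᵥ v) k = 0 := by decide

theorem qw_P : ∀ v : J → ZMod 2, qw (P *ᵥ v) = quadFormPlus 3 (ZMod 2) v := by decide

theorem qw_add_one : ∀ x : Fin 8 → ZMod 2, (∑ k, x k = 0) → qw (x + fun _ => 1) = qw x := by decide

theorem qw_comp (σ : Equiv.Perm (Fin 8)) (x : Fin 8 → ZMod 2) : qw (x ∘ σ) = qw x := by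
  have : (Finset.univ.filter fun k => (x ∘ σ) k = 1).card = (Finset.univ.filter fun k => x k = 1).card :=
    Finset.card_equiv σ (by simp)
  rw [qw, qw, this]

theorem sum_comp (σ : Equiv.Perm (Fin 8)) (x : Fin 8 → ZMod 2) : ∑ k, (x ∘ σ) k = ∑ k, x k :=
  Equiv.sum_comp σ x

theorem qw_PR (x : Fin 8 → ZMod 2) (hx : ∑ k, x k = 0) : qw (P *ᵥ (R *ᵥ x)) = qw x := by
  rcases PR x hx with h | h
  · rw [sub_eq_zero.1 h]
  · rw [sub_eq_iff_eq_add'.1 h, qw_add_one x hx]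

/-- The image of a permutation. -/
def rho (σ : Equiv.Perm (Fin 8)) : Matrix J J (ZMod 2) :=
  R * (Equiv.Perm.permMatrix (ZMod 2) σ⁻¹) * P

theorem rho_mulVec (σ : Equiv.Perm (Fin 8)) (v : J → ZMod 2) :
    rho σ *ᵥ v = R *ᵥ ((P *ᵥ v) ∘ ⇑σ⁻¹) := by
  rw [rho, ← Matrix.mulVec_mulVec, ← Matrix.mulVec_mulVec, Matrix.permMatrix_mulVec]

theorem rho_one : rho 1 = 1 := by
  rw [rho, inv_one, show Equiv.Perm.permMatrix (ZMod 2) (1 : Equiv.Perm (Fin 8)) = 1 by simp [Equiv.Perm.permMatrix, Equiv.Perm.one_def], Matrix.mul_one, RP]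

theorem rho_mul (σ τ : Equiv.Perm (Fin 8)) : rho (σ * τ) = rho σ * rho τ := by
  refine Matrix.ext_of_mulVec_single fun j => ?_
  rw [← Matrix.mulVec_mulVec, rho_mulVec, rho_mulVec, rho_mulVec, _root_.mul_inv_rev]
  set x := (P *ᵥ Pi.single j 1) ∘ ⇑τ⁻¹
  have hx : ∑ k, x k = 0 := by rw [sum_comp]; exact P_even _
  rw [show (P *ᵥ Pi.single j 1) ∘ ⇑(τ⁻¹ * σ⁻¹) = x ∘ ⇑σ⁻¹ from rfl]
  rcases PR x hx with h | h
  · rw [sub_eq_zero.1 h]
  · rw [show (P *ᵥ (R *ᵥ x)) ∘ ⇑σ⁻¹ = x ∘ ⇑σ⁻¹ + fun _ => 1 by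
      rw [sub_eq_iff_eq_add'.1 h]; rfl, Matrix.mulVec_add, R_one, add_zero]

theorem Q_rho (σ : Equiv.Perm (Fin 8)) (v : J → ZMod 2) :
    quadFormPlus 3 (ZMod 2) (rho σ *ᵥ v) = quadFormPlus 3 (ZMod 2) v := by
  rw [← qw_P, ← qw_P, rho_mulVec, qw_PR _ (by rw [sum_comp]; exact P_even v), qw_comp]

/-- The homomorphism from the symmetric group. -/
def rhoHom : Equiv.Perm (Fin 8) →* ↥(isometryGroup (ZMod 2) (quadFormPlus 3 (ZMod 2))) :=
  MonoidHom.mk' (fun σ => isoMk (rho σ) (rho σ⁻¹) (by rw [← rho_mul, mul_inv_cancel, rho_one])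
      (by rw [← rho_mul, inv_mul_cancel, rho_one]) (Q_rho σ))
    (fun σ τ => iso_ext (by rw [iso_coe_mul, coe_isoMk, coe_isoMk, coe_isoMk, rho_mul]))

theorem separating : ∀ i j : Fin 8, i ≠ j → ∃ x : Fin 8 → ZMod 2, (∑ k, x k = 0) ∧ x i ≠ x j ∧
    (Finset.univ.filter fun k => x k = 1).card = 2 := by decide

theorem rhoHom_injective : Function.Injective rhoHom := by
  rw [injective_iff_map_eq_one]
  intro σ hσ
  have hfix : ∀ x : Fin 8 → ZMod 2, (∑ k, x k = 0) → (x ∘ ⇑σ⁻¹ = x ∨ x ∘ ⇑σ⁻¹ = x + fun _ => 1) := by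
    intro x hx
    have h := congrArg (fun g : ↥(isometryGroup (ZMod 2) (quadFormPlus 3 (ZMod 2))) =>
      P *ᵥ (((g : GL J (ZMod 2)) : Matrix J J (ZMod 2)) *ᵥ (R *ᵥ x))) hσ
    simp only [rhoHom, MonoidHom.mk'_apply, coe_isoMk, iso_coe_one, Matrix.one_mulVec, rho_mulVec] at h
    have hy : ∑ k, ((P *ᵥ (R *ᵥ x)) ∘ ⇑σ⁻¹) k = 0 := by rw [sum_comp]; exact P_even _
    obtain ⟨c, hc⟩ : ∃ c : ZMod 2, P *ᵥ (R *ᵥ x) = x + fun _ => c := by
      rcases PR x hx with h1 | h1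
      · exact ⟨0, by rw [sub_eq_zero.1 h1]; funext k; simp⟩
      · exact ⟨1, sub_eq_iff_eq_add'.1 h1⟩
    obtain ⟨e, he⟩ : ∃ e : ZMod 2, P *ᵥ (R *ᵥ ((P *ᵥ (R *ᵥ x)) ∘ ⇑σ⁻¹)) =
        (P *ᵥ (R *ᵥ x)) ∘ ⇑σ⁻¹ + fun _ => e := by
      rcases PR _ hy with h1 | h1
      · exact ⟨0, by rw [sub_eq_zero.1 h1]; funext k; simp⟩
      · exact ⟨1, sub_eq_iff_eq_add'.1 h1⟩
    rw [he, hc] at h
    rcases (by decide : ∀ e : ZMod 2, e = 0 ∨ e = 1) e with rfl | rfl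
    · refine .inl (funext fun k => ?_)
      have h' := congrFun h k
      simp only [Pi.add_apply, Function.comp_apply] at h' ⊢
      linear_combination h'
    · refine .inr (funext fun k => ?_)
      have h' := congrFun h k
      simp only [Pi.add_apply, Function.comp_apply] at h' ⊢
      linear_combination h' - CharTwo.two_eq_zero (R := ZMod 2)
  by_contra hne
  obtain ⟨i, hi⟩ : ∃ i, σ⁻¹ i ≠ i := by
    by_contra! h
    exact hne (inv_eq_one.1 (Equiv.ext h))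
  -- two 2-subsets through `i` avoiding `σ⁻¹ i`
  obtain ⟨j, l, hji, hjs, hli, hls, hjl⟩ : ∃ j l, j ≠ i ∧ j ≠ σ⁻¹ i ∧ l ≠ i ∧ l ≠ σ⁻¹ i ∧ j ≠ l :=
    (by decide : ∀ a b : Fin 8, ∃ j l, j ≠ a ∧ j ≠ b ∧ l ≠ a ∧ l ≠ b ∧ j ≠ l) i (σ⁻¹ i)
  set xj : Fin 8 → ZMod 2 := fun k => if k = i ∨ k = j then 1 else 0
  have hxj : ∑ k, xj k = 0 :=
    (by decide : ∀ a b : Fin 8, b ≠ a → ∑ k, (if k = a ∨ k = b then (1 : ZMod 2) else 0) = 0) i j hji
  rcases hfix xj hxj with h | h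
  · have := congrFun h i
    simp [xj] at this
    exact hjs (this hi).symm
  · have e1 := qw_comp σ⁻¹ xj
    -- weight two becomes weight six
    have e2 : (Finset.univ.filter fun k => (xj + fun _ => (1 : ZMod 2) : Fin 8 → ZMod 2) k = 1).card = 6 :=
      (by decide : ∀ a b : Fin 8, b ≠ a → (Finset.univ.filter fun k =>
        ((fun k => if k = a ∨ k = b then (1 : ZMod 2) else 0) + fun _ => (1 : ZMod 2) : Fin 8 → ZMod 2) k = 1).card = 6) i j hji
    have e3 : (Finset.univ.filter fun k => xj k = 1).card = 2 :=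
      (by decide : ∀ a b : Fin 8, b ≠ a → (Finset.univ.filter fun k =>
        (if k = a ∨ k = b then (1 : ZMod 2) else 0) = 1).card = 2) i j hji
    have e4 : (Finset.univ.filter fun k => (xj ∘ ⇑σ⁻¹) k = 1).card = (Finset.univ.filter fun k => xj k = 1).card :=
      Finset.card_equiv σ⁻¹ (by simp)
    rw [h, e2, e3] at e4
    exact absurd e4 (by decide)

/-- O⁺_6(2) ≅ S_8: the isometry group of the hyperbolic form x_1y_1 + x_2y_2 + x_3y_3 over the field with 2 elements is isomorphic to the symmetric group on 8 letters. -/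
theorem result {F : Type*} [Field F] [Fintype F] (hF : Fintype.card F = 2) : Nonempty (↥(Cfsg.isometryGroup F (Cfsg.quadFormPlus 3 F)) ≃* Equiv.Perm (Fin 8)) := by
  classical
  have hp : Fact (Nat.Prime 2) := ⟨Nat.prime_two⟩
  have e0 : ZMod 2 ≃+* F := ZMod.ringEquivOfPrime F Nat.prime_two hF
  have hqe : ∀ v : J → ZMod 2, quadFormPlus 3 F (fun i => e0 (v i)) = e0 (quadFormPlus 3 (ZMod 2) v) :=
    fun v => by simp [quadFormPlus, map_sum]
  have hmap : ∀ (M : Matrix J J (ZMod 2)) (v : J → ZMod 2),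
      M.map e0 *ᵥ (fun i => e0 (v i)) = fun i => e0 ((M *ᵥ v) i) := fun M v => by
    funext i; simp [Matrix.mulVec, dotProduct, map_sum]
  have hQ : ∀ (σ : Equiv.Perm (Fin 8)) (w : J → F),
      quadFormPlus 3 F ((rho σ).map e0 *ᵥ w) = quadFormPlus 3 F w := fun σ w => by
    obtain ⟨v, rfl⟩ : ∃ v : J → ZMod 2, w = fun i => e0 (v i) :=
      ⟨fun i => e0.symm (w i), funext fun i => (e0.apply_symm_apply _).symm⟩
    rw [hmap, hqe, hqe, Q_rho]
  let ψ : Equiv.Perm (Fin 8) →* ↥(isometryGroup F (quadFormPlus 3 F)) :=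
    MonoidHom.mk' (fun σ => isoMk ((rho σ).map e0) ((rho σ⁻¹).map e0)
        (by rw [← Matrix.map_mul, ← rho_mul, mul_inv_cancel, rho_one]; simp)
        (by rw [← Matrix.map_mul, ← rho_mul, inv_mul_cancel, rho_one]; simp) (hQ σ))
      (fun σ τ => iso_ext (by rw [iso_coe_mul, coe_isoMk, coe_isoMk, coe_isoMk, rho_mul, Matrix.map_mul]))
  have hψ : Function.Injective ψ := fun σ τ h => by
    refine rhoHom_injective (iso_ext ?_)
    have h' := congrArg (fun g : ↥(isometryGroup F (quadFormPlus 3 F)) => ((g : GL J F) : Matrix J J F)) h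
    simp only [ψ, MonoidHom.mk'_apply, coe_isoMk] at h'
    exact Matrix.map_injective e0.injective h'
  have hcard : Nat.card (Equiv.Perm (Fin 8)) = Nat.card ↥(isometryGroup F (quadFormPlus 3 F)) := by
    rw [Cfsg.Agent.S0287.result hF 3 (by omega), Nat.card_perm, Nat.card_fin]
    rfl
  exact ⟨(MulEquiv.ofBijective ψ ((Nat.bijective_iff_injective_and_card ψ).2 ⟨hψ, hcard⟩)).symm⟩

end Cfsg.Agent.S0825
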