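import Cfsg.Statements.S0826
import Cfsg.Agent.EqLemmas
import Cfsg.Agent.Lib.SympGeom.Iso
import Cfsg.Agent.Lib.Forms.BinaryType

set_option autoImplicit false
open Cfsg

namespace Cfsg.Agent.S0826

open Cfsg.Agent Module

/-- Even subsets not containing the first point. -/
def evenSub₀ (N : ℕ) [NeZero N] : Submodule (ZMod 2) (Fin N → ZMod 2) :=
  LinearMap.ker (Forms.sumFun N) ⊓ LinearMap.ker (LinearMap.proj 0)

theorem mem_evenSub₀ {N : ℕ} [NeZero N] {f : Fin N → ZMod 2} :
    f ∈ evenSub₀ N ↔ ∑ i, f i = 0 ∧ f 0 = 0 := by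
  simp [evenSub₀, Forms.sumFun_apply]

/-- The intersection form. -/
def dotForm (N : ℕ) [NeZero N] : LinearMap.BilinForm (ZMod 2) (evenSub₀ N) :=
  LinearMap.mk₂ (ZMod 2) (fun f g => ∑ i, (f : Fin N → ZMod 2) i * (g : Fin N → ZMod 2) i)
    (fun f f' g => by simp [add_mul, Finset.sum_add_distrib])
    (fun c f g => by simp [Finset.mul_sum, mul_assoc])
    (fun f g g' => by simp [mul_add, Finset.sum_add_distrib])
    (fun c f g => by simp [Finset.mul_sum, mul_left_comm])

theorem dotForm_apply {N : ℕ} [NeZero N] (f g : evenSub₀ N) :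
    dotForm N f g = ∑ i, (f : Fin N → ZMod 2) i * (g : Fin N → ZMod 2) i := rfl

theorem dotForm_self {N : ℕ} [NeZero N] (f : evenSub₀ N) : dotForm N f f = 0 := by
  rw [dotForm_apply, Finset.sum_congr rfl fun i _ => show
    (f : Fin N → ZMod 2) i * (f : Fin N → ZMod 2) i = (f : Fin N → ZMod 2) i by
      rcases Forms.zero_or_one_two ((f : Fin N → ZMod 2) i) with h | h <;> rw [h] <;> rfl]
  exact (mem_evenSub₀.1 f.2).1

theorem pair_mem {N : ℕ} [NeZero N] {a b : Fin N} (ha : a ≠ 0) (hb : b ≠ 0) :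
    (Pi.single a 1 + Pi.single b 1 : Fin N → ZMod 2) ∈ evenSub₀ N := by
  rw [mem_evenSub₀]
  refine ⟨?_, by simp [ha.symm, hb.symm]⟩
  simp [Finset.sum_add_distrib]
  rfl

theorem dotForm_pair {N : ℕ} [NeZero N] (f : evenSub₀ N) {a b : Fin N} (ha : a ≠ 0) (hb : b ≠ 0) :
    dotForm N f ⟨_, pair_mem ha hb⟩ = (f : Fin N → ZMod 2) a + (f : Fin N → ZMod 2) b := by
  simp [dotForm_apply, mul_add, Finset.sum_add_distrib, Pi.single_apply]

theorem dotForm_nondeg {n : ℕ} [NeZero (2 * n)] (hn : 2 ≤ n) (f : evenSub₀ (2 * n))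
    (h : ∀ g, dotForm (2 * n) f g = 0) : f = 0 := by
  obtain ⟨hs, h0⟩ := mem_evenSub₀.1 f.2
  let a : Fin (2 * n) := ⟨1, by omega⟩
  have ha : a ≠ 0 := fun e => by simpa [a] using congrArg Fin.val e
  have heq : ∀ i, i ≠ 0 → (f : Fin (2 * n) → ZMod 2) i = (f : Fin (2 * n) → ZMod 2) a := by
    intro i hi
    have := h ⟨_, pair_mem hi ha⟩
    rw [dotForm_pair f hi ha] at this
    revert this
    rcases Forms.zero_or_one_two ((f : Fin (2 * n) → ZMod 2) i) with h1 | h1 <;>
      rcases Forms.zero_or_one_two ((f : Fin (2 * n) → ZMod 2) a) with h2 | h2 <;>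
      rw [h1, h2] <;> decide
  have hfa : (f : Fin (2 * n) → ZMod 2) a = 0 := by
    rw [← Finset.add_sum_erase _ _ (Finset.mem_univ (0 : Fin (2 * n))), h0, zero_add,
      Finset.sum_congr rfl fun i hi => heq i (Finset.mem_erase.1 hi).1, Finset.sum_const,
      Finset.card_erase_of_mem (Finset.mem_univ _), Finset.card_univ, Fintype.card_fin,
      nsmul_eq_mul] at hs
    have hodd : ((2 * n - 1 : ℕ) : ZMod 2) = 1 := by
      rw [ZMod.natCast_eq_one_iff_odd]
      exact ⟨n - 1, by omega⟩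
    rwa [hodd, one_mul] at hs
  refine Subtype.ext (funext fun i => ?_)
  by_cases hi : i = 0
  · rw [hi, h0]; rfl
  · rw [heq i hi, hfa]; rfl

theorem finrank_evenSub₀ {n : ℕ} [NeZero (2 * n)] (hn : 2 ≤ n) :
    finrank (ZMod 2) (evenSub₀ (2 * n)) = 2 * (n - 1) := by
  let φ : (Fin (2 * n) → ZMod 2) →ₗ[ZMod 2] ZMod 2 × ZMod 2 :=
    (Forms.sumFun (2 * n)).prod (LinearMap.proj 0)
  have hk : LinearMap.ker φ = evenSub₀ (2 * n) := LinearMap.ker_prod _ _
  let a : Fin (2 * n) := ⟨1, by omega⟩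
  have ha : a ≠ 0 := fun e => by simpa [a] using congrArg Fin.val e
  have hs : Function.Surjective φ := fun c => ⟨Pi.single a (c.1 - c.2) + Pi.single 0 c.2, by
    refine Prod.ext ?_ ?_
    · simp [φ, Forms.sumFun_apply, Finset.sum_add_distrib]
    · simp [φ, ha.symm]⟩
  have h := LinearMap.finrank_range_add_finrank_ker φ
  rw [LinearMap.range_eq_top.2 hs, finrank_top, Module.finrank_prod, Module.finrank_self,
    Module.finrank_fin_fun, hk] at h
  omega

/-- A permutation, corrected so as to fix the first coordinate. -/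
def permFun {N : ℕ} [NeZero N] (σ : Equiv.Perm (Fin N)) (f : Fin N → ZMod 2) : Fin N → ZMod 2 :=
  fun i => f (σ.symm i) + f (σ.symm 0)

theorem permFun_mem {n : ℕ} [NeZero (2 * n)] (σ : Equiv.Perm (Fin (2 * n))) (f : evenSub₀ (2 * n)) :
    permFun σ (f : Fin (2 * n) → ZMod 2) ∈ evenSub₀ (2 * n) := by
  rw [mem_evenSub₀]
  refine ⟨?_, ?_⟩
  · have h := σ.symm.sum_comp (fun i => (f : Fin (2 * n) → ZMod 2) i)
    simp only [permFun, Finset.sum_add_distrib, Finset.sum_const, Finset.card_univ, Fintype.card_fin,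
      nsmul_eq_mul, h, (mem_evenSub₀.1 f.2).1]
    simp [show (2 : ZMod 2) = 0 from rfl]
  · exact CharTwo.add_self_eq_zero _

theorem permFun_mul {N : ℕ} [NeZero N] (σ τ : Equiv.Perm (Fin N)) (f : Fin N → ZMod 2) :
    permFun (σ * τ) f = permFun σ (permFun τ f) := by
  funext i
  simp only [permFun, Equiv.Perm.mul_def, Equiv.symm_trans_apply]
  have h2 : (2 : ZMod 2) = 0 := rfl
  linear_combination (-(f (τ.symm 0))) * h2

theorem permFun_one {n : ℕ} [NeZero (2 * n)] (f : evenSub₀ (2 * n)) :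
    permFun 1 (f : Fin (2 * n) → ZMod 2) = f := by
  funext i
  show (f : Fin (2 * n) → ZMod 2) i + (f : Fin (2 * n) → ZMod 2) 0 = _
  rw [(mem_evenSub₀.1 f.2).2, add_zero]

/-- The linear action. -/
noncomputable def permLin {n : ℕ} [NeZero (2 * n)] (σ : Equiv.Perm (Fin (2 * n))) :
    evenSub₀ (2 * n) ≃ₗ[ZMod 2] evenSub₀ (2 * n) where
  toFun f := ⟨permFun σ f, permFun_mem σ f⟩
  invFun f := ⟨permFun σ⁻¹ f, permFun_mem σ⁻¹ f⟩
  map_add' f g := Subtype.ext (funext fun i => by simp [permFun]; ring)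
  map_smul' c f := Subtype.ext (funext fun i => by simp [permFun, mul_add])
  left_inv f := Subtype.ext (by
    show permFun σ⁻¹ (permFun σ (f : Fin (2 * n) → ZMod 2)) = f
    rw [← permFun_mul, inv_mul_cancel, permFun_one])
  right_inv f := Subtype.ext (by
    show permFun σ (permFun σ⁻¹ (f : Fin (2 * n) → ZMod 2)) = f
    rw [← permFun_mul, mul_inv_cancel, permFun_one])

theorem permLin_isometry {n : ℕ} [NeZero (2 * n)] (σ : Equiv.Perm (Fin (2 * n))) (f g : evenSub₀ (2 * n)) :
    dotForm (2 * n) (permLin σ f) (permLin σ g) = dotForm (2 * n) f g := by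
  show ∑ i, permFun σ f i * permFun σ g i = _
  have h1 := σ.symm.sum_comp (fun i => (f : Fin (2 * n) → ZMod 2) i)
  have h2 := σ.symm.sum_comp (fun i => (g : Fin (2 * n) → ZMod 2) i)
  have h3 := σ.symm.sum_comp (fun i => (f : Fin (2 * n) → ZMod 2) i * (g : Fin (2 * n) → ZMod 2) i)
  simp only [permFun, add_mul, mul_add, Finset.sum_add_distrib, ← Finset.sum_mul, ← Finset.mul_sum,
    h1, h2, h3, (mem_evenSub₀.1 f.2).1, (mem_evenSub₀.1 g.2).1, zero_mul, mul_zero, add_zero,
    zero_add, Finset.sum_const, Finset.card_univ, Fintype.card_fin, nsmul_eq_mul, dotForm_apply]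
  simp [show (2 : ZMod 2) = 0 from rfl]

/-- The action of the symmetric group. -/
noncomputable def permRep {n : ℕ} [NeZero (2 * n)] :
    Equiv.Perm (Fin (2 * n)) →* SympGeom.isoGrp (dotForm (2 * n)) where
  toFun σ := ⟨permLin σ, permLin_isometry σ⟩
  map_one' := Subtype.ext (LinearEquiv.ext fun f => Subtype.ext (permFun_one f))
  map_mul' σ τ := Subtype.ext (LinearEquiv.ext fun f => Subtype.ext (permFun_mul σ τ f))

theorem permRep_injective {n : ℕ} [NeZero (2 * n)] (hn : 3 ≤ n) :
    Function.Injective (permRep (n := n)) := by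
  classical
  refine (injective_iff_map_eq_one _).2 fun σ hσ => ?_
  have hkey : ∀ f : evenSub₀ (2 * n), permFun σ (f : Fin (2 * n) → ZMod 2) = f := fun f =>
    congrArg Subtype.val (LinearEquiv.congr_fun (congrArg Subtype.val hσ) f)
  have hpair : ∀ a b : Fin (2 * n), a ≠ 0 → b ≠ 0 → a ≠ b → σ a = a ∨ σ a = b := by
    intro a b ha hb hab
    have h := hkey ⟨_, pair_mem ha hb⟩
    let x : Fin (2 * n) → ZMod 2 := Pi.single a 1 + Pi.single b 1
    have hx : ∀ i, x (σ.symm i) + x (σ.symm 0) = x i := fun i => congrFun h i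
    have hx1 : ∀ i, x i = 1 ↔ i = a ∨ i = b := by
      intro i
      by_cases h1 : i = a
      · subst h1; simp [x, hab]
      · by_cases h2 : i = b
        · subst h2; simp [x, hab.symm]
        · simp [x, h1, h2]
    have hc : x (σ.symm 0) = 0 := by
      rcases Forms.zero_or_one_two (x (σ.symm 0)) with hc | hc
      · exact hc
      exfalso
      obtain ⟨i, hi⟩ : ∃ i, i ∉ ({a, b, σ a, σ b} : Finset (Fin (2 * n))) := by
        by_contra hall
        push Not at hall
        have h4 := Finset.card_le_card (fun i _ => hall i : Finset.univ ⊆ ({a, b, σ a, σ b} : Finset _))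
        rw [Finset.card_univ, Fintype.card_fin] at h4
        have := h4.trans Finset.card_le_four
        omega
      simp only [Finset.mem_insert, Finset.mem_singleton, not_or] at hi
      have h0 : ∀ j, j ≠ a → j ≠ b → x j = 0 := fun j h1 h2 => by simp [x, h1, h2]
      have := hx i
      rw [hc, h0 i hi.1 hi.2.1, h0 _ (fun e => hi.2.2.1 (by rw [← e, Equiv.apply_symm_apply]))
        (fun e => hi.2.2.2 (by rw [← e, Equiv.apply_symm_apply]))] at this
      exact absurd this (by decide)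
    have := hx (σ a)
    rw [hc, add_zero, Equiv.symm_apply_apply, (hx1 a).2 (Or.inl rfl)] at this
    exact (hx1 (σ a)).1 this.symm
  have hfix : ∀ a : Fin (2 * n), a ≠ 0 → σ a = a := by
    intro a ha
    obtain ⟨b, c, hb, hb', hc, hc', hbc⟩ : ∃ b c : Fin (2 * n),
        b ≠ 0 ∧ b ≠ a ∧ c ≠ 0 ∧ c ≠ a ∧ b ≠ c := by
      have h2 : 1 < ((Finset.univ.erase (0 : Fin (2 * n))).erase a).card := by
        rw [Finset.card_erase_of_mem (Finset.mem_erase.2 ⟨ha, Finset.mem_univ _⟩),
          Finset.card_erase_of_mem (Finset.mem_univ _), Finset.card_univ, Fintype.card_fin]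
        omega
      obtain ⟨b, hb, c, hc, hbc⟩ := Finset.one_lt_card.1 h2
      simp only [Finset.mem_erase] at hb hc
      exact ⟨b, c, hb.2.1, hb.1, hc.2.1, hc.1, hbc⟩
    rcases hpair a b ha hb hb'.symm with h | h
    · exact h
    rcases hpair a c ha hc hc'.symm with h' | h'
    · exact h'
    exact absurd (h.symm.trans h') hbc
  refine Equiv.ext fun a => ?_
  by_cases ha : a = 0
  · subst ha
    by_contra h0
    exact h0 (σ.injective (hfix _ (fun e => h0 e)))
  · exact hfix a ha

/-- S_2n ≤ Sp_(2n−2)(2) for n ≥ 3: there is an injective homomorphism from the symmetric group on 2n letters into the symplectic group of degree 2n − 2 over the field with two elements. -/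
theorem result (n : ℕ) (hn : 3 ≤ n) : ∃ f : Equiv.Perm (Fin (2 * n)) →* Matrix.symplecticGroup (Fin (n - 1)) (ZMod 2), Function.Injective f := by
  haveI : NeZero (2 * n) := ⟨by omega⟩
  obtain ⟨e⟩ := SympGeom.nonempty_isoGrp_equiv (dotForm (2 * n)) dotForm_self
    (dotForm_nondeg (by omega)) (finrank_evenSub₀ (n := n) (by omega))
  exact ⟨e.toMonoidHom.comp permRep, e.injective.comp (permRep_injective hn)⟩

end Cfsg.Agent.S0826
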