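import Cfsg.Statements.S0828
import Cfsg.Agent.EqLemmas
import Cfsg.Agent.Lib.SympGeom.Flags

set_option autoImplicit false
open Cfsg

namespace Cfsg.Agent.S0828

open Cfsg.Agent Module

variable {F : Type*} [Field F] [Fintype F]

/-- The totally isotropic lines. -/
abbrev Iso2 (F : Type*) [Field F] :=
  {W : Submodule F (Fin 2 ⊕ Fin 2 → F) // finrank F W = 2 ∧ ∀ u ∈ W, ∀ v ∈ W, Cfsg.sympForm 2 F u v = 0}

theorem card_sub_complement {V : Type*} [AddCommGroup V] [Module F V] [Finite V] (P : Submodule F V)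
    (L : Submodule F V) (hLP : L ≤ P) :
    Nat.card {u : V // u ∈ P ∧ u ∉ L} =
      Fintype.card F ^ finrank F P - Fintype.card F ^ finrank F L := by
  classical
  haveI := Fintype.ofFinite V
  have h1 : Fintype.card {u : V // u ∈ P ∧ u ∉ L} =
      (Finset.univ.filter (fun u : V => u ∈ P) \ Finset.univ.filter (fun u : V => u ∈ L)).card := by
    rw [Fintype.card_subtype]
    congr 1
    ext u
    simp
  rw [Nat.card_eq_fintype_card, h1, Finset.card_sdiff_of_subset (by intro u; simpa using fun h => hLP h)]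
  simp only [← Fintype.card_subtype, ← Nat.card_eq_fintype_card]
  congr 1 <;> exact Module.natCard_eq_pow_finrank

/-- Lines through a non-zero vector. -/
theorem card_through {v : Fin 2 ⊕ Fin 2 → F} (hv : v ≠ 0) :
    Nat.card {W : Submodule F (Fin 2 ⊕ Fin 2 → F) // finrank F W = 2 ∧ v ∈ W ∧
      ∀ u ∈ W, ∀ w ∈ W, Cfsg.sympForm 2 F u w = 0} = Fintype.card F + 1 := by
  classical
  set q := Fintype.card F
  have hq : 1 < q := Fintype.one_lt_card
  set P := LinearMap.ker (GLOrder.sympB 2 F v) with hP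
  have hvP : Submodule.span F {v} ≤ P := by
    rw [Submodule.span_singleton_le_iff_mem, hP, LinearMap.mem_ker, GLOrder.sympB_self]
  have hfP : finrank F P = 3 := by
    obtain ⟨f, hf⟩ := GLOrder.exists_apply_eq_one GLOrder.sympB_nondeg hv
    have hs : Function.Surjective (GLOrder.sympB 2 F v) := fun c => ⟨c • f, by simp [hf]⟩
    have := LinearMap.finrank_range_add_finrank_ker (GLOrder.sympB 2 F v)
    rw [LinearMap.range_eq_top.2 hs, finrank_top, Module.finrank_self, GLOrder.finrank_sympSpace] at this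
    rw [hP]
    omega
  let X := {u : Fin 2 ⊕ Fin 2 → F // u ∈ P ∧ u ∉ Submodule.span F {v}}
  have hspan : ∀ u : X, finrank F (Submodule.span F (Set.range ![v, u.1])) = 2 ∧
      v ∈ Submodule.span F (Set.range ![v, u.1]) ∧
      ∀ a ∈ Submodule.span F (Set.range ![v, u.1]), ∀ b ∈ Submodule.span F (Set.range ![v, u.1]),
        Cfsg.sympForm 2 F a b = 0 := by
    intro u
    refine ⟨?_, Submodule.subset_span ⟨0, rfl⟩, (SympGeom.sympB_isotropic_iff _).2 ?_⟩
    · rw [finrank_span_eq_card, Fintype.card_fin]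
      rw [LinearIndependent.pair_iff' hv]
      intro a ha
      exact u.2.2 (Submodule.mem_span_singleton.2 ⟨a, ha⟩)
    · have hz : ∀ i j : Fin 2, GLOrder.sympB 2 F (![v, u.1] i) (![v, u.1] j) = 0 := by
        have h0 : GLOrder.sympB 2 F v u.1 = 0 := LinearMap.mem_ker.1 u.2.1
        intro i j
        fin_cases i <;> fin_cases j
        · exact GLOrder.sympB_self _
        · exact h0
        · show GLOrder.sympB 2 F u.1 v = 0
          rw [GLOrder.sympB_swap, h0, neg_zero]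
        · exact GLOrder.sympB_self _
      intro a ha b hb
      obtain ⟨c, rfl⟩ := (Submodule.mem_span_range_iff_exists_fun F).1 ha
      obtain ⟨d, rfl⟩ := (Submodule.mem_span_range_iff_exists_fun F).1 hb
      have e00 := hz 0 0
      have e01 := hz 0 1
      have e10 := hz 1 0
      have e11 := hz 1 1
      simp at e00 e01 e10 e11
      simp [e00, e01, e10, e11]
  let Y := {W : Submodule F (Fin 2 ⊕ Fin 2 → F) // finrank F W = 2 ∧ v ∈ W ∧
      ∀ u ∈ W, ∀ w ∈ W, Cfsg.sympForm 2 F u w = 0}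
  let π : X → Y := fun u => ⟨_, hspan u⟩
  have hmemP : ∀ W : Y, W.1 ≤ P := fun W x hx =>
    LinearMap.mem_ker.2 ((SympGeom.sympB_isotropic_iff _).1 W.2.2.2 v W.2.2.1 x hx)
  have hfib : ∀ W : Y, Nat.card {u : X // π u = W} = q ^ 2 - q := by
    intro W
    have e : {u : X // π u = W} ≃ {u : Fin 2 ⊕ Fin 2 → F // u ∈ W.1 ∧ u ∉ Submodule.span F {v}} :=
      { toFun := fun u => ⟨u.1.1, (congrArg Subtype.val u.2).le (Submodule.subset_span ⟨1, rfl⟩), u.1.2.2⟩
        invFun := fun u => ⟨⟨u.1, hmemP W u.2.1, u.2.2⟩, Subtype.ext (by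
          refine Submodule.eq_of_le_of_finrank_eq (Submodule.span_le.2 ?_)
            ((hspan ⟨u.1, hmemP W u.2.1, u.2.2⟩).1.trans W.2.1.symm)
          rintro _ ⟨i, rfl⟩
          fin_cases i
          · exact W.2.2.1
          · exact u.2.1)⟩
        left_inv := fun u => rfl
        right_inv := fun u => rfl }
    rw [Nat.card_congr e, card_sub_complement _ _
      ((Submodule.span_singleton_le_iff_mem v _).2 W.2.2.1), finrank_span_singleton hv, W.2.1, pow_one]
  haveI : Finite (Fin 2 ⊕ Fin 2 → F) := inferInstance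
  have hcount : Nat.card X = Nat.card Y * (q ^ 2 - q) := by
    rw [← Nat.card_congr (Equiv.sigmaFiberEquiv π), GLOrder.card_sigma_const hfib]
  rw [card_sub_complement _ _ hvP, hfP, finrank_span_singleton hv, pow_one] at hcount
  have h2 : q ^ 3 - q = (q + 1) * (q ^ 2 - q) := by
    obtain ⟨r, hr⟩ := Nat.exists_eq_add_of_le hq.le
    rw [hr]
    have e1 : (1 + r) ^ 3 = (1 + r) + (r ^ 3 + 3 * r ^ 2 + 2 * r) := by ring
    have e2 : (1 + r) ^ 2 = (1 + r) + (r ^ 2 + r) := by ring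
    rw [e1, e2, Nat.add_sub_cancel_left, Nat.add_sub_cancel_left]
    ring
  rw [h2] at hcount
  exact (Nat.eq_of_mul_eq_mul_right (Nat.sub_pos_of_lt (by nlinarith)) hcount).symm

/-- The symplectic generalised quadrangle over a field with q elements: the number of 2-dimensional subspaces of F^4 on which the symplectic form vanishes is (q + 1)(q² + 1), and every non-zero vector lies in exactly q + 1 of them. -/
theorem result {F : Type*} [Field F] [Fintype F] {q : ℕ} (hF : Fintype.card F = q) : Nat.card {W : Submodule F (Fin 2 ⊕ Fin 2 → F) // Module.finrank F W = 2 ∧ ∀ u ∈ W, ∀ v ∈ W, Cfsg.sympForm 2 F u v = 0} = (q + 1) * (q ^ 2 + 1) ∧ ∀ v : Fin 2 ⊕ Fin 2 → F, v ≠ 0 → Nat.card {W : Submodule F (Fin 2 ⊕ Fin 2 → F) // Module.finrank F W = 2 ∧ v ∈ W ∧ ∀ u ∈ W, ∀ w ∈ W, Cfsg.sympForm 2 F u w = 0} = q + 1 := by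
  classical
  subst hF
  set q := Fintype.card F
  have hq : 1 < q := Fintype.one_lt_card
  refine ⟨?_, fun v hv => card_through hv⟩
  -- count incident pairs of non-zero vectors and lines
  let P := Σ W : Iso2 F, {u : Fin 2 ⊕ Fin 2 → F // u ∈ W.1 ∧ u ∉ (⊥ : Submodule F (Fin 2 ⊕ Fin 2 → F))}
  let e : P ≃ Σ v : {v : Fin 2 ⊕ Fin 2 → F // v ∈ (⊤ : Submodule F (Fin 2 ⊕ Fin 2 → F)) ∧
      v ∉ (⊥ : Submodule F (Fin 2 ⊕ Fin 2 → F))},
      {W : Submodule F (Fin 2 ⊕ Fin 2 → F) // finrank F W = 2 ∧ v.1 ∈ W ∧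
        ∀ u ∈ W, ∀ w ∈ W, Cfsg.sympForm 2 F u w = 0} :=
    { toFun := fun p => ⟨⟨p.2.1, Submodule.mem_top, p.2.2.2⟩, ⟨p.1.1, p.1.2.1, p.2.2.1, p.1.2.2⟩⟩
      invFun := fun p => ⟨⟨p.2.1, p.2.2.1, p.2.2.2.2⟩, ⟨p.1.1, p.2.2.2.1, p.1.2.2⟩⟩
      left_inv := fun p => rfl
      right_inv := fun p => rfl }
  have h1 : Nat.card P = Nat.card (Iso2 F) * (q ^ 2 - 1) := by
    refine GLOrder.card_sigma_const fun W => ?_
    rw [card_sub_complement _ _ bot_le, W.2.1, finrank_bot, pow_zero]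
  have h2 : Nat.card P = (q ^ 4 - 1) * (q + 1) := by
    rw [Nat.card_congr e, GLOrder.card_sigma_const (c := q + 1) fun v =>
      card_through fun h => v.2.2 (by rw [h]; exact Submodule.zero_mem _)]
    rw [card_sub_complement _ _ le_top, finrank_top, GLOrder.finrank_sympSpace, finrank_bot, pow_zero]
  have h3 : (q ^ 4 - 1) * (q + 1) = (q + 1) * (q ^ 2 + 1) * (q ^ 2 - 1) := by
    obtain ⟨r, hr⟩ := Nat.exists_eq_add_of_le (show 1 ≤ q ^ 2 from Nat.one_le_pow _ _ (by omega))
    rw [show q ^ 4 = (q ^ 2) ^ 2 by ring, hr, show (1 + r) ^ 2 = 1 + r * (1 + r + 1) by ring,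
      Nat.add_sub_cancel_left, Nat.add_sub_cancel_left]
    ring
  exact Nat.eq_of_mul_eq_mul_right (Nat.sub_pos_of_lt (Nat.one_lt_pow two_ne_zero hq))
    ((h1.symm.trans h2).trans h3)

end Cfsg.Agent.S0828
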