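import Cfsg.Statements.S0830
import Cfsg.Agent.Lib.Unitary.Subspaces

set_option autoImplicit false
open Cfsg

namespace Cfsg.Agent.S0830

/-- The unitary quadrangle of PSU_5(q): with |F| = q², the number of 2-dimensional subspaces of F^5 on which the Hermitian form vanishes is (q³ + 1)(q⁵ + 1). -/
theorem result {F : Type*} [Field F] [Fintype F] {q : ℕ} (hF : Fintype.card F = q ^ 2) : Nat.card {W : Submodule F (Fin 5 → F) // Module.finrank F W = 2 ∧ ∀ u ∈ W, ∀ v ∈ W, Cfsg.hermForm 5 F q u v = 0} = (q ^ 3 + 1) * (q ^ 5 + 1) := by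
  have hq := Cfsg.Agent.Unitary.two_le_q hF
  have h := Cfsg.Agent.Unitary.card_tiTuple_eq (k := 2) (n := 5) hF
  rw [Cfsg.Agent.Unitary.card_tiTuple_succ hF (by norm_num),
    Cfsg.Agent.Unitary.card_tiTuple_succ hF (by norm_num)] at h
  have h0 : Nat.card {w : Fin 0 → (Fin 5 → F) // Cfsg.Agent.Unitary.IsTI q w} = 1 := by
    rw [Nat.card_eq_one_iff_exists]
    exact ⟨⟨Fin.elim0, linearIndependent_empty_type, fun i => i.elim0⟩,
      fun b => Subtype.ext (Subsingleton.elim _ _)⟩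
  rw [h0, Cfsg.Agent.Unitary.isotropic_count hF, Cfsg.Agent.Unitary.isotropic_count hF,
    Fin.prod_univ_two] at h
  simp (config := { decide := true }) only [if_true, if_false, Fin.val_zero, Fin.val_one,
    Nat.add_sub_cancel] at h
  norm_num at h
  change _ = Nat.card {W : Submodule F (Fin 5 → F) // Module.finrank F W = 2 ∧
    ∀ u ∈ W, ∀ v ∈ W, Cfsg.hermForm 5 F q u v = 0} * _ at h
  have h2 : 1 ≤ q ^ 2 := Nat.one_le_pow _ _ (by omega)
  have h4 : 1 ≤ q ^ 4 := Nat.one_le_pow _ _ (by omega)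
  have hlt : q ^ 2 < (q ^ 2) ^ 2 := by
    calc q ^ 2 = (q ^ 2) ^ 1 := (pow_one _).symm
      _ < (q ^ 2) ^ 2 := Nat.pow_lt_pow_right (Nat.one_lt_pow two_ne_zero (by omega)) (by omega)
  apply Nat.eq_of_mul_eq_mul_right
    (show 0 < ((q ^ 2) ^ 2 - 1) * ((q ^ 2) ^ 2 - q ^ 2) by
      apply Nat.mul_pos <;> omega)
  rw [← h]
  zify [h2, h4, hlt.le, show 1 ≤ (q ^ 2) ^ 2 from by omega]
  ring

end Cfsg.Agent.S0830
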