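import Cfsg.Statements.S0833
import Cfsg.Agent.EqLemmas
import Cfsg.Agent.Lib.SympGeom.Iso
import Cfsg.Agent.Lib.SympGeom.Tensor

set_option autoImplicit false
open Cfsg

namespace Cfsg.Agent.S0833

open Cfsg.Agent Module TensorProduct

/-- If B₁, B₂ are non-degenerate alternating forms on U (dim 2k) and W (dim 2l), then B₁ ⊗ B₂ on U ⊗ W is symmetric, non-degenerate, and vanishes identically on some subspace of dimension 2kl (half of dim U ⊗ W). -/
theorem result {F U W : Type*} [Field F] [Fintype F] [AddCommGroup U] [Module F U] [FiniteDimensional F U] [AddCommGroup W] [Module F W] [FiniteDimensional F W] (B₁ : LinearMap.BilinForm F U) (B₂ : LinearMap.BilinForm F W) (h₁ : B₁.Nondegenerate) (h₂ : B₂.Nondegenerate) (hA₁ : B₁.IsAlt) (hA₂ : B₂.IsAlt) (k l : ℕ) (hU : Module.finrank F U = 2 * k) (hW : Module.finrank F W = 2 * l) : (B₁.tmul B₂).IsSymm ∧ (B₁.tmul B₂).Nondegenerate ∧ (∃ X : Submodule F (TensorProduct F U W), Module.finrank F X = 2 * k * l ∧ ∀ x ∈ X, ∀ y ∈ X, (B₁.tmul B₂) x y = 0) := by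
  classical
  refine ⟨?_, SympGeom.tmul_nondegenerate h₁ h₂, ?_⟩
  · exact SympGeom.tmul_apply_symm (s := (-1 : F)) (by ring)
      (fun u u' => by rw [neg_one_mul]; exact (LinearMap.IsAlt.neg hA₁ u' u).symm)
      (fun w w' => by rw [neg_one_mul]; exact (LinearMap.IsAlt.neg hA₂ w' w).symm)
  · obtain ⟨Φ, hΦ⟩ := SympGeom.exists_sympEquiv B₁ hA₁ h₁.1 hU
    let L : (Fin k → F) →ₗ[F] U :=
      { toFun := fun a => Φ (Sum.elim a 0)
        map_add' := fun a b => by
          rw [← map_add]; congr 1; funext i; rcases i with i | i <;> simp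
        map_smul' := fun c a => by
          rw [RingHom.id_apply, ← map_smul]; congr 1; funext i; rcases i with i | i <;> simp }
    have hL : Function.Injective L := fun a b h => by
      funext i
      exact congrFun (Φ.injective h) (Sum.inl i)
    have hiso : ∀ a b, B₁ (L a) (L b) = 0 := fun a b => by
      show B₁ (Φ _) (Φ _) = 0
      rw [hΦ, GLOrder.sympB_apply]
      simp
    let T : (Fin k → F) ⊗[F] W →ₗ[F] U ⊗[F] W := TensorProduct.map L LinearMap.id
    have hT : Function.Injective T :=
      Module.Flat.rTensor_preserves_injective_linearMap (M := W) L hL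
    refine ⟨LinearMap.range T, ?_, ?_⟩
    · rw [LinearMap.finrank_range_of_inj hT, Module.finrank_tensorProduct, Module.finrank_fin_fun, hW]
      ring
    · rintro _ ⟨x, rfl⟩ _ ⟨y, rfl⟩
      induction x using TensorProduct.induction_on with
      | zero => simp
      | tmul a w =>
        induction y using TensorProduct.induction_on with
        | zero => simp
        | tmul b w' => simp [T, SympGeom.tmul_apply, hiso]
        | add p r hp hr => rw [map_add, map_add, hp, hr, add_zero]
      | add p r hp hr => rw [map_add, map_add, LinearMap.add_apply, hp, hr, add_zero]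

end Cfsg.Agent.S0833
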