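import Cfsg.Statements.S0835
import Cfsg.Agent.EqLemmas
import Cfsg.Agent.Lib.SympGeom.HalfIsotropic
import Cfsg.Agent.Lib.SympGeom.Tensor

set_option autoImplicit false
open Cfsg

namespace Cfsg.Agent.S0835

open Cfsg.Agent Module

/-- Over a finite field with 2 ≠ 0: if B₁ on U (dim 2k, k ≥ 1) is non-degenerate symmetric of minus type (no totally isotropic k-subspace) and B₂ on W (dim 2l + 1) is non-degenerate symmetric, then B₁ ⊗ B₂ (dimension 2k(2l+1)) admits no totally isotropic subspace of dimension k(2l+1) (minus type). -/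
theorem result {F U W : Type*} [Field F] [Fintype F] [AddCommGroup U] [Module F U] [FiniteDimensional F U] [AddCommGroup W] [Module F W] [FiniteDimensional F W] (h2 : (2 : F) ≠ 0) (B₁ : LinearMap.BilinForm F U) (B₂ : LinearMap.BilinForm F W) (h₁ : B₁.Nondegenerate) (h₂ : B₂.Nondegenerate) (hS₁ : B₁.IsSymm) (hS₂ : B₂.IsSymm) (k l : ℕ) (hk : 1 ≤ k) (hU : Module.finrank F U = 2 * k) (hW : Module.finrank F W = 2 * l + 1) (hm₁ : ¬ (∃ X : Submodule F (U), Module.finrank F X = k ∧ ∀ x ∈ X, ∀ y ∈ X, (B₁) x y = 0)) : ¬ (∃ X : Submodule F (TensorProduct F U W), Module.finrank F X = k * (2 * l + 1) ∧ ∀ x ∈ X, ∀ y ∈ X, (B₁.tmul B₂) x y = 0) := by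
  classical
  intro hX
  let b₁ := Module.finBasisOfFinrankEq F U hU
  let b₂ := Module.finBasisOfFinrankEq F W hW
  have hT := (SympGeom.hasHalf_iff h2 (B₁.tmul B₂)
    ⟨fun x y => (SympGeom.tmul_apply_symm (s := (1 : F)) (B₁ := B₁) (B₂ := B₂) (one_mul 1)
      (fun u u' => by rw [one_mul]; exact hS₁.eq u u')
      (fun w w' => by rw [one_mul]; exact hS₂.eq w w')).eq x y⟩
    (SympGeom.tmul_nondegenerate h₁ h₂) (n := k * (2 * l + 1))
    (by rw [Module.finrank_tensorProduct, hU, hW]; ring) (b₁.tensorProduct b₂)).1 hX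
  rw [SympGeom.toMatrix_tmul, Matrix.det_kronecker, Fintype.card_fin, Fintype.card_fin] at hT
  refine hm₁ ((SympGeom.hasHalf_iff h2 B₁ hS₁ h₁ hU b₁).2 ?_)
  set D₁ := (LinearMap.BilinForm.toMatrix b₁ B₁).det with hD₁
  set D₂ := (LinearMap.BilinForm.toMatrix b₂ B₂).det with hD₂
  have hne₁ : D₁ ≠ 0 := (LinearMap.BilinForm.nondegenerate_iff_det_ne_zero b₁).1 h₁
  have hne₂ : D₂ ≠ 0 := (LinearMap.BilinForm.nondegenerate_iff_det_ne_zero b₂).1 h₂
  have key : ((-1 : F) ^ k * D₁) * ((-1) ^ (k * l) * D₁ ^ l * D₂ ^ k) ^ 2 =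
      (-1) ^ (k * (2 * l + 1)) * (D₁ ^ (2 * l + 1) * D₂ ^ (2 * k)) := by ring
  rw [← key] at hT
  have hne : (-1 : F) ^ (k * l) * D₁ ^ l * D₂ ^ k ≠ 0 :=
    mul_ne_zero (mul_ne_zero (pow_ne_zero _ (neg_ne_zero.2 one_ne_zero)) (pow_ne_zero _ hne₁))
      (pow_ne_zero _ hne₂)
  obtain ⟨r, hr⟩ := hT
  refine ⟨r / ((-1) ^ (k * l) * D₁ ^ l * D₂ ^ k), ?_⟩
  rw [div_mul_div_comm, eq_div_iff (mul_ne_zero hne hne), ← sq]
  exact hr

end Cfsg.Agent.S0835
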