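import Cfsg.Statements.S0838
import Cfsg.Agent.Lib.Forms.Classify

set_option autoImplicit false
open Cfsg

namespace Cfsg.Agent.S0838

theorem odd_form {F : Type*} [Field F] [Finite F] {n : ℕ} (Q : QuadraticForm F (Fin n → F))
    (hQ : (QuadraticMap.polarBilin Q).Nondegenerate) (hn : Odd n) :
    ∃ (m : ℕ) (c : F) (e : (Unit ⊕ (Fin m ⊕ Fin m) → F) ≃ₗ[F] (Fin n → F)),
      c ≠ 0 ∧ ∀ v, Q (e v) = c * Forms.qfOdd m F v := by
  rcases Forms.classify Q hQ with ⟨m, e, -⟩ | ⟨m, a, b, e, -, -⟩ | ⟨m, c, e, hc, -, he⟩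
  · have := e.finrank_eq
    simp at this
    rw [Nat.odd_iff] at hn
    omega
  · have := e.finrank_eq
    simp at this
    rw [Nat.odd_iff] at hn
    omega
  · exact ⟨m, c, e, hc, he⟩

/-- Over a finite field with 2 ≠ 0 and n odd: two quadratic forms Q₁, Q₂ on F^n with non-degenerate polar forms are similar — there are an invertible linear map g and a scalar c ≠ 0 with Q₂ (g v) = c · Q₁ v for all v. -/
theorem result {F : Type*} [Field F] [Fintype F] (h2 : (2 : F) ≠ 0) {n : ℕ} (hn : Odd n) (Q₁ Q₂ : QuadraticForm F (Fin n → F)) (h₁ : (QuadraticMap.polarBilin Q₁).Nondegenerate) (h₂ : (QuadraticMap.polarBilin Q₂).Nondegenerate) : ∃ (g : (Fin n → F) ≃ₗ[F] (Fin n → F)) (c : F), c ≠ 0 ∧ ∀ v, Q₂ (g v) = c * Q₁ v := by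
  obtain ⟨m₁, c₁, e₁, hc₁, he₁⟩ := odd_form Q₁ h₁ hn
  obtain ⟨m₂, c₂, e₂, hc₂, he₂⟩ := odd_form Q₂ h₂ hn
  have h := e₁.finrank_eq.trans e₂.finrank_eq.symm
  obtain rfl : m₁ = m₂ := by simp at h; omega
  refine ⟨e₁.symm.trans e₂, c₂ / c₁, div_ne_zero hc₂ hc₁, fun v => ?_⟩
  obtain ⟨x, rfl⟩ := e₁.surjective v
  rw [LinearEquiv.trans_apply, LinearEquiv.symm_apply_apply, he₂, he₁]
  field_simp

end Cfsg.Agent.S0838
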