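import Cfsg.Statements.S0839
import Cfsg.Agent.Lib.Linear.SLn

set_option autoImplicit false
open Cfsg

namespace Cfsg.Agent.S0839

/-- Every transvection t ∈ SL_(n+2)(F) (rank(t − 1) = 1, (t − 1)² = 0) is conjugate in SL_(n+2)(F) to 1 + v·e_0ᵀ for some column vector v with v_0 = 0 (the group A of matrices that are the identity except in the first column below the diagonal); the dimension is written n + 2 ≥ 2. -/
theorem result {F : Type*} [Field F] (n : ℕ) (t : Matrix.SpecialLinearGroup (Fin (n + 2)) F) (ht : Cfsg.IsTransvection (t : Matrix (Fin (n + 2)) (Fin (n + 2)) F)) : ∃ (g : Matrix.SpecialLinearGroup (Fin (n + 2)) F) (v : Fin (n + 2) → F), v 0 = 0 ∧ ((g⁻¹ * t * g : Matrix.SpecialLinearGroup (Fin (n + 2)) F) : Matrix (Fin (n + 2)) (Fin (n + 2)) F) = 1 + Matrix.vecMulVec v (Pi.single 0 1) := by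
  obtain ⟨hr, hsq⟩ := ht
  set T := (t : Matrix (Fin (n + 2)) (Fin (n + 2)) F) with hT
  obtain ⟨i, j, hij⟩ : ∃ i j, (T - 1) i j ≠ 0 := by
    by_contra! h
    have : T - 1 = 0 := Matrix.ext h
    rw [this, Matrix.rank_zero] at hr
    exact zero_ne_one hr
  -- every column of `T - 1` is a multiple of column `j`
  have hcol : ∀ k, ∃ a : F, a • (T - 1).col j = (T - 1).col k := by
    rw [Matrix.rank_eq_finrank_span_cols] at hr
    intro k
    obtain ⟨a, ha⟩ := (finrank_eq_one_iff_of_nonzero'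
      (⟨(T - 1).col j, Submodule.subset_span ⟨j, rfl⟩⟩ :
        Submodule.span F (Set.range (T - 1).col))
      (fun e => hij (congrFun (congrArg Subtype.val e) i))).1 hr
      ⟨(T - 1).col k, Submodule.subset_span ⟨k, rfl⟩⟩
    exact ⟨a, congrArg Subtype.val ha⟩
  choose w hw using hcol
  set u := (T - 1).col j with hu
  have hvv : T - 1 = Matrix.vecMulVec u w := Matrix.ext fun a b => by
    rw [Matrix.vecMulVec_apply, mul_comm]; exact (congrFun (hw b) a).symm
  have hwj : w ≠ 0 := fun e => hij (by rw [hvv, Matrix.vecMulVec_apply, e]; simp)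
  have hu0 : u i ≠ 0 := hij
  have hwu : w ⬝ᵥ u = 0 := by
    have := congrFun (congrFun hsq i) j
    rw [hvv, Matrix.vecMulVec_mul_vecMulVec, Matrix.vecMulVec_apply] at this
    have hj : w j ≠ 0 := fun e => hij (by rw [hvv, Matrix.vecMulVec_apply, e, mul_zero])
    simpa [hu0, hj] using this
  obtain ⟨G', hG⟩ := Cfsg.Agent.Linear.exists_sl_smul_eq hwj
    (v := (Pi.single 0 1 : Fin (n + 2) → F)) (by simp)
  set g : Matrix.SpecialLinearGroup (Fin (n + 2)) F := G'.transpose with hg
  have hwg : Matrix.vecMul w g.1 = Pi.single 0 1 := by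
    rw [← hG, hg]
    exact Matrix.vecMul_transpose _ _
  refine ⟨g, Matrix.mulVec (g⁻¹).1 u, ?_, ?_⟩
  · have e : Pi.single 0 1 ⬝ᵥ Matrix.mulVec (g⁻¹).1 u = 0 := by
      rw [← hwg, Matrix.dotProduct_mulVec, Matrix.vecMul_vecMul,
        ← Matrix.SpecialLinearGroup.coe_mul, mul_inv_cancel,
        Matrix.SpecialLinearGroup.coe_one, Matrix.vecMul_one, hwu]
    simpa using e
  · have hT1 : T = 1 + Matrix.vecMulVec u w := by rw [← hvv]; abel
    rw [Matrix.SpecialLinearGroup.coe_mul, Matrix.SpecialLinearGroup.coe_mul, ← hT, hT1,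
      mul_add, add_mul, mul_one, ← Matrix.SpecialLinearGroup.coe_mul, inv_mul_cancel,
      Matrix.SpecialLinearGroup.coe_one, Matrix.mul_vecMulVec, Matrix.vecMulVec_mul, hwg]

end Cfsg.Agent.S0839
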