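import Cfsg.Statements.S0842
import Cfsg.Agent.Lib.BS16.Apply

set_option autoImplicit false
open Cfsg

namespace Cfsg.Agent.S0842

/-- Suppose a Sylow 2-subgroup S of the finite group G is generalized quaternion of order at least 16, and let D be the commutator subgroup of S, C its centralizer and N its normalizer in G. Then there is a subgroup K of odd order, contained in C and normalized by N, with K ⊔ S = N and K ⊔ (S ⊓ C) = C, and C has index 2 in N. -/
theorem result {G : Type*} [Group G] [Finite G] (S : Sylow 2 G) (n : ℕ) (e : (S : Subgroup G) ≃* QuaternionGroup (2 ^ (n + 2))) (D : Subgroup G) (hD : D = ⁅(S : Subgroup G), (S : Subgroup G)⁆) : ∃ K : Subgroup G, Odd (Nat.card K) ∧ K ≤ Subgroup.centralizer (D : Set G) ∧ Subgroup.normalizer (D : Set G) ≤ Subgroup.normalizer (K : Set G) ∧ K ⊔ (S : Subgroup G) = Subgroup.normalizer (D : Set G) ∧ K ⊔ ((S : Subgroup G) ⊓ Subgroup.centralizer (D : Set G)) = Subgroup.centralizer (D :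 Set G) ∧ ((Subgroup.centralizer (D : Set G)).subgroupOf (Subgroup.normalizer (D : Set G))).index = 2 := by
  obtain ⟨σ, hS, -⟩ := BS16.exists_setup S n e
  rw [σ.D_eq_of_derived hS] at hD
  subst hD; subst hS
  obtain ⟨K, hKC, hKodd, hKmem, hKdec⟩ := σ.exists_K
  have hKN : σ.Nz ≤ Subgroup.normalizer (K : Set G) := by
    intro g hg
    have key : ∀ g ∈ σ.Nz, ∀ x ∈ K, g * x * g⁻¹ ∈ K := fun g hg x hx => by
      rw [hKmem] at hx ⊢
      exact ⟨σ.conj_mem_C hg hx.1, by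
        rw [show orderOf (g * x * g⁻¹) = orderOf x from MulEquiv.orderOf_eq (MulAut.conj g) x]; exact hx.2⟩
    rw [Subgroup.mem_normalizer_iff]
    exact fun x => ⟨key g hg x, fun h => by simpa [mul_assoc] using key g⁻¹ (inv_mem hg) _ h⟩
  refine ⟨K, hKodd, hKC, hKN, ?_, ?_, σ.relIndex_two⟩
  · refine le_antisymm (sup_le (hKC.trans σ.C_le_N) σ.S_le_N) fun g hg => ?_
    have hC : ∀ x ∈ σ.C, x ∈ K ⊔ (σ.S : Subgroup G) := fun x hx => by
      obtain ⟨k, hk, i, rfl⟩ := hKdec x hx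
      exact Subgroup.mul_mem_sup hk (pow_mem σ.ha i)
    by_cases hgC : g ∈ σ.C
    · exact hC g hgC
    · have hb : (⟨σ.b, σ.S_le_N σ.hb⟩ : σ.Nz)⁻¹ ∉ σ.C.subgroupOf σ.Nz := fun h => σ.b_not_mem_C (inv_mem_iff.1 h)
      have := (Subgroup.mul_mem_iff_of_index_two σ.relIndex_two (a := (⟨σ.b, σ.S_le_N σ.hb⟩ : σ.Nz)⁻¹)
        (b := ⟨g, hg⟩)).2 (iff_of_false hb hgC)
      have h' : σ.b⁻¹ * g ∈ σ.C := this
      have := mul_mem (Subgroup.mem_sup_right σ.hb : σ.b ∈ K ⊔ (σ.S : Subgroup G)) (hC _ h')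
      rwa [mul_inv_cancel_left] at this
  · refine le_antisymm (sup_le hKC inf_le_right) fun g hg => ?_
    obtain ⟨k, hk, i, rfl⟩ := hKdec g hg
    exact Subgroup.mul_mem_sup hk ⟨pow_mem σ.ha i, σ.A_le_C (pow_mem (Subgroup.mem_zpowers _) i)⟩

end Cfsg.Agent.S0842
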