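import Cfsg.Statements.S0846
import Cfsg.Agent.Lib.BS16.Apply

set_option autoImplicit false
open Cfsg

namespace Cfsg.Agent.S0846

/-- Suppose a Sylow 2-subgroup S of the finite group G is generalized quaternion of order at least 16. Then every Sylow 2-subgroup of the subgroup generated by the involutions of G is cyclic. -/
theorem result {G : Type*} [Group G] [Finite G] (S : Sylow 2 G) (n : ℕ) (e : (S : Subgroup G) ≃* QuaternionGroup (2 ^ (n + 2))) (Q : Sylow 2 ↥(Subgroup.closure {g : G | orderOf g = 2})) : IsCyclic Q := by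
  classical
  have := Fintype.ofFinite G
  obtain ⟨σ, -, -⟩ := BS16.exists_setup S n e
  obtain ⟨M, hM, hz, -, hSM⟩ := σ.exists_normal
  have hle : Subgroup.closure {g : G | orderOf g = 2} ≤ M := by
    rw [Subgroup.closure_le]
    intro x hx
    obtain ⟨c, hc⟩ := isConj_iff.1 (σ.isConj_z hx)
    exact hc ▸ hM.conj_mem _ hz c
  have := σ.isCyclic_of_le_normal hSM (Q.2.map (Subgroup.subtype _)) ((Subgroup.map_subtype_le _).trans hle)
  exact isCyclic_of_surjective (Q.1.equivMapOfInjective _ (Subgroup.subtype_injective _)).symm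
    (MulEquiv.surjective _)

end Cfsg.Agent.S0846
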