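import Cfsg.Statements.S0850
import Cfsg.Agent.EqLemmas

set_option autoImplicit false
open Cfsg

namespace Cfsg.Agent.S0850

theorem extendByZero_mem {G : Type*} [Group G] (H : Subgroup G) (φ : H → ℂ) (h : H) :
    Cfsg.extendByZero H φ (h : G) = φ h :=
  Subtype.val_injective.extend_apply _ _ h

theorem extendByZero_ne {G : Type*} [Group G] (H : Subgroup G) (φ : H → ℂ) (g : G)
    (hne : Cfsg.extendByZero H φ g ≠ 0) : ∃ h : H, (h : G) = g ∧ φ h ≠ 0 := by
  by_cases hg : g ∈ H
  · refine ⟨⟨g, hg⟩, rfl, ?_⟩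
    rwa [← extendByZero_mem H φ ⟨g, hg⟩]
  · refine absurd ?_ hne
    unfold Cfsg.extendByZero
    rw [Function.extend_apply']
    · rfl
    · rintro ⟨h, rfl⟩; exact hg h.2

theorem hall_of_centralizer_le {G : Type*} [Group G] [Finite G] (N K : Subgroup G) (hKN : K ≤ N)
    (hN : N ≤ Subgroup.normalizer (K : Set G))
    (hC : ∀ k ∈ K, k ≠ 1 → Subgroup.centralizer ({k} : Set G) ≤ K) :
    Nat.Coprime (Nat.card K) (K.relIndex N) := by
  classical
  by_contra hcop
  obtain ⟨p, hp, hdK, hdI⟩ := Nat.Prime.not_coprime_iff_dvd.1 hcop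
  haveI := Fact.mk hp
  obtain ⟨S, hS⟩ : ∃ S : Sylow p N, True := ⟨default, trivial⟩
  haveI : (K.subgroupOf N).Normal := Subgroup.normal_subgroupOf_of_le_normalizer hN
  obtain ⟨Q⟩ : Nonempty (Sylow p (K.subgroupOf N)) := inferInstance
  obtain ⟨R, hR⟩ := Q.exists_comap_subtype_eq
  -- a nontrivial element of Z(R) in K
  have hQne : (Q : Subgroup (K.subgroupOf N)) ≠ ⊥ := by
    apply Q.ne_bot_of_dvd_card
    rwa [Nat.card_congr (Subgroup.subgroupOfEquivOfLe hKN).toEquiv]
  let M : Subgroup R := (K.subgroupOf N).subgroupOf (R : Subgroup N)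
  haveI : M.Normal := by
    refine ⟨fun n hn g => ?_⟩
    simp only [M, Subgroup.mem_subgroupOf] at hn ⊢
    exact Subgroup.Normal.conj_mem (H := K.subgroupOf N) inferInstance (n : N) hn (g : N)
  have hM : M ≠ ⊥ := by
    obtain ⟨⟨q, hqQ⟩, hq1⟩ := Subgroup.ne_bot_iff_exists_ne_one.1 hQne
    have hqR : (q : N) ∈ (R : Subgroup N) := by
      rw [← hR] at hqQ; exact hqQ
    refine Subgroup.ne_bot_iff_exists_ne_one.2 ⟨⟨⟨(q : N), hqR⟩, q.2⟩, ?_⟩
    intro h
    apply hq1
    apply Subtype.ext; apply Subtype.ext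
    exact congrArg (fun z : M => ((z : R) : N)) h
  obtain ⟨z, hzM, hzc, hz1⟩ : ∃ z : R, z ∈ M ∧ z ∈ Subgroup.center R ∧ z ≠ 1 := by
    have hpR : IsPGroup p (ConjAct R) := R.2.of_equiv ConjAct.toConjAct
    have hdM : p ∣ Nat.card M := by
      obtain ⟨k, hk⟩ := (R.2.to_subgroup M).exists_card_eq
      rcases k.eq_zero_or_pos with rfl | hk0
      · exact absurd (Subgroup.card_eq_one.1 (by simpa using hk)) hM
      · rw [hk]; exact dvd_pow_self p hk0.ne'
    obtain ⟨⟨z, hz⟩, hzfix, hz1⟩ := hpR.exists_fixed_point_of_prime_dvd_card_of_fixed_point M hdM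
      (a := (1 : M)) (fun g => Subtype.ext (smul_one g))
    refine ⟨z, hz, Subgroup.mem_center_iff.2 fun g => ?_, fun h => hz1 (Subtype.ext h.symm)⟩
    have hfix := congrArg (fun e : M => (e : R)) (hzfix (ConjAct.toConjAct g))
    exact mul_inv_eq_iff_eq_mul.1 hfix
  have hzK : ((z : N) : G) ∈ K := hzM
  have hz1' : ((z : N) : G) ≠ 1 := fun h => hz1 (Subtype.ext (Subtype.ext h))
  have hRK : (R : Subgroup N) ≤ K.subgroupOf N := by
    intro r hr
    refine hC _ hzK hz1' ?_
    rw [Subgroup.mem_centralizer_singleton_iff]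
    exact congrArg (fun t : R => ((t : N) : G)) (Subgroup.mem_center_iff.1 hzc ⟨r, hr⟩)
  exact R.not_dvd_index' (Subgroup.index_ne_zero_of_finite) (hdI.trans (Subgroup.index_dvd_of_le hRK))


/-- Let K be a subgroup of the finite group G that meets each conjugate by an element outside its normalizer N trivially, is properly contained in N, and contains the centralizer of each of its non-identity elements (a T.I. subgroup with Frobenius normalizer). Then no element of N outside K is conjugate in G to an element of K, and for every class function ϑ of N that vanishes on N away from K and at the identity, the function induced from ϑ to G agrees with ϑ on all of N. -/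
theorem result {G : Type*} [Group G] [Fintype G] (K : Subgroup G) (hTI : ∀ g : G, g ∉ Subgroup.normalizer (K : Set G) → ∀ k ∈ K, g * k * g⁻¹ ∈ K → k = 1) (hlt : K < Subgroup.normalizer (K : Set G)) (hC : ∀ k ∈ K, k ≠ 1 → Subgroup.centralizer ({k} : Set G) ≤ K) : (∀ x ∈ Subgroup.normalizer (K : Set G), x ∉ K → ∀ g : G, g * x * g⁻¹ ∉ K) ∧ ∀ (ϑ : Subgroup.normalizer (K : Set G) → ℂ), Cfsg.IsClassFunction (Subgroup.normalizer (K : Set G)) ϑ → (∀ x : Subgroup.normalizer (K : Set G), (x : G) ∉ K → ϑ x = 0) → ϑ 1 = 0 → ∀ x : Subgroup.normalizer (K : Set G), Cfsg.indFun (Subgroup.normalizer (K : Set G)) ϑ x = ϑ x := by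
  classical
  set N := Subgroup.normalizer (K : Set G) with hN
  have hKN : K ≤ N := Subgroup.le_normalizer
  have hcop := hall_of_centralizer_le N K hKN le_rfl hC
  have hfirst : ∀ x ∈ N, x ∉ K → ∀ g : G, g * x * g⁻¹ ∉ K := by
    intro x hxN hxK g hg
    apply hxK
    haveI : (K.subgroupOf N).Normal := Subgroup.normal_in_normalizer
    have ho1 : orderOf x ∣ Nat.card K := by
      have h := Subgroup.orderOf_dvd_natCard K hg
      have e : orderOf (g * x * g⁻¹) = orderOf x := by
        exact MulEquiv.orderOf_eq (MulAut.conj g) x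
      rwa [e] at h
    have ho2 : orderOf ((⟨x, hxN⟩ : N) : N ⧸ K.subgroupOf N) ∣ K.relIndex N := orderOf_dvd_natCard _
    have ho3 : orderOf ((⟨x, hxN⟩ : N) : N ⧸ K.subgroupOf N) ∣ orderOf x := by
      have := orderOf_map_dvd (QuotientGroup.mk' (K.subgroupOf N)) (⟨x, hxN⟩ : N)
      rw [← Subgroup.orderOf_coe (⟨x, hxN⟩ : N)] at this
      exact this
    have h1 := Nat.eq_one_of_dvd_coprimes hcop (ho3.trans ho1) ho2
    rw [orderOf_eq_one_iff, QuotientGroup.eq_one_iff] at h1
    exact h1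
  refine ⟨hfirst, ?_⟩
  intro ϑ hcl hsupp h1 x
  set f : G → ℂ := Cfsg.extendByZero N ϑ with hf
  have hterm : ∀ g : G, f (g⁻¹ * x * g) = if g ∈ N then ϑ x else 0 := by
    intro g
    split_ifs with hg
    · have e : g⁻¹ * (x : G) * g = ((⟨g, hg⟩⁻¹ * x * ⟨g, hg⟩ : N) : G) := rfl
      rw [hf, e, extendByZero_mem]
      have := hcl x (⟨g, hg⟩⁻¹ : N)
      rwa [inv_inv] at this
    · by_contra hne
      obtain ⟨t, ht, htne⟩ := extendByZero_ne N ϑ _ hne
      have htK : (t : G) ∈ K := by_contra fun h => htne (hsupp t h)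
      have ht1 : (t : G) ≠ 1 := fun h => htne (by
        have ht1' : t = 1 := Subtype.ext h
        rw [ht1']; exact h1)
      by_cases hx : (x : G) ∈ K
      · refine ht1 ?_
        have hx1 : (x : G) = 1 := hTI g⁻¹ (fun h => hg (N.inv_mem_iff.1 h)) (x : G) hx (by rw [inv_inv, ← ht]; exact htK)
        rw [ht, hx1]; group
      · exact hfirst x x.2 hx g⁻¹ (by rw [inv_inv, ← ht]; exact htK)
  unfold Cfsg.indFun
  rw [Finset.sum_congr rfl (fun g _ => hterm g), ← Finset.sum_filter, Finset.sum_const, nsmul_eq_mul]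
  rw [show (Finset.univ.filter (fun g => g ∈ N)).card = Nat.card N by
    rw [Nat.card_eq_fintype_card, ← Fintype.card_subtype], ← mul_assoc,
    inv_mul_cancel₀ (Nat.cast_ne_zero.2 Nat.card_pos.ne'), one_mul]

end Cfsg.Agent.S0850
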