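import Cfsg.Statements.S0851
import Cfsg.Agent.EqLemmas
import Cfsg.Agent.Lib.Coherence.TIFN

set_option autoImplicit false
open Cfsg

namespace Cfsg.Agent.S0851

open Cfsg.Agent.Char Cfsg.Agent.Coherence


/-- Let K be a subgroup of the finite group G that meets each conjugate by an element outside its normalizer N trivially, is properly contained in N, and contains the centralizer of each of its non-identity elements (a T.I. subgroup with Frobenius normalizer). Suppose K is abelian, let e be the index of K in N, and call an irreducible character of N relevant when it takes at some element of K a value different from its degree. Then either there is exactly one relevant character and K is an elementary abelian p-group of order e + 1 for some prime p, or there are a sign ε and an injective map f from the relevant characters to the irreducible characters of G such that inducing χ - ξ to G gives ε (f χ - f ξ) for all relevant χ and ξ. -/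
theorem result {G : Type*} [Group G] [Fintype G] (K : Subgroup G) (hTI : ∀ g : G, g ∉ Subgroup.normalizer (K : Set G) → ∀ k ∈ K, g * k * g⁻¹ ∈ K → k = 1) (hlt : K < Subgroup.normalizer (K : Set G)) (hC : ∀ k ∈ K, k ≠ 1 → Subgroup.centralizer ({k} : Set G) ≤ K) (hab : ∀ a ∈ K, ∀ b ∈ K, a * b = b * a) : (Nat.card {χ : Cfsg.IrrCharacter (Subgroup.normalizer (K : Set G)) // ∃ k : Subgroup.normalizer (K : Set G), (k : G) ∈ K ∧ (χ : ↥(Subgroup.normalizer (K : Set G)) → ℂ) k ≠ (χ : ↥(Subgroup.normalizer (K : Set G)) → ℂ) 1} = 1 ∧ ∃ p : ℕ, p.Prime ∧ Cfsg.IsElementaryAbelian p K ∧ Nat.card K = (K.subgroupOf (Subgroup.normalizer (K : Set G))).index + 1) ∨ ∃ (ε : ℂ) (f : {χ : Cfsg.IrrCharacter (Subgroup.normalizer (K : Set G)) // ∃ k : Subgroup.normalizer (K : Set G), (k : G) ∈ K ∧ (χ : ↥(Subgroup.normalizer (K : Set G)) → ℂ) k ≠ (χ : ↥(Subgroup.normalizer (K : Set G)) → ℂ) 1} → Cfsg.IrrCharacter G), (ε = 1 ∨ ε = -1) ∧ Function.Injective f ∧ ∀ χ ξ, Cfsg.indFun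 (Subgroup.normalizer (K : Set G)) ((χ.1 : ↥(Subgroup.normalizer (K : Set G)) → ℂ) - (ξ.1 : ↥(Subgroup.normalizer (K : Set G)) → ℂ)) = ε • ((f χ : G → ℂ) - (f ξ : G → ℂ)) := by
  classical
  set N := Subgroup.normalizer (K : Set G) with hN
  letI : Fintype N := Fintype.ofFinite N
  have hTI' : IsTISubset (K : Set G) := hTI
  set H := K.subgroupOf N with hH
  set T := inducedIrrAbove H ⊥ with hT
  have hF : FrobK H := frobK_ti K hC
  have hH2 : H ≠ ⊤ := subgroupOf_ne_top hlt
  have hset := tifn_set K hC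
  have hmem : ∀ χ : IrrCharacter N, (∃ k : N, (k : G) ∈ K ∧ (χ : N → ℂ) k ≠ (χ : N → ℂ) 1) ↔
      (χ : N → ℂ) ∈ T := fun χ => by
    show _ ↔ (χ : N → ℂ) ∈ inducedIrrAbove (K.subgroupOf (Subgroup.normalizer (K : Set G))) ⊥
    rw [← hset]
    exact ⟨fun h => ⟨χ.2, h⟩, fun h => h.2⟩
  haveI := Fintype.ofFinite (IrrCharacter N)
  set U : Finset (N → ℂ) := (Finset.univ.filter fun χ : IrrCharacter N => (χ : N → ℂ) ∈ T).image
    Subtype.val with hU
  have hUT : (↑U : Set (N → ℂ)) = T := by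
    ext φ
    simp only [hU, Finset.coe_image, Set.mem_image, Finset.mem_coe, Finset.mem_filter,
      Finset.mem_univ, true_and]
    exact ⟨fun ⟨χ, h, e⟩ => e ▸ h, fun h => ⟨⟨φ, hF.irr_of_mem h⟩, h, rfl⟩⟩
  have hcardU : Nat.card {χ : IrrCharacter N // ∃ k : N, (k : G) ∈ K ∧
      (χ : N → ℂ) k ≠ (χ : N → ℂ) 1} = U.card := by
    rw [hU, Finset.card_image_of_injective _ Subtype.val_injective, Nat.card_eq_fintype_card,
      Fintype.card_subtype]
    exact congrArg Finset.card (Finset.filter_congr fun χ _ => hmem χ)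
  have hcomm : ⁅H, H⁆ ≤ (⊥ : Subgroup N) := by
    rw [Subgroup.commutator_le]
    intro a ha b hb
    rw [Subgroup.mem_bot, commutatorElement_eq_one_iff_mul_comm]
    exact Subtype.ext (hab _ ha _ hb)
  have hdeg : ∀ φ ∈ T, φ 1 = (H.index : ℂ) := fun φ hφ => FrobK.degree_of_commutator_le hcomm hφ
  have hsum := hF.sum_sq ⊥ bot_le U hUT (fun _ => 1) (fun φ hφ => by
    rw [hdeg φ (hUT ▸ Finset.mem_coe.2 hφ)]; simp)
  rw [Subgroup.relIndex_bot_left] at hsum
  simp only [one_pow, Finset.sum_const, nsmul_eq_mul, mul_one] at hsum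
  have hcardH : Nat.card H = Nat.card K :=
    Nat.card_congr (Subgroup.subgroupOfEquivOfLe Subgroup.le_normalizer).toEquiv
  rw [hcardH] at hsum
  by_cases h1 : U.card = 1
  · left
    rw [h1, Nat.cast_one, mul_one] at hsum
    have hcK : Nat.card K = H.index + 1 := by omega
    refine ⟨hcardU.trans h1, ?_⟩
    obtain ⟨p, hp, hpd⟩ := Nat.exists_prime_and_dvd (n := Nat.card K)
      (by have := Subgroup.index_ne_zero_of_finite (H := H); omega)
    haveI := Fact.mk hp
    obtain ⟨k, hk⟩ := exists_prime_orderOf_dvd_card' (G := K) p hpd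
    have hk1 : (k : G) ≠ 1 := fun e => hp.ne_one (by
      rw [← hk, show k = 1 from Subtype.ext e, orderOf_one])
    -- every non-identity element of `K` is conjugate to `k` in `N`
    let f : N ⧸ H → {x : K // x ≠ 1} := fun q =>
      ⟨⟨(q.out : G) * k * (q.out : G)⁻¹, (Subgroup.mem_normalizer_iff.1 q.out.2 _).1 k.2⟩,
        fun e => hk1 (conj_eq_one_iff.1 (congrArg Subtype.val e))⟩
    have hfinj : Function.Injective f := by
      intro q r e
      have e' : (q.out : G) * k * (q.out : G)⁻¹ = (r.out : G) * k * (r.out : G)⁻¹ :=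
        congrArg (fun z : {x : K // x ≠ 1} => ((z.1 : K) : G)) e
      have hmem' : ((r.out⁻¹ * q.out : N) : G) ∈ K := by
        refine hC k k.2 hk1 (Subgroup.mem_centralizer_singleton_iff.2 ?_)
        push_cast
        calc (r.out : G)⁻¹ * q.out * k
            = (r.out : G)⁻¹ * ((q.out : G) * k * (q.out : G)⁻¹) * q.out := by group
          _ = k * ((r.out : G)⁻¹ * q.out) := by rw [e']; group
      rw [← QuotientGroup.out_eq' q, ← QuotientGroup.out_eq' r]
      exact (QuotientGroup.eq.2 (Subgroup.mem_subgroupOf.2 hmem')).symm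
    have hfbij : Function.Bijective f := by
      refine (Fintype.bijective_iff_injective_and_card f).2 ⟨hfinj, ?_⟩
      rw [← Nat.card_eq_fintype_card, ← Subgroup.index_eq_card, Fintype.card_subtype_compl,
        Fintype.card_subtype_eq, ← Nat.card_eq_fintype_card]
      omega
    refine ⟨p, hp, ⟨⟨⟨fun a b => Subtype.ext (hab _ a.2 _ b.2)⟩⟩, fun a ha => ?_⟩, hcK⟩
    by_cases ha1 : a = 1
    · rw [ha1, one_pow]
    obtain ⟨q, hq⟩ := hfbij.2 ⟨⟨a, ha⟩, fun e => ha1 (congrArg Subtype.val e)⟩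
    have hq' : (q.out : G) * k * (q.out : G)⁻¹ = a :=
      congrArg (fun z : {x : K // x ≠ 1} => ((z.1 : K) : G)) hq
    rw [← hq', conj_pow, ← hk, ← Subgroup.orderOf_coe, pow_orderOf_eq_one]
    group
  right
  by_cases h0 : U.card = 0
  · haveI : IsEmpty {χ : IrrCharacter N // ∃ k : N, (k : G) ∈ K ∧
        (χ : N → ℂ) k ≠ (χ : N → ℂ) 1} := by
      refine (Nat.card_eq_zero.1 (hcardU.trans h0)).resolve_right ?_
      exact not_infinite_iff_finite.2 inferInstance
    exact ⟨1, isEmptyElim, Or.inl rfl, fun a => isEmptyElim a, fun a => isEmptyElim a⟩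
  obtain ⟨hτ, hτ1⟩ := ti_isometry K hTI'
  obtain ⟨u, hu, v, hv, huv⟩ := Finset.one_lt_card.1 (show 1 < U.card by omega)
  obtain ⟨-, τ₁, hτ₁, hag⟩ := irr_uniform (fun φ => hF.irr_of_mem) hτ hτ1 U (by rw [hUT])
    ⟨u, hu, v, hv, huv⟩ (fun φ hφ ψ hψ => by
      rw [hdeg φ (hUT ▸ Finset.mem_coe.2 hφ), hdeg ψ (hUT ▸ Finset.mem_coe.2 hψ)])
  rw [hUT] at hτ₁ hag
  have huT : u ∈ T := hUT ▸ Finset.mem_coe.2 hu
  have hz : ∀ φ ∈ T, ∀ ψ ∈ T, φ - ψ ∈ zspanOn T {1}ᶜ := fun φ hφ ψ hψ => mem_zspanOn_one.2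
    ⟨zspan_sub (subset_zspan hφ) (subset_zspan hψ), by simp [hdeg φ hφ, hdeg ψ hψ]⟩
  have hlin : ∀ φ ∈ T, ∀ ψ ∈ T, indFun N (φ - ψ) = τ₁ φ - τ₁ ψ := by
    intro φ hφ ψ hψ
    refine (hag _ (hz φ hφ ψ hψ)).symm.trans ?_
    rw [sub_eq_add_neg φ, hτ₁.1 _ (subset_zspan hφ) _
      (zspan_neg (subset_zspan hψ)), lin_neg hτ₁ (subset_zspan hψ), sub_eq_add_neg]
  have hsgn : ∀ φ ∈ T, IsSignedIrr G (τ₁ φ) := fun φ hφ =>
    gc_norm_one (hτ₁.2.2.2 _ (subset_zspan hφ)) (by
      rw [hτ₁.2.2.1 _ (subset_zspan hφ) _ (subset_zspan hφ),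
        classInner_irr_self (hF.irr_of_mem hφ)])
  have hone : ∀ φ ∈ T, τ₁ φ 1 = τ₁ u 1 := by
    intro φ hφ
    have h := congrFun (hlin φ hφ u huT) 1
    rw [indFun_one_apply, Pi.sub_apply, hdeg φ hφ, hdeg u huT, sub_self, mul_zero] at h
    exact sub_eq_zero.1 h.symm
  have hinj : ∀ φ ∈ T, ∀ ψ ∈ T, τ₁ φ = τ₁ ψ → φ = ψ := by
    intro φ hφ ψ hψ e
    by_contra hne
    have h := hτ₁.2.2.1 _ (subset_zspan hφ) _ (subset_zspan hψ)
    rw [← e, hτ₁.2.2.1 _ (subset_zspan hφ) _ (subset_zspan hφ),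
      classInner_irr_self (hF.irr_of_mem hφ),
      classInner_irr_of_ne (hF.irr_of_mem hφ) (hF.irr_of_mem hψ) hne] at h
    exact one_ne_zero h
  obtain ⟨ε, hε, hεirr⟩ : ∃ ε : ℂ, (ε = 1 ∨ ε = -1) ∧ ∀ φ ∈ T, IsIrrCharacter G (ε • τ₁ φ) := by
    rcases hsgn u huT with hu' | hu'
    · refine ⟨1, Or.inl rfl, fun φ hφ => ?_⟩
      rcases signed_same_sign (hsgn φ hφ) (hsgn u huT) (hone φ hφ) with h | h
      · rw [one_smul]; exact h.1
      · have h1 := re_degree_pos hu'
        have h2 := re_degree_pos h.2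
        simp at h2
        linarith
    · refine ⟨-1, Or.inr rfl, fun φ hφ => ?_⟩
      rcases signed_same_sign (hsgn φ hφ) (hsgn u huT) (hone φ hφ) with h | h
      · have h1 := re_degree_pos hu'
        have h2 := re_degree_pos h.2
        simp at h1
        linarith
      · rw [neg_one_smul]; exact h.1
  refine ⟨ε, fun χ => ⟨ε • τ₁ (χ.1 : N → ℂ), hεirr _ ((hmem χ.1).1 χ.2)⟩, hε, ?_, ?_⟩
  · intro a b e
    have e' : ε • τ₁ (a.1 : N → ℂ) = ε • τ₁ (b.1 : N → ℂ) := congrArg Subtype.val e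
    have hεne : ε ≠ 0 := by rcases hε with e1 | e1 <;> simp [e1]
    exact Subtype.ext (Subtype.ext (hinj _ ((hmem a.1).1 a.2) _ ((hmem b.1).1 b.2)
      (smul_right_injective (G → ℂ) hεne e')))
  · intro χ ξ
    rw [hlin _ ((hmem χ.1).1 χ.2) _ ((hmem ξ.1).1 ξ.2), smul_sub, smul_smul, smul_smul,
      show ε * ε = 1 by rcases hε with e1 | e1 <;> simp [e1], one_smul, one_smul]

end Cfsg.Agent.S0851
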