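import Cfsg.Statements.S0852
import Cfsg.Agent.EqLemmas
import Cfsg.Agent.Lib.Coherence.TIFN

set_option autoImplicit false
open Cfsg

namespace Cfsg.Agent.S0852

open Cfsg.Agent.Char Cfsg.Agent.Coherence


/-- Let K be a subgroup of the finite group G that meets each conjugate by an element outside its normalizer N trivially, is properly contained in N, and contains the centralizer of each of its non-identity elements (a T.I. subgroup with Frobenius normalizer). Let S be the set of irreducible characters of N taking at some element of K a value different from their degree, suppose S has at least two members, and let star be a linear isometry on the integer span of S into the generalized characters of G that agrees with induction on the members vanishing at the identity (so S is coherent, with star as the extending isometry). Then an irreducible character ψ of G is of the form star χ or -star χ for some χ in S if and only if ψ is not constant on the non-identity elements of K. -/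
theorem result {G : Type*} [Group G] [Fintype G] (K : Subgroup G) (hTI : ∀ g : G, g ∉ Subgroup.normalizer (K : Set G) → ∀ k ∈ K, g * k * g⁻¹ ∈ K → k = 1) (hlt : K < Subgroup.normalizer (K : Set G)) (hC : ∀ k ∈ K, k ≠ 1 → Subgroup.centralizer ({k} : Set G) ≤ K) [Fintype ↥(Subgroup.normalizer (K : Set G))] (S : Set (↥(Subgroup.normalizer (K : Set G)) → ℂ)) (hS : S = {χ : ↥(Subgroup.normalizer (K : Set G)) → ℂ | Cfsg.IsIrrCharacter ↥(Subgroup.normalizer (K : Set G)) χ ∧ ∃ k : ↥(Subgroup.normalizer (K : Set G)), (k : G) ∈ K ∧ χ k ≠ χ 1}) (htwo : ∃ χ ∈ S, ∃ ξ ∈ S, χ ≠ ξ) (star : (↥(Subgroup.normalizer (K : Set G)) → ℂ) → (G → ℂ)) (hstar : Cfsg.IsLinearIsometryOn (Cfsg.zspan S) star) (hext : ∀ α ∈ Cfsg.zspanOn S ({1}ᶜ : Set ↥(Subgroup.normalizer (K : Set G))), star α = Cfsg.indFun (Subgroup.normalizer (K : Set G)) α) (ψ : G → ℂ) (hψ : Cfsg.IsIrrCharacter G ψ) : (∃ χ ∈ S, ψ = star χ ∨ ψ = -star χ) ↔ ∃ a ∈ K, ∃ b ∈ K, a ≠ 1 ∧ b ≠ 1 ∧ ψ a ≠ ψ b := by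
  classical
  have hTI' : IsTISubset (K : Set G) := hTI
  obtain ⟨ξ₀, hξ₀, ξ₁, hξ₁, hξne⟩ := htwo
  have hK1 : K ≠ ⊥ := tifn_ne_bot K (by rw [hS] at hξ₀; exact hξ₀.2)
  subst hS
  rw [tifn_set K hC] at *
  set H := K.subgroupOf (Subgroup.normalizer (K : Set G)) with hH
  set T := inducedIrrAbove H ⊥ with hT
  have hF : FrobK H := frobK_ti K hC
  have hH1 : H ≠ ⊥ := subgroupOf_ne_bot hK1
  have hH2 : H ≠ ⊤ := subgroupOf_ne_top hlt
  have hirr : ∀ φ ∈ T, IsIrrCharacter ↥(Subgroup.normalizer (K : Set G)) φ := fun φ => hF.irr_of_mem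
  have hsgn : ∀ φ ∈ T, IsSignedIrr G (star φ) := fun φ hφ =>
    gc_norm_one (hstar.2.2.2 _ (subset_zspan hφ)) (by
      rw [hstar.2.2.1 _ (subset_zspan hφ) _ (subset_zspan hφ), classInner_irr_self (hirr φ hφ)])
  constructor
  · rintro ⟨χ, hχ, hψχ⟩
    by_contra hno
    push Not at hno
    obtain ⟨ξ, hξ, hξχ⟩ : ∃ ξ ∈ T, ξ ≠ χ := by
      by_cases h : ξ₀ = χ
      · exact ⟨ξ₁, hξ₁, fun e => hξne (h.trans e.symm)⟩
      · exact ⟨ξ₀, hξ₀, h⟩
    obtain ⟨a, -, ha⟩ := irr_int_degree (hirr χ hχ)
    obtain ⟨b, hb0, hb⟩ := irr_int_degree (hirr ξ hξ)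
    have hα : b • χ - a • ξ ∈ zspanOn T {1}ᶜ := mem_zspanOn_one.2
      ⟨zspan_sub (zspan_zsmul b (subset_zspan hχ)) (zspan_zsmul a (subset_zspan hξ)), by
        simp [ha, hb, mul_comm]⟩
    obtain ⟨k₀, hk₀, hk₀1⟩ := (Subgroup.ne_bot_iff_exists_ne_one.1 hK1).elim
      fun k hk => (⟨k, k.2, fun e => hk (Subtype.ext e)⟩ : ∃ k, k ∈ K ∧ k ≠ 1)
    have hψ0 : classInner (fun x : ↥(Subgroup.normalizer (K : Set G)) => ψ x) (b • χ - a • ξ) = 0 :=
      FrobK.orth_of_const (H := H) (d := ψ k₀) (fun h hh h1 => hno _ hh _ hk₀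
        (fun e => h1 (Subtype.ext e)) hk₀1) hα
    rw [tifn_inner K (IsIrrCharacter.isClassFunction hψ), ← hext _ hα] at hψ0
    have hval : classInner (star χ) (star (b • χ - a • ξ)) = (b : ℂ) := by
      rw [hstar.2.2.1 _ (subset_zspan hχ) _ hα.1, classInner_sub_right, classInner_zsmul_right,
        classInner_zsmul_right, classInner_irr_self (hirr χ hχ),
        classInner_irr_of_ne (hirr χ hχ) (hirr ξ hξ) hξχ.symm]
      ring
    have : (b : ℂ) = 0 := by
      rcases hψχ with e | e
      · rw [← hval, ← e, hψ0]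
      · rw [← hval, show star χ = -ψ by rw [e, neg_neg], classInner_neg_left, hψ0, neg_zero]
    exact hb0.ne' (by exact_mod_cast this)
  · rintro ⟨a, ha, b, hb, ha1, hb1, hne⟩
    by_contra hno
    push Not at hno
    have hz : ∀ χ ∈ T, classInner ψ (star χ) = 0 := by
      intro χ hχ
      obtain ⟨h1, h2⟩ := hno χ hχ
      rcases hsgn χ hχ with h | h
      · exact classInner_irr_of_ne hψ h h1
      · have := classInner_irr_of_ne hψ h h2
        rwa [classInner_neg_right, neg_eq_zero] at this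
    have hzs : ∀ α ∈ zspan T, classInner ψ (star α) = 0 := fun α hα =>
      zspan_induction (P := fun β : ↥(Subgroup.normalizer (K : Set G)) → ℂ => classInner ψ (star β) = 0) hz
        (by rw [lin_zero hstar zspan_zero]; simp [Cfsg.classInner])
        (fun x hx y hy h1 h2 => by rw [hstar.1 _ hx _ hy, classInner_add_right, h1, h2, add_zero])
        (fun n x hx h1 => by rw [hstar.2.1 _ hx, classInner_zsmul_right, h1, mul_zero]) hα
    obtain ⟨d, hd, -⟩ := hF.const_of_orth hH1 hH2
      (f := fun x : ↥(Subgroup.normalizer (K : Set G)) => ψ x) (fun g x => IsIrrCharacter.isClassFunction hψ (g : G) (x : G))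
      (fun α hα => by
        rw [tifn_inner K (IsIrrCharacter.isClassFunction hψ), ← hext α hα]
        exact hzs α hα.1)
    exact hne ((hd ⟨a, Subgroup.le_normalizer ha⟩ ha fun e => ha1 (congrArg Subtype.val e)).trans
      (hd ⟨b, Subgroup.le_normalizer hb⟩ hb fun e => hb1 (congrArg Subtype.val e)).symm)

end Cfsg.Agent.S0852
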