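import Cfsg.Statements.S0853
import Cfsg.Agent.EqLemmas
import Cfsg.Agent.Lib.Coherence.TIFN

set_option autoImplicit false
open Cfsg

namespace Cfsg.Agent.S0853

open Cfsg.Agent.Char Cfsg.Agent.Coherence


/-- Let K be a subgroup of the finite group G that meets each conjugate by an element outside its normalizer N trivially, is properly contained in N, and contains the centralizer of each of its non-identity elements (a T.I. subgroup with Frobenius normalizer). Let S be the set of irreducible characters of N taking at some element of K a value different from their degree, suppose S has at least two members, and let star be a linear isometry on the integer span of S into the generalized characters of G that agrees with induction on the members vanishing at the identity (so S is coherent, with star as the extending isometry). Then there is a single integer m such that star χ k - χ k = m * χ 1 / e for every χ in S and every non-identity element k of K, where e is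 the index of K in N. -/
theorem result {G : Type*} [Group G] [Fintype G] (K : Subgroup G) (hTI : ∀ g : G, g ∉ Subgroup.normalizer (K : Set G) → ∀ k ∈ K, g * k * g⁻¹ ∈ K → k = 1) (hlt : K < Subgroup.normalizer (K : Set G)) (hC : ∀ k ∈ K, k ≠ 1 → Subgroup.centralizer ({k} : Set G) ≤ K) [Fintype ↥(Subgroup.normalizer (K : Set G))] (S : Set (↥(Subgroup.normalizer (K : Set G)) → ℂ)) (hS : S = {χ : ↥(Subgroup.normalizer (K : Set G)) → ℂ | Cfsg.IsIrrCharacter ↥(Subgroup.normalizer (K : Set G)) χ ∧ ∃ k : ↥(Subgroup.normalizer (K : Set G)), (k : G) ∈ K ∧ χ k ≠ χ 1}) (htwo : ∃ χ ∈ S, ∃ ξ ∈ S, χ ≠ ξ) (star : (↥(Subgroup.normalizer (K : Set G)) → ℂ) → (G → ℂ)) (hstar : Cfsg.IsLinearIsometryOn (Cfsg.zspan S) star) (hext : ∀ α ∈ Cfsg.zspanOn S ({1}ᶜ : Set ↥(Subgroup.normalizer (K : Set G))), star α = Cfsg.indFun (Subgroup.normalizer (K : Set G)) α) : ∃ m : ℤ, ∀ χ ∈ S, ∀ k : ↥(Subgroup.normalizer (K : Set G)), (k : G) ∈ K → k ≠ 1 → star χ k - χ k = (m : ℂ) * χ 1 / ((K.subgroupOf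 (Subgroup.normalizer (K : Set G))).index : ℂ) := by
  classical
  have hTI' : IsTISubset (K : Set G) := hTI
  obtain ⟨ξ₀, hξ₀, ξ₁, hξ₁, hξne⟩ := htwo
  have hK1 : K ≠ ⊥ := tifn_ne_bot K (by rw [hS] at hξ₀; exact hξ₀.2)
  subst hS
  rw [tifn_set K hC] at *
  set H := K.subgroupOf (Subgroup.normalizer (K : Set G)) with hH
  set T := inducedIrrAbove H ⊥ with hT
  have hF : FrobK H := frobK_ti K hC
  have hH1 : H ≠ ⊥ := subgroupOf_ne_bot hK1
  have hH2 : H ≠ ⊤ := subgroupOf_ne_top hlt
  have hirr : ∀ φ ∈ T, IsIrrCharacter ↥(Subgroup.normalizer (K : Set G)) φ := fun φ => hF.irr_of_mem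
  have hsgn : ∀ φ ∈ T, IsSignedIrr G (star φ) := fun φ hφ =>
    gc_norm_one (hstar.2.2.2 _ (subset_zspan hφ)) (by
      rw [hstar.2.2.1 _ (subset_zspan hφ) _ (subset_zspan hφ), classInner_irr_self (hirr φ hφ)])
  have hΔ : ∀ χ ∈ T, ∀ α ∈ zspanOn T {1}ᶜ,
      classInner ((fun x : ↥(Subgroup.normalizer (K : Set G)) => star χ x) - χ) α = 0 := by
    intro χ hχ α hα
    rw [classInner_sub_left, tifn_inner K (isGC_isClassFunction (isGC_signed (hsgn χ hχ))) α,
      ← hext α hα, hstar.2.2.1 _ (subset_zspan hχ) _ hα.1, sub_self]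
  haveI := hF.nilpotent hH2
  haveI : Group.IsSolvable H := inferInstance
  obtain ⟨χ₁, hχ₁, hχ₁d⟩ := exists_linear_mem (K := H) ⊥ inferInstance (bot_lt_iff_ne_bot.2 hH1)
  have hgc : IsGeneralizedCharacter ↥(Subgroup.normalizer (K : Set G)) ((fun x : ↥(Subgroup.normalizer (K : Set G)) => star χ₁ x) - χ₁) :=
    isGC_sub (Char.IsGeneralizedCharacter.restrict (hstar.2.2.2 _ (subset_zspan hχ₁)) (Subgroup.normalizer (K : Set G)))
      (isGC_of_irr (hirr χ₁ hχ₁))
  obtain ⟨d, hd, hint⟩ := hF.const_of_orth hH1 hH2 (isGC_isClassFunction hgc) (hΔ χ₁ hχ₁)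
  obtain ⟨m, hm⟩ := hint hgc
  refine ⟨m, fun χ hχ k hk hk1 => ?_⟩
  obtain ⟨x, -, hx⟩ := hF.degree hχ
  have hα : χ - x • χ₁ ∈ zspanOn T {1}ᶜ := mem_zspanOn_one.2
    ⟨zspan_sub (subset_zspan hχ) (zspan_zsmul x (subset_zspan hχ₁)), by simp [hx, hχ₁d]⟩
  have h1 := congrFun (hext _ hα) (k : G)
  rw [tifn_ind_apply K hTI' hα.1 k hk hk1, sub_eq_add_neg χ, ← neg_zsmul,
    hstar.1 _ (subset_zspan hχ) _ (zspan_zsmul (-x) (subset_zspan hχ₁)),
    hstar.2.1 _ (subset_zspan hχ₁)] at h1
  have h2 := hd k hk hk1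
  simp only [Pi.add_apply, Pi.sub_apply, Pi.smul_apply, Pi.mul_apply, Pi.intCast_apply, Pi.neg_apply, zsmul_eq_mul, Int.cast_neg] at h1 h2
  have he : (H.index : ℂ) ≠ 0 := Nat.cast_ne_zero.2 Subgroup.index_ne_zero_of_finite
  rw [hx, eq_div_iff he]
  rw [hm] at h2
  linear_combination (H.index : ℂ) * h1 + (x : ℂ) * (H.index : ℂ) * h2

end Cfsg.Agent.S0853
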