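import Cfsg.Statements.S0855
import Cfsg.Agent.EqLemmas
import Cfsg.Agent.Lib.Ito.Basic
import Cfsg.Agent.Lib.CharApp.Clifford
import Cfsg.Agent.Lib.CharExtend.DetExt
import Cfsg.Agent.Lib.PGroup.Basic
import Cfsg.Agent.S0081
import Cfsg.Agent.S0887

set_option autoImplicit false
open Cfsg

namespace Cfsg.Agent.S0855

open Cfsg.Agent Cfsg.Agent.Char Cfsg.Agent.CharExtend

/-- If `p` divides every non-linear degree, every linear character of a Sylow subgroup extends. -/
theorem linear_extends_to_top {G : Type*} [Group G] [Finite G] {p : ℕ} [Fact p.Prime] (P : Sylow p G)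
    (hdeg : ∀ χ : IrrCharacter G, (χ : G → ℂ) 1 ≠ 1 → ∃ n : ℕ, (χ : G → ℂ) 1 = n ∧ p ∣ n)
    (l : (P : Subgroup G) →* ℂˣ) : ∃ μ : G →* ℂˣ, ∀ x : (P : Subgroup G), μ x = l x := by
  classical
  haveI := Fintype.ofFinite G
  haveI := Fintype.ofFinite (P : Subgroup G)
  haveI := Fintype.ofFinite (IrrCharacter G)
  set π := indFun (P : Subgroup G) (valHom _ l) with hπ
  obtain ⟨c, hc, hin⟩ := IsCharacter.decompose
    (IsCharacter.indFun (P : Subgroup G) (isCharacter_valHom l))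
  choose d hd0 hd using fun χ : IrrCharacter G => IsIrrCharacter.exists_degree χ.2
  obtain ⟨χ, hcχ, hlin⟩ : ∃ χ : IrrCharacter G, c χ ≠ 0 ∧ (χ : G → ℂ) 1 = 1 := by
    by_contra hno
    push Not at hno
    have h1 := congrFun hc 1
    rw [indFun_one_apply, valHom_one_apply, mul_one] at h1
    simp only [Finset.sum_apply, Pi.smul_apply, smul_eq_mul, hd] at h1
    have h2 : (P : Subgroup G).index = ∑ χ, c χ * d χ := by exact_mod_cast h1
    refine P.not_dvd_index (h2 ▸ Finset.dvd_sum fun χ _ => ?_)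
    by_cases hcz : c χ = 0
    · simp [hcz]
    obtain ⟨n, hn, hpn⟩ := hdeg χ (hno χ hcz)
    rw [hd, Nat.cast_inj] at hn
    exact dvd_mul_of_dvd_right (hn ▸ hpn) _
  obtain ⟨μ, hμ⟩ := exists_valHom (IsIrrCharacter.isCharacter χ.2) hlin
  refine ⟨μ, fun x => ?_⟩
  have hres : (fun y : (P : Subgroup G) => (χ : G → ℂ) y) = valHom _ (μ.comp (P : Subgroup G).subtype) := by
    funext y
    rw [← hμ]
    rfl
  have hne : classInner (valHom _ l) (valHom _ (μ.comp (P : Subgroup G).subtype)) ≠ 0 := by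
    rw [← hres, ← frobenius_reciprocity _ _ (IsIrrCharacter.isClassFunction χ.2), hin χ, Nat.cast_ne_zero]
    exact hcχ
  by_contra hx
  refine hne (classInner_irr_of_ne (isIrrCharacter_of_hom ((Units.coeHom ℂ).comp l))
    (isIrrCharacter_of_hom ((Units.coeHom ℂ).comp (μ.comp (P : Subgroup G).subtype))) fun h => hx ?_)
  exact Units.ext (congrFun h x).symm

/-- Thompson: `p` dividing every non-linear degree gives a normal `p`-complement. -/
theorem exists_normal_complement {G : Type*} [Group G] [Finite G] {p : ℕ} [hp : Fact p.Prime]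
    (hdeg : ∀ χ : IrrCharacter G, (χ : G → ℂ) 1 ≠ 1 → ∃ n : ℕ, (χ : G → ℂ) 1 = n ∧ p ∣ n) :
    ∃ A : Subgroup G, A.Normal ∧ Nat.Coprime (Nat.card A) p ∧ ∃ k : ℕ, A.index = p ^ k := by
  classical
  obtain ⟨P⟩ : Nonempty (Sylow p G) := inferInstance
  let N : Subgroup G := ⨅ μ : {μ : G →* ℂˣ // ∀ g, ∃ k : ℕ, μ g ^ p ^ k = 1}, μ.1.ker
  have hN : N.Normal := Subgroup.normal_iInf_normal fun μ => MonoidHom.normal_ker _
  have hcopN : ∀ g : G, (orderOf g).Coprime p → g ∈ N := by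
    intro g hg
    refine Subgroup.mem_iInf.2 fun μ => ?_
    obtain ⟨k, hk⟩ := μ.2 g
    exact MonoidHom.mem_ker.2 (TwoFusion.eq_one_of_pow_eq_one_of_coprime hk
      (by rw [← map_pow, pow_orderOf_eq_one, map_one]) (hg.symm.pow_left k))
  have hNP : N ⊓ (P : Subgroup G) ≤ (frattini (P : Subgroup G)).map (P : Subgroup G).subtype := by
    rintro x ⟨hxN, hxP⟩
    refine ⟨⟨x, hxP⟩, PGroup.commutator_le_frattini P.2 ?_, rfl⟩
    by_contra hx
    have hne : Abelianization.of (⟨x, hxP⟩ : (P : Subgroup G)) ≠ 1 := fun h =>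
      hx ((QuotientGroup.eq_one_iff _).1 h)
    have : NeZero (Monoid.exponent (Abelianization (P : Subgroup G))) :=
      ⟨Monoid.exponent_ne_zero_of_finite⟩
    have : NeZero ((Monoid.exponent (Abelianization (P : Subgroup G)) : ℕ) : ℂ) :=
      ⟨Nat.cast_ne_zero.2 (NeZero.ne _)⟩
    obtain ⟨φ, hφ⟩ := CommGroup.exists_apply_ne_one_of_hasEnoughRootsOfUnity
      (G := Abelianization (P : Subgroup G)) (M := ℂ) hne
    obtain ⟨μ, hμ⟩ := linear_extends_to_top P hdeg (φ.comp Abelianization.of)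
    -- make the extension of `p`-power order
    obtain ⟨a, ha⟩ := P.2.exists_card_eq
    have hm : (P : Subgroup G).index.Coprime p :=
      ((hp.out.coprime_iff_not_dvd).2 P.not_dvd_index).symm
    obtain ⟨k, hk0, hk1⟩ := Nat.chineseRemainder (hm.pow_right a) 0 1
    have hμk : ∀ g, ∃ j : ℕ, (μ ^ k) g ^ p ^ j = 1 := by
      intro g
      obtain ⟨c, hc⟩ := Nat.modEq_zero_iff_dvd.1 hk0
      refine ⟨a, ?_⟩
      rw [MonoidHom.pow_apply, ← pow_mul, hc, mul_right_comm, ← ha, mul_comm (P : Subgroup G).index,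
        Subgroup.card_mul_index, ← map_pow, pow_mul, pow_card_eq_one', one_pow, map_one]
    have h1 := MonoidHom.mem_ker.1 (Subgroup.mem_iInf.1 hxN ⟨μ ^ k, hμk⟩)
    rw [MonoidHom.pow_apply, show μ x = _ from hμ ⟨x, hxP⟩] at h1
    refine hφ ?_
    have h2 : φ (Abelianization.of (⟨x, hxP⟩ : (P : Subgroup G))) ^ p ^ a = 1 := by
      rw [← map_pow, ← map_pow, ← ha, pow_card_eq_one', map_one, map_one]
    rw [MonoidHom.comp_apply] at h1
    rw [← h1]
    conv_lhs => rw [← pow_one (φ _)]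
    exact pow_eq_pow_iff_modEq.2 (hk1.symm.of_dvd (orderOf_dvd_of_pow_eq_one h2))
  obtain ⟨Q, A, hA, hAQ⟩ := Cfsg.Agent.S0081.result P N hNP
  have hQ : Nat.card A = (Q : Subgroup N).index := (Subgroup.IsComplement'.index_eq_card hAQ).symm
  have hAcop : Nat.Coprime (Nat.card A) p :=
    hQ ▸ ((hp.out.coprime_iff_not_dvd).2 Q.not_dvd_index).symm
  have hAiff : ∀ x : N, x ∈ A ↔ (orderOf x).Coprime p := fun x => by
    refine ⟨fun h => ?_, fun h => ?_⟩
    · exact hAcop.coprime_dvd_left (Subgroup.orderOf_dvd_natCard _ h)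
    · obtain ⟨b, hb⟩ := Q.2.exists_card_eq
      rw [← QuotientGroup.eq_one_iff, ← orderOf_eq_one_iff]
      refine Nat.eq_one_of_dvd_coprimes (Nat.Coprime.pow_right b h)
        (orderOf_map_dvd (QuotientGroup.mk' A) x) ?_
      have hidx : A.index = p ^ b := (Subgroup.IsComplement'.index_eq_card hAQ.symm).trans hb
      exact hidx ▸ Subgroup.index_eq_card A ▸ orderOf_dvd_natCard _
  refine ⟨A.map N.subtype, ⟨fun x hx g => ?_⟩, ?_, ?_⟩
  · obtain ⟨a, ha, rfl⟩ := hx
    refine ⟨⟨g * a * g⁻¹, hN.conj_mem a a.2 g⟩, (hAiff _).2 ?_, rfl⟩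
    rw [← Subgroup.orderOf_coe]
    show (orderOf (g * (a : G) * g⁻¹)).Coprime p
    rw [← MulAut.conj_apply, MulEquiv.orderOf_eq, Subgroup.orderOf_coe]
    exact (hAiff a).1 ha
  · rwa [Subgroup.card_map_of_injective N.subtype_injective]
  · obtain ⟨b, hb⟩ := Q.2.exists_card_eq
    have hNidx : ∀ q : ℕ, q.Prime → q ∣ N.index → q = p := by
      intro q hq hqd
      by_contra hne
      haveI := Fact.mk hq
      rw [Subgroup.index_eq_card] at hqd
      obtain ⟨y, hy⟩ := exists_prime_orderOf_dvd_card' q hqd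
      obtain ⟨z, rfl⟩ := QuotientGroup.mk_surjective y
      -- the `q`-part of a lift lies in `N`
      obtain ⟨u, hu⟩ : ∃ u : ℕ, orderOf (z : G ⧸ N) = u := ⟨_, rfl⟩
      obtain ⟨e, m, hmp, hem⟩ := Nat.exists_eq_pow_mul_and_not_dvd (orderOf_pos z).ne' p hp.out.ne_one
      have hz : z ^ p ^ e ∈ N := hcopN _ (by
        rw [orderOf_pow_of_dvd (pow_ne_zero _ hp.out.ne_zero) (Dvd.intro _ hem.symm), hem,
          Nat.mul_div_cancel_left _ (pow_pos hp.out.pos e)]
        exact ((hp.out.coprime_iff_not_dvd).2 hmp).symm)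
      rw [← QuotientGroup.eq_one_iff, QuotientGroup.mk_pow, ← orderOf_dvd_iff_pow_eq_one, hy] at hz
      exact hne ((Nat.prime_dvd_prime_iff_eq hq hp.out).1 (hq.dvd_of_dvd_pow hz))
    obtain ⟨c, hc⟩ : ∃ c : ℕ, N.index = p ^ c :=
      ⟨_, Nat.eq_prime_pow_of_unique_prime_dvd Subgroup.index_ne_zero_of_finite
        (fun {d} hd hdd => hNidx d hd hdd)⟩
    refine ⟨b + c, ?_⟩
    rw [Subgroup.index_map, Subgroup.ker_subtype, sup_bot_eq, Subgroup.range_subtype, hc,
      Subgroup.IsComplement'.index_eq_card hAQ.symm, hb, pow_add]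

/-- For a finite group G and a prime p: every irreducible character of G has degree a power of p if and only if G has an abelian normal subgroup whose order is prime to p and whose index is a power of p. -/
theorem result {G : Type*} [Group G] [Finite G] (p : ℕ) (hp : p.Prime) : (∀ χ : Cfsg.IrrCharacter G, ∃ k : ℕ, (χ : G → ℂ) 1 = (p : ℂ) ^ k) ↔ ∃ A : Subgroup G, A.Normal ∧ (∀ a ∈ A, ∀ b ∈ A, a * b = b * a) ∧ Nat.Coprime (Nat.card A) p ∧ ∃ k : ℕ, A.index = p ^ k := by
  classical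
  haveI := Fact.mk hp
  haveI := Fintype.ofFinite G
  constructor
  · intro h
    obtain ⟨A, hA, hcop, hidx⟩ := exists_normal_complement (G := G) (p := p) fun χ hne => by
      obtain ⟨k, hk⟩ := h χ
      refine ⟨p ^ k, by rw [hk]; push_cast; rfl, dvd_pow_self p fun h0 => hne ?_⟩
      rw [hk, h0, pow_zero]
    haveI := hA
    haveI := Fintype.ofFinite A
    have hlin : ∀ θ : IrrCharacter A, (θ : A → ℂ) 1 = 1 := by
      intro θ
      obtain ⟨χ, hχ⟩ := CharApp.exists_constituent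
        (IsCharacter.indFun A (IsIrrCharacter.isCharacter θ.2)) (by
          rw [indFun_one_apply]
          exact mul_ne_zero (Nat.cast_ne_zero.2 Subgroup.index_ne_zero_of_finite)
            (IsIrrCharacter.apply_one_ne_zero θ.2))
      rw [frobenius_reciprocity A _ (IsIrrCharacter.isClassFunction χ.2)] at hχ
      obtain ⟨k, hk⟩ := h χ
      obtain ⟨d, hd0, hd⟩ := IsIrrCharacter.exists_degree θ.2
      obtain ⟨d', hd', hdvd⟩ : ∃ d' : ℕ, (θ : A → ℂ) 1 = d' ∧ d' ∣ Nat.card A := by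
        obtain ⟨d', -, h1, h2⟩ := IsIrrCharacter.degree_dvd_card θ.2
        exact ⟨d', h1, h2⟩
      have hdd : d = d' := by exact_mod_cast hd.symm.trans hd'
      obtain ⟨hdc, -⟩ := Cfsg.Agent.S0887.result A (χ : G → ℂ) χ.2 (θ : A → ℂ) θ.2
        (fun h0 => hχ (by rw [← classInner_conj_symm, h0, map_zero])) (p ^ k) d
        (by rw [hk]; push_cast; rfl) hd
      rw [hd, Nat.eq_one_of_dvd_coprimes (hcop.pow_right k) (hdd ▸ hdvd) hdc, Nat.cast_one]
    exact ⟨A, hA, fun a ha b hb => congrArg Subtype.val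
      (comm_of_forall_degree_one hlin ⟨a, ha⟩ ⟨b, hb⟩), hcop, hidx⟩
  · rintro ⟨A, hA, hcomm, -, k, hk⟩ χ
    obtain ⟨n, -, hn, hdvd⟩ := Ito.exists_degree_dvd_index χ.2 A hcomm
    rw [hk] at hdvd
    obtain ⟨j, -, rfl⟩ := (Nat.dvd_prime_pow hp).1 hdvd
    exact ⟨j, by rw [hn]; push_cast; rfl⟩

end Cfsg.Agent.S0855
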