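import Cfsg.Statements.S0856
import Cfsg.Agent.EqLemmas
import Cfsg.Agent.Lib.CharApp.Clifford

set_option autoImplicit false
open Cfsg

namespace Cfsg.Agent.S0856

open Cfsg.Agent Cfsg.Agent.Char

/-- The norm of a function induced from an invariant irreducible character is the index. -/
theorem norm_ind {G : Type*} [Group G] [Fintype G] (N : Subgroup G) [hN : N.Normal] {θ : N → ℂ}
    (hθ : IsIrrCharacter N θ) (hinv : ∀ (g : G) (n : N), θ ⟨g * n * g⁻¹, hN.conj_mem (n : G) n.2 g⟩ = θ n) :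
    classInner (indFun N θ) (indFun N θ) = (N.index : ℂ) := by
  classical
  haveI := Fintype.ofFinite N
  have htop : CharApp.inertia N θ = ⊤ :=
    top_le_iff.mp fun g _ => (CharApp.mem_inertia_iff N).2 (hinv g)
  rw [frobenius_reciprocity' N _ (indFun_isClassFunction N _),
    show (fun n : N => indFun N θ (n : G)) = (Nat.card N : ℂ)⁻¹ • CliffordChar.orbitSum N θ from
      funext fun n => CliffordChar.indFun_coe N _ n,
    classInner_smul_left, CharApp.classInner_orbitSum_self N hθ, htop,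
    Nat.card_congr Subgroup.topEquiv.toEquiv, CharApp.card_eq_index_mul N]
  have : (Nat.card N : ℂ) ≠ 0 := Nat.cast_ne_zero.mpr Nat.card_pos.ne'
  field_simp

/-- Let N be a normal subgroup of the finite group G and φ, ϑ irreducible characters of N that are invariant under conjugation by G, such that the pointwise product φ * ϑ is irreducible and ϑ is the restriction of an irreducible character χ of G. Then multiplication by χ is a bijection from the set of irreducible characters of G having nonzero inner product with the function induced from φ onto the set of those having nonzero inner product with the function induced from φ * ϑ. -/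
theorem result {G : Type*} [Group G] [Fintype G] (N : Subgroup G) [hN : N.Normal] (φ ϑ : N → ℂ) (hφ : Cfsg.IsIrrCharacter N φ) (hϑ : Cfsg.IsIrrCharacter N ϑ) (hφinv : ∀ (g : G) (n : N), φ ⟨g * n * g⁻¹, hN.conj_mem (n : G) n.2 g⟩ = φ n) (hϑinv : ∀ (g : G) (n : N), ϑ ⟨g * n * g⁻¹, hN.conj_mem (n : G) n.2 g⟩ = ϑ n) (hprod : Cfsg.IsIrrCharacter N (φ * ϑ)) (χ : G → ℂ) (hχ : Cfsg.IsIrrCharacter G χ) (hext : ∀ n : N, χ n = ϑ n) : Set.BijOn (fun β : G → ℂ => β * χ) {β : G → ℂ | Cfsg.IsIrrCharacter G β ∧ Cfsg.classInner (Cfsg.indFun N φ) β ≠ 0} {ψ : G → ℂ | Cfsg.IsIrrCharacter G ψ ∧ Cfsg.classInner (Cfsg.indFun N (φ * ϑ)) ψ ≠ 0} := by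
  classical
  haveI := Fintype.ofFinite N
  haveI := Fintype.ofFinite (IrrCharacter G)
  have hχc := IsIrrCharacter.isCharacter hχ
  obtain ⟨c, hc, hin⟩ := IsCharacter.decompose
    (IsCharacter.indFun N (IsIrrCharacter.isCharacter hφ))
  set S := Finset.univ.filter (fun β : IrrCharacter G => c β ≠ 0) with hS
  have hSmem : ∀ β : IrrCharacter G, β ∈ S ↔ c β ≠ 0 := fun β => by simp [S]
  have hcS : indFun N φ = ∑ β ∈ S, (c β : ℂ) • (β : G → ℂ) := by
    rw [Finset.sum_filter]
    refine hc.trans (Finset.sum_congr rfl fun β _ => ?_)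
    split_ifs with h
    · rfl
    · rw [not_not] at h
      simp [h]
  have hprodinv : ∀ (g : G) (n : N), (φ * ϑ) ⟨g * n * g⁻¹, hN.conj_mem (n : G) n.2 g⟩ = (φ * ϑ) n :=
    fun g n => by rw [Pi.mul_apply, Pi.mul_apply, hφinv, hϑinv]
  have hind : indFun N (φ * ϑ) = ∑ β ∈ S, (c β : ℂ) • ((β : G → ℂ) * χ) := by
    have h := indFun_mul N φ (IsIrrCharacter.isClassFunction hχ)
    rw [show (fun n : N => χ n) = ϑ from funext hext, hcS, Finset.sum_mul] at h
    rw [← h]
    refine Finset.sum_congr rfl fun β _ => ?_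
    rw [smul_mul_assoc]
  choose a ha using fun β₁ β₂ : IrrCharacter G => IsCharacter.classInner_nat
    (IsCharacter.mul (IsIrrCharacter.isCharacter β₁.2) hχc)
    (IsCharacter.mul (IsIrrCharacter.isCharacter β₂.2) hχc)
  have hnorm1 : classInner (indFun N φ) (indFun N φ) = ((∑ β ∈ S, c β * c β : ℕ) : ℂ) := by
    rw [hcS, classInner_sum_left]
    push_cast
    refine Finset.sum_congr rfl fun β hβ => ?_
    rw [classInner_smul_left, classInner_sum_right, Finset.sum_eq_single β, classInner_smul_right,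
      classInner_irr_self β.2, Complex.conj_natCast, mul_one]
    · intro γ _ hne
      rw [classInner_smul_right, classInner_irr_of_ne β.2 γ.2 (fun h => hne (Subtype.ext h).symm),
        mul_zero]
    · intro h
      exact absurd hβ h
  have hnorm2 : classInner (indFun N (φ * ϑ)) (indFun N (φ * ϑ)) =
      ((∑ β₁ ∈ S, ∑ β₂ ∈ S, c β₁ * c β₂ * a β₁ β₂ : ℕ) : ℂ) := by
    rw [hind, classInner_sum_left]
    push_cast
    refine Finset.sum_congr rfl fun β₁ _ => ?_
    rw [classInner_smul_left, classInner_sum_right, Finset.mul_sum]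
    refine Finset.sum_congr rfl fun β₂ _ => ?_
    rw [classInner_smul_right, Complex.conj_natCast, ha]
    ring
  have htot : ∑ β₁ ∈ S, ∑ β₂ ∈ S, c β₁ * c β₂ * a β₁ β₂ = ∑ β ∈ S, c β * c β := by
    exact_mod_cast (hnorm2.symm.trans (norm_ind N hprod hprodinv)).trans
      ((norm_ind N hφ hφinv).symm.trans hnorm1)
  have hself : ∀ β, 1 ≤ a β β := by
    intro β
    by_contra h0
    have h1 : classInner ((β : G → ℂ) * χ) ((β : G → ℂ) * χ) = 0 := by
      rw [ha, show a β β = 0 by omega, Nat.cast_zero]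
    exact mul_ne_zero (IsIrrCharacter.apply_one_ne_zero β.2) (IsIrrCharacter.apply_one_ne_zero hχ)
      (congrFun (classInner_self_eq_zero.mp h1) 1)
  have hle : ∀ β₁ ∈ S, c β₁ * c β₁ ≤ ∑ β₂ ∈ S, c β₁ * c β₂ * a β₁ β₂ := fun β₁ h1 =>
    le_trans (Nat.le_mul_of_pos_right _ (hself β₁))
      (Finset.single_le_sum (f := fun β₂ => c β₁ * c β₂ * a β₁ β₂) (fun _ _ => Nat.zero_le _) h1)
  have heq := (Finset.sum_eq_sum_iff_of_le hle).mp htot.symm
  -- orthonormality of the products
  have hortho : ∀ β₁ ∈ S, ∀ β₂ ∈ S,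
      classInner ((β₁ : G → ℂ) * χ) ((β₂ : G → ℂ) * χ) = if β₁ = β₂ then 1 else 0 := by
    intro β₁ h1 β₂ h2
    have he := heq β₁ h1
    rw [← Finset.add_sum_erase _ _ h1] at he
    have hp : 0 < c β₁ * c β₁ :=
      Nat.mul_pos (Nat.pos_of_ne_zero ((hSmem _).1 h1)) (Nat.pos_of_ne_zero ((hSmem _).1 h1))
    have h3 := Nat.le_mul_of_pos_right (c β₁ * c β₁) (hself β₁)
    rw [ha]
    split_ifs with hb
    · subst hb
      have h4 : c β₁ * c β₁ * a β₁ β₁ = c β₁ * c β₁ * 1 := by omega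
      rw [Nat.eq_of_mul_eq_mul_left hp h4, Nat.cast_one]
    · have h5 : ∑ β ∈ S.erase β₁, c β₁ * c β * a β₁ β = 0 := by omega
      have h6 := Finset.sum_eq_zero_iff.mp h5 β₂ (Finset.mem_erase.mpr ⟨Ne.symm hb, h2⟩)
      rw [(mul_eq_zero.mp h6).resolve_left (Nat.mul_pos (Nat.pos_of_ne_zero ((hSmem _).1 h1))
        (Nat.pos_of_ne_zero ((hSmem _).1 h2))).ne', Nat.cast_zero]
  have hirr : ∀ β ∈ S, IsIrrCharacter G ((β : G → ℂ) * χ) := fun β hβ => by
    rw [isIrrCharacter_iff_norm_one (IsCharacter.mul (IsIrrCharacter.isCharacter β.2) hχc),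
      hortho β hβ β hβ, if_pos rfl]
  have hmemA : ∀ (β : G → ℂ) (hβ : IsIrrCharacter G β),
      classInner (indFun N φ) β ≠ 0 → (⟨β, hβ⟩ : IrrCharacter G) ∈ S := fun β hβ h =>
    (hSmem _).2 fun h0 => h (by
      have := hin ⟨β, hβ⟩
      rw [h0, Nat.cast_zero] at this
      exact this)
  refine ⟨?_, ?_, ?_⟩
  · rintro β ⟨hβ, hne⟩
    have hm := hmemA β hβ hne
    refine ⟨hirr _ hm, ?_⟩
    rw [hind, classInner_sum_left, Finset.sum_eq_single_of_mem _ hm fun γ hγ hne' => by
      rw [classInner_smul_left, hortho γ hγ _ hm, if_neg hne', mul_zero]]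
    rw [classInner_smul_left, hortho _ hm _ hm, if_pos rfl, mul_one, Nat.cast_ne_zero]
    exact (hSmem _).1 hm
  · rintro β₁ ⟨h1, n1⟩ β₂ ⟨h2, n2⟩ he
    change β₁ * χ = β₂ * χ at he
    by_contra hne
    have h := hortho _ (hmemA β₁ h1 n1) _ (hmemA β₂ h2 n2)
    rw [if_neg (fun e => hne (congrArg Subtype.val e))] at h
    change classInner (β₁ * χ) (β₂ * χ) = 0 at h
    rw [← he, classInner_irr_self (hirr _ (hmemA β₁ h1 n1))] at h
    exact one_ne_zero h
  · rintro ψ ⟨hψ, hne⟩
    by_contra hno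
    refine hne ?_
    rw [hind, classInner_sum_left]
    refine Finset.sum_eq_zero fun β hβ => ?_
    rw [classInner_smul_left, classInner_irr_of_ne (hirr β hβ) hψ (fun h => hno
      ⟨(β : G → ℂ), ⟨β.2, by rw [hin β, Nat.cast_ne_zero]; exact (hSmem _).1 hβ⟩, h⟩), mul_zero]

end Cfsg.Agent.S0856
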