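import Cfsg.Statements.S0857
import Cfsg.Agent.EqLemmas
import Cfsg.Agent.Lib.CharApp.Clifford
import Cfsg.Agent.Lib.Char.Linear

set_option autoImplicit false
open Cfsg

namespace Cfsg.Agent.S0857

open Cfsg.Agent Cfsg.Agent.Char
open scoped ComplexConjugate commutatorElement

variable {G : Type*} [Group G] {K L : Subgroup G} [hK : K.Normal] [hL : L.Normal]

/-- Conjugation of functions on `L` inside `K` by elements of `G`. -/
def cG (g : G) (f : L.subgroupOf K → ℂ) : L.subgroupOf K → ℂ := fun x =>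
  f ⟨⟨g⁻¹ * ((x : K) : G) * g, by simpa using hK.conj_mem _ (x : K).2 g⁻¹⟩,
    Subgroup.mem_subgroupOf.2 (by simpa using hL.conj_mem _ (Subgroup.mem_subgroupOf.1 x.2) g⁻¹)⟩

theorem cG_mul (g h : G) (f : L.subgroupOf K → ℂ) : cG (g * h) f = cG g (cG h f) := by
  funext x
  simp only [cG, mul_inv_rev, mul_assoc]

theorem cG_one (f : L.subgroupOf K → ℂ) : cG 1 f = f := by
  funext x
  simp only [cG, inv_one, one_mul, mul_one]

theorem cG_coe (k : K) (f : L.subgroupOf K → ℂ) :
    cG (k : G) f = CliffordChar.conjFun (L.subgroupOf K) k f := by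
  funext x
  rw [CliffordChar.conjFun_apply]
  rfl

/-- Conjugation of `K` by `g`. -/
def conjK (g : G) : K →* K where
  toFun x := ⟨g * x * g⁻¹, hK.conj_mem _ x.2 g⟩
  map_one' := by ext; simp
  map_mul' x y := by ext; simp

/-- Conjugation by `g` as an automorphism of `L` inside `K`. -/
def cGEquiv (g : G) : L.subgroupOf K ≃* L.subgroupOf K where
  toFun x := ⟨⟨g⁻¹ * ((x : K) : G) * g, by simpa using hK.conj_mem _ (x : K).2 g⁻¹⟩,
    Subgroup.mem_subgroupOf.2 (by simpa using hL.conj_mem _ (Subgroup.mem_subgroupOf.1 x.2) g⁻¹)⟩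
  invFun x := ⟨⟨g * ((x : K) : G) * g⁻¹, hK.conj_mem _ (x : K).2 g⟩,
    Subgroup.mem_subgroupOf.2 (hL.conj_mem _ (Subgroup.mem_subgroupOf.1 x.2) g)⟩
  left_inv x := by
    apply Subtype.ext; apply Subtype.ext
    show g * (g⁻¹ * ((x : K) : G) * g) * g⁻¹ = _
    group
  right_inv x := by
    apply Subtype.ext; apply Subtype.ext
    show g⁻¹ * (g * ((x : K) : G) * g⁻¹) * g = _
    group
  map_mul' x y := by
    apply Subtype.ext; apply Subtype.ext
    show g⁻¹ * (((x : K) : G) * ((y : K) : G)) * g = g⁻¹ * ((x : K) : G) * g * (g⁻¹ * ((y : K) : G) * g)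
    group

theorem isIrr_cG (g : G) {f : L.subgroupOf K → ℂ} (hf : IsIrrCharacter (L.subgroupOf K) f) :
    IsIrrCharacter (L.subgroupOf K) (cG g f) :=
  IsIrrCharacter.comp_equiv hf (cGEquiv g)

/-- Going down, inside `K`. -/
theorem trichotomy [Fintype G] [Fintype K] [Fintype (L.subgroupOf K)] (hLK : L ≤ K)
    (hchief : ∀ M : Subgroup G, M.Normal → L ≤ M → M ≤ K → M = L ∨ M = K) (hab : ⁅K, K⁆ ≤ L)
    {ϑ : K → ℂ} (hϑ : IsIrrCharacter K ϑ)
    (hinv : ∀ (g : G) (n : K), ϑ ⟨g * n * g⁻¹, hK.conj_mem (n : G) n.2 g⟩ = ϑ n) :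
    IsIrrCharacter (L.subgroupOf K) (fun x => ϑ x) ∨
    (∃ (φ : L.subgroupOf K → ℂ) (e : ℕ), IsIrrCharacter (L.subgroupOf K) φ ∧
      (fun x : L.subgroupOf K => ϑ x) = (e : ℂ) • φ ∧ e ^ 2 = (L.subgroupOf K).index) ∨
    (∃ F : Finset (L.subgroupOf K → ℂ), (∀ φ ∈ F, IsIrrCharacter (L.subgroupOf K) φ) ∧
      F.card = (L.subgroupOf K).index ∧ (fun x : L.subgroupOf K => ϑ x) = ∑ φ ∈ F, φ) := by
  classical
  set L' := L.subgroupOf K with hL'
  haveI := Fintype.ofFinite (IrrCharacter K)
  have hϑc := IsIrrCharacter.isCharacter hϑ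
  have hcomm : ∀ a b : K, a * b * a⁻¹ * b⁻¹ ∈ L' := fun a b =>
    Subgroup.mem_subgroupOf.2 (hab (Subgroup.commutator_mem_commutator a.2 b.2))
  obtain ⟨φi, hφne⟩ := CharApp.exists_constituent (IsCharacter.restrict hϑc L')
    (IsIrrCharacter.apply_one_ne_zero hϑ)
  obtain ⟨φ, hφ⟩ : ∃ φ : L' → ℂ, φ = (φi : L' → ℂ) := ⟨_, rfl⟩
  have hφi : IsIrrCharacter L' φ := hφ ▸ φi.2
  rw [← hφ] at hφne
  set T := CharApp.inertia L' φ with hT
  have hLT : L' ≤ T := CharApp.le_inertia L' (IsIrrCharacter.isClassFunction hφi)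
  -- the stabiliser of a constituent is normal in `G`
  have hTG : (T.map K.subtype).Normal := by
    refine ⟨fun x hx g => ?_⟩
    obtain ⟨k, hk, rfl⟩ := hx
    have hgφ : classInner (fun x : L' => ϑ x) (cG g φ) ≠ 0 := by
      rw [show (fun x : L' => ϑ x) = cG g (fun x : L' => ϑ x) from funext fun x => by
        refine Eq.trans ?_ (congrArg ϑ (Subtype.ext rfl))
        exact (hinv g⁻¹ (x : K)).symm.trans (congrArg ϑ (Subtype.ext (by simp)))]
      show classInner (fun x : L' => ϑ (cGEquiv g x : K)) (fun x => φ (cGEquiv g x)) ≠ 0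
      rw [classInner_comp_equiv (cGEquiv g) (fun x : L' => ϑ x) φ]
      exact hφne
    obtain ⟨y, hy⟩ := CliffordChar.constituents_conjugate L' hϑ hφi (isIrr_cG g hφi) hφne hgφ
    -- `y⁻¹ g` fixes `φ`
    set t : G := (y : G)⁻¹ * g with ht
    have htφ : cG t φ = φ := by
      rw [ht, cG_mul, ← hy, ← cG_coe, ← cG_mul, inv_mul_cancel, cG_one]
    have htinv : cG t⁻¹ φ = φ := by
      conv_lhs => rw [← htφ, ← cG_mul, inv_mul_cancel, cG_one]
    let k' : K := ⟨t * k * t⁻¹, hK.conj_mem _ k.2 t⟩
    have hk' : k' ∈ T := by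
      rw [hT, CharApp.mem_inertia, ← cG_coe]
      show cG (t * (k : G) * t⁻¹) φ = φ
      rw [cG_mul, htinv, cG_mul, cG_coe, (CharApp.mem_inertia L').1 hk, htφ]
    refine ⟨y * k' * y⁻¹, ?_, ?_⟩
    · have h1 : y * k' * y⁻¹ = (y * k' * y⁻¹ * k'⁻¹) * k' := by group
      rw [h1]
      exact T.mul_mem (hLT (hcomm y k')) hk'
    · show (y : G) * (t * (k : G) * t⁻¹) * (y : G)⁻¹ = g * (k : G) * g⁻¹
      rw [ht]; group
  have hmapT : L ≤ T.map K.subtype := fun x hx =>
    ⟨⟨x, hLK hx⟩, hLT (Subgroup.mem_subgroupOf.2 hx), rfl⟩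
  obtain ⟨e, he⟩ := IsCharacter.classInner_nat (IsCharacter.restrict hϑc L')
    (IsIrrCharacter.isCharacter hφi)
  have he0 : e ≠ 0 := fun h => hφne (by rw [he, h, Nat.cast_zero])
  obtain ⟨d, hd0, hd⟩ := IsIrrCharacter.exists_degree hφi
  rcases hchief _ hTG hmapT (Subgroup.map_subtype_le _) with hcase | hcase
  · -- the stabiliser is `L`
    have hTL : T = L' := le_antisymm (fun x hx => Subgroup.mem_subgroupOf.2 (by
      rw [← hcase]; exact ⟨x, hx, rfl⟩)) hLT
    obtain ⟨ψ, hψ, -, hmult, -⟩ := CharApp.exists_correspondent L' hϑ (θ := φ) (hθ := hφi) (h := hφne)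
    have hψres : IsIrrCharacter L' (fun x : L' => ψ ⟨(x : K), hLT x.2⟩) := by
      refine IsIrrCharacter.comp_surjective hψ (Subgroup.inclusion hLT) fun z => ?_
      exact ⟨⟨(z : K), hTL.le z.2⟩, rfl⟩
    have he1 : classInner (fun x : L' => ϑ x) φ = 1 := by
      rw [← hmult]
      rw [← hmult] at hφne
      rw [classInner_irr hψres hφi] at hφne ⊢
      split_ifs at hφne ⊢ with h
      · rfl
      · exact absurd rfl hφne
    refine Or.inr (Or.inr ⟨Finset.univ.image fun x : K => CliffordChar.conjFun L' x φ, ?_, ?_⟩)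
    · intro ψ' hψ'
      obtain ⟨x, -, rfl⟩ := Finset.mem_image.1 hψ'
      exact CliffordChar.isIrr_conjFun L' x hφi
    have hfib : ∀ ψ' ∈ Finset.univ.image (fun x : K => CliffordChar.conjFun L' x φ),
        (Finset.univ.filter fun x : K => CliffordChar.conjFun L' x φ = ψ').card = Nat.card T := by
      intro ψ' hψ'
      obtain ⟨x₀, -, rfl⟩ := Finset.mem_image.1 hψ'
      rw [← Fintype.card_subtype, ← Nat.card_eq_fintype_card]
      refine Nat.card_congr ((Equiv.mulLeft x₀⁻¹).subtypeEquiv fun x => ?_)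
      show _ ↔ x₀⁻¹ * x ∈ T
      rw [hT, CharApp.mem_inertia, CliffordChar.conjFun_mul]
      constructor
      · intro h; rw [h, ← CliffordChar.conjFun_mul, inv_mul_cancel, CliffordChar.conjFun_one]
      · intro h
        conv_rhs => rw [← h, ← CliffordChar.conjFun_mul, mul_inv_cancel, CliffordChar.conjFun_one]
    constructor
    · have h1 := Finset.card_eq_sum_card_image (fun x : K => CliffordChar.conjFun L' x φ) Finset.univ
      rw [Finset.sum_congr rfl hfib, Finset.sum_const, smul_eq_mul, Finset.card_univ,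
        ← Nat.card_eq_fintype_card, ← T.index_mul_card] at h1
      exact (Nat.eq_of_mul_eq_mul_right Nat.card_pos h1).symm.trans (congrArg Subgroup.index hTL)
    · rw [CliffordChar.restrict_eq L' hϑ hφi hφne, he1, CharApp.classInner_orbitSum_self L' hφi, ← hT,
        CliffordChar.orbitSum]
      rw [Finset.sum_comp (fun ψ' : L' → ℂ => ψ') (fun x : K => CliffordChar.conjFun L' x φ),
        Finset.sum_congr rfl fun ψ' hψ' => by rw [hfib ψ' hψ', ← Nat.cast_smul_eq_nsmul ℂ],
        ← Finset.smul_sum, smul_smul, one_div, inv_mul_cancel₀ (Nat.cast_ne_zero.2 Nat.card_pos.ne'),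
        one_smul]
  · -- `φ` is invariant
    have hTtop : ∀ x : K, x ∈ T := fun x => by
      obtain ⟨z, hz, hzx⟩ : (x : G) ∈ T.map K.subtype := by rw [hcase]; exact x.2
      rwa [← Subtype.ext (a1 := z) (a2 := x) hzx]
    have hrestr : (fun x : L' => ϑ x) = (e : ℂ) • φ := by
      rw [← he]
      exact CharApp.restrict_invariant L' hϑ hφi hφne fun x => (CharApp.mem_inertia L').1 (hTtop x)
    let S : Set (K →* ℂˣ) := {l | (∀ x ∈ L', l x = 1) ∧ ∀ x, (l x : ℂ) * ϑ x = ϑ x}
    let U : Subgroup G := (⨅ l : S, (l : K →* ℂˣ).ker).map K.subtype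
    have hU : U.Normal := by
      refine ⟨fun x hx g => ?_⟩
      obtain ⟨k, hk, rfl⟩ := hx
      refine ⟨conjK g k, Subgroup.mem_iInf.2 fun l => ?_, rfl⟩
      have hl : (l : K →* ℂˣ).comp (conjK g) ∈ S := by
        refine ⟨fun z hz => l.2.1 _ (Subgroup.mem_subgroupOf.2 ?_), fun z => ?_⟩
        · exact hL.conj_mem _ (Subgroup.mem_subgroupOf.1 hz) g
        · show ((l : K →* ℂˣ) (conjK g z) : ℂ) * ϑ z = ϑ z
          rw [← hinv g z]
          exact l.2.2 _
      exact MonoidHom.mem_ker.1 (Subgroup.mem_iInf.1 hk ⟨_, hl⟩)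
    have hLU : L ≤ U := fun x hx => ⟨⟨x, hLK hx⟩, Subgroup.mem_iInf.2 fun l =>
      MonoidHom.mem_ker.2 (l.2.1 _ (Subgroup.mem_subgroupOf.2 hx)), rfl⟩
    rcases hchief U hU hLU (Subgroup.map_subtype_le _) with hcU | hcU
    · -- fully ramified
      refine Or.inr (Or.inl ⟨φ, e, hφi, hrestr, ?_⟩)
      have hvan : ∀ x : K, x ∉ L' → ϑ x = 0 := by
        intro x hx
        by_contra h0
        refine hx (Subgroup.mem_subgroupOf.2 ?_)
        rw [← hcU]
        refine ⟨x, Subgroup.mem_iInf.2 fun l => MonoidHom.mem_ker.2 (Units.ext ?_), rfl⟩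
        have h1 := l.2.2 x
        rw [Units.val_one]
        exact (mul_eq_right₀ h0).1 h1
      have h1 := classInner_irr_self hϑ
      have h2 : classInner ((e : ℂ) • φ) ((e : ℂ) • φ) = (e : ℂ) ^ 2 := by
        rw [classInner_smul_left, classInner_smul_right, classInner_irr_self hφi, Complex.conj_natCast]
        ring
      rw [← hrestr] at h2
      simp only [classInner] at h1 h2
      have hsum : ∑ x : K, ϑ x * conj (ϑ x) = ∑ x : L', ϑ x * conj (ϑ x) := by
        rw [← Finset.sum_subset (Finset.subset_univ (Finset.univ.filter (· ∈ L')))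
          (fun x _ hx => by rw [hvan x (by simpa using hx), zero_mul])]
        exact (Finset.sum_subtype (Finset.univ.filter (· ∈ L')) (fun x => by simp) _)
      rw [hsum, inv_mul_eq_iff_eq_mul₀ (Nat.cast_ne_zero.2 Nat.card_pos.ne'), mul_one] at h1
      rw [h1, inv_mul_eq_iff_eq_mul₀ (Nat.cast_ne_zero.2 Nat.card_pos.ne'), ← L'.index_mul_card,
        Nat.cast_mul, mul_comm] at h2
      have h3 := mul_left_cancel₀ (Nat.cast_ne_zero.2 (Nat.card_pos (α := L')).ne') h2
      exact_mod_cast h3.symm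
    · -- all twists are distinct
      refine Or.inl ?_
      have hS1 : ∀ l ∈ S, l = 1 := by
        intro l hl
        refine MonoidHom.ext fun x => ?_
        obtain ⟨z, hz, hzx⟩ : (x : G) ∈ U := by rw [hcU]; exact x.2
        rw [← Subtype.ext (a1 := z) (a2 := x) hzx]
        exact MonoidHom.mem_ker.1 (Subgroup.mem_iInf.1 hz ⟨l, hl⟩)
      let Λ := {l : K →* ℂˣ // ∀ x ∈ L', l x = 1}
      have hΛ : Nat.card Λ = L'.index := by
        have hq : ∀ a b : K ⧸ L', a * b = b * a := by
          intro a b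
          obtain ⟨a, rfl⟩ := QuotientGroup.mk_surjective a
          obtain ⟨b, rfl⟩ := QuotientGroup.mk_surjective b
          rw [← QuotientGroup.mk_mul, ← QuotientGroup.mk_mul, QuotientGroup.eq]
          have := hcomm b⁻¹ a⁻¹
          simpa [mul_assoc] using this
        have e1 : Λ ≃ ((K ⧸ L') →* ℂˣ) :=
          { toFun := fun l => QuotientGroup.lift L' l.1 fun x hx => l.2 x hx
            invFun := fun m => ⟨m.comp (QuotientGroup.mk' L'), fun x hx => by
              rw [MonoidHom.comp_apply, QuotientGroup.mk'_apply, (QuotientGroup.eq_one_iff x).2 hx,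
                map_one]⟩
            left_inv := fun l => Subtype.ext (MonoidHom.ext fun x => rfl)
            right_inv := fun m => MonoidHom.ext fun x => by
              obtain ⟨x, rfl⟩ := QuotientGroup.mk_surjective x
              rfl }
        have hb : commutator (K ⧸ L') = ⊥ := by
          rw [commutator_def, Subgroup.commutator_eq_bot_iff_le_centralizer]
          exact fun x _ => Subgroup.mem_centralizer_iff.2 fun y _ => hq y x
        rw [Nat.card_congr e1, Nat.card_congr (linearCharEquiv (K ⧸ L')), card_linear_irr, hb,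
          Subgroup.index_bot, Subgroup.index_eq_card]
      let ι : Λ → IrrCharacter K := fun l =>
        ⟨ϑ * fun x => ((l.1 x : ℂˣ) : ℂ), IsIrrCharacter.mul_linear hϑ ((Units.coeHom ℂ).comp l.1)⟩
      have hι : Function.Injective ι := by
        intro l l' h
        refine Subtype.ext ?_
        have h' := hS1 (l.1 / l'.1) ⟨fun x hx => by simp [l.2 x hx, l'.2 x hx], fun x => by
          have hx : ϑ x * (l.1 x : ℂ) = ϑ x * (l'.1 x : ℂ) := congrFun (congrArg Subtype.val h) x
          simp only [MonoidHom.div_apply, Units.val_div_eq_div_val]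
          field_simp
          linear_combination hx⟩
        exact div_eq_one.1 h'
      obtain ⟨c, hc, hin⟩ := IsCharacter.decompose
        (IsCharacter.indFun L' (IsIrrCharacter.isCharacter hφi))
      choose D hD0 hD using fun χ : IrrCharacter K => IsIrrCharacter.exists_degree χ.2
      have hcι : ∀ l : Λ, c (ι l) = e ∧ D (ι l) = e * d := by
        intro l
        constructor
        · have hι0 := hin (ι l)
          rw [frobenius_reciprocity L' _ (IsIrrCharacter.isClassFunction (ι l).2),
            show (fun x : L' => ((ι l : K → ℂ)) x) = (e : ℂ) • φ from by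
              rw [← hrestr]
              funext x
              show ϑ x * ((l.1 x : ℂˣ) : ℂ) = ϑ x
              rw [l.2 x x.2, Units.val_one, mul_one],
            classInner_smul_right, classInner_irr_self hφi, mul_one, Complex.conj_natCast] at hι0
          exact_mod_cast hι0.symm
        · have h := hD (ι l)
          have h' : ϑ 1 = (e : ℂ) * (d : ℂ) := by
            have h0 := congrFun hrestr 1
            rw [Pi.smul_apply, smul_eq_mul, hd] at h0
            exact h0
          rw [show (ι l : K → ℂ) 1 = ϑ 1 * ((l.1 1 : ℂˣ) : ℂ) from rfl, map_one, Units.val_one, mul_one,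
            h'] at h
          exact_mod_cast h.symm
      have h1 := congrFun hc 1
      rw [indFun_one_apply, hd] at h1
      simp only [Finset.sum_apply, Pi.smul_apply, smul_eq_mul, hD] at h1
      have h2 : L'.index * d = ∑ χ, c χ * D χ := by exact_mod_cast h1
      haveI : Finite Λ := Finite.of_injective ι hι
      haveI := Fintype.ofFinite Λ
      have h3 : L'.index * (e * (e * d)) ≤ L'.index * d := by
        rw [h2, ← hΛ, Nat.card_eq_fintype_card]
        calc Fintype.card Λ * (e * (e * d)) = ∑ l : Λ, c (ι l) * D (ι l) := by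
              rw [Finset.sum_congr rfl fun l _ => by rw [(hcι l).1, (hcι l).2], Finset.sum_const,
                Finset.card_univ, smul_eq_mul]
          _ = ∑ χ ∈ Finset.univ.image ι, c χ * D χ :=
              (Finset.sum_image (f := fun χ => c χ * D χ) fun a _ b _ h => hι h).symm
          _ ≤ _ := Finset.sum_le_sum_of_subset (Finset.subset_univ _)
      have h4 : e * (e * d) ≤ d :=
        Nat.le_of_mul_le_mul_left h3 (Nat.pos_of_ne_zero Subgroup.index_ne_zero_of_finite)
      have he1 : e = 1 := by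
        by_contra hne
        have h5 : 2 * (1 * d) ≤ e * (e * d) :=
          Nat.mul_le_mul (by omega) (Nat.mul_le_mul_right d (by omega))
        omega
      rw [hrestr, he1, Nat.cast_one, one_smul]
      exact hφi

/-- Let L < K be normal subgroups of the finite group G with no normal subgroup of G strictly between them and with K / L abelian (the commutator subgroup of K lies in L). Let ϑ be an irreducible character of K invariant under conjugation by G. Then the restriction of ϑ to L is irreducible; or it equals e times an irreducible character of L with e ^ 2 equal to the index of L in K; or it is the sum of a family of pairwise distinct irreducible characters of L indexed by a set whose size is the index of L in K. -/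
theorem result {G : Type*} [Group G] [Fintype G] (K L : Subgroup G) [hK : K.Normal] [L.Normal] (hLK : L < K) (hchief : ∀ M : Subgroup G, M.Normal → L ≤ M → M ≤ K → M = L ∨ M = K) (hab : ⁅K, K⁆ ≤ L) (ϑ : K → ℂ) (hϑ : Cfsg.IsIrrCharacter K ϑ) (hinv : ∀ (g : G) (n : K), ϑ ⟨g * n * g⁻¹, hK.conj_mem (n : G) n.2 g⟩ = ϑ n) : Cfsg.IsIrrCharacter L (fun x : L => ϑ ⟨(x : G), hLK.le x.2⟩) ∨ (∃ (φ : L → ℂ) (e : ℕ), Cfsg.IsIrrCharacter L φ ∧ (fun x : L => ϑ ⟨(x : G), hLK.le x.2⟩) = (e : ℂ) • φ ∧ e ^ 2 = L.relIndex K) ∨ (∃ F : Finset (L → ℂ), (∀ φ ∈ F, Cfsg.IsIrrCharacter L φ) ∧ F.card = L.relIndex K ∧ (fun x : L => ϑ ⟨(x : G), hLK.le x.2⟩) = ∑ φ ∈ F, φ) := by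
  classical
  haveI := Fintype.ofFinite K
  haveI := Fintype.ofFinite (L.subgroupOf K)
  let E := (Subgroup.subgroupOfEquivOfLe hLK.le).symm
  rcases trichotomy hLK.le hchief hab hϑ hinv with h | ⟨φ, e, hφ, hres, he⟩ | ⟨F, hF, hcard, hsum⟩
  · exact Or.inl (Cfsg.Agent.Char.IsIrrCharacter.comp_equiv h E)
  · refine Or.inr (Or.inl ⟨fun x => φ (E x), e, Cfsg.Agent.Char.IsIrrCharacter.comp_equiv hφ E, ?_, he⟩)
    funext x
    exact congrFun hres (E x)
  · refine Or.inr (Or.inr ⟨F.image fun φ x => φ (E x), ?_, ?_, ?_⟩)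
    · intro ψ hψ
      obtain ⟨φ, hφ, rfl⟩ := Finset.mem_image.1 hψ
      exact Cfsg.Agent.Char.IsIrrCharacter.comp_equiv (hF φ hφ) E
    · rw [Finset.card_image_of_injective _ fun a b hab' => funext fun y => by
        simpa using congrFun hab' (E.symm y), hcard]
      rfl
    · rw [Finset.sum_image fun a _ b _ hab' => funext fun y => by simpa using congrFun hab' (E.symm y)]
      funext x
      have := congrFun hsum (E x)
      simp only [Finset.sum_apply] at this ⊢
      exact this

end Cfsg.Agent.S0857
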