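import Cfsg.Statements.S0858
import Cfsg.Agent.EqLemmas
import Cfsg.Agent.Lib.RelMonomial.Basic
import Cfsg.Agent.S0857

set_option autoImplicit false
open Cfsg

namespace Cfsg.Agent.S0858

open Cfsg.Agent Cfsg.Agent.Char

/-- The step: `χ` is irreducible on `N` or induced from a proper subgroup containing `N`. -/
theorem step {G : Type*} [Group G] [Fintype G] (N : Subgroup G) [hN : N.Normal]
    (hsolv : Group.IsSolvable (G ⧸ N))
    (hsq : ∀ K L : Subgroup G, N ≤ L → L < K → K.Normal → L.Normal →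
      (∀ M : Subgroup G, M.Normal → L ≤ M → M ≤ K → M = L ∨ M = K) → ¬ IsSquare (L.relIndex K))
    {χ : G → ℂ} (hχ : IsIrrCharacter G χ) :
    IsIrrCharacter N (fun n : N => χ n) ∨ ∃ S : Subgroup G, S ≠ ⊤ ∧ N ≤ S ∧
      ∃ ψ : S → ℂ, IsIrrCharacter S ψ ∧ indFun S ψ = χ := by
  classical
  by_cases hNi : IsIrrCharacter N (fun n : N => χ n)
  · exact Or.inl hNi
  refine Or.inr ?_
  have hχc := IsIrrCharacter.isCharacter hχ
  have htop : IsIrrCharacter (⊤ : Subgroup G) (fun x : (⊤ : Subgroup G) => χ x) :=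
    IsIrrCharacter.comp_surjective hχ (⊤ : Subgroup G).subtype fun g => ⟨⟨g, trivial⟩, rfl⟩
  obtain ⟨K, ⟨hK, hNK, hKi⟩, hKmin⟩ := (wellFounded_lt (α := Subgroup G)).has_min
    {M : Subgroup G | M.Normal ∧ N ≤ M ∧ IsIrrCharacter M (fun x : M => χ x)}
    ⟨⊤, inferInstance, le_top, htop⟩
  have hNK' : N < K := lt_of_le_of_ne hNK fun h => hNi (by
    have := IsIrrCharacter.comp_equiv hKi (MulEquiv.subgroupCongr h)
    exact this)
  obtain ⟨L, ⟨hL, hNL, hLK⟩, hLmax⟩ := (wellFounded_gt (α := Subgroup G)).has_min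
    {M : Subgroup G | M.Normal ∧ N ≤ M ∧ M < K} ⟨N, hN, le_rfl, hNK'⟩
  have hchief : ∀ M : Subgroup G, M.Normal → L ≤ M → M ≤ K → M = L ∨ M = K := by
    intro M hM hLM hMK
    rcases eq_or_lt_of_le hMK with h | h
    · exact Or.inr h
    rcases eq_or_lt_of_le hLM with h' | h'
    · exact Or.inl h'.symm
    exact absurd h' (hLmax M ⟨hM, hNL.trans hLM, h⟩)
  have hab : ⁅K, K⁆ ≤ L := by
    rcases hchief (L ⊔ ⁅K, K⁆) inferInstance le_sup_left
      (sup_le hLK.le (Subgroup.commutator_le_self K)) with h | h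
    · exact le_sup_right.trans h.le
    exfalso
    haveI : Group.IsSolvable (G ⧸ L) := Group.isSolvable_of_surjective
      (f := QuotientGroup.map N L (MonoidHom.id G) hNL) (by
        intro y
        obtain ⟨x, rfl⟩ := QuotientGroup.mk_surjective y
        exact ⟨(x : G ⧸ N), rfl⟩)
    have hne : K.map (QuotientGroup.mk' L) ≠ ⊥ := by
      rw [Ne, Subgroup.map_eq_bot_iff, QuotientGroup.ker_mk']
      exact not_le_of_gt hLK
    refine (Group.IsSolvable.commutator_lt_of_ne_bot hne).ne ?_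
    conv_rhs => rw [← h]
    rw [Subgroup.map_sup, Subgroup.map_commutator, QuotientGroup.map_mk'_self, bot_sup_eq]
  haveI := Fintype.ofFinite K
  haveI := Fintype.ofFinite L
  have hinv : ∀ (g : G) (x : K),
      (fun y : K => χ y) ⟨g * x * g⁻¹, hK.conj_mem (x : G) x.2 g⟩ = (fun y : K => χ y) x :=
    fun g x => IsIrrCharacter.isClassFunction hχ (x : G) g
  rcases Cfsg.Agent.S0857.result K L hLK hchief hab (fun y : K => χ y) hKi hinv with
    h | ⟨φ, e, -, -, he⟩ | ⟨Fs, hFs, hcard, hsum⟩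
  · exact absurd hLK (hKmin L ⟨hL, hNL, h⟩)
  · exact absurd ⟨e, by rw [← he]; ring⟩ (hsq K L hNL hLK hK hL hchief)
  · have h2 : 2 ≤ Fs.card := by
      rw [hcard]
      have h0 : L.relIndex K ≠ 0 := Subgroup.index_ne_zero_of_finite (H := L.subgroupOf K)
      have h1 : L.relIndex K ≠ 1 := fun h => not_le_of_gt hLK (Subgroup.relIndex_eq_one.1 h)
      omega
    obtain ⟨φ, hφ, φ', hφ', hne⟩ := Finset.one_lt_card.1 h2
    change (fun x : L => χ x) = ∑ ψ ∈ Fs, ψ at hsum
    have hval : ∀ ψ ∈ Fs, classInner (fun x : L => χ x) ψ = 1 := by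
      intro ψ hψ
      rw [hsum, classInner_sum_left, Finset.sum_eq_single ψ]
      · exact classInner_irr_self (hFs ψ hψ)
      · exact fun b hb hbne => classInner_irr_of_ne (hFs b hb) (hFs ψ hψ) hbne
      · exact fun h => absurd hψ h
    have hφne : classInner (fun x : L => χ x) φ ≠ 0 := by rw [hval φ hφ]; exact one_ne_zero
    obtain ⟨ψ, hψ, hind, -, -⟩ := CharApp.exists_correspondent L (hFs φ hφ) hχ hφne
    refine ⟨CharApp.inertia L φ, fun htopT => ?_,
      hNL.trans (CharApp.le_inertia L (IsIrrCharacter.isClassFunction (hFs φ hφ))), ψ, hψ, hind⟩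
    have h := CharApp.restrict_invariant L hχ (hFs φ hφ) hφne fun x =>
      (CharApp.mem_inertia L).1 (htopT ▸ Subgroup.mem_top x)
    have h3 := hval φ' hφ'
    rw [h, classInner_smul_left, classInner_irr_of_ne (hFs φ hφ) (hFs φ' hφ') hne, mul_zero] at h3
    exact zero_ne_one h3

/-- Let N be a normal subgroup of the finite group G with G / N solvable, and suppose that for every subgroup H containing N and all subgroups L < K between N and H that are normal in H with no subgroup normal in H strictly between them, the index of L in K is not a perfect square. Then every irreducible character χ of G is induced from an irreducible character ψ of some subgroup H containing N such that the restriction of ψ to N is irreducible. -/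
theorem result {G : Type*} [Group G] [Fintype G] (N : Subgroup G) [N.Normal] (hsolv : Group.IsSolvable (G ⧸ N)) (hchief : ∀ (H K L : Subgroup G), N ≤ L → L < K → K ≤ H → (∀ h ∈ H, ∀ k ∈ K, h * k * h⁻¹ ∈ K) → (∀ h ∈ H, ∀ l ∈ L, h * l * h⁻¹ ∈ L) → (∀ M : Subgroup G, L ≤ M → M ≤ K → (∀ h ∈ H, ∀ m ∈ M, h * m * h⁻¹ ∈ M) → M = L ∨ M = K) → ¬ IsSquare (L.relIndex K)) (χ : G → ℂ) (hχ : Cfsg.IsIrrCharacter G χ) : ∃ (H : Subgroup G) (hNH : N ≤ H) (ψ : H → ℂ), Cfsg.IsIrrCharacter H ψ ∧ Cfsg.indFun H ψ = χ ∧ Cfsg.IsIrrCharacter N (fun n : N => ψ ⟨(n : G), hNH n.2⟩) := by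
  classical
  have key : ∀ (n : ℕ) (T : Subgroup G), Nat.card T = n → N ≤ T → ∀ [Fintype T], ∀ ψ : T → ℂ,
      IsIrrCharacter T ψ → ∃ (H : Subgroup G) (hNH : N ≤ H) (ξ : H → ℂ), IsIrrCharacter H ξ ∧
        indFun H ξ = indFun T ψ ∧ IsIrrCharacter N (fun n : N => ξ ⟨(n : G), hNH n.2⟩) := by
    intro n
    induction n using Nat.strong_induction_on with
    | _ n ih =>
      intro T hT hNT _ ψ hψ
      have hsolvT : Group.IsSolvable (T ⧸ N.subgroupOf T) := Group.isSolvable_of_isSolvable_injective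
        (f := QuotientGroup.map (N.subgroupOf T) N T.subtype le_rfl) (by
          rw [injective_iff_map_eq_one]
          intro y hy
          obtain ⟨x, rfl⟩ := QuotientGroup.mk_surjective y
          replace hy : ((x : G) : G ⧸ N) = 1 := hy
          exact (QuotientGroup.eq_one_iff x).2 (Subgroup.mem_subgroupOf.2 ((QuotientGroup.eq_one_iff _).1 hy)))
      have hsqT : ∀ K L : Subgroup T, N.subgroupOf T ≤ L → L < K → K.Normal → L.Normal →
          (∀ M : Subgroup T, M.Normal → L ≤ M → M ≤ K → M = L ∨ M = K) →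
          ¬ IsSquare (L.relIndex K) := by
        intro K L hNL hLK hK hL hc
        rw [← Subgroup.relIndex_map_map_of_injective L K T.subtype_injective]
        refine hchief T _ _ ?_ ?_ (Subgroup.map_subtype_le K) ?_ ?_ ?_
        · intro x hx
          exact ⟨⟨x, hNT hx⟩, hNL (Subgroup.mem_subgroupOf.2 hx), rfl⟩
        · exact lt_of_le_of_ne (Subgroup.map_mono hLK.le) fun h =>
            hLK.ne (Subgroup.map_injective T.subtype_injective h)
        · rintro h hh _ ⟨k, hk, rfl⟩
          exact ⟨⟨h, hh⟩ * k * ⟨h, hh⟩⁻¹, hK.conj_mem k hk _, rfl⟩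
        · rintro h hh _ ⟨k, hk, rfl⟩
          exact ⟨⟨h, hh⟩ * k * ⟨h, hh⟩⁻¹, hL.conj_mem k hk _, rfl⟩
        · intro M hLM hMK hMn
          have hMT : M ≤ T := hMK.trans (Subgroup.map_subtype_le K)
          have hM' : (M.subgroupOf T).map T.subtype = M := Subgroup.map_subgroupOf_eq_of_le hMT
          rcases hc (M.subgroupOf T) ⟨fun x hx y => Subgroup.mem_subgroupOf.2
              (hMn y y.2 x (Subgroup.mem_subgroupOf.1 hx))⟩
            (fun x hx => Subgroup.mem_subgroupOf.2 (hLM ⟨x, hx, rfl⟩))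
            (fun x hx => by
              obtain ⟨k, hk, hkx⟩ := hMK (Subgroup.mem_subgroupOf.1 hx)
              rwa [← T.subtype_injective hkx]) with h | h
          · exact Or.inl (by rw [← hM', h])
          · exact Or.inr (by rw [← hM', h])
      rcases step (N.subgroupOf T) hsolvT hsqT hψ with h | ⟨S, hS, hNS, ξ, hξ, hind⟩
      · exact ⟨T, hNT, ψ, hψ, rfl, IsIrrCharacter.comp_equiv h (Subgroup.subgroupOfEquivOfLe hNT).symm⟩
      · haveI := Fintype.ofFinite (S.map T.subtype)
        let E := S.equivMapOfInjective T.subtype T.subtype_injective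
        have hlt : Nat.card (S.map T.subtype) < n := by
          rw [← hT, Subgroup.card_map_of_injective T.subtype_injective]
          refine lt_of_le_of_ne (Subgroup.card_le_card_group S) fun h => hS ?_
          exact Subgroup.eq_top_of_card_eq S h
        obtain ⟨H, hNH, ζ, hζ, hH, hres⟩ := ih _ hlt (S.map T.subtype) rfl
          (fun x hx => ⟨⟨x, hNT hx⟩, hNS (Subgroup.mem_subgroupOf.2 hx), rfl⟩)
          (fun x => ξ (E.symm x)) (IsIrrCharacter.comp_equiv hξ E.symm)
        exact ⟨H, hNH, ζ, hζ, by rw [hH, ← hind, RelMonomial.indFun_through], hres⟩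
  haveI := Fintype.ofFinite (⊤ : Subgroup G)
  obtain ⟨H, hNH, ξ, hξ, hind, hres⟩ := key _ ⊤ rfl le_top (fun x => χ x)
    (IsIrrCharacter.comp_surjective hχ (⊤ : Subgroup G).subtype fun g => ⟨⟨g, trivial⟩, rfl⟩)
  refine ⟨H, hNH, ξ, hξ, hind.trans ?_, hres⟩
  funext g
  have hs : ∀ x : G, extendByZero (⊤ : Subgroup G) (fun y => χ y) (x⁻¹ * g * x) = χ g := fun x => by
    rw [extendByZero_mem _ _ (Subgroup.mem_top _)]
    simpa using IsIrrCharacter.isClassFunction hχ g x⁻¹
  rw [indFun, Finset.sum_congr rfl fun x _ => hs x, Finset.sum_const, Finset.card_univ, nsmul_eq_mul,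
    ← Nat.card_eq_fintype_card, Subgroup.card_top, ← mul_assoc,
    inv_mul_cancel₀ (Nat.cast_ne_zero.2 Nat.card_pos.ne'), one_mul]

end Cfsg.Agent.S0858
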