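import Cfsg.Statements.S0859
import Cfsg.Agent.EqLemmas
import Cfsg.Agent.Lib.RelMonomial.Basic
import Cfsg.Agent.Lib.TwoFusion.Transfer
import Cfsg.Agent.Lib.CharApp.Schur

set_option autoImplicit false
open Cfsg

namespace Cfsg.Agent.S0859

open Cfsg.Agent Cfsg.Agent.Char
open scoped commutatorElement IsMulCommutative

/-- A central element of the image lying in the image of the commutator subgroup is trivial,
when the `p`-subgroups are abelian. -/
theorem hom_eq_one {M A : Type*} [Group M] [Finite M] [Group A] (f : M →* A)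
    (hab : ∀ (p : ℕ) [Fact p.Prime] (Q : Subgroup M), IsPGroup p Q → ∀ a ∈ Q, ∀ b ∈ Q, a * b = b * a)
    {a : M} (ha : a ∈ commutator M) (hc : ∀ x : M, f a * f x = f x * f a) : f a = 1 := by
  classical
  by_contra hne
  have h1 : orderOf (f a) ≠ 1 := fun h => hne (orderOf_eq_one_iff.1 h)
  obtain ⟨p, hp, hpd⟩ := Nat.exists_prime_and_dvd h1
  haveI := Fact.mk hp
  obtain ⟨e, m, hmp, hem⟩ := Nat.exists_eq_pow_mul_and_not_dvd (orderOf_pos a).ne' p hp.ne_one
  suffices hm : f (a ^ m) = 1 by
    refine hmp (hpd.trans ?_)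
    rw [orderOf_dvd_iff_pow_eq_one, ← map_pow, hm]
  set b := a ^ m with hb
  have hbp : b ^ p ^ e = 1 := by rw [hb, ← pow_mul, mul_comm, ← hem, pow_orderOf_eq_one]
  obtain ⟨k, -, hk⟩ := (Nat.dvd_prime_pow hp).1 (orderOf_dvd_of_pow_eq_one hbp)
  have hQ : IsPGroup p (Subgroup.zpowers b) := IsPGroup.of_card (by rw [Nat.card_zpowers, hk])
  obtain ⟨P, hP⟩ := hQ.exists_le_sylow
  have hbP : b ∈ (P : Subgroup M) := hP (Subgroup.mem_zpowers b)
  haveI : IsMulCommutative ((P : Subgroup M).map f) := by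
    refine ⟨⟨?_⟩⟩
    rintro ⟨x, x', hx, rfl⟩ ⟨y, y', hy, rfl⟩
    refine Subtype.ext ?_
    show f x' * f y' = f y' * f x'
    rw [← map_mul, ← map_mul, hab p P P.2 x' hx y' hy]
  have hbc : ∀ x : M, f b * f x = f x * f b := fun x => by
    rw [hb, map_pow]
    exact Commute.pow_left (hc x) m
  have hφ := TwoFusion.transfer_eq_pow_of_controlled
    (f.subgroupMap (P : Subgroup M)) ⟨b, hbP⟩ fun k' x hmem => by
      rw [← map_pow]
      apply Subtype.ext
      show f (x * b ^ k' * x⁻¹) = f (b ^ k')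
      rw [map_mul, map_mul, map_pow, map_inv, (show Commute (f x) (f b ^ k') from
        Commute.pow_right (hbc x).symm k').eq, mul_inv_cancel_right]
  have hcomm1 : MonoidHom.transfer (f.subgroupMap (P : Subgroup M)) b = 1 :=
    MonoidHom.mem_ker.1 (Abelianization.commutator_subset_ker _ ((commutator M).pow_mem ha m))
  rw [hcomm1] at hφ
  have h2 : f b ^ (P : Subgroup M).index = 1 := (congrArg Subtype.val hφ).symm
  exact TwoFusion.eq_one_of_pow_eq_one_of_coprime h2 (by rw [← map_pow, hbp, map_one])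
    ((hp.coprime_iff_not_dvd.2 P.not_dvd_index).symm.pow_right e)

/-- The step: an irreducible character with irreducible restriction to `N` is linear or induced. -/
theorem step {G : Type*} [Group G] [Fintype G] [Group.IsSolvable G] (N : Subgroup G) [hN : N.Normal]
    (hab : ∀ (p : ℕ) [Fact p.Prime] (Q : Subgroup N), IsPGroup p Q → ∀ a ∈ Q, ∀ b ∈ Q, a * b = b * a)
    {χ : G → ℂ} (hχ : IsIrrCharacter G χ) (hres : IsIrrCharacter N (fun n : N => χ n)) :
    χ 1 = 1 ∨ ∃ S : Subgroup G, S ≠ ⊤ ∧ ∃ ψ : S → ℂ, IsIrrCharacter S ψ ∧ indFun S ψ = χ ∧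
      IsIrrCharacter (N.subgroupOf S) (fun x : N.subgroupOf S => ψ x) := by
  classical
  haveI := Fintype.ofFinite N
  by_cases hlin : χ 1 = 1
  · exact Or.inl hlin
  refine Or.inr ?_
  obtain ⟨n, ρ, hirr, hρ⟩ := hχ
  haveI := hirr
  haveI : Group.IsSolvable N := inferInstance
  let f : N →* (Module.End ℂ (Fin n → ℂ))ˣ := ρ.toHomUnits.comp N.subtype
  have hex : ∃ m, ∀ x ∈ derivedSeries N m, f x = 1 := by
    obtain ⟨m, hm⟩ := (Group.isSolvable_def N).1 inferInstance
    exact ⟨m, fun x hx => by rw [hm, Subgroup.mem_bot] at hx; rw [hx, map_one]⟩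
  have hm0 : Nat.find hex ≠ 0 := by
    intro h0
    -- `ρ` is trivial on `N`
    have h := Nat.find_spec hex
    rw [h0, derivedSeries_zero] at h
    have hχN : ∀ x : N, χ x = χ 1 := fun x => by
      have h1 : ρ (x : G) = 1 := congrArg Units.val (h x (Subgroup.mem_top x))
      rw [← hρ, Representation.character, Representation.character, h1, map_one ρ]
    have h2 := classInner_irr_self hres
    obtain ⟨k, hk0, hk⟩ := IsIrrCharacter.exists_degree (⟨n, ρ, hirr, hρ⟩ : IsIrrCharacter G χ)
    simp only [classInner, hχN, hk, Complex.conj_natCast, Finset.sum_const, Finset.card_univ,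
      nsmul_eq_mul, ← Nat.card_eq_fintype_card] at h2
    rw [← mul_assoc, inv_mul_cancel₀ (Nat.cast_ne_zero.2 Nat.card_pos.ne'), one_mul] at h2
    have h3 : k * k = 1 := by exact_mod_cast h2
    exact hlin (by rw [hk, Nat.eq_one_of_mul_eq_one_right h3, Nat.cast_one])
  obtain ⟨j, hj⟩ := Nat.exists_eq_succ_of_ne_zero hm0
  have htriv : ∀ x ∈ derivedSeries N (j + 1), f x = 1 := by
    have h := Nat.find_spec hex
    rwa [hj] at h
  obtain ⟨a₀, ha₀, hne⟩ : ∃ a ∈ derivedSeries N j, f a ≠ 1 := by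
    by_contra h
    push Not at h
    exact absurd (Nat.find_min' hex h) (by omega)
  set A := (derivedSeries N j).map N.subtype with hA
  haveI : A.Normal := by rw [hA]; infer_instance
  haveI := Fintype.ofFinite A
  have hχi : IsIrrCharacter G χ := ⟨n, ρ, hirr, hρ⟩
  rcases RelMonomial.inertia_top_or_induced (A := A) hχi hres with h | ⟨lam, hlam, e, he0, hlam'⟩
  · exact h
  exfalso
  -- `lam` is linear
  have hρA : ∀ a b : A, ρ ((a * b * a⁻¹ * b⁻¹ : A) : G) = 1 := by
    intro a b
    obtain ⟨⟨a, ha'⟩, ha, rfl⟩ : ∃ a' : A, (a' : G) ∈ A ∧ a' = a := ⟨a, a.2, rfl⟩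
    obtain ⟨⟨b, hb'⟩, hb, rfl⟩ : ∃ b' : A, (b' : G) ∈ A ∧ b' = b := ⟨b, b.2, rfl⟩
    obtain ⟨x, hx, hxa⟩ := ha'
    obtain ⟨y, hy, hyb⟩ := hb'
    have h := congrArg Units.val (htriv (x * y * x⁻¹ * y⁻¹) (by
      rw [derivedSeries_succ, ← commutatorElement_def]
      exact Subgroup.commutator_mem_commutator hx hy))
    show ρ (a * b * a⁻¹ * b⁻¹) = 1
    rw [← hxa, ← hyb]
    exact h
  obtain ⟨dl, σ, hσi, hσ⟩ := hlam
  haveI := hσi
  have hlam1 : lam 1 = (dl : ℂ) := by rw [← hσ, Representation.char_one, Module.finrank_fin_fun]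
  have hρ1 : χ 1 = (n : ℂ) := by rw [← hρ, Representation.char_one, Module.finrank_fin_fun]
  have hn1 : (n : ℂ) = (e : ℂ) * (dl : ℂ) := by
    have := congrFun hlam' 1
    rw [Pi.smul_apply, smul_eq_mul, OneMemClass.coe_one, hρ1, hlam1] at this
    exact this
  have hσ1 : ∀ a b : A, σ (a * b * a⁻¹ * b⁻¹) = 1 := by
    intro a b
    have h := congrFun hlam' (a * b * a⁻¹ * b⁻¹)
    rw [Pi.smul_apply, smul_eq_mul, ← hρ, Representation.character, hρA, LinearMap.trace_one,
      Module.finrank_fin_fun, hn1] at h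
    refine (character_eq_finrank_iff σ _).1 ?_
    rw [hσ, Module.finrank_fin_fun]
    exact (mul_left_cancel₀ (Nat.cast_ne_zero.2 he0) h).symm
  have hσc : ∀ a b : A, σ a * σ b = σ b * σ a := by
    intro a b
    rw [← map_mul, ← map_mul, show a * b = (a * b * a⁻¹ * b⁻¹) * (b * a) by group, map_mul, hσ1, one_mul]
  have hscal : ∀ a : A, ∃ c : ℂ, σ a = c • 1 := fun a =>
    CharApp.exists_scalar_of_commute σ _ (hσc a)
  have hdl : dl = 1 := by
    haveI := CharApp.nontrivial_of_irr σ
    obtain ⟨v, hv⟩ := exists_ne (0 : Fin dl → ℂ)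
    rcases CharApp.eq_bot_or_top_of_invariant σ (Submodule.span ℂ {v}) (fun a w hw => by
      obtain ⟨c, hc⟩ := hscal a
      rw [hc, LinearMap.smul_apply, Module.End.one_apply]
      exact Submodule.smul_mem _ c hw) with h | h
    · exact absurd (Submodule.span_singleton_eq_bot.1 h) hv
    · have h1 := finrank_span_singleton (K := ℂ) hv
      rw [h, finrank_top, Module.finrank_fin_fun] at h1
      exact h1
  subst hdl
  -- hence `ρ` is scalar on `A`
  have hscalar : ∀ a : A, ∃ c : ℂ, ρ (a : G) = c • LinearMap.id := by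
    intro a
    refine (norm_character_eq_iff ρ (a : G)).1 ?_
    have h1 : ‖σ.character a‖ = 1 := by
      rw [(norm_character_eq_iff σ a).2 (hscal a), Module.finrank_fin_fun, Nat.cast_one]
    have h2 := congrFun hlam' a
    rw [Pi.smul_apply, smul_eq_mul, ← hσ, ← hρ] at h2
    rw [h2, norm_mul, h1, mul_one, Complex.norm_natCast, Module.finrank_fin_fun]
    have h3 : (n : ℂ) = ((e : ℕ) : ℂ) := by rw [hn1, Nat.cast_one, mul_one]
    exact_mod_cast h3.symm
  rcases j with _ | j
  · -- `A = N` acts by scalars, so `χ` is linear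
    refine hlin ?_
    have hall : ∀ x : N, ‖χ x‖ = (n : ℝ) := by
      intro x
      obtain ⟨c, hc⟩ := hscalar ⟨x, ⟨x, by rw [derivedSeries_zero]; exact Subgroup.mem_top x, rfl⟩⟩
      rw [← hρ, (norm_character_eq_iff ρ (x : G)).2 ⟨c, hc⟩, Module.finrank_fin_fun]
    have h2 := classInner_irr_self hres
    rw [classInner_self_eq, Complex.ofReal_eq_one, Finset.sum_congr rfl fun x _ => by rw [hall x],
      Finset.sum_const, Finset.card_univ, nsmul_eq_mul, ← Nat.card_eq_fintype_card, ← mul_assoc,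
      inv_mul_cancel₀ (Nat.cast_ne_zero.2 Nat.card_pos.ne'), one_mul] at h2
    have h3 : n ^ 2 = 1 := by exact_mod_cast h2
    rw [hρ1, (pow_eq_one_iff.1 h3).resolve_right two_ne_zero, Nat.cast_one]
  · refine hne (hom_eq_one f hab ?_ fun x => ?_)
    · rw [← derivedSeries_one N]
      exact derivedSeries_antitone N (by omega) ha₀
    · obtain ⟨c, hc⟩ := hscalar ⟨a₀, ⟨a₀, ha₀, rfl⟩⟩
      refine Units.ext ?_
      show ρ (a₀ : G) * ρ (x : G) = ρ (x : G) * ρ (a₀ : G)
      rw [show ρ (a₀ : G) = c • LinearMap.id from hc, ← Module.End.one_eq_id, smul_mul_assoc, one_mul,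
        mul_smul_comm, mul_one]

/-- Let G be a finite solvable group and N a normal subgroup such that for every prime p every Sylow p-subgroup of N is abelian. Suppose every irreducible character of G is induced from an irreducible character of some subgroup containing N whose restriction to N is irreducible. Then every irreducible character of G is induced from a character of degree 1 of some subgroup. -/
theorem result {G : Type*} [Group G] [Fintype G] [Group.IsSolvable G] (N : Subgroup G) [N.Normal] (hab : ∀ (p : ℕ) [Fact p.Prime] (P : Sylow p N), ∀ a ∈ P, ∀ b ∈ P, a * b = b * a) (hrel : ∀ χ : G → ℂ, Cfsg.IsIrrCharacter G χ → ∃ (H : Subgroup G) (hNH : N ≤ H) (ψ : H → ℂ), Cfsg.IsIrrCharacter H ψ ∧ Cfsg.indFun H ψ = χ ∧ Cfsg.IsIrrCharacter N (fun n : N => ψ ⟨(n : G), hNH n.2⟩)) (χ : G → ℂ) (hχ : Cfsg.IsIrrCharacter G χ) : ∃ (U : Subgroup G) (lam : U → ℂ), Cfsg.IsCharacter U lam ∧ lam 1 = 1 ∧ Cfsg.indFun U lam = χ := by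
  classical
  have habG : ∀ (p : ℕ) [Fact p.Prime] (Q : Subgroup G), IsPGroup p Q → Q ≤ N →
      ∀ a ∈ Q, ∀ b ∈ Q, a * b = b * a := by
    intro p _ Q hQ hQN a ha b hb
    have hQ' : IsPGroup p (Q.subgroupOf N) := hQ.comap_of_injective N.subtype N.subtype_injective
    obtain ⟨P, hP⟩ := hQ'.exists_le_sylow
    exact congrArg Subtype.val (hab p P ⟨a, hQN ha⟩ (hP ha) ⟨b, hQN hb⟩ (hP hb))
  have key : ∀ (n : ℕ) (T : Subgroup G), Nat.card T = n → ∀ [Fintype T], ∀ ψ : T → ℂ,
      IsIrrCharacter T ψ → IsIrrCharacter (N.subgroupOf T) (fun x : N.subgroupOf T => ψ x) →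
      ∃ (U : Subgroup G) (lam : U → ℂ), IsCharacter U lam ∧ lam 1 = 1 ∧ indFun U lam = indFun T ψ := by
    intro n
    induction n using Nat.strong_induction_on with
    | _ n ih =>
      intro T hT _ ψ hψ hres
      have habT : ∀ (p : ℕ) [Fact p.Prime] (Q : Subgroup (N.subgroupOf T)), IsPGroup p Q →
          ∀ a ∈ Q, ∀ b ∈ Q, a * b = b * a := by
        intro p _ Q hQ a ha b hb
        let ι : N.subgroupOf T →* G := T.subtype.comp (N.subgroupOf T).subtype
        have hι : Function.Injective ι := fun x y h => Subtype.ext (Subtype.ext h)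
        refine hι ?_
        rw [map_mul, map_mul]
        exact habG p (Q.map ι) (hQ.map ι) (by
          rintro _ ⟨x, -, rfl⟩
          exact Subgroup.mem_subgroupOf.1 x.2) (ι a) ⟨a, ha, rfl⟩ (ι b) ⟨b, hb, rfl⟩
      rcases step (N.subgroupOf T) habT hψ hres with h1 | ⟨S, hS, ξ, hξ, hind, hξres⟩
      · exact ⟨T, ψ, Cfsg.Agent.Char.IsIrrCharacter.isCharacter hψ, h1, rfl⟩
      · haveI := Fintype.ofFinite (S.map T.subtype)
        let E := S.equivMapOfInjective T.subtype T.subtype_injective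
        have hlt : Nat.card (S.map T.subtype) < n := by
          rw [← hT, Subgroup.card_map_of_injective T.subtype_injective]
          refine lt_of_le_of_ne (Subgroup.card_le_card_group S) fun h => hS ?_
          exact Subgroup.eq_top_of_card_eq S h
        let E' : N.subgroupOf (S.map T.subtype) ≃* (N.subgroupOf T).subgroupOf S :=
          { toFun := fun x => ⟨E.symm x, by
              have e := congrArg Subtype.val (E.apply_symm_apply (x : S.map T.subtype))
              show (((E.symm (x : S.map T.subtype) : S) : T) : G) ∈ N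
              exact (show (((E.symm (x : S.map T.subtype) : S) : T) : G) = ((x : S.map T.subtype) : G)
                from e) ▸ Subgroup.mem_subgroupOf.1 x.2⟩
            invFun := fun y => ⟨E (y : S), Subgroup.mem_subgroupOf.1 y.2⟩
            left_inv := fun x => Subtype.ext (E.apply_symm_apply _)
            right_inv := fun y => Subtype.ext (E.symm_apply_apply _)
            map_mul' := fun x y => Subtype.ext (map_mul E.symm _ _) }
        obtain ⟨U, lam, hlam, hlam1, hU⟩ := ih _ hlt (S.map T.subtype) rfl (fun x => ξ (E.symm x))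
          (IsIrrCharacter.comp_equiv hξ E.symm) (IsIrrCharacter.comp_equiv hξres E')
        exact ⟨U, lam, hlam, hlam1, by rw [hU, ← hind, RelMonomial.indFun_through]⟩
  obtain ⟨H, hNH, ψ, hψ, hind, hres⟩ := hrel χ hχ
  haveI := Fintype.ofFinite H
  obtain ⟨U, lam, h1, h2, h3⟩ := key _ H rfl ψ hψ
    (IsIrrCharacter.comp_equiv hres (Subgroup.subgroupOfEquivOfLe hNH))
  exact ⟨U, lam, h1, h2, h3.trans hind⟩

end Cfsg.Agent.S0859
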