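import Cfsg.Statements.S0860
import Cfsg.Agent.Lib.CharApp.PermLemma

set_option autoImplicit false
open Cfsg

namespace Cfsg.Agent.S0860

/-- Let a group A act on the set of irreducible characters and on the set of conjugacy classes of a finite group G in such a way that (a • χ) evaluated on the class a • C equals χ evaluated on C, for all a, χ and C. Then every element of A fixes exactly as many irreducible characters as it fixes conjugacy classes. -/
theorem result {G : Type*} [Group G] [Finite G] {A : Type*} [Group A] [MulAction A (Cfsg.IrrCharacter G)] [MulAction A (ConjClasses G)] (hcompat : ∀ (a : A) (χ : Cfsg.IrrCharacter G) (g g' : G), ConjClasses.mk g' = a • ConjClasses.mk g → ((a • χ : Cfsg.IrrCharacter G) : G → ℂ) g' = (χ : G → ℂ) g) (a : A) : Nat.card {χ : Cfsg.IrrCharacter G // a • χ = χ} = Nat.card {C : ConjClasses G // a • C = C} := by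
  let f : G → G := fun g => (Quotient.out (a • ConjClasses.mk g) : G)
  have hf : ∀ g, ConjClasses.mk (f g) = a • ConjClasses.mk g := fun g => Quotient.out_eq _
  have happ : ∀ χ : Cfsg.IrrCharacter G,
      (χ : G → ℂ) ∘ f = ((a⁻¹ • χ : Cfsg.IrrCharacter G) : G → ℂ) := by
    intro χ
    funext g
    have h := hcompat a (a⁻¹ • χ) g (f g) (hf g)
    rw [smul_inv_smul] at h
    exact h
  have hcount := CharApp.fixed_count f (fun χ => (happ χ) ▸ (a⁻¹ • χ : Cfsg.IrrCharacter G).2)
    (fun g h hgh => by
      rw [← ConjClasses.mk_eq_mk_iff_isConj] at hgh ⊢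
      rw [hf, hf, hgh])
  calc _ = Nat.card {χ : Cfsg.IrrCharacter G // (χ : G → ℂ) ∘ f = (χ : G → ℂ)} :=
        Nat.card_congr (Equiv.subtypeEquivRight fun χ => by
          rw [happ, ← Subtype.ext_iff, inv_smul_eq_iff, eq_comm])
    _ = _ := hcount
    _ = _ := Nat.card_congr (Equiv.subtypeEquivRight fun C => by
      constructor
      · intro h
        induction C using Quotient.inductionOn with
        | h g =>
          have := ConjClasses.mk_eq_mk_iff_isConj.2 (h g rfl)
          rw [hf] at this
          exact this
      · intro h g hg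
        rw [← ConjClasses.mk_eq_mk_iff_isConj, hf, hg, h])

end Cfsg.Agent.S0860
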