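import Cfsg.Statements.S0861
import Cfsg.Agent.EqLemmas
import Cfsg.Agent.Lib.GaloisAvg.Basic
import Cfsg.Agent.Lib.GaloisAvg.PElement
import Cfsg.Agent.Lib.Ito.Basic
import Cfsg.Agent.Lib.Char.Linear

set_option autoImplicit false
open Cfsg

namespace Cfsg.Agent.S0861

open Cfsg.Agent

/-- Let P be a normal abelian Sylow p-subgroup of the finite group G and suppose some element g of P has centralizer exactly P. Then the number of irreducible characters of G is at most the order of P, and if equality holds then G / P is abelian (the commutator subgroup lies in P). -/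
theorem result {G : Type*} [Group G] [Finite G] (p : ℕ) [Fact p.Prime] (P : Sylow p G) [(P : Subgroup G).Normal] (hab : ∀ a ∈ P, ∀ b ∈ P, a * b = b * a) (g : G) (hg : g ∈ P) (hC : Subgroup.centralizer ({g} : Set G) = P) : Nat.card (Cfsg.IrrCharacter G) ≤ Nat.card P ∧ (Nat.card (Cfsg.IrrCharacter G) = Nat.card P → commutator G ≤ P) := by
  classical
  haveI := Fintype.ofFinite G
  haveI := Fintype.ofFinite (IrrCharacter G)
  let S : Finset G := Finset.univ.filter fun x => Subgroup.centralizer ({x} : Set G) = (P : Subgroup G)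
  have hSmem : ∀ x, x ∈ S ↔ Subgroup.centralizer ({x} : Set G) = (P : Subgroup G) := fun x => by simp [S]
  have hSP : ∀ x ∈ S, x ∈ (P : Subgroup G) := fun x hx => by
    rw [← (hSmem x).1 hx]
    exact Subgroup.mem_centralizer_singleton_iff.2 rfl
  have hpow : ∀ x ∈ S, ∀ k : ℕ, k.Coprime (Nat.card G) → x ^ k ∈ S := by
    intro x hx k hk
    rw [hSmem] at hx ⊢
    rw [← hx]
    obtain ⟨l, hl⟩ := exists_pow_eq_self_of_coprime
      (hk.coprime_dvd_right (orderOf_dvd_natCard x))
    ext y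
    simp only [Subgroup.mem_centralizer_singleton_iff]
    refine ⟨fun h => ?_, fun h => (Commute.pow_right h k)⟩
    have h' : Commute y ((x ^ k) ^ l) := Commute.pow_right h l
    rwa [hl] at h'
  have hne : ∀ χ : IrrCharacter G, ∀ x ∈ S, (χ : G → ℂ) x ≠ 0 := by
    intro χ x hx h0
    obtain ⟨n, -, hn1, hn⟩ := Ito.exists_degree_dvd_index χ.2 (P : Subgroup G) hab
    obtain ⟨k, hk⟩ := P.2 ⟨x, hSP x hx⟩
    exact P.not_dvd_index ((GaloisAvg.dvd_degree_of_apply_eq_zero
      (Char.IsIrrCharacter.isCharacter χ.2) (congrArg Subtype.val hk) hn1 h0).trans hn)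
  have hcol : ∀ x ∈ S, ∑ χ : IrrCharacter G, ‖(χ : G → ℂ) x‖ ^ 2 = (Nat.card P : ℝ) := by
    intro x hx
    have h := Char.column_orth x x
    rw [if_pos (IsConj.refl x), (hSmem x).1 hx] at h
    simp only [Complex.mul_conj'] at h
    exact_mod_cast h
  have hrow : ∀ χ : IrrCharacter G, (S.card : ℝ) ≤ ∑ x ∈ S, ‖(χ : G → ℂ) x‖ ^ 2 := fun χ =>
    GaloisAvg.card_le_sum_norm_pow (GaloisAvg.cycloValued_irr χ) S hpow (hne χ) 2
  have htot : ∑ χ : IrrCharacter G, ∑ x ∈ S, ‖(χ : G → ℂ) x‖ ^ 2 = (S.card : ℝ) * (Nat.card P : ℝ) := by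
    rw [Finset.sum_comm, Finset.sum_congr rfl hcol, Finset.sum_const, nsmul_eq_mul]
  have hSpos : (0 : ℝ) < S.card := by
    exact_mod_cast Finset.card_pos.2 ⟨g, (hSmem g).2 hC⟩
  refine ⟨?_, fun heq => ?_⟩
  · have h := Finset.sum_le_sum (fun χ (_ : χ ∈ Finset.univ) => hrow χ)
    rw [htot, Finset.sum_const, nsmul_eq_mul, mul_comm, Finset.card_univ, ← Nat.card_eq_fintype_card] at h
    exact_mod_cast le_of_mul_le_mul_left h hSpos
  · have hex : ∀ χ : IrrCharacter G, ∑ x ∈ S, ‖(χ : G → ℂ) x‖ ^ 2 = (S.card : ℝ) := by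
      have h : ∑ _χ : IrrCharacter G, (S.card : ℝ) = ∑ χ : IrrCharacter G, ∑ x ∈ S, ‖(χ : G → ℂ) x‖ ^ 2 := by
        rw [htot, Finset.sum_const, nsmul_eq_mul, Finset.card_univ, ← Nat.card_eq_fintype_card, heq,
          mul_comm]
      exact fun χ => ((Finset.sum_eq_sum_iff_of_le (fun χ _ => hrow χ)).1 h χ (Finset.mem_univ _)).symm
    have hlin : ∀ ψ : IrrCharacter (G ⧸ (P : Subgroup G)), (ψ : G ⧸ (P : Subgroup G) → ℂ) 1 = 1 := by
      intro ψ
      let χ : IrrCharacter G := ⟨_, Char.IsIrrCharacter.comp_surjective ψ.2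
        (QuotientGroup.mk' (P : Subgroup G)) (QuotientGroup.mk'_surjective _)⟩
      obtain ⟨n, hn0, hn⟩ := Char.IsIrrCharacter.exists_degree ψ.2
      have hval : ∀ x ∈ S, (χ : G → ℂ) x = (n : ℂ) := by
        intro x hx
        show (ψ : G ⧸ (P : Subgroup G) → ℂ) (x : G ⧸ (P : Subgroup G)) = _
        rw [(QuotientGroup.eq_one_iff x).2 (hSP x hx), hn]
      have h := hex χ
      rw [Finset.sum_congr rfl (fun x hx => by rw [hval x hx, Complex.norm_natCast]), Finset.sum_const,
        nsmul_eq_mul] at h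
      have h1 : ((n : ℝ)) ^ 2 = 1 := mul_left_cancel₀ hSpos.ne' (h.trans (mul_one _).symm)
      have h2 : n ^ 2 = 1 := by exact_mod_cast h1
      rw [hn, ((pow_eq_one_iff.1 h2).resolve_right two_ne_zero), Nat.cast_one]
    rw [commutator_def, Subgroup.commutator_le]
    intro a _ b _
    rw [← QuotientGroup.eq_one_iff, commutatorElement_def, QuotientGroup.mk_mul, QuotientGroup.mk_mul,
      QuotientGroup.mk_mul, QuotientGroup.mk_inv, QuotientGroup.mk_inv,
      Char.comm_of_forall_degree_one hlin (a : G ⧸ (P : Subgroup G)) b, mul_inv_cancel_right,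
      mul_inv_cancel]

end Cfsg.Agent.S0861
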