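import Cfsg.Statements.S0868
import Cfsg.Agent.EqLemmas
import Cfsg.Agent.Lib.CharApp.Clifford
import Cfsg.Agent.Lib.CharApp.Schur

set_option autoImplicit false
open scoped ComplexConjugate
open Cfsg

namespace Cfsg.Agent.S0868

open Cfsg.Agent Cfsg.Agent.Char

/-- A nontrivial-on-`N` irreducible character sums to zero on every coset. -/
theorem sum_coset_eq_zero {G : Type*} [Group G] [Fintype G] (N : Subgroup G) [hN : N.Normal]
    [Fintype N] {β : G → ℂ} (hβ : IsIrrCharacter G β) (ht : ¬ CharApp.TrivOn N β) (g : G) :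
    ∑ n : N, β ((n : G) * g) = 0 := by
  classical
  have hzero : ∑ n : N, β (n : G) = 0 := by
    by_contra h
    refine ht (CharApp.trivOn_of_constituent_one N hβ fun h0 => h ?_)
    simpa [classInner, Nat.card_pos.ne'] using h0
  obtain ⟨k, ρ, hirr, rfl⟩ := hβ
  haveI := hirr
  have hcomm : ∀ x : G, (∑ n : N, ρ (n : G)) * ρ x = ρ x * ∑ n : N, ρ (n : G) := by
    intro x
    rw [Finset.sum_mul, Finset.mul_sum]
    refine Fintype.sum_equiv (MulAut.conjNormal x⁻¹).toEquiv _ _ fun n => ?_
    rw [← map_mul, ← map_mul]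
    congr 1
    simp [mul_assoc]
  have hP := CharApp.eq_trace_div_smul ρ _ hcomm
  rw [map_sum, show ∑ n : N, LinearMap.trace ℂ _ (ρ (n : G)) = 0 from hzero, zero_div, zero_smul] at hP
  calc ∑ n : N, ρ.character ((n : G) * g)
      = LinearMap.trace ℂ _ ((∑ n : N, ρ (n : G)) * ρ g) := by
        rw [Finset.sum_mul, map_sum]
        refine Finset.sum_congr rfl fun n _ => ?_
        rw [← map_mul]
        rfl
    _ = 0 := by rw [hP, zero_mul, map_zero]

/-- Let N be a normal subgroup of the finite group G, χ an irreducible character of G whose restriction ϑ to N is irreducible, and ψ an irreducible character of G. Define η on G by η g = (1 / order of N) * Σ over n in N of ψ (n * g) * conj (χ (n * g)). Then: if the restriction of ψ to N has nonzero inner product with ϑ, η is an irreducible character of G; if that inner product is zero, η vanishes identically; and if ψ = χ then η is identically 1. -/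
theorem result {G : Type*} [Group G] [Fintype G] (N : Subgroup G) [N.Normal] [Fintype N] (χ : G → ℂ) (hχ : Cfsg.IsIrrCharacter G χ) (hχN : Cfsg.IsIrrCharacter N (fun n : N => χ n)) (ψ : G → ℂ) (hψ : Cfsg.IsIrrCharacter G ψ) (η : G → ℂ) (hη : η = fun g => (Nat.card N : ℂ)⁻¹ * ∑ n : N, ψ ((n : G) * g) * conj (χ ((n : G) * g))) : (Cfsg.classInner (fun n : N => ψ n) (fun n : N => χ n) ≠ 0 → Cfsg.IsIrrCharacter G η) ∧ (Cfsg.classInner (fun n : N => ψ n) (fun n : N => χ n) = 0 → η = 0) ∧ (ψ = χ → η = fun _ => 1) := by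
  classical
  haveI := Fintype.ofFinite (IrrCharacter G)
  have hF : IsClassFunction G (fun g => ψ g * conj (χ g)) := fun a b => by
    simp only [IsIrrCharacter.isClassFunction hψ a b, IsIrrCharacter.isClassFunction hχ a b]
  set a : IrrCharacter G → ℂ := fun β => classInner (fun g => ψ g * conj (χ g)) (β : G → ℂ) with ha
  have hexp := classFunction_eq_sum hF
  -- the average keeps the constituents trivial on `N`
  have hη' : η = ∑ β ∈ Finset.univ.filter (fun β : IrrCharacter G => CharApp.TrivOn N (β : G → ℂ)),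
      a β • (β : G → ℂ) := by
    funext g
    have hN0 : (Nat.card N : ℂ) ≠ 0 := Nat.cast_ne_zero.mpr Nat.card_pos.ne'
    rw [hη, Finset.sum_apply, Finset.sum_filter]
    have hstep : ∀ n : N, ψ ((n : G) * g) * conj (χ ((n : G) * g)) =
        ∑ β : IrrCharacter G, a β * (β : G → ℂ) ((n : G) * g) := fun n => by
      have := congrFun hexp ((n : G) * g)
      simpa [Finset.sum_apply, ha] using this
    simp only [hstep]
    rw [Finset.sum_comm, Finset.mul_sum]
    refine Finset.sum_congr rfl fun β _ => ?_
    rw [← Finset.mul_sum]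
    split_ifs with ht
    · obtain ⟨k, ρ, -, hρ⟩ := β.2
      have hc : ∀ n : N, (β : G → ℂ) ((n : G) * g) = (β : G → ℂ) g := by
        intro n
        have h1 := (character_eq_finrank_iff ρ (n : G)).1 (by
          rw [← Representation.char_one ρ, hρ]; exact ht n)
        rw [← hρ, Representation.character, Representation.character, map_mul, h1]
        rfl
      simp only [hc, Finset.sum_const, Finset.card_univ, nsmul_eq_mul, ← Nat.card_eq_fintype_card,
        Pi.smul_apply, smul_eq_mul]
      field_simp
    · rw [sum_coset_eq_zero N β.2 ht, mul_zero, mul_zero]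
  have hacalc : ∀ β : IrrCharacter G, a β = classInner ψ (χ * (β : G → ℂ)) := fun β => by
    simp [ha, classInner, mul_assoc]
  have hmatch : ∀ β₀ : IrrCharacter G, CharApp.TrivOn N (β₀ : G → ℂ) → ψ = χ * (β₀ : G → ℂ) →
      η = (β₀ : G → ℂ) := by
    intro β₀ ht0 he
    rw [hη', Finset.sum_eq_single β₀]
    · rw [hacalc, ← he, classInner_irr_self hψ, one_smul]
    · intro β hβ hne
      have hβt := (Finset.mem_filter.mp hβ).2
      rw [hacalc, classInner_irr_of_ne hψ (CharApp.gallagher_irr N hχ hχN β.2 hβt) (fun h =>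
        hne (Subtype.ext (CharApp.gallagher_injective N hχ hχN β.2 β₀.2 hβt ht0 (h.symm.trans he)))),
        zero_smul]
    · intro h
      exact absurd (Finset.mem_filter.mpr ⟨Finset.mem_univ β₀, ht0⟩) h
  refine ⟨fun hne => ?_, fun h0 => ?_, fun he => ?_⟩
  · obtain ⟨β, hβ, ht, he⟩ := CharApp.gallagher_exhaustive N hχ hχN hψ hne
    rw [hmatch ⟨β, hβ⟩ ht he]
    exact hβ
  · rw [hη']
    refine Finset.sum_eq_zero fun β hβ => ?_
    have hβt := (Finset.mem_filter.mp hβ).2
    rw [hacalc, classInner_irr_of_ne hψ (CharApp.gallagher_irr N hχ hχN β.2 hβt), zero_smul]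
    intro h
    have e : (fun n : N => ψ n) = (β : G → ℂ) 1 • (fun n : N => χ n) := funext fun n => by
      rw [h, Pi.mul_apply, hβt n]
      simp [mul_comm]
    rw [e, classInner_smul_left, classInner_irr_self hχN, mul_one] at h0
    exact IsIrrCharacter.apply_one_ne_zero β.2 h0
  · refine hmatch ⟨1, isIrrCharacter_one⟩ (fun n => rfl) ?_
    rw [he]
    exact (mul_one χ).symm

end Cfsg.Agent.S0868
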