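import Cfsg.Statements.S0873
import Cfsg.Agent.EqLemmas

set_option autoImplicit false
open Cfsg

namespace Cfsg.Agent.S0873

/-- Let C be a normal subgroup of the finite group G of order prime to p and P a p-subgroup with C ⊔ P = G. Let λ be a character of C of degree 1 invariant under conjugation by G and equal to 1 at every element of C centralized by P. Then λ is identically 1. -/
theorem result {G : Type*} [Group G] [Finite G] (p : ℕ) [Fact p.Prime] (C P : Subgroup G) [hC : C.Normal] (hP : IsPGroup p P) (hcop : Nat.Coprime (Nat.card C) p) (hCP : C ⊔ P = ⊤) (lam : C → ℂ) (hlam : Cfsg.IsCharacter C lam ∧ lam 1 = 1) (hinv : ∀ (g : G) (c : C), lam ⟨g * c * g⁻¹, hC.conj_mem (c : G) c.2 g⟩ = lam c) (hker : ∀ c : C, (c : G) ∈ Subgroup.centralizer (P : Set G) → lam c = 1) : lam = fun _ => 1 := by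
  classical
  have hlin : ∀ x y : C, lam (x * y) = lam x * lam y := by
    obtain ⟨⟨n, ρ, hρ⟩, h1⟩ := hlam
    have hn : n = 1 := by
      have : lam 1 = (n : ℂ) := by
        rw [← hρ, Representation.char_one]; simp
      rw [h1] at this
      exact_mod_cast this.symm
    subst hn
    intro x y
    subst hρ
    have hf : ∀ f : (Fin 1 → ℂ) →ₗ[ℂ] (Fin 1 → ℂ), LinearMap.trace ℂ _ f = LinearMap.det f := by
      intro f
      rw [LinearMap.trace_eq_matrix_trace ℂ (Pi.basisFun ℂ (Fin 1)), ← LinearMap.det_toMatrix (Pi.basisFun ℂ (Fin 1))]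
      simp [Matrix.trace, Matrix.det_fin_one]
    simp only [Representation.character]
    rw [hf, hf, hf, map_mul, map_mul]
  funext c
  -- the conjugation action of P on the coset c K
  let K : Set C := {d : C | lam d = lam c}
  let act : P → C → C := fun g d => ⟨(g : G) * d * (g : G)⁻¹, hC.conj_mem (d : G) d.2 g⟩
  letI : MulAction P K :=
    { smul := fun g d => ⟨act g d.1, (hinv g d.1).trans d.2⟩
      one_smul := fun d => by
        apply Subtype.ext; apply Subtype.ext
        change ((1 : P) : G) * (d.1 : G) * ((1 : P) : G)⁻¹ = _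
        simp
      mul_smul := fun g h d => by
        apply Subtype.ext; apply Subtype.ext
        change ((g * h : P) : G) * (d.1 : G) * ((g * h : P) : G)⁻¹ =
          (g : G) * ((h : G) * (d.1 : G) * (h : G)⁻¹) * (g : G)⁻¹
        simp [mul_assoc] }
  have h1c : lam 1 = 1 := hlam.2
  let f : C →* ℂ := { toFun := lam, map_one' := h1c, map_mul' := hlin }
  have hcard : Nat.card K = Nat.card f.ker := by
    apply Nat.card_congr
    exact
      { toFun := fun d => ⟨c⁻¹ * d.1, by
          rw [MonoidHom.mem_ker]; change lam (c⁻¹ * d.1) = 1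
          rw [hlin, d.2, ← hlin, inv_mul_cancel]; exact h1c⟩
        invFun := fun d => ⟨c * d.1, by
          change lam (c * d.1) = lam c
          have : lam d.1 = 1 := d.2
          rw [hlin, this, mul_one]⟩
        left_inv := fun d => by simp
        right_inv := fun d => by simp }
  have hnd : ¬ p ∣ Nat.card K := by
    rw [hcard]
    intro hd
    have := hd.trans (Subgroup.card_subgroup_dvd_card f.ker)
    exact (Fact.out : p.Prime).not_dvd_one (Nat.Coprime.coprime_dvd_left this (hcop) |> fun h => by simpa using h)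
  obtain ⟨d, hd⟩ := hP.nonempty_fixed_point_of_prime_not_dvd_card K hnd
  have hcen : ((d.1 : C) : G) ∈ Subgroup.centralizer (P : Set G) := by
    rw [Subgroup.mem_centralizer_iff]
    intro g hg
    have hfix := congrArg (fun e : K => ((e.1 : C) : G)) (hd ⟨g, hg⟩)
    change g * (d.1 : G) * g⁻¹ = (d.1 : G) at hfix
    exact mul_inv_eq_iff_eq_mul.1 hfix
  rw [← d.2, hker _ hcen]

end Cfsg.Agent.S0873
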