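import Cfsg.Statements.S0875
import Cfsg.Agent.Lib.Char.Section

set_option autoImplicit false
open Cfsg

namespace Cfsg.Agent.S0875

/-- Let G be a finite group of order m * n with m and n coprime, and g an element whose order is coprime to m. Every x in G factors uniquely as x = u * v with u, v commuting, the order of u coprime to n and the order of v coprime to m; let ϑ be the function on G equal to n at those x whose factor v is conjugate to g and equal to 0 elsewhere. Then ϑ is a linear combination of the irreducible characters of G with algebraic-integer coefficients. -/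
theorem result {G : Type*} [Group G] [Fintype G] (m n : ℕ) (hmn : Nat.card G = m * n) (hcop : Nat.Coprime m n) (g : G) (hg : Nat.Coprime (orderOf g) m) (ϑ : G → ℂ) (hϑ1 : ∀ x : G, (∃ v : G, IsConj v g ∧ (∃ u : G, x = u * v ∧ Commute u v ∧ Nat.Coprime (orderOf u) n ∧ Nat.Coprime (orderOf v) m)) → ϑ x = n) (hϑ0 : ∀ x : G, (¬ ∃ v : G, IsConj v g ∧ (∃ u : G, x = u * v ∧ Commute u v ∧ Nat.Coprime (orderOf u) n ∧ Nat.Coprime (orderOf v) m)) → ϑ x = 0) : ∃ c : Cfsg.IrrCharacter G → ℂ, (∀ χ, c χ ∈ Cfsg.AlgInt) ∧ ϑ = ∑ᶠ χ : Cfsg.IrrCharacter G, c χ • (χ : G → ℂ) := by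
  classical
  obtain ⟨k, hk0, hk1⟩ := Nat.chineseRemainder hcop 0 1
  have hm : m ∣ k := Nat.modEq_zero_iff_dvd.1 hk0
  have hn : n ≠ 0 := fun h => Nat.card_pos.ne' (hmn.trans (by simp [h]))
  have hG : ∀ x : G, orderOf x ∣ m * n := fun x => hmn ▸ orderOf_dvd_natCard x
  have hsec : ∀ x : G, (∃ v : G, IsConj v g ∧ (∃ u : G, x = u * v ∧ Commute u v ∧
      Nat.Coprime (orderOf u) n ∧ Nat.Coprime (orderOf v) m)) ↔ IsConj (x ^ k) g := by
    intro x
    constructor
    · rintro ⟨v, hv, u, rfl, hc, hu, hv'⟩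
      have h1 : u ^ k = 1 := orderOf_dvd_iff_pow_eq_one.1
        ((hu.dvd_of_dvd_mul_right (hG u)).trans hm)
      have h2 := (pow_eq_pow_iff_modEq (x := v) (n := k) (m := 1)).2
        (hk1.of_dvd (hv'.dvd_of_dvd_mul_left (hG v)))
      rw [hc.mul_pow, h1, h2, pow_one, one_mul]
      exact hv
    · intro hx
      refine ⟨x ^ k, hx, x * (x ^ k)⁻¹, (inv_mul_cancel_right _ _).symm, ?_, ?_, ?_⟩
      · exact (((Commute.refl x).pow_right k).mul_left (Commute.refl _).inv_left)
      · refine Nat.Coprime.coprime_dvd_left (orderOf_dvd_of_pow_eq_one ?_) hcop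
        rw [((Commute.refl x).pow_right k).inv_right.mul_pow, inv_pow, mul_inv_eq_one, ← pow_mul,
          pow_eq_pow_iff_modEq]
        refine Nat.ModEq.of_dvd (hG x) ?_
        have h := (hk1.symm.mul_left' m : m * 1 ≡ m * k [MOD m * n])
        rwa [mul_one, mul_comm m k] at h
      · refine Nat.Coprime.coprime_dvd_left (orderOf_dvd_of_pow_eq_one ?_) hcop.symm
        obtain ⟨r, rfl⟩ := hm
        rw [← pow_mul, mul_comm (m * r), ← mul_assoc, mul_comm n m, pow_mul, ← hmn,
          pow_card_eq_one', one_pow]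
  have hϑ : ϑ = fun x => if IsConj (x ^ k) g then (n : ℂ) else 0 := by
    funext x
    by_cases hx : IsConj (x ^ k) g
    · rw [if_pos hx, hϑ1 x ((hsec x).2 hx)]
    · rw [if_neg hx, hϑ0 x (mt (hsec x).1 hx)]
  refine ⟨fun χ => Cfsg.classInner ϑ (χ : G → ℂ), fun χ => ?_,
    Cfsg.Agent.Char.classFunction_expansion ?_⟩
  · rw [hϑ]
    exact Cfsg.Agent.Char.classInner_section_integral hmn hcop hk1 hm g
      (Cfsg.Agent.Char.isGeneralizedCharacter_of_isCharacter
        (Cfsg.Agent.Char.IsIrrCharacter.isCharacter χ.2))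
  · rw [hϑ]
    intro x y
    have h : IsConj (x ^ k) ((y * x * y⁻¹) ^ k) := isConj_iff.2 ⟨y, by rw [conj_pow]⟩
    exact if_congr ⟨fun hh => h.trans hh, fun hh => h.symm.trans hh⟩ rfl rfl

end Cfsg.Agent.S0875
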