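import Cfsg.Statements.S0879
import Cfsg.Agent.Lib.Zassenhaus.Basic

set_option autoImplicit false
open Cfsg

namespace Cfsg.Agent.S0879

theorem pair_of_conj {G Ω : Type*} [Group G] [MulAction G Ω] (hZ : Cfsg.IsZassenhausGroup G Ω) {a b : Ω}
    (hab : a ≠ b) {g x : G} (hx : x ∈ MulAction.stabilizer G a ⊓ MulAction.stabilizer G b) (hx1 : x ≠ 1)
    (hgx : g * x * g⁻¹ ∈ MulAction.stabilizer G a ⊓ MulAction.stabilizer G b) :
    (g • a = a ∧ g • b = b) ∨ (g • a = b ∧ g • b = a) := by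
  have h1 : g * x * g⁻¹ ≠ 1 := fun h => hx1 (by simpa [mul_inv_eq_one] using h)
  have hxa : x • a = a := hx.1
  have hxb : x • b = b := hx.2
  have ha := Zassenhaus.eq_left_or_eq_right hZ h1 hab hgx.1 hgx.2 (c := g • a)
    (by rw [mul_smul, mul_smul, inv_smul_smul, hxa])
  have hb := Zassenhaus.eq_left_or_eq_right hZ h1 hab hgx.1 hgx.2 (c := g • b)
    (by rw [mul_smul, mul_smul, inv_smul_smul, hxb])
  have hne : g • a ≠ g • b := fun h => hab (smul_left_cancel g h)
  rcases ha with ha | ha <;> rcases hb with hb | hb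
  · exact absurd (ha.trans hb.symm) hne
  · exact Or.inl ⟨ha, hb⟩
  · exact Or.inr ⟨ha, hb⟩
  · exact absurd (ha.trans hb.symm) hne


/-- Let G be a Zassenhaus group on the finite set Ω and E the stabilizer of two distinct points a, b. Then an element outside the normalizer of E conjugates no non-identity element of E into E, and E has index 2 in its normalizer. -/
theorem result {G Ω : Type*} [Group G] [Finite G] [MulAction G Ω] [Fintype Ω] (hZ : Cfsg.IsZassenhausGroup G Ω) {a b : Ω} (hab : a ≠ b) : (∀ g : G, g ∉ Subgroup.normalizer ((MulAction.stabilizer G a ⊓ MulAction.stabilizer G b : Subgroup G) : Set G) → ∀ x ∈ (MulAction.stabilizer G a ⊓ MulAction.stabilizer G b : Subgroup G), g * x * g⁻¹ ∈ (MulAction.stabilizer G a ⊓ MulAction.stabilizer G b : Subgroup G) → x = 1) ∧ ((MulAction.stabilizer G a ⊓ MulAction.stabilizer G b : Subgroup G).subgroupOf (Subgroup.normalizer ((MulAction.stabilizer G a ⊓ MulAction.stabilizer G b : Subgroup G) : Set G))).index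 = 2 := by
  set H := MulAction.stabilizer G a ⊓ MulAction.stabilizer G b with hH
  have hN : ∀ g : G, (g • a = a ∧ g • b = b) ∨ (g • a = b ∧ g • b = a) →
      g ∈ Subgroup.normalizer (H : Set G) := by
    intro g hg
    rw [Subgroup.mem_normalizer_iff]
    intro x
    simp only [H, Subgroup.mem_inf, MulAction.mem_stabilizer_iff, mul_smul]
    have e : ∀ c : Ω, (g • x • g⁻¹ • c = c ↔ x • g⁻¹ • c = g⁻¹ • c) := fun c => smul_eq_iff_eq_inv_smul g
    rw [e, e]
    rcases hg with ⟨h1, h2⟩ | ⟨h1, h2⟩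
    · rw [inv_smul_eq_iff.2 h1.symm, inv_smul_eq_iff.2 h2.symm]
    · rw [inv_smul_eq_iff.2 h1.symm, inv_smul_eq_iff.2 h2.symm, and_comm]
  refine ⟨?_, ?_⟩
  · intro g hg x hx hgx
    by_contra hx1
    exact hg (hN g (pair_of_conj hZ hab hx hx1 hgx))
  · obtain ⟨s, _, hsa, hsb⟩ := Zassenhaus.exists_involution_swap hZ hab
    obtain ⟨x, hx1, hxa, hxb⟩ := Zassenhaus.exists_fix_pair hZ hab
    have hxH : x ∈ H := ⟨hxa, hxb⟩
    rw [Subgroup.index_eq_two_iff]
    refine ⟨⟨s, hN s (Or.inr ⟨hsa, hsb⟩)⟩, fun g => ?_⟩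
    have hg := g.2
    rw [Subgroup.mem_normalizer_iff] at hg
    simp only [Subgroup.mem_subgroupOf, Subgroup.coe_mul]
    rcases pair_of_conj hZ hab hxH hx1 ((hg x).1 hxH) with ⟨h1, h2⟩ | ⟨h1, h2⟩
    · refine Or.inr ⟨⟨h1, h2⟩, fun h => hab ?_⟩
      have : ((g : G) * s) • b = b := h.2
      rw [mul_smul, hsb] at this
      exact h1.symm.trans this
    · refine Or.inl ⟨?_, fun h => hab (h.1.symm.trans h1)⟩
      exact ⟨show ((g : G) * s) • a = a by rw [mul_smul, hsa, h2],
        show ((g : G) * s) • b = b by rw [mul_smul, hsb, h1]⟩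

end Cfsg.Agent.S0879
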