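import Cfsg.Statements.S0882
import Cfsg.Agent.S0739

set_option autoImplicit false
open Cfsg

namespace Cfsg.Agent.S0882

/-- Let G be a finite simple Zassenhaus group on Ω with n = h + 1 points whose two-point stabilizer E has odd order e with 2e < h - 1. Then any two involutions of G are conjugate, and the number of involutions is e * (h + 1) if h is even and e * h if h is odd. -/
theorem result {G Ω : Type*} [Group G] [Finite G] [MulAction G Ω] [Fintype Ω] (hZ : Cfsg.IsZassenhausGroup G Ω) {a b : Ω} (hab : a ≠ b) [IsSimpleGroup G] (h e : ℕ) (hh : Fintype.card Ω = h + 1) (he : Nat.card ↥(MulAction.stabilizer G a ⊓ MulAction.stabilizer G b : Subgroup G) = e) (hodd : Odd e) (hlt : 2 * e < h - 1) : (∀ x y : G, orderOf x = 2 → orderOf y = 2 → IsConj x y) ∧ Nat.card {x : G // orderOf x = 2} = (if Even h then e * (h + 1) else e * h) := by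
  classical
  have := Fintype.ofFinite G
  have hn := Zassenhaus.three_le_card hZ
  have hn' : Nat.card Ω = h + 1 := by rw [Nat.card_eq_fintype_card, hh]
  set H := MulAction.stabilizer G a ⊓ MulAction.stabilizer G b with hH
  have hnil : ∀ q : ℕ, q.Prime → q ∣ Nat.card H →
      ¬ ∃ N : Subgroup G, N.Normal ∧ N.index = q ^ (Nat.card G).factorization q := by
    rintro q hq hqd ⟨N, hN, hidx⟩
    have hpos : 0 < (Nat.card G).factorization q :=
      hq.factorization_pos_of_dvd Nat.card_pos.ne' (hqd.trans (Subgroup.card_subgroup_dvd_card _))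
    rcases hN.eq_bot_or_eq_top with rfl | rfl
    · rw [Subgroup.index_bot] at hidx
      have h2 : 2 ∣ q := Nat.prime_two.dvd_of_dvd_pow (hidx ▸ Zassenhaus.two_dvd_card hZ)
      rw [(Nat.prime_dvd_prime_iff_eq Nat.prime_two hq).1 h2 |>.symm] at hqd
      exact Nat.not_even_iff_odd.2 hodd (he ▸ even_iff_two_dvd.2 hqd)
    · rw [Subgroup.index_top] at hidx
      exact absurd hidx.symm (one_lt_pow₀ hq.one_lt hpos.ne').ne'
  have hoddH : Odd (Nat.card H) := he.symm ▸ hodd
  obtain ⟨_, _, hinv⟩ := Cfsg.Agent.S0739.result hZ hab hoddH hnil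
  obtain ⟨s, hs, hsa, hsb⟩ := Zassenhaus.exists_involution_swap hZ hab
  have hss : s * s = 1 := by
    have := pow_orderOf_eq_one s
    rwa [hs, pow_two] at this
  have hswapinv : ∀ g : G, g • a = b → g • b = a → ∃ x ∈ H, g = x * s * x⁻¹ := by
    intro g h1 h2
    obtain ⟨m, hm⟩ := hoddH
    have hy : g * s ∈ H := ⟨show (g * s) • a = a by rw [mul_smul, hsa, h2],
      show (g * s) • b = b by rw [mul_smul, hsb, h1]⟩
    have hpow : (g * s) ^ (2 * m + 1) = 1 := by
      rw [← hm]
      exact congrArg Subtype.val (pow_card_eq_one' (x := (⟨g * s, hy⟩ : H)))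
    refine ⟨(g * s) ^ (m + 1), pow_mem hy _, ?_⟩
    have hx := hinv s hsa hsb _ (inv_mem (pow_mem hy (m + 1)))
    rw [inv_inv] at hx
    have : (g * s) ^ (m + 1) * s * ((g * s) ^ (m + 1))⁻¹ = (g * s) ^ (m + 1) * ((g * s) ^ (m + 1)) * s := by
      conv_rhs => arg 1; arg 2; rw [← hx]
      simp [mul_assoc, hss]
    rw [this, ← pow_add, show m + 1 + (m + 1) = 2 * m + 1 + 1 by ring, pow_succ, hpow, one_mul, mul_assoc, hss,
      mul_one]
  have hconj : ∀ x : G, orderOf x = 2 → IsConj s x := by
    intro x hx
    obtain ⟨g, _, h1, h2⟩ := Zassenhaus.exists_conj_swap hZ hab hx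
    obtain ⟨k, _, hk⟩ := hswapinv _ h1 h2
    exact IsConj.trans (isConj_iff.2 ⟨k, hk.symm⟩) (isConj_iff.2 ⟨g, rfl⟩).symm
  refine ⟨fun x y hx hy => (hconj x hx).symm.trans (hconj y hy), ?_⟩
  let I : Finset G := Finset.univ.filter (fun t => orderOf t = 2)
  let P : Finset (Ω × Ω) := (Finset.univ : Finset Ω).offDiag
  have hfix : ∀ t ∈ I, (Finset.univ.filter (fun c : Ω => t • c = c)).card = if Even h then 1 else 0 := by
    intro t ht
    have ht2 : orderOf t = 2 := (Finset.mem_filter.1 ht).2
    have ht1 : t ≠ 1 := fun e => by simp [e] at ht2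
    have htt : t * t = 1 := by
      have := pow_orderOf_eq_one t
      rwa [ht2, pow_two] at this
    have hc : Nat.card (MulAction.fixedBy Ω t) = (Finset.univ.filter (fun c : Ω => t • c = c)).card := by
      rw [Nat.card_eq_fintype_card, ← Fintype.card_subtype]
      exact Fintype.card_congr (Equiv.refl _)
    rw [← hc]
    have h1 := Zassenhaus.card_fixedBy_le_two hZ ht1
    have h2 : Nat.card (MulAction.fixedBy Ω t) % 2 = Nat.card Ω % 2 := Zassenhaus.card_fixedBy_modEq htt
    rw [hn'] at h2
    split_ifs with hev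
    · have := Nat.even_iff.1 hev
      omega
    · have hne : Nat.card (MulAction.fixedBy Ω t) ≠ 2 := by
        intro h2'
        rw [Nat.card_coe_set_eq, Set.ncard_eq_two] at h2'
        obtain ⟨u, v, huv, hset⟩ := h2'
        have hu : t • u = u := by
          have : u ∈ MulAction.fixedBy Ω t := hset ▸ Set.mem_insert _ _
          exact this
        have hv : t • v = v := by
          have : v ∈ MulAction.fixedBy Ω t := hset ▸ Set.mem_insert_of_mem _ rfl
          exact this
        have h5 := Subgroup.orderOf_dvd_natCard (MulAction.stabilizer G u ⊓ MulAction.stabilizer G v)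
          (x := t) ⟨hu, hv⟩
        rw [ht2, Zassenhaus.card_pair_stab_eq hZ hab huv, he] at h5
        exact Nat.not_even_iff_odd.2 hodd (even_iff_two_dvd.2 h5)
      have := Nat.odd_iff.1 (Nat.not_even_iff_odd.1 hev)
      omega
  have hcount : I.card * (h + 1 - if Even h then 1 else 0) = P.card * e := by
    refine Finset.card_mul_eq_card_mul (fun t p => t • p.1 = p.2 ∧ t • p.2 = p.1) ?_ ?_
    · intro t ht
      have htt : t * t = 1 := by
        have h := pow_orderOf_eq_one t
        rw [(Finset.mem_filter.1 ht).2, pow_two] at h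
        exact h
      rw [← hh, ← Finset.card_univ, ← hfix t ht, ← Finset.card_sdiff_of_subset (Finset.filter_subset _ _)]
      refine Finset.card_bij (fun p _ => p.1) ?_ ?_ ?_
      · intro p hp
        simp only [P, Finset.mem_bipartiteAbove, Finset.mem_offDiag, Finset.mem_univ, true_and] at hp
        simp only [Finset.mem_sdiff, Finset.mem_filter, Finset.mem_univ, true_and]
        exact fun e => hp.1 (e.symm.trans hp.2.1)
      · intro p hp p' hp' e
        simp only [Finset.mem_bipartiteAbove] at hp hp'
        exact Prod.ext e (by rw [← hp.2.1, ← hp'.2.1, e])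
      · intro c hc
        simp only [Finset.mem_sdiff, Finset.mem_filter, Finset.mem_univ, true_and] at hc
        refine ⟨(c, t • c), ?_, rfl⟩
        simp only [P, Finset.mem_bipartiteAbove, Finset.mem_offDiag, Finset.mem_univ, true_and, ← mul_smul, htt,
          one_smul, and_true]
        exact fun e => hc e.symm
    · intro p hp
      have hp' : p.1 ≠ p.2 := (Finset.mem_offDiag.1 hp).2.2
      obtain ⟨s', _, hs1, hs2⟩ := Zassenhaus.exists_involution_swap hZ hp'
      have hrw : I.bipartiteBelow (fun t p => t • p.1 = p.2 ∧ t • p.2 = p.1) p =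
          Finset.univ.filter (fun g : G => g • p.1 = p.2 ∧ g • p.2 = p.1) := by
        ext g
        simp only [I, Finset.mem_bipartiteBelow, Finset.mem_filter, Finset.mem_univ, true_and,
          and_iff_right_iff_imp]
        rintro ⟨h1, h2⟩
        obtain ⟨k, hka, hkb⟩ := Zassenhaus.exists_smul_pair hZ hab hp'
        have e1 : (k⁻¹ * g * k) • a = b := by rw [mul_smul, mul_smul, hka, h1, inv_smul_eq_iff, hkb]
        have e2 : (k⁻¹ * g * k) • b = a := by rw [mul_smul, mul_smul, hkb, h2, inv_smul_eq_iff, hka]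
        obtain ⟨x, _, hx⟩ := hswapinv _ e1 e2
        rw [show g = MulAut.conj (k * x) s by
          rw [MulAut.conj_apply]
          calc g = k * (k⁻¹ * g * k) * k⁻¹ := by group
            _ = _ := by rw [hx]; group]
        rw [MulEquiv.orderOf_eq]
        exact hs
      rw [hrw, ← Fintype.card_subtype, ← Nat.card_eq_fintype_card, Zassenhaus.card_swap hs1 hs2,
        Zassenhaus.card_pair_stab_eq hZ hab hp', he]
  rw [Nat.card_eq_fintype_card, Fintype.card_subtype]
  change I.card = _
  simp only [P, Finset.offDiag_card, Finset.card_univ, hh] at hcount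
  rw [show (h + 1) * (h + 1) - (h + 1) = (h + 1) * h by rw [← Nat.mul_sub_one, Nat.add_sub_cancel]] at hcount
  split_ifs at hcount ⊢ with hev
  · rw [Nat.add_sub_cancel] at hcount
    have hpos : 0 < h := by omega
    refine Nat.eq_of_mul_eq_mul_right hpos ?_
    rw [hcount]; ring
  · rw [Nat.sub_zero] at hcount
    refine Nat.eq_of_mul_eq_mul_right (Nat.succ_pos h) ?_
    rw [Nat.succ_eq_add_one, hcount]; ring

end Cfsg.Agent.S0882
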