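import Cfsg.Statements.S0883
import Cfsg.Agent.EqLemmas

set_option autoImplicit false
open Cfsg

namespace Cfsg.Agent.S0883

open MulAction

variable {G Ω : Type*} [Group G] [MulAction G Ω]

/-- In a finite 2-transitive action all two point stabilisers have equal order. -/
lemma card_twoPoint (h2 : IsMultiplyPretransitive G Ω 2) {a b c d : Ω} (hab : a ≠ b) (hcd : c ≠ d) :
    Nat.card (stabilizer G a ⊓ stabilizer G b : Subgroup G)
      = Nat.card (stabilizer G c ⊓ stabilizer G d : Subgroup G) := by
  obtain ⟨g, hga, hgb⟩ := (is_two_pretransitive_iff.mp h2) hab hcd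
  have hmap : (stabilizer G c ⊓ stabilizer G d : Subgroup G)
      = (stabilizer G a ⊓ stabilizer G b : Subgroup G).map (MulAut.conj g).toMonoidHom := by
    ext x
    simp only [Subgroup.mem_inf, mem_stabilizer_iff, Subgroup.mem_map]
    constructor
    · rintro ⟨hc, hd⟩
      refine ⟨g⁻¹ * x * g, ⟨?_, ?_⟩, by show g * (g⁻¹ * x * g) * g⁻¹ = x; group⟩
      · rw [mul_smul, mul_smul, hga, hc, inv_smul_eq_iff, hga]
      · rw [mul_smul, mul_smul, hgb, hd, inv_smul_eq_iff, hgb]
    · rintro ⟨y, ⟨hya, hyb⟩, rfl⟩
      refine ⟨?_, ?_⟩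
      · show (g * y * g⁻¹) • c = c
        rw [mul_smul, mul_smul, ← hga, inv_smul_smul, hya]
      · show (g * y * g⁻¹) • d = d
        rw [mul_smul, mul_smul, ← hgb, inv_smul_smul, hyb]
  rw [hmap]
  exact Nat.card_congr (Subgroup.equivMapOfInjective _ _ (MulAut.conj g).injective).toEquiv

lemma smul_eq_self_of_sq {t : G} (ht : orderOf t = 2) (c : Ω) : t • t • c = c := by
  rw [← mul_smul, ← pow_two, ← ht, pow_orderOf_eq_one, one_smul]

lemma inv_of_orderOf_two {t : G} (ht : orderOf t = 2) : t⁻¹ = t := by
  rw [inv_eq_iff_mul_eq_one, ← pow_two, ← ht, pow_orderOf_eq_one]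

/-- Let G be a finite simple Zassenhaus group on Ω with h + 1 points whose two-point stabilizer E has odd order e with 2e < h - 1, and let H be the subgroup of the stabilizer of a consisting of the identity and the elements fixing no point other than a (given here as a subgroup of the stabilizer of order one less than the number of points whose non-identity elements fix only a; it is the Frobenius kernel of the stabilizer). If a non-identity element u of H is a product of two involutions of G, then u is an involution. -/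
theorem result {G Ω : Type*} [Group G] [Finite G] [MulAction G Ω] [Fintype Ω] (hZ : Cfsg.IsZassenhausGroup G Ω) {a b : Ω} (hab : a ≠ b) [IsSimpleGroup G] (h e : ℕ) (hh : Fintype.card Ω = h + 1) (he : Nat.card ↥(MulAction.stabilizer G a ⊓ MulAction.stabilizer G b : Subgroup G) = e) (hodd : Odd e) (hlt : 2 * e < h - 1) (H : Subgroup G) (hHa : H ≤ MulAction.stabilizer G a) (hHcard : Nat.card H + 1 = Fintype.card Ω) (hHfix : ∀ u ∈ H, u ≠ 1 → ∀ c : Ω, u • c = c → c = a) (u : G) (hu : u ∈ H) (hu1 : u ≠ 1) (x y : G) (hx : orderOf x = 2) (hy : orderOf y = 2) (hxy : x * y = u) : orderOf u = 2 := by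
  classical
  haveI : Fintype G := Fintype.ofFinite G
  obtain ⟨-, h2, hthree, -, -⟩ := hZ
  haveI : IsMultiplyPretransitive G Ω 2 := h2
  have htwo : ∀ (c d : Ω), c ≠ d → ∀ g : G, g • c = c → g • d = d → Odd (orderOf g) := by
    intro c d hcd g hgc hgd
    refine Odd.of_dvd_nat (he ▸ hodd : Odd (Nat.card (stabilizer G a ⊓ stabilizer G b : Subgroup G))) ?_
    rw [card_twoPoint h2 hab hcd]
    exact Subgroup.orderOf_dvd_natCard _ (Subgroup.mem_inf.mpr ⟨hgc, hgd⟩)
  have hinv_fix : ∀ t : G, orderOf t = 2 → ∀ c d : Ω, t • c = c → t • d = d → c = d := by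
    intro t ht c d hc hd
    by_contra hne
    have := htwo c d hne t hc hd
    rw [ht] at this
    exact absurd this (by decide)
  -- x and y fix a
  have hy' : y = x * u := by
    rw [← hxy, ← mul_assoc, ← pow_two, ← hx, pow_orderOf_eq_one, one_mul]
  have hxa : x • a = a := by
    apply hHfix u hu hu1
    have hua : u • a = a := hHa hu
    have h1 : u * x = x * u⁻¹ := by
      rw [← hxy, mul_inv_rev, inv_of_orderOf_two hx, inv_of_orderOf_two hy]; group
    rw [← mul_smul, h1, mul_smul]
    congr 1
    rw [inv_smul_eq_iff, hua]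
  have hya : y • a = a := by
    rw [hy', mul_smul, (hHa hu : u • a = a), hxa]
  -- counting in the stabiliser of a
  set St := stabilizer G a with hSt
  have hh' : Nat.card H = h := by rw [hh] at hHcard; omega
  have hSt_card : Nat.card St = h * e := by
    have horb : orbit St b = {c : Ω | c ≠ a} := by
      ext c
      constructor
      · rintro ⟨g, rfl⟩ hc
        have hga : (g : G) • a = a := g.2
        exact hab (smul_left_cancel (g : G) (hga.trans (show a = (g : G) • b from hc.symm)))
      · intro hc
        obtain ⟨g, hga, hgb⟩ := (is_two_pretransitive_iff.mp h2) hab (Ne.symm hc)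
        exact ⟨⟨g, hga⟩, hgb⟩
    have hst : Nat.card (stabilizer St b) = e := by
      rw [← he]
      exact Nat.card_congr
        { toFun := fun g => ⟨(g.1 : G), Subgroup.mem_inf.mpr ⟨g.1.2, g.2⟩⟩
          invFun := fun g => ⟨⟨(g : G), (Subgroup.mem_inf.mp g.2).1⟩, (Subgroup.mem_inf.mp g.2).2⟩
          left_inv := fun g => rfl
          right_inv := fun g => rfl }
    have h0 := Subgroup.index_mul_card (stabilizer St b)
    rw [MulAction.index_stabilizer, horb, hst] at h0
    rw [← h0]
    congr 1
    rw [Set.ncard_eq_toFinset_card', show ({c : Ω | c ≠ a} : Set Ω).toFinset = Finset.univ.erase a by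
      ext; simp, Finset.card_erase_of_mem (Finset.mem_univ a), Finset.card_univ, hh]
    rfl
  have hcard_h : (Finset.univ.erase a).card = h := by
    rw [Finset.card_erase_of_mem (Finset.mem_univ a), Finset.card_univ, hh]; rfl
  have he0 : 0 < e := he ▸ Nat.card_pos
  have hh0 : 0 < h := by omega
  set Stf : Finset G := Finset.univ.filter (fun g => g ∈ St) with hStf
  set Hf : Finset G := Finset.univ.filter (fun g => g ∈ H) with hHf
  have hStf_card : Stf.card = h * e := by
    rw [← hSt_card, Nat.card_eq_fintype_card, Fintype.card_subtype]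
  have hHf_card : Hf.card = h := by
    rw [← hh', Nat.card_eq_fintype_card, Fintype.card_subtype]
  set f : G → ℕ := fun g => ((Finset.univ.erase a).filter (fun c => g • c = c)).card with hf
  set Q0 : Finset G := (Stf.erase 1).filter (fun g => f g = 0) with hQ0
  have hf_le : ∀ g ∈ Stf.erase 1, f g ≤ 1 := by
    intro g hg
    simp only [hStf, Finset.mem_erase, Finset.mem_filter, Finset.mem_univ, true_and] at hg
    rw [hf]
    apply Finset.card_le_one.mpr
    intro c hc d hd
    simp only [Finset.mem_filter, Finset.mem_erase, Finset.mem_univ, and_true] at hc hd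
    by_contra hne
    exact hg.1 (hthree g a c d (Ne.symm hc.1) hne (Ne.symm hd.1) hg.2 hc.2 hd.2)
  have hQ0_card : Q0.card + 1 = h := by
    have hsum : ∑ g ∈ Stf, f g = h * e := by
      simp only [hf, Finset.card_filter]
      rw [Finset.sum_comm]
      rw [Finset.sum_congr rfl (fun c hc => ?_), Finset.sum_const, hcard_h, smul_eq_mul]
      rw [← Finset.card_filter]
      have hca : c ≠ a := (Finset.mem_erase.mp hc).1
      rw [← he, card_twoPoint h2 hab (Ne.symm hca), Nat.card_eq_fintype_card, Fintype.card_subtype]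
      congr 1
      ext g
      simp [hStf, hSt]
    have h1mem : (1 : G) ∈ Stf := by simp [hStf, one_mem]
    rw [← Finset.add_sum_erase Stf f h1mem] at hsum
    have hf1 : f 1 = h := by simp [hf, hcard_h]
    have hsplit := Finset.card_filter_add_card_filter_not (s := Stf.erase 1) (fun g => f g = 0)
    have hsum' : ∑ g ∈ Stf.erase 1, f g = ((Stf.erase 1).filter (fun g => ¬ f g = 0)).card := by
      rw [Finset.card_filter]
      refine Finset.sum_congr rfl fun g hg => ?_
      have := hf_le g hg
      split_ifs <;> omega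
    rw [hsum', hf1] at hsum
    rw [Finset.card_erase_of_mem h1mem, hStf_card, ← hQ0] at hsplit
    have : 1 ≤ h * e := Nat.mul_pos hh0 he0
    omega
  have hQ0H : Hf.erase 1 = Q0 := by
    apply Finset.eq_of_subset_of_card_le
    · intro g hg
      simp only [hHf, Finset.mem_erase, Finset.mem_filter, Finset.mem_univ, true_and] at hg
      simp only [hQ0, hStf, Finset.mem_filter, Finset.mem_erase, Finset.mem_univ, true_and]
      refine ⟨⟨hg.1, hHa hg.2⟩, ?_⟩
      simp only [hf, Finset.card_eq_zero, Finset.filter_eq_empty_iff]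
      intro c hc hgc
      exact (Finset.mem_erase.mp hc).1 (hHfix g hg.2 hg.1 c hgc)
    · rw [Finset.card_erase_of_mem (show (1 : G) ∈ Hf by simp [hHf, one_mem]), hHf_card]
      omega
  have hmemH : ∀ g : G, g ≠ 1 → g • a = a → (∀ c : Ω, g • c = c → c = a) → g ∈ H := by
    intro g hg1 hga hfix
    have hgQ : g ∈ Q0 := by
      simp only [hQ0, hStf, Finset.mem_filter, Finset.mem_erase, Finset.mem_univ, true_and]
      refine ⟨⟨hg1, hga⟩, ?_⟩
      simp only [hf, Finset.card_eq_zero, Finset.filter_eq_empty_iff]
      exact fun c hc hgc => (Finset.mem_erase.mp hc).1 (hfix c hgc)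
    rw [← hQ0H] at hgQ
    simpa [hHf] using (Finset.mem_erase.mp hgQ).2
  have hx1 : x ≠ 1 := fun hx' => by simp [hx'] at hx
  have hxH : x ∈ H := hmemH x hx1 hxa (fun c hc => hinv_fix x hx c a hc hxa)
  have hyH : y ∈ H := by rw [hy']; exact mul_mem hxH hu
  -- every involution fixes exactly one point
  have hinv_ex : ∀ t : G, orderOf t = 2 → ∃ c : Ω, t • c = c := by
    intro t ht
    haveI : Fact (Nat.Prime 2) := ⟨Nat.prime_two⟩
    have hp2 : IsPGroup 2 (Subgroup.zpowers t) := IsPGroup.of_card (n := 1) (by rw [Nat.card_zpowers, ht, pow_one])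
    have h2h : 2 ∣ h := hx ▸ hh' ▸ Subgroup.orderOf_dvd_natCard H hxH
    have hnd : ¬ 2 ∣ Nat.card Ω := by rw [Nat.card_eq_fintype_card, hh]; omega
    obtain ⟨c, hc⟩ := hp2.nonempty_fixed_point_of_prime_not_dvd_card Ω hnd
    exact ⟨c, hc ⟨t, Subgroup.mem_zpowers t⟩⟩
  set Jt : Finset G := Finset.univ.filter (fun t => orderOf t = 2) with hJt
  set I : Ω → Finset G := fun c => Jt.filter (fun t => t • c = c) with hI
  have hI_eq : ∀ c, (I c).card = (I a).card := by
    intro c
    obtain ⟨g, hg⟩ : ∃ g : G, g • a = c := by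
      by_cases hca : c = a
      · exact ⟨1, by rw [one_smul, hca]⟩
      · obtain ⟨g, hg, -⟩ := (is_two_pretransitive_iff.mp h2) hab (show c ≠ a from hca)
        exact ⟨g, hg⟩
    refine (Finset.card_equiv (MulAut.conj g).toEquiv fun t => ?_).symm
    simp only [hI, hJt, Finset.mem_filter, Finset.mem_univ, true_and]
    show orderOf t = 2 ∧ t • a = a ↔ orderOf (g * t * g⁻¹) = 2 ∧ (g * t * g⁻¹) • c = c
    have ho : orderOf (g * t * g⁻¹) = orderOf t :=
      orderOf_injective (MulAut.conj g).toMonoidHom (MulAut.conj g).injective t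
    rw [ho, mul_smul, mul_smul, ← hg, inv_smul_smul, smul_left_cancel_iff]
  have hJ_card : Jt.card = (h + 1) * (I a).card := by
    have hs : ∑ c : Ω, (I c).card = Jt.card := by
      simp only [hI, Finset.card_filter]
      rw [Finset.sum_comm, Finset.card_eq_sum_ones]
      refine Finset.sum_congr rfl fun t ht => ?_
      rw [← Finset.card_filter, Finset.card_eq_one]
      have ht' : orderOf t = 2 := by simpa [hJt] using ht
      obtain ⟨c, hc⟩ := hinv_ex t ht'
      refine ⟨c, ?_⟩
      ext d
      simp only [Finset.mem_filter, Finset.mem_univ, true_and, Finset.mem_singleton]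
      exact ⟨fun hd => hinv_fix t ht' d c hd hc, fun hd => hd ▸ hc⟩
    rw [← hs, Finset.sum_congr rfl (fun c _ => hI_eq c), Finset.sum_const, Finset.card_univ, hh,
      smul_eq_mul]
  have hIle : (I a).card ≤ e := by
    set Mv := Jt.filter (fun t => ¬ t • a = a) with hMv
    have hsplit := Finset.card_filter_add_card_filter_not (s := Jt) (fun t => t • a = a)
    have hMv_le : Mv.card ≤ e * h := by
      refine (Finset.card_le_mul_card_image (f := fun t : G => t • a) Mv e ?_).trans
        (Nat.mul_le_mul_left e (hcard_h ▸ Finset.card_le_card ?_))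
      · intro d hd
        obtain ⟨t₀, ht₀, rfl⟩ := Finset.mem_image.mp hd
        simp only [hMv, hJt, Finset.mem_filter, Finset.mem_univ, true_and] at ht₀
        rw [← he, card_twoPoint h2 hab (Ne.symm ht₀.2), Nat.card_eq_fintype_card, Fintype.card_subtype]
        refine Finset.card_le_card_of_injOn (fun t => t₀⁻¹ * t) ?_
          (fun t _ t' _ htt' => mul_left_cancel htt')
        intro t ht
        simp only [Finset.mem_coe, hMv, hJt, Finset.mem_filter, Finset.mem_univ, true_and] at ht ⊢
        refine Subgroup.mem_inf.mpr ⟨?_, ?_⟩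
        · show (t₀⁻¹ * t) • a = a
          rw [mul_smul, ht.2, inv_smul_smul]
        · show (t₀⁻¹ * t) • (t₀ • a) = t₀ • a
          rw [mul_smul, inv_of_orderOf_two ht₀.1]
          congr 1
          rw [← ht.2]
          exact smul_eq_self_of_sq ht.1.1 a
      · intro d hd
        obtain ⟨t, ht, rfl⟩ := Finset.mem_image.mp hd
        simp only [hMv, Finset.mem_filter] at ht
        exact Finset.mem_erase.mpr ⟨ht.2, Finset.mem_univ _⟩
    rw [show Jt.filter (fun t => t • a = a) = I a from rfl, hJ_card, ← hMv] at hsplit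
    rw [add_mul, one_mul, Nat.mul_comm h] at hsplit
    exact Nat.le_of_mul_le_mul_right (by omega : (I a).card * h ≤ e * h) hh0
  -- the centraliser of x in the stabiliser of a is all of H
  set C : Finset G := Stf.filter (fun g => g * x = x * g) with hC
  have hCH : C ⊆ Hf := by
    intro g hg
    simp only [hC, hStf, Finset.mem_filter, Finset.mem_univ, true_and] at hg
    simp only [hHf, Finset.mem_filter, Finset.mem_univ, true_and]
    by_cases hg1 : g = 1
    · rw [hg1]; exact one_mem _
    refine hmemH g hg1 hg.1 fun c hc => ?_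
    by_contra hca
    have hxc : x • c ≠ c := fun h' => hca (hinv_fix x hx c a h' hxa)
    have hxca : x • c ≠ a := fun h' => hca (smul_left_cancel x (h'.trans hxa.symm))
    have hgxc : g • (x • c) = x • c := by rw [← mul_smul, hg.2, mul_smul, hc]
    exact hg1 (hthree g a c (x • c) (Ne.symm hca) (Ne.symm hxc) (Ne.symm hxca) hg.1 hc hgxc)
  have hCbig : h ≤ C.card := by
    have h1 : Stf.card ≤ C.card * (Stf.image (fun g => g * x * g⁻¹)).card := by
      refine Finset.card_le_mul_card_image Stf _ fun w hw => ?_
      obtain ⟨g₀, hg₀, rfl⟩ := Finset.mem_image.mp hw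
      refine Finset.card_le_card_of_injOn (fun g => g₀⁻¹ * g) ?_
        (fun g _ g' _ hgg' => mul_left_cancel hgg')
      intro g hg
      simp only [Finset.mem_coe, Finset.mem_filter] at hg
      simp only [hC, hStf, Finset.mem_coe, Finset.mem_filter, Finset.mem_univ, true_and] at hg hg₀ ⊢
      refine ⟨mul_mem (inv_mem hg₀) hg.1, ?_⟩
      calc g₀⁻¹ * g * x = g₀⁻¹ * (g * x * g⁻¹) * g := by group
        _ = g₀⁻¹ * (g₀ * x * g₀⁻¹) * g := by rw [hg.2]
        _ = x * (g₀⁻¹ * g) := by group
    have h2' : (Stf.image (fun g => g * x * g⁻¹)).card ≤ e := by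
      refine le_trans (Finset.card_le_card fun w hw => ?_) hIle
      obtain ⟨g, hg, rfl⟩ := Finset.mem_image.mp hw
      simp only [hStf, Finset.mem_filter, Finset.mem_univ, true_and] at hg
      simp only [hI, hJt, Finset.mem_filter, Finset.mem_univ, true_and]
      refine ⟨(orderOf_injective (MulAut.conj g).toMonoidHom (MulAut.conj g).injective x).trans hx, ?_⟩
      rw [mul_smul, mul_smul, (inv_mem hg : g⁻¹ ∈ St), hxa, hg]
    exact Nat.le_of_mul_le_mul_right
      (hStf_card ▸ h1.trans (Nat.mul_le_mul_left _ h2') : h * e ≤ C.card * e) he0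
  have hCeq : C = Hf := Finset.eq_of_subset_of_card_le hCH (by rw [hHf_card]; exact hCbig)
  have hcomm : y * x = x * y := by
    have : y ∈ C := by rw [hCeq]; simp [hHf, hyH]
    exact (Finset.mem_filter.mp this).2
  refine orderOf_eq_prime ?_ hu1
  rw [← hxy]
  calc (x * y) ^ 2 = x * (y * x) * y := by rw [pow_two]; group
    _ = x * (x * y) * y := by rw [hcomm]
    _ = (x * x) * (y * y) := by group
    _ = 1 := by rw [← pow_two, ← pow_two, ← hx, pow_orderOf_eq_one, hx, ← hy, pow_orderOf_eq_one, one_mul]

end Cfsg.Agent.S0883
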