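import Cfsg.Statements.S0884
import Cfsg.Agent.S0882
import Cfsg.Agent.S0883
import Cfsg.Agent.S0885
import Cfsg.Agent.EqLemmas

set_option autoImplicit false
open Cfsg

namespace Cfsg.Agent.S0884

/-- Let G be a finite simple Zassenhaus group on Ω with h + 1 points whose two-point stabilizer E has odd order e with 2e < h - 1, and let H be the subgroup of the stabilizer of a consisting of the identity and the elements fixing no point other than a (given here as a subgroup of the stabilizer of order one less than the number of points whose non-identity elements fix only a; it is the Frobenius kernel of the stabilizer). Then at least e conjugacy classes of G contain no element of H. -/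
theorem result {G Ω : Type*} [Group G] [Finite G] [MulAction G Ω] [Fintype Ω] (hZ : Cfsg.IsZassenhausGroup G Ω) {a b : Ω} (hab : a ≠ b) [IsSimpleGroup G] (h e : ℕ) (hh : Fintype.card Ω = h + 1) (he : Nat.card ↥(MulAction.stabilizer G a ⊓ MulAction.stabilizer G b : Subgroup G) = e) (hodd : Odd e) (hlt : 2 * e < h - 1) (H : Subgroup G) (hHa : H ≤ MulAction.stabilizer G a) (hHcard : Nat.card H + 1 = Fintype.card Ω) (hHfix : ∀ u ∈ H, u ≠ 1 → ∀ c : Ω, u • c = c → c = a) : e ≤ Nat.card {C : ConjClasses G // ∀ g : G, ConjClasses.mk g = C → g ∉ H} := by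
  classical
  have := Fintype.ofFinite G
  obtain ⟨-, hT⟩ := S0882.result hZ hab h e hh he hodd hlt
  have hn3 : 3 ≤ h + 1 := by rw [← hh, ← Nat.card_eq_fintype_card]; exact Zassenhaus.three_le_card hZ
  rcases S0885.result hZ hab h e hh he hodd H hHa hHcard hHfix with hle | ⟨h2g, -, -⟩
  · omega
  have hev : Even h := by
    haveI : Fact (Nat.Prime 2) := ⟨Nat.prime_two⟩
    obtain ⟨m, hm⟩ := h2g.exists_card_eq
    have hHh : Nat.card H = h := by omega
    rcases m with _ | m
    · rw [hHh, pow_zero] at hm; omega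
    · exact ⟨2 ^ m, by rw [← hHh, hm, pow_succ]; ring⟩
  rw [if_pos hev] at hT
  let I : Finset G := Finset.univ.filter fun s => orderOf s = 2
  have hI : I.card = e * (h + 1) := by
    rw [← hT, Nat.card_eq_fintype_card, Fintype.card_subtype]
  -- the fixed point of an involution
  have hfix1 : ∀ s : G, orderOf s = 2 → ∃ c : Ω, s • c = c ∧ ∀ d, s • d = d → d = c := by
    intro s hs
    have hs1 : s ≠ 1 := fun h => by simp [h] at hs
    have hss : s * s = 1 := by rw [← pow_two, ← hs, pow_orderOf_eq_one]
    have h1 := Zassenhaus.card_fixedBy_le_two hZ hs1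
    have h3 : Nat.card (MulAction.fixedBy Ω s) % 2 = Nat.card Ω % 2 := Zassenhaus.card_fixedBy_modEq hss
    rw [Nat.card_eq_fintype_card (α := Ω), hh] at h3
    obtain ⟨i, hi⟩ := hev
    have h4 : Nat.card (MulAction.fixedBy Ω s) = 1 := by omega
    obtain ⟨hsub, ⟨c, hc⟩⟩ := Nat.card_eq_one_iff_unique.1 h4
    exact ⟨c, hc, fun d hd => congrArg Subtype.val (hsub.elim (⟨d, hd⟩ : MulAction.fixedBy Ω s) ⟨c, hc⟩)⟩
  haveI : Nonempty Ω := ⟨a⟩
  choose! pt hpt hptu using hfix1
  haveI := Zassenhaus.isPretransitive hZ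
  let m : Ω → ℕ := fun c => (I.filter fun s => pt s = c).card
  have hmeq : ∀ c d : Ω, m c ≤ m d := by
    intro c d
    obtain ⟨g, hg⟩ := MulAction.exists_smul_eq G c d
    refine Finset.card_le_card_of_injOn (fun s => g * s * g⁻¹) ?_ (fun s _ t _ h => ?_)
    · intro s hs
      simp only [I, Finset.mem_coe, Finset.mem_filter, Finset.mem_univ, true_and] at hs ⊢
      have ho : orderOf (g * s * g⁻¹) = 2 := (MulEquiv.orderOf_eq (MulAut.conj g) s).trans hs.1
      refine ⟨ho, (hptu _ ho d ?_).symm⟩
      rw [mul_smul, mul_smul, inv_smul_eq_iff.2 hg.symm, ← hs.2, hpt s hs.1, hs.2, hg]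
    · exact mul_left_cancel (mul_right_cancel h)
  have hm : ∀ c, m c = e := by
    intro c
    have hsum : I.card = ∑ d : Ω, m d := Finset.card_eq_sum_card_fiberwise fun s _ => Finset.mem_univ _
    rw [hI, Finset.sum_congr rfl fun d _ => le_antisymm (hmeq d c) (hmeq c d), Finset.sum_const,
      Finset.card_univ, hh, smul_eq_mul, mul_comm e] at hsum
    exact (Nat.eq_of_mul_eq_mul_left (by omega) hsum).symm
  let P : Finset (G × G) := (I ×ˢ I).filter fun p => pt p.1 ≠ pt p.2
  have hP : P.card = e * (h + 1) * (e * h) := by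
    have hfib : ∀ s ∈ I, (I.filter fun t => pt s ≠ pt t).card = e * h := by
      intro s hs
      have h1 := Finset.card_filter_add_card_filter_not (s := I) (fun t => pt t = pt s)
      rw [hI, show (I.filter fun t => pt t = pt s).card = e from hm (pt s),
        show (I.filter fun t => ¬pt t = pt s) = I.filter fun t => pt s ≠ pt t from
          Finset.filter_congr fun t _ => ne_comm] at h1
      rw [mul_add, mul_one] at h1
      omega
    rw [show P.card = ∑ s ∈ I, (I.filter fun t => pt s ≠ pt t).card by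
      simp only [P, Finset.card_filter, Finset.sum_product], Finset.sum_congr rfl hfib, Finset.sum_const,
      smul_eq_mul, hI]
  let T : Finset (ConjClasses G) := Finset.univ.filter fun C => ∀ g : G, ConjClasses.mk g = C → g ∉ H
  have hmaps : ∀ p ∈ P, ConjClasses.mk (p.1 * p.2) ∈ T := by
    intro p hp
    simp only [P, I, Finset.mem_filter, Finset.mem_product, Finset.mem_univ, true_and] at hp
    obtain ⟨⟨hs, ht⟩, hne⟩ := hp
    simp only [T, Finset.mem_filter, Finset.mem_univ, true_and]
    intro u hu huH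
    apply hne
    have hss : p.1 * p.1 = 1 := by rw [← pow_two, ← hs, pow_orderOf_eq_one]
    have htt : p.2 * p.2 = 1 := by rw [← pow_two, ← ht, pow_orderOf_eq_one]
    obtain ⟨g, hg⟩ := isConj_iff.1 (ConjClasses.mk_eq_mk_iff_isConj.1 hu).symm
    have hsq : p.1 * p.2 * (p.1 * p.2) = 1 := by
      by_cases hu1 : u = 1
      · have : p.1 * p.2 = 1 := by
          rw [hu1] at hg
          have := congrArg (fun z => g⁻¹ * z * g) hg
          simpa [mul_assoc] using this
        rw [this, one_mul]
      · have ho := S0883.result hZ hab h e hh he hodd hlt H hHa hHcard hHfix u huH hu1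
          (g * p.1 * g⁻¹) (g * p.2 * g⁻¹) ((MulEquiv.orderOf_eq (MulAut.conj g) p.1).trans hs)
          ((MulEquiv.orderOf_eq (MulAut.conj g) p.2).trans ht) (by rw [← hg]; group)
        have h1 : u * u = 1 := by rw [← pow_two, ← ho, pow_orderOf_eq_one]
        rw [← hg] at h1
        have := congrArg (fun z => g⁻¹ * z * g) h1
        simpa [mul_assoc] using this
    have hcomm : p.1 * p.2 = p.2 * p.1 := by
      have h1 := inv_eq_of_mul_eq_one_right hsq
      rw [mul_inv_rev, inv_eq_of_mul_eq_one_right hss, inv_eq_of_mul_eq_one_right htt] at h1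
      exact h1.symm
    refine (hptu p.1 hs (pt p.2) (hptu p.2 ht _ ?_)).symm
    rw [← mul_smul, ← hcomm, mul_smul, hpt p.2 ht]
  have hfibre : ∀ C ∈ T, (P.filter fun p => ConjClasses.mk (p.1 * p.2) = C).card ≤ Nat.card G := by
    intro C _
    obtain ⟨x, rfl⟩ := ConjClasses.mk_surjective C
    have hex : ∀ w : G, IsConj x w → ∃ k : G, k * x * k⁻¹ = w := fun w => isConj_iff.1
    choose! k hk using hex
    rw [Nat.card_eq_fintype_card, ← Finset.card_univ]
    refine Finset.card_le_card_of_injOn (fun p => p.1 * k (p.1 * p.2)) (fun _ _ => Finset.mem_univ _) ?_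
    have key : ∀ p ∈ P.filter (fun p => ConjClasses.mk (p.1 * p.2) = ConjClasses.mk x),
        (p.1 * k (p.1 * p.2)) * x * (p.1 * k (p.1 * p.2))⁻¹ = (p.1 * p.2)⁻¹ := by
      intro p hp
      simp only [P, I, Finset.mem_filter, Finset.mem_product, Finset.mem_univ, true_and] at hp
      obtain ⟨⟨⟨hs, ht⟩, -⟩, hC⟩ := hp
      have hss : p.1 * p.1 = 1 := by rw [← pow_two, ← hs, pow_orderOf_eq_one]
      have htt : p.2 * p.2 = 1 := by rw [← pow_two, ← ht, pow_orderOf_eq_one]
      have hkk := hk (p.1 * p.2) (ConjClasses.mk_eq_mk_iff_isConj.1 hC).symm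
      rw [show p.1 * k (p.1 * p.2) * x * (p.1 * k (p.1 * p.2))⁻¹ =
        p.1 * (k (p.1 * p.2) * x * (k (p.1 * p.2))⁻¹) * p.1⁻¹ by group, hkk, mul_inv_rev,
        inv_eq_of_mul_eq_one_right hss, inv_eq_of_mul_eq_one_right htt, ← mul_assoc, hss, one_mul]
    intro p hp q hq hpq
    change p.1 * k (p.1 * p.2) = q.1 * k (q.1 * q.2) at hpq
    have h1 := key p (Finset.mem_coe.1 hp)
    have h2 := key q (Finset.mem_coe.1 hq)
    rw [hpq, h2] at h1
    have hw := inv_injective h1.symm
    rw [hw] at hpq
    have hs := mul_right_cancel hpq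
    rw [hs] at hw
    exact Prod.ext hs (mul_left_cancel hw)
  have hbound : P.card ≤ Nat.card G * T.card :=
    Finset.card_le_mul_card_image_of_maps_to hmaps _ hfibre
  rw [hP, Zassenhaus.card_eq hZ hab, he, Nat.card_eq_fintype_card (α := Ω), hh, Nat.add_sub_cancel] at hbound
  have hT' : e ≤ T.card := by
    have hh0 : 0 < h := by omega
    have he0 := hodd.pos
    have hmul : (h + 1) * (h * e) * e ≤ (h + 1) * (h * e) * T.card :=
      le_trans (le_of_eq (by ring)) hbound
    exact Nat.le_of_mul_le_mul_left hmul (Nat.mul_pos (by omega) (Nat.mul_pos hh0 he0))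
  rw [Nat.card_eq_fintype_card, Fintype.card_subtype]
  exact hT'

end Cfsg.Agent.S0884
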