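import Cfsg.Statements.S0891
import Cfsg.Agent.Lib.DoubleCoverAlt.Basic

set_option autoImplicit false
open Cfsg

namespace Cfsg.Agent.S0891

/-- For every n ≥ 4 there are a finite group Γ and a central element z of Γ of order 2 lying in the commutator subgroup of Γ such that the quotient of Γ by the (normal) subgroup generated by z is isomorphic to the alternating group on n letters. -/
theorem result (n : ℕ) (hn : 4 ≤ n) : ∃ (Γ : Type) (_ : Group Γ) (_ : Finite Γ) (z : Γ) (hz : z ∈ Subgroup.center Γ), orderOf z = 2 ∧ z ∈ commutator Γ ∧ ∃ _ : (Subgroup.zpowers z).Normal, Nonempty (Γ ⧸ Subgroup.zpowers z ≃* alternatingGroup (Fin n)) := by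
  let π := DoubleCoverAlt.proj n
  let z := DoubleCoverAlt.negOne n
  have hz : Subgroup.zpowers z = π.ker := by
    refine le_antisymm (Subgroup.zpowers_le.mpr ((DoubleCoverAlt.mem_ker_proj_iff n z).mpr (Or.inr rfl))) ?_
    intro p hp
    rcases (DoubleCoverAlt.mem_ker_proj_iff n p).mp hp with rfl | rfl
    · exact one_mem _
    · exact Subgroup.mem_zpowers _
  haveI hzn : (Subgroup.zpowers z).Normal := hz ▸ MonoidHom.normal_ker π
  exact ⟨DoubleCoverAlt.Cover n, inferInstance, inferInstance, z, DoubleCoverAlt.negOne_mem_center n,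
    DoubleCoverAlt.orderOf_negOne n, DoubleCoverAlt.negOne_mem_commutator n hn, hzn,
    ⟨(QuotientGroup.quotientMulEquivOfEq hz).trans
      (QuotientGroup.quotientKerEquivOfSurjective π (DoubleCoverAlt.proj_surjective n))⟩⟩

end Cfsg.Agent.S0891
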