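import Cfsg.Statements.S0892
import Cfsg.Agent.Lib.DoubleCoverAlt.Multiplier

set_option autoImplicit false
open Cfsg

namespace Cfsg.Agent.S0892

/-- Let n ≥ 4 with n ≠ 6 and n ≠ 7, and let Γ be a finite group with a subgroup Z contained in both the centre and the commutator subgroup of Γ such that Γ / Z is isomorphic to the alternating group on n letters. Then Z has order at most 2. -/
theorem result (n : ℕ) (hn : 4 ≤ n) (h6 : n ≠ 6) (h7 : n ≠ 7) {Γ : Type*} [Group Γ] [Finite Γ] (Z : Subgroup Γ) [Z.Normal] (hZc : Z ≤ Subgroup.center Γ) (hZd : Z ≤ commutator Γ) (e : Γ ⧸ Z ≃* alternatingGroup (Fin n)) : Nat.card Z ≤ 2 := by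
  obtain ⟨k, rfl⟩ : ∃ k, n = k + 3 := ⟨n - 3, by omega⟩
  let π : Γ →* Equiv.Perm (Fin (k + 3)) :=
    (alternatingGroup (Fin (k + 3))).subtype.comp (e.toMonoidHom.comp (QuotientGroup.mk' Z))
  have hrange : π.range = alternatingGroup (Fin (k + 3)) := by
    ext σ
    constructor
    · rintro ⟨g, rfl⟩
      exact (e (QuotientGroup.mk g)).2
    · intro hσ
      obtain ⟨g, hg⟩ := QuotientGroup.mk_surjective (e.symm ⟨σ, hσ⟩)
      refine ⟨g, ?_⟩
      show ((e (QuotientGroup.mk g) : alternatingGroup (Fin (k + 3))) : Equiv.Perm (Fin (k + 3))) = σ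
      rw [hg, MulEquiv.apply_symm_apply]
  have hker : π.ker = Z := by
    ext g
    rw [MonoidHom.mem_ker]
    show ((e (QuotientGroup.mk g) : alternatingGroup (Fin (k + 3))) : Equiv.Perm (Fin (k + 3))) = 1 ↔ g ∈ Z
    rw [OneMemClass.coe_eq_one, map_eq_one_iff _ e.injective, QuotientGroup.eq_one_iff]
  have := DoubleCoverAlt.card_ker_le_two (k := k) (by omega) (by omega) (by omega) π hrange (hker ▸ hZc) (hker ▸ hZd)
  rwa [hker] at this

end Cfsg.Agent.S0892
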