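import Cfsg.Statements.S0893
import Cfsg.Agent.Lib.ExtraspecialChar.Basic
import Cfsg.Agent.Lib.Char.Induced

set_option autoImplicit false
open Cfsg

namespace Cfsg.Agent.S0893

/-- Let P be an extraspecial p-group of order p ^ (2 * n + 1), A an abelian subgroup of order p ^ (n + 1), and λ a character of A of degree 1 that is not identically 1 on the elements of A lying in the centre of P. Then the function induced from λ to P is an irreducible character of P and vanishes at every element outside the centre. -/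
theorem result {P : Type*} [Group P] [Fintype P] (p n : ℕ) [Fact p.Prime] (hP : Cfsg.IsExtraspecial p P) (hcard : Nat.card P = p ^ (2 * n + 1)) (A : Subgroup P) (hab : ∀ a ∈ A, ∀ b ∈ A, a * b = b * a) (hA : Nat.card A = p ^ (n + 1)) (lam : A → ℂ) (hlam : Cfsg.IsCharacter A lam ∧ lam 1 = 1) (hZ : ∃ a : A, (a : P) ∈ Subgroup.center P ∧ lam a ≠ 1) : Cfsg.IsIrrCharacter P (Cfsg.indFun A lam) ∧ ∀ x : P, x ∉ Subgroup.center P → Cfsg.indFun A lam x = 0 := by
  classical
  have hp : p.Prime := Fact.out
  obtain ⟨hlamc, hlam1⟩ := hlam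
  obtain ⟨l, hl⟩ := Cfsg.Agent.Char.exists_hom_of_degree_one hlamc hlam1
  obtain ⟨a₀, ha₀c, ha₀⟩ := hZ
  haveI : Fact (Nat.card (Subgroup.center P)).Prime := ⟨by rw [hP.2]; exact hp⟩
  have hZA : Subgroup.center P ≤ A := by
    have hne : A.subgroupOf (Subgroup.center P) ≠ ⊥ := fun h => ha₀ (by
      have h1 := (Subgroup.eq_bot_iff_forall _).mp h (⟨(a₀ : P), ha₀c⟩ : Subgroup.center P) a₀.2
      rw [show a₀ = 1 from Subtype.ext (congrArg Subtype.val h1 : (a₀ : P) = 1), hlam1])
    exact Subgroup.subgroupOf_eq_top.mp ((Subgroup.eq_bot_or_eq_top_of_prime_card _).resolve_left hne)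
  haveI hAn : A.Normal := by
    refine ⟨fun a ha g => ?_⟩
    have hc := hZA (Cfsg.Agent.ExtraspecialChar.comm_mem_center hP a g⁻¹)
    have := A.mul_mem ha hc
    simpa [mul_assoc] using this
  have hindex : A.index = p ^ n := by
    have := A.index_mul_card
    rw [hA, hcard] at this
    apply Nat.eq_of_mul_eq_mul_right (pow_pos hp.pos (n + 1))
    rw [this]; ring
  have hoff : ∀ x : P, x ∉ Subgroup.center P → Cfsg.indFun A lam x = 0 := by
    intro x hx
    rw [Cfsg.indFun]
    by_cases hxA : x ∈ A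
    · -- translate by an element whose commutator with x is not in the kernel
      obtain ⟨y₀, hy₀⟩ := Cfsg.Agent.ExtraspecialChar.exists_commutator_eq hP hx ha₀c
      have key : ∀ y : P, Cfsg.extendByZero A lam ((y₀ * y)⁻¹ * x * (y₀ * y))
          = Cfsg.extendByZero A lam (y⁻¹ * x * y) * lam a₀ := by
        intro y
        have hc := Subgroup.mem_center_iff.mp ha₀c
        have he : (y₀ * y)⁻¹ * x * (y₀ * y) = y⁻¹ * x * y * (a₀ : P) := by
          calc (y₀ * y)⁻¹ * x * (y₀ * y) = y⁻¹ * x * (x⁻¹ * y₀⁻¹ * x * y₀) * y := by group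
            _ = y⁻¹ * x * ((a₀ : P) * y) := by rw [hy₀]; group
            _ = y⁻¹ * x * (y * (a₀ : P)) := by rw [hc]
            _ = _ := by group
        have hm : y⁻¹ * x * y ∈ A := by simpa using hAn.conj_mem x hxA y⁻¹
        rw [he, Cfsg.Agent.Char.extendByZero_mem A lam (A.mul_mem hm a₀.2),
          Cfsg.Agent.Char.extendByZero_mem A lam hm, ← hl]
        exact map_mul l ⟨_, hm⟩ a₀
      set S := ∑ y : P, Cfsg.extendByZero A lam (y⁻¹ * x * y) with hS
      have hS' : S = S * lam a₀ := by
        rw [hS, Finset.sum_mul, ← Finset.sum_congr rfl fun y _ => key y]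
        exact (Fintype.sum_equiv (Equiv.mulLeft y₀) _ _ fun y => rfl).symm
      have : S = 0 := by
        by_contra hne
        exact ha₀ (mul_left_cancel₀ hne (hS'.symm.trans (mul_one S).symm))
      rw [this, mul_zero]
    · rw [Finset.sum_eq_zero, mul_zero]
      intro y _
      refine Cfsg.Agent.Char.extendByZero_not_mem A lam fun h => hxA ?_
      simpa [mul_assoc] using hAn.conj_mem _ h y
  refine ⟨?_, hoff⟩
  open Cfsg.Agent.Char in
  rw [isIrrCharacter_iff_norm_one (IsCharacter.indFun A hlamc), classInner_self_eq, Complex.ofReal_eq_one,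
    inv_mul_eq_one₀ (Nat.cast_ne_zero.mpr Nat.card_pos.ne'),
    ← Finset.sum_subset (Finset.subset_univ (Finset.univ.filter (· ∈ Subgroup.center P)))
      (fun x _ hx => by rw [hoff x (by simpa using hx)]; simp)]
  have hon : ∀ z ∈ Subgroup.center P, ‖Cfsg.indFun A lam z‖ = ((p : ℝ) ^ n) := by
    intro z hz
    have hterm : ∀ y : P, Cfsg.extendByZero A lam (y⁻¹ * z * y) = l ⟨z, hZA hz⟩ := by
      intro y
      rw [mul_assoc, ← Subgroup.mem_center_iff.mp hz y, inv_mul_cancel_left,
        Cfsg.Agent.Char.extendByZero_mem A lam (hZA hz), ← hl]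
    have hnorm : ‖l ⟨z, hZA hz⟩‖ = 1 :=
      Complex.norm_eq_one_of_pow_eq_one
        (by rw [← map_pow, pow_orderOf_eq_one, map_one]) (orderOf_pos (⟨z, hZA hz⟩ : A)).ne'
    rw [Cfsg.indFun, Finset.sum_congr rfl fun y _ => hterm y, Finset.sum_const, Finset.card_univ,
      nsmul_eq_mul, ← Nat.card_eq_fintype_card, ← A.index_mul_card, hindex, norm_mul, norm_mul, hnorm,
      mul_one, norm_inv, Complex.norm_natCast, Complex.norm_natCast, hA]
    have hp0 : (p : ℝ) ≠ 0 := Nat.cast_ne_zero.mpr hp.ne_zero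
    push_cast
    field_simp
  rw [Finset.sum_congr rfl (g := fun _ => ((p : ℝ) ^ n) ^ 2) (fun z hz => by rw [hon z (by simpa using hz)]),
    Finset.sum_const, ← Fintype.card_subtype, ← Nat.card_eq_fintype_card,
    show Nat.card {x // x ∈ Subgroup.center P} = p from hP.2, hcard, nsmul_eq_mul]
  push_cast
  ring


end Cfsg.Agent.S0893
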