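import Cfsg.Statements.S0894
import Cfsg.Agent.Lib.ExtraspecialChar.Basic

set_option autoImplicit false
open Cfsg

namespace Cfsg.Agent.S0894

/-- Let P be an extraspecial p-group of order p ^ (2 * n + 1). Then every irreducible character of P has degree 1 or p ^ n, and exactly p - 1 of them have degree p ^ n. -/
theorem result {P : Type*} [Group P] [Finite P] (p n : ℕ) [Fact p.Prime] (hP : Cfsg.IsExtraspecial p P) (hcard : Nat.card P = p ^ (2 * n + 1)) : (∀ χ : Cfsg.IrrCharacter P, (χ : P → ℂ) 1 = 1 ∨ (χ : P → ℂ) 1 = (p : ℂ) ^ n) ∧ Nat.card {χ : Cfsg.IrrCharacter P // (χ : P → ℂ) 1 = (p : ℂ) ^ n} = p - 1 := by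
  classical
  haveI : Fintype P := Fintype.ofFinite P
  haveI : Fintype (Cfsg.IrrCharacter P) := Fintype.ofFinite _
  open Cfsg.Agent.Char Cfsg.Agent.ExtraspecialChar in
  have hdeg : ∀ χ : Cfsg.IrrCharacter P, (χ : P → ℂ) 1 = 1 ∨ (χ : P → ℂ) 1 = (p : ℂ) ^ n :=
    fun χ => or_iff_not_imp_left.mpr fun h => degree_eq hP hcard χ.2 h
  refine ⟨hdeg, ?_⟩
  have hp : p.Prime := Fact.out
  have hn : n ≠ 0 := by
    intro h0
    subst h0
    have htop : Subgroup.center P = ⊤ :=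
      Subgroup.eq_top_of_card_eq _ (by rw [hP.2, hcard]; simp)
    have hbot : commutator P = ⊥ := by
      rw [commutator_def, eq_bot_iff, Subgroup.commutator_le]
      intro a _ b _
      have hb : b ∈ Subgroup.center P := htop ▸ Subgroup.mem_top b
      rw [Subgroup.mem_bot, commutatorElement_eq_one_iff_mul_comm]
      exact Subgroup.mem_center_iff.mp hb a
    have h1 := hP.2
    rw [← hP.1.2.2, hbot, Subgroup.card_bot] at h1
    exact hp.one_lt.ne h1
  have hpn : (p : ℂ) ^ n ≠ 1 := by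
    intro h
    have h' : p ^ n = 1 := by exact_mod_cast h
    exact hn ((pow_eq_one_iff.mp h').resolve_left hp.one_lt.ne')
  have hL : Nat.card {χ : Cfsg.IrrCharacter P // (χ : P → ℂ) 1 = 1} = p ^ (2 * n) := by
    rw [Cfsg.Agent.Char.card_linear_irr, hP.1.2.2]
    apply Nat.eq_of_mul_eq_mul_right hp.pos
    have := (Subgroup.center P).index_mul_card
    rw [hP.2, hcard] at this
    rw [this, pow_succ]
  have hsum := Cfsg.Agent.Char.sum_sq_degrees (G := P)
  have hA : ∑ χ ∈ Finset.univ.filter (fun χ : Cfsg.IrrCharacter P => (χ : P → ℂ) 1 = 1), (χ : P → ℂ) 1 ^ 2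
      = ((p ^ (2 * n) : ℕ) : ℂ) := by
    rw [Finset.sum_congr rfl (g := fun _ => (1 : ℂ)) (fun χ hχ => by rw [(Finset.mem_filter.mp hχ).2, one_pow]),
      Finset.sum_const, ← Fintype.card_subtype, ← Nat.card_eq_fintype_card, hL, nsmul_eq_mul, mul_one]
  have hB : ∑ χ ∈ Finset.univ.filter (fun χ : Cfsg.IrrCharacter P => ¬ (χ : P → ℂ) 1 = 1), (χ : P → ℂ) 1 ^ 2
      = (Nat.card {χ : Cfsg.IrrCharacter P // ¬ (χ : P → ℂ) 1 = 1} : ℂ) * ((p : ℂ) ^ n) ^ 2 := by
    rw [Finset.sum_congr rfl (g := fun _ => ((p : ℂ) ^ n) ^ 2) (fun χ hχ => by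
        rw [(hdeg χ).resolve_left (Finset.mem_filter.mp hχ).2]),
      Finset.sum_const, ← Fintype.card_subtype, ← Nat.card_eq_fintype_card, nsmul_eq_mul]
  rw [← Finset.sum_filter_add_sum_filter_not Finset.univ (fun χ : Cfsg.IrrCharacter P => (χ : P → ℂ) 1 = 1),
    hA, hB, hcard] at hsum
  have hequiv : Nat.card {χ : Cfsg.IrrCharacter P // ¬ (χ : P → ℂ) 1 = 1}
      = Nat.card {χ : Cfsg.IrrCharacter P // (χ : P → ℂ) 1 = (p : ℂ) ^ n} :=
    Nat.card_congr (Equiv.subtypeEquivRight fun χ => ⟨fun h => (hdeg χ).resolve_left h,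
      fun h h1 => hpn (h.symm.trans h1)⟩)
  rw [hequiv] at hsum
  set k := Nat.card {χ : Cfsg.IrrCharacter P // (χ : P → ℂ) 1 = (p : ℂ) ^ n}
  have h' : p ^ (2 * n) + k * (p ^ n) ^ 2 = p ^ (2 * n + 1) := by exact_mod_cast hsum
  have hpos : 0 < p ^ (2 * n) := pow_pos hp.pos _
  have h2 : (k + 1) * p ^ (2 * n) = p * p ^ (2 * n) := by
    rw [← pow_succ', ← h']; ring
  have := Nat.eq_of_mul_eq_mul_right hpos h2
  omega


end Cfsg.Agent.S0894
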