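import Cfsg.Statements.S0896
import Cfsg.Agent.Lib.Char.Dade

set_option autoImplicit false
open scoped ComplexConjugate
open Cfsg

namespace Cfsg.Agent.S0896

/-- Let N be a normal subgroup of the finite group G with the index of N a power of the prime p, and ϑ an irreducible character of N invariant under conjugation by G. Then there are a p-elementary subgroup E of G with E ⊔ N = ⊤ and an irreducible character φ of the subgroup E ⊓ N, invariant under conjugation by E, such that the inner product of the restriction of ϑ to E ⊓ N with φ is an integer not divisible by p. -/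
theorem result {G : Type*} [Group G] [Fintype G] (p : ℕ) (hp : p.Prime) (N : Subgroup G) [hN : N.Normal] (hind : ∃ k : ℕ, N.index = p ^ k) (ϑ : N → ℂ) (hϑ : Cfsg.IsIrrCharacter N ϑ) (hinv : ∀ (g : G) (n : N), ϑ ⟨g * n * g⁻¹, hN.conj_mem (n : G) n.2 g⟩ = ϑ n) : ∃ (E : Subgroup G) (φ : ↥(E ⊓ N) → ℂ), Cfsg.IsElementary p E ∧ E ⊔ N = ⊤ ∧ Cfsg.IsIrrCharacter ↥(E ⊓ N) φ ∧ (∀ (g : G) (hg : g ∈ E) (x : ↥(E ⊓ N)), φ ⟨g * x * g⁻¹, ⟨(E.mul_mem (E.mul_mem hg x.2.1) (E.inv_mem hg)), hN.conj_mem (x : G) x.2.2 g⟩⟩ = φ x) ∧ ∃ m : ℕ, ¬ p ∣ m ∧ (Nat.card ↥(E ⊓ N) : ℂ)⁻¹ * ∑ᶠ x : ↥(E ⊓ N), ϑ ⟨(x : G), x.2.2⟩ * conj (φ x) = (m : ℂ) := by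
  classical
  obtain ⟨E, φ, hE, htop, hφ, hinvφ, m, hm, hmφ⟩ := Agent.Char.dade_detection hp N hind hϑ hinv
  have := Fintype.ofFinite (N.subgroupOf E)
  let e : ↥(E ⊓ N) ≃* N.subgroupOf E :=
    { toFun := fun x => ⟨⟨(x : G), x.2.1⟩, x.2.2⟩
      invFun := fun d => ⟨((d : E) : G), (d : E).2, d.2⟩
      left_inv := fun x => rfl
      right_inv := fun d => rfl
      map_mul' := fun x y => rfl }
  have hθc : IsCharacter (N.subgroupOf E) (fun d : N.subgroupOf E => ϑ ⟨((d : E) : G), d.2⟩) :=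
    Agent.Char.IsCharacter.comp_hom (Agent.Char.IsIrrCharacter.isCharacter hϑ)
      (MonoidHom.codRestrict (E.subtype.comp (N.subgroupOf E).subtype) N fun d => d.2)
  obtain ⟨k, hk⟩ := Agent.Char.IsCharacter.classInner_nat hθc (Agent.Char.IsIrrCharacter.isCharacter hφ)
  refine ⟨E, fun x => φ (e x), hE, htop, Agent.Char.IsIrrCharacter.comp_equiv hφ e, ?_, k, ?_, ?_⟩
  · intro g hg x
    have h := congrFun (hinvφ ⟨g, hg⟩) (e ⟨g * x * g⁻¹, ⟨(E.mul_mem (E.mul_mem hg x.2.1) (E.inv_mem hg)),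
      hN.conj_mem (x : G) x.2.2 g⟩⟩)
    rw [CliffordChar.conjFun_apply] at h
    refine h.symm.trans (congrArg φ (Subtype.ext (Subtype.ext ?_)))
    simp [e, mul_assoc]
  · intro hd
    refine hm ?_
    obtain ⟨c, rfl⟩ := hd
    refine ⟨c, ?_⟩
    have : ((m : ℤ) : ℂ) = ((p * c : ℕ) : ℂ) := hmφ.symm.trans hk
    exact_mod_cast this
  · rw [finsum_eq_sum_of_fintype, ← hk, ← Agent.Char.classInner_comp_equiv e
      (fun d : N.subgroupOf E => ϑ ⟨((d : E) : G), d.2⟩) φ]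
    rfl

end Cfsg.Agent.S0896
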