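import Cfsg.Statements.S0897
import Cfsg.Agent.Lib.Char.Dade
import Cfsg.Agent.Lib.Char.PRegular
import Cfsg.Agent.Lib.Char.Monomial
import Cfsg.Agent.S0887

set_option autoImplicit false
open Cfsg
open scoped ComplexConjugate Pointwise

namespace Cfsg.Agent.S0897

/-- Mackey for a product `E N = G` tested against an invariant character of `N`. -/
theorem inner_ind {G : Type*} [Group G] [Fintype G] (N : Subgroup G) [hN : N.Normal] [Fintype N]
    (E : Subgroup G) [Fintype E] [Fintype (N.subgroupOf E)] (htop : E ⊔ N = ⊤) (f : E → ℂ)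
    (ϑ : N → ℂ) (hinv : ∀ (g : G) (n : N), ϑ ⟨g * n * g⁻¹, hN.conj_mem (n : G) n.2 g⟩ = ϑ n) :
    classInner (fun n : N => Cfsg.indFun E f n) ϑ =
      classInner (fun d : N.subgroupOf E => f (d : E))
        (fun d : N.subgroupOf E => ϑ ⟨((d : E) : G), d.2⟩) := by
  classical
  let r : N.subgroupOf E → N := fun d => ⟨((d : E) : G), d.2⟩
  have hx : ∀ x : G, ∑ n : N, extendByZero E f (x⁻¹ * n * x) * conj (ϑ n) =
      ∑ d : N.subgroupOf E, f (d : E) * conj (ϑ (r d)) := by
    intro x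
    have hsub : ∑ d : N.subgroupOf E, f (d : E) * conj (ϑ (r d)) =
        ∑ n : N, extendByZero E f (n : G) * conj (ϑ n) := by
      rw [← Finset.sum_filter_of_ne (s := Finset.univ) (p := fun n : N => (n : G) ∈ E)
        (fun n _ h => by
          by_contra hn
          rw [Agent.Char.extendByZero_not_mem _ _ hn, zero_mul] at h
          exact h rfl)]
      refine (Finset.sum_bij (fun d _ => r d) ?_ ?_ ?_ ?_)
      · intro d _; exact Finset.mem_filter.2 ⟨Finset.mem_univ _, (d : E).2⟩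
      · intro d _ d' _ h
        exact Subtype.ext (Subtype.ext (congrArg (fun t : N => (t : G)) h))
      · intro n hn
        exact ⟨⟨⟨n, (Finset.mem_filter.1 hn).2⟩, n.2⟩, Finset.mem_univ _, rfl⟩
      · intro d _
        rw [show ((r d : N) : G) = ((d : E) : G) from rfl, Agent.Char.extendByZero_coe]
    rw [hsub]
    refine Fintype.sum_equiv (MulAut.conjNormal x⁻¹ : MulAut N).toEquiv _ _ fun n => ?_
    have e : ϑ ((MulAut.conjNormal x⁻¹ : MulAut N) n) = ϑ n := by
      rw [← hinv x⁻¹ n]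
      congr 1
    rw [show ϑ ((MulAut.conjNormal x⁻¹ : MulAut N).toEquiv n) = ϑ n from e]
    congr 2
    simp
  have hD : (N.subgroupOf E).index = N.index := by
    rw [show (N.subgroupOf E).index = N.relIndex E from rfl, ← Subgroup.relIndex_sup_right, htop,
      Subgroup.relIndex_top_right]
  simp only [classInner, Cfsg.indFun, mul_assoc (Nat.card E : ℂ)⁻¹, ← Finset.mul_sum, Finset.sum_mul]
  rw [Finset.sum_comm, Finset.sum_congr rfl fun x _ => hx x, Finset.sum_const, Finset.card_univ,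
    nsmul_eq_mul, ← Nat.card_eq_fintype_card, ← N.index_mul_card,
    ← (N.subgroupOf E).index_mul_card, hD]
  have : (N.index : ℂ) ≠ 0 := Nat.cast_ne_zero.2 Subgroup.index_ne_zero_of_finite
  have : (Nat.card N : ℂ) ≠ 0 := Nat.cast_ne_zero.2 Nat.card_pos.ne'
  have : (Nat.card (N.subgroupOf E) : ℂ) ≠ 0 := Nat.cast_ne_zero.2 Nat.card_pos.ne'
  push_cast
  field_simp
  rfl

/-- Let N be a normal subgroup of the finite group G with the index of N a power of the prime p, and P a Sylow p-subgroup of G such that P ⊓ N lies in the centre of P and every character of degree 1 of P ⊓ N is the restriction of a character of degree 1 of P. Then every irreducible character of N invariant under conjugation by G is the restriction of an irreducible character of G. -/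
theorem result {G : Type*} [Group G] [Fintype G] (p : ℕ) [Fact p.Prime] (N : Subgroup G) [hN : N.Normal] (hind : ∃ k : ℕ, N.index = p ^ k) (P : Sylow p G) (hcent : ∀ x ∈ (P : Subgroup G) ⊓ N, ∀ y ∈ (P : Subgroup G), x * y = y * x) (hlin : ∀ lam : ↥((P : Subgroup G) ⊓ N) → ℂ, Cfsg.IsCharacter ↥((P : Subgroup G) ⊓ N) lam → lam 1 = 1 → ∃ μ : ↥(P : Subgroup G) → ℂ, Cfsg.IsCharacter ↥(P : Subgroup G) μ ∧ μ 1 = 1 ∧ ∀ x : ↥((P : Subgroup G) ⊓ N), μ ⟨(x : G), x.2.1⟩ = lam x) (ϑ : N → ℂ) (hϑ : Cfsg.IsIrrCharacter N ϑ) (hinv : ∀ (g : G) (n : N), ϑ ⟨g * n * g⁻¹, hN.conj_mem (n : G) n.2 g⟩ = ϑ n) : ∃ χ : G → ℂ, Cfsg.IsIrrCharacter G χ ∧ ∀ n : N, χ n = ϑ n := by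
  classical
  have hp : p.Prime := Fact.out
  obtain ⟨E, φ, hE, htop, hφ, -, m, hm, hmφ⟩ := Agent.Char.dade_detection hp N hind hϑ hinv
  have hnil : Group.IsNilpotent E := Agent.Char.isNilpotent_of_isElementary hp hE
  obtain ⟨k, hk⟩ := hind
  obtain ⟨x, hx, hco, j, hj⟩ := hE
  have hcard : Nat.card E = p ^ j * orderOf x := by
    rw [← hj, ← Nat.card_zpowers, Subgroup.index_mul_card]
  obtain ⟨P', Q, e', he, -, hQ, hP'card, hQcard⟩ :=
    Agent.Char.exists_split (G := E) (hco.symm.pow_left j) hcard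
  have hxD : x ∈ N.subgroupOf E := by
    have hdvd : (N.subgroupOf E).index ∣ p ^ k := hk ▸ Subgroup.relIndex_dvd_index_of_normal N E
    have hc : (N.subgroupOf E).index.Coprime (orderOf x) :=
      ((hco.symm.pow_left k).coprime_dvd_left hdvd)
    obtain ⟨t, ht⟩ := exists_pow_eq_self_of_coprime hc
    exact ht ▸ pow_mem (Subgroup.pow_index_mem _ x) t
  have hQx : Subgroup.zpowers x = Q := by
    refine Subgroup.eq_of_le_of_card_ge ?_ (by rw [hQcard, Nat.card_zpowers])
    exact Subgroup.zpowers_le.2 ((hQ x).2 (pow_orderOf_eq_one x))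
  have hQD : Q ≤ N.subgroupOf E := hQx ▸ Subgroup.zpowers_le.2 hxD
  have hQc : Q ≤ Subgroup.center E := hQx ▸ Subgroup.zpowers_le.2 hx
  -- conjugate the p-part into P
  have hP' : IsPGroup p P' := IsPGroup.of_card hP'card
  obtain ⟨S, hS⟩ := (hP'.map E.subtype).exists_le_sylow
  obtain ⟨g, hg⟩ := MulAction.exists_smul_eq G S P
  have hconj : ∀ u : P', g * ((u : E) : G) * g⁻¹ ∈ (P : Subgroup G) := fun u => by
    have h1 : MulAut.conj g • ((u : E) : G) ∈ MulAut.conj g • (S : Subgroup G) :=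
      Subgroup.smul_mem_pointwise_smul _ _ _ (hS ⟨u, u.2, rfl⟩)
    rw [← hg]
    exact h1
  let jP : P' →* (P : Subgroup G) :=
    ((MulAut.conj g).toMonoidHom.comp (E.subtype.comp P'.subtype)).codRestrict _ hconj
  have hjinj : ∀ u u' : P', jP u = jP u' → u = u' := fun u u' h => by
    have := congrArg (fun t : (P : Subgroup G) => g⁻¹ * (t : G) * g) h
    simp only [jP] at this
    exact Subtype.ext (Subtype.ext (by simpa [mul_assoc] using this))
  have hjN : ∀ u : P', (u : E) ∈ N.subgroupOf E → (jP u : G) ∈ (P : Subgroup G) ⊓ N :=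
    fun u hu => ⟨(jP u).2, hN.conj_mem _ hu g⟩
  have hsplit : ∀ d : E, ∃ (u : P') (v : Q), d = (u : E) * v := fun d =>
    ⟨(e'.symm d).1, (e'.symm d).2, by rw [← he, Prod.mk.eta, e'.apply_symm_apply]⟩
  have hDc : N.subgroupOf E ≤ Subgroup.center E := by
    intro d hd
    obtain ⟨u, v, rfl⟩ := hsplit d
    refine mul_mem ?_ (hQc v.2)
    have hu : (u : E) ∈ N.subgroupOf E :=
      (Subgroup.mul_mem_cancel_right _ (hQD v.2)).1 hd
    rw [Subgroup.mem_center_iff]
    intro e
    obtain ⟨u', v', rfl⟩ := hsplit e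
    have h1 : u' * u = u * u' := hjinj _ _ (Subtype.ext (by
      rw [map_mul, map_mul]
      exact (hcent _ (hjN u hu) _ (jP u').2).symm))
    have hv := Subgroup.mem_center_iff.1 (hQc v'.2) (u : E)
    rw [mul_assoc, ← hv, ← mul_assoc, ← Subgroup.coe_mul, h1, Subgroup.coe_mul, mul_assoc]
  obtain ⟨l, hl⟩ := Agent.Char.exists_hom_of_degree_one (Agent.Char.IsIrrCharacter.isCharacter hφ)
    (Agent.Char.apply_one_eq_one_of_comm (fun a b => Subtype.ext
      (Subgroup.mem_center_iff.1 (hDc b.2) a)) ⟨φ, hφ⟩)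
  -- extend along P
  let K : Subgroup G := (P : Subgroup G) ⊓ N
  let instK : CommGroup K :=
    { (inferInstance : Group K) with
      mul_comm := fun a b => Subtype.ext (hcent _ a.2 _ b.2.1) }
  let A : Subgroup P' := (N.subgroupOf E).subgroupOf P'
  let i : A →* K := ((P : Subgroup G).subtype.comp (jP.comp A.subtype)).codRestrict K
    (fun a => hjN a.1 a.2)
  have hi : Function.Injective i := fun a b h => Subtype.ext (hjinj _ _ (Subtype.ext
    (congrArg (fun t : K => (t : G)) h)))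
  let lA : A →* ℂˣ := l.toHomUnits.comp
    ((P'.subtype.comp A.subtype).codRestrict (N.subgroupOf E) fun a => a.2)
  have : NeZero ((Monoid.exponent K : ℕ) : ℂ) :=
    ⟨Nat.cast_ne_zero.2 Monoid.exponent_ne_zero_of_finite⟩
  obtain ⟨L, hL⟩ := MonoidHom.domRestrict_surjective ℂ i.range
    (lA.comp (MonoidHom.ofInjective hi).symm.toMonoidHom)
  obtain ⟨μ, hμ, hμ1, hμL⟩ := hlin _ (Agent.Char.isCharacter_of_hom ((Units.coeHom ℂ).comp L))
    (by simp)
  obtain ⟨μh, rfl⟩ := Agent.Char.exists_hom_of_degree_one hμ hμ1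
  let η : E →* ℂ := (((μh.comp jP).comp (MonoidHom.fst P' Q)) *
    ((l.comp (Subgroup.inclusion hQD)).comp (MonoidHom.snd P' Q))).comp e'.symm.toMonoidHom
  have hη : ∀ d : N.subgroupOf E, η (d : E) = φ d := by
    intro d
    obtain ⟨u, v, huv⟩ := hsplit (d : E)
    have hu : (u : E) ∈ N.subgroupOf E :=
      (Subgroup.mul_mem_cancel_right _ (hQD v.2)).1 (huv ▸ d.2)
    have hAu : μh (jP u) = l ⟨(u : E), hu⟩ := by
      have h1 := hμL ⟨(jP u : G), hjN u hu⟩
      have h2 := DFunLike.congr_fun hL (MonoidHom.ofInjective hi ⟨u, hu⟩)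
      simp only [MonoidHom.coe_comp, Function.comp_apply, MulEquiv.coe_toMonoidHom,
        MulEquiv.symm_apply_apply] at h2
      refine h1.trans ?_
      exact congrArg Units.val h2
    have hed : e'.symm (d : E) = (u, v) := by rw [huv, ← he, e'.symm_apply_apply]
    rw [← hl]
    show μh (jP (e'.symm (d : E)).1) * l (Subgroup.inclusion hQD (e'.symm (d : E)).2) = l d
    rw [hed, hAu, ← map_mul]
    exact congrArg l (Subtype.ext huv.symm)
  have := Fintype.ofFinite E
  have := Fintype.ofFinite N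
  have := Fintype.ofFinite (N.subgroupOf E)
  have := Fintype.ofFinite (IrrCharacter G)
  have hM : classInner (fun n : N => Cfsg.indFun E η n) ϑ = (m : ℂ) := by
    rw [inner_ind N E htop η ϑ hinv]
    simp only [hη]
    rw [← Agent.Char.classInner_conj_symm, hmφ, map_intCast]
  obtain ⟨a, ha, -⟩ := Agent.Char.IsCharacter.decompose
    (Agent.Char.IsCharacter.indFun E (Agent.Char.isCharacter_of_hom η))
  have hb : ∀ χ : IrrCharacter G, ∃ b : ℕ, classInner (fun n : N => (χ : G → ℂ) n) ϑ = b :=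
    fun χ => Agent.Char.IsCharacter.classInner_nat
      (Agent.Char.IsCharacter.restrict (Agent.Char.IsIrrCharacter.isCharacter χ.2) N)
      (Agent.Char.IsIrrCharacter.isCharacter hϑ)
  choose b hb using hb
  have hsum : (m : ℂ) = ((∑ χ, a χ * b χ : ℕ) : ℂ) := by
    rw [← hM, ha, show (fun n : N => (∑ χ : IrrCharacter G, (a χ : ℂ) • (χ : G → ℂ)) (n : G)) =
      ∑ χ : IrrCharacter G, (a χ : ℂ) • (fun n : N => (χ : G → ℂ) n) from
        funext fun n => by simp [Finset.sum_apply], Agent.Char.classInner_sum_left]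
    simp only [Agent.Char.classInner_smul_left, hb]
    push_cast; rfl
  obtain ⟨χ, hχ⟩ : ∃ χ, ¬ p ∣ b χ := by
    by_contra hall
    push Not at hall
    refine hm ?_
    have : m = ((∑ χ, a χ * b χ : ℕ) : ℤ) := by exact_mod_cast hsum
    rw [this]
    exact Int.natCast_dvd_natCast.2 (Finset.dvd_sum fun χ _ => dvd_mul_of_dvd_right (hall χ) _)
  have hbne : b χ ≠ 0 := fun h => hχ (h ▸ dvd_zero p)
  have hinv' : ∀ g : G, CliffordChar.conjFun N g ϑ = ϑ := fun g => by
    funext n
    rw [CliffordChar.conjFun_apply, ← hinv g⁻¹ n]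
    congr 1
    exact Subtype.ext (by simp)
  obtain ⟨hdiv, -⟩ := Agent.S0887.invariant_case N (χ : G → ℂ) χ.2 ϑ hϑ hinv' (b χ) (hb χ) hbne
  have hb1 : b χ = 1 := by
    rw [hk] at hdiv
    obtain ⟨i, -, hi⟩ := (Nat.dvd_prime_pow hp).1 hdiv
    rcases i with _ | i
    · simpa using hi
    · exact absurd (hi ▸ dvd_pow_self p i.succ_ne_zero) hχ
  refine ⟨χ, χ.2, fun n => ?_⟩
  have hr := congrFun (CliffordChar.restrict_eq N χ.2 hϑ
    (by rw [hb χ, hb1]; simp)) n
  rw [hb χ, hb1, CliffordChar.orbitSum, Agent.Char.classInner_sum_left] at hr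
  simp only [hinv', Agent.Char.classInner_irr_self hϑ, Finset.sum_const, Pi.smul_apply,
    nsmul_eq_mul, mul_one, Nat.cast_one, smul_eq_mul] at hr
  rw [hr, Pi.mul_apply, Pi.natCast_apply, ← mul_assoc, one_div, inv_mul_cancel₀ (Nat.cast_ne_zero.2 Finset.univ_nonempty.card_ne_zero),
    one_mul]

end Cfsg.Agent.S0897
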