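import Cfsg.Statements.S0900
import Cfsg.Agent.Lib.Char.Induced

set_option autoImplicit false
open Cfsg

namespace Cfsg.Agent.S0900

open Cfsg.Agent.Char
open scoped ComplexConjugate

theorem ind_restrict {G : Type*} [Group G] [Fintype G] (N : Subgroup G) [hN : N.Normal]
    {ϑ : N → ℂ} (hinv : ∀ (g : G) (n : N), ϑ ⟨g * n * g⁻¹, hN.conj_mem (n : G) n.2 g⟩ = ϑ n)
    (n : N) : Cfsg.indFun N ϑ n = (N.index : ℂ) * ϑ n := by
  have hx : ∀ x : G, extendByZero N ϑ (x⁻¹ * n * x) = ϑ n := by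
    intro x
    have hm : x⁻¹ * (n : G) * x ∈ N := by simpa using hN.conj_mem (n : G) n.2 x⁻¹
    rw [extendByZero_mem _ _ hm, ← hinv x⁻¹ n]
    congr 1
    exact Subtype.ext (by simp)
  rw [Cfsg.indFun, Finset.sum_congr rfl fun x _ => hx x, Finset.sum_const, Finset.card_univ,
    nsmul_eq_mul, ← Nat.card_eq_fintype_card, ← N.index_mul_card, Nat.cast_mul]
  have : (Nat.card N : ℂ) ≠ 0 := Nat.cast_ne_zero.2 Nat.card_pos.ne'
  field_simp

/-- The norm of a restriction, for a function vanishing outside the subgroup. -/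
theorem inner_eq_of_vanish {G : Type*} [Group G] [Fintype G] (N : Subgroup G) [Fintype N]
    {χ : G → ℂ} (hv : ∀ g, g ∉ N → χ g = 0) :
    (Nat.card G : ℂ) * classInner χ χ =
      (Nat.card N : ℂ) * classInner (fun n : N => χ n) (fun n : N => χ n) := by
  classical
  rw [card_mul_classInner, card_mul_classInner,
    ← Finset.sum_filter_add_sum_filter_not Finset.univ (· ∈ N),
    Finset.sum_eq_zero (s := Finset.univ.filter fun g => ¬ g ∈ N) fun g hg => by
      rw [hv g (Finset.mem_filter.1 hg).2, zero_mul], add_zero,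
    Finset.sum_subtype (p := (· ∈ N)) _ (fun g => by simp) (fun g => χ g * conj (χ g))]

/-- Fully ramified characters. -/
theorem result {G : Type*} [Group G] [Fintype G] (N : Subgroup G) [hN : N.Normal] [Fintype N] (χ : G → ℂ) (hχ : Cfsg.IsIrrCharacter G χ) (ϑ : N → ℂ) (hϑ : Cfsg.IsIrrCharacter N ϑ) (hcon : Cfsg.classInner (fun n : N => χ n) ϑ ≠ 0) : ((∃ e : ℕ, (fun n : N => χ n) = (e : ℂ) • ϑ ∧ e ^ 2 = N.index) ↔ ((∀ g : G, g ∉ N → χ g = 0) ∧ ∀ (g : G) (n : N), ϑ ⟨g * n * g⁻¹, hN.conj_mem (n : G) n.2 g⟩ = ϑ n)) ∧ ((∃ e : ℕ, (fun n : N => χ n) = (e : ℂ) • ϑ ∧ e ^ 2 = N.index) ↔ (∀ (g : G) (n : N), ϑ ⟨g * n * g⁻¹, hN.conj_mem (n : G) n.2 g⟩ = ϑ n ∧ ∀ ψ : G → ℂ, Cfsg.IsIrrCharacter G ψ → Cfsg.classInner (Cfsg.indFun N ϑ) ψ ≠ 0 → ψ = χ)) := by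
  classical
  have := Fintype.ofFinite (IrrCharacter G)
  have := Fintype.ofFinite (IrrCharacter N)
  set P := ∃ e : ℕ, (fun n : N => χ n) = (e : ℂ) • ϑ ∧ e ^ 2 = N.index
  set Inv := ∀ (g : G) (n : N), ϑ ⟨g * n * g⁻¹, hN.conj_mem (n : G) n.2 g⟩ = ϑ n
  set Uniq := ∀ ψ : G → ℂ, Cfsg.IsIrrCharacter G ψ →
    Cfsg.classInner (Cfsg.indFun N ϑ) ψ ≠ 0 → ψ = χ
  have hGN : (Nat.card G : ℂ) = (N.index : ℂ) * (Nat.card N : ℂ) := by
    rw [← Nat.cast_mul, N.index_mul_card]
  have hN0 : (Nat.card N : ℂ) ≠ 0 := Nat.cast_ne_zero.2 Nat.card_pos.ne'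
  have hsq : ∀ e : ℕ, (fun n : N => χ n) = (e : ℂ) • ϑ →
      classInner (fun n : N => χ n) (fun n : N => χ n) = (e : ℂ) ^ 2 := by
    intro e he
    rw [he, classInner_smul_left, classInner_smul_right, classInner_irr_self hϑ, map_natCast]
    ring
  -- invariance turns the restriction into a multiple
  have hmul : Inv → ∃ e : ℕ, 0 < e ∧ (fun n : N => χ n) = (e : ℂ) • ϑ ∧
      classInner (Cfsg.indFun N ϑ) χ = e := by
    intro hinv
    obtain ⟨m, hm, hm'⟩ := IsCharacter.decompose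
      (IsCharacter.restrict (IsIrrCharacter.isCharacter hχ) N)
    obtain ⟨k, hk, hk'⟩ := IsCharacter.decompose
      (IsCharacter.indFun N (IsIrrCharacter.isCharacter hϑ))
    have hχk : k ⟨χ, hχ⟩ = m ⟨ϑ, hϑ⟩ := by
      have h1 := hk' ⟨χ, hχ⟩
      rw [frobenius_reciprocity N ϑ (IsIrrCharacter.isClassFunction hχ), ← classInner_conj_symm,
        hm' ⟨ϑ, hϑ⟩, map_natCast] at h1
      exact_mod_cast h1.symm
    have hmpos : 0 < m ⟨ϑ, hϑ⟩ := by
      refine Nat.pos_of_ne_zero fun h0 => hcon ?_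
      rw [hm' ⟨ϑ, hϑ⟩, h0, Nat.cast_zero]
    refine ⟨m ⟨ϑ, hϑ⟩, hmpos, ?_, ?_⟩
    · have hres : (fun n : N => Cfsg.indFun N ϑ n) = (N.index : ℂ) • ϑ :=
        funext fun n => ind_restrict N hinv n
      have hother : ∀ φ : IrrCharacter N, φ ≠ ⟨ϑ, hϑ⟩ → m φ = 0 := by
        intro φ hφ
        have hz : classInner (fun n : N => Cfsg.indFun N ϑ n) (φ : N → ℂ) = 0 := by
          rw [hres, classInner_smul_left,
            classInner_irr_of_ne hϑ φ.2 (fun e => hφ (Subtype.ext e.symm)), mul_zero]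
        obtain ⟨r, hr⟩ : ∃ r : IrrCharacter G → ℕ, ∀ ψ : IrrCharacter G,
            classInner (fun n : N => (ψ : G → ℂ) n) (φ : N → ℂ) = r ψ :=
          ⟨fun ψ => (IsCharacter.classInner_nat
            (IsCharacter.restrict (IsIrrCharacter.isCharacter ψ.2) N)
            (IsIrrCharacter.isCharacter φ.2)).choose,
           fun ψ => (IsCharacter.classInner_nat
            (IsCharacter.restrict (IsIrrCharacter.isCharacter ψ.2) N)
            (IsIrrCharacter.isCharacter φ.2)).choose_spec⟩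
        have e : (fun n : N => Cfsg.indFun N ϑ n) =
            ∑ ψ : IrrCharacter G, (k ψ : ℂ) • fun n : N => (ψ : G → ℂ) n := by
          funext n
          rw [congrFun hk n]
          simp [Finset.sum_apply]
        rw [e, classInner_sum_left] at hz
        simp only [classInner_smul_left, hr] at hz
        have hz' : ∑ ψ : IrrCharacter G, k ψ * r ψ = 0 := by exact_mod_cast hz
        have h2 := (Finset.sum_eq_zero_iff.1 hz') ⟨χ, hχ⟩ (Finset.mem_univ _)
        rw [hχk] at h2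
        have h3 := (Nat.mul_eq_zero.1 h2).resolve_left hmpos.ne'
        have h4 := (hm' φ).symm.trans (hr ⟨χ, hχ⟩)
        rw [h3] at h4
        exact_mod_cast h4
      rw [hm, Finset.sum_eq_single (⟨ϑ, hϑ⟩ : IrrCharacter N)
        (fun φ _ hφ => by simp [hother φ hφ]) (fun h => absurd (Finset.mem_univ _) h)]
    · rw [hk' ⟨χ, hχ⟩, hχk]
  -- the first equivalence
  have hA : P → (∀ g : G, g ∉ N → χ g = 0) ∧ Inv := by
    rintro ⟨e, he, hidx⟩
    have h1 := card_mul_classInner χ χ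
    rw [classInner_irr_self hχ, mul_one, hGN] at h1
    have h2 := card_mul_classInner (fun n : N => χ n) (fun n : N => χ n)
    rw [hsq e he, show (e : ℂ) ^ 2 = (N.index : ℂ) by rw [← hidx]; push_cast; rfl] at h2
    refine ⟨fun g hg => ?_, fun g n => ?_⟩
    · have hs : ∑ x ∈ Finset.univ.filter (fun x => ¬ x ∈ N), χ x * conj (χ x) = 0 := by
        rw [← Finset.sum_filter_add_sum_filter_not Finset.univ (· ∈ N),
          Finset.sum_subtype (p := (· ∈ N)) _ (fun x => by simp) (fun x => χ x * conj (χ x))] at h1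
        linear_combination h2 - h1
      have hs' : ∑ x ∈ Finset.univ.filter (fun x => ¬ x ∈ N), ‖χ x‖ ^ 2 = 0 := by
        simp only [Complex.mul_conj'] at hs
        exact_mod_cast hs
      simpa using (Finset.sum_eq_zero_iff_of_nonneg fun x _ => sq_nonneg ‖χ x‖).1 hs' g
        (Finset.mem_filter.2 ⟨Finset.mem_univ _, hg⟩)
    · have he0 : (e : ℂ) ≠ 0 := by
        intro h0
        have : e = 0 := by exact_mod_cast h0
        subst this
        exact Subgroup.index_ne_zero_of_finite hidx.symm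
      refine mul_left_cancel₀ he0 ?_
      have h3 := congrFun he ⟨g * n * g⁻¹, hN.conj_mem (n : G) n.2 g⟩
      have h4 := congrFun he n
      simp only [Pi.smul_apply, smul_eq_mul] at h3 h4
      rw [← h3, ← h4]
      exact IsIrrCharacter.isClassFunction hχ n g
  have hB : (∀ g : G, g ∉ N → χ g = 0) → Inv → P := by
    intro hv hinv
    obtain ⟨e, -, he, -⟩ := hmul hinv
    refine ⟨e, he, ?_⟩
    have h := inner_eq_of_vanish N hv
    rw [classInner_irr_self hχ, mul_one, hsq e he, hGN, mul_comm (N.index : ℂ)] at h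
    exact_mod_cast (mul_left_cancel₀ hN0 h).symm
  -- the second equivalence
  have hC : Inv → Uniq → P := by
    intro hinv huniq
    obtain ⟨e, hepos, he, hin⟩ := hmul hinv
    obtain ⟨k, hk, hk'⟩ := IsCharacter.decompose
      (IsCharacter.indFun N (IsIrrCharacter.isCharacter hϑ))
    have hind : Cfsg.indFun N ϑ = (e : ℂ) • χ := by
      rw [hk, Finset.sum_eq_single (⟨χ, hχ⟩ : IrrCharacter G)]
      · rw [← hk', hin]
      · intro ψ _ hψ
        have : k ψ = 0 := by
          by_contra hne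
          refine hψ (Subtype.ext (huniq ψ ψ.2 ?_))
          rw [hk']
          exact_mod_cast hne
        simp [this]
      · exact fun h => absurd (Finset.mem_univ _) h
    refine ⟨e, he, ?_⟩
    have h1 := congrFun hind ((1 : N) : G)
    have h2 := congrFun he (1 : N)
    simp only [Pi.smul_apply, smul_eq_mul] at h1 h2
    rw [ind_restrict N hinv, h2] at h1
    have : ((e : ℂ) * e - N.index) * ϑ 1 = 0 := by linear_combination -h1
    have h3 := (mul_eq_zero.1 this).resolve_right (IsIrrCharacter.apply_one_ne_zero hϑ)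
    rw [sub_eq_zero] at h3
    have h4 : e * e = N.index := by exact_mod_cast h3
    rw [pow_two, h4]
  have hD : P → Inv → Uniq := by
    rintro ⟨e, he, hidx⟩ hinv ψ hψ hne
    by_contra hneq
    obtain ⟨k, hk, hk'⟩ := IsCharacter.decompose
      (IsCharacter.indFun N (IsIrrCharacter.isCharacter hϑ))
    have hres : (fun n : N => Cfsg.indFun N ϑ n) = (N.index : ℂ) • ϑ :=
      funext fun n => ind_restrict N hinv n
    have hnorm : classInner (Cfsg.indFun N ϑ) (Cfsg.indFun N ϑ) = (N.index : ℂ) := by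
      rw [frobenius_reciprocity N ϑ (indFun_isClassFunction N ϑ), hres, classInner_smul_right,
        classInner_irr_self hϑ, map_natCast, mul_one]
    have hsum : ∑ φ : IrrCharacter G, k φ ^ 2 = N.index := by
      rw [classInner_eq_sum (indFun_isClassFunction N ϑ)] at hnorm
      simp only [hk', map_natCast, ← pow_two] at hnorm
      exact_mod_cast hnorm
    have hkχ : k ⟨χ, hχ⟩ = e := by
      have h1 := hk' ⟨χ, hχ⟩
      rw [frobenius_reciprocity N ϑ (IsIrrCharacter.isClassFunction hχ), he, classInner_smul_right,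
        classInner_irr_self hϑ, map_natCast, mul_one] at h1
      exact_mod_cast h1.symm
    have hkψ : k ⟨ψ, hψ⟩ ≠ 0 := fun h0 => hne (by rw [hk' ⟨ψ, hψ⟩, h0, Nat.cast_zero])
    have hle := Finset.sum_le_sum_of_subset_of_nonneg (f := fun φ => k φ ^ 2)
      (Finset.subset_univ ({⟨χ, hχ⟩, ⟨ψ, hψ⟩} : Finset (IrrCharacter G))) (fun _ _ _ => Nat.zero_le _)
    rw [Finset.sum_pair (fun h => hneq (congrArg Subtype.val h).symm), hsum, hkχ, hidx] at hle
    have : 0 < k ⟨ψ, hψ⟩ ^ 2 := pow_pos (Nat.pos_of_ne_zero hkψ) 2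
    omega
  refine ⟨⟨hA, fun h => hB h.1 h.2⟩, ⟨fun h g n => ⟨(hA h).2 g n, hD h (hA h).2⟩, fun h => ?_⟩⟩
  exact hC (fun g n => (h g n).1) (h 1 1).2

end Cfsg.Agent.S0900
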