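import Cfsg.Statements.S0901
import Cfsg.Agent.Lib.Blocks.Local

set_option autoImplicit false
open Cfsg

namespace Cfsg.Agent.S0901

theorem eq_of_sub_mem {p : ℕ} {M : Ideal AlgInt} (hM : IsPModular p M) {ε₁ ε₂ : AlgInt}
    {m₁ m₂ : ℕ} (hm₁ : ¬ p ∣ m₁) (hm₂ : ¬ p ∣ m₂) (h₁ : (ε₁ : ℂ) ^ m₁ = 1)
    (h₂ : (ε₂ : ℂ) ^ m₂ = 1) (hsub : ε₁ - ε₂ ∈ M) : ε₁ = ε₂ := by
  have h0 : m₂ ≠ 0 := fun h => hm₂ (h ▸ dvd_zero p)
  have hne : (ε₂ : ℂ) ≠ 0 := fun h => by simp [h, zero_pow h0] at h₂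
  let ζ : ℂ := (ε₁ : ℂ) / ε₂
  by_contra hne'
  have hζ1 : ζ ≠ 1 := fun h => hne' (Subtype.ext (by simpa [ζ, div_eq_one_iff_eq hne] using h))
  have hm : ¬ p ∣ m₁ * m₂ := fun h => (hM.1.dvd_mul.mp h).elim hm₁ hm₂
  have hζm : ζ ^ (m₁ * m₂) = 1 := by
    simp only [ζ]
    rw [div_pow, pow_mul, h₁, one_pow, mul_comm, pow_mul, h₂, one_pow, div_one]
  have hgeom : ∑ i ∈ Finset.range (m₁ * m₂), ζ ^ i = 0 := by
    rw [geom_sum_eq hζ1, hζm, sub_self, zero_div]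
  have hζint : IsIntegral ℤ ζ :=
    IsIntegral.of_pow (Nat.pos_of_ne_zero (mul_ne_zero (fun h : m₁ = 0 => hm₁ (h ▸ dvd_zero p)) h0))
      (hζm ▸ isIntegral_one)
  have hζ : MemLocalIdeal M (ζ - 1) := by
    have h3 : ζ - 1 = (((ε₁ - ε₂ : AlgInt) : ℂ)) * ((ε₂ : ℂ) ^ (m₂ - 1)) := by
      have h4 : (ε₂ : ℂ)⁻¹ = (ε₂ : ℂ) ^ (m₂ - 1) := by
        apply inv_eq_of_mul_eq_one_left
        rw [← pow_succ, Nat.sub_add_cancel (Nat.pos_of_ne_zero h0), h₂]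
      rw [← h4]
      push_cast
      field_simp [ζ]
      simp only [ζ]
      field_simp
    rw [h3]
    exact Blocks.memI_mul_right hM ((Blocks.memI_coe hM).mpr hsub)
      (Blocks.memR_pow hM (Blocks.memR_coe hM _) _)
  have hcong : MemLocalIdeal M (∑ i ∈ Finset.range (m₁ * m₂), (ζ ^ i - 1)) := by
    refine Blocks.memI_sum hM _ fun i _ => ?_
    rw [← geom_sum_mul]
    exact Blocks.memI_mul_left hM
      (Blocks.memR_sum hM _ fun j _ => Blocks.memR_pow hM (Blocks.memR_of_isIntegral hM hζint) j) hζ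
  rw [Finset.sum_sub_distrib, hgeom, Finset.sum_const, Finset.card_range, nsmul_one, zero_sub] at hcong
  exact hm ((Blocks.memI_natCast hM).mp (neg_neg (((m₁ * m₂ : ℕ)) : ℂ) ▸ Blocks.memI_neg hcong))

theorem exists_root_congr {p : ℕ} {M : Ideal AlgInt} (hM : IsPModular p M) {a : AlgInt}
    (ha : a ∉ M) : ∃ ε : AlgInt, (∃ m : ℕ, ¬ p ∣ m ∧ (ε : ℂ) ^ m = 1) ∧ a - ε ∈ M := by
  classical
  haveI : Fact p.Prime := ⟨hM.1⟩
  haveI : M.IsMaximal := hM.2.1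
  letI : Field (AlgInt ⧸ M) := Ideal.Quotient.field M
  haveI : CharP (AlgInt ⧸ M) p :=
    by
    obtain ⟨q, hq⟩ := CharP.exists (AlgInt ⧸ M)
    have hp0 : ((p : ℕ) : AlgInt ⧸ M) = 0 := by
      rw [← map_natCast (Ideal.Quotient.mk M)]
      exact Ideal.Quotient.eq_zero_iff_mem.mpr hM.2.2
    have hqp : q = p := ((Nat.dvd_prime hM.1).mp ((CharP.cast_eq_zero_iff _ q p).mp hp0)).resolve_left (CharP.char_ne_one (AlgInt ⧸ M) q)
    exact hqp ▸ hq
  letI : Algebra (ZMod p) (AlgInt ⧸ M) := ZMod.algebra _ p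
  have hint : IsIntegral (ZMod p) (Ideal.Quotient.mk M a) := by
    have h1 : IsIntegral ℤ (Ideal.Quotient.mk M a) :=
      (Algebra.IsIntegral.isIntegral (R := ℤ) a).map (Ideal.Quotient.mkₐ ℤ M)
    exact h1.tower_top
  haveI := Algebra.finite_adjoin_simple_of_isIntegral hint
  let A := Algebra.adjoin (ZMod p) {Ideal.Quotient.mk M a}
  haveI : Finite A := Module.finite_of_finite (ZMod p)
  letI := Fintype.ofFinite A
  letI : Field A := Finite.isDomain_to_isField A |>.toField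
  let x : A := ⟨Ideal.Quotient.mk M a, Algebra.self_mem_adjoin_singleton _ _⟩
  have hx : x ≠ 0 := fun h => ha (Ideal.Quotient.eq_zero_iff_mem.mp (congrArg Subtype.val h))
  have hA : ¬ p ∣ Fintype.card A - 1 := by
    haveI : CharP A p := charP_of_injective_algebraMap (algebraMap (ZMod p) A).injective p
    obtain ⟨n, -, hn⟩ := FiniteField.card A p
    rw [hn]
    intro hd
    have h1 : p ∣ p ^ (n : ℕ) - (p ^ (n : ℕ) - 1) :=
      Nat.dvd_sub (dvd_pow_self p n.ne_zero) hd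
    rw [Nat.sub_sub_self (Nat.one_le_pow _ _ hM.1.pos)] at h1
    exact hM.1.not_dvd_one h1
  set m := Fintype.card A - 1 with hmdef
  have hm0 : m ≠ 0 := fun h => hA (h ▸ dvd_zero p)
  have hxm : (Ideal.Quotient.mk M a) ^ m = 1 :=
    congrArg Subtype.val (FiniteField.pow_card_sub_one_eq_one x hx)
  haveI : NeZero m := ⟨hm0⟩
  have hroot := Complex.isPrimitiveRoot_exp m hm0
  let ζ : AlgInt := ⟨_, IsIntegral.of_pow (Nat.pos_of_ne_zero hm0) (hroot.pow_eq_one ▸ isIntegral_one)⟩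
  have hζ : IsPrimitiveRoot ζ m :=
    IsPrimitiveRoot.of_map_of_injective (f := AlgInt.val) hroot Subtype.val_injective
  have hfac := Polynomial.X_pow_sub_one_eq_prod (Nat.pos_of_ne_zero hm0) hζ
  have h2 := congrArg (fun f : Polynomial AlgInt =>
    f.eval₂ (Ideal.Quotient.mk M) (Ideal.Quotient.mk M a)) hfac
  simp only [Polynomial.eval₂_sub, Polynomial.eval₂_pow, Polynomial.eval₂_X, Polynomial.eval₂_one,
    hxm, sub_self, Polynomial.eval₂_finsetProd, Polynomial.eval₂_C] at h2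
  obtain ⟨ε, hε, hε'⟩ := Finset.prod_eq_zero_iff.mp h2.symm
  refine ⟨ε, ⟨m, hA, ?_⟩, Ideal.Quotient.eq_zero_iff_mem.mp (by rw [map_sub, hε'])⟩
  have h3 := (Polynomial.mem_nthRootsFinset (Nat.pos_of_ne_zero hm0) (1 : AlgInt)).mp hε
  exact congrArg (fun z : AlgInt => (z : ℂ)) h3

/-- Let M be a maximal ideal of the ring of algebraic integers containing the prime p, and let U be the set of complex roots of unity of order prime to p. Then reduction modulo M is injective on U, and every algebraic integer not in M is congruent modulo M to an element of U (so U maps bijectively onto the nonzero residues). -/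
theorem result (p : ℕ) [Fact p.Prime] (M : Ideal Cfsg.AlgInt) (hM : Cfsg.IsPModular p M) : (∀ ε₁ ε₂ : Cfsg.AlgInt, (∃ m : ℕ, ¬ p ∣ m ∧ (ε₁ : ℂ) ^ m = 1) → (∃ m : ℕ, ¬ p ∣ m ∧ (ε₂ : ℂ) ^ m = 1) → ε₁ - ε₂ ∈ M → ε₁ = ε₂) ∧ (∀ a : Cfsg.AlgInt, a ∉ M → ∃ ε : Cfsg.AlgInt, (∃ m : ℕ, ¬ p ∣ m ∧ (ε : ℂ) ^ m = 1) ∧ a - ε ∈ M) := by
  classical
  constructor
  · rintro ε₁ ε₂ ⟨m₁, hm₁, h₁⟩ ⟨m₂, hm₂, h₂⟩ hsub
    exact eq_of_sub_mem hM hm₁ hm₂ h₁ h₂ hsub
  · intro a ha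
    exact exists_root_congr hM ha

end Cfsg.Agent.S0901
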