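import Cfsg.Statements.S0902
import Cfsg.Agent.Lib.Blocks.Induced

set_option autoImplicit false
open Cfsg

namespace Cfsg.Agent.S0902

/-- If two irreducible characters of a finite group lie in the same block relative to one maximal ideal M of the algebraic integers containing the prime p, then at every element the difference of their central characters is an algebraic integer lying in every maximal ideal containing p; in particular they lie in the same block relative to any such ideal. -/
theorem result {G : Type*} [Group G] [Finite G] (p : ℕ) [Fact p.Prime] (M : Ideal Cfsg.AlgInt) (hM : Cfsg.IsPModular p M) (χ ψ : Cfsg.IrrCharacter G) (h : Cfsg.SameBlock M (χ : G → ℂ) (ψ : G → ℂ)) (M' : Ideal Cfsg.AlgInt) (hM' : Cfsg.IsPModular p M') (g : G) : ∃ r : Cfsg.AlgInt, r ∈ M' ∧ (r : ℂ) = Cfsg.centralChar (χ : G → ℂ) g - Cfsg.centralChar (ψ : G → ℂ) g := by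
  set B := Cfsg.blockOf M (χ : G → ℂ)
  set B' := Cfsg.blockOf M' (χ : G → ℂ)
  have hB : Cfsg.IsPBlock M B := ⟨χ, rfl⟩
  have hint := Blocks.intRing_of_weak_orth hM' (A := B) fun x y hx hy =>
    Blocks.weak_orth hM (Blocks.blockInd_mem_intRing hM hB) hx hy
  have hint' := Blocks.intRing_of_weak_orth hM (A := B') fun x y hx hy =>
    Blocks.weak_orth hM' (Blocks.blockInd_mem_intRing hM' (B := B') ⟨χ, rfl⟩) hx hy
  have hψ : ψ ∈ B' := Blocks.mem_of_sameBlock hM hint' (Blocks.mem_blockOf_self hM' χ) h
  exact ⟨⟨_, (Blocks.isIntegral_centralChar χ g).sub (Blocks.isIntegral_centralChar ψ g)⟩,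
    (Blocks.memI_coe hM').mp (hψ g), rfl⟩

end Cfsg.Agent.S0902
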