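import Cfsg.Statements.S0903
import Cfsg.Agent.Lib.Blocks.OrbitSum

set_option autoImplicit false
open Cfsg

namespace Cfsg.Agent.S0903

/-- Let P be a p-subgroup of the finite group G, let c centralize P and let g, h ∈ G. The number of pairs (x, y) with x conjugate to g, y conjugate to h and x * y = c is congruent modulo p to the number of such pairs in which x and y both centralize P. (This is why the Brauer map on class sums is multiplicative.) -/
theorem result {G : Type*} [Group G] [Finite G] (p : ℕ) [Fact p.Prime] (P : Subgroup G) (hP : IsPGroup p P) (c : G) (hc : c ∈ Subgroup.centralizer (P : Set G)) (g h : G) : Nat.card {xy : G × G // IsConj g xy.1 ∧ IsConj h xy.2 ∧ xy.1 * xy.2 = c} ≡ Nat.card {xy : G × G // IsConj g xy.1 ∧ IsConj h xy.2 ∧ xy.1 * xy.2 = c ∧ xy.1 ∈ Subgroup.centralizer (P : Set G) ∧ xy.2 ∈ Subgroup.centralizer (P : Set G)} [MOD p] := by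
  classical
  let α := {xy : G × G // IsConj g xy.1 ∧ IsConj h xy.2 ∧ xy.1 * xy.2 = c}
  have hact : ∀ (u : P) (a : α), IsConj g ((u : G) * a.1.1 * (u : G)⁻¹) ∧
      IsConj h ((u : G) * a.1.2 * (u : G)⁻¹) ∧
      ((u : G) * a.1.1 * (u : G)⁻¹) * ((u : G) * a.1.2 * (u : G)⁻¹) = c := by
    intro u a
    refine ⟨a.2.1.trans (isConj_iff.mpr ⟨u, rfl⟩), a.2.2.1.trans (isConj_iff.mpr ⟨u, rfl⟩), ?_⟩
    have hcu : (u : G) * c = c * u := (Subgroup.mem_centralizer_iff.mp hc u u.2)
    calc _ = (u : G) * (a.1.1 * a.1.2) * (u : G)⁻¹ := by group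
      _ = c := by rw [a.2.2.2, hcu, mul_inv_cancel_right]
  letI : MulAction P α :=
    { smul := fun u a => ⟨(_, _), hact u a⟩
      one_smul := fun a => Subtype.ext (Prod.ext
        (show ((1 : P) : G) * a.1.1 * ((1 : P) : G)⁻¹ = _ by simp)
        (show ((1 : P) : G) * a.1.2 * ((1 : P) : G)⁻¹ = _ by simp))
      mul_smul := fun u v a => Subtype.ext (Prod.ext
        (show ((u * v : P) : G) * a.1.1 * ((u * v : P) : G)⁻¹
          = (u : G) * ((v : G) * a.1.1 * (v : G)⁻¹) * (u : G)⁻¹ by simp [mul_assoc])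
        (show ((u * v : P) : G) * a.1.2 * ((u * v : P) : G)⁻¹
          = (u : G) * ((v : G) * a.1.2 * (v : G)⁻¹) * (u : G)⁻¹ by simp [mul_assoc])) }
  have hfix : ∀ a : α, a ∈ MulAction.fixedPoints P α ↔
      a.1.1 ∈ Subgroup.centralizer (P : Set G) ∧ a.1.2 ∈ Subgroup.centralizer (P : Set G) := by
    intro a
    simp only [MulAction.mem_fixedPoints, Subgroup.mem_centralizer_iff, SetLike.mem_coe]
    constructor
    · intro hfa
      constructor <;> intro u hu
      · exact mul_inv_eq_iff_eq_mul.mp (congrArg (fun b : α => b.1.1) (hfa ⟨u, hu⟩))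
      · exact mul_inv_eq_iff_eq_mul.mp (congrArg (fun b : α => b.1.2) (hfa ⟨u, hu⟩))
    · rintro ⟨h1, h2⟩ u
      exact Subtype.ext (Prod.ext (mul_inv_eq_iff_eq_mul.mpr (h1 u u.2))
        (mul_inv_eq_iff_eq_mul.mpr (h2 u u.2)))
  have e : MulAction.fixedPoints P α ≃ {xy : G × G // IsConj g xy.1 ∧ IsConj h xy.2 ∧
      xy.1 * xy.2 = c ∧ xy.1 ∈ Subgroup.centralizer (P : Set G) ∧
      xy.2 ∈ Subgroup.centralizer (P : Set G)} :=
    { toFun := fun a => ⟨a.1.1, a.1.2.1, a.1.2.2.1, a.1.2.2.2, (hfix a.1).mp a.2⟩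
      invFun := fun b => ⟨⟨b.1, b.2.1, b.2.2.1, b.2.2.2.1⟩, (hfix _).mpr b.2.2.2.2⟩
      left_inv := fun _ => rfl
      right_inv := fun _ => rfl }
  rw [← Nat.card_congr e]
  exact hP.card_modEq_card_fixedPoints α

end Cfsg.Agent.S0903
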