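import Cfsg.Statements.S0905
import Cfsg.Agent.Lib.Blocks.Nilpotent
import Cfsg.Agent.Lib.Cores.Basic

set_option autoImplicit false
open Cfsg

namespace Cfsg.Agent.S0905

/-- Let F be a field of characteristic p and let g be an element of the finite group G no conjugate of which centralizes O_p(G). Then the class sum of g is a nilpotent element of the group algebra F[G]. -/
theorem result {G : Type*} [Group G] [Finite G] (p : ℕ) [Fact p.Prime] (F : Type*) [Field F] [CharP F p] (g : G) (hg : ∀ x : G, IsConj g x → x ∉ Subgroup.centralizer (Cfsg.pCore p G : Set G)) : IsNilpotent (∑ᶠ x ∈ ConjClasses.carrier (ConjClasses.mk g), MonoidAlgebra.single x (1 : F) : MonoidAlgebra F G) := by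
  classical
  have := Fintype.ofFinite G
  have hsum : (∑ᶠ x ∈ ConjClasses.carrier (ConjClasses.mk g), MonoidAlgebra.single x (1 : F) :
      MonoidAlgebra F G) = ∑ x, if IsConj g x then MonoidAlgebra.single x (1 : F) else 0 := by
    rw [← finsum_eq_sum_of_fintype]
    refine finsum_congr fun x => ?_
    simp only [ConjClasses.mem_carrier_iff_mk_eq, ConjClasses.mk_eq_mk_iff_isConj, isConj_comm (g := g)]
    rw [finsum_eq_if]
  rw [hsum]
  refine Blocks.isNilpotent_of_central_of_mapDomain (P := Cfsg.pCore p G)
    (Cores.isPGroup_pCore p G) ?_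
    (Blocks.mapDomain_classSum_eq_zero (Cores.isPGroup_pCore p G) hg)
  intro y
  induction y using MonoidAlgebra.induction_linear with
  | zero => simp
  | add a b ha hb => rw [mul_add, add_mul, ha, hb]
  | single t r =>
    rw [Finset.sum_mul, Finset.mul_sum]
    refine Fintype.sum_equiv (MulAut.conj t⁻¹).toEquiv _ _ fun x => ?_
    have hc : IsConj g ((MulAut.conj t⁻¹).toEquiv x) ↔ IsConj g x := by
      have h1 : IsConj x ((MulAut.conj t⁻¹).toEquiv x) := isConj_iff.mpr ⟨t⁻¹, rfl⟩
      exact ⟨fun h => h.trans h1.symm, fun h => h.trans h1⟩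
    by_cases hx : IsConj g x
    · rw [if_pos hx, if_pos (hc.mpr hx)]
      simp [MonoidAlgebra.single_mul_single, MulAut.conj_apply, ← mul_assoc]
    · rw [if_neg hx, if_neg fun h => hx (hc.mp h)]
      simp

end Cfsg.Agent.S0905
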