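import Cfsg.Statements.S0916
import Cfsg.Agent.Lib.Blocks.SylowIn

set_option autoImplicit false
open Cfsg

namespace Cfsg.Agent.S0916

/-- Let P be a p-subgroup of the finite group G, C its centralizer and N its normalizer. Say that a conjugacy class (of G, or of N) has defect group P when P is a Sylow p-subgroup of the centralizer (in G, respectively in N) of some element of the class. Then: (i) if the class of g in G has defect group P, the elements of that class lying in C form a single N-class, again with defect group P; (ii) every N-class with defect group P arises this way from exactly one G-class with defect group P. -/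
theorem result {G : Type*} [Group G] [Finite G] (p : ℕ) [Fact p.Prime] (P : Subgroup G) (hP : IsPGroup p P) : (∀ g : G, (∃ S : Sylow p (Subgroup.centralizer ({g} : Set G)), (S : Subgroup (Subgroup.centralizer ({g} : Set G))).map (Subgroup.centralizer ({g} : Set G)).subtype = P) → (∃ c : G, IsConj g c ∧ c ∈ Subgroup.centralizer (P : Set G)) ∧ (∀ c₁ c₂ : G, IsConj g c₁ → IsConj g c₂ → c₁ ∈ Subgroup.centralizer (P : Set G) → c₂ ∈ Subgroup.centralizer (P : Set G) → ∃ n ∈ Subgroup.normalizer (P : Set G), n * c₁ * n⁻¹ = c₂)) ∧ (∀ c : G, c ∈ Subgroup.centralizer (P : Set G) → (∃ S : Sylow p (Subgroup.centralizer ({c} : Set G) ⊓ Subgroup.normalizer (P : Set G) : Subgroup G), (S : Subgroup ↥(Subgroup.centralizer ({c} : Set G) ⊓ Subgroup.normalizer (P : Set G))).map (Subgroup.centralizer ({c} : Set G) ⊓ Subgroup.normalizer (P : Set G)).subtype = P) → ∃ S : Sylow p (Subgroup.centralizer ({c} : Set G)), (S : Subgroup (Subgroup.centralizer ({c} : Set G))).map (Subgroup.centralizer ({c} : Set G)).subtype = P) := by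
  classical
  constructor
  · intro g hg
    obtain ⟨S, hS⟩ := hg
    have hSyl : Blocks.SylowIn p (Subgroup.centralizer ({g} : Set G)) P := ⟨S, hS.symm⟩
    refine ⟨⟨g, IsConj.refl g, Blocks.le_centralizer_singleton.mp (Blocks.sylowIn_le hSyl)⟩, ?_⟩
    intro c₁ c₂ h1 h2 hc1 hc2
    have key : ∀ c : G, IsConj g c → c ∈ Subgroup.centralizer (P : Set G) →
        Blocks.SylowIn p (Subgroup.centralizer ({c} : Set G)) P := by
      intro c hc hcP
      obtain ⟨x, rfl⟩ := isConj_iff.mp hc
      have h3 := Blocks.sylowIn_conj hSyl x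
      refine Blocks.sylowIn_of_card_eq (Blocks.le_centralizer_singleton.mpr hcP) hP ?_
      rw [← Blocks.sylowIn_card h3, Blocks.card_conjSub]
    obtain ⟨x, hx⟩ := isConj_iff.mp (h1.symm.trans h2)
    obtain ⟨y, hy, hyP⟩ := Blocks.sylowIn_isConj
      (hx ▸ Blocks.sylowIn_conj (key c₁ h1 hc1) x) (key c₂ h2 hc2)
    rw [Blocks.conjSub_mul] at hyP
    refine ⟨y * x, Blocks.conjSub_eq_self_iff.mp hyP, ?_⟩
    rw [Blocks.mem_centralizer_singleton] at hy
    calc y * x * c₁ * (y * x)⁻¹ = y * (x * c₁ * x⁻¹) * y⁻¹ := by group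
      _ = c₂ := by rw [hx, hy, mul_inv_cancel_right]
  · intro c _ hS
    obtain ⟨S, hS⟩ := hS
    obtain ⟨T, hT⟩ := Blocks.sylowIn_of_sylowIn_normalizer
      (K := Subgroup.centralizer ({c} : Set G)) (P := P) ⟨S, hS.symm⟩
    exact ⟨T, hT.symm⟩

end Cfsg.Agent.S0916
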