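import Cfsg.Statements.S0921
import Cfsg.Agent.Lib.Blocks.Defect
import Cfsg.Agent.Lib.CliffordChar.Basic
import Cfsg.Agent.Lib.Cores.Basic

set_option autoImplicit false
open Cfsg

namespace Cfsg.Agent.S0921

open Cfsg.Agent Cfsg.Agent.Blocks in
/-- For a normal `p'`-subgroup, constituents of restrictions are constant on blocks. -/
theorem constituent_iff {G : Type*} [Group G] [Fintype G] {p : ℕ} {M : Ideal AlgInt}
    (hM : IsPModular p M) {N : Subgroup G} [N.Normal] [Fintype N] (hN : ¬ p ∣ Nat.card N)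
    {χ ψ : IrrCharacter G} (h : SameBlock M (χ : G → ℂ) (ψ : G → ℂ)) (θ : IrrCharacter N) :
    classInner (fun n : N => (χ : G → ℂ) n) (θ : N → ℂ) ≠ 0 ↔
      classInner (fun n : N => (ψ : G → ℂ) n) (θ : N → ℂ) ≠ 0 := by
  classical
  have := Fintype.ofFinite (IrrCharacter N)
  let O : Set (IrrCharacter N) :=
    {φ | ∃ x : G, CliffordChar.conjFun N x (θ : N → ℂ) = (φ : N → ℂ)}
  let e : N → ℂ := ofOmega (blockInd O)
  have he : ∀ (g : G) (n n' : N), (n' : G) = g * n * g⁻¹ → e n' = e n := by
    intro g n n' hn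
    let σ : IrrCharacter N → IrrCharacter N := fun φ =>
      ⟨CliffordChar.conjFun N g⁻¹ (φ : N → ℂ), CliffordChar.isIrr_conjFun N g⁻¹ φ.2⟩
    have hσ : Function.Bijective σ := by
      refine Finite.injective_iff_bijective.mp fun φ φ' hφ => Subtype.ext ?_
      have h1 := congrArg (fun f : N → ℂ => CliffordChar.conjFun N g f) (congrArg Subtype.val hφ)
      simpa [σ, ← CliffordChar.conjFun_mul, CliffordChar.conjFun_one] using h1
    have hval : ∀ φ : IrrCharacter N, (σ φ : N → ℂ) n = (φ : N → ℂ) n' := fun φ => by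
      simp only [σ, CliffordChar.conjFun_apply]
      exact congrArg (φ : N → ℂ) (Subtype.ext (by simp [hn]))
    have hone : ∀ φ : IrrCharacter N, (σ φ : N → ℂ) 1 = (φ : N → ℂ) 1 := fun φ => by
      simp only [σ, CliffordChar.conjFun_apply]
      exact congrArg (φ : N → ℂ) (Subtype.ext (by simp))
    have hO : ∀ φ, blockInd O (σ φ) = blockInd O φ := fun φ => by
      have hiff : σ φ ∈ O ↔ φ ∈ O := by
        constructor
        · rintro ⟨x, hx⟩
          exact ⟨g * x, by rw [CliffordChar.conjFun_mul, hx]; simp [σ, ← CliffordChar.conjFun_mul,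
            CliffordChar.conjFun_one]⟩
        · rintro ⟨x, hx⟩
          exact ⟨g⁻¹ * x, by rw [CliffordChar.conjFun_mul, hx]⟩
      by_cases hφ : φ ∈ O
      · rw [blockInd_of_mem hφ, blockInd_of_mem (hiff.mpr hφ)]
      · rw [blockInd_of_notMem hφ, blockInd_of_notMem fun h' => hφ (hiff.mp h')]
    simp only [e, ofOmega_eq_sum]
    congr 1
    exact Fintype.sum_bijective σ hσ _ _ fun φ => by rw [hO, hone, hval]
  let z : G → ℂ := fun g => if hg : g ∈ N then e ⟨g, hg⟩ else 0
  have hz : IsClassFunction G z := by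
    intro g x
    simp only [z]
    by_cases hg : g ∈ N
    · rw [dif_pos hg, dif_pos (Subgroup.Normal.conj_mem inferInstance g hg x)]
      exact he x ⟨g, hg⟩ _ rfl
    · rw [dif_neg hg, dif_neg]
      intro hc
      exact hg (by simpa [mul_assoc] using Subgroup.Normal.conj_mem inferInstance _ hc x⁻¹)
  have hzR : ∀ g, MemLocalRing M (z g) := by
    intro g
    simp only [z]
    split_ifs with hg
    · simp only [e, ofOmega_eq_sum]
      refine memR_mul hM (memR_natCast_inv hM hN) (memR_sum hM _ fun φ _ => memR_mul hM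
        (memR_mul hM ?_ (memR_of_isIntegral hM (isIntegral_irr φ 1))) (memR_of_isIntegral hM ?_))
      · by_cases hφ : φ ∈ O
        · rw [blockInd_of_mem hφ]; exact memR_one hM
        · rw [blockInd_of_notMem hφ]; exact memR_zero hM
      · rw [← Char.IsCharacter.apply_inv (Char.IsIrrCharacter.isCharacter φ.2)]
        exact isIntegral_irr φ _
    · exact memR_zero hM
  have hzz : conv z z = z := by
    ext g
    rw [conv_eq_sum]
    by_cases hg : g ∈ N
    · have hc : conv e e = e := by simp only [e, ← ofOmega_mul, blockInd_mul_self]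
      calc ∑ x, z x * z (x⁻¹ * g) = ∑ x : N, e x * e (x⁻¹ * ⟨g, hg⟩) := by
            refine (Fintype.sum_of_injective (fun x : N => (x : G)) Subtype.val_injective _ _
              (fun x hx => ?_) fun x => ?_).symm
            · simp only [z, dif_neg (fun hxN : x ∈ N => hx ⟨⟨x, hxN⟩, rfl⟩), zero_mul]
            · simp only [z, dif_pos x.2, dif_pos (N.mul_mem (N.inv_mem x.2) hg)]
              rfl
        _ = z g := by rw [← conv_eq_sum, hc]; simp [z, hg]
    · simp only [z, dif_neg hg]
      refine Finset.sum_eq_zero fun x _ => ?_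
      by_cases hx : x ∈ N
      · rw [dif_neg (c := x⁻¹ * g ∈ N), mul_zero]
        intro hc
        exact hg (by simpa using N.mul_mem hx hc)
      · rw [dif_neg hx, zero_mul]
  have hOfin : ∀ ζ : IrrCharacter G, ∀ φ ∈ O,
      classInner (fun n : N => (ζ : G → ℂ) n) (φ : N → ℂ) =
        classInner (fun n : N => (ζ : G → ℂ) n) (θ : N → ℂ) := by
    rintro ζ φ ⟨x, hx⟩
    rw [← hx]
    conv_lhs => rw [← CliffordChar.conjFun_restrict N (irr_class ζ) x]
    exact Char.classInner_comp_equiv (MulAut.conjNormal x⁻¹ : MulAut N)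
      (fun n : N => (ζ : G → ℂ) n) (θ : N → ℂ)
  have hval : ∀ ζ : IrrCharacter G, omega (ζ : G → ℂ) z =
      classInner (fun n : N => (ζ : G → ℂ) n) (θ : N → ℂ) *
        (∑ φ : IrrCharacter N, blockInd O φ * (φ : N → ℂ) 1) / (ζ : G → ℂ) 1 := by
    intro ζ
    rw [omega_eq_sum]
    congr 1
    calc ∑ g, z g * (ζ : G → ℂ) g = ∑ n : N, e n * (ζ : G → ℂ) n := by
          refine (Fintype.sum_of_injective (fun x : N => (x : G)) Subtype.val_injective _ _
            (fun x hx => ?_) fun x => ?_).symm
          · simp only [z, dif_neg (fun hxN : x ∈ N => hx ⟨⟨x, hxN⟩, rfl⟩), zero_mul]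
          · simp only [z, dif_pos x.2]
      _ = ∑ φ : IrrCharacter N, blockInd O φ * (φ : N → ℂ) 1 *
            classInner (fun n : N => (ζ : G → ℂ) n) (φ : N → ℂ) := by
          simp only [e, ofOmega_eq_sum, classInner, Finset.sum_mul, Finset.mul_sum]
          rw [Finset.sum_comm]
          exact Finset.sum_congr rfl fun φ _ => Finset.sum_congr rfl fun n _ => by ring
      _ = _ := by
          rw [Finset.mul_sum]
          refine Finset.sum_congr rfl fun φ _ => ?_
          by_cases hφ : φ ∈ O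
          · rw [hOfin ζ φ hφ]; ring
          · rw [blockInd_of_notMem hφ]; ring
  have hpos : (∑ φ : IrrCharacter N, blockInd O φ * (φ : N → ℂ) 1) ≠ 0 := by
    have hterm : ∀ φ : IrrCharacter N, blockInd O φ * (φ : N → ℂ) 1
        = ((if φ ∈ O then charDegree (φ : N → ℂ) else 0 : ℕ) : ℂ) := fun φ => by
      by_cases hφ : φ ∈ O
      · rw [blockInd_of_mem hφ, if_pos hφ, one_mul, charDegree_cast]
      · rw [blockInd_of_notMem hφ, if_neg hφ, zero_mul, Nat.cast_zero]
    simp only [hterm, ← Nat.cast_sum]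
    refine Nat.cast_ne_zero.mpr fun h0 => ?_
    have h1 := (Finset.sum_eq_zero_iff.mp h0) θ (Finset.mem_univ θ)
    rw [if_pos ⟨1, CliffordChar.conjFun_one N _⟩] at h1
    exact (charDegree_pos θ).ne' h1
  have hidem : ∀ ζ : IrrCharacter G, omega (ζ : G → ℂ) z = 0 ∨ omega (ζ : G → ℂ) z = 1 := by
    intro ζ
    have h1 := omega_conv hz hz ζ
    rw [hzz] at h1
    exact or_iff_not_imp_left.mpr fun hne => (mul_eq_left₀ hne).mp h1.symm
  have hiff : ∀ ζ : IrrCharacter G, omega (ζ : G → ℂ) z = 1 ↔
      classInner (fun n : N => (ζ : G → ℂ) n) (θ : N → ℂ) ≠ 0 := by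
    intro ζ
    constructor
    · intro h1 h0
      rw [hval, h0, zero_mul, zero_div] at h1
      exact zero_ne_one h1
    · intro hne
      refine (hidem ζ).resolve_left ?_
      rw [hval]
      exact div_ne_zero (mul_ne_zero hne hpos) (irr_one_ne_zero ζ)
  have hcong : MemLocalIdeal M (omega (χ : G → ℂ) z - omega (ψ : G → ℂ) z) :=
    intRing_congr hM (omega_mem_intRing hM hz hzR) h
  rw [← hiff, ← hiff]
  constructor <;> intro h1
  · refine (hidem ψ).resolve_left fun h0 => ?_
    rw [h1, h0, sub_zero] at hcong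
    exact not_memI_one hM hcong
  · refine (hidem χ).resolve_left fun h0 => ?_
    rw [h1, h0, zero_sub] at hcong
    exact not_memI_one hM (neg_neg (1 : ℂ) ▸ memI_neg hcong)

/-- Let N = O_p'(G) be the largest normal subgroup of the finite group G of order prime to p, and fix a maximal ideal M of the algebraic integers containing p. If two irreducible characters χ, ψ of G lie in the same block relative to M, then an irreducible character of N occurs in the restriction of χ exactly when it occurs in the restriction of ψ. -/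
theorem result {G : Type*} [Group G] [Finite G] (p : ℕ) [Fact p.Prime] (M : Ideal Cfsg.AlgInt) (hM : Cfsg.IsPModular p M) [Fintype G] (χ ψ : Cfsg.IrrCharacter G) (h : Cfsg.SameBlock M (χ : G → ℂ) (ψ : G → ℂ)) (θ : Cfsg.IrrCharacter (Cfsg.pPrimeCore p G)) [Fintype (Cfsg.pPrimeCore p G)] : Cfsg.classInner (fun n : Cfsg.pPrimeCore p G => (χ : G → ℂ) n) (θ : Cfsg.pPrimeCore p G → ℂ) ≠ 0 ↔ Cfsg.classInner (fun n : Cfsg.pPrimeCore p G => (ψ : G → ℂ) n) (θ : Cfsg.pPrimeCore p G → ℂ) ≠ 0 := by
  exact constituent_iff hM (Cores.not_dvd_card_pPrimeCore (hp := ⟨hM.1⟩)) h θ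

end Cfsg.Agent.S0921
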