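import Cfsg.Statements.S0925
import Cfsg.Agent.Lib.SecondMain.Columns
-- import your own Cfsg.Agent.* helpers here

set_option autoImplicit false
open Cfsg

namespace Cfsg.Agent.S0925

/-- (i) Let ϑ be a class function on the finite group G and x a p-element, and suppose ϑ vanishes at every element whose p-part is conjugate to x. Then for every block B (relative to a maximal ideal M of the algebraic integers containing p) the B-part of ϑ — the sum over χ ∈ B of the inner product of ϑ with χ, times χ — also vanishes at every such element. (ii) Block orthogonality, its corollary: if the p-parts of g and h are not conjugate, then the sum over χ ∈ B of χ g * χ h⁻¹ is zero for every block B. -/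
theorem result {G : Type*} [Group G] [Finite G] (p : ℕ) [Fact p.Prime] (M : Ideal Cfsg.AlgInt) (hM : Cfsg.IsPModular p M) : (∀ (ϑ : G → ℂ), Cfsg.IsClassFunction G ϑ → ∀ x : G, (∃ k : ℕ, orderOf x = p ^ k) → (∀ u z : G, Cfsg.IsPPart p u z → IsConj x z → ϑ u = 0) → ∀ B : Set (Cfsg.IrrCharacter G), Cfsg.IsPBlock M B → ∀ u z : G, Cfsg.IsPPart p u z → IsConj x z → Cfsg.blockPart B ϑ u = 0) ∧ (∀ g h x y : G, Cfsg.IsPPart p g x → Cfsg.IsPPart p h y → ¬ IsConj x y → ∀ B : Set (Cfsg.IrrCharacter G), Cfsg.IsPBlock M B → ∑ᶠ χ ∈ B, (χ : G → ℂ) g * (χ : G → ℂ) h⁻¹ = 0) := by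
  classical
  constructor
  · intro ϑ hϑ x _ hvan B hB u z hu hxz
    obtain ⟨y, rfl, hc, hzk, hy⟩ := hu
    let s : Subgroup.centralizer ({z} : Set G) :=
      ⟨y, Agent.SecondMain.commute_iff_mem_centralizer_singleton.mpr hc⟩
    have hs : ¬ p ∣ orderOf s := by rwa [← Subgroup.orderOf_coe]
    rw [show y = (s : G) from rfl, Agent.SecondMain.blockPart_eq_sum_induced hM hzk
      (fun _ => Agent.SecondMain.commute_iff_mem_centralizer_singleton) hB hϑ hs]
    refine finsum_mem_of_eqOn_zero fun b hb => ?_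
    show Cfsg.blockPart b (fun c : Subgroup.centralizer ({z} : Set G) => ϑ (z * (c : G))) s = 0
    rw [Agent.SecondMain.blockPart_congr_regular hM hb.1 (θ' := 0) (fun m hm => ?_) hs,
      Agent.SecondMain.blockPart_zero]
    exact hvan _ z ⟨m, rfl, Agent.SecondMain.commute_iff_mem_centralizer_singleton.mp m.2, hzk,
      by rwa [Subgroup.orderOf_coe]⟩ hxz
  · intro g h x y hg hh hne B hB
    obtain ⟨s, rfl, hcs, hxk, hs⟩ := hg
    obtain ⟨t, rfl, hct, hyk, ht⟩ := hh
    rw [← Agent.SecondMain.colSum_eq_zero hM hB hxk hyk hs ht hcs hct hne]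
    refine finsum_mem_congr rfl fun χ _ => ?_
    rw [Agent.Char.IsCharacter.apply_inv (Agent.Char.IsIrrCharacter.isCharacter χ.2)]

end Cfsg.Agent.S0925
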