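import Cfsg.Statements.S0926
import Cfsg.Agent.Lib.Blocks.HeightZeroValues

set_option autoImplicit false
open Cfsg

namespace Cfsg.Agent.S0926

/-- Let B be a block of the finite group G with defect group D (relative to a maximal ideal M of the algebraic integers containing p), let χ ∈ B have height zero, and let x be a p-element. Then some conjugate of x lies in D if and only if χ does not vanish on the whole p-section of x (the elements whose p-part is conjugate to x). -/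
theorem result {G : Type*} [Group G] [Finite G] (p : ℕ) [Fact p.Prime] (M : Ideal Cfsg.AlgInt) (hM : Cfsg.IsPModular p M) (B : Set (Cfsg.IrrCharacter G)) (hB : Cfsg.IsPBlock M B) (D : Subgroup G) (hD : Cfsg.IsDefectGroup p M B D) (χ : Cfsg.IrrCharacter G) (hχ : χ ∈ B) (h0 : Cfsg.blockHeight p B (χ : G → ℂ) = 0) (x : G) (hx : ∃ k : ℕ, orderOf x = p ^ k) : (∃ g : G, g * x * g⁻¹ ∈ D) ↔ ∃ u : G, (∃ z : G, Cfsg.IsPPart p u z ∧ IsConj x z) ∧ (χ : G → ℂ) u ≠ 0 := by
  constructor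
  · rintro ⟨g, hg⟩
    obtain ⟨y, hy, P, rfl⟩ := hD
    obtain ⟨x', hx'P, hx'⟩ := Subgroup.mem_map.1 hg
    have hxk : ∃ k, orderOf (g * x * g⁻¹) = p ^ k := by rwa [SecondMain.orderOf_conj]
    have hxy : Commute (g * x * g⁻¹) y := by
      rw [← hx']
      exact (Subgroup.mem_centralizer_iff.1 x'.2 y rfl).symm
    have hyp : ¬ p ∣ orderOf y := Blocks.pRegular_of_blockCoeff hM hB hy.2.1
    refine ⟨g * x * g⁻¹ * y, ⟨g * x * g⁻¹, ⟨y, rfl, hxy, hxk, hyp⟩, isConj_iff.2 ⟨g, rfl⟩⟩,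
      Blocks.ne_zero_of_not_memI hM ?_⟩
    exact Blocks.not_memI_apply_of_height_zero hM hB hy hχ h0 hxk hxy
  · rintro ⟨u, ⟨z, ⟨y, rfl, hzy, hzk, hy⟩, hxz⟩, hu⟩
    obtain ⟨g, rfl⟩ := isConj_iff.1 hxz
    by_contra hno
    refine hu (Blocks.apply_eq_zero_of_notMem_defectGroup hM hB hχ hzk hzy hy fun E hE hzE => hno ?_)
    obtain ⟨c, hc⟩ := Blocks.isDefectGroup_conj_eq hM hB hE hD
    exact ⟨c * g, by
      rw [← hc, Blocks.mem_conjSub]
      convert! hzE using 1
      group⟩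

end Cfsg.Agent.S0926
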