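import Cfsg.Statements.S0928
import Cfsg.Agent.Lib.BlocksNormal.Elem
import Cfsg.Agent.Lib.SecondMain.Heights

set_option autoImplicit false
open Cfsg

namespace Cfsg.Agent.S0928

/-- Let χ be an irreducible character of the finite group G and p a prime. If χ g = 0 for every element g of order p, then the exponent of p in the degree χ(1) equals the exponent of p in the order of G (χ has p-defect zero). -/
theorem result {G : Type*} [Group G] [Finite G] (p : ℕ) [Fact p.Prime] (χ : Cfsg.IrrCharacter G) (hvan : ∀ g : G, orderOf g = p → (χ : G → ℂ) g = 0) : (Cfsg.charDegree (χ : G → ℂ)).factorization p = (Nat.card G).factorization p := by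
  classical
  have hp : p.Prime := Fact.out
  have := Fintype.ofFinite G
  obtain ⟨M, hM⟩ := Blocks.exists_isPModular hp
  set B := blockOf M (χ : G → ℂ)
  have hB : IsPBlock M B := ⟨χ, rfl⟩
  have hχB : χ ∈ B := Blocks.mem_blockOf_self hM χ
  obtain ⟨D, hD⟩ := Blocks.exists_isDefectGroup hM hB
  have hDp := Blocks.isPGroup_defectGroup hM hD
  by_cases hD1 : D = ⊥
  · have hd : blockDefect p B = 0 := by
      have h := Blocks.card_defectGroup hM hB hD
      rw [hD1, Subgroup.card_bot] at h
      by_contra hne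
      exact absurd h.symm (Nat.one_lt_pow hne hp.one_lt).ne'
    have h1 := SecondMain.degree_factorization (p := p) hχB
    have h2 := SecondMain.factorization_charDegree_le p χ
    omega
  exfalso
  obtain ⟨b, hb, hbD, hind⟩ := Blocks.first_main_exists hM hDp hB hD
  set N := Subgroup.normalizer (D : Set G)
  have hDN : D ≤ N := Subgroup.le_normalizer
  set Q := D.subgroupOf N with hQdef
  haveI : Q.Normal := Subgroup.normal_in_normalizer
  have := Fintype.ofFinite N
  obtain ⟨ψ, hψ, hψQ⟩ := BlocksNormal.exists_mem_trivOn hM hb Q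
    (hDp.of_equiv (Subgroup.subgroupOfEquivOfLe hDN).symm)
  obtain ⟨φ, hφ⟩ := CentralChar.exists_deflation Q ψ hψQ
  have hsing := BlocksNormal.blockOf_deflation_singleton hM hbD hψ hφ
  obtain ⟨B', hind', -, hphi⟩ := Blocks.exists_isInducedBlock hM hDp hDN
    (Subgroup.centralizer_le_normalizer _) le_rfl hb hψ
  obtain ⟨χ', hχ'⟩ := Blocks.isPBlock_nonempty hM hind'.2.1
  have hχ : χ ∈ B' := by
    rw [Blocks.isPBlock_eq_blockOf hM hind'.2.1 hχ']
    exact fun g => Blocks.memI_sub_trans hM (Blocks.memI_sub_comm (hind'.2.2 ψ hψ χ' hχ' g))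
      (hind.2.2 ψ hψ χ hχB g)
  let X : G → ℂ := fun g => if orderOf g = p then 1 else 0
  have hX : IsClassFunction G X := fun g h => by
    simp only [X, show orderOf (h * g * h⁻¹) = orderOf g from
      orderOf_injective (MulAut.conj h).toMonoidHom (MulAut.conj h).injective g]
  have hXR : ∀ g, MemLocalRing M (X g) := fun g => by
    simp only [X]
    split_ifs
    · exact Blocks.memR_one hM
    · exact Blocks.memR_zero hM
  have h0 : Blocks.omega (χ : G → ℂ) X = 0 := by
    rw [Blocks.omega_eq_sum, Finset.sum_eq_zero, zero_div]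
    intro g _
    simp only [X]
    split_ifs with hg
    · rw [hvan g hg, mul_zero]
    · rw [zero_mul]
  have hcong := hphi χ hχ _ (Blocks.omega_mem_intRing hM hX hXR)
  rw [Blocks.brauerPhi, Blocks.ofOmega_omega hX] at hcong
  change MemLocalIdeal M (Blocks.omega (ψ : N → ℂ) (Blocks.brauerTrunc D N X) -
    Blocks.omega (χ : G → ℂ) X) at hcong
  rw [h0, sub_zero] at hcong
  let Ω : Subgroup G :=
    { carrier := {w | w ∈ D ∧ w ∈ Subgroup.centralizer (D : Set G) ∧ w ^ p = 1}
      one_mem' := ⟨D.one_mem, Subgroup.one_mem _, one_pow p⟩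
      mul_mem' := fun {u v} hu hv => ⟨D.mul_mem hu.1 hv.1, Subgroup.mul_mem _ hu.2.1 hv.2.1, by
        rw [Commute.mul_pow (Subgroup.mem_centralizer_iff.mp hv.2.1 u hu.1), hu.2.2, hv.2.2,
          one_mul]⟩
      inv_mem' := fun {u} hu => ⟨D.inv_mem hu.1, Subgroup.inv_mem _ hu.2.1, by
        rw [inv_pow, hu.2.2, inv_one]⟩ }
  have hΩD : Ω ≤ D := fun w hw => hw.1
  obtain ⟨r, hr⟩ := (hDp.to_le hΩD).exists_card_eq
  have hr0 : r ≠ 0 := by
    intro h
    haveI : Nontrivial D := (Subgroup.nontrivial_iff_ne_bot D).mpr hD1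
    haveI := hDp.center_nontrivial
    obtain ⟨c, hc⟩ := (hDp.to_subgroup (Subgroup.center D)).exists_card_eq
    have hc0 : c ≠ 0 := fun hc0 => by
      have h1 := Finite.one_lt_card_iff_nontrivial.mpr
        (inferInstance : Nontrivial (Subgroup.center D))
      rw [hc, hc0, pow_zero] at h1
      exact lt_irrefl 1 h1
    obtain ⟨z, hz⟩ := exists_prime_orderOf_dvd_card' (G := Subgroup.center D) p
      (hc ▸ dvd_pow_self p hc0)
    have hzΩ : ((z : D) : G) ∈ Ω := ⟨(z : D).2, Subgroup.mem_centralizer_iff.mpr fun u hu =>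
      congrArg Subtype.val ((Subgroup.mem_center_iff.mp z.2) ⟨u, hu⟩), by
        rw [← Subgroup.coe_pow, ← Subgroup.coe_pow, ← hz, pow_orderOf_eq_one]; simp⟩
    rw [h, pow_zero, Subgroup.card_eq_one] at hr
    rw [hr, Subgroup.mem_bot] at hzΩ
    rw [← orderOf_eq_one_iff, Subgroup.orderOf_coe, Subgroup.orderOf_coe, hz] at hzΩ
    exact hp.one_lt.ne' hzΩ
  have hval : Blocks.omega (ψ : N → ℂ) (Blocks.brauerTrunc D N X) =
      ((Nat.card Ω : ℕ) : ℂ) - 1 := by
    have hterm : ∀ w : N, Blocks.brauerTrunc D N X w * (ψ : N → ℂ) w =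
        if ((w : G) ∈ Ω ∧ (w : G) ≠ 1) then (ψ : N → ℂ) 1 else 0 := by
      intro w
      simp only [Blocks.brauerTrunc, X]
      by_cases hC : (w : G) ∈ Subgroup.centralizer (D : Set G)
      · rw [if_pos hC]
        by_cases ho : orderOf (w : G) = p
        · rw [if_pos ho, one_mul]
          by_cases hwD : (w : G) ∈ D
          · rw [if_pos ⟨⟨hwD, hC, ho ▸ pow_orderOf_eq_one _⟩, fun h => by
              rw [h, orderOf_one] at ho; exact hp.one_lt.ne ho⟩]
            exact hψQ w (Subgroup.mem_subgroupOf.mpr hwD)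
          · rw [if_neg fun h => hwD h.1.1, hφ w]
            refine Blocks.apply_eq_zero_of_singleton hM hsing ?_
            have h1 : orderOf (w : N ⧸ Q) ∣ p := by
              have := orderOf_map_dvd (QuotientGroup.mk' Q) w
              rwa [← Subgroup.orderOf_coe, ho] at this
            rcases hp.eq_one_or_self_of_dvd _ h1 with h2 | h2
            · exact absurd (Subgroup.mem_subgroupOf.mp
                ((QuotientGroup.eq_one_iff w).mp (orderOf_eq_one_iff.mp h2))) hwD
            · exact h2.symm.dvd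
        · rw [if_neg ho, zero_mul, if_neg]
          rintro ⟨⟨-, -, hpow⟩, hne⟩
          exact ho (orderOf_eq_prime hpow hne)
      · rw [if_neg hC, zero_mul, if_neg fun h => hC h.1.2.1]
    rw [Blocks.omega_eq_sum, Finset.sum_congr rfl fun w _ => hterm w, ← Finset.sum_filter,
      Finset.sum_const, nsmul_eq_mul, mul_div_assoc, div_self (Blocks.irr_one_ne_zero ψ), mul_one]
    have hcard : (Finset.univ.filter fun w : N => (w : G) ∈ Ω ∧ (w : G) ≠ 1).card =
        Nat.card Ω - 1 := by
      rw [Nat.card_eq_fintype_card, ← Finset.card_univ,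
        ← Finset.card_erase_of_mem (Finset.mem_univ (1 : Ω))]
      refine Finset.card_bij (fun w hw => ⟨(w : G), (Finset.mem_filter.mp hw).2.1⟩)
        (fun w hw => Finset.mem_erase.mpr ⟨fun h =>
          (Finset.mem_filter.mp hw).2.2 (congrArg Subtype.val h), Finset.mem_univ _⟩)
        (fun a _ c _ h => Subtype.ext (congrArg Subtype.val h :)) fun z hz => ?_
      refine ⟨⟨z, hDN z.2.1⟩, Finset.mem_filter.mpr ⟨Finset.mem_univ _, z.2, fun h => ?_⟩, rfl⟩
      exact (Finset.mem_erase.mp hz).1 (Subtype.ext h)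
    rw [hcard, Nat.cast_sub Nat.card_pos, Nat.cast_one]
  rw [hval, hr, ← neg_sub] at hcong
  have h1 := Blocks.memI_neg hcong
  rw [neg_neg] at h1
  refine Blocks.not_memI_one hM ?_
  have h2 := Blocks.memI_add hM h1 ((Blocks.memI_natCast hM (n := p ^ r)).mpr (dvd_pow_self p hr0))
  simpa using h2

end Cfsg.Agent.S0928
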