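import Cfsg.Statements.S0931
import Cfsg.Agent.Lib.BlocksNormal.CentreFusion

set_option autoImplicit false
open Cfsg

namespace Cfsg.Agent.S0931

/-- Let H be a subgroup of the finite group G and fix a maximal ideal M of the algebraic integers containing the prime p. If the block b of H induces the block B of G, then b has defect 0 if and only if B has defect 0. -/
theorem result {G : Type*} [Group G] [Finite G] (p : ℕ) [Fact p.Prime] (M : Ideal Cfsg.AlgInt) (hM : Cfsg.IsPModular p M) (H : Subgroup G) (b : Set (Cfsg.IrrCharacter H)) (B : Set (Cfsg.IrrCharacter G)) (hind : Cfsg.IsInducedBlock M H b B) : Cfsg.blockDefect p b = 0 ↔ Cfsg.blockDefect p B = 0 := by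
  obtain ⟨D, hD⟩ := Blocks.exists_isDefectGroup hM hind.1
  obtain ⟨P, hP⟩ := Blocks.exists_isDefectGroup hM hind.2.1
  have hDc := Blocks.card_defectGroup hM hind.1 hD
  have hPc := Blocks.card_defectGroup hM hind.2.1 hP
  have hp : p.Prime := Fact.out
  constructor
  · intro h
    rw [h, pow_zero] at hDc
    have hDbot : D = ⊥ := Subgroup.card_eq_one.mp hDc
    by_contra hne
    have hnt : Nontrivial P := Finite.one_lt_card_iff_nontrivial.mp
      (hPc ▸ Nat.one_lt_pow hne hp.one_lt)
    haveI := (Blocks.isPGroup_defectGroup hM hP).center_nontrivial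
    obtain ⟨z, hz⟩ := exists_ne (1 : Subgroup.center P)
    obtain ⟨g, hg, -⟩ := BlocksNormal.centre_fusion hM hind hD hP (x := ((z : P) : G)) (z : P).2
      (fun w hw => congrArg Subtype.val ((Subgroup.mem_center_iff.mp z.2) ⟨w, hw⟩).symm)
    rw [hDbot, Subgroup.map_bot, Subgroup.mem_bot, conj_eq_one_iff] at hg
    exact hz (Subtype.ext (Subtype.ext hg))
  · intro h
    rw [h, pow_zero] at hPc
    obtain ⟨E, hE, hDE⟩ := Blocks.exists_defectGroup_ge_of_induced hM hind hD
    obtain ⟨x, rfl⟩ := Blocks.isDefectGroup_conj_eq hM hind.2.1 hP hE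
    have h1 := Subgroup.card_le_of_le hDE
    rw [Blocks.card_conjSub, hPc, Subgroup.card_map_of_injective H.subtype_injective, hDc] at h1
    by_contra hne
    exact absurd (Nat.one_lt_pow hne hp.one_lt) (not_lt.mpr h1)

end Cfsg.Agent.S0931
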