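import Cfsg.Statements.S0934
import Cfsg.Agent.Lib.BlocksNormal.Basic

set_option autoImplicit false
open Cfsg

namespace Cfsg.Agent.S0934

/-- Let H be a subgroup of the finite group G and fix a maximal ideal M of the algebraic integers containing the prime p. If the block b of H induces the block B of G and ξ ∈ b, then there is χ ∈ B whose restriction to H has nonzero inner product with ξ. -/
theorem result {G : Type*} [Group G] [Fintype G] (p : ℕ) [Fact p.Prime] (M : Ideal Cfsg.AlgInt) (hM : Cfsg.IsPModular p M) (H : Subgroup G) [Fintype H] (b : Set (Cfsg.IrrCharacter H)) (B : Set (Cfsg.IrrCharacter G)) (hind : Cfsg.IsInducedBlock M H b B) (ξ : Cfsg.IrrCharacter H) (hξ : ξ ∈ b) : ∃ χ ∈ B, Cfsg.classInner (fun h : H => (χ : G → ℂ) h) (ξ : H → ℂ) ≠ 0 := by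
  classical
  have := Fintype.ofFinite (IrrCharacter G)
  by_contra hcon
  push Not at hcon
  obtain ⟨χ₀, hχ₀⟩ := Blocks.isPBlock_nonempty hM hind.2.1
  have h := BlocksNormal.omega_restrict_congr hM hind hξ hχ₀ (Blocks.isClassFunction_blockCoeff B)
    (Blocks.memR_blockCoeff hM hind.2.1)
  rw [Blocks.blockCoeff_eq_ofOmega, Blocks.omega_ofOmega, Blocks.blockInd_of_mem hχ₀,
    Blocks.omega_eq_sum, ← Blocks.blockCoeff_eq_ofOmega] at h
  simp only [blockCoeff, finsum_mem_eq_toFinset_sum, Finset.mul_sum, Finset.sum_mul] at h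
  rw [Finset.sum_comm, Finset.sum_eq_zero (fun χ hχ => ?_), zero_div, zero_sub] at h
  · exact Blocks.not_memI_one hM (by simpa using Blocks.memI_neg h)
  · have h0 := congrArg (starRingEnd ℂ) (hcon χ (Set.mem_toFinset.mp hχ))
    simp only [classInner, map_mul, map_sum, map_inv₀, Complex.conj_natCast, Complex.conj_conj,
      map_zero] at h0
    have h1 := (mul_eq_zero.mp h0).resolve_left (inv_ne_zero (Nat.cast_ne_zero.mpr Nat.card_pos.ne'))
    calc _ = (Nat.card G : ℂ)⁻¹ * (χ : G → ℂ) 1 *
          ∑ x : H, starRingEnd ℂ ((χ : G → ℂ) x) * (ξ : H → ℂ) x := by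
          rw [Finset.mul_sum]; exact Finset.sum_congr rfl fun x _ => by ring
      _ = 0 := by rw [h1, mul_zero]

end Cfsg.Agent.S0934
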