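import Cfsg.Statements.S0937
import Cfsg.Agent.Lib.BlocksNormal.Basic
import Cfsg.Agent.Lib.SecondMain.Heights

set_option autoImplicit false
open Cfsg

namespace Cfsg.Agent.S0937

open scoped ComplexConjugate in
theorem regInner_symm {G : Type*} [Group G] [Fintype G] {p : ℕ} (η ζ : IrrCharacter G) :
    SecondMain.regInner p (η : G → ℂ) (ζ : G → ℂ) = SecondMain.regInner p (ζ : G → ℂ) (η : G → ℂ) := by
  classical
  rw [SecondMain.regInner_eq_sum, SecondMain.regInner_eq_sum]
  congr 1
  refine Finset.sum_nbij' (fun g => g⁻¹) (fun g => g⁻¹) ?_ ?_ (fun g _ => inv_inv g)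
    (fun g _ => inv_inv g) fun g _ => ?_
  · intro g hg
    simpa using hg
  · intro g hg
    simpa using hg
  · simp only [Char.IsCharacter.apply_inv (Char.IsIrrCharacter.isCharacter η.2),
      Char.IsCharacter.apply_inv (Char.IsIrrCharacter.isCharacter ζ.2), Complex.conj_conj]
    ring


/-- Let H be a subgroup of the finite group G and fix a maximal ideal M of the algebraic integers containing the prime p. If the block b of H induces the block B of G and χ ∈ B has height zero, then there is ξ ∈ b of height zero whose multiplicity in the restriction of χ to H is a natural number not divisible by p. -/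
theorem result {G : Type*} [Group G] [Fintype G] (p : ℕ) [Fact p.Prime] (M : Ideal Cfsg.AlgInt) (hM : Cfsg.IsPModular p M) (H : Subgroup G) [Fintype H] (b : Set (Cfsg.IrrCharacter H)) (B : Set (Cfsg.IrrCharacter G)) (hind : Cfsg.IsInducedBlock M H b B) (χ : Cfsg.IrrCharacter G) (hχ : χ ∈ B) (h0 : Cfsg.blockHeight p B (χ : G → ℂ) = 0) : ∃ ξ ∈ b, Cfsg.blockHeight p b (ξ : H → ℂ) = 0 ∧ ∃ n : ℕ, Cfsg.classInner (fun h : H => (χ : G → ℂ) h) (ξ : H → ℂ) = (n : ℂ) ∧ ¬ p ∣ n := by
  classical
  have := Fintype.ofFinite (IrrCharacter H)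
  obtain ⟨ξ, hξ, hξ0⟩ := SecondMain.exists_height_zero hM hind.1
  obtain ⟨m, hm, hmin⟩ := Char.IsCharacter.decompose
    (Char.IsCharacter.restrict (Char.IsIrrCharacter.isCharacter χ.2) H)
  by_contra hcon
  push Not at hcon
  refine SecondMain.omega_regConj_not_memI hM hind.2.1 hχ hχ h0 ?_
  refine (Blocks.memI_iff_of_sub hM (BlocksNormal.omega_restrict_congr hM hind hξ hχ
    (SecondMain.isClassFunction_regConj (Blocks.irr_class χ)) (SecondMain.memR_regConj hM χ))).mp ?_
  have hres : (fun k : H => SecondMain.regConj p (χ : G → ℂ) (k : G))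
      = fun k => ∑ η : IrrCharacter H, (m η : ℂ) * SecondMain.regConj p (η : H → ℂ) k := by
    funext k
    by_cases hk : p ∣ orderOf k
    · simp [SecondMain.regConj, SecondMain.pRegularPart_of_singular hk,
        SecondMain.pRegularPart_of_singular (show p ∣ orderOf (k : G) by rwa [Subgroup.orderOf_coe])]
    · simp only [SecondMain.regConj, SecondMain.pRegularPart_of_regular hk,
        SecondMain.pRegularPart_of_regular (show ¬ p ∣ orderOf (k : G) by rwa [Subgroup.orderOf_coe])]
      have h := congrArg (starRingEnd ℂ) (congrFun hm k)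
      simpa [Finset.sum_apply, map_sum] using h
  have hlin : Blocks.omega (ξ : H → ℂ) (fun k : H => SecondMain.regConj p (χ : G → ℂ) (k : G))
      = ∑ η : IrrCharacter H, (m η : ℂ) *
        Blocks.omega (ξ : H → ℂ) (SecondMain.regConj p (η : H → ℂ)) := by
    rw [hres]
    simp only [Blocks.omega_eq_sum, ← mul_div_assoc, ← Finset.sum_div]
    congr 1
    simp only [Finset.mul_sum, Finset.sum_mul]
    rw [Finset.sum_comm]
    exact Finset.sum_congr rfl fun _ _ => Finset.sum_congr rfl fun _ _ => by ring
  rw [hlin]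
  refine Blocks.memI_sum hM _ fun η _ => ?_
  have hR := Blocks.memR_omega hM (SecondMain.isClassFunction_regConj (p := p) (Blocks.irr_class η))
    (SecondMain.memR_regConj hM η) ξ
  by_cases hη : η ∈ b
  swap
  · rw [SecondMain.omega_regConj, SecondMain.regInner_eq_zero hM hind.1 hξ hη, mul_zero, mul_zero]
    exact Blocks.memI_zero hM
  by_cases hη0 : blockHeight p b (η : H → ℂ) = 0
  · exact Blocks.memI_mul_right hM ((Blocks.memI_natCast hM).mpr
      (hcon η hη hη0 (m η) (hmin η))) hR
  · refine Blocks.memI_mul_left hM (Blocks.memR_natCast hM _) ?_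
    obtain ⟨u, hu, hu', h⟩ := SecondMain.scaled_eq hM hξ η
    rw [hξ0, pow_zero, one_mul, regInner_symm] at h
    exact (Blocks.memI_or_memI hM hu hR
      (h ▸ SecondMain.memI_scaled_of_height hM hη hη0 ξ)).resolve_left hu'

end Cfsg.Agent.S0937
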