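import Cfsg.Statements.S0938
import Cfsg.Agent.Lib.BlocksNormal.Cover
import Cfsg.Agent.Lib.Codegree.Basic

set_option autoImplicit false
open Cfsg

namespace Cfsg.Agent.S0938

/-- Let B be a block of the finite group G relative to a maximal ideal M of the algebraic integers containing the prime p, and let χ ∈ B. Then the kernel of B (the set of g with ψ g = ψ 1 for all ψ ∈ B) is a normal subgroup of order prime to p contained in the kernel of χ, and it contains every normal subgroup of order prime to p on which χ takes the value χ(1); that is, it is O_p' of the kernel of χ. -/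
theorem result {G : Type*} [Group G] [Finite G] (p : ℕ) [Fact p.Prime] (M : Ideal Cfsg.AlgInt) (hM : Cfsg.IsPModular p M) (B : Set (Cfsg.IrrCharacter G)) (hB : Cfsg.IsPBlock M B) (χ : Cfsg.IrrCharacter G) (hχ : χ ∈ B) : ∃ K : Subgroup G, K.Normal ∧ (K : Set G) = Cfsg.blockKer B ∧ ¬ p ∣ Nat.card K ∧ (∀ g ∈ K, (χ : G → ℂ) g = (χ : G → ℂ) 1) ∧ ∀ N : Subgroup G, N.Normal → ¬ p ∣ Nat.card N → (∀ g ∈ N, (χ : G → ℂ) g = (χ : G → ℂ) 1) → N ≤ K := by
  classical
  have := Fintype.ofFinite G
  let K : Subgroup G := ⨅ ψ : B, Codegree.kerSub (ψ : IrrCharacter G)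
  have hK : ∀ g, g ∈ K ↔ ∀ ψ ∈ B, (ψ : G → ℂ) g = (ψ : G → ℂ) 1 := fun g => by
    simp only [K, Subgroup.mem_iInf, Codegree.mem_kerSub, Subtype.forall]
  refine ⟨K, ⟨fun g hg x => (hK _).mpr fun ψ hψ => ?_⟩, Set.ext fun g => hK g, fun hdvd => ?_,
    fun g hg => (hK g).mp hg χ hχ, fun N hN hNp hNχ g hg => (hK g).mpr fun ψ hψ => ?_⟩
  · rw [Blocks.irr_class ψ g x]
    exact (hK g).mp hg ψ hψ
  · obtain ⟨u, hu⟩ := exists_prime_orderOf_dvd_card' p hdvd
    rw [← Subgroup.orderOf_coe] at hu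
    have hQ : IsPGroup p (Subgroup.zpowers (u : G)) :=
      IsPGroup.of_card (n := 1) (by rw [Nat.card_zpowers, hu, pow_one])
    have := Fintype.ofFinite (Subgroup.zpowers (u : G))
    have hs := BlocksNormal.sum_blockCoeff_subgroup hM hB hQ
    have hc : ∀ v : Subgroup.zpowers (u : G), blockCoeff B (v : G) = blockCoeff B 1 := by
      intro v
      simp only [blockCoeff]
      congr 1
      exact finsum_mem_congr rfl fun ψ hψ => by
        rw [(hK _).mp (Subgroup.zpowers_le.mpr u.2 v.2) ψ hψ]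
    simp only [hc, Finset.sum_const, Finset.card_univ, nsmul_eq_mul] at hs
    refine BlocksNormal.blockCoeff_one_ne_zero ⟨χ, hχ⟩ ?_
    rw [← Nat.card_eq_fintype_card, Nat.card_zpowers, hu] at hs
    have h1 : ((p : ℂ) - 1) * blockCoeff B 1 = 0 := by linear_combination hs
    exact (mul_eq_zero.mp h1).resolve_left
      (sub_ne_zero.mpr (by exact_mod_cast hM.1.one_lt.ne'))
  · have := Fintype.ofFinite N
    exact BlocksNormal.trivOn_of_sameBlock N hM hNp (Blocks.sameBlock_of_mem hM hB hχ hψ) hNχ g hg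

end Cfsg.Agent.S0938
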