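import Cfsg.Statements.S0943
import Cfsg.Agent.EqLemmas

set_option autoImplicit false
open Cfsg

namespace Cfsg.Agent.S0943

/-- Schur: an endomorphism commuting with an irreducible representation is a scalar. -/
lemma schur_scalar {G : Type*} [Group G] {n : ℕ} (ρ : Representation ℂ G (Fin n → ℂ))
    [ρ.IsIrreducible] (A : Module.End ℂ (Fin n → ℂ)) (hA : ∀ g, A * ρ g = ρ g * A) :
    ∃ c : ℂ, A = c • 1 := by
  let f : Representation.IntertwiningMap ρ ρ := ⟨A, fun g => hA g⟩
  obtain ⟨c, hc⟩ := (Representation.IsIrreducible.algebraMap_intertwiningMap_bijective_of_isAlgClosed (ρ := ρ)).2 f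
  refine ⟨c, ?_⟩
  have := congrArg Representation.IntertwiningMap.toLinearMap hc
  rw [Algebra.algebraMap_eq_smul_one] at this
  exact this.symm

open scoped Classical in
lemma classSum_comm {G : Type*} [Group G] [Fintype G] {n : ℕ} (ρ : Representation ℂ G (Fin n → ℂ))
    (u g : G) :
    (∑ x ∈ Finset.univ.filter (IsConj u), ρ x) * ρ g = ρ g * ∑ x ∈ Finset.univ.filter (IsConj u), ρ x := by
  rw [Finset.sum_mul, Finset.mul_sum]
  refine Finset.sum_equiv (MulAut.conj g⁻¹).toEquiv (fun x => ?_) (fun x _ => ?_)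
  · simp only [Finset.mem_filter, Finset.mem_univ, true_and]
    have h : IsConj x (g⁻¹ * x * g) := isConj_iff.mpr ⟨g⁻¹, by group⟩
    show IsConj u x ↔ IsConj u (g⁻¹ * x * (g⁻¹)⁻¹)
    rw [inv_inv]
    exact ⟨fun hx => hx.trans h, fun hx => hx.trans h.symm⟩
  · show ρ x * ρ g = ρ g * ρ (g⁻¹ * x * (g⁻¹)⁻¹)
    rw [← map_mul, ← map_mul]
    congr 1; group

/-- Let χ be an irreducible character of the finite group G and u, v ∈ G. If χ (x * y) = χ (u * v) whenever x is conjugate to u and y is conjugate to v, then χ u * χ v = χ 1 * χ (u * v). (Multiply the class sums of u and v and apply the central character of χ.) -/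
theorem result {G : Type*} [Group G] [Finite G] (χ : Cfsg.IrrCharacter G) (u v : G) (hc : ∀ x y : G, IsConj u x → IsConj v y → (χ : G → ℂ) (x * y) = (χ : G → ℂ) (u * v)) : (χ : G → ℂ) u * (χ : G → ℂ) v = (χ : G → ℂ) 1 * (χ : G → ℂ) (u * v) := by
  classical
  haveI : Fintype G := Fintype.ofFinite G
  obtain ⟨n, ρ, hρi, hρ⟩ := χ.2
  haveI := hρi
  set Su := Finset.univ.filter (IsConj u) with hSu
  set Sv := Finset.univ.filter (IsConj v) with hSv
  obtain ⟨c, hc'⟩ := schur_scalar ρ (∑ x ∈ Su, ρ x) (fun g => classSum_comm ρ u g)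
  obtain ⟨d, hd'⟩ := schur_scalar ρ (∑ x ∈ Sv, ρ x) (fun g => classSum_comm ρ v g)
  have htr : ∀ (w : G), LinearMap.trace ℂ (Fin n → ℂ) (ρ w) = (χ : G → ℂ) w := fun w => by
    rw [← hρ]; rfl
  have hconst : ∀ (w x : G), IsConj w x → (χ : G → ℂ) x = (χ : G → ℂ) w := fun w x h => by
    obtain ⟨a, rfl⟩ := isConj_iff.mp h
    rw [← hρ]; exact Representation.char_conj ρ w a
  have hn : (n : ℂ) ≠ 0 := by
    have : Nontrivial (Subrepresentation ρ) := inferInstance
    intro h0
    have h0' : n = 0 := by exact_mod_cast h0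
    subst h0'
    obtain ⟨a, b, hab⟩ := this
    exact hab (Subrepresentation.ext (Subsingleton.elim _ _))
  have hu' : (Su.card : ℂ) * (χ : G → ℂ) u = c * n := by
    have := congrArg (LinearMap.trace ℂ (Fin n → ℂ)) hc'
    rw [map_sum, map_smul, LinearMap.trace_one, Module.finrank_fin_fun, smul_eq_mul] at this
    rw [← this, Finset.sum_congr rfl (fun x hx => (htr x).trans (hconst u x (by simpa [hSu] using hx))),
      Finset.sum_const, nsmul_eq_mul]
  have hv' : (Sv.card : ℂ) * (χ : G → ℂ) v = d * n := by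
    have := congrArg (LinearMap.trace ℂ (Fin n → ℂ)) hd'
    rw [map_sum, map_smul, LinearMap.trace_one, Module.finrank_fin_fun, smul_eq_mul] at this
    rw [← this, Finset.sum_congr rfl (fun x hx => (htr x).trans (hconst v x (by simpa [hSv] using hx))),
      Finset.sum_const, nsmul_eq_mul]
  have huv : (Su.card : ℂ) * (Sv.card : ℂ) * (χ : G → ℂ) (u * v) = c * d * n := by
    have h2 : ∑ x ∈ Su, ∑ y ∈ Sv, ρ (x * y) = (c * d) • (1 : Module.End ℂ (Fin n → ℂ)) := by
      simp only [map_mul, ← Finset.mul_sum, ← Finset.sum_mul, hc', hd', smul_mul_smul_comm, one_mul]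
    have := congrArg (LinearMap.trace ℂ (Fin n → ℂ)) h2
    rw [map_sum, map_smul, LinearMap.trace_one, Module.finrank_fin_fun, smul_eq_mul] at this
    rw [← this, Finset.sum_congr rfl (fun x hx => (map_sum _ _ _).trans (Finset.sum_congr rfl
      (fun y hy => (htr (x * y)).trans (hc x y (by simpa [hSu] using hx) (by simpa [hSv] using hy)))))]
    simp only [Finset.sum_const, nsmul_eq_mul]
    ring
  have hSu0 : (Su.card : ℂ) ≠ 0 := Nat.cast_ne_zero.mpr
    (Finset.card_ne_zero.mpr ⟨u, Finset.mem_filter.mpr ⟨Finset.mem_univ _, IsConj.refl u⟩⟩)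
  have hSv0 : (Sv.card : ℂ) ≠ 0 := Nat.cast_ne_zero.mpr
    (Finset.card_ne_zero.mpr ⟨v, Finset.mem_filter.mpr ⟨Finset.mem_univ _, IsConj.refl v⟩⟩)
  have h1 : (χ : G → ℂ) 1 = (n : ℂ) := by
    rw [← hρ, Representation.char_one]; simp
  rw [h1]
  apply mul_left_cancel₀ (mul_ne_zero hSu0 hSv0)
  linear_combination ((Sv.card : ℂ) * (χ : G → ℂ) v) * hu' + (c * n) * hv' - (n : ℂ) * huv


end Cfsg.Agent.S0943
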