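import Cfsg.Statements.S0945
import Cfsg.Agent.Lib.Homocyclic.Sylow

set_option autoImplicit false
open Cfsg

namespace Cfsg.Agent.S0945

/-- Let P be a Sylow 2-subgroup of the finite group G isomorphic to Z/2^m × Z/2^m with m ≥ 1. Then (i) the index of C_G(P) in N_G(P) is 1 or 3, and (ii) if it is not 1, then for every z ≠ 1 in P, C_G(z) ∩ N_G(P) = C_G(P). -/
theorem result {G : Type*} [Group G] [Finite G] (P : Sylow 2 G) (m : ℕ) (hm : 1 ≤ m) (e : (P : Subgroup G) ≃* Multiplicative (ZMod (2 ^ m) × ZMod (2 ^ m))) : ((Subgroup.centralizer (P : Set G)).relIndex (Subgroup.normalizer (P : Set G)) = 1 ∨ (Subgroup.centralizer (P : Set G)).relIndex (Subgroup.normalizer (P : Set G)) = 3) ∧ ((Subgroup.centralizer (P : Set G)).relIndex (Subgroup.normalizer (P : Set G)) ≠ 1 → ∀ z ∈ (P : Subgroup G), z ≠ 1 → Subgroup.centralizer ({z} : Set G) ⊓ Subgroup.normalizer (P : Set G) = Subgroup.centralizer (P : Set G)) := by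
  refine ⟨Cfsg.Agent.Homocyclic.relIndex_one_or_three P m hm e, fun hne z hz hz1 => ?_⟩
  refine le_antisymm (fun n hn => ?_) (fun n hn => ?_)
  · exact Cfsg.Agent.Homocyclic.mem_centralizer_of_fixes P m hm e hne z hz hz1 n hn.2
      (Subgroup.mem_centralizer_singleton_iff.mp hn.1)
  · refine ⟨Subgroup.mem_centralizer_singleton_iff.mpr
      (Subgroup.mem_centralizer_iff.mp hn z hz).symm, Subgroup.mem_normalizer_iff.mpr fun p => ?_⟩
    constructor
    · intro hp
      rw [← Subgroup.mem_centralizer_iff.mp hn p hp, mul_inv_cancel_right]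
      exact hp
    · intro hp
      have := Subgroup.mem_centralizer_iff.mp hn _ hp
      rw [inv_mul_cancel_right, mul_assoc, mul_right_inj] at this
      have h2 : n * p * n⁻¹ = p := by rw [mul_assoc, ← this]
      rwa [h2] at hp


end Cfsg.Agent.S0945
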