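import Cfsg.Statements.S0946
import Cfsg.Agent.Lib.Homocyclic.Sylow

set_option autoImplicit false
open Cfsg

namespace Cfsg.Agent.S0946

/-- Let P be a Sylow 2-subgroup of the finite group G isomorphic to Z/2^m × Z/2^m with m ≥ 1. Then either P has a normal complement in G, or all involutions of G are conjugate. -/
theorem result {G : Type*} [Group G] [Finite G] (P : Sylow 2 G) (m : ℕ) (hm : 1 ≤ m) (e : (P : Subgroup G) ≃* Multiplicative (ZMod (2 ^ m) × ZMod (2 ^ m))) : (∃ N : Subgroup G, N.Normal ∧ Subgroup.IsComplement' N (P : Subgroup G)) ∨ ∀ s t : G, orderOf s = 2 → orderOf t = 2 → IsConj s t := by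
  haveI : Fact (Nat.Prime 2) := ⟨Nat.prime_two⟩
  by_cases hk : (Subgroup.centralizer ((P : Subgroup G) : Set G)).relIndex
      (Subgroup.normalizer ((P : Subgroup G) : Set G)) = 1
  · exact Or.inl ⟨_, MonoidHom.normal_ker _,
      MonoidHom.ker_transferSylow_isComplement' P (Subgroup.relIndex_eq_one.mp hk)⟩
  right
  have hP : ∀ s : G, orderOf s = 2 → ∃ s' : Cfsg.Agent.Homocyclic.Invol (P : Subgroup G),
      IsConj s (s'.1 : G) := by
    intro s hs
    obtain ⟨Q, hQ⟩ := (IsPGroup.of_card (n := 1) (by rw [Nat.card_zpowers, hs, pow_one]) :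
      IsPGroup 2 (Subgroup.zpowers s)).exists_le_sylow
    obtain ⟨u, hu⟩ := MulAction.exists_smul_eq G P Q
    have hsm : s ∈ ((u • P : Sylow 2 G) : Subgroup G) := hu ▸ hQ (Subgroup.mem_zpowers s)
    rw [Sylow.coe_subgroup_smul, Subgroup.pointwise_smul_def] at hsm
    obtain ⟨w, hw, hws⟩ := hsm
    have hws' : u * w * u⁻¹ = s := hws
    have how : orderOf w = 2 :=
      ((orderOf_injective (MulAut.conj u).toMonoidHom (MulAut.conj u).injective w).symm.trans
        (congrArg orderOf hws')).trans hs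
    refine ⟨⟨⟨w, hw⟩, Subtype.ext ?_, fun h => ?_⟩, (isConj_iff.mpr ⟨u, hws'⟩).symm⟩
    · show w * w = 1
      rw [← pow_two, ← how, pow_orderOf_eq_one]
    · rw [show w = 1 from congrArg Subtype.val h, orderOf_one] at how
      omega
  intro s t hs ht
  obtain ⟨s', hs'⟩ := hP s hs
  obtain ⟨t', ht'⟩ := hP t ht
  obtain ⟨n, -, hn⟩ := Cfsg.Agent.Homocyclic.exists_conj_involution P m hm e hk s' t'
  exact hs'.trans ((isConj_iff.mpr ⟨n, hn⟩).trans ht'.symm)


end Cfsg.Agent.S0946
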