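import Cfsg.Statements.S0952
import Cfsg.Agent.Lib.BrauerPairs.RegularOrth

set_option autoImplicit false
open scoped ComplexConjugate
open Cfsg

namespace Cfsg.Agent.S0952

/-- Let χ and ψ be irreducible characters of the finite group G lying in different blocks relative to a maximal ideal M of the algebraic integers containing the prime p. Then the sum of χ x * conj (ψ x) over the elements x of order prime to p is zero. -/
theorem result {G : Type*} [Group G] [Finite G] (p : ℕ) [Fact p.Prime] (M : Ideal Cfsg.AlgInt) (hM : Cfsg.IsPModular p M) (χ ψ : Cfsg.IrrCharacter G) (h : ¬ Cfsg.SameBlock M (χ : G → ℂ) (ψ : G → ℂ)) : ∑ᶠ x ∈ {x : G | ¬ p ∣ orderOf x}, (χ : G → ℂ) x * conj ((ψ : G → ℂ) x) = 0 := by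
  classical
  have := Fintype.ofFinite G
  have h0 := BrauerPairs.classInner_pRegularPart_eq_zero hM ⟨χ, rfl⟩
    (Blocks.mem_blockOf_self hM χ) (ψ := ψ) h
  rw [classInner] at h0
  have h1 := (mul_eq_zero.1 h0).resolve_left (inv_ne_zero (Nat.cast_ne_zero.2 Nat.card_pos.ne'))
  simp only [pRegularPart, ite_mul, zero_mul, ← Finset.sum_filter] at h1
  rw [finsum_mem_eq_toFinset_sum]
  refine Eq.trans (Finset.sum_congr ?_ fun _ _ => rfl) h1
  ext x
  rw [Set.mem_toFinset, Finset.mem_filter]; exact ⟨fun h => ⟨Finset.mem_univ _, h⟩, fun h => h.2⟩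

end Cfsg.Agent.S0952
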