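import Cfsg.Statements.S0953
import Cfsg.Agent.Lib.BlocksNormal.Count

set_option autoImplicit false
open Cfsg

namespace Cfsg.Agent.S0953

/-- Let P be a Sylow p-subgroup of the finite group G with normalizer N, and fix a maximal ideal M of the algebraic integers containing p. The number of blocks of G having P as a defect group equals the number of conjugacy classes of N consisting of elements of order prime to p that centralize P. -/
theorem result {G : Type*} [Group G] [Finite G] (p : ℕ) [Fact p.Prime] (M : Ideal Cfsg.AlgInt) (hM : Cfsg.IsPModular p M) (P : Sylow p G) : Nat.card {B : Set (Cfsg.IrrCharacter G) // Cfsg.IsPBlock M B ∧ Cfsg.IsDefectGroup p M B (P : Subgroup G)} = Nat.card {C : ConjClasses (Subgroup.normalizer ((P : Subgroup G) : Set G)) // ∀ n : Subgroup.normalizer ((P : Subgroup G) : Set G), ConjClasses.mk n = C → ¬ p ∣ orderOf n ∧ (n : G) ∈ Subgroup.centralizer ((P : Subgroup G) : Set G)} := by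
  classical
  have hp : p.Prime := Fact.out
  set D : Subgroup G := (P : Subgroup G) with hDdef
  set N := Subgroup.normalizer (D : Set G) with hN
  set Q := D.subgroupOf N with hQdef
  have hDp : IsPGroup p D := P.2
  have hDN : D ≤ N := Subgroup.le_normalizer
  haveI : Q.Normal := Subgroup.normal_in_normalizer
  have hQp : IsPGroup p Q := hDp.of_equiv (Subgroup.subgroupOfEquivOfLe hDN).symm
  have hQidx : ¬ p ∣ Q.index := fun h => P.not_dvd_index
    (dvd_trans h (Subgroup.relIndex_dvd_index_of_le hDN))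
  have hQcard : Nat.card Q = p ^ (Nat.card N).factorization p := by
    obtain ⟨j, hj⟩ := hQp.exists_card_eq
    rw [hj]
    congr 1
    have h := Subgroup.card_mul_index Q
    rw [← h, Nat.factorization_mul Nat.card_pos.ne' Subgroup.index_ne_zero_of_finite, hj]
    simp [Nat.factorization_eq_zero_of_not_dvd hQidx, hp.factorization_self]
  have hall : ∀ b : Set (IrrCharacter N), IsPBlock M b → IsDefectGroup p M b Q := by
    intro b hb
    obtain ⟨E, hE⟩ := Blocks.exists_isDefectGroup hM hb
    have h1 := Blocks.normal_le_defectGroup hM hQp hb hE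
    obtain ⟨j, hj⟩ := (Blocks.isPGroup_defectGroup hM hE).exists_card_eq
    have h2 : p ^ j ∣ Nat.card N := hj ▸ Subgroup.card_subgroup_dvd_card E
    have h3 := Nat.pow_le_pow_right hp.pos ((hp.pow_dvd_iff_le_factorization Nat.card_pos.ne').mp h2)
    rw [← hj, ← hQcard] at h3
    exact Subgroup.eq_of_le_of_card_ge h1 h3 ▸ hE
  let φ : {b : Set (IrrCharacter N) // IsPBlock M b} →
      {B : Set (IrrCharacter G) // IsPBlock M B ∧ IsDefectGroup p M B D} := fun b =>
    ⟨Classical.choose (Blocks.first_main_lift hM hDp b.2 (hall b.1 b.2)),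
      (Classical.choose_spec (Blocks.first_main_lift hM hDp b.2 (hall b.1 b.2))).1,
      (Classical.choose_spec (Blocks.first_main_lift hM hDp b.2 (hall b.1 b.2))).2.1⟩
  have hφ : ∀ b, IsInducedBlock M N b.1 (φ b).1 := fun b =>
    (Classical.choose_spec (Blocks.first_main_lift hM hDp b.2 (hall b.1 b.2))).2.2
  have hbij : Function.Bijective φ := by
    refine ⟨fun b c h => Subtype.ext ?_, fun B => ?_⟩
    · have h2 := hφ b
      rw [h] at h2
      exact Blocks.first_main_unique hM hDp h2 (hφ c) (hall _ b.2) (hall _ c.2)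
    · obtain ⟨b, hb, -, hind⟩ := Blocks.first_main_exists hM hDp B.2.1 B.2.2
      refine ⟨⟨b, hb⟩, Subtype.ext ?_⟩
      obtain ⟨χ, hχ⟩ := Blocks.isPBlock_nonempty hM B.2.1
      obtain ⟨ξ, hξ⟩ := Blocks.isPBlock_nonempty hM hb
      obtain ⟨χ', hχ'⟩ := Blocks.isPBlock_nonempty hM (φ ⟨b, hb⟩).2.1
      refine Blocks.isPBlock_eq_of_mem hM (φ ⟨b, hb⟩).2.1 B.2.1 hχ' ?_
      have hs : SameBlock M (χ : G → ℂ) (χ' : G → ℂ) := fun g => Blocks.memI_sub_trans hM
        (Blocks.memI_sub_comm (hind.2.2 ξ hξ χ hχ g)) ((hφ ⟨b, hb⟩).2.2 ξ hξ χ' hχ' g)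
      rw [Blocks.isPBlock_eq_blockOf hM B.2.1 hχ]
      exact hs
  rw [← Nat.card_congr (Equiv.ofBijective φ hbij)]
  have hdef : ∀ b : Set (IrrCharacter N), IsPBlock M b →
      blockDefect p b = (Nat.card N).factorization p := fun b hb =>
    Nat.pow_right_injective hp.two_le ((Blocks.card_defectGroup hM hb (hall b hb)).symm.trans hQcard)
  have hmem : ∀ n : N, n ∈ Subgroup.centralizer (Q : Set N) ↔
      (n : G) ∈ Subgroup.centralizer (D : Set G) := fun n => by
    simp only [Subgroup.mem_centralizer_iff]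
    exact ⟨fun h u hu => congrArg Subtype.val
      (h ⟨u, hDN hu⟩ (Subgroup.mem_subgroupOf.mpr hu)),
      fun h u hu => Subtype.ext (h u (Subgroup.mem_subgroupOf.mp hu))⟩
  refine le_antisymm ?_ ?_
  · refine le_trans (Nat.card_le_card_of_injective
      (fun b => (⟨b.1, b.2, (hdef b.1 b.2).ge⟩ : {B : Set (IrrCharacter N) //
        IsPBlock M B ∧ (Nat.card N).factorization p ≤ blockDefect p B}))
      (fun b c h => Subtype.ext (congrArg (fun B => B.1) h)))
      (le_trans (BlocksNormal.card_blocks_le hM _) (Nat.card_le_card_of_injective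
        (fun C => ⟨C.1, fun n hn => ?_⟩) (fun b c h => Subtype.ext (congrArg (fun B => B.1) h))))
    obtain ⟨g, hg, hreg, hd⟩ := C.2
    obtain ⟨c, hc⟩ := isConj_iff.mp (ConjClasses.mk_eq_mk_iff_isConj.mp (hg.trans hn.symm))
    subst hc
    refine ⟨?_, (hmem _).mp ((Blocks.conj_mem_centralizer_iff
      (by simp [Subgroup.normalizer_eq_top]) g).mpr ?_)⟩
    · rwa [show orderOf (c * g * c⁻¹) = orderOf g from
        orderOf_injective (MulAut.conj c).toMonoidHom (MulAut.conj c).injective g]
    · refine Blocks.le_centralizer_singleton.mp ?_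
      obtain ⟨S, hS⟩ := Blocks.sylowIn_exists p (Subgroup.centralizer ({g} : Set N))
      have h1 : Nat.card Q ≤ Nat.card S := by
        rw [hQcard, Blocks.sylowIn_card hS]
        exact Nat.pow_le_pow_right hp.pos hd
      let Qs : Sylow p N := hQp.toSylow hQidx
      have h2 : S ≤ Q := by
        obtain ⟨R, hR⟩ := (Blocks.sylowIn_isPGroup hS).exists_le_sylow
        haveI : (Qs : Subgroup N).Normal := ‹Q.Normal›
        rwa [show R = Qs from @Subsingleton.elim _ (Sylow.unique_of_normal Qs ‹_›).instSubsingleton R Qs] at hR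
      rw [← Subgroup.eq_of_le_of_card_ge h2 h1]
      exact Blocks.sylowIn_le hS
  · exact le_trans (Nat.card_le_card_of_injective
      (fun C => ⟨C.1, fun n hn => ⟨(C.2 n hn).1, (hmem n).mpr (C.2 n hn).2⟩⟩)
      (fun b c h => Subtype.ext (by simpa using h)))
      (BlocksNormal.card_classes_le_blocks hM Q hQp hQidx)

end Cfsg.Agent.S0953
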