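import Cfsg.Statements.S0955
import Cfsg.Agent.Lib.BlocksNormal.Basic
import Cfsg.Agent.Lib.Cores.Basic

set_option autoImplicit false
open Cfsg

namespace Cfsg.Agent.S0955

/-- Let D be a defect group of a block of the finite group G relative to a maximal ideal M of the algebraic integers containing the prime p. Then D is the largest normal p-subgroup of its own normalizer: O_p(N_G(D)) = D. -/
theorem result {G : Type*} [Group G] [Finite G] (p : ℕ) [Fact p.Prime] (M : Ideal Cfsg.AlgInt) (hM : Cfsg.IsPModular p M) (B : Set (Cfsg.IrrCharacter G)) (hB : Cfsg.IsPBlock M B) (D : Subgroup G) (hD : Cfsg.IsDefectGroup p M B D) : (Cfsg.pCore p (Subgroup.normalizer (D : Set G))).map (Subgroup.normalizer (D : Set G)).subtype = D := by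
  obtain ⟨b, hb, hbD, -⟩ := Blocks.first_main_exists hM (Blocks.isPGroup_defectGroup hM hD) hB hD
  have hle : D ≤ Subgroup.normalizer (D : Set G) := Subgroup.le_normalizer
  refine le_antisymm ?_ ?_
  · have h := Blocks.normal_le_defectGroup hM (Q := pCore p (Subgroup.normalizer (D : Set G)))
      (Cores.isPGroup_pCore p _) hb hbD
    exact (Subgroup.map_mono h).trans (Subgroup.map_subgroupOf_eq_of_le hle).le
  · conv_lhs => rw [← Subgroup.map_subgroupOf_eq_of_le hle]
    exact Subgroup.map_mono (Cores.le_pCore Subgroup.normal_in_normalizer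
      ((Blocks.isPGroup_defectGroup hM hD).of_equiv (Subgroup.subgroupOfEquivOfLe hle).symm))

end Cfsg.Agent.S0955
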