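import Cfsg.Statements.S0957
import Cfsg.Agent.EqLemmas

set_option autoImplicit false
open Cfsg

namespace Cfsg.Agent.S0957

lemma dvd_card_of_dvd_card_orbit {M X : Type*} [Group M] [MulAction M X] [Finite X] (d : ℕ)
    (h : ∀ x : X, d ∣ Nat.card (MulAction.orbit M x)) : d ∣ Nat.card X := by
  classical
  rw [Nat.card_congr (MulAction.selfEquivSigmaOrbits M X)]
  haveI : Fintype (MulAction.orbitRel.Quotient M X) := Fintype.ofFinite _
  rw [Nat.card_sigma]
  exact Finset.dvd_sum fun ω _ => h _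

/-- Let P be a Sylow p-subgroup of the finite group G, let g, h ∈ G and let p ^ d be the order of a Sylow p-subgroup of the centralizer of g. Then the number of pairs (y, z) with y conjugate to g, z conjugate to h and z * y⁻¹ ∈ P is divisible by the order of P divided by p ^ d. -/
theorem result {G : Type*} [Group G] [Finite G] (p : ℕ) [Fact p.Prime] (P : Sylow p G) (g h : G) (S : Sylow p (Subgroup.centralizer ({g} : Set G))) : Nat.card P / Nat.card S ∣ Nat.card {yz : G × G // IsConj g yz.1 ∧ IsConj h yz.2 ∧ yz.2 * yz.1⁻¹ ∈ (P : Subgroup G)} := by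
  classical
  let X := {yz : G × G // IsConj g yz.1 ∧ IsConj h yz.2 ∧ yz.2 * yz.1⁻¹ ∈ (P : Subgroup G)}
  letI act : MulAction (P : Subgroup G) X :=
    { smul := fun u x => ⟨((u : G) * x.1.1 * (u : G)⁻¹, (u : G) * x.1.2 * (u : G)⁻¹),
        x.2.1.trans (isConj_iff.mpr ⟨u, rfl⟩), x.2.2.1.trans (isConj_iff.mpr ⟨u, rfl⟩), by
          have : (u : G) * x.1.2 * (u : G)⁻¹ * ((u : G) * x.1.1 * (u : G)⁻¹)⁻¹
              = (u : G) * (x.1.2 * x.1.1⁻¹) * (u : G)⁻¹ := by group
          rw [this]
          exact mul_mem (mul_mem u.2 x.2.2.2) (inv_mem u.2)⟩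
      one_smul := fun x => Subtype.ext (show ((1 : G) * x.1.1 * (1 : G)⁻¹, (1 : G) * x.1.2 * (1 : G)⁻¹) = x.1 by simp)
      mul_smul := fun u v x => Subtype.ext (Prod.ext
        (show ((u * v : (P : Subgroup G)) : G) * x.1.1 * ((u * v : (P : Subgroup G)) : G)⁻¹
          = (u : G) * ((v : G) * x.1.1 * (v : G)⁻¹) * (u : G)⁻¹ by push_cast; group)
        (show ((u * v : (P : Subgroup G)) : G) * x.1.2 * ((u * v : (P : Subgroup G)) : G)⁻¹
          = (u : G) * ((v : G) * x.1.2 * (v : G)⁻¹) * (u : G)⁻¹ by push_cast; group)) }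
  apply dvd_card_of_dvd_card_orbit (M := (P : Subgroup G)) (X := X)
  intro x
  obtain ⟨c, hc⟩ := isConj_iff.mp x.2.1
  set K := MulAction.stabilizer (P : Subgroup G) x
  -- the stabiliser embeds into the centraliser of g
  let f : K →* Subgroup.centralizer ({g} : Set G) :=
    { toFun := fun u => ⟨c⁻¹ * ((u : (P : Subgroup G)) : G) * c, by
        rw [Subgroup.mem_centralizer_singleton_iff]
        have hu : ((u : (P : Subgroup G)) : G) * x.1.1 * ((u : (P : Subgroup G)) : G)⁻¹ = x.1.1 :=
          congrArg (fun y : X => y.1.1) u.2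
        rw [← hc] at hu
        have h1 : ((u : (P : Subgroup G)) : G) * (c * g * c⁻¹) = (c * g * c⁻¹) * ((u : (P : Subgroup G)) : G) := by
          rwa [mul_inv_eq_iff_eq_mul] at hu
        calc c⁻¹ * ((u : (P : Subgroup G)) : G) * c * g
            = c⁻¹ * (((u : (P : Subgroup G)) : G) * (c * g * c⁻¹)) * c := by group
          _ = c⁻¹ * ((c * g * c⁻¹) * ((u : (P : Subgroup G)) : G)) * c := by rw [h1]
          _ = g * (c⁻¹ * ((u : (P : Subgroup G)) : G) * c) := by group⟩
      map_one' := by ext; simp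
      map_mul' := fun u v => by ext; push_cast; group }
  have hf : Function.Injective f := by
    intro u v huv
    have h2 : c⁻¹ * ((u : (P : Subgroup G)) : G) * c = c⁻¹ * ((v : (P : Subgroup G)) : G) * c :=
      congrArg (fun w : Subgroup.centralizer ({g} : Set G) => (w : G)) huv
    exact Subtype.ext (Subtype.ext (mul_left_cancel (mul_right_cancel h2)))
  have hK : IsPGroup p K := P.isPGroup'.to_subgroup K
  obtain ⟨S', hS'⟩ := (hK.of_equiv (MonoidHom.ofInjective hf)).exists_le_sylow
  have hdvd : Nat.card K ∣ Nat.card S := by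
    rw [Nat.card_congr (MonoidHom.ofInjective hf).toEquiv, Nat.card_congr (Sylow.equiv S S').toEquiv]
    exact Subgroup.card_dvd_of_le hS'
  have hidx : Nat.card (MulAction.orbit (P : Subgroup G) x) * Nat.card K = Nat.card (P : Subgroup G) := by
    rw [Nat.card_coe_set_eq, ← MulAction.index_stabilizer]; exact K.index_mul_card
  have hK0 : 0 < Nat.card K := Nat.card_pos
  have hSP : Nat.card S ∣ Nat.card (P : Subgroup G) := by
    obtain ⟨P', hP'⟩ :=
      (S.isPGroup'.map (Subgroup.centralizer ({g} : Set G)).subtype).exists_le_sylow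
    rw [Nat.card_congr (Sylow.equiv P P').toEquiv]
    rw [Nat.card_congr (Subgroup.equivMapOfInjective (S : Subgroup (Subgroup.centralizer ({g} : Set G))) _
      (Subgroup.subtype_injective _)).toEquiv]
    exact Subgroup.card_dvd_of_le hP'
  obtain ⟨m, hm⟩ := hdvd
  obtain ⟨n, hn⟩ := hSP
  have hS0 : 0 < Nat.card S := Nat.card_pos
  rw [hn, Nat.mul_div_cancel_left _ hS0]
  refine ⟨m, ?_⟩
  apply Nat.eq_of_mul_eq_mul_right hK0
  rw [hidx, hn, hm]; ring


end Cfsg.Agent.S0957
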