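import Cfsg.Statements.S0958
import Cfsg.Agent.Lib.BlocksNormal.Basic

set_option autoImplicit false
open Cfsg

namespace Cfsg.Agent.S0958

/-- Let P be a p-subgroup of the finite group G and H a subgroup with P ⊔ C_G(P) ≤ H ≤ N_G(P); fix a maximal ideal M of the algebraic integers containing p. Then a block B of G is induced by some block of H if and only if some conjugate of P is contained in a defect group of B. -/
theorem result {G : Type*} [Group G] [Finite G] (p : ℕ) [Fact p.Prime] (M : Ideal Cfsg.AlgInt) (hM : Cfsg.IsPModular p M) (P H : Subgroup G) (hP : IsPGroup p P) (hPH : P ⊔ Subgroup.centralizer (P : Set G) ≤ H) (hHN : H ≤ Subgroup.normalizer (P : Set G)) (B : Set (Cfsg.IrrCharacter G)) (hB : Cfsg.IsPBlock M B) : (∃ b : Set (Cfsg.IrrCharacter H), Cfsg.IsInducedBlock M H b B) ↔ ∃ D : Subgroup G, Cfsg.IsDefectGroup p M B D ∧ ∃ x : G, P.map (MulAut.conj x).toMonoidHom ≤ D := by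
  have hPle : P ≤ H := le_sup_left.trans hPH
  have hCH : Subgroup.centralizer (P : Set G) ≤ H := le_sup_right.trans hPH
  constructor
  · rintro ⟨b, hind⟩
    obtain ⟨E, hE⟩ := Blocks.exists_isDefectGroup hM hind.1
    haveI : (P.subgroupOf H).Normal := Subgroup.normal_subgroupOf_of_le_normalizer hHN
    have h1 := Blocks.normal_le_defectGroup hM
      (hP.of_equiv (Subgroup.subgroupOfEquivOfLe hPle).symm) hind.1 hE
    obtain ⟨D, hD, hED⟩ := Blocks.exists_defectGroup_ge_of_induced hM hind hE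
    refine ⟨D, hD, 1, ?_⟩
    show Blocks.conjSub 1 P ≤ D
    rw [Blocks.conjSub_one, ← Subgroup.map_subgroupOf_eq_of_le hPle]
    exact (Subgroup.map_mono h1).trans hED
  · rintro ⟨D, hD, x, hx⟩
    obtain ⟨g, hg, hgD⟩ := Blocks.isDefectGroup_conjSub hM hD x⁻¹
    have hgC : g ∈ Subgroup.centralizer (P : Set G) := by
      refine Blocks.le_centralizer_singleton.mp (le_trans ?_ (Blocks.sylowIn_le hgD))
      have h := Blocks.conjSub_mono x⁻¹ hx
      rwa [show P.map (MulAut.conj x).toMonoidHom = Blocks.conjSub x P from rfl,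
        Blocks.conjSub_mul, inv_mul_cancel, Blocks.conjSub_one] at h
    obtain ⟨ξ, hξ⟩ := Blocks.exists_brauerPhi_not_memI hM hB hP hCH hHN hgC hg.2.1
    obtain ⟨B', hind, -, hphi⟩ := Blocks.exists_isInducedBlock hM hP hPle hCH hHN ⟨ξ, rfl⟩
      (Blocks.mem_blockOf_self hM ξ)
    obtain ⟨χ, hχ⟩ := Blocks.isPBlock_nonempty hM hind.2.1
    have hχB : χ ∈ B := by
      by_contra hn
      have h3 := hphi χ hχ _ (Blocks.blockInd_mem_intRing hM hB)
      rw [Blocks.blockInd_of_notMem hn, sub_zero] at h3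
      exact hξ h3
    exact ⟨_, Blocks.isPBlock_eq_of_mem hM hind.2.1 hB hχ hχB ▸ hind⟩

end Cfsg.Agent.S0958
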