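import Cfsg.Statements.S0959
import Cfsg.Agent.Lib.BlocksNormal.Basic

set_option autoImplicit false
open Cfsg

namespace Cfsg.Agent.S0959

/-- Let B be a block of the finite group G with defect group D (relative to a maximal ideal M of the algebraic integers containing the prime p), and let P be a p-subgroup. Then there is an element g whose idempotent coefficient for B is a local integer outside the local ideal at M and which has a conjugate centralizing P, if and only if some conjugate of P is contained in D. -/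
theorem result {G : Type*} [Group G] [Finite G] (p : ℕ) [Fact p.Prime] (M : Ideal Cfsg.AlgInt) (hM : Cfsg.IsPModular p M) (B : Set (Cfsg.IrrCharacter G)) (hB : Cfsg.IsPBlock M B) (D : Subgroup G) (hD : Cfsg.IsDefectGroup p M B D) (P : Subgroup G) (hP : IsPGroup p P) : (∃ g : G, Cfsg.MemLocalRing M (Cfsg.blockCoeff B g) ∧ ¬ Cfsg.MemLocalIdeal M (Cfsg.blockCoeff B g) ∧ ∃ c : G, IsConj g c ∧ c ∈ Subgroup.centralizer (P : Set G)) ↔ ∃ x : G, P.map (MulAut.conj x).toMonoidHom ≤ D := by
  obtain ⟨k, hk, hkD⟩ := hD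
  constructor
  · rintro ⟨g, -, hg, c, hgc, hc⟩
    obtain ⟨χ, hχ⟩ := Blocks.isPBlock_nonempty hM hB
    rw [Blocks.classFunction_eq_of_isConj (Blocks.isClassFunction_blockCoeff B) hgc] at hg
    obtain ⟨x, hx⟩ := Blocks.minmax hM hB hχ (hk.2.2 χ hχ) hg hP
      (Blocks.le_centralizer_singleton.mpr hc) hkD
    refine ⟨x⁻¹, ?_⟩
    show Blocks.conjSub x⁻¹ P ≤ D
    have h := Blocks.conjSub_mono x⁻¹ hx
    rwa [Blocks.conjSub_mul, inv_mul_cancel, Blocks.conjSub_one] at h
  · rintro ⟨x, hx⟩
    refine ⟨k, hk.1, hk.2.1, x⁻¹ * k * x, isConj_iff.mpr ⟨x⁻¹, by group⟩, ?_⟩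
    rw [Subgroup.mem_centralizer_iff]
    intro u hu
    have h1 := Blocks.mem_centralizer_singleton.mp
      (Blocks.sylowIn_le hkD (hx ⟨u, hu, rfl⟩))
    simp only [MulEquiv.coe_toMonoidHom, MulAut.conj_apply] at h1
    calc u * (x⁻¹ * k * x) = x⁻¹ * (x * u * x⁻¹ * k) * x := by group
      _ = x⁻¹ * (k * (x * u * x⁻¹)) * x := by rw [h1]
      _ = x⁻¹ * k * x * u := by group

end Cfsg.Agent.S0959
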