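import Cfsg.Statements.S0960
import Cfsg.Agent.Lib.CyclicDefect.Apply

set_option autoImplicit false
open Cfsg

namespace Cfsg.Agent.S0960

open Cfsg Cfsg.Agent.Blocks Cfsg.Agent.CyclicDefect

/-- Let p be an odd prime and G a finite group whose Sylow p-subgroup P has order p; let e be the index of C_G(P) in N_G(P) (a divisor of p − 1) and fix a maximal ideal M of the algebraic integers containing p. Then the principal block of G consists of exactly e + (p - 1) / e irreducible characters, and the degree d of each of them satisfies d ≡ 1, d ≡ -1, d ≡ e or d ≡ -e modulo p. -/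
theorem result {G : Type*} [Group G] [Finite G] (p : ℕ) [Fact p.Prime] (M : Ideal Cfsg.AlgInt) (hM : Cfsg.IsPModular p M) (hodd : p ≠ 2) (P : Sylow p G) (hP : Nat.card P = p) (e : ℕ) (he : (Subgroup.centralizer ((P : Subgroup G) : Set G)).relIndex (Subgroup.normalizer ((P : Subgroup G) : Set G)) = e) : Nat.card (Cfsg.principalBlock M G) = e + (p - 1) / e ∧ ∀ χ ∈ Cfsg.principalBlock M G, ((Cfsg.charDegree (χ : G → ℂ) : ℤ) ≡ 1 [ZMOD p] ∨ (Cfsg.charDegree (χ : G → ℂ) : ℤ) ≡ -1 [ZMOD p] ∨ (Cfsg.charDegree (χ : G → ℂ) : ℤ) ≡ (e : ℤ) [ZMOD p] ∨ (Cfsg.charDegree (χ : G → ℂ) : ℤ) ≡ -(e : ℤ) [ZMOD p]) := by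
  classical
  have hp : p.Prime := Fact.out
  obtain ⟨x, L, hPx, hS⟩ := exists_setting_of_sylow hp P hP
  have := hS.normal_K
  have := Fintype.ofFinite (IrrCharacter G)
  have := Fintype.ofFinite (IrrCharacter (K x L))
  have hB := (principal_isPBlock (G := G) hM).1
  have hl := lies_principal hS hM
  set U' := U hS (oneK x L : K x L → ℂ) with hU'
  have hcent : Subgroup.centralizer ((P : Subgroup G) : Set G) = Subgroup.centralizer ({x} : Set G) := by
    ext g
    rw [hPx, SecondMain.mem_centralizer_zpowers_iff, SecondMain.commute_iff_mem_centralizer_singleton]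
  have hle : Subgroup.centralizer ({x} : Set G) ≤ Subgroup.normalizer (Subgroup.zpowers x : Set G) := fun g hg =>
    Subgroup.centralizer_le_normalizer _ (SecondMain.mem_centralizer_zpowers_iff.mpr
      (SecondMain.commute_iff_mem_centralizer_singleton.mp hg))
  have he' : Nat.card U' = e := by
    rw [hU', card_U_one hS, ← he, hcent, hPx]
    have h1 := Subgroup.card_mul_index
      ((Subgroup.centralizer ({x} : Set G)).subgroupOf (Subgroup.normalizer (Subgroup.zpowers x : Set G)))
    rw [Nat.card_congr (Subgroup.subgroupOfEquivOfLe hle).toEquiv, hS.card_centralizer, hS.card_normalizer,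
      ← (K x L).card_mul_index, mul_assoc] at h1
    exact (Nat.eq_of_mul_eq_mul_left Nat.card_pos (Nat.eq_of_mul_eq_mul_left hp.pos h1)).symm
  have hprod := card_units_eq hS (oneK x L : K x L → ℂ)
  have hepos : 0 < e := he' ▸ Nat.card_pos
  obtain ⟨hk, exc, ε, δ, -, hexcB, hε, hexc, hcst, -⟩ := block_structure hS hM hB hl
  refine ⟨?_, fun χ hχ => ?_⟩
  · rw [hk, ← hU', he', ← hprod, ← hU', he', Nat.mul_div_cancel_left _ hepos]
  have h := memI_apply_one_sub hS hM hB hl hχ
  rw [card_lies_one hS hM, Nat.cast_one, one_mul, show (oneK x L : K x L → ℂ) 1 = 1 from rfl, one_mul,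
    ← charDegree_cast, ← Int.cast_natCast (R := ℂ)] at h
  have hmod := intModEq_of_memI hM h
  by_cases hr : χ ∈ Set.range exc
  · obtain ⟨c, rfl⟩ := hr
    rw [sum_bInt_exc hS (hexc c), ← hU', he'] at hmod
    rcases hε with h' | h' <;> rw [h'] at hmod
    · exact Or.inr (Or.inr (Or.inl (by rwa [one_mul] at hmod)))
    · exact Or.inr (Or.inr (Or.inr (by rwa [neg_one_mul] at hmod)))
  · obtain ⟨hd, hrow⟩ := hcst χ hχ hr
    rw [sum_bInt_const hS hrow] at hmod
    have h1 : ((p - 1 : ℕ) : ℤ) ≡ -1 [ZMOD p] :=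
      Int.modEq_iff_dvd.mpr ⟨-1, by rw [Nat.cast_sub hp.one_le]; push_cast; ring⟩
    have h2 := hmod.trans (h1.mul_left (δ χ))
    rcases hd with h' | h' <;> rw [h'] at h2
    · exact Or.inr (Or.inl (by rwa [one_mul] at h2))
    · exact Or.inl (by simpa using h2)

end Cfsg.Agent.S0960
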