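import Cfsg.Statements.S0967
import Cfsg.Agent.Lib.BlocksNormal.Cover

set_option autoImplicit false
open Cfsg

namespace Cfsg.Agent.S0967

/-- Let N be a normal subgroup of the finite group G of order prime to p and fix a maximal ideal M of the algebraic integers containing p. If χ is an irreducible character of G ⧸ N and ψ lies in the block of its inflation χ ∘ (quotient map), then ψ is itself inflated from an irreducible character ψ' of G ⧸ N lying in the block of χ. (Over a normal p'-subgroup, blocks of the quotient are whole blocks of G.) -/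
theorem result {G : Type*} [Group G] [Finite G] (p : ℕ) [Fact p.Prime] (M : Ideal Cfsg.AlgInt) (hM : Cfsg.IsPModular p M) (N : Subgroup G) [N.Normal] (hN : ¬ p ∣ Nat.card N) (χ : Cfsg.IrrCharacter (G ⧸ N)) (ψ : Cfsg.IrrCharacter G) (hψ : ψ ∈ Cfsg.blockOf M ((χ : G ⧸ N → ℂ) ∘ QuotientGroup.mk)) : ∃ ψ' : Cfsg.IrrCharacter (G ⧸ N), (ψ : G → ℂ) = (ψ' : G ⧸ N → ℂ) ∘ QuotientGroup.mk ∧ Cfsg.SameBlock M (χ : G ⧸ N → ℂ) (ψ' : G ⧸ N → ℂ) := by
  classical
  have := Fintype.ofFinite G
  have := Fintype.ofFinite N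
  have := Fintype.ofFinite (G ⧸ N)
  let χ' : IrrCharacter G := ⟨_, Char.IsIrrCharacter.comp_surjective χ.2 (QuotientGroup.mk' N)
    (QuotientGroup.mk'_surjective N)⟩
  have htriv := BlocksNormal.trivOn_of_sameBlock N hM hN (χ := χ') hψ (fun n hn => by
    show (χ : G ⧸ N → ℂ) (n : G ⧸ N) = (χ : G ⧸ N → ℂ) ((1 : G) : G ⧸ N)
    rw [(QuotientGroup.eq_one_iff n).mpr hn, QuotientGroup.mk_one])
  obtain ⟨ψ', hψ'⟩ := CentralChar.exists_deflation N ψ htriv
  refine ⟨ψ', funext hψ', BlocksNormal.sameBlock_of_comp hM (QuotientGroup.mk'_surjective N)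
    (by rwa [QuotientGroup.ker_mk']) ?_⟩
  rw [show (fun g => (ψ' : G ⧸ N → ℂ) (QuotientGroup.mk' N g)) = (ψ : G → ℂ) from
    (funext hψ').symm]
  exact hψ

end Cfsg.Agent.S0967
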