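import Cfsg.Statements.S0970
import Cfsg.Agent.Lib.BlocksNormal.InvariantCover

set_option autoImplicit false
open Cfsg

namespace Cfsg.Agent.S0970

/-- Let N be a normal subgroup of the finite group G and fix a maximal ideal M of the algebraic integers containing the prime p. Let b be a block of N that is invariant under conjugation by G, and B a block of G covering b (some χ ∈ B has a constituent in b) whose defect is at least that of every block covering b. If P is a defect group of B, then p does not divide the index of P ⊔ N, the subgroup P ∩ N of N is a defect group of b, and the defect of B equals the defect of b plus the exponent of p in the index of N. -/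
theorem result {G : Type*} [Group G] [Fintype G] (p : ℕ) [Fact p.Prime] (M : Ideal Cfsg.AlgInt) (hM : Cfsg.IsPModular p M) (N : Subgroup G) [hN : N.Normal] [Fintype N] (b : Set (Cfsg.IrrCharacter N)) (hb : Cfsg.IsPBlock M b) (hinv : ∀ g : G, ∀ θ ∈ b, ∀ θ' : Cfsg.IrrCharacter N, (∀ n : N, (θ' : N → ℂ) n = (θ : N → ℂ) ⟨g * n * g⁻¹, hN.conj_mem n n.2 g⟩) → θ' ∈ b) (B : Set (Cfsg.IrrCharacter G)) (hB : Cfsg.IsPBlock M B) (hcov : ∃ χ ∈ B, ∃ θ ∈ b, Cfsg.classInner (fun n : N => (χ : G → ℂ) n) (θ : N → ℂ) ≠ 0) (hmax : ∀ B' : Set (Cfsg.IrrCharacter G), Cfsg.IsPBlock M B' → (∃ χ ∈ B', ∃ θ ∈ b, Cfsg.classInner (fun n : N => (χ : G → ℂ) n) (θ : N → ℂ) ≠ 0) → Cfsg.blockDefect p B' ≤ Cfsg.blockDefect p B) (P : Subgroup G) (hP : Cfsg.IsDefectGroup p M B P) : ¬ p ∣ (P ⊔ N).index ∧ Cfsg.IsDefectGroup p M b ((P ⊓ N).subgroupOf N) ∧ Cfsg.blockDefect p B = Cfsg.blockDefect p b + N.index.factorization p := by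
  classical
  have hp : p.Prime := Fact.out
  have hA := BlocksNormal.orbitSet_eq_self N hinv
  obtain ⟨B', hB', hcov', hd'⟩ := BlocksNormal.exists_cover_large N hM hb hA
  obtain ⟨E, hE, hle⟩ := BlocksNormal.exists_inf_le_defectGroup N hM hb hA hB hcov hP
  have hge := hd' ▸ hmax B' hB' hcov'
  set R := (P ⊓ N).subgroupOf N
  have hPc := Blocks.card_defectGroup hM hB hP
  have hEc := Blocks.card_defectGroup hM hb hE
  obtain ⟨r, hr⟩ := (Blocks.isPGroup_defectGroup hM hE |>.to_le hle).exists_card_eq
  have hrd : r ≤ Cfsg.blockDefect p b := by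
    have := Subgroup.card_le_of_le hle
    rw [hr, hEc] at this
    exact (Nat.pow_le_pow_iff_right hp.one_lt).mp this
  -- the part outside `N`
  have hj : N.relIndex P * (P ⊔ N).index = N.index := by
    rw [← Subgroup.relIndex_sup_right (H := P) (K := N)]
    exact Subgroup.relIndex_mul_index le_sup_right
  have hPR : Nat.card R * N.relIndex P = Nat.card P := by
    rw [Nat.card_congr (Subgroup.subgroupOfEquivOfLe (inf_le_right : P ⊓ N ≤ N)).toEquiv,
      ← Nat.card_congr (Subgroup.subgroupOfEquivOfLe (inf_le_left : P ⊓ N ≤ P)).toEquiv,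
      Subgroup.inf_subgroupOf_left]
    exact Subgroup.card_mul_index _
  have hrel : N.relIndex P ≠ 0 := fun h => Subgroup.index_ne_zero_of_finite (H := N) (by
    rw [← hj, h, zero_mul])
  have hidx : (P ⊔ N).index ≠ 0 := Subgroup.index_ne_zero_of_finite
  have h1 := congrArg (fun k : ℕ => k.factorization p) hPR
  have h2 := congrArg (fun k : ℕ => k.factorization p) hj
  simp only [hr, hPc, Nat.factorization_mul, pow_ne_zero _ hp.ne_zero, ne_eq, not_false_eq_true,
    hrel, hidx, Finsupp.coe_add, Pi.add_apply, hp.factorization_pow, Finsupp.single_eq_same] at h1 h2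
  have hrd' : r = Cfsg.blockDefect p b := by omega
  refine ⟨fun hdvd => ?_, ?_, by omega⟩
  · have := hp.factorization_pos_of_dvd hidx hdvd
    omega
  · have hRE : R = E := Subgroup.eq_of_le_of_card_ge hle (by rw [hr, hEc, hrd'])
    exact hRE.symm ▸ hE

end Cfsg.Agent.S0970
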