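import Cfsg.Statements.S0972
import Cfsg.Agent.Lib.BlocksNormal.NormalDefect
import Cfsg.Agent.Lib.SecondMain.Heights

set_option autoImplicit false
open Cfsg

namespace Cfsg.Agent.S0972

/-- Let B be a block of the finite group G (relative to a maximal ideal M of the algebraic integers containing the prime p) with a defect group P that is normal in G. Then P is commutative if and only if every member of B has height zero. -/
theorem result {G : Type*} [Group G] [Finite G] (p : ℕ) [Fact p.Prime] (M : Ideal Cfsg.AlgInt) (hM : Cfsg.IsPModular p M) (B : Set (Cfsg.IrrCharacter G)) (hB : Cfsg.IsPBlock M B) (P : Subgroup G) [P.Normal] (hP : Cfsg.IsDefectGroup p M B P) : (∀ a ∈ P, ∀ c ∈ P, a * c = c * a) ↔ ∀ χ ∈ B, Cfsg.blockHeight p B (χ : G → ℂ) = 0 := by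
  classical
  have := Fintype.ofFinite G
  have hp : p.Prime := Fact.out
  have hPp := Blocks.isPGroup_defectGroup hM hP
  set C := Subgroup.centralizer (P : Set G)
  haveI : C.Normal :=
    ⟨fun g hg n => (Blocks.conj_mem_centralizer_iff (by simp [Subgroup.normalizer_eq_top]) g).mpr hg⟩
  have hHN : P ⊔ C ≤ Subgroup.normalizer (P : Set G) := by
    rw [Subgroup.normalizer_eq_top]
    exact le_top
  obtain ⟨H, hHdef⟩ : ∃ H, H = P ⊔ C := ⟨_, rfl⟩
  haveI : H.Normal := hHdef ▸ inferInstance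
  have := Fintype.ofFinite H
  have hPH : P ≤ H := hHdef ▸ le_sup_left
  have hCH : C ≤ H := hHdef ▸ le_sup_right
  set Q := P.subgroupOf H
  have hQp : IsPGroup p Q := hPp.of_equiv (Subgroup.subgroupOfEquivOfLe hPH).symm
  have hQH : Q ⊔ Subgroup.centralizer (Q : Set H) = ⊤ := by
    refine eq_top_iff.mpr fun x _ => ?_
    obtain ⟨u, hu, c, hc, huc⟩ :=
      Subgroup.mem_sup_of_normal_left.mp (show (x : G) ∈ P ⊔ C from hHdef ▸ x.2)
    have hx : x = ⟨u, hPH hu⟩ * ⟨c, hCH hc⟩ := Subtype.ext huc.symm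
    rw [hx]
    refine Subgroup.mul_mem_sup (Subgroup.mem_subgroupOf.mpr hu) ?_
    exact Subgroup.mem_centralizer_iff.mpr fun y hy =>
      Subtype.ext (Subgroup.mem_centralizer_iff.mp hc y (Subgroup.mem_subgroupOf.mp hy))
  -- defects and heights
  have hidx : H.index.factorization p + Q.index.factorization p = P.index.factorization p := by
    rw [← Subgroup.relIndex_mul_index hPH, show P.relIndex H = Q.index from rfl,
      Nat.factorization_mul (Subgroup.index_ne_zero_of_finite (H := Q))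
        Subgroup.index_ne_zero_of_finite, Finsupp.add_apply, Nat.add_comm]
  have hheight : ∀ χ ∈ B, Cfsg.blockHeight p B (χ : G → ℂ) = 0 ↔
      (Cfsg.charDegree (χ : G → ℂ)).factorization p = P.index.factorization p := by
    intro χ hχ
    have h1 := SecondMain.degree_factorization (p := p) hχ
    have h2 := Blocks.card_defectGroup hM hB hP
    have h3 := congrArg (fun k : ℕ => k.factorization p) P.card_mul_index
    simp only [h2, Nat.factorization_mul (pow_ne_zero _ hp.ne_zero)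
      (Subgroup.index_ne_zero_of_finite (H := P)), Finsupp.add_apply, hp.factorization_pow,
      Finsupp.single_eq_same] at h3
    omega
  have hcomm : (∀ a ∈ P, ∀ c ∈ P, a * c = c * a) ↔ ∀ a c : Q, a * c = c * a :=
    ⟨fun h a c => Subtype.ext (Subtype.ext (h _ (Subgroup.mem_subgroupOf.mp a.2) _
        (Subgroup.mem_subgroupOf.mp c.2))),
      fun h a ha c hc => congrArg (fun z : Q => ((z : H) : G))
        (h ⟨⟨a, hPH ha⟩, Subgroup.mem_subgroupOf.mpr ha⟩ ⟨⟨c, hPH hc⟩, Subgroup.mem_subgroupOf.mpr hc⟩)⟩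
  have hblock : ∀ θ : Cfsg.IrrCharacter H, ∀ χ ∈ B,
      Cfsg.classInner (fun n : H => (χ : G → ℂ) n) (θ : H → ℂ) ≠ 0 →
      Cfsg.IsInducedBlock M H (Cfsg.blockOf M (θ : H → ℂ)) B ∧
        Cfsg.IsDefectGroup p M (Cfsg.blockOf M (θ : H → ℂ)) Q := by
    intro θ χ hχ hθ
    have hind := BlocksNormal.isInducedBlock_of_cover hM H hPp hCH ⟨θ, rfl⟩ hB
      ⟨χ, hχ, θ, Blocks.mem_blockOf_self hM θ, hθ⟩
    exact ⟨hind, BlocksNormal.isDefectGroup_of_induced hM hPH (hHdef ▸ hHN) hind hP⟩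
  rw [hcomm]
  constructor
  · intro hab χ hχ
    obtain ⟨θ, hθ⟩ := BlocksNormal.exists_constituent H χ
    rw [hheight χ hχ, BlocksNormal.factorization_degree_over hM hB hP hPH hCH hχ hθ, ← hidx,
      (BlocksNormal.abelian_iff_degree_eq hM hQp hQH ⟨θ, rfl⟩ (hblock θ χ hχ hθ).2).mp hab θ
        (Blocks.mem_blockOf_self hM θ)]
  · intro hzero
    obtain ⟨χ₀, hχ₀⟩ := Blocks.isPBlock_nonempty hM hB
    obtain ⟨θ₀, hθ₀⟩ := BlocksNormal.exists_constituent H χ₀
    obtain ⟨hind₀, hdef₀⟩ := hblock θ₀ χ₀ hχ₀ hθ₀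
    refine (BlocksNormal.abelian_iff_degree_eq hM hQp hQH ⟨θ₀, rfl⟩ hdef₀).mpr fun θ hθ => ?_
    obtain ⟨χ, hcon⟩ := BlocksNormal.exists_over H θ
    have hind := BlocksNormal.isInducedBlock_of_cover hM H hPp hCH hind₀.1 ⟨χ, rfl⟩
      ⟨χ, Blocks.mem_blockOf_self hM χ, θ, hθ, hcon⟩
    have hχB : χ ∈ B := by
      rw [Blocks.isPBlock_eq_blockOf hM hB hχ₀]
      exact fun g => Blocks.memI_sub_trans hM (Blocks.memI_sub_comm (hind₀.2.2 θ hθ χ₀ hχ₀ g))
        (hind.2.2 θ hθ χ (Blocks.mem_blockOf_self hM χ) g)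
    have h1 := (hheight χ hχB).mp (hzero χ hχB)
    rw [BlocksNormal.factorization_degree_over hM hB hP hPH hCH hχB hcon, ← hidx] at h1
    omega

end Cfsg.Agent.S0972
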