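import Cfsg.Statements.S0973
import Cfsg.Agent.Lib.BlocksNormal.ExtFirstMain

set_option autoImplicit false
open Cfsg

namespace Cfsg.Agent.S0973

/-- Let B be a block of the finite group G with defect group P (relative to a maximal ideal M of the algebraic integers containing p), and let L = P ⊔ C_G(P). Then (i) some block b of L with defect group P (viewed in L) induces B, and (ii) if b and b' are blocks of L both inducing B, there is n ∈ N_G(P) carrying b to b': for every θ ∈ b there is θ' ∈ b' with θ' x = θ (n x n⁻¹) for all x ∈ L. -/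
theorem result {G : Type*} [Group G] [Finite G] (p : ℕ) [Fact p.Prime] (M : Ideal Cfsg.AlgInt) (hM : Cfsg.IsPModular p M) (B : Set (Cfsg.IrrCharacter G)) (hB : Cfsg.IsPBlock M B) (P : Subgroup G) (hP : Cfsg.IsDefectGroup p M B P) : (∃ b : Set (Cfsg.IrrCharacter ↥(P ⊔ Subgroup.centralizer (P : Set G))), Cfsg.IsDefectGroup p M b (P.subgroupOf (P ⊔ Subgroup.centralizer (P : Set G))) ∧ Cfsg.IsInducedBlock M (P ⊔ Subgroup.centralizer (P : Set G)) b B) ∧ ∀ b b' : Set (Cfsg.IrrCharacter ↥(P ⊔ Subgroup.centralizer (P : Set G))), Cfsg.IsInducedBlock M (P ⊔ Subgroup.centralizer (P : Set G)) b B → Cfsg.IsInducedBlock M (P ⊔ Subgroup.centralizer (P : Set G)) b' B → ∃ n ∈ Subgroup.normalizer (P : Set G), ∀ θ ∈ b, ∃ θ' ∈ b', ∀ x : ↥(P ⊔ Subgroup.centralizer (P : Set G)), ∀ hx : n * (x : G) * n⁻¹ ∈ P ⊔ Subgroup.centralizer (P : Set G), (θ' : ↥(P ⊔ Subgroup.centralizer (P : Set G)) → ℂ) x = (θ : ↥(P ⊔ Subgroup.centralizer (P : Set G)) → ℂ) ⟨n * (x : G) * n⁻¹, hx⟩ := by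
  classical
  have := Fintype.ofFinite G
  set L := P ⊔ Subgroup.centralizer (P : Set G) with hLdef
  set N := Subgroup.normalizer (P : Set G) with hNdef
  have hPp := Blocks.isPGroup_defectGroup hM hP
  have hL : L ≤ N := sup_le Subgroup.le_normalizer (Subgroup.centralizer_le_normalizer _)
  refine ⟨?_, fun b b' hb hb' => ?_⟩
  · obtain ⟨g, hg, hgP⟩ := hP
    obtain ⟨ξ, hξ⟩ := Blocks.exists_brauerPhi_not_memI hM hB hPp
      (le_sup_right : _ ≤ L) hL (Blocks.le_centralizer_singleton.mp (Blocks.sylowIn_le hgP)) hg.2.1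
    obtain ⟨B', hind, -, hphi⟩ := Blocks.exists_isInducedBlock hM hPp (le_sup_left : _ ≤ L)
      le_sup_right hL ⟨ξ, rfl⟩ (Blocks.mem_blockOf_self hM ξ)
    obtain ⟨χ, hχ⟩ := Blocks.isPBlock_nonempty hM hind.2.1
    have hχB : χ ∈ B := by
      by_contra hn
      have h3 := hphi χ hχ _ (Blocks.blockInd_mem_intRing hM hB)
      rw [Blocks.blockInd_of_notMem hn, sub_zero] at h3
      exact hξ h3
    obtain rfl := Blocks.isPBlock_eq_of_mem hM hind.2.1 hB hχ hχB
    exact ⟨_, BlocksNormal.isDefectGroup_of_induced hM le_sup_left hL hind ⟨g, hg, hgP⟩, hind⟩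
  · haveI : (P.subgroupOf N).Normal := Subgroup.normal_in_normalizer
    haveI : ((Subgroup.centralizer (P : Set G)).subgroupOf N).Normal := ⟨fun g hg n => by
      rw [Subgroup.mem_subgroupOf] at hg ⊢
      exact (Blocks.conj_mem_centralizer_iff n.2 _).mpr hg⟩
    haveI : (L.subgroupOf N).Normal := by
      rw [hLdef, Subgroup.subgroupOf_sup Subgroup.le_normalizer
        (Subgroup.centralizer_le_normalizer _)]
      infer_instance
    exact BlocksNormal.ext_first_main_conj hM hP le_sup_left le_sup_right hL hb hb'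

end Cfsg.Agent.S0973
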