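import Cfsg.Statements.S0982
import Cfsg.Agent.Lib.SmallOrders.PSLPrimeInst

set_option autoImplicit false
open Cfsg

namespace Cfsg.Agent.S0982

/-- A simple group of order 6072 is isomorphic to the projective special linear group of dimension 2 over the field with 23 elements. -/
theorem result {G : Type*} [Group G] [Finite G] [IsSimpleGroup G] (h : Nat.card G = 6072) {F : Type*} [Field F] [Fintype F] (hF : Fintype.card F = 23) : Nonempty (G ≃* Matrix.ProjectiveSpecialLinearGroup (Fin 2) F) := by
  have := Fact.mk (show Nat.Prime 23 by norm_num)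
  exact SmallOrders.PSLPrime.mulEquiv_psl 11 2 5 [23, 22, 11, 15, 17, 9, 19, 13, 20, 5, 16, 2, 21, 7, 18, 3, 10, 4, 14, 6, 8, 12, 1, 0] false (by decide +kernel) (by decide +kernel)
    (by norm_num) (by norm_num) (by norm_num) hF (h.trans (by norm_num))
    (fun e => absurd e (by decide)) (fun e => absurd e (by decide))

end Cfsg.Agent.S0982
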