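import Cfsg.Statements.S0987
import Cfsg.Agent.Lib.SmallOrders.Basic

set_option autoImplicit false
open Cfsg

namespace Cfsg.Agent.S0987

/-- If a finite group has order pqr for primes p < q < r, then its Sylow r-subgroups are normal. -/
theorem result {G : Type*} [Group G] [Finite G] (p q r : ℕ) (hp : p.Prime) (hq : q.Prime) [Fact r.Prime] (hpq : p < q) (hqr : q < r) (hG : Nat.card G = p * q * r) (R : Sylow r G) : (R : Subgroup G).Normal := by
  have := Fact.mk hp
  have := Fact.mk hq
  have hr : r.Prime := Fact.out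
  have hmin : (Nat.card G).minFac = p := by
    have hd : p ∣ Nat.card G := hG ▸ dvd_mul_of_dvd_left (dvd_mul_right p q) r
    refine le_antisymm (Nat.minFac_le_of_dvd hp.two_le hd) ?_
    have hm := Nat.minFac_prime (show Nat.card G ≠ 1 from fun h => hp.ne_one
      (Nat.dvd_one.mp (h ▸ hd)))
    have hdd : (Nat.card G).minFac ∣ p * q * r := hG ▸ Nat.minFac_dvd _
    rcases hm.dvd_mul.mp hdd with h | h
    · rcases hm.dvd_mul.mp h with h | h
      · exact ((Nat.prime_dvd_prime_iff_eq hm hp).mp h).ge
      · exact le_of_le_of_eq hpq.le ((Nat.prime_dvd_prime_iff_eq hm hq).mp h).symm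
    · exact le_of_le_of_eq (hpq.trans hqr).le ((Nat.prime_dvd_prime_iff_eq hm hr).mp h).symm
  obtain ⟨P⟩ := (inferInstance : Nonempty (Sylow p G))
  have hpqr : ¬ p ∣ q * r := fun h => by
    rcases hp.dvd_mul.mp h with h | h
    · exact hpq.ne ((Nat.prime_dvd_prime_iff_eq hp hq).mp h)
    · exact (hpq.trans hqr).ne ((Nat.prime_dvd_prime_iff_eq hp hr).mp h)
  have hcyc : IsCyclic (P : Subgroup G) := isCyclic_of_prime_card (p := p) (by
    rw [SmallOrders.card_sylow_subgroup (e := 1) (by rw [pow_one, hG, mul_assoc]) hpqr P, pow_one])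
  set K := (MonoidHom.transferSylow P (hcyc.normalizer_le_centralizer hmin)).ker
  have hcompl : K.IsComplement' P := hcyc.isComplement' hmin
  have hK : Nat.card K = q * r := by
    have h1 := hcompl.card_mul_card
    rw [SmallOrders.card_sylow_subgroup (e := 1) (by rw [pow_one, hG, mul_assoc]) hpqr P,
      pow_one, hG] at h1
    exact Nat.eq_of_mul_eq_mul_right hp.pos (by rw [h1]; ring)
  have hKn : K.Normal := MonoidHom.normal_ker _
  have hrq : ¬ r ∣ q := fun h => hqr.ne' ((Nat.prime_dvd_prime_iff_eq hr hq).mp h)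
  have hrpq : ¬ r ∣ p * q := fun h => by
    rcases hr.dvd_mul.mp h with h | h
    · exact (hpq.trans hqr).ne' ((Nat.prime_dvd_prime_iff_eq hr hp).mp h)
    · exact hrq h
  have hRK : ∀ S : Sylow r G, (S : Subgroup G) ≤ K := by
    intro S x hx
    have hidx : K.index = p := by
      rw [hcompl.symm.index_eq_card,
        SmallOrders.card_sylow_subgroup (e := 1) (by rw [pow_one, hG, mul_assoc]) hpqr P, pow_one]
    have h1 : orderOf (QuotientGroup.mk' K x) ∣ r := (orderOf_map_dvd _ x).trans (by
      rw [orderOf_dvd_iff_pow_eq_one]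
      have := congrArg Subtype.val (pow_card_eq_one' (x := (⟨x, hx⟩ : (S : Subgroup G))))
      rwa [SmallOrders.card_sylow_subgroup (e := 1) (m := p * q) (by rw [pow_one, hG]; ring) hrpq S,
        pow_one] at this)
    have h2 : orderOf (QuotientGroup.mk' K x) ∣ p := by
      rw [← hidx, Subgroup.index]
      exact orderOf_dvd_natCard _
    have h3 : orderOf (QuotientGroup.mk' K x) = 1 := Nat.eq_one_of_dvd_coprimes
      ((Nat.coprime_primes hr hp).mpr (hpq.trans hqr).ne') h1 h2
    exact (QuotientGroup.eq_one_iff x).mp (orderOf_eq_one_iff.mp h3)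
  have hsub : Subsingleton (Sylow r G) := by
    have hone : Nat.card (Sylow r K) = 1 := by
      obtain ⟨S⟩ := (inferInstance : Nonempty (Sylow r K))
      have hd : Nat.card (Sylow r K) ∣ q :=
        SmallOrders.index_sylow (e := 1) (m := q) (by rw [pow_one, hK]; ring) hrq S ▸ S.card_dvd_index
      have hmod : Nat.card (Sylow r K) ≡ 1 [MOD r] := card_sylow_modEq_one r K
      rcases (Nat.dvd_prime hq).mp hd with h | h
      · exact h
      · rw [h] at hmod
        unfold Nat.ModEq at hmod
        rw [Nat.mod_eq_of_lt hqr, Nat.mod_eq_of_lt hr.one_lt] at hmod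
        exact absurd hmod hq.ne_one
    have := (Nat.card_eq_one_iff_unique.mp hone).1
    exact ⟨fun A B => Sylow.subtype_injective
      (Subsingleton.elim (A.subtype (hRK A)) (B.subtype (hRK B)))⟩
  exact Sylow.normal_of_subsingleton R

end Cfsg.Agent.S0987
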