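import Cfsg.Statements.S0988
import Cfsg.Agent.Lib.SmallOrders.Check
import Cfsg.Agent.S0061
import Cfsg.Agent.S0062

set_option autoImplicit false
open Cfsg

namespace Cfsg.Agent.S0988

theorem not_solvable {G : Type*} [Group G] [Finite G] [IsSimpleGroup G]
    (hG : ¬ IsMulCommutative G) : ¬ Group.IsSolvable G := fun h =>
  hG ⟨⟨IsSimpleGroup.comm_iff_isSolvable.mpr h⟩⟩

theorem key {G : Type*} [Group G] [Finite G] [IsSimpleGroup G] (p q r : ℕ) (hp : p.Prime)
    (hq : q.Prime) (hr : r.Prime) (hG : Nat.card G = p ^ 2 * q * r)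
    (hnc : ¬ IsMulCommutative G) : Nat.card G = 60 := by
  have hns := not_solvable hnc
  by_cases hpq : p = q
  · exact absurd (Cfsg.Agent.S0061.result p r 3 hp hr (by rw [hG, hpq]; ring)) hns
  by_cases hpr : p = r
  · exact absurd (Cfsg.Agent.S0061.result p q 3 hp hq (by rw [hG, hpr]; ring)) hns
  by_cases hqr : q = r
  · exact absurd (Cfsg.Agent.S0062.result p q hp hq (by rw [hG, hqr]; ring)) hns
  have := Fact.mk hp
  have := Fact.mk hq
  have := Fact.mk hr
  have hnd : ∀ a b : ℕ, a.Prime → b.Prime → a ≠ b → ¬ a ∣ b := fun a b ha hb h hd =>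
    h ((Nat.prime_dvd_prime_iff_eq ha hb).mp hd)
  have hpm : ¬ p ∣ q * r := fun h => (hp.dvd_mul.mp h).elim (hnd p q hp hq hpq) (hnd p r hp hr hpr)
  have hqm : ¬ q ∣ p ^ 2 * r := fun h => (hq.dvd_mul.mp h).elim
    (fun h => hnd q p hq hp (Ne.symm hpq) (hq.dvd_of_dvd_pow h)) (hnd q r hq hr hqr)
  have hrm : ¬ r ∣ p ^ 2 * q := fun h => (hr.dvd_mul.mp h).elim
    (fun h => hnd r p hr hp (Ne.symm hpr) (hr.dvd_of_dvd_pow h)) (hnd r q hr hq (Ne.symm hqr))
  -- Burnside for a Sylow subgroup of prime order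
  have h1 : ∀ (a m : ℕ) [Fact a.Prime], Nat.card G = a ^ 1 * m → ¬ a ∣ m →
      ∃ c, c.Prime ∧ c * Nat.card (Sylow a G) ∣ m ∧ c ∣ a - 1 := by
    intro a m _ hc hm
    obtain ⟨P⟩ := (inferInstance : Nonempty (Sylow a G))
    have := isCyclic_of_prime_card (p := a) (α := (P : Subgroup G))
      (by rw [SmallOrders.card_sylow_subgroup hc hm P, pow_one])
    obtain ⟨c, i, hc', hcd, hi, hie, hci⟩ :=
      SmallOrders.exists_prime_dvd_normalizer hnc one_ne_zero hc hm P inferInstance
    obtain rfl : i = 1 := by omega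
    exact ⟨c, hc', hcd, by rwa [pow_one] at hci⟩
  have hdiv : ∀ c, c.Prime → ∀ m, c ∣ m → m = q * r → c = q ∨ c = r := by
    rintro c hc m h rfl
    exact (hc.dvd_mul.mp h).imp (Nat.prime_dvd_prime_iff_eq hc hq).mp
      (Nat.prime_dvd_prime_iff_eq hc hr).mp
  obtain ⟨c₁, hc₁, hc₁m, hc₁q⟩ := h1 q (p ^ 2 * r) (by rw [hG]; ring) hqm
  obtain ⟨c₂, hc₂, hc₂m, hc₂r⟩ := h1 r (p ^ 2 * q) (by rw [hG]; ring) hrm
  have hlt₁ : c₁ < q := lt_of_le_of_lt (Nat.le_of_dvd (by have := hq.two_le; omega) hc₁q)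
    (by have := hq.pos; omega)
  have hlt₂ : c₂ < r := lt_of_le_of_lt (Nat.le_of_dvd (by have := hr.two_le; omega) hc₂r)
    (by have := hr.pos; omega)
  have hc₁' : c₁ = p ∨ c₁ = r := (hc₁.dvd_mul.mp ((dvd_mul_right _ _).trans hc₁m)).imp
    (fun h => (Nat.prime_dvd_prime_iff_eq hc₁ hp).mp (hc₁.dvd_of_dvd_pow h))
    (Nat.prime_dvd_prime_iff_eq hc₁ hr).mp
  have hc₂' : c₂ = p ∨ c₂ = q := (hc₂.dvd_mul.mp ((dvd_mul_right _ _).trans hc₂m)).imp
    (fun h => (Nat.prime_dvd_prime_iff_eq hc₂ hp).mp (hc₂.dvd_of_dvd_pow h))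
    (Nat.prime_dvd_prime_iff_eq hc₂ hq).mp
  have hpq' : p < q ∨ p < r := by omega
  obtain ⟨P⟩ := (inferInstance : Nonempty (Sylow p G))
  have hPfac : Nat.card G = p ^ 2 * (q * r) := by rw [hG]; ring
  have hab : IsMulCommutative (P : Subgroup G) :=
    IsPGroup.isMulCommutative_of_card_eq_prime_sq (SmallOrders.card_sylow_subgroup hPfac hpm P)
  obtain ⟨c, i, hc, hcm, hi, hie, hci⟩ :=
    SmallOrders.exists_prime_dvd_normalizer hnc two_ne_zero hPfac hpm P hab
  have hc' : c = q ∨ c = r := hdiv c hc _ ((dvd_mul_right c _).trans hcm) rfl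
  -- the smallest prime is `p`, hence `p = 2` and `3` divides the order
  have hp1 : p < q := by
    rcases hc₁' with h | h <;> rcases hc₂' with h' | h' <;> omega
  have hp2 : p < r := by
    rcases hc₁' with h | h <;> rcases hc₂' with h' | h' <;> omega
  have hci' : c ∣ p + 1 := by
    rcases (show i = 1 ∨ i = 2 by omega) with rfl | rfl
    · rw [pow_one] at hci
      have := Nat.le_of_dvd (by have := hp.two_le; omega) hci
      omega
    · have hprod : p ^ 2 - 1 = (p + 1) * (p - 1) := by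
        have := Nat.sq_sub_sq p 1
        rwa [one_pow] at this
      rw [hprod] at hci
      rcases hc.dvd_mul.mp hci with h | h
      · exact h
      · have := Nat.le_of_dvd (by have := hp.two_le; omega) h
        omega
  have hcp : c = p + 1 := by
    have := Nat.le_of_dvd (by omega) hci'
    omega
  have hp2' : p = 2 := by
    by_contra hne
    obtain ⟨a, ha⟩ := hp.odd_of_ne_two hne
    obtain ⟨b, hb⟩ := hc.odd_of_ne_two (by have := hp.two_le; omega)
    omega
  subst hp2'
  obtain ⟨s, hs, hs5, hs12⟩ : ∃ s, s.Prime ∧ 5 ≤ s ∧ Nat.card G = 12 * s := by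
    rcases hc' with h | h
    · have hq3 : q = 3 := by omega
      have : r ≠ 4 := fun h4 => by norm_num [h4] at hr
      exact ⟨r, hr, by omega, by rw [hG, hq3]; ring⟩
    · have hr3 : r = 3 := by omega
      have : q ≠ 4 := fun h4 => by norm_num [h4] at hq
      exact ⟨q, hq, by omega, by rw [hG, hr3]; ring⟩
  have := Fact.mk hs
  have hs2 : ¬ s ∣ 12 := fun h => by
    have := Nat.le_of_dvd (by norm_num) h
    interval_cases s 
    all_goals omega
  obtain ⟨S⟩ := (inferInstance : Nonempty (Sylow s G))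
  have hSd : Nat.card (Sylow s G) ∣ 12 :=
    SmallOrders.index_sylow (e := 1) (by rw [pow_one, hs12, mul_comm]) hs2 S ▸ S.card_dvd_index
  have hone := SmallOrders.one_lt_card_sylow hnc (p := s) (hs12 ▸ dvd_mul_left s 12)
  have hmod : Nat.card (Sylow s G) ≡ 1 [MOD s] := card_sylow_modEq_one s G
  have hle := Nat.le_of_dvd (by norm_num) hSd
  have hs11 : s ≤ 11 := by
    by_contra hgt
    unfold Nat.ModEq at hmod
    rw [Nat.mod_eq_of_lt (by omega : 1 < s)] at hmod
    rw [Nat.mod_eq_of_lt (by omega)] at hmod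
    omega
  interval_cases s <;> norm_num at hs
  · exact hs12
  · exact absurd hs12 (SmallOrders.card_ne_of_critBool hnc 7 1 (by decide +kernel))
  · exact absurd hs12 (SmallOrders.card_ne_of_critBool hnc 11 1 (by decide +kernel))

/-- If a finite simple group has order p^2 * q * r with p, q and r prime, then its order is 60. -/
theorem result {G : Type*} [Group G] [Finite G] [IsSimpleGroup G] (p q r : ℕ) (hp : p.Prime) (hq : q.Prime) (hr : r.Prime) (hG : Nat.card G = p ^ 2 * q * r) : Nat.card G = 60 := by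
  have hGnp : ¬ (Nat.card G).Prime := fun h => by
    refine absurd (h.eq_one_or_self_of_dvd p (hG ▸ dvd_mul_of_dvd_left
      (dvd_mul_of_dvd_left (dvd_pow_self p two_ne_zero) q) r)) ?_
    push Not
    refine ⟨hp.ne_one, fun h' => ?_⟩
    have h1 : p * 1 < p ^ 2 * q * r := by
      rw [pow_two, mul_assoc, mul_assoc]
      exact Nat.mul_lt_mul_of_pos_left (Nat.one_lt_mul_iff.mpr
        ⟨hp.pos, Nat.mul_pos hq.pos hr.pos, Or.inl hp.one_lt⟩) hp.pos
    rw [← hG, ← h', mul_one] at h1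
    exact lt_irrefl _ h1
  have hnc := SmallOrders.not_isMulCommutative_of_card hGnp
  exact key p q r hp hq hr hG hnc

end Cfsg.Agent.S0988
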