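import Cfsg.Statements.S0992
import Cfsg.Agent.Lib.SmallOrders.Basic

set_option autoImplicit false
open Cfsg

namespace Cfsg.Agent.S0992

/-- Let G be a non-abelian finite simple group of even order not divisible by 8, and T a Sylow 2-subgroup. Then T is a Klein four-group and the centralizer of T has index 3 in the normalizer of T. -/
theorem result {G : Type*} [Group G] [Finite G] [IsSimpleGroup G] (hG : ¬ IsMulCommutative G) (h2 : Even (Nat.card G)) (h8 : ¬ 8 ∣ Nat.card G) (T : Sylow 2 G) : IsKleinFour ↥(T : Subgroup G) ∧ (Subgroup.centralizer ((T : Subgroup G) : Set G)).relIndex (Subgroup.normalizer ((T : Subgroup G) : Set G)) = 3 := by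
  have := Fact.mk Nat.prime_two
  have h2' : 2 ∣ Nat.card G := even_iff_two_dvd.mp h2
  set e := (Nat.card G).factorization 2
  have hfac : Nat.card G = 2 ^ e * (Nat.card G / 2 ^ e) :=
    (Nat.mul_div_cancel' (Nat.ordProj_dvd _ 2)).symm
  have hm : ¬ 2 ∣ Nat.card G / 2 ^ e := Nat.not_dvd_ordCompl Nat.prime_two Nat.card_pos.ne'
  have he1 : 1 ≤ e := (Nat.prime_two.dvd_iff_one_le_factorization Nat.card_pos.ne').mp h2'
  have hcard := SmallOrders.card_sylow_subgroup hfac hm T
  have hmin : (Nat.card G).minFac = 2 := (Nat.minFac_eq_two_iff _).mpr h2'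
  have hnc : ¬ IsCyclic (T : Subgroup G) := fun hc =>
    SmallOrders.normalizer_not_le_centralizer hG h2' T (IsCyclic.normalizer_le_centralizer hmin hc)
  have he : e = 2 := by
    rcases (show e = 1 ∨ e = 2 ∨ 3 ≤ e by omega) with h | h | h
    · exact absurd (isCyclic_of_prime_card (p := 2) (by rw [hcard, h, pow_one])) hnc
    · exact h
    · exact absurd ((pow_dvd_pow 2 h).trans (Nat.ordProj_dvd _ 2)) h8
  have h4 : Nat.card (T : Subgroup G) = 4 := by rw [hcard, he]; rfl
  have hne : ∀ x : (T : Subgroup G), x ≠ 1 → orderOf x = 2 := by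
    intro x hx
    obtain ⟨k, hk, hord⟩ := (Nat.dvd_prime_pow Nat.prime_two).mp
      ((orderOf_dvd_natCard x).trans (dvd_of_eq (by rw [h4]; rfl)) : orderOf x ∣ 2 ^ 2)
    rcases (show k = 0 ∨ k = 1 ∨ k = 2 by omega) with rfl | rfl | rfl
    · exact absurd (orderOf_eq_one_iff.mp hord) hx
    · exact hord
    · exact absurd (isCyclic_of_orderOf_eq_card x (by rw [hord, h4]; rfl)) hnc
  have : Nontrivial (T : Subgroup G) := Finite.one_lt_card_iff_nontrivial.mp (by omega)
  have hKF : IsKleinFour (T : Subgroup G) :=
    ⟨h4, (Monoid.exponent_eq_prime_iff Nat.prime_two).mpr hne⟩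
  refine ⟨hKF, ?_⟩
  set N := Subgroup.normalizer ((T : Subgroup G) : Set G)
  set C := Subgroup.centralizer ((T : Subgroup G) : Set G)
  let θ : N →* MulAut (T : Subgroup G) := (T : Subgroup G).normalizerMonoidHom
  have hker : θ.ker = C.subgroupOf N := (T : Subgroup G).normalizerMonoidHom_ker
  have hrel : C.relIndex N = Nat.card θ.range := by
    rw [Subgroup.relIndex, ← hker, Subgroup.index_ker]
  -- the odd part: the image has odd order
  have hodd : ¬ 2 ∣ C.relIndex N := by
    have hTC : (T : Subgroup G) ≤ C := fun x hx y hy =>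
      congrArg Subtype.val (IsKleinFour.isMulCommutative.is_comm.comm
        (⟨y, hy⟩ : (T : Subgroup G)) ⟨x, hx⟩)
    intro hd
    apply T.not_dvd_index
    refine hd.trans (dvd_trans ?_ (Subgroup.index_dvd_of_le hTC))
    exact C.relIndex_dvd_index_of_le (Subgroup.centralizer_le_normalizer _)
  have hne1 : C.relIndex N ≠ 1 := fun h =>
    SmallOrders.normalizer_not_le_centralizer hG h2' T (Subgroup.relIndex_eq_one.mp h)
  -- faithful on the three involutions
  have h6 : C.relIndex N ∣ 6 := by
    classical
    let ψ : MulAut (T : Subgroup G) →* Equiv.Perm {x : (T : Subgroup G) // x ≠ 1} :=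
      { toFun := fun σ => σ.toEquiv.subtypeEquiv fun x => by simp
        map_one' := by ext x; rfl
        map_mul' := fun σ τ => by ext x; rfl }
    have hψ : Function.Injective ψ := by
      intro σ τ h
      ext x
      by_cases hx : x = 1
      · simp [hx]
      · exact congrArg Subtype.val (congrArg Subtype.val (Equiv.ext_iff.mp h ⟨x, hx⟩))
    rw [hrel]
    refine (Subgroup.card_dvd_of_injective (ψ.comp θ.range.subtype)
      (hψ.comp Subtype.val_injective)).trans (dvd_of_eq ?_)
    have : Fintype (T : Subgroup G) := Fintype.ofFinite _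
    rw [Nat.card_perm, Nat.card_eq_fintype_card, Fintype.card_subtype_compl,
      Fintype.card_subtype_eq, ← Nat.card_eq_fintype_card, h4]
    rfl
  have h7 := Nat.le_of_dvd (by norm_num) h6
  interval_cases hc : C.relIndex N
  all_goals omega

end Cfsg.Agent.S0992
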