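import Cfsg.Statements.S4701
import Cfsg.Agent.Lib.BrauerN.Main
import Cfsg.Agent.EqLemmas

set_option autoImplicit false
open Cfsg

namespace Cfsg.Agent.S4701

/-- Let G be a finite perfect group and p a prime dividing the order of G with p^3 larger than the order of G. Suppose a Sylow p-subgroup of G is not normal and G has no normal subgroup of order 2. Then p > 3 and G is isomorphic to PSL(2, p), or to SL(2, 2^m) with p = 2^m + 1. -/
theorem result {G : Type*} [Group G] [Finite G] (hperf : commutator G = ⊤) (p : ℕ) [Fact p.Prime] (hdvd : p ∣ Nat.card G) (hbig : Nat.card G < p ^ 3) (P : Sylow p G) (hP : ¬ (P : Subgroup G).Normal) (h2 : ∀ N : Subgroup G, N.Normal → Nat.card N ≠ 2) : (∃ (F : Type) (_ : Field F) (_ : Fintype F), Fintype.card F = p ∧ 3 < p ∧ Nonempty (G ≃* Matrix.ProjectiveSpecialLinearGroup (Fin 2) F)) ∨ (∃ (m : ℕ) (F : Type) (_ : Field F) (_ : Fintype F), Fintype.card F = 2 ^ m ∧ p = 2 ^ m + 1 ∧ 3 < p ∧ Nonempty (G ≃* Matrix.SpecialLinearGroup (Fin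 2) F)) := by
  classical
  have hp : p.Prime := Fact.out
  obtain ⟨n, hn⟩ := BrauerN.card_sylow_form p G
  have hn1 : 1 ≤ n := by
    by_contra h
    rw [show n = 0 by omega, zero_mul, add_zero] at hn
    haveI : Subsingleton (Sylow p G) := (Nat.card_eq_one_iff_unique.mp hn).1
    exact hP (Sylow.normal_of_subsingleton P)
  have hnp : p ≤ n * p := Nat.le_mul_of_pos_left p hn1
  have hN : (1 + n * p) * Nat.card (Subgroup.normalizer (P : Set G)) = Nat.card G := by
    rw [← hn, Sylow.card_eq_index_normalizer P, Subgroup.index_mul_card]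
  have hPp : Nat.card P = p := by
    obtain ⟨k, hk⟩ := IsPGroup.iff_card.mp P.2
    rcases Nat.lt_trichotomy k 1 with h | h | h
    · exfalso
      have h1 := P.dvd_card_of_dvd_card hdvd
      rw [hk, show k = 0 by omega, pow_zero, Nat.dvd_one] at h1
      exact hp.ne_one h1
    · rw [hk, h, pow_one]
    · exfalso
      have h1 : p ^ 2 ≤ Nat.card (Subgroup.normalizer (P : Set G)) :=
        le_trans (by rw [hk]; exact Nat.pow_le_pow_right hp.pos h)
          (Nat.le_of_dvd Nat.card_pos (Subgroup.card_dvd_of_le Subgroup.le_normalizer))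
      have h2 : (1 + p) * p ^ 2 ≤ Nat.card G := hN ▸ Nat.mul_le_mul (by omega) h1
      nlinarith
  obtain ⟨x, L, hPx, hS⟩ := CyclicDefect.exists_setting_of_sylow hp P hPp
  have hL : 2 ≤ Nat.card L := by
    refine le_trans (BrauerN.two_le_index hS hperf) (Nat.le_of_dvd Nat.card_pos ?_)
    exact Subgroup.index_dvd_card _
  rw [show (P : Set G) = ((P : Subgroup G) : Set G) from rfl, hPx, hS.card_normalizer] at hN
  set H := pPrimeCore p G with hH
  have hcard : Nat.card G = Nat.card (G ⧸ H) * Nat.card H := Subgroup.card_eq_card_quotient_mul_card_subgroup H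
  have htriv : Nat.card H ≤ 2 → H = ⊥ := fun h => by
    have h0 : 0 < Nat.card H := Nat.card_pos
    have hne := h2 H inferInstance
    exact Subgroup.eq_bot_of_card_eq _ (by omega)
  rcases BrauerN.dichotomy hperf P hPp hn with ⟨F, iF, iFt, hF, hp3, ⟨ψ⟩⟩ |
    ⟨m, F, iF, iFt, hF, hpm, hp3, ⟨ψ⟩⟩ | ⟨h, u, hh, hu, he⟩
  · left
    have hodd : Odd (Nat.card F) := by
      rw [Nat.card_eq_fintype_card, hF]
      exact hp.odd_of_ne_two (by omega)
    have hq := GLOrder.card_PSL_two_of_odd (F := F) hodd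
    rw [← Nat.card_congr ψ.toEquiv, Nat.card_eq_fintype_card (α := F), hF] at hq
    have hb : H = ⊥ := htriv (by
      by_contra hgt
      have h3 : 3 * (p * (p ^ 2 - 1)) ≤ 2 * Nat.card G := by
        rw [hcard, ← hq]
        nlinarith
      obtain ⟨s, hs⟩ : ∃ s, p ^ 2 = s + 1 := ⟨p ^ 2 - 1, by have := Nat.one_le_pow 2 p hp.pos; omega⟩
      rw [hs, Nat.add_sub_cancel] at h3
      nlinarith [pow_succ p 2, Nat.mul_le_mul hp3 hp3])
    exact ⟨F, iF, iFt, hF, hp3,
      ⟨((QuotientGroup.quotientMulEquivOfEq hb).trans QuotientGroup.quotientBot).symm.trans ψ⟩⟩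
  · right
    have hq := GLOrder.card_SL_two (F := F)
    rw [← Nat.card_congr ψ.toEquiv, Nat.card_eq_fintype_card (α := F), hF] at hq
    have hb : H = ⊥ := htriv (by
      by_contra hgt
      have h3 : 3 * (2 ^ m * ((2 ^ m) ^ 2 - 1)) ≤ Nat.card G := by
        rw [hcard, ← hq]
        nlinarith
      obtain ⟨s, hs⟩ : ∃ s, (2 ^ m) ^ 2 = s + 1 := ⟨(2 ^ m) ^ 2 - 1, by have := Nat.one_le_pow 2 (2 ^ m) (by omega); omega⟩
      rw [hs, Nat.add_sub_cancel] at h3
      have h4 : 3 ≤ 2 ^ m := by omega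
      rw [hpm] at hbig
      nlinarith [Nat.mul_le_mul h4 h4, Nat.mul_le_mul_right (2 ^ m) (Nat.mul_le_mul h4 h4)])
    exact ⟨m, F, iF, iFt, hF, hpm, hp3,
      ⟨((QuotientGroup.quotientMulEquivOfEq hb).trans QuotientGroup.quotientBot).symm.trans ψ⟩⟩
  · exfalso
    have h1 : u * p < n * (u + 1) := by
      rw [he]
      nlinarith [Nat.mul_le_mul_right (u * p) (show 1 ≤ h from hh)]
    have h3 : p < 2 * n := by nlinarith
    have h4 : (1 + n * p) * (p * 2) ≤ Nat.card G := by
      rw [← hN]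
      exact Nat.mul_le_mul_left _ (Nat.mul_le_mul_left p hL)
    nlinarith [Nat.mul_le_mul_left (p * p) (show p ≤ 2 * n from h3.le)]

end Cfsg.Agent.S4701
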