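import Cfsg.Statements.S0999
import Cfsg.Agent.S4701
import Cfsg.Agent.EqLemmas

set_option autoImplicit false
open Cfsg

namespace Cfsg.Agent.S0999

/-- Let G be a non-cyclic finite simple group and p a prime divisor of its order with p^3 > |G|. Then p > 3 and G is isomorphic to the projective special linear group of dimension 2 over the field with p elements, or p - 1 is a power of 2 and G is isomorphic to that group over the field with p - 1 elements. -/
theorem result {G : Type*} [Group G] [Finite G] [IsSimpleGroup G] (hG : ¬ IsCyclic G) (p : ℕ) (hp : p.Prime) (hdvd : p ∣ Nat.card G) (hbig : Nat.card G < p ^ 3) : (∃ (F : Type) (_ : Field F) (_ : Fintype F), Fintype.card F = p ∧ 3 < p ∧ Nonempty (G ≃* Matrix.ProjectiveSpecialLinearGroup (Fin 2) F)) ∨ (∃ (m : ℕ) (F : Type) (_ : Field F) (_ : Fintype F), Fintype.card F = 2 ^ m ∧ p = 2 ^ m + 1 ∧ 3 < p ∧ Nonempty (G ≃* Matrix.ProjectiveSpecialLinearGroup (Fin 2) F)) := by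
  haveI := Fact.mk hp
  haveI : Nontrivial G := IsSimpleGroup.toNontrivial
  have hperf : commutator G = ⊤ := by
    rcases (inferInstance : (commutator G).Normal).eq_bot_or_eq_top with h | h
    · exfalso
      apply hG
      have hc : Subgroup.center G = ⊤ := (commutator_eq_bot_iff_center_eq_top (G := G)).mp h
      letI : CommGroup G := { ‹Group G› with
        mul_comm := fun a b => ((Subgroup.mem_center_iff.mp (hc ▸ Subgroup.mem_top b)) a) }
      exact IsSimpleGroup.isCyclic
    · exact h
  obtain ⟨P⟩ : Nonempty (Sylow p G) := inferInstance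
  have hP : ¬ (P : Subgroup G).Normal := by
    intro hn
    rcases hn.eq_bot_or_eq_top with h | h
    · have h1 := P.dvd_card_of_dvd_card hdvd
      rw [h, Subgroup.card_bot, Nat.dvd_one] at h1
      exact hp.ne_one h1
    · have hpg : IsPGroup p G := by
        obtain ⟨k, hk⟩ := IsPGroup.iff_card.mp P.2
        refine IsPGroup.of_card (n := k) ?_
        rw [← hk, show Nat.card P = Nat.card (P : Subgroup G) from rfl, h, Subgroup.card_top]
      haveI := hpg.center_nontrivial
      rcases (inferInstance : (Subgroup.center G).Normal).eq_bot_or_eq_top with hz | hz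
      · exact (Subgroup.nontrivial_iff_ne_bot _).mp inferInstance hz
      · have : commutator G = ⊥ := (commutator_eq_bot_iff_center_eq_top (G := G)).mpr hz
        rw [hperf] at this
        exact (top_ne_bot : (⊤ : Subgroup G) ≠ ⊥) this
  have h2 : ∀ N : Subgroup G, N.Normal → Nat.card N ≠ 2 := by
    intro N hN h
    rcases hN.eq_bot_or_eq_top with rfl | rfl
    · rw [Subgroup.card_bot] at h; omega
    · rw [Subgroup.card_top] at h
      haveI := Fact.mk Nat.prime_two
      exact hG (isCyclic_of_prime_card h)
  rcases S4701.result hperf p hdvd hbig P hP h2 with hl | ⟨m, F, iF, iFt, hF, hpm, hp3, ⟨ψ⟩⟩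
  · exact Or.inl hl
  · refine Or.inr ⟨m, F, iF, iFt, hF, hpm, hp3, ?_⟩
    have hbot : Subgroup.center (Matrix.SpecialLinearGroup (Fin 2) F) = ⊥ := by
      rw [← Subgroup.card_eq_one, GLOrder.card_center_SL, Fintype.card_fin, Nat.card_eq_fintype_card, hF]
      rcases m with _ | m
      · omega
      · have := Nat.one_le_two_pow (n := m)
        exact Nat.coprime_two_left.mpr ⟨2 ^ m - 1, by rw [pow_succ]; omega⟩
    exact ⟨ψ.trans ((QuotientGroup.quotientMulEquivOfEq hbot).trans QuotientGroup.quotientBot).symm⟩

end Cfsg.Agent.S0999
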