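import Cfsg.Statements.S1001
import Cfsg.Agent.Lib.Blocks.Simple
import Cfsg.Agent.S0144

set_option autoImplicit false
open Cfsg

namespace Cfsg.Agent.S1001

/-- In a finite simple group whose order has the form p * 3^a * 2^b with p prime, the centralizer of any element of order p is the cyclic group it generates. -/
theorem result {G : Type*} [Group G] [Finite G] [IsSimpleGroup G] (p a b : ℕ) (hp : p.Prime) (hG : Nat.card G = p * 3 ^ a * 2 ^ b) (x : G) (hx : orderOf x = p) : Subgroup.centralizer ({x} : Set G) = Subgroup.zpowers x := by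
  haveI : Fact p.Prime := ⟨hp⟩
  have hle : Subgroup.zpowers x ≤ Subgroup.centralizer ({x} : Set G) := Subgroup.zpowers_le.2
    (Subgroup.mem_centralizer_singleton_iff.2 rfl)
  have hx1 : x ≠ 1 := fun h => hp.ne_one (by rw [← hx, h, orderOf_one])
  haveI : Nontrivial G := ⟨⟨x, 1, hx1⟩⟩
  by_cases hna : ∃ u v : G, u * v ≠ v * u
  swap
  · have hcomm : ∀ u v : G, u * v = v * u := fun u v => not_not.1 fun h => hna ⟨u, v, h⟩
    haveI : (Subgroup.zpowers x).Normal := ⟨fun n hn g => by
      rwa [hcomm g n, mul_inv_cancel_right]⟩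
    have htop : Subgroup.zpowers x = ⊤ :=
      (Subgroup.Normal.eq_bot_or_eq_top inferInstance).resolve_left (by simpa using hx1)
    exact le_antisymm (htop ▸ le_top) hle
  have hnsol : ¬ Group.IsSolvable G := fun h => by
    obtain ⟨u, v, huv⟩ := hna
    haveI := h
    exact huv ((IsSimpleGroup.comm_iff_isSolvable.2 h) u v)
  have hp2 : p ≠ 2 := by
    rintro rfl
    exact hnsol (S0144.result 3 2 a (b + 1) Nat.prime_three Nat.prime_two (by rw [hG]; ring))
  have hp3 : p ≠ 3 := by
    rintro rfl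
    exact hnsol (S0144.result 3 2 (a + 1) b Nat.prime_three Nat.prime_two (by rw [hG]; ring))
  have hprime : ∀ s : ℕ, s.Prime → s ∣ Nat.card (Subgroup.centralizer ({x} : Set G)) → s = p := by
    intro s hs hd
    haveI : Fact s.Prime := ⟨hs⟩
    obtain ⟨z, hz⟩ := exists_prime_orderOf_dvd_card' (G := Subgroup.centralizer ({x} : Set G)) s hd
    have hz' : orderOf (z : G) = s := by rw [Subgroup.orderOf_coe]; exact hz
    have hc : Commute x (z : G) := (Subgroup.mem_centralizer_singleton_iff.1 z.2).symm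
    have hsG : s ∣ p * 3 ^ a * 2 ^ b := hG ▸ (hd.trans (Subgroup.card_subgroup_dvd_card _))
    rcases hs.dvd_mul.1 hsG with h | h
    · rcases hs.dvd_mul.1 h with h | h
      · exact (Nat.prime_dvd_prime_iff_eq hs hp).1 h
      · have hs3 := (Nat.prime_dvd_prime_iff_eq hs Nat.prime_three).1 (hs.dvd_of_dvd_pow h)
        exact (Blocks.not_commute_order_prime hna Nat.prime_three Nat.prime_two hp hp3.symm hp2.symm
          (a := a) (b := b) (by rw [hG]; ring) hx (by rw [hz', hs3]) hc).elim
    · have hs2 := (Nat.prime_dvd_prime_iff_eq hs Nat.prime_two).1 (hs.dvd_of_dvd_pow h)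
      exact (Blocks.not_commute_order_prime hna Nat.prime_two Nat.prime_three hp hp2.symm hp3.symm
        (a := b) (b := a) (by rw [hG]; ring) hx (by rw [hz', hs2]) hc).elim
  symm
  refine Subgroup.eq_of_le_of_card_ge hle ?_
  rw [Nat.card_zpowers, hx]
  obtain ⟨k, hk⟩ : ∃ k, Nat.card (Subgroup.centralizer ({x} : Set G)) = p ^ k :=
    ⟨_, Nat.eq_prime_pow_of_unique_prime_dvd Nat.card_pos.ne' (fun {d} hd hdd => hprime d hd hdd)⟩
  rw [hk]
  have hdiv : p ^ k ∣ p * (3 ^ a * 2 ^ b) := by
    rw [← hk, ← mul_assoc, ← hG]; exact Subgroup.card_subgroup_dvd_card _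
  have hco : Nat.Coprime (p ^ k) (3 ^ a * 2 ^ b) :=
    Nat.Coprime.pow_left _ (Nat.Coprime.mul_right
      (((Nat.coprime_primes hp Nat.prime_three).2 hp3).pow_right _)
      (((Nat.coprime_primes hp Nat.prime_two).2 hp2).pow_right _))
  exact Nat.le_of_dvd hp.pos (hco.dvd_of_dvd_mul_right hdiv)

end Cfsg.Agent.S1001
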