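import Cfsg.Statements.S1002
import Cfsg.Agent.EqLemmas
import Cfsg.Agent.Lib.SmallOrders.BlockDegrees.Criterion

set_option autoImplicit false
open Cfsg

namespace Cfsg.Agent.S1002

/-- No finite simple group has order 1004913 = 3^3 * 7 * 13 * 409. -/
theorem result {G : Type*} [Group G] [Finite G] [IsSimpleGroup G] : Nat.card G ≠ 1004913 := by
  intro h
  have hG : ¬ IsMulCommutative G :=
    Cfsg.Agent.SmallOrders.not_isMulCommutative_of_card (by rw [h]; norm_num)
  exact Cfsg.Agent.SmallOrders.BlockDegrees.card_ne_of_blockBool hG 13 1003 (by decide +kernel) h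

end Cfsg.Agent.S1002
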