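import Cfsg.Statements.S1004
import Cfsg.Agent.Lib.SmallOrders.Order168
import Cfsg.Agent.Lib.PSL2.Groups

set_option autoImplicit false
open Cfsg

namespace Cfsg.Agent.S1004

/-- Let G be a simple group of order 168 and T a Sylow 2-subgroup. Then T is dihedral of order 8, T is its own normalizer, and T is the centralizer of any non-identity element of T that commutes with every element of T. -/
theorem result {G : Type*} [Group G] [Finite G] [IsSimpleGroup G] (h : Nat.card G = 168) (T : Sylow 2 G) : Nonempty (↥(T : Subgroup G) ≃* DihedralGroup 4) ∧ Subgroup.normalizer ((T : Subgroup G) : Set G) = T ∧ ∀ z : G, z ∈ (T : Subgroup G) → z ≠ 1 → (∀ t ∈ (T : Subgroup G), t * z = z * t) → Subgroup.centralizer ({z} : Set G) = T := by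
  have := Fact.mk (show Nat.Prime 7 by norm_num)
  have := Fact.mk Nat.prime_three
  have := Fact.mk Nat.prime_two
  refine ⟨?_, SmallOrders.S168.normalizer_two h T, fun z hz hz1 hc =>
    SmallOrders.S168.centralizer_center_two h T hz hz1 hc⟩
  obtain ⟨y, hy, hy4⟩ := SmallOrders.S168.exists_four h T
  have hT8 := SmallOrders.S168.card_T h T
  set c : (T : Subgroup G) := ⟨y, hy⟩ with hc
  have hc4 : orderOf c = 4 := by rw [← Subgroup.orderOf_coe]; exact hy4
  obtain ⟨t, -, ht⟩ := SetLike.exists_of_lt (show Subgroup.zpowers c < ⊤ from lt_top_iff_ne_top.mpr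
    fun h1 => by
      have := Nat.card_zpowers c
      rw [h1, Subgroup.card_top, hT8, hc4] at this
      omega)
  obtain ⟨-, -, huniq, -⟩ := SmallOrders.S168.counting h
  have h2 : ∀ a : (T : Subgroup G), a ∉ Subgroup.zpowers c → orderOf a = 2 := by
    intro a ha
    have ha8 : orderOf a ∣ 8 := hT8 ▸ orderOf_dvd_natCard a
    have hcase := SmallOrders.S168.orderOf_cases h (a : G)
    rw [Subgroup.orderOf_coe] at hcase
    have hne1 : orderOf a ≠ 1 := fun h1 => ha (orderOf_eq_one_iff.mp h1 ▸ one_mem _)
    have hne4 : orderOf a ≠ 4 := fun h4 => by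
      rcases huniq T y hy hy4 a a.2 (by rw [Subgroup.orderOf_coe, h4]) with h' | h'
      · obtain rfl : a = c := Subtype.ext h'
        exact ha (Subgroup.mem_zpowers c)
      · obtain rfl : a = c⁻¹ := Subtype.ext h'
        exact ha (inv_mem (Subgroup.mem_zpowers c))
    rcases hcase with h' | h' | h' | h' | h'
    · exact absurd h' hne1
    · exact h'
    · rw [h'] at ha8; norm_num at ha8
    · exact absurd h' hne4
    · rw [h'] at ha8; norm_num at ha8
  have htc : t * c ∉ Subgroup.zpowers c := fun h1 =>
    ht (by simpa using mul_mem h1 (inv_mem (Subgroup.mem_zpowers c)))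
  have e1 : (t * c) * (t * c) = 1 := by
    have := pow_orderOf_eq_one (t * c)
    rwa [h2 _ htc, pow_two] at this
  exact PSL2.mulEquiv_dihedral (n := 4) (by rw [hT8]) (by norm_num) c t hc4 (h2 t ht)
    (eq_inv_of_mul_eq_one_left (by rw [mul_assoc, mul_assoc, ← mul_assoc t c]; simpa [mul_assoc] using e1)) ht

end Cfsg.Agent.S1004
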