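import Cfsg.Statements.S1005
import Cfsg.Agent.Lib.SmallOrders.Order168

set_option autoImplicit false
open Cfsg

namespace Cfsg.Agent.S1005

/-- In a simple group of order 168 every element has order 1, 2, 3, 4 or 7; there are exactly 21 elements of order 2, and any two of them are conjugate. -/
theorem result {G : Type*} [Group G] [Finite G] [IsSimpleGroup G] (h : Nat.card G = 168) : (∀ g : G, orderOf g = 1 ∨ orderOf g = 2 ∨ orderOf g = 3 ∨ orderOf g = 4 ∨ orderOf g = 7) ∧ Nat.card {g : G // orderOf g = 2} = 21 ∧ ∀ s t : G, orderOf s = 2 → orderOf t = 2 → IsConj s t := by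
  have := Fact.mk (show Nat.Prime 7 by norm_num)
  have := Fact.mk Nat.prime_three
  have := Fact.mk Nat.prime_two
  obtain ⟨h2, -, -, hex⟩ := SmallOrders.S168.counting h
  refine ⟨SmallOrders.S168.orderOf_cases h, h2, fun s t hs ht => ?_⟩
  obtain ⟨S, hsS, hsc⟩ := hex s hs
  obtain ⟨T, htT, htc⟩ := hex t ht
  obtain ⟨g, hg⟩ := MulAction.exists_smul_eq G S T
  have hne : ∀ a : G, orderOf a = 2 → a ≠ 1 := fun a ha h1 => by
    rw [h1, orderOf_one] at ha
    norm_num at ha
  have hgs : orderOf (g * s * g⁻¹) = 2 :=
    (orderOf_injective (MulAut.conj g).toMonoidHom (MulAut.conj g).injective s).trans hs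
  obtain ⟨U, huU, huc⟩ := hex _ hgs
  -- `T` and `U` are both the centraliser of the conjugate of `s`
  have hTU : U = T := by
    apply Sylow.ext
    rw [← SmallOrders.S168.centralizer_center_two h U huU (hne _ hgs) huc, ← hg,
      Sylow.coe_subgroup_smul, ← SmallOrders.S168.centralizer_center_two h S hsS (hne _ hs) hsc]
    ext a
    rw [Subgroup.mem_pointwise_smul_iff_inv_smul_mem, Subgroup.mem_centralizer_singleton_iff,
      Subgroup.mem_centralizer_singleton_iff]
    simp only [MulAut.smul_def, MulAut.inv_apply, MulAut.conj_symm_apply]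
    constructor
    · intro h'
      have := congrArg (fun b => g⁻¹ * b * g) h'
      simpa [mul_assoc] using this
    · intro h'
      have := congrArg (fun b => g * b * g⁻¹) h'
      simpa [mul_assoc] using this
  subst hTU
  -- two central involutions of the same Sylow subgroup agree
  have hinj : ∀ (V : Sylow 2 G) (a b : G), orderOf a = 2 → orderOf b = 2 → a ∈ (V : Subgroup G) →
      b ∈ (V : Subgroup G) → (∀ x ∈ (V : Subgroup G), x * a = a * x) →
      (∀ x ∈ (V : Subgroup G), x * b = b * x) → a = b := by
    intro V a b ha hb haV hbV hac hbc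
    by_contra hab
    have hI : {x : G // orderOf x = 2} → Sylow 2 G := fun x => (hex x.1 x.2).choose
    let F : {x : G // orderOf x = 2} → Sylow 2 G := fun x => (hex x.1 x.2).choose
    have hF : ∀ x, F x = V ↔ Subgroup.centralizer ({(x : G)} : Set G) = (V : Subgroup G) := fun x => by
      obtain ⟨h1, h2'⟩ := (hex x.1 x.2).choose_spec
      have := SmallOrders.S168.centralizer_center_two h _ h1 (hne _ x.2) h2'
      rw [this]
      exact ⟨fun e => congrArg _ e, fun e => Sylow.ext e⟩
    have hsurj : Function.Surjective F := fun W => by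
      obtain ⟨z, hzW, hz2, hzc⟩ := SmallOrders.S168.exists_central_involution h W
      refine ⟨⟨z, hz2⟩, Sylow.ext ?_⟩
      obtain ⟨h1, h2'⟩ := (hex z hz2).choose_spec
      rw [← SmallOrders.S168.centralizer_center_two h W hzW (hne _ hz2) hzc,
        SmallOrders.S168.centralizer_center_two h _ h1 (hne _ hz2) h2']
    have hbij := (Nat.bijective_iff_surjective_and_card F).mpr
      ⟨hsurj, h2.trans (SmallOrders.S168.card_sylow_two h).symm⟩
    have := hbij.1 (((hF ⟨a, ha⟩).mpr (SmallOrders.S168.centralizer_center_two h V haV (hne _ ha) hac)).trans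
      ((hF ⟨b, hb⟩).mpr (SmallOrders.S168.centralizer_center_two h V hbV (hne _ hb) hbc)).symm)
    exact hab (congrArg Subtype.val this)
  exact isConj_iff.mpr ⟨g, hinj U _ _ hgs ht huU htT huc htc⟩

end Cfsg.Agent.S1005
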