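import Cfsg.Statements.S1007
import Cfsg.Agent.Lib.SmallOrders.Order168Klein
import Cfsg.Agent.S1012

set_option autoImplicit false
open Cfsg

namespace Cfsg.Agent.S1007

/-- Let G be a simple group of order 168 and T a Sylow 2-subgroup. Then T contains exactly two subgroups that are Klein four-groups; they are not conjugate in G; and the normalizer of every Klein four-subgroup of G is isomorphic to the symmetric group of degree 4. -/
theorem result {G : Type*} [Group G] [Finite G] [IsSimpleGroup G] (h : Nat.card G = 168) (T : Sylow 2 G) : Nat.card {U : Subgroup G // U ≤ (T : Subgroup G) ∧ IsKleinFour ↥U} = 2 ∧ (∀ U W : Subgroup G, U ≤ (T : Subgroup G) → W ≤ (T : Subgroup G) → IsKleinFour ↥U → IsKleinFour ↥W → U ≠ W → ∀ g : G, U.map (MulAut.conj g).toMonoidHom ≠ W) ∧ ∀ U : Subgroup G, IsKleinFour ↥U → Nonempty (↥(Subgroup.normalizer (U : Set G)) ≃* Equiv.Perm (Fin 4)) := by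
  have := Fact.mk (show Nat.Prime 7 by norm_num)
  have := Fact.mk Nat.prime_three
  have := Fact.mk Nat.prime_two
  obtain ⟨A, B, hA, hB, hAT, hBT, hAB, hall⟩ := SmallOrders.S168.exists_klein_pair h T
  refine ⟨Nat.card_eq_two_iff.mpr ⟨⟨A, hAT, hA⟩, ⟨B, hBT, hB⟩, fun e => hAB (congrArg Subtype.val e),
    Set.eq_univ_of_forall fun V => ?_⟩, fun U W hU hW hUK hWK hne g =>
      SmallOrders.S168.not_conj_klein h T hU hW hne g, fun U hU => ?_⟩
  · rcases hall V.1 V.2.1 V.2.2 with e | e
    · exact Or.inl (Subtype.ext e)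
    · exact Or.inr (Subtype.ext e)
  · exact S1012.result (SmallOrders.S168.card_normalizer_klein h U) (SmallOrders.S168.no_six h _)

end Cfsg.Agent.S1007
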