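import Cfsg.Statements.S1008
import Cfsg.Agent.Lib.SmallOrders.Order168Klein
import Cfsg.Agent.S1012

set_option autoImplicit false
open Cfsg

namespace Cfsg.Agent.S1008

/-- In a simple group of order 168 every maximal subgroup is either isomorphic to the symmetric group of degree 4 or non-abelian of order 21; the maximal subgroups of order 21 form one conjugacy class and those isomorphic to the symmetric group of degree 4 form exactly two conjugacy classes. -/
theorem result {G : Type*} [Group G] [Finite G] [IsSimpleGroup G] (h : Nat.card G = 168) : (∀ M : Subgroup G, IsCoatom M → Nonempty (↥M ≃* Equiv.Perm (Fin 4)) ∨ (Nat.card ↥M = 21 ∧ ¬ IsMulCommutative ↥M)) ∧ (∀ M M' : Subgroup G, IsCoatom M → IsCoatom M' → Nat.card ↥M = 21 → Nat.card ↥M' = 21 → ∃ g : G, M' = M.map (MulAut.conj g).toMonoidHom) ∧ ∃ M₁ M₂ : Subgroup G, IsCoatom M₁ ∧ IsCoatom M₂ ∧ Nonempty (↥M₁ ≃* Equiv.Perm (Fin 4)) ∧ Nonempty (↥M₂ ≃* Equiv.Perm (Fin 4)) ∧ (∀ g : G, M₂ ≠ M₁.map (MulAut.conj g).toMonoidHom) ∧ ∀ M :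 Subgroup G, IsCoatom M → Nonempty (↥M ≃* Equiv.Perm (Fin 4)) → ∃ g : G, M = M₁.map (MulAut.conj g).toMonoidHom ∨ M = M₂.map (MulAut.conj g).toMonoidHom := by
  have := Fact.mk (show Nat.Prime 7 by norm_num)
  have := Fact.mk Nat.prime_three
  have := Fact.mk Nat.prime_two
  obtain ⟨T⟩ := (inferInstance : Nonempty (Sylow 2 G))
  obtain ⟨A, B, hA, hB, hAT, hBT, hAB, hall⟩ := SmallOrders.S168.exists_klein_pair h T
  have h24 : ∀ (U : Subgroup G), IsKleinFour U →
      Nonempty (↥(Subgroup.normalizer (U : Set G)) ≃* Equiv.Perm (Fin 4)) := fun U _ =>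
    S1012.result (SmallOrders.S168.card_normalizer_klein h U) (SmallOrders.S168.no_six h _)
  refine ⟨fun M hM => ?_, fun M M' hM hM' h1 h2 => ?_,
    Subgroup.normalizer (A : Set G), Subgroup.normalizer (B : Set G),
    SmallOrders.S168.isCoatom_normalizer_klein h A, SmallOrders.S168.isCoatom_normalizer_klein h B,
    h24 A hA, h24 B hB, fun g hg => ?_, fun M hM hiso => ?_⟩
  · rcases SmallOrders.S168.eq_normalizer_of_isCoatom h hM with ⟨P, rfl⟩ | ⟨U, hU, rfl⟩
    · refine Or.inr ⟨SmallOrders.S168.card_normalizer_seven h P, fun hc => ?_⟩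
      have hx : ∃ x : (P : Subgroup G), orderOf x = 7 :=
        exists_prime_orderOf_dvd_card' 7 (by rw [SmallOrders.S168.card_P h])
      obtain ⟨x, hx⟩ := hx
      obtain ⟨g, hg, hgc⟩ := SetLike.not_le_iff_exists.mp
        (SmallOrders.normalizer_not_le_centralizer (SmallOrders.S168.nc h)
          (p := 7) (by rw [h]; norm_num) P)
      exact hgc fun y hy => congrArg Subtype.val
        (hc.is_comm.comm (⟨y, Subgroup.le_normalizer hy⟩ : Subgroup.normalizer ((P : Subgroup G) : Set G)) ⟨g, hg⟩)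
    · exact Or.inl (h24 U hU)
  · have hsev : ∀ N : Subgroup G, IsCoatom N → Nat.card N = 21 →
        ∃ P : Sylow 7 G, N = Subgroup.normalizer ((P : Subgroup G) : Set G) := by
      intro N hN hc
      rcases SmallOrders.S168.eq_normalizer_of_isCoatom h hN with hP | ⟨U, hU, rfl⟩
      · exact hP
      · rw [SmallOrders.S168.card_normalizer_klein h U] at hc
        norm_num at hc
    obtain ⟨P, rfl⟩ := hsev M hM h1
    obtain ⟨Q, rfl⟩ := hsev M' hM' h2
    obtain ⟨g, hg⟩ := MulAction.exists_smul_eq G P Q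
    refine ⟨g, ?_⟩
    rw [← SmallOrders.S168.normalizer_map_conj, SmallOrders.S168.map_conj_eq_smul,
      ← Sylow.coe_subgroup_smul, hg]
  · rw [← SmallOrders.S168.normalizer_map_conj] at hg
    have := SmallOrders.S168.isKleinFour_map g A
    exact SmallOrders.S168.not_conj_klein h T hAT hBT hAB g
      (SmallOrders.S168.klein_eq_of_normalizer_eq h _ _ hg).symm
  · rcases SmallOrders.S168.eq_normalizer_of_isCoatom h hM with ⟨P, rfl⟩ | ⟨U, hU, rfl⟩
    · have := Nat.card_congr hiso.some.toEquiv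
      rw [SmallOrders.S168.card_normalizer_seven h P, Nat.card_perm, Nat.card_fin] at this
      norm_num [Nat.factorial] at this
    · obtain ⟨g, hg⟩ := SmallOrders.S168.conj_klein_cases h T hall U
      refine ⟨g, ?_⟩
      rw [← SmallOrders.S168.normalizer_map_conj, ← SmallOrders.S168.normalizer_map_conj]
      rcases hg with rfl | rfl
      · exact Or.inl rfl
      · exact Or.inr rfl

end Cfsg.Agent.S1008
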