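import Cfsg.Statements.S1018
import Cfsg.Agent.EqLemmas

set_option autoImplicit false
open Cfsg
open scoped Pointwise

namespace Cfsg.Agent.S1018

/-- Let P be a Sylow p-subgroup of order p of a finite group G, and consider the action of G on the left cosets of the normalizer N of P. Then every element of order p fixes exactly one coset, and an element of N that does not centralize P fixes at most as many cosets as there are orbits of P. -/
theorem result {G : Type*} [Group G] [Finite G] (p : ℕ) [Fact p.Prime] (P : Sylow p G) (hP : Nat.card ↥(P : Subgroup G) = p) : (∀ y : G, orderOf y = p → Nat.card (MulAction.fixedBy (G ⧸ Subgroup.normalizer ((P : Subgroup G) : Set G)) y) = 1) ∧ ∀ x : G, x ∈ Subgroup.normalizer ((P : Subgroup G) : Set G) → x ∉ Subgroup.centralizer ((P : Subgroup G) : Set G) → Nat.card (MulAction.fixedBy (G ⧸ Subgroup.normalizer ((P : Subgroup G) : Set G)) x) ≤ Nat.card (MulAction.orbitRel.Quotient ↥(P : Subgroup G) (G ⧸ Subgroup.normalizer ((P : Subgroup G) : Set G))) := by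
  classical
  set N := Subgroup.normalizer ((P : Subgroup G) : Set G) with hN
  have hp : p.Prime := Fact.out
  have hfix : ∀ (y a : G), y • (a : G ⧸ N) = (a : G ⧸ N) ↔ a⁻¹ * y * a ∈ N := by
    intro y a
    rw [MulAction.Quotient.smul_coe, QuotientGroup.eq, smul_eq_mul]
    have h : (y * a)⁻¹ * a = (a⁻¹ * y * a)⁻¹ := by group
    rw [h]; exact inv_mem_iff
  have hzp : ∀ z : G, z ∈ (P : Subgroup G) → z ≠ 1 → Subgroup.zpowers z = (P : Subgroup G) := by
    intro z hz hz1
    apply Subgroup.eq_of_le_of_card_ge (Subgroup.zpowers_le.2 hz)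
    have hd : orderOf z ∣ p := hP ▸ Subgroup.orderOf_dvd_natCard (P : Subgroup G) hz
    rcases (Nat.dvd_prime hp).1 hd with h | h
    · exact absurd (orderOf_eq_one_iff.1 h) hz1
    · rw [Nat.card_zpowers, h, hP]
  constructor
  · intro y hy
    have hyP : IsPGroup p (Subgroup.zpowers y) :=
      IsPGroup.of_card (n := 1) (by rw [Nat.card_zpowers, hy, pow_one])
    obtain ⟨Q, hQ⟩ := hyP.exists_le_sylow
    obtain ⟨g, rfl⟩ := MulAction.exists_smul_eq G P Q
    have hyg : g⁻¹ * y * g ∈ (P : Subgroup G) := by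
      have h0 : y ∈ MulAut.conj g • (P : Subgroup G) := hQ (Subgroup.mem_zpowers y)
      rw [Subgroup.mem_pointwise_smul_iff_inv_smul_mem, MulAut.smul_def] at h0
      simpa using h0
    rw [Nat.card_eq_one_iff_exists]
    have hgy : y • (g : G ⧸ N) = (g : G ⧸ N) := (hfix y g).2 (Subgroup.le_normalizer hyg)
    refine ⟨⟨(g : G ⧸ N), hgy⟩, ?_⟩
    rintro ⟨q, hq⟩
    induction q using QuotientGroup.induction_on with | _ a =>
    apply Subtype.ext
    change (a : G ⧸ N) = (g : G ⧸ N)
    rw [QuotientGroup.eq]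
    have ha : a⁻¹ * y * a ∈ N := (hfix y a).1 hq
    set u := g⁻¹ * y * g with hu
    set v := a⁻¹ * y * a with hv
    have hconjv : v = MulAut.conj a⁻¹ y := by simp [hv, MulAut.conj_apply]
    have hconju : u = MulAut.conj g⁻¹ y := by simp [hu, MulAut.conj_apply]
    have hvord : orderOf v = p := by rw [hconjv, MulEquiv.orderOf_eq, hy]
    have huord : orderOf u = p := by rw [hconju, MulEquiv.orderOf_eq, hy]
    have hvp : IsPGroup p (Subgroup.zpowers v) :=
      IsPGroup.of_card (n := 1) (by rw [Nat.card_zpowers, hvord, pow_one])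
    have hvP : v ∈ (P : Subgroup G) := by
      have h := hvp.inf_normalizer_sylow P
      have hmem : v ∈ Subgroup.zpowers v ⊓ N := ⟨Subgroup.mem_zpowers v, ha⟩
      have h' : Subgroup.zpowers v ⊓ N = Subgroup.zpowers v ⊓ (P : Subgroup G) := h
      rw [h'] at hmem
      exact hmem.2
    have hu1 : u ≠ 1 := fun h => hp.one_lt.ne (by rw [← huord, h, orderOf_one])
    have hv1 : v ≠ 1 := fun h => hp.one_lt.ne (by rw [← hvord, h, orderOf_one])
    rw [hN, Subgroup.mem_normalizer_iff]
    intro z
    have hmap : ∀ w : G, w ∈ (P : Subgroup G) →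
        (a⁻¹ * g) * w * (a⁻¹ * g)⁻¹ ∈ (P : Subgroup G) := by
      intro w hw
      rw [← hzp u hyg hu1] at hw
      obtain ⟨k, rfl⟩ := hw
      have : (a⁻¹ * g) * u * (a⁻¹ * g)⁻¹ = v := by rw [hu, hv]; group
      rw [← conj_zpow, this]
      exact zpow_mem hvP k
    refine ⟨hmap z, fun hz => ?_⟩
    rw [← hzp v hvP hv1] at hz
    obtain ⟨k, hk⟩ := hz
    have : z = u ^ k := by
      have h2 : (a⁻¹ * g) * u * (a⁻¹ * g)⁻¹ = v := by rw [hu, hv]; group
      simp only [← h2, conj_zpow] at hk
      exact (mul_left_cancel (mul_right_cancel hk)).symm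
    rw [this]; exact zpow_mem hyg k
  · intro x hxN hxC
    refine Nat.card_le_card_of_injective
      (fun q : MulAction.fixedBy (G ⧸ N) x =>
        (Quotient.mk'' q.1 : MulAction.orbitRel.Quotient ↥(P : Subgroup G) (G ⧸ N))) ?_
    rintro ⟨a, ha⟩ ⟨b, hb⟩ hab
    apply Subtype.ext
    change a = b
    obtain ⟨⟨u, hu⟩, hua⟩ := Quotient.exact' hab
    change u • b = a at hua
    by_cases hu1 : u = 1
    · rw [hu1, one_smul] at hua; exact hua.symm
    set c := u⁻¹ * (x * u * x⁻¹) with hc
    have hcP : c ∈ (P : Subgroup G) :=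
      Subgroup.mul_mem _ (Subgroup.inv_mem _ hu) ((Subgroup.mem_normalizer_iff.1 hxN u).1 hu)
    have hcb : c • b = b := by
      have h1 : (x⁻¹ : G) • b = b := by
        rw [inv_smul_eq_iff]; exact hb.symm
      rw [hc, mul_smul, mul_smul, mul_smul, h1, hua]
      rw [show x • a = a from ha, ← hua, inv_smul_smul]
    by_cases hc1 : c = 1
    · exfalso; apply hxC
      rw [Subgroup.mem_centralizer_iff]
      intro z hz
      have hz' : z ∈ Subgroup.zpowers u := by rw [hzp u hu hu1]; exact hz
      obtain ⟨k, rfl⟩ := hz'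
      have hcomm : Commute u x := by
        have h2 : x * u * x⁻¹ = u := by
          rw [hc, inv_mul_eq_one] at hc1; exact hc1.symm
        exact (mul_inv_eq_iff_eq_mul.1 h2).symm
      exact (hcomm.zpow_left k).eq
    · have hstab : (P : Subgroup G) ≤ MulAction.stabilizer G b := by
        rw [← hzp c hcP hc1]; exact Subgroup.zpowers_le.2 hcb
      rw [← hua]; exact hstab hu

end Cfsg.Agent.S1018
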