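import Cfsg.Statements.S1019
import Cfsg.Agent.EqLemmas

set_option autoImplicit false
open Cfsg

namespace Cfsg.Agent.S1019

theorem natCard_preimage_mk {G : Type*} [Group G] (K : Subgroup G) (T : Set (G ⧸ K)) :
    Nat.card ((QuotientGroup.mk : G → G ⧸ K) ⁻¹' T) = Nat.card K * Nat.card T := by
  rw [Nat.card_congr (QuotientGroup.preimageMkEquivSubgroupProdSet K T), Nat.card_prod]

/-- Let H be a subgroup of a finite group G and x an element of H. In the action of G on the left cosets of H, the number of cosets fixed by x, multiplied by the size of the conjugacy class of x, equals the index of H multiplied by the number of conjugates of x that lie in H. -/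
theorem result {G : Type*} [Group G] [Finite G] (H : Subgroup G) (x : G) (hx : x ∈ H) : Nat.card (MulAction.fixedBy (G ⧸ H) x) * Nat.card {g : G // IsConj x g} = H.index * Nat.card {g : G // IsConj x g ∧ g ∈ H} := by
  classical
  set K := Subgroup.centralizer ({x} : Set G) with hK
  have hKmem : ∀ {a b : G}, a⁻¹ * b ∈ K ↔ a * x * a⁻¹ = b * x * b⁻¹ := by
    intro a b
    rw [hK, Subgroup.mem_centralizer_singleton_iff]
    constructor
    · intro h
      calc a * x * a⁻¹ = a * (x * (a⁻¹ * b)) * b⁻¹ := by group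
        _ = a * ((a⁻¹ * b) * x) * b⁻¹ := by rw [h]
        _ = b * x * b⁻¹ := by group
    · intro h
      calc (a⁻¹ * b) * x = a⁻¹ * (b * x * b⁻¹) * b := by group
        _ = a⁻¹ * (a * x * a⁻¹) * b := by rw [h]
        _ = x * (a⁻¹ * b) := by group
  let ψ : G ⧸ K → {g : G // IsConj x g} := Quotient.lift
    (fun a => ⟨a * x * a⁻¹, isConj_iff.2 ⟨a, rfl⟩⟩)
    (fun a b h => Subtype.ext (hKmem.1 (QuotientGroup.leftRel_apply.1 h)))
  have hψ : Function.Bijective ψ := by
    constructor
    · intro q q'
      induction q using QuotientGroup.induction_on with | _ a =>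
      induction q' using QuotientGroup.induction_on with | _ b =>
      intro h
      exact QuotientGroup.eq.2 (hKmem.2 (congrArg Subtype.val h))
    · rintro ⟨g, hg⟩
      obtain ⟨a, ha⟩ := isConj_iff.1 hg
      exact ⟨(a : G ⧸ K), Subtype.ext ha⟩
  have e1 : Nat.card {g : G // IsConj x g} * Nat.card K = Nat.card G := by
    rw [← Nat.card_congr (Equiv.ofBijective ψ hψ), ← Subgroup.index_eq_card, mul_comm,
      Subgroup.card_mul_index]
  let T : Set (G ⧸ K) := {q | (ψ q : G) ∈ H}
  have e2 : Nat.card T = Nat.card {g : G // IsConj x g ∧ g ∈ H} :=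
    Nat.card_congr (((Equiv.ofBijective ψ hψ).subtypeEquiv (fun q => by rfl)).trans
      (Equiv.subtypeSubtypeEquivSubtypeInter (fun g => IsConj x g) (fun g => g ∈ H)))
  have e3 : Nat.card ((QuotientGroup.mk : G → G ⧸ K) ⁻¹' T) =
      Nat.card ((QuotientGroup.mk : G → G ⧸ H) ⁻¹' (MulAction.fixedBy (G ⧸ H) x)) := by
    refine Nat.card_congr ((Equiv.inv G).subtypeEquiv fun a => ?_)
    change a * x * a⁻¹ ∈ H ↔ x • ((a⁻¹ : G) : G ⧸ H) = ((a⁻¹ : G) : G ⧸ H)
    rw [MulAction.Quotient.smul_coe, QuotientGroup.eq, smul_eq_mul]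
    constructor
    · intro h
      have : (x * a⁻¹)⁻¹ * a⁻¹ = (a * x * a⁻¹)⁻¹ := by group
      rw [this]; exact H.inv_mem h
    · intro h
      have : a * x * a⁻¹ = ((x * a⁻¹)⁻¹ * a⁻¹)⁻¹ := by group
      rw [this]; exact H.inv_mem h
  rw [natCard_preimage_mk, natCard_preimage_mk, e2] at e3
  have e4 : Nat.card H * H.index = Nat.card G := Subgroup.card_mul_index H
  apply Nat.eq_of_mul_eq_mul_right (Nat.mul_pos (Nat.card_pos (α := H)) (Nat.card_pos (α := K)))
  calc _ = (Nat.card H * Nat.card (MulAction.fixedBy (G ⧸ H) x))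
          * (Nat.card {g : G // IsConj x g} * Nat.card K) := by ring
    _ = (Nat.card K * Nat.card {g : G // IsConj x g ∧ g ∈ H}) * (Nat.card H * H.index) := by
      rw [e1, e4, e3]
    _ = _ := by ring

end Cfsg.Agent.S1019
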