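import Cfsg.Statements.S1026
import Cfsg.Agent.Lib.Chev.All
import Cfsg.Agent.Lib.Chev.UniqueProduct

set_option autoImplicit false
open Cfsg

namespace Cfsg.Agent.S1026

/-- Every element of `U` has a unique expression `∏_{r ∈ Φ⁺} x_r(t_r)`, the product over the positive roots in increasing index order (the coefficient family `t`, supported on the positive roots, exists and is unique); and conversely every such ordered product is the matrix of an element of `U`. -/
theorem result {F : Type*} [Field F] (D : Cfsg.Lie.ChevalleyDatum) (hD : D ∈ [Cfsg.Lie.chevG2, Cfsg.Lie.chevB2, Cfsg.Lie.chevD4, Cfsg.Lie.chevF4, Cfsg.Lie.chevE6, Cfsg.Lie.chevE7, Cfsg.Lie.chevE8]) :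
    (∀ g : GL D.Idx F, g ∈ D.posUnipotent F →
      ∃! t : ℕ → F, (∀ r, ¬ D.IsPosRoot r → t r = 0) ∧
        (g : Matrix D.Idx D.Idx F) = D.wordMat F (D.posRoots.map fun r => (r, t r))) ∧
    (∀ t : ℕ → F, ∃ g : GL D.Idx F, g ∈ D.posUnipotent F ∧
      (g : Matrix D.Idx D.Idx F) = D.wordMat F (D.posRoots.map fun r => (r, t r))) := by
  have hG := Chev.good_of_mem hD
  obtain ⟨o, ho⟩ := hG.order
  have hS := Chev.UProd.seg_posRoots ho
  set S := ChevOrder.matSys D hG F with hSdef
  have hU : D.posUnipotent F = S.genBy {q | q ∈ D.posRoots} := by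
    refine congrArg Subgroup.closure (Set.ext fun g => ⟨?_, ?_⟩)
    · rintro ⟨r, t, hr, e⟩
      exact ⟨r, by simp [Cfsg.Lie.ChevalleyDatum.posRoots, hr, hr.1], t, Units.ext e⟩
    · rintro ⟨r, hr, t, rfl⟩
      have hr' : D.IsPosRoot r := by
        simp only [Cfsg.Lie.ChevalleyDatum.posRoots, Set.mem_setOf_eq, List.mem_filter, decide_eq_true_eq] at hr
        exact hr.2
      exact ⟨r, t, hr', rfl⟩
  have hcoe : ∀ t : ℕ → F, (((D.posRoots.map fun r => S.x r (t r)).prod : GL D.Idx F) : Matrix D.Idx D.Idx F) =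
      D.wordMat F (D.posRoots.map fun r => (r, t r)) := by
    intro t
    rw [Cfsg.Lie.ChevalleyDatum.wordMat, ← Units.coeHom_apply, map_list_prod, List.map_map, List.map_map]
    rfl
  refine ⟨fun g hg => ?_, fun t => ⟨(D.posRoots.map fun r => S.x r (t r)).prod, ?_, hcoe t⟩⟩
  · rw [hU] at hg
    obtain ⟨t, ht0, rfl⟩ := Chev.UProd.exists_prod hG ho _ hS g hg
    have hout : ∀ r, ¬ D.IsPosRoot r ↔ r ∉ D.posRoots := fun r => by
      simp only [Cfsg.Lie.ChevalleyDatum.posRoots, List.mem_filter, List.mem_range, decide_eq_true_eq]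
      exact ⟨fun h h' => h h'.2, fun h h' => h ⟨h'.1, h'⟩⟩
    refine ⟨t, ⟨fun r hr => ht0 r ((hout r).1 hr), hcoe t⟩, ?_⟩
    rintro u ⟨hu0, hu⟩
    funext r
    by_cases hr : r ∈ D.posRoots
    · exact Chev.UProd.prod_inj hG ho _ hS u t (Units.ext (by rw [hcoe, ← hu])) r hr
    · rw [ht0 r hr, hu0 r ((hout r).2 hr)]
  · rw [hU]
    exact Chev.UProd.prod_mem hG _ t

end Cfsg.Agent.S1026
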