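import Cfsg.Statements.S1034
import Cfsg.Agent.Lib.Chev.All
import Cfsg.Agent.Lib.ChevOrder.CardH
import Cfsg.Agent.Lib.ChevBN.Instance

set_option autoImplicit false
open Cfsg

namespace Cfsg.Agent.S1034

/-- Every element of `H` is a product `h_{p_1}(c_1) ⋯ h_{p_l}(c_l)` over the fundamental roots, with non-zero `c_i`. -/
theorem result {F : Type*} [Field F] (D : Cfsg.Lie.ChevalleyDatum) (hD : D ∈ [Cfsg.Lie.chevG2, Cfsg.Lie.chevB2, Cfsg.Lie.chevD4, Cfsg.Lie.chevF4, Cfsg.Lie.chevE6, Cfsg.Lie.chevE7, Cfsg.Lie.chevE8]) (g : GL D.Idx F) (hg : g ∈ D.diagonalSubgroup F) :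
    ∃ c : ℕ → F, (∀ i < D.rank, c i ≠ 0) ∧
      (g : Matrix D.Idx D.Idx F) = D.wordMat F ((List.range D.rank).flatMap fun i => D.hWord (D.simple i) (c i)) := by
  have hG := Chev.good_of_mem hD
  rw [← ChevOrder.torusHom_range hG] at hg
  obtain ⟨c, rfl⟩ := hg
  refine ⟨fun i => if h : i < D.rank then (c ⟨i, h⟩ : F) else 1, fun i hi => by simp [hi], ?_⟩
  rw [ChevOrder.coe_torusHom]
  set a : ℕ → Fˣ := fun i => if h : i < D.rank then c ⟨i, h⟩ else 1 with ha
  have key : ∀ L : List ℕ, (∀ i ∈ L, i < D.rank) →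
      D.wordMat F (L.flatMap fun i => D.hWord (D.simple i) (if h : i < D.rank then (c ⟨i, h⟩ : F) else 1)) =
        ChevBN.dg (fun s => (L.map fun i => a i ^ D.cartan i s).prod) := by
    intro L
    induction L with
    | nil => intro _; simp [Cfsg.Lie.ChevalleyDatum.wordMat, ChevOrder.dg_one]
    | cons i L ih =>
      intro hL
      have hi := hL i (by simp)
      have e : ∀ v w : List (ℕ × F), D.wordMat F (v ++ w) = D.wordMat F v * D.wordMat F w := by
        intro v w; simp [Cfsg.Lie.ChevalleyDatum.wordMat]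
      rw [List.flatMap_cons, e, ih (fun k hk => hL k (List.mem_cons_of_mem _ hk)), dif_pos hi]
      rw [show D.wordMat F (D.hWord (D.simple i) ((c ⟨i, hi⟩ : F))) = D.hMat F (D.simple i) (c ⟨i, hi⟩ : F) from rfl,
        ChevBN.hMat_eq_diag hG (hG.simple_lt i hi) (Units.ne_zero _), ChevOrder.dg_mul]
      congr 1
      funext s
      rw [List.map_cons, List.prod_cons, ChevBN.pairing_simple hG hi, ha]
      simp [hi]
  rw [key _ fun i hi => List.mem_range.1 hi]
  congr 1
  funext s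
  show _ = ∏ i ∈ Finset.range D.rank, a i ^ D.cartan i s
  rw [ChevOrder.chi, Finset.prod_range, ha]
  simp

end Cfsg.Agent.S1034
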