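import Cfsg.Statements.S1035
import Cfsg.Agent.Lib.Chev.All
import Cfsg.Agent.Lib.ChevOrder.CardH
import Cfsg.Agent.Lib.ChevBN.RootTables

set_option autoImplicit false
open Cfsg

namespace Cfsg.Agent.S1035

theorem prodGcd (m : ℕ) (e : List ℕ) {n : ℕ} (hn : e.length = n) :
    ∏ i : Fin n, m.gcd (e.getD i.val 0) = (e.map m.gcd).prod := by
  subst hn
  rw [← Fin.prod_univ_getElem]
  rw [← (finCongr (List.length_map (f := m.gcd) (as := e)).symm).prod_comp]
  exact Finset.prod_congr rfl fun i _ => by simp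

/-- `d · |H| = (q - 1)^rank` over a field with `q` elements, with `d = 1` (G₂, F₄, E₈), `gcd(3, q-1)` (E₆), `gcd(2, q-1)` (E₇, B₂), `gcd(2, q-1)²` (D₄). -/
theorem result {F : Type*} [Field F] [Fintype F] {q : ℕ} (hq : Fintype.card F = q)
    (p : Cfsg.Lie.ChevalleyDatum × ℕ)
    (hp : p ∈ [(Cfsg.Lie.chevG2, 1), (Cfsg.Lie.chevF4, 1), (Cfsg.Lie.chevE8, 1), (Cfsg.Lie.chevE6, Nat.gcd 3 (q - 1)),
      (Cfsg.Lie.chevE7, Nat.gcd 2 (q - 1)), (Cfsg.Lie.chevB2, Nat.gcd 2 (q - 1)), (Cfsg.Lie.chevD4, Nat.gcd 2 (q - 1) ^ 2)]) :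
    p.2 * Nat.card (p.1.diagonalSubgroup F) = (q - 1) ^ p.1.rank := by
  open Cfsg.Agent.Chev Cfsg.Agent.ChevOrder Cfsg.Agent.ChevBN in
  simp only [List.mem_cons, List.not_mem_nil, or_false] at hp
  subst hq
  rcases hp with rfl | rfl | rfl | rfl | rfl | rfl | rfl
  · have h := card_diagonal (F := F) DataG2.good rootsG2 torus_G2
    rw [prodGcd _ _ (n := Cfsg.Lie.chevG2.rank) rfl] at h
    simp [Cfsg.Lie.chevG2] at h ⊢
    exact h
  · have h := card_diagonal (F := F) DataF4.good rootsF4 torus_F4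
    rw [prodGcd _ _ (n := Cfsg.Lie.chevF4.rank) rfl] at h
    simp [Cfsg.Lie.chevF4] at h ⊢
    exact h
  · have h := card_diagonal (F := F) DataE8.good rootsE8 torus_E8
    rw [prodGcd _ _ (n := Cfsg.Lie.chevE8.rank) rfl] at h
    simp [Cfsg.Lie.chevE8] at h ⊢
    exact h
  · have h := card_diagonal (F := F) DataE6.good rootsE6 torus_E6
    rw [prodGcd _ _ (n := Cfsg.Lie.chevE6.rank) rfl] at h
    simp [Cfsg.Lie.chevE6, Nat.gcd_comm] at h ⊢
    exact h
  · have h := card_diagonal (F := F) DataE7.good rootsE7 torus_E7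
    rw [prodGcd _ _ (n := Cfsg.Lie.chevE7.rank) rfl] at h
    simp [Cfsg.Lie.chevE7, Nat.gcd_comm] at h ⊢
    exact h
  · have h := card_diagonal (F := F) DataB2.good rootsB2 torus_B2
    rw [prodGcd _ _ (n := Cfsg.Lie.chevB2.rank) rfl] at h
    simp [Cfsg.Lie.chevB2, Nat.gcd_comm] at h ⊢
    exact h
  · have h := card_diagonal (F := F) DataD4.good rootsD4 torus_D4
    rw [prodGcd _ _ (n := Cfsg.Lie.chevD4.rank) rfl] at h
    simp [Cfsg.Lie.chevD4, Nat.gcd_comm, pow_two] at h ⊢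
    exact h

end Cfsg.Agent.S1035
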