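import Cfsg.Statements.S1039
import Cfsg.Agent.Lib.Chev.All
import Cfsg.Agent.Lib.ChevBN.RootTables
import Cfsg.Agent.Lib.ChevBN.CartanTables

set_option autoImplicit false
open Cfsg

namespace Cfsg.Agent.S1039

/-- `N/H ≅ W`: there is a surjective homomorphism from `N` onto the Coxeter group of the type (Mathlib's Coxeter matrix G₂, B₂, F₄, E₆, E₇, E₈, nodes numbered as the fundamental roots) with kernel `H`, mapping each `n_{p_i}` to the `i`-th simple reflection. -/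
theorem result {F : Type*} [Field F]
    (p : Cfsg.Lie.ChevalleyDatum × (Σ n : ℕ, CoxeterMatrix (Fin n)))
    (hp : p ∈ [(Cfsg.Lie.chevG2, ⟨2, CoxeterMatrix.G₂⟩), (Cfsg.Lie.chevB2, ⟨2, CoxeterMatrix.B 2⟩), (Cfsg.Lie.chevD4, ⟨4, Cfsg.Lie.coxeterD4⟩), (Cfsg.Lie.chevF4, ⟨4, CoxeterMatrix.F₄⟩),
      (Cfsg.Lie.chevE6, ⟨6, CoxeterMatrix.E₆⟩), (Cfsg.Lie.chevE7, ⟨7, CoxeterMatrix.E₇⟩), (Cfsg.Lie.chevE8, ⟨8, CoxeterMatrix.E₈⟩)]) :
    ∃ φ : ↥(p.1.monomialSubgroup F) →* p.2.2.Group, Function.Surjective φ ∧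
      φ.ker = (p.1.diagonalSubgroup F).subgroupOf (p.1.monomialSubgroup F) ∧
      ∀ (i : Fin p.2.1) (g : ↥(p.1.monomialSubgroup F)),
        ((g : GL p.1.Idx F) : Matrix p.1.Idx p.1.Idx F) = p.1.nMat F (p.1.simple i) 1 → φ g = p.2.2.simple i := by
  simp only [List.mem_cons, List.not_mem_nil, or_false] at hp
  rcases hp with rfl | rfl | rfl | rfl | rfl | rfl | rfl
  · obtain ⟨φ, h1, h2, h3⟩ := ChevBN.exists_hom_weyl (F := F) (D := Cfsg.Lie.chevG2) (Chev.good_of_mem (by simp))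
      ChevBN.rootsG2 CoxeterMatrix.G₂.toCoxeterSystem ChevBN.cartanG2 (fun _ _ => rfl)
    exact ⟨φ, h1, h2, h3⟩
  · obtain ⟨φ, h1, h2, h3⟩ := ChevBN.exists_hom_weyl (F := F) (D := Cfsg.Lie.chevB2) (Chev.good_of_mem (by simp))
      ChevBN.rootsB2 (CoxeterMatrix.B 2).toCoxeterSystem ChevBN.cartanB2 (fun _ _ => rfl)
    exact ⟨φ, h1, h2, h3⟩
  · obtain ⟨φ, h1, h2, h3⟩ := ChevBN.exists_hom_weyl (F := F) (D := Cfsg.Lie.chevD4) (Chev.good_of_mem (by simp))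
      ChevBN.rootsD4 Cfsg.Lie.coxeterD4.toCoxeterSystem ChevBN.cartanD4 (fun _ _ => rfl)
    exact ⟨φ, h1, h2, h3⟩
  · obtain ⟨φ, h1, h2, h3⟩ := ChevBN.exists_hom_weyl (F := F) (D := Cfsg.Lie.chevF4) (Chev.good_of_mem (by simp))
      ChevBN.rootsF4 CoxeterMatrix.F₄.toCoxeterSystem ChevBN.cartanF4 (fun _ _ => rfl)
    exact ⟨φ, h1, h2, h3⟩
  · obtain ⟨φ, h1, h2, h3⟩ := ChevBN.exists_hom_weyl (F := F) (D := Cfsg.Lie.chevE6) (Chev.good_of_mem (by simp))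
      ChevBN.rootsE6 CoxeterMatrix.E₆.toCoxeterSystem ChevBN.cartanE6 (fun _ _ => rfl)
    exact ⟨φ, h1, h2, h3⟩
  · obtain ⟨φ, h1, h2, h3⟩ := ChevBN.exists_hom_weyl (F := F) (D := Cfsg.Lie.chevE7) (Chev.good_of_mem (by simp))
      ChevBN.rootsE7 CoxeterMatrix.E₇.toCoxeterSystem ChevBN.cartanE7 (fun _ _ => rfl)
    exact ⟨φ, h1, h2, h3⟩
  · obtain ⟨φ, h1, h2, h3⟩ := ChevBN.exists_hom_weyl (F := F) (D := Cfsg.Lie.chevE8) (Chev.good_of_mem (by simp))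
      ChevBN.rootsE8 CoxeterMatrix.E₈.toCoxeterSystem ChevBN.cartanE8 (fun _ _ => rfl)
    exact ⟨φ, h1, h2, h3⟩

end Cfsg.Agent.S1039
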