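import Cfsg.Statements.S1045
import Cfsg.Agent.Lib.Chev.All
import Cfsg.Agent.Lib.ChevOrder.CardU
import Cfsg.Agent.Lib.ChevBN.RootTables

set_option autoImplicit false
open Cfsg

namespace Cfsg.Agent.S1045

/-- For a fundamental root `p`, the subgroup `U_p` generated by the `X_s`, `s` positive and `s ≠ p`, is normalised by `X_p` and `X_{-p}`, and `U = U_p ⊔ X_p`. -/
theorem result {F : Type*} [Field F] (D : Cfsg.Lie.ChevalleyDatum) (hD : D ∈ [Cfsg.Lie.chevG2, Cfsg.Lie.chevB2, Cfsg.Lie.chevD4, Cfsg.Lie.chevF4, Cfsg.Lie.chevE6, Cfsg.Lie.chevE7, Cfsg.Lie.chevE8]) (i : ℕ) (hi : i < D.rank) :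
    D.rootSubgroup F (D.simple i) ⊔ D.rootSubgroup F (D.neg (D.simple i)) ≤
        Subgroup.normalizer (Subgroup.closure {g : GL D.Idx F | ∃ (s : ℕ) (t : F), D.IsPosRoot s ∧ s ≠ D.simple i ∧
          (g : Matrix D.Idx D.Idx F) = D.x F s t} : Set (GL D.Idx F)) ∧
      Subgroup.closure {g : GL D.Idx F | ∃ (s : ℕ) (t : F), D.IsPosRoot s ∧ s ≠ D.simple i ∧
          (g : Matrix D.Idx D.Idx F) = D.x F s t} ⊔ D.rootSubgroup F (D.simple i) = D.posUnipotent F := by
  have hG := Chev.good_of_mem hD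
  obtain ⟨M, d, hR⟩ := ChevBN.exists_roots D hD
  have hp := hG.simple_lt i hi
  have hpp := hR.pos_simple hG hi
  have hnp : ¬ D.IsPosRoot (D.neg (D.simple i)) := fun h => (ChevBN.pos_or_neg hG hp).1 h hpp
  set S := ChevOrder.matSys D hG F with hS
  set T : Set ℕ := {s | D.IsPosRoot s ∧ s ≠ D.simple i} with hT
  have hset : Subgroup.closure {g : GL D.Idx F | ∃ (s : ℕ) (t : F), D.IsPosRoot s ∧ s ≠ D.simple i ∧
      (g : Matrix D.Idx D.Idx F) = D.x F s t} = S.genBy T := by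
    refine congrArg Subgroup.closure (Set.ext fun g => ⟨?_, ?_⟩)
    · rintro ⟨s, t, h1, h2, e⟩
      exact ⟨s, ⟨h1, h2⟩, t, Units.ext e⟩
    · rintro ⟨s, ⟨h1, h2⟩, t, rfl⟩
      exact ⟨s, t, h1, h2, rfl⟩
  rw [hset]
  have norm : ∀ r, r = D.simple i ∨ r = D.neg (D.simple i) → r < D.nroots ∧
      ∀ t : F, S.x r t ∈ Subgroup.normalizer (S.genBy T : Set (GL D.Idx F)) := by
    intro r hr
    have hrlt : r < D.nroots := by rcases hr with rfl | rfl <;> first | exact hp | exact hG.neg_lt _ hp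
    have hne : ∀ s ∈ T, s ≠ r ∧ s ≠ D.neg r := by
      rintro s ⟨hs, hsp⟩
      rcases hr with rfl | rfl
      · exact ⟨hsp, fun e => hnp (e ▸ hs)⟩
      · exact ⟨fun e => hnp (e ▸ hs), fun e => hsp (e.trans (hG.neg_neg _ hp))⟩
    refine ⟨hrlt, fun t => S.x_mem_normalizer_genBy hrlt (fun s hs => hs.1.1) hne ?_ t⟩
    rintro s ⟨hs, hsp⟩ τ hτ
    obtain ⟨k, hk, hki, hpos⟩ := hR.exists_other hG hs.1 hs hi hsp
    have hlin := ChevBN.isLin_co hG M k
    obtain ⟨hτlt, -, h5, h6⟩ := hlin.commTerms hG hrlt hs.1 (hne s ⟨hs, hsp⟩).1 (hne s ⟨hs, hsp⟩).2 hτ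
    have h0 : ChevBN.co D M k r = 0 := by
      have h := hR.dual k hk i hi
      rw [if_neg hki] at h
      rcases hr with rfl | rfl
      · exact h
      · rw [hlin.neg _ hp, h, neg_zero]
    rw [h0, mul_zero, zero_add] at h6
    have hpos' : 0 < ChevBN.co D M k τ.1 := h6 ▸ Int.mul_pos (by exact_mod_cast h5) hpos
    refine ⟨?_, ?_⟩
    · by_contra h
      have := hR.nonpos_of_not_pos hG hτlt h hk
      omega
    · intro e
      rw [e, hR.dual k hk i hi, if_neg hki] at hpos'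
      omega
  constructor
  · refine sup_le ((Subgroup.closure_le _).2 ?_) ((Subgroup.closure_le _).2 ?_)
    · rintro g ⟨t, e⟩
      rw [show g = S.x (D.simple i) t from Units.ext e]
      exact (norm _ (Or.inl rfl)).2 t
    · rintro g ⟨t, e⟩
      rw [show g = S.x (D.neg (D.simple i)) t from Units.ext e]
      exact (norm _ (Or.inr rfl)).2 t
  · refine le_antisymm (sup_le ?_ ((Subgroup.closure_le _).2 ?_)) ((Subgroup.closure_le _).2 ?_)
    · rw [← hset]
      exact Subgroup.closure_mono fun g ⟨s, t, h1, _, e⟩ => ⟨s, t, h1, e⟩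
    · rintro g ⟨t, e⟩
      exact Subgroup.subset_closure ⟨_, t, hpp, e⟩
    · rintro g ⟨s, t, hs, e⟩
      by_cases h : s = D.simple i
      · subst h
        exact Subgroup.mem_sup_right (Subgroup.subset_closure ⟨t, e⟩)
      · refine Subgroup.mem_sup_left ?_
        rw [show g = S.x s t from Units.ext e]
        exact S.x_mem_genBy (T := T) ⟨hs, h⟩ t

end Cfsg.Agent.S1045
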