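import Cfsg.Statements.S1056
import Cfsg.Agent.Lib.Chev.All
import Cfsg.Agent.Lib.ChevBN.RootTables
import Cfsg.Agent.Lib.ChevBN.ConnTables
import Cfsg.Agent.Lib.ChevBN.PerfectTables

set_option autoImplicit false
open Cfsg

namespace Cfsg.Agent.S1056

/-- B₂(F) is simple for every field `F` other than the field with two elements. -/
theorem result {F : Type*} [Field F] (hF : ∃ a : F, a ≠ 0 ∧ a ≠ 1) : IsSimpleGroup ↥(Cfsg.Lie.chevB2.group F) ∧ ¬ IsMulCommutative ↥(Cfsg.Lie.chevB2.group F) := by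
  have hg := Chev.good_of_mem (D := Cfsg.Lie.chevB2) (by simp)
  exact ChevBN.group_isSimple hg ChevBN.rootsB2 ChevBN.connB2 (by decide)
    (ChevBN.commutator_group_eq_top hg (Or.inr hF) (fun q hq => ⟨_, ChevBN.smallOK_B2 q hq⟩)
      hg.pairing_self)

end Cfsg.Agent.S1056
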