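import Cfsg.Statements.S1080
import Cfsg.Agent.Lib.Chev.All

set_option autoImplicit false
open Cfsg

namespace Cfsg.Agent.S1080

/-- Field automorphisms: for every field automorphism `f` there is a group automorphism sending each `x_r(t)` to `x_r(f t)`. -/
theorem result {F : Type*} [Field F] (D : Cfsg.Lie.ChevalleyDatum) (hD : D ∈ [Cfsg.Lie.chevG2, Cfsg.Lie.chevB2, Cfsg.Lie.chevD4, Cfsg.Lie.chevF4, Cfsg.Lie.chevE6, Cfsg.Lie.chevE7, Cfsg.Lie.chevE8]) (f : F ≃+* F) :
    ∃ α : ↥(D.group F) ≃* ↥(D.group F), ∀ (g : ↥(D.group F)) (r : ℕ) (t : F), r < D.nroots →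
      ((g : GL D.Idx F) : Matrix D.Idx D.Idx F) = D.x F r t → ((α g : GL D.Idx F) : Matrix D.Idx D.Idx F) = D.x F r (f t) := by
  have hg := Cfsg.Agent.Chev.good_of_mem hD
  have hx : ∀ (h : F ≃+* F) (r : ℕ), r < D.nroots → ∀ t : F, (D.x F r t).map h = D.x F r (h t) :=
    fun h r hr t => by
      rw [Cfsg.Agent.Chev.x_eq_xR D hr, Cfsg.Agent.Chev.x_eq_xR D hr]
      exact Cfsg.Agent.Chev.xR_map D (h : F →+* F) r t
  let e : GL D.Idx F ≃* GL D.Idx F := Units.mapEquiv f.mapMatrix.toMulEquiv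
  have hmap : ∀ (h : F ≃+* F) (g : GL D.Idx F), g ∈ D.group F →
      Units.mapEquiv h.mapMatrix.toMulEquiv g ∈ D.group F := by
    intro h g hg'
    induction hg' using Subgroup.closure_induction with
    | mem x hx' =>
      obtain ⟨r, t, ht⟩ := hx'
      refine Subgroup.subset_closure ⟨r, h t, ?_⟩
      have := hx h r.val r.isLt t
      simp only [Cfsg.Lie.ChevalleyDatum.x, dif_pos r.isLt, Fin.eta] at this
      rw [← this, ← ht]
      rfl
    | one => rw [map_one]; exact one_mem _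
    | mul a b _ _ ha hb => rw [map_mul]; exact mul_mem ha hb
    | inv a _ ha => rw [map_inv]; exact inv_mem ha
  have heq : (D.group F).map e.toMonoidHom = D.group F := by
    refine le_antisymm (Subgroup.map_le_iff_le_comap.2 fun g hg' => hmap f g hg') fun g hg' => ?_
    refine ⟨Units.mapEquiv f.symm.mapMatrix.toMulEquiv g, hmap f.symm g hg', ?_⟩
    apply Units.ext
    ext a b
    simp [e]
  refine ⟨(e.subgroupMap _).trans (MulEquiv.subgroupCongr heq), fun g r t hr hgr => ?_⟩
  show ((g : GL D.Idx F) : Matrix D.Idx D.Idx F).map f = _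
  rw [hgr, hx f r hr t]

end Cfsg.Agent.S1080
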