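import Cfsg.Statements.S1092
import Cfsg.Agent.Lib.Chev.All
import Cfsg.Agent.Lib.Coxeter.CertSmall

set_option autoImplicit false
open Cfsg

namespace Cfsg.Agent.S1092

/-- `|W(B₂)| = 8`, `|W(G₂)| = 12`, `|W(D₄)| = 192`, `|W(F₄)| = 1152` for the groups presented by the Coxeter matrices (the product of the degrees of the basic invariants). -/
theorem result (p : (Σ n : ℕ, CoxeterMatrix (Fin n)) × ℕ)
    (hp : p ∈ [(⟨2, CoxeterMatrix.B 2⟩, 8), (⟨2, CoxeterMatrix.G₂⟩, 12), (⟨4, Cfsg.Lie.coxeterD4⟩, 192), (⟨4, CoxeterMatrix.F₄⟩, 1152)]) :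
    Nat.card p.1.2.Group = p.2 := by
  open Cfsg.Agent.Coxeter in
  simp only [List.mem_cons, List.not_mem_nil, or_false] at hp
  rcases hp with rfl | rfl | rfl | rfl
  · have hA := isCartan_cartanOf_all (M := CoxeterMatrix.B 2) (by decide +kernel)
    have hR : List.ofFn (fun i => List.ofFn (cartanOf (CoxeterMatrix.B 2) i)) = b2R := by decide +kernel
    show Nat.card (CoxeterMatrix.B 2).Group = 8
    rw [← card_par_top, card_par_succ hA hR b2_check1, b2_len1, card_par_succ hA hR b2_check0, b2_len0,
      card_par_zero]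
  · have hA := isCartan_cartanOf_all (M := CoxeterMatrix.G₂) (by decide +kernel)
    have hR : List.ofFn (fun i => List.ofFn (cartanOf (CoxeterMatrix.G₂) i)) = g2R := by decide +kernel
    show Nat.card (CoxeterMatrix.G₂).Group = 12
    rw [← card_par_top, card_par_succ hA hR g2_check1, g2_len1, card_par_succ hA hR g2_check0, g2_len0,
      card_par_zero]
  · have hA := isCartan_cartanOf_all (M := Cfsg.Lie.coxeterD4) (by decide +kernel)
    have hR : List.ofFn (fun i => List.ofFn (cartanOf (Cfsg.Lie.coxeterD4) i)) = d4R := by decide +kernel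
    show Nat.card (Cfsg.Lie.coxeterD4).Group = 192
    rw [← card_par_top, card_par_succ hA hR d4_check3, d4_len3, card_par_succ hA hR d4_check2, d4_len2,
      card_par_succ hA hR d4_check1, d4_len1, card_par_succ hA hR d4_check0, d4_len0, card_par_zero]
  · have hA := isCartan_cartanOf_all (M := CoxeterMatrix.F₄) (by decide +kernel)
    have hR : List.ofFn (fun i => List.ofFn (cartanOf (CoxeterMatrix.F₄) i)) = f4R := by decide +kernel
    show Nat.card (CoxeterMatrix.F₄).Group = 1152
    rw [← card_par_top, card_par_succ hA hR f4_check3, f4_len3, card_par_succ hA hR f4_check2, f4_len2,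
      card_par_succ hA hR f4_check1, f4_len1, card_par_succ hA hR f4_check0, f4_len0, card_par_zero]

end Cfsg.Agent.S1092
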