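import Cfsg.Statements.S1094
import Cfsg.Agent.Lib.Coxeter.Compute

set_option autoImplicit false
open Cfsg

namespace Cfsg.Agent.S1094

open Cfsg.Agent.Coxeter

theorem coxeter_element_eq {n : ℕ} [NeZero n] (M : CoxeterMatrix (Fin n)) :
    ((List.finRange n).map M.simple).prod = elemOf M (List.range n) := by
  have h : (List.range n).map (Fin.ofNat n) = List.finRange n := by
    rw [← List.map_coe_finRange_eq_range, List.map_map]
    exact List.map_congr_left (fun i _ => Fin.ofNat_val_eq_self i) |>.trans (List.map_id _)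
  rw [elemOf, h, CoxeterSystem.wordProd, CoxeterMatrix.toCoxeterSystem_simple]

theorem orderOf_coxeter_element {n : ℕ} [NeZero n] (M : CoxeterMatrix (Fin n)) {h : ℕ}
    (hh : 0 < h) (hM : ((List.finRange n).all fun i => (List.finRange n).all fun j =>
      decide (i = j) || [2, 3, 4, 6].contains (M i j)) = true)
    (h1 : evalL (List.ofFn fun i => List.ofFn (cartanOf M i))
      (List.replicate h (List.range n)).flatten (List.replicate n 1) = List.replicate n 1)
    (h2 : ∀ m < h, 0 < m → evalL (List.ofFn fun i => List.ofFn (cartanOf M i))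
      (List.replicate m (List.range n)).flatten (List.replicate n 1) ≠ List.replicate n 1) :
    orderOf ((List.finRange n).map M.simple).prod = h := by
  rw [coxeter_element_eq]
  exact orderOf_of_evalL (isCartan_cartanOf_all hM) rfl hh (fun i hi => List.mem_range.1 hi) h1 h2

/-- The Coxeter element `s₁ s₂ ⋯ s_l` of the Coxeter group of type B₂, G₂, D₄, F₄, E₆, E₇, E₈ has order `h = 2N/l` = 4, 6, 6, 12, 12, 18, 30. -/
theorem result (p : (Σ n : ℕ, CoxeterMatrix (Fin n)) × ℕ)
    (hp : p ∈ [(⟨2, CoxeterMatrix.B 2⟩, 4), (⟨2, CoxeterMatrix.G₂⟩, 6), (⟨4, Cfsg.Lie.coxeterD4⟩, 6), (⟨4, CoxeterMatrix.F₄⟩, 12),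
      (⟨6, CoxeterMatrix.E₆⟩, 12), (⟨7, CoxeterMatrix.E₇⟩, 18), (⟨8, CoxeterMatrix.E₈⟩, 30)]) :
    orderOf ((List.finRange p.1.1).map p.1.2.simple).prod = p.2 := by
  simp only [List.mem_cons, List.not_mem_nil, or_false] at hp
  rcases hp with rfl | rfl | rfl | rfl | rfl | rfl | rfl
  all_goals dsimp only
  all_goals refine orderOf_coxeter_element (h := _) _ (by norm_num) ?_ ?_ ?_
  all_goals decide +kernel

end Cfsg.Agent.S1094
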