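import Cfsg.Statements.S1095
import Cfsg.Agent.Lib.Chev.All
import Cfsg.Agent.Lib.ChevBN.Instance

set_option autoImplicit false
open Cfsg

namespace Cfsg.Agent.S1095

/-- `n_p` (p = p_{i+1} fundamental) is the signed monomial matrix `h_{p_j} ↦ h_{p_j} - A_{p_j,p} h_p`, `e_s ↦ η_s e_{w_p(s)}`, with `η_s = ±1`, `η_p = η_{-p} = -1`, `η_s η_{w_p(s)} = (-1)^{A_{p,s}}`, `η_s η_{-s} = 1`. -/
theorem result {F : Type*} [Field F] (D : Cfsg.Lie.ChevalleyDatum) (hD : D ∈ [Cfsg.Lie.chevG2, Cfsg.Lie.chevB2, Cfsg.Lie.chevD4, Cfsg.Lie.chevF4, Cfsg.Lie.chevE6, Cfsg.Lie.chevE7, Cfsg.Lie.chevE8]) (i : ℕ) (hi : i < D.rank) :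
    ∃ η : ℕ → ℤ, (∀ s < D.nroots, η s = 1 ∨ η s = -1) ∧ η (D.simple i) = -1 ∧ η (D.neg (D.simple i)) = -1 ∧
      (∀ s < D.nroots, η s * η (D.reflectRoot i s) = (-1) ^ (D.cartan i s).natAbs ∧ η s * η (D.neg s) = 1) ∧
      D.nMat F (D.simple i) 1 = Matrix.of (fun (row col : D.Idx) =>
        Sum.elim
          (fun j' : Fin D.rank => Sum.elim
            (fun j : Fin D.rank => (if j' = j then (1 : F) else 0) - (if (j' : ℕ) = i then ((D.cartan j (D.simple i) : ℤ) : F) else 0))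
            (fun _ => (0 : F)) col)
          (fun s' : Fin D.nroots => Sum.elim
            (fun _ => (0 : F))
            (fun s : Fin D.nroots => if (s' : ℕ) = D.reflectRoot i s then ((η s : ℤ) : F) else 0) col)
          row) := by
  have hg := Cfsg.Agent.Chev.good_of_mem hD
  have hp := hg.simple_lt i hi
  have hne := hg.neg_ne _ hp
  have hP : ∀ s, D.pairing (D.simple i) s = D.cartan i s := Cfsg.Agent.ChevBN.pairing_simple hg hi
  have hw : ∀ s, Cfsg.Agent.Chev.refl D (D.simple i) s = D.reflectRoot i s := fun s =>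
    Cfsg.Agent.ChevBN.wN_eq_reflectRoot hg hi s
  refine ⟨Cfsg.Agent.Chev.nSign D (D.simple i), fun s hs => (Cfsg.Agent.ChevBN.nSign_cases hg hp hs).1,
    by simp [Cfsg.Agent.Chev.nSign], by simp [Cfsg.Agent.Chev.nSign], fun s hs =>
    ⟨?_, (Cfsg.Agent.ChevBN.nSign_cases hg hp hs).2⟩, ?_⟩
  · rw [← hw, ← hP]
    by_cases h₁ : s = D.simple i
    · subst h₁
      simp [Cfsg.Agent.Chev.refl, Cfsg.Agent.Chev.nSign, hg.pairing_self _ hp]
    by_cases h₂ : s = D.neg (D.simple i)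
    · subst h₂
      simp [Cfsg.Agent.Chev.refl, Cfsg.Agent.Chev.nSign, hne, hg.pairing_neg_right _ hp, hg.pairing_self _ hp]
    exact (hg.nword _ hp s hs h₁ h₂).2.2.2.2.2.2.2.1
  · refine Matrix.ext_of_mulVec_single fun b => ?_
    rcases b with j | ⟨s, hs⟩
    · rw [hg.n_inl hp one_ne_zero j]
      ext a
      rcases a with j' | u
      · rcases eq_or_ne j'.val i with e | e
        · simp only [Cfsg.Agent.Chev.hv, Pi.sub_apply, Pi.smul_apply, Sum.elim_inl,
            hg.simple_coroot i hi j'.val j'.isLt, Matrix.mulVec_single_one]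
          simp [e, Pi.single_apply]
        · simp only [Cfsg.Agent.Chev.hv, Pi.sub_apply, Pi.smul_apply, Sum.elim_inl,
            hg.simple_coroot i hi j'.val j'.isLt, Matrix.mulVec_single_one]
          simp [e, Pi.single_apply]
      · simp [Cfsg.Agent.Chev.hv, Matrix.mulVec_single_one]
    · rw [← Cfsg.Agent.Chev.ev_of_lt D F hs, hg.n_root hp hs one_ne_zero, one_zpow, mul_one,
        Cfsg.Agent.Chev.ev_of_lt D F hs, Matrix.mulVec_single_one, hw]
      ext a
      rcases a with j' | u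
      · simp [Cfsg.Agent.Chev.ev]
      · simp [Cfsg.Agent.Chev.ev]

end Cfsg.Agent.S1095
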