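import Cfsg.Statements.S1096
import Cfsg.Agent.Lib.Chev.All
import Cfsg.Agent.Lib.Chev.RankOneRel
import Cfsg.Agent.Lib.ChevBN.RootTables

set_option autoImplicit false
open Cfsg

namespace Cfsg.Agent.S1096

/-- `n_p h_{p_j}(t) n_p⁻¹ = h_{w_p(p_j)}(t)` for fundamental `p`, `p_j` and `t ≠ 0`, stated as `n_p h_{p_j}(t) = h_{w_p(p_j)}(t) n_p`. -/
theorem result {F : Type*} [Field F] (D : Cfsg.Lie.ChevalleyDatum) (hD : D ∈ [Cfsg.Lie.chevG2, Cfsg.Lie.chevB2, Cfsg.Lie.chevD4, Cfsg.Lie.chevF4, Cfsg.Lie.chevE6, Cfsg.Lie.chevE7, Cfsg.Lie.chevE8]) (i j : ℕ) (hi : i < D.rank) (hj : j < D.rank) (t : F) (ht : t ≠ 0) :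
    D.nMat F (D.simple i) 1 * D.hMat F (D.simple j) t = D.hMat F (D.reflectRoot i (D.simple j)) t * D.nMat F (D.simple i) 1 := by
  have hG := Chev.good_of_mem hD
  obtain ⟨M, d, hR⟩ := ChevBN.exists_roots D hD
  have hp := hG.simple_lt i hi
  have hq := hG.simple_lt j hj
  set n := ChevBN.ng hG F (D.simple i) 1 with hn
  suffices e : n * ChevBN.hg hG F (D.simple j) t =
      ChevBN.hg hG F (D.reflectRoot i (D.simple j)) t * n by
    simpa [hn] using congrArg (fun g : GL D.Idx F => (g : Matrix D.Idx D.Idx F)) e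
  rw [← mul_inv_eq_iff_eq_mul, ← ChevBN.wN_eq_reflectRoot hG hi,
    ← Chev.RankOne.ng_mul_ng_sign hG (show ChevBN.wN D i (D.simple j) < D.nroots from ChevSt.refl_lt hG hp hq) ht
      (η := (Chev.nSign D (D.simple i) (D.simple j) : F))]
  · rw [ChevBN.hg, show n * (ChevBN.ng hG F (D.simple j) t * ChevBN.ng hG F (D.simple j) (-1)) * n⁻¹ =
      (n * ChevBN.ng hG F (D.simple j) t * n⁻¹) * (n * ChevBN.ng hG F (D.simple j) (-1) * n⁻¹) by group,
      hn, ChevBN.ng_conj_ng hG hR hi hq, ChevBN.ng_conj_ng hG hR hi hq]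
  · rcases (ChevBN.nSign_cases hG hp hq).1 with h | h <;> simp [h]

end Cfsg.Agent.S1096
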