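import Cfsg.Statements.S1115
import Cfsg.Agent.Lib.Twisted.G2Facts

set_option autoImplicit false
open Cfsg

namespace Cfsg.Agent.S1115

/-- `N¹/H¹ ≅ W¹`: a surjective homomorphism from `N¹ = G¹ ∩ N` onto the group of order 2 with kernel `H¹`. -/
theorem result {K : Type*} [Field K] [Fintype K] {m : ℕ} (hK : Fintype.card K = 3 ^ (2 * m + 1)) :
    ∃ φ : ↥(Cfsg.Lie.chevG2.monomialSubgroup K ⊓ Cfsg.Lie.twistedG2 K (3 ^ m)) →* Multiplicative (ZMod 2), Function.Surjective φ ∧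
      φ.ker = (Cfsg.Lie.chevG2.diagonalSubgroup K ⊓ Cfsg.Lie.twistedG2 K (3 ^ m)).subgroupOf (Cfsg.Lie.chevG2.monomialSubgroup K ⊓ Cfsg.Lie.twistedG2 K (3 ^ m)) := by
  haveI := Cfsg.Agent.Twisted.charP_ree hK
  obtain ⟨h₀, hh₀, hf, -⟩ := Cfsg.Agent.Twisted.exists_m0 hK
  classical
  set n : GL Cfsg.Lie.chevG2.Idx K := h₀ * (Cfsg.Agent.Twisted.rgdG2 K).nw Cfsg.Agent.Twisted.w0G2 with hn
  have hnB : n ∉ (Cfsg.Agent.Twisted.rgdG2 K).B := Cfsg.Agent.Twisted.m0_not_mem_B hh₀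
  rw [Cfsg.Agent.Twisted.monomial_twisted hK, Cfsg.Agent.Twisted.H1_eq' hK]
  set N1 := (Cfsg.Agent.Twisted.rgdG2 K).N ⊓ (Cfsg.Agent.Twisted.foldK K m).fix with hN1
  have hnN : n ∈ (Cfsg.Agent.Twisted.rgdG2 K).N := mul_mem ((Cfsg.Agent.Twisted.rgdG2 K).H_le_N hh₀) ((Cfsg.Agent.Twisted.rgdG2 K).nw_mem_N _)
  have hH : ∀ g, g ∈ (Cfsg.Agent.Twisted.foldK K m).H1 → g ∈ (Cfsg.Agent.Twisted.rgdG2 K).B := fun g hg => (Cfsg.Agent.Twisted.rgdG2 K).H_le_B hg.1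
  have hsq : n * n ∈ (Cfsg.Agent.Twisted.rgdG2 K).H := by
    rw [hn, show h₀ * (Cfsg.Agent.Twisted.rgdG2 K).nw Cfsg.Agent.Twisted.w0G2 * (h₀ * (Cfsg.Agent.Twisted.rgdG2 K).nw Cfsg.Agent.Twisted.w0G2) =
      h₀ * ((Cfsg.Agent.Twisted.rgdG2 K).nw Cfsg.Agent.Twisted.w0G2 * h₀ * ((Cfsg.Agent.Twisted.rgdG2 K).nw Cfsg.Agent.Twisted.w0G2)⁻¹) *
        ((Cfsg.Agent.Twisted.rgdG2 K).nw Cfsg.Agent.Twisted.w0G2 * (Cfsg.Agent.Twisted.rgdG2 K).nw Cfsg.Agent.Twisted.w0G2) by group]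
    exact mul_mem (mul_mem hh₀ ((Cfsg.Agent.Twisted.rgdG2 K).nw_conj_H _ hh₀)) (Cfsg.Agent.Twisted.rankOneK (m := m)).sq_mem
  have hcase : ∀ g : ↥N1, (g : GL Cfsg.Lie.chevG2.Idx K) ∉ (Cfsg.Agent.Twisted.foldK K m).H1 → (g : GL Cfsg.Lie.chevG2.Idx K) * n⁻¹ ∈ (Cfsg.Agent.Twisted.foldK K m).H1 := fun g hg =>
    ((Cfsg.Agent.Twisted.mem_N1_cases hh₀ hf (Subgroup.mem_inf.1 g.2).1 (Subgroup.mem_inf.1 g.2).2).resolve_left hg)
  have hidx : ∀ a b : ↥N1, ((a * b : ↥N1) : GL Cfsg.Lie.chevG2.Idx K) ∈ (Cfsg.Agent.Twisted.foldK K m).H1 ↔ (((a : GL Cfsg.Lie.chevG2.Idx K) ∈ (Cfsg.Agent.Twisted.foldK K m).H1) ↔ ((b : GL Cfsg.Lie.chevG2.Idx K) ∈ (Cfsg.Agent.Twisted.foldK K m).H1)) := by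
    intro a b
    rw [Subgroup.coe_mul]
    by_cases ha : (a : GL Cfsg.Lie.chevG2.Idx K) ∈ (Cfsg.Agent.Twisted.foldK K m).H1
    · simp only [ha, true_iff]
      exact ⟨fun h => by simpa using mul_mem (inv_mem ha) h, fun h => mul_mem ha h⟩
    · by_cases hb : (b : GL Cfsg.Lie.chevG2.Idx K) ∈ (Cfsg.Agent.Twisted.foldK K m).H1
      · simp only [ha, hb, iff_true, iff_false]
        exact fun h => ha (by simpa using mul_mem h (inv_mem hb))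
      · simp only [ha, hb, iff_true]
        refine ⟨?_, mul_mem (Subgroup.mem_inf.1 a.2).2 (Subgroup.mem_inf.1 b.2).2⟩
        rw [show (a : GL Cfsg.Lie.chevG2.Idx K) * b = ((a : GL Cfsg.Lie.chevG2.Idx K) * n⁻¹) * (n * ((b : GL Cfsg.Lie.chevG2.Idx K) * n⁻¹) * n⁻¹) * (n * n) by group]
        exact mul_mem (mul_mem (hcase a ha).1 ((Cfsg.Agent.Twisted.rgdG2 K).conj_H_mem hnN (hcase b hb).1)) hsq
  let φ : ↥N1 →* Multiplicative (ZMod 2) :=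
    { toFun := fun g => if (g : GL Cfsg.Lie.chevG2.Idx K) ∈ (Cfsg.Agent.Twisted.foldK K m).H1 then 1 else Multiplicative.ofAdd 1
      map_one' := by rw [OneMemClass.coe_one, if_pos (one_mem _)]
      map_mul' := fun a b => by
        by_cases ha : (a : GL Cfsg.Lie.chevG2.Idx K) ∈ (Cfsg.Agent.Twisted.foldK K m).H1 <;> by_cases hb : (b : GL Cfsg.Lie.chevG2.Idx K) ∈ (Cfsg.Agent.Twisted.foldK K m).H1 <;>
          simp only [hidx, ha, hb, iff_true, iff_false, not_true, if_true, if_false, one_mul, mul_one] <;> rfl }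
  refine ⟨φ, fun y => ?_, ?_⟩
  · by_cases hy : y = 1
    · exact ⟨1, hy ▸ map_one φ⟩
    · refine ⟨⟨n, Subgroup.mem_inf.2 ⟨hnN, hf⟩⟩, ?_⟩
      show (if n ∈ (Cfsg.Agent.Twisted.foldK K m).H1 then (1 : Multiplicative (ZMod 2)) else Multiplicative.ofAdd 1) = y
      rw [if_neg fun h => hnB (hH _ h)]
      revert y
      decide
  · ext g
    rw [MonoidHom.mem_ker, Subgroup.mem_subgroupOf]
    show (if (g : GL Cfsg.Lie.chevG2.Idx K) ∈ (Cfsg.Agent.Twisted.foldK K m).H1 then (1 : Multiplicative (ZMod 2)) else Multiplicative.ofAdd 1) = 1 ↔ _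
    split_ifs with h <;> simp [h] <;> decide

end Cfsg.Agent.S1115
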