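import Cfsg.Statements.S1118
import Cfsg.Agent.Lib.RankOne.Setup

set_option autoImplicit false
open Cfsg

namespace Cfsg.Agent.S1118

/-- In the rank-one set-up (`G` finite and doubly transitive on `Ω`, `t` an involution moving `a`, `Q` normal in `G_a` with `G_a = Q D`, `Q ⊓ D = 1` for the two-point stabiliser `D = G_a ⊓ G_{t • a}`, `|Q|` even, `|D|` odd), the normaliser of a subset of `Q` containing a non-identity element lies in `G_a`; consequently `N_G(Q) = N_G(G_a) = G_a`. -/
theorem result {G Ω : Type*} [Group G] [Finite G] [MulAction G Ω] {a : Ω} {t : G} {Q : Subgroup G}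
    (hS : Cfsg.IsRankOneSetup G Ω a t Q) :
    (∀ X : Set G, X ⊆ (Q : Set G) → (∃ x ∈ X, x ≠ 1) → Subgroup.normalizer X ≤ MulAction.stabilizer G a) ∧
      Subgroup.normalizer (Q : Set G) = MulAction.stabilizer G a ∧
      Subgroup.normalizer (MulAction.stabilizer G a : Set G) = MulAction.stabilizer G a := by
  obtain ⟨x₀, hx₀, hx₀1⟩ := Agent.RankOne.Setup.exists_ne_one hS
  have key : ∀ g x : G, x ∈ Q → x ≠ 1 → x • (g • a) = g • a → g ∈ MulAction.stabilizer G a := by
    intro g x hx hx1 hfix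
    by_contra hg
    exact hx1 (Agent.RankOne.Setup.eq_one_of_fix hS hx hg hfix)
  have h1 : ∀ X : Set G, X ⊆ (Q : Set G) → (∃ x ∈ X, x ≠ 1) →
      Subgroup.normalizer X ≤ MulAction.stabilizer G a := by
    rintro X hX ⟨x, hx, hx1⟩ g hg
    refine key g _ (hX ((hg x).1 hx)) (fun e => hx1 (conj_eq_one_iff.1 e)) ?_
    rw [mul_smul, mul_smul, inv_smul_smul, show x • a = a from hS.le (hX hx)]
  refine ⟨h1, le_antisymm (h1 _ subset_rfl ⟨x₀, hx₀, hx₀1⟩) ?_, le_antisymm ?_ Subgroup.le_normalizer⟩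
  · intro g hg
    rw [Subgroup.mem_normalizer_iff]
    exact fun x => ⟨hS.conj_mem g hg x,
      fun hx => by simpa [mul_assoc] using Agent.RankOne.Setup.conj_mem_inv hS hg hx⟩
  · intro g hg
    refine key g x₀ hx₀ hx₀1 ?_
    have hm : g⁻¹ * x₀ * g ∈ MulAction.stabilizer G a :=
      (Subgroup.mem_normalizer_iff''.1 hg x₀).1 (hS.le hx₀)
    rw [MulAction.mem_stabilizer_iff, mul_smul, mul_smul, inv_smul_eq_iff] at hm
    exact hm

end Cfsg.Agent.S1118
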