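import Cfsg.Statements.S1124
import Cfsg.Agent.Lib.Involution.Basic

set_option autoImplicit false
open scoped Pointwise
open Cfsg

namespace Cfsg.Agent.S1124

/-- Let `t` be an element of order 2 of a finite group normalising a subgroup `X` of odd order, `Y = C_X(t)` and `Z` the set of elements of `X` inverted by `t`. Then `(y, z) ↦ y z` is a bijection `Y × Z → X`, so `|X| = |Y| |Z|`, and the subgroup generated by `Z` is normal in `X`. -/
theorem result {M : Type*} [Group M] [Finite M]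
    (t : M) (ht : orderOf t = 2) (X : Subgroup M) (hodd : Odd (Nat.card X))
    (hnorm : ∀ x ∈ X, t * x * t⁻¹ ∈ X) :
    (∀ x ∈ X, ∃! p : M × M, p.1 ∈ X ⊓ Subgroup.centralizer {t} ∧ p.2 ∈ Cfsg.invertedBy X t ∧ x = p.1 * p.2) ∧
      Nat.card X = Nat.card ↥(X ⊓ Subgroup.centralizer {t}) * Nat.card (Cfsg.invertedBy X t) ∧
      ∀ x ∈ X, MulAut.conj x • Subgroup.closure (Cfsg.invertedBy X t) = Subgroup.closure (Cfsg.invertedBy X t) := by
  classical
  have hsqinj : ∀ a ∈ X, ∀ b ∈ X, a * a = b * b → a = b := by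
    intro a ha b hb h
    obtain ⟨k, hk⟩ := hodd
    have e : ∀ c ∈ X, c = (c * c) ^ (k + 1) := fun c hc => by
      rw [← sq, ← pow_mul, show 2 * (k + 1) = Nat.card X + 1 by omega, pow_succ,
        orderOf_dvd_iff_pow_eq_one.1 (Subgroup.orderOf_dvd_natCard X hc), one_mul]
    rw [e a ha, h, ← e b hb]
  have huniq : ∀ x ∈ X, ∃! p : M × M, p.1 ∈ X ⊓ Subgroup.centralizer {t} ∧ p.2 ∈ Cfsg.invertedBy X t ∧ x = p.1 * p.2 := by
    intro x hx
    -- `x⁻¹ x^t` is inverted by `t`; take its inverse square root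
    set q := x⁻¹ * (t * x * t⁻¹) with hq
    have hqX : q ∈ X := X.mul_mem (X.inv_mem hx) (hnorm x hx)
    have htt : t * t = 1 := Involution.mul_self ht
    have hqinv : t * q * t⁻¹ = q⁻¹ := by
      calc t * q * t⁻¹ = (t * x⁻¹ * t⁻¹) * ((t * t) * x * (t * t)⁻¹) := by rw [hq]; group
        _ = q⁻¹ := by rw [htt, hq]; group
    obtain ⟨k, hk⟩ := hodd
    set z := q⁻¹ ^ (k + 1) with hzdef
    have hzX : z ∈ X := X.pow_mem (X.inv_mem hqX) _
    have hzinv : t * z * t⁻¹ = z⁻¹ := by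
      rw [hzdef, inv_pow, ← conj_inv, Involution.inverts_pow hqinv]
    have hz2 : z * z = q⁻¹ := by
      rw [hzdef, ← pow_add, show k + 1 + (k + 1) = Nat.card X + 1 by omega, pow_succ,
        orderOf_dvd_iff_pow_eq_one.1 (Subgroup.orderOf_dvd_natCard X (X.inv_mem hqX)), one_mul]
    have hfix : t * (x * z⁻¹) * t⁻¹ = x * z⁻¹ := by
      have hq' : q = z⁻¹ * z⁻¹ := by rw [← mul_inv_rev, hz2, inv_inv]
      calc t * (x * z⁻¹) * t⁻¹ = (t * x * t⁻¹) * (t * z * t⁻¹)⁻¹ := by group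
        _ = x * q * z := by rw [hzinv, hq, inv_inv]; group
        _ = x * z⁻¹ := by rw [hq']; group
    refine ⟨(x * z⁻¹, z), ⟨⟨X.mul_mem hx (X.inv_mem hzX), Involution.mem_centralizer_singleton.2 (mul_inv_eq_iff_eq_mul.1 hfix).symm⟩, ⟨hzX, hzinv⟩, by simp⟩, ?_⟩
    rintro ⟨y', z'⟩ ⟨⟨hy', hyc⟩, ⟨hz', hzi⟩, hxe⟩
    dsimp only at hy' hyc hz' hzi hxe
    have hy1 : t * y' * t⁻¹ = y' := mul_inv_eq_iff_eq_mul.2 (Involution.mem_centralizer_singleton.1 hyc).symm
    have hq2 : q = z'⁻¹ * z'⁻¹ := by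
      calc q = z'⁻¹ * y'⁻¹ * ((t * y' * t⁻¹) * (t * z' * t⁻¹)) := by rw [hq, hxe]; group
        _ = z'⁻¹ * z'⁻¹ := by rw [hy1, hzi]; group
    have hzz : z' = z := hsqinj z' hz' z hzX (by rw [hz2, hq2, mul_inv_rev, inv_inv])
    rw [hxe, ← hzz, mul_inv_cancel_right]
  refine ⟨huniq, ?_, ?_⟩
  · rw [← Nat.card_prod]
    choose f hf hfu using huniq
    exact Nat.card_congr
      { toFun := fun x => (⟨(f x.1 x.2).1, (hf x.1 x.2).1⟩, ⟨(f x.1 x.2).2, (hf x.1 x.2).2.1⟩)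
        invFun := fun p => ⟨p.1.1 * p.2.1, X.mul_mem p.1.2.1 p.2.2.1⟩
        left_inv := fun x => Subtype.ext (hf x.1 x.2).2.2.symm
        right_inv := fun p => by
          have h := hfu (p.1.1 * p.2.1) (X.mul_mem p.1.2.1 p.2.2.1) (p.1.1, p.2.1) ⟨p.1.2, p.2.2, rfl⟩
          exact Prod.ext (Subtype.ext (congrArg Prod.fst h).symm) (Subtype.ext (congrArg Prod.snd h).symm) }
  · intro x hx
    obtain ⟨⟨y, z⟩, ⟨⟨hy, hyc⟩, hz, rfl⟩, -⟩ := huniq x hx
    have hzc : z ∈ Subgroup.closure (Cfsg.invertedBy X t) := Subgroup.subset_closure hz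
    rw [map_mul, mul_smul]
    have h1 : MulAut.conj z • Subgroup.closure (Cfsg.invertedBy X t) = Subgroup.closure (Cfsg.invertedBy X t) :=
      Subgroup.conj_smul_eq_self_of_mem hzc
    rw [h1, Subgroup.smul_closure]
    congr 1
    have hyt : t * y = y * t := (Involution.mem_centralizer_singleton.1 hyc).symm
    have key : ∀ y' ∈ X, t * y' = y' * t → ∀ w ∈ Cfsg.invertedBy X t, y' * w * y'⁻¹ ∈ Cfsg.invertedBy X t := by
      intro y' hy' hyt' w hw
      refine ⟨X.mul_mem (X.mul_mem hy' hw.1) (X.inv_mem hy'), ?_⟩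
      calc t * (y' * w * y'⁻¹) * t⁻¹ = (t * y') * w * (t * y')⁻¹ := by group
        _ = y' * (t * w * t⁻¹) * y'⁻¹ := by rw [hyt']; group
        _ = (y' * w * y'⁻¹)⁻¹ := by rw [hw.2]; group
    ext w
    constructor
    · rintro ⟨v, hv, rfl⟩
      exact key y hy hyt v hv
    · intro hw
      refine ⟨y⁻¹ * w * y, ?_, by simp [MulAut.smul_def]; group⟩
      have := key y⁻¹ (X.inv_mem hy) (by
        calc t * y⁻¹ = y⁻¹ * (y * t) * y⁻¹ := by group
          _ = y⁻¹ * t := by rw [← hyt]; group) w hw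
      rwa [inv_inv] at this

end Cfsg.Agent.S1124
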