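import Cfsg.Statements.S1141
import Cfsg.Agent.Lib.Unitary.SylowThree
import Cfsg.Agent.Lib.GLOrder.Basic

set_option autoImplicit false
open Cfsg

namespace Cfsg.Agent.S1141

open Cfsg.Agent.Unitary in
theorem suzuki_sylThree {F : Type*} [Field F] [Fintype F] {q : ℕ} (hF : Fintype.card F = q ^ 2)
    (h2 : (2 : F) = 0) {n : ℕ} (hq : q = 2 ^ n) (hn : 2 ≤ n) :
    Cfsg.IsSuzukiTwoGroup (sylThree hF h2) := by
  classical
  have hq4 : 4 ≤ q := hq ▸ (Nat.pow_le_pow_right (show 0 < 2 by norm_num) hn : 2 ^ 2 ≤ 2 ^ n)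
  refine ⟨inferInstance, IsPGroup.of_card (n := n * 3) (by rw [card_sylThree, hq, pow_mul]),
    ?_, ?_, ?_⟩
  · by_contra h
    push Not at h
    have htop : Subgroup.center (sylThree hF h2) = ⊤ :=
      (Subgroup.eq_top_iff' _).2 fun x => Subgroup.mem_center_iff.2 fun g => h g x
    have hc := card_center (hF := hF) (h2 := h2)
    rw [htop, Subgroup.card_top, card_sylThree] at hc
    have : q * 1 < q * (q * q) := Nat.mul_lt_mul_of_pos_left (by nlinarith) (by omega)
    rw [mul_one, show q * (q * q) = q ^ 3 by ring] at this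
    omega
  · have hc := card_center (hF := hF) (h2 := h2)
    have hz : ∀ g ∈ Subgroup.center (sylThree hF h2), g * g = 1 := fun g hg =>
      (sq_eq_one_iff g).2 ((mem_center_iff g).1 hg)
    have h1 : 2 < (Finset.univ : Finset (Subgroup.center (sylThree hF h2))).card := by
      rw [Finset.card_univ, ← Nat.card_eq_fintype_card, hc]; omega
    obtain ⟨a, b, c, -, -, -, hab, hac, hbc⟩ := Finset.two_lt_card_iff.1 h1
    by_cases ha : a = 1
    · subst ha
      exact ⟨b.1, c.1, fun e => hbc (Subtype.ext e), fun e => hab (Subtype.ext e).symm,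
        hz _ b.2, fun e => hac (Subtype.ext e).symm, hz _ c.2⟩
    · by_cases hb : b = 1
      · subst hb
        exact ⟨a.1, c.1, fun e => hac (Subtype.ext e), fun e => ha (Subtype.ext e), hz _ a.2,
          fun e => hbc (Subtype.ext e).symm, hz _ c.2⟩
      · exact ⟨a.1, b.1, fun e => hab (Subtype.ext e), fun e => ha (Subtype.ext e), hz _ a.2,
          fun e => hb (Subtype.ext e), hz _ b.2⟩
  · -- the scalings by nonzero elements of the fixed field
    let L : Subgroup Fˣ := (powMonoidHom (q - 1) : Fˣ →* Fˣ).ker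
    have hL : ∀ u : L, ((u : Fˣ) : F) ^ q = ((u : Fˣ) : F) := fun u =>
      (fixed_iff hF (Units.ne_zero _)).2 (by
        have h := congrArg Units.val (MonoidHom.mem_ker.1 u.2)
        rw [powMonoidHom_apply, Units.val_pow_eq_pow_val, Units.val_one] at h
        exact h)
    have hex : ∀ (u : L) (g : sylThree hF h2), ∃ g' : sylThree hF h2,
        coordA g' = (u : Fˣ) * coordA g ∧ coordB g' = ((u : Fˣ) : F) ^ 2 * coordB g := fun u g =>
      exists_mk (by
        rw [mul_pow, ← pow_mul, mul_comm 2 q, pow_mul, hL, ← mul_add, (coe_eq g).2, mul_pow,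
          pow_succ ((u : Fˣ) : F) q, hL, pow_two])
    choose φ hφA hφB using hex
    have hone : ∀ g, φ 1 g = g := fun g => ext' (by rw [hφA]; simp) (by rw [hφB]; simp)
    have hmul : ∀ u v g, φ (u * v) g = φ u (φ v g) := fun u v g =>
      ext' (by rw [hφA, hφA, hφA, Subgroup.coe_mul, Units.val_mul, mul_assoc])
        (by rw [hφB, hφB, hφB, Subgroup.coe_mul, Units.val_mul, mul_pow, mul_assoc])
    let f : L →* MulAut (sylThree hF h2) :=
      { toFun := fun u =>
          { toFun := φ u
            invFun := φ u⁻¹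
            left_inv := fun g => by rw [← hmul, inv_mul_cancel, hone]
            right_inv := fun g => by rw [← hmul, mul_inv_cancel, hone]
            map_mul' := fun g g' => ext'
              (by rw [hφA, (coord_mul g g').1, (coord_mul (φ u g) (φ u g')).1, hφA, hφA, mul_add])
              (by
                rw [hφB, (coord_mul g g').2, (coord_mul (φ u g) (φ u g')).2, hφA, hφA, hφB, hφB,
                  mul_pow ((u : Fˣ) : F), hL]
                ring) }
        map_one' := MulEquiv.ext hone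
        map_mul' := fun u v => MulEquiv.ext fun g => hmul u v g }
    refine ⟨f.range, isCyclic_of_surjective _ f.rangeRestrict_surjective, ?_⟩
    intro x y hx1 hx hy1 hy
    have hxa := (sq_eq_one_iff x).1 hx
    have hya := (sq_eq_one_iff y).1 hy
    have hfix : ∀ g : sylThree hF h2, coordA g = 0 → coordB g ^ q = coordB g := fun g hg =>
      (fixed_iff_trace_zero (h2 := h2) _).1 (by
        rw [(coe_eq g).2, hg, zero_pow (Nat.succ_ne_zero q)])
    have hne : ∀ g : sylThree hF h2, g ≠ 1 → coordA g = 0 → coordB g ≠ 0 := fun g h1 hg h0 =>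
      h1 (ext' (hg.trans coord_one.1.symm) (h0.trans coord_one.2.symm))
    have hbx := hne x hx1 hxa
    have hby := hne y hy1 hya
    obtain ⟨r, hr⟩ : IsSquare (coordB y / coordB x) := by
      have : CharP F 2 := CharTwo.of_one_ne_zero_of_two_eq_zero one_ne_zero h2
      exact FiniteField.isSquare_of_char_two (ringChar.eq F 2) _
    have hsq : ∀ s t : F, s * s = t * t → s = t := fun s t e => by
      have : (s + t) * (s + t) = 0 := by linear_combination e + (t * t + s * t) * h2
      linear_combination mul_self_eq_zero.1 this - t * h2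
    have hr0 : r ≠ 0 := fun e => by
      rw [e, mul_zero] at hr; exact div_ne_zero hby hbx hr
    have hrq : r ^ q = r := hsq _ _ (by
      rw [← mul_pow, ← hr, div_pow, hfix x hxa, hfix y hya])
    have hu : Units.mk0 r hr0 ∈ L := Units.ext (by
      rw [powMonoidHom_apply, Units.val_pow_eq_pow_val, Units.val_one, Units.val_mk0]
      exact (fixed_iff hF hr0).1 hrq)
    have hmap : f ⟨_, hu⟩ x = y := ext'
      (by change coordA (φ _ x) = _; rw [hφA, hxa, mul_zero, hya])
      (by change coordB (φ _ x) = _; rw [hφB]; simp only [Units.val_mk0]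
          rw [pow_two, ← hr, div_mul_cancel₀ _ hbx])
    refine ⟨⟨_, ⟨_, hu⟩, rfl⟩, hmap, ?_⟩
    rintro ⟨_, v, rfl⟩ hv
    apply Subtype.ext
    refine congrArg f (Subtype.ext (Units.ext ?_))
    have hb := congrArg coordB hv
    change coordB (φ v x) = _ at hb
    rw [hφB] at hb
    simp only [Units.val_mk0]
    exact hsq _ _ (by rw [← hr, eq_div_iff hbx, ← hb]; ring)

theorem suzuki_congr {P P' : Type*} [Group P] [Group P'] (e : P ≃* P')
    (h : Cfsg.IsSuzukiTwoGroup P) : Cfsg.IsSuzukiTwoGroup P' := by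
  obtain ⟨hfin, hp, ⟨a, b, hab⟩, ⟨x, y, hxy, hx1, hx, hy1, hy⟩, K, hK, hK'⟩ := h
  refine ⟨Finite.of_equiv P e.toEquiv, hp.of_equiv e,
    ⟨e a, e b, fun h => hab (e.injective (by rw [map_mul, map_mul, h]))⟩,
    ⟨e x, e y, fun h => hxy (e.injective h), fun h => hx1 ((MulEquiv.map_eq_one_iff e).1 h),
      by rw [← map_mul, hx, map_one], fun h => hy1 ((MulEquiv.map_eq_one_iff e).1 h),
      by rw [← map_mul, hy, map_one]⟩,
    K.map (MulAut.congr e).toMonoidHom,
    isCyclic_of_surjective _ (K.equivMapOfInjective _ (MulAut.congr e).injective).surjective, ?_⟩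
  intro x' y' hx1' hx' hy1' hy'
  obtain ⟨k, hk, hku⟩ := hK' (e.symm x') (e.symm y')
    (fun h => hx1' ((MulEquiv.map_eq_one_iff e.symm).1 h)) (by rw [← map_mul, hx', map_one])
    (fun h => hy1' ((MulEquiv.map_eq_one_iff e.symm).1 h)) (by rw [← map_mul, hy', map_one])
  refine ⟨⟨_, k, k.2, rfl⟩, ?_, ?_⟩
  · change e ((k : MulAut P) (e.symm x')) = y'
    rw [hk, e.apply_symm_apply]
  · rintro ⟨_, l, hl, rfl⟩ hlx
    have := hku ⟨l, hl⟩ (by
      change l (e.symm x') = e.symm y'
      rw [← hlx]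
      exact (e.symm_apply_apply _).symm)
    exact Subtype.ext (congrArg (fun t : K => (MulAut.congr e).toMonoidHom t) this)

/-- Let `q = 2^n ≥ 4` and `|F| = q²`. A Sylow 2-subgroup `S` of `PSU₃(q)` has order `q³`, its centre has order `q`, and `S` is a Suzuki 2-group. -/
theorem result {F : Type*} [Field F] [Fintype F] {n : ℕ} (hn : 2 ≤ n)
    (hF : Fintype.card F = (2 ^ n) ^ 2) (S : Sylow 2 (Cfsg.PSU 3 F (2 ^ n))) :
    Nat.card S = (2 ^ n) ^ 3 ∧ Nat.card (Subgroup.center ↥(S : Subgroup (Cfsg.PSU 3 F (2 ^ n)))) = 2 ^ n ∧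
      Cfsg.IsSuzukiTwoGroup ↥(S : Subgroup (Cfsg.PSU 3 F (2 ^ n))) := by
  have h2 : (2 : F) = 0 := by
    have h0 : ((2 : ℕ) : F) ^ (n * 2) = 0 := by
      rw [← Nat.cast_pow, pow_mul, ← hF]; exact FiniteField.cast_card_eq_zero F
    exact_mod_cast eq_zero_of_pow_eq_zero h0
  obtain ⟨e⟩ := Unitary.exists_equiv (by omega) rfl hF h2 S
  refine ⟨(Nat.card_congr e.symm.toEquiv).trans Unitary.card_sylThree, ?_,
    suzuki_congr e (suzuki_sylThree hF h2 rfl hn)⟩
  rw [← Nat.card_congr (Subgroup.centerCongr e).toEquiv]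
  exact Unitary.card_center

end Cfsg.Agent.S1141
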