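import Cfsg.Statements.S1142
import Cfsg.Agent.Lib.BN.FeitHigmanBN

set_option autoImplicit false
open Cfsg

namespace Cfsg.Agent.S1142

/-- Feit–Higman: if a finite group has a (B,N)-pair of rank 2, its Weyl group `N/(B ⊓ N)` has order 4, 6, 8, 12 or 16. -/
theorem result {G : Type*} [Group G] [Finite G] (P : Cfsg.BNPair G)
    (h2 : P.rank = 2) :
    ((P.B ⊓ P.N).subgroupOf P.N).index ∈ ({4, 6, 8, 12, 16} : Set ℕ) := by
  have : Fintype (G ⧸ P.B) := Fintype.ofFinite _
  obtain ⟨s, t, hne, hst⟩ : ∃ s t : P.S, s ≠ t ∧ ∀ x : P.S, x = s ∨ x = t := by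
    obtain ⟨s, t, hne, hU⟩ := Nat.card_eq_two_iff.1 (show Nat.card P.S = 2 from h2)
    exact ⟨s, t, hne, fun x => by
      have := Set.mem_univ x
      rwa [← hU, Set.mem_insert_iff, Set.mem_singleton_iff] at this⟩
  show Nat.card (BN.Weyl P) ∈ _
  simpa using BN.feit_higman P hne hst

end Cfsg.Agent.S1142
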