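import Cfsg.Statements.S1167
import Cfsg.Agent.Lib.RankOne.ZassEvenChar

set_option autoImplicit false
open Cfsg

namespace Cfsg.Agent.S1167

/-- Let `G` be a finite simple Zassenhaus group on `Ω`, `U` a normal subgroup of `G_a` regular on `Ω` minus `a` which is an abelian 2-group, and `v` an involution with `v • a ≠ a`. Then there is a unique `u₀ ∈ U`, `u₀ ≠ 1`, with `v u₀ v = u₀ v u₀`. -/
theorem result {G Ω : Type*} [Group G] [Finite G] [MulAction G Ω] [Finite Ω]
    (hZ : Cfsg.IsZassenhausGroup G Ω) [IsSimpleGroup G] {a : Ω}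
    (U : Subgroup G) (hUle : U ≤ MulAction.stabilizer G a)
    (hUn : ∀ h ∈ MulAction.stabilizer G a, ∀ u ∈ U, h * u * h⁻¹ ∈ U)
    (hreg : ∀ c d : Ω, c ≠ a → d ≠ a → ∃! u : U, (u : G) • c = d)
    (hU2 : IsPGroup 2 U) (hUab : ∀ u ∈ U, ∀ u' ∈ U, u * u' = u' * u)
    (v : G) (hv1 : v ≠ 1) (hv2 : v * v = 1) (hva : v • a ≠ a) :
    ∃! u₀ : G, u₀ ∈ U ∧ u₀ ≠ 1 ∧ v * u₀ * v = u₀ * v * u₀ := by
  have h : Agent.RankOne.EvenHyp G Ω a (v • a) U := ⟨hZ, hUle, hUn, hreg, hU2, hUab, hva⟩
  obtain ⟨c, hc, hcu⟩ := h.exists_fix_unique hv2 hv1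
  have hvb : v • (v • a) = a := by rw [← mul_smul, hv2, one_smul]
  have hca : c ≠ a := fun e => hva (e ▸ hc : v • a = a)
  have hcb : c ≠ v • a := by
    intro e
    exact hva (calc v • a = c := e.symm
      _ = v • c := hc.symm
      _ = v • (v • a) := by rw [e]
      _ = a := hvb)
  obtain ⟨⟨u, hu⟩, hub, -⟩ := hreg (v • a) c hva hca
  replace hub : u • (v • a) = c := hub
  have hu2 : u * u = 1 := h.sq_eq_one hu
  have hu1 : u ≠ 1 := fun e => hcb (by rw [← hub, e, one_smul])
  have hua : u • a = a := hUle hu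
  have huc : u • c = v • a := by rw [← hub, ← mul_smul, hu2, one_smul]
  refine ⟨u, ⟨hu, hu1, ?_⟩, ?_⟩
  · -- both sides are involutions fixing `v • a` and carrying `a` to `c`
    have hX : v * (u * v * u) * v ∈ U := by
      refine h.mem_of_sq ?_ ?_
      · rw [show v * (u * v * u) * v * (v * (u * v * u) * v) = v * (u * v * u * ((v * v) * (u * v * u))) * v by group,
          hv2, one_mul, show u * v * u * (u * v * u) = u * (v * ((u * u) * v)) * u by group, hu2, one_mul, hv2,
          mul_one, hu2, mul_one, hv2]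
      · simp only [mul_smul]
        rw [hub, hc, huc, hvb]
    have e1 : (v * (u * v * u) * v) • (v • a) = u • (v • a) := by
      rw [hub]
      simp only [mul_smul]
      rw [show v • v • a = a from hvb, hua, hub, hc]
    have := congrArg Subtype.val ((hreg (v • a) (u • (v • a)) hva (h.smul_ne hua hva)).unique
      (y₁ := ⟨_, hX⟩) (y₂ := ⟨u, hu⟩) e1 rfl)
    have e2 : v * u * v = v * (v * (u * v * u) * v) * v := by rw [show (v * (u * v * u) * v) = u from this]
    rw [e2, show v * (v * (u * v * u) * v) * v = (v * v) * (u * v * u) * (v * v) by group, hv2, one_mul, mul_one]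
  · rintro w ⟨hw, hw1, hw2⟩
    have hwa : w • a = a := hUle hw
    have h1 : v • (w • (v • a)) = w • (v • a) := by
      have := congrArg (fun g => g • a) hw2
      simp only [mul_smul] at this
      rw [hwa] at this
      exact this
    have h2 : w • (v • a) = c := hcu _ h1
    exact congrArg Subtype.val ((hreg (v • a) c hva hca).unique (y₁ := ⟨w, hw⟩) (y₂ := ⟨u, hu⟩) h2 hub)

end Cfsg.Agent.S1167
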