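import Cfsg.Statements.S1176
import Cfsg.Agent.Lib.Involution.Basic

set_option autoImplicit false
open Cfsg

namespace Cfsg.Agent.S1176

/-- Let x₀ be an involution of the finite group G and D its conjugacy class. Assume (a) for each x ∈ D the subgroup W(x) generated by the members of D commuting with x is a 2-group of nilpotency class at most 2, and (b) the product of two distinct commuting members of D again lies in D. Then for all x, y ∈ D, if xy has even order greater than 2, its order is 4. -/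
theorem result {G : Type*} [Group G] [Finite G] (x₀ : G) (hx₀ : orderOf x₀ = 2) (ha : ∀ x : G, IsConj x₀ x → IsPGroup 2 ↥(Subgroup.closure {y : G | IsConj x₀ y ∧ Commute y x}) ∧ ⁅⁅Subgroup.closure {y : G | IsConj x₀ y ∧ Commute y x}, Subgroup.closure {y : G | IsConj x₀ y ∧ Commute y x}⁆, Subgroup.closure {y : G | IsConj x₀ y ∧ Commute y x}⁆ = ⊥) (hb : ∀ x y : G, IsConj x₀ x → IsConj x₀ y → x ≠ y → Commute x y → IsConj x₀ (x * y)) (x y : G) (hx : IsConj x₀ x) (hy : IsConj x₀ y) (heven : Even (orderOf (x * y))) (hgt : 2 < orderOf (x * y)) : orderOf (x * y) = 4 := by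
  have hx2 : orderOf x = 2 := (Involution.orderOf_eq_of_isConj hx).symm.trans hx₀
  have hy2 : orderOf y = 2 := (Involution.orderOf_eq_of_isConj hy).symm.trans hx₀
  obtain ⟨hz2, hzx, hzy⟩ := Involution.half_pow_commute hx2 hy2 heven
  obtain ⟨k, hk⟩ := heven
  rw [show orderOf (x * y) / 2 = k by omega] at hz2 hzx hzy
  set z := (x * y) ^ k with hz
  have hxz : IsConj x₀ (x * z) := by
    rcases Nat.even_or_odd k with ⟨l, hl⟩ | ⟨l, hl⟩
    · obtain ⟨d, -, hd⟩ := (Involution.exists_conj_eq_mul_zpow_iff hx2 hy2 (k : ℤ)).2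
        ⟨l, ⟨0, by rw [hl]; push_cast; ring⟩⟩
      rw [zpow_natCast] at hd
      exact hx.trans (isConj_iff.2 ⟨d, hd⟩)
    · obtain ⟨d, -, hd⟩ := (Involution.exists_conj_eq_mul_zpow_iff hy2 hx2 (-((k : ℤ) - 1))).2
        ⟨-(l : ℤ), ⟨0, by rw [hl]; push_cast; ring⟩⟩
      refine hy.trans (isConj_iff.2 ⟨d, hd.trans ?_⟩)
      rw [show y * x = (x * y)⁻¹ from (Involution.inv_mul_eq hx2 hy2).symm, inv_zpow', neg_neg, hz]
      conv_lhs => arg 1; rw [← Involution.left_mul_mul_left hx2 hy2]
      rw [mul_assoc, ← zpow_one_add, show 1 + ((k : ℤ) - 1) = (k : ℤ) by ring, zpow_natCast]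
  have hne : x ≠ x * z := by
    intro h
    exact Involution.ne_one hz2 (left_eq_mul.1 h)
  have hzD : IsConj x₀ z := by
    have := hb x (x * z) hx hxz hne ((Commute.refl x).mul_right hzx.symm)
    rwa [← mul_assoc, Involution.mul_self hx2, one_mul] at this
  obtain ⟨hp, hcl⟩ := ha z hzD
  set W := Subgroup.closure {w : G | IsConj x₀ w ∧ Commute w z} with hW
  have hxW : x ∈ W := Subgroup.subset_closure ⟨hx, hzx.symm⟩
  have hyW : y ∈ W := Subgroup.subset_closure ⟨hy, hzy.symm⟩
  open scoped commutatorElement in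
  have hc : ⁅⁅x, y⁆, x⁆ = 1 := by
    have := Subgroup.commutator_mem_commutator (Subgroup.commutator_mem_commutator hxW hyW) hxW
    rwa [hcl, Subgroup.mem_bot] at this
  rw [commutatorElement_eq_one_iff_mul_comm] at hc
  simp only [commutatorElement_def, Involution.inv_eq hx2, Involution.inv_eq hy2] at hc
  -- `(xy)^2` commutes with `x` and is inverted by it
  have h4 : (x * y) ^ 4 = 1 := by
    have hi := Involution.inverts_pow (Involution.inverts_mul_left hx2 hy2) 2
    have hc' : x * (x * y) ^ 2 * x⁻¹ = (x * y) ^ 2 := by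
      rw [mul_inv_eq_iff_eq_mul, sq, show (x * y) * (x * y) = x * y * x * y by group]
      exact hc.symm
    rw [hc'] at hi
    rw [show 4 = 2 + 2 by norm_num, pow_add]
    nth_rewrite 1 [hi]
    exact inv_mul_cancel _
  have h1 := Nat.le_of_dvd (by norm_num) (orderOf_dvd_iff_pow_eq_one.2 h4)
  obtain ⟨c, hc4⟩ := orderOf_dvd_iff_pow_eq_one.2 h4
  have : c ≤ 1 := by nlinarith
  interval_cases c <;> omega

end Cfsg.Agent.S1176
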