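import Cfsg.Statements.S1177
import Cfsg.Agent.Lib.Involution.Basic

set_option autoImplicit false
open Cfsg

namespace Cfsg.Agent.S1177

/-- Let A be a nontrivial elementary abelian 2-subgroup of a finite group G which is a T.I. set (each conjugate of A meets A trivially or equals A) and which does not commute elementwise with any conjugate of A other than A itself. Then for every a ∈ A, a ≠ 1, every conjugate of A contained in C_G(a) is equal to A (A is weakly closed in C_G(a)). -/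
theorem result {G : Type*} [Group G] [Finite G] (A : Subgroup G) (hA : Cfsg.IsElementaryAbelian 2 A) (hA1 : A ≠ ⊥) (hTI : ∀ g : G, A.map (MulAut.conj g).toMonoidHom ⊓ A = ⊥ ∨ A.map (MulAut.conj g).toMonoidHom = A) (hb : ∀ g : G, (∀ a ∈ A, ∀ b ∈ A.map (MulAut.conj g).toMonoidHom, a * b = b * a) → A.map (MulAut.conj g).toMonoidHom = A) (a : G) (ha : a ∈ A) (ha1 : a ≠ 1) (g : G) (hg : A.map (MulAut.conj g).toMonoidHom ≤ Subgroup.centralizer ({a} : Set G)) : A.map (MulAut.conj g).toMonoidHom = A := by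
  set B := A.map (MulAut.conj g).toMonoidHom with hB
  have hcardB : Nat.card B = Nat.card A := Subgroup.card_map_of_injective (MulAut.conj g).injective
  obtain ⟨⟨hAcomm⟩, -⟩ := hA
  have hcomm : ∀ p ∈ A, ∀ q ∈ A, p * q = q * p := fun p hp q hq =>
    congrArg Subtype.val (hAcomm.comm ⟨p, hp⟩ ⟨q, hq⟩)
  have hmap : ∀ k x : G, x ∈ A.map (MulAut.conj k).toMonoidHom ↔ k⁻¹ * x * k ∈ A := by
    intro k x
    constructor
    · rintro ⟨y, hy, rfl⟩; simpa [mul_assoc] using hy
    · intro h; exact ⟨_, h, by simp [mul_assoc]⟩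
  have hfixk : ∀ (k w : G), w ≠ 1 → w ∈ A → k⁻¹ * w * k ∈ A → A.map (MulAut.conj k).toMonoidHom = A := by
    intro k w hw1 hw hwk
    refine (hTI k).resolve_left fun h => hw1 ?_
    exact Subgroup.mem_bot.1 (h ▸ ⟨(hmap k w).2 hwk, hw⟩)
  -- `B` normalises `A`
  have hBA : ∀ b ∈ B, ∀ p ∈ A, b * p * b⁻¹ ∈ A := by
    intro b hb p hp
    have hba : b * a = a * b := Involution.mem_centralizer_singleton.1 (hg hb)
    have := hfixk b a ha1 ha (by rw [mul_assoc, ← hba, ← mul_assoc, inv_mul_cancel, one_mul]; exact ha)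
    exact this ▸ ⟨p, hp, rfl⟩
  -- every element of `A` centralises some nontrivial element of `B`
  have hex : ∀ p ∈ A, ∃ b ∈ B, b ≠ 1 ∧ b * p = p * b := by
    intro p hp
    by_contra! hno
    have hinj : Function.Injective fun b : B => (⟨(b : G) * p * (b : G)⁻¹, hBA b b.2 p hp⟩ : A) := by
      intro b c h
      simp only [Subtype.mk.injEq] at h
      have hcb : ((c : G)⁻¹ * b) * p = p * ((c : G)⁻¹ * b) := by
        calc ((c : G)⁻¹ * b) * p = (c : G)⁻¹ * ((b : G) * p * (b : G)⁻¹) * b := by group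
          _ = p * ((c : G)⁻¹ * b) := by rw [h]; group
      by_contra hne
      exact hno _ (B.mul_mem (B.inv_mem c.2) b.2) (fun h0 => hne (Subtype.ext (inv_mul_eq_one.1 h0).symm)) hcb
    obtain ⟨b, hb⟩ := ((Nat.bijective_iff_injective_and_card _).2 ⟨hinj, hcardB⟩).2 ⟨a, ha⟩
    simp only [Subtype.mk.injEq] at hb
    have hba : (b : G) * a = a * b := Involution.mem_centralizer_singleton.1 (hg b.2)
    have hpa : p = a := by
      calc p = (b : G)⁻¹ * ((b : G) * p * (b : G)⁻¹) * b := by group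
        _ = a := by rw [hb, mul_assoc, ← hba, inv_mul_cancel_left]
    obtain ⟨w, hw, hw1⟩ := A.ne_bot_iff_exists_ne_one.1 hA1 |>.elim fun q hq => (⟨g * q * g⁻¹,
      ⟨q, q.2, rfl⟩, fun h => hq (Subtype.ext (conj_eq_one_iff.1 h))⟩ : ∃ w, w ∈ B ∧ w ≠ 1)
    exact hno w hw hw1 (hpa ▸ Involution.mem_centralizer_singleton.1 (hg hw))
  -- so `A` normalises `B`
  have hAB : ∀ p ∈ A, ∀ b ∈ B, p * b * p⁻¹ ∈ B := by
    intro p hp b hb
    obtain ⟨c, hc, hc1, hcp⟩ := hex p hp
    have hc' := (hmap g c).1 hc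
    have := hfixk (g⁻¹ * p * g) (g⁻¹ * c * g) (fun h => hc1 (by
        calc c = g * (g⁻¹ * c * g) * g⁻¹ := by group
          _ = 1 := by rw [h]; group)) hc' (by
        rw [show (g⁻¹ * p * g)⁻¹ * (g⁻¹ * c * g) * (g⁻¹ * p * g) = g⁻¹ * (p⁻¹ * (c * p)) * g by group,
          hcp, inv_mul_cancel_left]
        exact hc')
    rw [hmap]
    have h2 : g⁻¹ * p * g * (g⁻¹ * b * g) * (g⁻¹ * p * g)⁻¹ ∈ A := this ▸ ⟨_, (hmap g b).1 hb, rfl⟩
    simpa [mul_assoc] using h2
  rcases hTI g with h | h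
  · refine hb g fun p hp b hbB => ?_
    have h1 : p * b * p⁻¹ * b⁻¹ ∈ B ⊓ A := by
      refine ⟨B.mul_mem (hAB p hp b hbB) (B.inv_mem hbB), ?_⟩
      rw [show p * b * p⁻¹ * b⁻¹ = p * (b * p⁻¹ * b⁻¹) by group]
      exact A.mul_mem hp (hBA b hbB _ (A.inv_mem hp))
    rw [h, Subgroup.mem_bot, mul_inv_eq_one, mul_inv_eq_iff_eq_mul] at h1
    exact h1
  · exact h

end Cfsg.Agent.S1177
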