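import Cfsg.Statements.S1178
import Cfsg.Agent.Lib.Involution.Basic

set_option autoImplicit false
open Cfsg

namespace Cfsg.Agent.S1178

/-- Let A be a subgroup of a Sylow 2-subgroup S of the finite group G which is weakly closed in S. If a conjugate g A g⁻¹ commutes elementwise with A, then g A g⁻¹ = A. -/
theorem result {G : Type*} [Group G] [Finite G] (S : Sylow 2 G) (A : Subgroup G) (hW : Cfsg.IsWeaklyClosed A (S : Subgroup G)) (g : G) (hc : ∀ a ∈ A, ∀ b ∈ A.map (MulAut.conj g).toMonoidHom, a * b = b * a) : A.map (MulAut.conj g).toMonoidHom = A := by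
  haveI : Fact (Nat.Prime 2) := ⟨Nat.prime_two⟩
  set B := A.map (MulAut.conj g).toMonoidHom with hB
  have hA : IsPGroup 2 A := S.isPGroup'.to_le hW.1
  have hle : B ≤ Subgroup.normalizer (A : Set G) := fun b hb =>
    Subgroup.centralizer_le_normalizer _ (Subgroup.mem_centralizer_iff.2 fun a ha => hc a ha b hb)
  obtain ⟨Q, hQ⟩ := ((hA.map (MulAut.conj g).toMonoidHom).to_sup_of_normal_right' hA hle).exists_le_sylow
  obtain ⟨k, hk⟩ := MulAction.exists_smul_eq G Q S
  have hmem : ∀ x ∈ (Q : Subgroup G), k * x * k⁻¹ ∈ (S : Subgroup G) := fun x hx => by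
    rw [← hk]; exact Subgroup.smul_mem_pointwise_smul _ (MulAut.conj k) _ hx
  have h1 : A.map (MulAut.conj k).toMonoidHom = A := hW.2 k (by
    rintro _ ⟨x, hx, rfl⟩; exact hmem x (hQ (le_sup_right (a := B) hx)))
  have h2 : A.map (MulAut.conj (k * g)).toMonoidHom = A := hW.2 (k * g) (by
    rintro _ ⟨x, hx, rfl⟩
    have := hmem (g * x * g⁻¹) (hQ (le_sup_left (b := A) ⟨x, hx, rfl⟩))
    simpa [mul_assoc] using this)
  apply Subgroup.map_injective (f := (MulAut.conj k).toMonoidHom) (MulAut.conj k).injective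
  rw [h1, hB, Subgroup.map_map]
  conv_rhs => rw [← h2]
  congr 1
  ext x
  simp [mul_assoc]

end Cfsg.Agent.S1178
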