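import Cfsg.Statements.S1181
import Cfsg.Agent.Lib.Transfer.Isolated

set_option autoImplicit false
open Cfsg

namespace Cfsg.Agent.S1181

/-- Let z be an isolated involution of the finite group G and N a normal subgroup with z ∉ N. Then the centralizer of zN in G/N is the image of C_G(z), and zN is an isolated involution of G/N. -/
theorem result {G : Type*} [Group G] [Finite G] (z : G) (hz : Cfsg.IsIsolatedInvolution z) (N : Subgroup G) [N.Normal] (hzN : z ∉ N) : Subgroup.centralizer ({(QuotientGroup.mk z : G ⧸ N)} : Set (G ⧸ N)) = (Subgroup.centralizer ({z} : Set G)).map (QuotientGroup.mk' N) ∧ Cfsg.IsIsolatedInvolution (QuotientGroup.mk z : G ⧸ N) := by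
  have hord : orderOf (QuotientGroup.mk z : G ⧸ N) = 2 :=
    orderOf_eq_prime (by rw [← QuotientGroup.mk_pow, ← hz.1, pow_orderOf_eq_one, QuotientGroup.mk_one])
      (fun h => hzN ((QuotientGroup.eq_one_iff z).mp h))
  refine ⟨le_antisymm (fun x hx => ?_) ?_, hord, fun x hx => ?_⟩
  · induction x using QuotientGroup.induction_on with
    | H g =>
      have h1 : (g : G ⧸ N) * z = z * g := Subgroup.mem_centralizer_singleton_iff.mp hx
      obtain ⟨k, hk, -, -, hke⟩ := Transfer.exists_root_conj hz g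
      have hd : z * (g * z * g⁻¹) ∈ N := by
        rw [← QuotientGroup.eq_one_iff, QuotientGroup.mk_mul, QuotientGroup.mk_mul, QuotientGroup.mk_mul,
          QuotientGroup.mk_inv, h1, mul_inv_cancel_right, ← QuotientGroup.mk_mul,
          Transfer.sq_eq_one_of_isolated hz, QuotientGroup.mk_one]
      have hkN : k ∈ N := (Subgroup.zpowers_le.mpr hd) hk
      refine ⟨k⁻¹ * g, Subgroup.mem_centralizer_singleton_iff.mpr (mul_inv_eq_iff_eq_mul.mp ?_), ?_⟩
      · rw [show k⁻¹ * g * z * (k⁻¹ * g)⁻¹ = k⁻¹ * (g * z * g⁻¹) * k by group, ← hke]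
        group
      · rw [QuotientGroup.mk'_apply, QuotientGroup.mk_mul, QuotientGroup.mk_inv,
          (QuotientGroup.eq_one_iff k).mpr hkN, inv_one, one_mul]
  · rintro _ ⟨c, hc, rfl⟩
    rw [Subgroup.mem_centralizer_singleton_iff, QuotientGroup.mk'_apply, ← QuotientGroup.mk_mul,
      ← QuotientGroup.mk_mul, Subgroup.mem_centralizer_singleton_iff.mp hc]
  · induction x using QuotientGroup.induction_on with
    | H g =>
      set d := z * (g * z * g⁻¹) with hd
      have hd2 : d * d ∈ N := by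
        rw [← QuotientGroup.eq_one_iff, hd]
        simp only [QuotientGroup.mk_mul, QuotientGroup.mk_inv] at hx ⊢
        have e1 : (z : G ⧸ N) * z = 1 := by
          rw [← QuotientGroup.mk_mul, Transfer.sq_eq_one_of_isolated hz, QuotientGroup.mk_one]
        have e2 : ((g : G ⧸ N) * z * (g : G ⧸ N)⁻¹) * ((g : G ⧸ N) * z * (g : G ⧸ N)⁻¹) = 1 := by
          calc (g : G ⧸ N) * z * (g : G ⧸ N)⁻¹ * ((g : G ⧸ N) * z * (g : G ⧸ N)⁻¹)
              = (g : G ⧸ N) * ((z : G ⧸ N) * z) * (g : G ⧸ N)⁻¹ := by group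
            _ = 1 := by rw [e1, mul_one, mul_inv_cancel]
        calc _ = (z : G ⧸ N) * ((g : G ⧸ N) * z * (g : G ⧸ N)⁻¹ * z) * ((g : G ⧸ N) * z * (g : G ⧸ N)⁻¹) := by
              group
          _ = (z : G ⧸ N) * z * (((g : G ⧸ N) * z * (g : G ⧸ N)⁻¹) * ((g : G ⧸ N) * z * (g : G ⧸ N)⁻¹)) := by
              rw [← hx.eq]; group
          _ = 1 := by rw [e1, e2, one_mul]
      obtain ⟨i, hi⟩ : Odd (orderOf d) := Transfer.odd_orderOf_mul_conj hz g
      have hdN : d ∈ N := by
        have h3 : d = (d * d) ^ (i + 1) := by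
          rw [← sq, ← pow_mul, show 2 * (i + 1) = orderOf d + 1 by omega, pow_succ, pow_orderOf_eq_one,
            one_mul]
        exact h3 ▸ pow_mem hd2 _
      have h4 : (QuotientGroup.mk d : G ⧸ N) = 1 := (QuotientGroup.eq_one_iff d).mpr hdN
      simp only [hd, QuotientGroup.mk_mul, QuotientGroup.mk_inv] at h4
      rw [eq_inv_of_mul_eq_one_right h4, ← QuotientGroup.mk_inv, Transfer.inv_eq_of_isolated hz]

end Cfsg.Agent.S1181
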