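import Cfsg.Statements.S1182
import Cfsg.Agent.Lib.Transfer.Isolated

set_option autoImplicit false
open Cfsg

namespace Cfsg.Agent.S1182

/-- Let z be an isolated involution of the finite group G and H a subgroup normalized by z. If x, y ∈ H both commute with z and y = h x h⁻¹ for some h ∈ H, then y = c x c⁻¹ for some c ∈ H commuting with z. -/
theorem result {G : Type*} [Group G] [Finite G] (z : G) (hz : Cfsg.IsIsolatedInvolution z) (H : Subgroup G) (hzH : z ∈ Subgroup.normalizer (H : Set G)) (x y : G) (hx : x ∈ H) (hy : y ∈ H) (hxz : Commute x z) (hyz : Commute y z) (h : G) (hh : h ∈ H) (hconj : h * x * h⁻¹ = y) : ∃ c ∈ H, Commute c z ∧ c * x * c⁻¹ = y := by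
  obtain ⟨i, hi⟩ := Transfer.odd_orderOf_mul_conj hz h⁻¹
  set e := z * (h⁻¹ * z * h⁻¹⁻¹) with he
  have hzz := Transfer.sq_eq_one_of_isolated hz
  have hzi := Transfer.inv_eq_of_isolated hz
  have hinv : z * e * z⁻¹ = e⁻¹ := Transfer.conj_mul_conj_inverted hz h⁻¹
  have hez : e = z * h⁻¹ * z * h := by rw [he, inv_inv]; group
  have heH : e ∈ H := by
    rw [hez, ← show z * h⁻¹ * z⁻¹ * h = z * h⁻¹ * z * h by rw [hzi]]
    exact H.mul_mem ((Subgroup.mem_normalizer_iff.mp hzH _).mp (H.inv_mem hh)) hh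
  have hex : Commute e x := by
    refine mul_inv_eq_iff_eq_mul.mp ?_
    rw [hez]
    calc z * h⁻¹ * z * h * x * (z * h⁻¹ * z * h)⁻¹ = z * h⁻¹ * (z * (h * x * h⁻¹) * z⁻¹) * h * z⁻¹ := by group
      _ = z * (h⁻¹ * y * h) * z⁻¹ := by rw [hconj, ← hyz.eq, mul_inv_cancel_right]; group
      _ = x := by rw [← hconj]; simp only [mul_assoc, inv_mul_cancel_left, inv_mul_cancel, mul_one]
                  rw [← mul_assoc, ← hxz.eq, mul_assoc, mul_inv_cancel, mul_one]
  refine ⟨h * e ^ i, H.mul_mem hh (pow_mem heH i), ?_, ?_⟩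
  · refine (mul_inv_eq_iff_eq_mul.mp ?_).symm
    have h1 : z * h * z⁻¹ = h * e⁻¹ := by
      rw [hez, mul_inv_rev, mul_inv_rev, mul_inv_rev, inv_inv, hzi, ← mul_assoc, mul_inv_cancel, one_mul,
        ← mul_assoc]
    calc z * (h * e ^ i) * z⁻¹ = (z * h * z⁻¹) * (z * e ^ i * z⁻¹) := by group
      _ = h * (e⁻¹ * (e ^ i)⁻¹) := by rw [h1, Transfer.inverted_pow hinv i]; group
      _ = h * e ^ i := by
          congr 1
          rw [← mul_inv_rev, ← pow_succ]
          refine inv_eq_of_mul_eq_one_right ?_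
          rw [← pow_add, show i + 1 + i = orderOf e by omega, pow_orderOf_eq_one]
  · rw [show h * e ^ i * x * (h * e ^ i)⁻¹ = h * (e ^ i * x * (e ^ i)⁻¹) * h⁻¹ by group,
      (hex.pow_left i).eq, mul_inv_cancel_right, hconj]

end Cfsg.Agent.S1182
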