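import Cfsg.Statements.S1183
import Cfsg.Agent.Lib.Transfer.Isolated

set_option autoImplicit false
open Cfsg

namespace Cfsg.Agent.S1183

/-- Let z be an isolated involution of the finite group G and C = C_G(z). Then the subgroup of G generated by its elements of odd order is all of G if and only if the subgroup of C generated by its elements of odd order is all of C. -/
theorem result {G : Type*} [Group G] [Finite G] (z : G) (hz : Cfsg.IsIsolatedInvolution z) : Cfsg.pResidual 2 G = ⊤ ↔ Cfsg.pResidual 2 ↥(Subgroup.centralizer ({z} : Set G)) = ⊤ := by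
  have := Fact.mk Nat.prime_two
  obtain ⟨S, -, hS⟩ := Transfer.exists_sylow_le_centralizer_of_isolated hz
  set C := Subgroup.centralizer ({z} : Set G)
  have hc : commutator G ⊓ (S : Subgroup G) = ⁅C, C⁆ ⊓ (S : Subgroup G) :=
    Transfer.commutator_inf_eq_of_control S C hS fun x hx g hg =>
      Transfer.isolated_centralizer_control hz (Subgroup.mem_centralizer_singleton_iff.mp (hS hx))
        (Subgroup.mem_centralizer_singleton_iff.mp (hS hg))
  rw [Transfer.pResidual_eq_top_iff S, Transfer.pResidual_eq_top_iff (S.subtype hS)]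
  constructor
  · intro h x hx
    have h1 : (x : G) ∈ ⁅C, C⁆ ⊓ (S : Subgroup G) := hc ▸ ⟨h hx, hx⟩
    rw [← Subgroup.map_subtype_commutator] at h1
    obtain ⟨y, hy, hyx⟩ := h1.1
    exact Subtype.ext hyx ▸ hy
  · intro h x hx
    have h1 : x ∈ (commutator ↥C).map C.subtype := ⟨⟨x, hS hx⟩, h hx, rfl⟩
    rw [Subgroup.map_subtype_commutator] at h1
    exact (hc.ge ⟨h1, hx⟩).1

end Cfsg.Agent.S1183
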