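import Cfsg.Statements.S1186
import Cfsg.Agent.Lib.Transfer.Isolated

set_option autoImplicit false
open Cfsg

namespace Cfsg.Agent.S1186

/-- Let z be an isolated involution of the finite group G, C = C_G(z), K the set of elements of odd order inverted by z, and s an involution of C. Then |G| = |C| · |C_K(sz)| · |C_K(s)|. -/
theorem result {G : Type*} [Group G] [Finite G] (z : G) (hz : Cfsg.IsIsolatedInvolution z) (s : G) (hs : orderOf s = 2) (hsz : Commute s z) : Nat.card G = Nat.card (Subgroup.centralizer ({z} : Set G)) * Nat.card {k : G // Odd (orderOf k) ∧ z * k * z⁻¹ = k⁻¹ ∧ Commute k (s * z)} * Nat.card {k : G // Odd (orderOf k) ∧ z * k * z⁻¹ = k⁻¹ ∧ Commute k s} := by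
  set C := Subgroup.centralizer ({z} : Set G)
  have hss : s * s = 1 := by rw [← sq, ← hs, pow_orderOf_eq_one]
  have hzi := Transfer.inv_eq_of_isolated hz
  have hsi : s⁻¹ = s := inv_eq_of_mul_eq_one_right hss
  -- a root fixed by an element commuting with `z`
  have fixed : ∀ (w k : G), Commute w z → Odd (orderOf k) → z * k * z⁻¹ = k⁻¹ →
      w * (k * z * k⁻¹) * w⁻¹ = k * z * k⁻¹ → Commute k w := by
    intro w k hw hk1 hk2 hk3
    have h1 : w * k * w⁻¹ = k := by
      refine Transfer.inverted_unique (z := z) ?_ ?_ hk1 hk2 ?_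
      · rw [← MulAut.conj_apply, MulEquiv.orderOf_eq]; exact hk1
      · calc z * (w * k * w⁻¹) * z⁻¹ = z * w * k * (z * w)⁻¹ := by group
          _ = w * (z * k * z⁻¹) * w⁻¹ := by rw [← hw.eq]; group
          _ = _ := by rw [hk2]; group
      · calc w * k * w⁻¹ * z * (w * k * w⁻¹)⁻¹ = w * k * (w⁻¹ * z * w) * k⁻¹ * w⁻¹ := by group
          _ = w * (k * z * k⁻¹) * w⁻¹ := by rw [mul_assoc w⁻¹, ← hw.eq, inv_mul_cancel_left]; group
          _ = _ := hk3
    exact (mul_inv_eq_iff_eq_mul.mp h1).symm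
  -- conjugating a fixed conjugate
  have key : ∀ a b : G, Commute a (s * z) → Commute b s →
      (b * z * b⁻¹) * ((b * a) * z * (b * a)⁻¹) * (b * z * b⁻¹)⁻¹ = s * ((b * a) * z * (b * a)⁻¹) * s⁻¹ := by
    intro a b ha hb
    have h1 : s * z * (a * z * a⁻¹) * (s * z)⁻¹ = a * z * a⁻¹ := by
      have hzt : Commute z (s * z) := hsz.symm.mul_right (Commute.refl z)
      exact mul_inv_eq_iff_eq_mul.mpr ((ha.mul_left hzt).mul_left ha.inv_left).eq.symm
    have h2 : z * (a * z * a⁻¹) * z⁻¹ = s * (a * z * a⁻¹) * s⁻¹ := by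
      calc z * (a * z * a⁻¹) * z⁻¹ = (s * s) * z * (a * z * a⁻¹) * z⁻¹ := by rw [hss, one_mul]
        _ = s * (s * z * (a * z * a⁻¹) * (s * z)⁻¹) * s := by group
        _ = _ := by rw [h1, hsi]
    calc (b * z * b⁻¹) * ((b * a) * z * (b * a)⁻¹) * (b * z * b⁻¹)⁻¹
        = b * (z * (a * z * a⁻¹) * z⁻¹) * b⁻¹ := by group
      _ = (b * s) * (a * z * a⁻¹) * (b * s)⁻¹ := by rw [h2]; group
      _ = _ := by rw [hb.eq]; group
  let X := {k : G // Odd (orderOf k) ∧ z * k * z⁻¹ = k⁻¹ ∧ Commute k (s * z)}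
  let Y := {k : G // Odd (orderOf k) ∧ z * k * z⁻¹ = k⁻¹ ∧ Commute k s}
  let f : X × Y → G ⧸ C := fun q => QuotientGroup.mk (q.2.1 * q.1.1)
  have hbij : Function.Bijective f := by
    constructor
    · rintro ⟨⟨a, ha1, ha2, ha3⟩, ⟨b, hb1, hb2, hb3⟩⟩ ⟨⟨a', ha1', ha2', ha3'⟩, ⟨b', hb1', hb2', hb3'⟩⟩ he
      have h0 : (b * a)⁻¹ * (b' * a') ∈ C := QuotientGroup.eq.mp he
      have h1 : (b * a) * z * (b * a)⁻¹ = (b' * a') * z * (b' * a')⁻¹ := by
        have h2 : (b * a)⁻¹ * (b' * a') * z = z * ((b * a)⁻¹ * (b' * a')) :=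
          Subgroup.mem_centralizer_singleton_iff.mp h0
        calc (b * a) * z * (b * a)⁻¹
            = (b * a) * (z * ((b * a)⁻¹ * (b' * a'))) * (b' * a')⁻¹ := by group
          _ = _ := by rw [← h2]; group
      have h3 : b * z * b⁻¹ = b' * z * b'⁻¹ := by
        refine Transfer.eq_of_conj_swap hz (c := b * a) ((key a b ha3 hb3).trans ?_)
        rw [h1, key a' b' ha3' hb3']
      obtain rfl : b = b' := Transfer.inverted_unique hb1 hb2 hb1' hb2' h3
      obtain rfl : a = a' := Transfer.inverted_unique ha1 ha2 ha1' ha2' (by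
        calc a * z * a⁻¹ = b⁻¹ * ((b * a) * z * (b * a)⁻¹) * b := by group
          _ = _ := by rw [h1]; group)
      rfl
    · intro q
      induction q using QuotientGroup.induction_on with
      | H g =>
        set z1 := g * z * g⁻¹ with hz1def
        have hz1 : IsIsolatedInvolution z1 := Transfer.isolated_conj hz g
        have hz1i := Transfer.inv_eq_of_isolated hz1
        -- `s z1 s⁻¹` is a conjugate of `z1`
        have e1 : (s * g * z * (s * g)⁻¹) = (s * z1 * s⁻¹) := by rw [hz1def]; group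
        have e2 : (s * g * g⁻¹) * z1 * (s * g * g⁻¹)⁻¹ = s * z1 * s⁻¹ := by group
        obtain ⟨k, hkd, hk1, hk2, hk3⟩ := Transfer.exists_root_conj hz1 (s * g * g⁻¹)
        rw [e2] at hk3
        obtain ⟨i, hi⟩ := hk1
        have hkk : k ^ (i + 1) * k ^ (i + 1) = k := by
          rw [← pow_add, show i + 1 + (i + 1) = orderOf k + 1 by omega, pow_succ, pow_orderOf_eq_one, one_mul]
        set l := k ^ (i + 1)
        set m := l * g * z * (l * g)⁻¹ with hmdef
        have hm : m = k * z1 := by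
          calc m = l * z1 * l⁻¹ := by rw [hmdef, hz1def]; group
            _ = l * l * z1 := Transfer.conj_eq_sq_mul (Transfer.inverted_pow hk2 (i + 1))
            _ = _ := by rw [hkk]
        have hmz : m * z1 * m⁻¹ = s * z1 * s⁻¹ := by
          rw [hm, ← hk3]; group
        have hmz' : m * (s * z1 * s⁻¹) * m⁻¹ = z1 := by
          rw [← hmz]
          calc m * (m * z1 * m⁻¹) * m⁻¹ = (m * m) * z1 * (m * m)⁻¹ := by group
            _ = z1 := by rw [hmdef, Transfer.sq_eq_one_of_isolated (Transfer.isolated_conj hz (l * g))]; group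
        have hsm : s * m * s⁻¹ = m := by
          have e3 : (s * (l * g)) * z * (s * (l * g))⁻¹ = s * m * s⁻¹ := by rw [hmdef]; group
          have h1 := Transfer.eq_of_conj_swap hz (a := s * (l * g)) (b := l * g) (c := g) (by
            rw [e3, ← hz1def, ← hmdef, hmz]
            calc s * m * s⁻¹ * z1 * (s * m * s⁻¹)⁻¹ = s * (m * (s⁻¹ * z1 * s) * m⁻¹) * s⁻¹ := by group
              _ = s * (m * (s * z1 * s⁻¹) * m⁻¹) * s⁻¹ := by rw [hsi]
              _ = _ := by rw [hmz'])
          rw [e3] at h1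
          exact h1
        obtain ⟨b, -, hb1, hb2, hb3⟩ := Transfer.exists_root_conj hz (l * g)
        rw [← hmdef] at hb3
        have hbs : Commute b s := fixed s b hsz hb1 hb2 (by rw [hb3]; exact hsm)
        set u := (b⁻¹ * g) * z * (b⁻¹ * g)⁻¹ with hudef
        have hu : u = b⁻¹ * z1 * b := by rw [hudef, hz1def]; group
        obtain ⟨a, -, ha1, ha2, ha3⟩ := Transfer.exists_root_conj hz (b⁻¹ * g)
        rw [← hudef] at ha3
        have hzu : z * u * z⁻¹ = s * u * s⁻¹ := by
          rw [hu]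
          calc z * (b⁻¹ * z1 * b) * z⁻¹ = b⁻¹ * ((b * z * b⁻¹) * z1 * (b * z * b⁻¹)⁻¹) * b := by group
            _ = b⁻¹ * (s * z1 * s⁻¹) * b := by rw [hb3, hmz]
            _ = (b⁻¹ * s) * z1 * (b⁻¹ * s)⁻¹ := by group
            _ = _ := by rw [hbs.inv_left.eq]; group
        have hat : Commute a (s * z) := by
          refine fixed (s * z) a (hsz.mul_left (Commute.refl z)) ha1 ha2 ?_
          rw [ha3]
          calc s * z * u * (s * z)⁻¹ = s * (z * u * z⁻¹) * s⁻¹ := by group
            _ = (s * s) * u * (s * s)⁻¹ := by rw [hzu]; group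
            _ = u := by rw [hss]; group
        refine ⟨(⟨a, ha1, ha2, hat⟩, ⟨b, hb1, hb2, hbs⟩), ?_⟩
        refine QuotientGroup.eq.mpr (Subgroup.mem_centralizer_singleton_iff.mpr ?_)
        have h5 : (b * a) * z * (b * a)⁻¹ = g * z * g⁻¹ := by
          calc (b * a) * z * (b * a)⁻¹ = b * (a * z * a⁻¹) * b⁻¹ := by group
            _ = g * z * g⁻¹ := by rw [ha3, hu, hz1def]; group
        calc (b * a)⁻¹ * g * z = (b * a)⁻¹ * (g * z * g⁻¹) * g := by group
          _ = (b * a)⁻¹ * ((b * a) * z * (b * a)⁻¹) * g := by rw [h5]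
          _ = _ := by group
  have hcard : Nat.card X * Nat.card Y = C.index := by
    rw [← Nat.card_prod, Subgroup.index_eq_card]
    exact Nat.card_eq_of_bijective f hbij
  rw [← C.card_mul_index, ← hcard, mul_assoc]

end Cfsg.Agent.S1186
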