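import Cfsg.Statements.S1191
import Cfsg.Agent.Lib.QDWreath.SemidihedralSmall

set_option autoImplicit false
open Cfsg

namespace Cfsg.Agent.S1191

/-- In a quasi-dihedral 2-group S, any two subgroups isomorphic to the quaternion group of order 8 are conjugate, and each such subgroup Q satisfies C_S(Q) = Z(Q) and |N_S(Q) : Q| = 2. -/
theorem result {S : Type*} [Group S] [Finite S] (hS : Cfsg.IsQuasiDihedral S) : (∀ Q₁ Q₂ : Subgroup S, Nonempty (Q₁ ≃* QuaternionGroup 2) → Nonempty (Q₂ ≃* QuaternionGroup 2) → ∃ s : S, Q₁.map (MulAut.conj s).toMonoidHom = Q₂) ∧ (∀ Q : Subgroup S, Nonempty (Q ≃* QuaternionGroup 2) → Subgroup.centralizer (Q : Set S) = (Subgroup.center Q).map Q.subtype ∧ Q.relIndex (Subgroup.normalizer (Q : Set S)) = 2) := by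
  obtain ⟨n, ⟨d⟩⟩ := QDWreath.nonempty_qdData hS
  have hn := d.hn
  have hm : QDWreath.tp n (n - 2) = 2 * QDWreath.tp n (n - 3) :=
    (QDWreath.two_mul_tp n (n - 3) (n - 2) (by omega)).symm
  refine ⟨fun Q₁ Q₂ ⟨e₁⟩ ⟨e₂⟩ => ?_, fun Q ⟨e⟩ => ?_⟩
  · obtain ⟨k₁, s₁⟩ := d.quaternion_shape e₁
    obtain ⟨k₂, s₂⟩ := d.quaternion_shape e₂
    exact s₁.exists_conj s₂ ⟨k₂ - k₁, by ring⟩
  · obtain ⟨k, s⟩ := d.quaternion_shape e
    refine ⟨le_antisymm (fun g hg => ?_) (fun g hg => ?_),
      s.relIndex_normalizer (p := QDWreath.tp n (n - 3)) (c := 2) hm d.half_eq_two_mul ?_⟩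
    · have hgQ : g ∈ Q := by
        rw [Subgroup.mem_centralizer_iff] at hg
        rcases d.cases g with ⟨j, rfl⟩ | ⟨j, rfl⟩
        · rcases d.commute_a_b.1 (hg _ (s.b_mem 0)).symm with rfl | rfl
          · simpa using s.a_mem 0
          · have := s.a_mem 2
            rwa [← d.half_eq_two_mul] at this
        · have h := hg _ (s.a_mem 1)
          rcases d.commute_a_b.1 h with h0 | h0
          · exact absurd (by simpa using h0) (QDWreath.tp_ne_zero n (n - 2) (by omega))
          · exfalso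
            apply QDWreath.tp_ne_zero n (n - 1) (by omega)
            linear_combination 2 * h0 + d.half_eq_two_mul - QDWreath.half_mul_two d.one_le * 0 + (-2) * h0 * 0 + QDWreath.half_mul_two d.one_le
      refine ⟨⟨g, hgQ⟩, ?_, rfl⟩
      rw [SetLike.mem_coe, Subgroup.mem_center_iff]
      intro x
      exact Subtype.ext (Subgroup.mem_centralizer_iff.1 hg _ x.2)
    · obtain ⟨x, hx, rfl⟩ := hg
      rw [Subgroup.mem_centralizer_iff]
      intro h hh
      exact congrArg Subtype.val (Subgroup.mem_center_iff.1 hx ⟨h, hh⟩)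
    · intro l hl
      have : QDWreath.tp n (n - 3) * (1 - 2 * l) = 0 := by
        linear_combination hl + l * hm
      have hu : IsUnit (1 - 2 * l : ZMod (2 ^ n)) := by
        simpa [← sub_eq_neg_add] using QDWreath.isUnit_odd (-l)
      exact QDWreath.tp_ne_zero n (n - 3) (by omega) (hu.mul_left_eq_zero.1 this)

end Cfsg.Agent.S1191
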