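import Cfsg.Statements.S1195
import Cfsg.Agent.Lib.QDWreath.Wreathed

set_option autoImplicit false
open Cfsg

namespace Cfsg.Agent.S1195

/-- A wreathed 2-group has exactly three conjugacy classes of elements of order 2. -/
theorem result {S : Type*} [Group S] [Finite S] (hS : Cfsg.IsWreathed S) : Nat.card {C : ConjClasses S // ∃ t : S, orderOf t = 2 ∧ ConjClasses.mk t = C} = 3 := by
  obtain ⟨n, ⟨d⟩⟩ := QDWreath.nonempty_wrData hS
  have hn1 := d.one_le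
  set H := QDWreath.tp n (n - 1) with hH
  have hH0 : H ≠ 0 := QDWreath.tp_ne_zero n (n - 1) (by omega)
  have h2H : 2 * H = 0 := (QDWreath.two_mul_eq_zero hn1).2 (Or.inr rfl)
  rw [← Set.coe_setOf, Nat.card_coe_set_eq, Set.ncard_eq_three]
  refine ⟨ConjClasses.mk (d.a H H), ConjClasses.mk (d.a H 0), ConjClasses.mk (d.b 0 0), ?_, ?_, ?_, ?_⟩
  · intro h
    rw [ConjClasses.mk_eq_mk_iff_isConj, isConj_iff] at h
    obtain ⟨c, hc⟩ := h
    rcases d.cases c with ⟨k, l, rfl⟩ | ⟨k, l, rfl⟩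
    · rw [d.conj_a_a, d.a_inj] at hc; exact hH0 hc.2
    · rw [d.conj_b_a, d.a_inj] at hc; exact hH0 hc.2
  · intro h
    rw [ConjClasses.mk_eq_mk_iff_isConj, isConj_iff] at h
    obtain ⟨c, hc⟩ := h
    rcases d.cases c with ⟨k, l, rfl⟩ | ⟨k, l, rfl⟩
    · rw [d.conj_a_a] at hc; exact d.a_ne_b _ _ _ _ hc
    · rw [d.conj_b_a] at hc; exact d.a_ne_b _ _ _ _ hc
  · intro h
    rw [ConjClasses.mk_eq_mk_iff_isConj, isConj_iff] at h
    obtain ⟨c, hc⟩ := h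
    rcases d.cases c with ⟨k, l, rfl⟩ | ⟨k, l, rfl⟩
    · rw [d.conj_a_a] at hc; exact d.a_ne_b _ _ _ _ hc
    · rw [d.conj_b_a] at hc; exact d.a_ne_b _ _ _ _ hc
  · ext C
    simp only [Set.mem_ofPred_eq, Set.mem_insert_iff, Set.mem_singleton_iff]
    constructor
    · rintro ⟨t, ht, rfl⟩
      obtain ⟨hsq, hne⟩ := QDWreath.WrData.orderOf_eq_two.1 ht
      rcases d.sq_eq_one.1 hsq with ⟨i, j, rfl, hi, hj⟩ | ⟨i, rfl⟩
      · rcases hi with rfl | rfl <;> rcases hj with rfl | rfl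
        · exact absurd d.a_zero hne
        · refine Or.inr (Or.inl ?_)
          rw [ConjClasses.mk_eq_mk_iff_isConj, isConj_iff]
          exact ⟨d.b 0 0, by rw [d.conj_b_a]⟩
        · exact Or.inr (Or.inl rfl)
        · exact Or.inl rfl
      · refine Or.inr (Or.inr ?_)
        rw [ConjClasses.mk_eq_mk_iff_isConj, isConj_iff]
        exact ⟨d.a (-i) 0, by rw [d.conj_a_b, d.b_inj]; exact ⟨by ring, by ring⟩⟩
    · rintro (rfl | rfl | rfl)
      · exact ⟨_, QDWreath.WrData.orderOf_eq_two.2 ⟨d.sq_eq_one.2 (Or.inl ⟨H, H, rfl, Or.inr rfl, Or.inr rfl⟩),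
          fun e => hH0 (d.a_inj.1 (e.trans d.a_zero.symm)).1⟩, rfl⟩
      · exact ⟨_, QDWreath.WrData.orderOf_eq_two.2 ⟨d.sq_eq_one.2 (Or.inl ⟨H, 0, rfl, Or.inr rfl, Or.inl rfl⟩),
          fun e => hH0 (d.a_inj.1 (e.trans d.a_zero.symm)).1⟩, rfl⟩
      · exact ⟨_, QDWreath.WrData.orderOf_eq_two.2 ⟨d.sq_eq_one.2 (Or.inr ⟨0, by rw [neg_zero]⟩), d.b_ne_one _ _⟩, rfl⟩

end Cfsg.Agent.S1195
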