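import Cfsg.Statements.S1197
import Cfsg.Agent.Lib.QDWreath.Wreathed

set_option autoImplicit false
open Cfsg

namespace Cfsg.Agent.S1197

/-- Let S be a wreathed 2-group of order 2^(2n+1). Then Z(S) is cyclic of order 2^n, the derived subgroup S' is cyclic of order 2^n, and S/Z(S) is isomorphic to the dihedral group of order 2^(n+1). -/
theorem result {S : Type*} [Group S] [Finite S] (hS : Cfsg.IsWreathed S) (n : ℕ) (hn : Nat.card S = 2 ^ (2 * n + 1)) : IsCyclic (Subgroup.center S) ∧ Nat.card (Subgroup.center S) = 2 ^ n ∧ IsCyclic (commutator S) ∧ Nat.card (commutator S) = 2 ^ n ∧ Nonempty (S ⧸ Subgroup.center S ≃* DihedralGroup (2 ^ n)) := by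
  obtain ⟨d⟩ := QDWreath.wrData_of_card hS hn
  refine ⟨?_, ?_, ?_, ?_, ?_⟩
  · rw [d.center_eq]
    exact isCyclic_of_surjective d.diagHom.rangeRestrict d.diagHom.rangeRestrict_surjective
  · rw [d.center_eq, ← Nat.card_congr (MonoidHom.ofInjective d.diagHom_injective).toEquiv,
      Nat.card_congr Multiplicative.toAdd, Nat.card_zmod]
  · rw [d.commutator_eq]
    exact isCyclic_of_surjective d.antiHom.rangeRestrict d.antiHom.rangeRestrict_surjective
  · rw [d.commutator_eq, ← Nat.card_congr (MonoidHom.ofInjective d.antiHom_injective).toEquiv,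
      Nat.card_congr Multiplicative.toAdd, Nat.card_zmod]
  · exact ⟨(QuotientGroup.quotientMulEquivOfEq d.ker_toDihedral.symm).trans
      (QuotientGroup.quotientKerEquivOfSurjective d.toDihedral d.toDihedral_surjective)⟩

end Cfsg.Agent.S1197
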