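import Cfsg.Statements.S1198
import Cfsg.Agent.Lib.QDWreath.Wreathed

set_option autoImplicit false
open Cfsg

namespace Cfsg.Agent.S1198

/-- A wreathed 2-group S has a normal Klein four-subgroup T such that every Klein four-subgroup of S other than T is conjugate in S to any other such subgroup; in particular S has exactly two conjugacy classes of Klein four-subgroups. -/
theorem result {S : Type*} [Group S] [Finite S] (hS : Cfsg.IsWreathed S) : ∃ T : Subgroup S, IsKleinFour T ∧ T.Normal ∧ (∃ T₀ : Subgroup S, IsKleinFour T₀ ∧ T₀ ≠ T) ∧ ∀ T₁ T₂ : Subgroup S, IsKleinFour T₁ → IsKleinFour T₂ → T₁ ≠ T → T₂ ≠ T → ∃ s : S, T₁.map (MulAut.conj s).toMonoidHom = T₂ := by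
  obtain ⟨n, ⟨d⟩⟩ := QDWreath.nonempty_wrData hS
  refine ⟨d.omega, d.isKleinFour_omega, d.normal_omega, ?_, fun T₁ T₂ h₁ h₂ n₁ n₂ => ?_⟩
  · -- the subgroup generated by `z` and the central involution
    let T₀ : Subgroup S :=
      { carrier := {g | ∃ e, 2 * e = 0 ∧ (g = d.a e e ∨ g = d.b e e)}
        one_mem' := ⟨0, mul_zero _, Or.inl d.a_zero.symm⟩
        mul_mem' := by
          rintro _ _ ⟨e, he, rfl | rfl⟩ ⟨f, hf, rfl | rfl⟩ <;>
            refine ⟨e + f, by rw [mul_add, he, hf, add_zero], ?_⟩ <;>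
            simp [d.a_mul_a, d.a_mul_b, d.b_mul_a, d.b_mul_b]
        inv_mem' := by
          rintro _ ⟨e, he, rfl | rfl⟩ <;>
            refine ⟨-e, by rw [mul_neg, he, neg_zero], ?_⟩ <;> simp [d.a_inv, d.b_inv] }
    have hn := d.hn
    have h0 := QDWreath.tp_ne_zero n (n - 1) (by omega)
    have hc : Nat.card T₀ = 4 := by
      rw [← SetLike.coe_sort_coe, Nat.card_coe_set_eq]
      have : (T₀ : Set S) = ({d.a 0 0, d.a (QDWreath.tp n (n - 1)) (QDWreath.tp n (n - 1)),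
          d.b 0 0, d.b (QDWreath.tp n (n - 1)) (QDWreath.tp n (n - 1))} : Set S) := by
        ext g
        show (∃ e, _) ↔ _
        simp only [QDWreath.two_mul_eq_zero d.one_le, or_and_right, exists_or,
          exists_eq_left, Set.mem_insert_iff, Set.mem_singleton_iff]
        tauto
      rw [this, Set.ncard_insert_of_notMem, Set.ncard_insert_of_notMem, Set.ncard_pair]
      · simp [d.b_inj, h0.symm]
      · simp [d.a_ne_b]
      · simp [d.a_ne_b, d.a_inj, h0.symm, -QDWreath.WrData.a_zero]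
    refine ⟨T₀, ⟨hc, ?_⟩, fun h => ?_⟩
    · have hdvd : Monoid.exponent T₀ ∣ 2 := Monoid.exponent_dvd_of_forall_pow_eq_one (fun g => by
        obtain ⟨e, he, h | h⟩ := g.2 <;>
        · ext
          rw [Subgroup.coe_pow, pow_two, h, Subgroup.coe_one]
          simp [d.a_mul_a, d.b_mul_b, ← two_mul, he])
      rcases (Nat.dvd_prime Nat.prime_two).1 hdvd with h | h
      · haveI := Monoid.exp_eq_one_iff.1 h
        rw [Nat.card_unique] at hc
        omega
      · exact h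
    · have : d.b 0 0 ∈ d.omega := h ▸ ⟨0, mul_zero _, Or.inr rfl⟩
      obtain ⟨i, j, hij, -, -⟩ := d.mem_omega.1 this
      exact d.a_ne_b _ _ _ _ hij.symm
  · obtain ⟨i₁, s₁⟩ := d.klein_shape h₁ n₁
    obtain ⟨i₂, s₂⟩ := d.klein_shape h₂ n₂
    have hb : ∀ e, d.a (i₂ - i₁) 0 * d.b (i₁ + e) (-(i₁ + e)) * (d.a (i₂ - i₁) 0)⁻¹ =
        d.b (i₂ + e) (-(i₂ + e)) := by
      intro e; rw [d.conj_a_b, d.b_inj]; exact ⟨by ring, by ring⟩
    refine ⟨d.a (i₂ - i₁) 0, Subgroup.ext fun g => ?_⟩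
    rw [Subgroup.mem_map, s₂]
    constructor
    · rintro ⟨x, hx, rfl⟩
      obtain ⟨e, he, rfl | rfl⟩ := (s₁ x).1 hx
      · exact ⟨e, he, Or.inl (d.conj_a_a _ _ _ _)⟩
      · exact ⟨e, he, Or.inr (hb e)⟩
    · rintro ⟨e, he, rfl | rfl⟩
      · exact ⟨d.a e e, (s₁ _).2 ⟨e, he, Or.inl rfl⟩, d.conj_a_a _ _ _ _⟩
      · exact ⟨_, (s₁ _).2 ⟨e, he, Or.inr rfl⟩, hb e⟩

end Cfsg.Agent.S1198
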