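import Cfsg.Statements.S1199
import Cfsg.Agent.Lib.QDWreath.Wreathed

set_option autoImplicit false
open Cfsg

namespace Cfsg.Agent.S1199

/-- A wreathed 2-group S of order 2^(2n+1) has exactly one subgroup of order 2^(n+1) isomorphic to a generalized quaternion group, and that subgroup is normal in S. -/
theorem result {S : Type*} [Group S] [Finite S] (hS : Cfsg.IsWreathed S) (n : ℕ) (hn : Nat.card S = 2 ^ (2 * n + 1)) : (∃! Y : Subgroup S, Nat.card Y = 2 ^ (n + 1) ∧ Nonempty (Y ≃* QuaternionGroup (2 ^ (n - 1)))) ∧ ∀ Y : Subgroup S, Nat.card Y = 2 ^ (n + 1) → Nonempty (Y ≃* QuaternionGroup (2 ^ (n - 1))) → Y.Normal := by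
  obtain ⟨d⟩ := QDWreath.wrData_of_card hS hn
  have hn1 := d.one_le
  have hn2 := d.hn
  set q := 2 ^ (n - 1) with hq
  have hq2 : 2 * q = 2 ^ n := by rw [hq, ← pow_succ']; congr 1; omega
  haveI : NeZero q := ⟨by positivity⟩
  set H : ZMod (2 ^ n) := QDWreath.tp n (n - 1) with hH
  let c : ZMod (2 * q) → ZMod (2 ^ n) := ZMod.castHom (dvd_of_eq hq2.symm) _
  have hcq : c (q : ZMod (2 * q)) = H := map_natCast (ZMod.castHom (dvd_of_eq hq2.symm) (ZMod (2 ^ n))) q
  have hcadd : ∀ i j, c (i + j) = c i + c j := map_add _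
  have hcsub : ∀ i j, c (i - j) = c i - c j := map_sub _
  have hcinj : Function.Injective c := by
    intro i j h
    obtain ⟨i, rfl⟩ := ZMod.natCast_zmod_surjective i
    obtain ⟨j, rfl⟩ := ZMod.natCast_zmod_surjective j
    simp only [c, map_natCast, ZMod.natCast_eq_natCast_iff] at h
    rw [ZMod.natCast_eq_natCast_iff, hq2]
    exact h
  let f : QuaternionGroup q →* S :=
    { toFun := fun g => match g with
        | .a i => d.a (c i) (- c i)
        | .xa i => d.b (- c i) (H + c i)
      map_one' := by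
        show d.a (c 0) (- c 0) = 1
        simp [c]
      map_mul' := by
        rintro (i | i) (j | j) <;>
          simp only [QuaternionGroup.a_mul_a, QuaternionGroup.a_mul_xa, QuaternionGroup.xa_mul_a,
            QuaternionGroup.xa_mul_xa, d.a_mul_a, d.a_mul_b, d.b_mul_a, d.b_mul_b, hcadd, hcsub, hcq] <;>
          congr 1 <;> first | linear_combination (QDWreath.neg_half hn1) | linear_combination -(QDWreath.neg_half hn1) | ring }
  have hf : Function.Injective f := by
    rintro (i | i) (j | j) h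
    · exact congrArg _ (hcinj (d.a_inj.1 h).1)
    · exact absurd h (d.a_ne_b _ _ _ _)
    · exact absurd h.symm (d.a_ne_b _ _ _ _)
    · exact congrArg _ (hcinj (neg_injective (d.b_inj.1 h).1))
  have hcsurj : Function.Surjective c := by
    intro i
    obtain ⟨k, rfl⟩ := ZMod.natCast_zmod_surjective i
    exact ⟨k, map_natCast _ _⟩
  have hmem : ∀ g, g ∈ f.range ↔ ∃ k, g = d.a k (-k) ∨ g = d.b k (H - k) := by
    intro g
    constructor
    · rintro ⟨i | i, rfl⟩
      · exact ⟨c i, Or.inl rfl⟩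
      · exact ⟨- c i, Or.inr (show d.b (- c i) (H + c i) = _ by rw [sub_neg_eq_add])⟩
    · rintro ⟨k, rfl | rfl⟩
      · obtain ⟨i, rfl⟩ := hcsurj k; exact ⟨.a i, rfl⟩
      · obtain ⟨i, hi⟩ := hcsurj (-k)
        exact ⟨.xa i, show d.b (- c i) (H + c i) = _ by rw [hi, neg_neg, sub_eq_add_neg]⟩
  have hiso : Nonempty (f.range ≃* QuaternionGroup q) := ⟨(MonoidHom.ofInjective hf).symm⟩
  have hcard : Nat.card f.range = 2 ^ (n + 1) := by
    rw [Nat.card_congr hiso.some.toEquiv, Nat.card_eq_fintype_card, QuaternionGroup.card,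
      pow_succ, ← hq2]
    ring
  have huniq : ∀ Y : Subgroup S, Nat.card Y = 2 ^ (n + 1) → Nonempty (Y ≃* QuaternionGroup q) →
      Y = f.range := by
    rintro Y hY ⟨e⟩
    refine (Subgroup.eq_of_le_of_card_ge ?_ (by rw [hY, hcard])).symm
    -- generators of `Y`
    obtain ⟨g, hgY, h, hhY, hg1, hgo, hgh, hh2⟩ : ∃ g ∈ Y, ∃ h ∈ Y,
        g ^ q ≠ 1 ∧ g ^ (2 * q) = 1 ∧ h * g * h⁻¹ = g⁻¹ ∧ h * h = g ^ q := by
      let φ : QuaternionGroup q →* S := Y.subtype.comp e.symm.toMonoidHom
      have hφ : Function.Injective φ := Subtype.val_injective.comp e.symm.injective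
      refine ⟨φ (.a 1), SetLike.coe_mem _, φ (.xa 0), SetLike.coe_mem _, ?_, ?_, ?_, ?_⟩
      · rw [← map_pow, QuaternionGroup.a_one_pow, ← map_one φ]
        intro h
        have h' := hφ h
        rw [QuaternionGroup.one_def, QuaternionGroup.a.injEq, ZMod.natCast_eq_zero_iff] at h'
        have := Nat.le_of_dvd (NeZero.pos q) h'
        have := NeZero.pos q
        omega
      · rw [← map_pow, QuaternionGroup.a_one_pow, ZMod.natCast_self, QuaternionGroup.a_zero, map_one]
      · rw [← map_inv, ← map_mul, ← map_mul, ← map_inv]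
        congr 1
        rw [mul_inv_eq_iff_eq_mul, eq_inv_mul_iff_mul_eq]
        simp
      · rw [← map_mul, ← map_pow, QuaternionGroup.a_one_pow, QuaternionGroup.xa_mul_xa]
        congr 2
        ring
    have hh4 : (h * h) * (h * h) = 1 := by rw [hh2, ← pow_add, ← two_mul, hgo]
    have hh1 : h * h ≠ 1 := by rwa [hh2]
    obtain ⟨u, v, hu, hv, ⟨k, l, rfl⟩, ⟨i, j, rfl⟩, hu1, huv, hv1, hv4⟩ : ∃ u v : S, u ∈ Y ∧ v ∈ Y ∧
        (∃ k l, u = d.a k l) ∧ (∃ i j, v = d.b i j) ∧ u ^ q ≠ 1 ∧ v * u * v⁻¹ = u⁻¹ ∧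
        v * v ≠ 1 ∧ (v * v) * (v * v) = 1 := by
      rcases d.cases g with hga | ⟨i, j, hgb⟩
      · rcases d.cases h with ⟨k', l', hha⟩ | hhb
        · exfalso
          obtain ⟨k, l, rfl⟩ := hga
          rw [hha, d.conj_a_a] at hgh
          have h2 : d.a k l * d.a k l = 1 := eq_inv_iff_mul_eq_one.1 hgh
          apply hg1
          rw [show q = 2 * 2 ^ (n - 2) by rw [hq, ← pow_succ']; congr 1; omega, pow_mul, pow_two, h2,
            one_pow]
        · exact ⟨g, h, hgY, hhY, hga, hhb, hg1, hgh, hh1, hh4⟩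
      · -- then `n = 2`
        have hsq : g * g = d.a (i + j) (i + j) := by rw [hgb, d.b_mul_b, add_comm j i]
        have hc := Subgroup.mem_center_iff.1 (d.mem_center.2 ⟨i + j, hsq⟩) h
        have hg4 : g * g * (g * g) = 1 := by
          have h1 : h * (g * g) * h⁻¹ = (g * g)⁻¹ := by
            calc h * (g * g) * h⁻¹ = (h * g * h⁻¹) * (h * g * h⁻¹) := by group
              _ = (g * g)⁻¹ := by rw [hgh]; group
          rw [hc, mul_inv_cancel_right] at h1
          exact eq_inv_iff_mul_eq_one.1 h1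
        have hn' : q = 2 := by
          by_contra hne
          apply hg1
          have : 3 ≤ n := by
            by_contra h3
            exact hne (by rw [hq, show n = 2 by omega]; rfl)
          rw [show q = 4 * 2 ^ (n - 3) by
            rw [hq, show (4 : ℕ) = 2 ^ 2 from rfl, ← pow_add]; congr 1; omega, pow_mul,
            show g ^ 4 = g * g * (g * g) by simp [pow_succ, mul_assoc], hg4, one_pow]
        rw [hn', pow_two] at hh2 hg1
        have hswap : g * h * g⁻¹ = h⁻¹ := by
          have e1 : g * h * g = h := by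
            calc g * h * g = g * (h * g * h⁻¹) * h := by group
              _ = h := by rw [hgh]; group
          calc g * h * g⁻¹ = g * h * g * (g * g)⁻¹ := by group
            _ = h⁻¹ := by rw [e1, ← hh2]; group
        rcases d.cases h with hha | ⟨k, l, hhb⟩
        · exact ⟨h, g, hhY, hgY, hha, ⟨i, j, hgb⟩, by rw [hn', pow_two]; exact hh1, hswap, hg1, hg4⟩
        · refine ⟨g * h, g, Y.mul_mem hgY hhY, hgY, ⟨_, _, by rw [hgb, hhb, d.b_mul_b]⟩, ⟨i, j, hgb⟩,
            ?_, ?_, hg1, hg4⟩
          · rw [hn', pow_two]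
            have e1 : g * h * (g * h) = h * h := by
              calc g * h * (g * h) = g * (h * g * h⁻¹) * (h * h) := by group
                _ = h * h := by rw [hgh]; group
            rwa [e1]
          · calc g * (g * h) * g⁻¹ = g * (g * h * g⁻¹) := by group
              _ = g * h⁻¹ := by rw [hswap]
              _ = g * (h * h * (h * h)) * h⁻¹ := by rw [hh4, mul_one]
              _ = g * (g * g) * h := by rw [← hh2]; group
              _ = g * (g * g) * (g * h * g⁻¹)⁻¹ := by rw [hswap, inv_inv]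
              _ = g * g * g * g * (g * h)⁻¹ * 1 := by rw [mul_one]; group
              _ = (g * h)⁻¹ := by
                  rw [mul_one, show g * g * g * g = g * g * (g * g) by group, hg4, one_mul]
    rw [d.conj_b_a, d.a_inv, d.a_inj] at huv
    have hs : i + j = H := by
      rw [d.b_mul_b, add_comm j i] at hv1 hv4
      rw [d.a_mul_a, ← two_mul, ← d.a_zero, d.a_inj] at hv4
      exact ((QDWreath.two_mul_eq_zero hn1).1 hv4.1).resolve_left
        (fun h0 => hv1 (by rw [h0, d.a_zero]))
    have hlk : l = -k := huv.1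
    have hpow : ∀ m : ℕ, d.a k l ^ m = d.a (m * k) (-(m * k)) := by
      intro m
      induction m with
      | zero => simp
      | succ m ih => rw [pow_succ, ih, d.a_mul_a, d.a_inj, hlk]; push_cast; exact ⟨by ring, by ring⟩
    obtain ⟨w, rfl | rfl⟩ := QDWreath.even_or_odd k
    · exfalso
      apply hu1
      rw [hpow, ← d.a_zero, d.a_inj]
      have : (q : ZMod (2 ^ n)) * (2 * w) = 0 := by
        have h0 : ((2 * q : ℕ) : ZMod (2 ^ n)) = 0 := by rw [hq2]; exact ZMod.natCast_self _
        push_cast at h0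
        linear_combination w * h0
      exact ⟨this, by rw [this, neg_zero]⟩
    obtain ⟨U, hU⟩ := QDWreath.isUnit_odd w
    have hall : ∀ t, d.a t (-t) ∈ Y := by
      intro t
      have := Y.pow_mem hu (t * ((U⁻¹ : (ZMod (2 ^ n))ˣ) : ZMod (2 ^ n))).val
      rw [hpow, ZMod.natCast_zmod_val, ← hU, mul_assoc, Units.inv_mul, mul_one] at this
      exact this
    intro x hx
    obtain ⟨t, rfl | rfl⟩ := (hmem x).1 hx
    · exact hall t
    · have := Y.mul_mem (hall (t - i)) hv
      rw [d.a_mul_b] at this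
      convert this using 2 <;> [skip; linear_combination -hs]
      ring
  exact ⟨⟨f.range, ⟨hcard, hiso⟩, fun Y hY => huniq Y hY.1 hY.2⟩, fun Y hY hY' => by
    rw [huniq Y hY hY']
    refine ⟨fun g hg w => (hmem _).2 ?_⟩
    obtain ⟨k, rfl | rfl⟩ := (hmem g).1 hg <;> rcases d.cases w with ⟨u, v, rfl⟩ | ⟨u, v, rfl⟩
    · exact ⟨k, Or.inl (d.conj_a_a _ _ _ _)⟩
    · exact ⟨-k, Or.inl (by rw [d.conj_b_a, neg_neg])⟩
    · exact ⟨k + (u - v), Or.inr (by rw [d.conj_a_b, d.b_inj]; exact ⟨rfl, by ring⟩)⟩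
    · exact ⟨u + (H - k) - v, Or.inr (by rw [d.b_mul_b, d.b_inv, d.a_mul_b, d.b_inj]; exact ⟨by ring, by ring⟩)⟩⟩

end Cfsg.Agent.S1199
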