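import Cfsg.Statements.S1200
import Cfsg.Agent.Lib.QDWreath.Wreathed

set_option autoImplicit false
open Cfsg

namespace Cfsg.Agent.S1200

/-- Let S be a wreathed 2-group of order 2^(2n+1) and Ω the subgroup generated by its involutions. Then Ω has order 2^(n+2) and S/Ω is cyclic: some s ∈ S together with Ω generates S. -/
theorem result {S : Type*} [Group S] [Finite S] (hS : Cfsg.IsWreathed S) (n : ℕ) (hn : Nat.card S = 2 ^ (2 * n + 1)) : Nat.card (Subgroup.closure {x : S | orderOf x = 2}) = 2 ^ (n + 2) ∧ ∃ s : S, Subgroup.closure {x : S | orderOf x = 2} ⊔ Subgroup.zpowers s = ⊤ := by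
  obtain ⟨d⟩ := QDWreath.wrData_of_card hS hn
  have hn1 := d.one_le
  have h0 : QDWreath.tp n (n - 1) ≠ 0 := QDWreath.tp_ne_zero n (n - 1) (by omega)
  let M : Subgroup S :=
    { carrier := {g | ∃ i e, 2 * e = 0 ∧ (g = d.a i (e - i) ∨ g = d.b i (e - i))}
      one_mem' := ⟨0, 0, mul_zero _, Or.inl (by rw [sub_zero, d.a_zero])⟩
      mul_mem' := by
        rintro _ _ ⟨i, e, he, rfl | rfl⟩ ⟨k, f, hf, rfl | rfl⟩
        · exact ⟨i + k, e + f, by rw [mul_add, he, hf, add_zero],
            Or.inl (by rw [d.a_mul_a]; congr 1; ring)⟩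
        · exact ⟨i + k, e + f, by rw [mul_add, he, hf, add_zero],
            Or.inr (by rw [d.a_mul_b]; congr 1; ring)⟩
        · exact ⟨i + (f - k), e + f, by rw [mul_add, he, hf, add_zero],
            Or.inr (by rw [d.b_mul_a]; congr 1; ring)⟩
        · exact ⟨i + (f - k), e + f, by rw [mul_add, he, hf, add_zero],
            Or.inl (by rw [d.b_mul_b]; congr 1; ring)⟩
      inv_mem' := by
        rintro _ ⟨i, e, he, rfl | rfl⟩
        · exact ⟨-i, -e, by rw [mul_neg, he, neg_zero], Or.inl (by rw [d.a_inv]; congr 1; ring)⟩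
        · exact ⟨-(e - i), -e, by rw [mul_neg, he, neg_zero],
            Or.inr (by rw [d.b_inv]; congr 1; ring)⟩ }
  have hb : ∀ i, d.b i (-i) ∈ Subgroup.closure {x : S | orderOf x = 2} := fun i =>
    Subgroup.subset_closure
      (QDWreath.WrData.orderOf_eq_two.2 ⟨d.sq_eq_one.2 (Or.inr ⟨i, rfl⟩), d.b_ne_one _ _⟩)
  have hanti : ∀ i, d.a i (-i) ∈ Subgroup.closure {x : S | orderOf x = 2} := fun i => by
    have := Subgroup.mul_mem _ (hb i) (hb 0)
    simpa [d.b_mul_b] using this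
  have hM : Subgroup.closure {x : S | orderOf x = 2} = M := by
    apply le_antisymm
    · rw [Subgroup.closure_le]
      intro g hg
      rcases d.sq_eq_one.1 (QDWreath.WrData.orderOf_eq_two.1 hg).1 with ⟨i, j, rfl, hi, hj⟩ | ⟨i, rfl⟩
      · exact ⟨i, i + j, by rw [mul_add, (QDWreath.two_mul_eq_zero hn1).2 hi,
          (QDWreath.two_mul_eq_zero hn1).2 hj, add_zero], Or.inl (by congr 1; ring)⟩
      · exact ⟨i, 0, mul_zero _, Or.inr (by rw [zero_sub])⟩
    · have he : ∀ e, 2 * e = 0 → d.a 0 e ∈ Subgroup.closure {x : S | orderOf x = 2} := by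
        intro e he
        rcases (QDWreath.two_mul_eq_zero hn1).1 he with rfl | rfl
        · rw [d.a_zero]; exact one_mem _
        · exact Subgroup.subset_closure (QDWreath.WrData.orderOf_eq_two.2
            ⟨d.sq_eq_one.2 (Or.inl ⟨_, _, rfl, Or.inl rfl, Or.inr rfl⟩),
              fun h => h0 (d.a_inj.1 (h.trans d.a_zero.symm)).2⟩)
      rintro _ ⟨i, e, h2, rfl | rfl⟩
      · have := Subgroup.mul_mem _ (hanti i) (he e h2)
        rwa [d.a_mul_a, add_zero, neg_add_eq_sub] at this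
      · have := Subgroup.mul_mem _ (Subgroup.mul_mem _ (hanti i) (he e h2)) (hb 0)
        rwa [d.a_mul_a, d.a_mul_b, add_zero, add_zero, neg_zero, add_zero, neg_add_eq_sub] at this
  refine ⟨?_, d.a 1 0, ?_⟩
  · rw [hM, ← SetLike.coe_sort_coe, Nat.card_coe_set_eq]
    have : (M : Set S) = (fun p : ZMod (2 ^ n) × ZMod (2 ^ n) × Bool =>
        if p.2.2 then d.a p.1 (p.2.1 - p.1) else d.b p.1 (p.2.1 - p.1)) ''
        (Set.univ ×ˢ (({0, QDWreath.tp n (n - 1)} : Set (ZMod (2 ^ n))) ×ˢ (Set.univ : Set Bool))) := by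
      ext g
      constructor
      · rintro ⟨i, e, he, rfl | rfl⟩
        · exact ⟨(i, e, true), ⟨trivial, (QDWreath.two_mul_eq_zero hn1).1 he, trivial⟩, by simp⟩
        · exact ⟨(i, e, false), ⟨trivial, (QDWreath.two_mul_eq_zero hn1).1 he, trivial⟩, by simp⟩
      · rintro ⟨⟨i, e, _ | _⟩, ⟨-, he, -⟩, rfl⟩
        · exact ⟨i, e, (QDWreath.two_mul_eq_zero hn1).2 he, Or.inr rfl⟩
        · exact ⟨i, e, (QDWreath.two_mul_eq_zero hn1).2 he, Or.inl rfl⟩
    rw [this, Set.ncard_image_of_injective, Set.ncard_prod, Set.ncard_prod, Set.ncard_univ,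
      Set.ncard_univ, Set.ncard_pair h0.symm, Nat.card_zmod, Nat.card_eq_fintype_card,
      Fintype.card_bool, pow_add]
    · norm_num
    · rintro ⟨i, e, _ | _⟩ ⟨k, f, _ | _⟩ h <;>
        simp only [Bool.false_eq_true, if_false, if_true] at h
      · obtain ⟨rfl, h'⟩ := d.b_inj.1 h
        rw [sub_left_inj] at h'; rw [h']
      · exact absurd h.symm (d.a_ne_b _ _ _ _)
      · exact absurd h (d.a_ne_b _ _ _ _)
      · obtain ⟨rfl, h'⟩ := d.a_inj.1 h
        rw [sub_left_inj] at h'; rw [h']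
  · rw [eq_top_iff]
    intro g _
    have hx : ∀ i, d.a i 0 ∈ Subgroup.closure {x : S | orderOf x = 2} ⊔ Subgroup.zpowers (d.a 1 0) := by
      intro i
      refine Subgroup.mem_sup_right ?_
      obtain ⟨k, rfl⟩ := ZMod.natCast_zmod_surjective i
      have : d.a (k : ZMod (2 ^ n)) 0 = d.a 1 0 ^ k := by
        induction k with
        | zero => simp
        | succ k ih => rw [pow_succ, ← ih, d.a_mul_a]; push_cast; simp
      rw [this]; exact pow_mem (Subgroup.mem_zpowers _) _
    rcases d.cases g with ⟨i, j, rfl⟩ | ⟨i, j, rfl⟩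
    · have := Subgroup.mul_mem _ (Subgroup.mem_sup_left (hanti (-j))) (hx (i + j))
      simpa [d.a_mul_a] using this
    · have := Subgroup.mul_mem _ (Subgroup.mul_mem _ (Subgroup.mem_sup_left (hanti (-j)))
        (hx (i + j))) (Subgroup.mem_sup_left (hb 0))
      simpa [d.a_mul_a, d.a_mul_b] using this

end Cfsg.Agent.S1200
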