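import Cfsg.Statements.S1201
import Cfsg.Agent.Lib.QDWreath.Wreathed

set_option autoImplicit false
open Cfsg

namespace Cfsg.Agent.S1201

/-- If X is a non-commutative subgroup of a wreathed 2-group S, then Z(X) ≤ Z(S). -/
theorem result {S : Type*} [Group S] [Finite S] (hS : Cfsg.IsWreathed S) (X : Subgroup S) (hX : ¬ IsMulCommutative X) : (Subgroup.center X).map X.subtype ≤ Subgroup.center S := by
  obtain ⟨n, ⟨d⟩⟩ := QDWreath.nonempty_wrData hS
  rintro g ⟨⟨c, hc⟩, hcen, rfl⟩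
  rw [SetLike.mem_coe, Subgroup.mem_center_iff] at hcen
  rw [d.mem_center]
  have hcomm : ∀ h ∈ X, h * c = c * h := fun h hh =>
    congrArg Subtype.val (hcen ⟨h, hh⟩)
  rcases d.cases c with ⟨i, j, rfl⟩ | ⟨i, j, rfl⟩
  · by_cases hb : ∃ k l, d.b k l ∈ X
    · obtain ⟨k, l, hkl⟩ := hb
      have h := hcomm _ hkl
      rw [d.b_mul_a, d.a_mul_b, d.b_inj] at h
      exact ⟨i, show d.a i j = d.a i i by rw [show j = i by linear_combination h.1]⟩
    · refine absurd ⟨⟨fun p q => ?_⟩⟩ hX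
      ext
      rcases d.cases (p : S) with ⟨k, l, hp⟩ | ⟨k, l, hp⟩
      · rcases d.cases (q : S) with ⟨k', l', hq⟩ | ⟨k', l', hq⟩
        · rw [Subgroup.coe_mul, Subgroup.coe_mul, hp, hq, d.a_mul_a, d.a_mul_a, add_comm k, add_comm l]
        · exact absurd ⟨k', l', hq ▸ q.2⟩ hb
      · exact absurd ⟨k, l, hp ▸ p.2⟩ hb
  · refine absurd ⟨⟨fun p q => ?_⟩⟩ hX
    have key : ∀ h ∈ X, ∃ k, h = d.a k k ∨ h = d.a k k * d.b i j := by
      intro h hh
      rcases d.cases h with ⟨k, l, rfl⟩ | ⟨k, l, rfl⟩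
      · have e := hcomm _ hh
        rw [d.a_mul_b, d.b_mul_a, d.b_inj] at e
        exact ⟨k, Or.inl (by rw [show l = k by linear_combination e.2])⟩
      · have e := hcomm _ hh
        rw [d.b_mul_b, d.b_mul_b, d.a_inj] at e
        exact ⟨k - i, Or.inr (by rw [d.a_mul_b, d.b_inj]; exact ⟨by ring, by linear_combination e.2⟩)⟩
    have hz : ∀ k x, d.a k k * x = x * d.a k k := fun k x =>
      (Subgroup.mem_center_iff.1 (d.mem_center.2 ⟨k, rfl⟩) x).symm
    ext
    rw [Subgroup.coe_mul, Subgroup.coe_mul]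
    obtain ⟨k, hp | hp⟩ := key _ p.2 <;> obtain ⟨k', hq | hq⟩ := key _ q.2 <;> rw [hp, hq]
    · exact hz k _
    · exact hz k _
    · exact (hz k' _).symm
    · calc d.a k k * d.b i j * (d.a k' k' * d.b i j)
          = d.a k k * (d.b i j * d.a k' k') * d.b i j := by group
        _ = d.a k k * (d.a k' k' * d.b i j) * d.b i j := by rw [hz k' (d.b i j)]
        _ = (d.a k k * d.a k' k') * (d.b i j * d.b i j) := by group
        _ = (d.a k' k' * d.a k k) * (d.b i j * d.b i j) := by rw [hz k]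
        _ = d.a k' k' * (d.a k k * d.b i j) * d.b i j := by group
        _ = d.a k' k' * (d.b i j * d.a k k) * d.b i j := by rw [hz k (d.b i j)]
        _ = d.a k' k' * d.b i j * (d.a k k * d.b i j) := by group

end Cfsg.Agent.S1201
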