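import Cfsg.Statements.S1202
import Cfsg.Agent.Lib.Transfer.WreathedStructure

set_option autoImplicit false
open Cfsg

namespace Cfsg.Agent.S1202

/-- Let S be a wreathed 2-group of order 2^(2n+1) and X a subgroup with C_S(X) ≤ X such that Aut(X) is not a 2-group. Then |N_S(X) : X| = 2, and either X is the commutative subgroup of order 2^(2n), or X = Q·Z(S) for some subgroup Q ≅ Q₈; in the latter case any two such subgroups are conjugate in S. -/
theorem result {S : Type*} [Group S] [Finite S] (hS : Cfsg.IsWreathed S) (n : ℕ) (hn : Nat.card S = 2 ^ (2 * n + 1)) (X : Subgroup S) (hC : Subgroup.centralizer (X : Set S) ≤ X) (hA : ¬ IsPGroup 2 (MulAut X)) : X.relIndex (Subgroup.normalizer (X : Set S)) = 2 ∧ ((IsMulCommutative X ∧ Nat.card X = 2 ^ (2 * n)) ∨ ∃ Q : Subgroup S, Nonempty (Q ≃* QuaternionGroup 2) ∧ X = Q ⊔ Subgroup.center S) ∧ ∀ X' : Subgroup S, Subgroup.centralizer (X' : Set S) ≤ X' → ¬ IsPGroup 2 (MulAut X') → ¬ IsMulCommutative X → ¬ IsMulCommutative X'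 → ∃ s : S, X.map (MulAut.conj s).toMonoidHom = X' := by
  obtain ⟨d⟩ := QDWreath.wrData_of_card hS hn
  have hcases : ∀ Y : Subgroup S, Subgroup.centralizer (Y : Set S) ≤ Y → ¬ IsPGroup 2 (MulAut Y) →
      Y = d.base ∨ ∃ c, Y = Transfer.WR.kpre d (2 * c) := fun Y h1 h2 =>
    (Transfer.WR.centric_cases d h1).resolve_left h2
  have hbase : IsMulCommutative d.base :=
    ⟨⟨fun x y => Subtype.ext (Transfer.WR.base_comm d x.2 y.2)⟩⟩
  refine ⟨?_, ?_, fun X' hC' hA' hX hX' => ?_⟩
  · rcases hcases X hC hA with rfl | ⟨c, rfl⟩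
    · have := Subgroup.normal_of_index_eq_two (Transfer.WR.base_index d)
      rw [Subgroup.normalizer_eq_top, Subgroup.relIndex_top_right, Transfer.WR.base_index d]
    · exact Transfer.WR.relIndex_normalizer_kpre d c
  · rcases hcases X hC hA with rfl | ⟨c, rfl⟩
    · exact Or.inl ⟨hbase, d.card_base⟩
    · obtain ⟨Q, hQ, he⟩ := Transfer.WR.exists_quaternion_kpre d c
      exact Or.inr ⟨Q, hQ, he.symm⟩
  · rcases hcases X hC hA with rfl | ⟨c, rfl⟩
    · exact absurd hbase hX
    rcases hcases X' hC' hA' with rfl | ⟨c', rfl⟩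
    · exact absurd hbase hX'
    exact Transfer.WR.exists_kpre_conj d c c'

end Cfsg.Agent.S1202
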