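import Cfsg.Statements.S1203
import Cfsg.Agent.Lib.QDWreath.LocalSylow

set_option autoImplicit false
open Cfsg Cfsg.Agent Cfsg.Agent.QDWreath Subgroup

namespace Cfsg.Agent.S1203

/-- Let G be a finite group with quasi-dihedral Sylow 2-subgroup S, T a Klein four-subgroup of S and Q a quaternion subgroup of order 8 of S. Then |N_G(T) : C_G(T)| ∈ {2, 6} and |N_G(Q) : Q C_G(Q)| ∈ {2, 6}. -/
theorem result {G : Type*} [Group G] [Finite G] (S : Sylow 2 G) (hS : Cfsg.IsQuasiDihedral (S : Subgroup G)) (T : Subgroup G) (hT : IsKleinFour T) (hTS : T ≤ S) (Q : Subgroup G) (hQS : Q ≤ S) (eQ : Q ≃* QuaternionGroup 2) : ((Subgroup.centralizer (T : Set G)).relIndex (Subgroup.normalizer (T : Set G)) = 2 ∨ (Subgroup.centralizer (T : Set G)).relIndex (Subgroup.normalizer (T : Set G)) = 6) ∧ ((Q ⊔ Subgroup.centralizer (Q : Set G)).relIndex (Subgroup.normalizer (Q : Set G)) = 2 ∨ (Q ⊔ Subgroup.centralizer (Q : Set G)).relIndex (Subgroup.normalizer (Q : Set G)) = 6) := by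
  obtain ⟨n, ⟨d⟩⟩ := nonempty_qdData hS
  have hTcard : Nat.card T = 4 := hT.card_four
  have hQcard : Nat.card Q = 8 := q8_card eQ
  have hS2 : ∀ x ∈ (S : Subgroup G), ∃ k, x ^ 2 ^ k = 1 := fun x hx => by
    obtain ⟨k, hk⟩ := S.isPGroup' ⟨x, hx⟩
    exact ⟨k, by simpa using congrArg Subtype.val hk⟩
  refine ⟨?_, ?_⟩
  · -- the four-group
    have hK : ∀ T' : Subgroup (S : Subgroup G), (T' ≃* T) → IsKleinFour T' := fun T' e =>
      ⟨by rw [Nat.card_congr e.toEquiv, hTcard],
        by rw [Monoid.exponent_eq_of_mulEquiv e, hT.exponent_two]⟩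
    obtain ⟨hrel, hcen⟩ := d.klein_local (hK _ (subgroupOfEquivOfLe hTS))
    obtain ⟨g, hgN, hgT⟩ := exists_normalizer_not_mem hrel
    refine relIndex_eq_two_or_six (Q := T) hTcard T.normalizerMonoidHom
      (centralizer_le_normalizer _) (normalizer_le_normalizer_centralizer T) ?_
      (S.isPGroup'.to_le hTS) ?_ (g := (g : G)) (mem_normalizer_of_subgroupOf hTS hgN) ?_
      (hS2 _ g.2) ?_
    · intro x hx
      rw [mem_centralizer_iff]
      intro y hy
      haveI := hT
      exact congrArg Subtype.val (IsKleinFour.isMulCommutative.is_comm.comm (⟨y, hy⟩ : T) ⟨x, hx⟩)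
    · intro x hx _
      have : x ∈ T.normalizerMonoidHom.ker := hx
      rwa [normalizerMonoidHom_ker, mem_subgroupOf] at this
    · intro hg
      exact hgT (hcen g fun x hx => Subtype.ext (mem_centralizer_iff.1 hg _ hx))
    · intro P hP hTP hPN
      refine card_le_of_sylow S hP hTP hPN fun c T' hT' => ?_
      have e : T' ≃* T := (equivMapOfInjective T' _ (subtype_injective _)).trans
        ((MulEquiv.subgroupCongr hT').trans
          (equivMapOfInjective T _ (MulAut.conj c).injective).symm)
      rw [card_normalizer_of_relIndex_two (d.klein_local (hK T' e)).1, Nat.card_congr e.toEquiv]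
  · -- the quaternion group
    have eQ' := (subgroupOfEquivOfLe hQS).trans eQ
    obtain ⟨hrel, hcen⟩ := d.quaternion_local eQ'
    obtain ⟨g, hgN, hgQ⟩ := exists_normalizer_not_mem hrel
    refine relIndex_eq_two_or_six (Q := Q) (q8_card_quot eQ)
      ((autCenterQuot Q).comp Q.normalizerMonoidHom) (sup_le le_normalizer (centralizer_le_normalizer _))
      (normalizer_le_normalizer_sup_of_normalizer_le_left (normalizer_le_normalizer_centralizer Q))
      le_sup_left (S.isPGroup'.to_le hQS) ?_ (g := (g : G)) (mem_normalizer_of_subgroupOf hQS hgN) ?_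
      (hS2 _ g.2) ?_
    · intro x hx hodd
      exact mem_sup_right (q8_centralizes eQ hx hodd)
    · intro hg
      obtain ⟨q, hq, c, hc, he⟩ := mem_sup_centralizer hg
      have hcS : c ∈ (S : Subgroup G) := by
        have := mul_mem (inv_mem (hQS hq)) g.2
        rwa [he, inv_mul_cancel_left] at this
      apply hgQ
      have hcQ : (⟨c, hcS⟩ : (S : Subgroup G)) ∈ Q.subgroupOf (S : Subgroup G) :=
        hcen _ fun x hx => Subtype.ext (mem_centralizer_iff.1 hc _ hx)
      rw [mem_subgroupOf, he]
      exact mul_mem hq hcQ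
    · intro P hP hQP hPN
      refine card_le_of_sylow S hP hQP hPN fun c Q' hQ' => ?_
      have e : Q' ≃* Q := (equivMapOfInjective Q' _ (subtype_injective _)).trans
        ((MulEquiv.subgroupCongr hQ').trans
          (equivMapOfInjective Q _ (MulAut.conj c).injective).symm)
      rw [card_normalizer_of_relIndex_two (d.quaternion_local (e.trans eQ)).1,
        Nat.card_congr e.toEquiv]

end Cfsg.Agent.S1203
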