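import Cfsg.Statements.S1204
import Cfsg.Agent.Lib.Transfer.SemidihedralFusion

set_option autoImplicit false
open Cfsg
open Cfsg.Agent.Transfer Cfsg.Agent.QDWreath

namespace Cfsg.Agent.S1204

/-- Let G be a finite group with quasi-dihedral Sylow 2-subgroup S, T a Klein four-subgroup and Q a quaternion subgroup of order 8 of S, with |N_G(T) : C_G(T)| = 6 and |N_G(Q) : Q C_G(Q)| = 6. Then G has no subgroup of index 2, exactly one conjugacy class of involutions and exactly one conjugacy class of elements of order 4. -/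
theorem result {G : Type*} [Group G] [Finite G] (S : Sylow 2 G) (hS : Cfsg.IsQuasiDihedral (S : Subgroup G)) (T : Subgroup G) (hT : IsKleinFour T) (hTS : T ≤ S) (Q : Subgroup G) (hQS : Q ≤ S) (eQ : Q ≃* QuaternionGroup 2) (h₁ : (Subgroup.centralizer (T : Set G)).relIndex (Subgroup.normalizer (T : Set G)) = 6) (h₂ : (Q ⊔ Subgroup.centralizer (Q : Set G)).relIndex (Subgroup.normalizer (Q : Set G)) = 6) : (∀ H : Subgroup G, H.index ≠ 2) ∧ Nat.card {C : ConjClasses G // ∃ t : G, orderOf t = 2 ∧ ConjClasses.mk t = C} = 1 ∧ Nat.card {C : ConjClasses G // ∃ t : G, orderOf t = 4 ∧ ConjClasses.mk t = C} = 1 := by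
  haveI := Fact.mk Nat.prime_two
  obtain ⟨n, ⟨d⟩⟩ := nonempty_qdData hS
  obtain ⟨y, hy, hyc, hyn⟩ := SD.klein_odd hT h₁
  obtain ⟨w, hw, hwc, hwn⟩ := SD.quaternion_odd h₂
  have htop : pResidual 2 G = ⊤ := by
    rw [← sylow_sup_eq_top S, eq_comm, sup_eq_right]
    have hd := SD.dih_le_residual d hT hTS hy hyc hyn
    have hq := SD.quat_le_residual d eQ hQS hw hwc hwn
    refine Subgroup.subgroupOf_eq_top.mp (d.isCoatom_dih.2 _ (lt_of_le_not_ge hd fun h => ?_))
    exact SD.b_odd_notMem_dih d 0 (h (hq (d.mem_quat.2 ⟨0, Or.inr rfl⟩)))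
  refine ⟨fun H hH => exists_index_two_iff.mp ⟨H, hH⟩ htop, ?_, ?_⟩
  · refine card_classes_eq_one ((Subgroup.orderOf_coe _).trans d.orderOf_a_half) fun t ht => ?_
    rcases SD.conj_two_cases d ht with h | h
    · exact h
    · exact h.trans (SD.isConj_half_b d hT hTS hy hyc hyn).symm
  · refine card_classes_eq_one ((Subgroup.orderOf_coe _).trans (SD.orderOf_a_quarter d)) fun t ht => ?_
    rcases SD.conj_four_cases d ht with h | h
    · exact h
    · exact h.trans (SD.isConj_quarter_b d eQ hQS hw hwc hwn).symm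

end Cfsg.Agent.S1204
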