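import Cfsg.Statements.S1205
import Cfsg.Agent.Lib.Transfer.SemidihedralFusion

set_option autoImplicit false
open Cfsg
open Cfsg.Agent.Transfer Cfsg.Agent.QDWreath

namespace Cfsg.Agent.S1205

/-- Let G be a finite group with quasi-dihedral Sylow 2-subgroup S, T a Klein four-subgroup and Q a quaternion subgroup of order 8 of S, with |N_G(T) : C_G(T)| = 2 and |N_G(Q) : Q C_G(Q)| = 6. Then G has a normal subgroup K of index 2 whose Sylow 2-subgroups are generalized quaternion and which has no subgroup of index 2; the centre of S is weakly closed in S; and G has exactly two classes of involutions and one class of elements of order 4. -/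
theorem result {G : Type*} [Group G] [Finite G] (S : Sylow 2 G) (hS : Cfsg.IsQuasiDihedral (S : Subgroup G)) (T : Subgroup G) (hT : IsKleinFour T) (hTS : T ≤ S) (Q : Subgroup G) (hQS : Q ≤ S) (eQ : Q ≃* QuaternionGroup 2) (h₁ : (Subgroup.centralizer (T : Set G)).relIndex (Subgroup.normalizer (T : Set G)) = 2) (h₂ : (Q ⊔ Subgroup.centralizer (Q : Set G)).relIndex (Subgroup.normalizer (Q : Set G)) = 6) : (∃ K : Subgroup G, K.Normal ∧ K.index = 2 ∧ (∀ P : Sylow 2 ↥K, ∃ m : ℕ, 1 ≤ m ∧ Nonempty ((P : Subgroup ↥K) ≃* QuaternionGroup (2 ^ m))) ∧ (∀ H : Subgroup ↥K, H.index ≠ 2)) ∧ Cfsg.IsWeaklyClosed ((Subgroup.center (S : Subgroup G)).map (S : Subgroup G).subtype) (S : Subgroup G) ∧ Nat.card {C : ConjClasses G // ∃ t : G, orderOf t = 2 ∧ ConjClasses.mk t = C} = 2 ∧ Nat.card {C : ConjClasses G // ∃ t : G, orderOf t = 4 ∧ ConjClasses.mk t = C} = 1 := by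
  haveI := Fact.mk Nat.prime_two
  obtain ⟨n, ⟨d⟩⟩ := nonempty_qdData hS
  obtain ⟨w, hw, hwc, hwn⟩ := SD.quaternion_odd h₂
  set χ := indexTwoHom d.quat (SD.index_quat d)
  have hker : χ.ker = d.quat := indexTwoHom_ker _ _
  have hinv : ∀ R, IsFullyNormalized 2 (S : Subgroup G) R →
      Agrees (S : Subgroup G) R ∨ R.subgroupOf (S : Subgroup G) ≤ χ.ker := by
    intro R hR
    rcases SD.qd_agrees_or d hR with h | h | ⟨⟨e⟩⟩
    · exact Or.inl h
    · exact Or.inl (SD.agrees_klein d hT hTS (SD.klein_no_odd hT h₁) hR h)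
    · refine Or.inr (hker ▸ SD.quaternion_le_quat d ?_)
      exact (Subgroup.subgroupOfEquivOfLe hR.1).trans e
  have key := fusion_invariant S χ hinv
  have hne : ∀ k, ¬ IsConj (d.a (tp n (n - 1)) : G) (d.b (2 * k) : G) := by
    refine fun k => SD.not_isConj_of_invariant χ key fun h => SD.b_even_notMem_quat d k ?_
    rw [← hker, MonoidHom.mem_ker, ← h, ← MonoidHom.mem_ker, hker]
    exact SD.a_half_mem_quat d
  obtain ⟨hidx, hres, hsyl⟩ := SD.residual_of_maximal d.isCoatom_quat (SD.index_quat d)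
    (SD.quat_le_residual d eQ hQS hw hwc hwn) (hker ▸ commutator_le_ker_of_invariant S χ key)
  refine ⟨⟨pResidual 2 G, pResidual_normal, hidx, fun P => ?_, hres⟩, ⟨Subgroup.map_subtype_le _, ?_⟩, ?_, ?_⟩
  · obtain ⟨e⟩ := hsyl P
    obtain ⟨e'⟩ := d.nonempty_quat_equiv
    exact ⟨n - 2, by have := d.hn; omega, ⟨e.trans e'⟩⟩
  · intro g hg
    set z := d.a (tp n (n - 1))
    have hzC : z ∈ Subgroup.center (S : Subgroup G) := d.mem_center.2 (Or.inr rfl)
    have hgz : g * (z : G) * g⁻¹ ∈ (S : Subgroup G) := hg ⟨z, ⟨z, hzC, rfl⟩, rfl⟩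
    have hfix : g * (z : G) * g⁻¹ = z := by
      have h2 : orderOf (⟨_, hgz⟩ : (S : Subgroup G)) = 2 := by
        rw [Subgroup.orderOf_mk, ← MulAut.conj_apply, MulEquiv.orderOf_eq, Subgroup.orderOf_coe]
        exact d.orderOf_a_half
      rcases d.orderOf_eq_two_cases h2 with e | ⟨k, e⟩
      · exact congrArg Subtype.val e
      · exact absurd (isConj_iff.mpr ⟨g, congrArg Subtype.val e⟩) (hne k)
    ext x
    constructor
    · rintro ⟨_, ⟨c, hc, rfl⟩, rfl⟩
      refine ⟨c, hc, ?_⟩
      rcases d.mem_center.1 hc with rfl | rfl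
      · simp
      · exact hfix.symm
    · rintro ⟨c, hc, rfl⟩
      refine ⟨_, ⟨c, hc, rfl⟩, ?_⟩
      rcases d.mem_center.1 hc with rfl | rfl
      · simp
      · exact hfix
  · exact card_classes_eq_two ((Subgroup.orderOf_coe _).trans d.orderOf_a_half)
      ((Subgroup.orderOf_coe _).trans (by simpa using d.orderOf_b_even 0)) (by simpa using hne 0)
      fun t ht => SD.conj_two_cases d ht
  · refine card_classes_eq_one ((Subgroup.orderOf_coe _).trans (SD.orderOf_a_quarter d)) fun t ht => ?_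
    rcases SD.conj_four_cases d ht with h | h
    · exact h
    · exact h.trans (SD.isConj_quarter_b d eQ hQS hw hwc hwn).symm

end Cfsg.Agent.S1205
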