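import Cfsg.Statements.S1206
import Cfsg.Agent.Lib.Transfer.SemidihedralFusion

set_option autoImplicit false
open Cfsg
open Cfsg.Agent.Transfer Cfsg.Agent.QDWreath

namespace Cfsg.Agent.S1206

/-- Let G be a finite group with quasi-dihedral Sylow 2-subgroup S, T a Klein four-subgroup and Q a quaternion subgroup of order 8 of S, with |N_G(T) : C_G(T)| = 6 and |N_G(Q) : Q C_G(Q)| = 2. Then G has a normal subgroup K of index 2 whose Sylow 2-subgroups are dihedral and which has no subgroup of index 2, and G has exactly one class of involutions and two classes of elements of order 4. -/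
theorem result {G : Type*} [Group G] [Finite G] (S : Sylow 2 G) (hS : Cfsg.IsQuasiDihedral (S : Subgroup G)) (T : Subgroup G) (hT : IsKleinFour T) (hTS : T ≤ S) (Q : Subgroup G) (hQS : Q ≤ S) (eQ : Q ≃* QuaternionGroup 2) (h₁ : (Subgroup.centralizer (T : Set G)).relIndex (Subgroup.normalizer (T : Set G)) = 6) (h₂ : (Q ⊔ Subgroup.centralizer (Q : Set G)).relIndex (Subgroup.normalizer (Q : Set G)) = 2) : (∃ K : Subgroup G, K.Normal ∧ K.index = 2 ∧ (∀ P : Sylow 2 ↥K, ∃ m : ℕ, Nonempty ((P : Subgroup ↥K) ≃* DihedralGroup m)) ∧ (∀ H : Subgroup ↥K, H.index ≠ 2)) ∧ Nat.card {C : ConjClasses G // ∃ t : G, orderOf t = 2 ∧ ConjClasses.mk t = C} = 1 ∧ Nat.card {C : ConjClasses G // ∃ t : G, orderOf t = 4 ∧ ConjClasses.mk t = C} = 2 := by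
  haveI := Fact.mk Nat.prime_two
  obtain ⟨n, ⟨d⟩⟩ := nonempty_qdData hS
  obtain ⟨y, hy, hyc, hyn⟩ := SD.klein_odd hT h₁
  set χ := indexTwoHom d.dih (SD.index_dih d)
  have hker : χ.ker = d.dih := indexTwoHom_ker _ _
  have hinv : ∀ R, IsFullyNormalized 2 (S : Subgroup G) R →
      Agrees (S : Subgroup G) R ∨ R.subgroupOf (S : Subgroup G) ≤ χ.ker := by
    intro R hR
    rcases SD.qd_agrees_or d hR with h | h | ⟨⟨e⟩⟩
    · exact Or.inl h
    · refine Or.inr (hker ▸ SD.klein_le_dih d ?_)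
      exact isKleinFour_congr (Subgroup.subgroupOfEquivOfLe hR.1).symm h
    · exact Or.inl (SD.agrees_quaternion d eQ hQS (SD.quaternion_no_odd eQ h₂) hR e)
  have key := fusion_invariant S χ hinv
  obtain ⟨hidx, hres, hsyl⟩ := SD.residual_of_maximal d.isCoatom_dih (SD.index_dih d)
    (SD.dih_le_residual d hT hTS hy hyc hyn) (hker ▸ commutator_le_ker_of_invariant S χ key)
  refine ⟨⟨pResidual 2 G, pResidual_normal, hidx, fun P => ?_, hres⟩, ?_, ?_⟩
  · obtain ⟨e⟩ := hsyl P
    obtain ⟨e'⟩ := d.nonempty_dih_equiv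
    exact ⟨_, ⟨e.trans e'⟩⟩
  · refine card_classes_eq_one ((Subgroup.orderOf_coe _).trans d.orderOf_a_half) fun t ht => ?_
    rcases SD.conj_two_cases d ht with h | h
    · exact h
    · exact h.trans (SD.isConj_half_b d hT hTS hy hyc hyn).symm
  · refine card_classes_eq_two ((Subgroup.orderOf_coe _).trans (SD.orderOf_a_quarter d))
      ((Subgroup.orderOf_coe _).trans (by simpa using d.orderOf_b_odd 0)) ?_ fun t ht => SD.conj_four_cases d ht
    refine SD.not_isConj_of_invariant χ key fun h => ?_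
    have h1 : d.b (2 * 0 + 1) ∈ χ.ker := by
      rw [MonoidHom.mem_ker, mul_zero, zero_add, ← h, ← MonoidHom.mem_ker, hker]
      exact SD.a_quarter_mem_dih d
    rw [hker] at h1
    exact SD.b_odd_notMem_dih d 0 h1

end Cfsg.Agent.S1206
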