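import Cfsg.Statements.S1207
import Cfsg.Agent.Lib.Transfer.SemidihedralFusion

set_option autoImplicit false
open Cfsg
open Cfsg.Agent.Transfer Cfsg.Agent.QDWreath

namespace Cfsg.Agent.S1207

/-- Let G be a finite group with quasi-dihedral Sylow 2-subgroup S, T a Klein four-subgroup and Q a quaternion subgroup of order 8 of S, with |N_G(T) : C_G(T)| = 2 and |N_G(Q) : Q C_G(Q)| = 2. Then G has a normal 2-complement, exactly two classes of involutions and exactly two classes of elements of order 4. -/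
theorem result {G : Type*} [Group G] [Finite G] (S : Sylow 2 G) (hS : Cfsg.IsQuasiDihedral (S : Subgroup G)) (T : Subgroup G) (hT : IsKleinFour T) (hTS : T ≤ S) (Q : Subgroup G) (hQS : Q ≤ S) (eQ : Q ≃* QuaternionGroup 2) (h₁ : (Subgroup.centralizer (T : Set G)).relIndex (Subgroup.normalizer (T : Set G)) = 2) (h₂ : (Q ⊔ Subgroup.centralizer (Q : Set G)).relIndex (Subgroup.normalizer (Q : Set G)) = 2) : Cfsg.HasNormalPComplement 2 G ∧ Nat.card {C : ConjClasses G // ∃ t : G, orderOf t = 2 ∧ ConjClasses.mk t = C} = 2 ∧ Nat.card {C : ConjClasses G // ∃ t : G, orderOf t = 4 ∧ ConjClasses.mk t = C} = 2 := by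
  haveI := Fact.mk Nat.prime_two
  obtain ⟨n, ⟨d⟩⟩ := nonempty_qdData hS
  have hag : ∀ R, IsFullyNormalized 2 (S : Subgroup G) R → Agrees (S : Subgroup G) R := by
    intro R hR
    rcases SD.qd_agrees_or d hR with h | h | ⟨⟨e⟩⟩
    · exact h
    · exact SD.agrees_klein d hT hTS (SD.klein_no_odd hT h₁) hR h
    · exact SD.agrees_quaternion d eQ hQS (SD.quaternion_no_odd eQ h₂) hR e
  refine ⟨hasNormalPComplement_of_local S fun R hR _ y hy hyc => (hag R hR).centralizes S.2 hy hyc, ?_, ?_⟩
  · refine card_classes_eq_two ((Subgroup.orderOf_coe _).trans d.orderOf_a_half)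
      ((Subgroup.orderOf_coe _).trans (by simpa using d.orderOf_b_even 0)) ?_ fun t ht => SD.conj_two_cases d ht
    refine SD.not_isConj_of_invariant (indexTwoHom d.quat (SD.index_quat d))
      (fusion_invariant S _ fun R hR => Or.inl (hag R hR)) fun h => ?_
    have h1 : d.b (2 * 0) ∈ (indexTwoHom d.quat (SD.index_quat d)).ker := by
      rw [MonoidHom.mem_ker, mul_zero, ← h, ← MonoidHom.mem_ker, indexTwoHom_ker]
      exact SD.a_half_mem_quat d
    rw [indexTwoHom_ker] at h1
    exact SD.b_even_notMem_quat d 0 h1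
  · refine card_classes_eq_two ((Subgroup.orderOf_coe _).trans (SD.orderOf_a_quarter d))
      ((Subgroup.orderOf_coe _).trans (by simpa using d.orderOf_b_odd 0)) ?_ fun t ht => SD.conj_four_cases d ht
    refine SD.not_isConj_of_invariant (indexTwoHom d.dih (SD.index_dih d))
      (fusion_invariant S _ fun R hR => Or.inl (hag R hR)) fun h => ?_
    have h1 : d.b (2 * 0 + 1) ∈ (indexTwoHom d.dih (SD.index_dih d)).ker := by
      rw [MonoidHom.mem_ker, mul_zero, zero_add, ← h, ← MonoidHom.mem_ker, indexTwoHom_ker]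
      exact SD.a_quarter_mem_dih d
    rw [indexTwoHom_ker] at h1
    exact SD.b_odd_notMem_dih d 0 h1

end Cfsg.Agent.S1207
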