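import Cfsg.Statements.S1208
import Cfsg.Agent.Lib.QDWreath.LocalSylow

set_option autoImplicit false
open Cfsg Cfsg.Agent Cfsg.Agent.QDWreath Subgroup

namespace Cfsg.Agent.S1208

/-- Let G be a finite group whose Sylow 2-subgroup S is wreathed of order 2^(2n+1), U the commutative subgroup of index 2 in S, Q a quaternion subgroup of order 8 of S and V = Q Z(S). Then |N_G(U) : C_G(U)| ∈ {2, 6} and |N_G(V) : V C_G(V)| ∈ {2, 6}. -/
theorem result {G : Type*} [Group G] [Finite G] (S : Sylow 2 G) (hS : Cfsg.IsWreathed (S : Subgroup G)) (n : ℕ) (hn : Nat.card S = 2 ^ (2 * n + 1)) (U : Subgroup G) (hUS : U ≤ S) (hUab : IsMulCommutative U) (hUcard : Nat.card U = 2 ^ (2 * n)) (Q : Subgroup G) (hQS : Q ≤ S) (eQ : Q ≃* QuaternionGroup 2) : ((Subgroup.centralizer (U : Set G)).relIndex (Subgroup.normalizer (U : Set G)) = 2 ∨ (Subgroup.centralizer (U : Set G)).relIndex (Subgroup.normalizer (U : Set G)) = 6) ∧ (((Q ⊔ ((Subgroup.center (S : Subgroup G)).map (S : Subgroup G).subtype)) ⊔ Subgroup.centralizer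 ((Q ⊔ ((Subgroup.center (S : Subgroup G)).map (S : Subgroup G).subtype) : Subgroup G) : Set G)).relIndex (Subgroup.normalizer ((Q ⊔ ((Subgroup.center (S : Subgroup G)).map (S : Subgroup G).subtype) : Subgroup G) : Set G)) = 2 ∨ ((Q ⊔ ((Subgroup.center (S : Subgroup G)).map (S : Subgroup G).subtype)) ⊔ Subgroup.centralizer ((Q ⊔ ((Subgroup.center (S : Subgroup G)).map (S : Subgroup G).subtype) : Subgroup G) : Set G)).relIndex (Subgroup.normalizer ((Q ⊔ ((Subgroup.center (S : Subgroup G)).map (S : Subgroup G).subtype) : Subgroup G) : Set G)) = 6) := by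
  obtain ⟨d⟩ := wrData_of_card hS hn
  have h2n := d.hn
  have hS2 : ∀ x ∈ (S : Subgroup G), ∃ k, x ^ 2 ^ k = 1 := fun x hx => by
    obtain ⟨k, hk⟩ := S.isPGroup' ⟨x, hx⟩
    exact ⟨k, by simpa using congrArg Subtype.val hk⟩
  refine ⟨?_, ?_⟩
  · -- the abelian subgroup of index 2
    have hU' : U.subgroupOf (S : Subgroup G) = d.base := by
      refine d.eq_base_of_comm ⟨⟨fun a b => ?_⟩⟩ ?_
      · exact Subtype.ext (Subtype.ext (congrArg (Subtype.val : U → G)
          (hUab.is_comm.comm (⟨_, a.2⟩ : U) ⟨_, b.2⟩)))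
      · rw [Nat.card_congr (subgroupOfEquivOfLe hUS).toEquiv, hUcard]
    have hcomm : ∀ a ∈ U, ∀ b ∈ U, a * b = b * a := fun a ha b hb =>
      congrArg Subtype.val (hUab.is_comm.comm (⟨a, ha⟩ : U) ⟨b, hb⟩)
    set Om : Subgroup G := d.omega.map (S : Subgroup G).subtype with hOm
    have hiff : ∀ x, x ∈ Om ↔ x ∈ U ∧ x * x = 1 := by
      intro x
      constructor
      · rintro ⟨y, hy, rfl⟩
        obtain ⟨i, j, rfl, hi, hj⟩ := d.mem_omega.1 hy
        have hb : d.a i j ∈ U.subgroupOf (S : Subgroup G) := hU' ▸ d.mem_base.2 ⟨i, j, rfl⟩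
        refine ⟨hb, ?_⟩
        rw [← map_mul, d.a_mul_a, ← two_mul, ← two_mul, hi, hj, d.a_zero, map_one]
      · rintro ⟨hx, hxx⟩
        have hb : (⟨x, hUS hx⟩ : (S : Subgroup G)) ∈ d.base := hU' ▸ (show x ∈ U from hx)
        obtain ⟨i, j, he⟩ := d.mem_base.1 hb
        refine ⟨_, d.mem_omega.2 ⟨i, j, he, ?_⟩, rfl⟩
        have h2 : (⟨x, hUS hx⟩ : (S : Subgroup G)) * ⟨x, hUS hx⟩ = 1 := Subtype.ext hxx
        rw [he, d.a_mul_a, ← d.a_zero, d.a_inj, ← two_mul, ← two_mul] at h2
        exact h2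
    have hle : normalizer (U : Set G) ≤ normalizer (Om : Set G) := by
      intro g hg
      rw [mem_normalizer_iff] at hg ⊢
      intro x
      rw [hiff, hiff, hg x]
      refine and_congr_right fun _ => ?_
      rw [show g * x * g⁻¹ * (g * x * g⁻¹) = g * (x * x) * g⁻¹ by group, conj_eq_one_iff]
    have hW : Nat.card Om = 4 := by
      rw [card_map_of_injective (subtype_injective _), d.isKleinFour_omega.card_four]
    have hdz : d.z ∉ d.base := fun h => by
      obtain ⟨i, j, he⟩ := d.mem_base.1 h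
      exact d.a_ne_b i j 0 0 (by rw [← he, WrData.b, d.a_zero, one_mul])
    refine relIndex_eq_two_or_six (Q := U) hW (Om.normalizerMonoidHom.comp (inclusion hle))
      (centralizer_le_normalizer _) (normalizer_le_normalizer_centralizer U) ?_
      (S.isPGroup'.to_le hUS) ?_ (g := (d.z : G)) ?_ ?_ (hS2 _ d.z.2) ?_
    · exact fun x hx => mem_centralizer_iff.2 fun y hy => hcomm y hy x hx
    · intro g hg hodd
      have hker : inclusion hle g ∈ Om.normalizerMonoidHom.ker := hg
      rw [normalizerMonoidHom_ker, mem_subgroupOf] at hker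
      rw [mem_centralizer_iff]
      intro y hy
      refine (centralizes_of_fix hcomm (S.isPGroup'.to_le hUS) hodd
        (fun a ha => (mem_normalizer_iff.1 g.2 a).1 ha) (fun a ha haa => ?_) y hy).symm
      exact ((mem_centralizer_iff.1 hker) a ((hiff a).2 ⟨ha, haa⟩)).symm
    · refine mem_normalizer_of_subgroupOf hUS ?_
      rw [hU', mem_normalizer_iff]
      intro x
      have e1 : d.z = d.b 0 0 := by rw [WrData.b, d.a_zero, one_mul]
      have key : ∀ x ∈ d.base, d.z * x * d.z⁻¹ ∈ d.base := by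
        intro x hx
        obtain ⟨i, j, rfl⟩ := d.mem_base.1 hx
        rw [e1, d.conj_b_a]
        exact d.mem_base.2 ⟨j, i, rfl⟩
      refine ⟨key x, fun hx => ?_⟩
      have := key _ hx
      rwa [inv_eq_of_mul_eq_one_left d.z_mul_z, ← mul_assoc, ← mul_assoc, d.z_mul_z, one_mul,
        mul_assoc, d.z_mul_z, mul_one] at this
    · intro hz
      have hb : d.a 1 0 ∈ U.subgroupOf (S : Subgroup G) := hU' ▸ d.mem_base.2 ⟨1, 0, rfl⟩
      have h1 : d.a 1 0 * d.z = d.z * d.a 1 0 := Subtype.ext (mem_centralizer_iff.1 hz _ hb)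
      rw [d.z_mul_a] at h1
      exact d.nontrivial (d.a_inj.1 (mul_right_cancel h1)).1
    · intro P hP hUP hPN
      refine card_le_of_sylow S hP hUP hPN fun c Q' _ => ?_
      exact (card_le_card_group _).trans (le_of_eq (by rw [hn, hUcard, pow_succ']))
  · -- the central product
    set Zm : Subgroup G := (center (S : Subgroup G)).map (S : Subgroup G).subtype with hZm
    set V : Subgroup G := Q ⊔ Zm with hV
    have hZS : Zm ≤ (S : Subgroup G) := map_subtype_le _
    have hVS : V ≤ (S : Subgroup G) := sup_le hQS hZS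
    have eQ' := (subgroupOfEquivOfLe hQS).trans eQ
    have hZcomm : ∀ z ∈ Zm, ∀ x ∈ (S : Subgroup G), x * z = z * x := by
      rintro _ ⟨z, hz, rfl⟩ x hx
      exact congrArg Subtype.val (mem_center_iff.1 hz ⟨x, hx⟩)
    have hCQ : ∀ c ∈ (S : Subgroup G), (∀ x ∈ Q, x * c = c * x) → c ∈ Zm := fun c hc h =>
      ⟨⟨c, hc⟩, d.q8_centralizer eQ' fun x hx => Subtype.ext (h _ hx), rfl⟩
    have hdec : ∀ y ∈ V, ∃ q ∈ Q, ∃ z ∈ Zm, y = q * z := by
      intro y hy
      have hle : Zm ≤ normalizer (Q : Set G) := fun z hz => centralizer_le_normalizer _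
        (mem_centralizer_iff.2 fun q hq => hZcomm z hz q (hQS hq))
      rw [hV, ← SetLike.mem_coe, coe_mul_of_right_le_normalizer_left _ _ hle] at hy
      obtain ⟨q, hq, z, hz, rfl⟩ := hy
      exact ⟨q, hq, z, hz, rfl⟩
    have huniq : ∀ z ∈ Zm, z * z = 1 → z ≠ 1 → ∀ z' ∈ Zm, z' * z' = 1 → z' ≠ 1 → z = z' := by
      rintro _ ⟨z, hz, rfl⟩ h1 h2 _ ⟨z', hz', rfl⟩ h1' h2'
      obtain ⟨i, rfl⟩ := d.mem_center.1 hz
      obtain ⟨j, rfl⟩ := d.mem_center.1 hz'
      have key : ∀ i, ((d.a i i : (S : Subgroup G)) : G) * (d.a i i : (S : Subgroup G)) = 1 →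
          ((d.a i i : (S : Subgroup G)) : G) ≠ 1 → i = tp n (n - 1) := fun i h h' => by
        have h3 : d.a i i * d.a i i = 1 := Subtype.ext h
        rw [d.a_mul_a, ← d.a_zero, d.a_inj, ← two_mul] at h3
        refine ((two_mul_eq_zero d.one_le).1 h3.1).resolve_left fun h0 => h' ?_
        rw [h0, d.a_zero, Subgroup.coe_one]
      rw [key i h1 h2, key j h1' h2']
    set ι : G := ((eQ.symm (.a 2) : Q) : G) with hι
    have hιQ : ι ∈ Q := SetLike.coe_mem _
    have hιc : (eQ.symm (.a 2) : Q) ∈ center Q := (q8_center eQ).2 (Or.inr rfl)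
    have hcenZ : ∀ c : Q, c ∈ center Q → (c : G) ∈ Zm := fun c hc =>
      hCQ _ (hQS c.2) fun x hx => congrArg Subtype.val (mem_center_iff.1 hc ⟨x, hx⟩)
    have hι1 : ι ≠ 1 := fun h => by
      have h' : (eQ.symm (.a 2) : Q) = 1 := Subtype.ext h
      rw [MulEquiv.map_eq_one_iff] at h'
      exact absurd h' (by decide)
    have hιι : ι * ι = 1 := congrArg Subtype.val (q8_center_sq eQ hιc)
    have hconjV : ∀ g ∈ normalizer (V : Set G), ∀ y ∈ V, g * y * g⁻¹ ∈ V := fun g hg y hy =>
      (mem_normalizer_iff.1 hg y).1 hy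
    have hconjZ : ∀ g ∈ normalizer (V : Set G), ∀ z ∈ Zm, g * z * g⁻¹ ∈ Zm := by
      intro g hg z hz
      have hzV := hconjV g hg z (mem_sup_right hz)
      refine hCQ _ (hVS hzV) fun x hx => ?_
      have hx' : g⁻¹ * x * g ∈ V := by
        simpa using hconjV g⁻¹ (inv_mem hg) x (mem_sup_left hx)
      have h := hZcomm z hz _ (hVS hx')
      calc x * (g * z * g⁻¹) = g * ((g⁻¹ * x * g) * z) * g⁻¹ := by group
        _ = g * (z * (g⁻¹ * x * g)) * g⁻¹ := by rw [h]
        _ = g * z * g⁻¹ * x := by group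
    have hconjι : ∀ g ∈ normalizer (V : Set G), g * ι * g⁻¹ = ι := fun g hg =>
      huniq _ (hconjZ g hg ι (hcenZ _ hιc))
        (by rw [show g * ι * g⁻¹ * (g * ι * g⁻¹) = g * (ι * ι) * g⁻¹ by group, hιι]; group)
        (fun h => hι1 (conj_eq_one_iff.1 h)) ι (hcenZ _ hιc) hιι hι1
    have hconjQ : ∀ g ∈ normalizer (V : Set G), ∀ x ∈ Q, g * x * g⁻¹ ∈ Q := by
      intro g hg x hx
      by_cases hc : (⟨x, hx⟩ : Q) ∈ center Q
      · rcases (q8_center eQ).1 hc with h | h
        · rw [show x = 1 from congrArg Subtype.val h]; simp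
        · rw [show x = ι from congrArg Subtype.val h, hconjι g hg]; exact hιQ
      · obtain ⟨q, hq, z, hz, he⟩ := hdec _ (hconjV g hg x (mem_sup_left hx))
        have hqc : (⟨q, hq⟩ : Q) ∉ center Q := by
          intro hqc
          apply hc
          have hgx : g * x * g⁻¹ ∈ Zm := he ▸ mul_mem (hcenZ _ hqc) hz
          have hxZ : x ∈ Zm := by
            have := hconjZ g⁻¹ (inv_mem hg) _ hgx
            simpa [mul_assoc] using this
          rw [mem_center_iff]
          exact fun y => Subtype.ext (hZcomm x hxZ y (hQS y.2))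
        have hqq : q * q = ι := congrArg Subtype.val (q8_sq eQ hqc)
        have hxx : x * x = ι := congrArg Subtype.val (q8_sq eQ hc)
        have hzz : z * z = 1 := by
          have h1 : g * x * g⁻¹ * (g * x * g⁻¹) = ι := by
            rw [show g * x * g⁻¹ * (g * x * g⁻¹) = g * (x * x) * g⁻¹ by group, hxx, hconjι g hg]
          rw [he, show q * z * (q * z) = q * (z * q) * z by group, ← hZcomm z hz q (hQS hq),
            show q * (q * z) * z = q * q * (z * z) by group, hqq] at h1
          exact mul_eq_left.1 h1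
        rw [he]
        refine mul_mem hq ?_
        by_cases hz1 : z = 1
        · rw [hz1]; exact one_mem _
        · rw [huniq z hz hzz hz1 ι (hcenZ _ hιc) hιι hι1]; exact hιQ
    have hle : normalizer (V : Set G) ≤ normalizer (Q : Set G) := by
      intro g hg
      rw [mem_normalizer_iff]
      refine fun x => ⟨hconjQ g hg x, fun hx => ?_⟩
      simpa [mul_assoc] using hconjQ g⁻¹ (inv_mem hg) _ hx
    have hV' : V.subgroupOf (S : Subgroup G) = Q.subgroupOf (S : Subgroup G) ⊔ center (S : Subgroup G) := by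
      rw [hV, subgroupOf_sup hQS hZS]
      congr 1
      exact comap_map_eq_self_of_injective (subtype_injective _) _
    obtain ⟨g, hgN, hgV⟩ := PGroup.exists_mem_normalizer_not_mem (p := 2) S.isPGroup'
      (H := V.subgroupOf (S : Subgroup G)) (by rw [hV']; exact d.qz_ne_top eQ')
    refine relIndex_eq_two_or_six (Q := V) (q8_card_quot eQ)
      ((autCenterQuot Q).comp (Q.normalizerMonoidHom.comp (inclusion hle)))
      (sup_le le_normalizer (centralizer_le_normalizer _))
      (normalizer_le_normalizer_sup_of_normalizer_le_left (normalizer_le_normalizer_centralizer V))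
      le_sup_left (S.isPGroup'.to_le hVS) ?_ (g := (g : G)) (mem_normalizer_of_subgroupOf hVS hgN) ?_
      (hS2 _ g.2) ?_
    · intro x hx hodd
      have hQc := q8_centralizes eQ (g := inclusion hle x) hx hodd
      have hZc : ∀ z ∈ Zm, (x : G) * z = z * (x : G) := by
        refine centralizes_of_fix (fun a ha b hb => hZcomm b hb a (hZS ha))
          (S.isPGroup'.to_le hZS) hodd (hconjZ _ x.2) (fun a ha haa => ?_)
        by_cases ha1 : a = 1
        · subst ha1; simp
        · rw [huniq a ha haa ha1 ι (hcenZ _ hιc) hιι hι1]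
          exact mul_inv_eq_iff_eq_mul.1 (hconjι _ x.2)
      refine mem_sup_right (mem_centralizer_iff.2 fun y hy => ?_)
      obtain ⟨q, hq, z, hz, rfl⟩ := hdec y hy
      have h1 : q * (x : G) = x * q := mem_centralizer_iff.1 hQc q hq
      calc q * z * (x : G) = q * (x * z) := by rw [hZc z hz]; group
        _ = x * (q * z) := by rw [← mul_assoc, h1, mul_assoc]
    · intro hg
      obtain ⟨v, hv, c, hc, he⟩ := mem_sup_centralizer hg
      have hcS : c ∈ (S : Subgroup G) := by
        have := mul_mem (inv_mem (hVS hv)) g.2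
        rwa [he, inv_mul_cancel_left] at this
      apply hgV
      rw [mem_subgroupOf, he]
      exact mul_mem hv (mem_sup_right (hCQ c hcS fun x hx =>
        mem_centralizer_iff.1 hc x (mem_sup_left hx)))
    · intro P hP hVP hPN
      refine card_le_of_sylow S hP hVP hPN fun c V' hV'' => ?_
      have hVS' : V.map (MulAut.conj c).toMonoidHom ≤ (S : Subgroup G) := hV'' ▸ map_subtype_le _
      rw [hV, Subgroup.map_sup, sup_le_iff] at hVS'
      set Q₁ := (Q.map (MulAut.conj c).toMonoidHom).subgroupOf (S : Subgroup G) with hQ₁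
      set C₁ := (Zm.map (MulAut.conj c).toMonoidHom).subgroupOf (S : Subgroup G) with hC₁
      have e₁ : Q₁ ≃* QuaternionGroup 2 := ((subgroupOfEquivOfLe hVS'.1).trans
        (equivMapOfInjective Q _ (MulAut.conj c).injective).symm).trans eQ
      have hC : C₁ = center (S : Subgroup G) := by
        refine eq_of_le_of_card_ge (fun z hz => d.q8_centralizer e₁ fun x hx => ?_) (le_of_eq ?_)
        · obtain ⟨z', hz', hze⟩ := hz
          obtain ⟨x', hx', hxe⟩ := hx
          apply Subtype.ext
          rw [Subgroup.coe_mul, Subgroup.coe_mul]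
          simp only [Subgroup.coe_subtype] at hze hxe
          rw [← hze, ← hxe, ← map_mul, ← map_mul, hZcomm z' hz' x' (hQS hx')]
        · rw [hC₁, Nat.card_congr (subgroupOfEquivOfLe hVS'.2).toEquiv,
            card_map_of_injective (MulAut.conj c).injective, hZm,
            card_map_of_injective (subtype_injective _)]
      have hV₁ : V' = Q₁ ⊔ center (S : Subgroup G) := by
        refine map_injective (subtype_injective _) ?_
        rw [hV'', hV, Subgroup.map_sup, Subgroup.map_sup, ← hC, hQ₁, hC₁, map_subgroupOf_eq_of_le hVS'.1,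
          map_subgroupOf_eq_of_le hVS'.2]
      rw [hV₁]
      refine (d.qz_normalizer e₁).trans (le_of_eq ?_)
      rw [← hV₁, ← card_map_of_injective (subtype_injective (S : Subgroup G)) (K := V'), hV'',
        card_map_of_injective (MulAut.conj c).injective]

end Cfsg.Agent.S1208
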