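import Cfsg.Statements.S1209
import Cfsg.Agent.Lib.Transfer.WreathedFusion

set_option autoImplicit false
open Cfsg
open Cfsg.Agent.Transfer Cfsg.Agent.QDWreath

namespace Cfsg.Agent.S1209

/-- Let G be a finite group whose Sylow 2-subgroup S is wreathed of order 2^(2n+1), U the commutative subgroup of index 2 in S, Q a quaternion subgroup of order 8 of S and V = Q Z(S). If |N_G(U) : C_G(U)| = 6 and |N_G(V) : V C_G(V)| = 6, then G has no subgroup of index 2 and exactly one conjugacy class of involutions. -/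
theorem result {G : Type*} [Group G] [Finite G] (S : Sylow 2 G) (hS : Cfsg.IsWreathed (S : Subgroup G)) (n : ℕ) (hn : Nat.card S = 2 ^ (2 * n + 1)) (U : Subgroup G) (hUS : U ≤ S) (hUab : IsMulCommutative U) (hUcard : Nat.card U = 2 ^ (2 * n)) (Q : Subgroup G) (hQS : Q ≤ S) (eQ : Q ≃* QuaternionGroup 2) (h₁ : (Subgroup.centralizer (U : Set G)).relIndex (Subgroup.normalizer (U : Set G)) = 6) (h₂ : ((Q ⊔ ((Subgroup.center (S : Subgroup G)).map (S : Subgroup G).subtype)) ⊔ Subgroup.centralizer ((Q ⊔ ((Subgroup.center (S : Subgroup G)).map (S : Subgroup G).subtype) : Subgroup G) : Set G)).relIndex (Subgroup.normalizer ((Q ⊔ ((Subgroup.center (S : Subgroup G)).map (S : Subgroup G).subtype) : Subgroup G) : Set G)) = 6) : (∀ H : Subgroup G, H.index ≠ 2) ∧ Nat.card {C : ConjClasses G // ∃ t : G, orderOf t = 2 ∧ ConjClasses.mk t = C} = 1 := by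
  obtain ⟨d⟩ := QDWreath.wrData_of_card hS hn
  have hUb := WR.subgroupOf_base d hUS hUab hUcard
  obtain ⟨hXS, c, hXk⟩ := WR.subgroupOf_kpre d hQS eQ
  rw [← WR.sup_centralizer_of_comm hUab] at h₁
  have hUp : IsPGroup 2 U := S.2.to_le hUS
  have hXp : IsPGroup 2 (Q ⊔ (Subgroup.center (S : Subgroup G)).map (S : Subgroup G).subtype : Subgroup G) :=
    S.2.to_le hXS
  haveI := Fact.mk Nat.prime_two
  obtain ⟨h12, hb⟩ := WR.base_odd d hUS hUb (WR.not_oddFree_of_relIndex h₁)
  obtain ⟨h23, hq⟩ := WR.kpre_odd d hXS hXk (WR.not_oddFree_of_relIndex h₂)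
  have htop : pResidual 2 G = ⊤ := by
    rw [← sylow_sup_eq_top S, eq_comm, sup_eq_right]
    refine Subgroup.subgroupOf_eq_top.mp (eq_top_iff.mpr fun g _ => ?_)
    rcases d.cases g with ⟨i, j, rfl⟩ | ⟨i, j, rfl⟩
    · exact hb (d.mem_base.mpr ⟨i, j, rfl⟩)
    · rw [show d.b i j = d.a i (j - tp n (n - 1)) * d.b 0 (tp n (n - 1)) by
        rw [d.a_mul_b, add_zero, sub_add_cancel]]
      refine mul_mem (hb (d.mem_base.mpr ⟨_, _, rfl⟩)) (hq ?_)
      exact (WR.mem_ker_chi d).mpr ⟨0, Or.inr (by rw [sub_zero])⟩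
  refine ⟨fun H hH => exists_index_two_iff.mp ⟨H, hH⟩ htop, ?_⟩
  refine card_classes_eq_one ((Subgroup.orderOf_coe _).trans (WR.orderOf_u1 d)) fun t ht => ?_
  rcases WR.involution_conj_cases d ht with h | h | h
  · exact h
  · exact h.trans h12.symm
  · exact (h.trans h23.symm).trans h12.symm

end Cfsg.Agent.S1209
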