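import Cfsg.Statements.S1210
import Cfsg.Agent.Lib.Transfer.WreathedFusion

set_option autoImplicit false
open Cfsg
open Cfsg.Agent.Transfer Cfsg.Agent.QDWreath

namespace Cfsg.Agent.S1210

/-- Let G be a finite group whose Sylow 2-subgroup S is wreathed of order 2^(2n+1), U the commutative subgroup of index 2 in S, Q a quaternion subgroup of order 8 of S and V = Q Z(S). If |N_G(U) : C_G(U)| = 2 and |N_G(V) : V C_G(V)| = 6, then G has a normal subgroup K of index 2^n whose Sylow 2-subgroups are generalized quaternion and which has no subgroup of index 2; every subgroup of Z(S) is weakly closed in S; and G has exactly two classes of involutions. -/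
theorem result {G : Type*} [Group G] [Finite G] (S : Sylow 2 G) (hS : Cfsg.IsWreathed (S : Subgroup G)) (n : ℕ) (hn : Nat.card S = 2 ^ (2 * n + 1)) (U : Subgroup G) (hUS : U ≤ S) (hUab : IsMulCommutative U) (hUcard : Nat.card U = 2 ^ (2 * n)) (Q : Subgroup G) (hQS : Q ≤ S) (eQ : Q ≃* QuaternionGroup 2) (h₁ : (Subgroup.centralizer (U : Set G)).relIndex (Subgroup.normalizer (U : Set G)) = 2) (h₂ : ((Q ⊔ ((Subgroup.center (S : Subgroup G)).map (S : Subgroup G).subtype)) ⊔ Subgroup.centralizer ((Q ⊔ ((Subgroup.center (S : Subgroup G)).map (S : Subgroup G).subtype) : Subgroup G) : Set G)).relIndex (Subgroup.normalizer ((Q ⊔ ((Subgroup.center (S : Subgroup G)).map (S : Subgroup G).subtype) : Subgroup G) : Set G)) = 6) : (∃ K : Subgroup G, K.Normal ∧ K.index = 2 ^ n ∧ (∀ P : Sylow 2 ↥K, ∃ m : ℕ, 1 ≤ m ∧ Nonempty ((P : Subgroup ↥K) ≃* QuaternionGroup (2 ^ m))) ∧ (∀ H : Subgroup ↥K, H.index ≠ 2)) ∧ (∀ Z₀ : Subgroup G, Z₀ ≤ ((Subgroup.center (S : Subgroup G)).map (S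 : Subgroup G).subtype) → Cfsg.IsWeaklyClosed Z₀ (S : Subgroup G)) ∧ Nat.card {C : ConjClasses G // ∃ t : G, orderOf t = 2 ∧ ConjClasses.mk t = C} = 2 := by
  obtain ⟨d⟩ := QDWreath.wrData_of_card hS hn
  have hUb := WR.subgroupOf_base d hUS hUab hUcard
  obtain ⟨hXS, c, hXk⟩ := WR.subgroupOf_kpre d hQS eQ
  rw [← WR.sup_centralizer_of_comm hUab] at h₁
  have hUp : IsPGroup 2 U := S.2.to_le hUS
  have hXp : IsPGroup 2 (Q ⊔ (Subgroup.center (S : Subgroup G)).map (S : Subgroup G).subtype : Subgroup G) :=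
    S.2.to_le hXS
  haveI := Fact.mk Nat.prime_two
  have hUf := WR.oddFree_of_relIndex hUp h₁
  have hXf := WR.not_oddFree_of_relIndex h₂
  refine ⟨WR.quaternion_case d hUS hUb hUf hXS hXk hXf,
    fun Z₀ hZ => WR.weaklyClosed_of_fixed (fun q hq g hg => WR.center_fixed d hUS hUb hUf hq hg) hZ, ?_⟩
  obtain ⟨h23, -⟩ := WR.kpre_odd d hXS hXk hXf
  refine card_classes_eq_two ((Subgroup.orderOf_coe _).trans (WR.orderOf_u1 d)) ((Subgroup.orderOf_coe _).trans (WR.orderOf_u2 d)) ?_ fun t ht => ?_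
  · refine WR.not_isConj_center d hUS hUb hUf fun h => ?_
    exact WR.half_ne_zero d (d.a_inj.mp h).2.symm
  · rcases WR.involution_conj_cases d ht with h | h | h
    · exact Or.inl h
    · exact Or.inr h
    · exact Or.inr (h.trans h23.symm)

end Cfsg.Agent.S1210
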