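import Cfsg.Statements.S1211
import Cfsg.Agent.Lib.Transfer.WreathedFusion

set_option autoImplicit false
open Cfsg
open Cfsg.Agent.Transfer Cfsg.Agent.QDWreath

namespace Cfsg.Agent.S1211

/-- Let G be a finite group whose Sylow 2-subgroup S is wreathed of order 2^(2n+1), U the commutative subgroup of index 2 in S, Q a quaternion subgroup of order 8 of S and V = Q Z(S). If |N_G(U) : C_G(U)| = 6 and |N_G(V) : V C_G(V)| = 2, then G has a normal subgroup K of index 2 containing U (so U is a Sylow 2-subgroup of K) which has no subgroup of index 2, and G has exactly two classes of involutions. -/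
theorem result {G : Type*} [Group G] [Finite G] (S : Sylow 2 G) (hS : Cfsg.IsWreathed (S : Subgroup G)) (n : ℕ) (hn : Nat.card S = 2 ^ (2 * n + 1)) (U : Subgroup G) (hUS : U ≤ S) (hUab : IsMulCommutative U) (hUcard : Nat.card U = 2 ^ (2 * n)) (Q : Subgroup G) (hQS : Q ≤ S) (eQ : Q ≃* QuaternionGroup 2) (h₁ : (Subgroup.centralizer (U : Set G)).relIndex (Subgroup.normalizer (U : Set G)) = 6) (h₂ : ((Q ⊔ ((Subgroup.center (S : Subgroup G)).map (S : Subgroup G).subtype)) ⊔ Subgroup.centralizer ((Q ⊔ ((Subgroup.center (S : Subgroup G)).map (S : Subgroup G).subtype) : Subgroup G) : Set G)).relIndex (Subgroup.normalizer ((Q ⊔ ((Subgroup.center (S : Subgroup G)).map (S : Subgroup G).subtype) : Subgroup G) : Set G)) = 2) : (∃ K : Subgroup G, K.Normal ∧ K.index = 2 ∧ U ≤ K ∧ (∀ H : Subgroup ↥K, H.index ≠ 2)) ∧ Nat.card {C : ConjClasses G // ∃ t : G, orderOf t = 2 ∧ ConjClasses.mk t = C} = 2 := by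
  obtain ⟨d⟩ := QDWreath.wrData_of_card hS hn
  have hUb := WR.subgroupOf_base d hUS hUab hUcard
  obtain ⟨hXS, c, hXk⟩ := WR.subgroupOf_kpre d hQS eQ
  rw [← WR.sup_centralizer_of_comm hUab] at h₁
  have hUp : IsPGroup 2 U := S.2.to_le hUS
  have hXp : IsPGroup 2 (Q ⊔ (Subgroup.center (S : Subgroup G)).map (S : Subgroup G).subtype : Subgroup G) :=
    S.2.to_le hXS
  haveI := Fact.mk Nat.prime_two
  have hXf := WR.oddFree_of_relIndex hXp h₂
  obtain ⟨h12, hb⟩ := WR.base_odd d hUS hUb (WR.not_oddFree_of_relIndex h₁)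
  have key := WR.base_invariant d hXS hXk hXf
  have hker := indexTwoHom_ker d.base (WR.base_index d)
  obtain ⟨hidx, -⟩ := residual_of_kernel S _ key (hker.le.trans hb)
  refine ⟨⟨pResidual 2 G, pResidual_normal, by rw [hidx, hker, WR.base_index d], fun x hx => ?_,
    index_ne_two_pResidual⟩, ?_⟩
  · exact hb (hUb.le (Subgroup.mem_subgroupOf.mpr hx : (⟨x, hUS hx⟩ : (S : Subgroup G)) ∈ _))
  refine card_classes_eq_two ((Subgroup.orderOf_coe _).trans (WR.orderOf_u1 d)) ((Subgroup.orderOf_coe (d.b 0 0)).trans (by simpa using WR.orderOf_v d 0)) (WR.not_isConj_base d hXS hXk hXf _ _ _ _) fun t ht => ?_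
  rcases WR.involution_conj_cases d ht with h | h | h
  · exact Or.inl h
  · exact Or.inl (h.trans h12.symm)
  · exact Or.inr h

end Cfsg.Agent.S1211
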