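import Cfsg.Statements.S1212
import Cfsg.Agent.Lib.Transfer.WreathedFusion

set_option autoImplicit false
open Cfsg
open Cfsg.Agent.Transfer Cfsg.Agent.QDWreath

namespace Cfsg.Agent.S1212

/-- Let G be a finite group whose Sylow 2-subgroup S is wreathed of order 2^(2n+1), U the commutative subgroup of index 2 in S, Q a quaternion subgroup of order 8 of S and V = Q Z(S). If |N_G(U) : C_G(U)| = 2 and |N_G(V) : V C_G(V)| = 2, then G has a normal 2-complement and exactly three conjugacy classes of involutions. -/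
theorem result {G : Type*} [Group G] [Finite G] (S : Sylow 2 G) (hS : Cfsg.IsWreathed (S : Subgroup G)) (n : ℕ) (hn : Nat.card S = 2 ^ (2 * n + 1)) (U : Subgroup G) (hUS : U ≤ S) (hUab : IsMulCommutative U) (hUcard : Nat.card U = 2 ^ (2 * n)) (Q : Subgroup G) (hQS : Q ≤ S) (eQ : Q ≃* QuaternionGroup 2) (h₁ : (Subgroup.centralizer (U : Set G)).relIndex (Subgroup.normalizer (U : Set G)) = 2) (h₂ : ((Q ⊔ ((Subgroup.center (S : Subgroup G)).map (S : Subgroup G).subtype)) ⊔ Subgroup.centralizer ((Q ⊔ ((Subgroup.center (S : Subgroup G)).map (S : Subgroup G).subtype) : Subgroup G) : Set G)).relIndex (Subgroup.normalizer ((Q ⊔ ((Subgroup.center (S : Subgroup G)).map (S : Subgroup G).subtype) : Subgroup G) : Set G)) = 2) : Cfsg.HasNormalPComplement 2 G ∧ Nat.card {C : ConjClasses G // ∃ t : G, orderOf t = 2 ∧ ConjClasses.mk t = C} = 3 := by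
  obtain ⟨d⟩ := QDWreath.wrData_of_card hS hn
  have hUb := WR.subgroupOf_base d hUS hUab hUcard
  obtain ⟨hXS, c, hXk⟩ := WR.subgroupOf_kpre d hQS eQ
  rw [← WR.sup_centralizer_of_comm hUab] at h₁
  have hUp : IsPGroup 2 U := S.2.to_le hUS
  have hXp : IsPGroup 2 (Q ⊔ (Subgroup.center (S : Subgroup G)).map (S : Subgroup G).subtype : Subgroup G) :=
    S.2.to_le hXS
  haveI := Fact.mk Nat.prime_two
  have hUf := WR.oddFree_of_relIndex hUp h₁
  have hXf := WR.oddFree_of_relIndex hXp h₂
  refine ⟨hasNormalPComplement_of_centric S fun R hR y hy hco => ?_, ?_⟩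
  · rcases WR.centric_odd_cases d hR with h | h | ⟨c', h⟩
    · exact h y hy hco
    · exact WR.oddFree_base d hUS hUb hUf hR.1 h y hy hco
    · exact WR.oddFree_kpre d hXS hXk hXf hR.1 h y hy hco
  refine card_classes_eq_three ((Subgroup.orderOf_coe _).trans (WR.orderOf_u1 d)) ((Subgroup.orderOf_coe _).trans (WR.orderOf_u2 d)) ((Subgroup.orderOf_coe (d.b 0 0)).trans (by simpa using WR.orderOf_v d 0)) ?_ (WR.not_isConj_base d hXS hXk hXf _ _ _ _)
    (WR.not_isConj_base d hXS hXk hXf _ _ _ _) fun t ht => WR.involution_conj_cases d ht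
  refine WR.not_isConj_center d hUS hUb hUf fun h => ?_
  exact WR.half_ne_zero d (d.a_inj.mp h).2.symm

end Cfsg.Agent.S1212
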