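import Cfsg.Statements.S1214
import Cfsg.Agent.Lib.Transfer.WreathedOrSemidihedral
import Cfsg.Agent.Lib.Cores.Subnormal
import Cfsg.Agent.Lib.CharSimple.Basic
import Cfsg.Agent.Lib.PGroup.Basic
import Cfsg.Agent.S1200

set_option autoImplicit false
open Cfsg
open Cfsg.Agent.Transfer Cfsg.Agent.QDWreath

namespace Cfsg.Agent.S1214

theorem main {Q : Type*} [Group Q] [Finite Q] (S : Sylow 2 Q)
    (hinv : ∀ x y : Q, orderOf x = 2 → orderOf y = 2 → IsConj x y) (hG : ∀ H : Subgroup Q, H.index ≠ 2)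
    (hO : Cfsg.pPrimeCore 2 Q = ⊥) (hnc : ¬ IsMulCommutative (S : Subgroup Q))
    (hcyc : ∃ s : (S : Subgroup Q),
      Subgroup.closure {x : (S : Subgroup Q) | orderOf x = 2} ⊔ Subgroup.zpowers s = ⊤)
    (huni : ∀ x y : (S : Subgroup Q), x ∈ Subgroup.center (S : Subgroup Q) →
      y ∈ Subgroup.center (S : Subgroup Q) → orderOf x = 2 → orderOf y = 2 → x = y) :
    ∃ L : Subgroup Q, L.Normal ∧ Odd L.index ∧ IsSimpleGroup L ∧ ¬ IsMulCommutative L := by
  classical
  have := Fact.mk Nat.prime_two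
  have hne1 : (S : Subgroup Q) ≠ ⊥ := fun h => hnc ⟨⟨fun a b => Subtype.ext (by
    have h1 : ∀ c : (S : Subgroup Q), (c : Q) = 1 := fun c => Subgroup.mem_bot.mp (h.le c.2)
    rw [Subgroup.coe_mul, Subgroup.coe_mul, h1 a, h1 b])⟩⟩
  haveI : Nontrivial Q := by
    haveI := (Subgroup.nontrivial_iff_ne_bot _).mpr hne1
    exact Function.Injective.nontrivial (S : Subgroup Q).subtype_injective
  obtain ⟨L, hL, hLne, hmin⟩ := Cores.exists_minimal_normal (G := Q)
  haveI := hL
  have hdvd : 2 ∣ Nat.card L := by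
    by_contra h
    refine hLne (le_bot_iff.mp (hO ▸ Cores.le_pPrimeCore hL ?_))
    exact Nat.Coprime.symm ((Nat.prime_two.coprime_iff_not_dvd).mpr h)
  obtain ⟨t, ht⟩ := exists_prime_orderOf_dvd_card' 2 hdvd
  have hinvL : ∀ x : Q, orderOf x = 2 → x ∈ L := by
    intro x hx
    obtain ⟨g, hg⟩ := isConj_iff.mp (hinv t x ((Subgroup.orderOf_coe t).trans ht) hx)
    exact hg ▸ hL.conj_mem _ t.2 g
  obtain ⟨s, hs⟩ := hcyc
  set π := QuotientGroup.mk' L
  set R : Sylow 2 (Q ⧸ L) := S.mapSurjective (QuotientGroup.mk'_surjective L)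
  have hR : IsCyclic (R : Subgroup (Q ⧸ L)) := by
    refine isCyclic_iff_exists_zpowers_eq_top.mpr ⟨⟨π s, ⟨s, s.2, rfl⟩⟩, ?_⟩
    refine eq_top_iff.mpr fun y _ => ?_
    obtain ⟨g, hg, hgy⟩ : (y : Q ⧸ L) ∈ (S : Subgroup Q).map π := y.2
    have hgs : (⟨g, hg⟩ : (S : Subgroup Q)) ∈
        (L.subgroupOf (S : Subgroup Q)) ⊔ Subgroup.zpowers s := by
      refine (hs ▸ sup_le_sup_right ?_ _ : (⊤ : Subgroup (S : Subgroup Q)) ≤ _) (Subgroup.mem_top _)
      refine (Subgroup.closure_le _).mpr fun x hx => Subgroup.mem_subgroupOf.mpr (hinvL _ ?_)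
      rw [Subgroup.orderOf_coe]; exact hx
    obtain ⟨l, hl, z, hz, hlz⟩ := Subgroup.mem_sup_of_normal_left.mp hgs
    obtain ⟨i, rfl⟩ := hz
    refine ⟨i, Subtype.ext ?_⟩
    rw [SubgroupClass.coe_zpow, ← hgy]
    have : g = (l : Q) * (s : Q) ^ i := by
      rw [← SubgroupClass.coe_zpow, ← Subgroup.coe_mul]; exact congrArg Subtype.val hlz.symm
    rw [this, map_mul, map_zpow, show π (l : Q) = 1 from (QuotientGroup.eq_one_iff _).mpr hl, one_mul]
  have hNC : Cfsg.HasNormalPComplement 2 (Q ⧸ L) := hasNormalPComplement_of_local R fun T hT _ y hy hco => by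
    haveI := hR
    haveI : IsCyclic T := isCyclic_of_injective (Subgroup.inclusion hT.1) (Subgroup.inclusion_injective _)
    exact centralizes_of_isPGroup_mulAut (isPGroup_mulAut_of_isCyclic (R.2.to_le hT.1)) hy hco
  have hres : Cfsg.pResidual 2 (Q ⧸ L) = ⊤ := by
    by_contra h
    obtain ⟨H, hH⟩ := exists_index_two_iff.mpr h
    exact hG (H.comap π) (by rw [Subgroup.index_comap_of_surjective _ (QuotientGroup.mk'_surjective L), hH])
  have hSL : (S : Subgroup Q) ≤ L := by
    have h := (hasNormalPComplement_iff_inf_eq_bot R).mp hNC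
    intro x hx
    refine (QuotientGroup.eq_one_iff x).mp ?_
    have hx' : π x ∈ (R : Subgroup (Q ⧸ L)) := ⟨x, hx, rfl⟩
    have : π x ∈ (⊥ : Subgroup (Q ⧸ L)) := by
      rw [← h, hres]
      simp [hx']
    exact Subgroup.mem_bot.mp this
  have hodd : Odd L.index := by
    rcases Nat.even_or_odd L.index with he | ho
    · exact absurd ((even_iff_two_dvd.mp he).trans (Subgroup.index_dvd_of_le hSL)) S.not_dvd_index
    · exact ho
  have hLnc : ¬ IsMulCommutative L := fun h => hnc ⟨⟨fun a b => Subtype.ext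
    (congrArg (fun z : L => (z : Q)) (h.is_comm.comm ⟨a, hSL a.2⟩ ⟨b, hSL b.2⟩))⟩⟩
  refine ⟨L, hL, hodd, ?_, hLnc⟩
  haveI : Nontrivial L := (Subgroup.nontrivial_iff_ne_bot _).mpr hLne
  obtain ⟨T, hTg, hTs, k, hk, ⟨e⟩⟩ := CharSimple.exists_pi_simple (G := L) fun H hH => by
    rcases hmin (H.map L.subtype) inferInstance (Subgroup.map_subtype_le H) with h | h
    · exact Or.inl ((Subgroup.map_eq_bot_iff_of_injective _ L.subtype_injective).mp h)
    · exact Or.inr (Subgroup.map_injective L.subtype_injective (h.trans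
        (by rw [← MonoidHom.range_eq_map, Subgroup.range_subtype])))
  rcases (show k = 1 ∨ 2 ≤ k by omega) with rfl | hk2
  · haveI : Nontrivial T := by
      by_contra hn
      rw [not_nontrivial_iff_subsingleton] at hn
      exact not_subsingleton L e.toEquiv.subsingleton
    exact ((e.trans (MulEquiv.funUnique (Fin 1) T)).isSimpleGroup)
  exfalso
  let F : Fin k → T →* L := fun i => e.symm.toMonoidHom.comp (MonoidHom.mulSingle (fun _ => T) i)
  have hFinj : ∀ i, Function.Injective (F i) := fun i => e.symm.injective.comp (Pi.mulSingle_injective (M := fun _ : Fin k => T) i)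
  haveI : ∀ i, (F i).range.Normal := fun i => by
    refine ⟨fun x hx g => ?_⟩
    obtain ⟨a, rfl⟩ := hx
    refine ⟨e g i * a * (e g i)⁻¹, e.injective ?_⟩
    simp only [F, MonoidHom.comp_apply, map_mul, map_inv, MulEquiv.coe_toMonoidHom, MulEquiv.apply_symm_apply]
    funext j
    by_cases hj : j = i
    · subst hj; simp
    · simp [hj]
  set P : Sylow 2 L := S.subtype hSL
  have hT2 : 2 ∣ Nat.card T := by
    have : Nat.card L = Nat.card T ^ k := by rw [Nat.card_congr e.toEquiv, Nat.card_fun, Nat.card_fin]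
    exact Nat.prime_two.dvd_of_dvd_pow (this ▸ hdvd)
  have hpick : ∀ i, ∃ z : (P : Subgroup L), z ∈ Subgroup.center (P : Subgroup L) ∧ orderOf z = 2 ∧
      (z : L) ∈ (F i).range := by
    intro i
    haveI : Finite T := Finite.of_injective _ (hFinj i)
    have hne : (F i).range.subgroupOf (P : Subgroup L) ≠ ⊥ := by
      intro h
      obtain ⟨a, ha⟩ := exists_prime_orderOf_dvd_card' 2 hT2
      obtain ⟨g, hg⟩ := exists_conj_mem_sylow P (t := F i a) (k := 1)
        (by rw [orderOf_injective _ (hFinj i), ha, pow_one])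
      have hm : (⟨_, hg⟩ : (P : Subgroup L)) ∈ (F i).range.subgroupOf (P : Subgroup L) :=
        Subgroup.mem_subgroupOf.mpr ((inferInstance : (F i).range.Normal).conj_mem (F i a) ⟨a, rfl⟩ g)
      rw [h, Subgroup.mem_bot] at hm
      have h1 : g * F i a * g⁻¹ = 1 := congrArg Subtype.val hm
      rw [conj_eq_one_iff, ← map_one (F i)] at h1
      rw [hFinj i h1, orderOf_one] at ha
      exact absurd ha (by norm_num)
    obtain ⟨z, hz1, hz2, hz3⟩ := PGroup.exists_central_order_p P.2 hne
    exact ⟨z, hz2, hz3, Subgroup.mem_subgroupOf.mp hz1⟩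
  obtain ⟨z, hzc, hzo, hz⟩ := hpick ⟨0, by omega⟩
  obtain ⟨w, hwc, hwo, hw⟩ := hpick ⟨1, by omega⟩
  have hzw : z = w := by
    let ε : (P : Subgroup L) ≃* (S : Subgroup Q) := Subgroup.subgroupOfEquivOfLe hSL
    have hεc : ∀ u, u ∈ Subgroup.center (P : Subgroup L) → ε u ∈ Subgroup.center (S : Subgroup Q) := by
      intro u hu
      refine Subgroup.mem_center_iff.mpr fun v => ε.symm.injective ?_
      rw [map_mul, map_mul, ε.symm_apply_apply]
      exact Subgroup.mem_center_iff.mp hu _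
    exact ε.injective (huni _ _ (hεc z hzc) (hεc w hwc) ((ε.orderOf_eq z).trans hzo) ((ε.orderOf_eq w).trans hwo))
  obtain ⟨a, ha⟩ := hz
  obtain ⟨b, hb⟩ := hw
  have h : F ⟨0, by omega⟩ a = F ⟨1, by omega⟩ b := by rw [ha, hb, hzw]
  have h' := congrFun (congrArg e h) ⟨0, by omega⟩
  simp [F] at h'
  rw [h', map_one] at ha
  have : z = 1 := Subtype.ext ha.symm
  rw [this, orderOf_one] at hzo
  norm_num at hzo


/-- Let G be a finite group with quasi-dihedral or wreathed Sylow 2-subgroups and no subgroup of index 2. Then G/O(G), the quotient by the largest normal subgroup of odd order, has a normal subgroup of odd index which is a non-abelian simple group. -/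
theorem result {G : Type*} [Group G] [Finite G] (S : Sylow 2 G) (hS : Cfsg.IsQuasiDihedral (S : Subgroup G) ∨ Cfsg.IsWreathed (S : Subgroup G)) (hG : ∀ H : Subgroup G, H.index ≠ 2) : ∃ L : Subgroup (G ⧸ Cfsg.oddCore G), L.Normal ∧ Odd L.index ∧ IsSimpleGroup L ∧ ¬ IsMulCommutative L := by
  have := Fact.mk Nat.prime_two
  set O := Cfsg.oddCore G
  set π := QuotientGroup.mk' O
  have hπ := QuotientGroup.mk'_surjective O
  let S' : Sylow 2 (G ⧸ O) := S.mapSurjective hπ
  have hinj : Function.Injective (π.comp (S : Subgroup G).subtype) := by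
    refine (injective_iff_map_eq_one _).mpr fun x hx => ?_
    have hxO : (x : G) ∈ O := (QuotientGroup.eq_one_iff _).mp hx
    obtain ⟨k, hk⟩ := IsPGroup.iff_orderOf.mp S.2 x
    have h1 : orderOf x ∣ Nat.card O := by
      rw [← Subgroup.orderOf_coe, ← Subgroup.orderOf_mk (x : G) hxO]
      exact orderOf_dvd_natCard _
    refine orderOf_eq_one_iff.mp (Nat.eq_one_of_dvd_coprimes (Nat.Coprime.pow_left k ?_) hk.dvd h1)
    exact (Cores.coprime_card_pPrimeCore 2).symm
  let e : (S : Subgroup G) ≃* (S' : Subgroup (G ⧸ O)) :=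
    (MonoidHom.ofInjective hinj).trans (MulEquiv.subgroupCongr (by
      rw [MonoidHom.range_comp, Subgroup.range_subtype]; rfl))
  have hG' : ∀ H : Subgroup (G ⧸ O), H.index ≠ 2 := fun H hH =>
    hG (H.comap π) (by rw [Subgroup.index_comap_of_surjective _ hπ, hH])
  have hO : Cfsg.pPrimeCore 2 (G ⧸ O) = ⊥ := Cores.pPrimeCore_quotient_self 2
  rcases hS with hS | hS
  · obtain ⟨n, ⟨d₀⟩⟩ := nonempty_qdData hS
    let d := qdMap d₀ e
    refine main S' (fun x y hx hy => (SD.involutions_conj d hG' hx).symm.trans (SD.involutions_conj d hG' hy))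
      hG' hO (fun h => ?_) ⟨d.a 1, ?_⟩ ?_
    · have h1 := h.is_comm.comm (d.b 0) (d.a 1)
      rw [d.a_mul_b, d.b_mul_a] at h1
      exact d.rexp_ne_one (by linear_combination d.b_injective h1)
    · rw [d.closure_involutions]
      refine d.isCoatom_dih.2 _ (lt_of_le_not_ge le_sup_left fun h => ?_)
      obtain ⟨k, hk | hk⟩ := d.mem_dih.mp (h (Subgroup.mem_sup_right (Subgroup.mem_zpowers (d.a (2 * 0 + 1)))
        |> fun hh => by simpa using hh))
      · exact two_mul_ne_odd d.one_le _ 0 (d.a_injective hk.symm |>.trans (by ring))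
      · exact d.a_ne_b _ _ hk
    · intro x y hx hy hxo hyo
      have : ∀ u, u ∈ Subgroup.center (S' : Subgroup (G ⧸ O)) → orderOf u = 2 → u = d.a (tp n (n - 1)) := by
        intro u hu huo
        rcases d.mem_center.mp hu with rfl | h
        · rw [orderOf_one] at huo; norm_num at huo
        · exact h
      rw [this x hx hxo, this y hy hyo]
  · obtain ⟨n, ⟨d₀⟩⟩ := nonempty_wrData hS
    let d := wrMap d₀ e
    refine main S' (fun x y hx hy => (WR.involutions_conj d hG' hx).symm.trans (WR.involutions_conj d hG' hy))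
      hG' hO (fun h => ?_)
      (S1200.result (S := (S' : Subgroup (G ⧸ O))) ⟨n, d.hn, d.card, d.x, d.y, d.z, d.order_x, d.comm,
        d.disj, d.order_z, d.rel⟩ n d.card).2 ?_
    · have h1 := h.is_comm.comm (d.b 0 0) (d.a 1 0)
      rw [d.a_mul_b, d.b_mul_a, d.b_inj] at h1
      exact d.nontrivial (by linear_combination -h1.1)
    · intro x y hx hy hxo hyo
      have : ∀ u, u ∈ Subgroup.center (S' : Subgroup (G ⧸ O)) → orderOf u = 2 →
          u = d.a (tp n (n - 1)) (tp n (n - 1)) := by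
        intro u hu huo
        obtain ⟨i, rfl⟩ := d.mem_center.mp hu
        obtain ⟨h1, h2⟩ := WrData.orderOf_eq_two.mp huo
        rw [d.a_mul_a, ← d.a_zero, d.a_inj, ← two_mul] at h1
        rcases (WR.two_mul_eq d).mp h1.1 with e | e
        · exact absurd (by rw [e, d.a_zero]) h2
        · rw [e]
      rw [this x hx hxo, this y hy hyo]

end Cfsg.Agent.S1214
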