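import Cfsg.Statements.S1219
import Cfsg.Agent.Lib.GLOrder.Basic

set_option autoImplicit false
open scoped MatrixGroups
open Cfsg

namespace Cfsg.Agent.S1219

open Matrix

variable {F : Type*} [Field F] [Fintype F]

theorem two_ne_zero' (hF : Odd (Fintype.card F)) : (2 : F) ≠ 0 := by
  refine Ring.two_ne_zero fun h => ?_
  have := FiniteField.even_card_of_char_two h
  rw [Nat.odd_iff] at hF
  omega

/-- The matrix `diag((det A)⁻¹, A)`. -/
def blockMat (A : Matrix (Fin 2) (Fin 2) F) : Matrix (Fin 3) (Fin 3) F :=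
  !![(Matrix.det A)⁻¹, 0, 0; 0, A 0 0, A 0 1; 0, A 1 0, A 1 1]

omit [Fintype F] in
theorem blockMat_one : blockMat (1 : Matrix (Fin 2) (Fin 2) F) = 1 := by
  ext i j
  fin_cases i <;> fin_cases j <;> simp [blockMat]

omit [Fintype F] in
theorem blockMat_mul (A B : Matrix (Fin 2) (Fin 2) F) : blockMat (A * B) = blockMat A * blockMat B := by
  ext i j
  fin_cases i <;> fin_cases j <;>
    simp [blockMat, Matrix.mul_apply, Fin.sum_univ_three, Fin.sum_univ_two, Matrix.det_mul, mul_comm]

/-- `A ↦ diag((det A)⁻¹, A)`. -/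
def blockHom : GL (Fin 2) F →* Matrix.SpecialLinearGroup (Fin 3) F where
  toFun A :=
    ⟨blockMat (A : Matrix (Fin 2) (Fin 2) F), by
      have h : Matrix.det (A : Matrix (Fin 2) (Fin 2) F) ≠ 0 := A.isUnit.map Matrix.detMonoidHom |>.ne_zero
      simp [blockMat, Matrix.det_fin_three, Matrix.det_fin_two] at h ⊢
      field_simp⟩
  map_one' := Subtype.ext (by simp [blockMat_one])
  map_mul' A B := Subtype.ext (blockMat_mul _ _)

omit [Fintype F] in
theorem blockHom_coe (A : GL (Fin 2) F) :
    (blockHom A : Matrix (Fin 3) (Fin 3) F) = blockMat (A : Matrix (Fin 2) (Fin 2) F) := rfl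

theorem blockHom_injective : Function.Injective (blockHom (F := F)) := by
  intro A B h
  have h' : blockMat (A : Matrix (Fin 2) (Fin 2) F) = blockMat (B : Matrix (Fin 2) (Fin 2) F) :=
    congrArg Subtype.val h
  apply Units.ext
  ext i j
  fin_cases i <;> fin_cases j
  · simpa [blockMat] using congrFun (congrFun h' 1) 1
  · simpa [blockMat] using congrFun (congrFun h' 1) 2
  · simpa [blockMat] using congrFun (congrFun h' 2) 1
  · simpa [blockMat] using congrFun (congrFun h' 2) 2

theorem commute_blockHom (A : GL (Fin 2) F) :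
    diagonal ![(1 : F), -1, -1] * (blockHom A : Matrix (Fin 3) (Fin 3) F) =
      (blockHom A : Matrix (Fin 3) (Fin 3) F) * diagonal ![(1 : F), -1, -1] := by
  rw [blockHom_coe]
  ext i j
  fin_cases i <;> fin_cases j <;> simp [blockMat, Matrix.diagonal_mul, Matrix.mul_diagonal]

theorem exists_blockHom (h2 : (2 : F) ≠ 0) (g : Matrix.SpecialLinearGroup (Fin 3) F)
    (h : diagonal ![(1 : F), -1, -1] * (g : Matrix (Fin 3) (Fin 3) F) =
      (g : Matrix (Fin 3) (Fin 3) F) * diagonal ![(1 : F), -1, -1]) :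
    ∃ A, blockHom A = g := by
  have hz : ∀ i j : Fin 3, (![(1 : F), -1, -1] i - ![(1 : F), -1, -1] j) * g.1 i j = 0 := by
    intro i j
    have := congrFun (congrFun h i) j
    rw [Matrix.diagonal_mul, Matrix.mul_diagonal] at this
    linear_combination this
  have e01 := hz 0 1
  have e02 := hz 0 2
  have e10 := hz 1 0
  have e20 := hz 2 0
  simp only [cons_val_zero, cons_val_one, cons_val_two, head_cons, tail_cons] at e01 e02 e10 e20
  have f01 : g.1 0 1 = 0 := by
    refine (mul_eq_zero.mp e01).resolve_left fun e => h2 ?_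
    linear_combination e
  have f02 : g.1 0 2 = 0 := by
    refine (mul_eq_zero.mp e02).resolve_left fun e => h2 ?_
    linear_combination e
  have f10 : g.1 1 0 = 0 := by
    refine (mul_eq_zero.mp e10).resolve_left fun e => h2 ?_
    linear_combination -e
  have f20 : g.1 2 0 = 0 := by
    refine (mul_eq_zero.mp e20).resolve_left fun e => h2 ?_
    linear_combination -e
  set M : Matrix (Fin 2) (Fin 2) F := !![g.1 1 1, g.1 1 2; g.1 2 1, g.1 2 2]
  have hdet : g.1 0 0 * M.det = 1 := by
    have := g.2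
    rw [Matrix.det_fin_three, f01, f02, f10, f20] at this
    simp [M, Matrix.det_fin_two]
    linear_combination this
  refine ⟨GeneralLinearGroup.mkOfDetNeZero M (fun e => by rw [e, mul_zero] at hdet; exact zero_ne_one hdet), ?_⟩
  apply Subtype.ext
  show blockMat M = g.1
  ext i j
  fin_cases i <;> fin_cases j <;> simp [blockMat, M, f01, f02, f10, f20]
  rw [Matrix.det_fin_two] at hdet
  simp [M] at hdet
  first
    | exact inv_eq_of_mul_eq_one_left hdet
    | exact (eq_inv_of_mul_eq_one_left hdet).symm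

theorem exists_diag (h2 : (2 : F) ≠ 0) (M : Matrix (Fin 3) (Fin 3) F) (hsq : M * M = 1) (hdet : M.det = 1)
    (hne : M ≠ 1) :
    ∃ P : GL (Fin 3) F, M * (P : Matrix (Fin 3) (Fin 3) F) =
      (P : Matrix (Fin 3) (Fin 3) F) * diagonal ![(1 : F), -1, -1] := by
  set f : (Fin 3 → F) →ₗ[F] (Fin 3 → F) := Matrix.toLin' M
  have hff : ∀ v, f (f v) = v := fun v => by
    simp only [f, Matrix.toLin'_apply, Matrix.mulVec_mulVec, hsq, Matrix.one_mulVec]
  set Ep : Submodule F (Fin 3 → F) := LinearMap.ker (f - LinearMap.id)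
  set Em : Submodule F (Fin 3 → F) := LinearMap.ker (f + LinearMap.id)
  have hp : ∀ v, v ∈ Ep → f v = v := fun v hv => sub_eq_zero.mp (LinearMap.mem_ker.mp hv)
  have hm : ∀ v, v ∈ Em → f v = -v := fun v hv => eq_neg_of_add_eq_zero_left (LinearMap.mem_ker.mp hv)
  have hc : IsCompl Ep Em := by
    constructor
    · rw [Submodule.disjoint_def]
      intro v hv hv'
      have h := (hp v hv).symm.trans (hm v hv')
      have : (2 : F) • v = 0 := by rw [two_smul]; nth_rw 2 [h]; exact add_neg_cancel v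
      exact (smul_eq_zero.mp this).resolve_left h2
    · rw [codisjoint_iff_le_sup]
      intro v _
      have : v = (2 : F)⁻¹ • (v + f v) + (2 : F)⁻¹ • (v - f v) := by
        rw [← smul_add, add_add_sub_cancel, ← two_smul F, smul_smul, inv_mul_cancel₀ h2, one_smul]
      rw [this]
      refine Submodule.add_mem_sup (Submodule.smul_mem _ _ ?_) (Submodule.smul_mem _ _ ?_) <;>
        simp [Ep, Em, LinearMap.mem_ker, hff] <;> abel
  let b₀ := ((Module.finBasis F Ep).prod (Module.finBasis F Em)).map (Submodule.prodEquivOfIsCompl _ _ hc)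
  have hb : ∀ i, f (b₀ i) = Sum.elim (fun _ => (1 : F)) (fun _ => -1) i • b₀ i := by
    rintro (i | i)
    · simp [b₀, hp _ (Module.finBasis F Ep i).2]
    · simp [b₀, hm _ (Module.finBasis F Em i).2]
  have hsum : Module.finrank F Ep + Module.finrank F Em = 3 := by
    rw [Submodule.finrank_add_eq_of_isCompl hc, Module.finrank_fin_fun]
  have hdetf : LinearMap.det f = (-1) ^ Module.finrank F Em := by
    rw [← LinearMap.det_toMatrix b₀]
    have : LinearMap.toMatrix b₀ b₀ f = diagonal (Sum.elim (fun _ => (1 : F)) (fun _ => -1)) := by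
      ext i j
      rw [LinearMap.toMatrix_apply, hb, map_smul, Finsupp.smul_apply, Module.Basis.repr_self, Matrix.diagonal_apply]
      rcases eq_or_ne i j with h | h
      · subst h; simp
      · rw [if_neg h, Finsupp.single_eq_of_ne h]; simp
    rw [this, Matrix.det_diagonal, Fintype.prod_sum_type]
    simp
  have hEm : Module.finrank F Em = 2 := by
    rw [LinearMap.det_toLin', hdet] at hdetf
    have hle : Module.finrank F Em ≤ 3 := by omega
    have hne' : Module.finrank F Em ≠ 0 := by
      intro h0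
      apply hne
      have hbot : Em = ⊥ := Submodule.finrank_eq_zero.mp h0
      have htop : Ep = ⊤ := by have := hc.sup_eq_top; rwa [hbot, sup_bot_eq] at this
      refine Matrix.toLin'.injective (LinearMap.ext fun v => ?_)
      rw [Matrix.toLin'_one]
      exact hp v (htop ▸ Submodule.mem_top)
    have hneg : (-1 : F) ≠ 1 := fun e => h2 (by linear_combination -e)
    rcases (show Module.finrank F Em = 1 ∨ Module.finrank F Em = 2 ∨ Module.finrank F Em = 3 by omega) with
      h | h | h
    · rw [h, pow_one] at hdetf; exact absurd hdetf.symm hneg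
    · exact h
    · exfalso; apply hneg; rw [h] at hdetf; linear_combination -hdetf
  let e : Fin (Module.finrank F Ep) ⊕ Fin (Module.finrank F Em) ≃ Fin 3 :=
    finSumFinEquiv.trans (finCongr hsum)
  let b := b₀.reindex e
  have hd : ∀ j, Sum.elim (fun _ => (1 : F)) (fun _ => -1) (e.symm j) = ![(1 : F), -1, -1] j := by
    intro j
    obtain ⟨i, rfl⟩ := e.surjective j
    rw [Equiv.symm_apply_apply]
    have hEp : Module.finrank F Ep = 1 := by omega
    rcases i with i | i
    · have : (e (Sum.inl i) : ℕ) = i := by simp [e]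
      have h0 : e (Sum.inl i) = 0 := Fin.ext (by rw [this]; have := i.isLt; simp; omega)
      simp [h0]
    · have : (e (Sum.inr i) : ℕ) = Module.finrank F Ep + i := by simp [e]
      have hi := i.isLt
      rcases (show (i : ℕ) = 0 ∨ (i : ℕ) = 1 by omega) with h | h
      · have h0 : e (Sum.inr i) = 1 := Fin.ext (by rw [this, hEp, h]; rfl)
        simp [h0]
      · have h0 : e (Sum.inr i) = 2 := Fin.ext (by rw [this, hEp, h]; rfl)
        simp [h0]
  set P : Matrix (Fin 3) (Fin 3) F := (Pi.basisFun F (Fin 3)).toMatrix b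
  haveI : Invertible P := Module.Basis.invertibleToMatrix _ _
  refine ⟨unitOfInvertible P, ?_⟩
  show M * P = P * _
  ext i j
  have h := congrFun (hb (e.symm j)) i
  rw [hd j] at h
  rw [Matrix.mul_diagonal, Matrix.mul_apply]
  simp only [f, Matrix.toLin'_apply, Matrix.mulVec, dotProduct, Pi.smul_apply, smul_eq_mul] at h
  simp only [P, Module.Basis.toMatrix_apply, Pi.basisFun_repr, b, Module.Basis.reindex_apply]
  rw [h, mul_comm]


/-- Let F be a finite field of odd order q and t an involution of PSL(3,F). Then C(t) is isomorphic to the quotient of GL(2,F) by a central subgroup of order gcd(q−1, 3). -/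
theorem result {F : Type*} [Field F] [Fintype F] (hF : Odd (Fintype.card F)) (t : Matrix.ProjectiveSpecialLinearGroup (Fin 3) F) (ht : orderOf t = 2) : ∃ (Z : Subgroup (GL (Fin 2) F)) (_ : Z.Normal), Z ≤ Subgroup.center (GL (Fin 2) F) ∧ Nat.card Z = Nat.gcd (Fintype.card F - 1) 3 ∧ Nonempty (↥(Subgroup.centralizer ({t} : Set (Matrix.ProjectiveSpecialLinearGroup (Fin 3) F))) ≃* GL (Fin 2) F ⧸ Z) := by
  classical
  have h2 := two_ne_zero' hF
  set π : Matrix.SpecialLinearGroup (Fin 3) F →* ProjectiveSpecialLinearGroup (Fin 3) F := QuotientGroup.mk' _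
  have hπ : Function.Surjective π := QuotientGroup.mk'_surjective _
  have hker : ∀ g, π g = 1 ↔ g ∈ Subgroup.center (Matrix.SpecialLinearGroup (Fin 3) F) :=
    fun g => QuotientGroup.eq_one_iff g
  have hcube : ∀ c ∈ Subgroup.center (Matrix.SpecialLinearGroup (Fin 3) F), c ^ 3 = 1 := by
    intro c hc
    obtain ⟨r, hr, hrc⟩ := Matrix.SpecialLinearGroup.mem_center_iff.mp hc
    apply Subtype.ext
    rw [Fintype.card_fin] at hr
    rw [Matrix.SpecialLinearGroup.coe_pow, ← hrc, ← map_pow, hr, map_one, Matrix.SpecialLinearGroup.coe_one]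
  -- an involutory lift
  obtain ⟨s, hs⟩ := hπ t
  have hc : s ^ 2 ∈ Subgroup.center (Matrix.SpecialLinearGroup (Fin 3) F) := by
    rw [← hker, map_pow, hs, ← ht, pow_orderOf_eq_one]
  obtain ⟨g, hgdef⟩ : ∃ g, g = s * s ^ 2 := ⟨_, rfl⟩
  have hgt : π g = t := by rw [hgdef, map_mul, hs, (hker _).mpr hc, mul_one]
  have hgg : g * g = 1 := by
    have := hcube _ hc
    rw [show g * g = (s ^ 2) ^ 3 by rw [hgdef]; group]
    exact this
  obtain ⟨P, hP⟩ := exists_diag h2 (g : Matrix (Fin 3) (Fin 3) F)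
    (by rw [← Matrix.SpecialLinearGroup.coe_mul, hgg, Matrix.SpecialLinearGroup.coe_one]) g.2
    (fun h => by
      have : g = 1 := Subtype.ext h
      rw [this, map_one] at hgt
      rw [← hgt, orderOf_one] at ht
      exact absurd ht (by norm_num))
  let c : Matrix.SpecialLinearGroup (Fin 3) F →* Matrix.SpecialLinearGroup (Fin 3) F :=
    { toFun := fun x => ⟨(P : Matrix (Fin 3) (Fin 3) F) * x.1 * ((P⁻¹ : GL (Fin 3) F) : Matrix (Fin 3) (Fin 3) F),
        by rw [Matrix.det_units_conj, x.2]⟩
      map_one' := Subtype.ext (by simp)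
      map_mul' := fun x y => Subtype.ext (show (P : Matrix (Fin 3) (Fin 3) F) * (x.1 * y.1) *
        ((P⁻¹ : GL (Fin 3) F) : Matrix (Fin 3) (Fin 3) F) =
        (P : Matrix (Fin 3) (Fin 3) F) * x.1 * ((P⁻¹ : GL (Fin 3) F) : Matrix (Fin 3) (Fin 3) F) *
          ((P : Matrix (Fin 3) (Fin 3) F) * y.1 * ((P⁻¹ : GL (Fin 3) F) : Matrix (Fin 3) (Fin 3) F)) by
        simp [Matrix.mul_assoc]) }
  have hc_coe : ∀ x, (c x : Matrix (Fin 3) (Fin 3) F) =
      (P : Matrix (Fin 3) (Fin 3) F) * x.1 * ((P⁻¹ : GL (Fin 3) F) : Matrix (Fin 3) (Fin 3) F) := fun x => rfl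
  have hcinj : Function.Injective c := fun x y h => Subtype.ext
    ((Units.mul_right_inj P).mp ((Units.mul_left_inj P⁻¹).mp (congrArg Subtype.val h)))
  let ψ := c.comp blockHom
  have hgd : (g : Matrix (Fin 3) (Fin 3) F) =
      (P : Matrix (Fin 3) (Fin 3) F) * diagonal ![(1 : F), -1, -1] *
        ((P⁻¹ : GL (Fin 3) F) : Matrix (Fin 3) (Fin 3) F) := by
    rw [← hP, Matrix.mul_assoc, Units.mul_inv, Matrix.mul_one]
  have hcomm : ∀ A, ψ A * g = g * ψ A := by
    intro A
    apply Subtype.ext
    rw [Matrix.SpecialLinearGroup.coe_mul, Matrix.SpecialLinearGroup.coe_mul, hgd]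
    simp only [ψ, MonoidHom.comp_apply, hc_coe]
    simp only [Matrix.mul_assoc, Units.inv_mul_cancel_left]
    rw [← Matrix.mul_assoc (blockHom A : Matrix (Fin 3) (Fin 3) F), ← commute_blockHom A, Matrix.mul_assoc]
  have hsurj : ∀ x : Matrix.SpecialLinearGroup (Fin 3) F, x * g = g * x → ∃ A, ψ A = x := by
    intro x hx
    let x' : Matrix.SpecialLinearGroup (Fin 3) F :=
      ⟨((P⁻¹ : GL (Fin 3) F) : Matrix (Fin 3) (Fin 3) F) * x.1 * (P : Matrix (Fin 3) (Fin 3) F),
        by rw [Matrix.det_units_conj', x.2]⟩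
    have hx' : c x' = x := Subtype.ext (by rw [hc_coe]; simp [x', Matrix.mul_assoc])
    have h1 := congrArg Subtype.val hx
    rw [Matrix.SpecialLinearGroup.coe_mul, Matrix.SpecialLinearGroup.coe_mul, hgd] at h1
    obtain ⟨A, hA⟩ := exists_blockHom h2 x' (by
      have h3 := congrArg (fun M => ((P⁻¹ : GL (Fin 3) F) : Matrix (Fin 3) (Fin 3) F) * M *
        (P : Matrix (Fin 3) (Fin 3) F)) h1
      simp only [Matrix.mul_assoc, Units.inv_mul_cancel_left, Units.inv_mul, Matrix.mul_one] at h3
      simp only [x', Matrix.mul_assoc] at h3 ⊢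
      exact h3.symm)
    exact ⟨A, by simp only [ψ, MonoidHom.comp_apply, hA, hx']⟩
  let φ : GL (Fin 2) F →* Subgroup.centralizer ({t} : Set (ProjectiveSpecialLinearGroup (Fin 3) F)) :=
    (π.comp ψ).codRestrict _ fun A => Subgroup.mem_centralizer_singleton_iff.mpr (by
      rw [MonoidHom.comp_apply, ← hgt, ← map_mul, hcomm, map_mul])
  have hφ : Function.Surjective φ := by
    rintro ⟨y, hy⟩
    obtain ⟨x, rfl⟩ := hπ y
    have h1 := Subgroup.mem_centralizer_singleton_iff.mp hy
    rw [← hgt, ← map_mul, ← map_mul] at h1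
    set k := (g * x)⁻¹ * (x * g)
    have hk : k ∈ Subgroup.center (Matrix.SpecialLinearGroup (Fin 3) F) := by
      rw [← hker, map_mul, map_inv, h1, inv_mul_cancel]
    have hxk : x * g = g * x * k := by simp only [k]; group
    have hk2 : k ^ 2 = 1 := by
      have hcc := Subgroup.mem_center_iff.mp hk
      have : x = x * k ^ 2 := by
        calc x = x * g * g := by rw [mul_assoc, hgg, mul_one]
          _ = g * x * k * g := by rw [hxk]
          _ = g * (x * g) * k := by rw [mul_assoc (g * x) k g, ← hcc g]; group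
          _ = g * g * x * (k * k) := by rw [hxk]; group
          _ = x * k ^ 2 := by rw [hgg, one_mul, pow_two]
      exact left_eq_mul.mp this
    have hk1 : k = 1 := by
      have := hcube k hk
      rw [pow_succ, hk2, one_mul] at this
      exact this
    rw [hk1, mul_one] at hxk
    obtain ⟨A, hA⟩ := hsurj x hxk
    exact ⟨A, Subtype.ext (congrArg π hA)⟩
  have hmem : ∀ A, A ∈ φ.ker ↔ ψ A ∈ Subgroup.center (Matrix.SpecialLinearGroup (Fin 3) F) := by
    intro A
    rw [MonoidHom.mem_ker, ← hker, ← OneMemClass.coe_eq_one]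
    rfl
  have hψinj : Function.Injective ψ := hcinj.comp blockHom_injective
  refine ⟨φ.ker, MonoidHom.normal_ker _, fun A hA => ?_, ?_, ⟨(QuotientGroup.quotientKerEquivOfSurjective φ hφ).symm⟩⟩
  · refine Subgroup.mem_center_iff.mpr fun B => hψinj ?_
    rw [map_mul, map_mul]
    exact Subgroup.mem_center_iff.mp ((hmem A).mp hA) _
  · have e : φ.ker ≃ Subgroup.center (Matrix.SpecialLinearGroup (Fin 3) F) := by
      refine Equiv.ofBijective (fun A => ⟨ψ A, (hmem A).mp A.2⟩) ⟨fun A B h => ?_, fun k => ?_⟩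
      · exact Subtype.ext (hψinj (congrArg Subtype.val h))
      · obtain ⟨A, hA⟩ := hsurj k (Subgroup.mem_center_iff.mp k.2 g).symm
        exact ⟨⟨A, (hmem A).mpr (hA ▸ k.2)⟩, Subtype.ext hA⟩
    rw [Nat.card_congr e, GLOrder.card_center_SL, Fintype.card_fin, Nat.gcd_comm, Nat.card_eq_fintype_card]

end Cfsg.Agent.S1219
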