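import Cfsg.Statements.S1227
import Cfsg.Agent.Lib.TwoFusion.ElemCentralizers

set_option autoImplicit false
open Cfsg

namespace Cfsg.Agent.S1227

open TwoFusion.ElemCent MulAction in
theorem inter_eq {G : Type*} [Group G] [Finite G] {T : Sylow 2 G} (u : G) :
    H T ⊓ (H T).map (MulAut.conj u).toMonoidHom = D2 (base T) (u • base T) := by
  have h1 : stabilizer G (base T) = H T := by
    ext g
    exact mem_stabilizer_iff.trans fix_base
  rw [D2, stabilizer_smul_eq_stabilizer_map_conj, h1]

/-- Let G be a finite group with a Sylow 2-subgroup T that is neither cyclic nor normal, such that the centralizer of every involution is an elementary abelian 2-group; put H = N_G(T), let u be an involution outside H and D = H ∩ uHu⁻¹. Then u inverts every element of D, |H| = |T|·(|T| − 1), and D is a complement to T in H. -/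
theorem result {G : Type*} [Group G] [Finite G] (T : Sylow 2 G) (hnc : ¬ IsCyclic (T : Subgroup G)) (hnn : ¬ (T : Subgroup G).Normal) (hC : ∀ t : G, orderOf t = 2 → IsMulCommutative (Subgroup.centralizer ({t} : Set G)) ∧ ∀ c ∈ Subgroup.centralizer ({t} : Set G), c ^ 2 = 1) (u : G) (hu : orderOf u = 2) (huH : u ∉ Subgroup.normalizer ((T : Subgroup G) : Set G)) : (∀ d ∈ Subgroup.normalizer ((T : Subgroup G) : Set G) ⊓ (Subgroup.normalizer ((T : Subgroup G) : Set G)).map (MulAut.conj u).toMonoidHom, u * d * u⁻¹ = d⁻¹) ∧ Nat.card (Subgroup.normalizer ((T : Subgroup G) : Set G)) = Nat.card T * (Nat.card T - 1) ∧ Subgroup.IsComplement' ((Subgroup.normalizer ((T : Subgroup G) : Set G) ⊓ (Subgroup.normalizer ((T : Subgroup G) : Set G)).map (MulAut.conj u).toMonoidHom).subgroupOf (Subgroup.normalizer ((T : Subgroup G) : Set G))) ((T : Subgroup G).subgroupOf (Subgroup.normalizer ((T : Subgroup G) : Set G))) := by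
  have h : TwoFusion.ElemCent.Hyp T := ⟨hnc, hnn, hC⟩
  open TwoFusion.ElemCent in
  have hne : base T ≠ u • base T := fun he => huH (fix_base.mp he.symm)
  open TwoFusion.ElemCent in
  refine ⟨fun d hd => inverts_D2 h hu hne rfl d ((inter_eq u).le hd), ?_, ?_⟩
  · exact TwoFusion.ElemCent.card_H h
  · apply Subgroup.isComplement'_of_card_mul_and_disjoint
    · open TwoFusion.ElemCent in
      rw [Nat.card_congr (Subgroup.subgroupOfEquivOfLe inf_le_left).toEquiv,
        Nat.card_congr (Subgroup.subgroupOfEquivOfLe Subgroup.le_normalizer).toEquiv]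
      open TwoFusion.ElemCent in
      change Nat.card ↥(H T ⊓ (H T).map (MulAut.conj u).toMonoidHom) * Nat.card T = Nat.card (H T)
      open TwoFusion.ElemCent in
      rw [inter_eq, (fib_eq h hne).2, card_H h, mul_comm]
    · open TwoFusion.ElemCent MulAction in
      refine disjoint_iff.mpr (le_bot_iff.mp fun x hx => ?_)
      have h1 := (inter_eq u).le (Subgroup.mem_subgroupOf.mp hx.1)
      exact Subtype.ext (TwoFusion.ElemCent.T_free h (Subgroup.mem_subgroupOf.mp hx.2) hne.symm
        (MulAction.mem_stabilizer_iff.mp h1.2))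

end Cfsg.Agent.S1227
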