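import Cfsg.Statements.S1228
import Cfsg.Agent.Lib.TwoFusion.ElemCentralizers

set_option autoImplicit false
open Cfsg

namespace Cfsg.Agent.S1228

open TwoFusion.ElemCent MulAction in
theorem inter_eq {G : Type*} [Group G] [Finite G] {T : Sylow 2 G} (u : G) :
    H T ⊓ (H T).map (MulAut.conj u).toMonoidHom = D2 (base T) (u • base T) := by
  have h1 : stabilizer G (base T) = H T := by
    ext g
    exact mem_stabilizer_iff.trans fix_base
  rw [D2, stabilizer_smul_eq_stabilizer_map_conj, h1]

open TwoFusion.ElemCent MulAction in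
theorem fixed_iff {G : Type*} [Group G] [Finite G] {T : Sylow 2 G} (h : Hyp T) {u : G}
    (hne : base T ≠ u • base T) (x : Pts T) :
    (∀ d ∈ D2 (base T) (u • base T), d • x = x) ↔ x = base T ∨ x = u • base T := by
  constructor
  · intro hfix
    have : Nontrivial (D2 (base T) (u • base T)) := by
      rw [← Finite.one_lt_card_iff_nontrivial, (fib_eq h hne).2]
      have := three_le_m h
      omega
    obtain ⟨d, hd⟩ := exists_ne (1 : D2 (base T) (u • base T))
    exact fixed_two_points h (fun hc => hd (Subtype.ext hc)) hne (mem_stabilizer_iff.mp d.2.1)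
      (mem_stabilizer_iff.mp d.2.2) (hfix d d.2)
  · rintro (rfl | rfl) d hd
    · exact mem_stabilizer_iff.mp hd.1
    · exact mem_stabilizer_iff.mp hd.2

open TwoFusion.ElemCent MulAction in
theorem core {G : Type*} [Group G] [Finite G] {T : Sylow 2 G} (h : Hyp T) {u : G} (hu : orderOf u = 2)
    (hne : base T ≠ u • base T) :
    Subgroup.normalizer ((D2 (base T) (u • base T) : Subgroup G) : Set G) =
      D2 (base T) (u • base T) ⊔ Subgroup.zpowers u := by
  set y := u • base T with hy
  apply le_antisymm
  · intro g hg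
    have hperm : ∀ x : Pts T, (x = base T ∨ x = y) → g • x = base T ∨ g • x = y := by
      intro x hx
      refine (fixed_iff h hne _).mp fun d hd => ?_
      have h1 := (fixed_iff h hne x).mpr hx _ ((Subgroup.mem_normalizer_iff''.mp hg d).mp hd)
      rw [mul_smul, mul_smul, inv_smul_eq_iff] at h1
      exact h1
    rcases hperm _ (Or.inl rfl) with h0 | h0
    · refine Subgroup.mem_sup_left (Subgroup.mem_inf.mpr ⟨h0, ?_⟩)
      rcases hperm y (Or.inr rfl) with h1 | h1
      · exact absurd (MulAction.injective g (h0.trans h1.symm)) hne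
      · exact h1
    · have hgu : g • y = base T := by
        rcases hperm y (Or.inr rfl) with h1 | h1
        · exact h1
        · exact absurd (MulAction.injective g (h0.trans h1.symm)) hne
      have hm : g * u ∈ D2 (base T) y := by
        refine Subgroup.mem_inf.mpr ⟨?_, ?_⟩
        · rw [mem_stabilizer_iff, mul_smul, ← hy, hgu]
        · rw [mem_stabilizer_iff, mul_smul, swap_point hu hy.symm, h0]
      have := (D2 (base T) y ⊔ Subgroup.zpowers u).mul_mem (Subgroup.mem_sup_left hm)
        (Subgroup.mem_sup_right (Subgroup.inv_mem _ (Subgroup.mem_zpowers u)))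
      rwa [mul_inv_cancel_right] at this
  · refine sup_le Subgroup.le_normalizer (Subgroup.zpowers_le.mpr ?_)
    rw [Subgroup.mem_normalizer_iff]
    intro d
    have hinv := inverts_D2 h hu hne hy.symm
    constructor
    · intro hd
      rw [hinv d hd]
      exact (D2 (base T) y).inv_mem hd
    · intro hd
      have h2 := hinv _ hd
      rw [involution_inv hu] at hd h2
      have huu : u * u = 1 := by rw [← sq, ← hu, pow_orderOf_eq_one]
      have h3 : u * (u * d * u) * u = d := by
        calc u * (u * d * u) * u = (u * u) * d * (u * u) := by group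
          _ = d := by rw [huu, one_mul, mul_one]
      rw [h3] at h2
      rw [h2]
      exact (D2 (base T) y).inv_mem hd

/-- Let G be a finite group with a Sylow 2-subgroup T that is neither cyclic nor normal, such that the centralizer of every involution is an elementary abelian 2-group; put H = N_G(T), let u be an involution outside H and D = H ∩ uHu⁻¹. Then N_G(D) = D ⊔ ⟨u⟩, and a coset gH is fixed by every element of D exactly when gH = H or gH = uH. -/
theorem result {G : Type*} [Group G] [Finite G] (T : Sylow 2 G) (hnc : ¬ IsCyclic (T : Subgroup G)) (hnn : ¬ (T : Subgroup G).Normal) (hC : ∀ t : G, orderOf t = 2 → IsMulCommutative (Subgroup.centralizer ({t} : Set G)) ∧ ∀ c ∈ Subgroup.centralizer ({t} : Set G), c ^ 2 = 1) (u : G) (hu : orderOf u = 2) (huH : u ∉ Subgroup.normalizer ((T : Subgroup G) : Set G)) : Subgroup.normalizer ((Subgroup.normalizer ((T : Subgroup G) : Set G) ⊓ (Subgroup.normalizer ((T : Subgroup G) : Set G)).map (MulAut.conj u).toMonoidHom : Subgroup G) : Set G) = (Subgroup.normalizer ((T : Subgroup G) : Set G) ⊓ (Subgroup.normalizer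 ((T : Subgroup G) : Set G)).map (MulAut.conj u).toMonoidHom) ⊔ Subgroup.zpowers u ∧ ∀ g : G, ((∀ d ∈ Subgroup.normalizer ((T : Subgroup G) : Set G) ⊓ (Subgroup.normalizer ((T : Subgroup G) : Set G)).map (MulAut.conj u).toMonoidHom, d • (QuotientGroup.mk g : G ⧸ Subgroup.normalizer ((T : Subgroup G) : Set G)) = QuotientGroup.mk g) ↔ (QuotientGroup.mk g : G ⧸ Subgroup.normalizer ((T : Subgroup G) : Set G)) = QuotientGroup.mk 1 ∨ (QuotientGroup.mk g : G ⧸ Subgroup.normalizer ((T : Subgroup G) : Set G)) = QuotientGroup.mk u) := by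
  have h : TwoFusion.ElemCent.Hyp T := ⟨hnc, hnn, hC⟩
  open TwoFusion.ElemCent in
  have hne : base T ≠ u • base T := fun he => huH (fix_base.mp he.symm)
  open TwoFusion.ElemCent in
  refine ⟨?_, fun g => ?_⟩
  · open TwoFusion.ElemCent in
    change Subgroup.normalizer ((H T ⊓ (H T).map (MulAut.conj u).toMonoidHom : Subgroup G) : Set G) =
      (H T ⊓ (H T).map (MulAut.conj u).toMonoidHom) ⊔ Subgroup.zpowers u
    rw [inter_eq]
    exact core h hu hne
  · open TwoFusion.ElemCent in
    change (∀ d ∈ H T ⊓ (H T).map (MulAut.conj u).toMonoidHom, d • (QuotientGroup.mk g : Pts T) = QuotientGroup.mk g) ↔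
      (QuotientGroup.mk g : Pts T) = base T ∨ (QuotientGroup.mk g : Pts T) = QuotientGroup.mk u
    open TwoFusion.ElemCent in
    rw [inter_eq, ← smul_base u]
    exact fixed_iff h hne _

end Cfsg.Agent.S1228
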