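import Cfsg.Statements.S1231
import Cfsg.Agent.EqLemmas

set_option autoImplicit false
open Cfsg

namespace Cfsg.Agent.S1231

/-- A group mapping injectively has the smaller rank. -/
theorem rank_mono {p k : ℕ} {A B : Type*} [Group A] [Finite A] [Group B] [Finite B] (f : A →* B)
    (hf : Function.Injective f) (h : Cfsg.PRankLE p k B) : Cfsg.PRankLE p k A := by
  intro E hE hEp
  rw [← Subgroup.card_map_of_injective hf]
  refine h _ ?_ ?_
  · exact ⟨⟨fun a b => by
      obtain ⟨x, hx, hxa⟩ := a.2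
      obtain ⟨y, hy, hyb⟩ := b.2
      have := congrArg Subtype.val (hE.is_comm.comm (⟨x, hx⟩ : E) ⟨y, hy⟩)
      exact Subtype.ext (by rw [Subgroup.coe_mul, Subgroup.coe_mul, ← hxa, ← hyb, ← map_mul, ← map_mul]; exact congrArg f this)⟩⟩
  · rintro _ ⟨x, hx, rfl⟩
    rw [← map_pow, hEp x hx, map_one]

/-- A rank bound for a group is detected on its `p`-subgroups. -/
theorem exists_pSubgroup {G : Type*} [Group G] [Finite G] {p k : ℕ} [Fact p.Prime] {K : Subgroup G}
    (h : ¬ Cfsg.PRankLE p k K) : ∃ A : Subgroup G, A ≤ K ∧ IsPGroup p A ∧ ¬ Cfsg.PRankLE p k A := by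
  simp only [Cfsg.PRankLE, not_forall, not_le] at h
  obtain ⟨E, hE, hEp, hEcard⟩ := h
  refine ⟨E.map K.subtype, Subgroup.map_subtype_le _, ?_, ?_⟩
  · refine IsPGroup.map (fun a => ⟨1, Subtype.ext ?_⟩) _
    simpa using hEp a.1 a.2
  · intro hA
    have := rank_mono ((E.equivMapOfInjective K.subtype K.subtype_injective).toMonoidHom)
      (MulEquiv.injective _) hA
    have h1 := this ⊤ ⟨⟨fun a b => Subtype.ext (hE.is_comm.comm a.1 b.1)⟩⟩
      (fun a _ => Subtype.ext (by simpa using hEp a.1 a.2))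
    rw [Subgroup.card_top] at h1
    omega

/-- Let H be a subgroup of the finite group G, p a prime, k ≥ 1, and P a Sylow p-subgroup of H whose p-rank is at least k. Then N_G(X) ≤ H for every subgroup X of P of p-rank at least k if and only if H ∩ gHg⁻¹ has p-rank less than k for every g ∉ H. -/
theorem result {G : Type*} [Group G] [Finite G] {p : ℕ} [Fact p.Prime] (k : ℕ) (hk : 1 ≤ k) (H : Subgroup G) (P : Sylow p ↥H) (hP : ¬ Cfsg.PRankLE p (k - 1) ↥(P : Subgroup ↥H)) : (∀ X : Subgroup G, X ≤ (P : Subgroup ↥H).map H.subtype → ¬ Cfsg.PRankLE p (k - 1) ↥X → Subgroup.normalizer (X : Set G) ≤ H) ↔ (∀ g : G, g ∉ H → Cfsg.PRankLE p (k - 1) ↥(H ⊓ H.map (MulAut.conj g).toMonoidHom)) := by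
  constructor
  · intro hN
    -- every `p`-subgroup of `H` of rank at least `k` has its normalizer in `H`
    have hNH : ∀ X : Subgroup G, X ≤ H → IsPGroup p X → ¬ Cfsg.PRankLE p (k - 1) X →
        Subgroup.normalizer (X : Set G) ≤ H := by
      intro X hXH hXp hXr
      obtain ⟨R, hR⟩ := (hXp.comap_subtype (K := H)).exists_le_sylow
      obtain ⟨h, hh⟩ := MulAction.exists_smul_eq H R P
      have hle : X.map (MulAut.conj (h : G)).toMonoidHom ≤ (P : Subgroup H).map H.subtype := by
        rintro _ ⟨x, hx, rfl⟩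
        refine ⟨MulAut.conj h ⟨x, hXH hx⟩, ?_, rfl⟩
        rw [← hh, Sylow.coe_subgroup_smul]
        exact Subgroup.smul_mem_pointwise_smul _ _ _ (hR (Subgroup.mem_subgroupOf.mpr hx))
      have hN' := hN _ hle (fun hr => hXr (rank_mono
        (X.equivMapOfInjective (MulAut.conj (h : G)).toMonoidHom (MulEquiv.injective _)).toMonoidHom
        (MulEquiv.injective _) hr))
      intro g hg
      have h1 : (h : G) * g * (h : G)⁻¹ ∈ H := by
        refine hN' ?_
        rw [Subgroup.mem_normalizer_iff]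
        intro y
        rw [Subgroup.mem_map_equiv, Subgroup.mem_map_equiv, MulAut.conj_symm_apply, MulAut.conj_symm_apply,
          (Subgroup.mem_normalizer_iff.mp hg ((h : G)⁻¹ * y * h))]
        simp [mul_assoc]
      have h2 := H.mul_mem (H.mul_mem (H.inv_mem h.2) h1) h.2
      simpa [mul_assoc] using h2
    intro g hg
    by_contra hcon
    obtain ⟨A, hAle, hAp, hAr⟩ := exists_pSubgroup hcon
    -- a maximal counterexample
    obtain ⟨R, hRA, hR⟩ : ∃ R, (R ≤ H ∧ IsPGroup p R ∧ ¬ Cfsg.PRankLE p (k - 1) R ∧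
        ∃ g : G, g ∉ H ∧ R ≤ H.map (MulAut.conj g).toMonoidHom) ∧
        ∀ R' : Subgroup G, (R' ≤ H ∧ IsPGroup p R' ∧ ¬ Cfsg.PRankLE p (k - 1) R' ∧
          ∃ g : G, g ∉ H ∧ R' ≤ H.map (MulAut.conj g).toMonoidHom) → R ≤ R' → R' ≤ R := by
      obtain ⟨R, hR1, hR2⟩ := (Set.toFinite {R : Subgroup G | R ≤ H ∧ IsPGroup p R ∧
        ¬ Cfsg.PRankLE p (k - 1) R ∧ ∃ g : G, g ∉ H ∧ R ≤ H.map (MulAut.conj g).toMonoidHom}).exists_maximal
        ⟨A, hAle.trans inf_le_left, hAp, hAr, g, hg, hAle.trans inf_le_right⟩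
      exact ⟨R, hR1, fun R' h1 h2 => hR2 h1 h2⟩
    obtain ⟨hRH, hRp, hRr, g, hg, hRg⟩ := hRA
    set Hg := H.map (MulAut.conj g).toMonoidHom with hHg
    obtain ⟨S', hS'⟩ := (hRp.comap_subtype (K := Hg)).exists_le_sylow
    set S := (S' : Subgroup Hg).map Hg.subtype with hS
    have hRS : R ≤ S := fun r hr => ⟨⟨r, hRg hr⟩, hS' (Subgroup.mem_subgroupOf.mpr hr), rfl⟩
    have hSp : IsPGroup p S := S'.isPGroup'.map _
    -- `R` is its own normalizer in `S`
    have hRN : S ⊓ Subgroup.normalizer (R : Set G) ≤ R := by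
      refine hR _ ⟨inf_le_right.trans (hNH R hRH hRp hRr), hSp.to_le inf_le_left, fun hr => hRr ?_, g, hg,
        inf_le_left.trans (Subgroup.map_subtype_le _)⟩ (le_inf hRS Subgroup.le_normalizer)
      exact rank_mono (Subgroup.inclusion (le_inf hRS Subgroup.le_normalizer)) (Subgroup.inclusion_injective _) hr
    have hRSeq : R = S := by
      refine le_antisymm hRS ?_
      haveI : Group.IsNilpotent S := hSp.isNilpotent
      by_contra hlt
      have htop : R.subgroupOf S ≠ ⊤ := fun h => hlt fun s hs =>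
        Subgroup.mem_subgroupOf.mp ((h ▸ Subgroup.mem_top _ : (⟨s, hs⟩ : S) ∈ R.subgroupOf S))
      have := Group.normalizerCondition_of_isNilpotent (G := S) (R.subgroupOf S) (lt_top_iff_ne_top.mpr htop)
      obtain ⟨s, hsN, hsR⟩ := SetLike.exists_of_lt this
      refine hsR (Subgroup.mem_subgroupOf.mpr (hRN ⟨s.2, ?_⟩))
      change (s : G) ∈ Subgroup.normalizer (R : Set G); rw [Subgroup.mem_normalizer_iff]
      intro r
      constructor
      · intro hr
        exact (Subgroup.mem_normalizer_iff.mp hsN ⟨r, hRS hr⟩).mp (Subgroup.mem_subgroupOf.mpr hr)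
      · intro hr
        have hrS : r ∈ S := by
          have := S.mul_mem (S.mul_mem (S.inv_mem s.2) (hRS hr)) s.2
          simpa [mul_assoc] using this
        exact Subgroup.mem_subgroupOf.mp ((Subgroup.mem_normalizer_iff.mp hsN ⟨r, hrS⟩).mpr (Subgroup.mem_subgroupOf.mpr hr))
    -- so `R` is a Sylow subgroup of `H`
    have hRcard : Nat.card R = Nat.card (P : Subgroup H) := by
      rw [hRSeq, hS, Subgroup.card_map_of_injective Hg.subtype_injective, S'.card_eq_multiplicity,
        P.card_eq_multiplicity, hHg, Subgroup.card_map_of_injective (MulEquiv.injective _)]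
    let RH : Sylow p H := Sylow.ofCard (R.subgroupOf H) (by
      rw [Nat.card_congr (Subgroup.subgroupOfEquivOfLe hRH).toEquiv, hRcard, P.card_eq_multiplicity])
    let Rg := R.map (MulAut.conj g⁻¹).toMonoidHom
    have hRgH : Rg ≤ H := by
      rintro _ ⟨r, hr, rfl⟩
      obtain ⟨h', hh', hhr⟩ := hRg hr
      simp only [MulEquiv.coe_toMonoidHom, MulAut.conj_apply, inv_inv] at hhr ⊢
      rw [← hhr]
      simpa [mul_assoc] using hh'
    let RgH : Sylow p H := Sylow.ofCard (Rg.subgroupOf H) (by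
      rw [Nat.card_congr (Subgroup.subgroupOfEquivOfLe hRgH).toEquiv,
        Subgroup.card_map_of_injective (MulEquiv.injective _), hRcard, P.card_eq_multiplicity])
    obtain ⟨h, hh⟩ := MulAction.exists_smul_eq H RgH RH
    have hfix : R.map (MulAut.conj ((h : G) * g⁻¹)).toMonoidHom = R := by
      refine Subgroup.eq_of_le_of_card_ge ?_ (le_of_eq (Subgroup.card_map_of_injective (MulEquiv.injective _)).symm)
      rintro _ ⟨r, hr, rfl⟩
      have h1 : (⟨g⁻¹ * r * g, hRgH ⟨r, hr, by simp⟩⟩ : H) ∈ (RgH : Subgroup H) :=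
        Subgroup.mem_subgroupOf.mpr ⟨r, hr, by simp⟩
      have h2 : MulAut.conj h (⟨g⁻¹ * r * g, hRgH ⟨r, hr, by simp⟩⟩ : H) ∈ (RH : Subgroup H) := by
        rw [← hh, Sylow.coe_subgroup_smul]
        exact Subgroup.smul_mem_pointwise_smul _ _ _ h1
      have h3 : ((MulAut.conj h (⟨g⁻¹ * r * g, hRgH ⟨r, hr, by simp⟩⟩ : H) : H) : G) ∈ R :=
        Subgroup.mem_subgroupOf.mp h2
      simpa [mul_assoc] using h3
    have hmem := hNH R hRH hRp hRr (Subgroup.mem_normalizer_iff_map_conj_eq.mpr hfix)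
    have := H.inv_mem (H.mul_mem (H.inv_mem h.2) hmem)
    simp [hg] at this
  · intro hI X hXP hXr g hg
    by_contra hgH
    refine hXr (rank_mono (Subgroup.inclusion (le_inf (hXP.trans (Subgroup.map_subtype_le _)) ?_))
      (Subgroup.inclusion_injective _) (hI g hgH))
    intro x hx
    refine ⟨g⁻¹ * x * g, (hXP.trans (Subgroup.map_subtype_le _)) ?_, by simp [mul_assoc]⟩
    exact (Subgroup.mem_normalizer_iff''.mp hg x).mp hx

end Cfsg.Agent.S1231
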