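import Cfsg.Statements.S1233
import Cfsg.Agent.Lib.Sectional.Harada

set_option autoImplicit false
open Cfsg Cfsg.Agent.Sectional Subgroup
open scoped commutatorElement Pointwise

namespace Cfsg.Agent.S1233

variable {S : Type*} [Group S]

/-- Two elementary abelian subgroups of order eight spanning an extraspecial group of order `32`. -/
structure Pair (Q A A' : Subgroup S) (z : S) : Prop where
  p : IsPGroup 2 S
  zA : z ∈ A
  zA' : z ∈ A'
  z1 : z ≠ 1
  zc : ∀ q ∈ Q, q * z = z * q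
  le : A ≤ Q
  le' : A' ≤ Q
  two : ∀ a ∈ A, a ^ 2 = 1
  two' : ∀ a ∈ A', a ^ 2 = 1
  cd : Nat.card A = 8
  cd' : Nat.card A' = 8
  ca : ∀ x ∈ Q, (∀ a ∈ A, a * x = x * a) → x ∈ A
  ca' : ∀ x ∈ Q, (∀ a ∈ A', a * x = x * a) → x ∈ A'
  gen : A ⊔ A' = Q
  inter : ∀ x ∈ A, x ∈ A' → x = 1 ∨ x = z
  cz : ∀ x ∈ Q, ∀ y ∈ Q, ⁅x, y⁆ = 1 ∨ ⁅x, y⁆ = z
  cQ : centralizer (Q : Set S) ≤ Q

variable {Q A A' : Subgroup S} {z : S}

theorem Pair.symm (P : Pair Q A A' z) : Pair Q A' A z where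
  p := P.p
  zA := P.zA'
  zA' := P.zA
  z1 := P.z1
  zc := P.zc
  le := P.le'
  le' := P.le
  two := P.two'
  two' := P.two
  cd := P.cd'
  cd' := P.cd
  ca := P.ca'
  ca' := P.ca
  gen := by rw [sup_comm]; exact P.gen
  inter := fun x h h' => P.inter x h' h
  cz := P.cz
  cQ := P.cQ

theorem Pair.comm (P : Pair Q A A' z) {a b : S} (ha : a ∈ A) (hb : b ∈ A) : a * b = b * a := by
  have h := P.two _ (mul_mem ha hb)
  have hi : ∀ c ∈ A, c⁻¹ = c := fun c hc => inv_eq_of_mul_eq_one_right (by rw [← pow_two]; exact P.two c hc)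
  calc a * b = (a * b)⁻¹ := (hi _ (mul_mem ha hb)).symm
    _ = b * a := by rw [mul_inv_rev, hi a ha, hi b hb]

theorem Pair.zz (P : Pair Q A A' z) : z * z = 1 := by rw [← pow_two]; exact P.two z P.zA

theorem exists_notMem_four [Finite S] {K : Subgroup S} (hK : Nat.card K = 8) (p q r t : S) :
    ∃ b ∈ K, b ≠ p ∧ b ≠ q ∧ b ≠ r ∧ b ≠ t := by
  classical
  by_contra hc
  push Not at hc
  have hsub : (K : Set S) ⊆ (({p, q, r, t} : Finset S) : Set S) := fun w hw => by
    simp only [Finset.coe_insert, Finset.coe_singleton, Set.mem_insert_iff, Set.mem_singleton_iff]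
    by_cases h1 : w = p
    · exact Or.inl h1
    by_cases h2 : w = q
    · exact Or.inr (Or.inl h2)
    by_cases h3 : w = r
    · exact Or.inr (Or.inr (Or.inl h3))
    exact Or.inr (Or.inr (Or.inr (hc w hw h1 h2 h3)))
  have := Set.ncard_le_ncard hsub (Set.toFinite _)
  rw [Set.ncard_coe_finset, ← Nat.card_coe_set_eq, SetLike.coe_sort_coe, hK] at this
  have := this.trans Finset.card_le_four
  omega

theorem Pair.exists_comm [Finite S] (P : Pair Q A A' z) {r : S} (hr : r ∈ Q) :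
    ∃ a ∈ A, a ≠ 1 ∧ a ≠ z ∧ a * r = r * a := by
  obtain ⟨a, ha, ha1, haz, -, -⟩ := exists_notMem_four P.cd 1 z 1 1
  by_cases har : a * r = r * a
  · exact ⟨a, ha, ha1, haz, har⟩
  obtain ⟨b, hb, hb1, hbz, hba, hbza⟩ := exists_notMem_four P.cd 1 z a (z * a)
  by_cases hbr : b * r = r * b
  · exact ⟨b, hb, hb1, hbz, hbr⟩
  have hai : a⁻¹ = a := inv_eq_of_mul_eq_one_right (by rw [← pow_two]; exact P.two a ha)
  refine ⟨a * b, mul_mem ha hb, fun e => hba ?_, fun e => hbza ?_, ?_⟩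
  · rw [← eq_inv_of_mul_eq_one_right e] at hai
    exact hai
  · calc b = a⁻¹ * (a * b) := by group
      _ = z * a := by rw [e, hai, P.comm ha P.zA]
  · have c1 := (P.cz a (P.le ha) r hr).resolve_left fun e => har (commutatorElement_eq_one_iff_mul_comm.mp e)
    have c2 := (P.cz b (P.le hb) r hr).resolve_left fun e => hbr (commutatorElement_eq_one_iff_mul_comm.mp e)
    refine commutatorElement_eq_one_iff_mul_comm.mp ?_
    calc ⁅a * b, r⁆ = a * ⁅b, r⁆ * a⁻¹ * ⁅a, r⁆ := by simp only [commutatorElement_def]; group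
      _ = 1 := by rw [c1, c2, P.comm ha P.zA, mul_inv_cancel_right, P.zz]

/-- An element commuting with a spanning set of `A` centralizes `A`. -/
theorem Pair.span [Finite S] (P : Pair Q A A' z) {x y t w : S} (hx : x ∈ A) (hx1 : x ≠ 1) (hxz : x ≠ z)
    (hy : y ∈ A) (hwz : w * z = z * w) (hwx : w * x = x * w) (hwy : w * y ≠ y * w)
    (htz : t * z = z * t) (htx : t * x = x * t) (hty : t * y = y * t) {c : S} (hc : c ∈ A) : c * t = t * c := by
  have : Fact (Nat.Prime 2) := ⟨Nat.prime_two⟩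
  have hle : zpowers z ⊔ zpowers x ⊔ zpowers y ≤ A :=
    sup_le (sup_le (zpowers_le.mpr P.zA) (zpowers_le.mpr hx)) (zpowers_le.mpr hy)
  have hxz' : x ∉ zpowers z := fun e => (eq_or_of_mem_zpowers' P.zz e).elim hx1 hxz
  have hy' : y ∉ zpowers z ⊔ zpowers x := fun e => hwy (by
    have : zpowers z ⊔ zpowers x ≤ centralizer ({w} : Set S) :=
      sup_le (zpowers_le.mpr (mem_centralizer_singleton_iff.mpr hwz.symm))
        (zpowers_le.mpr (mem_centralizer_singleton_iff.mpr hwx.symm))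
    exact (mem_centralizer_singleton_iff.mp (this e)).symm)
  have k0 : 2 * Nat.card (⊥ : Subgroup S) ≤ Nat.card (zpowers z) :=
    PGroup.mul_card_le_of_lt (p := 2) P.p (bot_lt_iff_ne_bot.mpr fun e => P.z1 (zpowers_eq_bot.mp e))
  have k1 : 2 * Nat.card (zpowers z) ≤ Nat.card (zpowers z ⊔ zpowers x : Subgroup S) :=
    PGroup.mul_card_le_of_lt (p := 2) P.p
      (lt_of_le_of_ne le_sup_left fun e => hxz' (e ▸ mem_sup_right (mem_zpowers x)))
  have k2 : 2 * Nat.card (zpowers z ⊔ zpowers x : Subgroup S) ≤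
      Nat.card (zpowers z ⊔ zpowers x ⊔ zpowers y : Subgroup S) :=
    PGroup.mul_card_le_of_lt (p := 2) P.p
      (lt_of_le_of_ne le_sup_left fun e => hy' (e ▸ mem_sup_right (mem_zpowers y)))
  rw [card_bot] at k0
  have heq := PGroup.eq_of_le_of_card_le hle (by rw [P.cd]; omega)
  have : A ≤ centralizer ({t} : Set S) := by
    rw [← heq]
    exact sup_le (sup_le (zpowers_le.mpr (mem_centralizer_singleton_iff.mpr htz.symm))
      (zpowers_le.mpr (mem_centralizer_singleton_iff.mpr htx.symm)))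
      (zpowers_le.mpr (mem_centralizer_singleton_iff.mpr hty.symm))
  exact mem_centralizer_singleton_iff.mp (this hc)
where
  eq_or_of_mem_zpowers' {w t : S} (hw : w * w = 1) (ht : t ∈ zpowers w) : t = 1 ∨ t = w :=
    eq_or_of_mem_zpowers hw ht

/-- `C_A(r) = ⟨z, a⟩`. -/
theorem Pair.unique [Finite S] (P : Pair Q A A' z) {r a a' : S} (hr : r ∈ A') (hr1 : r ≠ 1) (hrz : r ≠ z)
    (ha : a ∈ A) (ha1 : a ≠ 1) (haz : a ≠ z) (har : a * r = r * a) (ha' : a' ∈ A) (ha'1 : a' ≠ 1) (ha'z : a' ≠ z)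
    (ha'r : a' * r = r * a') : a' = a ∨ a' = z * a := by
  classical
  have : Fact (Nat.Prime 2) := ⟨Nat.prime_two⟩
  by_contra hne
  push Not at hne
  obtain ⟨hne1, hne2⟩ := hne
  have hlt : A ⊓ centralizer ({r} : Set S) < A := lt_of_le_of_ne inf_le_left fun e => by
    rcases P.inter r (P.ca r (P.le' hr) fun c hc => mem_centralizer_singleton_iff.mp (e.ge hc).2) hr with h | h
    · exact hr1 h
    · exact hrz h
  have hcard := PGroup.mul_card_le_of_lt (p := 2) P.p hlt
  rw [P.cd] at hcard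
  have hzr : z * r = r * z := (P.zc r (P.le' hr)).symm
  have hsub : (({1, z, a, z * a, a'} : Finset S) : Set S) ⊆ ((A ⊓ centralizer ({r} : Set S) : Subgroup S) : Set S) := by
    intro w hw
    simp only [Finset.coe_insert, Finset.coe_singleton, Set.mem_insert_iff, Set.mem_singleton_iff] at hw
    rcases hw with rfl | rfl | rfl | rfl | rfl
    · exact one_mem _
    · exact ⟨P.zA, mem_centralizer_singleton_iff.mpr hzr⟩
    · exact ⟨ha, mem_centralizer_singleton_iff.mpr har⟩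
    · exact ⟨mul_mem P.zA ha, mem_centralizer_singleton_iff.mpr (Commute.mul_left hzr har)⟩
    · exact ⟨ha', mem_centralizer_singleton_iff.mpr ha'r⟩
  have h5 : ({1, z, a, z * a, a'} : Finset S).card = 5 := by
    have e1 : (1 : S) ≠ z * a := fun e => haz (by
      rw [eq_inv_of_mul_eq_one_right e.symm]
      exact inv_eq_of_mul_eq_one_right P.zz)
    have e2 : z ≠ z * a := fun e => ha1 (mul_eq_left.mp e.symm)
    have e3 : a ≠ z * a := fun e => P.z1 (mul_eq_right.mp e.symm)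
    rw [Finset.card_insert_of_notMem (by simp [P.z1.symm, ha1.symm, e1, ha'1.symm]),
      Finset.card_insert_of_notMem (by simp [haz.symm, e2, ha'z.symm]),
      Finset.card_insert_of_notMem (by simp [e3, Ne.symm hne1]), Finset.card_pair (Ne.symm hne2)]
  have := Set.ncard_le_ncard hsub (Set.toFinite _)
  rw [Set.ncard_coe_finset, h5, ← Nat.card_coe_set_eq, SetLike.coe_sort_coe] at this
  omega

/-- A twisting element when `C(A) ≠ A`. -/
theorem Pair.exists_g [Finite S] (P : Pair Q A A' z) (h : ¬ centralizer (A : Set S) ≤ A) :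
    ∃ g : S, g ∉ Q ∧ (∀ q ∈ Q, g * q * g⁻¹ ∈ Q) ∧ ∀ a ∈ A, a * g = g * a := by
  have : Fact (Nat.Prime 2) := ⟨Nat.prime_two⟩
  set M := centralizer (A : Set S)
  have hnA : ∀ q ∈ Q, ∀ a ∈ A, q * a * q⁻¹ ∈ A := fun q hq a ha => by
    rw [show q * a * q⁻¹ = ⁅q, a⁆ * a by rw [commutatorElement_def, inv_mul_cancel_right]]
    rcases P.cz q hq a (P.le ha) with e | e <;> rw [e]
    · exact mul_mem (one_mem A) ha
    · exact mul_mem P.zA ha
  have hQM : Q ≤ Subgroup.normalizer (M : Set S) := fun q hq => by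
    rw [mem_normalizer_iff]
    have key : ∀ q ∈ Q, ∀ m ∈ M, q * m * q⁻¹ ∈ M := fun q hq m hm => mem_centralizer_iff.mpr fun a ha => by
      have h1 := mem_centralizer_iff.mp hm _ (hnA q⁻¹ (inv_mem hq) a ha)
      rw [inv_inv] at h1
      calc a * (q * m * q⁻¹) = q * ((q⁻¹ * a * q) * m) * q⁻¹ := by group
        _ = q * (m * (q⁻¹ * a * q)) * q⁻¹ := by rw [h1]
        _ = _ := by group
    refine fun m => ⟨fun hm => key q hq m hm, fun hm => ?_⟩
    have := key q⁻¹ (inv_mem hq) _ hm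
    rwa [inv_inv, show q⁻¹ * (q * m * q⁻¹) * q = m by group] at this
  set R := Q ⊔ M
  have hne : Q.subgroupOf R ≠ ⊤ := fun e => by
    obtain ⟨m, hm, hmA⟩ := SetLike.not_le_iff_exists.mp h
    have hmQ : m ∈ Q := mem_subgroupOf.mp (e ▸ mem_top (⟨m, mem_sup_right hm⟩ : R))
    exact hmA (P.ca m hmQ fun a ha => mem_centralizer_iff.mp hm a ha)
  obtain ⟨⟨r, hr⟩, hrn, hrQ⟩ := PGroup.exists_mem_normalizer_not_mem (p := 2) (P.p.to_subgroup R) hne
  have hr' : r ∈ (Q : Set S) * (M : Set S) := by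
    rw [← coe_mul_of_left_le_normalizer_right Q M hQM]; exact hr
  obtain ⟨q, hq, m, hm, rfl⟩ := hr'
  refine ⟨m, fun e => hrQ (mem_subgroupOf.mpr (mul_mem hq e)), fun q' hq' => ?_, fun a ha =>
    mem_centralizer_iff.mp hm a ha⟩
  have h1 := (mem_normalizer_iff.mp hrn ⟨q', mem_sup_left hq'⟩).mp (mem_subgroupOf.mpr hq')
  have h2 := mul_mem (mul_mem (inv_mem hq) (mem_subgroupOf.mp h1)) hq
  have e : q⁻¹ * (q * m * q' * (q * m)⁻¹) * q = m * q' * m⁻¹ := by group
  rw [← e]; exact h2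

theorem Pair.comm_mem [Finite S] (P : Pair Q A A' z) {g : S} (hgn : ∀ q ∈ Q, g * q * g⁻¹ ∈ Q)
    (hga : ∀ a ∈ A, a * g = g * a) {r : S} (hr : r ∈ A') : ⁅g, r⁆ ∈ A ∧ ⁅g, r⁆ * r = r * ⁅g, r⁆ := by
  have hrQ := P.le' hr
  have hdA : ⁅g, r⁆ ∈ A := by
    refine P.ca _ (mul_mem (hgn r hrQ) (inv_mem hrQ)) fun a ha => ?_
    have hb : r⁻¹ * a * r ∈ A := by
      rw [show r⁻¹ * a * r = ⁅r⁻¹, a⁆ * a by rw [commutatorElement_def]; group]
      rcases P.cz r⁻¹ (inv_mem hrQ) a (P.le ha) with e | e <;> rw [e]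
      · exact mul_mem (one_mem A) ha
      · exact mul_mem P.zA ha
    refine (mul_inv_eq_iff_eq_mul.mp ?_).symm
    calc ⁅g, r⁆ * a * ⁅g, r⁆⁻¹ = g * r * (g⁻¹ * (r⁻¹ * a * r) * g) * r⁻¹ * g⁻¹ := by
          simp only [commutatorElement_def]; group
      _ = g * r * (r⁻¹ * a * r) * r⁻¹ * g⁻¹ := by rw [mul_assoc g⁻¹, hga _ hb, inv_mul_cancel_left]
      _ = g * a * g⁻¹ := by group
      _ = a := by rw [← hga a ha, mul_inv_cancel_right]
  refine ⟨hdA, ?_⟩
  have hr2 : r * r = 1 := by rw [← pow_two]; exact P.two' r hr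
  have h2 : (⁅g, r⁆ * r) * (⁅g, r⁆ * r) = 1 := by
    rw [commutatorElement_def, inv_mul_cancel_right, show g * r * g⁻¹ * (g * r * g⁻¹) = g * (r * r) * g⁻¹ by group, hr2]
    group
  calc ⁅g, r⁆ * r = (⁅g, r⁆ * r)⁻¹ := (inv_eq_of_mul_eq_one_right h2).symm
    _ = r * ⁅g, r⁆ := by
      rw [mul_inv_rev, inv_eq_of_mul_eq_one_right hr2,
        inv_eq_of_mul_eq_one_right (by rw [← pow_two]; exact P.two _ hdA : ⁅g, r⁆ * ⁅g, r⁆ = 1)]

/-- A twisting element is not inner. -/
theorem Pair.moves [Finite S] (P : Pair Q A A' z) {g : S} (hgQ : g ∉ Q) (hga : ∀ a ∈ A, a * g = g * a) :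
    ∃ r ∈ A', ⁅g, r⁆ ≠ 1 ∧ ⁅g, r⁆ ≠ z := by
  by_contra hc
  push Not at hc
  have hgr : ∀ r ∈ A', ⁅g, r⁆ = 1 ∨ ⁅g, r⁆ = z := fun r hr => or_iff_not_imp_left.mpr (hc r hr)
  obtain ⟨r₁, hr₁, hr₁1, hr₁z, -, -⟩ := exists_notMem_four P.cd' 1 z 1 1
  obtain ⟨a₁, ha₁, ha₁1, ha₁z, ha₁r⟩ := P.exists_comm (P.le' hr₁)
  obtain ⟨r₂, hr₂, ha₁r₂⟩ : ∃ r ∈ A', a₁ * r ≠ r * a₁ := by
    by_contra hc'
    push Not at hc'
    rcases P.inter a₁ ha₁ (P.ca' a₁ (P.le ha₁) fun r hr => (hc' r hr).symm) with h | h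
    · exact ha₁1 h
    · exact ha₁z h
  obtain ⟨a₂, ha₂, ha₂1, ha₂z, ha₂r⟩ := P.exists_comm (P.le' hr₂)
  have hzA : ∀ a ∈ A, a * z = z * a := fun a ha => P.comm ha P.zA
  have hza : ∀ r ∈ A', r * z = z * r := fun r hr => P.zc r (P.le' hr)
  have ha₂r₁ : a₂ * r₁ ≠ r₁ * a₂ := fun e => by
    rcases P.inter a₂ ha₂ (P.ca' a₂ (P.le ha₂) fun r hr =>
      P.symm.span hr₁ hr₁1 hr₁z hr₂ (hzA a₁ ha₁) ha₁r ha₁r₂ (hzA a₂ ha₂) e ha₂r hr) with h | h
    · exact ha₂1 h
    · exact ha₂z h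
  have step : ∀ {k a r : S}, a ∈ A → r ∈ A' → ⁅a, r⁆ = z → (⁅k, r⁆ = 1 ∨ ⁅k, r⁆ = z) →
      ⁅k, r⁆ = z → ⁅a * k, r⁆ = 1 := by
    intro k a r ha hr he _ hk
    calc ⁅a * k, r⁆ = a * ⁅k, r⁆ * a⁻¹ * ⁅a, r⁆ := by simp only [commutatorElement_def]; group
      _ = 1 := by rw [hk, he, hzA a ha, mul_inv_cancel_right, P.zz]
  have keep : ∀ {k a r : S}, a ∈ A → r ∈ A' → a * r = r * a → (⁅k, r⁆ = 1 ∨ ⁅k, r⁆ = z) →
      ⁅a * k, r⁆ = ⁅k, r⁆ := by
    intro k a r ha hr he hk
    calc ⁅a * k, r⁆ = a * ⁅k, r⁆ * a⁻¹ * ⁅a, r⁆ := by simp only [commutatorElement_def]; group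
      _ = _ := by
        rw [commutatorElement_eq_one_iff_mul_comm.mpr he, mul_one]
        rcases hk with e | e <;> rw [e]
        · group
        · rw [hzA a ha, mul_inv_cancel_right]
  have hz2 : ⁅a₁, r₂⁆ = z := (P.cz a₁ (P.le ha₁) r₂ (P.le' hr₂)).resolve_left fun e =>
    ha₁r₂ (commutatorElement_eq_one_iff_mul_comm.mp e)
  have hz1 : ⁅a₂, r₁⁆ = z := (P.cz a₂ (P.le ha₂) r₁ (P.le' hr₁)).resolve_left fun e =>
    ha₂r₁ (commutatorElement_eq_one_iff_mul_comm.mp e)
  obtain ⟨b, hb, hb1⟩ : ∃ b ∈ A, ⁅b * g, r₁⁆ = 1 ∧ (⁅b * g, r₂⁆ = 1 ∨ ⁅b * g, r₂⁆ = z) := by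
    rcases hgr r₁ hr₁ with e | e
    · exact ⟨1, one_mem A, by rw [one_mul]; exact ⟨e, hgr r₂ hr₂⟩⟩
    · refine ⟨a₂, ha₂, step ha₂ hr₁ hz1 (hgr r₁ hr₁) e, ?_⟩
      rw [keep ha₂ hr₂ ha₂r (hgr r₂ hr₂)]
      exact hgr r₂ hr₂
  obtain ⟨c, hc', hc1, hc2⟩ : ∃ c ∈ A, ⁅c * g, r₁⁆ = 1 ∧ ⁅c * g, r₂⁆ = 1 := by
    rcases hb1.2 with e | e
    · exact ⟨b, hb, hb1.1, e⟩
    · refine ⟨a₁ * b, mul_mem ha₁ hb, ?_, ?_⟩ <;> rw [mul_assoc]
      · rw [keep ha₁ hr₁ ha₁r (Or.inl hb1.1)]; exact hb1.1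
      · exact step ha₁ hr₂ hz2 hb1.2 e
  have hA : ∀ a ∈ A, a * (c * g) = c * g * a := fun a ha => Commute.mul_right (P.comm ha hc') (hga a ha)
  have hA' : ∀ r ∈ A', r * (c * g) = c * g * r := fun r hr =>
    P.symm.span hr₁ hr₁1 hr₁z hr₂ (hzA a₁ ha₁) ha₁r ha₁r₂ ((hA z P.zA).symm)
      (commutatorElement_eq_one_iff_mul_comm.mp hc1) (commutatorElement_eq_one_iff_mul_comm.mp hc2) hr
  have hQ : c * g ∈ Q := P.cQ (mem_centralizer_iff.mpr fun q hq => by
    have : Q ≤ centralizer ({c * g} : Set S) := by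
      rw [← P.gen]
      exact sup_le (fun a ha => mem_centralizer_singleton_iff.mpr (hA a ha))
        (fun r hr => mem_centralizer_singleton_iff.mpr (hA' r hr))
    exact mem_centralizer_singleton_iff.mp (this hq))
  have := mul_mem (inv_mem (P.le hc')) hQ
  rw [inv_mul_cancel_left] at this
  exact hgQ this

/-- One of the two subgroups is self-centralizing. -/
theorem Pair.selfCentralizing [Finite S] (P : Pair Q A A' z) :
    centralizer (A : Set S) ≤ A ∨ centralizer (A' : Set S) ≤ A' := by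
  by_contra hc
  push Not at hc
  obtain ⟨g, hgQ, hgn, hga⟩ := P.exists_g hc.1
  obtain ⟨h, hhQ, hhn, hha⟩ := P.symm.exists_g hc.2
  obtain ⟨a, ha, hr1, hrz⟩ := P.symm.moves hhQ hha
  obtain ⟨hr, hra⟩ := P.symm.comm_mem hhn hha ha
  set r := ⁅h, a⁆ with hrdef
  have ha1 : a ≠ 1 := fun e => hr1 (by rw [hrdef, e, commutatorElement_one_right])
  have hzh : ∀ t : S, (∀ c ∈ A, c * t = t * c) → ⁅t, z⁆ = 1 := fun t ht =>
    commutatorElement_eq_one_iff_mul_comm.mpr (ht z P.zA).symm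
  have haz : a ≠ z := fun e => hr1 (by
    rw [hrdef, e]; exact commutatorElement_eq_one_iff_mul_comm.mpr (hha z P.zA').symm)
  obtain ⟨hd, hdr⟩ := P.comm_mem hgn hga hr
  have hd1 : ⁅g, r⁆ ≠ 1 ∧ ⁅g, r⁆ ≠ z := by
    by_contra hd1
    have hdz : ⁅g, r⁆ = 1 ∨ ⁅g, r⁆ = z := by
      by_cases e : ⁅g, r⁆ = 1
      · exact Or.inl e
      · exact Or.inr (by_contra fun e' => hd1 ⟨e, e'⟩)
    obtain ⟨s, hs, hs1, hsz⟩ := P.moves hgQ hga
    obtain ⟨he, hes⟩ := P.comm_mem hgn hga hs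
    set e := ⁅g, s⁆ with hedef
    have hrs := mul_mem hr hs
    obtain ⟨hf, hfrs⟩ := P.comm_mem hgn hga hrs
    have heQ := P.le he
    have hkey : ⁅g, r * s⁆ = ⁅g, r⁆ * (⁅r, e⁆ * e) := by
      rw [hedef]; simp only [commutatorElement_def]; group
    have hzrs : Commute z (r * s) := (P.zc _ (P.le' hrs)).symm
    have hers : Commute e (r * s) := by
      have h1 : Commute (⁅g, r⁆ * ⁅r, e⁆) (r * s) := by
        rcases hdz with e1 | e1 <;> rcases P.cz r (P.le' hr) e heQ with e2 | e2 <;> rw [e1, e2] <;> simp [hzrs, P.zz]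
      have h2 : Commute (⁅g, r⁆ * (⁅r, e⁆ * e)) (r * s) := hkey ▸ hfrs
      rw [← mul_assoc] at h2
      have h3 := h1.inv_left.mul_left h2
      rwa [inv_mul_cancel_left] at h3
    have her : Commute e r := by
      have := hers.mul_right (Commute.inv_right (hes : Commute e s))
      rwa [mul_inv_cancel_right] at this
    obtain ⟨w, hw, hwr, hws⟩ : ∃ w ∈ A, w * r = r * w ∧ w * s ≠ s * w := by
      refine ⟨a, ha, hra.symm, fun hws => ?_⟩
      rcases P.unique hs (fun e => hs1 (by rw [hedef, e, commutatorElement_one_right]))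
        (fun e' => hs1 (by rw [hedef, e']; exact hzh g hga)) ha ha1 haz hws he hs1 hsz hes with e' | e'
      all_goals
        have hre : Commute e s := hes
        obtain ⟨b, hb, hab⟩ : ∃ b ∈ A', b * e ≠ e * b := by
          by_contra hcon
          push Not at hcon
          rcases P.inter e he (P.ca' e heQ hcon) with h' | h'
          · exact hs1 h'
          · exact hsz h'
        rcases P.symm.unique he hs1 hsz hr hr1 hrz her.symm hs
          (fun e => hs1 (by rw [hedef, e, commutatorElement_one_right]))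
          (fun e' => hs1 (by rw [hedef, e']; exact hzh g hga)) hre.symm with e'' | e''
        · exact (hdz.elim (fun h' => hs1 (by rw [hedef, e'']; exact h'))
            fun h' => hsz (by rw [hedef, e'']; exact h'))
        · have h3 : ⁅g, z * r⁆ = ⁅g, z⁆ * (z * ⁅g, r⁆ * z⁻¹) := by simp only [commutatorElement_def]; group
          rw [hzh g hga, one_mul, ← P.zc _ (P.le hd), mul_inv_cancel_right, ← e''] at h3
          exact (hdz.elim (fun h' => hs1 (by rw [hedef, h3]; exact h'))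
            fun h' => hsz (by rw [hedef, h3]; exact h'))
    rcases P.inter e he (P.ca' e heQ fun x hx => P.symm.span hr hr1 hrz hs (P.comm hw P.zA) hwr hws
      (P.comm he P.zA) her hes hx) with h' | h'
    · exact hs1 h'
    · exact hsz h'
  have hcases := P.unique hr hr1 hrz ha ha1 haz hra.symm hd hd1.1 hd1.2 hdr
  -- an endless descent in the lower central series
  have : Fact (Nat.Prime 2) := ⟨Nat.prime_two⟩
  haveI : Group.IsNilpotent S := P.p.isNilpotent
  obtain ⟨n, hn⟩ := Subgroup.nilpotent_iff_lowerCentralSeries.mp (inferInstance : Group.IsNilpotent S)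
  have stepg : ∀ {m : ℕ} {x : S} (t : S), x ∈ (⊤ : Subgroup S).lowerCentralSeries m →
      ⁅t, x⁆ ∈ (⊤ : Subgroup S).lowerCentralSeries (m + 1) := fun {m x} t hx => by
    rw [← commutatorElement_inv, Subgroup.lowerCentralSeries_succ]
    exact inv_mem (commutator_mem_commutator hx (mem_top t))
  have hall : ∀ m, a ∈ (⊤ : Subgroup S).lowerCentralSeries m ∨ z * a ∈ (⊤ : Subgroup S).lowerCentralSeries m := by
    intro m
    induction m with
    | zero => exact Or.inl (mem_top a)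
    | succ m ih =>
      have hr' : r ∈ (⊤ : Subgroup S).lowerCentralSeries (m + 1) := by
        rcases ih with h' | h'
        · exact stepg h h'
        · have h3 : ⁅h, z * a⁆ = ⁅h, z⁆ * (z * ⁅h, a⁆ * z⁻¹) := by simp only [commutatorElement_def]; group
          rw [commutatorElement_eq_one_iff_mul_comm.mpr (hha z P.zA').symm, one_mul, ← hrdef,
            ← P.zc r (P.le' hr), mul_inv_cancel_right] at h3
          exact h3 ▸ stepg h h'
      have := Subgroup.lowerCentralSeries_antitone (S := (⊤ : Subgroup S)) (Nat.le_succ (m + 1)) (stepg g hr')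
      rcases hcases with e | e <;> rw [e] at this
      · exact Or.inl this
      · exact Or.inr this
  rcases hall n with h' | h' <;> rw [hn, mem_bot] at h'
  · exact ha1 h'
  · exact haz (by rw [eq_inv_of_mul_eq_one_right h']; exact inv_eq_of_mul_eq_one_right P.zz)

/-! The model `Q₈ × Q₈`. -/

/-- The automorphism `i ↦ j ↦ k` of the quaternion group of order eight. -/
def twist : QuaternionGroup 2 → QuaternionGroup 2
  | .a i => if i = 0 then .a 0 else if i = 1 then .xa 0 else if i = 2 then .a 2 else .xa 2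
  | .xa i => if i = 0 then .xa 3 else if i = 1 then .a 3 else if i = 2 then .xa 1 else .a 1

instance : Fintype (QuaternionGroup 2) :=
  Fintype.ofEquiv (ZMod 4 ⊕ ZMod 4) {
    toFun := fun x => x.elim QuaternionGroup.a QuaternionGroup.xa
    invFun := fun x => match x with
      | .a i => Sum.inl i
      | .xa i => Sum.inr i
    left_inv := by rintro (i | i) <;> rfl
    right_inv := by rintro (i | i) <;> rfl }

local notation "cc" => (QuaternionGroup.a 2 : QuaternionGroup 2)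

theorem twist_mul : ∀ x y : QuaternionGroup 2, twist (x * y) = twist x * twist y := by decide

theorem twist_one : twist 1 = 1 := by decide

theorem cc_comm : ∀ x : QuaternionGroup 2, cc * x = x * cc := by decide

theorem cc_sq : cc * cc = 1 := by decide

theorem invol : ∀ x : QuaternionGroup 2, x * x = 1 → x = 1 ∨ x = cc := by decide

theorem sq_cc : ∀ x : QuaternionGroup 2, x * x = 1 ∨ x * x = cc := by decide

theorem comm_cc : ∀ x y : QuaternionGroup 2, x * y * x⁻¹ * y⁻¹ = 1 ∨ x * y * x⁻¹ * y⁻¹ = cc := by decide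

theorem inner_one : ∀ x y : QuaternionGroup 2,
    (∀ w : QuaternionGroup 2, x * w * x⁻¹ * w⁻¹ = y * w * y⁻¹ * w⁻¹) → y = x ∨ y = cc * x := by decide

theorem inner_twist : ∀ x y : QuaternionGroup 2,
    (∀ w : QuaternionGroup 2, x * w * x⁻¹ * w⁻¹ = y * twist w * y⁻¹ * (twist w)⁻¹) →
      y = twist x ∨ y = cc * twist x := by decide

theorem both : ∀ x : QuaternionGroup 2, (twist x = x ∨ twist x = cc * x) → x = 1 ∨ x = cc := by decide

theorem exists_split : ∀ x y : QuaternionGroup 2,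
    ∃ u v : QuaternionGroup 2, (u * v = x ∧ u * twist v = y) ∨ (u * v = x ∧ u * (cc * twist v) = y) := by decide

/-- The graph of an endomorphism of `Q₈`, extended by the centre. -/
def graph (f : QuaternionGroup 2 →* QuaternionGroup 2) : Subgroup (QuaternionGroup 2 × QuaternionGroup 2) where
  carrier := {p | p.2 = f p.1 ∨ p.2 = cc * f p.1}
  one_mem' := Or.inl (map_one f).symm
  mul_mem' := by
    rintro ⟨a, b⟩ ⟨a', b'⟩ (h | h) (h' | h') <;> simp only [Set.mem_ofPred_eq] at h h' ⊢ <;>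
      simp only [Prod.mk_mul_mk, map_mul] <;> rw [h, h']
    · exact Or.inl rfl
    · right; rw [← mul_assoc, ← cc_comm, mul_assoc]
    · right; rw [mul_assoc]
    · left
      rw [mul_assoc cc, ← mul_assoc (f a) cc, ← cc_comm, mul_assoc cc (f a), ← mul_assoc cc cc, cc_sq, one_mul]
  inv_mem' := by
    rintro ⟨a, b⟩ (h | h) <;> simp only [Set.mem_ofPred_eq] at h ⊢ <;>
      simp only [Prod.inv_mk, map_inv] <;> rw [h]
    · exact Or.inl rfl
    · right
      rw [mul_inv_rev, inv_eq_of_mul_eq_one_right cc_sq, ← cc_comm]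

theorem card_graph (f : QuaternionGroup 2 →* QuaternionGroup 2) : Nat.card (graph f) = 16 := by
  have hne : ∀ x : QuaternionGroup 2, f x ≠ cc * f x := fun x e => by
    have h := mul_eq_right.mp e.symm
    revert h
    decide
  let e : QuaternionGroup 2 × Bool → graph f := fun q =>
    ⟨(q.1, if q.2 then f q.1 else cc * f q.1), by cases q.2; exacts [Or.inr rfl, Or.inl rfl]⟩
  rw [← Nat.card_eq_of_bijective e ⟨?_, ?_⟩, Nat.card_prod, Nat.card_eq_fintype_card, Nat.card_eq_fintype_card]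
  · rfl
  · intro p q h
    have h1 : p.1 = q.1 := congrArg (fun t : graph f => t.1.1) h
    have h2 : (if p.2 then f p.1 else cc * f p.1) = (if q.2 then f q.1 else cc * f q.1) :=
      congrArg (fun t : graph f => t.1.2) h
    obtain ⟨x, b⟩ := p
    obtain ⟨y, c⟩ := q
    simp only at h1 h2
    subst h1
    cases b <;> cases c <;> simp only [Bool.false_eq_true, if_false, if_true] at h2
    · rfl
    · exact absurd h2.symm (hne _)
    · exact absurd h2 (hne _)
    · rfl
  · rintro ⟨⟨x, y⟩, h | h⟩ <;> simp only at h <;> subst h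
    · exact ⟨(x, true), rfl⟩
    · exact ⟨(x, false), rfl⟩

theorem exists_pair [Finite S] (hS : IsPGroup 2 S) {Q Q₁ Q₂ : Subgroup S} (e₁ : Q₁ ≃* QuaternionGroup 2)
    (e₂ : Q₂ ≃* QuaternionGroup 2) (hcomm : ∀ a ∈ Q₁, ∀ b ∈ Q₂, a * b = b * a) (hQ : Q₁ ⊔ Q₂ = Q)
    (hQ32 : Nat.card Q = 32) (hC : centralizer (Q : Set S) ≤ Q) :
    ∃ (A A' : Subgroup S) (z : S), Pair Q A A' z := by
  let m : QuaternionGroup 2 × QuaternionGroup 2 →* S :=
    { toFun := fun p => (e₁.symm p.1 : S) * (e₂.symm p.2 : S)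
      map_one' := by simp
      map_mul' := fun p q => by
        simp only [Prod.fst_mul, Prod.snd_mul, map_mul, Subgroup.coe_mul]
        rw [mul_assoc, ← mul_assoc (e₁.symm q.1 : S), hcomm _ (e₁.symm q.1).2 _ (e₂.symm p.2).2]
        group }
  have hrange : m.range = Q := by
    refine le_antisymm ?_ (hQ ▸ sup_le ?_ ?_)
    · rintro _ ⟨p, rfl⟩
      rw [← hQ]
      exact mul_mem (mem_sup_left (e₁.symm p.1).2) (mem_sup_right (e₂.symm p.2).2)
    · exact fun q hq => ⟨(e₁ ⟨q, hq⟩, 1), by simp [m]⟩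
    · exact fun q hq => ⟨(1, e₂ ⟨q, hq⟩), by simp [m]⟩
  have hcardQQ : Nat.card (QuaternionGroup 2 × QuaternionGroup 2) = 64 := by
    rw [Nat.card_eq_fintype_card]; rfl
  have hk2 : Nat.card m.ker = 2 := by
    have h := m.ker.card_mul_index
    rw [index_ker, hrange, hQ32, hcardQQ] at h
    omega
  obtain ⟨⟨⟨x, y⟩, hxy⟩, hne⟩ : ∃ t : m.ker, t ≠ 1 := by
    haveI : Nontrivial m.ker := Finite.one_lt_card_iff_nontrivial.mp (by omega)
    exact exists_ne 1
  have hxy2 : (x, y) * (x, y) = 1 := by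
    have h := orderOf_dvd_natCard (⟨(x, y), hxy⟩ : m.ker)
    rw [hk2, orderOf_dvd_iff_pow_eq_one] at h
    simpa [pow_two] using congrArg Subtype.val h
  have hxeq : x = cc ∧ y = cc := by
    have h1 : x * x = 1 := congrArg Prod.fst hxy2
    have h2 : y * y = 1 := congrArg Prod.snd hxy2
    have hm : (e₁.symm x : S) * (e₂.symm y : S) = 1 := hxy
    rcases invol x h1 with rfl | rfl <;> rcases invol y h2 with rfl | rfl
    · exact absurd (Subtype.ext rfl) hne
    · rw [map_one, Subgroup.coe_one, one_mul, OneMemClass.coe_eq_one, MulEquiv.map_eq_one_iff] at hm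
      exact absurd hm (by decide)
    · rw [map_one, Subgroup.coe_one, mul_one, OneMemClass.coe_eq_one, MulEquiv.map_eq_one_iff] at hm
      exact absurd hm (by decide)
    · exact ⟨rfl, rfl⟩
  obtain ⟨rfl, rfl⟩ := hxeq
  have hker : ∀ p, m p = 1 → p = 1 ∨ p = (cc, cc) := fun p hp => by
    by_cases h1 : p = 1
    · exact Or.inl h1
    · exact Or.inr (congrArg Subtype.val (show (⟨p, hp⟩ : m.ker) = ⟨(cc, cc), hxy⟩ from
        Subtype.ext (eq_of_card_two (K := m.ker) hk2 hp h1 hxy (show ((cc, cc) : QuaternionGroup 2 × QuaternionGroup 2) ≠ 1 by decide))))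
  have hcc : m (cc, cc) = 1 := hxy
  set z := m (cc, 1) with hz
  have hz' : m (1, cc) = z := by
    have h := map_mul m (cc, (1 : QuaternionGroup 2)) ((1 : QuaternionGroup 2), cc)
    rw [Prod.mk_mul_mk, mul_one, one_mul, hcc] at h
    have hzz : z * z = 1 := by
      rw [hz, ← map_mul, Prod.mk_mul_mk, cc_sq, one_mul]; exact map_one m
    rw [← hz] at h
    exact (mul_left_cancel (hzz.trans h)).symm
  have hz1 : z ≠ 1 := fun e => by
    rcases hker _ e with h | h <;> revert h <;> decide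
  have hsmall : ∀ p : QuaternionGroup 2 × QuaternionGroup 2, (p.1 = 1 ∨ p.1 = cc) → (p.2 = 1 ∨ p.2 = cc) →
      m p = 1 ∨ m p = z := by
    rintro ⟨p, q⟩ hp hq
    simp only at hp hq
    rcases hp with rfl | rfl <;> rcases hq with rfl | rfl
    · exact Or.inl (map_one m)
    · exact Or.inr hz'
    · exact Or.inr rfl
    · exact Or.inl hcc
  let τ : QuaternionGroup 2 →* QuaternionGroup 2 := { toFun := twist, map_one' := twist_one, map_mul' := twist_mul }
  have hgraph : ∀ f : QuaternionGroup 2 →* QuaternionGroup 2, f cc = cc →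
      z ∈ (graph f).map m ∧ (graph f).map m ≤ Q ∧ (∀ a ∈ (graph f).map m, a ^ 2 = 1) ∧
        Nat.card ((graph f).map m) = 8 := by
    intro f hf
    refine ⟨⟨(cc, 1), Or.inr (by simp only [hf, cc_sq]), rfl⟩, hrange ▸ map_le_range _ _, ?_, ?_⟩
    · rintro _ ⟨⟨p, q⟩, hp, rfl⟩
      rw [← map_pow, pow_two, Prod.mk_mul_mk]
      have hqq : q * q = f p * f p := by
        rcases hp with h | h <;> simp only at h <;> rw [h]
        rw [mul_assoc cc, ← mul_assoc (f p) cc, ← cc_comm, mul_assoc cc (f p), ← mul_assoc cc cc, cc_sq, one_mul]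
      rw [hqq, ← map_mul]
      rcases sq_cc p with e | e <;> rw [e]
      · rw [map_one]; exact map_one m
      · rw [hf]; exact hcc
    · have h := card_eq_map_mul m (graph f)
      have hle : m.ker ≤ graph f := fun p hp => by
        rcases hker p hp with rfl | rfl
        · exact one_mem _
        · exact Or.inl hf.symm
      rw [card_graph, inf_eq_right.mpr hle, hk2] at h
      · omega
  have hccomm : ∀ p q, ⁅m p, m q⁆ = 1 ∨ ⁅m p, m q⁆ = z := fun p q => by
    rw [← map_commutatorElement]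
    exact hsmall _ (comm_cc p.1 q.1) (comm_cc p.2 q.2)
  have hcen : ∀ (f : QuaternionGroup 2 →* QuaternionGroup 2),
      (∀ x y : QuaternionGroup 2, (∀ w, x * w * x⁻¹ * w⁻¹ = y * f w * y⁻¹ * (f w)⁻¹) → y = f x ∨ y = cc * f x) →
      ∀ q ∈ Q, (∀ a ∈ (graph f).map m, a * q = q * a) → q ∈ (graph f).map m := by
    intro f hdec q hq hall
    rw [← hrange] at hq
    obtain ⟨⟨x, y⟩, rfl⟩ := hq
    refine mem_map_of_mem m (hdec x y fun w => ?_)
    have h := hker ⁅(x, y), (w, f w)⁆ (by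
      rw [map_commutatorElement, commutatorElement_eq_one_iff_mul_comm]
      exact (hall _ (mem_map_of_mem m (Or.inl rfl : (w, f w) ∈ graph f))).symm)
    rcases h with h | h
    · exact (congrArg Prod.fst h).trans (congrArg Prod.snd h).symm
    · exact (congrArg Prod.fst h).trans (congrArg Prod.snd h).symm
  obtain ⟨hzA, hAQ, hA2, hA8⟩ := hgraph (MonoidHom.id _) rfl
  obtain ⟨hzA', hAQ', hA2', hA8'⟩ := hgraph τ (show twist cc = cc by decide)
  refine ⟨(graph (MonoidHom.id _)).map m, (graph τ).map m, z, hS, hzA, hzA', hz1, ?_, hAQ, hAQ', hA2, hA2', hA8, hA8',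
    hcen _ inner_one, hcen _ inner_twist, ?_, ?_, ?_, hC⟩
  · intro q hq
    rw [← hrange] at hq
    obtain ⟨p, rfl⟩ := hq
    rw [hz, ← map_mul, ← map_mul]
    congr 1
    exact Prod.ext (cc_comm p.1).symm (by simp)
  · refine le_antisymm (sup_le hAQ hAQ') fun q hq => ?_
    rw [← hrange] at hq
    obtain ⟨⟨x, y⟩, rfl⟩ := hq
    obtain ⟨u, v, h | h⟩ := exists_split x y <;> rw [← h.1, ← h.2, ← Prod.mk_mul_mk, map_mul]
    · exact mul_mem (mem_sup_left (mem_map_of_mem m (Or.inl rfl))) (mem_sup_right (mem_map_of_mem m (Or.inl rfl)))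
    · exact mul_mem (mem_sup_left (mem_map_of_mem m (Or.inl rfl))) (mem_sup_right (mem_map_of_mem m (Or.inr rfl)))
  · rintro _ ⟨⟨x, y⟩, hp, rfl⟩ hx'
    obtain ⟨p', hp', e⟩ := hx'
    have hpd : (x, y) ∈ graph τ := by
      rcases hker ((x, y) * p'⁻¹) (by rw [map_mul, map_inv, e, mul_inv_cancel]) with h | h
      · rw [mul_inv_eq_one.mp h]; exact hp'
      · rw [mul_inv_eq_iff_eq_mul.mp h]
        exact mul_mem (Or.inl (show cc = twist cc by decide)) hp'
    have hy1 : y = x ∨ y = cc * x := hp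
    have hy2 : y = twist x ∨ y = cc * twist x := hpd
    have hx : x = 1 ∨ x = cc := both x (by
      rcases hy1 with e1 | e1 <;> rcases hy2 with e2 | e2 <;> rw [e1] at e2
      · exact Or.inl e2.symm
      · refine Or.inr ?_
        have h' := congrArg (cc * ·) e2
        simp only [← mul_assoc, cc_sq, one_mul] at h'
        exact h'.symm
      · exact Or.inr e2.symm
      · exact Or.inl (mul_left_cancel e2).symm)
    refine hsmall _ hx ?_
    rcases hy1 with rfl | rfl
    · exact hx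
    · rcases hx with rfl | rfl
      · exact Or.inr (mul_one _)
      · exact Or.inl cc_sq
  · intro p hp q hq
    rw [← hrange] at hp hq
    obtain ⟨p', rfl⟩ := hp
    obtain ⟨q', rfl⟩ := hq
    exact hccomm p' q'

/-- Let S be a finite 2-group and Q a subgroup of order 32 generated by two elementwise-commuting subgroups Q₁, Q₂ each isomorphic to the quaternion group of order 8 (so Q = Q₁ ∗ Q₂). If C_S(Q) ≤ Q, then every section of S has 2-rank at most 4. -/
theorem result {S : Type*} [Group S] [Finite S] (hS : IsPGroup 2 S) (Q Q₁ Q₂ : Subgroup S) (e₁ : Q₁ ≃* QuaternionGroup 2) (e₂ : Q₂ ≃* QuaternionGroup 2) (hcomm : ∀ a ∈ Q₁, ∀ b ∈ Q₂, a * b = b * a) (hQ : Q₁ ⊔ Q₂ = Q) (hQ32 : Nat.card Q = 32) (hC : Subgroup.centralizer (Q : Set S) ≤ Q) : Cfsg.SectionalPRankLE 2 4 S := by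
  obtain ⟨A, A', z, P⟩ := exists_pair hS e₁ e₂ hcomm hQ hQ32 hC
  rcases P.selfCentralizing with h | h
  · exact sectionalPRankLE_of_self_centralizing_eight ⟨hS, fun a ha b hb => P.comm ha hb, P.two, P.cd, h⟩
  · exact sectionalPRankLE_of_self_centralizing_eight ⟨hS, fun a ha b hb => P.symm.comm ha hb, P.two', P.cd', h⟩

end Cfsg.Agent.S1233
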