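import Cfsg.Statements.S1234
import Cfsg.Agent.Lib.Sectional.Harada

set_option autoImplicit false
open Cfsg Cfsg.Agent.Sectional Subgroup

namespace Cfsg.Agent.S1234

/-- Let S be a finite 2-group and Q ≤ S a subgroup of order 32 having an elementary abelian subgroup E of order 16 and an involution s ∉ E whose centralizer in E has order 4 (so Q ≅ (Z₂ × Z₂) ≀ Z₂). If C_S(Z(Q)) = Q, then every section of S has 2-rank at most 4. -/
theorem result {S : Type*} [Group S] [Finite S] (hS : IsPGroup 2 S) (Q E : Subgroup S) (hEQ : E ≤ Q) (hE : Cfsg.IsElementaryAbelian 2 E) (hE16 : Nat.card E = 16) (hQ32 : Nat.card Q = 32) (s : S) (hsQ : s ∈ Q) (hsE : s ∉ E) (hs : orderOf s = 2) (hfix : Nat.card ↥(E ⊓ Subgroup.centralizer ({s} : Set S)) = 4) (hC : Subgroup.centralizer (((Subgroup.center Q).map Q.subtype : Subgroup S) : Set S) = Q) : Cfsg.SectionalPRankLE 2 4 S := by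
  have : Fact (Nat.Prime 2) := ⟨Nat.prime_two⟩
  set W := E ⊓ Subgroup.centralizer ({s} : Set S) with hW
  have hcE : ∀ a ∈ E, ∀ b ∈ E, a * b = b * a := fun a ha b hb =>
    congrArg Subtype.val (hE.1.is_comm.comm ⟨a, ha⟩ ⟨b, hb⟩)
  have hs2 : s ^ 2 = 1 := orderOf_dvd_iff_pow_eq_one.mp (by rw [hs])
  have hss : s * s = 1 := by rw [← pow_two]; exact hs2
  have hdec : ∀ q ∈ Q, q ∉ E → q * s ∈ E := fun q hq hqE =>
    (mul_mem_of_card_le hEQ (by rw [hQ32, hE16]) hq hqE hsQ hsE).1
  have hWs : ∀ w ∈ W, w * s = s * w := fun w hw => mem_centralizer_singleton_iff.mp hw.2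
  have hcen : ((Subgroup.center Q).map Q.subtype : Subgroup S) = W := by
    apply le_antisymm
    · rintro _ ⟨c, hc, rfl⟩
      have hcQ : ∀ q ∈ Q, q * (c : S) = (c : S) * q := fun q hq =>
        congrArg Subtype.val (Subgroup.mem_center_iff.mp hc ⟨q, hq⟩)
      refine ⟨?_, mem_centralizer_singleton_iff.mpr (hcQ s hsQ).symm⟩
      by_contra hcE'
      have he := hdec c c.2 hcE'
      have hall : E ≤ Subgroup.centralizer ({s} : Set S) := fun e he' => by
        refine mem_centralizer_singleton_iff.mpr ?_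
        have h1 : Commute e ((c : S) * s) := hcE e he' _ he
        have h2 : Commute e (c : S) := hcQ e (hEQ he')
        have h3 := Commute.mul_right h2.inv_right h1
        rwa [inv_mul_cancel_left] at h3
      rw [hW, inf_eq_left.mpr hall] at hfix
      omega
    · intro w hw
      refine ⟨⟨w, hEQ hw.1⟩, Subgroup.mem_center_iff.mpr fun q => Subtype.ext ?_, rfl⟩
      show (q : S) * w = w * q
      by_cases hq : (q : S) ∈ E
      · exact hcE _ hq _ hw.1
      · have h1 : Commute w ((q : S) * s) := hcE _ hw.1 _ (hdec q q.2 hq)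
        have h2 := Commute.mul_right h1 (hWs w hw : Commute w s)
        rw [mul_assoc, hss, mul_one] at h2
        exact h2.symm
  rw [hcen] at hC
  have hWQ : W ≤ Q := fun w hw => hEQ hw.1
  have hW2 : ∀ w ∈ W, w ^ 2 = 1 := fun w hw => hE.2 w hw.1
  let A : Subgroup S :=
    { carrier := {x | x ∈ W ∨ x * s ∈ W}
      one_mem' := Or.inl (one_mem W)
      mul_mem' := by
        rintro a b (ha | ha) (hb | hb)
        · exact Or.inl (mul_mem ha hb)
        · exact Or.inr (by rw [mul_assoc]; exact mul_mem ha hb)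
        · refine Or.inr ?_
          rw [mul_assoc, hWs b hb, ← mul_assoc]
          exact mul_mem ha hb
        · refine Or.inl ?_
          have h := mul_mem ha hb
          rwa [mul_assoc, ← mul_assoc s b s, ← mul_assoc, ← mul_assoc,
            show a * s * b * s = a * (s * (b * s)) by group, ← hWs _ hb, mul_assoc b s s, hss, mul_one] at h
      inv_mem' := by
        rintro a (ha | ha)
        · exact Or.inl (inv_mem ha)
        · refine Or.inr ?_
          have h := inv_mem ha
          have hsi : s⁻¹ = s := inv_eq_of_mul_eq_one_right hss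
          have hc : s * (a * s)⁻¹ = (a * s)⁻¹ * s := (hWs _ h).symm
          have e : a⁻¹ * s = s * (a * s)⁻¹ * s := by
            rw [mul_inv_rev, hsi, ← mul_assoc s s, hss, one_mul]
          rw [e, hc, mul_assoc, hss, mul_one]
          exact h }
  have hWA : W ≤ A := fun w hw => Or.inl hw
  have hsA : s ∈ A := Or.inr (by rw [hss]; exact one_mem W)
  have hform : ∀ a ∈ A, ∃ w ∈ W, a = w ∨ a = w * s := fun a ha => ha.elim (fun h => ⟨a, h, Or.inl rfl⟩)
    fun h => ⟨a * s, h, Or.inr (by rw [mul_assoc, hss, mul_one])⟩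
  have hA8 : Nat.card A = 8 := by
    have h1 := PGroup.mul_card_le_of_lt (p := 2) hS (lt_of_le_of_ne hWA fun e => hsE (e.ge hsA).1)
    rw [hfix] at h1
    have hsub : (A : Set S) ⊆ (W : Set S) ∪ (fun w => w * s) '' (W : Set S) := fun a ha => by
      rcases hform a ha with ⟨w, hw, rfl | rfl⟩
      · exact Or.inl hw
      · exact Or.inr ⟨w, hw, rfl⟩
    have h2 := (Set.ncard_le_ncard hsub (Set.toFinite _)).trans (Set.ncard_union_le _ _)
    have h3 := Set.ncard_image_le (f := fun w => w * s) (Set.toFinite (W : Set S))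
    rw [← Nat.card_coe_set_eq, SetLike.coe_sort_coe] at h2
    rw [← Nat.card_coe_set_eq (W : Set S), SetLike.coe_sort_coe, hfix] at h2 h3
    omega
  refine sectionalPRankLE_of_self_centralizing_eight (A := A) ⟨hS, ?_, ?_, hA8, ?_⟩
  · intro a ha b hb
    obtain ⟨w, hw, ea⟩ := hform a ha
    obtain ⟨w', hw', eb⟩ := hform b hb
    have c : Commute w w' := hcE _ hw.1 _ hw'.1
    rcases ea with ea | ea <;> rcases eb with eb | eb <;> rw [ea, eb]
    · exact c
    · exact Commute.mul_right c (hWs w hw)
    · exact Commute.mul_left c (hWs w' hw').symm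
    · exact Commute.mul_left (Commute.mul_right c (hWs w hw))
        (Commute.mul_right (hWs w' hw').symm (Commute.refl s))
  · intro a ha
    obtain ⟨w, hw, ea⟩ := hform a ha
    rcases ea with ea | ea <;> rw [ea]
    · exact hW2 _ hw
    · rw [Commute.mul_pow (hWs w hw), hW2 w hw, hs2, one_mul]
  · intro x hx
    have hxQ : x ∈ Q := hC.le (Subgroup.mem_centralizer_iff.mpr fun w hw => Subgroup.mem_centralizer_iff.mp hx w (hWA hw))
    have hxs : Commute x s := (Subgroup.mem_centralizer_iff.mp hx s hsA).symm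
    by_cases hxE : x ∈ E
    · exact hWA ⟨hxE, mem_centralizer_singleton_iff.mpr hxs⟩
    · exact Or.inr ⟨hdec x hxQ hxE, mem_centralizer_singleton_iff.mpr (Commute.mul_left hxs (Commute.refl s))⟩

end Cfsg.Agent.S1234
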