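import Cfsg.Statements.S1236
import Cfsg.Agent.Lib.Cores.Basic
import Cfsg.Agent.S1190

set_option autoImplicit false
open Cfsg

namespace Cfsg.Agent.S1236

theorem two_torsion_card (m : ℕ) [NeZero m] :
    (Finset.univ.filter fun j : ZMod m => 2 * j = 0).card ≤ 2 := by
  classical
  refine (Finset.card_le_card (t := {0, ((m / 2 : ℕ) : ZMod m)}) fun j hj => ?_).trans Finset.card_le_two
  obtain ⟨-, hj⟩ := Finset.mem_filter.1 hj
  rw [← ZMod.natCast_rightInverse j, show (2 : ZMod m) = ((2 : ℕ) : ZMod m) by simp, ← Nat.cast_mul,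
    ZMod.natCast_eq_zero_iff] at hj
  obtain ⟨c, hc⟩ := hj
  have hlt := ZMod.val_lt j
  have : c < 2 := by nlinarith
  rw [Finset.mem_insert, Finset.mem_singleton]
  interval_cases c
  · left; exact (ZMod.val_eq_zero j).1 (by omega)
  · right; rw [← ZMod.natCast_rightInverse j]; congr 1; omega

theorem dihedral_klein {Q : Type*} [Group Q] [Finite Q] {m : ℕ} (e : Q ≃* DihedralGroup m) (hm : 2 ≤ m)
    (T : Subgroup Q) (hT4 : Nat.card T = 4) (hsq : ∀ x ∈ T, x * x = 1) :
    Subgroup.centralizer (T : Set Q) ≤ T := by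
  classical
  haveI : NeZero m := ⟨by omega⟩
  -- `T` contains a reflection
  obtain ⟨x, hxT, i, hxi⟩ : ∃ x ∈ T, ∃ i, e x = .sr i := by
    by_contra! h
    have hsub : Nat.card T ≤ Nat.card {j : ZMod m // 2 * j = 0} := by
      have hr : ∀ x : T, ∃ j : ZMod m, 2 * j = 0 ∧ e x = .r j := by
        intro x
        rcases hx : e x with j | j
        · refine ⟨j, ?_, rfl⟩
          have := congrArg e (hsq x x.2)
          rw [map_mul, map_one, hx, DihedralGroup.r_mul_r, DihedralGroup.one_def,
            DihedralGroup.r.injEq] at this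
          rw [two_mul, this]
        · exact absurd hx (h x x.2 j)
      choose f hf hfe using hr
      refine Nat.card_le_card_of_injective (fun x => ⟨f x, hf x⟩) fun a b hab => ?_
      simp only [Subtype.mk.injEq] at hab
      exact Subtype.ext (e.injective (by rw [hfe a, hfe b, hab]))
    rw [hT4, Nat.card_eq_fintype_card, Fintype.card_subtype] at hsub
    have := two_torsion_card m
    omega
  -- and the centralizer of a reflection has order at most four
  have hsub : Nat.card (Subgroup.centralizer (T : Set Q)) ≤ 4 := by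
    have hr : ∀ c : Subgroup.centralizer (T : Set Q), ∃ (b : Bool) (j : {j : ZMod m // 2 * j = 0}),
        e c = if b then .r j.1 else .sr (i + j.1) := by
      intro c
      have hcx := congrArg e (Subgroup.mem_centralizer_iff.1 c.2 x hxT)
      rw [map_mul, map_mul, hxi] at hcx
      rcases hc : e c with j | j <;> rw [hc] at hcx
      · rw [DihedralGroup.sr_mul_r, DihedralGroup.r_mul_sr, DihedralGroup.sr.injEq] at hcx
        exact ⟨true, ⟨j, by linear_combination hcx⟩, by simp⟩
      · rw [DihedralGroup.sr_mul_sr, DihedralGroup.sr_mul_sr, DihedralGroup.r.injEq] at hcx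
        exact ⟨false, ⟨j - i, by linear_combination hcx⟩, by simp⟩
    choose b j hj using hr
    have h := Nat.card_le_card_of_injective (fun c => (b c, j c)) fun a c hac => by
      simp only [Prod.mk.injEq] at hac
      exact Subtype.ext (e.injective (by rw [hj a, hj c, hac.1, hac.2]))
    rw [Nat.card_prod, Nat.card_eq_fintype_card (α := Bool), Fintype.card_bool,
      Nat.card_eq_fintype_card (α := {j : ZMod m // 2 * j = 0}), Fintype.card_subtype] at h
    have := two_torsion_card m
    omega
  have hle : T ≤ Subgroup.centralizer (T : Set Q) := fun a ha => Subgroup.mem_centralizer_iff.2 fun b hb => by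
    have hi : ∀ y ∈ T, y⁻¹ = y := fun y hy => inv_eq_of_mul_eq_one_right (hsq y hy)
    rw [← hi _ (T.mul_mem hb ha), mul_inv_rev, hi a ha, hi b hb]
  exact (Subgroup.eq_of_le_of_card_ge hle (by rw [hT4]; exact hsub)).ge

/-- Let R be a finite group, t a central involution of R such that R ⧸ ⟨t⟩ is dihedral (of order ≥ 4) or quasi-dihedral, and A ≤ R an elementary abelian subgroup of order 8 containing t. Then C_R(A) = A. -/
theorem result {R : Type*} [Group R] [Finite R] (t : R) (ht : orderOf t = 2) (htz : t ∈ Subgroup.center R) [(Subgroup.zpowers t).Normal] (hq : (∃ m : ℕ, 2 ≤ m ∧ Nonempty (R ⧸ Subgroup.zpowers t ≃* DihedralGroup m)) ∨ Cfsg.IsQuasiDihedral (R ⧸ Subgroup.zpowers t)) (A : Subgroup R) (hA : Cfsg.IsElementaryAbelian 2 A) (hA8 : Nat.card A = 8) (htA : t ∈ A) : Subgroup.centralizer (A : Set R) = A := by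
  classical
  set π := QuotientGroup.mk' (Subgroup.zpowers t) with hπ
  set T := A.map π with hT
  have hzA : Subgroup.zpowers t ≤ A := Subgroup.zpowers_le.2 htA
  have hT4 : Nat.card T = 4 := by
    have h := Cores.card_map_mul_ker π A (by rw [hπ, QuotientGroup.ker_mk']; exact hzA)
    rw [hπ, QuotientGroup.ker_mk', Nat.card_zpowers, ht, hA8, ← hπ, ← hT] at h
    omega
  have hsq : ∀ x ∈ T, x * x = 1 := by
    rintro _ ⟨a, ha, rfl⟩
    rw [← map_mul, ← sq, hA.2 a ha, map_one]
  haveI hTK : IsKleinFour T := by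
    refine ⟨hT4, ?_⟩
    haveI : Nontrivial T := Finite.one_lt_card_iff_nontrivial.1 (by rw [hT4]; norm_num)
    refine ((Nat.dvd_prime Nat.prime_two).1 (Monoid.exponent_dvd_of_forall_pow_eq_one (G := T)
      fun x => Subtype.ext (by simpa [sq] using hsq x x.2))).resolve_left fun h => ?_
    exact not_subsingleton T (Monoid.exp_eq_one_iff.1 h)
  have hself : Subgroup.centralizer (T : Set (R ⧸ Subgroup.zpowers t)) ≤ T := by
    rcases hq with ⟨m, hm, ⟨e⟩⟩ | hQD
    · exact dihedral_klein e hm T hT4 hsq
    · exact ((S1190.result hQD).2 T hTK).1.le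
  refine le_antisymm (fun c hc => ?_) (fun a ha => Subgroup.mem_centralizer_iff.2 fun b hb =>
    congrArg Subtype.val (hA.1.is_comm.comm (⟨b, hb⟩ : A) ⟨a, ha⟩))
  have h1 : π c ∈ T := hself (Subgroup.mem_centralizer_iff.2 (by
    rintro _ ⟨a, ha, rfl⟩
    rw [← map_mul, ← map_mul, Subgroup.mem_centralizer_iff.1 hc a ha]))
  obtain ⟨a, ha, hac⟩ := h1
  have : a⁻¹ * c ∈ Subgroup.zpowers t := by
    rw [← QuotientGroup.ker_mk' (Subgroup.zpowers t), MonoidHom.mem_ker, ← hπ, map_mul, map_inv, hac,
      inv_mul_cancel]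
  simpa using A.mul_mem ha (hzA this)

end Cfsg.Agent.S1236
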