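import Cfsg.Statements.S1235
import Cfsg.Agent.Lib.Sectional.DirectFour
import Cfsg.Agent.Lib.QDWreath.SemidihedralStructure
import Cfsg.Agent.S1236
import Cfsg.Agent.EqLemmas

set_option autoImplicit false
open Cfsg

namespace Cfsg.Agent.S1235

theorem dihedral_center_le (m : ℕ) (hm : 3 ≤ m) : Nat.card (Subgroup.center (DihedralGroup m)) ≤ 2 := by
  classical
  haveI : NeZero m := ⟨by omega⟩
  have hr : ∀ c : Subgroup.center (DihedralGroup m), ∃ j : {j : ZMod m // 2 * j = 0}, (c : DihedralGroup m) = .r j := by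
    rintro ⟨c, hc⟩
    rw [Subgroup.mem_center_iff] at hc
    rcases c with j | j
    · refine ⟨⟨j, ?_⟩, rfl⟩
      have := hc (.sr 0)
      rw [DihedralGroup.sr_mul_r, DihedralGroup.r_mul_sr, DihedralGroup.sr.injEq] at this
      linear_combination this
    · exfalso
      have := hc (.r 1)
      rw [DihedralGroup.r_mul_sr, DihedralGroup.sr_mul_r, DihedralGroup.sr.injEq] at this
      have h2 : ((2 : ℕ) : ZMod m) = 0 := by push_cast; linear_combination -this
      rw [ZMod.natCast_eq_zero_iff] at h2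
      have := Nat.le_of_dvd (by norm_num) h2
      omega
  choose j hj using hr
  refine (Nat.card_le_card_of_injective j fun a b e => Subtype.ext (by rw [hj a, hj b, e])).trans ?_
  rw [Nat.card_eq_fintype_card, Fintype.card_subtype]
  exact S1236.two_torsion_card m

theorem dihedral_two_sq : ∀ x : DihedralGroup 2, x ^ 2 = 1 := by decide

theorem shape {S : Type*} [Group S] [Finite S] (D : Subgroup S)
    (h : (∃ m : ℕ, 2 ≤ m ∧ Nonempty (D ≃* DihedralGroup m)) ∨ Cfsg.IsQuasiDihedral D) : Sectional.DShape D := by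
  classical
  have hZ : Nat.card (Subgroup.center D) = Nat.card (D ⊓ Subgroup.centralizer (D : Set S) : Subgroup S) := by
    rw [← Subgroup.card_map_of_injective D.subtype_injective]
    congr 2
    ext x
    constructor
    · rintro ⟨c, hc, rfl⟩
      exact Subgroup.mem_inf.2 ⟨c.2, Subgroup.mem_centralizer_iff.2 fun d hd =>
        congrArg Subtype.val (Subgroup.mem_center_iff.1 hc ⟨d, hd⟩)⟩
    · rintro ⟨hx, hxc⟩
      exact ⟨⟨x, hx⟩, Subgroup.mem_center_iff.2 fun d => Subtype.ext (Subgroup.mem_centralizer_iff.1 hxc d d.2), rfl⟩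
  rcases h with ⟨m, hm, ⟨e⟩⟩ | hQ
  · haveI : NeZero m := ⟨by omega⟩
    have hcard : Nat.card D = 2 * m := by
      rw [Nat.card_congr e.toEquiv, DihedralGroup.nat_card]
    refine ⟨⟨_, (e.symm (.r 1)).2, ?_⟩, ?_⟩
    · rw [Subgroup.orderOf_coe, MulEquiv.orderOf_eq, DihedralGroup.orderOf_r_one, hcard]
    · rcases Nat.lt_or_ge m 3 with hm3 | hm3
      · obtain rfl : m = 2 := by omega
        refine Or.inl ⟨hcard, fun d hd => ?_⟩
        have h1 : (⟨d, hd⟩ : D) ^ 2 = 1 := e.injective (by rw [map_pow, map_one]; exact dihedral_two_sq _)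
        exact congrArg Subtype.val h1
      · refine Or.inr ⟨by omega, ?_⟩
        rw [← hZ, Nat.card_congr (Subgroup.centerCongr e).toEquiv]
        exact dihedral_center_le m hm3
  · obtain ⟨n, ⟨q⟩⟩ := QDWreath.nonempty_qdData hQ
    refine ⟨⟨_, q.x.2, ?_⟩, Or.inr ⟨?_, ?_⟩⟩
    · rw [Subgroup.orderOf_coe, q.order_x, q.card, pow_succ']
    · rw [q.card]; exact (Nat.one_lt_two_pow (by omega)).ne'
    · rw [← hZ, q.card_center]

/-- Let G be a finite group, x an involution and T ≤ G a Sylow 2-subgroup of C_G(x) (T ≤ C_G(x) with |C_G(x) : T| odd) which is the internal direct product of a subgroup D that is dihedral (of order ≥ 4) or quasi-dihedral and a Klein four-subgroup B. Suppose that for every involution b ∈ B, T ≤ C_G(b) with |C_G(b) : T| odd. Then every section of G has 2-rank at most 4. -/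
theorem result {G : Type*} [Group G] [Finite G] (x : G) (hx : orderOf x = 2) (T D B : Subgroup G) (hT : IsPGroup 2 T) (hTx : T ≤ Subgroup.centralizer ({x} : Set G)) (hTxi : Odd (T.relIndex (Subgroup.centralizer ({x} : Set G)))) (hprod : Cfsg.IsInternalDirectProduct D B T) (hD : (∃ m : ℕ, 2 ≤ m ∧ Nonempty (D ≃* DihedralGroup m)) ∨ Cfsg.IsQuasiDihedral D) (hB : IsKleinFour B) (hTb : ∀ b ∈ B, orderOf b = 2 → T ≤ Subgroup.centralizer ({b} : Set G) ∧ Odd (T.relIndex (Subgroup.centralizer ({b} : Set G)))) : Cfsg.SectionalPRankLE 2 4 G := by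
  classical
  have : Fact (Nat.Prime 2) := ⟨Nat.prime_two⟩
  obtain ⟨P, hTP⟩ := hT.exists_le_sylow
  obtain ⟨hDT, hBT, hcomm, hinf, hsup⟩ := hprod
  haveI := hB
  refine Sectional.sectional_of_sylow P (Sectional.sectional_direct_four P.2
    (T := T.subgroupOf P) (D := D.subgroupOf P) (B := B.subgroupOf P) ⟨?_, ?_, ?_, ?_, ?_⟩ ?_ ?_ ?_ ?_)
  · exact fun x hx => hDT hx
  · exact fun x hx => hBT hx
  · exact fun a ha b hb => Subtype.ext (hcomm _ ha _ hb)
  · refine (Subgroup.eq_bot_iff_forall _).2 fun x hx => Subtype.ext ?_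
    have : (x : G) ∈ D ⊓ B := ⟨hx.1, hx.2⟩
    rwa [hinf, Subgroup.mem_bot] at this
  · rw [← Subgroup.subgroupOf_sup (hDT.trans hTP) (hBT.trans hTP), hsup]
  · have e := Subgroup.subgroupOfEquivOfLe (hDT.trans hTP)
    refine shape _ ?_
    rcases hD with ⟨m, hm, ⟨f⟩⟩ | ⟨n, hn, hc, x, y, hx, hy, hr⟩
    · exact Or.inl ⟨m, hm, ⟨e.trans f⟩⟩
    · refine Or.inr ⟨n, hn, ?_, e.symm x, e.symm y, ?_, ?_, ?_⟩
      · rw [Nat.card_congr e.toEquiv, hc]
      · rw [MulEquiv.orderOf_eq, hx]
      · rw [MulEquiv.orderOf_eq, hy]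
      · rw [← map_inv, ← map_mul, ← map_mul, hr, map_pow]
  · rw [Nat.card_congr (Subgroup.subgroupOfEquivOfLe (hBT.trans hTP)).toEquiv, IsKleinFour.card_four]
  · intro b hb
    have h2 : (⟨(b : G), hb⟩ : B) ^ 2 = 1 := by rw [sq]; exact IsKleinFour.mul_self _
    refine Subtype.ext ?_
    show ((b : G)) ^ 2 = 1
    exact congrArg (fun z : B => (z : G)) h2
  · intro b hb hb1 s hs
    have hbB : (b : G) ∈ B := hb
    have hord : orderOf (b : G) = 2 := by
      refine orderOf_eq_prime ?_ fun e => hb1 (Subtype.ext e)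
      have h2 : (⟨(b : G), hbB⟩ : B) ^ 2 = 1 := by rw [sq]; exact IsKleinFour.mul_self _
      exact congrArg Subtype.val h2
    obtain ⟨hTC, hodd⟩ := hTb b hbB hord
    set X := (P : Subgroup G) ⊓ Subgroup.centralizer ({(b : G)} : Set G) with hX
    have hTX : T ≤ X := le_inf hTP hTC
    have h1 : T.relIndex X ∣ T.relIndex (Subgroup.centralizer ({(b : G)} : Set G)) :=
      ⟨_, (Subgroup.relIndex_mul_relIndex T X _ hTX inf_le_right).symm⟩
    obtain ⟨k, hk⟩ := (P.2.to_le (inf_le_left : X ≤ (P : Subgroup G))).index (T.subgroupOf X)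
    have hk0 : k = 0 := by
      by_contra hk0
      have h2 : 2 ∣ T.relIndex X := by
        rw [Subgroup.relIndex, hk]; exact dvd_pow_self 2 hk0
      exact (Nat.not_even_iff_odd.2 hodd) (even_iff_two_dvd.2 (h2.trans h1))
    have h3 : T.relIndex X = 1 := by rw [Subgroup.relIndex, hk, hk0, pow_zero]
    exact (Subgroup.relIndex_eq_one.1 h3)
      (show (s : G) ∈ X from ⟨s.2, Subgroup.mem_centralizer_singleton_iff.2 (congrArg Subtype.val hs)⟩)

end Cfsg.Agent.S1235
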