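import Cfsg.Statements.S1241
import Cfsg.Agent.Lib.TwoFusion.Transfer

set_option autoImplicit false
open Cfsg

namespace Cfsg.Agent.S1241

/-- Let G be a finite group, p a prime, H a subgroup of index prime to p, K a subgroup of H normal in H with H/K commutative, and g ∈ H ∖ K an element of p-power order such that for all integers m and all a ∈ G with a g^m a⁻¹ ∈ H one has a g^m a⁻¹ ∈ g^m K. Then g ∉ G'. -/
theorem result {G : Type*} [Group G] [Finite G] {p : ℕ} [Fact p.Prime] (H K : Subgroup G) (hHK : K ≤ H) (hKn : (K.subgroupOf H).Normal) (hab : ∀ x ∈ H, ∀ y ∈ H, x * y * x⁻¹ * y⁻¹ ∈ K) (hidx : Nat.Coprime p H.index) (g : G) (hgH : g ∈ H) (hgK : g ∉ K) (hgp : ∃ k : ℕ, orderOf g = p ^ k) (hctrl : ∀ (m : ℤ) (a : G), a * g ^ m * a⁻¹ ∈ H → (a * g ^ m * a⁻¹) * (g ^ m)⁻¹ ∈ K) : g ∉ commutator G := by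
  let K' : Subgroup H := K.subgroupOf H
  haveI : K'.Normal := hKn
  letI : CommGroup (H ⧸ K') :=
    { (inferInstance : Group (H ⧸ K')) with
      mul_comm := by
        intro x y
        induction x using QuotientGroup.induction_on with
        | H x =>
          induction y using QuotientGroup.induction_on with
          | H y =>
            rw [← QuotientGroup.mk_mul, ← QuotientGroup.mk_mul, QuotientGroup.eq, Subgroup.mem_subgroupOf]
            have := hab _ (H.inv_mem y.2) _ (H.inv_mem x.2)
            simpa [mul_assoc] using this }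
  let φ : H →* H ⧸ K' := QuotientGroup.mk' K'
  obtain ⟨k, hk⟩ := hgp
  let g' : H := ⟨g, hgH⟩
  have hev := TwoFusion.transfer_eq_pow_of_controlled φ g' (fun m a hm => by
    rw [← map_pow]
    refine (QuotientGroup.eq_iff_div_mem).mpr ?_
    rw [Subgroup.mem_subgroupOf]
    have := hctrl (m : ℤ) a (by simpa [g'] using hm)
    simpa [g', div_eq_mul_inv] using this)
  intro hg
  have hker : MonoidHom.transfer φ g = 1 := Abelianization.commutator_subset_ker _ hg
  have hne : φ g' ≠ 1 := by
    intro h
    exact hgK (by simpa [g', φ, K', Subgroup.mem_subgroupOf] using (QuotientGroup.eq_one_iff g').mp h)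
  refine hne (TwoFusion.eq_one_of_pow_eq_one_of_coprime (m := p ^ k) (n := H.index) ?_ ?_ (hidx.pow_left k))
  · rw [← map_pow]
    have : g' ^ p ^ k = 1 := Subtype.ext (by simpa [g'] using hk ▸ pow_orderOf_eq_one g)
    rw [this, map_one]
  · rw [← hev]
    exact hker

end Cfsg.Agent.S1241
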