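import Cfsg.Statements.S1243
import Cfsg.Agent.EqLemmas

set_option autoImplicit false
open Cfsg

namespace Cfsg.Agent.S1243

/-- Let T be a Sylow p-subgroup of the finite group G and W ≤ T a subgroup weakly closed in T. If d and g d g⁻¹ both centralize W, then g d g⁻¹ = h d h⁻¹ for some h ∈ N_G(W). -/
theorem result {G : Type*} [Group G] [Finite G] {p : ℕ} [Fact p.Prime] (T : Sylow p G) (W : Subgroup G) (hW : Cfsg.IsWeaklyClosed W (T : Subgroup G)) (d g : G) (hd : d ∈ Subgroup.centralizer (W : Set G)) (hgd : g * d * g⁻¹ ∈ Subgroup.centralizer (W : Set G)) : ∃ h ∈ Subgroup.normalizer (W : Set G), h * d * h⁻¹ = g * d * g⁻¹ := by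
  obtain ⟨hWT, hcl⟩ := hW
  set d' : G := g * d * g⁻¹ with hd'
  let C := Subgroup.centralizer ({d'} : Set G)
  have hWC : W ≤ C := fun w hw => Subgroup.mem_centralizer_singleton_iff.mpr
    (Subgroup.mem_centralizer_iff.mp hgd w hw)
  have hgWC : W.map (MulAut.conj g).toMonoidHom ≤ C := by
    rintro _ ⟨w, hw, rfl⟩
    refine Subgroup.mem_centralizer_singleton_iff.mpr ?_
    have := Subgroup.mem_centralizer_iff.mp hd w hw
    simp only [MulEquiv.coe_toMonoidHom, MulAut.conj_apply, hd']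
    calc g * w * g⁻¹ * (g * d * g⁻¹) = g * (w * d) * g⁻¹ := by group
      _ = g * (d * w) * g⁻¹ := by rw [this]
      _ = g * d * g⁻¹ * (g * w * g⁻¹) := by group
  have hWp : IsPGroup p W := T.isPGroup'.to_le hWT
  obtain ⟨R₁, hR₁⟩ := (hWp.comap_subtype (K := C)).exists_le_sylow
  obtain ⟨R₂, hR₂⟩ := ((hWp.map (MulAut.conj g).toMonoidHom).comap_subtype (K := C)).exists_le_sylow
  obtain ⟨c, hc⟩ := MulAction.exists_smul_eq ↥C R₂ R₁
  have hRp : IsPGroup p ((R₁ : Subgroup ↥C).map C.subtype) := R₁.isPGroup'.map C.subtype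
  obtain ⟨T', hT'⟩ := hRp.exists_le_sylow
  obtain ⟨x, hx⟩ := MulAction.exists_smul_eq G T T'
  have hmem : ∀ y : G, y ∈ (T' : Subgroup G) → x⁻¹ * y * x ∈ (T : Subgroup G) := by
    intro y hy
    rw [← hx, Sylow.coe_subgroup_smul, Subgroup.mem_pointwise_smul_iff_inv_smul_mem,
      ← map_inv, MulAut.smul_def, MulAut.conj_apply, inv_inv] at hy
    exact hy
  have hWT' : ∀ w ∈ W, w ∈ (T' : Subgroup G) := fun w hw =>
    hT' ⟨⟨w, hWC hw⟩, hR₁ (by exact hw), rfl⟩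
  have hgT' : ∀ w ∈ W, (c : G) * g * w * g⁻¹ * (c : G)⁻¹ ∈ (T' : Subgroup G) := by
    intro w hw
    have h1 : (⟨g * w * g⁻¹, hgWC ⟨w, hw, rfl⟩⟩ : ↥C) ∈ (R₂ : Subgroup ↥C) :=
      hR₂ (by exact ⟨w, hw, rfl⟩)
    have h2 : MulAut.conj c (⟨g * w * g⁻¹, hgWC ⟨w, hw, rfl⟩⟩ : ↥C) ∈ (R₁ : Subgroup ↥C) := by
      rw [← hc, Sylow.coe_subgroup_smul]
      exact Subgroup.smul_mem_pointwise_smul _ _ _ h1
    have h3 := hT' ⟨_, h2, rfl⟩
    simpa [mul_assoc] using h3
  have e1 : W.map (MulAut.conj x⁻¹).toMonoidHom = W := by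
    refine hcl _ ?_
    rintro _ ⟨w, hw, rfl⟩
    simpa using hmem w (hWT' w hw)
  have e2 : W.map (MulAut.conj (x⁻¹ * ((c : G) * g))).toMonoidHom = W := by
    refine hcl _ ?_
    rintro _ ⟨w, hw, rfl⟩
    simpa [mul_assoc] using hmem _ (hgT' w hw)
  have hn : ∀ y : G, W.map (MulAut.conj y).toMonoidHom = W → y ∈ Subgroup.normalizer (W : Set G) := by
    intro y hy
    exact Subgroup.mem_normalizer_iff_map_conj_eq.mpr hy
  refine ⟨(c : G) * g, ?_, ?_⟩
  · have h1 := (Subgroup.normalizer (W : Set G)).mul_mem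
      ((Subgroup.normalizer (W : Set G)).inv_mem (hn _ e1)) (hn _ e2)
    simpa using h1
  · have := Subgroup.mem_centralizer_singleton_iff.mp c.2
    calc (c : G) * g * d * ((c : G) * g)⁻¹ = (c : G) * d' * (c : G)⁻¹ := by rw [hd']; group
      _ = d' := by rw [this, mul_inv_cancel_right]

end Cfsg.Agent.S1243
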