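import Cfsg.Statements.S1244
import Cfsg.Agent.Lib.TwoFusion.Transfer

set_option autoImplicit false
open Cfsg

namespace Cfsg.Agent.S1244

/-- The elements of order dividing two of a commutative subgroup. -/
def omega {G : Type*} [Group G] (S : Subgroup G) (hS : IsMulCommutative S) : Subgroup G where
  carrier := {x : G | x ∈ S ∧ x ^ 2 = 1}
  one_mem' := ⟨S.one_mem, one_pow 2⟩
  mul_mem' := by
    rintro a b ⟨ha, ha2⟩ ⟨hb, hb2⟩
    refine ⟨S.mul_mem ha hb, ?_⟩
    have hc : Commute a b := congrArg Subtype.val (hS.is_comm.comm (⟨a, ha⟩ : S) ⟨b, hb⟩)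
    rw [hc.mul_pow, ha2, hb2, one_mul]
  inv_mem' := by
    rintro a ⟨ha, ha2⟩
    exact ⟨S.inv_mem ha, by rw [inv_pow, ha2, inv_one]⟩

theorem omega_comm {G : Type*} [Group G] (S : Subgroup G) (hS : IsMulCommutative S) :
    IsMulCommutative (omega S hS) :=
  ⟨⟨fun a b => Subtype.ext (congrArg Subtype.val (hS.is_comm.comm (⟨a.1, a.2.1⟩ : S) ⟨b.1, b.2.1⟩) :)⟩⟩

theorem card_omega {G : Type*} [Group G] [Finite G] (S : Subgroup G) (hS : IsMulCommutative S) (r : ℕ)
    (h : Cfsg.PRankLE 2 r S) (h' : r = 0 ∨ ¬ Cfsg.PRankLE 2 (r - 1) S) :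
    Nat.card (omega S hS) = 2 ^ r := by
  have hV : IsPGroup 2 (omega S hS) := fun x => ⟨1, Subtype.ext (by simpa using x.2.2)⟩
  haveI : Fact (Nat.Prime 2) := ⟨Nat.prime_two⟩
  obtain ⟨v, hv⟩ := hV.exists_card_eq
  have hle : omega S hS ≤ S := fun x hx => hx.1
  have hup : 2 ^ v ≤ 2 ^ r := by
    rw [← hv, ← Nat.card_congr (Subgroup.subgroupOfEquivOfLe hle).toEquiv]
    refine h _ ⟨⟨fun a b => Subtype.ext (hS.is_comm.comm a.1 b.1)⟩⟩ ?_
    intro a ha
    exact Subtype.ext (by simpa using (Subgroup.mem_subgroupOf.mp ha).2)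
  rw [hv]
  rcases h' with rfl | h'
  · have := (Nat.pow_le_pow_iff_right (by norm_num : 1 < 2)).mp hup
    rw [Nat.le_zero.mp this]
  · simp only [Cfsg.PRankLE, not_forall, not_le] at h'
    obtain ⟨A, _, hA, hcard⟩ := h'
    have hAV : A.map S.subtype ≤ omega S hS := by
      rintro _ ⟨a, ha, rfl⟩
      exact ⟨a.2, by simpa using congrArg Subtype.val (hA a ha)⟩
    have h1 := Subgroup.card_le_of_le hAV
    rw [Subgroup.card_map_of_injective S.subtype_injective, hv] at h1
    have h2 := (Nat.pow_lt_pow_iff_right (by norm_num : 1 < 2)).mp (hcard.trans_le h1)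
    have h3 := (Nat.pow_le_pow_iff_right (by norm_num : 1 < 2)).mp hup
    congr 1
    omega

/-- Let G be a finite group with no subgroup of index 2 whose Sylow 2-subgroup S is commutative, and let R ≤ S be a subgroup whose 2-rank is exactly one less than the 2-rank r of S. Then every involution of S is conjugate, by an element of N_G(S), to an element of R. -/
theorem result {G : Type*} [Group G] [Finite G] (hG : ∀ H : Subgroup G, H.index ≠ 2) (S : Sylow 2 G) (hS : IsMulCommutative (S : Subgroup G)) (r : ℕ) (hr1 : 1 ≤ r) (hSr : Cfsg.PRankLE 2 r (S : Subgroup G) ∧ ¬ Cfsg.PRankLE 2 (r - 1) (S : Subgroup G)) (R : Subgroup G) (hRS : R ≤ S) (hRr : Cfsg.PRankLE 2 (r - 1) R ∧ (r = 1 ∨ ¬ Cfsg.PRankLE 2 (r - 2) R)) (t : G) (ht : orderOf t = 2) (htS : t ∈ S) : ∃ n ∈ Subgroup.normalizer ((S : Subgroup G) : Set G), n * t * n⁻¹ ∈ R := by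
  classical
  haveI : IsMulCommutative (S : Subgroup G) := hS
  have hR : IsMulCommutative R :=
    ⟨⟨fun a b => Subtype.ext (congrArg Subtype.val
      (hS.is_comm.comm (⟨a.1, hRS a.2⟩ : (S : Subgroup G)) ⟨b.1, hRS b.2⟩) :)⟩⟩
  by_contra! hcon
  set N := Subgroup.normalizer ((S : Subgroup G) : Set G) with hN
  let V := omega (S : Subgroup G) hS
  let W : Subgroup V := (omega R hR).subgroupOf V
  haveI : IsMulCommutative V := omega_comm _ hS
  have hWV : omega R hR ≤ V := fun x hx => ⟨hRS hx.1, hx.2⟩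
  have hV : Nat.card V = 2 ^ r := card_omega _ hS r hSr.1 (Or.inr hSr.2)
  have hW : Nat.card W = 2 ^ (r - 1) := by
    rw [Nat.card_congr (Subgroup.subgroupOfEquivOfLe hWV).toEquiv]
    refine card_omega _ hR (r - 1) hRr.1 ?_
    rcases hRr.2 with h | h
    · exact Or.inl (by omega)
    · exact Or.inr (by simpa [Nat.sub_sub] using h)
  have hidxW : W.index = 2 := by
    have h1 := W.card_mul_index
    obtain ⟨j, rfl⟩ : ∃ j, r = j + 1 := ⟨r - 1, by omega⟩
    rw [hW, hV, pow_succ, Nat.add_sub_cancel] at h1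
    exact Nat.eq_of_mul_eq_mul_left (by positivity) h1
  -- the orbit of `t` under the normalizer
  have hconjV : ∀ n ∈ N, ∀ x ∈ V, n * x * n⁻¹ ∈ V := fun n hn x hx =>
    ⟨(Subgroup.mem_normalizer_iff.mp hn x).mp hx.1, by rw [conj_pow, hx.2, mul_one, mul_inv_cancel]⟩
  let act : MulAction N V :=
    { smul := fun n x => ⟨n.1 * x.1 * n.1⁻¹, hconjV _ n.2 _ x.2⟩
      one_smul := fun x => Subtype.ext (show (1 : G) * x.1 * (1 : G)⁻¹ = x.1 by simp)
      mul_smul := fun a b x => Subtype.ext
        (show (a.1 * b.1) * x.1 * (a.1 * b.1)⁻¹ = a.1 * (b.1 * x.1 * b.1⁻¹) * a.1⁻¹ by group) }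
  let t' : V := ⟨t, htS, by rw [← ht]; exact pow_orderOf_eq_one t⟩
  haveI : Fintype V := Fintype.ofFinite _
  let O : Finset V := Finset.univ.filter (fun x => x ∈ MulAction.orbit N t')
  have hOmem : ∀ x, x ∈ O ↔ ∃ n : N, n • t' = x := fun x => by
    simp [O, MulAction.mem_orbit_iff]
  have hodd : Odd O.card := by
    have hO1 : O.card = (MulAction.stabilizer N t').index := by
      rw [MulAction.index_stabilizer, Set.ncard_eq_toFinset_card']
      congr 1
      ext x
      simp [O]
    have hle : (S : Subgroup G).subgroupOf N ≤ MulAction.stabilizer N t' := by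
      intro n hn
      rw [MulAction.mem_stabilizer_iff]
      refine Subtype.ext (show n.1 * t * n.1⁻¹ = t from ?_)
      have := congrArg Subtype.val (hS.is_comm.comm (⟨n.1, hn⟩ : (S : Subgroup G)) ⟨t, htS⟩)
      rw [show n.1 * t = t * n.1 from this, mul_inv_cancel_right]
    rw [hO1, ← Nat.not_even_iff_odd, even_iff_two_dvd]
    intro h2
    exact S.not_dvd_index (h2.trans ((Subgroup.index_dvd_of_le hle).trans
      (Subgroup.relIndex_dvd_index_of_le Subgroup.le_normalizer)))
  have hOW : ∀ x ∈ O, x ∉ W := by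
    intro x hx hxW
    obtain ⟨n, rfl⟩ := (hOmem x).mp hx
    exact hcon n.1 n.2 (Subgroup.mem_subgroupOf.mp hxW).1
  letI : CommGroup V :=
    { (inferInstance : Group V) with mul_comm := (omega_comm (S : Subgroup G) hS).is_comm.comm }
  let s : V := ∏ x ∈ O, x
  have hsW : s ∉ W := by
    have key : ∀ F : Finset V, (∀ x ∈ F, x ∉ W) → (∏ x ∈ F, x ∈ W ↔ Even F.card) := by
      intro F
      induction F using Finset.induction_on with
      | empty => simp [one_mem]
      | @insert a F ha ih =>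
        intro hF
        rw [Finset.prod_insert ha, Finset.card_insert_of_notMem ha,
          Subgroup.mul_mem_iff_of_index_two hidxW, Nat.even_add_one,
          ih (fun x hx => hF x (Finset.mem_insert_of_mem hx))]
        simp [hF a (Finset.mem_insert_self a F)]
    exact fun h => Nat.not_even_iff_odd.mpr hodd ((key O hOW).mp h)
  have hsfix : ∀ n ∈ N, n * s.1 * n⁻¹ = s.1 := by
    intro n hn
    let e : V →* V :=
      { toFun := fun x => (⟨n, hn⟩ : N) • x
        map_one' := Subtype.ext (show n * 1 * n⁻¹ = 1 by simp)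
        map_mul' := fun a b => Subtype.ext
          (show n * (a.1 * b.1) * n⁻¹ = n * a.1 * n⁻¹ * (n * b.1 * n⁻¹) by group) }
    have he : e s = s := by
      rw [map_prod]
      refine Finset.prod_nbij' (fun x => (⟨n, hn⟩ : N) • x) (fun x => (⟨n, hn⟩ : N)⁻¹ • x) ?_ ?_
        (fun x _ => inv_smul_smul _ x) (fun x _ => smul_inv_smul _ x) (fun x _ => rfl)
      · intro x hx
        obtain ⟨m, rfl⟩ := (hOmem x).mp hx
        exact (hOmem _).mpr ⟨_, mul_smul _ m t'⟩
      · intro x hx
        obtain ⟨m, rfl⟩ := (hOmem x).mp hx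
        exact (hOmem _).mpr ⟨_, mul_smul _ m t'⟩
    exact congrArg Subtype.val he
  -- transfer to `S`
  letI : CommGroup (S : Subgroup G) :=
    { (inferInstance : Group (S : Subgroup G)) with mul_comm := hS.is_comm.comm }
  let φ : (S : Subgroup G) →* (S : Subgroup G) := MonoidHom.id _
  have hev := TwoFusion.transfer_eq_pow_of_controlled φ (⟨s.1, s.2.1⟩ : (S : Subgroup G)) (fun k a hm => by
    obtain ⟨n, hn, h⟩ := Sylow.conj_eq_normalizer_conj_of_mem S (s.1 ^ k) a⁻¹
      ((S : Subgroup G).pow_mem s.2.1 k) (by rwa [inv_inv])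
    refine Subtype.ext ?_
    rw [inv_inv] at h
    refine h.trans ?_
    have hfix := hsfix n⁻¹ (N.inv_mem hn)
    rw [inv_inv] at hfix
    calc n⁻¹ * s.1 ^ k * n = (n⁻¹ * s.1 * n) ^ k := by
          have := conj_pow (i := k) (a := n⁻¹) (b := s.1)
          rw [inv_inv] at this
          exact this.symm
      _ = s.1 ^ k := by rw [hfix])
  obtain ⟨i, hi⟩ : Odd (S : Subgroup G).index := by
    rw [← Nat.not_even_iff_odd, even_iff_two_dvd]; exact S.not_dvd_index
  have hne : MonoidHom.transfer φ ≠ 1 := by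
    intro h
    rw [h, MonoidHom.one_apply] at hev
    apply hsW
    have h2 : s.1 ^ (S : Subgroup G).index = 1 := (congrArg Subtype.val hev).symm
    rw [hi, pow_add, pow_mul, s.2.2, one_pow, one_mul, pow_one] at h2
    rw [show s = 1 from Subtype.ext h2]
    exact W.one_mem
  obtain ⟨K, hK⟩ := TwoFusion.exists_index_two_of_hom S.isPGroup' (MonoidHom.transfer φ) hne
  exact hG K hK

end Cfsg.Agent.S1244
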