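import Cfsg.Statements.S1268
import Cfsg.Agent.Lib.Components.LocalLayer

set_option autoImplicit false
open Cfsg

namespace Cfsg.Agent.S1268

/-- Let G be finite with F*(G) = O_p(G). Then F*(N) = O_p(N) for N the normalizer of any p-subgroup P of G. -/
theorem result {G : Type*} [Group G] [Finite G] (p : ℕ) [Fact p.Prime] (h : Cfsg.generalizedFittingSubgroup G = Cfsg.pCore p G) (P : Subgroup G) (hP : IsPGroup p ↥P) : Cfsg.generalizedFittingSubgroup ↥(Subgroup.normalizer ((P : Subgroup G) : Set G)) = Cfsg.pCore p ↥(Subgroup.normalizer ((P : Subgroup G) : Set G)) := by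
  set N := Subgroup.normalizer (P : Set G) with hN
  have hC : Subgroup.centralizer (Cfsg.pCore p G : Set G) ≤ Cfsg.pCore p G := by
    have h1 := Cfsg.Agent.Components.centralizer_genFitting_le (G := G)
    rwa [h] at h1
  refine Cfsg.Agent.Components.genFitting_eq_pCore_of ?_ ?_
  · rw [Cfsg.Agent.Components.layer_eq_bot_iff]
    intro L hL
    have h1 := (Cfsg.Agent.Components.le_centralizer_pCore_of hP L
        (Cfsg.Agent.Components.pPrimeGen_eq_self_of_perfect
          (Cfsg.Agent.Components.IsComponent.perfect hL)) fun R hR hRp => ?_).trans hC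
    · refine Cfsg.Agent.Components.IsQuasisimple.not_isNilpotent
        ((Cfsg.Agent.Components.isQuasisimple_map_iff (Subgroup.subtype_injective N) L).mpr hL.2) ?_
      exact ((Cfsg.Agent.Cores.isPGroup_pCore p G).to_le h1).isNilpotent
    · have : Group.IsNilpotent ↥R := hRp.isNilpotent
      exact Subgroup.commutator_eq_bot_iff_le_centralizer.mp
        (Cfsg.Agent.Components.IsComponent.commutator_solvable hL inferInstance
          (Subgroup.normalizer_eq_top (H := R) ▸ le_top))
  · have h1 := (Cfsg.Agent.Components.le_centralizer_pCore_of hP (Cfsg.pPrimeCore p ↥N)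
        (Cfsg.Agent.Components.pPrimeGen_eq_self_of_coprime
          (Cfsg.Agent.Cores.coprime_card_pPrimeCore p)) fun R hR hRp =>
        Cfsg.Agent.Components.pPrimeCore_le_centralizer_of_normal R hRp).trans hC
    obtain ⟨n, hn⟩ := IsPGroup.iff_card.mp ((Cfsg.Agent.Cores.isPGroup_pCore p G).to_le h1)
    rw [Cfsg.Agent.Cores.card_map_subtype] at hn
    refine Subgroup.card_eq_one.mp ?_
    have hco := Cfsg.Agent.Cores.coprime_card_pPrimeCore (G := ↥N) p
    exact Nat.dvd_one.mp ((hco.pow_right n).gcd_eq_one ▸ Nat.dvd_gcd dvd_rfl hn.dvd)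

end Cfsg.Agent.S1268
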