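import Cfsg.Statements.S1246
import Cfsg.Agent.S1268
import Cfsg.Agent.Lib.Components.GenFitting
import Cfsg.Agent.Lib.Cores.Fitting
import Cfsg.Agent.Lib.PLocal.Action

set_option autoImplicit false
open Cfsg

namespace Cfsg.Agent.S1246

open Subgroup

/-- A group with a normal subgroup of `p`-power index whose generalized Fitting subgroup is a `p`-group. -/
theorem genFitting_of_pIndex {K : Type*} [Group K] [Finite K] {p : ℕ} [Fact p.Prime] (H : Subgroup K) [H.Normal]
    (hq : IsPGroup p (K ⧸ H)) (hH : IsPGroup p (Cfsg.generalizedFittingSubgroup H)) :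
    Cfsg.generalizedFittingSubgroup K = Cfsg.pCore p K := by
  set L := Cfsg.generalizedFittingSubgroup K
  have hker : IsPGroup p (((QuotientGroup.mk' H).comp L.subtype).ker) := by
    rw [← MonoidHom.comap_ker, QuotientGroup.ker_mk']
    have e : L ⊓ H = (Cfsg.generalizedFittingSubgroup H).map H.subtype := Components.genFitting_inf_of_normal H
    have h1 : IsPGroup p (L ⊓ H : Subgroup K) := e ▸ hH.map H.subtype
    refine (h1.comap_of_injective L.subtype L.subtype_injective).of_equiv (MulEquiv.subgroupCongr ?_)
    ext x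
    simp
  have hL : IsPGroup p L := by
    obtain ⟨a, ha⟩ := IsPGroup.iff_card.mp hker
    obtain ⟨b, hb⟩ := IsPGroup.iff_card.mp (hq.to_subgroup ((QuotientGroup.mk' H).comp L.subtype).range)
    refine IsPGroup.of_card (n := a + b) ?_
    rw [← ((QuotientGroup.mk' H).comp L.subtype).ker.card_mul_index, index_ker, ha, hb, pow_add]
  exact le_antisymm (Cores.le_pCore inferInstance hL)
    ((Cores.pCore_le_fittingSubgroup p).trans Components.fitting_le_genFitting)

/-- The step from `V` to a `p`-group normalizing it. -/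
theorem step {G : Type*} [Group G] [Finite G] {p : ℕ} [Fact p.Prime] {U V : Subgroup G} (hVU : V ≤ U)
    (hU : IsPGroup p U) (hn : U ≤ normalizer (V : Set G))
    (hV : IsPGroup p (Cfsg.generalizedFittingSubgroup (centralizer (V : Set G)))) :
    IsPGroup p (Cfsg.generalizedFittingSubgroup (centralizer (U : Set G))) := by
  set C := centralizer (V : Set G)
  have hUC : centralizer (U : Set G) ≤ C := centralizer_le hVU
  have hUn : U ≤ normalizer (C : Set G) := hn.trans (PLocal.normalizer_le_normalizer_centralizer _)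
  set K := C ⊔ U
  have hCK : C ≤ K := le_sup_left
  have hUK : U ≤ K := le_sup_right
  set H := C.subgroupOf K
  haveI : H.Normal := by
    refine Cores.subgroupOf_normal_of_le_normalizer ?_
    exact sup_le le_normalizer hUn
  have hH : IsPGroup p (Cfsg.generalizedFittingSubgroup H) := by
    have := hV.map (subgroupOfEquivOfLe hCK).symm.toMonoidHom
    rwa [Components.genFitting_map_equiv] at this
  have hq : IsPGroup p (K ⧸ H) := by
    have hs : Function.Surjective ((QuotientGroup.mk' H).comp (inclusion hUK)) := by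
      intro q
      obtain ⟨⟨k, hk⟩, rfl⟩ := QuotientGroup.mk'_surjective H q
      have hk' : (⟨k, hk⟩ : K) ∈ H ⊔ U.subgroupOf K := by
        rw [← subgroupOf_sup hCK hUK]; exact mem_subgroupOf.mpr hk
      obtain ⟨c, hc, u, hu, hcu⟩ := mem_sup_of_normal_left.mp hk'
      refine ⟨⟨u, mem_subgroupOf.mp hu⟩, ?_⟩
      rw [← hcu, map_mul, show QuotientGroup.mk' H c = 1 from (QuotientGroup.eq_one_iff c).mpr hc, one_mul]
      rfl
    exact hU.of_surjective _ hs
  have hK := genFitting_of_pIndex H hq hH
  have hP : IsPGroup p (U.subgroupOf K) := hU.of_equiv (subgroupOfEquivOfLe hUK).symm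
  have hN := S1268.result p hK (U.subgroupOf K) hP
  set N := normalizer ((U.subgroupOf K : Subgroup K) : Set K)
  set B := ((centralizer (U : Set G)).subgroupOf K).subgroupOf N
  have hBK : (centralizer (U : Set G)).subgroupOf K ≤ N := by
    intro x hx
    refine centralizer_le_normalizer _ (mem_centralizer_iff.mpr fun u hu => Subtype.ext ?_)
    exact mem_centralizer_iff.mp (mem_subgroupOf.mp hx) u hu
  haveI : B.Normal := by
    refine ⟨fun b hb m => ?_⟩
    refine mem_subgroupOf.mpr (mem_subgroupOf.mpr (mem_centralizer_iff.mpr fun u hu => ?_))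
    have hm := (mem_normalizer_iff.mp (inv_mem m.2) ⟨u, hUK hu⟩).mp (mem_subgroupOf.mpr hu)
    have hc := mem_centralizer_iff.mp (mem_subgroupOf.mp (mem_subgroupOf.mp hb)) _ (mem_subgroupOf.mp hm)
    simp only [Subgroup.coe_mul, InvMemClass.coe_inv, inv_inv] at hc ⊢
    calc u * (((m : K) : G) * ((b : K) : G) * ((m : K) : G)⁻¹)
        = ((m : K) : G) * ((((m : K) : G)⁻¹ * u * ((m : K) : G)) * ((b : K) : G)) * ((m : K) : G)⁻¹ := by group
      _ = ((m : K) : G) * (((b : K) : G) * (((m : K) : G)⁻¹ * u * ((m : K) : G))) * ((m : K) : G)⁻¹ := by rw [hc]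
      _ = _ := by group
  have hB : IsPGroup p (Cfsg.generalizedFittingSubgroup B) := by
    have h1 : IsPGroup p ((Cfsg.generalizedFittingSubgroup B).map B.subtype) := by
      rw [← Components.genFitting_inf_of_normal B, hN]
      exact (Cores.isPGroup_pCore p N).to_le inf_le_left
    exact h1.of_equiv (equivMapOfInjective _ B.subtype B.subtype_injective).symm
  let e : B ≃* centralizer (U : Set G) :=
    (subgroupOfEquivOfLe hBK).trans (subgroupOfEquivOfLe (hUC.trans hCK))
  rw [← Components.genFitting_map_equiv e]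
  exact hB.map _

/-- The statement, by induction on `U`. -/
theorem main {G : Type*} [Group G] [Finite G] {p : ℕ} [Fact p.Prime] (V : Subgroup G)
    (hV : IsPGroup p (Cfsg.generalizedFittingSubgroup (centralizer (V : Set G)))) (U : Subgroup G)
    (hVU : V ≤ U) (hU : IsPGroup p U) :
    IsPGroup p (Cfsg.generalizedFittingSubgroup (centralizer (U : Set G))) := by
  induction hc : Nat.card U using Nat.strong_induction_on generalizing U with
  | _ c ih =>
    rcases eq_or_lt_of_le hVU with rfl | hlt
    · exact hV
    haveI : Group.IsNilpotent U := hU.isNilpotent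
    obtain ⟨M, hM, hVM⟩ := (eq_top_or_exists_le_coatom (V.subgroupOf U)).resolve_left fun h =>
      hlt.not_ge (subgroupOf_eq_top.mp h)
    haveI hMn : M.Normal := NormalizerCondition.normal_of_coatom _ Group.normalizerCondition_of_isNilpotent hM
    set W := M.map U.subtype
    have hWU : W ≤ U := map_subtype_le M
    have hWlt : Nat.card W < c := by
      rw [← hc, card_map_of_injective U.subtype_injective]
      exact lt_of_le_of_ne (card_le_card_group M) fun h => hM.1 (eq_top_of_card_eq M h)
    have hVW : V ≤ W := fun x hx => ⟨⟨x, hVU hx⟩, hVM (mem_subgroupOf.mpr hx), rfl⟩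
    refine step hWU hU ?_ (ih _ hWlt W hVW (hU.to_le hWU) rfl)
    intro u hu
    refine mem_normalizer_iff.mpr fun x => ⟨?_, ?_⟩
    · rintro ⟨m, hm, rfl⟩
      exact ⟨_, hMn.conj_mem m hm ⟨u, hu⟩, rfl⟩
    · rintro ⟨m, hm, hmx⟩
      refine ⟨_, hMn.conj_mem' m hm ⟨u, hu⟩, ?_⟩
      change u⁻¹ * (m : G) * u = x
      rw [show (m : G) = u * x * u⁻¹ from hmx]
      group


/-- Let V ≤ U be p-subgroups of the finite group G. If the generalized Fitting subgroup of C_G(V) is a p-group, then so is that of C_G(U). -/
theorem result {G : Type*} [Group G] [Finite G] {p : ℕ} [Fact p.Prime] (U V : Subgroup G) (hVU : V ≤ U) (hU : IsPGroup p U) (hV : IsPGroup p ↥(Cfsg.generalizedFittingSubgroup ↥(Subgroup.centralizer (V : Set G)))) : IsPGroup p ↥(Cfsg.generalizedFittingSubgroup ↥(Subgroup.centralizer (U : Set G))) := by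
  exact main V hV U hVU hU

end Cfsg.Agent.S1246
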