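import Cfsg.Statements.S1247
import Cfsg.Agent.Lib.Components.GenFitting
import Cfsg.Agent.Lib.Components.Centralize
import Cfsg.Agent.Lib.Coprime.PQ
import Cfsg.Agent.Lib.PLocal.Action
import Cfsg.Agent.Lib.Cores.Fitting

set_option autoImplicit false
open Cfsg

namespace Cfsg.Agent.S1247

open Subgroup
open scoped commutatorElement

section

variable {H : Type*} [Group H] [Finite H]

/-- The layer centralizes every `p`-subgroup it normalizes. -/
theorem layer_commutes {p : ℕ} [Fact p.Prime] {X : Subgroup H} (hX : IsPGroup p X)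
    (hn : Cfsg.layer H ≤ normalizer (X : Set H)) : Cfsg.layer H ≤ centralizer (X : Set H) :=
  Components.layer_le_centralizer_of_solvable (Coprime.isSolvable_of_isPGroup hX) hn

/-- `f` decomposes along `O_p(H)` and the `p'`-part of `F(H)`. -/
theorem exists_decomp (p : ℕ) [Fact p.Prime] {f : H} (hf : f ∈ Cfsg.fittingSubgroup H) :
    ∃ u ∈ Cfsg.pCore p H, ∃ v ∈ Cfsg.fittingSubgroup H ⊓ Cfsg.pPrimeCore p H, u * v = f := by
  have hle : Cfsg.fittingSubgroup H ≤ Cfsg.pCore p H ⊔ Cfsg.pPrimeCore p H := by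
    rw [Cores.fittingSubgroup_eq_iSup_pCore]
    refine iSup_le fun q => ?_
    rcases eq_or_ne (q : ℕ) p with h | h
    · exact h ▸ le_sup_left
    · refine le_sup_of_le_right (Cores.le_pPrimeCore inferInstance ?_)
      have : Fact (q : ℕ).Prime := ⟨q.2⟩
      obtain ⟨n, hn⟩ := IsPGroup.iff_card.mp (Cores.isPGroup_pCore (q : ℕ) H)
      rw [hn]
      exact ((Nat.coprime_primes q.2 (Fact.out : p.Prime)).mpr h).pow_left n
  obtain ⟨u, hu, v, hv, rfl⟩ := mem_sup_of_normal_left.mp (hle hf)
  refine ⟨u, hu, v, ⟨?_, hv⟩, rfl⟩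
  have := mul_mem (inv_mem (Cores.pCore_le_fittingSubgroup p hu)) hf
  rwa [inv_mul_cancel_left] at this

theorem commute_decomp (p : ℕ) [Fact p.Prime] {u v : H} (hu : u ∈ Cfsg.pCore p H)
    (hv : v ∈ Cfsg.fittingSubgroup H ⊓ Cfsg.pPrimeCore p H) : Commute u v :=
  Subgroup.commute_of_normal_of_disjoint _ _ inferInstance inferInstance
    (disjoint_iff.mpr (inf_eq_bot_of_coprime (Coprime.coprime_of_isPGroup
      (Cores.coprime_card_pPrimeCore p) (Cores.isPGroup_pCore p H)).symm)) u v hu hv.2

/-- Powers separating two commuting elements of coprime orders. -/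
theorem mem_of_mul_mem {K : Subgroup H} {u v : H} (h : Commute u v) (hc : (orderOf u).Coprime (orderOf v))
    (hm : u * v ∈ K) : u ∈ K ∧ v ∈ K := by
  have hu : u ∈ K := by
    obtain ⟨k, hk⟩ := exists_pow_eq_self_of_coprime hc.symm
    rw [← hk]
    refine pow_mem ?_ k
    have := pow_mem hm (orderOf v)
    rwa [h.mul_pow, pow_orderOf_eq_one, mul_one] at this
  refine ⟨hu, ?_⟩
  have := mul_mem (inv_mem hu) hm
  rwa [inv_mul_cancel_left] at this

theorem coprime_orders (p : ℕ) [Fact p.Prime] {u v : H} (hu : u ∈ Cfsg.pCore p H)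
    (hv : v ∈ Cfsg.fittingSubgroup H ⊓ Cfsg.pPrimeCore p H) : (orderOf u).Coprime (orderOf v) :=
  (Coprime.coprime_of_isPGroup (Cores.coprime_card_pPrimeCore p) (Cores.isPGroup_pCore p H)).symm
    |>.coprime_dvd_left (orderOf_dvd_natCard _ hu) |>.coprime_dvd_right (orderOf_dvd_natCard _ hv.2)

/-- Every element of `F*(H)` is a product from the layer and the Fitting subgroup. -/
theorem exists_mul {x : H} (hx : x ∈ Cfsg.generalizedFittingSubgroup H) :
    ∃ e ∈ Cfsg.layer H, ∃ f ∈ Cfsg.fittingSubgroup H, e * f = x :=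
  mem_sup_of_normal_right.mp hx

variable {S : Subgroup H}

/-- The layer lies in `S`. -/
theorem layer_le_of (hsn : S.IsSubnormal)
    (hC : Cfsg.generalizedFittingSubgroup H ⊓ centralizer (S : Set H) ≤ S) : Cfsg.layer H ≤ S := by
  refine Components.layer_le fun L hL => ?_
  rcases Components.IsComponent.le_or_commutes hL hsn with h | h
  · exact h
  · exact (le_inf ((Components.IsComponent.le_layer hL).trans Components.layer_le_genFitting)
      (commutator_eq_bot_iff_le_centralizer.mp h)).trans hC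

/-- `S ⊓ F(H)` is self-centralizing in `F(H)`. -/
theorem fitting_inf_centralizer_le (hsn : S.IsSubnormal) (hle : S ≤ Cfsg.generalizedFittingSubgroup H)
    (hC : Cfsg.generalizedFittingSubgroup H ⊓ centralizer (S : Set H) ≤ S) :
    Cfsg.fittingSubgroup H ⊓ centralizer ((S ⊓ Cfsg.fittingSubgroup H : Subgroup H) : Set H) ≤ S := by
  rintro x ⟨hxF, hxC⟩
  refine hC ⟨Components.fitting_le_genFitting hxF, mem_centralizer_iff.mpr fun s hs => ?_⟩
  obtain ⟨e, he, f, hf, rfl⟩ := exists_mul (hle hs)
  have hfS : f ∈ S := by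
    have := mul_mem (inv_mem (layer_le_of hsn hC he)) hs
    rwa [inv_mul_cancel_left] at this
  exact Commute.mul_left (mem_centralizer_iff.mp (Components.fitting_le_centralizer_layer hxF) e he)
    (mem_centralizer_iff.mp hxC f ⟨hfS, hf⟩)

/-- `S ⊓ O_p(H)` and `S` meet the `p'`-part of `F(H)` in self-centralizing subgroups. -/
theorem parts_centralizer_le (p : ℕ) [Fact p.Prime] (hsn : S.IsSubnormal)
    (hle : S ≤ Cfsg.generalizedFittingSubgroup H)
    (hC : Cfsg.generalizedFittingSubgroup H ⊓ centralizer (S : Set H) ≤ S) :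
    Cfsg.pCore p H ⊓ centralizer ((S ⊓ Cfsg.pCore p H : Subgroup H) : Set H) ≤ S ∧
    (Cfsg.fittingSubgroup H ⊓ Cfsg.pPrimeCore p H) ⊓
      centralizer ((S ⊓ (Cfsg.fittingSubgroup H ⊓ Cfsg.pPrimeCore p H) : Subgroup H) : Set H) ≤ S := by
  constructor
  · rintro x ⟨hx, hxC⟩
    refine fitting_inf_centralizer_le hsn hle hC ⟨Cores.pCore_le_fittingSubgroup p hx,
      mem_centralizer_iff.mpr ?_⟩
    rintro f ⟨hfS, hf⟩
    obtain ⟨u, hu, v, hv, rfl⟩ := exists_decomp p hf
    obtain ⟨huS, -⟩ := mem_of_mul_mem (commute_decomp p hu hv) (coprime_orders p hu hv) hfS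
    exact Commute.mul_left (mem_centralizer_iff.mp hxC u ⟨huS, hu⟩) (commute_decomp p hx hv).symm
  · rintro x ⟨hx, hxC⟩
    refine fitting_inf_centralizer_le hsn hle hC ⟨hx.1, mem_centralizer_iff.mpr ?_⟩
    rintro f ⟨hfS, hf⟩
    obtain ⟨u, hu, v, hv, rfl⟩ := exists_decomp p hf
    obtain ⟨-, hvS⟩ := mem_of_mul_mem (commute_decomp p hu hv) (coprime_orders p hu hv) hfS
    exact Commute.mul_left (commute_decomp p hu hx) (mem_centralizer_iff.mp hxC v ⟨hvS, hv⟩)

/-- A coprime group centralizing a self-centralizing part of a nilpotent group centralizes it. -/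
theorem centralizes_part {N X T : Subgroup H} [N.Normal] (hN : Group.IsNilpotent N)
    (hTN : T ≤ N) (hC : N ⊓ centralizer (T : Set H) ≤ T) (hXT : X ≤ centralizer (T : Set H))
    (hcop : (Nat.card X).Coprime (Nat.card N)) : X ≤ centralizer (N : Set H) := by
  have hTX : T ≤ N ⊓ centralizer (X : Set H) := le_inf hTN (le_centralizer_iff.mp hXT)
  refine Coprime.le_centralizer_of_centralizer_le hN le_normalizer_of_normal hcop ?_
  exact (inf_le_inf_left _ (centralizer_le (SetLike.coe_subset_coe.mpr hTX))).trans (hC.trans hTX)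

/-- Part (a) inside the maximal subgroup. -/
theorem inner_a {q : ℕ} [Fact q.Prime] (hq : ¬ q ∣ Nat.card (Cfsg.fittingSubgroup H)) (hsn : S.IsSubnormal)
    (hle : S ≤ Cfsg.generalizedFittingSubgroup H)
    (hC : Cfsg.generalizedFittingSubgroup H ⊓ centralizer (S : Set H) ≤ S) {X : Subgroup H}
    (hX : IsPGroup q X) (hn : S ≤ normalizer (X : Set H)) : X = ⊥ := by
  have hEX := layer_commutes hX ((layer_le_of hsn hC).trans hn)
  have hcF : (Nat.card X).Coprime (Nat.card (Cfsg.fittingSubgroup H)) := by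
    refine (Coprime.coprime_of_isPGroup ?_ hX).symm
    exact ((Fact.out : q.Prime).coprime_iff_not_dvd.mpr hq).symm
  have hXF : X ⊓ Cfsg.fittingSubgroup H = ⊥ := inf_eq_bot_of_coprime hcF
  -- the part of `X` in `F*(H)` is trivial
  have hXG : X ⊓ Cfsg.generalizedFittingSubgroup H = ⊥ := by
    rw [eq_bot_iff, ← hXF]
    rintro x ⟨hx, hxF⟩
    refine ⟨hx, ?_⟩
    obtain ⟨e, he, f, hf, rfl⟩ := exists_mul hxF
    refine mul_mem ((Components.fitting_inf_layer_eq (G := H)).ge ⟨he, ?_⟩).1 hf
    have h1 : e * f ∈ centralizer (Cfsg.layer H : Set H) := le_centralizer_iff.mp hEX hx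
    have := mul_mem h1 (inv_mem (Components.fitting_le_centralizer_layer hf))
    rwa [mul_inv_cancel_right] at this
  have hXS : X ≤ centralizer (S : Set H) := by
    rw [← commutator_eq_bot_iff_le_centralizer, eq_bot_iff, ← hXG]
    exact le_inf (le_normalizer_iff_commutator_le_left.mp hn)
      ((commutator_mono le_rfl hle).trans (commutator_le_right _ _))
  have hXFc : X ≤ centralizer (Cfsg.fittingSubgroup H : Set H) := by
    refine centralizes_part (T := S ⊓ Cfsg.fittingSubgroup H) inferInstance inf_le_right ?_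
      (hXS.trans (centralizer_le ?_)) hcF
    · exact le_inf (fitting_inf_centralizer_le hsn hle hC) inf_le_left
    · exact SetLike.coe_subset_coe.mpr inf_le_left
  have hXc : X ≤ centralizer (Cfsg.generalizedFittingSubgroup H : Set H) :=
    le_centralizer_iff.mp (sup_le hEX (le_centralizer_iff.mp hXFc))
  rw [eq_bot_iff, ← hXF]
  exact le_inf le_rfl (hXc.trans Components.centralizer_genFitting_le_fitting)

/-- `p`-subgroups normalized by `S` centralize the `p'`-part of `S`. -/
theorem inner_b {p : ℕ} [Fact p.Prime] (hsn : S.IsSubnormal)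
    (hC : Cfsg.generalizedFittingSubgroup H ⊓ centralizer (S : Set H) ≤ S) {X : Subgroup H}
    (hX : IsPGroup p X) (hn : S ≤ normalizer (X : Set H)) :
    Cfsg.layer H ≤ centralizer (X : Set H) ∧
      S ⊓ (Cfsg.fittingSubgroup H ⊓ Cfsg.pPrimeCore p H) ≤ centralizer (X : Set H) := by
  refine ⟨layer_commutes hX ((layer_le_of hsn hC).trans hn), ?_⟩
  rw [← commutator_eq_bot_iff_le_centralizer, eq_bot_iff]
  have hb : Cfsg.pPrimeCore p H ⊓ X = ⊥ :=
    inf_eq_bot_of_coprime (Coprime.coprime_of_isPGroup (Cores.coprime_card_pPrimeCore p) hX)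
  rw [← hb]
  exact le_inf ((commutator_mono (inf_le_right.trans inf_le_right) le_rfl).trans (commutator_le_left _ _))
    ((commutator_mono inf_le_left le_rfl).trans (le_normalizer_iff_commutator_le_right.mp hn))

end

/-- In a simple group the centralizer of the centre of a nontrivial normal nilpotent subgroup of a
maximal subgroup lies in the maximal subgroup. -/
theorem centralizer_le_of {G : Type*} [Group G] [Finite G] [IsSimpleGroup G] {A : Subgroup G}
    (hA : IsCoatom A) {N T : Subgroup A} [hNn : N.Normal] (hN : Group.IsNilpotent N) (hN1 : N ≠ ⊥)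
    (hC : N ⊓ centralizer (T : Set A) ≤ T) (hTN : T ≤ N) :
    centralizer ((T.map A.subtype : Subgroup G) : Set G) ≤ A := by
  set Z : Subgroup A := N ⊓ centralizer (N : Set A)
  have hZ1 : Z ≠ ⊥ := by
    have : Nontrivial N := nontrivial_iff_ne_bot N |>.mpr hN1
    obtain ⟨z, hz, hz1⟩ := (ne_bot_iff_exists_ne_one (H := center N)).mp
      (by simpa using Cores.inf_center_ne_bot (⊤ : Subgroup N) top_ne_bot) |> fun ⟨z, h⟩ => (⟨z.1, z.2, by simpa using h⟩ : ∃ z : N, z ∈ center N ∧ z ≠ 1)
    refine (ne_bot_iff_exists_ne_one).mpr ⟨⟨z, z.2, mem_centralizer_iff.mpr fun n hn => ?_⟩, ?_⟩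
    · exact congrArg Subtype.val (mem_center_iff.mp hz ⟨n, hn⟩)
    · intro h
      apply hz1
      exact Subtype.ext (congrArg Subtype.val h :)
  haveI : Z.Normal := inferInstance
  have hZT : Z ≤ T := le_trans (inf_le_inf_left _ (centralizer_le (SetLike.coe_subset_coe.mpr hTN))) hC
  have hAn : A ≤ normalizer ((Z.map A.subtype : Subgroup G) : Set G) := by
    intro a ha
    refine mem_normalizer_iff.mpr fun g => ⟨?_, ?_⟩
    · rintro ⟨z, hz, rfl⟩
      exact ⟨_, this.conj_mem z hz ⟨a, ha⟩, rfl⟩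
    · rintro ⟨z, hz, hzg⟩
      refine ⟨_, this.conj_mem' z hz ⟨a, ha⟩, ?_⟩
      change a⁻¹ * (z : G) * a = g
      rw [show (z : G) = a * g * a⁻¹ from hzg]
      group
  have hne : normalizer ((Z.map A.subtype : Subgroup G) : Set G) ≠ ⊤ := fun h => by
    rcases (normalizer_eq_top_iff.mp h).eq_bot_or_eq_top with h' | h'
    · exact hZ1 ((map_eq_bot_iff_of_injective _ A.subtype_injective).mp h')
    · exact hA.1 (top_le_iff.mp (h'.ge.trans (map_subtype_le Z)))
  calc centralizer ((T.map A.subtype : Subgroup G) : Set G)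
      ≤ centralizer ((Z.map A.subtype : Subgroup G) : Set G) :=
        centralizer_le (SetLike.coe_subset_coe.mpr (map_mono hZT))
    _ ≤ normalizer ((Z.map A.subtype : Subgroup G) : Set G) := centralizer_le_normalizer _
    _ = A := (hA.le_iff.mp hAn).resolve_left hne

section

variable {G : Type*} [Group G]

theorem pull_normalizes {A X : Subgroup G} {S : Subgroup A} (h : S.map A.subtype ≤ normalizer (X : Set G)) :
    S ≤ normalizer ((X.subgroupOf A : Subgroup A) : Set A) := fun s hs =>
  mem_normalizer_iff.mpr fun a => mem_normalizer_iff.mp (h ⟨s, hs, rfl⟩) (a : G)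

theorem push_centralizes {A X : Subgroup G} (hX : X ≤ A) {T : Subgroup A}
    (h : T ≤ centralizer ((X.subgroupOf A : Subgroup A) : Set A)) :
    T.map A.subtype ≤ centralizer (X : Set G) := by
  rintro _ ⟨t, ht, rfl⟩
  exact mem_centralizer_iff.mpr fun x hx =>
    congrArg Subtype.val (mem_centralizer_iff.mp (h ht) ⟨x, hX hx⟩ hx)

/-- Part (b), for an arbitrary `p`-subgroup normalized by `S`. -/
theorem main_b [Finite G] [IsSimpleGroup G] {A : Subgroup G} (hA : IsCoatom A) {S : Subgroup A}
    (hsn : S.IsSubnormal) (hle : S ≤ Cfsg.generalizedFittingSubgroup A)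
    (hC : Cfsg.generalizedFittingSubgroup A ⊓ centralizer (S : Set A) ≤ S)
    {p : ℕ} [Fact p.Prime] (hp : p ∣ Nat.card (Cfsg.fittingSubgroup A)) {P : Subgroup G}
    (hP : IsPGroup p P) (hSP : S.map A.subtype ≤ normalizer (P : Set G)) :
    (Cfsg.layer A).map A.subtype ≤ centralizer (P : Set G) ∧
      (Cfsg.fittingSubgroup A ⊓ Cfsg.pPrimeCore p A).map A.subtype ≤ centralizer (P : Set G) := by
  set O := Cfsg.pCore p A
  set R := Cfsg.fittingSubgroup A ⊓ Cfsg.pPrimeCore p A
  obtain ⟨hCO, hCR⟩ := parts_centralizer_le p hsn hle hC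
  have hO1 : O ≠ ⊥ := by
    intro h
    have hFR : Cfsg.fittingSubgroup A ≤ Cfsg.pPrimeCore p A := by
      intro f hf
      obtain ⟨u, hu, v, hv, rfl⟩ := exists_decomp p hf
      rw [show u = 1 from mem_bot.mp (h ▸ hu), one_mul]
      exact hv.2
    exact (Fact.out : p.Prime).coprime_iff_not_dvd.mp (Cores.coprime_card_pPrimeCore p).symm
      (hp.trans (card_dvd_of_le hFR))
  set Sp := (S ⊓ O).map A.subtype
  set SR := (S ⊓ R).map A.subtype
  have hSpC : centralizer (Sp : Set G) ≤ A :=
    centralizer_le_of hA (Cores.isPGroup_pCore p A).isNilpotent hO1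
      (le_inf hCO inf_le_left) inf_le_right
  have hSpn : S.map A.subtype ≤ normalizer (Sp : Set G) := by
    rw [le_normalizer_iff_commutator_le_right, ← map_commutator]
    exact map_mono (le_inf (commutator_le_self _ |>.trans' (commutator_mono le_rfl inf_le_left))
      ((commutator_mono le_rfl inf_le_right).trans (commutator_le_right _ _)))
  set P1 := P ⊓ centralizer (Sp : Set G)
  have hP1A : P1 ≤ A := inf_le_right.trans hSpC
  have hP1n : S.map A.subtype ≤ normalizer (P1 : Set G) := fun s hs =>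
    inf_normalizer_le_normalizer_inf ⟨hSP hs, PLocal.normalizer_le_normalizer_centralizer _ (hSpn hs)⟩
  have hP1p : IsPGroup p (P1.subgroupOf A) := (hP.to_le inf_le_left).comap_subtype
  obtain ⟨hE1, hR1⟩ := inner_b hsn hC hP1p (pull_normalizes hP1n)
  have hSpP : IsPGroup p Sp := ((Cores.isPGroup_pCore p A).to_le inf_le_right).map _
  have hSpN : Sp ≤ normalizer (P : Set G) := (map_mono inf_le_left).trans hSP
  have hRc : (Nat.card R).Coprime p :=
    (Cores.coprime_card_pPrimeCore p).coprime_dvd_left (card_dvd_of_le inf_le_right)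
  -- the layer
  have hE : (Cfsg.layer A).map A.subtype ≤ centralizer (P : Set G) := by
    have hEE : ⁅(Cfsg.layer A).map A.subtype, (Cfsg.layer A).map A.subtype⁆ = (Cfsg.layer A).map A.subtype := by
      rw [← map_commutator, Components.layer_perfect]
    refine Components.le_centralizer_of_le_centralizer hSpP hP hSpN
      (Components.pPrimeGen_eq_self_of_perfect hEE) ((map_mono (layer_le_of hsn hC)).trans hSP) ?_
      (push_centralizes hP1A hE1)
    refine le_centralizer_iff.mp ?_
    refine (map_mono (inf_le_right.trans (Cores.pCore_le_fittingSubgroup p))).trans ?_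
    rintro _ ⟨f, hf, rfl⟩
    refine mem_centralizer_iff.mpr ?_
    rintro _ ⟨e, he, rfl⟩
    exact congrArg Subtype.val (mem_centralizer_iff.mp (Components.fitting_le_centralizer_layer hf) e he)
  refine ⟨hE, ?_⟩
  -- the part of `S` in `R`
  have hS2 : SR ≤ centralizer (P : Set G) := by
    refine Coprime.thompson_pq p hSpP ?_ hP ?_ hSpN ((map_mono inf_le_left).trans hSP) ?_
    · exact hRc.coprime_dvd_left ((card_map_of_injective A.subtype_injective).dvd.trans
        (card_dvd_of_le inf_le_right))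
    · rintro _ ⟨u, hu, rfl⟩
      refine mem_centralizer_iff.mpr ?_
      rintro _ ⟨v, hv, rfl⟩
      exact congrArg Subtype.val (commute_decomp p hu.2 hv.2).symm.eq
    · exact le_centralizer_iff.mp (push_centralizes hP1A hR1)
  by_cases hR0 : R = ⊥
  · rw [hR0, Subgroup.map_bot]; exact bot_le
  have hRn : Group.IsNilpotent R := Cores.isNilpotent_of_le inf_le_left inferInstance
  have hPA : P ≤ A := (le_centralizer_iff.mp hS2).trans
    (centralizer_le_of hA hRn hR0 (le_inf hCR inf_le_left) inf_le_right)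
  have hPp : IsPGroup p (P.subgroupOf A) := hP.comap_subtype
  obtain ⟨-, hR2⟩ := inner_b hsn hC hPp (pull_normalizes hSP)
  refine push_centralizes hPA (le_centralizer_iff.mp ?_)
  exact centralizes_part hRn inf_le_right (le_inf hCR inf_le_left) (le_centralizer_iff.mp hR2)
    (Coprime.coprime_of_isPGroup hRc hPp).symm

end

/-- Let G be a non-abelian finite simple group, A a maximal subgroup, F = F*(A) its generalized Fitting subgroup (viewed in G), and S ≤ F a subgroup subnormal in F with C_F(S) ≤ S. Let B be any subgroup of G containing S. Then (a) for every prime q not dividing |F(A)|, O_q(B) ∩ A = 1; and (b) for every prime p dividing |F(A)|, O_p(B) commutes elementwise with the subgroup of F generated by its elements of order prime to p. -/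
theorem result {G : Type*} [Group G] [Finite G] [IsSimpleGroup G] (hna : ¬ IsMulCommutative G) (A : Subgroup G) (hA : IsCoatom A) (S : Subgroup G) (hSF : S ≤ (Cfsg.generalizedFittingSubgroup ↥A).map A.subtype) (hSsn : (S.subgroupOf ((Cfsg.generalizedFittingSubgroup ↥A).map A.subtype)).IsSubnormal) (hSC : (Cfsg.generalizedFittingSubgroup ↥A).map A.subtype ⊓ Subgroup.centralizer (S : Set G) ≤ S) (B : Subgroup G) (hSB : S ≤ B) : (∀ q : ℕ, q.Prime → ¬ q ∣ Nat.card (Cfsg.fittingSubgroup ↥A) → (Cfsg.pCore q ↥B).map B.subtype ⊓ A = ⊥) ∧ (∀ p : ℕ, p.Prime → p ∣ Nat.card (Cfsg.fittingSubgroup ↥A) → ∀ x ∈ (Cfsg.pCore p ↥B).map B.subtype, ∀ y ∈ (Cfsg.pResidual p ↥(Cfsg.generalizedFittingSubgroup ↥A)).map ((Cfsg.generalizedFittingSubgroup ↥A).subtype) , x * (A.subtype y) = (A.subtype y) * x) := by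
  set FA := Cfsg.generalizedFittingSubgroup A
  have hSA : S ≤ A := hSF.trans (map_subtype_le _)
  set S₀ : Subgroup A := S.subgroupOf A
  have hS₀ : S₀.map A.subtype = S := map_subgroupOf_eq_of_le hSA
  have hle : S₀ ≤ FA := by
    intro x hx
    obtain ⟨y, hy, hyx⟩ := hSF hx
    rwa [← Subtype.ext hyx]
  have hsn : S₀.IsSubnormal := by
    have h1 := hSsn.comap (equivMapOfInjective FA A.subtype A.subtype_injective).toMonoidHom
    refine Subgroup.IsSubnormal.trans hle ?_ (Normal.isSubnormal inferInstance)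
    convert h1 using 1
    rfl
  have hC : FA ⊓ centralizer (S₀ : Set A) ≤ S₀ := by
    rintro x ⟨hx, hxc⟩
    refine mem_subgroupOf.mpr (hSC ⟨⟨x, hx, rfl⟩, mem_centralizer_iff.mpr fun s hs => ?_⟩)
    exact congrArg Subtype.val (mem_centralizer_iff.mp hxc ⟨s, hSA hs⟩ hs)
  have hnorm : ∀ q : ℕ, S₀.map A.subtype ≤ normalizer (((Cfsg.pCore q B).map B.subtype : Subgroup G) : Set G) := by
    intro q
    rw [hS₀]
    refine le_trans ?_ (Subgroup.le_normalizer_map _)
    intro s hs
    exact ⟨⟨s, hSB hs⟩, by rw [normalizer_eq_top_iff.mpr inferInstance]; trivial, rfl⟩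
  refine ⟨fun q hq hd => ?_, fun p hp hd x hx y hy => ?_⟩
  · haveI : Fact q.Prime := ⟨hq⟩
    have h := inner_a hd hsn hle hC (((Cores.isPGroup_pCore q B).map B.subtype).comap_subtype (K := A))
      (pull_normalizes (hnorm q))
    exact le_bot_iff.mp fun z hz => mem_bot.mpr
      (congrArg Subtype.val (mem_bot.mp (h.le (x := ⟨z, hz.2⟩) (mem_subgroupOf.mpr hz.1))))
  · haveI : Fact p.Prime := ⟨hp⟩
    obtain ⟨hE, hR⟩ := main_b hA hsn hle hC hd ((Cores.isPGroup_pCore p B).map B.subtype) (hnorm p)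
    suffices hy' : y ∈ (centralizer ({x} : Set G)).comap A.subtype by
      exact mem_centralizer_iff.mp hy' x rfl
    have hEx : Cfsg.layer A ≤ (centralizer ({x} : Set G)).comap A.subtype := fun e he =>
      mem_centralizer_iff.mpr fun z hz => by
        rw [Set.mem_singleton_iff.mp hz]
        exact mem_centralizer_iff.mp (hE ⟨e, he, rfl⟩) x hx
    have hRx : Cfsg.fittingSubgroup A ⊓ Cfsg.pPrimeCore p A ≤ (centralizer ({x} : Set G)).comap A.subtype :=
      fun e he => mem_centralizer_iff.mpr fun z hz => by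
        rw [Set.mem_singleton_iff.mp hz]
        exact mem_centralizer_iff.mp (hR ⟨e, he, rfl⟩) x hx
    obtain ⟨y, hy, rfl⟩ := hy
    unfold Cfsg.pResidual at hy
    refine (closure_le (K := ((centralizer ({x} : Set G)).comap A.subtype).comap FA.subtype)).mpr ?_ hy
    intro g hg
    obtain ⟨e, he, f, hf, hef⟩ := exists_mul g.2
    obtain ⟨u, hu, v, hv, rfl⟩ := exists_decomp p hf
    obtain ⟨n, hn⟩ := IsPGroup.iff_card.mp (Cores.isPGroup_pCore p A)
    have hun : u ^ p ^ n = 1 := hn ▸ orderOf_dvd_iff_pow_eq_one.mp (orderOf_dvd_natCard _ hu)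
    have hc1 : Commute e (u * v) := mem_centralizer_iff.mp (Components.fitting_le_centralizer_layer
      (mul_mem (Cores.pCore_le_fittingSubgroup p hu) hv.1)) e he
    have hgp : (g : A) ^ p ^ n ∈ (centralizer ({x} : Set G)).comap A.subtype := by
      rw [← hef, hc1.mul_pow, (commute_decomp p hu hv).mul_pow, hun, one_mul]
      exact mul_mem (pow_mem (hEx he) _) (pow_mem (hRx hv) _)
    have hco : (orderOf (g : A)).Coprime (p ^ n) := by
      rw [orderOf_coe]; exact Nat.Coprime.pow_right n hg
    obtain ⟨k, hk⟩ := exists_pow_eq_self_of_coprime hco.symm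
    change (g : A) ∈ (centralizer ({x} : Set G)).comap A.subtype
    rw [← hk]
    exact pow_mem hgp k

end Cfsg.Agent.S1247
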