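import Cfsg.Statements.S1248
import Cfsg.Agent.Lib.Unitary.SylowThree

set_option autoImplicit false
open Cfsg

namespace Cfsg.Agent.S1248

open Cfsg.Agent.Unitary
open scoped commutatorElement

theorem commutator_eq_center {F : Type*} [Field F] [Fintype F] {q : ℕ} (hF : Fintype.card F = q ^ 2)
    (h2 : (2 : F) = 0) : commutator (sylThree hF h2) = Subgroup.center (sylThree hF h2) := by
  apply le_antisymm
  · rw [commutator_def, Subgroup.commutator_le]
    intro g _ g' _
    rw [mem_center_iff]
    have h := (coord_mul (g * g') (g' * g)⁻¹).1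
    rw [show g * g' * (g' * g)⁻¹ = ⁅g, g'⁆ by rw [commutatorElement_def]; group] at h
    have h' := (coord_mul (g' * g) (g' * g)⁻¹).1
    rw [mul_inv_cancel, coord_one.1] at h'
    rw [h, (coord_mul g g').1, add_comm (coordA g), ← (coord_mul g' g).1, ← h']
  · intro z hz
    have ha := (mem_center_iff z).1 hz
    have hc : coordB z ^ q = coordB z := (fixed_iff_trace_zero (h2 := h2) _).1 (by
      rw [(coe_eq z).2, ha, zero_pow (Nat.succ_ne_zero q)])
    obtain ⟨t, ht⟩ := exists_trace_eq hF hc
    obtain ⟨b, hb⟩ := exists_trace hF (1 : F)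
    obtain ⟨b', hb'⟩ := exists_trace hF t
    obtain ⟨g, hgA, hgB⟩ := exists_mk (hF := hF) (h2 := h2) hb
    obtain ⟨g', hgA', hgB'⟩ := exists_mk (hF := hF) (h2 := h2) hb'
    have : z * (g' * g) = g * g' := by
      refine ext' ?_ ?_
      · rw [(coord_mul z (g' * g)).1, (coord_mul g' g).1, (coord_mul g g').1, ha, zero_add, add_comm]
      · rw [(coord_mul z (g' * g)).2, (coord_mul g' g).2, (coord_mul g g').2, ha, hgA, hgA', hgB, hgB',
          Unitary.zero_pow_q hF, one_pow]
        linear_combination -ht + t ^ q * h2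
    rw [show z = ⁅g, g'⁆ by rw [commutatorElement_def, ← this]; group, commutator_def]
    exact Subgroup.commutator_mem_commutator (Subgroup.mem_top _) (Subgroup.mem_top _)

theorem center_eq_closure {F : Type*} [Field F] [Fintype F] {q : ℕ} (hF : Fintype.card F = q ^ 2)
    (h2 : (2 : F) = 0) : Subgroup.center (sylThree hF h2) = Subgroup.closure {x : sylThree hF h2 | orderOf x = 2} := by
  apply le_antisymm
  · intro z hz
    by_cases h1 : z = 1
    · rw [h1]; exact one_mem _
    · refine Subgroup.subset_closure (orderOf_eq_prime ?_ h1)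
      rw [pow_two]; exact (sq_eq_one_iff z).2 ((mem_center_iff z).1 hz)
  · rw [Subgroup.closure_le]
    intro z hz
    refine (mem_center_iff z).2 ((sq_eq_one_iff z).1 ?_)
    rw [← pow_two, ← hz, pow_orderOf_eq_one]

/-- Let F be a field with 16 elements and S a Sylow 2-subgroup of PSU(3) over F (the unitary group U₃(4)). Then |S| = 64; the centre Z(S) is a Klein four-group and coincides with the subgroup generated by the involutions of S and with the derived subgroup; and every element of S ⧸ Z(S) squares to the identity, S ⧸ Z(S) having order 16. -/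
theorem result {F : Type*} [Field F] [Fintype F] (hF : Fintype.card F = 16) (S : Sylow 2 (Cfsg.PSU 3 F 4)) : Nat.card S = 64 ∧ IsKleinFour (Subgroup.center (S : Subgroup (Cfsg.PSU 3 F 4))) ∧ Subgroup.center (S : Subgroup (Cfsg.PSU 3 F 4)) = Subgroup.closure {x : (S : Subgroup (Cfsg.PSU 3 F 4)) | orderOf x = 2} ∧ Subgroup.center (S : Subgroup (Cfsg.PSU 3 F 4)) = commutator (S : Subgroup (Cfsg.PSU 3 F 4)) ∧ Nat.card ((S : Subgroup (Cfsg.PSU 3 F 4)) ⧸ Subgroup.center (S : Subgroup (Cfsg.PSU 3 F 4))) = 16 ∧ ∀ x : (S : Subgroup (Cfsg.PSU 3 F 4)) ⧸ Subgroup.center (S : Subgroup (Cfsg.PSU 3 F 4)), x ^ 2 = 1 := by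
  have hF' : Fintype.card F = 4 ^ 2 := by rw [hF]; norm_num
  have h2 : (2 : F) = 0 := by
    have h0 : ((2 : ℕ) : F) ^ 4 = 0 := by
      rw [← Nat.cast_pow, show (2 : ℕ) ^ 4 = 16 from rfl, ← hF]
      exact FiniteField.cast_card_eq_zero F
    exact_mod_cast eq_zero_of_pow_eq_zero h0
  obtain ⟨e⟩ := exists_equiv (n := 2) (by norm_num) (by norm_num) hF' h2 S
  set T := (S : Subgroup (Cfsg.PSU 3 F 4))
  have hc : (Subgroup.center (sylThree hF' h2)).map e.toMonoidHom = Subgroup.center T := by
    ext x
    obtain ⟨y, rfl⟩ := e.surjective x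
    constructor
    · rintro ⟨z, hz, hzy⟩
      rw [← hzy, Subgroup.mem_center_iff]
      intro g
      obtain ⟨w, rfl⟩ := e.surjective g
      show e w * e z = e z * e w
      rw [← map_mul, ← map_mul, Subgroup.mem_center_iff.1 hz w]
    · intro hy
      refine ⟨y, Subgroup.mem_center_iff.2 fun w => e.injective ?_, rfl⟩
      rw [map_mul, map_mul]
      exact Subgroup.mem_center_iff.1 hy (e w)
  have h64 : Nat.card T = 64 := by
    rw [← Nat.card_congr e.toEquiv, card_sylThree]; norm_num
  have h4 : Nat.card (Subgroup.center T) = 4 := by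
    rw [← hc, Subgroup.card_map_of_injective e.injective, Unitary.card_center]
  have hsq : ∀ z ∈ Subgroup.center T, z * z = 1 := by
    rw [← hc]
    rintro _ ⟨z, hz, rfl⟩
    rw [← map_mul, (sq_eq_one_iff z).2 ((mem_center_iff z).1 hz), map_one]
  refine ⟨h64, ⟨h4, ?_⟩, ?_, ?_, ?_, ?_⟩
  · haveI : Nontrivial (Subgroup.center T) := Finite.one_lt_card_iff_nontrivial.1 (by rw [h4]; norm_num)
    refine ((Nat.dvd_prime Nat.prime_two).1 (Monoid.exponent_dvd_of_forall_pow_eq_one (G := Subgroup.center T)
      fun x => Subtype.ext (by simpa [sq] using hsq x x.2))).resolve_left fun h => ?_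
    exact not_subsingleton (Subgroup.center T) (Monoid.exp_eq_one_iff.1 h)
  · rw [← hc, center_eq_closure, MonoidHom.map_closure]
    congr 1
    ext x
    constructor
    · rintro ⟨y, hy, rfl⟩
      exact (e.orderOf_eq y).trans hy
    · intro hx
      refine ⟨e.symm x, (e.symm.orderOf_eq x).trans hx, e.apply_symm_apply x⟩
  · rw [← hc, ← commutator_eq_center, commutator_def, commutator_def, Subgroup.map_commutator,
      Subgroup.map_top_of_surjective _ e.surjective]
  · have h := (Subgroup.center T).card_eq_card_quotient_mul_card_subgroup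
    rw [h64, h4] at h
    omega
  · intro x
    obtain ⟨g, rfl⟩ := QuotientGroup.mk_surjective x
    obtain ⟨y, rfl⟩ := e.surjective g
    rw [← QuotientGroup.mk_pow, QuotientGroup.eq_one_iff, ← hc, ← map_pow]
    refine ⟨y ^ 2, ?_, rfl⟩
    rw [SetLike.mem_coe, mem_center_iff, pow_two]
    exact (coord_sq y).1

end Cfsg.Agent.S1248
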