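import Cfsg.Statements.S1249
import Cfsg.Agent.EqLemmas

set_option autoImplicit false
open Cfsg

namespace Cfsg.Agent.S1249

/-- Let P and Q be Sylow p-subgroups of the finite group G both containing the subgroup A. If A is strongly closed in P, then A is strongly closed in Q. -/
theorem result {G : Type*} [Group G] [Finite G] {p : ℕ} [Fact p.Prime] (P Q : Sylow p G) (A : Subgroup G) (hAQ : A ≤ Q) (hA : Cfsg.IsStronglyClosed A (P : Subgroup G)) : Cfsg.IsStronglyClosed A (Q : Subgroup G) := by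
  obtain ⟨hAP, hcl⟩ := hA
  obtain ⟨x, hx⟩ := MulAction.exists_smul_eq G P Q
  have hmem : ∀ y : G, y ∈ (Q : Subgroup G) ↔ x⁻¹ * y * x ∈ (P : Subgroup G) := by
    intro y
    rw [← hx, Sylow.coe_subgroup_smul, Subgroup.mem_pointwise_smul_iff_inv_smul_mem,
      ← map_inv, MulAut.smul_def, MulAut.conj_apply, inv_inv]
  have hin : ∀ a ∈ A, x⁻¹ * a * x ∈ A := by
    intro a ha
    have h1 := hcl a ha x⁻¹ (by rw [inv_inv]; exact (hmem a).mp (hAQ ha))
    rwa [inv_inv] at h1
  have hout : ∀ a ∈ A, x * a * x⁻¹ ∈ A := by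
    intro a ha
    have heq : A.map (MulAut.conj x⁻¹).toMonoidHom = A := by
      refine Subgroup.eq_of_le_of_card_ge ?_ (le_of_eq (Subgroup.card_map_of_injective (MulEquiv.injective _)).symm)
      rintro _ ⟨b, hb, rfl⟩
      simpa using hin b hb
    rw [← heq] at ha
    obtain ⟨b, hb, rfl⟩ := ha
    simpa [mul_assoc] using hb
  refine ⟨hAQ, fun a ha g hg => ?_⟩
  have h1 := hcl a ha (x⁻¹ * g) (by
    have := (hmem _).mp hg
    simpa [mul_assoc] using this)
  simpa [mul_assoc] using hout _ h1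

end Cfsg.Agent.S1249
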