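import Cfsg.Statements.S1253
import Cfsg.Agent.Lib.Transfer.IsolatedSylow

set_option autoImplicit false
open Cfsg

namespace Cfsg.Agent.S1253

/-- Let z be an isolated involution of the finite group G with centralizer C, p an odd prime and P a Sylow p-subgroup of G normalized by z. Then P ∩ C has p-power-free index in C (it is a Sylow p-subgroup of C), and |P : C_P(z)| equals the number of elements x ∈ P with z x z⁻¹ = x⁻¹. -/
theorem result {G : Type*} [Group G] [Finite G] (z : G) (hz : Cfsg.IsIsolatedInvolution z) {p : ℕ} [Fact p.Prime] (hp : p ≠ 2) (P : Sylow p G) (hzP : z ∈ Subgroup.normalizer ((P : Subgroup G) : Set G)) : ¬ p ∣ ((P : Subgroup G) ⊓ Subgroup.centralizer ({z} : Set G)).relIndex (Subgroup.centralizer ({z} : Set G)) ∧ ((P : Subgroup G) ⊓ Subgroup.centralizer ({z} : Set G)).relIndex (P : Subgroup G) = Nat.card {x : G // x ∈ P ∧ z * x * z⁻¹ = x⁻¹} := by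
  refine ⟨?_, Transfer.card_inverted hz hp P.2 hzP⟩
  set C := Subgroup.centralizer ({z} : Set G)
  set D := (P : Subgroup G) ⊓ C
  obtain ⟨R⟩ : Nonempty (Sylow p C) := inferInstance
  set R₀ := (R : Subgroup C).map C.subtype
  have hR₀C : R₀ ≤ C := Subgroup.map_subtype_le _
  have hR₀z : z ∈ Subgroup.normalizer (R₀ : Set G) :=
    Subgroup.centralizer_le_normalizer _ (Subgroup.mem_centralizer_iff.mpr fun x hx =>
      Subgroup.mem_centralizer_singleton_iff.mp (hR₀C hx))
  -- a maximal invariant subgroup over a Sylow subgroup of the centralizer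
  obtain ⟨Q, hQR, ⟨⟨hQp, hQz⟩, hQmax⟩⟩ := (Set.toFinite
    {Q : Subgroup G | IsPGroup p Q ∧ z ∈ Subgroup.normalizer (Q : Set G)}).exists_le_maximal
    (a := R₀) ⟨R.2.map _, hR₀z⟩
  obtain ⟨P', hP'⟩ := Transfer.isSylow_of_maximal_invariant hz hQp hQz
    fun R' h1 h2 h3 => le_antisymm (hQmax ⟨h1, h2⟩ h3) h3
  obtain ⟨g, hg⟩ := MulAction.exists_smul_eq G P P'
  have hzg : g⁻¹ * z * g ∈ Subgroup.normalizer ((P : Subgroup G) : Set G) := by
    rw [← Transfer.mem_map_conj_iff, Transfer.map_conj_normalizer, ← Transfer.sylow_coe_smul, hg, hP']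
    exact hQz
  obtain ⟨h, hh, he⟩ := S1180.result z hz _ hzP g⁻¹ (by rwa [inv_inv])
  set m := g * h
  have hmz : m * z * m⁻¹ = z := by
    rw [show m * z * m⁻¹ = g * (h * z * h⁻¹) * g⁻¹ by simp only [m]; group, he]
    group
  have hmP : (P : Subgroup G).map (MulAut.conj m).toMonoidHom = Q := by
    rw [← Transfer.map_conj_map_conj, Transfer.map_conj_eq_iff_mem_normalizer.mpr hh, ← Transfer.sylow_coe_smul,
      hg, hP']
  have hmC : m ∈ C := Subgroup.mem_centralizer_singleton_iff.mpr (mul_inv_eq_iff_eq_mul.mp hmz)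
  have hle : R₀ ≤ D.map (MulAut.conj m).toMonoidHom := by
    intro x hx
    rw [Transfer.mem_map_conj_iff]
    refine ⟨Transfer.mem_map_conj_iff.mp (hmP.symm ▸ hQR hx), ?_⟩
    exact C.mul_mem (C.mul_mem (C.inv_mem hmC) (hR₀C hx)) hmC
  have hcard : Nat.card R ∣ Nat.card D := by
    have h1 := Subgroup.card_dvd_of_le hle
    rwa [Transfer.card_map_conj, Subgroup.card_map_of_injective C.subtype_injective] at h1
  intro hdvd
  have h1 : Nat.card D * D.relIndex C = Nat.card C := by
    rw [← Nat.card_congr (Subgroup.subgroupOfEquivOfLe (inf_le_right : D ≤ C)).toEquiv]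
    exact Subgroup.card_mul_index _
  rw [R.card_eq_multiplicity] at hcard
  have h2 : p ^ ((Nat.card C).factorization p + 1) ∣ Nat.card C := by
    rw [pow_succ, ← h1]
    exact Nat.mul_dvd_mul (by rw [h1]; exact hcard) hdvd
  exact Nat.pow_succ_factorization_not_dvd Nat.card_pos.ne' Fact.out h2

end Cfsg.Agent.S1253
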