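import Cfsg.Statements.S1254
import Cfsg.Agent.Lib.Transfer.DihedralFusion

set_option autoImplicit false
open Cfsg

namespace Cfsg.Agent.S1254

/-- Let X be a finite group whose Sylow 2-subgroup S is dihedral (of order at least 4). Then X has a normal 2-complement if and only if, for every Klein four-subgroup U ≤ S, the normalizer N_X(U) is generated by C_X(U) and N_S(U). -/
theorem result {X : Type*} [Group X] [Finite X] (S : Sylow 2 X) (m : ℕ) (hm : 2 ≤ m) (eS : (S : Subgroup X) ≃* DihedralGroup m) : Cfsg.HasNormalPComplement 2 X ↔ ∀ U : Subgroup X, U ≤ S → IsKleinFour U → Subgroup.normalizer (U : Set X) = Subgroup.centralizer (U : Set X) ⊔ ((S : Subgroup X) ⊓ Subgroup.normalizer (U : Set X)) := by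
  have := Fact.mk Nat.prime_two
  constructor
  · intro h U hU _
    refine le_antisymm (fun g hg => ?_) (sup_le (Subgroup.centralizer_le_normalizer _) inf_le_right)
    obtain ⟨u, hu, he⟩ := Transfer.self_strong_control_of_local S
      (fun R hR _ n hn hco => Transfer.mem_centralizer_of_coprime h (S.2.to_le hR.1) hn hco)
      (Q := U) (g := g) hU ((Transfer.map_conj_eq_iff_mem_normalizer.mpr hg).le.trans hU)
    have hc : u⁻¹ * g ∈ Subgroup.centralizer (U : Set X) := by
      refine Subgroup.mem_centralizer_iff.mpr fun q hq => (mul_inv_eq_iff_eq_mul.mp ?_).symm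
      rw [show u⁻¹ * g * q * (u⁻¹ * g)⁻¹ = u⁻¹ * (g * q * g⁻¹) * u by group, ← he q hq]
      group
    have huN : u ∈ Subgroup.normalizer (U : Set X) := by
      have := mul_mem hg (inv_mem (Subgroup.centralizer_le_normalizer _ hc))
      rwa [mul_inv_rev, inv_inv, mul_inv_cancel_left] at this
    rw [show g = u * (u⁻¹ * g) by group]
    exact mul_mem (Subgroup.mem_sup_right ⟨hu, huN⟩) (Subgroup.mem_sup_left hc)
  · intro h
    refine Transfer.hasNormalPComplement_of_agrees S (by omega) eS fun U hU hK n hn => ?_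
    set N := Subgroup.normalizer (U : Set X) with hNdef
    set φ := U.normalizerMonoidHom
    have hsub : N ≤ ((((S : Subgroup X) ⊓ N).subgroupOf N).map φ |>.comap φ).map N.subtype := by
      refine (h U hU hK).le.trans (sup_le (fun x hx => ?_) fun x hx => ?_)
      · refine ⟨⟨x, Subgroup.centralizer_le_normalizer _ hx⟩, ?_, rfl⟩
        rw [SetLike.mem_coe, Subgroup.mem_comap]
        have : (⟨x, Subgroup.centralizer_le_normalizer _ hx⟩ : N) ∈ φ.ker := by
          rw [Subgroup.normalizerMonoidHom_ker]; exact Subgroup.mem_subgroupOf.mpr hx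
        rw [MonoidHom.mem_ker.mp this]
        exact one_mem _
      · exact ⟨⟨x, hx.2⟩, ⟨⟨x, hx.2⟩, Subgroup.mem_subgroupOf.mpr hx, rfl⟩, rfl⟩
    obtain ⟨w, ⟨v, hv, hve⟩, hwn⟩ := hsub hn
    refine ⟨v, (Subgroup.mem_subgroupOf.mp hv).1, fun q hq => ?_⟩
    rw [← show (w : X) = n from hwn]
    exact (congrArg Subtype.val (DFunLike.congr_fun hve ⟨q, hq⟩) :)

end Cfsg.Agent.S1254
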