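import Cfsg.Statements.S1255
import Cfsg.Agent.Lib.Transfer.DihedralFusion

set_option autoImplicit false
open Cfsg
open scoped commutatorElement

namespace Cfsg.Agent.S1255

/-- Let X be a finite group whose Sylow 2-subgroup S is dihedral of order 2m ≥ 4. Then X has no subgroup of index 2 and no isolated involution if and only if either all involutions of X are conjugate, or for every Klein four-subgroup U ≤ S the index |N_X(U) : C_X(U)| equals 3 when |S| = 4 and equals 6 when |S| > 4. -/
theorem result {X : Type*} [Group X] [Finite X] (S : Sylow 2 X) (m : ℕ) (hm : 2 ≤ m) (eS : (S : Subgroup X) ≃* DihedralGroup m) : ((∀ H : Subgroup X, H.index ≠ 2) ∧ (∀ z : X, ¬ Cfsg.IsIsolatedInvolution z)) ↔ ((∀ a b : X, orderOf a = 2 → orderOf b = 2 → IsConj a b) ∨ (∀ U : Subgroup X, U ≤ S → IsKleinFour U → (Subgroup.centralizer (U : Set X)).relIndex (Subgroup.normalizer (U : Set X)) = (if Nat.card S = 4 then 3 else 6))) := by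
  have := Fact.mk Nat.prime_two
  obtain ⟨b, hb⟩ := Transfer.exists_two_pow_of_dihedral S (by omega) eS
  obtain ⟨b, rfl⟩ : ∃ c, b = c + 1 := ⟨b - 1, by
    rcases Nat.eq_zero_or_pos b with h | h
    · rw [h, pow_zero] at hb; omega
    · omega⟩
  subst hb
  have hcardS : Nat.card (S : Subgroup X) = 2 * 2 ^ (b + 1) := by
    rw [← DihedralGroup.nat_card]; exact Nat.card_congr eS.toEquiv
  set c : ZMod (2 ^ (b + 1)) := ((2 ^ b : ℕ) : ZMod (2 ^ (b + 1))) with hc
  have hcc : c + c = 0 := by
    rw [hc, ← Nat.cast_add, ZMod.natCast_eq_zero_iff]; exact ⟨1, by rw [pow_succ]; ring⟩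
  have hc0 : c ≠ 0 := by
    rw [hc, Ne, ZMod.natCast_eq_zero_iff]
    intro h
    have := Nat.le_of_dvd (by positivity) h
    have : 2 ^ b < 2 ^ (b + 1) := Nat.pow_lt_pow_right (by norm_num) (by omega)
    omega
  -- elements of `S`
  let el : DihedralGroup (2 ^ (b + 1)) → X := fun d => ((eS.symm d : (S : Subgroup X)) : X)
  have el_mem : ∀ d, el d ∈ (S : Subgroup X) := fun d => (eS.symm d).2
  have el_inj : Function.Injective el := fun d d' h => eS.symm.injective (Subtype.ext h)
  have el_mul : ∀ d d', el (d * d') = el d * el d' := fun d d' => by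
    simp only [el, map_mul, Subgroup.coe_mul]
  have el_one : el 1 = 1 := by simp only [el, map_one, Subgroup.coe_one]
  have el_ord : ∀ d, orderOf (el d) = orderOf d := fun d => by
    simp only [el, Subgroup.orderOf_coe, MulEquiv.orderOf_eq]
  have hz : orderOf (DihedralGroup.r c) = 2 := by
    refine orderOf_eq_prime (by rw [sq, DihedralGroup.r_mul_r, hcc]; rfl) fun h => hc0 ?_
    rw [DihedralGroup.one_def] at h
    injection h
  have hsr : ∀ i : ZMod (2 ^ (b + 1)), orderOf (DihedralGroup.sr i) = 2 := DihedralGroup.orderOf_sr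
  have hone : (∀ a b : X, orderOf a = 2 → orderOf b = 2 → IsConj a b) →
      (∀ H : Subgroup X, H.index ≠ 2) ∧ ∀ z : X, ¬ Cfsg.IsIsolatedInvolution z := by
    intro hall
    constructor
    · intro H hH
      refine Transfer.exists_index_two_iff.mp ⟨H, hH⟩ ?_
      rw [Transfer.pResidual_eq_top_iff S]
      -- products of two involutions lie in the derived group
      have hprod : ∀ d d' : DihedralGroup (2 ^ (b + 1)), orderOf d = 2 → orderOf d' = 2 →
          el (d * d') ∈ commutator X := by
        intro d d' h1 h2
        obtain ⟨g, hg⟩ := isConj_iff.mp (hall (el d) (el d') (by rw [el_ord, h1]) (by rw [el_ord, h2]))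
        have hd : (el d)⁻¹ = el d := inv_eq_of_mul_eq_one_right (by
          rw [← sq]
          exact orderOf_dvd_iff_pow_eq_one.mp ((el_ord d).trans h1).dvd)
        rw [el_mul, ← hg, show el d * (g * el d * g⁻¹) = (el d)⁻¹ * g * el d * g⁻¹ by rw [hd]; group]
        have h4 := Subgroup.commutator_mem_commutator (Subgroup.mem_top (el d)⁻¹) (Subgroup.mem_top g)
        rw [commutatorElement_def, inv_inv] at h4
        exact h4
      have hrot : ∀ i, el (DihedralGroup.r i) ∈ commutator X := fun i => by
        have h := hprod _ _ (hsr 0) (hsr i)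
        rwa [DihedralGroup.sr_mul_sr, sub_zero] at h
      intro x hx
      rw [show x = el (eS ⟨x, hx⟩) by simp only [el, MulEquiv.symm_apply_apply]]
      cases eS ⟨x, hx⟩ with
      | r i => exact hrot i
      | sr i =>
        have h := hprod _ _ hz (hsr (i + c))
        rwa [DihedralGroup.r_mul_sr, add_sub_cancel_right] at h
    · intro w hw
      obtain ⟨g, hg⟩ := isConj_iff.mp (hall w (el (DihedralGroup.r c)) hw.1 (by rw [el_ord, hz]))
      have h0 : ∀ h : X, Commute (el (DihedralGroup.r c)) (h * el (DihedralGroup.r c) * h⁻¹) →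
          h * el (DihedralGroup.r c) * h⁻¹ = el (DihedralGroup.r c) := by
        intro h hh
        rw [← hg] at hh ⊢
        have hh' := hh.map (MulAut.conj g⁻¹)
        simp only [MulAut.conj_apply, inv_inv] at hh'
        have e1 : g⁻¹ * (g * w * g⁻¹) * g = w := by group
        have e2 : g⁻¹ * (h * (g * w * g⁻¹) * h⁻¹) * g = (g⁻¹ * h * g) * w * (g⁻¹ * h * g)⁻¹ := by group
        rw [e1, e2] at hh'
        have h3 := hw.2 _ hh'
        calc h * (g * w * g⁻¹) * h⁻¹ = g * ((g⁻¹ * h * g) * w * (g⁻¹ * h * g)⁻¹) * g⁻¹ := by group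
          _ = _ := by rw [h3]
      obtain ⟨g', hg'⟩ := isConj_iff.mp (hall (el (DihedralGroup.r c)) (el (DihedralGroup.sr 0))
        (by rw [el_ord, hz]) (by rw [el_ord, hsr]))
      have hcomm : Commute (el (DihedralGroup.r c)) (el (DihedralGroup.sr 0)) := by
        show el _ * el _ = el _ * el _
        rw [← el_mul, ← el_mul]
        congr 1
        rw [DihedralGroup.r_mul_sr, DihedralGroup.sr_mul_r, zero_sub, zero_add,
          neg_eq_of_add_eq_zero_right hcc]
      have h5 := h0 g' (hg'.symm ▸ hcomm)
      rw [hg'] at h5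
      cases el_inj h5
  -- the automizer condition gives one class
  have hbig : (∀ U : Subgroup X, U ≤ S → IsKleinFour U → 3 ∣
      (Subgroup.centralizer (U : Set X)).relIndex (Subgroup.normalizer (U : Set X))) →
      ∀ a b : X, orderOf a = 2 → orderOf b = 2 → IsConj a b := by
    intro hU
    have key : ∀ x : X, orderOf x = 2 → IsConj x (el (DihedralGroup.r c)) := by
      intro x hx
      obtain ⟨P, hP⟩ := (IsPGroup.of_card (n := 1) (p := 2) (G := Subgroup.zpowers x)
        (by rw [Nat.card_zpowers, hx, pow_one])).exists_le_sylow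
      obtain ⟨g, hg⟩ := MulAction.exists_smul_eq X P S
      have hxS : g * x * g⁻¹ ∈ (S : Subgroup X) := by
        rw [← hg]; exact ⟨x, hP (Subgroup.mem_zpowers x), rfl⟩
      refine (isConj_iff.mpr ⟨g, rfl⟩).trans ?_
      have hy2 : orderOf (g * x * g⁻¹) = 2 := by rw [← MulAut.conj_apply, MulEquiv.orderOf_eq, hx]
      generalize g * x * g⁻¹ = y at hxS hy2
      obtain ⟨d, rfl⟩ : ∃ d, y = el d := ⟨eS ⟨y, hxS⟩, by simp only [el, MulEquiv.symm_apply_apply]⟩
      rw [el_ord] at hy2
      cases d with
      | r i =>
        have h1 : i + i = 0 := by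
          have h := pow_orderOf_eq_one (DihedralGroup.r i)
          rw [hy2, sq, DihedralGroup.r_mul_r, DihedralGroup.one_def] at h
          injection h
        rcases Transfer.zmod_add_self_eq_zero h1 with rfl | rfl
        · exfalso
          rw [← DihedralGroup.one_def, orderOf_one] at hy2
          omega
        · exact IsConj.refl _
      | sr i =>
        obtain ⟨U, hUS, hUK, h1, h2⟩ : ∃ U : Subgroup X, U ≤ (S : Subgroup X) ∧ IsKleinFour U ∧
            el (DihedralGroup.sr i) ∈ U ∧ el (DihedralGroup.r c) ∈ U := by
          cases b with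
          | zero =>
            refine ⟨(S : Subgroup X), le_rfl, ⟨by rw [hcardS]; norm_num, ?_⟩, el_mem _, el_mem _⟩
            rw [Monoid.exponent_eq_of_mulEquiv eS, DihedralGroup.exponent]
            rfl
          | succ a =>
            exact ⟨Transfer.kleinOf eS i, Transfer.kleinOf_le eS i, Transfer.kleinOf_isKleinFour eS i,
              (Transfer.mem_kleinOf eS (el_mem _)).mpr (by
                rw [Subtype.coe_eta, MulEquiv.apply_symm_apply]; exact Or.inr (Or.inr (Or.inl rfl))),
              (Transfer.mem_kleinOf eS (el_mem _)).mpr (by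
                rw [Subtype.coe_eta, MulEquiv.apply_symm_apply]; exact Or.inr (Or.inl rfl))⟩
        have hne : ∀ d : DihedralGroup (2 ^ (b + 1)), orderOf d = 2 → el d ≠ 1 := fun d hd h => by
          rw [← el_ord, h, orderOf_one] at hd
          omega
        obtain ⟨n, -, hn⟩ := Transfer.transitive_of_three_dvd U hUK (hU U hUS hUK) h1 (hne _ (hsr i))
          h2 (hne _ hz)
        exact isConj_iff.mpr ⟨n, hn⟩
    exact fun a b ha hb => (key a ha).trans (key b hb).symm
  constructor
  · rintro ⟨hidx, -⟩
    refine Or.inr fun U hUS hUK => ?_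
    have hd6 := Transfer.card_automizer_dvd_six U hUK
    by_contra hne
    have hno : Cfsg.pResidual 2 X = ⊤ := by
      by_contra h
      obtain ⟨H, hH⟩ := Transfer.exists_index_two_iff.mpr h
      exact hidx H hH
    have hle := (Transfer.pResidual_eq_top_iff S).mp hno
    cases b with
    | zero =>
      -- four group: the automizer is trivial and Burnside gives a complement
      have hUS' : U = (S : Subgroup X) := Subgroup.eq_of_le_of_card_ge hUS (by
        rw [hUK.card_four, hcardS]; norm_num)
      subst hUS'
      rw [if_pos (show Nat.card S = 4 from hcardS.trans (by norm_num))] at hne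
      have hodd : ¬ 2 ∣ (Subgroup.centralizer ((S : Subgroup X) : Set X)).relIndex
          (Subgroup.normalizer ((S : Subgroup X) : Set X)) := by
        intro h
        have hSC : (S : Subgroup X) ≤ Subgroup.centralizer ((S : Subgroup X) : Set X) := fun x hx =>
          Subgroup.mem_centralizer_iff.mpr fun y hy => congrArg Subtype.val
            (mul_comm_of_exponent_two hUK.exponent_two ⟨y, hy⟩ ⟨x, hx⟩)
        exact S.not_dvd_index ((h.trans (Subgroup.relIndex_dvd_index_of_le
          (Subgroup.centralizer_le_normalizer _))).trans (Subgroup.index_dvd_of_le hSC))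
      have hd1 : (Subgroup.centralizer ((S : Subgroup X) : Set X)).relIndex
          (Subgroup.normalizer ((S : Subgroup X) : Set X)) = 1 := by
        have hle6 := Nat.le_of_dvd (by norm_num) hd6
        interval_cases h7 : ((Subgroup.centralizer ((S : Subgroup X) : Set X)).relIndex
          (Subgroup.normalizer ((S : Subgroup X) : Set X))) <;> simp_all (config := { decide := true })
      have hnpc := Transfer.hasNormalPComplement_of_normalizer_le_centralizer S (Subgroup.relIndex_eq_one.mp hd1)
      have h2 := (Transfer.hasNormalPComplement_iff_inf_eq_bot S).mp hnpc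
      rw [hno, inf_top_eq] at h2
      rw [h2, Subgroup.card_bot] at hcardS
      simp at hcardS
    | succ a =>
      have h8 : Nat.card S ≠ 4 := by
        change Nat.card (S : Subgroup X) ≠ 4
        rw [hcardS, pow_succ, pow_succ]
        have := Nat.one_le_two_pow (n := a)
        omega
      rw [if_neg h8] at hne
      obtain ⟨i, rfl⟩ := Transfer.exists_kleinOf eS hUK hUS
      obtain ⟨d, hdN, hdne⟩ := Transfer.exists_swapping a i
      have hdN' : el d ∈ Subgroup.normalizer (Transfer.kleinOf eS i : Set X) := by
        rw [← Transfer.map_conj_eq_iff_mem_normalizer]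
        refine Subgroup.eq_of_le_of_card_ge ?_ (Transfer.card_map_conj _ _).ge
        rintro _ ⟨q, hq, rfl⟩
        have hqS := Transfer.kleinOf_le eS i hq
        have h := (Subgroup.mem_normalizer_iff.mp hdN _).mp ((Transfer.mem_kleinOf eS hqS).mp hq)
        refine (Transfer.mem_kleinOf eS (mul_mem (mul_mem (el_mem d) hqS) (inv_mem (el_mem d)))).mpr ?_
        rw [show (⟨el d * q * (el d)⁻¹, _⟩ : (S : Subgroup X)) = eS.symm d * ⟨q, hqS⟩ * (eS.symm d)⁻¹ from
          Subtype.ext rfl]
        rw [map_mul, map_mul, map_inv, MulEquiv.apply_symm_apply]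
        exact h
      have hx : el (DihedralGroup.sr i) ∈ Transfer.kleinOf eS i :=
        (Transfer.mem_kleinOf eS (el_mem _)).mpr (by
          rw [Subtype.coe_eta, MulEquiv.apply_symm_apply]; exact Or.inr (Or.inr (Or.inl rfl)))
      have hmove : el d * el (DihedralGroup.sr i) * (el d)⁻¹ ≠ el (DihedralGroup.sr i) := by
        intro h
        refine hdne (el_inj ?_)
        rw [el_mul, el_mul, show el d⁻¹ = (el d)⁻¹ by simp only [el, map_inv, Subgroup.coe_inv]]
        exact h
      have h2d : (Subgroup.centralizer (Transfer.kleinOf eS i : Set X)).relIndex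
          (Subgroup.normalizer (Transfer.kleinOf eS i : Set X)) = 2 := by
        have h2 : 2 ∣ (Subgroup.centralizer (Transfer.kleinOf eS i : Set X)).relIndex
            (Subgroup.normalizer (Transfer.kleinOf eS i : Set X)) := by
          rw [← Transfer.card_automizer]
          obtain ⟨k, hk⟩ := IsPGroup.iff_orderOf.mp S.2 (eS.symm d)
          have h3 : orderOf ((Transfer.kleinOf eS i).normalizerMonoidHom ⟨el d, hdN'⟩) ∣ 2 ^ k := by
            refine (orderOf_map_dvd _ _).trans ?_
            rw [Subgroup.orderOf_mk, ← hk, ← Subgroup.orderOf_coe]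
          obtain ⟨j, -, hj⟩ := (Nat.dvd_prime_pow Nat.prime_two).mp h3
          cases j with
          | zero =>
            exfalso
            rw [pow_zero, orderOf_eq_one_iff] at hj
            exact hmove (congrArg Subtype.val (DFunLike.congr_fun hj ⟨_, hx⟩) :)
          | succ j =>
            refine Dvd.dvd.trans ?_ (Subgroup.orderOf_dvd_natCard (x := (Transfer.kleinOf eS i).normalizerMonoidHom ⟨el d, hdN'⟩) _ ⟨_, rfl⟩)
            rw [hj]
            exact dvd_pow_self 2 j.succ_ne_zero
        have hle6 := Nat.le_of_dvd (by norm_num) hd6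
        interval_cases h7 : ((Subgroup.centralizer (Transfer.kleinOf eS i : Set X)).relIndex
          (Subgroup.normalizer (Transfer.kleinOf eS i : Set X))) <;> simp_all (config := { decide := true })
      have hag := Transfer.agrees_of_small h2d (el_mem d) hdN' hx hmove
      have hall2 := Transfer.zmod_two_cases
      have h1 : (Transfer.dihedralParity a (Transfer.idxParity a i + 1)).comp eS.toMonoidHom
          ⟨el (DihedralGroup.r 1), el_mem _⟩ = 1 := by
        refine Transfer.focal_le_ker_of_klein S (by positivity) eS _ (fun W hW hWK => ?_) (el_mem _) (hle (el_mem _))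
        obtain ⟨j, rfl⟩ := Transfer.exists_kleinOf eS hWK hW
        rcases hall2 (Transfer.idxParity a j) (Transfer.idxParity a i) with h | h
        · left
          obtain ⟨s, hs, hse⟩ := Transfer.kleinOf_conj eS h.symm
          exact hse ▸ Transfer.agrees_map_conj hag hs
        · right
          rintro ⟨y, hy⟩ hyW
          have h' := Transfer.dihedralKlein_le_ker a j ((Transfer.mem_kleinOf eS hy).mp hyW)
          rw [h] at h'
          exact h'
      change Transfer.dihedralParity a _ (eS (eS.symm (DihedralGroup.r 1))) = 1 at h1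
      rw [MulEquiv.apply_symm_apply, Transfer.dihedralParity_r_one] at h1
      exact absurd h1 Transfer.ofAdd_one_ne
  · rintro (hall | hU)
    · exact hone hall
    · refine hone (hbig fun U hUS hUK => ?_)
      rw [hU U hUS hUK]
      split_ifs <;> norm_num

end Cfsg.Agent.S1255
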