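import Cfsg.Statements.S1256
import Cfsg.Agent.Lib.Transfer.DihedralFusion

set_option autoImplicit false
open Cfsg

namespace Cfsg.Agent.S1256

/-- Let X be a finite group whose Sylow 2-subgroup S is dihedral of order 2m ≥ 4. If |S| = 4, any two Klein four-subgroups of X are conjugate; if |S| > 4, there are Klein four-subgroups U₁, U₂ of X that are not conjugate, and every Klein four-subgroup of X is conjugate to U₁ or to U₂. -/
theorem result {X : Type*} [Group X] [Finite X] (S : Sylow 2 X) (m : ℕ) (hm : 2 ≤ m) (eS : (S : Subgroup X) ≃* DihedralGroup m) : (Nat.card S = 4 → ∀ U V : Subgroup X, IsKleinFour U → IsKleinFour V → (∃ x : X, U.map (MulAut.conj x).toMonoidHom = V)) ∧ (4 < Nat.card S → ∃ U₁ U₂ : Subgroup X, IsKleinFour U₁ ∧ IsKleinFour U₂ ∧ ¬ (∃ x : X, U₁.map (MulAut.conj x).toMonoidHom = U₂) ∧ ∀ V : Subgroup X, IsKleinFour V → (∃ x : X, V.map (MulAut.conj x).toMonoidHom = U₁) ∨ (∃ x : X, V.map (MulAut.conj x).toMonoidHom = U₂)) := by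
  have := Fact.mk Nat.prime_two
  obtain ⟨b, hb⟩ := Transfer.exists_two_pow_of_dihedral S (by omega) eS
  subst hb
  have hcardS : Nat.card S = 2 * 2 ^ b := by
    rw [← DihedralGroup.nat_card]; exact Nat.card_congr eS.toEquiv
  have hkl : ∀ U : Subgroup X, IsKleinFour U → IsPGroup 2 U := fun U hU =>
    IsPGroup.of_card (n := 2) hU.card_four
  constructor
  · intro h4 U V hU hV
    have hsyl : ∀ W : Subgroup X, IsKleinFour W → ∃ P : Sylow 2 X, (P : Subgroup X) = W := by
      intro W hW
      obtain ⟨P, hP⟩ := (hkl W hW).exists_le_sylow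
      obtain ⟨g, hg⟩ := MulAction.exists_smul_eq X P S
      refine ⟨P, (Subgroup.eq_of_le_of_card_ge hP ?_).symm⟩
      have h1 : Nat.card (P : Subgroup X) = Nat.card (S : Subgroup X) := by
        rw [← hg, Transfer.sylow_coe_smul, Transfer.card_map_conj]
      change Nat.card (S : Subgroup X) = 4 at h4
      rw [h1, h4, hW.card_four]
    obtain ⟨P, rfl⟩ := hsyl U hU
    obtain ⟨Q, rfl⟩ := hsyl V hV
    obtain ⟨g, rfl⟩ := MulAction.exists_smul_eq X P Q
    exact ⟨g, rfl⟩
  · intro hgt
    obtain ⟨a, rfl⟩ : ∃ a, b = a + 2 := ⟨b - 2, by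
      rcases b with _ | _ | b
      · simp at hcardS; omega
      · simp at hcardS; omega
      · omega⟩
    refine ⟨Transfer.kleinOf eS 0, Transfer.kleinOf eS 1, Transfer.kleinOf_isKleinFour eS 0,
      Transfer.kleinOf_isKleinFour eS 1, ?_, fun V hV => ?_⟩
    · rintro ⟨g, hg⟩
      obtain ⟨u, hu, he⟩ := Transfer.klein_fusion S (by positivity) eS (Transfer.kleinOf_isKleinFour eS 0)
        (Transfer.kleinOf_le eS 0) (g := g) (hg.le.trans (Transfer.kleinOf_le eS 1))
      rw [hg] at he
      set χ := (Transfer.dihedralParity a 0).comp eS.toMonoidHom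
      have hsrS : ((eS.symm (DihedralGroup.sr 1) : (S : Subgroup X)) : X) ∈ Transfer.kleinOf eS 1 :=
        (Transfer.mem_kleinOf eS (eS.symm (DihedralGroup.sr 1)).2).mpr
          (by rw [Subtype.coe_eta, MulEquiv.apply_symm_apply]; exact Or.inr (Or.inr (Or.inl rfl)))
      obtain ⟨q, hq, hqe⟩ := he.le hsrS
      have hqS : q ∈ (S : Subgroup X) := Transfer.kleinOf_le eS 0 hq
      have h1 : χ ⟨q, hqS⟩ = 1 := by
        have h := Transfer.dihedralKlein_le_ker a 0 ((Transfer.mem_kleinOf eS hqS).mp hq)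
        rwa [map_zero] at h
      have h2 : (eS.symm (DihedralGroup.sr 1) : (S : Subgroup X)) = ⟨u, hu⟩ * ⟨q, hqS⟩ * ⟨u, hu⟩⁻¹ :=
        Subtype.ext hqe.symm
      have h3 : χ (eS.symm (DihedralGroup.sr 1)) = 1 := by
        rw [h2, map_mul, map_mul, map_inv, h1, mul_one, mul_inv_cancel]
      have h4 : χ (eS.symm (DihedralGroup.sr 1)) = Multiplicative.ofAdd 1 := by
        change Transfer.dihedralParity a 0 (eS (eS.symm _)) = _
        rw [MulEquiv.apply_symm_apply]
        refine congrArg Multiplicative.ofAdd ?_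
        show Transfer.idxParity a 1 + 0 = 1
        rw [map_one, add_zero]
      rw [h4] at h3
      exact absurd h3 Transfer.ofAdd_one_ne
    · obtain ⟨P, hP⟩ := (hkl V hV).exists_le_sylow
      obtain ⟨g, hg⟩ := MulAction.exists_smul_eq X P S
      have hle : V.map (MulAut.conj g).toMonoidHom ≤ (S : Subgroup X) := by
        rw [← hg]; exact Subgroup.map_mono hP
      obtain ⟨i, hi⟩ := Transfer.exists_kleinOf eS (Transfer.isKleinFour_map (MulAut.conj g).injective hV) hle
      have h2 : ∀ v : ZMod 2, v = 0 ∨ v = 1 := fun v => (Transfer.zmod_two_cases v 0).imp_right fun h => by rw [h, zero_add]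
      rcases h2 (Transfer.idxParity a i) with h | h
      · left
        obtain ⟨s, -, hs⟩ := Transfer.kleinOf_conj eS (i := i) (j := 0) (by rw [h, map_zero])
        exact ⟨s * g, by rw [← Transfer.map_conj_map_conj, hi, hs]⟩
      · right
        obtain ⟨s, -, hs⟩ := Transfer.kleinOf_conj eS (i := i) (j := 1) (by rw [h, map_one])
        exact ⟨s * g, by rw [← Transfer.map_conj_map_conj, hi, hs]⟩

end Cfsg.Agent.S1256
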