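import Cfsg.Statements.S1267
import Cfsg.Agent.Lib.Components.LocalLayer

set_option autoImplicit false
open Cfsg

namespace Cfsg.Agent.S1267

/-- Let G be finite and P ≤ O_p(G). Then E(N_G(P)) = E(G). -/
theorem result {G : Type*} [Group G] [Finite G] (p : ℕ) [Fact p.Prime] (P : Subgroup G) (hP : P ≤ Cfsg.pCore p G) : (Cfsg.layer ↥(Subgroup.normalizer ((P : Subgroup G) : Set G))).map (Subgroup.normalizer ((P : Subgroup G) : Set G)).subtype = Cfsg.layer G := by
  set N := Subgroup.normalizer (P : Set G) with hN
  set Q := Cfsg.pCore p G with hQ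
  have hPp : IsPGroup p ↥P := (Cfsg.Agent.Cores.isPGroup_pCore p G).to_le hP
  have hCN : Subgroup.centralizer (Q : Set G) ≤ N :=
    (Subgroup.centralizer_le (SetLike.coe_subset_coe.mpr hP)).trans
      (Subgroup.centralizer_le_normalizer (P : Set G))
  refine le_antisymm ?_ ?_
  · rw [Subgroup.map_le_iff_le_comap]
    refine Cfsg.Agent.Components.layer_le fun L hL => ?_
    rw [← Subgroup.map_le_iff_le_comap]
    have h1 : L.map N.subtype ≤ Subgroup.centralizer (Q : Set G) := by
      refine Cfsg.Agent.Components.le_centralizer_pCore_of hPp L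
        (Cfsg.Agent.Components.pPrimeGen_eq_self_of_perfect
          (Cfsg.Agent.Components.IsComponent.perfect hL)) fun R hR hRp => ?_
      have : Group.IsNilpotent ↥R := hRp.isNilpotent
      exact Subgroup.commutator_eq_bot_iff_le_centralizer.mp
        (Cfsg.Agent.Components.IsComponent.commutator_solvable hL inferInstance
          (Subgroup.normalizer_eq_top (H := R) ▸ le_top))
    exact Cfsg.Agent.Components.IsComponent.le_layer
      (Cfsg.Agent.Components.IsComponent.of_le_subnormal
        (Subgroup.Normal.isSubnormal inferInstance) hCN hL h1)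
  · refine Cfsg.Agent.Components.layer_le fun L hL => ?_
    refine Cfsg.Agent.Components.IsComponent.le_layer_map_subtype hL
      (le_trans ?_ hCN)
    exact ((Cfsg.Agent.Components.IsComponent.le_layer hL).trans
      Cfsg.Agent.Components.layer_le_centralizer_fitting).trans
      (Subgroup.centralizer_le (SetLike.coe_subset_coe.mpr
        (Cfsg.Agent.Cores.pCore_le_fittingSubgroup p)))

end Cfsg.Agent.S1267
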