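import Cfsg.Statements.S1269
import Cfsg.Agent.Lib.Components.LocalLayer

set_option autoImplicit false
open Cfsg

namespace Cfsg.Agent.S1269

/-- Let G be finite with O_{p'}(G) = 1, P a p-subgroup, N = N_G(P), and x an element of the preimage in N of E(N / O_{p'}(N)). Then x normalizes every component L of G. -/
theorem result {G : Type*} [Group G] [Finite G] (p : ℕ) [Fact p.Prime] (hO : Cfsg.pPrimeCore p G = ⊥) (P : Subgroup G) (hP : IsPGroup p ↥P) (L : Subgroup G) (hL : Cfsg.IsComponent L) (x : G) (hx : x ∈ (((Cfsg.layer (↥(Subgroup.normalizer ((P : Subgroup G) : Set G)) ⧸ Cfsg.pPrimeCore p ↥(Subgroup.normalizer ((P : Subgroup G) : Set G)))).comap (QuotientGroup.mk' (Cfsg.pPrimeCore p ↥(Subgroup.normalizer ((P : Subgroup G) : Set G))))).map (Subgroup.normalizer ((P : Subgroup G) : Set G)).subtype)) : L.map (MulAut.conj x).toMonoidHom = L := by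
  set N := Subgroup.normalizer (P : Set G) with hN
  set O := Cfsg.pPrimeCore p ↥N with hOdef
  set π := QuotientGroup.mk' O with hπ
  set M := (Cfsg.layer (↥N ⧸ O)).comap π with hM
  set D := (Cfsg.layer G ⊓ Subgroup.centralizer (P : Set G)).subgroupOf N with hD
  have hMQ := Cfsg.Agent.Components.le_centralizer_pCore_of hP M
    Cfsg.Agent.Components.preimage_layer_pPrimeGen
    (fun R hR hRp => Cfsg.Agent.Components.preimage_layer_le_centralizer R hRp)
  have hMP : M.map N.subtype ≤ Subgroup.centralizer (P : Set G) := by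
    have h1 := Cfsg.Agent.Components.preimage_layer_le_centralizer
      (P.subgroupOf N) (hP.of_equiv (Subgroup.subgroupOfEquivOfLe Subgroup.le_normalizer).symm)
    rintro _ ⟨m, hm, rfl⟩ y hy
    exact congrArg Subtype.val
      (h1 hm ⟨y, Subgroup.le_normalizer hy⟩ (Subgroup.mem_subgroupOf.mpr hy))
  have hcard : (Nat.card (O.map N.subtype)).Coprime p := by
    rw [Cfsg.Agent.Cores.card_map_subtype]
    exact Cfsg.Agent.Cores.coprime_card_pPrimeCore p
  -- `p'`-elements of `M` acting trivially on `D` modulo `O` fix `L`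
  have hfix : ∀ k ∈ M, (orderOf k).Coprime p → (∀ d ∈ D, π k * π d = π d * π k) →
      L.map (MulAut.conj (k : G)).toMonoidHom = L := by
    intro k hk ho hkD
    refine Cfsg.Agent.Components.conj_component_eq_of_commutator_mem hO hP hcard
      (by rwa [orderOf_injective N.subtype N.subtype_injective]) (hMP ⟨k, hk, rfl⟩) (hMQ ⟨k, hk, rfl⟩)
      (fun c hc hcP => ?_) hL
    have hcN : c ∈ N := Subgroup.centralizer_le_normalizer (P : Set G) hcP
    refine ⟨k * ⟨c, hcN⟩ * k⁻¹ * ⟨c, hcN⟩⁻¹, ?_, rfl⟩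
    rw [SetLike.mem_coe, ← QuotientGroup.eq_one_iff]
    show π _ = 1
    rw [map_mul, map_mul, map_mul, map_inv, map_inv,
      hkD ⟨c, hcN⟩ (Subgroup.mem_subgroupOf.mpr ⟨hc, hcP⟩)]
    group
  let S : Subgroup ↥N := (Subgroup.normalizer (L : Set G)).comap N.subtype
  have hS : ∀ k : ↥N, L.map (MulAut.conj (k : G)).toMonoidHom = L → k ∈ S := by
    intro k hk
    rw [Subgroup.mem_comap, Subgroup.mem_normalizer_iff]
    refine fun g => ⟨fun hg => hk ▸ ⟨g, hg, rfl⟩, fun hg => ?_⟩
    obtain ⟨g', hg', he⟩ := hk.symm ▸ hg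
    simp only [MulEquiv.coe_toMonoidHom, MulAut.conj_apply, Subgroup.coe_subtype] at he
    rwa [mul_left_cancel (mul_right_cancel he)] at hg'
  have hOS : O ≤ S := by
    intro k hk
    refine hS k (Cfsg.Agent.Components.conj_component_eq_of_commutator_mem hO hP hcard
      (by
        rw [orderOf_injective N.subtype N.subtype_injective]
        exact (Cfsg.Agent.Cores.coprime_card_pPrimeCore p).coprime_dvd_left
          (Subgroup.orderOf_dvd_natCard _ hk))
      (hMP ⟨k, Subgroup.ker_le_comap π _ (by rwa [QuotientGroup.ker_mk']), rfl⟩)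
      (hMQ ⟨k, Subgroup.ker_le_comap π _ (by rwa [QuotientGroup.ker_mk']), rfl⟩)
      (fun c _ hcP => ?_) hL)
    have hcN : c ∈ N := Subgroup.centralizer_le_normalizer (P : Set G) hcP
    refine ⟨k * ⟨c, hcN⟩ * k⁻¹ * ⟨c, hcN⟩⁻¹, ?_, rfl⟩
    rw [SetLike.mem_coe, mul_assoc, mul_assoc]
    refine O.mul_mem hk ?_
    rw [← mul_assoc]
    exact (Cfsg.Agent.Cores.pPrimeCore_normal p ↥N).conj_mem _ (O.inv_mem hk) _
  have hDS : D ≤ S := fun d hd =>
    Cfsg.Agent.Components.IsComponent.layer_le_normalizer hL (Subgroup.mem_subgroupOf.mp hd).1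
  have hDn : D.Normal := by
    refine ⟨fun d hd g => Subgroup.mem_subgroupOf.mpr ⟨?_, fun y hy => ?_⟩⟩
    · exact Cfsg.Agent.Components.layer_normal.conj_mem _ (Subgroup.mem_subgroupOf.mp hd).1 _
    · have h1 := (Subgroup.mem_subgroupOf.mp hd).2 _
        ((Subgroup.mem_normalizer_iff.mp (inv_mem g.2) y).mp hy)
      simp only [Subgroup.coe_mul, Subgroup.coe_inv]
      calc y * ((g : G) * d * (g : G)⁻¹)
          = (g : G) * ((g : G)⁻¹ * y * ((g : G)⁻¹)⁻¹ * d) * (g : G)⁻¹ := by group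
        _ = (g : G) * (d * ((g : G)⁻¹ * y * ((g : G)⁻¹)⁻¹)) * (g : G)⁻¹ := by rw [h1]
        _ = (g : G) * d * (g : G)⁻¹ * y := by group
  have hMS : M ≤ S := by
    have h1 : M ≤ Cfsg.pLayer p ↥N ⊔ O := by
      rw [← QuotientGroup.ker_mk' O, ← Subgroup.comap_map_eq, Cfsg.Agent.Components.map_pLayer]
    refine h1.trans (sup_le (sSup_le fun K hK => ?_) hOS)
    rcases Cfsg.Agent.Components.IsComponent.le_or_commutes hK.2.1
      (hDn.map π (QuotientGroup.mk'_surjective O)).isSubnormal with h2 | h2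
    · intro k hk
      obtain ⟨d, hd, hdk⟩ := h2 ⟨k, hk, rfl⟩
      rw [← mul_inv_cancel_left d k]
      exact S.mul_mem (hDS hd) (hOS (QuotientGroup.eq.mp hdk))
    · rw [← Cfsg.Agent.Components.pPrimeGen_eq_self_of_perfect (p := p)
        (Cfsg.Agent.Components.IsPComponent.perfect hK), Cfsg.Agent.Components.pPrimeGen,
        Subgroup.closure_le]
      rintro k ⟨hk, ho⟩
      have h3 := Subgroup.commutator_eq_bot_iff_le_centralizer.mp h2
      refine hS k (hfix k (Cfsg.Agent.Components.IsComponent.le_layer hK.2.1 ⟨k, hk, rfl⟩) ho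
        fun d hd => ?_)
      exact (h3 ⟨k, hk, rfl⟩ (π d) ⟨d, hd, rfl⟩).symm
  obtain ⟨k, hk, rfl⟩ := hx
  have hkS := hMS hk
  ext g
  rw [Subgroup.mem_map]
  constructor
  · rintro ⟨g', hg', rfl⟩
    exact (Subgroup.mem_normalizer_iff.mp hkS g').mp hg'
  · intro hg
    refine ⟨(k : G)⁻¹ * g * k, (Subgroup.mem_normalizer_iff.mp hkS _).mpr ?_, ?_⟩
    · simpa [mul_assoc] using hg
    · simp [mul_assoc]

end Cfsg.Agent.S1269
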