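import Cfsg.Statements.S1271
import Cfsg.Agent.Lib.Components.LocalLayer
import Cfsg.Agent.S1270

set_option autoImplicit false
open Cfsg

namespace Cfsg.Agent.S1271

open scoped Pointwise

/-- Let G be finite with O_{p'}(G) = 1. Suppose that for every component L of G and every subgroup H ≥ L in which L is normal, the quotient H / C_H(L) is balanced for the prime p. Then G is balanced for p. -/
theorem result {G : Type*} [Group G] [Finite G] (p : ℕ) [Fact p.Prime] (hO : Cfsg.pPrimeCore p G = ⊥) (h : ∀ L : Subgroup G, Cfsg.IsComponent L → ∀ H : Subgroup G, L ≤ H → (L.subgroupOf H).Normal → ∀ [((Subgroup.centralizer (L : Set G)).subgroupOf H).Normal], Cfsg.IsBalancedFor p (↥H ⧸ (Subgroup.centralizer (L : Set G)).subgroupOf H)) : Cfsg.IsBalancedFor p G := by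
  intro x hx
  rw [hO, le_bot_iff]
  set O := Cfsg.centralizerPPrimeCore p x with hOdef
  set Q := Cfsg.pCore p G with hQ
  set C := Subgroup.centralizer ({x} : Set G) with hC
  have hxp : IsPGroup p ↥(Subgroup.zpowers x) :=
    IsPGroup.of_card (n := 1) (by rw [Nat.card_zpowers, hx, pow_one])
  have hOcard : (Nat.card O).Coprime p := by
    rw [hOdef, Cfsg.centralizerPPrimeCore, Cfsg.Agent.Cores.card_map_subtype]
    exact Cfsg.Agent.Cores.coprime_card_pPrimeCore p
  have hOC : O ≤ C := Subgroup.map_subtype_le _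
  have hxC : Subgroup.zpowers x ≤ C := Subgroup.zpowers_le.mpr fun y hy => by
    rw [Set.mem_singleton_iff] at hy
    rw [hy]
  have hOQ : O ≤ Subgroup.centralizer (Q : Set G) :=
    Cfsg.Agent.Components.centralizerPPrimeCore_le_centralizer_pCore hxp
  have hCO : C ≤ Subgroup.normalizer (O : Set G) := by
    rw [Subgroup.le_normalizer_iff]
    rintro c hc _ ⟨y, hy, rfl⟩
    exact ⟨⟨c, hc⟩ * y * ⟨c, hc⟩⁻¹,
      (Cfsg.Agent.Cores.pPrimeCore_normal p ↥C).conj_mem y hy _, rfl⟩
  have hOL : ∀ L : Subgroup G, Cfsg.IsComponent L → ⁅L, O⁆ = ⊥ := by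
    intro L hL
    by_cases hne : ⁅L, Subgroup.zpowers x⁆ = L
    swap
    · exact Cfsg.Agent.S1270.result p hO x hx L hL hne
    have hperf := Cfsg.Agent.Components.IsComponent.perfect hL
    have hxN : Subgroup.zpowers x ≤ Subgroup.normalizer (L : Set G) :=
      Subgroup.le_normalizer_iff_commutator_le_left.mpr hne.le
    have hON : O ≤ Subgroup.normalizer (L : Set G) := by
      have key : ∀ y ∈ O, ∀ g ∈ L, y * g * y⁻¹ ∈ L := fun y hy g hg =>
        (Cfsg.Agent.Components.centralizerPPrimeCore_conj_component hO hxp hy hL).le ⟨g, hg, rfl⟩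
      exact Subgroup.le_normalizer_iff.mpr key
    set W := Subgroup.zpowers x ⊔ O with hW
    have hWN : W ≤ Subgroup.normalizer (L : Set G) := sup_le hxN hON
    have hWC : W ≤ C := sup_le hxC hOC
    set H := L ⊔ W with hH
    have hLH : L ≤ H := le_sup_left
    have hHN : H ≤ Subgroup.normalizer (L : Set G) := sup_le Subgroup.le_normalizer hWN
    have hLn : (L.subgroupOf H).Normal := Subgroup.normal_subgroupOf_of_le_normalizer hHN
    set CL := (Subgroup.centralizer (L : Set G)).subgroupOf H with hCL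
    haveI hCLn : CL.Normal := by
      refine ⟨fun d hd g => Subgroup.mem_subgroupOf.mpr fun y hy => ?_⟩
      have h1 := (Subgroup.mem_subgroupOf.mp hd) _
        ((Subgroup.mem_normalizer_iff.mp (inv_mem (hHN g.2)) y).mp hy)
      simp only [Subgroup.coe_mul, Subgroup.coe_inv]
      calc y * ((g : G) * d * (g : G)⁻¹)
          = (g : G) * ((g : G)⁻¹ * y * ((g : G)⁻¹)⁻¹ * d) * (g : G)⁻¹ := by group
        _ = (g : G) * (d * ((g : G)⁻¹ * y * ((g : G)⁻¹)⁻¹)) * (g : G)⁻¹ := by rw [h1]
        _ = (g : G) * d * (g : G)⁻¹ * y := by group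
    have hb := h L hL H hLH hLn
    set q := QuotientGroup.mk' CL with hq
    have hxH : x ∈ H := (le_sup_right : W ≤ H) ((le_sup_left : _ ≤ W) (Subgroup.mem_zpowers x))
    have hOH : O ≤ H := le_trans (le_sup_right : O ≤ W) le_sup_right
    set xb := q ⟨x, hxH⟩ with hxb
    have hxo : orderOf xb = p := by
      refine orderOf_eq_prime ?_ ?_
      · rw [hxb, ← map_pow, ← map_one q]
        exact congrArg q (Subtype.ext (by rw [← hx]; exact pow_orderOf_eq_one x))
      · intro h1
        apply Cfsg.Agent.Components.IsComponent.ne_bot hL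
        rw [← hne, Subgroup.commutator_eq_bot_iff_le_centralizer, Subgroup.le_centralizer_iff,
          Subgroup.zpowers_le]
        exact Subgroup.mem_subgroupOf.mp ((QuotientGroup.eq_one_iff _).mp h1)
    have hbal := hb xb hxo
    set Cb := Subgroup.centralizer ({xb} : Set (↥H ⧸ CL)) with hCb
    set Ob := (O.subgroupOf H).map q with hOb
    have hObC : Ob ≤ Cb := by
      rintro _ ⟨y, hy, rfl⟩ z hz
      rw [Set.mem_singleton_iff] at hz
      rw [hz, hxb, ← map_mul, ← map_mul]
      exact congrArg q (Subtype.ext (hOC (Subgroup.mem_subgroupOf.mp hy) x rfl))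
    -- `O` is normalised by the preimage of `Cb`
    set K := C ⊓ Subgroup.centralizer (Q : Set G) with hK
    have hQn : Q.Normal := Cfsg.Agent.Cores.pCore_normal p G
    have hKC : K ≤ C := inf_le_left
    have hCK : C ≤ Subgroup.normalizer (K : Set G) := fun c hc =>
      Subgroup.inf_normalizer_le_normalizer_inf ⟨Subgroup.le_normalizer hc,
        Subgroup.normalizer_eq_top (H := Subgroup.centralizer (Q : Set G)) ▸ Subgroup.mem_top c⟩
    have hOK : (Cfsg.pPrimeCore p ↥K).map K.subtype = O := by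
      refine le_antisymm ?_ ?_
      · set OK := (Cfsg.pPrimeCore p ↥K).map K.subtype with hOKdef
        have hOKC : OK ≤ C := (Subgroup.map_subtype_le _).trans hKC
        have hn : (OK.subgroupOf C).Normal := Subgroup.normal_subgroupOf_of_le_normalizer
          (hCK.trans (Cfsg.Agent.Cores.normalizer_le_normalizer_map _))
        have h1 : OK.subgroupOf C ≤ Cfsg.pPrimeCore p ↥C := by
          refine Cfsg.Agent.Cores.le_pPrimeCore hn ?_
          rw [Cfsg.Agent.Cores.card_subgroupOf hOKC, hOKdef, Cfsg.Agent.Cores.card_map_subtype]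
          exact Cfsg.Agent.Cores.coprime_card_pPrimeCore p
        exact fun u hu => ⟨⟨u, hOKC hu⟩, h1 (Subgroup.mem_subgroupOf.mpr hu), rfl⟩
      · have hle : O ≤ K := le_inf hOC hOQ
        have hn : (O.subgroupOf K).Normal :=
          Subgroup.normal_subgroupOf_of_le_normalizer (hKC.trans hCO)
        have h1 : O.subgroupOf K ≤ Cfsg.pPrimeCore p ↥K :=
          Cfsg.Agent.Cores.le_pPrimeCore hn (by rwa [Cfsg.Agent.Cores.card_subgroupOf hle])
        exact fun u hu => ⟨⟨u, hle hu⟩, h1 (Subgroup.mem_subgroupOf.mpr hu), rfl⟩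
    have hZL : (Subgroup.center ↥L).map L.subtype ≤ Q := by
      rw [hQ, ← Cfsg.Agent.Components.fitting_eq_pCore_of hO]
      exact Cfsg.Agent.Cores.le_fittingSubgroup_of_isSubnormal
        ((Subgroup.Normal.isSubnormal inferInstance).trans' hL.1)
        (Cfsg.Agent.Cores.isNilpotent_map L.subtype (Cfsg.Agent.Cores.isNilpotent_of_isMulCommutative _))
    have hnorm : ∀ g : ↥H, q g * xb = xb * q g → (g : G) ∈ Subgroup.normalizer (O : Set G) := by
      intro g hg
      have hmem : (g : G) ∈ L ⊔ W := g.2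
      obtain ⟨l, hl, w, hw, hlw⟩ := Set.mem_mul.mp
        (by rwa [← Subgroup.coe_mul_of_right_le_normalizer_left L W hWN] :
          (g : G) ∈ (L : Set G) * (W : Set G))
      have hwx : x * w = w * x := hWC hw x rfl
      set z := l * x * l⁻¹ * x⁻¹ with hz
      have hzC : z ∈ Subgroup.centralizer (L : Set G) := by
        have h1 : g * ⟨x, hxH⟩ * g⁻¹ * (⟨x, hxH⟩ : ↥H)⁻¹ ∈ CL := by
          rw [← QuotientGroup.eq_one_iff]
          show q _ = 1
          rw [map_mul, map_mul, map_mul, map_inv, map_inv, ← hxb, hg]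
          group
        have h2 := Subgroup.mem_subgroupOf.mp h1
        simp only [Subgroup.coe_mul, Subgroup.coe_inv] at h2
        rw [← hlw] at h2
        convert h2 using 1
        calc z = l * x * (w * w⁻¹) * l⁻¹ * x⁻¹ := by rw [hz]; group
          _ = l * w * x * (l * w)⁻¹ * x⁻¹ := by rw [← mul_assoc, mul_assoc l x w, hwx]; group
      have hzL : z ∈ L := by
        rw [hz, mul_assoc, mul_assoc, ← mul_assoc x]
        exact L.mul_mem hl
          ((Subgroup.mem_normalizer_iff.mp (hxN (Subgroup.mem_zpowers x)) _).mp (L.inv_mem hl))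
      have hzQ : z ∈ Q := hZL (by
        rw [Cfsg.Agent.Components.center_map_subtype]
        exact ⟨hzL, hzC⟩)
      have hlK : l ∈ Subgroup.normalizer (K : Set G) := by
        rw [Subgroup.mem_normalizer_iff]
        have hcq : (Subgroup.centralizer (Q : Set G)).Normal := inferInstance
        have hlx : l * x * l⁻¹ = z * x := by rw [hz]; group
        intro u
        constructor
        · rintro ⟨hu, huQ⟩
          have h1 := hcq.conj_mem u huQ l
          refine ⟨fun y hy => ?_, h1⟩
          rw [Set.mem_singleton_iff] at hy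
          subst hy
          refine mul_left_cancel (a := z) ?_
          calc z * (y * (l * u * l⁻¹)) = (l * y * l⁻¹) * (l * u * l⁻¹) := by rw [hlx]; group
            _ = l * (y * u) * l⁻¹ := by group
            _ = l * (u * y) * l⁻¹ := by rw [hu y rfl]
            _ = (l * u * l⁻¹) * (l * y * l⁻¹) := by group
            _ = (l * u * l⁻¹) * z * y := by rw [hlx]; group
            _ = z * (l * u * l⁻¹) * y := by rw [h1 z hzQ]
            _ = z * ((l * u * l⁻¹) * y) := by group
        · rintro ⟨hu, huQ⟩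
          have huQ' : u ∈ Subgroup.centralizer (Q : Set G) := by
            simpa [mul_assoc] using hcq.conj_mem _ huQ l⁻¹
          refine ⟨fun y hy => ?_, huQ'⟩
          rw [Set.mem_singleton_iff] at hy
          subst hy
          calc y * u = l⁻¹ * ((l * y * l⁻¹) * (l * u * l⁻¹)) * l := by group
            _ = l⁻¹ * (z * (y * (l * u * l⁻¹))) * l := by rw [hlx]; group
            _ = l⁻¹ * ((z * (l * u * l⁻¹)) * y) * l := by rw [hu y rfl]; group
            _ = l⁻¹ * ((l * u * l⁻¹) * (z * y)) * l := by rw [huQ z hzQ]; group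
            _ = u * y := by rw [← hlx]; group
      rw [← hlw]
      exact Subgroup.mul_mem _ (hOK ▸ Cfsg.Agent.Cores.normalizer_le_normalizer_map _ hlK)
        (hCO (hWC hw))
    have hObn : (Ob.subgroupOf Cb).Normal := by
      refine ⟨fun a ha c => Subgroup.mem_subgroupOf.mpr ?_⟩
      obtain ⟨y, hy, hya⟩ := Subgroup.mem_subgroupOf.mp ha
      obtain ⟨g, hg⟩ := QuotientGroup.mk'_surjective CL (c : ↥H ⧸ CL)
      refine ⟨g * y * g⁻¹, Subgroup.mem_subgroupOf.mpr ?_, ?_⟩
      · exact (Subgroup.mem_normalizer_iff.mp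
          (hnorm g (by rw [← hq] at hg; rw [hg]; exact (c.2 xb rfl).symm)) _).mp
          (Subgroup.mem_subgroupOf.mp hy)
      · simp only [Subgroup.coe_mul, Subgroup.coe_inv]
        rw [map_mul, map_mul, map_inv, hya, hg]
    have hObR : Ob ≤ Cfsg.pPrimeCore p (↥H ⧸ CL) := by
      refine le_trans ?_ hbal
      have h1 : Ob.subgroupOf Cb ≤ Cfsg.pPrimeCore p ↥Cb := by
        refine Cfsg.Agent.Cores.le_pPrimeCore hObn ?_
        rw [Cfsg.Agent.Cores.card_subgroupOf hObC]
        refine hOcard.coprime_dvd_left ((Subgroup.card_map_dvd _ _).trans ?_)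
        rw [Cfsg.Agent.Cores.card_subgroupOf hOH]
      exact fun u hu => ⟨⟨u, hObC hu⟩, h1 (Subgroup.mem_subgroupOf.mpr hu), rfl⟩
    let B : Subgroup ↥L :=
      (Cfsg.pPrimeCore p (↥H ⧸ CL)).comap (q.comp (Subgroup.inclusion hLH))
    rcases Cfsg.Agent.Components.IsQuasisimple.normal_eq_top_or_le_center hL.2 B with hB | hB
    · exfalso
      obtain ⟨s, hs, ⟨j, hj⟩, hsc⟩ :=
        Cfsg.Agent.Components.IsComponent.exists_pElement_not_central hO hL
      refine hsc ?_
      have hmem : q ⟨s, hLH hs⟩ ∈ Cfsg.pPrimeCore p (↥H ⧸ CL) :=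
        (hB ▸ Subgroup.mem_top (⟨s, hs⟩ : ↥L) : (⟨s, hs⟩ : ↥L) ∈ B)
      have h2 : q ⟨s, hLH hs⟩ ^ p ^ j = 1 := by
        rw [← map_pow, show (⟨s, hLH hs⟩ : ↥H) ^ p ^ j = 1 from Subtype.ext hj, map_one]
      have h3 := pow_gcd_eq_one.mpr
        ⟨orderOf_dvd_iff_pow_eq_one.mp (Subgroup.orderOf_dvd_natCard _ hmem), h2⟩
      rw [((Cfsg.Agent.Cores.coprime_card_pPrimeCore p).pow_right j).gcd_eq_one, pow_one] at h3
      exact Subgroup.mem_subgroupOf.mp ((QuotientGroup.eq_one_iff _).mp h3)
    · refine Cfsg.Agent.Components.commutator_eq_bot_of_perfect_of_le hperf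
        (Z := (Subgroup.center ↥L).map L.subtype) ?_
        (Cfsg.Agent.Components.le_center_iff_commutator_eq_bot.mp le_rfl)
      rw [Subgroup.commutator_le]
      intro l hl y hy
      have hmemL : l * y * l⁻¹ * y⁻¹ ∈ L := by
        rw [mul_assoc, mul_assoc, ← mul_assoc y]
        exact L.mul_mem hl ((Subgroup.mem_normalizer_iff.mp (hON hy) _).mp (L.inv_mem hl))
      refine ⟨⟨_, hmemL⟩, hB ?_, rfl⟩
      show q ⟨l * y * l⁻¹ * y⁻¹, _⟩ ∈ Cfsg.pPrimeCore p (↥H ⧸ CL)
      have h5 : q ⟨y, hOH hy⟩ ∈ Cfsg.pPrimeCore p (↥H ⧸ CL) :=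
        hObR ⟨⟨y, hOH hy⟩, Subgroup.mem_subgroupOf.mpr hy, rfl⟩
      exact mul_mem ((Cfsg.Agent.Cores.pPrimeCore_normal p _).conj_mem _ h5 (q ⟨l, hLH hl⟩))
        (inv_mem h5)
  have hOF : O ≤ Q := by
    rw [hQ, ← Cfsg.Agent.Components.fitting_eq_pCore_of hO]
    refine le_trans (Subgroup.le_centralizer_iff.mp (sup_le ?_ ?_))
      Cfsg.Agent.Components.centralizer_genFitting_le_fitting
    · exact Cfsg.Agent.Components.layer_le fun L hL =>
        Subgroup.commutator_eq_bot_iff_le_centralizer.mp (hOL L hL)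
    · rw [Cfsg.Agent.Components.fitting_eq_pCore_of hO]
      exact Subgroup.le_centralizer_iff.mp hOQ
  obtain ⟨n, hn⟩ := IsPGroup.iff_card.mp ((Cfsg.Agent.Cores.isPGroup_pCore p G).to_le hOF)
  refine Subgroup.card_eq_one.mp ?_
  exact Nat.dvd_one.mp ((hOcard.pow_right n).gcd_eq_one ▸ Nat.dvd_gcd dvd_rfl hn.dvd)

end Cfsg.Agent.S1271
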