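import Cfsg.Statements.S1273
import Cfsg.Agent.Lib.Components.PComponent

set_option autoImplicit false
open Cfsg

namespace Cfsg.Agent.S1273

/-- Let K be a p-component of the finite group X and N a normal subgroup of K whose index in K is prime to p. Then N = K. -/
theorem result {X : Type*} [Group X] [Finite X] (p : ℕ) [Fact p.Prime] (K : Subgroup X) (hK : Cfsg.IsPComponent p K) (N : Subgroup ↥K) [N.Normal] (hidx : (N.index).Coprime p) : N = ⊤ := by
  rw [eq_top_iff]
  intro x _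
  suffices h : K ≤ N.map K.subtype by
    obtain ⟨y, hy, hyx⟩ := h x.2
    rwa [Subtype.ext hyx] at hy
  refine (Cfsg.Agent.Components.IsPComponent.pGen_eq hK).ge.trans ((Subgroup.closure_le _).mpr ?_)
  rintro g ⟨hg, k, hk⟩
  refine ⟨⟨g, hg⟩, ?_, rfl⟩
  have h1 : (QuotientGroup.mk' N ⟨g, hg⟩) ^ p ^ k = 1 := by
    rw [← map_pow, ← map_one (QuotientGroup.mk' N)]
    exact congrArg _ (Subtype.ext hk)
  have h2 : (QuotientGroup.mk' N ⟨g, hg⟩) ^ Nat.card (↥K ⧸ N) = 1 := pow_card_eq_one'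
  have h3 := pow_gcd_eq_one.mpr ⟨h2, h1⟩
  rw [(Nat.Coprime.pow_right k (show (Nat.card (↥K ⧸ N)).Coprime p from hidx)).gcd_eq_one,
    pow_one] at h3
  exact (QuotientGroup.eq_one_iff _).mp h3

end Cfsg.Agent.S1273
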