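import Cfsg.Statements.S1276
import Cfsg.Agent.Lib.Components.PComponent

set_option autoImplicit false
open Cfsg

namespace Cfsg.Agent.S1276

/-- Let K be a 2-component of the finite group X. Then K is quasisimple if and only if ⁅K, O(K)⁆ = 1. -/
theorem result {X : Type*} [Group X] [Finite X] (K : Subgroup X) (hK : Cfsg.IsPComponent 2 K) : Cfsg.IsQuasisimple ↥K ↔ ⁅K, ((Cfsg.oddCore ↥K).map K.subtype)⁆ = ⊥ := by
  have hperf := Cfsg.Agent.Components.IsPComponent.perfect hK
  have : Group.IsPerfect ↥K := Subgroup.isPerfect_iff.mpr hperf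
  rw [Subgroup.commutator_comm, ← Cfsg.Agent.Components.le_center_iff_commutator_eq_bot]
  constructor
  · intro hq
    refine (Cfsg.Agent.Components.IsQuasisimple.normal_eq_top_or_le_center hq
      (Cfsg.oddCore ↥K)).resolve_left fun h => ?_
    refine Cfsg.Agent.Components.IsPComponent.not_le_pPrimeCore hK ?_
    have h1 := Cfsg.Agent.Components.IsPComponent.inf_pPrimeCore_eq hK
    rw [show Cfsg.pPrimeCore 2 ↥K = ⊤ from h, ← MonoidHom.range_eq_map, Subgroup.range_subtype] at h1
    exact h1.le.trans inf_le_right
  · intro hO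
    have hQ := Cfsg.Agent.Components.IsPComponent.isQuasisimple_quotient hK
    have := Cfsg.Agent.Components.IsQuasisimple.nontrivial hQ
    have : Nontrivial ↥K :=
      (QuotientGroup.mk_surjective (s := Cfsg.pPrimeCore 2 ↥K)).nontrivial
    refine Cfsg.Agent.Components.isQuasisimple_of_normal_le_center fun N hN => ?_
    set π := QuotientGroup.mk' (Cfsg.oddCore ↥K)
    have hNm : (N.map π).Normal := hN.map π (QuotientGroup.mk'_surjective _)
    rcases Cfsg.Agent.Components.IsQuasisimple.normal_eq_top_or_le_center hQ (N.map π) with h | h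
    · left
      apply Cfsg.Agent.Components.eq_top_of_sup_center_eq_top
      have h1 := congrArg (Subgroup.comap π) h
      rw [Subgroup.comap_map_eq, Subgroup.comap_top, QuotientGroup.ker_mk'] at h1
      exact eq_top_iff.mpr (h1.ge.trans (sup_le_sup_left hO N))
    · right
      rw [← Subgroup.commutator_top_left_eq_bot_iff_le_center]
      refine Cfsg.Agent.Components.commutator_eq_bot_of_perfect_of_le
        (Z := Cfsg.oddCore ↥K) ?_ ?_ ?_
      · exact Group.IsPerfect.commutator_eq_top (G := ↥K)
      · rw [Subgroup.commutator_le]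
        intro a _ b hb
        rw [← QuotientGroup.eq_one_iff]
        show π (a * b * a⁻¹ * b⁻¹) = 1
        rw [map_mul, map_mul, map_mul, map_inv, map_inv,
          Subgroup.mem_center_iff.mp (h ⟨b, hb, rfl⟩) (π a)]
        group
      · rw [Subgroup.commutator_top_right_eq_bot_iff_le_center]
        exact hO

end Cfsg.Agent.S1276
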