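import Cfsg.Statements.S1277
import Cfsg.Agent.Lib.Components.PComponent

set_option autoImplicit false
open Cfsg

namespace Cfsg.Agent.S1277

/-- For a finite group X with core O(X): the image of E(X) in X / O(X) is all of E(X / O(X)) if and only if every 2-component of X is a component, i.e. L_{2'}(X) ≤ E(X). -/
theorem result {X : Type*} [Group X] [Finite X] : (Cfsg.layer X).map (QuotientGroup.mk' (Cfsg.oddCore X)) = Cfsg.layer (X ⧸ Cfsg.oddCore X) ↔ Cfsg.pLayer 2 X ≤ Cfsg.layer X := by
  set π := QuotientGroup.mk' (Cfsg.oddCore X) with hπ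
  have himg : ∀ L : Subgroup X, Cfsg.IsComponent L → L.map π = ⊥ ∨ Cfsg.IsComponent (L.map π) := by
    intro L hL
    by_cases h : L.map π = ⊥
    · exact Or.inl h
    · refine Or.inr ⟨hL.1.quotient, ?_⟩
      have : Nontrivial ↥(L.map π) := (Subgroup.nontrivial_iff_ne_bot _).mpr h
      exact Cfsg.Agent.Components.IsQuasisimple.of_surjective hL.2 (π.subgroupMap L)
        (π.subgroupMap_surjective L)
  constructor
  · intro heq
    refine sSup_le fun K hK => ?_
    let S : Set (Subgroup (X ⧸ Cfsg.oddCore X)) :=
      {M | Cfsg.IsComponent M ∧ ∃ L : Subgroup X, Cfsg.IsComponent L ∧ L.map π = M}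
    have hle : K.map π ≤ sSup S := by
      refine (Cfsg.Agent.Components.IsComponent.le_layer hK.2.1).trans ?_
      rw [← heq, Subgroup.map_le_iff_le_comap]
      refine Cfsg.Agent.Components.layer_le fun L hL => Subgroup.map_le_iff_le_comap.mp ?_
      rcases himg L hL with h | h
      · exact h ▸ bot_le
      · exact le_sSup (show L.map π ∈ S from ⟨h, L, hL, rfl⟩)
    obtain ⟨_, L, hL, hLK⟩ :=
      Cfsg.Agent.Components.IsComponent.mem_of_le_sSup hK.2.1 (S := S) (fun M hM => hM.1) hle
    rw [Cfsg.Agent.Components.IsPComponent.eq_pComponentOf hK]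
    exact (Cfsg.Agent.Components.pComponentOf_le hL.1 hLK).trans
      (Cfsg.Agent.Components.IsComponent.le_layer hL)
  · intro h
    refine le_antisymm ?_ ?_
    · rw [Subgroup.map_le_iff_le_comap]
      refine Cfsg.Agent.Components.layer_le fun L hL => Subgroup.map_le_iff_le_comap.mp ?_
      rcases himg L hL with h' | h'
      · exact h' ▸ bot_le
      · exact Cfsg.Agent.Components.IsComponent.le_layer h'
    · rw [← Cfsg.Agent.Components.map_pLayer (p := 2)]
      exact Subgroup.map_mono h

end Cfsg.Agent.S1277
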