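import Cfsg.Statements.S1278
import Cfsg.Agent.Lib.Components.PComponent

set_option autoImplicit false
open Cfsg

namespace Cfsg.Agent.S1278

/-- Let K ≠ L be 2-components of the finite group X. Then ⁅K, L⁆ ≤ O(K) ⊓ O(L), and if K is quasisimple then ⁅K, L⁆ = 1. -/
theorem result {X : Type*} [Group X] [Finite X] (K L : Subgroup X) (hK : Cfsg.IsPComponent 2 K) (hL : Cfsg.IsPComponent 2 L) (hne : K ≠ L) : ⁅K, L⁆ ≤ ((Cfsg.oddCore ↥K).map K.subtype) ⊓ ((Cfsg.oddCore ↥L).map L.subtype) ∧ (Cfsg.IsQuasisimple ↥K → ⁅K, L⁆ = ⊥) := by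
  rw [Cfsg.Agent.Components.IsPComponent.inf_pPrimeCore_eq hK,
    Cfsg.Agent.Components.IsPComponent.inf_pPrimeCore_eq hL]
  set π := QuotientGroup.mk' (Cfsg.pPrimeCore 2 X) with hπ
  have hne' : K.map π ≠ L.map π := fun h => hne <| by
    rw [Cfsg.Agent.Components.IsPComponent.eq_pComponentOf hK,
      Cfsg.Agent.Components.IsPComponent.eq_pComponentOf hL, ← hπ, h]
  have h1 : ⁅K, L⁆ ≤ Cfsg.pPrimeCore 2 X := by
    have := Cfsg.Agent.Components.IsComponent.commutator_eq_bot hK.2.1 hL.2.1 hne'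
    rwa [← Subgroup.map_commutator, Subgroup.map_eq_bot_iff, QuotientGroup.ker_mk'] at this
  have h2 : ⁅K, L⁆ ≤ K := Subgroup.le_normalizer_iff_commutator_le_left.mp
    ((Cfsg.Agent.Components.IsPComponent.le_pLayer hL).trans
      (Cfsg.Agent.Components.IsPComponent.pLayer_le_normalizer hK))
  have h3 : ⁅K, L⁆ ≤ L := Subgroup.le_normalizer_iff_commutator_le_right.mp
    ((Cfsg.Agent.Components.IsPComponent.le_pLayer hK).trans
      (Cfsg.Agent.Components.IsPComponent.pLayer_le_normalizer hL))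
  refine ⟨le_inf (le_inf h2 h1) (le_inf h3 h1), fun hq => ?_⟩
  refine Cfsg.Agent.Components.commutator_eq_bot_of_perfect_of_le
    (Cfsg.Agent.Components.IsPComponent.perfect hK) (le_inf h2 h1) ?_
  rw [← Cfsg.Agent.Components.IsPComponent.inf_pPrimeCore_eq hK,
    ← Cfsg.Agent.Components.le_center_iff_commutator_eq_bot]
  refine (Cfsg.Agent.Components.IsQuasisimple.normal_eq_top_or_le_center hq _).resolve_left
    fun h => ?_
  refine Cfsg.Agent.Components.IsPComponent.not_le_pPrimeCore hK ?_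
  have h1 := Cfsg.Agent.Components.IsPComponent.inf_pPrimeCore_eq hK
  rw [h, ← MonoidHom.range_eq_map, Subgroup.range_subtype] at h1
  exact h1.le.trans inf_le_right

end Cfsg.Agent.S1278
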