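import Cfsg.Statements.S1286
import Cfsg.Agent.Lib.Signalizer.Basic

set_option autoImplicit false
open Cfsg

namespace Cfsg.Agent.S1286

/-- There exist a finite group X, an elementary abelian subgroup A of order 4 and a solvable A-signalizer functor θ on X for the prime 2 which is not complete. -/
theorem result : ∃ (X : Type) (_ : Group X) (_ : Finite X) (A : Subgroup X) (θ : X → Subgroup X), Cfsg.IsElementaryAbelian 2 A ∧ Nat.card ↥A = 4 ∧ Cfsg.IsSolvableSignalizerFunctor 2 A θ ∧ ¬ Cfsg.IsCompleteSignalizerFunctor 2 A θ := by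
  let x : Equiv.Perm (Fin 5) := Equiv.swap 0 1
  let y : Equiv.Perm (Fin 5) := Equiv.swap 2 3
  let r : Equiv.Perm (Fin 5) := Equiv.swap 2 3 * Equiv.swap 3 4
  let s : Equiv.Perm (Fin 5) := Equiv.swap 0 1 * Equiv.swap 1 4
  let A : Subgroup (Equiv.Perm (Fin 5)) :=
    { carrier := {g | g = 1 ∨ g = x ∨ g = y ∨ g = x * y}
      one_mem' := Or.inl rfl
      mul_mem' := by
        intro a b ha hb
        rcases ha with rfl | rfl | rfl | rfl <;> rcases hb with rfl | rfl | rfl | rfl <;> decide
      inv_mem' := by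
        intro a ha
        rcases ha with rfl | rfl | rfl | rfl <;> decide }
  let θ : Equiv.Perm (Fin 5) → Subgroup (Equiv.Perm (Fin 5)) := fun g =>
    if g = x then Subgroup.zpowers r else if g = y then Subgroup.zpowers s else ⊥
  have hmem : ∀ g ∈ A, g = 1 ∨ g = x ∨ g = y ∨ g = x * y := fun g hg => hg
  have hxy : y ≠ x := by decide
  have hxyx : x * y ≠ x := by decide
  have hxyy : x * y ≠ y := by decide
  have hθx : θ x = Subgroup.zpowers r := if_pos rfl
  have hθy : θ y = Subgroup.zpowers s := by simp [θ, hxy]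
  have hθxy : θ (x * y) = ⊥ := by simp [θ, hxyx, hxyy]
  have hr : orderOf r = 3 := by
    haveI := Fact.mk Nat.prime_three
    exact orderOf_eq_prime (by decide) (by decide)
  have hs : orderOf s = 3 := by
    haveI := Fact.mk Nat.prime_three
    exact orderOf_eq_prime (by decide) (by decide)
  have hpow : ∀ (u : Equiv.Perm (Fin 5)), orderOf u = 3 → ∀ g ∈ Subgroup.zpowers u,
      g = 1 ∨ g = u ∨ g = u * u := by
    intro u hu g hg
    obtain ⟨n, rfl⟩ := hg
    dsimp only
    rw [← zpow_mod_orderOf, hu]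
    have h1 := Int.emod_nonneg n (show ((3 : ℕ) : ℤ) ≠ 0 by norm_num)
    have h2 := Int.emod_lt_of_pos n (show (0 : ℤ) < ((3 : ℕ) : ℤ) by norm_num)
    rcases (by omega : n % ((3 : ℕ) : ℤ) = 0 ∨ n % ((3 : ℕ) : ℤ) = 1 ∨
      n % ((3 : ℕ) : ℤ) = 2) with h | h | h <;> rw [h] <;> simp [pow_two, zpow_two]
  have hcases : ∀ a ∈ A, a ≠ 1 → a = x ∨ a = y ∨ a = x * y :=
    fun a ha ha1 => (hmem a ha).resolve_left ha1
  refine ⟨Equiv.Perm (Fin 5), inferInstance, inferInstance, A, θ, ⟨⟨⟨?_⟩⟩, ?_⟩, ?_,
    ⟨⟨?_, ?_, ?_, ?_⟩, ?_⟩, ?_⟩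
  · rintro ⟨a, ha⟩ ⟨b, hb⟩
    apply Subtype.ext
    change a * b = b * a
    rcases hmem a ha with rfl | rfl | rfl | rfl <;> rcases hmem b hb with rfl | rfl | rfl | rfl <;>
      decide
  · intro a ha
    rcases hmem a ha with rfl | rfl | rfl | rfl <;> decide
  · have e : ({1, x, y, x * y} : Finset (Equiv.Perm (Fin 5))).card = 4 := by decide
    rw [← e, ← SetLike.coe_sort_coe, ← Nat.card_eq_finsetCard]
    exact Nat.card_congr (Equiv.setCongr (by ext g; simp [A]))
  · intro a ha ha1
    rcases hcases a ha ha1 with rfl | rfl | rfl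
    · rw [hθx, Subgroup.zpowers_le, Subgroup.mem_centralizer_singleton_iff]; decide
    · rw [hθy, Subgroup.zpowers_le, Subgroup.mem_centralizer_singleton_iff]; decide
    · rw [hθxy]; exact bot_le
  · intro a ha ha1
    rcases hcases a ha ha1 with rfl | rfl | rfl
    · rw [hθx, Nat.card_zpowers, hr]; norm_num
    · rw [hθy, Nat.card_zpowers, hs]; norm_num
    · rw [hθxy, Subgroup.card_bot]; norm_num
  · intro a ha ha1 b hb g hg
    have hbr : b * r * b⁻¹ = r ∨ b * r * b⁻¹ = r⁻¹ := by
      rcases hmem b hb with rfl | rfl | rfl | rfl <;> decide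
    have hbs : b * s * b⁻¹ = s ∨ b * s * b⁻¹ = s⁻¹ := by
      rcases hmem b hb with rfl | rfl | rfl | rfl <;> decide
    rcases hcases a ha ha1 with rfl | rfl | rfl
    · rw [hθx] at hg ⊢
      obtain ⟨n, rfl⟩ := hg
      dsimp only
      rw [← conj_zpow]
      rcases hbr with e | e <;> rw [e]
      · exact Subgroup.zpow_mem _ (Subgroup.mem_zpowers r) n
      · exact Subgroup.zpow_mem _ (inv_mem (Subgroup.mem_zpowers r)) n
    · rw [hθy] at hg ⊢
      obtain ⟨n, rfl⟩ := hg
      dsimp only
      rw [← conj_zpow]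
      rcases hbs with e | e <;> rw [e]
      · exact Subgroup.zpow_mem _ (Subgroup.mem_zpowers s) n
      · exact Subgroup.zpow_mem _ (inv_mem (Subgroup.mem_zpowers s)) n
    · rw [hθxy] at hg ⊢
      rw [Subgroup.mem_bot] at hg ⊢
      simp [hg]
  · intro a ha ha1 b hb hb1 g hg
    obtain ⟨hg, hgb⟩ := hg
    have hgb := Subgroup.mem_centralizer_singleton_iff.1 hgb
    rcases hcases a ha ha1 with rfl | rfl | rfl
    · rw [hθx] at hg
      rcases hcases b hb hb1 with rfl | rfl | rfl
      · rw [hθx]; exact hg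
      all_goals
        rcases hpow r hr g hg with rfl | rfl | rfl
        · exact one_mem _
        · exact absurd hgb (by decide)
        · exact absurd hgb (by decide)
    · rw [hθy] at hg
      rcases hcases b hb hb1 with rfl | rfl | rfl
      case inr.inl => rw [hθy]; exact hg
      all_goals
        rcases hpow s hs g hg with rfl | rfl | rfl
        · exact one_mem _
        · exact absurd hgb (by decide)
        · exact absurd hgb (by decide)
    · rw [hθxy] at hg
      rw [Subgroup.mem_bot.1 hg]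
      exact one_mem _
  · intro a ha ha1
    rcases hcases a ha ha1 with rfl | rfl | rfl
    · rw [hθx]; infer_instance
    · rw [hθy]; infer_instance
    · rw [hθxy]; infer_instance
  · rintro ⟨-, X, -, hX2, hX⟩
    have h1 : r ∈ X := by
      have := hX x (Or.inr (Or.inl rfl)) (by decide)
      rw [hθx] at this
      exact (this.ge (Subgroup.mem_zpowers r)).1
    have h2 : s ∈ X := by
      have := hX y (Or.inr (Or.inr (Or.inl rfl))) (by decide)
      rw [hθy] at this
      exact (this.ge (Subgroup.mem_zpowers s)).1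
    have h3 : r * s * r * s⁻¹ ∈ X := mul_mem (mul_mem (mul_mem h1 h2) h1) (inv_mem h2)
    apply hX2
    have h4 : orderOf (r * s * r * s⁻¹) = 2 := orderOf_eq_prime (by decide) (by decide)
    rw [← h4, ← Subgroup.orderOf_mk _ h3]
    exact orderOf_dvd_natCard _

end Cfsg.Agent.S1286
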