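import Cfsg.Statements.S1287
import Cfsg.Agent.Lib.Coprime.Factorization

set_option autoImplicit false
open scoped Pointwise
open Cfsg

namespace Cfsg.Agent.S1287

/-- Let A be a noncyclic elementary abelian p-subgroup of a finite group H normalizing a subgroup K of order prime to p, and X, Y ≤ K subgroups normalized by A with C_K(a) = C_X(a) C_Y(a) (as sets) for every non-identity a ∈ A, where X is also normalized by C_K(A). Then K = XY as sets. -/
theorem result {H : Type*} [Group H] [Finite H] (p : ℕ) [Fact p.Prime] (A K X Y : Subgroup H) (hA : Cfsg.IsElementaryAbelian p A) (hA2 : p ^ 2 ≤ Nat.card ↥A) (hK : ¬ p ∣ Nat.card ↥K) (hAK : A ≤ Subgroup.normalizer (K : Set H)) (hX : X ≤ K) (hY : Y ≤ K) (hAX : A ≤ Subgroup.normalizer (X : Set H)) (hAY : A ≤ Subgroup.normalizer (Y : Set H)) (hCX : K ⊓ Subgroup.centralizer (A : Set H) ≤ Subgroup.normalizer (X : Set H)) (hfac : ∀ a ∈ A, a ≠ 1 → ((K ⊓ Subgroup.centralizer {a} : Subgroup H) : Set H) = ((X ⊓ Subgroup.centralizer {a} :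 Subgroup H) : Set H) * ((Y ⊓ Subgroup.centralizer {a} : Subgroup H) : Set H)) : (K : Set H) = (X : Set H) * (Y : Set H) := by
  have hp := (Fact.out : p.Prime)
  have hA1 := hA.1
  have hcop : (Nat.card A).Coprime (Nat.card K) := by
    refine Nat.coprime_of_dvd fun q hq hqA hqK => hK ?_
    have := Fact.mk hq
    obtain ⟨⟨a, ha⟩, hao⟩ := exists_prime_orderOf_dvd_card' q hqA
    have h1 : q ∣ p := by
      rw [← hao]
      exact orderOf_dvd_of_pow_eq_one (Subtype.ext (hA.2 a ha))
    rwa [← (Nat.prime_dvd_prime_iff_eq hq hp).1 h1]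
  refine Coprime.le_mul_of_centralizers (fun hc => ?_) hAK hcop hX hY hAX hAY hCX hfac
  obtain ⟨g, hg⟩ := hc.exists_generator
  have h2 : Nat.card A ≤ p := by
    rw [← orderOf_eq_card_of_forall_mem_zpowers hg]
    exact Nat.le_of_dvd hp.pos (orderOf_dvd_of_pow_eq_one (Subtype.ext (hA.2 _ g.2)))
  nlinarith [hp.two_le]

end Cfsg.Agent.S1287
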