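import Cfsg.Statements.S1288
import Cfsg.Agent.Lib.Coprime.Generation
import Cfsg.Agent.Lib.Cores.Basic
import Cfsg.Agent.Lib.Solvable.Fitting

set_option autoImplicit false
open Cfsg
open scoped commutatorElement

namespace Cfsg.Agent.S1288

theorem comap_mk_characteristic {K : Type*} [Group K] [Finite K] (N : Subgroup K) [N.Normal]
    [hN : N.Characteristic] (q : ℕ) :
    ((Cfsg.pCore q (K ⧸ N)).comap (QuotientGroup.mk' N)).Characteristic := by
  refine Subgroup.characteristic_iff_le_comap.2 fun φ x hx => ?_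
  have hmap : N.map φ.toMonoidHom = N := Subgroup.characteristic_iff_map_eq.1 hN φ
  let e : K ⧸ N ≃* K ⧸ N := QuotientGroup.congr N N φ hmap
  show QuotientGroup.mk' N (φ x) ∈ Cfsg.pCore q (K ⧸ N)
  rw [← Cores.pCore_map_mulEquiv e q]
  exact ⟨_, hx, rfl⟩

/-- Let A be a noncyclic elementary abelian p-subgroup of a finite group H normalizing a solvable subgroup K of order prime to p, q a prime dividing |K|, and U ≤ K a subgroup of order prime to q such that ⁅U, C_K(B)⁆ has order prime to q for every subgroup B of index p in A. Then U ≤ O_{q'}(K). -/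
theorem result {H : Type*} [Group H] [Finite H] (p : ℕ) [Fact p.Prime] (A K : Subgroup H) (hA : Cfsg.IsElementaryAbelian p A) (hA2 : p ^ 2 ≤ Nat.card ↥A) (hK : ¬ p ∣ Nat.card ↥K) (hKs : Group.IsSolvable ↥K) (hAK : A ≤ Subgroup.normalizer (K : Set H)) (q : ℕ) [Fact q.Prime] (hqK : q ∣ Nat.card ↥K) (U : Subgroup H) (hU : U ≤ K) (hUq : ¬ q ∣ Nat.card ↥U) (hcomm : ∀ B : Subgroup H, B ≤ A → B.relIndex A = p → ¬ q ∣ Nat.card ↥⁅U, K ⊓ Subgroup.centralizer (B : Set H)⁆) : U ≤ (Cfsg.pPrimeCore q ↥K).map K.subtype := by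
  have hp := (Fact.out : p.Prime)
  have hA1 := hA.1
  have hcop : (Nat.card A).Coprime (Nat.card K) := by
    refine Nat.coprime_of_dvd fun r hr hrA hrK => hK ?_
    have := Fact.mk hr
    obtain ⟨⟨a, ha⟩, hao⟩ := exists_prime_orderOf_dvd_card' r hrA
    have h1 : r ∣ p := by
      rw [← hao]
      exact orderOf_dvd_of_pow_eq_one (Subtype.ext (hA.2 a ha))
    rwa [← (Nat.prime_dvd_prime_iff_eq hr hp).1 h1]
  set N' := Cfsg.pPrimeCore q ↥K
  set N : Subgroup H := N'.map K.subtype with hNdef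
  set π := QuotientGroup.mk' N'
  set V' : Subgroup K := (Cfsg.pCore q (↥K ⧸ N')).comap π with hV'
  set V : Subgroup H := V'.map K.subtype with hVdef
  have hV'c : V'.Characteristic := comap_mk_characteristic N' q
  have hV'n : V'.Normal := Subgroup.normal_of_characteristic V'
  have hAV : A ≤ Subgroup.normalizer (V : Set H) := hAK.trans (Cores.normalizer_le_normalizer_map V')
  have hVK : V ≤ K := Subgroup.map_subtype_le _
  set W : Subgroup H := ((Subgroup.centralizer ((U.subgroupOf K).map π : Set (↥K ⧸ N'))).comap π).map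
    K.subtype with hWdef
  have hVW : V ≤ W := by
    refine Coprime.le_of_cyclic_quotient hAV
      (hcop.coprime_dvd_right (Subgroup.card_dvd_of_le hVK)) fun B hBA hcyc => ?_
    have hB : ¬ q ∣ Nat.card ↥⁅U, K ⊓ Subgroup.centralizer (B : Set H)⁆ ∧ True := by
      refine ⟨?_, trivial⟩
      obtain ⟨g, hg, hle⟩ := hcyc
      by_cases hBe : B = A
      · obtain ⟨B₀, hB₀A, hB₀⟩ : ∃ B₀ : Subgroup H, B₀ ≤ A ∧ B₀.relIndex A = p := by
          obtain ⟨n, hn⟩ := IsPGroup.iff_card.1
            (show IsPGroup p A from fun a => ⟨1, by simpa using Subtype.ext (hA.2 a a.2)⟩)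
          rcases n with _ | n
          · rw [hn] at hA2; nlinarith [hp.two_le]
          obtain ⟨L, hL⟩ := Sylow.exists_subgroup_card_pow_prime (G := A) p (n := n)
            (hn ▸ pow_dvd_pow p (Nat.le_succ n))
          refine ⟨L.map A.subtype, Subgroup.map_subtype_le _, ?_⟩
          have h1 : L.index * p ^ n = p ^ (n + 1) := by rw [← hL, Subgroup.index_mul_card, hn]
          rw [pow_succ', Nat.mul_left_inj (pow_ne_zero n hp.ne_zero)] at h1
          rw [Subgroup.relIndex, ← h1]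
          congr 1
          exact Subgroup.comap_map_eq_self_of_injective A.subtype_injective L
        intro hd
        refine hcomm B₀ hB₀A hB₀ (hd.trans (Subgroup.card_dvd_of_le
          (Subgroup.commutator_mono le_rfl (inf_le_inf_left _
            (Subgroup.centralizer_le (hBe ▸ hB₀A : B₀ ≤ B))))))
      · refine hcomm B hBA (le_antisymm
          (Coprime.relIndex_le_of_cyclic_quotient hp hA.2 hBA hg hle) ?_)
        obtain ⟨n, hn⟩ := IsPGroup.iff_card.1
          (show IsPGroup p A from fun a => ⟨1, by simpa using Subtype.ext (hA.2 a a.2)⟩)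
        obtain ⟨i, -, hi⟩ := (Nat.dvd_prime_pow hp).1
          (hn ▸ Subgroup.relIndex_dvd_card (H := B) (K := A))
        rcases i with _ | i
        · exact absurd (le_antisymm hBA (Subgroup.relIndex_eq_one.1 (by simpa using hi))) hBe
        · exact hi ▸ Nat.le_self_pow (Nat.succ_ne_zero i) p
    rintro _ ⟨⟨v, hv, rfl⟩, hvB⟩
    refine ⟨v, ?_, rfl⟩
    rw [SetLike.mem_coe, Subgroup.mem_comap, Subgroup.mem_centralizer_iff]
    rintro _ ⟨u, hu, rfl⟩
    rw [← commutatorElement_eq_one_iff_mul_comm, ← map_commutatorElement]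
    -- the commutator is a `q`-element and a `q'`-element modulo `N`
    have hc1 : π ⁅u, v⁆ ∈ Cfsg.pCore q (↥K ⧸ N') := by
      have : ⁅u, v⁆ ∈ V' := by
        rw [commutatorElement_def]
        exact V'.mul_mem (hV'n.conj_mem v hv u) (V'.inv_mem hv)
      exact this
    have hc2 : orderOf ⁅u, v⁆ ∣ Nat.card ↥⁅U, K ⊓ Subgroup.centralizer (B : Set H)⁆ := by
      rw [← Subgroup.orderOf_coe]
      exact (Subgroup.orderOf_mk _ (Subgroup.commutator_mem_commutator (g₁ := (u : H)) (g₂ := (v : H))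
        hu (show (v : H) ∈ K ⊓ Subgroup.centralizer (B : Set H) from ⟨v.2, hvB⟩)) ▸
        orderOf_dvd_natCard _)
    obtain ⟨n, hn⟩ := IsPGroup.iff_orderOf.1 (Cores.isPGroup_pCore q _) ⟨_, hc1⟩
    rw [← orderOf_eq_one_iff]
    rw [Subgroup.orderOf_mk] at hn
    rcases n with _ | n
    · simpa using hn
    · refine absurd ?_ hB.1
      exact (dvd_pow_self q (Nat.succ_ne_zero n)).trans
        (hn ▸ (orderOf_map_dvd π _).trans hc2)
  intro u hu
  refine ⟨⟨u, hU hu⟩, ?_, rfl⟩
  show (⟨u, hU hu⟩ : K) ∈ N'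
  rw [← QuotientGroup.eq_one_iff]
  have hsolv : Group.IsSolvable (↥K ⧸ N') :=
    Group.isSolvable_of_surjective (QuotientGroup.mk'_surjective N')
  have h1 : π ⟨u, hU hu⟩ ∈ Subgroup.centralizer (Cfsg.pCore q (↥K ⧸ N') : Set (↥K ⧸ N')) := by
    intro z hz
    obtain ⟨v, rfl⟩ := QuotientGroup.mk'_surjective N' z
    obtain ⟨w, hw, hwv⟩ := hVW ⟨v, hz, rfl⟩
    have : w = v := Subtype.ext hwv
    subst this
    exact (hw _ ⟨_, hu, rfl⟩).symm
  have h2 := Solvable.centralizer_pCore_le_of_isSolvable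
    (Cores.pPrimeCore_quotient_self (G := ↥K) q) h1
  obtain ⟨n, hn⟩ := IsPGroup.iff_orderOf.1 (Cores.isPGroup_pCore q _) ⟨_, h2⟩
  rw [Subgroup.orderOf_mk] at hn
  show π ⟨u, hU hu⟩ = 1
  rw [← orderOf_eq_one_iff, hn]
  rcases n with _ | n
  · rw [pow_zero]
  · refine absurd ?_ hUq
    refine (dvd_pow_self q (Nat.succ_ne_zero n)).trans (hn ▸ (orderOf_map_dvd π _).trans ?_)
    rw [← Subgroup.orderOf_coe]
    exact Subgroup.orderOf_mk u hu ▸ orderOf_dvd_natCard _

end Cfsg.Agent.S1288
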