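import Cfsg.Statements.S1289
import Cfsg.Agent.Lib.Components.PComponent

set_option autoImplicit false
open Cfsg

namespace Cfsg.Agent.S1289

/-- A p-component K of the finite group X is subnormal, perfect, of order divisible by p, and minimal among the subnormal perfect subgroups of X of order divisible by p. -/
theorem result {X : Type*} [Group X] [Finite X] (p : ℕ) [Fact p.Prime] (K : Subgroup X) (hK : Cfsg.IsPComponent p K) : K.IsSubnormal ∧ ⁅K, K⁆ = K ∧ p ∣ Nat.card ↥K ∧ ∀ H : Subgroup X, H ≤ K → H.IsSubnormal → ⁅H, H⁆ = H → p ∣ Nat.card ↥H → H = K := by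
  have hO := Cfsg.Agent.Cores.pPrimeCore_quotient_self (G := X) p
  refine ⟨hK.1, Cfsg.Agent.Components.IsPComponent.perfect hK,
    (Cfsg.Agent.Components.IsComponent.dvd_card hO hK.2.1).trans (Subgroup.card_map_dvd _ _), ?_⟩
  intro H hle hH hperf hp
  set π := QuotientGroup.mk' (Cfsg.pPrimeCore p X) with hπ
  have hKc := hK.2.1
  have hsub : H.map π ≤ K.map π := Subgroup.map_mono hle
  rcases Cfsg.Agent.Components.IsQuasisimple.eq_top_or_le_center hKc.2
    (hH.quotient.subgroupOf (K := K.map π)) with h | h
  · exact hK.2.2 H hH hle (le_antisymm hsub (Subgroup.subgroupOf_eq_top.mp h))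
  · exfalso
    have h' := Subgroup.map_mono (f := (K.map π).subtype) h
    rw [Subgroup.map_subgroupOf_eq_of_le hsub] at h'
    have h3 : H.map π ≤ Subgroup.centralizer (H.map π : Set (X ⧸ Cfsg.pPrimeCore p X)) :=
      (h'.trans (Cfsg.Agent.Components.center_map_subtype_le_centralizer _)).trans
        (Subgroup.centralizer_le (SetLike.coe_subset_coe.mpr hsub))
    have h4 : H ≤ Cfsg.pPrimeCore p X := by
      rw [← Subgroup.commutator_eq_bot_iff_le_centralizer, ← Subgroup.map_commutator, hperf,
        Subgroup.map_eq_bot_iff, QuotientGroup.ker_mk'] at h3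
      exact h3
    exact Cfsg.Agent.Cores.not_dvd_card_pPrimeCore (hp.trans (Subgroup.card_dvd_of_le h4))

end Cfsg.Agent.S1289
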