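import Cfsg.Statements.S1293
import Cfsg.Agent.Lib.Signalizer.LocalChar
import Cfsg.Agent.Lib.Components.PComponent
import Cfsg.Agent.EqLemmas

set_option autoImplicit false
open Cfsg

namespace Cfsg.Agent.S1293

/-- Let G be finite with L_{p'}(G) = 1, and H = N_G(P) for a nontrivial p-subgroup P. Then L_{p'}(H) = 1 and O_{p'}(H) ≤ O_{p'}(G). -/
theorem result {G : Type*} [Group G] [Finite G] (p : ℕ) [Fact p.Prime] (hL : Cfsg.pLayer p G = ⊥) (P : Subgroup G) (hP : IsPGroup p ↥P) (hP1 : P ≠ ⊥) : Cfsg.pLayer p ↥(Subgroup.normalizer (P : Set G)) = ⊥ ∧ (Cfsg.pPrimeCore p ↥(Subgroup.normalizer (P : Set G))).map (Subgroup.normalizer (P : Set G)).subtype ≤ Cfsg.pPrimeCore p G := by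
  have hc : Cfsg.IsPConstrained p G := by
    refine Constrained.isPConstrained_iff.2 (Signalizer.isCharP_of_genFitting_eq ?_)
    refine Components.genFitting_eq_pCore_of ?_ (Cores.pPrimeCore_quotient_self p)
    rw [← Components.map_pLayer, hL, Subgroup.map_bot]
  obtain ⟨hN, hO⟩ := Constrained.isPConstrained_inherit hc hP le_rfl (Or.inl Subgroup.le_normalizer)
    (Subgroup.centralizer_le_normalizer _)
  refine ⟨eq_bot_iff.2 (sSup_le fun K hK => ?_), hO.le.trans inf_le_left⟩
  have h := LocalCharP.layer_eq_bot (p := p) (Constrained.isPConstrained_iff.1 hN)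
  exact absurd (le_bot_iff.1 ((Components.IsComponent.le_layer hK.2.1).trans h.le))
    (Components.IsComponent.ne_bot hK.2.1)

end Cfsg.Agent.S1293
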