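import Cfsg.Statements.S1327
import Cfsg.Agent.Lib.Components.GenFitting
import Cfsg.Agent.Lib.Components.PComponent

set_option autoImplicit false
open Cfsg

namespace Cfsg.Agent.S1327

/-- A finite group X is p-constrained if and only if its p-layer L_{p'}(X) is trivial (equivalently X / O_{p'}(X) has trivial layer). -/
theorem result {X : Type*} [Group X] [Finite X] (p : ℕ) [Fact p.Prime] : Cfsg.IsPConstrained p X ↔ Cfsg.pLayer p X = ⊥ := by
  set O := Cfsg.pPrimeCore p X with hO
  set π := QuotientGroup.mk' O with hπ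
  set M := Cfsg.pPrimePCore p X with hM
  have hMmap : M.map π = Cfsg.pCore p (X ⧸ O) :=
    Subgroup.map_comap_eq_self_of_surjective (QuotientGroup.mk'_surjective O) _
  have hMn : M.Normal := (Cfsg.pCore_normal p (X ⧸ O)).comap π
  have key : ∀ P : Sylow p ↥M,
      (((P : Subgroup ↥M).map M.subtype).map π = Cfsg.pCore p (X ⧸ O)) ∧
      (Subgroup.centralizer (((P : Subgroup ↥M).map M.subtype : Subgroup X) : Set X)).map π =
        Subgroup.centralizer (Cfsg.pCore p (X ⧸ O) : Set (X ⧸ O)) := by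
    intro P
    set P0 := (P : Subgroup ↥M).map M.subtype with hP0
    let f : ↥M →* ↥(M.map π) := π.subgroupMap M
    have hfs : Function.Surjective f := π.subgroupMap_surjective M
    have htop : ((P.mapSurjective hfs : Sylow p ↥(M.map π)) : Subgroup ↥(M.map π)) = ⊤ := by
      have hp : IsPGroup p ↥(M.map π) := hMmap ▸ Cfsg.Agent.Cores.isPGroup_pCore p (X ⧸ O)
      exact ((P.mapSurjective hfs).3 (hp.to_subgroup ⊤) le_top).symm
    have h1 : P0.map π = Cfsg.pCore p (X ⧸ O) := by
      rw [← hMmap]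
      refine le_antisymm (Subgroup.map_mono (Subgroup.map_subtype_le _)) ?_
      intro y hy
      have h2 : (⟨y, hy⟩ : ↥(M.map π)) ∈ (P : Subgroup ↥M).map f := by
        rw [← Sylow.coe_mapSurjective hfs, htop]
        exact Subgroup.mem_top _
      obtain ⟨x, hx, hxy⟩ := h2
      exact ⟨x, ⟨x, hx, rfl⟩, congrArg Subtype.val hxy⟩
    refine ⟨h1, le_antisymm ?_ ?_⟩
    · rw [← h1]
      rintro _ ⟨g, hg, rfl⟩ _ ⟨a, ha, rfl⟩
      rw [← map_mul, hg a ha, map_mul]
    · intro q hq
      obtain ⟨g, rfl⟩ := QuotientGroup.mk'_surjective O q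
      have hMle : M ≤ P0 ⊔ O := by
        intro m hm
        obtain ⟨a, ha, ham⟩ : π m ∈ P0.map π := h1 ▸ hMmap ▸ ⟨m, hm, rfl⟩
        refine Subgroup.mem_sup_of_normal_right.mpr ⟨a, ha, a⁻¹ * m, ?_, mul_inv_cancel_left a m⟩
        rw [← QuotientGroup.eq]
        exact ham
      have hg : g ∈ Subgroup.normalizer (P0 : Set X) ⊔ O := by
        have h2 := Sylow.normalizer_sup_eq_top P
        have h3 : Subgroup.normalizer (P0 : Set X) ⊔ M ≤ Subgroup.normalizer (P0 : Set X) ⊔ O :=
          sup_le le_sup_left (hMle.trans (sup_le_sup_right Subgroup.le_normalizer O))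
        exact h3 (h2 ▸ Subgroup.mem_top g)
      obtain ⟨h, hh, x, hx, rfl⟩ := Subgroup.mem_sup_of_normal_right.mp hg
      have hx1 : π x = 1 := (QuotientGroup.eq_one_iff x).mpr hx
      rw [map_mul, hx1, mul_one] at hq ⊢
      refine ⟨h, fun a ha => ?_, rfl⟩
      have h4 : π a * π h = π h * π a := hq (π a) (h1 ▸ ⟨a, ha, rfl⟩)
      have h5 : h * a * h⁻¹ * a⁻¹ ∈ P0 ⊓ O :=
        ⟨P0.mul_mem ((Subgroup.mem_normalizer_iff.mp hh a).mp ha) (P0.inv_mem ha), by
          show h * a * h⁻¹ * a⁻¹ ∈ O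
          rw [← QuotientGroup.eq_one_iff]
          show π (h * a * h⁻¹ * a⁻¹) = 1
          rw [map_mul, map_mul, map_mul, map_inv, map_inv, ← h4]
          group⟩
      have hd : P0 ⊓ O = ⊥ := by
        apply Subgroup.inf_eq_bot_of_coprime
        obtain ⟨n, hn⟩ := IsPGroup.iff_card.mp (P.isPGroup'.map M.subtype)
        rw [hn]
        exact ((Cfsg.Agent.Cores.coprime_card_pPrimeCore p).symm).pow_left n
      rw [hd, Subgroup.mem_bot] at h5
      calc a * h = (h * a * h⁻¹ * a⁻¹)⁻¹ * (h * a) := by group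
        _ = h * a := by rw [h5, inv_one, one_mul]
  have hiff : Cfsg.IsPConstrained p X ↔
      Subgroup.centralizer (Cfsg.pCore p (X ⧸ O) : Set (X ⧸ O)) ≤ Cfsg.pCore p (X ⧸ O) := by
    constructor
    · intro h
      obtain ⟨P⟩ := (Sylow.nonempty (p := p) (G := ↥M))
      rw [← (key P).2, ← hMmap]
      exact Subgroup.map_mono (h P)
    · intro h P
      show _ ≤ (Cfsg.pCore p (X ⧸ O)).comap π
      rw [← Subgroup.map_le_iff_le_comap, (key P).2]
      exact h
  rw [hiff, ← Cfsg.Agent.Components.fitting_eq_pCore_of (Cfsg.Agent.Cores.pPrimeCore_quotient_self p),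
    Cfsg.Agent.Components.layer_eq_bot_iff_centralizer_fitting_le,
    Cfsg.Agent.Components.layer_eq_bot_iff]
  constructor
  · intro h
    exact le_bot_iff.mp (sSup_le fun K hK => absurd hK.2.1 (h _))
  · intro h K hK
    exact Cfsg.Agent.Components.IsPComponent.ne_bot
      (Cfsg.Agent.Components.isPComponent_pComponentOf hK)
      (le_bot_iff.mp (h ▸ Cfsg.Agent.Components.IsPComponent.le_pLayer
        (Cfsg.Agent.Components.isPComponent_pComponentOf hK)))

end Cfsg.Agent.S1327
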