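import Cfsg.Statements.S1295
import Cfsg.Agent.Lib.Signalizer.Core
import Cfsg.Agent.Lib.Signalizer.GraphTrivial
import Cfsg.Agent.Lib.Components.StandardCoreFree
import Cfsg.Agent.S1327
import Cfsg.Agent.S1294

set_option autoImplicit false
open Cfsg

namespace Cfsg.Agent.S1295

/-- Let G be finite with O_{p'}(G) = 1 and p-rank at least 3, whose reduced rank-2 commuting graph for p is connected. Suppose that for every element a of order p with m_p(C_G(a)) ≥ 3 the p-layer of C_G(a) is trivial and O_{p'}(C_G(a)) is solvable. Then F*(C_G(a)) = O_p(C_G(a)) for every such a. -/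
theorem result {G : Type*} [Group G] [Finite G] (p : ℕ) [Fact p.Prime] (hO : Cfsg.pPrimeCore p G = ⊥) (hrk : ¬ Cfsg.PRankLE p 2 G) (hconn : Cfsg.IsRankGraphConnected p 2 G) (hL : ∀ a : G, (orderOf a = p ∧ ¬ Cfsg.PRankLE p 2 ↥(Subgroup.centralizer ({a} : Set G))) → Cfsg.pLayer p ↥(Subgroup.centralizer ({a} : Set G)) = ⊥ ∧ Group.IsSolvable ↥(Cfsg.centralizerPPrimeCore p a)) (a : G) (ha : (orderOf a = p ∧ ¬ Cfsg.PRankLE p 2 ↥(Subgroup.centralizer ({a} : Set G)))) : Cfsg.generalizedFittingSubgroup ↥(Subgroup.centralizer ({a} : Set G)) = Cfsg.pCore p ↥(Subgroup.centralizer ({a} : Set G)) := by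
  have hbot : ∀ b : G, (orderOf b = p ∧ ¬ Cfsg.PRankLE p 2 ↥(Subgroup.centralizer ({b} : Set G))) →
      Cfsg.centralizerPPrimeCore p b = ⊥ :=
    Cfsg.Agent.S1294.result p hO hrk hconn (fun b => Cfsg.centralizerPPrimeCore p b)
      (fun b hb => ⟨Cfsg.Agent.Signalizer.core_le_centralizer b,
        Cfsg.Agent.Signalizer.not_dvd_card_core b, (hL b hb).2⟩)
      (fun b g _ => (Cfsg.Agent.Signalizer.map_conj_centralizerPPrimeCore b g).symm)
      (fun b c hb hc hbc => Cfsg.Agent.Signalizer.core_inf_centralizer_le_core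
        (hb.1 ▸ pow_orderOf_eq_one b) hbc ((Cfsg.Agent.S1327.result p).2 (hL c hc).1))
  have hcore : Cfsg.pPrimeCore p ↥(Subgroup.centralizer ({a} : Set G)) = ⊥ :=
    (Subgroup.map_eq_bot_iff_of_injective _ (Subgroup.subtype_injective _)).1 (hbot a ha)
  refine Cfsg.Agent.Components.genFitting_eq_pCore_of ?_ hcore
  have hinj : Function.Injective
      (QuotientGroup.mk' (Cfsg.pPrimeCore p ↥(Subgroup.centralizer ({a} : Set G)))) := by
    rw [← MonoidHom.ker_eq_bot_iff, QuotientGroup.ker_mk']; exact hcore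
  refine le_bot_iff.1 ((hL a ha).1 ▸ Cfsg.Agent.Components.layer_le fun K hK => ?_)
  exact Cfsg.Agent.Components.IsPComponent.le_pLayer
    ⟨hK.1, ⟨hK.1.map (QuotientGroup.mk'_surjective _),
      (Cfsg.Agent.Components.isQuasisimple_map_iff hinj K).mpr hK.2⟩,
      fun H _ _ h => Subgroup.map_injective hinj h⟩

end Cfsg.Agent.S1295
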