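import Cfsg.Statements.S1297
import Cfsg.Agent.Lib.Components.LocalBalance

set_option autoImplicit false
open Cfsg

namespace Cfsg.Agent.S1297

/-- Let G be finite. Suppose that for every involution x, writing C = C_G(x), every component K of C / O(C) has K / Z(K) locally balanced. Then G is balanced. -/
theorem result {G : Type*} [Group G] [Finite G] (h : ∀ x : G, orderOf x = 2 → ∀ K : Subgroup (↥(Subgroup.centralizer ({x} : Set G)) ⧸ Cfsg.oddCore ↥(Subgroup.centralizer ({x} : Set G))), Cfsg.IsComponent K → Cfsg.IsLocallyBalanced (↥K ⧸ Subgroup.center ↥K)) : Cfsg.IsBalanced G := by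
  haveI : Fact (Nat.Prime 2) := ⟨Nat.prime_two⟩
  have hb : IsKBalanced 2 1 G :=
    Cfsg.Agent.Components.isKBalanced_of_quotient_components le_rfl fun x hx K hK H hH A hA hAc => by
      rw [pow_one] at hAc
      obtain ⟨a, ha⟩ : ∃ a : ↥A, a ≠ 1 := by
        haveI : Finite ↥A := Nat.finite_of_card_ne_zero (by omega)
        haveI : Nontrivial ↥A := Finite.one_lt_card_iff_nontrivial.1 (by omega)
        exact exists_ne 1
      have hord : orderOf (a : ↥H) = 2 :=
        orderOf_eq_prime (hA.2 _ a.2) fun h => ha (Subtype.ext h)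
      exact le_bot_iff.1 ((Cfsg.Agent.Components.signalizerDelta_le a.2 fun h => ha (Subtype.ext h)).trans
        (h x hx K hK H hH _ hord).le)
  have hkey : ∀ x y : G, orderOf x = 2 → orderOf y = 2 → x * y = y * x →
      centralizerPPrimeCore 2 x ⊓ Subgroup.centralizer {y} ≤ centralizerPPrimeCore 2 y := by
    intro x y hx hy hxy
    have h2 : ∀ a ∈ Subgroup.zpowers x, a ^ 2 = 1 := by
      rintro a ha
      obtain ⟨i, rfl⟩ := Subgroup.mem_zpowers_iff.1 ha
      rw [← zpow_natCast, ← zpow_mul, mul_comm, zpow_mul, zpow_natCast, ← hx, pow_orderOf_eq_one,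
        one_zpow]
    have hel : IsElementaryAbelian 2 (Subgroup.zpowers x) := ⟨inferInstance, h2⟩
    refine le_trans (inf_le_inf_right _ ?_) (hb _ hel (by rw [Nat.card_zpowers, hx, pow_one]) y hy
      fun a ha => ?_)
    · refine le_iInf fun ⟨a, ha, ha1⟩ => ?_
      obtain ⟨i, rfl⟩ := (mem_powers_iff_mem_zpowers (x := x)).2 ha
      rcases Nat.even_or_odd i with ⟨j, rfl⟩ | ⟨j, rfl⟩
      · exact absurd (by simp [← two_mul, pow_mul, ← hx, pow_orderOf_eq_one]) ha1
      · simp [pow_succ, pow_mul, ← hx, pow_orderOf_eq_one]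
    · obtain ⟨i, rfl⟩ := Subgroup.mem_zpowers_iff.1 ha
      exact ((show Commute x y from hxy).zpow_left i).eq
  intro x y hx hy hxy
  refine le_antisymm (le_inf (hkey x y hx hy hxy) ?_) (le_inf (hkey y x hy hx hxy.symm) ?_)
  · exact inf_le_left.trans (Cfsg.Agent.Components.centralizerPPrimeCore_le_centralizer_singleton x)
  · exact inf_le_left.trans (Cfsg.Agent.Components.centralizerPPrimeCore_le_centralizer_singleton y)

end Cfsg.Agent.S1297
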