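import Cfsg.Statements.S1300
import Cfsg.Agent.Lib.Signalizer.Basic

set_option autoImplicit false
open Cfsg

namespace Cfsg.Agent.S1300

/-- For a finite group G, balance in the sense of commuting involutions is the same as 1-balance for the prime 2. -/
theorem result {G : Type*} [Group G] [Finite G] : Cfsg.IsBalanced G ↔ Cfsg.IsKBalanced 2 1 G := by
  constructor
  · intro h A hA hcard b hb hcomm
    obtain ⟨x, hx, hx1⟩ : ∃ x ∈ A, x ≠ 1 := by
      by_contra hcon
      push Not at hcon
      rw [(Subgroup.eq_bot_iff_forall A).2 hcon, Subgroup.card_bot] at hcard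
      norm_num at hcard
    have hox : orderOf x = 2 := orderOf_eq_prime (hA.2 x hx) hx1
    have hxc : x ∈ Subgroup.centralizer ({b} : Set G) :=
      Subgroup.mem_centralizer_singleton_iff.2 (hcomm x hx)
    intro y hy
    have hle : signalizerDelta 2 A ≤ centralizerPPrimeCore 2 x :=
      iInf_le_of_le (⟨x, hx, hx1⟩ : {a : G // a ∈ A ∧ a ≠ 1}) le_rfl
    have hyx : y ∈ centralizerPPrimeCore 2 x := hle hy.1
    exact (h x b hox hb (hcomm x hx) ▸ ⟨hyx, hy.2⟩ :
      y ∈ centralizerPPrimeCore 2 b ⊓ Subgroup.centralizer {x}).1
  · intro h x y hx hy hxy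
    have key : ∀ x y : G, orderOf x = 2 → orderOf y = 2 → x * y = y * x →
        centralizerPPrimeCore 2 x ⊓ Subgroup.centralizer {y} ≤
          centralizerPPrimeCore 2 y ⊓ Subgroup.centralizer {x} := by
      intro x y hx hy hxy
      have hmem : ∀ a ∈ Subgroup.zpowers x, a = 1 ∨ a = x := by
        intro a ha
        obtain ⟨n, rfl⟩ := ha
        dsimp only
        rcases Int.emod_two_eq_zero_or_one n with hn | hn
        · exact Or.inl (by rw [← zpow_mod_orderOf, hx]; simp [hn])
        · exact Or.inr (by rw [← zpow_mod_orderOf, hx]; simp [hn])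
      have hel : Cfsg.IsElementaryAbelian 2 (Subgroup.zpowers x) := by
        refine ⟨inferInstance, fun a ha => ?_⟩
        rcases hmem a ha with rfl | rfl
        · simp
        · rw [← hx]; exact pow_orderOf_eq_one _
      have hΔ : centralizerPPrimeCore 2 x ≤ signalizerDelta 2 (Subgroup.zpowers x) := by
        refine le_iInf fun a => ?_
        rcases hmem a.1 a.2.1 with e | e
        · exact absurd e a.2.2
        · rw [e]
      refine le_inf ((inf_le_inf_right _ hΔ).trans
        (h _ hel (by rw [Nat.card_zpowers, hx, pow_one]) y hy fun a ha => ?_))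
        (inf_le_left.trans (Subgroup.map_subtype_le _))
      rcases hmem a ha with rfl | rfl
      · simp
      · exact hxy
    exact le_antisymm (key x y hx hy hxy) (key y x hy hx hxy.symm)

end Cfsg.Agent.S1300
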