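import Cfsg.Statements.S1303
import Cfsg.Agent.Lib.Constrained.Basic
import Cfsg.Agent.Lib.Involution.Basic

set_option autoImplicit false
open Cfsg

namespace Cfsg.Agent.S1303

abbrev X := Matrix.SpecialLinearGroup (Fin 2) (ZMod 3)

theorem q_closed : ∀ x y : X, x ^ 4 = 1 → y ^ 4 = 1 → (x * y) ^ 4 = 1 := by decide +kernel
theorem q_selfcentral : ∀ x : X, (∀ q : X, q ^ 4 = 1 → q * x = x * q) → x ^ 4 = 1 := by decide +kernel
theorem inv_central : ∀ t : X, t * t = 1 → ∀ g : X, g * t = t * g := by decide +kernel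
theorem three_not_normal :
    ∀ x : X, x ^ 3 = 1 → x ≠ 1 → ∃ g : X, g * x * g⁻¹ ≠ x ∧ g * x * g⁻¹ ≠ x * x := by decide +kernel
theorem card_X : Nat.card X = 24 := by
  rw [Nat.card_eq_fintype_card]; decide +kernel

/-- The quaternion subgroup. -/
def quat : Subgroup X where
  carrier := {x | x ^ 4 = 1}
  one_mem' := one_pow 4
  mul_mem' := fun {a b} ha hb => q_closed a b ha hb
  inv_mem' := fun {a} ha => by
    show a⁻¹ ^ 4 = 1
    rw [inv_pow, show a ^ 4 = 1 from ha, inv_one]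

theorem quat_le : quat ≤ Cfsg.pCore 2 X := by
  refine Cores.le_pCore ⟨fun x hx g => ?_⟩ fun x => ⟨2, Subtype.ext (show (x : X) ^ (2 ^ 2) = 1 from x.2)⟩
  show (g * x * g⁻¹) ^ 4 = 1
  rw [conj_pow, show x ^ 4 = 1 from hx, mul_one, mul_inv_cancel]

theorem pPrimeCore_X : Cfsg.pPrimeCore 2 X = ⊥ := by
  haveI : Fact (Nat.Prime 3) := ⟨by norm_num⟩
  rw [Cores.pPrimeCore_eq_bot_iff]
  intro N hN hc
  have hdvd : Nat.card N ∣ 24 := card_X ▸ Subgroup.card_subgroup_dvd_card N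
  have h3 : Nat.card N ∣ 3 := by
    have : (Nat.card N).Coprime 8 := by rw [show 8 = 2 ^ 3 by norm_num]; exact hc.pow_right 3
    exact this.dvd_of_dvd_mul_left (by simpa using hdvd)
  rcases (Nat.dvd_prime (show Nat.Prime 3 by norm_num)).1 h3 with h | h
  · exact Subgroup.card_eq_one.1 h
  · exfalso
    haveI : Nontrivial N := Finite.one_lt_card_iff_nontrivial.1 (by omega)
    obtain ⟨x, hx⟩ := exists_ne (1 : N)
    have hgen : Subgroup.zpowers x = ⊤ := zpowers_eq_top_of_prime_card h hx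
    have hx1 : (x : X) ≠ 1 := fun h => hx (Subtype.ext h)
    have hx3 : (x : X) ^ 3 = 1 := congrArg Subtype.val (h ▸ pow_card_eq_one' (x := x))
    obtain ⟨g, hg1, hg2⟩ := three_not_normal x hx3 hx1
    have hgN : g * (x : X) * g⁻¹ ∈ N := hN.conj_mem _ x.2 g
    obtain ⟨j, hj⟩ := Subgroup.mem_zpowers_iff.1 (hgen.ge (Subgroup.mem_top ⟨_, hgN⟩))
    have hj' : (x : X) ^ j = g * (x : X) * g⁻¹ := congrArg Subtype.val hj
    have hord : orderOf (x : X) = 3 := orderOf_eq_prime hx3 hx1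
    rw [← zpow_mod_orderOf, hord] at hj'
    have h0 : j % 3 = 0 ∨ j % 3 = 1 ∨ j % 3 = 2 := by omega
    rcases h0 with h0 | h0 | h0 <;> rw [Nat.cast_ofNat, h0] at hj'
    · rw [zpow_zero, eq_comm, conj_eq_one_iff] at hj'; exact hx1 hj'
    · rw [zpow_one] at hj'; exact hg1 hj'.symm
    · rw [zpow_ofNat, sq] at hj'; exact hg2 hj'.symm

theorem sl_two_three : Cfsg.IsPConstrained 2 X ∧ Cfsg.pPrimeCore 2 X = ⊥ ∧
    (∀ t : X, orderOf t = 2 → t ∈ Subgroup.center X) ∧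
    ∃ Q : Subgroup X, Nat.card ↥Q = 3 ∧ ¬ (Q ≤ Cfsg.pPrimeCore 2 X) := by
  haveI : Fact (Nat.Prime 2) := ⟨Nat.prime_two⟩
  haveI : Fact (Nat.Prime 3) := ⟨by norm_num⟩
  have hchar : Constrained.IsCharP 2 X := by
    intro x hx
    refine quat_le (q_selfcentral x fun q hq => Subgroup.mem_centralizer_iff.1 hx q (quat_le hq))
  refine ⟨?_, pPrimeCore_X, fun t ht => ?_, ?_⟩
  · rw [Constrained.isPConstrained_iff]
    exact Constrained.isCharP_congr
      ((QuotientGroup.quotientMulEquivOfEq pPrimeCore_X).trans QuotientGroup.quotientBot).symm hchar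
  · exact Subgroup.mem_center_iff.2 fun g => inv_central t (Involution.mul_self ht) g
  · obtain ⟨Q, hQ⟩ := Sylow.exists_subgroup_card_pow_prime (G := X) 3 (n := 1) (by rw [card_X]; norm_num)
    refine ⟨Q, by simpa using hQ, fun h => ?_⟩
    rw [pPrimeCore_X, le_bot_iff] at h
    rw [h, Subgroup.card_bot] at hQ
    norm_num at hQ

/-- The group X = SL(2, 3): it is 2-constrained, O_{2'}(X) = 1, its centre A = Z(X) contains every involution of X = C_X(A), and X has a subgroup of order 3 (normalized by A) not contained in O_{2'}(X). -/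
theorem result : Cfsg.IsPConstrained 2 (Matrix.SpecialLinearGroup (Fin 2) (ZMod 3)) ∧ Cfsg.pPrimeCore 2 (Matrix.SpecialLinearGroup (Fin 2) (ZMod 3)) = ⊥ ∧ (∀ t : Matrix.SpecialLinearGroup (Fin 2) (ZMod 3), orderOf t = 2 → t ∈ Subgroup.center (Matrix.SpecialLinearGroup (Fin 2) (ZMod 3))) ∧ ∃ Q : Subgroup (Matrix.SpecialLinearGroup (Fin 2) (ZMod 3)), Nat.card ↥Q = 3 ∧ ¬ (Q ≤ Cfsg.pPrimeCore 2 (Matrix.SpecialLinearGroup (Fin 2) (ZMod 3))) := sl_two_three

end Cfsg.Agent.S1303
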