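import Cfsg.Statements.S1304
import Cfsg.Agent.EqLemmas

set_option autoImplicit false
open Cfsg

namespace Cfsg.Agent.S1304

/-- Let X be a perfect group and α an automorphism of X with α(x) x⁻¹ central for every x. Then α is the identity. -/
theorem result {X : Type*} [Group X] (hperf : commutator X = ⊤) (α : X ≃* X) (h : ∀ x : X, α x * x⁻¹ ∈ Subgroup.center X) : ∀ x : X, α x = x := by
  let f : X →* Subgroup.center X :=
    { toFun := fun x => ⟨α x * x⁻¹, h x⟩
      map_one' := by ext; simp
      map_mul' := fun a b => by
        ext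
        have hc := Subgroup.mem_center_iff.mp (h b) (α a)
        simp only [Subgroup.coe_mul, map_mul, mul_inv_rev]
        calc α a * α b * (b⁻¹ * a⁻¹) = (α a * (α b * b⁻¹)) * a⁻¹ := by group
          _ = (α b * b⁻¹ * α a) * a⁻¹ := by rw [hc]
          _ = α b * b⁻¹ * (α a * a⁻¹) := by group
          _ = α a * a⁻¹ * (α b * b⁻¹) := (Subgroup.mem_center_iff.mp (h a) (α b * b⁻¹)) }
  intro x
  have hx : x ∈ f.ker := by
    have hle : commutator X ≤ f.ker := by
      rw [commutator_def, Subgroup.commutator_le]
      intro a _ b _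
      rw [MonoidHom.mem_ker, map_commutatorElement]
      exact commutatorElement_eq_one_iff_commute.mpr (Subtype.ext ((Subgroup.mem_center_iff.mp (f b).2 _)))
    exact hle (hperf ▸ Subgroup.mem_top x)
  have := congrArg Subtype.val (MonoidHom.mem_ker.mp hx)
  exact mul_inv_eq_one.mp this

end Cfsg.Agent.S1304
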