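import Cfsg.Statements.S1305
import Cfsg.Agent.Lib.Components.TwoBalance
import Cfsg.Agent.S2019

set_option autoImplicit false
open Cfsg

namespace Cfsg.Agent.S1305

/-- A quasisimple subgroup of order divisible by `p` is `p`-like. -/
theorem isPLike_of_isQuasisimple {G : Type*} [Group G] [Finite G] {p : ℕ} [Fact p.Prime] {K : Subgroup G}
    (hq : Cfsg.IsQuasisimple ↥K) (hd : p ∣ Nat.card ↥K) : Components.IsPLike p K := by
  haveI := hq.1
  have hgen : Components.pGen p (⊤ : Subgroup ↥K) = ⊤ := by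
    haveI : (Components.pGen p (⊤ : Subgroup ↥K)).Normal := Subgroup.normalizer_eq_top_iff.1
      (eq_top_iff.2 ((Subgroup.le_normalizer (H := (⊤ : Subgroup ↥K))).trans
        (Components.normalizer_le_normalizer_pGen p _)))
    refine (Components.IsQuasisimple.normal_eq_top_or_le_center hq _).resolve_right fun h => ?_
    exact Components.not_dvd_card_of_pElements_central
      (fun u hu => h (Subgroup.subset_closure ⟨Subgroup.mem_top u, hu⟩)) hd
  have hO : Cfsg.pPrimeCore p ↥K ≠ ⊤ := by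
    intro h
    have h1 := Cores.coprime_card_pPrimeCore (G := ↥K) p
    rw [h, Subgroup.card_top] at h1
    exact (Fact.out : p.Prime).coprime_iff_not_dvd.1 h1.symm hd
  refine ⟨?_, ?_⟩
  · haveI : Nontrivial (↥K ⧸ Cfsg.pPrimeCore p ↥K) := QuotientGroup.nontrivial_iff.2 hO
    exact Components.IsQuasisimple.of_surjective hq _ (QuotientGroup.mk'_surjective (Cfsg.pPrimeCore p ↥K))
  · have h := congrArg (Subgroup.map K.subtype) hgen
    rwa [Components.pGen_map_of_injective (Subgroup.subtype_injective K), ← MonoidHom.range_eq_map,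
      Subgroup.range_subtype] at h

theorem mul_le_card_sup {G : Type*} [Group G] [Finite G] {S T : Subgroup G} (h : S ⊓ T = ⊥) :
    Nat.card S * Nat.card T ≤ Nat.card ↥(S ⊔ T) := by
  rw [← Nat.card_prod]
  exact Nat.card_le_card_of_injective
    (fun x : S × T => (⟨x.1.1 * x.2.1, mul_mem (Subgroup.mem_sup_left x.1.2) (Subgroup.mem_sup_right x.2.2)⟩ : ↥(S ⊔ T)))
    fun x y hxy => Subgroup.mul_injective_of_disjoint (disjoint_iff.2 h) (congrArg Subtype.val hxy)

theorem isElementaryAbelian_sup {G : Type*} [Group G] {p : ℕ} {S T : Subgroup G}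
    (hS : Cfsg.IsElementaryAbelian p S) (hT : Cfsg.IsElementaryAbelian p T)
    (h : ∀ s ∈ S, ∀ t ∈ T, s * t = t * s) : Cfsg.IsElementaryAbelian p (S ⊔ T) := by
  have hc : ∀ s ∈ S, ∀ t ∈ S, s * t = t * s := fun s hs t ht =>
    congrArg Subtype.val (hS.1.is_comm.comm ⟨s, hs⟩ ⟨t, ht⟩)
  have hd : ∀ s ∈ T, ∀ t ∈ T, s * t = t * s := fun s hs t ht =>
    congrArg Subtype.val (hT.1.is_comm.comm ⟨s, hs⟩ ⟨t, ht⟩)
  have hcomm : IsMulCommutative ↥(S ⊔ T) := by
    rw [Subgroup.sup_eq_closure]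
    refine Subgroup.isMulCommutative_closure ?_
    rintro u (hu | hu) v (hv | hv)
    exacts [hc u hu v hv, h u hu v hv, (h v hv u hu).symm, hd u hu v hv]
  refine ⟨hcomm, fun e he => ?_⟩
  have key : S ⊔ T ≤
      { carrier := {g | g ∈ S ⊔ T ∧ g ^ p = 1}
        one_mem' := ⟨one_mem _, one_pow p⟩
        mul_mem' := fun {u v} hu hv => ⟨mul_mem hu.1 hv.1, by
          rw [Commute.mul_pow (show Commute u v from congrArg Subtype.val (hcomm.is_comm.comm ⟨u, hu.1⟩ ⟨v, hv.1⟩)),
            hu.2, hv.2, one_mul]⟩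
        inv_mem' := fun {u} hu => ⟨inv_mem hu.1, by rw [inv_pow, hu.2, inv_one]⟩ } :=
    sup_le (fun s hs => ⟨Subgroup.mem_sup_left hs, hS.2 s hs⟩) fun t ht => ⟨Subgroup.mem_sup_right ht, hT.2 t ht⟩
  exact (key he).2


/-- Let G be a finite group of component type with the B-property and no nontrivial normal subgroup of odd order. Let a be an involution and K a component of C_G(a) such that (a) |K| is maximal among the orders of components of centralizers of involutions of G, (b) subject to (a) the 2-rank of the centralizer of K in C_G(a) is as large as possible, and (c) K has 2-rank at least 2. If B is an elementary abelian 2-subgroup of that centralizer of the largest possible order, then K is a component of C_G(b) for every non-identity b ∈ B. -/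
theorem result {G : Type*} [Group G] [Finite G] (hO : Cfsg.oddCore G = ⊥) (hB : Cfsg.HasBProperty G) (hct : Cfsg.IsComponentType G) (a : G) (ha : orderOf a = 2) (K : Subgroup G) (hKa : K ≤ Subgroup.centralizer ({a} : Set G)) (hK : Cfsg.IsComponent (K.subgroupOf (Subgroup.centralizer ({a} : Set G)))) (hmax : ∀ y : G, orderOf y = 2 → ∀ K' : Subgroup G, K' ≤ Subgroup.centralizer ({y} : Set G) → Cfsg.IsComponent (K'.subgroupOf (Subgroup.centralizer ({y} : Set G))) → Nat.card ↥K' ≤ Nat.card ↥K ∧ (Nat.card ↥K' = Nat.card ↥K → ∀ k : ℕ, Cfsg.PRankLE 2 k ↥(Subgroup.centralizer ({a} : Set G) ⊓ Subgroup.centralizer (K : Set G)) → Cfsg.PRankLE 2 k ↥(Subgroup.centralizer ({y} : Set G) ⊓ Subgroup.centralizer (K' : Set G)))) (hrk : ¬ Cfsg.PRankLE 2 1 ↥K) (B : Subgroup G) (hBle : B ≤ Subgroup.centralizer ({a} : Set G) ⊓ Subgroup.centralizer (K : Set G)) (hBel : Cfsg.IsElementaryAbelian 2 B) (hBmax : ∀ B' : Subgroup G, B' ≤ Subgroup.centralizer ({a} : Set G) ⊓ Subgroup.centralizer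 (K : Set G) → Cfsg.IsElementaryAbelian 2 B' → Nat.card ↥B' ≤ Nat.card ↥B) (b : G) (hb : b ∈ B) (hb1 : b ≠ 1) : K ≤ Subgroup.centralizer ({b} : Set G) ∧ Cfsg.IsComponent (K.subgroupOf (Subgroup.centralizer ({b} : Set G))) := by
  classical
  haveI : Fact (Nat.Prime 2) := ⟨Nat.prime_two⟩
  set Ca := Subgroup.centralizer ({a} : Set G) with hCa
  have hKq : Cfsg.IsQuasisimple ↥K := (Components.isQuasisimple_congr (Subgroup.subgroupOfEquivOfLe hKa)).1 hK.2
  -- a four-group in `K`
  obtain ⟨W0, hW0, hW0K, hW0c⟩ : ∃ W : Subgroup ↥K, Cfsg.IsElementaryAbelian 2 W ∧ True ∧ 4 ≤ Nat.card W := by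
    simp only [PRankLE, not_forall, not_le] at hrk
    obtain ⟨W, hW, hW', hWc⟩ := hrk
    have hWp : IsPGroup 2 ↥W := fun w => ⟨1, Subtype.ext (by simpa using hW' w w.2)⟩
    obtain ⟨i, hi⟩ := hWp.exists_card_eq
    rw [hi] at hWc
    refine ⟨W, ⟨hW, hW'⟩, trivial, ?_⟩
    rw [hi]
    calc 4 = 2 ^ 2 := rfl
      _ ≤ 2 ^ i := Nat.pow_le_pow_right (by norm_num) ((Nat.pow_lt_pow_iff_right (by norm_num)).1 hWc)
  have hKd : 2 ∣ Nat.card ↥K := by
    have hWp : IsPGroup 2 ↥W0 := fun w => ⟨1, Subtype.ext (by simpa using hW0.2 w w.2)⟩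
    obtain ⟨i, hi⟩ := hWp.exists_card_eq
    refine dvd_trans ?_ (Subgroup.card_subgroup_dvd_card W0)
    rw [hi]
    refine dvd_pow_self 2 fun h0 => ?_
    rw [hi, h0, pow_zero] at hW0c
    omega
  have hKp := isPLike_of_isQuasisimple hKq hKd
  -- `a ∈ B`
  have haa : a * a = 1 := by rw [← pow_two, ← ha, pow_orderOf_eq_one]
  have haK : a ∈ Ca ⊓ Subgroup.centralizer (K : Set G) := ⟨Subgroup.mem_centralizer_singleton_iff.2 rfl,
    Subgroup.mem_centralizer_iff.2 fun k hk => Subgroup.mem_centralizer_singleton_iff.1 (hKa hk)⟩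
  have hza : Cfsg.IsElementaryAbelian 2 (Subgroup.zpowers a) := by
    refine ⟨inferInstance, fun u hu => ?_⟩
    obtain ⟨i, rfl⟩ := Subgroup.mem_zpowers_iff.1 hu
    rw [← zpow_natCast, ← zpow_mul, mul_comm, zpow_mul, zpow_natCast, pow_two, haa, one_zpow]
  have hBa : a ∈ B := by
    have h := hBmax (B ⊔ Subgroup.zpowers a) (sup_le hBle (Subgroup.zpowers_le.2 haK))
      (isElementaryAbelian_sup hBel hza fun u hu v hv => by
        obtain ⟨i, rfl⟩ := Subgroup.mem_zpowers_iff.1 hv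
        exact ((show Commute u a from Subgroup.mem_centralizer_singleton_iff.1 (hBle hu).1).zpow_right i).eq)
    exact (Subgroup.eq_of_le_of_card_ge le_sup_left h).ge (Subgroup.mem_sup_right (Subgroup.mem_zpowers a))
  have hBcomm : ∀ u ∈ B, ∀ v ∈ B, u * v = v * u := fun u hu v hv =>
    congrArg Subtype.val (hBel.1.is_comm.comm ⟨u, hu⟩ ⟨v, hv⟩)
  obtain ⟨m, hm⟩ := (show IsPGroup 2 ↥B from fun u => ⟨1, Subtype.ext (by simpa using hBel.2 u u.2)⟩).exists_card_eq
  have hrank : Cfsg.PRankLE 2 m ↥(Ca ⊓ Subgroup.centralizer (K : Set G)) := by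
    intro A hA hA'
    rw [← hm, ← Cores.card_map_subtype (Ca ⊓ Subgroup.centralizer (K : Set G)) A]
    refine hBmax _ (Subgroup.map_subtype_le A) ⟨inferInstance, ?_⟩
    rintro _ ⟨u, hu, rfl⟩
    rw [← map_pow, hA' u hu, map_one]
  by_cases hba : b = a
  · subst hba; exact ⟨hKa, hK⟩
  set Cb := Subgroup.centralizer ({b} : Set G) with hCb
  have hKb : K ≤ Cb := fun k hk => Subgroup.mem_centralizer_singleton_iff.2
    (Subgroup.mem_centralizer_iff.1 (hBle hb).2 k hk)
  have hbo : orderOf b = 2 := orderOf_eq_prime (hBel.2 b hb) hb1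
  have haCb : a ∈ Cb := Subgroup.mem_centralizer_singleton_iff.2 (hBcomm a hBa b hb)
  refine ⟨hKb, ?_⟩
  set x : ↥Cb := ⟨a, haCb⟩ with hx
  have hxo : orderOf x = 2 := by rw [← Subgroup.orderOf_coe]; exact ha
  set K0 := K.subgroupOf Cb with hK0
  have hK0p : Components.IsPLike 2 K0 := (Components.isPLike_subgroupOf_iff hKb).2 hKp
  have hK0C : K0 ≤ Subgroup.centralizer ({x} : Set ↥Cb) := fun k hk =>
    Subgroup.mem_centralizer_singleton_iff.2 (Subtype.ext
      (Subgroup.mem_centralizer_singleton_iff.1 (hKa (Subgroup.mem_subgroupOf.1 hk))))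
  have hK0s : (K0.subgroupOf (Subgroup.centralizer ({x} : Set ↥Cb))).IsSubnormal := by
    let ψ : ↥(Subgroup.centralizer ({x} : Set ↥Cb)) →* ↥Ca :=
      (Cb.subtype.comp (Subgroup.centralizer ({x} : Set ↥Cb)).subtype).codRestrict Ca fun u =>
        Subgroup.mem_centralizer_singleton_iff.2
          (congrArg Subtype.val (Subgroup.mem_centralizer_singleton_iff.1 u.2))
    exact hK.1.comap ψ
  have hlayer : K0 ≤ Cfsg.layer ↥Cb := by
    have hT : IsPGroup 2 ↥(Subgroup.zpowers x) :=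
      IsPGroup.of_card (n := 1) (by rw [Nat.card_zpowers, hxo, pow_one])
    have hce : Subgroup.centralizer ((Subgroup.zpowers x : Subgroup ↥Cb) : Set ↥Cb) = Subgroup.centralizer ({x} : Set ↥Cb) := by
      rw [Subgroup.zpowers_eq_closure, Subgroup.centralizer_closure]
    have h1 := Components.pLayer_centralizer_le hT
    rw [hce] at h1
    have h2 : K0 ≤ Cfsg.pLayer 2 ↥Cb := by
      refine le_trans ?_ h1
      rw [← Subgroup.map_subgroupOf_eq_of_le hK0C]
      refine Subgroup.map_mono (Components.IsPComponent.le_pLayer ?_)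
      exact Components.isPComponent_iff.2 ⟨hK0s, (Components.isPLike_subgroupOf_iff hK0C).2 hK0p⟩
    refine h2.trans (sSup_le fun L hL => ?_)
    have h3 : ⁅Cfsg.pLayer 2 ↥Cb, Cfsg.oddCore ↥Cb⁆ = ⊥ := by
      have h4 := hB b hbo
      rw [hO, le_bot_iff, Subgroup.map_eq_bot_iff_of_injective _ (Subgroup.subtype_injective _)] at h4
      exact h4
    refine Components.IsComponent.le_layer ((Cfsg.Agent.S2019.result 2 Nat.prime_two L hL).1.2 ?_)
    exact le_bot_iff.1 ((Subgroup.commutator_mono (Components.IsPComponent.le_pLayer hL) le_rfl).trans h3.le)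
  obtain ⟨J, hJ, hcases⟩ := Components.pump (p := 2) hxo hlayer hK0C hK0s hK0p
  have hJ0le : J.map Cb.subtype ≤ Cb := Subgroup.map_subtype_le J
  have hJ0c : Cfsg.IsComponent ((J.map Cb.subtype).subgroupOf Cb) := by
    rwa [Subgroup.subgroupOf, Subgroup.comap_map_eq_self_of_injective (Subgroup.subtype_injective Cb)]
  obtain ⟨hmaxc, hmaxr⟩ := hmax b hbo (J.map Cb.subtype) hJ0le hJ0c
  rw [Cores.card_map_subtype] at hmaxc hmaxr
  have hK0card : Nat.card ↥K0 = Nat.card ↥K := Nat.card_congr (Subgroup.subgroupOfEquivOfLe hKb).toEquiv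
  rcases hcases with ⟨-, hle⟩ | ⟨hxn, hdiag⟩
  · rw [Subgroup.eq_of_le_of_card_ge hle (hK0card ▸ hmaxc)]
    exact hJ
  exfalso
  haveI : Fintype ↥(Subgroup.zpowers x) := Fintype.ofFinite _
  have hc := Components.orbitCommutes_of_not_mem (p := 2) hxo hJ hxn
  have hKd' := hdiag hc
  set d := Components.diag J hc with hd
  have hrange : Nat.card ↥d.range ∣ Nat.card ↥J := Subgroup.card_range_dvd d
  have hJK : Nat.card ↥J = Nat.card ↥K := by
    refine le_antisymm hmaxc ?_
    rw [← hK0card]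
    exact (Subgroup.card_le_of_le hKd').trans (Nat.le_of_dvd Nat.card_pos hrange)
  have hinj : Function.Injective d := by
    rw [← MonoidHom.ker_eq_bot_iff]
    refine Subgroup.card_eq_one.1 ?_
    have h1 := Subgroup.card_eq_card_quotient_mul_card_subgroup d.ker
    rw [Nat.card_congr (QuotientGroup.quotientKerEquivRange d).toEquiv] at h1
    have h2 : Nat.card ↥J ≤ Nat.card ↥d.range := by
      rw [hJK, ← hK0card]; exact Subgroup.card_le_of_le hKd'
    by_contra hne
    have h3 : 1 < Nat.card ↥d.ker := lt_of_le_of_ne Nat.card_pos (Ne.symm hne)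
    have := Nat.mul_lt_mul_of_pos_left h3 (Nat.card_pos (α := ↥d.range))
    omega
  have hrangeK : d.range = K0 :=
    (Subgroup.eq_of_le_of_card_ge hKd' (by rw [hK0card, ← hJK]; exact Nat.le_of_dvd Nat.card_pos hrange)).symm
  set J0 := J.map Cb.subtype with hJ0
  set J1 := (Components.conjOf J x).map Cb.subtype with hJ1
  have hJJ1 : J1 ≤ Subgroup.centralizer (J0 : Set G) := by
    have hne : Components.conjOf J x ≠ J := fun h => hxn (Components.mem_normalizer_iff_conjOf.2 h)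
    have h := Components.IsComponent.commutator_eq_bot (Components.IsComponent.conj hJ x) hJ hne
    rw [← Subgroup.commutator_eq_bot_iff_le_centralizer, hJ0, hJ1, ← Subgroup.map_commutator, h,
      Subgroup.map_bot]
  set B0 := B ⊓ Subgroup.centralizer (J0 : Set G) with hB0
  -- `B = ⟨a⟩ B0`
  have hBB0 : B ≤ Subgroup.zpowers a ⊔ B0 := by
    intro r hr
    have hrCb : r ∈ Cb := Subgroup.mem_centralizer_singleton_iff.2 (hBcomm r hr b hb)
    have hrd : ∀ u, Commute (⟨r, hrCb⟩ : ↥Cb) (d u) := by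
      intro u
      have hu : d u ∈ K0 := hrangeK ▸ ⟨u, rfl⟩
      exact Subtype.ext (Subgroup.mem_centralizer_iff.1 (hBle hr).2 _ (Subgroup.mem_subgroupOf.1 hu)).symm
    obtain ⟨c, hcx, hcJ⟩ := Components.exists_zpowers_mul_mem_centralizer hJ hc hinj
      (r := ⟨r, hrCb⟩) (Subtype.ext (hBcomm r hr a hBa)) hrd
    obtain ⟨i, rfl⟩ := Subgroup.mem_zpowers_iff.1 hcx
    have h1 : (a ^ i)⁻¹ * r ∈ B0 := by
      refine ⟨B.mul_mem (B.inv_mem (B.zpow_mem hBa i)) hr, Subgroup.mem_centralizer_iff.2 ?_⟩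
      rintro _ ⟨u, hu, rfl⟩
      simpa [hx] using congrArg Subtype.val (Subgroup.mem_centralizer_iff.1 hcJ u hu)
    have := Subgroup.mul_mem_sup (Subgroup.zpow_mem_zpowers a i) h1
    rwa [mul_inv_cancel_left] at this
  have hBcard : Nat.card ↥B ≤ 2 * Nat.card ↥B0 := by
    refine (Subgroup.card_le_of_le hBB0).trans ?_
    have hn : B0 ≤ Subgroup.normalizer (Subgroup.zpowers a : Set G) := fun u hu =>
      Subgroup.centralizer_le_normalizer _ (Subgroup.mem_centralizer_iff.2 fun v hv => by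
        obtain ⟨i, rfl⟩ := Subgroup.mem_zpowers_iff.1 hv
        exact ((show Commute a u from hBcomm a hBa u hu.1).zpow_left i).eq)
    have hsurj : Function.Surjective (fun q : ↥(Subgroup.zpowers a) × ↥B0 =>
        (⟨q.1.1 * q.2.1, Subgroup.mul_mem_sup q.1.2 q.2.2⟩ : ↥(Subgroup.zpowers a ⊔ B0))) := by
      rintro ⟨w, hw⟩
      rw [← SetLike.mem_coe, Subgroup.coe_mul_of_right_le_normalizer_left _ _ hn] at hw
      obtain ⟨u, hu, v, hv, rfl⟩ := Set.mem_mul.1 hw
      exact ⟨(⟨u, hu⟩, ⟨v, hv⟩), rfl⟩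
    have h1 := Nat.card_le_card_of_surjective _ hsurj
    rwa [Nat.card_prod, Nat.card_zpowers, ha] at h1
  -- a four-group in the other component
  let φ : ↥K →* G :=
    (MulAut.conj a).toMonoidHom.comp (Cb.subtype.comp (J.subtype.comp
      ((MonoidHom.ofInjective hinj).symm.toMonoidHom.comp
        ((MulEquiv.subgroupCongr hrangeK.symm).toMonoidHom.comp
          (Subgroup.subgroupOfEquivOfLe hKb).symm.toMonoidHom))))
  have hφinj : Function.Injective φ :=
    (MulAut.conj a).injective.comp (Cb.subtype_injective.comp (J.subtype_injective.comp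
      ((MonoidHom.ofInjective hinj).symm.injective.comp
        ((MulEquiv.subgroupCongr hrangeK.symm).injective.comp
          (Subgroup.subgroupOfEquivOfLe hKb).symm.injective))))
  set W := W0.map φ with hWdef
  have hWel : Cfsg.IsElementaryAbelian 2 W := by
    haveI := hW0.1
    refine ⟨inferInstance, ?_⟩
    rintro _ ⟨u, hu, rfl⟩
    rw [← map_pow, hW0.2 u hu, map_one]
  have hWJ1 : W ≤ J1 := by
    rintro _ ⟨u, -, rfl⟩
    exact ⟨x * ((MonoidHom.ofInjective hinj).symm ((MulEquiv.subgroupCongr hrangeK.symm)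
      ((Subgroup.subgroupOfEquivOfLe hKb).symm u)) : ↥J).1 * x⁻¹, ⟨_, Subtype.prop _, rfl⟩, rfl⟩
  have hB0J1 : B0 ≤ Subgroup.centralizer (J1 : Set G) := by
    intro u hu
    refine Subgroup.mem_centralizer_iff.2 ?_
    rintro _ ⟨_, ⟨w, hw, rfl⟩, rfl⟩
    show a * (w : G) * a⁻¹ * u = u * (a * (w : G) * a⁻¹)
    have h1 : (w : G) * u = u * w := Subgroup.mem_centralizer_iff.1 hu.2 _ ⟨w, hw, rfl⟩
    have h2 : a * u = u * a := hBcomm a hBa u hu.1
    have h3 : a⁻¹ * u = u * a⁻¹ := ((show Commute a u from h2).inv_left).eq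
    calc a * (w : G) * a⁻¹ * u = a * ((w : G) * u) * a⁻¹ := by rw [mul_assoc _ a⁻¹, h3]; group
      _ = (a * u) * w * a⁻¹ := by rw [h1]; group
      _ = u * (a * (w : G) * a⁻¹) := by rw [h2]; group
  have hBW : B0 ⊓ W = ⊥ := by
    refine eq_bot_iff.2 fun z hz => ?_
    obtain ⟨_, ⟨w, hw, rfl⟩, hwz⟩ := hWJ1 hz.2
    have hwz' : a * (w : G) * a⁻¹ = z := hwz
    have hwa : (w : G) = z := by
      have h := hBcomm a hBa z hz.1.1
      rw [← hwz'] at h ⊢
      calc (w : G) = a⁻¹ * (a * (w : G) * a⁻¹ * a) := by group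
        _ = a⁻¹ * (a * (a * (w : G) * a⁻¹)) := by rw [← h]
        _ = a * (w : G) * a⁻¹ := by group
    have hd1 : d ⟨w, hw⟩ = 1 := by
      have hfun : (fun _ : ↥(Subgroup.zpowers x) => (⟨w, hw⟩ : ↥J)) =
          Pi.mulSingle 1 ⟨w, hw⟩ * Pi.mulSingle ⟨x, Subgroup.mem_zpowers x⟩ ⟨w, hw⟩ := by
        funext c
        have hc2 : c = 1 ∨ c = ⟨x, Subgroup.mem_zpowers x⟩ := by
          obtain ⟨c, hc⟩ := c
          obtain ⟨i, rfl⟩ := (mem_powers_iff_mem_zpowers (x := x)).2 hc
          have hx2 : x ^ 2 = 1 := hxo ▸ pow_orderOf_eq_one x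
          rcases Nat.even_or_odd i with ⟨l, rfl⟩ | ⟨l, rfl⟩
          · left; ext1; simp [← two_mul, pow_mul, hx2]
          · right; ext1; simp [pow_succ, pow_mul, hx2]
        have hne : (⟨x, Subgroup.mem_zpowers x⟩ : ↥(Subgroup.zpowers x)) ≠ 1 := fun h => by
          have h' : x = 1 := congrArg Subtype.val h
          rw [h', orderOf_one] at hxo
          omega
        rcases hc2 with rfl | rfl
        · simp [Ne.symm hne]
        · simp [hne]
      show Components.diag J hc _ = 1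
      rw [Components.diag_apply, hfun, map_mul, Components.orbitHom_mulSingle, Components.orbitHom_mulSingle]
      apply Subtype.ext
      show (1 : G) * w * (1 : G)⁻¹ * (a * w * a⁻¹) = 1
      rw [hwz', hwa, one_mul, inv_one, mul_one, ← pow_two]
      exact hBel.2 z hz.1.1
    have h1 : (⟨w, hw⟩ : ↥J) = 1 := hinj (hd1.trans (map_one d).symm)
    rw [Subgroup.mem_bot, ← hwa]
    exact congrArg (fun u : ↥J => ((u : ↥Cb) : G)) h1
  set Eg := B0 ⊔ W with hEg
  have hEle : Eg ≤ Cb ⊓ Subgroup.centralizer (J0 : Set G) :=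
    sup_le (le_inf (fun u hu => Subgroup.mem_centralizer_singleton_iff.2 (hBcomm u hu.1 b hb)) inf_le_right)
      (le_inf (hWJ1.trans (Subgroup.map_subtype_le _)) (hWJ1.trans hJJ1))
  have hEel : Cfsg.IsElementaryAbelian 2 Eg := isElementaryAbelian_sup
    ⟨⟨⟨fun u v => Subtype.ext (hBcomm u u.2.1 v v.2.1)⟩⟩, fun u hu => hBel.2 u hu.1⟩ hWel
    fun u hu v hv => (Subgroup.mem_centralizer_iff.1 (hB0J1 hu) v (hWJ1 hv)).symm
  have hr := hmaxr hJK m hrank (Eg.subgroupOf (Cb ⊓ Subgroup.centralizer (J0 : Set G)))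
    ⟨⟨fun u v => Subtype.ext (Subtype.ext (congrArg Subtype.val
      (hEel.1.is_comm.comm ⟨_, Subgroup.mem_subgroupOf.1 u.2⟩ ⟨_, Subgroup.mem_subgroupOf.1 v.2⟩) :))⟩⟩
    (fun u hu => Subtype.ext (by simpa using hEel.2 _ (Subgroup.mem_subgroupOf.1 hu)))
  rw [Nat.card_congr (Subgroup.subgroupOfEquivOfLe hEle).toEquiv, ← hm] at hr
  have hW4 : 4 ≤ Nat.card ↥W := by
    rw [hWdef, Nat.card_congr (W0.equivMapOfInjective φ hφinj).toEquiv.symm]; exact hW0c
  have h5 := (mul_le_card_sup hBW).trans hr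
  have h6 : Nat.card ↥B0 * 4 ≤ Nat.card ↥B := le_trans (Nat.mul_le_mul_left _ hW4) h5
  have h7 := Nat.card_pos (α := ↥B0)
  omega

end Cfsg.Agent.S1305
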