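import Cfsg.Statements.S1306
import Cfsg.Agent.Lib.Components.Basic

set_option autoImplicit false
open Cfsg

namespace Cfsg.Agent.S1306

/-- A conjugate of a component of a centralizer is a component of the conjugate centralizer. -/
theorem component_conj {G : Type*} [Group G] {L : Subgroup G} {y g : G}
    (hLy : L ≤ Subgroup.centralizer ({y} : Set G))
    (hL : Cfsg.IsComponent (L.subgroupOf (Subgroup.centralizer ({y} : Set G)))) :
    L.map (MulAut.conj g).toMonoidHom ≤ Subgroup.centralizer ({g * y * g⁻¹} : Set G) ∧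
      Cfsg.IsComponent ((L.map (MulAut.conj g).toMonoidHom).subgroupOf
        (Subgroup.centralizer ({g * y * g⁻¹} : Set G))) := by
  have hmap : (Subgroup.centralizer ({y} : Set G)).map (MulAut.conj g).toMonoidHom =
      Subgroup.centralizer ({g * y * g⁻¹} : Set G) := by
    ext x
    rw [Subgroup.mem_map_equiv, Subgroup.mem_centralizer_singleton_iff,
      Subgroup.mem_centralizer_singleton_iff, MulAut.conj_symm_apply]
    constructor
    · intro h
      calc x * (g * y * g⁻¹) = g * (g⁻¹ * x * g * y) * g⁻¹ := by group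
        _ = g * (y * (g⁻¹ * x * g)) * g⁻¹ := by rw [h]
        _ = g * y * g⁻¹ * x := by group
    · intro h
      calc g⁻¹ * x * g * y = g⁻¹ * (x * (g * y * g⁻¹)) * g := by group
        _ = g⁻¹ * (g * y * g⁻¹ * x) * g := by rw [h]
        _ = y * (g⁻¹ * x * g) := by group
  have hle : L.map (MulAut.conj g).toMonoidHom ≤ Subgroup.centralizer ({g * y * g⁻¹} : Set G) :=
    hmap ▸ Subgroup.map_mono hLy
  refine ⟨hle, ?_⟩
  let C := Subgroup.centralizer ({y} : Set G)
  let e := ((MulAut.conj g).subgroupMap C).trans (MulEquiv.subgroupCongr hmap)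
  have heq : (L.subgroupOf C).map e.toMonoidHom =
      (L.map (MulAut.conj g).toMonoidHom).subgroupOf (Subgroup.centralizer ({g * y * g⁻¹} : Set G)) := by
    ext x
    rw [Subgroup.mem_map, Subgroup.mem_subgroupOf]
    constructor
    · rintro ⟨a, ha, rfl⟩
      exact ⟨a, Subgroup.mem_subgroupOf.mp ha, rfl⟩
    · rintro ⟨a, ha, hax⟩
      exact ⟨⟨a, hLy ha⟩, Subgroup.mem_subgroupOf.mpr ha, Subtype.ext hax⟩
  rw [← heq]
  exact Components.IsComponent.map_equiv e hL

/-- Let G be finite, x an involution and L ≤ C_G(x) a component of C_G(x). Suppose L is a component of C_G(y) for every involution y ∈ C_G(L), and ⁅L, g L g⁻¹⁆ ≠ 1 whenever g L g⁻¹ ≠ L. Then L is a standard subgroup of G. -/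
theorem result {G : Type*} [Group G] [Finite G] (x : G) (hx : orderOf x = 2) (L : Subgroup G) (hLx : L ≤ Subgroup.centralizer ({x} : Set G)) (hL : Cfsg.IsComponent (L.subgroupOf (Subgroup.centralizer ({x} : Set G)))) (hne : ∀ y : G, orderOf y = 2 → y ∈ Subgroup.centralizer (L : Set G) → L ≤ Subgroup.centralizer ({y} : Set G) ∧ Cfsg.IsComponent (L.subgroupOf (Subgroup.centralizer ({y} : Set G)))) (hnc : ∀ g : G, L.map (MulAut.conj g).toMonoidHom ≠ L → ⁅L, L.map (MulAut.conj g).toMonoidHom⁆ ≠ ⊥) : Cfsg.IsStandardSubgroup L := by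
  classical
  set K := Subgroup.centralizer (L : Set G) with hK
  have hxK : x ∈ K := Subgroup.mem_centralizer_iff.mpr fun l hl =>
    Subgroup.mem_centralizer_singleton_iff.mp (hLx hl)
  have key : ∀ g y : G, orderOf y = 2 → y ∈ K → g * y * g⁻¹ ∈ K → L.map (MulAut.conj g).toMonoidHom = L := by
    intro g y hy hyK hgy
    by_contra hne'
    obtain ⟨h1, h2⟩ := hne y hy hyK
    obtain ⟨h1', h2'⟩ := component_conj (g := g) h1 h2
    obtain ⟨h3, h4⟩ := hne (g * y * g⁻¹) (by rw [← MulAut.conj_apply, MulEquiv.orderOf_eq, hy]) hgy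
    have hcomm := Components.IsComponent.commutator_eq_bot h4 h2' (fun he => hne' (by
      have := congrArg (Subgroup.map (Subgroup.centralizer ({g * y * g⁻¹} : Set G)).subtype) he
      rw [Subgroup.map_subgroupOf_eq_of_le h3, Subgroup.map_subgroupOf_eq_of_le h1'] at this
      exact this.symm))
    apply hnc g hne'
    have := congrArg (Subgroup.map (Subgroup.centralizer ({g * y * g⁻¹} : Set G)).subtype) hcomm
    rwa [Subgroup.map_commutator, Subgroup.map_subgroupOf_eq_of_le h3, Subgroup.map_subgroupOf_eq_of_le h1',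
      Subgroup.map_bot] at this
  have hNN : Subgroup.normalizer (L : Set G) ≤ Subgroup.normalizer (K : Set G) := by
    intro g hg
    rw [Subgroup.mem_normalizer_iff]
    intro c
    have hg' := Subgroup.mem_normalizer_iff.mp hg
    rw [hK, Subgroup.mem_centralizer_iff, Subgroup.mem_centralizer_iff]
    constructor
    · intro hc l hl
      have h1 : g⁻¹ * l * g ∈ L := (hg' _).mpr (by simpa [mul_assoc] using hl)
      calc l * (g * c * g⁻¹) = g * ((g⁻¹ * l * g) * c) * g⁻¹ := by group
        _ = g * (c * (g⁻¹ * l * g)) * g⁻¹ := by rw [hc _ h1]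
        _ = g * c * g⁻¹ * l := by group
    · intro hc l hl
      have h1 : g * l * g⁻¹ ∈ L := (hg' _).mp hl
      calc l * c = g⁻¹ * ((g * l * g⁻¹) * (g * c * g⁻¹)) * g := by group
        _ = g⁻¹ * ((g * c * g⁻¹) * (g * l * g⁻¹)) * g := by rw [hc _ h1]
        _ = c * l := by group
  have hnorm : ∀ g : G, L.map (MulAut.conj g).toMonoidHom = L → g ∈ Subgroup.normalizer (L : Set G) :=
    fun g h => Subgroup.mem_normalizer_iff_map_conj_eq.mpr h
  refine ⟨?_, ⟨?_, ?_⟩, hnc, le_antisymm hNN ?_⟩
  · exact (Components.isQuasisimple_congr (Subgroup.subgroupOfEquivOfLe hLx)).mp hL.2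
  · rw [even_iff_two_dvd]
    have h2 : orderOf (⟨x, hxK⟩ : K) = 2 := by rw [← Subgroup.orderOf_coe]; exact hx
    exact h2 ▸ orderOf_dvd_natCard _
  · intro g hg
    haveI : Fact (Nat.Prime 2) := ⟨Nat.prime_two⟩
    rw [← Nat.not_even_iff_odd, even_iff_two_dvd]
    intro h2
    obtain ⟨z, hz⟩ := exists_prime_orderOf_dvd_card' 2 h2
    obtain ⟨y, hy, hyz⟩ := z.2.2
    simp only [MulEquiv.coe_toMonoidHom, MulAut.conj_apply] at hyz
    have hy2 : orderOf y = 2 := by
      rw [← hz, ← Subgroup.orderOf_coe, ← hyz, ← MulAut.conj_apply, MulEquiv.orderOf_eq]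
    exact hg (hNN (hnorm g (key g y hy2 hy (hyz ▸ z.2.1))))
  · intro g hg
    exact hnorm g (key g x hx hxK ((Subgroup.mem_normalizer_iff.mp hg x).mp hxK))

end Cfsg.Agent.S1306
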