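import Cfsg.Statements.S1312
import Cfsg.Agent.Lib.Components.GenFitting
import Cfsg.Agent.Lib.Components.Centralize
import Cfsg.Agent.Lib.Components.PComponent

set_option autoImplicit false
open Cfsg

namespace Cfsg.Agent.S1312

open Subgroup

section
variable {G : Type*} [Group G] [Finite G]

theorem normalizer_eq [IsSimpleGroup G] {M : Subgroup G} (hM : IsCoatom M) (U : Subgroup G)
    (hU : U ≠ ⊥) (hUM : U ≤ M) (hn : M ≤ normalizer (U : Set G)) :
    normalizer (U : Set G) = M := by
  refine (hM.le_iff.mp hn).resolve_left fun h => ?_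
  rcases (normalizer_eq_top_iff.mp h).eq_bot_or_eq_top with h1 | h1
  · exact hU h1
  · exact hM.1 (top_le_iff.mp (h1 ▸ hUM))

theorem map_normal_le_normalizer {M : Subgroup G} (U : Subgroup ↥M) [hU : U.Normal] :
    M ≤ normalizer (U.map M.subtype : Set G) := by
  have h := le_normalizer_map (H := U) M.subtype
  rwa [normalizer_eq_top_iff.mpr hU, ← MonoidHom.range_eq_map, range_subtype] at h

theorem map_pCore_ne_bot {M : Subgroup G} {q : ℕ} (h : Cfsg.pCore q ↥M ≠ ⊥) :
    (Cfsg.pCore q ↥M).map M.subtype ≠ ⊥ := fun he => h (by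
  rwa [Subgroup.map_eq_bot_iff, ker_subtype, le_bot_iff] at he)

/-- The layer of `M` lies in that of `N`. -/
theorem layer_le (M N : Subgroup G)
    (h1 : (Cfsg.generalizedFittingSubgroup ↥M).map M.subtype ≤ N)
    (h2 : (Cfsg.generalizedFittingSubgroup ↥N).map N.subtype ≤ M) :
    (Cfsg.layer ↥M).map M.subtype ≤ (Cfsg.layer ↥N).map N.subtype := by
  rw [map_le_iff_le_comap]
  refine Cfsg.Agent.Components.layer_le fun L hL => map_le_iff_le_comap.mp ?_
  set L0 := L.map M.subtype with hL0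
  have hLN : L0 ≤ N := (map_mono ((Cfsg.Agent.Components.IsComponent.le_layer hL).trans
    Cfsg.Agent.Components.layer_le_genFitting)).trans h1
  set D := (M ⊓ N).subgroupOf M with hD
  have hLD : L ≤ D := fun l hl => mem_subgroupOf.mpr ⟨l.2, hLN ⟨l, hl, rfl⟩⟩
  set B := Cfsg.generalizedFittingSubgroup ↥N with hB
  -- `B` as a normal subgroup of `D`
  set BD := ((B.map N.subtype).subgroupOf M).subgroupOf D with hBD
  have hBDn : BD.Normal := ⟨fun b hb d => by
    refine mem_subgroupOf.mpr (mem_subgroupOf.mpr ?_)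
    exact (mem_normalizer_iff.mp (map_normal_le_normalizer B
      (mem_subgroupOf.mp d.2).2) _).mp (mem_subgroupOf.mp (mem_subgroupOf.mp hb))⟩
  have hLc := Cfsg.Agent.Components.IsComponent.subgroupOf hL hLD
  rcases Cfsg.Agent.Components.IsComponent.le_or_commutes hLc hBDn.isSubnormal with h | h
  · -- `L0` is a subgroup of `B`, hence a component of `N`
    have hLB : L0 ≤ B.map N.subtype := by
      rintro _ ⟨l, hl, rfl⟩
      exact mem_subgroupOf.mp (mem_subgroupOf.mp (h (show (⟨l, hLD hl⟩ : ↥D) ∈ L.subgroupOf D from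
        mem_subgroupOf.mpr hl)))
    have hBM : B.map N.subtype ≤ M := h2
    set LN := L0.subgroupOf N with hLN'
    have hLNB : LN ≤ B := fun x hx => by
      obtain ⟨b, hb, hbx⟩ := hLB (mem_subgroupOf.mp hx)
      rwa [Subtype.ext hbx] at hb
    have hc : Cfsg.IsComponent LN := by
      refine Cfsg.Agent.Components.IsComponent.of_subgroupOf (H := B) (Normal.isSubnormal inferInstance)
        hLNB ⟨?_, ?_⟩
      · have hh := hL.1.comap (inclusion hBM)
        have e : LN.subgroupOf B = (L.comap (inclusion hBM)).comap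
            (B.equivMapOfInjective N.subtype (subtype_injective N)).toMonoidHom := by
          ext b
          simp only [LN, hLN', mem_subgroupOf, mem_comap, L0, hL0]
          constructor
          · rintro ⟨l, hl, hlb⟩
            have e : l = inclusion hBM ((B.equivMapOfInjective N.subtype (subtype_injective N)) b) :=
              Subtype.ext hlb
            exact e ▸ hl
          · intro hb
            exact ⟨_, hb, rfl⟩
        rw [e]
        exact hh.comap _
      · rw [← Cfsg.Agent.Components.isQuasisimple_map_iff (subtype_injective B),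
          map_subgroupOf_eq_of_le hLNB,
          ← Cfsg.Agent.Components.isQuasisimple_map_iff (subtype_injective N),
          map_subgroupOf_eq_of_le hLN]
        exact (Cfsg.Agent.Components.isQuasisimple_map_iff (subtype_injective M) L).mpr hL.2
    have hh := map_mono (f := N.subtype) (Cfsg.Agent.Components.IsComponent.le_layer hc)
    rwa [map_subgroupOf_eq_of_le hLN] at hh
  · exfalso
    have hLC : L0.subgroupOf N ≤ centralizer (B : Set ↥N) := by
      intro x hx b hb
      obtain ⟨l, hl, hlx⟩ := mem_subgroupOf.mp hx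
      have hbM : (b : G) ∈ M := h2 ⟨b, hb, rfl⟩
      have hbD : (⟨b, hbM⟩ : ↥M) ∈ D := mem_subgroupOf.mpr ⟨hbM, b.2⟩
      have hh := (commutator_eq_bot_iff_le_centralizer.mp h)
        (show (⟨l, hLD hl⟩ : ↥D) ∈ L.subgroupOf D from mem_subgroupOf.mpr hl) ⟨⟨b, hbM⟩, hbD⟩
        (mem_subgroupOf.mpr (mem_subgroupOf.mpr ⟨b, hb, rfl⟩))
      refine Subtype.ext ?_
      have hh' := congrArg (fun u : ↥D => ((u : ↥M) : G)) hh
      simpa [← hlx] using hh'
    have hB2 : L0.subgroupOf N ≤ B := hLC.trans Cfsg.Agent.Components.centralizer_genFitting_le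
    refine Cfsg.Agent.Components.IsQuasisimple.not_isMulCommutative
      ((Cfsg.Agent.Components.isQuasisimple_map_iff (subtype_injective M) L).mpr hL.2) ?_
    refine le_centralizer_iff_isMulCommutative.mp fun x hx y hy => ?_
    exact congrArg Subtype.val (hLC (show (⟨x, hLN hx⟩ : ↥N) ∈ L0.subgroupOf N from
      mem_subgroupOf.mpr hx) ⟨y, hLN hy⟩ (hB2 (mem_subgroupOf.mpr hy)))

/-- `O_s(N)` centralises the `s'`-part of `F(M)`. -/
theorem pCore_le_centralizer (M N : Subgroup G)
    (h1 : (Cfsg.fittingSubgroup ↥M).map M.subtype ≤ N) (s : ℕ) [Fact s.Prime] :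
    ((Cfsg.pCore s ↥N).map N.subtype).subgroupOf M ≤
      centralizer (↑(Cfsg.fittingSubgroup ↥M ⊓ Cfsg.pPrimeCore s ↥M) : Set ↥M) := by
  rw [← commutator_eq_bot_iff_le_centralizer, ← le_bot_iff]
  set B := ((Cfsg.pCore s ↥N).map N.subtype).subgroupOf M with hB
  have hd : B ⊓ (Cfsg.fittingSubgroup ↥M ⊓ Cfsg.pPrimeCore s ↥M) = ⊥ := by
    obtain ⟨n, hn⟩ := IsPGroup.iff_card.mp
      (((Cfsg.Agent.Cores.isPGroup_pCore s ↥N).map N.subtype).comap_subtype (K := M))
    refine inf_eq_bot_of_coprime ?_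
    rw [hB, subgroupOf, hn]
    exact Nat.Coprime.pow_left n (((Cfsg.Agent.Cores.coprime_card_pPrimeCore (G := ↥M) s)
      |>.coprime_dvd_left (card_dvd_of_le inf_le_right)).symm)
  rw [← hd]
  refine le_inf (le_normalizer_iff_commutator_le_left.mp ?_) (commutator_le_right _ _)
  intro d hd'
  exact le_normalizer_comap M.subtype
    (map_normal_le_normalizer (Cfsg.pCore s ↥N) (h1 ⟨d, hd'.1, rfl⟩))

/-- `O_q(N) ≤ O_q(M)` when `F(N)` involves another prime. -/
theorem pCore_le [IsSimpleGroup G] (M N : Subgroup G) (hN : IsCoatom N)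
    (hEM : Cfsg.layer ↥M = ⊥)
    (h1 : (Cfsg.fittingSubgroup ↥M).map M.subtype ≤ N)
    (h2 : (Cfsg.fittingSubgroup ↥N).map N.subtype ≤ M)
    (q r : ℕ) [Fact q.Prime] [Fact r.Prime] (hqr : q ≠ r) (hr : Cfsg.pCore r ↥N ≠ ⊥) :
    (Cfsg.pCore q ↥N).map N.subtype ≤ (Cfsg.pCore q ↥M).map M.subtype := by
  set D := N.subgroupOf M with hD
  let BM : ℕ → Subgroup ↥M := fun s => ((Cfsg.pCore s ↥N).map N.subtype).subgroupOf M
  let A' : ℕ → Subgroup ↥M := fun s => Cfsg.fittingSubgroup ↥M ⊓ Cfsg.pPrimeCore s ↥M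
  let C : ℕ → Subgroup ↥M := fun s => centralizer (A' s : Set ↥M)
  have hBle : ∀ s (_ : Fact s.Prime), (Cfsg.pCore s ↥N).map N.subtype ≤ M := fun s _ =>
    (map_mono (Cfsg.Agent.Cores.pCore_le_fittingSubgroup s)).trans h2
  have hBp : ∀ s, IsPGroup s ↥(BM s) := fun s =>
    ((Cfsg.Agent.Cores.isPGroup_pCore s ↥N).map N.subtype).comap_subtype
  have hBD : ∀ s, BM s ≤ D := fun s x hx =>
    mem_subgroupOf.mpr (map_subtype_le _ (mem_subgroupOf.mp hx))
  have hDB : ∀ s, D ≤ normalizer (BM s : Set ↥M) := fun s d hd =>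
    le_normalizer_comap M.subtype (map_normal_le_normalizer (Cfsg.pCore s ↥N) (mem_subgroupOf.mp hd))
  have hFD : Cfsg.fittingSubgroup ↥M ≤ D := fun x hx => mem_subgroupOf.mpr (h1 ⟨x, hx, rfl⟩)
  have hBC : ∀ s (_ : Fact s.Prime), BM s ≤ C s := fun s _ => pCore_le_centralizer M N h1 s
  set K := Cfsg.Agent.Components.pPrimeGen r (C q) with hK
  have hFeq : ∀ s (_ : Fact s.Prime), Cfsg.fittingSubgroup ↥M ≤ Cfsg.pCore s ↥M ⊔ A' s := by
    intro s _
    conv_lhs => rw [Cfsg.Agent.Cores.fittingSubgroup_eq_iSup_pCore]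
    refine iSup_le fun t => ?_
    by_cases ht : (t : ℕ) = s
    · rw [ht]; exact le_sup_left
    · haveI : Fact (t : ℕ).Prime := ⟨t.2⟩
      refine le_trans (le_inf (Cfsg.Agent.Cores.pCore_le_fittingSubgroup (t : ℕ)) ?_) le_sup_right
      refine Cfsg.Agent.Cores.le_pPrimeCore (Cfsg.Agent.Cores.pCore_normal (t : ℕ) ↥M) ?_
      obtain ⟨n, hn⟩ := IsPGroup.iff_card.mp (Cfsg.Agent.Cores.isPGroup_pCore (t : ℕ) ↥M)
      rw [hn]
      exact Nat.Coprime.pow_left n ((Nat.coprime_primes t.2 Fact.out).mpr ht)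
  have hKD : K ≤ D := by
    rw [hK, Cfsg.Agent.Components.pPrimeGen, closure_le]
    rintro c ⟨hc, hco⟩
    have hcb : ∀ b ∈ BM r, c * b = b * c := by
      intro b hb
      set x := c * b * c⁻¹ * b⁻¹ with hx
      have hxC : x ∈ C q ⊓ C r := by
        refine ⟨?_, ?_⟩
        · rw [hx, mul_assoc, mul_assoc, ← mul_assoc b]
          exact (C q).mul_mem hc ((inferInstance : (C q).Normal).conj_mem _ ((C q).inv_mem hc) b)
        · exact (C r).mul_mem ((inferInstance : (C r).Normal).conj_mem b (hBC r inferInstance hb) c)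
            ((C r).inv_mem (hBC r inferInstance hb))
      have hxF : x ∈ Cfsg.fittingSubgroup ↥M := by
        apply Cfsg.Agent.Components.centralizer_genFitting_le_fitting
        rw [Cfsg.Agent.Components.genFitting_eq_fitting_of_layer_eq_bot hEM]
        have hle : Cfsg.fittingSubgroup ↥M ≤ centralizer ({x} : Set ↥M) := by
          refine (hFeq r inferInstance).trans (sup_le ?_ ?_)
          · have : Cfsg.pCore r ↥M ≤ A' q := le_inf (Cfsg.Agent.Cores.pCore_le_fittingSubgroup r) (by
              refine Cfsg.Agent.Cores.le_pPrimeCore (Cfsg.Agent.Cores.pCore_normal r ↥M) ?_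
              obtain ⟨n, hn⟩ := IsPGroup.iff_card.mp (Cfsg.Agent.Cores.isPGroup_pCore r ↥M)
              rw [hn]
              exact Nat.Coprime.pow_left n ((Nat.coprime_primes Fact.out Fact.out).mpr (Ne.symm hqr)))
            intro y hy z hz
            rw [Set.mem_singleton_iff] at hz
            subst hz
            exact (hxC.1 y (this hy)).symm
          · intro y hy z hz
            rw [Set.mem_singleton_iff] at hz
            subst hz
            exact (hxC.2 y hy).symm
        exact fun y hy => (hle hy x rfl).symm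
      obtain ⟨u, hu, v, hv, huv⟩ := mem_sup_of_normal_right.mp (hFeq r inferInstance hxF)
      obtain ⟨j, hj⟩ := hBp r ⟨b, hb⟩
      obtain ⟨i, hi⟩ := Cfsg.Agent.Cores.isPGroup_pCore r ↥M ⟨u, hu⟩
      have hj' : b ^ r ^ j = 1 := congrArg Subtype.val hj
      have hi' : u ^ r ^ i = 1 := congrArg Subtype.val hi
      -- the r'-part of `x` is trivial
      have hvu : Commute v u := (Cfsg.Agent.Cores.pCore_pPrimeCore_commute hu hv.2).symm
      have hvb : Commute v b := hBC r inferInstance hb v hv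
      have hubp : IsPGroup r ↥(Cfsg.pCore r ↥M ⊔ BM r) :=
        IsPGroup.to_sup_of_normal_left (Cfsg.Agent.Cores.isPGroup_pCore r ↥M) (hBp r)
      have hub : ∃ m, (u * b) ^ r ^ m = 1 := by
        obtain ⟨m, hm⟩ := hubp ⟨u * b, mul_mem_sup hu hb⟩
        exact ⟨m, congrArg Subtype.val hm⟩
      obtain ⟨m, hm⟩ := hub
      have hcbc : (c * b * c⁻¹) ^ r ^ (max m j) = 1 := by
        rw [conj_pow, orderOf_dvd_iff_pow_eq_one.mp ((orderOf_dvd_of_pow_eq_one hj').trans
          (pow_dvd_pow r (le_max_right m j)))]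
        group
      have hv1 : v = 1 := by
        have e : c * b * c⁻¹ = v * (u * b) := by
          rw [← mul_assoc, hvu.eq, huv, hx]; group
        rw [e, (hvu.mul_right hvb).mul_pow, orderOf_dvd_iff_pow_eq_one.mp
          ((orderOf_dvd_of_pow_eq_one hm).trans (pow_dvd_pow r (le_max_left m j))), mul_one] at hcbc
        have h3 := pow_gcd_eq_one.mpr
          ⟨orderOf_dvd_iff_pow_eq_one.mp (Subgroup.orderOf_dvd_natCard _ hv.2), hcbc⟩
        rwa [((Cfsg.Agent.Cores.coprime_card_pPrimeCore r).pow_right _).gcd_eq_one, pow_one] at h3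
      rw [hv1, mul_one] at huv
      subst huv
      have hcx : c * x = x * c := by
        refine (hc x ?_).symm
        refine ⟨hxF, Cfsg.Agent.Cores.le_pPrimeCore (Cfsg.Agent.Cores.pCore_normal r ↥M) ?_ hu⟩
        obtain ⟨n, hn⟩ := IsPGroup.iff_card.mp (Cfsg.Agent.Cores.isPGroup_pCore r ↥M)
        rw [hn]
        exact Nat.Coprime.pow_left n ((Nat.coprime_primes Fact.out Fact.out).mpr (Ne.symm hqr))
      have hiter : ∀ n : ℕ, c ^ n * b * (c ^ n)⁻¹ = x ^ n * b := by
        intro n
        induction n with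
        | zero => simp
        | succ n ih =>
          calc c ^ (n + 1) * b * (c ^ (n + 1))⁻¹ = c * (c ^ n * b * (c ^ n)⁻¹) * c⁻¹ := by
                rw [pow_succ']; group
            _ = (c * x ^ n) * b * c⁻¹ := by rw [ih]; group
            _ = (x ^ n * c) * b * c⁻¹ := by rw [(Commute.pow_right hcx n).eq]
            _ = x ^ (n + 1) * b := by rw [pow_succ, hx]; group
      have hxN : x ^ orderOf c = 1 := by
        have := hiter (orderOf c)
        rw [pow_orderOf_eq_one] at this
        simpa using this.symm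
      have hx1 : x = 1 := by
        have h3 := pow_gcd_eq_one.mpr ⟨hxN, hi'⟩
        rwa [(hco.pow_right i).gcd_eq_one, pow_one] at h3
      calc c * b = c * b * c⁻¹ * b⁻¹ * (b * c) := by group
        _ = b * c := by rw [← hx, hx1, one_mul]
    refine mem_subgroupOf.mpr ?_
    rw [← normalizer_eq hN _ (map_pCore_ne_bot hr) (map_subtype_le _) (map_normal_le_normalizer _)]
    refine centralizer_le_normalizer _ fun y hy => ?_
    exact congrArg Subtype.val (hcb ⟨y, hBle r inferInstance hy⟩ (mem_subgroupOf.mpr hy)).symm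
  have hKn : K.Normal := by
    rw [← normalizer_eq_top_iff, eq_top_iff]
    exact (normalizer_eq_top (H := C q)).ge.trans
      (Cfsg.Agent.Components.normalizer_le_normalizer_pPrimeGen r (C q))
  have hBK : BM q ≤ K := fun b hb => subset_closure ⟨hBC q inferInstance hb, by
    obtain ⟨n, hn⟩ := IsPGroup.iff_card.mp (hBp q)
    refine Nat.Coprime.coprime_dvd_left (Subgroup.orderOf_dvd_natCard _ hb) ?_
    rw [hn]
    exact Nat.Coprime.pow_left n ((Nat.coprime_primes Fact.out Fact.out).mpr hqr)⟩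
  have hn : ((BM q).subgroupOf K).Normal :=
    normal_subgroupOf_of_le_normalizer (hKD.trans (hDB q))
  have hle : (BM q).subgroupOf K ≤ Cfsg.pCore q ↥K :=
    Cfsg.Agent.Cores.le_pCore hn (hBp q).comap_subtype
  intro g hg
  have hgM : g ∈ M := hBle q inferInstance hg
  have hgB : (⟨g, hgM⟩ : ↥M) ∈ BM q := mem_subgroupOf.mpr hg
  have h3 : (⟨g, hgM⟩ : ↥M) ∈ (Cfsg.pCore q ↥K).map K.subtype :=
    ⟨⟨_, hBK hgB⟩, hle (mem_subgroupOf.mpr hgB), rfl⟩
  rw [Cfsg.Agent.Cores.pCore_map_subtype] at h3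
  exact ⟨_, h3.1, rfl⟩

end

/-- Let G be a non-abelian finite simple group and M ≠ N maximal subgroups of G with F*(M) ≤ N and F*(N) ≤ M. Then there is a prime p such that F*(M) and F*(N) are both p-groups. -/
theorem result {G : Type*} [Group G] [Finite G] [IsSimpleGroup G] (hna : ¬ IsMulCommutative G) (M N : Subgroup G) (hM : IsCoatom M) (hN : IsCoatom N) (hMN : M ≠ N) (h1 : (Cfsg.generalizedFittingSubgroup ↥M).map M.subtype ≤ N) (h2 : (Cfsg.generalizedFittingSubgroup ↥N).map N.subtype ≤ M) : ∃ p : ℕ, p.Prime ∧ IsPGroup p ↥(Cfsg.generalizedFittingSubgroup ↥M) ∧ IsPGroup p ↥(Cfsg.generalizedFittingSubgroup ↥N) := by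
  have hne : ∀ X : Subgroup G, IsCoatom X → Cfsg.fittingSubgroup ↥X = ⊥ → Cfsg.layer ↥X = ⊥ → False := by
    intro X hX hF hE
    have h := Cfsg.Agent.Components.centralizer_genFitting_le_fitting (G := ↥X)
    rw [Cfsg.Agent.Components.genFitting_eq_fitting_of_layer_eq_bot hE, hF] at h
    have htop : (⊤ : Subgroup ↥X) ≤ ⊥ := fun x hx => h fun y hy => by
      rw [SetLike.mem_coe, mem_bot] at hy
      rw [hy, one_mul, mul_one]
    have hXbot : X = ⊥ := by
      rw [eq_bot_iff]
      intro x hx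
      exact congrArg Subtype.val (mem_bot.mp (htop (mem_top (⟨x, hx⟩ : ↥X))))
    -- a trivial maximal subgroup
    subst hXbot
    obtain ⟨g, hg⟩ := exists_ne (1 : G)
    have hz : zpowers g = ⊤ := hX.2 _ (bot_lt_iff_ne_bot.mpr fun h => hg (zpowers_eq_bot.mp h))
    exact hna ⟨⟨fun a b => by
      obtain ⟨i, rfl⟩ : a ∈ zpowers g := hz ▸ mem_top a
      obtain ⟨j, rfl⟩ : b ∈ zpowers g := hz ▸ mem_top b
      show g ^ i * g ^ j = g ^ j * g ^ i
      rw [← zpow_add, ← zpow_add, add_comm]⟩⟩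
  have hmapeq : ∀ U : Subgroup ↥M, ∀ V : Subgroup ↥N, U.Normal → V.Normal → U ≠ ⊥ →
      U.map M.subtype = V.map N.subtype → False := by
    intro U V hU hV hU1 he
    have hU1' : U.map M.subtype ≠ ⊥ := fun h => hU1 (by
      rwa [Subgroup.map_eq_bot_iff, ker_subtype, le_bot_iff] at h)
    have e1 := normalizer_eq hM _ hU1' (map_subtype_le _) (map_normal_le_normalizer U)
    have e2 := normalizer_eq hN _ (he ▸ hU1') (map_subtype_le _) (map_normal_le_normalizer V)
    rw [he, e2] at e1
    exact hMN e1.symm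
  have hEM : Cfsg.layer ↥M = ⊥ := by
    by_contra h
    exact hmapeq _ _ inferInstance inferInstance h (le_antisymm (layer_le M N h1 h2) (layer_le N M h2 h1))
  have hEN : Cfsg.layer ↥N = ⊥ := by
    by_contra h
    have he := le_antisymm (layer_le M N h1 h2) (layer_le N M h2 h1)
    rw [hEM, Subgroup.map_bot, eq_comm, Subgroup.map_eq_bot_iff, ker_subtype, le_bot_iff] at he
    exact h he
  rw [Cfsg.Agent.Components.genFitting_eq_fitting_of_layer_eq_bot hEM] at h1 ⊢
  rw [Cfsg.Agent.Components.genFitting_eq_fitting_of_layer_eq_bot hEN] at h2 ⊢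
  -- `F(N)` has only one prime
  have one_prime : ∀ q r : Nat.Primes, q ≠ r → Cfsg.pCore (q : ℕ) ↥N ≠ ⊥ →
      Cfsg.pCore (r : ℕ) ↥N ≠ ⊥ → False := by
    intro q r hqr hq hr
    have step : ∀ t : Nat.Primes,
        (Cfsg.pCore (t : ℕ) ↥N).map N.subtype ≤ (Cfsg.pCore (t : ℕ) ↥M).map M.subtype := by
      intro t
      haveI : Fact (t : ℕ).Prime := ⟨t.2⟩
      by_cases htq : t = q
      · haveI : Fact (r : ℕ).Prime := ⟨r.2⟩
        exact pCore_le M N hN hEM h1 h2 _ (r : ℕ) (fun h => hqr (htq ▸ Subtype.ext h)) hr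
      · haveI : Fact (q : ℕ).Prime := ⟨q.2⟩
        exact pCore_le M N hN hEM h1 h2 _ (q : ℕ) (fun h => htq (Subtype.ext h)) hq
    have hMne : ∀ t : Nat.Primes, Cfsg.pCore (t : ℕ) ↥N ≠ ⊥ → Cfsg.pCore (t : ℕ) ↥M ≠ ⊥ :=
      fun t ht h => map_pCore_ne_bot ht (le_bot_iff.mp ((step t).trans (by rw [h, Subgroup.map_bot])))
    haveI : Fact (q : ℕ).Prime := ⟨q.2⟩
    haveI : Fact (r : ℕ).Prime := ⟨r.2⟩
    exact hmapeq _ _ (Cfsg.Agent.Cores.pCore_normal (q : ℕ) ↥M) (Cfsg.Agent.Cores.pCore_normal (q : ℕ) ↥N)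
      (hMne q hq) (le_antisymm
        (pCore_le N M hM hEN h2 h1 (q : ℕ) (r : ℕ) (fun h => hqr (Subtype.ext h)) (hMne r hr)) (step q))
  have hFN : Cfsg.fittingSubgroup ↥N ≠ ⊥ := fun h => hne N hN h hEN
  obtain ⟨p, hp⟩ : ∃ p : Nat.Primes, Cfsg.pCore (p : ℕ) ↥N ≠ ⊥ := by
    by_contra hc
    simp only [not_exists, not_not] at hc
    exact hFN (Cfsg.Agent.Cores.fittingSubgroup_eq_bot_iff.mpr fun q hq => hc ⟨q, hq⟩)
  haveI : Fact (p : ℕ).Prime := ⟨p.2⟩
  have hFNp : Cfsg.fittingSubgroup ↥N = Cfsg.pCore (p : ℕ) ↥N := by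
    refine le_antisymm ?_ (Cfsg.Agent.Cores.pCore_le_fittingSubgroup _)
    rw [Cfsg.Agent.Cores.fittingSubgroup_eq_iSup_pCore]
    refine iSup_le fun q => ?_
    by_cases hq : q = p
    · rw [hq]
    · by_cases hq1 : Cfsg.pCore (q : ℕ) ↥N = ⊥
      · rw [hq1]; exact bot_le
      · exact (one_prime q p hq hq1 hp).elim
  refine ⟨p, p.2, ?_, hFNp ▸ Cfsg.Agent.Cores.isPGroup_pCore _ _⟩
  -- the same prime for `F(M)`
  have hFMp : Cfsg.fittingSubgroup ↥M ≤ Cfsg.pCore (p : ℕ) ↥M := by
    rw [Cfsg.Agent.Cores.fittingSubgroup_eq_iSup_pCore]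
    refine iSup_le fun q => ?_
    by_cases hq : q = p
    · rw [hq]
    · by_cases hq1 : Cfsg.pCore (q : ℕ) ↥M = ⊥
      · rw [hq1]; exact bot_le
      · haveI : Fact (q : ℕ).Prime := ⟨q.2⟩
        -- then `O_p(N) ≤ O_p(M)` and symmetrically `O_q(M) ≤ O_q(N) = 1`
        have h3 := pCore_le N M hM hEN h2 h1
        have hp' : Cfsg.pCore (p : ℕ) ↥M ≠ ⊥ := by
          intro hpM
          -- otherwise `O_p(N)` centralises `F(M)`, hence lies in it
          have hA : Cfsg.fittingSubgroup ↥M ≤ Cfsg.pPrimeCore (p : ℕ) ↥M := by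
            rw [Cfsg.Agent.Cores.fittingSubgroup_eq_iSup_pCore]
            refine iSup_le fun t => ?_
            by_cases ht : t = p
            · rw [ht, hpM]; exact bot_le
            · haveI : Fact (t : ℕ).Prime := ⟨t.2⟩
              refine Cfsg.Agent.Cores.le_pPrimeCore (Cfsg.Agent.Cores.pCore_normal (t : ℕ) ↥M) ?_
              obtain ⟨n, hn⟩ := IsPGroup.iff_card.mp (Cfsg.Agent.Cores.isPGroup_pCore (t : ℕ) ↥M)
              rw [hn]
              exact Nat.Coprime.pow_left n
                ((Nat.coprime_primes t.2 p.2).mpr fun h => ht (Subtype.ext h))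
          have hc := pCore_le_centralizer M N h1 (p : ℕ)
          rw [inf_eq_left.mpr hA] at hc
          have hBF : ((Cfsg.pCore (p : ℕ) ↥N).map N.subtype).subgroupOf M ≤
              Cfsg.fittingSubgroup ↥M := fun x hx =>
            Cfsg.Agent.Components.centralizer_genFitting_le_fitting (by
              rw [Cfsg.Agent.Components.genFitting_eq_fitting_of_layer_eq_bot hEM]
              exact hc hx)
          obtain ⟨n, hn⟩ := IsPGroup.iff_card.mp
            (((Cfsg.Agent.Cores.isPGroup_pCore (p : ℕ) ↥N).map N.subtype).comap_subtype (K := M))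
          have hbot : ((Cfsg.pCore (p : ℕ) ↥N).map N.subtype).subgroupOf M = ⊥ := by
            have := inf_eq_bot_of_coprime
              (show Nat.Coprime (Nat.card ↥(((Cfsg.pCore (p : ℕ) ↥N).map N.subtype).subgroupOf M))
                (Nat.card ↥(Cfsg.fittingSubgroup ↥M)) by
              rw [subgroupOf, hn]
              exact Nat.Coprime.pow_left n (((Cfsg.Agent.Cores.coprime_card_pPrimeCore (G := ↥M) (p : ℕ))
                |>.coprime_dvd_left (card_dvd_of_le hA)).symm))
            rwa [inf_eq_left.mpr hBF] at this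
          rw [subgroupOf_eq_bot, disjoint_iff, inf_eq_left.mpr
            ((map_mono (Cfsg.Agent.Cores.pCore_le_fittingSubgroup _)).trans h2)] at hbot
          exact map_pCore_ne_bot hp hbot
        have h5 := h3 (q : ℕ) (p : ℕ) (fun h => hq (Subtype.ext h)) hp'
        have hq2 : Cfsg.pCore (q : ℕ) ↥N = ⊥ := by
          by_contra h6
          exact one_prime q p hq h6 hp
        rw [hq2, Subgroup.map_bot, le_bot_iff] at h5
        exact absurd h5 (map_pCore_ne_bot hq1)
  exact (Cfsg.Agent.Cores.isPGroup_pCore _ _).to_le hFMp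

end Cfsg.Agent.S1312
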