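import Cfsg.Statements.S1313
import Cfsg.Agent.Lib.Components.GenFitting

set_option autoImplicit false
open Cfsg

namespace Cfsg.Agent.S1313

/-- For a finite group H, |H| ≤ |F*(H)|!. -/
theorem result {H : Type*} [Group H] [Finite H] : Nat.card H ≤ Nat.factorial (Nat.card ↥(Cfsg.generalizedFittingSubgroup H)) := by
  classical
  set F := Cfsg.generalizedFittingSubgroup H
  set f : H →* MulAut ↥F := MulAut.conjNormal
  let ψ : MulAut ↥F →* Equiv.Perm {a : ↥F // a ≠ 1} :=
    { toFun := fun φ => Equiv.Perm.subtypePerm φ.toEquiv fun a =>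
        not_congr (EmbeddingLike.map_eq_one_iff (f := φ))
      map_one' := by ext a; rfl
      map_mul' := fun φ χ => by ext a; rfl }
  have hψ : Function.Injective ψ := by
    intro φ χ h
    apply MulEquiv.ext
    intro a
    by_cases ha : a = 1
    · rw [ha, map_one, map_one]
    · exact congrArg (fun σ : Equiv.Perm {a : ↥F // a ≠ 1} => ((σ ⟨a, ha⟩ : _) : ↥F)) h
  have hker : f.ker ≤ F := by
    intro g hg
    refine Cfsg.Agent.Components.centralizer_genFitting_le fun y hy => ?_
    have h1 : g * y * g⁻¹ = y := by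
      have h2 := congrArg (fun φ : MulAut ↥F => ((φ ⟨y, hy⟩ : ↥F) : H)) (MonoidHom.mem_ker.mp hg)
      simpa [f, MulAut.conjNormal_apply] using h2
    calc y * g = g * y * g⁻¹ * g := by rw [h1]
      _ = g * y := by group
  have hidx : f.ker.index ≤ Nat.factorial (Nat.card ↥F - 1) := by
    have h1 : f.ker.index = Nat.card ↥f.range := Subgroup.index_ker f
    have h2 : Nat.card {a : ↥F // a ≠ 1} = Nat.card ↥F - 1 := by
      have := Fintype.ofFinite ↥F
      rw [Nat.card_eq_fintype_card, Nat.card_eq_fintype_card, Fintype.card_subtype_compl,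
        Fintype.card_subtype_eq]
    calc f.ker.index = Nat.card ↥f.range := h1
      _ ≤ Nat.card (Equiv.Perm {a : ↥F // a ≠ 1}) :=
          Nat.card_le_card_of_injective (fun φ => ψ φ.1)
            (fun a b h => Subtype.ext (hψ h))
      _ = Nat.factorial (Nat.card ↥F - 1) := by rw [Nat.card_perm, h2]
  calc Nat.card H = Nat.card ↥f.ker * f.ker.index := (Subgroup.card_mul_index _).symm
    _ ≤ Nat.card ↥F * Nat.factorial (Nat.card ↥F - 1) :=
        Nat.mul_le_mul (Subgroup.card_le_of_le hker) hidx
    _ = Nat.factorial (Nat.card ↥F) := Nat.mul_factorial_pred Nat.card_pos.ne'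

end Cfsg.Agent.S1313
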