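import Cfsg.Statements.S1314
import Cfsg.Agent.EqLemmas

set_option autoImplicit false
open Cfsg

namespace Cfsg.Agent.S1314

open scoped commutatorElement Pointwise

/-- Let x be an involution of a group G and L a perfect subgroup with ⁅L, x L x⁻¹⁆ = 1. Then l ↦ l (x l x⁻¹) is a group homomorphism π from L to G whose kernel is central in L and whose image lies in C_G(x); and the commutator subgroup of C_{L ⊔ xLx⁻¹}(x) equals the image of π. -/
theorem result {G : Type*} [Group G] [Finite G] (x : G) (hx : orderOf x = 2) (L : Subgroup G) (hperf : ⁅L, L⁆ = L) (hcomm : ⁅L, L.map (MulAut.conj x).toMonoidHom⁆ = ⊥) : ∃ π : ↥L →* G, (∀ l : ↥L, π l = (l : G) * (x * (l : G) * x⁻¹)) ∧ π.ker ≤ Subgroup.center ↥L ∧ π.range ≤ Subgroup.centralizer ({x} : Set G) ∧ ⁅(L ⊔ L.map (MulAut.conj x).toMonoidHom) ⊓ Subgroup.centralizer ({x} : Set G), (L ⊔ L.map (MulAut.conj x).toMonoidHom) ⊓ Subgroup.centralizer ({x} : Set G)⁆ = π.range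 := by
  set M := L.map (MulAut.conj x).toMonoidHom with hM
  have hx2 : x * x = 1 := by rw [← sq, ← hx, pow_orderOf_eq_one]
  have hxi : x⁻¹ = x := inv_eq_of_mul_eq_one_right hx2
  have hmem : ∀ l ∈ L, x * l * x⁻¹ ∈ M := fun l hl => ⟨l, hl, rfl⟩
  have hc : ∀ a ∈ L, ∀ b ∈ M, a * b = b * a := fun a ha b hb =>
    ((Subgroup.commutator_eq_bot_iff_le_centralizer.mp hcomm) ha b hb).symm
  let π : ↥L →* G :=
    { toFun := fun l => (l : G) * (x * (l : G) * x⁻¹)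
      map_one' := by simp
      map_mul' := fun a b => by
        have h := hc b.1 b.2 _ (hmem a.1 a.2)
        simp only [Subgroup.coe_mul]
        calc (a : G) * b * (x * (a * b) * x⁻¹)
            = (a : G) * ((b : G) * (x * a * x⁻¹)) * (x * b * x⁻¹) := by group
          _ = (a : G) * ((x * a * x⁻¹) * b) * (x * b * x⁻¹) := by rw [h]
          _ = (a : G) * (x * a * x⁻¹) * ((b : G) * (x * b * x⁻¹)) := by group }
  have hπ : ∀ l : ↥L, π l = (l : G) * (x * (l : G) * x⁻¹) := fun _ => rfl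
  have hrange : π.range ≤ Subgroup.centralizer ({x} : Set G) := by
    rintro _ ⟨l, rfl⟩ y hy
    rw [Set.mem_singleton_iff] at hy
    subst hy
    have h := hc l.1 l.2 _ (hmem l.1 l.2)
    calc y * ((l : G) * (y * l * y⁻¹))
        = (y * l * y⁻¹) * ((y * y) * l * y⁻¹) := by group
      _ = (y * l * y⁻¹) * l * y := by rw [hx2, one_mul, hxi]; group
      _ = (l : G) * (y * l * y⁻¹) * y := by rw [h]
  have hperf' : Group.IsPerfect ↥L := Subgroup.isPerfect_iff.mpr hperf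
  refine ⟨π, hπ, ?_, hrange, ?_⟩
  · intro l hl
    have h1 : (l : G) * (x * l * x⁻¹) = 1 := hl
    have hlM : (l : G) ∈ M := by
      rw [eq_inv_of_mul_eq_one_left h1]
      exact M.inv_mem (hmem _ l.2)
    exact Subgroup.mem_center_iff.mpr fun a => Subtype.ext (hc a.1 a.2 _ hlM)
  set C := (L ⊔ M) ⊓ Subgroup.centralizer ({x} : Set G) with hC
  have hrC : π.range ≤ C := by
    refine le_inf ?_ hrange
    rintro _ ⟨l, rfl⟩
    exact Subgroup.mul_mem_sup l.2 (hmem _ l.2)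
  have hrperf : ⁅π.range, π.range⁆ = π.range := by
    rw [MonoidHom.range_eq_map, ← Subgroup.map_commutator, ← commutator_def, hperf'.commutator_eq_top]
  have hnorm : L ≤ Subgroup.normalizer (M : Set G) := by
    rw [Subgroup.le_normalizer_iff_commutator_le_right, hcomm]
    exact bot_le
  set Z := L ⊓ M with hZ
  have hdec : ∀ c ∈ C, ∃ l : ↥L, ∃ z ∈ Z, c = π l * z := by
    rintro c ⟨hc1, hc2⟩
    obtain ⟨a, ha, _, ⟨b, hb, rfl⟩, rfl⟩ := Set.mem_mul.mp
      (by rwa [← Subgroup.coe_mul_of_left_le_normalizer_right L M hnorm] : c ∈ (L : Set G) * (M : Set G))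
    simp only [MulEquiv.coe_toMonoidHom, MulAut.conj_apply] at hc2 ⊢
    have hx' := hc2 x rfl
    have e1 : a * (x * b * x⁻¹) = b * (x * a * x⁻¹) := by
      calc a * (x * b * x⁻¹) = (a * (x * b * x⁻¹)) * x * x⁻¹ := by group
        _ = x * (a * (x * b * x⁻¹)) * x⁻¹ := by rw [hx']
        _ = x * a * x⁻¹ * ((x * x) * b * (x * x)⁻¹) := by group
        _ = x * a * x⁻¹ * b := by rw [hx2]; group
        _ = b * (x * a * x⁻¹) := (hc b hb _ (hmem a ha)).symm
    have e2 : a⁻¹ * b = x * (b * a⁻¹) * x⁻¹ := by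
      calc a⁻¹ * b = a⁻¹ * (b * (x * a * x⁻¹)) * (x * a * x⁻¹)⁻¹ := by group
        _ = x * (b * a⁻¹) * x⁻¹ := by rw [← e1]; group
    have hw : a⁻¹ * b ∈ M := e2 ▸ hmem _ (L.mul_mem hb (L.inv_mem ha))
    have hwL : a⁻¹ * b ∈ L := L.mul_mem (L.inv_mem ha) hb
    refine ⟨⟨b, hb⟩, (a⁻¹ * b)⁻¹, ⟨L.inv_mem hwL, M.inv_mem hw⟩, ?_⟩
    rw [hπ]
    calc a * (x * b * x⁻¹) = b * ((a⁻¹ * b)⁻¹ * (x * b * x⁻¹)) := by group
      _ = b * ((x * b * x⁻¹) * (a⁻¹ * b)⁻¹) := by rw [hc _ (L.inv_mem hwL) _ (hmem b hb)]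
      _ = b * (x * b * x⁻¹) * (a⁻¹ * b)⁻¹ := by group
  refine le_antisymm ?_ (hrperf.ge.trans (Subgroup.commutator_mono hrC hrC))
  rw [Subgroup.commutator_le]
  intro c hcC d hdC
  obtain ⟨l, z, hz, rfl⟩ := hdec c hcC
  obtain ⟨m, w, hw, rfl⟩ := hdec d hdC
  have hcomZ : ∀ u ∈ Z, ∀ v ∈ L ⊔ M, Commute u v := by
    intro u hu v hv
    obtain ⟨a, ha, b, hb, rfl⟩ := Set.mem_mul.mp
      (by rwa [← Subgroup.coe_mul_of_left_le_normalizer_right L M hnorm] : v ∈ (L : Set G) * (M : Set G))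
    exact Commute.mul_right (hc a ha u hu.2).symm (hc u hu.1 b hb)
  have hlM : ∀ l : ↥L, π l ∈ L ⊔ M := fun l => (hrC ⟨l, rfl⟩).1
  have hzm := hcomZ z hz _ (hlM m)
  have hzl := hcomZ z hz _ (hlM l)
  have hwl := hcomZ w hw _ (hlM l)
  have hwm := hcomZ w hw _ (hlM m)
  have hzw := hcomZ z hz w ((le_sup_left : L ≤ L ⊔ M) hw.1)
  have : ⁅π l * z, π m * w⁆ = ⁅π l, π m⁆ := by
    simp only [commutatorElement_def, mul_inv_rev]
    calc π l * z * (π m * w) * (z⁻¹ * (π l)⁻¹) * (w⁻¹ * (π m)⁻¹)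
        = π l * (z * (π m * w) * z⁻¹) * (π l)⁻¹ * (w⁻¹ * (π m)⁻¹) := by group
      _ = π l * (π m * w) * (π l)⁻¹ * (w⁻¹ * (π m)⁻¹) := by
          rw [(hzm.mul_right hzw).eq, mul_inv_cancel_right]
      _ = π l * π m * (w * (π l)⁻¹ * w⁻¹) * (π m)⁻¹ := by group
      _ = π l * π m * (π l)⁻¹ * (π m)⁻¹ := by rw [hwl.inv_right.eq, mul_inv_cancel_right]
  rw [this, ← map_commutatorElement]
  exact ⟨_, rfl⟩

end Cfsg.Agent.S1314
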