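import Cfsg.Statements.S1316
import Cfsg.Agent.Lib.Components.GenFitting

set_option autoImplicit false
open Cfsg

namespace Cfsg.Agent.S1316

/-- For a finite group X, E(X) equals the intersection of the derived series of F*(X) (its last term). -/
theorem result {X : Type*} [Group X] [Finite X] : (⨅ n : ℕ, (derivedSeries ↥(Cfsg.generalizedFittingSubgroup X) n).map (Cfsg.generalizedFittingSubgroup X).subtype) = Cfsg.layer X := by
  set F := Cfsg.generalizedFittingSubgroup X with hF
  have hperfE := Cfsg.Agent.Components.layer_perfect (G := X)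
  have hge : ∀ n : ℕ, Cfsg.layer X ≤ (derivedSeries ↥F n).map F.subtype := by
    intro n
    induction n with
    | zero =>
      rw [derivedSeries_zero, ← MonoidHom.range_eq_map, Subgroup.range_subtype]
      exact le_sup_left
    | succ n ih =>
      rw [derivedSeries_succ, Subgroup.map_commutator, ← hperfE]
      exact Subgroup.commutator_mono ih ih
  refine le_antisymm ?_ (le_iInf hge)
  obtain ⟨n, hn⟩ : ∃ n, derivedSeries (↥F ⧸ (Cfsg.layer X).subgroupOf F) n = ⊥ := by
    have hs : Group.IsSolvable ↥(Cfsg.fittingSubgroup X) :=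
      Cfsg.Agent.Components.fitting_isSolvable
    have hsurj : Function.Surjective ((QuotientGroup.mk' ((Cfsg.layer X).subgroupOf F)).comp
        (Subgroup.inclusion (Cfsg.Agent.Components.fitting_le_genFitting (G := X)))) := by
      intro q
      obtain ⟨⟨x, hx⟩, rfl⟩ := QuotientGroup.mk_surjective q
      obtain ⟨a, ha, b, hb, rfl⟩ := Subgroup.mem_sup_of_normal_left.mp hx
      refine ⟨⟨b, hb⟩, ?_⟩
      simp only [MonoidHom.coe_comp, Function.comp_apply, QuotientGroup.mk'_apply]
      rw [QuotientGroup.eq, Subgroup.mem_subgroupOf]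
      simp only [Subgroup.coe_mul, Subgroup.coe_inv, Subgroup.coe_inclusion]
      have hn : (Cfsg.layer X).Normal := inferInstance
      simpa [mul_assoc] using hn.conj_mem _ ha b⁻¹
    exact (Group.isSolvable_def _).mp (Group.isSolvable_of_surjective hsurj)
  refine iInf_le_of_le n ?_
  have h1 : derivedSeries ↥F n ≤ (Cfsg.layer X).subgroupOf F := by
    rw [← QuotientGroup.ker_mk' ((Cfsg.layer X).subgroupOf F), ← Subgroup.map_eq_bot_iff,
      map_derivedSeries_eq (QuotientGroup.mk'_surjective _), hn]
  rintro _ ⟨x, hx, rfl⟩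
  exact h1 hx

end Cfsg.Agent.S1316
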