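import Cfsg.Statements.S1319
import Cfsg.Agent.Lib.Components.Basic

set_option autoImplicit false
open Cfsg

namespace Cfsg.Agent.S1319

/-- Let A be a subnormal subgroup of the finite group X with E(A) = A. Then A ≤ E(X) and A is normal in E(X). -/
theorem result {X : Type*} [Group X] [Finite X] (A : Subgroup X) (hsn : A.IsSubnormal) (hA : Cfsg.layer ↥A = ⊤) : A ≤ Cfsg.layer X ∧ (A.subgroupOf (Cfsg.layer X)).Normal := by
  have hle : A ≤ Cfsg.layer X := by
    have h := Cfsg.Agent.Components.layer_map_subtype_le hsn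
    rwa [hA, ← MonoidHom.range_eq_map, Subgroup.range_subtype] at h
  refine ⟨hle, (Subgroup.normal_subgroupOf_iff hle).mpr fun a g ha hg => ?_⟩
  have h2 : Cfsg.layer ↥A ≤ (A.comap (MulAut.conj g).toMonoidHom).comap A.subtype := by
    refine Cfsg.Agent.Components.layer_le fun K hK => ?_
    intro k hk
    have hc := (Cfsg.Agent.Components.isComponent_map_subtype_iff hsn K).mpr hK
    have hn := Cfsg.Agent.Components.IsComponent.layer_le_normalizer hc hg
    have hk' := (Subgroup.mem_normalizer_iff.mp hn (k : X)).mp ⟨k, hk, rfl⟩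
    exact Subgroup.map_subtype_le K hk'
  exact h2 (hA ▸ Subgroup.mem_top (⟨a, ha⟩ : ↥A))

end Cfsg.Agent.S1319
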