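import Cfsg.Statements.S1323
import Cfsg.Agent.Lib.ExtLayer.Basic

set_option autoImplicit false
open Cfsg

namespace Cfsg.Agent.S1323

open Equiv Equiv.Perm

section

variable {α : Type*} [Fintype α] [DecidableEq α]

/-- The even permutations fixing every point of `T`. -/
def fixSub (T : Finset α) : Subgroup (alternatingGroup α) where
  carrier := {g | ∀ x ∈ T, (g : Perm α) x = x}
  mul_mem' {g h} hg hh x hx := by
    show (g : Perm α) ((h : Perm α) x) = x
    rw [hh x hx, hg x hx]
  one_mem' _ _ := rfl
  inv_mem' {g} hg x hx := by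
    show (g : Perm α)⁻¹ x = x
    rw [Perm.inv_eq_iff_eq]
    exact (hg x hx).symm

theorem mem_fixSub {T : Finset α} {g : alternatingGroup α} :
    g ∈ fixSub T ↔ ∀ x ∈ T, (g : Perm α) x = x := Iff.rfl

theorem exists_ne_two {T : Finset α} (hT : 3 ≤ Tᶜ.card) {x : α} (hx : x ∉ T) (S : Finset α)
    (hS : S.card + 3 ≤ Tᶜ.card) :
    ∃ a b, a ∉ T ∧ b ∉ T ∧ a ≠ x ∧ b ≠ x ∧ a ≠ b ∧ a ∉ S ∧ b ∉ S := by
  have hcard : 1 < (Tᶜ \ insert x S).card := by
    have := Finset.le_card_sdiff (insert x S) Tᶜ
    have := Finset.card_insert_le x S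
    omega
  obtain ⟨a, ha, b, hb, hab⟩ := Finset.one_lt_card.1 hcard
  simp only [Finset.mem_sdiff, Finset.mem_compl, Finset.mem_insert, not_or] at ha hb
  exact ⟨a, b, ha.1, hb.1, ha.2.1, hb.2.1, hab, ha.2.2, hb.2.2⟩

/-- A three cycle in `fixSub T` moving a given point outside `T`, avoiding a small set. -/
theorem exists_mem_moves {T : Finset α} (hT : 3 ≤ Tᶜ.card) {x : α} (hx : x ∉ T) (S : Finset α)
    (hS : S.card + 3 ≤ Tᶜ.card) :
    ∃ g ∈ fixSub T, (g : Perm α) x ≠ x ∧ ∀ y ∈ S, y ≠ x → (g : Perm α) y = y := by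
  obtain ⟨a, b, ha, hb, hax, hbx, hab, haS, hbS⟩ := exists_ne_two hT hx S hS
  refine ⟨⟨swap x a * swap x b, ?_⟩, ?_, ?_, ?_⟩
  · rw [mem_alternatingGroup, map_mul, sign_swap (Ne.symm hax), sign_swap (Ne.symm hbx)]
    decide
  · intro y hy
    have h1 : y ≠ x := fun h => hx (h ▸ hy)
    have h2 : y ≠ a := fun h => ha (h ▸ hy)
    have h3 : y ≠ b := fun h => hb (h ▸ hy)
    show swap x a (swap x b y) = y
    rw [swap_apply_of_ne_of_ne h1 h3, swap_apply_of_ne_of_ne h1 h2]
  · show swap x a (swap x b x) ≠ x
    rw [swap_apply_left, swap_apply_of_ne_of_ne hbx hab.symm]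
    exact hbx
  · intro y hy h1
    have h2 : y ≠ a := fun h => haS (h ▸ hy)
    have h3 : y ≠ b := fun h => hbS (h ▸ hy)
    show swap x a (swap x b y) = y
    rw [swap_apply_of_ne_of_ne h1 h3, swap_apply_of_ne_of_ne h1 h2]

theorem mem_of_fixSub_le {T U : Finset α} (hT : 3 ≤ Tᶜ.card) (h : fixSub T ≤ fixSub U) : U ⊆ T := by
  intro x hx
  by_contra hxT
  obtain ⟨g, hg, hgx, -⟩ := exists_mem_moves hT hxT ∅ (by simpa using hT)
  exact hgx (h hg x hx)

theorem map_fixSub (g : alternatingGroup α) (T : Finset α) :
    (fixSub T).map (MulAut.conj g).toMonoidHom = fixSub (T.image (g : Perm α)) := by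
  ext h
  constructor
  · rintro ⟨k, hk, rfl⟩ y hy
    obtain ⟨x, hx, rfl⟩ := Finset.mem_image.1 hy
    show (g : Perm α) ((k : Perm α) ((g : Perm α)⁻¹ ((g : Perm α) x))) = (g : Perm α) x
    rw [Perm.coe_inv, Equiv.symm_apply_apply, hk x hx]
  · intro hh
    refine ⟨g⁻¹ * h * g, fun x hx => ?_, by simp [mul_assoc]⟩
    show (g : Perm α)⁻¹ ((h : Perm α) ((g : Perm α) x)) = x
    rw [hh _ (Finset.mem_image_of_mem _ hx), Perm.coe_inv, Equiv.symm_apply_apply]

theorem mem_normalizer_fixSub {T : Finset α} (hT : 3 ≤ Tᶜ.card) (g : alternatingGroup α) :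
    g ∈ Subgroup.normalizer (fixSub T : Set (alternatingGroup α)) ↔ T.image (g : Perm α) = T := by
  have hc : 3 ≤ (T.image (g : Perm α))ᶜ.card := by
    rw [Finset.card_compl, Finset.card_image_of_injective _ (Equiv.injective _), ← Finset.card_compl]
    exact hT
  rw [Subgroup.mem_normalizer_iff]
  constructor
  · intro hn
    have heq : fixSub (T.image (g : Perm α)) = fixSub T := by
      rw [← map_fixSub]
      ext h
      constructor
      · rintro ⟨k, hk, rfl⟩
        exact (hn k).1 hk
      · intro hh
        exact ⟨g⁻¹ * h * g, (hn _).2 (by simpa [mul_assoc] using hh), by simp [mul_assoc]⟩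
    exact le_antisymm (mem_of_fixSub_le hT heq.ge) (mem_of_fixSub_le hc heq.le)
  · intro he h
    constructor
    · intro hh
      rw [← he, ← map_fixSub]
      exact ⟨h, hh, rfl⟩
    · intro hh
      rw [← he, ← map_fixSub] at hh
      obtain ⟨k, hk, hkh⟩ := hh
      rwa [← (MulAut.conj g).injective hkh]

theorem centralizer_fixSub {T : Finset α} (hT : 5 ≤ Tᶜ.card) :
    Subgroup.centralizer (fixSub T : Set (alternatingGroup α)) = fixSub Tᶜ := by
  refine le_antisymm (fun g hg x hx => ?_) fun g hg => ?_
  · rw [Finset.mem_compl] at hx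
    by_contra hne
    obtain ⟨c, hc, hcx, hcS⟩ := exists_mem_moves (T := T) (by omega) hx {(g : Perm α) x}
      (by rw [Finset.card_singleton]; omega)
    have h1 := congrArg (fun k : alternatingGroup α => (k : Perm α) x)
      (Subgroup.mem_centralizer_iff.1 hg c hc)
    replace h1 : (c : Perm α) ((g : Perm α) x) = (g : Perm α) ((c : Perm α) x) := h1
    rw [hcS _ (Finset.mem_singleton_self _) hne] at h1
    exact hcx ((g : Perm α).injective h1).symm
  · rw [Subgroup.mem_centralizer_iff]
    intro c hc
    refine Subtype.ext (Equiv.Perm.ext fun x => ?_)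
    show (c : Perm α) ((g : Perm α) x) = (g : Perm α) ((c : Perm α) x)
    by_cases hx : x ∈ T
    · rw [hc x hx]
      by_cases hgx : (g : Perm α) x ∈ T
      · exact hc _ hgx
      · have h1 := hg _ (Finset.mem_compl.2 hgx)
        rw [(g : Perm α).injective h1]
        exact hc x hx
    · have h1 := hg _ (Finset.mem_compl.2 hx)
      rw [h1]
      by_cases hcx : (c : Perm α) x ∈ T
      · have h2 := (c : Perm α).injective (hc _ hcx)
        rw [h2, h1]
      · exact (hg _ (Finset.mem_compl.2 hcx)).symm

/-- `fixSub T` is the alternating group on the complement. -/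
theorem nonempty_equiv (T : Finset α) :
    Nonempty (alternatingGroup {x // x ∉ T} ≃* fixSub T) := by
  have hsign : ∀ σ : alternatingGroup {x // x ∉ T},
      Perm.ofSubtype (σ : Perm {x // x ∉ T}) ∈ alternatingGroup α := fun σ => by
    rw [mem_alternatingGroup, sign_ofSubtype]
    exact mem_alternatingGroup.1 σ.2
  let f : alternatingGroup {x // x ∉ T} →* fixSub T :=
    { toFun := fun σ => ⟨⟨_, hsign σ⟩, fun x hx => ofSubtype_apply_of_not_mem _ (not_not.2 hx)⟩
      map_one' := Subtype.ext (Subtype.ext (map_one _))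
      map_mul' := fun a b => Subtype.ext (Subtype.ext (map_mul _ _ _)) }
  refine ⟨MulEquiv.ofBijective f ⟨fun a b hab => ?_, fun g => ?_⟩⟩
  · exact Subtype.ext (ofSubtype_injective (congrArg (fun k : fixSub T => ((k : alternatingGroup α) : Perm α)) hab))
  · obtain ⟨g, hg⟩ := g
    have h2 : ∀ x, (g : Perm α) x ≠ x → x ∉ T := fun x hne hx => hne (hg x hx)
    have h1 : ∀ x, (g : Perm α) x ∉ T ↔ x ∉ T := fun x => by
      constructor
      · exact fun h hx => h ((hg x hx).symm ▸ hx)
      · intro hx h
        have := (g : Perm α).injective (hg _ h)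
        exact hx (this ▸ h)
    refine ⟨⟨(g : Perm α).subtypePerm h1, ?_⟩, Subtype.ext (Subtype.ext (ofSubtype_subtypePerm h1 h2))⟩
    rw [mem_alternatingGroup, sign_subtypePerm _ h1 h2]
    exact mem_alternatingGroup.1 g.2

theorem isQuasisimple_fixSub {T : Finset α} (hT : 5 ≤ Tᶜ.card) : IsQuasisimple (fixSub T) := by
  obtain ⟨e⟩ := nonempty_equiv T
  refine ExtLayer.isQuasisimple_equiv e ?_
  have hcard : 5 ≤ Nat.card {x // x ∉ T} := by
    rw [Nat.card_eq_fintype_card, Fintype.card_subtype_compl, Fintype.card_coe, ← Finset.card_compl]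
    exact hT
  have hs := alternatingGroup.isSimpleGroup hcard
  have hnc : ¬ IsMulCommutative (alternatingGroup {x // x ∉ T}) := by
    intro hcomm
    obtain ⟨x, hx⟩ := Finset.card_pos.1 (show 0 < Tᶜ.card by omega)
    rw [Finset.mem_compl] at hx
    obtain ⟨g, hg, hgx, -⟩ := exists_mem_moves (T := T) (by omega) hx ∅ (by simp; omega)
    have hgC : g ∈ Subgroup.centralizer (fixSub T : Set (alternatingGroup α)) := by
      rw [Subgroup.mem_centralizer_iff]
      intro k hk
      obtain ⟨a, ha⟩ := e.surjective ⟨g, hg⟩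
      obtain ⟨b, hb⟩ := e.surjective ⟨k, hk⟩
      have := congrArg Subtype.val (congrArg e (mul_comm' b a))
      rw [map_mul, map_mul, ha, hb] at this
      exact this
    rw [centralizer_fixSub hT] at hgC
    exact hgx (hgC x (Finset.mem_compl.2 hx))
  have hperf : Group.IsPerfect (alternatingGroup {x // x ∉ T}) := by
    rw [Group.isPerfect_def]
    rcases hs.eq_bot_or_eq_top_of_normal (commutator _) inferInstance with h | h
    · exact absurd ((commutator_eq_bot_iff_center_eq_top _).1 h) fun hc => hnc ⟨⟨fun a b =>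
        (Subgroup.mem_center_iff.1 (hc ▸ Subgroup.mem_top a) b).symm⟩⟩
    · exact h
  refine ⟨hperf, ?_⟩
  rcases hs.eq_bot_or_eq_top_of_normal (Subgroup.center _) inferInstance with h | h
  · exact ((QuotientGroup.quotientMulEquivOfEq h).trans QuotientGroup.quotientBot).isSimpleGroup
  · exact absurd ⟨⟨fun a b => (Subgroup.mem_center_iff.1 (h ▸ Subgroup.mem_top a) b).symm⟩⟩ hnc

theorem standard_fixSub {T : Finset α} (hT : T.card = 4) (hn : 9 ≤ Fintype.card α) :
    IsStandardSubgroup (fixSub T) := by
  have hc : Tᶜ.card = Fintype.card α - 4 := by rw [Finset.card_compl, hT]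
  have h5 : 5 ≤ Tᶜ.card := by omega
  have hcompl : 3 ≤ Tᶜᶜ.card := by rw [compl_compl]; omega
  refine ⟨isQuasisimple_fixSub h5, ?_, ?_, ?_⟩
  · rw [centralizer_fixSub h5]
    constructor
    · -- an involution
      obtain ⟨a, b, c, d, hab, hac, had, hbc, hbd, hcd, hT'⟩ :
          ∃ a b c d, a ≠ b ∧ a ≠ c ∧ a ≠ d ∧ b ≠ c ∧ b ≠ d ∧ c ≠ d ∧ T = {a, b, c, d} := by
        obtain ⟨a, t, hat, rfl, ht⟩ := Finset.card_eq_succ.1 hT
        obtain ⟨b, c, d, hbc, hbd, hcd, rfl⟩ := Finset.card_eq_three.1 ht
        simp only [Finset.mem_insert, Finset.mem_singleton, not_or] at hat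
        exact ⟨a, b, c, d, hat.1, hat.2.1, hat.2.2, hbc, hbd, hcd, rfl⟩
      let g : alternatingGroup α := ⟨swap a b * swap c d, by
        rw [mem_alternatingGroup, map_mul, sign_swap hab, sign_swap hcd]; decide⟩
      have hg : g ∈ fixSub Tᶜ := by
        intro x hx
        rw [Finset.mem_compl, hT'] at hx
        simp only [Finset.mem_insert, Finset.mem_singleton, not_or] at hx
        show swap a b (swap c d x) = x
        rw [swap_apply_of_ne_of_ne hx.2.2.1 hx.2.2.2, swap_apply_of_ne_of_ne hx.1 hx.2.1]
      have hord : orderOf g = 2 := by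
        refine orderOf_eq_prime (Subtype.ext ?_) ?_
        · show (swap a b * swap c d) ^ 2 = 1
          have hcomm : Commute (swap a b) (swap c d) := by
            apply Perm.Disjoint.commute
            intro x
            by_cases h1 : x = a
            · right; subst h1; exact swap_apply_of_ne_of_ne hac had
            by_cases h2 : x = b
            · right; subst h2; exact swap_apply_of_ne_of_ne hbc hbd
            left; exact swap_apply_of_ne_of_ne h1 h2
          rw [hcomm.mul_pow, sq, sq, swap_mul_self, swap_mul_self, one_mul]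
        · intro h
          have := congrArg (fun k : alternatingGroup α => (k : Perm α) a) h
          replace this : swap a b (swap c d a) = a := this
          rw [swap_apply_of_ne_of_ne hac had, swap_apply_left] at this
          exact hab this.symm
      have := orderOf_dvd_natCard (⟨g, hg⟩ : fixSub Tᶜ)
      rw [Subgroup.orderOf_mk, hord] at this
      exact even_iff_two_dvd.2 this
    · intro g hg
      rw [mem_normalizer_fixSub hcompl] at hg
      rw [map_fixSub, Nat.odd_iff]
      by_contra h2
      have hdvd : 2 ∣ Nat.card ↥(fixSub Tᶜ ⊓ fixSub (Tᶜ.image (g : Perm α))) := by omega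
      obtain ⟨h, hh⟩ := exists_prime_orderOf_dvd_card' 2 hdvd
      have hh' : orderOf ((h : alternatingGroup α) : Perm α) = 2 := by
        rw [Subgroup.orderOf_coe, Subgroup.orderOf_coe, hh]
      set k : Perm α := ((h : alternatingGroup α) : Perm α) with hk
      have hsupp : k.support ⊆ T \ (Tᶜ.image (g : Perm α)) := by
        intro x hx
        rw [Perm.mem_support] at hx
        rw [Finset.mem_sdiff]
        refine ⟨?_, fun hmem => hx (h.2.2 x hmem)⟩
        by_contra hxT
        exact hx (h.2.1 x (Finset.mem_compl.2 hxT))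
      have hlt : (T \ (Tᶜ.image (g : Perm α))).card < 4 := by
        rw [← hT]
        apply Finset.card_lt_card
        rw [Finset.ssubset_iff_subset_ne]
        refine ⟨Finset.sdiff_subset, fun he => hg ?_⟩
        have hsub : Tᶜ.image (g : Perm α) ⊆ Tᶜ := by
          intro y hy
          rw [Finset.mem_compl]
          intro hyT
          rw [← he] at hyT
          exact (Finset.mem_sdiff.1 hyT).2 hy
        exact Finset.eq_of_subset_of_card_le hsub
          (le_of_eq (Finset.card_image_of_injective _ (Equiv.injective _)).symm)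
      have hle : k.support.card ≤ 3 := by
        have := Finset.card_le_card hsupp
        omega
      have hne : k ≠ 1 := fun h1 => by rw [h1, orderOf_one] at hh'; omega
      have h2le : 2 ≤ k.support.card := Perm.two_le_card_support_of_ne_one hne
      have hev : sign k = 1 := mem_alternatingGroup.1 (h : alternatingGroup α).2
      rcases (show k.support.card = 2 ∨ k.support.card = 3 by omega) with h' | h'
      · rw [(card_support_eq_two.1 h').sign_eq] at hev
        exact absurd hev (by decide)
      · rw [(card_support_eq_three_iff.1 h').orderOf] at hh'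
        omega
  · intro g hg hcomm
    have hle : (fixSub T).map (MulAut.conj g).toMonoidHom ≤ fixSub Tᶜ := by
      rw [← centralizer_fixSub h5]
      rw [Subgroup.commutator_eq_bot_iff_le_centralizer, Subgroup.le_centralizer_iff] at hcomm
      exact hcomm
    rw [map_fixSub] at hle
    have hc' : 3 ≤ (T.image (g : Perm α))ᶜ.card := by
      rw [Finset.card_compl, Finset.card_image_of_injective _ (Equiv.injective _), hT]
      omega
    have := Finset.card_le_card (mem_of_fixSub_le hc' hle)
    rw [Finset.card_image_of_injective _ (Equiv.injective _), hT] at this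
    omega
  · rw [centralizer_fixSub h5]
    ext g
    rw [mem_normalizer_fixSub (by omega), mem_normalizer_fixSub hcompl]
    constructor
    · intro h
      ext x
      obtain ⟨y, rfl⟩ := (g : Perm α).surjective x
      rw [(g : Perm α).injective.mem_finset_image, Finset.mem_compl, Finset.mem_compl, not_iff_not]
      conv_rhs => rw [← h, (g : Perm α).injective.mem_finset_image]
    · intro h
      ext x
      obtain ⟨y, rfl⟩ := (g : Perm α).surjective x
      rw [(g : Perm α).injective.mem_finset_image, ← not_iff_not, ← Finset.mem_compl, ← Finset.mem_compl]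
      conv_rhs => rw [← h, (g : Perm α).injective.mem_finset_image]

end

/-- For n ≥ 9, the subgroup of the alternating group on Fin n fixing each of the points 0, 1, 2, 3 is a standard subgroup. -/
theorem result (n : ℕ) (h4 : 4 ≤ n) (hn : 9 ≤ n) : Cfsg.IsStandardSubgroup (⨅ i : Fin 4, MulAction.stabilizer ↥(alternatingGroup (Fin n)) (Fin.castLE h4 i : Fin n)) := by
  have hTcard : (Finset.univ.image (fun i : Fin 4 => Fin.castLE h4 i)).card = 4 := by
    rw [Finset.card_image_of_injective _ (Fin.castLE_injective h4), Finset.card_univ, Fintype.card_fin]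
  have heq : (⨅ i : Fin 4, MulAction.stabilizer ↥(alternatingGroup (Fin n)) (Fin.castLE h4 i : Fin n))
      = fixSub (Finset.univ.image (fun i : Fin 4 => Fin.castLE h4 i)) := by
    ext g
    simp only [Subgroup.mem_iInf, MulAction.mem_stabilizer_iff, mem_fixSub, Finset.mem_image,
      Finset.mem_univ, true_and, forall_exists_index]
    constructor
    · rintro h x i rfl
      exact h i
    · intro h i
      exact h _ i rfl
  rw [heq]
  exact standard_fixSub hTcard (by rw [Fintype.card_fin]; exact hn)

end Cfsg.Agent.S1323
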