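import Cfsg.Statements.S1335
import Cfsg.Agent.Lib.Signalizer.Transitivity

set_option autoImplicit false
open Cfsg

namespace Cfsg.Agent.S1335

/-- Let H be a subgroup of the finite group G, p a prime, k ≥ 1, P a Sylow p-subgroup of H of p-rank at least k, and suppose N_G(X) ≤ H for every subgroup X ≤ P of p-rank at least k. Then P is a Sylow p-subgroup of G. -/
theorem result {G : Type*} [Group G] [Finite G] {p : ℕ} [Fact p.Prime] (k : ℕ) (hk : 1 ≤ k) (H : Subgroup G) (P : Sylow p ↥H) (hP : ¬ Cfsg.PRankLE p (k - 1) ↥(P : Subgroup ↥H)) (hΓ : (∀ X : Subgroup G, X ≤ (P : Subgroup ↥H).map H.subtype → ¬ Cfsg.PRankLE p (k - 1) ↥X → Subgroup.normalizer (X : Set G) ≤ H)) : ∃ Q : Sylow p G, (Q : Subgroup G) = (P : Subgroup ↥H).map H.subtype := by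
  set P' : Subgroup G := (P : Subgroup ↥H).map H.subtype with hP'
  have hP'H : P' ≤ H := Subgroup.map_subtype_le _
  have hP'p : IsPGroup p P' := P.isPGroup'.map _
  have hrank : ¬ Cfsg.PRankLE p (k - 1) ↥P' := by
    intro hR
    apply hP
    intro A hAc hAp
    let e := (P : Subgroup ↥H).equivMapOfInjective H.subtype H.subtype_injective
    have h := hR (A.map e.toMonoidHom) ⟨⟨?_⟩⟩ ?_
    · rwa [Subgroup.card_map_of_injective e.injective] at h
    · rintro ⟨_, a, ha, rfl⟩ ⟨_, b, hb, rfl⟩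
      apply Subtype.ext
      change e a * e b = e b * e a
      rw [← map_mul, ← map_mul, Signalizer.commute_of_isMulCommutative hAc ha hb]
    · rintro _ ⟨a, ha, rfl⟩
      change (e a) ^ p = 1
      rw [← map_pow, hAp a ha, map_one]
  have hN := hΓ P' le_rfl hrank
  obtain ⟨Q, hQ⟩ := hP'p.exists_le_sylow
  refine ⟨Q, le_antisymm (fun g hg => ?_) hQ⟩
  by_contra hgP
  obtain ⟨x, hxQ, hxN, hxP⟩ :=
    Signalizer.exists_mem_normalizer_not_mem Q.isPGroup' hQ fun h => hgP (h ▸ hg)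
  have h := (Signalizer.isSylowIn_of_sylow P).eq_of_le (T := P' ⊔ Subgroup.zpowers x) le_sup_left
    (sup_le hP'H (Subgroup.zpowers_le.2 (hN hxN)))
    (Q.isPGroup'.to_le (sup_le hQ (Subgroup.zpowers_le.2 hxQ)))
  exact hxP (by rw [hP', ← h]; exact Subgroup.mem_sup_right (Subgroup.mem_zpowers x))

end Cfsg.Agent.S1335
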