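import Cfsg.Statements.S1336
import Cfsg.Agent.Lib.Signalizer.Transitivity

set_option autoImplicit false
open Cfsg

namespace Cfsg.Agent.S1336

open Cfsg.Agent

variable {G : Type*} [Group G] [Finite G] {p : ℕ}

/-- Adjacency in the graph of elementary abelian `p`-subgroups. -/
def adj (p : ℕ) (A B : Subgroup G) : Prop :=
  IsElementaryAbelian p A ∧ p ^ 1 ≤ Nat.card ↥A ∧ IsElementaryAbelian p B ∧
    p ^ 1 ≤ Nat.card ↥B ∧ ∀ a ∈ A, ∀ b ∈ B, a * b = b * a

omit [Finite G] in
theorem elemAb_zpowers {z : G} (hz : z ^ p = 1) :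
    IsElementaryAbelian p (Subgroup.zpowers z) := by
  refine ⟨inferInstance, fun a ha => ?_⟩
  obtain ⟨n, rfl⟩ := ha
  rw [← zpow_natCast, ← zpow_mul, mul_comm, zpow_mul, zpow_natCast, hz, one_zpow]

omit [Finite G] in
theorem adj_symm {A B : Subgroup G} (h : adj p A B) : adj p B A :=
  ⟨h.2.2.1, h.2.2.2.1, h.1, h.2.1, fun a ha b hb => (h.2.2.2.2 b hb a ha).symm⟩

omit [Finite G] in
theorem conn_symm {A B : Subgroup G} (h : Relation.ReflTransGen (adj p) A B) :
    Relation.ReflTransGen (adj p) B A := by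
  induction h with
  | refl => exact .refl
  | tail _ h ih => exact .head (adj_symm h) ih

omit [Finite G] in
theorem adj_map {A B : Subgroup G} (g : G) (h : adj p A B) :
    adj p (A.map (MulAut.conj g).toMonoidHom) (B.map (MulAut.conj g).toMonoidHom) := by
  obtain ⟨hA, hAc, hB, hBc, hcm⟩ := h
  have aux : ∀ C : Subgroup G, IsElementaryAbelian p C →
      IsElementaryAbelian p (C.map (MulAut.conj g).toMonoidHom) := by
    intro C hC
    refine ⟨⟨⟨?_⟩⟩, ?_⟩
    · rintro ⟨_, a, ha, rfl⟩ ⟨_, b, hb, rfl⟩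
      apply Subtype.ext
      change MulAut.conj g a * MulAut.conj g b = MulAut.conj g b * MulAut.conj g a
      rw [← map_mul, ← map_mul, Signalizer.commute_of_isMulCommutative hC.1 ha hb]
    · rintro _ ⟨a, ha, rfl⟩
      rw [← map_pow, hC.2 a ha, map_one]
  refine ⟨aux A hA, ?_, aux B hB, ?_, ?_⟩
  · rwa [Subgroup.card_map_of_injective (MulAut.conj g).injective]
  · rwa [Subgroup.card_map_of_injective (MulAut.conj g).injective]
  · rintro _ ⟨a, ha, rfl⟩ _ ⟨b, hb, rfl⟩
    rw [← map_mul, ← map_mul, hcm a ha b hb]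

omit [Finite G] in
theorem conn_map {A B : Subgroup G} (g : G) (h : Relation.ReflTransGen (adj p) A B) :
    Relation.ReflTransGen (adj p) (A.map (MulAut.conj g).toMonoidHom)
      (B.map (MulAut.conj g).toMonoidHom) :=
  h.lift (fun U : Subgroup G => U.map (MulAut.conj g).toMonoidHom) fun _ _ h => adj_map g h

omit [Finite G] in
/-- The conjugates of `E₀` in its own connected component give a subgroup. -/
def stab (p : ℕ) (E₀ : Subgroup G) : Subgroup G where
  carrier := {g | Relation.ReflTransGen (adj p) E₀ (E₀.map (MulAut.conj g).toMonoidHom)}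
  one_mem' := by
    show Relation.ReflTransGen (adj p) _ _
    rw [Signalizer.map_conj_one]
  mul_mem' := by
    intro g h hg hh
    show Relation.ReflTransGen (adj p) _ _
    have := conn_map g hh
    rw [Signalizer.map_conj_map_conj] at this
    exact hg.trans this
  inv_mem' := by
    intro g hg
    show Relation.ReflTransGen (adj p) _ _
    have := conn_symm (conn_map g⁻¹ hg)
    rw [Signalizer.map_conj_map_conj, inv_mul_cancel, Signalizer.map_conj_one] at this
    exact this

theorem exists_embedded [Fact p.Prime] {E E' : Subgroup G} (hE : IsElementaryAbelian p E)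
    (hEc : p ^ 1 ≤ Nat.card ↥E) (hE' : IsElementaryAbelian p E') (hE'c : p ^ 1 ≤ Nat.card ↥E')
    (hnot : ¬ Relation.ReflTransGen (adj p) E E') :
    ∃ H : Subgroup G, H ≠ ⊤ ∧ p ∣ Nat.card ↥H ∧
      ∀ g : G, g ∉ H → ¬ p ∣ Nat.card ↥(H ⊓ H.map (MulAut.conj g).toMonoidHom) := by
  obtain ⟨S, hES⟩ := (Signalizer.isPGroup_of_elemAb hE).exists_le_sylow
  haveI : Nontrivial (S : Subgroup G) := by
    rw [Subgroup.nontrivial_iff_ne_bot]
    intro h
    rw [h, le_bot_iff] at hES
    exact Signalizer.ne_bot_of_pow_le one_ne_zero hEc hES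
  haveI := S.isPGroup'.center_nontrivial
  obtain ⟨n, hn, hcard⟩ :=
    (IsPGroup.to_subgroup S.isPGroup' (Subgroup.center ↥(S : Subgroup G))).nontrivial_iff_card.1
      inferInstance
  obtain ⟨⟨z', hz'⟩, hoz⟩ := exists_prime_orderOf_dvd_card'
    (G := Subgroup.center ↥(S : Subgroup G)) p (hcard ▸ dvd_pow_self p hn.ne')
  rw [Subgroup.orderOf_mk] at hoz
  have hoz' : orderOf (z' : G) = p := by rw [Subgroup.orderOf_coe, hoz]
  have hcz : ∀ s ∈ (S : Subgroup G), s * z' = z' * s := fun s hs =>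
    congrArg Subtype.val (Subgroup.mem_center_iff.1 hz' ⟨s, hs⟩)
  set E₀ : Subgroup G := Subgroup.zpowers (z' : G) with hE₀
  have hz'p : (z' : G) ^ p = 1 := orderOf_dvd_iff_pow_eq_one.1 (dvd_of_eq hoz')
  have hE₀el : IsElementaryAbelian p E₀ := elemAb_zpowers hz'p
  have hE₀c : p ^ 1 ≤ Nat.card ↥E₀ := by rw [pow_one, Nat.card_zpowers, hoz']
  -- every vertex is adjacent to a conjugate of `E₀`
  have hvert : ∀ (F : Subgroup G) (g : G), IsElementaryAbelian p F → p ^ 1 ≤ Nat.card ↥F →
      (∀ f ∈ F, g⁻¹ * f * g ∈ (S : Subgroup G)) →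
      adj p (E₀.map (MulAut.conj g).toMonoidHom) F := by
    intro F g hF hFc hFS
    have hE₀g := adj_map g (show adj p E₀ E₀ from ⟨hE₀el, hE₀c, hE₀el, hE₀c, fun a ha b hb =>
      Signalizer.commute_of_isMulCommutative hE₀el.1 ha hb⟩)
    refine ⟨hE₀g.1, hE₀g.2.1, hF, hFc, ?_⟩
    rintro _ ⟨a, ⟨i, rfl⟩, rfl⟩ b hb
    have h1 : Commute (g⁻¹ * b * g) (z' : G) := hcz _ (hFS b hb)
    have h2 := congrArg (MulAut.conj g) ((h1.zpow_right i).eq)
    simp only [map_mul] at h2
    have e : MulAut.conj g (g⁻¹ * b * g) = b := by simp [MulAut.conj_apply, mul_assoc]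
    rw [← map_mul, ← map_mul, e] at h2
    exact h2.symm
  have hS : (S : Subgroup G) ≤ stab p E₀ := by
    intro s hs
    show Relation.ReflTransGen (adj p) _ _
    have e : E₀.map (MulAut.conj s).toMonoidHom = E₀ := by
      rw [hE₀, MonoidHom.map_zpowers]
      congr 1
      change s * z' * s⁻¹ = z'
      rw [hcz s hs]; group
    rw [e]
  have hzS : (z' : G) ∈ stab p E₀ := hS z'.2
  -- `p`-elements of the stabiliser lie in the component
  have hcomp : ∀ x : G, x ∈ stab p E₀ → orderOf x = p →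
      Relation.ReflTransGen (adj p) E₀ (Subgroup.zpowers x) := by
    intro x hx hox
    have hxp : x ^ p = 1 := hox ▸ pow_orderOf_eq_one x
    obtain ⟨T, hT⟩ := (IsPGroup.comap_subtype
      (Signalizer.isPGroup_zpowers_of_pow_eq_one hxp) (K := stab p E₀)).exists_le_sylow
    let S' : Sylow p (stab p E₀) := S.subtype hS
    obtain ⟨h, hh⟩ := MulAction.exists_smul_eq (stab p E₀) S' T
    refine (show Relation.ReflTransGen (adj p) E₀ (E₀.map (MulAut.conj (h : G)).toMonoidHom) from
      h.2).tail (hvert _ h (elemAb_zpowers hxp) (by rw [pow_one, Nat.card_zpowers, hox])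
        fun f hf => ?_)
    have hfmem : f ∈ stab p E₀ := Subgroup.zpowers_le.2 hx hf
    have h1 : (⟨f, hfmem⟩ : stab p E₀) ∈ (T : Subgroup (stab p E₀)) := hT hf
    rw [← hh] at h1
    obtain ⟨u, hu, hfu⟩ := (Subgroup.mem_smul_pointwise_iff_exists ..).1 h1
    have h2 : (h : G) * u * (h : G)⁻¹ = f := congrArg Subtype.val hfu
    rw [← h2]
    simpa [mul_assoc, Sylow.coe_subtype, Subgroup.mem_subgroupOf, S'] using hu
  refine ⟨stab p E₀, fun htop => hnot ?_, ?_, fun g hg hdvd => hg ?_⟩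
  · have key : ∀ F : Subgroup G, IsElementaryAbelian p F → p ^ 1 ≤ Nat.card ↥F →
        Relation.ReflTransGen (adj p) E₀ F := by
      intro F hF hFc
      obtain ⟨T, hT⟩ := (Signalizer.isPGroup_of_elemAb hF).exists_le_sylow
      obtain ⟨g, hg⟩ := MulAction.exists_smul_eq G S T
      refine (show Relation.ReflTransGen (adj p) E₀ (E₀.map (MulAut.conj g).toMonoidHom) from
        (htop ▸ Subgroup.mem_top g : g ∈ stab p E₀)).tail (hvert F g hF hFc fun f hf => ?_)
      have h1 : f ∈ (T : Subgroup G) := hT hf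
      rw [← hg] at h1
      obtain ⟨u, hu, rfl⟩ := (Subgroup.mem_smul_pointwise_iff_exists ..).1 h1
      simpa [MulAut.smul_def, mul_assoc] using hu
    exact (conn_symm (key E hE hEc)).trans (key E' hE' hE'c)
  · have h := orderOf_dvd_natCard (⟨(z' : G), hzS⟩ : stab p E₀)
    rwa [Subgroup.orderOf_mk, hoz'] at h
  · obtain ⟨⟨x, hx⟩, hox⟩ := exists_prime_orderOf_dvd_card' p hdvd
    rw [Subgroup.orderOf_mk] at hox
    obtain ⟨hxH, y, hy, rfl⟩ := hx
    have hoy : orderOf y = p := by
      rw [← hox, orderOf_injective (MulAut.conj g).toMonoidHom (MulAut.conj g).injective]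
    have h2 := conn_map g (hcomp y hy hoy)
    rw [MonoidHom.map_zpowers _ y] at h2
    exact (hcomp _ hxH hox).trans (conn_symm h2)


/-- Let G be finite and p prime. Then G has a proper subgroup H with p ∣ |H| and p ∤ |H ∩ gHg⁻¹| for every g ∉ H (a strongly p-embedded subgroup) if and only if G is not 1-connected for p. -/
theorem result {G : Type*} [Group G] [Finite G] (p : ℕ) [Fact p.Prime] : (∃ H : Subgroup G, H ≠ ⊤ ∧ p ∣ Nat.card ↥H ∧ ∀ g : G, g ∉ H → ¬ p ∣ Nat.card ↥(H ⊓ H.map (MulAut.conj g).toMonoidHom)) ↔ ¬ Cfsg.IsKConnected p 1 G := by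
  constructor
  · rintro ⟨H, hne, hpH, hemb⟩ hconn
    haveI := Fintype.ofFinite ↥H
    obtain ⟨⟨z, hzH⟩, hz⟩ := exists_prime_orderOf_dvd_card' p hpH
    rw [Subgroup.orderOf_mk] at hz
    obtain ⟨g, hg⟩ : ∃ g, g ∉ H := by
      by_contra hcon
      push Not at hcon
      exact hne ((Subgroup.eq_top_iff' H).2 hcon)
    have hcent : ∀ a : G, a ∈ H → orderOf a = p → ∀ c : G, a * c = c * a → c ∈ H := by
      intro a ha hoa c hc
      by_contra hcH
      refine hemb c hcH ?_
      have hmem : a ∈ H ⊓ H.map (MulAut.conj c).toMonoidHom := by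
        refine ⟨ha, Signalizer.mem_map_conj.2 ?_⟩
        have : c⁻¹ * a * c = a := by rw [mul_assoc, hc, inv_mul_cancel_left]
        rw [this]; exact ha
      rw [← hoa, ← Subgroup.orderOf_mk a hmem]
      exact orderOf_dvd_natCard _
    have hz1 : z ^ p = 1 := hz ▸ pow_orderOf_eq_one z
    have hw : orderOf (g * z * g⁻¹) = p := by
      rw [show g * z * g⁻¹ = (MulAut.conj g).toMonoidHom z from rfl,
        orderOf_injective (MulAut.conj g).toMonoidHom (MulAut.conj g).injective, hz]
    have hpath := hconn (Subgroup.zpowers z) (Subgroup.zpowers (g * z * g⁻¹))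
      (elemAb_zpowers hz1) (by rw [pow_one, Nat.card_zpowers, hz])
      (elemAb_zpowers (hw ▸ pow_orderOf_eq_one _)) (by rw [pow_one, Nat.card_zpowers, hw])
    have hsub : ∀ E', Relation.ReflTransGen (adj p) (Subgroup.zpowers z) E' → E' ≤ H := by
      intro E' h
      induction h with
      | refl => exact Subgroup.zpowers_le.2 hzH
      | @tail B C _ hBC ih =>
        obtain ⟨hB, hBc, -, -, hcm⟩ := hBC
        obtain ⟨b, hb, hb1⟩ : ∃ b ∈ B, b ≠ 1 := by
          by_contra hcon
          push Not at hcon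
          rw [(Subgroup.eq_bot_iff_forall B).2 hcon, Subgroup.card_bot, pow_one] at hBc
          exact absurd hBc (not_le.2 (Fact.out : p.Prime).one_lt)
        exact fun c hc => hcent b (ih hb) (orderOf_eq_prime (hB.2 b hb) hb1) c (hcm b hb c hc)
    have hwH := hsub _ hpath (Subgroup.mem_zpowers _)
    refine hemb g hg ?_
    have hmem : g * z * g⁻¹ ∈ H ⊓ H.map (MulAut.conj g).toMonoidHom := ⟨hwH, ⟨z, hzH, rfl⟩⟩
    rw [← hw, ← Subgroup.orderOf_mk _ hmem]
    exact orderOf_dvd_natCard _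
  · intro hnc
    unfold Cfsg.IsKConnected at hnc
    push Not at hnc
    obtain ⟨E, E', hE, hEc, hE', hE'c, hEE'⟩ := hnc
    exact exists_embedded hE hEc hE' hE'c hEE'

end Cfsg.Agent.S1336
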