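import Cfsg.Statements.S1337
import Cfsg.Agent.Lib.PNormal.RankTwo

set_option autoImplicit false
open Cfsg

namespace Cfsg.Agent.S1337

theorem commute_of {P : Type*} [Group P] {p : ℕ} {A : Subgroup P} (hA : IsElementaryAbelian p A)
    {x y : P} (hx : x ∈ A) (hy : y ∈ A) : Commute x y := by
  have := hA.1
  exact congrArg Subtype.val (mul_comm' (⟨x, hx⟩ : A) ⟨y, hy⟩)

theorem elementary_join {P : Type*} [Group P] {p : ℕ} {A B : Subgroup P}
    (hA : IsElementaryAbelian p A) (hB : IsElementaryAbelian p B)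
    (hAB : ∀ a ∈ A, ∀ b ∈ B, a * b = b * a) : IsElementaryAbelian p (A ⊔ B) := by
  have hn : B ≤ Subgroup.normalizer (A : Set P) := by
    intro b hb
    refine Subgroup.centralizer_le_normalizer _ ?_
    exact Subgroup.mem_centralizer_iff.2 fun a ha => hAB a ha b hb
  have hmem : ∀ x ∈ A ⊔ B, ∃ a ∈ A, ∃ b ∈ B, a * b = x := by
    intro x hx
    rw [← SetLike.mem_coe, Subgroup.coe_mul_of_right_le_normalizer_left A B hn] at hx
    exact hx
  refine ⟨⟨⟨fun x y => Subtype.ext ?_⟩⟩, fun x hx => ?_⟩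
  · obtain ⟨a, ha, b, hb, hx⟩ := hmem x x.2
    obtain ⟨c, hc, d, hd, hy⟩ := hmem y y.2
    show (x : P) * y = y * x
    rw [← hx, ← hy]
    exact ((commute_of hA ha hc).mul_left (hAB c hc b hb).symm).mul_right
      ((show Commute a d from hAB a ha d hd).mul_left (commute_of hB hb hd))
  · obtain ⟨a, ha, b, hb, rfl⟩ := hmem x hx
    rw [(show Commute a b from hAB a ha b hb).mul_pow, hA.2 a ha, hB.2 b hb, one_mul]

theorem card_le_of_rank {P : Type*} [Group P] {p k : ℕ} {X E : Subgroup P}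
    (h : PRankLE p k ↥(Subgroup.centralizer (X : Set P))) (hle : E ≤ Subgroup.centralizer (X : Set P))
    (hE : IsElementaryAbelian p E) : Nat.card E ≤ p ^ k := by
  rw [← Nat.card_congr (Subgroup.subgroupOfEquivOfLe hle).toEquiv]
  refine h _ ⟨⟨fun a b => Subtype.ext (Subtype.ext (commute_of hE a.2 b.2).eq)⟩⟩ fun a ha => ?_
  exact Subtype.ext (by rw [Subgroup.coe_pow, Subgroup.coe_one]; exact hE.2 _ ha)

theorem exists_of_not_rank {P : Type*} [Group P] [Finite P] {p k : ℕ} [Fact p.Prime] (hP : IsPGroup p P)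
    {C : Subgroup P} (h : ¬ PRankLE p k ↥C) :
    ∃ W : Subgroup P, W ≤ C ∧ IsElementaryAbelian p W ∧ p ^ (k + 1) ≤ Nat.card W := by
  simp only [PRankLE, not_forall, not_le] at h
  obtain ⟨A, hA, hA', hcard⟩ := h
  refine ⟨A.map C.subtype, Subgroup.map_subtype_le _, ⟨⟨⟨?_⟩⟩, ?_⟩, ?_⟩
  · rintro ⟨_, a, ha, rfl⟩ ⟨_, b, hb, rfl⟩
    exact Subtype.ext (congrArg (fun x : A => ((x : C) : P))
      (mul_comm' (⟨a, ha⟩ : A) ⟨b, hb⟩))
  · rintro _ ⟨a, ha, rfl⟩
    rw [← map_pow, hA' a ha, map_one]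
  · rw [Subgroup.card_map_of_injective C.subtype_injective]
    obtain ⟨j, hj⟩ := ((hP.to_subgroup C).to_subgroup A).exists_card_eq
    rw [hj] at hcard ⊢
    exact Nat.pow_le_pow_right (Fact.out : p.Prime).pos
      ((Nat.pow_lt_pow_iff_right (Fact.out : p.Prime).one_lt).1 hcard)

/-- Let P be a finite p-group of p-rank greater than 2. Then P has a normal elementary abelian subgroup U of order p², and for every elementary abelian X ≤ P with |X| ≥ p²: X is joined to U by a chain of pairwise commuting elementary abelian subgroups of order ≥ p² if and only if C_P(X) has p-rank greater than 2. -/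
theorem result {P : Type*} [Group P] [Finite P] (p : ℕ) [Fact p.Prime] (hP : IsPGroup p P) (hrk : ¬ Cfsg.PRankLE p 2 P) : ∃ U : Subgroup P, U.Normal ∧ Cfsg.IsElementaryAbelian p U ∧ Nat.card ↥U = p ^ 2 ∧ ∀ X : Subgroup P, Cfsg.IsElementaryAbelian p X → p ^ 2 ≤ Nat.card ↥X → (Relation.ReflTransGen (fun A B : Subgroup P => Cfsg.IsElementaryAbelian p A ∧ p ^ 2 ≤ Nat.card ↥A ∧ Cfsg.IsElementaryAbelian p B ∧ p ^ 2 ≤ Nat.card ↥B ∧ ∀ a ∈ A, ∀ b ∈ B, a * b = b * a) X U ↔ ¬ Cfsg.PRankLE p 2 ↥(Subgroup.centralizer (X : Set P))) := by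
  have hp := (Fact.out : p.Prime)
  obtain ⟨W, -, hW, hWc⟩ := exists_of_not_rank hP (C := ⊤) (k := 2) (fun h => hrk fun A hA hA' => by
    have hc : Nat.card (A.comap (⊤ : Subgroup P).subtype) ≤ p ^ 2 := by
      refine h _ ⟨⟨fun a b => Subtype.ext (Subtype.ext ?_)⟩⟩ fun a ha => Subtype.ext (hA' _ ha)
      exact congrArg (fun x : A => (x : P)) (mul_comm' (⟨(a : P), a.2⟩ : A) ⟨(b : P), b.2⟩)
    rwa [show A.comap (⊤ : Subgroup P).subtype = A.subgroupOf ⊤ from rfl,
      Nat.card_congr (Subgroup.subgroupOfEquivOfLe le_top).toEquiv] at hc)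
  obtain ⟨U, hUn, hU, hUc⟩ := PNormal.exists_normal_card_sq hP hW hWc
  refine ⟨U, hUn, hU, hUc, fun X hX hXc => ?_⟩
  -- every subgroup of order at least p^3 meets C(U) in order at least p^2
  have hbig : ∀ V : Subgroup P, p ^ 3 ≤ Nat.card V →
      p ^ 2 ≤ Nat.card ↥(V ⊓ Subgroup.centralizer (U : Set P)) := by
    intro V hV
    have h1 := PNormal.card_le_mul_centralizer hP hU hUc V
    rw [pow_succ'] at hV
    exact Nat.le_of_mul_le_mul_left (hV.trans h1) hp.pos
  constructor
  · intro hpath hrank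
    -- X is isolated, so X = U
    have hiso : ∀ Y, Relation.ReflTransGen (fun A B : Subgroup P => Cfsg.IsElementaryAbelian p A ∧
        p ^ 2 ≤ Nat.card ↥A ∧ Cfsg.IsElementaryAbelian p B ∧ p ^ 2 ≤ Nat.card ↥B ∧
        ∀ a ∈ A, ∀ b ∈ B, a * b = b * a) X Y → Y = X := by
      intro Y hY
      induction hY with
      | refl => rfl
      | @tail B C _ hBC ih =>
        subst ih
        obtain ⟨-, -, hC, hCc, hcomm⟩ := hBC
        have hle : B ⊔ C ≤ Subgroup.centralizer (B : Set P) := by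
          refine sup_le (fun b hb => Subgroup.mem_centralizer_iff.2 fun a ha => (commute_of hX ha hb).eq)
            fun c hc => Subgroup.mem_centralizer_iff.2 fun b hb => hcomm b hb c hc
        have hcard := card_le_of_rank hrank hle (elementary_join hX hC hcomm)
        have h1 := Subgroup.eq_of_le_of_card_ge (le_sup_left : B ≤ B ⊔ C) (hcard.trans hXc)
        have h2 := Subgroup.eq_of_le_of_card_ge (le_sup_right : C ≤ B ⊔ C) (hcard.trans hCc)
        rw [h2, ← h1]
    have hUX := hiso U hpath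
    subst hUX
    set W0 := W ⊓ Subgroup.centralizer (U : Set P) with hW0def
    have hW0e : IsElementaryAbelian p W0 :=
      ⟨⟨⟨fun a b => Subtype.ext (commute_of hW a.2.1 b.2.1).eq⟩⟩, fun a ha => hW.2 a ha.1⟩
    have hle : U ⊔ W0 ≤ Subgroup.centralizer (U : Set P) :=
      sup_le (fun b hb => Subgroup.mem_centralizer_iff.2 fun a ha => (commute_of hU ha hb).eq) inf_le_right
    have hcard := card_le_of_rank hrank hle
      (elementary_join hU hW0e fun a ha b hb => Subgroup.mem_centralizer_iff.1 hb.2 a ha)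
    have h1 := Subgroup.eq_of_le_of_card_ge (le_sup_left : U ≤ U ⊔ W0) (hcard.trans hXc)
    have hW0U : W0 ≤ U := h1 ▸ le_sup_right
    have h2 : W0 = U := Subgroup.eq_of_le_of_card_ge hW0U (hUc ▸ hbig W hWc)
    have hWC : W ≤ Subgroup.centralizer (U : Set P) := by
      intro w hw
      rw [Subgroup.mem_centralizer_iff]
      intro u hu
      rw [SetLike.mem_coe, ← h2] at hu
      exact (commute_of hW hu.1 hw).eq
    have h3 := card_le_of_rank hrank hWC hW
    have h4 : p ^ 2 < p ^ (2 + 1) := Nat.pow_lt_pow_right hp.one_lt (by norm_num)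
    omega
  · intro hrank
    obtain ⟨V, hVle, hV, hVc⟩ := exists_of_not_rank hP hrank
    have hV2 : p ^ 2 ≤ Nat.card V := le_trans (Nat.pow_le_pow_right hp.pos (by norm_num)) hVc
    set V0 := V ⊓ Subgroup.centralizer (U : Set P) with hV0def
    have hV0e : IsElementaryAbelian p V0 :=
      ⟨⟨⟨fun a b => Subtype.ext (commute_of hV a.2.1 b.2.1).eq⟩⟩, fun a ha => hV.2 a ha.1⟩
    refine Relation.ReflTransGen.head (b := V) ⟨hX, hXc, hV, hV2,
      fun a ha b hb => Subgroup.mem_centralizer_iff.1 (hVle hb) a ha⟩ ?_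
    refine Relation.ReflTransGen.head (b := V0) ⟨hV, hV2, hV0e, hbig V hVc,
      fun a ha b hb => (commute_of hV ha hb.1).eq⟩ ?_
    exact Relation.ReflTransGen.single ⟨hV0e, hbig V hVc, hU, hUc.ge,
      fun a ha b hb => (Subgroup.mem_centralizer_iff.1 ha.2 b hb).symm⟩

end Cfsg.Agent.S1337
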