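import Cfsg.Statements.S1338
import Cfsg.Agent.S1337
import Cfsg.Agent.S0122

set_option autoImplicit false
open Cfsg

namespace Cfsg.Agent.S1338

theorem card_le_card_ker_mul {A B : Type*} [Group A] [Group B] [Finite A] (f : A →* B) (K : Subgroup B) [Finite K] :
    Nat.card ↥(K.comap f) ≤ Nat.card ↥f.ker * Nat.card K := by
  let g : ↥(K.comap f) →* K := (f.comp (K.comap f).subtype).codRestrict K fun x => x.2
  have h1 := Subgroup.card_eq_card_quotient_mul_card_subgroup g.ker
  rw [Nat.card_congr (QuotientGroup.quotientKerEquivRange g).toEquiv, mul_comm] at h1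
  rw [h1]
  refine Nat.mul_le_mul ?_ (Subgroup.card_le_card_group _)
  exact Nat.card_le_card_of_injective (fun x => (⟨x.1.1, by
    have := congrArg Subtype.val (MonoidHom.mem_ker.1 x.2)
    exact MonoidHom.mem_ker.2 this⟩ : f.ker)) fun a b h => by
      exact Subtype.ext (Subtype.ext (congrArg (fun z => z.1) h))

/-- An element of order 3 acting on an elementary abelian 3-group `A` of order at least 81 fixes at
least nine elements. -/
theorem nine_le_fixed {P : Type*} [Group P] [Finite P] {A : Subgroup P} [A.Normal]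
    (hA : IsElementaryAbelian 3 A) (hAc : 3 ^ 4 ≤ Nat.card A) {x : P} (hx : x ^ 3 = 1) :
    9 ≤ Nat.card ↥(A ⊓ Subgroup.centralizer ({x} : Set P)) := by
  letI : CommGroup A := { (inferInstance : Group A) with mul_comm := hA.1.is_comm.comm }
  let s : MulAut A := MulAut.conjNormal x
  let f : A →* A :=
    { toFun := fun a => s a * a⁻¹
      map_one' := by simp
      map_mul' := fun a b => by rw [map_mul, mul_inv]; exact mul_mul_mul_comm _ _ _ _ }
  have hpow : ∀ a : A, a ^ 3 = 1 := fun a => Subtype.ext (by simpa using hA.2 _ a.2)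
  have hs : ∀ a : A, s (s (s a)) = a := by
    intro a
    have h : s ^ 3 = 1 := by
      show (MulAut.conjNormal x : MulAut A) ^ 3 = 1
      rw [← map_pow, hx, map_one]
    have h2 := DFunLike.congr_fun h a
    simpa [pow_succ, MulAut.mul_apply] using h2
  have hfff : ∀ a : A, f (f (f a)) = 1 := by
    intro a
    show s (s (s a * a⁻¹) * (s a * a⁻¹)⁻¹) * (s (s a * a⁻¹) * (s a * a⁻¹)⁻¹)⁻¹ = 1
    simp only [map_mul, map_inv, hs]
    generalize s (s a) = u
    generalize s a = v
    have h1 := hpow u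
    have h2 := hpow v
    calc _ = (v ^ 3) * (u ^ 3)⁻¹ := by
          apply Additive.ofMul.injective
          simp only [ofMul_mul, ofMul_inv, ofMul_pow]
          abel
      _ = 1 := by rw [h1, h2, inv_one, mul_one]
  have h3 : Nat.card A ≤ Nat.card f.ker * (Nat.card f.ker * Nat.card f.ker) := by
    have e : (f.ker.comap f).comap f = ⊤ :=
      eq_top_iff.2 fun a _ => by simpa [MonoidHom.mem_ker] using hfff a
    calc Nat.card A = Nat.card ↥((f.ker.comap f).comap f) := by rw [e, Subgroup.card_top]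
      _ ≤ Nat.card f.ker * Nat.card ↥(f.ker.comap f) := card_le_card_ker_mul f _
      _ ≤ _ := Nat.mul_le_mul_left _ (card_le_card_ker_mul f _)
  have h4 : Nat.card f.ker ≤ Nat.card ↥(A ⊓ Subgroup.centralizer ({x} : Set P)) := by
    refine Nat.card_le_card_of_injective (fun a => (⟨a.1.1, a.1.2, ?_⟩ :
      ↥(A ⊓ Subgroup.centralizer ({x} : Set P)))) fun a b h => Subtype.ext (Subtype.ext (congrArg (fun z => z.1) h))
    have h := MonoidHom.mem_ker.1 a.2
    have h' : s a.1 = a.1 := mul_inv_eq_one.1 h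
    have h'' : x * a.1.1 * x⁻¹ = a.1.1 := congrArg Subtype.val h'
    exact Subgroup.mem_centralizer_singleton_iff.2 (mul_inv_eq_iff_eq_mul.1 h'').symm
  have hP3 : IsPGroup 3 f.ker := fun a => ⟨1, by simpa using Subtype.ext (hpow a.1)⟩
  haveI : Fact (Nat.Prime 3) := ⟨by norm_num⟩
  obtain ⟨k, hk⟩ := hP3.exists_card_eq
  rcases Nat.lt_or_ge k 2 with h | h
  · rw [hk] at h3
    have : 3 ^ k ≤ 3 := by
      calc 3 ^ k ≤ 3 ^ 1 := Nat.pow_le_pow_right (by norm_num) (by omega)
        _ = 3 := pow_one _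
    have h6 : 3 ^ k * (3 ^ k * 3 ^ k) ≤ 27 := by
      calc 3 ^ k * (3 ^ k * 3 ^ k) ≤ 3 * (3 * 3) := by gcongr
        _ = 27 := by norm_num
    omega
  · calc 9 = 3 ^ 2 := by norm_num
      _ ≤ 3 ^ k := Nat.pow_le_pow_right (by norm_num) h
      _ = Nat.card f.ker := hk.symm
      _ ≤ _ := h4


/-- A finite 3-group of 3-rank at least 4 is 2-connected for the prime 3: its commuting graph on elementary abelian subgroups of order ≥ 9 is connected. -/
theorem result {P : Type*} [Group P] [Finite P] (hP : IsPGroup 3 P) (hrk : ¬ Cfsg.PRankLE 3 3 P) : Cfsg.IsKConnected 3 2 P := by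
  haveI : Fact (Nat.Prime 3) := ⟨by norm_num⟩
  have hrk2 : ¬ PRankLE 3 2 P := fun h => hrk fun B hB hB' =>
    (h B hB hB').trans (Nat.pow_le_pow_right (by norm_num) (by norm_num))
  obtain ⟨U, -, hU, hUc, hpath⟩ := Cfsg.Agent.S1337.result 3 hP hrk2
  -- a normal elementary abelian subgroup of order 81
  obtain ⟨A, hAn, hA, hAc⟩ : ∃ A : Subgroup P, A.Normal ∧ IsElementaryAbelian 3 A ∧ Nat.card A = 3 ^ 4 := by
    simp only [PRankLE, not_forall, not_le] at hrk
    obtain ⟨B, hB, hB', hBc⟩ := hrk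
    obtain ⟨j, hj⟩ := (hP.to_subgroup B).exists_card_eq
    rw [hj] at hBc
    have hj4 : 4 ≤ j := (Nat.pow_lt_pow_iff_right (by norm_num)).1 hBc
    obtain ⟨E, hEB, hEc⟩ : ∃ E : Subgroup P, E ≤ B ∧ Nat.card E = 3 ^ 4 :=
      by
        obtain ⟨E, hE1, hE2⟩ := Sylow.exists_subgroup_le_card_pow_prime_of_le_card (Fact.out : Nat.Prime 3) hP (H := B) (n := 4) (by rw [hj]; exact Nat.pow_le_pow_right (by norm_num) hj4)
        exact ⟨E, hE1, hE2⟩
    exact Cfsg.Agent.S0122.result (by norm_num) hP E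
      ⟨⟨⟨fun u v => Subtype.ext (congrArg (fun w : B => (w : P))
        (hB.is_comm.comm ⟨u, hEB u.2⟩ ⟨v, hEB v.2⟩))⟩⟩, fun u hu => hB' u (hEB hu)⟩ hEc
  haveI := hAn
  have hkey : ∀ X : Subgroup P, IsElementaryAbelian 3 X → 3 ^ 2 ≤ Nat.card X →
      ¬ PRankLE 3 2 ↥(Subgroup.centralizer (X : Set P)) := by
    intro X hX hXc hrank
    have hXC : X ≤ Subgroup.centralizer (X : Set P) := fun a ha =>
      Subgroup.mem_centralizer_iff.2 fun b hb => (S1337.commute_of hX hb ha).eq
    set D := A ⊓ Subgroup.centralizer (X : Set P) with hD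
    have hDe : IsElementaryAbelian 3 D :=
      ⟨⟨⟨fun a b => Subtype.ext (S1337.commute_of hA a.2.1 b.2.1).eq⟩⟩, fun a ha => hA.2 a ha.1⟩
    have hcard := S1337.card_le_of_rank hrank (sup_le hXC inf_le_right)
      (S1337.elementary_join hX hDe fun a ha d hd => Subgroup.mem_centralizer_iff.1 hd.2 a ha)
    have hDX : D ≤ X := by
      have h := Subgroup.eq_of_le_of_card_ge (le_sup_left : X ≤ X ⊔ D) (hcard.trans hXc)
      exact le_sup_right.trans h.ge
    have hX9 : Nat.card X ≤ 3 ^ 2 := le_trans (Subgroup.card_le_of_le le_sup_left) hcard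
    have hnle : ¬ X ≤ A := fun hle => by
      have h := S1337.card_le_of_rank hrank (fun a ha => Subgroup.mem_centralizer_iff.2
        fun b hb => (S1337.commute_of hA (hle hb) ha).eq) hA
      rw [hAc] at h
      norm_num at h
    obtain ⟨x, hx, hxA⟩ := SetLike.not_le_iff_exists.1 hnle
    -- the subgroup `X ⊓ A` is a proper subgroup of a group of order 9
    obtain ⟨i, hi⟩ := (hP.to_subgroup (X ⊓ A)).exists_card_eq
    have hi2 : i < 2 := by
      refine (Nat.pow_lt_pow_iff_right (by norm_num : 1 < 3)).1 (hi ▸ ?_)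
      refine lt_of_lt_of_le ?_ hX9
      by_contra hcon
      exact hxA ((Subgroup.eq_of_le_of_card_ge inf_le_left (not_lt.1 hcon)).ge hx).2
    set X' := (X ⊓ A) ⊔ Subgroup.zpowers x with hX'
    have hX'le : X' ≤ X := sup_le inf_le_left (Subgroup.zpowers_le.2 hx)
    have hXX' : X' = X := by
      refine Subgroup.eq_of_le_of_card_ge hX'le ?_
      obtain ⟨l, hl⟩ := (hP.to_subgroup X').exists_card_eq
      obtain ⟨m, hm⟩ := (hP.to_subgroup X).exists_card_eq
      rw [hl, hm]
      refine Nat.pow_le_pow_right (by norm_num) ?_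
      have hm2 : m ≤ 2 := (Nat.pow_le_pow_iff_right (by norm_num)).1 (hm ▸ hX9)
      -- `A` meets the centre nontrivially, inside `X`
      obtain ⟨z, hz, hzc, hz1⟩ : ∃ z ∈ A, z ∈ Subgroup.center P ∧ z ≠ 1 := by
        haveI : Nontrivial ↥A := by
          rw [← Finite.one_lt_card_iff_nontrivial, hAc]; norm_num
        have hne : A ⊓ Subgroup.center P ≠ ⊥ := PGroup.inf_center_ne_bot hP (by
          intro h; rw [h, Subgroup.card_bot] at hAc; norm_num at hAc)
        obtain ⟨z, hz, hz1⟩ := (Subgroup.bot_or_exists_ne_one _).resolve_left hne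
        exact ⟨z, hz.1, hz.2, hz1⟩
      have hzX : z ∈ X ⊓ A := ⟨hDX ⟨hz, Subgroup.center_le_centralizer _ hzc⟩, hz⟩
      have hlt : X ⊓ A < X' :=
        lt_of_le_of_ne le_sup_left fun h => hxA
          (h ▸ (le_sup_right : Subgroup.zpowers x ≤ X') (Subgroup.mem_zpowers x) : x ∈ X ⊓ A).2
      have h1 : 1 < Nat.card ↥(X ⊓ A) := by
        by_contra hcon
        exact hz1 (Subgroup.mem_bot.1 ((Subgroup.card_eq_one.1
          (le_antisymm (not_lt.1 hcon) Nat.card_pos)) ▸ hzX))
      have h2 := lt_of_not_ge fun h => (ne_of_lt hlt) (Subgroup.eq_of_le_of_card_ge hlt.le h)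
      rw [hi] at h1 h2
      rw [hl] at h2
      have h3 : i < l := (Nat.pow_lt_pow_iff_right (by norm_num)).1 h2
      have h4 : 0 < i := Nat.pos_of_ne_zero fun h => by simp [h] at h1
      omega
    -- `x` fixes at least nine elements of `A`, all centralizing `X`
    have hsub : A ⊓ Subgroup.centralizer ({x} : Set P) ≤ X ⊓ A := by
      rintro a ⟨haA, hax⟩
      refine ⟨hDX ⟨haA, ?_⟩, haA⟩
      have hle : X' ≤ Subgroup.centralizer ({a} : Set P) := by
        refine sup_le (fun b hb => ?_) (Subgroup.zpowers_le.2 ?_)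
        · exact Subgroup.mem_centralizer_singleton_iff.2 (S1337.commute_of hA hb.2 haA).eq
        · exact Subgroup.mem_centralizer_singleton_iff.2 (Subgroup.mem_centralizer_singleton_iff.1 hax).symm
      rw [hXX'] at hle
      exact Subgroup.mem_centralizer_iff.2 fun b hb =>
        Subgroup.mem_centralizer_singleton_iff.1 (hle hb)
    have h9 := (nine_le_fixed hA hAc.ge (hX.2 x hx)).trans (Subgroup.card_le_of_le hsub)
    rw [hi] at h9
    interval_cases i <;> norm_num at h9
  intro E E' hE hEc hE' hE'c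
  have hback := (hpath E' hE' hE'c).2 (hkey E' hE' hE'c)
  refine ((hpath E hE hEc).2 (hkey E hE hEc)).trans ?_
  clear hpath hU hUc
  induction hback with
  | refl => exact Relation.ReflTransGen.refl
  | tail _ h ih => exact Relation.ReflTransGen.head ⟨h.2.2.1, h.2.2.2.1, h.1, h.2.1,
      fun u hu v hv => (h.2.2.2.2 v hv u hu).symm⟩ ih

end Cfsg.Agent.S1338
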