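import Cfsg.Statements.S1339
import Cfsg.Agent.Lib.Components.CharTwo

set_option autoImplicit false
open Cfsg

namespace Cfsg.Agent.S1339

open Matrix

variable {F : Type*} [Field F] [DecidableEq F] {n : ℕ}

theorem eq_one_of_card_two [Fintype F] (hF : Fintype.card F = 2) {a : F} (ha : a ≠ 0) : a = 1 := by
  have h := FiniteField.pow_card_sub_one_eq_one a ha
  rwa [hF, pow_one] at h

theorem add_self_eq_zero' [Fintype F] (hF : Fintype.card F = 2) (a : F) : a + a = 0 := by
  rcases eq_or_ne (1 + 1 : F) 0 with h | h
  · rw [← two_mul, show (2 : F) = 1 + 1 from one_add_one_eq_two.symm, h, zero_mul]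
  · exact absurd (add_left_cancel (a := (1 : F)) (b := 1) (c := 0)
      (by rw [eq_one_of_card_two hF h, add_zero])) one_ne_zero

/-- A matrix commuting with `E_ij` has column `i` and row `j` equal to those of a scalar. -/
theorem col_row_of_commute {M : Matrix (Fin n) (Fin n) F} {i j : Fin n}
    (h : M * Matrix.single i j 1 = Matrix.single i j 1 * M) :
    (∀ k, k ≠ i → M k i = 0) ∧ (∀ l, l ≠ j → M j l = 0) ∧ M i i = M j j := by
  refine ⟨fun k hk => ?_, fun l hl => ?_, ?_⟩
  · have := congrFun (congrFun h k) j
    simpa [Matrix.mul_apply, Matrix.single_apply, hk, hk.symm] using this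
  · have := congrFun (congrFun h i) l
    simpa [Matrix.mul_apply, Matrix.single_apply, hl, hl.symm, eq_comm] using this
  · have := congrFun (congrFun h i) j
    simpa [Matrix.mul_apply, Matrix.single_apply] using this


/-- Let F be a field with 2 elements, n ≥ 3, and t ∈ SL(n, F) a transvection (t = 1 + E_{ij}, i ≠ j). Then the generalized Fitting subgroup of C(t) is O_2(C(t)). -/
theorem result {F : Type*} [Field F] [Fintype F] [DecidableEq F] (hF : Fintype.card F = 2) (n : ℕ) (hn : 3 ≤ n) (i j : Fin n) (hij : i ≠ j) (t : Matrix.SpecialLinearGroup (Fin n) F) (ht : (t : Matrix (Fin n) (Fin n) F) = Matrix.transvection i j 1) : Cfsg.generalizedFittingSubgroup ↥(Subgroup.centralizer ({t} : Set (Matrix.SpecialLinearGroup (Fin n) F))) = Cfsg.pCore 2 ↥(Subgroup.centralizer ({t} : Set (Matrix.SpecialLinearGroup (Fin n) F))) := by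
  haveI : Fact (Nat.Prime 2) := ⟨Nat.prime_two⟩
  set C := Subgroup.centralizer ({t} : Set (Matrix.SpecialLinearGroup (Fin n) F)) with hC
  have hrc : ∀ g : C, (∀ k, k ≠ i → (g.1 : Matrix (Fin n) (Fin n) F) k i = 0) ∧
      (∀ l, l ≠ j → (g.1 : Matrix (Fin n) (Fin n) F) j l = 0) := by
    intro g
    have h := congrArg (fun x : Matrix.SpecialLinearGroup (Fin n) F => (x : Matrix (Fin n) (Fin n) F))
      (Subgroup.mem_centralizer_singleton_iff.1 g.2)
    simp only [Matrix.SpecialLinearGroup.coe_mul, ht, Matrix.transvection, mul_add, add_mul,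
      mul_one, one_mul] at h
    obtain ⟨h1, h2, -⟩ := col_row_of_commute (add_left_cancel h)
    exact ⟨h1, h2⟩
  let φ : C →* Matrix {m : Fin n // m ≠ i ∧ m ≠ j} {m : Fin n // m ≠ i ∧ m ≠ j} F :=
    { toFun := fun g => (g.1 : Matrix (Fin n) (Fin n) F).submatrix Subtype.val Subtype.val
      map_one' := by
        ext a b
        simp [Matrix.one_apply, Subtype.ext_iff]
      map_mul' := fun g h => by
        ext a b
        simp only [Subgroup.coe_mul, Matrix.SpecialLinearGroup.coe_mul, Matrix.submatrix_apply,
          Matrix.mul_apply]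
        rw [← Finset.sum_filter_add_sum_filter_not Finset.univ (fun m : Fin n => m ≠ i ∧ m ≠ j)]
        rw [Finset.sum_eq_zero (s := Finset.univ.filter fun m : Fin n => ¬(m ≠ i ∧ m ≠ j))
          (fun m hm => ?_), add_zero]
        · rw [← Finset.sum_subtype_eq_sum_filter, Finset.subtype_univ]
        · rw [Finset.mem_filter, not_and_or, not_not, not_not] at hm
          rcases hm.2 with rfl | rfl
          · rw [(hrc g).1 _ a.2.1, zero_mul]
          · rw [(hrc h).2 _ b.2.2, mul_zero] }
  refine Components.genFitting_eq_pCore_of_selfCentralizing φ.ker ?_ ?_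
  · -- the kernel has exponent dividing 4
    intro g
    refine ⟨2, ?_⟩
    have hker : ∀ a b : {m : Fin n // m ≠ i ∧ m ≠ j},
        (g.1.1 : Matrix (Fin n) (Fin n) F) a b = (1 : Matrix (Fin n) (Fin n) F) a b := by
      intro a b
      have := congrArg (fun X : Matrix _ _ F => X a b) (MonoidHom.mem_ker.1 g.2)
      simpa [φ, Matrix.one_apply, Subtype.ext_iff] using this
    obtain ⟨hcol, hrow⟩ := hrc g.1
    set M : Matrix (Fin n) (Fin n) F := (g.1.1 : Matrix (Fin n) (Fin n) F) with hM
    have hdiag : M i i = 1 ∧ M j j = 1 := by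
      have hdet : M.det ≠ 0 := by rw [hM, g.1.1.2]; exact one_ne_zero
      constructor
      · refine eq_one_of_card_two hF fun h0 => hdet (Matrix.det_eq_zero_of_column_eq_zero i fun k => ?_)
        rcases eq_or_ne k i with rfl | hk
        exacts [h0, hcol k hk]
      · refine eq_one_of_card_two hF fun h0 => hdet (Matrix.det_eq_zero_of_row_eq_zero j fun l => ?_)
        rcases eq_or_ne l j with rfl | hl
        exacts [h0, hrow l hl]
    set N := M - 1 with hN
    have hNcol : ∀ k, N k i = 0 := by
      intro k
      rcases eq_or_ne k i with rfl | hk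
      · simp [hN, hdiag.1]
      · simp [hN, hcol k hk, Matrix.one_apply_ne hk]
    have hNrow : ∀ l, N j l = 0 := by
      intro l
      rcases eq_or_ne l j with rfl | hl
      · simp [hN, hdiag.2]
      · simp [hN, hrow l hl, Matrix.one_apply_ne hl.symm]
    have hNmid : ∀ k l, k ≠ i → k ≠ j → l ≠ i → l ≠ j → N k l = 0 := fun k l a b c d => by
      simp [hN, hker ⟨k, a, b⟩ ⟨l, c, d⟩]
    have hN3 : N * N * N = 0 := by
      ext k l
      rw [Matrix.mul_apply, Matrix.zero_apply]
      refine Finset.sum_eq_zero fun m _ => ?_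
      rcases eq_or_ne m j with rfl | hmj
      · rw [hNrow, mul_zero]
      rw [Matrix.mul_apply, Finset.sum_eq_zero (fun p _ => ?_), zero_mul]
      rcases eq_or_ne p j with rfl | hpj
      · rw [hNrow, mul_zero]
      rcases eq_or_ne p i with rfl | hpi
      · rw [hNcol, zero_mul]
      rcases eq_or_ne m i with rfl | hmi
      · rw [hNcol, mul_zero]
      rw [hNmid p m hpi hpj hmi hmj, mul_zero]
    have hadd : ∀ X : Matrix (Fin n) (Fin n) F, X + X = 0 := fun X => by
      ext a b; exact add_self_eq_zero' hF _
    have hM2 : M * M = 1 + N * N := by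
      have hM1 : M = 1 + N := by rw [hN]; abel
      rw [hM1, add_mul, one_mul, mul_add, mul_one, add_assoc, ← add_assoc N N, hadd, zero_add]
    have hM4 : M ^ 4 = 1 := by
      rw [show (4 : ℕ) = 2 * 2 from rfl, pow_mul, pow_two, pow_two, hM2, add_mul, one_mul, mul_add,
        mul_one, add_assoc, ← add_assoc (N * N) (N * N), hadd, zero_add, ← mul_assoc, hN3, zero_mul,
        add_zero]
    apply Subtype.ext; apply Subtype.ext; apply Subtype.ext
    simpa [hM] using hM4
  · intro h hh
    rw [Subgroup.mem_centralizer_iff] at hh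
    refine MonoidHom.mem_ker.2 ?_
    obtain ⟨hcol, hrow⟩ := hrc h
    ext a b
    -- commute with the transvection `1 + E_{i a}`
    let s : Matrix.SpecialLinearGroup (Fin n) F :=
      ⟨Matrix.transvection i a.1 1, Matrix.det_transvection_of_ne _ _ (fun e => a.2.1 e.symm) _⟩
    have hsC : s ∈ C := by
      refine Subgroup.mem_centralizer_singleton_iff.2 (Subtype.ext ?_)
      show Matrix.transvection i a.1 1 * (t : Matrix (Fin n) (Fin n) F) =
        (t : Matrix (Fin n) (Fin n) F) * Matrix.transvection i a.1 1
      simp only [ht, Matrix.transvection, mul_add, add_mul,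
        mul_one, one_mul, Matrix.single_mul_single_of_ne _ _ _ _ (Ne.symm hij),
        Matrix.single_mul_single_of_ne _ _ _ _ a.2.1, add_zero]
      abel_nf
    have hsQ : (⟨s, hsC⟩ : C) ∈ φ.ker := by
      refine MonoidHom.mem_ker.2 ?_
      ext c d
      simp [φ, s, Matrix.transvection, Matrix.one_apply, Ne.symm c.2.1,
        Subtype.ext_iff]
    have hcm : Matrix.transvection i a.1 1 * (h.1 : Matrix (Fin n) (Fin n) F) =
        (h.1 : Matrix (Fin n) (Fin n) F) * Matrix.transvection i a.1 1 :=
      congrArg (fun x : C => (x.1 : Matrix (Fin n) (Fin n) F)) (hh _ hsQ)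
    simp only [Matrix.transvection, mul_add, add_mul, mul_one, one_mul] at hcm
    have hcm' := add_left_cancel hcm
    have hab := congrFun (congrFun hcm' i) b.1
    simp only [φ, MonoidHom.coe_mk, OneHom.coe_mk, Matrix.submatrix_apply]
    simp [Matrix.mul_apply, Matrix.single_apply, eq_comm (a := i)] at hab
    have hii : (h.1 : Matrix (Fin n) (Fin n) F) i i = 1 := by
      refine eq_one_of_card_two hF fun h0 => ?_
      have hdet : (h.1 : Matrix (Fin n) (Fin n) F).det ≠ 0 := by rw [h.1.2]; exact one_ne_zero
      refine hdet (Matrix.det_eq_zero_of_column_eq_zero i fun k => ?_)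
      rcases eq_or_ne k i with rfl | hk
      exacts [h0, hcol k hk]
    rcases eq_or_ne a b with rfl | hne
    · simp [hii] at hab ⊢
      first | exact hab | exact hab.symm
    · have hne' : (a : Fin n) ≠ b := fun e => hne (Subtype.ext e)
      simp [hne', hne] at hab ⊢
      first | exact hab | exact hab.symm

end Cfsg.Agent.S1339
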