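import Cfsg.Statements.S1340
import Cfsg.Agent.Lib.Components.LinearBlock
import Cfsg.Agent.Lib.Cores.Basic

set_option autoImplicit false
open Cfsg

namespace Cfsg.Agent.S1340

/-- Let F be a finite field of odd order and n ≥ 3 with (n, |F|) ≠ (3, 3). Then GL(n, F) has a non-central involution t such that C(t) / O(C(t)) has a component. -/
theorem result {F : Type*} [Field F] [Fintype F] [DecidableEq F] (hF : Odd (Fintype.card F)) (n : ℕ) (hn : 3 ≤ n) (h33 : ¬ (n = 3 ∧ Fintype.card F = 3)) : ∃ t : Matrix.GeneralLinearGroup (Fin n) F, orderOf t = 2 ∧ t ∉ Subgroup.center (Matrix.GeneralLinearGroup (Fin n) F) ∧ Cfsg.HasComponent (↥(Subgroup.centralizer ({t} : Set (Matrix.GeneralLinearGroup (Fin n) F))) ⧸ Cfsg.oddCore ↥(Subgroup.centralizer ({t} : Set (Matrix.GeneralLinearGroup (Fin n) F)))) := by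
  obtain ⟨m, rfl⟩ : ∃ m, n = m + 1 := ⟨n - 1, by omega⟩
  haveI : Fact (Nat.Prime 2) := ⟨Nat.prime_two⟩
  have h2 : (2 : F) ≠ 0 := by
    refine Ring.two_ne_zero fun h => ?_
    have := FiniteField.even_card_of_char_two h
    rw [Nat.odd_iff] at hF
    omega
  have hq : IsQuasisimple (Matrix.SpecialLinearGroup (Fin m) F) := by
    refine Components.isQuasisimple_sl m (by omega) fun hm => ?_
    have h1 : 1 < Fintype.card F := Fintype.one_lt_card
    have h3 : Fintype.card F ≠ 3 := fun hc => h33 ⟨by omega, hc⟩
    rw [Nat.odd_iff] at hF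
    omega
  let e : Fin m ⊕ Fin 1 ≃ Fin (m + 1) := finSumFinEquiv
  let ρ : Matrix.GeneralLinearGroup (Fin (m + 1)) F →* Matrix (Fin (m + 1)) (Fin (m + 1)) F :=
    Units.coeHom _
  have hρ : Function.Injective ρ := fun a b h => Units.ext h
  let j : Matrix.SpecialLinearGroup (Fin m) F →* Matrix.GeneralLinearGroup (Fin (m + 1)) F :=
    Matrix.SpecialLinearGroup.toGL.comp (Components.blockSL e)
  have hj : ∀ A, ρ (j A) = Components.bdiag e A.1 1 := fun A => rfl
  let t : Matrix.GeneralLinearGroup (Fin (m + 1)) F :=
    ⟨Components.bsign e, Components.bsign e, Components.bsign_mul_self e, Components.bsign_mul_self e⟩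
  have ht : ρ t = Components.bsign e := rfl
  have hjinj : Function.Injective j := fun A B h =>
    Components.blockSL_injective e (Subtype.ext (congrArg ρ h))
  have ht1 : t ≠ 1 := by
    intro h
    have h' := congrArg ρ h
    rw [map_one, ht, Components.bsign, ← Components.bdiag_one e] at h'
    have h'' := congrFun (congrFun (Components.bdiag_inj e h').1 ⟨0, by omega⟩) ⟨0, by omega⟩
    simp only [Matrix.neg_apply, Matrix.one_apply_eq] at h''
    exact h2 (by linear_combination -h'')
  refine ⟨t, orderOf_eq_prime (by rw [pow_two]; exact Units.ext (Components.bsign_mul_self e)) ht1,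
    fun hc => ?_, ?_⟩
  · -- a transvection across the blocks does not commute with `t`
    let a : Fin (m + 1) := e (Sum.inl ⟨0, by omega⟩)
    let b : Fin (m + 1) := e (Sum.inr 0)
    have hab : a ≠ b := fun h => Sum.inl_ne_inr (e.injective h)
    obtain ⟨u, hu⟩ : ∃ u : Matrix.SpecialLinearGroup (Fin (m + 1)) F,
        u.1 = Matrix.transvection a b 1 := ⟨⟨_, Matrix.det_transvection_of_ne _ _ hab _⟩, rfl⟩
    have hcom := congrArg ρ (Subgroup.mem_center_iff.1 hc (Matrix.SpecialLinearGroup.toGL u))
    rw [map_mul, map_mul, ht] at hcom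
    obtain ⟨A, d, hA⟩ := Components.exists_blocks e h2 hcom
    have hA' : u.1 = Components.bdiag e A d := hA
    rw [hu] at hA'
    have h' := congrFun (congrFun hA' a) b
    simp [Matrix.transvection, Matrix.one_apply_ne hab, Components.bdiag, a, b] at h'
  · set C := Subgroup.centralizer ({t} : Set (Matrix.GeneralLinearGroup (Fin (m + 1)) F)) with hC
    set L := j.range.subgroupOf C with hL
    have hLle : j.range ≤ C := Components.range_le_centralizer e ρ j hρ hj ht
    haveI hLn : L.Normal := by
      have hc := Components.commutator_centralizer_le e ρ j hρ hj h2 ht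
      exact Subgroup.Normal.of_commutator_le C hc
    have hLq : IsQuasisimple L :=
      (Components.isQuasisimple_congr ((MonoidHom.ofInjective hjinj).trans
        (Subgroup.subgroupOfEquivOfLe hLle).symm)).1 hq
    let π := QuotientGroup.mk' (oddCore ↥C)
    refine ⟨L.map π, (hLn.map π (QuotientGroup.mk'_surjective _)).isSubnormal, ?_⟩
    haveI : Nontrivial ↥(L.map π) := by
      rw [Subgroup.nontrivial_iff_ne_bot, Ne, Subgroup.map_eq_bot_iff, QuotientGroup.ker_mk']
      intro hle
      -- `L` contains an involution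
      obtain ⟨S, hS1, hS2⟩ : ∃ S : Matrix.SpecialLinearGroup (Fin m) F, S ≠ 1 ∧ S ^ 2 = 1 := by
        let a : Fin m := ⟨0, by omega⟩
        let b : Fin m := ⟨1, by omega⟩
        have hab : a ≠ b := by simp [a, b, Fin.ext_iff]
        let d : Fin m → F := Pi.mulSingle a (-1) * Pi.mulSingle b (-1)
        refine ⟨⟨Matrix.diagonal d, ?_⟩, ?_, ?_⟩
        · simp [Matrix.det_diagonal, d, Finset.prod_mul_distrib]
        · intro h
          have h' := congrFun (congrFun (congrArg Subtype.val h) a) a
          simp [d, hab] at h'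
          exact h2 (by linear_combination -h')
        · apply Subtype.ext
          show Matrix.diagonal d ^ 2 = 1
          rw [Matrix.diagonal_pow, ← Matrix.diagonal_one]
          congr 1
          ext k
          simp only [d, Pi.pow_apply, Pi.mul_apply, Pi.mulSingle_apply]
          split_ifs <;> ring
      have hx : (⟨j S, hLle ⟨S, rfl⟩⟩ : C) ∈ oddCore ↥C := hle (Subgroup.mem_subgroupOf.2 ⟨S, rfl⟩)
      have hord : orderOf (⟨j S, hLle ⟨S, rfl⟩⟩ : C) = 2 := by
        refine orderOf_eq_prime ?_ fun h => hS1 (hjinj (by simpa using congrArg Subtype.val h))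
        exact Subtype.ext (by simp [← map_pow, hS2])
      have hdvd := Subgroup.orderOf_dvd_natCard (oddCore ↥C) hx
      rw [hord] at hdvd
      exact Cores.not_dvd_card_pPrimeCore hdvd
    exact Components.IsQuasisimple.of_surjective hLq (π.subgroupMap L) (π.subgroupMap_surjective L)

end Cfsg.Agent.S1340
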