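import Cfsg.Statements.S1344
import Cfsg.Agent.Lib.Components.HatLayer

set_option autoImplicit false
open Cfsg

namespace Cfsg.Agent.S1344

/-- Let K be a 2-component of the finite group X. Then K ≤ L*_{2'}(X) and K is normal in L*_{2'}(X). -/
theorem result {X : Type*} [Group X] [Finite X] (K : Subgroup X) (hK : Cfsg.IsPComponent 2 K) : K ≤ Cfsg.extendedTwoLayer X ∧ (K.subgroupOf (Cfsg.extendedTwoLayer X)).Normal := by
  refine ⟨(Cfsg.Agent.Components.IsPComponent.le_pLayer hK).trans
    (le_sup_left.trans le_sup_left), Subgroup.normal_subgroupOf_of_le_normalizer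
      (sup_le (sup_le (Cfsg.Agent.Components.IsPComponent.pLayer_le_normalizer hK) ?_)
        (iSup_le fun T => ?_))⟩
  · intro g hg
    refine Cfsg.Agent.Components.IsPComponent.mem_normalizer_of_map_conj hK ?_
    rw [show QuotientGroup.mk' (Cfsg.pPrimeCore 2 X) g = 1 from (QuotientGroup.eq_one_iff g).mpr hg]
    ext u
    simp
  · exact Cfsg.Agent.Components.pPrimeCore_centralizer_le_normalizer (T.isPGroup'.map _) hK

end Cfsg.Agent.S1344
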