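import Cfsg.Statements.S1348
import Cfsg.Agent.Lib.Components.LinearBlock
import Cfsg.Agent.Lib.Components.BBalance

set_option autoImplicit false
open Cfsg

namespace Cfsg.Agent.S1348

/-- Let F be a finite field of odd order, n ≥ 7 odd, and t ∈ SL(n, F) the diagonal matrix with entries −1, …, −1, 1. Then E(C(t)) is a standard subgroup of SL(n, F). -/
theorem result {F : Type*} [Field F] [Fintype F] [DecidableEq F] (hF : Odd (Fintype.card F)) (n : ℕ) (hn : 7 ≤ n) (hodd : Odd n) (t : Matrix.SpecialLinearGroup (Fin n) F) (ht : (t : Matrix (Fin n) (Fin n) F) = Matrix.diagonal (fun i : Fin n => if (i : ℕ) + 1 = n then (1 : F) else -1)) : Cfsg.IsStandardSubgroup ((Cfsg.layer ↥(Subgroup.centralizer ({t} : Set (Matrix.SpecialLinearGroup (Fin n) F)))).map (Subgroup.centralizer ({t} : Set (Matrix.SpecialLinearGroup (Fin n) F))).subtype) := by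
  obtain ⟨m, rfl⟩ : ∃ m, n = m + 1 := ⟨n - 1, by omega⟩
  have hm : Even m := Nat.not_odd_iff_even.1 fun h => Nat.not_even_iff_odd.2 hodd h.add_one
  haveI : Fact (Nat.Prime 2) := ⟨Nat.prime_two⟩
  have h2 : (2 : F) ≠ 0 := by
    refine Ring.two_ne_zero fun h => ?_
    have := FiniteField.even_card_of_char_two h
    rw [Nat.odd_iff] at hF
    omega
  let e : Fin m ⊕ Fin 1 ≃ Fin (m + 1) := finSumFinEquiv
  let G := Matrix.SpecialLinearGroup (Fin (m + 1)) F
  let ρ : G →* Matrix (Fin (m + 1)) (Fin (m + 1)) F :=
    { toFun := fun g => g.1, map_one' := rfl, map_mul' := fun _ _ => rfl }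
  have hρ : Function.Injective ρ := fun a b h => Subtype.ext h
  have htm : ρ t = Components.bsign e := by
    show (t : Matrix (Fin (m + 1)) (Fin (m + 1)) F) = _
    rw [ht, Components.bsign, Components.bdiag, ← Matrix.diagonal_one, ← Matrix.diagonal_one,
      Matrix.diagonal_neg, Matrix.fromBlocks_diagonal, Matrix.reindexAlgEquiv_apply,
      Matrix.reindex_apply, Matrix.submatrix_diagonal_equiv]
    congr 1
    funext i
    simp only [Function.comp_apply, e]
    refine Fin.lastCases ?_ (fun k => ?_) i
    · rw [finSumFinEquiv_symm_last]; simp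
    · have hk : finSumFinEquiv.symm k.castSucc = (Sum.inl k : Fin m ⊕ Fin 1) :=
        finSumFinEquiv_symm_apply_castAdd k
      rw [hk]; simp [k.isLt.ne]
  set C := Subgroup.centralizer ({t} : Set G) with hC
  set j : Matrix.SpecialLinearGroup (Fin m) F →* G := Components.blockSL e with hjdef
  have hj : ∀ A, ρ (j A) = Components.bdiag e A.1 1 := fun A => rfl
  have hjinj : Function.Injective j := Components.blockSL_injective e
  have hq : IsQuasisimple ↥j.range :=
    (Components.isQuasisimple_congr (MonoidHom.ofInjective hjinj)).1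
      (Components.isQuasisimple_sl m (by omega) (by omega))
  have hLC : j.range ≤ C := Components.range_le_centralizer e ρ j hρ hj htm
  have hcomm : commutator ↥C ≤ j.range.subgroupOf C :=
    Components.commutator_centralizer_le e ρ j hρ hj h2 htm
  haveI hLn : (j.range.subgroupOf C).Normal := Subgroup.Normal.of_commutator_le C hcomm
  have hlayer : (layer ↥C).map C.subtype = j.range := by
    have hcomp : IsComponent (j.range.subgroupOf C) :=
      ⟨hLn.isSubnormal, (Components.isQuasisimple_congr (Subgroup.subgroupOfEquivOfLe hLC).symm).1 hq⟩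
    have : layer ↥C = j.range.subgroupOf C := by
      refine le_antisymm (Components.layer_le fun K hK => ?_) (Components.IsComponent.le_layer hcomp)
      rw [← Components.IsComponent.perfect hK]
      exact (Subgroup.commutator_mono le_top le_top).trans hcomm
    rw [this, Subgroup.map_subgroupOf_eq_of_le hLC]
  rw [hlayer]
  set L := j.range with hL
  set Z := Subgroup.centralizer (L : Set G) with hZ
  have hscal : ∀ g ∈ Z, ∃ a d, ρ g = Components.bdiag e (Matrix.scalar (Fin m) a) d := fun g hg =>
    Components.exists_scalar_blocks e ρ j hρ hj h2 htm hm hg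
  have htL : t ∈ L := by
    obtain ⟨S, hS⟩ : ∃ S : Matrix.SpecialLinearGroup (Fin m) F, S.1 = -1 :=
      ⟨⟨-1, by rw [Matrix.det_neg, Matrix.det_one, mul_one, Fintype.card_fin, hm.neg_one_pow]⟩, rfl⟩
    exact ⟨S, hρ (by rw [hj, hS, htm]; rfl)⟩
  have htZ : t ∈ Z := Subgroup.mem_centralizer_iff.2 fun l hl =>
    Subgroup.mem_centralizer_singleton_iff.1 (hLC hl)
  have hZcomm : ∀ x ∈ Z, ∀ y ∈ Z, x * y = y * x := by
    intro x hx y hy
    obtain ⟨a, c, hxa⟩ := hscal x hx
    obtain ⟨b, d, hyb⟩ := hscal y hy
    refine hρ ?_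
    rw [map_mul, map_mul, hxa, hyb, Components.bdiag_mul, Components.bdiag_mul,
      ← map_mul, ← map_mul, mul_comm a b]
    congr 1
    ext p q
    fin_cases p; fin_cases q
    simp [Matrix.mul_apply, mul_comm]
  have hinv : ∀ z ∈ Z, z * z = 1 → z = 1 ∨ z = t := by
    intro z hz hz2
    obtain ⟨a, d, hzd⟩ := hscal z hz
    have hsq := congrArg ρ hz2
    rw [map_mul, map_one, hzd, Components.bdiag_mul, ← Components.bdiag_one e] at hsq
    obtain ⟨ha, -⟩ := Components.bdiag_inj e hsq
    rw [← map_mul] at ha
    have ha' : a * a = 1 := by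
      have := congrFun (congrFun ha ⟨0, by omega⟩) ⟨0, by omega⟩
      simpa [Matrix.scalar_apply] using this
    have hdet : (ρ z).det = 1 := z.2
    rw [hzd, Components.det_bdiag, Matrix.scalar_apply, Matrix.det_diagonal, Finset.prod_const,
      Finset.card_univ, Fintype.card_fin] at hdet
    obtain ⟨k, hk⟩ := hm
    have hak : a ^ m = 1 := by rw [hk, pow_add, ← mul_pow, ha', one_pow]
    rw [hak, one_mul, Matrix.det_fin_one] at hdet
    have hd : d = 1 := by
      ext p q
      fin_cases p; fin_cases q
      simpa using hdet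
    rcases (mul_self_eq_one_iff).1 ha' with h | h
    · left
      refine hρ ?_
      rw [hzd, h, hd, map_one, map_one, Components.bdiag_one]
    · right
      refine hρ ?_
      rw [hzd, h, hd, map_neg, map_one, htm]; rfl
  have ht1 : t ≠ 1 := by
    intro h
    have h' := congrArg ρ h
    rw [map_one, htm, Components.bsign, ← Components.bdiag_one e] at h'
    have h'' := congrFun (congrFun (Components.bdiag_inj e h').1 ⟨0, by omega⟩) ⟨0, by omega⟩
    simp only [Matrix.neg_apply, Matrix.one_apply_eq] at h''
    exact h2 (by linear_combination -h'')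
  have ht2 : t * t = 1 := hρ (by rw [map_mul, map_one, htm, Components.bsign_mul_self])
  have hfix : ∀ g : G, (MulAut.conj g) t ∈ Z → g ∈ C := by
    intro g hg
    rcases hinv _ hg (by rw [← map_mul, ht2, map_one]) with h | h
    · exact absurd ((MulAut.conj g).injective (h.trans (map_one _).symm)) ht1
    · rw [MulAut.conj_apply] at h
      exact Subgroup.mem_centralizer_singleton_iff.2 (mul_inv_eq_iff_eq_mul.1 h)
  have hCN : C ≤ Subgroup.normalizer (L : Set G) := (Subgroup.normal_subgroupOf_iff_le_normalizer hLC).1 hLn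
  have hNN : Subgroup.normalizer (L : Set G) ≤ Subgroup.normalizer (Z : Set G) :=
    Components.BBalance.normalizer_le_normalizer_centralizer L
  have hNC : Subgroup.normalizer (Z : Set G) ≤ C := fun g hg =>
    hfix g ((Subgroup.mem_normalizer_iff.1 hg t).1 htZ)
  refine ⟨hq, ⟨?_, fun g hg => ?_⟩, fun g _ hbot => ?_,
    le_antisymm hNN (hNC.trans hCN)⟩
  · have : orderOf (⟨t, htZ⟩ : Z) = 2 :=
      orderOf_eq_prime (Subtype.ext (by simpa [pow_two] using ht2)) (by simpa [Subtype.ext_iff] using ht1)
    exact even_iff_two_dvd.2 (this ▸ orderOf_dvd_natCard _)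
  · by_contra hodd'
    rw [Nat.not_odd_iff_even, even_iff_two_dvd] at hodd'
    obtain ⟨⟨z, hz1, hz2⟩, hzo⟩ := exists_prime_orderOf_dvd_card' (G := ↥(Z ⊓ Z.map (MulAut.conj g).toMonoidHom)) 2 hodd'
    obtain ⟨w, hw, hwz⟩ := hz2
    have hzo' : orderOf z = 2 := by
      rw [← Subgroup.orderOf_coe] at hzo
      exact hzo
    have hzz : z * z = 1 := by rw [← pow_two, ← hzo', pow_orderOf_eq_one]
    have hz1' : z ≠ 1 := by
      rintro rfl
      rw [orderOf_one] at hzo'
      omega
    have hzt := (hinv z hz1 hzz).resolve_left hz1'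
    have hwz' : (MulAut.conj g) w = z := hwz
    have hww : w * w = 1 := (MulAut.conj g).injective (by rw [map_mul, map_one, hwz', hzz])
    have hwt := (hinv w hw hww).resolve_left fun h => hz1' (by rw [← hwz', h, map_one])
    subst hwt
    exact hg (hNN (hCN (hfix g (by rw [hwz', hzt]; exact htZ))))
  · have hle : L.map (MulAut.conj g).toMonoidHom ≤ Z :=
      Subgroup.le_centralizer_iff.1 (Subgroup.commutator_eq_bot_iff_le_centralizer.1 hbot)
    haveI : IsMulCommutative ↥(L.map (MulAut.conj g).toMonoidHom) :=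
      ⟨⟨fun a b => Subtype.ext (hZcomm _ (hle a.2) _ (hle b.2))⟩⟩
    exact Components.IsQuasisimple.not_isMulCommutative
      ((Components.isQuasisimple_congr
        (Subgroup.equivMapOfInjective L (MulAut.conj g).toMonoidHom (MulAut.conj g).injective)).1 hq) inferInstance

end Cfsg.Agent.S1348
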