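import Cfsg.Statements.S1386
import Cfsg.Agent.EqLemmas

set_option autoImplicit false
open Cfsg

namespace Cfsg.Agent.S1386

/-- In a finite cyclic group, subgroups of equal order coincide. -/
theorem le_of_cyclic {G : Type*} [Group G] [Finite G] {W A B : Subgroup G} (hc : IsCyclic W)
    (hA : A ≤ W) (hB : B ≤ W) (hcard : Nat.card A = Nat.card B) : A ≤ B := by
  classical
  have : Fintype W := Fintype.ofFinite W
  have hn : 0 < Nat.card A := Nat.card_pos
  intro a ha
  set S : Finset W := Finset.univ.filter (fun w => w ^ Nat.card A = 1) with hS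
  have hSle : S.card ≤ Nat.card A := IsCyclic.card_pow_eq_one_le hn
  set T : Finset W := Finset.univ.filter (fun w : W => (w : G) ∈ B) with hT
  have hTcard : T.card = Nat.card B := by
    rw [← Nat.card_congr (Subgroup.subgroupOfEquivOfLe hB).toEquiv, Nat.card_eq_fintype_card,
      Fintype.card_subtype]
    rfl
  have hTS : T ⊆ S := by
    intro w hw
    simp only [hT, Finset.mem_filter, Finset.mem_univ, true_and] at hw
    simp only [hS, Finset.mem_filter, Finset.mem_univ, true_and]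
    apply Subtype.ext
    have := pow_card_eq_one' (x := (⟨(w : G), hw⟩ : B))
    rw [← hcard] at this
    simpa using congrArg Subtype.val this
  have heq : T = S := Finset.eq_of_subset_of_card_le hTS (by omega)
  have haS : (⟨a, hA ha⟩ : W) ∈ S := by
    simp only [hS, Finset.mem_filter, Finset.mem_univ, true_and]
    apply Subtype.ext
    have h := congrArg Subtype.val (pow_card_eq_one' (x := (⟨a, ha⟩ : A)))
    rw [Subgroup.coe_pow, Subgroup.coe_one] at h ⊢
    exact h
  rw [← heq] at haS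
  simpa [hT] using haS

/-- The order of an internal product of commuting disjoint subgroups. -/
theorem card_sup_of_commute {G : Type*} [Group G] [Finite G] {A B : Subgroup G}
    (hd : A ⊓ B = ⊥) (hc : ∀ a ∈ A, ∀ b ∈ B, a * b = b * a) :
    Nat.card ↥(A ⊔ B) = Nat.card A * Nat.card B := by
  let f := MonoidHom.noncommCoprod A.subtype B.subtype (fun a b => hc _ a.2 _ b.2)
  have hr : f.range = A ⊔ B := by
    refine (MonoidHom.noncommCoprod_range _ _ _).trans ?_
    rw [Subgroup.range_subtype, Subgroup.range_subtype]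
  have hinj : Function.Injective f := by
    rw [injective_iff_map_eq_one]
    rintro ⟨a, b⟩ h
    have h' : (a : G) * b = 1 := h
    have ha : (a : G) ∈ A ⊓ B := ⟨a.2, by
      rw [eq_inv_of_mul_eq_one_left h']; exact B.inv_mem b.2⟩
    rw [hd, Subgroup.mem_bot] at ha
    rw [ha, one_mul] at h'
    exact Prod.ext (Subtype.ext ha) (Subtype.ext h')
  rw [← hr, ← Nat.card_prod]
  exact (Nat.card_congr (MonoidHom.ofInjective hinj).toEquiv).symm

/-- Let G be a finite group, W₁, W₂ subgroups forming a self-normalizing cyclic pair, S a subgroup with W₂ ≤ S and W₁ a complement to S' in S, and (W₁, U, W₂') type-P data for S. Then W₂' = W₂ (that is, C_{S'}(W₁) = W₂). -/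
theorem result {G : Type*} [Group G] [Finite G] (W₁ W₂ S U W₂' : Subgroup G) (hW : Cfsg.IsSelfNormalizingCyclic W₁ W₂)
    (hSW : Cfsg.IsComplIn ⁅S, S⁆ W₁ S) (hW₂S : W₂ ≤ S) (hP : Cfsg.IsTypePWith S W₁ U W₂') :
    W₂' = W₂ := by
  obtain ⟨hW1, hW2, hd, hcomm, hcyc, hN⟩ := hW
  obtain ⟨hDS, hW1S, hDd, hprod⟩ := hSW
  have hWS : W₁ ⊔ W₂ ≤ S := sup_le hW1S hW₂S
  have hcommW : ∀ a ∈ W₁ ⊔ W₂, ∀ b ∈ W₁ ⊔ W₂, a * b = b * a := by
    intro a ha b hb
    have := hcyc.isMulCommutative
    exact congrArg Subtype.val (mul_comm' (⟨a, ha⟩ : ↥(W₁ ⊔ W₂)) ⟨b, hb⟩)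
  set E := (W₁ ⊔ W₂) ⊓ ⁅S, S⁆ with hE
  have hEd : W₁ ⊓ E = ⊥ := by
    rw [eq_bot_iff, ← hDd]
    exact fun x hx => ⟨hx.2.2, hx.1⟩
  have hsup : W₁ ⊔ E = W₁ ⊔ W₂ := by
    refine le_antisymm (sup_le le_sup_left inf_le_left) fun w hw => ?_
    obtain ⟨d, hd', b, hb, rfl⟩ := hprod w (hWS hw)
    refine mul_mem (Subgroup.mem_sup_right ⟨?_, hd'⟩) (Subgroup.mem_sup_left hb)
    simpa using mul_mem hw (inv_mem (Subgroup.mem_sup_left (T := W₂) hb))
  have hcardE : Nat.card E = Nat.card W₂ := by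
    have h1 := card_sup_of_commute hEd
      (fun a ha b hb => hcommW a (Subgroup.mem_sup_left ha) b hb.1)
    have h2 := card_sup_of_commute hd hcomm
    rw [hsup, h2] at h1
    exact (Nat.eq_of_mul_eq_mul_left Nat.card_pos h1).symm
  have hEW : E = W₂ := le_antisymm (le_of_cyclic hcyc inf_le_left le_sup_right hcardE)
    (le_of_cyclic hcyc le_sup_right inf_le_left hcardE.symm)
  obtain ⟨a, ha, ha1⟩ := (Subgroup.bot_or_exists_ne_one W₁).resolve_left hW1
  have hle : W₂ ≤ W₂' := by
    intro b hb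
    rw [← hP.W₂_centralizer a ha ha1]
    refine ⟨(hEW ▸ hb : b ∈ E).2, ?_⟩
    show b ∈ Subgroup.centralizer ({a} : Set G)
    rw [Subgroup.mem_centralizer_iff]
    intro c hc
    rw [Set.mem_singleton_iff] at hc
    subst hc
    exact hcomm _ ha b hb
  refine le_antisymm (fun w hw => ?_) hle
  obtain ⟨b, hb, hb1⟩ := (Subgroup.bot_or_exists_ne_one W₂).resolve_left hW2
  obtain ⟨-, -, -, -, hcyc', -⟩ := hP.selfNormalizing
  have hz1 : a * b ∉ W₁ := by
    intro h
    have : b ∈ W₁ ⊓ W₂ := ⟨by simpa using mul_mem (inv_mem ha) h, hb⟩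
    rw [hd, Subgroup.mem_bot] at this
    exact hb1 this
  have hz2 : a * b ∉ W₂ := by
    intro h
    have : a ∈ W₁ ⊓ W₂ := ⟨ha, by simpa using mul_mem h (inv_mem hb)⟩
    rw [hd, Subgroup.mem_bot] at this
    exact ha1 this
  have hcw : w * (a * b) = a * b * w := by
    have := hcyc'.isMulCommutative
    exact congrArg Subtype.val (mul_comm' (⟨w, Subgroup.mem_sup_right hw⟩ : ↥(W₁ ⊔ W₂'))
      ⟨a * b, mul_mem (Subgroup.mem_sup_left ha) (Subgroup.mem_sup_right (hle hb))⟩)
  have hwN : w ∈ Subgroup.normalizer ({a * b} : Set G) := by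
    intro n
    constructor
    · intro hn
      rw [Set.mem_singleton_iff] at hn ⊢
      rw [hn, hcw, mul_inv_cancel_right]
    · intro hn
      rw [Set.mem_singleton_iff] at hn ⊢
      have : w * n * w⁻¹ = w * (a * b) * w⁻¹ := by rw [hn, hcw, mul_inv_cancel_right]
      simpa using this
  rw [hN {a * b} (Set.singleton_subset_iff.2
    ⟨mul_mem (Subgroup.mem_sup_left ha) (Subgroup.mem_sup_right hb),
      fun h => h.elim hz1 hz2⟩) (Set.singleton_nonempty _)] at hwN
  rw [← hEW]
  exact ⟨hwN, Subgroup.commutator_mono hDS hDS (hP.W₂_le hw).2⟩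

end Cfsg.Agent.S1386
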