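import Cfsg.Statements.S1387
import Cfsg.Agent.Lib.OddOrder.TypeP

set_option autoImplicit false
open Cfsg

namespace Cfsg.Agent.S1387

/-- Let M be a subgroup of a finite group G with type-P data (W₁, U, W₂) and H = M_F. Then the Fitting subgroup F(M) is generated by H and the centralizer of H in U. -/
theorem result {G : Type*} [Group G] [Finite G] (M W₁ U W₂ : Subgroup G) (hP : Cfsg.IsTypePWith M W₁ U W₂) :
    Cfsg.fittingOf M = Cfsg.fittingHallOf M ⊔ (U ⊓ Subgroup.centralizer (Cfsg.fittingHallOf M : Set G)) := by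
  obtain ⟨hHM', hUM', hd, hprod⟩ := hP.U_compl
  have hUM : U ≤ M := hUM'.trans hP.W₁_compl.1
  rw [← hP.fitting_eq]
  refine le_antisymm (sup_le le_sup_left fun c hc => ?_)
    (sup_le le_sup_left (le_sup_of_le_right fun u hu => ⟨hUM hu.1, hu.2⟩))
  have hcM' : c ∈ ⁅M, M⁆ := hP.fitting_le (hP.fitting_eq ▸ Subgroup.mem_sup_right hc)
  obtain ⟨h, hh, u, hu, rfl⟩ := hprod c hcM'
  refine mul_mem (Subgroup.mem_sup_left hh) (Subgroup.mem_sup_right ⟨hu, ?_⟩)
  refine OddTypeP.mem_centralizer_of_mem_sup_centralizer hUM hd hu ?_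
  have hu' : u = h⁻¹ * (h * u) := (inv_mul_cancel_left h u).symm
  rw [hu']
  exact mul_mem (Subgroup.mem_sup_left (inv_mem hh)) (Subgroup.mem_sup_right hc)

end Cfsg.Agent.S1387
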