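import Cfsg.Statements.S1388
import Cfsg.Agent.Lib.OddOrder.TypeP

set_option autoImplicit false
open Cfsg

namespace Cfsg.Agent.S1388

/-- Let M be a subgroup of a finite group G with type-P data (W₁, U, W₂) and H = M_F. Then the derived subgroup of U centralizes H, and if U ≠ 1 then U does not centralize H. -/
theorem result {G : Type*} [Group G] [Finite G] (M W₁ U W₂ : Subgroup G) (hP : Cfsg.IsTypePWith M W₁ U W₂) :
    ⁅U, U⁆ ≤ Subgroup.centralizer (Cfsg.fittingHallOf M : Set G) ∧ (U ≠ ⊥ → ¬ U ≤ Subgroup.centralizer (Cfsg.fittingHallOf M : Set G)) := by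
  obtain ⟨hHM', hUM', hd, hprod⟩ := hP.U_compl
  obtain ⟨hDM, hWM, hDW, hMprod⟩ := hP.W₁_compl
  have hUM : U ≤ M := hUM'.trans hDM
  refine ⟨fun u hu => OddTypeP.mem_centralizer_of_mem_sup_centralizer hUM hd
    (Subgroup.commutator_le_self U hu) (hP.derived_two_le (Subgroup.commutator_mono hUM' hUM' hu)),
    fun hne hle => hne ?_⟩
  -- U is then a normal nilpotent Hall subgroup of M
  have hcomm : ∀ a ∈ fittingHallOf M, ∀ b ∈ U, Commute a b :=
    fun a ha b hb => Subgroup.mem_centralizer_iff.1 (hle hb) a ha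
  have := hP.U_nilpotent
  have hco := OddTypeP.card_complement_coprime hUM hd
  have hconj : ∀ m ∈ M, ∀ u ∈ U, m * u * m⁻¹ ∈ U := by
    intro m hm u hu
    have hx : m * u * m⁻¹ ∈ ⁅M, M⁆ := by
      have h1 := (inferInstance : (commutator ↥M).Normal).conj_mem
      rw [← Subgroup.map_subtype_commutator] at hUM' ⊢
      obtain ⟨y, hy, rfl⟩ := hUM' hu
      exact ⟨⟨m, hm⟩ * y * ⟨m, hm⟩⁻¹, h1 y hy _, by simp⟩
    obtain ⟨h, hh, v, hv, hhv⟩ := hprod _ hx
    have hpow : ∀ w ∈ U, w ^ Nat.card U = 1 := by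
      intro w hw
      have := congrArg Subtype.val (pow_card_eq_one' (x := (⟨w, hw⟩ : U)))
      rwa [Subgroup.coe_pow, Subgroup.coe_one] at this
    have hx1 : (h * v) ^ Nat.card U = 1 := by
      rw [← hhv, conj_pow, hpow u hu, mul_one, mul_inv_cancel]
    rw [(hcomm h hh v hv).mul_pow, hpow v hv, mul_one] at hx1
    have h1 : h = 1 := by
      rw [← orderOf_eq_one_iff]
      refine Nat.eq_one_of_dvd_coprimes hco ?_ (orderOf_dvd_of_pow_eq_one hx1)
      have := orderOf_dvd_natCard (⟨h, hh⟩ : fittingHallOf M)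
      rwa [Subgroup.orderOf_mk] at this
    rw [hhv, h1, one_mul]
    exact hv
  have hUF : U.subgroupOf M ≤ fittingHall M := by
    refine le_sSup ⟨⟨fun x hx g => hconj g g.2 x hx⟩,
      Group.nilpotent_of_mulEquiv (Subgroup.subgroupOfEquivOfLe hUM).symm, ?_⟩
    have hcompl : Subgroup.IsComplement' ((⁅M, M⁆).subgroupOf M) (W₁.subgroupOf M) := by
      refine Subgroup.isComplement'_of_disjoint_and_mul_eq_univ ?_ ?_
      · rw [disjoint_iff, eq_bot_iff]
        intro x hx
        rw [Subgroup.mem_bot]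
        apply Subtype.ext
        have : (x : G) ∈ ⁅M, M⁆ ⊓ W₁ := hx
        rw [hDW, Subgroup.mem_bot] at this
        simpa using this
      · rw [Set.eq_univ_iff_forall]
        intro m
        obtain ⟨a, ha, b, hb, hab⟩ := hMprod m m.2
        exact ⟨⟨a, hDM ha⟩, ha, ⟨b, hWM hb⟩, hb, Subtype.ext hab.symm⟩
    have hW : (Nat.card U).Coprime (Nat.card W₁) := by
      refine Nat.Coprime.of_dvd_left ((Subgroup.card_dvd_of_le hUM').trans ?_) hP.W₁_hall.symm
      rw [Subgroup.relIndex, hcompl.index_eq_card,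
        Nat.card_congr (Subgroup.subgroupOfEquivOfLe hDM).toEquiv]
    have hidx : (U.subgroupOf M).index ∣ Nat.card (fittingHallOf M) * Nat.card W₁ := by
      have hM : Nat.card M = Nat.card ↥⁅M, M⁆ * Nat.card W₁ := by
        rw [← hcompl.card_mul_card, Nat.card_congr (Subgroup.subgroupOfEquivOfLe hDM).toEquiv,
          Nat.card_congr (Subgroup.subgroupOfEquivOfLe hWM).toEquiv]
      have hD : Nat.card ↥⁅M, M⁆ ∣ Nat.card (fittingHallOf M) * Nat.card U := by
        let f : fittingHallOf M × U →* G := MonoidHom.noncommCoprod (fittingHallOf M).subtype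
          U.subtype fun a b => hcomm a a.2 b b.2
        have hrange : f.range = ⁅M, M⁆ := by
          refine le_antisymm ?_ fun x hx => ?_
          · rintro _ ⟨⟨a, b⟩, rfl⟩
            exact mul_mem (hHM' a.2) (hUM' b.2)
          · obtain ⟨h, hh, u, hu, rfl⟩ := hprod x hx
            exact ⟨(⟨h, hh⟩, ⟨u, hu⟩), rfl⟩
        rw [← hrange, ← Nat.card_prod]
        exact Subgroup.card_range_dvd f
      have hmul := Subgroup.card_mul_index (U.subgroupOf M)
      rw [Nat.card_congr (Subgroup.subgroupOfEquivOfLe hUM).toEquiv, hM] at hmul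
      refine Nat.dvd_of_mul_dvd_mul_left (Nat.card_pos (α := U)) ?_
      rw [hmul]
      calc Nat.card ↥⁅M, M⁆ * Nat.card W₁ ∣ Nat.card (fittingHallOf M) * Nat.card U * Nat.card W₁ :=
            Nat.mul_dvd_mul_right hD _
        _ = _ := by ring
    rw [Nat.card_congr (Subgroup.subgroupOfEquivOfLe hUM).toEquiv]
    exact Nat.Coprime.of_dvd_right hidx (Nat.Coprime.mul_right hco.symm hW)
  rw [eq_bot_iff, ← hd]
  exact fun u hu => ⟨⟨⟨u, hUM hu⟩, hUF hu, rfl⟩, hu⟩

end Cfsg.Agent.S1388
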