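import Cfsg.Statements.S1441
import Cfsg.Agent.EqLemmas

set_option autoImplicit false
open Cfsg

namespace Cfsg.Agent.S1441

/-- Let G be a finite group, H a solvable subgroup and A a subgroup normalizing H. Suppose there is a chain H = H₀ ≥ H₁ ≥ ⋯ ≥ H_n = 1 of subgroups normal in H and normalized by A such that A acts trivially on each factor H_{i-1}/H_i (that is, [H_{i-1}, A] ≤ H_i). Then every prime dividing the index of C_A(H) in A divides the order of H. -/
theorem result {G : Type*} [Group G] [Finite G] (H A : Subgroup G) (hH : Group.IsSolvable H) (hA : (A ≤ Subgroup.normalizer (H : Set G)))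
    (n : ℕ) (c : Fin (n + 1) → Subgroup G) (hc0 : c 0 = H) (hcn : c (Fin.last n) = ⊥) (hanti : Antitone c)
    (hcN : ∀ i, H ≤ Subgroup.normalizer ((c i : Subgroup G) : Set G)) (hcA : ∀ i, A ≤ Subgroup.normalizer ((c i : Subgroup G) : Set G))
    (htriv : ∀ i : Fin n, ⁅c i.castSucc, A⁆ ≤ c i.succ) :
    ∀ p : ℕ, p.Prime → p ∣ (A ⊓ Subgroup.centralizer (H : Set G)).relIndex A → p ∣ Nat.card H := by
  intro p hp hpdvd
  by_contra hpH
  set K := (A ⊓ Subgroup.centralizer (H : Set G)).subgroupOf A with hK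
  haveI : Fact p.Prime := ⟨hp⟩
  have hKn : K.Normal := by
    refine ⟨fun k hk a => ?_⟩
    rw [hK, Subgroup.mem_subgroupOf] at hk ⊢
    refine ⟨(a * k * a⁻¹).2, ?_⟩
    refine Subgroup.mem_centralizer_iff.2 ?_
    intro h hh
    have hk2 := Subgroup.mem_centralizer_iff.1 hk.2 ((a : G)⁻¹ * h * a)
      ((Subgroup.mem_normalizer_iff''.1 (hA a.2) h).1 hh)
    show h * ((a : G) * k * (a : G)⁻¹) = (a : G) * k * (a : G)⁻¹ * h
    calc h * ((a : G) * k * (a : G)⁻¹) = (a : G) * ((a : G)⁻¹ * h * a * k) * (a : G)⁻¹ := by group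
      _ = (a : G) * ((k : G) * ((a : G)⁻¹ * h * a)) * (a : G)⁻¹ := by rw [hk2]
      _ = (a : G) * k * (a : G)⁻¹ * h := by group
  haveI := hKn
  have hidx : p ∣ Nat.card (A ⧸ K) := by
    rw [← Subgroup.index_eq_card]; exact hpdvd
  obtain ⟨ab, hab⟩ := exists_prime_orderOf_dvd_card' p hidx
  obtain ⟨a₀, rfl⟩ := QuotientGroup.mk_surjective ab
  -- the p-part of a₀
  obtain ⟨k, m, hm, hn⟩ := Nat.exists_eq_pow_mul_and_not_dvd (orderOf_pos a₀).ne' p hp.ne_one
  set a := a₀ ^ m with ha
  have hap : a ^ (p ^ k) = 1 := by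
    rw [ha, ← pow_mul, mul_comm, ← hn, pow_orderOf_eq_one]
  have haK : a ∉ K := by
    intro h
    rw [← QuotientGroup.eq_one_iff, ha, QuotientGroup.mk_pow, ← orderOf_dvd_iff_pow_eq_one, hab] at h
    exact hm h
  apply haK
  rw [hK, Subgroup.mem_subgroupOf]
  refine ⟨a.2, ?_⟩
  have hgp : (a : G) ^ (p ^ k) = 1 := by rw [← SubgroupClass.coe_pow, hap, OneMemClass.coe_one]
  -- induction from the bottom of the chain
  have hind : ∀ i : Fin (n + 1), ∀ x ∈ c i, (a : G) * x = x * (a : G) := by
    intro i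
    induction i using Fin.reverseInduction with
    | last => intro x hx; rw [hcn, Subgroup.mem_bot] at hx; simp [hx]
    | cast i ih =>
      intro x hx
      have hy : x⁻¹ * (a : G) * x * (a : G)⁻¹ ∈ c i.succ := by
        have := htriv i (Subgroup.commutator_mem_commutator (inv_mem hx) a.2)
        rwa [commutatorElement_def, inv_inv] at this
      set y := x⁻¹ * (a : G) * x * (a : G)⁻¹ with hy'
      have hay : Commute y (a : G) := (ih y hy).symm
      have h1 : x⁻¹ * (a : G) * x = y * (a : G) := by rw [hy']; group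
      have h2 : y ^ (p ^ k) = 1 := by
        have h3 : (x⁻¹ * (a : G) * x) ^ (p ^ k) = 1 := by
          have := conj_pow (a := x⁻¹) (b := (a : G)) (i := p ^ k)
          rw [inv_inv] at this
          rw [this, hgp]; group
        rwa [h1, hay.mul_pow, hgp, mul_one] at h3
      have hyH : y ∈ H := hc0 ▸ hanti (Fin.zero_le i.succ) hy
      have h4 : orderOf y ∣ 1 := by
        have hcop : Nat.Coprime (p ^ k) (Nat.card H) :=
          Nat.Coprime.pow_left k (hp.coprime_iff_not_dvd.2 hpH)
        rw [← hcop]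
        refine Nat.dvd_gcd (orderOf_dvd_of_pow_eq_one h2) ?_
        rw [← Subgroup.orderOf_mk (a := y) hyH]
        exact orderOf_dvd_natCard _
      have hy1 : y = 1 := orderOf_eq_one_iff.1 (Nat.dvd_one.1 h4)
      rw [hy1, one_mul] at h1
      calc (a : G) * x = x * (x⁻¹ * (a : G) * x) := by group
        _ = x * (a : G) := by rw [h1]
  refine Subgroup.mem_centralizer_iff.2 ?_
  intro h hh
  exact (hind 0 h (hc0.symm ▸ hh)).symm

end Cfsg.Agent.S1441
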