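import Cfsg.Statements.S1449
import Cfsg.Agent.Lib.RankTwo.Auto

set_option autoImplicit false
open Cfsg

namespace Cfsg.Agent.S1449

/-- Let G be a finite group, p an odd prime, R a p-subgroup with no elementary abelian subgroup of order p ^ 3, and A a solvable subgroup of odd order normalizing R with A ∩ C_G(R) = 1. Then the derived subgroup [A, A] is a p-group. -/
theorem result {G : Type*} [Group G] [Finite G] (p : ℕ) [Fact p.Prime] (hp : p ≠ 2) (R A : Subgroup G) (hR : IsPGroup p R) (hr : Cfsg.PRankLE p 2 R)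
    (hA : (A ≤ Subgroup.normalizer (R : Set G))) (hAs : Group.IsSolvable A) (hAodd : Odd (Nat.card A)) (hfaith : A ⊓ Subgroup.centralizer (R : Set G) = ⊥) :
    IsPGroup p ↥⁅A, A⁆ := by
  set φ : A →* MulAut R := R.normalizerMonoidHom.comp (Subgroup.inclusion hA) with hφ
  have hinj : Function.Injective φ := by
    rw [← MonoidHom.ker_eq_bot_iff, eq_bot_iff]
    intro a ha
    have h : (a : G) ∈ A ⊓ Subgroup.centralizer (R : Set G) := by
      refine ⟨a.2, fun r hr => ?_⟩
      have h1 := congrArg (fun f : MulAut R => (f ⟨r, hr⟩ : G)) (MonoidHom.mem_ker.1 ha)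
      exact (mul_inv_eq_iff_eq_mul.1 h1).symm
    rw [hfaith, Subgroup.mem_bot] at h
    exact Subgroup.mem_bot.2 (Subtype.ext h)
  have h := (RankTwo.commutator_isPGroup hp hR hr hAodd φ hinj).1.map A.subtype
  rwa [Subgroup.map_subtype_commutator] at h

end Cfsg.Agent.S1449
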