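import Cfsg.Statements.S1454
import Cfsg.Agent.Lib.RankTwo.Blackburn
import Cfsg.Agent.Lib.RankTwo.Good

set_option autoImplicit false
open Cfsg
open scoped commutatorElement

namespace Cfsg.Agent.S1454

/-- Let G be a finite group, p an odd prime, R a narrow p-subgroup and A a solvable subgroup of odd order normalizing R with A ∩ C_G(R) = 1. Then [A, A] ≤ O_p(A) and the index of O_p(A) in A is coprime to p; if R has an elementary abelian subgroup of order p ^ 3 then the order of every element of A of order coprime to p divides p − 1; and if the order of A is a prime not dividing p(p − 1), then 2·#A divides p + 1, and if in addition [R, A] = R and R is non-abelian then #R = p ^ 3. -/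
theorem result {G : Type*} [Group G] [Finite G] (p : ℕ) [Fact p.Prime] (hp : p ≠ 2) (R A : Subgroup G) (hR : IsPGroup p R) (hRn : Cfsg.IsNarrow p R)
    (hA : (A ≤ Subgroup.normalizer (R : Set G))) (hAs : Group.IsSolvable A) (hAodd : Odd (Nat.card A)) (hfaith : A ⊓ Subgroup.centralizer (R : Set G) = ⊥) :
    (commutator ↥A ≤ Cfsg.pCore p ↥A ∧ ((Cfsg.pCore p ↥A).index).Coprime p) ∧
      (¬ Cfsg.PRankLE p 2 R → ∀ a ∈ A, (orderOf a).Coprime p → orderOf a ∣ p - 1) ∧
      ((Nat.card A).Prime → ¬ Nat.card A ∣ p * (p - 1) →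
        2 * Nat.card A ∣ p + 1 ∧ (⁅R, A⁆ = R → ¬ IsMulCommutative R → Nat.card R = p ^ 3)) := by
  have hpp : p.Prime := Fact.out
  have hg : RankTwo.Good p R := RankTwo.good_of_isNarrow hR hRn
  set φ : A →* MulAut R := R.normalizerMonoidHom.comp (Subgroup.inclusion hA) with hφdef
  have hφ : Function.Injective φ := by
    rw [← MonoidHom.ker_eq_bot_iff, eq_bot_iff]
    intro a ha
    rw [Subgroup.mem_bot]
    refine Subtype.ext ?_
    have h1 : (a : G) ∈ A ⊓ Subgroup.centralizer (R : Set G) := ⟨a.2, fun r hr => by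
      have h := congrArg (fun b : MulAut R => (b ⟨r, hr⟩ : G)) (MonoidHom.mem_ker.1 ha)
      exact (mul_inv_eq_iff_eq_mul.1 h).symm⟩
    rw [hfaith, Subgroup.mem_bot] at h1
    exact h1
  obtain ⟨hA', hq⟩ := RankTwo.aut_structure hp hR hg hAodd φ hφ
  have hnarrow : ¬ Cfsg.PRankLE p 2 R → ∀ a : A, (orderOf a).Coprime p → orderOf a ∣ p - 1 := by
    intro hr
    rcases hg with h | ⟨E, hE, hE2, hmax⟩
    · exact absurd h hr
    · exact (RankTwo.narrow_aut hp hR hr hE hE2 hmax φ hφ).2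
  have hder : commutator A ≤ Cfsg.pCore p A := Cores.le_pCore inferInstance hA'
  refine ⟨⟨hder, ?_⟩, fun hr a ha hcop => ?_, fun hprime hnd => ?_⟩
  · rw [Nat.coprime_comm, hpp.coprime_iff_not_dvd, Subgroup.index_eq_card]
    intro hd
    obtain ⟨x, hx⟩ := exists_prime_orderOf_dvd_card' (G := A ⧸ Cfsg.pCore p A) p hd
    have hab := Subgroup.Normal.quotient_commutative_iff_commutator_le.2 hder
    have hn : (Subgroup.zpowers x).Normal := ⟨fun y hy g => by
      rw [hab.is_comm.comm g y, mul_inv_cancel_right]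
      exact hy⟩
    have hle := Cores.le_pCore hn (IsPGroup.of_card (n := 1) (by rw [Nat.card_zpowers, hx, pow_one]) :
      IsPGroup p (Subgroup.zpowers x))
    have hx1 : x = 1 := Subgroup.mem_bot.1
      ((Cores.pCore_quotient_self p A).le (hle (Subgroup.mem_zpowers x)))
    rw [hx1, orderOf_one] at hx
    exact hpp.ne_one hx.symm
  · have h := hnarrow hr ⟨a, ha⟩ (by rwa [Subgroup.orderOf_mk])
    rwa [Subgroup.orderOf_mk] at h
  set q := Nat.card A with hqdef
  have hqp : q ≠ p := fun h => hnd (h ▸ dvd_mul_right p (p - 1))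
  have hcop : q.Coprime p := (Nat.coprime_primes hprime hpp).2 hqp
  have hq1 : ¬ q ∣ p - 1 := fun h => hnd (dvd_mul_of_dvd_right h p)
  have hplus : q ∣ p + 1 := (hq q hprime hqp dvd_rfl).resolve_left hq1
  refine ⟨?_, fun hRA hna => ?_⟩
  · refine Nat.Coprime.mul_dvd_of_dvd_of_dvd ?_ ?_ hplus
    · exact Nat.coprime_two_left.2 hAodd
    · exact even_iff_two_dvd.1 ((hpp.odd_of_ne_two hp).add_one)
  have hr : Cfsg.PRankLE p 2 R := by
    by_contra hr
    haveI : Fact q.Prime := ⟨hprime⟩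
    obtain ⟨a, ha⟩ := exists_prime_orderOf_dvd_card' (G := A) q dvd_rfl
    exact hq1 (ha ▸ hnarrow hr a (by rw [ha]; exact hcop))
  have hR1 : R ≠ ⊥ := fun h => hna (by rw [h]; infer_instance)
  obtain ⟨hp3, h⟩ := RankTwo.blackburn hp hR hR1 hr hA hcop hAodd hRA
  obtain ⟨hΩ, htop⟩ := h hna
  obtain ⟨-, hcyc, -, -, -⟩ := RankTwo.omega_facts hp3 hR hr hΩ
  set Ω := RankTwo.omegaOne p R with hΩdef
  set C := Subgroup.centralizer (Ω : Set R) with hC
  haveI : C.Characteristic := inferInstance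
  -- `A` centralizes the cyclic group `C`
  have hfix : ∀ (a : A) (c : R), c ∈ C → φ a c = c := by
    intro a c hc
    haveI := hcyc
    set b := RankTwo.restrictAut C (φ a) with hb
    have h1 : orderOf b ∣ q := ((orderOf_map_dvd _ _).trans (orderOf_map_dvd φ a)).trans
      (orderOf_dvd_natCard a)
    have h2 : orderOf b ∣ Nat.card (MulAut C) := orderOf_dvd_natCard b
    rw [IsCyclic.card_mulAut] at h2
    obtain ⟨k, hk⟩ := IsPGroup.iff_card.1 (hR.to_subgroup C)
    rw [hk] at h2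
    have h3 : b = 1 := by
      rw [← orderOf_eq_one_iff]
      refine Nat.eq_one_of_dvd_coprimes ?_ h1 h2
      rcases Nat.eq_zero_or_pos k with h | h
      · rw [h, pow_zero, Nat.totient_one]
        exact Nat.coprime_one_right q
      · rw [Nat.totient_prime_pow hpp h]
        exact (hcop.pow_right _).mul_right (hprime.coprime_iff_not_dvd.2 hq1)
    exact congrArg Subtype.val (DFunLike.congr_fun h3 (⟨c, hc⟩ : C))
  have hle : R ≤ Ω.map R.subtype := by
    nth_rw 1 [← hRA]
    rw [Subgroup.commutator_le]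
    intro r hr' a ha
    obtain ⟨u, hu, c, hc, he⟩ := Subgroup.mem_sup_of_normal_left.1
      (htop ▸ Subgroup.mem_top (⟨r, hr'⟩ : R) : (⟨r, hr'⟩ : R) ∈ Ω ⊔ C)
    refine ⟨(⟨r, hr'⟩ : R) * φ ⟨a, ha⟩ (⟨r, hr'⟩ : R)⁻¹, ?_, ?_⟩
    · rw [← he, mul_inv_rev, map_mul, hfix _ c⁻¹ (inv_mem hc), ← mul_assoc, mul_inv_cancel_right]
      exact mul_mem hu ((PGroup.aut_mem_iff (φ ⟨a, ha⟩) u⁻¹).2 (inv_mem hu))
    · show r * (a * r⁻¹ * a⁻¹) = ⁅r, a⁆
      rw [commutatorElement_def]
      group
  have h2 := Subgroup.card_dvd_of_le hle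
  rw [Subgroup.card_map_of_injective R.subtype_injective, hΩ] at h2
  have h3 := Subgroup.card_subgroup_dvd_card Ω
  rw [hΩ] at h3
  exact Nat.dvd_antisymm h2 h3

end Cfsg.Agent.S1454
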