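import Cfsg.Statements.S1456
import Cfsg.Agent.Lib.RankTwo.Derived

set_option autoImplicit false
open Cfsg

namespace Cfsg.Agent.S1456

/-- Let G be a solvable group of odd order, p a prime, and E an elementary abelian p-subgroup of the Fitting subgroup F(G) such that F(G) ∩ C_G(E) has no elementary abelian subgroup of order q ^ 3 for any prime q. Then the derived subgroup of G is contained in F(G). -/
theorem result {G : Type*} [Group G] [Finite G] [Group.IsSolvable G] (hodd : Odd (Nat.card G)) (p : ℕ) [Fact p.Prime] (E : Subgroup G) (hE : E ≤ Cfsg.fittingSubgroup G) (hEe : Cfsg.IsElementaryAbelian p E)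
    (hr : Cfsg.RankLE 2 ↥(Cfsg.fittingSubgroup G ⊓ Subgroup.centralizer (E : Set G))) :
    commutator G ≤ Cfsg.fittingSubgroup G := by
  refine RankTwo.commutator_le_fitting hodd fun q hq => ?_
  set P := Cfsg.pCore q G with hP
  have hPp := Cores.isPGroup_pCore (G := G) q
  have hPF : P ≤ Cfsg.fittingSubgroup G := Cores.pCore_le_fittingSubgroup q
  set C := Cfsg.fittingSubgroup G ⊓ Subgroup.centralizer (E : Set G) with hC
  by_cases hqp : q = p
  · subst hqp
    have hEP : E ≤ P := fun e he => RankTwo.mem_pCore_of_mem_fitting q (hE he) (n := 1)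
      (by rw [pow_one]; exact hEe.2 e he)
    refine RankTwo.good_of_centralizer hPp (E.subgroupOf P) ⟨?_, fun a ha => Subtype.ext (hEe.2 _ ha)⟩ ?_
    · haveI := hEe.1
      exact Subgroup.subgroupOf_isMulCommutative P E
    · intro A hA hAe
      haveI := hA
      set f : ↥(Subgroup.centralizer ((E.subgroupOf P : Subgroup P) : Set P)) →* C :=
        (P.subtype.comp (Subgroup.subtype _)).codRestrict C (fun x =>
          ⟨hPF x.1.2, fun e he => congrArg Subtype.val (x.2 ⟨e, hEP he⟩ he)⟩) with hf
      have hfi : Function.Injective f := fun x y h =>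
        Subtype.ext (Subtype.ext (congrArg Subtype.val h :))
      rw [← Subgroup.card_map_of_injective hfi]
      refine hr q hq.out _ inferInstance ?_
      rintro _ ⟨a, ha, rfl⟩
      rw [← map_pow, hAe a ha, map_one]
  · refine Or.inl fun A hA hAe => ?_
    haveI := hA
    have hle : P ≤ C := by
      refine le_inf hPF fun x hx e he => ?_
      haveI : Fact p.Prime := ‹_›
      exact ((Cores.pCore_commute hqp hx (RankTwo.mem_pCore_of_mem_fitting p (hE he) (n := 1)
        (by rw [pow_one]; exact hEe.2 e he))).eq).symm
    rw [← Subgroup.card_map_of_injective (Subgroup.inclusion_injective hle)]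
    refine hr q hq.out _ inferInstance ?_
    rintro _ ⟨a, ha, rfl⟩
    rw [← map_pow, hAe a ha, map_one]

end Cfsg.Agent.S1456
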