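import Cfsg.Statements.S1457
import Cfsg.Agent.Lib.OddStable.Solvable

set_option autoImplicit false
open Cfsg

namespace Cfsg.Agent.S1457

/-- Let G be a solvable group of odd order, p a prime, S a Sylow p-subgroup of G and A an abelian subgroup of S normal in S. Then A ≤ O_{p',p}(G). -/
theorem result {G : Type*} [Group G] [Finite G] [Group.IsSolvable G] (hodd : Odd (Nat.card G)) (p : ℕ) [Fact p.Prime] (S : Sylow p G) (A : Subgroup G) (hA : A ≤ (S : Subgroup G)) (hAc : IsMulCommutative A)
    (hAn : (S : Subgroup G) ≤ Subgroup.normalizer (A : Set G)) :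
    A ≤ Cfsg.pPrimePCore p G := by
  by_cases hp : p = 2
  · subst hp
    have hA1 : A = ⊥ := by
      rw [← Subgroup.card_eq_one]
      obtain ⟨k, hk⟩ := IsPGroup.iff_card.1 (S.isPGroup'.to_le hA)
      rcases Nat.eq_zero_or_pos k with h | h
      · rw [hk, h, pow_zero]
      · exact absurd (hodd.of_dvd_nat (Subgroup.card_subgroup_dvd_card A))
          (Nat.not_odd_iff_even.2 (hk ▸ (Nat.even_pow.2 ⟨even_two, h.ne'⟩)))
    rw [hA1]
    exact bot_le
  · set f := QuotientGroup.mk' (Cfsg.pPrimeCore p G)
    have hf : Function.Surjective f := QuotientGroup.mk'_surjective _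
    have hodd' : Odd (Nat.card (G ⧸ Cfsg.pPrimeCore p G)) :=
      hodd.of_dvd_nat (Subgroup.card_quotient_dvd_card _)
    have hle : Cfsg.pCore p (G ⧸ Cfsg.pPrimeCore p G) ≤ (S : Subgroup G).map f :=
      Cores.pCore_le_sylow (S.mapSurjective hf)
    rw [Cfsg.pPrimePCore, ← Subgroup.map_le_iff_le_comap]
    refine OddStable.le_pCore_of_abelian hodd' hp (Cores.pPrimeCore_quotient_self p)
      (Cores.isPGroup_pCore p _) inf_le_left (Subgroup.map_isMulCommutative _ _) ?_
    exact hle.trans ((Subgroup.map_mono hAn).trans (Subgroup.le_normalizer_map f))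

end Cfsg.Agent.S1457
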