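import Cfsg.Statements.S1458
import Cfsg.Agent.Lib.OddStable.Solvable
import Cfsg.Agent.Lib.PLocal.ZJCenter
import Cfsg.Agent.Lib.PLocal.Functor
import Cfsg.Agent.Lib.PLocal.Quotient

set_option autoImplicit false
open Cfsg

namespace Cfsg.Agent.S1458

/-- Let G be a solvable group of odd order, p a prime and S a Sylow p-subgroup of G. Then the subgroup generated by the centre of the Thompson subgroup of S and O_{p'}(G) is normal in G. -/
theorem result {G : Type*} [Group G] [Finite G] [Group.IsSolvable G] (hodd : Odd (Nat.card G)) (p : ℕ) [Fact p.Prime] (S : Sylow p G) :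
    (Cfsg.centerThompsonOf p (S : Subgroup G) ⊔ Cfsg.pPrimeCore p G).Normal := by
  have hpp : p.Prime := Fact.out
  set K := Cfsg.pPrimeCore p G with hK
  by_cases hp : p = 2
  · have hcop : (Nat.card G).Coprime p := by
      subst hp
      exact (Nat.coprime_two_right).2 hodd
    have htop : K = ⊤ := eq_top_iff.2 (Cores.le_pPrimeCore inferInstance
      (by rwa [Subgroup.card_top]))
    rw [htop, sup_top_eq]
    infer_instance
  · set π := QuotientGroup.mk' K with hπ
    have hsurj : Function.Surjective π := QuotientGroup.mk'_surjective K
    have hker : (Nat.card π.ker).Coprime p := by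
      rw [hπ, QuotientGroup.ker_mk']
      exact Cores.coprime_card_pPrimeCore p
    have hn := PLocal.zjCenter_normal (G := G ⧸ K) hp
      (Solvable.centralizer_pCore_le_of_isSolvable (Cores.pPrimeCore_quotient_self p))
      (fun P _ hP a ha => OddStable.mem_pCore_quotient_centralizer
        (hodd.of_dvd_nat (Subgroup.card_quotient_dvd_card K)) hp hP
        (OddStable.quadOn_of_commutator ha (Subgroup.mem_zpowers a))) (S.mapSurjective hsurj)
    rw [Sylow.coe_mapSurjective,
      ← PLocal.map_centerThompsonOf π (PLocal.injOn_of_pGroup π hker S.2)] at hn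
    have := hn.comap π
    rwa [Subgroup.comap_map_eq, QuotientGroup.ker_mk'] at this

end Cfsg.Agent.S1458
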