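import Cfsg.Statements.S1459
import Cfsg.Agent.Lib.Coprime.Invariant
import Cfsg.Agent.Lib.Solvable.Basic
import Cfsg.Agent.Lib.Solvable.NilpotentHall
import Cfsg.Agent.Lib.PGroup.Basic

set_option autoImplicit false
open Cfsg

namespace Cfsg.Agent.S1459

open scoped commutatorElement

theorem eq_bot_of_self_le_commutator {G : Type*} [Group G] [Group.IsSolvable G] {H : Subgroup G}
    (h : H ≤ ⁅H, H⁆) : H = ⊥ := by
  have hle : ∀ n, H ≤ derivedSeries G n := fun n => by
    induction n with
    | zero => exact le_top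
    | succ n ih => rw [derivedSeries_succ]; exact h.trans (Subgroup.commutator_mono ih ih)
  obtain ⟨n, hn⟩ := Group.IsSolvable.solvable (G := G)
  exact le_bot_iff.1 (hn ▸ hle n)

theorem le_of_central {Q : Type*} [Group Q] (H K : Subgroup Q) (hsup : H ⊔ K = ⊤)
    (hH : H ≤ Subgroup.centralizer (H : Set Q)) (hHK : H ≤ Subgroup.centralizer (K : Set Q))
    (hinf : H ⊓ K = ⊥) : H ⊓ commutator Q = ⊥ := by
  have hc : ∀ h ∈ H, ∀ g : Q, Commute g h := fun h hh g => by
    have : H ⊔ K ≤ Subgroup.centralizer ({h} : Set Q) := sup_le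
      (fun a ha => Subgroup.mem_centralizer_singleton_iff.2 (Subgroup.mem_centralizer_iff.1 (hH hh) a ha))
      (fun a ha => Subgroup.mem_centralizer_singleton_iff.2 (Subgroup.mem_centralizer_iff.1 (hHK hh) a ha))
    exact Subgroup.mem_centralizer_singleton_iff.1 (this (hsup ▸ Subgroup.mem_top g))
  have hn : H.Normal := ⟨fun a ha g => by rwa [(hc a ha g).eq, mul_inv_cancel_right]⟩
  have hle : commutator Q ≤ K := by
    rw [commutator_def, Subgroup.commutator_le]
    intro a _ b _
    obtain ⟨a₁, ha₁, a₂, ha₂, rfl⟩ := Subgroup.mem_sup_of_normal_left.1 (hsup ▸ Subgroup.mem_top a)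
    obtain ⟨b₁, hb₁, b₂, hb₂, rfl⟩ := Subgroup.mem_sup_of_normal_left.1 (hsup ▸ Subgroup.mem_top b)
    have h1 : ⁅a₁ * a₂, b₁ * b₂⁆ = ⁅a₂, b₂⁆ := by
      simp only [commutatorElement_def]
      calc a₁ * a₂ * (b₁ * b₂) * (a₁ * a₂)⁻¹ * (b₁ * b₂)⁻¹
          = a₁ * (a₂ * b₁) * b₂ * a₂⁻¹ * a₁⁻¹ * b₂⁻¹ * b₁⁻¹ := by group
        _ = a₁ * b₁ * (a₂ * b₂ * a₂⁻¹) * a₁⁻¹ * b₂⁻¹ * b₁⁻¹ := by rw [(hc b₁ hb₁ a₂).eq]; group
        _ = a₁ * b₁ * (a₁⁻¹ * (a₂ * b₂ * a₂⁻¹)) * b₂⁻¹ * b₁⁻¹ := by
            rw [← (hc _ (H.inv_mem ha₁) (a₂ * b₂ * a₂⁻¹)).eq]; group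
        _ = (a₁ * (b₁ * a₁⁻¹)) * ((a₂ * b₂ * a₂⁻¹ * b₂⁻¹) * b₁⁻¹) := by group
        _ = (a₁ * (a₁⁻¹ * b₁)) * (b₁⁻¹ * (a₂ * b₂ * a₂⁻¹ * b₂⁻¹)) := by
            rw [(hc _ (H.inv_mem ha₁) b₁).eq, (hc _ (H.inv_mem hb₁) (a₂ * b₂ * a₂⁻¹ * b₂⁻¹)).eq]
        _ = a₂ * b₂ * a₂⁻¹ * b₂⁻¹ := by group
    rw [h1, commutatorElement_def]
    exact K.mul_mem (K.mul_mem (K.mul_mem ha₂ hb₂) (K.inv_mem ha₂)) (K.inv_mem hb₂)
  exact le_bot_iff.1 ((inf_le_inf_left _ hle).trans hinf.le)

theorem part_a {G : Type*} [Group G] [Finite G] [Group.IsSolvable G] (H K : Subgroup G)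
    (hHn : H.Normal) (hcop : (Nat.card H).Coprime H.index) (hK : Subgroup.IsComplement' H K)
    (hle : H ≤ commutator G) :
    H = ⁅H, K⁆ ∧ H ⊓ Subgroup.centralizer (K : Set G) ≤ ⁅H, H⁆ := by
  have hsup : H ⊔ K = ⊤ := hK.sup_eq_top
  have hcHK : (Nat.card K).Coprime (Nat.card H) := by
    rw [← hK.symm.index_eq_card]; exact hcop.symm
  have hKH : K ≤ Subgroup.normalizer (H : Set G) := by
    rw [Subgroup.normalizer_eq_top]; exact le_top
  set N := ⁅H, K⁆ with hN
  have hNle : N ≤ H := Subgroup.commutator_le_left H K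
  have hNn : N.Normal := by
    rw [← Subgroup.normalizer_eq_top_iff, eq_top_iff, ← hsup]
    refine sup_le ?_ (Subgroup.normalizer_commutator_ge_right H K)
    rw [hN, Subgroup.commutator_comm]
    exact Subgroup.normalizer_commutator_ge_right K H
  have step : ∀ M : Subgroup G, M.Normal → N ≤ M → ⁅H, H⁆ ≤ M → M ≤ H → H ≤ M := by
    intro M hM hNM hHM hMH
    set f := QuotientGroup.mk' M with hf
    have hz : ∀ A : Subgroup G, A ≤ M → A.map f = ⊥ := fun A hA => by
      rw [Subgroup.map_eq_bot_iff, hf, QuotientGroup.ker_mk']; exact hA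
    have hdisj : H.map f ⊓ K.map f = ⊥ := Solvable.inf_eq_bot_of_coprime
      ((hcHK.symm.coprime_dvd_left (Subgroup.card_map_dvd _ _)).coprime_dvd_right
        (Subgroup.card_map_dvd _ _))
    have h := le_of_central (H.map f) (K.map f)
      (by rw [← Subgroup.map_sup, hsup, Subgroup.map_top_of_surjective f
        (QuotientGroup.mk'_surjective M)])
      (by rw [← Subgroup.commutator_eq_bot_iff_le_centralizer, ← Subgroup.map_commutator]
          exact hz _ hHM)
      (by rw [← Subgroup.commutator_eq_bot_iff_le_centralizer, ← Subgroup.map_commutator]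
          exact hz _ hNM)
      hdisj
    have h2 : H.map f ≤ commutator (G ⧸ M) := by
      rw [commutator_def, ← Subgroup.map_top_of_surjective f (QuotientGroup.mk'_surjective M),
        ← Subgroup.map_commutator, ← commutator_def]
      exact Subgroup.map_mono hle
    have h3 : H.map f = ⊥ := le_bot_iff.1 ((le_inf le_rfl h2).trans h.le)
    rwa [Subgroup.map_eq_bot_iff, hf, QuotientGroup.ker_mk'] at h3
  have hsum : H ≤ N ⊔ ⁅H, H⁆ := step _ inferInstance le_sup_left le_sup_right
    (sup_le hNle (Subgroup.commutator_le_self H))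
  have hHN : H = N := by
    refine le_antisymm ?_ hNle
    set f := QuotientGroup.mk' N with hf
    have h1 : H.map f = ⊥ := eq_bot_of_self_le_commutator <| by
      refine (Subgroup.map_mono hsum).trans ?_
      rw [Subgroup.map_sup, (Subgroup.map_eq_bot_iff _).2 (QuotientGroup.ker_mk' N).ge,
        bot_sup_eq, Subgroup.map_commutator]
    rwa [Subgroup.map_eq_bot_iff, hf, QuotientGroup.ker_mk'] at h1
  refine ⟨hHN, ?_⟩
  set f := QuotientGroup.mk' ⁅H, H⁆ with hf
  have hV : IsMulCommutative ↥(H.map f) := by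
    rw [← Subgroup.le_centralizer_iff_isMulCommutative,
      ← Subgroup.commutator_eq_bot_iff_le_centralizer, ← Subgroup.map_commutator,
      Subgroup.map_eq_bot_iff, hf, QuotientGroup.ker_mk']
  have hb := Coprime.abelian_inf_eq_bot (A := K.map f) (V := H.map f)
    ((Subgroup.map_mono hKH).trans (Subgroup.le_normalizer_map f))
    ((hcHK.coprime_dvd_left (Subgroup.card_map_dvd _ _)).coprime_dvd_right
      (Subgroup.card_map_dvd _ _))
  rw [← Subgroup.map_commutator, ← hN, ← hHN, inf_eq_left.2 inf_le_left] at hb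
  intro x hx
  have h1 : f x ∈ H.map f ⊓ Subgroup.centralizer (K.map f : Set (G ⧸ ⁅H, H⁆)) :=
    ⟨⟨x, hx.1, rfl⟩, Subgroup.mem_centralizer_iff.2 (by
      rintro _ ⟨k, hk, rfl⟩
      rw [← map_mul, ← map_mul, Subgroup.mem_centralizer_iff.1 hx.2 k hk])⟩
  rw [hb, Subgroup.mem_bot] at h1
  exact (QuotientGroup.eq_one_iff x).1 h1

theorem part_b {G : Type*} [Group G] [Finite G] [Group.IsSolvable G]
    (hnil : Group.IsNilpotent ↥(commutator G)) (hidx : (commutator G).index.Prime) :
    (Nat.card ↥(commutator G)).Coprime (commutator G).index := by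
  set D := commutator G with hD
  set q := D.index with hq
  have : Fact q.Prime := ⟨hidx⟩
  set O := (Cfsg.pPrimeCore q ↥D).map D.subtype with hO
  have hOn : O.Normal := Cores.map_subtype_normal_of_characteristic D _
  have hOD : O ≤ D := Subgroup.map_subtype_le _
  obtain ⟨P, N, hNn, hNP⟩ :=
    Solvable.hasNormalPComplement_of_isNilpotent (G := ↥D) (p := q)
  have hNc : (Nat.card N).Coprime q := by
    rw [← hNP.index_eq_card]
    exact (hidx.coprime_iff_not_dvd.2 P.not_dvd_index).symm
  have hNO : N ≤ Cfsg.pPrimeCore q ↥D := Cores.le_pPrimeCore hNn hNc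
  obtain ⟨a, ha⟩ := P.2.exists_card_eq
  have h1 : (Cfsg.pPrimeCore q ↥D).index ∣ q ^ a := by
    rw [← ha]
    calc (Cfsg.pPrimeCore q ↥D).index ∣ N.index := Subgroup.index_dvd_of_le hNO
      _ = Nat.card (P : Subgroup ↥D) := hNP.symm.index_eq_card
  have h2 : O.index ∣ q ^ (a + 1) := by
    rw [← Subgroup.relIndex_mul_index hOD, pow_succ]
    refine Nat.mul_dvd_mul ?_ dvd_rfl
    rw [Subgroup.relIndex, hO, Subgroup.subgroupOf, Subgroup.comap_map_eq_self_of_injective
      D.subtype_injective]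
    exact h1
  set f := QuotientGroup.mk' O with hf
  have hfs : Function.Surjective f := QuotientGroup.mk'_surjective O
  have hpg : IsPGroup q (G ⧸ O) := by
    obtain ⟨k, -, hk⟩ := (Nat.dvd_prime_pow hidx).1 h2
    exact IsPGroup.of_card hk
  have hcomm : commutator (G ⧸ O) = D.map f := by
    rw [commutator_def, ← Subgroup.map_top_of_surjective f hfs, ← Subgroup.map_commutator,
      ← commutator_def]
  have hidx' : (commutator (G ⧸ O)).index = q := by
    rw [hcomm, Subgroup.index_map_eq _ hfs (by rw [hf, QuotientGroup.ker_mk']; exact hOD)]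
  obtain ⟨x, hx⟩ : ∃ x, x ∉ commutator (G ⧸ O) := by
    by_contra h
    push Not at h
    rw [(Subgroup.eq_top_iff' _).2 h, Subgroup.index_top] at hidx'
    exact hidx.ne_one hidx'.symm
  have hcyc : IsCyclic (G ⧸ O) := by
    refine PGroup.isCyclic_of_sup_frattini (x := x) (eq_top_iff.2 ?_)
    refine le_trans ?_ (sup_le_sup_left (PGroup.commutator_le_frattini hpg) _)
    have hdvd : (Subgroup.zpowers x ⊔ commutator (G ⧸ O)).index ∣ q :=
      hidx' ▸ Subgroup.index_dvd_of_le le_sup_right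
    rcases (Nat.dvd_prime hidx).1 hdvd with h | h
    · rw [Subgroup.index_eq_one] at h; rw [h]
    · exfalso
      refine hx ?_
      have he : commutator (G ⧸ O) = Subgroup.zpowers x ⊔ commutator (G ⧸ O) :=
        eq_of_le_of_not_lt le_sup_right fun hlt => (Subgroup.index_strictAnti hlt).ne (h.trans hidx'.symm)
      rw [he]
      exact Subgroup.mem_sup_left (Subgroup.mem_zpowers x)
  have hbot : D.map f = ⊥ := by
    rw [← hcomm]
    obtain ⟨g, hg⟩ := hcyc.exists_generator
    rw [commutator_def, Subgroup.commutator_eq_bot_iff_le_centralizer]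
    intro u _ v _
    obtain ⟨i, rfl⟩ := Subgroup.mem_zpowers_iff.1 (hg u)
    obtain ⟨j, rfl⟩ := Subgroup.mem_zpowers_iff.1 (hg v)
    exact (Commute.zpow_zpow_self g j i).eq
  have hDO : D ≤ O := by rwa [Subgroup.map_eq_bot_iff, hf, QuotientGroup.ker_mk'] at hbot
  have he : Nat.card O = Nat.card D := congrArg (fun X : Subgroup G => Nat.card X)
    (le_antisymm hOD hDO)
  rw [hO, Subgroup.card_map_of_injective D.subtype_injective] at he
  rw [← he]
  exact Cores.coprime_card_pPrimeCore q

/-- Let G be a finite solvable group. (a) If H is a normal subgroup of order coprime to its index, K is a complement to H, and H ≤ G', then H = [H, K] and H ∩ C_G(K) ≤ [H, H]. (b) If G' is nilpotent and has prime index in G, then the order of G' is coprime to its index and G' = [G, K] (the subgroup generated by commutators of elements of G with elements of K) for every complement K of G'. -/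
theorem result {G : Type*} [Group G] [Finite G] [Group.IsSolvable G] :
    (∀ (H K : Subgroup G), H.Normal → (Nat.card H).Coprime H.index → Subgroup.IsComplement' H K → H ≤ commutator G →
        H = ⁅H, K⁆ ∧ H ⊓ Subgroup.centralizer (K : Set G) ≤ ⁅H, H⁆) ∧
      (Group.IsNilpotent ↥(commutator G) → (commutator G).index.Prime →
        (Nat.card ↥(commutator G)).Coprime (commutator G).index ∧
        ∀ K : Subgroup G, Subgroup.IsComplement' (commutator G) K → commutator G = ⁅(⊤ : Subgroup G), K⁆) := by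
  refine ⟨part_a, fun hnil hidx => ?_⟩
  have hcop := part_b hnil hidx
  refine ⟨hcop, fun K hK => le_antisymm ?_ ?_⟩
  · conv_lhs => rw [(part_a _ K inferInstance hcop hK le_rfl).1]
    exact Subgroup.commutator_mono le_top le_rfl
  · rw [commutator_def]
    exact Subgroup.commutator_mono le_rfl le_top

end Cfsg.Agent.S1459
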