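import Cfsg.Statements.S1460
import Cfsg.Agent.Lib.Coprime.Invariant

set_option autoImplicit false
open Cfsg

namespace Cfsg.Agent.S1460

open scoped Pointwise

theorem fusion {G : Type*} [Group G] [Finite G] [Group.IsSolvable G] (K U H : Subgroup G) [K.Normal]
    (hKU : K ⊔ U = ⊤) (hH : H ≤ U) (hcop : (Nat.card H).Coprime (Nat.card K)) (g : G)
    (hg : H.map (MulAut.conj g).toMonoidHom ≤ U) :
    ∃ u ∈ U, ∃ c ∈ K ⊓ Subgroup.centralizer (H : Set G), g = u * c := by
  have hgU : g ∈ U ⊔ K := by rw [sup_comm, hKU]; trivial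
  obtain ⟨u, hu, k, hk, rfl⟩ := Subgroup.mem_sup_of_normal_right.1 hgU
  have hkU : ∀ h ∈ H, k * h * k⁻¹ ∈ U := fun h hh => by
    have h1 : u * k * h * (u * k)⁻¹ ∈ U := hg ⟨h, hh, rfl⟩
    have h2 := U.mul_mem (U.mul_mem (U.inv_mem hu) h1) hu
    simpa [mul_assoc] using h2
  set R := K ⊓ U with hR
  have hHN : H ≤ Subgroup.normalizer (K : Set G) := by
    rw [Subgroup.normalizer_eq_top]; exact le_top
  have hHR : H ≤ Subgroup.normalizer (R : Set G) := fun h hh =>
    Coprime.mem_normalizer_of_forall fun x hx =>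
      ⟨Subgroup.Normal.conj_mem ‹_› x hx.1 h,
        U.mul_mem (U.mul_mem (hH hh) hx.2) (U.inv_mem (hH hh))⟩
  have hle : MulAut.conj k • H ≤ R ⊔ H := by
    rintro _ ⟨h, hh, rfl⟩
    show k * h * k⁻¹ ∈ _
    have h1 : k * h * k⁻¹ = (k * h * k⁻¹ * h⁻¹) * h := by group
    rw [h1]
    refine Subgroup.mul_mem_sup ⟨?_, U.mul_mem (hkU h hh) (U.inv_mem (hH hh))⟩ hh
    have h2 := K.mul_mem hk (Subgroup.Normal.conj_mem ‹_› k⁻¹ (K.inv_mem hk) h)
    simpa [mul_assoc] using h2
  obtain ⟨r, hr, hrk⟩ := Coprime.exists_conj_eq_of_le_sup hHR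
    (hcop.coprime_dvd_right (Subgroup.card_dvd_of_le inf_le_left)) (Or.inl inferInstance) hle
    (Coprime.card_conj k H)
  refine ⟨u * r, U.mul_mem hu hr.2, r⁻¹ * k, ⟨K.mul_mem (K.inv_mem hr.1) hk, ?_⟩, by group⟩
  refine Coprime.mem_centralizer_of_normalizer hHN hcop (K.mul_mem (K.inv_mem hr.1) hk)
    (Coprime.mem_normalizer_of_conj_eq ?_)
  rw [map_mul, mul_smul, ← hrk, ← mul_smul, ← map_mul, inv_mul_cancel, map_one, one_smul]

/-- Let G be a finite solvable group, K a normal subgroup and U a subgroup with G = KU, and H ≤ U a subgroup whose order is coprime to that of K. Then H ∩ G' = H ∩ U'; N_G(H) is generated by K ∩ C_G(H) and U ∩ N_G(H); and if gHg⁻¹ ≤ U for some g ∈ G then g = u c with u ∈ U and c ∈ K ∩ C_G(H). -/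
theorem result {G : Type*} [Group G] [Finite G] [Group.IsSolvable G] (K U H : Subgroup G) [K.Normal] (hKU : K ⊔ U = ⊤) (hH : H ≤ U) (hcop : (Nat.card H).Coprime (Nat.card K)) :
    H ⊓ commutator G = H ⊓ ⁅U, U⁆ ∧
      Subgroup.normalizer (H : Set G) = (K ⊓ Subgroup.centralizer (H : Set G)) ⊔ (U ⊓ Subgroup.normalizer (H : Set G)) ∧
      ∀ g : G, H.map (MulAut.conj g).toMonoidHom ≤ U → ∃ u ∈ U, ∃ c ∈ K ⊓ Subgroup.centralizer (H : Set G), g = u * c := by
  refine ⟨?_, ?_, fusion K U H hKU hH hcop⟩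
  · refine le_antisymm ?_ (inf_le_inf_left _ ?_)
    · intro h hh
      refine ⟨hh.1, ?_⟩
      have hder : commutator G ≤ K ⊔ ⁅U, U⁆ := by
        set f := QuotientGroup.mk' K
        have hU : U.map f = ⊤ := by
          rw [← Subgroup.map_top_of_surjective f (QuotientGroup.mk'_surjective K), ← hKU,
            Subgroup.map_sup, (Subgroup.map_eq_bot_iff K).2 (QuotientGroup.ker_mk' K).ge,
            bot_sup_eq]
        have h1 : (⁅U, U⁆ : Subgroup G).map f = (commutator G).map f := by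
          rw [commutator_def, Subgroup.map_commutator, Subgroup.map_commutator, hU,
            Subgroup.map_top_of_surjective f (QuotientGroup.mk'_surjective K)]
        rw [sup_comm]
        have h2 : commutator G ≤ ((⁅U, U⁆ : Subgroup G).map f).comap f := by
          rw [h1]; exact Subgroup.le_comap_map _ _
        rwa [Subgroup.comap_map_eq, QuotientGroup.ker_mk'] at h2
      obtain ⟨k, hk, u, hu, hku⟩ := Subgroup.mem_sup_of_normal_left.1 (hder hh.2)
      have hUU : ⁅U, U⁆ ≤ U := Subgroup.commutator_le_self U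
      have hkU : k ∈ U := by
        have : k = h * u⁻¹ := by rw [← hku]; group
        rw [this]
        exact U.mul_mem (hH hh.1) (U.inv_mem (hUU hu))
      have hN : ((⁅U, U⁆ : Subgroup G).subgroupOf U).Normal :=
        Subgroup.normal_subgroupOf_of_le_normalizer (fun a ha => Coprime.mem_normalizer_of_forall fun x hx => by
          have h3 : a * x * a⁻¹ * x⁻¹ ∈ ⁅U, U⁆ :=
            Subgroup.commutator_mem_commutator ha (hUU hx)
          have := Subgroup.mul_mem _ h3 hx
          simpa using this)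
      set π := QuotientGroup.mk' ((⁅U, U⁆ : Subgroup G).subgroupOf U)
      have heq : π ⟨h, hH hh.1⟩ = π ⟨k, hkU⟩ := by
        refine (QuotientGroup.eq.2 ?_).symm
        rw [Subgroup.mem_subgroupOf]
        have : k⁻¹ * h = u := by rw [← hku]; group
        show k⁻¹ * h ∈ _
        rw [this]
        exact hu
      have e1 := orderOf_map_dvd π ⟨h, hH hh.1⟩
      have e2 := orderOf_map_dvd π ⟨k, hkU⟩
      rw [Subgroup.orderOf_mk] at e1 e2
      rw [← heq] at e2
      have e3 : orderOf (π ⟨h, hH hh.1⟩) ∣ 1 := by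
        rw [← hcop]
        exact Nat.dvd_gcd (e1.trans (Subgroup.orderOf_dvd_natCard H hh.1))
          (e2.trans (Subgroup.orderOf_dvd_natCard K hk))
      exact Subgroup.mem_subgroupOf.1
        ((QuotientGroup.eq_one_iff _).1 (orderOf_eq_one_iff.1 (Nat.dvd_one.1 e3)))
    · rw [commutator_def]; exact Subgroup.commutator_mono le_top le_top
  · refine le_antisymm (fun g hg => ?_) (sup_le (inf_le_right.trans
      (Subgroup.centralizer_le_normalizer _)) inf_le_right)
    obtain ⟨u, hu, c, hc, rfl⟩ := fusion K U H hKU hH hcop g (fun _ ⟨h, hh, e⟩ =>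
      e ▸ hH ((Subgroup.mem_normalizer_iff.1 hg h).1 hh))
    refine Subgroup.mul_mem _ (Subgroup.mem_sup_right ⟨hu, ?_⟩) (Subgroup.mem_sup_left hc)
    have := Subgroup.mul_mem _ hg (Subgroup.inv_mem _ (Subgroup.centralizer_le_normalizer _ hc.2))
    simpa using this

end Cfsg.Agent.S1460
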