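import Cfsg.Statements.S1461
import Cfsg.Agent.Lib.PSeries.LengthOne
import Cfsg.Agent.Lib.PReduced.Tools
import Cfsg.Agent.S1460

set_option autoImplicit false
open Cfsg

namespace Cfsg.Agent.S1461

/-- Let G be a finite solvable group, p a prime with G = O_{p',p,p'}(G), and S a Sylow p-subgroup. Then: if S ≤ G' then S ≤ [N_G(S), N_G(S)]; if Y ⊆ S and xYx⁻¹ ⊆ S then x = g c for some g ∈ N_G(S) and c centralizing Y; and for every p-subgroup Q there is x ∈ C_G(Q ∩ S) with xQx⁻¹ ≤ S. -/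
theorem result {G : Type*} [Group G] [Finite G] [Group.IsSolvable G] (p : ℕ) [Fact p.Prime] (hpl : Cfsg.PLengthLE p 1 G) (S : Sylow p G) :
    ((S : Subgroup G) ≤ commutator G → (S : Subgroup G) ≤ ⁅Subgroup.normalizer ((S : Subgroup G) : Set G), Subgroup.normalizer ((S : Subgroup G) : Set G)⁆) ∧
      (∀ (Y : Set G) (x : G), Y ⊆ (S : Subgroup G) → (fun y => x * y * x⁻¹) '' Y ⊆ (S : Subgroup G) →
        ∃ g ∈ Subgroup.normalizer ((S : Subgroup G) : Set G), ∃ c ∈ Subgroup.centralizer Y, g * c = x) ∧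
      ∀ Q : Subgroup G, IsPGroup p Q → ∃ x ∈ Subgroup.centralizer ((Q ⊓ (S : Subgroup G) : Subgroup G) : Set G), Q.map (MulAut.conj x).toMonoidHom ≤ (S : Subgroup G) := by
  set K := Cfsg.pPrimeCore p G with hK
  set U := Subgroup.normalizer ((S : Subgroup G) : Set G) with hU
  have hSU : (S : Subgroup G) ≤ U := Subgroup.le_normalizer
  set D := Cfsg.pPrimePCore p G with hD
  have hSD : (S : Subgroup G) ≤ D := PSeries.le_pPrimePCore_of_pLengthLE_one hpl S.2
  have hKD : K ≤ D := QuotientGroup.le_comap_mk' _ _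
  have hmod : PReduced.pMod p K D := fun x hx => by
    obtain ⟨k, hk⟩ := Cores.isPGroup_pCore p (G ⧸ K) ⟨_, hx⟩
    refine ⟨k, (QuotientGroup.eq_one_iff _).1 ?_⟩
    rw [QuotientGroup.mk_pow]
    exact congrArg Subtype.val hk
  have hDn : D.Normal := by rw [hD, Cfsg.pPrimePCore]; infer_instance
  have hKU : K ⊔ U = ⊤ := by
    have hDeq := PReduced.eq_sup_sylow_inf_of_pMod S hKD hmod
    have h := PReduced.frattini_sylow_inf S D
    rw [inf_eq_left.2 hSD] at h hDeq
    rw [eq_top_iff, ← h, hDeq]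
    exact sup_le le_sup_right (sup_le le_sup_left (hSU.trans le_sup_right))
  have hcop : ∀ H : Subgroup G, H ≤ (S : Subgroup G) → (Nat.card H).Coprime (Nat.card K) :=
    fun H hH => by
      obtain ⟨n, hn⟩ := (S.2.to_le hH).exists_card_eq
      rw [hn]
      exact (Cores.coprime_card_pPrimeCore (G := G) p).symm.pow_left n
  have key : ∀ (H : Subgroup G) (g : G), H ≤ (S : Subgroup G) →
      H.map (MulAut.conj g).toMonoidHom ≤ (S : Subgroup G) →
      ∃ u ∈ U, ∃ c ∈ K ⊓ Subgroup.centralizer (H : Set G), g = u * c := fun H g hH hg =>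
    S1460.fusion K U H hKU (hH.trans hSU) (hcop H hH) g (hg.trans hSU)
  refine ⟨fun hle => ?_, fun Y x hY hxY => ?_, fun Q hQ => ?_⟩
  · exact ((le_inf le_rfl hle).trans
      (S1460.result K U (S : Subgroup G) hKU hSU (hcop _ le_rfl)).1.le).trans inf_le_right
  · obtain ⟨u, hu, c, hc, rfl⟩ := key (Subgroup.closure Y) x ((Subgroup.closure_le _).2 hY) (by
      rw [MonoidHom.map_closure, Subgroup.closure_le]
      exact hxY)
    exact ⟨u, hu, c, Subgroup.centralizer_le Subgroup.subset_closure hc.2, rfl⟩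
  · obtain ⟨R, hR⟩ := hQ.exists_le_sylow
    obtain ⟨y, hy⟩ := MulAction.exists_smul_eq G R S
    have hyQ : Q.map (MulAut.conj y).toMonoidHom ≤ (S : Subgroup G) := by
      rw [← hy, Sylow.coe_subgroup_smul]
      exact Subgroup.map_mono hR
    obtain ⟨u, hu, c, hc, hyuc⟩ := key (Q ⊓ (S : Subgroup G)) y inf_le_right
      ((Subgroup.map_mono inf_le_left).trans hyQ)
    refine ⟨c, hc.2, ?_⟩
    rintro _ ⟨q, hq, rfl⟩
    have h1 : y * q * y⁻¹ ∈ (S : Subgroup G) := hyQ ⟨q, hq, rfl⟩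
    refine (Subgroup.mem_normalizer_iff.1 hu (c * q * c⁻¹)).2 ?_
    rw [hyuc] at h1
    simpa [mul_assoc] using h1

end Cfsg.Agent.S1461
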