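import Cfsg.Statements.S1476
import Cfsg.Agent.Lib.CN.Frob
import Cfsg.Agent.EqLemmas

set_option autoImplicit false
open Cfsg

namespace Cfsg.Agent.S1476

/-- Let G be a finite solvable group in which every non-identity element has nilpotent centralizer. Then either G is nilpotent; or G has a normal subgroup K with a Frobenius complement E (K E = G, K ∩ E = 1, E meets its conjugates by outside elements trivially) such that E is cyclic or E is generated by two elementwise-commuting subgroups, one cyclic of odd order and one isomorphic to a generalized quaternion group; or G is a three-step group with respect to some prime p. -/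
theorem result {G : Type*} [Group G] [Finite G] [Group.IsSolvable G] (hCN : Cfsg.IsCNGroup G) :
    Group.IsNilpotent G ∨
      (∃ K E : Subgroup G, K.Normal ∧ Subgroup.IsComplement' K E ∧ Cfsg.IsFrobeniusComplement E ∧
        (IsCyclic E ∨ ∃ C Q : Subgroup G, C ⊔ Q = E ∧ (∀ a ∈ C, ∀ b ∈ Q, a * b = b * a) ∧ IsCyclic C ∧ Odd (Nat.card C) ∧
          ∃ n : ℕ, Nonempty (↥Q ≃* QuaternionGroup (2 ^ n)))) ∨
      ∃ p : ℕ, p.Prime ∧ Cfsg.IsThreeStepGroup p G := by
  by_cases hnn : Group.IsNilpotent G
  · exact Or.inl hnn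
  refine Or.inr ?_
  have hG : Nontrivial G := by
    by_contra h
    rw [not_nontrivial_iff_subsingleton] at h
    exact hnn inferInstance
  obtain ⟨p, hp, M, hMn, hM0, -, -, hMp, -, -⟩ :=
    Solvable.exists_minimal_normal_pGroup (G := G) (N := ⊤) top_ne_bot
  have := Fact.mk hp
  have hO : pCore p G ≠ ⊥ := fun e => hM0 (le_bot_iff.1 (e ▸ Cores.le_pCore hMn hMp))
  rcases CN.ns_or_threeStep hCN hO with hns | h3
  · obtain ⟨P⟩ : Nonempty (Sylow p G) := inferInstance
    have hP := hns.sylow_eq P
    obtain ⟨h1, -, -, E, hE, hFC, -, hEn, hsc⟩ := CN.frobenius_of_normal_sylow hCN hnn P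
      (hP ▸ hO) (by rw [hP]; infer_instance)
    exact Or.inl ⟨_, E, inferInstance, hE, hFC, CN.cyclic_or_quaternion hEn hsc⟩
  · exact Or.inr ⟨p, hp, h3⟩

end Cfsg.Agent.S1476
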