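import Cfsg.Statements.S1481
import Cfsg.Agent.Lib.LocalFitting.Basic

set_option autoImplicit false
open Cfsg

namespace Cfsg.Agent.S1481

/-- Let G be a finite group and H a local subgroup (the normalizer of a nontrivial subgroup of prime-power order) not properly contained in any local subgroup; let F = F(H), suppose at least two primes divide #F, put X = H ∩ C_G(F), let M ≤ F with F ∩ C_G(M) ≤ M, and let R be a solvable subgroup normalized by M and by X. Then for every prime q not dividing #F there is exactly one maximal M-invariant q-subgroup of R, and it is a Sylow q-subgroup of the largest normal subgroup of R of order coprime to #F. -/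
theorem result {G : Type*} [Group G] [Finite G] (H : Subgroup G) (hH : Cfsg.IsLocalSubgroup H) (hHmax : ∀ L : Subgroup G, Cfsg.IsLocalSubgroup L → H ≤ L → L = H)
    (hF2 : 2 ≤ (Nat.card (Cfsg.fittingOf H)).primeFactors.card)
    (M : Subgroup G) (hM : M ≤ Cfsg.fittingOf H) (hCM : Cfsg.fittingOf H ⊓ Subgroup.centralizer (M : Set G) ≤ M)
    (R : Subgroup G) (hR : Group.IsSolvable R) (hMR : M ≤ Subgroup.normalizer (R : Set G))
    (hXR : H ⊓ Subgroup.centralizer (Cfsg.fittingOf H : Set G) ≤ Subgroup.normalizer (R : Set G))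
    (q : ℕ) [Fact q.Prime] (hq : ¬ q ∣ Nat.card (Cfsg.fittingOf H)) :
    ∃! Q : Subgroup G, Q ∈ Cfsg.maxInvSubgroups R M {q} ∧
      (∀ Q' : Subgroup G, Q' ∈ Cfsg.maxInvSubgroups R M {q} →
        Q' ≤ Cfsg.piCoreOf (Cfsg.primesNotDvd (Nat.card (Cfsg.fittingOf H))) R ∧
        ¬ q ∣ Q'.relIndex (Cfsg.piCoreOf (Cfsg.primesNotDvd (Nat.card (Cfsg.fittingOf H))) R)) := by
  set n := Nat.card (Cfsg.fittingOf H) with hn
  set O := Cfsg.piCoreOf (Cfsg.primesNotDvd n) R with hO
  have hqP : q.Prime := Fact.out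
  have hOR : O ≤ R := OddTrans.piCoreOf_le _ _
  have hMO : M ≤ Subgroup.normalizer (O : Set G) :=
    fun m hm => OddTrans.mem_normalizer_piCoreOf (hMR hm)
  have hOpi := OddTrans.piCoreOf_pi (Cfsg.primesNotDvd n) R
  have hcop : (Nat.card M).Coprime (Nat.card O) :=
    OddTrans.coprime_of_pi (fun r hr hd => hd.trans (Subgroup.card_dvd_of_le hM)) hOpi
  have hMn : Group.IsNilpotent M :=
    Cores.isNilpotent_of_le hM (Cores.isNilpotent_map _ inferInstance)
  have hsolv : Group.IsSolvable M ∨ Group.IsSolvable O := Or.inl inferInstance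
  have key : ∀ Q' : Subgroup G, Q' ∈ Cfsg.maxInvSubgroups R M {q} →
      ∃ S : Sylow q O, Q' = (S : Subgroup O).map O.subtype ∧
        M ≤ Subgroup.normalizer ((S : Subgroup O).map O.subtype : Set G) := by
    intro Q' hQ'
    have hp := OddTrans.isPGroup_of_pi hqP hQ'.1.2.1
    have hle : Q' ≤ O := LocalFitting.invSubgroup_le_piCoreOf hHmax hF2 hM hCM hR hMR hXR hQ'.1.1
      hQ'.1.2.2 fun r hr hd => by
        have hrq : r = q := hQ'.1.2.1 r hr hd
        subst hrq
        exact ⟨hr, hq⟩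
    obtain ⟨S, hle', hS⟩ := Coprime.exists_invariant_sylow_ge hMO hcop hsolv hle hp hQ'.1.2.2
    refine ⟨S, (hQ'.2 _ ⟨(Subgroup.map_subtype_le _).trans hOR, ?_, hS⟩ hle').symm, hS⟩
    exact OddTrans.pi_of_isPGroup (S.isPGroup'.map _)
  have hne : ∃ Q : Subgroup G, Q ∈ Cfsg.maxInvSubgroups R M {q} := by
    obtain ⟨Q, hQ, hmax⟩ := (Set.toFinite (Cfsg.invSubgroups R M {q})).exists_maximal
      ⟨⊥, bot_le, fun r hr hd => absurd (by rwa [Subgroup.card_bot, Nat.dvd_one] at hd) hr.ne_one,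
        le_top.trans (Subgroup.normalizer_eq_top (⊥ : Subgroup G)).ge⟩
    exact ⟨Q, hQ, fun S hS hle => le_antisymm (hmax hS hle) hle⟩
  obtain ⟨Q, hQ⟩ := hne
  refine ⟨Q, ⟨hQ, fun Q' hQ' => ?_⟩, fun Q' hQ' => ?_⟩
  · obtain ⟨S, hS, -⟩ := key Q' hQ'
    subst hS
    refine ⟨Subgroup.map_subtype_le _, ?_⟩
    rw [Subgroup.relIndex, Subgroup.subgroupOf, Subgroup.comap_map_eq_self_of_injective O.subtype_injective]
    exact S.not_dvd_index
  · obtain ⟨S, hS, hMS⟩ := key Q hQ
    obtain ⟨S', hS', hMS'⟩ := key Q' hQ'.1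
    obtain ⟨c, hcM, hc⟩ := Coprime.invariant_sylow_conj hMO hcop hsolv S' S hMS' hMS
    have hbot : O ⊓ Subgroup.centralizer (M : Set G) = ⊥ := by
      refine LocalFitting.inf_centralizer_inf_eq_bot hM hCM hR hXR (inf_le_left.trans hOR) ?_
        inf_le_right fun r hr hd => hOpi r hr (hd.trans (Subgroup.card_dvd_of_le inf_le_left))
      obtain ⟨p, hp⟩ := Finset.card_pos.1 (lt_of_lt_of_le two_pos hF2)
      obtain ⟨hp', hpd, -⟩ := Nat.mem_primeFactors.1 hp
      obtain ⟨Z, -, ⟨hZM, -⟩, -, hCZ⟩ := LocalFitting.exists_local_center hHmax hM hCM hp' hpd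
      exact inf_le_right.trans ((Subgroup.centralizer_le hZM).trans hCZ)
    have hc1 : c = 1 := by
      have h : (c : G) ∈ O ⊓ Subgroup.centralizer (M : Set G) := ⟨c.2, hcM⟩
      rw [hbot, Subgroup.mem_bot] at h
      exact Subtype.ext h
    rw [hS', hS, ← hc, hc1, one_smul]

end Cfsg.Agent.S1481
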