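import Cfsg.Statements.S1484
import Cfsg.Agent.Lib.CN.Minimal
import Cfsg.Agent.EqLemmas

set_option autoImplicit false
open Cfsg

namespace Cfsg.Agent.S1484

/-- Let G be a minimal simple group of odd order in which every non-identity element has nilpotent centralizer, and M₁, …, M_k maximal subgroups, pairwise non-conjugate, such that every maximal subgroup is conjugate to some M_i. Let H_i be the largest normal nilpotent Hall subgroup of M_i. Then the orders of the H_i are pairwise coprime, their product is the order of G, and every element of G is conjugate to an element of some H_i. -/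
theorem result {G : Type*} [Group G] [Finite G] (hG : Cfsg.IsMinSimpleOddOrder G) (hCN : Cfsg.IsCNGroup G) (k : ℕ) (Mrep : Fin k → Subgroup G) (hmax : ∀ i, IsCoatom (Mrep i))
    (hnc : ∀ i j, i ≠ j → ∀ g : G, Mrep j ≠ (Mrep i).map (MulAut.conj g).toMonoidHom) (hall : ∀ M : Subgroup G, IsCoatom M → ∃ i, ∃ g : G, M = (Mrep i).map (MulAut.conj g).toMonoidHom) :
    (∀ i j, i ≠ j → (Nat.card (Cfsg.fittingHallOf (Mrep i))).Coprime (Nat.card (Cfsg.fittingHallOf (Mrep j)))) ∧
      ∏ i, Nat.card (Cfsg.fittingHallOf (Mrep i)) = Nat.card G ∧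
      ∀ x : G, ∃ i, ∃ g : G, g * x * g⁻¹ ∈ Cfsg.fittingHallOf (Mrep i) := by
  choose H hH hMH using fun i => CN.Minimal.exists_of_isCoatom hG hCN (hmax i)
  have hfh : ∀ i, Cfsg.fittingHallOf (Mrep i) = H i := fun i => by
    rw [hMH i, CN.Minimal.fittingHallOf_normalizer hG hCN (hH i)]
  have hcop : ∀ i j, i ≠ j → (Nat.card (H i)).Coprime (Nat.card (H j)) := by
    intro i j hij
    rcases (S1483.result hG hCN).1 (H i) (H j) ⟨(hH i).1, (hH i).2⟩ ⟨(hH j).1, (hH j).2⟩ with
      ⟨g, hg⟩ | h
    · refine absurd ?_ (hnc i j hij g)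
      rw [hMH i, hMH j, hg]
      exact (Subgroup.map_normalizer_eq_of_bijective (H i) (f := (MulAut.conj g).toMonoidHom)
        (MulAut.conj g).bijective).symm
    · exact h
  -- every element is conjugate into some `H i`
  have hcov : ∀ x : G, ∃ i, ∃ g : G, g * x * g⁻¹ ∈ H i := by
    intro x
    obtain ⟨L, hxL, hL⟩ := CN.exists_maximal_nilpotent (A := Subgroup.zpowers x) (by
      let : CommGroup (Subgroup.zpowers x) := IsCyclic.commGroup
      infer_instance)
    obtain ⟨i, g, hg⟩ := hall _ (CN.Minimal.isCoatom_normalizer hG hCN hL)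
    have hL' : CN.IsMaxNilpotent (L.map (MulAut.conj g⁻¹).toMonoidHom) := by
      have hnil := hL.1
      refine ⟨Group.nilpotent_of_mulEquiv
        (L.equivMapOfInjective _ (MulAut.conj g⁻¹).injective), fun A hA hle => ?_⟩
      have := hL.2 (A.map (MulAut.conj g).toMonoidHom)
        (Group.nilpotent_of_mulEquiv (A.equivMapOfInjective _ (MulAut.conj g).injective))
        fun y hy => ⟨g⁻¹ * y * g, hle ⟨y, hy, by simp⟩, by simp [mul_assoc]⟩
      rw [← this, Subgroup.map_map]
      ext y
      simp [mul_assoc]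
    have hN : Mrep i = Subgroup.normalizer
        ((L.map (MulAut.conj g⁻¹).toMonoidHom : Subgroup G) : Set G) := by
      rw [← Subgroup.map_normalizer_eq_of_bijective L (f := (MulAut.conj g⁻¹).toMonoidHom)
        (MulAut.conj g⁻¹).bijective, hg, Subgroup.map_map]
      ext y
      simp [mul_assoc]
    have e : H i = L.map (MulAut.conj g⁻¹).toMonoidHom := by
      rw [← hfh i, hN, CN.Minimal.fittingHallOf_normalizer hG hCN hL']
    exact ⟨i, g⁻¹, e ▸ ⟨x, hxL (Subgroup.mem_zpowers x), by simp⟩⟩
  refine ⟨fun i j hij => by rw [hfh, hfh]; exact hcop i j hij, ?_, fun x => ?_⟩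
  · simp only [hfh]
    refine Nat.dvd_antisymm (Finset.prod_dvd_of_isRelPrime
      (fun i _ j _ hij => Nat.coprime_iff_isRelPrime.1 (hcop i j hij))
      fun i _ => Subgroup.card_subgroup_dvd_card _) ?_
    rw [Nat.dvd_iff_prime_pow_dvd_dvd]
    intro p m hp hpm
    rcases Nat.eq_zero_or_pos m with rfl | hm
    · rw [pow_zero]; exact one_dvd _
    have := Fact.mk hp
    obtain ⟨x, hx⟩ := exists_prime_orderOf_dvd_card' (G := G) p
      ((dvd_pow_self p hm.ne').trans hpm)
    obtain ⟨i, g, hgx⟩ := hcov x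
    have hd : p ∣ Nat.card (H i) := by
      rw [← hx, ← S1483.orderOf_conj' g x]
      exact Subgroup.orderOf_dvd_natCard _ hgx
    have hni := CN.maximal_index_not_dvd hCN (hH i) hd
    rw [← Subgroup.card_mul_index (H i)] at hpm
    exact (Nat.Coprime.dvd_of_dvd_mul_right
      ((hp.coprime_iff_not_dvd.2 hni).pow_left m) hpm).trans
      (Finset.dvd_prod_of_mem _ (Finset.mem_univ i))
  · obtain ⟨i, g, hg⟩ := hcov x
    exact ⟨i, g, (hfh i).symm ▸ hg⟩

end Cfsg.Agent.S1484
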