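import Cfsg.Statements.S1485
import Cfsg.Agent.EqLemmas

set_option autoImplicit false
open Cfsg

namespace Cfsg.Agent.S1485

/-- Let H be a normal subgroup of the finite group G and θ an irreducible character of H. On H, the function induced from θ equals r times the sum of the distinct G-conjugates of θ, where r is the number of elements of G fixing θ under conjugation divided by the order of H (the index of H in the inertia group). -/
theorem result {G : Type*} [Group G] [Fintype G] (H : Subgroup G) [hN : H.Normal] (θ : H → ℂ) (hθ : Cfsg.IsIrrCharacter H θ) : (fun h : H => Cfsg.indFun H θ h) = ((Nat.card {g : G // ∀ h : H, θ ⟨g * h * g⁻¹, hN.conj_mem h h.2 g⟩ = θ h} : ℂ) / (Nat.card H : ℂ)) • ∑ᶠ ψ ∈ {ψ : H → ℂ | ∃ g : G, ψ = fun h : H => θ ⟨g * h * g⁻¹, hN.conj_mem h h.2 g⟩}, ψ := by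
  classical
  let c : G → (H → ℂ) := fun g h => θ ⟨g * h * g⁻¹, hN.conj_mem h h.2 g⟩
  set O : Finset (H → ℂ) := Finset.univ.image c with hO
  set T := {g : G // ∀ h : H, θ ⟨g * h * g⁻¹, hN.conj_mem h h.2 g⟩ = θ h} with hT
  have hfib : ∀ ψ ∈ O, (Finset.univ.filter fun g => c g = ψ).card = Nat.card T := by
    intro ψ hψ
    obtain ⟨g0, -, rfl⟩ := Finset.mem_image.mp hψ
    rw [Nat.card_eq_fintype_card, Fintype.card_subtype]
    refine Finset.card_bij (fun g _ => g * g0⁻¹) ?_ ?_ ?_
    · intro g hg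
      refine Finset.mem_filter.mpr ⟨Finset.mem_univ _, fun h => ?_⟩
      have := congrFun (Finset.mem_filter.mp hg).2 ⟨g0⁻¹ * h * g0,
        by simpa using hN.conj_mem (h : G) h.2 g0⁻¹⟩
      simp only [c] at this
      refine Eq.trans ?_ (this.trans ?_) <;> congr 2 <;> group
    · intro a _ b _ h; exact mul_right_cancel h
    · intro s hs
      refine ⟨s * g0, Finset.mem_filter.mpr ⟨Finset.mem_univ _, ?_⟩, by simp⟩
      funext h
      have := (Finset.mem_filter.mp hs).2 ⟨g0 * h * g0⁻¹, hN.conj_mem h h.2 g0⟩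
      simp only [c]
      refine Eq.trans ?_ this
      congr 2; group
  have hset : {ψ : H → ℂ | ∃ g : G, ψ = fun h : H => θ ⟨g * h * g⁻¹, hN.conj_mem h h.2 g⟩} = ↑O := by
    ext ψ; simp [O, c, eq_comm]
  rw [hset, finsum_mem_coe_finset]
  funext h
  simp only [Pi.smul_apply, Finset.sum_apply, smul_eq_mul]
  have hsum : ∑ g : G, c g h = (Nat.card T : ℂ) * ∑ ψ ∈ O, ψ h := by
    rw [← Finset.sum_fiberwise_of_maps_to (t := O) (g := c)
      (fun g _ => Finset.mem_image_of_mem c (Finset.mem_univ g)), Finset.mul_sum]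
    refine Finset.sum_congr rfl fun ψ hψ => ?_
    rw [Finset.sum_congr rfl (g := fun _ => ψ h) (fun g hg => by rw [(Finset.mem_filter.mp hg).2]),
      Finset.sum_const, hfib ψ hψ, nsmul_eq_mul]
  rw [div_mul_eq_mul_div, ← hsum, eq_div_iff (Nat.cast_ne_zero.mpr Nat.card_pos.ne')]
  unfold Cfsg.indFun
  rw [mul_comm, ← mul_assoc, mul_inv_cancel₀ (Nat.cast_ne_zero.mpr Nat.card_pos.ne'), one_mul]
  refine Fintype.sum_equiv (Equiv.inv G) _ _ fun x => ?_
  simp only [c, Equiv.inv_apply, inv_inv]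
  exact (Subtype.val_injective).extend_apply θ 0 ⟨x⁻¹ * h * x, by simpa using hN.conj_mem (h : G) h.2 x⁻¹⟩

end Cfsg.Agent.S1485
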