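import Cfsg.Statements.S1488
import Cfsg.Agent.EqLemmas

set_option autoImplicit false
open Cfsg

namespace Cfsg.Agent.S1488

/-- Let A be a normal subgroup of the finite group G contained in the subgroup H, let θ be a function on H and θ₁ a function on the image of H in G ⧸ A whose composite with the projection is θ. Then the function induced from θ₁ to G ⧸ A, composed with the projection G → G ⧸ A, equals the function induced from θ to G. -/
theorem result {G : Type*} [Group G] [Fintype G] (A H : Subgroup G) [A.Normal] (hAH : A ≤ H) [Fintype (G ⧸ A)] [Fintype ↥(H.map (QuotientGroup.mk' A))] (θ : H → ℂ) (θ₁ : ↥(H.map (QuotientGroup.mk' A)) → ℂ) (hθ : ∀ x : H, θ₁ ⟨QuotientGroup.mk' A x, Subgroup.mem_map_of_mem _ x.2⟩ = θ x) (g : G) : Cfsg.indFun (H.map (QuotientGroup.mk' A)) θ₁ (QuotientGroup.mk' A g) = Cfsg.indFun H θ g := by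
  classical
  have hterm : ∀ x : G, Cfsg.extendByZero H θ (x⁻¹ * g * x) =
      Cfsg.extendByZero (H.map (QuotientGroup.mk' A)) θ₁ (((QuotientGroup.mk' A) x)⁻¹ * (QuotientGroup.mk' A) g * (QuotientGroup.mk' A) x) := by
    intro x
    rw [← map_inv, ← map_mul, ← map_mul]
    set y := x⁻¹ * g * x
    by_cases hy : y ∈ H
    · refine ((Subtype.val_injective).extend_apply θ 0 ⟨y, hy⟩).trans ?_
      exact (hθ ⟨y, hy⟩).symm.trans
        ((Subtype.val_injective).extend_apply θ₁ 0 ⟨(QuotientGroup.mk' A) y, Subgroup.mem_map_of_mem _ hy⟩).symm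
    · have hy' : (QuotientGroup.mk' A) y ∉ (H.map (QuotientGroup.mk' A)) := by
        rintro ⟨h, hh, he⟩
        obtain ⟨a, ha, hay⟩ := (QuotientGroup.mk'_eq_mk' A).mp he
        exact hy (hay ▸ mul_mem hh (hAH ha))
      show Function.extend Subtype.val θ (0 : G → ℂ) y = Function.extend Subtype.val θ₁ (0 : G ⧸ A → ℂ) _; rw [Function.extend_apply', Function.extend_apply']; · rfl
      · rintro ⟨⟨a, ha⟩, he⟩; exact hy' (he ▸ ha)
      · rintro ⟨⟨a, ha⟩, rfl⟩; exact hy ha
  have hfib : ∀ t : G ⧸ A, (Finset.univ.filter fun x => (QuotientGroup.mk' A) x = t).card = Nat.card A := by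
    intro t
    obtain ⟨x0, rfl⟩ := QuotientGroup.mk'_surjective A t
    rw [Nat.card_eq_fintype_card, ← Finset.card_univ]
    symm
    refine Finset.card_bij (fun a _ => x0 * (a : G)) ?_ ?_ ?_
    · intro a _
      exact Finset.mem_filter.mpr ⟨Finset.mem_univ _, ((QuotientGroup.mk'_eq_mk' A).mpr ⟨a, a.2, rfl⟩).symm⟩
    · intro a _ b _ h; exact Subtype.ext (mul_left_cancel h)
    · intro x hx
      obtain ⟨a, ha, rfl⟩ := (QuotientGroup.mk'_eq_mk' A).mp (Finset.mem_filter.mp hx).2.symm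
      exact ⟨⟨a, ha⟩, Finset.mem_univ _, rfl⟩
  have hcard : Nat.card H = Nat.card (H.map (QuotientGroup.mk' A)) * Nat.card A := by
    have h1 := Subgroup.card_mul_index (A.subgroupOf H)
    rw [Nat.card_congr (Subgroup.subgroupOfEquivOfLe hAH).toEquiv] at h1
    rw [← h1, mul_comm]
    congr 1
    have h2 := Subgroup.index_ker ((QuotientGroup.mk' A).comp H.subtype)
    rw [MonoidHom.range_comp, Subgroup.range_subtype] at h2
    rw [← h2]
    congr 1
    ext h
    simp [Subgroup.mem_subgroupOf]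
  have hsum : ∑ x : G, Cfsg.extendByZero H θ (x⁻¹ * g * x) =
      (Nat.card A : ℂ) * ∑ t : G ⧸ A, Cfsg.extendByZero (H.map (QuotientGroup.mk' A)) θ₁ (t⁻¹ * (QuotientGroup.mk' A) g * t) := by
    rw [← Finset.sum_fiberwise Finset.univ (QuotientGroup.mk' A), Finset.mul_sum]
    refine Finset.sum_congr rfl fun t _ => ?_
    rw [Finset.sum_congr rfl (g := fun _ => Cfsg.extendByZero (H.map (QuotientGroup.mk' A)) θ₁ (t⁻¹ * (QuotientGroup.mk' A) g * t))
      (fun x hx => by rw [hterm, (Finset.mem_filter.mp hx).2]), Finset.sum_const, hfib, nsmul_eq_mul]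
  unfold Cfsg.indFun
  rw [hsum, hcard, Nat.cast_mul]
  have : (Nat.card A : ℂ) ≠ 0 := Nat.cast_ne_zero.mpr Nat.card_pos.ne'
  field_simp

end Cfsg.Agent.S1488
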