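import Cfsg.Statements.S1493
import Cfsg.Agent.Lib.GaloisPow.Twist

set_option autoImplicit false
open Cfsg

namespace Cfsg.Agent.S1493

/-- Let G be a finite group of order a * b with a and b coprime, let k be coprime to a, and let χ be a character of G. Then there is a character χ' of G such that χ'(g) = χ(g ^ k) whenever the order of g divides a and χ'(g) = χ(g) whenever the order of g is coprime to a; moreover χ' is irreducible if χ is. -/
theorem result {G : Type*} [Group G] [Finite G] (a b k : ℕ) (hab : Nat.card G = a * b) (hcop : Nat.Coprime a b) (hk : Nat.Coprime k a) (χ : G → ℂ) (hχ : Cfsg.IsCharacter G χ) : ∃ χ' : G → ℂ, Cfsg.IsCharacter G χ' ∧ (Cfsg.IsIrrCharacter G χ → Cfsg.IsIrrCharacter G χ') ∧ (∀ g : G, orderOf g ∣ a → χ' g = χ (g ^ k)) ∧ (∀ g : G, Nat.Coprime (orderOf g) a → χ' g = χ g) := by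
  obtain ⟨e, hea, heb⟩ := Nat.chineseRemainder hcop k 1
  have hcea : Nat.Coprime e a := by rw [Nat.Coprime, hea.gcd_eq]; exact hk
  have hceb : Nat.Coprime e b := by rw [Nat.Coprime, heb.gcd_eq]; exact Nat.gcd_one_left b
  have hce : Nat.Coprime e (Nat.card G) := hab ▸ Nat.Coprime.mul_right hcea hceb
  obtain ⟨f, hf⟩ := Cfsg.Agent.GaloisPow.exists_galois G hce
  have heq : (fun g => χ (g ^ e)) = fun g => f.toRingHom (χ g) := funext fun g => (hf χ hχ g).symm
  refine ⟨fun g => χ (g ^ e), heq ▸ Cfsg.Agent.GaloisPow.isCharacter_twist f.toRingHom hχ,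
    fun hirr => heq ▸ Cfsg.Agent.GaloisPow.isIrrCharacter_twist f.toRingHom hirr, fun g hg => ?_,
    fun g hg => ?_⟩
  · exact congrArg χ (pow_eq_pow_iff_modEq.mpr (hea.of_dvd hg))
  · have hb : orderOf g ∣ b := (Nat.Coprime.dvd_mul_left hg).mp (hab ▸ orderOf_dvd_natCard g)
    exact congrArg χ ((pow_eq_pow_iff_modEq.mpr (heb.of_dvd hb)).trans (pow_one g))

end Cfsg.Agent.S1493
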