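import Cfsg.Statements.S1494
import Cfsg.Agent.Lib.Char.Orth
import Cfsg.Agent.Lib.CharApp.Schur

set_option autoImplicit false
open Cfsg

namespace Cfsg.Agent.S1494

open Cfsg.Agent.Char

/-- Let χ be a generalized character of the finite group G, p a prime, x an element of order p and y an element commuting with x. Then χ(x * y) − χ(y) = (1 − ε) * ω for some algebraic integer ω, where ε = exp(2πi/p). -/
theorem result {G : Type*} [Group G] [Finite G] (χ : G → ℂ) (hχ : Cfsg.IsGeneralizedCharacter G χ) (p : ℕ) (hp : p.Prime) (x y : G) (hx : orderOf x = p) (hxy : x * y = y * x) : ∃ ω : ℂ, IsIntegral ℤ ω ∧ χ (x * y) - χ y = (1 - Complex.exp (2 * Real.pi * Complex.I / p)) * ω := by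
  set ε := Complex.exp (2 * Real.pi * Complex.I / p) with hε
  have hprim : IsPrimitiveRoot ε p := Complex.isPrimitiveRoot_exp p hp.ne_zero
  set K := Subgroup.centralizer ({x} : Set G) with hK
  let x' : K := ⟨x, Subgroup.mem_centralizer_singleton_iff.mpr rfl⟩
  let y' : K := ⟨y, Subgroup.mem_centralizer_singleton_iff.mpr hxy.symm⟩
  have key : ∀ ψ : K → ℂ, Cfsg.IsCharacter K ψ →
      ∃ ω : ℂ, IsIntegral ℤ ω ∧ ψ (x' * y') - ψ y' = (1 - ε) * ω := by
    intro ψ hψ
    refine isCharacter_induction (P := fun ψ => ∃ ω : ℂ, IsIntegral ℤ ω ∧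
      ψ (x' * y') - ψ y' = (1 - ε) * ω) ⟨0, isIntegral_zero, by simp⟩ ?_ hψ
    rintro ψ ψ' hψ - ⟨ω', hω', h'⟩
    suffices ∃ ω : ℂ, IsIntegral ℤ ω ∧ ψ (x' * y') - ψ y' = (1 - ε) * ω by
      obtain ⟨ω, hω, h⟩ := this
      exact ⟨ω + ω', hω.add hω', by simp only [Pi.add_apply]; linear_combination h + h'⟩
    · clear h' hω'
      have hint := IsCharacter.isIntegral (IsIrrCharacter.isCharacter hψ) y'
      obtain ⟨n, ρ, hρ, rfl⟩ := hψ
      haveI := nontrivial_of_isIrreducible ρ
      have hcen : x' ∈ Subgroup.center K := Subgroup.mem_center_iff.mpr fun g => Subtype.ext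
        (Subgroup.mem_centralizer_singleton_iff.mp g.2)
      obtain ⟨c, hc⟩ := Cfsg.Agent.CharApp.exists_scalar_of_mem_center ρ hcen
      have hcp : c ^ p = 1 := by
        obtain ⟨v, hv⟩ := exists_ne (0 : Fin n → ℂ)
        have hxp : x' ^ p = 1 := Subtype.ext (by simp [x', ← hx, pow_orderOf_eq_one])
        have h1 : (ρ (x' ^ p)) v = c ^ p • v := by
          rw [map_pow, hc, smul_pow, one_pow]; rfl
        rw [hxp, map_one] at h1
        exact smul_left_injective ℂ hv (by simpa using h1.symm)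
      haveI : NeZero p := ⟨hp.ne_zero⟩
      obtain ⟨j, -, hj⟩ := hprim.eq_pow_of_pow_eq_one hcp
      refine ⟨-((∑ i ∈ Finset.range j, ε ^ i) * ρ.character y'),
        (((IsIntegral.sum _ fun i _ => (hprim.isIntegral hp.pos).pow i)).mul hint).neg, ?_⟩
      have hxy' : ρ.character (x' * y') = c * ρ.character y' := by
        simp only [Representation.character, map_mul, hc]
        rw [smul_mul_assoc, one_mul, map_smul, smul_eq_mul]
      rw [hxy', ← hj, mul_neg, ← mul_assoc, mul_neg_geom_sum]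
      ring
  obtain ⟨a, b, ha, hb, rfl⟩ := hχ
  obtain ⟨ω, hω, h⟩ := key _ (IsCharacter.restrict ha K)
  obtain ⟨ω', hω', h'⟩ := key _ (IsCharacter.restrict hb K)
  refine ⟨ω - ω', hω.sub hω', ?_⟩
  simp only [Function.comp_apply, Subgroup.coe_subtype, Subgroup.coe_mul, x', y'] at h h'
  simp only [Pi.sub_apply]
  linear_combination h - h'

end Cfsg.Agent.S1494
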