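import Cfsg.Statements.S1495
import Cfsg.Agent.EqLemmas

set_option autoImplicit false
open Cfsg

namespace Cfsg.Agent.S1495

/-- Let p be a prime, ε = exp(2πi/p), and n an integer such that n = (1 − ε) * ω for some algebraic integer ω. Then p divides n. -/
theorem result (p : ℕ) (hp : p.Prime) (n : ℤ) (ω : ℂ) (hω : IsIntegral ℤ ω) (h : (n : ℂ) = (1 - Complex.exp (2 * Real.pi * Complex.I / p)) * ω) : (p : ℤ) ∣ n := by
  have : Fact p.Prime := ⟨hp⟩
  set ε : ℂ := Complex.exp (2 * Real.pi * Complex.I / p) with hε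
  have hprim : IsPrimitiveRoot ε p := Complex.isPrimitiveRoot_exp p hp.ne_zero
  have hεint : IsIntegral ℤ ε := hprim.isIntegral hp.pos
  obtain ⟨q, hq⟩ : ∃ q, p = q + 1 := ⟨p - 1, (Nat.succ_pred_eq_of_pos hp.pos).symm⟩
  have hprod : ∏ k ∈ Finset.range q, (1 - ε ^ (k + 1)) = ((p : ℕ) : ℂ) := by
    rw [IsPrimitiveRoot.prod_one_sub_pow_eq_order (n := q) (by rw [← hq]; exact hprim), hq]
    push_cast; ring
  have hfac : ∀ k ∈ Finset.range q, ∃ c : ℂ, IsIntegral ℤ c ∧ 1 - ε = (1 - ε ^ (k + 1)) * c := by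
    intro k hk
    have hcop : Nat.Coprime (k + 1) p := by
      refine ((Nat.Prime.coprime_iff_not_dvd hp).mpr fun h => ?_).symm
      have := Nat.le_of_dvd k.succ_pos h
      have := Finset.mem_range.mp hk
      omega
    obtain ⟨m, -, hm⟩ := (Nat.exists_mul_mod_eq_one_of_coprime hcop hp.one_lt)
    refine ⟨∑ i ∈ Finset.range m, (ε ^ (k + 1)) ^ i,
      IsIntegral.sum _ fun i _ => (hεint.pow _).pow _, ?_⟩
    rw [mul_neg_geom_sum, ← pow_mul]
    congr 1
    conv_lhs => rw [← pow_one ε]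
    rw [pow_eq_pow_mod ((k + 1) * m) hprim.pow_eq_one, hm]
  choose! c hcint hc using hfac
  have h2 : (1 - ε) ^ q = (p : ℂ) * ∏ k ∈ Finset.range q, c k := by
    rw [← hprod, ← Finset.prod_mul_distrib,
      show (1 - ε) ^ q = ∏ _k ∈ Finset.range q, (1 - ε) by simp]
    exact Finset.prod_congr rfl hc
  set t : ℂ := (∏ k ∈ Finset.range q, c k) * ω ^ q with ht
  have htint : IsIntegral ℤ t := (IsIntegral.prod _ hcint).mul (hω.pow q)
  have hnt : ((n : ℂ)) ^ q = (p : ℂ) * t := by rw [h, mul_pow, h2, ht]; ring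
  have hteq : algebraMap ℚ ℂ (((n ^ q : ℤ) : ℚ) / (p : ℚ)) = t := by
    have hp0 : (p : ℂ) ≠ 0 := Nat.cast_ne_zero.mpr hp.ne_zero
    simp only [map_div₀, map_intCast, map_natCast]
    push_cast
    rw [hnt]; field_simp
  have hQ : IsIntegral ℤ (((n ^ q : ℤ) : ℚ) / (p : ℚ)) :=
    (isIntegral_algebraMap_iff (algebraMap ℚ ℂ).injective).mp (hteq ▸ htint)
  obtain ⟨z, hz⟩ := IsIntegrallyClosed.isIntegral_iff.mp hQ
  have hz' : (n ^ q : ℤ) = (p : ℤ) * z := by
    have hp0 : (p : ℚ) ≠ 0 := Nat.cast_ne_zero.mpr hp.ne_zero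
    rw [eq_div_iff hp0] at hz
    simp only [algebraMap_int_eq, eq_intCast] at hz
    have : ((n ^ q : ℤ) : ℚ) = (((p : ℤ) * z : ℤ) : ℚ) := by rw [← hz]; push_cast; ring
    exact_mod_cast this
  exact (Nat.prime_iff_prime_int.mp hp).dvd_of_dvd_pow ⟨z, hz'⟩

end Cfsg.Agent.S1495
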