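import Cfsg.Statements.S1499
import Cfsg.Agent.Lib.Dade.Basic

set_option autoImplicit false
open Cfsg

namespace Cfsg.Agent.S1499

/-- Under the Dade hypothesis for (A, L, H), let a, b ∈ A. If an element of the coset a·H(a) is conjugate in G to an element of b·H(b), then a and b are conjugate by an element of L. Moreover the set normaliser of the coset a·H(a) is the centraliser of a. -/
theorem result {G : Type*} [Group G] [Finite G] (A : Set G) (L : Subgroup G) (H : G → Subgroup G) (hD : Cfsg.DadeHypothesis A L H) (a b : G) (ha : a ∈ A) (hb : b ∈ A) : ((∃ u ∈ H a, ∃ v ∈ H b, ∃ g : G, g * (a * u) * g⁻¹ = b * v) → ∃ x ∈ L, x * a * x⁻¹ = b) ∧ Subgroup.normalizer ((fun u : G => a * u) '' (H a : Set G)) = Subgroup.centralizer ({a} : Set G) := by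
  refine ⟨fun ⟨u, hu, v, hv, g, hg⟩ => Cfsg.Agent.Dade.exists_conj_of_conj_coset hD ha hb hu hv hg, ?_⟩
  apply le_antisymm
  · intro g hg
    have h := (Subgroup.mem_set_normalizer_iff.mp hg a).mp ⟨1, one_mem _, mul_one a⟩
    obtain ⟨u, hu, hu'⟩ := h
    have := Cfsg.Agent.Dade.eq_of_conj_coset hD ha ha (one_mem (H a)) hu (g := g)
      (by rw [mul_one]; exact hu'.symm)
    rw [Subgroup.mem_centralizer_singleton_iff]
    calc g * a = g * a * g⁻¹ * g := by group
      _ = a * g := by rw [this]
  · intro c hc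
    have key : ∀ c ∈ Subgroup.centralizer ({a} : Set G), ∀ y ∈ (fun u : G => a * u) '' (H a : Set G),
        c * y * c⁻¹ ∈ (fun u : G => a * u) '' (H a : Set G) := by
      rintro c hc _ ⟨u, hu, rfl⟩
      refine ⟨c * u * c⁻¹, hD.conj_mem_H a ha c hc u hu, ?_⟩
      calc a * (c * u * c⁻¹) = a * c * u * c⁻¹ := by group
        _ = c * a * u * c⁻¹ := by rw [Subgroup.mem_centralizer_singleton_iff.mp hc]
        _ = _ := by group
    rw [Subgroup.mem_set_normalizer_iff]
    intro y
    refine ⟨key c hc y, fun h => ?_⟩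
    simpa [mul_assoc] using key c⁻¹ (inv_mem hc) _ h

end Cfsg.Agent.S1499
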