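import Cfsg.Statements.S1504
import Cfsg.Agent.Lib.Char.Orth

set_option autoImplicit false
open Cfsg

namespace Cfsg.Agent.S1504

open Cfsg.Agent.Char

/-- Let W₁, W₂ be subgroups of a finite group with W₁ ⊓ W₂ = ⊥ whose elements commute, and W = W₁ ⊔ W₂. For linear characters φ, ψ of W with φ trivial on W₂ and ψ trivial on W₁, the function (1 − φ)(1 − ψ) vanishes on W₁ ∪ W₂; and the family of these functions, indexed by pairs (φ, ψ) with φ ≠ 1 ≠ ψ, is linearly independent over ℂ. -/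
theorem result {G : Type*} [Group G] [Finite G] (W₁ W₂ : Subgroup G) (hdisj : W₁ ⊓ W₂ = ⊥) (hcomm : ∀ a ∈ W₁, ∀ b ∈ W₂, a * b = b * a) : (∀ φ ψ : ↥(W₁ ⊔ W₂) →* ℂˣ, (∀ w : ↥(W₁ ⊔ W₂), (w : G) ∈ W₂ → φ w = 1) → (∀ w : ↥(W₁ ⊔ W₂), (w : G) ∈ W₁ → ψ w = 1) → ∀ w : ↥(W₁ ⊔ W₂), ((w : G) ∈ W₁ ∨ (w : G) ∈ W₂) → (1 - (φ w : ℂ) - (ψ w : ℂ) + (φ w : ℂ) * (ψ w : ℂ)) = 0) ∧ LinearIndependent ℂ (fun p : {p : (↥(W₁ ⊔ W₂) →* ℂˣ) × (↥(W₁ ⊔ W₂) →* ℂˣ) // p.1 ≠ 1 ∧ p.2 ≠ 1 ∧ (∀ w : ↥(W₁ ⊔ W₂), (w : G) ∈ W₂ → p.1 w = 1) ∧ (∀ w : ↥(W₁ ⊔ W₂), (w : G) ∈ W₁ → p.2 w = 1)} => fun w : ↥(W₁ ⊔ W₂) => 1 - (p.1.1 w : ℂ) - (p.1.2 w : ℂ) + (p.1.1 w : ℂ) * (p.1.2 w : ℂ)) := by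
  classical
  have : Fintype G := Fintype.ofFinite G
  refine ⟨fun φ ψ hφ hψ w hw => ?_, ?_⟩
  · rcases hw with hw | hw
    · simp [hψ w hw]
    · simp [hφ w hw]
  set W := W₁ ⊔ W₂
  let Φ := {p : (↥W →* ℂˣ) × (↥W →* ℂˣ) // p.1 ≠ 1 ∧ p.2 ≠ 1 ∧
    (∀ w : ↥W, (w : G) ∈ W₂ → p.1 w = 1) ∧ (∀ w : ↥W, (w : G) ∈ W₁ → p.2 w = 1)}
  have hext : ∀ f g : ↥W →* ℂˣ, (∀ w : ↥W, (w : G) ∈ W₁ → f w = g w) →
      (∀ w : ↥W, (w : G) ∈ W₂ → f w = g w) → f = g := by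
    intro f g h1 h2
    refine MonoidHom.ext fun w => ?_
    have hn : W₂ ≤ Subgroup.normalizer (W₁ : Set G) := by
      have fix : ∀ b ∈ W₂, ∀ y ∈ W₁, b * y * b⁻¹ = y := fun b hb y hy => by
        rw [← hcomm y hy b hb]; group
      intro b hb
      rw [Subgroup.mem_normalizer_iff]
      intro y
      refine ⟨fun hy => (fix b hb y hy).symm ▸ hy, fun hy => ?_⟩
      have := fix b⁻¹ (inv_mem hb) _ hy
      simp [mul_assoc] at this
      rw [this]; simpa [mul_assoc] using hy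
    have hw := w.2
    rw [← SetLike.mem_coe, Subgroup.coe_mul_of_right_le_normalizer_left _ _ hn] at hw
    obtain ⟨a, ha, b, hb, he⟩ := hw
    have : w = (⟨a, Subgroup.mem_sup_left ha⟩ : ↥W) * ⟨b, Subgroup.mem_sup_right hb⟩ :=
      Subtype.ext he.symm
    rw [this, map_mul, map_mul, h1 ⟨a, _⟩ ha, h2 ⟨b, _⟩ hb]
  have hinner : ∀ f g : ↥W →* ℂˣ, Cfsg.classInner (fun w => (f w : ℂ)) (fun w => (g w : ℂ)) =
      if f = g then 1 else 0 := by
    intro f g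
    have hf : IsIrrCharacter ↥W (fun w => (f w : ℂ)) :=
      isIrrCharacter_of_hom ((Units.coeHom ℂ).comp f)
    have hg : IsIrrCharacter ↥W (fun w => (g w : ℂ)) :=
      isIrrCharacter_of_hom ((Units.coeHom ℂ).comp g)
    split_ifs with h
    · subst h; exact classInner_irr_self hf
    · exact classInner_irr_of_ne hf hg fun e => h (MonoidHom.ext fun w => Units.ext (congrFun e w))
  rw [linearIndependent_iff']
  intro s c hs p hp
  have h := congrArg (fun F => Cfsg.classInner F (fun w : ↥W => ((p.1.1 * p.1.2) w : ℂ))) hs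
  simp only [classInner_sum_left, classInner_smul_left, classInner_zero_left] at h
  have hterm : ∀ q : Φ, Cfsg.classInner
      (fun w : ↥W => 1 - (q.1.1 w : ℂ) - (q.1.2 w : ℂ) + (q.1.1 w : ℂ) * (q.1.2 w : ℂ))
      (fun w : ↥W => ((p.1.1 * p.1.2) w : ℂ)) = if q = p then 1 else 0 := by
    intro q
    have e : (fun w : ↥W => 1 - (q.1.1 w : ℂ) - (q.1.2 w : ℂ) + (q.1.1 w : ℂ) * (q.1.2 w : ℂ)) =
        (fun w => ((1 : ↥W →* ℂˣ) w : ℂ)) - (fun w => (q.1.1 w : ℂ)) - (fun w => (q.1.2 w : ℂ)) +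
          fun w => ((q.1.1 * q.1.2) w : ℂ) := by
      funext w; simp
    rw [e, classInner_add_left, classInner_sub_left, classInner_sub_left, hinner, hinner, hinner, hinner]
    obtain ⟨p1, p2, p3, p4⟩ := p.2
    obtain ⟨q1, q2, q3, q4⟩ := q.2
    have n0 : (1 : ↥W →* ℂˣ) ≠ p.1.1 * p.1.2 := fun he => p1 (hext _ _
      (fun w hw => by have := DFunLike.congr_fun he w; simp [p4 w hw] at this; simp [← this])
      (fun w hw => by simp [p3 w hw]))
    have n1 : q.1.1 ≠ p.1.1 * p.1.2 := fun he => p2 (hext _ _ (fun w hw => by simp [p4 w hw])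
      (fun w hw => by have := DFunLike.congr_fun he w; simp [p3 w hw, q3 w hw] at this; simp [← this]))
    have n2 : q.1.2 ≠ p.1.1 * p.1.2 := fun he => p1 (hext _ _
      (fun w hw => by have := DFunLike.congr_fun he w; simp [p4 w hw, q4 w hw] at this; simp [← this])
      (fun w hw => by simp [p3 w hw]))
    have n3 : q.1.1 * q.1.2 = p.1.1 * p.1.2 ↔ q = p := by
      refine ⟨fun he => Subtype.ext (Prod.ext ?_ ?_), fun he => by rw [he]⟩
      · exact hext _ _ (fun w hw => by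
          have := DFunLike.congr_fun he w; simpa [p4 w hw, q4 w hw] using this)
          (fun w hw => by rw [p3 w hw, q3 w hw])
      · exact hext _ _ (fun w hw => by rw [p4 w hw, q4 w hw]) (fun w hw => by
          have := DFunLike.congr_fun he w; simpa [p3 w hw, q3 w hw] using this)
    simp only [if_neg n0, if_neg n1, if_neg n2, n3, sub_zero, zero_add]
  rw [Finset.sum_eq_single p (fun q _ hq => by rw [hterm q, if_neg hq, mul_zero])
    (fun hn => absurd hp hn), hterm p, if_pos rfl, mul_one] at h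
  exact h

end Cfsg.Agent.S1504
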