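import Cfsg.Statements.S1507
import Cfsg.Agent.Lib.CyclicTI.Basic
import Cfsg.Agent.S1506

set_option autoImplicit false
open Cfsg

namespace Cfsg.Agent.S1507

open Cfsg.Agent Cfsg.Agent.Char Cfsg.Agent.CyclicTI

open Classical in
/-- A matrix with the rectangle property and fewer than `2 n` nonzero entries (`n < m` odd) is
supported on one row or one column, constantly. -/
theorem grid {I J : Type*} [Fintype I] [Fintype J] (a : I → J → ℂ)
    (hrect : ∀ i i' j j', a i j + a i' j' = a i j' + a i' j) (hlt : Fintype.card I < Fintype.card J)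
    (hI : Odd (Fintype.card I)) (hJ : Odd (Fintype.card J)) (h2 : 2 ≤ Fintype.card I)
    (hcount : (Finset.univ.filter fun p : I × J => a p.1 p.2 ≠ 0).card < 2 * Fintype.card I) :
    (∀ i j, a i j = 0) ∨ (∃ j₀ c, ∀ i j, a i j = if j = j₀ then c else 0) ∨
      (∃ i₀ c, ∀ i j, a i j = if i = i₀ then c else 0) := by
  by_cases hzero : ∀ i j, a i j = 0
  · exact Or.inl hzero
  refine Or.inr ?_
  push Not at hzero
  obtain ⟨i₁, j₁, hne⟩ := hzero
  set N := Finset.univ.filter fun p : I × J => a p.1 p.2 ≠ 0 with hN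
  have hmem : ∀ i j, (i, j) ∈ N ↔ a i j ≠ 0 := fun i j => by simp [hN]
  by_cases hrow : ∀ i j j', a i j = a i j'
  · right
    refine ⟨i₁, a i₁ j₁, fun i j => ?_⟩
    split_ifs with hi
    · rw [hi]; exact hrow i₁ j j₁
    · by_contra h
      have hsub : ({i, i₁} : Finset I) ×ˢ (Finset.univ : Finset J) ⊆ N := by
        rintro ⟨x, y⟩ hp
        rw [hmem]
        simp only [Finset.mem_product, Finset.mem_insert, Finset.mem_singleton] at hp
        rcases hp.1 with rfl | rfl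
        · rwa [hrow _ y j]
        · rwa [hrow _ y j₁]
      have := Finset.card_le_card hsub
      rw [Finset.card_product, Finset.card_pair hi, Finset.card_univ] at this
      omega
  by_cases hcol : ∀ i i' j, a i j = a i' j
  · left
    refine ⟨j₁, a i₁ j₁, fun i j => ?_⟩
    split_ifs with hj
    · rw [hj]; exact hcol i i₁ j₁
    · by_contra h
      have hsub : (Finset.univ : Finset I) ×ˢ ({j, j₁} : Finset J) ⊆ N := by
        rintro ⟨x, y⟩ hp
        rw [hmem]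
        simp only [Finset.mem_product, Finset.mem_insert, Finset.mem_singleton] at hp
        rcases hp.2 with rfl | rfl
        · rwa [hcol x i]
        · rwa [hcol x i₁]
      have := Finset.card_le_card hsub
      rw [Finset.card_product, Finset.card_pair hj, Finset.card_univ] at this
      omega
  exfalso
  push Not at hrow hcol
  have hsum : N.card = ∑ j : J, (Finset.univ.filter fun i => a i j ≠ 0).card := by
    rw [Finset.card_eq_sum_card_fiberwise (f := Prod.snd) (t := Finset.univ) (fun _ _ => Finset.mem_univ _)]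
    refine Finset.sum_congr rfl fun j _ => ?_
    refine Finset.card_bij' (fun p _ => p.1) (fun i _ => (i, j)) ?_ ?_ ?_ ?_
    · rintro ⟨x, y⟩ hp
      simp only [Finset.mem_filter, hmem] at hp
      obtain ⟨hp, rfl⟩ := hp
      simpa using hp
    · intro i hi; simpa [hmem] using hi
    · rintro ⟨x, y⟩ hp; simp only [Finset.mem_filter] at hp; simp [hp.2]
    · intro i _; rfl
  by_cases htwo : ∀ j, 2 ≤ (Finset.univ.filter fun i => a i j ≠ 0).card
  · have h := Finset.sum_le_sum (s := (Finset.univ : Finset J)) (fun j _ => htwo j)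
    rw [Finset.sum_const, Finset.card_univ, smul_eq_mul, ← hsum] at h
    omega
  push Not at htwo
  obtain ⟨j₀, hj₀⟩ := htwo
  have hj₀' : ∀ i i', a i j₀ ≠ 0 → a i' j₀ ≠ 0 → i = i' := by
    intro i i' h h'
    by_contra hne
    have : ({i, i'} : Finset I) ⊆ Finset.univ.filter fun i => a i j₀ ≠ 0 := by
      intro x hx; simp only [Finset.mem_insert, Finset.mem_singleton] at hx
      rcases hx with rfl | rfl <;> simpa
    have := Finset.card_le_card this
    rw [Finset.card_pair hne] at this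
    omega
  obtain ⟨i₀, hi₀⟩ : ∃ i₀, a i₀ j₀ ≠ 0 := by
    by_contra hall
    push Not at hall
    obtain ⟨x, x', y, hxy⟩ := hcol
    have := hrect x x' y j₀
    rw [hall x, hall x'] at this
    exact hxy (by linear_combination this)
  have hother : ∀ i, i ≠ i₀ → a i j₀ = 0 := fun i hi => by
    by_contra h; exact hi (hj₀' i i₀ h hi₀)
  obtain ⟨i', hi'⟩ : ∃ i', i' ≠ i₀ := Fintype.exists_ne_of_one_lt_card (by omega) i₀
  obtain ⟨jb, hjb⟩ : ∃ jb, a i' jb ≠ 0 := by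
    by_contra hall
    push Not at hall
    obtain ⟨x, y, y', hy⟩ := hrow
    have := hrect x i' y y'
    rw [hall y, hall y'] at this
    exact hy (by linear_combination this)
  have hlow : ∀ j, a i' j = 0 → 1 ≤ (Finset.univ.filter fun i => a i j ≠ 0).card := by
    intro j hj
    refine Finset.card_pos.mpr ⟨i₀, Finset.mem_filter.mpr ⟨Finset.mem_univ _, fun h => ?_⟩⟩
    have := hrect i₀ i' j j₀
    rw [h, hj, hother i' hi'] at this
    exact hi₀ (by linear_combination -this)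
  have hhigh : Fintype.card I - 1 ≤ (Finset.univ.filter fun i => a i jb ≠ 0).card := by
    rw [← Finset.card_univ, ← Finset.card_erase_of_mem (Finset.mem_univ i₀)]
    refine Finset.card_le_card fun i hi => Finset.mem_filter.mpr ⟨Finset.mem_univ _, fun h => ?_⟩
    have := hrect i i' jb j₀
    rw [h, hother i' hi', hother i (Finset.mem_erase.mp hi).1] at this
    exact hjb (by linear_combination -this)
  have hall1 : ∀ j, 1 ≤ (Finset.univ.filter fun i => a i j ≠ 0).card := by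
    intro j
    by_cases hj : a i' j = 0
    · exact hlow j hj
    · exact Finset.card_pos.mpr ⟨i', by simpa using hj⟩
  have h := Finset.sum_le_sum (s := (Finset.univ : Finset J).erase jb) (fun j _ => hall1 j)
  rw [Finset.sum_const, Finset.card_erase_of_mem (Finset.mem_univ _), Finset.card_univ, smul_eq_mul,
    mul_one] at h
  rw [← Finset.add_sum_erase _ _ (Finset.mem_univ jb)] at hsum
  obtain ⟨k, hk⟩ := hI
  obtain ⟨l, hl⟩ := hJ
  omega

open Classical in
/-- Let W₁, W₂ ≤ G form a self-normalising cyclic subgroup W = W₁ ⊔ W₂ of odd order with Nat.card W₁ < Nat.card W₂, and χ an orthonormal family of irreducible characters of G up to sign, indexed by the linear characters ω of W, with χ_1 = 1, χ_ω = ω on W outside W₁ ∪ W₂, and the induction identity for (1 − φ)(1 − ψ). Let θ be a class function of G vanishing on W outside W₁ ∪ W₂, and suppose fewer than 2 · Nat.card W₁ linear characters ω of W have ⟨θ, χ ω⟩ ≠ 0. Then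 one of: all ⟨θ, χ ω⟩ vanish; or there are ψ₀ and a with ⟨θ, χ ω⟩ = a when ω ψ₀⁻¹ is trivial on W₂ and 0 otherwise; or there are φ₀ and a with ⟨θ, χ ω⟩ = a when ω φ₀⁻¹ is trivial on W₁ and 0 otherwise. -/
theorem result {G : Type*} [Group G] [Fintype G] (W₁ W₂ : Subgroup G) (hW : Cfsg.IsSelfNormalizingCyclic W₁ W₂) (hodd : Odd (Nat.card ↥(W₁ ⊔ W₂))) (χ : (↥(W₁ ⊔ W₂) →* ℂˣ) → (G → ℂ)) (hχ : Cfsg.IsCyclicTIFamily W₁ W₂ χ) (hlt : Nat.card W₁ < Nat.card W₂) (θ : G → ℂ) (hθ : Cfsg.IsClassFunction G θ) (hθV : ∀ w : ↥(W₁ ⊔ W₂), (w : G) ∉ W₁ → (w : G) ∉ W₂ → θ w = 0) (hfew : Nat.card {ω : ↥(W₁ ⊔ W₂) →* ℂˣ // Cfsg.classInner θ (χ ω) ≠ 0} < 2 * Nat.card W₁) : (∀ ω, Cfsg.classInner θ (χ ω) = 0) ∨ (∃ (ψ₀ : ↥(W₁ ⊔ W₂) →* ℂˣ) (a : ℂ), ∀ ω, Cfsg.classInner θ (χ ω) = if (∀ w : ↥(W₁ ⊔ W₂), (w : G) ∈ W₂ → (ω * ψ₀⁻¹) w = 1) then a else 0) ∨ (∃ (φ₀ : ↥(W₁ ⊔ W₂) →* ℂˣ) (a : ℂ), ∀ ω, Cfsg.classInner θ (χ ω) = if (∀ w : ↥(W₁ ⊔ W₂), (w : G) ∈ W₁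 → (ω * φ₀⁻¹) w = 1) then a else 0) := by
  classical
  have hP := isPair_of_selfNormalizing hW
  have := finite_lin ↥(W₁ ⊔ W₂)
  have : Fintype (↥(W₁ ⊔ W₂) →* ℂˣ) := Fintype.ofFinite _
  let Φ := {φ : ↥(W₁ ⊔ W₂) →* ℂˣ // ∀ w : ↥(W₁ ⊔ W₂), (w : G) ∈ W₂ → φ w = 1}
  let Ψ := {ψ : ↥(W₁ ⊔ W₂) →* ℂˣ // ∀ w : ↥(W₁ ⊔ W₂), (w : G) ∈ W₁ → ψ w = 1}
  have hcΦ : Fintype.card Φ = Nat.card W₁ := by
    rw [← Nat.card_eq_fintype_card]
    exact card_lin_factor₁ hP (comm_of_selfNormalizing hW)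
  have hcΨ : Fintype.card Ψ = Nat.card W₂ := by
    rw [← Nat.card_eq_fintype_card]
    exact card_lin_factor₂ hP (comm_of_selfNormalizing hW)
  let a : Φ → Ψ → ℂ := fun φ ψ => Cfsg.classInner θ (χ (φ.1 * ψ.1))
  have hrect : ∀ i i' j j', a i j + a i' j' = a i j' + a i' j := fun i i' j j' =>
    Cfsg.Agent.S1506.rectangle hP hχ hθ hθV i.2 i'.2 j.2 j'.2
  let e : Φ × Ψ ≃ (↥(W₁ ⊔ W₂) →* ℂˣ) :=
    { toFun := fun p => p.1.1 * p.2.1
      invFun := fun ω => (⟨hP.lfst ω, fun _ hw => hP.lfst_apply_of_mem₂ ω hw⟩,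
        ⟨hP.lsnd ω, fun _ hw => hP.lsnd_apply_of_mem₁ ω hw⟩)
      left_inv := fun p => Prod.ext (Subtype.ext (hP.split_mul p.1.2 p.2.2).1)
        (Subtype.ext (hP.split_mul p.1.2 p.2.2).2)
      right_inv := fun ω => hP.lfst_mul_lsnd ω }
  have hcount : (Finset.univ.filter fun p : Φ × Ψ => a p.1 p.2 ≠ 0).card < 2 * Fintype.card Φ := by
    rw [hcΦ]
    refine lt_of_eq_of_lt ?_ hfew
    rw [Nat.card_eq_fintype_card, Fintype.card_subtype]
    exact Finset.card_equiv e fun p => by simp [a, e]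
  have hoddΦ : Odd (Fintype.card Φ) := by
    rw [hcΦ]
    exact hodd.of_dvd_nat (Subgroup.card_dvd_of_le le_sup_left)
  have hoddΨ : Odd (Fintype.card Ψ) := by
    rw [hcΨ]
    exact hodd.of_dvd_nat (Subgroup.card_dvd_of_le le_sup_right)
  have h3 : 2 ≤ Fintype.card Φ := by
    rw [hcΦ]
    exact (Subgroup.one_lt_card_iff_ne_bot _).mpr hW.1
  have hfst : ∀ ω : ↥(W₁ ⊔ W₂) →* ℂˣ, ∀ φ : Φ,
      (∀ w : ↥(W₁ ⊔ W₂), (w : G) ∈ W₁ → (ω * (φ.1)⁻¹) w = 1) ↔ hP.lfst ω = φ.1 := by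
    intro ω φ
    constructor
    · intro h
      refine hP.lin_ext (fun w hw => ?_) (fun w hw => by rw [hP.lfst_apply_of_mem₂ ω hw, φ.2 w hw])
      have := h w hw
      rw [MonoidHom.mul_apply, MonoidHom.inv_apply, mul_inv_eq_one] at this
      rw [hP.lfst_apply_of_mem₁ ω hw, this]
    · intro h w hw
      rw [MonoidHom.mul_apply, MonoidHom.inv_apply, mul_inv_eq_one, ← h, hP.lfst_apply_of_mem₁ ω hw]
  have hsnd : ∀ ω : ↥(W₁ ⊔ W₂) →* ℂˣ, ∀ ψ : Ψ,
      (∀ w : ↥(W₁ ⊔ W₂), (w : G) ∈ W₂ → (ω * (ψ.1)⁻¹) w = 1) ↔ hP.lsnd ω = ψ.1 := by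
    intro ω ψ
    constructor
    · intro h
      refine hP.lin_ext (fun w hw => by rw [hP.lsnd_apply_of_mem₁ ω hw, ψ.2 w hw]) (fun w hw => ?_)
      have := h w hw
      rw [MonoidHom.mul_apply, MonoidHom.inv_apply, mul_inv_eq_one] at this
      rw [hP.lsnd_apply_of_mem₂ ω hw, this]
    · intro h w hw
      rw [MonoidHom.mul_apply, MonoidHom.inv_apply, mul_inv_eq_one, ← h, hP.lsnd_apply_of_mem₂ ω hw]
  have haω : ∀ ω, Cfsg.classInner θ (χ ω) = a (e.symm ω).1 (e.symm ω).2 := fun ω => by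
    show _ = Cfsg.classInner θ (χ (hP.lfst ω * hP.lsnd ω))
    rw [hP.lfst_mul_lsnd]
  rcases grid a hrect (by rw [hcΦ, hcΨ]; exact hlt) hoddΦ hoddΨ h3 hcount with h | ⟨j₀, c, h⟩ | ⟨i₀, c, h⟩
  · exact Or.inl fun ω => by rw [haω, h]
  · refine Or.inr (Or.inl ⟨j₀.1, c, fun ω => ?_⟩)
    rw [haω, h]
    by_cases hc : hP.lsnd ω = j₀.1
    · rw [if_pos (Subtype.ext hc), if_pos ((hsnd ω j₀).mpr hc)]
    · rw [if_neg (fun h => hc (congrArg Subtype.val h)), if_neg (fun h => hc ((hsnd ω j₀).mp h))]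
  · refine Or.inr (Or.inr ⟨i₀.1, c, fun ω => ?_⟩)
    rw [haω, h]
    by_cases hc : hP.lfst ω = i₀.1
    · rw [if_pos (Subtype.ext hc), if_pos ((hfst ω i₀).mpr hc)]
    · rw [if_neg (fun h => hc (congrArg Subtype.val h)), if_neg (fun h => hc ((hfst ω i₀).mp h))]

end Cfsg.Agent.S1507
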