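import Cfsg.Statements.S1510
import Cfsg.Agent.EqLemmas

set_option autoImplicit false
open Cfsg

namespace Cfsg.Agent.S1510

/-- Let L be a finite group with a normal subgroup K and a nontrivial cyclic subgroup W₁ of order coprime to its index, K ⊓ W₁ = ⊥ and K ⊔ W₁ = ⊤; let W₂ ≠ ⊥ be a cyclic subgroup of K with K ⊓ C_L(x) = W₂ for every non-identity x ∈ W₁, and suppose W₁ ⊔ W₂ has odd order. Then (W₁, W₂) is a self-normalising cyclic pair in L. -/
theorem result {L : Type*} [Group L] [Fintype L] (K W₁ W₂ : Subgroup L) [hK : K.Normal] (hKW₁ : K ⊓ W₁ = ⊥) (hKW₁' : K ⊔ W₁ = ⊤) (hW₁ : W₁ ≠ ⊥) (hW₁c : IsCyclic W₁) (hHall : Nat.Coprime (Nat.card W₁) W₁.index) (hW₂ : W₂ ≠ ⊥) (hW₂c : IsCyclic W₂) (hW₂K : W₂ ≤ K) (hC : ∀ x ∈ W₁, x ≠ 1 → K ⊓ Subgroup.centralizer ({x} : Set L) = W₂) (hodd : Odd (Nat.card ↥(W₁ ⊔ W₂))) : Cfsg.IsSelfNormalizingCyclic W₁ W₂ := by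
  have hcomm : ∀ a ∈ W₁, ∀ b ∈ W₂, a * b = b * a := by
    intro a ha b hb
    rcases eq_or_ne a 1 with rfl | ha1
    · simp
    · have h := hC a ha ha1
      have hb' : b ∈ Subgroup.centralizer ({a} : Set L) := (h ▸ hb : b ∈ K ⊓ _).2
      exact (Subgroup.mem_centralizer_singleton_iff.mp hb').symm
  have hinf : W₁ ⊓ W₂ = ⊥ := le_bot_iff.mp (hKW₁ ▸ le_inf (inf_le_right.trans hW₂K) inf_le_left)
  have hcard : Nat.card K ∣ W₁.index := by
    have hcompl : Subgroup.IsComplement' K W₁ :=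
      Subgroup.isComplement'_of_disjoint_and_mul_eq_univ (disjoint_iff.mpr hKW₁)
        (by rw [← Subgroup.coe_mul_of_right_le_normalizer_left K W₁ Subgroup.le_normalizer_of_normal,
              hKW₁', Subgroup.coe_top])
    rw [hcompl.index_eq_card]
  have hcop : Nat.Coprime (Nat.card W₁) (Nat.card W₂) :=
    hHall.coprime_dvd_right ((Subgroup.card_dvd_of_le hW₂K).trans hcard)
  have hdec : ∀ w ∈ W₁ ⊔ W₂, ∃ a ∈ W₁, ∃ b ∈ W₂, a * b = w := by
    intro w hw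
    have hn : W₂ ≤ Subgroup.normalizer (W₁ : Set L) := by
      intro b hb
      rw [Subgroup.mem_normalizer_iff]
      intro y
      have fix : ∀ b' ∈ W₂, ∀ y ∈ W₁, b' * y * b'⁻¹ = y := fun b' hb' y hy => by
        rw [← hcomm y hy b' hb']; group
      refine ⟨fun hy => (fix b hb y hy).symm ▸ hy, fun hy => ?_⟩
      have := fix b⁻¹ (inv_mem hb) _ hy
      simp [mul_assoc] at this
      rw [this]; simpa [mul_assoc] using hy
    rw [← SetLike.mem_coe, Subgroup.coe_mul_of_right_le_normalizer_left _ _ hn] at hw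
    obtain ⟨a, ha, b, hb, he⟩ := hw
    exact ⟨a, ha, b, hb, he⟩
  have hpow : ∀ a ∈ W₁, ∀ b ∈ W₂,
      (∃ m : ℕ, (a * b) ^ m = a) ∧ (∃ m : ℕ, (a * b) ^ m = b) := by
    intro a ha b hb
    obtain ⟨m, hm1, hm0⟩ := Nat.chineseRemainder hcop 1 0
    obtain ⟨k, hk1, hk0⟩ := Nat.chineseRemainder hcop 0 1
    have e : ∀ (c : L) (M i j : ℕ), orderOf c ∣ M → i ≡ j [MOD M] → c ^ i = c ^ j :=
      fun c M i j hc hij => pow_eq_pow_iff_modEq.mpr (hij.of_dvd hc)
    refine ⟨⟨m, ?_⟩, ⟨k, ?_⟩⟩ <;> rw [Commute.mul_pow (hcomm a ha b hb)]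
    · rw [e a _ _ _ (Subgroup.orderOf_dvd_natCard _ ha) hm1,
        e b _ _ _ (Subgroup.orderOf_dvd_natCard _ hb) hm0]; simp
    · rw [e a _ _ _ (Subgroup.orderOf_dvd_natCard _ ha) hk1,
        e b _ _ _ (Subgroup.orderOf_dvd_natCard _ hb) hk0]; simp
  refine ⟨hW₁, hW₂, hinf, hcomm, ?_, ?_⟩
  · obtain ⟨a, ha⟩ := (Subgroup.isCyclic_iff_exists_zpowers_eq_top W₁).mp hW₁c
    obtain ⟨b, hb⟩ := (Subgroup.isCyclic_iff_exists_zpowers_eq_top W₂).mp hW₂c
    refine (Subgroup.isCyclic_iff_exists_zpowers_eq_top _).mpr ⟨a * b, ?_⟩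
    have ha' : a ∈ W₁ := ha ▸ Subgroup.mem_zpowers a
    have hb' : b ∈ W₂ := hb ▸ Subgroup.mem_zpowers b
    obtain ⟨⟨m, hm⟩, ⟨k, hk⟩⟩ := hpow a ha' b hb'
    refine le_antisymm (Subgroup.zpowers_le.mpr
      (mul_mem (Subgroup.mem_sup_left ha') (Subgroup.mem_sup_right hb'))) (sup_le ?_ ?_)
    · rw [← ha, Subgroup.zpowers_le]
      exact Subgroup.mem_zpowers_iff.mpr ⟨m, by rw [zpow_natCast]; exact hm⟩
    · rw [← hb, Subgroup.zpowers_le]
      exact Subgroup.mem_zpowers_iff.mpr ⟨k, by rw [zpow_natCast]; exact hk⟩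
  · intro X hX hne
    have habel : ∀ w ∈ W₁ ⊔ W₂, ∀ x ∈ W₁ ⊔ W₂, w * x = x * w := by
      intro w hw x hx
      obtain ⟨a, ha, b, hb, rfl⟩ := hdec w hw
      obtain ⟨a', ha', b', hb', rfl⟩ := hdec x hx
      have hA : Commute a a' := congrArg Subtype.val
        (@Std.Commutative.comm ↥W₁ (· * ·) ⟨fun u v => (hW₁c.commGroup).mul_comm u v⟩ ⟨a, ha⟩ ⟨a', ha'⟩)
      have hB : Commute b b' := congrArg Subtype.val
        (@Std.Commutative.comm ↥W₂ (· * ·) ⟨fun u v => (hW₂c.commGroup).mul_comm u v⟩ ⟨b, hb⟩ ⟨b', hb'⟩)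
      exact ((hA.mul_right (hcomm a ha b' hb')).mul_left
        ((Commute.mul_right (hcomm a' ha' b hb : Commute a' b).symm hB)))
    apply le_antisymm
    · intro g hg
      obtain ⟨x, hxX⟩ := hne
      obtain ⟨hxW, hxn⟩ := hX hxX
      obtain ⟨a, ha, b, hb, rfl⟩ := hdec x hxW
      have ha1 : a ≠ 1 := fun h => hxn (Or.inr (by simpa [h] using hb))
      obtain ⟨⟨m, hm⟩, -⟩ := hpow a ha b hb
      have hgx : g * (a * b) * g⁻¹ ∈ W₁ ⊔ W₂ :=
        (hX ((Subgroup.mem_set_normalizer_iff.mp hg _).mp hxX)).1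
      have hga : g * a * g⁻¹ ∈ W₁ ⊔ W₂ := by
        have := pow_mem hgx m
        rwa [conj_pow, hm] at this
      have hgt : g ∈ K ⊔ W₁ := hKW₁' ▸ Subgroup.mem_top g
      rw [← SetLike.mem_coe,
        Subgroup.coe_mul_of_right_le_normalizer_left K W₁ Subgroup.le_normalizer_of_normal] at hgt
      obtain ⟨k, hk, w, hw, rfl⟩ := hgt
      change k * w * a * (k * w)⁻¹ ∈ W₁ ⊔ W₂ at hga
      have hwa : w * a = a * w :=
        habel w (Subgroup.mem_sup_left hw) a (Subgroup.mem_sup_left ha)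
      have he : k * w * a * (k * w)⁻¹ = k * a * k⁻¹ := by rw [mul_assoc k w a, hwa]; group
      obtain ⟨a', ha', b', hb', he'⟩ := hdec _ hga
      rw [he] at he'
      have hb1 : b' = 1 := by
        have h1 : (k * a * k⁻¹) ^ Nat.card W₁ = 1 := by
          rw [conj_pow, orderOf_dvd_iff_pow_eq_one.mp (Subgroup.orderOf_dvd_natCard _ ha)]; simp
        rw [← he', Commute.mul_pow (hcomm a' ha' b' hb'),
          orderOf_dvd_iff_pow_eq_one.mp (Subgroup.orderOf_dvd_natCard _ ha'), one_mul] at h1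
        exact orderOf_eq_one_iff.mp (Nat.eq_one_of_dvd_coprimes hcop
          (orderOf_dvd_iff_pow_eq_one.mpr h1) (Subgroup.orderOf_dvd_natCard _ hb'))
      rw [hb1, mul_one] at he'
      have hK' : k * a * k⁻¹ * a⁻¹ ∈ K := by
        rw [show k * a * k⁻¹ * a⁻¹ = k * (a * k⁻¹ * a⁻¹) by group]
        exact mul_mem hk (hK.conj_mem _ (inv_mem hk) a)
      have h0 : k * a * k⁻¹ * a⁻¹ = 1 := by
        have : k * a * k⁻¹ * a⁻¹ ∈ K ⊓ W₁ := ⟨hK', show k * a * k⁻¹ * a⁻¹ ∈ W₁ by rw [← he']; exact mul_mem ha' (inv_mem ha)⟩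
        rwa [hKW₁, Subgroup.mem_bot] at this
      have hkW : k ∈ W₂ := by
        rw [← hC a ha ha1]
        refine ⟨hk, Subgroup.mem_centralizer_singleton_iff.mpr ?_⟩
        calc k * a = (k * a * k⁻¹ * a⁻¹) * a * k := by group
          _ = a * k := by rw [h0, one_mul]
      exact mul_mem (Subgroup.mem_sup_right hkW) (Subgroup.mem_sup_left hw)
    · intro w hw
      rw [Subgroup.mem_set_normalizer_iff]
      intro y
      have fix : ∀ w ∈ W₁ ⊔ W₂, ∀ y ∈ X, w * y * w⁻¹ = y := fun w hw y hy => by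
        rw [habel w hw y (hX hy).1]; group
      refine ⟨fun hy => (fix w hw y hy).symm ▸ hy, fun hy => ?_⟩
      have := fix w⁻¹ (inv_mem hw) _ hy
      simp [mul_assoc] at this
      rw [this]; simpa [mul_assoc] using hy

end Cfsg.Agent.S1510
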