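import Cfsg.Statements.S1512
import Cfsg.Agent.Lib.Coprime.Invariant

set_option autoImplicit false
open Cfsg

namespace Cfsg.Agent.S1512

/-- A copy of the group on which it acts by conjugation. -/
structure CX (G : Type*) where
  /-- the underlying element -/
  val : G

instance {G : Type*} [Group G] : MulAction G (CX G) where
  smul a x := ⟨a * x.val * a⁻¹⟩
  one_smul x := by show CX.mk _ = x; simp
  mul_smul a b x := by show CX.mk _ = CX.mk (a * (b * x.val * b⁻¹) * a⁻¹); simp [mul_assoc]

theorem smul_mk {G : Type*} [Group G] (a x : G) : a • (CX.mk x) = CX.mk (a * x * a⁻¹) := rfl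

/-- Let K be a normal subgroup of the finite group L and x a non-identity element whose order is coprime to the order of K, such that K ⊓ C_L(y) = W₂ for every non-identity element y of the cyclic group generated by x. Then the number of conjugacy classes of K mapped to themselves by conjugation by x is at most Nat.card W₂. -/
theorem result {L : Type*} [Group L] [Finite L] (K W₂ : Subgroup L) [hK : K.Normal] (x : L) (hx1 : x ≠ 1) (hx : Nat.Coprime (orderOf x) (Nat.card K)) (hC : ∀ y ∈ Subgroup.zpowers x, y ≠ 1 → K ⊓ Subgroup.centralizer ({y} : Set L) = W₂) : Nat.card {C : ConjClasses K // ConjClasses.map (MulEquiv.toMonoidHom ((MulAut.conjNormal x : MulAut K))) C = C} ≤ Nat.card W₂ := by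
  classical
  have hsm : ∀ a z : L, a • CX.mk z = CX.mk (a * z * a⁻¹) := smul_mk
  set f : K →* K := MulEquiv.toMonoidHom ((MulAut.conjNormal x : MulAut K)) with hf
  have hfval : ∀ k : K, ((f k : K) : L) = x * k * x⁻¹ := fun k => MulAut.conjNormal_apply x k
  have hex : ∀ C : {C : ConjClasses K // ConjClasses.map f C = C},
      ∃ k : K, (k : L) ∈ W₂ ∧ ConjClasses.mk k = C.1 := by
    rintro ⟨C, hC'⟩
    obtain ⟨k₀, rfl⟩ := C.exists_rep
    set s : Set (CX L) := {z | ∃ k : K, z = CX.mk ((k : L) * k₀ * (k : L)⁻¹)} with hs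
    have hKs : ∀ k ∈ K, ∀ z ∈ s, k • z ∈ s := by
      rintro k hk z ⟨k', rfl⟩
      exact ⟨⟨k, hk⟩ * k', by rw [hsm, Subgroup.coe_mul]; exact congrArg CX.mk (by group)⟩
    have hxs : ∀ a ∈ Subgroup.zpowers x, ∀ z ∈ s, a • z ∈ s := by
      obtain ⟨c, hc⟩ := isConj_iff.mp (ConjClasses.mk_eq_mk_iff_isConj.mp hC')
      intro a ha
      obtain ⟨m, rfl⟩ := (Submonoid.mem_powers_iff _ _).mp
        ((mem_powers_iff_mem_zpowers (x := x)).mpr ha)
      induction m with
      | zero => intro z hz; simpa using hz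
      | succ m ih =>
        intro z hz
        rw [pow_succ', mul_smul]
        obtain ⟨k, he⟩ := ih ⟨(m : ℤ), by simp⟩ z hz
        refine ⟨⟨x * k * x⁻¹, hK.conj_mem _ k.2 x⟩ * c⁻¹, ?_⟩
        have hc' : (c : L) * (x * k₀ * x⁻¹) * (c : L)⁻¹ = k₀ := by
          have := congrArg (fun t : K => (t : L)) hc
          simpa [hfval] using this
        rw [he, hsm, Subgroup.coe_mul, Subgroup.coe_inv]
        refine congrArg CX.mk ?_
        conv_rhs => rw [← hc']
        group
    obtain ⟨z, ⟨k, rfl⟩, hfix⟩ := Cfsg.Agent.Coprime.exists_fixed_point (K := K)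
      Subgroup.le_normalizer_of_normal (by rwa [Nat.card_zpowers]) (Or.inl inferInstance) s
      ⟨CX.mk k₀, 1, by simp⟩ hxs hKs (by
        rintro _ ⟨k, rfl⟩ _ ⟨k', rfl⟩
        exact ⟨k' * (k : L)⁻¹, mul_mem k'.2 (inv_mem k.2), by rw [hsm]; exact congrArg CX.mk (by group)⟩)
    have h1 := hfix x (Subgroup.mem_zpowers x)
    rw [hsm] at h1
    have h1 := congrArg CX.val h1
    simp only at h1
    refine ⟨k * k₀ * k⁻¹, ?_, (ConjClasses.mk_eq_mk_iff_isConj.mpr (isConj_iff.mpr ⟨k, rfl⟩)).symm⟩
    rw [← hC x (Subgroup.mem_zpowers x) hx1]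
    refine ⟨(k * k₀ * k⁻¹).2, Subgroup.mem_centralizer_singleton_iff.mpr ?_⟩
    rw [Subgroup.coe_mul, Subgroup.coe_mul, Subgroup.coe_inv]
    conv_lhs => rw [← h1]
    group
  choose g hg hgC using hex
  refine Nat.card_le_card_of_injective (fun C => (⟨(g C : L), hg C⟩ : W₂)) fun C C' h => ?_
  refine Subtype.ext ?_
  rw [← hgC C, ← hgC C']
  exact congrArg _ (Subtype.ext (congrArg (fun t : W₂ => (t : L)) h))

end Cfsg.Agent.S1512
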