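import Cfsg.Statements.S1525
import Cfsg.Agent.Lib.Dade.Basic

set_option autoImplicit false
open Cfsg

namespace Cfsg.Agent.S1525

/-- Under the Dade hypothesis for (A, L, H), let χ be a class function of G and let ψ be a function on L whose value at each a ∈ A is the average of χ over the coset a·H(a). Then (1/|G|) Σ |χ g|² over the elements g of G conjugate into some coset a·H(a) with a ∈ A is at least (1/|L|) Σ_{a ∈ A ∩ L} |ψ a|². -/
theorem result {G : Type*} [Group G] [Fintype G] (A : Set G) (L : Subgroup G) [Fintype L] (H : G → Subgroup G) (hD : Cfsg.DadeHypothesis A L H) (χ : G → ℂ) (hχ : Cfsg.IsClassFunction G χ) (ψ : L → ℂ) (hψ : ∀ a : L, (a : G) ∈ A → ψ a = (Nat.card (H a) : ℂ)⁻¹ * ∑ᶠ u ∈ (H a : Set G), χ (a * u)) : (Nat.card L : ℝ)⁻¹ * ∑ᶠ a ∈ {a : L | (a : G) ∈ A}, ‖ψ a‖ ^ 2 ≤ (Nat.card G : ℝ)⁻¹ * ∑ᶠ g ∈ {g : G | ∃ a ∈ A, ∃ u ∈ H a, ∃ x : G, x * g * x⁻¹ = a * u}, ‖χ g‖ ^ 2 := by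
  classical
  let f : G → ℝ := fun g => if g ∈ Cfsg.Agent.Dade.support A H then ‖χ g‖ ^ 2 else 0
  have key := Cfsg.Agent.Dade.sum_support hD f
    (fun g x => by simp only [f, Cfsg.Agent.Dade.mem_support_conj_iff, hχ g x])
    (fun g hg => by simp only [f, if_neg hg])
  rw [finsum_mem_eq_sum_of_inter_support_eq (fun a => ‖ψ a‖ ^ 2)
      (t := Finset.univ.filter fun a : L => (a : G) ∈ A) (by simp),
    finsum_mem_eq_sum_of_inter_support_eq (fun g => ‖χ g‖ ^ 2)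
      (t := Finset.univ.filter fun g => g ∈ Cfsg.Agent.Dade.support A H)
      (by ext g; constructor <;> rintro ⟨h, h'⟩ <;> refine ⟨?_, h'⟩ <;> first | (simp at h; exact h) | (simp; exact h) | exact Finset.mem_filter.mpr ⟨Finset.mem_univ _, h⟩ | exact (Finset.mem_filter.mp h).2),
    Finset.sum_filter (fun g => g ∈ Cfsg.Agent.Dade.support A H), key]
  refine mul_le_mul_of_nonneg_left (Finset.sum_le_sum fun a ha => ?_) (by positivity)
  have ha' : (a : G) ∈ A := (Finset.mem_filter.mp ha).2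
  have hfu : ∀ u : H (a : G), f ((a : G) * u) = ‖χ ((a : G) * u)‖ ^ 2 := fun u =>
    if_pos ⟨a, ha', u, u.2, 1, by simp⟩
  simp only [hfu]
  rw [hψ a ha', Cfsg.Agent.Dade.finsum_mem_subgroup (H (a : G)) (fun u => χ ((a : G) * u)),
    norm_mul, norm_inv, Complex.norm_natCast, mul_pow]
  set n : ℝ := (Nat.card (H (a : G)) : ℝ) with hn
  have hpos : 0 < n := Nat.cast_pos.mpr Nat.card_pos
  calc n⁻¹ ^ 2 * ‖∑ u : H (a : G), χ ((a : G) * u)‖ ^ 2
      ≤ n⁻¹ ^ 2 * (∑ u : H (a : G), ‖χ ((a : G) * u)‖) ^ 2 := by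
        gcongr; exact norm_sum_le _ _
    _ ≤ n⁻¹ ^ 2 * (n * ∑ u : H (a : G), ‖χ ((a : G) * u)‖ ^ 2) := by
        gcongr
        have := sq_sum_le_card_mul_sum_sq (s := Finset.univ) (f := fun u : H (a : G) => ‖χ ((a : G) * u)‖)
        simpa [hn, Nat.card_eq_fintype_card] using this
    _ = n⁻¹ * ∑ u : H (a : G), ‖χ ((a : G) * u)‖ ^ 2 := by field_simp

end Cfsg.Agent.S1525
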