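import Cfsg.Statements.S1529
import Cfsg.Agent.Lib.Coherence.Virtual

set_option autoImplicit false
open Cfsg

namespace Cfsg.Agent.S1529

open Cfsg.Agent.Char Cfsg.Agent.Coherence

/-- Let N be a subgroup of the finite group G, S a set of irreducible characters of N with at least two members, and τ₁ a linear isometry on the integer combinations of S with virtual-character values such that τ₁ α vanishes at 1 whenever α ∈ ℤ[S] does. Then there is ε ∈ {1, −1} such that ε • τ₁ χ is an irreducible character of G for every χ ∈ S, and distinct members of S give distinct characters. -/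
theorem result {G : Type*} [Group G] [Fintype G] (N : Subgroup G) [Fintype N] (S : Set (N → ℂ)) (hirr : ∀ χ ∈ S, Cfsg.IsIrrCharacter N χ) (htwo : ∃ χ ∈ S, ∃ ψ ∈ S, χ ≠ ψ) (τ₁ : (N → ℂ) → (G → ℂ)) (hτ₁ : Cfsg.IsLinearIsometryOn (Cfsg.zspan S) τ₁) (h0 : ∀ α ∈ Cfsg.zspan S, α 1 = 0 → τ₁ α 1 = 0) : ∃ ε : ℂ, (ε = 1 ∨ ε = -1) ∧ (∀ χ ∈ S, Cfsg.IsIrrCharacter G (ε • τ₁ χ)) ∧ (∀ χ ∈ S, ∀ ψ ∈ S, τ₁ χ = τ₁ ψ → χ = ψ) := by
  obtain ⟨hadd, hsmul, hiso, hgc⟩ := hτ₁
  have hsigned : ∀ χ ∈ S, IsSignedIrr G (τ₁ χ) := fun χ hχ => gc_norm_one (hgc χ (subset_zspan hχ))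
    (by rw [hiso χ (subset_zspan hχ) χ (subset_zspan hχ), classInner_irr_self (hirr χ hχ)])
  have hprop : ∀ χ ∈ S, ∀ ψ ∈ S, (ψ 1).re * (τ₁ χ 1).re = (χ 1).re * (τ₁ ψ 1).re := by
    intro χ hχ ψ hψ
    obtain ⟨a, ha⟩ := IsCharacter.exists_degree (IsIrrCharacter.isCharacter (hirr χ hχ))
    obtain ⟨b, hb⟩ := IsCharacter.exists_degree (IsIrrCharacter.isCharacter (hirr ψ hψ))
    have h1 : (b : ℤ) • χ ∈ Cfsg.zspan S := zspan_zsmul _ (subset_zspan hχ)
    have h2 : (-(a : ℤ)) • ψ ∈ Cfsg.zspan S := zspan_zsmul _ (subset_zspan hψ)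
    have hv := h0 _ (zspan_add h1 h2) (by simp [ha, hb]; ring)
    rw [hadd _ h1 _ h2, hsmul χ (subset_zspan hχ), hsmul ψ (subset_zspan hψ)] at hv
    have := congrArg Complex.re hv
    simp at this
    simp [ha, hb]
    linarith
  have hinj : ∀ χ ∈ S, ∀ ψ ∈ S, τ₁ χ = τ₁ ψ → χ = ψ := by
    intro χ hχ ψ hψ he
    by_contra hne
    have h1 := hiso χ (subset_zspan hχ) ψ (subset_zspan hψ)
    rw [← he, (classInner_signed (hsigned χ hχ) (hsigned χ hχ)).1,
      classInner_irr_of_ne (hirr χ hχ) (hirr ψ hψ) hne] at h1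
    exact one_ne_zero h1
  obtain ⟨χ₀, hχ₀, -⟩ := htwo
  rcases hsigned χ₀ hχ₀ with h | h
  · refine ⟨1, Or.inl rfl, fun χ hχ => ?_, hinj⟩
    rw [one_smul]
    rcases hsigned χ hχ with h' | h'
    · exact h'
    · exfalso
      have := hprop χ₀ hχ₀ χ hχ
      have h1 := re_degree_pos h
      have h2 := re_degree_pos h'
      simp at h2
      nlinarith [mul_pos (re_degree_pos (hirr χ hχ)) h1, mul_pos (re_degree_pos (hirr χ₀ hχ₀)) (neg_pos.mpr h2)]
  · refine ⟨-1, Or.inr rfl, fun χ hχ => ?_, hinj⟩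
    rw [neg_one_smul]
    rcases hsigned χ hχ with h' | h'
    · exfalso
      have := hprop χ₀ hχ₀ χ hχ
      have h1 := re_degree_pos h
      have h2 := re_degree_pos h'
      simp at h1
      nlinarith [mul_pos (re_degree_pos (hirr χ hχ)) (neg_pos.mpr h1), mul_pos (re_degree_pos (hirr χ₀ hχ₀)) h2]
    · exact h'

end Cfsg.Agent.S1529
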