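import Cfsg.Statements.S1530
import Cfsg.Agent.Lib.Coherence.Criteria

set_option autoImplicit false
open Cfsg

namespace Cfsg.Agent.S1530

/-- Let N be a subgroup of the finite group G and S₀ a finite set of irreducible characters of N, χ an irreducible character of N not in S₀, with degrees ξ 1 = d ξ. Let τ be a linear isometry on the integer combinations of S₀ ∪ {χ} vanishing at 1, with values virtual characters of G vanishing at 1, such that (S₀, N minus 1, τ) is coherent. If some ψ ∈ S₀ has d ψ dividing d χ and 2 · d ψ · d χ < Σ_{ξ ∈ S₀} (d ξ)², then (S₀ ∪ {χ}, N minus 1, τ) is coherent. -/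
theorem result {G : Type*} [Group G] [Fintype G] (N : Subgroup G) [Fintype N] (S₀ : Finset (N → ℂ)) (χ : N → ℂ) (hirr : ∀ ξ ∈ S₀, Cfsg.IsIrrCharacter N ξ) (hχ : Cfsg.IsIrrCharacter N χ) (hχS : χ ∉ S₀) (d : (N → ℂ) → ℕ) (hd : ∀ ξ ∈ insert χ S₀, ξ 1 = (d ξ : ℂ)) (τ : (N → ℂ) → (G → ℂ)) (hτ : Cfsg.IsLinearIsometryOn (Cfsg.zspanOn (↑(insert χ S₀) : Set (N → ℂ)) {1}ᶜ) τ) (hτ1 : ∀ α ∈ Cfsg.zspanOn (↑(insert χ S₀) : Set (N → ℂ)) {1}ᶜ, τ α 1 = 0) (hcoh : Cfsg.IsCoherent (↑S₀ : Set (N → ℂ)) {1}ᶜ τ) (ψ : N → ℂ) (hψ : ψ ∈ S₀) (hdvd : d ψ ∣ d χ) (hlt : 2 * d ψ * d χ < ∑ ξ ∈ S₀, d ξ ^ 2) : Cfsg.IsCoherent (↑(insert χ S₀) : Set (N → ℂ)) {1}ᶜ τ := by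
  classical
  obtain ⟨hnz, τ₁, hτ₁, hag⟩ := hcoh
  obtain ⟨a, ha⟩ := hdvd
  have hmem : ∀ ξ ∈ S₀, ξ ∈ insert χ S₀ := fun ξ hξ => Finset.mem_insert_of_mem hξ
  have hψd : ψ 1 = ((d ψ : ℤ) : ℂ) := by simpa using hd ψ (hmem ψ hψ)
  have hχd : χ 1 = ((d χ : ℤ) : ℂ) := by simpa using hd χ (Finset.mem_insert_self χ S₀)
  have hpos : ∀ ξ ∈ insert χ S₀, 0 < d ξ := by
    intro ξ hξ
    have hi : Cfsg.IsIrrCharacter N ξ := by
      rcases Finset.mem_insert.1 hξ with rfl | h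
      exacts [hχ, hirr ξ h]
    have := Char.IsIrrCharacter.apply_one_ne_zero hi
    rw [hd ξ hξ] at this
    exact Nat.pos_of_ne_zero (by exact_mod_cast this)
  have hψ0 := hpos ψ (hmem ψ hψ)
  have hχ0 := hpos χ (Finset.mem_insert_self χ S₀)
  have hsub : (↑S₀ : Set (N → ℂ)) ⊆ ↑(insert χ S₀) := fun x hx => hmem x hx
  have hoχ : ∀ ξ ∈ S₀, Cfsg.classInner χ ξ = 0 := fun ξ hξ =>
    Char.classInner_irr_of_ne hχ (hirr ξ hξ) fun e => hχS (e ▸ hξ)
  have hm : χ - (a : ℤ) • ψ ∈ Cfsg.zspanOn (↑(insert χ S₀) : Set (N → ℂ)) {1}ᶜ :=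
    Coherence.mem_zspanOn_one.2 ⟨Coherence.zspan_sub (Coherence.subset_zspan (by simp))
      (Coherence.zspan_zsmul _ (Coherence.subset_zspan (hsub hψ))), by
        simp [hχd, hψd, ha]; ring⟩
  set β := τ (χ - (a : ℤ) • ψ) with hβ
  have hβgc := hτ.2.2.2 _ hm
  choose! c hc using fun ξ (hξ : ξ ∈ S₀) =>
    Coherence.classInner_gc_int hβgc (hτ₁.2.2.2 _ (Coherence.subset_zspan hξ))
  set b : ℤ := c ψ + a with hb
  have hrel : ∀ ξ ∈ S₀, (d ψ : ℤ) * (c ξ + a * (if ξ = ψ then 1 else 0)) = (d ξ : ℤ) * b := by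
    intro ξ hξ
    have h := Coherence.inner_rel hsub hτ hτ₁ hag (χ := χ) (by simp) hψ hξ hχd hψd
      (dφ := (d ξ : ℤ)) (by simpa using hd ξ (hmem ξ hξ)) (a := (a : ℤ))
      (by rw [ha]; push_cast; ring) (hoχ ψ hψ) (hoχ ξ hξ)
    rw [← hβ, hc ξ hξ, hc ψ hψ, Char.classInner_irr_self (hirr ψ hψ),
      Char.classInner_irr (hirr ψ hψ) (hirr ξ hξ)] at h
    apply Int.cast_injective (α := ℂ)
    rw [hb]
    by_cases he : ξ = ψ
    · subst he; push_cast; simp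
    · rw [if_neg fun e => he e.symm] at h; rw [if_neg he]; push_cast at h ⊢
      linear_combination h
  have hbes := Coherence.bessel S₀ τ₁ (fun _ => 1) (fun _ _ => one_pos)
    (fun ξ hξ => by
      rw [hτ₁.2.2.1 _ (Coherence.subset_zspan hξ) _ (Coherence.subset_zspan hξ),
        Char.classInner_irr_self (hirr ξ hξ)]
      simp)
    (fun ξ hξ ξ' hξ' hne => by
      rw [hτ₁.2.2.1 _ (Coherence.subset_zspan hξ) _ (Coherence.subset_zspan hξ'),
        Char.classInner_irr_of_ne (hirr ξ hξ) (hirr ξ' hξ') hne]) β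
  simp only [div_one, Complex.ofReal_one] at hbes
  have hββ : Cfsg.classInner β β = ((1 + (a : ℤ) ^ 2 : ℤ) : ℂ) := by
    rw [hβ, hτ.2.2.1 _ hm _ hm]
    simp only [Char.classInner_sub_left, Char.classInner_sub_right, Coherence.classInner_zsmul_left,
      Coherence.classInner_zsmul_right, Char.classInner_irr_self hχ,
      Char.classInner_irr_self (hirr ψ hψ), hoχ ψ hψ, Coherence.classInner_symm_zero (hoχ ψ hψ)]
    push_cast; ring
  have hsq : ∑ ξ ∈ S₀, ‖Cfsg.classInner β (τ₁ ξ)‖ ^ 2 = ((∑ ξ ∈ S₀, c ξ ^ 2 : ℤ) : ℝ) := by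
    push_cast
    exact Finset.sum_congr rfl fun ξ hξ => by rw [hc ξ hξ, Complex.norm_intCast, sq_abs]
  rw [hsq, hββ, Complex.intCast_re] at hbes
  obtain ⟨hle, hexp⟩ := hbes
  have hle' : ∑ ξ ∈ S₀, c ξ ^ 2 ≤ 1 + (a : ℤ) ^ 2 := by exact_mod_cast hle
  have hexpand : (d ψ : ℤ) ^ 2 * ∑ ξ ∈ S₀, c ξ ^ 2 =
      b ^ 2 * (∑ ξ ∈ S₀, (d ξ : ℤ) ^ 2) - 2 * b * a * (d ψ : ℤ) ^ 2 + (a : ℤ) ^ 2 * (d ψ : ℤ) ^ 2 := by
    have : ∀ ξ ∈ S₀, (d ψ : ℤ) ^ 2 * c ξ ^ 2 = b ^ 2 * (d ξ : ℤ) ^ 2 +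
        (if ξ = ψ then (a : ℤ) ^ 2 * (d ψ : ℤ) ^ 2 - 2 * b * a * (d ψ : ℤ) ^ 2 else 0) := by
      intro ξ hξ
      have h := hrel ξ hξ
      split_ifs with he
      · subst he
        rw [hb]; ring
      · rw [if_neg he, mul_zero, add_zero] at h
        rw [← mul_pow, h]; ring
    rw [Finset.mul_sum, Finset.sum_congr rfl this, Finset.sum_add_distrib, ← Finset.mul_sum,
      Finset.sum_ite_eq', if_pos hψ]
    ring
  have hD : (2 : ℤ) * (d ψ) * (d χ) < ∑ ξ ∈ S₀, (d ξ : ℤ) ^ 2 := by exact_mod_cast hlt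
  set D : ℤ := ∑ ξ ∈ S₀, (d ξ : ℤ) ^ 2 with hDdef
  have haz : (d χ : ℤ) = (a : ℤ) * (d ψ : ℤ) := by rw [ha]; push_cast; ring
  have hb0 : b = 0 := by
    by_contra hb0
    -- divisibility by `(d ψ)^2`
    have hdiv : (d ψ : ℤ) ^ 2 ∣ b ^ 2 * D := by
      rw [hDdef, Finset.mul_sum]
      refine Finset.dvd_sum fun ξ hξ => ?_
      rw [← mul_pow, mul_comm b]
      exact pow_dvd_pow_of_dvd ⟨_, (hrel ξ hξ).symm⟩ 2
    obtain ⟨k, hk⟩ := hdiv
    have hψ2 : (0 : ℤ) < (d ψ : ℤ) ^ 2 := pow_pos (by exact_mod_cast hψ0) 2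
    have h1 : k - 2 * b * a ≤ 1 := by
      have := mul_le_mul_of_nonneg_left hle' hψ2.le
      rw [hexpand, hk] at this
      exact le_of_mul_le_mul_left (by linarith) hψ2
    have hDa : 2 * (a : ℤ) * (d ψ : ℤ) ^ 2 < D := by rw [haz] at hD; linarith
    have hb2 : 1 ≤ b ^ 2 := (one_le_sq_iff_one_le_abs b).2 (Int.one_le_abs hb0)
    have ha0 : 0 < (a : ℤ) := by
      exact_mod_cast Nat.pos_of_ne_zero (fun e => hχ0.ne' (by rw [ha, e, mul_zero]))
    have h2 : 2 * b ^ 2 * a * (d ψ : ℤ) ^ 2 < (d ψ : ℤ) ^ 2 * k := by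
      rw [← hk]; nlinarith
    have h3 : 2 * b ^ 2 * a < k := by
      by_contra hcon; push Not at hcon; nlinarith
    have hb1 : b = 1 := by
      rcases lt_or_gt_of_ne hb0 with hneg | hposb
      · exfalso
        have : 0 < (-b) * a := mul_pos (neg_pos.2 hneg) ha0
        nlinarith
      · by_contra h
        have hb' : 2 ≤ b := by omega
        nlinarith [mul_le_mul hb' (le_refl b) hposb.le (by omega)]
    rw [hb1] at hk h1 h3
    have hk1 : k = 1 + 2 * (a : ℤ) := by omega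
    have heq : ∑ ξ ∈ S₀, c ξ ^ 2 = 1 + (a : ℤ) ^ 2 := by
      refine mul_left_cancel₀ hψ2.ne' ?_
      rw [hexpand, hb1, hk, hk1]; ring
    have hX := hexp (by rw [heq])
    obtain ⟨ξ₀, hξ₀, hξ₀ne⟩ : ∃ ξ₀ ∈ S₀, ξ₀ ≠ ψ := by
      by_contra hcon
      push Not at hcon
      have hS : S₀ = {ψ} := Finset.eq_singleton_iff_unique_mem.2 ⟨hψ, hcon⟩
      obtain ⟨α, hα, hα0⟩ := hnz
      obtain ⟨m, hm'⟩ := Coherence.exists_coeffs_of_mem_zspan hα.1
      rw [hS, Finset.sum_singleton] at hm'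
      have := (Coherence.mem_zspanOn_one.1 hα).2
      rw [hm'] at this
      simp [hψd, hψ0.ne'] at this
      exact hα0 (by rw [hm', this, zero_smul])
    have hprop : ∀ ξ ∈ S₀, (d ψ : ℂ) * τ₁ ξ 1 = (d ξ : ℂ) * τ₁ ψ 1 := by
      intro ξ hξ
      have hmm : (d ψ : ℤ) • ξ + (-(d ξ : ℤ)) • ψ ∈ Cfsg.zspanOn (↑S₀ : Set (N → ℂ)) {1}ᶜ :=
        Coherence.mem_zspanOn_one.2 ⟨Coherence.zspan_add (Coherence.zspan_zsmul _ (Coherence.subset_zspan hξ))
          (Coherence.zspan_zsmul _ (Coherence.subset_zspan hψ)), by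
            simp [hψd, hd ξ (hmem ξ hξ)]; ring⟩
      have := hτ1 _ (Coherence.zspanOn_mono hsub hmm)
      rw [← hag _ hmm, hτ₁.1 _ (Coherence.zspan_zsmul _ (Coherence.subset_zspan hξ)) _
        (Coherence.zspan_zsmul _ (Coherence.subset_zspan hψ)), hτ₁.2.1 _ (Coherence.subset_zspan hξ),
        hτ₁.2.1 _ (Coherence.subset_zspan hψ)] at this
      simp at this
      linear_combination this
    have hne1 : τ₁ ψ 1 ≠ 0 := by
      have hn := Coherence.gc_norm_one (hτ₁.2.2.2 _ (Coherence.subset_zspan hψ))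
        (by rw [hτ₁.2.2.1 _ (Coherence.subset_zspan hψ) _ (Coherence.subset_zspan hψ),
          Char.classInner_irr_self (hirr ψ hψ)])
      rcases hn with h | h
      · exact Char.IsIrrCharacter.apply_one_ne_zero h
      · have := Char.IsIrrCharacter.apply_one_ne_zero h
        simpa using this
    have hzero := hτ1 _ hm
    rw [← hβ, hX, Finset.sum_apply] at hzero
    have hfin : ((∑ ξ ∈ S₀, c ξ * (d ξ : ℤ) : ℤ) : ℂ) = 0 := by
      refine (mul_eq_zero.1 (?_ : _ * τ₁ ψ 1 = 0)).resolve_right hne1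
      push_cast
      rw [Finset.sum_mul]
      refine Eq.trans ?_ (mul_eq_zero_of_right (d ψ : ℂ) hzero)
      rw [Finset.mul_sum]
      refine Finset.sum_congr rfl fun ξ hξ => ?_
      rw [hc ξ hξ, Pi.smul_apply, smul_eq_mul]
      linear_combination -(c ξ : ℂ) * hprop ξ hξ
    have hfin' : ∑ ξ ∈ S₀, c ξ * (d ξ : ℤ) = 0 := by exact_mod_cast hfin
    have : (d ψ : ℤ) * ∑ ξ ∈ S₀, c ξ * (d ξ : ℤ) = D - a * (d ψ : ℤ) * (d ψ : ℤ) := by
      rw [Finset.mul_sum, Finset.sum_congr rfl (g := fun ξ => (d ξ : ℤ) ^ 2 -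
        (if ξ = ψ then (a : ℤ) * (d ψ : ℤ) * (d ψ : ℤ) else 0)) ?_]
      · rw [Finset.sum_sub_distrib, Finset.sum_ite_eq', if_pos hψ, hDdef]
      · intro ξ hξ
        have h := hrel ξ hξ
        rw [hb1, mul_one] at h
        split_ifs with he
        · subst he; rw [if_pos rfl] at h; linear_combination (d ξ : ℤ) * h
        · rw [if_neg he] at h; linear_combination (d ξ : ℤ) * h
    rw [hfin', mul_zero] at this
    nlinarith [mul_pos ha0 hψ2]
  set X := β + (a : ℤ) • τ₁ ψ with hX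
  have hXgc : Cfsg.IsGeneralizedCharacter G X :=
    Coherence.isGC_add hβgc (Coherence.isGC_zsmul (hτ₁.2.2.2 _ (Coherence.subset_zspan hψ)) _)
  have hcval : ∀ ξ ∈ S₀, c ξ = -(a : ℤ) * (if ξ = ψ then 1 else 0) := by
    intro ξ hξ
    have h := hrel ξ hξ
    rw [hb0, mul_zero, mul_eq_zero] at h
    rcases h with h | h
    · exact absurd h (by exact_mod_cast hψ0.ne')
    · linarith
  have hXφ : ∀ ξ ∈ S₀, Cfsg.classInner X (τ₁ ξ) = 0 := by
    intro ξ hξ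
    rw [hX, Char.classInner_add_left, hc ξ hξ, Coherence.classInner_zsmul_left,
      hτ₁.2.2.1 _ (Coherence.subset_zspan hψ) _ (Coherence.subset_zspan hξ),
      Char.classInner_irr (hirr ψ hψ) (hirr ξ hξ), hcval ξ hξ]
    by_cases he : ξ = ψ
    · subst he; simp
    · rw [if_neg he, if_neg fun e => he (Eq.symm e)]; simp
  have hXX : Cfsg.classInner X X = 1 := by
    have h1 := hXφ ψ hψ
    have h2 : Cfsg.classInner β (τ₁ ψ) = -((a : ℤ) : ℂ) := by
      rw [hc ψ hψ, hcval ψ hψ, if_pos rfl]; simp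
    nth_rw 2 [hX]
    rw [Char.classInner_add_right, Coherence.classInner_zsmul_right, h1, mul_zero, add_zero, hX,
      Char.classInner_add_left, hββ, Coherence.classInner_zsmul_left,
      Coherence.classInner_symm_of_int (n := -(a : ℤ)) (by rw [h2]; simp)]
    push_cast; ring
  have hres := Coherence.coherent_glue (τ := τ) (τ₁ := τ₁) S₀ {χ}
    (T := (↑(insert χ S₀) : Set (N → ℂ)))
    (by rw [Finset.union_comm, ← Finset.insert_eq]) (by simpa using hχS) ?_ ?_ hτ hτ₁ hag hψ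
    (fun _ => X) (fun _ _ => hXgc) (fun _ _ ξ hξ => hXφ ξ hξ) ?_ ?_ ?_
  · rw [Finset.union_comm, ← Finset.insert_eq] at hres; exact hres
  · intro ξ hξ e
    rw [Finset.union_comm, ← Finset.insert_eq] at hξ
    have := hd ξ hξ
    rw [congrFun e 1, Pi.zero_apply] at this
    exact (hpos ξ hξ).ne' (by exact_mod_cast this.symm)
  · intro ξ hξ ξ' hξ' hne
    rw [Finset.union_comm, ← Finset.insert_eq] at hξ hξ'
    refine Char.classInner_irr_of_ne ?_ ?_ hne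
    · rcases Finset.mem_insert.1 hξ with rfl | h; exacts [hχ, hirr _ h]
    · rcases Finset.mem_insert.1 hξ' with rfl | h; exacts [hχ, hirr _ h]
  · intro x hx y hy
    rw [Finset.mem_singleton.1 hx, Finset.mem_singleton.1 hy, hXX, Char.classInner_irr_self hχ]
  · intro x hx
    rw [Finset.mem_singleton.1 hx]
    exact ⟨(a : ℤ), by rw [hχd, hψd, haz]; push_cast; ring, by rw [hX, add_sub_cancel_right, hβ]⟩
  · obtain ⟨α, hα, hα0⟩ := hnz
    exact ⟨α, Coherence.zspanOn_mono (by simp) hα, hα0⟩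

end Cfsg.Agent.S1530
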