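import Cfsg.Statements.S1532
import Cfsg.Agent.Lib.Coherence.TIKernel

set_option autoImplicit false
open Cfsg

namespace Cfsg.Agent.S1532

/-- Let G be a finite group, p an odd prime and P a Sylow p-subgroup that is non-abelian, whose underlying set is a TI-subset of G, with P properly contained in its set normaliser N and C_G(x) ≤ P for every non-identity x ∈ P. Let Z be a nontrivial subgroup of the centre of P normalised by N. Then the set of irreducible characters χ of N with χ z ≠ χ 1 for some z ∈ Z is coherent for the map induced by induction from N to G. -/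
theorem result {G : Type*} [Group G] [Fintype G] (p : ℕ) [Fact p.Prime] (hp : p ≠ 2) (P : Sylow p G) (hna : ¬ IsMulCommutative (P : Subgroup G)) (hTI : Cfsg.IsTISubset ((P : Subgroup G) : Set G)) (hlt : (P : Subgroup G) < Subgroup.normalizer ((P : Subgroup G) : Set G)) (hC : ∀ k ∈ (P : Subgroup G), k ≠ 1 → Subgroup.centralizer ({k} : Set G) ≤ (P : Subgroup G)) [Fintype ↥(Subgroup.normalizer ((P : Subgroup G) : Set G))] (Z : Subgroup G) (hZ1 : Z ≠ ⊥) (hZP : ∀ z ∈ Z, z ∈ (P : Subgroup G) ∧ ∀ y ∈ (P : Subgroup G), z * y = y * z) (hZn : ∀ x ∈ Subgroup.normalizer ((P : Subgroup G) : Set G), ∀ z ∈ Z, x * z * x⁻¹ ∈ Z) : Cfsg.IsCoherent {χ : ↥(Subgroup.normalizer ((P : Subgroup G) : Set G)) → ℂ | Cfsg.IsIrrCharacter ↥(Subgroup.normalizer ((P : Subgroup G) : Set G)) χ ∧ ∃ z : ↥(Subgroup.normalizer ((P : Subgroup G) : Set G)), (z : G) ∈ Z ∧ χ z ≠ χ 1} {1}ᶜ (fun α => Cfsg.indFun (Subgroup.normalizer ((P : Subgroup G) : Set G)) α) := by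
  classical
  have hF := Coherence.frobK_ti (P : Subgroup G) hC
  have hPN : (P : Subgroup G) ≤ (Subgroup.normalizer ((P : Subgroup G) : Set G)) := Subgroup.le_normalizer
  have eP := Subgroup.subgroupOfEquivOfLe hPN
  set Z' : Subgroup (Subgroup.normalizer ((P : Subgroup G) : Set G)) := Z.subgroupOf (Subgroup.normalizer ((P : Subgroup G) : Set G)) with hZ'
  haveI : Z'.Normal := ⟨fun z hz x => by
    rw [hZ', Subgroup.mem_subgroupOf] at hz ⊢; exact hZn x x.2 z hz⟩
  have hZP' : Z' ≤ (P : Subgroup G).subgroupOf (Subgroup.normalizer ((P : Subgroup G) : Set G)) := fun z hz => by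
    rw [Subgroup.mem_subgroupOf] at hz ⊢; exact (hZP _ hz).1
  have hZne : Z' ≠ ⊥ := by
    intro e
    apply hZ1
    have h1 := congrArg (Subgroup.map (Subgroup.normalizer ((P : Subgroup G) : Set G)).subtype) e
    rwa [hZ', Subgroup.map_subgroupOf_eq_of_le (fun z hz => hPN (hZP z hz).1), Subgroup.map_bot]
      at h1
  have hZc : ∀ z ∈ Z', ∀ k ∈ (P : Subgroup G).subgroupOf (Subgroup.normalizer ((P : Subgroup G) : Set G)), z * k = k * z := fun z hz k hk =>
    Subtype.ext ((hZP _ (Subgroup.mem_subgroupOf.1 hz)).2 _ (Subgroup.mem_subgroupOf.1 hk))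
  have he : Odd ((P : Subgroup G).subgroupOf (Subgroup.normalizer ((P : Subgroup G) : Set G))).index := by
    rcases Nat.even_or_odd ((P : Subgroup G).subgroupOf (Subgroup.normalizer ((P : Subgroup G) : Set G))).index with h | h
    · refine absurd ⟨⟨fun a b => eP.symm.injective ?_⟩⟩ hna
      rw [map_mul, map_mul]
      exact (hF.comm_of_even_index (even_iff_two_dvd.1 h)).1.1 _ _
    · exact h
  obtain ⟨hτ, hτ1⟩ := Coherence.ti_isometry (P : Subgroup G) hTI
  have h := hF.center_part_coherent hp (P.2.of_equiv eP.symm) he Z' hZne hZP' hZc hτ hτ1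
  convert h using 2
  ext χ
  rw [hF.mem_X_iff Z' hZP']
  simp only [Set.mem_ofPred_eq, hZ', Subgroup.mem_subgroupOf]

end Cfsg.Agent.S1532
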