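import Cfsg.Statements.S1533
import Cfsg.Agent.Lib.Coherence.TIKernel

set_option autoImplicit false
open Cfsg

namespace Cfsg.Agent.S1533

/-- Let G be a finite group, p an odd prime, and P a nontrivial Sylow p-subgroup whose underlying set is a TI-subset of G, with P properly contained in its set normaliser N and C_G(x) ≤ P for every non-identity x ∈ P. Let S be the set of irreducible characters χ of N with χ x ≠ χ 1 for some x ∈ P. Then either S has exactly one member, P is elementary abelian and Nat.card P = [N:P] + 1; or (S, N minus 1, induction to G) is coherent. -/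
theorem result {G : Type*} [Group G] [Fintype G] (p : ℕ) [Fact p.Prime] (hp : p ≠ 2) (P : Sylow p G) (hP1 : (P : Subgroup G) ≠ ⊥) (hTI : Cfsg.IsTISubset ((P : Subgroup G) : Set G)) (hlt : (P : Subgroup G) < Subgroup.normalizer ((P : Subgroup G) : Set G)) (hC : ∀ k ∈ (P : Subgroup G), k ≠ 1 → Subgroup.centralizer ({k} : Set G) ≤ (P : Subgroup G)) [Fintype ↥(Subgroup.normalizer ((P : Subgroup G) : Set G))] : (Nat.card {χ : ↥(Subgroup.normalizer ((P : Subgroup G) : Set G)) → ℂ // Cfsg.IsIrrCharacter ↥(Subgroup.normalizer ((P : Subgroup G) : Set G)) χ ∧ ∃ x : ↥(Subgroup.normalizer ((P : Subgroup G) : Set G)), (x : G) ∈ (P : Subgroup G) ∧ χ x ≠ χ 1} = 1 ∧ Cfsg.IsElementaryAbelian p (P : Subgroup G) ∧ Nat.card (P : Subgroup G) = ((P : Subgroup G).subgroupOf (Subgroup.normalizer ((P : Subgroup G) : Set G))).index + 1) ∨ Cfsg.IsCoherent {χ : ↥(Subgroup.normalizer ((P : Subgroup G) : Set G)) → ℂ | Cfsg.IsIrrCharacter ↥(Subgroup.normalizer ((P : Subgroup G) : Set G)) χ ∧ ∃ x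 : ↥(Subgroup.normalizer ((P : Subgroup G) : Set G)), (x : G) ∈ (P : Subgroup G) ∧ χ x ≠ χ 1} {1}ᶜ (fun α => Cfsg.indFun (Subgroup.normalizer ((P : Subgroup G) : Set G)) α) := by
  have hF := Coherence.frobK_ti (P : Subgroup G) hC
  have hS := Coherence.ti_set_eq (P : Subgroup G) hF
  rcases Coherence.ti_trichotomy (P : Subgroup G) hP1 hTI hlt hF with
    ⟨h1, hab, hc, q, hq, hel⟩ | ⟨h2, -⟩ | h
  · haveI := Fact.mk hq
    obtain ⟨a, ha, ha1⟩ := (Subgroup.bot_or_exists_ne_one (P : Subgroup G)).resolve_left hP1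
    obtain ⟨i, hi⟩ := IsPGroup.iff_orderOf.1 P.2 ⟨a, ha⟩
    rw [← Subgroup.orderOf_coe, orderOf_eq_prime (hel.2 a ha) ha1] at hi
    have hqp : q = p := by
      rcases i with _ | i
      · exact absurd (hi.trans (pow_zero p)) hq.ne_one
      · exact ((Nat.prime_dvd_prime_iff_eq (Fact.out : p.Prime) hq).1
          (hi ▸ dvd_pow_self p i.succ_ne_zero)).symm
    refine Or.inl ⟨?_, hqp ▸ hel, hc⟩
    rw [← h1]
    exact congrArg (fun s : Set _ => Nat.card ↥s) hS
  · exfalso
    obtain ⟨m, hm⟩ := IsPGroup.iff_card.1 P.2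
    rcases m with _ | m
    · exact hP1 (Subgroup.eq_bot_of_card_eq _ (by simpa using hm))
    · refine hp ((Nat.prime_dvd_prime_iff_eq (Fact.out : p.Prime) Nat.prime_two).1
        ((Fact.out : p.Prime).dvd_of_dvd_pow (n := (Nat.card G).factorization 2) ?_))
      rw [← h2, hm]; exact dvd_pow_self p m.succ_ne_zero
  · exact Or.inr (hS ▸ h)

end Cfsg.Agent.S1533
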