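import Cfsg.Statements.S1541
import Cfsg.Agent.Lib.Peterfalvi.Sec12Partition
import Cfsg.Agent.Lib.OddOrder14.Inputs16

set_option autoImplicit false
open Cfsg

namespace Cfsg.Agent.S1541

/-- Let G be a minimal simple group of odd order. Then some maximal subgroup of G is not of Type I. -/
theorem result {G : Type*} [Group G] [Finite G] (hG : Cfsg.IsMinSimpleOddOrder G) : ∃ M : Subgroup G, IsCoatom M ∧ ¬ Cfsg.IsOfTypeI M := by
  have := Fintype.ofFinite G
  obtain ⟨M, hM, hκ⟩ := Peterfalvi.Sec12.exists_kappa_nonempty hG (OddOrder14.sec16 hG)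
    (OddOrder14.cover hG)
  refine ⟨M, hM, fun hI => ?_⟩
  obtain ⟨K, U, hKU⟩ := OddMax.exists_decomp (OddOrder14.sec16 hG).toSec15Facts hM
  have hK : K = ⊥ := OddMax.K_eq_bot_of_typeI hG (OddOrder14.sec16 hG) hM hKU hI
  rw [(OddMax.kappa_empty_iff hKU).2 hK] at hκ
  exact Set.not_nonempty_empty hκ

end Cfsg.Agent.S1541
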