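import Cfsg.Statements.S1553
import Cfsg.Agent.Lib.Golay.OctadStab

set_option autoImplicit false
open scoped Pointwise
open Cfsg

namespace Cfsg.Agent.S1553

/-- The stabiliser of an octad in the group of the length-24 code induces on the octad exactly its alternating group. -/
theorem result (o : Finset Cfsg.GolayPt) (ho : o ∈ Cfsg.octads) : {e : Equiv.Perm ↥o | ∃ g : Equiv.Perm Cfsg.GolayPt, g ∈ Cfsg.M24 ∧ ∃ h : (∀ x, g x ∈ o ↔ x ∈ o), g.subtypePerm h = e} = (alternatingGroup ↥o : Set (Equiv.Perm ↥o)) := by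
  ext e
  rw [SetLike.mem_coe, Set.mem_ofPred_eq]
  constructor
  · rintro ⟨g, hg, h, rfl⟩
    rw [← Golay.range_octadRes ho]
    have hgo : g • o = o := by
      refine Finset.eq_of_subset_of_card_le (fun x hx => ?_) (by rw [Finset.card_smul_finset])
      obtain ⟨y, hy, rfl⟩ := Finset.mem_smul_finset.mp hx
      exact (h y).mpr hy
    exact ⟨⟨g, hg, hgo⟩, rfl⟩
  · intro he
    obtain ⟨g, rfl⟩ := Golay.octadRes_surjective ho he
    exact ⟨g, g.2.1, Golay.mem_iff_of_mem_octadStab g.2, rfl⟩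

end Cfsg.Agent.S1553
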