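import Cfsg.Statements.S1554
import Cfsg.Agent.Lib.Golay.OctadStab

set_option autoImplicit false
open scoped Pointwise
open Cfsg

namespace Cfsg.Agent.S1554

/-- An octad stabiliser is a split extension: the joint stabiliser of the octad and a point outside it is a complement to the pointwise stabiliser of the octad, and is isomorphic to the alternating group of degree 8. -/
theorem result (o : Finset Cfsg.GolayPt) (ho : o ∈ Cfsg.octads) (p : Cfsg.GolayPt) (hp : p ∉ o) : (Cfsg.M24 ⊓ fixingSubgroup (Equiv.Perm Cfsg.GolayPt) (o : Set Cfsg.GolayPt)) ⊓ (Cfsg.M24 ⊓ MulAction.stabilizer (Equiv.Perm Cfsg.GolayPt) o ⊓ MulAction.stabilizer (Equiv.Perm Cfsg.GolayPt) p) = ⊥ ∧ (Cfsg.M24 ⊓ fixingSubgroup (Equiv.Perm Cfsg.GolayPt) (o : Set Cfsg.GolayPt)) ⊔ (Cfsg.M24 ⊓ MulAction.stabilizer (Equiv.Perm Cfsg.GolayPt) o ⊓ MulAction.stabilizer (Equiv.Perm Cfsg.GolayPt) p) = (Cfsg.M24 ⊓ MulAction.stabilizer (Equiv.Perm Cfsg.GolayPt) o) ∧ Nonempty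 (↥(Cfsg.M24 ⊓ MulAction.stabilizer (Equiv.Perm Cfsg.GolayPt) o ⊓ MulAction.stabilizer (Equiv.Perm Cfsg.GolayPt) p) ≃* alternatingGroup (Fin 8)) := by
  have ho8 : Fintype.card ↥o = 8 := by rw [Fintype.card_coe]; exact ho.2
  refine ⟨?_, ?_, ⟨(Golay.octadPointEquiv ho hp).trans
    (Equiv.altCongrHom (Fintype.equivFinOfCardEq ho8))⟩⟩
  · rw [Subgroup.eq_bot_iff_forall]
    rintro g ⟨hg, -, hgp⟩
    have hg' := Golay.mem_octadFix.mp hg
    exact Golay.eq_one_of_octad_point ho hg'.1 hg'.2 hp hgp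
  · refine le_antisymm (sup_le (fun g hg => ?_) inf_le_left) fun g hg => ?_
    · rw [Golay.mem_octadFix] at hg
      refine ⟨hg.1, ?_⟩
      show g • o = o
      rw [Golay.smul_eq_image, Finset.image_congr (f := g) (g := id) fun q hq => hg.2 q hq,
        Finset.image_id]
    · have he : Golay.octadRes o ⟨g, hg⟩ ∈ alternatingGroup ↥o :=
        Golay.range_octadRes ho ▸ ⟨⟨g, hg⟩, rfl⟩
      obtain ⟨h, hh, hhe⟩ := Golay.exists_extend_octad_alt ho hp he
      rw [show g = (g * h⁻¹) * h from by group]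
      refine Subgroup.mul_mem_sup (Golay.mem_octadFix.mpr
        ⟨mul_mem hg.1 (inv_mem hh.1.1), fun x hx => ?_⟩) hh
      have hy : h⁻¹ x ∈ o := (Golay.mem_iff_of_mem_octadStab (inv_mem hh.1) x).mpr hx
      have h2 := hhe ⟨h⁻¹ x, hy⟩
      rw [Golay.octadRes_apply] at h2
      simp only [Equiv.Perm.coe_inv, Equiv.apply_symm_apply] at h2
      rw [Equiv.Perm.mul_apply]
      exact h2.symm

end Cfsg.Agent.S1554
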