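import Cfsg.Statements.S1555
import Cfsg.Agent.Lib.Golay.Steiner
import Cfsg.Agent.Lib.Golay.Code

set_option autoImplicit false
open scoped Pointwise
open Cfsg

namespace Cfsg.Agent.S1555

/-- Bottom row of the Leech triangle: an octad is met in a prescribed pair of its points by exactly 16 octads and in a prescribed 4-subset by exactly 4 octads. -/
theorem result (o : Finset Cfsg.GolayPt) (ho : o ∈ Cfsg.octads) (s : Finset Cfsg.GolayPt) (hs : s ⊆ o) : (s.card = 2 → {o' : Finset Cfsg.GolayPt | o' ∈ Cfsg.octads ∧ o ∩ o' = s}.ncard = 16) ∧ (s.card = 4 → {o' : Finset Cfsg.GolayPt | o' ∈ Cfsg.octads ∧ o ∩ o' = s}.ncard = 4) := by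
  have hB := Golay.octads_steiner
  have ho8 : o.card = 8 := ho.2
  have hα : Fintype.card Cfsg.GolayPt = 24 := rfl
  have hbig : ∀ u, u ⊆ o → 4 < u.card →
      Golay.Design.exactCnt Cfsg.octads o u = if u.card = 8 then 1 else 0 := by
    intro u hu h4
    split_ifs with h
    · rw [Finset.eq_of_subset_of_card_le hu (by omega)]
      exact Golay.Design.exactCnt_self hB (by norm_num) ho
    · have := Finset.card_le_card hu
      exact Golay.Design.exactCnt_eq_zero hB ho (by omega) (by omega)
  have h4 : ∀ u, u ⊆ o → u.card = 4 → Golay.Design.exactCnt Cfsg.octads o u = 4 := by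
    intro u hu huc
    have h := Golay.Design.exactCnt_rec hB (by norm_num) ho hu (by omega) (lam := 5)
      (by rw [hα, huc]; decide +kernel) (fun n => if n = 8 then 1 else 0)
      (fun w hw hlt => hbig w hw (by omega))
    rw [huc] at h
    norm_num [Finset.sum_range_succ, Nat.choose] at h
    omega
  have h3 : ∀ u, u ⊆ o → u.card = 3 → Golay.Design.exactCnt Cfsg.octads o u = 0 := by
    intro u hu huc
    rw [Golay.Design.exactCnt, Finset.card_eq_zero, Finset.filter_eq_empty_iff]
    intro c hc he
    rw [SteinerCount.mem_blocks] at hc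
    obtain ⟨m, hm⟩ := Golay.inter_even ho.1 hc.1
    rw [he, huc] at hm
    omega
  have h2 : ∀ u, u ⊆ o → u.card = 2 → Golay.Design.exactCnt Cfsg.octads o u = 16 := by
    intro u hu huc
    have h := Golay.Design.exactCnt_rec hB (by norm_num) ho hu (by omega) (lam := 77)
      (by rw [hα, huc]; decide +kernel) (fun n => if n = 8 then 1 else if n = 4 then 4 else 0)
      fun w hw hlt => by
        rcases (show w.card = 3 ∨ w.card = 4 ∨ 4 < w.card by omega) with h' | h' | h'
        · simp [h3 w hw h', h']
        · simp [h4 w hw h', h']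
        · rw [hbig w hw h']; simp only [show w.card ≠ 4 by omega, if_false]
    rw [huc] at h
    norm_num [Finset.sum_range_succ, Nat.choose] at h
    omega
  simp only [← Golay.Design.exactCnt_eq_ncard]
  exact ⟨h2 s hs, h4 s hs⟩

end Cfsg.Agent.S1555
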