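import Cfsg.Statements.S1560
import Cfsg.Agent.Lib.Golay.Dodecad

set_option autoImplicit false
open scoped Pointwise
open Cfsg

namespace Cfsg.Agent.S1560

/-- Intersection numbers of dodecads: a dodecad meets every other dodecad in 0, 4, 6 or 8 points, meeting 495 of them in 4 points, 1584 in 6 points and 495 in 8 points. -/
theorem result (d : Finset Cfsg.GolayPt) (hd : d ∈ Cfsg.dodecads) : (∀ d' ∈ Cfsg.dodecads, d' ≠ d → (d ∩ d').card = 0 ∨ (d ∩ d').card = 4 ∨ (d ∩ d').card = 6 ∨ (d ∩ d').card = 8) ∧ {d' : Finset Cfsg.GolayPt | d' ∈ Cfsg.dodecads ∧ (d ∩ d').card = 4}.ncard = 495 ∧ {d' : Finset Cfsg.GolayPt | d' ∈ Cfsg.dodecads ∧ (d ∩ d').card = 6}.ncard = 1584 ∧ {d' : Finset Cfsg.GolayPt | d' ∈ Cfsg.dodecads ∧ (d ∩ d').card = 8}.ncard = 495 := by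
  obtain ⟨g, hg, rfl⟩ := Golay.exists_map_dodecad Golay.dodecad0_mem hd
  refine ⟨fun d' hd' hne => ?_, ?_, ?_, ?_⟩
  · have h := Golay.card_mem_weights (Golay.symmDiff_mem hd.1 hd'.1)
    have h2 := Golay.card_symmDiff_add (g • Golay.pts Golay.dodecad0) d'
    have h1 : (g • Golay.pts Golay.dodecad0).card = 12 := hd.2
    have h1' : d'.card = 12 := hd'.2
    have h0 : (symmDiff (g • Golay.pts Golay.dodecad0) d').card ≠ 0 := fun h0 =>
      hne (symmDiff_eq_bot.mp (Finset.card_eq_zero.mp h0)).symm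
    omega
  all_goals
    simp only [Finset.inter_comm (g • Golay.pts Golay.dodecad0)]
    unfold Cfsg.dodecads
    rw [Golay.ncard_inter_smul hg, Golay.ncard_wordsOfWeight_inter]
    decide +kernel

end Cfsg.Agent.S1560
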