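import Cfsg.Statements.S1568
import Cfsg.Agent.Lib.Leech.Count

set_option autoImplicit false
open Cfsg

namespace Cfsg.Agent.S1568

open Leech

theorem parity_all {x : GolayPt → ℤ} (hx : x ∈ leechLattice) (i j : GolayPt) :
    (2 : ℤ) ∣ x i - x j := by
  obtain ⟨m, a, h1, -, -⟩ := mem_iff.1 hx
  rw [h1 i, h1 j]
  exact ⟨a i - a j, by ring⟩

theorem sum_insert_le {x : GolayPt → ℤ} (hodd : ∀ l, x l ≠ 0) (S : Finset GolayPt) :
    ∑ l ∈ S, x l ^ 2 + (24 - S.card : ℕ) ≤ sqNorm x := by
  rw [sqNorm, ← Finset.sum_add_sum_compl S]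
  refine add_le_add le_rfl ?_
  have h : Sᶜ.card = 24 - S.card := by rw [Finset.card_compl, card_pt]
  calc ((24 - S.card : ℕ) : ℤ) = ∑ _l ∈ Sᶜ, (1 : ℤ) := by
        rw [Finset.sum_const, h, nsmul_eq_mul, mul_one]
    _ ≤ _ := Finset.sum_le_sum fun l _ => by have := sq_pos_of_ne_zero (hodd l); omega

theorem small_of_sq {v : ℤ} {n : ℕ} (h : v ^ 2 < ((n + 1 : ℕ) : ℤ) ^ 2) : -(n : ℤ) ≤ v ∧ v ≤ n := by
  have := abs_lt.1 (abs_lt_of_sq_lt_sq h (by positivity))
  push_cast at this
  omega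

theorem set_two : {x : GolayPt → ℤ | x ∈ leechLattice ∧ sqNorm x = 48 ∧
    ∀ i, x i = 0 ∨ x i = 2 ∨ x i = -2} = shellSet 48 [0, 2, -2] := by
  ext x; simp [shellSet]

theorem set_three : {x : GolayPt → ℤ | x ∈ leechLattice ∧ sqNorm x = 48 ∧
    ∃ i j k, i ≠ j ∧ j ≠ k ∧ i ≠ k ∧ |x i| = 3 ∧ |x j| = 3 ∧ |x k| = 3}
      = shellSet 48 [1, -1, 3, -3] := by
  ext x
  constructor
  · rintro ⟨hx, hn, i, j, k, hij, hjk, hik, hi, hj, hk⟩
    refine ⟨hx, hn, fun l => ?_⟩
    have hi2 : x i ^ 2 = 9 := by rw [← sq_abs, hi]; norm_num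
    have hj2 : x j ^ 2 = 9 := by rw [← sq_abs, hj]; norm_num
    have hk2 : x k ^ 2 = 9 := by rw [← sq_abs, hk]; norm_num
    have hne : ∀ l, x l ≠ 0 := by
      intro l h
      have := parity_all hx i l
      rcases (abs_eq (by norm_num : (0 : ℤ) ≤ 3)).1 hi with e | e <;> omega
    simp only [List.mem_cons, List.not_mem_nil, or_false]
    by_cases hli : l = i
    · subst hli; rcases (abs_eq (by norm_num : (0 : ℤ) ≤ 3)).1 hi with e | e <;> omega
    by_cases hlj : l = j
    · subst hlj; rcases (abs_eq (by norm_num : (0 : ℤ) ≤ 3)).1 hj with e | e <;> omega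
    by_cases hlk : l = k
    · subst hlk; rcases (abs_eq (by norm_num : (0 : ℤ) ≤ 3)).1 hk with e | e <;> omega
    have h := sum_insert_le hne {l, i, j, k}
    rw [hn, Finset.sum_insert (by simp [hli, hlj, hlk]), Finset.sum_insert (by simp [hij, hik]),
      Finset.sum_insert (by simp [hjk]), Finset.sum_singleton, hi2, hj2, hk2,
      Finset.card_insert_of_notMem (by simp [hli, hlj, hlk]),
      Finset.card_insert_of_notMem (by simp [hij, hik]), Finset.card_pair hjk] at h
    have := small_of_sq (v := x l) (n := 1) (by push_cast at h ⊢; omega)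
    have := hne l
    omega
  · rintro ⟨hx, hn, hP⟩
    refine ⟨hx, hn, ?_⟩
    simp only [List.mem_cons, List.not_mem_nil, or_false] at hP
    set S := Finset.univ.filter fun l => |x l| = 3
    have hs : ∀ l, x l ^ 2 = 1 + if |x l| = 3 then 8 else 0 := by
      intro l; rcases hP l with e | e | e | e <;> simp [e]
    have h : sqNorm x = 24 + 8 * (S.card : ℤ) := by
      rw [sqNorm, Finset.sum_congr rfl fun l _ => hs l, Finset.sum_add_distrib, ← Finset.sum_filter]
      simp [S, mul_comm]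
    obtain ⟨i, j, k, hij, hik, hjk, hS⟩ := Finset.card_eq_three.1 (show S.card = 3 by omega)
    have hm : ∀ l ∈ ({i, j, k} : Finset GolayPt), |x l| = 3 := by
      intro l hl; rw [← hS] at hl; exact (Finset.mem_filter.1 hl).2
    exact ⟨i, j, k, hij, hjk, hik, hm i (by simp), hm j (by simp), hm k (by simp)⟩

theorem set_four : {x : GolayPt → ℤ | x ∈ leechLattice ∧ sqNorm x = 48 ∧ ∃ i, |x i| = 4}
    = shellSet 48 [0, 2, -2, 4, -4] \ shellSet 48 [0, 2, -2] := by
  ext x
  constructor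
  · rintro ⟨hx, hn, i, hi⟩
    have hi2 : x i ^ 2 = 16 := by rw [← sq_abs, hi]; norm_num
    refine ⟨⟨hx, hn, fun l => ?_⟩, fun h => ?_⟩
    · simp only [List.mem_cons, List.not_mem_nil, or_false]
      have hev := parity_all hx l i
      rcases (abs_eq (by norm_num : (0 : ℤ) ≤ 4)).1 hi with e | e
      all_goals
        by_cases hli : l = i
        · subst hli; omega
        have h : ∑ m ∈ {l, i}, x m ^ 2 ≤ sqNorm x :=
          Finset.sum_le_sum_of_subset_of_nonneg (Finset.subset_univ _) fun m _ _ => sq_nonneg _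
        rw [Finset.sum_pair hli, hn, hi2] at h
        have := small_of_sq (v := x l) (n := 5) (by push_cast at h ⊢; omega)
        omega
    · have := h.2.2 i
      simp only [List.mem_cons, List.not_mem_nil, or_false] at this
      rcases this with e | e | e <;> simp [e] at hi
  · rintro ⟨⟨hx, hn, hP⟩, hnot⟩
    refine ⟨hx, hn, ?_⟩
    by_contra hne
    refine hnot ⟨hx, hn, fun l => ?_⟩
    have := hP l
    simp only [List.mem_cons, List.not_mem_nil, or_false] at this ⊢
    rcases this with e | e | e | e | e <;> first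
      | (simp [e]; done)
      | exact absurd ⟨l, by simp [e]⟩ hne

theorem set_five : {x : GolayPt → ℤ | x ∈ leechLattice ∧ sqNorm x = 48 ∧ ∃ i, |x i| = 5}
    = shellSet 48 [1, -1, 5, -5] := by
  ext x
  constructor
  · rintro ⟨hx, hn, i, hi⟩
    refine ⟨hx, hn, fun l => ?_⟩
    have hi2 : x i ^ 2 = 25 := by rw [← sq_abs, hi]; norm_num
    have hne : ∀ l, x l ≠ 0 := by
      intro l h
      have := parity_all hx i l
      rcases (abs_eq (by norm_num : (0 : ℤ) ≤ 5)).1 hi with e | e <;> omega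
    simp only [List.mem_cons, List.not_mem_nil, or_false]
    by_cases hli : l = i
    · subst hli; rcases (abs_eq (by norm_num : (0 : ℤ) ≤ 5)).1 hi with e | e <;> omega
    have h := sum_insert_le hne {l, i}
    rw [hn, Finset.sum_pair hli, hi2, Finset.card_pair hli] at h
    have := small_of_sq (v := x l) (n := 1) (by push_cast at h ⊢; omega)
    have := hne l
    omega
  · rintro ⟨hx, hn, hP⟩
    refine ⟨hx, hn, ?_⟩
    simp only [List.mem_cons, List.not_mem_nil, or_false] at hP
    by_contra hne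
    push Not at hne
    have hs : ∀ l, x l ^ 2 = 1 := by
      intro l
      rcases hP l with e | e | e | e <;> first
        | (simp [e]; done)
        | exact absurd (by simp [e]) (hne l)
    rw [sqNorm, Finset.sum_congr rfl fun l _ => hs l] at hn
    simp at hn

theorem le_of_six : (48 : ℕ) ≤ 64 := by norm_num

/-- Shape census of the lattice vectors of sum of squares 48 (customary norm 6): the four families (2^12, 0^12), (±3^3, ±1^21), (±4, ±2^8, 0^15) and (±5, ±1^23) have 5275648, 8290304, 3108864 and 98304 members. -/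
theorem result : {x : Cfsg.GolayPt → ℤ | x ∈ Cfsg.leechLattice ∧ Cfsg.sqNorm x = 48 ∧ ∀ i, x i = 0 ∨ x i = 2 ∨ x i = -2}.ncard = 5275648 ∧ {x : Cfsg.GolayPt → ℤ | x ∈ Cfsg.leechLattice ∧ Cfsg.sqNorm x = 48 ∧ ∃ i j k, i ≠ j ∧ j ≠ k ∧ i ≠ k ∧ |x i| = 3 ∧ |x j| = 3 ∧ |x k| = 3}.ncard = 8290304 ∧ {x : Cfsg.GolayPt → ℤ | x ∈ Cfsg.leechLattice ∧ Cfsg.sqNorm x = 48 ∧ ∃ i, |x i| = 4}.ncard = 3108864 ∧ {x : Cfsg.GolayPt → ℤ | x ∈ Cfsg.leechLattice ∧ Cfsg.sqNorm x = 48 ∧ ∃ i, |x i| = 5}.ncard = 98304 := by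
  have hN : 8 ∣ (48 : ℕ) := by norm_num
  refine ⟨?_, ?_, ?_, ?_⟩
  · rw [set_two, ncard_shellSet hN (by norm_num) le_of_six]
    decide +kernel
  · rw [set_three, ncard_shellSet hN (by norm_num) le_of_six]
    decide +kernel
  · have hsub : shellSet 48 [0, 2, -2] ⊆ shellSet 48 [0, 2, -2, 4, -4] := fun x hx =>
      ⟨hx.1, hx.2.1, fun i => by
        have := hx.2.2 i
        simp only [List.mem_cons, List.not_mem_nil, or_false] at this ⊢
        omega⟩
    rw [set_four, Set.ncard_sdiff hsub (finite_shellSet hN (by norm_num) le_of_six _),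
      ncard_shellSet hN (by norm_num) le_of_six, ncard_shellSet hN (by norm_num) le_of_six]
    decide +kernel
  · rw [set_five, ncard_shellSet hN (by norm_num) le_of_six]
    decide +kernel

end Cfsg.Agent.S1568
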