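import Cfsg.Statements.S1577
import Cfsg.Agent.Lib.Leech.PSU62.Iso

set_option autoImplicit false
open Cfsg

namespace Cfsg.Agent.S1577

/-- The joint stabiliser of two minimal vectors of customary inner product −2 is isomorphic to PSU(6, 2). -/
theorem result (v w : ↥Cfsg.leechLattice) (hv : Cfsg.sqNorm (v : Cfsg.GolayPt → ℤ) = 32) (hw : Cfsg.sqNorm (w : Cfsg.GolayPt → ℤ) = 32) (hd : Cfsg.dotInt (v : Cfsg.GolayPt → ℤ) (w : Cfsg.GolayPt → ℤ) = -16) (F : Type) [Field F] [Fintype F] (hF : Fintype.card F = 4) : Nonempty (↥(MulAction.stabilizer ↥Cfsg.Co0 v ⊓ MulAction.stabilizer ↥Cfsg.Co0 w) ≃* Cfsg.PSU 6 F 2) := by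
  obtain ⟨k, k1, k2⟩ := Leech.exists_normal_two hv hw hd
  have hmap : (MulAction.stabilizer Co0 v ⊓ MulAction.stabilizer Co0 w).map
      (MulAut.conj k).toMonoidHom = Leech.co2Group ⊓ MulAction.stabilizer Co0 Leech.baseW := by
    rw [Subgroup.map_inf _ _ _ (MulAut.conj k).injective,
      ← MulAction.stabilizer_smul_eq_stabilizer_map_conj,
      ← MulAction.stabilizer_smul_eq_stabilizer_map_conj, k1, k2]
    rfl
  obtain ⟨e⟩ := Leech.nonempty_mulEquiv_psu62 hF
  exact ⟨((Subgroup.equivMapOfInjective _ _ (MulAut.conj k).injective).trans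
    (MulEquiv.subgroupCongr hmap)).trans e⟩

end Cfsg.Agent.S1577
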