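import Cfsg.Statements.S1578
import Cfsg.Agent.Lib.Leech.Census552

set_option autoImplicit false
open Cfsg

namespace Cfsg.Agent.S1578

open Leech

theorem count (u : leechLattice) (hu : sqNorm (u : GolayPt → ℤ) = 48) :
    {v : leechLattice | sqNorm (v : GolayPt → ℤ) = 32 ∧
      sqNorm ((u - v) : GolayPt → ℤ) = 32}.ncard = 552 := by
  obtain ⟨g, hg⟩ := exists_to_baseF golayUnique hu
  rw [ncard_transfer g (Q := fun x => sqNorm (x : GolayPt → ℤ) = 32 ∧
    dotInt (x : GolayPt → ℤ) (baseF : GolayPt → ℤ) = 24) (fun x => by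
      rw [sqNorm_smul, dotInt_smul_of_eq hg]
      exact and_congr_right fun hx => sqNorm_sub_eq_iff hu hx)]
  rw [ncard_subtype (fun x => sqNorm x = 32 ∧ dotInt x (baseF : GolayPt → ℤ) = 24)]
  have h := ncard552 (fun _ => True)
  simp only [and_true] at h
  rw [show {x | x ∈ set552} = set552 from rfl] at h
  rw [show {x | x ∈ leechLattice ∧ sqNorm x = 32 ∧ dotInt x (baseF : GolayPt → ℤ) = 24} = set552
    from rfl, h, ncard_octads_none, Set.ncard_eq_toFinset_card']
  rfl

/-- A lattice vector of customary norm 6 is the sum of an unordered pair of minimal vectors in exactly 276 ways (552 ordered summands). -/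
theorem result (u : ↥Cfsg.leechLattice) (hu : Cfsg.sqNorm (u : Cfsg.GolayPt → ℤ) = 48) : {v : ↥Cfsg.leechLattice | Cfsg.sqNorm (v : Cfsg.GolayPt → ℤ) = 32 ∧ Cfsg.sqNorm ((u - v) : Cfsg.GolayPt → ℤ) = 32}.ncard = 552 := by
  exact Cfsg.Agent.S1578.count u hu

end Cfsg.Agent.S1578
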