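import Cfsg.Statements.S1580
import Cfsg.Agent.Lib.Leech.MclConfig

set_option autoImplicit false
open Cfsg

namespace Cfsg.Agent.S1580

/-- The McLaughlin configuration: for u of customary norm 6 and v minimal with u − v minimal, there are 275 further such summands x of customary inner product 2 with v, permuted transitively by the stabiliser of u and v. -/
theorem result (u v : ↥Cfsg.leechLattice) (hu : Cfsg.sqNorm (u : Cfsg.GolayPt → ℤ) = 48) (hv : Cfsg.sqNorm (v : Cfsg.GolayPt → ℤ) = 32 ∧ Cfsg.sqNorm ((u - v) : Cfsg.GolayPt → ℤ) = 32) : {x : ↥Cfsg.leechLattice | Cfsg.sqNorm (x : Cfsg.GolayPt → ℤ) = 32 ∧ Cfsg.sqNorm ((u - x) : Cfsg.GolayPt → ℤ) = 32 ∧ Cfsg.dotInt (v : Cfsg.GolayPt → ℤ) (x : Cfsg.GolayPt → ℤ) = 16}.ncard = 275 ∧ ∀ x ∈ {x : ↥Cfsg.leechLattice | Cfsg.sqNorm (x : Cfsg.GolayPt → ℤ) = 32 ∧ Cfsg.sqNorm ((u - x) : Cfsg.GolayPt → ℤ) = 32 ∧ Cfsg.dotInt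 (v : Cfsg.GolayPt → ℤ) (x : Cfsg.GolayPt → ℤ) = 16}, ∀ x' ∈ {x : ↥Cfsg.leechLattice | Cfsg.sqNorm (x : Cfsg.GolayPt → ℤ) = 32 ∧ Cfsg.sqNorm ((u - x) : Cfsg.GolayPt → ℤ) = 32 ∧ Cfsg.dotInt (v : Cfsg.GolayPt → ℤ) (x : Cfsg.GolayPt → ℤ) = 16}, ∃ g : ↥Cfsg.Co0, g • u = u ∧ g • v = v ∧ g • x = x' := by
  obtain ⟨hv1, hv2⟩ := hv
  have huv := (Leech.sqNorm_sub_eq_iff hu hv1).1 hv2
  rw [Leech.dotInt_comm] at huv
  obtain ⟨g, g1, g2⟩ := Leech.exists_normal_six hu hv1 huv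
  have hP : ∀ (g : Co0), g • u = Leech.baseF → g • v = Leech.baseU → ∀ x : leechLattice,
      (sqNorm (x : GolayPt → ℤ) = 32 ∧ sqNorm ((u - x) : GolayPt → ℤ) = 32 ∧
        dotInt (v : GolayPt → ℤ) (x : GolayPt → ℤ) = 16) ↔ g • x ∈ Leech.mclBase := by
    intro g g1 g2 x
    show _ ↔ sqNorm _ = 32 ∧ _ ∧ _
    rw [Leech.sqNorm_smul, Leech.dotInt_smul_of_eq g1, Leech.dotInt_smul_of_eq g2,
      Leech.dotInt_comm (v : GolayPt → ℤ)]
    exact and_congr_right fun hx => and_congr_left fun _ => Leech.sqNorm_sub_eq_iff hu hx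
  refine ⟨?_, fun x hx x' hx' => ?_⟩
  · exact (Leech.ncard_transfer g (Q := fun x => x ∈ Leech.mclBase) (hP g g1 g2)).trans
      Leech.ncard_mclBase
  · have key : ∀ x : leechLattice, sqNorm (x : GolayPt → ℤ) = 32 ∧
        sqNorm ((u - x) : GolayPt → ℤ) = 32 ∧ dotInt (v : GolayPt → ℤ) (x : GolayPt → ℤ) = 16 →
        ∃ k : Co0, k • u = Leech.baseF ∧ k • v = Leech.baseU ∧ k • x = Leech.baseX := by
      intro x ⟨a, b, c⟩
      exact Leech.exists_normal_mcl hu hv1 a huv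
        (by rw [Leech.dotInt_comm]; exact (Leech.sqNorm_sub_eq_iff hu a).1 b) c
    obtain ⟨k, k1, k2, k3⟩ := key x hx
    obtain ⟨l, l1, l2, l3⟩ := key x' hx'
    exact ⟨l⁻¹ * k, by rw [mul_smul, k1, inv_smul_eq_iff, l1],
      by rw [mul_smul, k2, inv_smul_eq_iff, l2], by rw [mul_smul, k3, inv_smul_eq_iff, l3]⟩

end Cfsg.Agent.S1580
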