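import Cfsg.Statements.S1581
import Cfsg.Agent.Lib.Leech.MclConfig

set_option autoImplicit false
open Cfsg

namespace Cfsg.Agent.S1581

/-- The McLaughlin group acts with rank 3 and subdegrees 1, 112, 162 on its 275 points: the point stabiliser has two orbits on the remaining points, distinguished by customary inner product 1 or 2 with the fixed point. -/
theorem result (u v x : ↥Cfsg.leechLattice) (hu : Cfsg.sqNorm (u : Cfsg.GolayPt → ℤ) = 48) (hv : Cfsg.sqNorm (v : Cfsg.GolayPt → ℤ) = 32 ∧ Cfsg.sqNorm ((u - v) : Cfsg.GolayPt → ℤ) = 32) (hx : x ∈ {x : ↥Cfsg.leechLattice | Cfsg.sqNorm (x : Cfsg.GolayPt → ℤ) = 32 ∧ Cfsg.sqNorm ((u - x) : Cfsg.GolayPt → ℤ) = 32 ∧ Cfsg.dotInt (v : Cfsg.GolayPt → ℤ) (x : Cfsg.GolayPt → ℤ) = 16}) : {y : ↥Cfsg.leechLattice | y ∈ {x : ↥Cfsg.leechLattice | Cfsg.sqNorm (x : Cfsg.GolayPt → ℤ) = 32 ∧ Cfsg.sqNorm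 ((u - x) : Cfsg.GolayPt → ℤ) = 32 ∧ Cfsg.dotInt (v : Cfsg.GolayPt → ℤ) (x : Cfsg.GolayPt → ℤ) = 16} ∧ Cfsg.dotInt (x : Cfsg.GolayPt → ℤ) (y : Cfsg.GolayPt → ℤ) = 8}.ncard = 112 ∧ {y : ↥Cfsg.leechLattice | y ∈ {x : ↥Cfsg.leechLattice | Cfsg.sqNorm (x : Cfsg.GolayPt → ℤ) = 32 ∧ Cfsg.sqNorm ((u - x) : Cfsg.GolayPt → ℤ) = 32 ∧ Cfsg.dotInt (v : Cfsg.GolayPt → ℤ) (x : Cfsg.GolayPt → ℤ) = 16} ∧ y ≠ x ∧ Cfsg.dotInt (x : Cfsg.GolayPt → ℤ) (y : Cfsg.GolayPt → ℤ) = 16}.ncard = 162 ∧ ∀ y ∈ {x : ↥Cfsg.leechLattice | Cfsg.sqNorm (x : Cfsg.GolayPt → ℤ) = 32 ∧ Cfsg.sqNorm ((u - x) : Cfsg.GolayPt → ℤ) = 32 ∧ Cfsg.dotInt (v : Cfsg.GolayPt → ℤ) (x : Cfsg.GolayPt → ℤ) = 16}, ∀ y' ∈ {x : ↥Cfsg.leechLattice | Cfsg.sqNorm (x : Cfsg.GolayPt → ℤ) = 32 ∧ Cfsg.sqNorm ((u - x) : Cfsg.GolayPt → ℤ) = 32 ∧ Cfsg.dotInt (v : Cfsg.GolayPt → ℤ) (x : Cfsg.GolayPt → ℤ) =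 16}, y ≠ x → y' ≠ x → Cfsg.dotInt (x : Cfsg.GolayPt → ℤ) (y : Cfsg.GolayPt → ℤ) = Cfsg.dotInt (x : Cfsg.GolayPt → ℤ) (y' : Cfsg.GolayPt → ℤ) → ∃ g : ↥Cfsg.Co0, g • u = u ∧ g • v = v ∧ g • x = x ∧ g • y = y' := by
  obtain ⟨hv1, hv2⟩ := hv
  have huv := (Leech.sqNorm_sub_eq_iff hu hv1).1 hv2
  rw [Leech.dotInt_comm] at huv
  obtain ⟨a, b, c⟩ := hx
  obtain ⟨g, g1, g2, g3⟩ := Leech.exists_normal_mcl hu hv1 a huv
    (by rw [Leech.dotInt_comm]; exact (Leech.sqNorm_sub_eq_iff hu a).1 b) c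
  have hP : ∀ y : leechLattice,
      (sqNorm (y : GolayPt → ℤ) = 32 ∧ sqNorm ((u - y) : GolayPt → ℤ) = 32 ∧
        dotInt (v : GolayPt → ℤ) (y : GolayPt → ℤ) = 16) ↔ g • y ∈ Leech.mclBase := by
    intro y
    show _ ↔ sqNorm _ = 32 ∧ _ ∧ _
    rw [Leech.sqNorm_smul, Leech.dotInt_smul_of_eq g1, Leech.dotInt_smul_of_eq g2,
      Leech.dotInt_comm (v : GolayPt → ℤ)]
    exact and_congr_right fun hy => and_congr_left fun _ => Leech.sqNorm_sub_eq_iff hu hy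
  have hd : ∀ y : leechLattice, dotInt (x : GolayPt → ℤ) (y : GolayPt → ℤ) =
      dotInt ((g • y : leechLattice) : GolayPt → ℤ) (Leech.baseX : GolayPt → ℤ) := fun y => by
    rw [Leech.dotInt_comm, Leech.dotInt_smul_of_eq g3]
  refine ⟨?_, ?_, fun y hy y' hy' hne hne' h => ?_⟩
  · exact (Leech.ncard_transfer g (Q := fun y => y ∈ Leech.mclBase ∧
      dotInt (y : GolayPt → ℤ) (Leech.baseX : GolayPt → ℤ) = 8) fun y =>
        and_congr (hP y) (by rw [hd y])).trans Leech.ncard_mclBase_eight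
  · refine (Leech.ncard_transfer g (Q := fun y => y ∈ Leech.mclBase ∧
      dotInt (y : GolayPt → ℤ) (Leech.baseX : GolayPt → ℤ) = 16) fun y => ?_).trans
      Leech.ncard_mclBase_sixteen
    refine ⟨fun h => ⟨(hP y).1 h.1, by rw [← hd]; exact h.2.2⟩, fun h => ?_⟩
    have h2 : dotInt (x : GolayPt → ℤ) (y : GolayPt → ℤ) = 16 := by rw [hd]; exact h.2
    refine ⟨(hP y).2 h.1, fun e => ?_, h2⟩
    rw [e, ← Leech.sqNorm_eq_dotInt, a] at h2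
    omega
  · obtain ⟨k, k1, k2, k3, k4⟩ := Leech.mclBase_orbits ((hP y).1 hy) ((hP y').1 hy')
      (fun e => hne (smul_left_cancel g (e.trans g3.symm)))
      (fun e => hne' (smul_left_cancel g (e.trans g3.symm))) (by rw [← hd, ← hd]; exact h)
    exact ⟨g⁻¹ * k * g, by rw [mul_smul, mul_smul, g1, k1, inv_smul_eq_iff, g1],
      by rw [mul_smul, mul_smul, g2, k2, inv_smul_eq_iff, g2],
      by rw [mul_smul, mul_smul, g3, k3, inv_smul_eq_iff, g3],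
      by rw [mul_smul, mul_smul, k4, inv_smul_smul]⟩

end Cfsg.Agent.S1581
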