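import Cfsg.Statements.S1582
import Cfsg.Agent.Lib.Leech.PSU43.Iso

set_option autoImplicit false
open Cfsg

namespace Cfsg.Agent.S1582

/-- The point stabiliser in the rank-3 action of the McLaughlin group on 275 points is isomorphic to PSU(4, 3). -/
theorem result (u v x : ↥Cfsg.leechLattice) (hu : Cfsg.sqNorm (u : Cfsg.GolayPt → ℤ) = 48) (hv : Cfsg.sqNorm (v : Cfsg.GolayPt → ℤ) = 32 ∧ Cfsg.sqNorm ((u - v) : Cfsg.GolayPt → ℤ) = 32) (hx : x ∈ {x : ↥Cfsg.leechLattice | Cfsg.sqNorm (x : Cfsg.GolayPt → ℤ) = 32 ∧ Cfsg.sqNorm ((u - x) : Cfsg.GolayPt → ℤ) = 32 ∧ Cfsg.dotInt (v : Cfsg.GolayPt → ℤ) (x : Cfsg.GolayPt → ℤ) = 16}) (F : Type) [Field F] [Fintype F] (hF : Fintype.card F = 9) : Nonempty (↥(MulAction.stabilizer ↥Cfsg.Co0 u ⊓ MulAction.stabilizer ↥Cfsg.Co0 v ⊓ MulAction.stabilizer ↥Cfsg.Co0 x) ≃* Cfsg.PSU 4 F 3) := by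
  obtain ⟨hv1, hv2⟩ := hv
  obtain ⟨a, b, c⟩ := hx
  have huv := (Leech.sqNorm_sub_eq_iff hu hv1).1 hv2
  rw [Leech.dotInt_comm] at huv
  obtain ⟨k, k1, k2, k3⟩ := Leech.exists_normal_mcl hu hv1 a huv
    (by rw [Leech.dotInt_comm]; exact (Leech.sqNorm_sub_eq_iff hu a).1 b) c
  have hmap : (MulAction.stabilizer Co0 u ⊓ MulAction.stabilizer Co0 v ⊓
      MulAction.stabilizer Co0 x).map (MulAut.conj k).toMonoidHom =
      Leech.mclGroup ⊓ MulAction.stabilizer Co0 Leech.baseX := by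
    rw [Subgroup.map_inf _ _ _ (MulAut.conj k).injective,
      Subgroup.map_inf _ _ _ (MulAut.conj k).injective,
      ← MulAction.stabilizer_smul_eq_stabilizer_map_conj,
      ← MulAction.stabilizer_smul_eq_stabilizer_map_conj,
      ← MulAction.stabilizer_smul_eq_stabilizer_map_conj, k1, k2, k3]
    rfl
  obtain ⟨e⟩ := Leech.nonempty_mulEquiv_psu43 hF
  exact ⟨((Subgroup.equivMapOfInjective _ _ (MulAut.conj k).injective).trans
    (MulEquiv.subgroupCongr hmap)).trans e⟩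

end Cfsg.Agent.S1582
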