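import Cfsg.Statements.S1583
import Cfsg.Agent.Lib.Leech.HSConfig

set_option autoImplicit false
open Cfsg

namespace Cfsg.Agent.S1583

/-- The Higman–Sims configuration: for two vectors of customary norm 6 with inner product −4, exactly 100 minimal vectors have customary inner products 3 and −3 with them, and the joint stabiliser permutes these transitively. -/
theorem result (v w : ↥Cfsg.leechLattice) (hv : Cfsg.sqNorm (v : Cfsg.GolayPt → ℤ) = 48) (hw : Cfsg.sqNorm (w : Cfsg.GolayPt → ℤ) = 48) (hvw : Cfsg.dotInt (v : Cfsg.GolayPt → ℤ) (w : Cfsg.GolayPt → ℤ) = -32) : {x : ↥Cfsg.leechLattice | Cfsg.sqNorm (x : Cfsg.GolayPt → ℤ) = 32 ∧ Cfsg.dotInt (v : Cfsg.GolayPt → ℤ) (x : Cfsg.GolayPt → ℤ) = 24 ∧ Cfsg.dotInt (w : Cfsg.GolayPt → ℤ) (x : Cfsg.GolayPt → ℤ) = -24}.ncard = 100 ∧ ∀ x ∈ {x : ↥Cfsg.leechLattice | Cfsg.sqNorm (x : Cfsg.GolayPt → ℤ) = 32 ∧ Cfsg.dotInt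 (v : Cfsg.GolayPt → ℤ) (x : Cfsg.GolayPt → ℤ) = 24 ∧ Cfsg.dotInt (w : Cfsg.GolayPt → ℤ) (x : Cfsg.GolayPt → ℤ) = -24}, ∀ x' ∈ {x : ↥Cfsg.leechLattice | Cfsg.sqNorm (x : Cfsg.GolayPt → ℤ) = 32 ∧ Cfsg.dotInt (v : Cfsg.GolayPt → ℤ) (x : Cfsg.GolayPt → ℤ) = 24 ∧ Cfsg.dotInt (w : Cfsg.GolayPt → ℤ) (x : Cfsg.GolayPt → ℤ) = -24}, ∃ g : ↥Cfsg.Co0, g • v = v ∧ g • w = w ∧ g • x = x' := by
  obtain ⟨s1, s2⟩ := Leech.hs_sum hv hw hvw
  obtain ⟨g, g1, g2⟩ := Leech.exists_normal_hs hv s1 s2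
  refine ⟨?_, fun x hx x' hx' => ?_⟩
  · exact (Leech.ncard_transfer g (Q := fun x => x ∈ Leech.hsBase) fun x =>
      Leech.hs_point_transfer g1 g2 x).trans Leech.ncard_hsBase
  · obtain ⟨a, a', a''⟩ := Leech.hs_point_iff.1 hx
    obtain ⟨b, b', b''⟩ := Leech.hs_point_iff.1 hx'
    obtain ⟨k, k1, k2, k3⟩ := Leech.exists_normal_hs_point hv s1 a
      (by rw [Leech.dotInt_comm]; exact a') s2 a''
    obtain ⟨l, l1, l2, l3⟩ := Leech.exists_normal_hs_point hv s1 b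
      (by rw [Leech.dotInt_comm]; exact b') s2 b''
    have e1 : (l⁻¹ * k) • v = v := by rw [mul_smul, k1, inv_smul_eq_iff, l1]
    have e2 : (l⁻¹ * k) • (v + w) = v + w := by rw [mul_smul, k2, inv_smul_eq_iff, l2]
    refine ⟨l⁻¹ * k, e1, ?_, by rw [mul_smul, k3, inv_smul_eq_iff, l3]⟩
    rw [Leech.smul_vadd, e1] at e2
    exact add_left_cancel e2

end Cfsg.Agent.S1583
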