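import Cfsg.Statements.S1584
import Cfsg.Agent.Lib.Leech.HSConfig

set_option autoImplicit false
open Cfsg

namespace Cfsg.Agent.S1584

/-- The Higman–Sims group acts with rank 3 and subdegrees 1, 22, 77 on its 100 points, the orbits of a point stabiliser being distinguished by customary inner product 1 with the fixed point. -/
theorem result (v w x : ↥Cfsg.leechLattice) (hv : Cfsg.sqNorm (v : Cfsg.GolayPt → ℤ) = 48) (hw : Cfsg.sqNorm (w : Cfsg.GolayPt → ℤ) = 48) (hvw : Cfsg.dotInt (v : Cfsg.GolayPt → ℤ) (w : Cfsg.GolayPt → ℤ) = -32) (hx : x ∈ {x : ↥Cfsg.leechLattice | Cfsg.sqNorm (x : Cfsg.GolayPt → ℤ) = 32 ∧ Cfsg.dotInt (v : Cfsg.GolayPt → ℤ) (x : Cfsg.GolayPt → ℤ) = 24 ∧ Cfsg.dotInt (w : Cfsg.GolayPt → ℤ) (x : Cfsg.GolayPt → ℤ) = -24}) : {y : ↥Cfsg.leechLattice | y ∈ {x : ↥Cfsg.leechLattice | Cfsg.sqNorm (x : Cfsg.GolayPt → ℤ)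 = 32 ∧ Cfsg.dotInt (v : Cfsg.GolayPt → ℤ) (x : Cfsg.GolayPt → ℤ) = 24 ∧ Cfsg.dotInt (w : Cfsg.GolayPt → ℤ) (x : Cfsg.GolayPt → ℤ) = -24} ∧ Cfsg.dotInt (x : Cfsg.GolayPt → ℤ) (y : Cfsg.GolayPt → ℤ) = 8}.ncard = 22 ∧ {y : ↥Cfsg.leechLattice | y ∈ {x : ↥Cfsg.leechLattice | Cfsg.sqNorm (x : Cfsg.GolayPt → ℤ) = 32 ∧ Cfsg.dotInt (v : Cfsg.GolayPt → ℤ) (x : Cfsg.GolayPt → ℤ) = 24 ∧ Cfsg.dotInt (w : Cfsg.GolayPt → ℤ) (x : Cfsg.GolayPt → ℤ) = -24} ∧ y ≠ x ∧ Cfsg.dotInt (x : Cfsg.GolayPt → ℤ) (y : Cfsg.GolayPt → ℤ) ≠ 8}.ncard = 77 ∧ ∀ y ∈ {x : ↥Cfsg.leechLattice | Cfsg.sqNorm (x : Cfsg.GolayPt → ℤ) = 32 ∧ Cfsg.dotInt (v : Cfsg.GolayPt → ℤ) (x : Cfsg.GolayPt → ℤ) = 24 ∧ Cfsg.dotInt (w : Cfsg.GolayPt → ℤ) (x : Cfsg.GolayPt → ℤ) = -24}, ∀ y' ∈ {x : ↥Cfsg.leechLattice | Cfsg.sqNorm (x : Cfsg.GolayPt → ℤ) = 32 ∧ Cfsg.dotInt (v : Cfsg.GolayPt →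 ℤ) (x : Cfsg.GolayPt → ℤ) = 24 ∧ Cfsg.dotInt (w : Cfsg.GolayPt → ℤ) (x : Cfsg.GolayPt → ℤ) = -24}, y ≠ x → y' ≠ x → (Cfsg.dotInt (x : Cfsg.GolayPt → ℤ) (y : Cfsg.GolayPt → ℤ) = 8 ↔ Cfsg.dotInt (x : Cfsg.GolayPt → ℤ) (y' : Cfsg.GolayPt → ℤ) = 8) → ∃ g : ↥Cfsg.Co0, g • v = v ∧ g • w = w ∧ g • x = x ∧ g • y = y' := by
  obtain ⟨s1, s2⟩ := Leech.hs_sum hv hw hvw
  obtain ⟨a, a', a''⟩ := Leech.hs_point_iff.1 hx
  obtain ⟨g, g1, g2, g3⟩ := Leech.exists_normal_hs_point hv s1 a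
    (by rw [Leech.dotInt_comm]; exact a') s2 a''
  have hmem : ∀ y : leechLattice, Leech.HSPoint v w y ↔ g • y ∈ Leech.hsBase := fun y =>
    Leech.hs_point_transfer g1 g2 y
  have hd : ∀ y : leechLattice, dotInt (x : GolayPt → ℤ) (y : GolayPt → ℤ) =
      dotInt ((g • y : leechLattice) : GolayPt → ℤ) (Leech.baseU : GolayPt → ℤ) := fun y => by
    rw [Leech.dotInt_comm, Leech.dotInt_smul_of_eq g3]
  refine ⟨?_, ?_, fun y hy y' hy' hne hne' h => ?_⟩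
  · refine (Leech.ncard_transfer g (Q := fun y => y ∈ Leech.hsBase ∧
      dotInt (y : GolayPt → ℤ) (Leech.baseU : GolayPt → ℤ) = 8) fun y => ?_).trans
      Leech.ncard_hsBase_near
    exact and_congr (hmem y) (by rw [hd y])
  · refine (Leech.ncard_transfer g (Q := fun y => y ∈ Leech.hsBase ∧ y ≠ Leech.baseU ∧
      dotInt (y : GolayPt → ℤ) (Leech.baseU : GolayPt → ℤ) ≠ 8) fun y => ?_).trans
      Leech.ncard_hsBase_far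
    exact and_congr (hmem y) (and_congr (by rw [← g3, ne_eq, ne_eq, smul_left_cancel_iff])
      (by rw [hd y]))
  · obtain ⟨k, k1, k2, k3, k4⟩ := Leech.hsBase_orbits ((hmem y).1 hy) ((hmem y').1 hy')
      (fun e => hne (smul_left_cancel g (e.trans g3.symm)))
      (fun e => hne' (smul_left_cancel g (e.trans g3.symm))) (by rw [← hd, ← hd]; exact h)
    have e1 : (g⁻¹ * k * g) • v = v := by rw [mul_smul, mul_smul, g1, k1, inv_smul_eq_iff, g1]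
    have e2 : (g⁻¹ * k * g) • (v + w) = v + w := by
      rw [mul_smul, mul_smul, g2, k3, inv_smul_eq_iff, g2]
    rw [Leech.smul_vadd, e1] at e2
    exact ⟨g⁻¹ * k * g, e1, add_left_cancel e2,
      by rw [mul_smul, mul_smul, g3, k2, inv_smul_eq_iff, g3],
      by rw [mul_smul, mul_smul, k4, inv_smul_smul]⟩

end Cfsg.Agent.S1584
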