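import Cfsg.Statements.S1585
import Cfsg.Agent.Lib.Leech.Normal

set_option autoImplicit false
open Cfsg

namespace Cfsg.Agent.S1585

/-- Two vectors of customary norm 6 with inner product −4 are exchanged by some automorphism of the lattice. -/
theorem result (v w : ↥Cfsg.leechLattice) (hv : Cfsg.sqNorm (v : Cfsg.GolayPt → ℤ) = 48) (hw : Cfsg.sqNorm (w : Cfsg.GolayPt → ℤ) = 48) (hvw : Cfsg.dotInt (v : Cfsg.GolayPt → ℤ) (w : Cfsg.GolayPt → ℤ) = -32) : ∃ g : ↥Cfsg.Co0, g • v = w ∧ g • w = v := by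
  obtain ⟨h1, h2⟩ := Cfsg.Agent.Leech.hs_sum hv hw hvw
  obtain ⟨h1', h2'⟩ := Cfsg.Agent.Leech.hs_sum hw hv (by rw [Cfsg.Agent.Leech.dotInt_comm]; exact hvw)
  obtain ⟨g, g1, g2⟩ := Cfsg.Agent.Leech.exists_normal_hs hv h1 h2
  obtain ⟨k, k1, k2⟩ := Cfsg.Agent.Leech.exists_normal_hs hw h1' h2'
  have e1 : (k⁻¹ * g) • v = w := by rw [mul_smul, g1, ← k1, inv_smul_smul]
  have e2 : (k⁻¹ * g) • (v + w) = w + v := by rw [mul_smul, g2, ← k2, inv_smul_smul]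
  refine ⟨k⁻¹ * g, e1, ?_⟩
  rw [Cfsg.Agent.Leech.smul_vadd, e1] at e2
  exact add_left_cancel e2

end Cfsg.Agent.S1585
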