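import Cfsg.Agent.EqLemmas

set_option autoImplicit false
open Matrix

namespace Cfsg.Agent.S1587

variable {B : Matrix (Fin 24) (Fin 24) ℤ}

/-- The bilinear form of `B` is symmetric. -/
theorem bil_comm (hsymm : B.IsSymm) (x y : Fin 24 → ℤ) :
    x ⬝ᵥ (B *ᵥ y) = y ⬝ᵥ (B *ᵥ x) := by
  rw [dotProduct_mulVec, ← mulVec_transpose, hsymm.eq, dotProduct_comm]

theorem quad_sub (hsymm : B.IsSymm) (x y : Fin 24 → ℤ) :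
    (x - y) ⬝ᵥ (B *ᵥ (x - y))
      = x ⬝ᵥ (B *ᵥ x) + y ⬝ᵥ (B *ᵥ y) - 2 * (x ⬝ᵥ (B *ᵥ y)) := by
  simp only [mulVec_sub, sub_dotProduct, dotProduct_sub, bil_comm hsymm y x]
  ring

theorem quad_add (hsymm : B.IsSymm) (x y : Fin 24 → ℤ) :
    (x + y) ⬝ᵥ (B *ᵥ (x + y))
      = x ⬝ᵥ (B *ᵥ x) + y ⬝ᵥ (B *ᵥ y) + 2 * (x ⬝ᵥ (B *ᵥ y)) := by
  simp only [mulVec_add, add_dotProduct, dotProduct_add, bil_comm hsymm y x]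
  ring

theorem quad_two (z : Fin 24 → ℤ) :
    ((2 : ℤ) • z) ⬝ᵥ (B *ᵥ ((2 : ℤ) • z)) = 4 * (z ⬝ᵥ (B *ᵥ z)) := by
  simp only [mulVec_smul, smul_dotProduct, dotProduct_smul, smul_eq_mul]
  ring

/-- A nonzero vector has norm at least 4. -/
theorem four_le (hpos : ∀ x : Fin 24 → ℤ, x ≠ 0 → 0 < x ⬝ᵥ (B *ᵥ x))
    (heven : ∀ x : Fin 24 → ℤ, (2 : ℤ) ∣ x ⬝ᵥ (B *ᵥ x))
    (h2 : ∀ x : Fin 24 → ℤ, x ⬝ᵥ (B *ᵥ x) ≠ 2) {z : Fin 24 → ℤ} (hz : z ≠ 0) :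
    4 ≤ z ⬝ᵥ (B *ᵥ z) := by
  have := hpos z hz; have := heven z; have := h2 z; omega

/-- Congruence modulo 2: equal, opposite, or the inner product is squeezed by the norms. -/
theorem congr_two (hsymm : B.IsSymm) (hpos : ∀ x : Fin 24 → ℤ, x ≠ 0 → 0 < x ⬝ᵥ (B *ᵥ x))
    (heven : ∀ x : Fin 24 → ℤ, (2 : ℤ) ∣ x ⬝ᵥ (B *ᵥ x))
    (h2 : ∀ x : Fin 24 → ℤ, x ⬝ᵥ (B *ᵥ x) ≠ 2) (x y : Fin 24 → ℤ)
    (hc : ∀ i, (2 : ℤ) ∣ (x - y) i) :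
    y = x ∨ y = -x ∨
      (16 ≤ x ⬝ᵥ (B *ᵥ x) + y ⬝ᵥ (B *ᵥ y) - 2 * (x ⬝ᵥ (B *ᵥ y)) ∧
       16 ≤ x ⬝ᵥ (B *ᵥ x) + y ⬝ᵥ (B *ᵥ y) + 2 * (x ⬝ᵥ (B *ᵥ y))) := by
  choose z hz using hc
  have hd : x - y = (2 : ℤ) • (z : Fin 24 → ℤ) := by funext i; simp [hz i]
  have hs : x + y = (2 : ℤ) • (x - z) := by
    rw [smul_sub, ← hd, two_zsmul]; abel
  by_cases h0 : (z : Fin 24 → ℤ) = 0
  · left; rw [h0, smul_zero, sub_eq_zero] at hd; exact hd.symm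
  by_cases h1 : x - (z : Fin 24 → ℤ) = 0
  · right; left; rw [h1, smul_zero] at hs; exact eq_neg_of_add_eq_zero_right hs
  right; right
  have a := four_le hpos heven h2 h0
  have b := four_le hpos heven h2 h1
  constructor
  · rw [← quad_sub hsymm, hd, quad_two]; omega
  · rw [← quad_add hsymm, hs, quad_two]; omega

theorem result (B : Matrix (Fin 24) (Fin 24) ℤ) (hsymm : B.IsSymm) (hpos : ∀ x : Fin 24 → ℤ, x ≠ 0 → 0 < x ⬝ᵥ (B *ᵥ x)) (heven : ∀ x : Fin 24 → ℤ, (2 : ℤ) ∣ x ⬝ᵥ (B *ᵥ x)) (h2 : ∀ x : Fin 24 → ℤ, x ⬝ᵥ (B *ᵥ x) ≠ 2) (x y : Fin 24 → ℤ) (hx : x ⬝ᵥ (B *ᵥ x) = 8) (hy : y ⬝ᵥ (B *ᵥ y) = 8) (hc : ∀ i, (2 : ℤ) ∣ (x - y) i) : y = x ∨ y = -x ∨ x ⬝ᵥ (B *ᵥ y) = 0 := by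
  rcases congr_two hsymm hpos heven h2 x y hc with h | h | ⟨h, h'⟩
  · exact Or.inl h
  · exact Or.inr (Or.inl h)
  · right; right; omega

end Cfsg.Agent.S1587
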