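import Cfsg.Statements.S1589
import Cfsg.Agent.Lib.Golay.IndexSubgroups

set_option autoImplicit false
open scoped Pointwise
open Cfsg

namespace Cfsg.Agent.S1589

/-- Subgroups of the group of the length-24 code of index 759, 276 and 1771 are exactly the octad, duad and sextet stabilisers, and no subgroup has index 253. -/
theorem result : (∀ H : Subgroup ↥Cfsg.M24, H.index = 759 → ∃ o ∈ Cfsg.octads, H = MulAction.stabilizer Cfsg.M24 o) ∧ (∀ H : Subgroup ↥Cfsg.M24, H.index = 276 → ∃ s : Finset Cfsg.GolayPt, s.card = 2 ∧ H = MulAction.stabilizer Cfsg.M24 s) ∧ (∀ H : Subgroup ↥Cfsg.M24, H.index = 1771 → ∃ S ∈ Cfsg.sextets, H = MulAction.stabilizer Cfsg.M24 S) ∧ ∀ H : Subgroup ↥Cfsg.M24, H.index ≠ 253 := by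
  have key : ∀ (H : Subgroup ↥Cfsg.M24) (n N : ℕ), H.index = n → 0 < n → n * N = 244823040 →
      Nat.card ↥H = N := fun H n N h hn hN => by
    have := H.index_mul_card
    rw [h, Cfsg.Agent.Golay.natCard_M24, ← hN] at this
    exact Nat.eq_of_mul_eq_mul_left hn this
  refine ⟨fun H h => ?_, fun H h => ?_, fun H h => ?_, fun H h => ?_⟩
  · rcases Cfsg.Agent.Golay.Index.exists_of_two_full (key H 759 322560 h (by norm_num) (by norm_num))
      (Or.inl rfl) with ⟨-, ho⟩ | ⟨hN, -⟩
    · exact ho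
    · omega
  · have hc := key H 276 887040 h (by norm_num) (by norm_num)
    obtain ⟨s, hs, hi⟩ := Cfsg.Agent.Golay.Index.exists_pair_of_card hc
    refine ⟨s, hs, Subgroup.eq_of_le_of_card_ge
      (Cfsg.Agent.Golay.Index.le_stabilizer_of_inv hi) ?_⟩
    have h2 := Cfsg.Agent.Golay.Index.natCard_stabilizer_kset (W := s) (by omega)
    rw [hs, show Nat.choose 24 2 = 276 by decide] at h2
    omega
  · rcases Cfsg.Agent.Golay.Index.exists_of_two_full
      (key H 1771 138240 h (by norm_num) (by norm_num)) (Or.inr (Or.inr rfl)) with ⟨hN, -⟩ | ⟨-, hS⟩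
    · omega
    · exact hS
  · rcases Cfsg.Agent.Golay.Index.exists_of_two_full
      (key H 253 967680 h (by norm_num) (by norm_num)) (Or.inr (Or.inl rfl)) with ⟨hN, -⟩ | ⟨hN, -⟩
    all_goals omega

end Cfsg.Agent.S1589
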