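import Cfsg.Statements.S1595
import Cfsg.Agent.Lib.Golay.Steiner

set_option autoImplicit false
open Cfsg

namespace Cfsg.Agent.S1595

/-- Leech triangle of S(5, 6, 12): blocks meet in 0, 2, 3 or 4 points, and a block is met exactly in a given 2-, 3- or 4-subset by 3, 2, 3 blocks respectively. -/
theorem result {α : Type*} [Fintype α] [DecidableEq α] (hα : Fintype.card α = 12) {B : Set (Finset α)} (hB : Cfsg.IsSteinerSystem 5 6 B) (b : Finset α) (hb : b ∈ B) : (∀ c ∈ B, c ≠ b → (b ∩ c).card = 0 ∨ (b ∩ c).card = 2 ∨ (b ∩ c).card = 3 ∨ (b ∩ c).card = 4) ∧ ∀ s ⊆ b, (s.card = 2 → {c : Finset α | c ∈ B ∧ b ∩ c = s}.ncard = 3) ∧ (s.card = 3 → {c : Finset α | c ∈ B ∧ b ∩ c = s}.ncard = 2) ∧ (s.card = 4 → {c : Finset α | c ∈ B ∧ b ∩ c = s}.ncard = 3) := by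
  have m0 := Golay.Design.moment hB (by norm_num) b (i := 0) (lam := 132) (by norm_num)
    (by rw [hα]; decide +kernel)
  have m1 := Golay.Design.moment hB (by norm_num) b (i := 1) (lam := 66) (by norm_num)
    (by rw [hα]; decide +kernel)
  have m2 := Golay.Design.moment hB (by norm_num) b (i := 2) (lam := 30) (by norm_num)
    (by rw [hα]; decide +kernel)
  have m3 := Golay.Design.moment hB (by norm_num) b (i := 3) (lam := 12) (by norm_num)
    (by rw [hα]; decide +kernel)
  have m4 := Golay.Design.moment hB (by norm_num) b (i := 4) (lam := 4) (by norm_num)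
    (by rw [hα]; decide +kernel)
  have z5 := Golay.Design.cnt_zero hB hb (j := 5) (by norm_num) (by norm_num)
  have self := Golay.Design.cnt_self hB (by norm_num) hb
  simp only [hB.1 b hb, Finset.sum_range_succ, Finset.sum_range_zero, Nat.choose_zero_right,
    Nat.reduceAdd, z5, self] at m0 m1 m2 m3 m4
  norm_num [Nat.choose] at m0 m1 m2 m3 m4
  refine ⟨fun c hc hne => ?_, fun s hs => ?_⟩
  · have hpos := Golay.Design.cnt_pos_of_mem (Y := b) hc
    have hlt := Golay.Design.inter_lt_of_ne hB hb hc (Ne.symm hne)
    rw [Finset.inter_comm] at hpos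
    generalize hj : (b ∩ c).card = j at hpos hlt ⊢
    interval_cases j <;> omega
  · have hb6 : b.card = 6 := hB.1 b hb
    have hbig : ∀ u, u ⊆ b → 4 < u.card →
        Golay.Design.exactCnt B b u = if u.card = 6 then 1 else 0 := by
      intro u hu h4
      split_ifs with h
      · rw [Finset.eq_of_subset_of_card_le hu (by omega)]
        exact Golay.Design.exactCnt_self hB (by norm_num) hb
      · have := Finset.card_le_card hu
        exact Golay.Design.exactCnt_eq_zero hB hb (by omega) (by omega)
    have h4 : ∀ u, u ⊆ b → u.card = 4 → Golay.Design.exactCnt B b u = 3 := by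
      intro u hu huc
      have h := Golay.Design.exactCnt_rec hB (by norm_num) hb hu (by omega) (lam := 4)
        (by rw [hα, huc]; decide +kernel) (fun n => if n = 6 then 1 else 0)
        (fun w hw hlt => hbig w hw (by omega))
      rw [huc] at h
      norm_num [Finset.sum_range_succ, Nat.choose] at h
      omega
    have h3 : ∀ u, u ⊆ b → u.card = 3 → Golay.Design.exactCnt B b u = 2 := by
      intro u hu huc
      have h := Golay.Design.exactCnt_rec hB (by norm_num) hb hu (by omega) (lam := 12)
        (by rw [hα, huc]; decide +kernel) (fun n => if n = 6 then 1 else if n = 4 then 3 else 0)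
        fun w hw hlt => by
          rcases (show w.card = 4 ∨ 4 < w.card by omega) with h' | h'
          · simp [h4 w hw h', h']
          · rw [hbig w hw h']; simp only [show w.card ≠ 4 by omega, if_false]
      rw [huc] at h
      norm_num [Finset.sum_range_succ, Nat.choose] at h
      omega
    have h2 : ∀ u, u ⊆ b → u.card = 2 → Golay.Design.exactCnt B b u = 3 := by
      intro u hu huc
      have h := Golay.Design.exactCnt_rec hB (by norm_num) hb hu (by omega) (lam := 30)
        (by rw [hα, huc]; decide +kernel)
        (fun n => if n = 6 then 1 else if n = 4 then 3 else if n = 3 then 2 else 0)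
        fun w hw hlt => by
          rcases (show w.card = 3 ∨ w.card = 4 ∨ 4 < w.card by omega) with h' | h' | h'
          · simp [h3 w hw h', h']
          · simp [h4 w hw h', h']
          · rw [hbig w hw h']
            simp only [show w.card ≠ 4 by omega, show w.card ≠ 3 by omega, if_false]
      rw [huc] at h
      norm_num [Finset.sum_range_succ, Nat.choose] at h
      omega
    simp only [← Golay.Design.exactCnt_eq_ncard]
    exact ⟨h2 s hs, h3 s hs, h4 s hs⟩

end Cfsg.Agent.S1595
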