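import Cfsg.Statements.S1598
import Cfsg.Agent.Lib.GolayOrbits.Quartet.Stab
-- import your own Cfsg.Agent.* helpers here

set_option autoImplicit false
open scoped Pointwise
open Cfsg

namespace Cfsg.Agent.S1598

/-- A quartet stabiliser inside the dodecad stabiliser has order 432, a normal subgroup of order 9 with quotient GL(2, 3), and is transitive on the dodecad. -/
theorem result (d : Finset Cfsg.GolayPt) (hd : d ∈ Cfsg.dodecads) (Q : Finset (Finset Cfsg.GolayPt)) (hQ : Q ∈ Cfsg.quartets d) : Nat.card ↥(MulAction.stabilizer Cfsg.M24 d ⊓ MulAction.stabilizer Cfsg.M24 Q) = 432 ∧ (∃ (N : Subgroup ↥(MulAction.stabilizer Cfsg.M24 d ⊓ MulAction.stabilizer Cfsg.M24 Q)) (_ : N.Normal), Nat.card N = 9 ∧ Nonempty (↥(MulAction.stabilizer Cfsg.M24 d ⊓ MulAction.stabilizer Cfsg.M24 Q) ⧸ N ≃* GL (Fin 2) (ZMod 3))) ∧ ∀ p ∈ d, ∀ q ∈ d, ∃ g ∈ (MulAction.stabilizer Cfsg.M24 d ⊓ MulAction.stabilizer Cfsg.M24 Q), ((g : ↥Cfsg.M24) : Equiv.Perm Cfsg.GolayPt)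 p = q := by
  obtain ⟨t, ht, rfl, rfl⟩ := Cfsg.Agent.GolayOrbits.exists_map_dodecad_quartet hd hQ
  have e := GolayOrbits.conjEquiv (K := GolayOrbits.QStab) (fun g hg => hg.1.1) t ht
    (GolayOrbits.mem_stab_iff ht)
  have hcard : Nat.card ↥(MulAction.stabilizer Cfsg.M24 (t • Golay.pts GolayOrbits.dodec0) ⊓
      MulAction.stabilizer Cfsg.M24 (t • GolayOrbits.qset GolayOrbits.quartet0)) = 432 :=
    (Nat.card_congr e.toEquiv).trans GolayOrbits.natCard_QStab
  refine ⟨hcard, ?_, fun p hp q hq => ?_⟩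
  · let f := GolayOrbits.qStabToGL.comp e.toMonoidHom
    have hf : Function.Surjective f := GolayOrbits.qStabToGL_surjective.comp e.surjective
    refine ⟨f.ker, inferInstance, ?_, ⟨QuotientGroup.quotientKerEquivOfSurjective f hf⟩⟩
    have h := f.ker.card_eq_card_quotient_mul_card_subgroup
    have hGL : Nat.card (GL (Fin 2) (ZMod 3)) = 48 := by
      rw [Matrix.card_GL_field, Fin.prod_univ_two, ZMod.card]
      rfl
    rw [hcard, Nat.card_congr (QuotientGroup.quotientKerEquivOfSurjective f hf).toEquiv, hGL] at h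
    omega
  · obtain ⟨k, hk, hkpq⟩ := GolayOrbits.mem_QStab_transitive (p := t⁻¹ p) (q := t⁻¹ q)
      (by rw [← GolayOrbits.apply_mem_smul_iff t]; simpa using hp)
      (by rw [← GolayOrbits.apply_mem_smul_iff t]; simpa using hq)
    refine ⟨⟨t * k * t⁻¹, mul_mem (mul_mem ht hk.1.1) (inv_mem ht)⟩,
      (GolayOrbits.mem_stab_iff ht _).mpr ?_, ?_⟩
    · show t⁻¹ * (t * k * t⁻¹) * t ∈ _
      rwa [show t⁻¹ * (t * k * t⁻¹) * t = k by group]
    · show t (k (t⁻¹ p)) = q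
      rw [hkpq]; exact t.apply_symm_apply q

end Cfsg.Agent.S1598
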