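import Cfsg.Statements.S1599
import Cfsg.Agent.Lib.GolayOrbits.Quartet.Stab
-- import your own Cfsg.Agent.* helpers here

set_option autoImplicit false
open scoped Pointwise
open Cfsg

namespace Cfsg.Agent.S1599

/-- A quartet stabiliser has five orbits on the quartets of its dodecad, of sizes 1, 12, 27, 72, 108. -/
theorem result (d : Finset Cfsg.GolayPt) (hd : d ∈ Cfsg.dodecads) (Q : Finset (Finset Cfsg.GolayPt)) (hQ : Q ∈ Cfsg.quartets d) : ∃ X₁ ∈ Cfsg.quartets d, ∃ X₂ ∈ Cfsg.quartets d, ∃ X₃ ∈ Cfsg.quartets d, ∃ X₄ ∈ Cfsg.quartets d, (MulAction.orbit ↥(MulAction.stabilizer Cfsg.M24 d ⊓ MulAction.stabilizer Cfsg.M24 Q) X₁).ncard = 12 ∧ (MulAction.orbit ↥(MulAction.stabilizer Cfsg.M24 d ⊓ MulAction.stabilizer Cfsg.M24 Q) X₂).ncard = 27 ∧ (MulAction.orbit ↥(MulAction.stabilizer Cfsg.M24 d ⊓ MulAction.stabilizer Cfsg.M24 Q) X₃).ncard = 72 ∧ (MulAction.orbit ↥(MulAction.stabilizer Cfsg.M24 d ⊓ MulAction.stabilizer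 Cfsg.M24 Q) X₄).ncard = 108 ∧ Cfsg.quartets d = {Q} ∪ MulAction.orbit ↥(MulAction.stabilizer Cfsg.M24 d ⊓ MulAction.stabilizer Cfsg.M24 Q) X₁ ∪ MulAction.orbit ↥(MulAction.stabilizer Cfsg.M24 d ⊓ MulAction.stabilizer Cfsg.M24 Q) X₂ ∪ MulAction.orbit ↥(MulAction.stabilizer Cfsg.M24 d ⊓ MulAction.stabilizer Cfsg.M24 Q) X₃ ∪ MulAction.orbit ↥(MulAction.stabilizer Cfsg.M24 d ⊓ MulAction.stabilizer Cfsg.M24 Q) X₄ := by
  obtain ⟨t, ht, rfl, rfl⟩ := Cfsg.Agent.GolayOrbits.exists_map_dodecad_quartet hd hQ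
  have horb : ∀ X : Finset (Finset Cfsg.GolayPt),
      MulAction.orbit ↥(MulAction.stabilizer Cfsg.M24 (t • Golay.pts GolayOrbits.dodec0) ⊓
        MulAction.stabilizer Cfsg.M24 (t • GolayOrbits.qset GolayOrbits.quartet0)) (t • X) =
      (fun Y => t • Y) '' MulAction.orbit GolayOrbits.QStab X := by
    intro X
    ext Y
    constructor
    · rintro ⟨⟨x, hx⟩, rfl⟩
      refine ⟨_, ⟨⟨_, (GolayOrbits.mem_stab_iff ht x).mp hx⟩, rfl⟩, ?_⟩
      show t • ((t⁻¹ * (x : Equiv.Perm Cfsg.GolayPt) * t) • X) =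
        (x : Equiv.Perm Cfsg.GolayPt) • t • X
      rw [mul_smul, mul_smul, smul_inv_smul]
    · rintro ⟨_, ⟨⟨k, hk⟩, rfl⟩, rfl⟩
      refine ⟨⟨⟨t * k * t⁻¹, mul_mem (mul_mem ht hk.1.1) (inv_mem ht)⟩,
        (GolayOrbits.mem_stab_iff ht _).mpr ?_⟩, ?_⟩
      · show t⁻¹ * (t * k * t⁻¹) * t ∈ _
        rwa [show t⁻¹ * (t * k * t⁻¹) * t = k by group]
      · show (t * k * t⁻¹) • t • X = t • (k • X)
        rw [mul_smul, mul_smul, inv_smul_smul]
  have hmem : ∀ k < 4, t • GolayOrbits.qrep k ∈ Cfsg.quartets (t • Golay.pts GolayOrbits.dodec0) :=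
    fun k hk => GolayOrbits.smul_mem_quartets ht (GolayOrbits.qrep_mem hk)
  refine ⟨_, hmem 0 (by norm_num), _, hmem 1 (by norm_num), _, hmem 2 (by norm_num), _,
    hmem 3 (by norm_num), ?_, ?_, ?_, ?_, ?_⟩
  all_goals simp only [horb]
  iterate 4
    · rw [Set.ncard_image_of_injective _ (MulAction.injective t),
        GolayOrbits.ncard_orbit (by norm_num)]
      rfl
  rw [GolayOrbits.quartets_smul ht, GolayOrbits.quartets_eq_orbits, Set.image_union,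
    Set.image_union, Set.image_union, Set.image_union, Set.image_singleton]

end Cfsg.Agent.S1599
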