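import Cfsg.Statements.S1600
import Cfsg.Agent.Lib.GolayOrbits.Stab
-- import your own Cfsg.Agent.* helpers here

set_option autoImplicit false
open scoped Pointwise
open Cfsg

namespace Cfsg.Agent.S1600

open Cfsg.Agent.Golay Cfsg.Agent.GolayOrbits

/-- The pointwise stabiliser of three points of a dodecad inside the dodecad stabiliser (order 72) is transitive on the complementary dodecad. -/
theorem result (d : Finset Cfsg.GolayPt) (hd : d ∈ Cfsg.dodecads) (p q r : Cfsg.GolayPt) (hp : p ∈ d) (hq : q ∈ d) (hr : r ∈ d) (hpq : p ≠ q) (hpr : p ≠ r) (hqr : q ≠ r) : Nat.card ↥(MulAction.stabilizer Cfsg.M24 d ⊓ MulAction.stabilizer Cfsg.M24 p ⊓ MulAction.stabilizer Cfsg.M24 q ⊓ MulAction.stabilizer Cfsg.M24 r) = 72 ∧ ∀ x ∉ d, ∀ y ∉ d, ∃ g ∈ (MulAction.stabilizer Cfsg.M24 d ⊓ MulAction.stabilizer Cfsg.M24 p ⊓ MulAction.stabilizer Cfsg.M24 q ⊓ MulAction.stabilizer Cfsg.M24 r), ((g : ↥Cfsg.M24) : Equiv.Perm Cfsg.GolayPt)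 x = y := by
  obtain ⟨t, ht, htd, htp, htq, htr⟩ := exists_map_dodecad_three hd hp hq hr hpq hpr hqr
  have hs0 : t • pts (1 <<< 0) = {p} := smul_pts_single (by norm_num) htp
  have hs1 : t • pts (1 <<< 1) = {q} := smul_pts_single (by norm_num) htq
  have hs2 : t • pts (1 <<< 2) = {r} := smul_pts_single (by norm_num) htr
  have hiff : ∀ x : ↥Cfsg.M24,
      x ∈ MulAction.stabilizer Cfsg.M24 d ⊓ MulAction.stabilizer Cfsg.M24 p ⊓
        MulAction.stabilizer Cfsg.M24 q ⊓ MulAction.stabilizer Cfsg.M24 r ↔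
      t⁻¹ * (x : Equiv.Perm Cfsg.GolayPt) * t ∈ Fix [1 <<< 2, 1 <<< 1, 1 <<< 0, dodec0] := by
    intro x
    simp only [Subgroup.mem_inf, mem_stabilizer_set_iff, mem_stabilizer_point_iff, mem_Fix,
      List.forall_mem_cons, List.not_mem_nil, IsEmpty.forall_iff, implies_true, and_true,
      smul_conj_iff, hs0, hs1, hs2, htd]
    have hm : t⁻¹ * (x : Equiv.Perm Cfsg.GolayPt) * t ∈ Cfsg.M24 :=
      mul_mem (mul_mem (inv_mem ht) x.2) ht
    tauto
  refine ⟨?_, fun u hu v hv => ?_⟩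
  · rw [Nat.card_congr (conjEquiv (K := Fix [1 <<< 2, 1 <<< 1, 1 <<< 0, dodec0]) (fun g hg => hg.1) t ht hiff).toEquiv]
    exact natCard_Fix_chain.2.2
  · have hout : ∀ {y}, y ∉ d → t⁻¹ y ∈ pts 0xfacca0 := fun {y} hy => by
      rw [mem_dodec0_compl, ← apply_mem_smul_iff t, htd]; simpa using hy
    obtain ⟨k, hk, hkuv⟩ := orbit_point chain3_cert (hout hu) (hout hv)
    refine ⟨⟨t * k * t⁻¹, mul_mem (mul_mem ht hk.1) (inv_mem ht)⟩, (hiff _).mpr ?_, ?_⟩
    · show t⁻¹ * (t * k * t⁻¹) * t ∈ _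
      rw [show t⁻¹ * (t * k * t⁻¹) * t = k by group]
      exact ⟨hk.1, fun m hm => hk.2 m (by simp at hm ⊢; tauto)⟩
    · show t (k (t⁻¹ u)) = v
      rw [hkuv]; exact t.apply_symm_apply v

end Cfsg.Agent.S1600
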