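import Cfsg.Statements.S1601
import Cfsg.Agent.Lib.GolayOrbits.Stab
import Cfsg.Agent.Lib.PSL2.Simple660
import Cfsg.Agent.Lib.SmallOrders.PSLPrimeInst

set_option autoImplicit false
open scoped Pointwise
open Cfsg

namespace Cfsg.Agent.S1601

open Cfsg.Agent.Golay Cfsg.Agent.GolayOrbits

theorem fix_perm {A B : List ℕ} (h : ∀ x, x ∈ A ↔ x ∈ B) : Fix A = Fix B := by
  ext g; simp only [mem_Fix, h]

/-- The stabiliser in standard position. -/
abbrev K0 : Subgroup (Equiv.Perm Cfsg.GolayPt) := Fix [1 <<< 5, 1 <<< 0, dodec0]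

theorem out_mem {g : Equiv.Perm Cfsg.GolayPt} (hgd : g • pts dodec0 = pts dodec0) :
    g (pt 5) ∈ pts 0xfacca0 := by
  rw [mem_dodec0_compl, apply_mem_of_fixed hgd]
  decide +kernel

theorem natCard_K0 : Nat.card K0 = 660 := by
  have h := natCard_Fix_point (S := [dodec0, 1 <<< 0]) (rep := 5) (by norm_num) out1_cert
    fun g hg => out_mem (hg.2 dodec0 (by simp))
  rw [fix_perm (A := [dodec0, 1 <<< 0]) (B := [1 <<< 0, dodec0]) (by simp; tauto),
    natCard_Fix_chain.1, show popcount 0xfacca0 = 12 by decide +kernel,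
    fix_perm (A := [1 <<< 5, dodec0, 1 <<< 0]) (B := [1 <<< 5, 1 <<< 0, dodec0]) (by simp; tauto)] at h
  show Nat.card (Fix [1 <<< 5, 1 <<< 0, dodec0]) = 660
  omega

theorem natCard_K1 : Nat.card (Fix [1 <<< 1, 1 <<< 5, 1 <<< 0, dodec0]) = 60 := by
  have h := natCard_Fix_step [1 <<< 1, 1 <<< 0, dodec0] (1 <<< 5)
    (fun s => ∃ q ∈ pts 0xfacca0, s = {q})
    (fun g hg => ⟨g (pt 5), out_mem (hg.2 dodec0 (by simp)), by
      rw [pts_single (by norm_num), Finset.smul_finset_singleton, Equiv.Perm.smul_def]⟩)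
    (by
      rintro _ ⟨q, hq, rfl⟩
      obtain ⟨g, hg, hgq⟩ := exists_apply_of_pointCert chain3_cert hq
      exact ⟨g, ⟨hg.1, fun m hm => hg.2 m (by simp at hm ⊢; tauto)⟩, by
        rw [pts_single (by norm_num), smul_single_iff, hgq]⟩)
  have hset : {s : Finset Cfsg.GolayPt | ∃ q ∈ pts 0xfacca0, s = {q}}.ncard = 12 := by
    rw [show {s : Finset Cfsg.GolayPt | ∃ q ∈ pts 0xfacca0, s = {q}} =
      (fun q => ({q} : Finset Cfsg.GolayPt)) '' ↑(pts 0xfacca0) by
        ext; exact ⟨fun ⟨q, hq, e⟩ => ⟨q, hq, e.symm⟩, fun ⟨q, hq, e⟩ => ⟨q, hq, e.symm⟩⟩,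
      Set.ncard_image_of_injective _ Finset.singleton_injective, Set.ncard_coe_finset, card_pts]
    decide +kernel
  rw [hset, natCard_Fix_chain.2.1,
    fix_perm (A := [1 <<< 5, 1 <<< 1, 1 <<< 0, dodec0]) (B := [1 <<< 1, 1 <<< 5, 1 <<< 0, dodec0])
      (by simp; tauto)] at h
  omega

theorem eleven_iff : ∀ y : Cfsg.GolayPt, y ∈ pts 0x5335e ↔ y ∈ pts dodec0 ∧ y ≠ pt 0 := by
  decide +kernel

theorem apply_mem_eleven {g : Equiv.Perm Cfsg.GolayPt} (hg : g ∈ K0) (p : Cfsg.GolayPt) :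
    g p ∈ pts 0x5335e ↔ p ∈ pts 0x5335e := by
  have h0 : g (pt 0) = pt 0 := apply_eq_of_Fix hg (by norm_num) (by simp)
  rw [eleven_iff, eleven_iff, apply_mem_of_fixed (hg.2 dodec0 (by simp))]
  refine and_congr_right fun _ => not_congr ⟨fun h => g.injective (h.trans h0.symm), fun h => h ▸ h0⟩

/-- The action on the eleven points. -/
def act : K0 →* Equiv.Perm {p // p ∈ pts 0x5335e} where
  toFun g := Equiv.Perm.subtypePerm (g : Equiv.Perm Cfsg.GolayPt) (apply_mem_eleven g.2)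
  map_one' := Equiv.ext fun _ => rfl
  map_mul' _ _ := Equiv.ext fun _ => rfl

/-- A frame inside the dodecad. -/
def dFrame : Fin 7 → Cfsg.GolayPt := ![pt 0, pt 2, pt 3, pt 6, pt 8, pt 18, pt 1]

theorem isFrame_dFrame : IsFrame dFrame :=
  ⟨by decide +kernel, pts 0x401ed, pts_mem_octads (by decide +kernel), by decide +kernel,
    by decide +kernel⟩

theorem dFrame_mem : ∀ j : Fin 7, dFrame j = pt 0 ∨ dFrame j ∈ pts 0x5335e := by decide +kernel

theorem act_injective : Function.Injective act := by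
  rw [injective_iff_map_eq_one]
  intro g hg
  refine Subtype.ext (eq_one_of_frame g.2.1 isFrame_dFrame fun j => ?_)
  rcases dFrame_mem j with h | h
  · rw [h]; exact apply_eq_of_Fix g.2 (by norm_num) (by simp)
  · exact congrArg Subtype.val (Equiv.congr_fun hg ⟨_, h⟩)

theorem natCard_eleven : Nat.card {p // p ∈ pts 0x5335e} = 11 := by
  rw [Nat.card_eq_fintype_card, Fintype.card_coe, card_pts]
  decide +kernel

theorem isSimpleGroup_K0 : IsSimpleGroup K0 := by
  let _ : MulAction K0 {p // p ∈ pts 0x5335e} := MulAction.compHom _ act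
  have : FaithfulSMul K0 {p // p ∈ pts 0x5335e} :=
    ⟨fun {a b} h => act_injective (Equiv.ext h)⟩
  let p1 : {p // p ∈ pts 0x5335e} := ⟨pt 1, by decide +kernel⟩
  have hst : MulAction.stabilizer K0 p1 =
      (Fix [1 <<< 1, 1 <<< 5, 1 <<< 0, dodec0]).subgroupOf K0 := by
    ext g
    rw [Subgroup.mem_subgroupOf, mem_Fix_cons, pts_single (by norm_num), smul_single_iff]
    exact ⟨fun h => ⟨g.2, congrArg Subtype.val h⟩, fun h => Subtype.ext h.2⟩
  have horb : MulAction.orbit K0 p1 = Set.univ := by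
    refine Set.eq_of_subset_of_ncard_le (Set.subset_univ _) ?_ (Set.toFinite _)
    rw [Set.ncard_univ, natCard_eleven]
    have h := (MulAction.stabilizer K0 p1).index_mul_card
    rw [MulAction.index_stabilizer, hst, Nat.card_congr (Subgroup.subgroupOfEquivOfLe
      (fun _ hg => (mem_Fix_cons.mp hg).1)).toEquiv, natCard_K1, natCard_K0] at h
    omega
  have : MulAction.IsPretransitive K0 {p // p ∈ pts 0x5335e} := by
    refine ⟨fun x y => ?_⟩
    obtain ⟨g, hg⟩ := (horb ▸ Set.mem_univ x : x ∈ MulAction.orbit K0 p1)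
    obtain ⟨g', hg'⟩ := (horb ▸ Set.mem_univ y : y ∈ MulAction.orbit K0 p1)
    exact ⟨g' * g⁻¹, by rw [mul_smul, ← hg]; simpa using hg'⟩
  exact PSL2.isSimpleGroup_660 natCard_K0 natCard_eleven

/-- In the 3-transitive action of the smallest Mathieu group on the complementary dodecad, a point stabiliser is isomorphic to PSL(2, 11). -/
theorem result (d : Finset Cfsg.GolayPt) (hd : d ∈ Cfsg.dodecads) (p q : Cfsg.GolayPt) (hp : p ∈ d) (hq : q ∉ d) : Nonempty (↥(MulAction.stabilizer Cfsg.M24 d ⊓ MulAction.stabilizer Cfsg.M24 p ⊓ MulAction.stabilizer Cfsg.M24 q) ≃* Matrix.ProjectiveSpecialLinearGroup (Fin 2) (ZMod 11)) := by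
  obtain ⟨q', hq', hne⟩ : ∃ q', q' ∉ d ∧ q ≠ q' := by
    have h : 1 < (dᶜ).card := by
      rw [Finset.card_compl, hd.2]
      decide
    obtain ⟨q', hq', hne⟩ := Finset.exists_mem_ne h q
    exact ⟨q', Finset.mem_compl.1 hq', hne.symm⟩
  obtain ⟨t, ht, htd, htp, htq, -⟩ := exists_map_dodecad_point_pair hd hp hq hq' hne
  have hs0 : t • pts (1 <<< 0) = {p} := smul_pts_single (by norm_num) htp
  have hs5 : t • pts (1 <<< 5) = {q} := smul_pts_single (by norm_num) htq
  have hiff : ∀ x : ↥Cfsg.M24,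
      x ∈ MulAction.stabilizer Cfsg.M24 d ⊓ MulAction.stabilizer Cfsg.M24 p ⊓
        MulAction.stabilizer Cfsg.M24 q ↔
      t⁻¹ * (x : Equiv.Perm Cfsg.GolayPt) * t ∈ K0 := by
    intro x
    simp only [Subgroup.mem_inf, mem_stabilizer_set_iff, mem_stabilizer_point_iff, mem_Fix,
      List.forall_mem_cons, List.not_mem_nil, IsEmpty.forall_iff, implies_true, and_true,
      smul_conj_iff, hs0, hs5, htd]
    have hm : t⁻¹ * (x : Equiv.Perm Cfsg.GolayPt) * t ∈ Cfsg.M24 :=
      mul_mem (mul_mem (inv_mem ht) x.2) ht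
    tauto
  have := isSimpleGroup_K0
  have := Fact.mk (show Nat.Prime 11 by norm_num)
  obtain ⟨e⟩ := SmallOrders.PSLPrime.mulEquiv_psl (G := K0) (F := ZMod 11) (p := 11) 5 4 2
    [11, 10, 5, 7, 8, 2, 9, 3, 4, 6, 1, 0] false
    (by decide +kernel) (by decide +kernel) (by norm_num) (by norm_num) (by norm_num) (ZMod.card 11)
    (natCard_K0.trans (by norm_num)) (fun e => absurd e (by decide)) (fun e => absurd e (by decide))
  exact ⟨(conjEquiv (K := K0) (fun g hg => hg.1) t ht hiff).trans e⟩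

end Cfsg.Agent.S1601
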