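import Cfsg.Statements.S1603
import Cfsg.Agent.Lib.GolayOrbits.M11Invol.Basic
-- import your own Cfsg.Agent.* helpers here

set_option autoImplicit false
open scoped Pointwise
open Cfsg

namespace Cfsg.Agent.S1603

theorem mem_point_stab {t : Equiv.Perm Cfsg.GolayPt} (ht : t ∈ Cfsg.M24) (x : ↥Cfsg.M24) :
    x ∈ MulAction.stabilizer Cfsg.M24 (t • Golay.pts GolayOrbits.dodec0) ⊓
        MulAction.stabilizer Cfsg.M24 (t (Golay.pt 0)) ↔
      t⁻¹ * (x : Equiv.Perm Cfsg.GolayPt) * t ∈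
        GolayOrbits.Fix [1 <<< 0, GolayOrbits.dodec0] := by
  have hm : t⁻¹ * (x : Equiv.Perm Cfsg.GolayPt) * t ∈ Cfsg.M24 :=
    mul_mem (mul_mem (inv_mem ht) x.2) ht
  have hs : t • Golay.pts (1 <<< 0) = {t (Golay.pt 0)} :=
    GolayOrbits.smul_pts_single (i := 0) (by norm_num) rfl
  rw [Subgroup.mem_inf, GolayOrbits.mem_stabilizer_set_iff,
    GolayOrbits.mem_stabilizer_point_iff, GolayOrbits.mem_Fix_cons, GolayOrbits.mem_Fix_cons,
    GolayOrbits.Fix_nil, GolayOrbits.smul_conj_iff, GolayOrbits.smul_conj_iff, hs]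
  exact ⟨fun h => ⟨⟨hm, h.1⟩, h.2⟩, fun h => ⟨h.1.2, h.2⟩⟩

/-- A centraliser in a conjugate of the point stabiliser. -/
noncomputable def centEquiv {H : Subgroup ↥Cfsg.M24} {x : ↥H} (u : Equiv.Perm Cfsg.GolayPt)
    (hu : u ∈ Cfsg.M24)
    (hH : ∀ y : ↥Cfsg.M24, y ∈ H ↔
      u⁻¹ * (y : Equiv.Perm Cfsg.GolayPt) * u ∈ GolayOrbits.Fix [1 <<< 0, GolayOrbits.dodec0])
    (hx : ((x : ↥Cfsg.M24) : Equiv.Perm Cfsg.GolayPt) =
      u * Golay.toPerm GolayOrbits.invol0 * u⁻¹) :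
    ↥(Subgroup.centralizer ({x} : Set ↥H)) ≃* ↥GolayOrbits.Cent0 where
  toFun y := ⟨u⁻¹ * ((y : ↥H) : ↥Cfsg.M24) * u, GolayOrbits.mem_Cent0.mpr ⟨(hH _).mp (y : ↥H).2, by
    have h := congrArg (fun z : ↥H => ((z : ↥Cfsg.M24) : Equiv.Perm Cfsg.GolayPt))
      (Subgroup.mem_centralizer_singleton_iff.mp y.2)
    simp only [Subgroup.coe_mul, hx] at h
    have h' := congrArg (fun z => u⁻¹ * z * u) h
    simpa [mul_assoc] using h'⟩⟩
  invFun z := ⟨⟨⟨u * z * u⁻¹, mul_mem (mul_mem hu (GolayOrbits.mem_Cent0.mp z.2).1.1) (inv_mem hu)⟩,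
    (hH _).mpr (by
      show u⁻¹ * (u * (z : Equiv.Perm Cfsg.GolayPt) * u⁻¹) * u ∈ _
      simpa [mul_assoc] using (GolayOrbits.mem_Cent0.mp z.2).1)⟩,
    Subgroup.mem_centralizer_singleton_iff.mpr (by
      refine Subtype.ext (Subtype.ext ?_)
      simp only [Subgroup.coe_mul, hx]
      have h := congrArg (fun w => u * w * u⁻¹) (GolayOrbits.mem_Cent0.mp z.2).2
      simpa [mul_assoc] using h)⟩
  left_inv y := Subtype.ext (Subtype.ext (Subtype.ext (by simp [mul_assoc])))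
  right_inv z := Subtype.ext (by simp [mul_assoc])
  map_mul' y y' := Subtype.ext (by simp [mul_assoc])

/-- Involution centralisers in the smallest Mathieu group are isomorphic to GL(2, 3). -/
theorem result (d : Finset Cfsg.GolayPt) (hd : d ∈ Cfsg.dodecads) (p : Cfsg.GolayPt) (hp : p ∈ d) (x : ↥(MulAction.stabilizer Cfsg.M24 d ⊓ MulAction.stabilizer Cfsg.M24 p)) (hx : orderOf x = 2) : Nonempty (↥(Subgroup.centralizer ({x} : Set ↥(MulAction.stabilizer Cfsg.M24 d ⊓ MulAction.stabilizer Cfsg.M24 p))) ≃* GL (Fin 2) (ZMod 3)) := by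
  obtain ⟨t, ht, rfl, rfl⟩ := GolayOrbits.exists_map_dodecad_point hd hp
  obtain ⟨⟨x, hxM⟩, hxH⟩ := x
  have hxF : t⁻¹ * x * t ∈ GolayOrbits.Fix [1 <<< 0, GolayOrbits.dodec0] :=
    (mem_point_stab ht ⟨x, hxM⟩).mp hxH
  have hx' : x * x = 1 ∧ x ≠ 1 := by
    rw [← Subgroup.orderOf_coe, ← Subgroup.orderOf_coe] at hx
    change orderOf x = 2 at hx
    exact ⟨by have := pow_orderOf_eq_one x; rwa [hx, pow_two] at this,
      fun h => by simp [h] at hx⟩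
  obtain ⟨h, hh, hhx⟩ := GolayOrbits.exists_conj_invol hxF
    (by calc t⁻¹ * x * t * (t⁻¹ * x * t) = t⁻¹ * (x * x) * t := by group
          _ = 1 := by rw [hx'.1]; group)
    (fun he => hx'.2 (by
      calc x = t * (t⁻¹ * x * t) * t⁻¹ := by group
        _ = 1 := by rw [he]; group))
  have hu : t * h ∈ Cfsg.M24 := mul_mem ht hh.1
  have hux : x = (t * h) * Golay.toPerm GolayOrbits.invol0 * (t * h)⁻¹ := by
    calc x = t * (t⁻¹ * x * t) * t⁻¹ := by group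
      _ = (t * h) * Golay.toPerm GolayOrbits.invol0 * (t * h)⁻¹ := by rw [← hhx]; group
  obtain ⟨e⟩ := GolayOrbits.cent0_iso
  refine ⟨(centEquiv (t * h) hu ?_ hux).trans e⟩
  intro y
  rw [mem_point_stab ht, show (t * h)⁻¹ * (y : Equiv.Perm Cfsg.GolayPt) * (t * h) =
    h⁻¹ * (t⁻¹ * y * t) * h by group]
  exact ⟨fun hy => mul_mem (mul_mem (inv_mem hh) hy) hh, fun hy => by
    simpa [mul_assoc] using mul_mem (mul_mem hh hy) (inv_mem hh)⟩

end Cfsg.Agent.S1603
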