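import Cfsg.Statements.S1604
import Cfsg.Agent.Lib.GolayOrbits.Octad
-- import your own Cfsg.Agent.* helpers here

set_option autoImplicit false
open scoped Pointwise
open Cfsg

namespace Cfsg.Agent.S1604

open Cfsg.Agent.Golay Cfsg.Agent.GolayOrbits

theorem octadPairClass (k m : ℕ) (hm : isCode m = true) :
    (pts m ∈ Cfsg.octads ∧ pt 23 ∈ pts m ∧ pt 0 ∈ pts m ∧ (pts octad0 ∩ pts m).card = k) ↔
      (popcount m == 8 && m.testBit 23 && m.testBit 0 && popcount (octad0 &&& m) == k) = true := by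
  rw [mem_octads_iff, pts_mem_supports_iff (lt_of_isCode hm), mem_pts_iff (by norm_num),
    mem_pts_iff (by norm_num), card_inter_pts, card_pts]
  simp [hm, and_assoc]

theorem cert2 : codeCert [octad0, 1 <<< 23, 1 <<< 0] oPQ2Gens oPQ2Rep oPQ2Steps oPQ2Set
    (fun m => popcount m == 8 && m.testBit 23 && m.testBit 0 && popcount (octad0 &&& m) == 2) =
      true := by decide +kernel

theorem cert4 : codeCert [octad0, 1 <<< 23, 1 <<< 0] oPQ4Gens oPQ4Rep oPQ4Steps oPQ4Set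
    (fun m => popcount m == 8 && m.testBit 23 && m.testBit 0 && popcount (octad0 &&& m) == 4) =
      true := by decide +kernel

theorem orbit_of_pairClass {a b : Finset Cfsg.GolayPt} (ha : a ∈ Cfsg.octads)
    (hb : b ∈ Cfsg.octads) (ha1 : pt 23 ∈ a) (ha2 : pt 0 ∈ a) (hb1 : pt 23 ∈ b) (hb2 : pt 0 ∈ b)
    (h : (pts octad0 ∩ a).card = (pts octad0 ∩ b).card) :
    ∃ g ∈ Fix [octad0, 1 <<< 23, 1 <<< 0], g • a = b := by
  have hp : ∀ {x k}, x ∈ Cfsg.octads → pt 23 ∈ x → pt 0 ∈ x → (pts octad0 ∩ x).card = k →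
      (popcount (maskOf x) == 8 && (maskOf x).testBit 23 && (maskOf x).testBit 0 &&
        popcount (octad0 &&& maskOf x) == k) = true := fun {x k} hx h1 h2 hk => by
    simp only [Bool.and_eq_true, beq_iff_eq, popcount_maskOf, popcount_and_maskOf]
    exact ⟨⟨⟨hx.2, (testBit_maskOf (by norm_num) x).mpr h1⟩,
      (testBit_maskOf (by norm_num) x).mpr h2⟩, hk⟩
  rcases octad_inter_octad octad0_mem ha with h0 | h2 | h4 | he
  · rw [Finset.card_eq_zero] at h0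
    exact absurd (Finset.mem_inter.mpr ⟨(by decide +kernel : pt 23 ∈ pts octad0), ha1⟩)
      (by simp [h0])
  · exact orbit_codeword cert2 ha.1 (hp ha ha1 ha2 h2) hb.1 (hp hb hb1 hb2 (h ▸ h2))
  · exact orbit_codeword cert4 ha.1 (hp ha ha1 ha2 h4) hb.1 (hp hb hb1 hb2 (h ▸ h4))
  · subst he
    refine ⟨1, one_mem _, ?_⟩
    rw [one_smul]
    refine octad_eq_of_five octad0_mem hb ?_
    rw [← h, Finset.inter_self, octad0_mem.2]
    norm_num

/-- A hexad stabiliser in the two-point stabiliser has orbits of sizes 1, 16, 60 on the 77 hexads: the 16 hexads disjoint from it and the 60 meeting it in two points. -/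
theorem result (p q : Cfsg.GolayPt) (hpq : p ≠ q) (o o' o'' : Finset Cfsg.GolayPt) (ho : o ∈ Cfsg.octads) (ho' : o' ∈ Cfsg.octads) (ho'' : o'' ∈ Cfsg.octads) (hp : p ∈ o ∧ p ∈ o' ∧ p ∈ o'') (hq : q ∈ o ∧ q ∈ o' ∧ q ∈ o'') (h : (o ∩ o').card = (o ∩ o'').card) : {x : Finset Cfsg.GolayPt | x ∈ Cfsg.octads ∧ p ∈ x ∧ q ∈ x ∧ (o ∩ x).card = 2}.ncard = 16 ∧ {x : Finset Cfsg.GolayPt | x ∈ Cfsg.octads ∧ p ∈ x ∧ q ∈ x ∧ (o ∩ x).card = 4}.ncard = 60 ∧ ∃ g : Equiv.Perm Cfsg.GolayPt, g ∈ Cfsg.M24 ∧ g p = p ∧ g q = q ∧ g • o = o ∧ g • o' = o'' := by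
  obtain ⟨t, ht, hto, htp, htq⟩ := exists_map_octad_pair_in ho hp.1 hq.1 hpq
  subst hto htp htq
  refine ⟨?_, ?_, ?_⟩
  all_goals try
    rw [ncard_smul_congr t (Q := fun s => s ∈ Cfsg.octads ∧ pt 23 ∈ s ∧ pt 0 ∈ s ∧
      (pts octad0 ∩ s).card = _) fun s => by
        rw [smul_mem_octads_iff ht, apply_mem_smul_iff, apply_mem_smul_iff, card_smul_inter]]
    rw [ncard_eq_countSpan (fun s hs => hs.1.1) (octadPairClass _)]
    decide +kernel
  have hin : ∀ {x}, x ∈ Cfsg.octads → t (pt 23) ∈ x → t (pt 0) ∈ x →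
      (t⁻¹ • x ∈ Cfsg.octads ∧ pt 23 ∈ t⁻¹ • x ∧ pt 0 ∈ t⁻¹ • x ∧
        (pts octad0 ∩ t⁻¹ • x).card = (t • pts octad0 ∩ x).card) := fun {x} hx h1 h2 =>
    ⟨smul_mem_octads (inv_mem ht) hx, by rw [← apply_mem_smul_iff t, smul_inv_smul]; exact h1,
      by rw [← apply_mem_smul_iff t, smul_inv_smul]; exact h2,
      by rw [← card_smul_inter t, smul_inv_smul]⟩
  obtain ⟨h1, h2, h3, h4⟩ := hin ho' hp.2.1 hq.2.1
  obtain ⟨h1', h2', h3', h4'⟩ := hin ho'' hp.2.2 hq.2.2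
  rw [← h4, ← h4'] at h
  obtain ⟨g, hg, hfix, hgo⟩ := exists_map_of_standard (S := [octad0, 1 <<< 23, 1 <<< 0]) ht
    (orbit_of_pairClass h1 h1' h2 h3 h2' h3' h)
  refine ⟨g, hg, ?_, ?_, hfix octad0 (by simp), hgo⟩
  all_goals refine apply_eq_of_smul_single ?_
  · have h23 := hfix (1 <<< 23) (by simp)
    rwa [smul_pts_single (by norm_num) rfl] at h23
  · have h0 := hfix (1 <<< 0) (by simp)
    rwa [smul_pts_single (by norm_num) rfl] at h0

end Cfsg.Agent.S1604
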