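import Cfsg.Statements.S1605
import Cfsg.Agent.Lib.GolayOrbits.Octad
-- import your own Cfsg.Agent.* helpers here

set_option autoImplicit false
open scoped Pointwise
open Cfsg

namespace Cfsg.Agent.S1605

open Cfsg.Agent.Golay Cfsg.Agent.GolayOrbits

theorem exists_octad_in_out {p q : Cfsg.GolayPt} (hpq : p ≠ q) :
    ∃ o ∈ Cfsg.octads, p ∈ o ∧ q ∉ o := by
  obtain ⟨e, he⟩ := exists_not_mem octad0_mem
  obtain ⟨a, ha⟩ : ∃ a, a ∈ pts octad0 := ⟨pt 23, by decide +kernel⟩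
  have hM := Cfsg.Agent.Golay.five_transitive
  have h2 := MulAction.isMultiplyPretransitive_of_le (G := Cfsg.M24) (α := Cfsg.GolayPt) (m := 2)
    (n := 5) (by norm_num) (by rw [Nat.card_eq_fintype_card]; decide)
  have hae : a ≠ e := fun h => he (h ▸ ha)
  obtain ⟨g, hga, hge⟩ := MulAction.is_two_pretransitive_iff.mp h2 hae hpq
  refine ⟨(g : Equiv.Perm Cfsg.GolayPt) • pts octad0, smul_mem_octads g.2 octad0_mem, ?_, ?_⟩
  · rw [← hga]; exact Finset.smul_mem_smul_finset ha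
  · rw [← hge]; exact fun h => he ((apply_mem_smul_iff _).mp h)

theorem octadClass (m : ℕ) (hm : isCode m = true) :
    (pts m ∈ Cfsg.octads ∧ pt 23 ∈ pts m ∧ pt 4 ∉ pts m) ↔
      (popcount m == 8 && m.testBit 23 && !m.testBit 4) = true := by
  rw [mem_octads_iff, pts_mem_supports_iff (lt_of_isCode hm), mem_pts_iff (by norm_num),
    mem_pts_iff (by norm_num), card_pts]
  simp [hm, and_assoc]

theorem octadPairClass (k m : ℕ) (hm : isCode m = true) :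
    ((pts m ∈ Cfsg.octads ∧ pt 23 ∈ pts m ∧ pt 4 ∉ pts m) ∧ (pts octad0 ∩ pts m).card = k) ↔
      (popcount m == 8 && m.testBit 23 && !m.testBit 4 && popcount (octad0 &&& m) == k) =
        true := by
  rw [octadClass m hm, card_inter_pts]
  simp [and_assoc]

theorem cert2 : codeCert [octad0, 1 <<< 23, 1 <<< 4] oPE2Gens oPE2Rep oPE2Steps oPE2Set
    (fun m => popcount m == 8 && m.testBit 23 && !m.testBit 4 && popcount (octad0 &&& m) == 2) =
      true := by decide +kernel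

theorem cert4 : codeCert [octad0, 1 <<< 23, 1 <<< 4] oPE4Gens oPE4Rep oPE4Steps oPE4Set
    (fun m => popcount m == 8 && m.testBit 23 && !m.testBit 4 && popcount (octad0 &&& m) == 4) =
      true := by decide +kernel

theorem orbit_of_pairClass {a b : Finset Cfsg.GolayPt} (ha : a ∈ Cfsg.octads)
    (hb : b ∈ Cfsg.octads) (ha1 : pt 23 ∈ a) (ha2 : pt 4 ∉ a) (hb1 : pt 23 ∈ b) (hb2 : pt 4 ∉ b)
    (h : (pts octad0 ∩ a).card = (pts octad0 ∩ b).card) :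
    ∃ g ∈ Fix [octad0, 1 <<< 23, 1 <<< 4], g • a = b := by
  have hp : ∀ {x k}, x ∈ Cfsg.octads → pt 23 ∈ x → pt 4 ∉ x → (pts octad0 ∩ x).card = k →
      (popcount (maskOf x) == 8 && (maskOf x).testBit 23 && !(maskOf x).testBit 4 &&
        popcount (octad0 &&& maskOf x) == k) = true := fun {x k} hx h1 h2 hk => by
    simp only [Bool.and_eq_true, beq_iff_eq, popcount_maskOf, popcount_and_maskOf,
      Bool.not_eq_true', ← Bool.not_eq_true]
    exact ⟨⟨⟨hx.2, (testBit_maskOf (by norm_num) x).mpr h1⟩,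
      fun h => h2 ((testBit_maskOf (by norm_num) x).mp h)⟩, hk⟩
  rcases octad_inter_octad octad0_mem ha with h0 | h2 | h4 | he
  · rw [Finset.card_eq_zero] at h0
    exact absurd (Finset.mem_inter.mpr ⟨(by decide +kernel : pt 23 ∈ pts octad0), ha1⟩)
      (by simp [h0])
  · exact orbit_codeword cert2 ha.1 (hp ha ha1 ha2 h2) hb.1 (hp hb hb1 hb2 (h ▸ h2))
  · exact orbit_codeword cert4 ha.1 (hp ha ha1 ha2 h4) hb.1 (hp hb hb1 hb2 (h ▸ h4))
  · subst he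
    refine ⟨1, one_mem _, ?_⟩
    rw [one_smul]
    refine octad_eq_of_five octad0_mem hb ?_
    rw [← h, Finset.inter_self, octad0_mem.2]
    norm_num

/-- The two-point stabiliser acts on the 176 octads through the first point avoiding the second with rank 3 and subdegrees 1, 70, 105 (intersections 8, 2, 4). -/
theorem result (p q : Cfsg.GolayPt) (hpq : p ≠ q) : {x : Finset Cfsg.GolayPt | (x ∈ Cfsg.octads ∧ p ∈ x ∧ q ∉ x)}.ncard = 176 ∧ (∀ o o' : Finset Cfsg.GolayPt, (o ∈ Cfsg.octads ∧ p ∈ o ∧ q ∉ o) → (o' ∈ Cfsg.octads ∧ p ∈ o' ∧ q ∉ o') → ∃ g : Equiv.Perm Cfsg.GolayPt, g ∈ Cfsg.M24 ∧ g p = p ∧ g q = q ∧ g • o = o') ∧ ∀ o : Finset Cfsg.GolayPt, (o ∈ Cfsg.octads ∧ p ∈ o ∧ q ∉ o) → {x : Finset Cfsg.GolayPt | (x ∈ Cfsg.octads ∧ p ∈ x ∧ q ∉ x) ∧ (o ∩ x).card = 2}.ncard = 70 ∧ {x : Finset Cfsg.GolayPt | (x ∈ Cfsg.octads ∧ p ∈ x ∧ q ∉ x) ∧ (o ∩ x).card = 4}.ncard = 105 ∧ ∀ o' o'' : Finset Cfsg.GolayPt,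 (o' ∈ Cfsg.octads ∧ p ∈ o' ∧ q ∉ o') → (o'' ∈ Cfsg.octads ∧ p ∈ o'' ∧ q ∉ o'') → (o ∩ o').card = (o ∩ o'').card → ∃ g : Equiv.Perm Cfsg.GolayPt, g ∈ Cfsg.M24 ∧ g p = p ∧ g q = q ∧ g • o = o ∧ g • o' = o'' := by
  obtain ⟨o₀, ho₀, hp₀, hq₀⟩ : ∃ o ∈ Cfsg.octads, p ∈ o ∧ q ∉ o := exists_octad_in_out hpq
  refine ⟨?_, fun o o' ho ho' => ?_, fun o ho => ⟨?_, ?_, fun o' o'' ho' ho'' h => ?_⟩⟩
  · obtain ⟨t, ht, -, htp, htq⟩ := exists_map_octad_in_out ho₀ hp₀ hq₀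
    subst htp htq
    rw [ncard_smul_congr t (Q := fun s => s ∈ Cfsg.octads ∧ pt 23 ∈ s ∧ pt 4 ∉ s) fun s => by
      rw [smul_mem_octads_iff ht, apply_mem_smul_iff, apply_mem_smul_iff]]
    rw [ncard_eq_countSpan (fun s hs => hs.1.1) octadClass]
    decide +kernel
  · obtain ⟨t, ht, hto, htp, htq⟩ := exists_map_octad_in_out ho.1 ho.2.1 ho.2.2
    obtain ⟨u, hu, huo, hup, huq⟩ := exists_map_octad_in_out ho'.1 ho'.2.1 ho'.2.2
    refine ⟨u * t⁻¹, mul_mem hu (inv_mem ht), ?_, ?_, ?_⟩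
    · rw [Equiv.Perm.mul_apply]
      conv_lhs => rw [← htp]
      simp [hup]
    · rw [Equiv.Perm.mul_apply]
      conv_lhs => rw [← htq]
      simp [huq]
    · rw [mul_smul, ← hto, inv_smul_smul, huo]
  all_goals obtain ⟨t, ht, hto, htp, htq⟩ := exists_map_octad_in_out ho.1 ho.2.1 ho.2.2
  all_goals subst hto htp htq
  all_goals try
    rw [ncard_smul_congr t (Q := fun s => (s ∈ Cfsg.octads ∧ pt 23 ∈ s ∧ pt 4 ∉ s) ∧
      (pts octad0 ∩ s).card = _) fun s => by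
        rw [smul_mem_octads_iff ht, apply_mem_smul_iff, apply_mem_smul_iff, card_smul_inter]]
    rw [ncard_eq_countSpan (fun s hs => hs.1.1.1) (octadPairClass _)]
    decide +kernel
  have hin : ∀ {x}, (x ∈ Cfsg.octads ∧ t (pt 23) ∈ x ∧ t (pt 4) ∉ x) →
      (t⁻¹ • x ∈ Cfsg.octads ∧ pt 23 ∈ t⁻¹ • x ∧ pt 4 ∉ t⁻¹ • x ∧
        (pts octad0 ∩ t⁻¹ • x).card = (t • pts octad0 ∩ x).card) := fun {x} ⟨hx, h1, h2⟩ =>
    ⟨smul_mem_octads (inv_mem ht) hx, by rw [← apply_mem_smul_iff t, smul_inv_smul]; exact h1,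
      by rw [← apply_mem_smul_iff t, smul_inv_smul]; exact h2,
      by rw [← card_smul_inter t, smul_inv_smul]⟩
  obtain ⟨h1, h2, h3, h4⟩ := hin ho'
  obtain ⟨h1', h2', h3', h4'⟩ := hin ho''
  rw [← h4, ← h4'] at h
  obtain ⟨g, hg, hfix, hgo⟩ := exists_map_of_standard (S := [octad0, 1 <<< 23, 1 <<< 4]) ht
    (orbit_of_pairClass h1 h1' h2 h3 h2' h3' h)
  refine ⟨g, hg, ?_, ?_, hfix octad0 (by simp), hgo⟩
  all_goals refine apply_eq_of_smul_single ?_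
  · have h23 := hfix (1 <<< 23) (by simp)
    rwa [smul_pts_single (by norm_num) rfl] at h23
  · have h44 := hfix (1 <<< 4) (by simp)
    rwa [smul_pts_single (by norm_num) rfl] at h44

end Cfsg.Agent.S1605
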