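import Cfsg.Statements.S1606
import Cfsg.Agent.Lib.GolayOrbits.M22Index
-- import your own Cfsg.Agent.* helpers here

set_option autoImplicit false
open scoped Pointwise
open Cfsg

namespace Cfsg.Agent.S1606

/-- The stabiliser of two points in the group of the length-24 code has no subgroups of index 56 or 210. -/
theorem result (p q : Cfsg.GolayPt) (hpq : p ≠ q) (H : Subgroup ↥(MulAction.stabilizer Cfsg.M24 p ⊓ MulAction.stabilizer Cfsg.M24 q)) : H.index ≠ 56 ∧ H.index ≠ 210 := by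
  obtain ⟨t, ht, rfl, rfl⟩ := Golay.exists_map_two (show Golay.pt 23 ≠ Golay.pt 0 by decide +kernel) hpq
  let S := MulAction.stabilizer Cfsg.M24 (t (Golay.pt 23)) ⊓
    MulAction.stabilizer Cfsg.M24 (t (Golay.pt 0))
  let φ : ↥S →* Equiv.Perm Cfsg.GolayPt :=
    (MulAut.conj t⁻¹).toMonoidHom.comp (Cfsg.M24.subtype.comp S.subtype)
  have hφ : ∀ y : ↥S, φ y = t⁻¹ * ((y : ↥Cfsg.M24) : Equiv.Perm Cfsg.GolayPt) * t := fun y => by
    simp [φ]
  have hinj : Function.Injective φ := fun a b h => by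
    rw [hφ, hφ] at h
    exact Subtype.ext (Subtype.ext (mul_left_cancel (mul_right_cancel h)))
  have hle : φ.range ≤ GolayOrbits.M22Stab := by
    rintro _ ⟨y, rfl⟩
    rw [hφ]
    refine Subgroup.mem_inf.mpr ⟨Subgroup.mem_inf.mpr
      ⟨mul_mem (mul_mem (inv_mem ht) y.1.2) ht, ?_⟩, ?_⟩
    · show t⁻¹ (((y : ↥Cfsg.M24) : Equiv.Perm Cfsg.GolayPt) (t (Golay.pt 23))) = Golay.pt 23
      rw [show ((y : ↥Cfsg.M24) : Equiv.Perm Cfsg.GolayPt) (t (Golay.pt 23)) = t (Golay.pt 23)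
        from y.2.1, Equiv.Perm.coe_inv, Equiv.symm_apply_apply]
    · show t⁻¹ (((y : ↥Cfsg.M24) : Equiv.Perm Cfsg.GolayPt) (t (Golay.pt 0))) = Golay.pt 0
      rw [show ((y : ↥Cfsg.M24) : Equiv.Perm Cfsg.GolayPt) (t (Golay.pt 0)) = t (Golay.pt 0)
        from y.2.2, Equiv.Perm.coe_inv, Equiv.symm_apply_apply]
  have hne : t (Golay.pt 23) ≠ t (Golay.pt 0) := hpq
  have hS : Nat.card ↥S = 443520 := by
    rw [← Golay.natCard_m22 hne]
    exact (Nat.card_congr (Golay.infStabilizerEquiv₂ _ _).toEquiv).symm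
  obtain ⟨h1, h2⟩ := GolayOrbits.not_card_7920_2112 (H := H.map φ)
    (fun g hg => hle (Subgroup.map_le_range φ H hg))
  rw [Subgroup.card_map_of_injective hinj] at h1 h2
  have h := H.index_mul_card
  rw [show Nat.card ↥(MulAction.stabilizer Cfsg.M24 (t (Golay.pt 23)) ⊓
    MulAction.stabilizer Cfsg.M24 (t (Golay.pt 0))) = 443520 from hS] at h
  refine ⟨fun he => h1 ?_, fun he => h2 ?_⟩
  · rw [he] at h
    exact Nat.eq_of_mul_eq_mul_left (show 0 < 56 by norm_num) (h.trans (by norm_num))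
  · rw [he] at h
    exact Nat.eq_of_mul_eq_mul_left (show 0 < 210 by norm_num) (h.trans (by norm_num))

end Cfsg.Agent.S1606
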