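import Cfsg.Statements.S1608
import Cfsg.Agent.Lib.GolayOrbits.Octad
-- import your own Cfsg.Agent.* helpers here

set_option autoImplicit false
open scoped Pointwise
open Cfsg

namespace Cfsg.Agent.S1608

open Cfsg.Agent.Golay Cfsg.Agent.GolayOrbits

theorem octadPointClass (k m : ℕ) (hm : isCode m = true) :
    (pts m ∈ Cfsg.octads ∧ pt 4 ∉ pts m ∧ (pts octad0 ∩ pts m).card = k) ↔
      (popcount m == 8 && !m.testBit 4 && popcount (octad0 &&& m) == k) = true := by
  rw [mem_octads_iff, pts_mem_supports_iff (lt_of_isCode hm), mem_pts_iff (by norm_num),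
    card_inter_pts, card_pts]
  simp [hm, and_assoc]

theorem cert0 : codeCert [octad0, 1 <<< 4] oE0Gens oE0Rep oE0Steps oE0Set
    (fun m => popcount m == 8 && !m.testBit 4 && popcount (octad0 &&& m) == 0) = true := by
  decide +kernel

theorem cert2 : codeCert [octad0, 1 <<< 4] oE2Gens oE2Rep oE2Steps oE2Set
    (fun m => popcount m == 8 && !m.testBit 4 && popcount (octad0 &&& m) == 2) = true := by
  decide +kernel

theorem cert4 : codeCert [octad0, 1 <<< 4] oE4Gens oE4Rep oE4Steps oE4Set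
    (fun m => popcount m == 8 && !m.testBit 4 && popcount (octad0 &&& m) == 4) = true := by
  decide +kernel

theorem orbit_of_pointClass {a b : Finset Cfsg.GolayPt} (ha : a ∈ Cfsg.octads)
    (hb : b ∈ Cfsg.octads) (ha1 : pt 4 ∉ a) (hb1 : pt 4 ∉ b)
    (h : (pts octad0 ∩ a).card = (pts octad0 ∩ b).card) :
    ∃ g ∈ Fix [octad0, 1 <<< 4], g • a = b := by
  have hp : ∀ {x k}, x ∈ Cfsg.octads → pt 4 ∉ x → (pts octad0 ∩ x).card = k →
      (popcount (maskOf x) == 8 && !(maskOf x).testBit 4 &&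
        popcount (octad0 &&& maskOf x) == k) = true := fun {x k} hx h1 hk => by
    simp [popcount_maskOf, hx.2, ← Bool.not_eq_true, testBit_maskOf, h1, popcount_and_maskOf, hk]
  rcases octad_inter_octad octad0_mem ha with h0 | h2 | h4 | he
  · exact orbit_codeword cert0 ha.1 (hp ha ha1 h0) hb.1 (hp hb hb1 (h ▸ h0))
  · exact orbit_codeword cert2 ha.1 (hp ha ha1 h2) hb.1 (hp hb hb1 (h ▸ h2))
  · exact orbit_codeword cert4 ha.1 (hp ha ha1 h4) hb.1 (hp hb hb1 (h ▸ h4))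
  · subst he
    refine ⟨1, one_mem _, ?_⟩
    rw [one_smul]
    refine octad_eq_of_five octad0_mem hb ?_
    rw [← h, Finset.inter_self, octad0_mem.2]
    norm_num

/-- The point stabiliser acts on the 506 octads avoiding the point with rank 4 and subdegrees 1, 15, 210, 280, the suborbits being given by intersection size with the fixed octad. -/
theorem result (x : Cfsg.GolayPt) (o : Finset Cfsg.GolayPt) (ho : o ∈ Cfsg.octads) (hx : x ∉ o) : {o' : Finset Cfsg.GolayPt | o' ∈ Cfsg.octads ∧ x ∉ o' ∧ (o ∩ o').card = 0}.ncard = 15 ∧ {o' : Finset Cfsg.GolayPt | o' ∈ Cfsg.octads ∧ x ∉ o' ∧ (o ∩ o').card = 4}.ncard = 210 ∧ {o' : Finset Cfsg.GolayPt | o' ∈ Cfsg.octads ∧ x ∉ o' ∧ (o ∩ o').card = 2}.ncard = 280 ∧ ∀ o' o'' : Finset Cfsg.GolayPt, o' ∈ Cfsg.octads → o'' ∈ Cfsg.octads → x ∉ o' → x ∉ o'' → (o ∩ o').card = (o ∩ o'').card → ∃ g : Equiv.Perm Cfsg.GolayPt, g ∈ Cfsg.M24 ∧ g x = x ∧ g • o = o ∧ g • o' = o'' := by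
  obtain ⟨t, ht, hto, htp⟩ := exists_map_octad_point_out ho hx
  subst hto htp
  refine ⟨?_, ?_, ?_, fun o' o'' ho' ho'' hx' hx'' h => ?_⟩
  all_goals try
    rw [ncard_smul_congr t (Q := fun s => s ∈ Cfsg.octads ∧ pt 4 ∉ s ∧
      (pts octad0 ∩ s).card = _) fun s => by
        rw [smul_mem_octads_iff ht, apply_mem_smul_iff, card_smul_inter]]
    rw [ncard_eq_countSpan (fun s hs => hs.1.1) (octadPointClass _)]
    decide +kernel
  have hin : ∀ {x}, x ∈ Cfsg.octads → t (pt 4) ∉ x →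
      (t⁻¹ • x ∈ Cfsg.octads ∧ pt 4 ∉ t⁻¹ • x ∧
        (pts octad0 ∩ t⁻¹ • x).card = (t • pts octad0 ∩ x).card) := fun {x} hx h1 =>
    ⟨smul_mem_octads (inv_mem ht) hx, by rw [← apply_mem_smul_iff t, smul_inv_smul]; exact h1,
      by rw [← card_smul_inter t, smul_inv_smul]⟩
  obtain ⟨h1, h2, h4⟩ := hin ho' hx'
  obtain ⟨h1', h2', h4'⟩ := hin ho'' hx''
  rw [← h4, ← h4'] at h
  obtain ⟨g, hg, hfix, hgo⟩ := exists_map_of_standard (S := [octad0, 1 <<< 4]) ht
    (orbit_of_pointClass h1 h1' h2 h2' h)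
  refine ⟨g, hg, apply_eq_of_smul_single ?_, hfix octad0 (by simp), hgo⟩
  have h44 := hfix (1 <<< 4) (by simp)
  rwa [smul_pts_single (by norm_num) rfl] at h44

end Cfsg.Agent.S1608
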