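import Cfsg.Statements.S1609
import Cfsg.Agent.Lib.GolayOrbits.M23Index
-- import your own Cfsg.Agent.* helpers here

set_option autoImplicit false
open scoped Pointwise
open Cfsg

namespace Cfsg.Agent.S1609

/-- Subgroups of index 253 in the Mathieu group of degree 23 are exactly the duad stabilisers and the heptad stabilisers. -/
theorem result (x : Cfsg.GolayPt) (H : Subgroup ↥(MulAction.stabilizer Cfsg.M24 x)) (hH : H.index = 253) : (∃ s : Finset Cfsg.GolayPt, s.card = 2 ∧ x ∉ s ∧ H = (MulAction.stabilizer Cfsg.M24 s).subgroupOf (MulAction.stabilizer Cfsg.M24 x)) ∨ ∃ o ∈ Cfsg.octads, x ∈ o ∧ H = (MulAction.stabilizer Cfsg.M24 o).subgroupOf (MulAction.stabilizer Cfsg.M24 x) := by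
  obtain ⟨t, ht, rfl⟩ := Golay.exists_map_one (Golay.pt 23) x
  let S := MulAction.stabilizer Cfsg.M24 (t (Golay.pt 23))
  let φ : ↥S →* Equiv.Perm Cfsg.GolayPt :=
    (MulAut.conj t⁻¹).toMonoidHom.comp (Cfsg.M24.subtype.comp S.subtype)
  have hφ : ∀ y : ↥S, φ y = t⁻¹ * ((y : ↥Cfsg.M24) : Equiv.Perm Cfsg.GolayPt) * t := fun y => by
    simp [φ]
  have hinj : Function.Injective φ := fun a b h => by
    rw [hφ, hφ] at h
    exact Subtype.ext (Subtype.ext (mul_left_cancel (mul_right_cancel h)))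
  have hS : ∀ g : Equiv.Perm Cfsg.GolayPt, g ∈ GolayOrbits.PtStab ↔ ∃ y : ↥S, φ y = g := by
    intro g
    constructor
    · intro hg
      refine ⟨⟨⟨t * g * t⁻¹, mul_mem (mul_mem ht hg.1) (inv_mem ht)⟩, ?_⟩, ?_⟩
      · show t (g (t⁻¹ (t (Golay.pt 23)))) = t (Golay.pt 23)
        rw [Equiv.Perm.coe_inv, Equiv.symm_apply_apply, GolayOrbits.apply_pt23 hg]
      · rw [hφ]; simp [mul_assoc]
    · rintro ⟨y, rfl⟩
      rw [hφ]
      refine Subgroup.mem_inf.mpr ⟨mul_mem (mul_mem (inv_mem ht) y.1.2) ht, ?_⟩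
      show t⁻¹ (((y : ↥Cfsg.M24) : Equiv.Perm Cfsg.GolayPt) (t (Golay.pt 23))) = Golay.pt 23
      rw [show ((y : ↥Cfsg.M24) : Equiv.Perm Cfsg.GolayPt) (t (Golay.pt 23)) = t (Golay.pt 23)
        from y.2, Equiv.Perm.coe_inv, Equiv.symm_apply_apply]
  have hScard : Nat.card ↥S = 10200960 := by
    rw [← GolayOrbits.natCard_PtStab]
    exact Nat.card_congr (Equiv.ofBijective (fun y => ⟨φ y, (hS _).mpr ⟨y, rfl⟩⟩)
      ⟨fun a b h => hinj (congrArg Subtype.val h), fun g => by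
        obtain ⟨y, hy⟩ := (hS g).mp g.2
        exact ⟨y, Subtype.ext hy⟩⟩)
  have hcard : Nat.card ↥(H.map φ) = 40320 := by
    rw [Subgroup.card_map_of_injective hinj]
    have h := H.index_mul_card
    rw [hH, show Nat.card ↥(MulAction.stabilizer Cfsg.M24 (t (Golay.pt 23))) = 10200960 from hScard] at h
    exact Nat.eq_of_mul_eq_mul_left (show 0 < 253 by norm_num) (h.trans (by norm_num))
  obtain ⟨z, hz, heq⟩ := GolayOrbits.exists_fixed_of_card
    (fun g hg => by obtain ⟨y, -, rfl⟩ := hg; exact (hS _).mpr ⟨y, rfl⟩) hcard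
  have hH' : H = (MulAction.stabilizer Cfsg.M24 (t • z)).subgroupOf S := by
    ext y
    rw [← Subgroup.mem_map_iff_mem hinj (K := H), heq, Subgroup.mem_inf,
      MulAction.mem_stabilizer_iff, Subgroup.mem_subgroupOf, MulAction.mem_stabilizer_iff]
    refine ⟨fun h => ?_, fun h => ⟨(hS _).mpr ⟨y, rfl⟩, ?_⟩⟩
    · show ((y : ↥Cfsg.M24) : Equiv.Perm Cfsg.GolayPt) • t • z = t • z
      have h' := congrArg (fun s => t • s) h.2
      simpa [hφ, mul_smul] using h'
    · rw [hφ, mul_smul, mul_smul]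
      have h' : ((y : ↥Cfsg.M24) : Equiv.Perm Cfsg.GolayPt) • t • z = t • z := h
      rw [h', inv_smul_smul]
  rcases hz with ⟨h2, hx⟩ | ⟨ho, hx⟩
  · exact Or.inl ⟨t • z, by rw [Finset.card_smul_finset, h2],
      fun h => hx ((GolayOrbits.apply_mem_smul_iff t).mp h), hH'⟩
  · exact Or.inr ⟨t • z, Golay.smul_mem_octads ht ho, (GolayOrbits.apply_mem_smul_iff t).mpr hx, hH'⟩

end Cfsg.Agent.S1609
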