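import Cfsg.Agent.Lib.Hexacode.Basic

set_option autoImplicit false

namespace Cfsg.Agent.S1610
open Cfsg.Agent.Hexacode

theorem weights : ∀ p q r : K, (p, q, r) ≠ (0, 0, 0) →
    (Finset.univ.filter fun i => enc p q r i ≠ 0).card = 4 ∨
    (Finset.univ.filter fun i => enc p q r i ≠ 0).card = 6 := by
  decide +kernel

theorem count4 : (Finset.univ.filter fun t : K × K × K =>
    (Finset.univ.filter fun i => enc t.1 t.2.1 t.2.2 i ≠ 0).card = 4).card = 45 := by
  decide +kernel

theorem count6 : (Finset.univ.filter fun t : K × K × K =>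
    (Finset.univ.filter fun i => enc t.1 t.2.1 t.2.2 i ≠ 0).card = 6).card = 18 := by
  decide +kernel

theorem result (F : Type*) [Field F] [Fintype F] [DecidableEq F] (hF : Fintype.card F = 4) (ω : F) (hω : ω ^ 2 + ω + 1 = 0) : Nat.card ↥(Cfsg.hexacode F ω) = 64 ∧ (∀ x ∈ Cfsg.hexacode F ω, x ≠ 0 → (Finset.univ.filter fun i => x i ≠ 0).card = 4 ∨ (Finset.univ.filter fun i => x i ≠ 0).card = 6) ∧ {x : Fin 6 → F | x ∈ Cfsg.hexacode F ω ∧ (Finset.univ.filter fun i => x i ≠ 0).card = 4}.ncard = 45 ∧ {x : Fin 6 → F | x ∈ Cfsg.hexacode F ω ∧ (Finset.univ.filter fun i => x i ≠ 0).card = 6}.ncard = 18 := by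
  classical
  have hmem := mem_iff hF hω
  have hinj := code_injective hF hω
  have hset : ∀ n : ℕ,
      {x : Fin 6 → F | x ∈ Cfsg.hexacode F ω ∧ (Finset.univ.filter fun i => x i ≠ 0).card = n}.ncard
      = (Finset.univ.filter fun t : K × K × K =>
          (Finset.univ.filter fun i => enc t.1 t.2.1 t.2.2 i ≠ 0).card = n).card := by
    intro n
    rw [← Finset.card_image_of_injective _ hinj, ← Set.ncard_coe_finset]
    congr 1
    ext x
    simp only [Finset.coe_image, Finset.coe_filter, Finset.mem_univ, true_and, Set.mem_image,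
      Set.mem_setOf_eq, hmem]
    constructor
    · rintro ⟨⟨t, rfl⟩, h⟩; exact ⟨t, by rwa [weight_code hF hω] at h, rfl⟩
    · rintro ⟨t, h, rfl⟩; exact ⟨⟨t, rfl⟩, by rwa [weight_code hF hω]⟩
  refine ⟨?_, ?_, by rw [hset, count4], by rw [hset, count6]⟩
  · have e : (Cfsg.hexacode F ω : Set (Fin 6 → F)) = Set.range (code ω) := Set.ext hmem
    rw [← SetLike.coe_sort_coe, e, Nat.card_range_of_injective hinj, Nat.card_eq_fintype_card]
    rfl
  · intro x hx hne
    obtain ⟨⟨p, q, r⟩, rfl⟩ := (hmem x).1 hx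
    rw [weight_code hF hω]
    refine weights p q r fun h => hne ?_
    obtain ⟨rfl, rfl, rfl⟩ : p = 0 ∧ q = 0 ∧ r = 0 := by simpa using h
    funext i
    fin_cases i <;> rfl

end Cfsg.Agent.S1610
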