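import Cfsg.Agent.Lib.Hexacode.Basic

set_option autoImplicit false

namespace Cfsg.Agent.S1611
open Cfsg.Agent.Hexacode

/-- The six coordinates of a code word of index `n`, read as exponents of `ω`. -/
def expo (n : ℕ) : Fin 6 → Fin 3 := fun i => ⟨n / 3 ^ (i : ℕ) % 3, Nat.mod_lt _ (by norm_num)⟩

/-- The unit with a given exponent, in the table model. -/
def unitK (e : Fin 3) : K := e.succ

/-- The table-model test that a monomial map preserves the code. -/
def Chk (inv : Fin 6 → Fin 6) (e : Fin 6 → Fin 3) : Prop :=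
  Mem (fun i => kMul (unitK (e i)) (enc 1 0 0 (inv i))) ∧
  Mem (fun i => kMul (unitK (e i)) (enc 0 1 0 (inv i))) ∧
  Mem (fun i => kMul (unitK (e i)) (enc 0 0 1 (inv i)))

instance (inv : Fin 6 → Fin 6) (e : Fin 6 → Fin 3) : Decidable (Chk inv e) := by
  unfold Chk; infer_instance

/-- Witnesses for the 3-cycles `swap i j * swap i k`. -/
def witTab : List ℕ :=
  [0, 0, 0, 0, 0, 0, 0, 0, 567, 405, 63, 45, 0, 405, 0, 567, 132, 552, 0, 567, 405, 0, 210, 312, 0, 45, 420, 624, 0, 63, 0, 63, 426, 600, 45, 0, 0, 0, 405, 567, 45, 63, 0, 0, 0, 0, 0, 0, 567, 0, 0, 405, 600, 624, 405, 0, 567, 0, 426, 420, 63, 0, 312, 552, 0, 45, 45, 0, 210, 132, 63, 0, 0, 567, 0, 405, 420, 426, 405, 0, 0, 567, 312, 210, 0, 0, 0, 0, 0, 0, 567, 405, 0, 0, 723, 366, 132, 600, 0, 366, 0, 723, 552, 624, 0, 723, 366, 0, 0, 405, 567, 0, 624, 600, 567, 0, 405, 0, 552, 132, 405, 567, 0, 0, 366, 723, 0, 0, 0, 0, 0, 0, 210, 426, 723, 0, 0, 366, 312, 420, 366, 0, 723, 0, 0,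 63, 132, 210, 0, 45, 45, 0, 600, 426, 0, 63, 420, 312, 0, 723, 0, 366, 624, 552, 366, 0, 0, 723, 0, 0, 0, 0, 0, 0, 63, 45, 723, 366, 0, 0, 0, 45, 552, 312, 63, 0, 63, 0, 624, 420, 45, 0, 426, 210, 0, 366, 723, 0, 600, 132, 723, 0, 366, 0, 45, 63, 366, 723, 0, 0, 0, 0, 0, 0, 0, 0]

theorem chk_cycles : ∀ i j k : Fin 6, i ≠ j → i ≠ k → j ≠ k →
    Chk (fun x => Equiv.swap i k (Equiv.swap i j x))
      (expo (witTab.getD (36 * (i : ℕ) + 6 * (j : ℕ) + (k : ℕ)) 0)) := by
  decide +kernel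

theorem chk_id : ∀ a b c d e f : Fin 3, Chk id ![a, b, c, d, e, f] →
    b = a ∧ c = a ∧ d = a ∧ e = a ∧ f = a := by
  decide +kernel

theorem chk_swap : ∀ a b c d e f : Fin 3,
    ¬ Chk (Equiv.swap (0 : Fin 6) 1) ![a, b, c, d, e, f] := by
  decide +kernel

theorem vec6 {α : Type*} (v : Fin 6 → α) : ![v 0, v 1, v 2, v 3, v 4, v 5] = v := by
  funext i; fin_cases i <;> rfl

section
variable {F : Type*} [Field F] [Fintype F] [DecidableEq F] (hF : Fintype.card F = 4) {ω : F}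
  (hω : ω ^ 2 + ω + 1 = 0)

/-- The monomial map preserves the hexacode. -/
def IsAut (ω : F) (σ : Equiv.Perm (Fin 6)) (c : Fin 6 → Fˣ) : Prop :=
  ∀ x ∈ Cfsg.hexacode F ω, Cfsg.monomialMap σ c x ∈ Cfsg.hexacode F ω

include hF hω in
theorem exists_expo (u : Fˣ) : ∃ e : Fin 3, val ω (unitK e) = (u : F) := by
  obtain ⟨a, ha⟩ := (val_bijective hF hω).2 (u : F)
  fin_cases a
  · exact absurd ha.symm u.ne_zero
  · exact ⟨0, ha⟩
  · exact ⟨1, ha⟩
  · exact ⟨2, ha⟩

include hF hω in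
theorem isAut_iff (σ : Equiv.Perm (Fin 6)) (c : Fin 6 → Fˣ) (e : Fin 6 → Fin 3)
    (he : ∀ i, val ω (unitK (e i)) = (c i : F)) : IsAut ω σ c ↔ Chk σ.symm e := by
  have hmap : ∀ t : K × K × K, Cfsg.monomialMap σ c (code ω t) =
      fun i => val ω (kMul (unitK (e i)) (enc t.1 t.2.1 t.2.2 (σ.symm i))) := by
    intro t; funext i; rw [Cfsg.monomialMap, val_mul hF hω, he]; rfl
  have hval : ∀ v : Fin 6 → K, (fun i => val ω (v i)) ∈ Cfsg.hexacode F ω ↔ Mem v := by
    intro v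
    rw [mem_iff hF hω, mem_iff_enc]
    constructor
    · rintro ⟨⟨p, q, r⟩, h⟩
      have h' := fun i => val_injective hF hω (congrFun h i)
      have h0 : p = v 0 := h' 0
      have h1 : q = v 1 := h' 1
      have h2 : r = v 2 := h' 2
      funext i
      rw [← h0, ← h1, ← h2]; exact (h' i).symm
    · intro h; exact ⟨(v 0, v 1, v 2), funext fun i => congrArg (val ω) (congrFun h i).symm⟩
  constructor
  · intro h
    have hb : ∀ t : K × K × K,
        Mem (fun i => kMul (unitK (e i)) (enc t.1 t.2.1 t.2.2 (σ.symm i))) := by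
      intro t
      rw [← hval, ← hmap t]
      exact h _ ((mem_iff hF hω _).2 ⟨t, rfl⟩)
    exact ⟨hb (1, 0, 0), hb (0, 1, 0), hb (0, 0, 1)⟩
  · rintro ⟨h1, h2, h3⟩ x hx
    obtain ⟨⟨p, q, r⟩, rfl⟩ := (mem_iff hF hω x).1 hx
    have hlin : code ω (p, q, r) = val ω p • code ω (1, 0, 0) + val ω q • code ω (0, 1, 0)
        + val ω r • code ω (0, 0, 1) := by
      have key : ∀ p q r : K, ∀ i, enc p q r i = kAdd (kAdd (kMul p (enc 1 0 0 i))
          (kMul q (enc 0 1 0 i))) (kMul r (enc 0 0 1 i)) := by decide +kernel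
      funext i
      simp only [code, Pi.add_apply, Pi.smul_apply, smul_eq_mul, key p q r i, val_add hF hω,
        val_mul hF hω]
    have hlin' : Cfsg.monomialMap σ c (code ω (p, q, r)) =
        val ω p • Cfsg.monomialMap σ c (code ω (1, 0, 0))
        + val ω q • Cfsg.monomialMap σ c (code ω (0, 1, 0))
        + val ω r • Cfsg.monomialMap σ c (code ω (0, 0, 1)) := by
      rw [hlin]; funext i
      simp only [Cfsg.monomialMap, Pi.add_apply, Pi.smul_apply, smul_eq_mul]; ring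
    rw [hlin', hmap, hmap, hmap]
    exact Submodule.add_mem _ (Submodule.add_mem _ (Submodule.smul_mem _ _ ((hval _).2 h1))
      (Submodule.smul_mem _ _ ((hval _).2 h2))) (Submodule.smul_mem _ _ ((hval _).2 h3))

theorem isAut_mul {σ τ : Equiv.Perm (Fin 6)} {c d : Fin 6 → Fˣ} (h : IsAut ω σ c)
    (h' : IsAut ω τ d) : IsAut ω (σ * τ) (fun i => c i * d (σ.symm i)) := by
  intro x hx
  have e : Cfsg.monomialMap (σ * τ) (fun i => c i * d (σ.symm i)) x =
      Cfsg.monomialMap σ c (Cfsg.monomialMap τ d x) := by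
    funext i
    simp only [Cfsg.monomialMap, Units.val_mul, mul_assoc]
    rfl
  rw [e]; exact h _ (h' _ hx)

/-- The permutation parts form a subgroup. -/
def permPart (ω : F) : Subgroup (Equiv.Perm (Fin 6)) :=
  let M : Submonoid (Equiv.Perm (Fin 6)) :=
    { carrier := {σ | ∃ c, IsAut ω σ c}
      one_mem' := ⟨1, fun x hx => by
        have e : Cfsg.monomialMap (1 : Equiv.Perm (Fin 6)) (1 : Fin 6 → Fˣ) x = x := by
          funext i; simp only [Cfsg.monomialMap, Pi.one_apply, Units.val_one, one_mul]; rfl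
        rw [e]; exact hx⟩
      mul_mem' := fun {σ τ} ⟨_, h⟩ ⟨_, h'⟩ => ⟨_, isAut_mul h h'⟩ }
  { M with
    inv_mem' := fun {σ} h => by
      change σ⁻¹ ∈ M
      rw [inv_eq_of_mul_eq_one_right (b := σ ^ (orderOf σ - 1))]
      · exact M.pow_mem h _
      · rw [← pow_succ', Nat.sub_add_cancel (orderOf_pos σ), pow_orderOf_eq_one] }

theorem mem_permPart (σ : Equiv.Perm (Fin 6)) : σ ∈ permPart ω ↔ ∃ c, IsAut ω σ c := Iff.rfl

/-- A 3-cycle is a product of two transpositions with a common point. -/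
theorem exists_swaps {σ : Equiv.Perm (Fin 6)} (h : σ.IsThreeCycle) :
    ∃ i j k : Fin 6, i ≠ j ∧ i ≠ k ∧ j ≠ k ∧ σ = Equiv.swap i j * Equiv.swap i k := by
  have hne : σ.support.Nonempty := Finset.card_pos.1 (by rw [h.card_support]; norm_num)
  obtain ⟨a, ha⟩ := hne
  have h3 : σ (σ (σ a)) = a := by
    have := pow_orderOf_eq_one σ
    rw [h.orderOf] at this
    exact congrArg (fun g : Equiv.Perm (Fin 6) => g a) this
  rw [Equiv.Perm.mem_support] at ha
  have hb : σ (σ a) ≠ σ a := fun e => ha (σ.injective e)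
  have hc : σ (σ a) ≠ a := fun e => ha (by rw [e] at h3; exact h3)
  have hsup : σ.support = {a, σ a, σ (σ a)} := by
    refine (Finset.eq_of_subset_of_card_le ?_ ?_).symm
    · intro x hx
      simp only [Finset.mem_insert, Finset.mem_singleton] at hx
      rw [Equiv.Perm.mem_support]
      rcases hx with rfl | rfl | rfl
      · exact ha
      · exact hb
      · rw [h3]; exact hc.symm
    · rw [h.card_support]
      rw [Finset.card_insert_of_notMem, Finset.card_insert_of_notMem, Finset.card_singleton]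
      · simpa using hb.symm
      · simp [Ne.symm ha, Ne.symm hc]
  refine ⟨a, σ (σ a), σ a, hc.symm, Ne.symm ha, hb, Equiv.ext fun x => ?_⟩
  rw [Equiv.Perm.mul_apply]
  by_cases hx : x ∈ σ.support
  · rw [hsup] at hx
    simp only [Finset.mem_insert, Finset.mem_singleton] at hx
    rcases hx with rfl | rfl | rfl
    · rw [Equiv.swap_apply_left, Equiv.swap_apply_of_ne_of_ne ha hb.symm]
    · rw [Equiv.swap_apply_right, Equiv.swap_apply_left]
    · rw [Equiv.swap_apply_of_ne_of_ne hc hb, Equiv.swap_apply_right, h3]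
  · have hfix : σ x = x := Equiv.Perm.notMem_support.1 hx
    rw [hsup] at hx
    simp only [Finset.mem_insert, Finset.mem_singleton, not_or] at hx
    rw [Equiv.swap_apply_of_ne_of_ne hx.1 hx.2.1, Equiv.swap_apply_of_ne_of_ne hx.1 hx.2.2, hfix]

include hF hω in
theorem permPart_eq : permPart ω = alternatingGroup (Fin 6) := by
  have hge : alternatingGroup (Fin 6) ≤ permPart ω := by
    rw [← Equiv.Perm.closure_three_cycles_eq_alternating, Subgroup.closure_le]
    intro σ hσ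
    obtain ⟨i, j, k, h1, h2, h3, rfl⟩ := exists_swaps hσ
    let e := expo (witTab.getD (36 * (i : ℕ) + 6 * (j : ℕ) + (k : ℕ)) 0)
    have hu : ∀ t : Fin 3, val ω (unitK t) ≠ 0 := by
      intro t h0
      exact Fin.succ_ne_zero t (val_injective hF hω (h0.trans rfl))
    refine ⟨fun t => Units.mk0 _ (hu (e t)), (isAut_iff hF hω _ _ e (fun t => rfl)).2 ?_⟩
    exact chk_cycles i j k h1 h2 h3
  refine le_antisymm (fun σ hσ => ?_) hge
  rw [Equiv.Perm.mem_alternatingGroup]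
  rcases Int.units_eq_one_or (Equiv.Perm.sign σ) with hs | hs
  · exact hs
  exfalso
  have hm : σ * Equiv.swap (0 : Fin 6) 1 ∈ permPart ω := hge (by
    rw [Equiv.Perm.mem_alternatingGroup, map_mul, hs, Equiv.Perm.sign_swap (by decide)]; decide)
  have : Equiv.swap (0 : Fin 6) 1 ∈ permPart ω := by
    simpa using (permPart ω).mul_mem ((permPart ω).inv_mem hσ) hm
  obtain ⟨c, hc⟩ := this
  choose e he using fun i => exists_expo hF hω (c i)
  have := (isAut_iff hF hω _ c e he).1 hc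
  rw [Equiv.symm_swap, ← vec6 e] at this
  exact chk_swap _ _ _ _ _ _ this

include hF hω in
theorem diag_scalar (c : Fin 6 → Fˣ) (h : IsAut ω 1 c) (i : Fin 6) : c i = c 0 := by
  choose e he using fun i => exists_expo hF hω (c i)
  have h' := (isAut_iff hF hω _ c e he).1 h
  rw [← vec6 e] at h'
  obtain ⟨h1, h2, h3, h4, h5⟩ := chk_id _ _ _ _ _ _ h'
  apply Units.ext
  rw [← he i, ← he 0]
  fin_cases i
  exacts [rfl, by simp [h1], by simp [h2], by simp [h3], by simp [h4], by simp [h5]]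

include hF hω in
theorem card_fibre (σ : Equiv.Perm (Fin 6)) (hσ : σ ∈ alternatingGroup (Fin 6)) :
    Nat.card {c : Fin 6 → Fˣ // IsAut ω σ c} = 3 := by
  rw [← permPart_eq hF hω, mem_permPart] at hσ
  obtain ⟨c0, hc0⟩ := hσ
  have hsm : ∀ u : Fˣ, IsAut ω σ (fun i => u * c0 i) := by
    intro u x hx
    have e : Cfsg.monomialMap σ (fun i => u * c0 i) x = (u : F) • Cfsg.monomialMap σ c0 x := by
      funext i
      simp only [Cfsg.monomialMap, Units.val_mul, Pi.smul_apply, smul_eq_mul, mul_assoc]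
    rw [e]; exact Submodule.smul_mem _ _ (hc0 x hx)
  let f : Fˣ → {c : Fin 6 → Fˣ // IsAut ω σ c} := fun u => ⟨_, hsm u⟩
  have hinj : Function.Injective f := fun u v h =>
    mul_right_cancel (congrFun (Subtype.ext_iff.1 h) 0)
  have hsurj : Function.Surjective f := by
    rintro ⟨c, hc⟩
    refine ⟨c 0 * (c0 0)⁻¹, Subtype.ext (funext fun i => ?_)⟩
    obtain ⟨d, hd⟩ : σ⁻¹ ∈ permPart ω := (permPart ω).inv_mem ⟨c0, hc0⟩
    have hd1 := isAut_mul hc hd
    have hd2 := isAut_mul hc0 hd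
    rw [mul_inv_cancel] at hd1 hd2
    have k1 := diag_scalar hF hω _ hd1 i
    have k2 := diag_scalar hF hω _ hd2 i
    show c 0 * (c0 0)⁻¹ * c0 i = c i
    have k1' := eq_mul_inv_of_mul_eq k1
    have k2' := eq_mul_inv_of_mul_eq k2
    rw [k1', k2']
    simp only [mul_assoc, inv_mul_cancel_left]
  rw [← Nat.card_eq_of_bijective f ⟨hinj, hsurj⟩, Nat.card_eq_fintype_card, Fintype.card_units,
    hF]

end

theorem result (F : Type*) [Field F] [Fintype F] [DecidableEq F] (hF : Fintype.card F = 4) (ω : F) (hω : ω ^ 2 + ω + 1 = 0) : Nat.card {f : Equiv.Perm (Fin 6) × (Fin 6 → Fˣ) // (∀ x ∈ Cfsg.hexacode F ω, Cfsg.monomialMap f.1 f.2 x ∈ Cfsg.hexacode F ω)} = 1080 ∧ (∀ c : Fin 6 → Fˣ, (∀ x ∈ Cfsg.hexacode F ω, Cfsg.monomialMap 1 c x ∈ Cfsg.hexacode F ω) → ∀ i j, c i = c j) ∧ {σ : Equiv.Perm (Fin 6) | ∃ c : Fin 6 → Fˣ, (∀ x ∈ Cfsg.hexacode F ω, Cfsg.monomialMap σ c x ∈ Cfsg.hexacode F ω)} = (alternatingGroup (Fin 6) : Set (Equiv.Perm (Fin 6)))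 := by
  have hperm := permPart_eq hF hω
  refine ⟨?_, fun c hc i j => (diag_scalar hF hω c hc i).trans (diag_scalar hF hω c hc j).symm, ?_⟩
  · let e : {f : Equiv.Perm (Fin 6) × (Fin 6 → Fˣ) // IsAut ω f.1 f.2} ≃
        Σ σ : alternatingGroup (Fin 6), {c : Fin 6 → Fˣ // IsAut ω (σ : Equiv.Perm (Fin 6)) c} :=
      { toFun := fun f => ⟨⟨f.1.1, hperm ▸ (⟨f.1.2, f.2⟩ : f.1.1 ∈ permPart ω)⟩, f.1.2, f.2⟩
        invFun := fun s => ⟨(s.1, s.2.1), s.2.2⟩
        left_inv := fun f => rfl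
        right_inv := fun s => rfl }
    rw [show {f : Equiv.Perm (Fin 6) × (Fin 6 → Fˣ) // (∀ x ∈ Cfsg.hexacode F ω,
      Cfsg.monomialMap f.1 f.2 x ∈ Cfsg.hexacode F ω)} = {f : Equiv.Perm (Fin 6) × (Fin 6 → Fˣ) //
      IsAut ω f.1 f.2} from rfl, Nat.card_congr e, Nat.card_sigma]
    simp only [card_fibre hF hω _ (SetLike.coe_mem _), Finset.sum_const, Finset.card_univ,
      smul_eq_mul]
    have h360 : Fintype.card (alternatingGroup (Fin 6)) = 360 := by
      rw [← Nat.card_eq_fintype_card, nat_card_alternatingGroup, Nat.card_eq_fintype_card,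
        Fintype.card_fin]
      rfl
    rw [h360]
  · exact congrArg (fun H : Subgroup (Equiv.Perm (Fin 6)) => (H : Set (Equiv.Perm (Fin 6)))) hperm

end Cfsg.Agent.S1611
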