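import Cfsg.Agent.Lib.ThreeTransRank.Connected

set_option autoImplicit false

namespace Cfsg.Agent.S1612

open Cfsg.Agent.ThreeTrans

variable {G : Type*} [Group G] {D : Set G}

theorem commute_of_mem_twoGroup (hD : IsThreeTranspositionSet D) {P : Subgroup G}
    (hP : IsPGroup 2 P) {a b : G} (ha : a ∈ D) (hb : b ∈ D) (haP : a ∈ P) (hbP : b ∈ P) :
    Commute a b := by
  rcases hD.2 a ha b hb with h | h
  · exact (commute_iff_sq hD ha hb).2 h
  · obtain ⟨k, hk⟩ := hP ⟨a * b, P.mul_mem haP hbP⟩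
    have hk' : (a * b) ^ 2 ^ k = 1 := by simpa [Subtype.ext_iff] using hk
    have h1 : a * b = 1 := orderOf_eq_one_iff.1 <| Nat.eq_one_of_dvd_coprimes
      (Nat.Coprime.pow_left k (by norm_num : Nat.Coprime 2 3)) (orderOf_dvd_of_pow_eq_one hk')
      (orderOf_dvd_of_pow_eq_one h)
    exact (commute_iff_sq hD ha hb).2 (by rw [h1, one_pow])

theorem isPGroup_closure (hD : IsThreeTranspositionSet D) {E : Set G} (hE : E ⊆ D)
    (hc : ∀ a ∈ E, ∀ b ∈ E, Commute a b) : IsPGroup 2 (Subgroup.closure E) := by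
  have key : ∀ x ∈ Subgroup.closure E, x * x = 1 ∧ ∀ e ∈ E, Commute x e := by
    intro x hx
    induction hx using Subgroup.closure_induction with
    | mem x hx => exact ⟨mul_self hD (hE hx), fun e he => hc x hx e he⟩
    | one => exact ⟨one_mul 1, fun e _ => Commute.one_left e⟩
    | mul x y hx' hy' hx hy =>
      refine ⟨?_, fun e he => (hx.2 e he).mul_left (hy.2 e he)⟩
      have hxy : Commute x y := by
        clear hy
        induction hy' using Subgroup.closure_induction with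
        | mem y hy => exact hx.2 y hy
        | one => exact Commute.one_right x
        | mul u v _ _ hu hv => exact hu.mul_right hv
        | inv u _ hu => exact hu.inv_right
      rw [mul_assoc, ← mul_assoc y x y, ← hxy.eq, mul_assoc x y y, hy.1, mul_one, hx.1]
    | inv x _ hx => exact ⟨by rw [← mul_inv_rev, hx.1, inv_one], fun e he => (hx.2 e he).inv_left⟩
  intro x
  exact ⟨1, Subtype.ext (by simpa [pow_two] using (key x x.2).1)⟩

theorem eq_inter_sylow [Finite G] (hD : IsThreeTranspositionSet D) {E : Set G} (hE : E ⊆ D)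
    (hmax : ∀ E' : Set G, E' ⊆ D → (∀ a ∈ E', ∀ b ∈ E', Commute a b) → E'.ncard ≤ E.ncard)
    {S : Subgroup G} (hS : IsPGroup 2 S) (hES : E ⊆ S) : E = D ∩ S :=
  Set.eq_of_subset_of_ncard_le (Set.subset_inter hE hES)
    (hmax _ Set.inter_subset_left fun _ ha _ hb =>
      commute_of_mem_twoGroup hD hS ha.1 hb.1 ha.2 hb.2) (Set.toFinite _)

theorem result {G : Type*} [Group G] [Finite G] (hsol : ∀ N : Subgroup G, N.Normal → Group.IsSolvable ↥N → N = ⊥) (hperf : ⁅commutator G, commutator G⁆ = commutator G) {D : Set G} (hD : Cfsg.IsThreeTranspositionClass D) {E : Set G} (hE : E ⊆ D) (hc : ∀ a ∈ E, ∀ b ∈ E, Commute a b) (hmax : ∀ E' : Set G, E' ⊆ D → (∀ a ∈ E', ∀ b ∈ E', Commute a b) → E'.ncard ≤ E.ncard) : (∃ P : Sylow 2 G, (P : Subgroup G) ≤ Subgroup.normalizer E) ∧ ∀ a ∈ E, ∀ b ∈ E, ∀ c ∈ E, ∀ d ∈ E, a ≠ b → c ≠ d → ∃ g ∈ Subgroup.normalizer E, g * a * g⁻¹ = c ∧ g * b * g⁻¹ = d := by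
  haveI : Fact (Nat.Prime 2) := ⟨Nat.prime_two⟩
  have hG := group_of_class hD
  obtain ⟨P, hP⟩ := (isPGroup_closure hD.1 hE hc).exists_le_sylow
  refine ⟨⟨P, fun g hg => ?_⟩, ?_⟩
  · have hEP : E = D ∩ (P : Subgroup G) :=
      eq_inter_sylow hD.1 hE hmax P.isPGroup' (fun e he => hP (Subgroup.subset_closure he))
    intro x
    rw [hEP]
    constructor
    · rintro ⟨h1, h2⟩
      exact ⟨hG.2.1 g x h1, mul_mem (mul_mem hg h2) (inv_mem hg)⟩
    · rintro ⟨h1, h2⟩
      refine ⟨?_, ?_⟩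
      · have := hG.2.1 g⁻¹ _ h1
        simpa [mul_assoc] using this
      · have := mul_mem (mul_mem (inv_mem hg) h2) hg
        rw [show g⁻¹ * (g * x * g⁻¹) * g = x by simp [mul_assoc]] at this
        exact this
  intro a ha b hb c hc' d hd' hab hcd
  obtain ⟨g, hga, hgb⟩ := ThreeTransRank.pair_transitive hsol hD (hE ha) (hE hb) (hE hc') (hE hd')
    (hc a ha b hb) (hc c hc' d hd') hab hcd
  let E' := (fun z => g * z * g⁻¹) '' E
  have hE' : E' ⊆ D := by
    rintro _ ⟨z, hz, rfl⟩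
    exact hG.2.1 g z (hE hz)
  have hc2 : ∀ u ∈ E', ∀ v ∈ E', Commute u v := by
    rintro _ ⟨u, hu, rfl⟩ _ ⟨v, hv, rfl⟩
    exact (hc u hu v hv).map (MulAut.conj g).toMonoidHom
  have hcard : E'.ncard = E.ncard :=
    Set.ncard_image_of_injective _ fun u v h => mul_left_cancel (mul_right_cancel h)
  let C := Subgroup.centralizer ({c, d} : Set G)
  have hle : ∀ F : Set G, (∀ u ∈ F, ∀ v ∈ F, Commute u v) → c ∈ F → d ∈ F →
      Subgroup.closure F ≤ C := by
    intro F hF hcF hdF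
    rw [Subgroup.closure_le]
    intro z hz
    rw [SetLike.mem_coe, Subgroup.mem_centralizer_iff]
    rintro w (rfl | rfl)
    · exact hF w hcF z hz
    · exact hF w hdF z hz
  have hsy : ∀ F : Set G, F ⊆ D → (∀ u ∈ F, ∀ v ∈ F, Commute u v) → c ∈ F → d ∈ F →
      ∃ S : Sylow 2 C, ∀ z ∈ F, ∃ z' : C, z' ∈ S ∧ (z' : G) = z := by
    intro F hFD hF hcF hdF
    have h2 : IsPGroup 2 ((Subgroup.closure F).subgroupOf C) :=
      (isPGroup_closure hD.1 hFD hF).comap_subtype
    obtain ⟨S, hS⟩ := h2.exists_le_sylow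
    exact ⟨S, fun z hz => ⟨⟨z, hle F hF hcF hdF (Subgroup.subset_closure hz)⟩,
      hS (Subgroup.subset_closure hz), rfl⟩⟩
  obtain ⟨S, hS⟩ := hsy E hE hc hc' hd'
  obtain ⟨S', hS'⟩ := hsy E' hE' hc2 ⟨a, ha, hga⟩ ⟨b, hb, hgb⟩
  obtain ⟨h, rfl⟩ := MulAction.exists_smul_eq C S' S
  refine ⟨(h : G) * g, ?_, ?_, ?_⟩
  · let T : Subgroup G := ((h • S' : Sylow 2 C) : Subgroup C).map C.subtype
    have hT : IsPGroup 2 T := (h • S').isPGroup'.map _
    have h1 : E = D ∩ T := eq_inter_sylow hD.1 hE hmax hT fun z hz => by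
      obtain ⟨z', hz', rfl⟩ := hS z hz
      exact ⟨z', hz', rfl⟩
    have h2 : (fun z => (h : G) * g * z * ((h : G) * g)⁻¹) '' E = D ∩ T := by
      refine eq_inter_sylow hD.1 ?_ (fun F hF hFc => ?_) hT ?_
      · rintro _ ⟨z, hz, rfl⟩
        exact hG.2.1 _ z (hE hz)
      · rw [Set.ncard_image_of_injective _ fun u v e => mul_left_cancel (mul_right_cancel e)]
        exact hmax F hF hFc
      · rintro _ ⟨z, hz, rfl⟩
        obtain ⟨z', hz', he⟩ := hS' _ ⟨z, hz, rfl⟩
        refine ⟨h * z' * h⁻¹, ?_, ?_⟩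
        · exact ⟨z', hz', rfl⟩
        · simp [he, mul_assoc]
    intro x
    have himg : (fun z => (h : G) * g * z * ((h : G) * g)⁻¹) '' E = E := h2.trans h1.symm
    constructor
    · intro hx
      rw [← himg]
      exact ⟨x, hx, rfl⟩
    · intro hx
      rw [← himg] at hx
      obtain ⟨z, hz, e⟩ := hx
      rwa [mul_left_cancel (mul_right_cancel e)] at hz
  · have hh := Subgroup.mem_centralizer_iff.1 h.2 c (Or.inl rfl)
    calc (h : G) * g * a * ((h : G) * g)⁻¹ = (h : G) * (g * a * g⁻¹) * (h : G)⁻¹ := by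
          simp only [mul_inv_rev, mul_assoc]
      _ = c := by rw [hga, ← hh, mul_assoc, mul_inv_cancel, mul_one]
  · have hh := Subgroup.mem_centralizer_iff.1 h.2 d (Or.inr rfl)
    calc (h : G) * g * b * ((h : G) * g)⁻¹ = (h : G) * (g * b * g⁻¹) * (h : G)⁻¹ := by
          simp only [mul_inv_rev, mul_assoc]
      _ = d := by rw [hgb, ← hh, mul_assoc, mul_inv_cancel, mul_one]

end Cfsg.Agent.S1612
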