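import Cfsg.Statements.S1614
import Cfsg.Agent.Lib.ThreeTrans.Solvable.Unitary
import Cfsg.Agent.Lib.ThreeTrans.CoreNoncentral

set_option autoImplicit false
open Cfsg

namespace Cfsg.Agent.S1614

/-- If the commuting transpositions of one transposition generate a solvable group, a Fischer 3-transposition group is S5, S6, PSU(4, 2) or PSU(5, 2). -/
theorem result {G : Type*} [Group G] [Finite G] (hsol : ∀ N : Subgroup G, N.Normal → Group.IsSolvable ↥N → N = ⊥) (hperf : ⁅commutator G, commutator G⁆ = commutator G) {D : Set G} (hD : Cfsg.IsThreeTranspositionClass D) (x : G) (hx : x ∈ D) (hs : Group.IsSolvable ↥(Subgroup.closure {y : G | y ∈ D ∧ y ≠ x ∧ Commute x y})) : Nonempty (G ≃* Equiv.Perm (Fin 5)) ∨ Nonempty (G ≃* Equiv.Perm (Fin 6)) ∨ ∃ (F : Type) (_ : Field F) (_ : Fintype F), Fintype.card F = 4 ∧ (Nonempty (G ≃* Cfsg.PSU 4 F 2) ∨ Nonempty (G ≃* Cfsg.PSU 5 F 2)) := by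
  by_cases hcore : ∀ y ∈ D,
      oddCore ↥(ThreeTrans.Loc D y) ≤ Subgroup.center ↥(ThreeTrans.Loc D y)
  · exact Or.inr (ThreeTrans.SolvLocal.geom_of_solvable hsol hperf hD hx hs hcore).classify
  · push Not at hcore
    obtain ⟨y, hy, hcore⟩ := hcore
    exact Or.inl (ThreeTrans.CoreNoncentral.equiv_perm_five hsol hperf hD hy hcore)

end Cfsg.Agent.S1614
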