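import Cfsg.Statements.S1616
import Cfsg.Agent.Lib.FischerPolar.FromPre
import Cfsg.Agent.Lib.FischerPolar.Setting
import Cfsg.Agent.Lib.ThreeTrans.Polar.Symplectic

set_option autoImplicit false
open Cfsg

namespace Cfsg.Agent.S1616

/-- If O₂(⟨D_x⟩) is not central in ⟨D_x⟩ for some transposition x, the 3-transposition group is some Sp(2n, 2) or PSU(n, 2). -/
theorem result {G : Type*} [Group G] [Finite G] (hsol : ∀ N : Subgroup G, N.Normal → Group.IsSolvable ↥N → N = ⊥) (hperf : ⁅commutator G, commutator G⁆ = commutator G) {D : Set G} (hD : Cfsg.IsThreeTranspositionClass D) (x : G) (hx : x ∈ D) (h : ¬ Cfsg.pCore 2 ↥(Subgroup.closure {y : G | y ∈ D ∧ y ≠ x ∧ Commute x y}) ≤ Subgroup.center ↥(Subgroup.closure {y : G | y ∈ D ∧ y ≠ x ∧ Commute x y})) : (∃ n : ℕ, Nonempty (G ≃* Matrix.symplecticGroup (Fin n) (ZMod 2))) ∨ ∃ (F : Type) (_ : Field F) (_ : Fintype F) (n : ℕ), Fintype.card F = 4 ∧ Nonempty (G ≃* Cfsg.PSU n F 2) := by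
  have hconn := ThreeTrans.connected_of_perfect hD hperf
  have hP := FischerPolar.pre_of_not_central hsol hD hconn hx h
  obtain ⟨b, hb, hne, hab⟩ := hP.adj_ne x hx
  rcases hP.pts_size hx hb hne.symm hab with h3 | h5
  · refine Or.inl (ThreeTrans.Polar.Pre.equiv_sp hP fun c hc d hd hcd hcomm => ?_)
    rw [hP.ncard_pts_eq hc hd hcd hcomm hx hb hne.symm hab, h3]
  · obtain ⟨n, -, e, -⟩ := FischerPolar.equiv_psu_of_pre hP hx hb hne.symm hab h5
    exact Or.inr ⟨FischerPolar.K, inferInstance, inferInstance, n, FischerPolar.cardK, ⟨e⟩⟩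

end Cfsg.Agent.S1616
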