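import Cfsg.Statements.S1617
import Cfsg.Agent.EqLemmas
import Cfsg.Agent.Lib.TwoPInvol.Main
import Cfsg.Agent.Lib.Involution.BaerSuzuki
import Cfsg.Agent.S0215
import Cfsg.Agent.Lib.OddOrderTheorem.Basic
-- import your own Cfsg.Agent.* helpers here

set_option autoImplicit false
open Cfsg

namespace Cfsg.Agent.S1617

variable {G : Type*} [Group G]

theorem commute_conj_orbit {g x w : G} (hg : Commute g x) (h : Commute x w) :
    Commute x (g * w * g⁻¹) := by
  have h1 : Commute (g * x * g⁻¹) (g * w * g⁻¹) := TwoPInvol.commute_conj_iff g |>.2 h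
  rwa [hg.eq, mul_inv_cancel_right] at h1

theorem conj_x {g x : G} (hg : Commute g x) : g * x * g⁻¹ = x := by
  rw [hg.eq, mul_inv_cancel_right]

theorem orderOf_mul_orbit {g x w : G} (hg : Commute g x) :
    orderOf (x * (g * w * g⁻¹)) = orderOf (x * w) := by
  rw [← Involution.orderOf_conj g (x * w)]
  congr 1
  conv_lhs => rw [← conj_x hg]
  group

/-- If nothing but `x` in the class commutes with `x`, then `x` is central. -/
theorem central_of_isolated [Finite G] (hsol : ∀ N : Subgroup G, N.Normal → Group.IsSolvable ↥N → N = ⊥)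
    {x : G} (hx : orderOf x = 2)
    (hiso : ∀ g : G, Commute x (g * x * g⁻¹) → g * x * g⁻¹ = x) : ∀ g : G, g * x * g⁻¹ = x := by
  haveI : Fact (Nat.Prime 2) := ⟨Nat.prime_two⟩
  obtain ⟨P, hP⟩ := (show IsPGroup 2 ↥(Subgroup.zpowers x) from IsPGroup.of_card (n := 1)
    (by rw [pow_one, Nat.card_zpowers, hx])).exists_le_sylow
  have hxP : x ∈ P := hP (Subgroup.mem_zpowers x)
  have hxx := Involution.mul_self hx
  have hiso' : ∀ g : G, g * x * g⁻¹ ∈ P → g * x * g⁻¹ = x := by
    intro g hg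
    by_contra hne
    have hord : orderOf (g * x * g⁻¹) = 2 := by rw [Involution.orderOf_conj, hx]
    have hzz := Involution.mul_self hord
    obtain ⟨k, hk⟩ := P.isPGroup' ⟨x * (g * x * g⁻¹), P.mul_mem hxP hg⟩
    have hk' : (x * (g * x * g⁻¹)) ^ (2 ^ k) = 1 := congrArg Subtype.val hk
    obtain ⟨j, hj2, hj⟩ := (Nat.dvd_prime_pow Nat.prime_two).1 (orderOf_dvd_of_pow_eq_one hk')
    set r := x * (g * x * g⁻¹) with hr
    have hj2' : 2 ≤ j := by
      by_contra hlt
      refine hne (hiso g ((TwoPInvol.commute_iff_sq hxx hzz).2 ?_))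
      refine orderOf_dvd_iff_pow_eq_one.1 ?_
      rw [← hr, hj]
      exact (pow_dvd_pow 2 (show j ≤ 1 by omega)).trans (dvd_refl _)
    obtain ⟨i, rfl⟩ := Nat.exists_eq_add_of_le hj2'
    have hinv : x * r * x⁻¹ = r⁻¹ := Involution.inverts_mul_left hx hord
    -- `x * r ^ (2 * 2 ^ i)` is a conjugate of `x` commuting with `x`
    have hconj : (r ^ (2 ^ i))⁻¹ * x * r ^ (2 ^ i) = x * r ^ (2 * 2 ^ i) := by
      have h1 := Involution.inverts_pow hinv (2 ^ i)
      rw [← h1, two_mul, pow_add, Involution.inv_eq hx, mul_assoc _ x x, hxx, mul_one, mul_assoc]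
    have hcomm : Commute x (x * r ^ (2 * 2 ^ i)) := by
      refine (TwoPInvol.commute_iff_sq hxx ?_).2 ?_
      · rw [← hconj]
        calc (r ^ (2 ^ i))⁻¹ * x * r ^ (2 ^ i) * ((r ^ (2 ^ i))⁻¹ * x * r ^ (2 ^ i))
            = (r ^ (2 ^ i))⁻¹ * (x * x) * r ^ (2 ^ i) := by group
          _ = 1 := by rw [hxx, mul_one, inv_mul_cancel]
      · rw [← mul_assoc, hxx, one_mul, ← pow_mul,
          show 2 * 2 ^ i * 2 = 2 ^ (2 + i) by ring, ← hj, pow_orderOf_eq_one]
    have he := hiso (r ^ (2 ^ i))⁻¹ (by rw [inv_inv, hconj]; exact hcomm)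
    rw [inv_inv, hconj, mul_eq_left] at he
    have hdvd := orderOf_dvd_of_pow_eq_one he
    rw [hj, show 2 ^ (2 + i) = 2 * (2 * 2 ^ i) by ring] at hdvd
    have := Nat.le_of_dvd (by positivity) hdvd
    have := Nat.two_pow_pos i
    omega
  obtain ⟨N, hNn, hNodd, hN⟩ := Cfsg.Agent.S0215.result P x hx hxP hiso'
  have hbot := hsol N hNn (OddOrderTheorem.solvable hNodd)
  intro g
  have h1 := hN g
  rw [hbot, Subgroup.mem_bot] at h1
  calc g * x * g⁻¹ = (x * g * x⁻¹ * g⁻¹) * (g * x * g⁻¹) := by rw [h1, one_mul]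
    _ = x := by group

/-- All non-commuting pairs of members of the class give one order. -/
theorem threeTransposition [Finite G] (hsol : ∀ N : Subgroup G, N.Normal → Group.IsSolvable ↥N → N = ⊥)
    {D : Set G} (hinv : ∀ d ∈ D, orderOf d = 2) {x z : G} (hx : x ∈ D) (hz : z ∈ D)
    (hcls : ∀ g, ∀ d ∈ D, g * d * g⁻¹ ∈ D)
    (hgen : Subgroup.closure D = ⊤) (hxz : ¬ Commute x z) {n : ℕ} (hn : orderOf (x * z) = n)
    (hall : ∀ a ∈ D, ∀ b ∈ D, Commute a b ∨ orderOf (a * b) = n) :
    Cfsg.IsThreeTranspositionSet D := by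
  have hsq : ∀ d ∈ D, d * d = 1 := fun d hd => Involution.mul_self (hinv d hd)
  have htop : ¬ Group.IsSolvable G := by
    intro hs
    haveI := hs
    have := hsol ⊤ inferInstance inferInstance
    have h1 : x ∈ (⊥ : Subgroup G) := this ▸ Subgroup.mem_top x
    exact Involution.ne_one (hinv x hx) (Subgroup.mem_bot.1 h1)
  set r := x * z with hr
  have hinvr : x * r * x⁻¹ = r⁻¹ := Involution.inverts_mul_left (hinv x hx) (hinv z hz)
  have hrefl : ∀ i : ℕ, x * r ^ i ∈ D := by
    intro i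
    induction i using Nat.twoStepInduction with
    | zero => simpa using hx
    | one => simpa [hr, ← mul_assoc, hsq x hx] using hz
    | more i ih _ =>
      have hrx : r⁻¹ * x = x * r := by rw [← hinvr, inv_mul_cancel_right]
      have e : r⁻¹ * (x * r ^ i) * r⁻¹⁻¹ = x * r ^ (i + 2) := by
        rw [inv_inv, ← mul_assoc r⁻¹ x (r ^ i), hrx, mul_assoc x r, ← pow_succ',
          mul_assoc x (r ^ (i + 1)) r, ← pow_succ]
      rw [← e]
      exact hcls _ _ ih
  have hdiv : ∀ i : ℕ, orderOf (r ^ i) ∣ 2 ∨ orderOf (r ^ i) = n := by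
    intro i
    have e : x * (x * r ^ i) = r ^ i := by rw [← mul_assoc, hsq x hx, one_mul]
    rcases hall x hx _ (hrefl i) with hc | ho
    · left
      refine orderOf_dvd_of_pow_eq_one ?_
      rw [← e]
      exact (TwoPInvol.commute_iff_sq (hsq x hx) (hsq _ (hrefl i))).1 hc
    · right
      rwa [e] at ho
  have hnpos : 0 < n := hn ▸ orderOf_pos r
  have hdvdn : ∀ e, e ∣ n → e ∣ 2 ∨ e = n := by
    rintro e ⟨f, hf⟩
    have hfpos : 0 < f := Nat.pos_of_ne_zero fun h0 => by subst h0; omega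
    have ho : orderOf (r ^ f) = e := by
      rw [orderOf_pow, hn, hf, Nat.gcd_eq_right (dvd_mul_left f e), Nat.mul_div_cancel _ hfpos]
    rw [← ho]
    exact hdiv f
  have hn2 : ¬ n ∣ 2 := fun hd => hxz ((TwoPInvol.commute_iff_sq (hsq x hx) (hsq z hz)).2
    (orderOf_dvd_iff_pow_eq_one.1 (by rw [← hr, hn]; exact hd)))
  rcases Nat.even_or_odd n with ⟨q, hq⟩ | hodd
  · -- `n = 4`
    exfalso
    have hn4 : n = 4 := by
      rcases hdvdn q ⟨2, by omega⟩ with h2 | h2
      · rcases (Nat.dvd_prime Nat.prime_two).1 h2 with h3 | h3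
        · subst h3; exact absurd ⟨1, by omega⟩ hn2
        · omega
      · omega
    haveI : Fact (Nat.Prime 2) := ⟨Nat.prime_two⟩
    have hpg := Involution.baer_suzuki_element (p := 2) x (fun g => by
      by_cases hne : x = g * x * g⁻¹
      · rw [← hne, Set.pair_eq_singleton, ← Subgroup.zpowers_eq_closure]
        exact IsPGroup.of_card (n := 1) (by rw [pow_one, Nat.card_zpowers, hinv x hx])
      refine Involution.isPGroup_closure_pair (hinv x hx) (hinv _ (hcls g x hx)) hne (a := 2) ?_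
      rcases hall x hx _ (hcls g x hx) with hc | ho
      · rw [show (2 : ℕ) ^ 2 = 2 * 2 by norm_num, pow_mul,
          (TwoPInvol.commute_iff_sq (hsq x hx) (hsq _ (hcls g x hx))).1 hc, one_pow]
      · rw [show (2 : ℕ) ^ 2 = n by omega, ← ho, pow_orderOf_eq_one])
    have hbot := hsol (Subgroup.normalClosure ({x} : Set G)) Subgroup.normalClosure_normal
      (haveI := hpg.isNilpotent; inferInstance)
    have h1 : x ∈ Subgroup.normalClosure ({x} : Set G) :=
      Subgroup.subset_normalClosure (Set.mem_singleton x)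
    rw [hbot, Subgroup.mem_bot] at h1
    exact Involution.ne_one (hinv x hx) h1
  · have hprime : n.Prime := Nat.prime_def.2 ⟨by
      rcases Nat.lt_or_ge n 2 with h | h
      · exact absurd (show n ∣ 2 by interval_cases n; exact one_dvd _) hn2
      · exact h, fun e he => by
      rcases hdvdn e he with h2 | h2
      · rcases (Nat.dvd_prime Nat.prime_two).1 h2 with h3 | h3
        · exact Or.inl h3
        · subst h3; exact absurd (even_iff_two_dvd.2 he) (Nat.not_even_iff_odd.2 hodd)
      · exact Or.inr h2⟩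
    by_cases hn3 : n = 3
    · refine ⟨hinv, fun d hd e he => ?_⟩
      rcases hall d hd e he with hc | ho
      · exact Or.inl ((TwoPInvol.commute_iff_sq (hsq d hd) (hsq e he)).1 hc)
      · exact Or.inr (by rw [← hn3, ← ho, pow_orderOf_eq_one])
    · exfalso
      have h5 : 5 ≤ n := by
        by_contra hlt
        have := hprime.two_le
        interval_cases n
        · exact absurd hodd (by decide)
        · exact hn3 rfl
        · exact absurd hodd (by decide)
      exact htop (TwoPInvol.solvable_of_ctx ⟨hprime, h5, hsq,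
        fun d hd => Involution.ne_one (hinv d hd), hcls, hall⟩ hgen)


/-- A generating conjugacy class of involutions on which the group (with trivial solvable radical) acts with rank 3 is a class of 3-transpositions. -/
theorem result {G : Type*} [Group G] [Finite G] (hsol : ∀ N : Subgroup G, N.Normal → Group.IsSolvable ↥N → N = ⊥) {D : Set G} (hinv : ∀ d ∈ D, orderOf d = 2) (hconj : ∃ d ∈ D, D = conjugatesOf d) (hgen : Subgroup.closure D = ⊤) (hrank : ∀ x ∈ D, ∃ y ∈ D, ∃ z ∈ D, {w : G | ∃ g : G, Commute g x ∧ g * y * g⁻¹ = w} ≠ {w : G | ∃ g : G, Commute g x ∧ g * x * g⁻¹ = w} ∧ {w : G | ∃ g : G, Commute g x ∧ g * z * g⁻¹ = w} ≠ {w : G | ∃ g : G, Commute g x ∧ g * x * g⁻¹ = w} ∧ {w : G | ∃ g : G, Commute g x ∧ g * y * g⁻¹ = w} ≠ {w : G | ∃ g : G, Commute g x ∧ g * z * g⁻¹ = w} ∧ D = {w : G | ∃ g : G, Commute g x ∧ g * x * g⁻¹ = w} ∪ {w : G | ∃ g : G, Commute g x ∧ g * y * g⁻¹ = w} ∪ {w : G | ∃ g : G, Commute g x ∧ g * z * g⁻¹ = w}) : Cfsg.IsThreeTranspositionClass D :=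 by
  obtain ⟨x, hx, hD⟩ := hconj
  refine ⟨?_, ⟨x, hx, hD⟩, hgen⟩
  have hcls : ∀ g, ∀ d ∈ D, g * d * g⁻¹ ∈ D := by
    intro g d hd
    rw [hD] at hd ⊢
    exact IsConj.trans hd (isConj_iff.2 ⟨g, rfl⟩)
  have hconjx : ∀ a ∈ D, ∃ g : G, g * x * g⁻¹ = a := by
    intro a ha
    rw [hD] at ha
    exact isConj_iff.1 ha
  have hnc : ¬ ∀ g : G, g * x * g⁻¹ = x := by
    intro hc
    obtain ⟨y, hy, z, hz, hyx, -⟩ := hrank x hx
    obtain ⟨g, hg⟩ := hconjx y hy
    rw [hc g] at hg
    exact hyx (by rw [← hg])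
  obtain ⟨y, hy, z, hz, -, -, -, hDU⟩ := hrank x hx
  have hmem : ∀ d ∈ D, d = x ∨ (∃ g, Commute g x ∧ g * y * g⁻¹ = d) ∨
      ∃ g, Commute g x ∧ g * z * g⁻¹ = d := by
    intro d hd
    rw [hDU] at hd
    rcases hd with (⟨g, hg, e⟩ | h) | h
    · exact Or.inl (e.symm.trans (conj_x hg))
    · exact Or.inr (Or.inl h)
    · exact Or.inr (Or.inr h)
  have main : ∀ w ∈ D, ¬ Commute x w →
      (∀ d ∈ D, Commute x d ∨ ∃ g, Commute g x ∧ g * w * g⁻¹ = d) →
      Cfsg.IsThreeTranspositionSet D := by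
    intro w hw hxw hor
    refine threeTransposition hsol hinv hx hw hcls hgen hxw rfl fun a ha b hb => ?_
    obtain ⟨g, rfl⟩ := hconjx a ha
    have hb' := hcls g⁻¹ b hb
    rw [inv_inv] at hb'
    have eb : g * (g⁻¹ * b * g) * g⁻¹ = b := by group
    rcases hor _ hb' with hc | ⟨k, hk, he⟩
    · left
      rw [← eb]
      exact (TwoPInvol.commute_conj_iff g).2 hc
    · right
      rw [← orderOf_mul_orbit hk (w := w), he, ← Involution.orderOf_conj g (x * (g⁻¹ * b * g))]
      congr 1
      group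
  by_cases hxy : Commute x y
  · by_cases hxz : Commute x z
    · exfalso
      refine hnc fun g => ?_
      have hle : Subgroup.closure D ≤ Subgroup.centralizer ({x} : Set G) := by
        rw [Subgroup.closure_le]
        intro d hd
        refine Subgroup.mem_centralizer_singleton_iff.2 (Commute.eq ?_)
        rcases hmem d hd with rfl | ⟨k, hk, rfl⟩ | ⟨k, hk, rfl⟩
        exacts [Commute.refl _, (commute_conj_orbit hk hxy).symm, (commute_conj_orbit hk hxz).symm]
      rw [hgen] at hle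
      exact conj_x (Subgroup.mem_centralizer_singleton_iff.1 (hle (Subgroup.mem_top g)))
    · refine main z hz hxz fun d hd => ?_
      rcases hmem d hd with rfl | ⟨k, hk, rfl⟩ | h
      exacts [Or.inl (Commute.refl _), Or.inl (commute_conj_orbit hk hxy), Or.inr h]
  · by_cases hxz : Commute x z
    · refine main y hy hxy fun d hd => ?_
      rcases hmem d hd with rfl | h | ⟨k, hk, rfl⟩
      exacts [Or.inl (Commute.refl _), Or.inr h, Or.inl (commute_conj_orbit hk hxz)]
    · exfalso
      refine hnc (central_of_isolated hsol (hinv x hx) fun g hc => ?_)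
      rcases hmem _ (hcls g x hx) with h | ⟨k, hk, e⟩ | ⟨k, hk, e⟩
      · exact h
      · rw [← e] at hc
        have := commute_conj_orbit hk.inv_left hc
        rw [inv_inv, show k⁻¹ * (k * y * k⁻¹) * k = y by group] at this
        exact absurd this hxy
      · rw [← e] at hc
        have := commute_conj_orbit hk.inv_left hc
        rw [inv_inv, show k⁻¹ * (k * z * k⁻¹) * k = z by group] at this
        exact absurd this hxz

end Cfsg.Agent.S1617
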