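import Cfsg.Statements.S1624
import Cfsg.Agent.Lib.IcosianGroup.Hundred
import Cfsg.Agent.Lib.IcosianGroup.PointStab

set_option autoImplicit false
open Quaternion
open Cfsg

namespace Cfsg.Agent.S1624

/-- The Hall–Janko group contains PSU(3, 3) with index 100 and acts on the 100 cosets with rank 3 and subdegrees 1, 36, 63. -/
theorem result : ∃ H : Subgroup Cfsg.Spor.J2, H.index = 100 ∧ (∃ (F : Type) (_ : Field F) (_ : Fintype F), Fintype.card F = 9 ∧ Nonempty (↥H ≃* Cfsg.PSU 3 F 3)) ∧ ∃ c₁ c₂ : Cfsg.Spor.J2 ⧸ H, (MulAction.orbit ↥H c₁).ncard = 36 ∧ (MulAction.orbit ↥H c₂).ncard = 63 := by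
  let e := Cfsg.Agent.IcoGroup.equivJTwo
  let S := MulAction.stabilizer Cfsg.Agent.JTwoPerm.jTwo (Cfsg.Agent.JTwoPerm.pt 0)
  let H : Subgroup Cfsg.Spor.J2 := S.comap e.toMonoidHom
  have hidx : H.index = 100 := by
    rw [Subgroup.index_comap_of_surjective _ e.surjective,
      MulAction.index_stabilizer_of_transitive, Nat.card_fin]
  -- the cosets are the hundred points
  let Φ : Cfsg.Spor.J2 ⧸ H → Fin 100 := fun q =>
    Quotient.liftOn' q (fun g => e g • Cfsg.Agent.JTwoPerm.pt 0) fun a b h => by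
      have h' : e (a⁻¹ * b) • Cfsg.Agent.JTwoPerm.pt 0 = Cfsg.Agent.JTwoPerm.pt 0 :=
        QuotientGroup.leftRel_apply.1 h
      rw [map_mul, map_inv, mul_smul, inv_smul_eq_iff] at h'
      exact h'.symm
  have hΦ : ∀ g, Φ (QuotientGroup.mk g) = e g • Cfsg.Agent.JTwoPerm.pt 0 := fun _ => rfl
  have hinj : Function.Injective Φ := by
    rintro ⟨a⟩ ⟨b⟩ h
    refine QuotientGroup.eq.2 ?_
    show e (a⁻¹ * b) • Cfsg.Agent.JTwoPerm.pt 0 = Cfsg.Agent.JTwoPerm.pt 0
    rw [map_mul, map_inv, mul_smul, inv_smul_eq_iff]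
    exact h.symm
  have horb : ∀ r : Fin 100, ∃ c : Cfsg.Spor.J2 ⧸ H,
      (MulAction.orbit H c).ncard = (MulAction.orbit S r).ncard := by
    intro r
    obtain ⟨g, hg⟩ := MulAction.exists_smul_eq Cfsg.Agent.JTwoPerm.jTwo (Cfsg.Agent.JTwoPerm.pt 0) r
    refine ⟨QuotientGroup.mk (e.symm g), ?_⟩
    have himg : Φ '' MulAction.orbit H (QuotientGroup.mk (e.symm g) : Cfsg.Spor.J2 ⧸ H) =
        MulAction.orbit S r := by
      ext x
      constructor
      · rintro ⟨_, ⟨⟨h, hh⟩, rfl⟩, rfl⟩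
        refine ⟨⟨e h, hh⟩, ?_⟩
        show e h • r = e (h * e.symm g) • Cfsg.Agent.JTwoPerm.pt 0
        rw [map_mul, MulEquiv.apply_symm_apply, mul_smul, hg]
      · rintro ⟨⟨s, hs⟩, rfl⟩
        have hmem : e.symm s ∈ H := by
          show e (e.symm s) ∈ S
          rw [MulEquiv.apply_symm_apply]
          exact hs
        refine ⟨_, ⟨⟨e.symm s, hmem⟩, rfl⟩, ?_⟩
        show e (e.symm s * e.symm g) • Cfsg.Agent.JTwoPerm.pt 0 = s • r
        rw [map_mul, MulEquiv.apply_symm_apply, MulEquiv.apply_symm_apply, mul_smul, hg]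
    rw [← himg, Set.ncard_image_of_injective _ hinj]
  obtain ⟨c₁, h₁⟩ := horb (Cfsg.Agent.JTwoPerm.pt 1)
  obtain ⟨c₂, h₂⟩ := horb (Cfsg.Agent.JTwoPerm.pt 37)
  refine ⟨H, hidx, ⟨GaloisField 3 2, inferInstance, Fintype.ofFinite _, ?_, ?_⟩, c₁, c₂,
    h₁.trans Cfsg.Agent.PointStab.ncard_orbit_one,
    h₂.trans Cfsg.Agent.PointStab.ncard_orbit_thirty_seven⟩
  · rw [← @Nat.card_eq_fintype_card _ (Fintype.ofFinite _), GaloisField.card 3 2 (by norm_num)]
    norm_num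
  · letI := Fintype.ofFinite (GaloisField 3 2)
    obtain ⟨ψ⟩ := Cfsg.Agent.PointStab.nonempty_stabilizer_equiv (F := GaloisField 3 2)
      (by rw [← Nat.card_eq_fintype_card, GaloisField.card 3 2 (by norm_num)])
    exact ⟨((e.subgroupMap H).trans
      (MulEquiv.subgroupCongr (Subgroup.map_comap_eq_self_of_surjective e.surjective S))).trans ψ⟩

end Cfsg.Agent.S1624
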