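import Cfsg.Statements.S1628
import Cfsg.Agent.Lib.RuLattice.Short

set_option autoImplicit false
open Cfsg

namespace Cfsg.Agent.S1628

/-- The Conway–Wales lattice as stored is even with no vectors of true norm 2: stored norms are multiples of 8, never equal to 8, and the minimum over nonzero vectors is 16. -/
theorem result : (∀ x ∈ Cfsg.Spor.ruLattice, (8 : ℤ) ∣ Cfsg.Spor.ruNorm x) ∧ (∀ x ∈ Cfsg.Spor.ruLattice, Cfsg.Spor.ruNorm x ≠ 8) ∧ (∀ x ∈ Cfsg.Spor.ruLattice, x ≠ 0 → 16 ≤ Cfsg.Spor.ruNorm x) ∧ ∃ x ∈ Cfsg.Spor.ruLattice, Cfsg.Spor.ruNorm x = 16 := by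
  refine ⟨fun x hx => RuLat.norm_mem (RuLat.ruLattice_le hx), fun x hx => RuLat.no_norm_eight hx,
    fun x hx h0 => ?_, ?_⟩
  · obtain ⟨t, ht⟩ := RuLat.norm_mem (RuLat.ruLattice_le hx)
    have h8 := RuLat.no_norm_eight hx
    have hnn : 0 ≤ Cfsg.Spor.ruNorm x := Finset.sum_nonneg fun p _ => GaussianInt.norm_nonneg _
    have hne : Cfsg.Spor.ruNorm x ≠ 0 := fun h => h0 (funext fun p => RuLat.norm_eq_zero
      ((Finset.sum_eq_zero_iff_of_nonneg fun q _ => GaussianInt.norm_nonneg _).1 h p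
        (Finset.mem_univ _)))
    omega
  · refine ⟨Cfsg.Spor.ruTable.getD 0 0, ?_, by decide +kernel⟩
    rw [Cfsg.Spor.ruLattice, AddSubgroup.mem_sInf]
    exact fun L hL => hL.1 _ (List.mem_cons_self)

end Cfsg.Agent.S1628
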