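import Cfsg.Statements.S1631
import Cfsg.Agent.Lib.Unitary.Witt
import Cfsg.Agent.Lib.Unitary.Generation

set_option autoImplicit false
open scoped MatrixGroups
open Cfsg

namespace Cfsg.Agent.S1631

open Cfsg.Agent.Unitary

variable {F : Type} [Field F] [Fintype F] {n : ℕ}

/-- `g` is the unitary transvection with centre `v`. -/
def IsT (g : ↥(Cfsg.SU n F 2)) (v : Fin n → F) : Prop :=
  v ≠ 0 ∧ Cfsg.hermForm n F 2 v v = 0 ∧
    ∀ x, suAct g x = x + Cfsg.hermForm n F 2 x v • v

theorem two_eq_zero (hF : Fintype.card F = 2 ^ 2) : (2 : F) = 0 := by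
  have h : ((Fintype.card F : ℕ) : F) = 0 := FiniteField.cast_card_eq_zero F
  rw [hF, Nat.cast_pow, Nat.cast_ofNat] at h
  exact (pow_eq_zero_iff two_ne_zero).1 h

set_option linter.unusedSectionVars false

variable (hF : Fintype.card F = 2 ^ 2)
include hF

theorem cube_eq_one {a : F} (ha : a ≠ 0) : a ^ 3 = 1 := by
  have := FiniteField.pow_card_sub_one_eq_one a ha
  rwa [hF] at this

theorem add_self (x : F) : x + x = 0 := by linear_combination x * two_eq_zero hF

theorem vec_add_self (v : Fin n → F) : v + v = 0 := funext fun i => add_self hF (v i)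

theorem IsT.mul_self {g : ↥(Cfsg.SU n F 2)} {v : Fin n → F} (h : IsT g v) : g * g = 1 := by
  refine suAct_ext fun x => ?_
  rw [suAct_mul, h.2.2 x, suAct_add, suAct_smul, h.2.2, h.2.2 v, h.2.1, zero_smul, add_zero,
    suAct_one, add_assoc, vec_add_self hF, add_zero]

theorem IsT.ne_one {g : ↥(Cfsg.SU n F 2)} {v : Fin n → F} (h : IsT g v) : g ≠ 1 := by
  rintro rfl
  obtain ⟨i, hi⟩ := Function.ne_iff.1 h.1
  have := h.2.2 (Pi.single i 1)
  rw [suAct_one, left_eq_add, smul_eq_zero, hermForm_single_left] at this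
  exact this.elim (fun e => hi ((pow_q_eq_zero hF).1 e)) h.1

theorem IsT.unique {g g' : ↥(Cfsg.SU n F 2)} {v : Fin n → F} {a : F} (ha : a ≠ 0)
    (h : IsT g v) (h' : IsT g' (a • v)) : g = g' := by
  refine suAct_ext fun x => ?_
  rw [h.2.2, h'.2.2, (hermForm_isHerm hF n).smul_right, smul_smul]
  congr 2
  linear_combination (-Cfsg.hermForm n F 2 x v) * cube_eq_one hF ha

theorem IsT.conj {g : ↥(Cfsg.SU n F 2)} {v : Fin n → F} (h : IsT g v) (k : ↥(Cfsg.SU n F 2)) :
    IsT (k * g * k⁻¹) (suAct k v) := by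
  refine ⟨fun e => h.1 ?_, by rw [suAct_herm]; exact h.2.1, fun x => ?_⟩
  · rw [← suAct_inv_suAct k v, e, suAct_zero]
  · rw [suAct_mul, suAct_mul, h.2.2, suAct_add, suAct_smul, suAct_suAct_inv]
    conv_rhs => rw [← suAct_suAct_inv k x, suAct_herm]
    rw [suAct_suAct_inv]

theorem IsT.inv_eq {g : ↥(Cfsg.SU n F 2)} {v : Fin n → F} (h : IsT g v) : g⁻¹ = g :=
  inv_eq_of_mul_eq_one_left (h.mul_self hF)

theorem IsT.prod {d e : ↥(Cfsg.SU n F 2)} {u v : Fin n → F} (hd : IsT d u) (he : IsT e v) :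
    (d * e) ^ 2 = 1 ∨ (d * e) ^ 3 = 1 := by
  have H := hermForm_isHerm hF n
  have c1 := he.conj hF d
  have c2 := hd.conj hF e
  rw [hd.inv_eq hF, hd.2.2 v] at c1
  rw [he.inv_eq hF, he.2.2 u] at c2
  by_cases ha : Cfsg.hermForm n F 2 v u = 0
  · left
    rw [ha, zero_smul, add_zero] at c1
    have : d * e * d = e := (IsT.unique hF one_ne_zero he (by rwa [one_smul])).symm
    calc (d * e) ^ 2 = d * e * d * e := by rw [pow_two]; simp only [mul_assoc]
      _ = 1 := by rw [this, he.mul_self hF]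
  · right
    have e3 : u + Cfsg.hermForm n F 2 u v • v =
        Cfsg.hermForm n F 2 v u ^ 2 • (v + Cfsg.hermForm n F 2 v u • u) := by
      rw [H.conj_symm v u, smul_add, smul_smul, ← pow_succ, cube_eq_one hF ha, one_smul, add_comm]
    rw [e3] at c2
    have := IsT.unique hF (pow_ne_zero 2 ha) c1 c2
    calc (d * e) ^ 3 = (d * e * d) * (e * d * e) := by
          rw [pow_three]; simp only [mul_assoc]
      _ = 1 := by
          rw [← this]
          exact c1.mul_self hF

theorem IsT.rank {g : ↥(Cfsg.SU n F 2)} {v : Fin n → F} (h : IsT g v) :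
    (((g : Matrix.SpecialLinearGroup (Fin n) F) : Matrix (Fin n) (Fin n) F) - 1).rank = 1 := by
  classical
  have hk : ∀ x, ((((g : Matrix.SpecialLinearGroup (Fin n) F) : Matrix (Fin n) (Fin n) F) - 1)).mulVec x
      = Cfsg.hermForm n F 2 x v • v := fun x => by
    rw [Matrix.sub_mulVec, Matrix.one_mulVec, sub_eq_iff_eq_add']
    exact h.2.2 x
  obtain ⟨i, hi⟩ := Function.ne_iff.1 h.1
  have hr : LinearMap.range ((((g : Matrix.SpecialLinearGroup (Fin n) F) :
      Matrix (Fin n) (Fin n) F) - 1).mulVecLin) = F ∙ v := by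
    refine le_antisymm ?_ ?_
    · rintro _ ⟨x, rfl⟩
      rw [Matrix.mulVecLin_apply, hk]
      exact Submodule.smul_mem _ _ (Submodule.mem_span_singleton_self v)
    · rw [Submodule.span_singleton_le_iff_mem]
      refine ⟨(v i ^ 2)⁻¹ • Pi.single i 1, ?_⟩
      rw [Matrix.mulVecLin_apply, hk, (hermForm_isHerm hF n).smul_left, hermForm_single_left,
        inv_mul_cancel₀ (fun e => hi ((pow_q_eq_zero hF).1 e)), one_smul]
  rw [Matrix.rank, hr, finrank_span_singleton h.1]

theorem exists_of_rank [DecidableEq F] (g : ↥(Cfsg.SU n F 2))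
    (hg : (((g : Matrix.SpecialLinearGroup (Fin n) F) : Matrix (Fin n) (Fin n) F) - 1).rank = 1) :
    ∃ v, IsT g v := by
  have H := hermForm_isHerm hF n
  set A := ((g : Matrix.SpecialLinearGroup (Fin n) F) : Matrix (Fin n) (Fin n) F) with hA
  obtain ⟨⟨w, hwm⟩, hw0, hw⟩ := finrank_eq_one_iff'.1 hg
  have hw0' : w ≠ 0 := fun e => hw0 (Subtype.ext e)
  have hc : ∀ x, ∃ c : F, suAct g x = x + c • w := fun x => by
    obtain ⟨c, hc⟩ := hw ⟨(A - 1).mulVecLin x, LinearMap.mem_range_self _ x⟩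
    refine ⟨c, ?_⟩
    have hc' : c • w = (A - 1).mulVec x := congrArg Subtype.val hc
    rw [hc', Matrix.sub_mulVec, Matrix.one_mulVec, suAct, add_sub_cancel]
  choose φ hφ using hc
  set a := Cfsg.hermForm n F 2 w w with ha
  have key : ∀ x y, φ x * Cfsg.hermForm n F 2 w y + φ y ^ 2 * Cfsg.hermForm n F 2 x w
      + φ x * φ y ^ 2 * a = 0 := fun x y => by
    have h := suAct_herm g x y
    rw [hφ x, hφ y] at h
    simp only [H.add_left, H.add_right hF, H.smul_left, H.smul_right] at h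
    linear_combination h
  obtain ⟨y, hy⟩ : ∃ y, φ y ≠ 0 := by
    obtain ⟨y, hy⟩ := LinearMap.mem_range.1 hwm
    refine ⟨y, fun h => hw0' ?_⟩
    have := hφ y
    rw [h, zero_smul, add_zero] at this
    rw [← hy, Matrix.mulVecLin_apply, Matrix.sub_mulVec, Matrix.one_mulVec]
    rw [suAct] at this
    rw [this, sub_self]
  have hy2 : φ y ^ 2 ≠ 0 := pow_ne_zero _ hy
  set c : F := -(φ y ^ 2) / (Cfsg.hermForm n F 2 w y + φ y ^ 2 * a) with hcdef
  have hlin : ∀ x, φ x * (Cfsg.hermForm n F 2 w y + φ y ^ 2 * a) =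
      -(φ y ^ 2) * Cfsg.hermForm n F 2 x w := fun x => by linear_combination key x y
  have hden : Cfsg.hermForm n F 2 w y + φ y ^ 2 * a ≠ 0 := by
    intro h0
    obtain ⟨i, hi⟩ := Function.ne_iff.1 hw0'
    have := hlin (Pi.single i 1)
    rw [h0, mul_zero, zero_eq_mul, neg_eq_zero, hermForm_single_left] at this
    exact this.elim hy2 fun e => hi ((pow_q_eq_zero hF).1 e)
  have hc0 : c ≠ 0 := div_ne_zero (neg_ne_zero.2 hy2) hden
  have hφc : ∀ x, φ x = c * Cfsg.hermForm n F 2 x w := fun x => by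
    rw [hcdef, div_mul_eq_mul_div, eq_div_iff hden]
    exact hlin x
  have hmat : A = Cfsg.unitaryTransvection n 2 w c := by
    refine Matrix.ext_iff_mulVec.2 fun x => ?_
    rw [transvection_mulVec, ← hφc]
    exact hφ x
  have hdet : A.det = 1 := (g : Matrix.SpecialLinearGroup (Fin n) F).2
  rw [hmat, Cfsg.unitaryTransvection, ← Matrix.smul_vecMulVec,
    Matrix.vecMulVec_eq Unit, Matrix.det_one_add_replicateCol_mul_replicateRow, add_eq_left,
    dotProduct_smul, smul_eq_mul, mul_eq_zero] at hdet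
  have ha0 : a = 0 := by
    have e : (fun j => w j ^ 2) ⬝ᵥ w = a := by
      simp [ha, dotProduct, Cfsg.hermForm, mul_comm]
    rw [← e]
    exact hdet.resolve_left hc0
  have hiso : IsUnitary 2 (Cfsg.unitaryTransvection n 2 w c) := by
    rw [← hmat]; exact g.2
  have hc2 := (transvection_isometry_iff hF w hw0' ha0 c).1 hiso
  have hc1 : c = 1 := by
    have e : c * (c - 1) = 0 := by linear_combination hc2 - c * two_eq_zero hF
    exact sub_eq_zero.1 ((mul_eq_zero.1 e).resolve_left hc0)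
  refine ⟨w, hw0', ha0, fun x => ?_⟩
  rw [hφ x, hφc, hc1, one_mul]

theorem exists_transitive (hn : 4 ≤ n) {u w : Fin n → F} (hu : u ≠ 0) (hw : w ≠ 0)
    (hu0 : Cfsg.hermForm n F 2 u u = 0) (hw0 : Cfsg.hermForm n F 2 w w = 0) :
    ∃ g : ↥(Cfsg.SU n F 2), suAct g u = w := by
  have H := hermForm_isHerm hF n
  obtain ⟨ε, hε⟩ := exists_eps hF
  obtain ⟨a, a', hA, hsplit⟩ := isotropic_split hF (b := (Fin.elim0 : Fin 0 → (Fin n → F)))
    ⟨fun i => i.elim0, fun i => i.elim0⟩ hw hw0 (fun i => i.elim0) hε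
  obtain ⟨z, hz, hzA⟩ := exists_orthonormal_step hF H (hermForm_nondeg hF n) hA
    (show 2 < _ by rw [Module.finrank_fin_fun]; omega)
  have h1 : Cfsg.hermForm n F 2 a' z = 0 := by
    simpa only [Fin.snoc_castSucc, Fin.snoc_last] using hzA (Fin.last (0 + 1))
  have h2 : Cfsg.hermForm n F 2 a z = 0 := by
    simpa only [Fin.snoc_castSucc, Fin.snoc_last] using hzA (Fin.castSucc (Fin.last 0))
  obtain ⟨g, hg⟩ := exists_su_witt hF (k := 1) (u := fun _ => u) (w := fun _ => w)
    (linearIndependent_unique_iff.2 hu) (linearIndependent_unique_iff.2 hw)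
    (fun _ _ => by rw [hu0, hw0]) hz (fun _ => by simp [hsplit, H.add_left, H.smul_left, h1, h2])
  exact ⟨g, hg 0⟩

theorem exists_isT (hn : 4 ≤ n) : ∃ d : ↥(Cfsg.SU n F 2), ∃ v, IsT d v := by
  set v : Fin n → F := Pi.single ⟨0, by omega⟩ 1 + Pi.single ⟨1, by omega⟩ 1 with hv
  have hv0 : Cfsg.hermForm n F 2 v v = 0 := by
    have H := hermForm_isHerm hF n
    simp [hv, H.add_left, H.add_right hF, hermForm_single_left, add_self hF]
  have hc : (1 : F) + (1 : F) ^ 2 = 0 := by rw [one_pow, add_self hF]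
  refine ⟨suTransvection hF v hv0 1 hc, v, fun e => ?_, hv0, fun x => ?_⟩
  · have := congrFun e ⟨0, by omega⟩
    simp [hv] at this
  · rw [suAct_suTransvection, one_mul]

end Cfsg.Agent.S1631

namespace Cfsg.Agent.S1631

open Cfsg.Agent.Unitary

/-- The unitary transvections of SU(n, 2), n ≥ 4, form a generating conjugacy class of 3-transpositions. -/
theorem result (F : Type) [Field F] [Fintype F] [DecidableEq F] (hF : Fintype.card F = 4) (n : ℕ) (hn : 4 ≤ n) : Cfsg.IsThreeTranspositionClass {g : ↥(Cfsg.SU n F 2) | (((g : Matrix.SpecialLinearGroup (Fin n) F) : Matrix (Fin n) (Fin n) F) - 1).rank = 1} := by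
  have hF' : Fintype.card F = 2 ^ 2 := hF
  refine ⟨⟨fun d hd => ?_, fun d hd e he => ?_⟩, ?_, ?_⟩
  · obtain ⟨v, hv⟩ := exists_of_rank hF' d hd
    exact orderOf_eq_prime (by rw [pow_two, hv.mul_self hF']) (hv.ne_one hF')
  · obtain ⟨u, hu⟩ := exists_of_rank hF' d hd
    obtain ⟨v, hv⟩ := exists_of_rank hF' e he
    exact hu.prod hF' hv
  · obtain ⟨d, v, hv⟩ := exists_isT hF' hn
    refine ⟨d, hv.rank hF', ?_⟩
    ext g
    constructor
    · intro hg
      obtain ⟨w, hw⟩ := exists_of_rank hF' g hg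
      obtain ⟨k, hk⟩ := exists_transitive hF' hn hv.1 hw.1 hv.2.1 hw.2.1
      have := hv.conj hF' k
      rw [hk] at this
      exact isConj_iff.2 ⟨k, IsT.unique hF' one_ne_zero this (by rwa [one_smul])⟩
    · intro h
      obtain ⟨k, rfl⟩ := isConj_iff.1 (show IsConj _ g from h)
      exact (hv.conj hF' k).rank hF'
  · rw [eq_top_iff, ← transvectionGroup_eq_top hF' (Or.inl hn), transvectionGroup,
      Subgroup.closure_le]
    rintro A ⟨v, c, hv0, hA⟩
    by_cases h1 : A = 1
    · rw [h1]; exact one_mem _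
    refine Subgroup.subset_closure ?_
    have hx : ∀ x, suAct A x = x + (c * Cfsg.hermForm n F 2 x v) • v := fun x => by
      rw [suAct, hA, transvection_mulVec]
    have hv : v ≠ 0 := fun e => h1 (suAct_ext fun x => by
      rw [hx, e, smul_zero, add_zero, suAct_one])
    have hc0 : c ≠ 0 := fun e => h1 (suAct_ext fun x => by
      rw [hx, e, zero_mul, zero_smul, add_zero, suAct_one])
    have hiso : IsUnitary 2 (Cfsg.unitaryTransvection n 2 v c) := by
      rw [← hA]; exact A.2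
    have hc2 := (transvection_isometry_iff hF' v hv hv0 c).1 hiso
    have hc1 : c = 1 := by
      have e : c * (c - 1) = 0 := by linear_combination hc2 - c * two_eq_zero hF'
      exact sub_eq_zero.1 ((mul_eq_zero.1 e).resolve_left hc0)
    exact IsT.rank hF' ⟨hv, hv0, fun x => by rw [hx, hc1, one_mul]⟩

end Cfsg.Agent.S1631
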