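import Cfsg.Agent.Lib.Theta.Unimodular

set_option autoImplicit false
open Matrix

namespace Cfsg.Agent.S1632

open Cfsg.Agent.Theta UpperHalfPlane ModularForm EisensteinSeries
open scoped MatrixGroups

theorem e4_coeff (m : ℕ) : (qExpansion 1 E₄).coeff m =
    if m = 0 then 1 else 240 * (ArithmeticFunction.sigma 3 m : ℂ) := by
  rw [E_qExpansion_coeff _ ⟨2, rfl⟩, show bernoulli 4 = -1 / 30 by decide +kernel]
  norm_num

theorem e6_coeff (m : ℕ) : (qExpansion 1 E₆).coeff m =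
    if m = 0 then 1 else -504 * (ArithmeticFunction.sigma 5 m : ℂ) := by
  rw [E_qExpansion_coeff _ ⟨3, rfl⟩, show bernoulli 6 = 1 / 42 by decide +kernel]
  norm_num

/-- The weight 12 form with constant term 1 and no linear term. -/
noncomputable def extremal : ModularForm 𝒮ℒ 12 :=
  (7 / 12 : ℂ) • ModularForm.mcast (by decide) (E₄.pow 3) +
    (5 / 12 : ℂ) • ModularForm.mcast (by decide) (E₆.pow 2)

theorem extremal_qExpansion : qExpansion 1 extremal =
    (7 / 12 : ℂ) • (qExpansion 1 E₄ * qExpansion 1 E₄ * qExpansion 1 E₄) +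
      (5 / 12 : ℂ) • (qExpansion 1 E₆ * qExpansion 1 E₆) := by
  rw [extremal, FunLike.coe_add, ModularForm.qExpansion_add one_pos one_mem_strictPeriods_SL,
    FunLike.coe_smul, FunLike.coe_smul, ModularForm.qExpansion_smul one_pos one_mem_strictPeriods_SL,
    ModularForm.qExpansion_smul one_pos one_mem_strictPeriods_SL, ModularForm.qExpansion_mcast,
    ModularForm.qExpansion_mcast, ModularForm.qExpansion_pow one_pos one_mem_strictPeriods_SL,
    ModularForm.qExpansion_pow one_pos one_mem_strictPeriods_SL]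
  rw [pow_succ, pow_two, pow_two]

theorem extremal_coeff : (qExpansion 1 extremal).coeff 0 = 1 ∧ (qExpansion 1 extremal).coeff 1 = 0 ∧
    (qExpansion 1 extremal).coeff 2 = 196560 ∧ (qExpansion 1 extremal).coeff 3 = 16773120 ∧
    (qExpansion 1 extremal).coeff 4 = 398034000 := by
  rw [extremal_qExpansion]
  have a : ArithmeticFunction.sigma 3 1 = 1 ∧ ArithmeticFunction.sigma 3 2 = 9 ∧ ArithmeticFunction.sigma 3 3 = 28 ∧ ArithmeticFunction.sigma 3 4 = 73 ∧
      ArithmeticFunction.sigma 5 1 = 1 ∧ ArithmeticFunction.sigma 5 2 = 33 ∧ ArithmeticFunction.sigma 5 3 = 244 ∧ ArithmeticFunction.sigma 5 4 = 1057 := by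
    refine ⟨?_, ?_, ?_, ?_, ?_, ?_, ?_, ?_⟩ <;> decide +kernel
  obtain ⟨a1, a2, a3, a4, b1, b2, b3, b4⟩ := a
  refine ⟨?_, ?_, ?_, ?_, ?_⟩ <;>
    norm_num [-PowerSeries.coeff_zero_eq_constantCoeff, map_add, PowerSeries.coeff_smul,
      PowerSeries.coeff_mul, Finset.Nat.antidiagonal_succ, e4_coeff, e6_coeff,
      a1, a2, a3, a4, b1, b2, b3, b4]

theorem result (B : Matrix (Fin 24) (Fin 24) ℤ) (hsymm : B.IsSymm) (hpos : ∀ x : Fin 24 → ℤ, x ≠ 0 → 0 < x ⬝ᵥ (B *ᵥ x)) (heven : ∀ x : Fin 24 → ℤ, (2 : ℤ) ∣ x ⬝ᵥ (B *ᵥ x)) (hdet : B.det = 1) (h2 : ∀ x : Fin 24 → ℤ, x ⬝ᵥ (B *ᵥ x) ≠ 2) : {x : Fin 24 → ℤ | x ⬝ᵥ (B *ᵥ x) = 4}.ncard = 196560 ∧ {x : Fin 24 → ℤ | x ⬝ᵥ (B *ᵥ x) = 6}.ncard = 16773120 ∧ {x : Fin 24 → ℤ | x ⬝ᵥ (B *ᵥ x) = 8}.ncard = 398034000 := by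
  have hB : EvenUnimodular B := ⟨hsymm, hpos, heven, hdet⟩
  obtain ⟨c0, c1, c2, c3, c4⟩ := extremal_coeff
  have r1 : repNum B 1 = 0 := by
    have : {x : Fin 24 → ℤ | x ⬝ᵥ (B *ᵥ x) = 2 * ((1 : ℕ) : ℤ)} = ∅ := by
      ext x
      simpa using h2 x
    rw [repNum, this, Set.ncard_empty]
  have hzero : thetaForm hB - extremal = 0 := by
    refine sturm_bound_levelOne ?_
    have hlow : ∀ i < 2, (qExpansion 1 ⇑(thetaForm hB - extremal)).coeff i = 0 := by
      intro i hi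
      rw [FunLike.coe_sub, ModularForm.qExpansion_sub one_pos one_mem_strictPeriods_SL, map_sub,
        qExpansion_thetaForm_coeff]
      interval_cases i
      · rw [repNum_zero hB, c0]; simp
      · rw [r1, c1]; simp
    have h := PowerSeries.nat_le_order _ 2 hlow
    exact lt_of_lt_of_le (by decide) h
  have heq : ∀ n, (repNum B n : ℂ) = (qExpansion 1 extremal).coeff n := by
    intro n
    rw [← qExpansion_thetaForm_coeff hB, sub_eq_zero.1 hzero]
  refine ⟨?_, ?_, ?_⟩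
  · have := heq 2; rw [c2] at this; exact_mod_cast this
  · have := heq 3; rw [c3] at this; exact_mod_cast this
  · have := heq 4; rw [c4] at this; exact_mod_cast this

end Cfsg.Agent.S1632
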