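import Cfsg.Statements.S1633
import Cfsg.Agent.Lib.Leech.PSU35.Iso

set_option autoImplicit false
open Cfsg

namespace Cfsg.Agent.S1633

/-- The Higman–Sims group acts transitively on 352 vectors, a set closed under x ↦ −w − x, with vector stabiliser isomorphic to PSU(3, 5). -/
theorem result (v w : ↥Cfsg.leechLattice) (hv : Cfsg.sqNorm (v : Cfsg.GolayPt → ℤ) = 48) (hw : Cfsg.sqNorm (w : Cfsg.GolayPt → ℤ) = 48) (hvw : Cfsg.dotInt (v : Cfsg.GolayPt → ℤ) (w : Cfsg.GolayPt → ℤ) = -32) (F : Type) [Field F] [Fintype F] (hF : Fintype.card F = 25) : {x : ↥Cfsg.leechLattice | Cfsg.sqNorm (x : Cfsg.GolayPt → ℤ) = 32 ∧ Cfsg.dotInt (v : Cfsg.GolayPt → ℤ) (x : Cfsg.GolayPt → ℤ) = 16 ∧ Cfsg.dotInt (w : Cfsg.GolayPt → ℤ) (x : Cfsg.GolayPt → ℤ) = -24}.ncard = 352 ∧ (∀ x ∈ {x : ↥Cfsg.leechLattice | Cfsg.sqNorm (x : Cfsg.GolayPt → ℤ) = 32 ∧ Cfsg.dotInt (v : Cfsg.GolayPt → ℤ) (x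 : Cfsg.GolayPt → ℤ) = 16 ∧ Cfsg.dotInt (w : Cfsg.GolayPt → ℤ) (x : Cfsg.GolayPt → ℤ) = -24}, -w - x ∈ {x : ↥Cfsg.leechLattice | Cfsg.sqNorm (x : Cfsg.GolayPt → ℤ) = 32 ∧ Cfsg.dotInt (v : Cfsg.GolayPt → ℤ) (x : Cfsg.GolayPt → ℤ) = 16 ∧ Cfsg.dotInt (w : Cfsg.GolayPt → ℤ) (x : Cfsg.GolayPt → ℤ) = -24}) ∧ (∀ x ∈ {x : ↥Cfsg.leechLattice | Cfsg.sqNorm (x : Cfsg.GolayPt → ℤ) = 32 ∧ Cfsg.dotInt (v : Cfsg.GolayPt → ℤ) (x : Cfsg.GolayPt → ℤ) = 16 ∧ Cfsg.dotInt (w : Cfsg.GolayPt → ℤ) (x : Cfsg.GolayPt → ℤ) = -24}, ∀ x' ∈ {x : ↥Cfsg.leechLattice | Cfsg.sqNorm (x : Cfsg.GolayPt → ℤ) = 32 ∧ Cfsg.dotInt (v : Cfsg.GolayPt → ℤ) (x : Cfsg.GolayPt → ℤ) = 16 ∧ Cfsg.dotInt (w : Cfsg.GolayPt → ℤ) (x : Cfsg.GolayPt → ℤ) = -24}, ∃ g : ↥Cfsg.Co0, g • v = v ∧ g • w = w ∧ g • x = x') ∧ ∀ x ∈ {x : ↥Cfsg.leechLattice | Cfsg.sqNorm (x : Cfsg.GolayPt → ℤ) = 32 ∧ Cfsg.dotInt (v : Cfsg.GolayPt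 → ℤ) (x : Cfsg.GolayPt → ℤ) = 16 ∧ Cfsg.dotInt (w : Cfsg.GolayPt → ℤ) (x : Cfsg.GolayPt → ℤ) = -24}, Nonempty (↥(MulAction.stabilizer ↥Cfsg.Co0 v ⊓ MulAction.stabilizer ↥Cfsg.Co0 w ⊓ MulAction.stabilizer ↥Cfsg.Co0 x) ≃* Cfsg.PSU 3 F 5) := by
  have hz : sqNorm ((v + w : leechLattice) : GolayPt → ℤ) = 32 := by
    rw [AddSubgroup.coe_add, Leech.sqNorm_add, hv, hw, hvw]; norm_num
  have hvz : dotInt (v : GolayPt → ℤ) ((v + w : leechLattice) : GolayPt → ℤ) = 16 := by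
    rw [AddSubgroup.coe_add, Leech.dotInt_add_right, ← Leech.sqNorm_eq_dotInt, hv, hvw]; norm_num
  obtain ⟨g, g1, g2⟩ := Leech.exists_normal_hs hv hz hvz
  have hP : ∀ x : leechLattice, (sqNorm (x : GolayPt → ℤ) = 32 ∧
      dotInt (v : GolayPt → ℤ) (x : GolayPt → ℤ) = 16 ∧
      dotInt (w : GolayPt → ℤ) (x : GolayPt → ℤ) = -24) ↔ g • x ∈ Leech.dotClass (-8) := by
    intro x
    show _ ↔ (sqNorm _ = 32 ∧ _) ∧ _
    rw [Leech.sqNorm_smul, Leech.dotInt_smul_of_eq g1, Leech.dotInt_smul_of_eq g2,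
      AddSubgroup.coe_add, Leech.dotInt_add_right, Leech.dotInt_comm (v : GolayPt → ℤ),
      Leech.dotInt_comm (w : GolayPt → ℤ)]
    constructor
    · rintro ⟨a, b, c⟩; exact ⟨⟨a, b⟩, by omega⟩
    · rintro ⟨⟨a, b⟩, c⟩; exact ⟨a, b, by omega⟩
  have horb := Leech.hs_orbit_eq (Leech.rep_spec 0).2
  have hfix : ∀ a : Co0, a • (v + w) = v + w → a • v = v → a • w = w := fun a h1 h2 =>
    add_left_cancel (a := v) (by rw [Leech.smul_vadd, h2] at h1; exact h1)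
  have key : ∀ x : leechLattice, (sqNorm (x : GolayPt → ℤ) = 32 ∧
      dotInt (v : GolayPt → ℤ) (x : GolayPt → ℤ) = 16 ∧
      dotInt (w : GolayPt → ℤ) (x : GolayPt → ℤ) = -24) →
      ∃ k : Co0, k • v = Leech.baseF ∧ k • (v + w) = Leech.baseU' ∧ k • x = Leech.rep 0 := by
    intro x hx
    have hm : g • x ∈ Leech.dotClass ((![-8, 16, 0, 8] : Fin 4 → ℤ) 0) := (hP x).1 hx
    rw [← horb] at hm
    obtain ⟨⟨a, ha⟩, e⟩ := hm
    obtain ⟨a1, a2⟩ := Leech.hsGroup_fix (inv_mem ha)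
    exact ⟨a⁻¹ * g, by rw [mul_smul, g1, a1], by rw [mul_smul, g2, a2],
      by rw [mul_smul, inv_smul_eq_iff]; exact e.symm⟩
  refine ⟨?_, fun x hx => ?_, fun x hx x' hx' => ?_, fun x hx => ?_⟩
  · refine (Leech.ncard_transfer g (Q := fun x => x ∈ Leech.dotClass (-8)) hP).trans ?_
    show (Leech.dotClass ((![-8, 16, 0, 8] : Fin 4 → ℤ) 0)).ncard = 352
    rw [← horb, Leech.ncard_hs_orbits]
    rfl
  · obtain ⟨a, b, c⟩ := hx
    refine ⟨?_, ?_, ?_⟩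
    · rw [AddSubgroup.coe_sub, AddSubgroup.coe_neg, Leech.sqNorm_sub, Leech.sqNorm_neg, a, hw,
        Leech.dotInt_neg_left, c]
      norm_num
    · rw [AddSubgroup.coe_sub, AddSubgroup.coe_neg, Leech.dotInt_comm, Leech.dotInt_sub_left,
        Leech.dotInt_neg_left, Leech.dotInt_comm, hvw, Leech.dotInt_comm, b]
      norm_num
    · rw [AddSubgroup.coe_sub, AddSubgroup.coe_neg, Leech.dotInt_comm, Leech.dotInt_sub_left,
        Leech.dotInt_neg_left, ← Leech.sqNorm_eq_dotInt, hw, Leech.dotInt_comm, c]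
      norm_num
  · obtain ⟨k, k1, k2, k3⟩ := key x hx
    obtain ⟨l, l1, l2, l3⟩ := key x' hx'
    have h1 : (l⁻¹ * k) • v = v := by rw [mul_smul, k1, inv_smul_eq_iff, l1]
    have h2 : (l⁻¹ * k) • (v + w) = v + w := by rw [mul_smul, k2, inv_smul_eq_iff, l2]
    exact ⟨l⁻¹ * k, h1, hfix _ h2 h1, by rw [mul_smul, k3, inv_smul_eq_iff, l3]⟩
  · obtain ⟨k, k1, k2, k3⟩ := key x hx
    have hmap : (MulAction.stabilizer Co0 v ⊓ MulAction.stabilizer Co0 w ⊓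
        MulAction.stabilizer Co0 x).map (MulAut.conj k).toMonoidHom =
        Leech.hsGroup ⊓ MulAction.stabilizer Co0 (Leech.rep 0) := by
      rw [show MulAction.stabilizer Co0 v ⊓ MulAction.stabilizer Co0 w =
          MulAction.stabilizer Co0 v ⊓ MulAction.stabilizer Co0 (v + w) from le_antisymm
            (fun a ha => ⟨ha.1, MulAction.mem_stabilizer_iff.2 (by
              rw [Leech.smul_vadd, MulAction.mem_stabilizer_iff.1 ha.1,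
                MulAction.mem_stabilizer_iff.1 ha.2])⟩)
            (fun a ha => ⟨ha.1, MulAction.mem_stabilizer_iff.2
              (hfix a (MulAction.mem_stabilizer_iff.1 ha.2) (MulAction.mem_stabilizer_iff.1 ha.1))⟩),
        Subgroup.map_inf _ _ _ (MulAut.conj k).injective,
        Subgroup.map_inf _ _ _ (MulAut.conj k).injective,
        ← MulAction.stabilizer_smul_eq_stabilizer_map_conj,
        ← MulAction.stabilizer_smul_eq_stabilizer_map_conj,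
        ← MulAction.stabilizer_smul_eq_stabilizer_map_conj, k1, k2, k3]
      rfl
    obtain ⟨e⟩ := Leech.nonempty_mulEquiv_psu35 hF
    exact ⟨((Subgroup.equivMapOfInjective _ _ (MulAut.conj k).injective).trans
      (MulEquiv.subgroupCongr hmap)).trans e⟩

end Cfsg.Agent.S1633
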