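import Cfsg.Statements.S1634
import Cfsg.Agent.Lib.Leech.McLRankFour

set_option autoImplicit false
open Cfsg

namespace Cfsg.Agent.S1634

/-- The McLaughlin group acts on 2025 points (minimal vectors orthogonal to v with customary inner product 2 with w) transitively with rank 4 and subdegrees 1, 330, 462, 1232. -/
theorem result (v w : ↥Cfsg.leechLattice) (hv : Cfsg.sqNorm (v : Cfsg.GolayPt → ℤ) = 32) (hw : Cfsg.sqNorm (w : Cfsg.GolayPt → ℤ) = 32) (hvw : Cfsg.dotInt (v : Cfsg.GolayPt → ℤ) (w : Cfsg.GolayPt → ℤ) = -8) : {x : ↥Cfsg.leechLattice | Cfsg.sqNorm (x : Cfsg.GolayPt → ℤ) = 32 ∧ Cfsg.dotInt (v : Cfsg.GolayPt → ℤ) (x : Cfsg.GolayPt → ℤ) = 0 ∧ Cfsg.dotInt (w : Cfsg.GolayPt → ℤ) (x : Cfsg.GolayPt → ℤ) = 16}.ncard = 2025 ∧ (∀ x ∈ {x : ↥Cfsg.leechLattice | Cfsg.sqNorm (x : Cfsg.GolayPt → ℤ) = 32 ∧ Cfsg.dotInt (v : Cfsg.GolayPt → ℤ) (x : Cfsg.GolayPt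 → ℤ) = 0 ∧ Cfsg.dotInt (w : Cfsg.GolayPt → ℤ) (x : Cfsg.GolayPt → ℤ) = 16}, ∀ x' ∈ {x : ↥Cfsg.leechLattice | Cfsg.sqNorm (x : Cfsg.GolayPt → ℤ) = 32 ∧ Cfsg.dotInt (v : Cfsg.GolayPt → ℤ) (x : Cfsg.GolayPt → ℤ) = 0 ∧ Cfsg.dotInt (w : Cfsg.GolayPt → ℤ) (x : Cfsg.GolayPt → ℤ) = 16}, ∃ g : ↥Cfsg.Co0, g • v = v ∧ g • w = w ∧ g • x = x') ∧ ∀ x ∈ {x : ↥Cfsg.leechLattice | Cfsg.sqNorm (x : Cfsg.GolayPt → ℤ) = 32 ∧ Cfsg.dotInt (v : Cfsg.GolayPt → ℤ) (x : Cfsg.GolayPt → ℤ) = 0 ∧ Cfsg.dotInt (w : Cfsg.GolayPt → ℤ) (x : Cfsg.GolayPt → ℤ) = 16}, ∃ y₁ ∈ {x : ↥Cfsg.leechLattice | Cfsg.sqNorm (x : Cfsg.GolayPt → ℤ) = 32 ∧ Cfsg.dotInt (v : Cfsg.GolayPt → ℤ) (x : Cfsg.GolayPt → ℤ) = 0 ∧ Cfsg.dotInt (w : Cfsg.GolayPt → ℤ) (x : Cfsg.GolayPt → ℤ) = 16}, ∃ y₂ ∈ {x : ↥Cfsg.leechLattice | Cfsg.sqNorm (x : Cfsg.GolayPt → ℤ) = 32 ∧ Cfsg.dotInt (v : Cfsg.GolayPt → ℤ) (x : Cfsg.GolayPt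 → ℤ) = 0 ∧ Cfsg.dotInt (w : Cfsg.GolayPt → ℤ) (x : Cfsg.GolayPt → ℤ) = 16}, ∃ y₃ ∈ {x : ↥Cfsg.leechLattice | Cfsg.sqNorm (x : Cfsg.GolayPt → ℤ) = 32 ∧ Cfsg.dotInt (v : Cfsg.GolayPt → ℤ) (x : Cfsg.GolayPt → ℤ) = 0 ∧ Cfsg.dotInt (w : Cfsg.GolayPt → ℤ) (x : Cfsg.GolayPt → ℤ) = 16}, (MulAction.orbit ↥(MulAction.stabilizer ↥Cfsg.Co0 v ⊓ MulAction.stabilizer ↥Cfsg.Co0 w ⊓ MulAction.stabilizer ↥Cfsg.Co0 x) y₁).ncard = 330 ∧ (MulAction.orbit ↥(MulAction.stabilizer ↥Cfsg.Co0 v ⊓ MulAction.stabilizer ↥Cfsg.Co0 w ⊓ MulAction.stabilizer ↥Cfsg.Co0 x) y₂).ncard = 462 ∧ (MulAction.orbit ↥(MulAction.stabilizer ↥Cfsg.Co0 v ⊓ MulAction.stabilizer ↥Cfsg.Co0 w ⊓ MulAction.stabilizer ↥Cfsg.Co0 x) y₃).ncard = 1232 := by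
  have hu : sqNorm ((v + w : leechLattice) : GolayPt → ℤ) = 48 := by
    rw [AddSubgroup.coe_add, Leech.sqNorm_add, hv, hw, hvw]; norm_num
  have huv : dotInt ((v + w : leechLattice) : GolayPt → ℤ) (v : GolayPt → ℤ) = 24 := by
    rw [AddSubgroup.coe_add, Leech.dotInt_add_left, ← Leech.sqNorm_eq_dotInt, hv,
      Leech.dotInt_comm, hvw]
    norm_num
  have hux : ∀ x : leechLattice,
      (sqNorm (x : GolayPt → ℤ) = 32 ∧ dotInt (v : GolayPt → ℤ) (x : GolayPt → ℤ) = 0 ∧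
        dotInt (w : GolayPt → ℤ) (x : GolayPt → ℤ) = 16) →
      dotInt ((v + w : leechLattice) : GolayPt → ℤ) (x : GolayPt → ℤ) = 16 := by
    rintro x ⟨-, a, b⟩
    rw [AddSubgroup.coe_add, Leech.dotInt_add_left, a, b]; norm_num
  have hP : ∀ g : Co0, g • (v + w) = Leech.baseF → g • v = Leech.baseU → ∀ x : leechLattice,
      (sqNorm (x : GolayPt → ℤ) = 32 ∧ dotInt (v : GolayPt → ℤ) (x : GolayPt → ℤ) = 0 ∧
        dotInt (w : GolayPt → ℤ) (x : GolayPt → ℤ) = 16) ↔ g • x ∈ Leech.mclPts := by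
    intro g g1 g2 x
    show _ ↔ sqNorm _ = 32 ∧ _ ∧ _
    rw [Leech.sqNorm_smul, Leech.dotInt_smul_of_eq g1, Leech.dotInt_smul_of_eq g2,
      AddSubgroup.coe_add, Leech.dotInt_add_right, Leech.dotInt_comm (v : GolayPt → ℤ),
      Leech.dotInt_comm (w : GolayPt → ℤ)]
    constructor <;> rintro ⟨a, b, c⟩ <;> exact ⟨a, by omega, by omega⟩
  have key : ∀ x : leechLattice,
      (sqNorm (x : GolayPt → ℤ) = 32 ∧ dotInt (v : GolayPt → ℤ) (x : GolayPt → ℤ) = 0 ∧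
        dotInt (w : GolayPt → ℤ) (x : GolayPt → ℤ) = 16) →
      ∃ g : Co0, g • (v + w) = Leech.baseF ∧ g • v = Leech.baseU ∧ g • x = Leech.baseU' :=
    fun x hx => Leech.exists_normal_aux hu hv hx.1 huv hx.2.1 (hux x hx)
  have hfix : ∀ k : Co0, k • (v + w) = v + w → k • v = v → k • w = w := fun k h1 h2 =>
    add_left_cancel (a := v) (by rw [Leech.smul_vadd, h2] at h1; exact h1)
  refine ⟨?_, fun x hx x' hx' => ?_, fun x hx => ?_⟩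
  · obtain ⟨g, g1, g2⟩ := Leech.exists_normal_six hu hv huv
    exact (Leech.ncard_transfer g (Q := fun x => x ∈ Leech.mclPts) (hP g g1 g2)).trans
      Leech.ncard_mclPts
  · obtain ⟨g, g1, g2, g3⟩ := key x hx
    obtain ⟨k, k1, k2, k3⟩ := key x' hx'
    have h1 : (k⁻¹ * g) • (v + w) = v + w := by rw [mul_smul, g1, inv_smul_eq_iff, k1]
    have h2 : (k⁻¹ * g) • v = v := by rw [mul_smul, g2, inv_smul_eq_iff, k2]
    exact ⟨k⁻¹ * g, h2, hfix _ h1 h2, by rw [mul_smul, g3, inv_smul_eq_iff, k3]⟩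
  · obtain ⟨g, g1, g2, g3⟩ := key x hx
    have hmap : (MulAction.stabilizer Co0 v ⊓ MulAction.stabilizer Co0 w ⊓
        MulAction.stabilizer Co0 x).map (MulAut.conj g).toMonoidHom = Leech.stab3 := by
      rw [show MulAction.stabilizer Co0 v ⊓ MulAction.stabilizer Co0 w =
          MulAction.stabilizer Co0 (v + w) ⊓ MulAction.stabilizer Co0 v from le_antisymm
            (fun k hk => ⟨MulAction.mem_stabilizer_iff.2 (by
              rw [Leech.smul_vadd, MulAction.mem_stabilizer_iff.1 hk.1,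
                MulAction.mem_stabilizer_iff.1 hk.2]), hk.1⟩)
            (fun k hk => ⟨hk.2, MulAction.mem_stabilizer_iff.2
              (hfix k (MulAction.mem_stabilizer_iff.1 hk.1) (MulAction.mem_stabilizer_iff.1 hk.2))⟩),
        Subgroup.map_inf _ _ _ (MulAut.conj g).injective,
        Subgroup.map_inf _ _ _ (MulAut.conj g).injective,
        ← MulAction.stabilizer_smul_eq_stabilizer_map_conj,
        ← MulAction.stabilizer_smul_eq_stabilizer_map_conj,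
        ← MulAction.stabilizer_smul_eq_stabilizer_map_conj, g1, g2, g3]
      rfl
    have main : ∀ i : Fin 4, ∃ y : leechLattice, (sqNorm (y : GolayPt → ℤ) = 32 ∧
        dotInt (v : GolayPt → ℤ) (y : GolayPt → ℤ) = 0 ∧
        dotInt (w : GolayPt → ℤ) (y : GolayPt → ℤ) = 16) ∧
        (MulAction.orbit ↥(MulAction.stabilizer Co0 v ⊓ MulAction.stabilizer Co0 w ⊓
          MulAction.stabilizer Co0 x) y).ncard = ![1, 330, 462, 1232] i := by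
      intro i
      obtain ⟨y, hy, hyi⟩ := Leech.exists_mclClass i
      refine ⟨g⁻¹ • y, (hP g g1 g2 _).2 (by rwa [smul_inv_smul]), ?_⟩
      rw [Leech.orbit_conj g hmap, Leech.stab3_orbit hy hyi, Leech.ncard_mclClass]
    obtain ⟨y₁, a1, b1⟩ := main 1
    obtain ⟨y₂, a2, b2⟩ := main 2
    obtain ⟨y₃, a3, b3⟩ := main 3
    exact ⟨y₁, a1, y₂, a2, y₃, a3, b1, b2, b3⟩

end Cfsg.Agent.S1634
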