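import Cfsg.Statements.S1636
import Cfsg.Agent.Lib.Golay.Count

set_option autoImplicit false
open Cfsg

namespace Cfsg.Agent.S1636

/-- The punctured length-23 code has weight distribution 0^1 7^253 8^506 11^1288 12^1288 15^506 16^253 23^1. -/
theorem result : {u : ZMod 23 → ZMod 2 | ∃ w ∈ Cfsg.golayCode, ∀ x : ZMod 23, u x = w (some x)}.ncard = 4096 ∧ {u : ZMod 23 → ZMod 2 | u ∈ {u : ZMod 23 → ZMod 2 | ∃ w ∈ Cfsg.golayCode, ∀ x : ZMod 23, u x = w (some x)} ∧ hammingNorm u = 7}.ncard = 253 ∧ {u : ZMod 23 → ZMod 2 | u ∈ {u : ZMod 23 → ZMod 2 | ∃ w ∈ Cfsg.golayCode, ∀ x : ZMod 23, u x = w (some x)} ∧ hammingNorm u = 8}.ncard = 506 ∧ {u : ZMod 23 → ZMod 2 | u ∈ {u : ZMod 23 → ZMod 2 | ∃ w ∈ Cfsg.golayCode, ∀ x : ZMod 23, u x = w (some x)} ∧ hammingNorm u = 11}.ncard = 1288 ∧ {u : ZMod 23 → ZMod 2 | u ∈ {u : ZMod 23 → ZMod 2 | ∃ w ∈ Cfsg.golayCode, ∀ x : ZMod 23, u x = w (some x)} ∧ hammingNorm u = 12}.ncard = 1288 ∧ {u : ZMod 23 → ZMod 2 | u ∈ {u : ZMod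 23 → ZMod 2 | ∃ w ∈ Cfsg.golayCode, ∀ x : ZMod 23, u x = w (some x)} ∧ hammingNorm u = 15}.ncard = 506 ∧ {u : ZMod 23 → ZMod 2 | u ∈ {u : ZMod 23 → ZMod 2 | ∃ w ∈ Cfsg.golayCode, ∀ x : ZMod 23, u x = w (some x)} ∧ hammingNorm u = 16}.ncard = 253 ∧ ∀ u ∈ {u : ZMod 23 → ZMod 2 | ∃ w ∈ Cfsg.golayCode, ∀ x : ZMod 23, u x = w (some x)}, u ≠ 0 → 7 ≤ hammingNorm u := by
  let res : (Cfsg.GolayPt → ZMod 2) → (ZMod 23 → ZMod 2) := fun w x => w (some x)
  have hset : {u : ZMod 23 → ZMod 2 | ∃ w ∈ Cfsg.golayCode, ∀ x : ZMod 23, u x = w (some x)} =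
      res '' (Cfsg.golayCode : Set (Cfsg.GolayPt → ZMod 2)) := by
    ext u
    exact ⟨fun ⟨w, hw, h⟩ => ⟨w, hw, funext fun x => (h x).symm⟩,
      fun ⟨w, hw, h⟩ => ⟨w, hw, fun x => (congrFun h x).symm⟩⟩
  have hnorm : ∀ y : ℕ, hammingNorm (res (Golay.word (Golay.enc y))) =
      Golay.popcount (Golay.enc y &&& 8388607) := by
    intro y
    rw [← Golay.card_pts, Golay.pts_and]
    refine Finset.card_bij (fun x _ => (some x : Cfsg.GolayPt)) ?_
      (fun _ _ _ _ h => Option.some_injective _ h) ?_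
    · intro x hx
      simp only [Finset.mem_inter, Golay.mem_pts]
      refine ⟨?_, (by decide +kernel : ∀ x : ZMod 23,
        (8388607 : ℕ).testBit (Golay.idx (some x)) = true) x⟩
      simpa [res, Golay.word] using hx
    · intro p hp
      simp only [Finset.mem_inter, Golay.mem_pts] at hp
      cases p with
      | none => exact absurd hp.2 (by decide +kernel)
      | some x => exact ⟨x, by simpa [res, Golay.word] using hp.1, rfl⟩
  have hinj : Set.InjOn (fun y => res (Golay.word (Golay.enc y))) (Set.Iio 4096) := by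
    intro a ha b hb h
    have h0 : Golay.allSpan (fun m => Nat.blt 0 (Golay.popcount (m &&& 8388607)) || m == 0)
        Golay.rows 0 = true := by decide +kernel
    have hab : a ^^^ b < 4096 := Nat.xor_lt_two_pow (n := 12) ha hb
    have hz : res (Golay.word (Golay.enc (a ^^^ b))) = 0 := by
      funext x
      simp only [res, Golay.enc_xor, Golay.word_xor, Pi.add_apply, Pi.zero_apply]
      rw [show Golay.word (Golay.enc a) (some x) = Golay.word (Golay.enc b) (some x) from
        congrFun h x]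
      exact CharTwo.add_self_eq_zero _
    have hn := hnorm (a ^^^ b)
    rw [hz, hammingNorm_zero] at hn
    have := Golay.allSpan_rows h0 (a ^^^ b)
    simp only [← hn, Bool.or_eq_true, Nat.blt_eq, lt_self_iff_false, beq_iff_eq, false_or] at this
    have hzero : a ^^^ b = 0 :=
      Golay.enc_injOn hab (by norm_num) (this.trans Golay.enc_zero.symm)
    exact Nat.xor_eq_zero_iff.mp hzero
  have himg : res '' (Cfsg.golayCode : Set (Cfsg.GolayPt → ZMod 2)) =
      ↑((Finset.range (2 ^ 12)).image fun y => res (Golay.word (Golay.enc y))) := by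
    ext u
    simp only [Set.mem_image, SetLike.mem_coe, Finset.mem_image, Finset.mem_range]
    constructor
    · rintro ⟨w, hw, rfl⟩
      obtain ⟨y, hy, rfl⟩ := Golay.mem_golayCode_iff.mp hw
      exact ⟨y, hy, rfl⟩
    · rintro ⟨y, -, rfl⟩
      exact ⟨_, Golay.word_enc_mem y, rfl⟩
  have hcount : ∀ n : ℕ, {u : ZMod 23 → ZMod 2 |
      u ∈ {u : ZMod 23 → ZMod 2 | ∃ w ∈ Cfsg.golayCode, ∀ x : ZMod 23, u x = w (some x)} ∧
        hammingNorm u = n}.ncard =
      Golay.countSpan (fun m => Golay.popcount (m &&& 8388607) == n) Golay.rows 0 := by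
    intro n
    rw [Golay.countSpan_eq, show Golay.rows.length = 12 from rfl, hset]
    have : {u : ZMod 23 → ZMod 2 | u ∈ res '' (Cfsg.golayCode : Set (Cfsg.GolayPt → ZMod 2)) ∧
        hammingNorm u = n} = ↑(((Finset.range (2 ^ 12)).filter fun y =>
          (Golay.popcount ((0 ^^^ Golay.encAux Golay.rows y) &&& 8388607) == n) = true).image
            fun y => res (Golay.word (Golay.enc y))) := by
      ext u
      simp only [himg, Set.mem_ofPred_eq, SetLike.mem_coe, Finset.mem_image, Finset.mem_filter,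
        Finset.mem_range, Nat.zero_xor, beq_iff_eq]
      constructor
      · rintro ⟨⟨y, hy, rfl⟩, hn⟩
        exact ⟨y, ⟨hy, by rw [← hn, hnorm]; rfl⟩, rfl⟩
      · rintro ⟨y, ⟨hy, hn⟩, rfl⟩
        exact ⟨⟨y, hy, rfl⟩, by rw [hnorm]; exact hn⟩
    rw [this, Set.ncard_coe_finset, Finset.card_image_of_injOn (hinj.mono fun y hy => ?_)]
    simp only [Finset.coe_filter, Finset.mem_range, Set.mem_ofPred_eq] at hy
    exact hy.1
  refine ⟨?_, ?_, ?_, ?_, ?_, ?_, ?_, fun u hu hne => ?_⟩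
  · rw [hset, himg, Set.ncard_coe_finset, Finset.card_image_of_injOn, Finset.card_range]
    · rfl
    · exact hinj.mono fun y hy => by simpa using hy
  iterate 6 (· rw [hcount]; decide +kernel)
  · rw [hset, himg] at hu
    simp only [SetLike.mem_coe, Finset.mem_image] at hu
    obtain ⟨y, -, rfl⟩ := hu
    have h0 : Golay.allSpan (fun m => Nat.ble 7 (Golay.popcount (m &&& 8388607)) ||
        Golay.popcount (m &&& 8388607) == 0) Golay.rows 0 = true := by decide +kernel
    have := Golay.allSpan_rows h0 y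
    rw [← hnorm, Bool.or_eq_true, Nat.ble_eq, beq_iff_eq, hammingNorm_eq_zero] at this
    exact this.resolve_right hne

end Cfsg.Agent.S1636
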