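import Cfsg.Agent.Lib.GolayCosets.Basic

set_option autoImplicit false

namespace Cfsg.Agent.S1637

theorem result (u : ZMod 23 → ZMod 2) : ∃! c : ZMod 23 → ZMod 2, c ∈ {u : ZMod 23 → ZMod 2 | ∃ w ∈ Cfsg.golayCode, ∀ x : ZMod 23, u x = w (some x)} ∧ hammingDist u c ≤ 3 := by
  classical
  let w : GolayPt → ZMod 2 := fun p => p.elim 0 u
  obtain ⟨v, hv, h3⟩ := GolayCosets.exists_le_three_off w none
  refine ⟨fun x => (w - v) (some x), ⟨⟨w - v, hv, fun x => rfl⟩, ?_⟩, ?_⟩
  · refine le_trans ?_ h3
    unfold hammingDist
    refine Finset.card_le_card_of_injOn some (fun x hx => ?_) (Option.some_injective _).injOn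
    simp only [Finset.coe_filter, Finset.mem_univ, true_and, Set.mem_setOf_eq] at hx ⊢
    refine ⟨by simp, fun h0 => hx ?_⟩
    simp [w, h0]
  · rintro c' ⟨⟨w', hw', hc'⟩, hd'⟩
    have hd : hammingDist u (fun x => (w - v) (some x)) ≤ 3 := by
      refine le_trans ?_ h3
      unfold hammingDist
      refine Finset.card_le_card_of_injOn some (fun x hx => ?_) (Option.some_injective _).injOn
      simp only [Finset.coe_filter, Finset.mem_univ, true_and, Set.mem_setOf_eq] at hx ⊢
      refine ⟨by simp, fun h0 => hx ?_⟩
      simp [w, h0]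
    have htri : hammingDist c' (fun x => (w - v) (some x)) ≤ 6 :=
      le_trans (hammingDist_triangle_left c' _ u) (by omega)
    have hle : hammingNorm (w' - (w - v)) ≤ 7 := by
      unfold hammingNorm
      refine le_trans (Finset.card_le_card (t := insert none
        ((Finset.univ.filter fun x : ZMod 23 => c' x ≠ (w - v) (some x)).image some)) ?_) ?_
      · intro p hp
        rcases p with _ | x
        · simp
        · simp only [Finset.mem_filter, Finset.mem_univ, true_and, Pi.sub_apply, sub_ne_zero] at hp
          simp [hc' x, hp]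
      · refine le_trans (Finset.card_insert_le _ _) ?_
        rw [Finset.card_image_of_injective _ (Option.some_injective _)]
        exact Nat.succ_le_succ htri
    have heq : w' = w - v := by
      by_contra hne
      have := Golay.weights (Submodule.sub_mem _ hw' hv)
      have hpos := hammingNorm_pos_iff.2 (sub_ne_zero.2 hne)
      omega
    funext x
    rw [hc' x, heq]

end Cfsg.Agent.S1637
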