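import Cfsg.Statements.S1638
import Cfsg.Agent.Lib.GolayOrbits.Octad
import Cfsg.Agent.Lib.Golay.Mathieu
-- import your own Cfsg.Agent.* helpers here

set_option autoImplicit false
open scoped Pointwise
open Cfsg

namespace Cfsg.Agent.S1638

open Cfsg.Agent.Golay Cfsg.Agent.GolayOrbits

/-- Some octad contains `p`, `q` and both sets. -/
abbrev Linked (p q : Cfsg.GolayPt) (s t : Finset Cfsg.GolayPt) : Prop :=
  ∃ o ∈ Cfsg.octads, p ∈ o ∧ q ∈ o ∧ s ∪ t ⊆ o

theorem disjoint_smul (g : Equiv.Perm Cfsg.GolayPt) (s t : Finset Cfsg.GolayPt) :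
    Disjoint (g • s) (g • t) ↔ Disjoint s t := by
  rw [smul_eq_image, smul_eq_image, Finset.disjoint_image g.injective]

theorem linked_smul {g : Equiv.Perm Cfsg.GolayPt} (hg : g ∈ Cfsg.M24) {p q : Cfsg.GolayPt}
    {s t : Finset Cfsg.GolayPt} : (∃ o ∈ Cfsg.octads, g p ∈ o ∧ g q ∈ o ∧ g • s ∪ g • t ⊆ o) ↔
      Linked p q s t := by
  constructor
  · rintro ⟨o, ho, hp, hq, hst⟩
    refine ⟨g⁻¹ • o, smul_mem_octads (inv_mem hg) ho, ?_, ?_, ?_⟩
    · rwa [← apply_mem_smul_iff g, smul_inv_smul]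
    · rwa [← apply_mem_smul_iff g, smul_inv_smul]
    · rwa [← Finset.smul_finset_subset_smul_finset_iff (a := g), smul_inv_smul,
        Finset.smul_finset_union]
  · rintro ⟨o, ho, hp, hq, hst⟩
    exact ⟨g • o, smul_mem_octads hg ho, (apply_mem_smul_iff g).mpr hp,
      (apply_mem_smul_iff g).mpr hq, by
        rw [← Finset.smul_finset_union]; exact Finset.smul_finset_subset_smul_finset hst⟩

theorem exists_std {p q : Cfsg.GolayPt} (hpq : p ≠ q) {s : Finset Cfsg.GolayPt}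
    (hs : s.card = 2 ∧ p ∉ s ∧ q ∉ s) :
    ∃ g ∈ Cfsg.M24, g (pt 23) = p ∧ g (pt 0) = q ∧ g • pts 6 = s := by
  obtain ⟨hs2, hp, hq⟩ := hs
  obtain ⟨a, b, hab, rfl⟩ := Finset.card_eq_two.mp hs2
  simp only [Finset.mem_insert, Finset.mem_singleton, not_or] at hp hq
  obtain ⟨g, hg, h1, h2, h3, h4⟩ := exists_map_four (a := pt 23) (b := pt 0) (c := pt 1) (d := pt 2)
    (a' := p) (b' := q) (c' := a) (d' := b)
    (by decide +kernel) (by simp [hpq, hp.1, hp.2, hq.1, hq.2, hab])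
  refine ⟨g, hg, h1, h2, ?_⟩
  rw [show pts 6 = {pt 1, pt 2} by decide +kernel, Finset.smul_finset_insert,
    Finset.smul_finset_singleton, Equiv.Perm.smul_def, Equiv.Perm.smul_def, h3, h4]

theorem nodup_five {p q a b c : Cfsg.GolayPt} (hpq : p ≠ q)
    (hs : p ∉ ({a, b} : Finset Cfsg.GolayPt) ∧ q ∉ ({a, b} : Finset Cfsg.GolayPt))
    (hpc : p ≠ c) (hqc : q ≠ c) (hab : a ≠ b) (hac : a ≠ c) (hbc : b ≠ c) :
    [p, q, a, b, c].Nodup := by
  simp only [Finset.mem_insert, Finset.mem_singleton] at hs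
  simp
  tauto

theorem not_mem_five {p q a b c d : Cfsg.GolayPt} (hpd : p ≠ d) (hqd : q ≠ d) (had : a ≠ d)
    (hbd : b ≠ d) (hcd : c ≠ d) : d ∉ [p, q, a, b, c] := by
  simp [eq_comm, hpd, hqd, had, hbd, hcd]

/-- The five octads through the four standard points. -/
def fourOctads : List ℕ := [0xc12017, 0x82402f, 0xa800c7, 0x908607, 0x841907]

theorem fourOctads_spec : fourOctads.all (fun m => isCode m && popcount m == 8 &&
      m.testBit 23 && m.testBit 0 && (m &&& 6) == 6) &&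
    allSpan (fun m => !(popcount m == 8 && m.testBit 23 && m.testBit 0 && (m &&& 6) == 6) ||
      fourOctads.contains m) rows 0 = true := by decide +kernel

theorem std_linked {t : Finset Cfsg.GolayPt} :
    Linked (pt 23) (pt 0) (pts 6) t ↔ ∃ m ∈ fourOctads, t ⊆ pts m := by
  have h := fourOctads_spec
  simp only [Bool.and_eq_true, List.all_eq_true, decide_eq_true_eq] at h
  constructor
  · rintro ⟨o, ho, hp, hq, hst⟩
    refine ⟨maskOf o, ?_, by
      rw [pts_maskOf]; exact Finset.union_subset_right hst⟩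
    have hm := supports_forall h.2 ho.1
    have h6 : maskOf o &&& 6 = 6 := by
      refine pts_injOn (lt_of_le_of_lt Nat.and_le_right (by norm_num)) (by norm_num) ?_
      rw [pts_and, pts_maskOf]
      exact Finset.inter_eq_right.mpr (Finset.union_subset_left hst)
    rw [popcount_maskOf, ho.2, (testBit_maskOf (by norm_num) o).mpr hp,
      (testBit_maskOf (by norm_num) o).mpr hq, h6] at hm
    simpa using hm
  · rintro ⟨m, hm, htm⟩
    have hc := h.1 m hm
    simp only [beq_iff_eq] at hc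
    obtain ⟨⟨⟨⟨hcode, hpop⟩, h23⟩, h0⟩, h6⟩ := hc
    refine ⟨pts m, pts_mem_octads (by simp [hcode, hpop]), (mem_pts_iff (by norm_num)).mpr h23,
      (mem_pts_iff (by norm_num)).mpr h0, Finset.union_subset ?_ htm⟩
    rw [← h6, pts_and]
    exact Finset.inter_subset_left

/-- The four standard points. -/
abbrev std4 : Finset Cfsg.GolayPt := pts 0x800007

theorem std_pair_iff {t : Finset Cfsg.GolayPt} :
    (t.card = 2 ∧ pt 23 ∉ t ∧ pt 0 ∉ t) ∧ Disjoint (pts 6) t ↔ t ∈ std4ᶜ.powersetCard 2 := by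
  have h4 : std4 = {pt 23, pt 0} ∪ pts 6 := by decide +kernel
  rw [Finset.mem_powersetCard, Finset.subset_compl_comm]
  constructor
  · rintro ⟨⟨h2, h23, h0⟩, hd⟩
    refine ⟨fun x hx => ?_, h2⟩
    rw [Finset.mem_compl]
    intro hxt
    rw [h4, Finset.mem_union, Finset.mem_insert, Finset.mem_singleton] at hx
    rcases hx with (rfl | rfl) | hx
    · exact h23 hxt
    · exact h0 hxt
    · exact Finset.disjoint_left.mp hd hx hxt
  · rintro ⟨hsub, h2⟩
    have hnot : ∀ x ∈ std4, x ∉ t := fun x hx => Finset.mem_compl.mp (hsub hx)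
    exact ⟨⟨h2, hnot _ (by rw [h4]; simp), hnot _ (by rw [h4]; simp)⟩,
      Finset.disjoint_left.mpr fun x hx => hnot x (by rw [h4]; simp [hx])⟩

theorem std_linked_set : {t : Finset Cfsg.GolayPt | (t.card = 2 ∧ pt 23 ∉ t ∧ pt 0 ∉ t) ∧
      Disjoint (pts 6) t ∧ Linked (pt 23) (pt 0) (pts 6) t} =
    ↑((std4ᶜ.powersetCard 2).filter fun t => ∃ m ∈ fourOctads, t ⊆ pts m) := by
  ext t
  rw [Finset.coe_filter, Set.mem_ofPred_eq, Set.mem_ofPred_eq, ← and_assoc, std_pair_iff, std_linked]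

theorem std_unlinked_set : {t : Finset Cfsg.GolayPt | (t.card = 2 ∧ pt 23 ∉ t ∧ pt 0 ∉ t) ∧
      Disjoint (pts 6) t ∧ ¬ Linked (pt 23) (pt 0) (pts 6) t} =
    ↑((std4ᶜ.powersetCard 2).filter fun t => ¬ ∃ m ∈ fourOctads, t ⊆ pts m) := by
  ext t
  rw [Finset.coe_filter, Set.mem_ofPred_eq, Set.mem_ofPred_eq, ← and_assoc, std_pair_iff, std_linked]

/-- Five points, a sixth in their octad, and one outside: a frame. -/
theorem exists_frame_five {p q a b c : Cfsg.GolayPt} (hnd : [p, q, a, b, c].Nodup)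
    {o : Finset Cfsg.GolayPt} (ho : o ∈ Cfsg.octads) (hin : ∀ x ∈ [p, q, a, b, c], x ∈ o)
    {d : Cfsg.GolayPt} (hd : d ∉ [p, q, a, b, c]) (hdo : d ∈ o) :
    ∃ y : Fin 7 → Cfsg.GolayPt, IsFrame y ∧
      y 0 = p ∧ y 1 = q ∧ y 2 = a ∧ y 3 = b ∧ y 4 = c ∧ y 5 = d := by
  obtain ⟨e, he⟩ := exists_not_mem ho
  obtain ⟨y, hy, -, hval, -⟩ := exists_frame_of_octad ho (l := [p, q, a, b, c, d])
    (by
      simp only [List.nodup_cons, List.mem_cons, List.not_mem_nil] at hnd hd ⊢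
      tauto)
    (by simp)
    (by
      intro x hx
      simp only [List.mem_cons, List.not_mem_nil, or_false] at hx
      rcases hx with rfl | rfl | rfl | rfl | rfl | rfl
      all_goals first
        | exact hdo
        | exact hin _ (by simp)) he
  exact ⟨y, hy, hval 0 (by simp), hval 1 (by simp), hval 2 (by simp), hval 3 (by simp),
    hval 4 (by simp), hval 5 (by simp)⟩

theorem exists_frame_five' {p q a b c : Cfsg.GolayPt} (hnd : [p, q, a, b, c].Nodup)
    {o : Finset Cfsg.GolayPt} (ho : o ∈ Cfsg.octads) (hin : ∀ x ∈ [p, q, a, b, c], x ∈ o)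
    {d : Cfsg.GolayPt} (hdo : d ∉ o) :
    ∃ y : Fin 7 → Cfsg.GolayPt, IsFrame y ∧
      y 0 = p ∧ y 1 = q ∧ y 2 = a ∧ y 3 = b ∧ y 4 = c ∧ y 6 = d := by
  obtain ⟨y, hy, -, hval, h6⟩ := exists_frame_of_octad ho hnd (by simp) hin hdo
  exact ⟨y, hy, hval 0 (by simp), hval 1 (by simp), hval 2 (by simp), hval 3 (by simp),
    hval 4 (by simp), h6⟩

theorem exists_map_pair {p q : Cfsg.GolayPt} (hpq : p ≠ q) {s t t' : Finset Cfsg.GolayPt}
    (hs : s.card = 2 ∧ p ∉ s ∧ q ∉ s) (ht : t.card = 2 ∧ p ∉ t ∧ q ∉ t)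
    (ht' : t'.card = 2 ∧ p ∉ t' ∧ q ∉ t') (hne : t ≠ s) (hne' : t' ≠ s)
    (hcard : (s ∩ t).card = (s ∩ t').card) (hiff : Linked p q s t ↔ Linked p q s t') :
    ∃ g : Equiv.Perm Cfsg.GolayPt, g ∈ Cfsg.M24 ∧ g p = p ∧ g q = q ∧ g • s = s ∧ g • t = t' := by
  -- the general position of `s` and `t`
  have hsplit : ∀ {u : Finset Cfsg.GolayPt}, u.card = 2 → u ≠ s →
      (∃ a b c, s = {a, b} ∧ u = {a, c} ∧ (s ∩ u).card = 1 ∧ a ≠ b ∧ a ≠ c ∧ b ≠ c) ∨
      (∃ a b c d, s = {a, b} ∧ u = {c, d} ∧ (s ∩ u).card = 0 ∧ a ≠ b ∧ a ≠ c ∧ a ≠ d ∧ b ≠ c ∧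
        b ≠ d ∧ c ≠ d) := by
    intro u hu hus
    have hle : (s ∩ u).card < 2 := by
      by_contra! hge
      have h1 : s ∩ u = s :=
        Finset.eq_of_subset_of_card_le Finset.inter_subset_left (by omega)
      exact hus (Finset.eq_of_subset_of_card_le (h1 ▸ Finset.inter_subset_right) (by omega)).symm
    obtain ⟨a, b, hab, hse⟩ := Finset.card_eq_two.mp hs.1
    obtain ⟨c, d, hcd, hue⟩ := Finset.card_eq_two.mp hu
    rcases Nat.eq_zero_or_pos (s ∩ u).card with h0 | h1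
    · rw [Finset.card_eq_zero, ← Finset.disjoint_iff_inter_eq_empty] at h0
      subst hse hue
      simp only [Finset.disjoint_insert_left, Finset.disjoint_singleton_left, Finset.mem_insert,
        Finset.mem_singleton, not_or] at h0
      refine Or.inr ⟨a, b, c, d, rfl, rfl, ?_, hab, h0.1.1, h0.1.2, h0.2.1, h0.2.2, hcd⟩
      rw [Finset.card_eq_zero]
      ext x
      simp only [Finset.mem_inter, Finset.mem_insert, Finset.mem_singleton, Finset.notMem_empty,
        iff_false, not_and]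
      rintro (rfl | rfl) <;> tauto
    · obtain ⟨x, hx⟩ := Finset.card_pos.mp h1
      rw [Finset.mem_inter] at hx
      obtain ⟨y, hy⟩ := Finset.card_eq_one.mp
        (show (s.erase x).card = 1 by rw [Finset.card_erase_of_mem hx.1, hs.1])
      obtain ⟨z, hz⟩ := Finset.card_eq_one.mp
        (show (u.erase x).card = 1 by rw [Finset.card_erase_of_mem hx.2, hu])
      have hs' : s = {x, y} := by rw [← Finset.insert_erase hx.1, hy]
      have hu' : u = {x, z} := by rw [← Finset.insert_erase hx.2, hz]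
      have hy' : y ∈ s.erase x := hy ▸ Finset.mem_singleton_self y
      have hz' : z ∈ u.erase x := hz ▸ Finset.mem_singleton_self z
      exact Or.inl ⟨x, y, z, hs', hu', by omega, (Finset.ne_of_mem_erase hy').symm,
        (Finset.ne_of_mem_erase hz').symm, fun hyz => hus (by rw [hs', hu', hyz])⟩
  have hpair : ∀ (g : Equiv.Perm Cfsg.GolayPt) {a b a' b' : Cfsg.GolayPt}, g a = a' → g b = b' →
      g • ({a, b} : Finset Cfsg.GolayPt) = {a', b'} := fun g {a b a' b'} h1 h2 => by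
    rw [Finset.smul_finset_insert, Finset.smul_finset_singleton, Equiv.Perm.smul_def,
      Equiv.Perm.smul_def, h1, h2]
  rcases hsplit ht.1 hne with ⟨a, b, c, hse, hte, h1, hab, hac, hbc⟩ |
      ⟨a, b, c, d, hse, hte, h1, hab, hac, had, hbc, hbd, hcd⟩ <;>
    rcases hsplit ht'.1 hne' with ⟨a', b', c', hse', hte', h1', hab', hac', hbc'⟩ |
      ⟨a', b', c', d', hse', hte', h1', hab', hac', had', hbc', hbd', hcd'⟩
  case inl.inr | inr.inl => omega
  · -- five points
    have n1 : [p, q, a, b, c].Nodup := nodup_five hpq ⟨hse ▸ hs.2.1, hse ▸ hs.2.2⟩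
      (fun h => ht.2.1 (by rw [hte, h]; simp)) (fun h => ht.2.2 (by rw [hte, h]; simp)) hab hac hbc
    have n2 : [p, q, a', b', c'].Nodup := nodup_five hpq ⟨hse' ▸ hs.2.1, hse' ▸ hs.2.2⟩
      (fun h => ht'.2.1 (by rw [hte', h]; simp)) (fun h => ht'.2.2 (by rw [hte', h]; simp))
      hab' hac' hbc'
    obtain ⟨g, hg, hgi⟩ := exists_map_five ⟨![p, q, a, b, c], List.nodup_ofFn.mp (by simpa using n1)⟩
      ⟨![p, q, a', b', c'], List.nodup_ofFn.mp (by simpa using n2)⟩
    refine ⟨g, hg, hgi 0, hgi 1, ?_, ?_⟩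
    · conv_lhs => rw [hse]
      rw [hse']; exact hpair g (hgi 2) (hgi 3)
    · rw [hte, hte']; exact hpair g (hgi 2) (hgi 4)
  · -- six points
    have n1 : [p, q, a, b, c].Nodup := nodup_five hpq ⟨hse ▸ hs.2.1, hse ▸ hs.2.2⟩
      (fun h => ht.2.1 (by rw [hte, h]; simp)) (fun h => ht.2.2 (by rw [hte, h]; simp)) hab hac hbc
    have n2 : [p, q, a', b', c'].Nodup := nodup_five hpq ⟨hse' ▸ hs.2.1, hse' ▸ hs.2.2⟩
      (fun h => ht'.2.1 (by rw [hte', h]; simp)) (fun h => ht'.2.2 (by rw [hte', h]; simp))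
      hab' hac' hbc'
    have d1 : d ∉ [p, q, a, b, c] := not_mem_five (fun h => ht.2.1 (by rw [hte, h]; simp))
      (fun h => ht.2.2 (by rw [hte, h]; simp)) had hbd hcd
    have d2 : d' ∉ [p, q, a', b', c'] := not_mem_five (fun h => ht'.2.1 (by rw [hte', h]; simp))
      (fun h => ht'.2.2 (by rw [hte', h]; simp)) had' hbd' hcd'
    have octadFive : ∀ {a b c : Cfsg.GolayPt}, [p, q, a, b, c].Nodup →
        ∃ o ∈ Cfsg.octads, ∀ x ∈ [p, q, a, b, c], x ∈ o := fun {a b c} n => by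
      obtain ⟨o, ho, hsub⟩ := exists_octad (s := [p, q, a, b, c].toFinset)
        (by rw [List.toFinset_card_of_nodup n]; rfl)
      exact ⟨o, ho, fun x hx => hsub (List.mem_toFinset.mpr hx)⟩
    have link : ∀ {u : Finset Cfsg.GolayPt} {a b c d : Cfsg.GolayPt}, s = {a, b} → u = {c, d} →
        [p, q, a, b, c].Nodup → ∀ {o}, o ∈ Cfsg.octads → (∀ x ∈ [p, q, a, b, c], x ∈ o) →
        (Linked p q s u ↔ d ∈ o) := by
      intro u a b c d hs hu n o ho hin
      subst hs hu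
      refine ⟨fun ⟨o₁, ho₁, hp, hq, hsub⟩ => ?_, fun hd => ⟨o, ho, hin p (by simp), hin q (by simp), ?_⟩⟩
      · have heq : o = o₁ := by
          refine octad_eq_of_five ho ho₁ ?_
          calc 5 = [p, q, a, b, c].toFinset.card := by rw [List.toFinset_card_of_nodup n]; rfl
            _ ≤ _ := Finset.card_le_card fun x hx => by
              rw [List.mem_toFinset] at hx
              refine Finset.mem_inter.mpr ⟨hin x hx, ?_⟩
              simp only [List.mem_cons, List.not_mem_nil, or_false] at hx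
              rcases hx with rfl | rfl | rfl | rfl | rfl
              exacts [hp, hq, hsub (by simp), hsub (by simp), hsub (by simp)]
        rw [heq]; exact hsub (by simp)
      · intro x hx
        simp only [Finset.mem_union, Finset.mem_insert, Finset.mem_singleton] at hx
        rcases hx with (rfl | rfl) | rfl | rfl
        exacts [hin _ (by simp), hin _ (by simp), hin _ (by simp), hd]
    obtain ⟨o, ho, hin⟩ := octadFive n1
    obtain ⟨o', ho', hin'⟩ := octadFive n2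
    rw [link hse hte n1 ho hin, link hse' hte' n2 ho' hin'] at hiff
    have hmain : ∃ g ∈ Cfsg.M24, g p = p ∧ g q = q ∧ g a = a' ∧ g b = b' ∧ g c = c' ∧ g d = d' := by
      by_cases hd : d ∈ o
      · obtain ⟨y, hy, y0, y1, y2, y3, y4, y5⟩ := exists_frame_five n1 ho hin d1 hd
        obtain ⟨z, hz, z0, z1, z2, z3, z4, z5⟩ := exists_frame_five n2 ho' hin' d2 (hiff.mp hd)
        obtain ⟨g, hg, hgi⟩ := exists_frame_map hy hz
        exact ⟨g, hg, by simpa [y0, z0] using hgi 0, by simpa [y1, z1] using hgi 1,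
          by simpa [y2, z2] using hgi 2, by simpa [y3, z3] using hgi 3,
          by simpa [y4, z4] using hgi 4, by simpa [y5, z5] using hgi 5⟩
      · obtain ⟨y, hy, y0, y1, y2, y3, y4, y5⟩ := exists_frame_five' n1 ho hin hd
        obtain ⟨z, hz, z0, z1, z2, z3, z4, z5⟩ :=
          exists_frame_five' n2 ho' hin' (mt hiff.mpr hd)
        obtain ⟨g, hg, hgi⟩ := exists_frame_map hy hz
        exact ⟨g, hg, by simpa [y0, z0] using hgi 0, by simpa [y1, z1] using hgi 1,
          by simpa [y2, z2] using hgi 2, by simpa [y3, z3] using hgi 3,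
          by simpa [y4, z4] using hgi 4, by simpa [y5, z5] using hgi 6⟩
    obtain ⟨g, hg, g0, g1, g2, g3, g4, g5⟩ := hmain
    refine ⟨g, hg, g0, g1, ?_, ?_⟩
    · conv_lhs => rw [hse]
      rw [hse']; exact hpair g g2 g3
    · rw [hte, hte']; exact hpair g g4 g5

/-- Fix two points p ≠ q and a pair s of two further points. Among the pairs avoiding p, q and disjoint from s, exactly 30 lie in an octad together with p, q and s and exactly 160 do not; and any two pairs other than s that meet s in equally many points and agree on that octad property are carried to one another by an element of the group of the length-24 code fixing p, q and s. -/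
theorem result (p q : Cfsg.GolayPt) (hpq : p ≠ q) (s : Finset Cfsg.GolayPt) (hs : (s.card = 2 ∧ p ∉ s ∧ q ∉ s)) : {t : Finset Cfsg.GolayPt | (t.card = 2 ∧ p ∉ t ∧ q ∉ t) ∧ Disjoint s t ∧ (∃ o ∈ Cfsg.octads, p ∈ o ∧ q ∈ o ∧ s ∪ t ⊆ o)}.ncard = 30 ∧ {t : Finset Cfsg.GolayPt | (t.card = 2 ∧ p ∉ t ∧ q ∉ t) ∧ Disjoint s t ∧ ¬ (∃ o ∈ Cfsg.octads, p ∈ o ∧ q ∈ o ∧ s ∪ t ⊆ o)}.ncard = 160 ∧ ∀ t t' : Finset Cfsg.GolayPt, (t.card = 2 ∧ p ∉ t ∧ q ∉ t) → (t'.card = 2 ∧ p ∉ t' ∧ q ∉ t') → t ≠ s → t' ≠ s → (s ∩ t).card = (s ∩ t').card → ((∃ o ∈ Cfsg.octads, p ∈ o ∧ q ∈ o ∧ s ∪ t ⊆ o) ↔ (∃ o ∈ Cfsg.octads, p ∈ o ∧ q ∈ o ∧ s ∪ t' ⊆ o)) → ∃ g : Equiv.Perm Cfsg.GolayPt, g ∈ Cfsg.M24 ∧ g p = p ∧ g q = q ∧ g • s = s ∧ g • t = t' := by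
  refine ⟨?_, ?_, fun t t' ht ht' hne hne' hcard hiff => ?_⟩
  · obtain ⟨g, hg, rfl, rfl, rfl⟩ := exists_std hpq hs
    rw [ncard_smul_congr g (Q := fun t => (t.card = 2 ∧ pt 23 ∉ t ∧ pt 0 ∉ t) ∧
        Disjoint (pts 6) t ∧ Linked (pt 23) (pt 0) (pts 6) t) fun t => by
      rw [Finset.card_smul_finset, apply_mem_smul_iff, apply_mem_smul_iff, disjoint_smul,
        linked_smul hg], std_linked_set, Set.ncard_coe_finset]
    decide +kernel
  · obtain ⟨g, hg, rfl, rfl, rfl⟩ := exists_std hpq hs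
    rw [ncard_smul_congr g (Q := fun t => (t.card = 2 ∧ pt 23 ∉ t ∧ pt 0 ∉ t) ∧
        Disjoint (pts 6) t ∧ ¬ Linked (pt 23) (pt 0) (pts 6) t) fun t => by
      rw [Finset.card_smul_finset, apply_mem_smul_iff, apply_mem_smul_iff, disjoint_smul,
        linked_smul hg], std_unlinked_set, Set.ncard_coe_finset]
    decide +kernel
  · exact exists_map_pair hpq hs ht ht' hne hne' hcard hiff

end Cfsg.Agent.S1638
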