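import Cfsg.Statements.S1639
import Cfsg.Agent.Lib.GolayOrbits.Octad
-- import your own Cfsg.Agent.* helpers here

set_option autoImplicit false
open scoped Pointwise
open Cfsg

namespace Cfsg.Agent.S1639

open Cfsg.Agent.Golay Cfsg.Agent.GolayOrbits

theorem dodecClass (k m : ℕ) (hm : isCode m = true) :
    (pts m ∈ Cfsg.dodecads ∧ pt 0 ∈ pts m ∧ (pts dodec0 ∩ pts m).card = k) ↔
      (popcount m == 12 && m.testBit 0 && popcount (dodec0 &&& m) == k) = true := by
  rw [mem_dodecads_iff, pts_mem_supports_iff (lt_of_isCode hm), mem_pts_iff (by norm_num),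
    card_inter_pts, card_pts]
  simp only [hm, Bool.and_eq_true, beq_iff_eq, true_and, and_assoc]

theorem cert4 : codeCert [dodec0, 1 <<< 0] dP4Gens dP4Rep dP4Steps dP4Set
    (fun m => popcount m == 12 && m.testBit 0 && popcount (dodec0 &&& m) == 4) = true := by
  decide +kernel

theorem cert6 : codeCert [dodec0, 1 <<< 0] dP6Gens dP6Rep dP6Steps dP6Set
    (fun m => popcount m == 12 && m.testBit 0 && popcount (dodec0 &&& m) == 6) = true := by
  decide +kernel

theorem cert8 : codeCert [dodec0, 1 <<< 0] dP8Gens dP8Rep dP8Steps dP8Set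
    (fun m => popcount m == 12 && m.testBit 0 && popcount (dodec0 &&& m) == 8) = true := by
  decide +kernel

theorem classes : allSpan (fun m => !(popcount m == 12 && m.testBit 0) ||
    (popcount (dodec0 &&& m) == 4 || popcount (dodec0 &&& m) == 6 ||
      popcount (dodec0 &&& m) == 8 || m == dodec0)) rows 0 = true := by decide +kernel

theorem orbit_of_pointClass {a b : Finset Cfsg.GolayPt} (ha : a ∈ Cfsg.dodecads)
    (hb : b ∈ Cfsg.dodecads) (ha1 : pt 0 ∈ a) (hb1 : pt 0 ∈ b)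
    (h : (pts dodec0 ∩ a).card = (pts dodec0 ∩ b).card) :
    ∃ g ∈ Fix [dodec0, 1 <<< 0], g • a = b := by
  have hp : ∀ {x k}, x ∈ Cfsg.dodecads → pt 0 ∈ x → (pts dodec0 ∩ x).card = k →
      (popcount (maskOf x) == 12 && (maskOf x).testBit 0 &&
        popcount (dodec0 &&& maskOf x) == k) = true := fun {x k} hx h1 hk => by
    simp only [Bool.and_eq_true, beq_iff_eq, popcount_maskOf, popcount_and_maskOf]
    exact ⟨⟨hx.2, (testBit_maskOf (by norm_num) x).mpr h1⟩, hk⟩
  have hc := supports_forall classes ha.1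
  rw [popcount_and_maskOf, show (maskOf a).testBit 0 = true from
    (testBit_maskOf (by norm_num) a).mpr ha1, popcount_maskOf,
    show a.card = 12 from ha.2] at hc
  simp only [beq_self_eq_true, Bool.and_self, Bool.not_true, Bool.false_or, Bool.or_eq_true,
    beq_iff_eq, or_assoc] at hc
  rcases hc with h4 | h6 | h8 | he
  · exact orbit_codeword cert4 ha.1 (hp ha ha1 h4) hb.1 (hp hb hb1 (h ▸ h4))
  · exact orbit_codeword cert6 ha.1 (hp ha ha1 h6) hb.1 (hp hb hb1 (h ▸ h6))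
  · exact orbit_codeword cert8 ha.1 (hp ha ha1 h8) hb.1 (hp hb hb1 (h ▸ h8))
  · obtain rfl : a = pts dodec0 := by rw [← he, pts_maskOf]
    refine ⟨1, one_mem _, ?_⟩
    rw [one_smul]
    have hsub : pts dodec0 ∩ b = pts dodec0 := by
      refine Finset.eq_of_subset_of_card_le Finset.inter_subset_left ?_
      rw [← h, Finset.inter_self]
    exact Finset.eq_of_subset_of_card_le (hsub ▸ Finset.inter_subset_right)
      (le_of_eq (hb.2.trans dodec0_mem.2.symm))

/-- The point stabiliser acts on the 1288 dodecads through the point with rank 4 and subdegrees 1, 165, 330, 792, distinguished by intersection 4, 8, 6 with the fixed dodecad. -/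
theorem result (x : Cfsg.GolayPt) (d : Finset Cfsg.GolayPt) (hd : d ∈ Cfsg.dodecads) (hx : x ∈ d) : {d' : Finset Cfsg.GolayPt | d' ∈ Cfsg.dodecads ∧ x ∈ d' ∧ (d ∩ d').card = 4}.ncard = 165 ∧ {d' : Finset Cfsg.GolayPt | d' ∈ Cfsg.dodecads ∧ x ∈ d' ∧ (d ∩ d').card = 8}.ncard = 330 ∧ {d' : Finset Cfsg.GolayPt | d' ∈ Cfsg.dodecads ∧ x ∈ d' ∧ (d ∩ d').card = 6}.ncard = 792 ∧ ∀ d' d'' : Finset Cfsg.GolayPt, d' ∈ Cfsg.dodecads → d'' ∈ Cfsg.dodecads → x ∈ d' → x ∈ d'' → (d ∩ d').card = (d ∩ d'').card → ∃ g : Equiv.Perm Cfsg.GolayPt, g ∈ Cfsg.M24 ∧ g x = x ∧ g • d = d ∧ g • d' = d'' := by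
  obtain ⟨t, ht, htd, htp⟩ := exists_map_dodecad_point hd hx
  subst htd htp
  refine ⟨?_, ?_, ?_, fun d' d'' hd' hd'' hx' hx'' h => ?_⟩
  all_goals try
    rw [ncard_smul_congr t (Q := fun s => s ∈ Cfsg.dodecads ∧ pt 0 ∈ s ∧
      (pts dodec0 ∩ s).card = _) fun s => by
        rw [smul_mem_dodecads_iff ht, apply_mem_smul_iff, card_smul_inter]]
    rw [ncard_eq_countSpan (fun s hs => hs.1.1) (dodecClass _)]
    decide +kernel
  have hin : ∀ {x}, x ∈ Cfsg.dodecads → t (pt 0) ∈ x →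
      (t⁻¹ • x ∈ Cfsg.dodecads ∧ pt 0 ∈ t⁻¹ • x ∧
        (pts dodec0 ∩ t⁻¹ • x).card = (t • pts dodec0 ∩ x).card) := fun {x} hx h1 =>
    ⟨smul_mem_dodecads (inv_mem ht) hx, by rw [← apply_mem_smul_iff t, smul_inv_smul]; exact h1,
      by rw [← card_smul_inter t, smul_inv_smul]⟩
  obtain ⟨h1, h2, h4⟩ := hin hd' hx'
  obtain ⟨h1', h2', h4'⟩ := hin hd'' hx''
  rw [← h4, ← h4'] at h
  obtain ⟨g, hg, hfix, hgo⟩ := exists_map_of_standard (S := [dodec0, 1 <<< 0]) ht
    (orbit_of_pointClass h1 h1' h2 h2' h)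
  refine ⟨g, hg, apply_eq_of_smul_single ?_, hfix dodec0 (by simp), hgo⟩
  have h00 := hfix (1 <<< 0) (by simp)
  rwa [smul_pts_single (by norm_num) rfl] at h00

end Cfsg.Agent.S1639
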