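import Cfsg.Statements.S1640
import Cfsg.Agent.Lib.Leech.Co3RankFive

set_option autoImplicit false
open Cfsg

namespace Cfsg.Agent.S1640

/-- The stabiliser of a vector of customary norm 6 is transitive on the 11178 minimal vectors of customary inner product −2 with it. -/
theorem result (u : ↥Cfsg.leechLattice) (hu : Cfsg.sqNorm (u : Cfsg.GolayPt → ℤ) = 48) : {x : ↥Cfsg.leechLattice | Cfsg.sqNorm (x : Cfsg.GolayPt → ℤ) = 32 ∧ Cfsg.dotInt (u : Cfsg.GolayPt → ℤ) (x : Cfsg.GolayPt → ℤ) = -16}.ncard = 11178 ∧ ∀ x ∈ {x : ↥Cfsg.leechLattice | Cfsg.sqNorm (x : Cfsg.GolayPt → ℤ) = 32 ∧ Cfsg.dotInt (u : Cfsg.GolayPt → ℤ) (x : Cfsg.GolayPt → ℤ) = -16}, ∀ x' ∈ {x : ↥Cfsg.leechLattice | Cfsg.sqNorm (x : Cfsg.GolayPt → ℤ) = 32 ∧ Cfsg.dotInt (u : Cfsg.GolayPt → ℤ) (x : Cfsg.GolayPt → ℤ) = -16}, ∃ g : ↥Cfsg.Co0, g • u = u ∧ g • x = x' := by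
  obtain ⟨g₀, hg₀⟩ := Leech.exists_to_baseF Leech.golayUnique hu
  have key : ∀ g : Co0, g • u = Leech.baseF → ∀ x : leechLattice,
      (sqNorm (x : GolayPt → ℤ) = 32 ∧ dotInt (u : GolayPt → ℤ) (x : GolayPt → ℤ) = -16) ↔
        (Leech.negOne * g) • x ∈ Leech.pts11178 := by
    intro g hg x
    show _ ↔ sqNorm _ = 32 ∧ _
    rw [Leech.sqNorm_smul, mul_smul, Leech.negOne_smul, AddSubgroup.coe_neg, Leech.dotInt_neg_left,
      Leech.dotInt_smul_of_eq hg, Leech.dotInt_comm (u : GolayPt → ℤ)]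
    constructor <;> rintro ⟨a, b⟩ <;> exact ⟨a, by omega⟩
  refine ⟨?_, fun x hx x' hx' => ?_⟩
  · exact (Leech.ncard_transfer (Leech.negOne * g₀) (Q := fun x => x ∈ Leech.pts11178)
      (key g₀ hg₀)).trans Leech.ncard_pts11178
  · have hnorm : ∀ x : leechLattice,
        sqNorm (x : GolayPt → ℤ) = 32 ∧ dotInt (u : GolayPt → ℤ) (x : GolayPt → ℤ) = -16 →
        ∃ k : Co0, k • u = Leech.baseF ∧ k • (-x) = Leech.baseU' := by
      rintro x ⟨a, b⟩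
      exact Leech.exists_normal_hs hu (by rw [AddSubgroup.coe_neg, Leech.sqNorm_neg, a])
        (by rw [AddSubgroup.coe_neg, Leech.dotInt_neg_right, b]; norm_num)
    obtain ⟨k, k1, k2⟩ := hnorm x hx
    obtain ⟨l, l1, l2⟩ := hnorm x' hx'
    refine ⟨l⁻¹ * k, by rw [mul_smul, k1, inv_smul_eq_iff, l1], neg_injective ?_⟩
    rw [← Leech.smul_vneg, mul_smul, k2, inv_smul_eq_iff, l2]

end Cfsg.Agent.S1640
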