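import Cfsg.Statements.S1641
import Cfsg.Agent.Lib.Leech.Co3RankFive

set_option autoImplicit false
open Cfsg

namespace Cfsg.Agent.S1641

/-- The third Conway group acts on the 11178 cosets of the Higman–Sims group with rank 5 and subdegrees 1, 352, 1100, 4125, 5600. -/
theorem result (u x : ↥Cfsg.leechLattice) (hu : Cfsg.sqNorm (u : Cfsg.GolayPt → ℤ) = 48) (hx : x ∈ {x : ↥Cfsg.leechLattice | Cfsg.sqNorm (x : Cfsg.GolayPt → ℤ) = 32 ∧ Cfsg.dotInt (u : Cfsg.GolayPt → ℤ) (x : Cfsg.GolayPt → ℤ) = -16}) : ∃ y₁ ∈ {x : ↥Cfsg.leechLattice | Cfsg.sqNorm (x : Cfsg.GolayPt → ℤ) = 32 ∧ Cfsg.dotInt (u : Cfsg.GolayPt → ℤ) (x : Cfsg.GolayPt → ℤ) = -16}, ∃ y₂ ∈ {x : ↥Cfsg.leechLattice | Cfsg.sqNorm (x : Cfsg.GolayPt → ℤ) = 32 ∧ Cfsg.dotInt (u : Cfsg.GolayPt → ℤ) (x : Cfsg.GolayPt → ℤ) = -16}, ∃ y₃ ∈ {x : ↥Cfsg.leechLattice | Cfsg.sqNorm (x : Cfsg.GolayPt → ℤ) = 32 ∧ Cfsg.dotInt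 (u : Cfsg.GolayPt → ℤ) (x : Cfsg.GolayPt → ℤ) = -16}, ∃ y₄ ∈ {x : ↥Cfsg.leechLattice | Cfsg.sqNorm (x : Cfsg.GolayPt → ℤ) = 32 ∧ Cfsg.dotInt (u : Cfsg.GolayPt → ℤ) (x : Cfsg.GolayPt → ℤ) = -16}, (MulAction.orbit ↥(MulAction.stabilizer ↥Cfsg.Co0 u ⊓ MulAction.stabilizer ↥Cfsg.Co0 x) y₁).ncard = 352 ∧ (MulAction.orbit ↥(MulAction.stabilizer ↥Cfsg.Co0 u ⊓ MulAction.stabilizer ↥Cfsg.Co0 x) y₂).ncard = 1100 ∧ (MulAction.orbit ↥(MulAction.stabilizer ↥Cfsg.Co0 u ⊓ MulAction.stabilizer ↥Cfsg.Co0 x) y₃).ncard = 4125 ∧ (MulAction.orbit ↥(MulAction.stabilizer ↥Cfsg.Co0 u ⊓ MulAction.stabilizer ↥Cfsg.Co0 x) y₄).ncard = 5600 ∧ {x : ↥Cfsg.leechLattice | Cfsg.sqNorm (x : Cfsg.GolayPt → ℤ) = 32 ∧ Cfsg.dotInt (u : Cfsg.GolayPt → ℤ) (x : Cfsg.GolayPt → ℤ) = -16} = {x} ∪ MulAction.orbit ↥(MulAction.stabilizer ↥Cfsg.Co0 u ⊓ MulAction.stabilizer ↥Cfsg.Co0 x) y₁ ∪ MulAction.orbit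 ↥(MulAction.stabilizer ↥Cfsg.Co0 u ⊓ MulAction.stabilizer ↥Cfsg.Co0 x) y₂ ∪ MulAction.orbit ↥(MulAction.stabilizer ↥Cfsg.Co0 u ⊓ MulAction.stabilizer ↥Cfsg.Co0 x) y₃ ∪ MulAction.orbit ↥(MulAction.stabilizer ↥Cfsg.Co0 u ⊓ MulAction.stabilizer ↥Cfsg.Co0 x) y₄ := by
  obtain ⟨g, g1, g2⟩ := Leech.exists_normal_hs (z := -x) hu
    (by rw [AddSubgroup.coe_neg, Leech.sqNorm_neg, hx.1])
    (by rw [AddSubgroup.coe_neg, Leech.dotInt_neg_right, hx.2]; norm_num)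
  obtain ⟨k, hk⟩ : ∃ k, k = Leech.negOne * g := ⟨_, rfl⟩
  have hkn : ∀ a : Co0, k * a * k⁻¹ = g * a * g⁻¹ := fun a => by
    have h := Subgroup.mem_center_iff.1 Leech.negOne_mem_center (g * a * g⁻¹)
    rw [hk, mul_inv_rev, show Leech.negOne * g * a * (g⁻¹ * Leech.negOne⁻¹) =
      Leech.negOne * (g * a * g⁻¹) * Leech.negOne⁻¹ by group, ← h, mul_inv_cancel_right]
  have hkx : k • x = Leech.baseU' := by
    rw [hk, mul_smul, Leech.negOne_smul, ← Leech.smul_vneg, g2]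
  have hmap : (MulAction.stabilizer Co0 u ⊓ MulAction.stabilizer Co0 x).map
      (MulAut.conj k).toMonoidHom = Leech.hsGroup := by
    rw [Subgroup.map_inf _ _ _ (MulAut.conj k).injective,
      ← MulAction.stabilizer_smul_eq_stabilizer_map_conj k x, hkx,
      show (MulAction.stabilizer Co0 u).map (MulAut.conj k).toMonoidHom =
        (MulAction.stabilizer Co0 u).map (MulAut.conj g).toMonoidHom from
        congrArg (fun f => (MulAction.stabilizer Co0 u).map f)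
          (MonoidHom.ext fun a => hkn a),
      ← MulAction.stabilizer_smul_eq_stabilizer_map_conj, g1]
    rfl
  have key : ∀ y : leechLattice,
      (sqNorm (y : GolayPt → ℤ) = 32 ∧ dotInt (u : GolayPt → ℤ) (y : GolayPt → ℤ) = -16) ↔
        k • y ∈ Leech.pts11178 := by
    intro y
    show _ ↔ sqNorm _ = 32 ∧ _
    rw [Leech.sqNorm_smul, hk, mul_smul, Leech.negOne_smul, AddSubgroup.coe_neg,
      Leech.dotInt_neg_left, Leech.dotInt_smul_of_eq g1, Leech.dotInt_comm (u : GolayPt → ℤ)]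
    constructor <;> rintro ⟨a, b⟩ <;> exact ⟨a, by omega⟩
  have horb : ∀ (y z : leechLattice),
      z ∈ MulAction.orbit ↥(MulAction.stabilizer Co0 u ⊓ MulAction.stabilizer Co0 x) (k⁻¹ • y) ↔
        k • z ∈ MulAction.orbit Leech.hsGroup y := by
    intro y z
    constructor
    · rintro ⟨⟨a, ha⟩, rfl⟩
      refine ⟨⟨k * a * k⁻¹, hmap ▸ ⟨a, ha, rfl⟩⟩, ?_⟩
      show (k * a * k⁻¹) • y = k • a • k⁻¹ • y
      rw [mul_smul, mul_smul]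
    · rintro ⟨⟨b, hb⟩, hbe⟩
      obtain ⟨a, ha, rfl⟩ : b ∈ (MulAction.stabilizer Co0 u ⊓ MulAction.stabilizer Co0 x).map
          (MulAut.conj k).toMonoidHom := hmap.symm ▸ hb
      refine ⟨⟨a, ha⟩, MulAction.injective k ?_⟩
      show k • a • k⁻¹ • y = k • z
      rw [← show (k * a * k⁻¹) • y = k • z from hbe, mul_smul, mul_smul]
  have main : ∀ i : Fin 4, k⁻¹ • Leech.rep i ∈ {y : leechLattice | sqNorm (y : GolayPt → ℤ) = 32 ∧
      dotInt (u : GolayPt → ℤ) (y : GolayPt → ℤ) = -16} ∧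
      (MulAction.orbit ↥(MulAction.stabilizer Co0 u ⊓ MulAction.stabilizer Co0 x)
        (k⁻¹ • Leech.rep i)).ncard = ![352, 1100, 4125, 5600] i := fun i =>
    ⟨(key _).2 (by rw [smul_inv_smul]; exact (Leech.rep_spec i).2.1),
      (Leech.orbit_conj k hmap _).trans (Leech.ncard_hs_orbits i)⟩
  refine ⟨_, (main 0).1, _, (main 1).1, _, (main 2).1, _, (main 3).1, (main 0).2, (main 1).2,
    (main 2).2, (main 3).2, Set.ext fun z => ?_⟩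
  simp only [Set.mem_union, Set.mem_singleton_iff, horb, Set.mem_ofPred_eq, key,
    Leech.pts11178_decomp, ← hkx, (MulAction.injective k).eq_iff]

end Cfsg.Agent.S1641
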