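import Cfsg.Statements.S1642
import Cfsg.Agent.Lib.Leech.Normal
import Cfsg.Agent.Lib.Leech.Shapes
import Cfsg.Agent.Lib.Golay.Code
-- import your own Cfsg.Agent.* helpers here

set_option autoImplicit false
open Cfsg

namespace Cfsg.Agent.S1642

/-- `2` on the dodecad of squares. -/
def vStd : ↥Cfsg.leechLattice :=
  ⟨(2 : ℤ) • fun p => if p ∈ Golay.pts 0x5335f then 1 else 0,
    Leech.mem_mk_even _ (by decide +kernel) (by
      have : Leech.mod2 (fun p => if p ∈ Golay.pts 0x5335f then (1 : ℤ) else 0) =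
          Golay.word 0x5335f := by decide +kernel
      rw [this, Golay.word_mem_golayCode_iff (by norm_num)]
      decide +kernel)⟩

/-- `-2` on the dodecad of squares, except `2` at two of its points. -/
def wStd : ↥Cfsg.leechLattice :=
  ⟨(2 : ℤ) • fun p => if p ∈ Golay.pts 3 then 1 else if p ∈ Golay.pts 0x5335f then -1 else 0,
    Leech.mem_mk_even _ (by decide +kernel) (by
      have : Leech.mod2 (fun p => if p ∈ Golay.pts 3 then (1 : ℤ) else
          if p ∈ Golay.pts 0x5335f then -1 else 0) = Golay.word 0x5335f := by decide +kernel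
      rw [this, Golay.word_mem_golayCode_iff (by norm_num)]
      decide +kernel)⟩

theorem sqNorm_vStd : Cfsg.sqNorm (vStd : Cfsg.GolayPt → ℤ) = 48 := by decide +kernel
theorem sqNorm_wStd : Cfsg.sqNorm (wStd : Cfsg.GolayPt → ℤ) = 48 := by decide +kernel
theorem dot_vw : Cfsg.dotInt (vStd : Cfsg.GolayPt → ℤ) (wStd : Cfsg.GolayPt → ℤ) = -32 := by
  decide +kernel

theorem compl_code : Golay.pts 0xfacca0 ∈
    Cfsg.supports (Cfsg.golayCode : Set (Cfsg.GolayPt → ZMod 2)) :=
  (Golay.pts_mem_supports_iff (by norm_num)).mpr (by decide +kernel)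

/-- The sign change off the dodecad of squares. -/
def signC : ↥Cfsg.Co0 := Leech.signEl (Golay.pts 0xfacca0) compl_code

theorem vStd_off : ∀ i ∈ Golay.pts 0xfacca0, (vStd : Cfsg.GolayPt → ℤ) i = 0 := by decide +kernel
theorem wStd_off : ∀ i ∈ Golay.pts 0xfacca0, (wStd : Cfsg.GolayPt → ℤ) i = 0 := by decide +kernel

theorem signC_fix (x : ↥Cfsg.leechLattice)
    (h : ∀ i ∈ Golay.pts 0xfacca0, (x : Cfsg.GolayPt → ℤ) i = 0) : signC • x = x := by
  refine Subtype.ext (funext fun i => ?_)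
  rw [signC, Leech.vec_signEl]
  dsimp only
  by_cases hi : i ∈ Golay.pts 0xfacca0
  · rw [if_pos hi, h i hi, neg_zero]
  · rw [if_neg hi]

theorem signC_sq : signC * signC = 1 := by
  refine Leech.co0_ext fun x => Subtype.ext (funext fun i => ?_)
  rw [one_smul, mul_smul, signC, Leech.vec_signEl, Leech.vec_signEl]
  dsimp only
  split_ifs <;> simp

theorem signC_ne_one : signC ≠ 1 := fun he => by
  have h := congrArg (fun g : ↥Cfsg.Co0 =>
    ((g • Leech.eightVec (Golay.pt 5) : ↥Cfsg.leechLattice) : Cfsg.GolayPt → ℤ) (Golay.pt 5)) he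
  simp only [one_smul, signC, Leech.vec_signEl, Leech.coe_eightVec] at h
  revert h
  decide +kernel

theorem no_fixed (x : ↥Cfsg.leechLattice) (hn : Cfsg.sqNorm (x : Cfsg.GolayPt → ℤ) = 32)
    (hd : Cfsg.dotInt (vStd : Cfsg.GolayPt → ℤ) (x : Cfsg.GolayPt → ℤ) = 24)
    (hfix : signC • x = x) : False := by
  have h0 : ∀ i ∈ Golay.pts 0xfacca0, (x : Cfsg.GolayPt → ℤ) i = 0 := fun i hi => by
    have := congrFun (congrArg Subtype.val hfix) i
    rw [signC, Leech.vec_signEl] at this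
    dsimp only at this
    rw [if_pos hi] at this
    omega
  rcases Leech.min_shape x.2 hn with ⟨k, l, hkl, hk, hl, hz⟩ | ⟨o, M, ho, -, -, hM⟩ |
      ⟨k, c, -, hk, hrest, -⟩
  · have hb : ∀ i, (vStd : Cfsg.GolayPt → ℤ) i = 0 ∨ (vStd : Cfsg.GolayPt → ℤ) i = 2 := by
      decide +kernel
    have hsum : Cfsg.dotInt (vStd : Cfsg.GolayPt → ℤ) (x : Cfsg.GolayPt → ℤ) =
        (vStd : Cfsg.GolayPt → ℤ) k * (x : Cfsg.GolayPt → ℤ) k +
          (vStd : Cfsg.GolayPt → ℤ) l * (x : Cfsg.GolayPt → ℤ) l := by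
      rw [Cfsg.dotInt]
      refine Finset.sum_eq_add k l hkl (fun i _ hi => by rw [hz i hi.1 hi.2, mul_zero])
        (fun h => absurd (Finset.mem_univ _) h) (fun h => absurd (Finset.mem_univ _) h)
    rw [hd] at hsum
    rcases hb k with a | a <;> rcases hb l with b | b <;> rcases hk with c | c <;>
      rcases hl with e | e <;> rw [a, b, c, e] at hsum <;> norm_num at hsum
  · have hsub : o ⊆ Golay.pts 0x5335f := fun i hi => by
      by_contra hni
      have hc : i ∈ Golay.pts 0xfacca0 := (by decide +kernel : ∀ j : Cfsg.GolayPt,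
        j ∉ Golay.pts 0x5335f → j ∈ Golay.pts 0xfacca0) i hni
      have := h0 i hc
      rw [hM, Leech.octVec, if_pos hi] at this
      split_ifs at this <;> omega
    have h8 : o.card = 8 := ho.2
    rcases Golay.octad_inter_dodecad ho (Golay.pts_mem_dodecads (m := 0x5335f) (by decide +kernel))
      with h | h | h <;> rw [Finset.inter_eq_left.mpr hsub] at h <;> omega
  · have := h0 (Golay.pt 5) (by decide +kernel)
    by_cases h5 : Golay.pt 5 = k
    · rw [h5] at this; omega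
    · rcases hrest _ h5 with e | e <;> omega

/-- Some involution of the Higman–Sims group acts without fixed points on its 100 points. -/
theorem result (v w : ↥Cfsg.leechLattice) (hv : Cfsg.sqNorm (v : Cfsg.GolayPt → ℤ) = 48) (hw : Cfsg.sqNorm (w : Cfsg.GolayPt → ℤ) = 48) (hvw : Cfsg.dotInt (v : Cfsg.GolayPt → ℤ) (w : Cfsg.GolayPt → ℤ) = -32) : ∃ g : ↥Cfsg.Co0, g • v = v ∧ g • w = w ∧ orderOf g = 2 ∧ ∀ x ∈ {x : ↥Cfsg.leechLattice | Cfsg.sqNorm (x : Cfsg.GolayPt → ℤ) = 32 ∧ Cfsg.dotInt (v : Cfsg.GolayPt → ℤ) (x : Cfsg.GolayPt → ℤ) = 24 ∧ Cfsg.dotInt (w : Cfsg.GolayPt → ℤ) (x : Cfsg.GolayPt → ℤ) = -24}, g • x ≠ x := by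
  obtain ⟨s1, s2⟩ := Leech.hs_sum hv hw hvw
  obtain ⟨g, g1, g2⟩ := Leech.exists_normal_hs hv s1 s2
  obtain ⟨t1, t2⟩ := Leech.hs_sum (v := vStd) (w := wStd) sqNorm_vStd sqNorm_wStd dot_vw
  obtain ⟨h, h1, h2⟩ := Leech.exists_normal_hs sqNorm_vStd t1 t2
  let k : ↥Cfsg.Co0 := h⁻¹ * g
  have k1 : k • v = vStd := by simp only [k, mul_smul, g1, ← h1, inv_smul_smul]
  have k2 : k • w = wStd := by
    have e : k • (v + w) = vStd + wStd := by simp only [k, mul_smul, g2, ← h2, inv_smul_smul]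
    rw [Leech.smul_vadd, k1] at e
    exact add_left_cancel e
  have hsv : signC • vStd = vStd := signC_fix _ vStd_off
  have hsw : signC • wStd = wStd := signC_fix _ wStd_off
  refine ⟨k⁻¹ * signC * k, by rw [mul_smul, mul_smul, k1, hsv, ← k1, inv_smul_smul],
    by rw [mul_smul, mul_smul, k2, hsw, ← k2, inv_smul_smul], ?_, fun x hx he => ?_⟩
  · refine orderOf_eq_prime (p := 2) ?_ fun he => signC_ne_one ?_
    · rw [pow_two, show k⁻¹ * signC * k * (k⁻¹ * signC * k) = k⁻¹ * (signC * signC) * k by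
        simp [mul_assoc], signC_sq]
      group
    · calc signC = k * (k⁻¹ * signC * k) * k⁻¹ := by group
        _ = 1 := by rw [he]; group
  · obtain ⟨hn, hxv, hxw⟩ := hx
    refine no_fixed (k • x) (by rw [Leech.sqNorm_smul]; exact hn) ?_ ?_
    · rw [← k1, Leech.dotInt_smul]; exact hxv
    · rw [mul_smul, mul_smul, inv_smul_eq_iff] at he
      exact he

end Cfsg.Agent.S1642
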