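import Cfsg.Statements.S1643
import Cfsg.Agent.Lib.PSL2.M24Line

set_option autoImplicit false
open scoped Pointwise
open Cfsg

namespace Cfsg.Agent.S1643

/-- PSL(2, 23) = ⟨t ↦ t+1, t ↦ u t (u square), t ↦ −1/t⟩ is maximal of order 6072 in the group of the length-24 code, and its point stabiliser 23:11 (order 253) is maximal in the Mathieu group of degree 23. -/
theorem result : (Subgroup.closure ({Equiv.optionCongr (Equiv.addRight (1 : ZMod 23)), Cfsg.projInv} ∪ {g : Equiv.Perm Cfsg.GolayPt | ∃ u : (ZMod 23)ˣ, IsSquare u ∧ g = Equiv.optionCongr (Units.mulLeft u)}) ≤ Cfsg.M24 ∧ Nat.card ↥(Subgroup.closure ({Equiv.optionCongr (Equiv.addRight (1 : ZMod 23)), Cfsg.projInv} ∪ {g : Equiv.Perm Cfsg.GolayPt | ∃ u : (ZMod 23)ˣ, IsSquare u ∧ g = Equiv.optionCongr (Units.mulLeft u)})) = 6072 ∧ IsCoatom ((Subgroup.closure ({Equiv.optionCongr (Equiv.addRight (1 : ZMod 23)), Cfsg.projInv} ∪ {g : Equiv.Perm Cfsg.GolayPt | ∃ u : (ZMod 23)ˣ, IsSquare u ∧ g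 = Equiv.optionCongr (Units.mulLeft u)})).subgroupOf Cfsg.M24)) ∧ (Subgroup.closure ({Equiv.optionCongr (Equiv.addRight (1 : ZMod 23))} ∪ {g : Equiv.Perm Cfsg.GolayPt | ∃ u : (ZMod 23)ˣ, IsSquare u ∧ g = Equiv.optionCongr (Units.mulLeft u)}) ≤ Cfsg.M24 ⊓ MulAction.stabilizer (Equiv.Perm Cfsg.GolayPt) (none : Cfsg.GolayPt) ∧ Nat.card ↥(Subgroup.closure ({Equiv.optionCongr (Equiv.addRight (1 : ZMod 23))} ∪ {g : Equiv.Perm Cfsg.GolayPt | ∃ u : (ZMod 23)ˣ, IsSquare u ∧ g = Equiv.optionCongr (Units.mulLeft u)})) = 253 ∧ IsCoatom (((Subgroup.closure ({Equiv.optionCongr (Equiv.addRight (1 : ZMod 23))} ∪ {g : Equiv.Perm Cfsg.GolayPt | ∃ u : (ZMod 23)ˣ, IsSquare u ∧ g = Equiv.optionCongr (Units.mulLeft u)})).subgroupOf Cfsg.M24).subgroupOf (MulAction.stabilizer Cfsg.M24 (none : Cfsg.GolayPt)))) := by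
  classical
  have hfr := PSL2.M24Line.frob_le
  have hcl := PSL2.M24Line.card_line
  have hcf := PSL2.M24Line.card_frob
  refine ⟨⟨PSL2.M24Line.line_le, hcl, ?_⟩, hfr, hcf, ?_⟩
  · refine ⟨fun h => ?_, fun K hK => ?_⟩
    · have hle : Cfsg.M24 ≤ PSL2.M24Line.line := Subgroup.subgroupOf_eq_top.mp h
      have := Subgroup.card_dvd_of_le hle
      rw [hcl, Golay.natCard_M24] at this
      norm_num at this
    · have hmap : PSL2.M24Line.line ≤ K.map (Cfsg.M24).subtype := fun g hg =>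
        ⟨⟨g, PSL2.M24Line.line_le hg⟩, hK.le hg, rfl⟩
      have hKM : K.map (Cfsg.M24).subtype ≤ Cfsg.M24 := Subgroup.map_subtype_le K
      have hcard : Nat.card ↥(K.map (Cfsg.M24).subtype) = Nat.card ↥K :=
        Subgroup.card_map_of_injective (Cfsg.M24).subtype_injective
      rcases PSL2.M24Line.line_cases hmap hKM with h | h
      · exfalso
        refine hK.ne (Subgroup.eq_of_le_of_card_ge hK.le (le_of_eq ?_))
        rw [← hcard, h]
        exact ((Nat.card_congr (Subgroup.subgroupOfEquivOfLe PSL2.M24Line.line_le).toEquiv).trans hcl).symm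
      · refine Subgroup.eq_top_of_card_eq _ ?_
        rw [← hcard, h, Golay.natCard_M24]
  · set M := MulAction.stabilizer Cfsg.M24 (none : Cfsg.GolayPt) with hM
    have hMc : Nat.card ↥M = 10200960 := Golay.natCard_stabilizer_point none
    have hle : PSL2.M24Line.frob.subgroupOf Cfsg.M24 ≤ M := fun g hg => (hfr hg).2
    have hc0 : Nat.card ↥((PSL2.M24Line.frob.subgroupOf Cfsg.M24).subgroupOf M) = 253 := by
      rw [Nat.card_congr (Subgroup.subgroupOfEquivOfLe hle).toEquiv,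
        Nat.card_congr (Subgroup.subgroupOfEquivOfLe (hfr.trans inf_le_left)).toEquiv, hcf]
    refine ⟨fun h => ?_, fun K hK => ?_⟩
    · have : Nat.card ↥((PSL2.M24Line.frob.subgroupOf Cfsg.M24).subgroupOf M) = 10200960 :=
        (Nat.card_congr (Equiv.setCongr (congrArg (fun S : Subgroup ↥M => (S : Set ↥M)) h))).trans
          (Subgroup.card_top.trans hMc)
      omega
    · set K' := (K.map M.subtype).map (Cfsg.M24).subtype with hK'
      have hmap : PSL2.M24Line.frob ≤ K' := fun g hg =>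
        ⟨⟨g, (hfr hg).1⟩, ⟨⟨⟨g, (hfr hg).1⟩, hle hg⟩, hK.le hg, rfl⟩, rfl⟩
      have hKM : K' ≤ Cfsg.M24 ⊓ MulAction.stabilizer (Equiv.Perm Cfsg.GolayPt) (none : Cfsg.GolayPt) := by
        rintro _ ⟨g, ⟨k, -, rfl⟩, rfl⟩
        exact ⟨k.1.2, k.2⟩
      have hcard : Nat.card ↥K' = Nat.card ↥K :=
        (Subgroup.card_map_of_injective (Cfsg.M24).subtype_injective).trans
          (Subgroup.card_map_of_injective M.subtype_injective)
      rcases PSL2.M24Line.card_cases hmap hKM with h | h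
      · exfalso
        refine hK.ne (Subgroup.eq_of_le_of_card_ge hK.le (le_of_eq ?_))
        rw [← hcard, h]
        exact hc0.symm
      · exact Subgroup.eq_top_of_card_eq _ (by rw [← hcard, h, hMc])

end Cfsg.Agent.S1643
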