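import Cfsg.Statements.S1645
import Cfsg.Agent.Lib.AltDoubleCent.General
import Cfsg.Agent.Lib.AltDoubleCent.Reduce

set_option autoImplicit false
open Cfsg

namespace Cfsg.Agent.S1645

/-- If some involution of a finite simple group has centraliser a non-split double cover of the alternating group of degree n ≥ 5, then n is 8 or 11 (the McLaughlin and Lyons cases). -/
theorem result {G : Type*} [Group G] [Finite G] [IsSimpleGroup G] (n : ℕ) (hn : 5 ≤ n) (z : G) (hz : orderOf z = 2) (hcov : Cfsg.IsNonsplitDoubleCover (Subgroup.centralizer ({z} : Set G)) (alternatingGroup (Fin n))) : n = 8 ∨ n = 11 := by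
  set C := Subgroup.centralizer ({z} : Set G) with hC
  obtain ⟨hc2, ⟨e⟩, hnc⟩ := hcov
  set zC : C := ⟨z, Subgroup.mem_centralizer_singleton_iff.2 rfl⟩ with hzC
  have hzC2 : orderOf zC = 2 := by rw [hzC, Subgroup.orderOf_mk, hz]
  have hzmem : zC ∈ Subgroup.center C := Subgroup.mem_center_iff.2 fun g =>
    Subtype.ext (Subgroup.mem_centralizer_singleton_iff.1 g.2)
  have hZ : Subgroup.zpowers zC = Subgroup.center C :=
    Subgroup.eq_of_le_of_card_ge (Subgroup.zpowers_le.2 hzmem) (by rw [hc2, Nat.card_zpowers, hzC2])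
  have hker : ∀ g : C, g ∈ Subgroup.center C ↔ g = 1 ∨ g = zC := fun g => by
    rw [← hZ]
    constructor
    · intro hg
      obtain ⟨i, hi⟩ := Subgroup.mem_zpowers_iff.1 hg
      rw [← hi, ← zpow_mod_orderOf, hzC2]
      rcases Int.emod_two_eq i with e | e
      · exact Or.inl (by rw [Nat.cast_two, e, zpow_zero])
      · exact Or.inr (by rw [Nat.cast_two, e, zpow_one])
    · rintro (rfl | rfl)
      exacts [one_mem _, Subgroup.mem_zpowers zC]
  let π : C →* Equiv.Perm (Fin n) :=
    (alternatingGroup (Fin n)).subtype.comp (e.toMonoidHom.comp (QuotientGroup.mk' (Subgroup.center C)))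
  have hπ : ∀ g : C, π g = 1 ↔ g ∈ Subgroup.center C := fun g => by
    show ((e (g : C ⧸ Subgroup.center C) : alternatingGroup (Fin n)) : Equiv.Perm (Fin n)) = 1 ↔ _
    rw [OneMemClass.coe_eq_one, EmbeddingLike.map_eq_one_iff, QuotientGroup.eq_one_iff]
  have hsurj : ∀ σ : Equiv.Perm (Fin n), Equiv.Perm.sign σ = 1 → ∃ g : C, π g = σ := fun σ hσ => by
    obtain ⟨g, hg⟩ := QuotientGroup.mk_surjective (e.symm ⟨σ, Equiv.Perm.mem_alternatingGroup.2 hσ⟩)
    exact ⟨g, by
      show ((e (g : C ⧸ Subgroup.center C) : alternatingGroup (Fin n)) : Equiv.Perm (Fin n)) = σ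
      rw [hg, MulEquiv.apply_symm_apply]⟩
  have dc : Agent.AltDoubleCent.DC π zC := by
    refine ⟨hzC2, fun g => (hπ g).trans (hker g), fun g => Equiv.Perm.mem_alternatingGroup.1 (e _).2, hsurj,
      fun L hL => ?_⟩
    by_contra hzL
    refine hnc L (Subgroup.isComplement'_of_disjoint_and_mul_eq_univ ?_ ?_)
    · rw [Subgroup.disjoint_def]
      intro g hg hgL
      rcases (hker g).1 hg with rfl | rfl
      · rfl
      · exact absurd hgL hzL
    · refine Set.eq_univ_iff_forall.2 fun g => ?_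
      obtain ⟨l, hl, hlg⟩ := hL (π g) (Equiv.Perm.mem_alternatingGroup.1 (e _).2)
      refine ⟨g * l⁻¹, (hπ _).1 (by rw [map_mul, map_inv, hlg, mul_inv_cancel]), l, hl, ?_⟩
      show g * l⁻¹ * l = g
      rw [inv_mul_cancel_right]
  have hnoncomm : ¬ ∀ g : G, g * z = z * g := by
    intro hall
    have hzc : z ∈ Subgroup.center G := Subgroup.mem_center_iff.2 hall
    rcases (inferInstance : (Subgroup.center G).Normal).eq_bot_or_eq_top with h | h
    · rw [h, Subgroup.mem_bot] at hzc
      rw [hzc, orderOf_one] at hz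
      omega
    · have hcomm : ∀ p q : G, p * q = q * p := fun p q =>
        (Subgroup.mem_center_iff.1 (h ▸ Subgroup.mem_top q) p)
      have htop : Subgroup.center C = ⊤ := eq_top_iff.2 fun g _ =>
        Subgroup.mem_center_iff.2 fun k => Subtype.ext (hcomm _ _)
      obtain ⟨g, hg⟩ := hsurj (Equiv.swap ⟨0, by omega⟩ ⟨1, by omega⟩ * Equiv.swap ⟨2, by omega⟩ ⟨3, by omega⟩)
        (by rw [map_mul, Equiv.Perm.sign_swap (by simp [Fin.ext_iff]), Equiv.Perm.sign_swap (by simp [Fin.ext_iff])]
            decide)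
      rw [(hπ g).2 (htop ▸ Subgroup.mem_top g)] at hg
      have h0 := congrArg (fun σ : Equiv.Perm (Fin n) => σ ⟨0, by omega⟩) hg
      simp [Equiv.swap_apply_def, Fin.ext_iff] at h0
  obtain ⟨w, hwz, hwne, hwc⟩ : ∃ w : G, Commute w z ∧ w ≠ z ∧ IsConj z w := by
    by_contra hcon
    push Not at hcon
    have hiso : IsIsolatedInvolution z := ⟨hz, fun g hg => by
      by_contra hne
      exact hcon _ hg.symm hne (isConj_iff.2 ⟨g, rfl⟩)⟩
    have hO : pPrimeCore 2 G = ⊥ := by
      refine (Agent.Cores.pPrimeCore_normal 2 G).eq_bot_or_eq_top.resolve_right fun h => ?_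
      have h1 := Agent.Cores.coprime_card_pPrimeCore (G := G) 2
      rw [h, Subgroup.card_top, Nat.coprime_two_right, ← Nat.not_even_iff_odd, even_iff_two_dvd] at h1
      exact h1 (hz ▸ orderOf_dvd_natCard z)
    exact hnoncomm (Subgroup.mem_center_iff.1
      (Agent.ZStar.isolated_mem_center Agent.ZStar.uniqueInvolution hiso hO))
  let F : Agent.AltDoubleCent.Frame G n z := ⟨π, dc⟩
  by_cases hsmall : n < 8 ∨ 13 ≤ n
  · exact (Agent.AltDoubleCent.fusion_false dc hsmall
      (y := ⟨w, Subgroup.mem_centralizer_singleton_iff.2 hwz.eq⟩) hwne hwc).elim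
  have hcases : n = 8 ∨ n = 9 ∨ n = 10 ∨ n = 11 ∨ n = 12 := by omega
  rcases hcases with h | h | h | h | h
  · exact Or.inl h
  · exact (Agent.AltDoubleCent.Setup.setup_false (F := F)
      ⟨by omega, by omega, fun v hv hv2 => F.all_conj (by omega) hwz hwne hwc hv hv2⟩).elim
  · exact (Agent.AltDoubleCent.Setup.setup_false (F := F)
      ⟨by omega, by omega, fun v hv hv2 => F.all_conj (by omega) hwz hwne hwc hv hv2⟩).elim
  · exact Or.inr h
  · subst h
    exact (F.twelve_false hwz hwne hwc).elim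

end Cfsg.Agent.S1645
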