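import Cfsg.Statements.S1681
import Cfsg.Agent.EqLemmas
import Cfsg.Agent.Lib.CosetEnum.Index
import Cfsg.Agent.Lib.CosetEnum.SetupSuz
import Cfsg.Agent.Lib.CosetEnum.TableSuz22880

set_option autoImplicit false
set_option Elab.async false
open Cfsg

namespace Cfsg.Agent.S1681

open Cfsg.Agent.CosetEnum in
/-- Generators of the subgroup of index 22880. -/
def H22880 : List (FreeGroup Cfsg.Spor.Suz.Gen) :=
  [Cfsg.Spor.Suz.a, Cfsg.Spor.Suz.b, Cfsg.Spor.Suz.c, Cfsg.Spor.Suz.d, Cfsg.Spor.Suz.f, Cfsg.Spor.Suz.g]

open Cfsg.Agent.CosetEnum in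
theorem rels0 : Setup.relsChunkOK suzSetup suz22880 0 14 = true := by decide +kernel

open Cfsg.Agent.CosetEnum in
theorem rels1 : Setup.relsChunkOK suzSetup suz22880 14 14 = true := by decide +kernel

open Cfsg.Agent.CosetEnum in
theorem rels2 : Setup.relsChunkOK suzSetup suz22880 28 14 = true := by decide +kernel

open Cfsg.Agent.CosetEnum in
theorem rels3 : Setup.relsChunkOK suzSetup suz22880 42 14 = true := by decide +kernel

open Cfsg.Agent.CosetEnum in
theorem rels_ok : suzSetup.relsOK suz22880 = true := Setup.relsOK_of_chunk (Setup.relsChunk_append (Setup.relsChunk_append (Setup.relsChunk_append rels0 rels1) rels2) rels3) (by decide +kernel)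

open Cfsg.Agent.CosetEnum in
theorem table : Setup.Table suzSetup suz22880 H22880 := by
  have hl : suzSetup.lettersOK suzLetters = true := by decide +kernel
  refine Setup.Table.mk'' (ext := [suz22880_seed0.tgt]) suzSetup_gens suz22880_check (by decide +kernel) rels_ok (by decide +kernel)
    (by decide +kernel) fun w hw => ?_
  rw [List.mem_singleton.mp hw]
  exact Setup.seed_fixes_id suzSetup_gens hl suz22880_seed0_check (by decide +kernel)

open Cfsg.Agent.CosetEnum in
theorem main (H : Subgroup suzSetup.G) (hH : H = suzSetup.closureOf H22880) : H.index = 22880 := by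
  subst hH
  exact Setup.Table.index table

/-- In the presented sporadic Suzuki group (generators a, …, g), the subgroup generated by the images of a, b, c, d, f, g has index 22880. -/
theorem result : (((Subgroup.closure ({Cfsg.Spor.Suz.a, Cfsg.Spor.Suz.b, Cfsg.Spor.Suz.c, Cfsg.Spor.Suz.d, Cfsg.Spor.Suz.f, Cfsg.Spor.Suz.g} : Set (FreeGroup Cfsg.Spor.Suz.Gen))).map (PresentedGroup.mk (Cfsg.Spor.coxRelators Cfsg.Spor.Suz.edges ∪ {r | r ∈ Cfsg.Spor.Suz.extra})))).index = 22880 := by
  refine Cfsg.Agent.S1681.main _ ?_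
  open Cfsg.Agent.CosetEnum in
  exact Setup.closureOf_eq suzSetup H22880 _ (by
    ext x; simp only [H22880, List.mem_cons, List.not_mem_nil, or_false, Set.mem_insert_iff,
      Set.mem_singleton_iff, Set.mem_ofPred_eq])

end Cfsg.Agent.S1681
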