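import Cfsg.Statements.S1684
import Cfsg.Agent.EqLemmas
import Cfsg.Agent.Lib.Fi22U62.Cover

set_option autoImplicit false
open Cfsg

namespace Cfsg.Agent.S1684

open Cfsg.Agent.CosetEnum in
theorem main (H : Subgroup fi22Setup.G) (hH : H = fi22Setup.closureOf S1687.hgens) :
    ∃ (K : Type) (_ : Field K) (_ : Fintype K), Fintype.card K = 4 ∧
      Cfsg.IsNonsplitDoubleCover H (Cfsg.PSU 6 K 2) := by
  subst hH
  exact ⟨Unitary.GF4, inferInstance, inferInstance, Unitary.GF4.card, Fi22U62.isNonsplitDoubleCover⟩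

/-- In the presented Fischer group Fi₂₂, the subgroup generated by the images of a, c, d, e, f, g, h, i and (abcdeh)^5 is a non-split double cover of PSU(6, 2) (realised over a field with four elements). -/
theorem result : ∃ (K : Type) (_ : Field K) (_ : Fintype K), Fintype.card K = 4 ∧ Cfsg.IsNonsplitDoubleCover (((Subgroup.closure ({Cfsg.Spor.Fi22.a, Cfsg.Spor.Fi22.c, Cfsg.Spor.Fi22.d, Cfsg.Spor.Fi22.e, Cfsg.Spor.Fi22.f, Cfsg.Spor.Fi22.g, Cfsg.Spor.Fi22.h, Cfsg.Spor.Fi22.i, (Cfsg.Spor.Fi22.a * Cfsg.Spor.Fi22.b * Cfsg.Spor.Fi22.c * Cfsg.Spor.Fi22.d * Cfsg.Spor.Fi22.e * Cfsg.Spor.Fi22.h) ^ 5} : Set (FreeGroup Cfsg.Spor.Fi22.Gen))).map (PresentedGroup.mk (Cfsg.Spor.coxRelators Cfsg.Spor.Fi22.edges ∪ {r | r ∈ Cfsg.Spor.Fi22.extra})))) (Cfsg.PSU 6 K 2) := by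
  refine main _ ?_
  open Cfsg.Agent.CosetEnum in
  exact Setup.closureOf_eq fi22Setup S1687.hgens _ (by
    ext x; simp only [S1687.hgens, List.mem_cons, List.not_mem_nil, or_false, Set.mem_insert_iff,
      Set.mem_singleton_iff, Set.mem_ofPred_eq])

end Cfsg.Agent.S1684
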