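import Cfsg.Statements.S1688
import Cfsg.Agent.EqLemmas
import Cfsg.Agent.Lib.Fi23Trans.Cover

set_option autoImplicit false
open Cfsg

namespace Cfsg.Agent.S1688

open Cfsg.Agent.CosetEnum in
theorem main (H : Subgroup fi23Setup.G) (hH : H = fi23Setup.closureOf S1689.hgens) :
    Cfsg.IsNonsplitDoubleCover H fi22Setup.G := by
  subst hH
  exact Fi23Trans.isNonsplitDoubleCover

/-- In the presented Fischer group Fi₂₃, the subgroup generated by the images of a, …, i is a non-split double cover of the presented Fischer group Fi₂₂. -/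
theorem result : Cfsg.IsNonsplitDoubleCover (((Subgroup.closure ({Cfsg.Spor.Fi23.a, Cfsg.Spor.Fi23.b, Cfsg.Spor.Fi23.c, Cfsg.Spor.Fi23.d, Cfsg.Spor.Fi23.e, Cfsg.Spor.Fi23.f, Cfsg.Spor.Fi23.g, Cfsg.Spor.Fi23.h, Cfsg.Spor.Fi23.i} : Set (FreeGroup Cfsg.Spor.Fi23.Gen))).map (PresentedGroup.mk (Cfsg.Spor.coxRelators Cfsg.Spor.Fi23.edges ∪ {r | r ∈ Cfsg.Spor.Fi23.extra})))) Cfsg.Spor.Fi22 := by
  refine main _ ?_
  open Cfsg.Agent.CosetEnum in
  exact Setup.closureOf_eq fi23Setup S1689.hgens _ (by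
    ext x; simp only [S1689.hgens, List.mem_cons, List.not_mem_nil, or_false, Set.mem_insert_iff,
      Set.mem_singleton_iff, Set.mem_ofPred_eq])

end Cfsg.Agent.S1688
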