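import Cfsg.Statements.S1691
import Cfsg.Agent.EqLemmas

set_option autoImplicit false
open Cfsg

namespace Cfsg.Agent.S1691

open Cfsg.Spor in
/-- All generators are sent to the non-trivial element of a group of order 2. -/
def sgnGen : Cfsg.Spor.Fi24.Gen → Multiplicative (ZMod 2) :=
  fun _ => Multiplicative.ofAdd 1

theorem sgnGen_rel : ∀ r ∈ Cfsg.Spor.coxRelators Cfsg.Spor.Fi24.edges ∪ {r | r ∈ Cfsg.Spor.Fi24.extra},
    FreeGroup.lift sgnGen r = 1 := by
  rintro r (⟨x, _, y, _, rfl⟩ | hr)
  · simp only [map_pow, map_mul, FreeGroup.lift_apply_of]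
    have : sgnGen x * sgnGen y = 1 := by
      simp only [sgnGen]; decide
    rw [this, one_pow]
  · simp only [Cfsg.Spor.Fi24.extra, Set.mem_ofPred_eq, List.mem_cons, List.not_mem_nil, or_false] at hr
    rcases hr with rfl | rfl <;>
      (simp only [map_mul, map_inv, map_pow, FreeGroup.lift_apply_of, sgnGen]; decide)

/-- The commutator subgroup of the presented group Fi₂₄ has index 2 (the presented group is Fi₂₄′:2 with Fi₂₄′ its derived subgroup). -/
theorem result : (commutator Cfsg.Spor.Fi24).index = 2 := by
  let φ : Cfsg.Spor.Fi24 →* Multiplicative (ZMod 2) := PresentedGroup.toGroup sgnGen_rel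
  have hφ : ∀ x, φ (PresentedGroup.of x) = Multiplicative.ofAdd 1 := fun x => PresentedGroup.toGroup.of _
  let A := Abelianization Cfsg.Spor.Fi24
  let m : Cfsg.Spor.Fi24 →* A := Abelianization.of
  let T : Cfsg.Spor.Fi24.Gen → A := fun x => m (PresentedGroup.of x)
  have hrel : ∀ x y, x ∈ Cfsg.Spor.coxNodes Cfsg.Spor.Fi24.edges → y ∈ Cfsg.Spor.coxNodes Cfsg.Spor.Fi24.edges →
      (T x * T y) ^ Cfsg.Spor.coxLabel Cfsg.Spor.Fi24.edges x y = 1 := by
    intro x y hx hy
    have h1 := PresentedGroup.one_of_mem (rels := Cfsg.Spor.coxRelators Cfsg.Spor.Fi24.edges ∪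
      {r | r ∈ Cfsg.Spor.Fi24.extra}) (x := (FreeGroup.of x * FreeGroup.of y) ^ Cfsg.Spor.coxLabel Cfsg.Spor.Fi24.edges x y)
      (Or.inl ⟨x, hx, y, hy, rfl⟩)
    have h2 := congrArg m h1
    simpa [T, map_pow, map_mul, PresentedGroup.of] using h2
  have hnode : ∀ x, x ∈ Cfsg.Spor.coxNodes Cfsg.Spor.Fi24.edges := by
    intro x; cases x <;> decide
  have hsq : ∀ x, T x * T x = 1 := by
    intro x
    have h := hrel x x (hnode x) (hnode x)
    simpa [Cfsg.Spor.coxLabel] using h
  have hedge : ∀ x y, Cfsg.Spor.coxLabel Cfsg.Spor.Fi24.edges x y = 3 → T x = T y := by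
    intro x y hl
    have h := hrel x y (hnode x) (hnode y)
    rw [hl, pow_succ] at h
    have h2 : (T x * T y) ^ 2 = 1 := by rw [mul_pow, sq, sq, hsq, hsq, one_mul]
    rw [h2, one_mul] at h
    calc T x = T x * (T y * T y) := by rw [hsq, mul_one]
      _ = T y := by rw [← mul_assoc, h, one_mul]
  let t : A := T .d
  have hall : ∀ x, T x = t := by
    have lk : T .l = T .k := hedge _ _ (by decide)
    have ka : T .k = T .a := hedge _ _ (by decide)
    have ab : T .a = T .b := hedge _ _ (by decide)
    have bc : T .b = T .c := hedge _ _ (by decide)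
    have cd : T .c = t := hedge _ _ (by decide)
    have ed : T .e = t := (hedge .d .e (by decide)).symm
    have fe : T .f = T .e := (hedge .e .f (by decide)).symm
    have gf : T .g = T .f := (hedge .f .g (by decide)).symm
    have jg : T .j = T .g := (hedge .g .j (by decide)).symm
    have hd : T .h = t := (hedge .d .h (by decide)).symm
    have ih : T .i = T .h := (hedge .h .i (by decide)).symm
    intro x
    cases x
    all_goals (first
      | exact rfl
      | simp only [lk, ka, ab, bc, cd, jg, gf, fe, ed, ih, hd])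
  have hgen : ∀ g : Cfsg.Spor.Fi24, m g = 1 ∨ m g = t := by
    intro g
    have hg : g ∈ Subgroup.closure (Set.range (PresentedGroup.of : Cfsg.Spor.Fi24.Gen → Cfsg.Spor.Fi24)) := by
      rw [PresentedGroup.closure_range_of]; trivial
    induction hg using Subgroup.closure_induction with
    | mem x hx => obtain ⟨a, rfl⟩ := hx; exact Or.inr (hall a)
    | one => exact Or.inl (map_one m)
    | mul x y _ _ ihx ihy =>
      rcases ihx with h | h <;> rcases ihy with h' | h' <;>
        simp [map_mul, h, h', hsq, t]
    | inv x _ ih =>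
      rcases ih with h | h
      · exact Or.inl (by simp [h])
      · exact Or.inr (by rw [map_inv, h]; exact inv_eq_of_mul_eq_one_right (hsq _))
  have hker : φ.ker = commutator Cfsg.Spor.Fi24 := by
    apply le_antisymm
    · intro g hg
      have hmker : m g = 1 := by
        rcases hgen g with h | h
        · exact h
        · exfalso
          have hlift : ∀ u, Abelianization.lift φ (m u) = φ u := fun u => Abelianization.lift_apply_of ..
          have h1 := hlift g
          rw [h, MonoidHom.mem_ker.mp hg] at h1
          have h2 := hlift (PresentedGroup.of .d)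
          rw [hφ] at h2
          exact absurd (h1.symm.trans h2) (by decide)
      exact (QuotientGroup.eq_one_iff g).mp hmker
    · exact Abelianization.commutator_subset_ker φ
  rw [← hker, Subgroup.index_ker]
  have hsurj : Function.Surjective φ := by
    intro a
    have : a = 1 ∨ a = Multiplicative.ofAdd 1 := by revert a; decide
    rcases this with rfl | rfl
    · exact ⟨1, map_one φ⟩
    · exact ⟨_, hφ .d⟩
  rw [MonoidHom.range_eq_top.mpr hsurj, Subgroup.card_top]
  simp

end Cfsg.Agent.S1691
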