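import Cfsg.Statements.S1693
import Cfsg.Agent.EqLemmas
import Cfsg.Agent.Lib.ONL37.Iso

set_option autoImplicit false
open Cfsg

namespace Cfsg.Agent.S1693

local instance : Fact (Nat.Prime 7) := ⟨by norm_num⟩

open Cfsg.Agent.CosetEnum in
theorem main (H : Subgroup onSetup.G) (hH : H = onSetup.closureOf Cfsg.Agent.S1692.hgens) :
    ∃ N : Subgroup H, N.Normal ∧ N.index = 2 ∧
      Nonempty (N ≃* Matrix.ProjectiveSpecialLinearGroup (Fin 3) (ZMod 7)) := by
  subst hH
  exact ONL37.exists_psl_index_two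

/-- In the presented O'Nan group, the subgroup H generated by the images of a, …, f has a normal subgroup of index 2 isomorphic to PSL(3, 7). -/
theorem result : ∃ N : Subgroup (((Subgroup.closure ({Cfsg.Spor.ON.a, Cfsg.Spor.ON.b, Cfsg.Spor.ON.c, Cfsg.Spor.ON.d, Cfsg.Spor.ON.e, Cfsg.Spor.ON.f} : Set (FreeGroup Cfsg.Spor.ON.Gen))).map (PresentedGroup.mk (Cfsg.Spor.coxRelators Cfsg.Spor.ON.edges ∪ {r | r ∈ Cfsg.Spor.ON.extra})))), N.Normal ∧ N.index = 2 ∧ Nonempty (N ≃* Matrix.ProjectiveSpecialLinearGroup (Fin 3) (ZMod 7)) := by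
  refine Cfsg.Agent.S1693.main _ ?_
  open Cfsg.Agent.CosetEnum in
  exact Setup.closureOf_eq onSetup Cfsg.Agent.S1692.hgens _ (by
    ext x; simp only [Cfsg.Agent.S1692.hgens, List.mem_cons, List.not_mem_nil, or_false, Set.mem_insert_iff,
      Set.mem_singleton_iff, Set.mem_ofPred_eq])

end Cfsg.Agent.S1693
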