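import Cfsg.Statements.S1708
import Cfsg.Agent.Lib.HNPresented.Cover

set_option autoImplicit false
open Cfsg

namespace Cfsg.Agent.S1708

/-- Non-split double covers are stable under isomorphism. -/
theorem transport {A B C : Type*} [Group A] [Group B] [Group C] (e : A ≃* B)
    (h : Cfsg.IsNonsplitDoubleCover A C) : Cfsg.IsNonsplitDoubleCover B C := by
  obtain ⟨h1, ⟨q⟩, h3⟩ := h
  have hc : (Subgroup.center A).map e.toMonoidHom = Subgroup.center B := by
    refine le_antisymm ?_ fun b hb => ⟨e.symm b, ?_, by simp⟩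
    · rintro _ ⟨a, ha, rfl⟩
      refine Subgroup.mem_center_iff.2 fun b => ?_
      obtain ⟨c, rfl⟩ := e.surjective b
      show e c * e a = e a * e c
      rw [← map_mul, ← map_mul, Subgroup.mem_center_iff.1 ha c]
    · refine Subgroup.mem_center_iff.2 fun a => e.injective ?_
      simpa using Subgroup.mem_center_iff.1 hb (e a)
  refine ⟨?_, ⟨(QuotientGroup.congr (Subgroup.center A) (Subgroup.center B) e hc).symm.trans q⟩,
    fun L hL => h3 (L.map e.symm.toMonoidHom) ?_⟩
  · rw [← h1, ← hc]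
    exact Nat.card_congr (e.subgroupMap (Subgroup.center A)).toEquiv.symm
  · haveI : Finite (Subgroup.center A) := Nat.finite_of_card_ne_zero (by omega)
    refine Subgroup.isComplement'_of_disjoint_and_mul_eq_univ ?_ ?_
    · rw [Subgroup.disjoint_def]
      rintro a ha ⟨b, hb, rfl⟩
      have : b ∈ Subgroup.center B := by rw [← hc]; exact ⟨_, ha, by simp⟩
      have h1 := Subgroup.disjoint_def.1 hL.disjoint this hb
      simp [h1]
    · refine Set.eq_univ_of_forall fun a => ?_
      obtain ⟨⟨⟨c, hc'⟩, ⟨l, hl⟩⟩, e'⟩ := hL.2 (e a)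
      rw [← hc] at hc'
      obtain ⟨c0, hc0, rfl⟩ := hc'
      exact ⟨c0, hc0, e.symm l, ⟨l, hl, rfl⟩, e.injective (by simpa using e')⟩

/-- In the presented Harada–Norton group, the subgroup N generated by the images of x, y, z has a normal subgroup of index 2 which is a non-split double cover of the Higman–Sims group. -/
theorem result : ∃ K : Subgroup (((Subgroup.closure ({Cfsg.Spor.HN.x, Cfsg.Spor.HN.y, Cfsg.Spor.HN.z} : Set (FreeGroup Cfsg.Spor.HN.Gen))).map (PresentedGroup.mk (Cfsg.Spor.coxRelators Cfsg.Spor.HN.edges ∪ {r | r ∈ Cfsg.Spor.HN.extra})))), K.Normal ∧ K.index = 2 ∧ Cfsg.IsNonsplitDoubleCover K Cfsg.Spor.HS := by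
  obtain ⟨e⟩ : Nonempty (HNPres.hSetup.G ≃* ↥((Subgroup.closure ({Cfsg.Spor.HN.x, Cfsg.Spor.HN.y, Cfsg.Spor.HN.z} : Set (FreeGroup Cfsg.Spor.HN.Gen))).map (PresentedGroup.mk (Cfsg.Spor.coxRelators Cfsg.Spor.HN.edges ∪ {r | r ∈ Cfsg.Spor.HN.extra})))) :=
    ⟨HNPresented.Cover.hgEquiv.trans (MulEquiv.subgroupCongr HNPresented.xyz_eq_hnH.symm)⟩
  refine ⟨HNPres.evenH.map e.toMonoidHom, Subgroup.Normal.map HNPres.evenH_normal _ e.surjective, ?_,
    transport (e.subgroupMap HNPres.evenH) HNPres.double_cover⟩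
  rw [show (HNPres.evenH.map e.toMonoidHom).index = HNPres.evenH.index from Subgroup.index_map_equiv HNPres.evenH e]
  have h := HNPres.card_evenH_mul
  have h2 := HNPres.evenH.card_mul_index
  haveI := HNPres.hg_finite
  exact Nat.eq_of_mul_eq_mul_left Nat.card_pos (h2.trans h.symm)

end Cfsg.Agent.S1708
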