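import Cfsg.Statements.S1717
import Cfsg.Agent.EqLemmas

set_option autoImplicit false
open Cfsg Matrix

namespace Cfsg.Agent.S1717

abbrev SL5 : Type := Matrix.SpecialLinearGroup (Fin 5) (ZMod 2)

/-- upper unitriangular matrices -/
def triSub : Subgroup SL5 :=
  { carrier := {M | (M : Matrix (Fin 5) (Fin 5) (ZMod 2)).BlockTriangular id}
    mul_mem' := fun {A B} hA hB => by
      show Matrix.BlockTriangular ((A * B : SL5) : Matrix (Fin 5) (Fin 5) (ZMod 2)) id
      rw [Matrix.SpecialLinearGroup.coe_mul]
      exact Matrix.BlockTriangular.mul hA hB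
    one_mem' := by
      intro i j hij
      show (1 : Matrix (Fin 5) (Fin 5) (ZMod 2)) i j = 0
      exact Matrix.one_apply_ne (ne_of_gt (show j < i from hij))
    inv_mem' := fun {A} hA => by
      have h1 : ∀ k : ℕ, ((A ^ k : SL5) : Matrix (Fin 5) (Fin 5) (ZMod 2)).BlockTriangular id := by
        intro k
        induction k with
        | zero =>
          intro i j hij
          show (1 : Matrix (Fin 5) (Fin 5) (ZMod 2)) i j = 0
          exact Matrix.one_apply_ne (ne_of_gt (show j < i from hij))
        | succ k ih =>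
          rw [pow_succ, Matrix.SpecialLinearGroup.coe_mul]
          exact Matrix.BlockTriangular.mul ih hA
      have h2 : A⁻¹ = A ^ (orderOf A - 1) := by
        apply inv_eq_of_mul_eq_one_right
        rw [← pow_succ', Nat.sub_add_cancel (isOfFinOrder_of_finite A).orderOf_pos, pow_orderOf_eq_one]
      show Matrix.BlockTriangular ((A⁻¹ : SL5) : Matrix (Fin 5) (Fin 5) (ZMod 2)) id
      rw [h2]
      exact h1 _ }

/-- matrix entry -/
def ent (M : Matrix (Fin 5) (Fin 5) (ZMod 2)) (i j : Fin 5) : ZMod 2 := M i j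

theorem diag_one (M : SL5) (hM : M ∈ triSub) (i : Fin 5) :
    (M : Matrix (Fin 5) (Fin 5) (ZMod 2)) i i = 1 := by
  have h := Matrix.det_of_isUpperTriangular (M := (M : Matrix (Fin 5) (Fin 5) (ZMod 2))) (fun a b h => hM h)
  rw [M.prop] at h
  have h2 : ∀ x : ZMod 2, x ≠ 0 → x = 1 := by decide
  apply h2
  intro h0
  exact one_ne_zero (h.trans (Finset.prod_eq_zero (Finset.mem_univ i) h0))

/-- matrix with given entries above the diagonal -/
def triMat (f : {p : Fin 5 × Fin 5 // p.1 < p.2} → ZMod 2) : Matrix (Fin 5) (Fin 5) (ZMod 2) :=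
  fun i j => if h : i < j then f ⟨(i, j), h⟩ else if i = j then 1 else 0

theorem triMat_det (f : {p : Fin 5 × Fin 5 // p.1 < p.2} → ZMod 2) : (triMat f).det = 1 := by
  rw [Matrix.det_of_isUpperTriangular]
  · exact Finset.prod_eq_one fun i _ => by simp [triMat]
  · intro i j hij
    have hij' : j < i := hij
    simp [triMat, not_lt_of_gt hij', ne_of_gt hij']

def triEquiv : triSub ≃ ({p : Fin 5 × Fin 5 // p.1 < p.2} → ZMod 2) where
  toFun M p := (M.1 : Matrix (Fin 5) (Fin 5) (ZMod 2)) p.1.1 p.1.2
  invFun f := ⟨⟨triMat f, triMat_det f⟩, fun i j hij => by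
    show triMat f i j = 0
    simp [triMat, not_lt_of_gt (show j < i from hij), ne_of_gt (show j < i from hij)]⟩
  left_inv M := by
    apply Subtype.ext
    apply Subtype.ext
    refine Matrix.ext fun i j => ?_
    show triMat (fun p => (M.1 : Matrix (Fin 5) (Fin 5) (ZMod 2)) p.1.1 p.1.2) i j = (M.1 : Matrix (Fin 5) (Fin 5) (ZMod 2)) i j
    rcases lt_trichotomy i j with h | h | h
    · simp [triMat, h]
    · subst h
      simp [triMat, diag_one M.1 M.2 i]
    · simp [triMat, not_lt_of_gt h, ne_of_gt h, M.2 h]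
  right_inv f := by
    funext p
    show triMat f p.1.1 p.1.2 = f p
    simp [triMat, p.2]

theorem card_triSub : Nat.card triSub = 2 ^ 10 := by
  rw [Nat.card_congr triEquiv, Nat.card_eq_fintype_card]
  simp only [Fintype.card_fun, ZMod.card]
  congr 1

theorem card_SL5 : Nat.card SL5 = 2 ^ 10 * 9765 := by
  have hb : Function.Bijective (Matrix.SpecialLinearGroup.toGL : SL5 → Matrix.GeneralLinearGroup (Fin 5) (ZMod 2)) := by
    constructor
    · intro a b h
      exact Subtype.ext (congrArg (fun g : Matrix.GeneralLinearGroup (Fin 5) (ZMod 2) => g.val) h)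
    · intro g
      have hd : g.val.det = 1 := by
        have h2 : ∀ x : ZMod 2, IsUnit x → x = 1 := by
          intro x hx
          have H : ∀ y : ZMod 2, y ≠ 0 → y = 1 := by decide
          exact H x hx.ne_zero
        exact h2 _ ((Matrix.isUnit_iff_isUnit_det g.val).mp g.isUnit)
      exact ⟨⟨g.val, hd⟩, Units.ext (Matrix.SpecialLinearGroup.coe_GL_coe_matrix _)⟩
  refine (Nat.card_congr (Equiv.ofBijective _ hb)).trans ?_
  refine (Matrix.card_GL_field (𝔽 := ZMod 2) 5).trans ?_
  simp only [ZMod.card, Fin.prod_univ_succ, Fin.prod_univ_zero, Fin.val_zero, Fin.val_succ]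
  norm_num

/-- the transvection with a one in the corner, as an element of SL5 -/
def t0 : SL5 := ⟨Matrix.transvection 0 4 1, Matrix.det_transvection_of_ne _ _ (by decide) 1⟩

theorem t0_mem : t0 ∈ triSub := by
  intro i j hij
  have H : ∀ i j : Fin 5, j < i → ent (Matrix.transvection (0 : Fin 5) 4 (1 : ZMod 2)) i j = 0 := by decide +kernel
  exact H i j hij

theorem center_tri (M : SL5) (hM : M ∈ triSub) (hc : ∀ A ∈ triSub, M * A = A * M) : M = 1 ∨ M = t0 := by
  obtain ⟨M, hdet⟩ := M
  have key : ∀ k l : Fin 5, k < l → ∀ a b, (M * Matrix.transvection k l (1 : ZMod 2) : Matrix (Fin 5) (Fin 5) (ZMod 2)) a b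
      = (Matrix.transvection k l (1 : ZMod 2) * M : Matrix (Fin 5) (Fin 5) (ZMod 2)) a b := by
    intro k l hkl a b
    let A : SL5 := ⟨Matrix.transvection k l 1, Matrix.det_transvection_of_ne _ _ (ne_of_lt hkl) 1⟩
    have hA : A ∈ triSub := by
      intro i j hij
      have H : ∀ k l : Fin 5, k < l → ∀ i j : Fin 5, j < i → ent (Matrix.transvection k l (1 : ZMod 2)) i j = 0 := by
        decide +kernel
      exact H k l hkl i j hij
    have := hc A hA
    exact congrArg (fun X : SL5 => (X : Matrix (Fin 5) (Fin 5) (ZMod 2)) a b) this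
  have hrow : ∀ k l b : Fin 5, k < l → b ≠ l → M l b = 0 := by
    intro k l b hkl hb
    have h := key k l hkl k b
    rw [Matrix.mul_transvection_apply_of_ne _ _ _ _ hb, Matrix.transvection_mul_apply_same] at h
    simpa using h.symm
  have hcol : ∀ k l a : Fin 5, k < l → a ≠ k → M a k = 0 := by
    intro k l a hkl ha
    have h := key k l hkl a l
    rw [Matrix.mul_transvection_apply_same, Matrix.transvection_mul_apply_of_ne _ _ _ _ ha] at h
    simpa using h
  have hd : ∀ i, M i i = 1 := fun i => diag_one ⟨M, hdet⟩ hM i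
  have hz : ∀ a b : Fin 5, a ≠ b → (a, b) ≠ (0, 4) → M a b = 0 := by
    intro a b hab hne
    by_cases ha : a = 0
    · subst ha
      have hb4 : b ≠ 4 := fun h => hne (by rw [h])
      exact hcol b 4 0 (by revert hb4; clear hab hne; revert b; decide) hab
    · exact hrow 0 a b (Fin.pos_of_ne_zero ha) (Ne.symm hab)
  have h04 : M 0 4 = 0 ∨ M 0 4 = 1 := by
    have : ∀ x : ZMod 2, x = 0 ∨ x = 1 := by decide
    exact this _
  rcases h04 with h | h
  · left
    apply Subtype.ext
    ext a b
    show M a b = (1 : Matrix (Fin 5) (Fin 5) (ZMod 2)) a b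
    by_cases hab : a = b
    · subst hab; simp [hd]
    · rw [Matrix.one_apply_ne hab]
      by_cases hp : (a, b) = (0, 4)
      · simp only [Prod.mk.injEq] at hp; rw [hp.1, hp.2]; exact h
      · exact hz a b hab hp
  · right
    apply Subtype.ext
    ext a b
    show M a b = Matrix.transvection (0 : Fin 5) 4 (1 : ZMod 2) a b
    by_cases hab : a = b
    · subst hab; rw [hd]; have H : ∀ a : Fin 5, (1:ZMod 2) = ent (Matrix.transvection (0 : Fin 5) 4 (1 : ZMod 2)) a a := by decide +kernel
      exact H a
    · by_cases hp : (a, b) = (0, 4)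
      · simp only [Prod.mk.injEq] at hp; rw [hp.1, hp.2, h]; simp [Matrix.transvection]
      · rw [hz a b hab hp]
        have H : ∀ a b : Fin 5, a ≠ b → (a, b) ≠ (0, 4) → (0:ZMod 2) = ent (Matrix.transvection (0 : Fin 5) 4 (1 : ZMod 2)) a b := by decide +kernel
        exact H a b hab hp

theorem t0_central : ∀ A ∈ triSub, t0 * A = A * t0 := by
  intro A hA
  apply Subtype.ext
  ext a b
  show (Matrix.transvection (0 : Fin 5) 4 (1 : ZMod 2) * (A : Matrix (Fin 5) (Fin 5) (ZMod 2)) : Matrix (Fin 5) (Fin 5) (ZMod 2)) a b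
    = ((A : Matrix (Fin 5) (Fin 5) (ZMod 2)) * Matrix.transvection (0 : Fin 5) 4 (1 : ZMod 2) : Matrix (Fin 5) (Fin 5) (ZMod 2)) a b
  have h00 := diag_one A hA 0
  have h44 := diag_one A hA 4
  by_cases ha : a = 0
  · subst ha
    rw [Matrix.transvection_mul_apply_same]
    by_cases hb : b = 4
    · subst hb
      rw [Matrix.mul_transvection_apply_same, h00, h44]
    · rw [Matrix.mul_transvection_apply_of_ne _ _ _ _ hb, hA (show id b < id (4 : Fin 5) by revert hb; revert b; decide)]
      simp
  · rw [Matrix.transvection_mul_apply_of_ne _ _ _ _ ha]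
    by_cases hb : b = 4
    · subst hb
      rw [Matrix.mul_transvection_apply_same, hA (show id (0 : Fin 5) < id a from Fin.pos_of_ne_zero ha)]
      simp
    · rw [Matrix.mul_transvection_apply_of_ne _ _ _ _ hb]

/-- the permutation matrix of the swap of 1 and 4 -/
def swp : SL5 := ⟨!![1,0,0,0,0; 0,0,0,0,1; 0,0,1,0,0; 0,0,0,1,0; 0,1,0,0,0], by decide +kernel⟩

theorem swp_conj (s : SL5) (hs : (s : Matrix (Fin 5) (Fin 5) (ZMod 2)) = Matrix.transvection 0 1 1) :
    swp * t0 * swp⁻¹ = s := by
  rw [mul_inv_eq_iff_eq_mul]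
  apply Subtype.ext
  rw [Matrix.SpecialLinearGroup.coe_mul, Matrix.SpecialLinearGroup.coe_mul, hs]
  decide +kernel

/-- Every Sylow 2-subgroup of the centralizer of s has the property that its center has at most two elements. -/
theorem center_two (s : SL5) (hs : (s : Matrix (Fin 5) (Fin 5) (ZMod 2)) = Matrix.transvection 0 1 1)
    (T : Sylow 2 (Subgroup.centralizer ({s} : Set SL5))) :
    Nat.card (Subgroup.center (T : Subgroup (Subgroup.centralizer ({s} : Set SL5)))) ≤ 2 := by
  have : Fact (Nat.Prime 2) := ⟨Nat.prime_two⟩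
  let C := Subgroup.centralizer ({s} : Set SL5)
  let U1 : Subgroup SL5 := triSub.map (MulAut.conj swp).toMonoidHom
  have hU1C : U1 ≤ C := by
    rintro x ⟨A, hA, rfl⟩
    rw [Subgroup.mem_centralizer_singleton_iff, ← swp_conj s hs]
    show swp * A * swp⁻¹ * (swp * t0 * swp⁻¹) = swp * t0 * swp⁻¹ * (swp * A * swp⁻¹)
    have h := t0_central A hA
    calc swp * A * swp⁻¹ * (swp * t0 * swp⁻¹) = swp * (A * t0) * swp⁻¹ := by group
      _ = swp * (t0 * A) * swp⁻¹ := by rw [h]
      _ = _ := by group
  let e1 : triSub ≃* U1 := triSub.equivMapOfInjective _ (MulAut.conj swp).injective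
  have hU1card : Nat.card (U1.subgroupOf C) = 2 ^ 10 := by
    rw [Nat.card_congr (Subgroup.subgroupOfEquivOfLe hU1C).toEquiv, ← Nat.card_congr e1.toEquiv, card_triSub]
  have hfac : (Nat.card C).factorization 2 = 10 := by
    have h1 : Nat.card C ∣ 2 ^ 10 * 9765 := card_SL5 ▸ Subgroup.card_subgroup_dvd_card C
    have h2 : 2 ^ 10 ∣ Nat.card C := hU1card ▸ Subgroup.card_subgroup_dvd_card (U1.subgroupOf C)
    have hne : Nat.card C ≠ 0 := Nat.card_pos.ne'
    apply le_antisymm
    · by_contra h
      have h3 : 2 ^ 11 ∣ Nat.card C :=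
        (Nat.prime_two.pow_dvd_iff_le_factorization hne).mpr (by omega)
      exact absurd (h3.trans h1) (by norm_num)
    · exact (Nat.prime_two.pow_dvd_iff_le_factorization hne).mp h2
  let S : Sylow 2 C := Sylow.ofCard (U1.subgroupOf C) (by rw [hU1card, hfac])
  let eT : (T : Subgroup C) ≃* triSub :=
    (Sylow.equiv T S).trans ((Subgroup.subgroupOfEquivOfLe hU1C).trans e1.symm)
  rw [Nat.card_congr (Subgroup.centerCongr eT).toEquiv]
  have hsub : ((Subgroup.center triSub : Set triSub)) ⊆ {1, ⟨t0, t0_mem⟩} := by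
    intro M hM
    rcases center_tri M.1 M.2 (fun A hA => congrArg Subtype.val (Subgroup.mem_center_iff.mp hM ⟨A, hA⟩).symm) with h | h
    · exact Or.inl (Subtype.ext h)
    · exact Or.inr (Subtype.ext h)
  calc Nat.card (Subgroup.center triSub) ≤ ({1, ⟨t0, t0_mem⟩} : Set triSub).ncard := by
        exact Set.ncard_le_ncard hsub (Set.toFinite _)
    _ ≤ 2 := (Set.ncard_insert_le _ _).trans (by simp)

/-- Let G be a finite group with an involution z whose centraliser C is isomorphic to the centraliser of a transvection of SL(5, 2). Then a Sylow 2-subgroup of C, viewed in G, is a Sylow 2-subgroup of G (its index in G is odd). -/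
theorem result {G : Type*} [Group G] [Finite G] (s : Matrix.SpecialLinearGroup (Fin 5) (ZMod 2)) (hs : (s : Matrix (Fin 5) (Fin 5) (ZMod 2)) = Matrix.transvection 0 1 1) (z : G) (hz : orderOf z = 2) (e : (Subgroup.centralizer ({z} : Set G)) ≃* Subgroup.centralizer ({s} : Set (Matrix.SpecialLinearGroup (Fin 5) (ZMod 2)))) (T : Sylow 2 (Subgroup.centralizer ({z} : Set G))) : ¬ 2 ∣ ((T : Subgroup (Subgroup.centralizer ({z} : Set G))).map (Subgroup.subtype (Subgroup.centralizer ({z} : Set G)))).index := by
  have : Fact (Nat.Prime 2) := ⟨Nat.prime_two⟩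
  let C := Subgroup.centralizer ({z} : Set G)
  -- the center of T has at most two elements
  have hcard : Nat.card (Subgroup.center (T : Subgroup C)) ≤ 2 := by
    let T2 : Sylow 2 (Subgroup.centralizer ({s} : Set SL5)) :=
      T.comapOfInjective e.symm.toMonoidHom e.symm.injective (by
        rw [MonoidHom.range_eq_top.mpr e.symm.surjective]; exact le_top)
    have e2 : (T2 : Subgroup (Subgroup.centralizer ({s} : Set SL5))) ≃* (T : Subgroup C) :=
      { toFun := fun x => ⟨e.symm x.1, x.2⟩
        invFun := fun y => ⟨e y.1, by show e.symm (e y.1) ∈ (T : Subgroup C); rw [e.symm_apply_apply]; exact y.2⟩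
        left_inv := fun x => Subtype.ext (e.apply_symm_apply _)
        right_inv := fun y => Subtype.ext (e.symm_apply_apply _)
        map_mul' := fun x y => Subtype.ext (map_mul e.symm _ _) }
    rw [← Nat.card_congr (Subgroup.centerCongr e2).toEquiv]
    exact center_two s hs T2
  have hzC : z ∈ C := Subgroup.mem_centralizer_singleton_iff.mpr rfl
  let zc : C := ⟨z, hzC⟩
  have hzcen : ∀ c : C, zc * c = c * zc := fun c =>
    Subtype.ext (Subgroup.mem_centralizer_singleton_iff.mp c.2).symm
  have hz2 : z * z = 1 := by rw [← sq, ← hz]; exact pow_orderOf_eq_one z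
  have hzT : zc ∈ (T : Subgroup C) := by
    have hp : IsPGroup 2 (Subgroup.zpowers zc) := by
      apply IsPGroup.of_card (n := 1)
      rw [Nat.card_zpowers, Subgroup.orderOf_mk, hz, pow_one]
    have hn : (Subgroup.zpowers zc).Normal := by
      constructor
      intro n hn g
      obtain ⟨k, rfl⟩ := Subgroup.mem_zpowers_iff.mp hn
      have hcm : Commute g (zc ^ k) := (Commute.zpow_left (show Commute zc g from hzcen g) k).symm
      rw [hcm.eq, mul_assoc, mul_inv_cancel, mul_one]
      exact hn
    have hle : Subgroup.zpowers zc ≤ (T : Subgroup C) := by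
      have := hp.to_sup_of_normal_left T.isPGroup'
      exact le_sup_left.trans (T.3 this le_sup_right).le
    exact hle (Subgroup.mem_zpowers zc)
  intro hdvd
  set T1 : Subgroup G := (T : Subgroup C).map C.subtype with hT1
  have hT1p : IsPGroup 2 T1 := T.isPGroup'.map _
  obtain ⟨P, hP⟩ := hT1p.exists_le_sylow
  have hne : T1 ≠ (P : Subgroup G) := by
    intro h
    rw [h] at hdvd
    exact P.not_dvd_index hdvd
  -- normalizer condition inside P
  have hlt : T1.subgroupOf (P : Subgroup G) < Subgroup.normalizer ((T1.subgroupOf (P : Subgroup G) : Subgroup (P : Subgroup G)) : Set (P : Subgroup G)) := by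
    haveI : Group.IsNilpotent (P : Subgroup G) := P.isPGroup'.isNilpotent
    apply Group.normalizerCondition_of_isNilpotent
    rw [lt_top_iff_ne_top, ne_eq, Subgroup.subgroupOf_eq_top]
    exact fun h => hne (le_antisymm hP h)
  obtain ⟨g, hgN, hgT⟩ := SetLike.exists_of_lt hlt
  have hgT' : (g : G) ∉ T1 := fun h => hgT (Subgroup.mem_subgroupOf.mpr h)
  have hconj : ∀ x ∈ T1, (g : G) * x * (g : G)⁻¹ ∈ T1 ∧ (g : G)⁻¹ * x * g ∈ T1 := by
    intro x hx
    constructor
    · have h := (Subgroup.mem_normalizer_iff.mp hgN ⟨x, hP hx⟩).mp (Subgroup.mem_subgroupOf.mpr hx)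
      simpa [Subgroup.mem_subgroupOf] using h
    · have h := (Subgroup.mem_normalizer_iff.mp ((Subgroup.normalizer _).inv_mem hgN) ⟨x, hP hx⟩).mp (Subgroup.mem_subgroupOf.mpr hx)
      simpa [Subgroup.mem_subgroupOf] using h
  -- g z g⁻¹ is central in T1, hence equals z
  have hzT1 : z ∈ T1 := ⟨zc, hzT, rfl⟩
  obtain ⟨w, hwT, hw⟩ := (hconj z hzT1).1
  have hwcen : (⟨w, hwT⟩ : (T : Subgroup C)) ∈ Subgroup.center (T : Subgroup C) := by
    rw [Subgroup.mem_center_iff]
    intro x
    apply Subtype.ext
    apply Subtype.ext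
    show (x.1 : G) * (w : G) = (w : G) * (x.1 : G)
    have hw' : (w : G) = (g : G) * z * (g : G)⁻¹ := hw
    rw [hw']
    obtain ⟨y, hyT, hy⟩ := (hconj (x.1 : G) ⟨x.1, x.2, rfl⟩).2
    have hy' : (y : G) = (g : G)⁻¹ * (x.1 : G) * g := hy
    have hcomm : z * (y : G) = (y : G) * z := congrArg Subtype.val (hzcen y)
    rw [hy'] at hcomm
    calc (x.1 : G) * ((g : G) * z * (g : G)⁻¹) = (g : G) * (((g : G)⁻¹ * (x.1 : G) * g) * z) * (g : G)⁻¹ := by group
      _ = (g : G) * (z * ((g : G)⁻¹ * (x.1 : G) * g)) * (g : G)⁻¹ := by rw [hcomm]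
      _ = _ := by group
  have hzcc : (⟨zc, hzT⟩ : (T : Subgroup C)) ∈ Subgroup.center (T : Subgroup C) := by
    rw [Subgroup.mem_center_iff]
    intro x
    exact Subtype.ext (hzcen x.1).symm
  have hzne : z ≠ 1 := fun h => by rw [h, orderOf_one] at hz; exact absurd hz (by decide)
  have hwz : (w : G) = z := by
    by_contra hne'
    have hw1 : (w : G) ≠ 1 := by
      intro h
      have hw' : (g : G) * z * (g : G)⁻¹ = 1 := by rw [← h]; exact hw.symm
      exact hzne (conj_eq_one_iff.mp hw')
    let f : Fin 3 → Subgroup.center (T : Subgroup C) := ![1, ⟨_, hzcc⟩, ⟨_, hwcen⟩]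
    have hf : Function.Injective f := by
      intro a b hab
      have hab' := congrArg (fun u : Subgroup.center (T : Subgroup C) => ((u.1.1 : C) : G)) hab
      fin_cases a <;> fin_cases b <;> first
        | rfl
        | (simp [f, zc] at hab'
           first
             | exact absurd hab' hzne
             | exact absurd hab'.symm hzne
             | exact absurd hab' hw1
             | exact absurd hab'.symm hw1
             | exact absurd hab' hne'
             | exact absurd hab'.symm hne'
             | simp_all)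
    have := Nat.card_le_card_of_injective f hf
    rw [Nat.card_fin] at this
    omega
  have hgC : (g : G) ∈ C := by
    rw [Subgroup.mem_centralizer_singleton_iff]
    have hw' : (w : G) = (g : G) * z * (g : G)⁻¹ := hw
    rw [hwz] at hw'
    exact (eq_mul_inv_iff_mul_eq.mp hw').symm
  -- T is maximal among 2-subgroups of C
  have hle : (T : Subgroup C) ≤ (P : Subgroup G).comap C.subtype := fun x hx => hP ⟨x, hx, rfl⟩
  have hpc : IsPGroup 2 ((P : Subgroup G).comap C.subtype) := P.isPGroup'.comap_of_injective _ C.subtype_injective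
  have heq := T.3 hpc hle
  have : (⟨(g : G), hgC⟩ : C) ∈ (T : Subgroup C) := by
    rw [← heq]; exact g.2
  exact hgT' ⟨_, this, rfl⟩

end Cfsg.Agent.S1717
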