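import Cfsg.Statements.S1719
import Cfsg.Agent.Lib.SuzUnique.Gens
import Cfsg.Agent.Lib.SuzUnique.Finish
-- import your own Cfsg.Agent.* helpers here

set_option autoImplicit false
open Cfsg

namespace Cfsg.Agent.S1719

/-- Uniqueness of the sporadic Suzuki group under the large-extraspecial hypothesis: let G be a finite group with an involution z whose centraliser C has generalised Fitting subgroup Q extraspecial of order 2 ^ 7, with C / Q isomorphic to Ω⁻(6, 2) (the commutator subgroup of the isometry group of the elliptic quadratic form x₁y₁ + x₂y₂ + z₁² + z₁z₂ + z₂² over the field with 2 elements), and suppose some conjugate of z different from z lies in Q. Then G is isomorphic to the presented sporadic Suzuki group. -/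
theorem result {G : Type*} [Group G] [Finite G] (z : G) (hz : orderOf z = 2) (Q : Subgroup (Subgroup.centralizer ({z} : Set G))) [Q.Normal] (hF : Cfsg.generalizedFittingSubgroup (Subgroup.centralizer ({z} : Set G)) = Q) (hQ : Cfsg.IsExtraspecial 2 Q) (hcard : Nat.card Q = 2 ^ 7) (e : (Subgroup.centralizer ({z} : Set G)) ⧸ Q ≃* Cfsg.Omega (ZMod 2) (Cfsg.quadFormMinus 2 (ZMod 2) 1 1)) (hnwc : ∃ g : G, (∃ hq : g * z * g⁻¹ ∈ Subgroup.centralizer ({z} : Set G), (⟨g * z * g⁻¹, hq⟩ : Subgroup.centralizer ({z} : Set G)) ∈ Q) ∧ g * z * g⁻¹ ≠ z) : Cfsg.Spor.IsoSuz G := by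
  obtain ⟨W⟩ := Cfsg.Agent.SuzType.exists_fu z hz Q hF hQ hcard e hnwc
  obtain ⟨⟨σ⟩, h315, hconj⟩ := Cfsg.Agent.SuzUnique.plane_iso W
  obtain ⟨a, b, c, d, u, f, g, ha1, ha, hb, hc, hd, hu, hf, hg, hac, had, hau, haf, hag, hbd, hbu, hcu,
      hcf, hcg, hdf, hdg, huf, hug, hab, hbc, hdu, hbf, hbg, hcd, hfg, h5, h5', hlast⟩ :=
    Cfsg.Agent.SuzUnique.exists_gens W σ h315 hconj
      (fun hs h7 h1 H hH => Cfsg.Agent.SuzUnique.no_sixty_seven W hs h7 h1 H hH)
  exact Cfsg.Agent.SuzUnique.iso_of_gens W.card_G ha1 ha hb hc hd hu hf hg hac had hau haf hag hbd hbu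
    hcu hcf hcg hdf hdg huf hug hab hbc hdu hbf hbg hcd hfg h5 h5' hlast

end Cfsg.Agent.S1719
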