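import Cfsg.Statements.S1722
import Cfsg.Agent.Lib.JTwoType.FiveNorm
-- import your own Cfsg.Agent.* helpers here

set_option autoImplicit false
open Cfsg

namespace Cfsg.Agent.S1722

/-- Sylow 5-structure of a group of Hall–Janko type (large-extraspecial hypothesis with Q of order 32, quotient Ω⁻(4, 2), z not weakly closed in Q, more than one class of involutions): a Sylow 5-subgroup P is its own centraliser, has order 25, its normaliser has order 300, and the subgroups of order 5 fall into exactly two conjugacy classes. -/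
theorem result {G : Type*} [Group G] [Finite G] (z : G) (hz : orderOf z = 2) (Q : Subgroup (Subgroup.centralizer ({z} : Set G))) [Q.Normal] (hF : Cfsg.generalizedFittingSubgroup (Subgroup.centralizer ({z} : Set G)) = Q) (hQ : Cfsg.IsExtraspecial 2 Q) (hcard : Nat.card Q = 2 ^ 5) (e : (Subgroup.centralizer ({z} : Set G)) ⧸ Q ≃* Cfsg.Omega (ZMod 2) (Cfsg.quadFormMinus 1 (ZMod 2) 1 1)) (hnwc : ∃ g : G, (∃ hq : g * z * g⁻¹ ∈ Subgroup.centralizer ({z} : Set G), (⟨g * z * g⁻¹, hq⟩ : Subgroup.centralizer ({z} : Set G)) ∈ Q) ∧ g * z * g⁻¹ ≠ z) (hcl : ∃ x y : G, orderOf x = 2 ∧ orderOf y = 2 ∧ ¬ IsConj x y) (P : Sylow 5 G) : Subgroup.centralizer ((P : Subgroup G) : Set G) = P ∧ Nat.card P = 25 ∧ Nat.card (Subgroup.normalizer ((P : Subgroup G) : Set G)) = 300 ∧ ∃ X Y : Subgroup G, Nat.card X = 5 ∧ Nat.card Y = 5 ∧ (∀ g : G, X.map (MulAut.conj g).toMonoidHom ≠ Y) ∧ ∀ W : Subgroup G, Nat.card W = 5 → ∃ g : G, W.map (MulAut.conj g).toMonoidHom = X ∨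 W.map (MulAut.conj g).toMonoidHom = Y := by
  classical
  obtain ⟨D, -⟩ := JTwoType.exists_data z hz Q hF hQ hcard e hnwc hcl
  obtain ⟨hN, x, c, hx, hc, -, -, hsep, hall⟩ := D.sylow5_struct P
  refine ⟨D.sylow5_self P, D.sylow5_card P, hN, Subgroup.zpowers x, Subgroup.zpowers c,
    (Nat.card_zpowers x).trans hx, (Nat.card_zpowers c).trans hc,
    fun g h => hsep g ((MonoidHom.map_zpowers (MulAut.conj g).toMonoidHom x).symm.trans h), fun W hW => ?_⟩
  haveI : Fact (Nat.Prime 5) := ⟨Nat.prime_five⟩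
  obtain ⟨⟨y, hy⟩, hy5⟩ := exists_prime_orderOf_dvd_card' (G := W) 5 (by rw [hW])
  rw [Subgroup.orderOf_mk] at hy5
  have hWy : Subgroup.zpowers y = W := Subgroup.eq_of_le_of_card_ge (Subgroup.zpowers_le.2 hy)
    (by rw [Nat.card_zpowers, hy5, hW])
  obtain ⟨g, hg⟩ := hall y hy5
  refine ⟨g, ?_⟩
  rw [← hWy, MonoidHom.map_zpowers]
  exact hg

end Cfsg.Agent.S1722
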