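import Cfsg.Statements.S1725
import Cfsg.Agent.EqLemmas
import Cfsg.Agent.Lib.SuzType.ThreeNorm

set_option autoImplicit false
open Cfsg Cfsg.Agent.SuzType
open scoped commutatorElement

namespace Cfsg.Agent.S1725

/-- A 3-local step in the uniqueness proof for the sporadic Suzuki group: let G satisfy the large-extraspecial hypothesis with Q of order 2 ^ 7, quotient Ω⁻(6, 2) and z not weakly closed in Q, and let X be a subgroup of order 3 of the centraliser C of z with the commutator subgroup of Q and X of order 8 and non-abelian (a quaternion group). Then for any Sylow 3-subgroup P of the normaliser of X in G, P is a Sylow 3-subgroup of G (its index in G is prime to 3), and P contains an elementary abelian subgroup A of order 3 ^ 5 with C_G(A) = A and N_G(A) / A isomorphic to the Mathieu group M₁₁. -/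
theorem result {G : Type*} [Group G] [Finite G] (z : G) (hz : orderOf z = 2) (Q : Subgroup (Subgroup.centralizer ({z} : Set G))) [Q.Normal] (hF : Cfsg.generalizedFittingSubgroup (Subgroup.centralizer ({z} : Set G)) = Q) (hQ : Cfsg.IsExtraspecial 2 Q) (hcard : Nat.card Q = 2 ^ 7) (e : (Subgroup.centralizer ({z} : Set G)) ⧸ Q ≃* Cfsg.Omega (ZMod 2) (Cfsg.quadFormMinus 2 (ZMod 2) 1 1)) (hnwc : ∃ g : G, (∃ hq : g * z * g⁻¹ ∈ Subgroup.centralizer ({z} : Set G), (⟨g * z * g⁻¹, hq⟩ : Subgroup.centralizer ({z} : Set G)) ∈ Q) ∧ g * z * g⁻¹ ≠ z) (X : Subgroup (Subgroup.centralizer ({z} : Set G))) (hX : Nat.card X = 3) (hQX : Nat.card ↥⁅Q, X⁆ = 8) (hQXna : ¬ IsMulCommutative ↥⁅Q, X⁆) (P : Sylow 3 ↥(Subgroup.normalizer ((X.map (Subgroup.subtype (Subgroup.centralizer ({z} : Set G))) : Subgroup G) : Set G))) : ¬ 3 ∣ (((P : Subgroup ↥(Subgroup.normalizer ((X.map (Subgroup.subtype (Subgroup.centralizer ({z} : Set G))) : Subgroup G) : Set G))).map (Subgroup.subtype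 (Subgroup.normalizer ((X.map (Subgroup.subtype (Subgroup.centralizer ({z} : Set G))) : Subgroup G) : Set G)))).index) ∧ ∃ A : Subgroup G, A ≤ (P : Subgroup ↥(Subgroup.normalizer ((X.map (Subgroup.subtype (Subgroup.centralizer ({z} : Set G))) : Subgroup G) : Set G))).map (Subgroup.subtype (Subgroup.normalizer ((X.map (Subgroup.subtype (Subgroup.centralizer ({z} : Set G))) : Subgroup G) : Set G))) ∧ Cfsg.IsElementaryAbelian 3 A ∧ Nat.card A = 3 ^ 5 ∧ Subgroup.centralizer (A : Set G) = A ∧ ∃ _ : (A.subgroupOf (Subgroup.normalizer (A : Set G))).Normal, Cfsg.Spor.IsoM11 (↥(Subgroup.normalizer (A : Set G)) ⧸ A.subgroupOf (Subgroup.normalizer (A : Set G))) := by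
  classical
  haveI : Fact (Nat.Prime 3) := ⟨Nat.prime_three⟩
  obtain ⟨T, hT, hTQ⟩ := exists_co_radical z hz Q hF hQ hcard e hnwc
  obtain ⟨T', hT', hT'Q, h0, hv, hcv⟩ := T.exists_normalised
  obtain ⟨u, hu⟩ := (⟨T', h0, hv, hcv⟩ : Fr G).exists_typB
  obtain ⟨W, hWz, hWQ⟩ : ∃ W : Fu G, W.F.z = z ∧ W.F.Q = Q.map (Subgroup.centralizer ({z} : Set G)).subtype :=
    ⟨⟨⟨T', h0, hv, hcv⟩, u, hu⟩, hT'.trans hT, hT'Q.trans hTQ⟩
  set F := W.F
  have hQs : Q.map (Subgroup.centralizer ({z} : Set G)).subtype = F.Q := hWQ.symm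
  haveI : Fact (Nat.Prime 2) := ⟨Nat.prime_two⟩
  -- a generator of `X`
  obtain ⟨x, hx⟩ := exists_prime_orderOf_dvd_card' (G := X) 3 (by rw [hX])
  have hxz : ((x : ↥(Subgroup.centralizer ({z} : Set G))) : G) * F.z = F.z * ((x : ↥(Subgroup.centralizer ({z} : Set G))) : G) := by
    rw [hWz]; exact Subgroup.mem_centralizer_singleton_iff.1 (x : ↥(Subgroup.centralizer ({z} : Set G))).2
  have hx3 : ((x : ↥(Subgroup.centralizer ({z} : Set G))) : G) ^ 3 = 1 := by
    rw [← hx, ← Subgroup.orderOf_coe, ← Subgroup.orderOf_coe, pow_orderOf_eq_one]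
  have hx1 : ((x : ↥(Subgroup.centralizer ({z} : Set G))) : G) ≠ 1 := fun h => by
    rw [orderOf_eq_one_iff.2 (Subtype.ext (Subtype.ext h))] at hx; omega
  have hXz : (X.map (Subgroup.centralizer ({z} : Set G)).subtype) = Subgroup.zpowers ((x : ↥(Subgroup.centralizer ({z} : Set G))) : G) := by
    refine (Subgroup.eq_of_le_of_card_ge (H := Subgroup.zpowers ((x : ↥(Subgroup.centralizer ({z} : Set G))) : G))
      (K := X.map (Subgroup.centralizer ({z} : Set G)).subtype) (Subgroup.zpowers_le.2 ⟨(x : ↥(Subgroup.centralizer ({z} : Set G))), x.2, rfl⟩) ?_).symm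
    rw [Subgroup.card_map_of_injective (Subgroup.centralizer ({z} : Set G)).subtype_injective, hX, Nat.card_zpowers,
      Subgroup.orderOf_coe, Subgroup.orderOf_coe, hx]
  obtain ⟨g, hg, hgT, hgρ⟩ := F.exists_conj hxz hx3 hx1 ((⁅Q, X⁆ : Subgroup ↥(Subgroup.centralizer ({z} : Set G))).map (Subgroup.centralizer ({z} : Set G)).subtype) (by
      rw [← hQs]
      exact Subgroup.map_mono (Subgroup.commutator_le_left Q X)) (fun q hq => by
      rw [← hQs] at hq
      obtain ⟨q', hq', rfl⟩ := hq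
      exact ⟨⁅q', (x : ↥(Subgroup.centralizer ({z} : Set G)))⁆, Subgroup.commutator_mem_commutator hq' x.2, rfl⟩)
    (by rw [Subgroup.card_map_of_injective (Subgroup.centralizer ({z} : Set G)).subtype_injective, hQX]) (by
      by_contra! hall
      refine hQXna ⟨⟨fun a b => ?_⟩⟩
      exact Subtype.ext (Subtype.ext (hall _ ⟨a, a.2, rfl⟩ _ ⟨b, b.2, rfl⟩)))
  obtain ⟨L, hxT⟩ := F.exists_loc hgT (by rw [conj_pow, hx3]; group)
  -- the line
  have hline : g * ((x : ↥(Subgroup.centralizer ({z} : Set G))) : G) * g⁻¹ = L.D.el (sgl 0) * L.D.el (sgl 0) := by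
    rw [L.D.el_mul]
    exact L.D.eq_el hxT (hgρ.trans (congrArg tor (by decide +kernel)))
  have hX0 : (X.map (Subgroup.centralizer ({z} : Set G)).subtype).map (MulAut.conj g).toMonoidHom = L.X0 := by
    refine Subgroup.eq_of_le_of_card_ge ?_ ?_
    · rw [hXz, MonoidHom.map_zpowers, Subgroup.zpowers_le]
      show g * ((x : ↥(Subgroup.centralizer ({z} : Set G))) : G) * g⁻¹ ∈ _
      rw [hline]
      exact mul_mem (Subgroup.mem_zpowers _) (Subgroup.mem_zpowers _)
    · rw [Loc.X0, Nat.card_zpowers, L.orderOf_el0, Subgroup.card_map_of_injective (MulAut.conj g).injective,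
        Subgroup.card_map_of_injective (Subgroup.centralizer ({z} : Set G)).subtype_injective, hX]
  obtain ⟨P0, hP0X, hAP0, hP0c⟩ := L.exists_sylow
  set P1 := P0.map (MulAut.conj g⁻¹).toMonoidHom with hP1
  have hP1X : P1 ≤ (Subgroup.normalizer ((X.map (Subgroup.centralizer ({z} : Set G)).subtype : Subgroup G) : Set G)) := by
    rintro _ ⟨p, hp, rfl⟩
    have hp' := hP0X hp
    rw [← hX0] at hp'
    refine Subgroup.mem_normalizer_fintype fun y hy => ?_
    obtain ⟨y', hy', e'⟩ := (Subgroup.mem_normalizer_iff.1 hp' _).1 ⟨y, hy, rfl⟩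
    have e2 : g * y' * g⁻¹ = p * (g * y * g⁻¹) * p⁻¹ := e'
    show MulAut.conj g⁻¹ p * y * (MulAut.conj g⁻¹ p)⁻¹ ∈ (X.map (Subgroup.centralizer ({z} : Set G)).subtype)
    have : MulAut.conj g⁻¹ p * y * (MulAut.conj g⁻¹ p)⁻¹ = y' := by
      rw [MulAut.conj_apply]
      calc g⁻¹ * p * g⁻¹⁻¹ * y * (g⁻¹ * p * g⁻¹⁻¹)⁻¹ = g⁻¹ * (p * (g * y * g⁻¹) * p⁻¹) * g := by group
        _ = y' := by rw [← e2]; group
    rwa [this]
  have hP1c : Nat.card P1 = 3 ^ 7 := by
    rw [hP1, Subgroup.card_map_of_injective (MulAut.conj g⁻¹).injective, hP0c]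
  have hfG : (Nat.card G).factorization 3 = 7 := by
    rw [W.card_G, show (448345497600 : ℕ) = 3 ^ 7 * (2 ^ 13 * 25025) by norm_num,
      Nat.factorization_mul (by norm_num) (by norm_num), Finsupp.add_apply,
      Nat.Prime.factorization_pow Nat.prime_three, Finsupp.single_eq_same,
      Nat.factorization_eq_zero_of_not_dvd (by norm_num), add_zero]
  have hfN : 3 ^ (Nat.card (Subgroup.normalizer ((X.map (Subgroup.centralizer ({z} : Set G)).subtype : Subgroup G) : Set G))).factorization 3 = 3 ^ 7 := by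
    congr 1
    refine le_antisymm ?_ ?_
    · rw [← hfG]
      exact (Nat.factorization_le_iff_dvd Nat.card_pos.ne' Nat.card_pos.ne').2 (Subgroup.normalizer ((X.map (Subgroup.centralizer ({z} : Set G)).subtype : Subgroup G) : Set G)).card_subgroup_dvd_card 3
    · exact (Nat.Prime.pow_dvd_iff_le_factorization Nat.prime_three Nat.card_pos.ne').1
        (hP1c ▸ Subgroup.card_dvd_of_le hP1X)
  obtain ⟨w, hw⟩ := MulAction.exists_smul_eq (Subgroup.normalizer ((X.map (Subgroup.centralizer ({z} : Set G)).subtype : Subgroup G) : Set G)) (Sylow.ofCard (P1.subgroupOf (Subgroup.normalizer ((X.map (Subgroup.centralizer ({z} : Set G)).subtype : Subgroup G) : Set G))) (by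
    rw [Nat.card_congr (Subgroup.subgroupOfEquivOfLe hP1X).toEquiv, hP1c, hfN])) P
  set PG := ((P : Subgroup (Subgroup.normalizer ((X.map (Subgroup.centralizer ({z} : Set G)).subtype : Subgroup G) : Set G))).map (Subgroup.normalizer ((X.map (Subgroup.centralizer ({z} : Set G)).subtype : Subgroup G) : Set G)).subtype) with hPG
  set k : G := (w : G) * g⁻¹ with hk
  have hPeq : P0.map (MulAut.conj k).toMonoidHom = PG := by
    rw [hPG, ← hw]
    ext y
    constructor
    · rintro ⟨p, hp, rfl⟩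
      refine ⟨w * ⟨MulAut.conj g⁻¹ p, hP1X ⟨p, hp, rfl⟩⟩ * w⁻¹,
        ⟨⟨_, hP1X ⟨p, hp, rfl⟩⟩, ⟨p, hp, rfl⟩, rfl⟩, ?_⟩
      show (w : G) * (g⁻¹ * p * g⁻¹⁻¹) * (w : G)⁻¹ = (w : G) * g⁻¹ * p * ((w : G) * g⁻¹)⁻¹
      group
    · rintro ⟨_, ⟨⟨q, hq⟩, ⟨p, hp, hpq⟩, rfl⟩, rfl⟩
      refine ⟨p, hp, ?_⟩
      have hpq' : MulAut.conj g⁻¹ p = q := hpq
      subst hpq'
      show (w : G) * g⁻¹ * p * ((w : G) * g⁻¹)⁻¹ = (w : G) * (g⁻¹ * p * g⁻¹⁻¹) * (w : G)⁻¹
      group
  refine ⟨?_, L.A.map (MulAut.conj k).toMonoidHom, hPeq ▸ Subgroup.map_mono hAP0, ⟨⟨⟨?_⟩⟩, ?_⟩, ?_, ?_, ?_⟩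
  · intro hd
    have h := PG.card_mul_index
    have h7 : Nat.card PG = 3 ^ 7 := by
      rw [← hPeq, Subgroup.card_map_of_injective (MulAut.conj k).injective, hP0c]
    rw [h7, W.card_G] at h
    obtain ⟨m, hm⟩ := hd
    have hm' : (3 : ℕ) ^ 8 * m = 448345497600 := by
      rw [← h, show PG.index = 3 * m from hm]; ring
    have : (3 : ℕ) ^ 8 ∣ 448345497600 := Dvd.intro m hm'
    norm_num at this
  · rintro ⟨_, a, ha, rfl⟩ ⟨_, b, hb, rfl⟩
    refine Subtype.ext ?_
    show MulAut.conj k a * MulAut.conj k b = MulAut.conj k b * MulAut.conj k a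
    rw [← map_mul, ← map_mul, L.A_comm ha hb]
  · rintro _ ⟨a, ha, rfl⟩
    rw [← map_pow, L.A_cube ha, map_one]
  · rw [Subgroup.card_map_of_injective (MulAut.conj k).injective, L.card_A]; rfl
  · rw [← map_cent, L.cent_A]
  · haveI hn : ((L.A.map (MulAut.conj k).toMonoidHom).subgroupOf
      (Subgroup.normalizer ((L.A.map (MulAut.conj k).toMonoidHom : Subgroup G) : Set G))).Normal :=
      Subgroup.normal_in_normalizer
    refine ⟨hn, ?_⟩
    obtain ⟨e11⟩ := L.m11_data.1
    have hN : L.NA.map (MulAut.conj k).toMonoidHom =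
        Subgroup.normalizer ((L.A.map (MulAut.conj k).toMonoidHom : Subgroup G) : Set G) :=
      Subgroup.map_equiv_normalizer_eq _ _
    let eN := (L.NA.equivMapOfInjective _ (MulAut.conj k).injective).trans (MulEquiv.subgroupCongr hN)
    have hmap : (L.A.subgroupOf L.NA).map eN.toMonoidHom =
        (L.A.map (MulAut.conj k).toMonoidHom).subgroupOf
          (Subgroup.normalizer ((L.A.map (MulAut.conj k).toMonoidHom : Subgroup G) : Set G)) := by
      ext y
      constructor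
      · rintro ⟨a, ha, rfl⟩; exact ⟨a, ha, rfl⟩
      · rintro ⟨a, ha, hay⟩
        exact ⟨⟨a, L.A_le_NA ha⟩, ha, Subtype.ext hay⟩
    exact ⟨(QuotientGroup.congr _ _ eN hmap).symm.trans e11⟩

end Cfsg.Agent.S1725
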