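import Cfsg.Statements.S1743
import Cfsg.Agent.Lib.G2TypeFusion.Fusion
import Cfsg.Agent.Lib.G2TypeFusion.Sylow
import Cfsg.Agent.EqLemmas

set_option autoImplicit false
open Cfsg

namespace Cfsg.Agent.S1743

/-- Let G be a finite simple group whose Sylow 2-subgroups are isomorphic to a Sylow 2-subgroup of the Chevalley group of type G₂ over a finite field of odd order, and let S be a Sylow 2-subgroup of G. Then either all involutions of G are conjugate, or S has order 64 and the involutions of G form exactly two conjugacy classes. -/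
theorem result {G : Type*} [Group G] [Finite G] [IsSimpleGroup G]
    {F : Type*} [Field F] [Fintype F] (hF : Odd (Fintype.card F)) (S : Sylow 2 G) (P : Sylow 2 ↥(Cfsg.Lie.chevG2.group F))
    (hS : Nonempty (↥(S : Subgroup G) ≃* ↥(P : Subgroup ↥(Cfsg.Lie.chevG2.group F)))) :
    (∀ x y : G, orderOf x = 2 → orderOf y = 2 → IsConj x y) ∨
      (Nat.card ↥(S : Subgroup G) = 64 ∧ ∃ x y : G, orderOf x = 2 ∧ orderOf y = 2 ∧ ¬ IsConj x y ∧
        ∀ z : G, orderOf z = 2 → IsConj z x ∨ IsConj z y) := by
  by_cases hG : IsMulCommutative G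
  · refine Or.inl fun x y hx hy => ?_
    have hn : (Subgroup.zpowers x).Normal := ⟨fun a ha g => by
      rw [mul_comm' g a, mul_inv_cancel_right]
      exact ha⟩
    rcases hn.eq_bot_or_eq_top with h | h
    · rw [Subgroup.zpowers_eq_bot.1 h, orderOf_one] at hx
      exact absurd hx (by norm_num)
    · classical
      have hy' : y ∈ Subgroup.zpowers x := h ▸ Subgroup.mem_top y
      obtain ⟨k, hk, rfl⟩ := Finset.mem_image.1 ((mem_zpowers_iff_mem_range_orderOf (x := x)).1 hy')
      rw [Finset.mem_range, hx] at hk
      interval_cases k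
      · rw [pow_zero, orderOf_one] at hy
        exact absurd hy (by norm_num)
      · rw [pow_one]
  · obtain ⟨K, n, ⟨D⟩, ⟨e⟩⟩ := G2TypeFusion.exists_gens_G2 hF P
    obtain ⟨e'⟩ := hS
    let f : ↥K →* G := (S : Subgroup G).subtype.comp (e.trans e'.symm).toMonoidHom
    refine G2TypeFusion.Gens.main hG (D.map f (S : Subgroup G) ?_ ?_)
    · rw [← MonoidHom.range_eq_map, MonoidHom.range_comp, MonoidHom.range_eq_top.2 (e.trans e'.symm).surjective,
        ← MonoidHom.range_eq_map, Subgroup.range_subtype]
    · exact Subtype.val_injective.comp (e.trans e'.symm).injective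

end Cfsg.Agent.S1743
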