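import Cfsg.Statements.S1753
import Cfsg.Agent.EqLemmas

set_option autoImplicit false
universe u
open Cfsg

namespace Cfsg.Agent.S1753

/-- Let K be any property of groups. (1) If G is a minimal counterexample relative to K — a finite non-abelian simple group not satisfying K such that every finite non-abelian simple group of smaller order satisfies K — then every proper subgroup of G is a K-group (all its non-abelian simple sections satisfy K), since such sections have smaller order than G. (2) Consequently (induction on the order), if every finite non-abelian simple group all of whose proper subgroups are K-groups satisfies K, then every finite non-abelian simple group satisfies K. -/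
theorem result (K : ∀ (X : Type u) [Group X], Prop) :
    (∀ (G : Type u) [Group G], Cfsg.IsMinCounterexampleWith K G → Cfsg.IsKProperWith K G) ∧
      ((∀ (X : Type u) [Group X] [Finite X], IsSimpleGroup X → ¬ IsMulCommutative X → Cfsg.IsKProperWith K X → K X) →
        ∀ (G : Type u) [Group G] [Finite G], IsSimpleGroup G → ¬ IsMulCommutative G → K G) := by
  refine ⟨fun G _ hG => ?_, fun h G _ _ hs hn => ?_⟩
  · obtain ⟨hfin, _, _, _, hmin⟩ := hG
    intro H hH H' N _ hs hn
    refine hmin _ hs hn ?_
    have h1 : Nat.card (↥H' ⧸ N) ≤ Nat.card ↥H' := Nat.card_le_card_of_surjective _ (QuotientGroup.mk'_surjective N)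
    have h2 : Nat.card ↥H' ≤ Nat.card ↥H := Nat.card_le_card_of_injective _ Subtype.val_injective
    have h3 : Nat.card ↥H < Nat.card G := by
      have : H.index ≠ 1 := fun e => hH (Subgroup.index_eq_one.1 e)
      have h0 : H.index ≠ 0 := Subgroup.index_ne_zero_of_finite
      have := Subgroup.card_mul_index H
      have hp : 0 < Nat.card ↥H := Nat.card_pos
      nlinarith [Nat.two_le_iff H.index |>.2 ⟨h0, ‹H.index ≠ 1›⟩]
    omega
  · suffices H : ∀ (n : ℕ) (X : Type u) [Group X] [Finite X], IsSimpleGroup X →
        ¬ IsMulCommutative X → Nat.card X = n → K X from H _ G hs hn rfl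
    intro n
    induction n using Nat.strong_induction_on with
    | _ n ih =>
      intro X _ _ hs hn hX
      refine h X hs hn fun H hH H' N _ hs' hn' => ih (Nat.card (↥H' ⧸ N)) ?_ _ hs' hn' rfl
      have h1 : Nat.card (↥H' ⧸ N) ≤ Nat.card ↥H' := Nat.card_le_card_of_surjective _ (QuotientGroup.mk'_surjective N)
      have h2 : Nat.card ↥H' ≤ Nat.card ↥H := Nat.card_le_card_of_injective _ Subtype.val_injective
      have h0 : H.index ≠ 0 := Subgroup.index_ne_zero_of_finite
      have h4 : H.index ≠ 1 := fun e => hH (Subgroup.index_eq_one.1 e)
      have := Subgroup.card_mul_index H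
      have hp : 0 < Nat.card ↥H := Nat.card_pos
      nlinarith [(Nat.two_le_iff H.index).2 ⟨h0, h4⟩]


end Cfsg.Agent.S1753
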