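import Cfsg.Statements.S1754
import Cfsg.Agent.Lib.Components.Quasisimple

set_option autoImplicit false
open Cfsg

namespace Cfsg.Agent.S1754

/-- Let A be a standard subgroup of the finite group G (A quasisimple, C_G(A) tightly embedded of even order, A commuting elementwise with no other conjugate of itself, and N_G(A) = N_G(C_G(A))), and let t be an involution of G centralizing A. Then the centralizer of t lies in the normalizer of A; in particular A, viewed inside C_G(t), is a component of C_G(t). -/
theorem result {G : Type*} [Group G] [Finite G]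
    (A : Subgroup G) (hA : Cfsg.IsStandardSubgroup A) (t : G) (ht : orderOf t = 2) (htA : t ∈ Subgroup.centralizer (A : Set G)) :
    Subgroup.centralizer ({t} : Set G) ≤ Subgroup.normalizer (A : Set G) ∧
      Cfsg.IsComponent (A.subgroupOf (Subgroup.centralizer ({t} : Set G))) := by
  obtain ⟨hq, ⟨_, htight⟩, _, hNN⟩ := hA
  set C := Subgroup.centralizer (A : Set G) with hC
  have key : Subgroup.centralizer ({t} : Set G) ≤ Subgroup.normalizer (A : Set G) := by
    intro g hg
    rw [hNN]
    by_contra hgn
    have hodd := htight g hgn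
    have htg : g * t * g⁻¹ = t := by
      rw [Subgroup.mem_centralizer_singleton_iff.1 hg, mul_inv_cancel_right]
    have hmem : t ∈ C ⊓ C.map (MulAut.conj g).toMonoidHom :=
      ⟨htA, ⟨t, htA, by simpa using htg⟩⟩
    have hdvd := orderOf_dvd_natCard (⟨t, hmem⟩ : ↥(C ⊓ C.map (MulAut.conj g).toMonoidHom))
    rw [Subgroup.orderOf_mk, ht] at hdvd
    exact Nat.not_even_iff_odd.2 hodd (even_iff_two_dvd.2 hdvd)
  refine ⟨key, ?_, ?_⟩
  · haveI : (A.subgroupOf (Subgroup.centralizer ({t} : Set G))).Normal :=
      Subgroup.normal_subgroupOf_of_le_normalizer key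
    exact Subgroup.Normal.isSubnormal inferInstance
  · have hle : A ≤ Subgroup.centralizer ({t} : Set G) := fun a ha =>
      Subgroup.mem_centralizer_singleton_iff.2 (htA a ha)
    exact (Cfsg.Agent.Components.isQuasisimple_congr (Subgroup.subgroupOfEquivOfLe hle)).2 hq


end Cfsg.Agent.S1754
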