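import Cfsg.Statements.S1755
import Cfsg.Agent.Lib.Symplectic.Basic

set_option autoImplicit false
open Cfsg

namespace Cfsg.Agent.S1755

theorem aux {G : Type*} [Group G] [Finite G] (z : G) (hz : orderOf z = 2)
    (F : Subgroup ↥(Subgroup.centralizer ({z} : Set G))) (hFn : F.Normal)
    (hzF : (⟨z, Subgroup.mem_centralizer_singleton_iff.2 rfl⟩ : ↥(Subgroup.centralizer ({z} : Set G))) ∈ F)
    (hQ : Cfsg.IsOfSymplecticType ↥F) (B : Subgroup ↥F) (hBc : B.Characteristic) (hBa : IsMulCommutative ↥B)
    (g : G) (B' : Subgroup G) (hB' : B' = (B.map F.subtype).map (Subgroup.centralizer ({z} : Set G)).subtype) :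
    B'.map (MulAut.conj g).toMonoidHom = B' ∨ B'.map (MulAut.conj g).toMonoidHom ⊓ B' = ⊥ := by
  subst hB'
  set B' := (B.map F.subtype).map (Subgroup.centralizer ({z} : Set G)).subtype with hB'
  rw [or_iff_not_imp_right]
  intro hne
  obtain ⟨hQ2, hcyc⟩ := hQ
  haveI hBcyc : IsCyclic ↥B := hcyc B hBc hBa
  haveI := hBc
  have hz1 : z ≠ 1 := fun h => by simp [h] at hz
  have hz2 : z ^ 2 = 1 := by rw [← hz]; exact pow_orderOf_eq_one z
  -- every involution of `B'` is `z`
  have key : ∀ x ∈ B', x ^ 2 = 1 → x ≠ 1 → x = z := by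
    rintro _ ⟨_, ⟨b, hb, rfl⟩, rfl⟩ hb2 hb1
    have hb2' : b ^ 2 = 1 := F.subtype_injective ((Subgroup.centralizer ({z} : Set G)).subtype_injective hb2)
    have hb1' : b ≠ 1 := fun h => hb1 (by simp [h])
    have huniq : ∀ y ∈ B, y ^ 2 = 1 → y ≠ 1 → y = b := by
      intro y hy hy2 hy1
      classical
      haveI := Fintype.ofFinite ↥B
      by_contra hne'
      have hsub : ({1, (⟨b, hb⟩ : ↥B), ⟨y, hy⟩} : Finset ↥B) ⊆ ({x : ↥B | x ^ 2 = 1} : Finset ↥B) := by
        intro x hx
        simp only [Finset.mem_insert, Finset.mem_singleton] at hx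
        rw [Finset.mem_filter]
        refine ⟨Finset.mem_univ _, ?_⟩
        rcases hx with rfl | rfl | rfl
        · exact one_pow 2
        · exact Subtype.ext hb2'
        · exact Subtype.ext hy2
      have h3 : ({1, (⟨b, hb⟩ : ↥B), ⟨y, hy⟩} : Finset ↥B).card = 3 := by
        rw [Finset.card_insert_of_notMem, Finset.card_pair]
        · exact fun h => hne' (congrArg Subtype.val h).symm
        · rw [Finset.mem_insert, Finset.mem_singleton, not_or]
          exact ⟨fun h => hb1' (congrArg Subtype.val h).symm, fun h => hy1 (congrArg Subtype.val h).symm⟩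
      have := Finset.card_le_card hsub
      have := IsCyclic.card_pow_eq_one_le (α := ↥B) (n := 2) (by norm_num)
      omega
    have hbc : b ∈ Subgroup.center ↥F := by
      refine Subgroup.mem_center_iff.2 fun q => ?_
      have e := huniq (q * b * q⁻¹) ((inferInstance : B.Normal).conj_mem b hb q)
        (by rw [conj_pow, hb2', mul_one, mul_inv_cancel]) (by rw [ne_eq, conj_eq_one_iff]; exact hb1')
      exact mul_inv_eq_iff_eq_mul.1 e
    have hzc : (⟨_, hzF⟩ : ↥F) ∈ Subgroup.center ↥F := Subgroup.mem_center_iff.2 fun q =>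
      Subtype.ext (Subgroup.mem_center_iff.1 (Cfsg.Agent.Symplectic.self_mem_center z) q.1)
    exact congrArg (fun x : ↥F => (x : G)) (Cfsg.Agent.Symplectic.eq_of_sq_eq_one ⟨hQ2, hcyc⟩ hbc hzc
      hb2' (Subtype.ext (Subtype.ext hz2)) hb1' (fun h => hz1 (congrArg (fun x : ↥F => (x : G)) h)))
  -- an involution common to `B'` and its conjugate is `z`, which is therefore fixed by `g`
  have hg : g ∈ Subgroup.centralizer ({z} : Set G) := by
    set I := B'.map (MulAut.conj g).toMonoidHom ⊓ B' with hI
    haveI := Fact.mk Nat.prime_two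
    have hI2 : IsPGroup 2 ↥I := (((hQ2.to_subgroup B).map _).map _).to_le inf_le_right
    haveI : Nontrivial ↥I := (Subgroup.nontrivial_iff_ne_bot I).2 hne
    obtain ⟨n, hn, hn'⟩ := hI2.nontrivial_iff_card.1 inferInstance
    obtain ⟨⟨i, hi1, hi2⟩, hio⟩ := exists_prime_orderOf_dvd_card' (G := ↥I) (p := 2)
      (by rw [hn']; exact dvd_pow_self 2 hn.ne')
    rw [← Subgroup.orderOf_coe] at hio
    have hi2' : i ^ 2 = 1 := by rw [← hio]; exact pow_orderOf_eq_one i
    have hine : i ≠ 1 := fun h => by simp [h] at hio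
    have e1 := key i hi2 hi2' hine
    obtain ⟨b, hb, rfl⟩ := hi1
    have hb2 : b ^ 2 = 1 := (MulAut.conj g).injective (by rw [map_pow, map_one]; exact hi2')
    have hb1 : b ≠ 1 := fun h => hine (by simp [h])
    rw [key b hb hb2 hb1] at e1
    exact Subgroup.mem_centralizer_singleton_iff.2 (mul_inv_eq_iff_eq_mul.1 e1)
  refine Subgroup.mem_normalizer_iff_map_conj_eq.1 ?_
  haveI := hFn
  have h1 : (⟨g, hg⟩ : ↥(Subgroup.centralizer ({z} : Set G))) ∈ Subgroup.normalizer ((B.map F.subtype : Subgroup ↥(Subgroup.centralizer ({z} : Set G))) : Set ↥(Subgroup.centralizer ({z} : Set G))) :=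
    Cfsg.Agent.Cores.normalizer_le_normalizer_map B
      (Subgroup.normalizer_eq_top F ▸ Subgroup.mem_top _)
  exact Subgroup.le_normalizer_map (Subgroup.centralizer ({z} : Set G)).subtype ⟨_, h1, rfl⟩


/-- Let G be a finite group and let z be an involution of G such that Q, the generalized Fitting subgroup of the centralizer C of z, is a 2-group of symplectic type (every characteristic abelian subgroup of Q is cyclic). Let B be a characteristic abelian subgroup of Q, viewed as a subgroup of G. Then for every g in G, the conjugate of B by g either equals B or meets B trivially. -/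
theorem result {G : Type*} [Group G] [Finite G] (z : G) (hz : orderOf z = 2) (hQ : Cfsg.IsOfSymplecticType ↥(Cfsg.generalizedFittingSubgroup ↥(Subgroup.centralizer ({z} : Set G))))
    (B : Subgroup ↥(Cfsg.generalizedFittingSubgroup ↥(Subgroup.centralizer ({z} : Set G)))) (hBc : B.Characteristic) (hBa : IsMulCommutative ↥B) (g : G) :
    ((B.map (Cfsg.generalizedFittingSubgroup ↥(Subgroup.centralizer ({z} : Set G))).subtype).map (Subgroup.centralizer ({z} : Set G)).subtype).map (MulAut.conj g).toMonoidHom =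
        (B.map (Cfsg.generalizedFittingSubgroup ↥(Subgroup.centralizer ({z} : Set G))).subtype).map (Subgroup.centralizer ({z} : Set G)).subtype ∨
      ((B.map (Cfsg.generalizedFittingSubgroup ↥(Subgroup.centralizer ({z} : Set G))).subtype).map (Subgroup.centralizer ({z} : Set G)).subtype).map (MulAut.conj g).toMonoidHom ⊓
        (B.map (Cfsg.generalizedFittingSubgroup ↥(Subgroup.centralizer ({z} : Set G))).subtype).map (Subgroup.centralizer ({z} : Set G)).subtype = ⊥ := by
  exact aux z hz _ (Cfsg.Agent.Symplectic.generalizedFitting_normal _)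
    (Cfsg.Agent.Symplectic.center_le_generalizedFitting _ (Cfsg.Agent.Symplectic.self_mem_center z))
    hQ B hBc hBa g _ rfl

end Cfsg.Agent.S1755
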