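import Cfsg.Statements.S1756
import Cfsg.Agent.S5395

set_option autoImplicit false
open Cfsg

namespace Cfsg.Agent.S1756

/-- Let Q be an extraspecial 2-subgroup of the finite group G (special with centre of order 2) and t an involution of G normalizing Q such that the centralizer of t in Q has index at most 2 in Q. Then t lies in the product of Q with the centralizer of Q. -/
theorem result {G : Type*} [Group G] [Finite G] (Q : Subgroup G)
    (hQ : Cfsg.IsExtraspecial 2 ↥Q) (t : G) (ht : orderOf t = 2) (htN : t ∈ Subgroup.normalizer (Q : Set G))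
    (hi : (Subgroup.centralizer ({t} : Set G) ⊓ Q).relIndex Q ≤ 2) :
    t ∈ Q ⊔ Subgroup.centralizer (Q : Set G) := by
  set φ : MulAut ↥Q := Subgroup.normalizerMonoidHom Q ⟨t, htN⟩ with hφdef
  have hφ : ∀ q : ↥Q, (φ q : G) = t * q * t⁻¹ := fun q => rfl
  have ht1 : t * t = 1 := by rw [← pow_two, ← ht]; exact pow_orderOf_eq_one t
  have hφφ : ∀ q, φ (φ q) = q := by
    intro q
    apply Subtype.ext
    rw [hφ, hφ]
    calc t * (t * q * t⁻¹) * t⁻¹ = (t * t) * q * (t * t)⁻¹ := by group
      _ = q := by rw [ht1, one_mul, inv_one, mul_one]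
  set U := (Subgroup.centralizer ({t} : Set G) ⊓ Q).subgroupOf Q with hUdef
  have hU : ∀ q : ↥Q, q ∈ U ↔ φ q = q := by
    intro q
    rw [hUdef, Subgroup.mem_subgroupOf, Subgroup.mem_inf, Subgroup.mem_centralizer_singleton_iff,
      Subtype.ext_iff, hφ, mul_inv_eq_iff_eq_mul]
    exact ⟨fun h => h.1.symm, fun h => ⟨h.symm, q.2⟩⟩
  have hidx : U.index ≤ 2 := hi
  have hcen : ∀ x, φ x * x⁻¹ ∈ Subgroup.center ↥Q := by
    have h0 : U.index ≠ 0 := Subgroup.index_ne_zero_of_finite
    by_cases h1 : U.index = 1
    · intro x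
      rw [Subgroup.index_eq_one] at h1
      rw [(hU x).1 (h1 ▸ Subgroup.mem_top x), mul_inv_cancel]
      exact one_mem _
    have h2 : U.index = 2 := by omega
    intro x
    by_cases hx : x ∈ U
    · rw [(hU x).1 hx, mul_inv_cancel]
      exact one_mem _
    haveI := Subgroup.normal_of_index_eq_two h2
    set c := φ x * x⁻¹ with hcdef
    have hφx : φ x = c * x := by rw [hcdef, inv_mul_cancel_right]
    have hφx' : φ x ∉ U := fun h => hx (by
      have := (hU _).1 h
      rw [hφφ] at this
      exact this ▸ h)
    have hcU : c ∈ U := (Subgroup.mul_mem_iff_of_index_two h2).2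
      (iff_of_false hφx' (fun h => hx (inv_mem_iff.1 h)))
    -- `c` centralises `U`
    have hcu : ∀ u ∈ U, c * u = u * c := by
      intro u hu
      set w := x⁻¹ * u * x with hw
      have hwU : w ∈ U := by
        simpa [mul_assoc, hw] using (inferInstance : U.Normal).conj_mem u hu x⁻¹
      have hu' : u = x * w * x⁻¹ := by rw [hw]; group
      have := (hU u).1 hu
      rw [hu', map_mul, map_mul, map_inv, (hU w).1 hwU, hφx, ← hu'] at this
      calc c * u = c * x * w * (c * x)⁻¹ * c := by rw [hu']; group
        _ = u * c := by rw [this]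
    -- `c` commutes with `x`
    have hcc : c * c = 1 := by
      have h3 : c * (c * x) = x := by
        have e : φ (φ x) = x := hφφ x
        rw [hφx, map_mul, (hU c).1 hcU, hφx] at e
        exact e
      rw [← mul_assoc] at h3
      exact mul_eq_right.1 h3
    have hsq : c * x * (c * x) = x * x := by
      have h3 := (hU _).1 (Subgroup.mul_self_mem_of_index_two h2 x)
      rwa [map_mul, hφx] at h3
    have hcx : c * x = x * c := by
      have h3 : c * x * c = x := by
        rw [← mul_assoc] at hsq
        exact mul_right_cancel hsq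
      calc c * x = c * x * (c * c) := by rw [hcc, mul_one]
        _ = (c * x * c) * c := by group
        _ = x * c := by rw [h3]
    refine Subgroup.mem_center_iff.2 fun y => ?_
    by_cases hy : y ∈ U
    · exact (hcu y hy).symm
    · have hyx : y * x⁻¹ ∈ U :=
        (Subgroup.mul_mem_iff_of_index_two h2).2 (iff_of_false hy (fun h => hx (inv_mem_iff.1 h)))
      have e : Commute c (y * x⁻¹ * x) := Commute.mul_right (hcu _ hyx) hcx
      rw [inv_mul_cancel_right] at e
      exact e.symm.eq
  obtain ⟨g, hg⟩ := Cfsg.Agent.S5395.result hQ φ hcen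
  have hmem : (g : G)⁻¹ * t ∈ Subgroup.centralizer (Q : Set G) := by
    intro q hq
    have h := congrArg Subtype.val (hg ⟨q, hq⟩)
    rw [hφ] at h
    calc q * ((g : G)⁻¹ * t) = (g : G)⁻¹ * (g * q * (g : G)⁻¹) * t := by group
      _ = (g : G)⁻¹ * (t * q * t⁻¹) * t := by rw [h]; rfl
      _ = (g : G)⁻¹ * t * q := by group
  have := Subgroup.mul_mem_sup g.2 hmem
  rwa [mul_inv_cancel_left] at this

end Cfsg.Agent.S1756
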