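import Cfsg.Statements.S1757
import Cfsg.Agent.EqLemmas

set_option autoImplicit false
open Cfsg

namespace Cfsg.Agent.S1757

open Subgroup Pointwise in
/-- A TI subgroup `B` normalising a TI subgroup `A` no larger than it, meeting it trivially, centralises it. -/
theorem commutator_eq_bot_of_card_le {G : Type*} [Group G] [Finite G] (A B : Subgroup G)
    (_hAti : ∀ g : G, A.map (MulAut.conj g).toMonoidHom = A ∨ A.map (MulAut.conj g).toMonoidHom ⊓ A = ⊥)
    (hBti : ∀ g : G, B.map (MulAut.conj g).toMonoidHom = B ∨ B.map (MulAut.conj g).toMonoidHom ⊓ B = ⊥)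
    (hle : Nat.card ↥A ≤ Nat.card ↥B) (hAB : A ⊓ B = ⊥) (hN : B ≤ normalizer (A : Set G)) :
    ⁅A, B⁆ = ⊥ := by
  by_cases hB : A ≤ normalizer (B : Set G)
  · rw [eq_bot_iff, ← hAB]
    refine le_inf ?_ ?_
    · rw [commutator_comm]; exact le_normalizer_iff_commutator_le_right.1 hN
    · exact le_normalizer_iff_commutator_le_right.1 hB
  exfalso
  obtain ⟨a, ha, haB⟩ := SetLike.not_le_iff_exists.1 hB
  set B' := B.map (MulAut.conj a).toMonoidHom with hB'
  have hne : B' ≠ B := fun h => haB (Subgroup.mem_normalizer_iff_map_conj_eq.2 h)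
  have hint : B' ⊓ B = ⊥ := (hBti a).resolve_left hne
  let f : ↥B' × ↥B → G := fun x => x.1.1 * x.2.1
  have hf : Function.Injective f := by
    intro x y h
    have h' : y.1.1⁻¹ * x.1.1 = y.2.1 * x.2.1⁻¹ := by
      rw [eq_mul_inv_iff_mul_eq, mul_assoc, inv_mul_eq_iff_eq_mul]; exact h
    have hm : y.1.1⁻¹ * x.1.1 ∈ B' ⊓ B :=
      ⟨B'.mul_mem (B'.inv_mem y.1.2) x.1.2, h' ▸ B.mul_mem y.2.2 (B.inv_mem x.2.2)⟩
    rw [hint, Subgroup.mem_bot] at hm
    refine Prod.ext (Subtype.ext (inv_mul_eq_one.1 hm).symm) (Subtype.ext ?_)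
    rw [hm] at h'
    exact (mul_inv_eq_one.1 h'.symm).symm
  have hsub : ∀ x, f x ∈ ((A ⊔ B : Subgroup G) : Set G) := by
    rintro ⟨⟨x, b, hb, rfl⟩, ⟨y, hy⟩⟩
    refine (A ⊔ B).mul_mem ?_ (mem_sup_right hy)
    exact (A ⊔ B).mul_mem ((A ⊔ B).mul_mem (mem_sup_left ha) (mem_sup_right hb))
      ((A ⊔ B).inv_mem (mem_sup_left ha))
  let g : ↥B' × ↥B → ↥(A ⊔ B) := fun x => ⟨f x, hsub x⟩
  have hg : Function.Injective g := fun x y h => hf (congrArg Subtype.val h)
  let h : ↥A × ↥B → ↥(A ⊔ B) :=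
    fun x => ⟨x.1.1 * x.2.1, (A ⊔ B).mul_mem (mem_sup_left x.1.2) (mem_sup_right x.2.2)⟩
  have hsurj : Function.Surjective h := by
    rintro ⟨x, hx⟩
    rw [← SetLike.mem_coe, coe_mul_of_right_le_normalizer_left A B hN] at hx
    obtain ⟨u, hu, v, hv, rfl⟩ := hx
    exact ⟨(⟨u, hu⟩, ⟨v, hv⟩), rfl⟩
  have c1 := Nat.card_le_card_of_surjective h hsurj
  have c2 := Nat.card_le_card_of_injective g hg
  have c3 : Nat.card ↥B' = Nat.card ↥B :=
    Nat.card_congr (equivMapOfInjective B _ (MulAut.conj a).injective).toEquiv.symm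
  rw [Nat.card_prod] at c1 c2
  rw [c3] at c2
  have hcard : Nat.card (↥B' × ↥B) = Nat.card ↥(A ⊔ B) := by
    rw [Nat.card_prod, c3]
    refine le_antisymm c2 (c1.trans ?_)
    exact Nat.mul_le_mul_right _ hle
  obtain ⟨⟨⟨u, hu⟩, ⟨v, hv⟩⟩, hx⟩ := (hg.bijective_of_nat_card_le hcard.ge).2 ⟨a, mem_sup_left ha⟩
  obtain ⟨b, hb, rfl⟩ := hu
  have hx' : a * b * a⁻¹ * v = a := congrArg Subtype.val hx
  apply haB
  have h1 : b * a⁻¹ * v = 1 := by
    apply mul_left_cancel (a := a)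
    rw [mul_one, ← mul_assoc, ← mul_assoc]; exact hx'
  have h2 : a⁻¹ = b⁻¹ * v⁻¹ := by
    rw [eq_inv_mul_iff_mul_eq]
    exact eq_inv_of_mul_eq_one_left h1
  have : a = v * b := by rw [← inv_inv a, h2, mul_inv_rev, inv_inv, inv_inv]
  exact this ▸ le_normalizer (B.mul_mem hv hb)


/-- Let p be a prime and A, B p-subgroups of the finite group G, each of which meets every conjugate of itself other than itself trivially. Suppose the order of A is at most that of B, A and B intersect trivially, and B normalizes A. Then A and B commute elementwise. -/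
theorem result {G : Type*} [Group G] [Finite G] (p : ℕ) [Fact p.Prime] (A B : Subgroup G)
    (hA : IsPGroup p ↥A) (hB : IsPGroup p ↥B)
    (hAti : ∀ g : G, A.map (MulAut.conj g).toMonoidHom = A ∨ A.map (MulAut.conj g).toMonoidHom ⊓ A = ⊥)
    (hBti : ∀ g : G, B.map (MulAut.conj g).toMonoidHom = B ∨ B.map (MulAut.conj g).toMonoidHom ⊓ B = ⊥)
    (hle : Nat.card ↥A ≤ Nat.card ↥B) (hAB : A ⊓ B = ⊥) (hN : B ≤ Subgroup.normalizer (A : Set G)) : ⁅A, B⁆ = ⊥ := by
  exact commutator_eq_bot_of_card_le A B hAti hBti hle hAB hN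


end Cfsg.Agent.S1757
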