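import Cfsg.Statements.S1774
import Cfsg.Agent.EqLemmas
import Cfsg.Agent.Lib.Symplectic.FStarFour

set_option autoImplicit false
open Cfsg

namespace Cfsg.Agent.S1774

theorem transfer {G : Type*} [Group G] {z : G}
    (h : Cfsg.Agent.Symplectic.FourData z (Cfsg.Agent.Symplectic.fstar z)) (g : G) :
    Cfsg.Agent.Symplectic.FourData (g * z * g⁻¹) (Cfsg.Agent.Symplectic.fstar (g * z * g⁻¹)) := by
  rw [← Cfsg.Agent.Symplectic.map_conj_fstar]
  obtain ⟨φ, hφ⟩ : ∃ φ, φ = MulAut.conj g := ⟨_, rfl⟩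
  rw [← hφ, show g * z * g⁻¹ = φ z by rw [hφ]; rfl]
  have hmem : ∀ {a : G}, a ∈ Cfsg.Agent.Symplectic.fstar z →
      φ a ∈ (Cfsg.Agent.Symplectic.fstar z).map φ.toMonoidHom :=
    fun ha => Subgroup.mem_map_of_mem _ ha
  refine ⟨hmem h.self_mem, by rw [← map_mul, h.self_sq, map_one],
    fun e => h.ne_one ((MulEquiv.map_eq_one_iff φ).1 e), ?_, ?_, ?_, ?_, ?_, ?_⟩
  · rintro _ ⟨a, ha, rfl⟩
    change φ a * φ z = φ z * φ a
    rw [← map_mul, ← map_mul, h.commute a ha]
  · intro k hk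
    obtain ⟨k, rfl⟩ := φ.surjective k
    rw [← map_mul, ← map_mul] at hk
    rintro _ ⟨a, ha, rfl⟩
    change φ k * φ a * (φ k)⁻¹ ∈ _
    rw [← map_inv, ← map_mul, ← map_mul]
    exact hmem (h.conj_mem k (φ.injective hk) a ha)
  · intro k hk hc
    obtain ⟨k, rfl⟩ := φ.surjective k
    rw [← map_mul, ← map_mul] at hk
    refine hmem (h.self_cent k (φ.injective hk) fun a ha => φ.injective ?_)
    rw [map_mul, map_mul, hc _ (hmem ha)]
  · rintro _ ⟨a, ha, rfl⟩
    change φ a * φ a = 1 ∨ φ a * φ a = φ z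
    rw [← map_mul]
    exact (h.sq a ha).imp (fun e => by rw [e, map_one]) (fun e => by rw [e])
  · rintro _ ⟨a, ha, rfl⟩ _ ⟨b, hb, rfl⟩
    change φ a * φ b = φ b * φ a ∨ φ a * φ b = φ z * φ b * φ a
    simp only [← map_mul]
    exact (h.comm a ha b hb).imp (congrArg φ) (congrArg φ)
  · rintro _ ⟨a, ha, rfl⟩ hc hs
    change φ a = 1 ∨ φ a = φ z
    change φ a * φ a = 1 at hs
    rw [← map_mul, MulEquiv.map_eq_one_iff] at hs
    refine (h.center a ha (fun b hb => φ.injective ?_) hs).imp (fun e => by rw [e, map_one])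
      (congrArg φ)
    rw [map_mul, map_mul]
    exact hc _ (hmem hb)

theorem six {G : Type*} [Group G] {z w q x : G} (hz : z * z = 1) (hw : w * w = 1)
    (hwz : w * z = z * w) (X : Subgroup G) (hqX : q ∈ X) (hqz : q * z = z * q)
    (hqw : q * w = z * w * q) (hxX : x ∈ X) (hxw : x * w = w * x) (hxz : x * z = w * z * x) :
    ∀ u ∈ Subgroup.closure ({z, w} : Set G), ∀ v ∈ Subgroup.closure ({z, w} : Set G),
        u ≠ 1 → v ≠ 1 → u ≠ v → ∃ y ∈ X, y * z * y⁻¹ = u ∧ y * w * y⁻¹ = v := by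
  have hfour : ∀ u ∈ Subgroup.closure ({z, w} : Set G), u = 1 ∨ u = z ∨ u = w ∨ u = z * w := by
    intro u hu
    induction hu using Subgroup.closure_induction with
    | mem a ha =>
      rcases ha with rfl | rfl
      · exact Or.inr (Or.inl rfl)
      · exact Or.inr (Or.inr (Or.inl rfl))
    | one => exact Or.inl rfl
    | inv a _ h =>
      rcases h with rfl | rfl | rfl | rfl
      · exact Or.inl inv_one
      · exact Or.inr (Or.inl (inv_eq_of_mul_eq_one_right hz))
      · exact Or.inr (Or.inr (Or.inl (inv_eq_of_mul_eq_one_right hw)))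
      · right; right; right
        rw [mul_inv_rev, inv_eq_of_mul_eq_one_right hz, inv_eq_of_mul_eq_one_right hw, hwz]
    | mul a b _ _ h h' =>
      have e1 : w * (z * w) = z := by rw [← hwz, ← mul_assoc, hw, one_mul]
      have e2 : z * (z * w) = w := by rw [← mul_assoc, hz, one_mul]
      rcases h with rfl | rfl | rfl | rfl <;> rcases h' with rfl | rfl | rfl | rfl <;>
        simp [mul_assoc, hz, hw, hwz, e1, e2]
  have ezw : z * (z * w) = w := by rw [← mul_assoc, hz, one_mul]
  have ewz : w * z * w = z := by rw [hwz, mul_assoc, hw, mul_one]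
  intro u hu v hv hu1 hv1 huv
  have q1 : q * z * q⁻¹ = z := by rw [hqz, mul_inv_cancel_right]
  have q2 : q * w * q⁻¹ = z * w := by rw [hqw, mul_inv_cancel_right]
  have q3 : q * (z * w) * q⁻¹ = w := by
    rw [show q * (z * w) * q⁻¹ = (q * z * q⁻¹) * (q * w * q⁻¹) by group, q1, q2, ezw]
  have x1 : x * z * x⁻¹ = z * w := by rw [hxz, mul_inv_cancel_right, hwz]
  have x2 : x * w * x⁻¹ = w := by rw [hxw, mul_inv_cancel_right]
  have x3 : x * (z * w) * x⁻¹ = z := by
    rw [show x * (z * w) * x⁻¹ = (x * z * x⁻¹) * (x * w * x⁻¹) by group, x1, x2, mul_assoc, hw,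
      mul_one]
  have comp : ∀ (a b t : G), a * b * t * (a * b)⁻¹ = a * (b * t * b⁻¹) * a⁻¹ := fun a b t => by group
  rcases hfour u hu with rfl | rfl | rfl | rfl <;> rcases hfour v hv with rfl | rfl | rfl | rfl
  all_goals try exact absurd rfl hu1
  all_goals try exact absurd rfl hv1
  all_goals try exact absurd rfl huv
  · exact ⟨1, X.one_mem, by simp, by simp⟩
  · exact ⟨q, hqX, q1, q2⟩
  · exact ⟨q * (x * q), X.mul_mem hqX (X.mul_mem hxX hqX), by rw [comp, comp, q1, x1, q3],
      by rw [comp, comp, q2, x3, q1]⟩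
  · exact ⟨q * x, X.mul_mem hqX hxX, by rw [comp, x1, q3], by rw [comp, x2, q2]⟩
  · exact ⟨x * q, X.mul_mem hxX hqX, by rw [comp, q1, x1], by rw [comp, q2, x3]⟩
  · exact ⟨x, hxX, x1, x2⟩

/-- Let G be a finite group and let z be an involution of G such that Q, the generalized Fitting subgroup of the centralizer C of z, is a 2-group of symplectic type (every characteristic abelian subgroup of Q is cyclic); suppose every element of Q has order dividing 4. Let g ∈ G with z' = g z g⁻¹ ≠ z and z' ∈ Q. Then z lies in the conjugate g Q g⁻¹, and the subgroup X generated by Q and g Q g⁻¹ induces every automorphism of the four-group generated by z and z': for any two distinct non-identity elements u, v of that four-group there is x ∈ X with x z x⁻¹ = u and x z' x⁻¹ = v. -/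
theorem result {G : Type*} [Group G] [Finite G] (z : G) (hz : orderOf z = 2) (hQ : Cfsg.IsOfSymplecticType ↥(Cfsg.generalizedFittingSubgroup ↥(Subgroup.centralizer ({z} : Set G))))
    (h4 : ∀ q ∈ (Cfsg.generalizedFittingSubgroup ↥(Subgroup.centralizer ({z} : Set G))).map (Subgroup.centralizer ({z} : Set G)).subtype, q ^ 4 = 1) (g : G) (hne : g * z * g⁻¹ ≠ z) (hin : g * z * g⁻¹ ∈ (Cfsg.generalizedFittingSubgroup ↥(Subgroup.centralizer ({z} : Set G))).map (Subgroup.centralizer ({z} : Set G)).subtype) :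
    z ∈ ((Cfsg.generalizedFittingSubgroup ↥(Subgroup.centralizer ({z} : Set G))).map (Subgroup.centralizer ({z} : Set G)).subtype).map (MulAut.conj g).toMonoidHom ∧
      ∀ u ∈ Subgroup.closure ({z, g * z * g⁻¹} : Set G), ∀ v ∈ Subgroup.closure ({z, g * z * g⁻¹} : Set G),
        u ≠ 1 → v ≠ 1 → u ≠ v →
          ∃ x ∈ (Cfsg.generalizedFittingSubgroup ↥(Subgroup.centralizer ({z} : Set G))).map (Subgroup.centralizer ({z} : Set G)).subtype ⊔ ((Cfsg.generalizedFittingSubgroup ↥(Subgroup.centralizer ({z} : Set G))).map (Subgroup.centralizer ({z} : Set G)).subtype).map (MulAut.conj g).toMonoidHom, x * z * x⁻¹ = u ∧ x * (g * z * g⁻¹) * x⁻¹ = v := by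
  have hD := Cfsg.Agent.Symplectic.fourData_fstar hz hQ h4
  have hD' : Cfsg.Agent.Symplectic.FourData (g * z * g⁻¹)
      (Cfsg.Agent.Symplectic.fstar (g * z * g⁻¹)) := transfer hD g
  have hmem := Cfsg.Agent.Symplectic.mem_fstar_conj hD hD' hne hin
  refine ⟨by rw [Cfsg.Agent.Symplectic.map_conj_fstar]; exact hmem, ?_⟩
  rw [Cfsg.Agent.Symplectic.map_conj_fstar]
  obtain ⟨q, hq, hqw⟩ := hD.exists_swap hin hD'.self_sq hne hD'.ne_one
  obtain ⟨x, hx, hxz⟩ := hD'.exists_swap hmem hD.self_sq hne.symm hD.ne_one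
  exact six hD.self_sq hD'.self_sq (hD.commute _ hin) _ (Subgroup.mem_sup_left hq) (hD.commute q hq)
    hqw (Subgroup.mem_sup_right hx) (hD'.commute x hx) hxz

end Cfsg.Agent.S1774
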