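import Cfsg.Statements.S1775
import Cfsg.Agent.EqLemmas
import Cfsg.Agent.Lib.Components.BPropertyDescend
import Cfsg.Agent.Lib.Symplectic.Basic

set_option autoImplicit false
open Cfsg

namespace Cfsg.Agent.S1775

open Subgroup in
theorem centralizer_ne_top {G : Type*} [Group G] [Finite G]
    (hF : IsSimpleGroup ↥(Cfsg.generalizedFittingSubgroup G))
    (hF' : ¬ IsMulCommutative ↥(Cfsg.generalizedFittingSubgroup G)) {y : G} (hy : y ≠ 1) :
    centralizer ({y} : Set G) ≠ ⊤ := by
  intro h
  have hyc : y ∈ center G := mem_center_iff.2 fun g =>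
    mem_centralizer_singleton_iff.1 (h.ge (mem_top g))
  have hyF := Cfsg.Agent.Symplectic.center_le_generalizedFitting G hyc
  have hyFc : (⟨y, hyF⟩ : ↥(Cfsg.generalizedFittingSubgroup G)) ∈
      center ↥(Cfsg.generalizedFittingSubgroup G) :=
    mem_center_iff.2 fun g => Subtype.ext (mem_center_iff.1 hyc g)
  rcases hF.eq_bot_or_eq_top_of_normal _ (inferInstance :
      (center ↥(Cfsg.generalizedFittingSubgroup G)).Normal) with e | e
  · rw [e, mem_bot] at hyFc; exact hy (congrArg Subtype.val hyFc)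
  · exact hF' ⟨⟨fun a b => (mem_center_iff.1 (e.ge (mem_top a)) b).symm⟩⟩

theorem aux {G : Type*} [Group G] [Finite G] (x y : G) (hx : orderOf x = 2) (hxy : x * y = y * x)
    (hB : Cfsg.HasBProperty
      (↥(Subgroup.centralizer ({y} : Set G)) ⧸ Cfsg.oddCore ↥(Subgroup.centralizer ({y} : Set G))))
    (Lx : Subgroup G) (hLxC : Lx ≤ Subgroup.centralizer ({x} : Set G))
    (hLxn : ∀ c ∈ Subgroup.centralizer ({x} : Set G), ∀ l ∈ Lx, c * l * c⁻¹ ∈ Lx)
    (J : Subgroup ↥(Lx ⊓ Subgroup.centralizer ({y} : Set G))) (hJ : Cfsg.IsPComponent 2 J) :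
    Cfsg.IsComponent
        ((((J.map (Subgroup.subtype _)).subgroupOf (Subgroup.centralizer ({y} : Set G))).map (QuotientGroup.mk' (Cfsg.oddCore ↥(Subgroup.centralizer ({y} : Set G))))).subgroupOf
          (Subgroup.centralizer ({(QuotientGroup.mk' (Cfsg.oddCore ↥(Subgroup.centralizer ({y} : Set G))) ⟨x, Subgroup.mem_centralizer_singleton_iff.mpr hxy⟩ : ↥(Subgroup.centralizer ({y} : Set G)) ⧸ Cfsg.oddCore ↥(Subgroup.centralizer ({y} : Set G)))} : Set _))) ∧
      ∀ E : Subgroup G, E ≤ Subgroup.centralizer ({x} : Set G) ⊓ Subgroup.centralizer ({y} : Set G) → Odd (Nat.card ↥E) →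
        (∀ j ∈ J.map (Subgroup.subtype _), ∀ e ∈ E, j * e * j⁻¹ ∈ E) →
          ⁅J.map (Subgroup.subtype _), E⁆ ≤ (Cfsg.oddCore ↥(Subgroup.centralizer ({y} : Set G))).map (Subgroup.centralizer ({y} : Set G)).subtype := by
  have := Fact.mk Nat.prime_two
  let x' : ↥(Subgroup.centralizer ({y} : Set G)) :=
    ⟨x, Subgroup.mem_centralizer_singleton_iff.mpr hxy⟩
  have hx' : orderOf x' = 2 := by rw [← Subgroup.orderOf_coe]; exact hx
  let φ : ↥(Lx ⊓ (Subgroup.centralizer ({y} : Set G))) →* ↥(Subgroup.centralizer ({y} : Set G)) := Subgroup.inclusion inf_le_right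
  have hφ : Function.Injective φ := Subgroup.inclusion_injective _
  have hKeq : (J.map (Subgroup.subtype _)).subgroupOf (Subgroup.centralizer ({y} : Set G)) = J.map φ := by
    ext u
    simp only [Subgroup.mem_subgroupOf, Subgroup.mem_map]
    exact ⟨fun ⟨j, hj, e⟩ => ⟨j, hj, Subtype.ext e⟩,
      fun ⟨j, hj, e⟩ => ⟨j, hj, congrArg Subtype.val e⟩⟩
  rw [hKeq]
  obtain ⟨hJsub, hJlike⟩ := Cfsg.Agent.Components.isPComponent_iff.1 hJ
  have hKlike : Cfsg.Agent.Components.IsPLike 2 (J.map φ) :=
    (Cfsg.Agent.Components.isPLike_map_iff hφ J).2 hJlike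
  have hKx : J.map φ ≤ Subgroup.centralizer ({x'} : Set ↥(Subgroup.centralizer ({y} : Set G))) := by
    rintro _ ⟨j, hj, rfl⟩
    exact Subgroup.mem_centralizer_singleton_iff.2
      (Subtype.ext (Subgroup.mem_centralizer_singleton_iff.1 (hLxC j.2.1)))
  -- the chain from `J` up to the centraliser of `x` in `C(y)`
  let ψ : ↥(Lx ⊓ (Subgroup.centralizer ({y} : Set G))) →* ↥(Subgroup.centralizer ({x'} : Set ↥(Subgroup.centralizer ({y} : Set G)))) :=
    φ.codRestrict _ fun d => Subgroup.mem_centralizer_singleton_iff.2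
      (Subtype.ext (Subgroup.mem_centralizer_singleton_iff.1 (hLxC d.2.1)))
  have hψn : ψ.range.Normal := by
    refine ⟨?_⟩
    rintro _ ⟨d, rfl⟩ c
    have hcx : ((c.1 : ↥(Subgroup.centralizer ({y} : Set G))) : G) ∈ Subgroup.centralizer ({x} : Set G) :=
      Subgroup.mem_centralizer_singleton_iff.2
        (congrArg Subtype.val (Subgroup.mem_centralizer_singleton_iff.1 c.2))
    have hd : ((c.1 : ↥(Subgroup.centralizer ({y} : Set G))) : G) * (d : G) * ((c.1 : ↥(Subgroup.centralizer ({y} : Set G))) : G)⁻¹ ∈ Lx := by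
      exact hLxn _ hcx _ d.2.1
    exact ⟨⟨_, hd, (Subgroup.centralizer ({y} : Set G)).mul_mem ((Subgroup.centralizer ({y} : Set G)).mul_mem c.1.2 d.2.2) ((Subgroup.centralizer ({y} : Set G)).inv_mem c.1.2)⟩,
      Subtype.ext (Subtype.ext rfl)⟩
  have hsub : ((J.map φ).subgroupOf (Subgroup.centralizer ({x'} : Set ↥(Subgroup.centralizer ({y} : Set G))))).IsSubnormal := by
    have e : (J.map φ).subgroupOf (Subgroup.centralizer ({x'} : Set ↥(Subgroup.centralizer ({y} : Set G)))) = J.map ψ := by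
      apply Subgroup.map_injective (Subgroup.subtype_injective _)
      rw [Subgroup.map_subgroupOf_eq_of_le hKx, Subgroup.map_map]
      rfl
    rw [e]
    have hψ : Function.Injective ψ := fun a b h => hφ (congrArg Subtype.val h)
    have h1 := hJsub.map (f := ψ.rangeRestrict) ψ.rangeRestrict_surjective
    have h2 := h1.trans' hψn.isSubnormal
    rwa [Subgroup.map_map, MonoidHom.subtype_comp_rangeRestrict] at h2
  refine ⟨Cfsg.Agent.Components.isComponent_map_of_bProperty hB hx' hKx hKlike hsub,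
    fun E hE hodd hinv => ?_⟩
  have hEy : E ≤ (Subgroup.centralizer ({y} : Set G)) := hE.trans inf_le_right
  have key := Cfsg.Agent.Components.commutator_le_oddCore_of_bProperty hB hx' hKx hKlike hsub
    (E := E.subgroupOf (Subgroup.centralizer ({y} : Set G)))
    (fun u hu => Subgroup.mem_centralizer_singleton_iff.2 (Subtype.ext
      (Subgroup.mem_centralizer_singleton_iff.1 (hE (Subgroup.mem_subgroupOf.1 hu)).1)))
    (by rwa [← Cfsg.Agent.Cores.card_map_subtype (Subgroup.centralizer ({y} : Set G)), Subgroup.map_subgroupOf_eq_of_le hEy])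
    (by
      rintro _ ⟨j, hj, rfl⟩ e he
      rw [Subgroup.mem_subgroupOf] at he ⊢
      exact hinv _ ⟨j, hj, rfl⟩ _ he)
  have h := Subgroup.map_mono (f := (Subgroup.centralizer ({y} : Set G)).subtype) key
  rw [Subgroup.map_commutator, Subgroup.map_subgroupOf_eq_of_le hEy, Subgroup.map_map] at h
  exact h

/-- Let G be a finite group whose generalized Fitting subgroup is a non-abelian simple group and in which every proper section (every quotient H/N of a proper subgroup H, or of G by a nontrivial normal subgroup) has the B-property. Let x, y be commuting involutions, let D be the intersection of the 2-layer of C_G(x) with C_G(y), and let J be a 2-component of D. Write Q for the quotient of C_G(y) by its largest normal odd-order subgroup. Then (i) the image of J in Q is a component of the centralizer in Q of the image of x; and (ii) for every J-invariant subgroup E of odd order of C_G(x) ∩ C_G(y), the commutator subgroup [J, E] lies in the largest normal odd-order subgroup of C_G(y).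 -/
theorem result {G : Type*} [Group G] [Finite G]
    (hF : IsSimpleGroup ↥(Cfsg.generalizedFittingSubgroup G)) (hF' : ¬ IsMulCommutative ↥(Cfsg.generalizedFittingSubgroup G))
    (hsec : ∀ (H : Subgroup G) (N : Subgroup ↥H) [N.Normal], (H ≠ ⊤ ∨ N ≠ ⊥) → Cfsg.HasBProperty (↥H ⧸ N))
    (x y : G) (hx : orderOf x = 2) (hy : orderOf y = 2) (hxy : x * y = y * x)
    (J : Subgroup ↥((Cfsg.pLayer 2 ↥(Subgroup.centralizer ({x} : Set G))).map (Subgroup.centralizer ({x} : Set G)).subtype ⊓ Subgroup.centralizer ({y} : Set G)))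
    (hJ : Cfsg.IsPComponent 2 J) :
    Cfsg.IsComponent
        ((((J.map (Subgroup.subtype _)).subgroupOf (Subgroup.centralizer ({y} : Set G))).map (QuotientGroup.mk' (Cfsg.oddCore ↥(Subgroup.centralizer ({y} : Set G))))).subgroupOf
          (Subgroup.centralizer ({(QuotientGroup.mk' (Cfsg.oddCore ↥(Subgroup.centralizer ({y} : Set G))) ⟨x, Subgroup.mem_centralizer_singleton_iff.mpr hxy⟩ : ↥(Subgroup.centralizer ({y} : Set G)) ⧸ Cfsg.oddCore ↥(Subgroup.centralizer ({y} : Set G)))} : Set _))) ∧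
      ∀ E : Subgroup G, E ≤ Subgroup.centralizer ({x} : Set G) ⊓ Subgroup.centralizer ({y} : Set G) → Odd (Nat.card ↥E) →
        (∀ j ∈ J.map (Subgroup.subtype _), ∀ e ∈ E, j * e * j⁻¹ ∈ E) →
          ⁅J.map (Subgroup.subtype _), E⁆ ≤ (Cfsg.oddCore ↥(Subgroup.centralizer ({y} : Set G))).map (Subgroup.centralizer ({y} : Set G)).subtype := by
  have hne := centralizer_ne_top hF hF' (y := y) fun h => by
    rw [h, orderOf_one] at hy; norm_num at hy
  refine aux x y hx hxy (hsec _ _ (Or.inl hne)) _ (Subgroup.map_subtype_le _) ?_ J hJ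
  rintro c hc _ ⟨l, hl, rfl⟩
  have := Fact.mk Nat.prime_two
  have hn := Cfsg.Agent.ExtLayer.pLayer_normal (X := ↥(Subgroup.centralizer ({x} : Set G))) 2
  exact ⟨⟨c, hc⟩ * l * ⟨c, hc⟩⁻¹, hn.conj_mem l hl _, rfl⟩

end Cfsg.Agent.S1775
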