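import Cfsg.Statements.S1780
import Cfsg.Agent.EqLemmas

set_option autoImplicit false
open Cfsg

namespace Cfsg.Agent.S1780

/-- Let A be a finite abelian 2-group and t an automorphism of A whose order is a power of 2. If every element of A fixed by t² is fixed by t, then t fixes every element of A. -/
theorem result {A : Type*} [CommGroup A] [Finite A]
    (hA : IsPGroup 2 A) (t : MulAut A) (ht : ∃ k : ℕ, orderOf t = 2 ^ k) (hC : ∀ a : A, t (t a) = a → t a = a) :
    ∀ a : A, t a = a := by
  obtain ⟨k, hk⟩ := ht
  let F : Subgroup A := MonoidHom.eqLocus t.toMonoidHom (MonoidHom.id A)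
  have memF : ∀ a : A, a ∈ F ↔ t a = a := fun a => Iff.rfl
  -- the displacement homomorphism
  let d : A →* A :=
    { toFun := fun a => t a * a⁻¹
      map_one' := by simp
      map_mul' := fun a b => by simp [map_mul, mul_comm, mul_left_comm, mul_assoc] }
  have hd : ∀ a, d a = t a * a⁻¹ := fun a => rfl
  -- the action on the fixed-point set of the square
  have step : ∀ a : A, d a ∈ F → t a = a := by
    intro a ha
    obtain ⟨m, hm⟩ := hA (d a)
    have key : ∀ m : ℕ, ∀ a : A, d a ∈ F → d a ^ (2 ^ m) = 1 → t a = a := by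
      intro m
      induction m with
      | zero => intro a _ h; rw [pow_zero, pow_one, hd] at h; exact mul_inv_eq_one.1 h
      | succ m ih =>
        intro a ha h
        have hsq : t (a ^ (2 ^ m)) = a ^ (2 ^ m) := by
          apply hC
          have e1 : t (a ^ (2 ^ m)) = d a ^ (2 ^ m) * a ^ (2 ^ m) := by
            rw [map_pow, ← mul_pow, hd, inv_mul_cancel_right]
          rw [e1, map_mul, e1, map_pow, (memF _).1 ha, ← mul_assoc, ← pow_add,
            ← two_mul, ← pow_succ', h, one_mul]
        refine ih a ha ?_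
        rw [← map_pow, hd, hsq, mul_inv_cancel]
    exact key m a ha hm
  intro a
  by_contra hne
  have hda : d a ≠ 1 := fun h => hne (mul_inv_eq_one.1 h)
  have hcomm : ∀ x, t (d x) = d (t x) := fun x => by simp [hd, map_mul, map_inv]
  have hinv : ∀ x, t x ∈ d.range ↔ x ∈ d.range := by
    intro x
    constructor
    · rintro ⟨y, hy⟩
      refine ⟨t.symm y, ?_⟩
      apply t.injective
      rw [hcomm, MulEquiv.apply_symm_apply, hy]
    · rintro ⟨y, rfl⟩
      exact ⟨t y, (hcomm y).symm⟩
  let σ : Equiv.Perm ↥d.range := (MulAut.toPerm A t).subtypePerm hinv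
  have hσ : σ ^ 2 ^ k = 1 := by
    have : t ^ 2 ^ k = 1 := hk ▸ pow_orderOf_eq_one t
    have h : ∀ (n : ℕ) (x : ↥d.range), (((σ ^ n) x : ↥d.range) : A) = (t ^ n) (x : A) := by
      intro n
      induction n with
      | zero => intro x; simp
      | succ n ih =>
        intro x
        rw [pow_succ, pow_succ, Equiv.Perm.mul_apply, ih]
        rfl
    exact Equiv.ext fun x => Subtype.ext (by rw [h, this]; rfl)
  classical
  haveI := Fintype.ofFinite ↥d.range
  have hend : ∀ n : ℕ, (show Function.End ↥d.range from ⇑σ) ^ n = ⇑(σ ^ n) := by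
    intro n
    induction n with
    | zero => rfl
    | succ n ih => rw [pow_succ, pow_succ, ih]; rfl
  have hm := Equiv.Perm.card_fixedPoints_modEq (f := (show Function.End ↥d.range from ⇑σ)) (p := 2) (n := k)
    ((hend _).trans (by rw [hσ]; rfl))
  have h2 : 2 ∣ Fintype.card ↥d.range := by
    obtain ⟨m, hm⟩ := IsPGroup.iff_card.1 (hA.to_subgroup d.range)
    rw [← Nat.card_eq_fintype_card, hm]
    rcases m with _ | m
    · exfalso
      rw [pow_zero, Subgroup.card_eq_one] at hm
      have : d a ∈ d.range := ⟨a, rfl⟩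
      rw [hm] at this
      exact hda this
    · exact dvd_pow_self 2 (Nat.succ_ne_zero m)
  have h1 : Function.fixedPoints σ ≠ {1} := by
    intro h
    have := hm
    rw [Nat.modEq_iff_dvd] at this
    have hc : Fintype.card (Function.fixedPoints σ) = 1 := by
      rw [← Nat.card_eq_fintype_card, h]; simp
    rw [hc] at this
    omega
  apply h1
  refine Set.eq_singleton_iff_unique_mem.2 ⟨Subtype.ext (map_one t), ?_⟩
  rintro ⟨x, b, rfl⟩ hx
  have : t (d b) = d b := congrArg Subtype.val hx
  have hb := step b ((memF _).2 this)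
  exact Subtype.ext (mul_inv_eq_one.2 hb)

end Cfsg.Agent.S1780
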