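import Cfsg.Statements.S1781
import Cfsg.Agent.S1757
import Cfsg.Agent.S1780

set_option autoImplicit false
open Cfsg

namespace Cfsg.Agent.S1781

/-- Let A be an abelian 2-subgroup of the finite group G such that every conjugate of A equals A or meets A trivially, and let g ∈ G with g A g⁻¹ ≠ A. Then either the subgroup of those elements of A that normalize g A g⁻¹ is an elementary abelian 2-group, or A and g A g⁻¹ commute elementwise. -/
theorem result {G : Type*} [Group G] [Finite G] (A : Subgroup G)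
    (hA2 : IsPGroup 2 ↥A) (hAa : IsMulCommutative ↥A)
    (hti : ∀ h : G, A.map (MulAut.conj h).toMonoidHom = A ∨ A.map (MulAut.conj h).toMonoidHom ⊓ A = ⊥)
    (g : G) (hg : A.map (MulAut.conj g).toMonoidHom ≠ A) :
    Cfsg.IsElementaryAbelian 2 (A ⊓ Subgroup.normalizer ((A.map (MulAut.conj g).toMonoidHom : Subgroup G) : Set G)) ∨
      ⁅A, A.map (MulAut.conj g).toMonoidHom⁆ = ⊥ := by
  rw [or_iff_not_imp_left]
  intro hne
  have hcomm : IsMulCommutative ↥(A ⊓ Subgroup.normalizer ((A.map (MulAut.conj g).toMonoidHom : Subgroup G) : Set G)) :=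
    ⟨⟨fun x y => Subtype.ext (congrArg Subtype.val (hAa.is_comm.comm ⟨x.1, x.2.1⟩ ⟨y.1, y.2.1⟩) :)⟩⟩
  rw [Cfsg.IsElementaryAbelian, not_and] at hne
  have hne' := hne hcomm
  push_neg at hne'
  obtain ⟨a, ⟨haA, haN⟩, ha⟩ := hne'
  set B := A.map (MulAut.conj g).toMonoidHom with hB
  have hint : B ⊓ A = ⊥ := (hti g).resolve_left hg
  have hBa : ∀ x ∈ B, ∀ y ∈ B, x * y = y * x := by
    rintro _ ⟨x, hx, rfl⟩ _ ⟨y, hy, rfl⟩
    have := congrArg Subtype.val (hAa.is_comm.comm ⟨x, hx⟩ ⟨y, hy⟩)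
    change (MulAut.conj g) x * (MulAut.conj g) y = (MulAut.conj g) y * (MulAut.conj g) x
    rw [← map_mul, ← map_mul]
    exact congrArg _ this
  letI : CommGroup ↥B := { (inferInstance : Group ↥B) with
    mul_comm := fun x y => Subtype.ext (hBa _ x.2 _ y.2) }
  have hB2 : IsPGroup 2 ↥B := hA2.map _
  let t : MulAut ↥B := Subgroup.normalizerMonoidHom B ⟨a, haN⟩
  have ht : ∀ x : ↥B, (t x : G) = a * x * a⁻¹ := fun x => rfl
  have hord : ∃ k : ℕ, orderOf t = 2 ^ k := by
    obtain ⟨k, hk⟩ := hA2 ⟨a, haA⟩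
    have hk' : (⟨a, haN⟩ : ↥(Subgroup.normalizer (B : Set G))) ^ 2 ^ k = 1 :=
      Subtype.ext (congrArg Subtype.val hk :)
    have : t ^ 2 ^ k = 1 := by rw [← map_pow, hk', map_one]
    obtain ⟨j, _, hj⟩ := (Nat.dvd_prime_pow Nat.prime_two).1 (orderOf_dvd_of_pow_eq_one this)
    exact ⟨j, hj⟩
  have hC : ∀ x : ↥B, t (t x) = x → t x = x := by
    intro x hx
    have e : a ^ 2 * (x : G) * (a ^ 2)⁻¹ = x := by
      have := congrArg Subtype.val hx
      rw [ht, ht] at this
      simpa [pow_two, mul_assoc] using this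
    have hcomm2 : a ^ 2 * (x : G) = x * a ^ 2 := mul_inv_eq_iff_eq_mul.1 e
    have hxN : A.map (MulAut.conj (x : G)).toMonoidHom = A := by
      refine (hti x).resolve_right fun h => ha ?_
      have : a ^ 2 ∈ A.map (MulAut.conj (x : G)).toMonoidHom ⊓ A :=
        ⟨⟨a ^ 2, A.pow_mem haA 2, by simp [MulAut.conj_apply, ← hcomm2]⟩, A.pow_mem haA 2⟩
      rwa [h, Subgroup.mem_bot] at this
    have h1 : (x : G) * a * (x : G)⁻¹ * a⁻¹ ∈ A :=
      A.mul_mem (hxN ▸ ⟨a, haA, rfl⟩) (A.inv_mem haA)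
    have h2 : (x : G) * a * (x : G)⁻¹ * a⁻¹ ∈ B := by
      have : (x : G) * a * (x : G)⁻¹ * a⁻¹ = x * (t x⁻¹ : ↥B) := by
        rw [ht]; simp [mul_assoc]
      rw [this]; exact B.mul_mem x.2 (t x⁻¹).2
    have h3 : (x : G) * a * (x : G)⁻¹ * a⁻¹ ∈ B ⊓ A := ⟨h2, h1⟩
    rw [hint, Subgroup.mem_bot, mul_inv_eq_one, mul_inv_eq_iff_eq_mul] at h3
    apply Subtype.ext
    rw [ht, ← h3, mul_inv_cancel_right]
  have hfix := Cfsg.Agent.S1780.result hB2 t hord hC
  have haB : ∀ x ∈ B, a * x = x * a := by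
    intro x hx
    have := congrArg Subtype.val (hfix ⟨x, hx⟩)
    rw [ht] at this
    exact mul_inv_eq_iff_eq_mul.1 this
  have hN : B ≤ Subgroup.normalizer (A : Set G) := by
    intro x hx
    refine Subgroup.mem_normalizer_iff_map_conj_eq.2 ((hti x).resolve_right fun h => ?_)
    have hm : a ∈ A.map (MulAut.conj x).toMonoidHom ⊓ A :=
      ⟨⟨a, haA, by simp [MulAut.conj_apply, ← haB x hx]⟩, haA⟩
    rw [h, Subgroup.mem_bot] at hm
    exact ha (by rw [hm, one_pow])
  refine Cfsg.Agent.S1757.commutator_eq_bot_of_card_le A B hti ?_ ?_ (inf_comm A B ▸ hint) hN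
  · intro h
    have e : B.map (MulAut.conj h).toMonoidHom = A.map (MulAut.conj (h * g)).toMonoidHom := by
      rw [hB, Subgroup.map_map]; congr 1; ext z; simp [mul_assoc]
    rcases hti (g⁻¹ * (h * g)) with h0 | h0
    · left
      rw [e, hB]
      conv_rhs => rw [← h0, Subgroup.map_map]
      congr 1; ext z; simp [mul_assoc]
    · right
      have : B.map (MulAut.conj h).toMonoidHom ⊓ B =
          (A.map (MulAut.conj (g⁻¹ * (h * g))).toMonoidHom ⊓ A).map (MulAut.conj g).toMonoidHom := by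
        rw [Subgroup.map_inf _ _ _ (MulAut.conj g).injective, e, hB, Subgroup.map_map]
        congr 2; ext z; simp [mul_assoc]
      rw [this, h0, Subgroup.map_bot]
  · exact (Subgroup.card_map_of_injective (MulAut.conj g).injective).ge


end Cfsg.Agent.S1781
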