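import Cfsg.Statements.S1782
import Cfsg.Agent.S1757
import Cfsg.Agent.Lib.PGroup.Basic

set_option autoImplicit false
open Cfsg

namespace Cfsg.Agent.S1782

open Subgroup

theorem exists_sq_ne_one {R : Type*} [Group R] [Finite R] (hΦ : frattini R ≠ ⊥) :
    ∃ r : R, r ^ 2 ≠ 1 := by
  by_contra h
  push Not at h
  haveI := Fact.mk Nat.prime_two
  refine hΦ (le_bot_iff.1 (Cfsg.Agent.PGroup.frattini_le_of_quotient_elementary (p := 2) ?_
    (fun x => mem_bot.2 (h x))))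
  rw [_root_.commutator_def, commutator_le]
  intro a _ b _
  rw [mem_bot, commutatorElement_eq_one_iff_mul_comm]
  have e : ∀ x : R, x⁻¹ = x := fun x => inv_eq_of_mul_eq_one_right (by rw [← pow_two]; exact h x)
  calc a * b = (a * b)⁻¹ := (e _).symm
    _ = b * a := by rw [mul_inv_rev, e, e]

/-- Two non-commuting members of a TI family are impossible. -/
theorem key {S : Type*} [Group S] [Finite S] (hS : IsPGroup 2 S) (Δ : Set (Subgroup S))
    (hinv : ∀ s : S, ∀ R ∈ Δ, R.map (MulAut.conj s).toMonoidHom ∈ Δ)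
    (hΦ : ∀ R ∈ Δ, frattini ↥R ≠ ⊥) (hord : ∀ R ∈ Δ, ∀ T ∈ Δ, Nat.card ↥R = Nat.card ↥T)
    (hti : ∀ R ∈ Δ, ∀ T ∈ Δ, R = T ∨ R ⊓ T = ⊥) :
    ∀ n : ℕ, ∀ X : Subgroup S, Nat.card ↥X ≤ n →
      ∀ R ∈ Δ, ∀ T ∈ Δ, R ≤ X → T ≤ X → R ≠ T → ∀ r ∈ R, ∀ t ∈ T, r * t = t * r := by
  haveI := Fact.mk Nat.prime_two
  intro n
  induction n with
  | zero => intro X h; have := (Nat.card_pos : 0 < Nat.card ↥X); omega
  | succ n ih =>
    intro X hX R hR T hT hRX hTX hne
    set J := R ⊔ T with hJ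
    have hJX : J ≤ X := sup_le hRX hTX
    by_cases hlt : Nat.card ↥J < Nat.card ↥X
    · exact ih J (by omega) R hR T hT le_sup_left le_sup_right hne
    -- conjugates inside `X`
    have hconjne : ∀ {P : Subgroup S}, P ∈ Δ → ∀ s : S, ∀ x ∈ P, x ≠ 1 → s * x * s⁻¹ ∈ P →
        P.map (MulAut.conj s).toMonoidHom = P := by
      intro P hP s x hx hx1 hsx
      refine (hti _ (hinv s P hP) P hP).resolve_right fun h => hx1 ?_
      have hm : s * x * s⁻¹ ∈ P.map (MulAut.conj s).toMonoidHom ⊓ P := ⟨⟨x, hx, rfl⟩, hsx⟩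
      rw [h, mem_bot, conj_eq_one_iff] at hm
      exact hm
    -- if one normalises the other they commute
    have hnorm : ∀ {P Q : Subgroup S}, P ∈ Δ → Q ∈ Δ → P ≠ Q → Q ≤ normalizer (P : Set S) →
        ∀ r ∈ P, ∀ t ∈ Q, r * t = t * r := by
      intro P Q hP hQ hne h r hr t ht
      have hc := Cfsg.Agent.S1757.commutator_eq_bot_of_card_le P Q
        (fun g => hti _ (hinv g P hP) P hP) (fun g => hti _ (hinv g Q hQ) Q hQ)
        (hord P hP Q hQ).le ((hti P hP Q hQ).resolve_left hne) h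
      exact ((commutator_eq_bot_iff_le_centralizer.1 hc hr) t ht).symm
    by_cases hRn : T ≤ normalizer (R : Set S)
    · exact hnorm hR hT hne hRn
    by_cases hTn : R ≤ normalizer (T : Set S)
    · intro r hr t ht
      exact (hnorm hT hR (Ne.symm hne) hTn t ht r hr).symm
    exfalso
    -- two conjugates of `R` (or of `T`) inside `X` lie in a proper subgroup, hence commute
    have hclass : ∀ {P : Subgroup S}, P ∈ Δ → P ≤ X → (¬ X ≤ P) → ∀ u ∈ X, ∀ v ∈ X,
        P.map (MulAut.conj u).toMonoidHom ≠ P.map (MulAut.conj v).toMonoidHom →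
        ∀ a ∈ P, ∀ b ∈ P, (u * a * u⁻¹) * (v * b * v⁻¹) = (v * b * v⁻¹) * (u * a * u⁻¹) := by
      intro P hP hPX hPne u hu v hv huv a ha b hb
      have hP' : P.subgroupOf X ≠ ⊤ := fun h => hPne (subgroupOf_eq_top.1 h)
      obtain ⟨M, hM, hle⟩ := (eq_top_or_exists_le_coatom (P.subgroupOf X)).resolve_left hP'
      haveI := Cfsg.Agent.PGroup.isCoatom_normal (hS.to_subgroup X) hM
      have hmem : ∀ w ∈ X, P.map (MulAut.conj w).toMonoidHom ≤ M.map X.subtype := by
        rintro w hw _ ⟨x, hx, rfl⟩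
        exact ⟨⟨w, hw⟩ * ⟨x, hPX hx⟩ * ⟨w, hw⟩⁻¹, Subgroup.Normal.conj_mem inferInstance _ (hle hx) _, rfl⟩
      have hcard : Nat.card ↥(M.map X.subtype) < Nat.card ↥X := by
        rw [card_map_of_injective X.subtype_injective]
        refine lt_of_le_of_ne (card_le_card_group M) fun h => hM.1 ?_
        exact eq_top_of_le_card M h.ge
      exact ih (M.map X.subtype) (by omega) _ (hinv u P hP) _ (hinv v P hP) (hmem u hu) (hmem v hv) huv
        _ ⟨a, ha, rfl⟩ _ ⟨b, hb, rfl⟩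
    have hXR : ¬ X ≤ R := fun h => hRn ((hTX.trans h).trans le_normalizer)
    have hXT : ¬ X ≤ T := fun h => hTn ((hRX.trans h).trans le_normalizer)
    have hself : ∀ (P : Subgroup S), P.map (MulAut.conj (1 : S)).toMonoidHom = P := fun P =>
      mem_normalizer_iff_map_conj_eq.1 (one_mem _)
    -- `t` outside the normaliser of `R` gives commuting conjugates
    have hRt : ∀ t ∈ T, t ∉ normalizer (R : Set S) → ∀ a ∈ R, ∀ b ∈ R,
        a * (t * b * t⁻¹) = (t * b * t⁻¹) * a := by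
      intro t ht htR a ha b hb
      have hne' : R.map (MulAut.conj (1 : S)).toMonoidHom ≠ R.map (MulAut.conj t).toMonoidHom := by
        rw [hself]; exact fun h => htR (mem_normalizer_iff_map_conj_eq.2 h.symm)
      simpa using hclass hR hRX hXR 1 (one_mem X) t (hTX ht) hne' a ha b hb
    have hTr : ∀ r ∈ R, r ∉ normalizer (T : Set S) → ∀ a ∈ T, ∀ b ∈ T,
        a * (r * b * r⁻¹) = (r * b * r⁻¹) * a := by
      intro r hr hrT a ha b hb
      have hne' : T.map (MulAut.conj (1 : S)).toMonoidHom ≠ T.map (MulAut.conj r).toMonoidHom := by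
        rw [hself]; exact fun h => hrT (mem_normalizer_iff_map_conj_eq.2 h.symm)
      simpa using hclass hT hTX hXT 1 (one_mem X) r (hRX hr) hne' a ha b hb
    obtain ⟨t₀, ht₀, ht₀R⟩ := SetLike.not_le_iff_exists.1 hRn
    obtain ⟨r₀, hr₀, hr₀T⟩ := SetLike.not_le_iff_exists.1 hTn
    -- an element outside `N_T(R)` whose square is inside
    obtain ⟨t, ht, htR, ht2⟩ : ∃ t ∈ T, t ∉ normalizer (R : Set S) ∧ t * t ∈ normalizer (R : Set S) := by
      obtain ⟨k, hk⟩ := hS t₀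
      have hex : ∃ j, t₀ ^ 2 ^ j ∈ normalizer (R : Set S) := ⟨k, hk ▸ one_mem _⟩
      classical
      obtain ⟨j, hj⟩ : ∃ j, Nat.find hex = j + 1 := by
        refine Nat.exists_eq_succ_of_ne_zero fun h => ht₀R ?_
        simpa [h] using Nat.find_spec hex
      refine ⟨t₀ ^ 2 ^ j, T.pow_mem ht₀ _, Nat.find_min hex (by omega), ?_⟩
      rw [← pow_add, ← two_mul, ← pow_succ', ← hj]
      exact Nat.find_spec hex
    -- the fundamental identity
    have hid : ∀ r ∈ R, r ∉ normalizer (T : Set S) →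
        (t * r * t⁻¹) * (t * t * r⁻¹ * (t * t)⁻¹) = r * (t * r⁻¹ * t⁻¹) := by
      intro r hr hrT
      have h := hTr r hr hrT t ht t ht
      calc (t * r * t⁻¹) * (t * t * r⁻¹ * (t * t)⁻¹) = t * (r * t * r⁻¹) * (t * t)⁻¹ := by group
        _ = (r * t * r⁻¹) * t * (t * t)⁻¹ := by rw [h]
        _ = r * (t * r⁻¹ * t⁻¹) := by group
    have hinvol : ∀ r ∈ R, r ∉ normalizer (T : Set S) → r * r = 1 ∧ (t * t) * r = r * (t * t) := by
      intro r hr hrT
      have hsR : ∀ a ∈ R, t * t * a * (t * t)⁻¹ ∈ R := fun a ha =>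
        (mem_normalizer_iff.1 ht2 a).1 ha
      have e := hid r hr hrT
      set B := t * t * r⁻¹ * (t * t)⁻¹ with hB
      have hBR : B ∈ R := hsR _ (R.inv_mem hr)
      have hAB : B * (t * r * t⁻¹) = (t * r * t⁻¹) * B := hRt t ht htR B hBR r hr
      have e2 : t * (r * r) * t⁻¹ = B⁻¹ * r := by
        calc t * (r * r) * t⁻¹ = B⁻¹ * (B * (t * r * t⁻¹) * (t * r * t⁻¹)) := by group
          _ = B⁻¹ * ((t * r * t⁻¹) * B * (t * r * t⁻¹)) := by rw [hAB]
          _ = B⁻¹ * (r * (t * r⁻¹ * t⁻¹) * (t * r * t⁻¹)) := by rw [e]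
          _ = B⁻¹ * r := by group
      have hone : r * r = 1 := by
        by_contra h1
        refine htR (mem_normalizer_iff_map_conj_eq.2 (hconjne hR t (r * r) (R.mul_mem hr hr) h1 ?_))
        rw [e2]
        exact R.mul_mem (R.inv_mem hBR) hr
      refine ⟨hone, ?_⟩
      have hri : r⁻¹ = r := inv_eq_of_mul_eq_one_right hone
      have h2 : B = r := by
        rw [← inv_mul_eq_one, ← e2, hone]; group
      rw [hB, hri] at h2
      exact mul_inv_eq_iff_eq_mul.1 h2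
    -- `R` has an element of order four normalising `T`
    have hR0 : ∀ r ∈ R, r ∉ normalizer (T : Set S) → r * r = 1 := fun r hr h => (hinvol r hr h).1
    obtain ⟨ρ, hρ, hρT, hρ2, hρ4⟩ : ∃ ρ ∈ R, ρ ∈ normalizer (T : Set S) ∧ ρ * ρ ≠ 1 ∧
        ρ * ρ * (ρ * ρ) = 1 := by
      obtain ⟨⟨x, hx⟩, hx2⟩ := exists_sq_ne_one (hΦ R hR)
      have hx2' : x ^ 2 ≠ 1 := fun h => hx2 (Subtype.ext h)
      obtain ⟨k, hk⟩ := hS x
      classical
      have hex : ∃ j, x ^ 2 ^ j = 1 := ⟨k, hk⟩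
      obtain ⟨j, hj⟩ : ∃ j, Nat.find hex = j + 2 := by
        refine ⟨Nat.find hex - 2, ?_⟩
        have h0 : Nat.find hex ≠ 0 := fun h => hx2' (by
          have := Nat.find_spec hex
          rw [h, pow_zero, pow_one] at this
          rw [this, one_pow])
        have h1 : Nat.find hex ≠ 1 := fun h => hx2' (by
          have := Nat.find_spec hex
          rwa [h, pow_one] at this)
        omega
      have hsq : x ^ 2 ^ j * x ^ 2 ^ j = x ^ 2 ^ (j + 1) := by
        rw [← pow_add, ← two_mul, ← pow_succ']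
      have hne : x ^ 2 ^ j * x ^ 2 ^ j ≠ 1 := by
        rw [hsq]; exact Nat.find_min hex (by omega)
      refine ⟨x ^ 2 ^ j, R.pow_mem hx _, ?_, hne, ?_⟩
      · by_contra h; exact hne (hR0 _ (R.pow_mem hx _) h)
      · rw [hsq, ← pow_add, ← two_mul, ← pow_succ', show j + 1 + 1 = Nat.find hex by omega]
        exact Nat.find_spec hex
    have hrr : r₀ * r₀ = 1 := hR0 r₀ hr₀ hr₀T
    have hr₀i : r₀⁻¹ = r₀ := inv_eq_of_mul_eq_one_right hrr
    have hinvρ : r₀ * ρ * r₀⁻¹ = ρ⁻¹ := by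
      have hnot : r₀ * ρ ∉ normalizer (T : Set S) := fun h => hr₀T (by
        simpa using (normalizer (T : Set S)).mul_mem h ((normalizer (T : Set S)).inv_mem hρT))
      have := hR0 _ (R.mul_mem hr₀ hρ) hnot
      rw [hr₀i]
      exact eq_inv_of_mul_eq_one_left (by rwa [← mul_assoc] at this)
    set y := t * ρ * t⁻¹ * ρ⁻¹ with hy
    have hyT : y ∈ T := by
      have : ρ * t⁻¹ * ρ⁻¹ ∈ T := (mem_normalizer_iff.1 hρT t⁻¹).1 (T.inv_mem ht)
      simpa [hy, mul_assoc] using T.mul_mem ht this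
    have c1 : Commute (t * ρ * t⁻¹) ρ := (hRt t ht htR ρ hρ ρ hρ).symm
    have c2 : Commute (t * ρ * t⁻¹) r₀ := (hRt t ht htR r₀ hr₀ ρ hρ).symm
    have hy' : r₀ * y * r₀⁻¹ = t * ρ * t⁻¹ * ρ := by
      calc r₀ * y * r₀⁻¹ = (r₀ * (t * ρ * t⁻¹)) * r₀⁻¹ * (r₀ * ρ * r₀⁻¹)⁻¹ := by rw [hy]; group
        _ = t * ρ * t⁻¹ * ρ := by rw [← c2.eq, hinvρ]; group
    have hq : ρ⁻¹ * ρ⁻¹ = ρ * ρ := by
      rw [← mul_inv_rev]; exact inv_eq_of_mul_eq_one_right hρ4
    have hsq : (r₀ * y * r₀⁻¹) * (r₀ * y * r₀⁻¹) = y * y := by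
      rw [hy', hy]
      have e1 : ∀ {a b : S}, Commute a b → a * b * (a * b) = a * a * (b * b) := fun {a b} h => by
        calc a * b * (a * b) = a * (b * a) * b := by group
          _ = a * (a * b) * b := by rw [h.eq]
          _ = a * a * (b * b) := by group
      rw [e1 c1, e1 c1.inv_right, hq]
    have hy1 : y * y = 1 := by
      have hne' : T.map (MulAut.conj r₀).toMonoidHom ⊓ T = ⊥ :=
        (hti _ (hinv r₀ T hT) T hT).resolve_left fun h => hr₀T (mem_normalizer_iff_map_conj_eq.2 h)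
      have hm : y * y ∈ T.map (MulAut.conj r₀).toMonoidHom ⊓ T :=
        ⟨⟨y * y, T.mul_mem hyT hyT, by
          change r₀ * (y * y) * r₀⁻¹ = y * y
          conv_rhs => rw [← hsq]
          group⟩, T.mul_mem hyT hyT⟩
      rwa [hne', mem_bot] at hm
    refine htR (mem_normalizer_iff_map_conj_eq.2
      (hconjne hR t (ρ * ρ) (R.mul_mem hρ hρ) hρ2 ?_))
    have : t * (ρ * ρ) * t⁻¹ = ρ * ρ := by
      calc t * (ρ * ρ) * t⁻¹ = y * y * (ρ * ρ) := by
            rw [hy]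
            calc t * (ρ * ρ) * t⁻¹ = (t * ρ * t⁻¹) * (t * ρ * t⁻¹) := by group
              _ = (t * ρ * t⁻¹) * ρ⁻¹ * ρ * (t * ρ * t⁻¹) := by group
              _ = (t * ρ * t⁻¹) * ρ⁻¹ * ((t * ρ * t⁻¹) * ρ) := by rw [c1.eq]; group
              _ = _ := by group
        _ = ρ * ρ := by rw [hy1, one_mul]
    rw [this]
    exact R.mul_mem hρ hρ

/-- Let S be a finite 2-group and Δ a set of subgroups of S closed under conjugation by S, all of the same order, each with nontrivial Frattini subgroup, and such that two distinct members of Δ meet trivially. Then any two distinct members of Δ commute elementwise. -/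
theorem result {S : Type*} [Group S] [Finite S] (hS : IsPGroup 2 S)
    (Δ : Set (Subgroup S)) (hinv : ∀ s : S, ∀ R ∈ Δ, R.map (MulAut.conj s).toMonoidHom ∈ Δ)
    (hΦ : ∀ R ∈ Δ, frattini ↥R ≠ ⊥) (hord : ∀ R ∈ Δ, ∀ T ∈ Δ, Nat.card ↥R = Nat.card ↥T)
    (hti : ∀ R ∈ Δ, ∀ T ∈ Δ, R = T ∨ R ⊓ T = ⊥) :
    ∀ R ∈ Δ, ∀ T ∈ Δ, R ≠ T → ⁅R, T⁆ = ⊥ := by
  intro R hR T hT hne
  rw [Subgroup.commutator_eq_bot_iff_le_centralizer]
  intro r hr t ht
  exact (key hS Δ hinv hΦ hord hti _ ⊤ le_rfl R hR T hT le_top le_top hne r hr t ht).symm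

end Cfsg.Agent.S1782
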