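import Cfsg.Statements.S1783
import Cfsg.Agent.S1782
import Cfsg.Agent.Lib.Coprime.Frattini
import Cfsg.Agent.Lib.Cores.Basic
import Cfsg.Agent.Lib.Symplectic.GFit

set_option autoImplicit false
open Cfsg

namespace Cfsg.Agent.S1783

open Subgroup

/-- Conjugates of a TI 2-subgroup of exponent above two inside a 2-subgroup commute elementwise. -/
theorem commute_conjugates {X : Type*} [Group X] [Finite X] (A : Subgroup X) (hAa : IsMulCommutative ↥A)
    (hti : ∀ h : X, A.map (MulAut.conj h).toMonoidHom = A ∨ A.map (MulAut.conj h).toMonoidHom ⊓ A = ⊥)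
    (hA : ∃ a ∈ A, a ^ 2 ≠ 1) (S : Subgroup X) (hS : IsPGroup 2 ↥S)
    (x y : X) (hx : A.map (MulAut.conj x).toMonoidHom ≤ S) (hy : A.map (MulAut.conj y).toMonoidHom ≤ S) :
    ∀ a ∈ A, ∀ b ∈ A, (x * a * x⁻¹) * (y * b * y⁻¹) = (y * b * y⁻¹) * (x * a * x⁻¹) := by
  intro a ha b hb
  let Δ : Set (Subgroup ↥S) := {R | ∃ u : X, R.map S.subtype = A.map (MulAut.conj u).toMonoidHom}
  have hcomp : ∀ u v : X, (A.map (MulAut.conj u).toMonoidHom).map (MulAut.conj v).toMonoidHom =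
      A.map (MulAut.conj (v * u)).toMonoidHom := fun u v => by
    rw [map_map]; congr 1; ext z; simp [mul_assoc]
  have hinv : ∀ s : ↥S, ∀ R ∈ Δ, R.map (MulAut.conj s).toMonoidHom ∈ Δ := by
    rintro s R ⟨u, hu⟩
    refine ⟨s * u, ?_⟩
    rw [← hcomp, ← hu, map_map, map_map]
    rfl
  have hord : ∀ R ∈ Δ, ∀ T ∈ Δ, Nat.card ↥R = Nat.card ↥T := by
    rintro R ⟨u, hu⟩ T ⟨v, hv⟩
    have e : ∀ (R : Subgroup ↥S) (u : X), R.map S.subtype = A.map (MulAut.conj u).toMonoidHom →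
        Nat.card ↥R = Nat.card ↥A := fun R u hu => by
      rw [← card_map_of_injective S.subtype_injective, hu,
        card_map_of_injective (MulAut.conj u).injective]
    rw [e R u hu, e T v hv]
  have hti' : ∀ R ∈ Δ, ∀ T ∈ Δ, R = T ∨ R ⊓ T = ⊥ := by
    rintro R ⟨u, hu⟩ T ⟨v, hv⟩
    have e : A.map (MulAut.conj u).toMonoidHom = (A.map (MulAut.conj (v⁻¹ * u)).toMonoidHom).map (MulAut.conj v).toMonoidHom := by
      rw [hcomp, mul_inv_cancel_left]
    rcases hti (v⁻¹ * u) with h | h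
    · left
      apply map_injective S.subtype_injective
      rw [hu, hv, e, h]
    · right
      apply map_injective S.subtype_injective
      rw [map_inf _ _ _ S.subtype_injective, hu, hv, e,
        ← map_inf _ _ _ (MulAut.conj v).injective, h, Subgroup.map_bot, Subgroup.map_bot]
  have hΦ : ∀ R ∈ Δ, frattini ↥R ≠ ⊥ := by
    rintro R ⟨u, hu⟩ h0
    obtain ⟨c, hc, hc2⟩ := hA
    obtain ⟨r, hr, hrc⟩ : u * c * u⁻¹ ∈ R.map S.subtype := hu ▸ ⟨c, hc, rfl⟩
    haveI := Fact.mk Nat.prime_two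
    have hm := Cfsg.Agent.PGroup.pow_mem_frattini (G := ↥R) (hS.to_subgroup R) ⟨r, hr⟩
    rw [h0, mem_bot] at hm
    apply hc2
    have e : (u * c * u⁻¹) ^ 2 = 1 := by
      rw [← hrc, ← map_pow]
      rw [show r ^ 2 = 1 from congrArg Subtype.val hm, map_one]
    rw [conj_pow, conj_eq_one_iff] at e
    exact e
  have hmem : ∀ u : X, A.map (MulAut.conj u).toMonoidHom ≤ S →
      (A.map (MulAut.conj u).toMonoidHom).subgroupOf S ∈ Δ := fun u hu =>
    ⟨u, map_subgroupOf_eq_of_le hu⟩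
  by_cases heq : (A.map (MulAut.conj x).toMonoidHom).subgroupOf S = (A.map (MulAut.conj y).toMonoidHom).subgroupOf S
  · have h := congrArg (Subgroup.map S.subtype) heq
    rw [map_subgroupOf_eq_of_le hx, map_subgroupOf_eq_of_le hy] at h
    obtain ⟨b', hb', he⟩ : y * b * y⁻¹ ∈ A.map (MulAut.conj x).toMonoidHom := h ▸ ⟨b, hb, rfl⟩
    rw [← he]
    change (MulAut.conj x) a * (MulAut.conj x) b' = (MulAut.conj x) b' * (MulAut.conj x) a
    have e2 : a * b' = b' * a := congrArg Subtype.val (hAa.is_comm.comm ⟨a, ha⟩ ⟨b', hb'⟩)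
    rw [← map_mul, ← map_mul, e2]
  · have h := Cfsg.Agent.S1782.key hS Δ hinv hΦ hord hti' _ ⊤ le_rfl _ (hmem x hx) _ (hmem y hy)
      le_top le_top heq ⟨_, hx ⟨a, ha, rfl⟩⟩ ⟨a, ha, rfl⟩ ⟨_, hy ⟨b, hb, rfl⟩⟩ ⟨b, hb, rfl⟩
    exact congrArg Subtype.val h

/-- Let X be a finite group whose generalized Fitting subgroup equals its largest normal 2-subgroup Q, and let A be an abelian 2-subgroup of X such that every conjugate of A equals A or meets A trivially. Let B be the subgroup generated by the squares of the elements of A. Then B lies in Q, and if B is not an elementary abelian 2-group then the normal closure of B in X is commutative. -/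
theorem result {X : Type*} [Group X] [Finite X]
    (hX : Cfsg.generalizedFittingSubgroup X = Cfsg.pCore 2 X) (A : Subgroup X) (hA2 : IsPGroup 2 ↥A) (hAa : IsMulCommutative ↥A)
    (hti : ∀ h : X, A.map (MulAut.conj h).toMonoidHom = A ∨ A.map (MulAut.conj h).toMonoidHom ⊓ A = ⊥) :
    Subgroup.closure ((fun a : X => a ^ 2) '' (A : Set X)) ≤ Cfsg.pCore 2 X ∧
      (¬ Cfsg.IsElementaryAbelian 2 (Subgroup.closure ((fun a : X => a ^ 2) '' (A : Set X))) →
        IsMulCommutative ↥(Subgroup.normalClosure ((fun a : X => a ^ 2) '' (A : Set X)))) := by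
  set Q := Cfsg.pCore 2 X with hQdef
  set B := Subgroup.closure ((fun a : X => a ^ 2) '' (A : Set X)) with hBdef
  haveI := Fact.mk Nat.prime_two
  have hQ2 : IsPGroup 2 ↥Q := Cfsg.Agent.Cores.isPGroup_pCore 2 X
  have hcent : Subgroup.centralizer (Q : Set X) ≤ Q := by
    have h := Cfsg.Agent.Symplectic.centralizer_generalizedFitting_le X
    rwa [hX] at h
  have hAc : ∀ a ∈ A, ∀ b ∈ A, a * b = b * a := fun a ha b hb =>
    congrArg Subtype.val (hAa.is_comm.comm ⟨a, ha⟩ ⟨b, hb⟩)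
  -- the squares lie in `Q`
  have hsqQ : ∀ a ∈ A, a ^ 2 ∈ Q := by
    intro a₀ ha₀
    by_cases hex : ∃ a ∈ A, a ^ 2 ≠ 1
    swap
    · push Not at hex
      rw [hex a₀ ha₀]
      exact one_mem Q
    let Φ := (frattini ↥Q).map Q.subtype
    haveI hΦn : Φ.Normal := Cfsg.Agent.Cores.map_subtype_normal_of_characteristic Q (frattini ↥Q)
    let K : Subgroup X :=
      { carrier := {x | ∀ q ∈ Q, x * q * x⁻¹ * q⁻¹ ∈ Φ}
        one_mem' := fun q _ => by simp
        mul_mem' := fun {x y} hx hy q hq => by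
          have h1 := hΦn.conj_mem _ (hy q hq) x
          have h2 := hx q hq
          simpa [mul_assoc] using Φ.mul_mem h1 h2
        inv_mem' := fun {x} hx q hq => by
          have h1 := hx (x⁻¹ * q * x) (by simpa using (inferInstance : Q.Normal).conj_mem q hq x⁻¹)
          simpa [mul_assoc] using Φ.inv_mem h1 }
    have hKn : K.Normal := ⟨fun x hx g q hq => by
      have h1 := hx (g⁻¹ * q * g) (by simpa using (inferInstance : Q.Normal).conj_mem q hq g⁻¹)
      simpa [mul_assoc] using hΦn.conj_mem _ h1 g⟩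
    have hK2 : IsPGroup 2 ↥K := by
      refine IsPGroup.of_card (n := (Nat.card ↥K).primeFactorsList.length)
        (Nat.eq_prime_pow_of_unique_prime_dvd Nat.card_pos.ne' ?_)
      intro r hr hdvd
      by_contra hr2
      haveI := Fact.mk hr
      obtain ⟨⟨x, hx⟩, hxo⟩ := exists_prime_orderOf_dvd_card' (p := r) hdvd
      rw [← Subgroup.orderOf_coe] at hxo
      have hcop : (Nat.card ↥(Subgroup.zpowers x)).Coprime (Nat.card ↥(frattini ↥Q)) := by
        obtain ⟨n, hn⟩ := IsPGroup.iff_card.1 (hQ2.to_subgroup (frattini ↥Q))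
        rw [hn, Nat.card_zpowers, hxo]
        exact Nat.Coprime.pow_right _ ((Nat.coprime_primes hr Nat.prime_two).2 hr2)
      have hle := Cfsg.Agent.Coprime.le_centralizer_of_forall_mem_frattini (A := Subgroup.zpowers x) (K := Q)
        (by rw [Subgroup.normalizer_eq_top]; exact le_top) hcop
        (fun y hy q hq => ((Subgroup.zpowers_le.2 hx : Subgroup.zpowers x ≤ K) hy) q hq)
      have hxQ : x ∈ Q := hcent (hle (Subgroup.mem_zpowers x))
      have hd : r ∣ Nat.card ↥Q := by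
        rw [← hxo, ← Subgroup.orderOf_mk x hxQ]
        exact orderOf_dvd_natCard _
      obtain ⟨n, hn⟩ := IsPGroup.iff_card.1 hQ2
      rw [hn] at hd
      exact hr2 ((Nat.prime_dvd_prime_iff_eq hr Nat.prime_two).1 (hr.dvd_of_dvd_pow hd))
    refine (Cfsg.Agent.Cores.le_pCore hKn hK2) ?_
    intro q hq
    -- quadratic action of `A` on `Q`
    set S := Q ⊔ A with hSdef
    have hS : IsPGroup 2 ↥S := IsPGroup.to_sup_of_normal_left hQ2 hA2
    have hqA : A.map (MulAut.conj q).toMonoidHom ≤ S := by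
      rintro _ ⟨c, hc, rfl⟩
      exact S.mul_mem (S.mul_mem (Subgroup.mem_sup_left hq) (Subgroup.mem_sup_right hc))
        (S.inv_mem (Subgroup.mem_sup_left hq))
    have h1A : A.map (MulAut.conj (1 : X)).toMonoidHom ≤ S := by
      rintro _ ⟨c, hc, rfl⟩
      simpa using (Subgroup.mem_sup_right hc : c ∈ S)
    have hcomm : Commute a₀ (q * a₀⁻¹ * q⁻¹) := by
      have h := commute_conjugates A hAa hti hex S hS 1 q h1A hqA a₀ ha₀ a₀⁻¹ (A.inv_mem ha₀)
      simpa [Commute, SemiconjBy] using h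
    have hcQ : a₀ * (q * a₀⁻¹ * q⁻¹) ∈ Q := by
      have h := Q.mul_mem ((inferInstance : Q.Normal).conj_mem q hq a₀) (Q.inv_mem hq)
      simpa [mul_assoc] using h
    have e : a₀ ^ 2 * q * (a₀ ^ 2)⁻¹ * q⁻¹ = (a₀ * (q * a₀⁻¹ * q⁻¹)) ^ 2 := by
      rw [hcomm.mul_pow, pow_two, pow_two]; group
    rw [e]
    exact ⟨_, Cfsg.Agent.PGroup.pow_mem_frattini hQ2 ⟨_, hcQ⟩, rfl⟩
  have hBQ : B ≤ Q := by
    rw [hBdef, Subgroup.closure_le]
    rintro _ ⟨a, ha, rfl⟩
    exact hsqQ a ha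
  refine ⟨hBQ, fun hB => ?_⟩
  have hBA : B ≤ A := by
    rw [hBdef, Subgroup.closure_le]
    rintro _ ⟨a, ha, rfl⟩
    exact A.pow_mem ha 2
  obtain ⟨b₀, hb₀, hb₀2⟩ : ∃ b ∈ B, b ^ 2 ≠ 1 := by
    by_contra h
    push Not at h
    exact hB ⟨⟨⟨fun u v => Subtype.ext (hAc _ (hBA u.2) _ (hBA v.2))⟩⟩, h⟩
  -- the conjugates of `A ⊓ Q` inside `Q` commute
  have hA0 : ∀ h : X, (A ⊓ Q).map (MulAut.conj h).toMonoidHom = A ⊓ Q ∨
      (A ⊓ Q).map (MulAut.conj h).toMonoidHom ⊓ (A ⊓ Q) = ⊥ := by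
    intro h
    rcases hti h with e | e
    · left
      rw [Subgroup.map_inf _ _ _ (MulAut.conj h).injective, e]
      congr 1
      exact Subgroup.mem_normalizer_iff_map_conj_eq.1 (Subgroup.normalizer_eq_top Q ▸ Subgroup.mem_top h)
    · right
      rw [eq_bot_iff, ← e]
      exact inf_le_inf (Subgroup.map_mono inf_le_left) inf_le_left
  have hcl : ∀ x : X, (A ⊓ Q).map (MulAut.conj x).toMonoidHom ≤ Q := by
    rintro x _ ⟨c, hc, rfl⟩
    exact (inferInstance : Q.Normal).conj_mem c hc.2 x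
  have hcomm := fun x y => commute_conjugates (A ⊓ Q)
    ⟨⟨fun u v => Subtype.ext (hAc _ u.2.1 _ v.2.1)⟩⟩ hA0 ⟨b₀, ⟨hBA hb₀, hBQ hb₀⟩, hb₀2⟩ Q hQ2 x y (hcl x) (hcl y)
  refine Subgroup.isMulCommutative_closure ?_
  intro u hu v hv
  obtain ⟨_, ⟨a, ha, rfl⟩, hu'⟩ := Group.mem_conjugatesOfSet_iff.1 hu
  obtain ⟨_, ⟨c, hc, rfl⟩, hv'⟩ := Group.mem_conjugatesOfSet_iff.1 hv
  obtain ⟨x, rfl⟩ := isConj_iff.1 hu'
  obtain ⟨y, rfl⟩ := isConj_iff.1 hv'
  exact hcomm x y _ ⟨A.pow_mem ha 2, hsqQ a ha⟩ _ ⟨A.pow_mem hc 2, hsqQ c hc⟩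

end Cfsg.Agent.S1783
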