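import Cfsg.Statements.S1784
import Cfsg.Agent.Lib.Symplectic.Basic
import Cfsg.Agent.Lib.Symplectic.Extraspecial
import Cfsg.Agent.Lib.Symplectic.GFit

set_option autoImplicit false
open Cfsg
open scoped commutatorElement

namespace Cfsg.Agent.S1784

open Subgroup in
/-- The displacement subgroup of an involutory automorphism is the centre of its centralised part. -/
theorem closure_eq {T : Type*} [Group T] [Finite T] (hT : Cfsg.IsExtraspecial 2 T) (φ : MulAut T)
    (hφ : ∀ q, φ (φ q) = q) (hne : ∃ q, φ q ≠ q) (K : Subgroup T)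
    (hK : ∀ q, q ∈ K ↔ φ q * q⁻¹ ∈ center T) :
    closure (Set.range fun q => φ q * q⁻¹) = K ⊓ centralizer (K : Set T) := by
  set W := closure (Set.range fun q => φ q * q⁻¹) with hW
  have hc : ∀ a b : T, ⁅a, b⁆ ∈ center T := fun a b =>
    hT.1.2.2 ▸ commutator_mem_commutator (mem_top a) (mem_top b)
  have huniq : ∀ a ∈ center T, ∀ b ∈ center T, a ≠ 1 → b ≠ 1 → a = b := by
    intro a ha b hb ha1 hb1
    obtain ⟨x, y, -, huniv⟩ := Nat.card_eq_two_iff.1 hT.2
    have h : ∀ u : ↥(center T), u = x ∨ u = y := fun u => by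
      simpa using Set.eq_univ_iff_forall.1 huniv u
    rcases h 1 with h1 | h1 <;> rcases h ⟨a, ha⟩ with h2 | h2 <;> rcases h ⟨b, hb⟩ with h3 | h3 <;>
      first
        | exact congrArg Subtype.val (h2.trans h3.symm)
        | exact absurd (congrArg Subtype.val (h2.trans h1.symm)) ha1
        | exact absurd (congrArg Subtype.val (h3.trans h1.symm)) hb1
  have hfix : ∀ k ∈ center T, φ k = k := by
    intro k hk
    by_cases h1 : k = 1
    · rw [h1, map_one]
    refine huniq _ ?_ _ hk (fun h => h1 ((MulEquiv.map_eq_one_iff φ).1 h)) h1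
    refine mem_center_iff.2 fun x => ?_
    rw [← φ.apply_symm_apply x, ← map_mul, ← map_mul, mem_center_iff.1 hk]
  -- the centraliser of `W` is `K`
  have hKW : centralizer (W : Set T) = K := by
    have hiff : ∀ q, q ∈ K ↔ ∀ r, q * (φ r * r⁻¹) = φ r * r⁻¹ * q := by
      intro q
      rw [hK]
      constructor
      · intro hk r
        have h1 : ⁅q, φ r⁆ = ⁅q, r⁆ := by
          have e := hfix _ (hc q r)
          rw [map_commutatorElement] at e
          rw [← e, show φ q = φ q * q⁻¹ * q from (inv_mul_cancel_right _ _).symm]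
          simp only [commutatorElement_def]
          calc q * φ r * q⁻¹ * (φ r)⁻¹
              = q * φ r * q⁻¹ * (φ q * q⁻¹) * (φ q * q⁻¹)⁻¹ * (φ r)⁻¹ := by group
            _ = φ q * q⁻¹ * (q * φ r * q⁻¹) * (φ q * q⁻¹)⁻¹ * (φ r)⁻¹ := by
                rw [mem_center_iff.1 hk]
            _ = _ := by group
        calc q * (φ r * r⁻¹) = ⁅q, φ r⁆ * φ r * (r⁻¹ * ⁅q, r⁆⁻¹) * q := by
              simp only [commutatorElement_def]; group
          _ = ⁅q, φ r⁆ * φ r * (⁅q, r⁆⁻¹ * r⁻¹) * q := by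
              rw [mem_center_iff.1 (inv_mem (hc q r))]
          _ = ⁅q, φ r⁆ * (φ r * ⁅q, r⁆⁻¹) * r⁻¹ * q := by group
          _ = φ r * r⁻¹ * q := by rw [mem_center_iff.1 (inv_mem (hc q r)), h1]; group
      · intro h
        have key : ∀ r, ⁅φ q, φ r⁆ = ⁅q, φ r⁆ := by
          intro r
          rw [← map_commutatorElement, hfix _ (hc q r)]
          symm
          calc ⁅q, φ r⁆ = q * (φ r * r⁻¹) * r * q⁻¹ * (φ r)⁻¹ := by
                simp only [commutatorElement_def]; group
            _ = φ r * r⁻¹ * (⁅q, r⁆ * r) * (φ r)⁻¹ := by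
                rw [h r]; simp only [commutatorElement_def]; group
            _ = φ r * r⁻¹ * (r * ⁅q, r⁆) * (φ r)⁻¹ := by rw [mem_center_iff.1 (hc q r)]
            _ = φ r * ⁅q, r⁆ * (φ r)⁻¹ := by group
            _ = ⁅q, r⁆ := by rw [mem_center_iff.1 (hc q r)]; group
        have h2 : q⁻¹ * φ q ∈ center T := mem_center_iff.2 fun s => by
          have e := key (φ s)
          rw [hφ] at e
          have e' : φ q * s * (φ q)⁻¹ = q * s * q⁻¹ := by
            simpa [commutatorElement_def] using e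
          calc s * (q⁻¹ * φ q) = q⁻¹ * (q * s * q⁻¹) * φ q := by group
            _ = q⁻¹ * (φ q * s * (φ q)⁻¹) * φ q := by rw [e']
            _ = q⁻¹ * φ q * s := by group
        have h3 := mem_center_iff.1 h2 q
        rw [mul_inv_cancel_left] at h3
        have : φ q * q⁻¹ = q⁻¹ * φ q := by
          rw [mul_inv_eq_iff_eq_mul]; exact h3
        rw [this]; exact h2
    ext q
    rw [hiff, hW, centralizer_closure, mem_centralizer_iff]
    exact ⟨fun h r => (h _ ⟨r, rfl⟩).symm, by rintro h _ ⟨r, rfl⟩; exact (h r).symm⟩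
  -- `W` contains the centre
  have hZW : center T ≤ W := by
    intro k hk
    by_contra hkW
    have htriv : ∀ a ∈ W, a ∈ center T → a = 1 := fun a ha hac => by
      by_contra ha1
      exact hkW (huniq a hac k hk ha1 (fun h => hkW (h ▸ one_mem W)) ▸ ha)
    obtain ⟨q, hq⟩ := hne
    apply hq
    have hmem : ∀ r, φ r * r⁻¹ ∈ W := fun r => subset_closure ⟨r, rfl⟩
    have hcq : φ q * q⁻¹ ∈ center T := mem_center_iff.2 fun r => by
      have hr : r * (φ q * q⁻¹) * r⁻¹ ∈ W := by
        have := W.mul_mem (W.inv_mem (hmem r)) (hmem (r * q))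
        simpa [mul_assoc] using this
      have := htriv ⁅r, φ q * q⁻¹⁆ (by
        rw [commutatorElement_def]; exact W.mul_mem hr (W.inv_mem (hmem q))) (hc _ _)
      exact commutatorElement_eq_one_iff_mul_comm.1 this
    exact mul_inv_eq_one.1 (htriv _ (hmem q) hcq)
  have hWK : W ≤ K := by
    rw [hW, closure_le]
    rintro _ ⟨r, rfl⟩
    rw [SetLike.mem_coe, hK, map_mul, map_inv, hφ, mul_inv_rev, inv_inv]
    simpa [mul_assoc] using Cfsg.Agent.Symplectic.sq_mem_center hT (r * (φ r)⁻¹)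
  have hCK : centralizer (K : Set T) = W := by
    rw [← hKW]; exact Cfsg.Agent.Symplectic.centralizer_centralizer hT hZW
  rw [hCK]
  exact (inf_eq_right.2 hWK).symm

theorem aux {G : Type*} [Group G] [Finite G] (z : G) (hz : orderOf z = 2)
    (F : Subgroup ↥(Subgroup.centralizer ({z} : Set G))) [F.Normal]
    (hzF : (⟨z, Subgroup.mem_centralizer_singleton_iff.2 rfl⟩ : ↥(Subgroup.centralizer ({z} : Set G))) ∈ F)
    (hFC : Subgroup.centralizer (F : Set ↥(Subgroup.centralizer ({z} : Set G))) ≤ F)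
    (hE : Cfsg.IsExtraspecial 2 ↥F) (α : G) (hα : orderOf α = 2)
    (hαC : α ∈ Subgroup.centralizer ({z} : Set G))
    (hαQ : α ∉ F.map (Subgroup.centralizer ({z} : Set G)).subtype)
    (Q₀ : Subgroup G) (hQ₀ : ∀ q : G, q ∈ Q₀ ↔
      (q ∈ F.map (Subgroup.centralizer ({z} : Set G)).subtype ∧ α * q * α⁻¹ * q⁻¹ ∈ Subgroup.zpowers z)) :
    Subgroup.closure ((fun q : G => α * q * α⁻¹ * q⁻¹) '' (F.map (Subgroup.centralizer ({z} : Set G)).subtype : Set G)) =
      (Subgroup.center ↥Q₀).map Q₀.subtype := by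
  let ι : ↥F →* G := (Subgroup.centralizer ({z} : Set G)).subtype.comp F.subtype
  have hιinj : Function.Injective ι :=
    (Subgroup.centralizer ({z} : Set G)).subtype_injective.comp F.subtype_injective
  have hrange : ι.range = F.map (Subgroup.centralizer ({z} : Set G)).subtype := by
    rw [MonoidHom.range_comp, Subgroup.range_subtype]
  rw [← hrange] at hαQ hQ₀ ⊢
  let φ : MulAut ↥F := MulAut.conjNormal ⟨α, hαC⟩
  have hφ : ∀ q : ↥F, ι (φ q) = α * ι q * α⁻¹ := fun q => rfl
  have hα2 : α * α = 1 := by rw [← pow_two, ← hα]; exact pow_orderOf_eq_one α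
  have hφφ : ∀ q, φ (φ q) = q := fun q => hιinj (by
    rw [hφ, hφ]
    calc α * (α * ι q * α⁻¹) * α⁻¹ = (α * α) * ι q * (α * α)⁻¹ := by group
      _ = ι q := by rw [hα2, one_mul, inv_one, mul_one])
  have hne : ∃ q, φ q ≠ q := by
    by_contra h
    push Not at h
    refine hαQ ⟨⟨⟨α, hαC⟩, hFC fun q hq => ?_⟩, rfl⟩
    have e := congrArg ι (h ⟨q, hq⟩)
    rw [hφ, mul_inv_eq_iff_eq_mul] at e
    exact Subtype.ext e.symm
  -- the centre of `F` is generated by `z`
  have hcent : ∀ q : ↥F, q ∈ Subgroup.center ↥F ↔ ι q ∈ Subgroup.zpowers z := by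
    have hzc : (⟨_, hzF⟩ : ↥F) ∈ Subgroup.center ↥F := Subgroup.mem_center_iff.2 fun q =>
      Subtype.ext (Subgroup.mem_center_iff.1 (Cfsg.Agent.Symplectic.self_mem_center z) q.1)
    have hord : orderOf (⟨_, hzF⟩ : ↥F) = 2 := by
      rw [← orderOf_injective ι hιinj]; exact hz
    have hZ : Subgroup.zpowers (⟨_, hzF⟩ : ↥F) = Subgroup.center ↥F := by
      refine Subgroup.eq_of_le_of_card_ge (Subgroup.zpowers_le.2 hzc) ?_
      rw [Nat.card_zpowers, hord, hE.2]
    intro q
    rw [← hZ]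
    have : Subgroup.zpowers z = (Subgroup.zpowers (⟨_, hzF⟩ : ↥F)).map ι := by
      rw [MonoidHom.map_zpowers]; rfl
    rw [this]
    exact ⟨fun h => Subgroup.mem_map_of_mem ι h, fun ⟨r, hr, e⟩ => hιinj e ▸ hr⟩
  have hK : ∀ q : ↥F, q ∈ Q₀.comap ι ↔ φ q * q⁻¹ ∈ Subgroup.center ↥F := by
    intro q
    rw [Subgroup.mem_comap, hQ₀, hcent, map_mul, map_inv, hφ]
    exact ⟨fun h => h.2, fun h => ⟨⟨q, rfl⟩, h⟩⟩
  have key := congrArg (Subgroup.map ι) (closure_eq hE φ hφφ hne _ hK)
  rw [MonoidHom.map_closure] at key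
  have hset : (fun q : G => α * q * α⁻¹ * q⁻¹) '' (ι.range : Set G) =
      ι '' (Set.range fun q => φ q * q⁻¹) := by
    rw [MonoidHom.coe_range, ← Set.range_comp, ← Set.range_comp]
    congr 1
  rw [hset, key]
  ext x
  constructor
  · rintro ⟨q, ⟨hq, hqc⟩, rfl⟩
    refine ⟨⟨ι q, hq⟩, Subgroup.mem_center_iff.2 fun r => Subtype.ext ?_, rfl⟩
    obtain ⟨r', hr'⟩ := ((hQ₀ r).1 r.2).1
    have hr : r' ∈ Q₀.comap ι := by rw [Subgroup.mem_comap, hr']; exact r.2
    change (r : G) * ι q = ι q * (r : G)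
    rw [← hr', ← map_mul, ← map_mul, hqc r' hr]
  · rintro ⟨⟨r, hr⟩, hrc, rfl⟩
    obtain ⟨q, rfl⟩ := ((hQ₀ r).1 hr).1
    refine ⟨q, ⟨hr, fun s hs => hιinj ?_⟩, rfl⟩
    rw [map_mul, map_mul]
    exact congrArg Subtype.val (Subgroup.mem_center_iff.1 hrc ⟨ι s, hs⟩)

/-- Let G be a finite group and let z be an involution of G such that Q, the generalized Fitting subgroup of the centralizer C of z, is a 2-group of symplectic type (every characteristic abelian subgroup of Q is cyclic); suppose Q is extraspecial, and view Q inside G. Let α be an involution of C that is not in Q, and let Q₀ be the subgroup of those q ∈ Q whose commutator with α lies in the subgroup generated by z. Then (a) the subgroup generated by the commutators α q α⁻¹ q⁻¹, q ∈ Q, equals the centre of Q₀; and (b) if Q₀ is not contained in the product of the centralizer of α in Q with the subgroup generated by z, then some element of Q conjugates α to α z. -/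
theorem result {G : Type*} [Group G] [Finite G] (z : G) (hz : orderOf z = 2) (hQ : Cfsg.IsOfSymplecticType ↥(Cfsg.generalizedFittingSubgroup ↥(Subgroup.centralizer ({z} : Set G)))) (hE : Cfsg.IsExtraspecial 2 ↥(Cfsg.generalizedFittingSubgroup ↥(Subgroup.centralizer ({z} : Set G))))
    (α : G) (hα : orderOf α = 2) (hαC : α ∈ Subgroup.centralizer ({z} : Set G)) (hαQ : α ∉ (Cfsg.generalizedFittingSubgroup ↥(Subgroup.centralizer ({z} : Set G))).map (Subgroup.centralizer ({z} : Set G)).subtype)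
    (Q₀ : Subgroup G) (hQ₀ : ∀ q : G, q ∈ Q₀ ↔ (q ∈ (Cfsg.generalizedFittingSubgroup ↥(Subgroup.centralizer ({z} : Set G))).map (Subgroup.centralizer ({z} : Set G)).subtype ∧ α * q * α⁻¹ * q⁻¹ ∈ Subgroup.zpowers z)) :
    Subgroup.closure ((fun q : G => α * q * α⁻¹ * q⁻¹) '' ((Cfsg.generalizedFittingSubgroup ↥(Subgroup.centralizer ({z} : Set G))).map (Subgroup.centralizer ({z} : Set G)).subtype : Set G)) = (Subgroup.center ↥Q₀).map Q₀.subtype ∧
      (¬ Q₀ ≤ ((Cfsg.generalizedFittingSubgroup ↥(Subgroup.centralizer ({z} : Set G))).map (Subgroup.centralizer ({z} : Set G)).subtype ⊓ Subgroup.centralizer ({α} : Set G)) ⊔ Subgroup.zpowers z →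
        ∃ q ∈ (Cfsg.generalizedFittingSubgroup ↥(Subgroup.centralizer ({z} : Set G))).map (Subgroup.centralizer ({z} : Set G)).subtype, q * α * q⁻¹ = α * z) := by
  haveI := Cfsg.Agent.Symplectic.generalizedFitting_normal ↥(Subgroup.centralizer ({z} : Set G))
  refine ⟨aux z hz _ (Cfsg.Agent.Symplectic.center_le_generalizedFitting _
    (Cfsg.Agent.Symplectic.self_mem_center z)) (Cfsg.Agent.Symplectic.centralizer_generalizedFitting_le _) hE α hα hαC hαQ Q₀ hQ₀, ?_⟩
  intro h
  obtain ⟨q, hq, hq'⟩ := SetLike.not_le_iff_exists.1 h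
  obtain ⟨hqQ, k, hk⟩ := (hQ₀ q).1 hq
  refine ⟨q, hqQ, ?_⟩
  have hz2 : z ^ (2 : ℤ) = 1 := by rw [zpow_two, ← pow_two, ← hz]; exact pow_orderOf_eq_one z
  have hαi : α⁻¹ = α := by
    refine inv_eq_of_mul_eq_one_right ?_
    rw [← pow_two, ← hα]; exact pow_orderOf_eq_one α
  rcases Int.even_or_odd' k with ⟨m, rfl | rfl⟩
  · exfalso
    refine hq' (Subgroup.mem_sup_left ⟨hqQ, Subgroup.mem_centralizer_singleton_iff.2 ?_⟩)
    replace hk : z ^ (2 * m) = α * q * α⁻¹ * q⁻¹ := hk
    rw [zpow_mul, hz2, one_zpow] at hk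
    exact (mul_inv_eq_iff_eq_mul.1 (mul_inv_eq_one.1 hk.symm)).symm
  · have hk' : α * q * α⁻¹ * q⁻¹ = z := by
      rw [← hk]
      change z ^ (2 * m + 1) = z
      rw [zpow_add_one, zpow_mul, hz2, one_zpow, one_mul]
    have hzα : α * z = z * α := Subgroup.mem_centralizer_singleton_iff.1 hαC
    calc q * α * q⁻¹ = α⁻¹ * (α * q * α⁻¹ * q⁻¹) * (q * α * α * q⁻¹) := by group
      _ = α * z * (q * (α * α) * q⁻¹) := by rw [hk', hαi]; group
      _ = α * z := by rw [show α * α = 1 from (congrArg (α * ·) hαi).symm.trans (mul_inv_cancel α)]; simp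

end Cfsg.Agent.S1784
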