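import Cfsg.Statements.S1785
import Cfsg.Agent.EqLemmas

set_option autoImplicit false
open Cfsg

namespace Cfsg.Agent.S1785

open Subgroup

variable {X : Type*} [Group X] [Finite X]

theorem commute_of_elementary {A : Subgroup X} (hA : Cfsg.IsElementaryAbelian 2 A) {a b : X}
    (ha : a ∈ A) (hb : b ∈ A) : a * b = b * a :=
  congrArg Subtype.val (hA.1.is_comm.comm ⟨a, ha⟩ ⟨b, hb⟩)

theorem elementary_of_le {A B : Subgroup X} (hA : Cfsg.IsElementaryAbelian 2 A) (h : B ≤ A) :
    Cfsg.IsElementaryAbelian 2 B :=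
  ⟨⟨⟨fun x y => Subtype.ext (commute_of_elementary hA (h x.2) (h y.2))⟩⟩,
    fun a ha => hA.2 a (h ha)⟩

theorem elementary_sup {A B : Subgroup X} (hA : Cfsg.IsElementaryAbelian 2 A)
    (hB : Cfsg.IsElementaryAbelian 2 B) (h : B ≤ centralizer (A : Set X)) :
    Cfsg.IsElementaryAbelian 2 (A ⊔ B) := by
  have hmem : ∀ x, x ∈ A ⊔ B → ∃ a ∈ A, ∃ b ∈ B, x = a * b := by
    intro x hx
    rw [← SetLike.mem_coe, coe_mul_of_right_le_normalizer_left A B
      (h.trans (centralizer_le_normalizer _))] at hx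
    obtain ⟨a, ha, b, hb, rfl⟩ := hx
    exact ⟨a, ha, b, hb, rfl⟩
  refine ⟨⟨⟨fun x y => ?_⟩⟩, fun x hx => ?_⟩
  · obtain ⟨a, ha, b, hb, hx⟩ := hmem x.1 x.2
    obtain ⟨a', ha', b', hb', hy⟩ := hmem y.1 y.2
    have e1 : Commute a a' := commute_of_elementary hA ha ha'
    have e2 : Commute b b' := commute_of_elementary hB hb hb'
    have e3 : Commute a b' := h hb' a ha
    have e4 : Commute a' b := h hb a' ha'
    apply Subtype.ext
    change x.1 * y.1 = y.1 * x.1
    rw [hx, hy]
    exact ((e1.mul_right e3).mul_left (e4.symm.mul_right e2)).eq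
  · obtain ⟨a, ha, b, hb, rfl⟩ := hmem x hx
    rw [(show Commute a b from h hb a ha).mul_pow, hA.2 a ha, hB.2 b hb, one_mul]

/-- An element of order at most two fixes at least the square root of an elementary abelian 2-group. -/
theorem card_le_sq {A : Subgroup X} (hA : Cfsg.IsElementaryAbelian 2 A) {x : X} (hx : x * x = 1)
    (hxA : ∀ a ∈ A, x * a * x⁻¹ ∈ A) :
    Nat.card ↥A ≤ Nat.card ↥(A ⊓ centralizer ({x} : Set X)) ^ 2 := by
  have hinv : x⁻¹ = x := inv_eq_of_mul_eq_one_right hx
  let f : ↥A →* ↥A :=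
    { toFun := fun a => ⟨(a : X)⁻¹ * (x * a * x⁻¹), A.mul_mem (A.inv_mem a.2) (hxA a a.2)⟩
      map_one' := by ext; simp
      map_mul' := fun a b => by
        apply Subtype.ext
        change ((a : X) * b)⁻¹ * (x * (a * b) * x⁻¹) =
          ((a : X)⁻¹ * (x * a * x⁻¹)) * ((b : X)⁻¹ * (x * b * x⁻¹))
        have c1 : Commute (b : X)⁻¹ ((a : X)⁻¹ * (x * a * x⁻¹)) :=
          commute_of_elementary hA (A.inv_mem b.2) (A.mul_mem (A.inv_mem a.2) (hxA a a.2))
        calc ((a : X) * b)⁻¹ * (x * (a * b) * x⁻¹)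
            = ((b : X)⁻¹ * ((a : X)⁻¹ * (x * a * x⁻¹))) * (x * b * x⁻¹) := by group
          _ = _ := by rw [c1.eq, mul_assoc] }
  have hfix : ∀ a : ↥A, a ∈ f.ker ↔ (a : X) ∈ centralizer ({x} : Set X) := by
    intro a
    rw [MonoidHom.mem_ker, Subgroup.mem_centralizer_singleton_iff, Subtype.ext_iff]
    change (a : X)⁻¹ * (x * a * x⁻¹) = 1 ↔ _
    rw [inv_mul_eq_one, eq_mul_inv_iff_mul_eq]
  have hker : Nat.card ↥f.ker ≤ Nat.card ↥(A ⊓ centralizer ({x} : Set X)) :=
    Nat.card_le_card_of_injective (fun a => ⟨(a.1 : X), a.1.2, (hfix a.1).1 a.2⟩)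
      (fun a b h => Subtype.ext (Subtype.ext (congrArg Subtype.val h :)))
  have hrange : Nat.card ↥f.range ≤ Nat.card ↥(A ⊓ centralizer ({x} : Set X)) := by
    refine Nat.card_le_card_of_injective (fun a => ⟨(a.1 : X), a.1.2, ?_⟩)
      (fun a b h => Subtype.ext (Subtype.ext (congrArg Subtype.val h :)))
    obtain ⟨b, hb⟩ := a.2
    rw [← hb]
    refine Subgroup.mem_centralizer_singleton_iff.2 ?_
    change (b : X)⁻¹ * (x * b * x⁻¹) * x = x * ((b : X)⁻¹ * (x * b * x⁻¹))
    have c : (b : X)⁻¹ * (x * b * x⁻¹) = (x * b * x⁻¹) * (b : X)⁻¹ :=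
      commute_of_elementary hA (A.inv_mem b.2) (hxA b b.2)
    have sq1 : (b : X)⁻¹ = b := inv_eq_of_mul_eq_one_right (by rw [← pow_two]; exact hA.2 b b.2)
    rw [hinv] at c ⊢
    rw [sq1] at c ⊢
    calc (b : X) * (x * b * x) * x = b * x * b * (x * x) := by group
      _ = b * x * b := by rw [hx, mul_one]
      _ = (x * x) * b * x * b := by rw [hx, one_mul]
      _ = x * (x * b * x * b) := by group
      _ = x * ((b : X) * (x * b * x)) := by rw [c]
  calc Nat.card ↥A = Nat.card ↥f.ker * Nat.card ↥f.range := by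
        rw [← Subgroup.card_mul_index f.ker, Subgroup.index_ker]
    _ ≤ _ := by rw [pow_two]; exact Nat.mul_le_mul hker hrange

theorem exists_pow (hX : IsPGroup 2 X) (A : Subgroup X) : ∃ n, Nat.card ↥A = 2 ^ n :=
  IsPGroup.iff_card.1 (hX.to_subgroup A)

theorem exists_between (hX : IsPGroup 2 X) {V W : Subgroup X} {m : ℕ} (hVW : V ≤ W)
    (hV : Nat.card ↥V ≤ 2 ^ m) (hW : 2 ^ m ≤ Nat.card ↥W) :
    ∃ A, V ≤ A ∧ A ≤ W ∧ Nat.card ↥A = 2 ^ m := by
  haveI := Fact.mk Nat.prime_two
  obtain ⟨n, hn⟩ := exists_pow hX V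
  obtain ⟨k, hk⟩ := exists_pow hX W
  rw [hn, Nat.pow_le_pow_iff_right (by norm_num)] at hV
  rw [hk, Nat.pow_le_pow_iff_right (by norm_num)] at hW
  have hc : Nat.card ↥(V.subgroupOf W) = 2 ^ n := by
    rw [← hn]; exact Nat.card_congr (subgroupOfEquivOfLe hVW).toEquiv
  obtain ⟨K, hK, hVK⟩ := Sylow.exists_subgroup_card_pow_prime_le 2
    (show 2 ^ m ∣ Nat.card ↥W from hk ▸ Nat.pow_dvd_pow 2 hW) (V.subgroupOf W) hc hV
  refine ⟨K.map W.subtype, fun v hv => ⟨⟨v, hVW hv⟩, hVK hv, rfl⟩, map_subtype_le _, ?_⟩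
  rw [card_map_of_injective W.subtype_injective, hK]

/-- Enlarge the centralised part of `A` by one generator. -/
theorem step (hX : IsPGroup 2 X) {E : Subgroup X} [E.Normal] (hE : Cfsg.IsElementaryAbelian 2 E)
    {A U : Subgroup X} (hA : Cfsg.IsElementaryAbelian 2 A) (hUA : U ≤ A) (hne : U ≠ A) :
    ∃ U' : Subgroup X, U' ≤ A ∧ U ≤ U' ∧ 2 * Nat.card ↥U ≤ Nat.card ↥U' ∧
      Nat.card ↥(E ⊓ centralizer (U : Set X)) ≤ Nat.card ↥(E ⊓ centralizer (U' : Set X)) ^ 2 := by
  obtain ⟨a, haA, haU⟩ := SetLike.exists_of_lt (lt_of_le_of_ne hUA hne)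
  refine ⟨U ⊔ zpowers a, sup_le hUA (zpowers_le.2 haA), le_sup_left, ?_, ?_⟩
  · obtain ⟨n, hn⟩ := exists_pow hX U
    obtain ⟨k, hk⟩ := exists_pow hX (U ⊔ zpowers a)
    have hlt : Nat.card ↥U < Nat.card ↥(U ⊔ zpowers a) := by
      refine lt_of_le_of_ne (card_le_of_le le_sup_left) fun h => haU ?_
      have e : U = U ⊔ zpowers a := eq_of_le_of_card_ge le_sup_left h.ge
      rw [e]; exact mem_sup_right (mem_zpowers a)
    rw [hn, hk] at hlt ⊢
    rw [Nat.pow_lt_pow_iff_right (by norm_num)] at hlt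
    rw [← pow_succ']
    exact Nat.pow_le_pow_right (by norm_num) hlt
  · refine (card_le_sq (elementary_of_le hE inf_le_left)
      (by rw [← pow_two]; exact hA.2 a haA) ?_).trans ?_
    · rintro e ⟨he, hec⟩
      refine ⟨(inferInstance : E.Normal).conj_mem e he a, ?_⟩
      intro u hu
      have h1 : Commute u a := commute_of_elementary hA (hUA hu) haA
      have h2 : Commute u e := hec u hu
      exact ((h1.mul_right h2).mul_right h1.inv_right).eq
    · refine Nat.pow_le_pow_left (card_le_of_le ?_) 2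
      rintro e ⟨⟨he, hec⟩, hea⟩
      refine ⟨he, ?_⟩
      have hle : U ⊔ zpowers a ≤ centralizer ({e} : Set X) := by
        refine sup_le (fun u hu => ?_) (zpowers_le.2 ?_)
        · exact mem_centralizer_singleton_iff.2 (hec u hu)
        · exact mem_centralizer_singleton_iff.2 (mem_centralizer_singleton_iff.1 hea).symm
      intro u hu
      exact mem_centralizer_singleton_iff.1 (hle hu)

theorem four_le_of_gt_two (hX : IsPGroup 2 X) {A : Subgroup X} {m : ℕ} (h : 2 ^ m < Nat.card ↥A) :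
    2 ^ (m + 1) ≤ Nat.card ↥A := by
  obtain ⟨n, hn⟩ := exists_pow hX A
  rw [hn, Nat.pow_lt_pow_iff_right (by norm_num)] at h
  rw [hn]; exact Nat.pow_le_pow_right (by norm_num) h


/-- Let X be a finite 2-group having a normal elementary abelian subgroup of order at least 32. Then (a) for any two elementary abelian subgroups A, B of X of order 8 there is a chain A = A₁, A₂, …, Aₙ = B of elementary abelian subgroups of order 8 in which consecutive members commute elementwise; and (b) every elementary abelian subgroup of X of order 4 is contained in an elementary abelian subgroup of order 8. -/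
theorem result {X : Type*} [Group X] [Finite X]
    (hX : IsPGroup 2 X) (E : Subgroup X) [E.Normal] (hE : Cfsg.IsElementaryAbelian 2 E) (hE32 : 32 ≤ Nat.card ↥E) :
    (∀ A B : Subgroup X, Cfsg.IsElementaryAbelian 2 A → Nat.card ↥A = 8 → Cfsg.IsElementaryAbelian 2 B → Nat.card ↥B = 8 →
        Relation.ReflTransGen
          (fun C D : Subgroup X => Cfsg.IsElementaryAbelian 2 C ∧ Nat.card ↥C = 8 ∧ Cfsg.IsElementaryAbelian 2 D ∧ Nat.card ↥D = 8 ∧ ⁅C, D⁆ = ⊥)
          A B) ∧
      (∀ V : Subgroup X, Cfsg.IsElementaryAbelian 2 V → Nat.card ↥V = 4 →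
        ∃ A : Subgroup X, V ≤ A ∧ Cfsg.IsElementaryAbelian 2 A ∧ Nat.card ↥A = 8) := by
  set R : Subgroup X → Subgroup X → Prop := fun C D => Cfsg.IsElementaryAbelian 2 C ∧ Nat.card ↥C = 8 ∧
      Cfsg.IsElementaryAbelian 2 D ∧ Nat.card ↥D = 8 ∧ ⁅C, D⁆ = ⊥ with hR
  have hsymm : ∀ C D, R C D → R D C := fun C D h =>
    ⟨h.2.2.1, h.2.2.2.1, h.1, h.2.1, by rw [Subgroup.commutator_comm]; exact h.2.2.2.2⟩
  have edge : ∀ {C D W : Subgroup X}, Cfsg.IsElementaryAbelian 2 W → C ≤ W → D ≤ W →
      Nat.card ↥C = 8 → Nat.card ↥D = 8 → R C D := fun {C D W} hW hC hD c d =>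
    ⟨elementary_of_le hW hC, c, elementary_of_le hW hD, d,
      Subgroup.commutator_eq_bot_iff_le_centralizer.2 fun x hx y hy =>
        commute_of_elementary hW (hD hy) (hC hx)⟩
  refine ⟨?_, ?_⟩
  · have climb : ∀ k : ℕ, ∀ A : Subgroup X, Cfsg.IsElementaryAbelian 2 A → Nat.card ↥A = 8 →
        8 - Nat.card ↥(A ⊓ E) ≤ k →
        ∃ A' : Subgroup X, A' ≤ E ∧ Nat.card ↥A' = 8 ∧ Relation.ReflTransGen R A A' := by
      intro k
      induction k with
      | zero =>
        intro A _ hA8 hk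
        have : A ⊓ E = A := eq_of_le_of_card_ge inf_le_left (by omega)
        exact ⟨A, inf_eq_left.1 this, hA8, .refl⟩
      | succ k ih =>
        intro A hA hA8 hk
        by_cases hle : A ≤ E
        · exact ⟨A, hle, hA8, .refl⟩
        have hne : A ⊓ E ≠ A := fun h => hle (inf_eq_left.1 h)
        have h0 : 32 ≤ Nat.card ↥(E ⊓ centralizer ((A ⊓ E : Subgroup X) : Set X)) := by
          refine hE32.trans (card_le_of_le (le_inf le_rfl ?_))
          intro e he y hy
          exact commute_of_elementary hE hy.2 he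
        -- the centraliser of `A` in `E` is bigger than `A ⊓ E`
        have hbig : Nat.card ↥(A ⊓ E) < Nat.card ↥(E ⊓ centralizer (A : Set X)) := by
          obtain ⟨U1, hU1, -, c1, d1⟩ := step hX hE hA inf_le_left hne
          have e1 : 8 ≤ Nat.card ↥(E ⊓ centralizer (U1 : Set X)) := by
            refine four_le_of_gt_two hX (m := 2) ?_
            nlinarith
          by_cases h1 : U1 = A
          · subst h1
            have : Nat.card ↥(U1 ⊓ E) * 2 ≤ 8 := by omega
            omega
          obtain ⟨U2, hU2, -, c2, d2⟩ := step hX hE hA hU1 h1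
          have e2 : 4 ≤ Nat.card ↥(E ⊓ centralizer (U2 : Set X)) := by
            refine four_le_of_gt_two hX (m := 1) ?_
            nlinarith
          by_cases h2 : U2 = A
          · subst h2
            omega
          obtain ⟨U3, hU3, -, c3, d3⟩ := step hX hE hA hU2 h2
          have e3 : 2 ≤ Nat.card ↥(E ⊓ centralizer (U3 : Set X)) := by nlinarith
          have hU3A : U3 = A := by
            refine eq_of_le_of_card_ge hU3 ?_
            have := (Nat.card_pos : 0 < Nat.card ↥(A ⊓ E))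
            omega
          subst hU3A
          omega
        obtain ⟨j, hj⟩ := exists_pow hX (A ⊓ E)
        have hj2 : 2 ^ (j + 1) ≤ 8 := by
          have hlt : Nat.card ↥(A ⊓ E) < 2 ^ 3 := by
            have : Nat.card ↥(A ⊓ E) ≤ 8 := hA8 ▸ card_le_of_le inf_le_left
            rcases lt_or_eq_of_le this with h | h
            · omega
            · exact absurd (eq_of_le_of_card_ge inf_le_left (hA8.trans h.symm).le) hne
          rw [hj, Nat.pow_lt_pow_iff_right (by norm_num)] at hlt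
          exact (Nat.pow_le_pow_right (by norm_num) hlt).trans (by norm_num)
        obtain ⟨S, -, hSle, hS⟩ := exists_between hX (m := j + 1) (bot_le : ⊥ ≤ E ⊓ centralizer (A : Set X))
          (by rw [Subgroup.card_bot]; exact Nat.one_le_two_pow)
          (four_le_of_gt_two hX (hj ▸ hbig))
        set W := A ⊔ (E ⊓ centralizer (A : Set X)) with hW
        have hWe : Cfsg.IsElementaryAbelian 2 W :=
          elementary_sup hA (elementary_of_le hE inf_le_left) inf_le_right
        obtain ⟨A', hSA', hA'W, hA'8⟩ := exists_between hX (m := 3) (hSle.trans le_sup_right : S ≤ W)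
          (by rw [hS]; exact hj2) (hA8.ge.trans (card_le_of_le le_sup_left))
        have hgrow : Nat.card ↥(A ⊓ E) < Nat.card ↥(A' ⊓ E) := by
          refine lt_of_lt_of_le ?_ (card_le_of_le (le_inf hSA' (hSle.trans inf_le_left)))
          rw [hS, hj, pow_succ]
          have := Nat.one_le_two_pow (n := j)
          omega
        obtain ⟨A'', hA''E, hA''8, hpath⟩ := ih A' (elementary_of_le hWe hA'W) hA'8 (by omega)
        exact ⟨A'', hA''E, hA''8, .head (edge hWe le_sup_left hA'W hA8 hA'8) hpath⟩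
    intro A B hA hA8 hB hB8
    obtain ⟨A', hA'E, hA'8, pA⟩ := climb 8 A hA hA8 (by omega)
    obtain ⟨B', hB'E, hB'8, pB⟩ := climb 8 B hB hB8 (by omega)
    have rev : ∀ {C D}, Relation.ReflTransGen R C D → Relation.ReflTransGen R D C := by
      intro C D h
      induction h with
      | refl => exact .refl
      | tail _ h2 ih => exact .head (hsymm _ _ h2) ih
    exact pA.trans (.head (edge hE hA'E hB'E hA'8 hB'8) (rev pB))
  · intro V hV hV4
    by_cases hle : V ≤ E
    · obtain ⟨A, h1, h2, h3⟩ := exists_between hX (m := 3) hle (by omega) (by omega)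
      exact ⟨A, h1, elementary_of_le hE h2, h3⟩
    have hC : 4 ≤ Nat.card ↥(E ⊓ centralizer (V : Set X)) := by
      have hb : (⊥ : Subgroup X) ≠ V := fun h => by rw [← h, Subgroup.card_bot] at hV4; omega
      have h0 : E ⊓ centralizer ((⊥ : Subgroup X) : Set X) = E := by
        refine inf_eq_left.2 fun e _ y hy => ?_
        rw [SetLike.mem_coe, Subgroup.mem_bot] at hy
        subst hy; simp
      obtain ⟨U1, hU1, -, c1, d1⟩ := step hX hE hV bot_le hb
      rw [h0] at d1
      rw [Subgroup.card_bot] at c1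
      have e1 : 8 ≤ Nat.card ↥(E ⊓ centralizer (U1 : Set X)) := by
        refine four_le_of_gt_two hX (m := 2) ?_
        nlinarith
      by_cases h1 : U1 = V
      · subst h1; omega
      obtain ⟨U2, hU2, -, c2, d2⟩ := step hX hE hV hU1 h1
      have hU2V : U2 = V := eq_of_le_of_card_ge hU2 (by omega)
      subst hU2V
      refine four_le_of_gt_two hX (m := 1) ?_
      nlinarith
    set W := V ⊔ (E ⊓ centralizer (V : Set X)) with hW
    have hWe : Cfsg.IsElementaryAbelian 2 W :=
      elementary_sup hV (elementary_of_le hE inf_le_left) inf_le_right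
    have hlt : 2 ^ 2 < Nat.card ↥W := by
      refine lt_of_le_of_ne (le_of_eq_of_le (by omega) (card_le_of_le le_sup_left)) fun h => hle ?_
      have e : V = W := eq_of_le_of_card_ge le_sup_left (by omega)
      have hCV : E ⊓ centralizer (V : Set X) ≤ V :=
        le_of_le_of_eq (le_sup_right : _ ≤ W) e.symm
      rw [← eq_of_le_of_card_ge hCV (by omega)]
      exact inf_le_left
    obtain ⟨A, h1, h2, h3⟩ := exists_between hX (m := 3) (le_sup_left : V ≤ W) (by omega)
      (four_le_of_gt_two hX hlt)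
    exact ⟨A, h1, elementary_of_le hWe h2, h3⟩

end Cfsg.Agent.S1785
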