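import Cfsg.Statements.S1786
import Cfsg.Agent.EqLemmas
import Cfsg.Agent.Lib.TIRadical.Radical
import Cfsg.Agent.Lib.Symplectic.GFit

set_option autoImplicit false
open Cfsg

namespace Cfsg.Agent.S1786

/-- Let G be a finite group, V an elementary abelian 2-subgroup of G and M the normalizer of V; write Q for the largest normal 2-subgroup of M. Suppose (1) the generalized Fitting subgroup of M equals Q; (2) V is a maximal abelian normal subgroup of M; (3) every conjugate of V equals V or meets V trivially, and for some g ∈ G the conjugate V' = g V g⁻¹ is different from V and contained in Q. Let P be the centralizer of V in Q, W the subgroup generated by V and V', and H the subgroup generated by P and g P g⁻¹. Then: (a) V is contained in g Q g⁻¹; (b) every non-identity element of W lies in exactly one conjugate of V contained in W, H normalizes W, and H modulo the centralizer of W in H is isomorphic to the special linear group of dimension 2 over the field with |V| elements; (c) P = Q, and V equals the Frattini subgroup, the centre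 and the commutator subgroup of Q. -/
theorem result {G : Type*} [Group G] [Finite G] (V : Subgroup G)
    (hV : Cfsg.IsElementaryAbelian 2 V)
    (h1 : (Cfsg.generalizedFittingSubgroup ↥(Subgroup.normalizer (V : Set G))).map (Subgroup.normalizer (V : Set G)).subtype =
      (Cfsg.pCore 2 ↥(Subgroup.normalizer (V : Set G))).map (Subgroup.normalizer (V : Set G)).subtype)
    (h2 : ∀ A : Subgroup G, V ≤ A → A ≤ Subgroup.normalizer (V : Set G) → IsMulCommutative ↥A →
      (∀ m ∈ Subgroup.normalizer (V : Set G), ∀ a ∈ A, m * a * m⁻¹ ∈ A) → A = V)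
    (hti : ∀ x : G, V.map (MulAut.conj x).toMonoidHom = V ∨ V.map (MulAut.conj x).toMonoidHom ⊓ V = ⊥)
    (g : G) (hg : V.map (MulAut.conj g).toMonoidHom ≠ V)
    (hgQ : V.map (MulAut.conj g).toMonoidHom ≤ (Cfsg.pCore 2 ↥(Subgroup.normalizer (V : Set G))).map (Subgroup.normalizer (V : Set G)).subtype) :
    let Q : Subgroup G := (Cfsg.pCore 2 ↥(Subgroup.normalizer (V : Set G))).map (Subgroup.normalizer (V : Set G)).subtype
    let P : Subgroup G := Q ⊓ Subgroup.centralizer (V : Set G)
    let W : Subgroup G := V ⊔ V.map (MulAut.conj g).toMonoidHom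
    let H : Subgroup G := P ⊔ P.map (MulAut.conj g).toMonoidHom
    V ≤ Q.map (MulAut.conj g).toMonoidHom ∧
      (∀ w ∈ W, w ≠ 1 → ∃! U : Subgroup G, (∃ x : G, U = V.map (MulAut.conj x).toMonoidHom) ∧ U ≤ W ∧ w ∈ U) ∧
      H ≤ Subgroup.normalizer (W : Set G) ∧
      (∀ hN : ((Subgroup.centralizer (W : Set G)).subgroupOf H).Normal, ∃ (F : Type) (_ : Field F) (_ : Fintype F), Fintype.card F = Nat.card ↥V ∧
        Nonempty (↥H ⧸ (Subgroup.centralizer (W : Set G)).subgroupOf H ≃* Matrix.SpecialLinearGroup (Fin 2) F)) ∧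
      P = Q ∧ (frattini ↥Q).map Q.subtype = V ∧ (Subgroup.center ↥Q).map Q.subtype = V ∧ (commutator ↥Q).map Q.subtype = V := by
  have hS : Agent.TIRadical.Setting V := by
    refine ⟨hV, fun m hm hc => ?_, h2, fun x v hv hv1 hxv => ?_⟩
    · have hmem := Agent.Symplectic.centralizer_generalizedFitting_le _
        (x := (⟨m, hm⟩ : ↥(Subgroup.normalizer (V : Set G)))) fun f hf =>
          Subtype.ext (hc _ (h1.le ⟨f, hf, rfl⟩)).symm
      exact h1.le ⟨_, hmem, rfl⟩
    · rcases hti x with e | e
      · exact Agent.TIRadical.mem_normalizer_of_cj_eq e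
      · exact absurd (conj_eq_one_iff.1 ((Subgroup.eq_bot_iff_forall _).1 e _
          ⟨Agent.TIRadical.conj_mem_cj hv, hxv⟩)) hv1
  have hP : Agent.TIRadical.Pair V (Agent.TIRadical.cj g V) := ⟨hS, ⟨g, rfl⟩, hg, hgQ⟩
  have h3 := hP.le_normalizer_sup
  have h4 := hP.exists_sl2
  rw [← Agent.TIRadical.cj_Pof] at h3 h4
  refine ⟨?_, fun w hw hw1 => hP.existsUnique_line hw hw1, h3, h4, hP.Pof_eq_Qof, hP.map_frattini,
    hP.map_center, hP.map_commutator⟩
  exact hP.le_Qof_swap.trans (Agent.TIRadical.cj_Qof g V).ge

end Cfsg.Agent.S1786
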