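import Cfsg.Statements.S1850
import Cfsg.Agent.EqLemmas
import Cfsg.Agent.Lib.LocalCharP.EvenChar

set_option autoImplicit false
open Cfsg

namespace Cfsg.Agent.S1850

/-- Let G be a non-abelian finite simple QTKE-group and T a Sylow 2-subgroup of G. If U is a nontrivial 2-subgroup of G with U ∩ Z(T) ≠ 1, then F*(N_G(U)) = O₂(N_G(U)). -/
theorem result {G : Type*} [Group G] [Finite G] [IsSimpleGroup G]
    (hG : ¬ IsMulCommutative G) (hQ : Cfsg.IsQTKE G) (T : Sylow 2 G) (U : Subgroup G)
    (hU : IsPGroup 2 ↥U) (hZ : U ⊓ ((T : Subgroup G) ⊓ Subgroup.centralizer ((T : Subgroup G) : Set G)) ≠ ⊥) :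
    Subgroup.normalizer (U : Set G) ∈ Cfsg.calHe G := by
  set Z := U ⊓ ((T : Subgroup G) ⊓ Subgroup.centralizer ((T : Subgroup G) : Set G)) with hZdef
  have hZp : IsPGroup 2 ↥Z := hU.to_le inf_le_left
  obtain ⟨n, hn⟩ := hZp.exists_card_eq
  have h2 : 2 ∣ Nat.card ↥Z := by
    rcases n with _ | n
    · exact absurd (Subgroup.card_eq_one.1 (by simpa using hn)) hZ
    · rw [hn, pow_succ]; exact dvd_mul_left 2 _
  obtain ⟨⟨z, hzU, hzT, hzc⟩, hz⟩ := exists_prime_orderOf_dvd_card' 2 h2
  rw [← Subgroup.orderOf_coe] at hz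
  change orderOf z = 2 at hz
  set C := Subgroup.centralizer ({z} : Set G) with hC
  have hTC : (T : Subgroup G) ≤ C := fun t ht => by
    rw [hC, Subgroup.mem_centralizer_singleton_iff]; exact hzc t ht
  have hzp : IsPGroup 2 ↥(Subgroup.zpowers z) :=
    IsPGroup.of_card (n := 1) (by rw [Nat.card_zpowers, hz, pow_one])
  have hzO : Subgroup.zpowers z ≤ LocalCharP.pCoreIn 2 C := by
    refine LocalCharP.le_pCoreIn (Subgroup.zpowers_le.2
      (Subgroup.mem_centralizer_singleton_iff.2 rfl)) hzp fun g hg => ?_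
    have hgz := Subgroup.mem_centralizer_singleton_iff.1 hg
    rw [Subgroup.mem_normalizer_iff]
    intro x
    have key : ∀ g : G, g * z = z * g → ∀ x ∈ Subgroup.zpowers z,
        g * x * g⁻¹ ∈ Subgroup.zpowers z := by
      rintro g hg _ ⟨k, rfl⟩
      show g * z ^ k * g⁻¹ ∈ _
      rw [(Commute.zpow_right (show Commute g z from hg) k).eq, mul_inv_cancel_right]
      exact Subgroup.zpow_mem _ (Subgroup.mem_zpowers z) k
    refine ⟨key g hgz x, fun hx => ?_⟩
    have := key g⁻¹ ((show Commute g z from hgz).inv_left.eq) _ hx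
    simpa [mul_assoc] using this
  have hCne : LocalCharP.pCoreIn 2 C ≠ ⊥ := fun h => by
    rw [h, le_bot_iff, Subgroup.zpowers_eq_bot] at hzO
    rw [hzO, orderOf_one] at hz
    exact absurd hz (by norm_num)
  have hC2 : LocalCharP.HasCharP 2 C := LocalCharP.hasCharP_of_sylow_le hQ.2.2 T hTC hCne
  have hCU : LocalCharP.HasCharP 2 (Subgroup.centralizer (U : Set G)) :=
    LocalCharP.hasCharP_centralizer_of_mem hC2 U hU hzU
  set N := Subgroup.normalizer (U : Set G) with hN
  have hle : Subgroup.centralizer (U : Set G) ≤ N := fun g hg => by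
    rw [hN, Subgroup.mem_normalizer_iff]
    have key : ∀ g ∈ Subgroup.centralizer (U : Set G), ∀ x ∈ U, g * x * g⁻¹ = x := fun g hg x hx => by
      rw [← Subgroup.mem_centralizer_iff.1 hg x hx, mul_inv_cancel_right]
    refine fun x => ⟨fun hx => by rwa [key g hg x hx], fun hx => ?_⟩
    have := key g⁻¹ (inv_mem hg) _ hx
    simp [mul_assoc] at this
    rw [this, ← mul_assoc]; exact hx
  have hN2 : LocalCharP.HasCharP 2 N := by
    refine LocalCharP.HasCharP.of_centralizer_le (P := U) ?_ ?_
      (LocalCharP.le_pCoreIn Subgroup.le_normalizer hU le_rfl)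
    · rwa [inf_eq_right.2 hle]
    · intro g hg
      rw [inf_eq_right.2 hle, Subgroup.mem_normalizer_iff]
      intro x
      have key : ∀ g ∈ N, ∀ x ∈ Subgroup.centralizer (U : Set G),
          g * x * g⁻¹ ∈ Subgroup.centralizer (U : Set G) := by
        intro g hg x hx m hm
        have hm' : g⁻¹ * m * g ∈ U := by
          have := (Subgroup.mem_normalizer_iff.1 (inv_mem hg) m).1 hm
          simpa using this
        have := hx _ hm'
        calc m * (g * x * g⁻¹) = g * ((g⁻¹ * m * g) * x) * g⁻¹ := by group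
          _ = g * (x * (g⁻¹ * m * g)) * g⁻¹ := by rw [this]
          _ = g * x * g⁻¹ * m := by group
      refine ⟨key g hg x, fun hx => ?_⟩
      have := key g⁻¹ (inv_mem hg) _ hx
      simpa [mul_assoc] using this
  exact LocalCharP.generalizedFittingSubgroup_eq_pCore (LocalCharP.hasCharP_iff.1 hN2)

end Cfsg.Agent.S1850
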