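import Cfsg.Statements.S1892
import Cfsg.Agent.Lib.HallHigman.PSolvable
import Cfsg.Agent.Lib.Coprime.PQ

set_option autoImplicit false
open Cfsg
open scoped commutatorElement

namespace Cfsg.Agent.S1892

/-- Let S be a finite p-solvable group with no nontrivial normal subgroup of order prime to p, A a p-subgroup of S, and Q a nontrivial A-invariant subgroup of order prime to p with [A, Q] = Q. Then the commutator [O_p(S), A, Q] is nontrivial. -/
theorem result {S : Type*} [Group S] [Finite S] {p : ℕ} [Fact p.Prime]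
    (hS : Cfsg.IsPSolvable p S) (hred : Cfsg.pPrimeCore p S = ⊥)
    (A Q : Subgroup S) (hA : IsPGroup p A) (hQ : ¬ p ∣ Nat.card Q) (hQ1 : Q ≠ ⊥)
    (hinv : ∀ a ∈ A, ∀ x ∈ Q, a * x * a⁻¹ ∈ Q) (hAQ : ⁅A, Q⁆ = Q) :
    ⁅⁅Cfsg.pCore p S, A⁆, Q⁆ ≠ ⊥ := by
  intro hRQ
  apply hQ1
  set P := Cfsg.pCore p S with hP
  set R := ⁅P, A⁆ with hR
  have hRle : R ≤ P := Subgroup.commutator_le_left P A
  have hQR : Q ≤ Subgroup.centralizer (R : Set S) :=
    Subgroup.le_centralizer_iff.mp (Subgroup.commutator_eq_bot_iff_le_centralizer.mp hRQ)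
  have hPR : P ≤ Subgroup.normalizer (R : Set S) := Cores.commutator_normalizer_left P A
  have hAR : A ≤ Subgroup.normalizer (R : Set S) := Cores.commutator_normalizer_right P A
  have hn : ∀ (g : S), ∀ x ∈ P, g * x * g⁻¹ ∈ P := fun g x hx =>
    (Cores.pCore_normal p S).conj_mem x hx g
  let T : Subgroup S :=
    { carrier := {g | g ∈ Subgroup.normalizer (R : Set S) ∧ ∀ x ∈ P, g * x * g⁻¹ * x⁻¹ ∈ R}
      one_mem' := ⟨one_mem _, fun x _ => by simp⟩
      mul_mem' := fun {a b} ha hb => ⟨mul_mem ha.1 hb.1, fun x hx => by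
        have h1 := ha.2 (b * x * b⁻¹) (hn b x hx)
        simpa [mul_assoc] using R.mul_mem h1 (hb.2 x hx)⟩
      inv_mem' := fun {a} ha => ⟨inv_mem ha.1, fun x hx => by
        have h1 := ha.2 (a⁻¹ * x * a) (by simpa using hn a⁻¹ x hx)
        simpa [mul_assoc] using R.inv_mem h1⟩ }
  have hAT : A ≤ T := fun a ha => ⟨hAR ha, fun x hx => by
    have h1 : ⁅a, x⁆ ∈ R := by
      rw [hR, Subgroup.commutator_comm]
      exact Subgroup.commutator_mem_commutator ha hx
    rwa [commutatorElement_def] at h1⟩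
  have hQN : Q ≤ Subgroup.normalizer (R : Set S) :=
    hQR.trans (Subgroup.centralizer_le_normalizer _)
  have hQT : Q ≤ T := by
    rw [← hAQ, Subgroup.commutator_le]
    intro a ha q hq
    have h3 : q * a⁻¹ * q⁻¹ ∈ T := by
      refine ⟨mul_mem (mul_mem (hQN hq) (inv_mem (hAR ha))) (inv_mem (hQN hq)), fun x hx => ?_⟩
      have h1 := (T.inv_mem (hAT ha)).2 (q⁻¹ * x * q) (by simpa using hn q⁻¹ x hx)
      have h2 := (Subgroup.mem_normalizer_iff.mp (hQN hq) _).mp h1
      simpa [mul_assoc] using h2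
    have h4 := T.mul_mem (hAT ha) h3
    simpa [commutatorElement_def, mul_assoc] using h4
  have hPQ : ⁅P, Q⁆ ≤ R := by
    rw [Subgroup.commutator_comm, Subgroup.commutator_le]
    intro q hq x hx
    simpa [commutatorElement_def] using (hQT hq).2 x hx
  have hQP : Q ≤ Subgroup.normalizer (P : Set S) :=
    le_top.trans (Subgroup.normalizer_eq_top_iff.mpr inferInstance).ge
  have hPp := Cores.isPGroup_pCore p S
  have hcq : (Nat.card Q).Coprime p :=
    ((Fact.out : p.Prime).coprime_iff_not_dvd.mpr hQ).symm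
  have hcc := Coprime.commutator_commutator_eq hQP (Coprime.coprime_of_isPGroup hcq hPp)
    (Or.inr (Coprime.isSolvable_of_isPGroup hPp))
  have h0 : ⁅⁅P, Q⁆, Q⁆ = ⊥ := Subgroup.commutator_eq_bot_iff_le_centralizer.mpr
    (hPQ.trans (Subgroup.le_centralizer_iff.mp hQR))
  rw [h0] at hcc
  have hQC : Q ≤ P := (Subgroup.le_centralizer_iff.mp
    (Subgroup.commutator_eq_bot_iff_le_centralizer.mp hcc.symm)).trans
    (HallHigman.centralizer_pCore_le_of_isPSolvable hS hred)
  rcases (hPp.to_le hQC).card_eq_or_dvd with h | h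
  · exact Subgroup.card_eq_one.mp h
  · exact absurd h hQ

end Cfsg.Agent.S1892
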