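import Cfsg.Statements.S1893
import Cfsg.Agent.Lib.SelfCentFitting.Basic

set_option autoImplicit false
open Cfsg

namespace Cfsg.Agent.S1893

/-- Let S be a finite solvable group, π a set of primes containing neither 2 nor 3, H a Hall π-subgroup of S, and A a self-centralizing normal subgroup of the Fitting subgroup F(H). Then C_S(A) = A × D for a normal subgroup D of C_S(A) whose order has no prime divisor in π. -/
theorem result {S : Type*} [Group S] [Finite S] [Group.IsSolvable S]
    (π : Set ℕ) (h2 : 2 ∉ π) (h3 : 3 ∉ π) (H : Subgroup S) (hH : Cfsg.IsPiHall π H)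
    (A : Subgroup S) (hA : Cfsg.IsSCN ((Cfsg.fittingSubgroup H).map H.subtype) A) :
    ∃ D : Subgroup S, D ≤ Subgroup.centralizer (A : Set S) ∧
      (∀ c ∈ Subgroup.centralizer (A : Set S), ∀ d ∈ D, c * d * c⁻¹ ∈ D) ∧
      A ⊓ D = ⊥ ∧ A ⊔ D = Subgroup.centralizer (A : Set S) ∧
      ∀ q : ℕ, q.Prime → q ∣ Nat.card D → q ∉ π := by
  obtain ⟨hAF, hFN, hFC⟩ := hA
  set F := (Cfsg.fittingSubgroup H).map H.subtype with hFdef
  set O := Cfsg.piCore πᶜ S with hO
  haveI : O.Normal := Subgroup.sSup_normal _ fun _ h => h.1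
  have hFH : F ≤ H := Subgroup.map_subtype_le _
  have hdisj : H ⊓ O = ⊥ := by
    refine Subgroup.card_eq_one.mp ?_
    by_contra hne
    obtain ⟨q, hq, hd⟩ := Nat.exists_prime_and_dvd hne
    exact Agent.Cores.card_piCore πᶜ hq (hd.trans (Subgroup.card_dvd_of_le inf_le_right))
      (hH.1 q hq (hd.trans (Subgroup.card_dvd_of_le inf_le_left)))
  have hAC : A ≤ Subgroup.centralizer (A : Set S) := hFC.ge.trans inf_le_right
  refine ⟨Subgroup.centralizer (A : Set S) ⊓ O, inf_le_left, fun c hc d hd =>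
    ⟨mul_mem (mul_mem hc hd.1) ((Subgroup.centralizer (A : Set S)).inv_mem hc), Subgroup.Normal.conj_mem inferInstance d hd.2 c⟩, ?_, ?_,
    fun q hq hd hπ => Agent.Cores.card_piCore πᶜ hq (hd.trans (Subgroup.card_dvd_of_le inf_le_right)) hπ⟩
  · exact le_bot_iff.mp (hdisj ▸ inf_le_inf (hAF.trans hFH) inf_le_right)
  refine le_antisymm (sup_le hAC inf_le_left) ?_
  set f := QuotientGroup.mk' O with hf
  have hinj : ∀ a ∈ H, ∀ b ∈ H, f a = f b → a = b := fun a ha b hb h => by
    rw [hf, QuotientGroup.mk'_apply, QuotientGroup.mk'_apply, QuotientGroup.eq] at h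
    exact inv_mul_eq_one.mp ((Subgroup.eq_bot_iff_forall _).mp hdisj _
      ⟨mul_mem (H.inv_mem ha) hb, h⟩)
  -- the Fitting subgroup of the quotient
  have hFle : Cfsg.fittingSubgroup (S ⧸ O) ≤ F.map f := by
    set F0 := Cfsg.fittingSubgroup (S ⧸ O) with hF0
    have hpi : ∀ q : ℕ, q.Prime → q ∣ Nat.card F0 → q ∈ π := by
      intro q hq hd
      by_contra hqπ
      haveI := Fact.mk hq
      obtain ⟨Q⟩ : Nonempty (Sylow q F0) := inferInstance
      haveI : Group.IsNilpotent F0 := Agent.Cores.fittingSubgroup_isNilpotent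
      haveI : (Q : Subgroup F0).Normal :=
        Sylow.normal_of_normalizerCondition Group.normalizerCondition_of_isNilpotent Q
      haveI : (Q : Subgroup F0).Characteristic := Sylow.characteristic_of_normal Q inferInstance
      have hQn : ((Q : Subgroup F0).map F0.subtype).Normal :=
        Agent.Cores.map_subtype_normal_of_characteristic F0 (Q : Subgroup F0)
      have hle : (Q : Subgroup F0).map F0.subtype ≤ Cfsg.piCore πᶜ (S ⧸ O) := by
        refine Agent.Cores.le_piCore hQn fun r hr hrd => ?_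
        obtain ⟨m, hm⟩ := IsPGroup.iff_card.mp (Q.isPGroup'.map F0.subtype)
        rw [hm] at hrd
        rw [(Nat.prime_dvd_prime_iff_eq hr hq).mp (hr.dvd_of_dvd_pow hrd)]
        exact hqπ
      replace hle := hle.trans (Agent.Cores.piCore_quotient_self πᶜ).le
      rw [le_bot_iff, Subgroup.map_eq_bot_iff_of_injective _ F0.subtype_injective] at hle
      exact Q.not_dvd_index (by rw [hle, Subgroup.index_bot]; exact hd)
    have hF0H : F0 ≤ H.map f := by
      have hrel : (H.map f).relIndex (H.map f ⊔ F0) = 1 := by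
        by_contra hne
        obtain ⟨q, hq, hd⟩ := Nat.exists_prime_and_dvd hne
        have h1 : (H.map f).relIndex (H.map f ⊔ F0) ∣ H.index :=
          (Subgroup.relIndex_dvd_index_of_le le_sup_left).trans
            (Subgroup.index_map_dvd H (QuotientGroup.mk'_surjective O))
        refine hH.2 q hq ?_ (hd.trans h1)
        rcases hq.dvd_mul.mp ((hd.trans ((Subgroup.relIndex_dvd_card _ _).trans
          (Agent.Cores.card_sup_dvd (H.map f) F0)))) with h | h
        · exact hH.1 q hq (h.trans (Subgroup.card_map_dvd H f))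
        · exact hpi q hq h
      exact le_sup_right.trans (Subgroup.relIndex_eq_one.mp hrel)
    intro y hy
    obtain ⟨x, hx, rfl⟩ := hF0H hy
    refine ⟨x, ⟨⟨x, hx⟩, ?_, rfl⟩, rfl⟩
    have hn : (F0.comap (f.comp H.subtype)).Normal := inferInstance
    refine Agent.Cores.le_fittingSubgroup hn ?_ hy
    have hinj' : Function.Injective ((f.comp H.subtype).subgroupComap F0) := fun a b h =>
      Subtype.ext (Subtype.ext (hinj _ a.1.2 _ b.1.2 (congrArg Subtype.val h)))
    haveI : Group.IsNilpotent F0 := Agent.Cores.fittingSubgroup_isNilpotent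
    exact Group.nilpotent_of_mulEquiv (MonoidHom.ofInjective hinj').symm
  have hkey : Subgroup.centralizer ((A.map f : Subgroup (S ⧸ O)) : Set (S ⧸ O)) ≤ A.map f := by
    refine Agent.SelfCentFitting.le_of_commute π h2 h3 (Agent.Cores.piCore_quotient_self πᶜ) hFle ?_ ?_
    · exact (Subgroup.map_mono hFN).trans (Subgroup.le_normalizer_map f)
    · rintro _ ⟨⟨v, hv, rfl⟩, hc⟩
      refine ⟨v, hFC.le ⟨hv, Subgroup.mem_centralizer_iff.mpr fun a ha => ?_⟩, rfl⟩
      have h := Subgroup.mem_centralizer_iff.mp hc (f a) ⟨a, ha, rfl⟩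
      rw [← map_mul, ← map_mul] at h
      exact hinj _ (mul_mem (hFH (hAF ha)) (hFH hv)) _ (mul_mem (hFH hv) (hFH (hAF ha))) h
  intro c hc
  have hfc : f c ∈ Subgroup.centralizer ((A.map f : Subgroup (S ⧸ O)) : Set (S ⧸ O)) := by
    refine Subgroup.mem_centralizer_iff.mpr ?_
    rintro _ ⟨a, ha, rfl⟩
    rw [← map_mul, ← map_mul, Subgroup.mem_centralizer_iff.mp hc a ha]
  obtain ⟨a, ha, hac⟩ := hkey hfc
  have ho : a⁻¹ * c ∈ O := QuotientGroup.eq.mp hac
  have := Subgroup.mul_mem_sup ha (Subgroup.mem_inf.mpr ⟨mul_mem ((Subgroup.centralizer (A : Set S)).inv_mem (hAC ha)) hc, ho⟩ :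
    a⁻¹ * c ∈ Subgroup.centralizer (A : Set S) ⊓ O)
  rwa [mul_inv_cancel_left] at this

end Cfsg.Agent.S1893
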