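import Cfsg.Statements.S1894
import Cfsg.Agent.EqLemmas

set_option autoImplicit false
open Cfsg

namespace Cfsg.Agent.S1894

/-- A nontrivial normal subgroup of a finite p-group meets the centre nontrivially. -/
theorem exists_ne_one_mem_inf_center {Q : Type*} [Group Q] [Finite Q] {p : ℕ} [Fact p.Prime] (hQ : IsPGroup p Q)
    (N : Subgroup Q) [N.Normal] (hN : N ≠ ⊥) : ∃ z, z ∈ N ⊓ Subgroup.center Q ∧ z ≠ 1 := by
  haveI : Nontrivial N := (Subgroup.nontrivial_iff_ne_bot N).mpr hN
  obtain ⟨k, hk, hNk⟩ := (hQ.to_subgroup N).nontrivial_iff_card.mp inferInstance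
  have hQ' : IsPGroup p (ConjAct Q) := hQ.of_equiv ConjAct.toConjAct
  have h1 : (1 : N) ∈ MulAction.fixedPoints (ConjAct Q) N := fun g => Subtype.ext (by simp [ConjAct.smul_def])
  obtain ⟨z, hz, hz1⟩ := hQ'.exists_fixed_point_of_prime_dvd_card_of_fixed_point N
    (by rw [hNk]; exact dvd_pow_self p hk.ne') h1
  refine ⟨z, ⟨z.2, Subgroup.mem_center_iff.mpr fun g => ?_⟩, fun h => hz1 (Subtype.ext h).symm⟩
  have h2 : g * (z : Q) * g⁻¹ = z := congrArg Subtype.val (hz (ConjAct.toConjAct g))
  exact mul_inv_eq_iff_eq_mul.mp h2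

/-- Let P be a finite p-group, A a normal subgroup of P and B an abelian subgroup of A that is normal in P. Then some subgroup C of A containing B is normal in P and is self-centralizing and normal in A (C ∈ SCN(A)). -/
theorem result {P : Type*} [Group P] [Finite P] {p : ℕ} [Fact p.Prime] (hP : IsPGroup p P)
    (A : Subgroup P) [A.Normal] (B : Subgroup P) [B.Normal] (hBA : B ≤ A) (hB : IsMulCommutative B) :
    ∃ C : Subgroup P, C.Normal ∧ B ≤ C ∧ Cfsg.IsSCN A C := by
  classical
  let S : Set (Subgroup P) := {C | C.Normal ∧ B ≤ C ∧ C ≤ A ∧ IsMulCommutative C}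
  have hne : S.Nonempty := ⟨B, inferInstance, le_rfl, hBA, hB⟩
  obtain ⟨C, hC⟩ := (Set.toFinite S).exists_maximal hne
  obtain ⟨⟨hCn, hBC, hCA, hCc⟩, hmax⟩ := hC
  haveI := hCn
  haveI := hCc
  refine ⟨C, hCn, hBC, hCA, ?_, ?_⟩
  · rw [Subgroup.normalizer_eq_top]
    exact le_top
  · refine le_antisymm ?_ (le_inf hCA (Subgroup.le_centralizer C))
    by_contra hnot
    set D := A ⊓ Subgroup.centralizer (C : Set P) with hD
    haveI : D.Normal := Subgroup.normal_inf_normal A _
    have hDimg : (D.map (QuotientGroup.mk' C)) ≠ ⊥ := by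
      intro h
      rw [Subgroup.map_eq_bot_iff, QuotientGroup.ker_mk'] at h
      exact hnot h
    haveI : (D.map (QuotientGroup.mk' C)).Normal :=
      Subgroup.Normal.map inferInstance _ (QuotientGroup.mk'_surjective C)
    obtain ⟨z, ⟨⟨x, hxD, rfl⟩, hzc⟩, hz1⟩ :=
      exists_ne_one_mem_inf_center (hP.to_quotient C) _ hDimg
    have hxC : x ∉ C := fun h => hz1 ((QuotientGroup.eq_one_iff x).mpr h)
    let E := C ⊔ Subgroup.zpowers x
    have hxcomm : ∀ c ∈ C, x * c = c * x := fun c hc => (Subgroup.mem_centralizer_iff.mp hxD.2 c hc).symm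
    have hEab : IsMulCommutative E := by
      rw [show E = Subgroup.closure ((C : Set P) ∪ {x}) by
        rw [Subgroup.closure_union, Subgroup.closure_eq, ← Subgroup.zpowers_eq_closure]]
      apply Subgroup.isMulCommutative_closure
      rintro a (ha | rfl) b (hb | rfl)
      · exact setLike_mul_comm ha hb
      · exact (hxcomm a ha).symm
      · exact hxcomm b hb
      · rfl
    have hEn : E.Normal := by
      have : E = (Subgroup.zpowers (QuotientGroup.mk' C x)).comap (QuotientGroup.mk' C) := by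
        rw [← MonoidHom.map_zpowers, Subgroup.comap_map_eq, QuotientGroup.ker_mk', sup_comm]
      rw [this]
      haveI : (Subgroup.zpowers (QuotientGroup.mk' C x)).Normal := ⟨fun a ha g => by
        obtain ⟨k, rfl⟩ := ha
        rw [← conj_zpow (i := k), Subgroup.mem_center_iff.mp hzc g, mul_inv_cancel_right]
        exact ⟨k, rfl⟩⟩
      infer_instance
    have hEA : E ≤ A := sup_le hCA (Subgroup.zpowers_le.mpr hxD.1)
    exact hxC (hmax ⟨hEn, hBC.trans le_sup_left, hEA, hEab⟩ le_sup_left
      (Subgroup.mem_sup_right (Subgroup.mem_zpowers x)))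

end Cfsg.Agent.S1894
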