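import Cfsg.Statements.S1895
import Cfsg.Agent.Lib.RankTwoChief.Basic
import Cfsg.Agent.Lib.Solvable.Basic

set_option autoImplicit false
open Cfsg
open scoped commutatorElement

namespace Cfsg.Agent.S1895

theorem exponent_commutator {G : Type*} [Group G] [Finite G] {p : ℕ} [hp : Fact p.Prime]
    (H K : Subgroup G) [H.Normal] [K.Normal] (hKH : K < H) {n : ℕ} (hn : K.relIndex H = p ^ n)
    (hchief : ∀ L : Subgroup G, L.Normal → K ≤ L → L ≤ H → L = K ∨ L = H) :
    (∀ x ∈ H, x ^ p ∈ K) ∧ ∀ x ∈ H, ∀ y ∈ H, ⁅x, y⁆ ∈ K := by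
  set π := QuotientGroup.mk' K with hπ
  set N := H.map π with hN
  haveI : N.Normal := Subgroup.Normal.map ‹H.Normal› π (QuotientGroup.mk'_surjective K)
  have hcard : Nat.card N = p ^ n := by
    rw [← hn, hN]
    have h1 := Subgroup.index_ker (π.comp H.subtype)
    rw [MonoidHom.range_comp, Subgroup.range_subtype, ← MonoidHom.comap_ker,
      QuotientGroup.ker_mk'] at h1
    exact h1.symm
  have hpN : IsPGroup p N := IsPGroup.of_card hcard
  haveI := hpN.isNilpotent
  haveI : Group.IsSolvable N := inferInstance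
  have hN0 : N ≠ ⊥ := by
    intro h
    rw [hN, Subgroup.map_eq_bot_iff, QuotientGroup.ker_mk'] at h
    exact hKH.not_ge h
  obtain ⟨hab, q, hq, hqN, hexp⟩ := Solvable.elementaryAbelian_of_minimal_normal N hN0 (by
    intro M hM hMN
    rcases hchief (M.comap π) (hM.comap π) (fun x hx => by
        rw [Subgroup.mem_comap, hπ, QuotientGroup.mk'_apply, (QuotientGroup.eq_one_iff x).mpr hx]
        exact one_mem _) (fun x hx => by
        obtain ⟨h, hh, he⟩ := hMN hx
        rw [hπ, QuotientGroup.mk'_apply, QuotientGroup.mk'_apply, QuotientGroup.eq] at he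
        have := mul_mem hh (hKH.le he)
        rwa [mul_inv_cancel_left] at this) with h | h
    · left
      rw [← Subgroup.map_comap_eq_self_of_surjective (QuotientGroup.mk'_surjective K) M, h]
      exact (Subgroup.map_eq_bot_iff K).mpr (QuotientGroup.ker_mk' K).ge
    · right
      rw [← Subgroup.map_comap_eq_self_of_surjective (QuotientGroup.mk'_surjective K) M, h])
  haveI := Fact.mk hq
  obtain rfl : q = p := by
    haveI := (Subgroup.nontrivial_iff_ne_bot N).mpr hN0
    obtain ⟨a, ha, hca⟩ := hqN.nontrivial_iff_card.mp inferInstance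
    exact (Nat.prime_dvd_prime_iff_eq hq hp.out).mp
      (hq.dvd_of_dvd_pow (hcard ▸ hca ▸ dvd_pow_self q ha.ne'))
  refine ⟨fun x hx => ?_, fun x hx y hy => ?_⟩
  · have := hexp (π x) ⟨x, hx, rfl⟩
    rwa [← map_pow, hπ, QuotientGroup.mk'_apply, QuotientGroup.eq_one_iff] at this
  · have h1 : π x * π y = π y * π x := congrArg Subtype.val
      (hab.is_comm.comm (⟨π x, x, hx, rfl⟩ : N) ⟨π y, y, hy, rfl⟩)
    rw [← QuotientGroup.eq_one_iff, ← QuotientGroup.mk'_apply, ← hπ, map_commutatorElement,
      commutatorElement_eq_one_iff_mul_comm]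
    exact h1

/-- Let p be an odd prime and G a finite p-solvable group with no elementary abelian subgroup of order p³. Then every chief factor H/K of G (H, K normal in G with no normal subgroup of G strictly between them) whose order is a power of p has order p or p². -/
theorem result {G : Type*} [Group G] [Finite G] {p : ℕ} [Fact p.Prime] (hp : p ≠ 2)
    (hG : Cfsg.IsPSolvable p G) (hr : Cfsg.PRankLE p 2 G)
    (H K : Subgroup G) [H.Normal] [K.Normal] (hKH : K < H) (hpow : ∃ n : ℕ, K.relIndex H = p ^ n)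
    (hchief : ∀ L : Subgroup G, L.Normal → K ≤ L → L ≤ H → L = K ∨ L = H) :
    K.relIndex H = p ∨ K.relIndex H = p ^ 2 := by
  have hp' := (Fact.out : p.Prime)
  obtain ⟨n, hn⟩ := hpow
  obtain ⟨hexp, hcomm⟩ := exponent_commutator H K hKH hn hchief
  obtain ⟨P⟩ := Sylow.nonempty (p := p) (G := H)
  set P0 := (P : Subgroup H).map H.subtype with hP0
  set M := Subgroup.normalizer (P0 : Set G) with hM
  have hMH : M ⊔ H = ⊤ := Sylow.normalizer_sup_eq_top P
  have hP0H : P0 ≤ H := Subgroup.map_subtype_le _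
  have hP0p : IsPGroup p P0 := P.2.map _
  have hsup : P0 ⊔ K = H := by
    refine le_antisymm (sup_le hP0H hKH.le) (Subgroup.relIndex_eq_one.mp ?_)
    have h1 : (P0 ⊔ K).relIndex H ∣ p ^ n :=
      (Subgroup.relIndex_dvd_of_le_left H (le_sup_right : K ≤ P0 ⊔ K)).trans hn.dvd
    have h2 : (P0 ⊔ K).relIndex H ∣ (P : Subgroup H).index := by
      have : P0.relIndex H = (P : Subgroup H).index := by
        rw [hP0, Subgroup.relIndex, Subgroup.subgroupOf,
          Subgroup.comap_map_eq_self_of_injective H.subtype_injective]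
      exact (Subgroup.relIndex_dvd_of_le_left H (le_sup_left : P0 ≤ P0 ⊔ K)).trans this.dvd
    obtain ⟨j, -, hj⟩ := (Nat.dvd_prime_pow hp').mp h1
    rcases j with _ | j
    · rw [hj, pow_zero]
    · exact absurd (((dvd_pow_self p j.succ_ne_zero).trans hj.symm.dvd).trans h2)
        P.not_dvd_index
  obtain ⟨Q, ⟨hQP, hQK, hQM⟩, hmin⟩ := wellFounded_lt.has_min
    {Q : Subgroup G | Q ≤ P0 ∧ Q ⊔ K = H ∧ M ≤ Subgroup.normalizer (Q : Set G)}
    ⟨P0, le_rfl, hsup, le_rfl⟩
  have hQH : Q ≤ H := hQP.trans hP0H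
  have hQp : IsPGroup p Q := hP0p.to_le hQP
  have key : (K.subgroupOf Q).index ≤ p ^ 2 := by
    refine Cfsg.Agent.RankTwoChief.index_le_sq_of_rank_two hp hQp ?_ (K.subgroupOf Q) ?_ ?_ ?_
    · intro A hAc hAp
      haveI := hAc
      rw [← Subgroup.card_map_of_injective Q.subtype_injective]
      refine hr _ (Subgroup.map_isMulCommutative A Q.subtype) ?_
      rintro _ ⟨a, ha, rfl⟩
      rw [← map_pow, hAp a ha, map_one]
    · intro x
      simpa [Subgroup.mem_subgroupOf] using hexp x (hQH x.2)
    · intro x y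
      rw [Subgroup.mem_subgroupOf, ← Subgroup.coe_subtype, map_commutatorElement]
      exact hcomm _ (hQH x.2) _ (hQH y.2)
    · intro N hNc hNt
      haveI := hNc
      set N0 := N.map Q.subtype with hN0
      have hN0Q : N0 ≤ Q := Subgroup.map_subtype_le _
      have hlt : N0 < Q := lt_of_le_of_ne hN0Q fun h => hNt (by
        apply Subgroup.map_injective Q.subtype_injective
        rw [← hN0, h, ← MonoidHom.range_eq_map, Subgroup.range_subtype])
      have hinv : ∀ m ∈ M, ∀ x ∈ N0, m * x * m⁻¹ ∈ N0 := by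
        rintro m hm _ ⟨x, hx, rfl⟩
        refine ⟨Q.normalizerMonoidHom ⟨m, hQM hm⟩ x, (PGroup.aut_mem_iff _ x).mpr hx, ?_⟩
        simp
      have hN0M : M ≤ Subgroup.normalizer (N0 : Set G) := by
        intro m hm
        rw [Subgroup.mem_normalizer_iff]
        refine fun x => ⟨hinv m hm x, fun h => ?_⟩
        have := hinv m⁻¹ (inv_mem hm) _ h
        rwa [inv_inv, ← mul_assoc, ← mul_assoc, inv_mul_cancel, one_mul, mul_assoc,
          inv_mul_cancel, mul_one] at this
      set L := N0 ⊔ K with hL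
      have hLH : L ≤ H := sup_le (hN0Q.trans hQH) hKH.le
      have hLn : L.Normal := by
        rw [← Subgroup.normalizer_eq_top_iff, eq_top_iff, ← hMH]
        refine sup_le (fun m hm => ?_) (fun h hh => ?_)
        · have hc : ∀ g ∈ M, ∀ x ∈ L, g * x * g⁻¹ ∈ L := by
            intro g hg x hx
            obtain ⟨a, ha, b, hb, rfl⟩ := Subgroup.mem_sup_of_normal_right.mp hx
            have : g * (a * b) * g⁻¹ = (g * a * g⁻¹) * (g * b * g⁻¹) := by group
            rw [this]
            exact Subgroup.mul_mem_sup (hinv g hg a ha) (Subgroup.Normal.conj_mem ‹K.Normal› b hb g)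
          rw [Subgroup.mem_normalizer_iff]
          refine fun x => ⟨hc m hm x, fun hx => ?_⟩
          have := hc m⁻¹ (inv_mem hm) _ hx
          rwa [inv_inv, ← mul_assoc, ← mul_assoc, inv_mul_cancel, one_mul, mul_assoc,
            inv_mul_cancel, mul_one] at this
        · rw [Subgroup.mem_normalizer_iff]
          have hc : ∀ g ∈ H, ∀ x ∈ L, g * x * g⁻¹ ∈ L := by
            intro g hg x hx
            have : g * x * g⁻¹ = ⁅g, x⁆ * x := by rw [commutatorElement_def]; group
            rw [this]
            exact mul_mem (Subgroup.mem_sup_right (hcomm g hg x (hLH hx))) hx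
          refine fun x => ⟨hc h hh x, fun hx => ?_⟩
          have := hc h⁻¹ (inv_mem hh) _ hx
          rwa [inv_inv, ← mul_assoc, ← mul_assoc, inv_mul_cancel, one_mul, mul_assoc,
            inv_mul_cancel, mul_one] at this
      rcases hchief L hLn le_sup_right hLH with h | h
      · intro x hx
        rw [Subgroup.mem_subgroupOf, ← h]
        exact Subgroup.mem_sup_left ⟨x, hx, rfl⟩
      · exact absurd hlt (hmin N0 ⟨hN0Q.trans hQP, h, hN0M⟩)
  have he : K.relIndex H = (K.subgroupOf Q).index := by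
    rw [← hQK, Subgroup.relIndex_sup_right]; rfl
  rw [← he, hn] at key
  have hn2 : n ≤ 2 := (Nat.pow_le_pow_iff_right hp'.one_lt).mp key
  have hn0 : n ≠ 0 := by
    rintro rfl
    rw [pow_zero, Subgroup.relIndex_eq_one] at hn
    exact hKH.not_ge hn
  interval_cases n
  · exact absurd rfl hn0
  · left; rw [hn, pow_one]
  · right; exact hn

end Cfsg.Agent.S1895
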