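import Cfsg.Statements.S1897
import Cfsg.Agent.Lib.U33L27.Table
import Cfsg.Agent.Lib.Linear.PSLTwoSmall
import Cfsg.Agent.Lib.Unitary.Center

set_option autoImplicit false
open Cfsg

namespace Cfsg.Agent.S1897

/-- The projective special unitary group PSU₃(3) (realised over the field with 9 elements) has a subgroup isomorphic to PSL₂(7). -/
theorem result {F : Type*} [Field F] [Fintype F] (hF : Fintype.card F = 9)
    {K : Type*} [Field K] [Fintype K] (hK : Fintype.card K = 7) :
    ∃ H : Subgroup (Cfsg.PSU 3 F 3), Nonempty (H ≃* Matrix.ProjectiveSpecialLinearGroup (Fin 2) K) := by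
  have hF' : Fintype.card F = 3 ^ 2 := by rw [hF]; norm_num
  haveI : Fact (Nat.Prime 3) := ⟨Nat.prime_three⟩
  haveI : Fact (Nat.Prime 7) := ⟨by norm_num⟩
  haveI : CharP F 3 := charP_of_card_eq_prime_pow hF'
  obtain ⟨f, hker, hnc⟩ := Agent.U33L27.exists_hom (F := F) hF'
  have htriv : Subgroup.center (Cfsg.SU 3 F 3) = ⊥ := by
    rw [← Subgroup.card_eq_one, Agent.Unitary.card_center_SU hF' (by norm_num)]
    decide
  let q : Cfsg.SU 3 F 3 →* Cfsg.PSU 3 F 3 := QuotientGroup.mk' _
  have hq : Function.Injective q := by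
    rw [← MonoidHom.ker_eq_bot_iff, QuotientGroup.ker_mk', htriv]
  let φ : Matrix.ProjectiveSpecialLinearGroup (Fin 2) (ZMod 7) →* Cfsg.PSU 3 F 3 :=
    QuotientGroup.lift _ (q.comp f) (fun x hx => by
      rw [MonoidHom.mem_ker, MonoidHom.comp_apply, MonoidHom.mem_ker.mp (hker hx), map_one])
  have hsimple : IsSimpleGroup (Matrix.ProjectiveSpecialLinearGroup (Fin 2) (ZMod 7)) :=
    Matrix.ProjectiveSpecialLinearGroup.rank_two_simple (by rw [Nat.card_zmod]; norm_num)
  have hinj : Function.Injective φ := by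
    refine (MonoidHom.ker_eq_bot_iff φ).mp
      ((hsimple.eq_bot_or_eq_top_of_normal _ inferInstance).resolve_right fun htop => hnc ?_)
    have h1 : ∀ g, f g = 1 := fun g => by
      have h : φ (QuotientGroup.mk g) = 1 := MonoidHom.mem_ker.mp (htop ▸ Subgroup.mem_top _)
      exact hq (h.trans (map_one q).symm)
    rw [h1, h1]
  have h7 : Nat.Prime 7 := by norm_num
  exact ⟨φ.range, ⟨(MonoidHom.ofInjective hinj).symm.trans
    (Agent.Linear.pslMapEquiv (ZMod.ringEquivOfPrime K h7 hK))⟩⟩

end Cfsg.Agent.S1897
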