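import Cfsg.Statements.S1898
import Cfsg.Agent.EqLemmas

set_option autoImplicit false
open Cfsg
open scoped commutatorElement

namespace Cfsg.Agent.S1898

/-- Let X be a finite 2-group whose derived subgroup is elementary abelian and central. Then the subgroup generated by the elements of order dividing 4 has exponent dividing 4, and every automorphism of X fixing each element of order dividing 4 has 2-power order. -/
theorem result {X : Type*} [Group X] [Finite X] (hX : IsPGroup 2 X)
    (hel : Cfsg.IsElementaryAbelian 2 (commutator X)) (hcen : commutator X ≤ Subgroup.center X) :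
    (∀ x ∈ Subgroup.closure {g : X | g ^ 4 = 1}, x ^ 4 = 1) ∧
      ∀ φ : MulAut X, (∀ g : X, g ^ 4 = 1 → φ g = g) → ∃ k : ℕ, φ ^ (2 ^ k) = 1 := by
  have cc : ∀ a b z : X, ⁅a, b⁆ * z = z * ⁅a, b⁆ := fun a b z =>
    (Subgroup.mem_center_iff.mp (hcen (Subgroup.commutator_mem_commutator (Subgroup.mem_top a) (Subgroup.mem_top b))) z).symm
  have c2 : ∀ a b : X, ⁅a, b⁆ * ⁅a, b⁆ = 1 := fun a b => by
    have := hel.2 _ (Subgroup.commutator_mem_commutator (Subgroup.mem_top a) (Subgroup.mem_top b))
    rwa [pow_two] at this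
  have sq : ∀ a b : X, (a * b) ^ 2 = a ^ 2 * b ^ 2 * ⁅b, a⁆ := by
    intro a b
    have h : b * a = ⁅b, a⁆ * (a * b) := by simp [commutatorElement_def, mul_assoc]
    calc (a * b) ^ 2 = a * (b * a) * b := by simp [pow_two, mul_assoc]
      _ = a * (⁅b, a⁆ * ((a * b) * b)) := by rw [h]; simp [mul_assoc]
      _ = a * ((a * b) * b * ⁅b, a⁆) := by rw [cc]
      _ = a ^ 2 * b ^ 2 * ⁅b, a⁆ := by simp [pow_two, mul_assoc]
  have sqc : ∀ a b : X, a ^ 2 * b = b * a ^ 2 := by
    intro a b
    have h : a * b = ⁅a, b⁆ * (b * a) := by simp [commutatorElement_def, mul_assoc]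
    calc a ^ 2 * b = a * (⁅a, b⁆ * (b * a)) := by rw [← h]; simp [pow_two, mul_assoc]
      _ = ⁅a, b⁆ * ((a * b) * a) := by rw [← mul_assoc a, ← cc]; simp [mul_assoc]
      _ = ⁅a, b⁆ * ⁅a, b⁆ * (b * a ^ 2) := by
          conv_lhs => rw [h]
          simp [pow_two, mul_assoc]
      _ = b * a ^ 2 := by rw [c2, one_mul]
  have four : ∀ a b : X, a ^ 4 = 1 → b ^ 4 = 1 → (a * b) ^ 4 = 1 := by
    intro a b ha hb
    have e1 : (a * b) ^ 4 = ((a * b) ^ 2) ^ 2 := by rw [← pow_mul]
    rw [e1, sq, Commute.mul_pow (cc b a _).symm, pow_two ⁅b, a⁆, c2, mul_one, Commute.mul_pow (sqc a _),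
      ← pow_mul, ← pow_mul, ha, hb, one_mul]
  refine ⟨fun x hx => ?_, fun φ hφ => ?_⟩
  · induction hx using Subgroup.closure_induction with
    | mem y hy => exact hy
    | one => simp
    | mul a b _ _ ha hb => exact four a b ha hb
    | inv a _ ha => simp [ha]
  · haveI : Finite (MulAut X) := Finite.of_injective (fun e : MulAut X => e.toEquiv) MulEquiv.toEquiv_injective
    have hn0 : orderOf φ ≠ 0 := (orderOf_pos φ).ne'
    obtain ⟨k, m, hm, hkm⟩ : ∃ k m, ¬ 2 ∣ m ∧ orderOf φ = 2 ^ k * m :=
      Nat.exists_eq_pow_mul_and_not_dvd hn0 2 (by norm_num)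
    refine ⟨k, ?_⟩
    set ψ := φ ^ (2 ^ k) with hψ
    have hψm : ψ ^ m = 1 := by rw [hψ, ← pow_mul, ← hkm, pow_orderOf_eq_one]
    have hψ4 : ∀ g : X, g ^ 4 = 1 → ψ g = g := by
      intro g hg
      rw [hψ]
      generalize 2 ^ k = j
      induction j with
      | zero => simp
      | succ j ih => rw [pow_succ, MulAut.mul_apply, hφ g hg, ih]
    have key : ∀ (e : ℕ) (x : X), x ^ (2 ^ e) = 1 → ψ x = x := by
      intro e
      induction e with
      | zero => intro x hx; rw [pow_zero, pow_one] at hx; simp [hx]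
      | succ e ih =>
        intro x hx
        set y := ψ x * x⁻¹ with hy
        have hx2 : ψ (x ^ 2) = x ^ 2 := ih _ (by rwa [← pow_mul, ← pow_succ'])
        have h1 : (y * x) ^ 2 = x ^ 2 := by rw [hy, inv_mul_cancel_right, ← map_pow, hx2]
        rw [sq] at h1
        have h2 : y ^ 2 * ⁅x, y⁆ = 1 := by
          rw [mul_assoc, (cc x y (x ^ 2)).symm, ← mul_assoc] at h1
          exact mul_eq_right.mp h1
        have hy4 : y ^ 4 = 1 := by
          have : y ^ 2 = ⁅x, y⁆⁻¹ := eq_inv_of_mul_eq_one_left h2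
          rw [show y ^ 4 = (y ^ 2) ^ 2 by rw [← pow_mul], this, inv_pow, pow_two, c2, inv_one]
        have hit : ∀ j : ℕ, (ψ ^ j) x = y ^ j * x := by
          intro j
          induction j with
          | zero => simp
          | succ j ihj =>
            rw [pow_succ', MulAut.mul_apply, ihj, map_mul, map_pow, hψ4 y hy4]
            rw [pow_succ y j, mul_assoc, show y * x = ψ x by rw [hy, inv_mul_cancel_right]]
        have h3 : y ^ m = 1 := by
          have := hit m
          rw [hψm] at this
          rw [MulAut.one_apply] at this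
          exact mul_eq_right.mp this.symm
        have hy1 : y = 1 := orderOf_eq_one_iff.mp (Nat.eq_one_of_dvd_coprimes (a := 4) (b := m)
          (by
            have : Nat.Coprime 2 m := (Nat.prime_two.coprime_iff_not_dvd).mpr hm
            simpa using this.pow_left 2)
          (orderOf_dvd_of_pow_eq_one hy4) (orderOf_dvd_of_pow_eq_one h3))
        exact mul_inv_eq_one.mp (by rw [← hy]; exact hy1)
    ext x
    obtain ⟨e, he⟩ := hX x
    simpa using key e x he

end Cfsg.Agent.S1898
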