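import Cfsg.Statements.S1899
import Cfsg.Agent.EqLemmas

set_option autoImplicit false
open Cfsg

namespace Cfsg.Agent.S1899

/-- Let a dihedral group of order 2n, n odd and n > 1, act on a finite abelian 2-group A through automorphisms d and t with d^n = 1, t² = 1 and t d t⁻¹ = d⁻¹, and suppose that d fixes only the identity. Then A is the internal direct product of C_A(t) and its image under d. -/
theorem result {A : Type*} [CommGroup A] [Finite A] (hA : IsPGroup 2 A)
    {n : ℕ} (hn : Odd n) (hn1 : 1 < n) (d t : MulAut A) (hd : d ^ n = 1) (ht : t ^ 2 = 1) (hdt : t * d * t⁻¹ = d⁻¹)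
    (hfix : ∀ a : A, d a = a → a = 1) :
    (MulEquiv.toMonoidHom t).eqLocus (MonoidHom.id A) ⊓ ((MulEquiv.toMonoidHom t).eqLocus (MonoidHom.id A)).map d.toMonoidHom = ⊥ ∧
      (MulEquiv.toMonoidHom t).eqLocus (MonoidHom.id A) ⊔ ((MulEquiv.toMonoidHom t).eqLocus (MonoidHom.id A)).map d.toMonoidHom = ⊤ := by
  have dd : ∀ a, d (d.symm a) = a := d.apply_symm_apply
  have dd' : ∀ a, d.symm (d a) = a := d.symm_apply_apply
  have tt : ∀ a, t (t a) = a := fun a => by
    have := DFunLike.congr_fun ht a
    simpa [pow_two] using this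
  have hdt1 : ∀ a, t (d a) = d.symm (t a) := fun a => by
    have h := DFunLike.congr_fun hdt (t a)
    have e : t⁻¹ = t := by
      apply inv_eq_of_mul_eq_one_left
      rw [← pow_two]; exact ht
    simpa [e, tt] using h
  have hdt2 : ∀ a, t (d.symm a) = d (t a) := fun a => by
    have h := hdt1 (d.symm a)
    rw [dd] at h
    rw [h, dd]
  have hd2 : ∀ a, d (d a) = a → a = 1 := fun a ha => by
    obtain ⟨m, rfl⟩ := hn
    apply hfix
    have h1 : ∀ k : ℕ, (d ^ (2 * k)) a = a := by
      intro k
      induction k with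
      | zero => simp
      | succ k ih =>
        rw [show 2 * (k + 1) = 2 * k + 1 + 1 by ring, pow_succ, pow_succ, mul_assoc, MulAut.mul_apply, MulAut.mul_apply, ha, ih]
    have h2 := DFunLike.congr_fun hd a
    rw [pow_succ', MulAut.mul_apply, h1 m] at h2
    simpa using h2
  let f : A →* A :=
    { toFun := fun a => d a * (d.symm a)⁻¹
      map_one' := by simp
      map_mul' := fun a b => by simp only [map_mul, mul_inv]; exact mul_mul_mul_comm _ _ _ _ }
  have hf : Function.Injective f := by
    rw [injective_iff_map_eq_one]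
    intro a ha
    have h : d a = d.symm a := mul_inv_eq_one.mp ha
    exact hd2 a (by rw [h, dd])
  have hfs : Function.Surjective f := Finite.injective_iff_surjective.mp hf
  refine ⟨?_, ?_⟩
  · rw [eq_bot_iff]
    rintro _ ⟨h1, a, ha, rfl⟩
    replace ha : t a = a := ha
    replace h1 : t (d a) = d a := h1
    rw [hdt1, ha] at h1
    have : a = 1 := hd2 a (by rw [← h1, dd])
    simp [this]
  · rw [eq_top_iff]
    intro a _
    obtain ⟨c, hc⟩ := hfs (a * (t a)⁻¹)
    change d c * (d.symm c)⁻¹ = a * (t a)⁻¹ at hc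
    have htc : t c = c := by
      apply hf
      change d (t c) * (d.symm (t c))⁻¹ = d c * (d.symm c)⁻¹
      rw [← hdt2, ← hdt1, ← map_inv, ← map_mul, ← inv_inj, ← map_inv t, mul_inv, inv_inv, mul_comm, hc,
        map_mul, map_inv, tt, mul_inv, inv_inv, mul_comm]
    have ha : a = a * (d c)⁻¹ * d c := by simp
    rw [ha]
    refine mul_mem (Subgroup.mem_sup_left ?_) (Subgroup.mem_sup_right ⟨c, htc, rfl⟩)
    change t (a * (d c)⁻¹) = a * (d c)⁻¹
    have : d c = a * (t a)⁻¹ * d.symm c := mul_inv_eq_iff_eq_mul.mp hc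
    rw [map_mul, map_inv, hdt1, htc, this, mul_inv, mul_inv, inv_inv]
    simp [mul_comm, mul_left_comm, mul_assoc]

end Cfsg.Agent.S1899
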