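import Cfsg.Statements.S1900
import Cfsg.Agent.Lib.Coprime.Generation
import Cfsg.Agent.Lib.Coprime.Invariant
import Cfsg.Agent.Lib.Coprime.PQ

set_option autoImplicit false
open Cfsg
open scoped commutatorElement

namespace Cfsg.Agent.S1900

/-- `z ↦ z⁻¹ x z x⁻¹` on a product of an `x`-fixed and a `y`-fixed subgroup lands in `y`-fixed points. -/
theorem fixed_of_sup {H : Type*} [Group H] {E₁ E₂ : Subgroup H} {x y : H}
    (hE : ∀ a ∈ E₁ ⊔ E₂, ∀ b ∈ E₁ ⊔ E₂, a * b = b * a) (h₁ : ∀ a ∈ E₁, x * a * x⁻¹ = a)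
    (h₂ : ∀ a ∈ E₂, y * a * y⁻¹ = a) (hxy : x * y = y * x) {z : H} (hz : z ∈ E₁ ⊔ E₂) :
    y * (z⁻¹ * (x * z * x⁻¹)) * y⁻¹ = z⁻¹ * (x * z * x⁻¹) := by
  have hn : E₁ ≤ Subgroup.normalizer (E₂ : Set H) := fun a ha =>
    Subgroup.mem_normalizer_iff.2 fun b => by
      constructor
      · intro hb
        rwa [hE a (Subgroup.mem_sup_left ha) b (Subgroup.mem_sup_right hb), mul_inv_cancel_right]
      · intro hb
        have h := hE a (Subgroup.mem_sup_left ha) _ (Subgroup.mem_sup_right hb)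
        have e : a * b * a⁻¹ = b := by
          calc a * b * a⁻¹ = a⁻¹ * (a * (a * b * a⁻¹)) := by group
            _ = a⁻¹ * (a * b * a⁻¹ * a) := by rw [h]
            _ = b := by group
        rwa [e] at hb
  obtain ⟨b, hb, a, ha, rfl⟩ := (Coprime.mem_sup_iff hn).1 (sup_comm E₁ E₂ ▸ hz)
  have e : (b * a)⁻¹ * (x * (b * a) * x⁻¹) = b⁻¹ * (x * b * x⁻¹) := by
    have h := hE a (Subgroup.mem_sup_left ha) b (Subgroup.mem_sup_right hb)
    calc (b * a)⁻¹ * (x * (b * a) * x⁻¹) = (a * b)⁻¹ * (x * (a * b) * x⁻¹) := by rw [h]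
      _ = b⁻¹ * a⁻¹ * ((x * a * x⁻¹) * (x * b * x⁻¹)) := by group
      _ = _ := by rw [h₁ a ha]; group
  rw [e]
  have h2 := h₂ b hb
  calc y * (b⁻¹ * (x * b * x⁻¹)) * y⁻¹
      = (y * b * y⁻¹)⁻¹ * ((y * x) * b * (y * x)⁻¹) := by group
    _ = (y * b * y⁻¹)⁻¹ * (x * (y * b * y⁻¹) * x⁻¹) := by rw [← hxy]; group
    _ = _ := by rw [h2]

/-- Let S = PQ be a finite group with P a normal Sylow p-subgroup and Q elementary abelian of order q², q a prime different from p. If exactly two subgroups X₁, X₂ of order q in Q have a nontrivial centralizer in P, then P is the internal direct product of C_P(X₁) and C_P(X₂): they commute elementwise, meet trivially and generate P. -/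
theorem result {S : Type*} [Group S] [Finite S] {p q : ℕ} [Fact p.Prime] [Fact q.Prime] (hpq : p ≠ q)
    (P : Sylow p S) [(P : Subgroup S).Normal] (Q : Subgroup S) (hQ : Cfsg.IsElementaryAbelian q Q) (hQc : Nat.card Q = q ^ 2)
    (hS : (P : Subgroup S) ⊔ Q = ⊤)
    (X₁ X₂ : Subgroup S) (h₁ : X₁ ≤ Q) (h₂ : X₂ ≤ Q) (h₁₂ : X₁ ≠ X₂) (hc₁ : Nat.card X₁ = q) (hc₂ : Nat.card X₂ = q)
    (hf₁ : (P : Subgroup S) ⊓ Subgroup.centralizer (X₁ : Set S) ≠ ⊥)
    (hf₂ : (P : Subgroup S) ⊓ Subgroup.centralizer (X₂ : Set S) ≠ ⊥)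
    (honly : ∀ X : Subgroup S, X ≤ Q → Nat.card X = q →
      (P : Subgroup S) ⊓ Subgroup.centralizer (X : Set S) ≠ ⊥ → X = X₁ ∨ X = X₂) :
    ⁅(P : Subgroup S) ⊓ Subgroup.centralizer (X₁ : Set S), (P : Subgroup S) ⊓ Subgroup.centralizer (X₂ : Set S)⁆ = ⊥ ∧
      ((P : Subgroup S) ⊓ Subgroup.centralizer (X₁ : Set S)) ⊓ ((P : Subgroup S) ⊓ Subgroup.centralizer (X₂ : Set S)) = ⊥ ∧
      ((P : Subgroup S) ⊓ Subgroup.centralizer (X₁ : Set S)) ⊔ ((P : Subgroup S) ⊓ Subgroup.centralizer (X₂ : Set S)) = P := by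
  classical
  haveI := hQ.1
  have hq : q.Prime := Fact.out
  have hcop : ∀ K : Subgroup S, K ≤ (P : Subgroup S) → (Nat.card Q).Coprime (Nat.card K) := fun K hK => by
    obtain ⟨n, hn⟩ := IsPGroup.iff_card.1 (P.isPGroup'.to_le hK)
    rw [hQc, hn]
    exact Nat.Coprime.pow _ _ ((Nat.coprime_primes hq Fact.out).2 (Ne.symm hpq))
  obtain ⟨x₁, hx₁, rfl⟩ : ∃ x ∈ X₁, Subgroup.zpowers x = X₁ := by
    haveI : Fact (Nat.card X₁).Prime := ⟨hc₁ ▸ hq⟩
    haveI : IsCyclic X₁ := isCyclic_of_prime_card (p := Nat.card X₁) rfl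
    obtain ⟨g, hg⟩ := Subgroup.isCyclic_iff_exists_zpowers_eq_top (H := X₁) |>.1 inferInstance
    exact ⟨g, hg ▸ Subgroup.mem_zpowers g, hg⟩
  obtain ⟨x₂, hx₂, rfl⟩ : ∃ x ∈ X₂, Subgroup.zpowers x = X₂ := by
    haveI : IsCyclic X₂ := isCyclic_of_prime_card (p := q) hc₂
    obtain ⟨g, hg⟩ := Subgroup.isCyclic_iff_exists_zpowers_eq_top (H := X₂) |>.1 inferInstance
    exact ⟨g, hg ▸ Subgroup.mem_zpowers g, hg⟩
  have hQ1 : x₁ ∈ Q := h₁ hx₁
  have hQ2 : x₂ ∈ Q := h₂ hx₂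
  have hxy : x₁ * x₂ = x₂ * x₁ := setLike_mul_comm hQ1 hQ2
  have hzq : ∀ a ∈ Q, a ≠ 1 → Nat.card (Subgroup.zpowers a) = q := fun a ha ha1 => by
    rw [Nat.card_zpowers]
    exact orderOf_eq_prime (hQ.2 a ha) ha1
  have hcyc : ¬ IsCyclic Q := fun hc => by
    obtain ⟨g, hg⟩ := Subgroup.isCyclic_iff_exists_zpowers_eq_top (H := Q) |>.1 hc
    have hgQ : g ∈ Q := hg ▸ Subgroup.mem_zpowers g
    have h := Nat.le_of_dvd hq.pos (orderOf_dvd_of_pow_eq_one (hQ.2 g hgQ))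
    rw [← Nat.card_zpowers, hg, hQc, sq] at h
    have := hq.two_le
    nlinarith
  set C₁ := (P : Subgroup S) ⊓ Subgroup.centralizer (Subgroup.zpowers x₁ : Set S) with hC₁
  set C₂ := (P : Subgroup S) ⊓ Subgroup.centralizer (Subgroup.zpowers x₂ : Set S) with hC₂
  have hm₁ : ∀ z ∈ C₁, x₁ * z * x₁⁻¹ = z := fun z hz => by
    rw [Subgroup.mem_centralizer_iff.1 hz.2 x₁ (Subgroup.mem_zpowers _), mul_inv_cancel_right]
  have hm₂ : ∀ z ∈ C₂, x₂ * z * x₂⁻¹ = z := fun z hz => by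
    rw [Subgroup.mem_centralizer_iff.1 hz.2 x₂ (Subgroup.mem_zpowers _), mul_inv_cancel_right]
  have mem_C : ∀ {x z : S}, z ∈ (P : Subgroup S) → x * z * x⁻¹ = z →
      z ∈ (P : Subgroup S) ⊓ Subgroup.centralizer (Subgroup.zpowers x : Set S) := by
    intro x z hz he
    refine ⟨hz, Subgroup.mem_centralizer_iff.2 fun b hb => ?_⟩
    obtain ⟨k, rfl⟩ := Subgroup.mem_zpowers_iff.1 hb
    exact ((show Commute x z from mul_inv_eq_iff_eq_mul.1 he).zpow_left k).eq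
  have hconj : ∀ a ∈ Q, ∀ b ∈ Q, ∀ z : S, b * z * b⁻¹ = z → b * (a * z * a⁻¹) * b⁻¹ = a * z * a⁻¹ := by
    intro a ha b hb z hz
    calc b * (a * z * a⁻¹) * b⁻¹ = (b * a) * z * (b * a)⁻¹ := by group
      _ = (a * b) * z * (a * b)⁻¹ := by rw [setLike_mul_comm hb ha]
      _ = a * (b * z * b⁻¹) * a⁻¹ := by group
      _ = _ := by rw [hz]
  -- trivial intersection
  have hint : C₁ ⊓ C₂ = ⊥ := by
    refine (Subgroup.eq_bot_iff_forall _).2 fun z hz => ?_
    by_contra hz1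
    have h21 : x₂ ∉ Subgroup.zpowers x₁ := fun h =>
      h₁₂ (Subgroup.eq_of_le_of_card_ge (Subgroup.zpowers_le.2 h) (by rw [hc₁, hc₂])).symm
    have h12 : x₁ ∉ Subgroup.zpowers x₂ := fun h =>
      h₁₂ (Subgroup.eq_of_le_of_card_ge (Subgroup.zpowers_le.2 h) (by rw [hc₁, hc₂]))
    have h31 : x₁ * x₂ ∉ Subgroup.zpowers x₁ := fun h =>
      h21 ((Subgroup.mul_mem_cancel_left _ (Subgroup.mem_zpowers x₁)).1 h)
    have h32 : x₁ * x₂ ∉ Subgroup.zpowers x₂ := fun h =>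
      h12 ((Subgroup.mul_mem_cancel_right _ (Subgroup.mem_zpowers x₂)).1 h)
    have h3 : z ∈ (P : Subgroup S) ⊓ Subgroup.centralizer (Subgroup.zpowers (x₁ * x₂) : Set S) :=
      mem_C hz.1.1 (by
        calc x₁ * x₂ * z * (x₁ * x₂)⁻¹ = x₁ * (x₂ * z * x₂⁻¹) * x₁⁻¹ := by group
          _ = z := by rw [hm₂ z hz.2, hm₁ z hz.1])
    rcases honly _ (Subgroup.zpowers_le.2 (Q.mul_mem hQ1 hQ2))
      (hzq _ (Q.mul_mem hQ1 hQ2) fun h => h31 (h ▸ Subgroup.one_mem _))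
      (fun h => hz1 ((Subgroup.eq_bot_iff_forall _).1 h z h3)) with e | e
    · exact h31 (e ▸ Subgroup.mem_zpowers _)
    · exact h32 (e ▸ Subgroup.mem_zpowers _)
  -- generation inside every invariant subgroup
  have hgen : ∀ K : Subgroup S, K ≤ (P : Subgroup S) → Q ≤ Subgroup.normalizer (K : Set S) →
      K ≤ (K ⊓ C₁) ⊔ (K ⊓ C₂) := by
    intro K hK hKn
    refine Coprime.le_of_noncyclic hcyc hKn (hcop K hK) fun a ha ha1 z hz => ?_
    by_cases hz1 : z = 1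
    · rw [hz1]; exact Subgroup.one_mem _
    have hzc : z ∈ (P : Subgroup S) ⊓ Subgroup.centralizer (Subgroup.zpowers a : Set S) :=
      mem_C (hK hz.1) (by rw [← Subgroup.mem_centralizer_singleton_iff.1 hz.2, mul_inv_cancel_right])
    rcases honly _ (Subgroup.zpowers_le.2 ha) (hzq a ha ha1)
      (fun h => hz1 ((Subgroup.eq_bot_iff_forall _).1 h z hzc)) with e | e
    · exact Subgroup.mem_sup_left ⟨hz.1, by rw [hC₁, ← e]; exact hzc⟩
    · exact Subgroup.mem_sup_right ⟨hz.1, by rw [hC₂, ← e]; exact hzc⟩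
  refine ⟨?_, hint, le_antisymm (sup_le inf_le_left inf_le_left) ?_⟩
  swap
  · exact (hgen _ le_rfl Subgroup.le_normalizer_of_normal).trans (sup_le_sup inf_le_right inf_le_right)
  rw [eq_bot_iff, Subgroup.commutator_le]
  intro c₁ hc₁' c₂ hc₂'
  haveI : Group.IsNilpotent (P : Subgroup S) := P.isPGroup'.isNilpotent
  obtain ⟨m, hm⟩ := (Subgroup.isNilpotent_iff_lowerCentralSeries (P : Subgroup S)).1 inferInstance
  set L := (P : Subgroup S).lowerCentralSeries with hLdef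
  have hLn : ∀ i, (L i).Normal := by
    intro i
    induction i with
    | zero => exact inferInstanceAs (P : Subgroup S).Normal
    | succ i ih => rw [hLdef, Subgroup.lowerCentralSeries_succ]; exact Subgroup.commutator_normal _ _
  have hLP : ∀ i, L i ≤ (P : Subgroup S) := by
    intro i
    induction i with
    | zero => exact le_rfl
    | succ i ih =>
      rw [hLdef, Subgroup.lowerCentralSeries_succ]
      exact Subgroup.commutator_le_right _ _
  suffices h : ∀ i, ∀ a ∈ C₁, ∀ b ∈ C₂, ⁅a, b⁆ ∈ L i from (hm ▸ h m c₁ hc₁' c₂ hc₂' :)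
  intro i
  induction i with
  | zero => exact fun a ha b hb => Subgroup.commutator_le_self _ (Subgroup.commutator_mem_commutator ha.1 hb.1)
  | succ i ih =>
    intro a ha b hb
    haveI := hLn (i + 1)
    let π := QuotientGroup.mk' (L (i + 1))
    have hcen : ∀ u ∈ L i, ∀ v ∈ (P : Subgroup S), π u * π v = π v * π u := by
      intro u hu v hv
      refine commutatorElement_eq_one_iff_commute.1 ?_
      rw [← map_commutatorElement, QuotientGroup.mk'_apply, QuotientGroup.eq_one_iff, hLdef,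
        Subgroup.lowerCentralSeries_succ]
      exact Subgroup.commutator_mem_commutator hu hv
    have hQL : Q ≤ Subgroup.normalizer (L i : Set S) := by
      haveI := hLn i; exact Subgroup.le_normalizer_of_normal
    -- the symmetric step
    have step : ∀ (x y : S) (A B : Subgroup S), x ∈ Q → y ∈ Q → A ≤ (P : Subgroup S) → B ≤ (P : Subgroup S) →
        (∀ z ∈ A, x * z * x⁻¹ = z) → (∀ z ∈ B, y * z * y⁻¹ = z) → (∀ z ∈ B, x * z * x⁻¹ ∈ B) →
        A ⊓ B = ⊥ → (∀ z ∈ (P : Subgroup S), x * z * x⁻¹ = z → z ∈ A) →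
        (∀ u ∈ A, ∀ v ∈ B, ⁅u, v⁆ ∈ L i) → L i ≤ (L i ⊓ A) ⊔ (L i ⊓ B) →
        ∀ u ∈ A, ∀ v ∈ B, π y * π ⁅u, v⁆ * (π y)⁻¹ = π ⁅u, v⁆ := by
      intro x y A B hx hy hA hB hxA hyB hxB hAB hmem hcomm hle u hu v hv
      have hinj : Function.Injective
          (fun w : B => (⟨(w : S)⁻¹ * (x * w * x⁻¹), B.mul_mem (B.inv_mem w.2) (hxB w w.2)⟩ : B)) := by
        intro w w' he
        have he' : (w : S)⁻¹ * (x * w * x⁻¹) = (w' : S)⁻¹ * (x * w' * x⁻¹) := congrArg Subtype.val he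
        have h1 : x * ((w' : S) * (w : S)⁻¹) * x⁻¹ = (w' : S) * (w : S)⁻¹ := by
          calc x * ((w' : S) * (w : S)⁻¹) * x⁻¹ = (x * w' * x⁻¹) * (x * w * x⁻¹)⁻¹ := by group
            _ = w' * ((w' : S)⁻¹ * (x * w' * x⁻¹)) * (w * ((w : S)⁻¹ * (x * w * x⁻¹)))⁻¹ := by group
            _ = _ := by rw [← he']; group
        have h2 : (w' : S) * (w : S)⁻¹ ∈ A ⊓ B :=
          ⟨hmem _ (hB (B.mul_mem w'.2 (B.inv_mem w.2))) h1, B.mul_mem w'.2 (B.inv_mem w.2)⟩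
        rw [hAB, Subgroup.mem_bot, mul_inv_eq_one] at h2
        exact Subtype.ext h2.symm
      obtain ⟨⟨w, hw⟩, he⟩ := (Finite.injective_iff_surjective.1 hinj) ⟨v, hv⟩
      have hve : w⁻¹ * (x * w * x⁻¹) = v := congrArg Subtype.val he
      set e := π ⁅u, w⁆ with hedef
      have he1 : π ⁅u, v⁆ = e⁻¹ * (π x * e * (π x)⁻¹) := by
        have hc : ∀ k ∈ L i, (π w)⁻¹ * π k * π w = π k := fun k hk => by
          rw [mul_assoc, hcen k hk w (hB hw), inv_mul_cancel_left]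
        have e2 : ⁅u, w⁻¹ * (x * w * x⁻¹)⁆
            = (w⁻¹ * ⁅u, w⁆⁻¹ * w) * (w⁻¹ * ⁅u, x * w * x⁻¹⁆ * w) := by
          simp [commutatorElement_def, mul_assoc]
        have e3 : ⁅u, x * w * x⁻¹⁆ = x * ⁅u, w⁆ * x⁻¹ := by
          conv_lhs => rw [← hxA u hu]
          simp [commutatorElement_def, mul_assoc]
        have hk := hcomm u hu w hw
        rw [← hve, e2, map_mul, map_mul, map_mul, map_mul, map_inv, map_inv,
          show (π w)⁻¹ * (π ⁅u, w⁆)⁻¹ * π w = e⁻¹ by rw [← map_inv π ⁅u, w⁆]; exact (hc _ ((L i).inv_mem hk)).trans (map_inv _ _),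
          map_mul, map_inv π w, hc _ (hcomm u hu _ (hxB w hw)), e3, map_mul, map_mul, map_inv]
      rw [he1]
      refine fixed_of_sup (E₁ := (L i ⊓ A).map π) (E₂ := (L i ⊓ B).map π) ?_ ?_ ?_ ?_ ?_
      · rw [← Subgroup.map_sup]
        rintro _ ⟨k, hk, rfl⟩ _ ⟨k', hk', rfl⟩
        exact hcen k ((sup_le inf_le_left inf_le_left : L i ⊓ A ⊔ L i ⊓ B ≤ L i) hk) k' (hLP i ((sup_le inf_le_left inf_le_left : L i ⊓ A ⊔ L i ⊓ B ≤ L i) hk'))
      · rintro _ ⟨k, hk, rfl⟩; rw [← map_inv, ← map_mul, ← map_mul, hxA k hk.2]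
      · rintro _ ⟨k, hk, rfl⟩; rw [← map_inv, ← map_mul, ← map_mul, hyB k hk.2]
      · rw [← map_mul, ← map_mul, setLike_mul_comm hx hy]
      · rw [← Subgroup.map_sup]
        exact ⟨_, hle (hcomm u hu w hw), rfl⟩
    have hfix₂ := step x₁ x₂ C₁ C₂ hQ1 hQ2 inf_le_left inf_le_left hm₁ hm₂
      (fun z hz => mem_C ((Subgroup.Normal.conj_mem inferInstance) z hz.1 x₁) (hconj x₁ hQ1 x₂ hQ2 z (hm₂ z hz)))
      hint (fun z hz he => mem_C hz he) ih (hgen _ (hLP i) hQL) a ha b hb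
    have hfix₁ := step x₂ x₁ C₂ C₁ hQ2 hQ1 inf_le_left inf_le_left hm₂ hm₁
      (fun z hz => mem_C ((Subgroup.Normal.conj_mem inferInstance) z hz.1 x₂) (hconj x₂ hQ2 x₁ hQ1 z (hm₁ z hz)))
      (by rw [inf_comm]; exact hint) (fun z hz he => mem_C hz he)
      (fun u hu v hv => by rw [← commutatorElement_inv]; exact (L i).inv_mem (ih v hv u hu))
      ((hgen _ (hLP i) hQL).trans (le_of_eq (sup_comm _ _))) b hb a ha
    rw [← commutatorElement_inv a b, map_inv] at hfix₁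
    -- a coset fixed by `Q` has a fixed point
    let F : Subgroup S := (Subgroup.centralizer ({π ⁅a, b⁆} : Set (S ⧸ L (i + 1)))).comap π
    have hQF : Q ≤ F := by
      have e : Q = Subgroup.zpowers x₁ ⊔ Subgroup.zpowers x₂ := by
        refine (Subgroup.eq_of_le_of_card_ge (sup_le h₁ h₂) ?_).symm
        rw [hQc]
        have hne : Subgroup.zpowers x₁ ⊔ Subgroup.zpowers x₂ ≠ Subgroup.zpowers x₁ := fun h =>
          h₁₂ (Subgroup.eq_of_le_of_card_ge (le_sup_right.trans h.le) (by rw [hc₁, hc₂])).symm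
        obtain ⟨k, hk2, hk⟩ := (Nat.dvd_prime_pow hq).1 (hQc ▸ Subgroup.card_dvd_of_le (sup_le h₁ h₂))
        have hlt : q < Nat.card ↥(Subgroup.zpowers x₁ ⊔ Subgroup.zpowers x₂) := by
          rw [← hc₁]
          exact lt_of_le_of_ne (Subgroup.card_le_of_le le_sup_left) fun h =>
            hne (Subgroup.eq_of_le_of_card_ge le_sup_left h.ge).symm
        rw [hk] at hlt ⊢
        refine Nat.pow_le_pow_right hq.pos ?_
        by_contra hk'
        interval_cases k <;> simp at hlt <;> have := hq.two_le <;> omega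
      rw [e]
      refine sup_le (Subgroup.zpowers_le.2 ?_) (Subgroup.zpowers_le.2 ?_) <;>
        refine Subgroup.mem_comap.2 (Subgroup.mem_centralizer_singleton_iff.2 ?_)
      · have h := congrArg (fun z => z⁻¹) hfix₁
        simp only [mul_inv_rev, inv_inv] at h
        rw [← mul_assoc, mul_inv_eq_iff_eq_mul] at h
        exact h
      · exact mul_inv_eq_iff_eq_mul.1 hfix₂
    obtain ⟨c, hc, hcu⟩ := Coprime.exists_mem_centralizer_of_coset hQL (hcop _ (hLP i))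
      (Or.inr (Coprime.isSolvable_of_isPGroup (p := p) (P.isPGroup'.to_le (hLP i)))) (Subgroup.lowerCentralSeries_antitone _ (Nat.le_succ i))
      Subgroup.le_normalizer_of_normal (ih a ha b hb) fun k hk => by
        rw [← QuotientGroup.eq_one_iff]
        show π (k * ⁅a, b⁆ * k⁻¹ * ⁅a, b⁆⁻¹) = 1
        rw [map_mul, map_mul, map_mul, Subgroup.mem_centralizer_singleton_iff.1 (hQF hk), map_inv, map_inv]
        group
    have hc1 : c ∈ C₁ ⊓ C₂ :=
      ⟨⟨hLP i hc.1, Subgroup.centralizer_le h₁ hc.2⟩, ⟨hLP i hc.1, Subgroup.centralizer_le h₂ hc.2⟩⟩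
    rw [hint, Subgroup.mem_bot] at hc1
    rw [hc1, one_mul] at hcu
    simpa using (L (i + 1)).inv_mem hcu

end Cfsg.Agent.S1900
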