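import Cfsg.Statements.S1901
import Cfsg.Agent.EqLemmas

set_option autoImplicit false
open Cfsg

namespace Cfsg.Agent.S1901

/-- Let G be a finite p-solvable group and Q a subgroup of order prime to p such that p divides the index of C_G(Q) in N_G(Q). Then Q normalizes no Sylow p-subgroup of G. -/
theorem result {G : Type*} [Group G] [Finite G] {p : ℕ} [Fact p.Prime]
    (hG : Cfsg.IsPSolvable p G) (Q : Subgroup G) (hQ : ¬ p ∣ Nat.card Q)
    (hA : p ∣ (Subgroup.centralizer (Q : Set G)).relIndex (Subgroup.normalizer (Q : Set G)))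
    (P : Sylow p G) : ¬ Q ≤ Subgroup.normalizer ((P : Subgroup G) : Set G) := by
  intro hQP
  obtain ⟨n, H, h0, hlast, hmono, hnorm, hstep⟩ := hG
  set N := Subgroup.normalizer (Q : Set G) with hN
  set C := Subgroup.centralizer (Q : Set G) with hC
  -- a p-element normalizing but not centralizing Q
  obtain ⟨x, hxN, ⟨e, hxe⟩, hxC⟩ : ∃ x ∈ N, (∃ e : ℕ, x ^ p ^ e = 1) ∧ x ∉ C := by
    by_contra hcon
    push Not at hcon
    obtain ⟨R⟩ := (inferInstance : Nonempty (Sylow p N))
    have hle : (R : Subgroup N) ≤ C.subgroupOf N := by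
      intro r hr
      obtain ⟨e, he⟩ := R.isPGroup' ⟨r, hr⟩
      exact hcon r r.2 ⟨e, by simpa using congrArg (fun z : (R : Subgroup N) => ((z : N) : G)) he⟩
    exact R.not_dvd_index (hA.trans (Subgroup.index_dvd_of_le hle))
  have hcopQ : ∀ c ∈ Q, ∀ j : ℕ, (orderOf c).Coprime (p ^ j) := by
    intro c hc j
    have h1 : orderOf c ∣ Nat.card Q := Q.orderOf_dvd_natCard hc
    exact Nat.Coprime.pow_right j (((Fact.out : p.Prime).coprime_iff_not_dvd.mpr
      fun h => hQ (h.trans h1)).symm)
  have key : ∀ k : Fin (n + 1), ∀ q ∈ Q, x * q * x⁻¹ * q⁻¹ ∈ H k := by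
    refine Fin.reverseInduction ?_ ?_
    · intro q _; rw [hlast]; trivial
    · intro i ih q hq
      have hcQ : x * q * x⁻¹ * q⁻¹ ∈ Q :=
        mul_mem ((Subgroup.mem_normalizer_iff.mp hxN q).mp hq) (inv_mem hq)
      set c := x * q * x⁻¹ * q⁻¹ with hc
      have hci : c ∈ H i.succ := ih q hq
      haveI := hnorm i.castSucc
      let π := QuotientGroup.mk' (H i.castSucc)
      suffices π c = 1 by
        have h : c ∈ π.ker := this
        rwa [QuotientGroup.ker_mk'] at h
      have hle : H i.castSucc ≤ H i.succ := hmono (Fin.castSucc_le_succ i)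
      -- powers of elements of `H i.succ` killed in the quotient
      have hpow : ∀ u ∈ H i.succ, π u ^ ((H i.castSucc).relIndex (H i.succ)) = 1 := by
        intro u hu
        rw [← map_pow, ← MonoidHom.mem_ker, QuotientGroup.ker_mk']
        have := Subgroup.pow_index_mem ((H i.castSucc).subgroupOf (H i.succ)) ⟨u, hu⟩
        exact this
      have hkill : ∀ u ∈ Q, ∀ j : ℕ, π u ^ (p ^ j) = 1 → π u = 1 := by
        intro u hu j hj
        exact orderOf_eq_one_iff.mp (Nat.eq_one_of_dvd_coprimes (hcopQ u hu j)
          (orderOf_map_dvd π u) (orderOf_dvd_of_pow_eq_one hj))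
      rcases hstep i with ⟨m, hm⟩ | hco
      · exact hkill c hcQ m (hm ▸ hpow c hci)
      · -- `x` centralizes `Q ⊓ H i.succ` modulo `H i.castSucc`
        set Q0 := (Q ⊓ H i.succ).map π with hQ0
        have hPc : (P : Subgroup G).map π ≤ Subgroup.centralizer (Q0 : Set (G ⧸ H i.castSucc)) := by
          rintro _ ⟨s, hs, rfl⟩
          rw [Subgroup.mem_centralizer_iff]
          rintro _ ⟨u, ⟨huQ, huH⟩, rfl⟩
          set w := u * s * u⁻¹ * s⁻¹ with hw
          have hwP : w ∈ (P : Subgroup G) :=
            mul_mem ((Subgroup.mem_normalizer_iff.mp (hQP huQ) s).mp hs) (inv_mem hs)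
          have hwH : w ∈ H i.succ := by
            rw [hw, mul_assoc u, mul_assoc u]
            exact mul_mem huH ((hnorm i.succ).conj_mem _ (inv_mem huH) s)
          obtain ⟨j, hj⟩ := P.isPGroup' ⟨w, hwP⟩
          have hj' : w ^ p ^ j = 1 := congrArg Subtype.val hj
          have h1 : π w = 1 := orderOf_eq_one_iff.mp (Nat.eq_one_of_dvd_coprimes
            (Nat.Coprime.pow_right j hco) (orderOf_dvd_of_pow_eq_one (hpow w hwH))
            ((orderOf_map_dvd π w).trans (orderOf_dvd_of_pow_eq_one hj')))
          rw [hw, map_mul, map_mul, map_mul, map_inv, map_inv] at h1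
          exact mul_inv_eq_iff_eq_mul.mp (mul_inv_eq_one.mp h1)
        have hxQ0 : π x ∈ Subgroup.centralizer (Q0 : Set (G ⧸ H i.castSucc)) := by
          have hxn : π x ∈ Subgroup.normalizer (Q0 : Set (G ⧸ H i.castSucc)) := by
            have hx1 : x ∈ Subgroup.normalizer ((Q ⊓ H i.succ : Subgroup G) : Set G) := by
              rw [Subgroup.mem_normalizer_iff]
              intro h
              exact and_congr (Subgroup.mem_normalizer_iff.mp hxN h)
                ⟨fun hh => (hnorm i.succ).conj_mem _ hh x, fun hh => by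
                  simpa [mul_assoc] using (hnorm i.succ).conj_mem _ hh x⁻¹⟩
            exact Subgroup.le_normalizer_map π ⟨x, hx1, rfl⟩
          set N0 := Subgroup.normalizer (Q0 : Set (G ⧸ H i.castSucc))
          set C0 := Subgroup.centralizer (Q0 : Set (G ⧸ H i.castSucc))
          haveI : (C0.subgroupOf N0).Normal := Subgroup.normal_subgroupOf_centralizer_normalizer _
          have hidx : ¬ p ∣ C0.relIndex N0 := by
            have h1 : C0.relIndex N0 ∣ ((P : Subgroup G).map π).relIndex N0 :=
              Subgroup.relIndex_dvd_of_le_left _ hPc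
            have h2 : ((P : Subgroup G).map π).relIndex N0 ∣ ((P : Subgroup G).map π).index :=
              Subgroup.relIndex_dvd_index_of_le (hPc.trans (Subgroup.centralizer_le_normalizer _))
            have h3 : ((P : Subgroup G).map π).index ∣ (P : Subgroup G).index :=
              Subgroup.index_map_dvd _ (QuotientGroup.mk'_surjective _)
            exact fun h => P.not_dvd_index (h.trans (h1.trans (h2.trans h3)))
          have h4 := Subgroup.pow_index_mem (C0.subgroupOf N0) ⟨π x, hxn⟩
          have h5 : (⟨π x, hxn⟩ : N0) ^ (p ^ e) ∈ C0.subgroupOf N0 := by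
            have : (⟨π x, hxn⟩ : N0) ^ (p ^ e) = 1 := Subtype.ext (by
              rw [Subgroup.coe_pow]
              simpa using congrArg π hxe)
            rw [this]
            exact one_mem _
          have h6 : ((⟨π x, hxn⟩ : N0) : N0 ⧸ C0.subgroupOf N0) = 1 := by
            refine orderOf_eq_one_iff.mp (Nat.eq_one_of_dvd_coprimes
              (Nat.Coprime.pow_left e ((Fact.out : p.Prime).coprime_iff_not_dvd.mpr hidx))
              (orderOf_dvd_of_pow_eq_one ?_) (orderOf_dvd_of_pow_eq_one ?_))
            · rw [← QuotientGroup.mk_pow, QuotientGroup.eq_one_iff]; exact h5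
            · rw [← QuotientGroup.mk_pow, QuotientGroup.eq_one_iff]; exact h4
          exact (QuotientGroup.eq_one_iff (⟨π x, hxn⟩ : N0)).mp h6
        have hfix : π x * π c * (π x)⁻¹ = π c :=
          mul_inv_eq_iff_eq_mul.mpr (Subgroup.mem_centralizer_iff.mp hxQ0 _ ⟨c, ⟨hcQ, hci⟩, rfl⟩).symm
        have hit : ∀ j : ℕ, π x ^ j * π q * (π x ^ j)⁻¹ = π c ^ j * π q := by
          intro j
          induction j with
          | zero => simp
          | succ j ihj =>
            calc π x ^ (j + 1) * π q * (π x ^ (j + 1))⁻¹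
                = π x * (π x ^ j * π q * (π x ^ j)⁻¹) * (π x)⁻¹ := by rw [pow_succ']; group
              _ = π x * π c ^ j * (π x)⁻¹ * (π x * π q * (π x)⁻¹) := by rw [ihj]; group
              _ = π c ^ j * (π c * π q) := by
                  rw [← conj_pow (i := j), hfix, hc]
                  simp only [map_mul, map_inv, inv_mul_cancel_right]
              _ = π c ^ (j + 1) * π q := by rw [pow_succ, mul_assoc]
        refine hkill c hcQ e ?_
        have := hit (p ^ e)
        rw [← map_pow π x, hxe, map_one, inv_one, mul_one, one_mul] at this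
        exact mul_eq_right.mp this.symm
  apply hxC
  rw [hC, Subgroup.mem_centralizer_iff]
  intro q hq
  have := key 0 q hq
  rw [h0, Subgroup.mem_bot, mul_inv_eq_one, mul_inv_eq_iff_eq_mul] at this
  exact this.symm

end Cfsg.Agent.S1901
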