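import Cfsg.Statements.S1902
import Cfsg.Agent.EqLemmas
import Cfsg.Agent.Lib.HallHigman.RankTwoOmega
import Cfsg.Agent.Lib.HallHigman.PLength

set_option autoImplicit false
open Cfsg

namespace Cfsg.Agent.S1902

/-- Let p be an odd prime, G a finite p-solvable group, and B an elementary abelian subgroup of order p² such that B is the subgroup generated by the elements of order p of some Sylow p-subgroup of C_G(b₀), for some nontrivial b₀ ∈ B. Then every B-invariant subgroup of G of order prime to p lies in O_{p'}(G). -/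
theorem result {G : Type*} [Group G] [Finite G] {p : ℕ} [Fact p.Prime] (hp : p ≠ 2)
    (hG : Cfsg.IsPSolvable p G) (B : Subgroup G) (hB : Cfsg.IsElementaryAbelian p B) (hBc : Nat.card B = p ^ 2)
    (b₀ : G) (hb₀ : b₀ ∈ B) (hb₁ : b₀ ≠ 1) (P : Sylow p ↥(Subgroup.centralizer ({b₀} : Set G)))
    (hBP : B = Subgroup.closure {x : G | x ∈ ((P : Subgroup ↥(Subgroup.centralizer ({b₀} : Set G))).map
      (Subgroup.centralizer ({b₀} : Set G)).subtype : Subgroup G) ∧ orderOf x = p})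
    (Q : Subgroup G) (hQ : ¬ p ∣ Nat.card Q) (hinv : ∀ b ∈ B, ∀ x ∈ Q, b * x * b⁻¹ ∈ Q) :
    Q ≤ Cfsg.pPrimeCore p G := by
  classical
  have hp' : p.Prime := Fact.out
  set N := Cfsg.pPrimeCore p G
  have hN : N.Normal := Cores.pPrimeCore_normal p G
  set π := QuotientGroup.mk' N
  have hπ : Function.Surjective π := QuotientGroup.mk'_surjective N
  have hNcop : (Nat.card N).Coprime p := Cores.coprime_card_pPrimeCore p
  -- `p`-elements of `N` are trivial
  have hpN : ∀ g ∈ N, ∀ k : ℕ, g ^ p ^ k = 1 → g = 1 := fun g hg k hk =>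
    orderOf_eq_one_iff.mp (Nat.eq_one_of_dvd_coprimes (hNcop.symm.pow_left k)
      (orderOf_dvd_of_pow_eq_one hk) (Subgroup.orderOf_dvd_natCard N hg))
  have hBinj : ∀ g ∈ B, π g = 1 → g = 1 := fun g hg h =>
    hpN g ((QuotientGroup.eq_one_iff g).1 h) 1 (by rw [pow_one]; exact hB.2 g hg)
  have hBe : Cfsg.IsElementaryAbelian p (B.map π) := by
    refine ⟨⟨⟨?_⟩⟩, ?_⟩
    · rintro ⟨_, a, ha, rfl⟩ ⟨_, c, hc, rfl⟩
      refine Subtype.ext ?_
      show π a * π c = π c * π a
      rw [← map_mul, ← map_mul]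
      exact congrArg π (congrArg Subtype.val (hB.1.is_comm.comm ⟨a, ha⟩ ⟨c, hc⟩))
    · rintro _ ⟨a, ha, rfl⟩
      rw [← map_pow, hB.2 a ha, map_one]
  have hBcard : Nat.card (B.map π) = p ^ 2 := by
    rw [← hBc]
    refine (Nat.card_congr (MulEquiv.ofBijective (π.subgroupMap B) ⟨?_, π.subgroupMap_surjective B⟩).toEquiv).symm
    exact (injective_iff_map_eq_one _).2 fun a ha => Subtype.ext (hBinj a a.2 (congrArg Subtype.val ha))
  have hΩ : ∀ x ∈ Cfsg.pCore p (G ⧸ N), x ^ p = 1 → Commute (π b₀) x → x ∈ B.map π := by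
    intro x hx hxp hxb
    by_cases hx1 : x = 1
    · rw [hx1]; exact one_mem _
    -- a `p`-element over `x` centralising `b₀`
    set Rb := Subgroup.zpowers x ⊔ Subgroup.zpowers (π b₀)
    have hp_z : ∀ {H : Type _} [Group H] (h : H), h ^ p = 1 → IsPGroup p (Subgroup.zpowers h) := by
      intro H _ h hh z
      obtain ⟨k, hk⟩ := Subgroup.mem_zpowers_iff.1 z.2
      refine ⟨1, Subtype.ext ?_⟩
      rw [pow_one, Subgroup.coe_pow, ← hk, ← zpow_natCast, ← zpow_mul, mul_comm, zpow_mul, zpow_natCast,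
        hh, one_zpow, Subgroup.coe_one]
    have hRb : IsPGroup p Rb := by
      rw [show Rb = Subgroup.zpowers (π b₀) ⊔ Subgroup.zpowers x from sup_comm _ _]
      refine (hp_z (π b₀) (by rw [← map_pow, hB.2 b₀ hb₀, map_one])).to_sup_of_normal_right' (hp_z x hxp) ?_
      refine Subgroup.zpowers_le.2 (Coprime.mem_normalizer_of_forall fun w hw => ?_)
      obtain ⟨k, rfl⟩ := Subgroup.mem_zpowers_iff.1 hw
      rw [(hxb.zpow_right k).eq, mul_inv_cancel_right]
      exact hw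
    set M := Rb.comap π
    have hbM : b₀ ∈ M := Subgroup.mem_sup_right (Subgroup.mem_zpowers _)
    obtain ⟨S, hS⟩ := (hp_z (⟨b₀, hbM⟩ : M) (Subtype.ext (by simpa using hB.2 b₀ hb₀))).exists_le_sylow
    have hf : Function.Surjective (π.subgroupComap Rb) := fun r => by
      obtain ⟨g, hg⟩ := hπ r
      exact ⟨⟨g, show π g ∈ Rb by rw [hg]; exact r.2⟩, Subtype.ext hg⟩
    have htop : (⊤ : Subgroup Rb) = (S.mapSurjective hf : Subgroup Rb) :=
      (S.mapSurjective hf).is_maximal' (hRb.to_subgroup ⊤) le_top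
    obtain ⟨s, hsS, hsx⟩ : (⟨x, Subgroup.mem_sup_left (Subgroup.mem_zpowers x)⟩ : Rb) ∈
        (S.mapSurjective hf : Subgroup Rb) := htop ▸ Subgroup.mem_top _
    have hsx' : π (s : G) = x := congrArg Subtype.val hsx
    have hbS : (⟨b₀, hbM⟩ : M) ∈ (S : Subgroup M) := hS (Subgroup.mem_zpowers _)
    have hsC : (s : G) ∈ Subgroup.centralizer ({b₀} : Set G) := by
      rw [Subgroup.mem_centralizer_singleton_iff]
      have hc := (S : Subgroup M).mul_mem ((S : Subgroup M).mul_mem hsS hbS)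
        ((S : Subgroup M).inv_mem ((S : Subgroup M).mul_mem hbS hsS))
      obtain ⟨k, hk⟩ := S.2 ⟨_, hc⟩
      have hk' : ((s : G) * b₀ * (b₀ * s)⁻¹) ^ p ^ k = 1 := congrArg (fun z => ((z : S) : M).1) hk
      refine mul_inv_eq_one.1 (hpN _ ((QuotientGroup.eq_one_iff _).1 ?_) k hk')
      show π ((s : G) * b₀ * (b₀ * s)⁻¹) = 1
      rw [map_mul, map_mul, map_inv, map_mul, hsx', hxb.eq, mul_inv_cancel]
    -- the image of `P` contains `x`
    set g := π.comp (Subgroup.centralizer ({b₀} : Set G)).subtype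
    have hL : ((Cfsg.pCore p (G ⧸ N)).subgroupOf g.range) ≤
        (P.mapSurjective g.rangeRestrict_surjective : Subgroup g.range) := by
      have hn : (Cfsg.pCore p (G ⧸ N)).Normal := Cores.pCore_normal p _
      exact ((Cores.isPGroup_pCore p (G ⧸ N)).comap_subtype : IsPGroup p
        ((Cfsg.pCore p (G ⧸ N)).subgroupOf g.range)).le_sylow_of_normal _
    obtain ⟨y, hyP, hyx⟩ := hL (show (⟨x, ⟨⟨(s : G), hsC⟩, hsx'⟩⟩ : g.range) ∈ _ from hx)
    have hyx' : π (y : G) = x := congrArg Subtype.val hyx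
    have hyp : (y : G) ^ p = 1 := by
      obtain ⟨k, hk⟩ := P.2 ⟨y, hyP⟩
      have hk' : (y : G) ^ p ^ k = 1 := congrArg (fun z => ((z : P) : Subgroup.centralizer ({b₀} : Set G)).1) hk
      refine hpN _ ((QuotientGroup.eq_one_iff _).1 ?_) k ?_
      · show π ((y : G) ^ p) = 1
        rw [map_pow, hyx', hxp]
      · rw [← pow_mul, mul_comm, pow_mul, hk', one_pow]
    refine ⟨y, ?_, hyx'⟩
    rw [hBP]
    exact Subgroup.subset_closure ⟨⟨y, hyP, rfl⟩, orderOf_eq_prime hyp fun h => hx1 (by rw [← hyx', h, map_one])⟩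
  have h := HallHigman.eq_bot_of_invariant_rank_two hp
    ((Solvable.isPiSeparable_of_isPSolvable hG).quotient N) (Cores.pPrimeCore_quotient_self (G := G) p)
    (B.map π) hBe hBcard (b₀ := π b₀) ⟨b₀, hb₀, rfl⟩ (fun h => hb₁ (hBinj b₀ hb₀ h)) hΩ (Q.map π)
    (fun hd => hQ (hd.trans (Q.card_map_dvd π))) (by
      rintro _ ⟨b, hb, rfl⟩ _ ⟨q, hq, rfl⟩
      rw [← map_inv, ← map_mul, ← map_mul]
      exact ⟨_, hinv b hb q hq, rfl⟩)
  intro q hq
  have : π q ∈ Q.map π := ⟨q, hq, rfl⟩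
  rw [h, Subgroup.mem_bot] at this
  exact (QuotientGroup.eq_one_iff q).1 this

end Cfsg.Agent.S1902
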