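import Cfsg.Statements.S1903
import Cfsg.Agent.EqLemmas
import Cfsg.Agent.Lib.CentU34.Model
import Cfsg.Agent.Lib.PGroup.Basic
import Cfsg.Agent.Lib.OddAutTwo.Squares

set_option autoImplicit false
set_option linter.style.haveILetI false
open Cfsg
open scoped commutatorElement

namespace Cfsg.Agent.S1903

/-- An automorphism of order dividing five fixes a Klein four group pointwise. -/
theorem fixed_of_pow_five {α : Type*} [Finite α] (hα : Nat.card α = 4) (π : Equiv.Perm α) (h : π ^ 5 = 1) :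
    π = 1 := by
  classical
  haveI := Fintype.ofFinite α
  rw [← orderOf_eq_one_iff]
  have h1 : orderOf π ∣ 5 := orderOf_dvd_of_pow_eq_one h
  have h2 : orderOf π ∣ 24 := by
    have := orderOf_dvd_natCard π
    rwa [Nat.card_eq_fintype_card, Fintype.card_perm, ← Nat.card_eq_fintype_card, hα] at this
  exact Nat.dvd_one.mp (by simpa using Nat.dvd_gcd h1 h2)

theorem five_mul {M : Type*} [CommGroup M] (a b c d e a' b' c' d' e' : M) :
    a * a' * (b * b') * (c * c') * (d * d') * (e * e') = a * b * c * d * e * (a' * b' * c' * d' * e') := by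
  simp only [mul_comm, mul_assoc, mul_left_comm]

theorem five_rot {M : Type*} [CommGroup M] (a b c d e : M) : b * c * d * e * a = a * b * c * d * e := by
  simp only [mul_comm, mul_assoc, mul_left_comm]

theorem mul_central4 {M : Type*} [Group M] (a b c d z : M) (hz : ∀ y, y * z = z * y) (h2 : z * z = 1) :
    a * z * (b * z) * (c * z) * (d * z) = a * b * c * d := by
  have e : ∀ x y : M, x * z * (y * z) = x * y := fun x y => by
    rw [mul_assoc x z, ← mul_assoc z y z, ← hz y, mul_assoc y z z, h2, mul_one]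
  rw [e, mul_assoc (a * b), e, ← mul_assoc]

theorem sq_mul {M : Type*} [Group M] (a b c : M) (hc : ∀ y, y * c = c * y) (h : b * a = c * a * b) :
    a * b * (a * b) = a * a * (b * b) * c :=
  calc a * b * (a * b) = a * (b * a) * b := by group
    _ = a * c * (a * b * b) := by rw [h]; group
    _ = c * (a * a * (b * b)) := by rw [hc a]; group
    _ = _ := (hc _).symm

theorem central_e2 {M : Type*} [Group M] (c₁ c₂ s : M) (hc : ∀ y, y * c₁ = c₁ * y) (h : c₁ * c₁ = 1) :
    c₁ * s * (c₂ * c₁) = s * c₂ := by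
  rw [← hc s, ← mul_assoc, mul_assoc s c₁ c₂, ← hc c₂, ← mul_assoc, mul_assoc (s * c₂), h, mul_one]

theorem central_e3 {M : Type*} [Group M] (c₁ c₂ s : M) (hs : ∀ y, y * s = s * y) (hc : ∀ y, y * c₁ = c₁ * y)
    (h1 : s * s = 1) (h2 : c₂ * c₂ = 1) (h : s = s * c₂ * s * (c₂ * c₂ * c₁)) : s = c₁ * c₂ := by
  rw [h2, one_mul, mul_assoc s c₂ s, hs c₂, ← mul_assoc, h1, one_mul, hc c₂] at h
  exact h

theorem pow_two_mod_five {k : ℕ} (hk : k ≤ 4) (h : 2 ^ k % 5 = 1) (h' : 2 ^ k ≠ 1) : 2 ^ k = 16 := by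
  interval_cases k <;> simp at *

/-- Standard generators of a group of order 320 with derived subgroup of order 64 and centre a four group. -/
theorem exists_rel {G : Type*} [Group G] [Finite G] (hG : Nat.card G = 320) (hD : Nat.card (commutator G) = 64)
    (hZ : IsKleinFour (Subgroup.center (commutator G))) :
    ∃ g v c₁ c₂ : G, CentU34.Rel g v c₁ c₂ ∧ Subgroup.closure ({g, v} : Set G) = ⊤ ∧
      ∀ N : Subgroup G, N.Normal → c₁ ∉ N → c₂ ∉ N → c₁ * c₂ ∉ N → N = ⊥ := by
  classical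
  haveI : Fact (Nat.Prime 2) := ⟨Nat.prime_two⟩
  haveI : Fact (Nat.Prime 5) := ⟨by norm_num⟩
  set D := commutator G with hDdef
  have hDp : IsPGroup 2 D := IsPGroup.of_card (n := 6) (by rw [hD]; norm_num)
  obtain ⟨g, hg⟩ := exists_prime_orderOf_dvd_card' (G := G) 5 (by rw [hG]; norm_num)
  have hg5 : g ^ 5 = 1 := hg ▸ pow_orderOf_eq_one g
  have hgD : g ∉ D := fun h => by
    have := D.orderOf_dvd_natCard h
    rw [hg, hD] at this; norm_num at this
  haveI hDn : D.Normal := by rw [hDdef]; infer_instance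
  set σ : MulAut D := MulAut.conjNormal g with hσdef
  have hσ5 : σ ^ 5 = 1 := by rw [hσdef, ← map_pow, hg5, map_one]
  have hσval : ∀ x : D, ((σ x : D) : G) = g * x * g⁻¹ := fun x => MulAut.conjNormal_apply g x
  have hσ5' : ∀ y, σ (σ (σ (σ (σ y)))) = y := fun y => by
    have := DFunLike.congr_fun hσ5 y
    simpa [pow_succ, MulAut.mul_apply] using this
  have hbig : ∀ H : Subgroup G, D ≤ H → g ∈ H → H = ⊤ := by
    intro H hH hgH
    have h1 := Subgroup.card_dvd_of_le hH
    obtain ⟨j, hj⟩ := h1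
    have h2 := H.card_subgroup_dvd_card
    rw [hG, hj, hD, show 320 = 64 * 5 by norm_num] at h2
    have hlt : D < H := lt_of_le_of_ne hH fun e => hgD (e ▸ hgH)
    rcases (Nat.dvd_prime (by norm_num)).mp (Nat.dvd_of_mul_dvd_mul_left (by norm_num) h2) with e | e
    · exfalso
      rw [e, mul_one] at hj
      exact hlt.ne (Subgroup.eq_of_le_of_card_ge hH (le_of_eq (hj.trans rfl)))
    · exact Subgroup.eq_top_of_card_eq H (by rw [hj, hD, e, hG])
  -- the displacements generate `D`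
  have hgen : Subgroup.closure {y : D | ∃ x : D, y = x⁻¹ * σ x} = ⊤ := by
    apply frattini_nongenerating
    set K := Subgroup.closure {y : D | ∃ x : D, y = x⁻¹ * σ x} ⊔ frattini D with hK
    have hΦ : ∀ x y : D, ⁅x, y⁆ ∈ K := fun x y =>
      Subgroup.mem_sup_right (PGroup.commutatorElement_mem_frattini hDp x y)
    have hKσ : ∀ x ∈ K, σ x ∈ K := by
      intro x hx
      have hle : K ≤ K.comap σ.toMonoidHom := by
        rw [hK, sup_le_iff, Subgroup.closure_le]
        refine ⟨?_, ?_⟩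
        · rintro _ ⟨y, rfl⟩
          refine Subgroup.mem_sup_left (Subgroup.subset_closure ⟨σ y, ?_⟩)
          show σ (y⁻¹ * σ y) = _
          rw [map_mul, map_inv]
        · exact fun y hy => Subgroup.mem_sup_right ((PGroup.aut_mem_iff σ y).mpr hy)
      exact hle hx
    set N := K.map D.subtype with hN
    have hDN : ∀ d ∈ D, ∀ n ∈ N, d * n * d⁻¹ ∈ N := by
      rintro d hd _ ⟨k, hk, rfl⟩
      refine ⟨⁅(⟨d, hd⟩ : D), k⁆ * k, mul_mem (hΦ _ _) hk, ?_⟩
      simp [commutatorElement_def]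
    have hgN : ∀ n ∈ N, g * n * g⁻¹ ∈ N := by
      rintro _ ⟨k, hk, rfl⟩
      exact ⟨σ k, hKσ k hk, hσval k⟩
    haveI hNn : N.Normal := by
      let S : Subgroup G :=
        { carrier := {h | ∀ n ∈ N, h * n * h⁻¹ ∈ N}
          one_mem' := fun n hn => by simpa using hn
          mul_mem' := fun {a b} ha hb n hn => by
            rw [show a * b * n * (a * b)⁻¹ = a * (b * n * b⁻¹) * a⁻¹ by group]; exact ha _ (hb n hn)
          inv_mem' := fun {a} ha n hn => by
            have key : ∀ j : ℕ, ∀ n ∈ N, a ^ j * n * (a ^ j)⁻¹ ∈ N := by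
              intro j
              induction j with
              | zero => intro n hn; simpa using hn
              | succ j ih =>
                intro n hn
                rw [show a ^ (j + 1) * n * (a ^ (j + 1))⁻¹ = a * (a ^ j * n * (a ^ j)⁻¹) * a⁻¹ by
                  rw [pow_succ']; group]
                exact ha _ (ih n hn)
            have hfin := isOfFinOrder_of_finite a
            have e : a⁻¹ = a ^ (orderOf a - 1) := by
              refine inv_eq_of_mul_eq_one_right ?_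
              rw [← pow_succ', show orderOf a - 1 + 1 = orderOf a by have := hfin.orderOf_pos; omega,
                pow_orderOf_eq_one]
            rw [e]; exact key _ n hn }
      have hS : S = ⊤ := hbig S (fun d hd => hDN d hd) hgN
      exact ⟨fun n hn h => (hS ▸ Subgroup.mem_top h : h ∈ S) n hn⟩
    -- the quotient is commutative
    set f := QuotientGroup.mk' N with hf
    have hc1 : ∀ a ∈ D, ∀ b ∈ D, f a * f b = f b * f a := fun a ha b hb => by
      rw [← commutatorElement_eq_one_iff_mul_comm, ← map_commutatorElement, hf, QuotientGroup.mk'_apply,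
        QuotientGroup.eq_one_iff]
      exact ⟨⁅(⟨a, ha⟩ : D), ⟨b, hb⟩⁆, hΦ _ _, map_commutatorElement D.subtype _ _⟩
    have hc2 : ∀ a ∈ D, f g * f a = f a * f g := fun a ha => by
      rw [← commutatorElement_eq_one_iff_mul_comm, ← map_commutatorElement, hf, QuotientGroup.mk'_apply,
        QuotientGroup.eq_one_iff]
      have hy : (⟨a, ha⟩ : D)⁻¹ * σ ⟨a, ha⟩ ∈ K := Subgroup.mem_sup_left (Subgroup.subset_closure ⟨_, rfl⟩)
      have h1 := hDN a ha _ ⟨_, hy, rfl⟩
      convert h1 using 1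
      simp only [Subgroup.coe_subtype, Subgroup.coe_mul, Subgroup.coe_inv, hσval, commutatorElement_def]
      group
    let C : Subgroup G := (Subgroup.center (G ⧸ N)).comap f
    have hall : ∀ x : G, ∀ y ∈ (D : Set G) ∪ {g}, f x * f y = f y * f x := by
      intro x y hy
      let Cy : Subgroup G := (Subgroup.centralizer {f y}).comap f
      have : Cy = ⊤ := hbig Cy (fun a ha => by
          rw [Subgroup.mem_comap, Subgroup.mem_centralizer_singleton_iff]
          rcases hy with hy | rfl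
          · exact hc1 a ha y hy
          · exact (hc2 a ha).symm) (by
          rw [Subgroup.mem_comap, Subgroup.mem_centralizer_singleton_iff]
          rcases hy with hy | rfl
          · exact hc2 y hy
          · rfl)
      exact Subgroup.mem_centralizer_singleton_iff.mp (this.ge (Subgroup.mem_top x) : x ∈ Cy)
    have hCtop : C = ⊤ := hbig C
      (fun a ha => Subgroup.mem_center_iff.mpr fun b => by
        obtain ⟨x, rfl⟩ := QuotientGroup.mk'_surjective N b; exact hall x a (Or.inl ha))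
      (Subgroup.mem_center_iff.mpr fun b => by
        obtain ⟨x, rfl⟩ := QuotientGroup.mk'_surjective N b; exact hall x g (Or.inr rfl))
    have hDN' : D ≤ N := by
      rw [hDdef, _root_.commutator_def, Subgroup.commutator_le]
      intro a _ b _
      rw [← QuotientGroup.eq_one_iff, ← QuotientGroup.mk'_apply, map_commutatorElement,
        commutatorElement_eq_one_iff_mul_comm]
      exact Subgroup.mem_center_iff.mp (hCtop.ge (Subgroup.mem_top b) : b ∈ C) _
    refine eq_top_iff.mpr fun x _ => ?_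
    obtain ⟨k, hk, hkx⟩ := hDN' x.2
    rwa [← show k = x from Subtype.ext hkx]
  -- `V = D / Φ(D)`
  set Φ := frattini D with hΦdef
  letI : CommGroup (D ⧸ Φ) := { (inferInstance : Group (D ⧸ Φ)) with
    mul_comm := fun a b => by
      obtain ⟨x, rfl⟩ := QuotientGroup.mk'_surjective Φ a
      obtain ⟨y, rfl⟩ := QuotientGroup.mk'_surjective Φ b
      rw [← commutatorElement_eq_one_iff_mul_comm, ← map_commutatorElement, QuotientGroup.mk'_apply,
        QuotientGroup.eq_one_iff]
      exact PGroup.commutatorElement_mem_frattini hDp x y }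
  let q : D →* D ⧸ Φ := QuotientGroup.mk' Φ
  have hq1 : ∀ x, q x = 1 ↔ x ∈ Φ := fun x => QuotientGroup.eq_one_iff x
  have hq2 : ∀ x, q x * q x = 1 := fun x => by
    rw [← map_mul, hq1, ← pow_two]; exact PGroup.pow_mem_frattini hDp x
  have hnorm : ∀ x, q x * q (σ x) * q (σ (σ x)) * q (σ (σ (σ x))) * q (σ (σ (σ (σ x)))) = 1 := by
    intro x
    let P : D →* D ⧸ Φ := MonoidHom.mk'
      (fun x => q x * q (σ x) * q (σ (σ x)) * q (σ (σ (σ x))) * q (σ (σ (σ (σ x))))) fun a b => by
        simp only [map_mul]; exact five_mul _ _ _ _ _ _ _ _ _ _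
    have hinv : ∀ y, P (σ y) = P y := fun y => by
      show q (σ y) * q (σ (σ y)) * q (σ (σ (σ y))) * q (σ (σ (σ (σ y)))) * q (σ (σ (σ (σ (σ y))))) = _
      rw [hσ5']
      exact five_rot _ _ _ _ _
    have hker : Subgroup.closure {y : D | ∃ x : D, y = x⁻¹ * σ x} ≤ P.ker := by
      rw [Subgroup.closure_le]
      rintro _ ⟨y, rfl⟩
      rw [SetLike.mem_coe, MonoidHom.mem_ker, map_mul, map_inv, hinv, inv_mul_cancel]
    exact hker (hgen.ge (Subgroup.mem_top x))
  have hfix : ∀ x, q (σ x) = q x → x ∈ Φ := by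
    intro x hx
    have h1 : ∀ y, q (σ y) = q y → q (σ (σ y)) = q (σ y) := fun y hy => by
      have hm : σ (y⁻¹ * σ y) ∈ Φ := (PGroup.aut_mem_iff σ _).mpr (by
        rw [← hq1, map_mul, map_inv, hy, inv_mul_cancel])
      rw [← hq1, map_mul, map_inv, map_mul, map_inv] at hm
      exact (inv_mul_eq_one.mp hm).symm
    have h2 := h1 x hx
    have h3 := h1 _ h2
    have h4 := h1 _ h3
    have := hnorm x
    rw [h4, h3, h2, hx, hq2, one_mul, hq2, one_mul] at this
    exact (hq1 x).mp this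
  -- the centre
  set Z := Subgroup.center D with hZdef
  have hZc : Nat.card Z = 4 := hZ.card_four
  have hZ2 : ∀ z ∈ Z, z * z = 1 := fun z hz => by
    have h := Monoid.pow_exponent_eq_one (⟨z, hz⟩ : Z)
    rw [hZ.exponent_two, pow_two] at h
    exact congrArg Subtype.val h
  have hσZ : ∀ z ∈ Z, σ z = z := by
    intro z hz
    let π : Equiv.Perm Z :=
      { toFun := fun y => ⟨σ y, (PGroup.aut_mem_iff σ y.1).mpr y.2⟩
        invFun := fun y => ⟨σ.symm y, (PGroup.aut_mem_iff σ.symm y.1).mpr y.2⟩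
        left_inv := fun y => Subtype.ext (σ.symm_apply_apply _)
        right_inv := fun y => Subtype.ext (σ.apply_symm_apply _) }
    have h5 : π ^ 5 = 1 := by
      ext y
      simp only [pow_succ, pow_zero, one_mul, Equiv.Perm.mul_apply, Equiv.Perm.one_apply]
      exact congrArg Subtype.val (hσ5' y.1)
    have := fixed_of_pow_five hZc π h5
    exact congrArg Subtype.val (Equiv.ext_iff.mp this ⟨z, hz⟩)
  have hZΦ : Z ≤ Φ := fun z hz => hfix z (by rw [hσZ z hz])
  -- orders
  have hinvcard : ∀ U : Subgroup (D ⧸ Φ), (∀ x, q x ∈ U → q (σ x) ∈ U) → Nat.card U % 5 = 1 := by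
    intro U hU
    have hwell : ∀ y : D ⧸ Φ, ∀ x x', q x = y → q x' = y → q (σ x) = q (σ x') := fun y x x' h h' => by
      rw [← inv_mul_eq_one, ← map_inv, ← map_mul, ← map_inv, ← map_mul, hq1]
      exact (PGroup.aut_mem_iff σ _).mpr (by rw [← hq1, map_mul, map_inv, h, h', inv_mul_cancel])
    let f : U → U := fun u => ⟨q (σ (QuotientGroup.mk'_surjective Φ u.1).choose),
      hU _ (by rw [(QuotientGroup.mk'_surjective Φ u.1).choose_spec]; exact u.2)⟩
    have hfval : ∀ (u : U) (x : D), q x = u → (f u : D ⧸ Φ) = q (σ x) := fun u x hx =>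
      hwell u _ _ (QuotientGroup.mk'_surjective Φ u.1).choose_spec hx
    haveI := Fintype.ofFinite U
    have hm := Equiv.Perm.card_fixedPoints_modEq (f := f) (p := 5) (n := 1) (funext fun u => by
      obtain ⟨x, hx⟩ := QuotientGroup.mk'_surjective Φ u.1
      refine Subtype.ext ?_
      show ((f (f (f (f (f u))))) : D ⧸ Φ) = u
      have e1 := hfval u x hx
      have e2 := hfval (f u) (σ x) e1.symm
      have e3 := hfval _ _ e2.symm
      have e4 := hfval _ _ e3.symm
      rw [hfval _ _ e4.symm, hσ5']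
      exact hx)
    have hfx : Nat.card (Function.fixedPoints f) = 1 := by
      rw [Nat.card_eq_one_iff_unique]
      have huniq : ∀ u : U, f u = u → u = 1 := fun u hu => by
        obtain ⟨x, hx⟩ := QuotientGroup.mk'_surjective Φ u.1
        have hxΦ := hfix x (by
          rw [← hfval u x hx, hu]; exact hx.symm)
        exact Subtype.ext (hx.symm.trans ((hq1 x).mpr hxΦ))
      refine ⟨⟨fun a b => Subtype.ext ((huniq a a.2).trans (huniq b b.2).symm)⟩,
        ⟨⟨1, Subtype.ext ?_⟩⟩⟩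
      rw [hfval 1 1 (map_one q), map_one, map_one]; rfl
    rw [← Nat.card_eq_fintype_card, ← Nat.card_eq_fintype_card, hfx] at hm
    exact hm
  have hV : Nat.card (D ⧸ Φ) = 16 ∧ Φ = Z := by
    have h1 := Subgroup.card_eq_card_quotient_mul_card_subgroup Φ
    have h2 := Subgroup.card_le_of_le hZΦ
    rw [hZc] at h2
    have h3 := hinvcard ⊤ fun x _ => Subgroup.mem_top _
    rw [Subgroup.card_top] at h3
    have h4 : Nat.card (D ⧸ Φ) ≠ 1 := fun e => by
      have htop : Φ = ⊤ := Subgroup.index_eq_one.mp e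
      have hb : (⊥ : Subgroup D) = ⊤ := frattini_nongenerating (by rw [bot_sup_eq]; exact htop)
      have := congrArg (fun H : Subgroup D => Nat.card H) hb
      simp [hD] at this
    rw [hD] at h1
    have h5 : Nat.card (D ⧸ Φ) ∣ 64 := Dvd.intro _ h1.symm
    have h6 : Nat.card (D ⧸ Φ) ≤ 16 := by nlinarith
    have h16 : Nat.card (D ⧸ Φ) = 16 := by
      obtain ⟨k, hk, e⟩ := (Nat.dvd_prime_pow Nat.prime_two).mp (show Nat.card (D ⧸ Φ) ∣ 2 ^ 6 by norm_num; exact h5)
      rw [e] at h3 h4 h6 ⊢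
      exact pow_two_mod_five ((Nat.pow_le_pow_iff_right (le_refl 2)).mp h6) h3 h4
    refine ⟨h16, (Subgroup.eq_of_le_of_card_ge hZΦ ?_).symm⟩
    rw [hZc]; rw [h16] at h1; omega
  obtain ⟨hV16, hΦZ⟩ := hV
  have hcZ : ∀ x y : D, ⁅x, y⁆ ∈ Z := fun x y => hΦZ ▸ PGroup.commutatorElement_mem_frattini hDp x y
  have hsqZ : ∀ x : D, x * x ∈ Z := fun x => hΦZ ▸ (pow_two x) ▸ PGroup.pow_mem_frattini hDp x
  have hcc : ∀ z ∈ Z, ∀ y : D, y * z = z * y := fun z hz y => Subgroup.mem_center_iff.mp hz y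
  -- the generator
  obtain ⟨v0, -, hv0⟩ := SetLike.exists_of_lt (lt_top_iff_ne_top.mpr (show Φ ≠ ⊤ from fun e => by
    have : Nat.card (D ⧸ Φ) = 1 := (Subgroup.index_eq_card Φ).symm.trans (Subgroup.index_eq_one.mpr e)
    omega))
  set z0 := (σ (σ (σ (σ v0))))⁻¹ * (v0 * σ v0 * σ (σ v0) * σ (σ (σ v0))) with hz0def
  have hz0 : z0 ∈ Z := by
    rw [← hΦZ, ← hq1, hz0def]
    simp only [map_mul, map_inv]
    rw [inv_eq_of_mul_eq_one_right (hq2 _), mul_comm]
    exact hnorm v0
  obtain ⟨v, hvdef⟩ : ∃ v, v = v0 * z0 := ⟨_, rfl⟩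
  have hvΦ : v ∉ Φ := fun h => hv0 (by
    have := mul_mem h (inv_mem (hZΦ hz0))
    rwa [hvdef, mul_inv_cancel_right] at this)
  have hrel : σ (σ (σ (σ v))) = v * σ v * σ (σ v) * σ (σ (σ v)) := by
    have e : σ z0 = z0 := hσZ z0 hz0
    rw [hvdef]
    simp only [map_mul, e]
    calc σ (σ (σ (σ v0))) * z0 = v0 * σ v0 * σ (σ v0) * σ (σ (σ v0)) := by
          rw [hz0def, mul_inv_cancel_left]
      _ = v0 * z0 * (σ v0 * z0) * (σ (σ v0) * z0) * (σ (σ (σ v0)) * z0) :=
          (mul_central4 _ _ _ _ z0 (hcc z0 hz0) (hZ2 z0 hz0)).symm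
  have hinvc : ∀ x y : D, ⁅x, y⁆ = ⁅y, x⁆ := fun x y => by
    rw [← commutatorElement_inv, inv_eq_of_mul_eq_one_right (hZ2 _ (hcZ y x))]
  have hr : ∀ u x y : D, ⁅u, x * y⁆ = ⁅u, x⁆ * ⁅u, y⁆ := fun u x y => by
    rw [OddAutTwo.comm_mul_right', hcc _ (hcZ u y) x, mul_inv_cancel_right]
  have hsqmul : ∀ a b : D, a * b * (a * b) = a * a * (b * b) * ⁅a, b⁆ := fun a b => by
    rw [hinvc a b]
    exact sq_mul a b ⁅b, a⁆ (hcc _ (hcZ b a)) (by rw [commutatorElement_def]; group)
  set c₁ := ⁅v, σ v⁆ with hc₁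
  set c₂ := ⁅v, σ (σ v)⁆ with hc₂
  set s := v * v with hs
  have hσs : ∀ y : D, σ y * σ y = σ (y * y) := fun y => (map_mul σ y y).symm
  have hs1 : σ v * σ v = s := by rw [hσs]; exact hσZ _ (hsqZ v)
  have hs2 : σ (σ v) * σ (σ v) = s := by rw [hσs, hs1]; exact hσZ _ (hsqZ v)
  have hs3 : σ (σ (σ v)) * σ (σ (σ v)) = s := by rw [hσs, hs2]; exact hσZ _ (hsqZ v)
  have hs4 : σ (σ (σ (σ v))) * σ (σ (σ (σ v))) = s := by rw [hσs, hs3]; exact hσZ _ (hsqZ v)
  have hσc : ∀ a b : D, ⁅σ a, σ b⁆ = ⁅a, b⁆ := fun a b => by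
    rw [← map_commutatorElement, hσZ _ (hcZ a b)]
  have h03 : ⁅v, σ (σ (σ v))⁆ = c₂ := by
    rw [← hσc, ← hσc, hσ5', hinvc]
  have hsq : s = c₁ * c₂ := by
    have e1 : v * σ v * (v * σ v) = c₁ := by
      rw [hsqmul, hs1, hZ2 _ (hsqZ v), one_mul]
    have e2 : v * σ v * σ (σ v) * (v * σ v * σ (σ v)) = s * c₂ := by
      rw [hsqmul, e1, hs2, hinvc, hr, hinvc _ v, hinvc _ (σ v), hσc, ← hc₁, ← hc₂]
      exact central_e2 _ _ _ (hcc _ (hcZ _ _)) (hZ2 _ (hcZ _ _))
    have e3 : s = s * c₂ * s * (c₂ * c₂ * c₁) := by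
      conv_lhs => rw [← hs4, hrel, hsqmul, e2, hs3, hinvc, hr, hr, hinvc _ v, hinvc _ (σ v),
        hinvc _ (σ (σ v)), h03, hσc, hσc, hσc, ← hc₁, ← hc₂]
    exact central_e3 _ _ _ (hcc _ (hsqZ v)) (hcc _ (hcZ _ _)) (hZ2 _ (hsqZ v)) (hZ2 _ (hcZ _ _)) e3
  have hw : ∀ (i : ℕ), CentU34.w g (v : G) i = (((σ ^ i) v : D) : G) := by
    intro i
    induction i with
    | zero => simp [CentU34.w_zero]
    | succ i ih => rw [← CentU34.w_succ, ih, pow_succ', MulAut.mul_apply, hσval]
  have hgc : ∀ z ∈ Z, g * (z : G) = z * g := fun z hz => by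
    have h := congrArg Subtype.val (hσZ z hz)
    rw [hσval] at h
    exact mul_inv_eq_iff_eq_mul.mp h
  have hRel : CentU34.Rel g (v : G) (c₁ : G) (c₂ : G) := by
    refine ⟨hg5, hgc _ (hcZ _ _), hgc _ (hcZ _ _), congrArg Subtype.val (hcc _ (hcZ _ _) v),
      congrArg Subtype.val (hcc _ (hcZ _ _) v), congrArg Subtype.val (hZ2 _ (hcZ _ _)),
      congrArg Subtype.val (hZ2 _ (hcZ _ _)), congrArg Subtype.val hsq, ?_, ?_, ?_⟩
    · rw [hw]; exact (map_commutatorElement D.subtype v ((σ ^ 1) v)).symm.trans rfl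
    · rw [hw]; exact (map_commutatorElement D.subtype v ((σ ^ 2) v)).symm.trans rfl
    · simp only [hw]; exact congrArg Subtype.val hrel
  have hgenG : Subgroup.closure ({g, (v : G)} : Set G) = ⊤ := by
    set K := Subgroup.closure ({g, (v : G)} : Set G) with hK
    have hgK : g ∈ K := Subgroup.subset_closure (Or.inl rfl)
    have hvK : (v : G) ∈ K := Subgroup.subset_closure (Or.inr rfl)
    set U := (K.subgroupOf D).map q with hU
    have hUinv : ∀ x, q x ∈ U → q (σ x) ∈ U := by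
      rintro x ⟨y, hy, hxy⟩
      refine ⟨σ y, Subgroup.mem_subgroupOf.mpr ?_, ?_⟩
      · rw [hσval]; exact mul_mem (mul_mem hgK hy) (inv_mem hgK)
      · rw [← inv_mul_eq_one, ← map_inv, ← map_mul, ← map_inv, ← map_mul, hq1]
        exact (PGroup.aut_mem_iff σ _).mpr (by rw [← hq1, map_mul, map_inv, hxy, inv_mul_cancel])
    have hU16 : U = ⊤ := by
      refine Subgroup.eq_top_of_card_eq _ ?_
      have h1 := U.card_subgroup_dvd_card
      rw [hV16] at h1 ⊢
      have h2 := hinvcard U hUinv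
      have h3 : Nat.card U ≠ 1 := fun e => hvΦ ((hq1 v).mp (by
        rw [← Subgroup.mem_bot, ← Subgroup.eq_bot_of_card_eq U e]
        exact ⟨v, Subgroup.mem_subgroupOf.mpr hvK, rfl⟩))
      obtain ⟨k, hk, e⟩ := (Nat.dvd_prime_pow Nat.prime_two).mp (show Nat.card U ∣ 2 ^ 4 by norm_num; exact h1)
      rw [e] at h2 h3 ⊢
      exact pow_two_mod_five hk h2 h3
    have hKD : K.subgroupOf D = ⊤ := by
      apply frattini_nongenerating
      refine eq_top_iff.mpr fun x _ => ?_
      obtain ⟨y, hy, hxy⟩ := hU16.ge (Subgroup.mem_top (q x))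
      have hm : y⁻¹ * x ∈ frattini D := (hq1 _).mp (by rw [map_mul, map_inv, hxy, inv_mul_cancel])
      have := Subgroup.mul_mem_sup hy hm
      rwa [mul_inv_cancel_left] at this
    exact hbig K (fun x hx => Subgroup.mem_subgroupOf.mp (hKD.ge (Subgroup.mem_top (⟨x, hx⟩ : D)))) hgK
  refine ⟨g, v, c₁, c₂, hRel, hgenG, ?_⟩
  -- the centre consists of `1, c₁, c₂, c₁ c₂`
  intro N hNn h1 h2 h12
  haveI := hNn
  have hcard := hRel.card_le.2.2
  rw [hgenG, Subgroup.card_top, hG] at hcard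
  set C := Subgroup.closure ({(c₁ : G), (c₂ : G)} : Set G) with hC
  have hCZ : C = Z.map D.subtype := by
    refine Subgroup.eq_of_le_of_card_ge ?_ ?_
    · rw [hC, Subgroup.closure_le]
      rintro x (rfl | rfl) <;> exact ⟨_, hcZ _ _, rfl⟩
    · rw [Subgroup.card_map_of_injective D.subtype_injective, hZc]; omega
  have hCel : ∀ x ∈ C, x = 1 ∨ x = c₁ ∨ x = c₂ ∨ x = (c₁ : G) * c₂ := by
    have e11 : (c₁ : G) * c₁ = 1 := hRel.hc₁
    have e22 : (c₂ : G) * c₂ = 1 := hRel.hc₂
    have e21 : (c₂ : G) * c₁ = (c₁ : G) * c₂ := congrArg Subtype.val (hcc c₁ (hcZ _ _) c₂)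
    have a11 : ∀ t : G, (c₁ : G) * (c₁ * t) = t := fun t => by rw [← mul_assoc, e11, one_mul]
    have a22 : ∀ t : G, (c₂ : G) * (c₂ * t) = t := fun t => by rw [← mul_assoc, e22, one_mul]
    have a21 : ∀ t : G, (c₂ : G) * (c₁ * t) = c₁ * (c₂ * t) := fun t => by rw [← mul_assoc, e21, mul_assoc]
    intro x hx
    induction hx using Subgroup.closure_induction with
    | mem x hx => rcases hx with rfl | rfl <;> simp
    | one => exact Or.inl rfl
    | mul a b _ _ ha hb =>
      rcases ha with rfl | rfl | rfl | rfl <;> rcases hb with rfl | rfl | rfl | rfl <;>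
        simp [e11, e22, e21, a11, a22, a21, mul_assoc]
    | inv a _ ha =>
      rcases ha with rfl | rfl | rfl | rfl
      · simp
      · rw [inv_eq_of_mul_eq_one_right e11]; simp
      · rw [inv_eq_of_mul_eq_one_right e22]; simp
      · refine Or.inr (Or.inr (Or.inr (inv_eq_of_mul_eq_one_right ?_)))
        simp [e11, e22, e21, a11, a22, a21, mul_assoc]
  -- `N` meets `D` trivially
  have hND : ∀ x ∈ N, x ∈ D → x = 1 := by
    by_contra h
    push Not at h
    obtain ⟨x, hxN, hxD, hx1⟩ := h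
    have hne : N.subgroupOf D ≠ ⊥ := fun e => hx1 (congrArg Subtype.val
      (Subgroup.mem_bot.mp (e.le (show (⟨x, hxD⟩ : D) ∈ N.subgroupOf D from hxN))))
    obtain ⟨y, hy, hy1⟩ := (Subgroup.bot_or_exists_ne_one _).resolve_left (PGroup.inf_center_ne_bot hDp hne)
    obtain ⟨hyN, hyZ⟩ := Subgroup.mem_inf.mp hy
    have hyN' : (y : G) ∈ N := hyN
    rcases hCel y (hCZ ▸ ⟨y, hyZ, rfl⟩) with e | e | e | e <;> rw [e] at hyN'
    · exact hy1 (Subtype.ext e)
    · exact h1 hyN'
    · exact h2 hyN'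
    · exact h12 hyN'
  refine (Subgroup.eq_bot_iff_forall N).mpr fun x hx => ?_
  have hxc : ∀ d ∈ D, x * d = d * x := fun d hd => by
    rw [← commutatorElement_eq_one_iff_mul_comm]
    refine hND _ ?_ ?_
    · rw [show ⁅x, d⁆ = x * (d * x⁻¹ * d⁻¹) by rw [commutatorElement_def]; group]
      exact mul_mem hx (hNn.conj_mem _ (inv_mem hx) d)
    · rw [commutatorElement_def]
      exact mul_mem (hDn.conj_mem _ hd x) (inv_mem hd)
  by_contra hx1
  have hxD : x ∉ D := fun h => hx1 (hND x hx h)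
  let M : Subgroup G := Subgroup.centralizer {(v : G)}
  -- `x` and `D` generate `G`, so `v` would be fixed by `g`
  have htop : D ⊔ Subgroup.zpowers x = ⊤ := by
    obtain ⟨j, hj⟩ := Subgroup.card_dvd_of_le (le_sup_left : D ≤ D ⊔ Subgroup.zpowers x)
    have h2' := (D ⊔ Subgroup.zpowers x).card_subgroup_dvd_card
    rw [hG, hj, hD, show 320 = 64 * 5 by norm_num] at h2'
    rcases (Nat.dvd_prime (by norm_num)).mp (Nat.dvd_of_mul_dvd_mul_left (by norm_num) h2') with e | e
    · exfalso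
      rw [e, mul_one] at hj
      exact hxD ((Subgroup.eq_of_le_of_card_ge le_sup_left hj.le).ge
        (Subgroup.mem_sup_right (Subgroup.mem_zpowers x)))
    · exact Subgroup.eq_top_of_card_eq _ (by rw [hj, hD, e, hG])
  obtain ⟨d, hd, y, hy, hdy⟩ := Subgroup.mem_sup_of_normal_left.mp (htop.ge (Subgroup.mem_top g))
  obtain ⟨k, rfl⟩ := Subgroup.mem_zpowers_iff.mp hy
  have hxv : x ^ k * (v : G) * (x ^ k)⁻¹ = v := by
    rw [(Commute.zpow_left (hxc v v.2) k).eq, mul_inv_cancel_right]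
  refine hvΦ (hfix v ?_)
  have : σ v = (⟨d, hd⟩ : D) * v * (⟨d, hd⟩ : D)⁻¹ := Subtype.ext (by
    rw [hσval]
    simp only [Subgroup.coe_mul, Subgroup.coe_inv]
    conv_rhs => rw [← hxv]
    rw [← hdy]; group)
  rw [this, map_mul, map_mul, map_inv, mul_comm (q ⟨d, hd⟩), mul_inv_cancel_right]

/-- A finite group of order 320 whose derived subgroup has order 64 and has centre a Klein four-group is isomorphic to the centralizer of an involution in PSU₃(4). -/
theorem result {G : Type*} [Group G] [Finite G] (hG : Nat.card G = 320) (hD : Nat.card (commutator G) = 64)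
    (hZ : IsKleinFour (Subgroup.center (commutator G)))
    {F : Type*} [Field F] [Fintype F] (hF : Fintype.card F = 16) :
    ∃ t : Cfsg.PSU 3 F 4, orderOf t = 2 ∧ Nonempty (G ≃* Subgroup.centralizer ({t} : Set (Cfsg.PSU 3 F 4))) := by
  classical
  have hF' : Fintype.card F = 4 ^ 2 := by rw [hF]; norm_num
  have h2 : (2 : F) = 0 := by
    have h := FiniteField.cast_card_eq_zero F
    rw [hF, show ((16 : ℕ) : F) = 2 ^ 4 by norm_num] at h
    exact pow_eq_zero_iff (by norm_num) |>.mp h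
  obtain ⟨t, g', v', d₁, d₂, ht, hrel', hd₁, hd₂, hd₁₂, hg', htg, htv, hC⟩ := CentU34.exists_rel hF' h2
  obtain ⟨g, v, c₁, c₂, hrel, hgen, hnormal⟩ := exists_rel hG hD hZ
  obtain ⟨φ, hφg, hφv⟩ := hrel.exists_hom hgen hG hrel'
  have hc₁ : φ c₁ = d₁ := by
    rw [← hrel.hcomm₁, ← hrel'.hcomm₁, map_commutatorElement]
    simp [CentU34.w, hφg, hφv]
  have hc₂ : φ c₂ = d₂ := by
    rw [← hrel.hcomm₂, ← hrel'.hcomm₂, map_commutatorElement]
    simp [CentU34.w, hφg, hφv]
  have hinj : Function.Injective φ := by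
    rw [← MonoidHom.ker_eq_bot_iff]
    exact hnormal φ.ker inferInstance (fun h => hd₁ (hc₁ ▸ h)) (fun h => hd₂ (hc₂ ▸ h))
      (fun h => hd₁₂ (by rw [← hc₁, ← hc₂, ← map_mul]; exact h))
  have hle : φ.range ≤ Subgroup.centralizer ({t} : Set (Cfsg.SU 3 F 4)) := by
    rw [MonoidHom.range_eq_map, ← hgen, MonoidHom.map_closure, Subgroup.closure_le]
    rintro _ ⟨x, hx, rfl⟩
    rcases hx with rfl | rfl
    · rw [hφg]; exact Subgroup.mem_centralizer_singleton_iff.mpr htg.symm
    · rw [hφv]; exact Subgroup.mem_centralizer_singleton_iff.mpr htv.symm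
  have heq : φ.range = Subgroup.centralizer ({t} : Set (Cfsg.SU 3 F 4)) := by
    refine Subgroup.eq_of_le_of_card_ge hle ?_
    rw [← Nat.card_congr (MonoidHom.ofInjective hinj).toEquiv, hG]
    exact hC
  -- pass to `PSU`
  have hcen : Subgroup.center (Cfsg.SU 3 F 4) = ⊥ :=
    Subgroup.eq_bot_of_card_eq _ (by rw [Agent.Unitary.card_center_SU hF' (by norm_num)]; rfl)
  let e : Cfsg.SU 3 F 4 ≃* Cfsg.PSU 3 F 4 := MulEquiv.ofBijective (QuotientGroup.mk' _)
    ⟨(MonoidHom.ker_eq_bot_iff _).mp (by rw [QuotientGroup.ker_mk', hcen]), QuotientGroup.mk'_surjective _⟩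
  refine ⟨e t, by rw [MulEquiv.orderOf_eq, ht], ⟨?_⟩⟩
  refine (MonoidHom.ofInjective hinj).trans ((MulEquiv.subgroupCongr heq).trans
    ((e.subgroupMap _).trans (MulEquiv.subgroupCongr ?_)))
  ext y
  obtain ⟨x, rfl⟩ := e.surjective y
  refine ⟨?_, fun h => ⟨x, ?_, rfl⟩⟩
  · rintro ⟨z, hz, hzx⟩
    rw [Subgroup.mem_centralizer_singleton_iff, ← show e z = e x from hzx, ← map_mul, ← map_mul,
      Subgroup.mem_centralizer_singleton_iff.mp hz]
  · refine Subgroup.mem_centralizer_singleton_iff.mpr (e.injective ?_)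
    rw [map_mul, map_mul]
    exact Subgroup.mem_centralizer_singleton_iff.mp h

end Cfsg.Agent.S1903
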