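import Cfsg.Statements.S4207
import Cfsg.Agent.Lib.BurnsideBasis.Basic

set_option autoImplicit false
open Cfsg Cfsg.Agent.BurnsideBasis

namespace Cfsg.Agent.S4207

/-- Let `P` be a group of order `p^n` whose Frattini subgroup has index `p^r`. Then any group of automorphisms of `P` each of which induces the identity on the Frattini quotient has order dividing `p^(r(n-r))`; in particular it is a `p`-group. -/
theorem result {P : Type*} [Group P] [Finite P] {p n r : ℕ} [Fact p.Prime] (hP : Nat.card P = p ^ n) (hr : (frattini P).index = p ^ r) (A : Subgroup (MulAut P)) (hA : ∀ α ∈ A, ∀ x : P, α x * x⁻¹ ∈ frattini P) : Nat.card A ∣ p ^ (r * (n - r)) := by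
  obtain ⟨f₀, hf₀⟩ := exists_generating hP hr
  have h := card_dvd_card_invariant_generating A
    {f : Fin r → P | ∀ i, (f i : P ⧸ frattini P) = (f₀ i : P ⧸ frattini P)} ?_ ?_
  · rw [Set.coe_setOf, card_lifts, (card_frattini hP hr).2, ← pow_mul, mul_comm (n - r) r] at h
    exact h
  · intro f hf
    rw [closure_range_eq_top_iff, funext hf, ← closure_range_eq_top_iff]
    exact hf₀
  · intro α hα f hf i
    rw [← hf i, QuotientGroup.eq]
    have h1 := (frattini P).inv_mem ((inferInstance : (frattini P).Normal).mem_comm (hA α hα (f i)))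
    simpa using h1

end Cfsg.Agent.S4207
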