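import Cfsg.Statements.S4189
import Cfsg.Agent.Lib.BurnsideBasis.Basic
import Cfsg.Agent.S4207

set_option autoImplicit false
open Cfsg Cfsg.Agent.BurnsideBasis

namespace Cfsg.Agent.S4189

open scoped commutatorElement

theorem lcs_eq_bot_of_le_succ {P : Type*} [Group P] [Group.IsNilpotent P] (i : ℕ)
    (h : (⊤ : Subgroup P).lowerCentralSeries i ≤ (⊤ : Subgroup P).lowerCentralSeries (i + 1)) :
    (⊤ : Subgroup P).lowerCentralSeries i = ⊥ := by
  obtain ⟨n, hn⟩ := nilpotent_iff_lowerCentralSeries.mp (inferInstance : Group.IsNilpotent P)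
  have key : ∀ k, (⊤ : Subgroup P).lowerCentralSeries i ≤ (⊤ : Subgroup P).lowerCentralSeries (i + k) := by
    intro k
    induction k with
    | zero => exact le_rfl
    | succ k ih =>
      rw [← Nat.add_assoc, Subgroup.lowerCentralSeries_succ]
      exact h.trans (Subgroup.commutator_mono ih le_rfl)
  rw [eq_bot_iff, ← hn]
  exact (key n).trans (Subgroup.lowerCentralSeries_antitone _ (Nat.le_add_left n i))

/-- Recognition of the quaternion group of order 8. -/
theorem nonempty_equiv_quaternion {P : Type*} [Group P] [Finite P] (a b : P) (h4 : a ^ 4 = 1) (hb2 : b * b = a ^ 2)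
    (hba : a * b = b * a⁻¹) (hgen : Subgroup.closure {a, b} = ⊤) (hcard : Nat.card P = 8) :
    Nonempty (P ≃* QuaternionGroup 2) := by
  let pw : ZMod (2 * 2) → P := fun i => a ^ i.val
  have hadd : ∀ i j, pw (i + j) = pw i * pw j := fun i j => by
    simp only [pw, ← pow_add, ZMod.val_add]
    exact pow_eq_pow_mod _ h4 |>.symm
  have hneg : ∀ i, pw (-i) = (pw i)⁻¹ := fun i => by
    have := hadd (-i) i
    rw [neg_add_cancel] at this
    exact eq_inv_of_mul_eq_one_left (by rw [← this]; simp [pw])
  have hcomm : ∀ i, pw i * b = b * pw (-i) := fun i => by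
    have key : ∀ n : ℕ, a ^ n * b = b * (a ^ n)⁻¹ := by
      intro n
      induction n with
      | zero => simp
      | succ n ih =>
        rw [pow_succ, mul_assoc, hba, ← mul_assoc, ih, mul_assoc, ← mul_inv_rev, ← pow_succ', ← pow_succ]
    rw [hneg]; exact key i.val
  have h2 : pw 2 = b * b := by rw [hb2]; rfl
  let f : QuaternionGroup 2 → P
    | .a i => pw i
    | .xa i => b * pw i
  have hf : ∀ x y, f (x * y) = f x * f y := by
    rintro (i | i) (j | j)
    · show pw (i + j) = pw i * pw j
      exact hadd i j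
    · show b * pw (j - i) = pw i * (b * pw j)
      rw [← mul_assoc, hcomm, mul_assoc, ← hadd, sub_eq_add_neg, add_comm]
    · show b * pw (i + j) = b * pw i * pw j
      rw [hadd, mul_assoc]
    · show pw (2 + j - i) = b * pw i * (b * pw j)
      rw [mul_assoc, ← mul_assoc (pw i), hcomm, mul_assoc, ← hadd, ← mul_assoc, ← h2, ← hadd]
      congr 1
      ring
  let F : QuaternionGroup 2 →* P := MonoidHom.mk' f hf
  have hsurj : Function.Surjective F := by
    rw [← MonoidHom.range_eq_top, eq_top_iff, ← hgen, Subgroup.closure_le]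
    rintro x (rfl | rfl)
    · exact ⟨QuaternionGroup.a 1, by show x ^ (1 : ZMod (2 * 2)).val = x; exact pow_one x⟩
    · exact ⟨QuaternionGroup.xa 0, by show x * a ^ (0 : ZMod (2 * 2)).val = x; simp⟩
  have hbij : Function.Bijective F := (Nat.bijective_iff_surjective_and_card F).mpr ⟨hsurj, by
    rw [hcard, Nat.card_eq_fintype_card, QuaternionGroup.card]⟩
  exact ⟨(MulEquiv.ofBijective F hbij).symm⟩

/-- Let P be a finite non-abelian 2-group whose commutator subgroup has index 4 and whose automorphism group is not a 2-group (some automorphism has order that is not a power of 2). Then P is isomorphic to the quaternion group of order 8. -/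
theorem result {P : Type*} [Group P] [Finite P] (hP : IsPGroup 2 P) (hna : ¬ IsMulCommutative P) (h4 : (commutator P).index = 4) (haut : ¬ IsPGroup 2 (MulAut P)) : Nonempty (P ≃* QuaternionGroup 2) := by
  haveI : Group.IsNilpotent P := hP.isNilpotent
  set G3 := (⊤ : Subgroup P).lowerCentralSeries 2 with hG3
  set G4 := (⊤ : Subgroup P).lowerCentralSeries 3 with hG4
  haveI : G3.Normal := inferInstance
  haveI : G4.Normal := inferInstance
  have hD : (⊤ : Subgroup P).lowerCentralSeries 1 = commutator P := Subgroup.top_lowerCentralSeries_one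
  have h3 : ∀ x ∈ commutator P, ∀ y : P, ⁅x, y⁆ ∈ G3 := fun x hx y =>
    Subgroup.commutator_mem_commutator (hD.symm ▸ hx) (Subgroup.mem_top y)
  have h4' : ∀ x ∈ G3, ∀ y : P, ⁅x, y⁆ ∈ G4 := fun x hx y =>
    Subgroup.commutator_mem_commutator hx (Subgroup.mem_top y)
  have hDF : commutator P ≤ frattini P := by
    rw [commutator_def, Subgroup.commutator_le]
    exact fun x _ y _ => commutatorElement_mem_frattini hP x y
  have hV : Nat.card (P ⧸ commutator P) = 4 := by rw [← Subgroup.index_eq_card, h4]
  -- squares lie in the derived subgroup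
  have hsq : ∀ x : P, x ^ 2 ∈ commutator P := by
    intro x
    have hd : orderOf (x : P ⧸ commutator P) ∣ 2 ^ 2 := by
      rw [show (2 : ℕ) ^ 2 = Nat.card (P ⧸ commutator P) by rw [hV]; rfl]
      exact orderOf_dvd_natCard _
    obtain ⟨k, hk, hk'⟩ := (Nat.dvd_prime_pow Nat.prime_two).mp hd
    rcases Nat.lt_or_ge k 2 with hk2 | hk2
    · rw [← QuotientGroup.eq_one_iff, QuotientGroup.mk_pow, ← orderOf_dvd_iff_pow_eq_one, hk']
      exact dvd_trans (Nat.pow_dvd_pow 2 (Nat.le_of_lt_succ hk2)) (dvd_of_eq (pow_one 2))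
    · exfalso
      have hz : Subgroup.zpowers (x : P ⧸ commutator P) = ⊤ := Subgroup.eq_top_of_card_eq _ (by
        rw [Nat.card_zpowers, hk', show k = 2 by omega, hV]; rfl)
      have hx : Subgroup.zpowers x = ⊤ := by
        apply frattini_nongenerating
        rw [eq_top_iff]
        intro y _
        obtain ⟨m, hm⟩ := Subgroup.mem_zpowers_iff.mp (hz ▸ Subgroup.mem_top (y : P ⧸ commutator P))
        rw [← QuotientGroup.mk_zpow, QuotientGroup.eq] at hm
        have := mul_mem (Subgroup.mem_sup_left (T := frattini P) (Subgroup.zpow_mem_zpowers x m)) (Subgroup.mem_sup_right (hDF hm))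
        simpa using this
      apply hna
      refine ⟨⟨fun u v => ?_⟩⟩
      obtain ⟨i, rfl⟩ := Subgroup.mem_zpowers_iff.mp (hx ▸ Subgroup.mem_top u)
      obtain ⟨j, rfl⟩ := Subgroup.mem_zpowers_iff.mp (hx ▸ Subgroup.mem_top v)
      rw [← zpow_add, ← zpow_add, add_comm]
  -- an automorphism moving the Frattini quotient
  let K : Subgroup (MulAut P) :=
    { carrier := {β | ∀ x, β x * x⁻¹ ∈ commutator P}
      one_mem' := fun x => by simp
      mul_mem' := fun {β γ} hβ hγ x => by
        have := mul_mem (hβ (γ x)) (hγ x)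
        simpa [mul_assoc] using this
      inv_mem' := fun {β} hβ x => by
        have := inv_mem (hβ (β⁻¹ x))
        simpa using this }
  obtain ⟨n, hn⟩ := IsPGroup.iff_card.mp hP
  obtain ⟨r, hr⟩ := hP.index (frattini P)
  have hKdvd : Nat.card K ∣ 2 ^ (r * (n - r)) := Cfsg.Agent.S4207.result hn hr K (fun β hβ x => hDF (hβ x))
  obtain ⟨q, hq, hq2, hqdvd⟩ : ∃ q, q.Prime ∧ q ≠ 2 ∧ q ∣ Nat.card (MulAut P) := by
    by_contra h
    push Not at h
    exact haut (IsPGroup.of_card (Nat.eq_prime_pow_of_unique_prime_dvd Nat.card_pos.ne' (fun {d} hd hdd => by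
      by_contra hne; exact h d hd hne hdd)))
  haveI := Fact.mk hq
  obtain ⟨α, hα⟩ := exists_prime_orderOf_dvd_card' q hqdvd
  have hαK : α ∉ K := by
    intro h
    have h1 : q ∣ Nat.card K := by
      rw [← hα]; exact Subgroup.orderOf_dvd_natCard K h
    exact hq2 ((Nat.prime_dvd_prime_iff_eq hq Nat.prime_two).mp (hq.dvd_of_dvd_pow (h1.trans hKdvd)))
  obtain ⟨a, ha⟩ : ∃ a, α a * a⁻¹ ∉ commutator P := by
    by_contra h; push Not at h; exact hαK h
  have hchar : ∀ (i : ℕ) (x : P), α x ∈ (⊤ : Subgroup P).lowerCentralSeries i ↔ x ∈ (⊤ : Subgroup P).lowerCentralSeries i := by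
    intro i x
    have h1 := Subgroup.Characteristic.fixed (H := (⊤ : Subgroup P).lowerCentralSeries i) inferInstance α
    exact SetLike.ext_iff.mp h1 x
  have hcD : ∀ x : P, α x ∈ commutator P ↔ x ∈ commutator P := fun x => by rw [← hD]; exact hchar 1 x
  let π := QuotientGroup.mk' (commutator P)
  have hπ : ∀ x, π x = 1 ↔ x ∈ commutator P := fun x => QuotientGroup.eq_one_iff x
  have hinv : ∀ u : P ⧸ commutator P, u⁻¹ = u := fun u => by
    obtain ⟨x, rfl⟩ := QuotientGroup.mk'_surjective _ u
    rw [inv_eq_iff_mul_eq_one, ← map_mul, ← pow_two]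
    exact (hπ _).mpr (hsq x)
  set b := α a with hb
  have haD : a ∉ commutator P := fun h => ha (mul_mem ((hcD a).mpr h) (inv_mem h))
  have hbD : b ∉ commutator P := fun h => haD ((hcD a).mp h)
  have hab : π a ≠ π b := fun h => ha ((hπ _).mp (by rw [map_mul, map_inv, h, mul_inv_cancel]))
  have hgen : Subgroup.closure {a, b} = ⊤ := by
    apply frattini_nongenerating
    rw [eq_top_iff]
    refine le_trans ?_ (sup_le_sup_left hDF _)
    set S := Subgroup.closure {a, b} ⊔ commutator P
    have hS : S.map π = ⊤ := by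
      apply Subgroup.eq_top_of_card_eq
      have hdvd : Nat.card (S.map π) ∣ 2 ^ 2 := by
        rw [show (2 : ℕ) ^ 2 = Nat.card (P ⧸ commutator P) by rw [hV]; rfl]
        exact Subgroup.card_subgroup_dvd_card _
      have hge : 3 ≤ Nat.card (S.map π) := by
        have hma : π a ∈ S.map π := Subgroup.mem_map_of_mem π (Subgroup.mem_sup_left (Subgroup.subset_closure (Or.inl rfl)))
        have hmb : π b ∈ S.map π := Subgroup.mem_map_of_mem π (Subgroup.mem_sup_left (Subgroup.subset_closure (Or.inr rfl)))
        let g : Fin 3 → S.map π := ![1, ⟨π a, hma⟩, ⟨π b, hmb⟩]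
        have hg : Function.Injective g := by
          intro i j hij
          fin_cases i <;> fin_cases j <;> simp [g, Subtype.ext_iff] at hij <;>
            first | rfl | exact absurd hij hab | exact absurd hij.symm hab |
              exact absurd ((hπ _).mp hij) haD | exact absurd ((hπ _).mp hij.symm) haD |
              exact absurd ((hπ _).mp hij) hbD | exact absurd ((hπ _).mp hij.symm) hbD
        simpa using Nat.card_le_card_of_injective g hg
      obtain ⟨k, hk, hk'⟩ := (Nat.dvd_prime_pow Nat.prime_two).mp hdvd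
      interval_cases k <;> omega
    have := Subgroup.comap_map_eq_self (f := π) (H := S) (by rw [QuotientGroup.ker_mk']; exact le_sup_right)
    rw [← this, hS, Subgroup.comap_top]
  have hbαb : π (α b) = π a * π b := by
    have hb1 : π (α b) ≠ 1 := fun h => hbD ((hcD b).mp ((hπ _).mp h))
    have hb2 : π (α b) ≠ π b := by
      intro h
      apply ha
      rw [← hcD]
      have : π (α b * b⁻¹) = 1 := by rw [map_mul, map_inv, h, mul_inv_cancel]
      have h1 := (hπ _).mp this
      rw [map_mul, map_inv]
      exact h1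
    have hb3 : π (α b) ≠ π a := by
      intro h
      have hαα : α * α ∈ K := by
        intro x
        have he := MonoidHom.eqOn_closure (f := π.comp (α * α).toMonoidHom) (g := π) (s := {a, b}) (by
          rintro y (rfl | rfl)
          · exact h
          · show π (α (α (α a))) = π (α a)
            have e : ∀ u v, π u = π v → π (α u) = π (α v) := by
              intro u v huv
              have h1 : u * v⁻¹ ∈ commutator P := (hπ _).mp (by rw [map_mul, map_inv, huv, mul_inv_cancel])
              have h2 := (hπ _).mpr ((hcD _).mpr h1)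
              rwa [map_mul α, map_inv α, map_mul π, map_inv π, mul_inv_eq_one] at h2
            exact e _ _ h)
        rw [← hπ, map_mul, map_inv, mul_inv_eq_one]
        exact he (hgen ▸ Subgroup.mem_top x)
      apply hαK
      have hodd : Odd q := hq.odd_of_ne_two hq2
      obtain ⟨m, hm⟩ := hodd
      have : α = (α * α) ^ (m + 1) := by
        rw [← pow_two, ← pow_mul, show 2 * (m + 1) = q + 1 by omega, pow_succ, ← hα, pow_orderOf_eq_one, one_mul]
      rw [this]; exact pow_mem hαα _
    by_contra hne
    let g : Fin 5 → P ⧸ commutator P := ![1, π a, π b, π a * π b, π (α b)]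
    have hg : Function.Injective g := by
      have e1 : π a * π b ≠ 1 := fun h => hab (by rw [← hinv (π b)]; exact eq_inv_of_mul_eq_one_left h)
      have ea : π a ≠ 1 := fun h => haD ((hπ _).mp h)
      have eb : π b ≠ 1 := fun h => hbD ((hπ _).mp h)
      intro i j hij
      fin_cases i <;> fin_cases j <;> simp [g] at hij <;>
        first | rfl | exact absurd hij ea | exact absurd hij.symm ea | exact absurd hij eb | exact absurd hij.symm eb |
          exact absurd hij hab | exact absurd hij.symm hab | exact absurd hij e1 | exact absurd hij.symm e1 |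
          exact absurd hij hb1 | exact absurd hij.symm hb1 | exact absurd hij hb2 | exact absurd hij.symm hb2 |
          exact absurd hij hb3 | exact absurd hij.symm hb3 | exact absurd hij hne | exact absurd hij.symm hne
    have := Nat.card_le_card_of_injective g hg
    rw [hV] at this
    simp at this
  -- the quotient by the third term
  let ρ := QuotientGroup.mk' G3
  have hρ : ∀ x, ρ x = 1 ↔ x ∈ G3 := fun x => QuotientGroup.eq_one_iff x
  have hcen : ∀ x ∈ commutator P, ∀ y, ρ x * ρ y = ρ y * ρ x := fun x hx y => by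
    rw [← commutatorElement_eq_one_iff_mul_comm, ← map_commutatorElement]
    exact (hρ _).mpr (h3 x hx y)
  set c := ⁅a, b⁆ with hc
  have hcmem : c ∈ commutator P := Subgroup.commutator_mem_commutator (Subgroup.mem_top a) (Subgroup.mem_top b)
  have hc2 : ρ c * ρ c = 1 := by
    have e1 : ⁅a ^ 2, b⁆ = a * c * a⁻¹ * c := by rw [hc, commutatorElement_def, commutatorElement_def]; rw [pow_two]; group
    have e2 : ρ ⁅a ^ 2, b⁆ = 1 := by
      rw [map_commutatorElement, commutatorElement_eq_one_iff_mul_comm]
      exact hcen _ (hsq a) b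
    rw [e1, map_mul, map_mul, map_mul, ← hcen c hcmem a, map_inv, mul_inv_cancel_right] at e2
    exact e2
  let Z : Subgroup P :=
    { carrier := {x | x ∈ commutator P ∧ (ρ x = 1 ∨ ρ x = ρ c)}
      one_mem' := ⟨one_mem _, Or.inl (map_one _)⟩
      mul_mem' := fun {x y} hx hy => ⟨mul_mem hx.1 hy.1, by
        rw [map_mul]
        rcases hx.2 with h | h <;> rcases hy.2 with h' | h' <;> rw [h, h'] <;> simp [hc2]⟩
      inv_mem' := fun {x} hx => ⟨inv_mem hx.1, by
        rw [map_inv]
        rcases hx.2 with h | h <;> rw [h]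
        · exact Or.inl inv_one
        · exact Or.inr (inv_eq_of_mul_eq_one_right hc2)⟩ }
  haveI hZn : Z.Normal := ⟨fun x hx g => by
    refine ⟨(inferInstance : (commutator P).Normal).conj_mem x hx.1 g, ?_⟩
    rw [map_mul, map_mul, map_inv, ← hcen x hx.1 g, mul_inv_cancel_right]
    exact hx.2⟩
  have hZ : commutator P ≤ Z := by
    let τ := QuotientGroup.mk' Z
    have hab' : τ a * τ b = τ b * τ a := by
      rw [← commutatorElement_eq_one_iff_mul_comm, ← map_commutatorElement]
      exact (QuotientGroup.eq_one_iff _).mpr ⟨hcmem, Or.inr rfl⟩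
    have hca : ∀ x, τ x * τ a = τ a * τ x ∧ τ x * τ b = τ b * τ x := by
      intro x
      induction (hgen ▸ Subgroup.mem_top x : x ∈ Subgroup.closure {a, b}) using Subgroup.closure_induction with
      | mem y hy =>
        rcases hy with rfl | rfl
        · exact ⟨rfl, hab'⟩
        · exact ⟨hab'.symm, rfl⟩
      | one => simp
      | mul y z _ _ hy hz =>
        constructor <;> rw [map_mul]
        · rw [mul_assoc, hz.1, ← mul_assoc, hy.1, mul_assoc]
        · rw [mul_assoc, hz.2, ← mul_assoc, hy.2, mul_assoc]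
      | inv y _ hy =>
        rw [map_inv]
        exact ⟨(Commute.inv_left (hy.1 : Commute (τ y) (τ a))).eq, (Commute.inv_left (hy.2 : Commute (τ y) (τ b))).eq⟩
    have hall : ∀ x y, τ x * τ y = τ y * τ x := by
      intro x y
      induction (hgen ▸ Subgroup.mem_top y : y ∈ Subgroup.closure {a, b}) using Subgroup.closure_induction with
      | mem y hy =>
        rcases hy with rfl | rfl
        · exact (hca x).1
        · exact (hca x).2
      | one => simp
      | mul y z _ _ hy hz => rw [map_mul, ← mul_assoc, hy, mul_assoc, hz, mul_assoc]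
      | inv y _ hy => rw [map_inv]; exact (Commute.inv_right (hy : Commute (τ x) (τ y))).eq
    rw [commutator_def, Subgroup.commutator_le]
    intro x _ y _
    have : τ ⁅x, y⁆ = 1 := by rw [map_commutatorElement, commutatorElement_eq_one_iff_mul_comm]; exact hall x y
    exact (QuotientGroup.eq_one_iff _).mp this
  have hc1 : ρ c ≠ 1 := by
    intro h
    apply hna
    have hle : (⊤ : Subgroup P).lowerCentralSeries 1 ≤ (⊤ : Subgroup P).lowerCentralSeries (1 + 1) := by
      intro x hx
      rw [hD] at hx
      rcases (hZ hx).2 with h' | h'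
      · exact (hρ x).mp h'
      · exact (hρ x).mp (h'.trans h)
    have hbot := lcs_eq_bot_of_le_succ 1 hle
    rw [hD, commutator_def, Subgroup.commutator_self_eq_bot_iff] at hbot
    exact ⟨⟨fun u v => congrArg Subtype.val (mul_comm' (⟨u, Subgroup.mem_top u⟩ : (⊤ : Subgroup P)) ⟨v, Subgroup.mem_top v⟩)⟩⟩
  have hαsq : ∀ x, ρ (α x ^ 2) = ρ (x ^ 2) := by
    intro x
    rw [← map_pow α]
    rcases (hZ (hsq x)).2 with h | h
    · rw [h]; exact (hρ _).mpr ((hchar 2 _).mpr ((hρ _).mp h))
    · rw [h]
      rcases (hZ ((hcD _).mpr (hsq x))).2 with h' | h'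
      · exact absurd ((hρ _).mpr ((hchar 2 _).mp ((hρ _).mp h'))) (h ▸ hc1)
      · exact h'
  have hB : ρ (b ^ 2) = ρ (a ^ 2) := hαsq a
  have hAB : ρ ((α b) ^ 2) = (ρ c)⁻¹ * ρ (a ^ 2) * ρ (b ^ 2) := by
    obtain ⟨z, hz, hze⟩ : ∃ z ∈ commutator P, α b = a * b * z := by
      refine ⟨(a * b)⁻¹ * α b, (hπ _).mp ?_, by group⟩
      rw [map_mul, map_inv, map_mul, hbαb, inv_mul_cancel]
    have hzz : ρ z * ρ z = 1 := by
      rcases (hZ hz).2 with h | h <;> rw [h]
      · exact mul_one _
      · exact hc2
    have e1 : ρ ((α b) ^ 2) = ρ (a * b) * ρ (a * b) := by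
      rw [hze, pow_two, map_mul, map_mul (f := ρ) (a * b) z]
      rw [mul_assoc, ← mul_assoc (ρ z), hcen z hz (a * b), mul_assoc (ρ (a * b)) (ρ z), hzz, mul_one]
    have e2 : a * b * (a * b) = a * c⁻¹ * a * (b * b) := by rw [hc, commutatorElement_def]; group
    rw [e1, ← map_mul, e2, ← pow_two, map_mul, map_mul, map_mul, map_inv]
    rw [← (Commute.inv_left (hcen c hcmem a : Commute (ρ c) (ρ a))).eq, mul_assoc (ρ c)⁻¹ (ρ a) (ρ a), ← map_mul ρ a a, ← pow_two]
  have hA : ρ (a ^ 2) = ρ c := by
    rcases (hZ (hsq a)).2 with h | h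
    · exfalso
      rw [hαsq b, hB, h, mul_one, mul_one] at hAB
      exact hc1 (inv_eq_one.mp hAB.symm)
    · exact h
  have hG3bot : G3 = ⊥ := by
    apply lcs_eq_bot_of_le_succ 2
    rw [← hG3, ← hG4]
    let τ := QuotientGroup.mk' G4
    have hz : ∀ z ∈ G3, ∀ y, τ z * τ y = τ y * τ z := fun z hz y => by
      rw [← commutatorElement_eq_one_iff_mul_comm, ← map_commutatorElement]
      exact (QuotientGroup.eq_one_iff _).mpr (h4' z hz y)
    have hcx : ∀ x : P, ρ (x ^ 2) = ρ c → τ c * τ x = τ x * τ c := by
      intro x hx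
      have hm : (x ^ 2)⁻¹ * c ∈ G3 := (hρ _).mp (by rw [map_mul, map_inv, hx, inv_mul_cancel])
      have e : c = x ^ 2 * ((x ^ 2)⁻¹ * c) := by group
      rw [e, map_mul, map_pow]
      exact ((Commute.pow_self (τ x) 2).mul_left (hz _ hm x)).eq
    have hcc : ∀ y, τ c * τ y = τ y * τ c := by
      intro y
      induction (hgen ▸ Subgroup.mem_top y : y ∈ Subgroup.closure {a, b}) using Subgroup.closure_induction with
      | mem y hy =>
        rcases hy with rfl | rfl
        · exact hcx _ hA
        · exact hcx _ (hB.trans hA)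
      | one => simp
      | mul y z _ _ hy hz => rw [map_mul, ← mul_assoc, hy, mul_assoc, hz, mul_assoc]
      | inv y _ hy => rw [map_inv]; exact (Commute.inv_right (hy : Commute (τ c) (τ y))).eq
    rw [hG3, Subgroup.lowerCentralSeries_succ, Subgroup.commutator_le]
    intro x hx y _
    rw [hD] at hx
    refine (QuotientGroup.eq_one_iff _).mp ?_
    show τ ⁅x, y⁆ = 1
    rw [map_commutatorElement, commutatorElement_eq_one_iff_mul_comm]
    rcases (hZ hx).2 with h | h
    · exact hz _ ((hρ _).mp h) y
    · have hm : c⁻¹ * x ∈ G3 := (hρ _).mp (by rw [map_mul, map_inv, h, inv_mul_cancel])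
      rw [show x = c * (c⁻¹ * x) by group, map_mul]
      exact (Commute.mul_left (hcc y : Commute (τ c) (τ y)) (hz _ hm y)).eq
  have hinj : ∀ x y, ρ x = ρ y → x = y := fun x y h => by
    have hm : x⁻¹ * y ∈ G3 := (hρ _).mp (by rw [map_mul, map_inv, h, inv_mul_cancel])
    rwa [hG3bot, Subgroup.mem_bot, inv_mul_eq_one] at hm
  have ea : a ^ 2 = c := hinj _ _ hA
  have eb : b ^ 2 = c := hinj _ _ (hB.trans hA)
  have ec : c * c = 1 := hinj _ _ (by rw [map_mul, map_one]; exact hc2)
  have hcard : Nat.card P = 8 := by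
    have hD2 : Nat.card (commutator P) = 2 := by
      rw [Nat.card_eq_two_iff]
      refine ⟨1, ⟨c, hcmem⟩, fun h => hc1 ?_, Set.eq_univ_iff_forall.mpr fun x => ?_⟩
      · rw [show c = (1 : P) from (congrArg Subtype.val h).symm, map_one]
      · rcases (hZ x.2).2 with h | h
        · exact Or.inl (Subtype.ext (hinj _ _ (h.trans (map_one ρ).symm)))
        · exact Or.inr (Subtype.ext (hinj _ _ h))
    rw [← (commutator P).card_mul_index, h4, hD2]
  refine nonempty_equiv_quaternion a b ?_ ?_ ?_ hgen hcard
  · rw [show (4 : ℕ) = 2 + 2 from rfl, pow_add, ea]; exact ec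
  · rw [← pow_two, eb, ea]
  · have hcb : c * b = b * c := by rw [← eb]; exact (Commute.pow_self b 2).eq
    have hai : a⁻¹ = c * a := inv_eq_of_mul_eq_one_left (by rw [mul_assoc, ← pow_two, ea, ec])
    calc a * b = c * b * a := by rw [hc, commutatorElement_def]; group
      _ = b * (c * a) := by rw [hcb, mul_assoc]
      _ = b * a⁻¹ := by rw [hai]

end Cfsg.Agent.S4189
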