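import Cfsg.Statements.S1904
import Cfsg.Agent.EqLemmas
import Cfsg.Agent.Lib.OddAutTwo.Special
import Cfsg.Agent.S4189

set_option autoImplicit false
set_option linter.style.haveILetI false
open Cfsg
open scoped commutatorElement

namespace Cfsg.Agent.S1904

/-- An extraspecial 2-group without normal elementary abelian subgroups of order eight has order 8 or
32, and in the second case eleven involutions. -/
theorem count_of_center_two {X : Type*} [Group X] [Finite X] (hX : IsPGroup 2 X)
    (hscn : ¬ ∃ B : Subgroup X, B.Normal ∧ Subgroup.centralizer (B : Set X) = B ∧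
      ∃ E : Subgroup X, E ≤ B ∧ Cfsg.IsElementaryAbelian 2 E ∧ Nat.card E = 8)
    (hex : Cfsg.IsExtraspecial 2 X) :
    Nat.card X = 8 ∨ (Nat.card X = 32 ∧ Nat.card {x : X // orderOf x = 2} = 11) := by
  classical
  haveI : Fact (Nat.Prime 2) := ⟨Nat.prime_two⟩
  haveI := Fintype.ofFinite X
  obtain ⟨⟨-, hΦ, hD⟩, hZ2⟩ := hex
  set Z := Subgroup.center X with hZdef
  have hcZ : ∀ a b : X, ⁅a, b⁆ ∈ Z := fun a b =>
    hD ▸ Subgroup.commutator_mem_commutator (Subgroup.mem_top a) (Subgroup.mem_top b)
  have hsqZ : ∀ x : X, x * x ∈ Z := fun x => hΦ ▸ (pow_two x) ▸ PGroup.pow_mem_frattini hX x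
  obtain ⟨z, hzZ, hz1, huniq⟩ : ∃ z ∈ Z, z ≠ 1 ∧ ∀ v ∈ Z, v = 1 ∨ v = z := by
    obtain ⟨z, hz1, hu⟩ := (Nat.card_eq_two_iff' (1 : Z)).mp hZ2
    exact ⟨z, z.2, fun h => hz1 (Subtype.ext h), fun v hv => or_iff_not_imp_left.mpr fun h =>
      congrArg Subtype.val (hu ⟨v, hv⟩ fun e => h (congrArg Subtype.val e))⟩
  have hexp : ∀ v ∈ Z, v * v = 1 := by
    intro v hv
    rcases huniq v hv with rfl | rfl
    · rw [one_mul]
    rcases huniq (v * v) (mul_mem hzZ hzZ) with h | h
    · exact h
    · exact absurd (mul_eq_left.mp h) hz1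
  have hbound : ∀ H : Subgroup X, Nat.card H ≤ Nat.card {h : H // (h : X) * h = 1} * 4 := by
    intro H
    have h := Squaring.card_mul_sq_le (H := H) (Z.subgroupOf H) (fun x => Subgroup.mem_subgroupOf.mpr (hsqZ x))
      (fun x hx => Subgroup.mem_center_iff.mpr fun y =>
        Subtype.ext (Subgroup.mem_center_iff.mp (Subgroup.mem_subgroupOf.mp hx) y))
      (fun x hx => Subtype.ext (hexp x (Subgroup.mem_subgroupOf.mp hx))) ⊥ bot_le
    rw [Subgroup.card_bot, one_pow, mul_one] at h
    have h2 : Nat.card (Z.subgroupOf H) ≤ 2 :=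
      hZ2 ▸ Nat.card_le_card_of_injective (fun x : Z.subgroupOf H => (⟨((x : H) : X), x.2⟩ : Z))
        fun x y e => Subtype.ext (Subtype.ext (congrArg Subtype.val e :))
    refine h.trans (le_trans (Nat.mul_le_mul_left _ (Nat.pow_le_pow_left h2 2)) (le_of_eq ?_))
    congr 1
    exact Nat.card_congr (Equiv.subtypeEquivRight fun x => by
      rw [Subgroup.mem_bot]; exact ⟨fun e => congrArg Subtype.val e, fun e => Subtype.ext e⟩)
  obtain ⟨n, hn1, hn⟩ := Agent.Extraspecial.exists_card (E := X) (p := 2) ⟨⟨hX, hΦ, hD⟩, hZ2⟩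
  rcases Nat.lt_or_ge n 2 with hn2 | hn2
  · left; rw [hn, show n = 1 by omega]; rfl
  right
  have h32 : 32 ≤ Nat.card X := hn ▸ Nat.pow_le_pow_right two_pos (show 5 ≤ 2 * n + 1 by omega)
  -- a non-central involution
  obtain ⟨u, hu2, huZ⟩ : ∃ u : X, u * u = 1 ∧ u ∉ Z := by
    by_contra h
    push Not at h
    have h1 : Nat.card {t : (⊤ : Subgroup X) // (t : X) * t = 1} ≤ 2 :=
      hZ2 ▸ Nat.card_le_card_of_injective (fun t => (⟨(t.1 : X), h _ t.2⟩ : Z))
        fun a b e => Subtype.ext (Subtype.ext (congrArg Subtype.val e :))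
    have h2 := hbound ⊤
    rw [Subgroup.card_top] at h2
    omega
  let μ : X →* Z := MonoidHom.mk' (fun x => ⟨⁅x, u⁆, hcZ x u⟩) fun a b => Subtype.ext (by
    show ⁅a * b, u⁆ = ⁅a, u⁆ * ⁅b, u⁆
    rw [OddAutTwo.comm_mul_left', Subgroup.mem_center_iff.mp (hcZ b u) a, mul_inv_cancel_right,
      Subgroup.mem_center_iff.mp (hcZ b u)])
  set C := μ.ker with hC
  have hmemC : ∀ x, x ∈ C ↔ x * u = u * x := fun x => by
    rw [hC, MonoidHom.mem_ker, ← commutatorElement_eq_one_iff_mul_comm]
    exact ⟨fun e => congrArg Subtype.val e, fun e => Subtype.ext e⟩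
  have hCidx : C.index = 2 := by
    have h1 : C.index ≤ 2 := by
      rw [hC, Subgroup.index_ker, ← hZ2]; exact Subgroup.card_le_card_group _
    have h2 : C.index ≠ 1 := fun e => huZ (Subgroup.mem_center_iff.mpr fun x =>
      (hmemC x).mp (Subgroup.index_eq_one.mp e ▸ Subgroup.mem_top x))
    have := C.index_ne_zero_of_finite
    omega
  have hzu : z ≠ u := fun e => huZ (e ▸ hzZ)
  have hu1 : u ≠ 1 := fun e => huZ (e ▸ one_mem _)
  -- the involutions commuting with `u`
  have hfour : ∀ v ∈ C, v * v = 1 → v = 1 ∨ v = z ∨ v = u ∨ v = z * u := by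
    intro v hv hv2
    by_contra hne
    push Not at hne
    obtain ⟨hv1, hvz, hvu, hvzu⟩ := hne
    have hgen : ∀ a ∈ (Z : Set X) ∪ {u, v}, ∀ b ∈ (Z : Set X) ∪ {u, v}, a * b = b * a := by
      intro a ha b hb
      rcases ha with ha | ha
      · exact (Subgroup.mem_center_iff.mp ha b).symm
      rcases hb with hb | hb
      · exact Subgroup.mem_center_iff.mp hb a
      have e := (hmemC v).mp hv
      rcases ha with rfl | rfl <;> rcases hb with rfl | rfl <;> first | rfl | exact e | exact e.symm
    set E := Subgroup.closure ((Z : Set X) ∪ {u, v}) with hE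
    haveI : IsMulCommutative E := Subgroup.isMulCommutative_closure hgen
    have hZE : Z ≤ E := fun a ha => Subgroup.subset_closure (Or.inl ha)
    haveI : E.Normal := ⟨fun m hm g => by
      rw [show g * m * g⁻¹ = ⁅g, m⁆ * m by rw [commutatorElement_def]; group]
      exact mul_mem (hZE (hcZ g m)) hm⟩
    have hEsq : ∀ a ∈ E, a * a = 1 := by
      intro a ha
      induction ha using Subgroup.closure_induction with
      | mem a ha =>
        rcases ha with ha | rfl | rfl
        · exact hexp a ha
        · exact hu2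
        · exact hv2
      | one => rw [one_mul]
      | mul a b hma hmb ha hb =>
        rw [mul_assoc, ← mul_assoc b, setLike_mul_comm hmb hma, mul_assoc a b, hb, mul_one, ha]
      | inv a _ ha => rw [← mul_inv_rev, ha, inv_one]
    have h4 := OddAutTwo.card_le_four hX hscn E hEsq
    have huE : u ∈ E := Subgroup.subset_closure (Or.inr (Or.inl rfl))
    have hvE : v ∈ E := Subgroup.subset_closure (Or.inr (Or.inr rfl))
    haveI : CommGroup E := { (inferInstance : Group E) with mul_comm := fun a b => Subtype.ext (setLike_mul_comm a.2 b.2) }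
    have h5 : ({1, z, u, z * u, v} : Finset X).card = 5 := by
      have e1 : z * u ≠ 1 := fun e => huZ (by rw [eq_inv_of_mul_eq_one_right e]; exact inv_mem hzZ)
      have e2 : z * u ≠ z := fun e => hu1 (mul_eq_left.mp e)
      have e3 : z * u ≠ u := fun e => hz1 (mul_eq_right.mp e)
      rw [Finset.card_insert_of_notMem, Finset.card_insert_of_notMem, Finset.card_insert_of_notMem,
        Finset.card_insert_of_notMem, Finset.card_singleton] <;>
        simp [hz1, Ne.symm hz1, hzu, hu1, Ne.symm hu1, Ne.symm e1, Ne.symm e2, Ne.symm e3, Ne.symm hv1,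
          Ne.symm hvz, Ne.symm hvu, Ne.symm hvzu]
    have h6 : ({1, z, u, z * u, v} : Finset X).card ≤ (Finset.univ.filter (· ∈ E)).card := by
      refine Finset.card_le_card fun a ha => Finset.mem_filter.mpr ⟨Finset.mem_univ _, ?_⟩
      simp only [Finset.mem_insert, Finset.mem_singleton] at ha
      rcases ha with rfl | rfl | rfl | rfl | rfl
      · exact one_mem _
      · exact hZE hzZ
      · exact huE
      · exact mul_mem (hZE hzZ) huE
      · exact hvE
    rw [h5, ← Fintype.card_subtype] at h6
    rw [Nat.card_eq_fintype_card] at h4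
    omega
  -- counting
  let Sol : Finset X := Finset.univ.filter fun v => v * v = 1
  have hin : Sol.filter (· ∈ C) = {1, z, u, z * u} := by
    ext v
    simp only [Sol, Finset.mem_filter, Finset.mem_univ, true_and, Finset.mem_insert, Finset.mem_singleton]
    refine ⟨fun h => hfour v h.2 h.1, fun h => ?_⟩
    have hzc : z * u = u * z := (Subgroup.mem_center_iff.mp hzZ u).symm
    rcases h with rfl | rfl | rfl | rfl
    · exact ⟨mul_one 1, one_mem _⟩
    · exact ⟨hexp _ hzZ, (hmemC _).mpr hzc⟩
    · exact ⟨hu2, (hmemC _).mpr rfl⟩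
    · refine ⟨?_, (hmemC _).mpr ?_⟩
      · rw [mul_assoc, ← mul_assoc u, ← hzc, mul_assoc z u u, ← mul_assoc, hexp z hzZ, one_mul, hu2]
      · rw [mul_assoc, ← mul_assoc u, ← hzc, mul_assoc]
  have hin4 : (Sol.filter (· ∈ C)).card = 4 := by
    have e1 : z * u ≠ 1 := fun e => huZ (by rw [eq_inv_of_mul_eq_one_right e]; exact inv_mem hzZ)
    have e2 : z * u ≠ z := fun e => hu1 (mul_eq_left.mp e)
    have e3 : z * u ≠ u := fun e => hz1 (mul_eq_right.mp e)
    rw [hin, Finset.card_insert_of_notMem, Finset.card_insert_of_notMem, Finset.card_insert_of_notMem,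
      Finset.card_singleton] <;>
      simp [hz1, Ne.symm hz1, hzu, hu1, Ne.symm hu1, Ne.symm e1, Ne.symm e2, Ne.symm e3]
  have hX32 : Nat.card X = 32 := by
    have h1 : Nat.card {h : C // (h : X) * h = 1} ≤ 4 := by
      rw [← hin4, Nat.card_eq_fintype_card, Fintype.card_subtype]
      refine Finset.card_le_card_of_injOn (fun h : C => (h : X)) (fun h hh => ?_)
        (Set.injOn_of_injective Subtype.val_injective)
      simp only [Finset.coe_filter, Finset.mem_univ, true_and, Set.mem_setOf_eq] at hh
      simp [Sol, hh]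
    have h2 := hbound C
    have h3 := C.card_mul_index
    rw [hCidx] at h3
    omega
  refine ⟨hX32, ?_⟩
  -- outside `C`, right translation by `u` exchanges squares `1` and `z`
  have hflip : ∀ y : X, y ∉ C → y * u * (y * u) = y * y * z := by
    intro y hy
    have hc : ⁅u, y⁆ = z := by
      rcases huniq _ (hcZ u y) with h | h
      · exact absurd ((hmemC y).mpr (commutatorElement_eq_one_iff_mul_comm.mp h).symm) hy
      · exact h
    rw [show y * u * (y * u) = y * ⁅u, y⁆ * y * (u * u) by rw [commutatorElement_def]; group, hc, hu2, mul_one,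
      Subgroup.mem_center_iff.mp hzZ y, mul_assoc, ← Subgroup.mem_center_iff.mp hzZ (y * y)]
  have hout : ∀ y : X, y ∉ C → y * u ∉ C := fun y hy h => hy (by
    have := mul_mem h ((hmemC u).mpr rfl)
    rwa [mul_assoc, hu2, mul_one] at this)
  let P : Finset X := Finset.univ.filter (· ∉ C)
  have hP : P.card = 16 := by
    have h3 := C.card_mul_index
    rw [hCidx, hX32] at h3
    show (Finset.univ.filter fun y => ¬ y ∈ C).card = 16
    rw [Finset.filter_not, Finset.card_sdiff_of_subset (Finset.filter_subset _ _), Finset.card_univ,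
      ← Nat.card_eq_fintype_card, hX32, ← Fintype.card_subtype, ← Nat.card_eq_fintype_card]
    omega
  have hsplit : (P.filter fun y => y * y = 1).card + (P.filter fun y => ¬ y * y = 1).card = 16 := by
    rw [Finset.card_filter_add_card_filter_not, hP]
  have heq : (P.filter fun y => y * y = 1).card = (P.filter fun y => ¬ y * y = 1).card := by
    refine Finset.card_bij' (fun y _ => y * u) (fun y _ => y * u) ?_ ?_ ?_ ?_
    · intro y hy
      simp only [P, Finset.mem_filter, Finset.mem_univ, true_and] at hy ⊢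
      exact ⟨hout y hy.1, by rw [hflip y hy.1, hy.2, one_mul]; exact hz1⟩
    · intro y hy
      simp only [P, Finset.mem_filter, Finset.mem_univ, true_and] at hy ⊢
      refine ⟨hout y hy.1, ?_⟩
      rw [hflip y hy.1, (huniq _ (hsqZ y)).resolve_left hy.2, hexp z hzZ]
    · intro y _; rw [mul_assoc, hu2, mul_one]
    · intro y _; rw [mul_assoc, hu2, mul_one]
  have hSol : Sol.card = 12 := by
    rw [← Finset.card_filter_add_card_filter_not (s := Sol) (· ∈ C), hin4,
      show Sol.filter (fun y => ¬ y ∈ C) = P.filter fun y => y * y = 1 by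
        ext y; simp [Sol, P, and_comm]]
    omega
  have hset : (Finset.univ.filter fun x : X => orderOf x = 2) = Sol.erase 1 := by
    ext x
    simp only [Sol, Finset.mem_filter, Finset.mem_univ, true_and, Finset.mem_erase]
    rw [orderOf_eq_prime_iff, pow_two, and_comm]
  rw [Nat.card_eq_fintype_card, Fintype.card_subtype, hset, Finset.card_erase_of_mem, hSol]
  simp [Sol]

/-- Let X be a finite nonabelian 2-group with no normal abelian subgroup that is self-centralizing and contains an elementary abelian subgroup of order 8. Suppose a group A of automorphisms of X of odd order satisfies [X, A] = X. Then X is the quaternion group of order 8, or X is special of order 64 with exactly three involutions, all central, or X is extraspecial of order 32 with exactly eleven involutions (the central product of a quaternion group and a dihedral group of order 8). -/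
theorem result {X : Type*} [Group X] [Finite X] (hX : IsPGroup 2 X) (hna : ¬ IsMulCommutative X)
    (hscn : ¬ ∃ A : Subgroup X, A.Normal ∧ Subgroup.centralizer (A : Set X) = A ∧
      ∃ E : Subgroup X, E ≤ A ∧ Cfsg.IsElementaryAbelian 2 E ∧ Nat.card E = 8)
    (A : Subgroup (MulAut X)) (hA : Odd (Nat.card A))
    (hXA : Subgroup.closure {g : X | ∃ φ ∈ A, ∃ x : X, g = x⁻¹ * φ x} = ⊤) :
    Nonempty (X ≃* QuaternionGroup 2) ∨
      (Cfsg.IsSpecial 2 X ∧ Nat.card X = 64 ∧ Nat.card {x : X // orderOf x = 2} = 3 ∧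
        ∀ x : X, orderOf x = 2 → x ∈ Subgroup.center X) ∨
      (Cfsg.IsExtraspecial 2 X ∧ Nat.card X = 32 ∧ Nat.card {x : X // orderOf x = 2} = 11) := by
  classical
  haveI : Fact (Nat.Prime 2) := ⟨Nat.prime_two⟩
  have hXA' : Subgroup.closure {g : X | ∃ x : X, ∃ a ∈ A, g = x⁻¹ * a x} = ⊤ := by
    rw [← hXA]; congr 1; ext g
    exact ⟨fun ⟨x, a, ha, h⟩ => ⟨a, ha, x, h⟩, fun ⟨a, ha, x, h⟩ => ⟨x, a, ha, h⟩⟩
  obtain ⟨hsp, hexp⟩ := OddAutTwo.isSpecial_of_no_scn hX hna hA hXA' hscn
  obtain ⟨k, hk⟩ := PGroup.exists_subgroup_card_eq_pow hX (Subgroup.center X)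
  have h4 := OddAutTwo.card_le_four hX hscn _ hexp
  have hk2 : k ≤ 2 := by
    by_contra h
    rw [hk] at h4
    exact absurd (Nat.pow_le_pow_right two_pos (show 3 ≤ k by omega)) (by omega)
  interval_cases k
  · exfalso
    have h0 : _root_.commutator X = ⊥ := by
      rw [hsp.2.2]; exact Subgroup.eq_bot_of_card_eq _ (by rw [hk]; rfl)
    refine hna ⟨⟨fun a b => ?_⟩⟩
    rw [← commutatorElement_eq_one_iff_mul_comm, ← Subgroup.mem_bot, ← h0]
    exact Subgroup.commutator_mem_commutator (Subgroup.mem_top a) (Subgroup.mem_top b)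
  · have hex : Cfsg.IsExtraspecial 2 X := ⟨hsp, by rw [hk]; rfl⟩
    rcases count_of_center_two hX hscn hex with h8 | h32
    · left
      refine S4189.result hX hna ?_ ?_
      · have h1 := (_root_.commutator X).card_mul_index
        rw [hsp.2.2, hk, h8] at h1
        rw [hsp.2.2]; omega
      · intro hP
        have hbot : A = ⊥ := (Subgroup.eq_bot_iff_forall A).mpr fun φ hφ => by
          obtain ⟨j, hj⟩ := hP φ
          have hc := (OddAutTwo.coprime_orderOf hA hφ).pow_right j
          exact orderOf_eq_one_iff.mp (hc.eq_one_of_dvd (orderOf_dvd_of_pow_eq_one hj))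
        have htb : (⊤ : Subgroup X) = ⊥ := by
          rw [← hXA, Subgroup.closure_eq_bot_iff]
          rintro g ⟨φ, hφ, x, rfl⟩
          rw [hbot, Subgroup.mem_bot] at hφ
          simp [hφ]
        exact hna ⟨⟨fun a b => by
          rw [Subgroup.mem_bot.mp (htb.le (Subgroup.mem_top a)), one_mul, mul_one]⟩⟩
    · exact Or.inr (Or.inr ⟨hex, h32⟩)
  · exact Or.inr (Or.inl ⟨hsp, OddAutTwo.card_of_center_four hX hA hXA' hscn hsp hexp (by rw [hk]; rfl)⟩)

end Cfsg.Agent.S1904
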