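import Cfsg.Statements.S1905
import Cfsg.Agent.Lib.Involution.StronglyEmbedded

set_option autoImplicit false
open Cfsg

namespace Cfsg.Agent.S1905

/-- Let M be a subgroup of even order of a finite group S such that M contains the centralizer in S of each of its involutions and the normal core of M in S has odd order. Then all involutions of S are conjugate. If moreover N_S(X) ≤ M for a Sylow 2-subgroup X of M and I is an involution in the centre of X, then all involutions of M are conjugate in M and M = M₀ C_M(I) for some subgroup M₀ of M of odd order. -/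
theorem result {S : Type*} [Group S] [Finite S] (M : Subgroup S) (hM : Even (Nat.card M))
    (hC : ∀ i ∈ M, orderOf i = 2 → Subgroup.centralizer ({i} : Set S) ≤ M) (hcore : Odd (Nat.card M.normalCore)) :
    (∀ x y : S, orderOf x = 2 → orderOf y = 2 → IsConj x y) ∧
      ∀ (X : Sylow 2 M) (I : M), I ∈ (Subgroup.center ↥(X : Subgroup ↥M)).map (X : Subgroup ↥M).subtype → orderOf I = 2 →
        Subgroup.normalizer (((X : Subgroup M).map M.subtype : Subgroup S) : Set S) ≤ M →
        (∀ x y : M, orderOf x = 2 → orderOf y = 2 → IsConj x y) ∧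
          ∃ M₀ : Subgroup M, Odd (Nat.card M₀) ∧
            ∀ m : M, ∃ a ∈ M₀, ∃ c ∈ Subgroup.centralizer ({I} : Set M), m = a * c := by
  classical
  haveI : Fact (Nat.Prime 2) := ⟨Nat.prime_two⟩
  obtain ⟨t₀, ht₀M, ht₀⟩ := Involution.exists_involution_mem hM
  -- an involution outside M
  have hout : ∃ y : S, orderOf y = 2 ∧ y ∉ M := by
    by_contra hcon
    push Not at hcon
    have hmem : t₀ ∈ M.normalCore := fun g => hcon _ (by rw [Involution.orderOf_conj, ht₀])
    have h2 : 2 ∣ Nat.card M.normalCore := ht₀ ▸ Subgroup.orderOf_dvd_natCard _ hmem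
    exact (Nat.not_even_iff_odd.mpr hcore) (even_iff_two_dvd.mpr h2)
  have hodd : ∀ x y : S, orderOf x = 2 → x ∈ M → orderOf y = 2 → y ∉ M → Odd (orderOf (x * y)) := by
    intro x y hx hxM hy hyM
    by_contra he
    obtain ⟨z, hz, hzx, hzy, -⟩ := Involution.exists_commuting_involution hx hy (Nat.not_odd_iff_even.mp he)
    have hzM : z ∈ M := hC x hxM hx (Subgroup.mem_centralizer_singleton_iff.mpr hzx.eq)
    exact hyM (hC z hzM hz (Subgroup.mem_centralizer_singleton_iff.mpr hzy.symm.eq))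
  obtain ⟨y₀, hy₀, hy₀M⟩ := hout
  refine ⟨fun x y hx hy => ?_, fun X I _ hI hNX => ?_⟩
  · have base : ∀ v, orderOf v = 2 → v ∈ M → IsConj v y₀ := fun v hv hvM =>
      Involution.isConj_of_odd hv hy₀ (hodd v y₀ hv hvM hy₀ hy₀M)
    have all : ∀ v, orderOf v = 2 → IsConj v y₀ := fun v hv => by
      by_cases hvM : v ∈ M
      · exact base v hv hvM
      · exact (Involution.isConj_of_odd ht₀ hv (hodd t₀ v ht₀ ht₀M hv hvM)).symm.trans (base t₀ ht₀ ht₀M)
    exact (all x hx).trans (all y hy).symm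
  -- M is strongly embedded
  have hne : M ≠ ⊤ := fun h => hy₀M (h ▸ Subgroup.mem_top _)
  have hSE : Cfsg.IsStronglyEmbedded M := by
    refine Involution.isStronglyEmbedded_iff_forall.2 ⟨hne, hM, fun g t ht htM hg => ?_⟩
    have hp : IsPGroup 2 (Subgroup.zpowers t) := IsPGroup.of_card (n := 1) (by rw [Nat.card_zpowers, ht, pow_one])
    obtain ⟨Q, hQ⟩ := hp.exists_le_sylow
    have htQ : t ∈ Q := hQ (Subgroup.mem_zpowers t)
    have hQM : (Q : Subgroup S) ≤ M := Involution.two_group_le_of_centralizer_le hC Q.isPGroup' ht htQ htM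
    have htgQ : g * t * g⁻¹ ∈ ((g • Q : Sylow 2 S) : Subgroup S) :=
      Subgroup.smul_mem_pointwise_smul _ (MulAut.conj g) _ htQ
    have hgQM : ((g • Q : Sylow 2 S) : Subgroup S) ≤ M :=
      Involution.two_group_le_of_centralizer_le hC (g • Q).isPGroup' (by rw [Involution.orderOf_conj, ht]) htgQ hg
    obtain ⟨a, ha⟩ := MulAction.exists_smul_eq M X (Q.subtype hQM)
    obtain ⟨b, hb⟩ := MulAction.exists_smul_eq M X ((g • Q).subtype hgQM)
    have conjmap : ∀ (c : M) (R : Sylow 2 S) (hR : (R : Subgroup S) ≤ M), c • X = R.subtype hR →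
        (R : Subgroup S) = ((X : Subgroup M).map M.subtype).map (MulAut.conj (c : S)).toMonoidHom := by
      intro c R hR h
      ext s
      constructor
      · intro hs
        have hs' : (⟨s, hR hs⟩ : M) ∈ ((c • X : Sylow 2 M) : Subgroup M) := by rw [h]; exact hs
        obtain ⟨q, hq, hqs⟩ := hs'
        exact ⟨q, ⟨q, hq, rfl⟩, congrArg Subtype.val hqs⟩
      · rintro ⟨_, ⟨q, hq, rfl⟩, rfl⟩
        have hm : c * q * c⁻¹ ∈ ((c • X : Sylow 2 M) : Subgroup M) := ⟨q, hq, rfl⟩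
        rw [h] at hm
        exact hm
    have h1 := conjmap a Q hQM ha
    have h2 := conjmap b (g • Q) hgQM hb
    set X' := (X : Subgroup M).map M.subtype
    have h3 : (b : S)⁻¹ * g * a ∈ Subgroup.normalizer (X' : Set S) := by
      have h4 : X'.map (MulAut.conj (g * a)).toMonoidHom = X'.map (MulAut.conj (b : S)).toMonoidHom := by
        rw [← h2, Sylow.coe_subgroup_smul, h1]
        ext z
        constructor
        · rintro ⟨x, hx, rfl⟩
          exact ⟨_, ⟨x, hx, rfl⟩, by simp [mul_assoc]⟩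
        · rintro ⟨_, ⟨x, hx, rfl⟩, rfl⟩
          exact ⟨x, hx, by simp [mul_assoc]⟩
      rw [Subgroup.mem_normalizer_iff]
      intro x
      constructor
      · intro hx
        obtain ⟨z, hz, hze⟩ := (h4 ▸ Subgroup.mem_map_of_mem _ hx : (MulAut.conj (g * a)) x ∈ X'.map (MulAut.conj (b : S)).toMonoidHom)
        simp only [MulEquiv.coe_toMonoidHom, MulAut.conj_apply] at hze
        have e : (b : S)⁻¹ * g * a * x * ((b : S)⁻¹ * g * a)⁻¹ = z := by
          calc (b : S)⁻¹ * g * a * x * ((b : S)⁻¹ * g * a)⁻¹ = (b : S)⁻¹ * (g * a * x * (g * (a : S))⁻¹) * b := by group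
            _ = z := by rw [← hze]; group
        rw [e]; exact hz
      · intro hx
        obtain ⟨z, hz, hze⟩ := (h4.symm ▸ Subgroup.mem_map_of_mem _ hx :
          (MulAut.conj (b : S)) ((b : S)⁻¹ * g * a * x * ((b : S)⁻¹ * g * a)⁻¹) ∈ X'.map (MulAut.conj (g * a)).toMonoidHom)
        simp only [MulEquiv.coe_toMonoidHom, MulAut.conj_apply] at hze
        have e : x = z := by
          apply mul_left_cancel (a := g * (a : S))
          apply mul_right_cancel (b := (g * (a : S))⁻¹)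
          rw [hze]; group
        rw [e]; exact hz
    have := mul_mem (mul_mem b.2 (hNX h3)) (inv_mem a.2)
    simpa [mul_assoc] using this
  -- the odd subgroup inverted by the outside involution
  set D := M ⊓ M.map (MulAut.conj y₀).toMonoidHom with hD
  have hDodd : Odd (Nat.card D) := hSE.2.2 y₀ hy₀M
  set x₀ : S ⧸ M := QuotientGroup.mk (1 : S) with hx₀
  have hyx : x₀ ≠ y₀ • x₀ := by
    rw [hx₀, MulAction.Quotient.smul_mk, Ne, QuotientGroup.eq]
    simpa using hy₀M
  have hJ := Involution.card_swapping hSE hyx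
  have hinj : ∀ i : {i : S // orderOf i = 2 ∧ i • x₀ = y₀ • x₀},
      y₀ * i.1 ∈ D ∧ orderOf ((y₀ * i.1) * (I : S) * (y₀ * i.1)⁻¹) = 2 := by
    rintro ⟨i, hi, hix⟩
    rw [hx₀, MulAction.Quotient.smul_mk, MulAction.Quotient.smul_mk, QuotientGroup.eq] at hix
    simp only [smul_eq_mul, mul_one, Involution.inv_eq hi] at hix
    have hji : y₀ * i ∈ M := by
      have := inv_mem hix
      rwa [mul_inv_rev, Involution.inv_eq hy₀, Involution.inv_eq hi] at this
    refine ⟨Subgroup.mem_inf.mpr ⟨hji, i * y₀, hix, ?_⟩, by rw [Involution.orderOf_conj, ← hI, Subgroup.orderOf_coe]⟩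
    show y₀ * (i * y₀) * y₀⁻¹ = y₀ * i
    rw [← mul_assoc, mul_inv_cancel_right]
  have hI' : orderOf (I : S) = 2 := by rw [Subgroup.orderOf_coe, hI]
  let φ : {i : S // orderOf i = 2 ∧ i • x₀ = y₀ • x₀} → {t : S // orderOf t = 2 ∧ t ∈ M} := fun i =>
    ⟨(y₀ * i.1) * (I : S) * (y₀ * i.1)⁻¹, (hinj i).2, mul_mem (mul_mem (hinj i).1.1 I.2) (inv_mem (hinj i).1.1)⟩
  have hφ : Function.Injective φ := by
    intro i₁ i₂ h
    replace h : (y₀ * i₁.1) * (I : S) * (y₀ * i₁.1)⁻¹ = (y₀ * i₂.1) * (I : S) * (y₀ * i₂.1)⁻¹ := congrArg Subtype.val h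
    obtain ⟨e, he⟩ : ∃ e, e = i₂.1 * i₁.1 := ⟨_, rfl⟩
    have heD : e ∈ D := by
      have := mul_mem (inv_mem (hinj i₂).1) (hinj i₁).1
      rwa [mul_inv_rev, mul_assoc, inv_mul_cancel_left, Involution.inv_eq i₂.2.1, ← he] at this
    have hi₂M : i₂.1 ∉ M := fun hiM => by
      refine hy₀M ?_
      have := M.mul_mem (hinj i₂).1.1 (M.inv_mem hiM)
      simpa using this
    have heI : Commute e (I : S) := by
      show e * (I : S) = I * e
      rw [he]
      calc i₂.1 * i₁.1 * (I : S) = i₂.1 * y₀⁻¹ * ((y₀ * i₁.1) * I * (y₀ * i₁.1)⁻¹) * (y₀ * i₁.1) := by group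
        _ = i₂.1 * y₀⁻¹ * ((y₀ * i₂.1) * I * (y₀ * i₂.1)⁻¹) * (y₀ * i₁.1) := by rw [h]
        _ = (i₂.1 * i₂.1) * I * (i₂.1⁻¹ * i₁.1) := by group
        _ = I * (i₂.1 * i₁.1) := by rw [Involution.mul_self i₂.2.1, one_mul, Involution.inv_eq i₂.2.1]
    have hinv : i₂.1 * e * i₂.1⁻¹ = e⁻¹ := by
      rw [he, ← mul_assoc, Involution.mul_self i₂.2.1, one_mul, Involution.inv_eq i₂.2.1, mul_inv_rev,
        Involution.inv_eq i₂.2.1, Involution.inv_eq i₁.2.1]
    obtain ⟨d, hd, hdI⟩ := Involution.exists_conj_of_odd hI' i₂.2.1 (hodd _ _ hI' I.2 i₂.2.1 hi₂M)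
    have hd' : d * e * d⁻¹ = e ∨ d * e * d⁻¹ = e⁻¹ := by
      clear hdI
      induction hd using Subgroup.closure_induction with
      | mem z hz =>
        rcases hz with rfl | rfl
        · exact Or.inl (by rw [heI.symm.eq, mul_inv_cancel_right])
        · exact Or.inr hinv
      | one => simp
      | mul a b _ _ ha hb =>
        rw [show a * b * e * (a * b)⁻¹ = a * (b * e * b⁻¹) * a⁻¹ by group]
        rcases hb with hb | hb <;> rw [hb]
        · exact ha
        · rw [← conj_inv]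
          rcases ha with ha | ha <;> rw [ha] <;> simp
      | inv a _ ha =>
        rcases ha with ha | ha
        · left
          calc a⁻¹ * e * a⁻¹⁻¹ = a⁻¹ * (a * e * a⁻¹) * a⁻¹⁻¹ := by rw [ha]
            _ = e := by group
        · right
          have h2 : a * e⁻¹ * a⁻¹ = e := by rw [← conj_inv, ha, inv_inv]
          calc a⁻¹ * e * a⁻¹⁻¹ = a⁻¹ * (a * e⁻¹ * a⁻¹) * a⁻¹⁻¹ := by rw [h2]
            _ = e⁻¹ := by group
    have hfix : i₂.1 * e * i₂.1⁻¹ = e := by
      rw [← hdI]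
      rcases hd' with h1 | h1
      · calc d * (I : S) * d⁻¹ * e * (d * (I : S) * d⁻¹)⁻¹ = d * (I * (d⁻¹ * (d * e * d⁻¹) * d) * (I : S)⁻¹) * d⁻¹ := by
              rw [h1]; group
          _ = d * (I * e * (I : S)⁻¹) * d⁻¹ := by group
          _ = e := by rw [heI.symm.eq, mul_inv_cancel_right, h1]
      · have h2 : d * e⁻¹ * d⁻¹ = e := by rw [← conj_inv, h1, inv_inv]
        calc d * (I : S) * d⁻¹ * e * (d * (I : S) * d⁻¹)⁻¹
            = d * (I * (d⁻¹ * (d * e⁻¹ * d⁻¹) * d) * (I : S)⁻¹) * d⁻¹ := by rw [h2]; group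
          _ = d * (I * e⁻¹ * (I : S)⁻¹) * d⁻¹ := by group
          _ = e := by rw [heI.symm.inv_right.eq, mul_inv_cancel_right, h2]
    have he1 : e = 1 := by
      have hsq : e ^ 2 = 1 := by
        rw [pow_two]
        nth_rw 2 [show e = e⁻¹ from hfix.symm.trans hinv]
        exact mul_inv_cancel e
      have ho : Odd (orderOf e) := hDodd.of_dvd_nat (Subgroup.orderOf_dvd_natCard _ heD)
      exact orderOf_eq_one_iff.mp (Nat.eq_one_of_dvd_coprimes (Nat.coprime_two_left.mpr ho)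
        (orderOf_dvd_of_pow_eq_one hsq) dvd_rfl)
    rw [he, ← Involution.inv_eq i₂.2.1, inv_mul_eq_one] at he1
    exact Subtype.ext he1.symm
  have hsurj : Function.Surjective φ :=
    (hφ.bijective_of_nat_card_le hJ.ge).2
  refine ⟨?_, D.subgroupOf M, ?_, fun m => ?_⟩
  · have hconj : ∀ t : M, orderOf t = 2 → IsConj I t := by
      intro t ht
      obtain ⟨i, hi⟩ := hsurj ⟨t, by rw [Subgroup.orderOf_coe, ht], t.2⟩
      exact isConj_iff.mpr ⟨⟨y₀ * i.1, (hinj i).1.1⟩, Subtype.ext (show (y₀ * i.1) * (I : S) * (y₀ * i.1)⁻¹ = (t : S) from congrArg Subtype.val hi)⟩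
    exact fun x y hx hy => (hconj x hx).symm.trans (hconj y hy)
  · rwa [Nat.card_congr (Subgroup.subgroupOfEquivOfLe inf_le_left).toEquiv]
  · obtain ⟨i, hi⟩ := hsurj ⟨(m : S) * I * (m : S)⁻¹, by rw [Involution.orderOf_conj, hI'],
      mul_mem (mul_mem m.2 I.2) (inv_mem m.2)⟩
    replace hi : (y₀ * i.1) * (I : S) * (y₀ * i.1)⁻¹ = (m : S) * I * (m : S)⁻¹ := congrArg Subtype.val hi
    set a : M := ⟨y₀ * i.1, (hinj i).1.1⟩
    refine ⟨a, (hinj i).1, a⁻¹ * m, ?_, (mul_inv_cancel_left a m).symm⟩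
    rw [Subgroup.mem_centralizer_singleton_iff]
    refine Subtype.ext ?_
    show (y₀ * i.1)⁻¹ * (m : S) * I = I * ((y₀ * i.1)⁻¹ * m)
    calc (y₀ * i.1)⁻¹ * (m : S) * I = (y₀ * i.1)⁻¹ * ((m : S) * I * (m : S)⁻¹) * m := by group
      _ = (y₀ * i.1)⁻¹ * ((y₀ * i.1) * (I : S) * (y₀ * i.1)⁻¹) * m := by rw [hi]
      _ = I * ((y₀ * i.1)⁻¹ * m) := by group

end Cfsg.Agent.S1905
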