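import Cfsg.Statements.S1906
import Cfsg.Agent.EqLemmas
import Cfsg.Agent.Lib.TwoTransfer.CenterInvolution
import Cfsg.Agent.Lib.TwoFusion.Transfer
import Cfsg.Agent.Lib.PGroup.Basic
import Cfsg.Agent.Lib.PGroup.Critical

set_option autoImplicit false
open Cfsg
open scoped Matrix commutatorElement

namespace Cfsg.Agent.S1906

variable {F : Type*} [Field F] {X : Type*} [Group X]

/-- A sign pattern as a diagonal matrix. -/
def sgn (F : Type*) [Field F] (s : Fin 3 → Bool) : Matrix (Fin 3) (Fin 3) F :=
  Matrix.diagonal fun i => if s i then -1 else 1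

/-- Commuting involutions have a basis of common eigenvectors. -/
theorem exists_diag (h2 : (2 : F) ≠ 0) (Φ : X →* Matrix (Fin 3) (Fin 3) F) (hΦ : Function.Injective Φ)
    (E : Subgroup X) [Finite E] (hE : Cfsg.IsElementaryAbelian 2 E) (hE8 : Nat.card E = 8) :
    ∃ Ψ : X →* Matrix (Fin 3) (Fin 3) F, Function.Injective Ψ ∧
      ∀ s, ∃ e ∈ E, Ψ e = sgn F s := by
  classical
  haveI := Fintype.ofFinite E
  let L : X →* Module.End F (Fin 3 → F) :=
    (Matrix.toLinAlgEquiv' : Matrix (Fin 3) (Fin 3) F ≃ₐ[F] _).toMonoidHom.comp Φ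
  have hcomm : ∀ e e' : E, L e * L e' = L e' * L e := fun e e' => by
    rw [← map_mul, ← map_mul]
    exact congrArg L (congrArg Subtype.val (hE.1.is_comm.comm e e'))
  have hsq : ∀ e : E, L e * L e = 1 := fun e => by
    rw [← map_mul, ← pow_two, hE.2 e e.2, map_one]
  have key : ∀ (T : Finset E) (v : Fin 3 → F),
      v ∈ Submodule.span F {w | ∀ e ∈ T, L e w = w ∨ L e w = -w} := by
    intro T
    induction T using Finset.induction_on with
    | empty => intro v; exact Submodule.subset_span (by simp)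
    | @insert e T he ih =>
      intro v
      refine Submodule.span_le.mpr ?_ (ih v)
      intro w hw
      have hhalf : w = (2 : F)⁻¹ • (w + L e w) + (2 : F)⁻¹ • (w - L e w) := by
        rw [← smul_add, add_add_sub_cancel, ← two_smul F w, smul_smul, inv_mul_cancel₀ h2, one_smul]
      have hinv : L e (L e w) = w := by rw [← Module.End.mul_apply, hsq, Module.End.one_apply]
      have hkeep : ∀ e' ∈ T, L e' (L e w) = L e w ∨ L e' (L e w) = -L e w := fun e' he' => by
        rw [← Module.End.mul_apply, hcomm, Module.End.mul_apply]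
        rcases hw e' he' with h | h <;> rw [h]
        · exact Or.inl rfl
        · exact Or.inr (map_neg _ _)
      rw [SetLike.mem_coe, hhalf]
      refine add_mem (Submodule.smul_mem _ _ (Submodule.subset_span ?_))
        (Submodule.smul_mem _ _ (Submodule.subset_span ?_)) <;>
        intro e' he' <;> rcases Finset.mem_insert.mp he' with rfl | he'
      · left; rw [map_add, hinv, add_comm]
      · rcases hw e' he' with h | h
        · left
          rw [map_add, ← Module.End.mul_apply, hcomm, Module.End.mul_apply, h]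
        · right
          rw [map_add, ← Module.End.mul_apply, hcomm, Module.End.mul_apply, h, map_neg]
          abel
      · right; rw [map_sub, hinv, neg_sub]
      · rcases hw e' he' with h | h
        · left
          rw [map_sub, ← Module.End.mul_apply, hcomm, Module.End.mul_apply, h]
        · right
          rw [map_sub, ← Module.End.mul_apply, hcomm, Module.End.mul_apply, h, map_neg]
          abel
  set S : Set (Fin 3 → F) := {w | ∀ e ∈ (Finset.univ : Finset E), L e w = w ∨ L e w = -w} with hS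
  let b0 := Module.Basis.ofSpan (K := F) (s := S) (fun v _ => key Finset.univ v)
  haveI := Fintype.ofFinite (LinearIndepOn.extend (linearIndepOn_empty F id) (Set.empty_subset S))
  let b := b0.reindex (b0.indexEquiv (Pi.basisFun F (Fin 3)))
  have hb : ∀ j, b j ∈ S := by
    intro j
    simp only [b, Module.Basis.reindex_apply]
    exact Module.Basis.ofSpan_subset (fun v _ => key Finset.univ v) ⟨_, rfl⟩
  let Ψ : X →* Matrix (Fin 3) (Fin 3) F := (LinearMap.toMatrixAlgEquiv b).toMonoidHom.comp L
  have hΨ : Function.Injective Ψ :=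
    (LinearMap.toMatrixAlgEquiv b).injective.comp (Matrix.toLinAlgEquiv'.injective.comp hΦ)
  refine ⟨Ψ, hΨ, ?_⟩
  have hdiag : ∀ e : E, Ψ e = sgn F (fun j => decide (L e (b j) ≠ b j)) := by
    intro e
    ext i j
    show LinearMap.toMatrixAlgEquiv b (L e) i j = _
    rw [LinearMap.toMatrixAlgEquiv_apply, sgn, Matrix.diagonal_apply]
    rcases em (L e (b j) = b j) with h | h
    · rw [h, Module.Basis.repr_self, Finsupp.single_apply]
      by_cases hij : i = j
      · subst hij; simp [h]
      · rw [if_neg (Ne.symm hij), if_neg hij]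
    · have h' := (hb j e (Finset.mem_univ e)).resolve_left h
      rw [h', map_neg, Module.Basis.repr_self, Finsupp.neg_apply, Finsupp.single_apply]
      by_cases hij : i = j
      · subst hij; simp [h]
      · rw [if_neg (Ne.symm hij), if_neg hij, neg_zero]
  have hinj : Function.Injective fun e : E => fun j => decide (L e (b j) ≠ b j) := fun e e' h =>
    Subtype.ext (hΨ (by rw [hdiag e, hdiag e']; exact congrArg (sgn F) h))
  have hsurj := ((Fintype.bijective_iff_injective_and_card _).mpr ⟨hinj, by
    rw [← Nat.card_eq_fintype_card, hE8]; rfl⟩).2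
  intro s
  obtain ⟨e, he⟩ := hsurj s
  exact ⟨e, e.2, by rw [hdiag e]; exact congrArg (sgn F) he⟩

theorem sgn_apply_ne {s : Fin 3 → Bool} {i j : Fin 3} (h : i ≠ j) : sgn F s i j = 0 := by
  simp [sgn, Matrix.diagonal, h]

theorem sgn_mul_apply (s : Fin 3 → Bool) (M : Matrix (Fin 3) (Fin 3) F) (i j : Fin 3) :
    (sgn F s * M) i j = (if s i then -1 else 1) * M i j := Matrix.diagonal_mul _ _ _ _

theorem mul_sgn_apply (s : Fin 3 → Bool) (M : Matrix (Fin 3) (Fin 3) F) (i j : Fin 3) :
    (M * sgn F s) i j = M i j * (if s j then -1 else 1) := Matrix.mul_diagonal _ _ _ _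

theorem eq_zero_of_sgn_comm (h2 : (2 : F) ≠ 0) {s : Fin 3 → Bool} {M : Matrix (Fin 3) (Fin 3) F}
    (h : sgn F s * M = M * sgn F s) {i j : Fin 3} (hij : s i ≠ s j) : M i j = 0 := by
  have := congrArg (fun A => A i j) h
  simp only [sgn_mul_apply, mul_sgn_apply] at this
  cases hi : s i <;> cases hj : s j <;> simp [hi, hj] at this hij
  · have h3 : (2 : F) * M i j = 0 := by linear_combination this
    exact (mul_eq_zero.mp h3).resolve_left h2
  · have h3 : (2 : F) * M i j = 0 := by linear_combination -this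
    exact (mul_eq_zero.mp h3).resolve_left h2

theorem odd_one_out : ∀ (t : Fin 3 → Bool) (i : Fin 3), t i ≠ t 0 → ∃ i0, ∀ j, j ≠ i0 → t j ≠ t i0 := by
  decide

theorem four_cases : ∀ (t : Fin 3 → Bool) (i0 j k : Fin 3), j ≠ k → j ≠ i0 → k ≠ i0 → t j = t k →
    t = (fun _ => false) ∨ t = (fun i => decide (i = i0)) ∨ t = (fun i => decide (i ≠ i0)) ∨
      t = (fun _ => true) := by
  decide

/-- Let G be a finite group with no subgroup of index 2 whose Sylow 2-subgroup X embeds in GL₃(F) for a finite field F of odd order. If X contains an elementary abelian subgroup of order 8, then X is abelian. -/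
theorem result {G : Type*} [Group G] [Finite G] (hG : ∀ H : Subgroup G, H.index ≠ 2) (X : Sylow 2 G)
    {F : Type*} [Field F] [Fintype F] (hF : Odd (Fintype.card F))
    (f : ↥(X : Subgroup G) →* GL (Fin 3) F) (hf : Function.Injective f)
    (E : Subgroup G) (hE : E ≤ (X : Subgroup G)) (hEa : Cfsg.IsElementaryAbelian 2 E) (hE8 : Nat.card E = 8) :
    IsMulCommutative (X : Subgroup G) := by
  classical
  by_contra hna
  haveI : Fact (Nat.Prime 2) := ⟨Nat.prime_two⟩
  have h2 : (2 : F) ≠ 0 := by
    intro h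
    have hchar : ringChar F = 2 := CharP.ringChar_of_prime_eq_zero Nat.prime_two (by exact_mod_cast h)
    have := (FiniteField.even_card_iff_char_two (F := F)).mp hchar
    obtain ⟨k, hk⟩ := hF
    omega
  let P : Subgroup G := X
  have hP : IsPGroup 2 P := X.isPGroup'
  let E' := E.subgroupOf P
  have hE' : Cfsg.IsElementaryAbelian 2 E' := by
    refine ⟨⟨⟨fun a b => Subtype.ext (Subtype.ext ?_)⟩⟩, fun a ha => Subtype.ext ?_⟩
    · have := congrArg Subtype.val (hEa.1.is_comm.comm (⟨((a : P) : G), a.2⟩ : E) ⟨((b : P) : G), b.2⟩)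
      exact this
    · simpa using hEa.2 _ ha
  obtain ⟨Ψ, hΨ, hsgn⟩ := exists_diag h2 ((Units.coeHom _).comp f)
    (fun a b h => hf (Units.ext (by exact h))) E'
    hE' (by rw [Nat.card_congr (Subgroup.subgroupOfEquivOfLe hE).toEquiv, hE8])
  -- diagonal elements
  have hdiag : ∀ x : P, (∀ e ∈ E', x * e = e * x) → ∀ i j : Fin 3, i ≠ j → Ψ x i j = 0 := by
    intro x hx i j hij
    obtain ⟨e, he, hes⟩ := hsgn (fun k => decide (k = i))
    refine eq_zero_of_sgn_comm h2 (s := fun k => decide (k = i)) ?_ ?_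
    · rw [← hes, ← map_mul, ← map_mul, hx e he]
    · simp [Ne.symm hij]
  have hdet : ∀ x : P, (Ψ x).det ≠ 0 := fun x h => by
    have := congrArg Matrix.det (map_mul Ψ x x⁻¹)
    rw [mul_inv_cancel, map_one, Matrix.det_one, Matrix.det_mul, h, zero_mul] at this
    exact one_ne_zero this
  -- the scalar elements
  let S0 : Subgroup P :=
    { carrier := {x | ∃ r : F, Ψ x = Matrix.scalar (Fin 3) r}
      one_mem' := ⟨1, by rw [map_one, map_one]⟩
      mul_mem' := by
        rintro x y ⟨r, hr⟩ ⟨t, ht⟩
        exact ⟨r * t, by rw [map_mul, map_mul, hr, ht]⟩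
      inv_mem' := by
        rintro x ⟨r, hr⟩
        refine ⟨r⁻¹, ?_⟩
        have hr0 : r ≠ 0 := by
          rintro rfl
          exact hdet x (by rw [hr, map_zero, Matrix.det_zero])
        have h1 : Ψ x⁻¹ * Ψ x = 1 := by rw [← map_mul, inv_mul_cancel, map_one]
        calc Ψ x⁻¹ = Ψ x⁻¹ * (Ψ x * Matrix.scalar (Fin 3) r⁻¹) := by
              rw [hr, ← map_mul, mul_inv_cancel₀ hr0, map_one, mul_one]
          _ = _ := by rw [← mul_assoc, h1, one_mul] }
  have hscal : ∀ x ∈ S0, ∀ y : P, y * x = x * y := by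
    rintro x ⟨r, hr⟩ y
    refine hΨ ?_
    rw [map_mul, map_mul, hr]
    exact (Matrix.scalar_comm r (fun r' => Commute.all r r') (Ψ y)).symm
  haveI hS0n : S0.Normal := ⟨fun n hn g => by rwa [hscal n hn g, mul_inv_cancel_right]⟩
  haveI : Nontrivial (P ⧸ S0) := by
    by_contra hnt
    rw [not_nontrivial_iff_subsingleton] at hnt
    exact hna ⟨⟨fun a b => hscal b ((QuotientGroup.eq_one_iff b).mp (Subsingleton.elim _ _)) a⟩⟩
  haveI := (hP.to_quotient S0).center_nontrivial
  obtain ⟨⟨uq, huq⟩, huord⟩ := exists_prime_orderOf_dvd_card' (G := Subgroup.center (P ⧸ S0)) 2 (by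
    obtain ⟨m, hm, hmc⟩ := ((hP.to_quotient S0).to_subgroup (Subgroup.center (P ⧸ S0))).nontrivial_iff_card.mp inferInstance
    exact hmc ▸ dvd_pow_self 2 hm.ne')
  rw [Subgroup.orderOf_mk] at huord
  obtain ⟨u, rfl⟩ := QuotientGroup.mk_surjective uq
  have hu0 : u ∉ S0 := fun h => by
    rw [(QuotientGroup.eq_one_iff u).mpr h, orderOf_one] at huord
    omega
  obtain ⟨μ, hμ⟩ : u * u ∈ S0 := by
    rw [← QuotientGroup.eq_one_iff, QuotientGroup.mk_mul, ← pow_two, ← huord, pow_orderOf_eq_one]
  have hμ0 : μ ≠ 0 := by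
    rintro rfl
    exact hdet (u * u) (by rw [hμ, map_zero, Matrix.det_zero])
  have hucen : ∀ x : P, x * u = u * x := by
    intro x
    obtain ⟨l, hl⟩ : ⁅x, u⁆ ∈ S0 := by
      rw [← QuotientGroup.eq_one_iff, ← QuotientGroup.mk'_apply, map_commutatorElement,
        commutatorElement_eq_one_iff_mul_comm]
      exact Subgroup.mem_center_iff.mp huq _
    have h1 : Ψ x * Ψ u = Matrix.scalar (Fin 3) l * (Ψ u * Ψ x) := by
      rw [← hl, ← map_mul, ← map_mul, ← map_mul, commutatorElement_def]
      congr 1; group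
    have hl3 : l ^ 3 = 1 := by
      have := congrArg Matrix.det h1
      rw [Matrix.det_mul, Matrix.det_mul, Matrix.det_mul, Matrix.scalar_apply, Matrix.det_diagonal,
        Finset.prod_const, Finset.card_univ, Fintype.card_fin, mul_comm (Ψ u).det] at this
      exact (mul_eq_right₀ (mul_ne_zero (hdet x) (hdet u))).mp this.symm
    have hl2 : l ^ 2 = 1 := by
      have h4 : ∀ A : Matrix (Fin 3) (Fin 3) F, Matrix.scalar (Fin 3) l * A = A * Matrix.scalar (Fin 3) l :=
        fun A => Matrix.scalar_comm l (fun r' => Commute.all l r') A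
      have h3 : Ψ x * (Ψ u * Ψ u) = Matrix.scalar (Fin 3) (l ^ 2) * (Ψ u * Ψ u * Ψ x) := by
        calc Ψ x * (Ψ u * Ψ u) = Matrix.scalar (Fin 3) l * (Ψ u * (Ψ x * Ψ u)) := by
              conv_lhs => rw [← mul_assoc, h1]
              simp only [mul_assoc]
          _ = Matrix.scalar (Fin 3) l * (Matrix.scalar (Fin 3) l * (Ψ u * (Ψ u * Ψ x))) := by
              rw [h1, ← mul_assoc (Ψ u), ← h4 (Ψ u), mul_assoc]
          _ = _ := by rw [pow_two, map_mul]; simp only [mul_assoc]
      rw [← map_mul Ψ u u, hμ] at h3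
      rw [← Matrix.scalar_comm μ (fun r' => Commute.all μ r') (Ψ x), ← mul_assoc] at h3
      have h5 : Matrix.scalar (Fin 3) μ * Ψ x = (Matrix.scalar (Fin 3) (l ^ 2) * Matrix.scalar (Fin 3) μ) * Ψ x := h3
      have h6 := congrArg (· * Ψ x⁻¹) h5
      simp only [mul_assoc, ← map_mul Ψ x, mul_inv_cancel, map_one, mul_one] at h6
      rw [← map_mul] at h6
      have h7 := congrArg (fun A : Matrix (Fin 3) (Fin 3) F => A 0 0) h6
      simp only [Matrix.scalar_apply, Matrix.diagonal_apply_eq] at h7
      exact (mul_eq_right₀ hμ0).mp h7.symm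
    have hl1 : l = 1 := by
      rw [pow_succ, hl2, one_mul] at hl3; exact hl3
    rw [hl1, map_one, one_mul, ← map_mul, ← map_mul] at h1
    exact hΨ h1
  have hud : ∀ i j : Fin 3, i ≠ j → Ψ u i j = 0 := hdiag u fun e _ => (hucen e).symm
  have hueq : Ψ u = Matrix.diagonal fun i => Ψ u i i := by
    ext i j
    by_cases h : i = j
    · subst h; simp
    · rw [hud i j h, Matrix.diagonal_apply_ne _ h]
  set d := fun i => Ψ u i i with hd
  have hd2 : ∀ i, d i * d i = μ := by
    intro i
    have h := hμ
    rw [map_mul, hueq, Matrix.diagonal_mul_diagonal] at h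
    simpa using congrArg (fun A : Matrix (Fin 3) (Fin 3) F => A i i) h
  have hd0 : ∀ i, d i ≠ 0 := fun i h => hμ0 (by rw [← hd2 i, h, zero_mul])
  set s : Fin 3 → Bool := fun i => decide (d i ≠ d 0) with hs
  have hue : Ψ u = Matrix.scalar (Fin 3) (d 0) * sgn F s := by
    rw [hueq, Matrix.scalar_apply, sgn, Matrix.diagonal_mul_diagonal]
    congr 1; funext i
    by_cases h : d i = d 0
    · simp [hs, h]
    · have h' : (d i - d 0) * (d i + d 0) = 0 := by linear_combination hd2 i - hd2 0
      have h'' := eq_neg_of_add_eq_zero_left ((mul_eq_zero.mp h').resolve_left (sub_ne_zero.mpr h))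
      simp [hs, h]; exact h''
  have hsne : ∃ i, s i ≠ s 0 := by
    by_contra h
    push Not at h
    apply hu0
    refine ⟨d 0 * (if s 0 then -1 else 1), ?_⟩
    rw [hue, map_mul, sgn]
    congr 1
    rw [Matrix.scalar_apply]; congr 1; funext i; rw [h i]
  have hscomm : ∀ x : P, sgn F s * Ψ x = Ψ x * sgn F s := by
    intro x
    have h := congrArg Ψ (hucen x).symm
    rw [map_mul, map_mul, hue, mul_assoc, ← mul_assoc (Ψ x),
      ← Matrix.scalar_comm (d 0) (fun r' => Commute.all (d 0) r') (Ψ x), mul_assoc] at h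
    have h' := congrArg (Matrix.scalar (Fin 3) (d 0)⁻¹ * ·) h
    simp only [← mul_assoc, ← map_mul, inv_mul_cancel₀ (hd0 0), map_one, one_mul] at h'
    exact h'
  obtain ⟨i0, hi0⟩ : ∃ i0, ∀ j, j ≠ i0 → s j ≠ s i0 := odd_one_out s hsne.choose hsne.choose_spec
  have hblock : ∀ x : P, ∀ j, j ≠ i0 → Ψ x i0 j = 0 ∧ Ψ x j i0 = 0 := fun x j hj =>
    ⟨eq_zero_of_sgn_comm h2 (hscomm x) (hi0 j hj).symm, eq_zero_of_sgn_comm h2 (hscomm x) (hi0 j hj)⟩
  let χ : P →* F :=
    { toFun := fun x => Ψ x i0 i0
      map_one' := by rw [map_one]; simp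
      map_mul' := fun x y => by
        rw [map_mul, Matrix.mul_apply, Finset.sum_eq_single i0]
        · intro j _ hj; rw [(hblock x j hj).1, zero_mul]
        · simp }
  have hχcomm : ∀ x ∈ commutator P, χ x = 1 := by
    intro x hx
    have h := Abelianization.commutator_subset_ker χ.toHomUnits hx
    exact congrArg Units.val (MonoidHom.mem_ker.mp h)
  -- the central involutions
  obtain ⟨x0, j, k, hjk, hji, hki, hx0⟩ : ∃ (x0 : P) (j k : Fin 3), j ≠ k ∧ j ≠ i0 ∧ k ≠ i0 ∧ Ψ x0 j k ≠ 0 := by
    by_contra h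
    push Not at h
    have hall : ∀ x : P, Ψ x = Matrix.diagonal fun i => Ψ x i i := by
      intro x; ext i j
      by_cases hij : i = j
      · subst hij; simp
      · rw [Matrix.diagonal_apply_ne _ hij]
        by_cases hi : i = i0
        · subst hi; exact (hblock x j (Ne.symm hij)).1
        by_cases hj : j = i0
        · subst hj; exact (hblock x i hi).2
        exact h x i j hij hi hj
    refine hna ⟨⟨fun a b => hΨ ?_⟩⟩
    rw [map_mul, map_mul, hall a, hall b, Matrix.diagonal_mul_diagonal, Matrix.diagonal_mul_diagonal]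
    congr 1; funext i; exact mul_comm _ _
  obtain ⟨a, -, ha⟩ := hsgn (fun i => decide (i = i0))
  obtain ⟨c, -, hc⟩ := hsgn (fun i => decide (i ≠ i0))
  have hacen : ∀ t, ∀ e : P, Ψ e = sgn F t → (∀ i, i ≠ i0 → ∀ i', i' ≠ i0 → t i = t i') → ∀ x : P, x * e = e * x := by
    intro t e he ht x
    refine hΨ ?_
    rw [map_mul, map_mul, he]
    ext i i'
    rw [mul_sgn_apply, sgn_mul_apply]
    rcases eq_or_ne i i' with rfl | hii
    · exact mul_comm _ _
    by_cases hi : i = i0
    · subst hi; rw [(hblock x i' (Ne.symm hii)).1]; simp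
    by_cases hi' : i' = i0
    · subst hi'; rw [(hblock x i hi).2]; simp
    rw [ht i hi i' hi', mul_comm]
  have hac : ∀ x : P, x * a = a * x := hacen _ a ha (fun i hi i' hi' => by simp [hi, hi'])
  have hcc : ∀ x : P, x * c = c * x := hacen _ c hc (fun i hi i' hi' => by simp [hi, hi'])
  have hsq2 : ∀ t, sgn F t * sgn F t = 1 := fun t => by
    rw [sgn, Matrix.diagonal_mul_diagonal, ← Matrix.diagonal_one]
    congr 1; funext i; split_ifs <;> simp
  have hneg : (-1 : F) ≠ 1 := fun h => h2 (by linear_combination -h)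
  have hchia : χ a = -1 := by show Ψ a i0 i0 = -1; rw [ha]; simp [sgn]
  have hclass : ∀ z : P, (∀ x : P, x * z = z * x) → z * z = 1 → z = 1 ∨ z = a ∨ z = c ∨ z = a * c := by
    intro z hzc hz
    have hzd := hdiag z fun e _ => (hzc e).symm
    have hz2 : ∀ i, Ψ z i i = 1 ∨ Ψ z i i = -1 := by
      intro i
      have h := congrArg (fun A : Matrix (Fin 3) (Fin 3) F => A i i) ((map_mul Ψ z z).symm.trans (by rw [hz, map_one]) : Ψ z * Ψ z = 1)
      simp only [Matrix.mul_apply, Matrix.one_apply_eq] at h
      rw [Finset.sum_eq_single i (fun j _ hj => by rw [hzd i j (Ne.symm hj), zero_mul]) (by simp)] at h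
      exact mul_self_eq_one_iff.mp h
    set t : Fin 3 → Bool := fun i => decide (Ψ z i i ≠ 1) with ht
    have hzt : Ψ z = sgn F t := by
      ext i i'
      by_cases hii : i = i'
      · subst hii
        rcases hz2 i with h | h
        · simp [sgn, ht, h]
        · simp [sgn, ht, h, hneg]
      · rw [hzd i i' hii, sgn_apply_ne hii]
    have htjk : t j = t k := by
      by_contra hne
      exact hx0 (eq_zero_of_sgn_comm h2 (by rw [← hzt, ← map_mul, ← map_mul, hzc x0]) hne)
    have htcases : t = (fun _ => false) ∨ t = (fun i => decide (i = i0)) ∨ t = (fun i => decide (i ≠ i0)) ∨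
        t = (fun _ => true) := by
      exact four_cases t i0 j k hjk hji hki htjk
    rcases htcases with h | h | h | h
    · left; exact hΨ (by rw [hzt, h, map_one]; simp [sgn])
    · right; left; exact hΨ (by rw [hzt, h, ha])
    · right; right; left; exact hΨ (by rw [hzt, h, hc])
    · right; right; right
      refine hΨ ?_
      rw [hzt, h, map_mul, ha, hc, sgn, sgn, sgn, Matrix.diagonal_mul_diagonal]
      congr 1; funext i
      by_cases hi : i = i0 <;> simp [hi]
  have hchic : χ c = 1 := by show Ψ c i0 i0 = 1; rw [hc]; simp [sgn]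
  have hanc : a ∉ commutator P := fun h => hneg (hchia.symm.trans (hχcomm a h))
  have haa : a * a = 1 := hΨ (by rw [map_mul, ha, hsq2, map_one])
  have hcc2 : c * c = 1 := hΨ (by rw [map_mul, hc, hsq2, map_one])
  -- `c` is the only central involution in the derived subgroup
  have honly : ∀ z : P, z ∈ commutator P → (∀ x : P, x * z = z * x) → z * z = 1 → z ≠ 1 → z = c := by
    intro z hz hzc hz2 hz1
    rcases hclass z hzc hz2 with h | h | h | h
    · exact absurd h hz1
    · exact absurd (h ▸ hz) hanc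
    · exact h
    · exfalso
      have := hχcomm z hz
      rw [h, map_mul, hchia, hchic, mul_one] at this
      exact hneg this
  have hcmem : c ∈ commutator P := by
    have hne : commutator P ≠ ⊥ := fun h => hna ⟨⟨fun x y => by
      have := Subgroup.commutator_mem_commutator (Subgroup.mem_top x) (Subgroup.mem_top y)
      rw [← commutator_def, h, Subgroup.mem_bot, commutatorElement_eq_one_iff_mul_comm] at this
      exact this⟩⟩
    obtain ⟨z, hz, hz1, hzc, hzp⟩ : ∃ z, z ∈ commutator P ∧ z ≠ 1 ∧ z ∈ Subgroup.center P ∧ z ^ 2 = 1 := by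
      obtain ⟨K, hKn, hKle, hKc, hK2⟩ := PGroup.exists_normal_card_eq_prime hP hne
      haveI := hKn
      haveI : Nontrivial K := Finite.one_lt_card_iff_nontrivial.mp (by rw [hK2]; norm_num)
      obtain ⟨⟨z, hz⟩, hz1⟩ := exists_ne (1 : K)
      refine ⟨z, hKle hz, fun h => hz1 (Subtype.ext h), hKc hz, ?_⟩
      have := pow_card_eq_one' (x := (⟨z, hz⟩ : K))
      rw [hK2] at this
      exact congrArg Subtype.val this
    exact honly z hz (fun x => Subgroup.mem_center_iff.mp hzc x) (by rw [← pow_two, hzp]) hz1 ▸ hz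
  -- the normalizer fixes `a`
  have hN : ∀ g ∈ Subgroup.normalizer (P : Set G), g * (a : G) * g⁻¹ = a := by
    intro g hg
    obtain ⟨x, y, hgxy, hxg, hyg, ⟨k, hk⟩, hy⟩ := Agent.Transfer.exists_pPart_mul (p := 2) g
    have hxN := (Subgroup.zpowers_le.mpr hg) hxg
    have hyN := (Subgroup.zpowers_le.mpr hg) hyg
    have hxP : x ∈ P := by
      have hp : IsPGroup 2 (Subgroup.zpowers x) := IsPGroup.of_card (by rw [Nat.card_zpowers, hk])
      have hsup := hp.to_sup_of_normal_right' hP (Subgroup.zpowers_le.mpr hxN)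
      exact (X.3 hsup le_sup_right).le (Subgroup.mem_sup_left (Subgroup.mem_zpowers x))
    set φ := P.normalizerMonoidHom ⟨y, hyN⟩ with hφ
    have hφval : ∀ z : P, (φ z : G) = y * z * y⁻¹ := fun z => rfl
    have hφcen : ∀ z : P, (∀ x : P, x * z = z * x) → ∀ x : P, x * φ z = φ z * x := by
      intro z hz x
      obtain ⟨x', rfl⟩ := φ.surjective x
      rw [← map_mul, ← map_mul, hz x']
    have hφc : φ c = c := honly _ (Agent.PGroup.aut_mem_iff (H := commutator P) φ c |>.mpr hcmem) (hφcen c hcc)
      (by rw [← map_mul, hcc2, map_one])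
      (fun h => by
        rw [EmbeddingLike.map_eq_one_iff] at h
        exact hneg (by
          have h' := congrArg Ψ h
          rw [hc, map_one] at h'
          have := congrArg (fun A : Matrix (Fin 3) (Fin 3) F => A j j) h'
          simpa [sgn, hji] using this))
    have hφφ : φ (φ a) = a := by
      rcases hclass (φ a) (hφcen a hac) (by rw [← map_mul, haa, map_one]) with h | h | h | h
      · rw [EmbeddingLike.map_eq_one_iff] at h; rw [h, map_one, map_one]
      · rw [h, h]
      · exfalso
        have hac' : a = c := φ.injective (h.trans hφc.symm)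
        exact hanc (hac' ▸ hcmem)
      · rw [h, map_mul, h, hφc, mul_assoc, hcc2, mul_one]
    have hy2 : ∀ n : ℕ, (y ^ (2 * n)) * (a : G) * (y ^ (2 * n))⁻¹ = a := by
      intro n
      induction n with
      | zero => simp
      | succ n ih =>
        have e : (φ (φ a) : G) = y * (y * a * y⁻¹) * y⁻¹ := by rw [hφval, hφval]
        rw [hφφ] at e
        calc y ^ (2 * (n + 1)) * (a : G) * (y ^ (2 * (n + 1)))⁻¹
            = y ^ (2 * n) * (y * (y * a * y⁻¹) * y⁻¹) * (y ^ (2 * n))⁻¹ := by
              rw [Nat.mul_succ, pow_add, pow_two]; group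
          _ = a := by rw [← e, ih]
    obtain ⟨m, hm⟩ : Odd (orderOf y) := Nat.coprime_two_right.mp hy
    have hya : y * (a : G) * y⁻¹ = a := by
      have h := hy2 (m + 1)
      rwa [show 2 * (m + 1) = orderOf y + 1 by omega, pow_succ, pow_orderOf_eq_one, one_mul] at h
    have hxa : x * (a : G) * x⁻¹ = a := by
      have := congrArg Subtype.val (hac ⟨x, hxP⟩)
      rw [mul_inv_eq_iff_eq_mul]
      exact this
    calc g * (a : G) * g⁻¹ = x * (y * a * y⁻¹) * x⁻¹ := by rw [hgxy]; group
      _ = a := by rw [hya, hxa]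
  letI : CommGroup (Abelianization P) := Abelianization.commGroup P
  have hne := Agent.TwoTransfer.exists_hom_ne_one X Abelianization.of a (by rw [pow_two, haa])
    (Subgroup.mem_center_iff.mpr hac) (fun h => hanc (by rwa [← MonoidHom.mem_ker, Abelianization.ker_of] at h)) hN
  have hA2 : IsPGroup 2 (Abelianization P) := hP.to_quotient _
  obtain ⟨K, hK⟩ := Agent.TwoFusion.exists_index_two_of_hom hA2 (MonoidHom.transfer Abelianization.of)
    (fun h => hne (by rw [h]; rfl))
  exact hG K hK

end Cfsg.Agent.S1906
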