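import Cfsg.Statements.S1907

import Cfsg.Agent.Lib.Cores.Basic

set_option autoImplicit false
open Cfsg

namespace Cfsg.Agent.S1907

open Pointwise

variable {G : Type*} [Group G] [Finite G] {p : ℕ} [Fact p.Prime]

/-- `H = P ⊓ T` is the image of a Sylow subgroup of the normal subgroup `T`. -/
lemma inf_normal_eq_map (P : Sylow p G) (T : Subgroup G) [T.Normal] :
    ∃ Q : Sylow p T, (Q : Subgroup T).map T.subtype = (P : Subgroup G) ⊓ T := by
  obtain ⟨Q, hQ⟩ := IsPGroup.exists_le_sylow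
    (P.isPGroup'.comap_of_injective T.subtype T.subtype_injective)
  refine ⟨Q, (Subgroup.eq_of_le_of_card_ge (fun x hx => ?_) ?_).symm⟩
  · exact ⟨⟨x, hx.2⟩, hQ hx.1, rfl⟩
  · obtain ⟨R, hR⟩ := (Q.isPGroup'.map T.subtype).exists_le_sylow
    obtain ⟨g, rfl⟩ := MulAction.exists_smul_eq G P R
    have hle : (Q : Subgroup T).map T.subtype ≤ MulAut.conj g • ((P : Subgroup G) ⊓ T) := by
      intro x hx
      have hxP := hR hx
      rw [Sylow.coe_subgroup_smul, Subgroup.mem_pointwise_smul_iff_inv_smul_mem] at hxP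
      rw [Subgroup.mem_pointwise_smul_iff_inv_smul_mem]
      obtain ⟨t, -, rfl⟩ := Subgroup.mem_map.1 hx
      refine ⟨hxP, ?_⟩
      simpa using Subgroup.Normal.conj_mem' inferInstance _ t.2 g
    refine (Subgroup.card_le_of_le hle).trans (le_of_eq ?_)
    exact (Nat.card_congr (Subgroup.equivSMul (MulAut.conj g) _).toEquiv).symm

lemma isPGroup_pPrimePCore_mod (t : G) (ht : t ∈ Cfsg.pPrimePCore p G) :
    ∃ k : ℕ, t ^ p ^ k ∈ Cfsg.pPrimeCore p G := by
  obtain ⟨k, hk⟩ := Cores.isPGroup_pCore p _ ⟨QuotientGroup.mk' _ t, ht⟩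
  refine ⟨k, (QuotientGroup.eq_one_iff _).1 ?_⟩
  simpa using congrArg Subtype.val hk

lemma pPrimePCore_le_sup (P : Sylow p G) :
    Cfsg.pPrimePCore p G ≤ Cfsg.pPrimeCore p G ⊔ ((P : Subgroup G) ⊓ Cfsg.pPrimePCore p G) := by
  set T := Cfsg.pPrimePCore p G with hT
  haveI : T.Normal := Subgroup.Normal.comap inferInstance _
  obtain ⟨Q, hQ⟩ := inf_normal_eq_map P T
  set D' := (Cfsg.pPrimeCore p G).subgroupOf T with hD'
  set K := (Cfsg.pPrimeCore p G ⊔ ((P : Subgroup G) ⊓ T)).subgroupOf T with hK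
  have h1 : IsPGroup p (T ⧸ D') := fun q => by
    obtain ⟨t, rfl⟩ := QuotientGroup.mk'_surjective D' q
    obtain ⟨k, hk⟩ := isPGroup_pPrimePCore_mod (t : G) t.2
    exact ⟨k, by rw [← map_pow]; exact (QuotientGroup.eq_one_iff _).2 hk⟩
  obtain ⟨k, hk⟩ := IsPGroup.iff_card.1 h1
  have hDK : K.index ∣ p ^ k := hk ▸ Subgroup.index_dvd_of_le
    (fun x hx => le_sup_left (b := (P : Subgroup G) ⊓ T) hx)
  have hQK : K.index ∣ (Q : Subgroup T).index := Subgroup.index_dvd_of_le (fun x hx => by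
    exact le_sup_right (a := Cfsg.pPrimeCore p G) (hQ ▸ Subgroup.mem_map_of_mem T.subtype hx))
  have : K.index = 1 := by
    have hc : Nat.Coprime (p ^ k) (Q : Subgroup T).index :=
      Nat.Coprime.pow_left _ ((Fact.out : p.Prime).coprime_iff_not_dvd.2 Q.not_dvd_index)
    exact Nat.eq_one_of_dvd_coprimes hc hDK hQK
  intro t ht
  have := (Subgroup.index_eq_one.1 this) ▸ Subgroup.mem_top (⟨t, ht⟩ : T)
  exact this

/-- two p-elements congruent modulo a normalised p'-subgroup are conjugate under it -/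
lemma exists_conj_of_congr (C : Subgroup G) (hC : (Nat.card C).Coprime p) {y z : G}
    (hy : ∃ k : ℕ, orderOf y = p ^ k) (hz : ∃ k : ℕ, orderOf z = p ^ k)
    (hn : y ∈ Subgroup.normalizer (C : Set G)) (h : y⁻¹ * z ∈ C) :
    ∃ c ∈ C, c⁻¹ * y * c = z := by
  obtain ⟨a, ha⟩ := hy
  obtain ⟨b, hb⟩ := hz
  set M := Subgroup.zpowers y ⊔ C with hM
  have hle : M ≤ Subgroup.normalizer (C : Set G) :=
    sup_le (Subgroup.zpowers_le.2 hn) Subgroup.le_normalizer
  haveI : (C.subgroupOf M).Normal := Cores.subgroupOf_normal_of_le_normalizer hle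
  set Y := (Subgroup.zpowers y).subgroupOf M with hY
  have hcard : Nat.card Y = p ^ a := by
    rw [hY, Cores.card_subgroupOf le_sup_left, Nat.card_zpowers, ha]
  have hYp : IsPGroup p Y := IsPGroup.of_card hcard
  have hYtop : Y ⊔ C.subgroupOf M = ⊤ := by
    rw [hY, ← Subgroup.subgroupOf_sup le_sup_left le_sup_right, Subgroup.subgroupOf_self]
  have hdiv : Nat.card M ∣ p ^ a * Nat.card C := by
    have := Cores.card_sup_dvd Y (C.subgroupOf M)
    rwa [hYtop, hcard, Cores.card_subgroupOf le_sup_right,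
      Nat.card_congr Subgroup.topEquiv.toEquiv] at this
  have hidx : ¬ p ∣ Y.index := by
    intro hp
    have h1 := Y.card_mul_index
    rw [hcard] at h1
    have h2 : Y.index ∣ Nat.card C :=
      Nat.dvd_of_mul_dvd_mul_left (pow_pos (Fact.out : p.Prime).pos a) (h1 ▸ hdiv)
    exact ((Fact.out : p.Prime).coprime_iff_not_dvd.1 hC.symm) (hp.trans h2)
  have hzM : z ∈ M := by
    have : z = y * (y⁻¹ * z) := by group
    rw [this]
    exact M.mul_mem (le_sup_left (b := C) (Subgroup.mem_zpowers y)) (le_sup_right (a := Subgroup.zpowers y) h)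
  have hZp : IsPGroup p (Subgroup.zpowers (⟨z, hzM⟩ : M)) :=
    IsPGroup.of_card (n := b) (by rw [Nat.card_zpowers, Subgroup.orderOf_mk, hb])
  obtain ⟨R, hR⟩ := hZp.exists_le_sylow
  obtain ⟨m, hm⟩ := MulAction.exists_smul_eq M (hYp.toSylow hidx) R
  have hzR := hR (Subgroup.mem_zpowers _)
  rw [← hm, Sylow.coe_subgroup_smul, Subgroup.mem_pointwise_smul_iff_inv_smul_mem] at hzR
  have hzy : (m : G)⁻¹ * z * m ∈ Subgroup.zpowers y := by simpa [hY, Subgroup.mem_subgroupOf] using hzR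
  obtain ⟨u, hu, c, hc, hm'⟩ : ∃ u ∈ Subgroup.zpowers y, ∃ c ∈ C, c * u = (m : G) := by
    have h1 : (m : M) ∈ C.subgroupOf M ⊔ Y := by rw [sup_comm, hYtop]; trivial
    obtain ⟨c, hc, u, hu, e⟩ := Subgroup.mem_sup_of_normal_left.1 h1
    exact ⟨u, hu, c, hc, congrArg Subtype.val e⟩
  have hczy : c⁻¹ * z * c ∈ Subgroup.zpowers y := by
    have : c⁻¹ * z * c = u * ((m : G)⁻¹ * z * m) * u⁻¹ := by rw [← hm']; group
    rw [this]
    exact mul_mem (mul_mem hu hzy) (inv_mem hu)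
  have hmem : y⁻¹ * (c⁻¹ * z * c) ∈ Subgroup.zpowers y ⊓ C := by
    refine Subgroup.mem_inf.2 ⟨mul_mem (inv_mem (Subgroup.mem_zpowers y)) hczy, ?_⟩
    have : y⁻¹ * (c⁻¹ * z * c) = (y⁻¹ * c⁻¹ * y) * (y⁻¹ * z) * c := by group
    rw [this]
    refine mul_mem (mul_mem ?_ h) hc
    have := (Subgroup.mem_normalizer_iff.1 (inv_mem hn) c⁻¹).1 (inv_mem hc)
    simpa using this
  have hbot : Subgroup.zpowers y ⊓ C = ⊥ := Subgroup.inf_eq_bot_of_coprime (by
    rw [Nat.card_zpowers, ha]; exact Nat.Coprime.pow_left _ hC.symm)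
  rw [hbot, Subgroup.mem_bot, inv_mul_eq_one] at hmem
  exact ⟨c⁻¹, inv_mem hc, by rw [hmem]; group⟩


/-- Let P be a Sylow p-subgroup of a finite group G, H = P ∩ O_{p',p}(G), N = N_G(H) and D = O_{p'}(G). (a) If y is an element of p-power order of N and d ∈ D with d⁻¹ y d ∈ N, then d = d₁ d₂ with d₁ ∈ C_D(y) and d₂ ∈ C_D(H). (b) Two elements of P that are conjugate in G are conjugate in N. -/
theorem result {G : Type*} [Group G] [Finite G] {p : ℕ} [Fact p.Prime] (P : Sylow p G) :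
    (∀ y ∈ Subgroup.normalizer (((P : Subgroup G) ⊓ Cfsg.pPrimePCore p G : Subgroup G) : Set G), (∃ k : ℕ, orderOf y = p ^ k) →
      ∀ d ∈ Cfsg.pPrimeCore p G, d⁻¹ * y * d ∈ Subgroup.normalizer (((P : Subgroup G) ⊓ Cfsg.pPrimePCore p G : Subgroup G) : Set G) →
        ∃ d₁ ∈ Cfsg.pPrimeCore p G ⊓ Subgroup.centralizer ({y} : Set G),
          ∃ d₂ ∈ Cfsg.pPrimeCore p G ⊓ Subgroup.centralizer (((P : Subgroup G) ⊓ Cfsg.pPrimePCore p G : Subgroup G) : Set G), d = d₁ * d₂) ∧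
    ∀ x y : G, x ∈ (P : Subgroup G) → y ∈ (P : Subgroup G) → IsConj x y →
      ∃ n ∈ Subgroup.normalizer (((P : Subgroup G) ⊓ Cfsg.pPrimePCore p G : Subgroup G) : Set G), n * x * n⁻¹ = y := by
  set T := Cfsg.pPrimePCore p G with hT
  haveI : T.Normal := Subgroup.Normal.comap inferInstance _
  set D := Cfsg.pPrimeCore p G with hD
  set H := (P : Subgroup G) ⊓ T with hH
  set N := Subgroup.normalizer (H : Set G) with hN
  have hDT : D ≤ T := fun d hd => by
    change QuotientGroup.mk' D d ∈ Cfsg.pCore p (G ⧸ D)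
    rw [QuotientGroup.mk'_apply, (QuotientGroup.eq_one_iff d).2 hd]
    exact one_mem _
  have hcop : (Nat.card D).Coprime p := Cores.coprime_card_pPrimeCore p
  have hDH : D ⊓ H = ⊥ := by
    obtain ⟨k, hk⟩ := IsPGroup.iff_card.1 (P.isPGroup'.to_le (inf_le_left (b := T)))
    exact Subgroup.inf_eq_bot_of_coprime (by rw [hk]; exact hcop.pow_right _)
  have hcent : ∀ d ∈ D, d ∈ N → d ∈ Subgroup.centralizer (H : Set G) := by
    intro d hd hdN
    rw [Subgroup.mem_centralizer_iff]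
    intro x hx
    have h1 : d * x * d⁻¹ * x⁻¹ ∈ D ⊓ H := by
      refine Subgroup.mem_inf.2 ⟨?_, mul_mem ((Subgroup.mem_normalizer_iff.1 hdN x).1 hx) (inv_mem hx)⟩
      have : d * x * d⁻¹ * x⁻¹ = d * (x * d⁻¹ * x⁻¹) := by group
      rw [this]
      exact mul_mem hd (Subgroup.Normal.conj_mem inferInstance _ (inv_mem hd) x)
    rw [hDH, Subgroup.mem_bot] at h1
    calc x * d = d * x * d⁻¹ * x⁻¹ * (x * d) := by rw [h1, one_mul]
      _ = d * x := by group
  have hA : ∀ y ∈ N, (∃ k : ℕ, orderOf y = p ^ k) → ∀ d ∈ D, d⁻¹ * y * d ∈ N →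
      ∃ d₁ ∈ D ⊓ Subgroup.centralizer ({y} : Set G),
        ∃ d₂ ∈ D ⊓ Subgroup.centralizer (H : Set G), d = d₁ * d₂ := by
    intro y hy hyp d hd hz
    have hzp : ∃ k : ℕ, orderOf (d⁻¹ * y * d) = p ^ k := by
      obtain ⟨k, hk⟩ := hyp
      refine ⟨k, ?_⟩
      rw [← hk]
      simpa using MulEquiv.orderOf_eq (MulAut.conj d⁻¹) y
    have hcN : y ∈ Subgroup.normalizer ((D ⊓ N : Subgroup G) : Set G) := by
      rw [Subgroup.mem_normalizer_iff]
      intro x
      have hyD : x ∈ D ↔ y * x * y⁻¹ ∈ D :=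
        Subgroup.mem_normalizer_iff.1 (by rw [Subgroup.normalizer_eq_top]; trivial) x
      have hyN : x ∈ N ↔ y * x * y⁻¹ ∈ N :=
        Subgroup.mem_normalizer_iff.1 (Subgroup.le_normalizer hy) x
      simp only [Subgroup.mem_inf, hyD, hyN]
    have hcop' : (Nat.card ↥(D ⊓ N)).Coprime p :=
      hcop.coprime_dvd_left (Subgroup.card_dvd_of_le inf_le_left)
    obtain ⟨c, hc, hcy⟩ := exists_conj_of_congr (D ⊓ N) hcop' hyp hzp hcN (Subgroup.mem_inf.2 ⟨by
      have : y⁻¹ * (d⁻¹ * y * d) = (y⁻¹ * d⁻¹ * y) * d := by group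
      rw [this]
      exact mul_mem (Subgroup.Normal.conj_mem' inferInstance _ (inv_mem hd) y) hd,
      mul_mem (inv_mem hy) hz⟩)
    refine ⟨d * c⁻¹, Subgroup.mem_inf.2 ⟨mul_mem hd (inv_mem hc.1), ?_⟩, c, ⟨hc.1, hcent c hc.1 hc.2⟩, by group⟩
    rw [Subgroup.mem_centralizer_singleton_iff]
    calc d * c⁻¹ * y = d * (c⁻¹ * y * c) * c⁻¹ := by group
      _ = d * (d⁻¹ * y * d) * c⁻¹ := by rw [hcy]
      _ = y * (d * c⁻¹) := by group
  refine ⟨hA, fun x y hx hy hxy => ?_⟩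
  obtain ⟨g, hg⟩ := isConj_iff.1 hxy
  have htop : D ⊔ N = ⊤ := by
    obtain ⟨Q, hQ⟩ := inf_normal_eq_map P T
    have := Sylow.normalizer_sup_eq_top Q
    rw [hQ] at this
    rw [eq_top_iff, ← this]
    refine sup_le le_sup_right ((pPrimePCore_le_sup P).trans (sup_le le_sup_left ?_))
    exact le_trans Subgroup.le_normalizer le_sup_right
  obtain ⟨d, hd, n, hn, rfl⟩ := Subgroup.mem_sup_of_normal_left.1 (htop ▸ Subgroup.mem_top g : g ∈ D ⊔ N)
  have hPN : (P : Subgroup G) ≤ N := by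
    intro a ha
    rw [hN, Subgroup.mem_normalizer_iff]
    intro b
    have haP : b ∈ (P : Subgroup G) ↔ a * b * a⁻¹ ∈ (P : Subgroup G) :=
      Subgroup.mem_normalizer_iff.1 (Subgroup.le_normalizer ha) b
    have haT : b ∈ T ↔ a * b * a⁻¹ ∈ T :=
      Subgroup.mem_normalizer_iff.1 (by rw [Subgroup.normalizer_eq_top]; trivial) b
    simp only [hH, Subgroup.mem_inf, haP, haT]
  have hz : d⁻¹ * y * d = n * x * n⁻¹ := by rw [← hg]; group
  have hyp : ∃ k : ℕ, orderOf y = p ^ k := by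
    obtain ⟨k, hk⟩ := IsPGroup.iff_orderOf.1 P.isPGroup' ⟨y, hy⟩
    exact ⟨k, by rw [← hk, Subgroup.orderOf_mk]⟩
  obtain ⟨d₁, hd₁, d₂, hd₂, rfl⟩ := hA y (hPN hy) hyp d hd (hz ▸ mul_mem (mul_mem hn (hPN hx)) (inv_mem hn))
  refine ⟨d₂ * n, mul_mem (Subgroup.centralizer_le_normalizer _ hd₂.2) hn, ?_⟩
  have h1 : d₁ * y = y * d₁ := Subgroup.mem_centralizer_singleton_iff.1 hd₁.2
  calc d₂ * n * x * (d₂ * n)⁻¹ = d₂ * (n * x * n⁻¹) * d₂⁻¹ := by group
    _ = d₁⁻¹ * y * d₁ := by rw [← hz]; group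
    _ = y := by rw [mul_assoc, ← h1]; group

end Cfsg.Agent.S1907
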