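import Cfsg.Statements.S1910
import Cfsg.Agent.Lib.Fusion.SylowIn
import Cfsg.Agent.Lib.Coprime.Basic
import Cfsg.Agent.Lib.PGroup.Basic

set_option autoImplicit false
open Cfsg
open scoped commutatorElement

namespace Cfsg.Agent.S1910

variable {G : Type*} [Group G] [Finite G]

theorem eq_one_of_odd {U V : Subgroup G} (hU : IsPGroup 2 U) (hV : Odd (Nat.card V)) {z : G}
    (hzU : z ∈ U) (hzV : z ∈ V) : z = 1 := by
  obtain ⟨n, hn⟩ := IsPGroup.iff_card.1 hU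
  exact Coprime.eq_one_of_mem_of_mem (by rw [hn]; exact (Nat.coprime_two_left.2 hV).pow_left n) hzU hzV

/-- One side of the argument. -/
theorem side (Q K T S : Subgroup G) (hQK : Odd (Nat.card ↥(Q ⊓ K)))
    (hK : ∀ x, x ∉ Subgroup.normalizer (K : Set G) →
      Odd (Nat.card ↥(K ⊓ K.map (MulAut.conj x).toMonoidHom)))
    (hTK : T ≤ K) (hTN : T ≤ Subgroup.normalizer (Q : Set G))
    (hTmax : ∀ U : Subgroup G, IsPGroup 2 U → T ≤ U → U ≤ K ⊓ Subgroup.normalizer (Q : Set G) → U = T)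
    (hTS : T ≤ S) (hS2 : IsPGroup 2 S) (hS : S ≤ Q ⊔ T) :
    T ⊓ Q = ⊥ ∧ ⁅T, S ⊓ Subgroup.normalizer (T : Set G) ⊓ Q⁆ = ⊥ ∧
      T ⊔ (S ⊓ Subgroup.normalizer (T : Set G) ⊓ Q) = S ⊓ Subgroup.normalizer (T : Set G) ∧
      ((∃ f : T →* ↥(S ⊓ Subgroup.normalizer (T : Set G) ⊓ Q), Function.Injective f) ∨
        S ⊓ Subgroup.normalizer (T : Set G) ⊓ Q = S ⊓ Q) := by
  set R := S ⊓ Subgroup.normalizer (T : Set G) ⊓ Q with hRdef
  have hT2 : IsPGroup 2 T := hS2.to_le hTS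
  have hint : T ⊓ Q = ⊥ := (Subgroup.eq_bot_iff_forall _).2 fun z hz =>
    eq_one_of_odd hT2 hQK hz.1 ⟨hz.2, hTK hz.1⟩
  have hdec : ∀ s ∈ S, ∃ q ∈ S ⊓ Q, ∃ u ∈ T, q * u = s := fun s hs => by
    obtain ⟨q, hq, u, hu, rfl⟩ := (Coprime.mem_sup_iff hTN).1 (hS hs)
    exact ⟨q, ⟨(S.mul_mem_cancel_right (hTS hu)).1 hs, hq⟩, u, hu, rfl⟩
  have hcomm : ∀ u ∈ T, ∀ r ∈ R, u * r = r * u := fun u hu r hr => by
    rw [← commutatorElement_eq_one_iff_mul_comm, commutatorElement_def]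
    have h1 : u * r * u⁻¹ * r⁻¹ ∈ Q :=
      Q.mul_mem ((Subgroup.mem_normalizer_iff.1 (hTN hu) r).1 hr.2) (Q.inv_mem hr.2)
    have h2 : u * r * u⁻¹ * r⁻¹ ∈ T := by
      have h := T.mul_mem hu ((Subgroup.mem_normalizer_iff.1 hr.1.2 u⁻¹).1 (T.inv_mem hu))
      convert h using 1
      group
    exact (Subgroup.eq_bot_iff_forall _).1 hint _ ⟨h2, h1⟩
  have hsup : T ⊔ R = S ⊓ Subgroup.normalizer (T : Set G) := by
    refine le_antisymm (sup_le (le_inf hTS Subgroup.le_normalizer) inf_le_left) fun s hs => ?_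
    obtain ⟨q, hq, u, hu, rfl⟩ := hdec s hs.1
    refine Subgroup.mul_mem _ (Subgroup.mem_sup_right ⟨⟨hq.1, ?_⟩, hq.2⟩) (Subgroup.mem_sup_left hu)
    exact ((Subgroup.normalizer (T : Set G)).mul_mem_cancel_right (Subgroup.le_normalizer hu)).1 hs.2
  refine ⟨hint, Subgroup.commutator_eq_bot_iff_le_centralizer.2 fun u hu =>
    Subgroup.mem_centralizer_iff.2 fun r hr => (hcomm u hu r hr).symm, hsup, ?_⟩
  by_cases hRe : R = S ⊓ Q
  · exact Or.inr hRe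
  left
  set M := S ⊓ Subgroup.normalizer (T : Set G)
  have hMne : M.subgroupOf S ≠ ⊤ := fun h => hRe (by
    refine le_antisymm (inf_le_inf_right _ inf_le_left) fun z hz => ⟨Subgroup.subgroupOf_eq_top.1 h hz.1, hz.2⟩)
  obtain ⟨⟨y, hyS⟩, hyN, hyM⟩ := PGroup.exists_mem_normalizer_not_mem hS2 hMne
  obtain ⟨x, hx, u, hu, rfl⟩ := hdec y hyS
  have hxT : x ∉ Subgroup.normalizer (T : Set G) := fun h =>
    hyM (Subgroup.mem_subgroupOf.2 ⟨hyS, mul_mem h (Subgroup.le_normalizer hu)⟩)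
  have hxM : ∀ v ∈ T, x * v * x⁻¹ ∈ T ⊔ R := by
    intro v hv
    have hv' : u⁻¹ * v * u ∈ M := ⟨S.mul_mem (S.mul_mem (S.inv_mem (hTS hu)) (hTS hv)) (hTS hu),
      Subgroup.le_normalizer (T.mul_mem (T.mul_mem (T.inv_mem hu) hv) hu)⟩
    have h := (Subgroup.mem_normalizer_iff.1 hyN ⟨u⁻¹ * v * u, hv'.1⟩).1 hv'
    rw [hsup]
    have e : x * u * (u⁻¹ * v * u) * (x * u)⁻¹ = x * v * x⁻¹ := by group
    rw [Subgroup.mem_subgroupOf] at h
    simpa only [Subgroup.coe_mul, Subgroup.coe_inv, e] using h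
  have hxK : x ∉ Subgroup.normalizer (K : Set G) := by
    intro hxK
    refine hxT ?_
    have hU : T.map (MulAut.conj x).toMonoidHom ⊔ T = T := by
      refine hTmax _ (hS2.to_le (sup_le ?_ hTS)) le_sup_right (sup_le ?_ (le_inf hTK hTN))
      · rintro _ ⟨v, hv, rfl⟩
        exact S.mul_mem (S.mul_mem hx.1 (hTS hv)) (S.inv_mem hx.1)
      · rintro _ ⟨v, hv, rfl⟩
        exact ⟨(Subgroup.mem_normalizer_iff.1 hxK v).1 (hTK hv),
          (Subgroup.normalizer (Q : Set G)).mul_mem ((Subgroup.normalizer (Q : Set G)).mul_mem (Subgroup.le_normalizer hx.2) (hTN hv)) ((Subgroup.normalizer (Q : Set G)).inv_mem (Subgroup.le_normalizer hx.2))⟩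
    exact Coprime.mem_normalizer_of_forall fun v hv => hU.le (Subgroup.mem_sup_left ⟨v, hv, rfl⟩)
  have hsep : ∀ v ∈ T, x * v * x⁻¹ ∈ T → v = 1 := fun v hv h => by
    have h1 := eq_one_of_odd hT2 (hK x hxK) h ⟨hTK h, ⟨v, hTK hv, rfl⟩⟩
    exact conj_eq_one_iff.1 h1
  -- projection of the conjugate to `R`
  have hn : R ≤ Subgroup.normalizer (T : Set G) := fun r hr => hr.1.2
  have hd : ∀ v : T, ∃ r : R, (x * v * x⁻¹) * (r : G)⁻¹ ∈ T := fun v => by
    obtain ⟨w, hw, r, hr, e⟩ := (Coprime.mem_sup_iff hn).1 (hxM v v.2)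
    exact ⟨⟨r, hr⟩, by rw [← e, mul_inv_cancel_right]; exact hw⟩
  choose f hf using hd
  have huniq : ∀ (v : T) (r : G), r ∈ R → (x * v * x⁻¹) * r⁻¹ ∈ T → (f v : G) = r := by
    intro v r hr h
    have h1 := T.mul_mem (T.inv_mem (hf v)) h
    have h2 : (f v : G) * r⁻¹ ∈ T ⊓ Q := ⟨by simpa [mul_assoc] using h1, Q.mul_mem (f v).2.2 (Q.inv_mem hr.2)⟩
    rwa [hint, Subgroup.mem_bot, mul_inv_eq_one] at h2
  refine ⟨MonoidHom.mk' f fun v w => Subtype.ext (huniq _ _ (R.mul_mem (f v).2 (f w).2) ?_), ?_⟩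
  · have hw := hf w
    simp only [Subgroup.coe_mul]
    have e : x * ((v : G) * w) * x⁻¹ * ((f v : G) * f w)⁻¹ =
        (x * v * x⁻¹) * ((x * w * x⁻¹) * (f w : G)⁻¹ * (f v : G)⁻¹) := by
      group
    rw [e, hcomm _ hw _ (R.inv_mem (f v).2), ← mul_assoc]
    exact T.mul_mem (hf v) hw
  · rw [injective_iff_map_eq_one]
    intro v hv
    refine Subtype.ext (hsep v v.2 ?_)
    have h := hf v
    rw [show f v = 1 from hv, OneMemClass.coe_one, inv_one, mul_one] at h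
    exact h

/-- Sylow subgroups of a subgroup are isomorphic. -/
theorem equiv_of_isSylowIn {A B C : Subgroup G} (hB : Fusion.IsSylowIn 2 B A) (hC : Fusion.IsSylowIn 2 C A) :
    Nonempty (C ≃* B) := by
  obtain ⟨a, -, hab⟩ := hB.exists_conj_le hC.2.1 hC.1
  have he : C.map (MulAut.conj a).toMonoidHom = B := by
    refine Subgroup.eq_of_le_of_card_ge (by rintro _ ⟨c, hc, rfl⟩; exact hab c hc) ?_
    rw [Subgroup.card_map_of_injective (f := (MulAut.conj a).toMonoidHom) (MulAut.conj a).injective,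
      hB.card, hC.card]
  exact ⟨(C.equivMapOfInjective _ (MulAut.conj a).injective).trans (MulEquiv.subgroupCongr he)⟩

/-- Let Q be a tightly embedded subgroup of a finite group G, g an element outside N_G(Q), T a nontrivial Sylow 2-subgroup of Q^g ∩ N_G(Q), and S a Sylow 2-subgroup of QT containing T. Then T ∩ Q = 1, and N_S(T) is the direct product of T and N_S(T) ∩ Q, with N_S(T) ∩ Q isomorphic to T. -/
theorem result {G : Type*} [Group G] [Finite G] (Q : Subgroup G) (hQ : Cfsg.IsTightlyEmbedded Q)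
    (g : G) (hg : g ∉ Subgroup.normalizer (Q : Set G))
    (T : Subgroup G) (hT1 : T ≠ ⊥) (hT : T ≤ Q.map (MulAut.conj g).toMonoidHom ⊓ Subgroup.normalizer (Q : Set G))
    (hTsyl : IsPGroup 2 T ∧ ¬ 2 ∣ T.relIndex (Q.map (MulAut.conj g).toMonoidHom ⊓ Subgroup.normalizer (Q : Set G)))
    (S : Subgroup G) (hTS : T ≤ S) (hS : S ≤ Q ⊔ T) (hSsyl : IsPGroup 2 S ∧ ¬ 2 ∣ S.relIndex (Q ⊔ T)) :
    T ⊓ Q = ⊥ ∧
      T ⊓ (S ⊓ Subgroup.normalizer (T : Set G) ⊓ Q) = ⊥ ∧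
      ⁅T, S ⊓ Subgroup.normalizer (T : Set G) ⊓ Q⁆ = ⊥ ∧
      T ⊔ (S ⊓ Subgroup.normalizer (T : Set G) ⊓ Q) = S ⊓ Subgroup.normalizer (T : Set G) ∧
      Nonempty (↥(S ⊓ Subgroup.normalizer (T : Set G) ⊓ Q) ≃* T) := by
  classical
  set K := Q.map (MulAut.conj g).toMonoidHom with hKdef
  have hQK : Odd (Nat.card ↥(Q ⊓ K)) := hQ.2 g hg
  have hQtight : ∀ x, x ∉ Subgroup.normalizer (Q : Set G) →
      Odd (Nat.card ↥(Q ⊓ Q.map (MulAut.conj x).toMonoidHom)) := hQ.2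
  have hK : ∀ x, x ∉ Subgroup.normalizer (K : Set G) →
      Odd (Nat.card ↥(K ⊓ K.map (MulAut.conj x).toMonoidHom)) := by
    intro x hx
    have hx' : g⁻¹ * x * g ∉ Subgroup.normalizer (Q : Set G) := fun h => hx (by
      rw [hKdef, ← Subgroup.map_equiv_normalizer_eq]
      exact ⟨g⁻¹ * x * g, h, by simp [mul_assoc]⟩)
    have h := hQtight _ hx'
    have e : (Q ⊓ Q.map (MulAut.conj (g⁻¹ * x * g)).toMonoidHom).map (MulAut.conj g).toMonoidHom
        = K ⊓ K.map (MulAut.conj x).toMonoidHom := by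
      rw [Subgroup.map_inf _ _ _ (MulAut.conj g).injective, hKdef, Subgroup.map_map, Subgroup.map_map]
      congr 2
      ext z
      simp [mul_assoc]
    rwa [← e, Subgroup.card_map_of_injective (f := (MulAut.conj g).toMonoidHom) (MulAut.conj g).injective]
  have isyl : ∀ {U A : Subgroup G}, U ≤ A → IsPGroup 2 U → ¬ 2 ∣ U.relIndex A → Fusion.IsSylowIn 2 U A := by
    intro U A hUA hU hd
    rw [Fusion.isSylowIn_iff_exists hUA]
    exact ⟨(hU.comap_subtype (K := A)).toSylow hd, rfl⟩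
  have hTin := isyl hT hTsyl.1 hTsyl.2
  have hSin := isyl hS hSsyl.1 hSsyl.2
  have hTN : T ≤ Subgroup.normalizer (Q : Set G) := hT.trans inf_le_right
  obtain ⟨h1, h2, h3, h4⟩ := side Q K T S hQK hK (hT.trans inf_le_left) hTN
    (fun U hU hTU hUle => hTin.2.2 U hTU hUle hU) hTS hSsyl.1 hS
  set R := S ⊓ Subgroup.normalizer (T : Set G) ⊓ Q with hRdef
  refine ⟨h1, le_bot_iff.1 ((inf_le_inf_left T inf_le_right).trans h1.le), h2, h3, ?_⟩
  have hQn : ∀ a ∈ Q ⊔ T, ∀ q ∈ Q, a * q * a⁻¹ ∈ Q := fun a ha q hq =>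
    (Subgroup.mem_normalizer_iff.1 ((sup_le Subgroup.le_normalizer hTN : Q ⊔ T ≤ _) ha) q).1 hq
  have hSQ : Fusion.IsSylowIn 2 (S ⊓ Q) Q := hSin.inf_normal le_sup_left hQn
  have hR2 : IsPGroup 2 R := hSsyl.1.to_le (inf_le_left.trans inf_le_left)
  -- `R` normalises `K`
  have hRK : R ≤ Q ⊓ Subgroup.normalizer (K : Set G) := by
    refine le_inf inf_le_right fun r hr => ?_
    by_contra hrK
    obtain ⟨t, ht, ht1⟩ := (Subgroup.ne_bot_iff_exists_ne_one.1 hT1).elim fun t ht =>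
      (⟨(t : G), t.2, fun h => ht (Subtype.ext h)⟩ : ∃ t ∈ T, t ≠ 1)
    have he : r * t * r⁻¹ = t := by
      have h := Subgroup.mem_centralizer_iff.1 (Subgroup.commutator_eq_bot_iff_le_centralizer.1 h2 ht) r hr
      rw [h, mul_inv_cancel_right]
    exact ht1 (eq_one_of_odd hTsyl.1 (hK r hrK) ht ⟨(hT ht).1, ⟨t, (hT ht).1, he⟩⟩)
  -- the other side
  obtain ⟨R₁, hRR₁, hR₁⟩ := Fusion.exists_isSylowIn_ge hR2 hRK
  have hR₁le : R₁ ≤ K ⊔ R₁ := le_sup_right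
  obtain ⟨S', hRS', hS'⟩ := Fusion.exists_isSylowIn_ge hR₁.2.1 hR₁le
  have hR₁N : R₁ ≤ Subgroup.normalizer (K : Set G) := hR₁.1.trans inf_le_right
  obtain ⟨g1, g2, -, g4⟩ := side K Q R₁ S' (by rwa [inf_comm]) hQtight (hR₁.1.trans inf_le_left) hR₁N
    (fun U hU hle hUle => hR₁.2.2 U hle hUle hU) hRS' hS'.2.1 hS'.1
  set R' := S' ⊓ Subgroup.normalizer (R₁ : Set G) ⊓ K with hR'def
  have hR'2 : IsPGroup 2 R' := hS'.2.1.to_le (inf_le_left.trans inf_le_left)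
  have hR₁1 : R₁ ≠ ⊥ := by
    intro h
    have hR : R = ⊥ := le_bot_iff.1 (hRR₁.trans h.le)
    rcases h4 with ⟨f, hf⟩ | he
    · refine hT1 ((Subgroup.eq_bot_iff_forall _).2 fun z hz => ?_)
      have : f ⟨z, hz⟩ = 1 := Subtype.ext ((Subgroup.eq_bot_iff_forall _).1 hR _ (f _).2)
      exact congrArg Subtype.val ((injective_iff_map_eq_one f).1 hf _ this)
    · have hc := hSQ.card
      rw [← he, hR, Subgroup.card_bot] at hc
      have h2Q : 2 ∣ Nat.card Q := even_iff_two_dvd.1 hQ.1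
      have hpos : 0 < (Nat.card Q).factorization 2 :=
        Nat.prime_two.factorization_pos_of_dvd Nat.card_pos.ne' h2Q
      have : 2 ^ 1 ≤ 2 ^ (Nat.card Q).factorization 2 := Nat.pow_le_pow_right (by norm_num) hpos
      omega
  have hR'le : R' ≤ K ⊓ Subgroup.normalizer (Q : Set G) := by
    refine le_inf inf_le_right fun r hr => ?_
    by_contra hrQ
    obtain ⟨t, ht, ht1⟩ := (Subgroup.ne_bot_iff_exists_ne_one.1 hR₁1).elim fun t ht =>
      (⟨(t : G), t.2, fun h => ht (Subtype.ext h)⟩ : ∃ t ∈ R₁, t ≠ 1)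
    have he : r * t * r⁻¹ = t := by
      have h := Subgroup.mem_centralizer_iff.1 (Subgroup.commutator_eq_bot_iff_le_centralizer.1 g2 ht) r hr
      rw [h, mul_inv_cancel_right]
    exact ht1 (eq_one_of_odd hR₁.2.1 (hQtight r hrQ) ht ⟨(hR₁.1 ht).1, ⟨t, (hR₁.1 ht).1, he⟩⟩)
  have hR'T : Nat.card R' ≤ Nat.card T := hTin.card_ge hR'2 hR'le
  have hKn : ∀ a ∈ K ⊔ R₁, ∀ q ∈ K, a * q * a⁻¹ ∈ K := fun a ha q hq =>
    (Subgroup.mem_normalizer_iff.1 ((sup_le Subgroup.le_normalizer hR₁N : K ⊔ R₁ ≤ _) ha) q).1 hq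
  have hS'K : Fusion.IsSylowIn 2 (S' ⊓ K) K := hS'.inf_normal le_sup_left hKn
  have hR₁le : Nat.card R₁ ≤ Nat.card ↥(S ⊓ Q) := hSQ.card_ge hR₁.2.1 (hR₁.1.trans inf_le_left)
  have hKQ : Nat.card ↥(S' ⊓ K) = Nat.card ↥(S ⊓ Q) := by
    rw [hS'K.card, hSQ.card, hKdef, Subgroup.card_map_of_injective (f := (MulAut.conj g).toMonoidHom)
      (MulAut.conj g).injective]
  have hsurj : ∀ {A B : Subgroup G} (f : A →* B), Function.Injective f → Nat.card B ≤ Nat.card A →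
      Nonempty (A ≃* B) := fun f hf hle =>
    ⟨MulEquiv.ofBijective f ((Nat.bijective_iff_injective_and_card f).2
      ⟨hf, le_antisymm (Nat.card_le_card_of_injective f hf) hle⟩)⟩
  have hR₁T : Nat.card R₁ ≤ Nat.card T := by
    rcases g4 with ⟨f, hf⟩ | he
    · exact (Nat.card_le_card_of_injective f hf).trans hR'T
    · exact hR₁le.trans (hKQ.ge.trans ((congrArg (fun U : Subgroup G => Nat.card U) he).ge.trans hR'T))
  have hRle : Nat.card R ≤ Nat.card T := (Subgroup.card_le_of_le hRR₁).trans hR₁T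
  rcases h4 with ⟨f, hf⟩ | he
  · exact ⟨((hsurj f hf hRle).some).symm⟩
  -- `R` is a Sylow subgroup of `Q`
  have hRR : R = R₁ := Subgroup.eq_of_le_of_card_ge hRR₁ (he ▸ hR₁le)
  have hTK : Nat.card T ≤ Nat.card ↥(S ⊓ Q) := by
    rw [← hKQ]; exact hS'K.card_ge hTsyl.1 (hT.trans inf_le_left)
  rcases g4 with ⟨f, hf⟩ | he'
  · have hle : Nat.card R' ≤ Nat.card R₁ := hR'T.trans (hTK.trans (by rw [← he, hRR]))
    obtain ⟨e1⟩ := hsurj f hf hle
    have hR'syl : Fusion.IsSylowIn 2 R' (K ⊓ Subgroup.normalizer (Q : Set G)) :=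
      hTin.of_card_ge hR'2 hR'le (hTK.trans (by rw [← he, hRR, Nat.card_congr e1.toEquiv]))
    obtain ⟨e2⟩ := equiv_of_isSylowIn hTin hR'syl
    exact ⟨((MulEquiv.subgroupCongr hRR).trans e1).trans e2⟩
  · have hTsylK : Fusion.IsSylowIn 2 T K :=
      hS'K.of_card_ge hTsyl.1 (hT.trans inf_le_left) ((congrArg (fun U : Subgroup G => Nat.card U) he').ge.trans hR'T)
    have hQs := hSQ.map (MulAut.conj g)
    obtain ⟨e⟩ := equiv_of_isSylowIn hTsylK hQs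
    exact ⟨((MulEquiv.subgroupCongr he).trans ((S ⊓ Q).equivMapOfInjective _ (MulAut.conj g).injective)).trans e⟩

end Cfsg.Agent.S1910
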