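import Cfsg.Statements.S1912
import Cfsg.Agent.EqLemmas

set_option autoImplicit false
open Cfsg

namespace Cfsg.Agent.S1912

/-- Let L be a perfect subgroup and X any subgroup of a group, with [[X, L], L] = 1. Then [X, L] = 1. -/
theorem result {G : Type*} [Group G] (L X : Subgroup G) (hL : ⁅L, L⁆ = L) (h : ⁅⁅X, L⁆, L⁆ = ⊥) : ⁅X, L⁆ = ⊥ := by
  rw [Subgroup.commutator_comm X L] at h
  have h2 : ⁅⁅L, X⁆, L⁆ = ⊥ := h
  have h3 : ⁅⁅X, L⁆, L⁆ = ⊥ := by rwa [Subgroup.commutator_comm X L]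
  have key := Subgroup.commutator_commutator_eq_bot_of_rotate (H₁ := L) (H₂ := L) (H₃ := X) h2 h3
  rw [hL] at key
  rwa [Subgroup.commutator_comm X L]

end Cfsg.Agent.S1912
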