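import Cfsg.Statements.S1914
import Cfsg.Agent.Lib.Components.CyclicFour.Main

set_option autoImplicit false
open Cfsg

namespace Cfsg.Agent.S1914

open Subgroup Cfsg.Agent.Components

/-- Let A be a semisimple subgroup (a central product of quasisimple groups, A = E(A)) of a finite group and t an involution normalizing A such that the Sylow 2-subgroups of C_A(t) are cyclic of order 4. Then A has 2-rank exactly 1. -/
theorem result {G : Type*} [Group G] [Finite G] (A : Subgroup G) (hA : Cfsg.layer ↥A = ⊤)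
    (t : G) (ht : orderOf t = 2) (htA : t ∈ Subgroup.normalizer (A : Set G))
    (hC : ∀ R : Sylow 2 ↥(A ⊓ Subgroup.centralizer ({t} : Set G)), IsCyclic R ∧ Nat.card R = 4) :
    Cfsg.PRankLE 2 1 A ∧ ¬ Cfsg.PRankLE 2 0 A := by
  haveI : Fact (Nat.Prime 2) := ⟨Nat.prime_two⟩
  classical
  set Cc : Subgroup G := A ⊓ centralizer ({t} : Set G) with hCc
  have htt : t * t = 1 := by rw [← pow_two, ← ht, pow_orderOf_eq_one]
  obtain ⟨R₀⟩ : Nonempty (Sylow 2 ↥Cc) := inferInstance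
  obtain ⟨hR₀c, hR₀4⟩ := hC R₀
  have hdvd : 4 ∣ Nat.card ↥Cc := hR₀4 ▸ (R₀ : Subgroup ↥Cc).card_subgroup_dvd_card
  have hCA : Cc ≤ A := inf_le_left
  refine ⟨?_, fun h0 => ?_⟩
  swap
  · obtain ⟨x, hx⟩ := exists_prime_orderOf_dvd_card' (G := ↥Cc) 2 (dvd_trans ⟨2, rfl⟩ hdvd)
    set y : ↥A := Subgroup.inclusion hCA x
    have hy : orderOf y = 2 := by rw [orderOf_injective _ (Subgroup.inclusion_injective hCA), hx]
    have := h0 (zpowers y) inferInstance (fun a ha => by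
      obtain ⟨k, rfl⟩ := mem_zpowers_iff.1 ha
      rw [← zpow_natCast, ← zpow_mul, mul_comm, zpow_mul, zpow_natCast, ← hy, pow_orderOf_eq_one,
        one_zpow])
    rw [Nat.card_zpowers, hy] at this
    norm_num at this
  intro E hEc hE
  by_contra hcard
  simp only [pow_one, not_le] at hcard
  have hn : A ⊔ zpowers t ≤ normalizer (A : Set G) := sup_le le_normalizer (zpowers_le.2 htA)
  -- a Sylow subgroup of `C_A(t)`, extended
  set R : Subgroup G := (R₀ : Subgroup ↥Cc).map Cc.subtype with hR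
  have hRp : IsPGroup 2 ↥R := R₀.2.map _
  have hRC : R ≤ Cc := map_subtype_le _
  have htR : zpowers t ≤ normalizer (R : Set G) := by
    refine zpowers_le.2 (centralizer_le_normalizer _ (mem_centralizer_iff.2 fun x hx => ?_))
    exact mem_centralizer_singleton_iff.1 (mem_inf.1 (hRC hx)).2
  obtain ⟨P, hP, hRP⟩ := exists_max_two (p := 2) (R := R ⊔ zpowers t) (H := A ⊔ zpowers t)
    (sup_le_sup_right (hRC.trans hCA) _)
    (isPGroup_sup_of_le_normalizer hRp (isPGroup_zpowers (k := 1) (by rw [pow_one, pow_two, htt])) htR)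
  set S := P ⊓ A with hS
  have hSmax : IsMaxP 2 S A := isMax_inf_normal hP le_sup_left hn
  have hRS : R ≤ S := le_inf (le_sup_left.trans hRP) (hRC.trans hCA)
  obtain ⟨g₀, hg₀⟩ := hR₀c.exists_generator
  set r : G := ((g₀ : ↥Cc) : G)
  have hr4 : orderOf r = 4 := by
    rw [Subgroup.orderOf_coe, Subgroup.orderOf_coe, orderOf_eq_card_of_forall_mem_zpowers hg₀, hR₀4]
  have hfix : ∀ x ∈ S, t * x = x * t → x ∈ zpowers r := by
    intro x hx htx
    let W : Subgroup ↥Cc := (S ⊓ Cc).subgroupOf Cc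
    have hW : IsPGroup 2 ↥W :=
      (hSmax.2.1.to_le (inf_le_left : S ⊓ Cc ≤ S)).of_equiv (subgroupOfEquivOfLe inf_le_right).symm
    have hle : (R₀ : Subgroup ↥Cc) ≤ W := fun y hy => mem_inf.2 ⟨hRS ⟨y, hy, rfl⟩, y.2⟩
    have hWR := R₀.is_maximal' hW hle
    have hxC : x ∈ Cc := mem_inf.2 ⟨(mem_inf.1 hx).2, mem_centralizer_singleton_iff.2 htx.symm⟩
    have hxR : (⟨x, hxC⟩ : ↥Cc) ∈ (R₀ : Subgroup ↥Cc) := by
      rw [← hWR]; exact mem_inf.2 ⟨hx, hxC⟩
    obtain ⟨k, hk⟩ := mem_zpowers_iff.1 (hg₀ ⟨_, hxR⟩)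
    exact mem_zpowers_iff.2 ⟨k, congrArg (fun y : (R₀ : Subgroup ↥Cc) => ((y : ↥Cc) : G)) hk⟩
  -- the four-group inside `S`
  have hE2 : ∀ x ∈ E, (x : G) * x = 1 := fun x hx => by
    have := congrArg Subtype.val (hE x hx)
    simpa [pow_two] using this
  obtain ⟨k, -, hk⟩ := exists_conj_le_max hSmax (R := E.map A.subtype) (map_subtype_le _) (by
    rintro ⟨_, x, hx, rfl⟩
    exact ⟨1, Subtype.ext (by simpa [pow_two] using hE2 x hx)⟩)
  obtain ⟨f, g, hfE, hgE, hf1, hg1, hfg⟩ : ∃ f g : ↥A, f ∈ E ∧ g ∈ E ∧ f ≠ 1 ∧ g ≠ 1 ∧ f ≠ g := by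
    haveI : Nontrivial ↥E := Finite.one_lt_card_iff_nontrivial.1 (by omega)
    obtain ⟨⟨f, hf⟩, hf1⟩ := exists_ne (1 : ↥E)
    obtain ⟨g, hg1, hgf⟩ : ∃ g : ↥E, g ≠ 1 ∧ g ≠ ⟨f, hf⟩ := by
      by_contra! hc
      have : Nat.card ↥E ≤ Nat.card ({1, ⟨f, hf⟩} : Set ↥E) :=
        Nat.card_le_card_of_injective (fun b => ⟨b, by
          by_cases hb : b = 1
          · exact Or.inl hb
          · exact Or.inr (hc b hb)⟩) (fun x y hxy => by simpa using hxy)
      rw [Nat.card_coe_set_eq, Set.ncard_pair (Ne.symm hf1)] at this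
      omega
    exact ⟨f, g, hf, g.2, fun e => hf1 (Subtype.ext e), fun e => hg1 (Subtype.ext e),
      fun e => hgf (Subtype.ext e.symm)⟩
  have hrank : ∃ f ∈ S, ∃ g ∈ S, f * f = 1 ∧ g * g = 1 ∧ f ≠ 1 ∧ g ≠ 1 ∧ f ≠ g := by
    have hc : ∀ x ∈ E, k⁻¹ * x * k ∈ S := fun x hx => mem_conjOf.1 (hk ⟨x, hx, rfl⟩)
    refine ⟨k⁻¹ * f * k, hc f hfE, k⁻¹ * g * k, hc g hgE, ?_, ?_, ?_, ?_, ?_⟩
    · rw [show k⁻¹ * f * k * (k⁻¹ * f * k) = k⁻¹ * ((f : G) * f) * k by group, hE2 f hfE]; group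
    · rw [show k⁻¹ * g * k * (k⁻¹ * g * k) = k⁻¹ * ((g : G) * g) * k by group, hE2 g hgE]; group
    · intro e; apply hf1; apply Subtype.ext
      calc (f : G) = k * (k⁻¹ * f * k) * k⁻¹ := by group
        _ = 1 := by rw [e]; group
    · intro e; apply hg1; apply Subtype.ext
      calc (g : G) = k * (k⁻¹ * g * k) * k⁻¹ := by group
        _ = 1 := by rw [e]; group
    · intro e; apply hfg; apply Subtype.ext
      exact mul_left_cancel (mul_right_cancel e)
  refine CyclicFour.Setup.false (A := A) (S := S) (P := P) (t := t) (r := r) ⟨?_, htA, hSmax, hP, rfl,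
    hRP (mem_sup_right (mem_zpowers t)), htt, hRS ⟨(g₀ : ↥Cc), g₀.2, rfl⟩, ?_, hr4, hfix, ?_, hrank⟩
  · have hperf : ⁅(⊤ : Subgroup ↥A), (⊤ : Subgroup ↥A)⁆ = ⊤ := hA ▸ layer_perfect
    have h1 : (⁅(⊤ : Subgroup ↥A), (⊤ : Subgroup ↥A)⁆).map A.subtype = (⊤ : Subgroup ↥A).map A.subtype := by
      rw [hperf]
    rwa [map_commutator, ← MonoidHom.range_eq_map, range_subtype] at h1
  · exact (mem_centralizer_singleton_iff.1 (mem_inf.1 (g₀ : ↥Cc).2).2).symm
  · -- two commuting involutions of `C_A(t)` coincide, its Sylow subgroups being cyclic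
    intro u hu v hv hu2 hv2 hu1 hv1 huv htu htv
    have huC : u ∈ Cc := mem_inf.2 ⟨hu, mem_centralizer_singleton_iff.2 htu.symm⟩
    have hvC : v ∈ Cc := mem_inf.2 ⟨hv, mem_centralizer_singleton_iff.2 htv.symm⟩
    set u' : ↥Cc := ⟨u, huC⟩
    set v' : ↥Cc := ⟨v, hvC⟩
    have hord : ∀ x : ↥Cc, (x : G) * x = 1 → (x : G) ≠ 1 → orderOf x = 2 := fun x h2 h1 =>
      orderOf_eq_prime (Subtype.ext (by rw [Subgroup.coe_pow, pow_two, h2]; rfl))
        fun e => h1 (congrArg Subtype.val e)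
    have hD : IsPGroup 2 ↥(zpowers u' ⊔ zpowers v') := by
      refine isPGroup_sup_of_le_normalizer
        (isPGroup_zpowers (k := 1) (by rw [pow_one, ← hord u' hu2 hu1, pow_orderOf_eq_one]))
        (isPGroup_zpowers (k := 1) (by rw [pow_one, ← hord v' hv2 hv1, pow_orderOf_eq_one]))
        (zpowers_le.2 (centralizer_le_normalizer _ (mem_centralizer_iff.2 fun y hy => ?_)))
      obtain ⟨i, rfl⟩ := mem_zpowers_iff.1 hy
      exact (show Commute u' v' from Subtype.ext huv).zpow_left i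
    obtain ⟨R', hR'⟩ := hD.exists_le_sylow
    obtain ⟨hcyc, -⟩ := hC R'
    haveI : Fintype (R' : Subgroup ↥Cc) := Fintype.ofFinite _
    by_contra hne
    have h2 := IsCyclic.card_pow_eq_one_le (α := (R' : Subgroup ↥Cc)) (n := 2) two_pos
    set a : (R' : Subgroup ↥Cc) := ⟨u', hR' (mem_sup_left (mem_zpowers _))⟩
    set b : (R' : Subgroup ↥Cc) := ⟨v', hR' (mem_sup_right (mem_zpowers _))⟩
    have hsub : ({1, a, b} : Finset _) ⊆ Finset.univ.filter (fun x : (R' : Subgroup ↥Cc) => x ^ 2 = 1) := by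
      intro x hx
      simp only [Finset.mem_insert, Finset.mem_singleton] at hx
      refine Finset.mem_filter.2 ⟨Finset.mem_univ _, ?_⟩
      rcases hx with rfl | rfl | rfl
      · exact one_pow 2
      · exact Subtype.ext (Subtype.ext (by simpa [a, u', pow_two] using hu2))
      · exact Subtype.ext (Subtype.ext (by simpa [b, v', pow_two] using hv2))
    have h3 := (Finset.card_le_card hsub).trans h2
    rw [Finset.card_eq_three.2 ⟨1, a, b,
      fun e => hu1 (congrArg (fun x : (R' : Subgroup ↥Cc) => ((x : ↥Cc) : G)) e.symm),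
      fun e => hv1 (congrArg (fun x : (R' : Subgroup ↥Cc) => ((x : ↥Cc) : G)) e.symm),
      fun e => hne (congrArg (fun x : (R' : Subgroup ↥Cc) => ((x : ↥Cc) : G)) e), rfl⟩] at h3
    omega

end Cfsg.Agent.S1914
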