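import Cfsg.Statements.S1915
import Cfsg.Agent.S0111
import Cfsg.Agent.Lib.Components.Rigid
import Cfsg.Agent.Lib.Components.FourGroupRank

set_option autoImplicit false
open Cfsg

namespace Cfsg.Agent.S1915

open Subgroup Cfsg.Agent.Components

/-- Let A be a semisimple subgroup (A = E(A)) of a finite group and U a Klein four-group normalizing A. If the subgroup of A generated by the normalizers N_A(V) of the nontrivial subgroups V of U has 2-rank exactly 1, then A has 2-rank exactly 1. -/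
theorem result {G : Type*} [Group G] [Finite G] (A : Subgroup G) (hA : Cfsg.layer ↥A = ⊤)
    (U : Subgroup G) (hU : IsKleinFour U) (hUA : U ≤ Subgroup.normalizer (A : Set G))
    (hΓ : Cfsg.PRankLE 2 1 ↥(⨆ V : {V : Subgroup G // V ≤ U ∧ V ≠ ⊥}, A ⊓ Subgroup.normalizer ((V : Subgroup G) : Set G)) ∧
      ¬ Cfsg.PRankLE 2 0 ↥(⨆ V : {V : Subgroup G // V ≤ U ∧ V ≠ ⊥}, A ⊓ Subgroup.normalizer ((V : Subgroup G) : Set G))) :
    Cfsg.PRankLE 2 1 A ∧ ¬ Cfsg.PRankLE 2 0 A := by
  haveI : Fact (Nat.Prime 2) := ⟨Nat.prime_two⟩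
  classical
  set Γ := ⨆ V : {V : Subgroup G // V ≤ U ∧ V ≠ ⊥}, A ⊓ Subgroup.normalizer ((V : Subgroup G) : Set G)
  have hΓA : Γ ≤ A := iSup_le fun _ => inf_le_left
  have hex : IsKleinFour U := hU
  have hsqU : ∀ u ∈ U, u * u = 1 := fun u hu => by
    have h1 : (⟨u, hu⟩ : ↥U) ^ Monoid.exponent ↥U = 1 := Monoid.pow_exponent_eq_one _
    rw [IsKleinFour.exponent_two, pow_two] at h1
    exact congrArg Subtype.val h1
  refine ⟨?_, fun hA0 => hΓ.2 fun E hEc hE => ?_⟩
  swap
  · have h := hA0 (E.map (Subgroup.inclusion hΓA)) inferInstance (by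
      rintro _ ⟨x, hx, rfl⟩
      rw [← map_pow, hE x hx, map_one])
    rwa [card_map_of_injective (Subgroup.inclusion_injective hΓA)] at h
  -- the rank one hypothesis in elementwise form
  have hone : ∀ u ∈ U, u ≠ 1 → ∀ f ∈ A, ∀ g ∈ A, f * f = 1 → g * g = 1 → f ≠ 1 → g ≠ 1 →
      f * g = g * f → u * f = f * u → u * g = g * u → f = g := by
    intro u hu hu1 f hf g hg hf2 hg2 hf1 hg1 hfg huf hug
    have hmem : ∀ x ∈ A, u * x = x * u → x ∈ Γ := by
      intro x hx hux
      refine le_iSup (fun V : {V : Subgroup G // V ≤ U ∧ V ≠ ⊥} =>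
        A ⊓ Subgroup.normalizer ((V : Subgroup G) : Set G))
        ⟨zpowers u, zpowers_le.2 hu, fun e => hu1 (zpowers_eq_bot.1 e)⟩ ⟨hx, ?_⟩
      refine centralizer_le_normalizer _ (mem_centralizer_iff.2 fun y hy => ?_)
      obtain ⟨k, rfl⟩ := mem_zpowers_iff.1 hy
      exact (show Commute u x from hux).zpow_left k
    by_contra hne
    let f' : ↥Γ := ⟨f, hmem f hf huf⟩
    let g' : ↥Γ := ⟨g, hmem g hg hug⟩
    have hcard := hΓ.1 (closure {f', g'})
      (isMulCommutative_closure (k := {f', g'}) (by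
        rintro x (rfl | rfl) y (rfl | rfl) <;> first | rfl | exact Subtype.ext hfg | exact Subtype.ext hfg.symm))
      (fun x hx => by
        have hc : ∀ x ∈ closure {f', g'}, ∀ y ∈ closure {f', g'}, x * y = y * x := fun x hx y hy => by
          haveI : IsMulCommutative ↥(closure {f', g'}) := isMulCommutative_closure (k := {f', g'}) (by
            rintro x (rfl | rfl) y (rfl | rfl) <;> first | rfl | exact Subtype.ext hfg | exact Subtype.ext hfg.symm)
          exact congrArg Subtype.val (mul_comm' (⟨x, hx⟩ : ↥(closure {f', g'})) ⟨y, hy⟩)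
        induction hx using closure_induction with
        | mem x hx =>
          rcases hx with rfl | rfl <;> [exact Subtype.ext (by simp [f', pow_two, hf2]); exact Subtype.ext (by simp [g', pow_two, hg2])]
        | one => exact one_pow 2
        | mul x y hx hy ihx ihy => rw [(show Commute x y from hc x hx y hy).mul_pow, ihx, ihy, one_mul]
        | inv x hx ih => rw [inv_pow, ih, inv_one])
    have h3 : ({1, f', g'} : Finset ↥Γ).card ≤ Nat.card (closure {f', g'}) := by
      rw [← Nat.card_eq_finsetCard]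
      refine Nat.card_le_card_of_injective (fun x => ⟨x.1, ?_⟩) (fun x y hxy => Subtype.ext (by simpa using hxy))
      have hx := x.2
      simp only [Finset.mem_insert, Finset.mem_singleton] at hx
      rcases hx with h | h | h <;> rw [h]
      · exact one_mem _
      · exact subset_closure (Or.inl rfl)
      · exact subset_closure (Or.inr rfl)
    rw [Finset.card_eq_three.2 ⟨1, f', g', fun e => hf1 (congrArg Subtype.val e.symm),
      fun e => hg1 (congrArg Subtype.val e.symm), fun e => hne (congrArg Subtype.val e), rfl⟩] at h3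
    simp at hcard
    omega
  intro E hEc hE
  by_contra hcard
  simp only [pow_one, not_le] at hcard
  -- Sylow subgroups
  obtain ⟨P, hP, hUP⟩ := exists_max_two (p := 2) (R := U) (H := A ⊔ U) le_sup_right (by
    rintro ⟨u, hu⟩
    exact ⟨1, Subtype.ext (by simp [pow_two, hsqU u hu])⟩)
  have hn : A ⊔ U ≤ normalizer (A : Set G) := sup_le le_normalizer hUA
  have hS : IsMaxP 2 (P ⊓ A) A := isMax_inf_normal hP le_sup_left hn
  have hE2 : ∀ x ∈ E, (x : G) * x = 1 := fun x hx => by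
    have := congrArg Subtype.val (hE x hx)
    simpa [pow_two] using this
  obtain ⟨k, hkA, hk⟩ := exists_conj_le_max hS (R := E.map A.subtype) (map_subtype_le _) (by
    rintro ⟨_, x, hx, rfl⟩
    exact ⟨1, Subtype.ext (by simpa [pow_two] using hE2 x hx)⟩)
  obtain ⟨f, g, hfE, hgE, hf1, hg1, hfg⟩ : ∃ f g : ↥A, f ∈ E ∧ g ∈ E ∧ f ≠ 1 ∧ g ≠ 1 ∧ f ≠ g := by
    haveI : Nontrivial ↥E := Finite.one_lt_card_iff_nontrivial.1 (by omega)
    obtain ⟨⟨f, hf⟩, hf1⟩ := exists_ne (1 : ↥E)
    obtain ⟨g, hg1, hgf⟩ : ∃ g : ↥E, g ≠ 1 ∧ g ≠ ⟨f, hf⟩ := by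
      by_contra! hc
      have : Nat.card ↥E ≤ Nat.card ({1, ⟨f, hf⟩} : Set ↥E) :=
        Nat.card_le_card_of_injective (fun b => ⟨b, by
          by_cases hb : b = 1
          · exact Or.inl hb
          · exact Or.inr (hc b hb)⟩) (fun x y hxy => by simpa using hxy)
      rw [Nat.card_coe_set_eq, Set.ncard_pair (Ne.symm hf1)] at this
      omega
    exact ⟨f, g, hf, g.2, fun e => hf1 (Subtype.ext e), fun e => hg1 (Subtype.ext e),
      fun e => hgf (Subtype.ext e.symm)⟩
  have hPA : ∀ p ∈ P, ∀ x ∈ P ⊓ A, p * x * p⁻¹ ∈ P ⊓ A := fun p hp x hx =>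
    mem_inf.2 ⟨mul_mem (mul_mem hp (mem_inf.1 hx).1) (inv_mem hp),
      (mem_normalizer_iff.1 (hn (hP.1 hp)) x).1 (mem_inf.1 hx).2⟩
  have hcomm : ∀ {f g : G}, f ∈ P ⊓ A → g ∈ P ⊓ A → f * f = 1 → g * g = 1 → f ≠ 1 → g ≠ 1 →
      ∀ u ∈ U, u ≠ 1 → u * f = f * u → u * g = g * u → f = g := by
    intro f g hf hg hf2 hg2 hf1 hg1 u hu hu1 huf hug
    -- a central involution of `C_S(u)` joins any two
    let D : Subgroup G := (P ⊓ A) ⊓ centralizer {u}
    have hD : ∀ x, x ∈ D ↔ x ∈ P ⊓ A ∧ u * x = x * u := fun x => by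
      simp [D, mem_centralizer_singleton_iff, eq_comm]
    have hDp : IsPGroup 2 ↥D := hS.2.1.to_le inf_le_left
    haveI : Nontrivial ↥D := ⟨⟨⟨f, (hD f).2 ⟨hf, huf⟩⟩, 1, fun e => hf1 (congrArg Subtype.val e)⟩⟩
    obtain ⟨y, -, hyc, hy⟩ := PGroup.exists_central_order_p (p := 2) hDp (N := (⊤ : Subgroup ↥D))
      top_ne_bot
    have hy2 : (y : G) * y = 1 := by
      have := pow_orderOf_eq_one y
      rw [hy, pow_two] at this
      exact congrArg Subtype.val this
    have hy1 : (y : G) ≠ 1 := fun e => by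
      rw [show y = 1 from Subtype.ext e] at hy; simp at hy
    have key : ∀ x ∈ P ⊓ A, x * x = 1 → x ≠ 1 → u * x = x * u → x = (y : G) := fun x hx hx2 hx1 hux =>
      hone u hu hu1 x (mem_inf.1 hx).2 y (mem_inf.1 ((hD y).1 y.2).1).2 hx2 hy2 hx1 hy1
        (congrArg Subtype.val (mem_center_iff.1 hyc ⟨x, (hD x).2 ⟨hx, hux⟩⟩)) hux ((hD y).1 y.2).2
    rw [key f hf hf2 hf1 huf, key g hg hg2 hg1 hug]
  have setup : FourRank.Setup (P ⊓ A) U P := by
    refine ⟨hP.2.1, inf_le_left, hUP, hPA, fun q hq => ?_, hU,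
      fun u hu hu1 f hf g hg hf2 hg2 hf1 hg1 => hcomm hf hg hf2 hg2 hf1 hg1 u hu hu1, ?_⟩
    · have hq' : q ∈ ((A ⊔ U : Subgroup G) : Set G) := hP.1 hq
      rw [Subgroup.coe_mul_of_right_le_normalizer_left A U hUA, Set.mem_mul] at hq'
      obtain ⟨x, hx, u, hu, rfl⟩ := hq'
      exact ⟨x, mem_inf.2 ⟨by simpa using mul_mem hq (inv_mem (hUP hu)), hx⟩, u, hu, rfl⟩
    · have hc : ∀ x ∈ E, k⁻¹ * x * k ∈ P ⊓ A := fun x hx => mem_conjOf.1 (hk ⟨x, hx, rfl⟩)
      refine ⟨k⁻¹ * f * k, hc f hfE, k⁻¹ * g * k, hc g hgE, ?_, ?_, ?_, ?_, ?_⟩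
      · rw [show k⁻¹ * f * k * (k⁻¹ * f * k) = k⁻¹ * ((f : G) * f) * k by group, hE2 f hfE]; group
      · rw [show k⁻¹ * g * k * (k⁻¹ * g * k) = k⁻¹ * ((g : G) * g) * k by group, hE2 g hgE]; group
      · intro e; apply hf1; apply Subtype.ext
        calc (f : G) = k * (k⁻¹ * f * k) * k⁻¹ := by group
          _ = 1 := by rw [e]; group
      · intro e; apply hg1; apply Subtype.ext
        calc (g : G) = k * (k⁻¹ * g * k) * k⁻¹ := by group
          _ = 1 := by rw [e]; group
      · intro e; apply hfg; apply Subtype.ext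
        exact mul_left_cancel (mul_right_cancel e)
  obtain ⟨z, e, hzS, hzc, heS, heo, hez, ⟨c, hcP, hce, hcz⟩, ⟨M, hMS, hMi, heM, hMone⟩, hsq⟩ :=
    setup.exists_data
  -- fusion: `e` is conjugate to `z` in `A`
  have hperf : ⁅(⊤ : Subgroup ↥A), (⊤ : Subgroup ↥A)⁆ = ⊤ := hA ▸ layer_perfect
  let P₀ : Sylow 2 ↥A :=
    { toSubgroup := (P ⊓ A).subgroupOf A
      isPGroup' := hS.2.1.of_equiv (subgroupOfEquivOfLe inf_le_right).symm
      is_maximal' := fun {Q} hQ hle => by
        have := hS.2.2 (Q.map A.subtype) (map_subtype_le _) (hQ.map _) fun x hx =>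
          ⟨⟨x, hx.2⟩, hle (mem_subgroupOf.2 hx), rfl⟩
        rw [← this]
        exact (comap_map_eq_self_of_injective A.subtype_injective Q).symm }
  obtain ⟨r, hr⟩ : ∃ r : ↥A, (r : G) * e * (r : G)⁻¹ = z := by
    rcases S0111.result P₀ (M.subgroupOf A) (fun x hx => hMS hx) (by
        rw [relIndex_subgroupOf (K := P ⊓ A) inf_le_right]; exact hMi)
      ⟨e, (mem_inf.1 heS).2⟩ (by rw [← Subgroup.orderOf_coe]; exact heo) heS heM with ⟨N, hN, hNi, -⟩ | ⟨r, hr⟩
    · have : IsMulCommutative (↥A ⧸ N) := by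
        haveI : IsCyclic (↥A ⧸ N) := isCyclic_of_prime_card (p := 2) (by rw [← index_eq_card, hNi])
        infer_instance
      have hle := Subgroup.Normal.quotient_commutative_iff_commutator_le.1 this
      rw [commutator_def, hperf, top_le_iff] at hle
      rw [hle, index_top] at hNi
      omega
    · refine ⟨r, ?_⟩
      have he2 : e * e = 1 := by rw [← pow_two, ← heo, pow_orderOf_eq_one]
      refine (hMone _ hr ?_).resolve_left fun h1 => ?_
      · show (r : G) * e * (r : G)⁻¹ * ((r : G) * e * (r : G)⁻¹) = 1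
        rw [show (r : G) * e * (r : G)⁻¹ * ((r : G) * e * (r : G)⁻¹) = (r : G) * (e * e) * (r : G)⁻¹ by group, he2]
        group
      · have : (r : G) * e * (r : G)⁻¹ = 1 := h1
        rw [conj_eq_one_iff] at this
        rw [this] at heo
        simp at heo
  -- `c` centralizes `e`, so lies in a Sylow subgroup with `e` as the only square involution
  have he2 : e * e = 1 := by rw [← pow_two, ← heo, pow_orderOf_eq_one]
  have hrH : (r : G) ∈ A ⊔ U := mem_sup_left r.2
  let H : Subgroup G := (A ⊔ U) ⊓ centralizer {e}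
  have hQ : IsMaxP 2 (conjOf P (r : G)⁻¹) H := by
    refine ⟨fun x hx => ⟨?_, mem_centralizer_singleton_iff.2 ?_⟩, hP.2.1.map _, fun R hRH hR hle => ?_⟩
    · have h1 := mem_conjOf.1 hx
      rw [inv_inv] at h1
      have := mul_mem (mul_mem (inv_mem hrH) (hP.1 h1)) hrH
      simpa [mul_assoc] using this
    · have h1 := mem_conjOf.1 hx
      rw [inv_inv] at h1
      have h2 := hzc _ h1
      rw [← hr] at h2
      calc x * e = (r : G)⁻¹ * ((r : G) * x * (r : G)⁻¹ * ((r : G) * e * (r : G)⁻¹)) * r := by group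
        _ = (r : G)⁻¹ * ((r : G) * e * (r : G)⁻¹ * ((r : G) * x * (r : G)⁻¹)) * r := by rw [h2]
        _ = e * x := by group
    · obtain ⟨a, -, ha⟩ := exists_conj_le_max hP (hRH.trans inf_le_left) hR
      exact (Subgroup.eq_of_le_of_card_ge hle (by
        rw [card_conjOf]; exact (Subgroup.card_le_of_le ha).trans (card_conjOf P a).le)).symm
  have hce' : c ∈ H := ⟨hP.1 hcP, mem_centralizer_singleton_iff.2 hce⟩
  obtain ⟨a, haH, ha⟩ := exists_conj_le_max hQ (zpowers_le.2 hce') (hP.2.1.to_le (zpowers_le.2 hcP))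
  have h1 := mem_conjOf.1 (mem_conjOf.1 (ha (mem_zpowers c)))
  rw [inv_inv] at h1
  set d := (r : G) * (a⁻¹ * c * a) * (r : G)⁻¹
  have hd : d * d = (r : G) * (a⁻¹ * z * a) * (r : G)⁻¹ := by rw [← hcz]; simp [d, mul_assoc]
  have hz2 : z * z = 1 := by
    rw [← hr, show (r : G) * e * (r : G)⁻¹ * ((r : G) * e * (r : G)⁻¹) = (r : G) * (e * e) * (r : G)⁻¹ by group,
      he2]; group
  have hdz : d * d = z := by
    refine (hsq d h1 ?_).resolve_left fun h2 => ?_
    · rw [hd, show (r : G) * (a⁻¹ * z * a) * (r : G)⁻¹ * ((r : G) * (a⁻¹ * z * a) * (r : G)⁻¹) =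
        (r : G) * (a⁻¹ * (z * z) * a) * (r : G)⁻¹ by group, hz2]
      group
    · rw [hd, conj_eq_one_iff] at h2
      have hz1 : z = 1 := by
        calc z = a * (a⁻¹ * z * a) * a⁻¹ := by group
          _ = 1 := by rw [h2]; group
      rw [hz1, conj_eq_one_iff] at hr
      rw [hr] at heo
      simp at heo
  have hae : a * e = e * a := mem_centralizer_singleton_iff.1 haH.2
  apply hez
  rw [hd] at hdz
  conv_rhs at hdz => rw [← hr]
  have h3 : a⁻¹ * z * a = e := mul_left_cancel (mul_right_cancel hdz)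
  calc e = (e * a) * a⁻¹ := by group
    _ = a * (a⁻¹ * z * a) * a⁻¹ := by rw [← hae, h3]
    _ = z := by group

end Cfsg.Agent.S1915
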