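import Cfsg.Statements.S1921
import Cfsg.Agent.Lib.Components.PComponent

set_option autoImplicit false
open Cfsg

namespace Cfsg.Agent.S1921

open scoped Pointwise

/-- Let a be an involution of a finite group H and L a component of H with a L a⁻¹ ≠ L; put M = ⟨L, aLa⁻¹⟩ and let J be the subgroup generated by the elements x · a x a⁻¹ with x ∈ L (the diagonal). Then every element of M outside J·Z(M) generates M together with J. -/
theorem result {H : Type*} [Group H] [Finite H] (a : H) (ha : orderOf a = 2) (L : Subgroup H) (hL : Cfsg.IsComponent L)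
    (hLa : L.map (MulAut.conj a).toMonoidHom ≠ L) (x : H) (hxM : x ∈ L ⊔ L.map (MulAut.conj a).toMonoidHom)
    (hxJ : x ∉ Subgroup.closure {y : H | ∃ l ∈ L, y = l * (a * l * a⁻¹)} ⊔
      ((L ⊔ L.map (MulAut.conj a).toMonoidHom) ⊓ Subgroup.centralizer ((L ⊔ L.map (MulAut.conj a).toMonoidHom : Subgroup H) : Set H))) :
    Subgroup.closure {y : H | ∃ l ∈ L, y = l * (a * l * a⁻¹)} ⊔ Subgroup.zpowers x = L ⊔ L.map (MulAut.conj a).toMonoidHom := by
  set La := L.map (MulAut.conj a).toMonoidHom with hLa'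
  set J := Subgroup.closure {y : H | ∃ l ∈ L, y = l * (a * l * a⁻¹)} with hJ
  set M := L ⊔ La with hM
  have hperf := Cfsg.Agent.Components.IsComponent.perfect hL
  have hc : ∀ u ∈ L, ∀ v ∈ La, u * v = v * u := fun u hu v hv =>
    ((Subgroup.commutator_eq_bot_iff_le_centralizer.mp
      (Cfsg.Agent.Components.IsComponent.commutator_eq_bot hL
        (Cfsg.Agent.Components.IsComponent.conj hL a) (Ne.symm hLa))) hu v hv).symm
  have hmemLa : ∀ l ∈ L, a * l * a⁻¹ ∈ La := fun l hl => ⟨l, hl, rfl⟩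
  have hJmem : ∀ l ∈ L, l * (a * l * a⁻¹) ∈ J := fun l hl =>
    Subgroup.subset_closure ⟨l, hl, rfl⟩
  have hJM : J ≤ M := (Subgroup.closure_le _).mpr (by
    rintro _ ⟨l, hl, rfl⟩
    exact Subgroup.mul_mem_sup hl (hmemLa l hl))
  set N := J ⊔ Subgroup.zpowers x with hN
  have hNM : N ≤ M := sup_le hJM (Subgroup.zpowers_le.mpr hxM)
  have hdec : x ∈ (L : Set H) * (La : Set H) := by
    rw [← Subgroup.coe_mul_of_left_le_normalizer_right]
    · exact hxM
    · rw [Subgroup.le_normalizer_iff_commutator_le_right,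
        Cfsg.Agent.Components.IsComponent.commutator_eq_bot hL
          (Cfsg.Agent.Components.IsComponent.conj hL a) (Ne.symm hLa)]
      exact bot_le
  obtain ⟨l1, hl1, _, ⟨l2, hl2, rfl⟩, hx⟩ := Set.mem_mul.mp hdec
  simp only [MulEquiv.coe_toMonoidHom, MulAut.conj_apply] at hx
  set w := l1 * l2⁻¹ with hw
  have hwx : x = w * (l2 * (a * l2 * a⁻¹)) := by rw [← hx, hw]; group
  have hwN : w ∈ N := by
    have h1 := N.mul_mem ((le_sup_right : _ ≤ N) (Subgroup.mem_zpowers x))
      (N.inv_mem ((le_sup_left : _ ≤ N) (hJmem l2 hl2)))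
    rwa [hwx, mul_inv_cancel_right] at h1
  have hwL : w ∈ L := L.mul_mem hl1 (L.inv_mem hl2)
  have hconjL : ∀ l ∈ L, ∀ u ∈ L,
      (l * (a * l * a⁻¹)) * u * (l * (a * l * a⁻¹))⁻¹ = l * u * l⁻¹ := by
    intro l hl u hu
    calc (l * (a * l * a⁻¹)) * u * (l * (a * l * a⁻¹))⁻¹
        = l * ((a * l * a⁻¹) * u * (a * l * a⁻¹)⁻¹) * l⁻¹ := by group
      _ = l * u * l⁻¹ := by rw [← hc u hu _ (hmemLa l hl), mul_inv_cancel_right]
  let B : Subgroup ↥L := N.subgroupOf L
  have hBn : B.Normal := ⟨fun b hb l => by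
    refine Subgroup.mem_subgroupOf.mpr ?_
    have hlN : (l : H) * (a * l * a⁻¹) ∈ N := (le_sup_left : _ ≤ N) (hJmem _ l.2)
    have h1 := N.mul_mem (N.mul_mem hlN (Subgroup.mem_subgroupOf.mp hb)) (N.inv_mem hlN)
    rw [hconjL _ l.2 _ b.2] at h1
    simpa using h1⟩
  have hLN : L ≤ N := by
    rcases Cfsg.Agent.Components.IsQuasisimple.normal_eq_top_or_le_center hL.2 B with h | h
    · exact Subgroup.subgroupOf_eq_top.mp h
    · exfalso
      apply hxJ
      have hwc : w ∈ Subgroup.centralizer (M : Set H) := by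
        have hle : M ≤ Subgroup.centralizer ({w} : Set H) := by
          refine sup_le (fun u hu y hy => ?_) (fun u hu y hy => ?_) <;>
            rw [Set.mem_singleton_iff] at hy <;> subst hy
          · exact (congrArg Subtype.val (Subgroup.mem_center_iff.mp
              (h (show (⟨w, hwL⟩ : ↥L) ∈ B from hwN)) ⟨u, hu⟩)).symm
          · exact hc w hwL u hu
        exact fun u hu => (hle hu w rfl).symm
      rw [hwx]
      exact Subgroup.mul_mem _
        ((le_sup_right : _ ≤ J ⊔ (M ⊓ Subgroup.centralizer (M : Set H))) ⟨(le_sup_left : L ≤ M) hwL, hwc⟩)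
        ((le_sup_left : _ ≤ J ⊔ (M ⊓ Subgroup.centralizer (M : Set H))) (hJmem l2 hl2))
  refine le_antisymm hNM (sup_le hLN ?_)
  rintro _ ⟨l, hl, rfl⟩
  have h1 := N.mul_mem (N.inv_mem (hLN hl)) ((le_sup_left : _ ≤ N) (hJmem l hl))
  simpa using h1

end Cfsg.Agent.S1921
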