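import Cfsg.Statements.S1922
import Cfsg.Agent.EqLemmas
import Mathlib.GroupTheory.Sylow
import Mathlib.GroupTheory.Perm.Cycle.Type

set_option autoImplicit false
open Cfsg

namespace Cfsg.Agent.S1922

variable {G : Type*} [Group G] [Finite G]

/-- An involution with exactly one fixed point acts on a set of odd size. -/
theorem odd_card_of_involutive {α : Type*} [Finite α] (f : α → α) (hf : Function.Involutive f)
    (a : α) (ha : f a = a) (huniq : ∀ b, f b = b → b = a) : Odd (Nat.card α) := by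
  classical
  haveI := Fintype.ofFinite α
  have h := Equiv.Perm.card_fixedPoints_modEq (p := 2) (f := f) (n := 1)
    (by funext x; exact hf x)
  have h1 : Fintype.card (Function.fixedPoints f) = 1 :=
    Fintype.card_eq_one_iff.mpr ⟨⟨a, ha⟩, fun b => Subtype.ext (huniq b b.2)⟩
  rw [h1] at h
  rw [Nat.card_eq_fintype_card, Nat.odd_iff]
  exact h

theorem mem_map_conj_iff (H : Subgroup G) (g x : G) :
    x ∈ H.map (MulAut.conj g).toMonoidHom ↔ g⁻¹ * x * g ∈ H := by
  refine ⟨?_, fun h => ⟨_, h, by simp [mul_assoc]⟩⟩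
  rintro ⟨y, hy, rfl⟩
  simpa [mul_assoc] using hy

/-- Elements of odd order are determined by their squares. -/
theorem eq_of_sq_eq {x y : G} (hx : Odd (orderOf x)) (hy : Odd (orderOf y))
    (h : x ^ 2 = y ^ 2) : x = y := by
  obtain ⟨j, hj⟩ := hx.mul hy
  have hx' : x ^ (2 * j + 1) = 1 := orderOf_dvd_iff_pow_eq_one.mp (hj ▸ dvd_mul_right _ _)
  have hy' : y ^ (2 * j + 1) = 1 := orderOf_dvd_iff_pow_eq_one.mp (hj ▸ dvd_mul_left _ _)
  calc x = (x ^ 2) ^ (j + 1) := by
        rw [← pow_mul, show 2 * (j + 1) = (2 * j + 1) + 1 by ring, pow_succ, hx', one_mul]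
    _ = (y ^ 2) ^ (j + 1) := by rw [h]
    _ = y := by
        rw [← pow_mul, show 2 * (j + 1) = (2 * j + 1) + 1 by ring, pow_succ, hy', one_mul]

variable {z : G} {H : Subgroup G}

/-- Under (1), `z` is central in a Sylow `2`-subgroup. -/
theorem exists_central_sylow (hz : orderOf z = 2) (hH : H ≠ ⊤)
    (hc : ∀ g : G, g * z * g⁻¹ ∈ H ↔ g ∈ H)
    (h1 : ∀ t : G, IsConj z t → t ≠ z → t * z = z * t → ∀ g : G, g⁻¹ * (z * t) * g ∈ H ↔ g ∈ H) :
    ∃ P : Sylow 2 G, z ∈ (Subgroup.center ↥(P : Subgroup G)).map (P : Subgroup G).subtype := by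
  classical
  have hzz : z * z = 1 := by rw [← pow_two, ← hz, pow_orderOf_eq_one]
  have hzi : z⁻¹ = z := inv_eq_of_mul_eq_one_right hzz
  have hzH : z ∈ H := by simpa using (hc 1).mpr (one_mem H)
  -- involutions in the class of `z`
  have hinv : ∀ c : G, (c * z * c⁻¹) * (c * z * c⁻¹) = 1 := fun c => by
    rw [show c * z * c⁻¹ * (c * z * c⁻¹) = c * (z * z) * c⁻¹ by group, hzz, mul_one, mul_inv_cancel]
  have hCH : ∀ x : G, x * z = z * x → x ∈ H := fun x hx => (hc x).mp (by
    rw [hx, mul_inv_cancel_right]; exact hzH)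
  -- products with conjugates outside `H` have odd order
  have hodd : ∀ c : G, c ∉ H → Odd (orderOf (z * (c * z * c⁻¹))) := by
    intro c hcH
    by_contra hne
    rw [Nat.not_odd_iff_even] at hne
    obtain ⟨m, hm⟩ := hne
    set d := z * (c * z * c⁻¹) with hd
    have hdm : d ^ m * d ^ m = 1 := by rw [← pow_add, ← hm, pow_orderOf_eq_one]
    have hzd : z * d * z = d⁻¹ := by
      rw [hd, mul_inv_rev, hzi, show z * (z * (c * z * c⁻¹)) * z = (z * z) * (c * z * c⁻¹) * z by group,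
        hzz, one_mul, inv_eq_of_mul_eq_one_right (hinv c)]
    have hzdk : ∀ k : ℕ, z * d ^ k * z = (d ^ k)⁻¹ := by
      intro k
      induction k with
      | zero => simp [hzz]
      | succ k ih =>
        calc z * d ^ (k + 1) * z = (z * d ^ k * z) * (z * d * z) := by
              rw [pow_succ]
              simp only [mul_assoc]
              rw [← mul_assoc z z, hzz, one_mul]
          _ = (d ^ (k + 1))⁻¹ := by rw [ih, hzd, ← mul_inv_rev, ← pow_succ']
    set w := d ^ m with hw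
    have hwi : w⁻¹ = w := inv_eq_of_mul_eq_one_right hdm
    have hwz : z * w = w * z := by
      have h := hzdk m
      rw [← hw, hwi] at h
      calc z * w = z * w * z * z := by rw [mul_assoc (z * w), hzz, mul_one]
        _ = w * z := by rw [h]
    have hw1 : w ≠ 1 := by
      intro h
      have h2 := orderOf_dvd_of_pow_eq_one h
      have h3 := orderOf_pos d
      have h4 := Nat.le_of_dvd (by omega) h2
      omega
    have htz : z * w ≠ z := fun h => hw1 (by simpa using h)
    have htc : z * w * z = z * (z * w) := by rw [mul_assoc, ← hwz]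
    have htconj : IsConj z (z * w) := by
      have key : ∀ i : ℕ, (d ^ i)⁻¹ * z * d ^ i = z * d ^ (2 * i) := fun i => by
        have h := hzdk i
        rw [← h, two_mul, pow_add]
        simp only [mul_assoc]
        rw [← mul_assoc z z, hzz, one_mul]
      rcases Nat.even_or_odd m with ⟨i, hi⟩ | ⟨i, hi⟩
      · exact isConj_iff.mpr ⟨(d ^ i)⁻¹, by rw [inv_inv, key, hw, hi, two_mul]⟩
      · refine isConj_iff.mpr ⟨(d ^ i)⁻¹ * c, ?_⟩
        have hzdc : z * d = c * z * c⁻¹ := by rw [hd, ← mul_assoc, hzz, one_mul]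
        calc (d ^ i)⁻¹ * c * z * ((d ^ i)⁻¹ * c)⁻¹ = (d ^ i)⁻¹ * (z * d) * d ^ i := by
              rw [hzdc]; group
          _ = ((d ^ i)⁻¹ * z * d ^ i) * d := by
              rw [mul_assoc ((d ^ i)⁻¹ * z), ← pow_succ, pow_succ']; group
          _ = z * w := by rw [key, mul_assoc, ← pow_succ, ← hi]
    have hiff := h1 _ htconj htz htc c
    rw [← mul_assoc z z, hzz, one_mul] at hiff
    apply hcH
    refine hiff.mp (hCH _ ?_)
    have hds : w * (c * z * c⁻¹) = (c * z * c⁻¹) * w := by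
      have hzdc : z * d = c * z * c⁻¹ := by rw [hd, ← mul_assoc, hzz, one_mul]
      have hwd : w * d = d * w := by rw [hw, ← pow_succ, ← pow_succ']
      rw [← hzdc, ← mul_assoc, ← hwz, mul_assoc, hwd, ← mul_assoc z d w]
    calc c⁻¹ * w * c * z = c⁻¹ * (w * (c * z * c⁻¹)) * c := by group
      _ = z * (c⁻¹ * w * c) := by rw [hds]; group
  obtain ⟨g, hg⟩ : ∃ g : G, g ∉ H := by
    by_contra h; push Not at h; exact hH ((Subgroup.eq_top_iff' H).mpr h)
  -- the conjugates of `z` in `H` and those moving `H` to `gH`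
  let A := {u : G // IsConj z u ∧ u ∈ H}
  let R := {r : G // IsConj z r ∧ g⁻¹ * r ∈ H}
  have hAR : Nat.card R = Nat.card A := by
    have hmem : ∀ r : R, IsConj z ((g⁻¹ * r.1) * z * (g⁻¹ * r.1)⁻¹) ∧
        (g⁻¹ * r.1) * z * (g⁻¹ * r.1)⁻¹ ∈ H := fun r =>
      ⟨isConj_iff.mpr ⟨_, rfl⟩, (hc _).mpr r.2.2⟩
    refine Nat.card_congr (Equiv.ofBijective (fun r : R => (⟨_, hmem r⟩ : A)) ⟨?_, ?_⟩)
    · intro r r' h
      have h' : r.1 * z * r.1⁻¹ = r'.1 * z * r'.1⁻¹ := by
        have := congrArg (fun u : A => g * u.1 * g⁻¹) h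
        simpa [mul_assoc] using this
      obtain ⟨⟨c, hc1⟩, hr⟩ := (show (∃ c, c * z * c⁻¹ = r.1) ∧ g⁻¹ * r.1 ∈ H from
        ⟨isConj_iff.mp r.2.1, r.2.2⟩)
      obtain ⟨⟨c', hc1'⟩, hr'⟩ := (show (∃ c, c * z * c⁻¹ = r'.1) ∧ g⁻¹ * r'.1 ∈ H from
        ⟨isConj_iff.mp r'.2.1, r'.2.2⟩)
      have hcn : c ∉ H := fun h0 => hg (by
        have : r.1 ∈ H := hc1 ▸ (hc c).mpr h0
        have := mul_mem this (inv_mem hr)
        simpa using this)
      have hcn' : c' ∉ H := fun h0 => hg (by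
        have : r'.1 ∈ H := hc1' ▸ (hc c').mpr h0
        have := mul_mem this (inv_mem hr')
        simpa using this)
      have ho := hodd c hcn
      have ho' := hodd c' hcn'
      rw [hc1] at ho
      rw [hc1'] at ho'
      have hri : r.1⁻¹ = r.1 := inv_eq_of_mul_eq_one_right (hc1 ▸ hinv c)
      have hri' : r'.1⁻¹ = r'.1 := inv_eq_of_mul_eq_one_right (hc1' ▸ hinv c')
      rw [hri, hri'] at h'
      refine Subtype.ext (mul_left_cancel (eq_of_sq_eq ho ho' ?_))
      rw [pow_two, pow_two]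
      simpa [mul_assoc] using congrArg (z * ·) h'
    · rintro ⟨u, hu, huH⟩
      obtain ⟨a, rfl⟩ := isConj_iff.mp hu
      have haH : a ∈ H := (hc a).mp huH
      have hga : g * a ∉ H := fun h => hg (by simpa using mul_mem h (inv_mem haH))
      obtain ⟨m, hm⟩ := hodd _ hga
      set s := (g * a) * z * (g * a)⁻¹ with hs
      set d := z * s with hd
      have hdpow : d ^ (2 * m + 1) = 1 := hm ▸ pow_orderOf_eq_one d
      have hss : s * s = 1 := hinv _
      have hzd : z * d = s := by rw [hd, ← mul_assoc, hzz, one_mul]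
      have hzdi : z * d * z = d⁻¹ := by
        rw [hzd, hd, mul_inv_rev, hzi, inv_eq_of_mul_eq_one_right hss]
      have hzdk : ∀ k : ℕ, z * d ^ k * z = (d ^ k)⁻¹ := by
        intro k
        induction k with
        | zero => simp [hzz]
        | succ k ih =>
          calc z * d ^ (k + 1) * z = (z * d ^ k * z) * (z * d * z) := by
                rw [pow_succ]
                simp only [mul_assoc]
                rw [← mul_assoc z z, hzz, one_mul]
            _ = (d ^ (k + 1))⁻¹ := by rw [ih, hzdi, ← mul_inv_rev, ← pow_succ']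
      have key : ∀ i : ℕ, (d ^ i)⁻¹ * z * d ^ i = z * d ^ (2 * i) := fun i => by
        rw [← hzdk i, two_mul, pow_add]
        simp only [mul_assoc]
        rw [← mul_assoc z z, hzz, one_mul]
      set j := m + 1 with hj
      set r := z * d ^ j with hr
      have hrconj : IsConj z r := by
        refine isConj_iff.mpr ⟨(d ^ (j * j))⁻¹, ?_⟩
        rw [inv_inv, key, hr, show 2 * (j * j) = (2 * m + 1) * j + j by rw [hj]; ring,
          pow_add, pow_mul, hdpow, one_pow, one_mul]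
      have hrz : r * z * r⁻¹ = s := by
        rw [hr, mul_inv_rev, hzi, ← hzdk j]
        have : z * d ^ j * z * (z * d ^ j * z * z) = z * d ^ (2 * j) := by
          rw [two_mul, pow_add d j j]
          simp only [mul_assoc]
          rw [hzz, mul_one, ← mul_assoc z z, hzz, one_mul]
        rw [this, show 2 * j = (2 * m + 1) + 1 by omega, pow_succ, hdpow, one_mul, hzd]
      have heq : (g⁻¹ * r) * z * (g⁻¹ * r)⁻¹ = a * z * a⁻¹ := by
        calc (g⁻¹ * r) * z * (g⁻¹ * r)⁻¹ = g⁻¹ * (r * z * r⁻¹) * g := by group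
          _ = a * z * a⁻¹ := by rw [hrz, hs]; group
      exact ⟨⟨r, hrconj, (hc _).mp (heq.symm ▸ huH)⟩, Subtype.ext heq⟩
  obtain ⟨r0⟩ : Nonempty R := by
    have : 0 < Nat.card R := hAR ▸
      (haveI : Nonempty A := ⟨⟨z, IsConj.refl z, hzH⟩⟩; Nat.card_pos)
    exact (Nat.card_pos_iff.mp this).1
  have hRinv : ∀ r : R, r.1⁻¹ = r.1 := fun r => by
    obtain ⟨c, hc1⟩ := isConj_iff.mp r.2.1
    exact inv_eq_of_mul_eq_one_right (hc1 ▸ hinv c)
  have hrg : ∀ r : R, r.1 * g ∈ H := fun r => by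
    have := inv_mem r.2.2
    rwa [mul_inv_rev, inv_inv, hRinv] at this
  have hRodd : Odd (Nat.card R) := by
    have hmem : ∀ r : R, IsConj z (r0.1 * r.1 * r0.1⁻¹) ∧ g⁻¹ * (r0.1 * r.1 * r0.1⁻¹) ∈ H :=
      fun r => ⟨r.2.1.trans (isConj_iff.mpr ⟨_, rfl⟩), by
        have := mul_mem (mul_mem r0.2.2 (hrg r)) r0.2.2
        rw [hRinv]
        simpa [mul_assoc] using this⟩
    refine odd_card_of_involutive (fun r : R => ⟨_, hmem r⟩) (fun r => Subtype.ext ?_) r0
      (Subtype.ext (by simp)) fun r hr => ?_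
    · show r0.1 * (r0.1 * r.1 * r0.1⁻¹) * r0.1⁻¹ = r.1
      rw [hRinv]
      have h2 : r0.1 * r0.1 = 1 := by
        nth_rewrite 2 [← hRinv r0]
        exact mul_inv_cancel _
      simp only [mul_assoc]
      rw [h2, mul_one, ← mul_assoc, h2, one_mul]
    · by_contra hne
      have hcom : r0.1 * r.1 = r.1 * r0.1 :=
        mul_inv_eq_iff_eq_mul.mp (congrArg Subtype.val hr)
      obtain ⟨c, hc1⟩ := isConj_iff.mp r0.2.1
      set t := c⁻¹ * r.1 * c with ht
      have ht1 : IsConj z t := r.2.1.trans (isConj_iff.mpr ⟨c⁻¹, by rw [inv_inv]⟩)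
      have htz : t ≠ z := fun h => hne (Subtype.ext (by
        calc r.1 = c * t * c⁻¹ := by rw [ht]; group
          _ = r0.1 := by rw [h, hc1]))
      have htc : t * z = z * t := by
        calc t * z = c⁻¹ * (r.1 * (c * z * c⁻¹)) * c := by rw [ht]; group
          _ = c⁻¹ * ((c * z * c⁻¹) * r.1) * c := by rw [hc1, hcom]
          _ = z * t := by rw [ht]; group
      have hzt : z * t = c⁻¹ * (r0.1 * r.1) * c := by rw [← hc1, ht]; group
      have hi := h1 t ht1 htz htc
      have hm1 : c⁻¹ ∈ H := (hi c⁻¹).mp (by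
        rw [hzt]
        have := mul_mem (hrg r0) r.2.2
        simpa [mul_assoc] using this)
      have hm2 : c⁻¹ * g ∈ H := (hi _).mp (by
        rw [hzt]
        have := mul_mem r0.2.2 (hrg r)
        simpa [mul_assoc] using this)
      exact hg (by simpa using mul_mem (inv_mem hm1) hm2)
  -- indices
  set Cz := Subgroup.centralizer ({z} : Set G) with hCz
  have hCzH : Cz ≤ H := fun x hx => hCH x (Subgroup.mem_centralizer_singleton_iff.mp hx).symm.symm
  have hAcard : Nat.card A = Cz.relIndex H := by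
    symm
    refine Nat.card_congr (Equiv.ofBijective (Quotient.lift
      (fun h : H => (⟨h.1 * z * h.1⁻¹, isConj_iff.mpr ⟨_, rfl⟩, (hc _).mpr h.2⟩ : A)) ?_) ⟨?_, ?_⟩)
    · intro a b hab
      have h := QuotientGroup.leftRel_apply.mp hab
      rw [Subgroup.mem_subgroupOf, hCz, Subgroup.mem_centralizer_singleton_iff] at h
      refine Subtype.ext ?_
      push_cast at h ⊢
      calc (a : G) * z * (a : G)⁻¹ = (a : G) * (z * ((a : G)⁻¹ * b)) * (b : G)⁻¹ := by group
        _ = (b : G) * z * (b : G)⁻¹ := by rw [← h]; group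
    · rintro ⟨a⟩ ⟨b⟩ hab
      have h := congrArg Subtype.val hab
      refine Quotient.sound (QuotientGroup.leftRel_apply.mpr ?_)
      rw [Subgroup.mem_subgroupOf, hCz, Subgroup.mem_centralizer_singleton_iff]
      change (a : G) * z * (a : G)⁻¹ = (b : G) * z * (b : G)⁻¹ at h
      push_cast
      calc (a : G)⁻¹ * b * z = (a : G)⁻¹ * ((b : G) * z * (b : G)⁻¹) * b := by group
        _ = z * ((a : G)⁻¹ * b) := by rw [← h]; group
    · rintro ⟨u, hu, huH⟩
      obtain ⟨a, rfl⟩ := isConj_iff.mp hu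
      exact ⟨Quotient.mk _ ⟨a, (hc a).mp huH⟩, rfl⟩
  have hHodd : Odd H.index := by
    rw [Subgroup.index_eq_card]
    refine odd_card_of_involutive (fun q : G ⧸ H => z • q) (fun q => ?_)
      ((1 : G) : G ⧸ H) ?_ fun q => ?_
    · show z • z • q = q
      rw [smul_smul, hzz, one_smul]
    · show (((z * 1 : G)) : G ⧸ H) = ((1 : G) : G ⧸ H)
      rw [mul_one, QuotientGroup.eq, mul_one]
      exact inv_mem hzH
    · induction q using QuotientGroup.induction_on with
      | _ a =>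
        intro h
        change (((z * a : G)) : G ⧸ H) = (a : G ⧸ H) at h
        rw [QuotientGroup.eq] at h
        rw [QuotientGroup.eq, mul_one]
        refine (hc a⁻¹).mp ?_
        rw [inv_inv]
        have := inv_mem h
        rwa [mul_inv_rev, inv_inv, ← mul_assoc] at this
  have hidx : ¬ 2 ∣ Cz.index := by
    rw [← even_iff_two_dvd, Nat.not_even_iff_odd, ← Subgroup.relIndex_mul_index hCzH, ← hAcard,
      ← hAR]
    exact hRodd.mul hHodd
  obtain ⟨P⟩ := Sylow.nonempty (p := 2) (G := Cz)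
  have hp2 := (Nat.prime_two).dvd_mul (m := (P : Subgroup Cz).index) (n := Cz.index)
  have hidx' : ¬ 2 ∣ ((P : Subgroup Cz).map Cz.subtype).index := by
    rw [Subgroup.index_map_subtype]
    exact fun h => (hp2.mp h).elim P.not_dvd_index hidx
  refine ⟨(P.2.map Cz.subtype).toSylow hidx', ?_⟩
  have hzC : z ∈ Cz := Subgroup.mem_centralizer_singleton_iff.mpr rfl
  have hzP : (⟨z, hzC⟩ : Cz) ∈ (P : Subgroup Cz) := by
    have hcen : (⟨z, hzC⟩ : Cz) ∈ Subgroup.center Cz := Subgroup.mem_center_iff.mpr fun y =>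
      Subtype.ext (Subgroup.mem_centralizer_singleton_iff.mp y.2)
    have hp : IsPGroup 2 (Subgroup.zpowers (⟨z, hzC⟩ : Cz)) :=
      IsPGroup.of_card (n := 1) (by rw [Nat.card_zpowers, pow_one, ← Subgroup.orderOf_coe, hz])
    haveI : (Subgroup.zpowers (⟨z, hzC⟩ : Cz)).Normal := ⟨fun n hn g => by
      rwa [Subgroup.mem_center_iff.mp (Subgroup.zpowers_le.mpr hcen hn) g, mul_inv_cancel_right]⟩
    exact (P.3 (hp.to_sup_of_normal_left P.2) le_sup_right).le (Subgroup.mem_sup_left (Subgroup.mem_zpowers _))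
  have hmem : z ∈ (((P.2.map Cz.subtype).toSylow hidx' : Sylow 2 G) : Subgroup G) :=
    ⟨_, hzP, rfl⟩
  refine ⟨⟨z, hmem⟩, Subgroup.mem_center_iff.mpr ?_, rfl⟩
  rintro ⟨_, y, hy, rfl⟩
  exact Subtype.ext (Subgroup.mem_centralizer_singleton_iff.mp y.2)

/-- Let z be an involution of a finite group G and H a proper subgroup such that z lies in gHg⁻¹ exactly when g ∈ H. Then the following are equivalent: (1) for every conjugate t ≠ z of z commuting with z, the product zt lies in gHg⁻¹ exactly when g ∈ H; (2) z lies in the centre of some Sylow 2-subgroup of G, and for every conjugate t ≠ z of z commuting with z, the centralizer of zt is contained in H. -/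
theorem result {G : Type*} [Group G] [Finite G] (z : G) (hz : orderOf z = 2) (H : Subgroup G) (hH : H ≠ ⊤)
    (h0 : ∀ g : G, z ∈ H.map (MulAut.conj g).toMonoidHom ↔ g ∈ H) :
    (∀ t : G, IsConj z t → t ≠ z → t * z = z * t → ∀ g : G, z * t ∈ H.map (MulAut.conj g).toMonoidHom ↔ g ∈ H) ↔
      ((∃ P : Sylow 2 G, z ∈ (Subgroup.center ↥(P : Subgroup G)).map (P : Subgroup G).subtype) ∧
        ∀ t : G, IsConj z t → t ≠ z → t * z = z * t → Subgroup.centralizer ({z * t} : Set G) ≤ H) := by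
  simp only [mem_map_conj_iff] at h0 ⊢
  have hc : ∀ g : G, g * z * g⁻¹ ∈ H ↔ g ∈ H := fun g => by
    have := h0 g⁻¹
    rwa [inv_inv, inv_mem_iff] at this
  constructor
  · intro h1
    refine ⟨exists_central_sylow hz hH hc h1, fun t ht1 ht2 ht3 x hx => ?_⟩
    have hmem : z * t ∈ H := by simpa using (h1 t ht1 ht2 ht3 1).mpr (one_mem H)
    refine (h1 t ht1 ht2 ht3 x).mp ?_
    rw [mul_assoc, ← Subgroup.mem_centralizer_singleton_iff.mp hx, inv_mul_cancel_left]
    exact hmem
  rintro ⟨⟨P, ⟨⟨z', hz'P⟩, hzc, rfl⟩⟩, hC⟩ t ht1 ht2 ht3 g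
  simp only [Subgroup.coe_subtype] at *
  have hzz : z' * z' = 1 := by rw [← pow_two, ← hz, pow_orderOf_eq_one]
  obtain ⟨c, hct⟩ := isConj_iff.mp ht1
  have htt : t * t = 1 := by
    rw [← hct, show c * z' * c⁻¹ * (c * z' * c⁻¹) = c * (z' * z') * c⁻¹ by group, hzz, mul_one,
      mul_inv_cancel]
  have hzH : z' ∈ H := by simpa using (hc 1).mpr (one_mem H)
  have hPH : (P : Subgroup G) ≤ H := fun x hx => (hc x).mp (by
    have : (x * z' : G) = z' * x :=
      congrArg Subtype.val (Subgroup.mem_center_iff.mp hzc ⟨x, hx⟩)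
    rw [this, mul_inv_cancel_right]; exact hzH)
  have htH : t ∈ H := (hc t).mp (by rw [ht3, mul_inv_cancel_right]; exact hzH)
  have hwH : z' * t ∈ H := mul_mem hzH htH
  refine ⟨fun hw => ?_, fun hg => mul_mem (mul_mem (inv_mem hg) hwH) hg⟩
  set w := g⁻¹ * (z' * t) * g with hwdef
  have hw2 : w ^ 2 = 1 := by
    rw [hwdef, pow_two]
    calc g⁻¹ * (z' * t) * g * (g⁻¹ * (z' * t) * g) = g⁻¹ * (z' * (t * z') * t) * g := by group
      _ = 1 := by rw [ht3, ← mul_assoc z', hzz, one_mul, htt]; group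
  have hwp : IsPGroup 2 (Subgroup.zpowers (⟨w, hw⟩ : H)) := by
    rintro ⟨x, hx⟩
    obtain ⟨i, rfl⟩ := Subgroup.mem_zpowers_iff.mp hx
    refine ⟨1, Subtype.ext (Subtype.ext ?_)⟩
    simp only [Subgroup.coe_pow, Subgroup.coe_zpow, Subgroup.coe_one, pow_one]
    rw [← zpow_natCast, ← zpow_mul, mul_comm, zpow_mul, zpow_natCast, hw2, one_zpow]
  obtain ⟨S, hS⟩ := hwp.exists_le_sylow
  haveI : Finite (Sylow 2 H) := inferInstance
  obtain ⟨h, hh⟩ := MulAction.exists_smul_eq H S (P.subtype hPH)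
  have hm : h.1 * w * h.1⁻¹ ∈ (P : Subgroup G) := by
    have h1 : h * ⟨w, hw⟩ * h⁻¹ ∈ ((h • S : Sylow 2 H) : Subgroup H) :=
      ⟨⟨w, hw⟩, hS (Subgroup.mem_zpowers _), rfl⟩
    rw [hh] at h1
    exact h1
  have hcomm : (h.1 * w * h.1⁻¹) * z' = z' * (h.1 * w * h.1⁻¹) :=
    congrArg Subtype.val (Subgroup.mem_center_iff.mp hzc ⟨_, hm⟩)
  have hmem : (g * h.1⁻¹) * z' * (g * h.1⁻¹)⁻¹ ∈ H := by
    refine hC t ht1 ht2 ht3 (Subgroup.mem_centralizer_singleton_iff.mpr ?_)
    calc g * h.1⁻¹ * z' * (g * h.1⁻¹)⁻¹ * (z' * t)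
        = g * h.1⁻¹ * (z' * (h.1 * w * h.1⁻¹)) * h.1 * g⁻¹ := by rw [hwdef]; group
      _ = (z' * t) * (g * h.1⁻¹ * z' * (g * h.1⁻¹)⁻¹) := by rw [← hcomm, hwdef]; group
  have := mul_mem ((hc _).mp hmem) h.2
  rwa [inv_mul_cancel_right] at this

end Cfsg.Agent.S1922
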