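import Cfsg.Statements.S1924
import Cfsg.Agent.Lib.SignTransfer.Basic

set_option autoImplicit false
open Cfsg

namespace Cfsg.Agent.S1924

/-- Outside a cyclic subgroup of index two a dihedral group consists of involutions. -/
theorem orderOf_eq_two {G : Type*} [Group G] [Finite G] {D C : Subgroup G} {n : ℕ} (hn : 2 ≤ n)
    (e : ↥D ≃* DihedralGroup n) (hC : IsCyclic ↥C) (hCD : C ≤ D) (hi : C.relIndex D = 2) {d : G}
    (hd : d ∈ D) (hdC : d ∉ C) : orderOf d = 2 := by
  haveI : NeZero n := ⟨by omega⟩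
  have hval : ∀ x : D, orderOf (x : G) = orderOf (e x) := fun x => by
    rw [MulEquiv.orderOf_eq, Subgroup.orderOf_coe]
  rw [show d = ((⟨d, hd⟩ : D) : G) from rfl, hval]
  cases hx : e ⟨d, hd⟩ with
  | sr i => exact DihedralGroup.orderOf_sr i
  | r i =>
    obtain ⟨⟨g, hg⟩, hgen⟩ := hC.exists_generator
    have hcC : Nat.card C = n := by
      have h1 := (C.subgroupOf D).card_mul_index
      rw [show (C.subgroupOf D).index = 2 from hi, Nat.card_congr e.toEquiv,
        DihedralGroup.nat_card, Nat.card_congr (Subgroup.subgroupOfEquivOfLe hCD).toEquiv] at h1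
      omega
    have hog : orderOf g = n := by
      rw [← hcC, ← Subgroup.orderOf_mk g hg]
      exact orderOf_eq_card_of_forall_mem_zpowers hgen
    cases hgx : e ⟨g, hCD hg⟩ with
    | sr j =>
      have h2 : n = 2 := by
        rw [← hog, show g = ((⟨g, hCD hg⟩ : D) : G) from rfl, hval, hgx, DihedralGroup.orderOf_sr]
      subst h2
      refine orderOf_eq_prime ?_ fun h => hdC ?_
      · rw [pow_two, DihedralGroup.r_mul_r]
        have : ∀ i : ZMod 2, i + i = 0 := by decide
        rw [this i, DihedralGroup.r_zero]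
      · rw [← hx, EmbeddingLike.map_eq_one_iff] at h
        rw [show d = ((⟨d, hd⟩ : D) : G) from rfl, h]
        exact one_mem C
    | r j =>
      exfalso
      let R : Subgroup (DihedralGroup n) := Subgroup.zpowers (DihedralGroup.r 1)
      have hle : (C.subgroupOf D).map e.toMonoidHom ≤ R := by
        rintro _ ⟨x, hx', rfl⟩
        obtain ⟨k, hk⟩ := Subgroup.mem_zpowers_iff.mp (hgen ⟨(x : G), hx'⟩)
        have hxg : x = (⟨g, hCD hg⟩ : D) ^ k := Subtype.ext (by
          simpa using (congrArg Subtype.val hk).symm)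
        rw [MulEquiv.coe_toMonoidHom, hxg, map_zpow, hgx]
        refine zpow_mem ?_ k
        rw [← ZMod.natCast_zmod_val j, ← DihedralGroup.r_one_pow]
        exact pow_mem (Subgroup.mem_zpowers _) _
      have hcard : Nat.card R ≤ Nat.card ((C.subgroupOf D).map e.toMonoidHom) := by
        rw [Subgroup.card_map_of_injective e.injective,
          Nat.card_congr (Subgroup.subgroupOfEquivOfLe hCD).toEquiv, hcC, Nat.card_zpowers,
          DihedralGroup.orderOf_r_one]
      have heq := Subgroup.eq_of_le_of_card_ge hle hcard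
      have hmem : DihedralGroup.r i ∈ R := by
        rw [← ZMod.natCast_zmod_val i, ← DihedralGroup.r_one_pow]
        exact pow_mem (Subgroup.mem_zpowers _) _
      rw [← heq, ← hx] at hmem
      obtain ⟨x, hxC, hxe⟩ := hmem
      exact hdC (by simpa [e.injective hxe, Subgroup.mem_subgroupOf] using hxC)

/-- A consequence of Thompson's transfer lemma. Let G be a finite group, L a subgroup with O²(L) = L, T a Sylow 2-subgroup of L and S a Sylow 2-subgroup of G containing T. Suppose D ≤ S is a dihedral subgroup of order at least 4 (the four-group counts) with D ∩ T = 1 and S = TD as a set of products (so |S| = |T|·|D|), and C ≤ D is cyclic of index 2 in D. If no involution of D outside C is G-conjugate to an involution of the subgroup generated by T and C, and the involution of C is not G-conjugate to any involution of T, then G has a normal subgroup K, containing every Sylow 2-subgroup of L as a Sylow 2-subgroup, with G = KD. -/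
theorem result {G : Type*} [Group G] [Finite G] (L T S D C : Subgroup G) (hL : Cfsg.pResidual 2 ↥L = ⊤)
    (hTL : T ≤ L) (hT2 : IsPGroup 2 T) (hTsyl : ¬ 2 ∣ T.relIndex L)
    (hS2 : IsPGroup 2 S) (hSsyl : ¬ 2 ∣ S.index) (hTS : T ≤ S)
    (hDS : D ≤ S) (hDih : ∃ n : ℕ, 2 ≤ n ∧ Nonempty (↥D ≃* DihedralGroup n)) (hDT : D ⊓ T = ⊥) (hTD : T ⊔ D = S) (hTDc : Nat.card T * Nat.card D = Nat.card S)
    (hCD : C ≤ D) (hC : IsCyclic ↥C) (hCi : C.relIndex D = 2)
    (h1 : ∀ x ∈ D, x ∉ C → orderOf x = 2 → ∀ g : G, g * x * g⁻¹ ∈ T ⊔ C → False)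
    (h2 : ∀ c ∈ C, orderOf c = 2 → ∀ g : G, g * c * g⁻¹ ∈ T → False) :
    ∃ K : Subgroup G, K.Normal ∧ K ⊔ D = ⊤ ∧
      ∀ T' : Subgroup G, T' ≤ L → IsPGroup 2 T' → ¬ 2 ∣ T'.relIndex L → T' ≤ K ∧ ¬ 2 ∣ T'.relIndex K := by
  obtain ⟨n, hn, ⟨e⟩⟩ := hDih
  set K := Cfsg.pResidual 2 G with hK
  have hKL : L ≤ K := by
    intro l hl
    exact Agent.Transfer.map_pResidual_subtype_le L ⟨⟨l, hl⟩, hL ▸ Subgroup.mem_top _, rfl⟩ |>.2
  have hTK : T ≤ K := hTL.trans hKL
  -- the residual has odd index over `T`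
  have hodd : ¬ 2 ∣ T.relIndex K := by
    obtain ⟨m, hm⟩ := IsPGroup.iff_card.mp (hS2.to_le (hCD.trans hDS))
    have hcD : Nat.card D = 2 ^ (m + 1) := by
      have h := (C.subgroupOf D).card_mul_index
      rw [show (C.subgroupOf D).index = 2 from hCi,
        Nat.card_congr (Subgroup.subgroupOfEquivOfLe hCD).toEquiv, hm, ← pow_succ] at h
      exact h.symm
    obtain ⟨⟨a, haC⟩, hgen⟩ := hC.exists_generator
    have ha : orderOf a = 2 ^ m := by
      rw [← hm, ← Subgroup.orderOf_mk a haC]
      exact orderOf_eq_card_of_forall_mem_zpowers hgen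
    have hTi : T.index = 2 ^ (m + 1) * S.index := by
      have h := T.card_mul_index
      rw [← S.card_mul_index, ← hTDc, hcD, mul_assoc] at h
      exact Nat.eq_of_mul_eq_mul_left Nat.card_pos h
    -- transfer onto `S / TC`
    obtain ⟨ε, hε⟩ := Agent.SignTransfer.exists_hom (T ⊔ C)
    have hTCi : ¬ 2 ^ 2 ∣ (T ⊔ C).index := by
      intro h
      have hle : T ⊔ C ≤ S := sup_le hTS (hCD.trans hDS)
      have hcard : Nat.card T * Nat.card C ≤ Nat.card (T ⊔ C : Subgroup G) := by
        rw [← Nat.card_prod]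
        refine Nat.card_le_card_of_injective (fun x : T × C =>
          (⟨(x.1 : G) * x.2, Subgroup.mul_mem_sup x.1.2 x.2.2⟩ : (T ⊔ C : Subgroup G))) ?_
        intro x y hxy
        exact Subgroup.mul_injective_of_disjoint
          (disjoint_iff.mpr (le_bot_iff.mp (hDT ▸ le_inf (inf_le_right.trans hCD) inf_le_left)))
          (congrArg Subtype.val hxy)
      obtain ⟨j, hj⟩ := hS2.to_le (le_refl S) |>.index ((T ⊔ C).subgroupOf S)
      have hj1 : j ≤ 1 := by
        by_contra hj1
        have h3 := ((T ⊔ C).subgroupOf S).card_mul_index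
        rw [Nat.card_congr (Subgroup.subgroupOfEquivOfLe hle).toEquiv, hj, ← hTDc, hcD,
          show Nat.card T * 2 ^ (m + 1) = Nat.card T * Nat.card C * 2 by rw [hm, pow_succ]; ring]
          at h3
        have h4 : (2 : ℕ) ^ 2 ≤ 2 ^ j := Nat.pow_le_pow_right two_pos (by omega)
        have h5 : 0 < Nat.card T * Nat.card C := Nat.mul_pos Nat.card_pos Nat.card_pos
        nlinarith
      rw [← Subgroup.relIndex_mul_index hle, Subgroup.relIndex, hj] at h
      have h6 : 2 ^ 2 ∣ 2 ^ 1 * S.index := h.trans (mul_dvd_mul (pow_dvd_pow 2 hj1) dvd_rfl)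
      rw [pow_one, pow_two] at h6
      exact hSsyl (Nat.dvd_of_mul_dvd_mul_left two_pos h6)
    have hout : ∀ x ∈ D, x ∉ C → ε x = -1 := by
      intro x hx hxC
      have hox := orderOf_eq_two hn e hC hCD hCi hx hxC
      refine hε x 1 le_rfl (by rw [hox, pow_one]) hTCi fun g k hgk => ?_
      rw [pow_one]
      by_contra hk
      obtain ⟨q, hq⟩ := Nat.not_even_iff_odd.mp (fun h => hk (even_iff_two_dvd.mp h))
      rw [hq, pow_succ, pow_mul, ← hox, pow_orderOf_eq_one, one_pow, one_mul] at hgk
      exact h1 x hx hxC hox g⁻¹ (by rwa [inv_inv])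
    obtain ⟨x, hx, hxC⟩ : ∃ x ∈ D, x ∉ C := by
      by_contra h
      push Not at h
      rw [Subgroup.relIndex_eq_one.mpr h] at hCi
      omega
    have hain : ε a = 1 := by
      rcases Int.units_eq_one_or (ε a) with h | h
      · exact h
      · have hxa : x * a ∉ C := fun h' => hxC (by simpa using mul_mem h' (inv_mem haC))
        have := hout _ (mul_mem hx (hCD haC)) hxa
        rw [map_mul, hout x hx hxC, h] at this
        exact absurd this (by decide)
    set H := ε.ker with hH
    have hHi : H.index = 2 := by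
      rw [hH, Subgroup.index_ker, MonoidHom.range_eq_top.mpr, Subgroup.card_top,
        Nat.card_eq_fintype_card, Fintype.card_units_int]
      intro u
      rcases Int.units_eq_one_or u with rfl | rfl
      · exact ⟨1, map_one _⟩
      · exact ⟨x, hout x hx hxC⟩
    have hKH : K ≤ H :=
      Agent.Transfer.pResidual_le_ker (fun u => ⟨1, by rw [pow_one]; exact Int.units_sq u⟩) ε
    refine Agent.SignTransfer.not_two_dvd_relIndex T K hTK Agent.Transfer.pResidual_pResidual m H a
      hKH (MonoidHom.mem_ker.mpr hain) ha ?_ ?_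
    · intro h
      have h3 : 2 ^ (m + 1) * 2 ∣ T.relIndex H * H.index := hHi.symm ▸ mul_dvd_mul h dvd_rfl
      rw [Subgroup.relIndex_mul_index (hTK.trans hKH), hTi] at h3
      exact hSsyl (Nat.dvd_of_mul_dvd_mul_left (by positivity) h3)
    · intro g k hk
      by_contra hne
      have hak : a ^ k ≠ 1 := fun h => hne (ha ▸ orderOf_dvd_of_pow_eq_one h)
      have hzC : Subgroup.zpowers (a ^ k) ≤ C := Subgroup.zpowers_le.mpr (pow_mem haC k)
      have hp : IsPGroup 2 (Subgroup.zpowers (a ^ k)) := hS2.to_le (hzC.trans (hCD.trans hDS))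
      haveI : Nontrivial (Subgroup.zpowers (a ^ k)) :=
        (Subgroup.nontrivial_iff_ne_bot _).mpr (by simpa using hak)
      obtain ⟨j, hj, hjc⟩ := hp.nontrivial_iff_card.mp inferInstance
      obtain ⟨y, hy⟩ := exists_prime_orderOf_dvd_card' (G := Subgroup.zpowers (a ^ k)) 2
        (hjc ▸ dvd_pow_self 2 hj.ne')
      obtain ⟨i, hi⟩ := Subgroup.mem_zpowers_iff.mp y.2
      refine h2 y (hzC y.2) (by rw [Subgroup.orderOf_coe, hy]) g⁻¹ ?_
      have hck := zpow_mem hk i
      rw [show g⁻¹ * a ^ k * g = g⁻¹ * a ^ k * g⁻¹⁻¹ by group, conj_zpow, hi] at hck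
      exact hck
  refine ⟨K, inferInstance, ?_, fun T' hT'L _ hT'i => ⟨hT'L.trans hKL, ?_⟩⟩
  · have hSK : S ⊔ K = ⊤ := by
      obtain ⟨k, hk⟩ := Agent.Transfer.exists_index_pResidual (p := 2) (G := G)
      have h1 : (S ⊔ K).index ∣ 2 ^ k := hk ▸ Subgroup.index_dvd_of_le le_sup_right
      have h2 : (S ⊔ K).index ∣ S.index := Subgroup.index_dvd_of_le le_sup_left
      obtain ⟨j, -, hj⟩ := (Nat.dvd_prime_pow Nat.prime_two).mp h1
      rcases j with _ | j
      · exact Subgroup.index_eq_one.mp (by rw [hj, pow_zero])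
      · exact absurd (((dvd_pow_self 2 j.succ_ne_zero).trans hj.symm.dvd).trans h2) hSsyl
    rw [eq_top_iff, ← hSK, ← hTD]
    exact sup_le (sup_le (hTK.trans le_sup_left) le_sup_right) le_sup_left
  · intro h
    rw [← Subgroup.relIndex_mul_relIndex T' L K hT'L hKL] at h
    rcases Nat.prime_two.dvd_mul.mp h with h | h
    · exact hT'i h
    · exact hodd (by
        rw [← Subgroup.relIndex_mul_relIndex T L K hTL hKL]
        exact h.mul_left _)

end Cfsg.Agent.S1924
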