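import Cfsg.Statements.S3041
import Cfsg.Agent.Lib.HHShult.ConjCm
import Cfsg.Agent.Lib.HHShult.Shult
import Cfsg.Agent.Lib.PGroup.Basic

set_option autoImplicit false
open Cfsg
open Cfsg.Agent.HHShult

namespace Cfsg.Agent.S3041

theorem isSpecial_of_mulEquiv {A B : Type*} [Group A] [Group B] [Finite A] (e : A ≃* B)
    (h : Cfsg.IsSpecial 2 A) : Cfsg.IsSpecial 2 B := by
  haveI : Fact (Nat.Prime 2) := ⟨Nat.prime_two⟩
  obtain ⟨hp, hf, hc⟩ := h
  have hz : (Subgroup.center A).map e.toMonoidHom = Subgroup.center B := by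
    ext b
    constructor
    · rintro ⟨a, ha, rfl⟩
      refine Subgroup.mem_center_iff.2 fun y => ?_
      obtain ⟨x, rfl⟩ := e.surjective y
      show e x * e a = e a * e x
      rw [← map_mul, ← map_mul, Subgroup.mem_center_iff.1 ha x]
    · intro hb
      obtain ⟨a, rfl⟩ := e.surjective b
      refine ⟨a, Subgroup.mem_center_iff.2 fun x => e.injective ?_, rfl⟩
      rw [map_mul, map_mul, Subgroup.mem_center_iff.1 hb (e x)]
  refine ⟨hp.of_equiv e, ?_, ?_⟩
  · rw [← _root_.Cfsg.Agent.PGroup.frattini_map hp (f := e.toMonoidHom) e.surjective, hf, hz]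
  · rw [commutator_def, ← Subgroup.map_top_of_surjective e.toMonoidHom e.surjective,
      ← Subgroup.map_commutator, ← commutator_def, hc, hz]

/-- A fixed-point result of Shult type. Let X be a finite group with a normal subgroup G and a subgroup R of prime order r not dividing |G| such that X = GR, and let ρ be a faithful irreducible representation of X on a nonzero finite-dimensional vector space V over a field of prime characteristic in which R has no nonzero fixed vector. Then either [G, R] = 1, or r has the form 2^m + 1 and [G, R] is a non-abelian special 2-group. -/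
theorem result {X : Type*} [Group X] [Finite X] (G R : Subgroup X) [G.Normal] (hX : G ⊔ R = ⊤) (r : ℕ) (hr : r.Prime)
    (hR : Nat.card R = r) (hcop : ¬ r ∣ Nat.card G)
    {k : Type*} [Field k] {p : ℕ} [Fact p.Prime] [CharP k p] {V : Type*} [AddCommGroup V] [Module k V] [FiniteDimensional k V] [Nontrivial V]
    (ρ : Representation k X V) (hfaith : Function.Injective ρ)
    (hirr : ∀ W : Submodule k V, (∀ x : X, W.map (ρ x) ≤ W) → W = ⊥ ∨ W = ⊤)
    (hfix : ∀ v : V, (∀ x ∈ R, ρ x v = v) → v = 0) :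
    ⁅G, R⁆ = ⊥ ∨ ((∃ m : ℕ, r = 2 ^ m + 1) ∧ ¬ IsMulCommutative ↥⁅G, R⁆ ∧ Cfsg.IsSpecial 2 ↥⁅G, R⁆) := by
  obtain ⟨a, ha⟩ : ∃ a : R, orderOf a = r := by
    haveI := Fact.mk hr
    exact exists_prime_orderOf_dvd_card' r (by rw [hR])
  have hR' : Subgroup.zpowers (a : X) = R := by
    refine Subgroup.eq_of_le_of_card_ge (Subgroup.zpowers_le.2 a.2) ?_
    rw [Nat.card_zpowers, Subgroup.orderOf_coe, ha, hR]
  have har : (a : X) ^ r = 1 := by
    rw [← ha, ← Subgroup.coe_pow, pow_orderOf_eq_one]; rfl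
  set α : MulAut G := MulAut.conjNormal (a : X)
  have hc := cop_conjNormal (G := G) hr har hcop
  have hirr' : ∀ U : Submodule k V, (∀ g, U.map ((ρ.comp G.subtype) g) ≤ U) →
      U.map (ρ (a : X)) ≤ U → U = ⊥ ∨ U = ⊤ := by
    intro U hG hA
    refine hirr U fun x => ?_
    have hpow : ∀ y : X, U.map (ρ y) ≤ U → ∀ n : ℕ, U.map (ρ (y ^ n)) ≤ U := by
      intro y hy n
      induction n with
      | zero =>
        rintro _ ⟨v, hv, rfl⟩
        rw [pow_zero, map_one]
        exact hv
      | succ n ih =>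
        rintro _ ⟨v, hv, rfl⟩
        rw [pow_succ, map_mul]
        exact ih ⟨_, hy ⟨v, hv, rfl⟩, rfl⟩
    have hx : x ∈ G ⊔ Subgroup.zpowers (a : X) := by rw [hR', hX]; trivial
    rw [Subgroup.sup_eq_closure] at hx
    induction hx using Subgroup.closure_induction with
    | mem y hy =>
      rcases hy with hy | hy
      · exact hG ⟨y, hy⟩
      · obtain ⟨n, rfl⟩ : ∃ n : ℕ, (a : X) ^ n = y := mem_powers_iff_mem_zpowers.2 hy
        exact hpow _ hA n
    | one => simpa using hpow 1 (hG 1) 0
    | mul y z _ _ hy hz =>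
      rintro _ ⟨v, hv, rfl⟩
      rw [map_mul]
      exact hy ⟨_, hz ⟨v, hv, rfl⟩, rfl⟩
    | inv y _ hy =>
      rw [inv_eq_of_mul_eq_one_right (b := y ^ (orderOf y - 1)) (by
        rw [← pow_succ', Nat.sub_add_cancel (orderOf_pos y), pow_orderOf_eq_one])]
      exact hpow _ hy _
  have hfix' : ∀ v, ρ (a : X) v = v → v = 0 := fun v hv => hfix v fun x hx => by
    rw [← hR'] at hx
    obtain ⟨n, hn⟩ : ∃ n : ℕ, (a : X) ^ n = x := mem_powers_iff_mem_zpowers.2 hx
    rw [← hn]
    clear hn
    induction n with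
    | zero => simp
    | succ n ih => rw [pow_succ, map_mul, Module.End.mul_apply, hv, ih]
  have h := special_of_fpf noSetting hc (ρ.comp G.subtype) (hfaith.comp Subtype.val_injective) (ρ (a : X))
    (by rw [← map_pow, har, map_one]) (fun g => by
      show ρ (a : X) * ρ (g : X) = ρ ((α g : G) : X) * ρ (a : X)
      rw [← map_mul, ← map_mul, MulAut.conjNormal_apply, inv_mul_cancel_right]) hfix' hirr'
  rw [← hR', ← map_cm_conjNormal]
  rcases h with h | ⟨h1, h2, h3⟩
  · exact Or.inl (by rw [h, Subgroup.map_bot])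
  · have e := Subgroup.equivMapOfInjective (cm α ⊤) G.subtype Subtype.val_injective
    refine Or.inr ⟨h1, fun hc' => h2 ⟨⟨fun x y => e.injective ?_⟩⟩, isSpecial_of_mulEquiv e h3⟩
    rw [map_mul, map_mul, hc'.is_comm.comm]

end Cfsg.Agent.S3041
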