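import Cfsg.Statements.S1929
import Cfsg.Agent.Lib.HHShult.Perfect.Conj

set_option autoImplicit false
open Cfsg Subgroup Cfsg.Agent.HHShult Cfsg.Agent.HHShult.Perfect Cfsg.Agent.Components

namespace Cfsg.Agent.S1929

open scoped commutatorElement

theorem map_conj_conj {X : Type*} [Group X] (K : Subgroup X) (g h : X) :
    (K.map (MulAut.conj h).toMonoidHom).map (MulAut.conj g).toMonoidHom =
      K.map (MulAut.conj (g * h)).toMonoidHom := by
  rw [map_map, map_mul]; rfl


/-- Inside a finite group let G be a subgroup and R a subgroup of prime order r normalizing G, with the order of G prime to r. Let K be a quasisimple subgroup of G that commutes elementwise with every conjugate of K, other than K itself, under the subgroup generated by R and C_G(R). Then K is a component of C_G(R), or K is a component of G, or K is contained in a component of G that is normalized by R. -/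
theorem result {X : Type*} [Group X] [Finite X] (G R : Subgroup X) (r : ℕ) [Fact r.Prime] (hR : Nat.card ↥R = r) (hcop : (Nat.card ↥G).Coprime r) (hnorm : R ≤ Subgroup.normalizer (G : Set X)) (K : Subgroup X) (hKG : K ≤ G) (hKq : Cfsg.IsQuasisimple ↥K) (hcomm : ∀ g ∈ R ⊔ (G ⊓ Subgroup.centralizer (R : Set X)), K.map (MulAut.conj g).toMonoidHom ≠ K → ⁅K, K.map (MulAut.conj g).toMonoidHom⁆ = ⊥) : (K ≤ G ⊓ Subgroup.centralizer (R : Set X) ∧ Cfsg.IsComponent (K.subgroupOf (G ⊓ Subgroup.centralizer (R : Set X)))) ∨ Cfsg.IsComponent (K.subgroupOf G) ∨ ∃ L : Subgroup X, L ≤ G ∧ Cfsg.IsComponent (L.subgroupOf G) ∧ (∀ a ∈ R, L.map (MulAut.conj a).toMonoidHom = L) ∧ K ≤ L := by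
  obtain ⟨⟨a, haR⟩, ha⟩ : ∃ a : R, orderOf a = r := exists_prime_orderOf_dvd_card' r (by rw [hR])
  rw [Subgroup.orderOf_mk] at ha
  obtain rfl : zpowers a = R := by
    refine eq_of_le_of_card_ge (zpowers_le.2 haR) ?_
    rw [Nat.card_zpowers, ha, hR]
  have har : a ^ r = 1 := by rw [← ha, pow_orderOf_eq_one]
  have hn : a ∈ normalizer (G : Set X) := hnorm haR
  have hc := cop_conjAut hn Fact.out har hcop
  set C := G ⊓ centralizer (zpowers a : Set X) with hC
  set Δ := zpowers a ⊔ C with hΔ
  have hΔR : Δ ≤ centralizer (zpowers a : Set X) :=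
    sup_le (le_centralizer (zpowers a)) inf_le_right
  have hΔG : Δ ≤ normalizer (G : Set X) := sup_le hnorm (inf_le_left.trans le_normalizer)
  by_cases hfixK : K ≤ centralizer (zpowers a : Set X)
  · -- `K` is a component of `C_G(R)`
    refine Or.inl ⟨le_inf hKG hfixK, ?_⟩
    have hKC : K ≤ C := le_inf hKG hfixK
    set K' := K.subgroupOf C
    refine ⟨?_, ?_⟩
    · have hn' : normalClosure (K' : Set C) ≤ normalizer (K' : Set C) := by
        refine (closure_le _).2 fun x hx => ?_
        obtain ⟨k, hk, hconj⟩ := Group.mem_conjugatesOfSet_iff.1 hx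
        obtain ⟨c, rfl⟩ := isConj_iff.1 hconj
        refine Coprime.mem_normalizer_of_forall fun y hy => ?_
        show ((c : X) * k * (c : X)⁻¹) * y * ((c : X) * k * (c : X)⁻¹)⁻¹ ∈ K
        have hmem : (c : X) * k * (c : X)⁻¹ ∈ K.map (MulAut.conj (c : X)).toMonoidHom :=
          ⟨k, hk, rfl⟩
        by_cases he : K.map (MulAut.conj (c : X)).toMonoidHom = K
        · rw [he] at hmem
          exact K.mul_mem (K.mul_mem hmem hy) (K.inv_mem hmem)
        · have h1 := commutator_mem_commutator (show (y : X) ∈ K from hy) hmem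
          rw [hcomm c (mem_sup_right c.2) he, Subgroup.mem_bot,
            commutatorElement_eq_one_iff_mul_comm] at h1
          rw [← h1, mul_inv_cancel_right]
          exact hy
      exact Subgroup.IsSubnormal.step K' _ le_normalClosure normalClosure_normal.isSubnormal
        (normal_subgroupOf_of_le_normalizer hn')
    · rw [← isQuasisimple_map_iff C.subtype_injective, map_subgroupOf_eq_of_le hKC]
      exact hKq
  set T : Set (Subgroup G) :=
    {L | ∃ g ∈ Δ, L.map G.subtype = K.map (MulAut.conj g).toMonoidHom} with hTdef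
  have hT : IsFamily T := by
    refine ⟨fun L hL => ?_, fun L hL L' hL' hne => ?_⟩
    · obtain ⟨g, -, hg⟩ := hL
      rw [← isQuasisimple_map_iff G.subtype_injective, hg, isQuasisimple_map_iff]
      · exact hKq
      · exact (MulAut.conj g).injective
    · obtain ⟨g, hg, e⟩ := hL
      obtain ⟨g', hg', e'⟩ := hL'
      apply Subgroup.map_injective G.subtype_injective
      rw [map_commutator, Subgroup.map_bot, e, e']
      have hne' : K.map (MulAut.conj (g⁻¹ * g')).toMonoidHom ≠ K := fun h => hne (by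
        apply Subgroup.map_injective G.subtype_injective
        have h' := map_conj_conj K g (g⁻¹ * g')
        rw [h, mul_inv_cancel_left] at h'
        rw [e, e', h'])
      have h0 := hcomm _ (mul_mem (inv_mem hg) hg') hne'
      have h1 := congrArg (Subgroup.map (MulAut.conj g).toMonoidHom) h0
      rwa [map_commutator, map_conj_conj, mul_inv_cancel_left, Subgroup.map_bot] at h1
  have hTα : ∀ L ∈ T, L.map (conjAut G a hn).toMonoidHom ∈ T := by
    rintro L ⟨g, hg, e⟩
    refine ⟨a * g, mul_mem (mem_sup_left haR) hg, ?_⟩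
    rw [← map_conj_conj, ← e, map_map, map_map]
    rfl
  have hTfix : ∀ c ∈ fix (conjAut G a hn), ∀ L ∈ T, L.map (MulAut.conj c).toMonoidHom ∈ T := by
    rintro c hc' L ⟨g, hg, e⟩
    refine ⟨c * g, mul_mem (mem_sup_right ⟨c.2, (mem_fix_conjAut hn).mp hc'⟩) hg, ?_⟩
    rw [← map_conj_conj, ← e, map_map, map_map]
    rfl
  have hmov : ∀ L ∈ T, ¬ L ≤ fix (conjAut G a hn) := by
    rintro L ⟨g, hg, e⟩ hle
    refine hfixK fun k hk => ?_
    obtain ⟨x, hx, hxe⟩ : g * k * g⁻¹ ∈ L.map G.subtype := e ▸ ⟨k, hk, rfl⟩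
    have h1 : g * k * g⁻¹ ∈ centralizer (zpowers a : Set X) :=
      hxe ▸ (mem_fix_conjAut hn).mp (hle hx)
    have h2 := mul_mem (mul_mem (inv_mem (hΔR hg)) h1) (hΔR hg)
    rwa [show g⁻¹ * (g * k * g⁻¹) * g = k by group] at h2
  have hK : K.subgroupOf G ∈ T := ⟨1, one_mem _, by
    rw [map_subgroupOf_eq_of_le hKG, map_one]; exact (Subgroup.map_id K).symm⟩
  refine Or.inr ((component_or_le hT hc hTα hTfix hmov hK).imp id ?_)
  rintro ⟨J, hJ, hJa, hle⟩
  refine ⟨J.map G.subtype, map_subtype_le J, ?_, fun b hb => ?_, ?_⟩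
  · rwa [subgroupOf, comap_map_eq_self_of_injective G.subtype_injective]
  · have hN : zpowers a ≤ normalizer ((J.map G.subtype : Subgroup X) : Set X) :=
      zpowers_le.2 (Coprime.mem_normalizer_of_forall fun y hy => by
        obtain ⟨x, hx, rfl⟩ := hy
        exact ⟨conjAut G a hn x, hJa.le ⟨x, hx, rfl⟩, rfl⟩)
    refine le_antisymm ?_ fun y hy => ⟨b⁻¹ * y * b, ?_, ?_⟩
    · rintro _ ⟨y, hy, rfl⟩
      exact (mem_normalizer_iff.mp (hN hb) y).mp hy
    · have := (mem_normalizer_iff.mp (inv_mem (hN hb)) y).mp hy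
      rwa [inv_inv] at this
    · show b * (b⁻¹ * y * b) * b⁻¹ = y
      group
  · have h := map_mono (f := G.subtype) hle
    rwa [map_subgroupOf_eq_of_le hKG] at h

end Cfsg.Agent.S1929
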