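import Cfsg.Statements.S1932
import Cfsg.Agent.Lib.Coprime.ClassTwo
import Cfsg.Agent.Lib.Constrained.Basic
import Cfsg.Agent.Lib.PLocal.Quotient
import Cfsg.Agent.Lib.PLocal.Thompson

set_option autoImplicit false
open Cfsg

namespace Cfsg.Agent.S1932

/-- Let G be a finite group that is 2-constrained and has no section isomorphic to the symmetric group of degree 4, and let S be a Sylow 2-subgroup of G of nilpotency class at most 2. Then G = N_G(J(S))·O_{2'}(G), where J(S) is the Thompson subgroup generated by the elementary abelian subgroups of S of largest order. -/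
theorem result {G : Type*} [Group G] [Finite G] (hcon : Cfsg.IsPConstrained 2 G) (hS4 : ¬ Cfsg.Involves (Equiv.Perm (Fin 4)) G) (S : Sylow 2 G) (hcl : Subgroup.lowerCentralSeries (S : Subgroup G) 2 = ⊥) : Subgroup.normalizer ((Cfsg.thompsonSubgroupOf 2 (S : Subgroup G)) : Set G) ⊔ Cfsg.pPrimeCore 2 G = ⊤ := by
  set K := Cfsg.pPrimeCore 2 G with hK
  set f := QuotientGroup.mk' K with hfdef
  have hf : Function.Surjective f := QuotientGroup.mk'_surjective K
  have hker : (Nat.card f.ker).Coprime 2 := by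
    rw [QuotientGroup.ker_mk']; exact Cores.coprime_card_pPrimeCore 2
  have hC := Constrained.isPConstrained_iff.1 hcon
  have hS4' : ¬ Cfsg.Involves (Equiv.Perm (Fin 4)) (G ⧸ K) := fun ⟨X, R, hR, ⟨e⟩⟩ => by
    refine hS4 ?_
    let π : ↥(X.comap f) →* ↥X ⧸ R.subgroupOf X :=
      (QuotientGroup.mk' _).comp (f.subgroupComap X)
    have hπ : Function.Surjective π := (QuotientGroup.mk'_surjective _).comp (by
      rintro ⟨x, hx⟩
      obtain ⟨y, rfl⟩ := hf x
      exact ⟨⟨y, hx⟩, rfl⟩)
    have hn : ((π.ker.map (X.comap f).subtype).subgroupOf (X.comap f)) = π.ker :=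
      Subgroup.comap_map_eq_self_of_injective (X.comap f).subtype_injective _
    have : ((π.ker.map (X.comap f).subtype).subgroupOf (X.comap f)).Normal := by
      rw [hn]; infer_instance
    exact ⟨X.comap f, π.ker.map (X.comap f).subtype, this,
      ⟨((QuotientGroup.quotientMulEquivOfEq hn).trans
        (QuotientGroup.quotientKerEquivOfSurjective π hπ)).trans e⟩⟩
  have hclS : ⁅⁅(S : Subgroup G), (S : Subgroup G)⁆, (S : Subgroup G)⁆ = ⊥ := hcl
  set T := S.mapSurjective hf with hT
  have hTmap : (T : Subgroup (G ⧸ K)) = (S : Subgroup G).map f := Sylow.coe_mapSurjective hf S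
  have hclT : ⁅⁅(T : Subgroup (G ⧸ K)), (T : Subgroup (G ⧸ K))⁆, (T : Subgroup (G ⧸ K))⁆ = ⊥ := by
    rw [hTmap, ← Subgroup.map_commutator, ← Subgroup.map_commutator, hclS, Subgroup.map_bot]
  have hcl' : ∀ P : Subgroup (G ⧸ K), IsPGroup 2 P → ⁅⁅P, P⁆, P⁆ = ⊥ := by
    intro P hP
    obtain ⟨R, hR⟩ := hP.exists_le_sylow
    obtain ⟨x, rfl⟩ := MulAction.exists_smul_eq (G ⧸ K) T R
    have key : ((x • T : Sylow 2 (G ⧸ K)) : Subgroup (G ⧸ K)) =
        (T : Subgroup (G ⧸ K)).map (MulAut.conj x).toMonoidHom := rfl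
    rw [eq_bot_iff]
    refine (Subgroup.commutator_mono (Subgroup.commutator_mono hR hR) hR).trans ?_
    rw [key, ← Subgroup.map_commutator, ← Subgroup.map_commutator, hclT, Subgroup.map_bot]
  have htop := Coprime.thompson_normal_of_classTwo hS4' hC hcl' T
  rw [hTmap, ← PLocal.map_thompsonSubgroupOf f (PLocal.injOn_of_pGroup f hker S.isPGroup'),
    PLocal.normalizer_map_eq f hf hker (S.isPGroup'.to_le (PLocal.thompsonSubgroupOf_le _))] at htop
  rw [eq_top_iff]
  intro g _
  obtain ⟨n, hn, hng⟩ := (htop ▸ Subgroup.mem_top (f g) : f g ∈ (Subgroup.normalizer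
    ((Cfsg.thompsonSubgroupOf 2 (S : Subgroup G)) : Set G)).map f)
  have h1 : n⁻¹ * g ∈ K := by
    rw [← QuotientGroup.eq_one_iff]
    show f (n⁻¹ * g) = 1
    rw [map_mul, map_inv, hng, inv_mul_cancel]
  have h2 := Subgroup.mul_mem_sup hn h1
  rwa [mul_inv_cancel_left] at h2

end Cfsg.Agent.S1932
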