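import Cfsg.Statements.S1933
import Cfsg.Agent.Lib.HHShult.Perfect.Conj

set_option autoImplicit false
open Cfsg Subgroup Cfsg.Agent.HHShult Cfsg.Agent.HHShult.Perfect Cfsg.Agent.Components

namespace Cfsg.Agent.S1933

/-- Inside a finite group let G be a subgroup and R a subgroup of prime order r normalizing G, with the order of G prime to r. Let H be a subgroup of G normalized by R and by C_G(R) and such that H = [H, R]. Then the layer of H is contained in the layer of G. -/
theorem result {X : Type*} [Group X] [Finite X] (G R : Subgroup X) (r : ℕ) [Fact r.Prime] (hR : Nat.card ↥R = r) (hcop : (Nat.card ↥G).Coprime r) (hnorm : R ≤ Subgroup.normalizer (G : Set X)) (H : Subgroup X) (hHG : H ≤ G) (hHinv : R ⊔ (G ⊓ Subgroup.centralizer (R : Set X)) ≤ Subgroup.normalizer (H : Set X)) (hHR : ⁅H, R⁆ = H) : (Cfsg.layer ↥H).map H.subtype ≤ (Cfsg.layer ↥G).map G.subtype := by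
  obtain ⟨⟨a, haR⟩, ha⟩ : ∃ a : R, orderOf a = r := exists_prime_orderOf_dvd_card' r (by rw [hR])
  rw [Subgroup.orderOf_mk] at ha
  obtain rfl : zpowers a = R := by
    refine eq_of_le_of_card_ge (zpowers_le.2 haR) ?_
    rw [Nat.card_zpowers, ha, hR]
  have har : a ^ r = 1 := by rw [← ha, pow_orderOf_eq_one]
  have hn : a ∈ normalizer (G : Set X) := hnorm haR
  have hc := cop_conjAut hn Fact.out har hcop
  set H' := H.subgroupOf G with hH'
  have hmap : H'.map G.subtype = H := map_subgroupOf_eq_of_le hHG
  have haH : a ∈ normalizer (H : Set X) := hHinv (mem_sup_left haR)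
  have hH'i : Inv (conjAut G a hn) H' := fun x hx => (mem_normalizer_iff.mp haH _).mp hx
  have hfix : fix (conjAut G a hn) ≤ normalizer (H' : Set G) := fun c hc' => by
    have h := hHinv (mem_sup_right (show (c : X) ∈ G ⊓ centralizer (zpowers a : Set X) from
      ⟨c.2, (mem_fix_conjAut hn).mp hc'⟩))
    exact Coprime.mem_normalizer_of_forall fun y hy => (mem_normalizer_iff.mp h _).mp hy
  have hcm : cm (conjAut G a hn) H' = H' := by
    apply Subgroup.map_injective G.subtype_injective
    rw [map_cm_conjAut hn hH'i, hmap, hHR]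
  have key := map_mono (f := G.subtype) (layer_le_layer hc hH'i hfix hcm)
  refine le_trans (le_of_eq ?_) key
  let e : H' ≃* H := subgroupOfEquivOfLe hHG
  rw [← layer_map_equiv e, map_map, map_map]
  rfl

end Cfsg.Agent.S1933
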