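import Cfsg.Statements.S1935
import Cfsg.Agent.Lib.QuadLimit.Normal
import Cfsg.Agent.Lib.PLocal.Replacement

set_option autoImplicit false
open Cfsg
open scoped commutatorElement IsMulCommutative

namespace Cfsg.Agent.S1935

/-- There is a quadratic offender. -/
theorem exists_quadratic {Ω : Type*} [Group Ω] [Finite Ω] {p : ℕ} [Fact p.Prime] {V G : Subgroup Ω}
    (hV : Cfsg.IsElementaryAbelian p V) (hGV : G ≤ Subgroup.normalizer (V : Set Ω))
    (hfaith : G ⊓ Subgroup.centralizer (V : Set Ω) = ⊥)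
    {E : Subgroup Ω} (hEG : E ≤ G) (hE0 : E ≠ ⊥) (hEe : Cfsg.IsElementaryAbelian p E)
    (hEo : Nat.card ↥V ≤ Nat.card ↥E * Nat.card ↥(V ⊓ Subgroup.centralizer (E : Set Ω))) :
    ∃ A : Subgroup Ω, A ≤ G ∧ A ≠ ⊥ ∧ Cfsg.IsElementaryAbelian p A ∧
      Nat.card ↥V ≤ Nat.card ↥A * Nat.card ↥(V ⊓ Subgroup.centralizer (A : Set Ω)) ∧
      ⁅⁅V, A⁆, A⁆ = ⊥ := by
  let f : Subgroup Ω → ℕ := fun A => Nat.card ↥A * Nat.card ↥(V ⊓ Subgroup.centralizer (A : Set Ω))
  obtain ⟨A1, ⟨hA1G, hA10, hA1e⟩, hmax⟩ := Set.exists_max_image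
    {A : Subgroup Ω | A ≤ G ∧ A ≠ ⊥ ∧ Cfsg.IsElementaryAbelian p A} f (Set.toFinite _)
    ⟨E, hEG, hE0, hEe⟩
  obtain ⟨A, ⟨hAG, hA0, hAe, hAf⟩, hmin⟩ := Set.exists_min_image
    {A : Subgroup Ω | A ≤ G ∧ A ≠ ⊥ ∧ Cfsg.IsElementaryAbelian p A ∧ f A1 ≤ f A}
    (fun A => Nat.card ↥A) (Set.toFinite _) ⟨A1, hA1G, hA10, hA1e, le_rfl⟩
  have hVA : Nat.card ↥V ≤ f A := hEo.trans ((hmax E ⟨hEG, hE0, hEe⟩).trans hAf)
  have hmono : ∀ B : Subgroup Ω, B ≤ A → Cfsg.IsElementaryAbelian p B := fun B hB => by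
    haveI := hAe.1
    exact ⟨⟨⟨fun x y => Subtype.ext (congrArg Subtype.val
      (hAe.1.is_comm.comm (⟨x, hB x.2⟩ : A) ⟨y, hB y.2⟩) :)⟩⟩, fun b hb => hAe.2 b (hB hb)⟩
  have hbest : Cfsg.IsBestOffenderOn p V A := by
    refine ⟨fun B hB => ?_, ?_, fun a ha => by rw [hAe.2 a ha]; exact one_mem _⟩
    · rcases eq_or_ne B ⊥ with rfl | hB0
      · refine le_trans ?_ hVA
        rw [Subgroup.card_bot, one_mul]
        exact Nat.card_le_card_of_injective (Subgroup.inclusion inf_le_left)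
          (Subgroup.inclusion_injective _)
      · exact (hmax B ⟨hB.trans hAG, hB0, hmono B hB⟩).trans hAf
    · rw [show ⁅A, A⁆ = ⊥ from Subgroup.commutator_eq_bot_iff_le_centralizer.mpr
        (Subgroup.le_centralizer_iff_isMulCommutative.mpr hAe.1)]
      exact bot_le
  have hAV := hAG.trans hGV
  have hne : ⁅V, A⁆ ≠ ⊥ := fun h => hA0 (le_bot_iff.mp (hfaith ▸ le_inf hAG
    (Subgroup.le_centralizer_iff.mp (Subgroup.commutator_eq_bot_iff_le_centralizer.mp h))))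
  set A' := A ⊓ Subgroup.centralizer ((⁅V, A⁆ : Subgroup Ω) : Set Ω)
  obtain ⟨h1, -⟩ := PLocal.replacement (PLocal.elemAb_le_centralizer hV) hAV hbest.2.1 hbest.1
    (U := V) le_rfl
  have hne' := PLocal.not_centralize_replacement hV hAV hbest (U := V) le_rfl hne
  have hA'0 : A' ≠ ⊥ := fun h => hne' (by
    rw [show A ⊓ Subgroup.centralizer ((⁅V, A⁆ : Subgroup Ω) : Set Ω) = ⊥ from h]
    exact Subgroup.commutator_bot_right V)
  have hle := hmin A' ⟨inf_le_left.trans hAG, hA'0, hmono A' inf_le_left, hAf.trans h1.ge⟩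
  have hAA : A ≤ A' := (Subgroup.eq_of_le_of_card_ge inf_le_left hle).ge
  exact ⟨A, hAG, hA0, hAe, hVA, Subgroup.commutator_eq_bot_iff_le_centralizer.mpr
    (Subgroup.le_centralizer_iff.mp (hAA.trans inf_le_right))⟩

/-- The statement, given the module structure. -/
theorem aux {Ω : Type*} [Group Ω] [Finite Ω] (p : ℕ) [Fact p.Prime] (hp : 5 ≤ p) (V G : Subgroup Ω) [IsMulCommutative V]
    [Module (ZMod p) (Additive V)] (hV : Cfsg.IsElementaryAbelian p V) (hG : IsPGroup p ↥G) (hGV : G ≤ Subgroup.normalizer (V : Set Ω)) (hfaith : G ⊓ Subgroup.centralizer (V : Set Ω) = ⊥) (hF : ∃ E : Subgroup Ω, E ≤ G ∧ E ≠ ⊥ ∧ Cfsg.IsElementaryAbelian p E ∧ Nat.card ↥V ≤ Nat.card ↥E * Nat.card ↥(V ⊓ Subgroup.centralizer (E : Set Ω))) : ∃ A : Subgroup Ω, A ≤ G ∧ A ≠ ⊥ ∧ Cfsg.IsElementaryAbelian p A ∧ Nat.card ↥V ≤ Nat.card ↥A * Nat.card ↥(V ⊓ Subgroup.centralizer (A : Set Ω)) ∧ ⁅⁅V, A⁆, A⁆ = ⊥ ∧ ∀ g ∈ Subgroup.closure {x : Ω | ∃ h ∈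 G, ∃ a ∈ A, x = h * a * h⁻¹}, ∀ a ∈ A, g * a * g⁻¹ ∈ A := by
  classical
  obtain ⟨E, hEG, hE0, hEe, hEo⟩ := hF
  obtain ⟨A0, hA0G, hA00, hA0e, hA0o, hA0q⟩ := exists_quadratic hV hGV hfaith hEG hE0 hEe hEo
  haveI : Finite (Module.End (ZMod p) (Additive V)) := Finite.of_injective _ LinearMap.coe_injective
  let ρ : G →* (Module.End (ZMod p) (Additive V)) :=
    { toFun := fun g => (MonoidHom.toAdditive
        (V.normalizerMonoidHom ⟨g, hGV g.2⟩).toMonoidHom).toZModLinearMap p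
      map_one' := LinearMap.ext fun w => Additive.toMul.injective (Subtype.ext (by
        show ((1 : G) : Ω) * (Additive.toMul w : V) * ((1 : G) : Ω)⁻¹ = (Additive.toMul w : V)
        simp))
      map_mul' := fun g h => LinearMap.ext fun w => Additive.toMul.injective (Subtype.ext (by
        show ((g * h : G) : Ω) * (Additive.toMul w : V) * ((g * h : G) : Ω)⁻¹ =
          (g : Ω) * ((h : Ω) * (Additive.toMul w : V) * (h : Ω)⁻¹) * (g : Ω)⁻¹
        push_cast; group)) }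
  have hρ : ∀ (g : G) (v : V),
      ((Additive.toMul (ρ g (Additive.ofMul v)) : V) : Ω) = (g : Ω) * v * (g : Ω)⁻¹ := fun _ _ => rfl
  -- `C_V` and kernels
  have hfix : ∀ (g : G) (v : V), (ρ g - 1) (Additive.ofMul v) = 0 ↔ (g : Ω) * v = v * g := by
    intro g v
    rw [LinearMap.sub_apply, Module.End.one_apply, sub_eq_zero, ← mul_inv_eq_iff_eq_mul, ← hρ g v]
    exact ⟨fun h => by rw [h]; rfl, fun h => Additive.toMul.injective (Subtype.ext h)⟩
  have hinj : Function.Injective ρ := by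
    rw [injective_iff_map_eq_one]
    intro g hg
    have : (g : Ω) ∈ G ⊓ Subgroup.centralizer (V : Set Ω) := ⟨g.2,
      Subgroup.mem_centralizer_iff.mpr fun v hv => ((hfix g ⟨v, hv⟩).mp (by
        rw [hg, sub_self]; rfl)).symm⟩
    rw [hfaith, Subgroup.mem_bot] at this
    exact Subtype.ext this
  have hR : ∀ y : (Module.End (ZMod p) (Additive V)), p • y = 0 := fun y => LinearMap.ext fun w => by
    rw [LinearMap.smul_apply, LinearMap.zero_apply, ← Nat.cast_smul_eq_nsmul (ZMod p), ZMod.natCast_self, zero_smul]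
  -- quadratic action
  have hquad : ∀ (B : Subgroup Ω) (hB : B ≤ G), ⁅⁅V, B⁆, B⁆ = ⊥ ↔
      ∀ x y : G, (x : Ω) ∈ B → (y : Ω) ∈ B → (ρ x - 1) * (ρ y - 1) = 0 := by
    intro B hB
    have hd : ∀ (a : G) (v : V), ((Additive.toMul ((ρ a - 1) (Additive.ofMul v)) : V) : Ω) =
        ((⁅(v : Ω), (a : Ω)⁆) : Ω)⁻¹ := by
      intro a v
      show ((Additive.toMul (ρ a (Additive.ofMul v) - Additive.ofMul v) : V) : Ω) = _
      rw [toMul_sub, toMul_ofMul, Subgroup.coe_div, hρ, div_eq_mul_inv, commutatorElement_def]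
      group
    rw [Subgroup.commutator_eq_bot_iff_le_centralizer, Subgroup.commutator_le]
    constructor
    · intro h x y hx hy
      refine LinearMap.ext fun w => ?_
      obtain ⟨v, rfl⟩ := Additive.ofMul.surjective w
      rw [Module.End.mul_apply, LinearMap.zero_apply]
      obtain ⟨v', hv'⟩ := Additive.ofMul.surjective ((ρ y - 1) (Additive.ofMul v))
      rw [← hv']
      refine (hfix x v').mpr ?_
      have e : (v' : Ω) = ⁅(v : Ω), (y : Ω)⁆⁻¹ := by
        rw [← hd y v, ← hv']; rfl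
      rw [e]
      exact Subgroup.mem_centralizer_iff.mp (inv_mem (h v v.2 y hy)) x hx
    · intro h v hv b hb
      refine Subgroup.mem_centralizer_iff.mpr fun b' hb' => ?_
      have h0 := LinearMap.congr_fun (h ⟨b', hB hb'⟩ ⟨b, hB hb⟩ hb' hb) (Additive.ofMul ⟨v, hv⟩)
      rw [Module.End.mul_apply, LinearMap.zero_apply] at h0
      obtain ⟨v', hv'⟩ := Additive.ofMul.surjective ((ρ ⟨b, hB hb⟩ - 1) (Additive.ofMul ⟨v, hv⟩))
      rw [← hv'] at h0
      have h1 : Commute b' (v' : Ω) := (hfix _ v').mp h0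
      have e : (v' : Ω) = ⁅v, b⁆⁻¹ := by
        have := hd ⟨b, hB hb⟩ ⟨v, hv⟩
        rw [← hv'] at this
        exact this
      rw [e] at h1
      have h2 := h1.inv_right
      rw [inv_inv] at h2
      exact h2.eq
  -- the additive subgroup of `A0`
  have hq0 := (hquad A0 hA0G).mp hA0q
  let L0 : AddSubgroup (Module.End (ZMod p) (Additive V)) :=
    { carrier := {l | ∃ x : G, (x : Ω) ∈ A0 ∧ ρ x - 1 = l}
      zero_mem' := ⟨1, one_mem A0, by rw [map_one, sub_self]⟩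
      add_mem' := by
        rintro _ _ ⟨x, hx, rfl⟩ ⟨y, hy, rfl⟩
        refine ⟨x * y, mul_mem hx hy, ?_⟩
        have e : ρ x * ρ y - 1 = (ρ x - 1) + (ρ y - 1) + (ρ x - 1) * (ρ y - 1) := by simp only [sub_mul, mul_sub, add_mul, mul_add, one_mul, mul_one, smul_mul_assoc, smul_sub, smul_add]; abel
        rw [map_mul, e, hq0 x y hx hy, add_zero]
      neg_mem' := by
        rintro _ ⟨x, hx, rfl⟩
        refine ⟨x⁻¹, inv_mem hx, ?_⟩
        have h := hq0 x⁻¹ x (inv_mem hx) hx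
        have e : (ρ x⁻¹ - 1) * (ρ x - 1) = -(ρ x⁻¹ - 1) - (ρ x - 1) + (ρ x⁻¹ * ρ x - 1) := by simp only [sub_mul, mul_sub, add_mul, mul_add, one_mul, mul_one, smul_mul_assoc, smul_sub, smul_add]; abel
        rw [e, ← map_mul, inv_mul_cancel, map_one, sub_self, add_zero] at h
        exact neg_eq_iff_eq_neg.mp (sub_eq_zero.mp h) }
  have hL0 : QuadLimit.Good ρ L0 := by
    refine ⟨?_, ?_⟩
    · rintro _ ⟨x, hx, rfl⟩ _ ⟨y, hy, rfl⟩; exact hq0 x y hx hy
    · rintro _ ⟨x, hx, rfl⟩; exact ⟨x, by rw [add_sub_cancel]⟩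
  obtain ⟨AG, hsq, hcard, hann, hnorm⟩ := QuadLimit.exists_normal ρ (by omega) hG hR L0 hL0
  set A := AG.map G.subtype with hAdef
  have hAG : A ≤ G := Subgroup.map_subtype_le _
  have hmemA : ∀ x : G, (x : Ω) ∈ A ↔ x ∈ AG := fun x =>
    ⟨fun ⟨y, hy, he⟩ => Subtype.ext he ▸ hy, fun h => ⟨x, h, rfl⟩⟩
  have hcardA : Nat.card A = Nat.card AG := Subgroup.card_map_of_injective G.subtype_injective
  have hc0 : Nat.card A0 ≤ Nat.card A := by
    rw [hcardA]
    refine le_trans ?_ hcard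
    exact Nat.card_le_card_of_injective
      (fun a : A0 => (⟨_, ⟨a, hA0G a.2⟩, a.2, rfl⟩ : L0)) fun a b h => Subtype.ext
        (congrArg (fun x : G => (x : Ω)) (hinj (sub_left_injective (congrArg Subtype.val h))))
  -- right annihilators count fixed points
  have hcount : ∀ B : Subgroup Ω, B ≤ G →
      Nat.card {r : (Module.End (ZMod p) (Additive V)) // ∀ x : G, (x : Ω) ∈ B → (ρ x - 1) * r = 0} =
        Nat.card ↥(V ⊓ Subgroup.centralizer (B : Set Ω)) ^ Module.finrank (ZMod p) (Additive V) := by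
    intro B hB
    let C : Submodule (ZMod p) (Additive V) :=
      ⨅ x : {x : G // (x : Ω) ∈ B}, LinearMap.ker (ρ x.1 - 1)
    have hC : ∀ w, w ∈ C ↔ ∀ x : G, (x : Ω) ∈ B → (ρ x - 1) w = 0 := fun w => by
      simp only [C, Submodule.mem_iInf, LinearMap.mem_ker, Subtype.forall]
    have e1 : {r : (Module.End (ZMod p) (Additive V)) // ∀ x : G, (x : Ω) ∈ B → (ρ x - 1) * r = 0} ≃ (Additive V →ₗ[ZMod p] C) :=
      { toFun := fun r => r.1.codRestrict C fun w => (hC _).mpr fun x hx => by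
          rw [← Module.End.mul_apply, r.2 x hx, LinearMap.zero_apply]
        invFun := fun φ => ⟨C.subtype.comp φ, fun x hx => LinearMap.ext fun w =>
          (hC _).mp (φ w).2 x hx⟩
        left_inv := fun r => Subtype.ext (LinearMap.ext fun w => rfl)
        right_inv := fun φ => LinearMap.ext fun w => rfl }
    have e2 : C ≃ ↥(V ⊓ Subgroup.centralizer (B : Set Ω)) :=
      { toFun := fun w => ⟨(Additive.toMul w.1 : V), (Additive.toMul w.1 : V).2,
          Subgroup.mem_centralizer_iff.mpr fun b hb => (hfix ⟨b, hB hb⟩ _).mp ((hC _).mp w.2 _ hb)⟩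
        invFun := fun v => ⟨Additive.ofMul ⟨v, v.2.1⟩, (hC _).mpr fun x hx =>
          (hfix x _).mpr (Subgroup.mem_centralizer_iff.mp v.2.2 x hx)⟩
        left_inv := fun w => rfl
        right_inv := fun v => rfl }
    rw [Nat.card_congr e1, ← Nat.card_congr e2, Module.natCard_eq_pow_finrank (K := ZMod p),
      Module.finrank_linearMap, Module.natCard_eq_pow_finrank (K := ZMod p) (V := C),
      Nat.card_zmod, ← pow_mul, mul_comm]
  have hn0 : Module.finrank (ZMod p) (Additive V) ≠ 0 := by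
    intro h0
    haveI := Module.finrank_zero_iff.mp h0
    refine hA00 ((Subgroup.eq_bot_iff_forall _).mpr fun a ha => ?_)
    exact congrArg Subtype.val (hinj (show ρ ⟨a, hA0G ha⟩ = ρ 1 from
      LinearMap.ext fun w => Subsingleton.elim _ _))
  have hfixle : Nat.card ↥(V ⊓ Subgroup.centralizer (A0 : Set Ω)) ≤
      Nat.card ↥(V ⊓ Subgroup.centralizer (A : Set Ω)) := by
    refine (Nat.pow_le_pow_iff_left hn0).mp ?_
    rw [← hcount A0 hA0G, ← hcount A hAG]
    refine le_trans (le_of_eq ?_) (hann.trans (le_of_eq ?_))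
    · refine Nat.card_congr (Equiv.subtypeEquivRight fun r => ⟨?_, fun h x hx => h _ ⟨x, hx, rfl⟩⟩)
      rintro h _ ⟨x, hx, rfl⟩
      exact h x hx
    · exact Nat.card_congr (Equiv.subtypeEquivRight fun r =>
        ⟨fun h x hx => h x ((hmemA x).mp hx), fun h x hx => h x ((hmemA x).mpr hx)⟩)
  have hsq' : ∀ x y : G, (x : Ω) ∈ A → (y : Ω) ∈ A → (ρ x - 1) * (ρ y - 1) = 0 := fun x y hx hy =>
    hsq x ((hmemA x).mp hx) y ((hmemA y).mp hy)
  refine ⟨A, hAG, ?_, ⟨⟨⟨fun a b => ?_⟩⟩, fun a ha => ?_⟩,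
    hA0o.trans (Nat.mul_le_mul hc0 hfixle), (hquad A hAG).mpr hsq', ?_⟩
  · intro h
    have h2 : Nat.card A0 ≤ 1 := by
      refine hc0.trans ?_
      rw [h, Subgroup.card_bot]
    exact hA00 (A0.eq_bot_of_card_le h2)
  · have e1 := hsq' ⟨a, hAG a.2⟩ ⟨b, hAG b.2⟩ a.2 b.2
    have e2 := hsq' ⟨b, hAG b.2⟩ ⟨a, hAG a.2⟩ b.2 a.2
    have h : (⟨a, hAG a.2⟩ : G) * ⟨b, hAG b.2⟩ = ⟨b, hAG b.2⟩ * ⟨a, hAG a.2⟩ := by
      apply hinj
      rw [map_mul, map_mul]
      set u := ρ ⟨a, hAG a.2⟩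
      set w := ρ ⟨b, hAG b.2⟩
      calc u * w = (u - 1) * (w - 1) + u + w - 1 := by simp only [sub_mul, mul_sub, add_mul, mul_add, one_mul, mul_one, smul_mul_assoc, smul_sub, smul_add]; abel
        _ = (w - 1) * (u - 1) + u + w - 1 := by rw [e1, e2]
        _ = w * u := by simp only [sub_mul, mul_sub, add_mul, mul_add, one_mul, mul_one, smul_mul_assoc, smul_sub, smul_add]; abel
    exact Subtype.ext (congrArg (fun x : G => (x : Ω)) h :)
  · have e1 := hsq' ⟨a, hAG ha⟩ ⟨a, hAG ha⟩ ha ha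
    have hpow : ∀ n : ℕ, ρ (⟨a, hAG ha⟩ ^ n) = 1 + n • (ρ ⟨a, hAG ha⟩ - 1) := by
      intro n
      set u := ρ ⟨a, hAG ha⟩
      induction n with
      | zero => simp
      | succ n ih =>
        rw [pow_succ, map_mul, ih, succ_nsmul]
        calc (1 + n • (u - 1)) * u = u + n • ((u - 1) * (u - 1)) + n • (u - 1) := by simp only [sub_mul, mul_sub, add_mul, mul_add, one_mul, mul_one, smul_mul_assoc, smul_sub, smul_add]; abel
          _ = _ := by rw [e1, nsmul_zero, add_zero]; abel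
    have h : (⟨a, hAG ha⟩ : G) ^ p = 1 := hinj (by rw [hpow, hR, add_zero, map_one])
    exact congrArg (fun x : G => (x : Ω)) h
  · intro g hg
    have hle : Subgroup.closure {x : Ω | ∃ h ∈ G, ∃ a ∈ A, x = h * a * h⁻¹} ≤
        (Subgroup.normalizer (AG : Set G)).map G.subtype := by
      rw [Subgroup.closure_le]
      rintro _ ⟨h, hh, _, ⟨a, ha, rfl⟩, rfl⟩
      refine ⟨⟨h, hh⟩ * a * ⟨h, hh⟩⁻¹, hnorm ⟨h, hh⟩ (QuadLimit.mem_conjOf.mpr ?_), rfl⟩
      simpa [mul_assoc] using ha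
    obtain ⟨g', hg', rfl⟩ := hle hg
    rintro _ ⟨a, ha, rfl⟩
    exact ⟨g' * a * g'⁻¹, (Subgroup.mem_normalizer_iff.mp hg' a).mp ha, rfl⟩


/-- Let p ≥ 5 be a prime and, inside an ambient finite group, let G be a p-subgroup acting faithfully by conjugation on an elementary abelian p-subgroup V that it normalizes (only the identity of G centralizes V). Suppose V is an F-module for G: some nontrivial elementary abelian subgroup E of G satisfies #E · #C_V(E) ≥ #V. Then G contains such an offender A that moreover acts quadratically on V ([V, A, A] = 1) and is normal in its normal closure in G. -/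
theorem result {Ω : Type*} [Group Ω] [Finite Ω] (p : ℕ) [Fact p.Prime] (hp : 5 ≤ p) (V G : Subgroup Ω) (hV : Cfsg.IsElementaryAbelian p V) (hG : IsPGroup p ↥G) (hGV : G ≤ Subgroup.normalizer (V : Set Ω)) (hfaith : G ⊓ Subgroup.centralizer (V : Set Ω) = ⊥) (hF : ∃ E : Subgroup Ω, E ≤ G ∧ E ≠ ⊥ ∧ Cfsg.IsElementaryAbelian p E ∧ Nat.card ↥V ≤ Nat.card ↥E * Nat.card ↥(V ⊓ Subgroup.centralizer (E : Set Ω))) : ∃ A : Subgroup Ω, A ≤ G ∧ A ≠ ⊥ ∧ Cfsg.IsElementaryAbelian p A ∧ Nat.card ↥V ≤ Nat.card ↥A * Nat.card ↥(V ⊓ Subgroup.centralizer (A : Set Ω)) ∧ ⁅⁅V, A⁆, A⁆ = ⊥ ∧ ∀ g ∈ Subgroup.closure {x : Ω | ∃ h ∈ G, ∃ a ∈ A, x = h * a * h⁻¹}, ∀ a ∈ A, g * a * g⁻¹ ∈ A := by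
  haveI := hV.1
  letI : Module (ZMod p) (Additive V) := AddCommGroup.zmodModule (n := p) fun w =>
    Additive.toMul.injective (Subtype.ext (by simpa using hV.2 _ (Additive.toMul w).2))
  exact aux p hp V G hV hG hGV hfaith hF

end Cfsg.Agent.S1935
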