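import Cfsg.Statements.S1939
import Cfsg.Agent.EqLemmas

set_option autoImplicit false
open Cfsg

namespace Cfsg.Agent.S1939

/-- Let S be a Sylow p-subgroup of the finite group G and a an element of S that is the only G-conjugate of a lying in S. Then every power of a has the same property: for every n, the only G-conjugate of a^n lying in S is a^n. -/
theorem result {G : Type*} [Group G] [Finite G] {p : ℕ} [Fact p.Prime] (S : Sylow p G) (a : G)
    (haS : a ∈ (S : Subgroup G)) (hwc : ∀ g : G, g * a * g⁻¹ ∈ (S : Subgroup G) → g * a * g⁻¹ = a) (n : ℕ) :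
    ∀ g : G, g * a ^ n * g⁻¹ ∈ (S : Subgroup G) → g * a ^ n * g⁻¹ = a ^ n := by
  intro g hb
  have hcen : ∀ s ∈ (S : Subgroup G), s * a = a * s := fun s hs => by
    have := hwc s (mul_mem (mul_mem hs haS) (inv_mem hs))
    exact mul_inv_eq_iff_eq_mul.mp this
  set b := g * a ^ n * g⁻¹ with hbdef
  set C := Subgroup.centralizer ({b} : Set G) with hC
  have haC : a ∈ C := Subgroup.mem_centralizer_singleton_iff.mpr (hcen b hb).symm
  have hgC : g * a * g⁻¹ ∈ C := Subgroup.mem_centralizer_singleton_iff.mpr (by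
    rw [hbdef, conj_mul, conj_mul]
    congr 2
    exact ((Commute.refl a).pow_right n).eq)
  have hp1 : IsPGroup p (Subgroup.zpowers (⟨a, haC⟩ : C)) := by
    have : IsPGroup p (Subgroup.zpowers a) :=
      S.isPGroup'.to_le ((Subgroup.zpowers_le).mpr haS)
    refine this.of_injective (((C.subtype).comp (Subgroup.zpowers (⟨a, haC⟩ : C)).subtype).codRestrict _ ?_) ?_
    · rintro ⟨x, k, rfl⟩
      exact ⟨k, by simp⟩
    · intro x y h
      exact Subtype.ext (Subtype.ext (congrArg Subtype.val h :))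
  have hp2 : IsPGroup p (Subgroup.zpowers (⟨g * a * g⁻¹, hgC⟩ : C)) := by
    have : IsPGroup p (Subgroup.zpowers (g * a * g⁻¹)) := by
      have h1 : IsPGroup p (Subgroup.zpowers a) := S.isPGroup'.to_le ((Subgroup.zpowers_le).mpr haS)
      have h2 := h1.map (MulAut.conj g).toMonoidHom
      rw [MonoidHom.map_zpowers] at h2
      exact h2
    refine this.of_injective (((C.subtype).comp (Subgroup.zpowers (⟨g * a * g⁻¹, hgC⟩ : C)).subtype).codRestrict _ ?_) ?_
    · rintro ⟨x, k, rfl⟩
      exact ⟨k, by simp⟩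
    · intro x y h
      exact Subtype.ext (Subtype.ext (congrArg Subtype.val h :))
  obtain ⟨T, hT⟩ := hp1.exists_le_sylow
  obtain ⟨T2, hT2⟩ := hp2.exists_le_sylow
  obtain ⟨c, hc⟩ := MulAction.exists_smul_eq C T2 T
  have hTp : IsPGroup p ((T : Subgroup C).map C.subtype) := T.isPGroup'.map C.subtype
  obtain ⟨U, hU⟩ := hTp.exists_le_sylow
  obtain ⟨k, hk⟩ := MulAction.exists_smul_eq G U S
  have mem_S : ∀ x : G, x ∈ (U : Subgroup G) → k * x * k⁻¹ ∈ (S : Subgroup G) := by
    intro x hx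
    rw [← hk, Sylow.coe_subgroup_smul]
    exact Subgroup.smul_mem_pointwise_smul x (MulAut.conj k) _ hx
  have haT : a ∈ (U : Subgroup G) := hU ⟨_, hT (Subgroup.mem_zpowers _), rfl⟩
  have hcT : (c : G) * (g * a * g⁻¹) * (c : G)⁻¹ ∈ (U : Subgroup G) := by
    refine hU ⟨c * ⟨g * a * g⁻¹, hgC⟩ * c⁻¹, ?_, by simp⟩
    rw [← hc, Sylow.coe_subgroup_smul]
    exact Subgroup.smul_mem_pointwise_smul _ (MulAut.conj c) _ (hT2 (Subgroup.mem_zpowers _))
  have e1 : k * a * k⁻¹ = a := hwc k (mem_S a haT)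
  have e2 : k * ((c : G) * (g * a * g⁻¹) * (c : G)⁻¹) * k⁻¹ = a := by
    have h := hwc (k * (c : G) * g) (by
      simpa [mul_assoc] using mem_S _ hcT)
    simpa [mul_assoc] using h
  have e3 : (c : G) * (g * a * g⁻¹) * (c : G)⁻¹ = a :=
    mul_left_cancel (mul_right_cancel (e2.trans e1.symm))
  have e4 : (c : G) * b * (c : G)⁻¹ = a ^ n := by
    rw [hbdef, ← conj_pow (i := n), ← conj_pow (i := n), e3]
  have e5 : (c : G) * b = b * (c : G) := Subgroup.mem_centralizer_singleton_iff.mp c.2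
  rwa [e5, mul_inv_cancel_right] at e4

end Cfsg.Agent.S1939
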