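import Cfsg.Statements.S1940
import Cfsg.Agent.EqLemmas

set_option autoImplicit false
open Cfsg

namespace Cfsg.Agent.S1940

/-- Let the finite group L act by automorphisms on the finite abelian group M, and let N be an L-invariant subgroup of M such that M/N is a p-group on which L acts trivially (every l • m lies in the coset mN). If every element of M is a product of an element of N and an element fixed by a Sylow p-subgroup T of L, then every element of M is a product of an element of N and an element fixed by all of L. -/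
theorem result {L : Type*} [Group L] [Finite L] {M : Type*} [CommGroup M] [Finite M] [MulDistribMulAction L M]
    {p : ℕ} [Fact p.Prime] (N : Subgroup M) (hN : ∀ (l : L) (m : M), m ∈ N → l • m ∈ N)
    (hquot : IsPGroup p (M ⧸ N)) (htriv : ∀ (l : L) (m : M), (l • m) * m⁻¹ ∈ N) (T : Sylow p L)
    (hT : ∀ m : M, ∃ n ∈ N, ∃ c : M, (∀ t ∈ (T : Subgroup L), t • c = c) ∧ m = n * c) :
    ∀ m : M, ∃ n ∈ N, ∃ c : M, (∀ l : L, l • c = c) ∧ m = n * c := by
  classical
  haveI : Fintype (L ⧸ (T : Subgroup L)) := Fintype.ofFinite _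
  intro m
  obtain ⟨n, hn, c, hc, rfl⟩ := hT m
  let f : L ⧸ (T : Subgroup L) → M := Quotient.lift (fun l : L => l • c) (by
    intro a b hab
    replace hab : a⁻¹ * b ∈ (T : Subgroup L) := QuotientGroup.leftRel_apply.mp hab
    show a • c = b • c
    conv_lhs => rw [← hc _ hab]
    rw [smul_smul, mul_inv_cancel_left])
  have hf : ∀ (l : L) (q : L ⧸ (T : Subgroup L)), l • f q = f (l • q) := by
    intro l q
    induction q using QuotientGroup.induction_on with
    | _ a => exact smul_smul l a c
  set c' := ∏ q, f q with hc'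
  have hfix : ∀ l : L, l • c' = c' := fun l => by
    rw [hc', ← MulDistribMulAction.toMonoidHom_apply M l, map_prod]
    refine Fintype.prod_equiv (MulAction.toPerm l) _ _ fun q => ?_
    simpa using hf l q
  set k := (T : Subgroup L).index with hk
  have hcongr : (c' : M ⧸ N) = (c : M ⧸ N) ^ k := by
    rw [hc', ← QuotientGroup.mk'_apply, map_prod, Finset.prod_eq_pow_card (b := (c : M ⧸ N)),
      hk, Subgroup.index, Nat.card_eq_fintype_card, Finset.card_univ]
    intro q _
    induction q using QuotientGroup.induction_on with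
    | _ a =>
      rw [QuotientGroup.mk'_apply, eq_comm, QuotientGroup.eq]
      show c⁻¹ * (a • c) ∈ N
      rw [mul_comm]
      exact htriv a c
  obtain ⟨e, he⟩ := hquot (c : M ⧸ N)
  have hcop : Nat.Coprime k (p ^ e) :=
    Nat.Coprime.pow_right e ((Fact.out : p.Prime).coprime_iff_not_dvd.mpr T.not_dvd_index).symm
  obtain ⟨j, hj⟩ : ∃ j : ℕ, (c : M ⧸ N) ^ (k * j) = (c : M ⧸ N) := by
    have h1 : Nat.Coprime k (orderOf (c : M ⧸ N)) :=
      hcop.coprime_dvd_right (orderOf_dvd_of_pow_eq_one he)
    obtain ⟨j, hj⟩ := exists_pow_eq_self_of_coprime h1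
    exact ⟨j, by rw [pow_mul, hj]⟩
  refine ⟨n * c * (c' ^ j)⁻¹, ?_, c' ^ j, fun l => by rw [smul_pow', hfix], by simp⟩
  rw [← QuotientGroup.eq_one_iff, QuotientGroup.mk_mul, QuotientGroup.mk_mul, QuotientGroup.mk_inv,
    QuotientGroup.mk_pow, hcongr, ← pow_mul, hj, (QuotientGroup.eq_one_iff n).mpr hn, one_mul, mul_inv_cancel]

end Cfsg.Agent.S1940
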