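import Cfsg.Statements.S1941
import Cfsg.Agent.Lib.Components.GenFitting

set_option autoImplicit false
open Cfsg

namespace Cfsg.Agent.S1941

/-- Let G be a finite group with no nontrivial normal subgroup of order prime to p, T a Sylow p-subgroup of G and E(G) the layer of G (the subgroup generated by its components). An automorphism of G of p-power order that fixes T and E(G) elementwise is inner. -/
theorem result {G : Type*} [Group G] [Finite G] {p : ℕ} [Fact p.Prime] (hcore : Cfsg.pPrimeCore p G = ⊥)
    (T : Sylow p G) (α : MulAut G) (hα : ∃ j : ℕ, orderOf α = p ^ j) (hfixT : ∀ x ∈ (T : Subgroup G), α x = x)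
    (hfixE : ∀ x ∈ Cfsg.layer G, α x = x) : ∃ g : G, ∀ x : G, α x = g * x * g⁻¹ := by
  classical
  haveI : Fintype (G ⧸ (T : Subgroup G)) := Fintype.ofFinite _
  set F := Cfsg.generalizedFittingSubgroup G with hF
  have hFT : Cfsg.fittingSubgroup G ≤ (T : Subgroup G) := by
    rw [Components.fitting_eq_pCore_of hcore]
    exact Cores.pCore_le_sylow T
  have hfixF : ∀ x ∈ F, α x = x := by
    intro x hx
    have hle : F ≤ (MonoidHom.eqLocus α.toMonoidHom (MonoidHom.id G)) := by
      rw [hF, Cfsg.generalizedFittingSubgroup]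
      exact sup_le (fun y hy => hfixE y hy) (fun y hy => hfixT y (hFT hy))
    exact hle hx
  set Z := Subgroup.centralizer (F : Set G) with hZ
  haveI : Z.Normal := inferInstance
  have hZT : Z ≤ (T : Subgroup G) := Components.centralizer_genFitting_le_fitting.trans hFT
  letI : CommGroup Z := { (inferInstance : Group Z) with
    mul_comm := fun a b => Subtype.ext (Subgroup.mem_centralizer_iff.mp b.2 a (Components.centralizer_genFitting_le a.2)) }
  have hd : ∀ g, α g * g⁻¹ ∈ Z := fun g => by
    refine Subgroup.mem_centralizer_iff.mpr fun f hf => ?_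
    have h1 := hfixF (g⁻¹ * f * g) (by simpa using (inferInstance : F.Normal).conj_mem f hf g⁻¹)
    rw [map_mul, map_mul, hfixF f hf, map_inv] at h1
    calc f * (α g * g⁻¹) = α g * ((α g)⁻¹ * f * α g) * g⁻¹ := by group
      _ = α g * (g⁻¹ * f * g) * g⁻¹ := by rw [h1]
      _ = α g * g⁻¹ * f := by group
  let d : G → Z := fun g => ⟨α g * g⁻¹, hd g⟩
  let D : G ⧸ (T : Subgroup G) → Z := Quotient.lift d (by
    intro a b hab
    replace hab : a⁻¹ * b ∈ (T : Subgroup G) := QuotientGroup.leftRel_apply.mp hab
    refine Subtype.ext ?_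
    show α a * a⁻¹ = α b * b⁻¹
    have h1 := hfixT _ hab
    rw [map_mul, map_inv, inv_mul_eq_iff_eq_mul] at h1
    rw [h1]; group)
  let cj : G → Z →* Z := fun h =>
    { toFun := fun z => ⟨h * z * h⁻¹, (inferInstance : Z.Normal).conj_mem _ z.2 h⟩
      map_one' := Subtype.ext (by simp)
      map_mul' := fun a b => Subtype.ext (by simp [mul_assoc]) }
  have hcoc : ∀ h q, D (h • q) = d h * cj h (D q) := by
    intro h q
    induction q using QuotientGroup.induction_on with
    | _ a =>
      refine Subtype.ext ?_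
      show α (h * a) * (h * a)⁻¹ = α h * h⁻¹ * (h * (α a * a⁻¹) * h⁻¹)
      rw [map_mul]; group
  set w := ∏ q, D q with hw
  have hsum : ∀ h, w = d h ^ (T : Subgroup G).index * cj h w := by
    intro h
    calc w = ∏ q, D (h • q) := (Fintype.prod_equiv (MulAction.toPerm h) _ _ fun q => rfl).symm
      _ = ∏ q, d h * cj h (D q) := Finset.prod_congr rfl fun q _ => hcoc h q
      _ = _ := by
        rw [Finset.prod_mul_distrib, Finset.prod_const, ← map_prod, Finset.card_univ, Subgroup.index,
          Nat.card_eq_fintype_card]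
  obtain ⟨n, hn⟩ := IsPGroup.iff_card.mp (T.isPGroup'.to_le hZT)
  have hcop : Nat.Coprime (T : Subgroup G).index (Nat.card Z) :=
    hn ▸ Nat.Coprime.pow_right n ((Fact.out : p.Prime).coprime_iff_not_dvd.mpr T.not_dvd_index).symm
  let e := powCoprime hcop.symm
  obtain ⟨v, hv⟩ := e.surjective w
  replace hv : v ^ (T : Subgroup G).index = w := hv
  refine ⟨(v : G), fun x => ?_⟩
  have h1 : d x = v * (cj x v)⁻¹ := by
    apply e.injective
    show d x ^ _ = (v * (cj x v)⁻¹) ^ _
    rw [mul_pow, inv_pow, ← map_pow, hv]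
    exact (mul_inv_eq_of_eq_mul (hsum x)).symm
  have h2 : α x * x⁻¹ = (v : G) * (x * (v : G) * x⁻¹)⁻¹ := congrArg Subtype.val h1
  rw [mul_inv_eq_iff_eq_mul] at h2
  rw [h2]; group

end Cfsg.Agent.S1941
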