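import Cfsg.Statements.S1944
import Cfsg.Agent.S1907
import Cfsg.Agent.Lib.Coprime.Abelian
import Cfsg.Agent.Lib.Coprime.Basic

set_option autoImplicit false
open Cfsg

namespace Cfsg.Agent.S1944

/-- Let S be a Sylow p-subgroup of the finite group G and suppose that the centre Z(S) lies in O_{p',p}(G). The elements of S each of which is its only G-conjugate in S form a subgroup W of Z(S); W is then a direct factor of Z(S): there is a subgroup K of Z(S) with W ∩ K = 1 and WK = Z(S). -/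
theorem result {G : Type*} [Group G] [Finite G] {p : ℕ} [Fact p.Prime] (S : Sylow p G)
    (hZ : ((S : Subgroup G) ⊓ Subgroup.centralizer ((S : Subgroup G) : Set G)) ≤ Cfsg.pPrimePCore p G) :
    ∃ W K : Subgroup G, (∀ x : G, x ∈ W ↔ (x ∈ (S : Subgroup G) ∧ ∀ g : G, g * x * g⁻¹ ∈ (S : Subgroup G) → g * x * g⁻¹ = x)) ∧
      K ≤ ((S : Subgroup G) ⊓ Subgroup.centralizer ((S : Subgroup G) : Set G)) ∧ W ⊓ K = ⊥ ∧ W ⊔ K = ((S : Subgroup G) ⊓ Subgroup.centralizer ((S : Subgroup G) : Set G)) := by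
  classical
  haveI : (Cfsg.pPrimePCore p G).Normal := Subgroup.Normal.comap inferInstance _
  set H := (S : Subgroup G) ⊓ Cfsg.pPrimePCore p G with hH
  set N := Subgroup.normalizer (H : Set G) with hN
  set Z := (S : Subgroup G) ⊓ Subgroup.centralizer ((S : Subgroup G) : Set G) with hZdef
  have hfus : ∀ x y : G, x ∈ (S : Subgroup G) → y ∈ (S : Subgroup G) → IsConj x y →
      ∃ n ∈ N, n * x * n⁻¹ = y := (Cfsg.Agent.S1907.result S).2
  have hZH : Z ≤ H := le_inf inf_le_left hZ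
  have hSN : (S : Subgroup G) ≤ N := fun s hs => Coprime.mem_normalizer_of_forall fun h hh =>
    ⟨(mul_mem (mul_mem hs hh.1) (inv_mem hs) : s * h * s⁻¹ ∈ (S : Subgroup G)), Subgroup.Normal.conj_mem inferInstance h hh.2 s⟩
  -- the abelian subgroup Z(H)
  set V := H ⊓ Subgroup.centralizer (H : Set G) with hV
  letI : CommGroup V := { (inferInstance : Group V) with mul_comm := fun a b => Subtype.ext (Subgroup.mem_centralizer_iff.mp b.2.2 a a.2.1) }
  have hZV : Z ≤ V := fun z hz => ⟨hZH hz, Subgroup.mem_centralizer_iff.mpr fun h hh =>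
    Subgroup.mem_centralizer_iff.mp hz.2 h hh.1⟩
  have hNV : N ≤ Subgroup.normalizer (V : Set G) := fun n hn => Coprime.mem_normalizer_of_forall fun v hv =>
    ⟨(Subgroup.mem_normalizer_iff.mp hn v).mp hv.1, Subgroup.mem_centralizer_iff.mpr fun h hh => by
      have h1 : n⁻¹ * h * n ∈ H := (Subgroup.mem_normalizer_iff''.mp hn h).mp hh
      have h2 := Subgroup.mem_centralizer_iff.mp hv.2 _ h1
      calc h * (n * v * n⁻¹) = n * (n⁻¹ * h * n * v) * n⁻¹ := by group
        _ = n * (v * (n⁻¹ * h * n)) * n⁻¹ := by rw [h2]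
        _ = n * v * n⁻¹ * h := by group⟩
  set act := Coprime.conjAut hNV with hact
  set S' := (S : Subgroup G).subgroupOf N with hS'
  haveI : Fintype (↥N ⧸ S') := Fintype.ofFinite _
  have hfixS : ∀ z : Z, ∀ s ∈ S', act s ⟨z, hZV z.2⟩ = ⟨z, hZV z.2⟩ := fun z s hs => Subtype.ext (by
    rw [hact, Coprime.coe_conjAut]
    show (s : G) * z * (s : G)⁻¹ = z
    rw [Subgroup.mem_centralizer_iff.mp z.2.2 s hs, mul_inv_cancel_right])
  let f : Z → ↥N ⧸ S' → V := fun z => Quotient.lift (fun n : N => act n ⟨z, hZV z.2⟩) (by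
    intro a b hab
    replace hab : a⁻¹ * b ∈ S' := QuotientGroup.leftRel_apply.mp hab
    show act a ⟨z, hZV z.2⟩ = act b ⟨z, hZV z.2⟩
    conv_lhs => rw [← hfixS z _ hab]
    rw [← MulAut.mul_apply, ← map_mul, mul_inv_cancel_left])
  have hf : ∀ (z : Z) (m : N) (q : ↥N ⧸ S'), act m (f z q) = f z (m • q) := by
    intro z m q
    induction q using QuotientGroup.induction_on with
    | _ a =>
      show act m (act a ⟨z, hZV z.2⟩) = act (m * a) ⟨z, hZV z.2⟩
      rw [map_mul]; rfl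
  let tr : Z →* V :=
    { toFun := fun z => ∏ q, f z q
      map_one' := Finset.prod_eq_one fun q _ => by
        induction q using QuotientGroup.induction_on with
        | _ a => exact map_one (act a)
      map_mul' := fun z w => by
        rw [← Finset.prod_mul_distrib]
        refine Finset.prod_congr rfl fun q _ => ?_
        induction q using QuotientGroup.induction_on with
        | _ a => exact map_mul (act a) ⟨z, hZV z.2⟩ ⟨w, hZV w.2⟩ }
  have htr : ∀ z, ((tr z : V) : G) ∈ Subgroup.centralizer (N : Set G) := fun z => by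
    rw [Subgroup.mem_centralizer_iff]
    intro m hm
    have h1 : act ⟨m, hm⟩ (tr z) = tr z := by
      show act ⟨m, hm⟩ (∏ q, f z q) = ∏ q, f z q
      rw [map_prod]
      exact Fintype.prod_equiv (MulAction.toPerm (⟨m, hm⟩ : N)) _ _ fun q => by simpa using hf z ⟨m, hm⟩ q
    have h2 : m * ((tr z : V) : G) * m⁻¹ = tr z := congrArg Subtype.val h1
    exact mul_inv_eq_iff_eq_mul.mp h2
  set W := Z ⊓ Subgroup.centralizer (N : Set G) with hW
  have htrW : ∀ z, ((tr z : V) : G) ∈ W := fun z =>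
    ⟨⟨(tr z).2.1.1, Subgroup.mem_centralizer_iff.mpr fun s hs =>
      Subgroup.mem_centralizer_iff.mp (htr z) s (hSN hs)⟩, htr z⟩
  have htrfix : ∀ z : Z, (z : G) ∈ W → ((tr z : V) : G) = (z : G) ^ S'.index := by
    intro z hz
    have h1 : ∀ q ∈ (Finset.univ : Finset (↥N ⧸ S')), f z q = ⟨z, hZV z.2⟩ := by
      intro q _
      induction q using QuotientGroup.induction_on with
      | _ a =>
        refine Subtype.ext ?_
        show (a : G) * z * (a : G)⁻¹ = z
        rw [Subgroup.mem_centralizer_iff.mp hz.2 a a.2, mul_inv_cancel_right]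
    show ((∏ q, f z q : V) : G) = _
    rw [Finset.prod_eq_pow_card h1, Subgroup.coe_pow, Finset.card_univ, Subgroup.index,
      Nat.card_eq_fintype_card]
  have hk : ¬ p ∣ S'.index := fun h => S.not_dvd_index (h.trans (Subgroup.relIndex_dvd_index_of_le hSN))
  have hcop : ∀ z : G, z ∈ Z → Nat.Coprime S'.index (orderOf z) := fun z hz => by
    obtain ⟨k, hk'⟩ := IsPGroup.iff_orderOf.mp S.isPGroup' ⟨z, hz.1⟩
    rw [Subgroup.orderOf_mk] at hk'
    rw [hk']
    exact Nat.Coprime.pow_right k ((Fact.out : p.Prime).coprime_iff_not_dvd.mpr hk).symm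
  refine ⟨W, tr.ker.map Z.subtype, fun x => ⟨fun hx => ⟨hx.1.1, fun g hg => ?_⟩, fun ⟨hxS, hx⟩ => ?_⟩,
    Subgroup.map_subtype_le _, ?_, le_antisymm (sup_le inf_le_left (Subgroup.map_subtype_le _)) fun z hz => ?_⟩
  · obtain ⟨n, hn, hne⟩ := hfus x _ hx.1.1 hg (isConj_iff.mpr ⟨g, rfl⟩)
    rw [← hne, Subgroup.mem_centralizer_iff.mp hx.2 n hn, mul_inv_cancel_right]
  · have hxZ : x ∈ Z := ⟨hxS, Subgroup.mem_centralizer_iff.mpr fun s hs =>
      mul_inv_eq_iff_eq_mul.mp (hx s (mul_mem (mul_mem hs hxS) (inv_mem hs)))⟩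
    exact ⟨hxZ, Subgroup.mem_centralizer_iff.mpr fun n hn =>
      mul_inv_eq_iff_eq_mul.mp (hx n ((Subgroup.mem_normalizer_iff.mp hn x).mp (hZH hxZ)).1)⟩
  · rw [eq_bot_iff]
    rintro x ⟨hxW, z, hz, rfl⟩
    have h1 : (z : G) ^ S'.index = 1 := by
      rw [← htrfix z hxW, MonoidHom.mem_ker.mp hz, Subgroup.coe_one]
    exact orderOf_eq_one_iff.mp (Nat.eq_one_of_dvd_coprimes (hcop _ z.2)
      (orderOf_dvd_of_pow_eq_one h1) dvd_rfl)
  · set w := ((tr ⟨z, hz⟩ : V) : G) with hw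
    have hwW : w ∈ W := htrW ⟨z, hz⟩
    obtain ⟨j, hj⟩ := exists_pow_eq_self_of_coprime (hcop w hwW.1)
    have hc : w ^ j ∈ W := pow_mem hwW j
    rw [show z = w ^ j * ((w ^ j)⁻¹ * z) by rw [mul_inv_cancel_left]]
    refine Subgroup.mul_mem_sup hc ⟨⟨(w ^ j)⁻¹ * z, mul_mem (inv_mem hc.1) hz⟩, ?_, rfl⟩
    rw [SetLike.mem_coe, MonoidHom.mem_ker]
    refine Subtype.ext ?_
    have e : (⟨(w ^ j)⁻¹ * z, mul_mem (inv_mem hc.1) hz⟩ : Z) = (⟨w ^ j, hc.1⟩ : Z)⁻¹ * ⟨z, hz⟩ := rfl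
    rw [e, map_mul, map_inv, Subgroup.coe_mul, Subgroup.coe_inv, htrfix ⟨w ^ j, hc.1⟩ hc, ← hw]
    show ((w ^ j) ^ S'.index)⁻¹ * w = ((1 : V) : G)
    rw [← pow_mul, mul_comm, pow_mul, hj, inv_mul_cancel, Subgroup.coe_one]

end Cfsg.Agent.S1944
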