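import Cfsg.Statements.S1945
import Cfsg.Agent.EqLemmas

import Cfsg.Agent.S1944
import Cfsg.Agent.S2799
import Cfsg.Agent.Lib.PLocal.Functor
import Cfsg.Agent.Lib.PLocal.Thompson
import Cfsg.Agent.Lib.HallHigman.PSolvable
import Cfsg.Agent.Lib.ClassIndex.PSolvable
import Cfsg.Agent.Lib.Constrained.Basic
import Cfsg.Agent.Lib.Coprime.Abelian

set_option autoImplicit false
open Cfsg

namespace Cfsg.Agent.S1945

/-- For odd `p` the weakly closed elements split off the centre of a Sylow subgroup. -/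
theorem splits_odd {G : Type*} [Group G] [Finite G] {p : ℕ} [Fact p.Prime] (S : Sylow p G) (hp : p ≠ 2) :
    ∃ W K : Subgroup G, (∀ x : G, x ∈ W ↔ (x ∈ (S : Subgroup G) ∧ ∀ g : G, g * x * g⁻¹ ∈ (S : Subgroup G) → g * x * g⁻¹ = x)) ∧
      K ≤ ((S : Subgroup G) ⊓ Subgroup.centralizer ((S : Subgroup G) : Set G)) ∧ W ⊓ K = ⊥ ∧ W ⊔ K = ((S : Subgroup G) ⊓ Subgroup.centralizer ((S : Subgroup G) : Set G)) := by
  classical
  set J := Cfsg.thompsonSubgroupAOf (S : Subgroup G) with hJ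
  set N := Subgroup.normalizer (J : Set G) with hN
  set Z := (S : Subgroup G) ⊓ Subgroup.centralizer ((S : Subgroup G) : Set G) with hZdef
  have hJS : J ≤ (S : Subgroup G) := PLocal.thompsonSubgroupAOf_le _
  have hSN : (S : Subgroup G) ≤ N :=
    Subgroup.le_normalizer.trans (PLocal.normalizer_le_normalizer_thompsonSubgroupAOf _)
  set V := J ⊓ Subgroup.centralizer (J : Set G) with hV
  letI : CommGroup V := { (inferInstance : Group V) with mul_comm := fun a b => Subtype.ext (Subgroup.mem_centralizer_iff.mp b.2.2 a a.2.1) }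
  have hZV : Z ≤ V := fun z hz => PLocal.central_le_centerThompsonAOf hz
  have hNV : N ≤ Subgroup.normalizer (V : Set G) :=
    (le_inf le_rfl (PLocal.normalizer_le_normalizer_centralizer J)).trans Subgroup.inf_normalizer_le_normalizer_inf
  set act := Coprime.conjAut hNV with hact
  set S' := (S : Subgroup G).subgroupOf N with hS'
  haveI : Fintype (↥N ⧸ S') := Fintype.ofFinite _
  have hfixS : ∀ z : Z, ∀ s ∈ S', act s ⟨z, hZV z.2⟩ = ⟨z, hZV z.2⟩ := fun z s hs => Subtype.ext (by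
    rw [hact, Coprime.coe_conjAut]
    show (s : G) * z * (s : G)⁻¹ = z
    rw [Subgroup.mem_centralizer_iff.mp z.2.2 s hs, mul_inv_cancel_right])
  let f : Z → ↥N ⧸ S' → V := fun z => Quotient.lift (fun n : N => act n ⟨z, hZV z.2⟩) (by
    intro a b hab
    replace hab : a⁻¹ * b ∈ S' := QuotientGroup.leftRel_apply.mp hab
    show act a ⟨z, hZV z.2⟩ = act b ⟨z, hZV z.2⟩
    conv_lhs => rw [← hfixS z _ hab]
    rw [← MulAut.mul_apply, ← map_mul, mul_inv_cancel_left])
  have hf : ∀ (z : Z) (m : N) (q : ↥N ⧸ S'), act m (f z q) = f z (m • q) := by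
    intro z m q
    induction q using QuotientGroup.induction_on with
    | _ a =>
      show act m (act a ⟨z, hZV z.2⟩) = act (m * a) ⟨z, hZV z.2⟩
      rw [map_mul]; rfl
  let tr : Z →* V :=
    { toFun := fun z => ∏ q, f z q
      map_one' := Finset.prod_eq_one fun q _ => by
        induction q using QuotientGroup.induction_on with
        | _ a => exact map_one (act a)
      map_mul' := fun z w => by
        rw [← Finset.prod_mul_distrib]
        refine Finset.prod_congr rfl fun q _ => ?_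
        induction q using QuotientGroup.induction_on with
        | _ a => exact map_mul (act a) ⟨z, hZV z.2⟩ ⟨w, hZV w.2⟩ }
  have htr : ∀ z, ((tr z : V) : G) ∈ Subgroup.centralizer (N : Set G) := fun z => by
    rw [Subgroup.mem_centralizer_iff]
    intro m hm
    have h1 : act ⟨m, hm⟩ (tr z) = tr z := by
      show act ⟨m, hm⟩ (∏ q, f z q) = ∏ q, f z q
      rw [map_prod]
      exact Fintype.prod_equiv (MulAction.toPerm (⟨m, hm⟩ : N)) _ _ fun q => by simpa using hf z ⟨m, hm⟩ q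
    have h2 : m * ((tr z : V) : G) * m⁻¹ = tr z := congrArg Subtype.val h1
    exact mul_inv_eq_iff_eq_mul.mp h2
  set W := Z ⊓ Subgroup.centralizer (N : Set G) with hW
  have htrW : ∀ z, ((tr z : V) : G) ∈ W := fun z =>
    ⟨⟨hJS (tr z).2.1, Subgroup.mem_centralizer_iff.mpr fun s hs =>
      Subgroup.mem_centralizer_iff.mp (htr z) s (hSN hs)⟩, htr z⟩
  have htrfix : ∀ z : Z, (z : G) ∈ W → ((tr z : V) : G) = (z : G) ^ S'.index := by
    intro z hz
    have h1 : ∀ q ∈ (Finset.univ : Finset (↥N ⧸ S')), f z q = ⟨z, hZV z.2⟩ := by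
      intro q _
      induction q using QuotientGroup.induction_on with
      | _ a =>
        refine Subtype.ext ?_
        show (a : G) * z * (a : G)⁻¹ = z
        rw [Subgroup.mem_centralizer_iff.mp hz.2 a a.2, mul_inv_cancel_right]
    show ((∏ q, f z q : V) : G) = _
    rw [Finset.prod_eq_pow_card h1, Subgroup.coe_pow, Finset.card_univ, Subgroup.index,
      Nat.card_eq_fintype_card]
  have hk : ¬ p ∣ S'.index := fun h => S.not_dvd_index (h.trans (Subgroup.relIndex_dvd_index_of_le hSN))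
  have hcop : ∀ z : G, z ∈ Z → Nat.Coprime S'.index (orderOf z) := fun z hz => by
    obtain ⟨k, hk'⟩ := IsPGroup.iff_orderOf.mp S.isPGroup' ⟨z, hz.1⟩
    rw [Subgroup.orderOf_mk] at hk'
    rw [hk']
    exact Nat.Coprime.pow_right k ((Fact.out : p.Prime).coprime_iff_not_dvd.mpr hk).symm
  refine ⟨W, tr.ker.map Z.subtype, fun x => ⟨fun hx => ⟨hx.1.1, fun g hg => ?_⟩, fun ⟨hxS, hx⟩ => ?_⟩,
    Subgroup.map_subtype_le _, ?_, le_antisymm (sup_le inf_le_left (Subgroup.map_subtype_le _)) fun z hz => ?_⟩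
  · refine Cfsg.Agent.S2799.result S x hx.1.1 ⟨⟨x, hSN hx.1.1⟩, ?_, rfl⟩ (Or.inl hp) g hg
    exact Subgroup.mem_center_iff.mpr fun m => Subtype.ext (Subgroup.mem_centralizer_iff.mp hx.2 m m.2)
  · have hxZ : x ∈ Z := ⟨hxS, Subgroup.mem_centralizer_iff.mpr fun s hs =>
      mul_inv_eq_iff_eq_mul.mp (hx s (mul_mem (mul_mem hs hxS) (inv_mem hs)))⟩
    exact ⟨hxZ, Subgroup.mem_centralizer_iff.mpr fun n hn =>
      mul_inv_eq_iff_eq_mul.mp (hx n (hJS ((Subgroup.mem_normalizer_iff.mp hn x).mp (hZV hxZ).1)))⟩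
  · rw [eq_bot_iff]
    rintro x ⟨hxW, z, hz, rfl⟩
    have h1 : (z : G) ^ S'.index = 1 := by
      rw [← htrfix z hxW, MonoidHom.mem_ker.mp hz, Subgroup.coe_one]
    exact orderOf_eq_one_iff.mp (Nat.eq_one_of_dvd_coprimes (hcop _ z.2)
      (orderOf_dvd_of_pow_eq_one h1) dvd_rfl)
  · set w := ((tr ⟨z, hz⟩ : V) : G) with hw
    have hwW : w ∈ W := htrW ⟨z, hz⟩
    obtain ⟨j, hj⟩ := exists_pow_eq_self_of_coprime (hcop w hwW.1)
    have hc : w ^ j ∈ W := pow_mem hwW j
    rw [show z = w ^ j * ((w ^ j)⁻¹ * z) by rw [mul_inv_cancel_left]]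
    refine Subgroup.mul_mem_sup hc ⟨⟨(w ^ j)⁻¹ * z, mul_mem (inv_mem hc.1) hz⟩, ?_, rfl⟩
    rw [SetLike.mem_coe, MonoidHom.mem_ker]
    refine Subtype.ext ?_
    have e : (⟨(w ^ j)⁻¹ * z, mul_mem (inv_mem hc.1) hz⟩ : Z) = (⟨w ^ j, hc.1⟩ : Z)⁻¹ * ⟨z, hz⟩ := rfl
    rw [e, map_mul, map_inv, Subgroup.coe_mul, Subgroup.coe_inv, htrfix ⟨w ^ j, hc.1⟩ hc, ← hw]
    show ((w ^ j) ^ S'.index)⁻¹ * w = ((1 : V) : G)
    rw [← pow_mul, mul_comm, pow_mul, hj, inv_mul_cancel, Subgroup.coe_one]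

/-- In a solvable group the centre of a Sylow subgroup lies in `O_{p',p}`. -/
theorem center_le_pPrimePCore {G : Type*} [Group G] [Finite G] {p : ℕ} [Fact p.Prime] (S : Sylow p G)
    (h : Cfsg.IsPConstrained p G) :
    (S : Subgroup G) ⊓ Subgroup.centralizer ((S : Subgroup G) : Set G) ≤ Cfsg.pPrimePCore p G := by
  intro z hz
  set q := QuotientGroup.mk' (Cfsg.pPrimeCore p G)
  refine Constrained.isPConstrained_iff.1 h (Subgroup.mem_centralizer_iff.mpr fun r hr => ?_)
  obtain ⟨s, hs, rfl⟩ := (Cores.pCore_le_sylow (S.mapSurjective (QuotientGroup.mk'_surjective _))) hr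
  show q s * q z = q z * q s
  rw [← map_mul, ← map_mul, Subgroup.mem_centralizer_iff.mp hz.2 s hs]

/-- Let S be a Sylow p-subgroup of the finite group G, and assume that p is odd or that G is solvable. The elements of S each of which is its only G-conjugate in S form a subgroup W of Z(S); W is then a direct factor of Z(S): there is a subgroup K of Z(S) with W ∩ K = 1 and WK = Z(S). (For p = 2 and G not solvable this can fail.) -/
theorem result {G : Type*} [Group G] [Finite G] {p : ℕ} [Fact p.Prime] (S : Sylow p G) (h : p ≠ 2 ∨ Group.IsSolvable G) :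
    ∃ W K : Subgroup G, (∀ x : G, x ∈ W ↔ (x ∈ (S : Subgroup G) ∧ ∀ g : G, g * x * g⁻¹ ∈ (S : Subgroup G) → g * x * g⁻¹ = x)) ∧
      K ≤ ((S : Subgroup G) ⊓ Subgroup.centralizer ((S : Subgroup G) : Set G)) ∧ W ⊓ K = ⊥ ∧ W ⊔ K = ((S : Subgroup G) ⊓ Subgroup.centralizer ((S : Subgroup G) : Set G)) := by
  rcases h with hp | hsol
  · exact splits_odd S hp
  · exact Cfsg.Agent.S1944.result S (center_le_pPrimePCore S
      (Cfsg.Agent.HallHigman.isPConstrained_of_isPSolvable (Cfsg.Agent.ClassIndex.isPSolvable_of_isSolvable G hsol)))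

end Cfsg.Agent.S1945
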