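import Cfsg.Statements.S1946
import Cfsg.Agent.Lib.SmallFix.Basic
import Cfsg.Agent.Lib.Transfer.Alperin

set_option autoImplicit false
open Cfsg

namespace Cfsg.Agent.S1946

/-- Let P be a Sylow p-subgroup of the finite group G. Then G has a normal p-complement if and only if P controls the fusion of its elements of order dividing p (dividing 4 when p = 2): whenever such an element a of P has a G-conjugate g a g⁻¹ in P, that conjugate is already x a x⁻¹ for some x in P. -/
theorem result {G : Type*} [Group G] [Finite G] {p : ℕ} [Fact p.Prime] (P : Sylow p G) :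
    Cfsg.HasNormalPComplement p G ↔
      ∀ a ∈ (P : Subgroup G), (a ^ p = 1 ∨ (p = 2 ∧ a ^ 4 = 1)) → ∀ g : G, g * a * g⁻¹ ∈ (P : Subgroup G) →
        ∃ x ∈ (P : Subgroup G), g * a * g⁻¹ = x * a * x⁻¹ := by
  constructor
  · intro hN a ha _ g hg
    have hinf := (Transfer.hasNormalPComplement_iff_inf_eq_bot P).mp hN
    obtain ⟨x, hx, m, hm, rfl⟩ := Subgroup.mem_sup_of_normal_right.mp
      ((Transfer.sylow_sup_eq_top P).symm ▸ Subgroup.mem_top g)
    refine ⟨x, hx, ?_⟩
    have h1 : m * a * m⁻¹ ∈ (P : Subgroup G) := by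
      have := mul_mem (mul_mem (inv_mem hx) hg) hx
      simpa [mul_assoc] using this
    have h2 : m * a * m⁻¹ * a⁻¹ ∈ (P : Subgroup G) ⊓ Cfsg.pResidual p G := by
      refine Subgroup.mem_inf.mpr ⟨mul_mem h1 (inv_mem ha), ?_⟩
      show m * a * m⁻¹ * a⁻¹ ∈ Cfsg.pResidual p G
      rw [mul_assoc m, mul_assoc m]
      exact mul_mem hm (Transfer.pResidual_normal.conj_mem _ (inv_mem hm) a)
    rw [hinf, Subgroup.mem_bot, mul_inv_eq_one] at h2
    calc x * m * a * (x * m)⁻¹ = x * (m * a * m⁻¹) * x⁻¹ := by group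
      _ = x * a * x⁻¹ := by rw [h2]
  · intro hfus
    haveI : Group.IsNilpotent ↥(P : Subgroup G) := P.isPGroup'.isNilpotent
    obtain ⟨c, hc⟩ := (inferInstance : Group.IsNilpotent ↥(P : Subgroup G))
    refine Transfer.hasNormalPComplement_of_local P fun R hR _ m hm hco => ?_
    refine SmallFix.mem_centralizer_of_small_chain p (P.isPGroup'.to_le hR.1) hm hco
      (fun i => (Subgroup.upperCentralSeries ↥(P : Subgroup G) i).map (P : Subgroup G).subtype)
      (by rw [Subgroup.upperCentralSeries_zero, Subgroup.map_bot]) ?_ ?_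
    · intro i k a haR hai hsmall
      obtain ⟨b, hb, rfl⟩ := hai
      have hconj : m ^ k * (b : G) * (m ^ k)⁻¹ ∈ (P : Subgroup G) :=
        hR.1 ((Subgroup.mem_normalizer_iff.mp (pow_mem hm k) _).mp haR)
      obtain ⟨x, hx, hxe⟩ := hfus b b.2 hsmall (m ^ k) hconj
      have := (Subgroup.mem_upperCentralSeries_succ_iff.mp (inv_mem hb)) ⟨x, hx⟩
      refine ⟨_, this, ?_⟩
      show (P : Subgroup G).subtype _ = (b : G)⁻¹ * (m ^ k * b * (m ^ k)⁻¹)
      rw [hxe]
      simp [commutatorElement_def, mul_assoc]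
    · intro a ha _
      exact ⟨c, ⟨a, hR.1 ha⟩, by rw [hc]; trivial, rfl⟩

end Cfsg.Agent.S1946
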