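import Cfsg.Statements.S1947
import Cfsg.Agent.Lib.SmallFix.Basic
import Cfsg.Agent.Lib.Transfer.Alperin

set_option autoImplicit false
open Cfsg

namespace Cfsg.Agent.S1947

/-- Let G be a finite group and p a prime. If every element of G of order dividing p (dividing 4 when p = 2) lies in some fixed term Z_n(G) of the upper central series, then G has a normal p-complement. -/
theorem result {G : Type*} [Group G] [Finite G] {p : ℕ} [Fact p.Prime] (n : ℕ)
    (h : ∀ a : G, (a ^ p = 1 ∨ (p = 2 ∧ a ^ 4 = 1)) → a ∈ Subgroup.upperCentralSeries G n) : Cfsg.HasNormalPComplement p G := by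
  obtain ⟨P⟩ := (inferInstance : Nonempty (Sylow p G))
  refine Transfer.hasNormalPComplement_of_local P fun R hR _ m hm hco => ?_
  refine SmallFix.mem_centralizer_of_small_chain p (P.isPGroup'.to_le hR.1) hm hco
    (fun i => Subgroup.upperCentralSeries G i) (Subgroup.upperCentralSeries_zero G) ?_
    (fun a _ ha => ⟨n, h a ha⟩)
  intro i k a _ hai _
  have := (Subgroup.mem_upperCentralSeries_succ_iff.mp (inv_mem hai)) (m ^ k)
  simpa [commutatorElement_def, mul_assoc] using this

end Cfsg.Agent.S1947
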