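import Cfsg.Statements.S1948
import Cfsg.Agent.S1907
import Cfsg.Agent.Lib.Transfer.Tate
import Cfsg.Agent.Lib.Cores.Basic
import Cfsg.Agent.Lib.Coprime.Invariant

set_option autoImplicit false
open Cfsg

namespace Cfsg.Agent.S1948

/-- Let S be a Sylow p-subgroup of the finite group G. Then G = N_G(S)·O_{p'}(G) if and only if G is p-constrained and N_G(S) controls fusion in S, in the sense that whenever a subgroup Q of S has a conjugate g Q g⁻¹ inside S, the element g is a product n c with n normalizing S and c centralizing Q. -/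
theorem result {G : Type*} [Group G] [Finite G] {p : ℕ} [Fact p.Prime] (S : Sylow p G) :
    Subgroup.normalizer ((S : Subgroup G) : Set G) ⊔ Cfsg.pPrimeCore p G = ⊤ ↔
      (Cfsg.IsPConstrained p G ∧
        ∀ Q : Subgroup G, Q ≤ (S : Subgroup G) → ∀ g : G, Q.map (MulAut.conj g).toMonoidHom ≤ (S : Subgroup G) →
          ∃ n ∈ Subgroup.normalizer ((S : Subgroup G) : Set G), ∃ c ∈ Subgroup.centralizer (Q : Set G), g = n * c) := by
  classical
  set O := Cfsg.pPrimeCore p G with hO
  set T := Cfsg.pPrimePCore p G with hT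
  haveI : T.Normal := Subgroup.Normal.comap inferInstance _
  have hSN : (S : Subgroup G) ≤ Subgroup.normalizer ((S : Subgroup G) : Set G) := Subgroup.le_normalizer
  constructor
  · intro hG
    -- S becomes normal modulo O
    let π := QuotientGroup.mk' O
    let S' : Sylow p (G ⧸ O) := S.mapSurjective (QuotientGroup.mk'_surjective O)
    have hS'c : (S' : Subgroup (G ⧸ O)) = (S : Subgroup G).map π := rfl
    haveI hS'n : (S' : Subgroup (G ⧸ O)).Normal := by
      rw [← Subgroup.normalizer_eq_top_iff, eq_top_iff, ← Subgroup.map_top_of_surjective π (QuotientGroup.mk'_surjective O),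
        ← hG, Subgroup.map_sup, (Subgroup.map_eq_bot_iff O).mpr (QuotientGroup.ker_mk' O).ge, sup_bot_eq, hS'c]
      exact Subgroup.le_normalizer_map π
    have hST : (S : Subgroup G) ≤ T := fun s hs =>
      Cores.le_pCore hS'n S'.isPGroup' (Subgroup.mem_map_of_mem π hs)
    -- the centralizer of S lies in T
    have hCS : Subgroup.centralizer ((S : Subgroup G) : Set G) ≤ T := by
      set C := Subgroup.centralizer ((S' : Subgroup (G ⧸ O)) : Set (G ⧸ O)) with hC
      haveI : C.Normal := inferInstance
      have hcomp : Cfsg.HasNormalPComplement p ↥C := by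
        obtain ⟨Q⟩ := (inferInstance : Nonempty (Sylow p ↥C))
        refine Transfer.hasNormalPComplement_of_normalizer_le_centralizer Q fun n _ => ?_
        rw [Subgroup.mem_centralizer_iff]
        intro x hx
        have h1 : (x : G ⧸ O) ∈ (S' : Subgroup (G ⧸ O)) := by
          have := Cores.le_pCore_iff.mpr S'.isPGroup'
          obtain ⟨R, hR⟩ := (Q.isPGroup'.map C.subtype).exists_le_sylow
          obtain ⟨g, hg⟩ := MulAction.exists_smul_eq (G ⧸ O) S' R
          haveI := hS'n
          rw [← hg, Sylow.smul_eq_of_normal] at hR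
          exact hR ⟨x, hx, rfl⟩
        exact Subtype.ext (Subgroup.mem_centralizer_iff.mp n.2 _ h1)
      obtain ⟨Q, N, hN, hNc⟩ := hcomp
      haveI := hN
      have hNbot : N = ⊥ := by
        have h1 : N ≤ Cfsg.pPrimeCore p ↥C := Cores.le_pPrimeCore hN
          (Transfer.coprime_card_of_isComplement' Q hNc)
        have h2 : (N.map C.subtype) ≤ Cfsg.pPrimeCore p (G ⧸ O) := by
          refine (Subgroup.map_mono h1).trans ?_
          rw [Cores.pPrimeCore_map_subtype]
          exact inf_le_left
        rw [show Cfsg.pPrimeCore p (G ⧸ O) = ⊥ from Cores.pPrimeCore_quotient_self p, le_bot_iff, Subgroup.map_eq_bot_iff_of_injective _ C.subtype_injective] at h2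
        exact h2
      have hCp : IsPGroup p ↥C := by
        have hQ : (Q : Subgroup ↥C) = ⊤ := by
          have := hNc.sup_eq_top
          rwa [hNbot, bot_sup_eq] at this
        exact (Q.isPGroup'.of_equiv ((MulEquiv.subgroupCongr hQ).trans Subgroup.topEquiv))
      intro c hc
      refine Cores.le_pCore inferInstance hCp ?_
      rw [Subgroup.mem_centralizer_iff]
      rintro _ ⟨s, hs, rfl⟩
      rw [← map_mul, ← map_mul, Subgroup.mem_centralizer_iff.mp hc s hs]
    refine ⟨fun P => ?_, fun Q hQ g hg => ?_⟩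
    · obtain ⟨Q, hQ⟩ := Cfsg.Agent.S1907.inf_normal_eq_map S T
      obtain ⟨t, ht⟩ := MulAction.exists_smul_eq ↥T Q P
      have hP : (P : Subgroup ↥T).map T.subtype = ((S : Subgroup G) ⊓ T).map (MulAut.conj (t : G)).toMonoidHom := by
        rw [← ht, Coprime.map_subtype_smul, hQ]
        rfl
      rw [hP, inf_eq_left.mpr hST]
      intro c hc
      have h1 : (t : G)⁻¹ * c * t ∈ Subgroup.centralizer ((S : Subgroup G) : Set G) := by
        rw [Subgroup.mem_centralizer_iff] at hc ⊢
        intro s hs
        have h2 := hc _ ⟨s, hs, rfl⟩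
        simp only [MulEquiv.coe_toMonoidHom, MulAut.conj_apply] at h2
        calc s * ((t : G)⁻¹ * c * t) = (t : G)⁻¹ * ((t : G) * s * (t : G)⁻¹ * c) * t := by group
          _ = (t : G)⁻¹ * (c * ((t : G) * s * (t : G)⁻¹)) * t := by rw [h2]
          _ = (t : G)⁻¹ * c * t * s := by group
      have := Subgroup.Normal.conj_mem inferInstance _ (hCS h1) (t : G)
      simpa [mul_assoc] using this
    · obtain ⟨n, hn, d, hd, rfl⟩ := Subgroup.mem_sup_of_normal_right.mp (hG ▸ Subgroup.mem_top g)
      refine ⟨n, hn, d, Subgroup.mem_centralizer_iff.mpr fun q hq => ?_, rfl⟩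
      have h1 : n * d * q * (n * d)⁻¹ ∈ (S : Subgroup G) := hg ⟨q, hq, rfl⟩
      have h2 : d * q * d⁻¹ ∈ (S : Subgroup G) := by
        have := (Subgroup.mem_normalizer_iff''.mp hn _).mp h1
        simpa [mul_assoc] using this
      have h3 : d * q * d⁻¹ * q⁻¹ ∈ O ⊓ (S : Subgroup G) := by
        refine Subgroup.mem_inf.mpr ⟨?_, mul_mem h2 (inv_mem (hQ hq))⟩
        rw [mul_assoc d, mul_assoc d]
        exact mul_mem hd ((inferInstance : O.Normal).conj_mem _ (inv_mem hd) q)
      obtain ⟨k, hk⟩ := IsPGroup.iff_card.mp S.isPGroup'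
      rw [Subgroup.inf_eq_bot_of_coprime (hk ▸ (Cores.coprime_card_pPrimeCore p).pow_right k), Subgroup.mem_bot,
        mul_inv_eq_one] at h3
      exact (mul_inv_eq_iff_eq_mul.mp h3).symm
  · rintro ⟨hcon, hfus⟩
    obtain ⟨P, hP⟩ := Cfsg.Agent.S1907.inf_normal_eq_map S T
    have hfr := P.normalizer_sup_eq_top (N := T)
    rw [eq_top_iff, ← hfr]
    have hT' : T ≤ Subgroup.normalizer ((S : Subgroup G) : Set G) ⊔ O :=
      (Cfsg.Agent.S1907.pPrimePCore_le_sup S).trans (sup_le le_sup_right ((inf_le_left.trans hSN).trans le_sup_left))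
    refine sup_le ?_ hT'
    intro g hg
    rw [hP] at hg
    obtain ⟨n, hn, c, hc, rfl⟩ := hfus _ inf_le_left g (by
      rintro _ ⟨x, hx, rfl⟩
      exact ((Subgroup.mem_normalizer_iff.mp hg x).mp hx).1)
    have hcT : c ∈ T := by
      have := hcon P
      rw [hP] at this
      exact this hc
    exact mul_mem (Subgroup.mem_sup_left hn) (hT' hcT)

end Cfsg.Agent.S1948
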