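import Cfsg.Statements.S1949
import Cfsg.Agent.Lib.CriticalRel.Basic
import Cfsg.Agent.Lib.FusionChain.SmallElements
import Cfsg.Agent.Lib.Transfer.Residual

set_option autoImplicit false
open Cfsg
open scoped commutatorElement

namespace Cfsg.Agent.S1949

variable {P : Type*} [Group P] [Finite P] {p : ℕ} [hp : Fact p.Prime]

/-- A coprime automorphism fixing the small elements of a relative critical subgroup of an invariant
subgroup containing all displacements is trivial. -/
theorem eq_one_of_fixes (hP : IsPGroup p P) {R C : Subgroup P} (α : MulAut P)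
    (hα : (orderOf α).Coprime p) (hCR : C ≤ R) (hCn : C.Normal) (hαC : ∀ x ∈ C, α x ∈ C)
    (hself : R ⊓ Subgroup.centralizer (C : Set P) ≤ C) (hmove : ∀ x, x⁻¹ * α x ∈ R)
    (h : ∀ x ∈ C, FusionChain.IsSmall p x → α x = x) : α = 1 := by
  have hC := FusionChain.fixed_on_invariant hP α hα C hαC h
  have hR : ∀ x ∈ R, α x = x := by
    intro x hx
    refine PGroup.fixed_of_displacement_fixed hP hα (hC _ (hself ⟨hmove x, ?_⟩))
    refine Subgroup.mem_centralizer_iff.mpr fun c hc => ?_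
    have h2 := hC _ (hCn.conj_mem c hc x)
    rw [map_mul, map_mul, map_inv, hC c hc] at h2
    calc c * (x⁻¹ * α x) = x⁻¹ * (x * c * x⁻¹) * α x := by group
      _ = x⁻¹ * (α x * c * (α x)⁻¹) * α x := by rw [h2]
      _ = _ := by group
  exact MulEquiv.ext fun x => PGroup.fixed_of_displacement_fixed hP hα (hR _ (hmove x))

/-- Let P be a finite p-group and G a group of automorphisms of P containing the inner automorphisms. Then there is a G-invariant subgroup D of P, contained in the subgroup generated by the elements x⁻¹α(x) with x in P and α in O^p(G), of exponent dividing p when p is odd and dividing 4 when p = 2, with [D, P] ≤ Z(D), such that every automorphism in G of order prime to p that fixes D elementwise is the identity; moreover every maximal abelian subgroup A of D is normal in P and every automorphism in G fixing A elementwise has p-power order. -/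
theorem result {P : Type*} [Group P] [Finite P] {p : ℕ} [Fact p.Prime] (hP : IsPGroup p P)
    (G : Subgroup (MulAut P)) (hG : Cfsg.Inn P ≤ G) :
    ∃ D : Subgroup P,
      (∀ α ∈ G, D.map α.toMonoidHom = D) ∧
      D ≤ Subgroup.closure {y : P | ∃ α ∈ Cfsg.pResidual p ↥G, ∃ x : P, y = x⁻¹ * (α : MulAut P) x} ∧
      (∀ d ∈ D, d ^ p = 1 ∨ (p = 2 ∧ d ^ 4 = 1)) ∧
      ⁅D, (⊤ : Subgroup P)⁆ ≤ D ⊓ Subgroup.centralizer (D : Set P) ∧
      (∀ α ∈ G, (orderOf α).Coprime p → (∀ d ∈ D, α d = d) → α = 1) ∧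
      ∀ A : Subgroup P, A ≤ D → IsMulCommutative ↥A →
        (∀ B : Subgroup P, A ≤ B → B ≤ D → IsMulCommutative ↥B → B = A) →
        A.Normal ∧ ∀ α ∈ G, (∀ a ∈ A, α a = a) → ∃ k : ℕ, orderOf α = p ^ k := by
  have hp' := (Fact.out : p.Prime)
  have hInn : ∀ g : P, MulAut.conj g ∈ G := fun g => hG ⟨g, rfl⟩
  set R := Subgroup.closure
    {y : P | ∃ α ∈ Cfsg.pResidual p ↥G, ∃ x : P, y = x⁻¹ * (α : MulAut P) x} with hRdef
  have hR : ∀ φ ∈ G, ∀ x ∈ R, φ x ∈ R := by
    intro φ hφ
    suffices R ≤ R.comap φ.toMonoidHom from fun x hx => this hx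
    rw [hRdef, Subgroup.closure_le]
    rintro _ ⟨α, hα, x, rfl⟩
    refine Subgroup.subset_closure ⟨(⟨φ, hφ⟩ : ↥G) * α * (⟨φ, hφ⟩ : ↥G)⁻¹,
      Agent.Transfer.pResidual_normal.conj_mem α hα _, φ x, ?_⟩
    simp
  obtain ⟨C, hCR, hCG, hcomm, hpow, hself⟩ := CriticalRel.exists_critical hP G hInn R hR
  have hCn : C.Normal := ⟨fun x hx g => hCG _ (hInn g) x hx⟩
  have hmul : ∀ x ∈ C, ∀ y ∈ C, FusionChain.IsSmall p x → FusionChain.IsSmall p y →
      FusionChain.IsSmall p (x * y) := by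
    intro x hx y hy hxs hys
    have hc1 : Commute x ⁅y, x⁆ := Subgroup.mem_centralizer_iff.mp (hcomm y hy x).2 x hx
    have hc2 : Commute y ⁅y, x⁆ := Subgroup.mem_centralizer_iff.mp (hcomm y hy x).2 y hy
    have hcp : ⁅y, x⁆ ^ p = 1 := by
      rw [← PGroup.commutator_pow_left hc2, commutatorElement_eq_one_iff_mul_comm]
      exact (Subgroup.mem_centralizer_iff.mp (hpow y hy) x hx).symm
    rcases eq_or_ne p 2 with rfl | hp2
    · refine Or.inr ⟨rfl, ?_⟩
      have h4 : ∀ z : P, FusionChain.IsSmall 2 z → z ^ 4 = 1 := by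
        rintro z (h | ⟨-, h⟩)
        · rw [show (4 : ℕ) = 2 * 2 from rfl, pow_mul, h, one_pow]
        · exact h
      have hch : (4 : ℕ).choose 2 = 2 * 3 := by decide
      rw [PGroup.mul_pow_eq hc1 hc2, hch, pow_mul, hcp, one_pow, one_mul, h4 x hxs, h4 y hys,
        one_mul]
    · refine Or.inl ?_
      have h1 : ∀ z : P, FusionChain.IsSmall p z → z ^ p = 1 := fun z hz =>
        hz.resolve_right fun h => hp2 h.1
      rw [PGroup.mul_pow_prime_eq hp' hp2 hc1 hc2 hcp, h1 x hxs, h1 y hys, one_mul]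
  have hinv : ∀ x : P, FusionChain.IsSmall p x → FusionChain.IsSmall p x⁻¹ := by
    rintro x (h | ⟨h2, h⟩)
    · exact Or.inl (by rw [inv_pow, h, inv_one])
    · exact Or.inr ⟨h2, by rw [inv_pow, h, inv_one]⟩
  let E : Subgroup P :=
    { carrier := {x | x ∈ C ∧ FusionChain.IsSmall p x}
      one_mem' := ⟨C.one_mem, Or.inl (one_pow p)⟩
      mul_mem' := fun ha hb => ⟨C.mul_mem ha.1 hb.1, hmul _ ha.1 _ hb.1 ha.2 hb.2⟩
      inv_mem' := fun ha => ⟨C.inv_mem ha.1, hinv _ ha.2⟩ }
  have hEC : E ≤ C := fun x hx => hx.1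
  have hEG : ∀ φ ∈ G, ∀ x ∈ E, φ x ∈ E := fun φ hφ x hx => ⟨hCG φ hφ x hx.1, hx.2.map φ⟩
  have hEcomm : ⁅E, (⊤ : Subgroup P)⁆ ≤ E ⊓ Subgroup.centralizer (E : Set P) := by
    rw [Subgroup.commutator_le]
    intro x hx g _
    have hc := hcomm x hx.1 g
    have hx' : Commute x ⁅x, g⁆ := Subgroup.mem_centralizer_iff.mp hc.2 x hx.1
    refine ⟨⟨hc.1, ?_⟩, Subgroup.centralizer_le hEC hc.2⟩
    rcases hx.2 with h | ⟨h2, h⟩
    · exact Or.inl (by rw [← PGroup.commutator_pow_left hx', h, commutatorElement_one_left])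
    · exact Or.inr ⟨h2, by rw [← PGroup.commutator_pow_left hx', h, commutatorElement_one_left]⟩
  have hdet : ∀ α ∈ G, (orderOf α).Coprime p → (∀ d ∈ E, α d = d) → α = 1 := by
    intro α hα hcop hfix
    refine eq_one_of_fixes hP α hcop hCR hCn (fun x hx => hCG α hα x hx) hself ?_
      fun x hx hs => hfix x ⟨hx, hs⟩
    intro x
    exact Subgroup.subset_closure ⟨⟨α, hα⟩, Agent.Transfer.mem_pResidual_of_coprime
      (by rwa [Subgroup.orderOf_mk]), x, rfl⟩
  refine ⟨E, fun φ hφ => ?_, hEC.trans hCR, fun d hd => hd.2, hEcomm, hdet,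
    fun A hAE hAab hAmax => ?_⟩
  · refine le_antisymm (Subgroup.map_le_iff_le_comap.mpr fun x hx => hEG φ hφ x hx) fun x hx =>
      ⟨φ⁻¹ x, hEG _ (inv_mem hφ) x hx, ?_⟩
    simp
  have hZA : E ⊓ Subgroup.centralizer (E : Set P) ≤ A := by
    have hab : ∀ u ∈ A ⊔ (E ⊓ Subgroup.centralizer (E : Set P)),
        u ∈ Subgroup.centralizer ((A ⊔ (E ⊓ Subgroup.centralizer (E : Set P)) : Subgroup P) : Set P) := by
      suffices A ⊔ (E ⊓ Subgroup.centralizer (E : Set P)) ≤
          Subgroup.centralizer ((A ⊔ (E ⊓ Subgroup.centralizer (E : Set P)) : Subgroup P) : Set P)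
        from fun u hu => this hu
      refine sup_le ?_ ?_ <;> rw [Subgroup.le_centralizer_iff] <;> refine sup_le ?_ ?_
      · exact fun x hx => Subgroup.mem_centralizer_iff.mpr fun y hy =>
          congrArg Subtype.val (hAab.is_comm.comm (⟨y, hy⟩ : A) ⟨x, hx⟩)
      · exact inf_le_right.trans (Subgroup.centralizer_le hAE)
      · exact fun x hx => Subgroup.mem_centralizer_iff.mpr fun y hy =>
          (Subgroup.mem_centralizer_iff.mp hy.2 x (hAE hx)).symm
      · exact fun x hx => Subgroup.mem_centralizer_iff.mpr fun y hy =>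
          Subgroup.mem_centralizer_iff.mp hx.2 y hy.1
    have := hAmax _ le_sup_left (sup_le hAE inf_le_left)
      ⟨⟨fun u v => Subtype.ext (Subgroup.mem_centralizer_iff.mp (hab _ v.2) u u.2)⟩⟩
    exact le_sup_right.trans this.le
  have hAn : A.Normal := ⟨fun a ha g => by
    have h1 : ⁅a, g⁆ ∈ A := hZA (hEcomm (Subgroup.commutator_mem_commutator (hAE ha) (Subgroup.mem_top g)))
    rw [show g * a * g⁻¹ = ⁅a, g⁆⁻¹ * a by rw [commutatorElement_def]; group]
    exact mul_mem (inv_mem h1) ha⟩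
  refine ⟨hAn, fun α hα hfix => ?_⟩
  obtain ⟨k, m, hm, ho⟩ := Nat.exists_eq_pow_mul_and_not_dvd (orderOf_pos α).ne' p hp'.ne_one
  refine ⟨k, ?_⟩
  set β := α ^ (p ^ k) with hβ
  have hβA : ∀ a ∈ A, β a = a := by
    intro a ha
    have : ∀ n : ℕ, (α ^ n) a = a := fun n => by
      induction n with
      | zero => rfl
      | succ n ih => rw [pow_succ, MulAut.mul_apply, hfix a ha, ih]
    exact this _
  have hβG : β ∈ G := pow_mem hα _
  have hoβ : orderOf β = m := by
    rw [hβ, orderOf_pow' α (pow_ne_zero _ hp'.ne_zero), ho,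
      Nat.gcd_eq_right (dvd_mul_right _ _), Nat.mul_div_cancel_left _ (pow_pos hp'.pos k)]
  have hcop : (orderOf β).Coprime p := hoβ ▸ ((hp'.coprime_iff_not_dvd).mpr hm).symm
  have hβE : ∀ x ∈ E, β x = x := by
    intro x hx
    refine PGroup.fixed_of_displacement_fixed hP hcop (hβA _ ?_)
    have hmem : x⁻¹ * β x ∈ E := mul_mem (inv_mem hx) (hEG β hβG x hx)
    have hcen : x⁻¹ * β x ∈ Subgroup.centralizer (A : Set P) := by
      refine Subgroup.mem_centralizer_iff.mpr fun c hc => ?_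
      have h2 := hβA _ (hAn.conj_mem c hc x)
      rw [map_mul, map_mul, map_inv, hβA c hc] at h2
      calc c * (x⁻¹ * β x) = x⁻¹ * (x * c * x⁻¹) * β x := by group
        _ = x⁻¹ * (β x * c * (β x)⁻¹) * β x := by rw [h2]
        _ = _ := by group
    have hab : ∀ u ∈ A ⊔ Subgroup.zpowers (x⁻¹ * β x), u ∈ Subgroup.centralizer
        ((A ⊔ Subgroup.zpowers (x⁻¹ * β x) : Subgroup P) : Set P) := by
      suffices A ⊔ Subgroup.zpowers (x⁻¹ * β x) ≤ Subgroup.centralizer
          ((A ⊔ Subgroup.zpowers (x⁻¹ * β x) : Subgroup P) : Set P) from fun u hu => this hu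
      refine sup_le ?_ ?_ <;> rw [Subgroup.le_centralizer_iff] <;> refine sup_le ?_ ?_
      · exact fun x hx => Subgroup.mem_centralizer_iff.mpr fun y hy =>
          congrArg Subtype.val (hAab.is_comm.comm (⟨y, hy⟩ : A) ⟨x, hx⟩)
      · exact Subgroup.zpowers_le.mpr hcen
      · exact Subgroup.le_centralizer_iff.mp (Subgroup.zpowers_le.mpr hcen)
      · exact Subgroup.zpowers_le.mpr (Subgroup.mem_centralizer_iff.mpr fun y hy => by
          obtain ⟨i, rfl⟩ := Subgroup.mem_zpowers_iff.mp hy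
          exact ((Commute.refl _).zpow_left i).eq)
    have := hAmax _ le_sup_left (sup_le hAE (Subgroup.zpowers_le.mpr hmem))
      ⟨⟨fun u v => Subtype.ext (Subgroup.mem_centralizer_iff.mp (hab _ v.2) u u.2)⟩⟩
    exact this.le (Subgroup.mem_sup_right (Subgroup.mem_zpowers _))
  have := hdet β hβG hcop hβE
  rw [this, orderOf_one] at hoβ
  rw [ho, ← hoβ, mul_one]

end Cfsg.Agent.S1949
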