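import Cfsg.Statements.S1952
import Cfsg.Agent.Lib.Yoshida.Wreath

set_option autoImplicit false
open Cfsg

namespace Cfsg.Agent.S1952

/-- Let P be a finite p-group with a normal elementary abelian subgroup A of index p, and let x ∈ A and y ∈ P with y outside A. If the product of the p conjugates y^(-i) x y^i (i = 0, …, p−1) is not the identity, then the wreath product Z_p ≀ Z_p, realised as a Sylow p-subgroup of the symmetric group of degree p², is a homomorphic image of P. -/
theorem result {P : Type*} [Group P] [Finite P] {p : ℕ} [Fact p.Prime] (hP : IsPGroup p P) (A : Subgroup P) [A.Normal]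
    (hA : Cfsg.IsElementaryAbelian p A) (hidx : A.index = p) (x y : P) (hx : x ∈ A) (hy : y ∉ A)
    (hprod : ((List.range p).map (fun i => (y ^ i)⁻¹ * x * y ^ i)).prod ≠ 1) :
    ∃ (Q : Sylow p (Equiv.Perm (Fin (p ^ 2)))) (f : P →* ↥(Q : Subgroup (Equiv.Perm (Fin (p ^ 2))))), Function.Surjective f := by
  classical
  letI : CommGroup A := { (inferInstance : Group A) with mul_comm := fun a b => hA.1.is_comm.comm a b }
  letI : Module (ZMod p) (Additive A) := AddCommGroup.zmodModule (n := p) fun v =>
    congrArg Additive.ofMul (Subtype.ext (hA.2 v.toMul v.toMul.2) : v.toMul ^ p = 1)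
  set c : ℕ → A := fun i => MulAut.conjNormal ((y⁻¹) ^ i) (⟨x, hx⟩ : A) with hc
  set w : A := ∏ i ∈ Finset.range p, c i with hw
  have hw1 : w ≠ 1 := by
    intro h
    refine hprod ?_
    have h1 : ((List.range p).map (fun i => (y ^ i)⁻¹ * x * y ^ i)) = ((List.range p).map c).map A.subtype := by
      rw [List.map_map]
      refine List.map_congr_left fun i _ => ?_
      show (y ^ i)⁻¹ * x * y ^ i = (y⁻¹) ^ i * x * ((y⁻¹) ^ i)⁻¹
      rw [inv_pow, inv_inv]
    rw [h1, ← map_list_prod]
    have h2 : ((List.range p).map c).prod = w := by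
      rw [hw, Finset.prod_eq_multiset_prod, Finset.range_val, ← Multiset.coe_range, Multiset.map_coe,
        Multiset.prod_coe]
    rw [h2, h, map_one]
  obtain ⟨f, hf⟩ : ∃ f : Module.Dual (ZMod p) (Additive A), f (Additive.ofMul w) ≠ 0 := by
    by_contra hno
    push Not at hno
    exact hw1 (Additive.ofMul.injective ((Module.forall_dual_apply_eq_zero_iff (ZMod p) (Additive.ofMul w)).1 hno))
  let μ : A →* Multiplicative (ZMod p) := f.toAddMonoidHom.toMultiplicativeRight
  refine Yoshida.exists_surjective_wreath p hP A hidx μ y⁻¹ ⟨x, hx⟩ ?_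
  rw [← map_prod]
  exact fun h => hf (Multiplicative.ofAdd.injective h)

end Cfsg.Agent.S1952
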