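import Cfsg.Agent.Lib.PLocal.CharFunctor
import Cfsg.Agent.Lib.PLocal.AutSection
import Cfsg.Agent.Lib.PLocal.LeastRadical
import Cfsg.Agent.Lib.FunctorControl.FusionApps
import Cfsg.Agent.Lib.KInfinity.Functor

set_option autoImplicit false
open Cfsg

namespace Cfsg.Agent.S1953

/-- Let p be an odd prime and P a Sylow p-subgroup of the finite group G, and suppose that for no p-subgroup Q of G does N_G(Q)/C_G(Q) have a section isomorphic to SL₂(p). Call a subgroup Q of P centric-radical when Z(Q) is a Sylow p-subgroup of C_G(Q) and the only normal subgroup X of N_G(Q) containing Q·C_G(Q) such that the index of Q·C_G(Q) in X is a power of p is Q·C_G(Q) itself (that is, N_G(Q)/Q·C_G(Q) has no nontrivial normal p-subgroup). Then there is a centric-radical subgroup Q of P contained in every centric-radical subgroup of P; it is normal in P, and N_G(Q) controls strong fusion in P: whenever a subgroup A of P has g A g⁻¹ ≤ P, the element g is a product h c with h in N_G(Q) and c centralizing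 A. -/
theorem result {G : Type*} [Group G] [Finite G] {p : ℕ} [Fact p.Prime] (hp : p ≠ 2) (P : Sylow p G)
    (hfree : ∀ Q : Subgroup G, IsPGroup p ↥Q → ¬ ∃ (H K : Subgroup G) (_ : (K.subgroupOf H).Normal),
      Subgroup.centralizer (Q : Set G) ≤ K ∧ K ≤ H ∧ H ≤ Subgroup.normalizer (Q : Set G) ∧
      Nonempty ((↥H ⧸ K.subgroupOf H) ≃* Matrix.SpecialLinearGroup (Fin 2) (ZMod p)))
    (cr : Subgroup G → Prop)
    (hcr : ∀ Q : Subgroup G, cr Q ↔ (Q ≤ (P : Subgroup G) ∧
      (∃ R : Sylow p ↥(Subgroup.centralizer (Q : Set G)),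
        (R : Subgroup ↥(Subgroup.centralizer (Q : Set G))).map (Subgroup.centralizer (Q : Set G)).subtype = Q ⊓ Subgroup.centralizer (Q : Set G)) ∧
      ∀ X : Subgroup G, X ≤ Subgroup.normalizer (Q : Set G) →
        (∀ n ∈ Subgroup.normalizer (Q : Set G), X.map (MulAut.conj n).toMonoidHom = X) →
        Q ⊔ Subgroup.centralizer (Q : Set G) ≤ X → (∃ k : ℕ, (Q ⊔ Subgroup.centralizer (Q : Set G)).relIndex X = p ^ k) →
        X = Q ⊔ Subgroup.centralizer (Q : Set G))) :
    ∃ Q : Subgroup G, cr Q ∧ (∀ R : Subgroup G, cr R → Q ≤ R) ∧ (∀ x ∈ (P : Subgroup G), Q.map (MulAut.conj x).toMonoidHom = Q) ∧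
      ∀ A : Subgroup G, A ≤ (P : Subgroup G) → ∀ g : G, A.map (MulAut.conj g).toMonoidHom ≤ (P : Subgroup G) →
        ∃ h ∈ Subgroup.normalizer (Q : Set G), ∃ c ∈ Subgroup.centralizer (A : Set G), g = h * c := by
  set K := Cfsg.inducedFunctor Cfsg.kInfLower (P : Subgroup G)
  have hst : ∀ (K R : Subgroup G) [(R.subgroupOf K).Normal], Cfsg.IsNormalizerPStable p (↥K ⧸ R.subgroupOf K) :=
    fun K R _ => PLocal.isNormalizerPStable_sections hp hfree K R
  have hKP : K ≤ (P : Subgroup G) := Subgroup.map_subtype_le _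
  have hPK : (P : Subgroup G) ≤ Subgroup.normalizer (K : Set G) :=
    Subgroup.le_normalizer.trans ((PLocal.goodFunctor_induced (KInfinity.isCharPFunctor_kInfLower p)).normalizer_le P.2)
  haveI : Group.IsNilpotent ↥(P : Subgroup G) := P.2.isNilpotent
  have hKc : (P : Subgroup G) ⊓ Subgroup.centralizer (K : Set G) ≤ K := by
    rintro x ⟨hxP, hxc⟩
    refine ⟨⟨x, hxP⟩, KInfinity.centralizer_kInfLower_le (Subgroup.mem_centralizer_iff.2 fun y hy => ?_), rfl⟩
    exact Subtype.ext (Subgroup.mem_centralizer_iff.1 hxc (y : G) ⟨y, hy, rfl⟩)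
  have hctl : ∀ A ≤ (P : Subgroup G), ∀ g : G, A.map (MulAut.conj g).toMonoidHom ≤ (P : Subgroup G) →
      PLocal.Realized (Subgroup.normalizer (K : Set G)) A g := fun A hA g hg =>
    PLocal.sec_control (PLocal.goodFunctor_induced (KInfinity.isCharPFunctor_kInfLower p)) (fun K' R' _ hc T =>
        (FunctorControl.normal_of_pStable hst _ (FunctorControl.isSec_quotient K' R') hc T).1)
      (FunctorControl.IsSec.refl G) P A hA g hg
  obtain ⟨Q, hQP, hPQ, hQc, hQr, hleast, hQctl⟩ := PLocal.exists_least_radical P hKP hPK hKc hctl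
  refine ⟨Q, (hcr Q).2 ⟨hQP, ?_, hQr⟩, fun R hR => ?_, fun x hx => PLocal.mem_normalizer_iff_map_eq.1 (hPQ hx),
    fun A hA g hg => ?_⟩
  · have hd : ¬ p ∣ ((P : Subgroup G) ⊓ Subgroup.centralizer (Q : Set G)).relIndex
        (Subgroup.centralizer (Q : Set G)) :=
      PLocal.not_dvd_relIndex_inf P hPQ (Subgroup.centralizer_le_normalizer _)
        (PLocal.normalizer_le_normalizer_centralizer Q)
    have he : (P : Subgroup G) ⊓ Subgroup.centralizer (Q : Set G) = Q ⊓ Subgroup.centralizer (Q : Set G) :=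
      le_antisymm (le_inf hQc inf_le_right) (inf_le_inf_right _ hQP)
    rw [he] at hd
    exact ⟨((P.2.to_le (inf_le_left.trans hQP : Q ⊓ Subgroup.centralizer (Q : Set G) ≤ (P : Subgroup G))).comap_subtype
      (K := Subgroup.centralizer (Q : Set G))).toSylow hd, Subgroup.map_subgroupOf_eq_of_le inf_le_right⟩
  · obtain ⟨hRP, ⟨S, hS⟩, hRr⟩ := (hcr R).1 hR
    refine hleast R hRP (fun hd => S.not_dvd_index ?_) hRr
    rw [← hS] at hd
    rwa [Subgroup.relIndex, Subgroup.subgroupOf,
      Subgroup.comap_map_eq_self_of_injective (Subgroup.centralizer (R : Set G)).subtype_injective] at hd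
  · obtain ⟨h, hh, hhq⟩ := hQctl A hA g hg
    refine ⟨h, hh, h⁻¹ * g, Subgroup.mem_centralizer_iff.2 fun q hq => ?_, by group⟩
    calc q * (h⁻¹ * g) = h⁻¹ * (h * q * h⁻¹) * g := by group
      _ = h⁻¹ * g * q := by rw [hhq q hq]; group

end Cfsg.Agent.S1953
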