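import Cfsg.Statements.S1954
import Cfsg.Agent.Lib.Transfer.Alperin
import Cfsg.Agent.Lib.Cores.Basic
import Cfsg.Agent.Lib.PLocal.Grows
import Cfsg.Agent.Lib.PLocal.Action
import Cfsg.Agent.Lib.PLocal.Functor
import Cfsg.Agent.Lib.Transfer.Centric

set_option autoImplicit false
open Cfsg

namespace Cfsg.Agent.S1954

open Subgroup

variable {G : Type*} [Group G]

theorem exists_normalizing_all {N P0 V : Subgroup G} (hN : N.Normal) (hV : V ≤ P0)
    (hctrl : ∀ A : Subgroup G, A ≤ P0 → ∀ n ∈ N, A.map (MulAut.conj n).toMonoidHom ≤ P0 →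
      ∃ h ∈ N ⊓ normalizer (V : Set G), ∃ c ∈ N ⊓ centralizer (A : Set G), n = h * c)
    (l : List G) : ∀ (_ : ∀ x ∈ l, x ∈ normalizer (P0 : Set G)) (A : Subgroup G), A ≤ P0 → ∀ n ∈ N,
      A.map (MulAut.conj n).toMonoidHom ≤ P0 →
      ∃ h ∈ N, (∀ x ∈ l, h ∈ normalizer ((V.map (MulAut.conj x).toMonoidHom : Subgroup G) : Set G)) ∧
        ∃ c ∈ N ⊓ centralizer (A : Set G), n = h * c := by
  induction l with
  | nil => exact fun _ A _ n hn _ => ⟨n, hn, by simp, 1, one_mem _, (mul_one n).symm⟩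
  | cons x l ih =>
    intro hl A hA n hn hnA
    have hx := hl x List.mem_cons_self
    have hl' : ∀ y ∈ l, y ∈ normalizer (P0 : Set G) := fun y hy => hl y (List.mem_cons_of_mem _ hy)
    obtain ⟨h, hh, hall, c, hc, rfl⟩ := ih hl' A hA n hn hnA
    set A1 := closure ((A : Set G) ∪ ⋃ y ∈ l, ((V.map (MulAut.conj y).toMonoidHom : Subgroup G) : Set G))
    have hsub : ((A : Set G) ∪ ⋃ y ∈ l, ((V.map (MulAut.conj y).toMonoidHom : Subgroup G) : Set G)) ⊆
        (P0 : Set G) ∩ {a | h * a * h⁻¹ ∈ P0} := by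
      rintro a (ha | ha)
      · refine ⟨hA ha, ?_⟩
        have h1 : h * c * a * (h * c)⁻¹ ∈ P0 := hnA ⟨a, ha, rfl⟩
        have h2 : c * a = a * c := (mem_centralizer_iff.1 hc.2 a ha).symm
        rwa [show h * c * a * (h * c)⁻¹ = h * (c * a) * c⁻¹ * h⁻¹ by group, h2,
          show h * (a * c) * c⁻¹ * h⁻¹ = h * a * h⁻¹ by group] at h1
      · simp only [Set.mem_iUnion] at ha
        obtain ⟨y, hy, ha⟩ := ha
        have hVy : V.map (MulAut.conj y).toMonoidHom ≤ P0 := by
          rintro _ ⟨v, hv, rfl⟩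
          exact (mem_normalizer_iff.1 (hl' y hy) v).1 (hV hv)
        exact ⟨hVy ha, hVy ((mem_normalizer_iff.1 (hall y hy) a).1 ha)⟩
    have hA1 : A1 ≤ P0 := (closure_le _).2 fun a ha => (hsub ha).1
    have hA1h : A1.map (MulAut.conj h).toMonoidHom ≤ P0 := by
      rw [map_le_iff_le_comap]
      exact (closure_le _).2 fun a ha => (hsub ha).2
    -- control by the conjugate `V^x`
    have hA1x : A1.map (MulAut.conj x⁻¹).toMonoidHom ≤ P0 := by
      rintro _ ⟨a, ha, rfl⟩
      exact (mem_normalizer_iff.1 (inv_mem hx) a).1 (hA1 ha)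
    have hn' : x⁻¹ * h * x ∈ N := by simpa using hN.conj_mem h hh x⁻¹
    obtain ⟨k, hk, d, hd, hkd⟩ := hctrl _ hA1x _ hn' (by
      rintro _ ⟨_, ⟨a, ha, rfl⟩, rfl⟩
      have h1 : x⁻¹ * (h * a * h⁻¹) * x ∈ P0 := by
        simpa using (mem_normalizer_iff.1 (inv_mem hx) (h * a * h⁻¹)).1 (hA1h ⟨a, ha, rfl⟩)
      show x⁻¹ * h * x * (x⁻¹ * a * x⁻¹⁻¹) * (x⁻¹ * h * x)⁻¹ ∈ P0
      convert h1 using 1
      group)
    set k' := x * k * x⁻¹ with hk'
    set d' := x * d * x⁻¹ with hd'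
    have hhk : h = k' * d' := by
      rw [hk', hd', show x * k * x⁻¹ * (x * d * x⁻¹) = x * (k * d) * x⁻¹ by group, ← hkd]
      group
    have hd'c : d' ∈ centralizer (A1 : Set G) := by
      refine mem_centralizer_iff.2 fun a ha => ?_
      have h1 := mem_centralizer_iff.1 hd.2 _ ⟨a, ha, rfl⟩
      change x⁻¹ * a * x⁻¹⁻¹ * d = d * (x⁻¹ * a * x⁻¹⁻¹) at h1
      calc a * d' = x * (x⁻¹ * a * x⁻¹⁻¹ * d) * x⁻¹ := by rw [hd']; group
        _ = x * (d * (x⁻¹ * a * x⁻¹⁻¹)) * x⁻¹ := by rw [h1]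
        _ = d' * a := by rw [hd']; group
    have hd'N : d' ∈ N := hN.conj_mem d hd.1 x
    have hAc : d' ∈ centralizer (A : Set G) :=
      centralizer_le (fun a ha => Subgroup.subset_closure (Or.inl ha)) hd'c
    refine ⟨k', hN.conj_mem k hk.1 x, fun y hy => ?_, d' * c, mul_mem ⟨hd'N, hAc⟩ hc, by rw [hhk, mul_assoc]⟩
    rcases List.mem_cons.1 hy with rfl | hy
    · have h2 : k' ∈ (normalizer (V : Set G)).map (MulAut.conj y).toMonoidHom := ⟨k, hk.2, rfl⟩
      exact le_normalizer_map _ h2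
    · have h2 : d' ∈ normalizer ((V.map (MulAut.conj y).toMonoidHom : Subgroup G) : Set G) := by
        refine centralizer_le_normalizer _ (centralizer_le (fun a ha => Subgroup.subset_closure (Or.inr ?_)) hd'c)
        simp only [Set.mem_iUnion]
        exact ⟨y, hy, ha⟩
      rw [show k' = h * d'⁻¹ by rw [hhk, mul_inv_cancel_right]]
      exact mul_mem (hall y hy) (inv_mem h2)

theorem le_normalizer_closure_of_forall {P0 V : Subgroup G} {h : G}
    (hall : ∀ x ∈ normalizer (P0 : Set G), h ∈ normalizer ((V.map (MulAut.conj x).toMonoidHom : Subgroup G) : Set G)) :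
    h ∈ normalizer ((closure (⋃ x ∈ normalizer (P0 : Set G),
      ((V.map (MulAut.conj x).toMonoidHom : Subgroup G) : Set G)) : Subgroup G) : Set G) := by
  refine normalizer_le_normalizer_closure _ (mem_set_normalizer_iff.2 fun a => ?_)
  simp only [Set.mem_iUnion]
  exact ⟨fun ⟨x, hx, ha⟩ => ⟨x, hx, (mem_normalizer_iff.1 (hall x hx) a).1 ha⟩,
    fun ⟨x, hx, ha⟩ => ⟨x, hx, (mem_normalizer_iff.1 (hall x hx) a).2 ha⟩⟩

theorem normalizer_le_normalizer_W {P0 V : Subgroup G} :
    normalizer (P0 : Set G) ≤ normalizer ((closure (⋃ x ∈ normalizer (P0 : Set G),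
      ((V.map (MulAut.conj x).toMonoidHom : Subgroup G) : Set G)) : Subgroup G) : Set G) := by
  intro g hg
  refine normalizer_le_normalizer_closure _ (mem_set_normalizer_iff.2 fun a => ?_)
  simp only [Set.mem_iUnion, SetLike.mem_coe]
  constructor
  · rintro ⟨x, hx, v, hv, rfl⟩
    refine ⟨g * x, mul_mem hg hx, v, hv, ?_⟩
    show g * x * v * (g * x)⁻¹ = g * (x * v * x⁻¹) * g⁻¹
    group
  · rintro ⟨x, hx, v, hv, he⟩
    refine ⟨g⁻¹ * x, mul_mem (inv_mem hg) hx, v, hv, ?_⟩
    show g⁻¹ * x * v * (g⁻¹ * x)⁻¹ = a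
    change x * v * x⁻¹ = g * a * g⁻¹ at he
    calc g⁻¹ * x * v * (g⁻¹ * x)⁻¹ = g⁻¹ * (x * v * x⁻¹) * g := by group
      _ = a := by rw [he]; group

theorem conj_inv_conj (u a : G) : u * (u⁻¹ * a * u) * u⁻¹ = a := by group

/-- `g` acts on `Q` like an element of `H`. -/
def Rep (H Q : Subgroup G) (g : G) : Prop := ∃ h ∈ H, ∀ q ∈ Q, g * q * g⁻¹ = h * q * h⁻¹

theorem Rep.mono {H Q Q' : Subgroup G} {g : G} (h : Rep H Q g) (hQ : Q' ≤ Q) : Rep H Q' g :=
  let ⟨k, hk, he⟩ := h
  ⟨k, hk, fun q hq => he q (hQ hq)⟩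

theorem Rep.trans {H Q : Subgroup G} {g g' : G} (h : Rep H Q g)
    (h' : Rep H (Q.map (MulAut.conj g).toMonoidHom) g') : Rep H Q (g' * g) := by
  obtain ⟨k, hk, he⟩ := h
  obtain ⟨k', hk', he'⟩ := h'
  refine ⟨k' * k, mul_mem hk' hk, fun q hq => ?_⟩
  have h1 : g' * (g * q * g⁻¹) * g'⁻¹ = k' * (g * q * g⁻¹) * k'⁻¹ := he' _ ⟨q, hq, rfl⟩
  rw [show g' * g * q * (g' * g)⁻¹ = g' * (g * q * g⁻¹) * g'⁻¹ by group, h1, he q hq]
  group

variable [Finite G] {p : ℕ} [Fact p.Prime]

/-- Control of fusion in `G` by a subgroup containing `N(P ⊓ N)` and controlling fusion of `N`. -/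
theorem rep_of_normal {N H : Subgroup G} (hN : N.Normal) (P : Sylow p G)
    (hH : normalizer (((P : Subgroup G) ⊓ N : Subgroup G) : Set G) ≤ H)
    (hctl : ∀ A : Subgroup G, A ≤ (P : Subgroup G) ⊓ N → ∀ n ∈ N,
      A.map (MulAut.conj n).toMonoidHom ≤ (P : Subgroup G) ⊓ N →
        ∃ h ∈ N ⊓ H, ∃ c ∈ N ⊓ centralizer (A : Set G), n = h * c)
    (Q : Subgroup G) (g : G) (hQ : Q ≤ (P : Subgroup G)) (hg : Q.map (MulAut.conj g).toMonoidHom ≤ (P : Subgroup G)) :
    Rep H Q g := by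
  classical
  have hPH : (P : Subgroup G) ≤ H := by
    refine le_trans ?_ hH
    refine le_normalizer_iff.2 fun u hu v hv => ?_
    exact ⟨(P : Subgroup G).mul_mem ((P : Subgroup G).mul_mem hu hv.1) ((P : Subgroup G).inv_mem hu),
      hN.conj_mem v hv.2 u⟩
  suffices good : ∀ c : ℕ, ∀ R : Subgroup G, Nat.card G ≤ Nat.card R + c →
      Transfer.IsFullyNormalized p (P : Subgroup G) R → ∀ n ∈ normalizer (R : Set G), Rep H R n by
    refine Transfer.fusion_induction P (fun Q g => Rep H Q g) ?_ (fun Q a b h h' => h.trans h') hQ hg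
    exact fun Q R hQR hR n hn => (good (Nat.card G) R (Nat.le_add_left _ _) hR n hn).mono hQR
  intro c
  induction c using Nat.strong_induction_on with
  | _ c ih =>
    intro R hc hR m hm
    -- bigger subgroups
    have big : ∀ Q : Subgroup G, ∀ g : G, R < Q → Q ≤ (P : Subgroup G) →
        Q.map (MulAut.conj g).toMonoidHom ≤ (P : Subgroup G) → Rep H Q g := by
      intro Q g hRQ hQ hg
      have hlt : Nat.card R < Nat.card Q :=
        lt_of_le_of_ne (card_le_of_le hRQ.le) fun e => hRQ.ne (eq_of_le_of_card_ge hRQ.le e.ge)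
      refine Transfer.fusion_induction P (fun Q g => Nat.card R < Nat.card Q → Rep H Q g) ?_ ?_ hQ hg hlt
      · intro Q' R' hQR' hR' n hn hlt'
        have hle : Nat.card Q' ≤ Nat.card R' := card_le_of_le hQR'
        have : Nat.card R' ≤ Nat.card G := card_le_card_group R'
        exact (ih (Nat.card G - Nat.card R') (by omega) R' (by omega) hR' n hn).mono hQR'
      · intro Q' a b ha hb hlt'
        refine (ha hlt').trans (hb ?_)
        rwa [card_map_of_injective (MulAut.conj a).injective]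
    have hRP : R ≤ (P : Subgroup G) := hR.1
    set NR := normalizer (R : Set G) with hNR
    set P0 := (P : Subgroup G) ⊓ N with hP0
    set R0 := R ⊓ N with hR0
    set Y := N.subgroupOf NR with hY
    haveI : Y.Normal := hN.comap NR.subtype
    set PR := (P : Subgroup G).subgroupOf NR with hPR
    have hPRi : ¬ p ∣ PR.index := by
      have := hR.2
      rwa [inf_relIndex_right] at this
    let S : Sylow p NR := (P.isPGroup'.comap_subtype (K := NR) : IsPGroup p PR).toSylow hPRi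
    -- elements of `NR` normalizing a larger subgroup are represented
    have hbig : ∀ (T : Subgroup G) (u : G), u ∈ NR → T ≤ (P : Subgroup G) ⊓ NR → ¬ T ≤ R →
        (∀ t ∈ T, u * t * u⁻¹ ∈ T) → Rep H R u := by
      intro T u hu hT hTR hinv
      refine (big (R ⊔ T) u (lt_of_le_of_ne le_sup_left fun e => hTR (le_sup_right.trans e.ge))
        (sup_le hRP (hT.trans inf_le_left)) ?_).mono le_sup_left
      rw [Subgroup.map_sup]
      refine sup_le ?_ ?_
      · rintro _ ⟨r, hr, rfl⟩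
        exact hRP ((mem_normalizer_iff.1 hu r).1 hr)
      · rintro _ ⟨r, hr, rfl⟩
        exact (hT (hinv r hr)).1
    have hR0n : NR ≤ normalizer (R0 : Set G) := le_normalizer_iff.2 fun u hu v hv =>
      ⟨(mem_normalizer_iff.1 hu v).1 hv.1, hN.conj_mem v hv.2 u⟩
    -- elements of `N(R) ⊓ N ⊓ C(R0)` act on `R` like elements of `P`
    have hMrep : ∀ v : G, v ∈ NR → v ∈ N → v ∈ centralizer (R0 : Set G) →
        ∃ s ∈ P0 ⊓ NR ⊓ centralizer (R0 : Set G), ∀ r ∈ R, v * r * v⁻¹ = s * r * s⁻¹ := by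
      intro v hv1 hv2 hv3
      set M : Subgroup G := N ⊓ NR ⊓ centralizer (R0 : Set G)
      have hMNR : M ≤ NR := inf_le_left.trans inf_le_right
      haveI : (M.subgroupOf NR).Normal := by
        refine normalizer_eq_top_iff.1 (top_le_iff.1 (le_normalizer_iff.2 fun u _ z hz => ?_))
        have hz' : (z : G) ∈ M := hz
        show ((u * z * u⁻¹ : NR) : G) ∈ M
        refine ⟨⟨hN.conj_mem _ hz'.1.1 _, (u * z * u⁻¹).2⟩, mem_centralizer_iff.2 fun a ha => ?_⟩
        have hu0 := mem_normalizer_iff.1 (hR0n u.2)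
        have hb : (u : G)⁻¹ * a * u ∈ R0 :=
          (hu0 _).2 (by rw [show (u : G) * ((u : G)⁻¹ * a * u) * (u : G)⁻¹ = a by group]; exact ha)
        have h2 := mem_centralizer_iff.1 hz'.2 _ hb
        show a * ((u : G) * z * (u : G)⁻¹) = (u : G) * z * (u : G)⁻¹ * a
        calc a * ((u : G) * z * (u : G)⁻¹) = u * ((u : G)⁻¹ * a * u * z) * (u : G)⁻¹ := by group
          _ = u * (z * ((u : G)⁻¹ * a * u)) * (u : G)⁻¹ := by rw [h2]
          _ = (u : G) * z * (u : G)⁻¹ * a := by group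
      have hSMi : ¬ p ∣ (PR.subgroupOf (M.subgroupOf NR)).index := Transfer.not_dvd_relIndex_inf hPRi
      obtain ⟨a, ha, b, hb, hab⟩ := mem_sup_of_normal_right.1
        ((haveI := Transfer.pResidual_normal (G := ↥(M.subgroupOf NR)) (p := p)
          Transfer.sup_pResidual_eq_top (p := p) hSMi).ge
          (mem_top (⟨⟨v, hv1⟩, ⟨⟨hv2, hv1⟩, hv3⟩⟩ : M.subgroupOf NR)))
      have hres : ∀ b : M.subgroupOf NR, b ∈ Cfsg.pResidual p (M.subgroupOf NR) →
          ((b : NR) : G) ∈ centralizer (R : Set G) := by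
        suffices hle : Cfsg.pResidual p (M.subgroupOf NR) ≤
            ((centralizer (R : Set G)).subgroupOf NR).subgroupOf (M.subgroupOf NR) from
          fun b hb => hle hb
        refine (closure_le _).2 fun b hbco => ?_
        refine mem_subgroupOf.2 (mem_subgroupOf.2 (mem_centralizer_iff.2 fun r hr => ?_))
        have hbM : ((b : NR) : G) ∈ M := b.2
        set w := (b : G) * r * (b : G)⁻¹ * r⁻¹ with hw
        have hwR : w ∈ R0 := by
          refine ⟨R.mul_mem ((mem_normalizer_iff.1 (b : NR).2 r).1 hr) (R.inv_mem hr), ?_⟩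
          rw [hw, mul_assoc, mul_assoc, ← mul_assoc r]
          exact N.mul_mem hbM.1.1 (hN.conj_mem _ (N.inv_mem hbM.1.1) r)
        have hcw : (b : G) * w = w * b := (mem_centralizer_iff.1 hbM.2 w hwR).symm
        have h2 := PLocal.conj_pow_eq hw hcw (orderOf (b : G))
        rw [pow_orderOf_eq_one, one_mul, inv_one, mul_one, right_eq_mul] at h2
        obtain ⟨i, hi⟩ := P.isPGroup' ⟨w, hRP hwR.1⟩
        have h3 := pow_gcd_eq_one.2 ⟨h2, (congrArg Subtype.val hi : w ^ p ^ i = 1)⟩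
        have hbco' : (orderOf (b : G)).Coprime p := by
          rw [Subgroup.orderOf_coe, Subgroup.orderOf_coe]; exact hbco
        rw [Nat.coprime_iff_gcd_eq_one.1 (hbco'.pow_right i), pow_one, hw, mul_inv_eq_one] at h3
        exact (mul_inv_eq_iff_eq_mul.1 h3).symm
      have haM : ((a : NR) : G) ∈ M := a.2
      refine ⟨((a : NR) : G), ⟨⟨⟨ha, haM.1.1⟩, (a : NR).2⟩, haM.2⟩, fun r hr => ?_⟩
      have h1 : r * ((b : NR) : G) = (b : NR) * r := mem_centralizer_iff.1 (hres b hb) r hr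
      rw [show v = (a : NR) * ((b : NR) : G) from
        (congrArg (fun z : M.subgroupOf NR => ((z : NR) : G)) hab).symm]
      rw [show ((a : NR) : G) * (b : NR) * r * (((a : NR) : G) * (b : NR))⁻¹ =
        (a : NR) * (((b : NR) : G) * r) * ((b : NR) : G)⁻¹ * ((a : NR) : G)⁻¹ by group, ← h1]
      group
    -- the elements centralizing `R0` in `P0`
    by_cases hQ : P0 ⊓ NR ⊓ centralizer (R0 : Set G) ≤ R
    swap
    · set C0 := (centralizer (R0 : Set G)).subgroupOf NR
      haveI : C0.Normal := by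
        refine normalizer_eq_top_iff.1 (top_le_iff.1 fun u _ => ?_)
        have h1 : (u : G) ∈ normalizer ((centralizer (R0 : Set G) : Subgroup G) : Set G) := by
          refine mem_normalizer_iff.2 fun z => ?_
          have hu0 := mem_normalizer_iff.1 (hR0n u.2)
          constructor
          · intro hz
            refine mem_centralizer_iff.2 fun a ha => ?_
            have hb : (u : G)⁻¹ * a * u ∈ R0 := by
              refine (hu0 _).2 ?_
              rw [conj_inv_conj]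
              exact ha
            have h2 := mem_centralizer_iff.1 hz _ hb
            calc a * (u * z * (u : G)⁻¹) = u * ((u : G)⁻¹ * a * u * z) * (u : G)⁻¹ := by group
              _ = u * (z * ((u : G)⁻¹ * a * u)) * (u : G)⁻¹ := by rw [h2]
              _ = u * z * (u : G)⁻¹ * a := by group
          · intro hz
            refine mem_centralizer_iff.2 fun a ha => ?_
            have h2 := mem_centralizer_iff.1 hz _ ((hu0 a).1 ha)
            calc a * z = (u : G)⁻¹ * (u * a * (u : G)⁻¹ * (u * z * (u : G)⁻¹)) * u := by group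
              _ = (u : G)⁻¹ * (u * z * (u : G)⁻¹ * (u * a * (u : G)⁻¹)) * u := by rw [h2]
              _ = z * a := by group
        exact mem_normalizer_iff.2 fun z => mem_normalizer_iff.1 h1 z
      set M := Y ⊓ C0
      set SM := PR.subgroupOf M
      have hSMi : ¬ p ∣ SM.index := Transfer.not_dvd_relIndex_inf hPRi
      let T : Sylow p M := ((P.isPGroup'.comap_subtype (K := NR)).comap_subtype (K := M) : IsPGroup p SM).toSylow hSMi
      have htop := Sylow.normalizer_sup_eq_top T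
      obtain ⟨u, hu, y, hy, hmy⟩ := mem_sup_of_normal_right.1 (htop.ge (mem_top (⟨m, hm⟩ : NR)))
      -- the factor in `M` acts on `R` as an element of `R`-stabilizing form
      set T0 := P0 ⊓ NR ⊓ centralizer (R0 : Set G) with hT0
      have hu' : ∀ t ∈ T0, (u : G) * t * (u : G)⁻¹ ∈ T0 := by
        intro t ht
        have h1 : (⟨t, ht.1.2⟩ : NR) ∈ (T : Subgroup M).map M.subtype :=
          ⟨⟨⟨t, ht.1.2⟩, ⟨ht.1.1.2, ht.2⟩⟩, ht.1.1.1, rfl⟩
        obtain ⟨z, hz, he⟩ := (mem_normalizer_iff.1 hu _).1 h1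
        have he' : ((z : NR) : G) = (u : G) * t * (u : G)⁻¹ := congrArg Subtype.val he
        rw [← he']
        exact ⟨⟨⟨hz, z.2.1⟩, (z : NR).2⟩, z.2.2⟩
      have hRu : Rep H R (u : G) := hbig T0 u u.2 (fun t ht => ⟨ht.1.1.1, ht.1.2⟩) hQ hu'
      -- the element `y` of `M`: a product of an element of `T0` and one centralizing `R`
      obtain ⟨s, hs, hse⟩ := hMrep (y : G) y.2 hy.1 hy.2
      have hyrep : Rep H R (y : G) := ⟨s, hPH hs.1.1.1, hse⟩
      rw [show m = (u : G) * (y : G) from (congrArg Subtype.val hmy).symm]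
      refine hyrep.trans (hRu.mono (le_of_eq ?_))
      exact PLocal.mem_normalizer_iff_map_eq.1 y.2
    -- now `C_{P0}(R0) ≤ R0`
    set Z := P0 ⊓ centralizer (R0 : Set G) with hZ
    have hZR : Z ≤ R0 := by
      have hRZ : R ≤ normalizer (Z : Set G) := le_normalizer_iff.2 fun r hr z hz => by
        have hr0 := mem_normalizer_iff.1 (hR0n (le_normalizer hr : r ∈ NR))
        refine ⟨⟨(P : Subgroup G).mul_mem ((P : Subgroup G).mul_mem (hRP hr) hz.1.1) ((P : Subgroup G).inv_mem (hRP hr)),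
          hN.conj_mem z hz.1.2 r⟩, mem_centralizer_iff.2 fun a ha => ?_⟩
        have h2 := mem_centralizer_iff.1 hz.2 (r⁻¹ * a * r) ((hr0 _).2 (by rw [conj_inv_conj]; exact ha))
        calc a * (r * z * r⁻¹) = r * (r⁻¹ * a * r * z) * r⁻¹ := by group
          _ = r * (z * (r⁻¹ * a * r)) * r⁻¹ := by rw [h2]
          _ = r * z * r⁻¹ * a := by group
      have hRZP : R ⊔ Z ≤ (P : Subgroup G) := sup_le hRP fun z hz => hz.1.1
      by_contra hne
      have hlt : R < R ⊔ Z := lt_of_le_of_ne le_sup_left fun e => hne fun z hz =>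
        ⟨e.ge (mem_sup_right hz), hz.1.2⟩
      obtain ⟨x, hx, hxR⟩ := SetLike.exists_of_lt (PLocal.normalizer_inf_of_lt (P.isPGroup'.to_le hRZP) hlt)
      have hx' : x ∈ ((R ⊔ Z : Subgroup G) : Set G) := hx.2
      rw [sup_comm, coe_mul_of_right_le_normalizer_left _ _ hRZ] at hx'
      obtain ⟨z, hz, r, hr, rfl⟩ := Set.mem_mul.1 hx'
      have hzN : z ∈ NR := by
        have := NR.mul_mem hx.1 (NR.inv_mem (le_normalizer hr))
        simpa using this
      exact hxR (R.mul_mem (hQ ⟨⟨hz.1, hzN⟩, hz.2⟩) hr)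
    -- Frattini
    set SY := PR.subgroupOf Y
    have hSYi : ¬ p ∣ SY.index := Transfer.not_dvd_relIndex_inf hPRi
    let T : Sylow p Y := ((P.isPGroup'.comap_subtype (K := NR)).comap_subtype (K := Y) : IsPGroup p SY).toSylow hSYi
    obtain ⟨u, hu, y, hy, hmy⟩ := mem_sup_of_normal_right.1
      ((Sylow.normalizer_sup_eq_top T).ge (mem_top (⟨m, hm⟩ : NR)))
    set T0 := P0 ⊓ NR with hT0
    by_cases hT0R : T0 ≤ R
    · -- then `R0 = P0`
      have hP0R : P0 ≤ R := by
        have hRn : R ≤ normalizer (P0 : Set G) := le_normalizer_iff.2 fun r hr v hv =>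
          ⟨(P : Subgroup G).mul_mem ((P : Subgroup G).mul_mem (hRP hr) hv.1) ((P : Subgroup G).inv_mem (hRP hr)),
            hN.conj_mem v hv.2 r⟩
        by_contra hne
        have hlt : R < R ⊔ P0 := lt_of_le_of_ne le_sup_left fun e => hne (le_sup_right.trans e.ge)
        obtain ⟨x, hx, hxR⟩ := SetLike.exists_of_lt
          (PLocal.normalizer_inf_of_lt (P.isPGroup'.to_le (sup_le hRP inf_le_left)) hlt)
        have hx' : x ∈ ((R ⊔ P0 : Subgroup G) : Set G) := hx.2
        rw [sup_comm, coe_mul_of_right_le_normalizer_left _ _ hRn] at hx'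
        obtain ⟨z, hz, r, hr, rfl⟩ := Set.mem_mul.1 hx'
        have hzN : z ∈ NR := by
          have := NR.mul_mem hx.1 (NR.inv_mem (le_normalizer hr))
          simpa using this
        exact hxR (R.mul_mem (hT0R ⟨hz, hzN⟩) hr)
      have hR0P : R0 = P0 := le_antisymm (le_inf (inf_le_left.trans hRP) inf_le_right) fun v hv => ⟨hP0R hv, hv.2⟩
      exact ⟨m, hH (hR0P ▸ hR0n hm), fun _ _ => rfl⟩
    have hRu : Rep H R (u : G) := by
      refine hbig T0 u u.2 (fun t ht => ⟨ht.1.1, ht.2⟩) hT0R fun t ht => ?_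
      have h1 : (⟨t, ht.2⟩ : NR) ∈ (T : Subgroup Y).map Y.subtype := ⟨⟨⟨t, ht.2⟩, ht.1.2⟩, ht.1.1, rfl⟩
      obtain ⟨z, hz, he⟩ := (mem_normalizer_iff.1 hu _).1 h1
      have he' : ((z : NR) : G) = (u : G) * t * (u : G)⁻¹ := congrArg Subtype.val he
      rw [← he']
      exact ⟨⟨hz, z.2⟩, (z : NR).2⟩
    have hyN : (y : G) ∈ N := hy
    have hR0P0 : R0 ≤ P0 := le_inf (inf_le_left.trans hRP) inf_le_right
    have hyrep : Rep H R (y : G) := by
      obtain ⟨h, ⟨hhN, hhH⟩, c, ⟨hcN, hcC⟩, hyhc⟩ := hctl R0 hR0P0 (y : G) hyN (by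
        rintro _ ⟨a, ha, rfl⟩
        exact hR0P0 ((mem_normalizer_iff.1 (hR0n y.2) a).1 ha))
      set X := N ⊓ centralizer (R0 : Set G) with hX
      have hXH : ∀ z ∈ R, ∀ x ∈ X, z * x * z⁻¹ ∈ X := fun z hz x hx => by
        refine ⟨hN.conj_mem x hx.1 z, mem_centralizer_iff.2 fun a ha => ?_⟩
        have hr0 := mem_normalizer_iff.1 (hR0n (le_normalizer hz : z ∈ NR))
        have h2 := mem_centralizer_iff.1 hx.2 (z⁻¹ * a * z) ((hr0 _).2 (by rw [conj_inv_conj]; exact ha))
        calc a * (z * x * z⁻¹) = z * (z⁻¹ * a * z * x) * z⁻¹ := by group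
          _ = z * (x * (z⁻¹ * a * z)) * z⁻¹ := by rw [h2]
          _ = z * x * z⁻¹ * a := by group
      -- the `p`-subgroups of `X` normalized by `R` lie in `R`
      have hsyl : ∀ U : Subgroup G, IsPGroup p U → R ≤ U → U ≤ R ⊔ X → U ≤ R := by
        intro U hU hRU hUX
        by_contra hne
        obtain ⟨v, hv, hvR⟩ := SetLike.exists_of_lt
          (PLocal.normalizer_inf_of_lt hU (lt_of_le_of_ne hRU fun e => hne e.ge))
        have hRX : R ≤ normalizer (X : Set G) := le_normalizer_iff.2 hXH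
        have hv' : v ∈ ((X ⊔ R : Subgroup G) : Set G) := (sup_comm R X ▸ hUX) hv.2
        rw [coe_mul_of_right_le_normalizer_left _ _ hRX] at hv'
        obtain ⟨x, hx, r, hr, rfl⟩ := Set.mem_mul.1 hv'
        have hxU : x ∈ U := by simpa using U.mul_mem hv.2 (U.inv_mem (hRU hr))
        have hxN : x ∈ NR := by simpa using NR.mul_mem hv.1 (NR.inv_mem (le_normalizer hr))
        have hxp : IsPGroup p (zpowers (⟨⟨x, hxN⟩, hx.1⟩ : Y)) := by
          obtain ⟨k, hk⟩ := hU ⟨x, hxU⟩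
          refine IsPGroup.iff_orderOf.2 fun w => ?_
          have h1 : orderOf (⟨⟨x, hxN⟩, hx.1⟩ : Y) ∣ p ^ k := orderOf_dvd_of_pow_eq_one
            (Subtype.ext (Subtype.ext (congrArg Subtype.val hk : x ^ p ^ k = 1)))
          have h2 := (orderOf_dvd_of_mem_zpowers w.2).trans h1
          rw [Subgroup.orderOf_coe] at h2
          obtain ⟨i, -, hi⟩ := (Nat.dvd_prime_pow Fact.out).1 h2
          exact ⟨i, hi⟩
        obtain ⟨T', hT'⟩ := hxp.exists_le_sylow
        obtain ⟨z, hz⟩ := MulAction.exists_smul_eq Y T' T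
        have hmem : z * ⟨⟨x, hxN⟩, hx.1⟩ * z⁻¹ ∈ (T : Subgroup Y) := by
          rw [← hz, Sylow.coe_subgroup_smul]
          exact ⟨_, hT' (mem_zpowers _), rfl⟩
        have hzx : ((z : NR) : G) * x * ((z : NR) : G)⁻¹ ∈ R := by
          refine hQ ⟨⟨⟨hmem, ?_⟩, ?_⟩, ?_⟩
          · exact hN.conj_mem x hx.1 _
          · exact NR.mul_mem (NR.mul_mem (z : NR).2 hxN) (NR.inv_mem (z : NR).2)
          · refine mem_centralizer_iff.2 fun a ha => ?_
            have hz0 := mem_normalizer_iff.1 (hR0n (z : NR).2)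
            have h2 := mem_centralizer_iff.1 hx.2 (((z : NR) : G)⁻¹ * a * (z : NR)) ((hz0 _).2 (by rw [conj_inv_conj]; exact ha))
            calc a * (((z : NR) : G) * x * ((z : NR) : G)⁻¹)
                = (z : NR) * (((z : NR) : G)⁻¹ * a * (z : NR) * x) * ((z : NR) : G)⁻¹ := by group
              _ = (z : NR) * (x * (((z : NR) : G)⁻¹ * a * (z : NR))) * ((z : NR) : G)⁻¹ := by rw [h2]
              _ = (z : NR) * x * ((z : NR) : G)⁻¹ * a := by group
        exact hvR (R.mul_mem ((mem_normalizer_iff.1 (z : NR).2 x).2 hzx) hr)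
      -- correct `h` to normalize `R`
      set J := (R ⊔ X) ⊓ H with hJ
      have hRJ : R ≤ J := le_inf le_sup_left (hRP.trans hPH)
      set R1 := R.map (MulAut.conj h).toMonoidHom with hR1
      have hR1J : R1 ≤ J := by
        rintro _ ⟨r, hr, rfl⟩
        refine ⟨?_, H.mul_mem (H.mul_mem hhH (hPH (hRP hr))) (H.inv_mem hhH)⟩
        show h * r * h⁻¹ ∈ R ⊔ X
        have hhy : h = (y : G) * c⁻¹ := by rw [hyhc, mul_inv_cancel_right]
        have hcX : c⁻¹ ∈ X := X.inv_mem ⟨hcN, hcC⟩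
        have h1 : c⁻¹ * r * c ∈ R ⊔ X := by
          have := (R ⊔ X).mul_mem ((R ⊔ X).mul_mem (mem_sup_right (S := R) hcX) (mem_sup_left (T := X) hr))
            (mem_sup_right (S := R) (X.inv_mem hcX))
          simpa using this
        have hymap : (R ⊔ X).map (MulAut.conj (y : G)).toMonoidHom ≤ R ⊔ X := by
          rw [Subgroup.map_sup]
          refine sup_le_sup ?_ ?_
          · rintro _ ⟨a, ha, rfl⟩
            exact (mem_normalizer_iff.1 y.2 a).1 ha
          · rintro _ ⟨x, hx, rfl⟩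
            refine ⟨hN.conj_mem x hx.1 _, mem_centralizer_iff.2 fun a ha => ?_⟩
            have hy0 := mem_normalizer_iff.1 (hR0n y.2)
            have h2 := mem_centralizer_iff.1 hx.2 ((y : G)⁻¹ * a * y) ((hy0 _).2 (by rw [conj_inv_conj]; exact ha))
            show a * ((y : G) * x * (y : G)⁻¹) = (y : G) * x * (y : G)⁻¹ * a
            calc a * ((y : G) * x * (y : G)⁻¹) = (y : G) * ((y : G)⁻¹ * a * y * x) * (y : G)⁻¹ := by group
              _ = (y : G) * (x * ((y : G)⁻¹ * a * y)) * (y : G)⁻¹ := by rw [h2]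
              _ = (y : G) * x * (y : G)⁻¹ * a := by group
        rw [hhy, show (y : G) * c⁻¹ * r * ((y : G) * c⁻¹)⁻¹ = (y : G) * (c⁻¹ * r * c) * (y : G)⁻¹ by group]
        exact hymap ⟨_, h1, rfl⟩
      obtain ⟨W, hW⟩ := ((P.isPGroup'.to_le hRP).of_equiv (subgroupOfEquivOfLe hRJ).symm).exists_le_sylow
      have hWR : ∀ v ∈ (W : Subgroup J), (v : G) ∈ R := fun v hv =>
        hsyl ((W : Subgroup J).map J.subtype) (W.isPGroup'.map _)
          (fun r hr => ⟨⟨r, hRJ hr⟩, hW hr, rfl⟩) ((map_subtype_le _).trans inf_le_left) ⟨v, hv, rfl⟩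
      obtain ⟨W', hW'⟩ := ((((P.isPGroup'.to_le hRP).map (MulAut.conj h).toMonoidHom) : IsPGroup p R1).of_equiv
        (subgroupOfEquivOfLe hR1J).symm).exists_le_sylow
      obtain ⟨j, hj⟩ := MulAction.exists_smul_eq J W' W
      have hjR : R.map (MulAut.conj ((j : G) * h)).toMonoidHom = R := by
        refine eq_of_le_of_card_ge ?_ (le_of_eq (card_map_of_injective (MulAut.conj ((j : G) * h)).injective).symm)
        rintro _ ⟨r, hr, rfl⟩
        have h1 : (⟨h * r * h⁻¹, hR1J ⟨r, hr, rfl⟩⟩ : J) ∈ (W' : Subgroup J) :=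
          hW' (show h * r * h⁻¹ ∈ R1 from ⟨r, hr, rfl⟩)
        have h2 : j * ⟨h * r * h⁻¹, hR1J ⟨r, hr, rfl⟩⟩ * j⁻¹ ∈ (W : Subgroup J) := by
          rw [← hj, Sylow.coe_subgroup_smul]
          exact ⟨_, h1, rfl⟩
        have h3 := hWR _ h2
        show (j : G) * h * r * ((j : G) * h)⁻¹ ∈ R
        convert h3 using 1
        simp only [Subgroup.coe_mul, InvMemClass.coe_inv]
        group
      have hRX : R ≤ normalizer (X : Set G) := le_normalizer_iff.2 hXH
      have hj' : (j : G) ∈ ((R ⊔ X : Subgroup G) : Set G) := j.2.1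
      rw [sup_comm, coe_mul_of_right_le_normalizer_left _ _ hRX] at hj'
      obtain ⟨x, hx, r₀, hr₀, hjx⟩ := Set.mem_mul.1 hj'
      -- `k := r₀⁻¹ j h` agrees with `y` on `R`, up to an element of `R`
      have hjhN : (j : G) * h ∈ NR := PLocal.mem_normalizer_iff_map_eq.2 hjR
      set k := r₀⁻¹ * ((j : G) * h) with hk
      have hkN : k ∈ NR := NR.mul_mem (NR.inv_mem (le_normalizer hr₀)) hjhN
      have hkH : k ∈ H := H.mul_mem (H.inv_mem (hPH (hRP hr₀))) (H.mul_mem j.2.2 hhH)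
      set w := (y : G)⁻¹ * k with hw
      have hwN : w ∈ NR := NR.mul_mem (NR.inv_mem y.2) hkN
      have hwX : w ∈ X := by
        have hkk : k = r₀⁻¹ * x * r₀ * h := by rw [hk, ← hjx]; group
        have hx' : r₀⁻¹ * x * r₀ ∈ X := by simpa using hXH r₀⁻¹ (R.inv_mem hr₀) x hx
        refine ⟨N.mul_mem (N.inv_mem hyN) (hkk ▸ N.mul_mem hx'.1 hhN), mem_centralizer_iff.2 fun a ha => ?_⟩
        have hca : c * a = a * c := (mem_centralizer_iff.1 hcC a ha).symm
        have hya : h * a * h⁻¹ = (y : G) * a * (y : G)⁻¹ := by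
          rw [hyhc, show h * c * a * (h * c)⁻¹ = h * (c * a) * c⁻¹ * h⁻¹ by group, hca]
          group
        have hb : (y : G) * a * (y : G)⁻¹ ∈ R0 := (mem_normalizer_iff.1 (hR0n y.2) a).1 ha
        have h2 := mem_centralizer_iff.1 hx'.2 _ hb
        rw [← hya] at h2
        have h3 : k * a * k⁻¹ = (y : G) * a * (y : G)⁻¹ := by
          rw [hkk, show r₀⁻¹ * x * r₀ * h * a * (r₀⁻¹ * x * r₀ * h)⁻¹ =
            r₀⁻¹ * x * r₀ * (h * a * h⁻¹) * (r₀⁻¹ * x * r₀)⁻¹ by group, ← h2, mul_inv_cancel_right, hya]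
        calc a * w = (y : G)⁻¹ * ((y : G) * a * (y : G)⁻¹) * k := by rw [hw]; group
          _ = (y : G)⁻¹ * (k * a * k⁻¹) * k := by rw [h3]
          _ = w * a := by rw [hw]; group
      obtain ⟨s, hs, hse⟩ := hMrep w⁻¹ (NR.inv_mem hwN) (N.inv_mem hwX.1) (inv_mem hwX.2)
      refine ⟨k * s, H.mul_mem hkH (hPH hs.1.1.1), fun r hr => ?_⟩
      calc (y : G) * r * (y : G)⁻¹ = k * (w⁻¹ * r * w⁻¹⁻¹) * k⁻¹ := by rw [hw]; group
        _ = k * s * r * (k * s)⁻¹ := by rw [hse r hr]; group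
    rw [show m = (u : G) * (y : G) from (congrArg Subtype.val hmy).symm]
    refine hyrep.trans (hRu.mono (le_of_eq ?_))
    exact PLocal.mem_normalizer_iff_map_eq.1 y.2


/-- Let N be a normal subgroup of the finite group G, P a Sylow p-subgroup of G, and V a subgroup of P ∩ N normal in P ∩ N such that N_N(V) controls strong fusion in P ∩ N with respect to N (whenever a subgroup A of P ∩ N has n A n⁻¹ ≤ P ∩ N for some n in N, then n = h c with h in N_N(V) and c in C_N(A)). Let W be the subgroup generated by the conjugates of V under N_G(P ∩ N). Then N_G(W) controls strong fusion in P with respect to G. -/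
theorem result {G : Type*} [Group G] [Finite G] {p : ℕ} [Fact p.Prime] (N : Subgroup G) [N.Normal] (P : Sylow p G) (V : Subgroup G)
    (hV : V ≤ (P : Subgroup G) ⊓ N) (hVn : ∀ x ∈ (P : Subgroup G) ⊓ N, V.map (MulAut.conj x).toMonoidHom = V)
    (hctrl : ∀ A : Subgroup G, A ≤ (P : Subgroup G) ⊓ N → ∀ n ∈ N, A.map (MulAut.conj n).toMonoidHom ≤ (P : Subgroup G) ⊓ N →
      ∃ h ∈ N ⊓ Subgroup.normalizer (V : Set G), ∃ c ∈ N ⊓ Subgroup.centralizer (A : Set G), n = h * c)
    (W : Subgroup G) (hW : W = Subgroup.closure (⋃ x ∈ Subgroup.normalizer (((P : Subgroup G) ⊓ N : Subgroup G) : Set G),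
      ((V.map (MulAut.conj x).toMonoidHom : Subgroup G) : Set G))) :
    ∀ A : Subgroup G, A ≤ (P : Subgroup G) → ∀ g : G, A.map (MulAut.conj g).toMonoidHom ≤ (P : Subgroup G) →
        ∃ h ∈ Subgroup.normalizer (W : Set G), ∃ c ∈ Subgroup.centralizer (A : Set G), g = h * c := by
  subst hW
  intro A hA g hg
  set P0 := (P : Subgroup G) ⊓ N with hP0
  set W := Subgroup.closure (⋃ x ∈ Subgroup.normalizer (P0 : Set G),
    ((V.map (MulAut.conj x).toMonoidHom : Subgroup G) : Set G))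
  have hctl : ∀ B : Subgroup G, B ≤ P0 → ∀ n ∈ N, B.map (MulAut.conj n).toMonoidHom ≤ P0 →
      ∃ h ∈ N ⊓ Subgroup.normalizer (W : Set G), ∃ c ∈ N ⊓ Subgroup.centralizer (B : Set G), n = h * c := by
    intro B hB n hn hnB
    classical
    haveI : Fintype G := Fintype.ofFinite G
    obtain ⟨h, hh, hall, c, hc, e⟩ := exists_normalizing_all inferInstance hV hctrl
      ((Finset.univ.filter fun x => x ∈ Subgroup.normalizer (P0 : Set G)).toList) (fun x hx => by simpa using hx)
      B hB n hn hnB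
    exact ⟨h, ⟨hh, le_normalizer_closure_of_forall fun x hx => hall x (by simpa using hx)⟩, c, hc, e⟩
  obtain ⟨h, hh, he⟩ := rep_of_normal inferInstance P normalizer_le_normalizer_W hctl A g hA hg
  refine ⟨h, hh, h⁻¹ * g, Subgroup.mem_centralizer_iff.2 fun a ha => ?_, (mul_inv_cancel_left h g).symm⟩
  calc a * (h⁻¹ * g) = h⁻¹ * (h * a * h⁻¹) * g := by group
    _ = h⁻¹ * (g * a * g⁻¹) * g := by rw [he a ha]
    _ = h⁻¹ * g * a := by group

end Cfsg.Agent.S1954
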