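import Cfsg.Statements.S1957
import Cfsg.Agent.EqLemmas
import Cfsg.Agent.Lib.Coprime.Generation
import Cfsg.Agent.Lib.PReduced.Basic

set_option autoImplicit false
open Cfsg
open scoped commutatorElement

namespace Cfsg.Agent.S1957

/-- A four-group with a central involution, normalized by `O_2(M)`, lies in `O_2(M)` when `M` has
characteristic two. -/
theorem le_pCore_two {M : Type*} [Group M] [Finite M] (hc : Cfsg.IsOfCharacteristicTwo M) {U : Subgroup M}
    {u : M} (huU : u ∈ U) (hu1 : u ≠ 1) (hu2 : u ^ 2 = 1) (hcent : ∀ m : M, m * u = u * m)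
    (hcard : Nat.card U = 4) (hN : Cfsg.pCore 2 M ≤ Subgroup.normalizer (U : Set M)) :
    U ≤ Cfsg.pCore 2 M := by
  classical
  set Q := Cfsg.pCore 2 M with hQ
  haveI : Fact (Nat.Prime 2) := ⟨Nat.prime_two⟩
  set E := Subgroup.zpowers u with hE
  have hEcent : ∀ e ∈ E, ∀ m : M, m * e = e * m := by
    intro e he m
    obtain ⟨k, rfl⟩ := Subgroup.mem_zpowers_iff.1 he
    exact (show Commute m u from hcent m).zpow_right k
  have hEsq : ∀ e ∈ E, e * e = 1 := by
    intro e he
    obtain ⟨k, rfl⟩ := Subgroup.mem_zpowers_iff.1 he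
    rw [← zpow_add, ← two_mul, zpow_mul, zpow_two, ← sq, hu2, one_zpow]
  have hEn : E.Normal := ⟨fun e he m => by rw [hEcent e he m, mul_inv_cancel_right]; exact he⟩
  have hEcard : Nat.card E = 2 := by
    rw [hE, Nat.card_zpowers, orderOf_eq_prime hu2 hu1]
  have hEQ : E ≤ Q := PReduced.le_pCore hEn (IsPGroup.of_card (n := 1) (by rw [hEcard, pow_one]))
  by_contra hne
  have hUQ : U ⊓ Q = E := by
    refine (Subgroup.eq_of_le_of_card_ge (le_inf ((Subgroup.zpowers_le).2 huU) hEQ) ?_).symm
    have h1 : Nat.card (U ⊓ Q : Subgroup M) ∣ 4 := hcard ▸ Subgroup.card_dvd_of_le inf_le_left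
    have h2 : Nat.card (U ⊓ Q : Subgroup M) ≠ 4 := fun h => hne
      (inf_eq_left.1 (Subgroup.eq_of_le_of_card_ge inf_le_left (by omega)))
    have h3 := Nat.le_of_dvd (by norm_num) h1
    obtain ⟨c, hc'⟩ := h1
    have h4 : Nat.card (U ⊓ Q : Subgroup M) ≠ 3 := fun h => by rw [h] at hc'; omega
    rw [Nat.card_zpowers, orderOf_eq_prime hu2 hu1]
    omega
  haveI : Q.Normal := PReduced.pCore_normal (p := 2) (G := M)
  let D : Subgroup M :=
    { carrier := {m | ∀ q ∈ Q, m * q * m⁻¹ * q⁻¹ ∈ E}
      one_mem' := fun q _ => by simp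
      mul_mem' := by
        intro a b ha hb q hq
        have h1 := E.mul_mem (ha _ (‹Q.Normal›.conj_mem q hq b)) (hb q hq)
        convert h1 using 1
        group
      inv_mem' := by
        intro a ha q hq
        have h1 := E.inv_mem (ha _ (‹Q.Normal›.conj_mem q hq a⁻¹))
        convert h1 using 1
        group }
  have hDn : D.Normal := ⟨fun d hd m q hq => by
    have h1 := hEn.conj_mem _ (hd _ (‹Q.Normal›.conj_mem q hq m⁻¹)) m
    convert h1 using 1
    group⟩
  have hDp : IsPGroup 2 D := by
    intro d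
    have hsq : (d : M) * d ∈ Subgroup.centralizer (Q : Set M) := by
      refine Subgroup.mem_centralizer_iff.2 fun q hq => ?_
      set e := (d : M) * q * (d : M)⁻¹ * q⁻¹ with he
      have heE : e ∈ E := d.2 q hq
      have h1 : (d : M) * q * (d : M)⁻¹ = e * q := by rw [he]; group
      have h2 : (d : M) * d * q * ((d : M) * d)⁻¹ = q := by
        calc (d : M) * d * q * ((d : M) * d)⁻¹ = d * ((d : M) * q * (d : M)⁻¹) * (d : M)⁻¹ := by group
          _ = ((d : M) * e) * q * (d : M)⁻¹ := by rw [h1]; group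
          _ = e * ((d : M) * q * (d : M)⁻¹) := by rw [hEcent e heE d]; group
          _ = (e * e) * q := by rw [h1]; group
          _ = q := by rw [hEsq e heE, one_mul]
      exact (mul_inv_eq_iff_eq_mul.1 h2).symm
    obtain ⟨k, hk⟩ := (PReduced.isPGroup_pCore (G := M) 2) ⟨_, hc hsq⟩
    refine ⟨k + 1, Subtype.ext ?_⟩
    have := congrArg Subtype.val hk
    simp only [SubmonoidClass.coe_pow, OneMemClass.coe_one] at this ⊢
    rw [pow_succ', pow_mul, sq]
    exact this
  suffices h : U ≤ D from hne (h.trans (PReduced.le_pCore hDn hDp))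
  intro x hx
  show ∀ q ∈ Q, x * q * x⁻¹ * q⁻¹ ∈ E
  intro q hq
  rw [← hUQ]
  refine ⟨?_, Q.mul_mem (‹Q.Normal›.conj_mem q hq x) (Q.inv_mem hq)⟩
  rw [show x * q * x⁻¹ * q⁻¹ = x * (q * x⁻¹ * q⁻¹) by group]
  exact U.mul_mem hx ((Subgroup.mem_normalizer_iff.1 (hN hq) x⁻¹).1 (U.inv_mem hx))

theorem card_le_two_mul {G : Type*} [Group G] [Finite G] {T S : Subgroup G} {s : G}
    (h : ∀ x ∈ S, x ∉ T → s⁻¹ * x ∈ T) : Nat.card S ≤ 2 * Nat.card T := by
  classical
  let f : S → Bool × T := fun x =>
    if hx : (x : G) ∈ T then (false, ⟨x, hx⟩) else (true, ⟨s⁻¹ * x, h x x.2 hx⟩)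
  have hinj : Function.Injective f := by
    intro x y hxy
    simp only [f] at hxy
    split at hxy <;> split at hxy <;> simp at hxy <;> exact hxy
  simpa [Nat.card_prod] using Nat.card_le_card_of_injective f hinj

/-- Let `G` be a finite non-abelian simple group in which every local subgroup is solvable and which is of characteristic 2 type. Let `P` be a Sylow 2-subgroup of `G` and `U` a normal subgroup of `P` that is a four-group, with `U` central in `P` if the centre of `P` is not cyclic. Then `U` centralizes every subgroup of odd order of `G` that it normalizes. -/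
theorem result {G : Type*} [Group G] [Finite G]
    [IsSimpleGroup G] (hna : ¬ IsMulCommutative G) (hN : Cfsg.IsNGroup G) (h2 : Cfsg.IsCharacteristicTwoType G)
    (P : Sylow 2 G) (U : Subgroup G) (hUP : U ≤ (P : Subgroup G)) (hUn : (P : Subgroup G) ≤ Subgroup.normalizer (U : Set G))
    (hU4 : IsKleinFour ↥U)
    (hUZ : ¬ IsCyclic ↥((P : Subgroup G) ⊓ Subgroup.centralizer ((P : Subgroup G) : Set G)) →
      U ≤ Subgroup.centralizer ((P : Subgroup G) : Set G))
    (K : Subgroup G) (hK : Odd (Nat.card K)) (hUK : U ≤ Subgroup.normalizer (K : Set G)) :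
    U ≤ Subgroup.centralizer (K : Set G) := by
  classical
  haveI : Fact (Nat.Prime 2) := ⟨Nat.prime_two⟩
  haveI := hU4
  haveI : IsMulCommutative U := IsKleinFour.isMulCommutative
  have hcard : Nat.card U = 4 := IsKleinFour.card_four
  have hsq : ∀ a ∈ U, a * a = 1 := fun a ha =>
    congrArg Subtype.val (IsKleinFour.mul_self (⟨a, ha⟩ : U))
  have hUab : ∀ a ∈ U, ∀ b ∈ U, a * b = b * a := fun a ha b hb =>
    congrArg Subtype.val (mul_comm' (⟨a, ha⟩ : U) ⟨b, hb⟩)
  have hcop : (Nat.card U).Coprime (Nat.card K) := by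
    rw [hcard, show (4 : ℕ) = 2 ^ 2 from rfl]
    exact Nat.Coprime.pow_left 2 hK.coprime_two_left
  suffices key : ∀ u ∈ U, u ≠ 1 → K ⊓ Subgroup.centralizer {u} ≤ Subgroup.centralizer (U : Set G) by
    exact Subgroup.le_centralizer_iff.1 (Coprime.le_of_noncyclic IsKleinFour.not_isCyclic hUK hcop key)
  intro u hu hu1
  set M := Subgroup.normalizer ((Subgroup.zpowers u : Subgroup G) : Set G) with hM
  have hu2 : u ^ 2 = 1 := by rw [sq]; exact hsq u hu
  have horder : orderOf u = 2 := orderOf_eq_prime hu2 hu1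
  have hz2 : Nat.card (Subgroup.zpowers u) = 2 := by rw [Nat.card_zpowers, horder]
  have hMc : ∀ m : G, m ∈ M ↔ m * u = u * m := by
    intro m
    constructor
    · intro hm
      have h1 : m * u * m⁻¹ ∈ Subgroup.zpowers u :=
        (Subgroup.mem_normalizer_iff.1 hm u).1 (Subgroup.mem_zpowers u)
      obtain ⟨k, hk⟩ := Subgroup.mem_zpowers_iff.1 h1
      rcases Int.even_or_odd k with ⟨j, rfl⟩ | ⟨j, rfl⟩
      · exfalso
        rw [← two_mul, zpow_mul, zpow_two, ← sq, hu2, one_zpow] at hk
        exact hu1 (conj_eq_one_iff.1 hk.symm)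
      · rw [zpow_add, zpow_mul, zpow_two, ← sq, hu2, one_zpow, one_mul, zpow_one] at hk
        calc m * u = m * u * m⁻¹ * m := by group
          _ = u * m := by rw [← hk]
    · exact fun hm => Subgroup.centralizer_le_normalizer _ (Subgroup.mem_centralizer_iff.2 fun e he => by
        obtain ⟨k, rfl⟩ := Subgroup.mem_zpowers_iff.1 he
        exact ((show Commute m u from hm).zpow_right k).eq.symm)
  have hc : Cfsg.IsOfCharacteristicTwo M := h2.2 _ (IsPGroup.of_card (n := 1) (by rw [hz2, pow_one]))
    (fun h => hu1 (Subgroup.zpowers_eq_bot.1 h))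
  set Q := (Cfsg.pCore 2 M).map M.subtype with hQ
  have hQp : IsPGroup 2 Q := (PReduced.isPGroup_pCore 2).map _
  have hQM : Q ≤ M := Subgroup.map_subtype_le _
  have hUM : U ≤ M := fun a ha => (hMc a).2 (hUab a ha u hu)
  have hMQ : M ≤ Subgroup.normalizer (Q : Set G) := Subgroup.le_normalizer_iff.2 fun m hm x hx => by
    obtain ⟨y, hy, rfl⟩ := hx
    exact ⟨_, (PReduced.pCore_normal (p := 2) (G := M)).conj_mem y hy ⟨m, hm⟩, rfl⟩
  have hQU : Q ≤ Subgroup.normalizer (U : Set G) := by
    by_cases huP : u ∈ Subgroup.centralizer ((P : Subgroup G) : Set G)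
    · have hPM : (P : Subgroup G) ≤ M := fun x hx => (hMc x).2 (Subgroup.mem_centralizer_iff.1 huP x hx)
      refine le_trans ?_ hUn
      have h1 : IsPGroup 2 ((P : Subgroup G) ⊔ Q : Subgroup G) :=
        P.isPGroup'.to_sup_of_normal_right' hQp (hPM.trans hMQ)
      exact le_sup_right.trans (P.is_maximal' h1 le_sup_left).le
    have hUc : ¬ U ≤ Subgroup.centralizer ((P : Subgroup G) : Set G) := fun h => huP (h hu)
    have hcyc : IsCyclic ↥((P : Subgroup G) ⊓ Subgroup.centralizer ((P : Subgroup G) : Set G)) :=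
      not_not.1 fun h => hUc (hUZ h)
    -- the central involution in `U`
    obtain ⟨z, hzU, hz1, hzc⟩ : ∃ z ∈ U, z ≠ 1 ∧ ∀ x ∈ (P : Subgroup G), x * z = z * x := by
      have hn : (U.subgroupOf (P : Subgroup G)).Normal := Subgroup.normal_subgroupOf_of_le_normalizer hUn
      haveI := hn
      haveI : Nontrivial (U.subgroupOf (P : Subgroup G)) := by
        rw [Subgroup.nontrivial_iff_ne_bot]
        intro h
        rw [Subgroup.subgroupOf_eq_bot, disjoint_iff, inf_eq_left.2 hUP] at h
        rw [h, Subgroup.card_bot] at hcard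
        omega
      obtain ⟨⟨z, hz⟩, hz1'⟩ := Subgroup.ne_bot_iff_exists_ne_one.1 (PGroup.inf_center_ne_bot P.isPGroup'
        ((Subgroup.nontrivial_iff_ne_bot (U.subgroupOf (P : Subgroup G))).1 inferInstance))
      have hz1 : z ≠ 1 := fun h => hz1' (Subtype.ext h)
      exact ⟨z, hz.1, fun h => hz1 (Subtype.ext h), fun x hx =>
        congrArg Subtype.val (Subgroup.mem_center_iff.1 hz.2 ⟨x, hx⟩)⟩
    have hzu : z ≠ u := fun h => huP (Subgroup.mem_centralizer_iff.2 fun x hx => h ▸ hzc x hx)
    have hUset : ∀ a ∈ U, a = 1 ∨ a = z ∨ a = u ∨ a = z * u := by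
      intro a ha
      have h1 : z * u ≠ 1 := fun h => hzu (by rw [← mul_one z, ← hsq u hu, ← mul_assoc, h, one_mul])
      have h2 : z * u ≠ z := fun h => hu1 (mul_eq_left.1 h)
      have h3 : z * u ≠ u := fun h => hz1 (mul_eq_right.1 h)
      have h4 : ({1, z, u, z * u} : Set G) = (U : Set G) := by
        refine Set.eq_of_subset_of_ncard_le ?_ ?_ (Set.toFinite _)
        · rintro x (rfl | rfl | rfl | rfl)
          exacts [U.one_mem, hzU, hu, U.mul_mem hzU hu]
        · rw [← Nat.card_coe_set_eq]
          simp only [SetLike.coe_sort_coe]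
          rw [hcard, Set.ncard_insert_of_notMem (by simp [hz1.symm, hu1.symm, h1.symm]),
            Set.ncard_insert_of_notMem (by simp [hzu, h2.symm]), Set.ncard_insert_of_notMem (by simp [h3.symm]),
            Set.ncard_singleton]
      have h5 := h4.ge ha
      simpa using h5
    set T := (P : Subgroup G) ⊓ Subgroup.centralizer (U : Set G) with hT
    have hTu : ∀ x ∈ (P : Subgroup G), x * u = u * x → x ∈ T := fun x hx hxu => by
      refine ⟨hx, Subgroup.mem_centralizer_iff.2 fun a ha => ?_⟩
      rcases hUset a ha with rfl | rfl | rfl | rfl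
      · rw [one_mul, mul_one]
      · exact (hzc x hx).symm
      · exact hxu.symm
      · rw [mul_assoc, ← hxu, ← mul_assoc, ← hzc x hx, mul_assoc]
    obtain ⟨s, hsP, hsu⟩ : ∃ s ∈ (P : Subgroup G), s * u ≠ u * s := by
      by_contra! h
      exact huP (Subgroup.mem_centralizer_iff.2 h)
    have hother : ∀ x ∈ (P : Subgroup G), x * u ≠ u * x → x * u * x⁻¹ = z * u := by
      intro x hx hxu
      rcases hUset _ ((Subgroup.mem_normalizer_iff.1 (hUn hx) u).1 hu) with h | h | h | h
      · exact absurd (conj_eq_one_iff.1 h) hu1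
      · exfalso
        refine hzu ?_
        calc z = x⁻¹ * (x * z) := by group
          _ = x⁻¹ * (x * u * x⁻¹ * x) := by rw [hzc x hx, h]
          _ = u := by group
      · exact absurd (mul_inv_eq_iff_eq_mul.1 h) hxu
      · exact h
    have hPT : Nat.card (P : Subgroup G) ≤ 2 * Nat.card T := by
      refine card_le_two_mul (s := s) fun x hx hxT => hTu _
        (Subgroup.mul_mem _ (Subgroup.inv_mem _ hsP) hx) ?_
      have h1 := (hother x hx fun h => hxT (hTu x hx h)).trans (hother s hsP hsu).symm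
      calc s⁻¹ * x * u = s⁻¹ * (x * u * x⁻¹) * x := by group
        _ = s⁻¹ * (s * u * s⁻¹) * x := by rw [h1]
        _ = u * (s⁻¹ * x) := by group
    have hTN : T ≤ Subgroup.normalizer (U : Set G) := inf_le_left.trans hUn
    have hTM : T ≤ M := fun x hx => (hMc x).2 (Subgroup.mem_centralizer_iff.1 hx.2 u hu).symm
    set S := T ⊔ Q with hS
    have hSM : S ≤ M := sup_le hTM hQM
    have hSp : IsPGroup 2 S :=
      (P.isPGroup'.to_inf_left : IsPGroup 2 T).to_sup_of_normal_right' hQp (hTM.trans hMQ)
    by_cases hST : S = T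
    · exact (le_sup_right.trans hST.le).trans hTN
    have hlt : Nat.card T < Nat.card S :=
      Set.ncard_lt_ncard (lt_of_le_of_ne le_sup_left (Ne.symm hST) : T < S) (Set.toFinite _)
    obtain ⟨g, hg⟩ : ∃ g : G, S.map (MulAut.conj g).toMonoidHom ≤ (P : Subgroup G) := by
      obtain ⟨R, hR⟩ := hSp.exists_le_sylow
      obtain ⟨g, hg⟩ := MulAction.exists_smul_eq G R P
      refine ⟨g, ?_⟩
      rintro _ ⟨x, hx, rfl⟩
      rw [← hg]
      exact Subgroup.smul_mem_pointwise_smul _ (MulAut.conj g) (R : Subgroup G) (hR hx)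
    have hmc : Nat.card (S.map (MulAut.conj g).toMonoidHom) = Nat.card S :=
      Subgroup.card_map_of_injective (MulAut.conj g).injective
    have hSP : Nat.card S ≤ Nat.card (P : Subgroup G) := hmc ▸ Subgroup.card_le_of_le hg
    have hcardS : Nat.card S = 2 * Nat.card T := by
      refine le_antisymm (hSP.trans hPT) ?_
      obtain ⟨a, ha⟩ := IsPGroup.iff_card.1 (P.isPGroup'.to_inf_left : IsPGroup 2 T)
      obtain ⟨b, hb⟩ := IsPGroup.iff_card.1 hSp
      rw [ha, hb] at hlt ⊢
      rw [← pow_succ']
      exact Nat.pow_le_pow_right two_pos ((Nat.pow_lt_pow_iff_right (by norm_num)).1 hlt)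
    have hSmap : S.map (MulAut.conj g).toMonoidHom = (P : Subgroup G) :=
      Subgroup.eq_of_le_of_card_ge hg (by omega)
    have hidx : (T.subgroupOf S).index = 2 := by
      have h1 := Subgroup.index_mul_card (T.subgroupOf S)
      rw [Nat.card_congr (Subgroup.subgroupOfEquivOfLe (le_sup_left : T ≤ S)).toEquiv, hcardS] at h1
      exact Nat.eq_of_mul_eq_mul_right (Nat.card_pos) h1
    have hSN : ∀ x ∈ S, ∀ t ∈ T, x * t * x⁻¹ ∈ T := fun x hx t ht =>
      (Subgroup.normal_of_index_eq_two hidx).conj_mem ⟨t, Subgroup.mem_sup_left ht⟩ ht ⟨x, hx⟩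
    intro x hx
    have hxS : x ∈ S := Subgroup.mem_sup_right hx
    by_cases hxT : x ∈ T
    · exact hTN hxT
    have hx2 : x * x ∈ T := Subgroup.mul_self_mem_of_index_two hidx ⟨x, hxS⟩
    have hUT : ∀ a ∈ U, a ∈ T := fun a ha =>
      ⟨hUP ha, Subgroup.mem_centralizer_iff.2 fun b hb => hUab b hb a ha⟩
    have himg : ∀ a ∈ U, x * a * x⁻¹ ∈ U := by
      intro a ha
      set y := x * a * x⁻¹ with hy
      have hyT : y ∈ T := hSN x hxS a (hUT a ha)
      have hyc : ∀ t ∈ T, t * y = y * t := by
        intro t ht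
        have h1 : x⁻¹ * t * x⁻¹⁻¹ ∈ T := hSN _ (S.inv_mem hxS) t ht
        have h2 := Subgroup.mem_centralizer_iff.1 h1.2 a ha
        calc t * y = x * (x⁻¹ * t * x⁻¹⁻¹ * a) * x⁻¹ := by rw [hy]; group
          _ = x * (a * (x⁻¹ * t * x⁻¹⁻¹)) * x⁻¹ := by rw [h2]
          _ = y * t := by rw [hy]; group
      have hay : a * y = y * a := (hyc a (hUT a ha))
      have hw : a * y ∈ (S ⊓ Subgroup.centralizer (S : Set G) : Subgroup G) := by
        refine ⟨Subgroup.mem_sup_left (T.mul_mem (hUT a ha) hyT), ?_⟩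
        have hfix : S ≤ Subgroup.centralizer {a * y} := by
          set C := S ⊓ Subgroup.centralizer {a * y}
          have hTC : T ≤ C := fun t ht => ⟨Subgroup.mem_sup_left ht, Subgroup.mem_centralizer_singleton_iff.2 (by
            calc t * (a * y) = t * a * y := (mul_assoc _ _ _).symm
              _ = a * t * y := by rw [← Subgroup.mem_centralizer_iff.1 ht.2 a ha]
              _ = a * y * t := by rw [mul_assoc, hyc t ht, ← mul_assoc])⟩
          have hxC : x ∈ C := ⟨hxS, Subgroup.mem_centralizer_singleton_iff.2 (by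
            have h2 := Subgroup.mem_centralizer_iff.1 hx2.2 a ha
            have h1 : x * (a * y) * x⁻¹ = y * a := by
              calc x * (a * y) * x⁻¹ = x * a * x⁻¹ * ((x * x) * a * (x * x)⁻¹) := by rw [hy]; group
                _ = y * a := by rw [← h2, mul_inv_cancel_right]
            rw [← hay] at h1
            exact mul_inv_eq_iff_eq_mul.1 h1)⟩
          have hCle : Nat.card T < Nat.card C :=
            Set.ncard_lt_ncard (SetLike.coe_ssubset_coe.2 (lt_of_le_of_ne hTC fun h => hxT (h.ge hxC))) (Set.toFinite _)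
          obtain ⟨i, hi⟩ := IsPGroup.iff_card.1 (P.isPGroup'.to_inf_left : IsPGroup 2 T)
          obtain ⟨j, hj⟩ := IsPGroup.iff_card.1 (hSp.to_inf_left : IsPGroup 2 C)
          have hCS : C = S := Subgroup.eq_of_le_of_card_ge inf_le_left (by
            rw [hcardS, hi, hj, ← pow_succ']
            rw [hi, hj] at hCle
            exact Nat.pow_le_pow_right two_pos ((Nat.pow_lt_pow_iff_right (by norm_num)).1 hCle))
          exact hCS.ge.trans inf_le_right
        exact Subgroup.mem_centralizer_iff.2 fun t ht =>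
          Subgroup.mem_centralizer_singleton_iff.1 (hfix ht)
      have huS : u ∈ (S ⊓ Subgroup.centralizer (S : Set G) : Subgroup G) :=
        ⟨Subgroup.mem_sup_left (hUT u hu), Subgroup.mem_centralizer_iff.2 fun t ht => (hMc t).1 (hSM ht)⟩
      set w := MulAut.conj g (a * y)
      set v := MulAut.conj g u
      have hZ : ∀ t ∈ (S ⊓ Subgroup.centralizer (S : Set G) : Subgroup G), MulAut.conj g t ∈
          (P : Subgroup G) ⊓ Subgroup.centralizer ((P : Subgroup G) : Set G) := by
        intro t ht
        refine ⟨hSmap ▸ ⟨t, ht.1, rfl⟩, Subgroup.mem_centralizer_iff.2 fun r hr => ?_⟩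
        obtain ⟨r', hr', rfl⟩ := hSmap.ge hr
        show MulAut.conj g r' * MulAut.conj g t = MulAut.conj g t * MulAut.conj g r'
        rw [← map_mul, ← map_mul, Subgroup.mem_centralizer_iff.1 ht.2 r' hr']
      have hwsq : a * y * (a * y) = 1 := by
        have hyy : y * y = 1 := by
          calc y * y = x * (a * a) * x⁻¹ := by rw [hy]; group
            _ = 1 := by rw [hsq a ha, mul_one, mul_inv_cancel]
        calc a * y * (a * y) = a * (y * a) * y := by group
          _ = a * (a * y) * y := by rw [hay]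
          _ = (a * a) * (y * y) := by group
          _ = 1 := by rw [hsq a ha, hyy, one_mul]
      haveI := hcyc
      haveI : Fintype ↥((P : Subgroup G) ⊓ Subgroup.centralizer ((P : Subgroup G) : Set G)) := Fintype.ofFinite _
      by_cases hw1 : a * y = 1
      · have : y = a := by
          calc y = a * a * y := by rw [hsq a ha, one_mul]
            _ = a := by rw [mul_assoc, hw1, mul_one]
        rw [this]; exact ha
      · have heq : a * y = u := by
          have hle := IsCyclic.card_pow_eq_one_le (α := ↥((P : Subgroup G) ⊓ Subgroup.centralizer ((P : Subgroup G) : Set G))) two_pos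
          by_contra hne
          have h3 : ({1, ⟨_, hZ _ hw⟩, ⟨_, hZ _ huS⟩} : Finset ↥((P : Subgroup G) ⊓
              Subgroup.centralizer ((P : Subgroup G) : Set G))).card ≤ 2 := by
            refine le_trans (Finset.card_le_card fun t ht => ?_) hle
            simp only [Finset.mem_filter, Finset.mem_univ, true_and]
            simp only [Finset.mem_insert, Finset.mem_singleton] at ht
            rcases ht with rfl | rfl | rfl
            · exact one_pow 2
            · exact Subtype.ext (by simp only [SubmonoidClass.coe_pow, OneMemClass.coe_one]; rw [← map_pow, sq, hwsq, map_one])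
            · exact Subtype.ext (by simp only [SubmonoidClass.coe_pow, OneMemClass.coe_one]; rw [← map_pow, hu2, map_one])
          rw [Finset.card_insert_of_notMem, Finset.card_pair] at h3
          · omega
          · exact fun h => hne ((MulAut.conj g).injective (congrArg Subtype.val h))
          · simp only [Finset.mem_insert, Finset.mem_singleton, not_or]
            exact ⟨fun h => hw1 ((MulAut.conj g).injective ((congrArg Subtype.val h).symm.trans (map_one _).symm)),
              fun h => hu1 ((MulAut.conj g).injective ((congrArg Subtype.val h).symm.trans (map_one _).symm))⟩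
        have : y = a * u := by rw [← heq, ← mul_assoc, hsq a ha, one_mul]
        rw [this]
        exact U.mul_mem ha hu
    refine Subgroup.mem_normalizer_iff_map_conj_eq.2 (Subgroup.eq_of_le_of_card_ge ?_
      (Subgroup.card_map_of_injective (MulAut.conj x).injective).ge)
    rintro _ ⟨a, ha, rfl⟩
    exact himg a ha
  -- `U ≤ O_2(M)`
  have hUQ : U ≤ Q := by
    have h1 : U.subgroupOf M ≤ Cfsg.pCore 2 M := by
      refine le_pCore_two hc (u := ⟨u, hUM hu⟩) hu (fun h => hu1 (congrArg Subtype.val h)) (Subtype.ext hu2)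
        (fun m => Subtype.ext ((hMc m).1 m.2)) ?_ ?_
      · rw [Nat.card_congr (Subgroup.subgroupOfEquivOfLe hUM).toEquiv, hcard]
      · intro q hq
        have h1 := hQU ⟨q, hq, rfl⟩
        exact Subgroup.mem_normalizer_iff.2 fun a => Subgroup.mem_normalizer_iff.1 h1 (a : G)
    intro a ha
    exact ⟨⟨a, hUM ha⟩, h1 ha, rfl⟩
  intro k hk
  refine Subgroup.mem_centralizer_iff.2 fun a ha => ?_
  have hkM : k ∈ M := (hMc k).2 (Subgroup.mem_centralizer_singleton_iff.1 hk.2)
  have h1 : ⁅a, k⁆ ∈ K ⊓ Q := by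
    refine ⟨?_, ?_⟩
    · rw [commutatorElement_def]
      exact K.mul_mem ((Subgroup.mem_normalizer_iff.1 (hUK ha) k).1 hk.1) (K.inv_mem hk.1)
    · rw [commutatorElement_def, mul_assoc a, mul_assoc a]
      exact Q.mul_mem (hUQ ha) ((Subgroup.mem_normalizer_iff.1 (hMQ hkM) a⁻¹).1 (Q.inv_mem (hUQ ha)))
  obtain ⟨j, hj⟩ := IsPGroup.iff_card.1 hQp
  rw [disjoint_iff.1 (Subgroup.disjoint_of_coprime_natCard (H := K) (K := Q)
    (by rw [hj]; exact Nat.Coprime.pow_right j hK.coprime_two_right)), Subgroup.mem_bot] at h1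
  exact commutatorElement_eq_one_iff_mul_comm.1 h1

end Cfsg.Agent.S1957
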