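import Cfsg.Statements.S1958
import Cfsg.Agent.Lib.HallHigman.PSolvable

set_option autoImplicit false
open Cfsg

namespace Cfsg.Agent.S1958

theorem balance_step {G : Type*} [Group G] [Finite G] (p : ℕ) [Fact p.Prime] (a b : G)
    (hb : orderOf b = p) (hab : a * b = b * a)
    (hs : Group.IsSolvable ↥(Subgroup.centralizer ({a} : Set G))) :
    Cfsg.centralizerPPrimeCore p a ⊓ Subgroup.centralizer {b} =
      (Cfsg.pPrimeCore p ↥(Subgroup.centralizer ({a} : Set G) ⊓ Subgroup.centralizer ({b} : Set G))).map
        (Subgroup.centralizer ({a} : Set G) ⊓ Subgroup.centralizer ({b} : Set G)).subtype := by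
  set H := Subgroup.centralizer ({a} : Set G) with hH
  have hbH : b ∈ H := Subgroup.mem_centralizer_singleton_iff.mpr hab.symm
  set T : Subgroup H := Subgroup.zpowers ⟨b, hbH⟩ with hT
  have hTp : IsPGroup p T := IsPGroup.of_card (n := 1)
    (by rw [Nat.card_zpowers, ← Subgroup.orderOf_coe, hb, pow_one])
  have h1 := (Constrained.isPConstrained_inherit
    (HallHigman.isPConstrained_of_isSolvable (G := H) (p := p)) hTp
    (Subgroup.centralizer_le_normalizer _) (Or.inr le_rfl) le_rfl).2
  set W := Subgroup.centralizer (T : Set H) with hW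
  have hWeq : W.map H.subtype = H ⊓ Subgroup.centralizer ({b} : Set G) := by
    have : W = (Subgroup.centralizer ({b} : Set G)).subgroupOf H := by
      ext z
      rw [hW, hT, Subgroup.mem_centralizer_iff, Subgroup.mem_subgroupOf,
        Subgroup.mem_centralizer_singleton_iff]
      constructor
      · intro h
        exact (congrArg Subtype.val (h ⟨b, hbH⟩ (Subgroup.mem_zpowers _))).symm
      · rintro h t ⟨k, rfl⟩
        exact ((show Commute (⟨b, hbH⟩ : H) z from Subtype.ext h.symm).zpow_left k).eq
    rw [this, Subgroup.subgroupOf_map_subtype, inf_comm]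
  let e : W ≃* ↥(H ⊓ Subgroup.centralizer ({b} : Set G)) :=
    (W.equivMapOfInjective H.subtype H.subtype_injective).trans (MulEquiv.subgroupCongr hWeq)
  have h2 := congrArg (Subgroup.map H.subtype) h1
  rw [Subgroup.map_inf _ _ _ H.subtype_injective, hWeq, Subgroup.map_map] at h2
  rw [← Cores.pPrimeCore_map_mulEquiv e p, Subgroup.map_map]
  refine Eq.trans ?_ h2.symm
  show ((Cfsg.pPrimeCore p H).map H.subtype) ⊓ Subgroup.centralizer {b} = _
  refine le_antisymm (le_inf inf_le_left (le_inf ?_ inf_le_right)) (le_inf inf_le_left (inf_le_right.trans inf_le_right))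
  exact inf_le_left.trans (Subgroup.map_subtype_le _)

/-- Let `G` be a finite group, `p` a prime, and `x, y` commuting elements of order `p` whose centralizers `C_G(x)` and `C_G(y)` are both solvable. Then `O_{p'}(C_G(x)) ∩ C_G(y) = O_{p'}(C_G(y)) ∩ C_G(x)` (balance). -/
theorem result {G : Type*} [Group G] [Finite G]
    (p : ℕ) [Fact p.Prime] (x y : G) (hx : orderOf x = p) (hy : orderOf y = p) (hxy : x * y = y * x)
    (hCx : Group.IsSolvable ↥(Subgroup.centralizer ({x} : Set G))) (hCy : Group.IsSolvable ↥(Subgroup.centralizer ({y} : Set G))) :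
    Cfsg.centralizerPPrimeCore p x ⊓ Subgroup.centralizer {y} = Cfsg.centralizerPPrimeCore p y ⊓ Subgroup.centralizer {x} := by
  have key : ∀ a b : G, orderOf b = p → a * b = b * a →
      Group.IsSolvable ↥(Subgroup.centralizer ({a} : Set G)) →
      Cfsg.centralizerPPrimeCore p a ⊓ Subgroup.centralizer {b} =
        (Cfsg.pPrimeCore p ↥(Subgroup.centralizer ({a} : Set G) ⊓ Subgroup.centralizer ({b} : Set G))).map
          (Subgroup.centralizer ({a} : Set G) ⊓ Subgroup.centralizer ({b} : Set G)).subtype :=
    fun a b hb hab hs => balance_step p a b hb hab hs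
  rw [key x y hy hxy hCx, key y x hx hxy.symm hCy, inf_comm]

end Cfsg.Agent.S1958
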