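import Cfsg.Statements.S1966
import Cfsg.Agent.Lib.Cores.Basic

set_option autoImplicit false
open Cfsg

namespace Cfsg.Agent.S1966

/-- Let p be a prime, G a finite group with Sylow p-subgroup S and 𝓕 a conjugation family for S in G. Then the members of 𝓕 containing O_p(G) still form a conjugation family for S in G. -/
theorem result {G : Type*} [Group G] [Finite G] {p : ℕ} [Fact p.Prime] (S : Sylow p G) (𝓕 : Set (Subgroup G)) (h : Cfsg.IsConjugationFamily 𝓕 (S : Subgroup G)) : Cfsg.IsConjugationFamily {T : Subgroup G | T ∈ 𝓕 ∧ Cfsg.pCore p G ≤ T} (S : Subgroup G) := by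
  refine ⟨fun T hT => h.1 T hT.1, fun A g hne hA hAg => ?_⟩
  have hOle : pCore p G ≤ (S : Subgroup G) := Cores.pCore_le_sylow S
  obtain ⟨n, T, x, hprod, hT, hx, h0, hstep⟩ := h.2 (A ∪ (pCore p G : Set G)) g
    (hne.mono Set.subset_union_left) (Set.union_subset hA hOle) (by
      rintro _ ⟨a, ha | ha, rfl⟩
      · exact hAg ⟨a, ha, rfl⟩
      · have := (Cores.pCore_normal p G).conj_mem a ha g⁻¹
        exact hOle (by simpa using this))
  refine ⟨n, T, x, hprod, fun i => ⟨hT i, ?_⟩, hx, fun h' => Set.subset_union_left.trans (h0 h'),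
    fun i hi => (Set.image_mono Set.subset_union_left).trans (hstep i hi)⟩
  intro o ho
  obtain ⟨i, hi⟩ := i
  cases i with
  | zero => exact h0 hi (Or.inr ho)
  | succ j =>
    set c := ((List.ofFn x).take (j + 1)).prod with hc
    refine hstep ⟨j, by omega⟩ hi ⟨c * o * c⁻¹, Or.inr ?_, by
      show c⁻¹ * (c * o * c⁻¹) * c = o
      group⟩
    exact (Cores.pCore_normal p G).conj_mem o ho c

end Cfsg.Agent.S1966
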