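import Cfsg.Statements.S1967
import Cfsg.Agent.Lib.AlperinFamily.Basic

set_option autoImplicit false
open Cfsg

namespace Cfsg.Agent.S1967

/-- Let p be a prime, G a finite group with Sylow p-subgroup S and W a conjugacy functor for p on G. Then W controls strong fusion in G if and only if, whenever T ≤ S and g ∈ G satisfy gTg⁻¹ ≤ S, one can write g = n c with n ∈ N_G(W(S)) and c ∈ C_G(T). -/
theorem result {G : Type*} [Group G] [Finite G] {p : ℕ} [Fact p.Prime] (S : Sylow p G) (W : Subgroup G → Subgroup G) (hW : Cfsg.IsConjugacyFunctor p W) : Cfsg.ControlsStrongFusionIn p W ⊤ ↔ ∀ (T : Subgroup G) (g : G), T ≤ (S : Subgroup G) → T.map (MulAut.conj g).toMonoidHom ≤ (S : Subgroup G) → ∃ n ∈ Subgroup.normalizer ((W (S : Subgroup G) : Subgroup G) : Set G), ∃ c ∈ Subgroup.centralizer (T : Set G), g = n * c := by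
  constructor
  · rintro ⟨T₀, -, hT₀, hdvd, hctl⟩ T g hT hgT
    have hQ : Fusion.IsSylowIn p T₀ ⊤ :=
      ⟨le_top, hT₀, fun C h1 h2 h3 => (AlperinFamily.eq_of_sylowish h1 h2 h3 hdvd).symm⟩
    obtain ⟨c, -, hc⟩ := hQ.exists_conj_le S.isPGroup' le_top
    have hcS : AlperinFamily.cj c (S : Subgroup G) = T₀ := by
      refine Subgroup.eq_of_le_of_card_ge (by rintro _ ⟨x, hx, rfl⟩; exact hc x hx) ?_
      rw [AlperinFamily.card_cj]
      exact (Fusion.IsSylowIn.card_ge (A := ⊤)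
        ⟨le_top, S.isPGroup', fun C h1 _ h3 => S.is_maximal' h3 h1⟩ hT₀ le_top)
    obtain ⟨x, hx, hxe⟩ := hctl ((AlperinFamily.cj c T : Subgroup G) : Set G) (c * g * c⁻¹) trivial
      (by rintro _ ⟨a, ha, rfl⟩; exact hc a (hT ha))
      (by
        rintro _ ⟨_, ⟨a, ha, rfl⟩, rfl⟩
        show c * g * c⁻¹ * (c * a * c⁻¹) * (c * g * c⁻¹)⁻¹ ∈ T₀
        have := hc _ (hgT ⟨a, ha, rfl⟩)
        simpa [mul_assoc] using this)
    refine ⟨c⁻¹ * x * c, ?_, (c⁻¹ * x * c)⁻¹ * g, ?_, by group⟩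
    · rw [← AlperinFamily.cj_eq_iff, ← AlperinFamily.cj_cj, ← AlperinFamily.cj_cj,
        ← AlperinFamily.functor_cj hW S.isPGroup', hcS]
      rw [AlperinFamily.cj_eq_iff.2 hx.2, ← hcS, AlperinFamily.functor_cj hW S.isPGroup',
        AlperinFamily.cj_cj, inv_mul_cancel, AlperinFamily.cj_one]
    · rw [Subgroup.mem_centralizer_iff]
      intro a ha
      have h1 : x * (c * a * c⁻¹) * x⁻¹ = c * g * c⁻¹ * (c * a * c⁻¹) * (c * g * c⁻¹)⁻¹ :=
        hxe _ ⟨a, ha, rfl⟩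
      calc a * ((c⁻¹ * x * c)⁻¹ * g) = c⁻¹ * x⁻¹ * (x * (c * a * c⁻¹) * x⁻¹) * c * g := by group
        _ = (c⁻¹ * x * c)⁻¹ * g * a := by rw [h1]; group
  · intro h
    refine ⟨S, le_top, S.isPGroup', ?_, fun A g _ hA hgA => ?_⟩
    · rw [Subgroup.relIndex_top_right]; exact S.not_dvd_index
    have hcl : (Subgroup.closure A).map (MulAut.conj g).toMonoidHom ≤ (S : Subgroup G) := by
      rw [MonoidHom.map_closure, Subgroup.closure_le]
      exact hgA
    obtain ⟨n, hn, c, hc, rfl⟩ := h (Subgroup.closure A) g ((Subgroup.closure_le _).2 hA) hcl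
    refine ⟨n, ⟨trivial, hn⟩, fun a ha => ?_⟩
    have := Subgroup.mem_centralizer_iff.1 hc a (Subgroup.subset_closure ha)
    calc n * a * n⁻¹ = n * (a * c) * c⁻¹ * n⁻¹ := by group
      _ = n * c * a * (n * c)⁻¹ := by rw [this]; group

end Cfsg.Agent.S1967
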