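import Cfsg.Statements.S1968
import Cfsg.Agent.Lib.AlperinFamily.Basic

set_option autoImplicit false
open Cfsg

namespace Cfsg.Agent.S1968

/-- Let p be a prime, G a finite group with Sylow p-subgroup S and W a conjugacy functor for p on G with Z(P) ≤ W(P) for every p-subgroup P. Let A be a subgroup of Z(S) normalized by N_G(W(S)) that is not weakly closed in S with respect to G. Then there is a subgroup T of S, well placed in S with respect to W, such that: A ≤ T; N_G(W(N_S(T))) normalizes A; N_S(T) is a Sylow p-subgroup of N_G(T); A ≤ Z(N_S(T)); and A is not weakly closed in N_S(T) with respect to N_G(T), that is, some N_G(T)-conjugate of A other than A lies in N_S(T). -/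
theorem result {G : Type*} [Group G] [Finite G] {p : ℕ} [Fact p.Prime] (S : Sylow p G) (W : Subgroup G → Subgroup G) (hW : Cfsg.IsConjugacyFunctor p W) (hWZ : ∀ P : Subgroup G, IsPGroup p ↥P → P ⊓ Subgroup.centralizer (P : Set G) ≤ W P) (A : Subgroup G) (hAZ : A ≤ (S : Subgroup G) ⊓ Subgroup.centralizer ((S : Subgroup G) : Set G)) (hAN : Subgroup.normalizer ((W (S : Subgroup G) : Subgroup G) : Set G) ≤ Subgroup.normalizer ((A : Subgroup G) : Set G)) (hnwc : ¬ Cfsg.IsWeaklyClosed A (S : Subgroup G)) : ∃ T : Subgroup G, Cfsg.IsWellPlaced p W (S : Subgroup G) T ∧ A ≤ T ∧ Subgroup.normalizer ((W ((S : Subgroup G) ⊓ Subgroup.normalizer ((T : Subgroup G) : Set G)) : Subgroup G) : Set G) ≤ Subgroup.normalizer ((A : Subgroup G) : Set G) ∧ ¬ p ∣ ((S : Subgroup G) ⊓ Subgroup.normalizer ((T : Subgroup G) : Set G)).relIndex (Subgroup.normalizer ((T : Subgroup G) : Set G)) ∧ A ≤ Subgroup.centralizer (((S : Subgroup G) ⊓ Subgroup.normalizer ((T : Subgroup G) : Set G) : Subgroup G) : Set G)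 ∧ ∃ g ∈ Subgroup.normalizer ((T : Subgroup G) : Set G), A.map (MulAut.conj g).toMonoidHom ≤ (S : Subgroup G) ⊓ Subgroup.normalizer ((T : Subgroup G) : Set G) ∧ A.map (MulAut.conj g).toMonoidHom ≠ A := by
  classical
  let R : Subgroup G → Subgroup G := fun T => (S : Subgroup G) ⊓ Subgroup.normalizer (T : Set G)
  have hAS : A ≤ (S : Subgroup G) := hAZ.trans inf_le_left
  have hAC : ∀ X : Subgroup G, X ≤ (S : Subgroup G) → A ≤ Subgroup.centralizer (X : Set G) := fun X hX =>
    (hAZ.trans inf_le_right).trans (Subgroup.centralizer_le hX)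
  obtain ⟨g, hg, hne⟩ : ∃ g : G, AlperinFamily.cj g A ≤ (S : Subgroup G) ∧ AlperinFamily.cj g A ≠ A := by
    by_contra hno
    push Not at hno
    exact hnwc ⟨hAS, hno⟩
  have hex : ∀ (B : Set G) (x : G), AlperinFamily.Steps {T : Subgroup G | IsWellPlaced p W (S : Subgroup G) T} B x →
      B = A → x ∉ Subgroup.normalizer (A : Set G) →
      ∃ T : Subgroup G, IsWellPlaced p W (S : Subgroup G) T ∧ A ≤ T ∧
        ¬ Subgroup.normalizer (T : Set G) ≤ Subgroup.normalizer (A : Set G) := by
    intro B x h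
    induction h with
    | nil B => exact fun _ h => absurd (one_mem _) h
    | @cons B g T y hT hy hB _ ih =>
      intro hBA hnot
      by_cases hyA : y ∈ Subgroup.normalizer (A : Set G)
      · refine ih ?_ fun hg' => hnot (mul_mem hyA hg')
        rw [hBA]
        ext a
        refine ⟨?_, fun ha => ?_⟩
        · rintro ⟨b, hb, rfl⟩
          exact (Subgroup.mem_normalizer_iff''.1 hyA b).1 hb
        · exact ⟨y * a * y⁻¹, (Subgroup.mem_normalizer_iff.1 hyA a).1 ha, by group⟩
      · exact ⟨T, hT, by rw [hBA] at hB; exact hB, fun hle => hyA (hle hy)⟩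
  obtain ⟨T₀, hT₀⟩ := hex (A : Set G) g⁻¹
    (AlperinFamily.wellPlaced_steps S hW _ _ hAS (by
      rintro _ ⟨a, ha, rfl⟩
      simp only [inv_inv, SetLike.mem_coe]
      exact hg ⟨a, ha, rfl⟩)) rfl
    (fun h => hne (AlperinFamily.cj_eq_iff.2 (by simpa using inv_mem h)))
  obtain ⟨T, ⟨hTwp, hAT, hTA⟩, hmax⟩ :=
    (Set.toFinite {T : Subgroup G | IsWellPlaced p W (S : Subgroup G) T ∧ A ≤ T ∧
        ¬ Subgroup.normalizer (T : Set G) ≤ Subgroup.normalizer (A : Set G)}).exists_maximalFor
      (fun T => Nat.card (R T)) _ ⟨T₀, hT₀⟩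
  obtain ⟨x, hxT, hxA⟩ := SetLike.not_le_iff_exists.1 hTA
  have hRp : IsPGroup p ↥(R T) := S.isPGroup'.to_inf_left
  have hTR : T ≤ R T := le_inf hTwp.1 Subgroup.le_normalizer
  have hAU : A ≤ W (R T) := le_trans (le_inf (hAT.trans hTR) (hAC _ inf_le_left)) (hWZ _ hRp)
  refine ⟨T, hTwp, hAT, ?_, hTwp.2 0, hAC _ inf_le_left, x, hxT, ?_, fun h => hxA (AlperinFamily.cj_eq_iff.1 h)⟩
  · have hUwp : IsWellPlaced p W (S : Subgroup G) (W (R T)) :=
      ⟨AlperinFamily.functorTower_le hW S.isPGroup' hTwp.1 1, fun i => by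
        have := hTwp.2 (i + 1)
        rwa [← AlperinFamily.functorTower_shift] at this⟩
    have hle : R T ≤ R (W (R T)) := AlperinFamily.inf_normalizer_tower_mono hW S.isPGroup' 0
    by_cases heq : R (W (R T)) = R T
    · -- then `N_S(T) = S`
      have hRS : R T = (S : Subgroup G) := by
        by_contra hRS
        exact (AlperinFamily.exists_lt_inf_normalizer S.isPGroup' inf_le_left hRS).not_ge
          ((inf_le_inf_left _ (AlperinFamily.normalizer_le_normalizer_functor hW hRp)).trans heq.le)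
      show Subgroup.normalizer ((W (R T) : Subgroup G) : Set G) ≤ _
      rw [hRS]
      exact hAN
    · by_contra hUA
      have hlt : Nat.card (R T) < Nat.card (R (W (R T))) :=
        Set.ncard_lt_ncard (lt_of_le_of_ne hle (Ne.symm heq) : R T < R (W (R T))) (Set.toFinite _)
      exact absurd (hmax ⟨hUwp, hAU, hUA⟩ hlt.le) hlt.not_ge
  · refine le_trans ?_ hTR
    rintro _ ⟨a, ha, rfl⟩
    exact (Subgroup.mem_normalizer_iff.1 hxT a).1 (hAT ha)

end Cfsg.Agent.S1968
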