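import Cfsg.Statements.S1969
import Cfsg.Agent.Lib.FunctorControl.FusionApps
import Cfsg.Agent.EqLemmas

set_option autoImplicit false
universe u
open Cfsg
open scoped commutatorElement

namespace Cfsg.Agent.S1969

/-- Let p be a prime, G a finite group and W an isomorphism-invariant p-group functor (W assigns to every group Q a subgroup W(Q), nontrivial whenever Q is a nontrivial finite p-group, and every isomorphism from a finite p-group Q onto a group R carries W(Q) onto W(R)). Suppose that W(S*) is normal in G* whenever G* = K/R is a section of G with C_{G*}(O_p(G*)) ≤ O_p(G*) and S* is a Sylow p-subgroup of G*. Then W controls strong fusion in every section of G: for every section K/R and every Sylow p-subgroup T of K/R, the subgroup W(T) controls strong fusion in K/R. -/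
theorem result {G : Type u} [Group G] [Finite G] {p : ℕ} [Fact p.Prime] (W : ∀ (Q : Type u) [Group Q], Subgroup Q) (hW : Cfsg.IsCharPFunctor.{u} p W) (hloc : ∀ (K R : Subgroup G) [hR : (R.subgroupOf K).Normal], Subgroup.centralizer ((Cfsg.pCore p (↥K ⧸ R.subgroupOf K) : Subgroup (↥K ⧸ R.subgroupOf K)) : Set (↥K ⧸ R.subgroupOf K)) ≤ Cfsg.pCore p (↥K ⧸ R.subgroupOf K) → ∀ T : Sylow p (↥K ⧸ R.subgroupOf K), (Cfsg.inducedFunctor (G := (↥K ⧸ R.subgroupOf K)) W ((T : Subgroup (↥K ⧸ R.subgroupOf K)))).Normal) : ∀ (K R : Subgroup G) [hR : (R.subgroupOf K).Normal], ∀ T : Sylow p (↥K ⧸ R.subgroupOf K), Cfsg.ControlsStrongFusion p (Cfsg.inducedFunctor (G := (↥K ⧸ R.subgroupOf K)) W ((T : Subgroup (↥K ⧸ R.subgroupOf K)))) := by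
  intro K R hR T
  refine FunctorControl.controlsFusion_of_normal hW (fun X _ _ hX hC S => ?_) _ (FunctorControl.isSec_quotient K R) T
  obtain ⟨K', R', hR', ⟨e⟩⟩ := hX.exists_equiv
  have h := (hloc K' R' (CharP.charP_of_equiv e.symm hC)
    (S.mapSurjective (f := e.symm.toMonoidHom) e.symm.surjective)).map e.toMonoidHom e.surjective
  rw [show ((S.mapSurjective (f := e.symm.toMonoidHom) e.symm.surjective : Sylow p _) : Subgroup _) = (S : Subgroup X).map e.symm.toMonoidHom from rfl,
    FunctorControl.map_inducedFunctor hW e.symm.toMonoidHom e.symm.injective S.isPGroup', Subgroup.map_map,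
    show e.toMonoidHom.comp e.symm.toMonoidHom = MonoidHom.id X from MonoidHom.ext fun x => e.apply_symm_apply x,
    Subgroup.map_id] at h
  exact h


end Cfsg.Agent.S1969
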