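import Cfsg.Statements.S1970
import Cfsg.Agent.Lib.FunctorControl.Transfer
import Cfsg.Agent.EqLemmas

set_option autoImplicit false
universe u
open Cfsg
open scoped commutatorElement

namespace Cfsg.Agent.S1970

/-- Let p be a prime, G a finite group and W an isomorphism-invariant p-group functor (W assigns to every group Q a subgroup W(Q), nontrivial whenever Q is a nontrivial finite p-group, and every isomorphism from a finite p-group Q onto a group R carries W(Q) onto W(R)). Suppose that for every section G* = K/R of G with C_{G*}(O_p(G*)) ≤ O_p(G*) and every Sylow p-subgroup S* of G*, one has O_p(G*) ∩ (G*)' = O_p(G*) ∩ (N_{G*}(W(S*)))'. Then W controls transfer in every section G* of G: S* ∩ (G*)' = S* ∩ (N_{G*}(W(S*)))' for a Sylow p-subgroup S* of G*. -/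
theorem result {G : Type u} [Group G] [Finite G] {p : ℕ} [Fact p.Prime] (W : ∀ (Q : Type u) [Group Q], Subgroup Q) (hW : Cfsg.IsCharPFunctor.{u} p W) (hloc : ∀ (K R : Subgroup G) [hR : (R.subgroupOf K).Normal], Subgroup.centralizer ((Cfsg.pCore p (↥K ⧸ R.subgroupOf K) : Subgroup (↥K ⧸ R.subgroupOf K)) : Set (↥K ⧸ R.subgroupOf K)) ≤ Cfsg.pCore p (↥K ⧸ R.subgroupOf K) → ∀ T : Sylow p (↥K ⧸ R.subgroupOf K), Cfsg.pCore p (↥K ⧸ R.subgroupOf K) ⊓ commutator (↥K ⧸ R.subgroupOf K) = Cfsg.pCore p (↥K ⧸ R.subgroupOf K) ⊓ ⁅Subgroup.normalizer ((Cfsg.inducedFunctor (G := (↥K ⧸ R.subgroupOf K)) W ((T : Subgroup (↥K ⧸ R.subgroupOf K))) : Subgroup (↥K ⧸ R.subgroupOf K)) : Set (↥K ⧸ R.subgroupOf K)), Subgroup.normalizer ((Cfsg.inducedFunctor (G := (↥K ⧸ R.subgroupOf K)) W ((T : Subgroup (↥K ⧸ R.subgroupOf K))) : Subgroup (↥K ⧸ R.subgroupOf K)) : Set (↥K ⧸ R.subgroupOf K))⁆) : ∀ (K R : Subgroup G) [hR : (R.subgroupOf K).Normal], Cfsg.ControlsTransferIn p (Cfsg.inducedFunctor (G := (↥K ⧸ R.subgroupOf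 K)) W) ⊤ := by
  intro K R hR
  rw [AlperinFamily.controlsTransferIn_iff_family]
  have h := FunctorControl.controlsTransfer_induction (G := G) (p := p) (𝓦 := {W})
    (fun W' h' => (Set.mem_singleton_iff.1 h') ▸ hW) ?_ _ (FunctorControl.isSec_quotient K R)
  · rwa [Set.image_singleton] at h
  intro X _ _ hX S h
  have hne : ({W} : Set (∀ (Q : Type u) [Group Q], Subgroup Q)).Nonempty := Set.singleton_nonempty W
  refine h.not_commutator_pCore_le (h.sylow_ne_top hne) ?_
  obtain ⟨K', R', hR', ⟨e⟩⟩ := hX.exists_equiv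
  have hq := congrArg (Subgroup.map e.toMonoidHom) (hloc K' R' (CharP.charP_of_equiv e.symm h.charP)
    (S.mapSurjective (f := e.symm.toMonoidHom) e.symm.surjective))
  have he : e.toMonoidHom.comp e.symm.toMonoidHom = MonoidHom.id X := MonoidHom.ext fun x => e.apply_symm_apply x
  rw [Subgroup.map_inf _ _ _ e.injective, Subgroup.map_inf _ _ _ e.injective, Cores.pCore_map_mulEquiv e p,
    show ((S.mapSurjective (f := e.symm.toMonoidHom) e.symm.surjective : Sylow p _) : Subgroup _) = (S : Subgroup X).map e.symm.toMonoidHom from rfl, FunctorControl.map_inducedFunctor hW e.symm.toMonoidHom e.symm.injective S.isPGroup',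
    commutator_def, Subgroup.map_commutator, Subgroup.map_commutator, Subgroup.map_equiv_normalizer_eq,
    Subgroup.map_map, he, Subgroup.map_id, ← MonoidHom.range_eq_map,
    (MonoidHom.range_eq_top.2 e.surjective : e.toMonoidHom.range = ⊤)] at hq
  refine le_trans (le_inf (Subgroup.commutator_le_left _ _) (Subgroup.commutator_mono le_top le_top)) ?_
  rw [hq]
  refine le_trans (inf_le_inf_right _ (Cores.pCore_le_sylow S)) ?_
  exact le_iSup₂ (f := fun W' (_ : W' ∈ ({W} : Set (∀ (Q : Type u) [Group Q], Subgroup Q))) =>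
    (S : Subgroup X) ⊓ ⁅Subgroup.normalizer ((inducedFunctor W' (S : Subgroup X) : Subgroup X) : Set X),
      Subgroup.normalizer ((inducedFunctor W' (S : Subgroup X) : Subgroup X) : Set X)⁆) W rfl


end Cfsg.Agent.S1970
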