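import Cfsg.Statements.S1972
import Cfsg.Agent.Lib.FunctorControl.Transfer
import Cfsg.Agent.EqLemmas

set_option autoImplicit false
universe u
open Cfsg
open scoped commutatorElement

namespace Cfsg.Agent.S1972

/-- Let p be a prime, G a finite group and W an isomorphism-invariant p-group functor (W assigns to every group Q a subgroup W(Q), nontrivial whenever Q is a nontrivial finite p-group, and every isomorphism from a finite p-group Q onto a group R carries W(Q) onto W(R)). Suppose that whenever G* = K/R is a section of G with C_{G*}(O_p(G*)) ≤ O_p(G*) and S* is a Sylow p-subgroup of G* with W(S*) not normal in G*, there is an element g of S* outside O_p(G*) such that [X, g, …, g] ≤ Y with p − 1 entries g, for every chief factor X/Y of G* with X ≤ O_p(G*). Then W controls transfer in every section of G. -/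
theorem result {G : Type u} [Group G] [Finite G] {p : ℕ} [Fact p.Prime] (W : ∀ (Q : Type u) [Group Q], Subgroup Q) (hW : Cfsg.IsCharPFunctor.{u} p W) (hloc : ∀ (K R : Subgroup G) [hR : (R.subgroupOf K).Normal], Subgroup.centralizer ((Cfsg.pCore p (↥K ⧸ R.subgroupOf K) : Subgroup (↥K ⧸ R.subgroupOf K)) : Set (↥K ⧸ R.subgroupOf K)) ≤ Cfsg.pCore p (↥K ⧸ R.subgroupOf K) → ∀ T : Sylow p (↥K ⧸ R.subgroupOf K), ¬ (Cfsg.inducedFunctor (G := (↥K ⧸ R.subgroupOf K)) W ((T : Subgroup (↥K ⧸ R.subgroupOf K)))).Normal → ∃ g : (↥K ⧸ R.subgroupOf K), g ∈ (T : Subgroup (↥K ⧸ R.subgroupOf K)) ∧ g ∉ Cfsg.pCore p (↥K ⧸ R.subgroupOf K) ∧ ∀ U V : Subgroup (↥K ⧸ R.subgroupOf K), Cfsg.IsChiefFactor U V → U ≤ Cfsg.pCore p (↥K ⧸ R.subgroupOf K) → Cfsg.iterCommutator U (Subgroup.zpowers g) (p - 1) ≤ V) : ∀ (K R : Subgroup G) [hR : (R.subgroupOf K).Normal], Cfsg.ControlsTransferIn p (Cfsg.inducedFunctor (G := (↥K ⧸ R.subgroupOf K)) W) ⊤ := by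
  intro K R hR
  refine FunctorControl.controlsTransfer_of_engel hW (fun X _ _ hX hC S hn => ?_) _ (FunctorControl.isSec_quotient K R)
  obtain ⟨K', R', hR', ⟨e⟩⟩ := hX.exists_equiv
  obtain ⟨g, hgT, hgQ, hg⟩ := hloc K' R' (CharP.charP_of_equiv e.symm hC)
    (S.mapSurjective (f := e.symm.toMonoidHom) e.symm.surjective) (fun h' => hn (by
      have hh := h'.map e.toMonoidHom e.surjective
      rw [show ((S.mapSurjective (f := e.symm.toMonoidHom) e.symm.surjective : Sylow p _) : Subgroup _) = (S : Subgroup X).map e.symm.toMonoidHom from rfl, FunctorControl.map_inducedFunctor hW e.symm.toMonoidHom e.symm.injective S.isPGroup',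
        Subgroup.map_map] at hh
      rwa [show e.toMonoidHom.comp e.symm.toMonoidHom = MonoidHom.id X from
        MonoidHom.ext fun x => e.apply_symm_apply x, Subgroup.map_id] at hh))
  have hcore := Cores.pCore_map_mulEquiv e.symm p
  refine ⟨e g, ?_, fun h' => hgQ ?_, fun U V hUV hU => ?_⟩
  · obtain ⟨s, hs, rfl⟩ := hgT
    show e (e.symm.toMonoidHom s) ∈ (S : Subgroup X)
    rw [show e (e.symm.toMonoidHom s) = s from e.apply_symm_apply s]
    exact hs
  · rw [← hcore]
    exact ⟨e g, h', e.symm_apply_apply g⟩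
  have hiter : ∀ (A : Subgroup X) (n : ℕ), (iterCommutator A (Subgroup.zpowers (e g)) n).map e.symm.toMonoidHom
      = iterCommutator (A.map e.symm.toMonoidHom) (Subgroup.zpowers g) n := by
    intro A n
    induction n with
    | zero => rfl
    | succ n ih =>
      show (⁅_, _⁆ : Subgroup X).map _ = ⁅_, _⁆
      rw [Subgroup.map_commutator, ih, MonoidHom.map_zpowers]
      simp
  have hch : IsChiefFactor (U.map e.symm.toMonoidHom) (V.map e.symm.toMonoidHom) := by
    obtain ⟨h1, h2, h3, h4⟩ := hUV
    refine ⟨(Subgroup.map_lt_map_iff_of_injective e.symm.injective).2 h1, h2.map _ e.symm.surjective,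
      h3.map _ e.symm.surjective, fun N hN hVN hNU => ?_⟩
    rcases h4 (N.comap e.symm.toMonoidHom) (hN.comap _) (Subgroup.map_le_iff_le_comap.1 hVN)
      ((Subgroup.comap_mono hNU).trans (Subgroup.comap_map_eq_self_of_injective e.symm.injective U).le) with h | h
    · exact Or.inl (by rw [← h, Subgroup.map_comap_eq_self_of_surjective (f := e.symm.toMonoidHom) e.symm.surjective])
    · exact Or.inr (by rw [← h, Subgroup.map_comap_eq_self_of_surjective (f := e.symm.toMonoidHom) e.symm.surjective])
  have := hg _ _ hch (hcore ▸ Subgroup.map_mono hU)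
  rw [← hiter] at this
  exact (Subgroup.map_le_map_iff_of_injective (f := e.symm.toMonoidHom) e.symm.injective).1 this


end Cfsg.Agent.S1972
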