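import Cfsg.Statements.S1981
import Cfsg.Agent.Lib.KInfinity.Basic

set_option autoImplicit false
open Cfsg

namespace Cfsg.Agent.S1981

/-- Let P be a finite p-group generated by its abelian normal subgroups. Then both K-infinity subgroups of P equal P. -/
theorem result {P : Type*} [Group P] [Finite P] {p : ℕ} [Fact p.Prime] (hP : IsPGroup p P) (hgen : ⨆ A ∈ {A : Subgroup P | A.Normal ∧ IsMulCommutative ↥A}, A = ⊤) : Cfsg.kInfLower P = ⊤ ∧ Cfsg.kInfUpper P = ⊤ := by
  have key : ∀ 𝒦 : Set (Subgroup P), (∀ A : Subgroup P, A.Normal → IsMulCommutative ↥A → A ∈ 𝒦) →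
      sSup 𝒦 = ⊤ := fun 𝒦 h =>
    top_le_iff.1 (hgen.ge.trans (iSup₂_le fun A hA => le_sSup (h A hA.1 hA.2)))
  have hu : ∀ n, kSeqOdd P n = ⊤ := fun n => by
    cases n with
    | zero => rfl
    | succ n =>
      rw [KInfinity.kSeqOdd_succ]
      exact key _ fun A _ hA => (KInfinity.abelian_normal_mem A hA _).2.2
  refine ⟨top_le_iff.1 (le_trans ?_ (le_iSup (kSeqEven P) 0)), by simp [kInfUpper, hu]⟩
  exact (key _ fun A _ hA => (KInfinity.abelian_normal_mem A hA _).2.1).ge

end Cfsg.Agent.S1981
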