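import Cfsg.Statements.S1988
import Cfsg.Agent.Lib.FunctorControl.NormalComplement
import Cfsg.Agent.Lib.FunctorControl.FusionApps
import Cfsg.Agent.Lib.FunctorControl.NormalComplementApps

set_option autoImplicit false
universe u
open Cfsg
open scoped commutatorElement

namespace Cfsg.Agent.S1988

/-- Let p be an odd prime, G a finite group with Sylow p-subgroup S and K the lower K-infinity subgroup of S. If N_G(K) has a normal p-complement, or if N_G(K)/C_G(K) is a p-group (every element of N_G(K) of order prime to p centralizes K), then G has a normal p-complement. -/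
theorem result {G : Type u} [Group G] [Finite G] {p : ℕ} [Fact p.Prime] (hp : p ≠ 2) (S : Sylow p G) (h : Cfsg.HasNormalPComplement p ↥(Subgroup.normalizer ((Cfsg.inducedFunctor Cfsg.kInfLower (S : Subgroup G) : Subgroup G) : Set G)) ∨ ∀ g ∈ Subgroup.normalizer ((Cfsg.inducedFunctor Cfsg.kInfLower (S : Subgroup G) : Subgroup G) : Set G), (orderOf g).Coprime p → g ∈ Subgroup.centralizer ((Cfsg.inducedFunctor Cfsg.kInfLower (S : Subgroup G) : Subgroup G) : Set G)) : Cfsg.HasNormalPComplement p G := by
  have hW := KInfinity.isCharPFunctor_kInfLower (p := p)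
  refine FunctorControl.hasNormalPComplement_induction hW (fun X _ _ hX T hr hT => ?_) G
    (FunctorControl.IsSec.refl G) S (h.elim id (FunctorControl.hnpc_normalizer_of_centralizes S))
  exact hr.not_complement (PLocal.hnpc_of_normal_normalizer (FunctorControl.normal_of_pStable (G := X)
    (fun K R _ => FunctorControl.sections_stable_of_shape hp hr.shape K R) X (FunctorControl.IsSec.refl X)
    hr.centralizer_le T).1 hT)

end Cfsg.Agent.S1988
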