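import Cfsg.Statements.S1989
import Cfsg.Agent.Lib.PLocal.CharFunctor
import Cfsg.Agent.Lib.PLocal.QdConverse
import Cfsg.Agent.S1987
import Cfsg.Agent.S2795

set_option autoImplicit false
universe u
open Cfsg

namespace Cfsg.Agent.S1989

theorem family_of_controlsStrongFusion {X : Type u} [Group X] [Finite X] {p : ℕ} [Fact p.Prime]
    {W : ∀ (Q : Type u) [Group Q], Subgroup Q} (hW : Cfsg.IsCharPFunctor.{u} p W) (S : Sylow p X)
    (hc : Cfsg.ControlsStrongFusion p (Cfsg.inducedFunctor W (S : Subgroup X))) :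
    Cfsg.FamilyControlsStrongFusionIn p ((fun W => Cfsg.inducedFunctor (G := X) W) '' {W}) ⊤ := by
  obtain ⟨T, hUT, hT⟩ := hc
  have hS : (S : Subgroup X) ≤
      Subgroup.normalizer ((Cfsg.inducedFunctor W (S : Subgroup X) : Subgroup X) : Set X) := by
    haveI := PLocal.char_of_charPFunctor hW S.isPGroup'
    exact Subgroup.le_normalizer.trans (Cores.normalizer_le_normalizer_map (W ↥(S : Subgroup X)))
  set U := Cfsg.inducedFunctor W (S : Subgroup X)
  set N := Subgroup.normalizer (U : Set X) with hN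
  have hTN : (T : Subgroup X) ≤ N := Subgroup.le_normalizer_iff.2 fun t ht v hv => by
    obtain ⟨x, hx, he⟩ := (hT (U : Set X) hUT).2 t (by
      rintro _ ⟨a, ha, rfl⟩
      exact (T : Subgroup X).mul_mem ((T : Subgroup X).mul_mem ht (hUT ha)) ((T : Subgroup X).inv_mem ht))
    rw [he v hv]
    exact (Subgroup.mem_normalizer_iff.1 hx v).1 hv
  obtain ⟨g, hg⟩ := MulAction.exists_smul_eq ↥N (S.subtype hS) (T.subtype hTN)
  have hgT : (S : Subgroup X).map (MulAut.conj (g : X)).toMonoidHom = (T : Subgroup X) := by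
    have h1 : (((g • S.subtype hS : Sylow p ↥N)) : Subgroup ↥N).map N.subtype = (T : Subgroup X) := by
      rw [hg, Sylow.coe_subtype, Subgroup.map_subgroupOf_eq_of_le hTN]
    rw [Sylow.coe_subgroup_smul, Sylow.coe_subtype] at h1
    rw [← h1]
    conv_lhs => rw [← Subgroup.map_subgroupOf_eq_of_le hS]
    rw [Subgroup.map_map]
    ext z
    constructor <;> rintro ⟨y, hy, rfl⟩
    · exact ⟨g * y * g⁻¹, ⟨y, hy, rfl⟩, rfl⟩
    · obtain ⟨y, hy, rfl⟩ := hy
      exact ⟨y, hy, rfl⟩
  have hUT' : Cfsg.inducedFunctor W (T : Subgroup X) = U := by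
    rw [← hgT, FunctorControl.map_inducedFunctor hW (MulAut.conj (g : X)).toMonoidHom
      (MulAut.conj (g : X)).injective S.isPGroup']
    exact PLocal.mem_normalizer_iff_map_eq.1 g.2
  refine ⟨(T : Subgroup X), le_top, T.isPGroup', by rw [Subgroup.relIndex_top_right]; exact T.not_dvd_index,
    fun A h _ hA hAh => ?_⟩
  obtain ⟨x, hx, he⟩ := (hT A hA).2 h hAh
  refine ⟨1, ![1, x], rfl, fun i => ⟨_, ⟨W, rfl, rfl⟩, ?_⟩, fun i => ?_, fun a ha => (he a ha).symm⟩
  · show _ ∈ ⊤ ⊓ Subgroup.normalizer ((Cfsg.inducedFunctor W (T : Subgroup X) : Subgroup X) : Set X)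
    rw [hUT']
    obtain rfl : i = 0 := Subsingleton.elim i 0
    exact ⟨trivial, by simpa using hx⟩
  · rintro _ ⟨a, ha, rfl⟩
    match i with
    | 0 => simpa using hA ha
    | 1 =>
      show x * a * x⁻¹ ∈ (T : Subgroup X)
      rw [← he a ha]
      exact hAh ⟨a, ha, rfl⟩

/-- Let p be an odd prime and G a finite group. Then Qd(p) (the natural semidirect product of an elementary abelian group of order p² by SL₂(p)) is not involved in G if and only if, in every section K/R of G and for every Sylow p-subgroup T of K/R, the lower K-infinity subgroup of T controls strong fusion in K/R. -/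
theorem result {G : Type u} [Group G] [Finite G] {p : ℕ} [Fact p.Prime] (hp : p ≠ 2) : ¬ Cfsg.Involves ↥(Cfsg.qd p) G ↔ ∀ (K R : Subgroup G) [hR : (R.subgroupOf K).Normal], ∀ T : Sylow p (↥K ⧸ R.subgroupOf K), Cfsg.ControlsStrongFusion p (Cfsg.inducedFunctor (G := (↥K ⧸ R.subgroupOf K)) Cfsg.kInfLower (T : Subgroup (↥K ⧸ R.subgroupOf K))) := by
  constructor
  · intro hfree K R hR T
    refine Cfsg.Agent.S1987.result hp (fun K' R' _ => Cfsg.Agent.S2795.result hp |>.1 ?_ K' R') T
    exact fun h => hfree (Involves.involves_of_subgroup (N := K)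
      (Involves.involves_of_surjective _ (QuotientGroup.mk'_surjective _) h))
  · intro h hinv
    obtain ⟨K, R, hR, ⟨e⟩⟩ := hinv
    obtain ⟨T⟩ : Nonempty (Sylow p (↥K ⧸ R.subgroupOf K)) := Sylow.nonempty
    exact PLocal.not_familyControls_qd e
      (fun W hW => (Set.mem_singleton_iff.1 hW) ▸ KInfinity.isCharPFunctor_kInfLower p)
      (family_of_controlsStrongFusion (KInfinity.isCharPFunctor_kInfLower p) T (h K R T))

end Cfsg.Agent.S1989
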