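import Cfsg.Statements.S1992
import Cfsg.Agent.S1991
import Cfsg.Agent.Lib.CharApp.Burnside
import Cfsg.Agent.EqLemmas

set_option autoImplicit false
open Cfsg
open scoped commutatorElement

namespace Cfsg.Agent.S1992

/-- Let G be a finite group in which, for every prime q dividing the order of G, every Sylow q-subgroup is its own normalizer. Then the order of G is a power of a single prime (G is a q-group for some prime q; for G trivial any prime works). -/
theorem result {G : Type*} [Group G] [Finite G] (h : ∀ q : ℕ, q.Prime → q ∣ Nat.card G → ∀ Q : Sylow q G, Subgroup.normalizer ((Q : Subgroup G) : Set G) = Q) : ∃ q : ℕ, q.Prime ∧ IsPGroup q G := by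
  rcases subsingleton_or_nontrivial G with hs | hnt
  · exact ⟨2, Nat.prime_two, fun g => ⟨0, Subsingleton.elim _ _⟩⟩
  have hG : 1 < Nat.card G := Finite.one_lt_card
  -- a normal subgroup of prime index leaves no room for a second prime
  suffices key : ∃ q : ℕ, q.Prime ∧ ∃ N : Subgroup G, N.Normal ∧ N.index = q by
    obtain ⟨q, hq, N, hN, hNi⟩ := key
    haveI := hN
    haveI := Fact.mk hq
    refine ⟨q, hq, ?_⟩
    by_contra hG'
    obtain ⟨r, hr, hrd, hrq⟩ : ∃ r : ℕ, r.Prime ∧ r ∣ Nat.card G ∧ r ≠ q := by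
      by_contra hno
      push Not at hno
      obtain ⟨k, hk⟩ : ∃ k, Nat.card G = q ^ k :=
        ⟨_, Nat.eq_prime_pow_of_unique_prime_dvd Nat.card_pos.ne' fun {d} hd hdvd => hno d hd hdvd⟩
      exact hG' (IsPGroup.of_card hk)
    haveI := Fact.mk hr
    obtain ⟨Q⟩ : Nonempty (Sylow r G) := Sylow.nonempty
    have hQN : (Q : Subgroup G) ≤ N := by
      intro x hx
      rw [← QuotientGroup.eq_one_iff]
      obtain ⟨k, hk⟩ := IsPGroup.iff_orderOf.1 Q.isPGroup' ⟨x, hx⟩
      rw [Subgroup.orderOf_mk] at hk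
      refine orderOf_eq_one_iff.1 (Nat.eq_one_of_dvd_coprimes (a := r ^ k) (b := q) ?_ ?_ ?_)
      · exact ((Nat.coprime_primes hr hq).2 hrq).pow_left k
      · exact hk ▸ orderOf_map_dvd (QuotientGroup.mk' N) x
      · rw [← hNi, Subgroup.index_eq_card]
        exact orderOf_dvd_natCard _
    have h1 : N = ⊤ := by
      have h0 : Subgroup.normalizer ((Q : Subgroup G) : Set G) ⊔ N = ⊤ := Sylow.normalizer_sup_eq_top' Q hQN
      rwa [h r hr hrd Q, sup_eq_right.2 hQN] at h0
    rw [h1, Subgroup.index_top] at hNi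
    exact hq.one_lt.ne hNi
  by_cases hbig : ∃ q : ℕ, q.Prime ∧ q ∣ Nat.card G ∧ 5 ≤ q
  · obtain ⟨q, hq, hqd, hq5⟩ := hbig
    haveI := Fact.mk hq
    obtain ⟨Q⟩ : Nonempty (Sylow q G) := Sylow.nonempty
    refine ⟨q, hq, Cfsg.Agent.S1991.result hq5 Q (fun e => ?_) fun g hg hgo => ?_⟩
    · have h1 := Q.not_dvd_index
      rw [e, Subgroup.index_bot] at h1
      exact h1 hqd
    · rw [h q hq hqd Q] at hg
      obtain ⟨k, hk⟩ := IsPGroup.iff_orderOf.1 Q.isPGroup' ⟨g, hg⟩
      rw [Subgroup.orderOf_mk] at hk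
      have hg1 : g = 1 := orderOf_eq_one_iff.1
        (Nat.eq_one_of_dvd_coprimes (hgo.pow_right k) dvd_rfl hk.dvd)
      rw [hg1]
      exact one_mem _
  push Not at hbig
  have hprimes : ∀ d : ℕ, d.Prime → d ∣ Nat.card G → d = 2 ∨ d = 3 := fun d hd hdvd => by
    have h5 := hbig d hd hdvd
    have h2 := hd.two_le
    interval_cases d
    · exact Or.inl rfl
    · exact Or.inr rfl
    · exact absurd hd (by decide)
  obtain ⟨a, m, hm, ha⟩ := Nat.exists_eq_pow_mul_and_not_dvd (Nat.card_pos (α := G)).ne' 2 (by decide)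
  have hb : ∃ b, m = 3 ^ b := ⟨_, Nat.eq_prime_pow_of_unique_prime_dvd
    (by rintro rfl; exact hm (dvd_zero 2)) fun {d} hd hdvd =>
    (hprimes d hd (ha ▸ Dvd.dvd.mul_left hdvd _)).resolve_left fun e => hm (e ▸ hdvd)⟩
  obtain ⟨b, rfl⟩ := hb
  haveI : Group.IsSolvable G :=
    CharApp.isSolvable_of_card_eq_prime_pow_mul 2 3 Nat.prime_two Nat.prime_three _ G ha a b rfl
  have hlt : commutator G < ⊤ := IsSolvable.commutator_lt_top_of_nontrivial G
  have hA : Nat.card (Abelianization G) ≠ 1 := fun e => hlt.ne (Subgroup.index_eq_one.1 e)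
  obtain ⟨q, hq, hqd⟩ := Nat.exists_prime_and_dvd hA
  haveI := Fact.mk hq
  exact ⟨q, hq, FunctorControl.exists_index_of_dvd_abelianization hqd⟩


end Cfsg.Agent.S1992
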