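import Cfsg.Statements.S1993
import Cfsg.Agent.Lib.FunctorControl.FusionApps
import Cfsg.Agent.S1983
import Cfsg.Agent.Lib.FunctorControl.Transfer
import Cfsg.Agent.EqLemmas

set_option autoImplicit false
universe u
open Cfsg
open scoped commutatorElement
open scoped commutatorElement

namespace Cfsg.Agent.S1993

/-- Let p be a prime, G a finite group with Sylow p-subgroup S, and K the upper K-infinity subgroup of S. If p ≥ 5 then S ∩ G' = S ∩ (N_G(K))'; and if p is odd and every section of G is p-stable in the normalizer form, then K controls strong fusion in G. -/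
theorem result {G : Type u} [Group G] [Finite G] {p : ℕ} [Fact p.Prime] (S : Sylow p G) : (5 ≤ p → (S : Subgroup G) ⊓ commutator G = (S : Subgroup G) ⊓ ⁅Subgroup.normalizer ((Cfsg.inducedFunctor Cfsg.kInfUpper (S : Subgroup G) : Subgroup G) : Set G), Subgroup.normalizer ((Cfsg.inducedFunctor Cfsg.kInfUpper (S : Subgroup G) : Subgroup G) : Set G)⁆) ∧ (p ≠ 2 → (∀ (K R : Subgroup G) [hR : (R.subgroupOf K).Normal], Cfsg.IsNormalizerPStable p (↥K ⧸ R.subgroupOf K)) → Cfsg.ControlsStrongFusion p (Cfsg.inducedFunctor Cfsg.kInfUpper (S : Subgroup G))) := by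
  refine ⟨fun hp => ?_, ?_⟩
  · refine FunctorControl.commutator_inf_eq (KInfinity.isCharPFunctor_kInfUpper p) ?_ S
    refine FunctorControl.controlsTransfer_of_engel (KInfinity.isCharPFunctor_kInfUpper p)
      (fun X _ _ _ _ S' hn => ?_) G (FunctorControl.IsSec.refl G)
    obtain ⟨g, hgS, hgQ, hg, -, -⟩ := Cfsg.Agent.S1983.result S' (Or.inr hn)
    exact ⟨g, hgS, hgQ, fun U V hUV hU => by
      haveI := hUV.2.2.1
      exact KInfinity.iterCommutator_le_of_le (by omega) (hg U V hUV hU)⟩
  · intro _ hst
    exact FunctorControl.controlsFusion_of_normal (KInfinity.isCharPFunctor_kInfUpper p)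
      (fun X _ _ hX hC T => (FunctorControl.normal_of_pStable hst X hX hC T).2) G (FunctorControl.IsSec.refl G) S


end Cfsg.Agent.S1993
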