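import Cfsg.Statements.S1996
import Cfsg.Agent.Lib.FunctorControl.Fusion
import Cfsg.Agent.EqLemmas

set_option autoImplicit false
universe u
open Cfsg
open scoped commutatorElement

namespace Cfsg.Agent.S1996

/-- Let p be a prime, G a finite group and W₁, W₂ two isomorphism-invariant p-group functors (W assigns to every group Q a subgroup W(Q), nontrivial whenever Q is a nontrivial finite p-group, and every isomorphism from a finite p-group Q onto a group R carries W(Q) onto W(R)). Suppose that G* = N_{G*}(W₁(S*)) N_{G*}(W₂(S*)) whenever G* = K/R is a section of G with C_{G*}(O_p(G*)) ≤ O_p(G*) and S* is a Sylow p-subgroup of G*. Then the pair {W₁, W₂} controls strong fusion in G. -/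
theorem result {G : Type u} [Group G] [Finite G] {p : ℕ} [Fact p.Prime] (W₁ W₂ : ∀ (Q : Type u) [Group Q], Subgroup Q) (hW₁ : Cfsg.IsCharPFunctor.{u} p W₁) (hW₂ : Cfsg.IsCharPFunctor.{u} p W₂) (hfac : ∀ (K R : Subgroup G) [hR : (R.subgroupOf K).Normal], Subgroup.centralizer ((Cfsg.pCore p (↥K ⧸ R.subgroupOf K) : Subgroup (↥K ⧸ R.subgroupOf K)) : Set (↥K ⧸ R.subgroupOf K)) ≤ Cfsg.pCore p (↥K ⧸ R.subgroupOf K) → ∀ T : Sylow p (↥K ⧸ R.subgroupOf K), ∀ x : (↥K ⧸ R.subgroupOf K), ∃ a ∈ Subgroup.normalizer ((Cfsg.inducedFunctor (G := (↥K ⧸ R.subgroupOf K)) W₁ (T : Subgroup (↥K ⧸ R.subgroupOf K)) : Subgroup (↥K ⧸ R.subgroupOf K)) : Set (↥K ⧸ R.subgroupOf K)), ∃ b ∈ Subgroup.normalizer ((Cfsg.inducedFunctor (G := (↥K ⧸ R.subgroupOf K)) W₂ (T : Subgroup (↥K ⧸ R.subgroupOf K)) : Subgroup (↥K ⧸ R.subgroupOf K)) : Set (↥K ⧸ R.subgroupOf K)), x = a * b) : Cfsg.FamilyControlsStrongFusionIn p {Cfsg.inducedFunctor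 (G := G) W₁, Cfsg.inducedFunctor (G := G) W₂} ⊤ := by
  have h𝓦 : ∀ W ∈ ({W₁, W₂} : Set (∀ (Q : Type u) [Group Q], Subgroup Q)), Cfsg.IsCharPFunctor.{u} p W := by
    rintro W (rfl | rfl)
    · exact hW₁
    · exact hW₂
  rw [← Set.image_pair (fun W : (∀ (Q : Type u) [Group Q], Subgroup Q) => Cfsg.inducedFunctor (G := G) W)]
  refine FunctorControl.controlsFusion_induction (G := G) h𝓦 (fun X _ _ hX S h => h.fail ?_) G (FunctorControl.IsSec.refl G)
  obtain ⟨K, R, hR, ⟨e⟩⟩ := hX.exists_equiv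
  refine FunctorControl.familyControlsStrongFusionIn_equiv e h𝓦 ?_
  obtain ⟨T⟩ : Nonempty (Sylow p (↥K ⧸ R.subgroupOf K)) := Sylow.nonempty
  have hfac' := hfac K R (CharP.charP_of_equiv e.symm h.charP) T
  refine FunctorControl.controlsFusion_of_reach T fun A g hA hgA => ?_
  obtain ⟨a, ha, b, hb, rfl⟩ := hfac' g
  set N₁ := Subgroup.normalizer ((Cfsg.inducedFunctor W₁ (T : Subgroup (↥K ⧸ R.subgroupOf K)) : Subgroup (↥K ⧸ R.subgroupOf K)) : Set (↥K ⧸ R.subgroupOf K))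
  set N₂ := Subgroup.normalizer ((Cfsg.inducedFunctor W₂ (T : Subgroup (↥K ⧸ R.subgroupOf K)) : Subgroup (↥K ⧸ R.subgroupOf K)) : Set (↥K ⧸ R.subgroupOf K))
  have hT₁ : (T : Subgroup (↥K ⧸ R.subgroupOf K)) ≤ N₁ :=
    AlperinFamily.le_normalizer_functor (FunctorControl.isConjugacyFunctor_induced hW₁) T.isPGroup'
  have hT₂ : (T : Subgroup (↥K ⧸ R.subgroupOf K)) ≤ N₂ :=
    AlperinFamily.le_normalizer_functor (FunctorControl.isConjugacyFunctor_induced hW₂) T.isPGroup'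
  set P := Subgroup.closure ((fun x => b * x * b⁻¹) '' A) with hP
  have hPp : IsPGroup p P := (T.isPGroup'.map (MulAut.conj b).toMonoidHom).to_le (by
    rw [hP, Subgroup.closure_le]
    rintro _ ⟨x, hx, rfl⟩
    exact ⟨x, hA hx, rfl⟩)
  have hPN : P ≤ N₁ ⊓ N₂ := by
    rw [hP, Subgroup.closure_le]
    rintro _ ⟨x, hx, rfl⟩
    refine ⟨?_, N₂.mul_mem (N₂.mul_mem hb (hT₂ (hA hx))) (N₂.inv_mem hb)⟩
    have := N₁.mul_mem (N₁.mul_mem (N₁.inv_mem ha) (hT₁ (hgA ⟨x, hx, rfl⟩))) ha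
    show b * x * b⁻¹ ∈ N₁
    rwa [show a⁻¹ * (a * b * x * (a * b)⁻¹) * a = b * x * b⁻¹ by group] at this
  have hsy : Fusion.IsSylowIn p (T : Subgroup (↥K ⧸ R.subgroupOf K)) (N₁ ⊓ N₂) :=
    ⟨le_inf hT₁ hT₂, T.isPGroup', fun C h1 _ h3 => T.is_maximal' h3 h1⟩
  obtain ⟨k, hk, hkT⟩ := hsy.exists_conj_le hPp hPN
  refine ⟨(a * k⁻¹) * (k * b), ?_, fun x _ => by group⟩
  have h1 : (fun x => k * b * x * (k * b)⁻¹) '' A ⊆ (T : Subgroup (↥K ⧸ R.subgroupOf K)) := by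
    rintro _ ⟨x, hx, rfl⟩
    have := hkT _ (Subgroup.subset_closure ⟨x, hx, rfl⟩)
    simp only [SetLike.mem_coe]
    convert this using 1
    group
  refine AlperinFamily.Moves.step _ ?_ ⟨W₁, Or.inl rfl, N₁.mul_mem ha (N₁.inv_mem hk.1)⟩ ?_
  · have := AlperinFamily.Moves.step (L := FunctorControl.fusionMoves {W₁, W₂} (T : Subgroup (↥K ⧸ R.subgroupOf K)))
      (k * b) (AlperinFamily.Moves.refl hA) ⟨W₂, Or.inr rfl, N₂.mul_mem hk.2 hb⟩ (by rw [mul_one]; exact h1)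
    rwa [mul_one] at this
  · rintro _ ⟨x, hx, rfl⟩
    have := hgA ⟨x, hx, rfl⟩
    simp only [SetLike.mem_coe] at this ⊢
    convert this using 1
    group


end Cfsg.Agent.S1996
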