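import Cfsg.Statements.S1997
import Cfsg.Agent.S1996
import Cfsg.Agent.Lib.FunctorControl.Sections
import Cfsg.Agent.Lib.Transfer.Alperin
import Cfsg.Agent.Lib.PLocal.Omega
import Cfsg.Agent.Lib.PLocal.Quotient
import Cfsg.Agent.Lib.Transfer.Centric

set_option autoImplicit false
universe u
open Cfsg
open scoped commutatorElement

namespace Cfsg.Agent.S1997

variable {G : Type u} [Group G] [Finite G] {p : ℕ} [Fact p.Prime]

/-- In `N(W)`, conjugation of the central elements of order `p` is realised in `N(W) ∩ N(W')`. -/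
theorem exists_common_normalizer (S : Sylow p G) {W W' : ∀ (Q : Type u) [Group Q], Subgroup Q}
    (hW : Cfsg.IsCharPFunctor.{u} p W) (hW' : Cfsg.IsCharPFunctor.{u} p W')
    (hf : ∀ (L K : Subgroup G) [hK : (K.subgroupOf L).Normal],
      Subgroup.centralizer ((Cfsg.pCore p (↥L ⧸ K.subgroupOf L) : Subgroup (↥L ⧸ K.subgroupOf L)) :
          Set (↥L ⧸ K.subgroupOf L)) ≤ Cfsg.pCore p (↥L ⧸ K.subgroupOf L) →
      ∀ T : Sylow p (↥L ⧸ K.subgroupOf L), ∀ x : (↥L ⧸ K.subgroupOf L),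
        ∃ a ∈ Subgroup.centralizer ((Cfsg.omegaOne p ((T : Subgroup (↥L ⧸ K.subgroupOf L)) ⊓
            Subgroup.centralizer ((T : Subgroup (↥L ⧸ K.subgroupOf L)) : Set (↥L ⧸ K.subgroupOf L))) :
              Subgroup (↥L ⧸ K.subgroupOf L)) : Set (↥L ⧸ K.subgroupOf L)),
        ∃ b ∈ Subgroup.normalizer ((Cfsg.inducedFunctor W' (T : Subgroup (↥L ⧸ K.subgroupOf L)) :
            Subgroup (↥L ⧸ K.subgroupOf L)) : Set (↥L ⧸ K.subgroupOf L)), x = a * b)
    {Z : Subgroup G} (hZS : Z ≤ (S : Subgroup G)) (hZC : Z ≤ Subgroup.centralizer ((S : Subgroup G) : Set G))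
    (hZp : ∀ z ∈ Z, z ^ p = 1) (hZW : Z ≤ Cfsg.inducedFunctor W (S : Subgroup G))
    {x : G} (hx : x ∈ Subgroup.normalizer ((Cfsg.inducedFunctor W (S : Subgroup G) : Subgroup G) : Set G)) :
    ∃ m ∈ Subgroup.normalizer ((Cfsg.inducedFunctor W (S : Subgroup G) : Subgroup G) : Set G) ⊓
        Subgroup.normalizer ((Cfsg.inducedFunctor W' (S : Subgroup G) : Subgroup G) : Set G),
      ∀ z ∈ Z, x * z * x⁻¹ = m * z * m⁻¹ := by
  classical
  set W1 := Cfsg.inducedFunctor W (S : Subgroup G) with hW1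
  set N := Subgroup.normalizer (W1 : Set G) with hN
  have hSN : (S : Subgroup G) ≤ N :=
    AlperinFamily.le_normalizer_functor (FunctorControl.isConjugacyFunctor_induced hW) S.isPGroup'
  have hW1S : W1 ≤ (S : Subgroup G) := FunctorControl.inducedFunctor_le W _
  set C := (Subgroup.centralizer (W1 : Set G)).subgroupOf N with hC
  haveI : C.Normal := by
    rw [show C = W1.normalizerMonoidHom.ker from (Subgroup.normalizerMonoidHom_ker W1).symm]
    infer_instance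
  set D := (S : Subgroup G) ⊓ Subgroup.centralizer (W1 : Set G) with hD
  set SN := (S : Subgroup G).subgroupOf N
  have hSNi : ¬ p ∣ SN.index := fun h => S.not_dvd_index
    (h.trans (Subgroup.relIndex_dvd_index_of_le hSN))
  let T : Sylow p C := ((S.isPGroup'.comap_subtype (K := N)).comap_subtype (K := C) :
    IsPGroup p (SN.subgroupOf C)).toSylow (Transfer.not_dvd_relIndex_inf hSNi)
  obtain ⟨u, hu, c, hc, huc⟩ := Subgroup.mem_sup_of_normal_right.1
    ((Sylow.normalizer_sup_eq_top T).ge (Subgroup.mem_top (⟨x, hx⟩ : N)))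
  have hZc : ∀ z ∈ Z, x * z * x⁻¹ = (u : G) * z * (u : G)⁻¹ := by
    intro z hz
    have h1 : z * (c : G) = c * z := Subgroup.mem_centralizer_iff.1 hc z (hZW hz)
    rw [show x = (u : G) * c from (congrArg Subtype.val huc).symm,
      show (u : G) * c * z * ((u : G) * c)⁻¹ = u * (c * z) * (c : G)⁻¹ * (u : G)⁻¹ by group, ← h1]
    group
  have huD : (u : G) ∈ Subgroup.normalizer (D : Set G) := by
    refine PLocal.mem_normalizer_iff_map_eq.2 (Subgroup.eq_of_le_of_card_ge ?_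
      (Subgroup.card_map_of_injective (MulAut.conj (u : G)).injective).ge)
    rintro _ ⟨d, hd, rfl⟩
    have h1 : (⟨d, hSN hd.1⟩ : N) ∈ (T : Subgroup C).map C.subtype := ⟨⟨⟨d, hSN hd.1⟩, hd.2⟩, hd.1, rfl⟩
    obtain ⟨z, hz, he⟩ := (Subgroup.mem_normalizer_iff.1 hu _).1 h1
    have he' : ((z : N) : G) = (u : G) * d * (u : G)⁻¹ := congrArg Subtype.val he
    show (u : G) * d * (u : G)⁻¹ ∈ D
    rw [← he']
    exact ⟨hz, z.2⟩
  -- the constrained group
  set L := N ⊓ Subgroup.normalizer (D : Set G) with hL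
  have hSD : (S : Subgroup G) ≤ Subgroup.normalizer (D : Set G) := Subgroup.le_normalizer_iff.2 fun s hs d hd =>
    ⟨(S : Subgroup G).mul_mem ((S : Subgroup G).mul_mem hs hd.1) ((S : Subgroup G).inv_mem hs),
      (Subgroup.mem_normalizer_iff.1 (PLocal.normalizer_le_normalizer_centralizer W1 (hSN hs)) d).1 hd.2⟩
  have hSL : (S : Subgroup G) ≤ L := le_inf hSN hSD
  have huL : (u : G) ∈ L := ⟨u.2, huD⟩
  set Q := W1 ⊔ D with hQ
  have hQS : Q ≤ (S : Subgroup G) := sup_le hW1S inf_le_left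
  set Q' := Q.subgroupOf L
  haveI hQ'n : Q'.Normal := by
    refine Subgroup.normalizer_eq_top_iff.1 (top_le_iff.1 fun v _ => ?_)
    have hv : (v : G) ∈ Subgroup.normalizer (Q : Set G) := by
      refine PLocal.mem_normalizer_iff_map_eq.2 ?_
      rw [hQ, Subgroup.map_sup, PLocal.mem_normalizer_iff_map_eq.1 v.2.1, PLocal.mem_normalizer_iff_map_eq.1 v.2.2]
    exact Subgroup.mem_normalizer_iff.2 fun z => Subgroup.mem_normalizer_iff.1 hv (z : G)
  have hQ'p : IsPGroup p Q' := (S.isPGroup'.to_le hQS).comap_subtype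
  set K := (Cfsg.pPrimeCore p L).map L.subtype with hK
  have hKeq : K.subgroupOf L = Cfsg.pPrimeCore p L :=
    Subgroup.comap_map_eq_self_of_injective L.subtype_injective _
  haveI hKn : (K.subgroupOf L).Normal := hKeq.symm ▸ Cores.pPrimeCore_normal p L
  have hKcop : (Nat.card (K.subgroupOf L)).Coprime p := hKeq.symm ▸ Cores.coprime_card_pPrimeCore p
  set f := QuotientGroup.mk' (K.subgroupOf L) with hfdef
  have hfs : Function.Surjective f := QuotientGroup.mk'_surjective _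
  have hker : ¬ p ∣ Nat.card f.ker := by
    rw [hfdef, QuotientGroup.ker_mk']
    exact (Fact.out : p.Prime).coprime_iff_not_dvd.1 hKcop.symm
  let SL : Sylow p L := S.subtype hSL
  have hSLc : (SL : Subgroup L) = (S : Subgroup G).subgroupOf L := rfl
  let T' : Sylow p (↥L ⧸ K.subgroupOf L) := SL.mapSurjective hfs
  have hT' : (T' : Subgroup (↥L ⧸ K.subgroupOf L)) = (SL : Subgroup L).map f := Sylow.coe_mapSurjective _ SL
  -- a `p`-element modulo `K` in `S` is trivial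
  have htriv : ∀ v : L, (v : G) ∈ (S : Subgroup G) → f v = 1 → v = 1 := by
    intro v hv h1
    have h2 : v ∈ (SL : Subgroup L) ⊓ f.ker := ⟨hv, h1⟩
    rwa [FunctorControl.inf_eq_bot_of_coprime SL.isPGroup' hker, Subgroup.mem_bot] at h2
  -- constrained
  have hcon : Subgroup.centralizer ((Cfsg.pCore p (↥L ⧸ K.subgroupOf L) : Subgroup _) : Set (↥L ⧸ K.subgroupOf L)) ≤
      Cfsg.pCore p (↥L ⧸ K.subgroupOf L) := by
    have hQf : Q'.map f ≤ Cfsg.pCore p (↥L ⧸ K.subgroupOf L) :=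
      Cores.le_pCore (hQ'n.map f hfs) (hQ'p.map f)
    intro y hy
    obtain ⟨v, rfl⟩ := hfs y
    set Cq := Subgroup.centralizer (Q' : Set L)
    haveI : Cq.Normal := Subgroup.normal_centralizer
    have hv : v ∈ Cq := by
      refine Subgroup.mem_centralizer_iff.2 fun q hq => ?_
      have h1 := Subgroup.mem_centralizer_iff.1 hy _ (hQf ⟨q, hq, rfl⟩)
      have hcm : ⁅q, v⁆ ∈ Q' := by
        rw [commutatorElement_def, mul_assoc, mul_assoc, ← mul_assoc v]
        exact Q'.mul_mem hq (hQ'n.conj_mem _ (Q'.inv_mem hq) v)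
      have h2 : f ⁅q, v⁆ = 1 := by rw [map_commutatorElement, commutatorElement_eq_one_iff_mul_comm]; exact h1
      exact commutatorElement_eq_one_iff_mul_comm.1 (htriv _ (hQS hcm) h2)
    have hSCi : ¬ p ∣ ((SL : Subgroup L).subgroupOf Cq).index := Transfer.not_dvd_relIndex_inf SL.not_dvd_index
    let TC : Sylow p Cq := ((SL.isPGroup'.comap_subtype (K := Cq)) :
      IsPGroup p ((SL : Subgroup L).subgroupOf Cq)).toSylow hSCi
    have hTQ : ∀ r : Cq, r ∈ (TC : Subgroup Cq) → (r : L) ∈ Q' := by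
      intro r hr
      refine Subgroup.mem_sup_right (S := W1) ⟨hr, Subgroup.mem_centralizer_iff.2 fun w hw => ?_⟩
      exact congrArg Subtype.val (Subgroup.mem_centralizer_iff.1 r.2 ⟨w, hSL (hW1S hw)⟩
        (Subgroup.mem_sup_left (T := D) hw : w ∈ Q))
    have hnpc : Cfsg.HasNormalPComplement p Cq := by
      refine Transfer.hasNormalPComplement_of_local TC fun R hR _ n _ _ =>
        Subgroup.mem_centralizer_iff.2 fun r hr => Subtype.ext ?_
      exact Subgroup.mem_centralizer_iff.1 n.2 r (hTQ r (hR.1 hr))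
    have hres : (Cfsg.pResidual p Cq).map Cq.subtype ≤ Cfsg.pPrimeCore p L := by
      haveI := Transfer.pResidual_normal (G := Cq) (p := p)
      refine Cores.le_pPrimeCore (Cores.map_subtype_normal_of_characteristic Cq _) ?_
      rw [Subgroup.card_map_of_injective Cq.subtype_injective]
      exact Transfer.hasNormalPComplement_iff_coprime.1 hnpc
    haveI := Transfer.pResidual_normal (G := Cq) (p := p)
    obtain ⟨a, ha, b, hb, hab⟩ := Subgroup.mem_sup_of_normal_right.1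
      ((Transfer.sup_pResidual_eq_top (p := p) TC.not_dvd_index).ge (Subgroup.mem_top (⟨v, hv⟩ : Cq)))
    have hfb : f (b : L) = 1 := (QuotientGroup.eq_one_iff _).2 (hKeq.symm ▸ hres ⟨b, hb, rfl⟩)
    rw [show v = (a : L) * b from (congrArg Subtype.val hab).symm, map_mul, hfb, mul_one]
    exact hQf ⟨_, hTQ a ha, rfl⟩
  obtain ⟨a₀, ha₀, b₀, hb₀, hab⟩ := hf L K hcon T' (f ⟨(u : G)⁻¹, L.inv_mem huL⟩)
  obtain ⟨a, rfl⟩ := hfs a₀
  rw [hT', FunctorControl.map_inducedFunctor_of_coprime hW' f hker SL.isPGroup',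
    ← FunctorControl.map_normalizer_of_coprime f hfs hker
      (SL.isPGroup'.to_le (FunctorControl.inducedFunctor_le W' _))] at hb₀
  obtain ⟨b, hb, rfl⟩ := hb₀
  have hbN : (b : G) ∈ Subgroup.normalizer ((Cfsg.inducedFunctor W' (S : Subgroup G) : Subgroup G) : Set G) := by
    have hmap : (Cfsg.inducedFunctor W' (SL : Subgroup L)).map L.subtype = Cfsg.inducedFunctor W' (S : Subgroup G) := by
      rw [← FunctorControl.map_inducedFunctor hW' L.subtype L.subtype_injective SL.isPGroup', hSLc,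
        Subgroup.map_subgroupOf_eq_of_le hSL]
    rw [← hmap]
    exact Subgroup.le_normalizer_map L.subtype ⟨b, hb, rfl⟩
  refine ⟨(b : G)⁻¹, ⟨N.inv_mem b.2.1, Subgroup.inv_mem _ hbN⟩, fun z hz => ?_⟩
  set zL : L := ⟨z, hSL (hZS hz)⟩
  have hza : zL * a = a * zL := by
    refine commutatorElement_eq_one_iff_mul_comm.1 (htriv _ (hW1S ?_) ?_)
    · show z * (a : G) * z⁻¹ * (a : G)⁻¹ ∈ W1
      rw [mul_assoc, mul_assoc, ← mul_assoc (a : G)]
      exact W1.mul_mem (hZW hz) ((Subgroup.mem_normalizer_iff.1 a.2.1 _).1 (W1.inv_mem (hZW hz)))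
    · rw [map_commutatorElement, commutatorElement_eq_one_iff_mul_comm]
      refine Subgroup.mem_centralizer_iff.1 ha₀ _ (PLocal.mem_omegaOne ?_ ?_)
      · rw [hT']
        refine ⟨⟨zL, hZS hz, rfl⟩, Subgroup.mem_centralizer_iff.2 ?_⟩
        rintro _ ⟨s, hs, rfl⟩
        rw [← map_mul, ← map_mul]
        exact congrArg f (Subtype.ext (Subgroup.mem_centralizer_iff.1 (hZC hz) s hs))
      · rw [← map_pow, show zL ^ p = 1 from Subtype.ext (hZp z hz), map_one]
  -- `u⁻¹ = a * b * k`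
  have hk : f ((a * b)⁻¹ * ⟨(u : G)⁻¹, L.inv_mem huL⟩) = 1 := by rw [map_mul, map_inv, map_mul, ← hab, inv_mul_cancel]
  set k : L := (a * b)⁻¹ * ⟨(u : G)⁻¹, L.inv_mem huL⟩ with hkdef
  have huk : (⟨(u : G), huL⟩ : L) = k⁻¹ * b⁻¹ * a⁻¹ := by
    rw [hkdef, mul_inv_rev, inv_inv]
    refine Subtype.ext ?_
    simp [mul_assoc]
  have hw : (b : G)⁻¹ * z * b ∈ (S : Subgroup G) := by
    refine hW1S ?_
    have := (Subgroup.mem_normalizer_iff.1 (N.inv_mem b.2.1) z).1 (hZW hz)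
    simpa using this
  have hkc : k * (b⁻¹ * zL * b) = (b⁻¹ * zL * b) * k := by
    refine commutatorElement_eq_one_iff_mul_comm.1 (htriv _ (hW1S ?_) ?_)
    · show (k : G) * ((b : G)⁻¹ * z * b) * (k : G)⁻¹ * ((b : G)⁻¹ * z * b)⁻¹ ∈ W1
      have hbz : (b : G)⁻¹ * z * b ∈ W1 := by
        have := (Subgroup.mem_normalizer_iff.1 (N.inv_mem b.2.1) z).1 (hZW hz)
        simpa using this
      exact W1.mul_mem ((Subgroup.mem_normalizer_iff.1 k.2.1 _).1 hbz) (W1.inv_mem hbz)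
    · rw [map_commutatorElement, hk, commutatorElement_one_left]
  rw [hZc z hz]
  have h1 : (⟨(u : G), huL⟩ : L) * zL * (⟨(u : G), huL⟩ : L)⁻¹ = b⁻¹ * zL * b⁻¹⁻¹ := by
    rw [huk, show k⁻¹ * b⁻¹ * a⁻¹ * zL * (k⁻¹ * b⁻¹ * a⁻¹)⁻¹ = k⁻¹ * b⁻¹ * a⁻¹ * (zL * a) * b * k by group, hza,
      show k⁻¹ * b⁻¹ * a⁻¹ * (a * zL) * b * k = k⁻¹ * ((b⁻¹ * zL * b) * k) by group, ← hkc]
    group
  exact congrArg Subtype.val h1

/-- Let p be a prime, G a finite group with Sylow p-subgroup S, and W₁, W₂ two isomorphism-invariant p-group functors (W assigns to every group Q a subgroup W(Q), nontrivial whenever Q is a nontrivial finite p-group, and every isomorphism from a finite p-group Q onto a group R carries W(Q) onto W(R)). Suppose that G* = C_{G*}(Ω₁Z(S*)) N_{G*}(W₁(S*)) = C_{G*}(Ω₁Z(S*)) N_{G*}(W₂(S*)) = N_{G*}(W₁(S*)) N_{G*}(W₂(S*)) whenever G* = K/R is a section of G with C_{G*}(O_p(G*)) ≤ O_p(G*) and S* is a Sylow p-subgroup of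 G*, where Ω₁Z denotes the subgroup generated by the elements of order dividing p in the centre. Suppose also Ω₁Z(S) ≤ W₁(S) ∩ W₂(S), and let A be the normal closure of Ω₁Z(S) in N_G(W₁(S)). Then A is an elementary abelian subgroup of S, strongly closed in S with respect to G, and A controls strong fusion in G. -/
theorem result {G : Type u} [Group G] [Finite G] {p : ℕ} [Fact p.Prime] (S : Sylow p G) (W₁ W₂ : ∀ (Q : Type u) [Group Q], Subgroup Q) (hW₁ : Cfsg.IsCharPFunctor.{u} p W₁) (hW₂ : Cfsg.IsCharPFunctor.{u} p W₂) (hfac : ∀ (K R : Subgroup G) [hR : (R.subgroupOf K).Normal], Subgroup.centralizer ((Cfsg.pCore p (↥K ⧸ R.subgroupOf K) : Subgroup (↥K ⧸ R.subgroupOf K)) : Set (↥K ⧸ R.subgroupOf K)) ≤ Cfsg.pCore p (↥K ⧸ R.subgroupOf K) → ∀ T : Sylow p (↥K ⧸ R.subgroupOf K), (∀ x : (↥K ⧸ R.subgroupOf K), ∃ a ∈ Subgroup.centralizer ((Cfsg.omegaOne p ((T : Subgroup (↥K ⧸ R.subgroupOf K)) ⊓ Subgroup.centralizer (((T : Subgroup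 (↥K ⧸ R.subgroupOf K)) : Subgroup (↥K ⧸ R.subgroupOf K)) : Set (↥K ⧸ R.subgroupOf K))) : Subgroup (↥K ⧸ R.subgroupOf K)) : Set (↥K ⧸ R.subgroupOf K)), ∃ b ∈ Subgroup.normalizer ((Cfsg.inducedFunctor (G := (↥K ⧸ R.subgroupOf K)) W₁ (T : Subgroup (↥K ⧸ R.subgroupOf K)) : Subgroup (↥K ⧸ R.subgroupOf K)) : Set (↥K ⧸ R.subgroupOf K)), x = a * b) ∧ (∀ x : (↥K ⧸ R.subgroupOf K), ∃ a ∈ Subgroup.centralizer ((Cfsg.omegaOne p ((T : Subgroup (↥K ⧸ R.subgroupOf K)) ⊓ Subgroup.centralizer (((T : Subgroup (↥K ⧸ R.subgroupOf K)) : Subgroup (↥K ⧸ R.subgroupOf K)) : Set (↥K ⧸ R.subgroupOf K))) : Subgroup (↥K ⧸ R.subgroupOf K)) : Set (↥K ⧸ R.subgroupOf K)), ∃ b ∈ Subgroup.normalizer ((Cfsg.inducedFunctor (G := (↥K ⧸ R.subgroupOf K)) W₂ (T : Subgroup (↥K ⧸ R.subgroupOf K)) : Subgroup (↥K ⧸ R.subgroupOf K)) : Set (↥K ⧸ R.subgroupOf K)), x = a * b) ∧ (∀ x : (↥K ⧸ R.subgroupOf K), ∃ a ∈ Subgroup.normalizer ((Cfsg.inducedFunctor (G := (↥K ⧸ R.subgroupOf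 K)) W₁ (T : Subgroup (↥K ⧸ R.subgroupOf K)) : Subgroup (↥K ⧸ R.subgroupOf K)) : Set (↥K ⧸ R.subgroupOf K)), ∃ b ∈ Subgroup.normalizer ((Cfsg.inducedFunctor (G := (↥K ⧸ R.subgroupOf K)) W₂ (T : Subgroup (↥K ⧸ R.subgroupOf K)) : Subgroup (↥K ⧸ R.subgroupOf K)) : Set (↥K ⧸ R.subgroupOf K)), x = a * b)) (hZ : Cfsg.omegaOne p ((S : Subgroup G) ⊓ Subgroup.centralizer (((S : Subgroup G) : Subgroup G) : Set G)) ≤ Cfsg.inducedFunctor (G := G) W₁ (S : Subgroup G) ⊓ Cfsg.inducedFunctor (G := G) W₂ (S : Subgroup G)) (N₁ : Subgroup G) (hN₁ : N₁ = Subgroup.normalizer ((Cfsg.inducedFunctor (G := G) W₁ (S : Subgroup G) : Subgroup G) : Set G)) (A : Subgroup G) (hA : A = (Subgroup.normalClosure (((Cfsg.omegaOne p ((S : Subgroup G) ⊓ Subgroup.centralizer (((S : Subgroup G) : Subgroup G) : Set G))).subgroupOf N₁ : Subgroup ↥N₁) : Set ↥N₁)).map N₁.subtype) : A ≤ (S : Subgroup G) ∧ Cfsg.IsElementaryAbelian p A ∧ Cfsg.IsStronglyClosed A (S :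 Subgroup G) ∧ Cfsg.ControlsStrongFusion p A := by
  classical
  subst hN₁
  subst hA
  set Z := Cfsg.omegaOne p ((S : Subgroup G) ⊓ Subgroup.centralizer (((S : Subgroup G) : Subgroup G) : Set G)) with hZdef
  have hZle := (PLocal.omegaOne_le (p := p) ((S : Subgroup G) ⊓ Subgroup.centralizer ((S : Subgroup G) : Set G)))
  have hZS : Z ≤ (S : Subgroup G) := hZle.trans inf_le_left
  have hZC : Z ≤ Subgroup.centralizer ((S : Subgroup G) : Set G) := hZle.trans inf_le_right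
  have hcom : ∀ a ∈ ((S : Subgroup G) ⊓ Subgroup.centralizer ((S : Subgroup G) : Set G)),
      ∀ b ∈ ((S : Subgroup G) ⊓ Subgroup.centralizer ((S : Subgroup G) : Set G)), a * b = b * a :=
    fun a ha b hb => Subgroup.mem_centralizer_iff.1 hb.2 a ha.1
  have hZp : ∀ z ∈ Z, z ^ p = 1 := by
    intro z hz
    induction hz using Subgroup.closure_induction with
    | mem z hz => exact hz.2
    | one => exact one_pow p
    | mul a b ha hb iha ihb =>
      rw [(show Commute a b from hcom a (hZle ha) b (hZle hb)).mul_pow, iha, ihb, one_mul]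
    | inv a _ iha => rw [inv_pow, iha, inv_one]
  set N₁ := Subgroup.normalizer ((Cfsg.inducedFunctor W₁ (S : Subgroup G) : Subgroup G) : Set G)
  set N₂ := Subgroup.normalizer ((Cfsg.inducedFunctor W₂ (S : Subgroup G) : Subgroup G) : Set G)
  have hSN₁ : (S : Subgroup G) ≤ N₁ :=
    AlperinFamily.le_normalizer_functor (FunctorControl.isConjugacyFunctor_induced hW₁) S.isPGroup'
  have hZN₁ : Z ≤ N₁ := hZS.trans hSN₁
  set A := (Subgroup.normalClosure ((Z.subgroupOf N₁ : Subgroup ↥N₁) : Set ↥N₁)).map N₁.subtype with hAdef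
  have h12 : ∀ x ∈ N₁, ∃ m ∈ N₁ ⊓ N₂, ∀ z ∈ Z, x * z * x⁻¹ = m * z * m⁻¹ := fun x hx =>
    exists_common_normalizer S hW₁ hW₂ (fun L K hK hc T => by exact (hfac L K hc T).2.1) hZS hZC hZp
      (hZ.trans inf_le_left) hx
  have h21 : ∀ x ∈ N₂, ∃ m ∈ N₁ ⊓ N₂, ∀ z ∈ Z, x * z * x⁻¹ = m * z * m⁻¹ := fun x hx => by
    obtain ⟨m, hm, he⟩ := exists_common_normalizer S hW₂ hW₁ (fun L K hK hc T => by exact (hfac L K hc T).1) hZS hZC hZp
      (hZ.trans inf_le_right) hx
    exact ⟨m, ⟨hm.2, hm.1⟩, he⟩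
  -- `A` is generated by the conjugates of `Z` under `N₁ ⊓ N₂`
  set s := {y : G | ∃ m ∈ N₁ ⊓ N₂, ∃ z ∈ Z, y = m * z * m⁻¹} with hs
  have hAs : A = Subgroup.closure s := by
    refine le_antisymm ?_ ((Subgroup.closure_le _).2 ?_)
    · rw [hAdef, Subgroup.normalClosure, MonoidHom.map_closure, Subgroup.closure_le]
      rintro _ ⟨y, hy, rfl⟩
      obtain ⟨z, hz, hzy⟩ := Group.mem_conjugatesOfSet_iff.1 hy
      obtain ⟨g, rfl⟩ := isConj_iff.1 hzy
      obtain ⟨m, hm, he⟩ := h12 g g.2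
      exact Subgroup.subset_closure ⟨m, hm, z, hz, he z hz⟩
    · rintro _ ⟨m, hm, z, hz, rfl⟩
      exact ⟨⟨m, hm.1⟩ * ⟨z, hZN₁ hz⟩ * (⟨m, hm.1⟩ : N₁)⁻¹, Subgroup.normalClosure_normal.conj_mem _
        (Subgroup.subset_normalClosure (show (⟨z, hZN₁ hz⟩ : N₁) ∈ Z.subgroupOf N₁ from hz)) _, rfl⟩
  have hinv : ∀ (M : Subgroup G), N₁ ⊓ N₂ ≤ M → (∀ x ∈ M, ∃ m ∈ N₁ ⊓ N₂, ∀ z ∈ Z, x * z * x⁻¹ = m * z * m⁻¹) →
      M ≤ Subgroup.normalizer (A : Set G) := by
    intro M hM hrep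
    refine Subgroup.le_normalizer_iff.2 fun x hx a ha => ?_
    have hle : A.map (MulAut.conj x).toMonoidHom ≤ A := by
      rw [hAs, MonoidHom.map_closure, Subgroup.closure_le]
      rintro _ ⟨_, ⟨m, hm, z, hz, rfl⟩, rfl⟩
      obtain ⟨m', hm', he⟩ := hrep (x * m) (M.mul_mem hx (hM hm))
      refine Subgroup.subset_closure ⟨m', hm', z, hz, ?_⟩
      show x * (m * z * m⁻¹) * x⁻¹ = m' * z * m'⁻¹
      rw [← he z hz]
      group
    exact hle ⟨a, ha, rfl⟩
  have hN₁A : N₁ ≤ Subgroup.normalizer (A : Set G) := hinv N₁ inf_le_left h12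
  have hN₂A : N₂ ≤ Subgroup.normalizer (A : Set G) := hinv N₂ inf_le_right h21
  set W1 := Cfsg.inducedFunctor W₁ (S : Subgroup G)
  have hAW : A ≤ W1 ⊓ Subgroup.centralizer (W1 : Set G) := by
    rw [hAs, Subgroup.closure_le]
    rintro _ ⟨m, hm, z, hz, rfl⟩
    refine ⟨(Subgroup.mem_normalizer_iff.1 hm.1 z).1 (hZ hz).1, Subgroup.mem_centralizer_iff.2 fun w hw => ?_⟩
    have h1 : m⁻¹ * w * m⁻¹⁻¹ ∈ (S : Subgroup G) :=
      FunctorControl.inducedFunctor_le W₁ _ ((Subgroup.mem_normalizer_iff.1 (N₁.inv_mem hm.1) w).1 hw)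
    rw [inv_inv] at h1
    have h2 := Subgroup.mem_centralizer_iff.1 (hZC hz) _ h1
    calc w * (m * z * m⁻¹) = m * (m⁻¹ * w * m * z) * m⁻¹ := by group
      _ = m * (z * (m⁻¹ * w * m)) * m⁻¹ := by rw [h2]
      _ = m * z * m⁻¹ * w := by group
  have hAS : A ≤ (S : Subgroup G) := hAW.trans (inf_le_left.trans (FunctorControl.inducedFunctor_le W₁ _))
  have hAcomm : ∀ a ∈ A, ∀ b ∈ A, a * b = b * a := fun a ha b hb =>
    Subgroup.mem_centralizer_iff.1 (hAW hb).2 a (hAW ha).1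
  have hAp : ∀ a ∈ A, a ^ p = 1 := by
    intro a ha
    rw [hAs] at ha
    induction ha using Subgroup.closure_induction with
    | mem a ha =>
      obtain ⟨m, -, z, hz, rfl⟩ := ha
      rw [conj_pow, hZp z hz, mul_one, mul_inv_cancel]
    | one => exact one_pow p
    | mul a b ha hb iha ihb =>
      rw [(show Commute a b from hAcomm a (hAs.ge ha) b (hAs.ge hb)).mul_pow, iha, ihb, one_mul]
    | inv a _ iha => rw [inv_pow, iha, inv_one]
  -- fusion
  have hfus := Cfsg.Agent.S1996.result W₁ W₂ hW₁ hW₂ (fun K R hR hc T => by exact (hfac K R hc T).2.2)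
  have hctl : ∀ (X : Set G) (g : G), X ⊆ ((S : Subgroup G) : Set G) →
      (fun a => g * a * g⁻¹) '' X ⊆ ((S : Subgroup G) : Set G) →
        ∃ x ∈ Subgroup.normalizer (A : Set G), ∀ a ∈ X, g * a * g⁻¹ = x * a * x⁻¹ := by
    intro X g hX hgX
    obtain ⟨n, c, h0, hc, -, hce⟩ := AlperinFamily.familyControlsStrongFusion_at
      (by rintro W (rfl | rfl)
          · exact FunctorControl.isConjugacyFunctor_induced hW₁
          · exact FunctorControl.isConjugacyFunctor_induced hW₂)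
      le_top S.isPGroup' (by rw [Subgroup.relIndex_top_right]; exact S.not_dvd_index) hfus X g trivial hX hgX
    refine ⟨c (Fin.last n), ?_, fun a ha => (hce a ha).symm⟩
    suffices ∀ i, c i ∈ Subgroup.normalizer (A : Set G) from this _
    intro i
    induction i using Fin.induction with
    | zero => rw [h0]; exact one_mem _
    | succ j ih =>
      obtain ⟨W', hW', hj⟩ := hc j
      have hj' : c j.succ * (c j.castSucc)⁻¹ ∈ Subgroup.normalizer (A : Set G) := by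
        rcases hW' with rfl | rfl
        · exact hN₁A hj.2
        · exact hN₂A hj.2
      simpa using Subgroup.mul_mem _ hj' ih
  refine ⟨hAS, ⟨⟨⟨fun a b => Subtype.ext (hAcomm a a.2 b b.2)⟩⟩, hAp⟩, ⟨hAS, fun a ha g hg => ?_⟩,
    ⟨S, hAS, fun X hX => ⟨hX, fun g hgX => hctl X g hX hgX⟩⟩⟩
  obtain ⟨x, hx, he⟩ := hctl {a} g (Set.singleton_subset_iff.2 (hAS ha)) (by rintro _ ⟨b, hb, rfl⟩; rw [Set.mem_singleton_iff.1 hb]; exact hg)
  rw [he a rfl]
  exact (Subgroup.mem_normalizer_iff.1 hx a).1 ha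

end Cfsg.Agent.S1997
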