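import Cfsg.Statements.S2000
import Cfsg.Agent.Lib.SFourControl.Family
import Cfsg.Agent.Lib.PLocal.QdFreeControl
import Cfsg.Agent.EqLemmas

set_option autoImplicit false
universe u
open Cfsg

namespace Cfsg.Agent.S2000

/-- Let p be a prime and G a finite group. Then Qd(p) (the natural semidirect product of an elementary abelian group of order p² by SL₂(p)) is not involved in G if and only if there is a set 𝓦 of isomorphism-invariant p-group functors (each nontrivial on nontrivial finite p-groups and carried onto W(R) by every isomorphism from a finite p-group Q onto R, hence with characteristic values on finite p-groups) whose induced conjugacy functors control strong fusion in every section of G. -/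
theorem result {G : Type u} [Group G] [Finite G] {p : ℕ} [Fact p.Prime] : ¬ Cfsg.Involves ↥(Cfsg.qd p) G ↔ ∃ 𝓦 : Set (∀ (Q : Type u) [Group Q], Subgroup Q), (∀ W ∈ 𝓦, Cfsg.IsCharPFunctor.{u} p W) ∧ ∀ (K R : Subgroup G) [hR : (R.subgroupOf K).Normal], Cfsg.FamilyControlsStrongFusionIn p ((fun W => Cfsg.inducedFunctor (G := (↥K ⧸ R.subgroupOf K)) W) '' 𝓦) ⊤ := by
  constructor
  · intro hfree
    by_cases hp : p = 2
    · subst hp
      obtain ⟨e'⟩ := S2761.result
      refine ⟨SFourControl.pairSet, SFourControl.isCharPFunctor_pair, fun K R _ => ?_⟩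
      rw [SFourControl.image_pair]
      exact SFourControl.family_control (SFourControl.section_free
        (fun h => hfree (Involves.involves_of_mulEquiv e'.symm h)) K R)
    · refine ⟨{PLocal.zjFunctor}, fun W hW => hW ▸ PLocal.isCharPFunctor_zjFunctor, fun K R _ => ?_⟩
      haveI : Finite (↥K ⧸ R.subgroupOf K) := inferInstance
      let P : Sylow p (↥K ⧸ R.subgroupOf K) := default
      exact PLocal.familyControls_of_realized ⟨_, rfl, rfl⟩ P fun Q hQ g hg =>
        PLocal.qdFree_zjA_control hp hfree (FunctorControl.isSec_quotient K R) P Q hQ g hg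
  · rintro ⟨𝓦, h𝓦, h⟩ ⟨K, R, hR, ⟨e⟩⟩
    exact PLocal.not_familyControls_qd e h𝓦 (@h K R hR)

end Cfsg.Agent.S2000
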