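import Cfsg.Statements.S2001
import Cfsg.Agent.Lib.FunctorControl.PairControl

set_option autoImplicit false
open Cfsg
open scoped commutatorElement

namespace Cfsg.Agent.S2001

open AlperinFamily FunctorControl

/-- Let p be a prime dividing the order of the finite group G, P a Sylow p-subgroup, W a conjugacy functor for p on G with Z(H) ≤ W(H) for every nontrivial p-subgroup H, and V a central functor: a conjugacy functor with V(H) ≤ Z(H), and V(H) ≤ V(K) whenever Z(H) ≤ Z(K), for nontrivial p-subgroups H, K. Say that W with V controls transfer in a subgroup L when some Sylow p-subgroup Q of L satisfies Q ∩ L' = (Q ∩ (N_L(W(Q)))')·(Q ∩ (C_L(V(Q)))') as a product of two subgroups. If W with V controls transfer in N_G(H) for every subgroup H with Z(P) ≤ H ≤ P, then W with V controls transfer in G. -/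
theorem result {G : Type*} [Group G] [Finite G] {p : ℕ} [Fact p.Prime] (hdiv : p ∣ Nat.card G) (P : Sylow p G) (W V : Subgroup G → Subgroup G) (hW : Cfsg.IsConjugacyFunctor p W) (hV : Cfsg.IsConjugacyFunctor p V) (hWZ : ∀ H : Subgroup G, IsPGroup p ↥H → H ⊓ Subgroup.centralizer ((H : Subgroup G) : Set G) ≤ W H) (hVZ : ∀ H : Subgroup G, IsPGroup p ↥H → V H ≤ H ⊓ Subgroup.centralizer ((H : Subgroup G) : Set G)) (hVmono : ∀ H K : Subgroup G, IsPGroup p ↥H → IsPGroup p ↥K → H ≠ ⊥ → K ≠ ⊥ → H ⊓ Subgroup.centralizer ((H : Subgroup G) : Set G) ≤ K ⊓ Subgroup.centralizer ((K : Subgroup G) : Set G) → V H ≤ V K) (hloc : ∀ H : Subgroup G, (P : Subgroup G) ⊓ Subgroup.centralizer (((P : Subgroup G) : Subgroup G) : Set G) ≤ H → H ≤ (P : Subgroup G) → ∃ Q : Subgroup G, Q ≤ Subgroup.normalizer ((H : Subgroup G) : Set G) ∧ IsPGroup p ↥Q ∧ ¬ p ∣ (Q).relIndex (Subgroup.normalizer ((H : Subgroup G) : Set G)) ∧ ∀ x : G, x ∈ Q ⊓ ⁅Subgroup.normalizer ((H : Subgroup G) : Set G), Subgroup.normalizer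 ((H : Subgroup G) : Set G)⁆ ↔ ∃ a ∈ Q ⊓ ⁅Subgroup.normalizer ((H : Subgroup G) : Set G) ⊓ Subgroup.normalizer ((W Q : Subgroup G) : Set G), Subgroup.normalizer ((H : Subgroup G) : Set G) ⊓ Subgroup.normalizer ((W Q : Subgroup G) : Set G)⁆, ∃ b ∈ Q ⊓ ⁅Subgroup.normalizer ((H : Subgroup G) : Set G) ⊓ Subgroup.centralizer ((V Q : Subgroup G) : Set G), Subgroup.normalizer ((H : Subgroup G) : Set G) ⊓ Subgroup.centralizer ((V Q : Subgroup G) : Set G)⁆, x = a * b) : ∃ Q : Subgroup G, IsPGroup p ↥Q ∧ ¬ p ∣ Q.index ∧ ∀ x : G, x ∈ Q ⊓ commutator G ↔ ∃ a ∈ Q ⊓ ⁅Subgroup.normalizer ((W Q : Subgroup G) : Set G), Subgroup.normalizer ((W Q : Subgroup G) : Set G)⁆, ∃ b ∈ Q ⊓ ⁅Subgroup.centralizer ((V Q : Subgroup G) : Set G), Subgroup.centralizer ((V Q : Subgroup G) : Set G)⁆, x = a * b := by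
  classical
  have hS : (P : Subgroup G) ≠ ⊥ := P.ne_bot_of_dvd_card hdiv
  set NW := Subgroup.normalizer ((W (P : Subgroup G) : Subgroup G) : Set G) with hNW
  set CV := Subgroup.centralizer ((V (P : Subgroup G) : Subgroup G) : Set G) with hCV
  set F1 := (P : Subgroup G) ⊓ ⁅NW, NW⁆
  set F2 := (P : Subgroup G) ⊓ ⁅CV, CV⁆
  set F := F1 ⊔ F2 with hF
  let Φ : Subgroup G → G → Prop := fun T g => ∀ a ∈ T, a⁻¹ * (g * a * g⁻¹) ∈ F
  let Ψ : Subgroup G → Prop := fun U => (P : Subgroup G) ⊓ Subgroup.normalizer (U : Set G) ⊓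
    ⁅Subgroup.normalizer (U : Set G), Subgroup.normalizer (U : Set G)⁆ ≤ F
  have hPN : (P : Subgroup G) ≤ NW := le_normalizer_functor hW P.isPGroup'
  have key : ∀ (T : Subgroup G) (g : G), T ≤ (P : Subgroup G) → cj g T ≤ (P : Subgroup G) → Φ T g := by
    intro T g hT hg
    refine pair_induction P Φ Ψ ?_ ?_ ?_ ?_ ?_ ?_ ?_ ?_ hT hg
    · intro g hg a ha
      refine Subgroup.mem_sup_left ⟨?_, ?_⟩
      · exact Subgroup.mul_mem _ (Subgroup.inv_mem _ ha) ((Subgroup.mem_normalizer_iff.1 hg a).1 ha)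
      · have : ⁅a⁻¹, g⁆ ∈ ⁅NW, NW⁆ := Subgroup.commutator_mem_commutator
          (Subgroup.inv_mem _ (hPN ha)) (normalizer_le_normalizer_functor hW P.isPGroup' hg)
        simpa [commutatorElement_def, mul_assoc] using this
    · exact fun T T' g h _ hΦ a ha => hΦ a (h ha)
    · intro T g g' h h' a ha
      have := F.mul_mem (h a ha) (h' _ (conj_mem_cj g ha))
      convert this using 1
      group
    · intro T g _ _ h b hb
      obtain ⟨a, ha, rfl⟩ := hb
      have := F.inv_mem (h a ha)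
      simp only [MulEquiv.coe_toMonoidHom, MulAut.conj_apply]
      convert this using 1
      group
    · intro T g g' he h a ha
      rw [← he a ha]
      exact h a ha
    · intro U hU hΨ T hT k hkU hkT a ha
      refine hΨ ⟨Subgroup.mul_mem _ (Subgroup.inv_mem _ (hT ha)) (hT ((Subgroup.mem_normalizer_iff.1 hkT a).1 ha)), ?_⟩
      have : ⁅a⁻¹, k⁆ ∈ ⁅Subgroup.normalizer (U : Set G), Subgroup.normalizer (U : Set G)⁆ :=
        Subgroup.commutator_mem_commutator (Subgroup.inv_mem _ (hT ha).2) hkU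
      simpa [commutatorElement_def, mul_assoc] using this
    · intro U hU hfn IH y hy
      set R := (P : Subgroup G) ⊓ Subgroup.normalizer (U : Set G) with hR
      have hRp : IsPGroup p R := P.isPGroup'.to_inf_left
      obtain ⟨Q, hQN, hQp, hQd, hctl⟩ := hloc U hU.center_le hU.1
      obtain ⟨d, hd, hdQ'⟩ := exists_conj_sylowish hQN hQp hQd inf_le_right hRp hfn
      have hdQ : cj d Q = R := hdQ'
      clear hdQ'
      set N := Subgroup.normalizer (U : Set G) with hN
      have hcN : cj d N = N := cj_eq_of_mem hd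
      have hy' : d⁻¹ * y * d ∈ Q ⊓ ⁅N, N⁆ := by
        refine ⟨mem_cj.1 (hdQ.symm ▸ hy.1), mem_cj.1 ?_⟩
        rw [cj_commutator, hcN]
        exact hy.2
      obtain ⟨a, ha, b, hb, hab⟩ := (hctl _).1 hy'
      have e : y = d * a * d⁻¹ * (d * b * d⁻¹) := by
        have := congrArg (fun t => d * t * d⁻¹) hab
        convert this using 1 <;> group
      rw [e]
      refine F.mul_mem ?_ ?_
      · have h1 := conj_mem_cj d ha
        rw [cj_inf, hdQ, cj_commutator, cj_inf, hcN, cj_normalizer, ← functor_cj hW hQp, hdQ] at h1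
        by_cases hRP : R = (P : Subgroup G)
        · refine Subgroup.mem_sup_left ⟨h1.1.1, ?_⟩
          have h2 := Subgroup.commutator_mono inf_le_right inf_le_right h1.2
          rwa [hRP] at h2
        · obtain ⟨hg, hlt⟩ := goodSub_functor P hW hWZ hU hRP
          exact IH _ hg (Set.ncard_lt_ncard hlt (Set.toFinite _))
            ⟨hlt.le h1.1, Subgroup.commutator_mono inf_le_right inf_le_right h1.2⟩
      · have h1 := conj_mem_cj d hb
        rw [cj_inf, hdQ, cj_commutator, cj_inf, hcN, cj_centralizer, ← functor_cj hV hQp, hdQ] at h1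
        refine Subgroup.mem_sup_right ⟨h1.1.1, ?_⟩
        exact Subgroup.commutator_mono
          (inf_le_right.trans (centralizer_functor_le P hS hVmono hU))
          (inf_le_right.trans (centralizer_functor_le P hS hVmono hU)) h1.2
    · intro U h hU hh hΦ hΨ x hx
      have h1 : h * x * h⁻¹ ∈ F := by
        refine hΨ ⟨⟨hh ⟨x, hx.1, rfl⟩, cj_le_normalizer h inf_le_right ⟨x, hx.1, rfl⟩⟩, ?_⟩
        rw [← cj_normalizer, ← cj_commutator]
        exact conj_mem_cj h hx.2
      have h2 := F.mul_mem h1 (F.inv_mem (hΦ x hx.1))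
      rwa [show h * x * h⁻¹ * (x⁻¹ * (h * x * h⁻¹))⁻¹ = x by group] at h2
  have hle : (P : Subgroup G) ⊓ commutator G ≤ F := by
    rw [inf_comm, ← Transfer.focalSubgroup_eq_of_coprime _ (Transfer.coprime_index_relIndex_sylow P),
      Subgroup.focalSubgroup_def, Subgroup.closure_le]
    rintro _ ⟨hxu, x, hx, u, rfl⟩
    have hu : u * x⁻¹ * u⁻¹ ∈ (P : Subgroup G) := by
      have := Subgroup.mul_mem _ (Subgroup.inv_mem _ hx) hxu
      simpa [commutatorElement_def, mul_assoc] using this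
    have h1 : cj u (Subgroup.zpowers x⁻¹) ≤ (P : Subgroup G) := by
      rw [cj, MonoidHom.map_zpowers, Subgroup.zpowers_le]
      exact hu
    have := key (Subgroup.zpowers x⁻¹) u (Subgroup.zpowers_le.2 (Subgroup.inv_mem _ hx)) h1 x⁻¹
      (Subgroup.mem_zpowers _)
    simpa [commutatorElement_def, mul_assoc] using this
  have hFle : F ≤ (P : Subgroup G) ⊓ commutator G := by
    rw [commutator_def]
    exact sup_le (inf_le_inf_left _ (Subgroup.commutator_mono le_top le_top))
      (inf_le_inf_left _ (Subgroup.commutator_mono le_top le_top))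
  have hnorm : F2 ≤ Subgroup.normalizer (F1 : Set G) := by
    refine le_trans inf_le_left (Subgroup.le_normalizer_iff.2 fun s hs d hd => ⟨?_, ?_⟩)
    · exact Subgroup.mul_mem _ (Subgroup.mul_mem _ hs hd.1) (Subgroup.inv_mem _ hs)
    · have : s * d * s⁻¹ ∈ cj s ⁅NW, NW⁆ := conj_mem_cj s hd.2
      rwa [cj_commutator, cj_eq_of_mem (hPN hs)] at this
  refine ⟨P, P.isPGroup', P.not_dvd_index, fun x => ⟨fun hx => ?_, ?_⟩⟩
  · have h1 : x ∈ ((F1 ⊔ F2 : Subgroup G) : Set G) := hle hx
    rw [Subgroup.coe_mul_of_right_le_normalizer_left _ _ hnorm] at h1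
    obtain ⟨a, ha, b, hb, he⟩ := h1
    exact ⟨a, ha, b, hb, he.symm⟩
  · rintro ⟨a, ha, b, hb, rfl⟩
    exact hFle (F.mul_mem (Subgroup.mem_sup_left ha) (Subgroup.mem_sup_right hb))

end Cfsg.Agent.S2001
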