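import Cfsg.Statements.S2002
import Cfsg.Agent.Lib.FunctorControl.PairControl

set_option autoImplicit false
open Cfsg

namespace Cfsg.Agent.S2002

open AlperinFamily FunctorControl

variable {G : Type*} [Group G]

theorem image_le_of_cj {S T : Subgroup G} {g : G} (h : cj g T ≤ S) :
    (fun a => g * a * g⁻¹) '' (T : Set G) ⊆ S := by
  rintro _ ⟨a, ha, rfl⟩
  exact h ⟨a, ha, rfl⟩

/-- Let p be a prime dividing the order of the finite group G, P a Sylow p-subgroup, W a conjugacy functor for p on G with Z(H) ≤ W(H) for every nontrivial p-subgroup H, and V a central functor (a conjugacy functor with V(H) ≤ Z(H), and V(H) ≤ V(K) whenever Z(H) ≤ Z(K)). Say that W with V controls strong fusion in a subgroup L when some Sylow p-subgroup Q of L has the property: whenever X ⊆ Q and a ∈ L with a⁻¹Xa ⊆ Q, then a = c b with c ∈ C_L(X) and b = b₁ ⋯ bₙ a product of elements each in N_L(W(Q)) or in C_L(V(Q)) such that every partial conjugate (b₁ ⋯ bₖ)⁻¹ X (b₁ ⋯ bₖ) lies in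 Q. If W with V controls strong fusion in N_G(H) for every subgroup H with Z(P) ≤ H ≤ P, then W with V controls strong fusion in G. -/
theorem result {G : Type*} [Group G] [Finite G] {p : ℕ} [Fact p.Prime] (hdiv : p ∣ Nat.card G) (P : Sylow p G) (W V : Subgroup G → Subgroup G) (hW : Cfsg.IsConjugacyFunctor p W) (hV : Cfsg.IsConjugacyFunctor p V) (hWZ : ∀ H : Subgroup G, IsPGroup p ↥H → H ⊓ Subgroup.centralizer ((H : Subgroup G) : Set G) ≤ W H) (hVZ : ∀ H : Subgroup G, IsPGroup p ↥H → V H ≤ H ⊓ Subgroup.centralizer ((H : Subgroup G) : Set G)) (hVmono : ∀ H K : Subgroup G, IsPGroup p ↥H → IsPGroup p ↥K → H ≠ ⊥ → K ≠ ⊥ → H ⊓ Subgroup.centralizer ((H : Subgroup G) : Set G) ≤ K ⊓ Subgroup.centralizer ((K : Subgroup G) : Set G) → V H ≤ V K) (hloc : ∀ H : Subgroup G, (P : Subgroup G) ⊓ Subgroup.centralizer (((P : Subgroup G) : Subgroup G) : Set G) ≤ H → H ≤ (P : Subgroup G) → ∃ Q : Subgroup G, Q ≤ Subgroup.normalizer ((H : Subgroup G) : Set G) ∧ IsPGroup p ↥Q ∧ ¬ p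 ∣ (Q).relIndex (Subgroup.normalizer ((H : Subgroup G) : Set G)) ∧ ∀ (X : Set G) (a : G), X ⊆ Q → a ∈ Subgroup.normalizer ((H : Subgroup G) : Set G) → (fun x => a⁻¹ * x * a) '' X ⊆ Q → ∃ c ∈ Subgroup.normalizer ((H : Subgroup G) : Set G) ⊓ Subgroup.centralizer X, ∃ (n : ℕ) (b : Fin n → G), (∀ i, b i ∈ Subgroup.normalizer ((H : Subgroup G) : Set G) ⊓ Subgroup.normalizer ((W Q : Subgroup G) : Set G) ∨ b i ∈ Subgroup.normalizer ((H : Subgroup G) : Set G) ⊓ Subgroup.centralizer ((V Q : Subgroup G) : Set G)) ∧ a = c * (List.ofFn b).prod ∧ ∀ k : ℕ, k ≤ n → (fun x => (((List.ofFn b).take k).prod)⁻¹ * x * ((List.ofFn b).take k).prod) '' ((fun x => c⁻¹ * x * c) '' X) ⊆ Q) : ∃ Q : Subgroup G, IsPGroup p ↥Q ∧ ¬ p ∣ Q.index ∧ ∀ (X : Set G) (a : G), X ⊆ Q → (fun x => a⁻¹ * x * a) '' X ⊆ Q → ∃ c ∈ Subgroup.centralizer X, ∃ (n : ℕ) (b : Fin n → G), (∀ i, b i ∈ ⊤ ⊓ Subgroup.normalizer ((W Q : Subgroup G) : Set G) ∨ b i ∈ ⊤ ⊓ Subgroup.centralizer ((V Q : Subgroup G) : Set G))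 ∧ a = c * (List.ofFn b).prod ∧ ∀ k : ℕ, k ≤ n → (fun x => (((List.ofFn b).take k).prod)⁻¹ * x * ((List.ofFn b).take k).prod) '' ((fun x => c⁻¹ * x * c) '' X) ⊆ Q := by
  classical
  have hS : (P : Subgroup G) ≠ ⊥ := P.ne_bot_of_dvd_card hdiv
  set L := pairMoves W V (P : Subgroup G) with hLdef
  have hL : ∀ z ∈ L, z⁻¹ ∈ L := inv_mem_pairMoves
  have hdir : ∀ (A : Set G) (z : G), z ∈ L → A ⊆ (P : Subgroup G) →
      (fun a => z * a * z⁻¹) '' A ⊆ (P : Subgroup G) → Reach L (P : Subgroup G) A z := fun A z hz hA hzA =>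
    ⟨z, by simpa using Moves.step z (Moves.refl (L := L) hA) hz (by simpa using hzA), fun _ _ => rfl⟩
  let Φ : Subgroup G → G → Prop := fun T g => Reach L (P : Subgroup G) (T : Set G) g
  let Ψ : Subgroup G → Prop := fun U => ∀ (B : Set G) (z : G),
    B ⊆ ((P : Subgroup G) ⊓ Subgroup.normalizer (U : Set G) : Subgroup G) → z ∈ Subgroup.normalizer (U : Set G) →
    (fun a => z * a * z⁻¹) '' B ⊆ (P : Subgroup G) → Reach L (P : Subgroup G) B z
  have himg : ∀ (g : G) (T : Subgroup G), (fun a => g * a * g⁻¹) '' (T : Set G) = (cj g T : Set G) := by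
    intro g T
    ext z
    simp
  have key : ∀ (T : Subgroup G) (g : G), T ≤ (P : Subgroup G) → cj g T ≤ (P : Subgroup G) → Φ T g := by
    intro T g hT hg
    refine pair_induction P Φ Ψ ?_ ?_ ?_ ?_ ?_ ?_ ?_ ?_ hT hg
    · intro g hg
      refine hdir _ g (Or.inl (normalizer_le_normalizer_functor hW P.isPGroup' hg)) subset_rfl
        (image_le_of_cj (cj_eq_iff.2 hg).le)
    · exact fun T T' g h _ hΦ => hΦ.mono h
    · intro T g g' h h'
      refine Reach.comp h ?_
      rw [himg]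
      exact h'
    · intro T g _ _ h
      have := h.inv hL
      rwa [himg] at this
    · exact fun T g g' he h => h.congr he
    · intro U hU hΨ T hT k hkU hkT
      refine hΨ _ k hT hkU (image_le_of_cj ?_)
      rw [cj_eq_iff.2 hkT]
      exact hT.trans inf_le_left
    · intro U hU hfn IH B z hB hz hzB
      set R := (P : Subgroup G) ⊓ Subgroup.normalizer (U : Set G) with hR
      have hRp : IsPGroup p R := P.isPGroup'.to_inf_left
      obtain ⟨Q, hQN, hQp, hQd, hctl⟩ := hloc U hU.center_le hU.1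
      obtain ⟨d, hd, hdQ'⟩ := exists_conj_sylowish hQN hQp hQd inf_le_right hRp hfn
      have hdQ : cj d Q = R := hdQ'
      clear hdQ'
      have hzB' : (fun a => z * a * z⁻¹) '' B ⊆ R := by
        rintro _ ⟨a, ha, rfl⟩
        exact ⟨hzB ⟨a, ha, rfl⟩, Subgroup.mul_mem _ (Subgroup.mul_mem _ hz (hB ha).2) (Subgroup.inv_mem _ hz)⟩
      have hdQ' : ∀ x ∈ R, d⁻¹ * x * d ∈ Q := fun x hx => by
        rw [← hdQ] at hx
        exact mem_cj.1 hx
      set X := (fun x => d⁻¹ * x * d) '' B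
      obtain ⟨c, hc, n, b, hb, hab, hpart⟩ := hctl X (d⁻¹ * z * d)⁻¹
        (by rintro _ ⟨x, hx, rfl⟩; exact hdQ' x (hB hx))
        (Subgroup.inv_mem _ (Subgroup.mul_mem _ (Subgroup.mul_mem _ (Subgroup.inv_mem _ hd) hz) hd))
        (by
          rintro _ ⟨_, ⟨x, hx, rfl⟩, rfl⟩
          have := hdQ' _ (hzB' ⟨x, hx, rfl⟩)
          simp only [SetLike.mem_coe]
          convert this using 1
          group)
      have hcX : ∀ x ∈ X, c⁻¹ * x * c = x := fun x hx => by
        rw [mul_assoc, Subgroup.mem_centralizer_iff.1 hc.2 x hx, inv_mul_cancel_left]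
      let C : Fin (n + 1) → G := fun i => d * (((List.ofFn b).take i).prod)⁻¹ * d⁻¹
      have hCR : ∀ i : Fin (n + 1), (fun a => C i * a * (C i)⁻¹) '' B ⊆ R := by
        rintro i _ ⟨x, hx, rfl⟩
        have h1 := hpart i (Nat.le_of_lt_succ i.2)
          ⟨_, ⟨_, ⟨x, hx, rfl⟩, rfl⟩, rfl⟩
        simp only [SetLike.mem_coe] at h1
        rw [hcX _ ⟨x, hx, rfl⟩] at h1
        have h2 := conj_mem_cj d h1
        rw [hdQ] at h2
        simp only [SetLike.mem_coe]
        convert h2 using 1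
        simp only [C]
        group
      have hfun : ∀ (f : Subgroup G → Subgroup G), Cfsg.IsConjugacyFunctor p f → f R = cj d (f Q) := by
        intro f hf
        rw [← hdQ]
        exact functor_cj hf hQp d
      refine (Reach.of_chain C (by simp [C]) (hB.trans fun a ha => ha.1) (fun i => ?_) (Fin.last n)).congr ?_
      · have hstep : C i.succ * (C i.castSucc)⁻¹ = d * (b i)⁻¹ * d⁻¹ := by
          simp only [C, Fin.val_succ, Fin.val_castSucc]
          rw [List.prod_take_succ _ _ (by simp)]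
          simp only [List.getElem_ofFn, Fin.eta]
          group
        rw [hstep]
        have himg2 : (fun a => d * (b i)⁻¹ * d⁻¹ * a * (d * (b i)⁻¹ * d⁻¹)⁻¹) ''
            ((fun a => C i.castSucc * a * (C i.castSucc)⁻¹) '' B) ⊆ R := by
          rw [← hstep, Set.image_image]
          refine le_trans (le_of_eq ?_) (hCR i.succ)
          congr 1
          funext a
          group
        rcases hb i with hbW | hbV
        · have hmem : d * (b i)⁻¹ * d⁻¹ ∈ Subgroup.normalizer ((W R : Subgroup G) : Set G) := by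
            rw [hfun W hW, ← cj_normalizer]
            exact conj_mem_cj d (Subgroup.inv_mem _ hbW.2)
          by_cases hRP : R = (P : Subgroup G)
          · exact hdir _ _ (Or.inl (hRP ▸ hmem)) ((hCR _).trans fun a ha => ha.1)
              (himg2.trans fun a ha => ha.1)
          · obtain ⟨hg, hlt⟩ := goodSub_functor P hW hWZ hU hRP
            exact IH _ hg (Set.ncard_lt_ncard hlt (Set.toFinite _)) _ _ ((hCR _).trans hlt.le) hmem
              (himg2.trans fun a ha => ha.1)
        · have hmem : d * (b i)⁻¹ * d⁻¹ ∈ Subgroup.centralizer ((V R : Subgroup G) : Set G) := by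
            rw [hfun V hV, ← cj_centralizer]
            exact conj_mem_cj d (Subgroup.inv_mem _ hbV.2)
          exact hdir _ _ (Or.inr (centralizer_functor_le P hS hVmono hU hmem))
            ((hCR _).trans fun a ha => ha.1) (himg2.trans fun a ha => ha.1)
      · intro x hx
        have h1 : d⁻¹ * z * d * (d⁻¹ * x * d) * (d⁻¹ * z * d)⁻¹ =
            ((List.ofFn b).prod)⁻¹ * (c⁻¹ * (d⁻¹ * x * d) * c) * (List.ofFn b).prod := by
          conv_lhs => rw [show d⁻¹ * z * d = ((d⁻¹ * z * d)⁻¹)⁻¹ from (inv_inv _).symm, hab]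
          group
        rw [hcX _ ⟨x, hx, rfl⟩] at h1
        have h2 := congrArg (fun y => d * y * d⁻¹) h1
        have e : ((List.ofFn b).take ((Fin.last n : Fin (n + 1)) : ℕ)).prod = (List.ofFn b).prod := by
          rw [List.take_of_length_le (by simp)]
        simp only [C, e]
        convert h2.symm using 1 <;> group
    · intro U h hU hh hΦ hΨ B z hB hz hzB
      have hzB' : (fun a => z * a * z⁻¹) '' B ⊆
          ((P : Subgroup G) ⊓ Subgroup.normalizer (U : Set G) : Subgroup G) := by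
        rintro _ ⟨a, ha, rfl⟩
        exact ⟨hzB ⟨a, ha, rfl⟩, Subgroup.mul_mem _ (Subgroup.mul_mem _ hz (hB ha).2) (Subgroup.inv_mem _ hz)⟩
      have h1 : Reach L (P : Subgroup G) B h := hΦ.mono hB
      have h2 : Reach L (P : Subgroup G) ((fun a => h * a * h⁻¹) '' B) (h * z * h⁻¹) := by
        refine hΨ _ _ ?_ ?_ ?_
        · rintro _ ⟨a, ha, rfl⟩
          exact ⟨hh ⟨a, hB ha, rfl⟩, cj_le_normalizer h inf_le_right ⟨a, hB ha, rfl⟩⟩
        · rw [← cj_normalizer]
          exact conj_mem_cj h hz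
        · rintro _ ⟨_, ⟨a, ha, rfl⟩, rfl⟩
          have := hh ⟨z * a * z⁻¹, hzB' ⟨a, ha, rfl⟩, rfl⟩
          simp only [SetLike.mem_coe] at this ⊢
          convert this using 1
          show h * z * h⁻¹ * (h * a * h⁻¹) * (h * z * h⁻¹)⁻¹ = h * (z * a * z⁻¹) * h⁻¹
          group
      have h12 := h1.comp h2
      rw [show h * z * h⁻¹ * h = h * z by group] at h12
      have h3 : Reach L (P : Subgroup G) ((fun a => h * z * a * (h * z)⁻¹) '' B) h⁻¹ := by
        have h5 := ((hΦ.mono hzB') : Reach L (P : Subgroup G) _ h).inv hL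
        rw [Set.image_image] at h5
        convert h5 using 2
        group
      have := h12.comp h3
      rwa [show h⁻¹ * (h * z) = z by group] at this
  refine ⟨P, P.isPGroup', P.not_dvd_index, fun X a hX haX => ?_⟩
  have hX' : Subgroup.closure X ≤ (P : Subgroup G) := (Subgroup.closure_le _).2 hX
  have hR : Reach L (P : Subgroup G) X a⁻¹ := by
    refine (key (Subgroup.closure X) a⁻¹ hX' ?_).mono Subgroup.subset_closure
    rw [cj, Subgroup.map_le_iff_le_comap, Subgroup.closure_le]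
    intro x hx
    show a⁻¹ * x * a⁻¹⁻¹ ∈ (P : Subgroup G)
    rw [inv_inv]
    exact haX ⟨x, hx, rfl⟩
  obtain ⟨m, hm, hme⟩ := hR
  obtain ⟨n, e, h0, hstep, hsub, hlast⟩ := hm.exists_chain
  set b : Fin n → G := fun i => (e i.succ * (e i.castSucc)⁻¹)⁻¹
  have htake : ∀ k (hk : k ≤ n), ((List.ofFn b).take k).prod = (e ⟨k, Nat.lt_succ_of_le hk⟩)⁻¹ := by
    intro k
    induction k with
    | zero => intro _; simp only [List.take_zero, List.prod_nil]; rw [show (⟨0, _⟩ : Fin (n + 1)) = 0 from rfl, h0, inv_one]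
    | succ k ih =>
      intro hk
      rw [List.prod_take_succ _ _ (by simpa using hk), ih (Nat.le_of_succ_le hk)]
      simp only [List.getElem_ofFn, b]
      rw [show (⟨k, hk⟩ : Fin n).castSucc = ⟨k, _⟩ from rfl, show (⟨k, hk⟩ : Fin n).succ = ⟨k + 1, _⟩ from rfl]
      group
  have hprod : (List.ofFn b).prod = m⁻¹ := by
    have h := htake n le_rfl
    rw [List.take_of_length_le (by simp)] at h
    exact h.trans (congrArg (·⁻¹) hlast)
  refine ⟨a * m, Subgroup.mem_centralizer_iff.2 fun x hx => ?_, n, b, fun i => ?_, ?_, fun k hk => ?_⟩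
  · have h1 : m * x * m⁻¹ = a⁻¹ * x * a := by simpa using hme x hx
    calc x * (a * m) = a * (a⁻¹ * x * a) * m := by group
      _ = a * (m * x * m⁻¹) * m := by rw [h1]
      _ = a * m * x := by group
  · exact (hstep i).imp (fun h => ⟨trivial, Subgroup.inv_mem _ h⟩) (fun h => ⟨trivial, Subgroup.inv_mem _ h⟩)
  · rw [hprod, mul_inv_cancel_right]
  · rw [htake k hk]
    rintro _ ⟨_, ⟨x, hx, rfl⟩, rfl⟩
    have hcx : (a * m)⁻¹ * x * (a * m) = x := by
      have h1 : m * x * m⁻¹ = a⁻¹ * x * a := by simpa using hme x hx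
      calc (a * m)⁻¹ * x * (a * m) = m⁻¹ * (a⁻¹ * x * a) * m := by group
        _ = m⁻¹ * (m * x * m⁻¹) * m := by rw [h1]
        _ = x := by group
    show (e _)⁻¹⁻¹ * ((a * m)⁻¹ * x * (a * m)) * (e _)⁻¹ ∈ _
    rw [hcx, inv_inv]
    exact hsub _ ⟨x, hx, rfl⟩

end Cfsg.Agent.S2002
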