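import Cfsg.Statements.S2004
import Cfsg.Agent.Lib.Qd.Basic
import Cfsg.Agent.Lib.Involves.Basic
import Cfsg.Agent.S2795

set_option autoImplicit false
open Cfsg

namespace Cfsg.Agent.S2004

open Matrix

variable (p : ℕ) [Fact p.Prime]

/-- The linear part of `Qd(p)`. -/
def linPart : ↥(Cfsg.qd p) →* SpecialLinearGroup (Fin 2) (ZMod p) :=
  MonoidHom.mk'
    (fun q => ⟨!![(q : SpecialLinearGroup (Fin 3) (ZMod p)).1 0 0, (q : SpecialLinearGroup (Fin 3) (ZMod p)).1 0 1;
        (q : SpecialLinearGroup (Fin 3) (ZMod p)).1 1 0, (q : SpecialLinearGroup (Fin 3) (ZMod p)).1 1 1], by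
      obtain ⟨a, b, c, e, x, y, h, rfl⟩ := Qd.exists_el p q
      simpa [Qd.el, Matrix.det_fin_two] using h⟩)
    (by
      intro q q'
      obtain ⟨a, b, c, e, x, y, h, rfl⟩ := Qd.exists_el p q
      obtain ⟨a', b', c', e', x', y', h', rfl⟩ := Qd.exists_el p q'
      rw [Qd.el_mul]
      refine Matrix.SpecialLinearGroup.ext _ _ fun i j => ?_
      show _ = ((!![a, b; c, e] : Matrix (Fin 2) (Fin 2) (ZMod p)) * !![a', b'; c', e']) i j
      fin_cases i <;> fin_cases j <;>
        simp [Qd.el, Matrix.mul_apply, Fin.sum_univ_two])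

theorem linPart_surjective : Function.Surjective (linPart p) := by
  intro M
  refine ⟨Qd.el p (M.1 0 0) (M.1 0 1) (M.1 1 0) (M.1 1 1) 0 0
    (by have := M.2; rwa [Matrix.det_fin_two] at this), ?_⟩
  refine Matrix.SpecialLinearGroup.ext _ _ fun i j => ?_
  fin_cases i <;> fin_cases j <;> simp [linPart, MonoidHom.mk'_apply, Qd.el] <;> rfl

/-- A section `Qd(p)` yields a section `SL₂(p)` in the normalizer of a nontrivial `p`-subgroup. -/
theorem local_sl2 {G : Type*} [Group G] [Finite G] (h : Cfsg.Involves ↥(Cfsg.qd p) G) :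
    ∃ P : Subgroup G, IsPGroup p ↥P ∧ P ≠ ⊥ ∧
      Cfsg.Involves (SpecialLinearGroup (Fin 2) (ZMod p)) ↥(Subgroup.normalizer (P : Set G)) := by
  obtain ⟨K, f, hf⟩ := Involves.exists_hom_of_involves h
  set E := (Qd.transE p).comap f with hE
  haveI : E.Normal := Subgroup.Normal.comap inferInstance f
  obtain ⟨S⟩ : Nonempty (Sylow p E) := inferInstance
  set P₀ := (S : Subgroup E).map E.subtype with hP₀
  have hmax : (S : Subgroup E).map (f.subgroupComap (Qd.transE p)) = ⊤ := by
    have hs : Function.Surjective (f.subgroupComap (Qd.transE p)) :=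
      MonoidHom.subgroupComap_surjective_of_surjective f (Qd.transE p) hf
    have := (S.mapSurjective hs).is_maximal' (Q := ⊤) ((Qd.isPGroup_transE p).to_subgroup ⊤) le_top
    simpa using this.symm
  have htr : Qd.tr p 1 0 ≠ 1 := fun e => by
    rw [← Qd.tr_zero, Qd.tr, Qd.tr, Qd.el_eq_iff] at e
    exact one_ne_zero e.2.2.2.2.1
  have hP₀ne : P₀ ≠ ⊥ := by
    intro e
    have hb : (S : Subgroup E) = ⊥ := (Subgroup.map_eq_bot_iff_of_injective _ E.subtype_injective).1 e
    rw [hb, Subgroup.map_bot] at hmax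
    have : (⟨_, Qd.tr_mem p 1 0⟩ : Qd.transE p) ∈ (⊥ : Subgroup (Qd.transE p)) := hmax ▸ Subgroup.mem_top _
    exact htr (congrArg Subtype.val (Subgroup.mem_bot.1 this))
  refine ⟨P₀.map K.subtype, (S.isPGroup'.map _).map _, fun e => hP₀ne
    ((Subgroup.map_eq_bot_iff_of_injective _ K.subtype_injective).1 e), ?_⟩
  set N := Subgroup.normalizer (P₀ : Set ↥K) with hN
  have hNE : N ⊔ E = ⊤ := Sylow.normalizer_sup_eq_top S
  set φ := (linPart p).comp f with hφ
  have hNsurj : Function.Surjective (φ.comp N.subtype) := by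
    intro M
    obtain ⟨q, rfl⟩ := linPart_surjective p M
    obtain ⟨x, rfl⟩ := hf q
    have hx : x ∈ ((N ⊔ E : Subgroup ↥K) : Set ↥K) := by rw [hNE]; exact Subgroup.mem_top x
    rw [Subgroup.mul_normal N E] at hx
    · obtain ⟨n, hn, e, he, rfl⟩ := hx
      refine ⟨⟨n, hn⟩, ?_⟩
      obtain ⟨u, v, huv⟩ : f e ∈ Qd.transE p := he
      have h1 : linPart p (f e) = 1 := by
        rw [huv]
        refine Matrix.SpecialLinearGroup.ext _ _ fun i j => ?_
        fin_cases i <;> fin_cases j <;> simp [linPart, MonoidHom.mk'_apply, Qd.tr, Qd.el] <;> rfl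
      show linPart p (f n) = linPart p (f (n * e))
      rw [map_mul, map_mul, h1, mul_one]
  have hle : ∀ n : N, ((n : ↥K) : G) ∈ Subgroup.normalizer ((P₀.map K.subtype : Subgroup G) : Set G) := by
    intro n
    have := Subgroup.le_normalizer_map (H := P₀) K.subtype (Subgroup.mem_map_of_mem K.subtype n.2)
    exact this
  set ι : N →* ↥(Subgroup.normalizer ((P₀.map K.subtype : Subgroup G) : Set G)) :=
    (K.subtype.comp N.subtype).codRestrict _ hle
  have hι : Function.Injective ι := fun a b e =>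
    N.subtype_injective (K.subtype_injective (congrArg Subtype.val e :))
  let e := MonoidHom.ofInjective hι
  exact Involves.involves_of_hom ((φ.comp N.subtype).comp e.symm.toMonoidHom)
    (hNsurj.comp e.symm.surjective)

/-- Let p be an odd prime and G a finite group such that SL₂(p) is not involved in N_G(P) for any nonidentity p-subgroup P of G. Then every section of G is p-stable in the normalizer form: in each section, whenever an element of the normalizer of a p-subgroup Q acts quadratically on Q, its image in N(Q)/C(Q) lies in O_p(N(Q)/C(Q)). -/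
theorem result {G : Type*} [Group G] [Finite G] {p : ℕ} [Fact p.Prime] (hp : p ≠ 2) (h : ∀ P : Subgroup G, IsPGroup p ↥P → P ≠ ⊥ → ¬ Cfsg.Involves (Matrix.SpecialLinearGroup (Fin 2) (ZMod p)) ↥(Subgroup.normalizer ((P : Subgroup G) : Set G))) : ∀ (K R : Subgroup G) [hR : (R.subgroupOf K).Normal], Cfsg.IsNormalizerPStable p (↥K ⧸ R.subgroupOf K) := by
  refine (S2795.result hp).1 fun hq => ?_
  obtain ⟨P, hP, hne, hinv⟩ := local_sl2 p hq
  exact h P hP hne hinv

end Cfsg.Agent.S2004
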