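import Cfsg.Statements.S2005
import Cfsg.Agent.Lib.FunctorControl.NormalComplement
import Cfsg.Agent.Lib.FunctorControl.FusionApps
import Cfsg.Agent.Lib.FunctorControl.NormalComplementApps

set_option autoImplicit false
universe u
open Cfsg
open scoped commutatorElement

namespace Cfsg.Agent.S2005

/-- Thompson's normal p-complement criterion in functor form. Let p be a prime, G a finite group with Sylow p-subgroup S, and W an isomorphism-invariant p-group functor (W assigns to every group Q a subgroup W(Q), nontrivial whenever Q is a nontrivial finite p-group, and every isomorphism from a finite p-group Q onto a group R carries W(Q) onto W(R)). Suppose N_G(W(S)) has a normal p-complement, and that W(S*) is normal in G* whenever G* = K/R is a section of G with C_{G*}(O_p(G*)) ≤ O_p(G*) such that G*/O_p(G*) has a normal p-complement, and S* is a Sylow p-subgroup of G* that is a maximal subgroup of G*. Then G has a normal p-complement. -/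
theorem result {G : Type u} [Group G] [Finite G] {p : ℕ} [Fact p.Prime] (W : ∀ (Q : Type u) [Group Q], Subgroup Q) (hW : Cfsg.IsCharPFunctor.{u} p W) (S : Sylow p G) (hN : Cfsg.HasNormalPComplement p ↥(Subgroup.normalizer ((Cfsg.inducedFunctor (G := G) W (S : Subgroup G) : Subgroup G) : Set G))) (hloc : ∀ (K R : Subgroup G) [hR : (R.subgroupOf K).Normal], Subgroup.centralizer ((Cfsg.pCore p (↥K ⧸ R.subgroupOf K) : Subgroup (↥K ⧸ R.subgroupOf K)) : Set (↥K ⧸ R.subgroupOf K)) ≤ Cfsg.pCore p (↥K ⧸ R.subgroupOf K) → Cfsg.HasNormalPComplement p ((↥K ⧸ R.subgroupOf K) ⧸ Cfsg.pCore p (↥K ⧸ R.subgroupOf K)) → ∀ T : Sylow p (↥K ⧸ R.subgroupOf K), IsCoatom (T : Subgroup (↥K ⧸ R.subgroupOf K)) → (Cfsg.inducedFunctor (G := (↥K ⧸ R.subgroupOf K)) W ((T : Subgroup (↥K ⧸ R.subgroupOf K)))).Normal) : Cfsg.HasNormalPComplement p G := by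
  refine FunctorControl.hasNormalPComplement_induction hW (fun X _ _ hX T hr hT => ?_) G
    (FunctorControl.IsSec.refl G) S hN
  obtain ⟨K, R, hR, ⟨e'⟩⟩ := hX.exists_equiv
  let e := e'.symm
  let T' := T.mapSurjective (f := e.toMonoidHom) e.surjective
  have hT' : (T' : Subgroup (↥K ⧸ R.subgroupOf K)) = (T : Subgroup X).map e.toMonoidHom :=
    Sylow.coe_mapSurjective _ T
  refine FunctorControl.not_normal_of_reduced hW T hr hT e (hT' ▸ ?_)
  refine hloc K R (FunctorControl.centralizer_pCore_le_equiv e hr.centralizer_le)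
    (FunctorControl.hnpc_quotient_pCore_of_shape (hr.shape.map e.toMonoidHom e.surjective)) T' ?_
  rw [hT']
  exact (e.mapSubgroup.isCoatom_iff _).2 (FunctorControl.isCoatom_of_reduced T hr)

end Cfsg.Agent.S2005
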