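import Cfsg.Statements.S2007
import Cfsg.Agent.Lib.Transfer.Alperin
import Cfsg.Agent.Lib.PLocal.Action
import Cfsg.Agent.Lib.PLocal.Quotient

set_option autoImplicit false
open Cfsg

namespace Cfsg.Agent.S2007

/-- Let p be a prime, G a finite group with Sylow p-subgroup S, and T a normal subgroup of S containing C_S(T). If N_G(T)/C_G(T) is a p-group (every element of N_G(T) of order prime to p centralizes T), then N_G(T) has a normal p-complement. -/
theorem result {G : Type*} [Group G] [Finite G] {p : ℕ} [Fact p.Prime] (S : Sylow p G) (T : Subgroup G) (hTS : T ≤ (S : Subgroup G)) (hTn : (S : Subgroup G) ≤ Subgroup.normalizer ((T : Subgroup G) : Set G)) (hC : (S : Subgroup G) ⊓ Subgroup.centralizer ((T : Subgroup G) : Set G) ≤ T) (hN : ∀ g ∈ Subgroup.normalizer ((T : Subgroup G) : Set G), (orderOf g).Coprime p → g ∈ Subgroup.centralizer ((T : Subgroup G) : Set G)) : Cfsg.HasNormalPComplement p ↥(Subgroup.normalizer ((T : Subgroup G) : Set G)) := by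
  set N := Subgroup.normalizer (T : Set G)
  refine Transfer.hasNormalPComplement_of_local (S.subtype hTn) fun R hR _ n hn hnp => ?_
  have hRS : ∀ q ∈ R, (q : G) ∈ (S : Subgroup G) := fun q hq => by
    have := hR.1 hq
    rwa [Sylow.coe_subtype, Subgroup.mem_subgroupOf] at this
  have hnG : (orderOf (n : G)).Coprime p := by rwa [Subgroup.orderOf_coe]
  have hnC := hN n n.2 hnG
  have hCN : N ≤ Subgroup.normalizer ((Subgroup.centralizer (T : Set G) : Subgroup G) : Set G) :=
    PLocal.normalizer_le_normalizer_centralizer T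
  refine Subgroup.mem_centralizer_iff.2 fun q hq => Subtype.ext ?_
  set w : G := (n : G) * q * (n : G)⁻¹ * (q : G)⁻¹ with hw
  have hwS : w ∈ (S : Subgroup G) := (S : Subgroup G).mul_mem
    (hRS _ ((Subgroup.mem_normalizer_iff.1 hn q).1 hq)) ((S : Subgroup G).inv_mem (hRS q hq))
  have hwC : w ∈ Subgroup.centralizer (T : Set G) := by
    have h1 : (q : G) * (n : G)⁻¹ * (q : G)⁻¹ ∈ Subgroup.centralizer (T : Set G) :=
      (Subgroup.mem_normalizer_iff.1 (hCN q.2) _).1 (Subgroup.inv_mem _ hnC)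
    rw [hw, mul_assoc, mul_assoc, ← mul_assoc (q : G)]
    exact Subgroup.mul_mem _ hnC h1
  have hnw : (n : G) * w = w * n := (Subgroup.mem_centralizer_iff.1 hnC w (hC ⟨hwS, hwC⟩)).symm
  have h2 := PLocal.conj_pow_eq hw hnw (orderOf (n : G))
  rw [pow_orderOf_eq_one, one_mul, inv_one, mul_one, right_eq_mul] at h2
  obtain ⟨k, hk⟩ := S.isPGroup' ⟨w, hwS⟩
  have h3 := pow_gcd_eq_one.2 ⟨h2, (congrArg Subtype.val hk : w ^ p ^ k = 1)⟩
  rw [Nat.coprime_iff_gcd_eq_one.1 (hnG.pow_right k), pow_one, hw, mul_inv_eq_one] at h3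
  show (q : G) * n = n * q
  exact (mul_inv_eq_iff_eq_mul.1 h3).symm

end Cfsg.Agent.S2007
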