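import Cfsg.Statements.S2008
import Cfsg.Agent.EqLemmas

set_option autoImplicit false
open Cfsg

namespace Cfsg.Agent.S2008

/-- Let H be a finite group and z an involution such that every proper normal subgroup of H meets the centralizer of z trivially, and suppose z lies in a Klein four-subgroup E of H all three of whose involutions are conjugate to z in H. Then H has no non-trivial abelian normal subgroup. -/
theorem result {H : Type*} [Group H] [Finite H] (z : H) (hz : orderOf z = 2) (hN : ∀ N : Subgroup H, N.Normal → N ≠ ⊤ → N ⊓ Subgroup.centralizer ({z} : Set H) = ⊥) (E : Subgroup H) (hE : IsKleinFour ↥E) (hzE : z ∈ E) (hc : ∀ e ∈ E, e ≠ 1 → IsConj z e) (N : Subgroup H) [N.Normal] (hab : IsMulCommutative ↥N) : N = ⊥ := by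
  by_contra hne
  obtain ⟨inv, hfix⟩ : (∀ e ∈ E, e ≠ 1 → ∀ n ∈ N, e * n * e⁻¹ = n⁻¹) ∧ N ⊓ Subgroup.centralizer {z} = ⊥ := by
    by_cases hT : N = ⊤
    · -- `H` is abelian, so the three involutions of `E` cannot be conjugate
      exfalso
      have hcomm : ∀ a b : H, a * b = b * a := fun a b =>
        congrArg Subtype.val (hab.is_comm.comm ⟨a, hT ▸ Subgroup.mem_top a⟩ ⟨b, hT ▸ Subgroup.mem_top b⟩)
      have hle : ∀ e ∈ E, e = 1 ∨ e = z := fun e he => by
        by_cases h1 : e = 1
        · exact Or.inl h1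
        · obtain ⟨c, hc'⟩ := isConj_iff.1 (hc e he h1)
          exact Or.inr (by rw [← hc', hcomm c z]; group)
      have h4 := hE.card_four
      have : Nat.card E ≤ 2 := by
        calc Nat.card E = Set.ncard (E : Set H) := (Nat.card_coe_set_eq _)
          _ ≤ Set.ncard ({1, z} : Set H) := Set.ncard_le_ncard (fun e he => hle e he) (Set.toFinite _)
          _ ≤ 2 := (Set.ncard_insert_le _ _).trans (by simp)
      omega
    have hfix := hN N inferInstance hT
    refine ⟨fun e he h1 n hn => ?_, hfix⟩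
    have hz2 : z * z = 1 := by rw [← pow_two, ← hz]; exact pow_orderOf_eq_one z
    have hzi : z⁻¹ = z := inv_eq_of_mul_eq_one_left hz2
    have key : ∀ m ∈ N, z * m * z⁻¹ = m⁻¹ := by
      intro m hm
      have hm' : z * m * z⁻¹ ∈ N := (inferInstance : N.Normal).conj_mem m hm z
      have hc1 : m * (z * m * z⁻¹) = (z * m * z⁻¹) * m :=
        congrArg Subtype.val (hab.is_comm.comm ⟨m, hm⟩ ⟨_, hm'⟩)
      have hmem : m * (z * m * z⁻¹) ∈ N ⊓ Subgroup.centralizer {z} := by
        refine ⟨mul_mem hm hm', Subgroup.mem_centralizer_singleton_iff.2 ?_⟩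
        calc m * (z * m * z⁻¹) * z = m * z * m := by group
          _ = z * ((z * m * z⁻¹) * m) := by rw [hzi]; simp only [← mul_assoc, hz2, one_mul]
          _ = z * (m * (z * m * z⁻¹)) := by rw [hc1]
      rw [hfix, Subgroup.mem_bot] at hmem
      exact eq_inv_of_mul_eq_one_right hmem
    obtain ⟨c, rfl⟩ := isConj_iff.1 (hc e he h1)
    have hn' : c⁻¹ * n * c ∈ N := by simpa using (inferInstance : N.Normal).conj_mem n hn c⁻¹
    calc c * z * c⁻¹ * n * (c * z * c⁻¹)⁻¹ = c * (z * (c⁻¹ * n * c) * z⁻¹) * c⁻¹ := by group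
      _ = n⁻¹ := by rw [key _ hn']; group
  obtain ⟨n, hn, hn1⟩ := N.bot_or_exists_ne_one.resolve_left hne
  have hz1 : z ≠ 1 := fun h => by simp [h] at hz
  obtain ⟨e, he, he1, hez⟩ : ∃ e ∈ E, e ≠ 1 ∧ e ≠ z := by
    by_contra hno
    have h4 := hE.card_four
    have : Nat.card E ≤ 2 := by
      calc Nat.card E = Set.ncard (E : Set H) := (Nat.card_coe_set_eq _)
        _ ≤ Set.ncard ({1, z} : Set H) := Set.ncard_le_ncard (fun a ha => by
            by_contra hh
            simp only [Set.mem_insert_iff, Set.mem_singleton_iff, not_or] at hh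
            exact hno ⟨a, ha, hh.1, hh.2⟩) (Set.toFinite _)
        _ ≤ 2 := (Set.ncard_insert_le _ _).trans (by simp)
    omega
  have hzez : z * e ∈ E := mul_mem hzE he
  have hze1 : z * e ≠ 1 := by
    intro h
    have hz2 : z * z = 1 := by rw [← pow_two, ← hz]; exact pow_orderOf_eq_one z
    exact hez (mul_left_cancel (h.trans hz2.symm))
  have e1 := inv (z * e) hzez hze1 n hn
  have e2 : z * e * n * (z * e)⁻¹ = n := by
    calc z * e * n * (z * e)⁻¹ = z * (e * n * e⁻¹) * z⁻¹ := by group
      _ = z * n⁻¹ * z⁻¹ := by rw [inv e he he1 n hn]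
      _ = n := by rw [inv z hzE hz1 _ (inv_mem hn), inv_inv]
  have e3 : n⁻¹ = n := e1.symm.trans e2
  have : n ∈ N ⊓ Subgroup.centralizer {z} := by
    refine ⟨hn, Subgroup.mem_centralizer_singleton_iff.2 ?_⟩
    have := inv z hzE hz1 n hn
    rw [e3] at this
    exact (mul_inv_eq_iff_eq_mul.1 this).symm
  rw [hfix, Subgroup.mem_bot] at this
  exact hn1 this

end Cfsg.Agent.S2008
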