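import Cfsg.Statements.S2009
import Cfsg.Agent.S2008

set_option autoImplicit false
open Cfsg

namespace Cfsg.Agent.S2009

/-- Let H be a finite group and z an involution such that every proper normal subgroup of H meets the centralizer of z trivially, and suppose z lies in a Klein four-subgroup E of H all three of whose involutions are conjugate to z in H. Then H is simple. -/
theorem result {H : Type*} [Group H] [Finite H] (z : H) (hz : orderOf z = 2) (hN : ∀ N : Subgroup H, N.Normal → N ≠ ⊤ → N ⊓ Subgroup.centralizer ({z} : Set H) = ⊥) (E : Subgroup H) (hE : IsKleinFour ↥E) (hzE : z ∈ E) (hc : ∀ e ∈ E, e ≠ 1 → IsConj z e) : IsSimpleGroup H := by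
  have hz1 : z ≠ 1 := fun h => by simp [h] at hz
  haveI : Nontrivial H := ⟨⟨z, 1, hz1⟩⟩
  refine ⟨fun N hNn => ?_⟩
  by_contra hne
  push Not at hne
  have hfix := hN N hNn hne.2
  -- `z` acts on `N` without fixed points, so inverts it, so `N` is abelian
  have hz2 : z * z = 1 := by rw [← pow_two, ← hz]; exact pow_orderOf_eq_one z
  have hzi : z⁻¹ = z := inv_eq_of_mul_eq_one_left hz2
  let f : ↥N → ↥N := fun n => ⟨(n : H)⁻¹ * (z * n * z⁻¹), mul_mem (inv_mem n.2) (hNn.conj_mem _ n.2 z)⟩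
  have finj : Function.Injective f := by
    intro a b hab
    have hab' : (a : H)⁻¹ * (z * a * z⁻¹) = (b : H)⁻¹ * (z * b * z⁻¹) := congrArg Subtype.val hab
    have hmem : (b : H) * (a : H)⁻¹ ∈ N ⊓ Subgroup.centralizer {z} := by
      refine ⟨N.mul_mem b.2 (N.inv_mem a.2), Subgroup.mem_centralizer_singleton_iff.2 ?_⟩
      have h1 : (b : H) * (a : H)⁻¹ * (z * a * z⁻¹) = z * b * z⁻¹ := by
        rw [mul_assoc, hab']; group
      calc (b : H) * (a : H)⁻¹ * z = ((b : H) * (a : H)⁻¹ * (z * a * z⁻¹)) * (z * (a : H)⁻¹) := by group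
        _ = z * ((b : H) * (a : H)⁻¹) := by rw [h1]; group
    rw [hfix, Subgroup.mem_bot, mul_inv_eq_one] at hmem
    exact Subtype.ext hmem.symm
  have inv : ∀ n ∈ N, z * n * z⁻¹ = n⁻¹ := by
    intro n hn
    obtain ⟨a, ha⟩ := (Finite.injective_iff_surjective.1 finj) ⟨n, hn⟩
    have ha' : (a : H)⁻¹ * (z * a * z⁻¹) = n := congrArg Subtype.val ha
    rw [← ha']
    simp only [hzi, mul_inv_rev, inv_inv, ← mul_assoc]
    simp only [mul_assoc, hz2, mul_one]
  have hab : IsMulCommutative ↥N := ⟨⟨fun a b => Subtype.ext (by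
    have h1 := inv _ (N.mul_mem a.2 b.2)
    have h2 : z * ((a : H) * b) * z⁻¹ = (a : H)⁻¹ * (b : H)⁻¹ := by
      rw [← inv _ a.2, ← inv _ b.2]; group
    rw [h2, ← mul_inv_rev, inv_inj] at h1
    simpa using h1.symm)⟩⟩
  exact hne.1 (S2008.result z hz hN E hE hzE hc N hab)

end Cfsg.Agent.S2009
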