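import Cfsg.Statements.S2011
import Cfsg.Agent.Lib.Transfer.Alperin
import Cfsg.Agent.Lib.Cores.Basic

set_option autoImplicit false
open Cfsg

namespace Cfsg.Agent.S2011

/-- Let G be a finite group with Sylow p-subgroup P and Q ≤ P. Then Q is centric in the fusion system of G on P (C_P(R) ≤ R for every G-conjugate R of Q lying in P) if and only if C_G(Q) is the internal direct product of Z(Q) = Q ∩ C_G(Q) and the largest normal subgroup of C_G(Q) of order prime to p. -/
theorem result {G : Type*} [Group G] [Finite G] (p : ℕ) [Fact p.Prime] (P : Sylow p G) (Q : Subgroup G) (hQ : Q ≤ P) : (Cfsg.groupFusionSystem (P : Subgroup G)).IsCentric Q ↔ Cfsg.IsInternalDirectProduct (Q ⊓ Subgroup.centralizer (Q : Set G)) ((Cfsg.pPrimeCore p ↥(Subgroup.centralizer (Q : Set G))).map (Subgroup.centralizer (Q : Set G)).subtype) (Subgroup.centralizer (Q : Set G)) := by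
  classical
  set C := Subgroup.centralizer (Q : Set G) with hC
  set K := (Cfsg.pPrimeCore p ↥C).map C.subtype with hK
  have hKC : K ≤ C := Subgroup.map_subtype_le _
  have hKcop : (Nat.card K).Coprime p := by
    rw [hK, Subgroup.card_map_of_injective C.subtype_injective]
    exact Cores.coprime_card_pPrimeCore p
  have hQp : IsPGroup p Q := P.isPGroup'.to_le hQ
  have hcom : ∀ a ∈ Q ⊓ C, ∀ b ∈ C, a * b = b * a := fun a ha b hb => Subgroup.mem_centralizer_iff.1 hb a ha.1
  constructor
  · intro hc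
    refine ⟨inf_le_right, hKC, fun a ha b hb => hcom a ha b (hKC hb), ?_, ?_⟩
    · obtain ⟨k, hk⟩ := IsPGroup.iff_card.1 (hQp.to_le (inf_le_left : Q ⊓ C ≤ Q))
      exact Subgroup.inf_eq_bot_of_coprime (by rw [hk]; exact (hKcop.symm).pow_left k)
    · let R : Sylow p C := default
      have hRQ : ∀ r ∈ (R : Subgroup C), (r : G) ∈ Q := by
        intro r hr
        set R0 := (R : Subgroup C).map C.subtype
        have hR0 : R0 ≤ Subgroup.normalizer (Q : Set G) :=
          (Subgroup.map_subtype_le _).trans (Subgroup.centralizer_le_normalizer _)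
        obtain ⟨S', hS'⟩ := (hQp.to_sup_of_normal_left' (R.isPGroup'.map C.subtype) hR0).exists_le_sylow
        obtain ⟨g, hg⟩ := MulAction.exists_smul_eq G S' P
        have hgP : ∀ y ∈ Q ⊔ R0, g * y * g⁻¹ ∈ (P : Subgroup G) := fun y hy => by
          rw [← hg, Sylow.coe_subgroup_smul]
          exact ⟨y, hS' hy, rfl⟩
        have hconj : (Cfsg.groupFusionSystem (P : Subgroup G)).IsConj Q
            (Q.map (MulAut.conj g).toMonoidHom) := by
          refine ⟨((MulAut.conj g).toMonoidHom).comp Q.subtype,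
            ⟨hQ, fun x => hgP _ (Subgroup.mem_sup_left x.2), g, fun x => rfl⟩, ?_⟩
          rw [MonoidHom.range_eq_map, ← Subgroup.map_map, ← MonoidHom.range_eq_map, Subgroup.range_subtype]
        have hmem : g * (r : G) * g⁻¹ ∈ Cfsg.FusionSystem.centralizerIn (P : Subgroup G)
            (Q.map (MulAut.conj g).toMonoidHom) := by
          refine ⟨hgP _ (Subgroup.mem_sup_right ⟨r, hr, rfl⟩), Subgroup.mem_centralizer_iff.2 ?_⟩
          rintro _ ⟨y, hy, rfl⟩
          show g * y * g⁻¹ * (g * r * g⁻¹) = g * r * g⁻¹ * (g * y * g⁻¹)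
          calc g * y * g⁻¹ * (g * r * g⁻¹) = g * (y * r) * g⁻¹ := by group
            _ = g * (r * y) * g⁻¹ := by rw [Subgroup.mem_centralizer_iff.1 r.2 y hy]
            _ = g * r * g⁻¹ * (g * y * g⁻¹) := by group
        obtain ⟨y, hy, he⟩ := hc.2 _ hconj hmem
        rwa [← show (y : G) = r from mul_left_cancel (mul_right_cancel he)]
      have hnpc : Cfsg.HasNormalPComplement p C := by
        refine Transfer.hasNormalPComplement_of_local R fun T hT _ n _ _ =>
          Subgroup.mem_centralizer_iff.2 fun t ht => Subtype.ext ?_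
        exact hcom t ⟨hRQ t (hT.1 ht), t.2⟩ n n.2
      have hres : Cfsg.pResidual p C ≤ Cfsg.pPrimeCore p C :=
        Cores.le_pPrimeCore Transfer.pResidual_normal (Transfer.hasNormalPComplement_iff_coprime.1 hnpc)
      refine le_antisymm (sup_le inf_le_right hKC) ?_
      have htop : (R : Subgroup C) ⊔ Cfsg.pPrimeCore p C = ⊤ :=
        top_le_iff.1 ((Transfer.sup_pResidual_eq_top R.not_dvd_index).ge.trans (sup_le_sup_left hres _))
      calc C = ((R : Subgroup C) ⊔ Cfsg.pPrimeCore p C).map C.subtype := by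
            rw [htop, ← MonoidHom.range_eq_map, Subgroup.range_subtype]
        _ ≤ (Q ⊓ C) ⊔ K := by
            rw [Subgroup.map_sup]
            refine sup_le_sup_right ?_ _
            rintro _ ⟨r, hr, rfl⟩
            exact ⟨hRQ r hr, r.2⟩
  · rintro ⟨-, -, hcm, -, hsup⟩
    refine ⟨hQ, ?_⟩
    rintro _ ⟨φ, ⟨-, hφP, g, hg⟩, rfl⟩ x ⟨hxP, hxC⟩
    have hmem : g⁻¹ * x * g ∈ C := by
      refine Subgroup.mem_centralizer_iff.2 fun y hy => ?_
      have h1 : g * y * g⁻¹ * x = x * (g * y * g⁻¹) := by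
        rw [← hg ⟨y, hy⟩]
        exact Subgroup.mem_centralizer_iff.1 hxC _ ⟨⟨y, hy⟩, rfl⟩
      calc y * (g⁻¹ * x * g) = g⁻¹ * (g * y * g⁻¹ * x) * g := by group
        _ = g⁻¹ * (x * (g * y * g⁻¹)) * g := by rw [h1]
        _ = g⁻¹ * x * g * y := by group
    have hKcent : K ≤ Subgroup.centralizer ((Q ⊓ C : Subgroup G) : Set G) :=
      fun b hb => Subgroup.mem_centralizer_iff.2 fun a ha => hcm a ha b hb
    have hnorm : K ≤ Subgroup.normalizer ((Q ⊓ C : Subgroup G) : Set G) :=
      hKcent.trans (Subgroup.centralizer_le_normalizer _)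
    have h1 : g⁻¹ * x * g ∈ (((Q ⊓ C : Subgroup G) ⊔ K : Subgroup G) : Set G) := hsup.ge hmem
    rw [Subgroup.coe_mul_of_right_le_normalizer_left _ _ hnorm] at h1
    obtain ⟨z, hz, k, hk, hzk⟩ := Set.mem_mul.1 h1
    obtain ⟨a, ha'⟩ := P.isPGroup' ⟨x, hxP⟩
    obtain ⟨b, hb'⟩ := hQp ⟨z, hz.1⟩
    have ha : x ^ p ^ a = 1 := congrArg Subtype.val ha'
    have hb : z ^ p ^ b = 1 := congrArg Subtype.val hb'
    have hk1 : k ^ p ^ (a + b) = 1 := by
      have e1 : (g⁻¹ * x * g) ^ p ^ (a + b) = 1 := by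
        have hxa : x ^ p ^ (a + b) = 1 := by
          rw [pow_add, pow_mul, ha, one_pow]
        have := conj_pow (a := g⁻¹) (b := x) (i := p ^ (a + b))
        rw [inv_inv] at this
        rw [this, hxa, mul_one, inv_mul_cancel]
      have hzb : z ^ p ^ (a + b) = 1 := by
        rw [add_comm a b, pow_add, pow_mul, hb, one_pow]
      rw [← hzk, (show Commute z k from hcm z hz k hk).mul_pow, hzb, one_mul] at e1
      exact e1
    have hk2 : k ^ Nat.card K = 1 :=
      congrArg Subtype.val (pow_card_eq_one' (x := (⟨k, hk⟩ : K)))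
    have hk3 := pow_gcd_eq_one.2 ⟨hk2, hk1⟩
    rw [Nat.coprime_iff_gcd_eq_one.1 (hKcop.pow_right _), pow_one] at hk3
    rw [hk3, mul_one] at hzk
    refine ⟨⟨z, hz.1⟩, ?_⟩
    rw [hg]
    show g * z * g⁻¹ = x
    rw [hzk]
    group

end Cfsg.Agent.S2011
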