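import Cfsg.Statements.S2012
import Cfsg.Agent.Lib.Fusion.TameChain

set_option autoImplicit false
open Cfsg

namespace Cfsg.Agent.S2012

open Cfsg.Agent.TameChain

variable {G : Type*} [Group G] {p : ℕ}

/-- The condition on a step of the refined chain. -/
def GoodStep (P Q : Sylow p G) (x : G) : Prop :=
  (Q : Subgroup G) = (P : Subgroup G) ∨ ∃ k : ℕ, orderOf x = p ^ k

/-- Chains whose steps outside `N(P)` are `p`-elements. -/
inductive Chain2 (P : Sylow p G) : Set G → G → Prop
  | nil (A : Set G) : Chain2 P A 1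
  | cons (A : Set G) (Q : Sylow p G) (x g : G) (hx : x ∈ interNormalizer P Q) (ht : IsTame P Q)
      (hgood : GoodStep P Q x)
      (hA : A ⊆ (((P : Subgroup G) ⊓ (Q : Subgroup G) : Subgroup G) : Set G))
      (h : Chain2 P (conjSet x A) g) : Chain2 P A (x * g)

theorem Chain2.mono {P : Sylow p G} {A B : Set G} {g : G} (h : Chain2 P B g) (hAB : A ⊆ B) :
    Chain2 P A g := by
  induction h generalizing A with
  | nil => exact Chain2.nil _
  | cons B Q x g hx ht hgood hA _ ih =>
    exact Chain2.cons _ Q x g hx ht hgood (hAB.trans hA) (ih (conjSet_mono x hAB))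

theorem Chain2.append {P : Sylow p G} {A : Set G} {g k : G} (h : Chain2 P A g)
    (h' : Chain2 P (conjSet g A) k) : Chain2 P A (g * k) := by
  induction h with
  | nil A => rw [one_mul]; rwa [conjSet_one] at h'
  | cons A Q x g hx ht hgood hA _ ih =>
    rw [mul_assoc]
    exact Chain2.cons _ Q x _ hx ht hgood hA (ih (by rwa [conjSet_mul] at h'))

variable [Finite G] [Fact p.Prime]

theorem ncard_conjSet (x : G) (A : Set G) : (conjSet x A).ncard = A.ncard :=
  Set.ncard_image_of_injective A fun a b h => mul_left_cancel (mul_right_cancel h)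

theorem convert_chain {P : Sylow p G} {m : ℕ}
    (hstep : ∀ (Q : Sylow p G) (x : G), x ∈ interNormalizer P Q → IsTame P Q →
      m ≤ (((P : Subgroup G) ⊓ (Q : Subgroup G) : Subgroup G) : Set G).ncard →
      Chain2 P (((P : Subgroup G) ⊓ (Q : Subgroup G) : Subgroup G) : Set G) x)
    {A : Set G} {g : G} (h : Chain P A g) (hA : m ≤ A.ncard) : Chain2 P A g := by
  induction h with
  | nil A => exact Chain2.nil _
  | cons A Q x g hx ht hAQ _ ih =>
    exact ((hstep Q x hx ht (hA.trans (Set.ncard_le_ncard hAQ (Set.toFinite _)))).mono hAQ).append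
      (ih ((ncard_conjSet x A).symm ▸ hA))

theorem step_chain2 (P : Sylow p G) : ∀ (c : ℕ) (Q : Sylow p G) (x : G), x ∈ interNormalizer P Q →
    IsTame P Q → Nat.card (P : Subgroup G) ≤ (((P : Subgroup G) ⊓ (Q : Subgroup G) : Subgroup G) : Set G).ncard + c →
    Chain2 P (((P : Subgroup G) ⊓ (Q : Subgroup G) : Subgroup G) : Set G) x := by
  intro c
  induction c using Nat.strong_induction_on with
  | _ c ih =>
    intro Q x hx ht hc
    set D : Subgroup G := (P : Subgroup G) ⊓ (Q : Subgroup G) with hD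
    by_cases hQP : (Q : Subgroup G) = (P : Subgroup G)
    · have := Chain2.cons (D : Set G) Q x 1 hx ht (Or.inl hQP) le_rfl (Chain2.nil _)
      rwa [mul_one] at this
    set N := interNormalizer P Q with hN
    have hNdef : N = Subgroup.normalizer (D : Set G) := rfl
    set P' := (P : Subgroup G).subgroupOf N with hP'
    have hP'i : ¬ p ∣ P'.index := by
      have := ht.1
      rwa [Subgroup.inf_relIndex_right] at this
    let S : Sylow p N := (P.isPGroup'.comap_subtype (K := N) : IsPGroup p P').toSylow hP'i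
    have hS : (S : Subgroup N) = P' := rfl
    -- the subgroup generated by the `p`-elements
    set K := Subgroup.closure {y : N | ∃ k : ℕ, orderOf y = p ^ k} with hK
    haveI hKn : K.Normal := by
      refine Subgroup.normalizer_eq_top_iff.1 (top_le_iff.1 (le_trans ?_
        (Subgroup.normalizer_le_normalizer_closure _)))
      intro z _
      refine Subgroup.mem_set_normalizer_iff.2 fun y => ?_
      simp only [Set.mem_setOf_eq]
      rw [show orderOf (z * y * z⁻¹) = orderOf y from MulEquiv.orderOf_eq (MulAut.conj z) y]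
    have hSK : (S : Subgroup N) ≤ K := fun y hy => Subgroup.subset_closure (by
      obtain ⟨k, hk⟩ := IsPGroup.iff_orderOf.1 S.isPGroup' ⟨y, hy⟩
      exact ⟨k, by rwa [Subgroup.orderOf_mk] at hk⟩)
    have hKchain : ∀ y : N, y ∈ K → Chain2 P (D : Set G) (y : G) ∧ Chain2 P (D : Set G) ((y : G)⁻¹) := by
      intro y hy
      induction hy using Subgroup.closure_induction with
      | mem y hy =>
        obtain ⟨k, hk⟩ := hy
        constructor
        · have := Chain2.cons (D : Set G) Q (y : G) 1 y.2 ht (Or.inr ⟨k, by rwa [Subgroup.orderOf_coe]⟩)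
            le_rfl (Chain2.nil _)
          rwa [mul_one] at this
        · have := Chain2.cons (D : Set G) Q ((y : G)⁻¹) 1 (inv_mem y.2) ht
            (Or.inr ⟨k, by rwa [orderOf_inv, Subgroup.orderOf_coe]⟩) le_rfl (Chain2.nil _)
          rwa [mul_one] at this
      | one => exact ⟨by simpa using Chain2.nil _, by simpa using Chain2.nil _⟩
      | mul a b _ _ ha hb =>
        refine ⟨?_, ?_⟩
        · rw [Subgroup.coe_mul]
          exact ha.1.append (by rw [conjSet_eq_self (D := D) a.2]; exact hb.1)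
        · rw [Subgroup.coe_mul, mul_inv_rev]
          exact hb.2.append (by rw [conjSet_eq_self (D := D) (inv_mem b.2)]; exact ha.2)
      | inv a _ ha => exact ⟨by simpa using ha.2, by simpa using ha.1⟩
    have htop : K ⊔ Subgroup.normalizer ((S : Subgroup N) : Set N) = ⊤ := by
      rw [sup_comm]
      exact Sylow.normalizer_sup_eq_top' S hSK
    obtain ⟨e, he, u, hu, heu⟩ := Subgroup.mem_sup_of_normal_left.1 (htop.ge (Subgroup.mem_top (⟨x, hx⟩ : N)))
    -- the bigger intersection
    set D' : Subgroup G := (P : Subgroup G) ⊓ N with hD'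
    have hDP : D < (P : Subgroup G) := lt_of_le_of_ne inf_le_left fun h => hQP
      (P.is_maximal' Q.isPGroup' (inf_eq_left.mp h))
    have hDD' : D < D' := TameChain.lt_normalizer P.isPGroup' hDP
    have hu' : conjSet (u : G) (D' : Set G) ⊆ ((P : Subgroup G) : Set G) := by
      rintro _ ⟨a, ha, rfl⟩
      have := (Subgroup.mem_normalizer_iff''.1 hu (⟨a, ha.2⟩ : N)).1 (show (⟨a, ha.2⟩ : N) ∈ (S : Subgroup N) from ha.1)
      exact this
    have hlt : (D : Set G).ncard < (D' : Set G).ncard := Set.ncard_lt_ncard hDD' (Set.toFinite _)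
    have hD'c : (D' : Set G).ncard ≤ Nat.card (P : Subgroup G) := by
      rw [← Nat.card_coe_set_eq]
      exact Subgroup.card_le_of_le inf_le_left
    have hu2 : Chain2 P (D' : Set G) (u : G) := by
      refine convert_chain (fun Q' y hy ht' hm => ih (Nat.card (P : Subgroup G) - (D' : Set G).ncard) (by omega)
        Q' y hy ht' (by omega)) (TameChain.exists_chain P (SetLike.coe_subset_coe.2 inf_le_left) hu')
        (le_refl (D' : Set G).ncard)
    have hxe : x = (e : G) * u := (congrArg Subtype.val heu).symm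
    rw [hxe]
    refine (hKchain e he).1.append ?_
    rw [conjSet_eq_self (D := D) e.2]
    exact hu2.mono (SetLike.coe_subset_coe.2 hDD'.le)

theorem exists_chain2 (P : Sylow p G) {A : Set G} {g : G} (hA : A ⊆ ((P : Subgroup G) : Set G))
    (hAg : conjSet g A ⊆ ((P : Subgroup G) : Set G)) : Chain2 P A g :=
  convert_chain (m := 0) (fun Q x hx ht _ => step_chain2 P (Nat.card (P : Subgroup G)) Q x hx ht (Nat.le_add_left _ _))
    (TameChain.exists_chain P hA hAg) (Nat.zero_le _)

omit [Finite G] [Fact p.Prime] in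
theorem exists_family2 {P : Sylow p G} {A : Set G} {g : G} (h : Chain2 P A g) :
    ∃ (n : ℕ) (Q : Fin n → Sylow p G) (x : Fin n → G), (List.ofFn x).prod = g ∧
      (∀ i : Fin n, x i ∈ interNormalizer P (Q i) ∧ IsTame P (Q i) ∧ GoodStep P (Q i) (x i)) ∧
      ∀ i : Fin n, conjSet (((List.ofFn x).take i.val).prod) A ⊆
        (((P : Subgroup G) ⊓ (Q i : Subgroup G) : Subgroup G) : Set G) := by
  induction h with
  | nil A => exact ⟨0, Fin.elim0, Fin.elim0, by simp, fun i => i.elim0, fun i => i.elim0⟩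
  | cons A Q₀ x₀ g hx ht hgood hA _ ih =>
    obtain ⟨n, Q, x, hprod, hc, himg⟩ := ih
    refine ⟨n + 1, Fin.cons Q₀ Q, Fin.cons x₀ x, ?_, ?_, ?_⟩
    · rw [List.ofFn_cons, List.prod_cons, hprod]
    · intro i
      refine Fin.cases ?_ (fun j => ?_) i
      · simpa using ⟨hx, ht, hgood⟩
      · simpa using hc j
    · intro i
      refine Fin.cases ?_ (fun j => ?_) i
      · simpa [conjSet_one] using hA
      · rw [List.ofFn_cons, Fin.val_succ, List.take_succ_cons, List.prod_cons, conjSet_mul]
        simpa using himg j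


/-- Alperin's fusion Theorem with the factors taken to be p-elements: let P be a Sylow p-subgroup of a finite group G, A a subset of P and g an element with g⁻¹Ag ⊆ P. Then g = x_1 ⋯ x_n where, for each i, Q_i is a Sylow p-subgroup with P ∩ Q_i a tame intersection (the normalizers in P and in Q_i of P ∩ Q_i are Sylow in N_G(P ∩ Q_i)), x_i normalizes P ∩ Q_i, x_i has p-power order unless Q_i = P, A ⊆ P ∩ Q_1, and (x_1 ⋯ x_i)⁻¹ A (x_1 ⋯ x_i) lies in P ∩ Q_{i+1} for i < n. -/
theorem result {G : Type*} [Group G] [Finite G] {p : ℕ} [Fact p.Prime] (P : Sylow p G) (A : Set G) (g : G) (hA : A ⊆ (P : Set G)) (hAg : (fun a => g⁻¹ * a * g) '' A ⊆ (P : Set G)) : ∃ (n : ℕ) (Q : Fin n → Sylow p G) (x : Fin n → G), (List.ofFn x).prod = g ∧ (∀ i : Fin n, x i ∈ Subgroup.normalizer ((((P : Subgroup G) ⊓ (Q i : Subgroup G)) : Subgroup G) : Set G) ∧ ¬ p ∣ ((P : Subgroup G) ⊓ Subgroup.normalizer ((((P : Subgroup G) ⊓ (Q i : Subgroup G)) : Subgroup G) : Set G)).relIndex (Subgroup.normalizer ((((P : Subgroup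 G) ⊓ (Q i : Subgroup G)) : Subgroup G) : Set G)) ∧ ¬ p ∣ ((Q i : Subgroup G) ⊓ Subgroup.normalizer ((((P : Subgroup G) ⊓ (Q i : Subgroup G)) : Subgroup G) : Set G)).relIndex (Subgroup.normalizer ((((P : Subgroup G) ⊓ (Q i : Subgroup G)) : Subgroup G) : Set G)) ∧ ((Q i : Subgroup G) = (P : Subgroup G) ∨ ∃ k : ℕ, orderOf (x i) = p ^ k)) ∧ (∀ h : 0 < n, A ⊆ (((P : Subgroup G) ⊓ (Q ⟨0, h⟩ : Subgroup G) : Subgroup G) : Set G)) ∧ ∀ i : Fin n, ∀ h : i.val + 1 < n, (fun a => (((List.ofFn x).take (i.val + 1)).prod)⁻¹ * a * ((List.ofFn x).take (i.val + 1)).prod) '' A ⊆ (((P : Subgroup G) ⊓ (Q ⟨i.val + 1, h⟩ : Subgroup G) : Subgroup G) : Set G) := by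
  obtain ⟨n, Q, x, hprod, hc, himg⟩ := exists_family2 (exists_chain2 P hA hAg)
  refine ⟨n, Q, x, hprod, fun i => ⟨(hc i).1, (hc i).2.1.1, (hc i).2.1.2, (hc i).2.2⟩, fun h => ?_,
    fun i h => himg ⟨i.val + 1, h⟩⟩
  have h0 := himg ⟨0, h⟩
  rwa [List.take_zero, List.prod_nil, TameChain.conjSet_one] at h0

end Cfsg.Agent.S2012
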