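import Cfsg.Statements.S2014
import Cfsg.Agent.Lib.AlperinFamily.Basic
import Cfsg.Agent.Lib.Transfer.Residual

set_option autoImplicit false
open Cfsg

namespace Cfsg.Agent.S2014

/-- Let P be a Sylow p-subgroup of a finite group G and A, C ≤ P subgroups conjugate in G, with C extremal: N_P(C) is a Sylow p-subgroup of N_G(C). Then there is g with gAg⁻¹ = C and g N_P(A) g⁻¹ ≤ N_P(C); moreover, given any h with hAh⁻¹ = C, g can be chosen so that h g⁻¹ lies in O^p(N_G(C)), the subgroup of N_G(C) generated by its elements of order prime to p. -/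
theorem result {G : Type*} [Group G] [Finite G] (p : ℕ) [Fact p.Prime] (P : Sylow p G) (A C : Subgroup G) (hA : A ≤ P) (hC : C ≤ P) (hext : ¬ p ∣ ((P : Subgroup G) ⊓ Subgroup.normalizer ((C : Subgroup G) : Set G)).relIndex (Subgroup.normalizer ((C : Subgroup G) : Set G))) (h : G) (hh : A.map (MulAut.conj h).toMonoidHom = C) : ∃ g : G, A.map (MulAut.conj g).toMonoidHom = C ∧ ((P : Subgroup G) ⊓ Subgroup.normalizer ((A : Subgroup G) : Set G)).map (MulAut.conj g).toMonoidHom ≤ (P : Subgroup G) ⊓ Subgroup.normalizer ((C : Subgroup G) : Set G) ∧ h * g⁻¹ ∈ (Cfsg.pResidual p ↥(Subgroup.normalizer ((C : Subgroup G) : Set G))).map (Subgroup.normalizer ((C : Subgroup G) : Set G)).subtype := by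
  set N := Subgroup.normalizer (C : Set G) with hN
  set O := (Cfsg.pResidual p ↥N).map N.subtype
  have hR : IsPGroup p ↥((P : Subgroup G) ⊓ Subgroup.normalizer (A : Set G)) := P.isPGroup'.to_inf_left
  have hle : AlperinFamily.cj h ((P : Subgroup G) ⊓ Subgroup.normalizer (A : Set G)) ≤ N := by
    have := AlperinFamily.cj_le_normalizer h (inf_le_right : (P : Subgroup G) ⊓ Subgroup.normalizer (A : Set G) ≤ _)
    show AlperinFamily.cj h _ ≤ N
    rw [show AlperinFamily.cj h A = C from hh] at this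
    exact this
  have hQ := AlperinFamily.isSylowIn_of_fn P.isPGroup' hext
  obtain ⟨k, hk, hkR⟩ := hQ.exists_conj_le (hR.map _) hle
  -- write `k = s * o`
  obtain ⟨o, ho, hR'⟩ : ∃ o ∈ O, ∀ x ∈ AlperinFamily.cj h ((P : Subgroup G) ⊓ Subgroup.normalizer (A : Set G)),
      o * x * o⁻¹ ∈ (P : Subgroup G) ⊓ N := by
    have htop : ((P : Subgroup G) ⊓ N) ⊔ O = N := by
      have h1 := congrArg (Subgroup.map N.subtype)
        (Transfer.sup_pResidual_eq_top (p := p) (H := ((P : Subgroup G) ⊓ N).subgroupOf N) hext)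
      rw [Subgroup.map_sup, Subgroup.map_subgroupOf_eq_of_le inf_le_right, ← MonoidHom.range_eq_map,
        Subgroup.range_subtype] at h1
      exact h1
    have hON : O ≤ N := Subgroup.map_subtype_le _
    haveI : ((O).subgroupOf N).Normal := by
      rw [Subgroup.subgroupOf, Subgroup.comap_map_eq_self_of_injective N.subtype_injective]
      exact Transfer.pResidual_normal
    have hmem : k ∈ ((P : Subgroup G) ⊓ N) ⊔ O := htop.symm ▸ hk
    rw [← SetLike.mem_coe, Subgroup.coe_mul_of_left_le_normalizer_right _ _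
      (inf_le_right.trans ((Subgroup.normal_subgroupOf_iff_le_normalizer hON).1 inferInstance))] at hmem
    obtain ⟨s, hs, o, ho, rfl⟩ := hmem
    refine ⟨o, ho, fun x hx => ?_⟩
    have h1 := mul_mem (mul_mem (inv_mem hs) (hkR x hx)) hs
    have e : s⁻¹ * (s * o * x * (s * o)⁻¹) * s = o * x * o⁻¹ := by group
    rwa [e] at h1
  refine ⟨o * h, ?_, ?_, ?_⟩
  · show AlperinFamily.cj (o * h) A = C
    rw [← AlperinFamily.cj_cj, show AlperinFamily.cj h A = C from hh, AlperinFamily.cj_eq_iff]
    exact Subgroup.map_subtype_le _ ho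
  · show AlperinFamily.cj (o * h) _ ≤ _
    rw [← AlperinFamily.cj_cj]
    rintro _ ⟨x, hx, rfl⟩
    exact hR' x hx
  · simpa using inv_mem ho

end Cfsg.Agent.S2014
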