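import Cfsg.Statements.S2015
import Cfsg.Agent.S1984
import Cfsg.Agent.EqLemmas

set_option autoImplicit false
universe u
open Cfsg
open scoped commutatorElement

namespace Cfsg.Agent.S2015

/-- For p ≥ 5, every finite p-group P has a characteristic subgroup K containing Z(P), depending only on P, whose normalizer controls transfer wherever P is a Sylow subgroup: for every finite group G and every embedding ι of P onto a Sylow p-subgroup of G, the intersection of ι(P) with the derived subgroup of G equals its intersection with the derived subgroup of N_G(ι(K)). -/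
theorem result (p : ℕ) [Fact p.Prime] (hp : 5 ≤ p) (P : Type u) [Group P] [Finite P] (hP : IsPGroup p P) : ∃ K : Subgroup P, K.Characteristic ∧ Subgroup.center P ≤ K ∧ ∀ (G : Type u) [Group G] [Finite G] (ι : P →* G), Function.Injective ι → (∃ T : Sylow p G, (T : Subgroup G) = ι.range) → ι.range ⊓ commutator G = ι.range ⊓ (commutator ↥(Subgroup.normalizer ((K.map ι : Subgroup G) : Set G))).map (Subgroup.normalizer ((K.map ι : Subgroup G) : Set G)).subtype := by
  haveI := hP.isNilpotent
  refine ⟨kInfLower P, inferInstance, le_trans (Subgroup.center_le_centralizer _) KInfinity.centralizer_kInfLower_le, ?_⟩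
  intro G _ _ ι hι ⟨T, hT⟩
  have hW := KInfinity.isCharPFunctor_kInfLower.{u} p
  have h := FunctorControl.commutator_inf_eq hW (Cfsg.Agent.S1984.result (G := G) (p := p) hp) T
  rw [hT] at h
  have hK : inducedFunctor Cfsg.kInfLower ι.range = (kInfLower P).map ι := by
    have e1 := FunctorControl.map_inducedFunctor hW ι hι (hP.to_subgroup (⊤ : Subgroup P))
    rw [← MonoidHom.range_eq_map] at e1
    have e2 : inducedFunctor Cfsg.kInfLower (⊤ : Subgroup P) = kInfLower P := by
      show (kInfLower ↥(⊤ : Subgroup P)).map (⊤ : Subgroup P).subtype = _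
      rw [← KInfinity.map_kInfLower (Subgroup.topEquiv : (⊤ : Subgroup P) ≃* P)]
      rfl
    rw [e1, e2]
  rw [hK] at h
  rw [Subgroup.map_subtype_commutator]
  exact h


end Cfsg.Agent.S2015
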