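import Cfsg.Statements.S2037
import Cfsg.Agent.Lib.Multiplier.M23Data
-- import your own Cfsg.Agent.* helpers here

set_option autoImplicit false
open Cfsg

namespace Cfsg.Agent.S2037

open Cfsg.Agent.Golay Cfsg.Agent.Multiplier in
theorem ok_sound : ∀ d, (fun d => isAut d && fn d 23 == 23 : ℕ → Bool) d = true → validPerm d = true ∧ toPerm d ∈ Cfsg.Spor.M23 :=
  fun d h => by
    simp only [Bool.and_eq_true, beq_iff_eq] at h
    refine ⟨validPerm_of_isAut h.1, Subgroup.mem_inf.2 ⟨toPerm_mem_M24 h.1, ?_⟩⟩
    show toPerm d (pt 23) = pt 23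
    rw [toPerm_pt (validPerm_of_isAut h.1) (by norm_num), h.2]

open Cfsg.Agent.Golay Cfsg.Agent.Multiplier in
theorem check_two : M23Data.cert.check (fun d => isAut d && fn d 23 == 23) = true := by decide +kernel

open Cfsg.Agent.Golay Cfsg.Agent.Multiplier in
theorem check_three : MathieuCert.check3 (fun d => isAut d && fn d 23 == 23) true M23Data.three.1 M23Data.three.2.1
    M23Data.three.2.2 M23Data.threeElems = true := by decide +kernel

/-- The Schur multiplier of the Mathieu group M₂₃ (the stabiliser of a point in the automorphism group of the length-24 binary code) is trivial; here the Schur multiplier is described through stem extensions, as in the definitions: surjective homomorphisms onto the group from a finite group, whose kernel is central in that finite group and contained in that finite group's commutator subgroup. -/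
theorem result : Cfsg.HasCyclicSchurMultiplier ↥Cfsg.Spor.M23 1 := by
  have hcard : Nat.card ↥(Cfsg.Spor.M23) = 10200960 := Cfsg.Agent.Golay.natCard_m23 none
  refine Cfsg.Agent.Multiplier.hasCyclicSchurMultiplier_one_of_prime fun Γ _ _ σ hσ p hp => ?_
  by_cases h2 : p = 2
  · subst h2
    exact Cfsg.Agent.Multiplier.MathieuCert.not_stem_two ok_sound (inf_le_left) _ hcard check_two σ hσ
  by_cases h3 : p = 3
  · subst h3
    exact Cfsg.Agent.Multiplier.MathieuCert.not_stem_three_of_check ok_sound true _ _ _ _ 1133440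
      (by rw [hcard]; decide +kernel) (by norm_num) check_three σ hσ
  refine Cfsg.Agent.Multiplier.not_stem_of_not_sq_dvd hσ hp ?_
  rw [hcard]
  intro hd
  have hpd : p ∣ 10200960 := (dvd_pow_self p two_ne_zero).trans hd
  have key : ∀ r, r.Prime → r ∣ 10200960 → r = 2 ∨ r = 3 ∨ r = 5 ∨ r = 7 ∨ r = 11 ∨ r = 23 := by
    intro r hr hrd
    have hf : 10200960 = 2 ^ 7 * (3 ^ 2 * (5 * (7 * (11 * 23)))) := by norm_num
    rw [hf] at hrd
    have hs : ∀ q, q.Prime → ∀ k, r ∣ q ^ k → r = q := fun q hq k h =>
      (Nat.prime_dvd_prime_iff_eq hr hq).1 (hr.dvd_of_dvd_pow h)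
    rcases hr.dvd_mul.1 hrd with h | h
    · exact Or.inl (hs 2 Nat.prime_two _ h)
    rcases hr.dvd_mul.1 h with h | h
    · exact Or.inr (Or.inl (hs 3 Nat.prime_three _ h))
    rcases hr.dvd_mul.1 h with h | h
    · exact Or.inr (Or.inr (Or.inl ((Nat.prime_dvd_prime_iff_eq hr (by norm_num)).1 h)))
    rcases hr.dvd_mul.1 h with h | h
    · exact Or.inr (Or.inr (Or.inr (Or.inl ((Nat.prime_dvd_prime_iff_eq hr (by norm_num)).1 h))))
    rcases hr.dvd_mul.1 h with h | h
    · exact Or.inr (Or.inr (Or.inr (Or.inr (Or.inl ((Nat.prime_dvd_prime_iff_eq hr (by norm_num)).1 h)))))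
    · exact Or.inr (Or.inr (Or.inr (Or.inr (Or.inr ((Nat.prime_dvd_prime_iff_eq hr (by norm_num)).1 h)))))
  rcases key p hp hpd with rfl | rfl | rfl | rfl | rfl | rfl <;> first | exact absurd rfl h2 | exact absurd rfl h3 | norm_num at hd

end Cfsg.Agent.S2037
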