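import Cfsg.Statements.S2040
import Cfsg.Agent.Lib.MultiplierJTwo.Upper
import Cfsg.Agent.Lib.MultiplierJTwo.Perfect
import Cfsg.Agent.Lib.IcosianGroup.Hundred

set_option autoImplicit false
open Cfsg

namespace Cfsg.Agent.S2040

/-- The Schur multiplier of the Hall–Janko group J₂ (the icosian reflection group modulo its centre) is cyclic of order 2; here the Schur multiplier is described through stem extensions, as in the definitions: surjective homomorphisms onto the group from a finite group, whose kernel is central in that finite group and contained in that finite group's commutator subgroup. -/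
theorem result : Cfsg.HasCyclicSchurMultiplier Cfsg.Spor.J2 2 := by
  classical
  have hcard : Nat.card ↥Cfsg.Spor.twoJ2 = 1209600 := Ico.natCard_twoJ2
  haveI : Finite ↥Cfsg.Spor.twoJ2 := Nat.finite_of_card_ne_zero (by rw [hcard]; norm_num)
  refine ⟨⟨↥Cfsg.Spor.twoJ2, inferInstance, inferInstance, QuotientGroup.mk' (Subgroup.center _),
    ⟨QuotientGroup.mk'_surjective _, ?_, ?_⟩, ⟨?_⟩⟩, fun Γ _ _ σ hσ => ?_⟩
  · rw [QuotientGroup.ker_mk']
  · rw [MultiplierJTwo.commutator_twoJ2]; exact le_top
  · have h2 : Nat.card (QuotientGroup.mk' (Subgroup.center ↥Cfsg.Spor.twoJ2)).ker = 2 := by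
      rw [QuotientGroup.ker_mk']; exact Ico.natCard_center
    haveI := Fact.mk Nat.prime_two
    exact (zmodCyclicMulEquiv (isCyclic_of_prime_card h2)).symm.trans (h2 ▸ MulEquiv.refl _)
  · let e := IcoGroup.equivJTwo
    let τ : Γ →* JTwoPerm.jTwo := e.toMonoidHom.comp σ
    have hk : τ.ker = σ.ker := by
      ext x
      simp only [MonoidHom.mem_ker]
      exact ⟨fun h => e.injective (h.trans (map_one _).symm),
        fun h => (congrArg e h).trans (map_one _)⟩
    obtain ⟨π, hπ⟩ := MultiplierJTwo.exists_surj_two τ
      ⟨e.surjective.comp hσ.1, by rw [hk]; exact hσ.2.1, by rw [hk]; exact hσ.2.2⟩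
    exact ⟨(MulEquiv.subgroupCongr hk).toMonoidHom.comp π,
      (MulEquiv.subgroupCongr hk).surjective.comp hπ⟩

end Cfsg.Agent.S2040
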