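import Cfsg.Statements.S2041
import Cfsg.Agent.Lib.MultiplierJThree.Upper
import Cfsg.Agent.Lib.MultiplierJThree.Cover

set_option autoImplicit false
open Cfsg

namespace Cfsg.Agent.S2041

/-- For any field with 4 elements and any element ω of it with ω² + ω + 1 = 0: the Schur multiplier of the Janko group J₃ (the group generated by explicit 9 × 9 matrices over that field built from ω, taken modulo its centre) is cyclic of order 3; here the Schur multiplier is described through stem extensions, as in the definitions: surjective homomorphisms onto the group from a finite group, whose kernel is central in that finite group and contained in that finite group's commutator subgroup. -/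
theorem result {F : Type*} [Field F] [Fintype F] (hF : Fintype.card F = 4) (ω : F) (hω : ω ^ 2 + ω + 1 = 0) : Cfsg.HasCyclicSchurMultiplier (Cfsg.Spor.J3 F ω) 3 := by
  have h2 : (2 : F) = 0 := by
    have h4 : ((4 : ℕ) : F) = 0 := hF ▸ FiniteField.cast_card_eq_zero F
    have h : (2 : F) * 2 = 0 := by linear_combination h4
    exact mul_self_eq_zero.1 h
  haveI : Finite (Cfsg.Spor.threeJ3 F ω) :=
    Nat.finite_of_card_ne_zero (by rw [Cfsg.Agent.JankoThree.card_threeJ3 h2 hω]; norm_num)
  have hker : Nat.card (QuotientGroup.mk' (Subgroup.center (Cfsg.Spor.threeJ3 F ω))).ker = 3 := by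
    rw [QuotientGroup.ker_mk']
    exact Cfsg.Agent.JankoThree.card_center h2 hω
  haveI : Fact (Nat.Prime 3) := ⟨Nat.prime_three⟩
  have hcyc : IsCyclic (QuotientGroup.mk' (Subgroup.center (Cfsg.Spor.threeJ3 F ω))).ker :=
    isCyclic_of_prime_card hker
  refine ⟨⟨_, inferInstance, inferInstance, _, Cfsg.Agent.MultiplierJThree.isStemExtension_threeJ3 h2 hω,
    ⟨(zmodCyclicMulEquiv hcyc).symm.trans ?_⟩⟩, fun _ _ _ σ hσ =>
      Cfsg.Agent.MultiplierJThree.exists_surj_three h2 hω σ hσ⟩
  rw [hker]
  exact MulEquiv.refl _

end Cfsg.Agent.S2041
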