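import Cfsg.Statements.S2044
import Cfsg.Agent.Lib.Co2Mult.Two
import Cfsg.Agent.Lib.Co2Mult.Odd
import Cfsg.Agent.Lib.Multiplier.Basic
-- import your own Cfsg.Agent.* helpers here

set_option autoImplicit false
open Cfsg

namespace Cfsg.Agent.S2044

/-- The Schur multiplier of the Conway group Co₂ (the stabiliser of a minimal vector of the rank-24 lattice) is trivial; here the Schur multiplier is described through stem extensions, as in the definitions: surjective homomorphisms onto the group from a finite group, whose kernel is central in that finite group and contained in that finite group's commutator subgroup. -/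
theorem result : Cfsg.HasCyclicSchurMultiplier ↥Cfsg.Spor.Co2 1 := by
  haveI : Finite ↥Cfsg.Spor.Co2 :=
    Finite.of_equiv _ (Cfsg.Agent.OutCert.sporEquivStab Cfsg.Spor.leechU).toEquiv.symm
  refine Cfsg.Agent.Multiplier.hasCyclicSchurMultiplier_one_of_prime fun Γ _ _ σ hσ p hp hK => ?_
  let e : ↥Cfsg.Spor.Co2 ≃* Cfsg.Agent.Co2Mult.CU :=
    Cfsg.Agent.OutCert.sporEquivStab Cfsg.Spor.leechU
  let τ : Γ →* Cfsg.Agent.Co2Mult.CU := e.toMonoidHom.comp σ
  have hker : τ.ker = σ.ker := by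
    ext x
    simp [τ]
  have hτ : Cfsg.IsStemExtension τ := ⟨e.surjective.comp hσ.1, hker ▸ hσ.2.1, hker ▸ hσ.2.2⟩
  have hτK : Nat.card τ.ker = p := by rw [hker]; exact hK
  by_cases h2 : p = 2
  · exact Cfsg.Agent.Co2Mult.Two.not_stem_two τ hτ (h2 ▸ hτK)
  by_cases h3 : p = 3
  · exact Cfsg.Agent.Co2Mult.not_stem_three τ hτ (h3 ▸ hτK)
  by_cases h5 : p = 5
  · exact Cfsg.Agent.Co2Mult.not_stem_five τ hτ (h5 ▸ hτK)
  refine Cfsg.Agent.Multiplier.not_stem_of_not_sq_dvd hτ hp ?_ hτK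
  rw [Cfsg.Agent.Co2Mult.natCard_CU]
  intro hd
  have hd1 : p ∣ 42305421312000 := (dvd_pow_self p two_ne_zero).trans hd
  have key : p ∣ 7 * 11 * 23 * (2 ^ 18 * 3 ^ 6 * 5 ^ 3) := by norm_num; exact hd1
  rcases hp.dvd_mul.1 key with h | h
  · rcases hp.dvd_mul.1 h with h | h
    · rcases hp.dvd_mul.1 h with h | h
      · rw [(Nat.prime_dvd_prime_iff_eq hp (by norm_num)).1 h] at hd; norm_num at hd
      · rw [(Nat.prime_dvd_prime_iff_eq hp (by norm_num)).1 h] at hd; norm_num at hd
    · rw [(Nat.prime_dvd_prime_iff_eq hp (by norm_num)).1 h] at hd; norm_num at hd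
  · rcases hp.dvd_mul.1 h with h | h
    · rcases hp.dvd_mul.1 h with h | h
      · exact h2 ((Nat.prime_dvd_prime_iff_eq hp Nat.prime_two).1 (hp.dvd_of_dvd_pow h))
      · exact h3 ((Nat.prime_dvd_prime_iff_eq hp Nat.prime_three).1 (hp.dvd_of_dvd_pow h))
    · exact h5 ((Nat.prime_dvd_prime_iff_eq hp (by norm_num)).1 (hp.dvd_of_dvd_pow h))

end Cfsg.Agent.S2044
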