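import Cfsg.Statements.S2045
import Cfsg.Agent.Lib.MultiplierCoThree.Main
import Cfsg.Agent.Lib.OutCert.Transport

set_option autoImplicit false
open Cfsg

namespace Cfsg.Agent.S2045

/-- The Schur multiplier of the Conway group Co₃ (the stabiliser of a vector of the second shortest length in the rank-24 lattice) is trivial; here the Schur multiplier is described through stem extensions, as in the definitions: surjective homomorphisms onto the group from a finite group, whose kernel is central in that finite group and contained in that finite group's commutator subgroup. -/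
theorem result : Cfsg.HasCyclicSchurMultiplier ↥Cfsg.Spor.Co3 1 := by
  obtain ⟨e⟩ := Cfsg.Agent.OutCert.nonempty_co3Equiv
  haveI : Finite ↥Cfsg.Spor.Co3 := Nat.finite_of_card_ne_zero (by
    rw [Nat.card_congr e.toEquiv, Cfsg.Agent.Leech.natCard_co3Group]; norm_num)
  refine Cfsg.Agent.Multiplier.hasCyclicSchurMultiplier_one_of_prime fun Γ _ _ σ hσ p hp => ?_
  have hk : (e.toMonoidHom.comp σ).ker = σ.ker := by
    ext x
    simp only [MonoidHom.mem_ker, MonoidHom.comp_apply, MulEquiv.coe_toMonoidHom, map_eq_one_iff e e.injective]
  have := Cfsg.Agent.MultiplierCoThree.not_stem (e.toMonoidHom.comp σ)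
    ⟨e.surjective.comp hσ.1, by rw [hk]; exact hσ.2.1, by rw [hk]; exact hσ.2.2⟩ p hp
  rwa [hk] at this

end Cfsg.Agent.S2045
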