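import Cfsg.Statements.S2047
import Cfsg.Agent.Lib.MultiplierMcL.Upper
import Cfsg.Agent.Lib.MultiplierMcL.Cover
import Cfsg.Agent.Lib.MultiplierMcL.Model
import Cfsg.Agent.Lib.Leech.McLFusion

set_option autoImplicit false
open Cfsg

namespace Cfsg.Agent.S2047

/-- The Schur multiplier of the McLaughlin group (as a two-vector stabiliser in the automorphism group of the rank-24 lattice) is cyclic of order 3; here the Schur multiplier is described through stem extensions, as in the definitions: surjective homomorphisms onto the group from a finite group, whose kernel is central in that finite group and contained in that finite group's commutator subgroup. -/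
theorem result : Cfsg.HasCyclicSchurMultiplier ↥Cfsg.Spor.McL 3 := by
  obtain ⟨e0⟩ := Leech.mcl_iso
  let e : ↥Cfsg.Spor.McL ≃* ↥MultiplierMcL.mclPerm := e0.trans MultiplierMcL.mclPermEquiv
  have : Finite ↥Cfsg.Spor.McL := Finite.of_equiv _ e.symm.toEquiv
  have hker : ∀ {Γ : Type} [Group Γ] (σ : Γ →* MultiplierMcL.mclPerm),
      (e.symm.toMonoidHom.comp σ).ker = σ.ker := fun σ => by
    ext x
    simp only [MonoidHom.mem_ker]
    exact ⟨fun h => e.symm.injective (h.trans (map_one _).symm),
      fun h => (congrArg e.symm h).trans (map_one _)⟩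
  refine ⟨?_, fun Γ _ _ σ hσ => ?_⟩
  · obtain ⟨Γ, i1, i2, τ, hτ, hcyc, hc⟩ := MultiplierMcL.exists_triple_cover
    refine ⟨Γ, i1, i2, e.symm.toMonoidHom.comp τ,
      ⟨e.symm.surjective.comp hτ.1, by rw [hker]; exact hτ.2.1, by rw [hker]; exact hτ.2.2⟩,
      ⟨(MulEquiv.subgroupCongr (hker τ)).trans ?_⟩⟩
    exact (zmodCyclicMulEquiv hcyc).symm.trans (hc ▸ MulEquiv.refl _)
  · let τ : Γ →* MultiplierMcL.mclPerm := e.toMonoidHom.comp σ
    have hk : τ.ker = σ.ker := by
      ext x
      simp only [MonoidHom.mem_ker]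
      exact ⟨fun h => e.injective (h.trans (map_one _).symm),
        fun h => (congrArg e h).trans (map_one _)⟩
    obtain ⟨π, hπ⟩ := MultiplierMcL.exists_surj_three τ
      ⟨e.surjective.comp hσ.1, by rw [hk]; exact hσ.2.1, by rw [hk]; exact hσ.2.2⟩
    exact ⟨(MulEquiv.subgroupCongr hk).toMonoidHom.comp π,
      (MulEquiv.subgroupCongr hk).surjective.comp hπ⟩

end Cfsg.Agent.S2047
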