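import Cfsg.Statements.S2051
import Cfsg.Agent.EqLemmas
import Cfsg.Agent.Lib.MultiplierRu.Cover

set_option autoImplicit false
open Cfsg

namespace Cfsg.Agent.S2051

/-- The Schur multiplier of the Rudvalis group (the unitary automorphism group of the rank-28 Gaussian lattice modulo its centre) is cyclic of order 2; here the Schur multiplier is described through stem extensions, as in the definitions: surjective homomorphisms onto the group from a finite group, whose kernel is central in that finite group and contained in that finite group's commutator subgroup. -/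
theorem result : Cfsg.HasCyclicSchurMultiplier Cfsg.Spor.Ru 2 := by
  obtain ⟨hstem_surj, hstem_cen, hstem_com⟩ := MultiplierRu.covHom_stem
  have := MultiplierRu.finite_fourRu
  let e : Cfsg.Spor.Ru ≃* RuPerm.rud := RuMin.ruEquiv
  let τ : MultiplierRu.covD →* Cfsg.Spor.Ru := e.symm.toMonoidHom.comp MultiplierRu.covHom
  have hk : τ.ker = MultiplierRu.covHom.ker := by
    ext x
    simp [τ, MonoidHom.mem_ker, MulEquiv.map_eq_one_iff]
  have hpair : ∀ (Γ : Type) [Group Γ] [Finite Γ] (σ : Γ →* Cfsg.Spor.Ru), Cfsg.IsStemExtension σ →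
      Nat.card σ.ker ≤ 2 := by
    intro Γ _ _ σ hσ
    let ρ : Γ →* RuPerm.rud := e.toMonoidHom.comp σ
    have hρ : ρ.ker = σ.ker := by
      ext x
      simp [ρ, MonoidHom.mem_ker, MulEquiv.map_eq_one_iff]
    rw [← hρ]
    exact MultiplierRu.ker_le_two ρ ⟨e.surjective.comp hσ.1, by rw [hρ]; exact hσ.2.1, by rw [hρ]; exact hσ.2.2⟩
  have hcov : Nat.card τ.ker = 2 := hk ▸ MultiplierRu.natCard_ker_covHom
  have : Fact (Nat.Prime 2) := ⟨Nat.prime_two⟩
  refine ⟨⟨MultiplierRu.covD, inferInstance, inferInstance, τ,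
    ⟨e.symm.surjective.comp hstem_surj, by rw [hk]; exact hstem_cen, by rw [hk]; exact hstem_com⟩,
    ⟨?_⟩⟩, fun Γ _ _ σ hσ => ?_⟩
  · have : IsCyclic τ.ker := isCyclic_of_prime_card hcov
    exact mulEquivOfCyclicCardEq (by rw [hcov, Nat.card_congr Multiplicative.toAdd, Nat.card_zmod])
  · have h2 := hpair Γ σ hσ
    have hpos : 0 < Nat.card σ.ker := Nat.card_pos
    rcases (show Nat.card σ.ker = 1 ∨ Nat.card σ.ker = 2 by omega) with h | h
    · refine ⟨1, fun z => ⟨1, ?_⟩⟩
      have := (Nat.card_eq_one_iff_unique.1 h).1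
      exact Subsingleton.elim _ _
    · have : IsCyclic σ.ker := isCyclic_of_prime_card h
      have f : Multiplicative (ZMod 2) ≃* σ.ker :=
        mulEquivOfCyclicCardEq (by rw [h, Nat.card_congr Multiplicative.toAdd, Nat.card_zmod])
      exact ⟨f.toMonoidHom, f.surjective⟩

end Cfsg.Agent.S2051
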