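import Cfsg.Statements.S2052
import Cfsg.Agent.Lib.MultiplierON.Bound
import Cfsg.Agent.Lib.MultiplierON.Exists

set_option autoImplicit false
open Cfsg

namespace Cfsg.Agent.S2052

/-- The Schur multiplier of the O'Nan group (the finitely presented group of the definitions) is cyclic of order 3; here the Schur multiplier is described through stem extensions, as in the definitions: surjective homomorphisms onto the group from a finite group, whose kernel is central in that finite group and contained in that finite group's commutator subgroup. -/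
theorem result : Cfsg.HasCyclicSchurMultiplier Cfsg.Spor.ON 3 := by
  obtain ⟨Γ, iG, iF, σ, hσ, hcard⟩ := Cfsg.Agent.MultiplierON.exists_stem
  have : Fact (Nat.Prime 3) := ⟨Nat.prime_three⟩
  have h3 : Nat.card (Multiplicative (ZMod 3)) = 3 := Nat.card_zmod 3
  refine ⟨⟨Γ, iG, iF, σ, hσ, ⟨mulEquivOfPrimeCardEq hcard h3⟩⟩, fun Δ _ _ τ hτ => ?_⟩
  have hle := Cfsg.Agent.MultiplierON.ker_le_three τ hτ
  obtain ⟨n, hn⟩ := IsPGroup.iff_card.mp (Cfsg.Agent.MultiplierON.isPGroup_ker (σ := τ) hτ)
  have hn' : Nat.card τ.ker = 3 ^ n := hn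
  clear hn
  match n, hn' with
  | 0, hn =>
    have : Subsingleton τ.ker := (Nat.card_eq_one_iff_unique.mp (hn.trans (pow_zero 3))).1
    exact ⟨1, fun y => ⟨1, Subsingleton.elim _ _⟩⟩
  | 1, hn =>
    exact ⟨(mulEquivOfPrimeCardEq h3 (hn.trans (pow_one 3))).toMonoidHom, MulEquiv.surjective _⟩
  | m + 2, hn =>
    have : 3 ^ 2 ≤ 3 ^ (m + 2) := Nat.pow_le_pow_right (by norm_num) (by omega)
    omega

end Cfsg.Agent.S2052
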