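import Cfsg.Statements.S2054
import Cfsg.Agent.S1697
import Cfsg.Agent.Lib.CoxStem.Fi23

set_option autoImplicit false
open Cfsg

namespace Cfsg.Agent.S2054

/-- The Schur multiplier of the Fischer group Fi₂₃ (the finitely presented group of the definitions) is trivial; here the Schur multiplier is described through stem extensions, as in the definitions: surjective homomorphisms onto the group from a finite group, whose kernel is central in that finite group and contained in that finite group's commutator subgroup. -/
theorem result : Cfsg.HasCyclicSchurMultiplier Cfsg.Spor.Fi23 1 := by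
  haveI : Finite Cfsg.Spor.Fi23 := Cfsg.Agent.Fi23Trans.fi23_finite
  have hbot : (MonoidHom.id Cfsg.Spor.Fi23).ker = ⊥ :=
    (MonoidHom.ker_eq_bot_iff _).mpr Function.injective_id
  refine ⟨⟨Cfsg.Spor.Fi23, inferInstance, inferInstance, MonoidHom.id _,
    ⟨Function.surjective_id, hbot ▸ bot_le, hbot ▸ bot_le⟩, ?_⟩, fun Γ _ _ σ hσ => ?_⟩
  · haveI : Subsingleton (MonoidHom.id Cfsg.Spor.Fi23).ker := by rw [hbot]; infer_instance
    haveI : Unique (MonoidHom.id Cfsg.Spor.Fi23).ker := uniqueOfSubsingleton 1
    exact ⟨MulEquiv.ofUnique⟩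
  · have hk := Cfsg.Agent.CoxStem.fi23_ker_eq_bot σ hσ
    have : Subsingleton σ.ker := by rw [hk]; infer_instance
    exact ⟨1, fun x => ⟨1, Subsingleton.elim _ _⟩⟩

end Cfsg.Agent.S2054
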