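import Cfsg.Statements.S2072
import Cfsg.Agent.S1666
import Cfsg.Agent.Lib.Leech.HSOuter

set_option autoImplicit false
open Cfsg

namespace Cfsg.Agent.S2072

/-- The outer automorphism group of the Higman–Sims group (as a two-vector stabiliser in the automorphism group of the rank-24 lattice) has order 2. -/
theorem result : Nat.card (Cfsg.Out ↥Cfsg.Spor.HS) = 2 := by
  obtain ⟨e⟩ := S1666.hs_iso
  have hmap : (Inn ↥Cfsg.Spor.HS).map (MulAut.congr e).toMonoidHom = Inn ↥Agent.Leech.hsGroup := by
    ext α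
    constructor
    · rintro ⟨_, ⟨g, rfl⟩, rfl⟩
      exact ⟨e g, MulEquiv.ext fun k => by simp [MulAut.congr]⟩
    · rintro ⟨g, rfl⟩
      exact ⟨MulAut.conj (e.symm g), ⟨_, rfl⟩, MulEquiv.ext fun k => by simp [MulAut.congr]⟩
  rw [← Subgroup.index_eq_card, ← Agent.Leech.index_inn_hsGroup, ← hmap,
    Subgroup.index_map_of_bijective (MulAut.congr e).bijective]

end Cfsg.Agent.S2072
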