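import Cfsg.Statements.S2075
import Cfsg.Agent.S1695
import Cfsg.Agent.Lib.OutColour.Main
import Cfsg.Agent.Lib.OutColour.DataHe

set_option autoImplicit false
open Cfsg

namespace Cfsg.Agent.S2075

open Cfsg.Agent.CosetEnum Cfsg.Agent.OutColour

theorem elem_ok : heCert.elemOK he2058 ((heH2058).map (heSetup.wl he2058)) = true := by decide +kernel

theorem cx_ok : heCert.cxOK he2058 = true := by decide +kernel

theorem z_ok : heCert.zOK he2058 = true := by decide +kernel

theorem gen_ok : heCert.genOK he2058 = true := by decide +kernel

theorem hom_ok : heCert.homOK he2058 (heSetup.allRels.map (heSetup.wl he2058)) = true := by decide +kernel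

theorem arith_ok : heCert.arithOK 4030387200 = true := by decide +kernel

theorem main : Nat.card (Cfsg.Out heSetup.G) = 2 := by
  obtain ⟨hsimple, hcard⟩ := Cfsg.Agent.S1695.main
  have T := Cfsg.Agent.S1683.table
  have hch := he2058_chain_check
  simp only [Bool.and_eq_true] at hch
  have : Finite heSetup.G := Nat.finite_of_card_ne_zero (by rw [hcard]; norm_num)
  obtain ⟨-, hinj⟩ := Setup.card_eq_of_bounds T.gens T.letters T.perm T.rels he2058_chain hch.1
    (c := 4030387200) ⟨hcard.le, by rw [hcard]; norm_num⟩ (beq_iff.mp hch.2)
  exact Cert.card_out_eq_two heCert T hch.1 hinj ((beq_iff.mp hch.2).trans hcard.symm) rfl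
    (show Nat.Prime 17 by norm_num) (by rw [hcard]; exact arith_ok) elem_ok cx_ok z_ok gen_ok hom_ok

/-- The outer automorphism group of the Held group (the finitely presented group of the definitions) has order 2. -/
theorem result : Nat.card (Cfsg.Out Cfsg.Spor.He) = 2 := by
  exact main

end Cfsg.Agent.S2075
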