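import Cfsg.Statements.S2087
import Cfsg.Agent.Lib.Schur.CoverSL32

set_option autoImplicit false
open Cfsg

namespace Cfsg.Agent.S2087


open Cfsg.Agent.Schur

/-- A generator of order 4 of the upper unitriangular group. -/
def rr : B2 := ⟨!![1,1,0;0,1,1;0,0,1], by decide⟩
/-- An involution inverting `rr`. -/
def ss : B2 := ⟨!![1,0,0;0,1,1;0,0,1], by decide⟩
/-- An element of order 3. -/
def r3 : B2 := ⟨!![0,0,1;0,1,0;1,0,1], by decide⟩

/-- The upper triangular matrices. -/
def upper : Subgroup B2 where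
  carrier := {g | g.1 1 0 = 0 ∧ g.1 2 0 = 0 ∧ g.1 2 1 = 0}
  one_mem' := by decide
  mul_mem' := fun {x y} hx hy => by
    obtain ⟨a1, a2, a3⟩ := hx
    obtain ⟨b1, b2, b3⟩ := hy
    refine ⟨?_, ?_, ?_⟩ <;>
      (show (x.1 * y.1) _ _ = 0) <;>
      simp [Matrix.mul_apply, Fin.sum_univ_three, a1, a2, a3, b1, b2, b3]
  inv_mem' := fun {x} hx => by
    have h : ∀ g : B2, (g.1 1 0 = 0 ∧ g.1 2 0 = 0 ∧ g.1 2 1 = 0) →
        (g⁻¹).1 1 0 = 0 ∧ (g⁻¹).1 2 0 = 0 ∧ (g⁻¹).1 2 1 = 0 := by decide +kernel
    exact h x hx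

theorem card_closure : Nat.card (Subgroup.closure {rr, ss}) = 8 := by
  have hle : Subgroup.closure {rr, ss} ≤ upper := by
    rw [Subgroup.closure_le]
    rintro x (rfl | rfl)
    · show rr.1 1 0 = 0 ∧ rr.1 2 0 = 0 ∧ rr.1 2 1 = 0
      decide +kernel
    · show ss.1 1 0 = 0 ∧ ss.1 2 0 = 0 ∧ ss.1 2 1 = 0
      decide +kernel
  have hU : Nat.card upper = 8 := by
    have h : Nat.card {g : B2 // g.1 1 0 = 0 ∧ g.1 2 0 = 0 ∧ g.1 2 1 = 0} = 8 := by
      rw [Nat.card_eq_fintype_card]
      decide +kernel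
    exact h
  have hr : rr ∈ Subgroup.closure {rr, ss} := Subgroup.subset_closure (Set.mem_insert rr {ss})
  have hs : ss ∈ Subgroup.closure {rr, ss} :=
    Subgroup.subset_closure (Set.mem_insert_of_mem rr (Set.mem_singleton ss))
  have hw : ∀ (i : Fin 4) (j : Fin 2), rr ^ i.val * ss ^ j.val ∈ Subgroup.closure {rr, ss} :=
    fun i j => Subgroup.mul_mem _ (Subgroup.pow_mem _ hr _) (Subgroup.pow_mem _ hs _)
  let w : Fin 4 × Fin 2 → Subgroup.closure {rr, ss} := fun ij => ⟨_, hw ij.1 ij.2⟩
  have hinj : ∀ i j : Fin 4 × Fin 2,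
      rr ^ (i.1 : ℕ) * ss ^ (i.2 : ℕ) = rr ^ (j.1 : ℕ) * ss ^ (j.2 : ℕ) → i = j := by decide +kernel
  have h1 : Nat.card (Fin 4 × Fin 2) ≤ Nat.card (Subgroup.closure {rr, ss}) :=
    Nat.card_le_card_of_injective w fun i j h => hinj i j (congrArg Subtype.val h)
  have h2 := Nat.le_of_dvd (by omega) (Subgroup.card_dvd_of_le hle)
  simp only [Nat.card_prod, Nat.card_fin] at h1
  omega

theorem not_dvd_index {p : ℕ} (H : Subgroup B2) {m : ℕ} (hm : Nat.card H = m) (h : ¬ p ∣ 168 / m) :
    ¬ p ∣ H.index := by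
  have h1 := H.card_mul_index
  rw [hm, card_sl32] at h1
  have hpos : 0 < m := hm ▸ Nat.card_pos
  rw [← h1, Nat.mul_div_cancel_left _ hpos] at h
  exact h

universe u

theorem main {G : Type u} [Group G] (e : B2 ≃* G) : Cfsg.HasCyclicSchurMultiplier G 2 := by
  refine hasCyclicSchurMultiplier_two ?_ ?_ ?_
  · let d : ULift.{u} A7 ≃* A7 := MulEquiv.ulift
    refine ⟨ULift.{u} A7, inferInstance, inferInstance,
      e.toMonoidHom.comp (coverHom.comp d.toMonoidHom), ⟨?_, ?_, ?_⟩, ?_⟩
    · exact e.surjective.comp (coverHom_surjective.comp d.surjective)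
    · intro x hx
      have hx' : d x ∈ coverHom.ker := by
        rw [MonoidHom.mem_ker] at hx ⊢
        exact e.injective (hx.trans e.map_one.symm)
      rw [Subgroup.mem_center_iff]
      exact fun g => d.injective (by
        rw [map_mul, map_mul]
        exact Subgroup.mem_center_iff.1 (coverHom_ker_le_center hx') (d g))
    · intro x hx
      have hx' : d x ∈ coverHom.ker := by
        rw [MonoidHom.mem_ker] at hx ⊢
        exact e.injective (hx.trans e.map_one.symm)
      have h := Subgroup.mem_map_of_mem d.symm.toMonoidHom (coverHom_ker_le_commutator hx')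
      simp only [MulEquiv.coe_toMonoidHom, MulEquiv.symm_apply_apply] at h
      rw [commutator_def, Subgroup.map_commutator, Subgroup.map_top_of_surjective _ d.symm.surjective] at h
      exact h
    · refine Eq.trans (Nat.card_congr (d.toEquiv.subtypeEquiv
        (p := fun x => x ∈ (e.toMonoidHom.comp (coverHom.comp d.toMonoidHom)).ker)
        (q := fun x => x ∈ coverHom.ker) fun x => ?_)) card_ker_coverHom
      constructor
      · intro hx
        exact e.injective ((show e (coverHom (d x)) = 1 from hx).trans e.map_one.symm)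
      · intro hx
        show e (coverHom (d x)) = 1
        rw [show coverHom (d x) = 1 from hx, map_one]
  · intro p hp h2
    rcases eq_or_ne p 3 with rfl | h3
    · refine ⟨e r3, ?_⟩
      rw [← e.coe_toMonoidHom, ← MonoidHom.map_zpowers, Subgroup.index_map_of_bijective e.bijective]
      refine not_dvd_index _ (m := 3) ?_ (by decide)
      rw [Nat.card_zpowers]
      haveI : Fact (Nat.Prime 3) := ⟨Nat.prime_three⟩
      exact orderOf_eq_prime (by decide +kernel) (by decide +kernel)
    rcases eq_or_ne p 7 with rfl | h7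
    · refine ⟨e (imT 1), ?_⟩
      rw [← e.coe_toMonoidHom, ← MonoidHom.map_zpowers, Subgroup.index_map_of_bijective e.bijective]
      refine not_dvd_index _ (m := 7) ?_ (by decide)
      rw [Nat.card_zpowers]
      haveI : Fact (Nat.Prime 7) := ⟨by norm_num⟩
      exact orderOf_eq_prime (by decide +kernel) (by decide +kernel)
    · refine ⟨1, ?_⟩
      rw [Subgroup.zpowers_one_eq_bot, Subgroup.index_bot, Nat.card_congr e.symm.toEquiv, card_sl32]
      intro hd
      have : (2 ^ 3 * 3 * 7 : ℕ) = 168 := by norm_num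
      rw [← this, hp.dvd_mul, hp.dvd_mul] at hd
      rcases hd with (hd | hd) | hd
      · exact h2 ((Nat.prime_dvd_prime_iff_eq hp Nat.prime_two).1 (hp.dvd_of_dvd_pow hd))
      · exact h3 ((Nat.prime_dvd_prime_iff_eq hp Nat.prime_three).1 hd)
      · exact h7 ((Nat.prime_dvd_prime_iff_eq hp (by norm_num)).1 hd)
  · refine ⟨e rr, e ss, ?_, ?_⟩
    · rw [← map_inv, ← map_inv, ← map_mul, ← map_mul]
      exact congrArg e (by decide +kernel)
    · have h : Subgroup.closure {e rr, e ss} = (Subgroup.closure {rr, ss}).map e.toMonoidHom := by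
        rw [MonoidHom.map_closure, Set.image_pair]; rfl
      rw [h, Subgroup.index_map_of_bijective e.bijective]
      exact not_dvd_index _ card_closure (by decide)

/-- Exceptional Schur multiplier: over the field with 2 elements, PSL₃ has Schur multiplier cyclic of order 2 (here the Schur multiplier is described through stem extensions, as in the definitions). -/
theorem result {F : Type*} [Field F] [Fintype F] (hF : Fintype.card F = 2) : Cfsg.HasCyclicSchurMultiplier (Matrix.ProjectiveSpecialLinearGroup (Fin 3) F) 2 := by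
  haveI : CharP F 2 := by
    obtain ⟨p, hc⟩ := CharP.exists F
    obtain ⟨n, hp, hn⟩ := FiniteField.card F p
    rw [hF] at hn
    have : p = 2 := (Nat.prime_dvd_prime_iff_eq hp Nat.prime_two).1 (hn ▸ dvd_pow_self p n.ne_zero)
    exact this ▸ hc
  let f : ZMod 2 ≃+* F := ZMod.ringEquiv F hF
  let SL := Matrix.SpecialLinearGroup (Fin 3) F
  let e₁ : B2 ≃* SL :=
    { toFun := Matrix.SpecialLinearGroup.map f.toRingHom
      invFun := Matrix.SpecialLinearGroup.map f.symm.toRingHom
      left_inv := fun g => Subtype.ext (by ext i j; exact f.symm_apply_apply _)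
      right_inv := fun g => Subtype.ext (by ext i j; exact f.apply_symm_apply _)
      map_mul' := map_mul _ }
  have hc : Subgroup.center SL = ⊥ := by
    rw [eq_bot_iff]
    intro x hx
    obtain ⟨r, hr, hx⟩ := Matrix.SpecialLinearGroup.mem_center_iff.1 hx
    have h1 : r = 1 := by
      obtain ⟨a, rfl⟩ := f.surjective r
      have hr' : a ^ 3 = 1 := f.injective (by simpa using hr)
      have : ∀ a : ZMod 2, a ^ 3 = 1 → a = 1 := by decide
      rw [this a hr', map_one]
    refine Subgroup.mem_bot.2 (Subtype.ext ?_)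
    rw [← hx, h1, map_one]
    rfl
  let e₂ : SL ≃* Matrix.ProjectiveSpecialLinearGroup (Fin 3) F :=
    MulEquiv.ofBijective (QuotientGroup.mk' _)
      ⟨(MonoidHom.ker_eq_bot_iff _).1 (by rw [QuotientGroup.ker_mk']; exact hc),
        QuotientGroup.mk'_surjective _⟩
  exact main (e₁.trans e₂)

end Cfsg.Agent.S2087
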