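import Cfsg.Statements.S2088
import Cfsg.Agent.Lib.MultiplierLThreeFour.Upper
import Cfsg.Agent.Lib.Golay.PlaneIso

set_option autoImplicit false
open Cfsg

namespace Cfsg.Agent.S2088

/-- Exceptional Schur multiplier: over the field with 4 elements, PSL₃ has Schur multiplier isomorphic to the product of cyclic groups of orders 3, 4 and 4 (order 48, not cyclic; here the Schur multiplier is described through stem extensions, as in the definitions). -/
theorem result {F : Type*} [Field F] [Fintype F] (hF : Fintype.card F = 4) : Cfsg.HasSchurMultiplier (Matrix.ProjectiveSpecialLinearGroup (Fin 3) F) (Multiplicative (ZMod 3 × ZMod 4 × ZMod 4)) := by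
  classical
  obtain ⟨e₀⟩ := Golay.nonempty_psl_chain
  have e₁ : Matrix.ProjectiveSpecialLinearGroup (Fin 3) F ≃*
      Matrix.ProjectiveSpecialLinearGroup (Fin 3) SU32.K4 :=
    Linear.pslMapEquiv (FiniteField.ringEquivOfCardEq (K := SU32.K4)
      (by rw [hF, SU32.K4.card_eq])).symm
  let e := e₁.trans e₀
  refine ⟨?_, fun Γ _ _ σ hσ => ?_⟩
  · obtain ⟨Γ, _, _, σ, hσ, ⟨k⟩⟩ := MultiplierLThreeFour.exists_cover
    let τ : ULift Γ →* Matrix.ProjectiveSpecialLinearGroup (Fin 3) F :=
      e.symm.toMonoidHom.comp (σ.comp MulEquiv.ulift.toMonoidHom)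
    have hmem : ∀ x : ULift Γ, x ∈ τ.ker ↔ x.down ∈ σ.ker := fun x => by
      simp only [MonoidHom.mem_ker]
      exact ⟨fun h => e.symm.injective (h.trans (map_one _).symm),
        fun h => (congrArg e.symm h).trans (map_one _)⟩
    refine ⟨ULift Γ, inferInstance, inferInstance, τ, ⟨?_, ?_, ?_⟩, ⟨?_⟩⟩
    · exact e.symm.surjective.comp (hσ.1.comp MulEquiv.ulift.surjective)
    · intro x hx
      exact Subgroup.mem_center_iff.2 fun g => ULift.ext _ _
        (Subgroup.mem_center_iff.1 (hσ.2.1 ((hmem x).1 hx)) g.down)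
    · intro x hx
      have h := Subgroup.mem_map_of_mem MulEquiv.ulift.symm.toMonoidHom (hσ.2.2 ((hmem x).1 hx))
      rw [commutator_def, Subgroup.map_commutator] at h
      exact Subgroup.commutator_mono le_top le_top h
    · exact MulEquiv.trans
        { toFun := fun x => ⟨x.1.down, (hmem _).1 x.2⟩
          invFun := fun y => ⟨ULift.up y.1, (hmem _).2 y.2⟩
          left_inv := fun _ => rfl
          right_inv := fun _ => rfl
          map_mul' := fun _ _ => rfl } k
  · let τ : Γ →* Golay.chain 3 := e.toMonoidHom.comp σ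
    have hk : τ.ker = σ.ker := by
      ext x
      simp only [MonoidHom.mem_ker]
      exact ⟨fun h => e.injective (h.trans (map_one _).symm),
        fun h => (congrArg e h).trans (map_one _)⟩
    obtain ⟨π, hπ⟩ := MultiplierLThreeFour.exists_surj τ
      ⟨e.surjective.comp hσ.1, by rw [hk]; exact hσ.2.1, by rw [hk]; exact hσ.2.2⟩
    exact ⟨(MulEquiv.subgroupCongr hk).toMonoidHom.comp π,
      (MulEquiv.subgroupCongr hk).surjective.comp hπ⟩

end Cfsg.Agent.S2088
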