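import Cfsg.Statements.S2395
import Cfsg.Agent.EqLemmas

set_option autoImplicit false
open Cfsg

namespace Cfsg.Agent.S2395

open Cfsg.Lie

def witG2 : List (ℕ × ℕ) := [(1, 5), (0, 6), (0, 8), (0, 9), (0, 8), (0, 10), (1, 11), (0, 9), (1, 9), (5, 8), (5, 11), (6,
  10)]

def witB2 : List (ℕ × ℕ) := [(3, 2), (0, 5), (0, 6), (0, 5), (0, 6), (3, 6), (4, 5), (3, 6)]

def witD4 : List (ℕ × ℕ) := [(1, 9), (0, 14), (0, 15), (0, 16), (0, 17), (1, 17), (0, 19), (0, 20), (0, 21), (0, 22), (1,
  20), (1, 21), (2, 22), (3, 22), (1, 23), (2, 23), (3, 23), (4, 23), (6, 22), (6, 23), (7, 23),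
  (8, 23), (9, 23), (14, 22)]

def witF4 : List (ℕ × ℕ) := [(1, 23), (0, 24), (0, 26), (7, 14), (0, 31), (0, 32), (1, 32), (3, 33), (3, 34), (3, 35), (3,
  36), (3, 37), (3, 38), (3, 39), (3, 40), (0, 42), (0, 43), (1, 43), (7, 37), (7, 38), (7, 39),
  (0, 45), (1, 45), (0, 46), (1, 47), (2, 46), (2, 47), (8, 40), (9, 40), (10, 40), (4, 46), (4,
  47), (5, 47), (7, 44), (8, 44), (9, 44), (10, 44), (11, 44), (12, 44), (13, 44), (14, 44),
  (15, 46), (15, 47), (16, 47), (33, 40), (21, 47), (23, 47), (24, 46)]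

def witE6 : List (ℕ × ℕ) := [(1, 25), (0, 46), (0, 47), (0, 48), (0, 49), (0, 50), (0, 51), (0, 52), (0, 53), (0, 54), (0,
  55), (1, 53), (1, 54), (1, 55), (2, 55), (5, 55), (0, 61), (0, 62), (0, 63), (0, 64), (0, 65),
  (0, 66), (0, 67), (0, 68), (0, 69), (0, 70), (1, 64), (1, 65), (1, 66), (2, 66), (1, 67), (1,
  68), (1, 69), (2, 67), (2, 68), (3, 67), (4, 68), (3, 69), (4, 69), (2, 70), (3, 70), (4, 70),
  (5, 69), (5, 70), (6, 70), (7, 70), (1, 71), (2, 71), (3, 71), (4, 71), (5, 71), (6, 71), (7,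
  71), (8, 71), (9, 71), (10, 71), (16, 66), (16, 69), (16, 70), (17, 70), (18, 70), (16, 71),
  (17, 71), (18, 71), (19, 71), (20, 71), (21, 71), (22, 71), (23, 71), (24, 71), (25, 71), (46,
  70)]

def witE7 : List (ℕ × ℕ) := [(1, 32), (0, 93), (0, 94), (0, 95), (0, 96), (0, 97), (0, 98), (0, 99), (0, 100), (0, 101), (0,
  102), (0, 103), (0, 104), (0, 105), (0, 106), (0, 107), (0, 108), (0, 109), (0, 110), (0,
  111), (0, 112), (0, 113), (0, 114), (0, 115), (0, 116), (0, 117), (0, 118), (0, 119), (0,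
  120), (0, 121), (0, 122), (0, 123), (0, 124), (1, 109), (1, 110), (1, 111), (1, 112), (1,
  113), (1, 114), (1, 115), (1, 116), (1, 117), (1, 118), (2, 115), (2, 116), (2, 117), (2,
  118), (3, 118), (1, 119), (1, 120), (1, 121), (1, 122), (1, 123), (2, 119), (2, 120), (2,
  121), (2, 122), (3, 119), (3, 120), (3, 121), (4, 119), (4, 120), (5, 119), (6, 120), (5,
  121), (6, 121), (4, 122), (5, 122), (6, 122), (3, 123), (4, 123), (5, 123), (6, 123), (2,
  124), (3, 124), (4, 124), (5, 124), (6, 124), (7, 122), (7, 123), (8, 123), (9, 123), (10,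
  123), (7, 124), (8, 124), (9, 124), (10, 124), (11, 124), (12, 124), (13, 124), (14, 124),
  (15, 124), (16, 124), (1, 125), (2, 125), (3, 125), (4, 125), (5, 125), (6, 125), (7, 125),
  (8, 125), (9, 125), (10, 125), (11, 125), (12, 125), (13, 125), (14, 125), (15, 125), (16,
  125), (17, 125), (18, 125), (19, 125), (20, 125), (21, 125), (22, 125), (23, 125), (24, 125),
  (25, 125), (26, 125), (27, 125), (28, 125), (29, 125), (30, 125), (31, 125), (32, 125), (93,
  124)]

def witE8 : List (ℕ × ℕ) := [(1, 119), (0, 120), (0, 122), (0, 125), (0, 129), (0, 134), (0, 140), (0, 146), (0, 151), (0,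
  155), (0, 158), (0, 160), (0, 161), (1, 161), (0, 168), (0, 173), (0, 177), (0, 180), (0,
  182), (0, 183), (1, 183), (0, 187), (0, 190), (0, 192), (0, 193), (1, 193), (0, 196), (0,
  198), (0, 199), (1, 199), (0, 201), (0, 202), (1, 202), (0, 203), (1, 203), (2, 203), (0,
  206), (0, 208), (0, 209), (1, 209), (0, 211), (0, 212), (1, 212), (0, 213), (1, 213), (2,
  213), (0, 215), (0, 216), (1, 216), (0, 217), (1, 217), (2, 217), (0, 218), (1, 218), (2,
  218), (3, 218), (0, 220), (0, 221), (1, 221), (0, 222), (1, 222), (2, 222), (0, 223), (1,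
  223), (2, 223), (3, 223), (0, 224), (1, 224), (2, 224), (3, 224), (4, 224), (0, 225), (1,
  225), (2, 225), (3, 225), (4, 225), (5, 225), (6, 225), (0, 227), (0, 228), (1, 228), (0,
  229), (1, 229), (2, 229), (0, 230), (1, 230), (2, 230), (3, 230), (0, 231), (1, 231), (2,
  231), (3, 231), (4, 231), (0, 232), (1, 232), (2, 232), (3, 232), (4, 232), (5, 232), (0,
  233), (1, 233), (2, 233), (3, 233), (4, 233), (5, 233), (0, 234), (1, 234), (2, 234), (3,
  234), (4, 234), (0, 235), (1, 235), (2, 235), (3, 235), (0, 236), (1, 236), (2, 236), (0,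
  237), (1, 237), (0, 238), (1, 239), (2, 238), (2, 239), (3, 237), (3, 238), (3, 239), (4,
  236), (4, 237), (4, 238), (4, 239), (5, 235), (5, 236), (5, 237), (5, 238), (5, 239), (6,
  234), (6, 235), (6, 236), (6, 237), (6, 238), (6, 239), (7, 234), (7, 235), (7, 236), (7,
  237), (7, 238), (7, 239), (8, 235), (8, 236), (8, 237), (8, 238), (8, 239), (9, 236), (9,
  237), (9, 238), (9, 239), (10, 237), (10, 238), (10, 239), (11, 238), (11, 239), (12, 239),
  (14, 233), (14, 234), (14, 235), (14, 236), (14, 237), (14, 238), (14, 239), (15, 235), (15,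
  236), (15, 237), (15, 238), (15, 239), (16, 236), (16, 237), (16, 238), (16, 239), (17, 237),
  (17, 238), (17, 239), (18, 238), (18, 239), (19, 239), (21, 236), (21, 237), (21, 238), (21,
  239), (22, 237), (22, 238), (22, 239), (23, 238), (23, 239), (24, 239), (26, 237), (26, 238),
  (26, 239), (27, 238), (27, 239), (28, 239), (30, 238), (30, 239), (31, 239), (33, 239), (36,
  237), (36, 238), (36, 239), (37, 238), (37, 239), (38, 239), (40, 238), (40, 239), (41, 239),
  (43, 239), (46, 238), (46, 239), (47, 239), (49, 239), (52, 239), (56, 238), (56, 239), (57,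
  239), (59, 239), (62, 239), (66, 239), (71, 239), (78, 238), (78, 239), (79, 239), (81, 239),
  (84, 239), (88, 239), (93, 239), (99, 239), (105, 239), (110, 239), (114, 239), (117, 239),
  (119, 239), (120, 238)]

def isUnit (C : ℤ) : Bool := C == 1 || C == -1

/-- `k` is the only target of the relation at its witness, with unit coefficient. -/
def single (D : ChevalleyDatum) (W : List (ℕ × ℕ)) (k : ℕ) : Bool :=
  let p := W.getD k (0, 0)
  decide (k < D.nroots) && decide (p.1 < D.nroots) && decide (p.2 < D.nroots) &&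
    decide (p.2 ≠ p.1) && decide (p.2 ≠ D.neg p.1) &&
    match D.commTerms p.1 p.2 with
    | [(k', C, 1, 1)] => k' == k && isUnit C
    | _ => false

/-- `k` is one of the two leading targets, all further ones being single. -/
def double (D : ChevalleyDatum) (W : List (ℕ × ℕ)) (k : ℕ) : Bool :=
  let p := W.getD k (0, 0)
  decide (p.1 < D.nroots) && decide (p.2 < D.nroots) &&
    decide (p.2 ≠ p.1) && decide (p.2 ≠ D.neg p.1) &&
    match D.commTerms p.1 p.2 with
    | (k', C, 1, 1) :: (k'', C', 1, 2) :: rest =>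
      (k' == k || k'' == k) && isUnit C && isUnit C' && rest.all fun e => single D W e.1
    | _ => false

def allSingle (D : ChevalleyDatum) (W : List (ℕ × ℕ)) : Bool :=
  (List.range D.nroots).all fun k => single D W k

def allDouble (D : ChevalleyDatum) (W : List (ℕ × ℕ)) : Bool :=
  (List.range D.nroots).all fun k => single D W k || double D W k

section

variable {K : Type*} [Field K] (D : ChevalleyDatum)

/-- The image of a generator in the abelianisation. -/
def gen (r : ℕ) (t : K) : Abelianization (D.SteinbergCover K) := Abelianization.of (D.scGen K r t)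

theorem gen_add {r : ℕ} (hr : r < D.nroots) (t u : K) :
    gen D r (t + u) = gen D r t * gen D r u := by
  have h : PresentedGroup.mk (D.steinbergRelsAB K)
      (D.stX r t * D.stX r u * (D.stX r (t + u))⁻¹) = 1 :=
    PresentedGroup.one_of_mem (Or.inl ⟨r, t, u, hr, rfl⟩)
  rw [map_mul, map_mul, map_inv, mul_inv_eq_one] at h
  have h' := congrArg Abelianization.of h
  rw [map_mul] at h'
  exact h'.symm

theorem gen_zero {r : ℕ} (hr : r < D.nroots) : gen D r (0 : K) = 1 := by
  have h := gen_add D hr (0 : K) 0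
  rw [add_zero] at h
  exact left_eq_mul.1 h

theorem gen_word {r s : ℕ} (hr : r < D.nroots) (hs : s < D.nroots) (hsr : s ≠ r)
    (hsn : s ≠ D.neg r) (t u : K) :
    ((D.commTerms r s).map fun c => gen D c.1 ((c.2.1 : K) * (-t) ^ c.2.2.1 * u ^ c.2.2.2)).prod = 1 := by
  have h : PresentedGroup.mk (D.steinbergRelsAB K)
      ((D.stX s u)⁻¹ * (D.stX r t)⁻¹ * D.stX s u * D.stX r t *
        (D.stWord (D.commWord K r s t u))⁻¹) = 1 :=
    PresentedGroup.one_of_mem (Or.inr ⟨r, s, t, u, hr, hs, hsr, hsn, rfl⟩)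
  have h' := congrArg Abelianization.of h
  simp only [map_mul, map_inv, map_one] at h'
  have comm : ∀ a b : Abelianization (D.SteinbergCover K), a⁻¹ * b⁻¹ * a * b = 1 := fun a b => by
    rw [mul_assoc a⁻¹, mul_comm b⁻¹ a, ← mul_assoc, inv_mul_cancel, one_mul, inv_mul_cancel]
  rw [comm, one_mul, inv_eq_one] at h'
  simp only [ChevalleyDatum.stWord, ChevalleyDatum.commWord, map_list_prod, List.map_map] at h'
  exact h'

theorem unit_cases {C : ℤ} (h : isUnit C = true) : (C : K) * (C : K) = 1 := by
  simp [isUnit] at h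
  rcases h with h | h <;> simp [h]

theorem single_gen {W : List (ℕ × ℕ)} {k : ℕ} (h : single D W k = true) (z : K) : gen D k z = 1 := by
  simp only [single, Bool.and_eq_true, decide_eq_true_eq] at h
  obtain ⟨⟨⟨⟨⟨-, hr⟩, hs⟩, hsr⟩, hsn⟩, h⟩ := h
  split at h
  · rename_i k' C heq
    simp only [Bool.and_eq_true, beq_iff_eq] at h
    obtain ⟨rfl, hC⟩ := h
    have := gen_word D hr hs hsr hsn (-((C : K) * z)) 1
    rw [heq] at this
    simpa [← mul_assoc, unit_cases hC] using this
  · simp at h

theorem double_gen {W : List (ℕ × ℕ)} {a : K} (ha : a ≠ 0) (ha1 : a ≠ 1) {k : ℕ}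
    (hk : k < D.nroots) (hall : allDouble D W = true) (h : double D W k = true) (z : K) :
    gen D k z = 1 := by
  simp only [double, Bool.and_eq_true, decide_eq_true_eq] at h
  obtain ⟨⟨⟨⟨hr, hs⟩, hsr⟩, hsn⟩, h⟩ := h
  split at h
  · rename_i k' C k'' C' rest heq
    simp only [Bool.and_eq_true, Bool.or_eq_true, beq_iff_eq, List.all_eq_true] at h
    obtain ⟨⟨⟨hkk, hC⟩, hC'⟩, hrest⟩ := h
    have rel : ∀ t u : K, gen D k' ((C : K) * (-t) * u) * gen D k'' ((C' : K) * (-t) * u ^ 2) = 1 := by
      intro t u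
      have h1 := gen_word D hr hs hsr hsn t u
      rw [heq, List.map_cons, List.map_cons, List.prod_cons, List.prod_cons] at h1
      rw [List.prod_eq_one (l := rest.map _) (fun x hx => by
        obtain ⟨e, he, rfl⟩ := List.mem_map.1 hx
        exact single_gen D (hrest e he) _)] at h1
      simpa using h1
    have hk'' : ∀ y : K, gen D k'' y = 1 := by
      intro y
      by_cases hin : k'' < D.nroots
      · set w : K := y / ((C' : K) * (a - 1)) with hw
        have e1 := rel (-w) 1
        have e2 := rel (-(w / a)) a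
        rw [show (C : K) * - -(w / a) * a = C * - -w * 1 by field_simp,
          show (C' : K) * - -(w / a) * a ^ 2 = C' * - -w * 1 ^ 2 + y by
            have : (C' : K) ≠ 0 := fun h0 => by simpa [h0] using unit_cases (K := K) hC'
            have : a - 1 ≠ 0 := sub_ne_zero.2 ha1
            rw [hw]; field_simp; ring,
          gen_add D hin, ← mul_assoc, e1, one_mul] at e2
        exact e2
      · simp [gen, ChevalleyDatum.scGen, ChevalleyDatum.stX, hin]
    rcases hkk with rfl | rfl
    · have := rel (-((C : K) * z)) 1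
      rw [hk'', mul_one] at this
      simpa [← mul_assoc, unit_cases hC] using this
    · exact hk'' z
  · simp at h

theorem commutator_eq_top_of_gen (h : ∀ r, r < D.nroots → ∀ t : K, gen D r t = 1) :
    commutator (D.SteinbergCover K) = ⊤ := by
  rw [eq_top_iff, ← PresentedGroup.closure_range_of (D.steinbergRelsAB K), Subgroup.closure_le]
  rintro _ ⟨⟨r, t⟩, rfl⟩
  have := h r.1 r.2 t
  simp [gen, ChevalleyDatum.scGen, ChevalleyDatum.stX] at this
  exact (QuotientGroup.eq_one_iff _).1 this

theorem perfect {W : List (ℕ × ℕ)}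
    (h : allSingle D W = true ∨ (allDouble D W = true ∧ ∃ a : K, a ≠ 0 ∧ a ≠ 1)) :
    commutator (D.SteinbergCover K) = ⊤ := by
  refine commutator_eq_top_of_gen D fun r hr t => ?_
  rcases h with h | ⟨h, a, ha, ha1⟩
  · exact single_gen D (List.all_eq_true.1 h r (List.mem_range.2 hr)) t
  · rcases Bool.or_eq_true_iff.1 (List.all_eq_true.1 h r (List.mem_range.2 hr)) with h' | h'
    · exact single_gen D h' t
    · exact double_gen D ha ha1 hr h h' t

end


/-- The group presented by Steinberg's generators x̄_r(t) subject only to (R1) (additivity) and (R2) (the commutator formula) is perfect, for each of the types G₂, B₂, D₄, F₄, E₆, E₇, E₈ over any field (for types B₂ and G₂ the field must have more than two elements — the cases where the Chevalley group is not simple are set aside). -/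
theorem result {K : Type*} [Field K] (D : Cfsg.Lie.ChevalleyDatum) (hD : D ∈ [Cfsg.Lie.chevG2, Cfsg.Lie.chevB2, Cfsg.Lie.chevD4, Cfsg.Lie.chevF4, Cfsg.Lie.chevE6, Cfsg.Lie.chevE7, Cfsg.Lie.chevE8]) (hK : D ∈ [Cfsg.Lie.chevB2, Cfsg.Lie.chevG2] → ∃ x : K, x ≠ 0 ∧ x ≠ 1) :
    commutator (D.SteinbergCover K) = ⊤ := by
  simp only [List.mem_cons, List.not_mem_nil, or_false] at hD
  rcases hD with rfl | rfl | rfl | rfl | rfl | rfl | rfl
  · exact perfect _ (W := witG2) (Or.inr ⟨by decide +kernel, hK (by simp)⟩)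
  · exact perfect _ (W := witB2) (Or.inr ⟨by decide +kernel, hK (by simp)⟩)
  · exact perfect _ (W := witD4) (Or.inl (by decide +kernel))
  · exact perfect _ (W := witF4) (Or.inl (by decide +kernel))
  · exact perfect _ (W := witE6) (Or.inl (by decide +kernel))
  · exact perfect _ (W := witE7) (Or.inl (by decide +kernel))
  · exact perfect _ (W := witE8) (Or.inl (by decide +kernel))

end Cfsg.Agent.S2395
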