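import Cfsg.Statements.S2100
import Cfsg.Agent.Lib.ChevSt.Multiplier
import Cfsg.Agent.Lib.ChevSt.Universal
import Cfsg.Agent.Lib.Chev.All
import Cfsg.Agent.S2395
-- import your own Cfsg.Agent.* helpers here

set_option autoImplicit false
open Cfsg

namespace Cfsg.Agent.S2100

/-- Schur multipliers of the Chevalley groups of type G₂: over a field with q ≥ 5 elements the Schur multiplier of G₂(q) is trivial (here the Schur multiplier is described through stem extensions, as in the definitions); the cases q = 3 and q = 4 are exceptional and q = 2 gives a non-simple group. -/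
theorem result {F : Type*} [Field F] [Fintype F] (hF : 5 ≤ Fintype.card F) : Cfsg.HasCyclicSchurMultiplier ↥(Cfsg.Lie.chevG2.group F) 1 := by
  classical
  have hmem : Cfsg.Lie.chevG2 ∈ [Cfsg.Lie.chevG2, Cfsg.Lie.chevB2, Cfsg.Lie.chevD4, Cfsg.Lie.chevF4,
      Cfsg.Lie.chevE6, Cfsg.Lie.chevE7, Cfsg.Lie.chevE8] := by simp
  have hG := Chev.good_of_mem (D := Cfsg.Lie.chevG2) (by simp)
  have hX := fun (i : ℕ) (hi : i < Cfsg.Lie.chevG2.rank) => ChevSt.exists_decomp Cfsg.Lie.chevG2 hmem (i := i) hi
  obtain ⟨hP, hU⟩ := ChevSt.exists_univTables _ hmem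
  have hK : ∃ t : Finset F, 4 < t.card := ⟨Finset.univ, by rw [Finset.card_univ]; omega⟩
  have hperf := S2395.result (K := F) Cfsg.Lie.chevG2 hmem fun _ => by
    by_contra h
    push Not at h
    have hsub : (Finset.univ : Finset F) ⊆ {0, 1} := fun x _ => by
      by_cases h0 : x = 0
      · simp [h0]
      · simp [h x h0]
    have := (Finset.card_le_card hsub).trans Finset.card_le_two
    simp only [Finset.card_univ] at this
    omega
  refine ChevSt.multiplier_group hG ChevBN.rootsG2 hX hperf
    (fun L _ p hp hc => ChevSt.cover_section hG ChevBN.rootsG2 hX hP hU hK p hp hc) ?_ (Or.inl rfl)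
  rw [ChevSt.center_eq_bot_of_one hG ChevBN.rootsG2 hX, Subgroup.card_bot]

end Cfsg.Agent.S2100
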