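import Cfsg.Statements.S2101
import Cfsg.Agent.Lib.G2Cover.ThreeBound
import Cfsg.Agent.Lib.G2Cover.ThreeModel
-- import your own Cfsg.Agent.* helpers here

set_option autoImplicit false
open Cfsg

namespace Cfsg.Agent.S2101

/-- Exceptional Schur multiplier: over the field with 3 elements the Chevalley group of type G₂ has Schur multiplier cyclic of order 3 (here the Schur multiplier is described through stem extensions, as in the definitions). -/
theorem result {F : Type*} [Field F] [Fintype F] (hF : Fintype.card F = 3) : Cfsg.HasCyclicSchurMultiplier ↥(Cfsg.Lie.chevG2.group F) 3 := by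
  classical
  have hmem : Cfsg.Lie.chevG2 ∈ [Cfsg.Lie.chevG2, Cfsg.Lie.chevB2, Cfsg.Lie.chevD4, Cfsg.Lie.chevF4,
      Cfsg.Lie.chevE6, Cfsg.Lie.chevE7, Cfsg.Lie.chevE8] := by simp
  have hG := Chev.good_of_mem (D := Cfsg.Lie.chevG2) (by simp)
  have hX := fun (i : ℕ) (hi : i < Cfsg.Lie.chevG2.rank) => ChevSt.exists_decomp Cfsg.Lie.chevG2 hmem (i := i) hi
  obtain ⟨e₁, -⟩ := ChevSt.cover_equiv (F := F) hG ChevBN.rootsG2 hX
  obtain ⟨θ, hsur, hker, -⟩ := ChevSt.steinberg_center (F := F) hG ChevBN.rootsG2 hX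
  rw [ChevSt.center_eq_bot_of_one hG ChevBN.rootsG2 hX] at hker
  have e : Cfsg.Lie.chevG2.SteinbergCover F ≃* ↥(Cfsg.Lie.chevG2.group F) :=
    e₁.trans (MulEquiv.ofBijective θ ⟨(MonoidHom.ker_eq_bot_iff θ).1 hker, hsur⟩)
  haveI := ChevSt.finite_cover (F := F) hG ChevBN.rootsG2 hX
  obtain ⟨Γ, hg, hf, σ, ⟨h1, h2, h3⟩, hcard⟩ := G2Cover.exists_cover_three (F := F) hF
  haveI : Fact (Nat.Prime 3) := ⟨Nat.prime_three⟩
  have hk : (e.toMonoidHom.comp σ).ker = σ.ker := by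
    ext x
    simp [MonoidHom.mem_ker]
  refine ⟨⟨Γ, hg, hf, e.toMonoidHom.comp σ, ⟨e.surjective.comp h1, hk.le.trans h2, hk.le.trans h3⟩, ?_⟩, ?_⟩
  · rw [hk]
    exact ⟨(zmodCyclicMulEquiv (isCyclic_of_prime_card hcard)).symm.trans
      (MulEquiv.cast (M := fun n => Multiplicative (ZMod n)) hcard)⟩
  intro Δ _ _ π ⟨p1, p2, p3⟩
  have hk' : (e.symm.toMonoidHom.comp π).ker = π.ker := by
    ext x
    simp [MonoidHom.mem_ker]
  obtain ⟨c, hc, hc3, hle⟩ := G2Cover.bound_three hF hG (e.symm.toMonoidHom.comp π)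
    ⟨e.symm.surjective.comp p1, hk'.le.trans p2, hk'.le.trans p3⟩
  rw [hk'] at hc hle
  have hz : (⟨c, hc⟩ : π.ker) ^ (3 : ℤ) = 1 := Subtype.ext (by simpa using hc3)
  refine ⟨AddMonoidHom.toMultiplicativeLeft (ZMod.lift 3 ⟨(zmultiplesHom _) (Additive.ofMul (⟨c, hc⟩ : π.ker)), ?_⟩),
    fun z => ?_⟩
  · show ((3 : ℕ) : ℤ) • Additive.ofMul (⟨c, hc⟩ : π.ker) = 0
    rw [← ofMul_zpow]
    exact congrArg Additive.ofMul hz
  · obtain ⟨n, hn⟩ := Subgroup.mem_zpowers_iff.1 (hle z.2)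
    refine ⟨Multiplicative.ofAdd (n : ZMod 3), ?_⟩
    have he : (ZMod.lift 3 ⟨(zmultiplesHom (Additive π.ker)) (Additive.ofMul (⟨c, hc⟩ : π.ker)), by
        show ((3 : ℕ) : ℤ) • Additive.ofMul (⟨c, hc⟩ : π.ker) = 0
        rw [← ofMul_zpow]; exact congrArg Additive.ofMul hz⟩) (n : ZMod 3) =
        Additive.ofMul ((⟨c, hc⟩ : π.ker) ^ n) := by
      rw [ZMod.lift_coe]; rfl
    exact (congrArg Additive.toMul he).trans (Subtype.ext hn)

end Cfsg.Agent.S2101
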