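import Cfsg.Statements.S2102
import Cfsg.Agent.Lib.MultGTwoFour.Cover
import Cfsg.Agent.Lib.MultGTwoFour.Upper
-- import your own Cfsg.Agent.* helpers here

set_option autoImplicit false
set_option linter.style.haveILetI false
open Cfsg

namespace Cfsg.Agent.S2102

/-- Exceptional Schur multiplier: over the field with 4 elements the Chevalley group of type G₂ has Schur multiplier cyclic of order 2 (here the Schur multiplier is described through stem extensions, as in the definitions). -/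
theorem result {F : Type*} [Field F] [Fintype F] (hF : Fintype.card F = 4) : Cfsg.HasCyclicSchurMultiplier ↥(Cfsg.Lie.chevG2.group F) 2 := by
  classical
  obtain ⟨θ₀⟩ := JTwoInGTwo.exists_group_equiv Cfsg.Lie.chevG2 (FiniteField.ringEquivOfCardEq
    (K := Cfsg.Agent.Unitary.GF4) (K' := F) (by rw [hF]; decide +kernel))
  let θ : JTwoInGTwo.GSix ≃* ↥(Cfsg.Lie.chevG2.group F) :=
    ((MonoidHom.ofInjective SuzGTwo.matHom_spec.1).trans
      (MulEquiv.subgroupCongr SuzGTwo.matHom_spec.2)).trans θ₀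
  obtain ⟨Γ₀, _, _, σ₀, ⟨hs, hz, hc⟩, h2⟩ := MultGTwoFour.exists_cover
  have hup : ∀ {Γ₁ Γ₂ : Type _} [Group Γ₁] [Group Γ₂] (e : Γ₂ ≃* Γ₁) (y : Γ₂),
      e y ∈ commutator Γ₁ → y ∈ commutator Γ₂ := fun {Γ₁ Γ₂} _ _ e y hy => by
    have h := Subgroup.mem_map_of_mem e.symm.toMonoidHom hy
    have hle : (commutator Γ₁).map e.symm.toMonoidHom ≤ commutator Γ₂ := by
      rw [commutator_def, Subgroup.map_commutator]
      exact Subgroup.commutator_mono le_top le_top
    simpa using hle h
  let ev' : ULift Γ₀ ≃* Γ₀ := MulEquiv.ulift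
  let σ : ULift Γ₀ →* ↥(Cfsg.Lie.chevG2.group F) := θ.toMonoidHom.comp (σ₀.comp ev'.toMonoidHom)
  have hk : ∀ x, x ∈ σ.ker ↔ ev' x ∈ σ₀.ker := fun x => by
    simp only [MonoidHom.mem_ker]
    exact ⟨fun h => θ.injective (h.trans (map_one θ).symm), fun h => (congrArg θ h).trans (map_one θ)⟩
  refine ⟨⟨ULift Γ₀, inferInstance, inferInstance, σ, ⟨θ.surjective.comp (hs.comp ev'.surjective), ?_, ?_⟩,
    ?_⟩, fun Γ _ _ τ hτ => ?_⟩
  · intro x hx
    refine Subgroup.mem_center_iff.2 fun y => ev'.injective ?_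
    rw [map_mul, map_mul]
    exact Subgroup.mem_center_iff.1 (hz ((hk x).1 hx)) _
  · exact fun x hx => hup ev' x (hc ((hk x).1 hx))
  · have hcard : Nat.card σ.ker = 2 := by
      rw [← h2]
      exact Nat.card_congr (ev'.toEquiv.subtypeEquiv fun x => hk x)
    haveI := Fact.mk Nat.prime_two
    exact ⟨(zmodCyclicMulEquiv (isCyclic_of_prime_card hcard)).symm.trans (hcard ▸ MulEquiv.refl _)⟩
  · let τ' : Γ →* JTwoInGTwo.GSix := θ.symm.toMonoidHom.comp τ
    have hk' : τ'.ker = τ.ker := by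
      ext x
      simp only [MonoidHom.mem_ker]
      exact ⟨fun h => θ.symm.injective (h.trans (map_one _).symm),
        fun h => (congrArg θ.symm h).trans (map_one _)⟩
    obtain ⟨z, hzk, hz2, hle⟩ := MultGTwoFour.exists_generator τ'
      ⟨θ.symm.surjective.comp hτ.1, hk' ▸ hτ.2.1, hk' ▸ hτ.2.2⟩
    rw [hk'] at hzk hle
    let w : τ.ker := ⟨z, hzk⟩
    have hw : w * w = 1 := Subtype.ext hz2
    let π : Multiplicative (ZMod 2) →* τ.ker :=
      { toFun := fun k => w ^ (Multiplicative.toAdd k).val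
        map_one' := pow_zero w
        map_mul' := fun a b => by
          show w ^ ((Multiplicative.toAdd a + Multiplicative.toAdd b : ZMod 2)).val = _
          rw [ZMod.val_add, ← pow_add]
          conv_rhs => rw [← Nat.div_add_mod ((Multiplicative.toAdd a).val + (Multiplicative.toAdd b).val) 2,
            pow_add, pow_mul, pow_two, hw, one_pow, one_mul] }
    refine ⟨π, fun x => ?_⟩
    obtain ⟨n, hn⟩ := Subgroup.mem_zpowers_iff.1 (hle x.2)
    refine ⟨Multiplicative.ofAdd ((n : ℤ) : ZMod 2), Subtype.ext ?_⟩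
    show z ^ ((n : ℤ) : ZMod 2).val = x.1
    rw [← hn, ← zpow_natCast, ZMod.val_intCast]
    conv_rhs => rw [← Int.mul_ediv_add_emod n 2, zpow_add, zpow_mul, zpow_two, hz2, one_zpow, one_mul]
    rfl

end Cfsg.Agent.S2102
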