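import Cfsg.Statements.S2103
import Cfsg.Agent.Lib.ChevSt.SmallQSplit
import Cfsg.Agent.S2395
-- import your own Cfsg.Agent.* helpers here

set_option autoImplicit false
open Cfsg

namespace Cfsg.Agent.S2103

/-- Schur multipliers of the Chevalley groups of type F₄: over a finite field with more than 2 elements the Schur multiplier of F₄(q) is trivial (here the Schur multiplier is described through stem extensions, as in the definitions); q = 2 is exceptional. -/
theorem result {F : Type*} [Field F] [Fintype F] (hF : 3 ≤ Fintype.card F) : Cfsg.HasCyclicSchurMultiplier ↥(Cfsg.Lie.chevF4.group F) 1 := by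
  classical
  have hmem : Cfsg.Lie.chevF4 ∈ [Cfsg.Lie.chevG2, Cfsg.Lie.chevB2, Cfsg.Lie.chevD4, Cfsg.Lie.chevF4,
      Cfsg.Lie.chevE6, Cfsg.Lie.chevE7, Cfsg.Lie.chevE8] := by simp
  have hG := Chev.good_of_mem (D := Cfsg.Lie.chevF4) (by simp)
  have hX := fun (i : ℕ) (hi : i < Cfsg.Lie.chevF4.rank) => ChevSt.exists_decomp Cfsg.Lie.chevF4 hmem (i := i) hi
  have hperf := S2395.result (K := F) Cfsg.Lie.chevF4 hmem fun h => absurd (congrArg Cfsg.Lie.ChevalleyDatum.nroots
    (List.mem_cons.1 h |>.resolve_right fun h' => absurd (congrArg Cfsg.Lie.ChevalleyDatum.nroots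
      (List.mem_singleton.1 h')) (by decide +kernel))) (by decide +kernel)
  refine ChevSt.multiplier_group hG ChevBN.rootsF4 hX hperf (ChevSt.splits_F4 hF) ?_ (Or.inl rfl)
  rw [ChevSt.center_eq_bot_of_one hG ChevBN.rootsF4 hX, Subgroup.card_bot]

end Cfsg.Agent.S2103
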