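import Cfsg.Statements.S2105
import Cfsg.Agent.Lib.ChevSt.SLD4
import Cfsg.Agent.Lib.ChevSt.KerCard
import Cfsg.Agent.Lib.ChevSt.SubTables
import Cfsg.Agent.Lib.Chev.All
import Cfsg.Agent.S2395
-- import your own Cfsg.Agent.* helpers here

set_option autoImplicit false
open Cfsg

namespace Cfsg.Agent.S2105

/-- Schur multipliers of the (adjoint, simple) Chevalley groups of type E₆: over a field with q elements the Schur multiplier is cyclic of order gcd(3, q − 1) (here the Schur multiplier is described through stem extensions, as in the definitions). -/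
theorem result {F : Type*} [Field F] [Fintype F] {q : ℕ} (hF : Fintype.card F = q) : Cfsg.HasCyclicSchurMultiplier ↥(Cfsg.Lie.chevE6.group F) (Nat.gcd 3 (q - 1)) := by
  have hmem : Cfsg.Lie.chevE6 ∈ [Cfsg.Lie.chevG2, Cfsg.Lie.chevB2, Cfsg.Lie.chevD4, Cfsg.Lie.chevF4,
      Cfsg.Lie.chevE6, Cfsg.Lie.chevE7, Cfsg.Lie.chevE8] := by simp
  have hG := Chev.good_of_mem (D := Cfsg.Lie.chevE6) (by simp)
  have hX := fun (i : ℕ) (hi : i < Cfsg.Lie.chevE6.rank) => ChevSt.exists_decomp Cfsg.Lie.chevE6 hmem (i := i) hi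
  have hperf := S2395.result (K := F) Cfsg.Lie.chevE6 hmem fun h => absurd (congrArg Cfsg.Lie.ChevalleyDatum.nroots
    (List.mem_cons.1 h |>.resolve_right fun h' => absurd (congrArg Cfsg.Lie.ChevalleyDatum.nroots
      (List.mem_singleton.1 h')) (by decide +kernel))) (by decide +kernel)
  subst hF
  refine ChevSt.multiplier_group hG ChevBN.rootsE6 hX hperf (ChevSt.splits_E _ (by simp)) ?_ ?_
  · rw [ChevSt.card_center hG ChevBN.rootsE6 hX
      (Chev.good_of_mem (D := Cfsg.Lie.chevE8) (by simp)) ChevSt.subE6 ChevBN.rootsE8]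
    exact ChevSt.card_kerE6 hG
  · rcases (Nat.dvd_prime Nat.prime_three).1 (Nat.gcd_dvd_left _ _) with h | h
    exacts [Or.inl h, Or.inr (by rw [h]; exact Nat.prime_three)]

end Cfsg.Agent.S2105
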