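import Cfsg.Statements.S2108
import Cfsg.Agent.Lib.TwistMult.E6Cover
-- import your own Cfsg.Agent.* helpers here

set_option autoImplicit false
open Cfsg

namespace Cfsg.Agent.S2108

/-- Schur multipliers of the twisted groups of type ²E₆: for a prime power q ≠ 2, with the group realised over the field with q² elements, the Schur multiplier of ²E₆(q) is cyclic of order gcd(3, q + 1) (here the Schur multiplier is described through stem extensions, as in the definitions); q = 2 is exceptional. -/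
theorem result {K : Type*} [Field K] [Fintype K] {q : ℕ} (hq : IsPrimePow q) (hK : Fintype.card K = q ^ 2) (h2 : q ≠ 2) : Cfsg.HasCyclicSchurMultiplier ↥(Cfsg.Lie.twistedE6 K q) (Nat.gcd 3 (q + 1)) := by
  classical
  refine ⟨Cfsg.Agent.TwistMult.E6.exists_cover hq hK, fun Γ _ _ σ hσ => ?_⟩
  have hD : Cfsg.Agent.Chev.Good Cfsg.Lie.chevE6 := Cfsg.Agent.Chev.good_of_mem (D := Cfsg.Lie.chevE6) (by simp)
  obtain ⟨φ, e, hyp⟩ := Cfsg.Agent.TwistE6D4.exists_ctxE6 hD hq hK
  obtain ⟨hs, hc, hk⟩ := hσ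
  have hperfG : commutator ↥(Cfsg.Lie.twistedE6 K q) = ⊤ :=
    Cfsg.Agent.TwistE6D4.commutator_twistedE6 hD hq hK
  have hperf : commutator Γ = ⊤ := by
    rw [eq_top_iff]
    intro g _
    obtain ⟨c, hc', hcg⟩ : σ g ∈ (commutator Γ).map σ := by
      rw [commutator_def, Subgroup.map_commutator, Subgroup.map_top_of_surjective σ hs, ← commutator_def, hperfG]
      exact Subgroup.mem_top _
    have h1 : c⁻¹ * g ∈ σ.ker := by rw [MonoidHom.mem_ker, map_mul, map_inv, hcg, inv_mul_cancel]
    have h2 := mul_mem hc' (hk h1)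
    rwa [mul_inv_cancel_left] at h2
  let τ := (Cfsg.Lie.twistedE6 K q).subtype.comp σ
  have hker : τ.ker = σ.ker := by
    ext g
    simp only [MonoidHom.mem_ker, τ, MonoidHom.comp_apply]
    exact ⟨fun h => Subtype.ext h, fun h => by rw [h, map_one]⟩
  have E : Cfsg.Agent.TwistMult.E6.Ext hD φ q τ := by
    refine ⟨hyp, ?_, hker ▸ hc, hperf, ?_⟩
    · have := hq.two_le; omega
    · rw [MonoidHom.range_comp, MonoidHom.range_eq_top.2 hs, ← MonoidHom.range_eq_map, Subgroup.range_subtype, e]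
  obtain ⟨π, hπ⟩ := Cfsg.Agent.TwistMult.E6.exists_surj E
  exact ⟨(MulEquiv.subgroupCongr hker).toMonoidHom.comp π, (MulEquiv.subgroupCongr hker).surjective.comp hπ⟩

end Cfsg.Agent.S2108
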