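import Cfsg.Statements.S2110
import Cfsg.Agent.Lib.TwistMult.D4Rgd
import Cfsg.Agent.Lib.Chev.DataD4
-- import your own Cfsg.Agent.* helpers here

set_option autoImplicit false
open Cfsg

namespace Cfsg.Agent.S2110

/-- Schur multipliers of the triality-twisted groups ³D₄: for every prime power q, with the group realised over the field with q³ elements, the Schur multiplier of ³D₄(q) is trivial (here the Schur multiplier is described through stem extensions, as in the definitions). -/
theorem result {K : Type*} [Field K] [Fintype K] {q : ℕ} (hq : IsPrimePow q) (hK : Fintype.card K = q ^ 3) : Cfsg.HasCyclicSchurMultiplier ↥(Cfsg.Lie.twistedD4 K q) 1 := by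
  classical
  have hD : Cfsg.Agent.Chev.Good Cfsg.Lie.chevD4 := Cfsg.Agent.Chev.DataD4.good
  obtain ⟨φ, e, hyp⟩ := Cfsg.Agent.TwistE6D4.exists_ctxD4 hD hq hK
  refine Cfsg.Agent.SLTwoMult.hasCyclicSchurMultiplier_one fun Γ _ _ σ hσ r _ z hz _ => ?_
  obtain ⟨hs, hc, hk⟩ := hσ
  have hperfG : commutator ↥(Cfsg.Lie.twistedD4 K q) = ⊤ :=
    Cfsg.Agent.TwistE6D4.commutator_twistedD4 hD hq hK
  have hperf : commutator Γ = ⊤ := by
    rw [eq_top_iff]
    intro g _
    obtain ⟨c, hc', hcg⟩ : σ g ∈ (commutator Γ).map σ := by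
      rw [commutator_def, Subgroup.map_commutator, Subgroup.map_top_of_surjective σ hs, ← commutator_def, hperfG]
      exact Subgroup.mem_top _
    have h1 : c⁻¹ * g ∈ σ.ker := by rw [MonoidHom.mem_ker, map_mul, map_inv, hcg, inv_mul_cancel]
    have h2 := mul_mem hc' (hk h1)
    rwa [mul_inv_cancel_left] at h2
  let τ := (Cfsg.Lie.twistedD4 K q).subtype.comp σ
  have hker : τ.ker = σ.ker := by
    ext g
    simp only [MonoidHom.mem_ker, τ, MonoidHom.comp_apply]
    exact ⟨fun h => Subtype.ext h, fun h => by rw [h, map_one]⟩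
  have E : Cfsg.Agent.TwistMult.D4.Ext hD φ q τ := by
    refine ⟨hyp, hker ▸ hc, hperf, ?_⟩
    rw [MonoidHom.range_comp, MonoidHom.range_eq_top.2 hs, ← MonoidHom.range_eq_map, Subgroup.range_subtype, e]
  have h0 := Cfsg.Agent.TwistMult.D4.ker_eq_bot E
  rw [hker] at h0
  rw [h0] at hz
  exact Subgroup.mem_bot.1 hz

end Cfsg.Agent.S2110
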