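import Cfsg.Statements.S2112
import Cfsg.Agent.Lib.Suzuki.SzEightBound
import Cfsg.Agent.Lib.Suzuki.SzEightCocycle
import Cfsg.Agent.Lib.Suzuki.LieModel

set_option autoImplicit false
open Cfsg

namespace Cfsg.Agent.S2112

/-- Exceptional Schur multiplier: the Suzuki group Sz(8), built over the field with 8 elements using the map x ↦ x⁴, has Schur multiplier a four-group, the product of two cyclic groups of order 2 (here the Schur multiplier is described through stem extensions, as in the definitions). -/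
theorem result {F : Type*} [Field F] [Fintype F] (hF : Fintype.card F = 8) : Cfsg.HasSchurMultiplier ↥(Cfsg.Lie.Sz F 4) (Multiplicative (ZMod 2 × ZMod 2)) := by
  classical
  have hF' : Fintype.card F = 2 ^ (2 * 1 + 1) := hF
  let e : ↥(Cfsg.Sz F 1) ≃* ↥(Cfsg.Lie.Sz F 4) :=
    Cfsg.Agent.Suzuki.lieEquiv le_rfl hF'
  refine ⟨?_, ?_⟩
  · obtain ⟨Γ, i1, i2, σ, hσ, ⟨j⟩⟩ := Cfsg.Agent.Suzuki.Eight.exists_stem_four hF'
    have hk : (e.toMonoidHom.comp σ).ker = σ.ker :=
      by ext x; simp [MonoidHom.mem_ker]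
    exact ⟨Γ, i1, i2, e.toMonoidHom.comp σ,
      ⟨e.surjective.comp hσ.1, hk ▸ hσ.2.1, hk ▸ hσ.2.2⟩,
      ⟨(MulEquiv.subgroupCongr hk).trans j⟩⟩
  · intro Γ _ _ σ hσ
    have hk : (e.symm.toMonoidHom.comp σ).ker = σ.ker :=
      by ext x; simp [MonoidHom.mem_ker]
    obtain ⟨π, hπ⟩ := Cfsg.Agent.Suzuki.Eight.stem_kernel_le_four (σ := e.symm.toMonoidHom.comp σ) hF'
      ⟨e.symm.surjective.comp hσ.1, hk ▸ hσ.2.1, hk ▸ hσ.2.2⟩
    exact ⟨(MulEquiv.subgroupCongr hk).toMonoidHom.comp π,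
      (MulEquiv.subgroupCongr hk).surjective.comp hπ⟩

end Cfsg.Agent.S2112
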