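import Cfsg.Statements.S2113
import Cfsg.Agent.S1073
import Cfsg.Agent.S1152
import Cfsg.Agent.S1156
import Cfsg.Agent.Lib.Twisted.G2Mult
import Cfsg.Agent.Lib.Multiplier.SylowEight

set_option autoImplicit false
open Cfsg

namespace Cfsg.Agent.S2113

/-- Schur multipliers of the small Ree groups: for q = 3^(2m+1) with m ≥ 1 the Schur multiplier of ²G₂(q) is trivial (here the Schur multiplier is described through stem extensions, as in the definitions). -/
theorem result {K : Type*} [Field K] [Fintype K] {m : ℕ} (hm : 1 ≤ m) (hK : Fintype.card K = 3 ^ (2 * m + 1)) : Cfsg.HasCyclicSchurMultiplier ↥(Cfsg.Lie.twistedG2 K (3 ^ m)) 1 := by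
  haveI := Cfsg.Agent.Twisted.charP_ree hK
  obtain ⟨hsimple, hnc⟩ := Cfsg.Agent.S1073.result hm hK
  obtain ⟨a, haH, ha1, ha2⟩ : ∃ a : ↥(Cfsg.Lie.twistedG2 K (3 ^ m)),
      (a : GL Cfsg.Lie.chevG2.Idx K) ∈ Cfsg.Lie.chevG2.diagonalSubgroup K ∧ a ≠ 1 ∧ a * a = 1 := by
    refine ⟨⟨_, Cfsg.Agent.Twisted.tor_neg_one_mem hK⟩,
      ((Cfsg.Agent.Twisted.mem_H1_iff hK).2 ⟨-1, rfl⟩).1, fun h => ?_, Subtype.ext ?_⟩
    · have h' := Cfsg.Agent.Twisted.tor_injective
        ((congrArg Subtype.val h).trans Cfsg.Agent.Twisted.tor_one.symm)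
      have h3 : (-1 : K) = 1 := by simpa using congrArg Units.val h'
      have h30 : ((3 : ℕ) : K) = 0 := CharP.cast_eq_zero K 3
      push_cast at h30
      exact one_ne_zero (α := K) (show (1 : K) = 0 by linear_combination h30 + h3)
    · show Cfsg.Agent.Twisted.tor m (-1 : Kˣ) * Cfsg.Agent.Twisted.tor m (-1 : Kˣ) = 1
      rw [← Cfsg.Agent.Twisted.tor_mul, neg_one_mul, neg_neg, Cfsg.Agent.Twisted.tor_one]
  obtain ⟨-, hS⟩ := Cfsg.Agent.S1152.result hK a haH ha1 ha2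
  refine Cfsg.Agent.Multiplier.hasCyclicSchurMultiplier_one_of_prime fun Γ _ _ σ hσ p hp hk => ?_
  haveI := Fact.mk hp
  obtain ⟨z, hz⟩ := exists_prime_orderOf_dvd_card' (G := σ.ker) p (by rw [hk])
  have hz1 : (z : Γ) ≠ 1 := fun h => by
    rw [show z = 1 from Subtype.ext h, orderOf_one] at hz
    exact hp.ne_one hz.symm
  have hzp : (z : Γ) ^ p = 1 := by
    rw [← SubmonoidClass.coe_pow, ← hz, pow_orderOf_eq_one]; rfl
  rcases lt_trichotomy p 3 with hlt | rfl | hgt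
  · obtain rfl : p = 2 := by have := hp.two_le; omega
    exact Cfsg.Agent.Multiplier.not_stem_two_eight hnc (default : Sylow 2 _) (hS _).1 (hS _).2 hσ hk
  · exact hz1 (Cfsg.Agent.Twisted.threePart_trivial hm hK hσ z.2 hzp)
  · let P : Sylow p ↥(Cfsg.Lie.twistedG2 K (3 ^ m)) := default
    haveI := Cfsg.Agent.S1156.result hm hK hgt P
    obtain ⟨r, hr⟩ := IsCyclic.exists_generator (α := (P : Subgroup ↥(Cfsg.Lie.twistedG2 K (3 ^ m))))
    have hg : Subgroup.zpowers (r : ↥(Cfsg.Lie.twistedG2 K (3 ^ m))) = P := by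
      refine le_antisymm (Subgroup.zpowers_le.2 r.2) fun x hx => ?_
      obtain ⟨k, hk'⟩ := Subgroup.mem_zpowers_iff.1 (hr ⟨x, hx⟩)
      exact Subgroup.mem_zpowers_iff.2 ⟨k, by simpa using congrArg Subtype.val hk'⟩
    exact hz1 (Cfsg.Agent.Schur.eq_one_of_cyclic hσ hp _ (hg ▸ P.not_dvd_index) z.2
      (k := 1) (by rw [pow_one]; exact hzp))

end Cfsg.Agent.S2113
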