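import Cfsg.Statements.S2114
import Cfsg.Agent.Lib.Twisted.F4Suzuki
import Cfsg.Agent.Lib.SLTwoMult.Basic

set_option autoImplicit false
open Cfsg

namespace Cfsg.Agent.S2114

/-- Schur multipliers of the large Ree groups: for q = 2^(2m+1) with m ≥ 1 the Schur multiplier of ²F₄(q) is trivial (here the Schur multiplier is described through stem extensions, as in the definitions). -/
theorem result {K : Type*} [Field K] [Fintype K] {m : ℕ} (hm : 1 ≤ m) (hK : Fintype.card K = 2 ^ (2 * m + 1)) : Cfsg.HasCyclicSchurMultiplier ↥(Cfsg.Lie.twistedF4 K (2 ^ m)) 1 := by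
  haveI := Cfsg.Agent.Twisted.F4.charP_f4 hK
  refine Cfsg.Agent.SLTwoMult.hasCyclicSchurMultiplier_one fun Γ _ _ σ hσ r _ z hz _ => ?_
  have hker : ∀ g, g ∈ ((Cfsg.Lie.twistedF4 K (2 ^ m)).subtype.comp σ).ker ↔ g ∈ σ.ker := fun g => by
    simp only [MonoidHom.mem_ker, MonoidHom.comp_apply, Subgroup.coe_subtype, OneMemClass.coe_eq_one]
  have hrange : ((Cfsg.Lie.twistedF4 K (2 ^ m)).subtype.comp σ).range = Cfsg.Lie.twistedF4 K (2 ^ m) := by
    rw [MonoidHom.range_comp, MonoidHom.range_eq_top.2 hσ.1, ← MonoidHom.range_eq_map, Subgroup.range_subtype]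
  have h := Cfsg.Agent.Twisted.F4.ker_trivial hK hm _ (fun g hg => hσ.2.1 ((hker g).1 hg))
    (hrange.trans (Cfsg.Agent.Twisted.F4.twisted_eq hK)).ge (fun g hg => hσ.2.2 ((hker g).1 hg))
    (hrange.trans (Cfsg.Agent.Twisted.F4.twisted_eq hK)).le
  simpa [h] using (hker z).2 hz

end Cfsg.Agent.S2114
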