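import Cfsg.Statements.S2136
import Cfsg.Agent.Lib.Co2Centralizer.Main
import Cfsg.Agent.Lib.LargeExtraspecial.Simple

set_option autoImplicit false
open Cfsg

namespace Cfsg.Agent.S2136

open Cfsg.Agent Cfsg.Agent.Co2Centralizer

/-- The involution in Co2. -/
def invCo2 : ↥Cfsg.Spor.Co2 :=
  ⟨inv0.1, inv0.2, show inv0 • Spor.leechU = Spor.leechU from
    (mem_octSub_iff_fixed Spor.leechU).1 uVec_mem⟩

/-- The centraliser in Co2 and the centraliser in the lattice group. -/
def centEquiv : ↥(Subgroup.centralizer ({invCo2} : Set ↥Cfsg.Spor.Co2)) ≃* ↥cent where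
  toFun x := ⟨⟨x.1.1, x.1.2.1⟩, mem_cent.2 ⟨x.1.2.2, Subtype.ext
    (congrArg Subtype.val (Subgroup.mem_centralizer_singleton_iff.1 x.2) :)⟩⟩
  invFun y := ⟨⟨y.1.1, y.1.2, (mem_cent.1 y.2).1⟩, Subgroup.mem_centralizer_singleton_iff.2
    (Subtype.ext (congrArg Subtype.val (mem_cent.1 y.2).2 :))⟩
  left_inv _ := rfl
  right_inv _ := rfl
  map_mul' _ _ := rfl

/-- The Conway group Co₂ (the stabiliser of a minimal vector of the rank-24 lattice) has an involution whose centraliser C has largest normal 2-subgroup extraspecial of order 2^9 with quotient C / O₂(C) isomorphic to the symplectic group Sp(6, 2) (shape 2^{1+8}Sp(6, 2)). -/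
theorem result : ∃ t : ↥Cfsg.Spor.Co2, orderOf t = 2 ∧ Cfsg.IsExtraspecial 2 (Cfsg.pCore 2 ↥(Subgroup.centralizer ({t} : Set ↥Cfsg.Spor.Co2))) ∧ Nat.card (Cfsg.pCore 2 ↥(Subgroup.centralizer ({t} : Set ↥Cfsg.Spor.Co2))) = 2 ^ 9 ∧ Nonempty (↥(Subgroup.centralizer ({t} : Set ↥Cfsg.Spor.Co2)) ⧸ Cfsg.pCore 2 ↥(Subgroup.centralizer ({t} : Set ↥Cfsg.Spor.Co2)) ≃* Matrix.symplecticGroup (Fin 3) (ZMod 2)) := by
  refine ⟨invCo2, ?_, ?_⟩
  · haveI : Fact (Nat.Prime 2) := ⟨Nat.prime_two⟩
    refine orderOf_eq_prime ?_ ?_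
    · rw [sq]
      refine Subtype.ext (congrArg Subtype.val (show inv0 * inv0 = 1 from
        Leech.co0_ext fun v => Subtype.ext (funext fun i => ?_)) :)
      rw [mul_smul, inv0_smul, inv0_smul, one_smul]
      split_ifs <;> omega
    · intro h
      obtain ⟨j, hj⟩ : ∃ j : GolayPt, j ∉ oct := by decide +kernel
      have h0 : inv0 = 1 := Subtype.ext (congrArg Subtype.val h :)
      have h2 := inv0_smul (Leech.eightVec j) j
      rw [h0, one_smul, if_neg hj, Leech.coe_eightVec, Pi.single_eq_same] at h2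
      norm_num at h2
  let ψ := phi.comp centEquiv.toMonoidHom
  have hs : Function.Surjective ψ := phi_surjective.comp centEquiv.surjective
  let ek : ↥phi.ker ≃* ↥ψ.ker :=
    { toFun := fun y => ⟨centEquiv.symm y.1, show phi (centEquiv (centEquiv.symm y.1)) = 1 by
        rw [centEquiv.apply_symm_apply]; exact y.2⟩
      invFun := fun x => ⟨centEquiv x.1, x.2⟩
      left_inv := fun _ => rfl
      right_inv := fun _ => rfl
      map_mul' := fun _ _ => rfl }
  have hcard : Nat.card ψ.ker = 2 ^ 9 := (Nat.card_congr ek.toEquiv).symm.trans natCard_ker_phi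
  have hcore := pCore_eq_ker ψ hs (IsPGroup.of_card hcard)
  refine ⟨?_, ?_, ⟨(QuotientGroup.quotientMulEquivOfEq hcore).trans
    (QuotientGroup.quotientKerEquivOfSurjective ψ hs)⟩⟩
  · rw [hcore]
    exact LargeExtraspecial.isExtraspecial_congr ek isExtraspecial_ker_phi
  · rw [hcore, hcard]

end Cfsg.Agent.S2136
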