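import Cfsg.Statements.S2140
import Cfsg.Agent.Lib.MinIndexPSL.Lift
-- import your own Cfsg.Agent.* helpers here

set_option autoImplicit false
open Cfsg

namespace Cfsg.Agent.S2140

/-- Minimal index of a proper subgroup of the linear groups: for n ≥ 3 and a field F with q elements, (n, q) ≠ (4, 2), every proper subgroup of PSL_n(F) has index at least (q^n − 1)/(q − 1), and some subgroup has exactly that index (the stabiliser of a point of the projective space). -/
theorem result {F : Type*} [Field F] [Fintype F] {q : ℕ} (hF : Fintype.card F = q) (n : ℕ) (hn : 3 ≤ n) (hexc : ¬ (n = 4 ∧ q = 2)) : (∀ H : Subgroup (Matrix.ProjectiveSpecialLinearGroup (Fin n) F), H ≠ ⊤ → (q ^ n - 1) / (q - 1) ≤ H.index) ∧ (∃ H : Subgroup (Matrix.ProjectiveSpecialLinearGroup (Fin n) F), H.index = (q ^ n - 1) / (q - 1)) := by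
  subst hF
  rw [← Nat.card_eq_fintype_card] at hexc ⊢
  classical
  set q := Nat.card F
  have hq : 1 < q := Finite.one_lt_card
  refine ⟨fun H hH => ?_, ?_⟩
  · by_contra hlt
    push Not at hlt
    let f : Matrix.SpecialLinearGroup (Fin n) F →* GL (Fin n) F := Matrix.SpecialLinearGroup.toGL
    let K : Subgroup (Matrix.SpecialLinearGroup (Fin n) F) :=
      H.comap (QuotientGroup.mk' (Subgroup.center (Matrix.SpecialLinearGroup (Fin n) F)))
    have hKi : K.index = H.index :=
      Subgroup.index_comap_of_surjective H (QuotientGroup.mk'_surjective _)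
    have hfinj : Function.Injective f := fun A B h => Subtype.ext (congrArg Units.val h)
    have hrange : (⊤ : Subgroup (Matrix.SpecialLinearGroup (Fin n) F)).map f
        = MinIndexPSL.SLG (Fin n) F := by
      ext g
      rw [Transvect.mem_sl_iff, Subgroup.mem_map]
      constructor
      · rintro ⟨A, -, rfl⟩
        exact A.2
      · intro h
        exact ⟨⟨_, h⟩, trivial, Units.ext rfl⟩
    refine MinIndexPSL.not_small (M := K.map f) (fun h => hexc ⟨by simpa using h.1, h.2⟩) ⟨by simpa using hn, ?_, ?_⟩
    · rw [← hrange]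
      intro hle
      rw [Subgroup.map_le_map_iff_of_injective hfinj, top_le_iff] at hle
      apply hH
      have h1 := congrArg (Subgroup.map (QuotientGroup.mk'
        (Subgroup.center (Matrix.SpecialLinearGroup (Fin n) F)))) hle
      simp only [K] at h1
      rwa [Subgroup.map_comap_eq_self_of_surjective (QuotientGroup.mk'_surjective _),
        Subgroup.map_top_of_surjective _ (QuotientGroup.mk'_surjective _)] at h1
    · rw [← hrange, Subgroup.relIndex_map_map_of_injective _ _ hfinj, Subgroup.relIndex_top_right,
        hKi, Fintype.card_fin]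
      obtain ⟨n', rfl⟩ : ∃ n', n = n' + 1 := ⟨n - 1, by omega⟩
      show (q - 1) * H.index ≤ q * (q ^ (n' + 1 - 1) - 1)
      rw [Nat.add_sub_cancel, Nat.mul_sub, mul_one, ← pow_succ']
      have h1 := Nat.mul_le_mul_left (q - 1) (Nat.succ_le_of_lt hlt)
      have h2 := h1.trans (Nat.mul_div_le (q ^ (n' + 1) - 1) (q - 1))
      rw [Nat.succ_eq_add_one, mul_add, mul_one] at h2
      omega
  · obtain ⟨i₀⟩ : Nonempty (Fin n) := ⟨⟨0, by omega⟩⟩
    let x : Projectivization F (Fin n → F) :=
      Projectivization.mk F (Pi.single i₀ 1) (by simp)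
    refine ⟨MulAction.stabilizer (Matrix.ProjectiveSpecialLinearGroup (Fin n) F) x, ?_⟩
    rw [MulAction.index_stabilizer_of_transitive, Projectivization.card'' F (Fin n → F),
      Nat.card_fun, Nat.card_eq_fintype_card (α := Fin n), Fintype.card_fin]

end Cfsg.Agent.S2140
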