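import Cfsg.Statements.S2143
import Cfsg.Agent.Lib.MinIndex.OrthModels

set_option autoImplicit false
open Cfsg Cfsg.Agent

namespace Cfsg.Agent.S2143

/-- Minimal index of a proper subgroup of the odd-dimensional orthogonal groups: for m ≥ 3 and a field F with q elements, q odd and q ≥ 5, every proper subgroup of PΩ_(2m+1)(F) (for the form x₀² + Σ xᵢyᵢ) has index at least (q^(2m) − 1)/(q − 1), and that index is attained. -/
theorem result {F : Type*} [Field F] [Fintype F] {q : ℕ} (hF : Fintype.card F = q) (hodd : Odd q) (h5 : 5 ≤ q) (m : ℕ) (hm : 3 ≤ m) : (∀ H : Subgroup (Cfsg.POmega F (Cfsg.quadFormOdd m F)), H ≠ ⊤ → (q ^ (2 * m) - 1) / (q - 1) ≤ H.index) ∧ (∃ H : Subgroup (Cfsg.POmega F (Cfsg.quadFormOdd m F)), H.index = (q ^ (2 * m) - 1) / (q - 1)) := by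
  subst hF
  have h2 : (2 : F) ≠ 0 := by
    intro h
    obtain ⟨p, hp⟩ := CharP.exists F
    obtain ⟨n, hpp, hc⟩ := FiniteField.card F p
    have hd : p ∣ 2 := (CharP.cast_eq_zero_iff F p 2).1 (by exact_mod_cast h)
    rw [(Nat.prime_dvd_prime_iff_eq hpp Nat.prime_two).1 hd] at hc
    exact Nat.not_even_iff_odd.2 hodd (hc ▸ Nat.even_pow.2 ⟨even_two, n.ne_zero⟩)
  have H : AutPOmega.Base (Orth.quadOdd m F) :=
    ⟨Orth.quadOdd_nondeg m h2, by simp; omega⟩
  rw [← MinIndex.spt_quadOdd (F := F) m]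
  exact MinIndex.pomega_min_index H (by omega)

end Cfsg.Agent.S2143
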