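import Cfsg.Statements.S2147
import Cfsg.Agent.Lib.MinIndex.SmallModels

set_option autoImplicit false
open Cfsg Cfsg.Agent

namespace Cfsg.Agent.S2147

/-- Minimal index of a proper subgroup of the even-dimensional orthogonal groups of minus type: for m ≥ 4 and a field F with q elements, every proper subgroup of PΩ⁻_2m(F) (for the form Σ_{i<m−1} xᵢyᵢ + z₁² + a z₁z₂ + b z₂² with anisotropic binary part) has index at least (q^m + 1)(q^(m−1) − 1)/(q − 1), and that index is attained. -/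
theorem result {F : Type*} [Field F] [Fintype F] {q : ℕ} (hF : Fintype.card F = q) (m : ℕ) (hm : 4 ≤ m) (a b : F) (hab : ∀ z₁ z₂ : F, z₁ ^ 2 + a * z₁ * z₂ + b * z₂ ^ 2 = 0 → z₁ = 0 ∧ z₂ = 0) : (∀ H : Subgroup (Cfsg.POmega F (Cfsg.quadFormMinus (m - 1) F a b)), H ≠ ⊤ → (q ^ m + 1) * (q ^ (m - 1) - 1) / (q - 1) ≤ H.index) ∧ (∃ H : Subgroup (Cfsg.POmega F (Cfsg.quadFormMinus (m - 1) F a b)), H.index = (q ^ m + 1) * (q ^ (m - 1) - 1) / (q - 1)) := by
  subst hF
  obtain ⟨k, rfl⟩ : ∃ k, m = k + 1 := ⟨m - 1, by omega⟩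
  rw [Nat.add_sub_cancel, ← MinIndex.spt_quadMinus (F := F) k hab]
  by_cases hq : 4 ≤ Fintype.card F
  · exact MinIndex.pomega_min_index
      (⟨Orth.quadMinus_nondeg k hab, by simp; omega⟩ :
        AutPOmega.Base (Orth.quadMinus k F a b)) hq
  · exact MinIndex.minus_small (by
      have := Fintype.one_lt_card (α := F)
      omega) k (by omega) hab

end Cfsg.Agent.S2147
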