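import Cfsg.Statements.S2151
import Cfsg.Agent.Lib.MinIndexU.Main

set_option autoImplicit false
open Cfsg

namespace Cfsg.Agent.S2151

/-- Minimal index of a proper subgroup of the unitary groups of odd dimension n ≥ 5: for a field F with q² elements, every proper subgroup of PSU_n(q) has index at least (q^n + 1)(q^(n−1) − 1)/(q² − 1), and that index is attained. -/
theorem result {F : Type*} [Field F] [Fintype F] (q : ℕ) (hF : Fintype.card F = q ^ 2) (hq : 2 ≤ q) (n : ℕ) (hn : 5 ≤ n) (hodd : Odd n) : (∀ H : Subgroup (Cfsg.PSU n F q), H ≠ ⊤ → (q ^ n + 1) * (q ^ (n - 1) - 1) / (q ^ 2 - 1) ≤ H.index) ∧ (∃ H : Subgroup (Cfsg.PSU n F q), H.index = (q ^ n + 1) * (q ^ (n - 1) - 1) / (q ^ 2 - 1)) := by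
  have hodd' : ¬ Even n := Nat.not_even_iff_odd.2 hodd
  have e : (q ^ n + 1) * (q ^ (n - 1) - 1) = MinIndexU.isoC q n := by
    rw [MinIndexU.isoC, if_neg hodd']; rfl
  rw [e]
  refine ⟨fun H hH => Nat.div_le_of_le_mul ?_, ?_⟩
  · rw [mul_comm]
    exact MinIndexU.index_psu_lower hF n hn (Or.inr hodd) H hH
  · obtain ⟨H, hH⟩ := MinIndexU.exists_index_isoLine hF n (by omega)
    have h4 : 4 ≤ q ^ 2 := Nat.pow_le_pow_left hq 2
    exact ⟨H, by rw [← hH, Nat.mul_div_cancel _ (by omega)]⟩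

end Cfsg.Agent.S2151
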