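import Cfsg.Agent.Lib.ChevTorus.Table

set_option autoImplicit false

namespace Cfsg.Agent.S2157

open Cfsg.Lie Cfsg.Agent.ChevTorus

theorem result {F : Type*} [Field F] (D : Cfsg.Lie.ChevalleyDatum) (hD : D ∈ [Cfsg.Lie.chevG2, Cfsg.Lie.chevB2, Cfsg.Lie.chevD4, Cfsg.Lie.chevF4, Cfsg.Lie.chevE6, Cfsg.Lie.chevE7, Cfsg.Lie.chevE8]) (χ : ℕ → Fˣ) (hχ : D.IsRootCharacter χ) (r : ℕ) (hr : r < D.nroots) (t : F) :
    D.charDiag F χ * D.x F r t * D.charDiag F (fun s => (χ s)⁻¹) = D.x F r ((χ r : F) * t) := by
  have hT := tableOK_of_mem D hD
  have hneg : χ (D.negIdx.getD r 0) = (χ r)⁻¹ := hχ.1 r hr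
  simp only [ChevalleyDatum.x, dif_pos hr]
  ext row col
  rw [ChevalleyDatum.charDiag, ChevalleyDatum.charDiag, Matrix.mul_diagonal, Matrix.diagonal_mul]
  simp only [ChevalleyDatum.xMat, Matrix.of_apply]
  rcases col with i | s
  · rcases row with i' | u
    · simp
    · by_cases hu : u = ⟨r, hr⟩
      · subst hu; simp; ring
      · simp [hu]
  · dsimp only
    by_cases hs : s = ⟨r, hr⟩
    · subst hs
      rcases row with i' | u
      · simp
      · by_cases hu : u = ⟨r, hr⟩
        · subst hu; simp
        · simp [hu]
    · rw [if_neg hs, if_neg hs]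
      by_cases hn : s.val = D.negIdx.getD r 0
      · rw [if_pos hn, if_pos hn]
        have hsv : χ s.val = (χ r)⁻¹ := by rw [hn]; exact hneg
        rcases row with i' | u
        · simp [hsv]; ring
        · by_cases hu : u = s
          · subst hu; simp
          · by_cases hur : u = ⟨r, hr⟩
            · subst hur
              simp [hu, hsv]; ring
            · simp [hu, hur]
      · rw [if_neg hn, if_neg hn]
        rcases row with i' | u
        · simp
        · simp only [Sum.elim_inr]
          rw [mul_add, add_mul]
          congr 1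
          · by_cases hu : u = s
            · subst hu; simp
            · simp [hu]
          · rw [← List.sum_map_mul_left, ← List.sum_map_mul_right]
            refine congrArg List.sum (List.map_congr_left fun km hkm => ?_)
            have := chainCoeff_value D hT χ hχ r hr _ _ km hkm
            rw [this, Units.val_mul, Units.val_pow_eq_pow_val, Units.val_inv_eq_inv_val, mul_pow]
            field_simp

end Cfsg.Agent.S2157
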