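import Cfsg.Statements.S2162
import Cfsg.Agent.EqLemmas

set_option autoImplicit false
open Cfsg

namespace Cfsg.Agent.S2162

open Module in
/-- A basis adapted to an endomorphism of square zero. -/
theorem exists_adapted_basis {F V : Type*} [Field F] [AddCommGroup V] [Module F V] [FiniteDimensional F V]
    (f : V →ₗ[F] V) (hf : f.comp f = 0) (ℓ : ℕ) (hℓ : finrank F f.range = ℓ) :
    ∃ (r : ℕ) (b : Basis (Fin ℓ ⊕ (Fin ℓ ⊕ Fin r)) F V), (∀ i, f (b (.inl i)) = b (.inr (.inl i))) ∧
      (∀ x, f (b (.inr x)) = 0) := by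
  classical
  subst hℓ
  let wB := finBasis F f.range
  choose u hu using fun i => LinearMap.mem_range.mp (wB i).2
  have hle : f.range ≤ f.ker := by
    rintro _ ⟨x, rfl⟩
    exact LinearMap.congr_fun hf x
  obtain ⟨Z, hZ⟩ := Submodule.exists_isCompl (f.range.comap f.ker.subtype)
  let zB := finBasis F Z
  let v : Fin (finrank F f.range) ⊕ (Fin (finrank F f.range) ⊕ Fin (finrank F Z)) → V :=
    Sum.elim u (Sum.elim (fun i => (wB i : V)) (fun k => ((zB k : f.ker) : V)))
  have hw0 : ∀ i, f (wB i : V) = 0 := fun i => hle (wB i).2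
  have hz0 : ∀ k, f ((zB k : f.ker) : V) = 0 := fun k => (zB k : f.ker).2
  have hli : LinearIndependent F v := by
    rw [Fintype.linearIndependent_iff]
    intro g hg
    simp only [v, Fintype.sum_sum_type, Sum.elim_inl, Sum.elim_inr] at hg
    have hgu := congrArg f hg
    simp only [map_add, map_sum, map_smul, map_zero, hu, hw0, hz0, smul_zero, Finset.sum_const_zero,
      add_zero] at hgu
    have h1 : ∀ i, g (.inl i) = 0 := by
      refine Fintype.linearIndependent_iff.mp wB.linearIndependent (fun i => g (.inl i)) ?_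
      apply Subtype.ext
      simpa using hgu
    simp only [h1, zero_smul, Finset.sum_const_zero, zero_add] at hg
    set zs : Z := ∑ k, g (.inr (.inr k)) • zB k with hzs
    have hzmem : (zs : f.ker) ∈ f.range.comap f.ker.subtype := by
      rw [Submodule.mem_comap]
      have h : ((zs : f.ker) : V) = - ∑ i, g (.inr (.inl i)) • (wB i : V) := by
        rw [hzs]; simp only [Submodule.coe_sum, Submodule.coe_smul]
        exact eq_neg_of_add_eq_zero_right hg
      show ((zs : f.ker) : V) ∈ f.range
      rw [h]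
      exact neg_mem (sum_mem fun i _ => Submodule.smul_mem _ _ (wB i).2)
    have hzz : zs = 0 := by
      apply Subtype.ext
      exact Submodule.disjoint_def.mp hZ.disjoint _ hzmem zs.2
    have h3 : ∀ k, g (.inr (.inr k)) = 0 :=
      Fintype.linearIndependent_iff.mp zB.linearIndependent (fun k => g (.inr (.inr k))) hzz
    simp only [h3, zero_smul, Finset.sum_const_zero, add_zero] at hg
    have h2 : ∀ i, g (.inr (.inl i)) = 0 := by
      refine Fintype.linearIndependent_iff.mp wB.linearIndependent (fun i => g (.inr (.inl i))) ?_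
      apply Subtype.ext
      simpa using hg
    rintro (i | i | k)
    exacts [h1 i, h2 i, h3 k]
  have hcard : Fintype.card (Fin (finrank F f.range) ⊕ (Fin (finrank F f.range) ⊕ Fin (finrank F Z))) =
      finrank F V := by
    have h1 := LinearMap.finrank_range_add_finrank_ker f
    have h2 := Submodule.finrank_add_eq_of_isCompl hZ
    rw [(Submodule.comapSubtypeEquivOfLe hle).finrank_eq] at h2
    simp only [Fintype.card_sum, Fintype.card_fin]
    omega
  let b := Basis.mk hli (hli.span_eq_top_of_card_eq_finrank' hcard).ge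
  refine ⟨_, b, fun i => ?_, fun x => ?_⟩
  · simp [b, v, hu]
  · rcases x with i | k
    · simp [b, v, hw0]
    · simp [b, v, hz0]

/-- Conjugacy of involutions in the special linear group over a finite field of characteristic two, in dimension at least 3: two elements of order 2 of SL_n(F) are conjugate in SL_n(F) exactly when the matrices a − 1 and b − 1 have the same rank (the rank of a − 1 is the dimension of the commutator space [V, a]). -/
theorem result {F : Type*} [Field F] [Fintype F] [CharP F 2] {n : ℕ} (hn : 3 ≤ n) (a b : Matrix.SpecialLinearGroup (Fin n) F) (ha : orderOf a = 2) (hb : orderOf b = 2) :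
    IsConj a b ↔ ((a : Matrix (Fin n) (Fin n) F) - 1).rank = ((b : Matrix (Fin n) (Fin n) F) - 1).rank := by
  classical
  set A : Matrix (Fin n) (Fin n) F := (a : Matrix (Fin n) (Fin n) F) with hAdef
  set B : Matrix (Fin n) (Fin n) F := (b : Matrix (Fin n) (Fin n) F) with hBdef
  constructor
  · intro h
    obtain ⟨c, hc⟩ := isConj_iff.mp h
    have h1 : (B - 1) = (c : Matrix (Fin n) (Fin n) F) * (A - 1) * ((c⁻¹ : Matrix.SpecialLinearGroup (Fin n) F) : Matrix (Fin n) (Fin n) F) := by
      rw [mul_sub, mul_one, sub_mul, hBdef, ← hc, hAdef, Matrix.SpecialLinearGroup.coe_mul, Matrix.SpecialLinearGroup.coe_mul,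
        ← Matrix.SpecialLinearGroup.coe_mul c c⁻¹, mul_inv_cancel, Matrix.SpecialLinearGroup.coe_one]
    rw [h1, Matrix.rank_mul_eq_left_of_isUnit_det, Matrix.rank_mul_eq_right_of_isUnit_det]
    · rw [Matrix.SpecialLinearGroup.det_coe]; exact isUnit_one
    · rw [Matrix.SpecialLinearGroup.det_coe]; exact isUnit_one
  · intro hr
    have key : ∀ x : Matrix.SpecialLinearGroup (Fin n) F, orderOf x = 2 →
        ((x : Matrix (Fin n) (Fin n) F) - 1) * ((x : Matrix (Fin n) (Fin n) F) - 1) = 0 ∧
        0 < ((x : Matrix (Fin n) (Fin n) F) - 1).rank := by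
      intro x hx
      have hxx : x * x = 1 := by rw [← sq, ← hx]; exact pow_orderOf_eq_one x
      refine ⟨?_, ?_⟩
      · rw [sub_mul, mul_sub, mul_one, one_mul, ← Matrix.SpecialLinearGroup.coe_mul, hxx,
          Matrix.SpecialLinearGroup.coe_one]
        ext i j
        simp [Matrix.sub_apply, CharTwo.sub_eq_add, CharTwo.add_self_eq_zero, add_comm]
      · refine Nat.pos_of_ne_zero fun h0 => ?_
        have h1 : (x : Matrix (Fin n) (Fin n) F) - 1 = 0 := by
          apply Matrix.toLin'.injective
          rw [map_zero, ← LinearMap.range_eq_bot, ← Submodule.finrank_eq_zero (R := F), ← h0]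
          rw [Matrix.rank, Matrix.toLin'_apply']
        have : x = 1 := Subtype.ext (sub_eq_zero.mp h1)
        simp [this] at hx
    obtain ⟨hA2, hApos⟩ := key a ha
    obtain ⟨hB2, -⟩ := key b hb
    set fa := Matrix.toLin' (A - 1) with hfa
    set fb := Matrix.toLin' (B - 1) with hfb
    have hra : Module.finrank F fa.range = (A - 1).rank := by rw [hfa, Matrix.rank, Matrix.toLin'_apply']
    have hrb : Module.finrank F fb.range = (A - 1).rank := by rw [hr, hfb, Matrix.rank, Matrix.toLin'_apply']
    have hfa2 : fa.comp fa = 0 := by rw [hfa, ← Matrix.toLin'_mul, hA2, map_zero]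
    have hfb2 : fb.comp fb = 0 := by rw [hfb, ← Matrix.toLin'_mul, hB2, map_zero]
    obtain ⟨r, ea, hau, haw⟩ := exists_adapted_basis fa hfa2 _ hra
    obtain ⟨r', eb', hbu, hbw⟩ := exists_adapted_basis fb hfb2 _ hrb
    have hrr : r' = r := by
      have h1 := Module.finrank_eq_card_basis ea
      have h2 := Module.finrank_eq_card_basis eb'
      simp only [Fintype.card_sum, Fintype.card_fin] at h1 h2
      omega
    subst hrr
    let g₀ := ea.equiv eb' (Equiv.refl _)
    have hg₀ : ∀ x, g₀ (ea x) = eb' x := fun x => by simp [g₀]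
    set d : F := LinearMap.det (g₀ : (Fin n → F) →ₗ[F] (Fin n → F)) with hd
    have hd0 : d ≠ 0 := (LinearEquiv.isUnit_det' g₀).ne_zero
    obtain ⟨s, hs⟩ : ∃ s : F, s ^ 2 = d⁻¹ := by
      obtain ⟨s, hs⟩ := (Finite.injective_iff_surjective.mp (frobenius_inj F 2)) d⁻¹
      exact ⟨s, by rw [← hs, frobenius_def]⟩
    let i₀ : Fin (A - 1).rank := ⟨0, hApos⟩
    let c : Fin (A - 1).rank ⊕ (Fin (A - 1).rank ⊕ Fin r') → F :=
      Sum.elim (fun i => if i = i₀ then s else 1) (Sum.elim (fun i => if i = i₀ then s else 1) (fun _ => 1))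
    let g₁ : (Fin n → F) →ₗ[F] (Fin n → F) := eb'.constr F (fun x => c x • eb' x)
    have hg₁ : ∀ x, g₁ (eb' x) = c x • eb' x := fun x => by simp [g₁]
    have hdet1 : LinearMap.det g₁ = d⁻¹ := by
      have hm : LinearMap.toMatrix eb' eb' g₁ = Matrix.diagonal c := by
        ext i j
        simp only [LinearMap.toMatrix_apply, hg₁, map_smul, Module.Basis.repr_self, Finsupp.smul_apply,
          Finsupp.single_apply, Matrix.diagonal_apply]
        split_ifs with h1 h2 h2 <;> simp_all
      rw [← LinearMap.det_toMatrix eb', hm, Matrix.det_diagonal, Fintype.prod_sum_type, Fintype.prod_sum_type]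
      simp [c, ← hs, sq]
    let g : (Fin n → F) →ₗ[F] (Fin n → F) := g₁.comp (g₀ : (Fin n → F) →ₗ[F] (Fin n → F))
    have hcomm : g.comp fa = fb.comp g := by
      refine ea.ext fun x => ?_
      rcases x with i | x
      · show g₁ (g₀ (fa (ea (.inl i)))) = fb (g₁ (g₀ (ea (.inl i))))
        rw [hg₀ (.inl i), hg₁ (.inl i), map_smul, hbu i]
        erw [hau i]
        rw [hg₀, hg₁]
        rfl
      · show g₁ (g₀ (fa (ea (.inr x)))) = fb (g₁ (g₀ (ea (.inr x))))
        rw [hg₀ (.inr x), hg₁ (.inr x), map_smul, hbw x, smul_zero]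
        erw [haw x]
        rw [map_zero, map_zero]
    have hdet : (LinearMap.toMatrix' g).det = 1 := by
      rw [LinearMap.det_toMatrix', LinearMap.det_comp, hdet1, ← hd, inv_mul_cancel₀ hd0]
    refine isConj_iff.mpr ⟨⟨LinearMap.toMatrix' g, hdet⟩, ?_⟩
    refine mul_inv_eq_iff_eq_mul.mpr ?_
    apply Subtype.ext
    have h := congrArg LinearMap.toMatrix' hcomm
    simp only [hfa, hfb, LinearMap.toMatrix'_comp, LinearMap.toMatrix'_toLin'] at h
    rw [ mul_sub, sub_mul, mul_one, one_mul, sub_left_inj] at h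
    exact h

end Cfsg.Agent.S2162
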