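import Cfsg.Statements.S2163
import Cfsg.Agent.EqLemmas

set_option autoImplicit false
open Cfsg

namespace Cfsg.Agent.S2163


/-- Over a finite field of characteristic two and for n ≥ 3: for every ℓ with 1 ≤ ℓ and 2ℓ ≤ n, the matrix j_ℓ that is the identity plus the entries 1 in positions (n − ℓ + i, i) for i < ℓ (an identity block of size ℓ in the lower left corner) lies in SL_n(F), has order 2, and j_ℓ − 1 has rank ℓ. Together with the conjugacy criterion by rank, these matrices represent the conjugacy classes of involutions of SL_n(F). -/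
theorem result {F : Type*} [Field F] [Fintype F] [CharP F 2] {n : ℕ} (hn : 3 ≤ n) (ℓ : ℕ) (h1 : 1 ≤ ℓ) (h2 : 2 * ℓ ≤ n) :
    ∃ a : Matrix.SpecialLinearGroup (Fin n) F, (a : Matrix (Fin n) (Fin n) F) = 1 + Matrix.of (fun i j : Fin n => if j.val < ℓ ∧ i.val = j.val + (n - ℓ) then (1 : F) else 0) ∧ orderOf a = 2 ∧ ((a : Matrix (Fin n) (Fin n) F) - 1).rank = ℓ := by
  classical
  set N : Matrix (Fin n) (Fin n) F :=
    Matrix.of (fun i j : Fin n => if j.val < ℓ ∧ i.val = j.val + (n - ℓ) then (1 : F) else 0) with hN
  have hNN : N * N = 0 := by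
    ext i k
    simp only [Matrix.mul_apply, hN, Matrix.of_apply, Matrix.zero_apply]
    refine Finset.sum_eq_zero fun j _ => ?_
    split_ifs with ha hb <;> simp
    omega
  have h2F : (2 : F) = 0 := CharTwo.two_eq_zero
  have hsq : (1 + N) * (1 + N) = 1 := by
    rw [mul_add, add_mul, add_mul, one_mul, one_mul, mul_one, hNN, add_zero, add_assoc]
    ext i k
    simp [Matrix.add_apply, CharTwo.add_self_eq_zero]
  have hdet : (1 + N).det = 1 := by
    have h := congrArg Matrix.det hsq
    rw [Matrix.det_mul, Matrix.det_one] at h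
    rcases mul_self_eq_one_iff.mp h with h' | h'
    · exact h'
    · rw [h', CharTwo.neg_eq]
  let top : Fin ℓ → Fin n := fun k => ⟨k.val + (n - ℓ), by omega⟩
  let low : Fin ℓ → Fin n := fun k => ⟨k.val, by omega⟩
  have hsub : N.submatrix top low = 1 := by
    ext i j
    simp [hN, top, low, Matrix.one_apply, Fin.ext_iff]
  have hrank : N.rank = ℓ := by
    refine le_antisymm ?_ ?_
    · refine (Matrix.rank_le_card_of_support_subset N (Finset.univ.image top) ?_).trans
        (Finset.card_image_le.trans (by simp))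
      rw [Function.support_subset_iff']
      intro i hi
      funext j
      simp only [Matrix.row, hN, Matrix.of_apply, Pi.zero_apply]
      rw [if_neg]
      rintro ⟨hj, hij⟩
      exact hi (Finset.mem_coe.mpr (Finset.mem_image.mpr ⟨⟨j.val, hj⟩, Finset.mem_univ _, Fin.ext hij.symm⟩))
    · have := Matrix.rank_submatrix_le N top low
      rwa [hsub, Matrix.rank_one, Fintype.card_fin] at this
  refine ⟨⟨1 + N, hdet⟩, rfl, ?_, ?_⟩
  · refine orderOf_eq_prime ?_ ?_
    · refine Subtype.ext ?_
      show (1 + N) ^ 2 = 1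
      rw [sq, hsq]
    · intro h
      have h' : 1 + N = 1 := congrArg Subtype.val h
      rw [add_eq_left] at h'
      rw [h', Matrix.rank_zero] at hrank
      omega
  · show ((1 + N) - 1).rank = ℓ
    rw [add_sub_cancel_left, hrank]

end Cfsg.Agent.S2163
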