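import Cfsg.Statements.S2164
import Cfsg.Agent.EqLemmas
import Cfsg.Agent.Lib.InvolSU.NormalForm

set_option autoImplicit false
open Cfsg
open Cfsg.Agent.Unitary Cfsg.Agent.InvolSU Matrix

namespace Cfsg.Agent.S2164

variable {F : Type*} [Field F] [Fintype F] [CharP F 2] {n q : ℕ}

/-- Two involutions of SU_n(q) with the same rank are conjugate. -/
theorem conj_of_rank (hF : Fintype.card F = q ^ 2) (a b : ↥(Cfsg.SU n F q))
    (ha : orderOf a = 2) (hb : orderOf b = 2)
    (hr : (((a : Matrix.SpecialLinearGroup (Fin n) F) : Matrix (Fin n) (Fin n) F) - 1).rank =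
      (((b : Matrix.SpecialLinearGroup (Fin n) F) : Matrix (Fin n) (Fin n) F) - 1).rank) : IsConj a b := by
  classical
  have hq : q % 2 = 0 := by
    obtain ⟨p, m, hp, hchar, rfl, -⟩ := exists_prime_pow hF
    obtain rfl : p = 2 := CharP.eq F hchar ‹CharP F 2›
    have hm : m ≠ 0 := fun h => by subst h; have := two_le_q hF; simp at this
    simp [Nat.pow_mod, hm]
  let val : ↥(Cfsg.SU n F q) → Matrix (Fin n) (Fin n) F := fun g =>
    ((g : Matrix.SpecialLinearGroup (Fin n) F) : Matrix (Fin n) (Fin n) F)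
  have hinv : ∀ g : ↥(Cfsg.SU n F q), orderOf g = 2 → val g * val g = 1 := fun g hg => by
    have h1 : g * g = 1 := by rw [← sq, ← hg, pow_orderOf_eq_one]
    exact congrArg val h1
  obtain ⟨c, hc, hkn, hca⟩ := exists_swap_basis hF (hinv a ha) (fun u v => a.2 u v)
  obtain ⟨d, hd, -, hdb⟩ := exists_swap_basis hF (hinv b hb) (fun u v => b.2 u v)
  set k := ((val a) - 1).rank with hk
  rw [← hr] at hdb
  have hk0 : k ≠ 0 := fun h0 => by
    have hA : val a = 1 := by
      refine Matrix.ext_of_mulVec_single fun i => ?_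
      have h1 : ∀ j, val a *ᵥ c j = c j := fun j => by
        rw [hca, h0]
        exact congrArg c (Fin.ext (by simp [blockSwap]))
      rw [Unitary.Orthonormal.eq_sum_of_card (hermForm_isHerm hF n) hc (by simp) (Pi.single i 1), Matrix.mulVec_sum,
        Matrix.one_mulVec]
      exact Finset.sum_congr rfl fun j _ => by rw [Matrix.mulVec_smul, h1]
    have : a = 1 := Subtype.ext (Matrix.SpecialLinearGroup.ext _ _ fun i j => congrFun (congrFun hA i) j)
    rw [this, orderOf_one] at ha
    exact absurd ha (by norm_num)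
  -- the change of basis, corrected to determinant one
  let cols : (Fin n → Fin n → F) → Matrix (Fin n) (Fin n) F := fun v => Matrix.of fun i j => v j i
  have hcols : ∀ v u, cols v *ᵥ u = ∑ j, u j • v j := fun v u => by
    funext i
    simp [cols, Matrix.mulVec, dotProduct, mul_comm]
  have hiso : ∀ v, Unitary.Orthonormal (Cfsg.hermForm n F q) v → ∀ x y,
      Cfsg.hermForm n F q (cols v *ᵥ x) (cols v *ᵥ y) = Cfsg.hermForm n F q x y := fun v hv x y => by
    rw [hcols, hcols, Unitary.Orthonormal.inner_sum hF (hermForm_isHerm hF n) hv]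
    rfl
  have hdetU : ∀ v, Unitary.Orthonormal (Cfsg.hermForm n F q) v → (cols v).det ^ (q + 1) = 1 := fun v hv => by
    have hg : (cols v)ᵀ * (cols v).map (Unitary.conjHom hF) = 1 := by
      ext i j
      show Cfsg.hermForm n F q (v i) (v j) = _
      rw [hv.apply, Matrix.one_apply]
    have h := congrArg Matrix.det hg
    rw [Matrix.det_mul, Matrix.det_transpose, Matrix.det_one, ← RingHom.mapMatrix_apply, ← RingHom.map_det,
      Unitary.conjHom_apply, ← pow_succ'] at h
    exact h
  set δ := (cols c).det * (cols d).det ^ q with hδ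
  have hδ1 : δ ^ (q + 1) = 1 := by
    rw [hδ, mul_pow, hdetU c hc, one_mul, ← pow_mul, mul_comm, pow_mul, hdetU d hd, one_pow]
  set l := δ ^ ((q + 2) / 2) with hl
  have hl2 : l * l = δ := by
    rw [hl, ← pow_add, show (q + 2) / 2 + (q + 2) / 2 = q + 1 + 1 by omega, pow_succ, hδ1, one_mul]
  have hl1 : l ^ (q + 1) = 1 := by rw [hl, ← pow_mul, mul_comm, pow_mul, hδ1, one_pow]
  let w : Fin n → F := fun i => if (i : ℕ) = 0 ∨ (i : ℕ) = k then l else 1
  let d' : Fin n → Fin n → F := fun i => w i • d i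
  have hw : ∀ i, w i ^ (q + 1) = 1 := fun i => by
    simp only [w]; split_ifs <;> simp [hl1]
  have hd' : Unitary.Orthonormal (Cfsg.hermForm n F q) d' := by
    have H := hermForm_isHerm hF n
    refine ⟨fun i => ?_, fun i j hij => ?_⟩
    · simp only [d']
      rw [H.smul_left, H.smul_right, hd.1, mul_one, ← pow_succ', hw]
    · simp only [d']
      rw [H.smul_left, H.smul_right, hd.2 hij, mul_zero, mul_zero]
  have hwswap : ∀ i, w (blockSwap n k i) = w i := fun i => by
    simp only [w, blockSwap]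
    rw [dif_pos (show k + k ≤ n by omega)]
    split_ifs <;> first | rfl | (exfalso; simp_all <;> omega)
  have hdb' : ∀ i, val b *ᵥ d' i = d' (blockSwap n k i) := fun i => by
    simp only [d']
    rw [Matrix.mulVec_smul, hdb, hwswap]
  have hdet : (cols d').det = (cols c).det := by
    have e : cols d' = cols d * Matrix.diagonal w := by
      ext i j; simp [cols, d', mul_comm]
    rw [e, Matrix.det_mul, Matrix.det_diagonal]
    have hkn' : k < n := by omega
    rw [← Finset.prod_subset (Finset.subset_univ ({⟨0, by omega⟩, ⟨k, hkn'⟩} : Finset (Fin n))) (fun x _ hx => by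
      simp only [Finset.mem_insert, Finset.mem_singleton, Fin.ext_iff, not_or] at hx
      simp only [w]; rw [if_neg]; rintro (h | h); exacts [hx.1 h, hx.2 h]),
      Finset.prod_pair (by simp [Fin.ext_iff]; exact Ne.symm hk0)]
    simp only [w, true_or, or_true, if_true]
    rw [hl2, hδ, ← mul_assoc, mul_comm (cols d).det, mul_assoc, ← pow_succ', hdetU d hd, mul_one]
  have hcu : IsUnit (cols c).det := by
    rw [isUnit_iff_ne_zero]; intro h0
    have := hdetU c hc
    rw [h0, zero_pow (Nat.succ_ne_zero q)] at this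
    exact zero_ne_one this
  set g := cols d' * (cols c)⁻¹ with hg
  have hgdet : g.det = 1 := by
    rw [hg, Matrix.det_mul, hdet, ← Matrix.det_mul, Matrix.mul_nonsing_inv _ hcu, Matrix.det_one]
  have hgc : g * cols c = cols d' := by rw [hg, Matrix.mul_assoc, Matrix.nonsing_inv_mul _ hcu, mul_one]
  have hgv : ∀ i, g *ᵥ c i = d' i := fun i => by
    have h1 : ∀ v, cols v *ᵥ Pi.single i 1 = v i := fun v => by
      rw [hcols, Finset.sum_eq_single i] <;> simp +contextual
    rw [← h1 c, Matrix.mulVec_mulVec, hgc, h1]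
  let G₀ : Matrix.SpecialLinearGroup (Fin n) F := ⟨g, hgdet⟩
  have hGmem : G₀ ∈ Cfsg.SU n F q := by
    intro x y
    show Cfsg.hermForm n F q (g *ᵥ x) (g *ᵥ y) = _
    have hx : ∀ x, g *ᵥ x = cols d' *ᵥ ((cols c)⁻¹ *ᵥ x) := fun x => (Matrix.mulVec_mulVec _ _ _).symm
    rw [hx, hx, hiso d' hd', ← hiso c hc, Matrix.mulVec_mulVec, Matrix.mulVec_mulVec,
      Matrix.mul_nonsing_inv _ hcu, Matrix.one_mulVec, Matrix.one_mulVec]
  refine isConj_iff.mpr ⟨⟨G₀, hGmem⟩, ?_⟩
  rw [mul_inv_eq_iff_eq_mul]
  refine Subtype.ext (Subtype.ext ?_)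
  show g * val a = val b * g
  refine (((Matrix.isUnit_iff_isUnit_det _).mpr hcu).mul_right_cancel (Matrix.ext_of_mulVec_single fun i => ?_))
  have h1 : ∀ v, cols v *ᵥ Pi.single i 1 = v i := fun v => by
    rw [hcols, Finset.sum_eq_single i] <;> simp +contextual
  rw [← Matrix.mulVec_mulVec _ (g * val a) (cols c), ← Matrix.mulVec_mulVec _ (val b * g) (cols c), h1 c,
    ← Matrix.mulVec_mulVec _ g (val a), ← Matrix.mulVec_mulVec _ (val b) g, hca, hgv, hgv, hdb']

/-- Conjugacy of involutions in the special unitary group SU_n(q), q even, n ≥ 3, realised over the field F with q² elements as the matrices of determinant 1 preserving the form Σ u_i v_i^q: for two elements of order 2 of SU_n(q) the following are equivalent — they are conjugate in SU_n(q); they are conjugate in SL_n(F); the matrices a − 1 and b − 1 have the same rank. -/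
theorem result {F : Type*} [Field F] [Fintype F] [CharP F 2] {n q : ℕ} (hF : Fintype.card F = q ^ 2) (hn : 3 ≤ n) (a b : ↥(Cfsg.SU n F q)) (ha : orderOf a = 2) (hb : orderOf b = 2) :
    (IsConj a b ↔ IsConj (a : Matrix.SpecialLinearGroup (Fin n) F) (b : Matrix.SpecialLinearGroup (Fin n) F)) ∧
    (IsConj a b ↔ (((a : Matrix.SpecialLinearGroup (Fin n) F) : Matrix (Fin n) (Fin n) F) - 1).rank = (((b : Matrix.SpecialLinearGroup (Fin n) F) : Matrix (Fin n) (Fin n) F) - 1).rank) := by
  have hto : IsConj a b → IsConj (a : Matrix.SpecialLinearGroup (Fin n) F) (b : Matrix.SpecialLinearGroup (Fin n) F) :=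
    fun h => (Cfsg.SU n F q).subtype.map_isConj h
  have hrank : IsConj (a : Matrix.SpecialLinearGroup (Fin n) F) (b : Matrix.SpecialLinearGroup (Fin n) F) →
      (((a : Matrix.SpecialLinearGroup (Fin n) F) : Matrix (Fin n) (Fin n) F) - 1).rank =
        (((b : Matrix.SpecialLinearGroup (Fin n) F) : Matrix (Fin n) (Fin n) F) - 1).rank := fun h => by
    obtain ⟨c, hc⟩ := isConj_iff.mp h
    have hcc : ((c : Matrix.SpecialLinearGroup (Fin n) F) : Matrix (Fin n) (Fin n) F) *
        ((c⁻¹ : Matrix.SpecialLinearGroup (Fin n) F) : Matrix (Fin n) (Fin n) F) = 1 := by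
      rw [← Matrix.SpecialLinearGroup.coe_mul, mul_inv_cancel, Matrix.SpecialLinearGroup.coe_one]
    have e : ((b : Matrix.SpecialLinearGroup (Fin n) F) : Matrix (Fin n) (Fin n) F) - 1 =
        (c : Matrix (Fin n) (Fin n) F) * (((a : Matrix.SpecialLinearGroup (Fin n) F) : Matrix (Fin n) (Fin n) F) - 1) *
          ((c⁻¹ : Matrix.SpecialLinearGroup (Fin n) F) : Matrix (Fin n) (Fin n) F) := by
      rw [Matrix.mul_sub, Matrix.sub_mul, mul_one, hcc, ← hc, Matrix.SpecialLinearGroup.coe_mul,
        Matrix.SpecialLinearGroup.coe_mul]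
    rw [e, Matrix.rank_mul_eq_left_of_isUnit_det _ _ (by rw [Matrix.SpecialLinearGroup.det_coe]; exact isUnit_one),
      Matrix.rank_mul_eq_right_of_isUnit_det _ _ (by rw [Matrix.SpecialLinearGroup.det_coe]; exact isUnit_one)]
  exact ⟨⟨hto, fun h => conj_of_rank hF a b ha hb (hrank h)⟩,
    ⟨fun h => hrank (hto h), conj_of_rank hF a b ha hb⟩⟩

end Cfsg.Agent.S2164
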