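import Cfsg.Statements.S2165
import Cfsg.Agent.EqLemmas

set_option autoImplicit false
open Cfsg

namespace Cfsg.Agent.S2165

/-- The involution exchanging `i` and `n - ℓ + i` for `i < ℓ`. -/
def swapTop {n : ℕ} (ℓ : ℕ) (h2 : 2 * ℓ ≤ n) : Equiv.Perm (Fin n) :=
  Function.Involutive.toPerm
    (fun i => (⟨if i.val < ℓ then i.val + (n - ℓ) else if n - ℓ ≤ i.val then i.val - (n - ℓ) else i.val,
      by split_ifs <;> omega⟩ : Fin n))
    (by intro i; ext; dsimp only; split_ifs <;> omega)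

theorem swapTop_val {n : ℕ} (ℓ : ℕ) (h2 : 2 * ℓ ≤ n) (i : Fin n) : (swapTop ℓ h2 i).val =
    if i.val < ℓ then i.val + (n - ℓ) else if n - ℓ ≤ i.val then i.val - (n - ℓ) else i.val := rfl

theorem swapTop_eq_iff {n : ℕ} (ℓ : ℕ) (h2 : 2 * ℓ ≤ n) (i j : Fin n) :
    swapTop ℓ h2 i = j ↔ (j.val < ℓ ∧ i.val = j.val + (n - ℓ)) ∨ (i.val < ℓ ∧ j.val = i.val + (n - ℓ)) ∨
      (i = j ∧ ℓ ≤ i.val ∧ i.val < n - ℓ) := by
  rw [Fin.ext_iff, swapTop_val, Fin.ext_iff]
  split_ifs <;> omega

/-- In SU_n(q), q even, n ≥ 3 (matrices of determinant 1 over the field with q² elements preserving Σ u_i v_i^q): for every ℓ with 1 ≤ ℓ and 2ℓ ≤ n, the permutation matrix of the involution of {0, …, n−1} exchanging i and n − ℓ + i for each i < ℓ lies in SU_n(q), has order 2, and differs from the identity by a matrix of rank ℓ. So every rank between 1 and n/2 occurs for involutions of SU_n(q). -/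
theorem result {F : Type*} [Field F] [Fintype F] [CharP F 2] {n q : ℕ} (hF : Fintype.card F = q ^ 2) (hn : 3 ≤ n) (ℓ : ℕ) (h1 : 1 ≤ ℓ) (h2 : 2 * ℓ ≤ n) :
    ∃ a : ↥(Cfsg.SU n F q), (((a : Matrix.SpecialLinearGroup (Fin n) F) : Matrix (Fin n) (Fin n) F) = Matrix.of (fun i j : Fin n => if (j.val < ℓ ∧ i.val = j.val + (n - ℓ)) ∨ (i.val < ℓ ∧ j.val = i.val + (n - ℓ)) ∨ (i = j ∧ ℓ ≤ i.val ∧ i.val < n - ℓ) then (1 : F) else 0)) ∧ orderOf a = 2 ∧ ((((a : Matrix.SpecialLinearGroup (Fin n) F) : Matrix (Fin n) (Fin n) F)) - 1).rank = ℓ := by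
  classical
  set σ := swapTop ℓ h2 with hσ
  set P : Matrix (Fin n) (Fin n) F := σ.permMatrix F with hP
  have hPeq : P = Matrix.of (fun i j : Fin n => if (j.val < ℓ ∧ i.val = j.val + (n - ℓ)) ∨ (i.val < ℓ ∧ j.val = i.val + (n - ℓ)) ∨ (i = j ∧ ℓ ≤ i.val ∧ i.val < n - ℓ) then (1 : F) else 0) := by
    ext i j
    simp [hP, hσ, PEquiv.toMatrix_apply, swapTop_eq_iff]
  have hdet : P.det = 1 := by
    rw [hP, Matrix.det_permutation]
    rcases Int.units_eq_one_or (Equiv.Perm.sign σ) with h | h <;> simp [h, CharTwo.neg_eq]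
  have hmem : (⟨P, hdet⟩ : Matrix.SpecialLinearGroup (Fin n) F) ∈ Cfsg.SU n F q := by
    intro u v
    show Cfsg.hermForm n F q (P.mulVec u) (P.mulVec v) = Cfsg.hermForm n F q u v
    rw [hP, Matrix.permMatrix_mulVec, Matrix.permMatrix_mulVec]
    exact Equiv.sum_comp σ (fun i => u i * v i ^ q)
  have hPP : P * P = 1 := by
    rw [hP, ← Matrix.permMatrix_mul]
    have : σ * σ = 1 := by
      refine Equiv.ext fun i => Fin.ext ?_
      simp only [hσ, Equiv.Perm.mul_apply, Equiv.Perm.coe_one, id_eq, swapTop_val]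
      split_ifs <;> omega
    rw [this, Matrix.permMatrix_one]
  let low : Fin ℓ → Fin n := fun k => ⟨k.val, by omega⟩
  let top : Fin ℓ → Fin n := fun k => ⟨k.val + (n - ℓ), by omega⟩
  let B : Matrix (Fin n) (Fin ℓ) F :=
    Matrix.of fun i k => if i = low k ∨ i = top k then 1 else 0
  have hfac : P - 1 = B * B.transpose := by
    ext i j
    rw [Matrix.mul_apply, hPeq]
    simp only [B, Matrix.transpose_apply, Matrix.of_apply, Matrix.sub_apply]
    rw [CharTwo.sub_eq_add]
    by_cases hi : i.val < ℓ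
    · rw [Finset.sum_eq_single (⟨i.val, hi⟩ : Fin ℓ) (fun k _ hk => by
        rw [if_neg, zero_mul]; simp [low, top, Fin.ext_iff] at hk ⊢; omega) (by simp)]
      simp only [low, top, Fin.ext_iff, Matrix.one_apply, true_or, or_true, if_true]
      split_ifs <;> simp [CharTwo.add_self_eq_zero] <;> omega
    · by_cases hi' : n - ℓ ≤ i.val
      · rw [Finset.sum_eq_single (⟨i.val - (n - ℓ), by omega⟩ : Fin ℓ) (fun k _ hk => by
          rw [if_neg, zero_mul]; simp [low, top, Fin.ext_iff] at hk ⊢; omega) (by simp)]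
        simp only [low, top, Fin.ext_iff, Matrix.one_apply, true_or, or_true, if_true]
        split_ifs <;> simp [CharTwo.add_self_eq_zero] <;> omega
      · rw [Finset.sum_eq_zero (fun k _ => by
          rw [if_neg, zero_mul]; simp [low, top, Fin.ext_iff]; omega)]
        simp only [Fin.ext_iff, Matrix.one_apply]
        split_ifs <;> simp [CharTwo.add_self_eq_zero] <;> omega
  have hsub : (P - 1).submatrix low top = 1 := by
    ext i j
    rw [hPeq]
    simp only [low, top, Matrix.submatrix_apply, Matrix.sub_apply, Matrix.of_apply, Matrix.one_apply, Fin.ext_iff]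
    split_ifs <;> simp <;> omega
  have hrank : (P - 1).rank = ℓ := by
    refine le_antisymm ?_ ?_
    · rw [hfac]; exact (Matrix.rank_mul_le_left B _).trans (Matrix.rank_le_width B)
    · have := Matrix.rank_submatrix_le (P - 1) low top
      rwa [hsub, Matrix.rank_one, Fintype.card_fin] at this
  refine ⟨⟨⟨P, hdet⟩, hmem⟩, hPeq, ?_, hrank⟩
  refine orderOf_eq_prime ?_ ?_
  · rw [sq]; exact Subtype.ext (Subtype.ext hPP)
  · intro h
    have h' : P = 1 := congrArg (fun x : ↥(Cfsg.SU n F q) => ((x : Matrix.SpecialLinearGroup (Fin n) F) : Matrix (Fin n) (Fin n) F)) h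
    rw [h', sub_self, Matrix.rank_zero] at hrank
    omega

end Cfsg.Agent.S2165
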