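import Cfsg.Statements.S2167
import Cfsg.Agent.Lib.AltRank.Basic

set_option autoImplicit false
open Cfsg

namespace Cfsg.Agent.S2167

/-- For an involution t of the symplectic group Sp_{2m}(F), m ≥ 2, F a finite field of characteristic two (matrices A with A J Aᵀ = J acting on column vectors, alternating form f(u, v) = u ⬝ (J v)): the set V(t) of vectors v with f(v, t v) = 0 has either q^{2m} or q^{2m−1} elements, q the order of F (it is a subspace of codimension at most 1), and if it is the whole space then t − 1 has even rank. -/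
theorem result {F : Type*} [Field F] [Fintype F] [CharP F 2] {m : ℕ} (hm : 2 ≤ m) (a : ↥(Matrix.symplecticGroup (Fin m) F)) (ha : orderOf a = 2) :
    (Nat.card {v : Fin m ⊕ Fin m → F // Cfsg.sympForm m F v (Matrix.mulVec ((a : ↥(Matrix.symplecticGroup (Fin m) F)) : Matrix (Fin m ⊕ Fin m) (Fin m ⊕ Fin m) F) v) = 0} = Fintype.card F ^ (2 * m) ∨ Nat.card {v : Fin m ⊕ Fin m → F // Cfsg.sympForm m F v (Matrix.mulVec ((a : ↥(Matrix.symplecticGroup (Fin m) F)) : Matrix (Fin m ⊕ Fin m) (Fin m ⊕ Fin m) F) v) = 0} * Fintype.card F = Fintype.card F ^ (2 * m)) ∧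
    ((∀ v : Fin m ⊕ Fin m → F, Cfsg.sympForm m F v (Matrix.mulVec ((a : ↥(Matrix.symplecticGroup (Fin m) F)) : Matrix (Fin m ⊕ Fin m) (Fin m ⊕ Fin m) F) v) = 0) → Even (((a : ↥(Matrix.symplecticGroup (Fin m) F)) : Matrix (Fin m ⊕ Fin m) (Fin m ⊕ Fin m) F) - 1).rank) := by
  classical
  set A : Matrix (Fin m ⊕ Fin m) (Fin m ⊕ Fin m) F := (a : Matrix (Fin m ⊕ Fin m) (Fin m ⊕ Fin m) F) with hA
  set J : Matrix (Fin m ⊕ Fin m) (Fin m ⊕ Fin m) F := Matrix.J (Fin m) F with hJ
  have hJs : J.transpose = J := by rw [hJ, Matrix.J_transpose]; ext i j; simp [CharTwo.neg_eq]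
  have hAA : A * A = 1 := by
    have h : a * a = 1 := by rw [← sq, ← ha]; exact pow_orderOf_eq_one a
    exact congrArg Subtype.val h
  have hAJA : A.transpose * J * A = J := SymplecticGroup.mem_iff'.mp a.2
  set M : Matrix (Fin m ⊕ Fin m) (Fin m ⊕ Fin m) F := J * A with hM
  have hMs : M.IsSymm := by
    show M.transpose = M
    rw [hM, Matrix.transpose_mul, hJs]
    calc A.transpose * J = A.transpose * J * (A * A) := by rw [hAA, mul_one]
      _ = J * A := by rw [← mul_assoc, hAJA]
  have hq : ∀ v : Fin m ⊕ Fin m → F, Cfsg.sympForm m F v (A.mulVec v) = ∑ i, M i i * v i ^ 2 := by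
    intro v
    rw [Cfsg.sympForm, Matrix.mulVec_mulVec, ← hJ, ← hM]
    simp only [dotProduct, Matrix.mulVec, Finset.mul_sum]
    rw [← Finset.sum_product']
    have hsplit := Finset.sum_filter_add_sum_filter_not (Finset.univ ×ˢ Finset.univ)
      (fun p : (Fin m ⊕ Fin m) × (Fin m ⊕ Fin m) => p.1 = p.2) (fun p => v p.1 * (M p.1 p.2 * v p.2))
    rw [← hsplit]
    have hoff : ∑ p ∈ (Finset.univ ×ˢ Finset.univ).filter
        (fun p : (Fin m ⊕ Fin m) × (Fin m ⊕ Fin m) => ¬ p.1 = p.2), v p.1 * (M p.1 p.2 * v p.2) = 0 := by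
      refine Finset.sum_involution (fun p _ => p.swap) ?_ ?_ ?_ (fun p _ => Prod.swap_swap p)
      · intro p _
        simp only [Prod.fst_swap, Prod.snd_swap, hMs.apply p.1 p.2]
        rw [show v p.2 * (M p.1 p.2 * v p.1) = v p.1 * (M p.1 p.2 * v p.2) by ring, CharTwo.add_self_eq_zero]
      · intro p hp _ h
        exact (Finset.mem_filter.mp hp).2 (congrArg Prod.fst h).symm
      · intro p hp
        simp only [Finset.mem_filter, Finset.mem_product, Finset.mem_univ, true_and, Prod.fst_swap,
          Prod.snd_swap] at hp ⊢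
        exact fun h => hp h.symm
    rw [hoff, add_zero]
    refine Finset.sum_bij' (fun p _ => p.1) (fun i _ => (i, i)) ?_ ?_ ?_ ?_ ?_
    · simp
    · simp
    · rintro ⟨x, y⟩ hp; simp at hp; subst hp; rfl
    · simp
    · rintro ⟨x, y⟩ hp; simp at hp; subst hp; ring
  have hsqrt : ∀ x : F, ∃ s : F, s ^ 2 = x := by
    intro x
    obtain ⟨s, hs⟩ := (Finite.injective_iff_surjective.mp (frobenius_inj F 2)) x
    exact ⟨s, by rw [← hs, frobenius_def]⟩
  choose s hs using fun i => hsqrt (M i i)
  let L : (Fin m ⊕ Fin m → F) →ₗ[F] F :=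
    { toFun := fun v => ∑ i, s i * v i
      map_add' := fun u v => by simp [mul_add, Finset.sum_add_distrib]
      map_smul' := fun c v => by simp only [Pi.smul_apply, smul_eq_mul, Finset.mul_sum, RingHom.id_apply]; exact Finset.sum_congr rfl fun i _ => by ring }
  have hqL : ∀ v, Cfsg.sympForm m F v (A.mulVec v) = L v ^ 2 := by
    intro v
    rw [hq v]
    simp only [L, LinearMap.coe_mk, AddHom.coe_mk, CharTwo.sum_sq, mul_pow, hs]
  constructor
  · have hker : Nat.card {v : Fin m ⊕ Fin m → F // Cfsg.sympForm m F v (A.mulVec v) = 0} = Nat.card L.ker :=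
      Nat.card_congr (Equiv.subtypeEquivRight fun v => by rw [hqL, LinearMap.mem_ker, sq_eq_zero_iff])
    rw [hker]
    have hmul : Nat.card L.ker * Nat.card L.range = Fintype.card F ^ (2 * m) := by
      rw [← Nat.card_congr L.quotKerEquivRange.toEquiv, ← Submodule.card_eq_card_quotient_mul_card]
      simp [two_mul]
    rcases eq_or_ne L 0 with h | h
    · left
      rw [h, LinearMap.ker_zero, Nat.card_congr (Submodule.topEquiv (R := F) (M := Fin m ⊕ Fin m → F)).toEquiv]
      simp [two_mul]
    · right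
      have : L.range = ⊤ := LinearMap.range_eq_top.mpr (LinearMap.surjective_of_ne_zero h)
      rw [← hmul, this, Nat.card_congr (Submodule.topEquiv (R := F) (M := F)).toEquiv]
      simp [Nat.card_eq_fintype_card]
  · intro hall
    have hdiag : ∀ i, M i i = 0 := by
      intro i
      have h := (hq (Pi.single i 1)).symm.trans (hall _)
      rw [Finset.sum_eq_single i (fun j _ hj => by simp [Pi.single_eq_of_ne hj]) (by simp)] at h
      simpa using h
    have hJN : J * (A - 1) = M - J := by rw [mul_sub, mul_one, hM]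
    have hrk : (A - 1).rank = (M - J).rank := by
      rw [← hJN, Matrix.rank_mul_eq_right_of_isUnit_det]
      exact Matrix.isUnit_det_J _ _
    rw [hrk]
    refine Cfsg.Agent.AltRank.even_rank _ (hMs.sub hJs) (fun i => ?_)
    rw [Matrix.sub_apply, hdiag i, zero_sub, neg_eq_zero, hJ]
    rcases i with i | i <;> simp [Matrix.J]

end Cfsg.Agent.S2167
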