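import Cfsg.Statements.S2166
import Cfsg.Agent.Lib.Forms.InvolutionAS
import Cfsg.Agent.S2167

set_option autoImplicit false
open Cfsg Cfsg.Agent Cfsg.Agent.Orth Cfsg.Agent.Forms.Invol Module

namespace Cfsg.Agent.S2166

/-- Conjugacy of involutions in the symplectic group Sp_{2m}(F), F a finite field of characteristic two, m ≥ 2 (Sp taken as the matrices A with A J Aᵀ = J, acting on column vectors, with the alternating form f(u, v) = u ⬝ (J v)). For an involution t write V(t) for the set of vectors v with f(v, t v) = 0 (a subspace). Two involutions a, b are conjugate in Sp_{2m}(F) exactly when a − 1 and b − 1 have the same rank and, in case that rank is even, V(a) and V(b) have the same number of elements. -/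
theorem result {F : Type*} [Field F] [Fintype F] [CharP F 2] {m : ℕ} (hm : 2 ≤ m) (a b : ↥(Matrix.symplecticGroup (Fin m) F)) (ha : orderOf a = 2) (hb : orderOf b = 2) :
    IsConj a b ↔ ((((a : ↥(Matrix.symplecticGroup (Fin m) F)) : Matrix (Fin m ⊕ Fin m) (Fin m ⊕ Fin m) F) - 1).rank = (((b : ↥(Matrix.symplecticGroup (Fin m) F)) : Matrix (Fin m ⊕ Fin m) (Fin m ⊕ Fin m) F) - 1).rank ∧
      (Even (((a : ↥(Matrix.symplecticGroup (Fin m) F)) : Matrix (Fin m ⊕ Fin m) (Fin m ⊕ Fin m) F) - 1).rank → Nat.card {v : Fin m ⊕ Fin m → F // Cfsg.sympForm m F v (Matrix.mulVec ((a : ↥(Matrix.symplecticGroup (Fin m) F)) : Matrix (Fin m ⊕ Fin m) (Fin m ⊕ Fin m) F) v) = 0} = Nat.card {v : Fin m ⊕ Fin m → F // Cfsg.sympForm m F v (Matrix.mulVec ((b : ↥(Matrix.symplecticGroup (Fin m) F)) : Matrix (Fin m ⊕ Fin m) (Fin m ⊕ Fin m) F) v) = 0})) := by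
  classical
  have ha1 := sq_of_orderOf ha
  have hb1 := sq_of_orderOf hb
  rw [sp_isConj_iff ha1 hb1, rank_eq_spN, rank_eq_spN, sp_alt_iff, sp_alt_iff]
  refine and_congr_right fun hr => ?_
  have hA := S2167.result hm a ha
  have hB := S2167.result hm b hb
  set Va := fun v : Fin m ⊕ Fin m → F => Cfsg.sympForm m F v
    (Matrix.mulVec (a : Matrix (Fin m ⊕ Fin m) (Fin m ⊕ Fin m) F) v) = 0
  set Vb := fun v : Fin m ⊕ Fin m → F => Cfsg.sympForm m F v
    (Matrix.mulVec (b : Matrix (Fin m ⊕ Fin m) (Fin m ⊕ Fin m) F) v) = 0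
  have hfull : ∀ P : (Fin m ⊕ Fin m → F) → Prop,
      ((∀ v, P v) ↔ Nat.card {v // P v} = Fintype.card F ^ (2 * m)) := by
    intro P
    have hV : Fintype.card (Fin m ⊕ Fin m → F) = Fintype.card F ^ (2 * m) := by
      rw [Fintype.card_fun, Fintype.card_sum, Fintype.card_fin, two_mul]
    rw [Nat.card_eq_fintype_card, Fintype.card_subtype, ← hV, Finset.card_eq_iff_eq_univ,
      Finset.eq_univ_iff_forall]
    simp
  constructor
  · intro h _
    by_cases hall : ∀ v, Va v
    · rw [(hfull Va).1 hall, (hfull Vb).1 (h.1 hall)]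
    · have hA' := hA.1.resolve_left fun e => hall ((hfull Va).2 e)
      have hB' := hB.1.resolve_left fun e => hall (h.2 ((hfull Vb).2 e))
      exact Nat.eq_of_mul_eq_mul_right Fintype.card_pos (hA'.trans hB'.symm)
  · intro h
    constructor
    · intro hall
      have he := h (by rw [← rank_eq_spN]; exact hA.2 hall)
      exact (hfull Vb).2 (he.symm.trans ((hfull Va).1 hall))
    · intro hall
      have he := h (by rw [hr, ← rank_eq_spN]; exact hB.2 hall)
      exact (hfull Va).2 (he.trans ((hfull Vb).1 hall))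

end Cfsg.Agent.S2166
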