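import Cfsg.Statements.S2173
import Cfsg.Agent.Lib.Orth.Spinor
import Cfsg.Agent.Lib.Forms.Standard
import Cfsg.Agent.S2617

set_option autoImplicit false
open Cfsg

namespace Cfsg.Agent.S2173

open Cfsg.Agent Cfsg.Agent.Orth Module Matrix
open QuadraticMap (polar)

theorem key {ι : Type} [Fintype ι] [DecidableEq ι] {F : Type*} [Field F] [Fintype F] (h2 : (2 : F) = 0)
    (Q : QuadraticForm F (ι → F)) (hG : Good Q) (hn : 0 < Fintype.card ι) (N : ℕ)
    (hW : ∀ U : Submodule F (ι → F), (∀ u ∈ U, Q u = 0) → finrank F U ≤ N) (hN : 2 * N < Fintype.card ι)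
    (t s g : IsoGrp Q) (ht : t ^ 2 = 1) (hg : g * t * g⁻¹ = s) :
    ∃ g' ∈ Omega F ⇑Q, g' * t * g'⁻¹ = s := by
  by_cases hgm : g ∈ Omega F ⇑Q
  · exact ⟨g, hgm, hg⟩
  let f : (ι → F) →ₗ[F] (ι → F) := ap t - LinearMap.id
  have hff : LinearMap.range f ≤ LinearMap.ker f := by
    rintro _ ⟨x, rfl⟩
    have h3 : ap t (ap t x) = x := by rw [← ap_mul, ← pow_two, ht, ap_one]
    simp only [LinearMap.mem_ker, f, LinearMap.sub_apply, LinearMap.id_apply, map_sub, h3]
    funext i
    simp only [Pi.sub_apply, Pi.zero_apply]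
    linear_combination h2 * x i - h2 * ap t x i
  have h4 := LinearMap.finrank_range_add_finrank_ker f
  rw [finrank_space] at h4
  have h5 := Submodule.finrank_mono hff
  obtain ⟨v, hv, hQv⟩ : ∃ v ∈ LinearMap.ker f, Q v ≠ 0 := by
    by_contra! h
    have := hW _ h
    omega
  have hvt : ap t v = v := by simpa [f, sub_eq_zero] using hv
  have hcomm : refl Q v * t = t * refl Q v := by rw [mul_refl, hvt]
  refine ⟨g * refl Q v, ?_, ?_⟩
  · have hnot : refl Q v ∉ Omega F ⇑Q := fun h => by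
      have h6 := ((mem_omega_iff hG _).1 h).1
      rw [dick_refl hG.nd hQv] at h6
      norm_num at h6
    rw [Subgroup.mul_mem_iff_of_index_two (omega_index_two hG hn h2)]
    exact iff_of_false hgm hnot
  · rw [_root_.mul_inv_rev, ← hg, refl_inv, show g * refl Q v * t = g * t * refl Q v by
      rw [mul_assoc, hcomm, mul_assoc]]
    rw [mul_assoc (g * t), ← mul_assoc (refl Q v), refl_mul_self, one_mul]

theorem key' {ι : Type} [Fintype ι] [DecidableEq ι] {F : Type*} [Field F] [Fintype F] (h2 : (2 : F) = 0)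
    (Q : QuadraticForm F (ι → F)) (hG : Good Q) (hn : 0 < Fintype.card ι) (N : ℕ)
    (hW : ∀ U : Submodule F (ι → F), (∀ u ∈ U, Q u = 0) → finrank F U ≤ N) (hN : 2 * N < Fintype.card ι)
    (f : (ι → F) → F) (hf : ⇑Q = f) (t s g : ↥(isometryGroup F f)) (ht : t ^ 2 = 1)
    (hg : g * t * g⁻¹ = s) : ∃ g' ∈ Omega F f, g' * t * g'⁻¹ = s := by
  subst hf
  exact key h2 Q hG hn N hW hN t s g ht hg

/-- For the quadratic form Σ x_i y_i + (z₁² + c z₁ z₂ + d z₂²) in dimension 2m with anisotropic binary part over a finite field F of characteristic two, m ≥ 4 (minus type): two involutions of the commutator subgroup Ω that are conjugate in the full isometry group O are conjugate by an element of Ω (no class of involutions of O inside Ω splits). -/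
theorem result {F : Type*} [Field F] [Fintype F] [CharP F 2] {m : ℕ} (hm : 4 ≤ m) (c d : F) (hcd : ∀ z₁ z₂ : F, z₁ ^ 2 + c * z₁ * z₂ + d * z₂ ^ 2 = 0 → z₁ = 0 ∧ z₂ = 0) (t s : ↥(Cfsg.isometryGroup F (Cfsg.quadFormMinus (m - 1) F c d))) (ht : orderOf t = 2) (hs : orderOf s = 2) (htO : t ∈ Cfsg.Omega F (Cfsg.quadFormMinus (m - 1) F c d)) (hsO : s ∈ Cfsg.Omega F (Cfsg.quadFormMinus (m - 1) F c d)) (hconj : IsConj t s) :
    ∃ g ∈ Cfsg.Omega F (Cfsg.quadFormMinus (m - 1) F c d), g * t * g⁻¹ = s := by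
  obtain ⟨g, hg⟩ := isConj_iff.1 hconj
  have h2 : (2 : F) = 0 := CharTwo.two_eq_zero
  have hk := fun U hU => S2617.minus_singular_le (k := m - 1) c d hcd U hU
  have hQ := Forms.qfMinus_nondegenerate (Forms.disc_ne_zero_of_anisotropic hcd) (m - 1)
  have hG : Good (Forms.qfMinus (m - 1) F c d) :=
    ⟨hQ, Or.inr (by simp only [Fintype.card_sum, Fintype.card_fin]; omega)⟩
  have h := key' h2 (Forms.qfMinus (m - 1) F c d) hG (by simp) (m - 1)
    (fun U hU => hk U (fun u hu => by rw [← Forms.qfMinus_apply]; exact hU u hu))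
    (by simp only [Fintype.card_sum, Fintype.card_fin]; omega)
  have e := Forms.qfMinus_eq (F := F) (m - 1) c d
  exact h _ e t s g (orderOf_dvd_iff_pow_eq_one.1 (ht.dvd)) hg

end Cfsg.Agent.S2173
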