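import Cfsg.Statements.S2174
import Cfsg.Agent.Lib.ChevCentralizer.F4Tables
import Cfsg.Agent.Lib.ChevCentralizer.Statement
import Cfsg.Agent.Lib.Chev.All

set_option autoImplicit false
open Cfsg

namespace Cfsg.Agent.S2174

/-- The long roots of F4. -/
def Long (q : ℕ) : Prop :=
  Cfsg.Agent.ChevBN.co Cfsg.Lie.chevF4 Cfsg.Agent.ChevBN.adjF4 0 q % 2 = 0 ∧
    Cfsg.Agent.ChevBN.co Cfsg.Lie.chevF4 Cfsg.Agent.ChevBN.adjF4 1 q % 2 = 0

instance (q : ℕ) : Decidable (Long q) := by unfold Long; infer_instance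

open Cfsg.Agent.ChevBN in
theorem two_one {F : Type*} [Field F] [CharP F 2] {D : Cfsg.Lie.ChevalleyDatum}
    (hD : Cfsg.Agent.Chev.Good D) {M : List (List ℤ)} {d : ℤ} (hR : Roots D M d) {a b c : ℕ}
    {T₁ : List ℕ} (h₁ : ChevInvolution.Supp D [a, b] T₁) (h₂ : ChevInvolution.Supp D [c] [c])
    (hab : a ≠ b) {g : GL D.Idx F} (hg : g ∈ D.group F)
    (e : g * ChevInvolution.prodL hD F [a, b] * g⁻¹ = ChevInvolution.prodL hD F [c]) : False := by
  obtain ⟨l, hl⟩ := ChevInvolution.exists_map hD hR h₁ h₂ hg e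
  have ha := hl a (by simp)
  have hb := hl b (by simp)
  rw [List.mem_singleton] at ha hb
  exact hab (congrArg Fin.val (ChevCentralizer.ww_injective hD hR l (Fin.ext (ha.trans hb.symm))))

/-- Conjugacy classes of involutions in the Chevalley group of type F₄ over a finite field F of characteristic two (the matrix group generated by the root elements x_r(t)). In this problem's root numbering for type F₄ (the Chevalley data module; fundamental roots p₁, p₂ short and p₃, p₄ long; roots indexed by their coefficient vectors in increasing order) let r = 47 be the highest root (2,4,3,2), s = 44 the highest short root (2,3,2,1), and α = 39 = (1,2,2,1), β = 45 = (2,4,2,1), an orthogonal short/long pair; consider the four elements x_r(1), x_s(1), x_r(1)x_s(1), x_α(1)x_β(1). Then: each invertible matrix equal to one of these four products lies in the group and has order 2; every element of order 2 of the group is conjugate in the group to one of them; and no two of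 them are conjugate in the group (so, the four matrices being distinct, the group has exactly four conjugacy classes of involutions). -/
theorem result {F : Type*} [Field F] [Fintype F] [CharP F 2] :
    (∀ y : GL Cfsg.Lie.chevF4.Idx F, ((y : GL Cfsg.Lie.chevF4.Idx F) : Matrix Cfsg.Lie.chevF4.Idx Cfsg.Lie.chevF4.Idx F) ∈ [Cfsg.Lie.chevF4.x F 47 1, Cfsg.Lie.chevF4.x F 44 1, Cfsg.Lie.chevF4.x F 47 1 * Cfsg.Lie.chevF4.x F 44 1, Cfsg.Lie.chevF4.x F 39 1 * Cfsg.Lie.chevF4.x F 45 1] → y ∈ Cfsg.Lie.chevF4.group F ∧ orderOf y = 2) ∧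
    (∀ g ∈ Cfsg.Lie.chevF4.group F, orderOf g = 2 → ∃ y ∈ Cfsg.Lie.chevF4.group F, ((y : GL Cfsg.Lie.chevF4.Idx F) : Matrix Cfsg.Lie.chevF4.Idx Cfsg.Lie.chevF4.Idx F) ∈ [Cfsg.Lie.chevF4.x F 47 1, Cfsg.Lie.chevF4.x F 44 1, Cfsg.Lie.chevF4.x F 47 1 * Cfsg.Lie.chevF4.x F 44 1, Cfsg.Lie.chevF4.x F 39 1 * Cfsg.Lie.chevF4.x F 45 1] ∧ ∃ h ∈ Cfsg.Lie.chevF4.group F, h * g * h⁻¹ = y) ∧
    (∀ y₁ ∈ Cfsg.Lie.chevF4.group F, ∀ y₂ ∈ Cfsg.Lie.chevF4.group F, ((y₁ : GL Cfsg.Lie.chevF4.Idx F) : Matrix Cfsg.Lie.chevF4.Idx Cfsg.Lie.chevF4.Idx F) ∈ [Cfsg.Lie.chevF4.x F 47 1, Cfsg.Lie.chevF4.x F 44 1, Cfsg.Lie.chevF4.x F 47 1 * Cfsg.Lie.chevF4.x F 44 1, Cfsg.Lie.chevF4.x F 39 1 * Cfsg.Lie.chevF4.x F 45 1] → ((y₂ : GL Cfsg.Lie.chevF4.Idx F) : Matrix Cfsg.Lie.chevF4.Idx Cfsg.Lie.chevF4.Idx F) ∈ [Cfsg.Lie.chevF4.x F 47 1, Cfsg.Lie.chevF4.x F 44 1, Cfsg.Lie.chevF4.x F 47 1 * Cfsg.Lie.chevF4.x F 44 1, Cfsg.Lie.chevF4.x F 39 1 * Cfsg.Lie.chevF4.x F 45 1] →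
      (∃ h ∈ Cfsg.Lie.chevF4.group F, h * y₁ * h⁻¹ = y₂) → ((y₁ : GL Cfsg.Lie.chevF4.Idx F) : Matrix Cfsg.Lie.chevF4.Idx Cfsg.Lie.chevF4.Idx F) = ((y₂ : GL Cfsg.Lie.chevF4.Idx F) : Matrix Cfsg.Lie.chevF4.Idx Cfsg.Lie.chevF4.Idx F)) := by
  have hD := Cfsg.Agent.Chev.DataF4.good
  have hR := Cfsg.Agent.ChevBN.rootsF4
  have hlong : ∀ i < Cfsg.Lie.chevF4.rank, ∀ q < Cfsg.Lie.chevF4.nroots,
      Long q → Long (Cfsg.Agent.ChevBN.wN Cfsg.Lie.chevF4 i q) := by decide +kernel
  have hshort : ∀ i < Cfsg.Lie.chevF4.rank, ∀ q < Cfsg.Lie.chevF4.nroots,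
      ¬ Long q → ¬ Long (Cfsg.Agent.ChevBN.wN Cfsg.Lie.chevF4 i q) := by decide +kernel
  have hpair : ∀ i < Cfsg.Lie.chevF4.rank, ∀ p < Cfsg.Lie.chevF4.nroots, ∀ q < Cfsg.Lie.chevF4.nroots,
      Cfsg.Lie.chevF4.pairing p q = 0 → Cfsg.Lie.chevF4.pairing
        (Cfsg.Agent.ChevBN.wN Cfsg.Lie.chevF4 i p) (Cfsg.Agent.ChevBN.wN Cfsg.Lie.chevF4 i q) = 0 := by
    decide +kernel
  have key := ChevInvolution.classes hD (F := F) (reps := ChevInvolution.F4.reps)
    (fun t ht ht1 htt => ChevInvolution.exists_conj_rep hD hR ChevInvolution.F4.w0OK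
      ChevInvolution.F4.cases_ok ChevInvolution.F4.cover ht ht1 htt)
    (by
      intro R hR'
      simp only [ChevInvolution.F4.reps, List.mem_cons, List.not_mem_nil, or_false] at hR'
      rcases hR' with rfl | rfl | rfl | rfl
      · exact ⟨by decide +kernel, _, ChevInvolution.F4.supp0_ok⟩
      · exact ⟨by decide +kernel, _, ChevInvolution.F4.supp1_ok⟩
      · exact ⟨by decide +kernel, _, ChevInvolution.F4.supp2_ok⟩
      · exact ⟨by decide +kernel, _, ChevInvolution.F4.supp3_ok⟩)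
    (by
      simp only [ChevInvolution.F4.reps, List.pairwise_cons, List.mem_cons, List.not_mem_nil, or_false,
        forall_eq_or_imp, forall_eq, List.Pairwise.nil, and_true, IsEmpty.forall_iff, implies_true]
      refine ⟨⟨fun g hg e => ?_, fun g hg e => ?_, fun g hg e => ?_⟩,
        ⟨fun g hg e => ?_, fun g hg e => ?_⟩, fun g hg e => ?_⟩
      · obtain ⟨l, hl⟩ := ChevInvolution.exists_map hD hR ChevInvolution.F4.supp1_ok
          ChevInvolution.F4.supp0_ok hg e
        have h1 := ChevInvolution.ww_closed hD hR (F := F) (fun q => ¬ Long q) hshort l _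
          (show ¬ Long (Fin.val ⟨44, by decide⟩ : ℕ) by decide +kernel)
        have h2 := hl 44 (by simp)
        simp only [ChevInvolution.F4.supp0, List.mem_singleton] at h2
        rw [h2] at h1
        exact h1 (by decide +kernel)
      · exact two_one hD hR ChevInvolution.F4.supp2_ok ChevInvolution.F4.supp0_ok (by decide) hg e
      · exact two_one hD hR ChevInvolution.F4.supp3_ok ChevInvolution.F4.supp0_ok (by decide) hg e
      · exact two_one hD hR ChevInvolution.F4.supp2_ok ChevInvolution.F4.supp1_ok (by decide) hg e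
      · exact two_one hD hR ChevInvolution.F4.supp3_ok ChevInvolution.F4.supp1_ok (by decide) hg e
      · obtain ⟨l, hl⟩ := ChevInvolution.exists_map hD hR ChevInvolution.F4.supp3_ok
          ChevInvolution.F4.supp2_ok hg e
        have h39 := hl 39 (by simp)
        have h45 := hl 45 (by simp)
        have h1 := ChevInvolution.ww_closed₂ hD hR (F := F)
          (fun p q => Cfsg.Lie.chevF4.pairing p q = 0) hpair l ⟨39, by decide⟩ ⟨45, by decide⟩
          (by decide +kernel)
        have hne : ((Cfsg.Agent.ChevBN.chevRGD hD hR F).ww l ⟨39, by decide⟩).val ≠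
            ((Cfsg.Agent.ChevBN.chevRGD hD hR F).ww l ⟨45, by decide⟩).val := fun e' => by
          have := congrArg Fin.val (ChevCentralizer.ww_injective hD hR l (Fin.ext e'))
          simp at this
        simp only [ChevInvolution.F4.supp2, List.mem_cons, List.not_mem_nil, or_false] at h39 h45
        rcases h39 with h39 | h39 <;> rcases h45 with h45 | h45 <;>
          first
          | exact hne (h39.trans h45.symm)
          | (rw [h39, h45] at h1; revert h1; decide +kernel))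
  simpa only [ChevInvolution.F4.reps, List.map_cons, List.map_nil, List.prod_cons, List.prod_nil,
    mul_one, ← mul_assoc] using key

end Cfsg.Agent.S2174
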