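import Cfsg.Statements.S2175
import Cfsg.Agent.Lib.ChevCentralizer.E6Tables
import Cfsg.Agent.Lib.ChevCentralizer.Statement
import Cfsg.Agent.Lib.Chev.All

set_option autoImplicit false
open Cfsg

namespace Cfsg.Agent.S2175

/-- Conjugacy classes of involutions in the Chevalley group of type E₆ over a finite field F of characteristic two (the matrix group generated by the root elements x_r(t)). In this problem's root numbering for type E₆ (the Chevalley data module; fundamental roots numbered so that p₁–p₃–p₄–p₅–p₆ is the long chain of the diagram and p₂ is joined to p₄; roots indexed by their coefficient vectors in increasing order) let r = 71 be the highest root (1,2,2,3,2,1), α = 68 = (1,1,2,2,1,1), β = 66 = (1,1,1,2,2,1), γ = 55 = (0,1,1,2,2,1), δ = 65 = (1,1,1,2,1,1), ε = 67 = (1,1,2,2,1,0) (α ⊥ β and γ, δ, ε pairwise orthogonal); consider x_r(1), x_α(1)x_β(1) and x_γ(1)x_δ(1)x_ε(1). Then: each invertible matrix equal to one of these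 three products lies in the group and has order 2; every element of order 2 of the group is conjugate in the group to one of them; and no two of them are conjugate in the group (so, the three matrices being distinct, the group has exactly three conjugacy classes of involutions). -/
theorem result {F : Type*} [Field F] [Fintype F] [CharP F 2] :
    (∀ y : GL Cfsg.Lie.chevE6.Idx F, ((y : GL Cfsg.Lie.chevE6.Idx F) : Matrix Cfsg.Lie.chevE6.Idx Cfsg.Lie.chevE6.Idx F) ∈ [Cfsg.Lie.chevE6.x F 71 1, Cfsg.Lie.chevE6.x F 68 1 * Cfsg.Lie.chevE6.x F 66 1, Cfsg.Lie.chevE6.x F 55 1 * Cfsg.Lie.chevE6.x F 65 1 * Cfsg.Lie.chevE6.x F 67 1] → y ∈ Cfsg.Lie.chevE6.group F ∧ orderOf y = 2) ∧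
    (∀ g ∈ Cfsg.Lie.chevE6.group F, orderOf g = 2 → ∃ y ∈ Cfsg.Lie.chevE6.group F, ((y : GL Cfsg.Lie.chevE6.Idx F) : Matrix Cfsg.Lie.chevE6.Idx Cfsg.Lie.chevE6.Idx F) ∈ [Cfsg.Lie.chevE6.x F 71 1, Cfsg.Lie.chevE6.x F 68 1 * Cfsg.Lie.chevE6.x F 66 1, Cfsg.Lie.chevE6.x F 55 1 * Cfsg.Lie.chevE6.x F 65 1 * Cfsg.Lie.chevE6.x F 67 1] ∧ ∃ h ∈ Cfsg.Lie.chevE6.group F, h * g * h⁻¹ = y) ∧
    (∀ y₁ ∈ Cfsg.Lie.chevE6.group F, ∀ y₂ ∈ Cfsg.Lie.chevE6.group F, ((y₁ : GL Cfsg.Lie.chevE6.Idx F) : Matrix Cfsg.Lie.chevE6.Idx Cfsg.Lie.chevE6.Idx F) ∈ [Cfsg.Lie.chevE6.x F 71 1, Cfsg.Lie.chevE6.x F 68 1 * Cfsg.Lie.chevE6.x F 66 1, Cfsg.Lie.chevE6.x F 55 1 * Cfsg.Lie.chevE6.x F 65 1 * Cfsg.Lie.chevE6.x F 67 1] → ((y₂ : GL Cfsg.Lie.chevE6.Idx F) : Matrix Cfsg.Lie.chevE6.Idx Cfsg.Lie.chevE6.Idx F) ∈ [Cfsg.Lie.chevE6.x F 71 1, Cfsg.Lie.chevE6.x F 68 1 * Cfsg.Lie.chevE6.x F 66 1, Cfsg.Lie.chevE6.x F 55 1 * Cfsg.Lie.chevE6.x F 65 1 * Cfsg.Lie.chevE6.x F 67 1] →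
      (∃ h ∈ Cfsg.Lie.chevE6.group F, h * y₁ * h⁻¹ = y₂) → ((y₁ : GL Cfsg.Lie.chevE6.Idx F) : Matrix Cfsg.Lie.chevE6.Idx Cfsg.Lie.chevE6.Idx F) = ((y₂ : GL Cfsg.Lie.chevE6.Idx F) : Matrix Cfsg.Lie.chevE6.Idx Cfsg.Lie.chevE6.Idx F)) := by
  have hD := Cfsg.Agent.Chev.DataE6.good
  have hR := Cfsg.Agent.ChevBN.rootsE6
  have key := ChevInvolution.classes hD (F := F) (reps := ChevInvolution.E6.reps)
    (fun t ht ht1 htt => ChevInvolution.exists_conj_rep hD hR ChevInvolution.E6.w0OK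
      ChevInvolution.E6.cases_ok ChevInvolution.E6.cover ht ht1 htt)
    (by
      intro R hR'
      simp only [ChevInvolution.E6.reps, List.mem_cons, List.not_mem_nil, or_false] at hR'
      rcases hR' with rfl | rfl | rfl
      · exact ⟨by decide +kernel, _, ChevInvolution.E6.supp0_ok⟩
      · exact ⟨by decide +kernel, _, ChevInvolution.E6.supp1_ok⟩
      · exact ⟨by decide +kernel, _, ChevInvolution.E6.supp2_ok⟩)
    (by
      simp only [ChevInvolution.E6.reps, List.pairwise_cons, List.mem_cons, List.not_mem_nil, or_false,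
        forall_eq_or_imp, forall_eq, List.Pairwise.nil, and_true, IsEmpty.forall_iff, implies_true]
      refine ⟨⟨fun g hg => ?_, fun g hg => ?_⟩, fun g hg => ?_⟩
      · exact ChevInvolution.not_conj hD hR ChevInvolution.E6.supp1_ok ChevInvolution.E6.supp0_ok
          ChevInvolution.E6.sep10 hg
      · exact ChevInvolution.not_conj hD hR ChevInvolution.E6.supp2_ok ChevInvolution.E6.supp0_ok
          ChevInvolution.E6.sep20 hg
      · exact ChevInvolution.not_conj hD hR ChevInvolution.E6.supp2_ok ChevInvolution.E6.supp1_ok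
          ChevInvolution.E6.sep21 hg)
  simpa only [ChevInvolution.E6.reps, List.map_cons, List.map_nil, List.prod_cons, List.prod_nil,
    mul_one, ← mul_assoc] using key

end Cfsg.Agent.S2175
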