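import Cfsg.Statements.S2176
import Cfsg.Agent.Lib.ChevCentralizer.E8Tables
import Cfsg.Agent.Lib.ChevCentralizer.Statement
import Cfsg.Agent.Lib.Chev.All

set_option autoImplicit false
open Cfsg

namespace Cfsg.Agent.S2176

/-- Conjugacy classes of involutions in the Chevalley group of type E₈ over a finite field F of characteristic two (the matrix group generated by the root elements x_r(t)). In this problem's root numbering for type E₈ (the Chevalley data module; fundamental roots numbered so that p₁–p₃–p₄–p₅–p₆–p₇–p₈ is the long chain of the diagram and p₂ is joined to p₄; roots indexed by their coefficient vectors in increasing order) let r = 239 be the highest root (2,3,4,6,5,4,3,2), α = 232 = (2,2,4,5,4,3,2,1), β = 233 = (2,3,3,5,4,3,2,1), γ = 228 = (2,2,3,4,3,2,2,1), δ = 222 = (1,2,3,4,3,3,2,1), ε = 218 = (1,2,2,4,4,3,2,1), φ = 226 = (2,2,3,4,3,2,1,0), ψ = 220 = (1,2,3,4,3,2,1,1), θ = 213 =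 (1,2,2,3,3,3,2,1), ω = 216 = (1,2,2,4,3,2,2,1) (the roots within each of {α, β}, {γ, δ, ε}, {φ, ψ, θ, ω} pairwise orthogonal); consider x_r(1), x_α(1)x_β(1), x_γ(1)x_δ(1)x_ε(1) and x_φ(1)x_ψ(1)x_θ(1)x_ω(1). Then: each invertible matrix equal to one of these four products lies in the group and has order 2; every element of order 2 of the group is conjugate in the group to one of them; and no two of them are conjugate in the group (so, the four matrices being distinct, the group has exactly four conjugacy classes of involutions). -/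
theorem result {F : Type*} [Field F] [Fintype F] [CharP F 2] :
    (∀ y : GL Cfsg.Lie.chevE8.Idx F, ((y : GL Cfsg.Lie.chevE8.Idx F) : Matrix Cfsg.Lie.chevE8.Idx Cfsg.Lie.chevE8.Idx F) ∈ [Cfsg.Lie.chevE8.x F 239 1, Cfsg.Lie.chevE8.x F 232 1 * Cfsg.Lie.chevE8.x F 233 1, Cfsg.Lie.chevE8.x F 228 1 * Cfsg.Lie.chevE8.x F 222 1 * Cfsg.Lie.chevE8.x F 218 1, Cfsg.Lie.chevE8.x F 226 1 * Cfsg.Lie.chevE8.x F 220 1 * Cfsg.Lie.chevE8.x F 213 1 * Cfsg.Lie.chevE8.x F 216 1] → y ∈ Cfsg.Lie.chevE8.group F ∧ orderOf y = 2) ∧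
    (∀ g ∈ Cfsg.Lie.chevE8.group F, orderOf g = 2 → ∃ y ∈ Cfsg.Lie.chevE8.group F, ((y : GL Cfsg.Lie.chevE8.Idx F) : Matrix Cfsg.Lie.chevE8.Idx Cfsg.Lie.chevE8.Idx F) ∈ [Cfsg.Lie.chevE8.x F 239 1, Cfsg.Lie.chevE8.x F 232 1 * Cfsg.Lie.chevE8.x F 233 1, Cfsg.Lie.chevE8.x F 228 1 * Cfsg.Lie.chevE8.x F 222 1 * Cfsg.Lie.chevE8.x F 218 1, Cfsg.Lie.chevE8.x F 226 1 * Cfsg.Lie.chevE8.x F 220 1 * Cfsg.Lie.chevE8.x F 213 1 * Cfsg.Lie.chevE8.x F 216 1] ∧ ∃ h ∈ Cfsg.Lie.chevE8.group F, h * g * h⁻¹ = y) ∧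
    (∀ y₁ ∈ Cfsg.Lie.chevE8.group F, ∀ y₂ ∈ Cfsg.Lie.chevE8.group F, ((y₁ : GL Cfsg.Lie.chevE8.Idx F) : Matrix Cfsg.Lie.chevE8.Idx Cfsg.Lie.chevE8.Idx F) ∈ [Cfsg.Lie.chevE8.x F 239 1, Cfsg.Lie.chevE8.x F 232 1 * Cfsg.Lie.chevE8.x F 233 1, Cfsg.Lie.chevE8.x F 228 1 * Cfsg.Lie.chevE8.x F 222 1 * Cfsg.Lie.chevE8.x F 218 1, Cfsg.Lie.chevE8.x F 226 1 * Cfsg.Lie.chevE8.x F 220 1 * Cfsg.Lie.chevE8.x F 213 1 * Cfsg.Lie.chevE8.x F 216 1] → ((y₂ : GL Cfsg.Lie.chevE8.Idx F) : Matrix Cfsg.Lie.chevE8.Idx Cfsg.Lie.chevE8.Idx F) ∈ [Cfsg.Lie.chevE8.x F 239 1, Cfsg.Lie.chevE8.x F 232 1 * Cfsg.Lie.chevE8.x F 233 1, Cfsg.Lie.chevE8.x F 228 1 * Cfsg.Lie.chevE8.x F 222 1 * Cfsg.Lie.chevE8.x F 218 1, Cfsg.Lie.chevE8.x F 226 1 * Cfsg.Lie.chevE8.x F 220 1 * Cfsg.Lie.chevE8.x F 213 1 * Cfsg.Lie.chevE8.x F 216 1] →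
      (∃ h ∈ Cfsg.Lie.chevE8.group F, h * y₁ * h⁻¹ = y₂) → ((y₁ : GL Cfsg.Lie.chevE8.Idx F) : Matrix Cfsg.Lie.chevE8.Idx Cfsg.Lie.chevE8.Idx F) = ((y₂ : GL Cfsg.Lie.chevE8.Idx F) : Matrix Cfsg.Lie.chevE8.Idx Cfsg.Lie.chevE8.Idx F)) := by
  have hD := Cfsg.Agent.Chev.DataE8.good
  have hR := Cfsg.Agent.ChevBN.rootsE8
  have hsep : (ChevInvolution.E8.reps).Pairwise fun R R' => ∀ g ∈ Cfsg.Lie.chevE8.group F,
      g * ChevInvolution.prodL hD F R' * g⁻¹ ≠ ChevInvolution.prodL hD F R := by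
    simp only [ChevInvolution.E8.reps, List.pairwise_cons, List.mem_cons, List.not_mem_nil, or_false,
      forall_eq_or_imp, forall_eq, List.Pairwise.nil, and_true, IsEmpty.forall_iff, implies_true]
    exact ⟨⟨fun g hg => ChevInvolution.not_conj hD hR ChevInvolution.E8.supp1_ok ChevInvolution.E8.supp0_ok ChevInvolution.E8.sep10 hg, fun g hg => ChevInvolution.not_conj hD hR ChevInvolution.E8.supp2_ok ChevInvolution.E8.supp0_ok ChevInvolution.E8.sep20 hg, fun g hg => ChevInvolution.not_conj hD hR ChevInvolution.E8.supp3_ok ChevInvolution.E8.supp0_ok ChevInvolution.E8.sep30 hg⟩,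
      ⟨fun g hg => ChevInvolution.not_conj hD hR ChevInvolution.E8.supp2_ok ChevInvolution.E8.supp1_ok ChevInvolution.E8.sep21 hg, fun g hg => ChevInvolution.not_conj hD hR ChevInvolution.E8.supp3_ok ChevInvolution.E8.supp1_ok ChevInvolution.E8.sep31 hg⟩,
      fun g hg => ChevInvolution.not_conj hD hR ChevInvolution.E8.supp3_ok ChevInvolution.E8.supp2_ok ChevInvolution.E8.sep32 hg⟩
  have hok : ∀ R ∈ ChevInvolution.E8.reps, ChevInvolution.RepOK Cfsg.Lie.chevE8 R ∧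
      ∃ T, ChevInvolution.Supp Cfsg.Lie.chevE8 R T := by
    intro R hR'
    simp only [ChevInvolution.E8.reps, List.mem_cons, List.not_mem_nil, or_false] at hR'
    rcases hR' with rfl | rfl | rfl | rfl
    · exact ⟨by decide +kernel, _, ChevInvolution.E8.supp0_ok⟩
    · exact ⟨by decide +kernel, _, ChevInvolution.E8.supp1_ok⟩
    · exact ⟨by decide +kernel, _, ChevInvolution.E8.supp2_ok⟩
    · exact ⟨by decide +kernel, _, ChevInvolution.E8.supp3_ok⟩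
  have key := ChevInvolution.classes hD (F := F) (reps := ChevInvolution.E8.reps)
    (fun t ht ht1 htt => ChevInvolution.exists_conj_rep hD hR ChevInvolution.E8.w0OK
      ChevInvolution.E8.cases_ok ChevInvolution.E8.cover ht ht1 htt)
    hok hsep
  simpa only [ChevInvolution.E8.reps, List.map_cons, List.map_nil, List.prod_cons, List.prod_nil,
    mul_one, ← mul_assoc] using key

end Cfsg.Agent.S2176
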