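import Cfsg.Statements.S2181
import Cfsg.Agent.Lib.ChevCentralizer.E7Tables
import Cfsg.Agent.Lib.ChevCentralizer.Statement
import Cfsg.Agent.Lib.Chev.All

set_option autoImplicit false
open Cfsg

namespace Cfsg.Agent.S2181

/-- The Chevalley group of type E₇ over a finite field of characteristic two (the matrix group generated by the root elements) has exactly five conjugacy classes of elements of order 2. -/
theorem result {F : Type*} [Field F] [Fintype F] [CharP F 2] :
    (ConjClasses.mk '' {g : ↥(Cfsg.Lie.chevE7.group F) | orderOf g = 2}).ncard = 5 := by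
  have hD := Cfsg.Agent.Chev.DataE7.good
  have hR := Cfsg.Agent.ChevBN.rootsE7
  have hsep : (ChevInvolution.E7.reps).Pairwise fun R R' => ∀ g ∈ Cfsg.Lie.chevE7.group F,
      g * ChevInvolution.prodL hD F R' * g⁻¹ ≠ ChevInvolution.prodL hD F R := by
    simp only [ChevInvolution.E7.reps, List.pairwise_cons, List.mem_cons, List.not_mem_nil, or_false,
      forall_eq_or_imp, forall_eq, List.Pairwise.nil, and_true, IsEmpty.forall_iff, implies_true]
    exact ⟨⟨fun g hg => ChevInvolution.not_conj hD hR ChevInvolution.E7.supp1_ok ChevInvolution.E7.supp0_ok ChevInvolution.E7.sep10 hg, fun g hg => ChevInvolution.not_conj hD hR ChevInvolution.E7.supp2_ok ChevInvolution.E7.supp0_ok ChevInvolution.E7.sep20 hg, fun g hg => ChevInvolution.not_conj hD hR ChevInvolution.E7.supp3_ok ChevInvolution.E7.supp0_ok ChevInvolution.E7.sep30 hg, fun g hg => ChevInvolution.not_conj hD hR ChevInvolution.E7.supp4_ok ChevInvolution.E7.supp0_ok ChevInvolution.E7.sep40 hg⟩,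
      ⟨fun g hg => ChevInvolution.not_conj hD hR ChevInvolution.E7.supp2_ok ChevInvolution.E7.supp1_ok ChevInvolution.E7.sep21 hg, fun g hg => ChevInvolution.not_conj hD hR ChevInvolution.E7.supp3_ok ChevInvolution.E7.supp1_ok ChevInvolution.E7.sep31 hg, fun g hg => ChevInvolution.not_conj hD hR ChevInvolution.E7.supp4_ok ChevInvolution.E7.supp1_ok ChevInvolution.E7.sep41 hg⟩,
      ⟨ChevInvolution.ne_symm' hD (fun g hg => ChevInvolution.not_conj hD hR ChevInvolution.E7.supp2_ok ChevInvolution.E7.supp3_ok ChevInvolution.E7.sep23 hg), fun g hg => ChevInvolution.not_conj hD hR ChevInvolution.E7.supp4_ok ChevInvolution.E7.supp2_ok ChevInvolution.E7.sep42 hg⟩,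
      fun g hg => ChevInvolution.not_conj hD hR ChevInvolution.E7.supp4_ok ChevInvolution.E7.supp3_ok ChevInvolution.E7.sep43 hg⟩
  have hok : ∀ R ∈ ChevInvolution.E7.reps, ChevInvolution.RepOK Cfsg.Lie.chevE7 R ∧
      ∃ T, ChevInvolution.Supp Cfsg.Lie.chevE7 R T := by
    intro R hR'
    simp only [ChevInvolution.E7.reps, List.mem_cons, List.not_mem_nil, or_false] at hR'
    rcases hR' with rfl | rfl | rfl | rfl | rfl
    · exact ⟨by decide +kernel, _, ChevInvolution.E7.supp0_ok⟩
    · exact ⟨by decide +kernel, _, ChevInvolution.E7.supp1_ok⟩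
    · exact ⟨by decide +kernel, _, ChevInvolution.E7.supp2_ok⟩
    · exact ⟨by decide +kernel, _, ChevInvolution.E7.supp3_ok⟩
    · exact ⟨by decide +kernel, _, ChevInvolution.E7.supp4_ok⟩
  rw [ChevInvolution.classes_ncard hD (F := F) (reps := ChevInvolution.E7.reps)
    (fun t ht ht1 htt => ChevInvolution.exists_conj_rep hD hR ChevInvolution.E7.w0OK
      ChevInvolution.E7.cases_ok ChevInvolution.E7.cover ht ht1 htt)
    hok (by decide) hsep]
  rfl

end Cfsg.Agent.S2181
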