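import Cfsg.Statements.S2190
import Cfsg.Agent.Lib.ChevOvergroup.Main
import Mathlib.FieldTheory.IsAlgClosed.AlgebraicClosure
import Mathlib.Dynamics.PeriodicPts.Defs

set_option autoImplicit false
open Cfsg
open Cfsg.Agent Cfsg.Agent.ChevBN Cfsg.Agent.ChevFixed

namespace Cfsg.Agent.S2190

/-- Subfield subgroups of prime degree are maximal. Let K be a finite field with q^r elements, r a prime, q a power of the characteristic, and G the Chevalley group of type G₂, B₂, D₄, F₄, E₆, E₇ or E₈ over K (the matrix group generated by the root elements). Let M be the subgroup of G consisting of the matrices all of whose entries lie in the subfield with q elements (entries c with c^q = c). Then M is a proper subgroup of G and is maximal: every subgroup of G containing M is M or G. -/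
theorem result {K : Type*} [Field K] [Fintype K] (p : ℕ) [Fact p.Prime] [CharP K p] (D : Cfsg.Lie.ChevalleyDatum) (hD : D ∈ [Cfsg.Lie.chevG2, Cfsg.Lie.chevB2, Cfsg.Lie.chevD4, Cfsg.Lie.chevF4, Cfsg.Lie.chevE6, Cfsg.Lie.chevE7, Cfsg.Lie.chevE8]) (a r : ℕ) (ha : 1 ≤ a) (hr : r.Prime) (hK : Fintype.card K = (p ^ a) ^ r) (M : Subgroup (GL D.Idx K))
    (hM : ∀ g : GL D.Idx K, g ∈ M ↔ g ∈ D.group K ∧ ∀ i j : D.Idx, ((g : Matrix D.Idx D.Idx K) i j) ^ (p ^ a) = (g : Matrix D.Idx D.Idx K) i j) :
    M ≠ D.group K ∧ ∀ H : Subgroup (GL D.Idx K), M ≤ H → H ≤ D.group K → H = M ∨ H = D.group K := by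
  classical
  have hDg := Chev.good_of_mem hD
  have hn0 : 0 < D.nroots := by
    obtain ⟨h0, -⟩ := conn_of_mem hD
    exact (Nat.zero_le _).trans_lt (hDg.simple_lt 0 h0)
  set q := p ^ a with hq
  have hq1 : 1 < q := Nat.one_lt_pow (by omega) (Fact.out : p.Prime).one_lt
  have hfrob : ∀ (x : GL D.Idx K), mapG D (iterateFrobenius K p a) x = x ↔
      ∀ i j, ((x : Matrix D.Idx D.Idx K) i j) ^ q = (x : Matrix D.Idx D.Idx K) i j := fun x => by
    rw [Units.ext_iff, coe_mapG, ← Matrix.ext_iff]
    simp [iterateFrobenius_def, hq]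
  have hxM : ∀ s t, t ^ q = t → xg hDg K s t ∈ M := fun s t ht => by
    refine (hM _).2 ⟨xg_mem_group hDg _ _, (hfrob _).1 ?_⟩
    rw [mapG_xg hDg, iterateFrobenius_def, ht]
  refine ⟨fun hMeq => ?_, fun H hMH hHG => ?_⟩
  · obtain ⟨t, ht⟩ : ∃ t : K, t ^ q ≠ t := by
      by_contra! hall
      have hle : Fintype.card K ≤ q := by
        rw [← Finset.card_univ]
        refine le_trans (Finset.card_le_card (t := (Polynomial.X ^ q - Polynomial.X : Polynomial K).roots.toFinset)
          fun x _ => ?_) ?_
        · rw [Multiset.mem_toFinset, Polynomial.mem_roots (FiniteField.X_pow_card_sub_X_ne_zero K hq1)]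
          simp [Polynomial.IsRoot, hall x]
        · exact ((Multiset.toFinset_card_le _).trans (Polynomial.card_roots' _)).trans
            (FiniteField.X_pow_card_sub_X_natDegree_eq K hq1).le
      rw [hK] at hle
      exact absurd hle (not_le.2 (lt_self_pow₀ hq1 hr.one_lt))
    have hmem : xg hDg K 0 t ∈ M := hMeq ▸ xg_mem_group hDg 0 t
    have h := (hfrob _).2 ((hM _).1 hmem).2
    rw [mapG_xg hDg, iterateFrobenius_def] at h
    apply ht
    by_contra hne
    have h1 : xg hDg K 0 (t ^ q - t) = xg hDg K (D.neg 0) 0 := by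
      rw [sub_eq_add_neg, ← xg_add hDg hn0, ← xg_inv, h, mul_inv_cancel, xg_zero]
    exact hDg.neg_ne 0 hn0 (ChevOrder.xg_eq_xg hDg hn0 (hDg.neg_lt 0 hn0) (sub_ne_zero.2 hne) h1).symm
  · let L := AlgebraicClosure K
    let f : K →+* L := algebraMap K L
    have : CharP L p := charP_of_injective_ringHom f.injective p
    set H' := H.map (mapG D f)
    have : Finite ↥H' := Finite.of_surjective
      (fun x : H => (⟨mapG D f x.1, x.1, x.2, rfl⟩ : ↥H')) (fun ⟨y, x, hx, e⟩ => ⟨⟨x, hx⟩, Subtype.ext e⟩)
    have himage : ∀ t : L, t ^ (q ^ r) = t → ∃ t', f t' = t := by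
      have hcard : Nat.card {t : L // t ^ (q ^ r) = t} = q ^ r := by
        rw [hq, ← pow_mul]; exact ChevOvergroup.card_pow_eq p (Nat.mul_pos ha hr.pos)
      have : Finite {t : L // t ^ (q ^ r) = t} := Nat.finite_of_card_ne_zero (by rw [hcard]; positivity)
      let g : K → {t : L // t ^ (q ^ r) = t} := fun x => ⟨f x, by rw [← map_pow, ← hK, FiniteField.pow_card]⟩
      have hg : Function.Bijective g := (Nat.bijective_iff_injective_and_card g).2
        ⟨fun x y e => f.injective (congrArg Subtype.val e), by rw [Nat.card_eq_fintype_card, hK, hcard]⟩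
      intro t ht
      obtain ⟨x, hx⟩ := hg.2 ⟨t, ht⟩
      exact ⟨x, congrArg Subtype.val hx⟩
    obtain ⟨r', hr', h1, h2⟩ := ChevOvergroup.overgroup_field p hD ha (G₀ := H')
      (le_trans (Subgroup.map_mono hHG) (mapG_group_le hDg f)) fun s t ht => by
        have hit : Function.IsPeriodicPt (fun x : L => x ^ q) r t :=
          (show Function.IsFixedPt (fun x : L => x ^ q) t from ht).isPeriodicPt r
        rw [Function.IsPeriodicPt, Function.IsFixedPt, pow_iterate] at hit
        obtain ⟨t', rfl⟩ := himage t hit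
        exact ⟨_, hMH (hxM s t' (f.injective (by rw [map_pow]; exact ht))), mapG_xg hDg f s t'⟩
    by_cases hdvd : r ∣ r'
    · right
      obtain ⟨m, rfl⟩ := hdvd
      refine le_antisymm hHG ((Subgroup.closure_le _).2 ?_)
      rintro x ⟨s, t, e⟩
      obtain rfl : x = xg hDg K s t := Units.ext (e.trans (by simp [Cfsg.Lie.ChevalleyDatum.x]))
      have ht : (f t) ^ (q ^ (r * m)) = f t := by
        rw [← map_pow, pow_mul, ← hK, FiniteField.pow_card_pow]
      obtain ⟨y, hy, e⟩ := h1 s (f t) ht
      rw [← mapG_xg hDg] at e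
      exact mapG_injective f e ▸ hy
    · left
      have hsmall : ∀ t : L, t ^ (q ^ r') = t → t ^ q = t := by
        intro t ht
        obtain ⟨y, -, e⟩ := h1 0 t ht
        have hfix : mapG D (iterateFrobenius L p (a * r)) (xg hDg L 0 t) = xg hDg L 0 t := by
          rw [← e, Units.ext_iff, coe_mapG, coe_mapG, ← Matrix.ext_iff]
          intro i j
          simp only [Matrix.map_apply, iterateFrobenius_def]
          rw [← map_pow, pow_mul, ← hq, ← hK, FiniteField.pow_card]
        rw [mapG_xg hDg, iterateFrobenius_def, pow_mul] at hfix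
        have htr : t ^ (q ^ r) = t := ChevOvergroup.xg_inj hDg hn0 hfix
        have hper : ∀ j, t ^ (q ^ j) = t → Function.IsPeriodicPt (fun x : L => x ^ q) j t := fun j hj => by
          rw [Function.IsPeriodicPt, Function.IsFixedPt, pow_iterate]; exact hj
        have hg := (hper r htr).gcd (hper r' ht)
        rw [Nat.coprime_iff_gcd_eq_one.1 ((Nat.Prime.coprime_iff_not_dvd hr).2 hdvd)] at hg
        simpa [Function.IsPeriodicPt, Function.IsFixedPt] using hg
      have hr1 : r' = 1 := by
        have hc1 : Nat.card {t : L // t ^ (q ^ r') = t} = q ^ r' := by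
          rw [hq, ← pow_mul]; exact ChevOvergroup.card_pow_eq p (Nat.mul_pos ha hr')
        have hc2 : Nat.card {t : L // t ^ q = t} = q := ChevOvergroup.card_pow_eq p ha
        have : Finite {t : L // t ^ q = t} := Nat.finite_of_card_ne_zero (by rw [hc2]; omega)
        have hle := Nat.card_le_card_of_injective
          (fun t : {t : L // t ^ (q ^ r') = t} => (⟨t.1, hsmall t.1 t.2⟩ : {t : L // t ^ q = t}))
          fun x y e => Subtype.ext (congrArg Subtype.val e :)
        rw [hc1, hc2] at hle
        by_contra hne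
        exact absurd hle (not_le.2 (lt_self_pow₀ hq1 (by omega)))
      subst hr1
      refine le_antisymm (fun x hx => (hM x).2 ⟨hHG hx, fun i j => ?_⟩) hMH
      have h := h2 _ ⟨x, hx, rfl⟩ i j
      rw [coe_mapG, Matrix.map_apply, ← map_pow, pow_one] at h
      exact f.injective h

end Cfsg.Agent.S2190
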