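import Cfsg.Statements.S2205
import Cfsg.Agent.Lib.SqPlusOne.Five
import Cfsg.Agent.EqLemmas

set_option autoImplicit false
open Cfsg

namespace Cfsg.Agent.S2205

/-- A finite group acting faithfully and 2-transitively on a set with p² + 1 points, p a prime, is doubly primitive — a point stabilizer acts primitively on the remaining p² points — unless p = 2 and the group is the Frobenius group of order 20. -/
theorem result {G Ω : Type*} [Group G] [Finite G] [Fintype Ω] [MulAction G Ω] [FaithfulSMul G Ω] (p : ℕ) (hp : p.Prime) (hΩ : Fintype.card Ω = p ^ 2 + 1) (h2 : MulAction.IsMultiplyPretransitive G Ω 2) (a : Ω) :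
    MulAction.IsPreprimitive ↥(MulAction.stabilizer G a) ↥(SubMulAction.ofStabilizer G a) ∨ (p = 2 ∧ Nat.card G = 20) := by
  classical
  set H := MulAction.stabilizer G a
  let Y := ↥(SubMulAction.ofStabilizer G a)
  have : MulAction.IsPretransitive H Y := ⟨fun x y => by
    obtain ⟨g, hga, hgx⟩ := MulAction.is_two_pretransitive_iff.1 h2
      (Ne.symm (SqPlusOne.coe_ne x)) (Ne.symm (SqPlusOne.coe_ne y))
    exact ⟨⟨g, hga⟩, Subtype.ext hgx⟩⟩
  by_cases hprim : MulAction.IsPreprimitive H Y
  · exact Or.inl hprim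
  have : Fact p.Prime := ⟨hp⟩
  have hY : Nat.card Y = p ^ 2 := by
    have : Nat.card Y = Nat.card {x : Ω // x ≠ a} := Nat.card_congr (Equiv.subtypeEquivRight fun x => by
      exact SubMulAction.mem_ofStabilizer_iff G a)
    rw [this, Nat.card_eq_fintype_card, Fintype.card_subtype_compl, Fintype.card_subtype_eq, hΩ]
    omega
  obtain ⟨B, hB, hBn⟩ : ∃ B : Set Y, MulAction.IsBlock H B ∧ ¬ MulAction.IsTrivialBlock B := by
    by_contra hall
    push Not at hall
    exact hprim { isTrivialBlock_of_isBlock := fun {B} hB => hall B hB }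
  simp only [MulAction.IsTrivialBlock, not_or] at hBn
  obtain ⟨b, hb⟩ : B.Nonempty := by
    by_contra h
    rw [Set.not_nonempty_iff_eq_empty] at h
    exact hBn.1 (h ▸ Set.subsingleton_empty)
  have hBc : B.ncard = p := by
    obtain ⟨i, hi, hc⟩ := (Nat.dvd_prime_pow hp).1 (hY ▸ hB.ncard_dvd_card ⟨b, hb⟩)
    interval_cases i
    · rw [pow_zero, Set.ncard_eq_one] at hc
      obtain ⟨c, rfl⟩ := hc
      exact absurd Set.subsingleton_singleton hBn.1
    · rw [hc, pow_one]
    · exact absurd ((Set.eq_univ_iff_ncard B).2 (hc.trans hY.symm)) hBn.2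
  have S : SqPlusOne.Sys H p B b := ⟨hY, hB, hBc, hb⟩
  by_cases hp2 : p = 2
  · subst hp2
    exact Or.inr ⟨rfl, SqPlusOne.card_eq_twenty (by rw [hΩ]; rfl) h2 a S⟩
  · exact (SqPlusOne.no_imprimitive_stabilizer hp2 hΩ h2 a S).elim

end Cfsg.Agent.S2205
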