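import Cfsg.Statements.S2212
import Cfsg.Agent.Lib.PGU3Char.Ident
import Cfsg.Agent.EqLemmas

set_option autoImplicit false
open Cfsg

namespace Cfsg.Agent.S2212

/-- Characterization of the three-dimensional projective unitary groups over finite fields of characteristic two by the centralizer of an involution. Let q = 2^n > 2 and let PGU₃(q) be the quotient of the full unitary group of a non-degenerate Hermitian form in three variables over the field with q² elements by its centre. Let G be a finite group of even order in which all involutions are conjugate, the centralizer of an involution is isomorphic to the centralizer of an involution in PGU₃(q), and a Sylow 2-subgroup is not normal. Then G ≅ PGU₃(q). -/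
theorem result {G : Type*} [Group G] [Finite G] {F : Type*} [Field F] [Fintype F] [CharP F 2] (q : ℕ) (hq : 2 < q) (hF : Fintype.card F = q ^ 2)
    (heven : Even (Nat.card G)) (hconj : ∀ s t : G, orderOf s = 2 → orderOf t = 2 → IsConj s t)
    (hC : ∀ (x : G) (y : (↥(Cfsg.GU 3 F q) ⧸ Subgroup.center ↥(Cfsg.GU 3 F q))), orderOf x = 2 → orderOf y = 2 →
      Nonempty (↥(Subgroup.centralizer ({x} : Set G)) ≃* ↥(Subgroup.centralizer ({y} : Set (↥(Cfsg.GU 3 F q) ⧸ Subgroup.center ↥(Cfsg.GU 3 F q))))))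
    (hS : ∀ P : Sylow 2 G, ¬ (P : Subgroup G).Normal) :
    Nonempty (G ≃* (↥(Cfsg.GU 3 F q) ⧸ Subgroup.center ↥(Cfsg.GU 3 F q))) := by
  have h2 : (2 : F) = 0 := CharTwo.two_eq_zero
  obtain ⟨k, hp, hk⟩ := FiniteField.card F 2
  obtain ⟨n, hn, rfl⟩ : ∃ n, n ≤ (k : ℕ) ∧ q = 2 ^ n :=
    (Nat.dvd_prime_pow hp).1 (hk ▸ hF ▸ dvd_pow_self q two_ne_zero)
  have h4 : 4 ≤ 2 ^ n := by
    rcases n with _ | _ | n
    · simp at hq
    · simp at hq
    · rw [pow_add]; have := Nat.two_pow_pos n; omega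
  obtain ⟨y, Z, S, e, hy, hsh⟩ := PGU3Char.exists_shape h2 hF
  haveI : Fact (Nat.Prime 2) := ⟨Nat.prime_two⟩
  obtain ⟨x, hx⟩ := exists_prime_orderOf_dvd_card' (G := G) 2 (even_iff_two_dvd.1 heven)
  have hall : ∀ x : G, orderOf x = 2 → ∃ (Z S : Subgroup G) (e : G),
      PGU3Char.Shape (2 ^ n) (Subgroup.centralizer {x}) Z S e := by
    intro x hx
    obtain ⟨f⟩ := hC x y hx hy
    exact hsh.exists_map f.symm
  obtain ⟨Z', S', e', X⟩ := PGU3Char.exists_ctx h4 ⟨n, rfl⟩ hall hS x hx
  obtain ⟨F0, _, _, hF0, ⟨i⟩⟩ := PGU3Char.exists_iso X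
  obtain ⟨j⟩ := PGU3Char.nonempty_equiv_of_ringEquiv (q := 2 ^ n)
    (FiniteField.ringEquivOfCardEq (K := F0) (K' := F) (hF0.trans hF.symm))
  exact ⟨i.trans j⟩

end Cfsg.Agent.S2212
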