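import Cfsg.Statements.S2220
import Cfsg.Agent.Lib.SmallOrders.NineTwoPrimes.Main
import Cfsg.Agent.Lib.SmallOrders.NineOneClass.Main
import Cfsg.Agent.S3341

set_option autoImplicit false
open Cfsg

namespace Cfsg.Agent.S2220

/-- Let G be a non-abelian finite simple group of order 9·2ᵃ·qᵇ for a prime q other than 2 and 3, and suppose a Sylow 3-subgroup R of G is strongly self-centralizing: C_G(k) = R for every nonidentity k ∈ R. Then G is isomorphic to the alternating group of degree 6, to PSL(2,8) or to PSL(2,17). -/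
theorem result {G : Type*} [Group G] [Finite G] [IsSimpleGroup G] (hG : ¬ IsMulCommutative G)
    (q a b : ℕ) (hq : q.Prime) (hq2 : q ≠ 2) (hq3 : q ≠ 3) (hcard : Nat.card G = 9 * 2 ^ a * q ^ b)
    (R : Sylow 3 G) (hR : ∀ k ∈ (R : Subgroup G), k ≠ 1 → Subgroup.centralizer ({k} : Set G) = R) :
    Nonempty (G ≃* ↥(alternatingGroup (Fin 6))) ∨
      (∃ (F : Type) (_ : Field F) (_ : Fintype F), Fintype.card F = 8 ∧
        Nonempty (G ≃* Matrix.ProjectiveSpecialLinearGroup (Fin 2) F)) ∨
      Nonempty (G ≃* Matrix.ProjectiveSpecialLinearGroup (Fin 2) (ZMod 17)) := by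
  have : Fact (Nat.Prime 3) := ⟨Nat.prime_three⟩
  have hR9 := SmallOrders.NineTwoPrimes.sylow_nine hq hq3 hcard R
  by_cases hexp : ∀ g ∈ (R : Subgroup G), g ^ 3 = 1
  · -- elementary abelian: A₆, or one class, which is impossible
    have hcomm : IsMulCommutative (R : Subgroup G) :=
      IsPGroup.isMulCommutative_of_card_eq_prime_sq (p := 3) (by rw [hR9]; norm_num)
    by_cases hcl : ∃ u w : G, orderOf u = 3 ∧ orderOf w = 3 ∧ ∀ g : G, g * u * g⁻¹ ≠ w
    · exact Or.inl (S3341.result R (R : Subgroup G) rfl hcomm hexp hR9 hcl hR)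
    exfalso
    push Not at hcl
    obtain ⟨x, hxR, hx1⟩ : ∃ x ∈ (R : Subgroup G), x ≠ 1 := by
      by_contra! h
      rw [(Subgroup.eq_bot_iff_forall _).2 h, Subgroup.card_bot] at hR9
      omega
    have hsyl : ∀ g : G, g ^ 3 = 1 → ∃ c : G, c * g * c⁻¹ ∈ (R : Subgroup G) := by
      intro g hg
      have hp : IsPGroup 3 (Subgroup.zpowers g) := by
        obtain ⟨k, -, hk⟩ := (Nat.dvd_prime_pow Nat.prime_three).mp
          (orderOf_dvd_of_pow_eq_one (show g ^ 3 ^ 1 = 1 by simpa using hg))
        exact IsPGroup.of_card (n := k) (by rw [Nat.card_zpowers, hk])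
      obtain ⟨Q, hQ⟩ := hp.exists_le_sylow
      obtain ⟨c, hc⟩ := MulAction.exists_smul_eq G Q R
      refine ⟨c, ?_⟩
      rw [← hc]
      exact ⟨g, hQ (Subgroup.mem_zpowers g), rfl⟩
    have hone : SmallOrders.NineOneClass.One (R : Subgroup G) :=
      { card := hR9
        cubed := hexp
        cent := hR
        sylow := hsyl
        one := fun u w hu hu1 hw hw1 => isConj_iff.2
          (hcl u w (orderOf_eq_prime hu hu1) (orderOf_eq_prime hw hw1)) }
    have h5 : 5 ≤ q := by
      have := hq.two_le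
      by_contra h
      interval_cases q <;> first | omega | norm_num at hq
    exact SmallOrders.NineOneClass.one_class_false
      ⟨hone, hxR, hx1, hq, h5, hcard⟩ hG
  · -- cyclic
    push Not at hexp
    obtain ⟨g, hg, hg3⟩ := hexp
    have hord : orderOf g = 9 := by
      obtain ⟨i, hi, he⟩ := (Nat.dvd_prime_pow Nat.prime_three).1
        (show orderOf g ∣ 3 ^ 2 from by
          rw [show 3 ^ 2 = Nat.card (R : Subgroup G) by rw [hR9]; norm_num]
          exact Subgroup.orderOf_dvd_natCard _ hg)
      by_contra hne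
      refine hg3 (orderOf_dvd_iff_pow_eq_one.1 ?_)
      have h1 : i ≠ 2 := fun e => hne (by rw [he, e]; norm_num)
      rw [he]
      exact (pow_dvd_pow 3 (show i ≤ 1 by omega)).trans (by norm_num)
    have hM : ¬ 3 ∣ 2 ^ a * q ^ b := SmallOrders.NineTwoPrimes.not_three_dvd hq hq3 a b
    have hpair := SmallOrders.NineTwoPrimes.degreePair_of_inverted hG R hR9
      (show Nat.card G = 9 * (2 ^ a * q ^ b) by rw [hcard]; ring) hM
      (SmallOrders.NineTwoPrimes.inverted_of_cyclic hG R hR9 hg hord)
    rcases SmallOrders.NineTwoPrimes.order_cases hG hq hq2 hq3 hcard hpair with h | h | h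
    · exact Or.inl (S0497.result h)
    · letI : Fintype (GaloisField 2 3) := Fintype.ofFinite _
      have h8 : Fintype.card (GaloisField 2 3) = 8 := by
        rw [← Nat.card_eq_fintype_card, GaloisField.card 2 3 (by norm_num)]; rfl
      exact Or.inr (Or.inl ⟨GaloisField 2 3, inferInstance, inferInstance, h8, S1011.result h h8⟩)
    · exact Or.inr (Or.inr h)

end Cfsg.Agent.S2220
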