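import Cfsg.Statements.S2221
import Cfsg.Agent.Lib.AltSylowDecomp.Model
-- import your own Cfsg.Agent.* helpers here

set_option autoImplicit false
open Cfsg

namespace Cfsg.Agent.S2221

/-- Direct decomposability of the Sylow 2-subgroups of the alternating groups. Let n ≥ 4 and let P be a Sylow 2-subgroup of the alternating group of degree n. Then P is the internal direct product of two nontrivial subgroups if and only if n = 4, n = 5, or n ≡ 2, 3 (mod 4) with 4⌊n/4⌋ not a power of 2. In the remaining cases (n ≡ 0, 1 (mod 4) with n ≥ 8, or n ≡ 2, 3 (mod 4) with 4⌊n/4⌋ a power of 2) P is directly indecomposable. -/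
theorem result (n : ℕ) (hn : 4 ≤ n)
    (P : Sylow 2 (alternatingGroup (Fin n))) :
    (∃ S₁ S₂ : Subgroup (alternatingGroup (Fin n)), S₁ ≠ ⊥ ∧ S₂ ≠ ⊥ ∧
        Cfsg.IsInternalDirectProduct S₁ S₂ (P : Subgroup (alternatingGroup (Fin n)))) ↔
      (n = 4 ∨ n = 5 ∨ ((n % 4 = 2 ∨ n % 4 = 3) ∧ ∀ r : ℕ, 4 * (n / 4) ≠ 2 ^ r)) := by
  obtain ⟨m, r, hr, hn'⟩ : ∃ m r, r < 4 ∧ n = 4 * m + r := ⟨n / 4, n % 4, by omega, by omega⟩
  have hm : 1 ≤ m := by omega
  rw [Cfsg.Agent.AltSylowDecomp.dec_of_subgroup]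
  have hdiv : n / 4 = m := by omega
  by_cases hr2 : r < 2
  · obtain ⟨e⟩ := Cfsg.Agent.AltSylowDecomp.sylow_equiv_low m hm hn' hr2 P
    rw [← Cfsg.Agent.AltSylowDecomp.dec_congr e, Cfsg.Agent.AltSylowDecomp.dec_ker m hm]
    constructor
    · intro h; subst h; omega
    · rintro (h | h | ⟨h, -⟩) <;> omega
  · obtain ⟨e⟩ := Cfsg.Agent.AltSylowDecomp.sylow_equiv_high m hn' hr (by omega) P
    rw [← Cfsg.Agent.AltSylowDecomp.dec_congr e, Cfsg.Agent.AltSylowDecomp.dec_MM m hm, hdiv]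
    constructor
    · intro h; exact Or.inr (Or.inr ⟨by omega, fun r hr => h ⟨r, hr⟩⟩)
    · rintro (h | h | ⟨-, h⟩)
      · omega
      · omega
      · rintro ⟨k, hk⟩; exact h k hk

end Cfsg.Agent.S2221
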