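import Cfsg.Statements.S2222
import Cfsg.Agent.Lib.AltSelfNorm.Basic
import Cfsg.Agent.Lib.AltSelfNorm.Five
-- import your own Cfsg.Agent.* helpers here

set_option autoImplicit false
open Cfsg

namespace Cfsg.Agent.S2222

/-- In the alternating group of degree n ≥ 5 every subgroup H of odd index is pronormal: for every element g, the subgroups H and gHg⁻¹ are conjugate by an element of the subgroup they generate. -/
theorem result (n : ℕ) (hn : 5 ≤ n)
    (H : Subgroup (alternatingGroup (Fin n))) (hH : Odd H.index) : Cfsg.IsPronormal H := by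
  haveI : Fact (Nat.Prime 2) := ⟨Nat.prime_two⟩
  obtain ⟨S₀⟩ : Nonempty (Sylow 2 H) := inferInstance
  -- a Sylow subgroup of `H` is one of the whole group
  have hSi : ¬ 2 ∣ ((S₀ : Subgroup H).map H.subtype).index := by
    rw [Subgroup.index_map_subtype]
    exact Nat.Prime.not_dvd_mul Nat.prime_two S₀.not_dvd_index hH.not_two_dvd_nat
  let S : Sylow 2 (alternatingGroup (Fin n)) := (S₀.2.map H.subtype).toSylow hSi
  have hSH : (S : Subgroup (alternatingGroup (Fin n))) ≤ H := Subgroup.map_subtype_le _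
  intro g
  set K := H ⊔ H.map (MulAut.conj g).toMonoidHom with hKdef
  have hSK : (S : Subgroup (alternatingGroup (Fin n))) ≤ K := hSH.trans le_sup_left
  have hTK : (g • S : Sylow 2 (alternatingGroup (Fin n))).toSubgroup ≤ K := by
    intro y hy
    exact Subgroup.mem_sup_right ⟨g⁻¹ * y * g, hSH ((AltSelfNorm.mem_smul_sylow S g y).1 hy), by simp [mul_assoc]⟩
  obtain ⟨k, hk⟩ := MulAction.exists_smul_eq K (S.subtype hSK) ((g • S).subtype hTK)
  have hkS : ∀ y : alternatingGroup (Fin n), y ∈ S →
      (k : alternatingGroup (Fin n))⁻¹ * g * y * ((k : alternatingGroup (Fin n))⁻¹ * g)⁻¹ ∈ S := by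
    intro y hy
    have hyT : g * y * g⁻¹ ∈ g • S := (AltSelfNorm.mem_smul_sylow S g _).2 (by simpa [mul_assoc] using hy)
    have hy2 : (⟨g * y * g⁻¹, hTK hyT⟩ : K) ∈ (g • S).subtype hTK := hyT
    rw [← hk, AltSelfNorm.mem_smul_sylow] at hy2
    show _ ∈ (S : Subgroup (alternatingGroup (Fin n)))
    simpa [mul_assoc] using (show _ ∈ (S : Subgroup (alternatingGroup (Fin n))) from hy2)
  refine ⟨k, k.2, ?_⟩
  -- it is enough that `k⁻¹ g` stabilizes `H`
  suffices hmem : (k : alternatingGroup (Fin n))⁻¹ * g ∈ Subgroup.normalizer (H : Set (alternatingGroup (Fin n))) by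
    ext z
    simp only [Subgroup.mem_map, MulEquiv.coe_toMonoidHom, MulAut.conj_apply]
    constructor
    · rintro ⟨y, hy, rfl⟩
      exact ⟨_, (Subgroup.mem_normalizer_iff.1 hmem y).1 hy, by simp [mul_assoc]⟩
    · rintro ⟨y, hy, rfl⟩
      refine ⟨((k : alternatingGroup (Fin n))⁻¹ * g)⁻¹ * y * ((k : alternatingGroup (Fin n))⁻¹ * g),
        (Subgroup.mem_normalizer_iff.1 hmem _).2 (by simpa [mul_assoc] using hy), by simp [mul_assoc]⟩
  have hN : (k : alternatingGroup (Fin n))⁻¹ * g ∈
      Subgroup.normalizer ((S : Subgroup (alternatingGroup (Fin n))) : Set (alternatingGroup (Fin n))) := by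
    have hmap : (S : Subgroup (alternatingGroup (Fin n))).map
        (MulAut.conj ((k : alternatingGroup (Fin n))⁻¹ * g)).toMonoidHom = S :=
      Subgroup.eq_of_le_of_card_ge (by rintro _ ⟨y, hy, rfl⟩; exact hkS y hy)
        (Subgroup.card_map_of_injective (MulAut.conj _).injective).ge
    refine Subgroup.mem_normalizer_iff.2 fun y => ⟨hkS y, fun hy => ?_⟩
    obtain ⟨z, hz, hze⟩ := hmap.ge hy
    have : z = y := (MulAut.conj ((k : alternatingGroup (Fin n))⁻¹ * g)).injective hze
    exact this ▸ hz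
  rcases Nat.eq_or_lt_of_le hn with h5 | h6
  · subst h5
    haveI : IsSimpleGroup (alternatingGroup (Fin 5)) := alternatingGroup.isSimpleGroup (by simp)
    rcases hSH.lt_or_eq with hlt | heq
    · exact Subgroup.le_normalizer (AltSelfNorm.normalizer_le_five
        (by rw [nat_card_alternatingGroup, Nat.card_fin]; rfl) S H hlt hN)
    · rw [← heq]; exact hN
  · exact Subgroup.le_normalizer (hSH (AltSelfNorm.normalizer_sylow_alt (by omega) S _ hkS))

end Cfsg.Agent.S2222
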