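import Cfsg.Statements.S2225
import Cfsg.Agent.Lib.PronormalOdd.EvenGroups
import Cfsg.Agent.Lib.PronormalOdd.DimTwo
import Cfsg.Agent.Lib.PronormalOdd.Families

set_option autoImplicit false
open Cfsg

namespace Cfsg.Agent.S2225

/-- Let F be a finite field and d = 2^w ≥ 2 a power of 2 such that PSL_d(F) is simple. Then every subgroup H of PSL_d(F) of odd index is pronormal: for every g, H and gHg⁻¹ are conjugate by an element of the subgroup they generate. -/
theorem result {F : Type*} [Field F] [Fintype F]
    (w : ℕ) (hw : 1 ≤ w) (hs : IsSimpleGroup (Matrix.ProjectiveSpecialLinearGroup (Fin (2 ^ w)) F))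
    (H : Subgroup (Matrix.ProjectiveSpecialLinearGroup (Fin (2 ^ w)) F)) (hH : Odd H.index) : Cfsg.IsPronormal H := by
  refine PronormalOdd.pron_of_surjective
    (f := QuotientGroup.mk' (Subgroup.center (Matrix.SpecialLinearGroup (Fin (2 ^ w)) F)))
    (QuotientGroup.mk'_surjective _) ?_ H hH.not_two_dvd_nat
  rcases Nat.even_or_odd (Fintype.card F) with he | ho
  · haveI : CharP F 2 := ringChar.of_eq (by
      rw [FiniteField.even_card_iff_char_two]; exact Nat.even_iff.mp he)
    exact PronormalOdd.allPron_SL_even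
  obtain ⟨j, rfl | rfl⟩ : ∃ j, w = 1 ∨ w = j + 2 := ⟨w - 2, by omega⟩
  · exact PronormalOdd.allPron_SL_two (F := F) (by rwa [Nat.card_eq_fintype_card])
  · exact PronormalOdd.allPron_SL_odd ho j

end Cfsg.Agent.S2225
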