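import Cfsg.Statements.S2226
import Cfsg.Agent.Lib.PronormalOdd.EvenGroups
import Cfsg.Agent.Lib.PronormalOdd.Families

set_option autoImplicit false
open Cfsg

namespace Cfsg.Agent.S2226

/-- Let F be a finite field with q² elements and d = 2^w ≥ 4 a power of 2 such that the unitary group PSU_d(q) (realised over F) is simple. Then every subgroup H of PSU_d(q) of odd index is pronormal: for every g, H and gHg⁻¹ are conjugate by an element of the subgroup they generate. -/
theorem result {F : Type*} [Field F] [Fintype F] (q : ℕ)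
    (hF : Fintype.card F = q ^ 2) (w : ℕ) (hw : 2 ≤ w) (hs : IsSimpleGroup (Cfsg.PSU (2 ^ w) F q))
    (H : Subgroup (Cfsg.PSU (2 ^ w) F q)) (hH : Odd H.index) : Cfsg.IsPronormal H := by
  refine PronormalOdd.pron_of_surjective
    (f := QuotientGroup.mk' (Subgroup.center (Cfsg.SU (2 ^ w) F q)))
    (QuotientGroup.mk'_surjective _) ?_ H hH.not_two_dvd_nat
  rcases Nat.even_or_odd q with he | ho
  · haveI : CharP F 2 := ringChar.of_eq (by
      rw [FiniteField.even_card_iff_char_two, hF, Nat.pow_mod, Nat.even_iff.mp he])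
    exact PronormalOdd.allPron_SU_even hF (Nat.even_pow.mpr ⟨even_two, by omega⟩)
  obtain ⟨j, rfl⟩ : ∃ j, w = j + 2 := ⟨w - 2, by omega⟩
  exact PronormalOdd.allPron_SU_odd hF ho j

end Cfsg.Agent.S2226
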