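import Cfsg.Statements.S2227
import Cfsg.Agent.Lib.TwistE6Five.Main

set_option autoImplicit false
open Cfsg

namespace Cfsg.Agent.S2227

open Cfsg.Agent.TwistE6Five in
/-- In the twisted group ²E₆(2) all elements of order 5 are conjugate, and the centralizer of an element of order 5 is isomorphic to the direct product of a cyclic group of order 5 with the alternating group of degree 8. -/
theorem result {K : Type*} [Field K] [Fintype K] (hK : Fintype.card K = 4) :
    (∀ x y : ↥(Cfsg.Lie.twistedE6 K 2), orderOf x = 5 → orderOf y = 5 → IsConj x y) ∧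
      ∀ x : ↥(Cfsg.Lie.twistedE6 K 2), orderOf x = 5 →
        Nonempty (↥(Subgroup.centralizer ({x} : Set ↥(Cfsg.Lie.twistedE6 K 2))) ≃* (Multiplicative (ZMod 5) × ↥(alternatingGroup (Fin 8)))) := by
  classical
  haveI : Fact (Nat.Prime 2) := ⟨Nat.prime_two⟩
  let F := GaloisField 2 4
  haveI : Fintype F := Fintype.ofFinite F
  have hF : Fintype.card F = 16 := by
    rw [← Nat.card_eq_fintype_card, GaloisField.card 2 4 (by norm_num)]; norm_num
  haveI : Fintype (GaloisField 2 2) := Fintype.ofFinite _
  have hK2 : Fintype.card K = Fintype.card (GaloisField 2 2) := by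
    rw [hK, ← Nat.card_eq_fintype_card, GaloisField.card 2 2 (by norm_num)]; norm_num
  obtain ⟨g⟩ : Nonempty (GaloisField 2 2 →ₐ[ZMod 2] F) :=
    FiniteField.nonempty_algHom_iff_finrank_dvd.2 (by
      rw [GaloisField.finrank 2 (by norm_num), GaloisField.finrank 2 (by norm_num)]; norm_num)
  let ι : K →+* F := g.toRingHom.comp (FiniteField.ringEquivOfCardEq hK2).toRingHom
  have h15 : ∀ u : Fˣ, u ^ 15 = 1 := fun u => Units.ext (by
    have h := FiniteField.pow_card_sub_one_eq_one (u : F) u.ne_zero
    rw [hF] at h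
    simpa using h)
  haveI : Fact (Nat.Prime 5) := ⟨by norm_num⟩
  obtain ⟨ζ, hζ⟩ := exists_prime_orderOf_dvd_card (G := Fˣ) 5 (by rw [Fintype.card_units, hF]; norm_num)
  obtain ⟨e⟩ := exists_equiv (F := F) hK ι
  have h3 := TwistE6D4.card_twistedE6 (K := K) gE6 (q := 2) Nat.prime_two.isPrimePow (by rw [hK]; norm_num)
  have hcard : Nat.card ↥(G16 F) = 25 * (2 ^ 36 * 33 * 63 * 51 * 513 * 819) := by
    rw [← Nat.card_congr e.toEquiv]
    norm_num at h3 ⊢
    omega
  have hall := all_conj hζ h15 hcard (by norm_num)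
  have key : ∀ x, orderOf x = 5 → IsConj (x5 hζ h15) (e x) := fun x hx =>
    hall (e x) ((orderOf_injective e.toMonoidHom e.injective x).trans hx)
  refine ⟨fun x y hx hy => ?_, fun x hx => ?_⟩
  · have h := MonoidHom.map_isConj e.symm.toMonoidHom ((key x hx).symm.trans (key y hy))
    simpa using h
  · obtain ⟨c, hc⟩ := isConj_iff.1 (key x hx)
    obtain ⟨E⟩ := cent_equiv hζ h15
    let f : ↥(G16 F) ≃* ↥(Lie.twistedE6 K 2) := (MulAut.conj c).trans e.symm
    have hf : f (x5 hζ h15) = x := by
      show e.symm (c * x5 hζ h15 * c⁻¹) = x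
      rw [hc, MulEquiv.symm_apply_apply]
    have hmap : (Subgroup.centralizer ({x5 hζ h15} : Set ↥(G16 F))).map f.toMonoidHom =
        Subgroup.centralizer {x} := by
      ext z
      rw [Subgroup.mem_map_equiv, Subgroup.mem_centralizer_singleton_iff, Subgroup.mem_centralizer_singleton_iff,
        ← hf]
      constructor <;> intro h
      · simpa using congrArg f h
      · simpa using congrArg f.symm h
    exact ⟨((MulEquiv.subgroupCongr hmap).symm.trans
      ((f.subgroupMap _).symm)).trans E⟩

end Cfsg.Agent.S2227
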