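import Cfsg.Statements.S2231
import Cfsg.Agent.EqLemmas
import Cfsg.Agent.Lib.QdFree.FixVec

set_option autoImplicit false
open Cfsg

namespace Cfsg.Agent.S2231

open Matrix

theorem fix_unipotent {F : Type*} [Field F] {p : ℕ} [Fact p.Prime] [CharP F p] (v : Fin 2 → F) (hv : v ≠ 0)
    (g : Matrix.SpecialLinearGroup (Fin 2) F) (hg : g.1 *ᵥ v = v) : g ^ p = 1 := by
  obtain ⟨g, hdet⟩ := g
  simp only at hg
  have h1 : (g - 1).det = 0 := Matrix.exists_mulVec_eq_zero_iff.mp ⟨v, hv, by
    rw [Matrix.sub_mulVec, hg, Matrix.one_mulVec, sub_self]⟩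
  rw [Matrix.det_fin_two] at hdet h1
  simp [Matrix.sub_apply] at h1
  have h2 : (g - 1) ^ 2 = 0 := by
    ext i j
    simp only [pow_two, Matrix.mul_apply, Fin.sum_univ_two, Matrix.zero_apply]
    fin_cases i <;> fin_cases j <;> simp <;> grind
  apply Subtype.ext
  have h3 := sub_pow_char_of_commute p (Commute.one_right g)
  rw [pow_eq_zero_of_le (Fact.out : p.Prime).two_le h2, one_pow] at h3
  show g ^ p = 1
  exact sub_eq_zero.mp h3.symm

/-- Let p be an odd prime and K a finite field of characteristic p. Then Qd(p) (the natural semidirect product of an elementary abelian group of order p² by SL₂(p)) is not involved in the projective special linear group PSL₂(K). -/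
theorem result {p : ℕ} [Fact p.Prime] (hp : p ≠ 2) {K : Type*} [Field K] [Fintype K] [CharP K p] : ¬ Cfsg.Involves ↥(Cfsg.qd p) (Matrix.ProjectiveSpecialLinearGroup (Fin 2) K) := by
  have hfin : Finite K := inferInstance
  have hTI := QdFree.ti_of_points (p := p) (⊤ : Subgroup (Matrix.SpecialLinearGroup (Fin 2) K)) (fun v => v ≠ 0)
    (by
      intro S _ hS _
      obtain ⟨u, -, hu0, hu⟩ := QdFree.exists_fixed_vector S hS ⊤ (fun _ _ _ _ => trivial) (by simp)
      exact ⟨u, hu0, hu⟩)
    (by
      rintro v hv ⟨g, -, hg⟩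
      exact ⟨1, Subtype.ext (by simpa using fix_unipotent v hv g hg)⟩)
    (by
      intro v w hv hw x _ hx hxv hxw g hg
      by_cases hd : v 0 * w 1 - v 1 * w 0 = 0
      · obtain ⟨c, hc⟩ : ∃ c : K, v = c • w := by
          by_cases h0 : w 0 = 0
          · have h1 : w 1 ≠ 0 := fun h1 => hw (by ext i; fin_cases i <;> assumption)
            have hv0 : v 0 = 0 := by
              rw [h0, mul_zero, sub_zero] at hd
              exact (mul_eq_zero.mp hd).resolve_right h1
            exact ⟨v 1 / w 1, by ext i; fin_cases i <;> simp [hv0, h0, h1]⟩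
          · refine ⟨v 0 / w 0, ?_⟩
            ext i
            fin_cases i
            · simp [h0]
            · simp only [Fin.mk_one, Pi.smul_apply, smul_eq_mul]
              field_simp
              linear_combination -hd
        rw [QdFree.mem_fixVec, hc, Matrix.mulVec_smul, QdFree.mem_fixVec.mp hg.2]
      · refine absurd (Subtype.ext ?_) hx
        have e1 := congrFun hxv 0
        have e2 := congrFun hxv 1
        have e3 := congrFun hxw 0
        have e4 := congrFun hxw 1
        simp [Matrix.mulVec, dotProduct, Fin.sum_univ_two] at e1 e2 e3 e4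
        ext i j
        fin_cases i <;> fin_cases j <;> simp <;> grind)
  refine QdFree.not_involves hTI ((QuotientGroup.mk' _).comp (⊤ : Subgroup (Matrix.SpecialLinearGroup (Fin 2) K)).subtype) ?_
  intro y
  obtain ⟨g, rfl⟩ := QuotientGroup.mk'_surjective _ y
  exact ⟨⟨g, trivial⟩, rfl⟩

end Cfsg.Agent.S2231
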