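import Cfsg.Statements.S2232
import Cfsg.Agent.EqLemmas
import Cfsg.Agent.Lib.QdFree.FixVec

set_option autoImplicit false
open Cfsg

namespace Cfsg.Agent.S2232

open Matrix

variable {F : Type*} [Field F] {q : ℕ}

theorem mem_SU {g : Matrix.SpecialLinearGroup (Fin 3) F} :
    g ∈ SU 3 F q ↔ ∀ u v, hermForm 3 F q (g.1 *ᵥ u) (g.1 *ᵥ v) = hermForm 3 F q u v := Iff.rfl

theorem herm_eq (u v : Fin 3 → F) : hermForm 3 F q u v = u ⬝ᵥ (fun i => v i ^ q) := rfl

theorem conj_row_fixed (g : Matrix.SpecialLinearGroup (Fin 3) F) (hg : g ∈ SU 3 F q) (v : Fin 3 → F)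
    (hv : g.1 *ᵥ v = v) : (fun i => v i ^ q) ᵥ* g.1 = fun i => v i ^ q := by
  ext j
  have h := mem_SU.mp hg (Pi.single j 1) v
  rw [hv, herm_eq, herm_eq, dotProduct_comm, Matrix.dotProduct_mulVec] at h
  simpa using h

theorem exists_isotropic {p : ℕ} [Fact p.Prime] [Finite F] [CharP F p]
    (S : Subgroup (Matrix.SpecialLinearGroup (Fin 3) F)) (hSH : S ≤ SU 3 F q) (hS : IsPGroup p S)
    (hne : S ≠ ⊥) : ∃ v, (v ≠ 0 ∧ hermForm 3 F q v v = 0) ∧ S ≤ QdFree.fixVec v := by
  let W : AddSubgroup (Fin 3 → F) :=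
    { carrier := {u | ∀ w, (∀ g ∈ S, g.1 *ᵥ w = w) → hermForm 3 F q u w = 0}
      add_mem' := fun {a b} ha hb w hw => by
        have h1 := ha w hw
        have h2 := hb w hw
        rw [herm_eq] at h1 h2 ⊢
        rw [add_dotProduct, h1, h2, add_zero]
      zero_mem' := fun w _ => by rw [herm_eq, zero_dotProduct]
      neg_mem' := fun {a} ha w hw => by
        have h1 := ha w hw
        rw [herm_eq] at h1 ⊢
        rw [neg_dotProduct, h1, neg_zero] }
  have hW : ∀ g ∈ S, ∀ u ∈ W, g.1 *ᵥ u ∈ W := fun g hg u hu w hw => by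
    have := mem_SU.mp (hSH hg) u w
    rw [hw g hg, hu w hw] at this
    exact this
  have hWne : W ≠ ⊥ := by
    obtain ⟨⟨g, hg⟩, hg1⟩ := (Subgroup.ne_bot_iff_exists_ne_one).mp hne
    obtain ⟨z, hz⟩ : ∃ z, g.1 *ᵥ z ≠ z := by
      by_contra! h
      refine hg1 (Subtype.ext (Subtype.ext ?_))
      exact Matrix.mulVec_injective (funext fun z => by rw [h z]; exact (Matrix.one_mulVec z).symm)
    intro h
    have hmem : g.1 *ᵥ z - z ∈ W := fun w hw => by
      have := mem_SU.mp (hSH hg) z w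
      rw [hw g hg, herm_eq, herm_eq] at this
      rw [herm_eq, sub_dotProduct, this, sub_self]
    rw [h] at hmem
    exact hz (sub_eq_zero.mp hmem)
  obtain ⟨u, huW, hu0, hu⟩ := QdFree.exists_fixed_vector S hS W hW hWne
  exact ⟨u, ⟨hu0, huW u fun g hg => hu hg⟩, hu⟩

theorem fix_unique {p : ℕ} [Fact p.Prime] [Fintype F] [CharP F p] {n : ℕ}
    (hK : Fintype.card F = (p ^ n) ^ 2) (v w : Fin 3 → F) (hv : hermForm 3 F (p ^ n) v v = 0)
    (hw : hermForm 3 F (p ^ n) w w = 0) (hw0 : w ≠ 0)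
    (x : Matrix.SpecialLinearGroup (Fin 3) F) (hx : x ∈ SU 3 F (p ^ n)) (hx1 : x ≠ 1)
    (hxv : x.1 *ᵥ v = v) (hxw : x.1 *ᵥ w = w) (hN : (x.1 - 1) ^ 3 = 0) : ∃ c : F, v = c • w := by
  obtain ⟨r, hrdef⟩ : ∃ r, r = p ^ n := ⟨_, rfl⟩
  have hr : ∀ a : F, (a ^ r) ^ r = a := fun a => by
    rw [← pow_mul, ← pow_two, hrdef, ← hK, FiniteField.pow_card]
  have hadd : ∀ a b : F, (a + b) ^ r = a ^ r + b ^ r := fun a b => by
    rw [hrdef]; exact add_pow_char_pow ..
  have hsub : ∀ a b : F, (a - b) ^ r = a ^ r - b ^ r := fun a b => by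
    rw [hrdef]; exact sub_pow_char_pow ..
  have hr0 : r ≠ 0 := hrdef ▸ pow_ne_zero _ (Fact.out : p.Prime).ne_zero
  rw [← hrdef] at hv hw hx
  -- c is the cross product
  set c0 := v 1 * w 2 - v 2 * w 1 with hc0
  set c1 := v 2 * w 0 - v 0 * w 2 with hc1
  set c2 := v 0 * w 1 - v 1 * w 0 with hc2
  by_cases hc : c0 = 0 ∧ c1 = 0 ∧ c2 = 0
  · obtain ⟨h0, h1, h2⟩ := hc
    obtain ⟨k, hk⟩ := Function.ne_iff.mp hw0
    simp only [Pi.zero_apply] at hk
    refine ⟨v k / w k, funext fun i => ?_⟩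
    have key : v i * w k = v k * w i := by fin_cases i <;> fin_cases k <;> simp <;> grind
    simp only [Pi.smul_apply, smul_eq_mul]
    field_simp
    exact key
  · exfalso
    obtain ⟨hrow_v, hrow_w⟩ : (fun i => v i ^ r) ᵥ* x.1 = (fun i => v i ^ r) ∧
        (fun i => w i ^ r) ᵥ* x.1 = (fun i => w i ^ r) :=
      ⟨conj_row_fixed x hx v hxv, conj_row_fixed x hx w hxw⟩
    set s := hermForm 3 F r v w with hs
    have hswv : hermForm 3 F r w v = s ^ r := by
      rw [hs]
      simp only [hermForm, Fin.sum_univ_three, hadd, mul_pow, hr]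
      ring
    simp only [hermForm, Fin.sum_univ_three] at hv hw hswv hs
    have hgram : c0 * c0 ^ r + c1 * c1 ^ r + c2 * c2 ^ r = -(s * s ^ r) := by
      rw [← hswv, hs, hc0, hc1, hc2]
      simp only [hsub, mul_pow]
      linear_combination (w 0 * w 0 ^ r + w 1 * w 1 ^ r + w 2 * w 2 ^ r) * hv
    by_cases hs0 : s = 0
    · -- a totally isotropic plane: impossible
      apply hc
      have a0 : ∀ (d : F), d ^ r = 0 → d = 0 := fun d h => (pow_eq_zero_iff hr0).mp h
      have hswv' : w 0 * v 0 ^ r + w 1 * v 1 ^ r + w 2 * v 2 ^ r = 0 := by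
        rw [hswv, hs0, zero_pow hr0]
      rw [hs0] at hs
      have e0 : c0 ^ r * c0 = 0 ∧ c0 ^ r * c1 = 0 ∧ c0 ^ r * c2 = 0 := by
        rw [hc0, hsub, mul_pow, mul_pow, hc1, hc2]
        refine ⟨?_, ?_, ?_⟩ <;> grind
      have e1 : c1 ^ r * c0 = 0 ∧ c1 ^ r * c1 = 0 ∧ c1 ^ r * c2 = 0 := by
        rw [hc1, hsub, mul_pow, mul_pow, hc0, hc2]
        refine ⟨?_, ?_, ?_⟩ <;> grind
      have e2 : c2 ^ r * c0 = 0 ∧ c2 ^ r * c1 = 0 ∧ c2 ^ r * c2 = 0 := by
        rw [hc2, hsub, mul_pow, mul_pow, hc0, hc1]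
        refine ⟨?_, ?_, ?_⟩ <;> grind
      refine ⟨?_, ?_, ?_⟩
      · exact (mul_eq_zero.mp e0.1).elim (a0 _) id
      · exact (mul_eq_zero.mp e1.2.1).elim (a0 _) id
      · exact (mul_eq_zero.mp e2.2.2).elim (a0 _) id
    · have hz : c0 * c0 ^ r + c1 * c1 ^ r + c2 * c2 ^ r ≠ 0 := by
        rw [hgram]
        simpa [hr0] using hs0
      let M : Matrix (Fin 3) (Fin 3) F := !![v 0, w 0, c0 ^ r; v 1, w 1, c1 ^ r; v 2, w 2, c2 ^ r]
      have hM : M.det ≠ 0 := by
        have : M.det = c0 * c0 ^ r + c1 * c1 ^ r + c2 * c2 ^ r := by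
          simp [M, Matrix.det_fin_three, hc0, hc1, hc2]
          ring
        rwa [this]
      -- the third column is an eigenvector of x - 1
      set z : Fin 3 → F := ![c0 ^ r, c1 ^ r, c2 ^ r] with hzdef
      set N := x.1 - 1 with hNdef
      have hy : ∀ u : Fin 3 → F, ∃ α : F, N *ᵥ u = α • z := by
        intro u
        set y := N *ᵥ u with hydef
        have h1 : (fun i => v i ^ r) ⬝ᵥ y = 0 := by
          rw [hydef, hNdef, Matrix.dotProduct_mulVec, Matrix.vecMul_sub, hrow_v, Matrix.vecMul_one,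
            sub_self, zero_dotProduct]
        have h2 : (fun i => w i ^ r) ⬝ᵥ y = 0 := by
          rw [hydef, hNdef, Matrix.dotProduct_mulVec, Matrix.vecMul_sub, hrow_w, Matrix.vecMul_one,
            sub_self, zero_dotProduct]
        simp [dotProduct, Fin.sum_univ_three] at h1 h2
        refine ⟨(c0 * y 0 + c1 * y 1 + c2 * y 2) / (c0 * c0 ^ r + c1 * c1 ^ r + c2 * c2 ^ r),
          funext fun i => ?_⟩
        simp only [Pi.smul_apply, smul_eq_mul]
        rw [div_mul_eq_mul_div, eq_div_iff hz]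
        have k0 : c0 ^ r = v 1 ^ r * w 2 ^ r - v 2 ^ r * w 1 ^ r := by rw [hc0, hsub, mul_pow, mul_pow]
        have k1 : c1 ^ r = v 2 ^ r * w 0 ^ r - v 0 ^ r * w 2 ^ r := by rw [hc1, hsub, mul_pow, mul_pow]
        have k2 : c2 ^ r = v 0 ^ r * w 1 ^ r - v 1 ^ r * w 0 ^ r := by rw [hc2, hsub, mul_pow, mul_pow]
        fin_cases i <;> simp [hzdef, k0, k1, k2] <;> grind
      obtain ⟨α, hα⟩ := hy z
      have hz0 : z ≠ 0 := fun h => by
        apply hz
        have h0 := congrFun h 0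
        have h1 := congrFun h 1
        have h2 := congrFun h 2
        simp [hzdef] at h0 h1 h2
        simp [h0, h1, h2, zero_pow hr0]
      have h3 : α ^ 3 • z = 0 := by
        have := congrArg (fun A => A *ᵥ z) hN
        simp only [pow_succ, pow_zero, one_mul, ← Matrix.mulVec_mulVec, hα, Matrix.mulVec_smul,
          Matrix.zero_mulVec, smul_smul] at this
        rw [← this]
        congr 1
        ring
      have hα0 : α = 0 := by simpa [smul_eq_zero, hz0] using h3
      have hxz : x.1 *ᵥ z = z := by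
        rw [hα0, zero_smul, hNdef, Matrix.sub_mulVec, Matrix.one_mulVec] at hα
        exact sub_eq_zero.mp hα
      have hxM : x.1 * M = 1 * M := by
        rw [one_mul]
        ext i j
        fin_cases j
        · simpa [M, Matrix.mul_apply, Matrix.mulVec, dotProduct, Fin.sum_univ_three] using
            (congrFun hxv i).trans (by fin_cases i <;> simp [M])
        · simpa [M, Matrix.mul_apply, Matrix.mulVec, dotProduct, Fin.sum_univ_three] using
            (congrFun hxw i).trans (by fin_cases i <;> simp [M])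
        · simpa [M, hzdef, Matrix.mul_apply, Matrix.mulVec, dotProduct, Fin.sum_univ_three] using
            (congrFun hxz i).trans (by fin_cases i <;> simp [M, hzdef])
      refine hx1 (Subtype.ext ?_)
      exact ((Matrix.isUnit_iff_isUnit_det M).mpr (isUnit_iff_ne_zero.mpr hM)).mul_right_cancel hxM

/-- Let p be an odd prime, q a power of p and K a finite field with q² elements. Then Qd(p) (the natural semidirect product of an elementary abelian group of order p² by SL₂(p)) is not involved in the projective special unitary group PSU₃(q) realised over K. -/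
theorem result {p : ℕ} [Fact p.Prime] (hp : p ≠ 2) {K : Type*} [Field K] [Fintype K] [CharP K p] (n : ℕ) (hn : 1 ≤ n) (hK : Fintype.card K = (p ^ n) ^ 2) : ¬ Cfsg.Involves ↥(Cfsg.qd p) (Cfsg.PSU 3 K (p ^ n)) := by
  have hcube : ∀ v : Fin 3 → K, v ≠ 0 → hermForm 3 K (p ^ n) v v = 0 →
      ∀ g ∈ SU 3 K (p ^ n), g ∈ QdFree.fixVec v → (g.1 - 1) ^ 3 = 0 := by
    intro v hv hiso g hg hgv
    refine QdFree.cube_sub_one g.1 v (fun i => v i ^ (p ^ n)) hv ?_ ?_ hgv (conj_row_fixed g hg v hgv) g.2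
    · intro h
      exact hv (funext fun i => (pow_eq_zero_iff (pow_ne_zero _ (Fact.out : p.Prime).ne_zero)).mp (congrFun h i))
    · rw [dotProduct_comm]
      exact hiso
  have hTI := QdFree.ti_of_points (p := p) (SU 3 K (p ^ n))
    (fun v => v ≠ 0 ∧ hermForm 3 K (p ^ n) v v = 0)
    (fun S hSH hS hne => exists_isotropic S hSH hS hne)
    (by
      rintro v ⟨hv, hiso⟩ ⟨g, hgH, hgv⟩
      exact ⟨2, Subtype.ext (Subtype.ext (by
        simpa using QdFree.pow_sq_eq_one g.1 (hcube v hv hiso g hgH hgv)))⟩)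
    (by
      rintro v w ⟨hv, hvi⟩ ⟨hw, hwi⟩ x hx hx1 hxv hxw g hg
      obtain ⟨c, rfl⟩ := fix_unique hK v w hvi hwi hw x hx hx1 hxv hxw (hcube v hv hvi x hx hxv)
      rw [QdFree.mem_fixVec, Matrix.mulVec_smul, QdFree.mem_fixVec.mp hg.2])
  exact QdFree.not_involves hTI (QuotientGroup.mk' _) (QuotientGroup.mk'_surjective _)

end Cfsg.Agent.S2232
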