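import Cfsg.Statements.S2620
import Cfsg.Agent.EqLemmas

set_option autoImplicit false
open Cfsg

namespace Cfsg.Agent.S2620

/-- Discriminant of the hyperbolic quadratic form Σ_(i<m) x_i y_i over a field with q elements, q odd, m ≥ 1: the determinant of the Gram matrix of its polar form in any basis is a square if and only if m(q − 1)/2 is even (equivalently q^m ≡ 1 (mod 4)). -/
theorem result {F : Type*} [Field F] [Fintype F] {q : ℕ} (hF : Fintype.card F = q) (hq : Odd q) {m : ℕ} (hm : 1 ≤ m) {ι : Type*} [Fintype ι] [DecidableEq ι] (b : Module.Basis ι F (Fin m ⊕ Fin m → F)) : IsSquare (Matrix.of (fun i j : ι => QuadraticMap.polar (Cfsg.quadFormPlus m F) (b i) (b j))).det ↔ Even (m * (q - 1) / 2) := by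
  classical
  have hb := Module.finrank_eq_card_basis b
  rw [Module.finrank_pi] at hb
  let e : ι ≃ Fin m ⊕ Fin m := Fintype.equivOfCardEq hb.symm
  let G : Matrix (Fin m ⊕ Fin m) (Fin m ⊕ Fin m) F := Matrix.fromBlocks 0 1 1 0
  let B : LinearMap.BilinForm F (Fin m ⊕ Fin m → F) := Matrix.toBilin' G
  have hB : ∀ x y, B x y = QuadraticMap.polar (Cfsg.quadFormPlus m F) x y := by
    intro x y
    simp only [B, Matrix.toBilin'_apply', G, Matrix.fromBlocks_mulVec, QuadraticMap.polar,
      Cfsg.quadFormPlus, dotProduct, Fintype.sum_sum_type]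
    simp [add_mul, mul_add, Finset.sum_add_distrib, mul_comm]
    ring
  have hgram : (Matrix.of fun i j : ι => QuadraticMap.polar (Cfsg.quadFormPlus m F) (b i) (b j))
      = (LinearMap.BilinForm.toMatrix (b.reindex e) B).submatrix e e := by
    ext i j
    simp [LinearMap.BilinForm.toMatrix_apply, hB]
  rw [hgram, Matrix.det_submatrix_equiv_self]
  set s := Pi.basisFun F (Fin m ⊕ Fin m)
  set b' := b.reindex e
  rw [← LinearMap.BilinForm.toMatrix_mul_basis_toMatrix s b' B, Matrix.det_mul, Matrix.det_mul,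
    Matrix.det_transpose]
  have hs : LinearMap.BilinForm.toMatrix s B = G := by
    ext i j
    simp [LinearMap.BilinForm.toMatrix_apply, B, s, Matrix.toBilin'_single]
  rw [hs]
  have hP : (s.toMatrix b').det ≠ 0 := by
    have := s.toMatrix_mul_toMatrix_flip b'
    intro h
    have h2 := congrArg Matrix.det this
    rw [Matrix.det_mul, Matrix.det_one, h, zero_mul] at h2
    exact zero_ne_one h2
  have hG : G.det = (-1 : F) ^ m := by
    have hdec : G = Matrix.fromBlocks 1 0 0 (-1) * (Matrix.fromBlocks 1 1 0 1 *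
        Matrix.fromBlocks 1 0 (-1) 1 * Matrix.fromBlocks 1 1 0 1) := by
      simp [G, Matrix.fromBlocks_multiply]
    rw [hdec]
    simp [Matrix.det_neg]
  rw [hG]
  have hsq : IsSquare ((s.toMatrix b').det * (-1 : F) ^ m * (s.toMatrix b').det) ↔
      IsSquare ((-1 : F) ^ m) := by
    constructor
    · rintro ⟨r, hr⟩
      refine ⟨r / (s.toMatrix b').det, ?_⟩
      field_simp
      linear_combination hr
    · rintro ⟨r, hr⟩
      exact ⟨(s.toMatrix b').det * r, by rw [hr]; ring⟩
  rw [hsq]
  obtain ⟨k, hk⟩ := hq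
  have h2 : m * (q - 1) / 2 = m * k := by
    rw [hk, Nat.add_sub_cancel, mul_left_comm, Nat.mul_div_cancel_left _ two_pos]
  rw [h2, Nat.even_mul]
  rcases Nat.even_or_odd m with hme | hmo
  · rw [hme.neg_one_pow]
    exact ⟨fun _ => Or.inl hme, fun _ => ⟨1, (mul_one 1).symm⟩⟩
  · rw [hmo.neg_one_pow, FiniteField.isSquare_neg_one_iff, hF]
    have hnm : ¬ Even m := Nat.not_even_iff_odd.mpr hmo
    simp only [hnm, false_or, Nat.even_iff]
    omega

end Cfsg.Agent.S2620
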