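import Cfsg.Statements.S2621
import Cfsg.Agent.EqLemmas

set_option autoImplicit false
open Cfsg

namespace Cfsg.Agent.S2621

/-- Discriminant of an elliptic quadratic form Σ_(i<m−1) x_i y_i + z₁² + a z₁z₂ + c z₂² (binary part anisotropic) in dimension 2m over a field with q elements, q odd, m ≥ 1: the determinant of the Gram matrix of its polar form in any basis is a square if and only if m(q − 1)/2 is odd (equivalently q^m ≡ 3 (mod 4)). -/
theorem result {F : Type*} [Field F] [Fintype F] {q : ℕ} (hF : Fintype.card F = q) (hq : Odd q) {m : ℕ} (hm : 1 ≤ m) (a c : F) (hac : ∀ z₁ z₂ : F, z₁ ^ 2 + a * z₁ * z₂ + c * z₂ ^ 2 = 0 → z₁ = 0 ∧ z₂ = 0) {ι : Type*} [Fintype ι] [DecidableEq ι] (b : Module.Basis ι F ((Fin (m - 1) ⊕ Fin (m - 1)) ⊕ Fin 2 → F)) : IsSquare (Matrix.of (fun i j : ι => QuadraticMap.polar (Cfsg.quadFormMinus (m - 1) F a c) (b i) (b j))).det ↔ ¬ Even (m * (q - 1) / 2) := by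
  classical
  obtain ⟨k, rfl⟩ : ∃ k, m = k + 1 := ⟨m - 1, by omega⟩
  let ι₀ := (Fin k ⊕ Fin k) ⊕ Fin 2
  let G₀ : Matrix ι₀ ι₀ F := Matrix.of fun i j =>
    QuadraticMap.polar (Cfsg.quadFormMinus k F a c) (Pi.single i 1) (Pi.single j 1)
  let Qq : QuadraticMap F (ι₀ → F) F :=
    (∑ i : Fin k, QuadraticMap.proj (Sum.inl (Sum.inl i)) (Sum.inl (Sum.inr i)))
      + QuadraticMap.proj (Sum.inr 0) (Sum.inr 0)
      + a • QuadraticMap.proj (Sum.inr 0) (Sum.inr 1)
      + c • QuadraticMap.proj (Sum.inr 1) (Sum.inr 1)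
  have hQq : (⇑Qq : (ι₀ → F) → F) = Cfsg.quadFormMinus k F a c := by
    funext v
    simp [Qq, Cfsg.quadFormMinus, QuadraticMap.sum_apply]
    ring
  show IsSquare (Matrix.of fun i j : ι =>
    QuadraticMap.polar (Cfsg.quadFormMinus k F a c) (b i) (b j)).det ↔ _
  have hblock : G₀ = Matrix.fromBlocks
      (Matrix.fromBlocks 0 1 1 0 : Matrix (Fin k ⊕ Fin k) (Fin k ⊕ Fin k) F) 0 0
      !![2, a; a, c + c] := by
    have hsum : ∀ g : Fin k → F, ∀ l : Fin k, (∑ i, if i = l then g i else 0) = g l := fun g l => by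
      simp
    ext i j
    rcases i with (i | i) | i <;> rcases j with (j | j) | j
    all_goals first
      | (fin_cases i <;> fin_cases j <;>
          simp [G₀, QuadraticMap.polar, Cfsg.quadFormMinus, Pi.single_apply] <;> ring)
      | (fin_cases i <;> simp [G₀, QuadraticMap.polar, Cfsg.quadFormMinus, Pi.single_apply] <;> ring)
      | (fin_cases j <;> simp [G₀, QuadraticMap.polar, Cfsg.quadFormMinus, Pi.single_apply] <;> ring)
      | (simp [G₀, QuadraticMap.polar, Cfsg.quadFormMinus, Pi.single_apply, Matrix.one_apply,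
          mul_add, add_mul, Finset.sum_add_distrib, eq_comm])
  have hG₀ : G₀.det = (-1) ^ (k + 1) * (a ^ 2 - 4 * c) := by
    have h1 : (Matrix.fromBlocks 1 1 0 1 : Matrix (Fin k ⊕ Fin k) (Fin k ⊕ Fin k) F) *
        Matrix.fromBlocks 0 1 1 0 = Matrix.fromBlocks 1 1 1 0 := by
      simp [Matrix.fromBlocks_multiply]
    have h2 := congrArg Matrix.det h1
    rw [Matrix.det_mul, Matrix.det_fromBlocks_one₁₁, Matrix.det_fromBlocks_one₁₁] at h2
    simp only [one_mul, zero_mul, sub_zero, Matrix.det_one, zero_sub, Matrix.det_neg, Fintype.card_fin,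
      mul_one] at h2
    rw [hblock, Matrix.det_fromBlocks_zero₁₂, h2, Matrix.det_fin_two_of, pow_succ]
    ring
  let e : ι₀ ≃ ι := (Pi.basisFun F ι₀).indexEquiv b
  let b' : Module.Basis ι₀ F (ι₀ → F) := b.reindex e.symm
  let B : LinearMap.BilinForm F (ι₀ → F) := QuadraticMap.polarBilin Qq
  have hdet : (Matrix.of fun i j : ι =>
      QuadraticMap.polar (Cfsg.quadFormMinus k F a c) (b i) (b j)).det =
      ((Pi.basisFun F ι₀).toMatrix b').det ^ 2 * G₀.det := by
    rw [← Matrix.det_submatrix_equiv_self e]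
    have h := LinearMap.BilinForm.toMatrix_mul_basis_toMatrix (b := Pi.basisFun F ι₀) b' B
    have hb : LinearMap.BilinForm.toMatrix b' B = (Matrix.of fun i j : ι =>
        QuadraticMap.polar (Cfsg.quadFormMinus k F a c) (b i) (b j)).submatrix e e := by
      ext i j
      rw [LinearMap.BilinForm.toMatrix_apply, Matrix.submatrix_apply, Matrix.of_apply, ← hQq]
      simp [b', B]
    have hg : LinearMap.BilinForm.toMatrix (Pi.basisFun F ι₀) B = G₀ := by
      ext i j
      rw [LinearMap.BilinForm.toMatrix_apply]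
      simp only [G₀, Matrix.of_apply, Pi.basisFun_apply, ← hQq]
      rfl
    rw [← hb, ← h, hg, Matrix.det_mul, Matrix.det_mul, Matrix.det_transpose]
    ring
  have hP : ((Pi.basisFun F ι₀).toMatrix b').det ≠ 0 := by
    have := (Pi.basisFun F ι₀).invertibleToMatrix b'
    exact (Matrix.isUnit_det_of_invertible _).ne_zero
  rw [hdet, hG₀]
  set P := ((Pi.basisFun F ι₀).toMatrix b').det
  have hchar : ringChar F ≠ 2 := by
    intro h
    have := FiniteField.even_card_of_char_two h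
    rw [hF] at this
    rcases hq with ⟨r, hr⟩
    omega
  have h20 : (2 : F) ≠ 0 := Ring.two_ne_zero hchar
  have hd : ¬ IsSquare (a ^ 2 - 4 * c) := by
    rintro ⟨s, hs⟩
    have := hac ((-a + s) / 2) 1 (by field_simp; linear_combination -hs)
    exact one_ne_zero this.2
  have hd0 : a ^ 2 - 4 * c ≠ 0 := fun h => hd (h ▸ IsSquare.zero)
  have hmul : ∀ x y : F, x ≠ 0 → y ≠ 0 → (IsSquare (x * y) ↔ (IsSquare x ↔ IsSquare y)) := by
    intro x y hx hy
    rw [← quadraticChar_one_iff_isSquare hx, ← quadraticChar_one_iff_isSquare hy,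
      ← quadraticChar_one_iff_isSquare (mul_ne_zero hx hy), map_mul]
    rcases quadraticChar_dichotomy hx with h1 | h1 <;>
      rcases quadraticChar_dichotomy hy with h2 | h2 <;> simp [h1, h2]
  have hsq : IsSquare (P ^ 2 * ((-1) ^ (k + 1) * (a ^ 2 - 4 * c))) ↔
      ¬ IsSquare ((-1 : F) ^ (k + 1)) := by
    have hpow : (-1 : F) ^ (k + 1) ≠ 0 := pow_ne_zero _ (neg_ne_zero.2 one_ne_zero)
    rw [hmul _ _ (pow_ne_zero _ hP) (mul_ne_zero hpow hd0), iff_true_left (IsSquare.sq P),
      hmul _ _ hpow hd0, iff_false_right hd]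
  rw [hsq, not_iff_not]
  obtain ⟨r, hr⟩ := hq
  rw [show (k + 1) * (q - 1) / 2 = (k + 1) * r by rw [hr]; simp; ring_nf; omega, Nat.even_mul]
  rcases Nat.even_or_odd (k + 1) with he | ho
  · simp only [he.neg_one_pow, IsSquare.one, true_iff]
    exact Or.inl he
  · rw [ho.neg_one_pow, FiniteField.isSquare_neg_one_iff, hF, hr]
    simp only [Nat.not_even_iff_odd.2 ho, false_or, Nat.even_iff]
    omega

end Cfsg.Agent.S2621
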