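import Cfsg.Statements.S2244
import Cfsg.Agent.Lib.Chev.All
import Cfsg.Agent.Lib.ChevBN.WeaklyClosed

set_option autoImplicit false
open Cfsg

namespace Cfsg.Agent.S2244

/-- Weakly closed unipotent subgroups of Chevalley groups: let G be the Chevalley group of type G₂, B₂, D₄, F₄, E₆, E₇ or E₈ over a finite field F (the matrix group generated by the root elements), with |F| ≠ 2, and |F| ≠ 3 as well for the types G₂, B₂, D₄, F₄. Let U be the subgroup generated by the positive root subgroups. If X ≤ U is weakly closed in U with respect to G (every G-conjugate of X lying in U equals X), then X is the unipotent radical U_J of a standard parabolic subgroup for some set J of fundamental roots. -/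
theorem result {F : Type*} [Field F] [Fintype F] (D : Cfsg.Lie.ChevalleyDatum) (hD : D ∈ [Cfsg.Lie.chevG2, Cfsg.Lie.chevB2, Cfsg.Lie.chevD4, Cfsg.Lie.chevF4, Cfsg.Lie.chevE6, Cfsg.Lie.chevE7, Cfsg.Lie.chevE8])
    (h2 : Fintype.card F ≠ 2) (h3 : D ∈ [Cfsg.Lie.chevG2, Cfsg.Lie.chevB2, Cfsg.Lie.chevD4, Cfsg.Lie.chevF4] → Fintype.card F ≠ 3)
    (X : Subgroup (GL D.Idx F)) (hXU : X ≤ D.posUnipotent F)
    (hwc : ∀ g ∈ D.group F, X.map (MulAut.conj g).toMonoidHom ≤ D.posUnipotent F → X.map (MulAut.conj g).toMonoidHom = X) :
    ∃ J : Set ℕ, (∀ j ∈ J, j < D.rank) ∧ X = D.unipotentRadical F J := by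
  classical
  have key : ∀ {M : List (List ℤ)} {d : ℤ} {two : Bool} {L : List (ℕ × ℕ × ℕ)}, ChevBN.Roots D M d →
      ChevBN.WitAll D M two L → ChevBN.PairOK D two → (two = true → Fintype.card F ≠ 3) →
      ∃ J : Set ℕ, (∀ j ∈ J, j < D.rank) ∧ X = D.unipotentRadical F J := by
    intro M d two L hR hW hP h3'
    obtain ⟨l, hl⟩ : ∃ l : F, ChevBN.ScalarOK two l := by
      by_contra hcon
      push Not at hcon
      cases two with
      | false =>
        have hsub : (Finset.univ : Finset F) ⊆ {0, 1} := by
          intro x _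
          by_contra hx
          simp only [Finset.mem_insert, Finset.mem_singleton, not_or] at hx
          exact hcon x ⟨hx.1, hx.2, fun h => absurd h Bool.false_ne_true⟩
        have hc := (Finset.card_le_card hsub).trans Finset.card_le_two
        have := Fintype.one_lt_card (α := F)
        rw [Finset.card_univ] at hc
        omega
      | true =>
        have hsub : (Finset.univ : Finset F) ⊆ {0, 1, -1} := by
          intro x _
          by_contra hx
          simp only [Finset.mem_insert, Finset.mem_singleton, not_or] at hx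
          refine hcon x ⟨hx.1, hx.2.1, fun _ e => ?_⟩
          rcases mul_self_eq_one_iff.1 e with h | h
          exacts [hx.2.1 h, hx.2.2 h]
        have hc := (Finset.card_le_card hsub).trans Finset.card_le_three
        have := Fintype.one_lt_card (α := F)
        have := h3' rfl
        rw [Finset.card_univ] at hc
        omega
    exact ChevBN.exists_eq_radical (Chev.good_of_mem hD) hR hl hW hP hXU hwc
  have hcases := hD
  simp only [List.mem_cons, List.not_mem_nil, or_false] at hcases
  rcases hcases with rfl | rfl | rfl | rfl | rfl | rfl | rfl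
  · exact key ChevBN.rootsG2 ChevBN.wit_G2 ChevBN.pair_G2 fun _ => h3 (by simp)
  · exact key ChevBN.rootsB2 ChevBN.wit_B2 ChevBN.pair_B2 fun _ => h3 (by simp)
  · exact key ChevBN.rootsD4 ChevBN.wit_D4 ChevBN.pair_D4 fun _ => h3 (by simp)
  · exact key ChevBN.rootsF4 ChevBN.wit_F4 ChevBN.pair_F4 fun _ => h3 (by simp)
  · exact key ChevBN.rootsE6 ChevBN.wit_E6 ChevBN.pair_E6 fun h => absurd h Bool.false_ne_true
  · exact key ChevBN.rootsE7 ChevBN.wit_E7 ChevBN.pair_E7 fun h => absurd h Bool.false_ne_true
  · exact key ChevBN.rootsE8 ChevBN.wit_E8 ChevBN.pair_E8 fun h => absurd h Bool.false_ne_true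

end Cfsg.Agent.S2244
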