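import Cfsg.Statements.S2245
import Cfsg.Agent.Lib.AltSelfNorm.Cases
-- import your own Cfsg.Agent.* helpers here

set_option autoImplicit false
open Cfsg

namespace Cfsg.Agent.S2245

/-- For n ≥ 5 with n ≠ 6, a Sylow 2-subgroup of the alternating group A_n lies in exactly one maximal subgroup of A_n if and only if n = 2^k + 1 for some k ≥ 2; the same holds for the symmetric group S_n. -/
theorem result (n : ℕ) (hn : 5 ≤ n) (h6 : n ≠ 6) :
    ((∀ R : Sylow 2 ↥(alternatingGroup (Fin n)), (∃! M : Subgroup ↥(alternatingGroup (Fin n)), IsCoatom M ∧ (R : Subgroup ↥(alternatingGroup (Fin n))) ≤ M) ↔ ∃ k : ℕ, 2 ≤ k ∧ n = 2 ^ k + 1) ∧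
    (∀ R : Sylow 2 (Equiv.Perm (Fin n)), (∃! M : Subgroup (Equiv.Perm (Fin n)), IsCoatom M ∧ (R : Subgroup (Equiv.Perm (Fin n))) ≤ M) ↔ ∃ k : ℕ, 2 ≤ k ∧ n = 2 ^ k + 1)) := by
  haveI : Fact (Nat.Prime 2) := ⟨Nat.prime_two⟩
  let e : AltSelfNorm.Pts (Fin (n / 2)) (Fin (n % 2)) ≃ Fin n :=
    Fintype.equivOfCardEq ((AltSelfNorm.card_pts n).trans (Fintype.card_fin n).symm)
  obtain ⟨T, hT⟩ := AltSelfNorm.exists_sylow_le (ι := Fin (n / 2)) (ε := Fin (n % 2))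
  obtain ⟨S, hS⟩ := AltSelfNorm.exists_sylow_alt T
  by_cases hk : ∃ k : ℕ, 2 ≤ k ∧ n = 2 ^ k + 1
  · obtain ⟨k, hk2, rfl⟩ := hk
    obtain ⟨j, rfl⟩ : ∃ j, k = j + 1 := ⟨k - 1, by omega⟩
    have hcard : Fintype.card (Fin ((2 ^ (j + 1) + 1) / 2)) = 2 ^ j := by
      rw [Fintype.card_fin, pow_succ]; omega
    have h2 : 2 ≤ Fintype.card (Fin ((2 ^ (j + 1) + 1) / 2)) := by
      rw [hcard]; calc 2 = 2 ^ 1 := rfl
        _ ≤ 2 ^ j := Nat.pow_le_pow_right (by norm_num) (by omega)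
    let x : Fin ((2 ^ (j + 1) + 1) % 2) := ⟨0, by rw [pow_succ]; omega⟩
    refine ⟨fun R => iff_of_true ?_ ⟨j + 1, hk2, rfl⟩, fun R => iff_of_true ?_ ⟨j + 1, hk2, rfl⟩⟩
    · exact AltSelfNorm.uniq_transfer e.altCongrHom S R (AltSelfNorm.uniq_alt hT hcard h2 x S hS)
    · exact AltSelfNorm.uniq_transfer e.permCongrHom T R (AltSelfNorm.uniq_perm hT hcard h2 x)
  have hneg : (∀ S' : Sylow 2 (alternatingGroup (AltSelfNorm.Pts (Fin (n / 2)) (Fin (n % 2)))),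
      ¬ AltSelfNorm.Uniq (S' : Subgroup (alternatingGroup (AltSelfNorm.Pts (Fin (n / 2)) (Fin (n % 2)))))) ∧
      ∀ P : Sylow 2 (Equiv.Perm (AltSelfNorm.Pts (Fin (n / 2)) (Fin (n % 2)))),
        ¬ AltSelfNorm.Uniq (P : Subgroup (Equiv.Perm (AltSelfNorm.Pts (Fin (n / 2)) (Fin (n % 2))))) := by
    by_cases hodd : n % 2 = 1
    · refine AltSelfNorm.not_uniq_odd hT (fun j hj => hk ⟨j + 1, ?_, ?_⟩) (by rw [Fintype.card_fin]; omega)
        ⟨0, by omega⟩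
      · rw [Fintype.card_fin] at hj
        rcases j with _ | j
        · simp at hj; omega
        · omega
      · rw [Fintype.card_fin] at hj
        rw [pow_succ]; omega
    · haveI : IsEmpty (Fin (n % 2)) := ⟨fun i => by have := i.isLt; omega⟩
      exact AltSelfNorm.not_uniq_even hT (by rw [Fintype.card_fin]; omega)
  refine ⟨fun R => iff_of_false (fun h => ?_) hk, fun R => iff_of_false (fun h => ?_) hk⟩
  · exact hneg.1 S (AltSelfNorm.uniq_transfer e.altCongrHom.symm R S h)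
  · exact hneg.2 T (AltSelfNorm.uniq_transfer e.permCongrHom.symm R T h)

end Cfsg.Agent.S2245
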