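import Cfsg.Statements.S2249
import Cfsg.Agent.Lib.GLNormalTwoRank.Lower
import Cfsg.Agent.Lib.GLNormalTwoRank.Upper
-- import your own Cfsg.Agent.* helpers here

set_option autoImplicit false
open Cfsg

namespace Cfsg.Agent.S2249

/-- The normal 2-rank of the general linear group over a finite field of odd order q: for n ≥ 1 and S a Sylow 2-subgroup of GL_n(F), the largest rank of an elementary abelian subgroup of S that is normal in S equals n when q ≡ 1 (mod 4) and ⌊(n + 1)/2⌋ when q ≡ 3 (mod 4). -/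
theorem result {F : Type*} [Field F] [Fintype F] {q : ℕ} (hF : Fintype.card F = q) (hodd : Odd q) (n : ℕ) (hn : 1 ≤ n) (S : Sylow 2 (Matrix.GeneralLinearGroup (Fin n) F)) :
    (q % 4 = 1 → ((∃ E : Subgroup ↥(S : Subgroup (Matrix.GeneralLinearGroup (Fin n) F)), E.Normal ∧ Cfsg.IsElementaryAbelian 2 E ∧ 2 ^ (n) ≤ Nat.card ↥E) ∧
      ∀ E : Subgroup ↥(S : Subgroup (Matrix.GeneralLinearGroup (Fin n) F)), E.Normal → Cfsg.IsElementaryAbelian 2 E → Nat.card ↥E ≤ 2 ^ (n))) ∧
    (q % 4 = 3 → ((∃ E : Subgroup ↥(S : Subgroup (Matrix.GeneralLinearGroup (Fin n) F)), E.Normal ∧ Cfsg.IsElementaryAbelian 2 E ∧ 2 ^ ((n + 1) / 2) ≤ Nat.card ↥E) ∧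
      ∀ E : Subgroup ↥(S : Subgroup (Matrix.GeneralLinearGroup (Fin n) F)), E.Normal → Cfsg.IsElementaryAbelian 2 E → Nat.card ↥E ≤ 2 ^ ((n + 1) / 2))) := by
  classical
  haveI : Fact (Nat.Prime 2) := ⟨Nat.prime_two⟩
  have hcq : Nat.card F = q := by rw [Nat.card_eq_fintype_card, hF]
  have hFodd : Odd (Nat.card F) := hcq ▸ hodd
  have hq1 : 1 < q := hF ▸ Fintype.one_lt_card
  have h2 : (2 : F) ≠ 0 := Ring.two_ne_zero (fun h => by
    have := FiniteField.even_card_of_char_two h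
    rw [hF] at this
    exact (Nat.not_even_iff_odd.mpr hodd) (Nat.even_iff.mpr this))
  have hupper : ∀ E : Subgroup ↥(S : Subgroup (Matrix.GeneralLinearGroup (Fin n) F)), E.Normal →
      Cfsg.IsElementaryAbelian 2 E →
      Nat.card ↥E ≤ 2 ^ n ∧ (q % 4 = 3 → Nat.card ↥E ≤ 2 ^ ((n + 1) / 2)) := by
    intro E hEn hE
    haveI := hE.1
    let E₀ := E.map (S : Subgroup (Matrix.GeneralLinearGroup (Fin n) F)).subtype
    have hc : ∀ a ∈ E₀, ∀ b ∈ E₀, a * b = b * a := by
      rintro _ ⟨a, ha, rfl⟩ _ ⟨b, hb, rfl⟩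
      rw [← map_mul, ← map_mul]
      exact congrArg _ (congrArg Subtype.val (IsMulCommutative.is_comm.comm (⟨a, ha⟩ : E) ⟨b, hb⟩))
    have hi : ∀ a ∈ E₀, a ^ 2 = 1 := by
      rintro _ ⟨a, ha, rfl⟩
      rw [← map_pow, hE.2 a ha, map_one]
    obtain ⟨A, hA⟩ := GLNormalTwoRank.exists_conj_diag h2 E₀ hc hi
    let c := (MulAut.conj A⁻¹).toMonoidHom
    have hcinj : Function.Injective c := (MulAut.conj A⁻¹).injective
    have hb := GLNormalTwoRank.diag_bound hFodd
      ((S : Subgroup (Matrix.GeneralLinearGroup (Fin n) F)).map c) (E₀.map c)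
      (by rw [Subgroup.card_map_of_injective hcinj, Sylow.card_eq_multiplicity,
        GLNormalTwoRank.val_card_GL hFodd])
      (by
        rintro _ ⟨e, he, rfl⟩
        simpa [c, MulAut.conj_apply] using hA e he)
      (by
        rintro _ ⟨g, hg, rfl⟩ _ ⟨e, ⟨a, ha, rfl⟩, rfl⟩
        refine ⟨_, ⟨⟨g, hg⟩ * a * ⟨g, hg⟩⁻¹, hEn.conj_mem a ha ⟨g, hg⟩, rfl⟩, ?_⟩
        simp [map_mul, map_inv])
    rw [Subgroup.card_map_of_injective hcinj,
      Subgroup.card_map_of_injective (Subgroup.subtype_injective _), hcq] at hb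
    exact hb
  refine ⟨fun h1 => ⟨?_, fun E a b => (hupper E a b).1⟩,
    fun h3 => ⟨?_, fun E a b => (hupper E a b).2 h3⟩⟩
  · obtain ⟨E, a, b, c⟩ := GLNormalTwoRank.exists_normal_sign (F := F) (b := 1) (m := n) (δ := 0)
      hFodd h2 le_rfl (by omega) (by omega)
      (by
        have h := GLNormalTwoRank.one_mod_four hodd hq1 h1 n
        rw [hcq]
        simpa using h) S
    exact ⟨E, a, b, by rw [c]; simp⟩
  · obtain ⟨E, a, b, c⟩ := GLNormalTwoRank.exists_normal_sign (F := F) (b := 2) (m := n / 2)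
      (δ := n % 2) hFodd h2 (by omega) (by omega) (by omega)
      (by
        have h := GLNormalTwoRank.pairs hodd hq1 (n / 2) (n % 2) (by omega)
        rw [hcq]
        rwa [show 2 * (n / 2) + n % 2 = n by omega] at h) S
    exact ⟨E, a, b, by rw [c, show n / 2 + n % 2 = (n + 1) / 2 by omega]⟩

end Cfsg.Agent.S2249
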