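import Cfsg.Statements.S2250
import Cfsg.Agent.EqLemmas
import Cfsg.Agent.S2234
import Cfsg.Agent.Lib.SympSylowTwo.Monomial

set_option autoImplicit false
open Cfsg

namespace Cfsg.Agent.S2250

open Cfsg.Agent.SympSylowTwo
open scoped MatrixGroups

variable {K : Type*} [Field K] {m : ℕ}

/-- The tuples of signs. -/
def signs (m : ℕ) (K : Type*) [Field K] : Subgroup (Mono m K) where
  carrier := {g | g.right = 1 ∧ ∀ i, g.left i = 1 ∨ g.left i = -1}
  one_mem' := ⟨rfl, fun i => Or.inl rfl⟩
  mul_mem' {g h} hg hh := by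
    refine ⟨by rw [SemidirectProduct.mul_right, hg.1, hh.1, one_mul], fun i => ?_⟩
    rw [SemidirectProduct.mul_left, hg.1, map_one, Pi.mul_apply]
    show g.left i * h.left i = 1 ∨ g.left i * h.left i = -1
    rcases hg.2 i with e | e <;> rcases hh.2 i with e' | e' <;> simp [e, e']
  inv_mem' {g} hg := by
    refine ⟨by rw [SemidirectProduct.inv_right, hg.1, inv_one], fun i => ?_⟩
    rw [SemidirectProduct.inv_left, hg.1, inv_one, map_one]
    show (g.left i)⁻¹ = 1 ∨ (g.left i)⁻¹ = -1
    rcases hg.2 i with e | e <;> simp [e]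

theorem signs_sq {g : Mono m K} (hg : g ∈ signs m K) : g ^ 2 = 1 := by
  rw [sq]
  refine SemidirectProduct.ext (funext fun i => ?_) (by rw [SemidirectProduct.mul_right, hg.1, one_mul]; rfl)
  rw [SemidirectProduct.mul_left, hg.1, map_one]
  show g.left i * g.left i = 1
  rcases hg.2 i with e | e <;> simp [e]

instance signs_normal : (signs m K).Normal where
  conj_mem g hg h := by
    refine ⟨by simp [hg.1], fun i => ?_⟩
    rw [SemidirectProduct.mul_left, SemidirectProduct.mul_left, SemidirectProduct.inv_left,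
      SemidirectProduct.mul_right, hg.1, mul_one, ← MulAut.mul_apply, ← map_mul, mul_inv_cancel, map_one]
    show h.left i * g.left (h.right⁻¹ i) * (h.left i)⁻¹ = 1 ∨ h.left i * g.left (h.right⁻¹ i) * (h.left i)⁻¹ = -1
    rcases hg.2 (h.right⁻¹ i) with e | e <;> rw [e] <;> simp

instance mono_finite [Finite K] : Finite (Mono m K) := Finite.of_equiv _ SemidirectProduct.equivProd.symm

theorem card_signs [Finite K] (h2 : (2 : K) ≠ 0) : 2 ^ m ≤ Nat.card (signs m K) := by
  let f : (Fin m → Bool) → signs m K := fun s =>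
    ⟨SemidirectProduct.inl fun i => if s i then -1 else 1, rfl, fun i => by
      simp only [SemidirectProduct.left_inl]
      cases s i <;> simp⟩
  have hne : (-1 : SL(2, K)) ≠ 1 := fun e => h2 (by
    have := congrArg (fun M : SL(2, K) => M 0 0) e
    simp at this
    linear_combination -this)
  have hf : Function.Injective f := fun s t h => funext fun i => by
    have := congrFun (congrArg (fun g : signs m K => g.1.left) h) i
    simp only [f, SemidirectProduct.left_inl] at this
    cases hs : s i <;> cases ht : t i <;> simp [hs, ht] at this ⊢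
    · exact hne this.symm
    · exact hne this
  simpa using Nat.card_le_card_of_injective f hf

/-- The normal 2-rank of the symplectic group over a finite field of odd order: for n ≥ 1 and S a Sylow 2-subgroup of Sp_{2n}(F), the largest rank of an elementary abelian subgroup of S that is normal in S equals n. -/
theorem result {F : Type*} [Field F] [Fintype F] (hF : Odd (Fintype.card F)) (n : ℕ) (hn : 1 ≤ n) (S : Sylow 2 ↥(Matrix.symplecticGroup (Fin n) F)) :
    ((∃ E : Subgroup ↥(S : Subgroup ↥(Matrix.symplecticGroup (Fin n) F)), E.Normal ∧ Cfsg.IsElementaryAbelian 2 E ∧ 2 ^ (n) ≤ Nat.card ↥E) ∧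
      ∀ E : Subgroup ↥(S : Subgroup ↥(Matrix.symplecticGroup (Fin n) F)), E.Normal → Cfsg.IsElementaryAbelian 2 E → Nat.card ↥E ≤ 2 ^ (n)) := by
  haveI : Fact (Nat.Prime 2) := ⟨Nat.prime_two⟩
  have h2 : (2 : F) ≠ 0 := Ring.two_ne_zero (fun h => by
    have := FiniteField.even_card_of_char_two h
    exact (Nat.not_even_iff_odd.mpr hF) (Nat.even_iff.mpr this))
  have hodd : Odd (Nat.card F) := by rwa [Nat.card_eq_fintype_card]
  constructor
  · obtain ⟨T⟩ := (inferInstance : Nonempty (Sylow 2 (Mono n F)))
    have hsT : signs n F ≤ T := by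
      have hp : IsPGroup 2 (signs n F) := fun g => ⟨1, Subtype.ext (signs_sq g.2)⟩
      exact le_sup_left.trans (T.is_maximal' (hp.to_sup_of_normal_left T.isPGroup') le_sup_right).le
    set φ := monoHom n F
    have hT' : Nat.card ((T : Subgroup (Mono n F)).map φ) =
        2 ^ (Nat.card ↥(Matrix.symplecticGroup (Fin n) F)).factorization 2 := by
      rw [Subgroup.card_map_of_injective monoHom_injective, T.card_eq_multiplicity,
        Nat.factorization_def _ Nat.prime_two, Nat.factorization_def _ Nat.prime_two, padic_card_eq hodd]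
    obtain ⟨g, hg⟩ := MulAction.exists_smul_eq ↥(Matrix.symplecticGroup (Fin n) F) (Sylow.ofCard _ hT') S
    let ψ : Mono n F →* ↥(Matrix.symplecticGroup (Fin n) F) := (MulAut.conj g).toMonoidHom.comp φ
    have hψ : Function.Injective ψ := (MulAut.conj g).injective.comp monoHom_injective
    have hSmap : (T : Subgroup (Mono n F)).map ψ = (S : Subgroup ↥(Matrix.symplecticGroup (Fin n) F)) := by
      rw [← hg, Sylow.coe_subgroup_smul, Subgroup.pointwise_smul_def, Sylow.coe_ofCard, ← Subgroup.map_map]
      rfl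
    have hle : (signs n F).map ψ ≤ (S : Subgroup ↥(Matrix.symplecticGroup (Fin n) F)) :=
      hSmap ▸ Subgroup.map_mono hsT
    refine ⟨((signs n F).map ψ).subgroupOf S, ?_, ⟨⟨⟨fun a b => ?_⟩⟩, fun a ha => ?_⟩, ?_⟩
    · refine ⟨fun a ha b => ?_⟩
      rw [Subgroup.mem_subgroupOf] at ha ⊢
      obtain ⟨z, hz, hza⟩ := ha
      obtain ⟨t, ht, htb⟩ : (b : ↥(Matrix.symplecticGroup (Fin n) F)) ∈ (T : Subgroup (Mono n F)).map ψ :=
        hSmap.symm ▸ b.2
      refine ⟨t * z * t⁻¹, Subgroup.Normal.conj_mem inferInstance z hz t, ?_⟩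
      rw [map_mul, map_mul, map_inv, htb, hza]
      rfl
    · obtain ⟨⟨a, ha'⟩, ha⟩ := a
      obtain ⟨⟨b, hb'⟩, hb⟩ := b
      rw [Subgroup.mem_subgroupOf] at ha hb
      obtain ⟨x, hx, rfl⟩ := ha
      obtain ⟨y, hy, rfl⟩ := hb
      refine Subtype.ext (Subtype.ext ?_)
      show ψ x * ψ y = ψ y * ψ x
      rw [← map_mul, ← map_mul]
      congr 1
      have e1 := signs_sq hx
      have e2 := signs_sq hy
      have e3 := signs_sq (mul_mem hx hy)
      rw [sq] at e1 e2 e3
      calc x * y = x * (x * y * (x * y)) * y := by rw [e3, mul_one]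
        _ = (x * x) * y * x * (y * y) := by group
        _ = y * x := by rw [e1, e2, one_mul, mul_one]
    · rw [Subgroup.mem_subgroupOf] at ha
      obtain ⟨x, hx, hxa⟩ := ha
      refine Subtype.ext ?_
      rw [SubmonoidClass.coe_pow, ← hxa, ← map_pow, signs_sq hx, map_one]
      rfl
    · rw [Nat.card_congr (Subgroup.subgroupOfEquivOfLe hle).toEquiv, Subgroup.card_map_of_injective hψ]
      exact card_signs h2
  · intro E _ hE
    have hinj := Subgroup.subtype_injective (S : Subgroup ↥(Matrix.symplecticGroup (Fin n) F))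
    have := (Cfsg.Agent.S2234.result hF n hn).2 (E.map (S : Subgroup ↥(Matrix.symplecticGroup (Fin n) F)).subtype)
      ?_ ?_
    · rwa [Subgroup.card_map_of_injective hinj] at this
    · haveI := hE.1
      infer_instance
    · rintro _ ⟨a, ha, rfl⟩
      rw [← map_pow, hE.2 a ha, map_one]

end Cfsg.Agent.S2250
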