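import Cfsg.Statements.S2254
import Cfsg.Agent.EqLemmas
import Cfsg.Agent.Lib.NilPerm.Sym

set_option autoImplicit false
open Cfsg

namespace Cfsg.Agent.S2254

/-- Let n ≡ 3 (mod 4). Then every nilpotent subgroup of the symmetric group on n letters has order at most 3 times the order of a Sylow 2-subgroup of the symmetric group on n − 3 letters; the bound is attained by a nilpotent subgroup isomorphic to the direct product of such a Sylow 2-subgroup with a cyclic group of order 3; and any two nilpotent subgroups attaining the bound are conjugate. -/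
theorem result  (n : ℕ) (hn : n % 4 = 3)
    (P : Sylow 2 (Equiv.Perm (Fin (n - 3)))) :
    (∀ N : Subgroup (Equiv.Perm (Fin n)), Group.IsNilpotent N → Nat.card N ≤ 3 * Nat.card P) ∧
    (∃ M : Subgroup (Equiv.Perm (Fin n)), Group.IsNilpotent M ∧ Nat.card M = 3 * Nat.card P ∧
      Nonempty (M ≃* (↥(P : Subgroup (Equiv.Perm (Fin (n - 3)))) × Multiplicative (ZMod 3)))) ∧
    (∀ N₁ N₂ : Subgroup (Equiv.Perm (Fin n)), Group.IsNilpotent N₁ → Group.IsNilpotent N₂ →
      Nat.card N₁ = 3 * Nat.card P → Nat.card N₂ = 3 * Nat.card P →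
      ∃ g : Equiv.Perm (Fin n), N₂ = N₁.map (MulAut.conj g).toMonoidHom) := by
  have hP : Nat.card P = 2 ^ Cfsg.Agent.NilPerm.ee (n - 3) := by
    rw [P.card_eq_multiplicity, Cfsg.Agent.NilPerm.ee_eq]
  have hg : Cfsg.Agent.NilPerm.gg n = 3 * Nat.card P := by rw [Cfsg.Agent.NilPerm.gg, if_pos hn, hP]
  obtain ⟨eqv⟩ := Cfsg.Agent.NilPerm.alt_three_equiv
  let e0 : Fin 3 ⊕ Fin (n - 3) ≃ Fin n := finSumFinEquiv.trans (finCongr (by omega))
  let X := ((alternatingGroup (Fin 3)).prod (P : Subgroup (Equiv.Perm (Fin (n - 3)))))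
  let M := X.map (Cfsg.Agent.NilPerm.emb e0)
  let i1 : X ≃* M := X.equivMapOfInjective _ (Cfsg.Agent.NilPerm.emb_injective e0)
  let i2 : X ≃* (↥(P : Subgroup (Equiv.Perm (Fin (n - 3)))) × Multiplicative (ZMod 3)) :=
    (Subgroup.prodEquiv _ _).trans ((MulEquiv.prodCongr eqv (MulEquiv.refl _)).trans MulEquiv.prodComm)
  refine ⟨fun N hN => hg ▸ (Cfsg.Agent.NilPerm.card_le_gg n N hN).1, ⟨M, ?_, ?_, ⟨i1.symm.trans i2⟩⟩, ?_⟩
  · haveI : Group.IsNilpotent (P : Subgroup (Equiv.Perm (Fin (n - 3)))) := P.isPGroup'.isNilpotent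
    haveI : Group.IsNilpotent (↥(P : Subgroup (Equiv.Perm (Fin (n - 3)))) × Multiplicative (ZMod 3)) := inferInstance
    exact Group.nilpotent_of_mulEquiv (i2.symm.trans i1)
  · rw [← Nat.card_congr (i2.symm.trans i1).toEquiv, Nat.card_prod, Nat.card_congr Multiplicative.toAdd,
      Nat.card_zmod, mul_comm]
  · intro N₁ N₂ h1 h2 c1 c2
    have key : ∀ N : Subgroup (Equiv.Perm (Fin n)), Group.IsNilpotent N → Nat.card N = 3 * Nat.card P →
        ∃ h : Equiv.Perm (Fin n), N = M.map (MulAut.conj h).toMonoidHom := by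
      intro N hN hc
      obtain ⟨e, Q, rfl⟩ := Cfsg.Agent.NilPerm.extremal_sym hn N hN (hc.trans hg.symm)
      obtain ⟨σ, hσ⟩ := MulAction.exists_smul_eq (Equiv.Perm (Fin (n - 3))) P Q
      refine ⟨_, Cfsg.Agent.NilPerm.map_conj e e0 _ _ _ 1 σ (Cfsg.Agent.NilPerm.map_conj_self _ _) ?_⟩
      rw [← hσ]
      rfl
    obtain ⟨g1, e1⟩ := key N₁ h1 c1
    obtain ⟨g2, e2⟩ := key N₂ h2 c2
    refine ⟨g2 * g1⁻¹, ?_⟩
    rw [e1, e2]
    simp only [M, Subgroup.map_map]
    refine congrArg (fun f => X.map f) (MonoidHom.ext fun p => ?_)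
    simp [mul_assoc]

end Cfsg.Agent.S2254
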