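import Cfsg.Statements.S2255
import Cfsg.Agent.EqLemmas
import Cfsg.Agent.Lib.NilPerm.Alt

set_option autoImplicit false
open Cfsg

namespace Cfsg.Agent.S2255

/-- Let n be a natural number not congruent to 3 modulo 4, with n ∉ {5, 6, 9}. Then every nilpotent subgroup of the alternating group on n letters has order at most the order of a Sylow 2-subgroup of the alternating group (so the nilpotent subgroups of largest order are exactly the Sylow 2-subgroups). -/
theorem result  (n : ℕ) (hn : n % 4 ≠ 3)
    (h5 : n ≠ 5) (h6 : n ≠ 6) (h9 : n ≠ 9)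
    (N : Subgroup (alternatingGroup (Fin n))) (hN : Group.IsNilpotent N)
    (P : Sylow 2 (alternatingGroup (Fin n))) :
    Nat.card N ≤ Nat.card P := by
  by_cases h2 : n < 2
  · haveI : Subsingleton (Fin n) := Fin.subsingleton_iff_le_one.2 (by omega)
    have : Nat.card N ≤ 1 := Finite.card_le_one_iff_subsingleton.2 inferInstance
    exact this.trans Nat.card_pos
  have hcard : Nat.card (N.map (alternatingGroup (Fin n)).subtype) = Nat.card N :=
    Subgroup.card_map_of_injective (Subgroup.subtype_injective _)
  haveI := hN
  have hN' : Group.IsNilpotent (N.map (alternatingGroup (Fin n)).subtype) :=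
    Group.nilpotent_of_mulEquiv (N.equivMapOfInjective _ (Subgroup.subtype_injective _))
  have h := (Cfsg.Agent.NilPerm.card_le_gA n _ hN' (Subgroup.map_subtype_le N)).1
  rw [hcard, Cfsg.Agent.NilPerm.gA_of_not_exc (by omega), Cfsg.Agent.NilPerm.gg, if_neg hn,
    ← Cfsg.Agent.NilPerm.two_mul_card_sylow_alt (by omega) P] at h
  omega

end Cfsg.Agent.S2255
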