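import Cfsg.Statements.S2256
import Cfsg.Agent.EqLemmas
import Cfsg.Agent.Lib.NilPerm.Alt

set_option autoImplicit false
open Cfsg

namespace Cfsg.Agent.S2256

/-- Let n ≡ 3 (mod 4) with n ≥ 7. Then every nilpotent subgroup of the alternating group on n letters has order at most 3 times the order of a Sylow 2-subgroup of the alternating group on n − 3 letters; the bound is attained by a nilpotent subgroup isomorphic to the direct product of such a Sylow 2-subgroup with a cyclic group of order 3; and any two nilpotent subgroups of the alternating group attaining the bound are conjugate in it. -/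
theorem result  (n : ℕ) (hn : n % 4 = 3) (h7 : 7 ≤ n)
    (P : Sylow 2 (alternatingGroup (Fin (n - 3)))) :
    (∀ N : Subgroup (alternatingGroup (Fin n)), Group.IsNilpotent N → Nat.card N ≤ 3 * Nat.card P) ∧
    (∃ M : Subgroup (alternatingGroup (Fin n)), Group.IsNilpotent M ∧ Nat.card M = 3 * Nat.card P ∧
      Nonempty (M ≃* (↥(P : Subgroup (alternatingGroup (Fin (n - 3)))) × Multiplicative (ZMod 3)))) ∧
    (∀ N₁ N₂ : Subgroup (alternatingGroup (Fin n)), Group.IsNilpotent N₁ → Group.IsNilpotent N₂ →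
      Nat.card N₁ = 3 * Nat.card P → Nat.card N₂ = 3 * Nat.card P →
      ∃ g : alternatingGroup (Fin n), N₂ = N₁.map (MulAut.conj g).toMonoidHom) := by
  have hgg : Cfsg.Agent.NilPerm.gg n = 2 * (3 * Nat.card P) := by
    rw [Cfsg.Agent.NilPerm.gg, if_pos hn, ← Cfsg.Agent.NilPerm.two_mul_card_sylow_alt (by omega) P]
    ring
  have lift : ∀ N : Subgroup (alternatingGroup (Fin n)), Group.IsNilpotent N →
      Group.IsNilpotent (N.map (alternatingGroup (Fin n)).subtype) ∧
      Nat.card (N.map (alternatingGroup (Fin n)).subtype) = Nat.card N := fun N hN =>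
    ⟨(haveI := hN; Group.nilpotent_of_mulEquiv (N.equivMapOfInjective _ (Subgroup.subtype_injective _))),
      Subgroup.card_map_of_injective (Subgroup.subtype_injective _)⟩
  obtain ⟨eqv⟩ := Cfsg.Agent.NilPerm.alt_three_equiv
  let e0 : Fin 3 ⊕ Fin (n - 3) ≃ Fin n := finSumFinEquiv.trans (finCongr (by omega))
  let P' := (P : Subgroup (alternatingGroup (Fin (n - 3)))).map (alternatingGroup (Fin (n - 3))).subtype
  let X := (alternatingGroup (Fin 3)).prod P'
  let M' := X.map (Cfsg.Agent.NilPerm.emb e0)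
  have hM' : M' ≤ alternatingGroup (Fin n) := by
    rintro _ ⟨⟨u, v⟩, ⟨hu, ⟨v', hv', rfl⟩⟩, rfl⟩
    rw [Equiv.Perm.mem_alternatingGroup, Cfsg.Agent.NilPerm.sign_emb, Equiv.Perm.mem_alternatingGroup.1 hu,
      one_mul]
    exact Equiv.Perm.mem_alternatingGroup.1 v'.2
  let M := M'.comap (alternatingGroup (Fin n)).subtype
  have hMmap : M.map (alternatingGroup (Fin n)).subtype = M' :=
    Subgroup.map_comap_eq_self (by rwa [Subgroup.range_subtype])
  let i0 : M ≃* M' := (M.equivMapOfInjective _ (Subgroup.subtype_injective _)).trans (MulEquiv.subgroupCongr hMmap)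
  let i1 : X ≃* M := (X.equivMapOfInjective _ (Cfsg.Agent.NilPerm.emb_injective e0)).trans i0.symm
  let i2 : X ≃* (↥(P : Subgroup (alternatingGroup (Fin (n - 3)))) × Multiplicative (ZMod 3)) :=
    (Subgroup.prodEquiv _ _).trans ((MulEquiv.prodCongr eqv
      ((P : Subgroup (alternatingGroup (Fin (n - 3)))).equivMapOfInjective _ (Subgroup.subtype_injective _)).symm).trans
        MulEquiv.prodComm)
  refine ⟨fun N hN => ?_, ⟨M, ?_, ?_, ⟨i1.symm.trans i2⟩⟩, ?_⟩
  · obtain ⟨h1, h2⟩ := lift N hN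
    have h := (Cfsg.Agent.NilPerm.card_le_gA n _ h1 (Subgroup.map_subtype_le N)).1
    rw [h2, Cfsg.Agent.NilPerm.gA_of_not_exc (by omega), hgg] at h
    omega
  · haveI : Group.IsNilpotent (P : Subgroup (alternatingGroup (Fin (n - 3)))) := P.isPGroup'.isNilpotent
    haveI : Group.IsNilpotent (↥(P : Subgroup (alternatingGroup (Fin (n - 3)))) × Multiplicative (ZMod 3)) :=
      inferInstance
    exact Group.nilpotent_of_mulEquiv (i2.symm.trans i1)
  · rw [← Nat.card_congr (i2.symm.trans i1).toEquiv, Nat.card_prod, Nat.card_congr Multiplicative.toAdd,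
      Nat.card_zmod, mul_comm]
  · intro N₁ N₂ h1 h2 c1 c2
    have key : ∀ N : Subgroup (alternatingGroup (Fin n)), Group.IsNilpotent N → Nat.card N = 3 * Nat.card P →
        ∃ h : alternatingGroup (Fin n), N = M.map (MulAut.conj h).toMonoidHom := by
      intro N hN hc
      obtain ⟨hN', hc'⟩ := lift N hN
      obtain ⟨e, Q, hQ⟩ := Cfsg.Agent.NilPerm.extremal_alt hn h7 _ hN' (Subgroup.map_subtype_le N)
        (by rw [hc', hc, hgg])
      obtain ⟨σ, hσ⟩ := MulAction.exists_smul_eq (alternatingGroup (Fin (n - 3))) P Q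
      obtain ⟨τ, hτ⟩ := Equiv.Perm.sign_surjective (Fin 3) (Equiv.Perm.sign (e0.symm.trans e))
      have hQ' : P'.map (MulAut.conj (σ : Equiv.Perm (Fin (n - 3)))).toMonoidHom =
          (Q : Subgroup (alternatingGroup (Fin (n - 3)))).map (alternatingGroup (Fin (n - 3))).subtype := by
        rw [← hσ, Sylow.coe_subgroup_smul, Subgroup.pointwise_smul_def]
        ext x
        constructor
        · rintro ⟨_, ⟨v, hv, rfl⟩, rfl⟩
          exact ⟨σ * v * σ⁻¹, ⟨v, hv, rfl⟩, rfl⟩
        · rintro ⟨_, ⟨v, hv, rfl⟩, rfl⟩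
          exact ⟨v, ⟨v, hv, rfl⟩, rfl⟩
      rw [Cfsg.Agent.NilPerm.map_conj e e0 (alternatingGroup (Fin 3)) P' _ τ σ
        (Cfsg.Agent.NilPerm.map_conj_self _ _) hQ'] at hQ
      refine ⟨⟨e0.symm.trans e * Cfsg.Agent.NilPerm.emb e0 (τ, σ), ?_⟩, ?_⟩
      · rw [Equiv.Perm.mem_alternatingGroup, map_mul, Cfsg.Agent.NilPerm.sign_emb, hτ,
          Equiv.Perm.mem_alternatingGroup.1 σ.2, mul_one]
        exact Int.units_mul_self _
      · apply Subgroup.map_injective (Subgroup.subtype_injective _)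
        rw [hQ]
        show M'.map _ = _
        rw [← hMmap, Subgroup.map_map, Subgroup.map_map]
        rfl
    obtain ⟨g1, e1⟩ := key N₁ h1 c1
    obtain ⟨g2, e2⟩ := key N₂ h2 c2
    refine ⟨g2 * g1⁻¹, ?_⟩
    rw [e1, e2, Subgroup.map_map]
    refine congrArg (fun f => M.map f) (MonoidHom.ext fun p => ?_)
    simp [mul_assoc]

end Cfsg.Agent.S2256
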