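import Cfsg.Statements.S2257
import Cfsg.Agent.Lib.PSL2.SolEven

set_option autoImplicit false
open Cfsg

namespace Cfsg.Agent.S2257

/-- Let G = PSL_2(F) with F a field of order q = 2^p, p prime, and for x ∈ G call the solubilizer of x the set of y ∈ G such that x and y generate a solvable subgroup. Then the solubilizer of an involution has 3q(q − 1) elements; that of a non-identity element of order dividing q − 1 has 2q(q − 1) elements; and that of a non-identity element of order dividing q + 1 has 2(q + 1) elements. -/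
theorem result (p : ℕ) (hp : p.Prime) {F : Type*} [Field F] [Fintype F]
    (hF : Fintype.card F = 2 ^ p) (x : Matrix.ProjectiveSpecialLinearGroup (Fin 2) F) :
    (orderOf x = 2 → Nat.card {y : Matrix.ProjectiveSpecialLinearGroup (Fin 2) F // Group.IsSolvable ↥(Subgroup.closure ({x, y} : Set (Matrix.ProjectiveSpecialLinearGroup (Fin 2) F)))} = 3 * 2 ^ p * (2 ^ p - 1)) ∧
    (x ≠ 1 → orderOf x ∣ 2 ^ p - 1 → Nat.card {y : Matrix.ProjectiveSpecialLinearGroup (Fin 2) F // Group.IsSolvable ↥(Subgroup.closure ({x, y} : Set (Matrix.ProjectiveSpecialLinearGroup (Fin 2) F)))} = 2 * 2 ^ p * (2 ^ p - 1)) ∧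
    (x ≠ 1 → orderOf x ∣ 2 ^ p + 1 → Nat.card {y : Matrix.ProjectiveSpecialLinearGroup (Fin 2) F // Group.IsSolvable ↥(Subgroup.closure ({x, y} : Set (Matrix.ProjectiveSpecialLinearGroup (Fin 2) F)))} = 2 * (2 ^ p + 1)) := by
  have hp2 : Fact (Nat.Prime 2) := ⟨Nat.prime_two⟩
  have hchar : CharP F 2 := charP_of_card_eq_prime_pow hF
  have hq : Nat.card F = 2 ^ p := by rw [Nat.card_eq_fintype_card, hF]
  have hg := PSL2.gcd_two_of_char_two (F := F)
  have hodd : ∀ n, n ∣ 2 ^ p - 1 ∨ n ∣ 2 ^ p + 1 → ¬ 2 ∣ n := by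
    intro n hn h2
    have h : 2 ∣ 2 ^ p := dvd_pow_self 2 hp.ne_zero
    have := Nat.two_pow_pos p
    rcases hn with hn | hn <;> have := h2.trans hn <;> omega
  have hbig : ∀ m, (m = 2 ^ p - 1 ∨ m = 2 ^ p + 1) → x ≠ 1 → orderOf x ∣ m → 3 ≤ orderOf x := by
    intro m hm h1 hd
    have h0 := orderOf_pos x
    have hne1 : orderOf x ≠ 1 := fun e => h1 (orderOf_eq_one_iff.1 e)
    have hne2 : orderOf x ≠ 2 := fun e => hodd (orderOf x)
      (by rcases hm with rfl | rfl; exacts [Or.inl hd, Or.inr hd]) e.symm.dvd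
    omega
  refine ⟨fun hx => ?_, fun h1 hd => ?_, fun h1 hd => ?_⟩
  · have h := PSL2.card_solSet_involution_even hp hq hx
    rw [← Nat.card_coe_set_eq, hq, ← mul_assoc] at h
    exact h
  · have h3 := hbig _ (Or.inl rfl) h1 hd
    have h := PSL2.card_solSet_split 2 hp hq (Or.inl rfl) h3 (by rw [hg, Nat.div_one, hq]; exact hd)
    rw [← Nat.card_coe_set_eq, hg, Nat.div_one, hq, ← mul_assoc] at h
    exact h
  · have h3 := hbig _ (Or.inr rfl) h1 hd
    have h := PSL2.card_solSet_nonsplit 2 hp hq (Or.inl rfl) h3 (by rw [hg, Nat.div_one, hq]; exact hd)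
    rw [← Nat.card_coe_set_eq, hg, Nat.div_one, hq] at h
    exact h

end Cfsg.Agent.S2257
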