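import Cfsg.Statements.S2258
import Cfsg.Agent.Lib.PSL2.SolThree

set_option autoImplicit false
open Cfsg

namespace Cfsg.Agent.S2258

/-- Let G = PSL_2(F) with F a field of order q = 3^p, p an odd prime, and for x ∈ G call the solubilizer of x the set of y ∈ G such that x and y generate a solvable subgroup. Then the solubilizer of an involution has q(q + 1) elements; that of an element of order 3 has q(q + 5)/2 elements; that of an element of order neither 1 nor 2 dividing q − 1 has q(q − 1) elements; and that of an element of order neither 1 nor 2 dividing q + 1 has q + 1 elements. -/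
theorem result (p : ℕ) (hp : p.Prime) (hodd : Odd p) {F : Type*} [Field F] [Fintype F]
    (hF : Fintype.card F = 3 ^ p) (x : Matrix.ProjectiveSpecialLinearGroup (Fin 2) F) :
    (orderOf x = 2 → Nat.card {y : Matrix.ProjectiveSpecialLinearGroup (Fin 2) F // Group.IsSolvable ↥(Subgroup.closure ({x, y} : Set (Matrix.ProjectiveSpecialLinearGroup (Fin 2) F)))} = 3 ^ p * (3 ^ p + 1)) ∧
    (orderOf x = 3 → 2 * Nat.card {y : Matrix.ProjectiveSpecialLinearGroup (Fin 2) F // Group.IsSolvable ↥(Subgroup.closure ({x, y} : Set (Matrix.ProjectiveSpecialLinearGroup (Fin 2) F)))} = 3 ^ p * (3 ^ p + 5)) ∧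
    (x ≠ 1 → orderOf x ≠ 2 → orderOf x ∣ 3 ^ p - 1 → Nat.card {y : Matrix.ProjectiveSpecialLinearGroup (Fin 2) F // Group.IsSolvable ↥(Subgroup.closure ({x, y} : Set (Matrix.ProjectiveSpecialLinearGroup (Fin 2) F)))} = 3 ^ p * (3 ^ p - 1)) ∧
    (x ≠ 1 → orderOf x ≠ 2 → orderOf x ∣ 3 ^ p + 1 → Nat.card {y : Matrix.ProjectiveSpecialLinearGroup (Fin 2) F // Group.IsSolvable ↥(Subgroup.closure ({x, y} : Set (Matrix.ProjectiveSpecialLinearGroup (Fin 2) F)))} = 3 ^ p + 1) := by
  have hp3 : Fact (Nat.Prime 3) := ⟨Nat.prime_three⟩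
  have hchar : CharP F 3 := charP_of_card_eq_prime_pow hF
  have hq : Nat.card F = 3 ^ p := by rw [Nat.card_eq_fintype_card, hF]
  have hg := PSL2.gcd_two_char_three (F := F)
  have h4 := PSL2.card_mod_four hodd hq
  rw [hq] at h4
  have hn3 : ∀ n, n ∣ 3 ^ p - 1 ∨ n ∣ 3 ^ p + 1 → ¬ 3 ∣ n := by
    intro n hn h3
    have h : 3 ∣ 3 ^ p := dvd_pow_self 3 hp.ne_zero
    rcases hn with hn | hn <;> have := h3.trans hn <;> omega
  have hside : ∀ (_ : orderOf x ∣ 3 ^ p - 1 ∨ orderOf x ∣ 3 ^ p + 1),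
      orderOf x ∣ (3 ^ p - 1) / 2 ∨ orderOf x ∣ (3 ^ p + 1) / 2 := by
    intro hd
    rcases PSL2.psl_orderOf_cases (p := 3) x with h | h | h
    · left; rwa [hg, hq] at h
    · right; rwa [hg, hq] at h
    · rcases (Nat.dvd_prime Nat.prime_three).1 h with e | e
      · left; rw [e]; exact one_dvd _
      · exact absurd e.symm.dvd (hn3 _ hd)
  have hhalf : (2 : ℕ) * ((3 ^ p - 1) / 2) = 3 ^ p - 1 ∧ (2 : ℕ) * ((3 ^ p + 1) / 2) = 3 ^ p + 1 := by
    omega
  have hsep : ∀ n, n ∣ 3 ^ p - 1 → n ∣ 3 ^ p + 1 → n ≤ 2 := by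
    intro n h h'
    have := Nat.dvd_sub h' h
    rw [show 3 ^ p + 1 - (3 ^ p - 1) = 2 by omega] at this
    exact Nat.le_of_dvd two_pos this
  refine ⟨fun hx => ?_, fun hx => ?_, fun h1 h2 hd => ?_, fun h1 h2 hd => ?_⟩
  · have h := PSL2.card_solSet_involution_three hp hodd hq hx
    rw [← Nat.card_coe_set_eq, hq] at h
    exact h
  · have h := PSL2.card_solSet_order_three hp hodd hq hx
    rw [← Nat.card_coe_set_eq, hq] at h
    exact h
  · have h0 := orderOf_pos x
    have hne1 : orderOf x ≠ 1 := fun e => h1 (orderOf_eq_one_iff.1 e)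
    rcases hside (Or.inl hd) with hm | hm
    · have h := PSL2.card_solSet_split 3 hp hq (Or.inr ⟨rfl, hodd⟩) (x := x) (by omega)
        (by rw [hg, hq]; exact hm)
      rw [← Nat.card_coe_set_eq, hg, hq, mul_left_comm, hhalf.1] at h
      exact h
    · have := hsep _ hd (hm.trans (Dvd.intro_left 2 hhalf.2))
      omega
  · have h0 := orderOf_pos x
    have hne1 : orderOf x ≠ 1 := fun e => h1 (orderOf_eq_one_iff.1 e)
    rcases hside (Or.inr hd) with hm | hm
    · have := hsep _ (hm.trans (Dvd.intro_left 2 hhalf.1)) hd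
      omega
    · have h := PSL2.card_solSet_nonsplit 3 hp hq (Or.inr ⟨rfl, hodd⟩) (x := x) (by omega)
        (by rw [hg, hq]; exact hm)
      rw [← Nat.card_coe_set_eq, hg, hq, hhalf.2] at h
      exact h

end Cfsg.Agent.S2258
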