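import Cfsg.Statements.S2259
import Cfsg.Agent.Lib.Suzuki.SolubilizerCard

set_option autoImplicit false
open Cfsg

namespace Cfsg.Agent.S2259

/-- Let G be the Suzuki group Sz(q), q = 2^(2m+1) with 2m + 1 prime and m ≥ 1, realised inside Sp_4(F) for F the field of order q, write r = 2^(m+1) (so r² = 2q), and for x ∈ G call the solubilizer of x the set of y ∈ G such that x and y generate a solvable subgroup. Then the solubilizer of an involution has q²(4q − 3) elements; that of an element of order 4 has q²(q + 3) elements; that of a non-identity element of order dividing q − 1 has 2q²(q − 1) elements; that of a non-identity element of order dividing q + r + 1 has 4(q + r + 1) elements; and that of a non-identity element of order dividing q − r + 1 has 4(q − r + 1) elements. -/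
theorem result {F : Type*} [Field F] [Fintype F] {m : ℕ} (hm : 1 ≤ m)
    (hp : (2 * m + 1).Prime) (hF : Fintype.card F = 2 ^ (2 * m + 1)) (x : ↥(Cfsg.Lie.Sz F (2 ^ (m + 1)))) :
    (orderOf x = 2 → Nat.card {y : ↥(Cfsg.Lie.Sz F (2 ^ (m + 1))) // Group.IsSolvable ↥(Subgroup.closure ({x, y} : Set (↥(Cfsg.Lie.Sz F (2 ^ (m + 1))))))} = (2 ^ (2 * m + 1)) ^ 2 * (4 * 2 ^ (2 * m + 1) - 3)) ∧
    (orderOf x = 4 → Nat.card {y : ↥(Cfsg.Lie.Sz F (2 ^ (m + 1))) // Group.IsSolvable ↥(Subgroup.closure ({x, y} : Set (↥(Cfsg.Lie.Sz F (2 ^ (m + 1))))))} = (2 ^ (2 * m + 1)) ^ 2 * (2 ^ (2 * m + 1) + 3)) ∧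
    (x ≠ 1 → orderOf x ∣ 2 ^ (2 * m + 1) - 1 →
      Nat.card {y : ↥(Cfsg.Lie.Sz F (2 ^ (m + 1))) // Group.IsSolvable ↥(Subgroup.closure ({x, y} : Set (↥(Cfsg.Lie.Sz F (2 ^ (m + 1))))))} = 2 * (2 ^ (2 * m + 1)) ^ 2 * (2 ^ (2 * m + 1) - 1)) ∧
    (x ≠ 1 → orderOf x ∣ 2 ^ (2 * m + 1) + 2 ^ (m + 1) + 1 → Nat.card {y : ↥(Cfsg.Lie.Sz F (2 ^ (m + 1))) // Group.IsSolvable ↥(Subgroup.closure ({x, y} : Set (↥(Cfsg.Lie.Sz F (2 ^ (m + 1))))))} = 4 * (2 ^ (2 * m + 1) + 2 ^ (m + 1) + 1)) ∧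
    (x ≠ 1 → orderOf x ∣ 2 ^ (2 * m + 1) - 2 ^ (m + 1) + 1 → Nat.card {y : ↥(Cfsg.Lie.Sz F (2 ^ (m + 1))) // Group.IsSolvable ↥(Subgroup.closure ({x, y} : Set (↥(Cfsg.Lie.Sz F (2 ^ (m + 1))))))} = 4 * (2 ^ (2 * m + 1) - 2 ^ (m + 1) + 1)) := by
  set e := Suzuki.lieEquiv (F := F) (m := m) hm hF with he
  obtain ⟨x, rfl⟩ := e.surjective x
  have key : Nat.card {y // Group.IsSolvable ↥(Subgroup.closure ({e x, y} : Set (↥(Cfsg.Lie.Sz F (2 ^ (m + 1))))))} =
      (Suzuki.solSet x).ncard := by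
    rw [← Nat.card_coe_set_eq]
    refine (Nat.card_congr (Equiv.subtypeEquiv e.toEquiv fun y => ?_)).symm
    have hmap : (Subgroup.closure ({x, y} : Set _)).map e.toMonoidHom =
        Subgroup.closure ({e x, e y} : Set _) := by
      rw [MonoidHom.map_closure]
      congr 1
      simp [Set.image_pair]
    show Group.IsSolvable _ ↔ Group.IsSolvable _
    show Group.IsSolvable ↥(Subgroup.closure ({x, y} : Set _)) ↔
      Group.IsSolvable ↥(Subgroup.closure ({e x, e y} : Set _))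
    rw [← hmap]
    exact ⟨fun h => Group.isSolvable_of_surjective
        (f := ((Subgroup.closure ({x, y} : Set _)).equivMapOfInjective e.toMonoidHom e.injective).toMonoidHom)
        (MulEquiv.surjective _),
      fun h => Group.isSolvable_of_surjective
        (f := ((Subgroup.closure ({x, y} : Set _)).equivMapOfInjective e.toMonoidHom e.injective).symm.toMonoidHom)
        (MulEquiv.surjective _)⟩
  rw [key, MulEquiv.orderOf_eq, ne_eq, EmbeddingLike.map_eq_one_iff]
  exact ⟨fun h => Suzuki.solSet_card_two hm hF hp h, fun h => Suzuki.solSet_card_four hm hF hp h,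
    fun h1 h => Suzuki.solSet_card_pred hm hF hp h1 h,
    fun h1 h => Suzuki.solSet_card_torus hm hF hp h1 (Or.inl rfl) h,
    fun h1 h => Suzuki.solSet_card_torus hm hF hp h1 (Or.inr rfl) h⟩

end Cfsg.Agent.S2259
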