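import Cfsg.Statements.S2260
import Cfsg.Agent.EqLemmas

set_option autoImplicit false
open Cfsg

namespace Cfsg.Agent.S2260

/-- Let F be a finite field of prime characteristic p and u an invertible d × d matrix over F with u − 1 nilpotent (a unipotent element). Then the order of u is at most p^⌈log_p d⌉; and if moreover (u − 1)^(d−1) ≠ 0 (u is a single Jordan block) then the order of u is exactly p^⌈log_p d⌉. -/
theorem result {F : Type*} [Field F] [Finite F] (p : ℕ) [Fact p.Prime] [CharP F p] (d : ℕ)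
    (u : GL (Fin d) F) (hu : IsNilpotent ((u : Matrix (Fin d) (Fin d) F) - 1)) :
    orderOf u ≤ p ^ Nat.clog p d ∧
    (((u : Matrix (Fin d) (Fin d) F) - 1) ^ (d - 1) ≠ 0 → orderOf u = p ^ Nat.clog p d) := by
  have hp := (Fact.out : p.Prime)
  rcases Nat.eq_zero_or_pos d with hd | hd
  · subst hd
    have h1 : u = 1 := Units.ext (Subsingleton.elim _ _)
    subst h1
    simp
  haveI : Nonempty (Fin d) := ⟨⟨0, hd⟩⟩
  set N : Matrix (Fin d) (Fin d) F := (u : Matrix (Fin d) (Fin d) F) - 1 with hN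
  have hNd : N ^ d = 0 := by
    have h := Matrix.isNilpotent_charpoly_sub_pow_of_isNilpotent hu
    have h2 := Matrix.aeval_self_charpoly N
    rw [sub_eq_zero.1 (IsReduced.eq_zero _ h)] at h2
    simpa using h2
  have key : ∀ k, N ^ (p ^ k) = 0 ↔ u ^ (p ^ k) = 1 := by
    intro k
    have h : N ^ (p ^ k) = ((u : Matrix (Fin d) (Fin d) F)) ^ (p ^ k) - 1 := by
      rw [hN, sub_pow_char_pow_of_commute (p := p) k (Commute.one_right _), one_pow]
    rw [h, sub_eq_zero, Units.ext_iff, Units.val_pow_eq_pow_val, Units.val_one]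
  have hu1 : u ^ (p ^ Nat.clog p d) = 1 :=
    (key _).1 (pow_eq_zero_of_le (Nat.le_pow_clog hp.one_lt d) hNd)
  have hle : orderOf u ≤ p ^ Nat.clog p d :=
    Nat.le_of_dvd (pow_pos hp.pos _) (orderOf_dvd_of_pow_eq_one hu1)
  refine ⟨hle, fun hne => ?_⟩
  obtain ⟨j, hj, hjo⟩ := (Nat.dvd_prime_pow hp).1 (orderOf_dvd_of_pow_eq_one hu1)
  have hj0 : N ^ (p ^ j) = 0 := (key j).2 (by rw [← hjo]; exact pow_orderOf_eq_one u)
  have hdj : d ≤ p ^ j := by
    by_contra hlt
    exact hne (pow_eq_zero_of_le (by omega) hj0)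
  have := Nat.clog_le_of_le_pow hdj
  rw [hjo]
  exact congrArg _ (le_antisymm hj this)

end Cfsg.Agent.S2260
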