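import Cfsg.Statements.S2263
import Cfsg.Agent.Lib.PGUOrder.Elements

set_option autoImplicit false
open Cfsg

namespace Cfsg.Agent.S2263

/-- Let q = p^f with p prime and f ≥ 1, F a field with q² elements, d ≥ 3 with (d, q) ≠ (3, 2), and PGU_d(q) the general unitary group of the standard Hermitian form modulo its centre. Then the largest order of an element of PGU_d(q) is: q^(d−1) − 1 if d is odd and f ≥ 2; (p^(d−2) + 1)p if d is odd and f = 1; q^(d−1) + 1 if d is even and q > 2; 4(2^(d−3) + 1) if d is even and q = 2. -/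
theorem result {F : Type*} [Field F] [Fintype F] (p f d : ℕ) (hp : p.Prime) (hf : 1 ≤ f) (q : ℕ) (hq : q = p ^ f)
    (hF : Fintype.card F = q ^ 2) (hd : 3 ≤ d) (h32 : ¬ (d = 3 ∧ q = 2)) :
    (Odd d → 2 ≤ f → (∀ g : (↥(Cfsg.GU d F q) ⧸ Subgroup.center ↥(Cfsg.GU d F q)), orderOf g ≤ q ^ (d - 1) - 1) ∧ ∃ g : (↥(Cfsg.GU d F q) ⧸ Subgroup.center ↥(Cfsg.GU d F q)), orderOf g = q ^ (d - 1) - 1) ∧
    (Odd d → f = 1 → (∀ g : (↥(Cfsg.GU d F q) ⧸ Subgroup.center ↥(Cfsg.GU d F q)), orderOf g ≤ (p ^ (d - 2) + 1) * p) ∧ ∃ g : (↥(Cfsg.GU d F q) ⧸ Subgroup.center ↥(Cfsg.GU d F q)), orderOf g = (p ^ (d - 2) + 1) * p) ∧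
    (Even d → 2 < q → (∀ g : (↥(Cfsg.GU d F q) ⧸ Subgroup.center ↥(Cfsg.GU d F q)), orderOf g ≤ q ^ (d - 1) + 1) ∧ ∃ g : (↥(Cfsg.GU d F q) ⧸ Subgroup.center ↥(Cfsg.GU d F q)), orderOf g = q ^ (d - 1) + 1) ∧
    (Even d → q = 2 → (∀ g : (↥(Cfsg.GU d F q) ⧸ Subgroup.center ↥(Cfsg.GU d F q)), orderOf g ≤ 4 * (2 ^ (d - 3) + 1)) ∧ ∃ g : (↥(Cfsg.GU d F q) ⧸ Subgroup.center ↥(Cfsg.GU d F q)), orderOf g = 4 * (2 ^ (d - 3) + 1)) := by
  subst hq
  haveI : CharP F p := by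
    obtain ⟨r, m, hr, hchar, hqr, hm1⟩ := Agent.Unitary.exists_prime_pow hF
    have h1 : r ∣ p := hr.dvd_of_dvd_pow (n := f) (by rw [hqr]; exact dvd_pow_self r (by omega))
    rwa [(Nat.prime_dvd_prime_iff_eq hr hp).1 h1] at hchar
  obtain ⟨e, rfl⟩ : ∃ e, d = e + 3 := ⟨d - 3, by omega⟩
  refine ⟨fun ho hf2 => ⟨fun g => ?_, ?_⟩, fun ho hf1 => ⟨fun g => ?_, ?_⟩, fun he hq2 => ⟨fun g => ?_, ?_⟩,
    fun he hq2 => ⟨fun g => ?_, ?_⟩⟩
  · exact PGUOrder.orderOf_mk_le hp hf rfl hF hd h32 (Or.inl ⟨ho, hf2, rfl⟩) g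
  · obtain ⟨x, hx⟩ := PGUOrder.exists_orderOf_block (d := e + 3) (k := e + 2) (m := 1) (N := 1) hF rfl
      (by omega) le_rfl 1 (fun i c _ => by rw [PGUOrder.mat_one, one_pow]) orderOf_one (Nat.coprime_one_right _)
    exact ⟨x, by rw [hx, mul_one, PGUOrder.tor_even (by grind), show e + 3 - 1 = e + 2 by omega]⟩
  · exact PGUOrder.orderOf_mk_le hp hf rfl hF hd h32 (Or.inr (Or.inl ⟨ho, hf1, rfl⟩)) g
  · subst hf1
    obtain ⟨h, hh, hh'⟩ := PGUOrder.exists_transvection (q := p ^ 1) hp hF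
    obtain ⟨x, hx⟩ := PGUOrder.exists_orderOf_block (d := e + 3) (k := e + 1) (m := 2) hF rfl
      (by omega) (by omega) h hh' hh (by
        rw [PGUOrder.tor_odd (by grind), pow_one, Nat.coprime_comm, hp.coprime_iff_not_dvd]
        intro hdvd
        exact hp.one_lt.ne' (Nat.dvd_one.1 ((Nat.dvd_add_right (dvd_pow_self p (by omega))).1 hdvd)))
    exact ⟨x, by rw [hx, PGUOrder.tor_odd (by grind), pow_one, show e + 3 - 2 = e + 1 by omega]⟩
  · exact PGUOrder.orderOf_mk_le hp hf rfl hF hd h32 (Or.inr (Or.inr (Or.inl ⟨he, hq2, rfl⟩))) g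
  · obtain ⟨x, hx⟩ := PGUOrder.exists_orderOf_block (d := e + 3) (k := e + 2) (m := 1) (N := 1) hF rfl
      (by omega) le_rfl 1 (fun i c _ => by rw [PGUOrder.mat_one, one_pow]) orderOf_one (Nat.coprime_one_right _)
    exact ⟨x, by rw [hx, mul_one, PGUOrder.tor_odd (by grind), show e + 3 - 1 = e + 2 by omega]⟩
  · exact PGUOrder.orderOf_mk_le hp hf rfl hF hd h32 (Or.inr (Or.inr (Or.inr ⟨he, hq2, rfl⟩))) g
  · obtain ⟨h, hh, hh'⟩ := PGUOrder.exists_order_four hF hq2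
    obtain ⟨x, hx⟩ := PGUOrder.exists_orderOf_block (d := e + 3) (k := e) (m := 3) hF rfl
      (by grind) (by omega) h hh' hh (by
        rw [PGUOrder.tor_odd (by grind), hq2, show (4 : ℕ) = 2 ^ 2 from rfl]
        refine Nat.Coprime.pow_right 2 ?_
        rw [Nat.coprime_two_right]
        exact (even_iff_two_dvd.2 (dvd_pow_self 2 (by grind))).add_one)
    exact ⟨x, by rw [hx, PGUOrder.tor_odd (by grind), hq2, show e + 3 - 3 = e by omega, mul_comm]⟩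

end Cfsg.Agent.S2263
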