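import Cfsg.Statements.S2265
import Cfsg.Agent.EqLemmas
import Cfsg.Agent.Lib.SelfDualOrder.Main
import Cfsg.Agent.Lib.PrimeDim.OrthCases

set_option autoImplicit false
open Cfsg

namespace Cfsg.Agent.S2265

/-- The bound for a non-degenerate form. -/
theorem bound_of_nondeg {F : Type*} [Field F] [Fintype F] {ι : Type} [Fintype ι] [DecidableEq ι]
    (Q : QuadraticForm F (ι → F)) (hQ : Q.polarBilin.Nondegenerate) (m : ℕ)
    (hN : (Fintype.card ι = 2 * m ∧ 2 ≤ m) ∨ (Fintype.card ι = 2 * m + 1 ∧ 3 ≤ m ∧ Odd (Fintype.card F)))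
    (g : Cfsg.POmega F ⇑Q) : (Fintype.card F - 1) * orderOf g ≤ Fintype.card F ^ (m + 1) := by
  obtain ⟨h, rfl⟩ := QuotientGroup.mk_surjective g
  obtain ⟨k, hk, hle, hpm⟩ := Cfsg.Agent.SelfDualOrder.exists_power_of_form
    (M := ((h.1.1 : Matrix.GeneralLinearGroup ι F) : Matrix ι ι F)) (Cfsg.Agent.PrimeDim.gramQ_det Q hQ)
    (Cfsg.Agent.PrimeDim.gram_of_isometry h.1.2) m hN
  refine le_trans (Nat.mul_le_mul_left _ (Nat.le_of_dvd hk (orderOf_dvd_of_pow_eq_one ?_))) hle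
  rw [← QuotientGroup.mk_pow, QuotientGroup.eq_one_iff, Subgroup.mem_center_iff]
  intro x
  refine Subtype.ext (Subtype.ext (Units.ext ?_))
  simp only [Subgroup.coe_mul, Units.val_mul, SubmonoidClass.coe_pow, Units.val_pow_eq_pow_val]
  rcases hpm with e | e <;> rw [e] <;> simp

/-- Let F be a finite field with q elements. Every element g of PΩ_(2m+1)(F) (m ≥ 3, q odd), of PΩ⁺_2m(F) (m ≥ 4), or of PΩ⁻_2m(F) (m ≥ 4, the form having an anisotropic binary part) satisfies (q − 1)·|g| ≤ q^(m+1), i.e. has order at most q^(m+1)/(q − 1). -/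
theorem result {F : Type*} [Field F] [Fintype F] (m : ℕ) :
    (3 ≤ m → Odd (Fintype.card F) → ∀ g : Cfsg.POmega F (Cfsg.quadFormOdd m F),
      (Fintype.card F - 1) * orderOf g ≤ Fintype.card F ^ (m + 1)) ∧
    (4 ≤ m → ∀ g : Cfsg.POmega F (Cfsg.quadFormPlus m F),
      (Fintype.card F - 1) * orderOf g ≤ Fintype.card F ^ (m + 1)) ∧
    (4 ≤ m → ∀ a b : F, (∀ z₁ z₂ : F, z₁ ^ 2 + a * z₁ * z₂ + b * z₂ ^ 2 = 0 → z₁ = 0 ∧ z₂ = 0) →
      ∀ g : Cfsg.POmega F (Cfsg.quadFormMinus (m - 1) F a b),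
      (Fintype.card F - 1) * orderOf g ≤ Fintype.card F ^ (m + 1)) := by
  refine ⟨fun hm hodd g => ?_, fun hm g => ?_, fun hm a b hab g => ?_⟩
  · have h2 : (2 : F) ≠ 0 := Ring.two_ne_zero (fun h => by
      have := FiniteField.even_card_of_char_two h
      exact (Nat.not_even_iff_odd.mpr hodd) (Nat.even_iff.mpr this))
    exact bound_of_nondeg (Cfsg.Agent.Orth.quadOdd m F) (Cfsg.Agent.Orth.quadOdd_nondeg m h2) m
      (Or.inr ⟨by simp; omega, hm, hodd⟩) g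
  · exact bound_of_nondeg (Cfsg.Agent.Orth.quadPlus m F) (Cfsg.Agent.Orth.quadPlus_nondeg m) m
      (Or.inl ⟨by simp; omega, by omega⟩) g
  · exact bound_of_nondeg (Cfsg.Agent.Orth.quadMinus (m - 1) F a b) (Cfsg.Agent.Orth.quadMinus_nondeg (m - 1) hab) m
      (Or.inl ⟨by simp; omega, by omega⟩) g

end Cfsg.Agent.S2265
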