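import Cfsg.Statements.S2268
import Cfsg.Agent.EqLemmas

set_option autoImplicit false
open Cfsg

namespace Cfsg.Agent.S2268

/-- Let G be a finite group with an abelian Sylow p-subgroup P and let Q ≤ P. Then N_G(Q) = (N_G(Q) ∩ N_G(P))·C_G(Q), so that N_G(Q)/C_G(Q) is a homomorphic image of the subgroup (N_G(Q) ∩ N_G(P))/C_G(P) of N_G(P)/C_G(P); in particular the order of N_G(Q)/C_G(Q) divides the order of N_G(P)/C_G(P). -/
theorem result {G : Type*} [Group G] [Finite G] {p : ℕ} [Fact p.Prime]
    (P : Sylow p G) (hP : IsMulCommutative (P : Subgroup G)) (Q : Subgroup G) (hQ : Q ≤ (P : Subgroup G)) :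
    Subgroup.normalizer (Q : Set G) =
      (Subgroup.normalizer (Q : Set G) ⊓ Subgroup.normalizer ((P : Subgroup G) : Set G)) ⊔ Subgroup.centralizer (Q : Set G) ∧
    ((Subgroup.centralizer (Q : Set G)).subgroupOf (Subgroup.normalizer (Q : Set G))).index ∣ ((Subgroup.centralizer ((P : Subgroup G) : Set G)).subgroupOf (Subgroup.normalizer ((P : Subgroup G) : Set G))).index := by
  set M := Subgroup.normalizer (Q : Set G) with hM
  set NP := Subgroup.normalizer ((P : Subgroup G) : Set G) with hNP
  set C := Subgroup.centralizer (Q : Set G) with hC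
  set CP := Subgroup.centralizer ((P : Subgroup G) : Set G) with hCP
  haveI := hP
  have hPC : (P : Subgroup G) ≤ C :=
    (Subgroup.le_centralizer (P : Subgroup G)).trans (Subgroup.centralizer_le hQ)
  have hCM : C ≤ M := Subgroup.centralizer_le_normalizer _
  have hfrat : M = (M ⊓ NP) ⊔ C := by
    refine le_antisymm (fun g hg => ?_) (sup_le inf_le_left hCM)
    have hgP : ((g • P : Sylow p G) : Subgroup G) ≤ C := by
      intro x hx
      rw [Sylow.coe_subgroup_smul] at hx
      obtain ⟨a, ha, rfl⟩ := hx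
      rw [hC, Subgroup.mem_centralizer_iff]
      intro q hq
      have hq' : g⁻¹ * q * g ∈ Q := by
        have := (Subgroup.mem_normalizer_iff.1 ((inv_mem hg : g⁻¹ ∈ M)) q).1 hq
        simpa using this
      have h := Subgroup.mem_centralizer_iff.1 (hPC ha) _ hq'
      simp only [MulDistribMulAction.toMonoidEnd_apply, MulDistribMulAction.toMonoidHom_apply, MulAut.smul_def, MulAut.conj_apply]
      calc q * (g * a * g⁻¹) = g * ((g⁻¹ * q * g) * a) * g⁻¹ := by group
        _ = g * (a * (g⁻¹ * q * g)) * g⁻¹ := by rw [h]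
        _ = g * a * g⁻¹ * q := by group
    obtain ⟨c, hc⟩ := MulAction.exists_smul_eq C ((g • P).subtype hgP) (P.subtype hPC)
    rw [Sylow.smul_subtype] at hc
    have hc' : (c : G) • g • P = P := Sylow.subtype_injective hc
    rw [smul_smul, Sylow.smul_eq_iff_mem_normalizer] at hc'
    have : g = (c : G)⁻¹ * ((c : G) * g) := by group
    rw [this]
    exact Subgroup.mul_mem _ (Subgroup.mem_sup_right (inv_mem c.2))
      (Subgroup.mem_sup_left ⟨mul_mem (hCM c.2) hg, hc'⟩)
  refine ⟨hfrat, ?_⟩
  change C.relIndex M ∣ CP.relIndex NP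
  haveI : (C.subgroupOf M).Normal := inferInstanceAs ((Subgroup.centralizer (Q : Set G)).subgroupOf (Subgroup.normalizer (Q : Set G))).Normal
  haveI : (CP.subgroupOf NP).Normal := inferInstanceAs ((Subgroup.centralizer ((P : Subgroup G) : Set G)).subgroupOf (Subgroup.normalizer ((P : Subgroup G) : Set G))).Normal
  have h1 : C.relIndex M = C.relIndex (M ⊓ NP) := by
    have h2 : (M ⊓ NP).subgroupOf M ⊔ C.subgroupOf M = ⊤ := by
      rw [← Subgroup.subgroupOf_sup inf_le_left hCM, ← hfrat, Subgroup.subgroupOf_self]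
    have h3 := Subgroup.relIndex_sup_right ((M ⊓ NP).subgroupOf M) (C.subgroupOf M)
    rw [h2, Subgroup.relIndex_top_right, Subgroup.relIndex_subgroupOf inf_le_left] at h3
    exact h3
  rw [h1]
  refine (Subgroup.relIndex_dvd_of_le_left (M ⊓ NP) (Subgroup.centralizer_le hQ : CP ≤ C)).trans ?_
  have h4 := Subgroup.relIndex_dvd_index_of_normal (CP.subgroupOf NP) ((M ⊓ NP).subgroupOf NP)
  rw [Subgroup.relIndex_subgroupOf inf_le_right] at h4
  exact h4

end Cfsg.Agent.S2268
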