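import Cfsg.Statements.S2269
import Cfsg.Agent.Lib.SymAbelian.Inversion

set_option autoImplicit false
open Cfsg

namespace Cfsg.Agent.S2269

open Equiv Cfsg.Agent.SymAbelian

/-- A `p`-element commuting with an abelian Sylow `p`-subgroup lies in it. -/
theorem mem_of_commute {G : Type*} [Group G] {p : ℕ} (P : Sylow p G) {g : G}
    (hg : IsPGroup p (Subgroup.zpowers g)) (h : ∀ a ∈ (P : Subgroup G), Commute g a) : g ∈ (P : Subgroup G) := by
  have hle : Subgroup.zpowers g ≤ Subgroup.normalizer ((P : Subgroup G) : Set G) := by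
    refine le_trans ?_ (Subgroup.centralizer_le_normalizer _)
    rw [Subgroup.zpowers_le, Subgroup.mem_centralizer_iff]
    exact fun a ha => (h a ha).eq.symm
  have h1 := IsPGroup.to_sup_of_normal_left' P.isPGroup' hg hle
  exact P.3 h1 le_sup_left ▸ Subgroup.mem_sup_right (Subgroup.mem_zpowers g)

/-- An odd-order permutation is even. -/
theorem mem_alt_of_pow {n m : ℕ} {g : Perm (Fin n)} (hm : Odd m) (h : g ^ m = 1) :
    g ∈ alternatingGroup (Fin n) := by
  rw [Equiv.Perm.mem_alternatingGroup]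
  rcases Int.units_eq_one_or (Perm.sign g) with h1 | h1
  · exact h1
  · have := congrArg Perm.sign h
    rw [map_pow, h1, hm.neg_one_pow, map_one] at this
    exact absurd this (by decide)

theorem sq_eq_one_of_odd {G : Type*} [Group G] {g : G} {m : ℕ} (hm : Odd m) (h : g ^ m = 1) (h2 : g ^ 2 = 1) :
    g = 1 := by
  obtain ⟨k, rfl⟩ := hm
  rwa [pow_succ, pow_mul, h2, one_pow, one_mul] at h

/-- The odd case. -/
theorem odd_case {n p : ℕ} [Fact p.Prime] (hp : p ≠ 2) (P : Sylow p (alternatingGroup (Fin n)))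
    (hP : IsMulCommutative (P : Subgroup (alternatingGroup (Fin n)))) :
    2 ∣ ((Subgroup.centralizer ((P : Subgroup (alternatingGroup (Fin n))) : Set (alternatingGroup (Fin n)))).subgroupOf (Subgroup.normalizer ((P : Subgroup (alternatingGroup (Fin n))) : Set (alternatingGroup (Fin n))))).index ∨ IsCyclic (P : Subgroup (alternatingGroup (Fin n))) := by
  classical
  set Q : Subgroup (Perm (Fin n)) := (P : Subgroup (alternatingGroup (Fin n))).map (alternatingGroup (Fin n)).subtype with hQdef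
  haveI := hP
  have hQ : IsMulCommutative Q := Subgroup.map_isMulCommutative (P : Subgroup (alternatingGroup (Fin n))) (alternatingGroup (Fin n)).subtype
  have hQp : IsPGroup p Q := P.isPGroup'.map _
  have hpodd : Odd p := (Fact.out : p.Prime).odd_of_ne_two hp
  have hodd : ∀ a ∈ Q, ∃ m, Odd m ∧ a ^ m = 1 := by
    intro a ha
    obtain ⟨k, hk⟩ := hQp ⟨a, ha⟩
    exact ⟨p ^ k, hpodd.pow, congrArg Subtype.val hk⟩
  have hfix : ∀ a ∈ Q, ∀ y, a (a y) = y → a y = y := by
    intro a ha y h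
    obtain ⟨m, ⟨k, rfl⟩, hm⟩ := hodd a ha
    have h1 : ∀ k, (a ^ (2 * k)) y = y := by
      intro k
      induction k with
      | zero => simp
      | succ k ih =>
        rw [Nat.mul_succ, pow_add, Perm.mul_apply, sq, Perm.mul_apply, h, ih]
    have h2 := Equiv.congr_fun hm y
    rw [pow_succ', Perm.mul_apply, h1 k] at h2
    exact h2
  have hrest : ∀ (S : Set (Fin n)) (hS : Inv Q S) (a : Q), restr hS a ∈ Q := by
    intro S hS a
    obtain ⟨k, hk⟩ := hQp a
    have hpow : restr hS a ^ (p ^ k) = 1 := by rw [← map_pow, hk, map_one]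
    have halt : restr hS a ∈ (alternatingGroup (Fin n)) := mem_alt_of_pow hpodd.pow hpow
    refine ⟨⟨restr hS a, halt⟩, mem_of_commute P ?_ ?_, rfl⟩
    · refine IsPGroup.of_card (n := ?_) ?_
      · exact ((Nat.dvd_prime_pow Fact.out).1 (orderOf_dvd_of_pow_eq_one (x := (⟨restr hS a, halt⟩ : (alternatingGroup (Fin n)))) (Subtype.ext hpow))).choose
      · rw [Nat.card_zpowers]
        exact ((Nat.dvd_prime_pow Fact.out).1 (orderOf_dvd_of_pow_eq_one (x := (⟨restr hS a, halt⟩ : (alternatingGroup (Fin n)))) (Subtype.ext hpow))).choose_spec.2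
    · intro b hb
      exact Subtype.ext (restr_commute hQ hS a ⟨(b : Perm (Fin n)), Subgroup.mem_map_of_mem _ hb⟩).eq
  let O : Fin n → Set (Fin n) := fun x => {y | ∃ a ∈ Q, a x = y}
  have hOcard : ∀ x, ∃ k, Fintype.card (O x) = p ^ k := by
    intro x
    let act : MulAction Q (Fin n) := MulAction.compHom _ Q.subtype
    obtain ⟨k, hk⟩ := hQp.card_orbit (α := Fin n) x
    refine ⟨k, ?_⟩
    rw [← hk, ← Nat.card_eq_fintype_card]
    refine Nat.card_congr (Equiv.setCongr (Set.ext fun y => ?_))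
    exact ⟨fun ⟨a, ha, h⟩ => ⟨⟨a, ha⟩, h⟩, fun ⟨a, h⟩ => ⟨a, a.2, h⟩⟩
  have hσ : ∀ x, ∃ σ : Perm (Fin n), σ * σ = 1 ∧
      Perm.sign σ = (-1) ^ ((Fintype.card (O x) - 1) / 2) ∧
      (∀ y, y ∉ O x → σ y = y) ∧ (∀ y, σ y ∈ O x ↔ y ∈ O x) ∧
      (∀ a ∈ Q, ∀ y ∈ O x, σ (a y) = a⁻¹ (σ y)) := by
    intro x
    obtain ⟨σ, r, h2, hout, hin, hconj, hr, hr', hkey⟩ := exists_inversion hQ (inv_orbit Q x)
    refine ⟨σ, h2, ?_, hout, hin, hconj⟩
    rw [Perm.sign_of_pow_two_eq_one (by rw [sq]; exact h2)]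
    congr 2
    have hrx : ∀ y ∈ O x, r y = r x := by
      rintro y ⟨a, ha, rfl⟩
      exact hr' a ha x
    obtain ⟨b, hb, hbx⟩ := hr x
    have hrO : r x ∈ O x := ⟨b⁻¹, inv_mem hb, by nth_rewrite 1 [← hbx]; simp⟩
    have hset : (Finset.univ.filter (fun y => σ y = y)) = insert (r x) (Finset.univ.filter (fun y => y ∉ O x)) := by
      ext y
      simp only [Finset.mem_filter, Finset.mem_univ, true_and, Finset.mem_insert]
      constructor
      · intro hy
        by_cases hyO : y ∈ O x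
        · left
          obtain ⟨a, ha, hay⟩ := hr y
          rw [hkey y hyO a ha hay] at hy
          have h3 : a (a (r y)) = r y := by
            rw [hay]; nth_rewrite 1 [← hy]; simp
          have h4 := hfix a ha _ h3
          rw [hay] at h4
          rw [h4, hrx y hyO]
        · exact Or.inr hyO
      · rintro (rfl | hy)
        · rw [hkey _ hrO 1 (one_mem _) (by simp [hrx _ hrO])]
          simp [hrx _ hrO]
        · exact hout y hy
    have hle : Fintype.card (O x) ≤ n :=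
      (Fintype.card_subtype_le _).trans (le_of_eq (Fintype.card_fin n))
    have hpos : 0 < Fintype.card (O x) := Fintype.card_pos_iff.2 ⟨⟨r x, hrO⟩⟩
    have h5 : Fintype.card (Function.fixedPoints σ) = (n - Fintype.card (O x)) + 1 := by
      have h6 : Fintype.card (Function.fixedPoints σ) = (Finset.univ.filter (fun y => σ y = y)).card :=
        Fintype.card_of_subtype _ (fun y => by simp [Function.mem_fixedPoints, Function.IsFixedPt])
      rw [h6, hset, Finset.card_insert_of_notMem (by simp [hrO]), ← Fintype.card_subtype, Fintype.card_subtype_compl,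
        Fintype.card_fin]
      skip
    rw [h5, Fintype.card_fin]
    omega
  have fin : ∀ (σ : Perm (Fin n)), σ * σ = 1 → σ ∈ (alternatingGroup (Fin n)) → (∀ a : Q, σ * (a : Perm (Fin n)) * σ⁻¹ ∈ Q) →
      (∃ a : Q, σ * (a : Perm (Fin n)) * σ⁻¹ ≠ a) →
      2 ∣ ((Subgroup.centralizer ((P : Subgroup (alternatingGroup (Fin n))) : Set (alternatingGroup (Fin n)))).subgroupOf (Subgroup.normalizer ((P : Subgroup (alternatingGroup (Fin n))) : Set (alternatingGroup (Fin n))))).index := by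
    intro σ h2 halt hn hne
    refine two_dvd_automizer (σ := (⟨σ, halt⟩ : (alternatingGroup (Fin n)))) _ (Subtype.ext h2) ?_ ?_
    · rw [Subgroup.mem_normalizer_iff]
      intro a
      have hinv : σ⁻¹ = σ := inv_eq_of_mul_eq_one_right h2
      constructor
      · intro ha
        obtain ⟨b, hb, hb'⟩ := hn ⟨a, Subgroup.mem_map_of_mem _ ha⟩
        exact (Subtype.ext hb' : b = (⟨σ, halt⟩ : (alternatingGroup (Fin n))) * a * ⟨σ, halt⟩⁻¹) ▸ hb
      · intro ha
        obtain ⟨b, hb, hb'⟩ := hn ⟨_, Subgroup.mem_map_of_mem _ ha⟩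
        refine (Subtype.ext ?_ : b = a) ▸ hb
        change (b : Perm (Fin n)) = a
        refine Eq.trans hb' ?_
        change σ * (σ * (a : Perm (Fin n)) * σ⁻¹) * σ⁻¹ = a
        rw [hinv, show σ * (σ * (a : Perm (Fin n)) * σ) * σ = (σ * σ) * a * (σ * σ) by group, h2]
        simp
    · intro hC
      obtain ⟨⟨a, ⟨b, hb, rfl⟩⟩, hne⟩ := hne
      refine hne ?_
      have h3 : (σ : Perm (Fin n)) * b = b * σ := congrArg Subtype.val ((Subgroup.mem_centralizer_iff.1 hC b hb).symm)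
      change σ * (b : Perm (Fin n)) * σ⁻¹ = b
      rw [h3, mul_inv_cancel_right]
  by_cases htriv : ∀ a ∈ Q, a = 1
  · right
    have : Subsingleton (P : Subgroup (alternatingGroup (Fin n))) := ⟨fun a b => Subtype.ext (Subtype.ext
      ((htriv _ (Subgroup.mem_map_of_mem _ a.2)).trans (htriv _ (Subgroup.mem_map_of_mem _ b.2)).symm))⟩
    exact isCyclic_of_subsingleton
  push Not at htriv
  obtain ⟨a₁, ha₁, hne₁⟩ := htriv
  obtain ⟨x₁, hx₁⟩ : ∃ x, a₁ x ≠ x := by
    by_contra h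
    push Not at h
    exact hne₁ (Equiv.ext h)
  obtain ⟨σ₁, h2₁, hsgn₁, hout₁, hin₁, hconj₁⟩ := hσ x₁
  have moved : ∀ (σ : Perm (Fin n)), σ * σ = 1 → (∀ y, σ y ∈ O x₁ ↔ y ∈ O x₁) →
      (∀ a ∈ Q, ∀ y ∈ O x₁, σ (a y) = a⁻¹ (σ y)) → σ * a₁ * σ⁻¹ ≠ a₁ := by
    intro σ h2 hin hconj h
    have hinv : σ⁻¹ = σ := inv_eq_of_mul_eq_one_right h2
    have hx : x₁ ∈ O x₁ := ⟨1, one_mem _, rfl⟩
    have h3 := Equiv.congr_fun h x₁
    rw [Perm.mul_apply, Perm.mul_apply, hinv, hconj a₁ ha₁ _ ((hin x₁).2 hx),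
      show σ (σ x₁) = x₁ from Equiv.congr_fun h2 x₁] at h3
    refine hx₁ (hfix a₁ ha₁ x₁ ?_)
    rw [← h3]; simp
  have norm₁ : ∀ a : Q, σ₁ * (a : Perm (Fin n)) * σ₁⁻¹ ∈ Q := by
    intro a
    rw [conj_eq (inv_orbit Q x₁) h2₁ hout₁ hin₁ hconj₁]
    exact mul_mem (mul_mem a.2 (inv_mem (hrest _ _ a))) (inv_mem (hrest _ _ a))
  by_cases hσ₁ : σ₁ ∈ (alternatingGroup (Fin n))
  · exact Or.inl (fin σ₁ h2₁ hσ₁ norm₁ ⟨⟨a₁, ha₁⟩, moved σ₁ h2₁ hin₁ hconj₁⟩)
  have hs₁ : Perm.sign σ₁ = -1 := (Int.units_eq_one_or _).resolve_left (fun h => hσ₁ (Equiv.Perm.mem_alternatingGroup.2 h))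
  by_cases hsecond : ∃ x₂, x₂ ∉ O x₁ ∧ ∃ a ∈ Q, a x₂ ≠ x₂
  · left
    obtain ⟨x₂, hx₂, a₂, ha₂, ha₂x⟩ := hsecond
    have hdisj : ∀ y, y ∈ O x₁ → y ∉ O x₂ := by
      rintro y ⟨a, ha, rfl⟩ ⟨b, hb, h⟩
      exact hx₂ ⟨b⁻¹ * a, mul_mem (inv_mem hb) ha, by simp [← h]⟩
    obtain ⟨σ₂, h2₂, hsgn₂, hout₂, hin₂, hconj₂⟩ := hσ x₂
    by_cases hσ₂ : σ₂ ∈ (alternatingGroup (Fin n))
    · refine fin σ₂ h2₂ hσ₂ (fun a => ?_) ⟨⟨a₂, ha₂⟩, ?_⟩
      · rw [conj_eq (inv_orbit Q x₂) h2₂ hout₂ hin₂ hconj₂]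
        exact mul_mem (mul_mem a.2 (inv_mem (hrest _ _ a))) (inv_mem (hrest _ _ a))
      · intro h
        have hinv : σ₂⁻¹ = σ₂ := inv_eq_of_mul_eq_one_right h2₂
        have hx : x₂ ∈ O x₂ := ⟨1, one_mem _, rfl⟩
        have h3 := Equiv.congr_fun h x₂
        simp only [Perm.mul_apply] at h3
        rw [hinv, hconj₂ a₂ ha₂ _ ((hin₂ x₂).2 hx),
          show σ₂ (σ₂ x₂) = x₂ from Equiv.congr_fun h2₂ x₂] at h3
        refine ha₂x (hfix a₂ ha₂ x₂ ?_)
        rw [← h3]; simp
    have hs₂ : Perm.sign σ₂ = -1 := (Int.units_eq_one_or _).resolve_left (fun h => hσ₂ (Equiv.Perm.mem_alternatingGroup.2 h))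
    have hcomm : σ₁ * σ₂ = σ₂ * σ₁ := by
      refine Perm.Disjoint.commute (fun y => ?_)
      by_cases hy : y ∈ O x₁
      · exact Or.inr (hout₂ y (hdisj y hy))
      · exact Or.inl (hout₁ y hy)
    have hσ21 : ∀ y, y ∈ O x₁ → σ₂ y = y := fun y hy => hout₂ y (hdisj y hy)
    refine fin (σ₁ * σ₂) ?_ (by rw [Equiv.Perm.mem_alternatingGroup, map_mul, hs₁, hs₂]; rfl) (fun a => ?_) ⟨⟨a₁, ha₁⟩, moved _ ?_ ?_ ?_⟩
    · calc σ₁ * σ₂ * (σ₁ * σ₂) = σ₁ * σ₂ * (σ₂ * σ₁) := by rw [hcomm]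
        _ = σ₁ * (σ₂ * σ₂) * σ₁ := by group
        _ = 1 := by rw [h2₂, mul_one, h2₁]
    · have h1 : σ₂ * (a : Perm (Fin n)) * σ₂⁻¹ ∈ Q := by
        rw [conj_eq (inv_orbit Q x₂) h2₂ hout₂ hin₂ hconj₂]
        exact mul_mem (mul_mem a.2 (inv_mem (hrest _ _ a))) (inv_mem (hrest _ _ a))
      have := norm₁ ⟨_, h1⟩
      rwa [show σ₁ * σ₂ * (a : Perm (Fin n)) * (σ₁ * σ₂)⁻¹ = σ₁ * (σ₂ * a * σ₂⁻¹) * σ₁⁻¹ by group]
    · calc σ₁ * σ₂ * (σ₁ * σ₂) = σ₁ * σ₂ * (σ₂ * σ₁) := by rw [hcomm]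
        _ = σ₁ * (σ₂ * σ₂) * σ₁ := by group
        _ = 1 := by rw [h2₂, mul_one, h2₁]
    · intro y
      rw [Perm.mul_apply, hin₁]
      by_cases hy : y ∈ O x₁
      · rw [hσ21 y hy]
      · constructor
        · intro h
          have := hσ21 _ h
          rw [show σ₂ (σ₂ y) = y from Equiv.congr_fun h2₂ y] at this
          rw [this]; exact h
        · exact fun h => absurd h hy
    · intro a ha y hy
      rw [Perm.mul_apply, Perm.mul_apply, hσ21 y hy, hσ21 _ ((inv_orbit Q x₁ a ha y).2 hy)]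
      exact hconj₁ a ha y hy
  push Not at hsecond
  right
  -- a single non-trivial orbit
  obtain ⟨k, hk⟩ := hOcard x₁
  let f : Q → O x₁ := fun a => ⟨(a : Perm (Fin n)) x₁, a, a.2, rfl⟩
  have hf : Function.Bijective f := by
    refine ⟨fun a b h => ?_, fun ⟨y, a, ha, h⟩ => ⟨⟨a, ha⟩, Subtype.ext h⟩⟩
    have h1 : (a : Perm (Fin n)) x₁ = (b : Perm (Fin n)) x₁ := congrArg Subtype.val h
    refine Subtype.ext (Equiv.ext fun y => ?_)
    by_cases hy : y ∈ O x₁
    · obtain ⟨c, hc, rfl⟩ := hy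
      rw [apply_comm hQ a.2 hc, h1, apply_comm hQ hc b.2]
    · rw [hsecond y hy a a.2, hsecond y hy b b.2]
  have hcardP : Nat.card (P : Subgroup (alternatingGroup (Fin n))) = p ^ k := by
    rw [Nat.card_congr (Subgroup.equivMapOfInjective (P : Subgroup (alternatingGroup (Fin n))) (alternatingGroup (Fin n)).subtype Subtype.coe_injective).toEquiv,
      Nat.card_congr (Equiv.ofBijective f hf), Nat.card_eq_fintype_card, hk]
  have hm : 2 ≤ Fintype.card (O x₁) := by
    have h01 : (⟨x₁, 1, one_mem _, rfl⟩ : O x₁) ≠ ⟨a₁ x₁, a₁, ha₁, rfl⟩ := fun h => hx₁ (congrArg Subtype.val h).symm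
    exact Fintype.one_lt_card_iff.2 ⟨_, _, h01⟩
  let e := (Fintype.equivFin (O x₁)).symm
  let g : Perm (Fin n) := Equiv.Perm.extendDomainHom (p := (· ∈ O x₁)) e (finRotate (Fintype.card (O x₁)))
  have hgord : orderOf g = p ^ k := by
    rw [orderOf_injective (Equiv.Perm.extendDomainHom (p := (· ∈ O x₁)) e) (Equiv.Perm.extendDomainHom_injective e),
      (isCycle_finRotate_of_le hm).orderOf, support_finRotate_of_le hm, Finset.card_univ, Fintype.card_fin, hk]
  have hgA : g ∈ (alternatingGroup (Fin n)) := mem_alt_of_pow (hpodd.pow (n := k)) (by rw [← hgord]; exact pow_orderOf_eq_one g)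
  have hgA' : orderOf (⟨g, hgA⟩ : (alternatingGroup (Fin n))) = p ^ k := by rw [← hgord]; exact (Subgroup.orderOf_coe _).symm
  obtain ⟨P', hP'⟩ := (IsPGroup.of_card (p := p) (G := Subgroup.zpowers (⟨g, hgA⟩ : (alternatingGroup (Fin n)))) (n := k)
    (by rw [Nat.card_zpowers, hgA'])).exists_le_sylow
  have heq : Subgroup.zpowers (⟨g, hgA⟩ : (alternatingGroup (Fin n))) = (P' : Subgroup (alternatingGroup (Fin n))) := by
    refine Subgroup.eq_of_le_of_card_ge hP' (le_of_eq ?_)
    rw [Nat.card_zpowers, hgA', ← hcardP]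
    exact Nat.card_congr (P'.equiv P).toEquiv
  haveI : IsCyclic (P' : Subgroup (alternatingGroup (Fin n))) := heq ▸ inferInstance
  exact isCyclic_of_surjective (P'.equiv P) (P'.equiv P).surjective

/-- `A₅` at the prime two. -/
theorem five (P : Sylow 2 (alternatingGroup (Fin 5))) :
    ((Subgroup.centralizer ((P : Subgroup (alternatingGroup (Fin 5))) : Set (alternatingGroup (Fin 5)))).subgroupOf (Subgroup.normalizer ((P : Subgroup (alternatingGroup (Fin 5))) : Set (alternatingGroup (Fin 5))))).index = 3 ∧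
      IsKleinFour (P : Subgroup (alternatingGroup (Fin 5))) := by
  classical
  have hA : Nat.card (alternatingGroup (Fin 5)) = 60 := by
    have h : 2 * Fintype.card (alternatingGroup (Fin 5)) = Nat.factorial 5 := by
      rw [two_mul_card_alternatingGroup, Fintype.card_perm, Fintype.card_fin]
    have h5 : Nat.factorial 5 = 120 := rfl
    rw [Nat.card_eq_fintype_card]; omega
  have hP4 : Nat.card (P : Subgroup (alternatingGroup (Fin 5))) = 4 := by
    rw [Sylow.card_eq_multiplicity, hA]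
    have h : (60 : ℕ).factorization 2 = 2 := by
      rw [Nat.factorization_def _ Nat.prime_two, show (60 : ℕ) = 2 ^ 2 * 15 by norm_num, padicValNat.mul (by norm_num) (by norm_num), padicValNat.prime_pow, padicValNat.eq_zero_of_not_dvd (by norm_num)]
    rw [h]; norm_num
  have hexp : ∀ a : (P : Subgroup (alternatingGroup (Fin 5))), a ^ 2 = 1 := by
    intro a
    have h4 : a ^ 4 = 1 := by rw [← hP4]; exact pow_card_eq_one'
    have key : ∀ g : Perm (Fin 5), Perm.sign g = 1 → g ^ 4 = 1 → g ^ 2 = 1 := by decide +kernel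
    refine Subtype.ext (Subtype.ext ?_)
    exact key _ (Equiv.Perm.mem_alternatingGroup.1 (a : (alternatingGroup (Fin 5))).2) (by
      have := congrArg (fun x : (P : Subgroup (alternatingGroup (Fin 5))) => ((x : (alternatingGroup (Fin 5))) : Perm (Fin 5))) h4
      simpa using this)
  haveI hK : IsKleinFour (P : Subgroup (alternatingGroup (Fin 5))) := by
    haveI : Nontrivial (P : Subgroup (alternatingGroup (Fin 5))) := Finite.one_lt_card_iff_nontrivial.1 (by omega)
    refine ⟨hP4, ?_⟩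
    rw [Monoid.exponent_eq_prime_iff Nat.prime_two]
    exact fun g hg => orderOf_eq_prime (hexp g) hg
  refine ⟨?_, hK⟩
  set N := Subgroup.normalizer ((P : Subgroup (alternatingGroup (Fin 5))) : Set (alternatingGroup (Fin 5))) with hN
  set C := Subgroup.centralizer ((P : Subgroup (alternatingGroup (Fin 5))) : Set (alternatingGroup (Fin 5))) with hC
  haveI : IsMulCommutative (P : Subgroup (alternatingGroup (Fin 5))) :=
    ⟨⟨fun a b => mul_comm_of_exponent_two IsKleinFour.exponent_two a b⟩⟩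
  have hPC : (P : Subgroup (alternatingGroup (Fin 5))) ≤ C := Subgroup.le_centralizer (P : Subgroup (alternatingGroup (Fin 5)))
  have h15 : C.relIndex N ∣ 15 := by
    have h1 : C.relIndex N ∣ C.index := by
      rw [← Subgroup.relIndex_mul_index (Subgroup.centralizer_le_normalizer _ : C ≤ N)]
      exact dvd_mul_right _ _
    refine h1.trans ((Subgroup.index_dvd_of_le hPC).trans ?_)
    have := Subgroup.card_mul_index (P : Subgroup (alternatingGroup (Fin 5)))
    rw [hP4, hA] at this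
    exact dvd_of_eq (by omega)
  have h6 : C.relIndex N ∣ 6 := by
    have hker := Subgroup.normalizerMonoidHom_ker (P : Subgroup (alternatingGroup (Fin 5)))
    change (C.subgroupOf N).index ∣ 6
    rw [hC, hN, ← hker, Subgroup.index_ker]
    let T := {x : (P : Subgroup (alternatingGroup (Fin 5))) // x ≠ 1}
    let F : MulAut (P : Subgroup (alternatingGroup (Fin 5))) →* Perm T :=
      { toFun := fun φ => φ.toEquiv.subtypeEquiv (fun x => by simp)
        map_one' := rfl
        map_mul' := fun φ ψ => rfl }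
    have hF : Function.Injective F := by
      intro φ ψ h
      refine MulEquiv.ext fun x => ?_
      by_cases hx : x = 1
      · subst hx; simp
      · exact congrArg Subtype.val (Equiv.congr_fun h ⟨x, hx⟩)
    refine (Subgroup.card_dvd_of_injective (F.comp (Subgroup.normalizerMonoidHom (P : Subgroup (alternatingGroup (Fin 5)))).range.subtype)
      (hF.comp Subtype.coe_injective)).trans ?_
    rw [Nat.card_perm]
    have : Nat.card T = 3 := by
      rw [Nat.card_eq_fintype_card, Fintype.card_subtype_compl, Fintype.card_subtype_eq, ← Nat.card_eq_fintype_card, hP4]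
    rw [this]; rfl
  have h1 : C.relIndex N ≠ 1 := by
    intro h
    have hle : N ≤ C := Subgroup.relIndex_eq_one.1 h
    haveI : (P : Subgroup (alternatingGroup (Fin 5))).FiniteIndex := Subgroup.finiteIndex_of_finite
    have hc := MonoidHom.ker_transferSylow_isComplement' P hle
    have hcard := hc.card_mul
    rw [hP4, hA] at hcard
    rcases (MonoidHom.transferSylow P hle).normal_ker.eq_bot_or_eq_top with hb | ht
    · rw [hb] at hcard; simp at hcard
    · rw [ht, Subgroup.card_top, hA] at hcard; norm_num at hcard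
  change C.relIndex N = 3
  have h3 : C.relIndex N ∣ 3 := (Nat.dvd_gcd h15 h6).trans (by norm_num)
  exact ((Nat.dvd_prime (by norm_num)).1 h3).resolve_left h1

/-- For `n ≥ 6` the Sylow two-subgroups of `A_n` are not abelian. -/
theorem not_comm_two {n : ℕ} (hn : 6 ≤ n) (P : Sylow 2 (alternatingGroup (Fin n))) :
    ¬ IsMulCommutative (P : Subgroup (alternatingGroup (Fin n))) := by
  intro hP
  let a6 : Perm (Fin 6) := c[0, 1, 2, 3] * c[4, 5]
  let b6 : Perm (Fin 6) := c[1, 3] * c[4, 5]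
  let e : Fin 6 ≃ {x : Fin n // (x : ℕ) < 6} :=
    ⟨fun i => ⟨⟨i, by omega⟩, i.2⟩, fun x => ⟨x.1, x.2⟩, fun i => rfl, fun x => rfl⟩
  let φ : Perm (Fin 6) →* Perm (Fin n) := Equiv.Perm.extendDomainHom e
  have hsign : ∀ g : Perm (Fin 6), Perm.sign (φ g) = Perm.sign g := fun g => Perm.sign_extendDomain g e
  let a : alternatingGroup (Fin n) := ⟨φ a6, by rw [Equiv.Perm.mem_alternatingGroup, hsign]; decide⟩
  let b : alternatingGroup (Fin n) := ⟨φ b6, by rw [Equiv.Perm.mem_alternatingGroup, hsign]; decide⟩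
  have ha : a ^ (2 ^ 2) = 1 := Subtype.ext (by
    change (φ a6) ^ (2 ^ 2) = 1
    rw [← map_pow, show a6 ^ (2 ^ 2) = 1 by decide, map_one])
  have hb : b ^ (2 ^ 1) = 1 := Subtype.ext (by
    change (φ b6) ^ (2 ^ 1) = 1
    rw [← map_pow, show b6 ^ (2 ^ 1) = 1 by decide, map_one])
  have hbab : b * a * b⁻¹ = a⁻¹ := Subtype.ext (by
    change φ b6 * φ a6 * (φ b6)⁻¹ = (φ a6)⁻¹
    rw [← map_inv, ← map_inv, ← map_mul, ← map_mul, show b6 * a6 * b6⁻¹ = a6⁻¹ by decide])
  have hpa : ∀ (g : alternatingGroup (Fin n)) (k : ℕ), g ^ (2 ^ k) = 1 → IsPGroup 2 (Subgroup.zpowers g) := by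
    intro g k h ⟨x, hx⟩
    obtain ⟨i, rfl⟩ := Subgroup.mem_zpowers_iff.1 hx
    exact ⟨k, Subtype.ext (by
      change (g ^ i) ^ (2 ^ k) = 1
      rw [← zpow_natCast, ← zpow_mul, mul_comm, zpow_mul, zpow_natCast, h, one_zpow])⟩
  have hle : Subgroup.zpowers b ≤ Subgroup.normalizer ((Subgroup.zpowers a : Subgroup _) : Set (alternatingGroup (Fin n))) := by
    rw [Subgroup.zpowers_le, Subgroup.mem_normalizer_iff_map_conj_eq]
    rw [MonoidHom.map_zpowers]; change Subgroup.zpowers (b * a * b⁻¹) = _; rw [hbab, Subgroup.zpowers_inv]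
  obtain ⟨P', hP'⟩ := (IsPGroup.to_sup_of_normal_left' (hpa a 2 ha) (hpa b 1 hb) hle).exists_le_sylow
  haveI := hP
  have h1 := congrArg Subtype.val ((P'.equiv P).injective (a₁ := ⟨a, hP' (Subgroup.mem_sup_left (Subgroup.mem_zpowers a))⟩ * ⟨b, hP' (Subgroup.mem_sup_right (Subgroup.mem_zpowers b))⟩)
    (a₂ := ⟨b, hP' (Subgroup.mem_sup_right (Subgroup.mem_zpowers b))⟩ * ⟨a, hP' (Subgroup.mem_sup_left (Subgroup.mem_zpowers a))⟩)
    (by rw [map_mul, map_mul]; exact mul_comm' _ _))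
  have h2 : φ (a6 * b6) = φ (b6 * a6) := by
    have h3 : φ a6 * φ b6 = φ b6 * φ a6 := congrArg Subtype.val h1
    simpa only [map_mul] using h3
  exact absurd (Equiv.Perm.extendDomainHom_injective e h2) (by decide)

/-- Let n ≥ 5 and let P be an abelian Sylow p-subgroup of the alternating group A_n. Then N(P)/C(P) (taken in A_n) has even order, or P is cyclic, except when n = 5 and p = 2, where P is a four-group and N(P)/C(P) has order 3. -/
theorem result (n : ℕ) (hn : 5 ≤ n) {p : ℕ} [Fact p.Prime]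
    (P : Sylow p (alternatingGroup (Fin n))) (hP : IsMulCommutative (P : Subgroup (alternatingGroup (Fin n)))) :
    (¬ (n = 5 ∧ p = 2) → 2 ∣ ((Subgroup.centralizer ((P : Subgroup (alternatingGroup (Fin n))) : Set (alternatingGroup (Fin n)))).subgroupOf (Subgroup.normalizer ((P : Subgroup (alternatingGroup (Fin n))) : Set (alternatingGroup (Fin n))))).index ∨ IsCyclic (P : Subgroup (alternatingGroup (Fin n)))) ∧
    ((n = 5 ∧ p = 2) → ((Subgroup.centralizer ((P : Subgroup (alternatingGroup (Fin n))) : Set (alternatingGroup (Fin n)))).subgroupOf (Subgroup.normalizer ((P : Subgroup (alternatingGroup (Fin n))) : Set (alternatingGroup (Fin n))))).index = 3 ∧ IsKleinFour (P : Subgroup (alternatingGroup (Fin n)))) := by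
  refine ⟨fun h52 => ?_, ?_⟩
  · by_cases hp2 : p = 2
    · subst hp2
      exact absurd hP (not_comm_two (by omega) P)
    · exact odd_case hp2 P hP
  · rintro ⟨rfl, rfl⟩
    exact five P

end Cfsg.Agent.S2269
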