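import Cfsg.Statements.S2270
import Cfsg.Agent.Lib.SymAbelian.Inversion

set_option autoImplicit false
open Cfsg

namespace Cfsg.Agent.S2270

/-- Let n ≥ 3, p an odd prime, and P an abelian Sylow p-subgroup of the symmetric group S_n (with p dividing n!, so that P ≠ 1). Then N(P)/C(P) has even order. -/
theorem result (n : ℕ) (hn : 3 ≤ n) {p : ℕ} [Fact p.Prime] (hp : p ≠ 2) (hpn : p ≤ n)
    (P : Sylow p (Equiv.Perm (Fin n))) (hP : IsMulCommutative (P : Subgroup (Equiv.Perm (Fin n)))) :
    2 ∣ ((Subgroup.centralizer ((P : Subgroup (Equiv.Perm (Fin n))) : Set (Equiv.Perm (Fin n)))).subgroupOf (Subgroup.normalizer ((P : Subgroup (Equiv.Perm (Fin n))) : Set (Equiv.Perm (Fin n))))).index := by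
  obtain ⟨σ, r, h2, -, -, hconj, -, -, -⟩ :=
    SymAbelian.exists_inversion hP (SymAbelian.inv_univ (P : Subgroup (Equiv.Perm (Fin n))))
  have hinv : σ⁻¹ = σ := inv_eq_of_mul_eq_one_right h2
  have hc : ∀ a ∈ (P : Subgroup (Equiv.Perm (Fin n))), σ * a * σ⁻¹ = a⁻¹ := by
    intro a ha
    refine Equiv.ext fun y => ?_
    rw [Equiv.Perm.mul_apply, Equiv.Perm.mul_apply, hinv, hconj a ha _ (Set.mem_univ _),
      show σ (σ y) = y from Equiv.congr_fun h2 y]
  refine SymAbelian.two_dvd_automizer _ h2 ?_ ?_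
  · rw [Subgroup.mem_normalizer_iff]
    intro a
    constructor
    · intro ha
      rw [hc a ha]
      exact inv_mem ha
    · intro ha
      have h3 := hc _ ha
      have h4 : σ * (σ * a * σ⁻¹) * σ⁻¹ = a := by
        rw [hinv, show σ * (σ * a * σ) * σ = (σ * σ) * a * (σ * σ) by group, h2]
        simp
      rw [h4] at h3
      rw [h3]
      exact inv_mem ha
  · intro hC
    have hpd : p ∣ Nat.card (P : Subgroup (Equiv.Perm (Fin n))) := by
      refine P.dvd_card_of_dvd_card ?_
      rw [Nat.card_perm, Nat.card_fin]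
      exact (Nat.Prime.dvd_factorial Fact.out).2 hpn
    obtain ⟨⟨a, ha⟩, hord⟩ := exists_prime_orderOf_dvd_card' p hpd
    rw [← Subgroup.orderOf_coe] at hord
    have h3 := hc a ha
    rw [← Subgroup.mem_centralizer_iff.1 hC a ha] at h3
    have h4 : a ^ 2 = 1 := by
      rw [sq]
      nth_rewrite 2 [show a = a * σ * σ⁻¹ by group]
      rw [h3, mul_inv_cancel]
    have := Nat.le_of_dvd two_pos (orderOf_dvd_of_pow_eq_one h4)
    simp only at hord
    have := (Fact.out : p.Prime).two_le
    omega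

end Cfsg.Agent.S2270
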