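import Cfsg.Statements.S2271
import Cfsg.Agent.EqLemmas

set_option autoImplicit false
open Cfsg

namespace Cfsg.Agent.S2271

open Equiv

variable {n : ℕ}

/-- Fixed points. -/
def fx (a : Perm (Fin n)) : Finset (Fin n) := Finset.univ.filter fun i => a i = i

theorem mem_fx {a : Perm (Fin n)} {i : Fin n} : i ∈ fx a ↔ a i = i := by simp [fx]

theorem card_fx (a : Perm (Fin n)) : Nat.card (Function.fixedPoints ⇑a) = (fx a).card := by
  rw [Nat.card_eq_fintype_card]
  exact Fintype.card_of_subtype _ fun i => mem_fx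

theorem fx_conj (g x : Perm (Fin n)) : (fx (g * x * g⁻¹)).card = (fx x).card := by
  rw [show fx (g * x * g⁻¹) = (fx x).image g from ?_]
  · exact Finset.card_image_of_injective _ g.injective
  ext i
  simp only [mem_fx, Finset.mem_image, Perm.mul_apply]
  constructor
  · intro h
    exact ⟨g⁻¹ i, by apply g.injective; simpa using h, by simp⟩
  · rintro ⟨j, hj, rfl⟩
    simp [hj]

/-- An extension of an injective partial map to a permutation. -/
theorem exists_perm (S : Finset (Fin n)) (f : Fin n → Fin n) (hf : Set.InjOn f S) :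
    ∃ g : Perm (Fin n), ∀ x ∈ S, g x = f x := by
  let e : {x // x ∈ S} ≃ {x // x ∈ S.image f} :=
    Equiv.ofBijective (fun x => ⟨f x, Finset.mem_image_of_mem f x.2⟩)
      ⟨fun x y h => Subtype.ext (hf x.2 y.2 (congrArg Subtype.val h)),
        fun y => by obtain ⟨x, hx, h⟩ := Finset.mem_image.1 y.2; exact ⟨⟨x, hx⟩, Subtype.ext h⟩⟩
  exact ⟨e.extendSubtype, fun x hx => e.extendSubtype_apply_of_mem x hx⟩

theorem exists_even (S : Finset (Fin n)) (f : Fin n → Fin n) (hf : Set.InjOn f S) (hS : S.card + 2 ≤ n) :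
    ∃ g ∈ alternatingGroup (Fin n), ∀ x ∈ S, g x = f x := by
  obtain ⟨g, hg⟩ := exists_perm S f hf
  obtain ⟨p, hp, r, hr, hpr⟩ := Finset.one_lt_card.1 (show 1 < Sᶜ.card by
    rw [Finset.card_compl, Fintype.card_fin]; omega)
  rw [Finset.mem_compl] at hp hr
  by_cases h : Perm.sign g = 1
  · exact ⟨g, h, hg⟩
  · refine ⟨g * swap p r, ?_, fun x hx => ?_⟩
    · rw [Perm.mem_alternatingGroup, map_mul, Perm.sign_swap hpr, (Int.units_eq_one_or _).resolve_left h]
      rfl
    · rw [Perm.mul_apply, swap_apply_of_ne_of_ne (by rintro rfl; exact hp hx) (by rintro rfl; exact hr hx), hg x hx]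

/-- The even permutations. -/
def evens (n : ℕ) : Finset (Perm (Fin n)) := Finset.univ.filter fun g => Perm.sign g = 1

theorem mem_evens {g : Perm (Fin n)} : g ∈ evens n ↔ g ∈ alternatingGroup (Fin n) := by simp [evens, Perm.mem_alternatingGroup]

theorem count_one (hn : 5 ≤ n) (j x : Fin n) : n * ((evens n).filter fun g => g j = x).card = (evens n).card := by
  have h : ∀ y, ((evens n).filter fun g => g j = y).card = ((evens n).filter fun g => g j = x).card := by
    intro y
    obtain ⟨t, ht, htx⟩ := exists_even {y} (fun _ => x) (by simp) (by simp; omega)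
    have := htx y (Finset.mem_singleton_self y)
    refine Finset.card_nbij' (t * ·) (t⁻¹ * ·) ?_ ?_ (fun g _ => inv_mul_cancel_left t g) (fun g _ => mul_inv_cancel_left t g)
    · intro g hg
      simp only [Finset.coe_filter, Set.mem_setOf_eq, mem_evens] at hg ⊢
      exact ⟨mul_mem ht hg.1, by rw [Perm.mul_apply, hg.2, this]⟩
    · intro g hg
      simp only [Finset.coe_filter, Set.mem_setOf_eq, mem_evens] at hg ⊢
      exact ⟨mul_mem (inv_mem ht) hg.1, by rw [Perm.mul_apply, hg.2, ← this]; simp⟩
  conv_rhs => rw [Finset.card_eq_sum_card_fiberwise (f := fun g : Perm (Fin n) => g j) (t := Finset.univ) (by simp)]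
  rw [Finset.sum_congr rfl fun y _ => h y, Finset.sum_const, Finset.card_univ, Fintype.card_fin, smul_eq_mul]

theorem count_two (hn : 5 ≤ n) {j j' x x' : Fin n} (hj : j ≠ j') (hx : x ≠ x') :
    n * (n - 1) * ((evens n).filter fun g => g j = x ∧ g j' = x').card = (evens n).card := by
  set T := (Finset.univ : Finset (Fin n)).offDiag
  have h : ∀ y ∈ T, ((evens n).filter fun g => (g j, g j') = y).card =
      ((evens n).filter fun g => g j = x ∧ g j' = x').card := by
    rintro ⟨y, y'⟩ hy
    have hyy : y ≠ y' := (Finset.mem_offDiag.1 hy).2.2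
    obtain ⟨t, ht, htx⟩ := exists_even {y, y'} (fun z => if z = y then x else x') (by
      intro a ha b hb hab
      simp only [Finset.coe_pair, Set.mem_insert_iff, Set.mem_singleton_iff] at ha hb
      rcases ha with rfl | rfl <;> rcases hb with rfl | rfl <;> simp_all [Ne.symm hyy]) (by
      rw [Finset.card_pair hyy]; omega)
    have e1 := htx y (by simp)
    have e2 := htx y' (by simp)
    simp only [if_true, if_neg (Ne.symm hyy)] at e1 e2
    refine Finset.card_nbij' (t * ·) (t⁻¹ * ·) ?_ ?_ (fun g _ => inv_mul_cancel_left t g) (fun g _ => mul_inv_cancel_left t g)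
    · intro g hg
      simp only [Finset.coe_filter, Set.mem_setOf_eq, mem_evens, Prod.ext_iff] at hg ⊢
      exact ⟨mul_mem ht hg.1, by rw [Perm.mul_apply, hg.2.1, e1], by rw [Perm.mul_apply, hg.2.2, e2]⟩
    · intro g hg
      simp only [Finset.coe_filter, Set.mem_setOf_eq, mem_evens, Prod.ext_iff] at hg ⊢
      exact ⟨mul_mem (inv_mem ht) hg.1, by rw [Perm.mul_apply, hg.2.1, ← e1]; simp,
        by rw [Perm.mul_apply, hg.2.2, ← e2]; simp⟩
  conv_rhs => rw [Finset.card_eq_sum_card_fiberwise (f := fun g : Perm (Fin n) => (g j, g j')) (t := T)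
    (fun g _ => by simp [T, hj])]
  rw [Finset.sum_congr rfl h, Finset.sum_const, smul_eq_mul, Finset.offDiag_card, Finset.card_univ,
    Fintype.card_fin, Nat.mul_sub_one]

theorem five_odd_centralizer : ∀ c : Perm (Fin 5), (Finset.univ.filter fun i => c i = i).card = 1 →
    ∃ t : Perm (Fin 5), Perm.sign t = -1 ∧ t * c = c * t := by
  decide +kernel

theorem not_constant_aux (hn : 5 ≤ n) (a b : Perm (Fin n)) (ha : a ≠ 1) (hb : b ≠ 1)
    (hkl : (fx b).card ≤ (fx a).card) (M : ℕ)
    (hM : ∀ g ∈ alternatingGroup (Fin n), (fx (a * (g * b * g⁻¹))).card = M) : False := by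
  classical
  set c := a⁻¹ with hc
  set k := (fx b).card with hk
  set l := (fx a).card with hl
  have hfc : ∀ i, c i = i ↔ a i = i := fun i => by
    rw [hc, Perm.inv_eq_iff_eq]; exact eq_comm
  have hfix : ∀ (g : Perm (Fin n)) (j : Fin n), g j ∈ fx (a * (g * b * g⁻¹)) ↔ g (b j) = c (g j) := by
    intro g j
    rw [mem_fx, hc, Perm.eq_inv_iff_eq]
    simp
  have hsum : (evens n).card * M = ∑ j, ((evens n).filter fun g => g (b j) = c (g j)).card := by
    have : ∀ g ∈ evens n, (Finset.univ.filter fun j => g (b j) = c (g j)).card = M := fun g hg => by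
      rw [← hM g (mem_evens.1 hg)]
      refine Finset.card_bij (fun j _ => g j) (fun j hj => (hfix g j).2 (Finset.mem_filter.1 hj).2)
        (fun _ _ _ _ h => g.injective h) fun i hi => ⟨g⁻¹ i, ?_, by simp⟩
      rw [Finset.mem_filter]
      exact ⟨Finset.mem_univ _, (hfix g _).1 (by simpa using hi)⟩
    simp only [Finset.card_filter] at this ⊢
    rw [Finset.sum_comm, Finset.sum_congr rfl this, Finset.sum_const, smul_eq_mul]
  have h1 : ∀ j ∈ fx b, n * (n - 1) * ((evens n).filter fun g => g (b j) = c (g j)).card =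
      (evens n).card * (l * (n - 1)) := by
    intro j hj
    rw [mem_fx] at hj
    have e : ((evens n).filter fun g => g (b j) = c (g j)) = (fx a).biUnion fun x => (evens n).filter fun g => g j = x := by
      ext g
      simp only [Finset.mem_filter, Finset.mem_biUnion, hj, mem_fx]
      constructor
      · rintro ⟨h1, h2⟩
        exact ⟨g j, (hfc _).1 h2.symm, h1, rfl⟩
      · rintro ⟨x, hx, h1, rfl⟩
        exact ⟨h1, ((hfc _).2 hx).symm⟩
    rw [e, Finset.card_biUnion (fun x _ y _ hxy => Finset.disjoint_filter.2 fun g _ h h' => hxy (h ▸ h')),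
      Finset.mul_sum, Finset.sum_congr rfl fun x _ => show n * (n - 1) * _ = (evens n).card * (n - 1) by
        rw [← count_one hn j x]; ring,
      Finset.sum_const, smul_eq_mul, hl]
    ring
  have h2 : ∀ j ∈ (fx b)ᶜ, n * (n - 1) * ((evens n).filter fun g => g (b j) = c (g j)).card =
      (evens n).card * (n - l) := by
    intro j hj
    rw [Finset.mem_compl, mem_fx] at hj
    have e : ((evens n).filter fun g => g (b j) = c (g j)) =
        (fx a)ᶜ.biUnion fun x => (evens n).filter fun g => g j = x ∧ g (b j) = c x := by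
      ext g
      simp only [Finset.mem_filter, Finset.mem_biUnion, Finset.mem_compl, mem_fx]
      constructor
      · rintro ⟨h1, h2⟩
        exact ⟨g j, fun h => hj (g.injective (by rw [h2, (hfc _).2 h])), h1, rfl, h2⟩
      · rintro ⟨x, hx, h1, rfl, h2⟩
        exact ⟨h1, h2⟩
    rw [e, Finset.card_biUnion (fun x _ y _ hxy => Finset.disjoint_filter.2 fun g _ h h' => hxy (h.1 ▸ h'.1)),
      Finset.mul_sum, Finset.sum_congr rfl fun x hx => count_two hn (Ne.symm hj) (fun h => by
        rw [Finset.mem_compl, mem_fx] at hx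
        exact hx ((hfc x).1 h.symm)),
      Finset.sum_const, smul_eq_mul, Finset.card_compl, Fintype.card_fin, hl, mul_comm]
  have hpos : 0 < (evens n).card := Finset.card_pos.2 ⟨1, mem_evens.2 (one_mem _)⟩
  have mean : n * (n - 1) * M = k * (l * (n - 1)) + (n - k) * (n - l) := by
    refine Nat.eq_of_mul_eq_mul_left hpos ?_
    rw [mul_left_comm, hsum, ← Finset.sum_add_sum_compl (fx b), mul_add, Finset.mul_sum, Finset.mul_sum,
      Finset.sum_congr rfl h1, Finset.sum_congr rfl h2, Finset.sum_const, Finset.sum_const, Finset.card_compl,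
      Fintype.card_fin, smul_eq_mul, smul_eq_mul, ← hk]
    ring
  obtain ⟨u, hu⟩ : ∃ u, b u ≠ u := by
    by_contra h; push_neg at h; exact hb (Equiv.ext h)
  obtain ⟨x, hx⟩ : ∃ x, c x ≠ x := by
    by_contra h; push_neg at h; exact ha (Equiv.ext fun i => (hfc i).1 (h i))
  have hbu : b (b u) ≠ b u := fun h => hu (b.injective h)
  have hcx : c (c x) ≠ c x := fun h => hx (c.injective h)
  have hlen : (fx a).card + 2 ≤ n := by
    have hd : Disjoint (fx a) {x, c x} := by
      rw [Finset.disjoint_left]
      intro i hi hi'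
      simp only [Finset.mem_insert, Finset.mem_singleton] at hi'
      rw [mem_fx, ← hfc] at hi
      rcases hi' with rfl | rfl
      · exact hx hi
      · exact hcx hi
    have := Finset.card_le_univ (fx a ∪ {x, c x})
    rw [Finset.card_union_of_disjoint hd, Finset.card_pair (Ne.symm hx), Fintype.card_fin] at this
    exact this
  obtain ⟨W, hWsub, hWcard⟩ := Finset.exists_subset_card_eq hkl
  let e : {i // i ∈ fx b} ≃ {i // i ∈ W} := Finset.equivOfCardEq (by rw [hWcard])
  let f : Fin n → Fin n := fun i => if h : i ∈ fx b then e ⟨i, h⟩ else if i = u then x else c x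
  set S := fx b ∪ {u, b u}
  have huS : u ∉ fx b := by rw [mem_fx]; exact hu
  have hbuS : b u ∉ fx b := by rw [mem_fx]; exact hbu
  have fu : f u = x := by simp [f, huS]
  have fbu : f (b u) = c x := by simp [f, hbuS, hu]
  have ffix : ∀ i (h : i ∈ fx b), f i = (e ⟨i, h⟩ : Fin n) := fun i h => by simp [f, h]
  have hxW : x ∉ W := fun h => hx ((hfc x).2 (mem_fx.1 (hWsub h)))
  have hcxW : c x ∉ W := fun h => hcx ((hfc _).2 (mem_fx.1 (hWsub h)))
  have hinj : Set.InjOn f S := by
    intro i hi i' hi' h
    simp only [S, Finset.coe_union, Finset.coe_pair, Set.mem_union, Set.mem_insert_iff, Set.mem_singleton_iff,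
      Finset.mem_coe] at hi hi'
    rcases hi with hi | rfl | rfl <;> rcases hi' with hi' | rfl | rfl
    · rw [ffix i hi, ffix i' hi'] at h
      exact congrArg Subtype.val (e.injective (Subtype.ext h))
    · rw [ffix i hi, fu] at h; exact absurd (h ▸ (e ⟨i, hi⟩).2) hxW
    · rw [ffix i hi, fbu] at h; exact absurd (h ▸ (e ⟨i, hi⟩).2) hcxW
    · rw [ffix i' hi', fu] at h; exact absurd (h.symm ▸ (e ⟨i', hi'⟩).2) hxW
    · rfl
    · rw [fu, fbu] at h; exact absurd h.symm hx
    · rw [ffix i' hi', fbu] at h; exact absurd (h.symm ▸ (e ⟨i', hi'⟩).2) hcxW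
    · rw [fu, fbu] at h; exact absurd h hx
    · rfl
  have hScard : S.card = k + 2 := by
    rw [Finset.card_union_of_disjoint ?_, Finset.card_pair (Ne.symm hu)]
    rw [Finset.disjoint_left]
    intro i hi hi'
    simp only [Finset.mem_insert, Finset.mem_singleton] at hi'
    rcases hi' with rfl | rfl
    · exact huS hi
    · exact hbuS hi
  obtain ⟨g, hg, hgu, hgbu, hgfix⟩ : ∃ g ∈ alternatingGroup (Fin n), g u = x ∧ g (b u) = c x ∧
      ∀ i ∈ fx b, g i ∈ fx a := by
    have good : ∀ g : Perm (Fin n), (∀ i ∈ S, g i = f i) → g u = x ∧ g (b u) = c x ∧ ∀ i ∈ fx b, g i ∈ fx a :=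
      fun g hg => ⟨(hg u (by simp [S])).trans fu, (hg _ (by simp [S])).trans fbu, fun i hi => by
        rw [hg i (Finset.mem_union_left _ hi), ffix i hi]; exact hWsub (e ⟨i, hi⟩).2⟩
    by_cases hk2 : k + 4 ≤ n
    · obtain ⟨g, hg, hgf⟩ := exists_even S f hinj (by omega)
      exact ⟨g, hg, good g hgf⟩
    · obtain ⟨g, hgf⟩ := exists_perm S f hinj
      obtain ⟨hgu, hgbu, hgfix⟩ := good g hgf
      obtain ⟨p, hp, r, hr, hpr⟩ := Finset.one_lt_card.1 (show 1 < (fx b).card by omega)
      by_cases h : Perm.sign g = 1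
      · exact ⟨g, h, hgu, hgbu, hgfix⟩
      · refine ⟨g * swap p r, ?_, ?_, ?_, fun i hi => ?_⟩
        · rw [Perm.mem_alternatingGroup, map_mul, Perm.sign_swap hpr, (Int.units_eq_one_or _).resolve_left h]
          rfl
        · rw [Perm.mul_apply, swap_apply_of_ne_of_ne (by rintro rfl; exact huS hp) (by rintro rfl; exact huS hr), hgu]
        · rw [Perm.mul_apply, swap_apply_of_ne_of_ne (fun e => hbuS (by rw [e]; exact hp)) (fun e => hbuS (by rw [e]; exact hr)), hgbu]
        · rw [Perm.mul_apply]
          apply hgfix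
          rcases eq_or_ne i p with rfl | h1
          · rwa [swap_apply_left]
          rcases eq_or_ne i r with rfl | h2
          · rwa [swap_apply_right]
          rwa [swap_apply_of_ne_of_ne h1 h2]
  have hkM : k + 1 ≤ M := by
    rw [← hM g hg]
    have hsub : (insert u (fx b)).image g ⊆ fx (a * (g * b * g⁻¹)) := by
      intro i hi
      obtain ⟨j, hj, rfl⟩ := Finset.mem_image.1 hi
      rw [hfix]
      rcases Finset.mem_insert.1 hj with rfl | hj
      · rw [hgbu, hgu]
      · rw [mem_fx.1 hj, (hfc _).2 (mem_fx.1 (hgfix j hj))]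
    have := Finset.card_le_card hsub
    rwa [Finset.card_image_of_injective _ g.injective, Finset.card_insert_of_notMem huS] at this
  obtain ⟨N, hN⟩ : ∃ N, n = N + 1 := ⟨n - 1, by omega⟩
  obtain ⟨L, hL⟩ : ∃ L, n = l + L := ⟨n - l, by omega⟩
  obtain ⟨K, hK⟩ : ∃ K, n = k + K := ⟨n - k, by omega⟩
  rw [show n - 1 = N by omega, show n - l = L by omega, show n - k = K by omega] at mean
  have hb1 : n * N * (k + 1) ≤ k * (l * N) + K * L := mean ▸ Nat.mul_le_mul_left _ hkM
  rcases Nat.eq_zero_or_pos k with hk0 | hk0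
  · have hKn : K = n := by omega
    rw [hk0, zero_mul, zero_add, hKn] at mean
    have hL' : N * M = L := Nat.eq_of_mul_eq_mul_left (show 0 < n by omega) (by rw [← mul_assoc, mean])
    have hM2 : M < 2 := by
      by_contra h
      have : N * 2 ≤ N * M := Nat.mul_le_mul_left _ (by omega)
      omega
    have hM1 : M = 1 := by omega
    rw [hM1, mul_one] at hL'
    have hl1 : l = 1 := by omega
    rcases (show n = 5 ∨ 6 ≤ n by omega) with rfl | h6
    · obtain ⟨t, ht, htc⟩ := five_odd_centralizer c (by
        rw [← hl1, hl, fx]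
        exact congrArg Finset.card (Finset.filter_congr fun i _ => hfc i))
      obtain ⟨z, hz, hz1, hz2⟩ : ∃ z, c z ≠ z ∧ z ∉ ({x, c x} : Finset (Fin 5)) ∧ c z ∉ ({x, c x} : Finset (Fin 5)) := by
        obtain ⟨z, hz⟩ : ∃ z, z ∉ fx a ∪ {x, c x, c⁻¹ x} := by
          by_contra h; push_neg at h
          have := (Finset.card_le_card (fun i _ => h i : Finset.univ ⊆ fx a ∪ {x, c x, c⁻¹ x})).trans
            ((Finset.card_union_le _ _).trans (Nat.add_le_add_left Finset.card_le_three _))
          rw [Finset.card_univ, Fintype.card_fin] at this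
          omega
        simp only [Finset.mem_union, Finset.mem_insert, Finset.mem_singleton, not_or, mem_fx] at hz
        refine ⟨z, fun h => hz.1 ((hfc z).1 h), by simp [hz.2.1, hz.2.2.1], ?_⟩
        simp only [Finset.mem_insert, Finset.mem_singleton, not_or]
        exact ⟨fun h => hz.2.2.2 (by rw [← h]; simp), fun h => hz.2.1 (c.injective h)⟩
      obtain ⟨w, hw1, hw2⟩ : ∃ w, w ∉ ({u, b u} : Finset (Fin 5)) ∧ b w ∉ ({u, b u} : Finset (Fin 5)) := by
        obtain ⟨w, hw⟩ : ∃ w, w ∉ ({u, b u, b⁻¹ u} : Finset (Fin 5)) := by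
          by_contra h; push_neg at h
          have := (Finset.card_le_card (fun i _ => h i : Finset.univ ⊆ ({u, b u, b⁻¹ u} : Finset (Fin 5)))).trans
            Finset.card_le_three
          rw [Finset.card_univ, Fintype.card_fin] at this
          omega
        simp only [Finset.mem_insert, Finset.mem_singleton, not_or] at hw
        refine ⟨w, by simp [hw.1, hw.2.1], ?_⟩
        simp only [Finset.mem_insert, Finset.mem_singleton, not_or]
        exact ⟨fun h => hw.2.2 (by rw [← h]; simp), fun h => hw.1 (b.injective h)⟩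
      obtain ⟨g', hg'⟩ := exists_perm {u, b u, w, b w}
        (fun i => if i = u then x else if i = b u then c x else if i = w then z else c z) (by
          simp only [Finset.mem_insert, Finset.mem_singleton, not_or] at hw1 hw2 hz1 hz2
          have hbw : b w ≠ w := fun h => by
            have : w ∈ fx b := mem_fx.2 h
            rw [Finset.card_eq_zero.1 hk0] at this; simp at this
          intro i hi i' hi'
          simp only [Finset.coe_insert, Finset.coe_singleton, Set.mem_insert_iff, Set.mem_singleton_iff] at hi hi'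
          rcases hi with rfl | rfl | rfl | rfl <;> rcases hi' with rfl | rfl | rfl | rfl <;>
            simp [hu, Ne.symm hu, hw1, hw2, hbw, Ne.symm hbw, Ne.symm hw1.1, Ne.symm hw1.2, hx, Ne.symm hx, hz,
              Ne.symm hz, hz1, hz2, Ne.symm hz1.1, Ne.symm hz1.2, Ne.symm hz2.1, Ne.symm hz2.2, Ne.symm hw2.1,
              Ne.symm hw2.2, hbu])
      simp only [Finset.mem_insert, Finset.mem_singleton, not_or] at hw1 hw2 hz1 hz2
      have hbw : b w ≠ w := fun h => by
        have : w ∈ fx b := mem_fx.2 h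
        rw [Finset.card_eq_zero.1 hk0] at this; simp at this
      have e1 : g' (b u) = c (g' u) := by
        rw [hg' (b u) (by simp), hg' u (by simp)]; simp [hu]
      have e2 : g' (b w) = c (g' w) := by
        rw [hg' (b w) (by simp), hg' w (by simp)]
        simp [hw1.1, hw1.2, hw2.1, hw2.2, hbw]
      obtain ⟨g'', hg'', e1', e2'⟩ : ∃ g'' ∈ alternatingGroup (Fin 5), g'' (b u) = c (g'' u) ∧ g'' (b w) = c (g'' w) := by
        by_cases h : Perm.sign g' = 1
        · exact ⟨g', h, e1, e2⟩
        · have hcomm : ∀ i, t (c i) = c (t i) := fun i => DFunLike.congr_fun htc i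
          refine ⟨t * g', ?_, ?_, ?_⟩
          · rw [Perm.mem_alternatingGroup, map_mul, ht, (Int.units_eq_one_or _).resolve_left h]
            rfl
          · simp only [Perm.mul_apply, e1, hcomm]
          · simp only [Perm.mul_apply, e2, hcomm]
      have := hM g'' hg''
      have hsub : ({g'' u, g'' w} : Finset (Fin 5)) ⊆ fx (a * (g'' * b * g''⁻¹)) := by
        intro i hi
        rcases Finset.mem_insert.1 hi with rfl | hi
        · exact (hfix _ _).2 e1'
        · rw [Finset.mem_singleton.1 hi]; exact (hfix _ _).2 e2'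
      have h2 := Finset.card_le_card hsub
      rw [Finset.card_pair (fun h => hw1.1 (g''.injective h).symm)] at h2
      omega
    · obtain ⟨z, hz⟩ : ∃ z, z ∉ fx a ∪ {x, c x, c⁻¹ x} := by
        by_contra h; push_neg at h
        have := (Finset.card_le_card (fun i _ => h i : Finset.univ ⊆ fx a ∪ {x, c x, c⁻¹ x})).trans
          ((Finset.card_union_le _ _).trans (Nat.add_le_add_left Finset.card_le_three _))
        rw [Finset.card_univ, Fintype.card_fin] at this
        omega
      obtain ⟨w, hw⟩ : ∃ w, w ∉ ({u, b u, b⁻¹ u} : Finset (Fin n)) := by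
        by_contra h; push_neg at h
        have := (Finset.card_le_card (fun i _ => h i : Finset.univ ⊆ ({u, b u, b⁻¹ u} : Finset (Fin n)))).trans
          Finset.card_le_three
        rw [Finset.card_univ, Fintype.card_fin] at this
        omega
      simp only [Finset.mem_union, Finset.mem_insert, Finset.mem_singleton, not_or, mem_fx] at hz hw
      have hz0 : c z ≠ z := fun h => hz.1 ((hfc z).1 h)
      have hzx : c z ≠ x := fun h => hz.2.2.2 (by rw [← h]; simp)
      have hzc : c z ≠ c x := fun h => hz.2.1 (c.injective h)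
      have hbw : b w ≠ w := fun h => by
        have : w ∈ fx b := mem_fx.2 h
        rw [Finset.card_eq_zero.1 hk0] at this; simp at this
      have hwu : b w ≠ u := fun h => hw.2.2 (by rw [← h]; simp)
      have hwb : b w ≠ b u := fun h => hw.1 (b.injective h)
      obtain ⟨g', hg'e, hg'⟩ := exists_even {u, b u, w, b w}
        (fun i => if i = u then x else if i = b u then c x else if i = w then z else c z) (by
          intro i hi i' hi'
          simp only [Finset.coe_insert, Finset.coe_singleton, Set.mem_insert_iff, Set.mem_singleton_iff] at hi hi'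
          rcases hi with rfl | rfl | rfl | rfl <;> rcases hi' with rfl | rfl | rfl | rfl <;>
            simp [hu, Ne.symm hu, hw.1, Ne.symm hw.1, hw.2.1, Ne.symm hw.2.1, hbw, Ne.symm hbw, hwu, Ne.symm hwu, hwb,
              Ne.symm hwb, hx, Ne.symm hx, hz0, Ne.symm hz0, hzx, Ne.symm hzx, hzc, Ne.symm hzc, hz.2.1,
              Ne.symm hz.2.1, hz.2.2.1, Ne.symm hz.2.2.1, hbu]) (by
          have := Finset.card_le_four (a := u) (b := b u) (c := w) (d := b w)
          omega)
      have e1 : g' (b u) = c (g' u) := by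
        rw [hg' (b u) (by simp), hg' u (by simp)]; simp [hu]
      have e2 : g' (b w) = c (g' w) := by
        rw [hg' (b w) (by simp), hg' w (by simp)]
        simp [hw.1, hw.2.1, hwu, hwb, hbw]
      have := hM g' hg'e
      have hsub : ({g' u, g' w} : Finset (Fin n)) ⊆ fx (a * (g' * b * g'⁻¹)) := by
        intro i hi
        rcases Finset.mem_insert.1 hi with rfl | hi
        · exact (hfix _ _).2 e1
        · rw [Finset.mem_singleton.1 hi]; exact (hfix _ _).2 e2
      have h2 := Finset.card_le_card hsub
      rw [Finset.card_pair (fun h => hw.1 (g'.injective h).symm)] at h2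
      omega
  · have h3 : K * L ≤ N * N := Nat.mul_le_mul (by omega) (by omega)
    have h4 : N * (k * l) ≤ N * (n * k) := Nat.mul_le_mul_left _ (by rw [mul_comm n k]; exact Nat.mul_le_mul_left _ (by omega))
    subst hN
    nlinarith

/-- Let n ≥ 5 and let a, b be non-identity permutations in the symmetric group S_n. Then the number of fixed points is not constant on the set of products a′b′ with a′ conjugate to a and b′ conjugate to b under the alternating group: there are even permutations g₁, h₁, g₂, h₂ such that (g₁ a g₁⁻¹)(h₁ b h₁⁻¹) and (g₂ a g₂⁻¹)(h₂ b h₂⁻¹) have different numbers of fixed points. -/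
theorem result (n : ℕ) (hn : 5 ≤ n) (a b : Equiv.Perm (Fin n)) (ha : a ≠ 1) (hb : b ≠ 1) :
    ∃ g₁ h₁ g₂ h₂ : Equiv.Perm (Fin n), g₁ ∈ alternatingGroup (Fin n) ∧ h₁ ∈ alternatingGroup (Fin n) ∧ g₂ ∈ alternatingGroup (Fin n) ∧ h₂ ∈ alternatingGroup (Fin n) ∧
      Nat.card (Function.fixedPoints ⇑(g₁ * a * g₁⁻¹ * (h₁ * b * h₁⁻¹))) ≠
        Nat.card (Function.fixedPoints ⇑(g₂ * a * g₂⁻¹ * (h₂ * b * h₂⁻¹))) := by
  by_contra hcon
  push_neg at hcon
  simp only [card_fx] at hcon
  set M := (fx (a * b)).card
  have h1 : ∀ g ∈ alternatingGroup (Fin n), (fx (a * (g * b * g⁻¹))).card = M := fun g hg => by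
    simpa [M] using hcon 1 g 1 1 (one_mem _) hg (one_mem _) (one_mem _)
  rcases le_total (fx b).card (fx a).card with h | h
  · exact not_constant_aux hn a b ha hb h M h1
  · refine not_constant_aux hn b a hb ha h M fun g hg => ?_
    rw [← h1 g⁻¹ (inv_mem hg), ← fx_conj g (a * (g⁻¹ * b * g⁻¹⁻¹)), ← fx_conj b⁻¹ (b * (g * a * g⁻¹))]
    congr 2
    group

end Cfsg.Agent.S2271
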