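import Cfsg.Statements.S2272
import Cfsg.Agent.Lib.Linear.SLn

set_option autoImplicit false
open Cfsg

namespace Cfsg.Agent.S2272

open Matrix
open scoped MatrixGroups

variable {ι F : Type*} [Fintype ι] [DecidableEq ι] [Field F]

local notation "SLι" => Matrix.SpecialLinearGroup ι F

/-- A linear functional, as a vector, separating a point from a subspace. -/
theorem exists_dot (S : Submodule F (ι → F)) {y : ι → F} (hy : y ∉ S) :
    ∃ φ : ι → F, φ ⬝ᵥ y = 1 ∧ ∀ s ∈ S, φ ⬝ᵥ s = 0 := by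
  obtain ⟨f, hf, hS⟩ := S.exists_dual_map_eq_bot_of_notMem hy inferInstance
  refine ⟨fun i => (f y)⁻¹ * f (Pi.single i 1), ?_⟩
  have key : ∀ u : ι → F, (fun i => (f y)⁻¹ * f (Pi.single i 1)) ⬝ᵥ u = (f y)⁻¹ * f u := by
    intro u
    conv_rhs => rw [pi_eq_sum_univ' u]
    simp only [map_sum, map_smul, dotProduct, Finset.mul_sum, smul_eq_mul]
    exact Finset.sum_congr rfl fun i _ => by ring
  refine ⟨by rw [key, inv_mul_cancel₀ hf], fun s hs => ?_⟩
  have : f s ∈ S.map f := Submodule.mem_map_of_mem hs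
  rw [hS, Submodule.mem_bot] at this
  rw [key, this, mul_zero]

/-- The transvection `1 + v φᵀ`. -/
def tw {v φ : ι → F} (h : φ ⬝ᵥ v = 0) : SLι :=
  ⟨1 + vecMulVec v φ, by
    rw [vecMulVec_eq Unit, det_one_add_replicateCol_mul_replicateRow, h, add_zero]⟩

theorem tw_mulVec {v φ : ι → F} (h : φ ⬝ᵥ v = 0) (u : ι → F) :
    (tw h : Matrix ι ι F) *ᵥ u = u + (φ ⬝ᵥ u) • v := by
  change (1 + vecMulVec v φ) *ᵥ u = _
  simp [add_mulVec, vecMulVec_mulVec]

theorem tw_inv_mulVec {v φ : ι → F} (h : φ ⬝ᵥ v = 0) (u : ι → F) :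
    ((tw h)⁻¹ : SLι).1 *ᵥ u = u - (φ ⬝ᵥ u) • v := by
  have h2 : (tw h : Matrix ι ι F) *ᵥ (u - (φ ⬝ᵥ u) • v) = u := by
    rw [tw_mulVec, dotProduct_sub, dotProduct_smul, h, smul_zero, sub_zero, sub_add_cancel]
  conv_lhs => rw [← h2, mulVec_mulVec, ← Matrix.SpecialLinearGroup.coe_mul, inv_mul_cancel,
    Matrix.SpecialLinearGroup.coe_one, one_mulVec]

/-- Change the image of `w₁` into `w₂`, fixing `v`. -/
theorem exists_fix_step {v w₁ w₂ : ι → F} (h : w₁ ∉ Submodule.span F {v, w₂ - w₁}) :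
    ∃ g : SLι, (g : Matrix ι ι F) *ᵥ v = v ∧ (g : Matrix ι ι F) *ᵥ w₁ = w₂ := by
  obtain ⟨φ, hφ, hS⟩ := exists_dot _ h
  have h1 : φ ⬝ᵥ v = 0 := hS v (Submodule.mem_span_of_mem (by simp))
  have h2 : φ ⬝ᵥ (w₂ - w₁) = 0 := hS _ (Submodule.mem_span_of_mem (by simp))
  refine ⟨tw h2, ?_, ?_⟩
  · rw [tw_mulVec, h1, zero_smul, add_zero]
  · rw [tw_mulVec, hφ, one_smul, add_sub_cancel]

theorem exists_notMem_span_pair (hd : 3 ≤ Fintype.card ι) (a b : ι → F) :
    ∃ c, c ∉ Submodule.span F {a, b} := by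
  classical
  by_contra hc
  simp only [not_exists, not_not] at hc
  have htop : Submodule.span F ({a, b} : Set (ι → F)) = ⊤ := Submodule.eq_top_iff'.2 hc
  have h1 := finrank_span_le_card (R := F) ({a, b} : Set (ι → F))
  rw [htop, finrank_top, Module.finrank_pi] at h1
  have h2 : ({a, b} : Set (ι → F)).toFinset.card ≤ 2 := by
    simpa using (Finset.card_le_two (a := a) (b := b))
  omega

theorem notMem_pair_of {v x y : ι → F} (hx : x ∉ Submodule.span F {v})
    (hy : y ∉ Submodule.span F {v, x}) : x ∉ Submodule.span F {v, y} := by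
  intro h
  obtain ⟨a, b, hab⟩ := Submodule.mem_span_pair.1 h
  by_cases hb : b = 0
  · subst hb
    rw [zero_smul, add_zero] at hab
    exact hx (Submodule.mem_span_singleton.2 ⟨a, hab⟩)
  · refine hy (Submodule.mem_span_pair.2 ⟨-(b⁻¹ * a), b⁻¹, ?_⟩)
    rw [← hab, smul_add, smul_smul, smul_smul, inv_mul_cancel₀ hb, one_smul, neg_smul]
    abel

/-- `SL_d`, `d ≥ 3`, is transitive on independent pairs. -/
theorem exists_pair [Nontrivial ι] (hd : 3 ≤ Fintype.card ι) {v₀ w₀ v w : ι → F}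
    (h0 : w₀ ∉ Submodule.span F {v₀}) (hv₀ : v₀ ≠ 0) (hv : v ≠ 0)
    (h : w ∉ Submodule.span F {v}) :
    ∃ g : SLι, (g : Matrix ι ι F) *ᵥ v₀ = v ∧ (g : Matrix ι ι F) *ᵥ w₀ = w := by
  obtain ⟨g, hg⟩ := Linear.exists_sl_smul_eq (F := F) hv₀ hv
  change (g : Matrix ι ι F) *ᵥ v₀ = v at hg
  set w₁ := (g : Matrix ι ι F) *ᵥ w₀ with hw₁
  have h1 : w₁ ∉ Submodule.span F {v} := by
    intro hm
    obtain ⟨a, ha⟩ := Submodule.mem_span_singleton.1 hm
    refine h0 (Submodule.mem_span_singleton.2 ⟨a, ?_⟩)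
    have hz : (g : Matrix ι ι F) *ᵥ (a • v₀) = (g : Matrix ι ι F) *ᵥ w₀ := by
      rw [mulVec_smul, hg, ha]
    have := congrArg (fun z => (g⁻¹ : SLι).1 *ᵥ z) hz
    simpa only [mulVec_mulVec, ← Matrix.SpecialLinearGroup.coe_mul, inv_mul_cancel,
      Matrix.SpecialLinearGroup.coe_one, one_mulVec] using this
  have step : ∀ x y : ι → F, x ∉ Submodule.span F {v} → y ∉ Submodule.span F {v, x} →
      ∃ g : SLι, (g : Matrix ι ι F) *ᵥ v = v ∧ (g : Matrix ι ι F) *ᵥ x = y := by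
    intro x y hx hy
    refine exists_fix_step (notMem_pair_of hx fun hm => hy ?_)
    have := Submodule.add_mem _ hm
      (Submodule.mem_span_of_mem (show x ∈ ({v, x} : Set (ι → F)) by simp))
    simpa using this
  by_cases hcase : w ∈ Submodule.span F {v, w₁}
  · obtain ⟨w₃, hw₃⟩ := exists_notMem_span_pair hd v w₁
    have hw₃v : w₃ ∉ Submodule.span F {v} := fun hm =>
      hw₃ (Submodule.span_mono (by simp) hm)
    obtain ⟨k₁, hk₁, hk₁'⟩ := step w₁ w₃ h1 hw₃
    have hw : w ∉ Submodule.span F {v, w₃} := by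
      intro hm
      obtain ⟨a, b, hab⟩ := Submodule.mem_span_pair.1 hm
      by_cases hb : b = 0
      · subst hb
        rw [zero_smul, add_zero] at hab
        exact h (Submodule.mem_span_singleton.2 ⟨a, hab⟩)
      · refine hw₃ ?_
        have : w₃ = b⁻¹ • (w - a • v) := by
          rw [← hab, add_sub_cancel_left, smul_smul, inv_mul_cancel₀ hb, one_smul]
        rw [this]
        exact Submodule.smul_mem _ _ (Submodule.sub_mem _ hcase
          (Submodule.smul_mem _ _ (Submodule.mem_span_of_mem (by simp))))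
    obtain ⟨k₂, hk₂, hk₂'⟩ := step w₃ w hw₃v hw
    refine ⟨k₂ * k₁ * g, ?_, ?_⟩
    · rw [Matrix.SpecialLinearGroup.coe_mul, Matrix.SpecialLinearGroup.coe_mul, ← mulVec_mulVec,
        ← mulVec_mulVec, hg, hk₁, hk₂]
    · rw [Matrix.SpecialLinearGroup.coe_mul, Matrix.SpecialLinearGroup.coe_mul, ← mulVec_mulVec,
        ← mulVec_mulVec, ← hw₁, hk₁', hk₂']
  · obtain ⟨k, hk, hk'⟩ := step w₁ w h1 hcase
    refine ⟨k * g, ?_, ?_⟩
    · rw [Matrix.SpecialLinearGroup.coe_mul, ← mulVec_mulVec, hg, hk]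
    · rw [Matrix.SpecialLinearGroup.coe_mul, ← mulVec_mulVec, ← hw₁, hk']

theorem exists_noneigen {A : SLι} (hA : A ∉ Subgroup.center SLι) :
    ∃ v : ι → F, (A : Matrix ι ι F) *ᵥ v ∉ Submodule.span F {v} := by
  classical
  by_contra hc
  simp only [not_exists, not_not] at hc
  choose c hc using fun v => Submodule.mem_span_singleton.1 (hc v)
  have hd : ∀ i j, (A : Matrix ι ι F) i j = if i = j then c (Pi.single j 1) else 0 := by
    intro i j
    have h2 := congrFun (hc (Pi.single j 1)) i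
    rw [mulVec_single_one, Pi.smul_apply, Pi.single_apply, smul_eq_mul] at h2
    rw [show (A : Matrix ι ι F) i j = _ from h2.symm]
    split <;> simp
  refine hA ?_
  rcases isEmpty_or_nonempty ι with he | ⟨⟨k⟩⟩
  · rw [Subsingleton.elim A 1]; exact one_mem _
  have hconst : ∀ j, c (Pi.single j 1) = c (Pi.single k 1) := by
    intro j
    by_cases hjk : j = k
    · rw [hjk]
    have h3 := hc (Pi.single j 1 + Pi.single k 1)
    rw [mulVec_add, ← hc (Pi.single j 1), ← hc (Pi.single k 1)] at h3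
    have hj := congrFun h3 j
    have hk := congrFun h3 k
    simp [hjk, Ne.symm hjk] at hj hk
    rw [← hj, ← hk]
  rw [Matrix.SpecialLinearGroup.mem_center_iff]
  have heq : (A : Matrix ι ι F) = scalar ι (c (Pi.single k 1)) := by
    ext i j
    rw [hd, hconst, scalar_apply, diagonal_apply]
  refine ⟨c (Pi.single k 1), ?_, heq.symm⟩
  have := A.2
  rw [heq, scalar_apply, det_diagonal, Finset.prod_const, Finset.card_univ] at this
  exact this

theorem exists_conj_pair [Nontrivial ι] (hd : 3 ≤ Fintype.card ι) {B : SLι}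
    (hB : B ∉ Subgroup.center SLι) {v w : ι → F} (hv : v ≠ 0)
    (h : w ∉ Submodule.span F {v}) :
    ∃ k : SLι, (k * B * k⁻¹ : SLι).1 *ᵥ v = w := by
  obtain ⟨v₀, h0⟩ := exists_noneigen hB
  have hv₀ : v₀ ≠ 0 := by rintro rfl; simp at h0
  obtain ⟨k, hk, hk'⟩ := exists_pair hd h0 hv₀ hv h
  refine ⟨k, ?_⟩
  rw [Matrix.SpecialLinearGroup.coe_mul, Matrix.SpecialLinearGroup.coe_mul, ← mulVec_mulVec, ← mulVec_mulVec]
  conv_lhs => rw [← hk]
  rw [mulVec_mulVec v₀ (k⁻¹ : SLι).1, ← Matrix.SpecialLinearGroup.coe_mul, inv_mul_cancel,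
    Matrix.SpecialLinearGroup.coe_one, one_mulVec, hk']

/-- The products of two noncentral classes of `SL_d`, `d ≥ 3`, take every trace. -/
theorem exists_trace_eq (hd : 3 ≤ Fintype.card ι) {A B : SLι}
    (hA : A ∉ Subgroup.center SLι) (hB : B ∉ Subgroup.center SLι) (t : F) :
    ∃ g h : SLι, ((g * A * g⁻¹ * (h * B * h⁻¹) : SLι) : Matrix ι ι F).trace = t := by
  have : Nontrivial ι := Fintype.one_lt_card_iff_nontrivial.1 (by omega)
  obtain ⟨v, hv⟩ := exists_noneigen hA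
  have hv0 : v ≠ 0 := by rintro rfl; simp at hv
  set a := (A : Matrix ι ι F) *ᵥ v with ha
  obtain ⟨w, hw⟩ := exists_notMem_span_pair hd v a
  have hwv : w ∉ Submodule.span F {v} := fun hm => hw (Submodule.span_mono (by simp) hm)
  obtain ⟨k, hk, hy⟩ : ∃ k : SLι, (k * B * k⁻¹ : SLι).1 *ᵥ v = w ∧
      (k * B * k⁻¹ : SLι).1 *ᵥ a - (A : Matrix ι ι F) *ᵥ w ∉ Submodule.span F {v} := by
    obtain ⟨k, hk⟩ := exists_conj_pair hd hB hv0 hwv
    by_cases hy : (k * B * k⁻¹ : SLι).1 *ᵥ a - (A : Matrix ι ι F) *ᵥ w ∈ Submodule.span F {v}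
    · obtain ⟨ψ, hψ, hS⟩ := exists_dot _ (notMem_pair_of hv hw)
      have h1 : ψ ⬝ᵥ v = 0 := hS v (Submodule.mem_span_of_mem (by simp))
      have h2 : ψ ⬝ᵥ w = 0 := hS w (Submodule.mem_span_of_mem (by simp))
      have hconj : ∀ u, ((tw h1 * k) * B * (tw h1 * k)⁻¹ : SLι).1 *ᵥ u =
          (tw h1 : Matrix ι ι F) *ᵥ ((k * B * k⁻¹ : SLι).1 *ᵥ ((tw h1)⁻¹ : SLι).1 *ᵥ u) := by
        intro u
        have e : (tw h1 * k) * B * (tw h1 * k)⁻¹ = tw h1 * (k * B * k⁻¹) * (tw h1)⁻¹ := by group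
        rw [e, Matrix.SpecialLinearGroup.coe_mul, Matrix.SpecialLinearGroup.coe_mul,
          ← mulVec_mulVec, ← mulVec_mulVec]
      refine ⟨tw h1 * k, ?_, ?_⟩
      · rw [hconj, tw_inv_mulVec, h1, zero_smul, sub_zero, hk, tw_mulVec, h2, zero_smul, add_zero]
      · rw [hconj, tw_inv_mulVec, hψ, one_smul, mulVec_sub, hk, tw_mulVec]
        intro hm
        have hc : (ψ ⬝ᵥ ((k * B * k⁻¹ : SLι).1 *ᵥ a - w)) • v ∈ Submodule.span F {v} :=
          Submodule.smul_mem _ _ (Submodule.mem_span_singleton_self v)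
        have := Submodule.sub_mem _ (Submodule.add_mem _ hy hc) hm
        refine hwv ?_
        convert this using 1
        abel
    · exact ⟨k, hk, hy⟩
  set A' := (A : Matrix ι ι F) with hA'
  set B' := (k * B * k⁻¹ : SLι).1 with hB'
  obtain ⟨φ, h1, h2, h3⟩ : ∃ φ : ι → F, φ ⬝ᵥ v = 0 ∧
      (φ ⬝ᵥ a) * (φ ⬝ᵥ w) = 0 ∧ φ ⬝ᵥ (B' *ᵥ a - A' *ᵥ w) = 1 := by
    by_cases hs : B' *ᵥ a - A' *ᵥ w ∈ Submodule.span F {v, a}
    · have hs' : B' *ᵥ a - A' *ᵥ w ∉ Submodule.span F {v, w} := by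
        intro hm
        obtain ⟨p, q, hpq⟩ := Submodule.mem_span_pair.1 hm
        by_cases hq : q = 0
        · subst hq
          rw [zero_smul, add_zero] at hpq
          exact hy (Submodule.mem_span_singleton.2 ⟨p, hpq⟩)
        · refine hw ?_
          have hwe : w = q⁻¹ • ((B' *ᵥ a - A' *ᵥ w) - p • v) := by
            rw [← hpq, add_sub_cancel_left, smul_smul, inv_mul_cancel₀ hq, one_smul]
          rw [hwe]
          exact Submodule.smul_mem _ _ (Submodule.sub_mem _ hs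
            (Submodule.smul_mem _ _ (Submodule.mem_span_of_mem (by simp))))
      obtain ⟨φ, hφ, hS⟩ := exists_dot _ hs'
      exact ⟨φ, hS v (Submodule.mem_span_of_mem (by simp)),
        by rw [hS w (Submodule.mem_span_of_mem (by simp)), mul_zero], hφ⟩
    · obtain ⟨φ, hφ, hS⟩ := exists_dot _ hs
      exact ⟨φ, hS v (Submodule.mem_span_of_mem (by simp)),
        by rw [hS a (Submodule.mem_span_of_mem (by simp)), zero_mul], hφ⟩
  have hs : ∀ s : F, ∃ g : SLι,
      ((g * A * g⁻¹ * (k * B * k⁻¹) : SLι) : Matrix ι ι F).trace = (A' * B').trace - s := by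
    intro s
    have h1' : (s • φ) ⬝ᵥ v = 0 := by rw [smul_dotProduct, h1, smul_zero]
    refine ⟨tw h1', ?_⟩
    have hinv : ((tw h1')⁻¹ : SLι).1 = 1 - s • vecMulVec v φ := by
      refine Matrix.mulVec_injective (funext fun u => ?_)
      rw [tw_inv_mulVec, sub_mulVec, one_mulVec, smul_mulVec, vecMulVec_mulVec, smul_dotProduct]
      simp [smul_smul]
    have htw : (tw h1' : Matrix ι ι F) = 1 + s • vecMulVec v φ := by
      change 1 + vecMulVec v (s • φ) = _
      rw [vecMulVec_smul]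
    rw [Matrix.SpecialLinearGroup.coe_mul, Matrix.SpecialLinearGroup.coe_mul, Matrix.SpecialLinearGroup.coe_mul, hinv,
      htw, ← hA', ← hB']
    simp only [mul_add, add_mul, sub_mul, mul_sub, one_mul, mul_one, smul_mul_assoc,
      mul_smul_comm, trace_add, trace_sub, trace_smul]
    have e1 : ((vecMulVec v φ) * A' * B').trace = φ ⬝ᵥ (A' *ᵥ w) := by
      rw [Matrix.mul_assoc, vecMulVec_mul, trace_vecMulVec, dotProduct_comm, ← hk, mulVec_mulVec,
        dotProduct_mulVec]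
    have e2 : (A' * (vecMulVec v φ) * B').trace = φ ⬝ᵥ (B' *ᵥ a) := by
      rw [mul_vecMulVec, vecMulVec_mul, trace_vecMulVec, dotProduct_comm, ← ha]
      exact (dotProduct_mulVec _ _ _).symm
    have e3 : ((vecMulVec v φ) * A' * (vecMulVec v φ) * B').trace = 0 := by
      rw [Matrix.mul_assoc (vecMulVec v φ), mul_vecMulVec, ← ha, vecMulVec_mul_vecMulVec,
        vecMulVec_mul, trace_vecMulVec, smul_vecMul, dotProduct_smul, dotProduct_comm v,
        ← dotProduct_mulVec, hk, smul_eq_mul]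
      exact h2
    rw [e1, e2, e3]
    rw [dotProduct_sub] at h3
    simp only [smul_eq_mul]
    linear_combination (-s) * h3
  obtain ⟨g, hg⟩ := hs ((A' * B').trace - t)
  exact ⟨g, k, by rw [hg, sub_sub_cancel]⟩

/-- Let F be a finite field and d ≥ 3, and let a, b be non-identity elements of PSL_d(F). Then the product of the conjugacy classes of a and b is not a single conjugacy class: there are conjugates a′ of a and b′ of b such that a′b′ is not conjugate to ab. -/
theorem result {F : Type*} [Field F] [Fintype F] (d : ℕ) (hd : 3 ≤ d)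
    (a b : Matrix.ProjectiveSpecialLinearGroup (Fin d) F) (ha : a ≠ 1) (hb : b ≠ 1) :
    ∃ g h : Matrix.ProjectiveSpecialLinearGroup (Fin d) F, ¬ IsConj (a * b) (g * a * g⁻¹ * (h * b * h⁻¹)) := by
  classical
  obtain ⟨A, rfl⟩ := QuotientGroup.mk_surjective a
  obtain ⟨B, rfl⟩ := QuotientGroup.mk_surjective b
  have hA : A ∉ Subgroup.center _ := fun h => ha ((QuotientGroup.eq_one_iff A).2 h)
  have hB : B ∉ Subgroup.center _ := fun h => hb ((QuotientGroup.eq_one_iff B).2 h)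
  have hd' : 3 ≤ Fintype.card (Fin d) := by simpa using hd
  by_contra hcon
  simp only [not_exists, not_not] at hcon
  have key : ∀ g h : Matrix.SpecialLinearGroup (Fin d) F, ∃ r : F, r ≠ 0 ∧
      ((g * A * g⁻¹ * (h * B * h⁻¹) : Matrix.SpecialLinearGroup (Fin d) F) : Matrix (Fin d) (Fin d) F).trace =
        r * ((A * B : Matrix.SpecialLinearGroup (Fin d) F) : Matrix (Fin d) (Fin d) F).trace := by
    intro g h
    obtain ⟨c, hc⟩ := isConj_iff.1 (hcon (g : _) (h : _))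
    obtain ⟨C, rfl⟩ := QuotientGroup.mk_surjective c
    rw [← QuotientGroup.mk_inv, ← QuotientGroup.mk_inv, ← QuotientGroup.mk_inv,
      ← QuotientGroup.mk_mul, ← QuotientGroup.mk_mul, ← QuotientGroup.mk_mul,
      ← QuotientGroup.mk_mul, ← QuotientGroup.mk_mul, ← QuotientGroup.mk_mul,
      ← QuotientGroup.mk_mul, ← QuotientGroup.mk_mul, QuotientGroup.eq,
      Matrix.SpecialLinearGroup.mem_center_iff] at hc
    obtain ⟨r, hr, hr'⟩ := hc
    refine ⟨r, fun e => ?_, ?_⟩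
    · rw [e, zero_pow (by rw [Fintype.card_fin]; omega)] at hr
      exact zero_ne_one hr
    generalize hP : g * A * g⁻¹ * (h * B * h⁻¹) = P at hr' ⊢
    have hPe : (P : Matrix (Fin d) (Fin d) F) =
        (C * (A * B) * C⁻¹ : Matrix.SpecialLinearGroup (Fin d) F).1 * Matrix.scalar (Fin d) r := by
      rw [hr', ← Matrix.SpecialLinearGroup.coe_mul, mul_inv_cancel_left]
    rw [hPe, Matrix.scalar_apply, ← Matrix.smul_one_eq_diagonal, mul_smul_comm, mul_one,
      Matrix.trace_smul, smul_eq_mul]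
    congr 1
    rw [Matrix.SpecialLinearGroup.coe_mul, Matrix.trace_mul_comm, ← Matrix.SpecialLinearGroup.coe_mul,
      inv_mul_cancel_left]
  obtain ⟨g0, h0, e0⟩ := exists_trace_eq hd' hA hB 0
  obtain ⟨g1, h1, e1⟩ := exists_trace_eq hd' hA hB 1
  obtain ⟨r0, hr0, k0⟩ := key g0 h0
  obtain ⟨r1, hr1, k1⟩ := key g1 h1
  rw [e0] at k0
  rw [e1] at k1
  rcases mul_eq_zero.1 k0.symm with h | h
  · exact hr0 h
  · rw [h, mul_zero] at k1
    exact one_ne_zero k1

end Cfsg.Agent.S2272
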