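import Cfsg.Statements.S2276
import Cfsg.Agent.EqLemmas
import Cfsg.Agent.Lib.AltPairs.Small

set_option autoImplicit false
open Cfsg

namespace Cfsg.Agent.S2276

/-- Let n ≥ 5, p ≥ 3 a prime, and u, w non-identity elements of p-power order in the alternating group A_n. Then there is g ∈ A_n such that u·(g w g⁻¹) does not have p-power order and ⟨u, g w g⁻¹⟩ is not solvable. -/
theorem result (n : ℕ) (hn : 5 ≤ n) (p : ℕ) (hp : p.Prime) (hp3 : 3 ≤ p) (u w : alternatingGroup (Fin n)) (hu : u ≠ 1) (hw : w ≠ 1)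
    (hu' : ∃ k : ℕ, orderOf u = p ^ k) (hw' : ∃ k : ℕ, orderOf w = p ^ k) :
    ∃ g : alternatingGroup (Fin n), (¬ ∃ k : ℕ, orderOf (u * (g * w * g⁻¹)) = p ^ k) ∧
      ¬ Group.IsSolvable ↥(Subgroup.closure ({u, g * w * g⁻¹} : Set (alternatingGroup (Fin n)))) := by
  haveI : Fact p.Prime := ⟨hp⟩
  have toPerm : ∀ {t : alternatingGroup (Fin n)}, t ≠ 1 → (∃ k : ℕ, orderOf t = p ^ k) →
      (t : Equiv.Perm (Fin n)) ≠ 1 ∧ ∃ k : ℕ, (t : Equiv.Perm (Fin n)) ^ (p ^ k) = 1 := by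
    rintro t ht ⟨k, hk⟩
    refine ⟨fun h => ht (Subtype.ext h), k, ?_⟩
    rw [← SubgroupClass.coe_pow, ← hk, pow_orderOf_eq_one]; rfl
  obtain ⟨hu1, i, hi⟩ := toPerm hu hu'
  obtain ⟨hw1, j, hj⟩ := toPerm hw hw'
  obtain ⟨π, hsign, hord, hsol⟩ := Cfsg.AltPairs.goodPair (p := p) (by omega)
    (by simpa using hn) (u : Equiv.Perm (Fin n)) (w : Equiv.Perm (Fin n)) hu1 hw1 hi hj
  refine ⟨⟨π, Equiv.Perm.mem_alternatingGroup.mpr hsign⟩, ?_, ?_⟩
  · rintro ⟨k, hk⟩
    exact hord ⟨k, by rw [← hk, ← Subgroup.orderOf_coe]; rfl⟩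
  · intro hcon
    apply hsol
    have himg : (Subgroup.closure ({u, (⟨π, Equiv.Perm.mem_alternatingGroup.mpr hsign⟩ :
          alternatingGroup (Fin n)) * w *
          (⟨π, Equiv.Perm.mem_alternatingGroup.mpr hsign⟩ : alternatingGroup (Fin n))⁻¹} :
          Set (alternatingGroup (Fin n)))).map (alternatingGroup (Fin n)).subtype
        = Subgroup.closure {(u : Equiv.Perm (Fin n)), π * (w : Equiv.Perm (Fin n)) * π⁻¹} := by
      rw [MonoidHom.map_closure, Set.image_pair]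
      rfl
    rw [← himg]
    exact Group.isSolvable_of_surjective
      ((alternatingGroup (Fin n)).subtype.subgroupMap_surjective _)

end Cfsg.Agent.S2276
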