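import Cfsg.Statements.S2277
import Cfsg.Agent.EqLemmas
import Cfsg.Agent.Lib.TwoSetsFixed.Basic

set_option autoImplicit false
open Cfsg
open scoped Pointwise

namespace Cfsg.Agent.S2277

/-- Let p ≥ 3 be prime and G a finite group with a Sylow p-subgroup P and a normal p-complement N (N normal, of order prime to p, with NP = G). Suppose P is generated by a subset C and also by a subset D, and that ⟨x c x⁻¹, d⟩ is a p-group for all x ∈ N, c ∈ C, d ∈ D. Then P centralizes N, so that G = N × P. -/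
theorem result {G : Type*} [Group G] [Finite G] (p : ℕ) [Fact p.Prime] (hp3 : 3 ≤ p) (P : Sylow p G)
    (N : Subgroup G) [N.Normal] (hN : (Nat.card N).Coprime p) (hNP : N ⊔ (P : Subgroup G) = ⊤)
    (C D : Set G) (hC : Subgroup.closure C = (P : Subgroup G)) (hD : Subgroup.closure D = (P : Subgroup G))
    (h : ∀ x ∈ N, ∀ c ∈ C, ∀ d ∈ D, IsPGroup p ↥(Subgroup.closure ({x * c * x⁻¹, d} : Set G))) :
    ⁅(P : Subgroup G), N⁆ = ⊥ := by
  classical
  rw [Subgroup.commutator_eq_bot_iff_le_centralizer]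
  let φ : ↥(P : Subgroup G) →* MulAut N := (MulAut.conjNormal (H := N)).comp (P : Subgroup G).subtype
  have hφ : ∀ (g : ↥(P : Subgroup G)) (x : N), ((φ g x : N) : G) = g * x * (g : G)⁻¹ := fun g x =>
    MulAut.conjNormal_apply _ _
  have hdisj : ∀ z : G, z ∈ N → z ∈ (P : Subgroup G) → z = 1 := fun z hz hz' => by
    obtain ⟨k, hk⟩ := P.isPGroup' ⟨z, hz'⟩
    have h1 : z ^ p ^ k = 1 := congrArg Subtype.val hk
    exact congrArg Subtype.val (Cfsg.Agent.TwoSetsFixed.eq_one_of_pow (m := (⟨z, hz⟩ : N)) (k := k) hN (Subtype.ext h1))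
  let C' : Set ↥(P : Subgroup G) := Subtype.val ⁻¹' C
  let D' : Set ↥(P : Subgroup G) := Subtype.val ⁻¹' D
  have hgen : ∀ X : Set G, Subgroup.closure X = (P : Subgroup G) →
      Subgroup.closure (Subtype.val ⁻¹' X : Set ↥(P : Subgroup G)) = ⊤ := fun X hX => by
    apply Subgroup.map_injective (Subgroup.subtype_injective _)
    rw [MonoidHom.map_closure, ← MonoidHom.range_eq_map, Subgroup.range_subtype]
    have hsub : X ⊆ Set.range (P : Subgroup G).subtype := fun x hx =>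
      ⟨⟨x, hX ▸ Subgroup.subset_closure hx⟩, rfl⟩
    have himg : (P : Subgroup G).subtype '' (Subtype.val ⁻¹' X) = X := Set.image_preimage_eq_of_subset hsub
    rw [himg, hX]
  have hfix := Cfsg.Agent.TwoSetsFixed.fixed_of_cond hp3 P.isPGroup' (hgen C hC) (hgen D hD) _ N φ rfl hN ?_
  · intro g hg
    rw [Subgroup.mem_centralizer_iff]
    intro x hx
    have h1 := congrArg Subtype.val (hfix ⟨g, hg⟩ ⟨x, hx⟩)
    rw [hφ] at h1
    exact (mul_inv_eq_iff_eq_mul.1 h1).symm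
  intro M hM x hx c hc d hd
  let M' : Subgroup G := M.map N.subtype
  have hnorm : (P : Subgroup G) ≤ Subgroup.normalizer (M' : Set G) := by
    intro g hg
    rw [Subgroup.mem_normalizer_iff]
    intro m
    constructor
    · rintro ⟨m', hm', rfl⟩
      exact ⟨φ ⟨g, hg⟩ m', hM _ m' hm', hφ _ _⟩
    · rintro ⟨m', hm', hm⟩
      refine ⟨φ ⟨g⁻¹, inv_mem hg⟩ m', hM _ m' hm', ?_⟩
      change ((φ ⟨g⁻¹, inv_mem hg⟩ m' : N) : G) = m
      rw [hφ]
      change (m' : G) = g * m * g⁻¹ at hm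
      rw [hm]
      group
  set L := M' ⊔ (P : Subgroup G) with hL
  set H := Subgroup.closure ({(x : G) * c.1 * (x : G)⁻¹, d.1} : Set G) with hH
  have hxM : (x : G) ∈ M' := ⟨x, hx, rfl⟩
  have hHL : H ≤ L := by
    rw [hH, Subgroup.closure_le]
    rintro z (rfl | rfl)
    · exact mul_mem (mul_mem (Subgroup.mem_sup_left hxM) (Subgroup.mem_sup_right c.2))
        (inv_mem (Subgroup.mem_sup_left hxM))
    · exact Subgroup.mem_sup_right d.2
  have hHp : IsPGroup p H := h x x.2 c.1 hc d.1 hd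
  obtain ⟨Q, hQ⟩ := IsPGroup.exists_le_sylow (P := H.subgroupOf L)
    (hHp.of_equiv (Subgroup.subgroupOfEquivOfLe hHL).symm)
  let PL : Sylow p L := P.subtype le_sup_right
  obtain ⟨g, hg⟩ := MulAction.exists_smul_eq L PL Q
  have hgm : (g : G) ∈ (M' : Set G) * ((P : Subgroup G) : Set G) := by
    rw [← Subgroup.coe_mul_of_right_le_normalizer_left _ _ hnorm]
    exact g.2
  obtain ⟨m, hm, u, hu, hmu⟩ := hgm
  change m * u = (g : G) at hmu
  have hin : ∀ z ∈ H, m⁻¹ * z * m ∈ (P : Subgroup G) := by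
    intro z hz
    have h1 : (⟨z, hHL hz⟩ : L) ∈ (Q : Subgroup L) := hQ hz
    rw [← hg, Sylow.coe_subgroup_smul, Subgroup.mem_pointwise_smul_iff_inv_smul_mem] at h1
    have h2 : (g : G)⁻¹ * z * (g : G) ∈ (P : Subgroup G) := h1
    rw [← hmu] at h2
    have h3 := mul_mem (mul_mem hu h2) (inv_mem hu)
    convert h3 using 1
    group
  obtain ⟨m0, hm0, rfl⟩ := hm
  refine ⟨m0, hm0, Subtype.ext ?_, Subtype.ext ?_⟩
  · rw [hφ]
    have hd' := hin d.1 (Subgroup.subset_closure (Or.inr rfl))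
    have h1 : d.1⁻¹ * ((m0 : G)⁻¹ * d.1 * (m0 : G)) = 1 := by
      refine hdisj _ ?_ (mul_mem (inv_mem d.2) hd')
      rw [show d.1⁻¹ * ((m0 : G)⁻¹ * d.1 * (m0 : G)) = d.1⁻¹ * (m0 : G)⁻¹ * (d.1⁻¹)⁻¹ * (m0 : G) by group]
      exact mul_mem (Subgroup.Normal.conj_mem inferInstance _ (inv_mem m0.2) _) m0.2
    have h2 : (m0 : G) = d.1 * m0 * d.1⁻¹ := by
      rw [inv_mul_eq_one] at h1
      nth_rewrite 2 3 [h1]
      group
    exact h2.symm
  · rw [hφ]
    have hc' := hin ((x : G) * c.1 * (x : G)⁻¹) (Subgroup.subset_closure (Or.inl rfl))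
    set y : N := m0⁻¹ * x with hy
    have hy' : (m0 : G)⁻¹ * ((x : G) * c.1 * (x : G)⁻¹) * (m0 : G) = (y : G) * c.1 * (y : G)⁻¹ := by
      rw [hy, Subgroup.coe_mul, Subgroup.coe_inv]
      group
    rw [show (N.subtype m0 : G) = (m0 : G) from rfl, hy'] at hc'
    have h1 : c.1⁻¹ * ((y : G) * c.1 * (y : G)⁻¹) = 1 := by
      refine hdisj _ ?_ (mul_mem (inv_mem c.2) hc')
      rw [show c.1⁻¹ * ((y : G) * c.1 * (y : G)⁻¹) = c.1⁻¹ * (y : G) * (c.1⁻¹)⁻¹ * (y : G)⁻¹ by group]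
      exact mul_mem (Subgroup.Normal.conj_mem inferInstance _ y.2 _) (inv_mem y.2)
    rw [inv_mul_eq_one] at h1
    rw [eq_comm, mul_inv_eq_iff_eq_mul] at h1
    rw [mul_inv_eq_iff_eq_mul]
    exact h1.symm

end Cfsg.Agent.S2277
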