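import Cfsg.Statements.S2279
import Cfsg.Agent.EqLemmas
import Cfsg.Agent.Lib.RegUnip.SLPairMain

set_option autoImplicit false
open Cfsg

namespace Cfsg.Agent.S2279

/-- Let F be a finite field with q elements and n ≥ 4. Then SL_n(F) is generated by two regular unipotent elements (elements u with u − 1 nilpotent and (u − 1)^(n−1) ≠ 0); if q is prime, the two can be taken conjugate in SL_n(F). -/
theorem result {F : Type*} [Field F] [Fintype F] (n : ℕ) (hn : 4 ≤ n) :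
    (∃ u v : Matrix.SpecialLinearGroup (Fin n) F, (IsNilpotent ((u : Matrix (Fin n) (Fin n) F) - 1) ∧ ((u : Matrix (Fin n) (Fin n) F) - 1) ^ (n - 1) ≠ 0) ∧ (IsNilpotent ((v : Matrix (Fin n) (Fin n) F) - 1) ∧ ((v : Matrix (Fin n) (Fin n) F) - 1) ^ (n - 1) ≠ 0) ∧
      Subgroup.closure ({u, v} : Set (Matrix.SpecialLinearGroup (Fin n) F)) = ⊤) ∧
    ((Fintype.card F).Prime → ∃ u g : Matrix.SpecialLinearGroup (Fin n) F, (IsNilpotent ((u : Matrix (Fin n) (Fin n) F) - 1) ∧ ((u : Matrix (Fin n) (Fin n) F) - 1) ^ (n - 1) ≠ 0) ∧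
      Subgroup.closure ({u, g * u * g⁻¹} : Set (Matrix.SpecialLinearGroup (Fin n) F)) = ⊤) := by
  haveI : NeZero n := ⟨by omega⟩
  obtain ⟨u, g, ⟨hu1, hu2⟩, hgen⟩ := Cfsg.Agent.RegUnip.Pair.twoConj_all (F := F) hn
  refine ⟨⟨u, g * u * g⁻¹, ⟨hu1, hu2⟩, ?_, hgen⟩, fun _ => ⟨u, g, ⟨hu1, hu2⟩, hgen⟩⟩
  let G := Matrix.SpecialLinearGroup.toGL g
  have e : ∀ k, (((g * u * g⁻¹ : Matrix.SpecialLinearGroup (Fin n) F) : Matrix (Fin n) (Fin n) F) - 1) ^ k =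
      (G : Matrix (Fin n) (Fin n) F) * (((u : Matrix (Fin n) (Fin n) F) - 1) ^ k) *
        ((G⁻¹ : GL (Fin n) F) : Matrix (Fin n) (Fin n) F) := fun k => by
    rw [← Units.conj_pow, mul_sub, sub_mul, mul_one, Units.mul_inv]
    congr 2
  obtain ⟨k, hk⟩ := hu1
  refine ⟨⟨k, ?_⟩, ?_⟩
  · rw [e, hk, mul_zero, zero_mul]
  · rw [e]
    intro h
    apply hu2
    have := congrArg (fun M => ((G⁻¹ : GL (Fin n) F) : Matrix (Fin n) (Fin n) F) * M *
      (G : Matrix (Fin n) (Fin n) F)) h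
    simpa [mul_assoc, ← mul_assoc ((G⁻¹ : GL (Fin n) F) : Matrix (Fin n) (Fin n) F)] using this

end Cfsg.Agent.S2279
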