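import Cfsg.Statements.S2281
import Cfsg.Agent.Lib.RegUnip.SpMain
import Cfsg.Agent.Lib.Linear.Symplectic
import Cfsg.Agent.EqLemmas

set_option autoImplicit false
open Cfsg

namespace Cfsg.Agent.S2281

/-- Let F be a finite field and n ≥ 2, excluding the case n = 2 with F of two elements (where the group is not quasisimple). Then the symplectic group Sp_2n(F) is generated by three conjugate regular unipotent elements: there are u ∈ Sp_2n(F) with u − 1 nilpotent and (u − 1)^(2n−1) ≠ 0, and g, h ∈ Sp_2n(F), such that u, g u g⁻¹ and h u h⁻¹ generate Sp_2n(F). -/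
theorem result {F : Type*} [Field F] [Fintype F] (n : ℕ) (hn : 2 ≤ n) (h22 : ¬ (n = 2 ∧ Fintype.card F = 2)) :
    ∃ u g h : Matrix.symplecticGroup (Fin n) F,
      IsNilpotent ((u : Matrix (Fin n ⊕ Fin n) (Fin n ⊕ Fin n) F) - 1) ∧
      ((u : Matrix (Fin n ⊕ Fin n) (Fin n ⊕ Fin n) F) - 1) ^ (2 * n - 1) ≠ 0 ∧
      Subgroup.closure ({u, g * u * g⁻¹, h * u * h⁻¹} : Set (Matrix.symplecticGroup (Fin n) F)) = ⊤ := by
  obtain ⟨l, rfl⟩ : ∃ l, n = l + 1 := ⟨n - 1, by omega⟩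
  obtain ⟨g, h, hg, hh, hgen⟩ := RegUnip.Sp.exists_three (F := F) (l := l) (by omega)
    (fun ⟨a, b⟩ => h22 ⟨by omega, by rw [← Nat.card_eq_fintype_card]; exact b⟩)
  let E := Linear.spEquiv (l + 1) F
  let u := E.symm ⟨RegUnip.Sp.U F l, RegUnip.Sp.U_mem⟩
  refine ⟨u, E.symm ⟨g, hg⟩, E.symm ⟨h, hh⟩, RegUnip.Sp.U_regular.1, RegUnip.Sp.U_regular.2, ?_⟩
  rw [← top_le_iff]
  intro x _
  let ι : Matrix.symplecticGroup (Fin (l + 1)) F →* GL (Fin (l + 1) ⊕ Fin (l + 1)) F :=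
    (Cfsg.spGL (l + 1) F).subtype.comp E.toMonoidHom
  have hι : Function.Injective ι := fun a b e => E.injective (Subtype.ext e)
  have hx : ι x ∈ (Subgroup.closure ({u, E.symm ⟨g, hg⟩ * u * (E.symm ⟨g, hg⟩)⁻¹, E.symm ⟨h, hh⟩ * u * (E.symm ⟨h, hh⟩)⁻¹} : Set (Matrix.symplecticGroup (Fin (l + 1)) F))).map ι := by
    rw [MonoidHom.map_closure]
    refine (Subgroup.closure_mono ?_) (hgen.symm ▸ (E x).2 : ι x ∈ Subgroup.closure ({RegUnip.Sp.U F l, g * RegUnip.Sp.U F l * g⁻¹, h * RegUnip.Sp.U F l * h⁻¹} : Set (GL (Fin (l + 1) ⊕ Fin (l + 1)) F)))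
    have hu : ι u = RegUnip.Sp.U F l := congrArg Subtype.val (E.apply_symm_apply _)
    have hg' : ι (E.symm ⟨g, hg⟩) = g := congrArg Subtype.val (E.apply_symm_apply _)
    have hh' : ι (E.symm ⟨h, hh⟩) = h := congrArg Subtype.val (E.apply_symm_apply _)
    rintro y (rfl | rfl | rfl)
    · exact ⟨u, by simp, hu⟩
    · exact ⟨E.symm ⟨g, hg⟩ * u * (E.symm ⟨g, hg⟩)⁻¹, by simp, by rw [map_mul, map_mul, map_inv, hu, hg']⟩
    · exact ⟨E.symm ⟨h, hh⟩ * u * (E.symm ⟨h, hh⟩)⁻¹, by simp, by rw [map_mul, map_mul, map_inv, hu, hh']⟩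
  obtain ⟨y, hy, hyx⟩ := hx
  exact hι hyx ▸ hy

end Cfsg.Agent.S2281
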