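import Cfsg.Statements.S2286
import Cfsg.Agent.Lib.PSL2.Presentation

set_option autoImplicit false
open Cfsg

namespace Cfsg.Agent.S2286

/-- For every finite field F, SL_2(F) and PSL_2(F) have presentations with 3 generators and at most 9 relations; when F has characteristic 2, PSL_2(F) has a presentation with 3 generators and at most 5 relations. -/
theorem result {F : Type*} [Field F] [Fintype F] :
    (∃ rels : Finset (FreeGroup (Fin 3)), rels.card ≤ 9 ∧ Nonempty (PresentedGroup (↑rels : Set (FreeGroup (Fin 3))) ≃* Matrix.SpecialLinearGroup (Fin 2) F)) ∧ (∃ rels : Finset (FreeGroup (Fin 3)), rels.card ≤ 9 ∧ Nonempty (PresentedGroup (↑rels : Set (FreeGroup (Fin 3))) ≃* Matrix.ProjectiveSpecialLinearGroup (Fin 2) F)) ∧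
    (CharP F 2 → ∃ rels : Finset (FreeGroup (Fin 3)), rels.card ≤ 5 ∧ Nonempty (PresentedGroup (↑rels : Set (FreeGroup (Fin 3))) ≃* Matrix.ProjectiveSpecialLinearGroup (Fin 2) F)) := by
  classical
  obtain ⟨p, hp⟩ := CharP.exists F
  haveI : Fact p.Prime := ⟨CharP.char_is_prime F p⟩
  by_cases hp2 : p = 2
  · subst hp2
    obtain ⟨-, rels, -, hlen, e, -⟩ := PSL2.Pres.exists_pres_two (F := F)
    have hinj : Function.Injective
        (QuotientGroup.mk' (Subgroup.center (Matrix.SpecialLinearGroup (Fin 2) F))) := by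
      rw [injective_iff_map_eq_one]
      intro g hg
      rcases PSL2.mk_eq_one_iff.mp hg with h | h
      · exact h
      · rw [h]
        refine Subtype.ext ?_
        rw [Matrix.SpecialLinearGroup.coe_neg, Matrix.SpecialLinearGroup.coe_one]
        ext i j
        simp [CharTwo.neg_eq]
    let ψ : PresentedGroup (↑rels : Set (FreeGroup (Fin 3))) ≃* Matrix.ProjectiveSpecialLinearGroup (Fin 2) F :=
      e.trans (MulEquiv.ofBijective (QuotientGroup.mk' (Subgroup.center (Matrix.SpecialLinearGroup (Fin 2) F))) ⟨hinj, QuotientGroup.mk'_surjective _⟩)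
    exact ⟨⟨rels, hlen.trans (by norm_num), ⟨e⟩⟩, ⟨rels, hlen.trans (by norm_num), ⟨ψ⟩⟩,
      fun _ => ⟨rels, hlen, ⟨ψ⟩⟩⟩
  · obtain ⟨⟨-, rels, -, hlen, e, -⟩, h2⟩ := PSL2.Pres.exists_pres_odd (F := F) hp2
    exact ⟨⟨rels, hlen, ⟨e⟩⟩, h2, fun h => absurd (CharP.eq F hp h) hp2⟩

end Cfsg.Agent.S2286
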