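import Cfsg.Statements.S2288
import Cfsg.Agent.Lib.SLPresent.Counts
import Cfsg.Agent.Lib.SLMult.Psl

set_option autoImplicit false
open Cfsg

namespace Cfsg.Agent.S2288

/-- For every finite field F and n ≥ 4: SL_n(F) has a presentation with 7 generators and at most 25 relations, and PSL_n(F) one with 7 generators and at most 26 relations; moreover SL_4(F) has one with 6 generators and at most 21 relations and SL_5(F) one with 6 generators and at most 22 relations. -/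
theorem result {F : Type*} [Field F] [Fintype F] (n : ℕ) (hn : 4 ≤ n) :
    (∃ rels : Finset (FreeGroup (Fin 7)), rels.card ≤ 25 ∧ Nonempty (PresentedGroup (↑rels : Set (FreeGroup (Fin 7))) ≃* Matrix.SpecialLinearGroup (Fin n) F)) ∧ (∃ rels : Finset (FreeGroup (Fin 7)), rels.card ≤ 26 ∧ Nonempty (PresentedGroup (↑rels : Set (FreeGroup (Fin 7))) ≃* Matrix.ProjectiveSpecialLinearGroup (Fin n) F)) ∧
    (∃ rels : Finset (FreeGroup (Fin 6)), rels.card ≤ 21 ∧ Nonempty (PresentedGroup (↑rels : Set (FreeGroup (Fin 6))) ≃* Matrix.SpecialLinearGroup (Fin 4) F)) ∧ (∃ rels : Finset (FreeGroup (Fin 6)), rels.card ≤ 22 ∧ Nonempty (PresentedGroup (↑rels : Set (FreeGroup (Fin 6))) ≃* Matrix.SpecialLinearGroup (Fin 5) F)) := by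
  classical
  obtain ⟨r4, h4, ⟨e4⟩⟩ := SLPresent.sl_four (F := F)
  obtain ⟨r5, h5, ⟨e5⟩⟩ := SLPresent.sl_high (F := F) 4 le_rfl
  rw [if_pos rfl] at h5
  have h7 : ∃ rels : Finset (FreeGroup (Fin 7)), rels.card ≤ 25 ∧
      Nonempty (PresentedGroup (↑rels : Set (FreeGroup (Fin 7))) ≃* Matrix.SpecialLinearGroup (Fin n) F) := by
    obtain ⟨m, rfl⟩ : ∃ m, n = m + 1 := ⟨n - 1, by omega⟩
    by_cases hm : m = 3
    · subst hm
      obtain ⟨r, hr, e⟩ := SLPresent.exists_pad 3 r4 e4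
      exact ⟨r, by omega, e⟩
    · obtain ⟨r, hr, ⟨e⟩⟩ := SLPresent.sl_high (F := F) m (by omega)
      obtain ⟨r', hr', e'⟩ := SLPresent.exists_pad 2 r e
      exact ⟨r', by split_ifs at hr <;> omega, e'⟩
  refine ⟨h7, ?_, ?_, ?_⟩
  · obtain ⟨r, hr, ⟨e⟩⟩ := h7
    obtain ⟨r', hr', e'⟩ := SLPresent.exists_mod_center (SLMult.isCyclic_center_sl n (by omega)) r e
    exact ⟨r', by omega, e'⟩
  · obtain ⟨r, hr, e⟩ := SLPresent.exists_pad 2 r4 e4
    exact ⟨r, by omega, e⟩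
  · obtain ⟨r, hr, e⟩ := SLPresent.exists_pad 1 r5 e5
    exact ⟨r, by omega, e⟩

end Cfsg.Agent.S2288
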