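import Cfsg.Statements.S2290
import Cfsg.Agent.S2286
import Cfsg.Agent.S2287
import Cfsg.Agent.S2288
import Cfsg.Agent.S2278
import Cfsg.Agent.S2279

set_option autoImplicit false
open Cfsg
open scoped MatrixGroups

namespace Cfsg.Agent.S2290

/-- Images of a generating pair generate a quotient. -/
theorem pair_image {G H : Type*} [Group G] [Group H] (φ : G →* H) (hφ : Function.Surjective φ) (x y : G)
    (h : Subgroup.closure ({x, y} : Set G) = ⊤) : Subgroup.closure (Set.range ![φ x, φ y]) = ⊤ := by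
  rw [AltPresent.pair_range, ← Subgroup.map_top_of_surjective φ hφ, ← h, MonoidHom.map_closure, Set.image_pair]
  rfl

/-- `SL₂(q)`, `q ≥ 4`, needs two generators. -/
theorem sl_two_pair {F : Type*} [Field F] [Finite F] (hq : 4 ≤ Nat.card F) :
    ∃ x y : SL(2, F), Subgroup.closure ({x, y} : Set SL(2, F)) = ⊤ := by
  obtain ⟨ω, hω, hord⟩ := PSL2.Pres.exists_generator (F := F)
  have hsurj := SLPresent.aeval_pow_surjective ω hω 2 (Or.inl ⟨by norm_num, le_rfl⟩)
  set b : SL(2, F) := PSL2.Pres.dg ω with hb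
  set y : SL(2, F) := PSL2.upT 1 * PSL2.Pres.wM with hy
  refine ⟨b, y, ?_⟩
  set H := Subgroup.closure ({b, y} : Set SL(2, F)) with hH
  have hbH : b ∈ H := Subgroup.subset_closure (by simp)
  have hyH : y ∈ H := Subgroup.subset_closure (by simp)
  set t : F := (ω : F) with ht
  have ht0 : t ≠ 0 := ω.ne_zero
  have hu : y * b * y⁻¹ * b = PSL2.upT ((t - t⁻¹) * t⁻¹) := by
    have e : y * b = PSL2.upT ((t - t⁻¹) * t⁻¹) * b⁻¹ * y := by
      rw [hb, ← map_inv, hy]
      refine Subtype.ext ?_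
      simp only [Matrix.SpecialLinearGroup.coe_mul, PSL2.Pres.dg_coe, PSL2.Pres.upT_coe, PSL2.Pres.wM_coe,
        Matrix.mul_fin_two, inv_inv, Units.val_inv_eq_inv_val]
      ext i j
      fin_cases i <;> fin_cases j <;> simp [← ht] <;> field_simp <;> ring
    rw [e]
    group
  set c : F := (t - t⁻¹) * t⁻¹ with hc
  have hc0 : c ≠ 0 := by
    refine mul_ne_zero (sub_ne_zero.mpr fun h => ?_) (inv_ne_zero ht0)
    have h2 : ω ^ 2 = 1 := by
      refine Units.ext ?_
      rw [Units.val_pow_eq_pow_val, Units.val_one, ← ht, sq]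
      nth_rewrite 2 [h]
      rw [mul_inv_cancel₀ ht0]
    have := Nat.le_of_dvd two_pos (orderOf_dvd_of_pow_eq_one h2)
    omega
  have hall : ∀ r : F, PSL2.upT r ∈ H := by
    intro r
    have hm := SLPresent.mem_of_span (u := fun r => PSL2.upT (c * r))
      (fun r s => by simp only [mul_add, PSL2.Pres.upT_add]) _ hsurj H (fun k => by
        have e : PSL2.upT (c * (t ^ 2) ^ k) = b ^ k * PSL2.upT c * (b ^ k)⁻¹ := by
          rw [hb, ← map_pow, PSL2.Pres.dg_conj, Units.val_pow_eq_pow_val, ← ht, ← pow_mul, ← pow_mul, mul_comm c,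
            mul_comm k]
        show PSL2.upT (c * (t ^ 2) ^ k) ∈ H
        rw [e, ← hu]
        exact mul_mem (mul_mem (pow_mem hbH k) (mul_mem (mul_mem (mul_mem hyH hbH) (inv_mem hyH)) hbH))
          (inv_mem (pow_mem hbH k))) (c⁻¹ * r)
    rwa [mul_inv_cancel_left₀ hc0] at hm
  rw [eq_top_iff, ← PSL2.Pres.closure_target ω hω hsurj, Subgroup.closure_le]
  rintro _ ⟨i, rfl⟩
  fin_cases i
  · exact hall 1
  · exact hbH
  · have := mul_mem (inv_mem (hall 1)) hyH
    rwa [hy, inv_mul_cancel_left] at this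

/-- For every finite field F with q elements and n ≥ 2, with q ≥ 4 when n = 2, the simple group PSL_n(F) has a presentation with 2 generators and at most 80 relations. -/
theorem result {F : Type*} [Field F] [Fintype F] (n : ℕ) (hn : 2 ≤ n) (h2 : n = 2 → 4 ≤ Fintype.card F) :
    ∃ rels : Finset (FreeGroup (Fin 2)), rels.card ≤ 80 ∧ Nonempty (PresentedGroup (↑rels : Set (FreeGroup (Fin 2))) ≃* Matrix.ProjectiveSpecialLinearGroup (Fin n) F) := by
  classical
  have fin_sl : Finite (Matrix.SpecialLinearGroup (Fin n) F) :=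
    Finite.of_injective (fun g => (g : Matrix (Fin n) (Fin n) F)) Subtype.val_injective
  have fin_psl : Finite (Matrix.ProjectiveSpecialLinearGroup (Fin n) F) :=
    Finite.of_surjective _ (QuotientGroup.mk'_surjective (Subgroup.center (Matrix.SpecialLinearGroup (Fin n) F)))
  have base : ∃ (l : ℕ) (rels : Finset (FreeGroup (Fin l))), rels.card ≤ 26 ∧
      Nonempty (PresentedGroup (↑rels : Set (FreeGroup (Fin l))) ≃* Matrix.ProjectiveSpecialLinearGroup (Fin n) F) := by
    rcases eq_or_lt_of_le hn with rfl | hn3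
    · obtain ⟨-, ⟨rels, hr, e⟩, -⟩ := S2286.result (F := F)
      exact ⟨3, rels, by omega, e⟩
    rcases eq_or_lt_of_le (Nat.succ_le_of_lt hn3) with rfl | hn4
    · obtain ⟨rels, hr, ⟨e⟩⟩ := SLPresent.exists_pres_three (F := F)
      obtain ⟨rels', hr', e'⟩ := SLPresent.exists_mod_center (SLMult.isCyclic_center_sl 3 (by norm_num)) rels e
      exact ⟨4, rels', by omega, e'⟩
    · obtain ⟨-, ⟨rels, hr, e⟩, -⟩ := S2288.result (F := F) n hn4
      exact ⟨7, rels, hr, e⟩
  obtain ⟨x, y, hxy⟩ : ∃ x y : Matrix.SpecialLinearGroup (Fin n) F,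
      Subgroup.closure ({x, y} : Set (Matrix.SpecialLinearGroup (Fin n) F)) = ⊤ := by
    rcases eq_or_lt_of_le hn with rfl | hn3
    · exact sl_two_pair (by rw [Nat.card_eq_fintype_card]; exact h2 rfl)
    rcases eq_or_lt_of_le (Nat.succ_le_of_lt hn3) with rfl | hn4
    · obtain ⟨u, g, -, -, h⟩ := S2278.result (F := F)
      exact ⟨_, _, h⟩
    · obtain ⟨⟨u, v, -, -, h⟩, -⟩ := S2279.result (F := F) n hn4
      exact ⟨_, _, h⟩
  obtain ⟨l, rels, hr, ⟨e⟩⟩ := base
  let φ := QuotientGroup.mk' (Subgroup.center (Matrix.SpecialLinearGroup (Fin n) F))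
  obtain ⟨rels', hr', e', -⟩ := AltPresent.exists_rels_of_gens rels e ![φ x, φ y]
    (pair_image φ (QuotientGroup.mk'_surjective _) x y hxy) (fun _ => none)
    (fun j i h => by simp at h) (fun j j' i h _ => by simp at h)
  have h0 : (Finset.univ.filter fun _ : Fin 2 => (none : Option (Fin l)) = none).card = 2 := by simp
  rw [h0] at hr'
  exact ⟨rels', by omega, ⟨e'⟩⟩

end Cfsg.Agent.S2290
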