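import Cfsg.Statements.S2291
import Cfsg.Agent.Lib.SUNPresent.Assemble
import Cfsg.Agent.Lib.SUPresent.ThreeMain
import Cfsg.Agent.Lib.SUPresent.Center
import Cfsg.Agent.S2412

set_option autoImplicit false
open Cfsg

namespace Cfsg.Agent.S2291

/-- Let F be a field with q² elements and n ≥ 3 with (n, q) ≠ (3, 2). Then the simple group PSU_n(q) (for the standard Hermitian form) has a presentation with 2 generators and at most 80 relations. -/
theorem result {F : Type*} [Field F] [Fintype F] (q n : ℕ) (hF : Fintype.card F = q ^ 2) (hn : 3 ≤ n) (h32 : ¬ (n = 3 ∧ q = 2)) :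
    ∃ rels : Finset (FreeGroup (Fin 2)), rels.card ≤ 80 ∧ Nonempty (PresentedGroup (↑rels : Set (FreeGroup (Fin 2))) ≃* Cfsg.PSU n F q) := by
  have hq2 := Cfsg.Agent.Unitary.two_le_q hF
  have hq : IsPrimePow q :=
    (isPrimePow_pow_iff (two_ne_zero : (2 : ℕ) ≠ 0)).1 (hF ▸ FiniteField.isPrimePow_card F)
  obtain ⟨a, b, hab⟩ := Cfsg.Agent.S2412.result hq hF n hn (fun h h' => h32 ⟨h, h'⟩)
  obtain ⟨k, g, hg⟩ : ∃ (k : ℕ) (g : Fin k → Cfsg.PSU n F q), Cfsg.Agent.PSL2.PresTools.IsPres g 78 := by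
    rcases Nat.lt_or_eq_of_le hn with h | h
    · obtain ⟨g, hg⟩ := Cfsg.Agent.SUNPresent.exists_pres_su hF n h
      obtain ⟨g', rels, hc, he⟩ := Cfsg.Agent.SUPresent.isPres_PSU hF (by omega) hg
      exact ⟨6, g', rels, hc.trans (by split_ifs <;> norm_num), he⟩
    · subst h
      obtain ⟨g, hg⟩ := Cfsg.Agent.SUPresent.exists_pres hF (show 3 ≤ q by
        rcases Nat.lt_or_eq_of_le hq2 with h | h
        · exact h
        · exact absurd ⟨rfl, h.symm⟩ h32)
      obtain ⟨g', rels, hc, he⟩ := Cfsg.Agent.SUPresent.isPres_PSU hF (by norm_num) hg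
      exact ⟨3, g', rels, hc.trans (by norm_num), he⟩
  exact (hg.two a b hab).nonempty le_rfl

end Cfsg.Agent.S2291
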