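import Cfsg.Statements.S2292
import Cfsg.Agent.Lib.PSL2.SpNPres
import Cfsg.Agent.S2411

set_option autoImplicit false
open Cfsg

namespace Cfsg.Agent.S2292

/-- Let F be a finite field with q elements and m ≥ 2 with (m, q) ≠ (2, 2). Then the simple group PSp_2m(F) has a presentation with 2 generators and at most 80 relations. -/
theorem result {F : Type*} [Field F] [Fintype F] (m : ℕ) (hm : 2 ≤ m) (h22 : ¬ (m = 2 ∧ Fintype.card F = 2)) :
    ∃ rels : Finset (FreeGroup (Fin 2)), rels.card ≤ 80 ∧ Nonempty (PresentedGroup (↑rels : Set (FreeGroup (Fin 2))) ≃* Cfsg.PSp m F) := by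
  obtain ⟨a, b, hab⟩ := Cfsg.Agent.S2411.result (F := F) m hm fun h2 => by
    have h1 : 1 < Fintype.card F := Fintype.one_lt_card
    have : Fintype.card F ≠ 2 := fun e => h22 ⟨h2, e⟩
    omega
  rcases Nat.lt_or_ge m 3 with h3 | h3
  · obtain rfl : m = 2 := by omega
    obtain ⟨-, rels, hc, ⟨e⟩⟩ := Cfsg.Agent.PSL2.SpFour.exists_pres (F := F)
    have h : Cfsg.Agent.PSL2.PresTools.IsPres (fun i => e (PresentedGroup.of i)) 31 :=
      ⟨rels, hc, e, fun i => rfl⟩
    exact (h.two a b hab).nonempty (by omega)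
  · obtain ⟨c, g, h, hc, -⟩ := Cfsg.Agent.PSL2.SpN.exists_pres_PSp (F := F) h3
    exact (h.two a b hab).nonempty (by omega)

end Cfsg.Agent.S2292
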