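import Cfsg.Statements.S2295
import Cfsg.Agent.Lib.OrthPresent.Main
import Cfsg.Agent.Lib.Orth.Order

set_option autoImplicit false
open Cfsg

namespace Cfsg.Agent.S2295

/-- Let F be a finite field and n ≥ 4, and let Ω⁺_2n(F) be the commutator subgroup of the orthogonal group of the hyperbolic quadratic form Σ x_i y_i, with PΩ⁺_2n(F) its central quotient. Then Ω⁺_2n(F) has a presentation with 8 generators and at most 31 relations (at most 29 if n = 4 or 5), and PΩ⁺_2n(F) one with 8 generators and at most 32 relations (at most 30 if n = 4 or 5). -/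
theorem result {F : Type*} [Field F] [Fintype F] (n : ℕ) (hn : 4 ≤ n) :
    (∃ rels : Finset (FreeGroup (Fin 8)), rels.card ≤ 31 ∧ Nonempty (PresentedGroup (↑rels : Set (FreeGroup (Fin 8))) ≃* ↥(Cfsg.Omega F (Cfsg.quadFormPlus n F)))) ∧ (∃ rels : Finset (FreeGroup (Fin 8)), rels.card ≤ 32 ∧ Nonempty (PresentedGroup (↑rels : Set (FreeGroup (Fin 8))) ≃* Cfsg.POmega F (Cfsg.quadFormPlus n F))) ∧
    (n ≤ 5 → (∃ rels : Finset (FreeGroup (Fin 8)), rels.card ≤ 29 ∧ Nonempty (PresentedGroup (↑rels : Set (FreeGroup (Fin 8))) ≃* ↥(Cfsg.Omega F (Cfsg.quadFormPlus n F)))) ∧ (∃ rels : Finset (FreeGroup (Fin 8)), rels.card ≤ 30 ∧ Nonempty (PresentedGroup (↑rels : Set (FreeGroup (Fin 8))) ≃* Cfsg.POmega F (Cfsg.quadFormPlus n F)))) := by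
  classical
  suffices h : ∃ rels : Finset (FreeGroup (Fin 8)), rels.card ≤ (if n ≤ 5 then 29 else 31) ∧
      Nonempty (PresentedGroup (↑rels : Set (FreeGroup (Fin 8))) ≃* ↥(Cfsg.Omega F (Cfsg.quadFormPlus n F))) by
    obtain ⟨r, hr, ⟨e⟩⟩ := h
    have hc : IsCyclic (Subgroup.center ↥(Cfsg.Omega F (Cfsg.quadFormPlus n F))) := by
      rw [← Agent.OrthAct.quadPlus_coe (F := F) n]
      have hnd := Agent.OrthAct.quadPlus_nondegenerate (F := F) n
      have hE := Agent.Orth.eichGen_le_omega (Q := Agent.OrthAct.quadPlus n F) hnd (by simp; omega)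
        (Or.inr (by simp; omega))
      by_cases h2 : Agent.Orth.negOne (Agent.OrthAct.quadPlus n F) ∉
          Cfsg.Omega F ⇑(Agent.OrthAct.quadPlus n F) ∨ (2 : F) = 0
      · rw [Agent.Orth.center_omega_eq_bot hnd (by simp; omega) hE h2]
        exact isCyclic_of_subsingleton
      · push Not at h2
        haveI : Fact (Nat.Prime 2) := ⟨Nat.prime_two⟩
        exact isCyclic_of_prime_card (Agent.Orth.card_center_omega_two hnd (by simp; omega) hE h2.2 h2.1)
    obtain ⟨r', hr', e'⟩ := Agent.SLPresent.exists_mod_center hc r e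
    exact ⟨⟨r, by split_ifs at hr <;> omega, ⟨e⟩⟩, ⟨r', by split_ifs at hr <;> omega, e'⟩,
      fun hn5 => ⟨⟨r, by rw [if_pos hn5] at hr; exact hr, ⟨e⟩⟩,
        ⟨r', by rw [if_pos hn5] at hr; omega, e'⟩⟩⟩
  rw [← Agent.OrthAct.quadPlus_coe (F := F) n]
  obtain ⟨p, rfl⟩ : ∃ p, n = p + 2 := ⟨n - 2, by omega⟩
  have : Finite ↥(Cfsg.Omega F ⇑(Agent.OrthAct.quadPlus (p + 2) F)) := inferInstance
  by_cases h4 : p = 2
  · subst h4
    obtain ⟨r4, h4, ⟨e4⟩⟩ := Agent.SLPresent.sl_four (F := F)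
    obtain ⟨r, hr, ⟨e⟩⟩ := Agent.OrthPresent.exists_pres_low r4 e4
    obtain ⟨r', hr', e'⟩ := Agent.SLPresent.exists_pad 3 r e
    exact ⟨r', by split_ifs <;> omega, e'⟩
  · obtain ⟨r5, h5, ⟨e5⟩⟩ := Agent.SLPresent.sl_high (F := F) (p + 1) (by omega)
    obtain ⟨r, hr, ⟨e⟩⟩ := Agent.OrthPresent.exists_pres_high (p := p) (by omega) r5 e5
    obtain ⟨r', hr', e'⟩ := Agent.SLPresent.exists_pad 2 r e
    exact ⟨r', by split_ifs at h5 ⊢ <;> omega, e'⟩

end Cfsg.Agent.S2295
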