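import Cfsg.Statements.S2296
import Cfsg.Agent.Lib.PSL2.SpNPres

set_option autoImplicit false
open Cfsg

namespace Cfsg.Agent.S2296

/-- Let F be a finite field. Sp_2n(F) has a presentation with 10 generators and at most 58 relations for n ≥ 4, with 9 generators and at most 57 relations for n = 4 or 5, and with 8 generators and at most 52 relations for n = 3; in each case PSp_2n(F) has a presentation with the same number of generators and at most one more relation. -/
theorem result {F : Type*} [Field F] [Fintype F] (n : ℕ) :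
    (4 ≤ n → (∃ rels : Finset (FreeGroup (Fin 10)), rels.card ≤ 58 ∧ Nonempty (PresentedGroup (↑rels : Set (FreeGroup (Fin 10))) ≃* Matrix.symplecticGroup (Fin n) F)) ∧ (∃ rels : Finset (FreeGroup (Fin 10)), rels.card ≤ 59 ∧ Nonempty (PresentedGroup (↑rels : Set (FreeGroup (Fin 10))) ≃* Cfsg.PSp n F))) ∧
    ((n = 4 ∨ n = 5) → (∃ rels : Finset (FreeGroup (Fin 9)), rels.card ≤ 57 ∧ Nonempty (PresentedGroup (↑rels : Set (FreeGroup (Fin 9))) ≃* Matrix.symplecticGroup (Fin n) F)) ∧ (∃ rels : Finset (FreeGroup (Fin 9)), rels.card ≤ 58 ∧ Nonempty (PresentedGroup (↑rels : Set (FreeGroup (Fin 9))) ≃* Cfsg.PSp n F))) ∧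
    (n = 3 → (∃ rels : Finset (FreeGroup (Fin 8)), rels.card ≤ 52 ∧ Nonempty (PresentedGroup (↑rels : Set (FreeGroup (Fin 8))) ≃* Matrix.symplecticGroup (Fin n) F)) ∧ (∃ rels : Finset (FreeGroup (Fin 8)), rels.card ≤ 53 ∧ Nonempty (PresentedGroup (↑rels : Set (FreeGroup (Fin 8))) ≃* Cfsg.PSp n F))) := by
  refine ⟨fun hn => ?_, fun hn => ?_, fun hn => ?_⟩
  · obtain ⟨c, g, h, hc, -⟩ := Cfsg.Agent.PSL2.SpN.exists_pres_Sp (F := F) (show 3 ≤ n by omega)
    obtain ⟨c', g', h', hc', -⟩ := Cfsg.Agent.PSL2.SpN.exists_pres_PSp (F := F) (show 3 ≤ n by omega)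
    exact ⟨h.dummy.dummy.nonempty (by omega), h'.dummy.dummy.nonempty (by omega)⟩
  · obtain ⟨c, g, h, hc, -⟩ := Cfsg.Agent.PSL2.SpN.exists_pres_Sp (F := F) (show 3 ≤ n by omega)
    obtain ⟨c', g', h', hc', -⟩ := Cfsg.Agent.PSL2.SpN.exists_pres_PSp (F := F) (show 3 ≤ n by omega)
    exact ⟨h.dummy.nonempty (by omega), h'.dummy.nonempty (by omega)⟩
  · obtain ⟨c, g, h, -, hc⟩ := Cfsg.Agent.PSL2.SpN.exists_pres_Sp (F := F) (show 3 ≤ n by omega)
    obtain ⟨c', g', h', -, hc'⟩ := Cfsg.Agent.PSL2.SpN.exists_pres_PSp (F := F) (show 3 ≤ n by omega)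
    have := hc hn
    have := hc' hn
    exact ⟨h.nonempty (by omega), h'.nonempty (by omega)⟩

end Cfsg.Agent.S2296
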