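import Cfsg.Statements.S2298
import Cfsg.Agent.Lib.GLTwoChar.GLTable

set_option autoImplicit false
open Cfsg

namespace Cfsg.Agent.S2298

/-- Over a finite field F with q elements, every irreducible complex character of GL₂ has degree 1, q − 1, q or q + 1; and when q ≥ 3 (so that these four numbers are distinct) there are exactly q − 1 irreducible characters of degree 1, exactly q − 1 of degree q, exactly (q − 1)(q − 2)/2 of degree q + 1 and exactly q(q − 1)/2 of degree q − 1. -/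
theorem result {F : Type*} [Field F] [Fintype F] :
    (∀ χ : Matrix.GeneralLinearGroup (Fin 2) F → ℂ, Cfsg.IsIrrCharacter (Matrix.GeneralLinearGroup (Fin 2) F) χ →
      χ 1 = 1 ∨ χ 1 = (Fintype.card F : ℂ) - 1 ∨ χ 1 = (Fintype.card F : ℂ) ∨ χ 1 = (Fintype.card F : ℂ) + 1) ∧
    (3 ≤ Fintype.card F →
      Nat.card {χ : Cfsg.IrrCharacter (Matrix.GeneralLinearGroup (Fin 2) F) // (χ : Matrix.GeneralLinearGroup (Fin 2) F → ℂ) 1 = 1} = Fintype.card F - 1 ∧
      Nat.card {χ : Cfsg.IrrCharacter (Matrix.GeneralLinearGroup (Fin 2) F) // (χ : Matrix.GeneralLinearGroup (Fin 2) F → ℂ) 1 = (Fintype.card F : ℂ)} = Fintype.card F - 1 ∧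
      Nat.card {χ : Cfsg.IrrCharacter (Matrix.GeneralLinearGroup (Fin 2) F) // (χ : Matrix.GeneralLinearGroup (Fin 2) F → ℂ) 1 = (Fintype.card F : ℂ) + 1} = (Fintype.card F - 1) * (Fintype.card F - 2) / 2 ∧
      Nat.card {χ : Cfsg.IrrCharacter (Matrix.GeneralLinearGroup (Fin 2) F) // (χ : Matrix.GeneralLinearGroup (Fin 2) F → ℂ) 1 = (Fintype.card F : ℂ) - 1} = Fintype.card F * (Fintype.card F - 1) / 2) := by
  classical
  refine ⟨fun χ hχ => GLTwoChar.gl_cases_degree hχ, fun hq => ?_⟩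
  have hb := GLTwoChar.allChars_bijective (F := F)
  let E := Equiv.ofBijective _ hb
  have hc : ∀ χ : {χ : IrrCharacter (Matrix.GeneralLinearGroup (Fin 2) F) // (GLTwoChar.glDatum F).Cusp (χ : Matrix.GeneralLinearGroup (Fin 2) F → ℂ)},
      (χ.1 : Matrix.GeneralLinearGroup (Fin 2) F → ℂ) 1 = (Fintype.card F : ℂ) - 1 :=
    fun χ => (GLTwoChar.gl_cusp χ.1.2 χ.2).1
  have cast_ne : ∀ a b : ℕ, a ≠ b → (a : ℂ) ≠ (b : ℂ) := fun a b h h' => h (by exact_mod_cast h')
  have h1q : (1 : ℂ) ≠ (Fintype.card F : ℂ) := by simpa using cast_ne 1 (Fintype.card F) (by omega)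
  have h1p : (1 : ℂ) ≠ (Fintype.card F : ℂ) + 1 := by simpa using cast_ne 1 (Fintype.card F + 1) (by omega)
  have h1m : (1 : ℂ) ≠ (Fintype.card F : ℂ) - 1 := fun h => cast_ne 2 (Fintype.card F) (by omega) (by push_cast; linear_combination h)
  have hqp : (Fintype.card F : ℂ) ≠ (Fintype.card F : ℂ) + 1 := fun h => one_ne_zero (α := ℂ) (by linear_combination -h)
  have hqm : (Fintype.card F : ℂ) ≠ (Fintype.card F : ℂ) - 1 := fun h => one_ne_zero (α := ℂ) (by linear_combination h)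
  have hpm : (Fintype.card F : ℂ) + 1 ≠ (Fintype.card F : ℂ) - 1 := fun h => two_ne_zero (α := ℂ) (by linear_combination h)
  have count : ∀ d : ℂ, Nat.card {χ : IrrCharacter (Matrix.GeneralLinearGroup (Fin 2) F) // (χ : Matrix.GeneralLinearGroup (Fin 2) F → ℂ) 1 = d} =
      Nat.card {i // ((GLTwoChar.allChars (F := F) i : IrrCharacter (Matrix.GeneralLinearGroup (Fin 2) F)) : Matrix.GeneralLinearGroup (Fin 2) F → ℂ) 1 = d} :=
    fun d => (Nat.card_congr (E.subtypeEquiv (fun _ => Iff.rfl))).symm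
  have v : ∀ i, ((GLTwoChar.allChars (F := F) i : IrrCharacter (Matrix.GeneralLinearGroup (Fin 2) F)) : Matrix.GeneralLinearGroup (Fin 2) F → ℂ) 1 =
      Sum.elim (Sum.elim (Sum.elim (fun _ => (1 : ℂ)) (fun _ => (Fintype.card F : ℂ))) (fun _ => (Fintype.card F : ℂ) + 1)) (fun _ => (Fintype.card F : ℂ) - 1) i := by
    rintro (((a | a) | z) | c)
    · exact map_one _
    · exact GLTwoChar.st_one a
    · exact GLTwoChar.psSym_one z.1
    · exact hc c
  refine ⟨?_, ?_, ?_, ?_⟩ <;> rw [count]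
  · rw [← GLTwoChar.card_mulChar (F := F)]
    refine (Nat.card_eq_of_bijective (fun a => ⟨.inl (.inl (.inl a)), v _⟩) ⟨fun a b h => by simpa using (Subtype.mk_eq_mk.1 h), ?_⟩).symm
    rintro ⟨(((a | a) | z) | c), h⟩ <;> rw [v] at h
    · exact ⟨a, rfl⟩
    · exact absurd h.symm h1q
    · exact absurd h.symm h1p
    · exact absurd h.symm h1m
  · rw [← GLTwoChar.card_mulChar (F := F)]
    refine (Nat.card_eq_of_bijective (fun a => ⟨.inl (.inl (.inr a)), v _⟩) ⟨fun a b h => by simpa using (Subtype.mk_eq_mk.1 h), ?_⟩).symm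
    rintro ⟨(((a | a) | z) | c), h⟩ <;> rw [v] at h
    · exact absurd h h1q
    · exact ⟨a, rfl⟩
    · exact absurd h.symm hqp
    · exact absurd h.symm hqm
  · rw [← GLTwoChar.card_pairs (F := F)]
    refine (Nat.card_eq_of_bijective (fun a => ⟨.inl (.inr a), v _⟩) ⟨fun a b h => by simpa using (Subtype.mk_eq_mk.1 h), ?_⟩).symm
    rintro ⟨(((a | a) | z) | c), h⟩ <;> rw [v] at h
    · exact absurd h h1p
    · exact absurd h hqp
    · exact ⟨z, rfl⟩
    · exact absurd h.symm hpm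
  · rw [← GLTwoChar.card_cusp (F := F)]
    refine (Nat.card_eq_of_bijective (fun a => ⟨.inr a, v _⟩) ⟨fun a b h => by simpa using (Subtype.mk_eq_mk.1 h), ?_⟩).symm
    rintro ⟨(((a | a) | z) | c), h⟩ <;> rw [v] at h
    · exact absurd h h1m
    · exact absurd h hqm
    · exact absurd h hpm
    · exact ⟨c, rfl⟩

end Cfsg.Agent.S2298
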