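import Cfsg.Statements.S2299
import Cfsg.Agent.Lib.GLTwoChar.SLCounts
import Cfsg.Agent.EqLemmas

set_option autoImplicit false
open Cfsg

namespace Cfsg.Agent.S2299

/-- Over a finite field F with q elements, q odd, every irreducible complex character of SL₂ has degree 1, q, q + 1, q − 1, (q + 1)/2 or (q − 1)/2; and when q ≥ 5 (so that these six numbers are distinct) there are exactly one irreducible character of degree 1, one of degree q, (q − 3)/2 of degree q + 1, (q − 1)/2 of degree q − 1, two of degree (q + 1)/2 and two of degree (q − 1)/2. -/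
theorem result {F : Type*} [Field F] [Fintype F] (hodd : Odd (Fintype.card F)) :
    (∀ χ : Matrix.SpecialLinearGroup (Fin 2) F → ℂ, Cfsg.IsIrrCharacter (Matrix.SpecialLinearGroup (Fin 2) F) χ →
      χ 1 = 1 ∨ χ 1 = (Fintype.card F : ℂ) ∨ χ 1 = (Fintype.card F : ℂ) + 1 ∨ χ 1 = (Fintype.card F : ℂ) - 1 ∨
        χ 1 = (((Fintype.card F + 1) / 2 : ℕ) : ℂ) ∨ χ 1 = (((Fintype.card F - 1) / 2 : ℕ) : ℂ)) ∧
    (5 ≤ Fintype.card F →
      Nat.card {χ : Cfsg.IrrCharacter (Matrix.SpecialLinearGroup (Fin 2) F) // (χ : Matrix.SpecialLinearGroup (Fin 2) F → ℂ) 1 = 1} = 1 ∧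
      Nat.card {χ : Cfsg.IrrCharacter (Matrix.SpecialLinearGroup (Fin 2) F) // (χ : Matrix.SpecialLinearGroup (Fin 2) F → ℂ) 1 = (Fintype.card F : ℂ)} = 1 ∧
      Nat.card {χ : Cfsg.IrrCharacter (Matrix.SpecialLinearGroup (Fin 2) F) // (χ : Matrix.SpecialLinearGroup (Fin 2) F → ℂ) 1 = (Fintype.card F : ℂ) + 1} = (Fintype.card F - 3) / 2 ∧
      Nat.card {χ : Cfsg.IrrCharacter (Matrix.SpecialLinearGroup (Fin 2) F) // (χ : Matrix.SpecialLinearGroup (Fin 2) F → ℂ) 1 = (Fintype.card F : ℂ) - 1} = (Fintype.card F - 1) / 2 ∧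
      Nat.card {χ : Cfsg.IrrCharacter (Matrix.SpecialLinearGroup (Fin 2) F) // (χ : Matrix.SpecialLinearGroup (Fin 2) F → ℂ) 1 = (((Fintype.card F + 1) / 2 : ℕ) : ℂ)} = 2 ∧
      Nat.card {χ : Cfsg.IrrCharacter (Matrix.SpecialLinearGroup (Fin 2) F) // (χ : Matrix.SpecialLinearGroup (Fin 2) F → ℂ) 1 = (((Fintype.card F - 1) / 2 : ℕ) : ℂ)} = 2) := by
  classical
  obtain ⟨m, hm⟩ := id hodd
  have hqc : (Fintype.card F : ℂ) = 2 * (m : ℂ) + 1 := by exact_mod_cast hm
  have hp : (((Fintype.card F + 1) / 2 : ℕ) : ℂ) = (m : ℂ) + 1 := by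
    rw [show (Fintype.card F + 1) / 2 = m + 1 by omega]; push_cast; ring
  have hmi : (((Fintype.card F - 1) / 2 : ℕ) : ℂ) = (m : ℂ) := by
    rw [show (Fintype.card F - 1) / 2 = m by omega]
  constructor
  · intro χ hχ
    rcases GLTwoChar.sl_cases hχ with rfl | rfl | ⟨γ, -, rfl⟩ | ⟨γ, -, -, -, h⟩ | ⟨-, ⟨h, -⟩ | h⟩
    · exact Or.inl rfl
    · exact Or.inr (Or.inl GLTwoChar.stS_one)
    · exact Or.inr (Or.inr (Or.inl (GLTwoChar.psS_one γ)))
    · refine Or.inr (Or.inr (Or.inr (Or.inr (Or.inl ?_))))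
      rw [hqc] at h
      rw [hp]
      linear_combination h / 2
    · exact Or.inr (Or.inr (Or.inr (Or.inl h)))
    · refine Or.inr (Or.inr (Or.inr (Or.inr (Or.inr ?_))))
      rw [hqc] at h
      rw [hmi]
      linear_combination h / 2
  intro hq
  have hm2 : (2 : ℝ) ≤ (m : ℝ) := by exact_mod_cast (show 2 ≤ m by omega)
  obtain ⟨χ₁, χ₂, h1, h2, h3, hd1, hd2, -, -, hhalf⟩ := GLTwoChar.exists_half hodd
  obtain ⟨ce, cd⟩ := GLTwoChar.sl_counts (F := F) hodd
  have cC := GLTwoChar.card_psS_irr (F := F) hodd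
  rw [hqc] at hd1 hd2
  refine ⟨?_, ?_, ?_, ?_, ?_, ?_⟩
  · rw [Nat.card_eq_one_iff_exists]
    refine ⟨⟨⟨1, Char.isIrrCharacter_one⟩, rfl⟩, ?_⟩
    rintro ⟨⟨θ, hθ⟩, hd⟩
    refine Subtype.ext (Subtype.ext ?_)
    change θ 1 = _ at hd
    rcases GLTwoChar.sl_cases hθ with rfl | rfl | ⟨γ, -, rfl⟩ | ⟨γ, -, -, -, h⟩ | ⟨-, ⟨h, -⟩ | h⟩
    · rfl
    all_goals
      first | rw [GLTwoChar.stS_one] at hd | rw [GLTwoChar.psS_one] at hd | rw [hd] at h
      (try rw [hqc] at hd)
      (try rw [hqc] at h)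
      first
        | (have := congrArg Complex.re h; simp at this <;> linarith)
        | (have := congrArg Complex.re hd; simp at this <;> linarith)
  · rw [Nat.card_eq_one_iff_exists]
    refine ⟨⟨⟨GLTwoChar.stS F, GLTwoChar.stS_irr⟩, GLTwoChar.stS_one⟩, ?_⟩
    rintro ⟨⟨θ, hθ⟩, hd⟩
    refine Subtype.ext (Subtype.ext ?_)
    change θ 1 = _ at hd
    rcases GLTwoChar.sl_cases hθ with rfl | rfl | ⟨γ, -, rfl⟩ | ⟨γ, -, -, -, h⟩ | ⟨-, ⟨h, -⟩ | h⟩
    rotate_left
    · rfl
    all_goals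
      first | simp only [Pi.one_apply] at hd | rw [GLTwoChar.psS_one] at hd | rw [hd] at h
      (try rw [hqc] at hd)
      (try rw [hqc] at h)
      first
        | (have := congrArg Complex.re h; simp at this <;> linarith)
        | (have := congrArg Complex.re hd; simp at this <;> linarith)
  · refine (Nat.card_congr (Equiv.subtypeEquivRight fun θ => ⟨fun hd => ?_, ?_⟩)).trans
      (show Nat.card {θ : IrrCharacter (Matrix.SpecialLinearGroup (Fin 2) F) // ∃ γ : MulChar F ℂ, γ ^ 2 ≠ 1 ∧ (θ : Matrix.SpecialLinearGroup (Fin 2) F → ℂ) = GLTwoChar.psS γ} = (Fintype.card F - 3) / 2 by omega)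
    · rcases GLTwoChar.sl_cases θ.2 with h | h | ⟨γ, hγ, h⟩ | ⟨γ, -, -, -, h⟩ | ⟨-, ⟨h, -⟩ | h⟩
      rotate_left 2
      · exact ⟨γ, hγ, h⟩
      all_goals
        exfalso
        first | rw [h, GLTwoChar.stS_one] at hd | (rw [h] at hd; simp only [Pi.one_apply] at hd) | rw [hd] at h
        (try rw [hqc] at hd)
        (try rw [hqc] at h)
        first
          | (have := congrArg Complex.re hd; simp at this <;> linarith)
          | (have := congrArg Complex.re h; simp at this <;> linarith)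
    · rintro ⟨γ, -, h⟩
      rw [h, GLTwoChar.psS_one]
  · refine (Nat.card_congr (Equiv.subtypeEquivRight fun θ => ⟨fun hd => ⟨?_, hd⟩, fun h => h.2⟩)).trans cd
    rcases GLTwoChar.sl_cases θ.2 with h | h | ⟨γ, hγ, h⟩ | ⟨γ, -, -, -, h⟩ | ⟨hc, -⟩
    rotate_left 4
    · exact hc
    all_goals
      exfalso
      first | rw [h, GLTwoChar.stS_one] at hd | rw [h, GLTwoChar.psS_one] at hd | (rw [h] at hd; simp only [Pi.one_apply] at hd) | rw [hd] at h
      (try rw [hqc] at hd)
      (try rw [hqc] at h)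
      first
        | (have := congrArg Complex.re h; simp at this <;> linarith)
        | (have := congrArg Complex.re hd; simp at this <;> linarith)
  · rw [Nat.card_eq_two_iff]
    refine ⟨⟨⟨χ₁, h1⟩, ?_⟩, ⟨⟨χ₂, h2⟩, ?_⟩, fun h => h3 (congrArg (fun z => (z : IrrCharacter _).1) (congrArg Subtype.val h)), Set.eq_univ_of_forall ?_⟩
    · rw [hp]; linear_combination hd1 / 2
    · rw [hp]; linear_combination hd2 / 2
    · rintro ⟨⟨θ, hθ⟩, hd⟩
      change θ 1 = _ at hd
      rw [hp] at hd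
      rcases GLTwoChar.sl_cases hθ with rfl | rfl | ⟨γ, -, rfl⟩ | ⟨γ, g1, g2, g3, -⟩ | ⟨-, ⟨h, -⟩ | h⟩
      rotate_left 3
      · rcases hhalf θ hθ γ g1 g2 g3 with rfl | rfl
        · exact Or.inl rfl
        · exact Or.inr rfl
      all_goals
        exfalso
        first | simp only [Pi.one_apply] at hd | rw [GLTwoChar.stS_one] at hd | rw [GLTwoChar.psS_one] at hd | rw [hd] at h
        (try rw [hqc] at hd)
        (try rw [hqc] at h)
        first
          | (have := congrArg Complex.re hd; simp at this <;> linarith)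
          | (have := congrArg Complex.re h; simp at this <;> linarith)
  · refine (Nat.card_congr (Equiv.subtypeEquivRight fun θ => ⟨fun hd => ?_, fun h => ?_⟩)).trans ce
    · rw [hmi] at hd
      refine ⟨?_, by rw [hd, hqc]; ring⟩
      rcases GLTwoChar.sl_cases θ.2 with h | h | ⟨γ, hγ, h⟩ | ⟨γ, -, -, -, h⟩ | ⟨hc, -⟩
      rotate_left 4
      · exact hc
      all_goals
        exfalso
        first | rw [h, GLTwoChar.stS_one] at hd | rw [h, GLTwoChar.psS_one] at hd | (rw [h] at hd; simp only [Pi.one_apply] at hd) | rw [hd] at h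
        (try rw [hqc] at hd)
        (try rw [hqc] at h)
        first
          | (have := congrArg Complex.re hd; simp at this <;> linarith)
          | (have := congrArg Complex.re h; simp at this <;> linarith)
    · have h' := h.2
      rw [hqc] at h'
      rw [hmi]
      linear_combination h' / 2

end Cfsg.Agent.S2299
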