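import Cfsg.Statements.S2300
import Cfsg.Agent.Lib.GLTwoChar.SLTable
import Cfsg.Agent.S2298

set_option autoImplicit false
open Cfsg

namespace Cfsg.Agent.S2300

/-- Over a finite field F with q elements, q even, every irreducible complex character of SL₂ has degree 1, q − 1, q or q + 1; and when q ≥ 4 (so that these four numbers are distinct) there are exactly one irreducible character of degree 1, one of degree q, (q − 2)/2 of degree q + 1 and q/2 of degree q − 1. -/
theorem result {F : Type*} [Field F] [Fintype F] [CharP F 2] :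
    (∀ χ : Matrix.SpecialLinearGroup (Fin 2) F → ℂ, Cfsg.IsIrrCharacter (Matrix.SpecialLinearGroup (Fin 2) F) χ →
      χ 1 = 1 ∨ χ 1 = (Fintype.card F : ℂ) - 1 ∨ χ 1 = (Fintype.card F : ℂ) ∨ χ 1 = (Fintype.card F : ℂ) + 1) ∧
    (4 ≤ Fintype.card F →
      Nat.card {χ : Cfsg.IrrCharacter (Matrix.SpecialLinearGroup (Fin 2) F) // (χ : Matrix.SpecialLinearGroup (Fin 2) F → ℂ) 1 = 1} = 1 ∧
      Nat.card {χ : Cfsg.IrrCharacter (Matrix.SpecialLinearGroup (Fin 2) F) // (χ : Matrix.SpecialLinearGroup (Fin 2) F → ℂ) 1 = (Fintype.card F : ℂ)} = 1 ∧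
      Nat.card {χ : Cfsg.IrrCharacter (Matrix.SpecialLinearGroup (Fin 2) F) // (χ : Matrix.SpecialLinearGroup (Fin 2) F → ℂ) 1 = (Fintype.card F : ℂ) + 1} = (Fintype.card F - 2) / 2 ∧
      Nat.card {χ : Cfsg.IrrCharacter (Matrix.SpecialLinearGroup (Fin 2) F) // (χ : Matrix.SpecialLinearGroup (Fin 2) F → ℂ) 1 = (Fintype.card F : ℂ) - 1} = Fintype.card F / 2) := by
  classical
  constructor
  · intro χ hχ
    rcases GLTwoChar.sl_cases hχ with rfl | rfl | ⟨γ, -, rfl⟩ | ⟨γ, hne, h2, -, -⟩ | ⟨-, ⟨h, -⟩ | h⟩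
    · exact Or.inl rfl
    · exact Or.inr (Or.inr (Or.inl GLTwoChar.stS_one))
    · exact Or.inr (Or.inr (Or.inr (GLTwoChar.psS_one γ)))
    · exact absurd (GLTwoChar.sq_eq_one_of_char_two h2) hne
    · exact Or.inr (Or.inl h)
    · exfalso
      obtain ⟨n, -, hn⟩ := Char.IsIrrCharacter.exists_degree hχ
      rw [hn] at h
      have h' : ((2 * n + 1 : ℕ) : ℂ) = (Fintype.card F : ℕ) := by push_cast; linear_combination h
      have h'' : 2 * n + 1 = Fintype.card F := by exact_mod_cast h'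
      have := FiniteField.even_card_of_char_two (F := F) (ringChar.eq F 2)
      omega
  intro hq
  obtain ⟨c1, cq, cp, cm⟩ := (Cfsg.Agent.S2298.result (F := F)).2 (by omega)
  let f : Fˣ × Matrix.SpecialLinearGroup (Fin 2) F →* GL (Fin 2) F :=
    { toFun := fun p => GLTwoChar.scal F p.1 * Matrix.SpecialLinearGroup.toGL p.2
      map_one' := by simp
      map_mul' := fun p q => by
        simp only [Prod.fst_mul, Prod.snd_mul, map_mul, mul_assoc]
        congr 1
        rw [← mul_assoc (Matrix.SpecialLinearGroup.toGL p.2), Subgroup.mem_center_iff.1 (GLTwoChar.scal_central q.1), mul_assoc] }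
  have hsurj : Function.Surjective f := by
    intro g
    obtain ⟨s, hs⟩ := GLTwoChar.exists_sq_eq (g : Matrix (Fin 2) (Fin 2) F).det
    obtain ⟨z, h, hg⟩ := GLTwoChar.exists_scal_mul (g := g) ⟨s, hs.symm⟩
    exact ⟨(z, h), hg.symm⟩
  have hcard : Nat.card (Fˣ × Matrix.SpecialLinearGroup (Fin 2) F) = Nat.card (GL (Fin 2) F) := by
    rw [Nat.card_prod, GLOrder.card_units, GLOrder.card_SL_mul]
  let e : Fˣ × Matrix.SpecialLinearGroup (Fin 2) F ≃* GL (Fin 2) F :=
    MulEquiv.ofBijective f ((Nat.bijective_iff_surjective_and_card f).2 ⟨hsurj, hcard⟩)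
  have hcomm : ∀ a b : Fˣ, a * b = b * a := mul_comm
  have hlin : Nat.card (IrrCharacter Fˣ) = Fintype.card F - 1 := by
    rw [Char.card_irr_eq_card_conjClasses, Char.card_conjClasses_of_comm hcomm, GLOrder.card_units, Nat.card_eq_fintype_card]
  have key : ∀ d : ℂ, (Fintype.card F - 1) * Nat.card {χ : IrrCharacter (Matrix.SpecialLinearGroup (Fin 2) F) // (χ : Matrix.SpecialLinearGroup (Fin 2) F → ℂ) 1 = d} =
      Nat.card {χ : IrrCharacter (GL (Fin 2) F) // (χ : GL (Fin 2) F → ℂ) 1 = d} := by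
    intro d
    rw [← hlin, ← Nat.card_prod]
    refine Nat.card_eq_of_bijective (fun p => ⟨⟨_, Char.IsIrrCharacter.comp_equiv (Char.IsIrrCharacter.prodMul p.1.2 p.2.1.2) e.symm⟩, ?_⟩) ⟨?_, ?_⟩
    · simp only [map_one, Prod.fst_one, Prod.snd_one]
      rw [Char.apply_one_eq_one_of_comm hcomm p.1, one_mul, p.2.2]
    · rintro ⟨⟨l, hl⟩, ⟨⟨θ, hθ⟩, hθd⟩⟩ ⟨⟨l', hl'⟩, ⟨⟨θ', hθ'⟩, hθd'⟩⟩ h
      have hf : ∀ x, l (e.symm x).1 * θ (e.symm x).2 = l' (e.symm x).1 * θ' (e.symm x).2 :=
        fun x => congrFun (congrArg (fun c : {χ : IrrCharacter (GL (Fin 2) F) // (χ : GL (Fin 2) F → ℂ) 1 = d} => (c.1 : GL (Fin 2) F → ℂ)) h) x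
      have hθθ : θ = θ' := funext fun s => by
        have := hf (e (1, s))
        rw [e.symm_apply_apply, show l 1 = 1 from Char.apply_one_eq_one_of_comm hcomm ⟨l, hl⟩,
          show l' 1 = 1 from Char.apply_one_eq_one_of_comm hcomm ⟨l', hl'⟩, one_mul, one_mul] at this
        exact this
      subst hθθ
      have hll : l = l' := funext fun z => by
        have := hf (e (z, 1))
        rw [e.symm_apply_apply] at this
        exact mul_right_cancel₀ (Char.IsIrrCharacter.apply_one_ne_zero hθ) this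
      subst hll
      rfl
    · rintro ⟨⟨ψ, hψ⟩, hd⟩
      obtain ⟨l, θ, hl, hθ, heq⟩ := (Char.isIrrCharacter_prod_iff _).1 (Char.IsIrrCharacter.comp_equiv hψ e)
      refine ⟨(⟨l, hl⟩, ⟨⟨θ, hθ⟩, ?_⟩), Subtype.ext (Subtype.ext (funext fun x => ?_))⟩
      · have := congrFun heq 1
        simp only [map_one, Prod.fst_one, Prod.snd_one] at this
        rw [show l 1 = 1 from Char.apply_one_eq_one_of_comm hcomm ⟨l, hl⟩, one_mul] at this
        exact this.symm.trans hd
      · have := congrFun heq (e.symm x)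
        rw [e.apply_symm_apply] at this
        exact this.symm
  have hq1 : 0 < Fintype.card F - 1 := by omega
  obtain ⟨k, hk⟩ : ∃ k, Fintype.card F = 2 * k := ⟨Fintype.card F / 2, by
    have := FiniteField.even_card_of_char_two (F := F) (ringChar.eq F 2); omega⟩
  refine ⟨?_, ?_, ?_, ?_⟩ <;> refine Nat.eq_of_mul_eq_mul_left hq1 ((key _).trans ?_)
  · rw [mul_one]; exact c1
  · rw [mul_one]; exact cq
  · refine cp.trans (Nat.mul_div_assoc _ ?_)
    exact ⟨k - 1, by omega⟩
  · refine cm.trans ?_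
    rw [mul_comm (Fintype.card F)]
    exact Nat.mul_div_assoc _ ⟨k, hk⟩

end Cfsg.Agent.S2300
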