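import Cfsg.Statements.S2301
import Cfsg.Agent.Lib.GLTwoChar.Unipotent

set_option autoImplicit false
open Cfsg

namespace Cfsg.Agent.S2301

/-- Over a finite field with q elements of odd characteristic p, the elements of order p of SL₂ (the non-identity unipotent elements) fall into exactly two conjugacy classes, each of size (q² − 1)/2; two upper unitriangular matrices with non-zero off-diagonal entries b and b′ are conjugate exactly when bb′ is a square. -/
theorem result {F : Type*} [Field F] [Fintype F] (p : ℕ) [Fact p.Prime] [CharP F p] (hp : p ≠ 2) :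
    Nat.card {C : ConjClasses (Matrix.SpecialLinearGroup (Fin 2) F) // ∃ g : Matrix.SpecialLinearGroup (Fin 2) F, orderOf g = p ∧ ConjClasses.mk g = C} = 2 ∧
    (∀ g : Matrix.SpecialLinearGroup (Fin 2) F, orderOf g = p → Nat.card (ConjClasses.mk g).carrier = (Fintype.card F ^ 2 - 1) / 2) ∧
    ∀ g h : Matrix.SpecialLinearGroup (Fin 2) F, (g : Matrix (Fin 2) (Fin 2) F) 0 0 = 1 → (g : Matrix (Fin 2) (Fin 2) F) 1 1 = 1 → (g : Matrix (Fin 2) (Fin 2) F) 1 0 = 0 → (g : Matrix (Fin 2) (Fin 2) F) 0 1 ≠ 0 →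
      (h : Matrix (Fin 2) (Fin 2) F) 0 0 = 1 → (h : Matrix (Fin 2) (Fin 2) F) 1 1 = 1 → (h : Matrix (Fin 2) (Fin 2) F) 1 0 = 0 → (h : Matrix (Fin 2) (Fin 2) F) 0 1 ≠ 0 →
      (IsConj g h ↔ IsSquare ((g : Matrix (Fin 2) (Fin 2) F) 0 1 * (h : Matrix (Fin 2) (Fin 2) F) 0 1)) := by
  classical
  have h2 : (2 : F) ≠ 0 := by
    intro h
    have h' : ((2 : ℕ) : F) = 0 := by exact_mod_cast h
    rw [CharP.cast_eq_zero_iff F p] at h'
    exact hp ((Nat.prime_dvd_prime_iff_eq Fact.out Nat.prime_two).1 h')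
  have hodd : ringChar F ≠ 2 := by rw [ringChar.eq F p]; exact hp
  have key : ∀ g, orderOf g = p → ∃ b : F, b ≠ 0 ∧ IsConj g (GLTwoChar.uSL b) := fun g hg =>
    GLTwoChar.exists_isConj_uSL ((GLTwoChar.orderOf_eq_char_iff p g).1 hg).1 ((GLTwoChar.orderOf_eq_char_iff p g).1 hg).2
  have ord : ∀ b : F, b ≠ 0 → orderOf (GLTwoChar.uSL b) = p := fun b hb =>
    (GLTwoChar.orderOf_eq_char_iff p _).2 ⟨by simp [GLTwoChar.coe_uSL, one_add_one_eq_two], GLTwoChar.not_isScalar_uSL hb⟩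
  refine ⟨?_, ?_, ?_⟩
  · obtain ⟨e, he⟩ := FiniteField.exists_nonsquare hodd
    have he0 : e ≠ 0 := fun h => he (h ▸ ⟨0, (mul_zero 0).symm⟩)
    rw [Nat.card_eq_two_iff]
    refine ⟨⟨_, _, ord 1 one_ne_zero, rfl⟩, ⟨_, _, ord e he0, rfl⟩, ?_, Set.eq_univ_of_forall ?_⟩
    · intro h
      have h1 := ConjClasses.mk_eq_mk_iff_isConj.1 (congrArg Subtype.val h)
      rw [GLTwoChar.isConj_uSL_iff one_ne_zero he0, one_mul] at h1
      exact he h1
    · rintro ⟨C, g, hg, rfl⟩
      obtain ⟨b, hb, hgb⟩ := key g hg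
      by_cases hs : IsSquare b
      · left
        exact Subtype.ext (ConjClasses.mk_eq_mk_iff_isConj.2 (hgb.trans ((GLTwoChar.isConj_uSL_iff hb one_ne_zero).2 (by rwa [mul_one]))))
      · right
        refine Subtype.ext (ConjClasses.mk_eq_mk_iff_isConj.2 (hgb.trans ((GLTwoChar.isConj_uSL_iff hb he0).2 ?_)))
        rw [FiniteField.isSquare_iff hodd (mul_ne_zero hb he0), mul_pow,
          (FiniteField.pow_dichotomy hodd hb).resolve_left (fun h => hs ((FiniteField.isSquare_iff hodd hb).2 h)),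
          (FiniteField.pow_dichotomy hodd he0).resolve_left (fun h => he ((FiniteField.isSquare_iff hodd he0).2 h))]
        ring
  · intro g hg
    obtain ⟨b, hb, hgb⟩ := key g hg
    rw [ConjClasses.mk_eq_mk_iff_isConj.2 hgb]
    exact GLTwoChar.card_class_uSL h2 hb
  · intro g h g00 g11 g10 g01 h00 h11 h10 h01
    rw [GLTwoChar.eq_uSL g00 g11 g10, GLTwoChar.eq_uSL h00 h11 h10]
    exact GLTwoChar.isConj_uSL_iff g01 h01

end Cfsg.Agent.S2301
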