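import Cfsg.Statements.S2302
import Cfsg.Agent.Lib.GLTwoChar.Unipotent

set_option autoImplicit false
open Cfsg

namespace Cfsg.Agent.S2302

/-- Over a finite field with q elements of characteristic 2, the involutions of SL₂ (the non-identity unipotent elements) form a single conjugacy class, of size q² − 1. -/
theorem result {F : Type*} [Field F] [Fintype F] [CharP F 2] (g h : Matrix.SpecialLinearGroup (Fin 2) F) (hg : orderOf g = 2) (hh : orderOf h = 2) :
    IsConj g h ∧ Nat.card (ConjClasses.mk g).carrier = Fintype.card F ^ 2 - 1 := by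
  obtain ⟨hgt, hgs⟩ := (GLTwoChar.orderOf_eq_char_iff 2 g).1 hg
  obtain ⟨hht, hhs⟩ := (GLTwoChar.orderOf_eq_char_iff 2 h).1 hh
  obtain ⟨b, hb, hgb⟩ := GLTwoChar.exists_isConj_uSL hgt hgs
  obtain ⟨c, hc, hhc⟩ := GLTwoChar.exists_isConj_uSL hht hhs
  obtain ⟨s, hs⟩ := GLTwoChar.exists_sq_eq (b * c)
  refine ⟨hgb.trans (((GLTwoChar.isConj_uSL_iff hb hc).2 ⟨s, hs.symm⟩).trans hhc.symm), ?_⟩
  rw [ConjClasses.mk_eq_mk_iff_isConj.2 hgb]
  exact GLTwoChar.card_class_uSL_two hb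

end Cfsg.Agent.S2302
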