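import Cfsg.Statements.S2303
import Cfsg.Agent.Lib.GLTwoChar.Matrix

set_option autoImplicit false
open Cfsg

namespace Cfsg.Agent.S2303

/-- Over a finite field with q elements: a diagonal element of GL₂ with two distinct diagonal entries has centralizer of order (q − 1)² (so q(q + 1) conjugates), and an element of GL₂ with no eigenvector in F² has centralizer of order q² − 1 (so q(q − 1) conjugates). -/
theorem result {F : Type*} [Field F] [Fintype F] (g : Matrix.GeneralLinearGroup (Fin 2) F) :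
    ((g : Matrix (Fin 2) (Fin 2) F) 0 1 = 0 → (g : Matrix (Fin 2) (Fin 2) F) 1 0 = 0 → (g : Matrix (Fin 2) (Fin 2) F) 0 0 ≠ (g : Matrix (Fin 2) (Fin 2) F) 1 1 →
      Nat.card (Subgroup.centralizer ({g} : Set (Matrix.GeneralLinearGroup (Fin 2) F))) = (Fintype.card F - 1) ^ 2) ∧
    ((∀ (c : F) (v : Fin 2 → F), v ≠ 0 → (g : Matrix (Fin 2) (Fin 2) F).mulVec v ≠ c • v) →
      Nat.card (Subgroup.centralizer ({g} : Set (Matrix.GeneralLinearGroup (Fin 2) F))) = Fintype.card F ^ 2 - 1) := by
  classical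
  constructor
  · intro h01 h10 hne
    rw [GLTwoChar.card_centralizer_GL (fun hs => hne hs.2.2)]
    have hdet : ∀ x y : F, (x • (1 : Matrix (Fin 2) (Fin 2) F) + y • (g : Matrix (Fin 2) (Fin 2) F)).det =
        (x + y * (g : Matrix (Fin 2) (Fin 2) F) 0 0) * (x + y * (g : Matrix (Fin 2) (Fin 2) F) 1 1) := by
      intro x y
      simp [Matrix.det_fin_two, h01, h10]
    have hsub := sub_ne_zero.2 hne
    rw [sq, ← Nat.card_eq_fintype_card, ← GLOrder.card_units, ← Nat.card_prod]
    refine Nat.card_congr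
      ⟨fun p => (Units.mk0 _ (left_ne_zero_of_mul (hdet p.1.1 p.1.2 ▸ p.2)), Units.mk0 _ (right_ne_zero_of_mul (hdet p.1.1 p.1.2 ▸ p.2))),
        fun u => ⟨((u.1 : F) - ((u.1 : F) - u.2) / ((g : Matrix (Fin 2) (Fin 2) F) 0 0 - (g : Matrix (Fin 2) (Fin 2) F) 1 1) * (g : Matrix (Fin 2) (Fin 2) F) 0 0,
          ((u.1 : F) - u.2) / ((g : Matrix (Fin 2) (Fin 2) F) 0 0 - (g : Matrix (Fin 2) (Fin 2) F) 1 1)), ?_⟩, ?_, ?_⟩
    · rw [hdet]
      refine mul_ne_zero ?_ ?_
      · simp
      · convert u.2.ne_zero using 1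
        field_simp
        ring
    · rintro ⟨⟨x, y⟩, hp⟩
      refine Subtype.ext ?_
      simp only [Units.val_mk0, Prod.mk.injEq]
      constructor <;> field_simp <;> ring
    · rintro ⟨a, b⟩
      refine Prod.ext (Units.ext ?_) (Units.ext ?_) <;> simp only [Units.val_mk0] <;> field_simp <;> ring
  · intro hell
    have hns : ¬ GLTwoChar.IsScalar (g : Matrix (Fin 2) (Fin 2) F) := fun hs => by
      obtain ⟨a, ha⟩ := GLTwoChar.isScalar_iff.1 hs
      exact hell a ![1, 0] (fun h => one_ne_zero (congrFun h 0)) (by rw [ha, Matrix.smul_mulVec, Matrix.one_mulVec])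
    rw [GLTwoChar.card_centralizer_GL hns]
    have hiff : ∀ p : F × F, (p.1 • (1 : Matrix (Fin 2) (Fin 2) F) + p.2 • (g : Matrix (Fin 2) (Fin 2) F)).det ≠ 0 ↔ p ≠ 0 := by
      rintro ⟨x, y⟩
      refine ⟨fun h hp => ?_, fun hp h => ?_⟩
      · rw [Prod.mk_eq_zero] at hp
        simp [hp.1, hp.2] at h
      · obtain ⟨v, hv, hv0⟩ := Matrix.exists_mulVec_eq_zero_iff.2 h
        by_cases hy : y = 0
        · subst hy
          simp [Matrix.smul_mulVec] at hv0
          rcases hv0 with hx | hx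
          · exact hp (by simp [hx])
          · exact hv hx
        · refine hell (-x / y) v hv ?_
          have h' : y • ((g : Matrix (Fin 2) (Fin 2) F).mulVec v) = (-x) • v := by
            rw [Matrix.add_mulVec, Matrix.smul_mulVec, Matrix.smul_mulVec, Matrix.one_mulVec] at hv0
            rw [neg_smul, eq_neg_iff_add_eq_zero, add_comm]
            exact hv0
          rw [div_eq_inv_mul, mul_smul, ← h', inv_smul_smul₀ hy]
    rw [Nat.card_congr (Equiv.subtypeEquivRight hiff), Nat.card_eq_fintype_card, Fintype.card_subtype_compl,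
      Fintype.card_prod, Fintype.card_subtype_eq, sq]

end Cfsg.Agent.S2303
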