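import Cfsg.Statements.S2307
import Cfsg.Agent.Lib.GLTwoChar.SLTable

set_option autoImplicit false
open Cfsg

namespace Cfsg.Agent.S2307

/-- Over a finite field F with q elements, q odd, let α be the multiplicative character of F of order 2. The character of SL₂ induced from the linear character b ↦ α(b₁₁) of the upper triangular subgroup is the sum of two distinct irreducible characters, each of degree (q + 1)/2, which are conjugate under GL₂: some fixed element of GL₂ conjugates the one into the other. -/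
theorem result {F : Type*} [Field F] [Fintype F] [DecidableEq F] (hodd : Odd (Fintype.card F)) (α : MulChar F ℂ)
    (hα : α ^ 2 = 1) (hα1 : α ≠ 1) :
    ∃ χ₁ χ₂ : Matrix.SpecialLinearGroup (Fin 2) F → ℂ, Cfsg.IsIrrCharacter (Matrix.SpecialLinearGroup (Fin 2) F) χ₁ ∧ Cfsg.IsIrrCharacter (Matrix.SpecialLinearGroup (Fin 2) F) χ₂ ∧ χ₁ ≠ χ₂ ∧
      Cfsg.indFun ((Cfsg.upperTriangularGL 2 F).comap Matrix.SpecialLinearGroup.toGL) (fun b => α (((b : Matrix.SpecialLinearGroup (Fin 2) F) : Matrix (Fin 2) (Fin 2) F) 0 0)) = χ₁ + χ₂ ∧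
      χ₁ 1 = (((Fintype.card F + 1) / 2 : ℕ) : ℂ) ∧ χ₂ 1 = (((Fintype.card F + 1) / 2 : ℕ) : ℂ) ∧
      ∃ x : Matrix.GeneralLinearGroup (Fin 2) F, ∀ g h : Matrix.SpecialLinearGroup (Fin 2) F,
        Matrix.SpecialLinearGroup.toGL h = x * Matrix.SpecialLinearGroup.toGL g * x⁻¹ → χ₂ h = χ₁ g := by
  classical
  have hchar : ringChar F ≠ 2 := fun h => by
    have := FiniteField.even_card_of_char_two h
    rw [Nat.odd_iff] at hodd
    omega
  obtain ⟨e, he⟩ := FiniteField.exists_nonsquare hchar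
  have he0 := GLTwoChar.ne_zero_of_nonsquare he
  have hψ := GLTwoChar.ps_irr (F := F) hα1
  have hres : GLTwoChar.res (GLTwoChar.ps α 1) = GLTwoChar.psS α := by
    rw [GLTwoChar.res_ps, inv_one, mul_one]
  rcases GLTwoChar.res_cases he hψ with hirr | ⟨θ, h1, h2, h3, h4⟩
  · rw [hres] at hirr
    exact absurd hα ((GLTwoChar.psS_irr_iff α).1 hirr)
  rw [hres] at h4
  obtain ⟨E, hE⟩ : ∃ E, E = GLTwoChar.conjSL (GLTwoChar.dx he0) := ⟨_, rfl⟩
  rw [← hE] at h2 h3 h4
  have hkey : (fun b : ((Cfsg.upperTriangularGL 2 F).comap Matrix.SpecialLinearGroup.toGL : Subgroup (Matrix.SpecialLinearGroup (Fin 2) F)) =>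
      α (((b : Matrix.SpecialLinearGroup (Fin 2) F) : Matrix (Fin 2) (Fin 2) F) 0 0)) = (⇑((GLTwoChar.slDatum F).theta α 1) : (GLTwoChar.slDatum F).B → ℂ) :=
    funext fun b => (GLTwoChar.sTheta_apply α b).symm
  have hdeg : θ 1 = (((Fintype.card F + 1) / 2 : ℕ) : ℂ) := by
    have h5 := congrFun h4 1
    simp only [Pi.add_apply, map_one, GLTwoChar.psS_one] at h5
    obtain ⟨k, hk⟩ := hodd
    rw [hk, show (2 * k + 1 + 1) / 2 = k + 1 by omega]
    rw [hk] at h5
    push_cast at h5 ⊢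
    linear_combination -(h5 / 2)
  refine ⟨θ, fun h => θ (E h), h1, h2, h3.symm, ?_, hdeg, ?_, GLTwoChar.dx he0, ?_⟩
  · rw [hkey]; exact h4
  · simp only [map_one]; exact hdeg
  · intro g h hgh
    simp only [hE]
    congr 1
    refine Matrix.SpecialLinearGroup.toGL_injective ?_
    rw [GLTwoChar.toGL_conjSL, hgh]
    group

end Cfsg.Agent.S2307
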