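import Cfsg.Statements.S2308
import Cfsg.Agent.Lib.GLTwoChar.Borel
import Cfsg.Agent.Lib.Char.Perm

set_option autoImplicit false
open Cfsg

namespace Cfsg.Agent.S2308

/-- Values of the permutation character of GL₂ over a finite field F with q elements on the cosets of its upper triangular subgroup (equivalently, the number of lines of F² that an element maps to themselves): q + 1 at a scalar matrix, 2 at a diagonal matrix with two different diagonal entries, 0 at an element with no eigenvector in F², and 1 at an upper triangular matrix with equal diagonal entries and non-zero upper right entry. -/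
theorem result {F : Type*} [Field F] [Fintype F] (g : Matrix.GeneralLinearGroup (Fin 2) F) :
    ((∃ a : F, (g : Matrix (Fin 2) (Fin 2) F) = a • (1 : Matrix (Fin 2) (Fin 2) F)) → Cfsg.fixedPointCharacter (Cfsg.upperTriangularGL 2 F) g = Fintype.card F + 1) ∧
    ((g : Matrix (Fin 2) (Fin 2) F) 0 1 = 0 → (g : Matrix (Fin 2) (Fin 2) F) 1 0 = 0 → (g : Matrix (Fin 2) (Fin 2) F) 0 0 ≠ (g : Matrix (Fin 2) (Fin 2) F) 1 1 →
      Cfsg.fixedPointCharacter (Cfsg.upperTriangularGL 2 F) g = 2) ∧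
    ((∀ (c : F) (v : Fin 2 → F), v ≠ 0 → (g : Matrix (Fin 2) (Fin 2) F).mulVec v ≠ c • v) → Cfsg.fixedPointCharacter (Cfsg.upperTriangularGL 2 F) g = 0) ∧
    ((g : Matrix (Fin 2) (Fin 2) F) 1 0 = 0 → (g : Matrix (Fin 2) (Fin 2) F) 0 0 = (g : Matrix (Fin 2) (Fin 2) F) 1 1 → (g : Matrix (Fin 2) (Fin 2) F) 0 1 ≠ 0 →
      Cfsg.fixedPointCharacter (Cfsg.upperTriangularGL 2 F) g = 1) := by
  classical
  let D := GLTwoChar.glDatum F
  have h1 : D.IsT (1 : D.B →* ℂ) := fun _ _ _ => rfl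
  have htw : ∀ b, D.tw h1 b = 1 := fun _ => rfl
  have key : Cfsg.fixedPointCharacter (Cfsg.upperTriangularGL 2 F) g = Cfsg.indFun D.B (⇑(1 : D.B →* ℂ)) g :=
    (Char.indFun_one_eq_fixedPoints D.B g).symm
  rw [key]
  refine ⟨?_, ?_, ?_, ?_⟩
  · rintro ⟨a, ha⟩
    have hb : g ∈ D.B := D.mem_B.2 (by change (g : Matrix (Fin 2) (Fin 2) F) 1 0 = 0; simp [ha])
    refine (D.indFun_scalar h1 ⟨g, hb⟩ ?_ ?_).trans (by simp)
    · change (g : Matrix (Fin 2) (Fin 2) F) 0 0 = (g : Matrix (Fin 2) (Fin 2) F) 1 1; simp [ha]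
    · change (g : Matrix (Fin 2) (Fin 2) F) 0 1 = 0; simp [ha]
  · intro h01 h10 hne
    refine (D.indFun_regular h1 ⟨g, D.mem_B.2 h10⟩ hne).trans ?_
    rw [htw]
    norm_num
  · intro hell
    exact D.indFun_ell _ hell
  · intro h10 he h01
    exact (D.indFun_unip h1 ⟨g, D.mem_B.2 h10⟩ he h01).trans rfl

end Cfsg.Agent.S2308
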