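import Cfsg.Statements.S2309
import Cfsg.Agent.Lib.GLTwoChar.GLTable

set_option autoImplicit false
open Cfsg

namespace Cfsg.Agent.S2309

/-- Over a finite field F with q elements: every irreducible complex character of GL₂ of degree q − 1 vanishes at every diagonal matrix with two distinct entries, and every irreducible complex character of degree q + 1 vanishes at every element with no eigenvector in F². -/
theorem result {F : Type*} [Field F] [Fintype F] (χ : Matrix.GeneralLinearGroup (Fin 2) F → ℂ) (hχ : Cfsg.IsIrrCharacter (Matrix.GeneralLinearGroup (Fin 2) F) χ) (g : Matrix.GeneralLinearGroup (Fin 2) F) :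
    (χ 1 = (Fintype.card F : ℂ) - 1 → (g : Matrix (Fin 2) (Fin 2) F) 0 1 = 0 → (g : Matrix (Fin 2) (Fin 2) F) 1 0 = 0 → (g : Matrix (Fin 2) (Fin 2) F) 0 0 ≠ (g : Matrix (Fin 2) (Fin 2) F) 1 1 → χ g = 0) ∧
    (χ 1 = (Fintype.card F : ℂ) + 1 → (∀ (c : F) (v : Fin 2 → F), v ≠ 0 → (g : Matrix (Fin 2) (Fin 2) F).mulVec v ≠ c • v) → χ g = 0) := by
  classical
  haveI := Fintype.ofFinite (GLTwoChar.glDatum F).B
  have hq := Fintype.one_lt_card (α := F)
  constructor
  · intro hdeg h01 h10 hne
    refine (GLTwoChar.glDatum F).cusp_apply_borel ?_ (Char.IsIrrCharacter.isCharacter hχ) ⟨g, (GLTwoChar.glDatum F).mem_B.2 h10⟩ hne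
    rcases GLTwoChar.gl_cases hχ with ⟨α, rfl⟩ | ⟨α, rfl⟩ | ⟨α, β, -, rfl⟩ | hc
    · exfalso
      rw [map_one] at hdeg
      have h2 : Fintype.card F = 2 := by
        have : (Fintype.card F : ℂ) = (2 : ℕ) := by push_cast; linear_combination -hdeg
        exact_mod_cast this
      have hd := Matrix.GeneralLinearGroup.det_ne_zero g
      rw [Matrix.det_fin_two, h10, mul_zero, sub_zero] at hd
      have h1 := FiniteField.pow_card_sub_one_eq_one _ (left_ne_zero_of_mul hd)
      have h1' := FiniteField.pow_card_sub_one_eq_one _ (right_ne_zero_of_mul hd)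
      rw [h2, show 2 - 1 = 1 from rfl, pow_one] at h1 h1'
      exact hne (h1.trans h1'.symm)
    · rw [GLTwoChar.st_one] at hdeg
      exact absurd hdeg (fun h => one_ne_zero (α := ℂ) (by linear_combination h))
    · rw [GLTwoChar.ps_one] at hdeg
      exact absurd hdeg (fun h => two_ne_zero (α := ℂ) (by linear_combination h))
    · exact hc
  · intro hdeg hell
    rcases GLTwoChar.gl_cases hχ with ⟨α, rfl⟩ | ⟨α, rfl⟩ | ⟨α, β, -, rfl⟩ | hc
    · rw [map_one] at hdeg
      exact absurd hdeg (fun h => Fintype.card_ne_zero (α := F) (by exact_mod_cast (by linear_combination -h : (Fintype.card F : ℂ) = 0)))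
    · rw [GLTwoChar.st_one] at hdeg
      exact absurd hdeg (fun h => one_ne_zero (α := ℂ) (by linear_combination -h))
    · exact (GLTwoChar.glDatum F).indFun_ell _ hell
    · rw [(GLTwoChar.gl_cusp hχ hc).1] at hdeg
      exact absurd hdeg (fun h => two_ne_zero (α := ℂ) (by linear_combination -h))

end Cfsg.Agent.S2309
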