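import Cfsg.Statements.S2310
import Cfsg.Agent.Lib.GLTwoChar.GLTable

set_option autoImplicit false
open Cfsg

namespace Cfsg.Agent.S2310

/-- Over a finite field F with q ≥ 3 elements, let u be the upper unitriangular matrix of GL₂ with off-diagonal entry 1. An irreducible complex character χ of GL₂ takes at u the value 1 if χ has degree 1 or q + 1, the value −1 if χ has degree q − 1, and the value 0 if χ has degree q. -/
theorem result {F : Type*} [Field F] [Fintype F] (hq : 3 ≤ Fintype.card F) (χ : Matrix.GeneralLinearGroup (Fin 2) F → ℂ) (hχ : Cfsg.IsIrrCharacter (Matrix.GeneralLinearGroup (Fin 2) F) χ)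
    (u : Matrix.GeneralLinearGroup (Fin 2) F) (hu : (u : Matrix (Fin 2) (Fin 2) F) = !![1, 1; 0, 1]) :
    (χ 1 = 1 → χ u = 1) ∧ (χ 1 = (Fintype.card F : ℂ) + 1 → χ u = 1) ∧
    (χ 1 = (Fintype.card F : ℂ) - 1 → χ u = -1) ∧ (χ 1 = (Fintype.card F : ℂ) → χ u = 0) := by
  classical
  haveI := Fintype.ofFinite (GLTwoChar.glDatum F).B
  have hu' : u = (GLTwoChar.glDatum F).u 1 := (GLTwoChar.glDatum F).ext (hu.trans ((GLTwoChar.glDatum F).M_u 1).symm)
  subst hu'
  have hlam : ∀ α : MulChar F ℂ, GLTwoChar.lam α ((GLTwoChar.glDatum F).u 1) = 1 := fun α => by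
    rw [GLTwoChar.lam_apply, show (((GLTwoChar.glDatum F).u 1 : GL (Fin 2) F) : Matrix (Fin 2) (Fin 2) F) = !![1, 1; 0, 1] from (GLTwoChar.glDatum F).M_u 1]
    simp [Matrix.det_fin_two]
  have hps : ∀ α β : MulChar F ℂ, GLTwoChar.ps α β ((GLTwoChar.glDatum F).u 1) = 1 := fun α β => by
    refine ((GLTwoChar.glDatum F).indFun_unip ((GLTwoChar.glDatum F).isT_theta α β) ⟨_, (GLTwoChar.glDatum F).u_mem 1⟩ ?_ ?_).trans ?_
    · simp [GLTwoChar.Datum.M_u]
    · simp [GLTwoChar.Datum.M_u]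
    · exact (GLTwoChar.glDatum F).isT_theta α β _ (by simp [GLTwoChar.Datum.M_u]) (by simp [GLTwoChar.Datum.M_u])
  have hq3 : (3 : ℝ) ≤ (Fintype.card F : ℝ) := by exact_mod_cast hq
  have nre : ∀ {x : ℂ}, x.re ≠ 0 → x ≠ 0 := fun h e => h (by rw [e]; rfl)
  rcases GLTwoChar.gl_cases hχ with ⟨α, rfl⟩ | ⟨α, rfl⟩ | ⟨α, β, hab, rfl⟩ | hc
  · have h1 := map_one (GLTwoChar.lam α)
    refine ⟨fun _ => hlam α, fun h => ?_, fun h => ?_, fun h => ?_⟩ <;> rw [h1] at h <;>
      have := congrArg Complex.re h <;> simp at this <;> linarith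
  · have h1 := GLTwoChar.st_one α
    refine ⟨fun h => ?_, fun h => ?_, fun h => ?_, fun _ => ?_⟩
    any_goals (rw [h1] at h; have := congrArg Complex.re h; simp at this; try linarith)
    change Cfsg.indFun _ _ _ - GLTwoChar.lam α _ = 0
    rw [show Cfsg.indFun (GLTwoChar.glDatum F).B ⇑((GLTwoChar.glDatum F).theta α α) ((GLTwoChar.glDatum F).u 1) = 1 from hps α α, hlam, sub_self]
  · have h1 := GLTwoChar.ps_one α β
    refine ⟨fun h => ?_, fun _ => hps α β, fun h => ?_, fun h => ?_⟩ <;> rw [h1] at h <;>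
      have := congrArg Complex.re h <;> simp at this <;> linarith
  · obtain ⟨h1, h2⟩ := GLTwoChar.gl_cusp hχ hc
    refine ⟨fun h => ?_, fun h => ?_, fun _ => h2, fun h => ?_⟩ <;> rw [h1] at h <;>
      have := congrArg Complex.re h <;> simp at this <;> linarith

end Cfsg.Agent.S2310
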