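import Cfsg.Statements.S2315
import Cfsg.Agent.Lib.NilpotentCount.Basic

set_option autoImplicit false
open Cfsg

namespace Cfsg.Agent.S2315

/-- Steinberg's count of unipotent elements for the general linear group: over a finite field with q elements of characteristic p, the number of elements of GL_n of p-power order (the unipotent matrices) is q^(n(n−1)). -/
theorem result {F : Type*} [Field F] [Fintype F] (p : ℕ) [Fact p.Prime] [CharP F p] (n : ℕ) :
    Nat.card {g : Matrix.GeneralLinearGroup (Fin n) F // ∃ k : ℕ, orderOf g = p ^ k} = Fintype.card F ^ (n * (n - 1)) := by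
  classical
  rw [← Nat.card_eq_fintype_card, ← NilpotentCount.card_nilpotent (F := F) n]
  have hp := (Fact.out : p.Prime)
  rcases Nat.eq_zero_or_pos n with rfl | hn
  · refine Nat.card_congr ⟨fun _ => ⟨0, IsNilpotent.zero⟩, fun _ => ⟨1, 0, by simp⟩,
      fun g => Subtype.ext (Units.ext (Subsingleton.elim _ _)), fun M => Subtype.ext (Subsingleton.elim _ _)⟩
  haveI : Nonempty (Fin n) := ⟨⟨0, hn⟩⟩
  have key : ∀ (g : Matrix.GeneralLinearGroup (Fin n) F) (k : ℕ),
      ((g : Matrix (Fin n) (Fin n) F) - 1) ^ (p ^ k) = 0 ↔ g ^ (p ^ k) = 1 := by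
    intro g k
    rw [sub_pow_char_pow_of_commute (p := p) k (Commute.one_right _), one_pow, sub_eq_zero, Units.ext_iff,
      Units.val_pow_eq_pow_val, Units.val_one]
  have iff_nil : ∀ g : Matrix.GeneralLinearGroup (Fin n) F,
      (∃ k : ℕ, orderOf g = p ^ k) ↔ IsNilpotent ((g : Matrix (Fin n) (Fin n) F) - 1) := by
    intro g
    constructor
    · rintro ⟨k, hk⟩
      exact ⟨p ^ k, (key g k).2 (by rw [← hk]; exact pow_orderOf_eq_one g)⟩
    · rintro ⟨j, hj⟩
      have h1 := (key g (Nat.clog p j)).1 (pow_eq_zero_of_le (Nat.le_pow_clog hp.one_lt j) hj)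
      obtain ⟨k, -, hk⟩ := (Nat.dvd_prime_pow hp).1 (orderOf_dvd_of_pow_eq_one h1)
      exact ⟨k, hk⟩
  refine Nat.card_congr ⟨fun g => ⟨_, (iff_nil g.1).1 g.2⟩,
    fun M => ⟨(M.2.isUnit_one_add).unit, (iff_nil _).2 ?_⟩, fun g => ?_, fun M => ?_⟩
  · rw [IsUnit.unit_spec, add_sub_cancel_left]
    exact M.2
  · refine Subtype.ext (Units.ext ?_)
    rw [IsUnit.unit_spec]
    exact add_sub_cancel _ _
  · refine Subtype.ext ?_
    change ((M.2.isUnit_one_add).unit : Matrix (Fin n) (Fin n) F) - 1 = M.1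
    rw [IsUnit.unit_spec, add_sub_cancel_left]

end Cfsg.Agent.S2315
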