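import Cfsg.Statements.S2316
import Cfsg.Agent.EqLemmas
import Cfsg.Agent.Lib.SpUnipotentCount.Main

set_option autoImplicit false
open Cfsg

namespace Cfsg.Agent.S2316

open Matrix SpUnipotentCount

theorem symp_J {F : Type*} [Field F] (m : ℕ) :
    Symp (Matrix.toLinearMap₂' F (Matrix.J (Fin m) F) :
      (Fin m ⊕ Fin m → F) →ₗ[F] (Fin m ⊕ Fin m → F) →ₗ[F] F) := by
  refine ⟨fun x => ?_, fun x hx => ?_⟩
  · rw [Matrix.toLinearMap₂'_apply']
    simp [Matrix.J, Matrix.fromBlocks_mulVec, Matrix.neg_mulVec, Matrix.one_mulVec, dotProduct, Fintype.sum_sum_type,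
      mul_comm]
  · have h : x ᵥ* Matrix.J (Fin m) F = 0 := dotProduct_eq_zero _ fun y => by
      rw [← Matrix.dotProduct_mulVec, ← Matrix.toLinearMap₂'_apply']; exact hx y
    simpa [Matrix.J_squared, Matrix.vecMul_neg] using congrArg (fun v => v ᵥ* Matrix.J (Fin m) F) h

/-- Steinberg's count of unipotent elements for the symplectic group: over a finite field with q elements of characteristic p, the number of elements of Sp_{2m} of p-power order is q^(2m²). -/
theorem result {F : Type*} [Field F] [Fintype F] (p : ℕ) [Fact p.Prime] [CharP F p] (m : ℕ) :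
    Nat.card {g : ↥(Matrix.symplecticGroup (Fin m) F) // ∃ k : ℕ, orderOf g = p ^ k} = Fintype.card F ^ (2 * m ^ 2) := by
  classical
  have hp := (Fact.out : p.Prime)
  rcases Nat.eq_zero_or_pos m with rfl | hm
  · rw [Nat.mul_comm 2, Nat.zero_pow (by norm_num : 0 < 2), Nat.zero_mul, pow_zero, Nat.card_eq_one_iff_unique]
    exact ⟨⟨fun a b => Subtype.ext (Subtype.ext (Subsingleton.elim _ _))⟩, ⟨⟨1, 0, by simp⟩⟩⟩
  haveI : Nonempty (Fin m ⊕ Fin m) := ⟨Sum.inl ⟨0, hm⟩⟩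
  rw [← card_uiso m (Fin m ⊕ Fin m → F) _ (symp_J m) (by simp [two_mul])]
  have key : ∀ (g : ↥(Matrix.symplecticGroup (Fin m) F)),
      (∃ k : ℕ, orderOf g = p ^ k) ↔ IsNilpotent ((g : Matrix (Fin m ⊕ Fin m) (Fin m ⊕ Fin m) F) - 1) := by
    intro g
    have hk : ∀ k, ((g : Matrix (Fin m ⊕ Fin m) (Fin m ⊕ Fin m) F) - 1) ^ (p ^ k) = 0 ↔ g ^ (p ^ k) = 1 := by
      intro k
      rw [sub_pow_char_pow_of_commute (p := p) k (Commute.one_right _), one_pow, sub_eq_zero, Subtype.ext_iff,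
        SubmonoidClass.coe_pow, OneMemClass.coe_one]
    constructor
    · rintro ⟨k, hk'⟩
      exact ⟨p ^ k, (hk k).2 (by rw [← hk']; exact pow_orderOf_eq_one g)⟩
    · rintro ⟨j, hj⟩
      have h1 := (hk (Nat.clog p j)).1 (pow_eq_zero_of_le (Nat.le_pow_clog hp.one_lt j) hj)
      obtain ⟨k, -, hk'⟩ := (Nat.dvd_prime_pow hp).1 (orderOf_dvd_of_pow_eq_one h1)
      exact ⟨k, hk'⟩
  have pres : ∀ A : Matrix (Fin m ⊕ Fin m) (Fin m ⊕ Fin m) F, A ∈ Matrix.symplecticGroup (Fin m) F ↔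
      ∀ x y : Fin m ⊕ Fin m → F, Matrix.toLinearMap₂' F (Matrix.J (Fin m) F) (A *ᵥ x) (A *ᵥ y) =
        Matrix.toLinearMap₂' F (Matrix.J (Fin m) F) x y := by
    intro A
    have e : ∀ x y : Fin m ⊕ Fin m → F, Matrix.toLinearMap₂' F (Matrix.J (Fin m) F) (A *ᵥ x) (A *ᵥ y) =
        x ⬝ᵥ (Aᵀ * Matrix.J (Fin m) F * A) *ᵥ y := by
      intro x y
      rw [Matrix.toLinearMap₂'_apply', ← Matrix.mulVec_mulVec, ← Matrix.mulVec_mulVec, Matrix.dotProduct_mulVec x,
        Matrix.vecMul_transpose]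
    rw [SymplecticGroup.mem_iff']
    refine ⟨fun h x y => by rw [e, h, Matrix.toLinearMap₂'_apply'], fun h => ?_⟩
    ext i j
    have := h (Pi.single i 1) (Pi.single j 1)
    rw [e, Matrix.toLinearMap₂'_apply'] at this
    simpa [Matrix.mulVec_single_one, Matrix.col_apply, Matrix.mul_assoc] using this
  refine Nat.card_congr
    { toFun := fun g => ⟨Matrix.toLin'OfInv
          (M := ((g.1⁻¹ : ↥(Matrix.symplecticGroup (Fin m) F)) : Matrix (Fin m ⊕ Fin m) (Fin m ⊕ Fin m) F))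
          (M' := (g.1 : Matrix (Fin m ⊕ Fin m) (Fin m ⊕ Fin m) F)) (by rw [← Submonoid.coe_mul, inv_mul_cancel]; rfl)
          (by rw [← Submonoid.coe_mul, mul_inv_cancel]; rfl), ?_, ?_⟩
      invFun := fun f => ⟨⟨LinearMap.toMatrix' (f.1 : (Fin m ⊕ Fin m → F) →ₗ[F] (Fin m ⊕ Fin m → F)), ?_⟩, ?_⟩
      left_inv := fun g => Subtype.ext (Subtype.ext (LinearMap.toMatrix'_toLin' _))
      right_inv := fun f => Subtype.ext (LinearEquiv.toLinearMap_injective (Matrix.toLin'_toMatrix' _)) }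
  · exact fun x y => (pres _).1 g.1.2 x y
  · have := ((key g.1).1 g.2).map Matrix.toLinAlgEquiv'
    rw [map_sub, map_one] at this
    exact this
  · exact (pres _).2 fun x y => by
      rw [LinearMap.toMatrix'_mulVec, LinearMap.toMatrix'_mulVec]
      exact f.2.1 x y
  · refine (key _).2 ?_
    have := f.2.2.map LinearMap.toMatrixAlgEquiv'
    rw [map_sub, map_one] at this
    exact this

end Cfsg.Agent.S2316
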