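import Cfsg.Statements.S2317
import Cfsg.Agent.EqLemmas
import Cfsg.Agent.Lib.Jordan.Classes

set_option autoImplicit false
open Cfsg

namespace Cfsg.Agent.S2317

/-- Over a finite field of characteristic p, the conjugacy classes of GL_n consisting of elements of p-power order (the unipotent classes) are as many as the partitions of n. -/
theorem result {F : Type*} [Field F] [Fintype F] (p : ℕ) [Fact p.Prime] [CharP F p] (n : ℕ) :
    Nat.card {C : ConjClasses (Matrix.GeneralLinearGroup (Fin n) F) //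
      ∃ g : Matrix.GeneralLinearGroup (Fin n) F, (∃ k : ℕ, orderOf g = p ^ k) ∧ ConjClasses.mk g = C} =
      Fintype.card (Nat.Partition n) := by
  classical
  have hiff : ∀ g : GL (Fin n) F, (∃ k : ℕ, orderOf g = p ^ k) ↔ ((g : Matrix (Fin n) (Fin n) F) - 1) ^ n = 0 := by
    intro g
    rcases Nat.eq_zero_or_pos n with rfl | hn
    · exact iff_of_true ⟨0, by rw [Subsingleton.elim g 1, orderOf_one, pow_zero]⟩ (Subsingleton.elim _ _)
    haveI : Nonempty (Fin n) := ⟨⟨0, hn⟩⟩
    haveI : ExpChar (Matrix (Fin n) (Fin n) F) p := ExpChar.prime Fact.out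
    have hpow : ∀ k, g ^ p ^ k = 1 ↔ ((g : Matrix (Fin n) (Fin n) F) - 1) ^ p ^ k = 0 := fun k => by
      rw [sub_pow_expChar_pow_of_commute p k (Commute.one_right _), one_pow, sub_eq_zero, ← Units.val_pow_eq_pow_val, Units.val_eq_one]
    constructor
    · rintro ⟨k, hk⟩
      have hnil : IsNilpotent (Matrix.toLin' ((g : Matrix (Fin n) (Fin n) F) - 1)) :=
        ⟨p ^ k, by rw [← Matrix.toLin'_pow, (hpow k).mp (by rw [← hk]; exact pow_orderOf_eq_one g), map_zero]⟩
      have h := LinearMap.aeval_self_charpoly (Matrix.toLin' ((g : Matrix (Fin n) (Fin n) F) - 1))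
      rw [IsNilpotent.charpoly_eq_X_pow_finrank hnil, Polynomial.aeval_X_pow, Module.finrank_fin_fun, ← Matrix.toLin'_pow] at h
      exact Matrix.toLin'.injective (h.trans (map_zero _).symm)
    · intro h
      obtain ⟨k, -, hk⟩ := (Nat.dvd_prime_pow (Fact.out : p.Prime)).mp
        (orderOf_dvd_of_pow_eq_one ((hpow n).mpr (pow_eq_zero_of_le (Nat.lt_pow_self (Fact.out : p.Prime).one_lt).le h)))
      exact ⟨k, hk⟩
  have h := Jordan.card_classes (F := F) (n := n) n
  rw [Finset.filter_true_of_mem (fun μ _ a ha => (Multiset.single_le_sum (fun _ _ => Nat.zero_le _) _ ha).trans μ.parts_sum.le),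
    Finset.card_univ] at h
  refine Eq.trans (Nat.card_congr (Equiv.subtypeEquivRight fun C => ?_)) h
  exact ⟨fun ⟨g, hg, hC⟩ => ⟨g, hC, (hiff g).mp hg⟩, fun ⟨g, hC, hg⟩ => ⟨g, (hiff g).mpr hg, hC⟩⟩

end Cfsg.Agent.S2317
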