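import Cfsg.Statements.S2320
import Cfsg.Agent.Lib.GLTwoChar.GLTable

set_option autoImplicit false
open Cfsg

namespace Cfsg.Agent.S2320

/-- Over a finite field F with q elements, every irreducible complex character of GL₂ of degree q takes a value of absolute value 1 at every diagonal matrix with two different diagonal entries and at every element with no eigenvector in F². -/
theorem result {F : Type*} [Field F] [Fintype F] (χ : Matrix.GeneralLinearGroup (Fin 2) F → ℂ) (hχ : Cfsg.IsIrrCharacter (Matrix.GeneralLinearGroup (Fin 2) F) χ) (hdeg : χ 1 = (Fintype.card F : ℂ)) (g : Matrix.GeneralLinearGroup (Fin 2) F) :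
    ((g : Matrix (Fin 2) (Fin 2) F) 0 1 = 0 → (g : Matrix (Fin 2) (Fin 2) F) 1 0 = 0 → (g : Matrix (Fin 2) (Fin 2) F) 0 0 ≠ (g : Matrix (Fin 2) (Fin 2) F) 1 1 → ‖χ g‖ = 1) ∧
    ((∀ (c : F) (v : Fin 2 → F), v ≠ 0 → (g : Matrix (Fin 2) (Fin 2) F).mulVec v ≠ c • v) → ‖χ g‖ = 1) := by
  classical
  haveI := Fintype.ofFinite (GLTwoChar.glDatum F).B
  obtain ⟨α, rfl⟩ : ∃ α, χ = GLTwoChar.st α := by
    rcases GLTwoChar.gl_cases hχ with ⟨α, rfl⟩ | ⟨α, rfl⟩ | ⟨α, β, -, rfl⟩ | hc
    · rw [map_one] at hdeg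
      exact absurd (by exact_mod_cast hdeg.symm : Fintype.card F = 1) Fintype.one_lt_card.ne'
    · exact ⟨α, rfl⟩
    · rw [GLTwoChar.ps_one] at hdeg
      exact absurd hdeg (fun h => one_ne_zero (α := ℂ) (by linear_combination h))
    · rw [(GLTwoChar.gl_cusp hχ hc).1] at hdeg
      exact absurd hdeg (fun h => one_ne_zero (α := ℂ) (by linear_combination -h))
  have hnorm : ‖GLTwoChar.lam α g‖ = 1 :=
    Complex.norm_eq_one_of_pow_eq_one (n := orderOf g) (by rw [← map_pow, pow_orderOf_eq_one, map_one]) (orderOf_pos g).ne'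
  constructor
  · intro h01 h10 hne
    have h := (GLTwoChar.glDatum F).indFun_regular ((GLTwoChar.glDatum F).isT_theta α α) ⟨g, (GLTwoChar.glDatum F).mem_B.2 h10⟩ hne
    rw [(GLTwoChar.glDatum F).tw_theta, ← GLTwoChar.lam_borel] at h
    have hv : GLTwoChar.st α g = GLTwoChar.lam α g := by
      change Cfsg.indFun _ _ g - GLTwoChar.lam α g = _
      rw [h]; ring
    rw [hv, hnorm]
  · intro hell
    have h := (GLTwoChar.glDatum F).indFun_ell ((GLTwoChar.glDatum F).theta α α) hell
    have hv : GLTwoChar.st α g = -GLTwoChar.lam α g := by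
      change Cfsg.indFun _ _ g - GLTwoChar.lam α g = _
      rw [h]; ring
    rw [hv, norm_neg, hnorm]

end Cfsg.Agent.S2320
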