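import Cfsg.Statements.S2321
import Cfsg.Agent.Lib.GLTwoChar.SLTable

set_option autoImplicit false
open Cfsg

namespace Cfsg.Agent.S2321

/-- Over a finite field F with q elements, an irreducible complex character of SL₂ of degree q (the Steinberg character) takes the value 1 at every diagonal matrix whose diagonal entry a has a² ≠ 1, the value −1 at every element with no eigenvector in F², and the value 0 at every upper triangular matrix with equal diagonal entries and non-zero upper right entry. -/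
theorem result {F : Type*} [Field F] [Fintype F] (χ : Matrix.SpecialLinearGroup (Fin 2) F → ℂ) (hχ : Cfsg.IsIrrCharacter (Matrix.SpecialLinearGroup (Fin 2) F) χ) (hdeg : χ 1 = (Fintype.card F : ℂ)) (g : Matrix.SpecialLinearGroup (Fin 2) F) :
    ((g : Matrix (Fin 2) (Fin 2) F) 0 1 = 0 → (g : Matrix (Fin 2) (Fin 2) F) 1 0 = 0 → (g : Matrix (Fin 2) (Fin 2) F) 0 0 ^ 2 ≠ 1 → χ g = 1) ∧
    ((∀ (c : F) (v : Fin 2 → F), v ≠ 0 → (g : Matrix (Fin 2) (Fin 2) F).mulVec v ≠ c • v) → χ g = -1) ∧
    ((g : Matrix (Fin 2) (Fin 2) F) 1 0 = 0 → (g : Matrix (Fin 2) (Fin 2) F) 0 0 = (g : Matrix (Fin 2) (Fin 2) F) 1 1 → (g : Matrix (Fin 2) (Fin 2) F) 0 1 ≠ 0 → χ g = 0) := by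
  classical
  haveI := Fintype.ofFinite (GLTwoChar.slDatum F).B
  have hq : (2 : ℝ) ≤ (Fintype.card F : ℝ) := by exact_mod_cast Fintype.one_lt_card
  obtain rfl : χ = GLTwoChar.stS F := by
    rcases GLTwoChar.sl_cases hχ with rfl | rfl | ⟨γ, -, rfl⟩ | ⟨γ, -, -, -, h⟩ | ⟨-, ⟨h, -⟩ | h⟩
    · simp only [Pi.one_apply] at hdeg
      have := congrArg Complex.re hdeg; simp at this <;> linarith
    · rfl
    · rw [GLTwoChar.psS_one] at hdeg
      have := congrArg Complex.re hdeg; simp at this <;> linarith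
    · rw [hdeg] at h
      have := congrArg Complex.re h; simp at this <;> linarith
    · rw [hdeg] at h
      have := congrArg Complex.re h; simp at this <;> linarith
    · rw [hdeg] at h
      have := congrArg Complex.re h; simp at this <;> linarith
  let D := GLTwoChar.slDatum F
  have hT := D.isT_theta (1 : MulChar F ℂ) 1
  have one_b : ∀ b : D.B, D.theta 1 1 b = 1 := fun b => by
    rw [GLTwoChar.sTheta_apply, MulChar.one_apply (isUnit_iff_ne_zero.2 (D.diag_ne_zero b).1)]
  refine ⟨?_, ?_, ?_⟩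
  · intro h01 h10 hne
    have hb : g ∈ D.B := D.mem_B.2 h10
    have hd : D.M g 0 0 ≠ D.M g 1 1 := by
      intro h
      apply hne
      have hinv := GLTwoChar.sl_diag_inv ⟨g, hb⟩
      have h0 := (D.diag_ne_zero ⟨g, hb⟩).1
      change (g : Matrix (Fin 2) (Fin 2) F) 0 0 ^ 2 = 1
      change D.M g 1 1 = (D.M g 0 0)⁻¹ at hinv
      rw [← h] at hinv
      rw [sq]
      change D.M g 0 0 * D.M g 0 0 = 1
      nth_rewrite 2 [hinv]
      exact mul_inv_cancel₀ h0
    have h := D.indFun_regular hT ⟨g, hb⟩ hd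
    rw [GLTwoChar.tw_sTheta, inv_one, one_b] at h
    change Cfsg.indFun _ _ g - 1 = 1
    rw [h]; ring
  · intro hell
    have h := D.indFun_ell (D.theta 1 1) (g := g) hell
    change Cfsg.indFun _ _ g - 1 = -1
    rw [h]; ring
  · intro h10 he h01
    have h := D.indFun_unip hT ⟨g, D.mem_B.2 h10⟩ he h01
    rw [one_b] at h
    change Cfsg.indFun _ _ g - 1 = 0
    rw [h]; ring

end Cfsg.Agent.S2321
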