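import Cfsg.Statements.S2322
import Cfsg.Agent.Lib.GLTwoChar.SLCounts
import Cfsg.Agent.EqLemmas

set_option autoImplicit false
open Cfsg

namespace Cfsg.Agent.S2322

section aux
open Matrix
open scoped MatrixGroups ComplexConjugate

variable {F : Type*} [Field F]

theorem no_root {g : SL(2, F)} (hell : ∀ (c : F) (v : Fin 2 → F), v ≠ 0 → (g : Matrix (Fin 2) (Fin 2) F).mulVec v ≠ c • v) (c : F) :
    c * c - (g 0 0 + g 1 1) * c + 1 ≠ 0 := by
  intro h
  have hdet : ((g : Matrix (Fin 2) (Fin 2) F) - c • 1).det = 0 := by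
    have h1 := g.2
    rw [Matrix.det_fin_two] at h1
    simp [Matrix.det_fin_two]
    linear_combination h + h1
  obtain ⟨v, hv, hv0⟩ := Matrix.exists_mulVec_eq_zero_iff.2 hdet
  rw [Matrix.sub_mulVec, Matrix.smul_mulVec, Matrix.one_mulVec, sub_eq_zero] at hv0
  exact hell c v hv hv0

variable [Fintype F] [DecidableEq F]

theorem conjSL_ell (hodd : Odd (Fintype.card F)) {g : SL(2, F)} (hell : ∀ (c : F) (v : Fin 2 → F), v ≠ 0 → (g : Matrix (Fin 2) (Fin 2) F).mulVec v ≠ c • v)
    (x : GL (Fin 2) F) {θ : SL(2, F) → ℂ} (hθ : IsClassFunction SL(2, F) θ) : θ (GLTwoChar.conjSL x g) = θ g := by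
  have h2 := GLTwoChar.two_ne_zero_of_odd hodd
  set h := GLTwoChar.conjSL x g with hh
  have ht : g 0 0 + g 1 1 = h 0 0 + h 1 1 := by
    rw [← Matrix.trace_fin_two, ← Matrix.trace_fin_two]
    have : (h : Matrix (Fin 2) (Fin 2) F) = ((x⁻¹ : GL (Fin 2) F) : Matrix (Fin 2) (Fin 2) F) * (g : Matrix (Fin 2) (Fin 2) F) * (x : Matrix (Fin 2) (Fin 2) F) := rfl
    rw [this, Matrix.trace_mul_cycle, ← Units.val_mul, mul_inv_cancel, Units.val_one, Matrix.one_mul]
  have hd : (h 0 0 + h 1 1) ^ 2 - 4 * (h : Matrix (Fin 2) (Fin 2) F).det ≠ 0 := by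
    rw [← ht, h.2]
    intro hz
    refine no_root hell ((g 0 0 + g 1 1) / 2) ?_
    field_simp
    linear_combination -hz
  obtain ⟨a, b, hab⟩ := GLTwoChar.exists_qform_ne_zero (M := (g : Matrix (Fin 2) (Fin 2) F)) (by
    intro hs
    obtain ⟨a, ha⟩ := GLTwoChar.isScalar_iff.1 hs
    refine hell a ![1, 0] (fun e => by simpa using congrFun e 0) ?_
    rw [ha, Matrix.smul_mulVec, Matrix.one_mulVec])
  obtain ⟨z, w, hzw⟩ := GLTwoChar.exists_qform_eq h2 hd (GLTwoChar.qform (g : Matrix (Fin 2) (Fin 2) F) a b)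
  obtain ⟨c, hc⟩ := isConj_iff.1 (GLTwoChar.isConj_SL ht hab hzw.symm)
  rw [← hc]
  exact hθ g c

theorem half_ell_zero (hodd : Odd (Fintype.card F)) {θ : SL(2, F) → ℂ} (hθ : IsIrrCharacter SL(2, F) θ) {γ : MulChar F ℂ}
    (g1 : γ ≠ 1) (g2 : γ ^ 2 = 1) (g3 : classInner θ (GLTwoChar.psS γ) ≠ 0) {g : SL(2, F)}
    (hell : ∀ (c : F) (v : Fin 2 → F), v ≠ 0 → (g : Matrix (Fin 2) (Fin 2) F).mulVec v ≠ c • v) : θ g = 0 := by
  classical
  haveI := Fintype.ofFinite (GLTwoChar.slDatum F).B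
  obtain ⟨e, he⟩ := FiniteField.exists_nonsquare (GLTwoChar.ringChar_ne_two_of_odd hodd)
  have hres : GLTwoChar.res (GLTwoChar.ps γ 1) = GLTwoChar.psS γ := by rw [GLTwoChar.res_ps, inv_one, mul_one]
  have h0 : GLTwoChar.psS γ g = 0 := (GLTwoChar.slDatum F).indFun_ell _ hell
  rcases GLTwoChar.res_cases he (GLTwoChar.ps_irr g1) with h | ⟨φ, h1, h2, h3, h4⟩
  · rw [hres] at h
    exact absurd g2 ((GLTwoChar.psS_irr_iff γ).1 h)
  rw [hres] at h4
  have hconj : φ (GLTwoChar.conjSL (GLTwoChar.dx (GLTwoChar.ne_zero_of_nonsquare he)) g) = φ g :=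
    conjSL_ell hodd hell _ (Char.IsIrrCharacter.isClassFunction h1)
  have hz : φ g = 0 := by
    rw [h4, Pi.add_apply, hconj] at h0
    linear_combination h0 / 2
  rcases GLTwoChar.eq_or_eq_of_constituent hθ h1 h2 h4 g3 with rfl | rfl
  · exact hz
  · exact hconj.trans hz

theorem three_ell_zero (h3 : Fintype.card F = 3) {θ : SL(2, F) → ℂ} (hθ : IsIrrCharacter SL(2, F) θ)
    (h1 : θ 1 ≠ 1) (hq : θ 1 ≠ 3) {g : SL(2, F)}
    (hell : ∀ (c : F) (v : Fin 2 → F), v ≠ 0 → (g : Matrix (Fin 2) (Fin 2) F).mulVec v ≠ c • v) : θ g = 0 := by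
  classical
  have hodd : Odd (Fintype.card F) := by rw [h3]; decide
  haveI := Fintype.ofFinite (GLTwoChar.slDatum F).B
  have hthree : (3 : F) = 0 := by
    have := FiniteField.cast_card_eq_zero F
    rw [h3] at this
    exact_mod_cast this
  have hsq : ∀ a : F, a ≠ 0 → a * a = 1 := fun a ha => by
    have := FiniteField.pow_card_sub_one_eq_one a ha
    rw [h3] at this
    rwa [sq] at this
  have ht : g 0 0 + g 1 1 = 0 := by
    by_contra hne
    rcases mul_self_eq_one_iff.1 (hsq _ hne) with e | e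
    · exact no_root hell (-1) (by rw [e]; linear_combination hthree)
    · exact no_root hell 1 (by rw [e]; linear_combination hthree)
  have hsc : ¬ GLTwoChar.IsScalar (g : Matrix (Fin 2) (Fin 2) F) := by
    intro hs
    obtain ⟨a, ha⟩ := GLTwoChar.isScalar_iff.1 hs
    refine hell a ![1, 0] (fun e => by simpa using congrFun e 0) ?_
    rw [ha, Matrix.smul_mulVec, Matrix.one_mulVec]
  have hC : Nat.card (Subgroup.centralizer ({g} : Set SL(2, F))) ≤ 4 := by
    have key : ∀ z : Subgroup.centralizer ({g} : Set SL(2, F)), ∃ p : F × F,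
        p ∈ ({(0, 1), (0, -1), (1, 0), (-1, 0)} : Finset (F × F)) ∧
        ((z : SL(2, F)) : Matrix (Fin 2) (Fin 2) F) = p.1 • 1 + p.2 • (g : Matrix (Fin 2) (Fin 2) F) := by
      rintro ⟨z, hz⟩
      rw [Subgroup.mem_centralizer_singleton_iff] at hz
      obtain ⟨a, b, hab⟩ := GLTwoChar.centralizer_eq_span (g := SpecialLinearGroup.toGL g) hsc
        (h := SpecialLinearGroup.toGL z) (by rw [← map_mul, ← map_mul, hz])
      change (z : Matrix (Fin 2) (Fin 2) F) = a • 1 + b • (g : Matrix (Fin 2) (Fin 2) F) at hab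
      refine ⟨(a, b), ?_, hab⟩
      have hdet := z.2
      have hg := g.2
      rw [hab, Matrix.det_fin_two] at hdet
      rw [Matrix.det_fin_two] at hg
      simp at hdet
      have hab1 : a * a + b * b = 1 := by linear_combination hdet - a * b * ht - b * b * hg
      simp only [Finset.mem_insert, Finset.mem_singleton, Prod.mk.injEq]
      by_cases ha : a = 0
      · subst ha
        rcases mul_self_eq_one_iff.1 (show b * b = 1 by linear_combination hab1) with e | e <;> simp [e]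
      · have hb : b = 0 := by
          by_contra hb
          rw [hsq a ha, hsq b hb] at hab1
          exact one_ne_zero (α := F) (by linear_combination hab1)
        subst hb
        rcases mul_self_eq_one_iff.1 (hsq a ha) with e | e <;> simp [e]
    choose f hf hfz using key
    calc Nat.card (Subgroup.centralizer ({g} : Set SL(2, F)))
        ≤ Nat.card (({(0, 1), (0, -1), (1, 0), (-1, 0)} : Finset (F × F))) :=
          Nat.card_le_card_of_injective (fun z => ⟨f z, hf z⟩) fun z z' h => Subtype.ext (Subtype.ext (by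
            rw [hfz z, hfz z', show f z = f z' from congrArg Subtype.val h]))
      _ ≤ 4 := by
          rw [Nat.card_eq_fintype_card, Fintype.card_coe]
          exact Finset.card_le_four
  haveI := Fintype.ofFinite (IrrCharacter SL(2, F))
  have hcol : ∑ φ : IrrCharacter SL(2, F), ‖(φ : SL(2, F) → ℂ) g‖ ^ 2 = (Nat.card (Subgroup.centralizer ({g} : Set SL(2, F))) : ℝ) := by
    have h := Char.column_orth (G := SL(2, F)) g g
    rw [if_pos (IsConj.refl g)] at h
    simp only [Complex.mul_conj'] at h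
    exact_mod_cast h
  obtain ⟨cl, -⟩ := GLTwoChar.sl_counts (F := F) hodd
  obtain ⟨⟨⟨a, ha⟩, hac, had⟩, ⟨⟨b, hb⟩, hbc, hbd⟩, hab, -⟩ := Nat.card_eq_two_iff.1 cl
  have hdeg : ∀ φ : SL(2, F) → ℂ, 2 * φ 1 = (Fintype.card F : ℂ) - 1 → φ 1 = 1 := fun φ h => by
    rw [h3] at h; push_cast at h; linear_combination h / 2
  have hnorm : ∀ φ : SL(2, F) → ℂ, IsIrrCharacter SL(2, F) φ → φ 1 = 1 → ‖φ g‖ ^ 2 = 1 := by
    intro φ hφ hφ1
    obtain ⟨l, hl⟩ := Char.exists_hom_of_degree_one (Char.IsIrrCharacter.isCharacter hφ) hφ1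
    rw [← hl, Complex.norm_eq_one_of_pow_eq_one (n := orderOf g) (by rw [← map_pow, pow_orderOf_eq_one, map_one]) (orderOf_pos g).ne', one_pow]
  have hst : ‖GLTwoChar.stS F g‖ ^ 2 = 1 := by
    have h0 : GLTwoChar.psS 1 g = 0 := (GLTwoChar.slDatum F).indFun_ell _ hell
    simp [GLTwoChar.stS, h0]
  let S : Finset (IrrCharacter SL(2, F)) :=
    {⟨θ, hθ⟩, ⟨1, Char.isIrrCharacter_one⟩, ⟨GLTwoChar.stS F, GLTwoChar.stS_irr⟩, ⟨a, ha⟩, ⟨b, hb⟩}
  have hle : ∑ φ ∈ S, ‖(φ : SL(2, F) → ℂ) g‖ ^ 2 ≤ (4 : ℝ) := by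
    refine (Finset.sum_le_sum_of_subset_of_nonneg (Finset.subset_univ S) fun _ _ _ => sq_nonneg _).trans ?_
    rw [hcol]
    exact_mod_cast hC
  have ne : ∀ {φ ψ : SL(2, F) → ℂ} (hφ : IsIrrCharacter SL(2, F) φ) (hψ : IsIrrCharacter SL(2, F) ψ),
      φ ≠ ψ → (⟨φ, hφ⟩ : IrrCharacter SL(2, F)) ≠ ⟨ψ, hψ⟩ := fun _ _ h e => h (congrArg Subtype.val e)
  have hθa : θ ≠ a := fun e => h1 (by rw [e]; exact hdeg a had)
  have hθb : θ ≠ b := fun e => h1 (by rw [e]; exact hdeg b hbd)
  have hθ1 : θ ≠ 1 := fun e => h1 (by rw [e]; rfl)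
  have hθs : θ ≠ GLTwoChar.stS F := fun e => hq (by rw [e, GLTwoChar.stS_one, h3]; norm_num)
  have h1s : (1 : SL(2, F) → ℂ) ≠ GLTwoChar.stS F := fun e => by
    have := congrFun e 1
    rw [GLTwoChar.stS_one, h3] at this
    norm_num at this
  have h1a : (1 : SL(2, F) → ℂ) ≠ a := fun e => GLTwoChar.not_cusp_one (by rw [e]; exact hac)
  have h1b : (1 : SL(2, F) → ℂ) ≠ b := fun e => GLTwoChar.not_cusp_one (by rw [e]; exact hbc)
  have hsa : GLTwoChar.stS F ≠ a := fun e => GLTwoChar.not_cusp_stS (by rw [e]; exact hac)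
  have hsb : GLTwoChar.stS F ≠ b := fun e => GLTwoChar.not_cusp_stS (by rw [e]; exact hbc)
  have hab' : a ≠ b := fun e => hab (Subtype.ext (Subtype.ext e))
  simp only [S] at hle
  rw [Finset.sum_insert (by simp [ne, hθa, hθb, hθ1, hθs]), Finset.sum_insert (by simp [ne, h1s, h1a, h1b]),
    Finset.sum_insert (by simp [ne, hsa, hsb]), Finset.sum_pair (ne ha hb hab'), hst,
    hnorm a ha (hdeg a had), hnorm b hb (hdeg b hbd)] at hle
  simp only [Pi.one_apply, norm_one, one_pow] at hle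
  have : ‖θ g‖ ^ 2 = 0 := le_antisymm (by linarith) (sq_nonneg _)
  simpa using this

end aux

/-- Over a finite field F with q elements, q odd: every irreducible complex character of SL₂ of degree q − 1 or (q − 1)/2 vanishes at every diagonal matrix whose diagonal entry a has a² ≠ 1, and every irreducible complex character of degree q + 1 or (q + 1)/2 vanishes at every element with no eigenvector in F². -/
theorem result {F : Type*} [Field F] [Fintype F] (hodd : Odd (Fintype.card F)) (χ : Matrix.SpecialLinearGroup (Fin 2) F → ℂ) (hχ : Cfsg.IsIrrCharacter (Matrix.SpecialLinearGroup (Fin 2) F) χ) (g : Matrix.SpecialLinearGroup (Fin 2) F) :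
    ((χ 1 = (Fintype.card F : ℂ) - 1 ∨ χ 1 = (((Fintype.card F - 1) / 2 : ℕ) : ℂ)) →
      (g : Matrix (Fin 2) (Fin 2) F) 0 1 = 0 → (g : Matrix (Fin 2) (Fin 2) F) 1 0 = 0 → (g : Matrix (Fin 2) (Fin 2) F) 0 0 ^ 2 ≠ 1 → χ g = 0) ∧
    ((χ 1 = (Fintype.card F : ℂ) + 1 ∨ χ 1 = (((Fintype.card F + 1) / 2 : ℕ) : ℂ)) →
      (∀ (c : F) (v : Fin 2 → F), v ≠ 0 → (g : Matrix (Fin 2) (Fin 2) F).mulVec v ≠ c • v) → χ g = 0) := by
  classical
  obtain ⟨m, hm⟩ := id hodd
  have hqc : (Fintype.card F : ℂ) = 2 * (m : ℂ) + 1 := by exact_mod_cast hm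
  have hp : (((Fintype.card F + 1) / 2 : ℕ) : ℂ) = (m : ℂ) + 1 := by
    rw [show (Fintype.card F + 1) / 2 = m + 1 by omega]; push_cast; ring
  have hmi : (((Fintype.card F - 1) / 2 : ℕ) : ℂ) = (m : ℂ) := by
    rw [show (Fintype.card F - 1) / 2 = m by omega]
  have hq2 := Fintype.one_lt_card (α := F)
  rw [hqc, hp, hmi]
  rcases (show m = 1 ∨ 2 ≤ m by omega) with rfl | hm2
  · refine ⟨fun _ _ h10 hne => ?_, fun hd hell => ?_⟩
    · exfalso
      apply hne
      have h0 : (g : Matrix (Fin 2) (Fin 2) F) 0 0 ≠ 0 := fun h => by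
        have := g.2
        rw [Matrix.det_fin_two, h, h10] at this
        simp at this
      have := FiniteField.pow_card_sub_one_eq_one _ h0
      rw [show Fintype.card F - 1 = 2 by omega] at this
      exact this
    · refine three_ell_zero (by omega) hχ ?_ ?_ hell <;> intro h <;> rw [h] at hd <;> norm_num at hd
  have hm2' : (2 : ℝ) ≤ (m : ℝ) := by exact_mod_cast hm2
  constructor
  · intro hd h01 h10 hne
    have hc : (GLTwoChar.slDatum F).Cusp χ := by
      rcases GLTwoChar.sl_cases hχ with rfl | rfl | ⟨γ, -, rfl⟩ | ⟨γ, -, -, -, h⟩ | ⟨hc, -⟩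
      rotate_left 4
      · exact hc
      all_goals
        exfalso
        rcases hd with hd | hd <;>
        · first
            | rw [GLTwoChar.stS_one, hqc] at hd
            | rw [GLTwoChar.psS_one, hqc] at hd
            | simp only [Pi.one_apply] at hd
            | rw [hd, hqc] at h
          first
            | (have := congrArg Complex.re h; simp at this <;> linarith)
            | (have := congrArg Complex.re hd; simp at this <;> linarith)
    refine (GLTwoChar.slDatum F).cusp_apply_borel hc (Char.IsIrrCharacter.isCharacter hχ) ⟨g, (GLTwoChar.slDatum F).mem_B.2 h10⟩ ?_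
    intro h
    apply hne
    change (g : Matrix (Fin 2) (Fin 2) F) 0 0 = (g : Matrix (Fin 2) (Fin 2) F) 1 1 at h
    have hg := g.2
    rw [Matrix.det_fin_two, h01, h10, ← h] at hg
    linear_combination hg
  · intro hd hell
    rcases GLTwoChar.sl_cases hχ with rfl | rfl | ⟨γ, -, rfl⟩ | ⟨γ, g1, g2, g3, -⟩ | ⟨-, ⟨h, -⟩ | h⟩
    rotate_left 2
    · exact (GLTwoChar.slDatum F).indFun_ell _ hell
    · exact half_ell_zero hodd hχ g1 g2 g3 hell
    all_goals
      exfalso
      rcases hd with hd | hd <;>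
      · first
          | rw [GLTwoChar.stS_one, hqc] at hd
          | simp only [Pi.one_apply] at hd
          | rw [hd, hqc] at h
        first
          | (have := congrArg Complex.re h; simp at this <;> linarith)
          | (have := congrArg Complex.re hd; simp at this <;> linarith)

end Cfsg.Agent.S2322
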