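import Cfsg.Statements.S2323
import Cfsg.Agent.Lib.GLTwoChar.SLTable

set_option autoImplicit false
open Cfsg

namespace Cfsg.Agent.S2323

/-- Over a finite field F with q ≥ 4 elements, let u be the upper unitriangular matrix of SL₂ with off-diagonal entry 1. An irreducible complex character of SL₂ takes at u the value 1 if its degree is q + 1 and the value −1 if its degree is q − 1. -/
theorem result {F : Type*} [Field F] [Fintype F] (hq : 4 ≤ Fintype.card F) (χ : Matrix.SpecialLinearGroup (Fin 2) F → ℂ) (hχ : Cfsg.IsIrrCharacter (Matrix.SpecialLinearGroup (Fin 2) F) χ)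
    (u : Matrix.SpecialLinearGroup (Fin 2) F) (hu : (u : Matrix (Fin 2) (Fin 2) F) = !![1, 1; 0, 1]) :
    (χ 1 = (Fintype.card F : ℂ) + 1 → χ u = 1) ∧ (χ 1 = (Fintype.card F : ℂ) - 1 → χ u = -1) := by
  classical
  haveI := Fintype.ofFinite (GLTwoChar.slDatum F).B
  let D := GLTwoChar.slDatum F
  have hu' : u = D.u 1 := D.ext (hu.trans (D.M_u 1).symm)
  have hq' : (4 : ℝ) ≤ (Fintype.card F : ℝ) := by exact_mod_cast hq
  constructor <;> intro hdeg
  · rcases GLTwoChar.sl_cases hχ with rfl | rfl | ⟨γ, -, rfl⟩ | ⟨γ, -, -, -, h⟩ | ⟨-, ⟨h, -⟩ | h⟩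
    · simp only [Pi.one_apply] at hdeg
      have := congrArg Complex.re hdeg; simp at this <;> linarith
    · rw [GLTwoChar.stS_one] at hdeg
      have := congrArg Complex.re hdeg; simp at this <;> linarith
    · rw [hu']
      refine (D.indFun_unip (D.isT_theta γ 1) ⟨_, D.u_mem 1⟩ ?_ ?_).trans ?_
      · simp [D, GLTwoChar.Datum.M_u]
      · simp [D, GLTwoChar.Datum.M_u]
      · exact D.isT_theta γ 1 _ (by simp [D, GLTwoChar.Datum.M_u]) (by simp [D, GLTwoChar.Datum.M_u])
    · rw [hdeg] at h
      have := congrArg Complex.re h; simp at this <;> linarith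
    · rw [hdeg] at h
      have := congrArg Complex.re h; simp at this <;> linarith
    · rw [hdeg] at h
      have := congrArg Complex.re h; simp at this <;> linarith
  · rcases GLTwoChar.sl_cases hχ with rfl | rfl | ⟨γ, -, rfl⟩ | ⟨γ, -, -, -, h⟩ | ⟨-, ⟨-, h⟩ | h⟩
    · simp only [Pi.one_apply] at hdeg
      have := congrArg Complex.re hdeg; simp at this <;> linarith
    · rw [GLTwoChar.stS_one] at hdeg
      have := congrArg Complex.re hdeg; simp at this <;> linarith
    · rw [GLTwoChar.psS_one] at hdeg
      have := congrArg Complex.re hdeg; simp at this <;> linarith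
    · rw [hdeg] at h
      have := congrArg Complex.re h; simp at this <;> linarith
    · rw [hu', h]
    · rw [hdeg] at h
      have := congrArg Complex.re h; simp at this <;> linarith

end Cfsg.Agent.S2323
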