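import Cfsg.Statements.S2324
import Cfsg.Agent.Lib.GLTwoChar.SLCounts
import Mathlib.NumberTheory.GaussSum
import Mathlib.NumberTheory.LegendreSymbol.Complex
import Cfsg.Agent.EqLemmas

set_option autoImplicit false
open Cfsg

namespace Cfsg.Agent.S2324

section aux
open Matrix Cfsg.Agent GLTwoChar
open scoped MatrixGroups ComplexConjugate

variable {F : Type*} [Field F] [Fintype F] [DecidableEq F]

omit [Fintype F] [DecidableEq F] in
theorem u_eq (s : F) : (slDatum F).u s = uSL s :=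
  SpecialLinearGroup.toGL_injective (Units.ext (((slDatum F).M_u s).trans rfl))

/-- The quadratic character with complex values. -/
noncomputable def qc (F : Type*) [Field F] [Fintype F] [DecidableEq F] : MulChar F ℂ :=
  (quadraticChar F).ringHomComp (Int.castRingHom ℂ)

theorem qc_square {a : F} (ha : a ≠ 0) (h : IsSquare a) : qc F a = 1 := by
  rw [qc, MulChar.ringHomComp_apply, (quadraticChar_one_iff_isSquare ha).2 h, map_one]

theorem qc_nonsquare {a : F} (h : ¬ IsSquare a) : qc F a = -1 := by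
  rw [qc, MulChar.ringHomComp_apply, quadraticChar_neg_one_iff_not_isSquare.2 h, map_neg, map_one]

theorem qc_sq {a : F} (ha : a ≠ 0) : qc F a ^ 2 = 1 := by
  by_cases h : IsSquare a
  · rw [qc_square ha h, one_pow]
  · rw [qc_nonsquare h, neg_one_sq]

theorem qc_neg_one (hodd : Odd (Fintype.card F)) :
    qc F (-1) = (-1 : ℂ) ^ ((Fintype.card F - 1) / 2) := by
  rw [qc, MulChar.ringHomComp_apply, quadraticChar_neg_one (ringChar_ne_two_of_odd hodd),
    ZMod.χ₄_eq_neg_one_pow (Nat.odd_iff.1 hodd), map_pow, map_neg, map_one]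
  congr 1
  have := Nat.odd_iff.1 hodd
  omega

/-- The value on a unipotent element through the two classes. -/
theorem apply_uSL (hodd : Odd (Fintype.card F)) {θ : SL(2, F) → ℂ} (hθ : IsClassFunction SL(2, F) θ)
    {e : F} (he : ¬ IsSquare e) (s : F) :
    θ (uSL s) = (θ (uSL 1) + θ (uSL e)) / 2 + qc F s * ((θ (uSL 1) - θ (uSL e)) / 2) +
      if s = 0 then θ 1 - (θ (uSL 1) + θ (uSL e)) / 2 else 0 := by
  have hchar := ringChar_ne_two_of_odd hodd
  have hconj : ∀ b c : F, b ≠ 0 → c ≠ 0 → IsSquare (b * c) → θ (uSL b) = θ (uSL c) := by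
    intro b c hb hc h
    obtain ⟨x, hx⟩ := isConj_iff.1 ((isConj_uSL_iff hb hc).2 h)
    rw [← hx, hθ]
  rcases eq_or_ne s 0 with rfl | hs
  · rw [if_pos rfl, MulChar.map_zero, show (uSL (0 : F)) = 1 from Subtype.ext (by simp [coe_uSL, Matrix.one_fin_two])]
    ring
  have he0 := ne_zero_of_nonsquare he
  rw [if_neg hs]
  by_cases h : IsSquare s
  · rw [qc_square hs h, hconj s 1 hs one_ne_zero (by rw [mul_one]; exact h)]
    ring
  · rw [qc_nonsquare h, hconj s e hs he0]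
    · ring
    · rw [FiniteField.isSquare_iff hchar (mul_ne_zero hs he0), mul_pow,
        (FiniteField.pow_dichotomy hchar hs).resolve_left (fun h' => h ((FiniteField.isSquare_iff hchar hs).2 h')),
        (FiniteField.pow_dichotomy hchar he0).resolve_left
          (fun h' => he ((FiniteField.isSquare_iff hchar he0).2 h'))]
      ring

/-- A Fourier coefficient on the unipotent subgroup is a natural number. -/
theorem fourier_nat {θ : SL(2, F) → ℂ} (hθ : IsCharacter SL(2, F) θ) (ψ : AddChar F ℂ) :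
    ∃ m : ℕ, ∑ s : F, θ (uSL s) * ψ s = (Fintype.card F : ℂ) * m := by
  let uh : Multiplicative F →* SL(2, F) :=
    ⟨⟨fun s => (slDatum F).u s.toAdd, (slDatum F).u_zero⟩, fun s t => (slDatum F).u_add _ _⟩
  let l : Multiplicative F →* ℂ :=
    ⟨⟨fun s => conj (ψ s.toAdd), by simp⟩, fun s t => by simp [AddChar.map_add_eq_mul, map_mul]⟩
  obtain ⟨m, hm⟩ := Char.IsCharacter.classInner_nat (Char.IsCharacter.comp_hom hθ uh)
    (Char.IsIrrCharacter.isCharacter (Char.isIrrCharacter_of_hom l))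
  refine ⟨m, ?_⟩
  have h := Char.card_mul_classInner (fun s : Multiplicative F => θ (uh s)) ⇑l
  rw [hm, Nat.card_eq_fintype_card, Fintype.card_multiplicative] at h
  rw [h]
  refine (Fintype.sum_equiv Multiplicative.toAdd _ _ fun s => ?_).symm
  simp [uh, l, u_eq]

/-- The square of the difference of the two values at unipotent elements. -/
theorem diff_sq (hodd : Odd (Fintype.card F)) {θ : SL(2, F) → ℂ} (hθ : IsCharacter SL(2, F) θ)
    (hcl : IsClassFunction SL(2, F) θ) {e : F} (he : ¬ IsSquare e)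
    (hdeg : 2 * θ 1 = (Fintype.card F : ℂ) + (θ (uSL 1) + θ (uSL e))) :
    (θ (uSL 1) - θ (uSL e)) ^ 2 = (-1 : ℂ) ^ ((Fintype.card F - 1) / 2) * (Fintype.card F : ℂ) := by
  have hchar := ringChar_ne_two_of_odd hodd
  have he0 := ne_zero_of_nonsquare he
  set ψ := AddChar.FiniteField.primitiveChar_to_Complex F with hψdef
  have hψ : ψ.IsPrimitive := AddChar.FiniteField.primitiveChar_to_Complex_isPrimitive F
  set G := gaussSum (qc F) ψ with hG
  set d := θ (uSL 1) - θ (uSL e) with hd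
  set q := (Fintype.card F : ℂ) with hq
  have hG2 : G ^ 2 = qc F (-1) * q :=
    gaussSum_sq ((MulChar.ringHomComp_ne_one_iff Int.cast_injective).2 (quadraticChar_ne_one hchar))
      ((quadraticChar_isQuadratic F).comp _) hψ
  have key : ∀ a : F, a ≠ 0 → ∃ m : ℕ, q / 2 + d / 2 * (qc F a * G) = q * m := by
    intro a ha
    obtain ⟨m, hm⟩ := fourier_nat hθ (ψ.mulShift a)
    refine ⟨m, ?_⟩
    rw [← hm]
    rw [Finset.sum_congr rfl fun s _ => congrArg (· * ψ.mulShift a s) (apply_uSL hodd hcl he s)]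
    simp only [add_mul, Finset.sum_add_distrib, ← Finset.mul_sum, ite_mul, zero_mul,
      Finset.sum_ite_eq', Finset.mem_univ, if_true, AddChar.map_zero_eq_one, mul_one,
      AddChar.sum_eq_zero_of_ne_one (hψ ha), mul_zero, zero_add]
    have hgs : ∑ s : F, qc F s * ((θ (uSL 1) - θ (uSL e)) / 2) * ψ.mulShift a s =
        d / 2 * (qc F a * G) := by
      have h := gaussSum_mulShift (qc F) ψ (Units.mk0 a ha)
      rw [Units.val_mk0] at h
      rw [hG, ← h, ← mul_assoc (qc F a), ← sq (qc F a), qc_sq ha, one_mul, gaussSum, Finset.mul_sum]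
      exact Finset.sum_congr rfl fun s _ => by ring
    rw [hgs]
    linear_combination (-1 / 2 : ℂ) * hdeg
  obtain ⟨m, hm⟩ := key 1 one_ne_zero
  obtain ⟨m', hm'⟩ := key e he0
  rw [map_one, one_mul] at hm
  rw [qc_nonsquare he] at hm'
  have hq0 : q ≠ 0 := Nat.cast_ne_zero.2 Fintype.card_ne_zero
  have hmm : m + m' = 1 := by
    have h : q * ((m + m' : ℕ) : ℂ) = q * ((1 : ℕ) : ℂ) := by
      push_cast
      linear_combination -hm - hm'
    exact_mod_cast mul_left_cancel₀ hq0 h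
  have hdG : (d * G) ^ 2 = q ^ 2 := by
    rcases (show (m = 1 ∧ m' = 0) ∨ (m = 0 ∧ m' = 1) by omega) with ⟨rfl, rfl⟩ | ⟨rfl, rfl⟩
    · push_cast at hm
      have : d * G = q := by linear_combination 2 * hm
      rw [this]
    · push_cast at hm
      have : d * G = -q := by linear_combination 2 * hm
      rw [this, neg_sq]
  rw [mul_pow, hG2] at hdG
  rw [← qc_neg_one hodd]
  have h1 := qc_sq (F := F) (a := -1) (neg_ne_zero.2 one_ne_zero)
  apply mul_right_cancel₀ hq0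
  linear_combination qc F (-1) * hdG - d ^ 2 * q * h1

/-- Conjugation by `diag(e, 1)` at a unipotent element. -/
theorem conj_uSL (hodd : Odd (Fintype.card F)) {θ : SL(2, F) → ℂ} (hcl : IsClassFunction SL(2, F) θ)
    {e : F} (he : ¬ IsSquare e) :
    θ (conjSL (dx (ne_zero_of_nonsquare he)) (uSL 1)) = θ (uSL e) ∧
      θ (conjSL (dx (ne_zero_of_nonsquare he)) (uSL e)) = θ (uSL 1) := by
  have he0 := ne_zero_of_nonsquare he
  have hE : ∀ b : F, conjSL (dx he0) (uSL b) = uSL (b / e) := fun b => by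
    refine SpecialLinearGroup.toGL_injective ?_
    rw [toGL_conjSL, mul_assoc, inv_mul_eq_iff_eq_mul]
    refine Units.ext ?_
    simp only [Units.val_mul, dx, GLOrder.coe_mkOfDetNeZero]
    change (uSL b : Matrix (Fin 2) (Fin 2) F) * !![e, 0; 0, 1] = !![e, 0; 0, 1] * (uSL (b / e) : Matrix (Fin 2) (Fin 2) F)
    ext i j
    fin_cases i <;> fin_cases j <;> simp [coe_uSL]
    field_simp
  obtain ⟨x, hx⟩ := isConj_iff.1 ((isConj_uSL_iff (div_ne_zero one_ne_zero he0) he0).2 ⟨1, by field_simp⟩)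
  exact ⟨by rw [hE, ← hx, hcl], by rw [hE, div_self he0]⟩

/-- The two characters of degree `(q + 1) / 2`. -/
theorem plus_pair (hodd : Odd (Fintype.card F)) (hq : 5 ≤ Fintype.card F) {e : F} (he : ¬ IsSquare e) :
    ∃ θ₀ : SL(2, F) → ℂ, θ₀ (uSL 1) + θ₀ (uSL e) = 1 ∧ IsClassFunction SL(2, F) θ₀ ∧
      ∀ χ, IsIrrCharacter SL(2, F) χ → 2 * χ 1 = (Fintype.card F : ℂ) + 1 →
        χ = θ₀ ∨ χ = fun h => θ₀ (conjSL (dx (ne_zero_of_nonsquare he)) h) := by
  classical
  haveI := Fintype.ofFinite (slDatum F).B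
  obtain ⟨η, hη1, hη2⟩ : ∃ η : MulChar F ℂ, η ≠ 1 ∧ η ^ 2 = 1 := by
    refine ⟨qc F, (MulChar.ringHomComp_ne_one_iff Int.cast_injective).2
      (quadraticChar_ne_one (ringChar_ne_two_of_odd hodd)), ?_⟩
    exact ((quadraticChar_isQuadratic F).comp _).sq_eq_one
  have hres : res (ps η 1) = psS η := by rw [res_ps, inv_one, mul_one]
  rcases res_cases he (ps_irr hη1) with h | ⟨θ₀, h1, h2, -, h4⟩
  · rw [hres] at h
    exact absurd hη2 ((psS_irr_iff η).1 h)
  rw [hres] at h4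
  have hcl := Char.IsIrrCharacter.isClassFunction h1
  refine ⟨θ₀, ?_, hcl, fun χ hχ hd => ?_⟩
  · rw [← (conj_uSL hodd hcl he).1]
    have h5 := congrFun h4 (uSL 1)
    rw [Pi.add_apply] at h5
    rw [← h5, psS, ← u_eq]
    have h6 := (slDatum F).indFun_unip ((slDatum F).isT_theta η 1) ((slDatum F).uB (1 : F))
      (by rw [(slDatum F).M_uB]; simp) (by rw [(slDatum F).M_uB]; simp)
    rw [sTheta_apply, (slDatum F).M_uB] at h6
    simpa [Datum.uB] using h6
  · have hm : (5 : ℝ) ≤ (Fintype.card F : ℝ) := by exact_mod_cast hq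
    have hre := congrArg Complex.re hd
    rcases sl_cases hχ with h | h | ⟨γ, -, h⟩ | ⟨γ, g1, g2, g3, -⟩ | ⟨-, ⟨h, -⟩ | h⟩
    · rw [h] at hre; simp at hre; linarith
    · rw [h, stS_one] at hre; simp at hre; linarith
    · rw [h, psS_one] at hre; simp at hre; linarith
    · rw [quadratic_unique hodd g1 g2 hη1 hη2] at g3
      exact eq_or_eq_of_constituent hχ h1 h2 h4 g3
    · rw [h] at hre; simp at hre; linarith
    · rw [h] at hre; simp at hre; linarith

theorem minus_cusp (hq : 5 ≤ Fintype.card F) {χ : SL(2, F) → ℂ} (hχ : IsIrrCharacter SL(2, F) χ)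
    (hd : 2 * χ 1 = (Fintype.card F : ℂ) - 1) : (slDatum F).Cusp χ := by
  have hm : (5 : ℝ) ≤ (Fintype.card F : ℝ) := by exact_mod_cast hq
  have hre := congrArg Complex.re hd
  rcases sl_cases hχ with h | h | ⟨γ, -, h⟩ | ⟨γ, -, -, -, h⟩ | ⟨hc, -⟩
  · rw [h] at hre; simp at hre; linarith
  · rw [h, stS_one] at hre; simp at hre; linarith
  · rw [h, psS_one] at hre; simp at hre; linarith
  · rw [h] at hre; simp at hre; linarith
  · exact hc

theorem minus_sum (hodd : Odd (Fintype.card F)) (hq : 5 ≤ Fintype.card F) {e : F} (he : ¬ IsSquare e)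
    {χ : SL(2, F) → ℂ} (hχ : IsIrrCharacter SL(2, F) χ) (hd : 2 * χ 1 = (Fintype.card F : ℂ) - 1) :
    χ (uSL 1) + χ (uSL e) = -1 := by
  have hc := minus_cusp hq hχ hd
  have hchar := ringChar_ne_two_of_odd hodd
  have hne : qc F ≠ 1 := (MulChar.ringHomComp_ne_one_iff Int.cast_injective).2 (quadraticChar_ne_one hchar)
  rw [Datum.Cusp] at hc
  simp only [u_eq] at hc
  rw [Finset.sum_congr rfl fun s _ => apply_uSL hodd (Char.IsIrrCharacter.isClassFunction hχ) he s] at hc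
  simp only [Finset.sum_add_distrib,
    ← Finset.sum_mul, MulChar.sum_eq_zero_of_ne_one hne, Finset.sum_ite_eq', Finset.mem_univ, if_true,
    Finset.sum_const, Finset.card_univ, nsmul_eq_mul, zero_mul, add_zero] at hc
  have hm : ((Fintype.card F : ℂ) - 1) ≠ 0 := by
    rw [sub_ne_zero]
    exact_mod_cast (show Fintype.card F ≠ 1 by omega)
  apply mul_left_cancel₀ hm
  linear_combination 2 * hc - hd

theorem plus_formula (hodd : Odd (Fintype.card F)) (hq : 5 ≤ Fintype.card F) {e : F} (he : ¬ IsSquare e)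
    {χ : SL(2, F) → ℂ} (hχ : IsIrrCharacter SL(2, F) χ) (hd : 2 * χ 1 = (Fintype.card F : ℂ) + 1) :
    (2 * χ (uSL 1) - 1) ^ 2 = (-1 : ℂ) ^ ((Fintype.card F - 1) / 2) * (Fintype.card F : ℂ) := by
  obtain ⟨θ₀, hs, hcl, hall⟩ := plus_pair hodd hq he
  have hsum : χ (uSL 1) + χ (uSL e) = 1 := by
    rcases hall χ hχ hd with rfl | rfl
    · exact hs
    · simp only [(conj_uSL hodd hcl he).1, (conj_uSL hodd hcl he).2]
      rw [add_comm]; exact hs
  rw [← diff_sq hodd (Char.IsIrrCharacter.isCharacter hχ) (Char.IsIrrCharacter.isClassFunction hχ) he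
    (by rw [hsum]; exact hd)]
  linear_combination (2 * χ (uSL 1) - 1 + (χ (uSL 1) - χ (uSL e))) * hsum

theorem minus_formula (hodd : Odd (Fintype.card F)) (hq : 5 ≤ Fintype.card F) {e : F} (he : ¬ IsSquare e)
    {χ : SL(2, F) → ℂ} (hχ : IsIrrCharacter SL(2, F) χ) (hd : 2 * χ 1 = (Fintype.card F : ℂ) - 1) :
    (2 * χ (uSL 1) + 1) ^ 2 = (-1 : ℂ) ^ ((Fintype.card F - 1) / 2) * (Fintype.card F : ℂ) := by
  have hsum := minus_sum hodd hq he hχ hd
  rw [← diff_sq hodd (Char.IsIrrCharacter.isCharacter hχ) (Char.IsIrrCharacter.isClassFunction hχ) he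
    (by rw [hsum, ← sub_eq_add_neg]; exact hd)]
  linear_combination (2 * χ (uSL 1) + 1 + (χ (uSL 1) - χ (uSL e))) * hsum

theorem plus_sum (hodd : Odd (Fintype.card F)) (hq : 5 ≤ Fintype.card F) {e : F} (he : ¬ IsSquare e)
    {χ₁ χ₂ : SL(2, F) → ℂ} (h1 : IsIrrCharacter SL(2, F) χ₁) (h2 : IsIrrCharacter SL(2, F) χ₂) (hne : χ₁ ≠ χ₂)
    (d1 : 2 * χ₁ 1 = (Fintype.card F : ℂ) + 1) (d2 : 2 * χ₂ 1 = (Fintype.card F : ℂ) + 1) :
    χ₁ (uSL 1) + χ₂ (uSL 1) = 1 := by
  obtain ⟨θ₀, hs, hcl, hall⟩ := plus_pair hodd hq he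
  rcases hall χ₁ h1 d1 with a | a <;> rcases hall χ₂ h2 d2 with b | b
  · exact absurd (a.trans b.symm) hne
  · simp only [a, b, (conj_uSL hodd hcl he).1]; exact hs
  · simp only [a, b, (conj_uSL hodd hcl he).1]; rw [add_comm]; exact hs
  · exact absurd (a.trans b.symm) hne

theorem minus_pair (hodd : Odd (Fintype.card F)) (hq : 5 ≤ Fintype.card F) {e : F} (he : ¬ IsSquare e)
    {χ₁ χ₂ : SL(2, F) → ℂ} (h1 : IsIrrCharacter SL(2, F) χ₁) (h2 : IsIrrCharacter SL(2, F) χ₂) (hne : χ₁ ≠ χ₂)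
    (d1 : 2 * χ₁ 1 = (Fintype.card F : ℂ) - 1) (d2 : 2 * χ₂ 1 = (Fintype.card F : ℂ) - 1) :
    χ₁ (uSL 1) + χ₂ (uSL 1) = -1 := by
  classical
  set E := conjSL (dx (ne_zero_of_nonsquare he)) with hE
  have hcl := Char.IsIrrCharacter.isClassFunction h1
  have hsum := minus_sum hodd hq he h1 d1
  have h3 : IsIrrCharacter SL(2, F) (fun h => χ₁ (E h)) := Char.IsIrrCharacter.comp_equiv h1 E
  have d3 : 2 * (fun h => χ₁ (E h)) 1 = (Fintype.card F : ℂ) - 1 := by simp only [map_one]; exact d1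
  have hne3 : (fun h => χ₁ (E h)) ≠ χ₁ := by
    intro h
    have h' := congrFun h (uSL 1)
    simp only [hE, (conj_uSL hodd hcl he).1] at h'
    have hd := diff_sq hodd (Char.IsIrrCharacter.isCharacter h1) hcl he (by rw [hsum, ← sub_eq_add_neg]; exact d1)
    rw [h', sub_self, sq, mul_zero] at hd
    rcases mul_eq_zero.1 hd.symm with h0 | h0
    · exact pow_ne_zero _ (neg_ne_zero.2 one_ne_zero) h0
    · exact Nat.cast_ne_zero.2 Fintype.card_ne_zero h0
  obtain ⟨⟨⟨a, ha⟩, _⟩, ⟨⟨b, hb⟩, _⟩, -, huniv⟩ := Nat.card_eq_two_iff.1 (sl_counts (F := F) hodd).1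
  have hmem : ∀ χ, IsIrrCharacter SL(2, F) χ → 2 * χ 1 = (Fintype.card F : ℂ) - 1 → χ = a ∨ χ = b := by
    intro χ hχ hd
    have hm : (⟨⟨χ, hχ⟩, minus_cusp hq hχ hd, hd⟩ : {θ : IrrCharacter SL(2, F) //
        (slDatum F).Cusp (θ : SL(2, F) → ℂ) ∧ 2 * (θ : SL(2, F) → ℂ) 1 = (Fintype.card F : ℂ) - 1}) ∈
        (Set.univ : Set _) := Set.mem_univ _
    rw [← huniv] at hm
    rcases hm with h | h
    · exact Or.inl (congrArg (fun z => (z.1.1 : SL(2, F) → ℂ)) h)
    · exact Or.inr (congrArg (fun z => (z.1.1 : SL(2, F) → ℂ)) h)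
  have he2 : χ₂ = fun h => χ₁ (E h) := by
    rcases hmem χ₁ h1 d1 with x | x <;> rcases hmem χ₂ h2 d2 with y | y <;> rcases hmem _ h3 d3 with z | z <;>
      first
        | exact absurd (x.trans y.symm) hne
        | exact absurd (z.trans x.symm) hne3
        | exact y.trans z.symm
  simp only [he2, hE, (conj_uSL hodd hcl he).1]
  exact hsum

end aux

/-- Over a finite field F with q elements, q odd and q ≥ 5, let u be the upper unitriangular matrix of SL₂ with off-diagonal entry 1 and let δ = (−1)^((q−1)/2). Every irreducible complex character χ of SL₂ of degree (q + 1)/2 satisfies (2χ(u) − 1)² = δq, and every irreducible complex character χ of degree (q − 1)/2 satisfies (2χ(u) + 1)² = δq; that is, χ(u) = (1 ± √(δq))/2 in the first case and χ(u) = (−1 ± √(δq))/2 in the second. Moreover two different irreducible characters of degree (q + 1)/2 take the two different values (their values at u add up to 1), and likewise for degree (q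 − 1)/2 (values adding up to −1). -/
theorem result {F : Type*} [Field F] [Fintype F] (hodd : Odd (Fintype.card F)) (hq : 5 ≤ Fintype.card F)
    (u : Matrix.SpecialLinearGroup (Fin 2) F) (hu : (u : Matrix (Fin 2) (Fin 2) F) = !![1, 1; 0, 1]) :
    (∀ χ : Matrix.SpecialLinearGroup (Fin 2) F → ℂ, Cfsg.IsIrrCharacter (Matrix.SpecialLinearGroup (Fin 2) F) χ → χ 1 = (((Fintype.card F + 1) / 2 : ℕ) : ℂ) → (2 * χ u - 1) ^ 2 = (-1 : ℂ) ^ ((Fintype.card F - 1) / 2) * (Fintype.card F : ℂ)) ∧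
    (∀ χ : Matrix.SpecialLinearGroup (Fin 2) F → ℂ, Cfsg.IsIrrCharacter (Matrix.SpecialLinearGroup (Fin 2) F) χ → χ 1 = (((Fintype.card F - 1) / 2 : ℕ) : ℂ) → (2 * χ u + 1) ^ 2 = (-1 : ℂ) ^ ((Fintype.card F - 1) / 2) * (Fintype.card F : ℂ)) ∧
    (∀ χ₁ χ₂ : Matrix.SpecialLinearGroup (Fin 2) F → ℂ, Cfsg.IsIrrCharacter (Matrix.SpecialLinearGroup (Fin 2) F) χ₁ → Cfsg.IsIrrCharacter (Matrix.SpecialLinearGroup (Fin 2) F) χ₂ → χ₁ ≠ χ₂ →
      χ₁ 1 = (((Fintype.card F + 1) / 2 : ℕ) : ℂ) → χ₂ 1 = (((Fintype.card F + 1) / 2 : ℕ) : ℂ) → χ₁ u + χ₂ u = 1) ∧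
    (∀ χ₁ χ₂ : Matrix.SpecialLinearGroup (Fin 2) F → ℂ, Cfsg.IsIrrCharacter (Matrix.SpecialLinearGroup (Fin 2) F) χ₁ → Cfsg.IsIrrCharacter (Matrix.SpecialLinearGroup (Fin 2) F) χ₂ → χ₁ ≠ χ₂ →
      χ₁ 1 = (((Fintype.card F - 1) / 2 : ℕ) : ℂ) → χ₂ 1 = (((Fintype.card F - 1) / 2 : ℕ) : ℂ) → χ₁ u + χ₂ u = -1) := by
  classical
  obtain rfl : u = GLTwoChar.uSL 1 := Subtype.ext (hu.trans (GLTwoChar.coe_uSL 1).symm)
  obtain ⟨e, he⟩ := FiniteField.exists_nonsquare (GLTwoChar.ringChar_ne_two_of_odd hodd)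
  obtain ⟨m, hm⟩ := id hodd
  have hp : 2 * (((Fintype.card F + 1) / 2 : ℕ) : ℂ) = (Fintype.card F : ℂ) + 1 := by
    rw [show (Fintype.card F + 1) / 2 = m + 1 by omega, hm]; push_cast; ring
  have hmi : 2 * (((Fintype.card F - 1) / 2 : ℕ) : ℂ) = (Fintype.card F : ℂ) - 1 := by
    rw [show (Fintype.card F - 1) / 2 = m by omega, hm]; push_cast; ring
  exact ⟨fun χ hχ h => plus_formula hodd hq he hχ (by rw [h, hp]),
    fun χ hχ h => minus_formula hodd hq he hχ (by rw [h, hmi]),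
    fun χ₁ χ₂ h1 h2 hne a b => plus_sum hodd hq he h1 h2 hne (by rw [a, hp]) (by rw [b, hp]),
    fun χ₁ χ₂ h1 h2 hne a b => minus_pair hodd hq he h1 h2 hne (by rw [a, hmi]) (by rw [b, hmi])⟩

end Cfsg.Agent.S2324
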