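import Cfsg.Statements.S2325
import Cfsg.Agent.EqLemmas
import Cfsg.Agent.Lib.TwoByTwo.Classes

set_option autoImplicit false
open Cfsg

namespace Cfsg.Agent.S2325

open Matrix Cfsg.Agent.TwoByTwo

theorem key {F : Type*} [Field F] [Fintype F] (hodd : Odd (Fintype.card F)) :
    Nat.card (ConjClasses (SpecialLinearGroup (Fin 2) F)) = Fintype.card F + 4 := by
  classical
  have h2 : ringChar F ≠ 2 := fun h => by
    have := FiniteField.even_card_of_char_two h
    rw [Nat.odd_iff] at hodd; omega
  have h20 : (2 : F) ≠ 0 := Ring.two_ne_zero h2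
  have h11 : (-1 : F) ≠ 1 := fun h => h20 (by linear_combination -h)
  obtain ⟨ν, hν⟩ := FiniteField.exists_nonsquare h2
  have hν0 : ν ≠ 0 := fun h => hν (h ▸ IsSquare.zero)
  let sg : Bool → F := fun b => bif b then 1 else -1
  have hsg : ∀ b, sg b * sg b = 1 := fun b => by cases b <;> simp [sg]
  have hsg_inj : Function.Injective sg := fun b b' h => by
    cases b <;> cases b' <;> simp [sg, h11, Ne.symm h11] at h ⊢
  let kc : Bool → F := fun b => bif b then 1 else ν
  let T := {t : F // t ^ 2 ≠ 4}
  let rep : (Bool ⊕ T) ⊕ (Bool × Bool) → SpecialLinearGroup (Fin 2) F := fun i =>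
    match i with
    | Sum.inl (Sum.inl b) => ⟨scalar (Fin 2) (sg b), by
        simp only [Matrix.scalar_apply, Matrix.det_diagonal, Fin.prod_univ_two]; exact hsg b⟩
    | Sum.inl (Sum.inr t) => ⟨companion2 t.1 1, det_companion2 _ _⟩
    | Sum.inr (b, c) => ⟨!![sg b, sg b * kc c; 0, sg b], by
        rw [Matrix.det_fin_two_of, mul_zero, sub_zero]; exact hsg b⟩
  have hc0 : ∀ c, kc c ≠ 0 := fun c => by cases c <;> simp [kc, hν0]
  have hns : ∀ b c, ¬ IsScalar ((rep (Sum.inr (b, c)) : SpecialLinearGroup (Fin 2) F) : Matrix (Fin 2) (Fin 2) F) := by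
    intro b c h
    have := h.1
    cases b <;> simp [rep, sg, hc0 c] at this
  let Φ : (Bool ⊕ T) ⊕ (Bool × Bool) → ConjClasses (SpecialLinearGroup (Fin 2) F) :=
    fun i => ConjClasses.mk (rep i)
  have hΦ : Function.Bijective Φ := by
    constructor
    · have diff : ∀ i j, Φ i = Φ j → IsScalar ((rep i : SpecialLinearGroup (Fin 2) F) : Matrix (Fin 2) (Fin 2) F) →
          rep i = rep j := fun i j h hs => (sl_trace_eq (ConjClasses.mk_eq_mk_iff_isConj.1 h)).2 hs
      have tr : ∀ i j, Φ i = Φ j →
          ((rep i : SpecialLinearGroup (Fin 2) F) : Matrix (Fin 2) (Fin 2) F).trace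
            = ((rep j : SpecialLinearGroup (Fin 2) F) : Matrix (Fin 2) (Fin 2) F).trace :=
        fun i j h => (sl_trace_eq (ConjClasses.mk_eq_mk_iff_isConj.1 h)).1
      have d1 : ∀ (b : Bool) (t : T), Φ (Sum.inl (Sum.inl b)) ≠ Φ (Sum.inl (Sum.inr t)) := by
        intro b t h
        have h' := tr (Sum.inl (Sum.inl b)) (Sum.inl (Sum.inr t)) h
        simp [rep, companion2, Matrix.trace_fin_two] at h'
        refine t.2 ?_
        rw [← h']
        linear_combination 4 * hsg b
      have d2 : ∀ (b : Bool) (p : Bool × Bool), Φ (Sum.inl (Sum.inl b)) ≠ Φ (Sum.inr p) := by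
        rintro b ⟨b', c⟩ h
        have := diff (Sum.inl (Sum.inl b)) (Sum.inr (b', c)) h (isScalar_scalar _)
        exact hns b' c (this ▸ isScalar_scalar _)
      have d3 : ∀ (t : T) (p : Bool × Bool), Φ (Sum.inl (Sum.inr t)) ≠ Φ (Sum.inr p) := by
        rintro t ⟨b, c⟩ h
        have h' := tr (Sum.inl (Sum.inr t)) (Sum.inr (b, c)) h
        simp [rep, companion2, Matrix.trace_fin_two] at h'
        refine t.2 ?_
        rw [h']
        linear_combination 4 * hsg b
      rintro ((b | t) | ⟨b, c⟩) ((b' | t') | ⟨b', c'⟩) h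
      · have := congrArg (fun g : SpecialLinearGroup (Fin 2) F => (g : Matrix (Fin 2) (Fin 2) F) 0 0)
          (diff (Sum.inl (Sum.inl b)) (Sum.inl (Sum.inl b')) h (isScalar_scalar _))
        simp [rep] at this
        rw [hsg_inj this]
      · exact absurd h (d1 b t')
      · exact absurd h (d2 b (b', c'))
      · exact absurd h.symm (d1 b' t)
      · have := tr (Sum.inl (Sum.inr t)) (Sum.inl (Sum.inr t')) h
        simp [rep, trace_companion2] at this
        rw [Subtype.ext this]
      · exact absurd h (d3 t (b', c'))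
      · exact absurd h.symm (d2 b' (b, c))
      · exact absurd h.symm (d3 t' (b, c))
      · have := tr (Sum.inr (b, c)) (Sum.inr (b', c')) h
        simp [rep, Matrix.trace_fin_two] at this
        have hb : b = b' := hsg_inj (mul_left_cancel₀ h20 (by linear_combination this))
        subst hb
        obtain ⟨g, hg⟩ := isConj_iff.1 (ConjClasses.mk_eq_mk_iff_isConj.1 h)
        rw [mul_inv_eq_iff_eq_mul] at hg
        have hg' : g.1 * !![sg b, sg b * kc c; 0, sg b] = !![sg b, sg b * kc c'; 0, sg b] * g.1 :=
          congrArg Subtype.val hg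
        have hdet : g.1 0 0 * g.1 1 1 - g.1 0 1 * g.1 1 0 = 1 := by
          rw [← Matrix.det_fin_two]; exact g.2
        have e00 := congrFun (congrFun hg' 0) 0
        have e01 := congrFun (congrFun hg' 0) 1
        simp [Matrix.mul_apply, Fin.sum_univ_two] at e00 e01
        have hs0 : sg b ≠ 0 := fun h0 => by simpa [h0] using hsg b
        have h10 : g.1 1 0 = 0 := (mul_eq_zero.1 (show sg b * kc c' * g.1 1 0 = 0 by
          linear_combination -e00)).resolve_left (mul_ne_zero hs0 (hc0 c'))
        have hsqr : kc c' = (g.1 0 0) ^ 2 * kc c := by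
          apply mul_left_cancel₀ hs0
          linear_combination (-(g.1 0 0)) * e01 - sg b * kc c' * hdet
            - sg b * kc c' * g.1 0 1 * h10
        cases c <;> cases c' <;> simp [kc] at hsqr ⊢
        · refine hν ⟨1 / g.1 0 0, ?_⟩
          have : g.1 0 0 ≠ 0 := fun h0 => by simp [h0] at hsqr
          field_simp
          linear_combination -hsqr
        · exact hν ⟨g.1 0 0, by rw [hsqr, sq]⟩
    · intro q
      induction q using Quotient.inductionOn with
      | _ A =>
      show ∃ i, Φ i = ConjClasses.mk A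
      have hdA : (A : Matrix (Fin 2) (Fin 2) F).det = 1 := A.2
      by_cases ht : (A : Matrix (Fin 2) (Fin 2) F).trace ^ 2 = 4
      · obtain ⟨b, hb⟩ : ∃ b, (A : Matrix (Fin 2) (Fin 2) F).trace = 2 * sg b := by
          rcases mul_eq_zero.1 (show ((A : Matrix (Fin 2) (Fin 2) F).trace - 2) *
              ((A : Matrix (Fin 2) (Fin 2) F).trace + 2) = 0 by linear_combination ht) with h | h
          · exact ⟨true, by simp [sg]; linear_combination h⟩
          · exact ⟨false, by simp [sg]; linear_combination h⟩
        by_cases hs : IsScalar (A : Matrix (Fin 2) (Fin 2) F)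
        · refine ⟨Sum.inl (Sum.inl b), congrArg ConjClasses.mk (Subtype.ext ?_)⟩
          rw [hs.eq]
          simp only [rep]
          congr 1
          rw [Matrix.trace_fin_two, ← hs.2.2] at hb
          exact mul_left_cancel₀ h20 (by linear_combination -hb)
        · obtain ⟨x, y, hxy⟩ := exists_qf_ne_zero hs
          set k := qf (A : Matrix (Fin 2) (Fin 2) F) x y
          obtain ⟨c, s, hcs⟩ : ∃ c s, k = -sg b * kc c * s ^ 2 := by
            by_cases hsqr : IsSquare (-sg b * k)
            · obtain ⟨s, hs'⟩ := hsqr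
              exact ⟨true, s, by simp [kc]; linear_combination (-sg b) * hs' - k * hsg b⟩
            · have hns' := hsqr
              rw [← quadraticChar_neg_one_iff_not_isSquare] at hns'
              have hν' := quadraticChar_neg_one_iff_not_isSquare.2 hν
              have hmul : quadraticChar F (ν * (-sg b * k)) = 1 := by
                rw [map_mul, hν', hns']; norm_num
              have hne : ν * (-sg b * k) ≠ 0 :=
                mul_ne_zero hν0 (mul_ne_zero (neg_ne_zero.2 fun h0 => by simpa [h0] using hsg b) hxy)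
              obtain ⟨s, hs'⟩ := (quadraticChar_one_iff_isSquare hne).1 hmul
              refine ⟨false, s / ν, ?_⟩
              simp [kc]; field_simp
              linear_combination (-sg b) * hs' - ν * k * hsg b
          refine ⟨Sum.inr (b, c), ?_⟩
          show ConjClasses.mk _ = _
          rw [ConjClasses.mk_eq_mk_iff_isConj]
          refine IsConj.symm (sl_isConj_of_qf_eq (x := x) (y := y) (x' := 0) (y' := s) ?_ ?_ hxy)
          · simp [rep, Matrix.trace_fin_two] at hb ⊢; linear_combination hb
          · rw [show qf (rep (Sum.inr (b, c)) : Matrix (Fin 2) (Fin 2) F) 0 s = -sg b * kc c * s ^ 2 by simp [rep, qf]]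
            exact hcs
      · refine ⟨Sum.inl (Sum.inr ⟨_, ht⟩), ?_⟩
        show ConjClasses.mk _ = _
        rw [ConjClasses.mk_eq_mk_iff_isConj]
        obtain ⟨x, y, hxy⟩ := exists_qf_eq_one h2 (A := (A : Matrix (Fin 2) (Fin 2) F))
          (by rw [hdA, mul_one]; exact sub_ne_zero.2 ht)
        refine IsConj.symm (sl_isConj_of_qf_eq (x := x) (y := y) (x' := 1) (y' := 0) ?_ ?_ (by simp [hxy]))
        · simp [rep, trace_companion2]
        · rw [hxy, show qf (rep (Sum.inl (Sum.inr ⟨_, ht⟩)) : Matrix (Fin 2) (Fin 2) F) 1 0 = 1 by simp [rep, companion2, qf]]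
  rw [← Nat.card_eq_of_bijective Φ hΦ, Nat.card_sum, Nat.card_sum, Nat.card_prod,
    Nat.card_eq_fintype_card, Nat.card_eq_fintype_card, Fintype.card_bool]
  have hT : Fintype.card T + 2 = Fintype.card F := by
    have h22 : (2 : F) ≠ -2 := fun h => h11 (mul_left_cancel₀ h20 (by linear_combination -h))
    have he : ∀ t : F, t ^ 2 = 4 ↔ t ∈ ({2, -2} : Finset F) := fun t => by
      rw [show (4 : F) = 2 ^ 2 by norm_num, sq_eq_sq_iff_eq_or_eq_neg]
      simp
    rw [Fintype.card_subtype_compl, Fintype.card_of_subtype _ (fun t => (he t).symm),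
      Finset.card_pair h22]
    have : 3 ≤ Fintype.card F := by
      have := Finset.card_le_univ ({1, -1, 0} : Finset F)
      rw [Finset.card_insert_of_notMem (by simp [Ne.symm h11]),
        Finset.card_pair (by simp)] at this
      omega
    omega
  omega


/-- Over a finite field with q elements, q odd, the special linear group SL₂ has exactly q + 4 conjugacy classes. -/
theorem result {F : Type*} [Field F] [Fintype F] (hodd : Odd (Fintype.card F)) :
    Nat.card (ConjClasses (Matrix.SpecialLinearGroup (Fin 2) F)) = Fintype.card F + 4 := by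
  exact key hodd

end Cfsg.Agent.S2325
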