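import Cfsg.Statements.S2329
import Cfsg.Agent.EqLemmas
import Cfsg.Agent.Lib.TwoByTwo.Classes

set_option autoImplicit false
open Cfsg

namespace Cfsg.Agent.S2329

open Matrix Cfsg.Agent.TwoByTwo

theorem key {F : Type*} [Field F] (p : ℕ) [Fact p.Prime] [CharP F p] (g : GL (Fin 2) F)
    (hg : orderOf g = p) :
    ¬ IsScalar (g : Matrix (Fin 2) (Fin 2) F) ∧ (g : Matrix (Fin 2) (Fin 2) F).trace = 2 ∧
      (g : Matrix (Fin 2) (Fin 2) F).det = 1 := by
  set N := (g : Matrix (Fin 2) (Fin 2) F) - 1 with hN
  have hgp : (g : Matrix (Fin 2) (Fin 2) F) ^ p = 1 := by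
    rw [← Units.val_pow_eq_pow_val, ← hg, pow_orderOf_eq_one]; rfl
  have hNp : N ^ p = 0 := by
    rw [hN, sub_pow_char_of_commute _ (Commute.one_right _), one_pow, hgp, sub_self]
  have hd : N.det = 0 := by
    have h := congrArg Matrix.det hNp
    rw [Matrix.det_pow, Matrix.det_zero] at h
    exact pow_eq_zero_iff (Fact.out : p.Prime).ne_zero |>.1 h
  have hCH : N * N = N.trace • N := by
    ext i j
    rw [Matrix.det_fin_two] at hd
    fin_cases i <;> fin_cases j <;> simp [Matrix.mul_apply, Fin.sum_univ_two, Matrix.trace_fin_two]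
    · linear_combination -hd
    · ring
    · ring
    · linear_combination -hd
  have hpow : ∀ k, N ^ (k + 1) = N.trace ^ k • N := by
    intro k
    induction k with
    | zero => simp
    | succ k ih => rw [pow_succ, ih, Matrix.smul_mul, hCH, smul_smul, ← pow_succ]
  have hN0 : N ≠ 0 := fun h => by
    have : g = 1 := Units.ext (sub_eq_zero.1 (hN ▸ h))
    rw [this, orderOf_one] at hg
    exact (Fact.out : p.Prime).ne_one hg.symm
  have htr : N.trace = 0 := by
    obtain ⟨k, hk⟩ := Nat.exists_eq_add_of_le (Fact.out : p.Prime).one_lt.le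
    rw [hk, add_comm, hpow, smul_eq_zero] at hNp
    exact (pow_eq_zero_iff' (M₀ := F)).1 (hNp.resolve_right hN0) |>.1
  rw [Matrix.trace_fin_two] at htr
  rw [Matrix.det_fin_two] at hd
  simp [hN] at htr hd
  refine ⟨fun hs => hN0 ?_, ?_, ?_⟩
  · have h00 : (g : Matrix (Fin 2) (Fin 2) F) 0 0 = 1 := by
      have h1 := hs.1
      have h3 := hs.2.2
      by_contra hne
      rw [h1, ← h3] at hd
      simp [sub_eq_zero, hne] at hd
    rw [hN, hs.eq, h00]; simp
  · rw [Matrix.trace_fin_two]; linear_combination htr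
  · rw [Matrix.det_fin_two]; linear_combination hd + htr


/-- Over a finite field of characteristic p, any two elements of order p of GL₂ are conjugate: there is a single conjugacy class of non-identity unipotent elements. -/
theorem result {F : Type*} [Field F] [Fintype F] (p : ℕ) [Fact p.Prime] [CharP F p] (g h : Matrix.GeneralLinearGroup (Fin 2) F)
    (hg : orderOf g = p) (hh : orderOf h = p) : IsConj g h := by
  obtain ⟨a1, a2, a3⟩ := key p g hg
  obtain ⟨b1, b2, b3⟩ := key p h hh
  exact gl_isConj_of_eq a1 b1 (a2.trans b2.symm) (a3.trans b3.symm)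

end Cfsg.Agent.S2329
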