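import Cfsg.Statements.S2330
import Cfsg.Agent.EqLemmas
import Cfsg.Agent.Lib.TwoByTwo.Classes

set_option autoImplicit false
open Cfsg

namespace Cfsg.Agent.S2330

open Matrix Cfsg.Agent.TwoByTwo

theorem key {F : Type*} [Field F] [Fintype F] :
    Nat.card (ConjClasses (GL (Fin 2) F)) = Fintype.card F ^ 2 - 1 := by
  classical
  let sc : Fˣ → GL (Fin 2) F := fun r => GeneralLinearGroup.mkOfDetNeZero (scalar (Fin 2) (r : F)) (by simp)
  let cp : F × Fˣ → GL (Fin 2) F := fun p => GeneralLinearGroup.mkOfDetNeZero (companion2 p.1 (p.2 : F))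
    (by rw [det_companion2]; exact p.2.ne_zero)
  let Φ : Fˣ ⊕ (F × Fˣ) → ConjClasses (GL (Fin 2) F) := fun s => ConjClasses.mk (Sum.elim sc cp s)
  have hΦ : Function.Bijective Φ := by
    constructor
    · rintro (r | ⟨t, d⟩) (r' | ⟨t', d'⟩) h <;> replace h := ConjClasses.mk_eq_mk_iff_isConj.1 h
      · have := congrArg (fun g : GL (Fin 2) F => (g : Matrix (Fin 2) (Fin 2) F) 0 0)
          ((gl_trace_eq h).2.2 (isScalar_scalar _))
        simp [sc] at this
        exact congrArg Sum.inl (Units.ext this)
      · exfalso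
        have := congrArg (fun g : GL (Fin 2) F => (g : Matrix (Fin 2) (Fin 2) F) 1 0)
          ((gl_trace_eq h).2.2 (isScalar_scalar _))
        simp [sc, cp, companion2] at this
      · exfalso
        have := congrArg (fun g : GL (Fin 2) F => (g : Matrix (Fin 2) (Fin 2) F) 1 0)
          ((gl_trace_eq h.symm).2.2 (isScalar_scalar _))
        simp [sc, cp, companion2] at this
      · obtain ⟨h1, h2, -⟩ := gl_trace_eq h
        simp [cp, trace_companion2, det_companion2] at h1 h2
        exact congrArg Sum.inr (Prod.ext h1 (Units.ext h2))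
    · intro c
      induction c using Quotient.inductionOn with
      | _ A =>
        by_cases hs : IsScalar (A : Matrix (Fin 2) (Fin 2) F)
        · have h0 : (A : Matrix (Fin 2) (Fin 2) F) 0 0 ≠ 0 := fun h => A.det_ne_zero (by
            rw [hs.eq, h]; simp)
          refine ⟨Sum.inl (Units.mk0 _ h0), ?_⟩
          show ConjClasses.mk _ = ConjClasses.mk A
          congr 1
          exact Units.ext hs.eq.symm
        · refine ⟨Sum.inr ((A : Matrix (Fin 2) (Fin 2) F).trace, Units.mk0 _ A.det_ne_zero), ?_⟩
          show ConjClasses.mk _ = ConjClasses.mk A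
          rw [ConjClasses.mk_eq_mk_iff_isConj]
          refine gl_isConj_of_eq (not_isScalar_companion2 _ _) hs ?_ ?_
          · simp [cp, trace_companion2]
          · simp [cp, det_companion2]
  rw [← Nat.card_eq_of_bijective Φ hΦ, Nat.card_sum, Nat.card_prod, Nat.card_units,
    Nat.card_eq_fintype_card]
  have h2 : 2 ≤ Fintype.card F := Fintype.one_lt_card
  obtain ⟨s, hs⟩ : ∃ s, Fintype.card F = s + 1 := ⟨_, (Nat.sub_add_cancel (by omega)).symm⟩
  rw [hs, Nat.add_sub_cancel]
  have : (s + 1) ^ 2 = (s + (s + 1) * s) + 1 := by ring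
  omega


/-- Over a finite field with q elements, the general linear group GL₂ has exactly q² − 1 conjugacy classes. -/
theorem result {F : Type*} [Field F] [Fintype F] :
    Nat.card (ConjClasses (Matrix.GeneralLinearGroup (Fin 2) F)) = Fintype.card F ^ 2 - 1 := by
  exact key

end Cfsg.Agent.S2330
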