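import Cfsg.Statements.S2331
import Cfsg.Agent.EqLemmas
import Cfsg.Agent.Lib.TwoByTwo.Classes

set_option autoImplicit false
open Cfsg

namespace Cfsg.Agent.S2331

open Matrix Cfsg.Agent.TwoByTwo

theorem key {F : Type*} [Field F] [Fintype F] [CharP F 2] :
    Nat.card (ConjClasses (SpecialLinearGroup (Fin 2) F)) = Fintype.card F + 1 := by
  classical
  have h2 : ringChar F = 2 := ringChar.eq F 2
  have hsq : ∀ a : F, ∃ b, b ^ 2 = a := fun a => by
    obtain ⟨b, hb⟩ := FiniteField.isSquare_of_char_two h2 a
    exact ⟨b, by rw [sq, ← hb]⟩
  let rep : Option F → SpecialLinearGroup (Fin 2) F := fun o =>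
    match o with
    | none => 1
    | some t => ⟨companion2 t 1, det_companion2 _ _⟩
  let Φ : Option F → ConjClasses (SpecialLinearGroup (Fin 2) F) := fun o => ConjClasses.mk (rep o)
  have hΦ : Function.Bijective Φ := by
    constructor
    · rintro (_ | t) (_ | t') h <;> replace h := ConjClasses.mk_eq_mk_iff_isConj.1 h
      · rfl
      · exfalso
        have h' := (sl_trace_eq h).2 (by simp [rep, IsScalar])
        have := congrArg (fun g : SpecialLinearGroup (Fin 2) F => (g : Matrix (Fin 2) (Fin 2) F) 1 0) h'
        simp [rep, companion2] at this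
      · exfalso
        have h' := (sl_trace_eq h.symm).2 (by simp [rep, IsScalar])
        have := congrArg (fun g : SpecialLinearGroup (Fin 2) F => (g : Matrix (Fin 2) (Fin 2) F) 1 0) h'
        simp [rep, companion2] at this
      · have h1 := (sl_trace_eq h).1
        simp [rep, trace_companion2] at h1
        rw [h1]
    · intro c
      induction c using Quotient.inductionOn with
      | _ A =>
        by_cases hs : IsScalar (A : Matrix (Fin 2) (Fin 2) F)
        · refine ⟨none, ?_⟩
          show ConjClasses.mk _ = ConjClasses.mk A
          congr 1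
          have hd : (A : Matrix (Fin 2) (Fin 2) F).det = 1 := A.2
          have e := hs.eq
          rw [e] at hd
          simp at hd
          have h1 : (A : Matrix (Fin 2) (Fin 2) F) 0 0 = 1 := by
            rcases hd with h | h
            · exact h
            · rw [h, CharTwo.neg_eq]
          apply Subtype.ext
          rw [e, h1]
          simp [rep]
        · refine ⟨some (A : Matrix (Fin 2) (Fin 2) F).trace, ?_⟩
          show ConjClasses.mk _ = ConjClasses.mk A
          rw [ConjClasses.mk_eq_mk_iff_isConj]
          obtain ⟨x, y, h⟩ := exists_qf_ne_zero hs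
          obtain ⟨b, hb⟩ := hsq (qf (A : Matrix (Fin 2) (Fin 2) F) x y)
          refine sl_isConj_of_qf_eq (x := b * 1) (y := b * 0) (x' := x) (y' := y) ?_ ?_ ?_
          · exact trace_companion2 _ _
          · rw [qf_smul, ← hb]; simp [rep, companion2, qf]
          · rw [qf_smul, show qf (rep (some (A : Matrix (Fin 2) (Fin 2) F).trace) : Matrix (Fin 2) (Fin 2) F) 1 0 = 1 by simp [rep, companion2, qf], mul_one, hb]; exact h
  rw [← Nat.card_eq_of_bijective Φ hΦ, Nat.card_eq_fintype_card, Fintype.card_option]


/-- Over a finite field with q elements, q even, the special linear group SL₂ has exactly q + 1 conjugacy classes. -/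
theorem result {F : Type*} [Field F] [Fintype F] [CharP F 2] :
    Nat.card (ConjClasses (Matrix.SpecialLinearGroup (Fin 2) F)) = Fintype.card F + 1 := by
  exact key

end Cfsg.Agent.S2331
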