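import Cfsg.Statements.S2332
import Cfsg.Agent.EqLemmas
import Cfsg.Agent.Lib.SLDeg.PointRep
import Cfsg.Agent.Lib.Char.Basic

set_option autoImplicit false
open Cfsg

namespace Cfsg.Agent.S2332

/-- Smallest degree of a non-linear irreducible complex representation of SL_n over a finite field with q elements, for n ≥ 3 and (n, q) not one of (3, 2), (3, 4), (4, 2), (4, 3): every irreducible complex representation of SL_n(F) of degree at least 2 has degree at least (q^n − q)/(q − 1), and there is an irreducible complex representation of exactly that degree. -/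
theorem result {F : Type*} [Field F] [Fintype F] [DecidableEq F] (n : ℕ) (hn : 3 ≤ n)
    (hex : (n, Fintype.card F) ≠ (3, 2) ∧ (n, Fintype.card F) ≠ (3, 4) ∧ (n, Fintype.card F) ≠ (4, 2) ∧ (n, Fintype.card F) ≠ (4, 3)) :
    (∀ (k : ℕ) (ρ : Representation ℂ (Matrix.SpecialLinearGroup (Fin n) F) (Fin k → ℂ)), ρ.IsIrreducible → 2 ≤ k → (Fintype.card F ^ n - Fintype.card F) / (Fintype.card F - 1) ≤ k) ∧
    (∃ ρ : Representation ℂ (Matrix.SpecialLinearGroup (Fin n) F) (Fin ((Fintype.card F ^ n - Fintype.card F) / (Fintype.card F - 1)) → ℂ), ρ.IsIrreducible) := by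
  classical
  obtain ⟨k, rfl⟩ : ∃ k, n = k + 3 := ⟨n - 3, by omega⟩
  set q := Fintype.card F with hq
  have hq2 : 2 ≤ q := Fintype.one_lt_card
  have hgood : SLDeg.SLGood (k + 2) q := by
    obtain ⟨h1, h2, h3, h4⟩ := hex
    simp only [ne_eq, Prod.mk.injEq] at h1 h2 h3 h4
    refine ⟨fun h => ⟨fun h' => h1 ⟨?_, h'⟩, fun h' => h2 ⟨?_, h'⟩⟩,
      fun h => ⟨fun h' => h3 ⟨?_, h'⟩, fun h' => h4 ⟨?_, h'⟩⟩⟩ <;> omega
  have hb : (q ^ (k + 3) - q) / (q - 1) = SLDeg.bB q (k + 2) := by
    have h := SLDeg.pow_eq_bB (k + 2) q (by omega)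
    rw [Nat.mul_add, Nat.mul_one, show k + 2 + 1 = k + 3 from rfl] at h
    have e : q ^ (k + 3) - q = (q - 1) * SLDeg.bB q (k + 2) := by omega
    rw [e, Nat.mul_div_cancel_left _ (by omega)]
  let e : Fin (k + 2) ⊕ Fin 1 ≃ Fin (k + 3) := finSumFinEquiv
  let E := SLDeg.slCongr (F := F) e
  refine ⟨fun d ρ hρ hd => ?_, ?_⟩
  · rw [hb]
    have hnt : ∃ g, (ρ.comp E.toMonoidHom) g ≠ 1 := by
      by_contra! htriv
      haveI := hρ
      let i₀ : Fin d := ⟨0, by omega⟩
      let W : Submodule ℂ (Fin d → ℂ) := Submodule.span ℂ {Pi.single i₀ (1 : ℂ)}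
      have h1 : ∀ g, ρ g = 1 := fun g => by simpa using htriv (E.symm g)
      rcases CharApp.eq_bot_or_top_of_invariant ρ W (fun g v hv => by simpa [h1 g] using hv) with h | h
      · simp [W] at h
      · have hd' : Module.finrank ℂ W = d := by rw [h, finrank_top, Module.finrank_fin_fun]
        rw [finrank_span_singleton (by simp)] at hd'
        omega
    have := SLDeg.sl_bound k hgood (Fin d → ℂ) (ρ.comp E.toMonoidHom) hnt
    simpa [hq] using this
  · rw [hb]
    let X := Projectivization F (Fin (k + 2) ⊕ Fin 1 → F)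
    letI : Fintype X := Fintype.ofFinite _
    have hX : Fintype.card X = SLDeg.bB q (k + 2) + 1 := by
      rw [← Nat.card_eq_fintype_card]; exact SLDeg.card_points (k + 2)
    have : Nonempty X := Fintype.card_pos_iff.1 (by omega)
    have hdim : Module.finrank ℂ (SLDeg.sumZero X) = SLDeg.bB q (k + 2) := by
      have := SLDeg.finrank_sumZero (X := X)
      omega
    have hbpos : 1 ≤ SLDeg.bB q (k + 2) := by
      have := Nat.one_le_pow (k + 2) q (by omega)
      show 1 ≤ q ^ (k + 2) + SLDeg.bB q (k + 1)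
      omega
    letI : Fintype (Matrix.SpecialLinearGroup (Fin (k + 2) ⊕ Fin 1) F) := Fintype.ofFinite _
    haveI := SLDeg.pointRep_isIrreducible (Matrix.SpecialLinearGroup (Fin (k + 2) ⊕ Fin 1) F) X
      (SLDeg.isPretransitive_points (by omega)) (SLDeg.sl_two_point (by omega)) (by omega)
    let σ : Representation ℂ (Matrix.SpecialLinearGroup (Fin (k + 3)) F) (SLDeg.sumZero X) :=
      (SLDeg.pointRep (Matrix.SpecialLinearGroup (Fin (k + 2) ⊕ Fin 1) F) X).comp E.symm.toMonoidHom
    have hσ : σ.IsIrreducible := by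
      haveI : Nontrivial (SLDeg.sumZero X) := Module.finrank_pos_iff (R := ℂ).1 (by omega)
      refine CharApp.isIrreducible_of_forall_invariant σ fun W hW => ?_
      exact CharApp.eq_bot_or_top_of_invariant
        (SLDeg.pointRep (Matrix.SpecialLinearGroup (Fin (k + 2) ⊕ Fin 1) F) X) W
        fun g v hv => by simpa [σ] using hW (E g) v hv
    let b : SLDeg.sumZero X ≃ₗ[ℂ] (Fin (SLDeg.bB q (k + 2)) → ℂ) :=
      (Module.finBasisOfFinrankEq ℂ _ hdim).equivFun
    exact ⟨Char.transport σ b, Char.isIrreducible_congr (Char.transportEquiv σ b) hσ⟩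

end Cfsg.Agent.S2332
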