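import Cfsg.Statements.S2333
import Cfsg.Agent.EqLemmas
import Cfsg.Agent.Lib.SpWeil.EvenBound
import Cfsg.Agent.Lib.Char.Basic
import Cfsg.Agent.Lib.CharApp.Schur

set_option autoImplicit false
open Cfsg

namespace Cfsg.Agent.S2333

/-- For a finite field F of even order q and n ≥ 2 with (n, q) ≠ (2, 2), every irreducible complex representation of the symplectic group Sp_{2n}(F) of degree at least 2 has degree at least (q^n − 1)(q^n − q)/(2(q + 1)). -/
theorem result {F : Type*} [Field F] [Fintype F] [DecidableEq F] (n : ℕ) (hn : 2 ≤ n) (heven : Even (Fintype.card F)) (hex : (n, Fintype.card F) ≠ (2, 2)) :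
    (∀ (k : ℕ) (ρ : Representation ℂ (Matrix.symplecticGroup (Fin n) F) (Fin k → ℂ)), ρ.IsIrreducible → 2 ≤ k → (Fintype.card F ^ n - 1) * (Fintype.card F ^ n - Fintype.card F) / (2 * (Fintype.card F + 1)) ≤ k) := by
  intro k ρ hρ hk
  classical
  haveI : CharP F 2 := ringChar.of_eq
    (FiniteField.even_card_iff_char_two.2 (Nat.even_iff.1 heven))
  let e := Cfsg.Agent.Linear.spEquiv n F
  by_cases htriv : ∀ g, ρ g = 1
  · exfalso
    haveI := hρ
    let i₀ : Fin k := ⟨0, by omega⟩
    let W : Submodule ℂ (Fin k → ℂ) := Submodule.span ℂ {Pi.single i₀ (1 : ℂ)}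
    rcases CharApp.eq_bot_or_top_of_invariant ρ W (fun g v hv => by simpa [htriv g] using hv) with h | h
    · simp [W] at h
    · have hd : Module.finrank ℂ W = k := by rw [h, finrank_top, Module.finrank_fin_fun]
      rw [finrank_span_singleton (by simp)] at hd
      omega
  · push Not at htriv
    obtain ⟨g, hg⟩ := htriv
    have := SpWeil.finrank_ge_of_ne_one_even hn hex (ρ.comp e.symm.toMonoidHom)
      ⟨e g, by simpa using hg⟩
    simpa using this

end Cfsg.Agent.S2333
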