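import Cfsg.Statements.S2336
import Cfsg.Agent.EqLemmas
import Cfsg.Agent.Lib.Char.Orth
import Cfsg.Agent.Lib.Char.Induced
import Cfsg.Agent.Lib.Char.Perm
import Cfsg.Agent.Lib.Linear.SLn

set_option autoImplicit false
open Cfsg

namespace Cfsg.Agent.S2336

open Matrix Cfsg.Agent.Char
open scoped ComplexConjugate

/-- Characters summing to something of norm their number are irreducible and distinct. -/
theorem irr_of_norm {G : Type*} [Group G] [Fintype G] {m : ℕ} (c : Fin m → G → ℂ)
    (hc : ∀ i, IsCharacter G (c i)) (hne : ∀ i, c i ≠ 0) (h1 : ∀ i, classInner (c i) 1 = 0)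
    (hnorm : classInner (1 + ∑ i, c i) (1 + ∑ i, c i) = ((m + 1 : ℕ) : ℂ)) :
    (∀ i, IsIrrCharacter G (c i)) ∧ Function.Injective c := by
  classical
  have hnat : ∀ i j, ∃ k : ℕ, classInner (c i) (c j) = k :=
    fun i j => IsCharacter.classInner_nat (hc i) (hc j)
  choose k hk using hnat
  have hd : ∀ i, 1 ≤ k i i := fun i => by
    rw [Nat.one_le_iff_ne_zero]
    intro h0
    exact hne i (classInner_self_eq_zero.1 (by rw [hk i i, h0, Nat.cast_zero]))
  have hone : classInner (1 : G → ℂ) 1 = 1 := classInner_irr_self isIrrCharacter_one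
  have h1' : ∀ i, classInner (1 : G → ℂ) (c i) = 0 := fun i => by
    rw [← classInner_conj_symm, h1 i, map_zero]
  have hsum : classInner (1 + ∑ i, c i) (1 + ∑ i, c i) = 1 + ((∑ i, ∑ j, k i j : ℕ) : ℂ) := by
    rw [classInner_add_left, classInner_add_right, classInner_add_right, classInner_sum_left,
      classInner_sum_right, classInner_sum_left, hone]
    simp [classInner_sum_right, h1, h1', hk]
  rw [hsum] at hnorm
  have htot : ∑ i, ∑ j, k i j = m := by
    have : ((∑ i, ∑ j, k i j : ℕ) : ℂ) = (m : ℂ) := by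
      push_cast at hnorm ⊢
      linear_combination hnorm
    exact_mod_cast this
  have hrow : ∀ i ∈ Finset.univ, 1 ≤ ∑ j, k i j := fun i _ =>
    le_trans (hd i) (Finset.single_le_sum (fun j _ => Nat.zero_le _) (Finset.mem_univ i))
  have hrows : ∀ i, ∑ j, k i j = 1 := fun i =>
    ((Finset.sum_eq_sum_iff_of_le hrow).1 (by simp [htot]) i (Finset.mem_univ i)).symm
  have hkey : ∀ i, k i i = 1 ∧ ∀ j, j ≠ i → k i j = 0 := fun i => by
    have hr := hrows i
    rw [← Finset.add_sum_erase _ _ (Finset.mem_univ i)] at hr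
    have hdi := hd i
    refine ⟨by omega, fun j hj => Nat.le_zero.1 ?_⟩
    refine le_trans (Finset.single_le_sum (fun j _ => Nat.zero_le _) (Finset.mem_erase.2 ⟨hj, Finset.mem_univ j⟩)) ?_
    omega
  refine ⟨fun i => (isIrrCharacter_iff_norm_one (hc i)).2 (by rw [hk, (hkey i).1, Nat.cast_one]),
    fun i j hij => ?_⟩
  by_contra hne'
  have h := hk i j
  rw [(hkey i).2 j (Ne.symm hne'), ← hij, hk i i, (hkey i).1] at h
  simp at h

variable {F : Type*} [Field F] {n : ℕ}

/-- Non-zero vectors. -/
abbrev Vec (n : ℕ) (F : Type*) [Field F] : Type _ := {v : Fin n → F // v ≠ 0}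

instance vecAction : MulAction (Matrix.SpecialLinearGroup (Fin n) F) (Vec n F) where
  smul g v := ⟨g.1 *ᵥ v.1, fun h => v.2 (by
    have h2 := congrArg (fun x => (g⁻¹).1 *ᵥ x) h
    rw [mulVec_mulVec, show (g⁻¹).1 * g.1 = 1 from congrArg Subtype.val (inv_mul_cancel g), one_mulVec,
      mulVec_zero] at h2
    exact h2)⟩
  one_smul v := Subtype.ext (show (1 : Matrix.SpecialLinearGroup (Fin n) F).1 *ᵥ v.1 = v.1 from
    one_mulVec _)
  mul_smul g h v := Subtype.ext (show (g * h).1 *ᵥ v.1 = g.1 *ᵥ (h.1 *ᵥ v.1) by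
    rw [mulVec_mulVec]; rfl)

@[simp] theorem coe_smul (g : Matrix.SpecialLinearGroup (Fin n) F) (v : Vec n F) :
    (g • v).1 = g.1 *ᵥ v.1 := rfl

/-- A transvection fixing `e` and moving `a` to `b`. -/
theorem exists_move {e a b w : Fin n → F} (he : w ⬝ᵥ e = 0) (ha : w ⬝ᵥ a = 1) (hb : w ⬝ᵥ b = 1) :
    ∃ g : Matrix.SpecialLinearGroup (Fin n) F, g.1 *ᵥ e = e ∧ g.1 *ᵥ a = b := by
  have hdet : (1 + replicateCol Unit (b - a) * replicateRow Unit w).det = 1 := by
    rw [det_one_add_replicateCol_mul_replicateRow, dotProduct_sub, ha, hb, sub_self, add_zero]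
  have hv : ∀ v, (1 + replicateCol Unit (b - a) * replicateRow Unit w) *ᵥ v = v + (w ⬝ᵥ v) • (b - a) := by
    intro v
    funext i
    rw [add_mulVec, one_mulVec, ← mulVec_mulVec, Pi.add_apply, Pi.add_apply, Pi.smul_apply]
    simp [mulVec, dotProduct, mul_comm]
  refine ⟨⟨_, hdet⟩, ?_, ?_⟩
  · show _ *ᵥ e = e
    rw [hv, he, zero_smul, add_zero]
  · show _ *ᵥ a = b
    rw [hv, ha, one_smul, add_sub_cancel]

theorem exists_pair_move (i0 i1 i2 : Fin n) (h01 : i0 ≠ i1) (h02 : i0 ≠ i2) (h12 : i1 ≠ i2)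
    (v : Fin n → F) (hv : ∀ c : F, v ≠ c • Pi.single i0 1) :
    ∃ g : Matrix.SpecialLinearGroup (Fin n) F,
      g.1 *ᵥ Pi.single i0 1 = Pi.single i0 1 ∧ g.1 *ᵥ v = Pi.single i1 1 := by
  classical
  by_cases h : ∃ i, i ≠ i0 ∧ i ≠ i1 ∧ v i ≠ 0
  · obtain ⟨i, hi0, hi1, hi⟩ := h
    apply exists_move (w := Pi.single i1 1 + Pi.single i ((1 - v i1) / v i))
    · simp [h01, hi0.symm, add_dotProduct]
    · rw [add_dotProduct, single_dotProduct, single_dotProduct, one_mul, div_mul_cancel₀ _ hi]; ring
    · simp [add_dotProduct, hi1.symm]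
  · push Not at h
    have h1 : v i1 ≠ 0 := by
      intro h1
      refine hv (v i0) (funext fun i => ?_)
      by_cases hi0 : i = i0
      · subst hi0; simp
      · by_cases hi1 : i = i1
        · subst hi1; simp [h1, hi0]
        · simp [h i hi0 hi1, hi0]
    obtain ⟨g, hg0, hg⟩ := exists_move (e := Pi.single i0 (1 : F)) (a := v) (b := Pi.single i2 1)
      (w := Pi.single i1 (v i1)⁻¹ + Pi.single i2 1)
      (by simp [h01, h02, add_dotProduct])
      (by simp [add_dotProduct, h i2 h02.symm h12.symm, h1])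
      (by simp [add_dotProduct, h12])
    obtain ⟨g', hg'0, hg'⟩ := exists_move (e := Pi.single i0 (1 : F)) (a := Pi.single i2 (1 : F))
      (b := Pi.single i1 1) (w := Pi.single i1 1 + Pi.single i2 1)
      (by simp [h01, h02, add_dotProduct]) (by simp [add_dotProduct, h12])
      (by simp [add_dotProduct, h12.symm])
    refine ⟨g' * g, ?_, ?_⟩
    · rw [show (g' * g).1 = g'.1 * g.1 from rfl, ← mulVec_mulVec, hg0, hg'0]
    · rw [show (g' * g).1 = g'.1 * g.1 from rfl, ← mulVec_mulVec, hg, hg']

variable [Fintype F]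

theorem card_pair_orbits (hn : 3 ≤ n) :
    Nat.card (MulAction.orbitRel.Quotient (Matrix.SpecialLinearGroup (Fin n) F) (Vec n F × Vec n F)) =
      Fintype.card F := by
  classical
  let i0 : Fin n := ⟨0, by omega⟩
  let i1 : Fin n := ⟨1, by omega⟩
  let i2 : Fin n := ⟨2, by omega⟩
  have h01 : i0 ≠ i1 := by simp [i0, i1]
  have h02 : i0 ≠ i2 := by simp [i0, i2]
  have h12 : i1 ≠ i2 := by simp [i1, i2]
  haveI : Nontrivial (Fin n) := ⟨⟨i0, i1, h01⟩⟩
  let e0 : Vec n F := ⟨Pi.single i0 1, by simp⟩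
  let e1 : Vec n F := ⟨Pi.single i1 1, by simp⟩
  let rep : Fˣ ⊕ Unit → Vec n F := fun x => match x with
    | Sum.inl c => ⟨(c : F) • Pi.single i0 1, by simp⟩
    | Sum.inr _ => e1
  let Φ : Fˣ ⊕ Unit → MulAction.orbitRel.Quotient (Matrix.SpecialLinearGroup (Fin n) F)
      (Vec n F × Vec n F) := fun x => Quotient.mk'' (e0, rep x)
  have hΦ : Function.Bijective Φ := by
    constructor
    · intro x y hxy
      obtain ⟨g, hg⟩ := MulAction.orbitRel_apply.1 (Quotient.eq''.1 hxy)
      obtain ⟨hg0, hg1⟩ := Prod.ext_iff.1 hg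
      have hg0' : g.1 *ᵥ Pi.single i0 1 = Pi.single i0 1 := congrArg Subtype.val hg0
      have hg1' : g.1 *ᵥ (rep y).1 = (rep x).1 := congrArg Subtype.val hg1
      rcases x with c | u <;> rcases y with c' | u'
      · simp only [rep, mulVec_smul, hg0'] at hg1'
        have := congrFun hg1' i0
        simp at this
        exact congrArg Sum.inl (Units.ext this.symm)
      · exfalso
        simp only [rep, e1] at hg1'
        have h := congrArg (fun v => (g⁻¹).1 *ᵥ v) hg1'
        have hi : (g⁻¹).1 * g.1 = 1 := congrArg Subtype.val (inv_mul_cancel g)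
        have h0 := congrArg (fun v => (g⁻¹).1 *ᵥ v) hg0'
        simp only [mulVec_mulVec, hi, one_mulVec] at h h0
        rw [mulVec_smul, ← h0] at h
        have := congrFun h i1
        simp [h01.symm] at this
      · exfalso
        simp only [rep, e1, mulVec_smul, hg0'] at hg1'
        have := congrFun hg1' i1
        simp [h01.symm] at this
      · rfl
    · intro z
      induction z using Quotient.inductionOn' with
      | h p =>
        obtain ⟨a, b⟩ := p
        obtain ⟨g, hg⟩ := Linear.exists_sl_smul_eq a.2 e0.2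
        have hg' : g • a = e0 := Subtype.ext hg
        by_cases hb : ∃ c : F, (g • b).1 = c • Pi.single i0 1
        · obtain ⟨c, hc⟩ := hb
          have hc0 : c ≠ 0 := fun h => (g • b).2 (by rw [hc, h, zero_smul])
          refine ⟨Sum.inl (Units.mk0 c hc0), Quotient.eq''.2 (MulAction.orbitRel_apply.2 ⟨g, ?_⟩)⟩
          exact Prod.ext hg' (Subtype.ext hc)
        · push Not at hb
          obtain ⟨k, hk0, hk1⟩ := exists_pair_move i0 i1 i2 h01 h02 h12 _ hb
          refine ⟨Sum.inr (), Quotient.eq''.2 (MulAction.orbitRel_apply.2 ⟨k * g, ?_⟩)⟩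
          refine Prod.ext ?_ ?_
          · show (k * g) • a = e0
            rw [mul_smul, hg']; exact Subtype.ext hk0
          · show (k * g) • b = rep (Sum.inr ())
            rw [mul_smul]; exact Subtype.ext hk1
  rw [← Nat.card_eq_of_bijective Φ hΦ, Nat.card_sum, Nat.card_units, Nat.card_eq_fintype_card,
    Nat.card_unique]
  have : 0 < Fintype.card F := Fintype.card_pos
  omega


/-- Let F be a finite field with q elements and n ≥ 3. The permutation character of SL_n(F) on the non-zero vectors of F^n (the function sending a matrix to the number of non-zero vectors it fixes) is the sum of the principal character and q − 1 pairwise distinct irreducible complex characters. -/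
theorem result {F : Type*} [Field F] [Fintype F] [DecidableEq F] (n : ℕ) (hn : 3 ≤ n) :
    ∃ χ : Fin (Fintype.card F - 1) → (Matrix.SpecialLinearGroup (Fin n) F → ℂ),
      (∀ i, Cfsg.IsIrrCharacter (Matrix.SpecialLinearGroup (Fin n) F) (χ i)) ∧ Function.Injective χ ∧
      ∀ g : Matrix.SpecialLinearGroup (Fin n) F,
        (Nat.card {v : Fin n → F // v ≠ 0 ∧ (g : Matrix (Fin n) (Fin n) F).mulVec v = v} : ℂ) = 1 + ∑ i, χ i g := by
  classical
  set G := Matrix.SpecialLinearGroup (Fin n) F with hG
  haveI : NeZero (Fintype.card F - 1) := ⟨by have := Fintype.one_lt_card (α := F); omega⟩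
  let i0 : Fin n := ⟨0, by omega⟩
  let i1 : Fin n := ⟨1, by omega⟩
  have h01 : i0 ≠ i1 := by simp [i0, i1]
  haveI : Nontrivial (Fin n) := ⟨⟨i0, i1, h01⟩⟩
  let e0 : Vec n F := ⟨Pi.single i0 1, by simp⟩
  -- the stabiliser of the line through `e0` and its eigenvalue character
  let P : Subgroup G :=
    { carrier := {g | ∃ a : Fˣ, g.1 *ᵥ e0.1 = (a : F) • e0.1}
      mul_mem' := by
        rintro g h ⟨a, ha⟩ ⟨b, hb⟩
        refine ⟨a * b, ?_⟩
        rw [show (g * h).1 = g.1 * h.1 from rfl, ← mulVec_mulVec, hb, mulVec_smul, ha, smul_smul,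
          Units.val_mul, mul_comm]
      one_mem' := ⟨1, by rw [show (1 : G).1 = 1 from rfl, one_mulVec, Units.val_one, one_smul]⟩
      inv_mem' := by
        rintro g ⟨a, ha⟩
        refine ⟨a⁻¹, ?_⟩
        have h := congrArg (fun v => (g⁻¹).1 *ᵥ v) ha
        rw [mulVec_mulVec, show (g⁻¹).1 * g.1 = 1 from congrArg Subtype.val (inv_mul_cancel g),
          one_mulVec, mulVec_smul] at h
        conv_rhs => rw [h]
        rw [smul_smul, ← Units.val_mul, inv_mul_cancel, Units.val_one, one_smul] }
  have hPex : ∀ g : P, ∃ a : Fˣ, g.1.1 *ᵥ e0.1 = (a : F) • e0.1 := fun g => g.2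
  choose lf hlf using hPex
  have huniq : ∀ (g : P) (a : Fˣ), g.1.1 *ᵥ e0.1 = (a : F) • e0.1 → lf g = a := by
    intro g a h
    rw [hlf g] at h
    have := congrFun h i0
    simp [e0] at this
    exact Units.ext this
  let lam : P →* Fˣ :=
    { toFun := lf
      map_one' := huniq 1 1 (by
        rw [show ((1 : P) : G).1 = 1 from rfl, one_mulVec, Units.val_one, one_smul])
      map_mul' := fun g h => huniq (g * h) (lf g * lf h) (by
        rw [show ((g * h : P) : G).1 = g.1.1 * h.1.1 from rfl, ← mulVec_mulVec, hlf h, mulVec_smul,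
          hlf g, smul_smul, Units.val_mul, mul_comm]) }
  have hlam : Function.Surjective lam := by
    intro a
    obtain ⟨g, hg⟩ := Linear.exists_sl_smul_eq e0.2 (v := (a : F) • e0.1) (smul_ne_zero a.ne_zero e0.2)
    exact ⟨⟨g, a, hg⟩, huniq _ a hg⟩
  -- characters of `Fˣ`
  have hcard : Nat.card Fˣ = Nat.card (Multiplicative (ZMod (Fintype.card F - 1))) := by
    rw [Nat.card_units, Nat.card_congr Multiplicative.toAdd, Nat.card_zmod, Nat.card_eq_fintype_card]
  let e : Fˣ ≃* Multiplicative (ZMod (Fintype.card F - 1)) := mulEquivOfCyclicCardEq hcard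
  obtain ⟨ζ, hζ⟩ : ∃ ζ : ℂ, IsPrimitiveRoot ζ (Fintype.card F - 1) :=
    ⟨_, Complex.isPrimitiveRoot_exp _ (NeZero.ne (Fintype.card F - 1))⟩
  let ψ := AddChar.zmodChar (Fintype.card F - 1) hζ.pow_eq_one
  have hψ : ψ.IsPrimitive := AddChar.zmodChar_primitive_of_primitive_root _ hζ
  let θ : ZMod (Fintype.card F - 1) → (P →* ℂ) := fun j =>
    (ψ.mulShift j).toMonoidHom.comp (e.toMonoidHom.comp lam)
  have hθ : ∀ j g, θ j g = ψ (j * (e (lam g)).toAdd) := fun j g => rfl
  have hθsum : ∀ g : P, ∑ j, θ j g = if lam g = 1 then ((Fintype.card F - 1 : ℕ) : ℂ) else 0 := by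
    intro g
    simp only [hθ]
    rw [AddChar.sum_mulShift _ hψ, ZMod.card]
    by_cases h : lam g = 1
    · rw [if_pos h, if_pos (by rw [h, map_one]; rfl)]
    · rw [if_neg h, if_neg fun h' => h (e.injective (by rw [map_one]; exact h'))]
      simp
  let a : ZMod (Fintype.card F - 1) → G → ℂ := fun j => indFun P (θ j : P → ℂ)
  have ha : ∀ j, IsCharacter G (a j) := fun j =>
    Char.IsCharacter.indFun P (isCharacter_of_hom (θ j))
  let perm : G → ℂ := fun g => (Nat.card (MulAction.fixedBy (Vec n F) g) : ℂ)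
  have hperm : ∑ j, a j = perm := by
    rw [← indFun_sum]
    funext g
    let K : Subgroup G := MulAction.stabilizer G e0
    have hK : ∀ g, g ∈ K ↔ g.1 *ᵥ e0.1 = e0.1 := fun g =>
      ⟨fun h => congrArg Subtype.val h, fun h => Subtype.ext h⟩
    have hext : ∀ y : G, extendByZero P (∑ j, (θ j : P → ℂ)) y =
        ((Fintype.card F - 1 : ℕ) : ℂ) * extendByZero K (1 : K → ℂ) y := by
      intro y
      rw [extendByZero_eq, extendByZero_eq]
      by_cases hy : y ∈ P
      · rw [dif_pos hy, Finset.sum_apply, hθsum]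
        by_cases hk : y ∈ K
        · rw [if_pos (show lam ⟨y, hy⟩ = 1 from
              huniq ⟨y, hy⟩ 1 (by rw [Units.val_one, one_smul]; exact (hK y).1 hk)),
            dif_pos hk, Pi.one_apply, mul_one]
        · rw [if_neg fun (h : lam ⟨y, hy⟩ = 1) => hk ((hK y).2 (by
            have h1 := hlf ⟨y, hy⟩
            rw [show lf ⟨y, hy⟩ = 1 from h, Units.val_one, one_smul] at h1; exact h1)),
            dif_neg hk, mul_zero]
      · rw [dif_neg hy, dif_neg fun hk => hy ⟨1, by rw [Units.val_one, one_smul]; exact (hK y).1 hk⟩,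
          mul_zero]
    have hPK : Nat.card P = (Fintype.card F - 1) * Nat.card K := by
      rw [← lam.ker.card_mul_index, Subgroup.index_ker, MonoidHom.range_eq_top.2 hlam,
        Subgroup.card_top, Nat.card_units, Nat.card_eq_fintype_card (α := F), mul_comm]
      congr 1
      refine Nat.card_congr
        { toFun := fun x => ⟨x.1.1, (hK _).2 (by
            have h1 := hlf x.1
            rw [show lf x.1 = 1 from x.2, Units.val_one, one_smul] at h1; exact h1)⟩
          invFun := fun k => ⟨⟨k.1, 1, ((hK k.1).1 k.2).trans (one_smul F e0.1).symm⟩,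
            huniq _ 1 (((hK k.1).1 k.2).trans (one_smul F e0.1).symm)⟩
          left_inv := fun x => rfl
          right_inv := fun k => rfl }
    have hind : indFun P (∑ j, (θ j : P → ℂ)) g = indFun K (1 : K → ℂ) g := by
      simp only [indFun, hext, ← Finset.mul_sum]
      rw [hPK, Nat.cast_mul]
      have h1 : ((Fintype.card F - 1 : ℕ) : ℂ) ≠ 0 := Nat.cast_ne_zero.2 (NeZero.ne _)
      field_simp
    rw [hind, indFun_one_eq_fixedPoints]
    congr 1
    let eq' : G ⧸ K ≃ Vec n F := Equiv.ofBijective (fun q => MulAction.ofQuotientStabilizer G e0 q)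
      ⟨MulAction.injective_ofQuotientStabilizer G e0, fun v => by
        obtain ⟨g, hg⟩ := Linear.exists_sl_smul_eq e0.2 v.2
        exact ⟨QuotientGroup.mk g, Subtype.ext hg⟩⟩
    refine Nat.card_congr (eq'.subtypeEquiv fun q => ?_)
    rw [MulAction.mem_fixedBy, MulAction.mem_fixedBy, ← eq'.injective.eq_iff]
    show MulAction.ofQuotientStabilizer G e0 _ = _ ↔ _
    rw [MulAction.ofQuotientStabilizer_smul]
    rfl
  have ha1 : classInner (a 0) 1 = 1 := by
    show classInner (indFun P (θ 0 : P → ℂ)) 1 = 1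
    rw [frobenius_reciprocity P (θ 0 : P → ℂ) (Char.IsCharacter.isClassFunction isCharacter_one)]
    have h1 : (θ 0 : P → ℂ) = 1 := funext fun g => by simp [hθ]
    rw [h1]
    exact classInner_irr_self isIrrCharacter_one
  have hpairs : classInner perm perm = (Fintype.card F : ℂ) := by
    have h := classInner_fixedPoints_one (G := G) (Vec n F × Vec n F)
    rw [card_pair_orbits hn] at h
    rw [← h]
    simp only [classInner]
    congr 1
    refine Finset.sum_congr rfl fun g _ => ?_
    simp only [perm, Pi.one_apply, map_one, mul_one, Complex.conj_natCast, ← Nat.cast_mul]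
    congr 1
    rw [← Nat.card_prod]
    exact Nat.card_congr
      { toFun := fun x => ⟨(x.1.1, x.2.1), Prod.ext x.1.2 x.2.2⟩
        invFun := fun y => (⟨y.1.1, congrArg Prod.fst y.2⟩, ⟨y.1.2, congrArg Prod.snd y.2⟩)
        left_inv := fun x => rfl
        right_inv := fun y => rfl }
  -- remove the trivial character
  let c : ZMod (Fintype.card F - 1) → G → ℂ := fun j => if j = 0 then a 0 - 1 else a j
  have hc : ∀ j, IsCharacter G (c j) := by
    intro j
    by_cases hj : j = 0
    · simp only [c, if_pos hj]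
      refine isCharacter_of_classFunction
        (isClassFunction_sub (Char.IsCharacter.isClassFunction (ha 0)) (Char.IsCharacter.isClassFunction isCharacter_one)) fun χ => ?_
      rw [classInner_sub_left]
      by_cases hχ : (χ : G → ℂ) = 1
      · exact ⟨0, by rw [hχ, ha1, classInner_irr_self isIrrCharacter_one]; simp⟩
      · obtain ⟨k, hk⟩ := IsCharacter.classInner_nat (ha 0) (IsIrrCharacter.isCharacter χ.2)
        exact ⟨k, by rw [hk, classInner_irr_of_ne isIrrCharacter_one χ.2 (Ne.symm hχ), sub_zero]⟩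
    · simp only [c, if_neg hj]; exact ha j
  have hdeg : ∀ j, a j 1 = (P.index : ℂ) := fun j => by
    show indFun P (θ j : P → ℂ) 1 = _
    rw [indFun_one_apply, map_one, mul_one]
  have hidx : P.index ≠ 1 := by
    rw [Ne, Subgroup.index_eq_one]
    intro htop
    obtain ⟨g, hg⟩ := Linear.exists_sl_smul_eq e0.2 (v := Pi.single i1 (1 : F)) (by simp)
    obtain ⟨b, hb⟩ : g ∈ P := by rw [htop]; trivial
    change g.1 *ᵥ e0.1 = _ at hg
    rw [hg] at hb
    have := congrFun hb i1
    simp [e0, h01.symm] at this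
  have hcsum : 1 + ∑ j, c j = perm := by
    rw [← hperm, ← Finset.add_sum_erase _ _ (Finset.mem_univ (0 : ZMod (Fintype.card F - 1))),
      ← Finset.add_sum_erase _ a (Finset.mem_univ (0 : ZMod (Fintype.card F - 1)))]
    simp only [c, if_pos rfl]
    rw [Finset.sum_congr rfl fun j hj => if_neg (Finset.ne_of_mem_erase hj)]
    abel
  have horbit : Nat.card (MulAction.orbitRel.Quotient G (Vec n F)) = 1 := by
    haveI : MulAction.IsPretransitive G (Vec n F) := ⟨fun x y => by
      obtain ⟨g, hg⟩ := Linear.exists_sl_smul_eq x.2 y.2; exact ⟨g, Subtype.ext hg⟩⟩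
    rw [Nat.card_eq_one_iff_unique]
    exact ⟨MulAction.pretransitive_iff_subsingleton_quotient G (Vec n F) |>.1 inferInstance,
      ⟨Quotient.mk'' e0⟩⟩
  have hc1 : ∀ j, classInner (c j) 1 = 0 := by
    have h0 : classInner (1 + ∑ j, c j) (1 : G → ℂ) = 1 := by
      rw [hcsum]
      have := classInner_fixedPoints_one (G := G) (Vec n F)
      rw [horbit, Nat.cast_one] at this
      exact this
    rw [classInner_add_left, classInner_irr_self isIrrCharacter_one, classInner_sum_left,
      add_eq_left] at h0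
    choose k hk using fun j => IsCharacter.classInner_nat (hc j) (isCharacter_one (G := G))
    intro j
    simp only [hk] at h0
    rw [← Nat.cast_sum, Nat.cast_eq_zero, Finset.sum_eq_zero_iff] at h0
    rw [hk, h0 j (Finset.mem_univ j), Nat.cast_zero]
  have hcne : ∀ j, c j ≠ 0 := by
    intro j hzero
    have h := congrFun hzero 1
    by_cases hj : j = 0
    · simp only [c, if_pos hj, Pi.sub_apply, Pi.one_apply, hdeg, Pi.zero_apply, sub_eq_zero] at h
      exact hidx (by exact_mod_cast h)
    · simp only [c, if_neg hj, hdeg, Pi.zero_apply, Nat.cast_eq_zero] at h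
      exact Subgroup.index_ne_zero_of_finite h
  let eF : Fin (Fintype.card F - 1) ≃ ZMod (Fintype.card F - 1) := (ZMod.finEquiv _).toEquiv
  have hsumF : ∑ i, c (eF i) = ∑ j, c j := eF.sum_comp c
  obtain ⟨hirr, hinj⟩ := irr_of_norm (fun i => c (eF i)) (fun i => hc _) (fun i => hcne _)
    (fun i => hc1 _) (by
      rw [hsumF, hcsum, hpairs, Nat.sub_add_cancel Fintype.card_pos])
  refine ⟨fun i => c (eF i), hirr, hinj, fun g => ?_⟩
  have h := congrFun (show 1 + ∑ i, c (eF i) = perm by rw [hsumF, hcsum]) g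
  simp only [Pi.add_apply, Pi.one_apply, Finset.sum_apply] at h
  rw [h]
  show _ = (Nat.card (MulAction.fixedBy (Vec n F) g) : ℂ)
  congr 1
  exact Nat.card_congr
    { toFun := fun v => ⟨⟨v.1, v.2.1⟩, Subtype.ext v.2.2⟩
      invFun := fun v => ⟨v.1.1, v.1.2, congrArg Subtype.val v.2⟩
      left_inv := fun v => rfl
      right_inv := fun v => rfl }

end Cfsg.Agent.S2336
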