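import Cfsg.Statements.S2337
import Cfsg.Agent.Lib.Suzuki.MinDegree

set_option autoImplicit false
open Cfsg

namespace Cfsg.Agent.S2337

/-- For the Suzuki group Sz(q), q = 2^(2m+1) with m ≥ 1 (realised inside Sp₄ over the field with q elements), every irreducible complex representation of degree at least 2 has degree at least 2^m·(q − 1). -/
theorem result {F : Type*} [Field F] [Fintype F] (m : ℕ) (hm : 1 ≤ m) (hF : Fintype.card F = 2 ^ (2 * m + 1)) :
    (∀ (k : ℕ) (ρ : Representation ℂ (Cfsg.Lie.Sz F (2 ^ (m + 1))) (Fin k → ℂ)), ρ.IsIrreducible → 2 ≤ k → 2 ^ m * (2 ^ (2 * m + 1) - 1) ≤ k) := by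
  intro k ρ hρ hk
  let σ : Representation ℂ ↥(Cfsg.Sz F m) (Fin k → ℂ) :=
    ρ.comp (Cfsg.Agent.Suzuki.lieEquiv hm hF).toMonoidHom
  have h := Cfsg.Agent.Suzuki.degree_ge hm hF σ (by
    by_contra htriv
    push Not at htriv
    have hall : ∀ g, ρ g = 1 := fun g => by
      have := htriv ((Cfsg.Agent.Suzuki.lieEquiv hm hF).symm g)
      simpa [σ] using this
    let i : Fin k := ⟨0, by omega⟩
    let L : Subrepresentation ρ :=
      { toSubmodule := Submodule.span ℂ {Pi.single i (1 : ℂ)}
        apply_mem_toSubmodule := fun g v hv => by rw [hall g]; exact hv }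
    rcases hρ.eq_bot_or_eq_top L with hL | hL
    · have h1 : Pi.single i (1 : ℂ) ∈ L.toSubmodule := Submodule.mem_span_singleton_self _
      rw [hL] at h1
      have h2 : Pi.single i (1 : ℂ) = (0 : Fin k → ℂ) := (Submodule.mem_bot ℂ).mp h1
      simpa using congrFun h2 i
    · have h1 : Pi.single (⟨1, by omega⟩ : Fin k) (1 : ℂ) ∈ L.toSubmodule := by
        rw [hL]; exact Submodule.mem_top
      obtain ⟨a, ha⟩ := Submodule.mem_span_singleton.mp h1
      have := congrFun ha (⟨1, by omega⟩ : Fin k)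
      simp [i, Pi.single_apply] at this)
  simpa using h

end Cfsg.Agent.S2337
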