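import Cfsg.Statements.S2338
import Cfsg.Agent.Lib.G2MinDeg.One
import Cfsg.Agent.Lib.G2MinDeg.ThreeClass

set_option autoImplicit false
open Cfsg

namespace Cfsg.Agent.S2338

/-- Lower bounds for the degrees of non-linear irreducible complex representations of the Chevalley group of type G₂ over a finite field with q elements: the degree is at least q³ + 1 when q ≡ 1 (mod 3) and q > 4, at least q³ − 1 when q ≡ 2 (mod 3) and q > 2, and at least q⁴ + q² + 1 when q ≡ 0 (mod 3) and q > 3. -/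
theorem result {F : Type*} [Field F] [Fintype F] (k : ℕ) (ρ : Representation ℂ (Cfsg.Lie.chevG2.group F) (Fin k → ℂ)) (hρ : ρ.IsIrreducible) (hk : 2 ≤ k) :
    (Fintype.card F % 3 = 1 → 4 < Fintype.card F → Fintype.card F ^ 3 + 1 ≤ k) ∧
    (Fintype.card F % 3 = 2 → 2 < Fintype.card F → Fintype.card F ^ 3 - 1 ≤ k) ∧
    (Fintype.card F % 3 = 0 → 3 < Fintype.card F → Fintype.card F ^ 4 + Fintype.card F ^ 2 + 1 ≤ k) := by
  obtain ⟨n, hp, hpow⟩ := FiniteField.card F (ringChar F)
  have hF : ∃ a : F, a ≠ 0 ∧ a ≠ 1 ∨ Fintype.card F ≤ 2 := by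
    rcases Nat.lt_or_ge 2 (Fintype.card F) with h | h
    · obtain ⟨a, ha, ha'⟩ := G2MinDeg.exists_pow_ne (F := F) (n := 1) (by norm_num) (by omega)
      exact ⟨a, Or.inl ⟨ha, by rwa [pow_one] at ha'⟩⟩
    · exact ⟨0, Or.inr h⟩
  have h3 : (3 : F) = 0 ↔ Fintype.card F % 3 = 0 := by
    constructor
    · intro h
      have hd : ringChar F ∣ 3 := (ringChar.spec F 3).1 (by exact_mod_cast h)
      rw [(Nat.prime_dvd_prime_iff_eq hp Nat.prime_three).1 hd] at hpow
      rw [hpow]
      exact Nat.mod_eq_zero_of_dvd (dvd_pow_self 3 n.ne_zero)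
    · intro h
      have hd : 3 ∣ ringChar F ^ (n : ℕ) := by rw [← hpow]; omega
      have h3 : ringChar F = 3 :=
        ((Nat.prime_dvd_prime_iff_eq Nat.prime_three hp).1 (Nat.prime_three.dvd_of_dvd_pow hd)).symm
      exact_mod_cast (ringChar.spec F 3).2 (dvd_of_eq h3)
  have hdim : Module.finrank ℂ (Fin k → ℂ) = k := Module.finrank_fin_fun ℂ
  have hnice : 2 < Fintype.card F → G2MinDeg.Nice ρ := fun h => by
    obtain ⟨a, ha | ha⟩ := hF
    · exact G2MinDeg.nice_of_irreducible ρ hρ hk ⟨a, ha⟩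
    · omega
  refine ⟨fun hm hq => ?_, fun hm hq => ?_, fun hm hq => ?_⟩
  · have := G2MinDeg.bound_succ (hnice (by omega)) (fun h => by have := h3.1 h; omega) hm (by omega)
    rwa [hdim] at this
  · have := G2MinDeg.bound_pred (hnice (by omega)) (fun h => by have := h3.1 h; omega) (by omega)
    rwa [hdim] at this
  · have h9 : 9 ≤ Fintype.card F := by
      have hd : 3 ∣ ringChar F ^ (n : ℕ) := by rw [← hpow]; omega
      have h3' : ringChar F = 3 :=
        ((Nat.prime_dvd_prime_iff_eq Nat.prime_three hp).1 (Nat.prime_three.dvd_of_dvd_pow hd)).symm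
      rw [hpow, h3'] at hq ⊢
      have hn : 2 ≤ (n : ℕ) := by
        by_contra hn
        rw [show (n : ℕ) = 1 by have := n.pos; omega] at hq
        norm_num at hq
      exact le_trans (by norm_num) (Nat.pow_le_pow_right (by norm_num : 1 ≤ 3) hn)
    have := G2MinDeg.bound_three (hnice (by omega)) hρ (h3.2 hm) h9
    rwa [hdim] at this

end Cfsg.Agent.S2338
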