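import Cfsg.Statements.S2342
import Cfsg.Agent.Lib.TwistE6D4.D4MinDegree
import Cfsg.Agent.Lib.Chev.DataD4
import Cfsg.Agent.Lib.TwistE6D4.Orders
import Cfsg.Agent.EqLemmas

set_option autoImplicit false
open Cfsg

namespace Cfsg.Agent.S2342

open Module Cfsg.Agent.TwistE6D4

theorem aux {K : Type*} [Field K] [Fintype K] (hD : Chev.Good Lie.chevD4) {φ : K →+* K} {q : ℕ}
    (h : Hyp (ctxD4 hD φ) q 3) {G : Subgroup (GL Lie.chevD4.Idx K)} (e : G = (ctxD4 hD φ).G0)
    (hsimp : IsSimpleGroup ↥G)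
    (hcard : Nat.card ↥G = q ^ 12 * (q ^ 2 - 1) * (q ^ 6 - 1) * (q ^ 8 + q ^ 4 + 1))
    {k : ℕ} (ρ : Representation ℂ ↥G (Fin k → ℂ)) (hρ : ρ.IsIrreducible) (hk : 2 ≤ k) :
    q * (q ^ 4 - q ^ 2 + 1) ≤ k := by
  subst e
  obtain ⟨g, hg⟩ : ∃ g, ρ g ≠ 1 := by
    by_contra hc
    push Not at hc
    let i : Fin k := ⟨0, by omega⟩
    let W : Subrepresentation ρ :=
      ⟨ℂ ∙ (Pi.single i 1 : Fin k → ℂ), fun g v hv => by rw [hc g]; exact hv⟩
    have h1 : finrank ℂ W.toSubmodule = 1 :=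
      finrank_span_singleton (by simp [i] : (Pi.single i 1 : Fin k → ℂ) ≠ 0)
    rcases IsSimpleOrder.eq_bot_or_eq_top W with h | h
    · rw [h] at h1
      have h2 : finrank ℂ ((⊥ : Subrepresentation ρ).toSubmodule) = 0 := finrank_bot ℂ _
      omega
    · rw [h] at h1
      have h2 : finrank ℂ ((⊤ : Subrepresentation ρ).toSubmodule) = k :=
        (finrank_top ℂ (Fin k → ℂ)).trans (Module.finrank_fin_fun ℂ)
      omega
  have := hρ
  have h' := D4Heis.degree_bound hD ρ h.pow h.card h.one_lt hsimp hcard ⟨g, hg⟩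
  rwa [Module.finrank_fin_fun] at h'

/-- For the twisted group ³D₄(q), realised over the field with q³ elements (q a prime power), every irreducible complex representation of degree at least 2 has degree at least q(q⁴ − q² + 1). -/
theorem result {K : Type*} [Field K] [Fintype K] (q : ℕ) (hq : IsPrimePow q) (hK : Fintype.card K = q ^ 3) :
    (∀ (k : ℕ) (ρ : Representation ℂ (Cfsg.Lie.twistedD4 K q) (Fin k → ℂ)), ρ.IsIrreducible → 2 ≤ k → q * (q ^ 4 - q ^ 2 + 1) ≤ k) := by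
  intro k ρ hρ hk
  obtain ⟨φ, e, h⟩ := exists_ctxD4 Chev.DataD4.good hq hK
  exact aux Chev.DataD4.good h e (simple_twistedD4 Chev.DataD4.good hq hK).1
    (card_twistedD4 Chev.DataD4.good hq hK) ρ hρ hk

end Cfsg.Agent.S2342
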