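import Cfsg.Statements.S2344
import Cfsg.Agent.EqLemmas
import Cfsg.Agent.Lib.OrthMinDegree.Final
import Cfsg.Agent.Lib.Orth.Models
-- import your own Cfsg.Agent.* helpers here

set_option autoImplicit false
open Cfsg

namespace Cfsg.Agent.S2344

open Cfsg.Agent.Orth Cfsg.Agent.OrthMinDegree
open QuadraticMap (polar)

section
variable {F : Type*} [Field F] [Fintype F]

/-- The standard frame of `x₀² + Σ x_i y_i`. -/
noncomputable def oddFrame (n : ℕ) (hn : 3 ≤ n) (h2 : (2 : F) ≠ 0) : Frame (quadOdd n F) n where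
  e i := if h : i < n then Pi.single (.inr (.inl ⟨i, h⟩)) 1 else 0
  f i := if h : i < n then Pi.single (.inr (.inr ⟨i, h⟩)) 1 else 0
  qe i hi := by simp [coe_quadOdd, quadFormOdd, hi, Pi.single_apply]
  qf i hi := by simp [coe_quadOdd, quadFormOdd, hi, Pi.single_apply]
  pef i hi := by simp [coe_quadOdd, polar_quadOdd, hi, Pi.single_apply]
  pne i j hi hj h := by simp [coe_quadOdd, polar_quadOdd, hi, hj, Pi.single_apply]
  pnf i j hi hj h := by simp [coe_quadOdd, polar_quadOdd, hi, hj, Pi.single_apply]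
  pnef i j hi hj h := by
    simp only [coe_quadOdd, polar_quadOdd, dif_pos hi, dif_pos hj]
    simp [Pi.single_apply, Fin.ext_iff]
    exact Finset.sum_eq_zero fun x _ => by split_ifs <;> first | omega | rfl
  nd := quadOdd_nondeg n h2
  hn := by simp; omega
  n_pos := by omega
  h2 := h2
  z := Pi.single (.inl ()) 1
  qz := by simp [coe_quadOdd, quadFormOdd, Pi.single_apply]
  pez i hi := by simp [coe_quadOdd, polar_quadOdd, hi, Pi.single_apply]
  pfz i hi := by simp [coe_quadOdd, polar_quadOdd, hi, Pi.single_apply]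
  hcore x hx := ⟨x (.inl ()), by
    funext j
    rcases j with u | j | j
    · simp [Pi.single_apply]
    · simpa [coe_quadOdd, polar_quadOdd, j.2, Pi.single_apply] using (hx j j.2).2
    · simpa [coe_quadOdd, polar_quadOdd, j.2, Pi.single_apply] using (hx j j.2).1⟩

end

/-- For a finite field F of odd order q > 3 and n ≥ 3, every irreducible complex representation of degree at least 2 of Ω_{2n+1}(F) (the commutator subgroup of the isometry group of the quadratic form x₀² + x₁y₁ + ⋯ + x_ny_n) has degree at least (q^{2n} − 1)/(q² − 1). -/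
theorem result {F : Type*} [Field F] [Fintype F] (n : ℕ) (hn : 3 ≤ n) (hodd : Odd (Fintype.card F)) (h3 : 3 < Fintype.card F) :
    (∀ (k : ℕ) (ρ : Representation ℂ (Cfsg.Omega F (Cfsg.quadFormOdd n F)) (Fin k → ℂ)), ρ.IsIrreducible → 2 ≤ k → (Fintype.card F ^ (2 * n) - 1) / (Fintype.card F ^ 2 - 1) ≤ k) := by
  intro k ρ hρ hk
  have h2 : (2 : F) ≠ 0 := by
    refine fun h => ?_
    have h4 := FiniteField.even_card_iff_char_two.1
      (CharP.ringChar_of_prime_eq_zero Nat.prime_two (by exact_mod_cast h))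
    obtain ⟨m, hm⟩ := hodd
    omega
  have : Nonempty (Fin k) := ⟨⟨0, by omega⟩⟩
  let ρ' : Representation ℂ (OG (quadOdd n F)) (Fin k → ℂ) := ρ
  have hb := degree_bound (ρ := ρ') (oddFrame n hn h2) hn h3 fun v hv => by
    by_contra hv0
    let W : Subrepresentation ρ := ⟨ℂ ∙ v, fun g w hw => by
      obtain ⟨c, rfl⟩ := Submodule.mem_span_singleton.1 hw
      rw [map_smul, show ρ g v = v from hv g]
      exact Submodule.smul_mem _ _ (Submodule.mem_span_singleton_self v)⟩
    have h1 : Module.finrank ℂ W.toSubmodule = 1 := finrank_span_singleton hv0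
    rcases IsSimpleOrder.eq_bot_or_eq_top W with h | h
    · rw [h] at h1
      have h5 : Module.finrank ℂ ((⊥ : Subrepresentation ρ).toSubmodule) = 0 := finrank_bot ℂ _
      omega
    · rw [h] at h1
      have h5 : Module.finrank ℂ ((⊤ : Subrepresentation ρ).toSubmodule) = k :=
        (finrank_top ℂ (Fin k → ℂ)).trans (Module.finrank_fin_fun ℂ)
      omega
  rw [Module.finrank_fin_fun] at hb
  exact Nat.div_le_of_le_mul (by omega)

end Cfsg.Agent.S2344
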