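import Cfsg.Statements.S2345
import Cfsg.Agent.EqLemmas
import Cfsg.Agent.Lib.OrthPlusMinDegree.Gram
import Cfsg.Agent.Lib.Orth.Models
-- import your own Cfsg.Agent.* helpers here

set_option autoImplicit false
open Cfsg

namespace Cfsg.Agent.S2345

open Cfsg.Agent.Orth Cfsg.Agent.OrthPlusMinDegree
open QuadraticMap (polar)

section
variable {F : Type*} [Field F] [Fintype F]

/-- The standard frame of `Σ x_i y_i`. -/
noncomputable def plusFrame (n : ℕ) (hn : 4 ≤ n) : Frame (quadPlus n F) n where
  e i := if h : i < n then Pi.single (.inl ⟨i, h⟩) 1 else 0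
  f i := if h : i < n then Pi.single (.inr ⟨i, h⟩) 1 else 0
  qe i hi := by simp [coe_quadPlus, quadFormPlus, hi, Pi.single_apply]
  qf i hi := by simp [coe_quadPlus, quadFormPlus, hi, Pi.single_apply]
  pef i hi := by simp [coe_quadPlus, polar_quadPlus, hi, Pi.single_apply]
  pne i j hi hj h := by simp [coe_quadPlus, polar_quadPlus, hi, hj, Pi.single_apply]
  pnf i j hi hj h := by simp [coe_quadPlus, polar_quadPlus, hi, hj, Pi.single_apply]
  pnef i j hi hj h := by
    simp only [coe_quadPlus, polar_quadPlus, dif_pos hi, dif_pos hj]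
    simp [Pi.single_apply, Fin.ext_iff]
    exact Finset.sum_eq_zero fun x _ => by split_ifs <;> first | omega | rfl
  nd := quadPlus_nondeg n
  hn := by simp; omega
  n_pos := by omega
  hcore x hx := by
    funext j
    rcases j with j | j
    · simpa [coe_quadPlus, polar_quadPlus, j.2, Pi.single_apply] using (hx j j.2).2
    · simpa [coe_quadPlus, polar_quadPlus, j.2, Pi.single_apply] using (hx j j.2).1

end

/-- For a finite field F with q > 3 elements and n ≥ 4, every irreducible complex representation of degree at least 2 of Ω⁺_{2n}(F) (the commutator subgroup of the isometry group of the hyperbolic quadratic form x₁y₁ + ⋯ + x_ny_n) has degree at least (q^n − 1)(q^{n−1} + q)/(q² − 1). -/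
theorem result {F : Type*} [Field F] [Fintype F] (n : ℕ) (hn : 4 ≤ n) (h3 : 3 < Fintype.card F) :
    (∀ (k : ℕ) (ρ : Representation ℂ (Cfsg.Omega F (Cfsg.quadFormPlus n F)) (Fin k → ℂ)), ρ.IsIrreducible → 2 ≤ k → (Fintype.card F ^ n - 1) * (Fintype.card F ^ (n - 1) + Fintype.card F) / (Fintype.card F ^ 2 - 1) ≤ k) := by
  intro k ρ hρ hk
  have : Nonempty (Fin k) := ⟨⟨0, by omega⟩⟩
  let ρ' : Representation ℂ (OG (quadPlus n F)) (Fin k → ℂ) := ρ
  have hb := degree_bound (ρ := ρ') (plusFrame n hn) hn h3 fun v hv => by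
    by_contra hv0
    let W : Subrepresentation ρ := ⟨ℂ ∙ v, fun g w hw => by
      obtain ⟨c, rfl⟩ := Submodule.mem_span_singleton.1 hw
      rw [map_smul, show ρ g v = v from hv g]
      exact Submodule.smul_mem _ _ (Submodule.mem_span_singleton_self v)⟩
    have h1 : Module.finrank ℂ W.toSubmodule = 1 := finrank_span_singleton hv0
    rcases IsSimpleOrder.eq_bot_or_eq_top W with h | h
    · rw [h] at h1
      have h5 : Module.finrank ℂ ((⊥ : Subrepresentation ρ).toSubmodule) = 0 := finrank_bot ℂ _
      omega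
    · rw [h] at h1
      have h5 : Module.finrank ℂ ((⊤ : Subrepresentation ρ).toSubmodule) = k :=
        (finrank_top ℂ (Fin k → ℂ)).trans (Module.finrank_fin_fun ℂ)
      omega
  rw [Module.finrank_fin_fun] at hb
  exact Nat.div_le_of_le_mul hb

end Cfsg.Agent.S2345
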