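import Cfsg.Statements.S2346
import Cfsg.Agent.EqLemmas
import Cfsg.Agent.Lib.OrthMinusMinDegree.Gram
import Cfsg.Agent.Lib.Orth.Models
-- import your own Cfsg.Agent.* helpers here

set_option autoImplicit false
open Cfsg

namespace Cfsg.Agent.S2346

open Cfsg.Agent.Orth Cfsg.Agent.OrthMinusMinDegree
open QuadraticMap (polar)

section
variable {F : Type*} [Field F] [Fintype F]

/-- The standard frame of `Σ x_i y_i + z₁² + a z₁ z₂ + b z₂²`. -/
noncomputable def minusFrame (m : ℕ) (hm : 3 ≤ m) {a b : F} (hab : Aniso a b) : Frame (quadMinus m F a b) m where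
  e i := if h : i < m then Pi.single (.inl (.inl ⟨i, h⟩)) 1 else 0
  f i := if h : i < m then Pi.single (.inl (.inr ⟨i, h⟩)) 1 else 0
  qe i hi := by simp [coe_quadMinus, quadFormMinus, hi, Pi.single_apply]
  qf i hi := by simp [coe_quadMinus, quadFormMinus, hi, Pi.single_apply]
  pef i hi := by simp [coe_quadMinus, polar_quadMinus, hi, Pi.single_apply]
  pne i j hi hj h := by simp [coe_quadMinus, polar_quadMinus, hi, hj, Pi.single_apply]
  pnf i j hi hj h := by simp [coe_quadMinus, polar_quadMinus, hi, hj, Pi.single_apply]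
  pnef i j hi hj h := by
    simp only [coe_quadMinus, polar_quadMinus, dif_pos hi, dif_pos hj]
    simp [Pi.single_apply, Fin.ext_iff]
    exact Finset.sum_eq_zero fun x _ => by split_ifs <;> first | omega | rfl
  nd := quadMinus_nondeg m hab
  hn := by simp; omega
  n_pos := by omega
  u1 := Pi.single (.inr 0) 1
  u2 := Pi.single (.inr 1) 1
  peu i hi := by simp [coe_quadMinus, polar_quadMinus, hi, Pi.single_apply]
  aniso x y h := by
    refine hab x y ?_
    simpa [coe_quadMinus, quadFormMinus, Pi.single_apply] using h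
  hcore x hx := by
    refine ⟨x (.inr 0), x (.inr 1), funext fun j => ?_⟩
    rcases j with (j | j) | j
    · have h := (hx j j.2).2
      simp [coe_quadMinus, polar_quadMinus, j.2, Pi.single_apply] at h
      simp [Pi.single_apply, h]
    · have h := (hx j j.2).1
      simp [coe_quadMinus, polar_quadMinus, j.2, Pi.single_apply] at h
      simp [Pi.single_apply, h]
    · fin_cases j <;> simp [Pi.single_apply]

end

/-- For a finite field F with q elements, n ≥ 4, and a, b ∈ F with z₁² + a z₁z₂ + b z₂² anisotropic, every irreducible complex representation of degree at least 2 of Ω⁻_{2n}(F) (the commutator subgroup of the isometry group of x₁y₁ + ⋯ + x_{n−1}y_{n−1} + z₁² + a z₁z₂ + b z₂²) has degree at least (q^n + 1)(q^{n−1} − q)/(q² − 1). -/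
theorem result {F : Type*} [Field F] [Fintype F] (n : ℕ) (hn : 4 ≤ n) (a b : F) (hab : ∀ z₁ z₂ : F, z₁ ^ 2 + a * z₁ * z₂ + b * z₂ ^ 2 = 0 → z₁ = 0 ∧ z₂ = 0) :
    (∀ (k : ℕ) (ρ : Representation ℂ (Cfsg.Omega F (Cfsg.quadFormMinus (n - 1) F a b)) (Fin k → ℂ)), ρ.IsIrreducible → 2 ≤ k → (Fintype.card F ^ n + 1) * (Fintype.card F ^ (n - 1) - Fintype.card F) / (Fintype.card F ^ 2 - 1) ≤ k) := by
  intro k ρ hρ hk
  obtain ⟨m, rfl⟩ : ∃ m, n = m + 1 := ⟨n - 1, by omega⟩
  have : Nonempty (Fin k) := ⟨⟨0, by omega⟩⟩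
  let ρ' : Representation ℂ (OG (quadMinus m F a b)) (Fin k → ℂ) := ρ
  have hb := degree_bound (ρ := ρ') (minusFrame m (by omega) hab) (by omega) fun v hv => by
    by_contra hv0
    let W : Subrepresentation ρ := ⟨ℂ ∙ v, fun g w hw => by
      obtain ⟨c, rfl⟩ := Submodule.mem_span_singleton.1 hw
      rw [map_smul, show ρ g v = v from hv g]
      exact Submodule.smul_mem _ _ (Submodule.mem_span_singleton_self v)⟩
    have h1 : Module.finrank ℂ W.toSubmodule = 1 := finrank_span_singleton hv0
    rcases IsSimpleOrder.eq_bot_or_eq_top W with h | h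
    · rw [h] at h1
      have h5 : Module.finrank ℂ ((⊥ : Subrepresentation ρ).toSubmodule) = 0 := finrank_bot ℂ _
      omega
    · rw [h] at h1
      have h5 : Module.finrank ℂ ((⊤ : Subrepresentation ρ).toSubmodule) = k :=
        (finrank_top ℂ (Fin k → ℂ)).trans (Module.finrank_fin_fun ℂ)
      omega
  rw [Module.finrank_fin_fun] at hb
  exact Nat.div_le_of_le_mul hb

end Cfsg.Agent.S2346
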