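import Cfsg.Statements.S2347
import Cfsg.Agent.EqLemmas
import Cfsg.Agent.Lib.SpWeil.Weil
import Cfsg.Agent.Lib.Char.Basic
import Cfsg.Agent.Lib.CharApp.Schur

set_option autoImplicit false
open Cfsg

namespace Cfsg.Agent.S2347

/-- Smallest degree of a non-linear irreducible complex representation of the symplectic group Sp_{2n} over a finite field of odd order q, n ≥ 2: every irreducible complex representation of degree at least 2 has degree at least (q^n − 1)/2, and there is an irreducible complex representation of exactly that degree (a Weil representation). -/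
theorem result {F : Type*} [Field F] [Fintype F] [DecidableEq F] (n : ℕ) (hn : 2 ≤ n) (hodd : Odd (Fintype.card F)) :
    (∀ (k : ℕ) (ρ : Representation ℂ (Matrix.symplecticGroup (Fin n) F) (Fin k → ℂ)), ρ.IsIrreducible → 2 ≤ k → (Fintype.card F ^ n - 1) / 2 ≤ k) ∧
    (∃ ρ : Representation ℂ (Matrix.symplecticGroup (Fin n) F) (Fin ((Fintype.card F ^ n - 1) / 2) → ℂ), ρ.IsIrreducible) := by
  classical
  have h2 : (2 : F) ≠ 0 := fun h => by
    have : ringChar F = 2 := CharP.ringChar_of_prime_eq_zero Nat.prime_two (by simpa using h)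
    have h3 := FiniteField.even_card_of_char_two this
    exact Nat.not_even_iff_odd.2 hodd (Nat.even_iff.2 h3)
  let e := Cfsg.Agent.Linear.spEquiv n F
  refine ⟨fun k ρ hρ hk => ?_, ?_⟩
  · by_cases htriv : ∀ g, ρ g = 1
    · exfalso
      haveI := hρ
      let i₀ : Fin k := ⟨0, by omega⟩
      let W : Submodule ℂ (Fin k → ℂ) := Submodule.span ℂ {Pi.single i₀ (1 : ℂ)}
      rcases CharApp.eq_bot_or_top_of_invariant ρ W (fun g v hv => by simpa [htriv g] using hv) with h | h
      · simp [W] at h
      · have hd : Module.finrank ℂ W = k := by rw [h, finrank_top, Module.finrank_fin_fun]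
        rw [finrank_span_singleton (by simp)] at hd
        omega
    · push Not at htriv
      obtain ⟨g, hg⟩ := htriv
      have := SpWeil.finrank_ge_of_ne_one h2 (ρ.comp e.symm.toMonoidHom)
        ⟨e g, by simpa using hg⟩
      simpa using this
  · obtain ⟨ψ, hψ⟩ := AddChar.exists_apply_ne_zero.2 (one_ne_zero : (1 : F) ≠ 0)
    have hψ : ψ ≠ 1 := fun h => hψ (by rw [h]; rfl)
    let σ : Representation ℂ (Matrix.symplecticGroup (Fin n) F) (SpWeil.part n F (-1)) :=
      (SpWeil.weilPart h2 hψ (-1)).comp e.toMonoidHom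
    have hσ : σ.IsIrreducible := by
      haveI := SpWeil.weilOdd_isIrreducible h2 hψ hn
      haveI := Char.nontrivial_of_isIrreducible (SpWeil.weilPart (n := n) h2 hψ (-1))
      refine CharApp.isIrreducible_of_forall_invariant σ fun W hW => ?_
      exact CharApp.eq_bot_or_top_of_invariant (SpWeil.weilPart (n := n) h2 hψ (-1)) W
        fun g v hv => by simpa [σ] using hW (e.symm g) v hv
    let b : SpWeil.part n F (-1) ≃ₗ[ℂ] (Fin ((Fintype.card F ^ n - 1) / 2) → ℂ) :=
      (Module.finBasisOfFinrankEq ℂ _ (SpWeil.finrank_part_neg_one h2)).equivFun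
    exact ⟨Char.transport σ b, Char.isIrreducible_congr (Char.transportEquiv σ b) hσ⟩

end Cfsg.Agent.S2347
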