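import Cfsg.Statements.S2355
import Cfsg.Agent.EqLemmas
import Cfsg.Agent.Lib.Law.Classical

set_option autoImplicit false
open Cfsg

namespace Cfsg.Agent.S2355

open Matrix

theorem card_matrix_le {H ι F : Type} [Group H] [Fintype ι] [Fintype F] (g : H → Matrix ι ι F)
    (hg : Function.Injective g) : Nat.card H ≤ Fintype.card F ^ (Fintype.card ι * Fintype.card ι) := by
  classical
  refine (Nat.card_le_card_of_injective g hg).trans (le_of_eq ?_)
  rw [Nat.card_eq_fintype_card]
  rw [show Fintype.card (Matrix ι ι F) = Fintype.card (ι → ι → F) from rfl,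
    Fintype.card_fun, Fintype.card_fun, ← pow_mul]

theorem le_bound {c d B D : ℕ} (hB : 1 ≤ B) (hc : c ≤ B) (hd : d ≤ D) :
    c ^ (d * d) ≤ B ^ (D * D) :=
  (Nat.pow_le_pow_left hc _).trans (Nat.pow_le_pow_right hB (Nat.mul_le_mul hd hd))


/-- A non-trivial law is satisfied by only finitely many finite simple groups that are alternating or classical, up to isomorphism: for every non-trivial element w of the free group on countably many generators there is a bound N such that every alternating group of degree ≥ 5 and every simple classical group (linear, symplectic, unitary or orthogonal, in this problem's sense) in which w is a law has order at most N. -/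
theorem result (w : FreeGroup ℕ) (hw : w ≠ 1) :
    ∃ N : ℕ, ∀ (G : Type*) [Group G] [Finite G],
      (Cfsg.IsAlternating G ∨ Cfsg.IsPSL G ∨ Cfsg.IsPSp G ∨ Cfsg.IsPSU G ∨ Cfsg.IsPOmegaOdd G ∨
          Cfsg.IsPOmegaPlus G ∨ Cfsg.IsPOmegaMinus G) →
      (∀ f : ℕ → G, FreeGroup.lift f w = 1) → Nat.card G ≤ N := by
  obtain ⟨M, hM5, hA, hS⟩ := Law.exists_threshold.{0} w hw
  refine ⟨M.factorial + ((M + 1) ^ 2) ^ ((2 * M + 3) * (2 * M + 3)), fun G _ _ hG hlaw => ?_⟩
  have hS' : ∀ (F : Type) [Field F] [Fintype F], M ≤ Fintype.card F →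
      Law.NC w (Matrix.SpecialLinearGroup (Fin 2) F) := fun F _ _ h => hS F (by omega)
  have law : ∀ {H : Type} [Group H], (G ≃* H ⧸ Subgroup.center H) → ¬ Law.NC w H := by
    intro H _ e h
    obtain ⟨f, hf⟩ := h.quotient
    have h1 := hlaw fun i => e.symm.toMonoidHom (f i)
    rw [Law.lift_comp] at h1
    exact hf (e.symm.injective (h1.trans (map_one _).symm))
  have bound : ∀ {H : Type} [Group H] [Finite H], (G ≃* H ⧸ Subgroup.center H) →
      ∀ {c d : ℕ}, c ≤ (M + 1) ^ 2 → d ≤ 2 * M + 3 → Nat.card H ≤ c ^ (d * d) →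
      Nat.card G ≤ M.factorial + ((M + 1) ^ 2) ^ ((2 * M + 3) * (2 * M + 3)) := by
    intro H _ _ e c d hc hd hH
    rw [Nat.card_congr e.toEquiv]
    have h2 := le_bound (Nat.one_le_pow _ _ (by omega)) hc hd
    have h3 : Nat.card (H ⧸ Subgroup.center H) ≤ Nat.card H :=
      Nat.card_le_card_of_surjective _ Quotient.mk_surjective
    omega
  have hsq : ∀ {q : ℕ}, q < M → q ≤ (M + 1) ^ 2 := fun h =>
    (show _ ≤ M + 1 by omega).trans (Nat.le_self_pow (by norm_num) _)
  rcases hG with ⟨n, hn, ⟨e⟩⟩ | ⟨F, _, _, n, hn, -, ⟨e⟩⟩ | ⟨F, _, _, m, hm, -, ⟨e⟩⟩ |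
    ⟨F, _, _, n, q, hF, hn, -, ⟨e⟩⟩ | ⟨F, _, _, m, hm, -, ⟨e⟩⟩ | ⟨F, _, _, m, hm, ⟨e⟩⟩ |
    ⟨F, _, _, m, a, b, hm, -, ⟨e⟩⟩
  · -- alternating groups
    have hnM : n < M := by
      by_contra hc
      obtain ⟨f, g, hfg⟩ := hA n (by omega)
      apply hfg
      have h1 := hlaw fun i => e.symm.toMonoidHom (f i)
      rw [Law.lift_comp] at h1
      rw [e.symm.injective (h1.trans (map_one _).symm)]
      exact Commute.one_left g
    rw [Nat.card_congr e.toEquiv]
    refine le_trans ?_ (Nat.le_add_right _ _)
    refine (Nat.card_le_card_of_injective Subtype.val Subtype.val_injective).trans ?_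
    rw [Nat.card_perm, Nat.card_fin]
    exact Nat.factorial_le hnM.le
  · classical
    obtain ⟨hn', hq⟩ : n < M ∧ Fintype.card F < M := by
      constructor <;> by_contra hc
      · exact law e (Law.nc_sl hA (hS' F) hn (Or.inl (by omega)))
      · exact law e (Law.nc_sl hA (hS' F) hn (Or.inr (by omega)))
    exact bound e (hsq hq) (show Fintype.card (Fin n) ≤ _ by simp; omega)
      (card_matrix_le (fun A : Matrix.SpecialLinearGroup (Fin n) F => A.1) Subtype.val_injective)
  · classical
    obtain ⟨hm', hq⟩ : m < M ∧ Fintype.card F < M := by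
      constructor <;> by_contra hc
      · exact law e (Law.nc_sp hA (hS' F) hm (Or.inl (by omega)))
      · exact law e (Law.nc_sp hA (hS' F) hm (Or.inr (by omega)))
    exact bound e (hsq hq) (show Fintype.card (Fin m ⊕ Fin m) ≤ _ by simp; omega)
      (card_matrix_le (fun A : Matrix.symplecticGroup (Fin m) F => A.1) Subtype.val_injective)
  · classical
    have hnc : Law.Large M n q → Law.NC w (Cfsg.SU n F q) := Law.nc_su hA (by omega) hF
      fun E h => by
        haveI := Fintype.ofFinite E
        exact hS E (by rwa [← Nat.card_eq_fintype_card])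
    obtain ⟨hn', hq⟩ : n < M ∧ q < M := by
      constructor <;> by_contra hc
      · exact law e (hnc (Or.inl (by omega)))
      · exact law e (hnc (Or.inr (by omega)))
    exact bound e (c := Fintype.card F) (hF ▸ Nat.pow_le_pow_left (by omega) 2)
      (show Fintype.card (Fin n) ≤ _ by simp; omega)
      (card_matrix_le (fun A : Cfsg.SU n F q => A.1.1)
        fun _ _ h => Subtype.ext (Subtype.ext h))
  · classical
    obtain ⟨hm', hq⟩ : m < M ∧ Fintype.card F < M := by
      constructor <;> by_contra hc
      · exact law e (Law.nc_derived hA (hS' F) (by omega) hM5 (Or.inl (by omega))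
          (Law.slToOdd m F) (Law.slToOdd_injective m))
      · exact law e (Law.nc_derived hA (hS' F) (by omega) hM5 (Or.inr (by omega))
          (Law.slToOdd m F) (Law.slToOdd_injective m))
    exact bound e (hsq hq) (show Fintype.card (Unit ⊕ (Fin m ⊕ Fin m)) ≤ _ by simp; omega)
      (card_matrix_le (fun A : Cfsg.Omega F (Cfsg.quadFormOdd m F) => A.1.1.1)
        fun _ _ h => Subtype.ext (Subtype.ext (Units.ext h)))
  · classical
    obtain ⟨hm', hq⟩ : m < M ∧ Fintype.card F < M := by
      constructor <;> by_contra hc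
      · exact law e (Law.nc_derived hA (hS' F) (by omega) hM5 (Or.inl (by omega))
          (Law.slToPlus m F) (Law.slToPlus_injective m))
      · exact law e (Law.nc_derived hA (hS' F) (by omega) hM5 (Or.inr (by omega))
          (Law.slToPlus m F) (Law.slToPlus_injective m))
    exact bound e (hsq hq) (show Fintype.card (Fin m ⊕ Fin m) ≤ _ by simp; omega)
      (card_matrix_le (fun A : Cfsg.Omega F (Cfsg.quadFormPlus m F) => A.1.1.1)
        fun _ _ h => Subtype.ext (Subtype.ext (Units.ext h)))
  · classical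
    obtain ⟨hm', hq⟩ : m - 1 < M ∧ Fintype.card F < M := by
      constructor <;> by_contra hc
      · exact law e (Law.nc_derived hA (hS' F) (by omega) hM5 (Or.inl (by omega))
          (Law.slToMinus (m - 1) F a b) (Law.slToMinus_injective (m - 1) a b))
      · exact law e (Law.nc_derived hA (hS' F) (by omega) hM5 (Or.inr (by omega))
          (Law.slToMinus (m - 1) F a b) (Law.slToMinus_injective (m - 1) a b))
    exact bound e (hsq hq)
      (show Fintype.card ((Fin (m - 1) ⊕ Fin (m - 1)) ⊕ Fin 2) ≤ _ by simp; omega)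
      (card_matrix_le (fun A : Cfsg.Omega F (Cfsg.quadFormMinus (m - 1) F a b) => A.1.1.1)
        fun _ _ h => Subtype.ext (Subtype.ext (Units.ext h)))

end Cfsg.Agent.S2355
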