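import Cfsg.Statements.S2360
import Cfsg.Agent.Lib.SUThreeInv.Basic

set_option autoImplicit false
open Cfsg

namespace Cfsg.Agent.S2360

open Cfsg.Agent Cfsg.Agent.SUThreeInv

/-- The involutions commuting with two commuting ones: existence and uniqueness of the third point. -/
theorem third {F : Type*} [Field F] [Fintype F] {q : ℕ} (hF : Fintype.card F = q ^ 2) {v w : Fin 3 → F}
    (hv : Cfsg.hermForm 3 F q v v = 1) (hw : Cfsg.hermForm 3 F q w w = 1)
    (hwv : Cfsg.hermForm 3 F q w v = 0) :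
    ∃ u, Cfsg.hermForm 3 F q u u = 1 ∧ Cfsg.hermForm 3 F q u v = 0 ∧ Cfsg.hermForm 3 F q u w = 0 ∧
      ∀ u', Cfsg.hermForm 3 F q u' v = 0 → Cfsg.hermForm 3 F q u' w = 0 → ∃ c : F, u' = c • u := by
  have H := Unitary.hermForm_isHerm hF 3
  obtain ⟨u, hu, hub⟩ := exists_perp hF (orthonormal_two hF v w hv hw hwv) (by norm_num)
  have h0 : Cfsg.hermForm 3 F q u v = 0 := hub 0
  have h1 : Cfsg.hermForm 3 F q u w = 0 := hub 1
  refine ⟨u, hu, h0, h1, fun u' a b => ⟨Cfsg.hermForm 3 F q u' u, ?_⟩⟩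
  have hb : Unitary.Orthonormal (Cfsg.hermForm 3 F q) ![v, w, u] := by
    refine ⟨fun i => ?_, fun i j hij => ?_⟩
    · fin_cases i
      · simpa using hv
      · simpa using hw
      · simpa using hu
    · fin_cases i <;> fin_cases j <;> first
        | exact absurd rfl hij
        | simp [hwv, h0, h1, (H.eq_zero_symm hF).1 hwv, (H.eq_zero_symm hF).1 h0, (H.eq_zero_symm hF).1 h1]
  conv_lhs => rw [Unitary.Orthonormal.eq_sum_of_card H hb (by simp) u', Fin.sum_univ_three]
  simp [a, b]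

/-- Let q be odd, F the field with q² elements and S = SU_3(F) (determinant-one isometries of the standard Hermitian form). Then all involutions of S are conjugate; there are exactly q²(q²−q+1) of them; the centralizer of an involution has order q(q+1)(q²−1), the order of the full unitary group of degree 2; and for two distinct commuting involutions t and x there is exactly one further involution commuting with both. -/
theorem result {F : Type*} [Field F] [Fintype F] {q : ℕ} (hq : Odd q)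
    (hF : Fintype.card F = q ^ 2) (t : ↥(Cfsg.SU 3 F q)) (ht : t ≠ 1) (ht2 : t * t = 1) :
    (∀ x : ↥(Cfsg.SU 3 F q), x ≠ 1 → x * x = 1 → ∃ g : ↥(Cfsg.SU 3 F q), g * t * g⁻¹ = x) ∧
    Nat.card {x : ↥(Cfsg.SU 3 F q) // x ≠ 1 ∧ x * x = 1} = q ^ 2 * (q ^ 2 - q + 1) ∧
    Nat.card ↥(Subgroup.centralizer ({t} : Set ↥(Cfsg.SU 3 F q))) = q * (q + 1) * (q ^ 2 - 1) ∧
    ∀ x : ↥(Cfsg.SU 3 F q), x ≠ 1 → x * x = 1 → x ≠ t → Commute t x →
      Nat.card {y : ↥(Cfsg.SU 3 F q) // y ≠ 1 ∧ y * y = 1 ∧ y ≠ t ∧ y ≠ x ∧ Commute t y ∧ Commute x y} = 1 := by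
  obtain ⟨v, hv, rfl⟩ := exists_eq_refl hq hF t ht ht2
  have hq2 := Unitary.two_le_q hF
  have hcount : Nat.card {x : ↥(Cfsg.SU 3 F q) // x ≠ 1 ∧ x * x = 1} = q ^ 2 * (q ^ 2 - q + 1) := by
    have h := card_inv_mul hq hF (fun _ => True)
    have e1 : Nat.card {v : Fin 3 → F // ∃ _ : Cfsg.hermForm 3 F q v v = 1, True} =
        Unitary.normCount 3 q (1 : F) :=
      Nat.card_congr (Equiv.subtypeEquivRight fun x => ⟨fun h => h.1, fun h => ⟨h, trivial⟩⟩)
    rw [e1, Unitary.normOne_count hF, if_neg (by decide)] at h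
    rw [← Nat.card_congr (Equiv.subtypeEquivRight fun x : ↥(Cfsg.SU 3 F q) =>
      (⟨fun h => ⟨h.1, h.2.1⟩, fun h => ⟨h.1, h.2, trivial⟩⟩ : (x ≠ 1 ∧ x * x = 1 ∧ True) ↔ (x ≠ 1 ∧ x * x = 1)))]
    refine Nat.eq_of_mul_eq_mul_right (show 0 < q + 1 by omega) (h.trans ?_)
    have : q ≤ q ^ 2 := Nat.le_self_pow (by norm_num) q
    zify [this]
    ring
  refine ⟨fun x hx hx2 => isConj hq hF _ x ht ht2 hx hx2, hcount, ?_, ?_⟩
  · classical
    let f : ↥(Cfsg.SU 3 F q) → {x : ↥(Cfsg.SU 3 F q) // x ≠ 1 ∧ x * x = 1} := fun g =>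
      ⟨g * reflSU hF v hv * g⁻¹, by
        rw [conj_reflSU]; exact reflSU_ne_one hq hF _ _, by rw [conj_reflSU]; exact reflSU_mul_self hF _ _⟩
    have hfib : ∀ x, Nat.card {g // f g = x} =
        Nat.card ↥(Subgroup.centralizer ({reflSU hF v hv} : Set ↥(Cfsg.SU 3 F q))) := by
      rintro ⟨x, hx, hx2⟩
      obtain ⟨g, rfl⟩ := isConj hq hF _ x ht ht2 hx hx2
      refine (Nat.card_congr (Equiv.subtypeEquiv (Equiv.mulLeft g) fun c => ?_)).symm
      rw [Subgroup.mem_centralizer_singleton_iff]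
      simp only [Equiv.coe_mulLeft, f, Subtype.mk.injEq, mul_inv_rev]
      constructor
      · intro h
        rw [show g * c * reflSU hF v hv * (c⁻¹ * g⁻¹) = g * (c * reflSU hF v hv * c⁻¹) * g⁻¹ by group]
        rw [h, mul_inv_cancel_right]
      · intro h
        rw [show g * c * reflSU hF v hv * (c⁻¹ * g⁻¹) = g * (c * reflSU hF v hv * c⁻¹) * g⁻¹ by group,
          mul_left_inj, mul_right_inj, mul_inv_eq_iff_eq_mul] at h
        exact h
    have h := Nat.card_congr (Equiv.sigmaFiberEquiv f)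
    rw [Nat.card_sigma, Finset.sum_congr rfl fun x _ => hfib x, Finset.sum_const, smul_eq_mul,
      Finset.card_univ, ← Nat.card_eq_fintype_card, hcount] at h
    have hS := Unitary.card_SU hF 3 (by norm_num)
    rw [← h, Finset.prod_range_succ, Finset.prod_range_succ, Finset.prod_range_succ, Finset.prod_range_zero,
      if_pos (by decide), if_neg (by decide), if_pos (by decide)] at hS
    have h1 : q ≤ q ^ 2 := Nat.le_self_pow (by norm_num) q
    have h2 : 1 ≤ q ^ 2 := Nat.one_le_pow _ _ (by omega)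
    refine Nat.eq_of_mul_eq_mul_left (show 0 < (q + 1) * (q ^ 2 * (q ^ 2 - q + 1)) by positivity) ?_
    rw [mul_assoc (q + 1), hS]
    zify [h1, h2]
    ring
  · intro x hx hx2 hxt hcomm
    obtain ⟨w, hw, rfl⟩ := exists_eq_refl hq hF x hx hx2
    have hwv : Cfsg.hermForm 3 F q w v = 0 :=
      ((commute_iff hq hF hv hw).1 hcomm).resolve_right fun h =>
        hxt ((reflSU_eq_iff hq hF hv hw).2 h).symm
    obtain ⟨u, hu, huv, huw, huniq⟩ := third hF hv hw hwv
    have H := Unitary.hermForm_isHerm hF 3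
    have hne : ∀ a b : Fin 3 → F, Cfsg.hermForm 3 F q a a = 1 → Cfsg.hermForm 3 F q b b = 1 →
        Cfsg.hermForm 3 F q b a = 0 → ¬ ∃ c : F, b = c • a := by
      rintro a b ha hb hba ⟨c, rfl⟩
      rw [H.smul_left, ha, mul_one] at hba
      rw [hba, zero_smul, H.zero_left] at hb
      exact zero_ne_one hb
    rw [Nat.card_eq_one_iff_exists]
    refine ⟨⟨reflSU hF u hu, reflSU_ne_one hq hF u hu, reflSU_mul_self hF u hu, fun h => ?_, fun h => ?_,
      (commute_iff hq hF hv hu).2 (Or.inl huv), (commute_iff hq hF hw hu).2 (Or.inl huw)⟩, ?_⟩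
    · exact hne v u hv hu huv ((reflSU_eq_iff hq hF hv hu).1 h.symm)
    · exact hne w u hw hu huw ((reflSU_eq_iff hq hF hw hu).1 h.symm)
    · rintro ⟨y, hy, hy2, hyt, hyx, c1, c2⟩
      obtain ⟨u', hu', rfl⟩ := exists_eq_refl hq hF y hy hy2
      have a := ((commute_iff hq hF hv hu').1 c1).resolve_right fun h =>
        hyt ((reflSU_eq_iff hq hF hv hu').2 h).symm
      have b := ((commute_iff hq hF hw hu').1 c2).resolve_right fun h =>
        hyx ((reflSU_eq_iff hq hF hw hu').2 h).symm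
      exact Subtype.ext ((reflSU_eq_iff hq hF hu hu').2 (huniq u' a b)).symm

end Cfsg.Agent.S2360
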