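import Cfsg.Statements.S2356
import Cfsg.Agent.Lib.SUThreeInv.Basic
import Cfsg.Agent.S2360

set_option autoImplicit false
open Cfsg

namespace Cfsg.Agent.S2356

open Cfsg.Agent Cfsg.Agent.SUThreeInv

section
variable {F : Type*} [Field F] [Fintype F] {q : ℕ}

theorem card_split {α : Type*} [Finite α] (P Q : α → Prop) :
    Nat.card {x // P x} = Nat.card {x // P x ∧ Q x} + Nat.card {x // P x ∧ ¬ Q x} := by
  classical
  haveI := Fintype.ofFinite α
  simp only [Nat.card_eq_fintype_card, Fintype.card_subtype]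
  rw [← Finset.filter_filter, ← Finset.filter_filter, Finset.card_filter_add_card_filter_not]

theorem not_parallel (hF : Fintype.card F = q ^ 2) {v u : Fin 3 → F}
    (hu : Cfsg.hermForm 3 F q u u = 1) (hv : Cfsg.hermForm 3 F q v v = 1)
    (huv : Cfsg.hermForm 3 F q u v = 0) : ¬ ∃ c : F, u = c • v := by
  have H := Unitary.hermForm_isHerm hF 3
  rintro ⟨c, rfl⟩
  rw [H.smul_left, hv, mul_one] at huv
  rw [huv, zero_smul, H.zero_left] at hu
  exact zero_ne_one hu

/-- A common perpendicular norm-one vector exists iff the plane is nondegenerate. -/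
theorem common_iff (hF : Fintype.card F = q ^ 2) {v w : Fin 3 → F}
    (hv : Cfsg.hermForm 3 F q v v = 1) (hw : Cfsg.hermForm 3 F q w w = 1) (hne : ¬ ∃ c : F, w = c • v) :
    (∃ u, Cfsg.hermForm 3 F q u u = 1 ∧ Cfsg.hermForm 3 F q u v = 0 ∧ Cfsg.hermForm 3 F q u w = 0) ↔
      Cfsg.hermForm 3 F q w v ^ (q + 1) ≠ 1 := by
  have H := Unitary.hermForm_isHerm hF 3
  set a := Cfsg.hermForm 3 F q w v with ha
  set z := w - a • v with hz
  have hzv : Cfsg.hermForm 3 F q z v = 0 := by rw [hz, H.sub_left, H.smul_left, hv, mul_one, sub_self]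
  have hvz := (H.eq_zero_symm hF).1 hzv
  have hzz : Cfsg.hermForm 3 F q z z = 1 - a ^ (q + 1) := by
    conv_lhs => arg 4; rw [hz]
    rw [H.sub_left, H.smul_left, hvz, mul_zero, sub_zero, hz, H.sub_right hF, H.smul_right, ← ha, hw, pow_succ]
  constructor
  · rintro ⟨u, hu, huv, huw⟩ h1
    obtain ⟨e, he, heb⟩ := exists_perp hF (orthonormal_two hF v u hv hu huv) (by norm_num)
    have hev : Cfsg.hermForm 3 F q e v = 0 := heb 0
    have heu : Cfsg.hermForm 3 F q e u = 0 := heb 1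
    have hzu : Cfsg.hermForm 3 F q z u = 0 := by
      rw [hz, H.sub_left, H.smul_left, (H.eq_zero_symm hF).1 huw, (H.eq_zero_symm hF).1 huv, mul_zero, sub_zero]
    have hb : Unitary.Orthonormal (Cfsg.hermForm 3 F q) ![v, u, e] := by
      refine ⟨fun i => ?_, fun i j hij => ?_⟩
      · fin_cases i
        · simpa using hv
        · simpa using hu
        · simpa using he
      · fin_cases i <;> fin_cases j <;> first
          | exact absurd rfl hij
          | simp [huv, hev, heu, (H.eq_zero_symm hF).1 huv, (H.eq_zero_symm hF).1 hev, (H.eq_zero_symm hF).1 heu]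
    have hzsum : z = Cfsg.hermForm 3 F q z e • e := by
      conv_lhs => rw [Unitary.Orthonormal.eq_sum_of_card H hb (by simp) z, Fin.sum_univ_three]
      simp [hzv, hzu]
    rw [h1, sub_self, hzsum, H.smul_left, H.smul_right, he, mul_one, ← pow_succ', pow_eq_zero_iff
      (Nat.succ_ne_zero q)] at hzz
    rw [hzz, zero_smul, hz, sub_eq_zero] at hzsum
    exact hne ⟨a, hzsum⟩
  · intro h1
    have hne0 : Cfsg.hermForm 3 F q z z ≠ 0 := by rw [hzz, sub_ne_zero]; exact Ne.symm h1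
    obtain ⟨s, hs⟩ := Unitary.exists_norm_eq hF (H.self_fixed z)
    have hs0 : s ≠ 0 := fun h => hne0 (by rw [← hs, h, zero_pow (Nat.succ_ne_zero q)])
    have hn : Cfsg.hermForm 3 F q (s⁻¹ • z) (s⁻¹ • z) = 1 := by
      rw [H.smul_left, H.smul_right, ← mul_assoc, ← pow_succ', inv_pow, hs, inv_mul_cancel₀ hne0]
    obtain ⟨u, hu, hub⟩ := exists_perp hF (orthonormal_two hF v _ hv hn
      (by rw [H.smul_left, hzv, mul_zero])) (by norm_num)
    have huv : Cfsg.hermForm 3 F q u v = 0 := hub 0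
    refine ⟨u, hu, huv, ?_⟩
    have huz : Cfsg.hermForm 3 F q u (s⁻¹ • z) = 0 := hub 1
    rw [H.smul_right, mul_eq_zero] at huz
    have huz' := huz.resolve_left (pow_ne_zero _ (inv_ne_zero hs0))
    rw [show w = a • v + z by rw [hz]; abel, H.add_right hF, H.smul_right, huv, huz', mul_zero, add_zero]

/-- Third step of a path. -/
theorem far_path (hq : Odd q) (hF : Fintype.card F = q ^ 2) {v w : Fin 3 → F}
    (hv : Cfsg.hermForm 3 F q v v = 1) (hw : Cfsg.hermForm 3 F q w w = 1) (hne : ¬ ∃ c : F, w = c • v)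
    (h1 : Cfsg.hermForm 3 F q w v ^ (q + 1) = 1) :
    ∃ u u', Cfsg.hermForm 3 F q u u = 1 ∧ Cfsg.hermForm 3 F q u' u' = 1 ∧ Cfsg.hermForm 3 F q u v = 0 ∧
      Cfsg.hermForm 3 F q u' u = 0 ∧ Cfsg.hermForm 3 F q u' w = 0 := by
  have H := Unitary.hermForm_isHerm hF 3
  obtain ⟨c, hc, hcb⟩ := Unitary.exists_orthonormal_extend hF H (Unitary.hermForm_nondeg hF 3)
    (orthonormal_one v hv) (show 1 ≤ 3 by norm_num) (le_of_eq (Module.finrank_fin_fun F).symm)
  have hc0 : c 0 = v := hcb 0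
  have hsum := Unitary.Orthonormal.eq_sum_of_card H hc (by simp) w
  have hn : Cfsg.hermForm 3 F q w w = ∑ i, Cfsg.hermForm 3 F q w (c i) * Cfsg.hermForm 3 F q w (c i) ^ q := by
    conv_lhs => rw [hsum]
    rw [Unitary.Orthonormal.inner_sum hF H hc]
  rw [hw, Fin.sum_univ_three, hc0, ← pow_succ', ← pow_succ', ← pow_succ', h1, add_assoc, left_eq_add] at hn
  obtain ⟨i, hi0, hi⟩ : ∃ i, i ≠ 0 ∧ Cfsg.hermForm 3 F q w (c i) ^ (q + 1) ≠ 1 := by
    by_contra hcon
    push Not at hcon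
    rw [hcon 1 (by decide), hcon 2 (by decide), one_add_one_eq_two] at hn
    exact two_ne_zero_of_odd hq hF hn
  have huv : Cfsg.hermForm 3 F q (c i) v = 0 := by rw [← hc0]; exact hc.2 hi0
  have hne' : ¬ ∃ d : F, w = d • c i := by
    rintro ⟨d, rfl⟩
    rw [H.smul_left, hc.1, mul_one] at hi
    rw [H.smul_left, H.smul_right, hc.1, mul_one, ← pow_succ'] at hw
    exact hi hw
  obtain ⟨u', hu', a, b⟩ := (common_iff hF (hc.1 i) hw hne').2 hi
  exact ⟨c i, u', hc.1 i, hu', huv, a, b⟩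

/-- The number of norm-one vectors at distance three. -/
theorem card_far (hF : Fintype.card F = q ^ 2) {v : Fin 3 → F} (hv : Cfsg.hermForm 3 F q v v = 1) :
    Nat.card {w : Fin 3 → F // Cfsg.hermForm 3 F q w w = 1 ∧ Cfsg.hermForm 3 F q w v ^ (q + 1) = 1 ∧
      ¬ ∃ c : F, w = c • v} = (q + 1) * ((q ^ 2 - 1) * (q + 1)) := by
  classical
  have H := Unitary.hermForm_isHerm hF 3
  let S := {z : Fin 3 → F // Cfsg.hermForm 3 F q z z = 0 ∧
    ∀ i, Cfsg.hermForm 3 F q z (![v] i) = 0}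
  have hS : Nat.card S = (q ^ 2 - 1) * (q + 1) + 1 := by
    rw [Unitary.orthonormal_next hF (by norm_num) (orthonormal_one v hv) 0,
      Unitary.isotropic_count hF, if_pos (by decide), show (3 - 1 - 1 : ℕ) = 1 by norm_num, pow_one]
  let z0 : S := ⟨0, H.zero_left 0, fun i => H.zero_left _⟩
  have hne : Nat.card {z : S // z ≠ z0} = (q ^ 2 - 1) * (q + 1) := by
    have h := Nat.card_congr (Equiv.optionSubtypeNe z0)
    rw [Finite.card_option, hS] at h
    omega
  rw [← hne]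
  conv_rhs => arg 1; rw [← Unitary.card_norm_one hF]
  rw [← Nat.card_prod]
  have h1 : ∀ a : F, a ^ (q + 1) = 1 → ∀ z : S, z ≠ z0 →
      Cfsg.hermForm 3 F q (a • v + z.1) (a • v + z.1) = 1 ∧
      Cfsg.hermForm 3 F q (a • v + z.1) v ^ (q + 1) = 1 ∧ ¬ ∃ c : F, a • v + z.1 = c • v := by
    rintro a ha ⟨z, hz, hzv⟩ hz0
    have hzv' : Cfsg.hermForm 3 F q z v = 0 := hzv 0
    show Cfsg.hermForm 3 F q (a • v + z) (a • v + z) = 1 ∧
      Cfsg.hermForm 3 F q (a • v + z) v ^ (q + 1) = 1 ∧ ¬ ∃ c : F, a • v + z = c • v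
    refine ⟨?_, ?_, ?_⟩
    · rw [H.add_left, H.add_right hF, H.add_right hF, H.smul_left, H.smul_left, H.smul_right, H.smul_right, hv,
        hz, hzv', (H.eq_zero_symm hF).1 hzv', mul_one, ← pow_succ', ha]
      ring
    · rw [H.add_left, H.smul_left, hv, hzv', mul_one, add_zero, ha]
    · rintro ⟨c, hc⟩
      have hc' : a • v + z = c • v := hc
      have h := congrArg (fun x => Cfsg.hermForm 3 F q x v) hc'
      simp only [H.add_left, H.smul_left, hv, hzv', mul_one, add_zero] at h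
      rw [h, add_eq_left] at hc'
      exact hz0 (Subtype.ext hc')
  have h2 : ∀ w, Cfsg.hermForm 3 F q w w = 1 → Cfsg.hermForm 3 F q w v ^ (q + 1) = 1 →
      Cfsg.hermForm 3 F q (w - Cfsg.hermForm 3 F q w v • v) (w - Cfsg.hermForm 3 F q w v • v) = 0 ∧
      ∀ i, Cfsg.hermForm 3 F q (w - Cfsg.hermForm 3 F q w v • v) (![v] i) = 0 := by
    intro w hw hN
    refine ⟨?_, fun i => ?_⟩
    · rw [H.sub_left, H.sub_right hF, H.sub_right hF, H.smul_left, H.smul_left, H.smul_right, H.smul_right, hw,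
        hv, H.conj_symm w v]
      linear_combination -hN
    · fin_cases i
      show Cfsg.hermForm 3 F q (w - _ • v) v = 0
      rw [H.sub_left, H.smul_left, hv, mul_one, sub_self]
  let e : {a : F // a ^ (q + 1) = 1} × {z : S // z ≠ z0} ≃ {w : Fin 3 → F // Cfsg.hermForm 3 F q w w = 1 ∧
      Cfsg.hermForm 3 F q w v ^ (q + 1) = 1 ∧ ¬ ∃ c : F, w = c • v} :=
    { toFun := fun p => ⟨p.1.1 • v + p.2.1.1, h1 _ p.1.2 p.2.1 p.2.2⟩
      invFun := fun w => (⟨Cfsg.hermForm 3 F q w.1 v, w.2.2.1⟩,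
        ⟨⟨w.1 - Cfsg.hermForm 3 F q w.1 v • v, h2 w.1 w.2.1 w.2.2.1⟩, fun h =>
          w.2.2.2 ⟨_, sub_eq_zero.1 (congrArg Subtype.val h)⟩⟩)
      left_inv := by
        rintro ⟨⟨a, ha⟩, ⟨z, hz, hzv⟩, hz0⟩
        have hzv' : Cfsg.hermForm 3 F q z v = 0 := hzv 0
        have e : Cfsg.hermForm 3 F q (a • v + z) v = a := by
          rw [H.add_left, H.smul_left, hv, hzv', mul_one, add_zero]
        simp [e]
      right_inv := fun w => Subtype.ext (by
        show Cfsg.hermForm 3 F q w.1 v • v + (w.1 - Cfsg.hermForm 3 F q w.1 v • v) = w.1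
        abel) }
  exact (Nat.card_congr e).symm

end

/-- Let q be odd, F the field with q² elements, S = SU_3(F) (determinant-one isometries of the standard Hermitian form) and t an involution of S. Then: exactly q(q−1) involutions other than t commute with t; exactly q(q−2)(q²−1) involutions do not commute with t but commute with some involution commuting with t; exactly (q+1)(q²−1) involutions x do not commute with t and admit no involution commuting with both t and x; and every involution can be reached from t in at most three steps, each step going to an involution that commutes with the previous one (the commuting involution graph is connected of diameter 3). -/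
theorem result {F : Type*} [Field F] [Fintype F] {q : ℕ} (hq : Odd q)
    (hF : Fintype.card F = q ^ 2) (t : ↥(Cfsg.SU 3 F q)) (ht : t ≠ 1) (ht2 : t * t = 1) :
    Nat.card {x : ↥(Cfsg.SU 3 F q) // x ≠ 1 ∧ x * x = 1 ∧ x ≠ t ∧ Commute t x} = q * (q - 1) ∧
    Nat.card {x : ↥(Cfsg.SU 3 F q) // x ≠ 1 ∧ x * x = 1 ∧ ¬ Commute t x ∧
        ∃ y : ↥(Cfsg.SU 3 F q), y ≠ 1 ∧ y * y = 1 ∧ Commute t y ∧ Commute y x} = q * (q - 2) * (q ^ 2 - 1) ∧
    Nat.card {x : ↥(Cfsg.SU 3 F q) // x ≠ 1 ∧ x * x = 1 ∧ ¬ Commute t x ∧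
        ∀ y : ↥(Cfsg.SU 3 F q), y ≠ 1 → y * y = 1 → ¬ (Commute t y ∧ Commute y x)} = (q + 1) * (q ^ 2 - 1) ∧
    ∀ x : ↥(Cfsg.SU 3 F q), x ≠ 1 → x * x = 1 →
      ∃ y z : ↥(Cfsg.SU 3 F q), y ≠ 1 ∧ y * y = 1 ∧ z ≠ 1 ∧ z * z = 1 ∧
        Commute t y ∧ Commute y z ∧ Commute z x := by
  obtain ⟨v, hv, rfl⟩ := exists_eq_refl hq hF t ht ht2
  have H := Unitary.hermForm_isHerm hF 3
  have hq2 := Unitary.two_le_q hF
  set t := reflSU hF v hv with htdef
  let I : ↥(Cfsg.SU 3 F q) → Prop := fun x => x ≠ 1 ∧ x * x = 1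
  let M : ↥(Cfsg.SU 3 F q) → Prop := fun x =>
    ∃ y : ↥(Cfsg.SU 3 F q), y ≠ 1 ∧ y * y = 1 ∧ Commute t y ∧ Commute y x
  have hcomm : ∀ w (hw : Cfsg.hermForm 3 F q w w = 1),
      Commute t (reflSU hF w hw) ↔ Cfsg.hermForm 3 F q w v = 0 ∨ ∃ c : F, w = c • v := fun w hw =>
    commute_iff hq hF hv hw
  have hM : ∀ w (hw : Cfsg.hermForm 3 F q w w = 1), ¬ Commute t (reflSU hF w hw) →
      (M (reflSU hF w hw) ↔ Cfsg.hermForm 3 F q w v ^ (q + 1) ≠ 1) := by
    intro w hw hn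
    have hne : ¬ ∃ c : F, w = c • v := fun h => hn ((hcomm w hw).2 (Or.inr h))
    rw [← common_iff hF hv hw hne]
    constructor
    · rintro ⟨y, hy, hy2, c1, c2⟩
      obtain ⟨u, hu, rfl⟩ := exists_eq_refl hq hF y hy hy2
      rcases (hcomm u hu).1 c1 with a | ⟨c, a⟩
      · rcases (commute_iff hq hF hu hw).1 c2 with b | ⟨c, b⟩
        · exact ⟨u, hu, a, (H.eq_zero_symm hF).1 b⟩
        · rw [← (reflSU_eq_iff hq hF hu hw).2 ⟨c, b⟩] at hn
          exact absurd c1 hn
      · rw [← (reflSU_eq_iff hq hF hv hu).2 ⟨c, a⟩] at c2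
        exact absurd c2 hn
    · rintro ⟨u, hu, a, b⟩
      exact ⟨reflSU hF u hu, reflSU_ne_one hq hF u hu, reflSU_mul_self hF u hu, (hcomm u hu).2 (Or.inl a),
        (commute_iff hq hF hu hw).2 (Or.inl ((H.eq_zero_symm hF).1 b))⟩
  have hA : Nat.card {x // x ≠ 1 ∧ x * x = 1 ∧ x ≠ t ∧ Commute t x} = q * (q - 1) := by
    have h := card_inv_mul hq hF (fun x => x ≠ t ∧ Commute t x)
    have e1 : Nat.card {w : Fin 3 → F // ∃ hw : Cfsg.hermForm 3 F q w w = 1,
        reflSU hF w hw ≠ t ∧ Commute t (reflSU hF w hw)} = q * (q ^ 2 - 1) := by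
      have h2 := Unitary.orthonormal_next hF (n := 3) (by norm_num) (orthonormal_one v hv) 1
      rw [Unitary.normOne_count hF, if_pos (by decide), show (3 - 1 - 1 : ℕ) = 1 by norm_num, pow_one] at h2
      rw [← h2]
      refine Nat.card_congr (Equiv.subtypeEquivRight fun w => ⟨?_, ?_⟩)
      · rintro ⟨hw, hne, hc⟩
        refine ⟨hw, fun i => ?_⟩
        fin_cases i
        exact ((hcomm w hw).1 hc).resolve_right fun h' => hne ((reflSU_eq_iff hq hF hv hw).2 h').symm
      · rintro ⟨hw, hwv⟩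
        have h0 : Cfsg.hermForm 3 F q w v = 0 := hwv 0
        exact ⟨hw, fun h' => not_parallel hF hw hv h0 ((reflSU_eq_iff hq hF hv hw).1 h'.symm),
          (hcomm w hw).2 (Or.inl h0)⟩
    rw [e1] at h
    refine Nat.eq_of_mul_eq_mul_right (show 0 < q + 1 by omega) (h.trans ?_)
    have a : 1 ≤ q := by omega
    have b : 1 ≤ q ^ 2 := Nat.one_le_pow _ _ (by omega)
    zify [a, b]
    ring
  have hC : Nat.card {x // x ≠ 1 ∧ x * x = 1 ∧ ¬ Commute t x ∧ ¬ M x} = (q + 1) * (q ^ 2 - 1) := by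
    have h := card_inv_mul hq hF (fun x => ¬ Commute t x ∧ ¬ M x)
    have e1 : Nat.card {w : Fin 3 → F // ∃ hw : Cfsg.hermForm 3 F q w w = 1,
        ¬ Commute t (reflSU hF w hw) ∧ ¬ M (reflSU hF w hw)} = (q + 1) * ((q ^ 2 - 1) * (q + 1)) := by
      rw [← card_far hF hv]
      refine Nat.card_congr (Equiv.subtypeEquivRight fun w => ⟨?_, ?_⟩)
      · rintro ⟨hw, hn, hm⟩
        exact ⟨hw, not_not.1 fun h' => hm ((hM w hw hn).2 h'), fun h' => hn ((hcomm w hw).2 (Or.inr h'))⟩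
      · rintro ⟨hw, hN, hne⟩
        have hn : ¬ Commute t (reflSU hF w hw) := fun hc => by
          rcases (hcomm w hw).1 hc with a | a
          · rw [a, zero_pow (Nat.succ_ne_zero q)] at hN
            exact zero_ne_one hN
          · exact hne a
        exact ⟨hw, hn, fun hm => (hM w hw hn).1 hm hN⟩
    rw [e1] at h
    refine Nat.eq_of_mul_eq_mul_right (show 0 < q + 1 by omega) (h.trans ?_)
    ring
  have hnotM : ∀ x, (¬ M x) ↔
      ∀ y : ↥(Cfsg.SU 3 F q), y ≠ 1 → y * y = 1 → ¬ (Commute t y ∧ Commute y x) := fun x => by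
    simp only [M, not_exists, not_and]
  have hall : Nat.card {x // I x} = q ^ 2 * (q ^ 2 - q + 1) :=
    (S2360.result hq hF t ht ht2).2.1
  refine ⟨hA, ?_, ?_, ?_⟩
  · have h1 := card_split I (fun x => Commute t x)
    have h2 := card_split (fun x => I x ∧ Commute t x) (fun x => x = t)
    have h3 := card_split (fun x => I x ∧ ¬ Commute t x) M
    have e1 : Nat.card {x // (I x ∧ Commute t x) ∧ x = t} = 1 := by
      rw [Nat.card_eq_one_iff_exists]
      exact ⟨⟨t, ⟨⟨ht, ht2⟩, Commute.refl t⟩, rfl⟩, fun x => Subtype.ext x.2.2⟩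
    have e2 : Nat.card {x // (I x ∧ Commute t x) ∧ ¬ x = t} = q * (q - 1) := by
      rw [← hA]; exact Nat.card_congr (Equiv.subtypeEquivRight fun x => by simp only [I, ne_eq]; tauto)
    have e3 : Nat.card {x // (I x ∧ ¬ Commute t x) ∧ ¬ M x} = (q + 1) * (q ^ 2 - 1) := by
      rw [← hC]; exact Nat.card_congr (Equiv.subtypeEquivRight fun x => by simp only [I, ne_eq]; tauto)
    have e4 : Nat.card {x // (I x ∧ ¬ Commute t x) ∧ M x} =
        Nat.card {x // x ≠ 1 ∧ x * x = 1 ∧ ¬ Commute t x ∧ M x} :=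
      Nat.card_congr (Equiv.subtypeEquivRight fun x =>
        ⟨fun h => ⟨h.1.1.1, h.1.1.2, h.1.2, h.2⟩, fun h => ⟨⟨⟨h.1, h.2.1⟩, h.2.2.1⟩, h.2.2.2⟩⟩)
    rw [hall, h2, h3, e1, e2, e3, e4] at h1
    have a : 1 ≤ q := by omega
    have b : 1 ≤ q ^ 2 := Nat.one_le_pow _ _ (by omega)
    have c : q ≤ q ^ 2 := Nat.le_self_pow (by norm_num) q
    change Nat.card {x // x ≠ 1 ∧ x * x = 1 ∧ ¬ Commute t x ∧ M x} = _
    zify [a, b, c, hq2] at h1 ⊢
    linear_combination -h1
  · rw [← hC]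
    exact Nat.card_congr (Equiv.subtypeEquivRight fun x => by rw [hnotM])
  · intro x hx hx2
    obtain ⟨w, hw, rfl⟩ := exists_eq_refl hq hF x hx hx2
    by_cases hc : Commute t (reflSU hF w hw)
    · exact ⟨reflSU hF w hw, reflSU hF w hw, hx, hx2, hx, hx2, hc, Commute.refl _, Commute.refl _⟩
    by_cases hN : Cfsg.hermForm 3 F q w v ^ (q + 1) = 1
    · obtain ⟨u, u', hu, hu', a, b, c⟩ :=
        far_path hq hF hv hw (fun h => hc ((hcomm w hw).2 (Or.inr h))) hN
      exact ⟨reflSU hF u hu, reflSU hF u' hu', reflSU_ne_one hq hF u hu, reflSU_mul_self hF u hu,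
        reflSU_ne_one hq hF u' hu', reflSU_mul_self hF u' hu', (hcomm u hu).2 (Or.inl a),
        (commute_iff hq hF hu hu').2 (Or.inl b),
        (commute_iff hq hF hu' hw).2 (Or.inl ((H.eq_zero_symm hF).1 c))⟩
    · obtain ⟨y, hy, hy2, a, b⟩ := (hM w hw hc).2 hN
      exact ⟨y, y, hy, hy2, hy, hy2, a, Commute.refl _, b⟩

end Cfsg.Agent.S2356
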