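import Cfsg.Statements.S2359
import Cfsg.Agent.Lib.ReeTori.Instance
import Cfsg.Agent.Lib.ReeTori.Orders

set_option autoImplicit false
open Cfsg

namespace Cfsg.Agent.S2359

/-- Let R be the small Ree group over the field with q = 3^(2m+1) ≥ 27 elements. If H is a cyclic subgroup of R of order (q−1)/2, then the centralizer of H in R is cyclic of order q−1, and every non-trivial subgroup of H has the same centralizer as H. If H is a cyclic subgroup of order (q+1)/4, then the centralizer of H is abelian of order q+1 with no element of order 4 (so it is the direct product of H and a group of order 4 whose non-identity elements all have order 2), and every non-trivial subgroup of H has the same centralizer as H. -/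
theorem result {K : Type*} [Field K] [Fintype K] {m : ℕ} (hm : 1 ≤ m)
    (hK : Fintype.card K = 3 ^ (2 * m + 1)) (H : Subgroup ↥(Cfsg.Lie.twistedG2 K (3 ^ m))) (hH : IsCyclic H) :
    (Nat.card H = (3 ^ (2 * m + 1) - 1) / 2 →
      IsCyclic ↥(Subgroup.centralizer (H : Set ↥(Cfsg.Lie.twistedG2 K (3 ^ m)))) ∧
        Nat.card ↥(Subgroup.centralizer (H : Set ↥(Cfsg.Lie.twistedG2 K (3 ^ m)))) = 3 ^ (2 * m + 1) - 1 ∧
        ∀ A : Subgroup ↥(Cfsg.Lie.twistedG2 K (3 ^ m)), A ≤ H → A ≠ ⊥ →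
          Subgroup.centralizer (A : Set ↥(Cfsg.Lie.twistedG2 K (3 ^ m))) = Subgroup.centralizer (H : Set ↥(Cfsg.Lie.twistedG2 K (3 ^ m)))) ∧
    (Nat.card H = (3 ^ (2 * m + 1) + 1) / 4 →
      IsMulCommutative ↥(Subgroup.centralizer (H : Set ↥(Cfsg.Lie.twistedG2 K (3 ^ m)))) ∧
        Nat.card ↥(Subgroup.centralizer (H : Set ↥(Cfsg.Lie.twistedG2 K (3 ^ m)))) = 3 ^ (2 * m + 1) + 1 ∧
        (∀ x ∈ Subgroup.centralizer (H : Set ↥(Cfsg.Lie.twistedG2 K (3 ^ m))), orderOf x ≠ 4) ∧
        ∀ A : Subgroup ↥(Cfsg.Lie.twistedG2 K (3 ^ m)), A ≤ H → A ≠ ⊥ →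
          Subgroup.centralizer (A : Set ↥(Cfsg.Lie.twistedG2 K (3 ^ m))) = Subgroup.centralizer (H : Set ↥(Cfsg.Lie.twistedG2 K (3 ^ m)))) := by
  haveI := Cfsg.Agent.Twisted.charP_ree hK
  revert H
  rw [Cfsg.Agent.Twisted.twisted_eq hK]
  intro H hH
  obtain ⟨D⟩ := Cfsg.Agent.ReeTori.exists_data hK hm
  obtain ⟨hq27, hq8, -⟩ := D.q_facts
  constructor
  · intro hcard
    obtain ⟨T, hT⟩ := D.exists_kTorus_H
    obtain ⟨g, hg, hsub⟩ := T.centralizer_of_card (by omega) H hH hcard
    rw [hT] at hg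
    refine ⟨?_, ?_, hsub⟩
    · rw [hg]
      haveI := D.H_cyclic
      exact isCyclic_of_surjective
        (D.H.equivMapOfInjective (MulAut.conj g).toMonoidHom (MulEquiv.injective _)).toMonoidHom
        (D.H.equivMapOfInjective (MulAut.conj g).toMonoidHom (MulEquiv.injective _)).surjective
    · rw [hg, Subgroup.card_map_of_injective (MulEquiv.injective _), D.H_card]
  · intro hcard
    obtain ⟨T, E, Y, hT⟩ := D.exists_torus
    obtain ⟨S, hS, -⟩ := D.exists_kTorus_Y hT
    obtain ⟨g, hg, hsub⟩ := S.centralizer_of_card (by omega) H hH hcard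
    rw [hS] at hg
    refine ⟨?_, ?_, ?_, hsub⟩
    · rw [hg]
      refine ⟨⟨?_⟩⟩
      rintro ⟨_, x, hx, rfl⟩ ⟨_, y, hy, rfl⟩
      refine Subtype.ext ?_
      show (MulAut.conj g).toMonoidHom x * (MulAut.conj g).toMonoidHom y = _
      rw [← map_mul, hT.comm x hx y hy, map_mul]
      rfl
    · rw [hg, Subgroup.card_map_of_injective (MulEquiv.injective _), hT.card]
    · rw [hg]
      rintro _ ⟨x, hx, rfl⟩ h4
      have h := D.orderOf_dvd_torus hT hx
      rw [← MulEquiv.orderOf_eq (MulAut.conj g)] at h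
      rw [show orderOf ((MulAut.conj g) x) = 4 from h4] at h
      omega

end Cfsg.Agent.S2359
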