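import Cfsg.Statements.S2366
import Cfsg.Agent.Lib.FormClasses.Realise
import Cfsg.Agent.Lib.Unitary.Transvection
import Cfsg.Agent.Lib.Unitary.Center
import Cfsg.Agent.Lib.LinSpec.Basic
import Cfsg.Agent.Lib.GLOrder.Torus
import Cfsg.Agent.EqLemmas

set_option autoImplicit false
open Cfsg

namespace Cfsg.Agent.S2366

open Polynomial Cfsg.Agent.Unitary
open scoped Matrix

section General

variable {K : Type*} [Field K]

/-- A matrix of order prime to `p` with a single eigenvalue is scalar. -/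
theorem scalar_of_cube (p : ℕ) [hp : Fact p.Prime] [CharP K p] (hp2 : p ≠ 2) {N : ℕ} (hN : 0 < N)
    (hNp : N.Coprime p) (A : Matrix (Fin 3) (Fin 3) K) (hA : A ^ N = 1) (c : K)
    (h : (A - c • 1) ^ 3 = 0) : ∃ d : K, A = d • 1 := by
  rcases Nat.lt_or_ge N 2 with h1 | h1
  · obtain rfl : N = 1 := by omega
    exact ⟨1, by rw [one_smul, ← hA, pow_one]⟩
  have hc1 : Commute A (c • 1) := (Commute.one_right A).smul_right c
  have h' : (A - c • 1) ^ p = 0 := pow_eq_zero_of_le (by have := hp.out.two_le; omega) h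
  rw [sub_pow_char_of_commute _ hc1, sub_eq_zero, _root_.smul_pow, one_pow] at h'
  obtain ⟨i, -, hi⟩ := Nat.exists_mul_mod_eq_one_of_coprime hNp.symm (by omega)
  refine ⟨(c ^ p) ^ i, ?_⟩
  rw [← one_pow (M := Matrix (Fin 3) (Fin 3) K) i, ← _root_.smul_pow, ← h', ← pow_mul,
    ← Nat.div_add_mod (p * i) N, hi, pow_add, pow_mul, hA, one_pow, one_mul, pow_one]

theorem cube_zero_of_nilpotent {A : Matrix (Fin 3) (Fin 3) K} (hA : IsNilpotent A) : A ^ 3 = 0 := by
  have h := Matrix.isNilpotent_charpoly_sub_pow_of_isNilpotent hA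
  rw [Fintype.card_fin, isNilpotent_iff_eq_zero, sub_eq_zero] at h
  have h2 := Matrix.aeval_self_charpoly A
  rwa [h, map_pow, aeval_X] at h2

/-- An eigenvalue of a matrix with a scalar power. -/
theorem pow_root_eq {n : ℕ} (A : Matrix (Fin n) (Fin n) K) {x : K} (hx : A.charpoly.IsRoot x) {j : ℕ}
    {c : K} (h : A ^ j = c • 1) : x ^ j = c := by
  have hdet : (Matrix.scalar (Fin n) x - A).det = 0 := by rw [← Matrix.eval_charpoly]; exact hx
  obtain ⟨v, hv, hv0⟩ := Matrix.exists_mulVec_eq_zero_iff.2 hdet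
  rw [Matrix.sub_mulVec, sub_eq_zero] at hv0
  have hAv : A *ᵥ v = x • v := by
    rw [← hv0]
    funext i
    simp [Matrix.scalar_apply, Matrix.mulVec_diagonal]
  have hpow : ∀ k, (A ^ k) *ᵥ v = x ^ k • v := by
    intro k
    induction k with
    | zero => simp
    | succ k ih => rw [pow_succ, ← Matrix.mulVec_mulVec, hAv, Matrix.mulVec_smul, ih, smul_smul, pow_succ, mul_comm]
  have := hpow j
  rw [h, Matrix.smul_mulVec, Matrix.one_mulVec] at this
  obtain ⟨i, hi⟩ := Function.ne_iff.1 hv
  exact (mul_right_cancel₀ hi (congrFun this i)).symm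

/-- A matrix whose eigenvalues have the same `j`-th power. -/
theorem cube_of_roots [IsAlgClosed K] (A : Matrix (Fin 3) (Fin 3) K) (j : ℕ) (c : K)
    (h : ∀ x ∈ A.charpoly.roots, x ^ j = c) : (A ^ j - c • 1) ^ 3 = 0 := by
  have hsp : A.charpoly.Splits := IsAlgClosed.splits A.charpoly
  have hcard : A.charpoly.roots.card = 3 := by
    rw [← hsp.natDegree_eq_card_roots, Matrix.charpoly_natDegree_eq_dim, Fintype.card_fin]
  have hprod : A.charpoly = (A.charpoly.roots.map fun x => Polynomial.X - C x).prod :=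
    hsp.eq_prod_roots_of_monic (Matrix.charpoly_monic A)
  have hdvd : A.charpoly ∣ (Polynomial.X ^ j - C c) ^ 3 := by
    suffices h2 : A.charpoly ∣ (Polynomial.X ^ j - C c) ^ A.charpoly.roots.card by
      rw [hcard] at h2; exact h2
    conv_lhs => rw [hprod]
    rw [← Multiset.prod_replicate, ← Multiset.map_const']
    refine Multiset.prod_dvd_prod_of_dvd _ _ fun x hx => ?_
    rw [← h x hx, map_pow]
    exact sub_dvd_pow_sub_pow _ _ j
  obtain ⟨t, ht⟩ := hdvd
  have h2 := congrArg (aeval A) ht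
  rw [map_mul, Matrix.aeval_self_charpoly, zero_mul, map_pow, map_sub, map_pow, aeval_X, aeval_C,
    Algebra.algebraMap_eq_smul_one] at h2
  exact h2

end General

section Arith

theorem gcd_facts {q : ℕ} (hq : 3 ≤ q) :
    Nat.gcd 3 (q + 1) ∣ q + 1 ∧ Nat.gcd 3 (q + 1) ∣ q ^ 2 - 1 ∧ Nat.gcd 3 (q + 1) ∣ q ^ 2 - q + 1 ∧
      Nat.gcd 3 (q + 1) ∣ q - 2 := by
  have h1 : Nat.gcd 3 (q + 1) ∣ q + 1 := Nat.gcd_dvd_right _ _
  have h3 : Nat.gcd 3 (q + 1) ∣ 3 := Nat.gcd_dvd_left _ _
  have h4 : Nat.gcd 3 (q + 1) ∣ q - 2 := by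
    have := Nat.dvd_sub h1 h3
    rwa [show q + 1 - 3 = q - 2 by omega] at this
  refine ⟨h1, ?_, ?_, h4⟩
  · rw [GLOrder.sq_sub_one]; exact h1.mul_right _
  · have e : q ^ 2 - q + 1 = (q + 1) * (q - 2) + 3 := by
      obtain ⟨t, rfl⟩ : ∃ t, q = t + 2 := ⟨q - 2, by omega⟩
      rw [Nat.add_sub_cancel]
      have : (t + 2) ^ 2 = (t + 2 + 1) * t + (t + 2) + 2 := by ring
      omega
    rw [e]
    exact dvd_add (h1.mul_right _) h3

/-- Cancelling the common factor. -/
theorem div_dvd_of_dvd_mul {T B d j : ℕ} (hd : d ∣ T) (hd0 : 0 < d) (hg : Nat.gcd T B ∣ d)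
    (h : T ∣ B * j) : T / d ∣ j := by
  have h1 : T ∣ Nat.gcd T B * j := by
    rw [← Nat.gcd_mul_right]
    exact Nat.dvd_gcd (dvd_mul_right T j) h
  have h2 : T ∣ d * j := h1.trans (Nat.mul_dvd_mul_right hg j)
  obtain ⟨t, rfl⟩ := hd
  rw [Nat.mul_div_cancel_left _ hd0]
  exact Nat.dvd_of_mul_dvd_mul_left hd0 h2

end Arith

section SU3

variable {F : Type*} [Field F] [Fintype F] {q : ℕ}

/-- The matrix of an element of `SU_3`. -/
abbrev su3Mat (q : ℕ) : Cfsg.SU 3 F q →* Matrix (Fin 3) (Fin 3) F where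
  toFun g := ((g : Matrix.SpecialLinearGroup (Fin 3) F) : Matrix (Fin 3) (Fin 3) F)
  map_one' := rfl
  map_mul' _ _ := rfl

/-- The image in `PSU_3` has trivial `j`-th power iff the `j`-th power is scalar. -/
theorem proj_pow_eq_one (hF : Fintype.card F = q ^ 2) (g : Cfsg.SU 3 F q) (j : ℕ) :
    (QuotientGroup.mk' (Subgroup.center (Cfsg.SU 3 F q)) g) ^ j = 1 ↔
      ∃ c : F, su3Mat q g ^ j = c • 1 := by
  rw [← map_pow, QuotientGroup.mk'_apply, QuotientGroup.eq_one_iff, mem_center_SU_iff hF (by norm_num)]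
  refine exists_congr fun c => ?_
  rw [← map_pow, Matrix.scalar_apply, Matrix.smul_one_eq_diagonal]
  rfl

theorem det_su3 (g : Cfsg.SU 3 F q) : (su3Mat q g).det = 1 :=
  (g : Matrix.SpecialLinearGroup (Fin 3) F).2

/-- The roots of the characteristic polynomial of an isometry are permuted by `x ↦ x^{-q}`. -/
theorem roots_twist (hF : Fintype.card F = q ^ 2) (K : Type*) [Field K] [IsAlgClosed K] [Algebra F K]
    (g : Cfsg.SU 3 F q) :
    ((((su3Mat q g).map (algebraMap F K)).charpoly.roots).map fun x => (x ^ q)⁻¹) =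
      ((su3Mat q g).map (algebraMap F K)).charpoly.roots := by
  obtain ⟨p, e, hp, hchar, rfl, he⟩ := exists_prime_pow hF
  haveI := Fact.mk hp
  haveI : CharP K p := charP_of_injective_algebraMap (RingHom.injective (algebraMap F K)) p
  set A := su3Mat (p ^ e) g with hA
  have hu : Unitary.IsUnitary (p ^ e) A := fun u v => SU_apply g u v
  have hb := (isUnitary_iff_orthonormal hF _).1 hu
  have hmul : A.transpose * A.map (Unitary.conjHom hF) = 1 := by
    ext a b
    rw [Matrix.one_apply, ← hb.apply a b]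
    rfl
  set B := A.map (algebraMap F K) with hB
  let φ : K →+* K := iterateFrobenius K p e
  have hφ : ∀ x, φ x = x ^ p ^ e := fun x => iterateFrobenius_def p e x
  have hmulK : B.transpose * B.map φ = 1 := by
    have h2 := congrArg (fun M => M.map (algebraMap F K)) hmul
    simp only [Matrix.map_mul, Matrix.map_one _ (map_zero _) (map_one _)] at h2
    rw [← h2]
    congr 1
    ext a b
    simp [hB, hφ, Unitary.conjHom]
  have hdet : B.det ≠ 0 := by
    rw [hB, ← RingHom.mapMatrix_apply, ← RingHom.map_det, det_su3, map_one]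
    exact one_ne_zero
  have hinv : B.map φ = (B⁻¹).transpose := by
    rw [Matrix.transpose_nonsing_inv]
    exact (Matrix.inv_eq_right_inv hmulK).symm
  have hspB : B.charpoly.Splits := IsAlgClosed.splits B.charpoly
  have h1 : (B.map φ).charpoly.roots = B.charpoly.roots.map φ := by
    rw [Matrix.charpoly_map]
    exact hspB.roots_map φ
  have h2 : (B⁻¹).charpoly.roots = B.charpoly.roots.map fun x => x⁻¹ := by
    have hcard : B.charpoly.roots.card = 3 := by
      rw [← hspB.natDegree_eq_card_roots, Matrix.charpoly_natDegree_eq_dim, Fintype.card_fin]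
    obtain ⟨x, y, z, hxyz⟩ := Multiset.card_eq_three.1 hcard
    have hprod : B.charpoly = (Polynomial.X - C x) * (Polynomial.X - C y) * (Polynomial.X - C z) := by
      rw [hspB.eq_prod_roots_of_monic (Matrix.charpoly_monic B), hxyz]
      simp [Multiset.insert_eq_cons, mul_assoc]
    have hx0 : x * y * z ≠ 0 := by
      intro h0
      refine hdet ?_
      rw [Matrix.det_eq_prod_roots_charpoly_of_splits hspB, hxyz]
      simpa [Multiset.insert_eq_cons, mul_assoc] using h0
    have hx : x ≠ 0 := fun h => hx0 (by simp [h])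
    have hy : y ≠ 0 := fun h => hx0 (by simp [h])
    have hz : z ≠ 0 := fun h => hx0 (by simp [h])
    have hev : ∀ t : K, t ≠ 0 → B⁻¹.charpoly.eval t =
        (t - x⁻¹) * (t - y⁻¹) * (t - z⁻¹) := by
      intro t ht
      have hd : B.det = x * y * z := by
        rw [Matrix.det_eq_prod_roots_charpoly_of_splits hspB, hxyz]
        simp [Multiset.insert_eq_cons, mul_assoc]
      have hfac : Matrix.scalar (Fin 3) t - B⁻¹ = (-t) • ((Matrix.scalar (Fin 3) t⁻¹ - B) * B⁻¹) := by
        rw [Matrix.scalar_apply, Matrix.scalar_apply, ← Matrix.smul_one_eq_diagonal, ← Matrix.smul_one_eq_diagonal,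
          Matrix.sub_mul, Matrix.mul_nonsing_inv _ (isUnit_iff_ne_zero.2 hdet), smul_sub, Matrix.smul_mul,
          Matrix.one_mul, smul_smul, neg_mul, mul_inv_cancel₀ ht, neg_smul, one_smul, neg_smul, sub_neg_eq_add,
          neg_add_eq_sub]
      rw [Matrix.eval_charpoly, hfac, Matrix.det_smul, Fintype.card_fin, Matrix.det_mul, ← Matrix.eval_charpoly,
        hprod, Matrix.det_nonsing_inv, Ring.inverse_eq_inv', hd]
      simp only [eval_mul, eval_sub, eval_X, eval_C]
      field_simp
      ring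
    have hpoly : B⁻¹.charpoly =
        (Polynomial.X - C x⁻¹) * (Polynomial.X - C y⁻¹) * (Polynomial.X - C z⁻¹) := by
      haveI : Infinite K := inferInstance
      refine Polynomial.eq_of_infinite_eval_eq _ _ ?_
      refine Set.Infinite.mono (fun t (ht : t ∈ ({0}ᶜ : Set K)) => ?_) (Set.finite_singleton (0 : K)).infinite_compl
      show B⁻¹.charpoly.eval t = _
      rw [hev t ht]
      simp
    rw [hpoly, hxyz]
    rw [show (Polynomial.X - C x⁻¹) * (Polynomial.X - C y⁻¹) * (Polynomial.X - C z⁻¹) =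
      (({x⁻¹, y⁻¹, z⁻¹} : Multiset K).map fun a => Polynomial.X - C a).prod by
        simp [Multiset.insert_eq_cons, mul_assoc], roots_multiset_prod_X_sub_C]
    simp [Multiset.insert_eq_cons]
  have h3 : B.charpoly.roots.map φ = B.charpoly.roots.map fun x => x⁻¹ := by
    rw [← h1, hinv, Matrix.charpoly_transpose, h2]
  have h4 := congrArg (Multiset.map fun x : K => x⁻¹) h3
  rw [Multiset.map_map, Multiset.map_map] at h4
  simpa [Function.comp_def, hφ] using h4

/-- Semisimple elements. -/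
theorem semisimple_bound (p : ℕ) [hp : Fact p.Prime] [CharP F p] (hp2 : p ≠ 2)
    (hF : Fintype.card F = q ^ 2) (hq : 3 ≤ q) (g : Cfsg.SU 3 F q) (hg : (orderOf g).Coprime p) :
    ∃ j, (j = q + 1 ∨ j = (q ^ 2 - 1) / Nat.gcd 3 (q + 1) ∨ j = (q ^ 2 - q + 1) / Nat.gcd 3 (q + 1)) ∧
      ∃ c : F, su3Mat q g ^ j = c • 1 := by
  classical
  obtain ⟨K, _, _, _⟩ : ∃ (K : Type _) (_ : Field K) (_ : Algebra F K), IsAlgClosed K :=
    ⟨AlgebraicClosure F, inferInstance, inferInstance, inferInstance⟩
  haveI : CharP K p := charP_of_injective_algebraMap (RingHom.injective (algebraMap F K)) p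
  set B := (su3Mat q g).map (algebraMap F K) with hB
  have hspB : B.charpoly.Splits := IsAlgClosed.splits B.charpoly
  have hcard : B.charpoly.roots.card = 3 := by
    rw [← hspB.natDegree_eq_card_roots, Matrix.charpoly_natDegree_eq_dim, Fintype.card_fin]
  have hdet : B.det = 1 := by rw [hB, ← RingHom.mapMatrix_apply, ← RingHom.map_det, det_su3, map_one]
  have hprod : B.charpoly.roots.prod = 1 := by rw [← Matrix.det_eq_prod_roots_charpoly_of_splits hspB, hdet]
  have htw := roots_twist hF K g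
  rw [← hB] at htw
  -- it suffices that the `j`-th powers of the roots agree
  have reduce : ∀ j (c : K), (∀ r ∈ B.charpoly.roots, r ^ j = c) → ∃ c' : F, su3Mat q g ^ j = c' • 1 := by
    intro j c hc
    have hBN : (B ^ j) ^ orderOf g = 1 := by
      have h1 : su3Mat q g ^ orderOf g = 1 := by rw [← map_pow, pow_orderOf_eq_one, map_one]
      have h2 : B ^ orderOf g = 1 := by
        have := congrArg (RingHom.mapMatrix (algebraMap F K)) h1
        rwa [map_pow, map_one] at this
      rw [← pow_mul, mul_comm, pow_mul, h2, one_pow]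
    obtain ⟨d, hd⟩ := scalar_of_cube p hp2 (orderOf_pos g) hg (B ^ j) hBN c (cube_of_roots B j c hc)
    refine ⟨(su3Mat q g ^ j) 0 0, Matrix.ext fun a b => (algebraMap F K).injective ?_⟩
    have h3 : B ^ j = (su3Mat q g ^ j).map (algebraMap F K) := by
      have := map_pow (RingHom.mapMatrix (algebraMap F K)) (su3Mat q g) j
      exact this.symm
    rw [h3] at hd
    have e : ∀ a b, algebraMap F K ((su3Mat q g ^ j) a b) = (d • (1 : Matrix (Fin 3) (Fin 3) K)) a b :=
      fun a b => congrFun (congrFun hd a) b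
    rw [e a b]
    rcases eq_or_ne a b with rfl | hab
    · simp only [Matrix.smul_apply, Matrix.one_apply_eq, smul_eq_mul, mul_one]
      rw [e 0 0]; simp
    · simp [Matrix.one_apply_ne hab]
  obtain ⟨hd1, hd2, hd3, -⟩ := gcd_facts hq
  have hd0 : 0 < Nat.gcd 3 (q + 1) := Nat.gcd_pos_of_pos_left _ (by norm_num)
  set f : K → K := fun x => (x ^ q)⁻¹ with hf
  have hfinv : ∀ a b : K, f a = b → a ^ q = b⁻¹ := fun a b h => by rw [← h]; exact (inv_inv _).symm
  have main : ∀ x y z : K, B.charpoly.roots = x ::ₘ y ::ₘ z ::ₘ 0 → f x ≠ x →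
      ∃ j, (j = q + 1 ∨ j = (q ^ 2 - 1) / Nat.gcd 3 (q + 1) ∨ j = (q ^ 2 - q + 1) / Nat.gcd 3 (q + 1)) ∧
        ∃ c : F, su3Mat q g ^ j = c • 1 := by
    intro x y z hxyz hfx
    -- arrange `f x = y`
    obtain ⟨y, z, hxyz, hfy⟩ : ∃ y' z' : K, B.charpoly.roots = x ::ₘ y' ::ₘ z' ::ₘ 0 ∧ f x = y' := by
      have hmem : f x ∈ B.charpoly.roots := by
        rw [← htw, hxyz]; simp [hf]
      rw [hxyz] at hmem
      simp only [Multiset.mem_cons, Multiset.notMem_zero, or_false] at hmem
      rcases hmem with h | h | h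
      · exact absurd h hfx
      · exact ⟨y, z, hxyz, h⟩
      · exact ⟨z, y, by rw [hxyz, Multiset.cons_swap y z], h⟩
    have hp1 : x * y * z = 1 := by
      have := hprod
      rw [hxyz] at this
      simpa [mul_assoc] using this
    have hrest : f y ::ₘ f z ::ₘ 0 = x ::ₘ z ::ₘ 0 := by
      have h := htw
      rw [hxyz] at h
      simp only [Multiset.map_cons, Multiset.map_zero] at h
      change f x ::ₘ f y ::ₘ f z ::ₘ 0 = _ at h
      rw [hfy, Multiset.cons_swap x y] at h
      exact (Multiset.cons_inj_right y).1 h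
    have hcase : (f y = x ∧ f z = z) ∨ (f y = z ∧ f z = x) := by
      have hm : f y ∈ x ::ₘ z ::ₘ (0 : Multiset K) := by rw [← hrest]; simp
      simp only [Multiset.mem_cons, Multiset.notMem_zero, or_false] at hm
      rcases hm with h | h
      · rw [h, Multiset.cons_inj_right] at hrest
        exact Or.inl ⟨h, by simpa using hrest⟩
      · rw [h, Multiset.cons_swap x z, Multiset.cons_inj_right] at hrest
        exact Or.inr ⟨h, by simpa using hrest⟩
    have hx0 : x ≠ 0 := fun h => by rw [h] at hp1; simp at hp1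
    have hy0 : y ≠ 0 := fun h => by rw [h] at hp1; simp at hp1
    have hz0 : z ≠ 0 := fun h => by rw [h] at hp1; simp at hp1
    have hyx : y = (x ^ q)⁻¹ := hfy.symm
    rcases hcase with ⟨h1, -⟩ | ⟨h1, h2⟩
    · -- a pair
      set j := (q ^ 2 - 1) / Nat.gcd 3 (q + 1) with hj
      have hxq : x ^ (q ^ 2) = x := by
        have h := hfinv _ _ h1
        rw [hyx, inv_pow, ← pow_mul, ← sq, inv_inj] at h
        exact h
      have hxQ : x ^ (q ^ 2 - 1) = 1 := by
        refine mul_right_cancel₀ hx0 ?_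
        rw [← pow_succ, Nat.sub_add_cancel (Nat.one_le_pow _ _ (by omega)), hxq, one_mul]
      have hz : z = x ^ (q - 1) := by
        refine mul_left_cancel₀ (mul_ne_zero hx0 hy0) ?_
        rw [hp1, hyx, mul_assoc x, mul_comm ((x ^ q)⁻¹), ← mul_assoc, ← pow_succ', Nat.sub_add_cancel (by omega),
          mul_inv_cancel₀ (pow_ne_zero _ hx0)]
      have e1 : x ^ ((q + 1) * j) = 1 := by
        have hdvd : q ^ 2 - 1 ∣ (q + 1) * j := by
          obtain ⟨t, ht⟩ := hd1
          refine ⟨t, ?_⟩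
          rw [ht, hj, mul_comm _ t, mul_assoc, Nat.mul_div_cancel' hd2, mul_comm]
        obtain ⟨t, ht⟩ := hdvd
        rw [ht, pow_mul, hxQ, one_pow]
      have e2 : x ^ ((q - 2) * j) = 1 := by
        obtain ⟨-, -, -, hd4⟩ := gcd_facts hq
        obtain ⟨t, ht⟩ := hd4
        rw [ht, hj, mul_comm _ t, mul_assoc, Nat.mul_div_cancel' hd2, mul_comm, pow_mul, hxQ, one_pow]
      refine ⟨j, Or.inr (Or.inl rfl), reduce j (x ^ j) fun r hr => ?_⟩
      rw [hxyz] at hr
      simp only [Multiset.mem_cons, Multiset.notMem_zero, or_false] at hr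
      rcases hr with rfl | rfl | rfl
      · rfl
      · rw [hyx, inv_pow]
        refine inv_eq_of_mul_eq_one_left ?_
        rw [← pow_mul, ← pow_add, show j + q * j = (q + 1) * j by ring, e1]
      · rw [hz, ← pow_mul, show (q - 1) * j = (q - 2) * j + j by
          rw [show q - 1 = q - 2 + 1 by omega, add_mul, one_mul], pow_add, e2, one_mul]
    · -- a triple
      set j := (q ^ 2 - q + 1) / Nat.gcd 3 (q + 1) with hj
      have hzx : z = x ^ (q ^ 2) := by
        rw [← h1, hyx]
        show (((x ^ q)⁻¹) ^ q)⁻¹ = _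
        rw [inv_pow, inv_inv, ← pow_mul, ← sq]
      have hT : x ^ (q ^ 2 - q + 1) = 1 := by
        have hle : q ≤ q ^ 2 := Nat.le_self_pow (by omega) q
        refine mul_right_cancel₀ (pow_ne_zero q hx0) ?_
        rw [one_mul, ← pow_add, show q ^ 2 - q + 1 + q = q ^ 2 + 1 by omega, pow_succ, ← hzx]
        have h := hp1
        rw [hyx] at h
        field_simp at h
        linear_combination h
      have e1 : x ^ ((q + 1) * j) = 1 := by
        obtain ⟨t, ht⟩ := hd1
        rw [ht, hj, mul_comm _ t, mul_assoc, Nat.mul_div_cancel' hd3, mul_comm, pow_mul, hT, one_pow]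
      have e2 : x ^ (q ^ 2 * j) = x ^ j := by
        have hle : 1 ≤ q ^ 2 := Nat.one_le_pow _ _ (by omega)
        rw [show q ^ 2 * j = (q + 1) * j * (q - 1) + j by
          conv_lhs => rw [show q ^ 2 = (q + 1) * (q - 1) + 1 by rw [← GLOrder.sq_sub_one]; omega]
          ring, pow_add, pow_mul, e1, one_pow, one_mul]
      refine ⟨j, Or.inr (Or.inr rfl), reduce j (x ^ j) fun r hr => ?_⟩
      rw [hxyz] at hr
      simp only [Multiset.mem_cons, Multiset.notMem_zero, or_false] at hr
      rcases hr with rfl | rfl | rfl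
      · rfl
      · rw [hyx, inv_pow]
        refine inv_eq_of_mul_eq_one_left ?_
        rw [← pow_mul, ← pow_add, show j + q * j = (q + 1) * j by ring, e1]
      · rw [hzx, ← pow_mul, e2]
  by_cases hall : ∀ x ∈ B.charpoly.roots, f x = x
  · refine ⟨q + 1, Or.inl rfl, reduce _ 1 fun x hx => ?_⟩
    have hx0 : x ≠ 0 := fun h => by
      rw [h] at hx
      have := Multiset.prod_eq_zero hx
      rw [hprod] at this
      exact one_ne_zero this
    rw [pow_succ, hfinv _ _ (hall x hx), inv_mul_cancel₀ hx0]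
  · push Not at hall
    obtain ⟨x, hx, hfx⟩ := hall
    obtain ⟨t, ht⟩ := Multiset.exists_cons_of_mem hx
    obtain ⟨y, z, rfl⟩ := Multiset.card_eq_two.1 (by
      have := hcard
      rw [ht, Multiset.card_cons] at this
      omega : t.card = 2)
    exact main x y z (by rw [ht]; rfl) hfx

/-- Elements with a non-trivial unipotent part. -/
theorem unipotent_bound (p : ℕ) [hp : Fact p.Prime] [CharP F p] (hp2 : p ≠ 2)
    (hF : Fintype.card F = q ^ 2) (g : Cfsg.SU 3 F q) (hg : p ∣ orderOf g) :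
    ∃ c : F, su3Mat q g ^ (p * (q + 1) / Nat.gcd 3 (q + 1)) = c • 1 := by
  classical
  have hd1 : Nat.gcd 3 (q + 1) ∣ q + 1 := Nat.gcd_dvd_right _ _
  have hd0 : 0 < Nat.gcd 3 (q + 1) := Nat.gcd_pos_of_pos_left _ (by norm_num)
  obtain ⟨a, m, hm, hn⟩ := Nat.exists_eq_pow_mul_and_not_dvd (orderOf_pos g).ne' p hp.out.ne_one
  set A := su3Mat q g with hA
  have hgn : A ^ (p ^ a * m) = 1 := by rw [hA, ← map_pow, ← hn, pow_orderOf_eq_one, map_one]
  haveI : CharP (Matrix (Fin 3) (Fin 3) F) p :=
    charP_of_injective_algebraMap (RingHom.injective (algebraMap F _)) p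
  set N := A ^ m - 1 with hNdef
  have hNnil : IsNilpotent N := ⟨p ^ a, by
    rw [hNdef, sub_pow_char_pow_of_commute _ _ (Commute.one_right _), ← pow_mul, mul_comm, hgn, one_pow, sub_self]⟩
  have hN3 := cube_zero_of_nilpotent hNnil
  have hAm : (A ^ m) ^ p = 1 := by
    have h : N ^ p = 0 := pow_eq_zero_of_le (by have := hp.out.two_le; omega) hN3
    rwa [hNdef, sub_pow_char_of_commute _ (Commute.one_right _), one_pow, sub_eq_zero] at h
  have hinj : Function.Injective (su3Mat q : Cfsg.SU 3 F q →* Matrix (Fin 3) (Fin 3) F) :=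
    fun x y h => Subtype.ext (Subtype.ext h)
  have hord : orderOf g = p * m := by
    refine Nat.dvd_antisymm (orderOf_dvd_of_pow_eq_one (hinj ?_)) ?_
    · rw [map_pow, map_one, ← hA, mul_comm, pow_mul, hAm]
    · refine Nat.Coprime.mul_dvd_of_dvd_of_dvd (hp.out.coprime_iff_not_dvd.2 hm) hg ?_
      rw [hn]; exact dvd_mul_left _ _
  have hm0 : 0 < m := Nat.pos_of_ne_zero fun h => hm (h ▸ dvd_zero p)
  have hN0 : N ≠ 0 := fun h => by
    have h1 : g ^ m = 1 := hinj (by rw [map_pow, map_one, ← hA]; exact sub_eq_zero.1 h)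
    have := Nat.le_of_dvd hm0 (hord ▸ orderOf_dvd_of_pow_eq_one h1)
    have := hp.out.two_le
    nlinarith
  set s := A ^ p with hs
  have hsm : s ^ m = 1 := by rw [hs, ← pow_mul, mul_comm, pow_mul, hAm]
  have hsN : Commute s N := ((Commute.refl A).pow_pow p m).sub_right (Commute.one_right _)
  have hmp : m.Coprime p := (hp.out.coprime_iff_not_dvd.2 hm).symm
  set E := (q + 1) / Nat.gcd 3 (q + 1) with hE
  rw [Nat.mul_div_assoc p hd1, pow_mul, ← hs, ← hE]
  have hsinv : ∀ u v, Cfsg.hermForm 3 F q (s *ᵥ u) (s *ᵥ v) = Cfsg.hermForm 3 F q u v := by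
    rw [hs, hA, ← map_pow]; exact fun u v => SU_apply (g ^ p) u v
  have hAinv : ∀ u v, Cfsg.hermForm 3 F q ((A ^ m) *ᵥ u) ((A ^ m) *ᵥ v) = Cfsg.hermForm 3 F q u v := by
    rw [hA, ← map_pow]; exact fun u v => SU_apply (g ^ m) u v
  have H := hermForm_isHerm hF 3
  have hnd := hermForm_nondeg hF 3
  let T := Matrix.toLin' N
  let S := Matrix.toLin' s
  have hTS : ∀ x, T (S x) = S (T x) := fun x => by
    simp only [T, S, Matrix.toLin'_apply, Matrix.mulVec_mulVec, hsN.eq]
  by_cases hN2 : N * N = 0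
  · -- transvection: triangular shape
    obtain ⟨v, hv⟩ : ∃ v, T v ≠ 0 := by
      by_contra h; push Not at h
      exact hN0 (Matrix.toLin'.injective (LinearMap.ext fun x => by rw [h x, map_zero, LinearMap.zero_apply]))
    set w := T v with hw
    have hTT : ∀ x, T (T x) = 0 := fun x => by
      simp only [T, Matrix.toLin'_apply, Matrix.mulVec_mulVec, hN2, Matrix.zero_mulVec]
    have hle : LinearMap.range T ≤ LinearMap.ker T := by rintro _ ⟨x, rfl⟩; exact hTT x
    have hsum := LinearMap.finrank_range_add_finrank_ker T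
    rw [Module.finrank_fin_fun] at hsum
    have hmono := Submodule.finrank_mono hle
    have hr1 : Module.finrank F (LinearMap.range T) = 1 := le_antisymm (by omega)
      (Nat.one_le_iff_ne_zero.2 fun h => hv ((Submodule.eq_bot_iff _).1 (Submodule.finrank_eq_zero.1 h) _ ⟨v, rfl⟩))
    have hline : ∀ x, ∃ c : F, T x = c • w := fun x => by
      obtain ⟨c, hc⟩ := exists_smul_eq_of_finrank_eq_one hr1 (x := (⟨w, v, rfl⟩ : LinearMap.range T))
        (fun h => hv (congrArg Subtype.val h)) (⟨T x, x, rfl⟩ : LinearMap.range T)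
      exact ⟨c, (congrArg Subtype.val hc).symm⟩
    obtain ⟨u, hu, huw⟩ : ∃ u, T u = 0 ∧ ∀ c : F, u ≠ c • w := by
      by_contra hcon
      push Not at hcon
      have : LinearMap.ker T ≤ Submodule.span F {w} := fun x hx =>
        Submodule.mem_span_singleton.2 ((hcon x hx).imp fun c h => h.symm)
      have h1 := Submodule.finrank_mono this
      rw [finrank_span_singleton hv] at h1
      omega
    have hli : LinearIndependent F ![w, u, v] := by
      rw [Fintype.linearIndependent_iff]
      intro c hc i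
      rw [Fin.sum_univ_three] at hc
      change c 0 • w + c 1 • u + c 2 • v = 0 at hc
      have h2 : c 2 = 0 := by
        have h := congrArg T hc
        simp only [map_add, map_smul, hu, hw ▸ hTT v, smul_zero, zero_add, map_zero, smul_eq_zero] at h
        exact h.resolve_right hv
      rw [h2, zero_smul, add_zero] at hc
      have h1 : c 1 = 0 := by
        by_contra h1
        refine huw (-(c 0 / c 1)) ?_
        have h := congrArg ((c 1)⁻¹ • ·) hc
        simp only [smul_add, smul_smul, inv_mul_cancel₀ h1, one_smul, smul_zero] at h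
        rw [neg_smul, eq_neg_iff_add_eq_zero, div_eq_inv_mul, add_comm]
        exact h
      rw [h1, zero_smul, add_zero, smul_eq_zero] at hc
      fin_cases i
      · exact hc.resolve_right hv
      · exact h1
      · exact h2
    let bb := basisOfLinearIndependentOfCardEqFinrank hli (by simp)
    have hbb : ∀ i, bb i = ![w, u, v] i := fun i => by simp [bb]
    set D := LinearMap.toMatrix bb bb S with hD
    have hcol : ∀ i, S (bb i) = D 0 i • w + D 1 i • u + D 2 i • v := fun i => by
      conv_lhs => rw [← bb.sum_repr (S (bb i))]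
      rw [Fin.sum_univ_three, hD, LinearMap.toMatrix_apply, LinearMap.toMatrix_apply, LinearMap.toMatrix_apply,
        hbb 0, hbb 1, hbb 2]
      rfl
    have hcoord : ∀ x : Fin 3 → F, ∀ a b c : F, x = a • w + b • u + c • v → T x = c • w := fun x a b c hx => by
      rw [hx, map_add, map_add, map_smul, map_smul, map_smul, hu, show T w = 0 from hTT v, ← hw]
      simp
    obtain ⟨α, hα⟩ : ∃ α : F, S w = α • w := by
      obtain ⟨c, hc⟩ := hline (S v)
      exact ⟨c, by rw [← hTS] ; exact hc⟩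
    have huniq : ∀ i a b c, S (bb i) = a • w + b • u + c • v → D 0 i = a ∧ D 1 i = b ∧ D 2 i = c := by
      intro i a b c h
      rw [hcol i] at h
      have := Fintype.linearIndependent_iff.1 hli ![D 0 i - a, D 1 i - b, D 2 i - c] (by
        rw [Fin.sum_univ_three]
        show (D 0 i - a) • w + (D 1 i - b) • u + (D 2 i - c) • v = 0
        rw [← sub_eq_zero.2 h]; simp only [sub_smul]; abel)
      exact ⟨sub_eq_zero.1 (this 0), sub_eq_zero.1 (this 1), sub_eq_zero.1 (this 2)⟩
    obtain ⟨h00, h10, h20⟩ := huniq 0 α 0 0 (by rw [hbb]; show S w = _; rw [hα]; simp)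
    have h21 : D 2 1 = 0 := by
      have h := hcoord _ _ _ _ (hcol 1)
      rw [hbb, show ![w, u, v] 1 = u from rfl, hTS, hu, map_zero] at h
      exact (smul_eq_zero.1 h.symm).resolve_right hv
    have h22 : D 2 2 = α := by
      have h := hcoord _ _ _ _ (hcol 2)
      rw [hbb, show ![w, u, v] 2 = v from rfl, hTS, ← hw, hα] at h
      exact (smul_left_injective F hv h).symm
    set β := D 1 1
    have hdetD : α * β * α = 1 := by
      have h : D.det = 1 := by
        rw [hD, LinearMap.det_toMatrix, LinearMap.det_toLin', hs, Matrix.det_pow, hA, det_su3, one_pow]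
      rw [Matrix.det_fin_three, h00, h10, h20, h21, h22] at h
      linear_combination h
    have hα0 : α ≠ 0 := fun h => by rw [h] at hdetD; simp at hdetD
    -- the isometry gives `α^(q+1) = 1`
    have hskew : ∀ x y, Cfsg.hermForm 3 F q (T x) y + Cfsg.hermForm 3 F q x (T y) +
        Cfsg.hermForm 3 F q (T x) (T y) = 0 := by
      intro x y
      have h := hAinv x y
      rw [show A ^ m = 1 + N by rw [hNdef]; abel, Matrix.add_mulVec, Matrix.add_mulVec, Matrix.one_mulVec,
        Matrix.one_mulVec, H.add_left, H.add_right hF, H.add_right hF] at h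
      simp only [T, Matrix.toLin'_apply]
      linear_combination h
    have hww : ∀ x, T x = 0 → Cfsg.hermForm 3 F q w x = 0 := fun x hx => by
      have h := hskew v x
      rw [hx, H.zero_right hF, H.zero_right hF, add_zero, add_zero] at h
      exact h
    have hwv : Cfsg.hermForm 3 F q w v ≠ 0 := fun h0 => hv (hnd w fun y => by
      conv_lhs => rw [← bb.sum_repr y]
      rw [H.sum_right hF, Fin.sum_univ_three, H.smul_right, H.smul_right, H.smul_right, hbb 0, hbb 1, hbb 2]
      simp only [Matrix.cons_val_zero, Matrix.cons_val_one, Matrix.cons_val]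
      rw [hww w (hTT v), hww u hu, h0]
      simp)
    have hαq : α ^ (q + 1) = 1 := by
      have h1 := hsinv w v
      have e1 : s *ᵥ w = α • w := by rw [← hα]; rfl
      have e2 : s *ᵥ v = D 0 2 • w + D 1 2 • u + D 2 2 • v := by
        rw [← hcol 2, hbb]; rfl
      rw [e1, e2, h22, H.smul_left, H.add_right hF, H.add_right hF, H.smul_right, H.smul_right, H.smul_right,
        hww w (hTT v), hww u hu] at h1
      refine mul_right_cancel₀ hwv ?_
      linear_combination h1
    -- semisimple with one eigenvalue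
    have hβ3 : β ^ E = α ^ E := by
      have h3 : α ^ (3 * E) = 1 := by
        obtain ⟨t, ht⟩ : Nat.gcd 3 (q + 1) ∣ 3 := Nat.gcd_dvd_left _ _
        rw [ht, hE, mul_comm _ t, mul_assoc, Nat.mul_div_cancel' hd1, mul_comm, pow_mul, hαq, one_pow]
      refine mul_left_cancel₀ (pow_ne_zero E (mul_ne_zero hα0 hα0)) ?_
      rw [← mul_pow, ← mul_pow, show α * α * β = 1 by linear_combination hdetD, one_pow,
        show α * α * α = α ^ 3 by ring, ← pow_mul, h3]
    have hchi : D.charpoly = (Polynomial.X - C α) * (Polynomial.X - C β) * (Polynomial.X - C α) := by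
      rw [Matrix.charpoly, Matrix.det_fin_three]
      simp [Matrix.charmatrix_apply, Matrix.diagonal_apply, h00, h10, h20, h21, h22, β]
    have hsc : s.charpoly = D.charpoly := by
      rw [hD, LinearMap.charpoly_toMatrix, Matrix.charpoly_toLin']
    obtain ⟨K, _, _, _⟩ : ∃ (K : Type _) (_ : Field K) (_ : Algebra F K), IsAlgClosed K :=
      ⟨AlgebraicClosure F, inferInstance, inferInstance, inferInstance⟩
    haveI : CharP K p := charP_of_injective_algebraMap (RingHom.injective (algebraMap F K)) p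
    have hroots : (s.map (algebraMap F K)).charpoly.roots =
        {algebraMap F K α, algebraMap F K β, algebraMap F K α} := by
      rw [Matrix.charpoly_map, hsc, hchi]
      simp only [Polynomial.map_mul, Polynomial.map_sub, map_X, map_C]
      rw [show (Polynomial.X - C (algebraMap F K α)) * (Polynomial.X - C (algebraMap F K β)) *
          (Polynomial.X - C (algebraMap F K α)) =
        (({algebraMap F K α, algebraMap F K β, algebraMap F K α} : Multiset K).map fun a =>
          Polynomial.X - C a).prod by simp [Multiset.insert_eq_cons, mul_assoc], roots_multiset_prod_X_sub_C]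
    have hc := cube_of_roots (s.map (algebraMap F K)) E (algebraMap F K α ^ E) (by
      intro r hr
      rw [hroots] at hr
      simp only [Multiset.insert_eq_cons, Multiset.mem_cons, Multiset.mem_singleton] at hr
      rcases hr with rfl | rfl | rfl
      · rfl
      · rw [← map_pow, hβ3, map_pow]
      · rfl)
    have hcF : (s ^ E - α ^ E • 1) ^ 3 = 0 := by
      apply Matrix.map_injective (RingHom.injective (algebraMap F K))
      have e : RingHom.mapMatrix (algebraMap F K) ((s ^ E - α ^ E • 1) ^ 3) =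
          ((s.map (algebraMap F K)) ^ E - (algebraMap F K α) ^ E • 1) ^ 3 := by
        rw [map_pow, map_sub, map_pow]
        congr 2
        rw [RingHom.mapMatrix_apply, Matrix.map_smul' _ _ _ (map_mul _), Matrix.map_one _ (map_zero _) (map_one _),
          map_pow]
      show ((s ^ E - α ^ E • 1) ^ 3).map (algebraMap F K) = (0 : Matrix (Fin 3) (Fin 3) F).map (algebraMap F K)
      rw [← RingHom.mapMatrix_apply, e, hc]
      simp
    obtain ⟨d, hd⟩ := scalar_of_cube p hp2 hm0 hmp (s ^ E)
      (by rw [← pow_mul, mul_comm, pow_mul, hsm, one_pow]) _ hcF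
    exact ⟨d, hd⟩
  · -- regular: `s` is scalar
    obtain ⟨x, hx⟩ : ∃ x, T (T x) ≠ 0 := by
      by_contra h; push Not at h
      refine hN2 (Matrix.toLin'.injective (LinearMap.ext fun x => ?_))
      rw [Matrix.toLin'_mul, LinearMap.comp_apply, map_zero, LinearMap.zero_apply]; exact h x
    have h3 : ∀ z, T (T (T z)) = 0 := fun z => by
      have e : N * (N * N) = 0 := by rw [← hN3]; noncomm_ring
      simp only [T, Matrix.toLin'_apply, Matrix.mulVec_mulVec, e, Matrix.zero_mulVec]
    have hli : LinearIndependent F ![x, T x, T (T x)] := by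
      rw [Fintype.linearIndependent_iff]
      intro c hc i
      rw [Fin.sum_univ_three] at hc
      change c 0 • x + c 1 • T x + c 2 • T (T x) = 0 at hc
      have h0 : c 0 = 0 := by
        have h := congrArg (fun z => T (T z)) hc
        simp only [map_add, map_smul, h3, map_zero, smul_zero, add_zero, smul_eq_zero] at h
        exact h.resolve_right hx
      rw [h0, zero_smul, zero_add] at hc
      have h1 : c 1 = 0 := by
        have h := congrArg T hc
        simp only [map_add, map_smul, h3, smul_zero, add_zero, map_zero, smul_eq_zero] at h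
        exact h.resolve_right hx
      rw [h1, zero_smul, zero_add, smul_eq_zero] at hc
      fin_cases i
      · exact h0
      · exact h1
      · exact hc.resolve_right hx
    let B3 := basisOfLinearIndependentOfCardEqFinrank hli (by simp)
    obtain ⟨c0, c1, c2, hSx⟩ : ∃ c0 c1 c2 : F, S x = c0 • x + c1 • T x + c2 • T (T x) := by
      refine ⟨_, _, _, (?_ : S x = B3.repr (S x) 0 • x + B3.repr (S x) 1 • T x + B3.repr (S x) 2 • T (T x))⟩
      conv_lhs => rw [← B3.sum_repr (S x)]
      rw [Fin.sum_univ_three]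
      simp [B3]
    let Z := S - c0 • (1 : Module.End F (Fin 3 → F))
    have hZx : Z x = c1 • T x + c2 • T (T x) := by
      show S x - c0 • x = _
      rw [hSx]; abel
    have hZN : ∀ z, Z (T z) = T (Z z) := fun z => by
      show S (T z) - c0 • T z = T (S z - c0 • z)
      rw [map_sub, map_smul, hTS]
    have hZ3 : ∀ z, Z (Z (Z z)) = 0 := by
      have e1 : Z (Z (Z x)) = 0 := by
        simp only [hZx, map_add, map_smul, hZN, h3, smul_zero, add_zero]
      suffices h : Z.comp (Z.comp Z) = 0 from fun z => LinearMap.congr_fun h z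
      refine B3.ext fun i => ?_
      simp only [B3, coe_basisOfLinearIndependentOfCardEqFinrank, LinearMap.comp_apply, LinearMap.zero_apply]
      fin_cases i <;> simp [hZN, e1]
    have hcube : (s - c0 • 1) ^ 3 = 0 := by
      refine Matrix.toLin'.injective (LinearMap.ext fun z => ?_)
      have e : ∀ y, (s - c0 • 1) *ᵥ y = Z y := fun y => by
        rw [Matrix.sub_mulVec, Matrix.smul_mulVec, Matrix.one_mulVec]; rfl
      rw [map_zero, LinearMap.zero_apply, Matrix.toLin'_apply, pow_succ, pow_succ, pow_one,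
        ← Matrix.mulVec_mulVec, ← Matrix.mulVec_mulVec, e, e, e, hZ3]
    obtain ⟨d, hd⟩ := scalar_of_cube p hp2 hm0 hmp s hsm c0 hcube
    exact ⟨d ^ E, by rw [hd, _root_.smul_pow, one_pow]⟩

theorem exists_fixed_image {E : Type*} [Field E] [Algebra F E] {x : E}
    (hx : x ^ Fintype.card F = x) : ∃ a : F, algebraMap F E a = x := by
  classical
  by_contra h
  push Not at h
  let S := insert x ((Finset.univ : Finset F).image (algebraMap F E))
  have hS : S.card = Fintype.card F + 1 := by
    rw [Finset.card_insert_of_notMem (by simp only [Finset.mem_image, not_exists, not_and]; exact fun a _ => h a),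
      Finset.card_image_of_injective _ (RingHom.injective _), Finset.card_univ]
  have hq : 1 < Fintype.card F := Fintype.one_lt_card
  have hsub : S.val ⊆ (Polynomial.X ^ Fintype.card F - Polynomial.X : E[X]).roots := by
    intro y hy
    rw [mem_roots (FiniteField.X_pow_card_sub_X_ne_zero E hq)]
    rcases Finset.mem_insert.1 hy with rfl | hy'
    · simp [hx]
    · obtain ⟨a, -, rfl⟩ := Finset.mem_image.1 hy'
      simp [← map_pow, FiniteField.pow_card]
  have := card_le_degree_of_subset_roots hsub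
  rw [FiniteField.X_pow_card_sub_X_natDegree_eq E hq] at this
  omega

/-- A unitary matrix with given eigenvalues. -/
theorem exists_with_roots (hF : Fintype.card F = q ^ 2) {E : Type*} [Field E] [Algebra F E]
    (x y z : E) (hxyz : x * y * z = 1) (e1 e2 : F) (he1 : algebraMap F E e1 = x + y + z)
    (he2 : algebraMap F E e2 = x * y + x * z + y * z)
    (he : (x + y + z) ^ q = x * y + x * z + y * z) :
    ∃ g : Cfsg.SU 3 F q, ∀ (j : ℕ) (c : F), su3Mat q g ^ j = c • 1 →
      x ^ j = algebraMap F E c ∧ y ^ j = algebraMap F E c ∧ z ^ j = algebraMap F E c := by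
  have hq2 : e1 ^ q = e2 := (algebraMap F E).injective (by rw [map_pow, he1, he2, he])
  let P : F[X] := Polynomial.X ^ 3 + (C (-e1) * Polynomial.X ^ 2 + C e2 * Polynomial.X + C (-1))
  have hdegr : (C (-e1) * Polynomial.X ^ 2 + C e2 * Polynomial.X + C (-1) : F[X]).degree < (3 : ℕ) := by
    refine lt_of_le_of_lt degree_quadratic_le ?_
    norm_num
  have hm : P.Monic := monic_X_pow_add hdegr
  have hn : P.natDegree = 3 := by
    show (Polynomial.X ^ 3 + _).natDegree = 3
    compute_degree!
  have hsym : ∀ i ≤ 3, P.coeff i ^ q = (-1) ^ 3 * P.coeff (3 - i) := by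
    have h0 : P.coeff 0 = -1 := by simp [P, coeff_X_pow, coeff_X, coeff_one]
    have h1 : P.coeff 1 = e2 := by simp [P, coeff_X_pow, coeff_X, coeff_one]
    have h2 : P.coeff 2 = -e1 := by simp [P, coeff_X_pow, coeff_X, coeff_one]
    have h3 : P.coeff 3 = 1 := by simp [P, coeff_X_pow, coeff_X, coeff_one]
    have hm1 : (-1 : F) ^ q = -1 := by rw [neg_pow_q hF, one_pow]
    intro i hi
    interval_cases i
    · rw [h0, Nat.sub_zero, h3, hm1]; ring
    · rw [h1, show (3 - 1 : ℕ) = 2 from rfl, h2, ← hq2, pow_q_pow_q hF]; ring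
    · rw [h2, show (3 - 2 : ℕ) = 1 from rfl, h1, neg_pow_q hF, hq2]; ring
    · rw [h3, Nat.sub_self, h0, one_pow]; ring
  obtain ⟨M, hM, hMP⟩ := FormClasses.exists_unitary_charpoly hF 3 P hm hn hsym
  have hdet : M.det = 1 := by
    rw [Semisimple.det_eq_coeff, hMP]
    simp [P, coeff_X_pow, coeff_X, coeff_one]
    ring
  refine ⟨⟨⟨M, hdet⟩, (mem_SU_iff _).2 hM⟩, fun j c h => ?_⟩
  have hcp : (M.map (algebraMap F E)).charpoly =
      (Polynomial.X - C x) * (Polynomial.X - C y) * (Polynomial.X - C z) := by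
    rw [Matrix.charpoly_map, hMP]
    simp only [P, Polynomial.map_add, Polynomial.map_neg, Polynomial.map_one, Polynomial.map_mul, Polynomial.map_pow, map_X, map_C, map_neg, map_one,
      he1, he2]
    have := congrArg C hxyz
    simp only [map_mul, map_one] at this
    simp only [map_add, map_mul]
    linear_combination this
  have hpow : (M.map (algebraMap F E)) ^ j = algebraMap F E c • 1 := by
    have e := congrArg (RingHom.mapMatrix (algebraMap F E)) (h : M ^ j = c • 1)
    rw [map_pow, RingHom.mapMatrix_apply, RingHom.mapMatrix_apply, Matrix.map_smul' _ _ _ (map_mul _),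
      Matrix.map_one _ (map_zero _) (map_one _)] at e
    exact e
  refine ⟨?_, ?_, ?_⟩ <;> refine pow_root_eq _ ?_ hpow <;> simp [hcp]

theorem exists_order_target (hF : Fintype.card F = q ^ 2) {T : ℕ} (g : Cfsg.SU 3 F q)
    (h : ∀ j (c : F), su3Mat q g ^ j = c • 1 → T ∣ j) :
    ∀ t, t ∣ T → ∃ y : Cfsg.PSU 3 F q, orderOf y = t := by
  intro t ht
  refine LinSpec.exists_orderOf_eq_of_dvd (y := QuotientGroup.mk' (Subgroup.center (Cfsg.SU 3 F q)) g)
    (ht.trans ?_)
  obtain ⟨c, hc⟩ := (proj_pow_eq_one hF g _).1 (pow_orderOf_eq_one _)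
  exact h _ c hc

theorem lower_split (hF : Fintype.card F = q ^ 2) :
    ∀ t, t ∣ q + 1 → ∃ y : Cfsg.PSU 3 F q, orderOf y = t := by
  obtain ⟨u, hu⟩ := GLOrder.exists_orderOf_of_dvd (G := Fˣ) (d := q + 1) (by
    rw [card_units hF]; exact q_succ_dvd q)
  have hu1 : (u : F) ^ (q + 1) = 1 := by
    rw [← Units.val_pow_eq_pow_val, ← hu, pow_orderOf_eq_one, Units.val_one]
  let d : Fin 3 → F := ![(u : F), ((u⁻¹ : Fˣ) : F), 1]
  have hd : ∀ i, d i ^ (q + 1) = 1 := by
    intro i
    fin_cases i
    · exact hu1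
    · show ((u⁻¹ : Fˣ) : F) ^ (q + 1) = 1
      rw [← Units.val_pow_eq_pow_val, inv_pow, ← hu, pow_orderOf_eq_one, inv_one, Units.val_one]
    · exact one_pow _
  have hdet : (Matrix.diagonal d).det = 1 := by
    rw [Matrix.det_diagonal, Fin.prod_univ_three]; simp [d]
  refine exists_order_target hF ⟨⟨_, hdet⟩, (mem_SU_iff _).2 (isUnitary_diagonal hF hd)⟩ fun j c h => ?_
  change Matrix.diagonal d ^ j = c • 1 at h
  rw [Matrix.diagonal_pow, Matrix.smul_one_eq_diagonal] at h
  have h0 := congrFun (Matrix.diagonal_injective h) 0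
  have h2 := congrFun (Matrix.diagonal_injective h) 2
  simp [d] at h0 h2
  rw [← hu]
  refine orderOf_dvd_of_pow_eq_one (Units.ext ?_)
  rw [Units.val_pow_eq_pow_val, h0, ← h2, Units.val_one]

theorem lower_unip (p : ℕ) [hp : Fact p.Prime] [CharP F p] (hp2 : p ≠ 2) (hF : Fintype.card F = q ^ 2) :
    ∀ t, t ∣ p * (q + 1) / Nat.gcd 3 (q + 1) → ∃ y : Cfsg.PSU 3 F q, orderOf y = t := by
  have hd1 : Nat.gcd 3 (q + 1) ∣ q + 1 := Nat.gcd_dvd_right _ _
  have hd0 : 0 < Nat.gcd 3 (q + 1) := Nat.gcd_pos_of_pos_left _ (by norm_num)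
  obtain ⟨u, hu⟩ := GLOrder.exists_orderOf_of_dvd (G := Fˣ) (d := q + 1) (by
    rw [card_units hF]; exact q_succ_dvd q)
  have hu1 : (u : F) ^ (q + 1) = 1 := by
    rw [← Units.val_pow_eq_pow_val, ← hu, pow_orderOf_eq_one, Units.val_one]
  have hu0 : (u : F) ≠ 0 := u.ne_zero
  obtain ⟨t, ht⟩ := exists_norm_eq hF (c := (-1 : F)) (by rw [neg_pow_q hF, one_pow])
  obtain ⟨δ, hδ0, hδ⟩ := exists_skew hF
  let a : Fin 3 → F := ![1, t, 0]
  have ha : Cfsg.hermForm 3 F q a a = 0 := by
    rw [hermForm_self, Fin.sum_univ_three]; simp [a, ht]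
  have hδ' : δ + δ ^ q = 0 := by rw [hδ, add_neg_cancel]
  let d : Fin 3 → F := ![(u : F), (u : F), ((u : F) ^ 2)⁻¹]
  have hd : ∀ i, d i ^ (q + 1) = 1 := by
    intro i
    fin_cases i
    · exact hu1
    · exact hu1
    · show (((u : F) ^ 2)⁻¹) ^ (q + 1) = 1
      rw [inv_pow, ← pow_mul, mul_comm, pow_mul, hu1, one_pow, inv_one]
  let U := Cfsg.unitaryTransvection 3 q a δ
  have hdet : (Matrix.diagonal d * U).det = 1 := by
    rw [Matrix.det_mul, Matrix.det_diagonal, Fin.prod_univ_three, transvection_det a ha, mul_one]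
    simp [d, sq, hu0]
    field_simp
  intro r hr
  refine exists_order_target hF ⟨⟨_, hdet⟩, (mem_SU_iff _).2
    ((isUnitary_diagonal hF hd).mul (transvection_isUnitary hF a ha hδ'))⟩ (fun j c h => ?_) r hr
  change (Matrix.diagonal d * U) ^ j = c • 1 at h
  have hUe : ∀ (c : F) i k, Cfsg.unitaryTransvection 3 q a c i k =
      (1 : Matrix (Fin 3) (Fin 3) F) i k + c * (a i * a k ^ q) := fun c i k => by
    simp [Cfsg.unitaryTransvection, Matrix.vecMulVec_apply]
  have hcomm : Commute (Matrix.diagonal d) U := by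
    show _ * _ = _ * _
    ext i k
    rw [Matrix.diagonal_mul, Matrix.mul_diagonal, show U i k = _ from hUe δ i k]
    fin_cases i <;> fin_cases k <;> simp [a, d, Matrix.one_apply, zero_pow_q hF] <;> ring
  have hUpow : ∀ j : ℕ, U ^ j = Cfsg.unitaryTransvection 3 q a ((j : F) * δ) := by
    intro j
    induction j with
    | zero => simp [transvection_zero]
    | succ j ih => rw [pow_succ, ih, transvection_mul a ha]; congr 1; push_cast; ring
  rw [hcomm.mul_pow, Matrix.diagonal_pow, hUpow, Matrix.smul_one_eq_diagonal] at h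
  have h01 := congrFun (congrFun h 0) 1
  have h00 := congrFun (congrFun h 0) 0
  have h22 := congrFun (congrFun h 2) 2
  have ht0 : t ≠ 0 := fun h0 => by rw [h0, zero_pow (Nat.succ_ne_zero q)] at ht; simp at ht
  rw [Matrix.diagonal_mul, hUe] at h01 h00 h22
  simp [a, d, Pi.pow_apply, zero_pow_q hF, hu0, hδ0, ht0] at h01 h00 h22
  have hj : (j : F) = 0 := h01
  rw [hj] at h00
  simp at h00
  have h3 : (u : F) ^ (3 * j) = 1 := by
    rw [← h00] at h22
    have h4 : ((u : F) ^ 2) ^ j * (u : F) ^ j = 1 := by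
      rw [← h22, mul_inv_cancel₀ (pow_ne_zero _ (pow_ne_zero _ hu0))]
    rw [← pow_mul, ← pow_add] at h4
    rw [show 3 * j = 2 * j + j by ring]; exact h4
  have hj1 : (q + 1) / Nat.gcd 3 (q + 1) ∣ j := by
    refine div_dvd_of_dvd_mul hd1 hd0 (by rw [Nat.gcd_comm]) ?_
    rw [← hu]
    exact orderOf_dvd_of_pow_eq_one (Units.ext (by rw [Units.val_pow_eq_pow_val, h3, Units.val_one]))
  rw [Nat.mul_div_assoc p hd1]
  refine Nat.Coprime.mul_dvd_of_dvd_of_dvd ?_ ((CharP.cast_eq_zero_iff F p j).1 hj) hj1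
  obtain ⟨p', e, hp', hchar', hq, he⟩ := exists_prime_pow hF
  obtain rfl := CharP.eq F hchar' ‹CharP F p›
  refine Nat.Coprime.coprime_dvd_right (Nat.div_dvd_of_dvd hd1) (hp.out.coprime_iff_not_dvd.2 fun hh => ?_)
  have : p' ∣ q := hq ▸ dvd_pow_self p' (by omega)
  exact hp.out.ne_one (Nat.dvd_one.1 ((Nat.dvd_add_right this).1 hh))

theorem lower_pair (hF : Fintype.card F = q ^ 2) (hq : 3 ≤ q) :
    ∀ t, t ∣ (q ^ 2 - 1) / Nat.gcd 3 (q + 1) → ∃ y : Cfsg.PSU 3 F q, orderOf y = t := by
  obtain ⟨u, hu⟩ := IsCyclic.exists_ofOrder_eq_natCard (α := Fˣ)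
  rw [card_units hF] at hu
  set x := (u : F) with hx
  have hx0 : x ≠ 0 := u.ne_zero
  obtain ⟨-, hd2, -, -⟩ := gcd_facts hq
  have hd0 : 0 < Nat.gcd 3 (q + 1) := Nat.gcd_pos_of_pos_left _ (by norm_num)
  set y := (x ^ q)⁻¹ with hy
  set z := x ^ (q - 1) with hz
  have hxy : x * y * z = 1 := by
    rw [hy, hz, mul_comm x, mul_assoc, ← pow_succ', Nat.sub_add_cancel (by omega),
      inv_mul_cancel₀ (pow_ne_zero _ hx0)]
  have hy0 : y ≠ 0 := inv_ne_zero (pow_ne_zero _ hx0)
  have hz0 : z ≠ 0 := pow_ne_zero _ hx0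
  have hxq : x ^ q = y⁻¹ := by rw [hy, inv_inv]
  have hyq : y ^ q = x⁻¹ := by rw [hy, inv_pow, pow_q_pow_q hF]
  have hzq : z ^ q = z⁻¹ := by
    refine eq_inv_of_mul_eq_one_left ?_
    rw [← pow_succ, hz, ← pow_mul, mul_comm, ← GLOrder.sq_sub_one, ← hu, hx, ← Units.val_pow_eq_pow_val,
      pow_orderOf_eq_one, Units.val_one]
  obtain ⟨g, hg⟩ := exists_with_roots hF (E := F) x y z hxy (x + y + z) (x * y + x * z + y * z) rfl rfl (by
    rw [add_pow_q hF, add_pow_q hF, hxq, hyq, hzq]
    field_simp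
    linear_combination -(x * y + x * z + y * z) * hxy)
  refine exists_order_target hF g fun j c h => ?_
  obtain ⟨h1, h2, h3⟩ := hg j c h
  rw [← h1] at h2 h3
  have e1 : x ^ ((q + 1) * j) = 1 := by
    rw [hy, inv_pow] at h2
    rw [show (q + 1) * j = q * j + j by ring, pow_add, pow_mul, ← h2,
      mul_inv_cancel₀ (pow_ne_zero _ (pow_ne_zero _ hx0))]
  have e2 : x ^ ((q - 2) * j) = 1 := by
    refine mul_right_cancel₀ (pow_ne_zero j hx0) ?_
    rw [← pow_add, show (q - 2) * j + j = (q - 1) * j by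
      rw [show q - 1 = q - 2 + 1 by omega, add_mul, one_mul], one_mul, pow_mul, ← hz, h3]
  have hord : ∀ k, x ^ k = 1 → q ^ 2 - 1 ∣ k := fun k hk => hu ▸ orderOf_dvd_of_pow_eq_one
    (Units.ext (by rw [Units.val_pow_eq_pow_val, Units.val_one]; exact hk))
  refine div_dvd_of_dvd_mul hd2 hd0 (B := Nat.gcd (q + 1) (q - 2)) ?_ ?_
  · refine (Nat.gcd_dvd_right _ _).trans (Nat.dvd_gcd ?_ (Nat.gcd_dvd_left _ _))
    have := Nat.dvd_sub (Nat.gcd_dvd_left (q + 1) (q - 2)) (Nat.gcd_dvd_right (q + 1) (q - 2))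
    rwa [show q + 1 - (q - 2) = 3 by omega] at this
  · rw [← Nat.gcd_mul_right]
    exact Nat.dvd_gcd (hord _ e1) (hord _ e2)

theorem lower_triple (p : ℕ) [Fact p.Prime] [CharP F p] (hF : Fintype.card F = q ^ 2) (hq : 3 ≤ q) :
    ∀ t, t ∣ (q ^ 2 - q + 1) / Nat.gcd 3 (q + 1) → ∃ y : Cfsg.PSU 3 F q, orderOf y = t := by
  obtain ⟨E, _, _, _, hcardE⟩ : ∃ (E : Type) (_ : Field E) (_ : Algebra F E) (_ : Finite E),
      Nat.card Eˣ = q ^ 6 - 1 := ⟨FiniteField.Extension F p 3, inferInstance, inferInstance, inferInstance, by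
    rw [Nat.card_units, FiniteField.natCard_extension F p 3, Nat.card_eq_fintype_card, hF, ← pow_mul]⟩
  set T := q ^ 2 - q + 1 with hT
  have hle : q ≤ q ^ 2 := Nat.le_self_pow (by omega) q
  have hT3 : q ^ 3 + 1 = (q + 1) * T := by
    have e : T + q = q ^ 2 + 1 := by omega
    nlinarith [e]
  obtain ⟨u, hu⟩ := GLOrder.exists_orderOf_of_dvd (G := Eˣ) (d := T) (by
    rw [hcardE, show (q ^ 6 - 1) = (q ^ 3) ^ 2 - 1 by rw [← pow_mul], GLOrder.sq_sub_one, hT3,
      mul_comm (q + 1) T, mul_assoc]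
    exact dvd_mul_right _ _)
  set x := (u : E) with hx
  have hx0 : x ≠ 0 := u.ne_zero
  have hxT : x ^ T = 1 := by rw [hx, ← Units.val_pow_eq_pow_val, ← hu, pow_orderOf_eq_one, Units.val_one]
  obtain ⟨-, -, hd3, -⟩ := gcd_facts hq
  have hd0 : 0 < Nat.gcd 3 (q + 1) := Nat.gcd_pos_of_pos_left _ (by norm_num)
  obtain ⟨p', e, hp', hchar', hqe, he⟩ := exists_prime_pow hF
  haveI := Fact.mk hp'
  haveI : CharP E p' := charP_of_injective_algebraMap (RingHom.injective (algebraMap F E)) p'
  set y := (x ^ q)⁻¹ with hy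
  set z := x ^ (q ^ 2) with hz
  have hy0 : y ≠ 0 := inv_ne_zero (pow_ne_zero _ hx0)
  have hz0 : z ≠ 0 := pow_ne_zero _ hx0
  have hxy : x * y * z = 1 := by
    have h : x * z = x ^ q := by
      rw [hz, ← pow_succ', show q ^ 2 + 1 = T + q by omega, pow_add, hxT, one_mul]
    rw [mul_assoc, mul_comm y, ← mul_assoc, h, hy, mul_inv_cancel₀ (pow_ne_zero _ hx0)]
  have hxq : x ^ q = y⁻¹ := by rw [hy, inv_inv]
  have hyq : y ^ q = z⁻¹ := by rw [hy, inv_pow, ← pow_mul, hz, sq]
  have hzq : z ^ q = x⁻¹ := by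
    refine eq_inv_of_mul_eq_one_left ?_
    rw [hz, ← pow_mul, ← pow_succ, show q ^ 2 * q = q ^ 3 by ring, hT3, mul_comm, pow_mul, hxT, one_pow]
  have hadd : ∀ a b : E, (a + b) ^ q = a ^ q + b ^ q := fun a b => by rw [hqe]; exact add_pow_char_pow a b p' e
  have he1 : (x + y + z) ^ q = x * y + x * z + y * z := by
    rw [hadd, hadd, hxq, hyq, hzq]
    field_simp
    linear_combination -(x * y + x * z + y * z) * hxy
  have he2 : (x * y + x * z + y * z) ^ q = x + y + z := by
    rw [hadd, hadd, mul_pow, mul_pow, mul_pow, hxq, hyq, hzq]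
    field_simp
    linear_combination -(x + y + z) * hxy
  obtain ⟨a1, ha1⟩ := exists_fixed_image (F := F) (x := x + y + z) (by rw [hF, sq, pow_mul, he1, he2])
  obtain ⟨g, hg⟩ := exists_with_roots hF x y z hxy a1 (a1 ^ q) ha1 (by rw [map_pow, ha1, he1]) he1
  refine exists_order_target hF g fun j c h => ?_
  obtain ⟨h1, h2, -⟩ := hg j c h
  rw [← h1] at h2
  have e1 : x ^ ((q + 1) * j) = 1 := by
    rw [hy, inv_pow] at h2
    rw [show (q + 1) * j = q * j + j by ring, pow_add, pow_mul, ← h2,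
      mul_inv_cancel₀ (pow_ne_zero _ (pow_ne_zero _ hx0))]
  refine div_dvd_of_dvd_mul hd3 hd0 (B := q + 1) ?_ ?_
  · refine Nat.dvd_gcd ?_ (Nat.gcd_dvd_right _ _)
    have hTe : T = (q + 1) * (q - 2) + 3 := by
      obtain ⟨t, rfl⟩ : ∃ t, q = t + 2 := ⟨q - 2, by omega⟩
      rw [hT, Nat.add_sub_cancel]
      have : (t + 2) ^ 2 = (t + 2 + 1) * t + (t + 2) + 2 := by ring
      omega
    have := Nat.dvd_sub (Nat.gcd_dvd_left T (q + 1)) ((Nat.gcd_dvd_right T (q + 1)).mul_right (q - 2))
    rw [hTe, Nat.add_sub_cancel_left] at this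
    rw [hTe]; exact this
  · rw [← hu]
    exact orderOf_dvd_of_pow_eq_one (Units.ext (by rw [Units.val_pow_eq_pow_val, Units.val_one]; exact e1))

end SU3

/-- The set of element orders of PSU(3, q) for an odd prime power q = p^n: writing d = gcd(3, q + 1), a positive integer is the order of some element exactly when it divides one of q + 1, p(q + 1)/d, (q² − 1)/d, (q² − q + 1)/d. -/
theorem result {F : Type*} [Field F] [Fintype F] (p : ℕ) [Fact p.Prime] [CharP F p] (hp : p ≠ 2) (q : ℕ) (hF : Fintype.card F = q ^ 2) :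
    Set.range (orderOf : Cfsg.PSU 3 F q → ℕ) =
      {s : ℕ | s ∣ q + 1} ∪ {s : ℕ | s ∣ p * (q + 1) / Nat.gcd 3 (q + 1)} ∪
        {s : ℕ | s ∣ (q ^ 2 - 1) / Nat.gcd 3 (q + 1)} ∪ {s : ℕ | s ∣ (q ^ 2 - q + 1) / Nat.gcd 3 (q + 1)} := by
  obtain ⟨p', e, hp', hchar', hqe, he⟩ := Unitary.exists_prime_pow hF
  have hpp : p' = p := CharP.eq F hchar' ‹CharP F p›
  clear hchar'
  have hq : 3 ≤ q := by
    have h2 : 3 ≤ p := by have := (Fact.out : p.Prime).two_le; omega
    calc 3 ≤ p := h2
      _ ≤ p ^ e := Nat.le_self_pow (by omega) p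
      _ = q := by rw [hqe, hpp]
  ext n
  simp only [Set.mem_range, Set.mem_union, Set.mem_ofPred_eq]
  constructor
  · rintro ⟨y, rfl⟩
    obtain ⟨g, rfl⟩ := QuotientGroup.mk'_surjective (Subgroup.center (Cfsg.SU 3 F q)) y
    by_cases hg : p ∣ orderOf g
    · refine Or.inl (Or.inl (Or.inr ?_))
      exact orderOf_dvd_of_pow_eq_one ((proj_pow_eq_one hF g _).2 (unipotent_bound p hp hF g hg))
    · obtain ⟨j, hj, hc⟩ := semisimple_bound p hp hF hq g
        ((Fact.out : p.Prime).coprime_iff_not_dvd.2 hg).symm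
      have h := orderOf_dvd_of_pow_eq_one ((proj_pow_eq_one hF g j).2 hc)
      rcases hj with rfl | rfl | rfl
      · exact Or.inl (Or.inl (Or.inl h))
      · exact Or.inl (Or.inr h)
      · exact Or.inr h
  · rintro (((h | h) | h) | h)
    · exact lower_split hF n h
    · exact lower_unip p hp hF n h
    · exact lower_pair hF hq n h
    · exact lower_triple p hF hq n h

end Cfsg.Agent.S2366
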