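import Cfsg.Statements.S2367
import Cfsg.Agent.EqLemmas

set_option autoImplicit false
open Cfsg

namespace Cfsg.Agent.S2367

def smallPrimes : List ℕ :=
  [2, 3, 5, 7, 11, 13, 17, 19, 23, 29, 31, 37, 41, 43, 47, 53, 59, 61, 67, 71]

theorem of_check {N p : ℕ} (hp : p.Prime) (hodd : p ≠ 2) (h3 : N.factorization p = 3) (hN : N ≠ 0)
    (h : N ∣ smallPrimes.prod ^ 50 ∧
      ∀ q ∈ smallPrimes, q ≠ 2 → q ^ 3 ∣ N → ¬ q ^ 4 ∣ N → ∃ a < 64, 2 ^ a ∣ N ∧ q ^ 3 < 2 ^ a) :
    p ^ 3 < 2 ^ N.factorization 2 := by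
  obtain ⟨hd, hall⟩ := h
  have hpN : p ∣ N := (dvd_pow_self p (by norm_num : (3 : ℕ) ≠ 0)).trans
    ((hp.pow_dvd_iff_le_factorization hN).2 h3.ge)
  have hmem : p ∈ smallPrimes := by
    obtain ⟨q, hq, hpq⟩ := (Nat.prime_iff.1 hp).dvd_prod_iff.1 (hp.dvd_of_dvd_pow (hpN.trans hd))
    have hqp : q.Prime := by
      simp only [smallPrimes, List.mem_cons, List.not_mem_nil, or_false] at hq
      rcases hq with h | h | h | h | h | h | h | h | h | h | h | h | h | h | h | h | h | h | h | h <;>
        subst h <;> norm_num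
    rwa [(Nat.prime_dvd_prime_iff_eq hp hqp).1 hpq]
  obtain ⟨a, -, ha, hlt⟩ := hall p hmem hodd ((hp.pow_dvd_iff_le_factorization hN).2 h3.ge)
    (fun h4 => by have := (hp.pow_dvd_iff_le_factorization hN).1 h4; omega)
  exact hlt.trans_le (Nat.pow_le_pow_right (by norm_num)
    ((Nat.prime_two.pow_dvd_iff_le_factorization hN).1 ha))

theorem cube_lt : ∀ s, 2 ≤ s → (2 * s + 1) ^ 3 < 2 ^ (4 * s) := by
  intro s hs
  induction s, hs using Nat.le_induction with
  | base => norm_num
  | succ s hs ih =>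
    have h1 : (2 * (s + 1) + 1) ^ 3 ≤ (2 * (2 * s + 1)) ^ 3 := Nat.pow_le_pow_left (by omega) 3
    have h2 : 2 ^ (4 * (s + 1)) = 16 * 2 ^ (4 * s) := by rw [Nat.mul_succ, pow_add]; ring
    rw [mul_pow] at h1
    omega

theorem alternating_case {n p : ℕ} (hp : p.Prime) (hodd : p ≠ 2) (hn : 2 ≤ n)
    (h3 : ((n.factorial) / 2).factorization p = 3) : p ^ 3 < 2 ^ ((n.factorial) / 2).factorization 2 := by
  haveI := Fact.mk hp
  have h2n : 2 ∣ n.factorial := Nat.dvd_factorial (by norm_num) hn
  rw [Nat.factorization_div h2n, Finsupp.tsub_apply, Nat.Prime.factorization Nat.prime_two] at h3 ⊢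
  rw [Finsupp.single_eq_of_ne hodd, Nat.sub_zero] at h3
  rw [Finsupp.single_eq_same]
  have hn3 : 3 * p ≤ n := by
    by_contra hc
    rw [Nat.factorization_factorial hp (Nat.lt_succ_self (Nat.log p n))] at h3
    have hlog : Nat.log p n < 2 := by
      refine Nat.log_lt_of_lt_pow (by omega) ?_
      have := hp.two_le
      have : 3 * p ≤ p ^ 2 := by rw [sq]; exact Nat.mul_le_mul_right p (by omega)
      omega
    have hsub : ∑ i ∈ Finset.Ico 1 (Nat.log p n).succ, n / p ^ i ≤ ∑ i ∈ Finset.Ico 1 2, n / p ^ i :=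
      Finset.sum_le_sum_of_subset (Finset.Ico_subset_Ico le_rfl (by omega))
    simp at hsub h3
    have := (Nat.div_lt_iff_lt_mul hp.pos).2 (show n < 3 * p by omega)
    omega
  have hv : n / 2 + n / 4 ≤ n.factorial.factorization 2 := by
    have h4 : 2 ≤ Nat.log 2 n := Nat.le_log_of_pow_le (by norm_num) (by have := hp.two_le; omega)
    rw [Nat.factorization_factorial Nat.prime_two (Nat.lt_succ_self (Nat.log 2 n))]
    refine le_trans ?_ (Finset.sum_le_sum_of_subset (Finset.Ico_subset_Ico le_rfl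
      (show 3 ≤ (Nat.log 2 n).succ by omega)))
    simp [Finset.sum_Ico_eq_sum_range, Finset.sum_range_succ]
  rcases hp.eq_two_or_odd with h | h
  · exact absurd h hodd
  · obtain ⟨s, rfl⟩ : ∃ s, p = 2 * s + 1 := ⟨p / 2, by omega⟩
    by_cases hs : 2 ≤ s
    · exact (cube_lt s hs).trans_le (Nat.pow_le_pow_right (by norm_num) (by omega))
    · have hs1 : s = 1 := by have := hp.two_le; omega
      subst hs1
      calc (2 * 1 + 1) ^ 3 < 2 ^ 5 := by norm_num
        _ ≤ _ := Nat.pow_le_pow_right (by norm_num) (by omega)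

/-- Let G be an alternating group of degree at least 5 or a simple group with the order of one of the 26 sporadic groups, and let p be an odd prime such that p³ is the exact power of p dividing the order of G. Then p³ is less than the 2-part of the order of G. -/
theorem result {G : Type*} [Group G] [Finite G] (hG : Cfsg.IsAlternating G ∨ Cfsg.IsSporadic G)
    (p : ℕ) (hp : p.Prime) (hodd : p ≠ 2) (h3 : (Nat.card G).factorization p = 3) :
    p ^ 3 < 2 ^ (Nat.card G).factorization 2 := by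
  rcases hG with ⟨n, hn, ⟨e⟩⟩ | hS
  · haveI : Nontrivial (Fin n) := Fin.nontrivial_iff_two_le.2 (by omega)
    rw [Nat.card_congr e.toEquiv, nat_card_alternatingGroup, Nat.card_fin] at h3 ⊢
    exact alternating_case hp hodd (by omega) h3
  · have hN : Nat.card G ≠ 0 := Nat.card_pos.ne'
    unfold Cfsg.IsSporadic at hS
    rcases hS with h | h | h | h | h | h | h | h | h | h | h | h | h | h | h | h | h | h | h | h | h |
      h | h | h | h | h <;>
    · rw [h.2] at h3 hN ⊢
      exact of_check hp hodd h3 hN (by decide +kernel)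

end Cfsg.Agent.S2367
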