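import Cfsg.Statements.S2368
import Cfsg.Agent.EqLemmas

set_option autoImplicit false
open Cfsg

namespace Cfsg.Agent.S2368

open Matrix

theorem pow_card_eq_zero {F : Type*} [Field F] {m : ℕ} (N : Matrix (Fin m) (Fin m) F)
    (h : IsNilpotent N) : N ^ m = 0 := by
  have h' := sub_eq_zero.1 (Matrix.isNilpotent_charpoly_sub_pow_of_isNilpotent h).eq_zero
  have := Matrix.aeval_self_charpoly N
  rw [h', map_pow, Polynomial.aeval_X, Fintype.card_fin] at this
  exact this

def shift (F : Type*) [Field F] (m k : ℕ) : Matrix (Fin m) (Fin m) F :=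
  Matrix.of fun a b => if a.val + k = b.val then 1 else 0

theorem shift_pow (F : Type*) [Field F] (m k : ℕ) : shift F m 1 ^ k = shift F m k := by
  induction k with
  | zero => ext a b; simp [shift, Matrix.one_apply, Fin.ext_iff]
  | succ k ih =>
    rw [pow_succ, ih]
    ext a b
    simp only [Matrix.mul_apply, shift, Matrix.of_apply]
    by_cases h : a.val + (k + 1) = b.val
    · rw [if_pos h, Finset.sum_eq_single (⟨a.val + k, by omega⟩ : Fin m)]
      · simp; omega
      · intro c _ hc
        rw [if_neg fun he => hc (Fin.ext he.symm), zero_mul]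
      · simp
    · rw [if_neg h]
      apply Finset.sum_eq_zero
      intro c _
      split_ifs <;> first | omega | simp


/-- Let F be a finite field of characteristic p and m ≥ 1. Every element of GL(m, F) of p-power order has order less than p·m, and GL(m, F) has an element of p-power order at least m; so the largest order of a p-element of GL(m, F) is the least power of p that is at least m. -/
theorem result {F : Type*} [Field F] [Fintype F] (p : ℕ) [Fact p.Prime] [CharP F p] (m : ℕ) (hm : 1 ≤ m) :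
    (∀ g : Matrix.GeneralLinearGroup (Fin m) F, (∃ j : ℕ, orderOf g = p ^ j) → orderOf g < p * m) ∧
      ∃ g : Matrix.GeneralLinearGroup (Fin m) F, (∃ j : ℕ, orderOf g = p ^ j) ∧ m ≤ orderOf g := by
  have hp : p.Prime := Fact.out
  haveI : Nonempty (Fin m) := ⟨⟨0, hm⟩⟩
  refine ⟨fun g ⟨j, hj⟩ => ?_, ?_⟩
  · set N := (g : Matrix (Fin m) (Fin m) F) - 1 with hN
    have hsub : ∀ i, N ^ p ^ i = ((g ^ p ^ i : GL (Fin m) F) : Matrix (Fin m) (Fin m) F) - 1 := fun i => by
      rw [hN, sub_pow_char_pow_of_commute _ i (Commute.one_right _), one_pow, Units.val_pow_eq_pow_val]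
    have hNm : N ^ m = 0 := pow_card_eq_zero N ⟨p ^ j, by
      rw [hsub, ← hj, pow_orderOf_eq_one, Units.val_one, sub_self]⟩
    have hex : ∃ i, m ≤ p ^ i := ⟨m, (Nat.lt_pow_self hp.one_lt).le⟩
    obtain ⟨i, hi, hmin⟩ : ∃ i, m ≤ p ^ i ∧ ∀ i' < i, ¬ m ≤ p ^ i' :=
      ⟨Nat.find hex, Nat.find_spec hex, fun i' h => Nat.find_min hex h⟩
    have hdiv : orderOf g ∣ p ^ i := orderOf_dvd_of_pow_eq_one (Units.ext (by
      have h := hsub i
      rw [pow_eq_zero_of_le hi hNm, eq_comm, sub_eq_zero] at h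
      simpa using h))
    refine (Nat.le_of_dvd (pow_pos hp.pos i) hdiv).trans_lt ?_
    rcases i with _ | i
    · rw [pow_zero] at hi ⊢
      calc 1 < p := hp.one_lt
        _ ≤ p * m := Nat.le_mul_of_pos_right p hm
    · rw [pow_succ']
      exact Nat.mul_lt_mul_of_pos_left (Nat.lt_of_not_le (hmin i (Nat.lt_succ_self i))) hp.pos
  · have hN : shift F m 1 ^ m = 0 := by
      rw [shift_pow]
      ext a b
      simp [shift]; omega
    obtain ⟨g, hg⟩ := (IsNilpotent.isUnit_one_add (⟨m, hN⟩ : IsNilpotent (shift F m 1)))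
    obtain ⟨i, hi⟩ : ∃ i, m ≤ p ^ i := ⟨m, (Nat.lt_pow_self hp.one_lt).le⟩
    have hdiv : orderOf g ∣ p ^ i := orderOf_dvd_of_pow_eq_one (Units.ext (by
      rw [Units.val_pow_eq_pow_val, hg, add_pow_char_pow_of_commute _ i (Commute.one_left _),
        one_pow, pow_eq_zero_of_le hi hN, add_zero, Units.val_one]))
    obtain ⟨j, -, hj⟩ := (Nat.dvd_prime_pow hp).1 hdiv
    refine ⟨g, ⟨j, hj⟩, ?_⟩
    rw [hj]
    by_contra hlt
    have h0 : shift F m 1 ^ p ^ j = 0 := by
      have h1 : (g : Matrix (Fin m) (Fin m) F) ^ p ^ j = 1 := by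
        rw [← Units.val_pow_eq_pow_val, ← hj, pow_orderOf_eq_one, Units.val_one]
      rw [hg, add_pow_char_pow_of_commute _ j (Commute.one_left _), one_pow] at h1
      exact add_left_cancel (h1.trans (add_zero _).symm)
    rw [shift_pow] at h0
    have := congrFun (congrFun h0 ⟨0, hm⟩) ⟨p ^ j, by omega⟩
    simp [shift] at this

end Cfsg.Agent.S2368
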