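import Cfsg.Statements.S2369
import Cfsg.Agent.Lib.ReeInvol.Stab

set_option autoImplicit false
open Cfsg

namespace Cfsg.Agent.S2369

/-- Let q = 2^(2m+1) with m ≥ 1 and let a, b be commuting elements of the large Ree group ²F₄(q) with a an involution. Then every prime divisor of the order of b divides q(q⁴ − 1). -/
theorem result {K : Type*} [Field K] [Fintype K] (m : ℕ) (hm : 1 ≤ m) (hK : Fintype.card K = 2 ^ (2 * m + 1))
    (a b : ↥(Cfsg.Lie.twistedF4 K (2 ^ m))) (ha : orderOf a = 2) (hab : Commute a b) :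
    (orderOf b).primeFactors ⊆ (2 ^ (2 * m + 1) * ((2 ^ (2 * m + 1)) ^ 4 - 1)).primeFactors := by
  have := Cfsg.Agent.Twisted.F4.charP_f4 hK
  set q := 2 ^ (2 * m + 1) with hq
  have ha2 : (a : GL Cfsg.Lie.chevF4.Idx K) * a = 1 := by
    have h := pow_orderOf_eq_one a
    rw [ha, sq] at h
    exact congrArg Subtype.val h
  have ha1 : (a : GL Cfsg.Lie.chevF4.Idx K) ≠ 1 := fun e => by
    rw [show a = 1 from Subtype.ext e, orderOf_one] at ha
    omega
  obtain ⟨c, hc, R, hR, e⟩ := Cfsg.Agent.ReeInvol.exists_conj_rep hK a.2 ha2 ha1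
  have hcomm : Commute (c * (b : GL Cfsg.Lie.chevF4.Idx K) * c⁻¹) (Cfsg.Agent.ReeInvol.matK K R) := by
    rw [← e]
    exact (hab.symm.map (Subgroup.subtype _)).map (MulAut.conj c).toMonoidHom
  have hmem : c * (b : GL Cfsg.Lie.chevF4.Idx K) * c⁻¹ ∈ Cfsg.Lie.twistedF4 K (2 ^ m) :=
    mul_mem (mul_mem hc b.2) (inv_mem hc)
  have hd : ∃ k, (k = 1 ∨ k = 2) ∧ orderOf b ∣ q ^ 12 * (q - 1) ^ 2 * (1 + q ^ k) := by
    have ho : orderOf b = orderOf (c * (b : GL Cfsg.Lie.chevF4.Idx K) * c⁻¹) := by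
      rw [← Subgroup.orderOf_coe]
      exact (MulEquiv.orderOf_eq (MulAut.conj c) _).symm
    rw [ho]
    rcases hR with rfl | rfl
    · exact ⟨2, Or.inr rfl, Cfsg.Agent.ReeInvol.orderOf_dvd hK
        (ρ := Cfsg.Agent.ReeInvol.zRep) (Or.inl rfl) hmem hcomm⟩
    · exact ⟨1, Or.inl rfl, Cfsg.Agent.ReeInvol.orderOf_dvd hK
        (ρ := Cfsg.Agent.ReeInvol.xRep) (Or.inr rfl) hmem hcomm⟩
  obtain ⟨k, hk, hd⟩ := hd
  have hq1 : 2 ≤ q := hq ▸ Nat.le_self_pow (by omega) 2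
  have hfac : q ^ 4 - 1 = (q - 1) * (q + 1) * (q ^ 2 + 1) := by
    have h1 : 1 ≤ q ^ 4 := Nat.one_le_pow _ _ (by omega)
    have h2 : 1 ≤ q := by omega
    zify [h1, h2]
    ring
  have h4 : q * (q ^ 4 - 1) ≠ 0 := by
    rw [hfac]
    have : 0 < q - 1 := by omega
    positivity
  intro p hp
  obtain ⟨hpp, hpd, -⟩ := Nat.mem_primeFactors.1 hp
  refine Nat.mem_primeFactors.2 ⟨hpp, ?_, h4⟩
  rw [hfac]
  rcases hpp.dvd_mul.1 (hpd.trans hd) with h | h
  · rcases hpp.dvd_mul.1 h with h | h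
    · exact dvd_mul_of_dvd_left (hpp.dvd_of_dvd_pow h) _
    · exact dvd_mul_of_dvd_right (dvd_mul_of_dvd_left (dvd_mul_of_dvd_left (hpp.dvd_of_dvd_pow h) _) _) _
  · rcases hk with rfl | rfl
    · rw [pow_one, add_comm] at h
      exact dvd_mul_of_dvd_right (dvd_mul_of_dvd_left (dvd_mul_of_dvd_right h _) _) _
    · rw [add_comm] at h
      exact dvd_mul_of_dvd_right (dvd_mul_of_dvd_right h _) _

end Cfsg.Agent.S2369
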