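import Cfsg.Statements.S2370
import Cfsg.Agent.Lib.ReeUnipotent.ShortIdeal

set_option autoImplicit false
open Cfsg

namespace Cfsg.Agent.S2370

/-- Let q = 2^(2m+1) with m ≥ 1. Every element of 2-power order of the large Ree group ²F₄(q) has order at most 32. -/
theorem result {K : Type*} [Field K] [Fintype K] (m : ℕ) (hm : 1 ≤ m) (hK : Fintype.card K = 2 ^ (2 * m + 1))
    (x : ↥(Cfsg.Lie.twistedF4 K (2 ^ m))) (hx : ∃ j : ℕ, orderOf x = 2 ^ j) : orderOf x ≤ 32 := by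
  obtain ⟨j, hj⟩ := hx
  have : CharP K 2 := by
    have : Fact (Nat.Prime 2) := ⟨Nat.prime_two⟩
    obtain ⟨p, hp⟩ := CharP.exists K
    obtain ⟨n, hp', hn⟩ := FiniteField.card K p
    rw [hK] at hn
    have h2 : p = 2 := by
      have : p ∣ 2 ^ (2 * m + 1) := hn ▸ dvd_pow_self p n.ne_zero
      exact (Nat.prime_dvd_prime_iff_eq hp' Nat.prime_two).1 (hp'.dvd_of_dvd_pow this)
    exact h2 ▸ hp
  refine Nat.le_of_dvd (by norm_num) (orderOf_dvd_of_pow_eq_one (Subtype.ext ?_))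
  rw [SubgroupClass.coe_pow, OneMemClass.coe_one]
  refine Cfsg.Agent.ReeUnipotent.pow_thirty_two_of_mem x.2 (j := j) ?_
  rw [← SubgroupClass.coe_pow, ← hj, pow_orderOf_eq_one, OneMemClass.coe_one]

end Cfsg.Agent.S2370
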