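import Cfsg.Statements.S2372
import Cfsg.Agent.EqLemmas
import Cfsg.Agent.Lib.ChevLang.TableF4

set_option autoImplicit false
open Cfsg

namespace Cfsg.Agent.S2372

/-- The group F₄(q) contains a cyclic subgroup of order q⁴ + 1 which is its own centralizer. -/
theorem result {F : Type*} [Field F] [Fintype F] (q : ℕ) (hF : Fintype.card F = q) :
    ∃ H : Subgroup ↥(Cfsg.Lie.chevF4.group F), IsCyclic ↥H ∧ Nat.card ↥H = q ^ 4 + 1 ∧
      Subgroup.centralizer (H : Set ↥(Cfsg.Lie.chevF4.group F)) = H := by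
  subst hF
  have hD := Chev.good_of_mem (D := Cfsg.Lie.chevF4) (by simp)
  have hX : ∀ i < Cfsg.Lie.chevF4.rank, _ := fun _ => ChevSt.exists_decomp Cfsg.Lie.chevF4 (by simp)
  obtain ⟨H, h1, h2, h3⟩ := ChevLang.exists_cyclic_of_cert hD ChevBN.rootsF4 hX ChevLang.certOKF4 (F := F)
    (fun K _ => ChevLang.tau_injective_of_one hD ChevBN.rootsF4 hX rfl)
    (fun q hq => by
      simp only [ChevLang.certF4, ChevLang.pev]
      nlinarith [pow_pos (show (0:ℤ) < q by omega) 4])
    (fun q hq => by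
      simp only [ChevLang.certF4, ChevLang.pev]
      nlinarith [pow_pos (show (0:ℤ) < q by omega) 4])
  refine ⟨H, h1, h2.trans ?_, h3⟩
  simp only [ChevLang.certF4, ChevLang.pev, Int.toNat_one, Nat.gcd_one_left, Nat.div_one]
  generalize Fintype.card F = q
  rw [show (1 + (q : ℤ) * (0 + (q : ℤ) * (0 + (q : ℤ) * (0 + (q : ℤ) * (1 + (q : ℤ) * 0))))) = ((q ^ 4 + 1 : ℕ) : ℤ) by
    push_cast; ring, Int.toNat_natCast]

end Cfsg.Agent.S2372
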