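import Cfsg.Statements.S2373
import Cfsg.Agent.EqLemmas
import Cfsg.Agent.Lib.ChevSt.KerCard
import Cfsg.Agent.Lib.ChevLang.TableE6

set_option autoImplicit false
open Cfsg

namespace Cfsg.Agent.S2373

/-- The group E₆(q) (the simple Chevalley group of type E₆) contains a cyclic subgroup of order (q⁴ − q² + 1)(q² + q + 1)/gcd(3, q − 1) which is its own centralizer. -/
theorem result {F : Type*} [Field F] [Fintype F] (q : ℕ) (hF : Fintype.card F = q) :
    ∃ H : Subgroup ↥(Cfsg.Lie.chevE6.group F), IsCyclic ↥H ∧ Nat.card ↥H = (q ^ 4 - q ^ 2 + 1) * (q ^ 2 + q + 1) / Nat.gcd 3 (q - 1) ∧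
      Subgroup.centralizer (H : Set ↥(Cfsg.Lie.chevE6.group F)) = H := by
  subst hF
  have hD := Chev.good_of_mem (D := Cfsg.Lie.chevE6) (by simp)
  have hX : ∀ i < Cfsg.Lie.chevE6.rank, _ := fun _ => ChevSt.exists_decomp Cfsg.Lie.chevE6 (by simp)
  have eN : ChevLang.certE6.N = [1, 1, 0, -1, 0, 1, 1] := rfl
  have eL : ChevLang.certE6.L = 6 := rfl
  obtain ⟨H, h1, h2, h3⟩ := ChevLang.exists_cyclic_of_cert hD ChevBN.rootsE6 hX ChevLang.certOKE6 (F := F)
    (fun K _ => ChevSt.torusHom_injective (F := K) hD ChevBN.rootsE6 hX (Chev.good_of_mem (D := Cfsg.Lie.chevE8) (by simp)) ChevSt.subE6 ChevBN.rootsE8)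
    (fun q hq => by
      simp only [eN, eL, ChevLang.pev]
      nlinarith [pow_pos (show (0:ℤ) < q by omega) 6, pow_pos (show (0:ℤ) < q by omega) 5, pow_pos (show (0:ℤ) < q by omega) 3])
    (fun q hq => by
      simp only [eN, ChevLang.pev]
      nlinarith [pow_pos (show (0:ℤ) < q by omega) 6, pow_pos (show (0:ℤ) < q by omega) 5, pow_pos (show (0:ℤ) < q by omega) 3])
  refine ⟨H, h1, h2.trans ?_, h3⟩
  have hq2 : 2 ≤ Fintype.card F := Fintype.one_lt_card
  set q := Fintype.card F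
  have e : ChevLang.pev (q : ℤ) ChevLang.certE6.N = (((q ^ 4 - q ^ 2 + 1) * (q ^ 2 + q + 1) : ℕ) : ℤ) := by
    have h42 : q ^ 2 ≤ q ^ 4 := Nat.pow_le_pow_right (by omega) (by omega)
    simp only [eN, ChevLang.pev]
    push_cast [Nat.cast_sub h42]
    ring
  rw [e, Int.toNat_natCast]
  rfl

end Cfsg.Agent.S2373
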