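import Cfsg.Statements.S2374
import Cfsg.Agent.EqLemmas
import Cfsg.Agent.Lib.ChevSt.KerCard
import Cfsg.Agent.Lib.ChevLang.TableE7

set_option autoImplicit false
open Cfsg

namespace Cfsg.Agent.S2374

/-- The group E₇(q) (the simple Chevalley group of type E₇) contains a cyclic subgroup of order (q⁴ − q² + 1)(q³ + 1)/gcd(2, q − 1) which is its own centralizer. -/
theorem result {F : Type*} [Field F] [Fintype F] (q : ℕ) (hF : Fintype.card F = q) :
    ∃ H : Subgroup ↥(Cfsg.Lie.chevE7.group F), IsCyclic ↥H ∧ Nat.card ↥H = (q ^ 4 - q ^ 2 + 1) * (q ^ 3 + 1) / Nat.gcd 2 (q - 1) ∧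
      Subgroup.centralizer (H : Set ↥(Cfsg.Lie.chevE7.group F)) = H := by
  subst hF
  have hD := Chev.good_of_mem (D := Cfsg.Lie.chevE7) (by simp)
  have hX : ∀ i < Cfsg.Lie.chevE7.rank, _ := fun _ => ChevSt.exists_decomp Cfsg.Lie.chevE7 (by simp)
  have eN : ChevLang.certE7.N = [1, 0, -1, 1, 1, -1, 0, 1] := rfl
  have eL : ChevLang.certE7.L = 7 := rfl
  obtain ⟨H, h1, h2, h3⟩ := ChevLang.exists_cyclic_of_cert hD ChevBN.rootsE7 hX ChevLang.certOKE7 (F := F)
    (fun K _ => ChevSt.torusHom_injective (F := K) hD ChevBN.rootsE7 hX (Chev.good_of_mem (D := Cfsg.Lie.chevE8) (by simp)) ChevSt.subE7 ChevBN.rootsE8)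
    (fun q hq => by
      simp only [eN, eL, ChevLang.pev]
      nlinarith [mul_le_mul_of_nonneg_left (mul_le_mul hq hq (by omega) (by omega)) (pow_nonneg (show (0:ℤ) ≤ q by omega) 5), pow_pos (show (0:ℤ) < q by omega) 4, pow_pos (show (0:ℤ) < q by omega) 3])
    (fun q hq => by
      simp only [eN, ChevLang.pev]
      nlinarith [mul_le_mul_of_nonneg_left (mul_le_mul hq hq (by omega) (by omega)) (pow_nonneg (show (0:ℤ) ≤ q by omega) 5), pow_pos (show (0:ℤ) < q by omega) 4, pow_pos (show (0:ℤ) < q by omega) 3])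
  refine ⟨H, h1, h2.trans ?_, h3⟩
  have hq2 : 2 ≤ Fintype.card F := Fintype.one_lt_card
  set q := Fintype.card F
  have e : ChevLang.pev (q : ℤ) ChevLang.certE7.N = (((q ^ 4 - q ^ 2 + 1) * (q ^ 3 + 1) : ℕ) : ℤ) := by
    have h42 : q ^ 2 ≤ q ^ 4 := Nat.pow_le_pow_right (by omega) (by omega)
    simp only [eN, ChevLang.pev]
    push_cast [Nat.cast_sub h42]
    ring
  rw [e, Int.toNat_natCast]
  rfl

end Cfsg.Agent.S2374
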