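import Cfsg.Statements.S2375
import Cfsg.Agent.EqLemmas
import Cfsg.Agent.Lib.ChevLang.TableE8

set_option autoImplicit false
open Cfsg

namespace Cfsg.Agent.S2375

/-- The group E₈(q) contains a cyclic subgroup of order q⁸ + q⁷ − q⁵ − q⁴ − q³ + q + 1 which is its own centralizer. -/
theorem result {F : Type*} [Field F] [Fintype F] (q : ℕ) (hF : Fintype.card F = q) :
    ∃ H : Subgroup ↥(Cfsg.Lie.chevE8.group F), IsCyclic ↥H ∧ Nat.card ↥H = q ^ 8 + q ^ 7 - q ^ 5 - q ^ 4 - q ^ 3 + q + 1 ∧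
      Subgroup.centralizer (H : Set ↥(Cfsg.Lie.chevE8.group F)) = H := by
  subst hF
  have hD := Chev.good_of_mem (D := Cfsg.Lie.chevE8) (by simp)
  have hX : ∀ i < Cfsg.Lie.chevE8.rank, _ := fun _ => ChevSt.exists_decomp Cfsg.Lie.chevE8 (by simp)
  have eN : ChevLang.certE8.N = [1, 1, 0, -1, -1, -1, 0, 1, 1] := rfl
  have eL : ChevLang.certE8.L = 8 := rfl
  obtain ⟨H, h1, h2, h3⟩ := ChevLang.exists_cyclic_of_cert hD ChevBN.rootsE8 hX ChevLang.certOKE8 (F := F)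
    (fun K _ => ChevLang.tau_injective_of_one hD ChevBN.rootsE8 hX rfl)
    (fun q hq => by
      simp only [eN, eL, ChevLang.pev]
      nlinarith [mul_le_mul_of_nonneg_left hq (pow_nonneg (show (0:ℤ) ≤ q by omega) 7), mul_le_mul_of_nonneg_left hq (pow_nonneg (show (0:ℤ) ≤ q by omega) 6), mul_le_mul_of_nonneg_left hq (pow_nonneg (show (0:ℤ) ≤ q by omega) 5), mul_le_mul_of_nonneg_left hq (pow_nonneg (show (0:ℤ) ≤ q by omega) 4), mul_le_mul_of_nonneg_left hq (pow_nonneg (show (0:ℤ) ≤ q by omega) 3)])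
    (fun q hq => by
      simp only [eN, ChevLang.pev]
      nlinarith [mul_le_mul_of_nonneg_left hq (pow_nonneg (show (0:ℤ) ≤ q by omega) 7), mul_le_mul_of_nonneg_left hq (pow_nonneg (show (0:ℤ) ≤ q by omega) 6), mul_le_mul_of_nonneg_left hq (pow_nonneg (show (0:ℤ) ≤ q by omega) 5), mul_le_mul_of_nonneg_left hq (pow_nonneg (show (0:ℤ) ≤ q by omega) 4), mul_le_mul_of_nonneg_left hq (pow_nonneg (show (0:ℤ) ≤ q by omega) 3)])
  refine ⟨H, h1, h2.trans ?_, h3⟩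
  have hq2 : 2 ≤ Fintype.card F := Fintype.one_lt_card
  set q := Fintype.card F
  have e : ChevLang.pev (q : ℤ) ChevLang.certE8.N = ((q ^ 8 + q ^ 7 - q ^ 5 - q ^ 4 - q ^ 3 + q + 1 : ℕ) : ℤ) := by
    have l5 : q ^ 5 ≤ q ^ 8 + q ^ 7 := (Nat.pow_le_pow_right (by omega) (by omega : 5 ≤ 8)).trans (Nat.le_add_right _ _)
    have h45 : q ^ 5 + q ^ 4 + q ^ 3 ≤ q ^ 8 + q ^ 7 := by
      have a : q ^ 5 ≤ q ^ 7 := Nat.pow_le_pow_right (by omega) (by omega)
      have b : q ^ 4 + q ^ 3 ≤ q ^ 8 := by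
        have b1 : q ^ 4 ≤ q ^ 5 := Nat.pow_le_pow_right (by omega) (by omega)
        have b2 : q ^ 3 ≤ q ^ 5 := Nat.pow_le_pow_right (by omega) (by omega)
        have b3 : 2 * q ^ 5 ≤ q * q ^ 5 := Nat.mul_le_mul_right _ hq2
        have b4 : q ^ 6 ≤ q ^ 8 := Nat.pow_le_pow_right (by omega) (by omega)
        have b5 : q * q ^ 5 = q ^ 6 := by ring
        omega
      omega
    simp only [eN, ChevLang.pev]
    rw [Nat.cast_add, Nat.cast_add, Nat.cast_sub (by omega), Nat.cast_sub (by omega), Nat.cast_sub (by omega)]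
    push_cast
    ring
  rw [e, Int.toNat_natCast]
  simp

end Cfsg.Agent.S2375
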