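import Cfsg.Statements.S2378
import Cfsg.Agent.EqLemmas
import Cfsg.Agent.Lib.ChevLang.SylG2
import Cfsg.Agent.Lib.ChevLang.SylB2
import Cfsg.Agent.Lib.ChevLang.SylD4
import Cfsg.Agent.Lib.ChevLang.SylF4
import Cfsg.Agent.Lib.ChevLang.SylE6
import Cfsg.Agent.Lib.ChevLang.SylE7
import Cfsg.Agent.Lib.ChevLang.SylE8
import Cfsg.Agent.Lib.ChevOrder.Final
import Cfsg.Agent.Lib.Chev.All

set_option autoImplicit false
open Cfsg

namespace Cfsg.Agent.S2378

/-- Sylow subgroups for primes away from the characteristic and the Weyl group. Let `G` be the Chevalley group of type G₂, B₂, D₄, F₄, E₆, E₇ or E₈ over a field with `q` elements, with the degrees of its Weyl group listed beside the type (their product is the order of the Weyl group), and let `r` be a prime dividing the order of `G`, not dividing `q` and not dividing the order of the Weyl group. Let `d` be the multiplicative order of `q` modulo `r`, `a` the number of degrees divisible by `d`, and `m` the `r`-part of the value at `q` of the `d`-th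 cyclotomic polynomial. Then every Sylow `r`-subgroup of `G` is homocyclic: a direct product of `a` cyclic groups of order `m` (in particular abelian). -/
theorem result {F : Type*} [Field F] [Fintype F] {q : ℕ} (hq : Fintype.card F = q)
    (c : Cfsg.Lie.ChevalleyDatum × List ℕ)
    (hc : c ∈ [(Cfsg.Lie.chevG2, [2, 6]), (Cfsg.Lie.chevB2, [2, 4]), (Cfsg.Lie.chevD4, [2, 4, 4, 6]), (Cfsg.Lie.chevF4, [2, 6, 8, 12]),
      (Cfsg.Lie.chevE6, [2, 5, 6, 8, 9, 12]), (Cfsg.Lie.chevE7, [2, 6, 8, 10, 12, 14, 18]), (Cfsg.Lie.chevE8, [2, 8, 12, 14, 18, 20, 24, 30])])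
    (r : ℕ) [Fact r.Prime] (hrq : ¬ r ∣ q) (hrW : ¬ r ∣ c.2.prod) (hrG : r ∣ Nat.card ↥(c.1.group F)) (P : Sylow r ↥(c.1.group F)) :
    Nonempty (↥(P : Subgroup ↥(c.1.group F)) ≃*
      (Fin (c.2.filter (fun e => orderOf (q : ZMod r) ∣ e)).length →
        Multiplicative (ZMod (r ^ padicValNat r ((Polynomial.cyclotomic (orderOf (q : ZMod r)) ℤ).eval (q : ℤ)).natAbs)))) := by
  simp only [List.mem_cons, List.not_mem_nil, or_false] at hc
  rcases hc with rfl | rfl | rfl | rfl | rfl | rfl | rfl
  · have hD := Chev.good_of_mem (D := Cfsg.Lie.chevG2) (by simp)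
    refine ChevLang.sylow_homocyclic hD ChevBN.rootsG2 hq (deg := [2, 6]) (k := 1) (N := 6) (one_dvd _) ?_
      (by decide) (by decide) ChevLang.sylCoversG2 ChevLang.sylOKG2 r hrq hrW hrG P
    simp only [List.map_cons, List.map_nil, List.prod_cons, List.prod_nil, mul_one, one_mul]
    rw [ChevOrder.card_G2 hq hD]
    ring
  · have hD := Chev.good_of_mem (D := Cfsg.Lie.chevB2) (by simp)
    refine ChevLang.sylow_homocyclic hD ChevBN.rootsB2 hq (deg := [2, 4]) (k := Nat.gcd 2 (q - 1)) (N := 4) ((Nat.gcd_dvd_left _ _).trans (by decide)) ?_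
      (by decide) (by decide) ChevLang.sylCoversB2 ChevLang.sylOKB2 r hrq hrW hrG P
    simp only [List.map_cons, List.map_nil, List.prod_cons, List.prod_nil, mul_one, one_mul]
    rw [ChevOrder.card_B2 hq hD]
    ring
  · have hD := Chev.good_of_mem (D := Cfsg.Lie.chevD4) (by simp)
    refine ChevLang.sylow_homocyclic hD ChevBN.rootsD4 hq (deg := [2, 4, 4, 6]) (k := Nat.gcd 2 (q - 1) ^ 2) (N := 12) ((pow_dvd_pow_of_dvd (Nat.gcd_dvd_left _ _) 2).trans (by decide)) ?_
      (by decide) (by decide) ChevLang.sylCoversD4 ChevLang.sylOKD4 r hrq hrW hrG P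
    simp only [List.map_cons, List.map_nil, List.prod_cons, List.prod_nil, mul_one, one_mul]
    rw [ChevOrder.card_D4 hq hD]
    ring
  · have hD := Chev.good_of_mem (D := Cfsg.Lie.chevF4) (by simp)
    refine ChevLang.sylow_homocyclic hD ChevBN.rootsF4 hq (deg := [2, 6, 8, 12]) (k := 1) (N := 24) (one_dvd _) ?_
      (by decide) (by decide) ChevLang.sylCoversF4 ChevLang.sylOKF4 r hrq hrW hrG P
    simp only [List.map_cons, List.map_nil, List.prod_cons, List.prod_nil, mul_one, one_mul]
    rw [ChevOrder.card_F4 hq hD]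
    ring
  · have hD := Chev.good_of_mem (D := Cfsg.Lie.chevE6) (by simp)
    refine ChevLang.sylow_homocyclic hD ChevBN.rootsE6 hq (deg := [2, 5, 6, 8, 9, 12]) (k := Nat.gcd 3 (q - 1)) (N := 36) ((Nat.gcd_dvd_left _ _).trans (by decide)) ?_
      (by decide) (by decide) ChevLang.sylCoversE6 ChevLang.sylOKE6 r hrq hrW hrG P
    simp only [List.map_cons, List.map_nil, List.prod_cons, List.prod_nil, mul_one, one_mul]
    rw [ChevOrder.card_E6 hq hD]
    ring
  · have hD := Chev.good_of_mem (D := Cfsg.Lie.chevE7) (by simp)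
    refine ChevLang.sylow_homocyclic hD ChevBN.rootsE7 hq (deg := [2, 6, 8, 10, 12, 14, 18]) (k := Nat.gcd 2 (q - 1)) (N := 63) ((Nat.gcd_dvd_left _ _).trans (by decide)) ?_
      (by decide) (by decide) ChevLang.sylCoversE7 ChevLang.sylOKE7 r hrq hrW hrG P
    simp only [List.map_cons, List.map_nil, List.prod_cons, List.prod_nil, mul_one, one_mul]
    rw [ChevOrder.card_E7 hq hD]
    ring
  · have hD := Chev.good_of_mem (D := Cfsg.Lie.chevE8) (by simp)
    refine ChevLang.sylow_homocyclic hD ChevBN.rootsE8 hq (deg := [2, 8, 12, 14, 18, 20, 24, 30]) (k := 1) (N := 120) (one_dvd _) ?_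
      (by decide) (by decide) ChevLang.sylCoversE8 ChevLang.sylOKE8 r hrq hrW hrG P
    simp only [List.map_cons, List.map_nil, List.prod_cons, List.prod_nil, mul_one, one_mul]
    rw [ChevOrder.card_E8 hq hD]
    ring

end Cfsg.Agent.S2378
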