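import Cfsg.Statements.S2382
import Cfsg.Agent.Lib.ChevSimple.Chev
import Cfsg.Agent.Lib.Chev.All
import Cfsg.Agent.Lib.ChevBN.RootTables
import Cfsg.Agent.EqLemmas

set_option autoImplicit false
open Cfsg

namespace Cfsg.Agent.S2382

/-- Steinberg's count of semisimple classes for the three types whose simply connected and adjoint groups coincide: in the Chevalley group of type G₂, F₄ or E₈ over a field with `q` elements of characteristic `p`, the conjugacy classes of elements of order prime to `p` number exactly `q^l`, `l = 2, 4, 8` the rank. -/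
theorem result {F : Type*} [Field F] [Fintype F] {q : ℕ} (hq : Fintype.card F = q) (p : ℕ) [Fact p.Prime] [CharP F p]
    (D : Cfsg.Lie.ChevalleyDatum) (hD : D ∈ [Cfsg.Lie.chevG2, Cfsg.Lie.chevF4, Cfsg.Lie.chevE8]) :
    Nat.card {c : ConjClasses ↥(D.group F) // ∃ g : ↥(D.group F), ConjClasses.mk g = c ∧ (orderOf g).Coprime p} = q ^ D.rank := by
  open Cfsg.Lie Cfsg.Agent.Chev Cfsg.Agent.ChevOrder Cfsg.Agent.ChevBN Cfsg.Agent.ChevSimple in
  have hcop : ∀ n : ℕ, n.Coprime p ↔ ¬ p ∣ n := fun n => by
    rw [Nat.coprime_comm, (Fact.out : p.Prime).coprime_iff_not_dvd]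
  simp only [hcop]
  subst hq
  simp only [List.mem_cons, List.not_mem_nil, or_false] at hD
  rcases hD with rfl | rfl | rfl
  · refine card_regClass_chev DataG2.good rootsG2 (p := p)
      (torus_ker_eq_bot DataG2.good rootsG2 torus_G2 fun i => ?_)
    rw [(by decide : ∀ i : Fin chevG2.rank, [1, 1].getD i.val 0 = 1) i, Nat.gcd_one_right]
  · refine card_regClass_chev DataF4.good rootsF4 (p := p)
      (torus_ker_eq_bot DataF4.good rootsF4 torus_F4 fun i => ?_)
    rw [(by decide : ∀ i : Fin chevF4.rank, [1, 1, 1, 1].getD i.val 0 = 1) i, Nat.gcd_one_right]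
  · refine card_regClass_chev DataE8.good rootsE8 (p := p)
      (torus_ker_eq_bot DataE8.good rootsE8 torus_E8 fun i => ?_)
    rw [(by decide : ∀ i : Fin chevE8.rank, [1, 1, 1, 1, 1, 1, 1, 1].getD i.val 0 = 1) i, Nat.gcd_one_right]

end Cfsg.Agent.S2382
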