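import Cfsg.Statements.S2383
import Cfsg.Agent.Lib.ChevSimple.Chev
import Cfsg.Agent.Lib.Chev.All
import Cfsg.Agent.Lib.ChevBN.RootTables
import Cfsg.Agent.EqLemmas

set_option autoImplicit false
open Cfsg

namespace Cfsg.Agent.S2383

/-- Steinberg's count of semisimple classes in characteristic 2 for the types B₂, D₄, E₇, where the finite simply connected group has trivial centre and so coincides with the Chevalley group: for the Chevalley group of type B₂, D₄ or E₇ over a field with `q` elements of characteristic 2, the conjugacy classes of elements of odd order number exactly `q^l`, `l` the rank. -/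
theorem result {F : Type*} [Field F] [Fintype F] {q : ℕ} (hq : Fintype.card F = q) [CharP F 2]
    (D : Cfsg.Lie.ChevalleyDatum) (hD : D ∈ [Cfsg.Lie.chevB2, Cfsg.Lie.chevD4, Cfsg.Lie.chevE7]) :
    Nat.card {c : ConjClasses ↥(D.group F) // ∃ g : ↥(D.group F), ConjClasses.mk g = c ∧ Odd (orderOf g)} = q ^ D.rank := by
  open Cfsg.Lie Cfsg.Agent.Chev Cfsg.Agent.ChevOrder Cfsg.Agent.ChevBN Cfsg.Agent.ChevSimple in
  haveI : Fact (Nat.Prime 2) := ⟨Nat.prime_two⟩
  simp only [← Nat.not_even_iff_odd, even_iff_two_dvd]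
  subst hq
  have hodd : (Fintype.card F - 1).gcd 2 = 1 := by
    obtain ⟨n, -, hn⟩ := FiniteField.card F 2
    have : Fintype.card F % 2 = 0 := by rw [hn]; exact Nat.mod_eq_zero_of_dvd (dvd_pow_self 2 n.ne_zero)
    have hpos : 0 < Fintype.card F := Fintype.card_pos
    rw [Nat.gcd_comm, Nat.gcd_rec, show (Fintype.card F - 1) % 2 = 1 by omega, Nat.gcd_one_left]
  have hgcd : ∀ e : ℕ, e = 1 ∨ e = 2 → (Fintype.card F - 1).gcd e = 1 := by
    rintro e (rfl | rfl)
    exacts [Nat.gcd_one_right _, hodd]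
  simp only [List.mem_cons, List.not_mem_nil, or_false] at hD
  rcases hD with rfl | rfl | rfl
  · exact card_regClass_chev DataB2.good rootsB2 (p := 2)
      (torus_ker_eq_bot DataB2.good rootsB2 torus_B2 fun i => hgcd _
        ((by decide : ∀ i : Fin chevB2.rank, [1, 2].getD i.val 0 = 1 ∨ [1, 2].getD i.val 0 = 2) i))
  · exact card_regClass_chev DataD4.good rootsD4 (p := 2)
      (torus_ker_eq_bot DataD4.good rootsD4 torus_D4 fun i => hgcd _
        ((by decide : ∀ i : Fin chevD4.rank, [1, 1, 2, 2].getD i.val 0 = 1 ∨ [1, 1, 2, 2].getD i.val 0 = 2) i))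
  · exact card_regClass_chev DataE7.good rootsE7 (p := 2)
      (torus_ker_eq_bot DataE7.good rootsE7 torus_E7 fun i => hgcd _
        ((by decide : ∀ i : Fin chevE7.rank,
          [1, 1, 1, 1, 1, 1, 2].getD i.val 0 = 1 ∨ [1, 1, 1, 1, 1, 1, 2].getD i.val 0 = 2) i))

end Cfsg.Agent.S2383
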