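import Cfsg.Statements.S2384
import Cfsg.Agent.EqLemmas
import Cfsg.Agent.Lib.Semisimple.Classes

set_option autoImplicit false
open Cfsg

namespace Cfsg.Agent.S2384

open Matrix Cfsg.Agent.Semisimple


/-- In `SL_n(q)`, `q` a power of the prime `p`, the number of conjugacy classes of elements of order prime to `p` (the semisimple classes) is `q^(n-1)`. -/
theorem result {F : Type*} [Field F] [Fintype F] {q : ℕ} (hq : Fintype.card F = q) (p : ℕ) [Fact p.Prime] [CharP F p] (n : ℕ) (hn : 1 ≤ n) :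
    Nat.card {c : ConjClasses (Matrix.SpecialLinearGroup (Fin n) F) //
      ∃ g : Matrix.SpecialLinearGroup (Fin n) F, ConjClasses.mk g = c ∧ (orderOf g).Coprime p} = q ^ (n - 1) := by
  classical
  obtain ⟨m, rfl⟩ : ∃ m, n = m + 1 := ⟨n - 1, by omega⟩
  subst hq
  have hinv : ∀ x : F, (-1 : F) ^ (m + 1) * x = 1 → x = (-1) ^ (m + 1) := by
    intro x hx
    have : ((-1 : F) ^ (m + 1)) * (-1) ^ (m + 1) = 1 := by rw [← mul_pow]; simp
    linear_combination (-1 : F) ^ (m + 1) * hx - x * this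
  have h := card_classes p (Matrix.SpecialLinearGroup.toGL (n := Fin (m + 1)) (R := F))
    ({(-1) ^ (m + 1)} : Set F)
    (fun g => hinv _ (by rw [← det_eq_coeff]; exact g.2))
    (fun g h hg hh hc => sl_isConj_of_charpoly_eq p g h hg hh hc)
    (fun A hA => ⟨⟨A, by
      rw [det_eq_coeff, Set.mem_singleton_iff.1 hA, ← mul_pow]; simp⟩, rfl⟩)
  rw [h, Nat.card_coe_set_eq, Set.ncard_singleton, one_mul]
  simp

end Cfsg.Agent.S2384
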