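import Cfsg.Statements.S2386
import Cfsg.Agent.Lib.FormClasses.Realise
import Cfsg.Agent.EqLemmas

set_option autoImplicit false
open Cfsg

namespace Cfsg.Agent.S2386

open Polynomial Cfsg.Agent.FormClasses

/-- In the special unitary group `SU_n(q)` (matrices of determinant one over the field with `q²` elements preserving the standard Hermitian form), `q` a power of the prime `p`, the number of conjugacy classes of elements of order prime to `p` is `q^(n-1)`. -/
theorem result {F : Type*} [Field F] [Fintype F] {q : ℕ} (hF : Fintype.card F = q ^ 2) (p : ℕ) [Fact p.Prime] [CharP F p] (n : ℕ) (hn : 1 ≤ n) :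
    Nat.card {c : ConjClasses ↥(Cfsg.SU n F q) // ∃ g : ↥(Cfsg.SU n F q), ConjClasses.mk g = c ∧ (orderOf g).Coprime p} = q ^ (n - 1) := by
  classical
  obtain ⟨m, rfl⟩ : ∃ m, n = m + 1 := ⟨n - 1, by omega⟩
  let ρ : ↥(Cfsg.SU (m + 1) F q) →* Matrix (Fin (m + 1)) (Fin (m + 1)) F :=
    { toFun := fun g => ((g : Matrix.SpecialLinearGroup (Fin (m + 1)) F) : Matrix _ _ F)
      map_one' := rfl
      map_mul' := fun _ _ => rfl }
  rw [card_classes_eq_range p ρ (fun g h hg hh hc => su_isConj hF p (m + 1) g h hg hh hc),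
    Nat.add_sub_cancel]
  let σ := Cfsg.Agent.Unitary.conjHom hF
  have hsq : ((-1 : F) ^ (m + 1)) * (-1) ^ (m + 1) = 1 := by rw [← mul_pow]; simp
  let T : (Fin m → F) → (Fin m → F) := fun v i => (-1) ^ (m + 1) * σ (v i.rev)
  have hneg : σ ((-1 : F) ^ (m + 1)) = (-1) ^ (m + 1) := by rw [map_pow, map_neg, map_one]
  rw [← card_semilinear_fixed hF m T (fun x y => funext fun i => by simp [T, mul_add])
    (fun c x => funext fun i => by
      simp only [T, Pi.smul_apply, smul_eq_mul, map_mul]
      rw [show σ c = c ^ q from rfl]; ring)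
    (fun x => funext fun i => by
      simp only [T, map_mul, hneg, Fin.rev_rev]
      rw [show σ (σ (x i)) = x i from Cfsg.Agent.Unitary.pow_q_pow_q hF (x i), ← mul_assoc, hsq, one_mul])]
  -- symmetry of the coefficients
  have hsym : ∀ (g : ↥(Cfsg.SU (m + 1) F q)) (i : ℕ), i ≤ m + 1 →
      (ρ g).charpoly.coeff i ^ q = (-1) ^ (m + 1) * (ρ g).charpoly.coeff (m + 1 - i) := by
    intro g i hi
    have hd : (ρ g).det = 1 := (g : Matrix.SpecialLinearGroup (Fin (m + 1)) F).2
    have hu : Unitary.IsUnitary q (ρ g) := fun u v => Unitary.SU_apply g u v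
    have hb := (Unitary.isUnitary_iff_orthonormal hF _).1 hu
    have hmul : (ρ g).transpose * (ρ g).map σ = 1 := by
      ext a b
      have h1 := hb.apply a b
      rw [Matrix.one_apply, ← h1]
      rfl
    have hinv : (ρ g).map σ = ((ρ g)⁻¹).transpose := by
      rw [Matrix.transpose_nonsing_inv]
      exact (Matrix.inv_eq_right_inv hmul).symm
    have h := congrArg (fun P : F[X] => P.coeff i)
      ((Matrix.charpoly_map (ρ g) σ).symm.trans ((congrArg Matrix.charpoly hinv).trans
        ((Matrix.charpoly_transpose _).trans (charpoly_inv' _ (by rw [hd]; exact one_ne_zero)))))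
    simp only [coeff_map, coeff_C_mul, hd, inv_one, mul_one, Fintype.card_fin] at h
    rw [coeff_reverse_charpoly _ (by rw [Fintype.card_fin]; exact hi), Fintype.card_fin] at h
    exact h
  have hdeg : ∀ g, (ρ g).charpoly.natDegree = m + 1 := fun g => by
    rw [Matrix.charpoly_natDegree_eq_dim, Fintype.card_fin]
  have hc0 : ∀ g, (ρ g).charpoly.coeff 0 = (-1) ^ (m + 1) := fun g => by
    have h := hsym g (m + 1) le_rfl
    rw [Nat.sub_self, show (ρ g).charpoly.coeff (m + 1) = 1 by
      have h' := (Matrix.charpoly_monic (ρ g)).coeff_natDegree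
      rwa [hdeg g] at h', one_pow] at h
    linear_combination -((-1 : F) ^ (m + 1)) * h - (ρ g).charpoly.coeff 0 * hsq
  let Φ : (Set.range fun g => (ρ g).charpoly) → {v : Fin m → F // T v = v} := fun P =>
    ⟨fun i => P.1.coeff (i + 1), by
      obtain ⟨_, g, rfl⟩ := P
      funext i
      have hi := i.2
      show (-1 : F) ^ (m + 1) * σ ((ρ g).charpoly.coeff ((i.rev : ℕ) + 1)) = (ρ g).charpoly.coeff (i + 1)
      rw [show σ ((ρ g).charpoly.coeff ((i.rev : ℕ) + 1)) = (ρ g).charpoly.coeff ((i.rev : ℕ) + 1) ^ q from rfl,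
        hsym g _ (by omega), ← mul_assoc, hsq, one_mul]
      congr 1
      rw [Fin.val_rev]; omega⟩
  refine Nat.card_eq_of_bijective Φ ⟨?_, ?_⟩
  · rintro ⟨_, g, rfl⟩ ⟨_, h, rfl⟩ heq
    refine Subtype.ext (Polynomial.ext fun i => ?_)
    rcases Nat.eq_zero_or_pos i with rfl | hpos
    · rw [hc0, hc0]
    rcases le_or_gt i m with hi | hi
    · have := congrFun (congrArg Subtype.val heq) ⟨i - 1, by omega⟩
      simpa [Φ, Nat.sub_add_cancel hpos] using this
    rcases Nat.lt_or_ge (m + 1) i with hi2 | hi2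
    · rw [coeff_eq_zero_of_natDegree_lt (by rw [hdeg]; omega),
        coeff_eq_zero_of_natDegree_lt (by rw [hdeg]; omega)]
    · obtain rfl : i = m + 1 := by omega
      have h1 := (Matrix.charpoly_monic (ρ g)).coeff_natDegree
      have h2 := (Matrix.charpoly_monic (ρ h)).coeff_natDegree
      rw [hdeg g] at h1; rw [hdeg h] at h2
      exact h1.trans h2.symm
  · rintro ⟨v, hv⟩
    set c : Fin (m + 1) → F := Fin.cons ((-1) ^ (m + 1)) v with hcdef
    set P := ((Semisimple.monicEquiv (m + 1)).symm c) with hPdef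
    have hP : ∀ i : Fin (m + 1), P.1.coeff i = c i := fun i => by
      rw [← Semisimple.monicEquiv_apply (m + 1) P i, hPdef, Equiv.apply_symm_apply]
    have hP0 : P.1.coeff 0 = (-1) ^ (m + 1) := by simpa [hcdef] using hP 0
    have hPv : ∀ i : Fin m, P.1.coeff (i + 1) = v i := fun i => by
      simpa [hcdef] using hP i.succ
    have hPtop : P.1.coeff (m + 1) = 1 := by
      have h' := P.2.1.coeff_natDegree
      rwa [P.2.2] at h'
    obtain ⟨M, hM, hMP⟩ := exists_unitary_charpoly hF (m + 1) P.1 P.2.1 P.2.2 (fun i hi => by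
      rcases Nat.eq_zero_or_pos i with rfl | hpos
      · rw [hP0, Nat.sub_zero, hPtop, mul_one]
        exact hneg
      rcases le_or_gt i m with hi2 | hi2
      · have hf := congrFun hv ⟨m - i, by omega⟩
        have e1 : (Fin.rev (⟨m - i, by omega⟩ : Fin m)) = ⟨i - 1, by omega⟩ := Fin.ext (by
          simp only [Fin.val_rev]; omega)
        simp only [T, e1] at hf
        have a1 : P.1.coeff i = v ⟨i - 1, by omega⟩ := by
          rw [← hPv]; congr 1; simp only; omega
        have a2 : P.1.coeff (m + 1 - i) = v ⟨m - i, by omega⟩ := by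
          rw [← hPv]; congr 1; simp only; omega
        rw [a1, a2, ← hf, ← mul_assoc, hsq, one_mul]
        rfl
      · obtain rfl : i = m + 1 := by omega
        rw [hPtop, Nat.sub_self, hP0, one_pow, hsq])
    have hdet : M.det = 1 := by
      rw [Semisimple.det_eq_coeff, hMP, hP0, hsq]
    refine ⟨⟨P.1, ⟨⟨⟨M, hdet⟩, (Unitary.mem_SU_iff _).2 hM⟩, hMP⟩⟩, Subtype.ext (funext fun i => hPv i)⟩

end Cfsg.Agent.S2386
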