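import Cfsg.Statements.S2391
import Cfsg.Agent.EqLemmas

set_option autoImplicit false
open Cfsg

namespace Cfsg.Agent.S2391

variable {F : Type*} [Field F] {n : ℕ}

open Matrix

/-- Vectors moved into `W` by every element of `U`. -/
def fix (U : Subgroup (SpecialLinearGroup (Fin n) F)) (W : Submodule F (Fin n → F)) :
    Submodule F (Fin n → F) :=
  ⨅ u : U, W.comap (Matrix.mulVecLin ((u : SpecialLinearGroup (Fin n) F) : Matrix (Fin n) (Fin n) F) - 1)

theorem mem_fix {U : Subgroup (SpecialLinearGroup (Fin n) F)} {W : Submodule F (Fin n → F)}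
    {v : Fin n → F} : v ∈ fix U W ↔ ∀ u ∈ U, (u : Matrix (Fin n) (Fin n) F).mulVec v - v ∈ W := by
  simp [fix]

theorem act_mul (u v : SpecialLinearGroup (Fin n) F) (x : Fin n → F) :
    ((u * v : SpecialLinearGroup (Fin n) F) : Matrix (Fin n) (Fin n) F).mulVec x =
      (u : Matrix (Fin n) (Fin n) F).mulVec ((v : Matrix (Fin n) (Fin n) F).mulVec x) := by
  rw [Matrix.mulVec_mulVec]; rfl

/-- Stable under the action of `u`. -/
def Inv (W : Submodule F (Fin n → F)) (u : SpecialLinearGroup (Fin n) F) : Prop :=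
  ∀ v ∈ W, (u : Matrix (Fin n) (Fin n) F).mulVec v ∈ W

theorem inv_fix {U : Subgroup (SpecialLinearGroup (Fin n) F)} {W : Submodule F (Fin n → F)}
    {g : SpecialLinearGroup (Fin n) F} (hg : g ∈ Subgroup.normalizer (U : Set _)) (hW : Inv W g) :
    Inv (fix U W) g := by
  intro v hv
  rw [mem_fix] at hv ⊢
  intro u hu
  have h := hW _ (hv (g⁻¹ * u * g) ((Subgroup.mem_normalizer_iff''.1 hg u).1 hu))
  rwa [Matrix.mulVec_sub, ← act_mul, mul_assoc, mul_inv_cancel_left, act_mul] at h

variable [Fintype F] {p : ℕ} [Fact p.Prime] [CharP F p]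

theorem lt_fix {U : Subgroup (SpecialLinearGroup (Fin n) F)} (hU : IsPGroup p U)
    {W : Submodule F (Fin n → F)} (hW : ∀ u ∈ U, Inv W u) (hne : W ≠ ⊤) : W < fix U W := by
  refine lt_of_le_of_ne (fun v hv => mem_fix.2 fun u hu => W.sub_mem (hW u hu v hv) hv) fun heq => ?_
  let φ : U →* Function.End ((Fin n → F) ⧸ W) :=
    { toFun := fun u => ⇑(W.mapQ W (Matrix.mulVecLin ((u : SpecialLinearGroup (Fin n) F) : Matrix (Fin n) (Fin n) F))
        (fun v hv => hW u.1 u.2 v hv))
      map_one' := by
        funext x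
        induction x using Submodule.Quotient.induction_on with
        | _ v => simp; rfl
      map_mul' := fun a b => by
        funext x
        induction x using Submodule.Quotient.induction_on with
        | _ v =>
          show Submodule.Quotient.mk _ = Submodule.Quotient.mk _
          congr 1
          exact act_mul a.1 b.1 v }
  letI : MulAction U ((Fin n → F) ⧸ W) := MulAction.compHom _ φ
  have hdvd : p ∣ Nat.card ((Fin n → F) ⧸ W) := by
    rw [Module.natCard_eq_pow_finrank (K := F)]
    refine dvd_pow ?_ ?_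
    · rw [Nat.card_eq_fintype_card]
      obtain ⟨k, -, hk⟩ := FiniteField.card F p
      exact hk ▸ dvd_pow_self p k.ne_zero
    · intro h0
      apply hne
      have : Subsingleton ((Fin n → F) ⧸ W) := Module.finrank_zero_iff.1 h0
      exact Submodule.Quotient.subsingleton_iff.1 this
  have h0 : (0 : (Fin n → F) ⧸ W) ∈ MulAction.fixedPoints U ((Fin n → F) ⧸ W) := fun u => by
    show φ u 0 = 0
    exact map_zero (Submodule.mapQ W W (Matrix.mulVecLin ((u : SpecialLinearGroup (Fin n) F) : Matrix (Fin n) (Fin n) F)) fun v hv => hW u.1 u.2 v hv)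
  obtain ⟨b, hb, hb0⟩ := hU.exists_fixed_point_of_prime_dvd_card_of_fixed_point _ hdvd h0
  induction b using Submodule.Quotient.induction_on with
  | _ v =>
    have hv : v ∈ fix U W := mem_fix.2 fun u hu =>
      (Submodule.Quotient.eq W).1 (hb ⟨u, hu⟩)
    rw [← heq] at hv
    exact hb0 ((Submodule.Quotient.mk_eq_zero W).2 hv).symm


/-- The Borel–Tits property of `SL_n(q)` in flag form: for a field `F` of characteristic `p` with finitely many elements and a non-trivial `p`-subgroup `U` of `SL_n(F)`, there is a flag `0 = V₀ < V₁ < ⋯ < V_{k+1} = F^n` with at least one proper non-zero member such that every element of the normaliser of `U` maps each `V_i` onto itself and every element of `U` acts trivially on each quotient `V_{i+1}/V_i` (so the normaliser lies in the parabolic subgroup of the flag and `U` in its unipotent radical). -/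
theorem result {F : Type*} [Field F] [Fintype F] (p : ℕ) [Fact p.Prime] [CharP F p] (n : ℕ)
    (U : Subgroup (Matrix.SpecialLinearGroup (Fin n) F)) (hU : IsPGroup p ↥U) (hne : U ≠ ⊥) :
    ∃ (k : ℕ) (V : Fin (k + 2) → Submodule F (Fin n → F)), 1 ≤ k ∧ StrictMono V ∧ V 0 = ⊥ ∧ V (Fin.last (k + 1)) = ⊤ ∧
      (∀ g ∈ Subgroup.normalizer (U : Set (Matrix.SpecialLinearGroup (Fin n) F)), ∀ i, (V i).map (Matrix.mulVecLin (g : Matrix (Fin n) (Fin n) F)) = V i) ∧
      (∀ u ∈ U, ∀ i : Fin (k + 1), ∀ v ∈ V i.succ, (u : Matrix (Fin n) (Fin n) F).mulVec v - v ∈ V (Fin.castSucc i)) := by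
  let C : ℕ → Submodule F (Fin n → F) := fun i => (fix U)^[i] ⊥
  have hsucc : ∀ i, C (i + 1) = fix U (C i) := fun i => Function.iterate_succ_apply' _ _ _
  have hN : ∀ g ∈ Subgroup.normalizer (U : Set (Matrix.SpecialLinearGroup (Fin n) F)), ∀ i,
      Inv (C i) g := by
    intro g hg i
    induction i with
    | zero => intro v hv; simp [C] at hv; simp [C, hv]
    | succ i ih => rw [hsucc]; exact inv_fix hg ih
  have hstep : ∀ i, C i ≠ ⊤ → C i < C (i + 1) := fun i hi => by
    rw [hsucc]
    exact lt_fix hU (fun u hu => hN u (Subgroup.le_normalizer hu) i) hi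
  have hex : ∃ i, C i = ⊤ := by
    by_contra hc
    push Not at hc
    have hs : StrictMono fun i => Module.finrank F (C i) :=
      strictMono_nat_of_lt_succ fun i => Submodule.finrank_lt_finrank_of_lt (hstep i (hc i))
    have h1 := hs.id_le (n + 1)
    have h2 := Submodule.finrank_le (C (n + 1))
    simp at h1 h2
    omega
  obtain ⟨m, hm, hmin⟩ : ∃ m, C m = ⊤ ∧ ∀ i < m, C i ≠ ⊤ :=
    ⟨Nat.find hex, Nat.find_spec hex, fun i h => Nat.find_min hex h⟩
  have h2 : 2 ≤ m := by
    by_contra hlt
    apply hne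
    rw [Subgroup.eq_bot_iff_forall]
    intro u hu
    have h1 : C 1 = ⊤ := by
      rcases (show m = 0 ∨ m = 1 by omega) with rfl | rfl
      · rw [hsucc, hm]
        exact eq_top_iff.2 fun v _ => mem_fix.2 fun _ _ => trivial
      · exact hm
    apply Subtype.ext
    apply Matrix.toLin'.injective
    apply LinearMap.ext
    intro v
    have hv : v ∈ fix U ⊥ := by
      have : v ∈ C 1 := by rw [h1]; trivial
      exact this
    have := mem_fix.1 hv u hu
    rw [Submodule.mem_bot, sub_eq_zero] at this
    simpa [Matrix.toLin'_apply] using this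
  obtain ⟨k, rfl⟩ : ∃ k, m = k + 1 := ⟨m - 1, by omega⟩
  refine ⟨k, fun i => C i.val, by omega, ?_, rfl, hm, ?_, ?_⟩
  · refine Fin.strictMono_iff_lt_succ.2 fun i => ?_
    simpa using hstep i.val (hmin i.val (by omega))
  · intro g hg i
    refine le_antisymm ?_ ?_
    · rintro _ ⟨v, hv, rfl⟩
      exact hN g hg _ v hv
    · intro v hv
      refine ⟨_, hN g⁻¹ (inv_mem hg) _ v hv, ?_⟩
      show (g : Matrix (Fin n) (Fin n) F).mulVec _ = v
      rw [← act_mul, mul_inv_cancel]
      simp
  · intro u hu i v hv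
    have hv' : v ∈ fix U (C i.val) := by
      rw [← hsucc]; simpa using hv
    exact mem_fix.1 hv' u hu

end Cfsg.Agent.S2391
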