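import Cfsg.Statements.S2392
import Cfsg.Agent.EqLemmas
import Cfsg.Agent.Lib.CrossChar.Weights
import Cfsg.Agent.Lib.Linear.SLn

set_option autoImplicit false
open scoped MatrixGroups
open Cfsg

namespace Cfsg.Agent.S2392

open Matrix

variable {F : Type*} [Field F]

/-- `[[1, v], [0, A]]`, an affine element. -/
def aff (n : ℕ) (hn : 1 ≤ n) (v : Fin (n - 1) → F) (A : Matrix.SpecialLinearGroup (Fin (n - 1)) F) :
    Matrix.SpecialLinearGroup (Fin n) F :=
  ⟨(fromBlocks (1 : Matrix (Fin 1) (Fin 1) F) (replicateRow (Fin 1) v) 0 A.1).submatrix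
      ((finSumFinEquiv.trans (finCongr (show 1 + (n - 1) = n by omega))).symm)
      ((finSumFinEquiv.trans (finCongr (show 1 + (n - 1) = n by omega))).symm), by
    rw [det_submatrix_equiv_self, det_fromBlocks_zero₂₁, det_one, A.2, one_mul]⟩

theorem aff_mul (n : ℕ) (hn : 1 ≤ n) (v w : Fin (n - 1) → F)
    (A B : Matrix.SpecialLinearGroup (Fin (n - 1)) F) :
    aff n hn v A * aff n hn w B = aff n hn (w + v ᵥ* B.1) (A * B) := by
  apply Subtype.ext
  show _ * _ = _
  rw [aff, aff, aff, submatrix_mul_equiv, fromBlocks_multiply]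
  congr 1
  ext i j
  rcases i with i | i <;> rcases j with j | j <;> simp [vecMul, Matrix.mul_apply, dotProduct]

theorem aff_zero (n : ℕ) (hn : 1 ≤ n) : aff n hn (0 : Fin (n - 1) → F) 1 = 1 := by
  apply Subtype.ext
  show Matrix.submatrix _ _ _ = 1
  rw [replicateRow_zero]
  rw [show (1 : Matrix.SpecialLinearGroup (Fin (n - 1)) F).1 = 1 from rfl, fromBlocks_one,
    submatrix_one_equiv]

theorem aff_not_central {n : ℕ} (hn : 3 ≤ n) {v : Fin (n - 1) → F} (hv : v ≠ 0) :
    aff n (by omega) v 1 ∉ Subgroup.center (Matrix.SpecialLinearGroup (Fin n) F) := by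
  intro h
  obtain ⟨r, -, hr⟩ := Matrix.SpecialLinearGroup.mem_center_iff.1 h
  apply hv
  funext j
  let e := finSumFinEquiv.trans (finCongr (show 1 + (n - 1) = n by omega))
  have := congrFun (congrFun hr (e (Sum.inl 0))) (e (Sum.inr j))
  simpa [aff, e, Matrix.diagonal, Fin.ext_iff, show ¬ (0 = 1 + j.val) by omega] using this.symm


/-- A lower bound for representations in cross characteristic: for `n ≥ 3` and a field `F` with `q` elements, every homomorphism from `SL_n(F)` to `GL_d(K)`, `K` a field of characteristic different from that of `F`, whose kernel is central has `d ≥ q^(n-1) - 1`. -/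
theorem result {F : Type*} [Field F] [Fintype F] {q : ℕ} (hq : Fintype.card F = q) (n : ℕ) (hn : 3 ≤ n)
    {K : Type*} [Field K] (hK : ringChar K ≠ ringChar F) {d : ℕ}
    (ρ : Matrix.SpecialLinearGroup (Fin n) F →* GL (Fin d) K) (hker : ρ.ker ≤ Subgroup.center (Matrix.SpecialLinearGroup (Fin n) F)) :
    q ^ (n - 1) - 1 ≤ d := by
  classical
  let L := AlgebraicClosure K
  have hL : ringChar L ≠ ringChar F := by
    rw [← Algebra.ringChar_eq K L]; exact hK
  obtain ⟨ψ, hψ⟩ := CrossChar.exists_ne_one_addChar F L hL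
  let ρ' : Matrix.SpecialLinearGroup (Fin n) F →* Matrix (Fin d) (Fin d) L :=
    ((algebraMap K L).mapMatrix.toMonoidHom.comp (Units.coeHom _)).comp ρ
  let σ : (Fin (n - 1) → F) → Matrix (Fin d) (Fin d) L := fun v => ρ' (aff n (by omega) v 1)
  have h0 : σ 0 = 1 := by simp [σ, aff_zero]
  have hadd : ∀ u v, σ (u + v) = σ u * σ v := fun u v => by
    simp only [σ, ← map_mul, aff_mul, mul_one]
    rw [show (1 : Matrix.SpecialLinearGroup (Fin (n - 1)) F).1 = 1 from rfl, vecMul_one, add_comm]
  let j : Fin (n - 1) := ⟨0, by omega⟩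
  have hu : σ (Pi.single j 1) ≠ 1 := by
    intro h
    refine aff_not_central hn (v := Pi.single j (1 : F)) (by simp) (hker ?_)
    apply Units.ext
    exact (algebraMap K L).mapMatrix_apply .. |>.symm.trans h |> fun h' =>
      Matrix.map_injective (algebraMap K L).injective (by simpa [ρ'] using h')
  obtain ⟨w₀, hw₀, hproj⟩ := CrossChar.exists_weight_ne_zero hψ hL h0 hadd hu
  let S : Finset (Fin (n - 1) → F) := {w | w ≠ 0}
  have hS : ∀ w ∈ S, CrossChar.proj ψ σ w ≠ 0 := by
    intro w hw
    simp [S] at hw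
    haveI : Nontrivial (Fin (n - 1)) := Fin.nontrivial_iff_two_le.2 (by omega)
    obtain ⟨A, hA⟩ := Linear.exists_sl_smul_eq hw₀ hw
    change A.1 *ᵥ w₀ = w at hA
    intro hzero
    apply hproj
    have hP : ∀ v, σ v * ρ' (aff n (by omega) 0 A) = ρ' (aff n (by omega) 0 A) * σ (v ᵥ* A.1) := by
      intro v
      simp only [σ, ← map_mul, aff_mul, mul_one, one_mul, zero_add, vecMul_one, zero_vecMul,
        add_zero, show (1 : Matrix.SpecialLinearGroup (Fin (n - 1)) F).1 = 1 from rfl]
    let f : (Fin (n - 1) → F) ≃ (Fin (n - 1) → F) :=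
      { toFun := fun v => v ᵥ* A.1
        invFun := fun v => v ᵥ* (A⁻¹).1
        left_inv := fun v => by
          show (v ᵥ* A.1) ᵥ* (A⁻¹).1 = v
          rw [vecMul_vecMul, show A.1 * (A⁻¹).1 = 1 from congrArg Subtype.val (mul_inv_cancel A),
            vecMul_one]
        right_inv := fun v => by
          show (v ᵥ* (A⁻¹).1) ᵥ* A.1 = v
          rw [vecMul_vecMul, show (A⁻¹).1 * A.1 = 1 from congrArg Subtype.val (inv_mul_cancel A),
            vecMul_one] }
    have hconj := CrossChar.proj_conj (ψ := ψ) f hP w w₀ fun v => by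
      show w₀ ⬝ᵥ (v ᵥ* A.1) = w ⬝ᵥ v
      rw [dotProduct_comm, ← dotProduct_mulVec, hA, dotProduct_comm]
    rw [hzero, zero_mul] at hconj
    have hinv : ρ' (aff n (by omega) 0 A⁻¹) * ρ' (aff n (by omega) 0 A) = 1 := by
      rw [← map_mul, aff_mul, zero_vecMul, add_zero, inv_mul_cancel, aff_zero, map_one]
    calc CrossChar.proj ψ σ w₀ = ρ' (aff n (by omega) 0 A⁻¹) *
          (ρ' (aff n (by omega) 0 A) * CrossChar.proj ψ σ w₀) := by rw [← mul_assoc, hinv, one_mul]
      _ = 0 := by rw [← hconj, mul_zero]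
  have hcard := CrossChar.card_weights_le hψ hL hadd S hS
  have : S.card = q ^ (n - 1) - 1 := by
    rw [show S = Finset.univ.erase (0 : Fin (n - 1) → F) by ext w; simp [S],
      Finset.card_erase_of_mem (Finset.mem_univ _), Finset.card_univ, Fintype.card_fun, hq,
      Fintype.card_fin]
  omega

end Cfsg.Agent.S2392
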