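import Cfsg.Statements.S2393
import Cfsg.Agent.EqLemmas
import Cfsg.Agent.Lib.CrossChar.Weights

set_option autoImplicit false
open scoped MatrixGroups
open Cfsg

namespace Cfsg.Agent.S2393

open Matrix

variable {F : Type*} [Field F] {k : ℕ}

/-- The symmetric matrix with first row and column `s` and zeros elsewhere. -/
def symMat (s : Fin (k + 1) → F) : Matrix (Fin (k + 1)) (Fin (k + 1)) F :=
  Matrix.of fun i j => if i = 0 then s j else if j = 0 then s i else 0

/-- First row `(t, b)`, identity below. -/
def mMat (t : F) (b : Fin k → F) : Matrix (Fin (k + 1)) (Fin (k + 1)) F :=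
  Matrix.of fun i j => if i = 0 then (Fin.cons t b : Fin (k + 1) → F) j else if i = j then 1 else 0

/-- The action of `mMat` on first rows. -/
def hMap (t : F) (b : Fin k → F) (s : Fin (k + 1) → F) : Fin (k + 1) → F :=
  Fin.cons (t ^ 2 * s 0 + 2 * t * ∑ i, b i * s i.succ) fun i => t * s i.succ

theorem symMat_transpose (s : Fin (k + 1) → F) : (symMat s)ᵀ = symMat s := by
  ext i j
  simp only [symMat, Matrix.transpose_apply, Matrix.of_apply]
  by_cases hi : i = 0 <;> by_cases hj : j = 0 <;> simp [hi, hj]

theorem symMat_add (s s' : Fin (k + 1) → F) : symMat (s + s') = symMat s + symMat s' := by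
  ext i j
  simp only [symMat, Matrix.of_apply, Matrix.add_apply, Pi.add_apply]
  split_ifs <;> simp

theorem symMat_injective : Function.Injective (symMat : (Fin (k + 1) → F) → _) := by
  intro s s' h
  funext j
  simpa [symMat] using congrFun (congrFun h 0) j

theorem det_mMat (t : F) (b : Fin k → F) : (mMat t b).det = t := by
  rw [Matrix.det_of_upperTriangular]
  · rw [Fin.prod_univ_succ]; simp [mMat]
  · intro i j hij
    simp only [id_eq] at hij
    have hi : i ≠ 0 := fun h => by subst h; exact absurd hij (by simp)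
    simp [mMat, hi, hij.ne']

theorem conj_symMat (t : F) (b : Fin k → F) (s : Fin (k + 1) → F) :
    mMat t b * symMat s * (mMat t b)ᵀ = symMat (hMap t b s) := by
  have h1 : ∀ i j, (mMat t b * symMat s) i j =
      if i = 0 then (if j = 0 then t * s 0 + ∑ l, b l * s l.succ else t * s j)
      else if j = 0 then s i else 0 := by
    intro i j
    induction i using Fin.cases <;> induction j using Fin.cases <;>
      simp [Matrix.mul_apply, Fin.sum_univ_succ, mMat, symMat, Fin.succ_ne_zero]
  ext i j
  rw [Matrix.mul_apply]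
  simp only [h1, Matrix.transpose_apply]
  induction i using Fin.cases <;> induction j using Fin.cases <;>
    simp [Fin.sum_univ_succ, mMat, symMat, hMap, Fin.succ_ne_zero]
  all_goals
    (try simp_rw [mul_assoc, ← Finset.mul_sum])
    try rw [Finset.sum_congr rfl (fun x _ => mul_comm (s (Fin.succ x)) (b x))]
    ring

/-- Unipotent elements. -/
def aElt (s : Fin (k + 1) → F) : symplecticGroup (Fin (k + 1)) F :=
  ⟨fromBlocks 1 (symMat s) 0 1, by
    rw [SymplecticGroup.mem_iff]
    simp [Matrix.J, fromBlocks_transpose, fromBlocks_multiply, symMat_transpose]⟩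

/-- Levi-type elements. -/
noncomputable def pElt (t : F) (ht : t ≠ 0) (b : Fin k → F) : symplecticGroup (Fin (k + 1)) F :=
  ⟨fromBlocks (mMat t b) 0 0 ((mMat t b)⁻¹)ᵀ, by
    have hu : IsUnit (mMat t b).det := by rw [det_mMat]; exact ht.isUnit
    rw [SymplecticGroup.mem_iff]
    simp only [Matrix.J, fromBlocks_transpose, fromBlocks_multiply, transpose_transpose,
      transpose_zero, Matrix.mul_zero, Matrix.zero_mul, add_zero, zero_add, Matrix.mul_one,
      Matrix.mul_neg, Matrix.neg_mul, neg_zero, Matrix.mul_nonsing_inv _ hu]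
    rw [← transpose_mul, Matrix.mul_nonsing_inv _ hu, transpose_one]⟩

theorem aElt_add (s s' : Fin (k + 1) → F) : aElt (s + s') = aElt s * aElt s' := by
  apply Subtype.ext
  show _ = _ * _
  simp [aElt, symMat_add, fromBlocks_multiply, add_comm]

theorem aElt_zero : aElt (0 : Fin (k + 1) → F) = 1 := by
  have h := aElt_add (0 : Fin (k + 1) → F) 0
  rw [add_zero] at h
  exact left_eq_mul.1 h

theorem aElt_conj (t : F) (ht : t ≠ 0) (b : Fin k → F) (s : Fin (k + 1) → F) :
    aElt (hMap t b s) * pElt t ht b = pElt t ht b * aElt s := by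
  have hu : IsUnit (mMat t b).det := by rw [det_mMat]; exact ht.isUnit
  apply Subtype.ext
  show _ * _ = _ * _
  simp only [aElt, pElt, fromBlocks_multiply, ← conj_symMat]
  simp only [Matrix.mul_zero, Matrix.zero_mul, add_zero, zero_add, Matrix.mul_one, Matrix.one_mul]
  rw [Matrix.mul_assoc _ (mMat t b)ᵀ, ← transpose_mul, Matrix.nonsing_inv_mul _ hu, transpose_one,
    Matrix.mul_one]

theorem hMap_injective (t : F) (ht : t ≠ 0) (b : Fin k → F) : Function.Injective (hMap t b) := by
  intro s s' h
  have hu : IsUnit (mMat t b).det := by rw [det_mMat]; exact ht.isUnit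
  have h2 := congrArg symMat h
  rw [← conj_symMat, ← conj_symMat] at h2
  have h3 := congrArg (fun X => (mMat t b)⁻¹ * X * ((mMat t b)ᵀ)⁻¹) h2
  have hu' : IsUnit ((mMat t b)ᵀ).det := by rwa [Matrix.det_transpose]
  simp only [← Matrix.mul_assoc, Matrix.nonsing_inv_mul _ hu, Matrix.one_mul] at h3
  simp only [Matrix.mul_assoc, Matrix.mul_nonsing_inv _ hu', Matrix.mul_one] at h3
  exact symMat_injective h3

theorem aElt_not_central {s : Fin (k + 1) → F} (hs : s ≠ 0) :
    aElt s ∉ Subgroup.center (symplecticGroup (Fin (k + 1)) F) := by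
  intro h
  apply hs
  let j : symplecticGroup (Fin (k + 1)) F :=
    ⟨Matrix.J (Fin (k + 1)) F, SymplecticGroup.J_mem _ _⟩
  have h2 := congrArg Subtype.val (Subgroup.mem_center_iff.1 h j)
  change Matrix.J (Fin (k + 1)) F * (aElt s).1 = (aElt s).1 * Matrix.J (Fin (k + 1)) F at h2
  simp only [aElt, Matrix.J, fromBlocks_multiply] at h2
  have := congrArg Matrix.toBlocks₁₁ h2
  simp at this
  exact symMat_injective (this.symm.trans (by ext i j; simp [symMat]))


/-- A lower bound for representations in cross characteristic: for `n ≥ 2` and a field `F` with `q` elements, `q` odd, every homomorphism from the symplectic group `Sp_{2n}(F)` to `GL_d(K)`, `K` a field of characteristic different from that of `F`, whose kernel is central has `d ≥ q^(n-1)(q-1)/2`. -/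
theorem result {F : Type*} [Field F] [Fintype F] {q : ℕ} (hq : Fintype.card F = q) (hodd : Odd q) (n : ℕ) (hn : 2 ≤ n)
    {K : Type*} [Field K] (hK : ringChar K ≠ ringChar F) {d : ℕ}
    (ρ : ↥(Matrix.symplecticGroup (Fin n) F) →* GL (Fin d) K) (hker : ρ.ker ≤ Subgroup.center ↥(Matrix.symplecticGroup (Fin n) F)) :
    q ^ (n - 1) * (q - 1) / 2 ≤ d := by
  classical
  obtain ⟨k, rfl⟩ : ∃ k, n = k + 1 := ⟨n - 1, by omega⟩
  let L := AlgebraicClosure K
  have hL : ringChar L ≠ ringChar F := by rw [← Algebra.ringChar_eq K L]; exact hK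
  obtain ⟨ψ, hψ⟩ := CrossChar.exists_ne_one_addChar F L hL
  have h2 : (2 : F) ≠ 0 := Ring.two_ne_zero fun h => by
    have := FiniteField.even_card_of_char_two h
    rw [Nat.odd_iff] at hodd; omega
  let ρ' : ↥(symplecticGroup (Fin (k + 1)) F) →* Matrix (Fin d) (Fin d) L :=
    ((algebraMap K L).mapMatrix.toMonoidHom.comp (Units.coeHom _)).comp ρ
  let σ : (Fin (k + 1) → F) → Matrix (Fin d) (Fin d) L := fun s => ρ' (aElt s)
  have h0 : σ 0 = 1 := by simp only [σ, aElt_zero, map_one]
  have hadd : ∀ u v, σ (u + v) = σ u * σ v := fun u v => by simp only [σ, ← map_mul, aElt_add]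
  -- a weight that is non-trivial on the centre of the Heisenberg group
  obtain ⟨w₀, hw₀, hproj⟩ : ∃ w : Fin (k + 1) → F, w 0 ≠ 0 ∧ CrossChar.proj ψ σ w ≠ 0 := by
    by_contra hc
    push Not at hc
    have htriv : σ (Pi.single 0 1) = 1 := by
      calc σ (Pi.single 0 1) = σ (Pi.single 0 1) * ∑ w, CrossChar.proj ψ σ w := by
            rw [CrossChar.sum_proj hψ hL h0, mul_one]
        _ = ∑ w, CrossChar.proj ψ σ w := by
          rw [Finset.mul_sum]
          refine Finset.sum_congr rfl fun w _ => ?_
          rw [CrossChar.apply_mul_proj hadd]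
          by_cases hw : w 0 = 0
          · rw [dotProduct_single, hw, zero_mul, AddChar.map_zero_eq_one, one_smul]
          · rw [hc w hw, smul_zero]
        _ = 1 := CrossChar.sum_proj hψ hL h0
    refine aElt_not_central (s := Pi.single 0 (1 : F)) (by simp) (hker ?_)
    apply Units.ext
    exact Matrix.map_injective (algebraMap K L).injective
      (htriv.trans (Matrix.map_one _ (map_zero _) (map_one _)).symm)
  let C : Finset F := (Finset.univ.filter fun t : F => t ≠ 0).image fun t => w₀ 0 / t ^ 2
  let S : Finset (Fin (k + 1) → F) :=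
    (C ×ˢ (Finset.univ : Finset (Fin k → F))).image fun x => Fin.cons x.1 x.2
  have hS : ∀ w ∈ S, CrossChar.proj ψ σ w ≠ 0 := by
    intro w hw
    obtain ⟨⟨c, u⟩, hcu, rfl⟩ := Finset.mem_image.1 hw
    rw [Finset.mem_product] at hcu
    obtain ⟨t, ht, htc⟩ := Finset.mem_image.1 hcu.1
    simp only [Finset.mem_filter, Finset.mem_univ, true_and] at ht
    simp only at htc
    have htc' : t ^ 2 * c = w₀ 0 := by rw [← htc]; field_simp
    have hc0 : c ≠ 0 := fun h => hw₀ (by rw [← htc', h, mul_zero])
    let b : Fin k → F := fun i => (w₀ i.succ - t * u i) / (2 * t * c)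
    let e : (Fin (k + 1) → F) ≃ (Fin (k + 1) → F) :=
      Equiv.ofBijective (hMap t b) (Finite.injective_iff_bijective.1 (hMap_injective t ht b))
    intro hzero
    apply hproj
    have hP : ∀ v, σ v * ρ' (pElt t ht b) = ρ' (pElt t ht b) * σ (e.symm v) := by
      intro v
      simp only [σ, ← map_mul]
      conv_lhs => rw [← e.apply_symm_apply v]
      exact congrArg ρ' (aElt_conj t ht b _)
    have hconj := CrossChar.proj_conj (ψ := ψ) e.symm hP (Fin.cons c u) w₀ fun v => by
      conv_rhs => rw [← e.apply_symm_apply v]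
      generalize e.symm v = x
      show w₀ ⬝ᵥ x = (Fin.cons c u : Fin (k + 1) → F) ⬝ᵥ hMap t b x
      simp only [dotProduct, Fin.sum_univ_succ, hMap, Fin.cons_zero, Fin.cons_succ]
      have hb : ∀ i, w₀ i.succ = 2 * t * c * b i + t * u i := fun i => by
        simp only [b]; field_simp; ring
      simp only [← htc', hb, mul_add, Finset.mul_sum, add_assoc, ← Finset.sum_add_distrib]
      congr 1
      · ring
      · exact Finset.sum_congr rfl fun i _ => by ring
    rw [hzero, zero_mul] at hconj
    have hinv : ρ' (pElt t ht b)⁻¹ * ρ' (pElt t ht b) = 1 := by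
      rw [← map_mul, inv_mul_cancel, map_one]
    calc CrossChar.proj ψ σ w₀
        = ρ' (pElt t ht b)⁻¹ * (ρ' (pElt t ht b) * CrossChar.proj ψ σ w₀) := by
          rw [← mul_assoc, hinv, one_mul]
      _ = 0 := by rw [← hconj, mul_zero]
  have hd := CrossChar.card_weights_le hψ hL hadd S hS
  have hC : Fintype.card F - 1 ≤ 2 * C.card := by
    have hfib : ∀ c ∈ C, (Finset.filter (fun t => w₀ 0 / t ^ 2 = c)
        (Finset.univ.filter fun t : F => t ≠ 0)).card ≤ 2 := by
      intro c hc
      obtain ⟨t₁, ht₁, rfl⟩ := Finset.mem_image.1 hc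
      refine le_trans (Finset.card_le_card (t := {t₁, -t₁}) ?_) Finset.card_le_two
      intro t ht
      simp only [Finset.mem_filter, Finset.mem_univ, true_and] at ht ht₁
      obtain ⟨ht0, he⟩ := ht
      field_simp at he
      simp only [Finset.mem_insert, Finset.mem_singleton]
      rcases sq_eq_sq_iff_eq_or_eq_neg.1 he with h | h
      · exact Or.inl h.symm
      · exact Or.inr (by rw [h, neg_neg])
    have h := Finset.card_le_mul_card_image _ 2 hfib
    rw [Finset.filter_ne' Finset.univ (0 : F), Finset.card_erase_of_mem (Finset.mem_univ _),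
      Finset.card_univ] at h
    simpa [C, Finset.filter_ne'] using h
  have hScard : S.card = C.card * q ^ k := by
    rw [Finset.card_image_of_injective _ (fun x y h => by
      obtain ⟨h1, h2⟩ := Fin.cons_inj.1 h; exact Prod.ext h1 h2),
      Finset.card_product, Finset.card_univ, Fintype.card_fun, hq, Fintype.card_fin]
  rw [hq] at hC
  rw [hScard] at hd
  rw [Nat.add_sub_cancel]
  calc q ^ k * (q - 1) / 2 ≤ q ^ k * (2 * C.card) / 2 := Nat.div_le_div_right (Nat.mul_le_mul_left _ hC)
    _ = C.card * q ^ k := by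
      rw [mul_left_comm, Nat.mul_div_cancel_left _ (by norm_num), mul_comm]
    _ ≤ d := hd

end Cfsg.Agent.S2393
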