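import Cfsg.Statements.S2394
import Cfsg.Agent.EqLemmas
import Cfsg.Agent.Lib.GLOrder.Basic

set_option autoImplicit false
open scoped MatrixGroups
open Cfsg

namespace Cfsg.Agent.S2394

open Matrix

section weights

variable {m n d : ℕ} [NeZero m] {L : Type*} [Field L]

/-- Projection on the weight `w` of a representation of `(ℤ/m)ⁿ`. -/
noncomputable def proj (ψ : AddChar (ZMod m) L) (σ : (Fin n → ZMod m) → Matrix (Fin d) (Fin d) L)
    (w : Fin n → ZMod m) : Matrix (Fin d) (Fin d) L :=
  (Fintype.card (Fin n → ZMod m) : L)⁻¹ • ∑ v, ψ (-(w ⬝ᵥ v)) • σ v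

variable {ψ : AddChar (ZMod m) L} {σ : (Fin n → ZMod m) → Matrix (Fin d) (Fin d) L}

theorem sum_psi (hψ : ψ.IsPrimitive) (w : Fin n → ZMod m) :
    ∑ v, ψ (w ⬝ᵥ v) = if w = 0 then (Fintype.card (Fin n → ZMod m) : L) else 0 := by
  split_ifs with h
  · simp [h]
  · let χ : AddChar (Fin n → ZMod m) L :=
      { toFun := fun v => ψ (w ⬝ᵥ v)
        map_zero_eq_one' := by simp
        map_add_eq_mul' := fun u v => by rw [dotProduct_add, AddChar.map_add_eq_mul] }
    have hne : χ ≠ 1 := by
      obtain ⟨i, hi⟩ : ∃ i, w i ≠ 0 := by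
        by_contra hc; push Not at hc; exact h (funext hc)
      obtain ⟨a, ha⟩ := AddChar.ne_one_iff.1 (hψ hi)
      rw [AddChar.ne_one_iff]
      refine ⟨Pi.single i a, ?_⟩
      show ψ (w ⬝ᵥ Pi.single i a) ≠ 1
      rwa [dotProduct_single, ← AddChar.mulShift_apply]
    exact AddChar.sum_eq_zero_of_ne_one hne

theorem apply_mul_proj (hadd : ∀ u v, σ (u + v) = σ u * σ v) (u w : Fin n → ZMod m) :
    σ u * proj ψ σ w = ψ (w ⬝ᵥ u) • proj ψ σ w := by
  rw [proj, Matrix.mul_smul, smul_comm (ψ (w ⬝ᵥ u)), Matrix.mul_sum,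
    Finset.smul_sum (r := ψ (w ⬝ᵥ u))]
  congr 1
  refine Fintype.sum_equiv (Equiv.addLeft u : (Fin n → ZMod m) ≃ (Fin n → ZMod m)) _ _ fun v => ?_
  simp only [Equiv.coe_addLeft, Matrix.mul_smul, hadd, smul_smul, ← AddChar.map_add_eq_mul]
  congr 2
  rw [dotProduct_add]
  ring

theorem proj_mul (hψ : ψ.IsPrimitive) (hc : (Fintype.card (Fin n → ZMod m) : L) ≠ 0)
    (hadd : ∀ u v, σ (u + v) = σ u * σ v) (w w' : Fin n → ZMod m) :
    proj ψ σ w' * proj ψ σ w = if w = w' then proj ψ σ w else 0 := by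
  have : proj ψ σ w' * proj ψ σ w =
      ((Fintype.card (Fin n → ZMod m) : L)⁻¹ * ∑ v, ψ ((w - w') ⬝ᵥ v)) • proj ψ σ w := by
    conv_lhs => rw [proj]
    rw [Matrix.smul_mul, Matrix.sum_mul, mul_smul, Finset.sum_smul]
    congr 1
    refine Finset.sum_congr rfl fun v _ => ?_
    rw [Matrix.smul_mul, apply_mul_proj hadd, smul_smul, ← AddChar.map_add_eq_mul, sub_dotProduct]
    congr 2
    ring
  rw [this, sum_psi hψ]
  by_cases h : w = w'
  · rw [if_pos (sub_eq_zero.2 h), if_pos h, inv_mul_cancel₀ hc, one_smul]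
  · simp [h, sub_ne_zero.2 h]

theorem sum_proj (hψ : ψ.IsPrimitive) (hc : (Fintype.card (Fin n → ZMod m) : L) ≠ 0)
    (h0 : σ 0 = 1) : ∑ w, proj ψ σ w = 1 := by
  simp only [proj, ← Finset.smul_sum]
  rw [Finset.sum_comm, Finset.sum_eq_single 0]
  · simp only [dotProduct_zero, neg_zero, AddChar.map_zero_eq_one, one_smul, h0,
      Finset.sum_const, Finset.card_univ]
    rw [← Nat.cast_smul_eq_nsmul L, smul_smul, inv_mul_cancel₀ hc, one_smul]
  · intro v _ hv
    have h := sum_psi hψ (-v)
    rw [if_neg (neg_ne_zero.2 hv)] at h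
    have h' : ∑ w, ψ (-(w ⬝ᵥ v)) = 0 := by
      rw [← h]
      refine Finset.sum_congr rfl fun w _ => ?_
      rw [neg_dotProduct, dotProduct_comm]
    rw [← Finset.sum_smul, h', zero_smul]
  · simp

/-- Negation-stable weights of a faithful action of `(ℤ/m)ⁿ`: `2n ≤ d`. -/
theorem two_mul_le {r : ℕ} [Fact r.Prime] (hrm : r ∣ m)
    (hneg : ∀ x : ZMod m, x = -x → ZMod.castHom hrm (ZMod r) x = 0)
    (hψ : ψ.IsPrimitive) (hc : (Fintype.card (Fin n → ZMod m) : L) ≠ 0)
    (h0 : σ 0 = 1) (hadd : ∀ u v, σ (u + v) = σ u * σ v) (hinj : ∀ v, σ v = 1 → v = 0)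
    (hsym : ∀ w, proj ψ σ w ≠ 0 → proj ψ σ (-w) ≠ 0) : 2 * n ≤ d := by
  classical
  set π := ZMod.castHom hrm (ZMod r) with hπ
  let e := Fintype.equivFin (Fin n → ZMod m)
  let T : Finset (Fin n → ZMod m) := {w | proj ψ σ w ≠ 0 ∧ ∃ i, π (w i) ≠ 0}
  let T' : Finset (Fin n → ZMod m) := T.filter fun w => e w < e (-w)
  have hT : ∀ w, w ∈ T → -w ∈ T ∧ e w ≠ e (-w) := by
    intro w hw
    simp only [T, Finset.mem_filter, Finset.mem_univ, true_and] at hw ⊢
    obtain ⟨hw, i, hi⟩ := hw
    refine ⟨⟨hsym w hw, i, by simpa using hi⟩, fun he => hi (hneg _ ?_)⟩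
    exact congrFun (e.injective he) i
  -- twice `T'` is at most `d`
  have hTd : T.card ≤ d := by
    have hex : ∀ w : T, ∃ x, proj ψ σ w.1 *ᵥ x ≠ 0 := fun w => by
      have hw := w.2
      simp only [T, Finset.mem_filter] at hw
      by_contra hc'
      push Not at hc'
      exact hw.2.1 (Matrix.toLin'.injective (LinearMap.ext fun x => by simp [hc' x]))
    choose x hx using hex
    have hli : LinearIndependent L fun w : T => proj ψ σ w.1 *ᵥ x w := by
      rw [Fintype.linearIndependent_iff]
      intro g hg i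
      have h := congrArg (fun y => proj ψ σ i.1 *ᵥ y) hg
      simp only [Matrix.mulVec_sum, Matrix.mulVec_smul, Matrix.mulVec_mulVec, proj_mul hψ hc hadd,
        Matrix.mulVec_zero] at h
      rw [Finset.sum_eq_single i] at h
      · simp only [if_true] at h
        exact (smul_eq_zero.1 h).resolve_right (hx i)
      · intro j _ hj
        rw [if_neg fun he => hj (Subtype.ext he)]
        simp
      · simp
    simpa using hli.fintype_card_le_finrank
  have hdouble : 2 * T'.card ≤ T.card := by
    have hdis : Disjoint T' (T'.image fun w => -w) := by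
      rw [Finset.disjoint_left]
      intro w hw hw'
      obtain ⟨u, hu, rfl⟩ := Finset.mem_image.1 hw'
      simp only [T', Finset.mem_filter, neg_neg] at hw hu
      exact absurd (hw.2.trans hu.2) (lt_irrefl _)
    have hsub : T' ∪ (T'.image fun w => -w) ⊆ T := by
      apply Finset.union_subset (Finset.filter_subset _ _)
      intro w hw
      obtain ⟨u, hu, rfl⟩ := Finset.mem_image.1 hw
      exact (hT u (Finset.mem_filter.1 hu).1).1
    have := Finset.card_le_card hsub
    rw [Finset.card_union_of_disjoint hdis, Finset.card_image_of_injective _ neg_injective] at this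
    omega
  -- the weights in `T'` separate the elements of order `r`
  let j : (Fin n → ZMod r) → (T' → ZMod r) := fun u w => ∑ i, π (w.1 i) * u i
  have hj : Function.Injective j := by
    intro u₁ u₂ h12
    suffices ∀ u, j u = 0 → u = 0 by
      refine sub_eq_zero.1 (this _ ?_)
      funext w
      have := congrFun h12 w
      simp [j, mul_sub, Finset.sum_sub_distrib] at this ⊢
      exact sub_eq_zero.2 this
    intro u hu
    let v : Fin n → ZMod m := fun i => ((m / r : ℕ) : ZMod m) * ((u i).val : ZMod m)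
    have hdot : ∀ w, proj ψ σ w ≠ 0 → w ⬝ᵥ v = 0 := by
      intro w hw
      have hzero : π (∑ i, w i * ((u i).val : ZMod m)) = 0 := by
        simp only [map_sum, map_mul, map_natCast, ZMod.natCast_zmod_val]
        by_cases hwT : w ∈ T
        · rcases lt_or_gt_of_ne (hT w hwT).2 with hlt | hlt
          · exact congrFun hu ⟨w, Finset.mem_filter.2 ⟨hwT, hlt⟩⟩
          · have := congrFun hu ⟨-w, Finset.mem_filter.2 ⟨(hT w hwT).1, by rwa [neg_neg]⟩⟩
            simpa [j] using this
        · simp only [T, Finset.mem_filter, Finset.mem_univ, true_and, not_and, not_exists,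
            not_not] at hwT
          simp [hwT hw]
      have hw' : w ⬝ᵥ v = ((m / r : ℕ) : ZMod m) * ∑ i, w i * ((u i).val : ZMod m) := by
        rw [dotProduct, Finset.mul_sum]
        exact Finset.sum_congr rfl fun i _ => by simp only [v]; ring
      rw [hw']
      obtain ⟨k, hk⟩ := ZMod.natCast_zmod_surjective (∑ i, w i * ((u i).val : ZMod m))
      rw [← hk, map_natCast, ZMod.natCast_eq_zero_iff] at hzero
      obtain ⟨l, rfl⟩ := hzero
      rw [← hk, ← Nat.cast_mul, ZMod.natCast_eq_zero_iff]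
      exact ⟨l, by rw [← mul_assoc, Nat.div_mul_cancel hrm]⟩
    have hv : v = 0 := by
      apply hinj
      calc σ v = σ v * ∑ w, proj ψ σ w := by rw [sum_proj hψ hc h0, mul_one]
        _ = ∑ w, proj ψ σ w := by
          rw [Finset.mul_sum]
          refine Finset.sum_congr rfl fun w _ => ?_
          by_cases hw : proj ψ σ w = 0
          · simp [hw]
          · rw [apply_mul_proj hadd, hdot w hw, AddChar.map_zero_eq_one, one_smul]
        _ = 1 := sum_proj hψ hc h0
    funext i
    have hvi := congrFun hv i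
    simp only [v, Pi.zero_apply, ← Nat.cast_mul, ZMod.natCast_eq_zero_iff] at hvi
    obtain ⟨t, ht⟩ := hrm
    have hr0 : 0 < r := (Fact.out : r.Prime).pos
    have ht0 : 0 < t := Nat.pos_of_ne_zero fun h => NeZero.ne m (by rw [ht, h, mul_zero])
    rw [ht, Nat.mul_div_cancel_left t hr0, mul_comm r t] at hvi
    have hlt : (u i).val < r := ZMod.val_lt _
    have := Nat.dvd_of_mul_dvd_mul_left ht0 hvi
    exact (ZMod.val_eq_zero _).1 (Nat.eq_zero_of_dvd_of_lt this hlt)
  have hle := Fintype.card_le_of_injective j hj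
  rw [Fintype.card_fun, Fintype.card_fun, ZMod.card, Fintype.card_fin, Fintype.card_coe] at hle
  have := Nat.le_of_not_lt fun h => absurd hle (not_le.2 (Nat.pow_lt_pow_right
    (Fact.out : r.Prime).one_lt h))
  omega

end weights

/-- Block-diagonal embedding of `SL₂ⁿ` into `Sp₂ₙ`. -/
def toSp {F : Type*} [Field F] (n : ℕ) (g : Fin n → Matrix.SpecialLinearGroup (Fin 2) F) :
    symplecticGroup (Fin n) F :=
  ⟨fromBlocks (diagonal fun i => (g i).1 0 0) (diagonal fun i => (g i).1 0 1)
    (diagonal fun i => (g i).1 1 0) (diagonal fun i => (g i).1 1 1), by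
    have hd : ∀ i, (g i).1 0 0 * (g i).1 1 1 - (g i).1 0 1 * (g i).1 1 0 = 1 := fun i => by
      rw [← Matrix.det_fin_two]; exact (g i).2
    rw [SymplecticGroup.mem_iff]
    simp only [Matrix.J, fromBlocks_transpose, fromBlocks_multiply, diagonal_transpose,
      Matrix.mul_zero, Matrix.mul_one, Matrix.mul_neg, Matrix.neg_mul, zero_add, add_zero,
      diagonal_mul_diagonal, diagonal_neg, diagonal_add, neg_zero]
    rw [show (0 : Matrix (Fin n) (Fin n) F) = diagonal 0 from diagonal_zero.symm,
      show (1 : Matrix (Fin n) (Fin n) F) = diagonal 1 from diagonal_one.symm, diagonal_neg]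
    congr 1 <;> congr 1 <;> funext i <;> simp only [Pi.zero_apply, Pi.one_apply, Pi.neg_apply] <;>
      first
      | ring1
      | linear_combination hd i
      | linear_combination -hd i⟩

theorem toSp_mul {F : Type*} [Field F] (n : ℕ) (g h : Fin n → Matrix.SpecialLinearGroup (Fin 2) F) :
    toSp n (g * h) = toSp n g * toSp n h := by
  apply Subtype.ext
  show _ = _ * _
  simp only [toSp, fromBlocks_multiply, diagonal_mul_diagonal, diagonal_add]
  congr 1 <;> congr 1 <;> funext i <;>
    simp [Matrix.mul_apply, Fin.sum_univ_two]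

theorem toSp_injective {F : Type*} [Field F] (n : ℕ) : Function.Injective (toSp (F := F) n) := by
  intro g h e
  have e' := congrArg Subtype.val e
  simp only [toSp, fromBlocks_inj] at e'
  obtain ⟨a, b, c, d⟩ := e'
  funext i
  apply Subtype.ext
  ext x y
  fin_cases x <;> fin_cases y
  · exact congrFun (diagonal_injective a) i
  · exact congrFun (diagonal_injective b) i
  · exact congrFun (diagonal_injective c) i
  · exact congrFun (diagonal_injective d) i

theorem exists_torus_element (F : Type*) [Field F] [Fintype F] :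
    ∃ (m r : ℕ) (_ : r.Prime) (hrm : r ∣ m), m ∣ Fintype.card F + 1 ∧
      (∀ x : ZMod m, x = -x → ZMod.castHom hrm (ZMod r) x = 0) ∧
      ∃ c : Matrix.SpecialLinearGroup (Fin 2) F, orderOf c = m := by
  classical
  set q := Fintype.card F with hq
  by_cases h : ∃ r, r.Prime ∧ r ≠ 2 ∧ r ∣ q + 1
  · obtain ⟨r, hr, hr2, hd⟩ := h
    haveI := Fact.mk hr
    refine ⟨r, r, hr, dvd_rfl, hd, fun x hx => ?_, ?_⟩
    · have h2 : (2 : ZMod r) ≠ 0 := fun h => hr2 (by
        have h' : ((2 : ℕ) : ZMod r) = 0 := h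
        rw [ZMod.natCast_eq_zero_iff] at h'
        exact (Nat.prime_dvd_prime_iff_eq hr Nat.prime_two).1 h')
      have : (2 : ZMod r) * x = 0 := by rw [two_mul]; nth_rw 2 [hx]; exact add_neg_cancel x
      rw [(mul_eq_zero.1 this).resolve_left h2, map_zero]
    · apply exists_prime_orderOf_dvd_card'
      rw [Cfsg.Agent.GLOrder.card_SL_two, Nat.card_eq_fintype_card, ← hq]
      refine Dvd.dvd.mul_left (dvd_trans hd ?_) _
      exact ⟨q - 1, by rw [← Nat.sq_sub_sq, one_pow]⟩
  · push Not at h
    have hq2 : 2 ≤ q := Fintype.one_lt_card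
    have hpow : ∃ k, q + 1 = 2 ^ k := ⟨(q + 1).primeFactorsList.length,
      Nat.eq_prime_pow_of_unique_prime_dvd (by omega) fun {r} hr hd =>
        by_contra fun hne => h r hr hne hd⟩
    obtain ⟨k, hk⟩ := hpow
    have h4 : 4 ∣ q + 1 := by
      rw [hk]
      refine pow_dvd_pow 2 (show 2 ≤ k from ?_)
      by_contra hlt
      rcases (show k = 0 ∨ k = 1 by omega) with rfl | rfl <;> omega
    refine ⟨4, 2, Nat.prime_two, by norm_num, h4, by decide, ?_⟩
    have h2F : (2 : F) ≠ 0 := Ring.two_ne_zero fun h2 => by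
      have := FiniteField.even_card_of_char_two h2; omega
    let c : Matrix.SpecialLinearGroup (Fin 2) F := ⟨!![0, 1; -1, 0], by simp [Matrix.det_fin_two]⟩
    haveI : Fact (Nat.Prime 2) := ⟨Nat.prime_two⟩
    have hc2 : c.1 * c.1 = -1 := by
      ext i j
      fin_cases i <;> fin_cases j <;> simp [c, Matrix.mul_apply, Fin.sum_univ_two]
    refine ⟨c, orderOf_eq_prime_pow (p := 2) (n := 1) ?_ ?_⟩
    · intro hone
      have h2 := congrArg Subtype.val hone
      rw [pow_one, Matrix.SpecialLinearGroup.coe_pow, pow_two, hc2] at h2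
      have h3 := congrFun (congrFun h2 0) 0
      simp at h3
      exact h2F (by linear_combination -h3)
    · apply Subtype.ext
      rw [Matrix.SpecialLinearGroup.coe_pow, show (2 : ℕ) ^ (1 + 1) = 2 * 2 from rfl, pow_mul,
        pow_two c.1, hc2, neg_one_sq]
      rfl


/-- The smallest degree of a faithful representation of the symplectic group `Sp_{2n}(q)` over its own field `F_q` is `2n`: every injective homomorphism from `Sp_{2n}(F)` to `GL_d(F)`, `F` the field with `q` elements, has `d ≥ 2n`. -/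
theorem result {F : Type*} [Field F] [Fintype F] (n : ℕ) {d : ℕ}
    (ρ : ↥(Matrix.symplecticGroup (Fin n) F) →* GL (Fin d) F) (hρ : Function.Injective ρ) : 2 * n ≤ d := by
  classical
  obtain ⟨m, r, hr, hrm, hmq, hneg, c, hc⟩ := exists_torus_element F
  haveI := Fact.mk hr
  haveI : NeZero m := ⟨hc ▸ (orderOf_pos c).ne'⟩
  let L := AlgebraicClosure F
  obtain ⟨p, hpc⟩ := CharP.exists F
  obtain ⟨s, hp, hs⟩ := FiniteField.card F p
  haveI := Fact.mk hp
  haveI : CharP L p := charP_of_injective_algebraMap (algebraMap F L).injective p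
  have hmL : (m : L) ≠ 0 := by
    intro h0
    rw [CharP.cast_eq_zero_iff L p] at h0
    have hd : p ∣ Fintype.card F + 1 := h0.trans hmq
    have hd' : p ∣ Fintype.card F := hs ▸ dvd_pow_self p s.ne_zero
    exact hp.ne_one (Nat.dvd_one.1 ((Nat.dvd_add_right hd').1 hd))
  haveI : NeZero (m : L) := ⟨hmL⟩
  obtain ⟨ζ, hζ⟩ := HasEnoughRootsOfUnity.exists_primitiveRoot L m
  let ψ := AddChar.zmodChar m hζ.pow_eq_one
  have hψ : ψ.IsPrimitive := AddChar.zmodChar_primitive_of_primitive_root m hζ
  let σ₀ : (Fin n → ZMod m) → Matrix (Fin d) (Fin d) F := fun v =>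
    (ρ (toSp n fun i => c ^ (v i).val) : Matrix (Fin d) (Fin d) F)
  let σ : (Fin n → ZMod m) → Matrix (Fin d) (Fin d) L := fun v => (σ₀ v).map (algebraMap F L)
  have htor : ∀ v w : Fin n → ZMod m, (fun i => c ^ ((v + w) i).val) =
      (fun i => c ^ (v i).val) * fun i => c ^ (w i).val := fun v w => funext fun i => by
    have hmod := pow_mod_orderOf c ((v i).val + (w i).val)
    rw [hc] at hmod
    rw [Pi.mul_apply, ← pow_add, Pi.add_apply, ZMod.val_add, hmod]
  have hone : toSp (F := F) n 1 = 1 :=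
    mul_left_cancel (a := toSp (F := F) n 1) (by rw [← toSp_mul, one_mul, mul_one])
  have hadd : ∀ u v, σ (u + v) = σ u * σ v := fun u v => by
    simp only [σ, σ₀, htor, toSp_mul, map_mul, Units.val_mul, Matrix.map_mul]
  have h0 : σ 0 = 1 := by
    have : toSp (F := F) n (fun _ => c ^ (0 : ZMod m).val) = 1 := by
      rw [ZMod.val_zero, pow_zero]; exact hone
    simp only [σ, σ₀, Pi.zero_apply, this, map_one, Units.val_one]
    exact Matrix.map_one _ (map_zero _) (map_one _)
  have hcard : (Fintype.card (Fin n → ZMod m) : L) ≠ 0 := by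
    rw [Fintype.card_fun, ZMod.card, Nat.cast_pow]; exact pow_ne_zero _ hmL
  refine two_mul_le hrm hneg hψ hcard h0 hadd (fun v hv => ?_) fun w hw => ?_
  · have h1 : σ₀ v = 1 := Matrix.map_injective (algebraMap F L).injective (by
      show (σ₀ v).map (algebraMap F L) = (1 : Matrix (Fin d) (Fin d) F).map (algebraMap F L)
      rw [Matrix.map_one _ (map_zero _) (map_one _)]; exact hv)
    have h2 := toSp_injective n ((hρ ((Units.ext h1).trans (map_one ρ).symm)).trans hone.symm)
    funext i
    have h3 : c ^ (v i).val = 1 := congrFun h2 i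
    rw [← orderOf_dvd_iff_pow_eq_one, hc] at h3
    exact (ZMod.val_eq_zero _).1 (Nat.eq_zero_of_dvd_of_lt h3 (ZMod.val_lt _))
  · let φ : L →+* L := iterateFrobenius L p s
    haveI : ExpChar L p := ExpChar.prime hp
    have hφ : ∀ x, φ x = x ^ Fintype.card F := fun x => by
      simp [φ, iterateFrobenius_def, hs]
    have hψq : ∀ x, φ (ψ x) = ψ (-x) := fun x => by
      rw [hφ, ← AddChar.map_nsmul_eq_pow, nsmul_eq_mul]
      have hq1 : ((Fintype.card F + 1 : ℕ) : ZMod m) = 0 := (ZMod.natCast_eq_zero_iff _ _).2 hmq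
      rw [Nat.cast_add, Nat.cast_one] at hq1
      congr 1
      linear_combination x * hq1
    have hmap : (proj ψ σ w).map φ = proj ψ σ (-w) := by
      ext a b
      simp only [proj, Matrix.map_apply, Matrix.smul_apply, Matrix.sum_apply, smul_eq_mul, map_mul,
        map_inv₀, map_natCast, map_sum, hψq, neg_dotProduct]
      rw [map_natCast φ]
      refine congrArg _ (Finset.sum_congr rfl fun v _ => ?_)
      congr 1
      rw [hφ, show σ v a b = algebraMap F L (σ₀ v a b) from rfl, ← map_pow, FiniteField.pow_card]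
    rw [← hmap]
    intro hz
    exact hw (Matrix.map_injective φ.injective (hz.trans (Matrix.map_zero _ (map_zero φ)).symm))

end Cfsg.Agent.S2394
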