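import Cfsg.Statements.S2399
import Cfsg.Agent.Lib.ChevSt.CharLift
import Cfsg.Agent.Lib.Chev.All
import Cfsg.Agent.S2395
-- import your own Cfsg.Agent.* helpers here

set_option autoImplicit false
open scoped MatrixGroups
open Cfsg

namespace Cfsg.Agent.S2399

/-- Projective representations in the natural characteristic lift: for each of the types G₂, B₂, D₄, F₄, E₆, E₇, E₈ over any field `K` (for types B₂ and G₂ the field must have more than two elements — the cases where the Chevalley group is not simple are set aside), every homomorphism from the Chevalley group to `PGL_n(L) = GL_n(L)/Z`, `L` a field of the same characteristic as `K`, lifts uniquely to a homomorphism from the group Δ presented by (R1), (R2) to `GL_n(L)`, compatibly with the projection Δ → Chevalley group sending x̄_r(t) to x_r(t). -/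
theorem result {K : Type*} [Field K] (D : Cfsg.Lie.ChevalleyDatum) (hD : D ∈ [Cfsg.Lie.chevG2, Cfsg.Lie.chevB2, Cfsg.Lie.chevD4, Cfsg.Lie.chevF4, Cfsg.Lie.chevE6, Cfsg.Lie.chevE7, Cfsg.Lie.chevE8]) (hK : D ∈ [Cfsg.Lie.chevB2, Cfsg.Lie.chevG2] → ∃ x : K, x ≠ 0 ∧ x ≠ 1)
    (θ : D.SteinbergCover K →* ↥(D.group K))
    (hθ : ∀ (r : ℕ) (t : K), r < D.nroots → ((θ (D.scGen K r t) : GL D.Idx K) : Matrix D.Idx D.Idx K) = D.x K r t)
    {L : Type*} [Field L] (hL : ringChar L = ringChar K) {n : ℕ}
    (φ : ↥(D.group K) →* GL (Fin n) L ⧸ Subgroup.center (GL (Fin n) L)) :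
    ∃! ψ : D.SteinbergCover K →* GL (Fin n) L, (QuotientGroup.mk' (Subgroup.center (GL (Fin n) L))).comp ψ = φ.comp θ := by
  obtain ⟨M, d, hR⟩ := ChevBN.exists_roots D hD
  have hperf := S2395.result D hD hK
  have hc : (QuotientGroup.mk' (Subgroup.center (GL (Fin n) L))).ker ≤ Subgroup.center (GL (Fin n) L) :=
    (QuotientGroup.ker_mk' _).le
  have hex : ∃ ψ : D.SteinbergCover K →* GL (Fin n) L,
      (QuotientGroup.mk' (Subgroup.center (GL (Fin n) L))).comp ψ = φ.comp θ := by
    by_cases hK5 : ∃ s : Finset K, 4 < s.card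
    · obtain ⟨hP, hU⟩ := ChevSt.exists_univTables D hD
      exact (ChevSt.cover_lift_unique (Chev.good_of_mem hD) hR (fun _ => ChevSt.exists_decomp D hD) hP hU hK5 _
        (QuotientGroup.mk'_surjective _) hc (φ.comp θ)).exists
    · haveI : Finite K := by
        rcases finite_or_infinite K with h | h
        · exact h
        · obtain ⟨s, hs⟩ := Infinite.exists_subset_card_eq K 5
          exact absurd ⟨s, by omega⟩ hK5
      haveI : Fact (ringChar K).Prime :=
        ⟨(CharP.char_is_prime_or_zero K (ringChar K)).resolve_right fun h => by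
          haveI : CharP K 0 := h ▸ ringChar.charP K
          haveI : CharZero K := CharP.charP_to_charZero K
          exact not_finite K⟩
      haveI : CharP L (ringChar K) := hL ▸ ringChar.charP L
      exact ChevSt.lift_of_char (Chev.good_of_mem hD) hR hperf (ringChar K) _
  obtain ⟨ψ, hψ⟩ := hex
  exact ⟨ψ, hψ, fun ψ' h => ChevSt.perfect_hom_ext hperf _ hc _ _ (h.trans hψ.symm)⟩

end Cfsg.Agent.S2399
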