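import Cfsg.Statements.S2400
import Cfsg.Agent.Lib.ChevSt.B2Three
import Cfsg.Agent.Lib.ChevSt.SLD4
import Cfsg.Agent.S2395
-- import your own Cfsg.Agent.* helpers here

set_option autoImplicit false
open Cfsg

namespace Cfsg.Agent.S2400

/-- Over a finite field `K`, the group presented by Steinberg's relators (R1)–(R3) (the universal Chevalley group) of type E₆ or E₇, or of type B₂ or D₄ with `K` of more than two elements, has trivial Schur multiplier: every finite stem extension of it is an isomorphism (Schur multiplier described through stem extensions as in the definitions). Types G₂, F₄ and E₈ are not covered here. -/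
theorem result {K : Type*} [Field K] [Fintype K] (e : Cfsg.Lie.ChevalleyDatum × ℕ)
    (he : e ∈ [(Cfsg.Lie.chevE6, 0), (Cfsg.Lie.chevE7, 0), (Cfsg.Lie.chevB2, 2), (Cfsg.Lie.chevD4, 2)]) (hK : Fintype.card K ≠ e.2) :
    Cfsg.HasCyclicSchurMultiplier (e.1.SteinbergGroup K) 1 := by
  classical
  have h2 : 2 ≤ Fintype.card K := Fintype.one_lt_card
  have hx : 3 ≤ Fintype.card K → ∃ x : K, x ≠ 0 ∧ x ≠ 1 := fun h => by
    by_contra hh
    push Not at hh
    have hsub : (Finset.univ : Finset K) ⊆ {0, 1} := fun x _ => by
      by_cases h0 : x = 0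
      · simp [h0]
      · simp [hh x h0]
    have := (Finset.card_le_card hsub).trans Finset.card_le_two
    simp only [Finset.card_univ] at this
    omega
  simp only [List.mem_cons, List.not_mem_nil, or_false] at he
  rcases he with rfl | rfl | rfl | rfl
  · exact ChevSt.multiplier_steinberg (Chev.good_of_mem (by simp)) ChevBN.rootsE6
      (fun _ => ChevSt.exists_decomp _ (by simp))
      (S2395.result (K := K) Cfsg.Lie.chevE6 (by simp) fun h => absurd (congrArg Cfsg.Lie.ChevalleyDatum.nroots
        (List.mem_cons.1 h |>.resolve_right fun h' => absurd (congrArg Cfsg.Lie.ChevalleyDatum.nroots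
          (List.mem_singleton.1 h')) (by decide +kernel))) (by decide +kernel))
      (ChevSt.splits_E _ (by simp))
  · exact ChevSt.multiplier_steinberg (Chev.good_of_mem (by simp)) ChevBN.rootsE7
      (fun _ => ChevSt.exists_decomp _ (by simp))
      (S2395.result (K := K) Cfsg.Lie.chevE7 (by simp) fun h => absurd (congrArg Cfsg.Lie.ChevalleyDatum.nroots
        (List.mem_cons.1 h |>.resolve_right fun h' => absurd (congrArg Cfsg.Lie.ChevalleyDatum.nroots
          (List.mem_singleton.1 h')) (by decide +kernel))) (by decide +kernel))
      (ChevSt.splits_E _ (by simp))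
  · exact ChevSt.multiplier_steinberg (Chev.good_of_mem (by simp)) ChevBN.rootsB2
      (fun _ => ChevSt.exists_decomp _ (by simp))
      (S2395.result (K := K) Cfsg.Lie.chevB2 (by simp) fun _ => hx (by simp only at hK; omega))
      (ChevSt.splits_B2 (by simp only at hK; omega))
  · exact ChevSt.multiplier_steinberg (Chev.good_of_mem (by simp)) ChevBN.rootsD4
      (fun _ => ChevSt.exists_decomp _ (by simp))
      (S2395.result (K := K) Cfsg.Lie.chevD4 (by simp) fun _ => hx (by simp only at hK; omega))
      (ChevSt.splits_D4 (hx (by simp only at hK; omega)))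

end Cfsg.Agent.S2400
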