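import Cfsg.Statements.S2402
import Cfsg.Agent.EqLemmas
import Cfsg.Agent.Lib.SLGen.Cycle

set_option autoImplicit false
open Cfsg

namespace Cfsg.Agent.S2402

open Matrix Cfsg.Agent.SLGen

variable {K : Type*} [Field K] [Fintype K]

private lemma sq_ne_one {k : Kˣ} (hK : 3 < Fintype.card K) (hk : ∀ u : Kˣ, u ∈ Subgroup.zpowers k) :
    (k : K) ^ 2 ≠ 1 := by
  intro h
  have h2 : k ^ 2 = 1 := Units.ext (by simpa using h)
  have h1 : orderOf k ≤ 2 := Nat.le_of_dvd (by norm_num) (orderOf_dvd_of_pow_eq_one h2)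
  have h3 : orderOf k = Nat.card Kˣ := orderOf_eq_card_of_forall_mem_zpowers hk
  rw [Nat.card_units, Nat.card_eq_fintype_card] at h3
  omega

private lemma scaled_eq_top (A : AddSubgroup K) {k : Kˣ} (hk : ∀ u : Kˣ, u ∈ Subgroup.zpowers k)
    (hA : ∀ c ∈ A, (k : K) ^ 2 * c ∈ A) {c₀ : K} (hc₀ : c₀ ∈ A) (hne : c₀ ≠ 0) (c : K) : c ∈ A := by
  have hpow : ∀ m : ℕ, ((k : K) ^ 2) ^ m * c₀ ∈ A := by
    intro m
    induction m with
    | zero => simpa using hc₀
    | succ m ih => rw [pow_succ', mul_assoc]; exact hA _ ih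
  have hsq : ∀ y : K, y ^ 2 * c₀ ∈ A := by
    intro y
    by_cases hy : y = 0
    · simp [hy]
    · obtain ⟨m, hm⟩ := mem_powers_iff_mem_zpowers.2 (hk (Units.mk0 y hy))
      have hm' : (k : K) ^ m = y := by simpa using congrArg Units.val hm
      rw [← hm', ← pow_mul, mul_comm m 2, pow_mul]
      exact hpow m
  by_cases h2 : (2 : K) = 0
  · have hchar : ringChar K = 2 := by
      have hd : ringChar K ∣ 2 := (ringChar.spec K 2).1 (by exact_mod_cast h2)
      rcases (Nat.dvd_prime Nat.prime_two).1 hd with h | h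
      · exact absurd h (CharP.ringChar_ne_one)
      · exact h
    obtain ⟨y, hy⟩ := FiniteField.isSquare_of_char_two hchar (c / c₀)
    have := hsq y
    rwa [pow_two, ← hy, div_mul_cancel₀ _ hne] at this
  · have h4 := sub_mem (hsq ((c / c₀ + 1) / 2)) (hsq ((c / c₀ - 1) / 2))
    have e : ((c / c₀ + 1) / 2) ^ 2 * c₀ - ((c / c₀ - 1) / 2) ^ 2 * c₀ = c := by
      field_simp
      ring
    rwa [e] at h4

private lemma diag_conj {n : ℕ} (d : Fin (n + 1) → K) (h : Matrix.SpecialLinearGroup (Fin (n + 1)) K)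
    (hh : (h : Matrix (Fin (n + 1)) (Fin (n + 1)) K) = Matrix.diagonal d)
    {i j : Fin (n + 1)} (hij : i ≠ j) (e : K) (he : d i = e * d j) (c : K) :
    h * Matrix.SpecialLinearGroup.transvection hij c =
      Matrix.SpecialLinearGroup.transvection hij (e * c) * h := by
  apply Subtype.ext
  simp only [Matrix.SpecialLinearGroup.coe_mul, tv_coe, hh]
  ext a b
  rw [Matrix.diagonal_mul, Matrix.mul_diagonal, tv_apply, tv_apply]
  by_cases hab : a = b
  · subst hab
    have : ¬ (a = i ∧ a = j) := fun h => hij (h.1.symm.trans h.2)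
    simp [this]
  · by_cases hc : a = i ∧ b = j
    · obtain ⟨rfl, rfl⟩ := hc
      simp [hab, he]; ring
    · simp [hab, hc]

/-- Explicit two-element generation of `PSL_{n+1}(K)` for a finite field `K` with more than three elements: let `k` generate the multiplicative group of `K`, `h = diag(k, k⁻¹, 1, …, 1)`, `x = 1 + E₁₂` (the elementary transvection) and `w` the monomial matrix with entries `1` in positions `(i, i+1)` and `(−1)^n` in position `(n+1, 1)`. Then `h` and `x·w` generate `SL_{n+1}(K)` modulo its centre: the subgroup they generate together with the centre is everything. -/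
theorem result {K : Type*} [Field K] [Fintype K] (hK : 3 < Fintype.card K) (n : ℕ) (hn : 1 ≤ n)
    (k : Kˣ) (hk : ∀ u : Kˣ, u ∈ Subgroup.zpowers k)
    (h x w : Matrix.SpecialLinearGroup (Fin (n + 1)) K)
    (hh : (h : Matrix (Fin (n + 1)) (Fin (n + 1)) K) =
      Matrix.diagonal (fun i => if i.val = 0 then (k : K) else if i.val = 1 then ((k⁻¹ : Kˣ) : K) else 1))
    (hx : (x : Matrix (Fin (n + 1)) (Fin (n + 1)) K) = Matrix.transvection (0 : Fin (n + 1)) (1 : Fin (n + 1)) 1)
    (hw : (w : Matrix (Fin (n + 1)) (Fin (n + 1)) K) =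
      Matrix.of (fun i j => if j.val = i.val + 1 then 1 else if i.val = n ∧ j.val = 0 then (-1) ^ n else 0)) :
    Subgroup.closure ({h, x * w} : Set (Matrix.SpecialLinearGroup (Fin (n + 1)) K)) ⊔
      Subgroup.center (Matrix.SpecialLinearGroup (Fin (n + 1)) K) = ⊤ := by
  have hk2 := sq_ne_one hK hk
  have hk1 : (k : K) ≠ 1 := fun e => hk2 (by rw [e, one_pow])
  have hk0 : (k : K) ≠ 0 := k.ne_zero
  set H := Subgroup.closure ({h, x * w} : Set (Matrix.SpecialLinearGroup (Fin (n + 1)) K))
  suffices H = ⊤ by rw [this, top_sup_eq]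
  have hH : h ∈ H := Subgroup.subset_closure (by simp)
  have hxw : x * w ∈ H := Subgroup.subset_closure (by simp)
  let i₀ : Fin (n + 1) := 0
  let i₁ : Fin (n + 1) := 1
  have v0 : i₀.val = 0 := rfl
  have v1 : i₁.val = 1 := Nat.mod_eq_of_lt (show 1 < n + 1 by omega)
  have h01 : i₀ ≠ i₁ := Fin.ne_of_val_ne (by omega)
  have hx' : x = Matrix.SpecialLinearGroup.transvection h01 1 := Subtype.ext hx
  set d : Fin (n + 1) → K := fun i => if i.val = 0 then (k : K) else if i.val = 1 then ((k⁻¹ : Kˣ) : K) else 1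
    with hd
  set d' : Fin (n + 1) → K := fun i => if hi : i.val = n then d 0 else d ⟨i.val + 1, by omega⟩ with hd'
  have hdet : (Matrix.diagonal d').det = 1 := by
    have hw' : (w : Matrix (Fin (n + 1)) (Fin (n + 1)) K) * Matrix.diagonal d =
        Matrix.diagonal d' * (w : Matrix (Fin (n + 1)) (Fin (n + 1)) K) := by
      ext a b
      rw [Matrix.mul_diagonal, Matrix.diagonal_mul, hw, Matrix.of_apply]
      split_ifs with h1 h2
      · have : d' a = d b := by
          rw [hd']; simp only
          rw [dif_neg (by omega)]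
          exact congrArg d (Fin.ext h1.symm)
        rw [this]; ring
      · have : d' a = d b := by
          rw [hd']; simp only
          rw [dif_pos h2.1]
          exact congrArg d (Fin.ext (by simpa using h2.2.symm))
        rw [this]; ring
      · simp
    have := congrArg Matrix.det hw'
    rw [Matrix.det_mul, Matrix.det_mul, w.2, one_mul, mul_one, ← hh, h.2] at this
    exact this.symm
  let h' : Matrix.SpecialLinearGroup (Fin (n + 1)) K := ⟨Matrix.diagonal d', hdet⟩
  have hwh : w * h = h' * w := by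
    apply Subtype.ext
    simp only [Matrix.SpecialLinearGroup.coe_mul]
    change _ = Matrix.diagonal d' * _
    rw [hh]
    ext a b
    rw [Matrix.mul_diagonal, Matrix.diagonal_mul, hw, Matrix.of_apply]
    split_ifs with h1 h2
    · rw [hd']; simp only
      rw [dif_neg (by omega), show (⟨a.val + 1, by omega⟩ : Fin (n + 1)) = b from Fin.ext h1.symm]
      ring
    · rw [hd']; simp only
      rw [dif_pos h2.1, show (0 : Fin (n + 1)) = b from Fin.ext (by simpa using h2.2.symm)]
      ring
    · simp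
  obtain ⟨e, he, he1⟩ : ∃ e : K, d' i₀ = e * d' i₁ ∧ e ≠ 1 := by
    have a0 : d' i₀ = (k : K)⁻¹ := by
      rw [hd']; simp only
      rw [dif_neg (by omega), hd]; simp [v0]
    rcases Nat.lt_or_ge 1 n with hn1 | hn1
    · refine ⟨(k : K)⁻¹, ?_, by simpa [inv_eq_one] using hk1⟩
      have a1 : d' i₁ = 1 := by
        rw [hd']; simp only
        rw [dif_neg (by omega), hd]; simp [v1]
      rw [a0, a1, mul_one]
    · refine ⟨((k : K) ^ 2)⁻¹, ?_, by simpa [inv_eq_one] using hk2⟩
      have a1 : d' i₁ = (k : K) := by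
        rw [hd']; simp only
        rw [dif_pos (by omega), hd]; simp
      rw [a0, a1]; field_simp
  have conj1 : ∀ c : K, h * Matrix.SpecialLinearGroup.transvection h01 c =
      Matrix.SpecialLinearGroup.transvection h01 ((k : K) ^ 2 * c) * h := fun c => by
    refine diag_conj d h hh h01 _ ?_ c
    simp only [hd, v0, v1, if_true, one_ne_zero, if_false, Units.val_inv_eq_inv_val]; field_simp
  have conj2 : ∀ c : K, h' * Matrix.SpecialLinearGroup.transvection h01 c =
      Matrix.SpecialLinearGroup.transvection h01 (e * c) * h' := fun c =>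
    diag_conj d' h' rfl h01 _ he c
  have hcomm : h * h' = h' * h := by
    apply Subtype.ext
    simp only [Matrix.SpecialLinearGroup.coe_mul]
    change _ * Matrix.diagonal d' = Matrix.diagonal d' * _
    rw [hh, Matrix.diagonal_mul_diagonal, Matrix.diagonal_mul_diagonal]
    simp [mul_comm]
  set T := fun c : K => Matrix.SpecialLinearGroup.transvection h01 c with hT
  have Tadd : ∀ a b : K, T (a + b) = T a * T b := fun a b =>
    Matrix.SpecialLinearGroup.transvection_add h01 a b
  have Tinv : ∀ a : K, (T a)⁻¹ = T (-a) := fun a => Matrix.SpecialLinearGroup.transvection_inv h01 a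
  have ha : x * w * h * (x * w)⁻¹ = T (1 - e) * h' := by
    calc x * w * h * (x * w)⁻¹ = x * (w * h) * (w⁻¹ * x⁻¹) := by simp [mul_assoc]
      _ = x * h' * x⁻¹ := by rw [hwh]; simp [mul_assoc]
      _ = T 1 * (h' * T (-1)) := by rw [hx', ← Tinv]; simp [hT, mul_assoc]
      _ = T (1 - e) * h' := by
          rw [show h' * T (-1) = T (e * -1) * h' from conj2 _, ← mul_assoc, ← Tadd,
            show (1 : K) + e * -1 = 1 - e by ring]
  have hmem : T (((k : K) ^ 2 - 1) * (1 - e)) ∈ H := by
    have h1 : T (1 - e) * h' ∈ H := ha ▸ mul_mem (mul_mem hxw hH) (inv_mem hxw)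
    have h2 := mul_mem (mul_mem (mul_mem hH h1) (inv_mem hH)) (inv_mem h1)
    have h3 : h * (T (1 - e) * h') * h⁻¹ * (T (1 - e) * h')⁻¹ =
        T (((k : K) ^ 2 - 1) * (1 - e)) := by
      calc h * (T (1 - e) * h') * h⁻¹ * (T (1 - e) * h')⁻¹
          = (h * T (1 - e)) * h' * h⁻¹ * h'⁻¹ * (T (1 - e))⁻¹ := by simp [mul_assoc]
        _ = T ((k : K) ^ 2 * (1 - e)) * (h * h') * h⁻¹ * h'⁻¹ * (T (1 - e))⁻¹ := by
            rw [show h * T (1 - e) = T ((k : K) ^ 2 * (1 - e)) * h from conj1 _]; simp [mul_assoc]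
        _ = T ((k : K) ^ 2 * (1 - e)) * (T (1 - e))⁻¹ := by rw [hcomm]; simp [mul_assoc]
        _ = T (((k : K) ^ 2 - 1) * (1 - e)) := by
            rw [Tinv, ← Tadd]; congr 1; ring
    rwa [h3] at h2
  let A : AddSubgroup K :=
    { carrier := {c | T c ∈ H}
      zero_mem' := by simp [hT, H.one_mem]
      add_mem' := fun {a b} ha hb => by
        simp only [Set.mem_setOf_eq] at *
        rw [Tadd]; exact mul_mem ha hb
      neg_mem' := fun {a} ha => by
        simp only [Set.mem_setOf_eq] at *
        rw [← Tinv]; exact inv_mem ha }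
  have hall : ∀ c : K, T c ∈ H := by
    intro c
    refine scaled_eq_top A hk (fun a ha => ?_) (show _ ∈ A from hmem) ?_ c
    · show T _ ∈ H
      have : T ((k : K) ^ 2 * a) = h * T a * h⁻¹ := by
        rw [show h * T a = T ((k : K) ^ 2 * a) * h from conj1 _, mul_inv_cancel_right]
      rw [this]
      exact mul_mem (mul_mem hH (show T a ∈ H from ha)) (inv_mem hH)
    · exact mul_ne_zero (sub_ne_zero.2 hk2) (sub_ne_zero.2 (Ne.symm he1))
  have hwH : w ∈ H := by
    have := mul_mem (inv_mem (hall 1)) hxw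
    rwa [hx', inv_mul_cancel_left] at this
  refine eq_top_of_root_and_cycle w hw hn H hwH ?_
  intro i j hij hi hj c
  obtain rfl : i = i₀ := Fin.ext (by omega)
  obtain rfl : j = i₁ := Fin.ext (by omega)
  exact hall c

end Cfsg.Agent.S2402
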