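import Cfsg.Statements.S2403
import Cfsg.Agent.EqLemmas
import Cfsg.Agent.Lib.SLGen.Cycle

set_option autoImplicit false
open Cfsg

namespace Cfsg.Agent.S2403

open Matrix Cfsg.Agent.SLGen

private lemma mem_three {K : Type*} [Field K] [Fintype K] (hK : Fintype.card K ≤ 3) (c : K) :
    c = 0 ∨ c = 1 ∨ c = -1 := by
  classical
  by_contra hc
  push Not at hc
  obtain ⟨c0, c1, c2⟩ := hc
  by_cases h : (1 : K) = -1
  · have h3 : ({0, 1, c} : Finset K).card = 3 := by
      rw [Finset.card_insert_of_notMem (by simp [Ne.symm c0]),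
        Finset.card_insert_of_notMem (by simp [Ne.symm c1]), Finset.card_singleton]
    have hc3 : Fintype.card K = 3 := le_antisymm hK (h3 ▸ Finset.card_le_univ _)
    have h2 : (2 : K) = 0 := by linear_combination h
    have hd : addOrderOf (1 : K) ∣ 2 := by
      rw [addOrderOf_dvd_iff_nsmul_eq_zero, nsmul_eq_mul, mul_one]; exact_mod_cast h2
    have h3' : addOrderOf (1 : K) ∣ 3 := hc3 ▸ addOrderOf_dvd_card
    have : addOrderOf (1 : K) ∣ 1 := by simpa using Nat.dvd_gcd hd h3'
    exact one_ne_zero (AddMonoid.addOrderOf_eq_one_iff.1 (Nat.dvd_one.1 this))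
  · have h4 : ({0, 1, -1, c} : Finset K).card = 4 := by
      rw [Finset.card_insert_of_notMem (by simp [Ne.symm c0]),
        Finset.card_insert_of_notMem (by simp [h, Ne.symm c1]),
        Finset.card_insert_of_notMem (by simp [Ne.symm c2]), Finset.card_singleton]
    have := h4 ▸ Finset.card_le_univ ({0, 1, -1, c} : Finset K)
    omega

/-- Explicit two-element generation of `PSL_{n+1}(K)` over the fields with two or three elements: with `x = 1 + E₁₂` and `w` the monomial matrix with entries `1` in positions `(i, i+1)` and `(−1)^n` in position `(n+1, 1)`, the elements `x` and `w` generate `SL_{n+1}(K)` modulo its centre. -/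
theorem result {K : Type*} [Field K] [Fintype K] (hK : Fintype.card K ≤ 3) (n : ℕ) (hn : 1 ≤ n)
    (x w : Matrix.SpecialLinearGroup (Fin (n + 1)) K)
    (hx : (x : Matrix (Fin (n + 1)) (Fin (n + 1)) K) = Matrix.transvection (0 : Fin (n + 1)) (1 : Fin (n + 1)) 1)
    (hw : (w : Matrix (Fin (n + 1)) (Fin (n + 1)) K) =
      Matrix.of (fun i j => if j.val = i.val + 1 then 1 else if i.val = n ∧ j.val = 0 then (-1) ^ n else 0)) :
    Subgroup.closure ({x, w} : Set (Matrix.SpecialLinearGroup (Fin (n + 1)) K)) ⊔
      Subgroup.center (Matrix.SpecialLinearGroup (Fin (n + 1)) K) = ⊤ := by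
  set H := Subgroup.closure ({x, w} : Set (Matrix.SpecialLinearGroup (Fin (n + 1)) K))
  suffices H = ⊤ by rw [this, top_sup_eq]
  have hxH : x ∈ H := Subgroup.subset_closure (by simp)
  refine eq_top_of_root_and_cycle w hw hn H (Subgroup.subset_closure (by simp)) ?_
  intro i j hij hi hj c
  obtain rfl : i = (0 : Fin (n + 1)) := Fin.ext (by simpa using hi)
  obtain rfl : j = (1 : Fin (n + 1)) := Fin.ext (by rw [hj]; exact (Nat.mod_eq_of_lt (by omega)).symm)
  have hx' : x = Matrix.SpecialLinearGroup.transvection hij 1 := Subtype.ext hx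
  rcases mem_three hK c with rfl | rfl | rfl
  · simp [H.one_mem]
  · exact hx' ▸ hxH
  · rw [← Matrix.SpecialLinearGroup.transvection_inv, ← hx']
    exact inv_mem hxH

end Cfsg.Agent.S2403
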