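import Cfsg.Statements.S2404
import Cfsg.Agent.Lib.ChevSimple.Chev
import Cfsg.Agent.Lib.Chev.All
import Cfsg.Agent.Lib.ChevBN.RootTables
import Cfsg.Agent.EqLemmas

set_option autoImplicit false
open Cfsg

namespace Cfsg.Agent.S2404

/-- Steinberg's count of semisimple classes for type E₆ when the finite simply connected group has trivial centre: over a field with `q` elements of characteristic `p` with `q ≢ 1 (mod 3)`, the simply connected group E₆(q) coincides with the Chevalley group, and the conjugacy classes of elements of order prime to `p` in the Chevalley group of type E₆ number exactly `q^6`. -/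
theorem result {F : Type*} [Field F] [Fintype F] {q : ℕ} (hq : Fintype.card F = q) (hq3 : q % 3 ≠ 1) (p : ℕ) [Fact p.Prime] [CharP F p] :
    Nat.card {c : ConjClasses ↥(Cfsg.Lie.chevE6.group F) // ∃ g : ↥(Cfsg.Lie.chevE6.group F), ConjClasses.mk g = c ∧ (orderOf g).Coprime p} = q ^ 6 := by
  open Cfsg.Lie Cfsg.Agent.Chev Cfsg.Agent.ChevOrder Cfsg.Agent.ChevBN Cfsg.Agent.ChevSimple in
  have hcop : ∀ n : ℕ, n.Coprime p ↔ ¬ p ∣ n := fun n => by
    rw [Nat.coprime_comm, (Fact.out : p.Prime).coprime_iff_not_dvd]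
  simp only [hcop]
  subst hq
  have hpos : 0 < Fintype.card F := Fintype.card_pos
  have hgcd : ∀ e : ℕ, e = 1 ∨ e = 3 → (Fintype.card F - 1).gcd e = 1 := by
    rintro e (rfl | rfl)
    · exact Nat.gcd_one_right _
    · rcases Nat.coprime_or_dvd_of_prime Nat.prime_three (Fintype.card F - 1) with h | h
      · exact Nat.coprime_comm.1 h
      · omega
  exact card_regClass_chev DataE6.good rootsE6 (p := p)
    (torus_ker_eq_bot DataE6.good rootsE6 torus_E6 fun i => hgcd _
      ((by decide : ∀ i : Fin chevE6.rank,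
        [1, 1, 1, 1, 1, 3].getD i.val 0 = 1 ∨ [1, 1, 1, 1, 1, 3].getD i.val 0 = 3) i))

end Cfsg.Agent.S2404
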