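import Cfsg.Statements.S2418
import Cfsg.Agent.EqLemmas
import Cfsg.Agent.Lib.Coxeter.Compute

set_option autoImplicit false
open Cfsg

namespace Cfsg.Agent.S2418

open Cfsg.Agent.Coxeter

variable {n : ℕ} [NeZero n] {M : CoxeterMatrix (Fin n)}

theorem act_linear (hA : IsCartan M (cartanOf M)) (w : M.Group) (a b : ℤ) (l l' : Fin n → ℤ) :
    act M.toCoxeterSystem hA w (a • l + b • l') =
      a • act M.toCoxeterSystem hA w l + b • act M.toCoxeterSystem hA w l' := by
  revert l l'
  induction w using M.toCoxeterSystem.simple_induction_left with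
  | one => intro l l'; simp only [act_one]
  | mul_simple_left w i ih =>
    intro l l'
    funext k
    simp only [act_simple_mul_apply, ih, Pi.add_apply, Pi.smul_apply, smul_eq_mul]
    ring

/-- A central element acts as `1` or `-1`. -/
theorem central_act (hA : IsCartan M (cartanOf M)) (par : Fin n → Fin n)
    (rk : Fin n → ℕ)
    (hpar : ∀ i : Fin n, i.val ≠ 0 → rk (par i) < rk i ∧ cartanOf M i (par i) ≠ 0)
    (m : ℤ) (hm : m ≠ 0) (C : Fin n → Fin n → ℤ)
    (hC : ∀ j k, ∑ i, C j i * cartanOf M i k = if j = k then m else 0)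
    {z : M.Group} (hz : z ∈ Subgroup.center M.Group) :
    (∀ l, act M.toCoxeterSystem hA z l = l) ∨ ∀ l, act M.toCoxeterSystem hA z l = -l := by
  set cs := M.toCoxeterSystem
  set Z := act cs hA z with hZ
  have hlin : ∀ a b l l', Z (a • l + b • l') = a • Z l + b • Z l' := act_linear hA z
  have hcomm : ∀ i l, Z (Cfsg.Agent.Coxeter.refl (cartanOf M) i l) = Cfsg.Agent.Coxeter.refl (cartanOf M) i (Z l) := by
    intro i l
    rw [← act_simple cs hA i, hZ, ← act_mul, ← act_mul, ← Subgroup.mem_center_iff.1 hz]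
  set μ : Fin n → ℤ := fun i => Z (cartanOf M i) i with hμ
  have hrow : ∀ i, (2 : ℤ) • Z (cartanOf M i) = μ i • cartanOf M i := by
    intro i
    have h := hcomm i (cartanOf M i)
    have e : Cfsg.Agent.Coxeter.refl (cartanOf M) i (cartanOf M i) = (-1 : ℤ) • cartanOf M i + (0 : ℤ) • cartanOf M i := by
      funext k; simp only [refl_apply, hA.diag, Pi.add_apply, Pi.smul_apply, smul_eq_mul]; ring
    rw [e, hlin] at h
    funext k
    have hk := congrFun h k
    simp only [refl_apply, Pi.add_apply, Pi.smul_apply, smul_eq_mul] at hk ⊢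
    linarith [show Z (cartanOf M i) i * cartanOf M i k = cartanOf M i k * Z (cartanOf M i) i from mul_comm _ _,
      show μ i * cartanOf M i k = Z (cartanOf M i) i * cartanOf M i k from rfl]
  have hadj : ∀ i j, cartanOf M j i ≠ 0 → μ j = μ i := by
    intro i j hne
    have h := hcomm i (cartanOf M j)
    have e : Cfsg.Agent.Coxeter.refl (cartanOf M) i (cartanOf M j) =
        (1 : ℤ) • cartanOf M j + (-(cartanOf M j i)) • cartanOf M i := by
      funext k; simp only [refl_apply, Pi.add_apply, Pi.smul_apply, smul_eq_mul]; ring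
    rw [e, hlin] at h
    have hk := congrFun h i
    have h1 := congrFun (hrow j) i
    have h2 := congrFun (hrow i) i
    simp only [refl_apply, Pi.add_apply, Pi.smul_apply, smul_eq_mul, hA.diag, one_mul] at hk h1 h2
    have : cartanOf M j i * (μ j - μ i) = 0 := by
      simp only [hμ] at h1 ⊢
      linear_combination hk - h1
    rcases mul_eq_zero.1 this with h' | h'
    · exact absurd h' hne
    · linarith
  have hall : ∀ d : ℕ, ∀ i : Fin n, rk i = d → μ i = μ 0 := by
    intro d
    induction d using Nat.strong_induction_on with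
    | _ d ih =>
      intro i hi
      by_cases h0 : i.val = 0
      · rw [show i = 0 from Fin.ext (by simpa using h0)]
      · obtain ⟨h1, h2⟩ := hpar i h0
        rw [hadj _ _ h2]
        exact ih _ (hi ▸ h1) _ rfl
  have hall' : ∀ i, (2 : ℤ) • Z (cartanOf M i) = μ 0 • cartanOf M i := fun i => by
    rw [hrow, hall _ i rfl]
  have hsum : ∀ {ι : Type} (s : Finset ι) (c : ι → ℤ) (f : ι → Fin n → ℤ),
      Z (∑ i ∈ s, c i • f i) = ∑ i ∈ s, c i • Z (f i) := by
    intro ι s c f
    classical
    induction s using Finset.induction_on with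
    | empty => simpa using hlin 0 0 0 0
    | @insert a s ha ih =>
      rw [Finset.sum_insert ha, Finset.sum_insert ha]
      have := hlin (c a) 1 (f a) (∑ i ∈ s, c i • f i)
      rw [one_smul, one_smul, ih] at this
      exact this
  have hscalar : ∀ l : Fin n → ℤ, (2 : ℤ) • Z l = μ 0 • l := by
    intro l
    have e : m • l = ∑ i, (∑ j, l j * C j i) • cartanOf M i := by
      funext k
      simp only [Pi.smul_apply, Finset.sum_apply, smul_eq_mul, Finset.sum_mul]
      rw [Finset.sum_comm]
      simp only [mul_assoc, ← Finset.mul_sum, hC]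
      simp [mul_comm]
    have h1 : (2 : ℤ) • Z (m • l) = μ 0 • (m • l) := by
      rw [e, hsum, Finset.smul_sum, Finset.smul_sum]
      refine Finset.sum_congr rfl fun i _ => ?_
      rw [smul_comm (2 : ℤ), hall', smul_comm]
    have h2 : Z (m • l) = m • Z l := by simpa using hlin m 0 l l
    rw [h2, smul_comm (2 : ℤ), smul_comm (μ 0)] at h1
    exact smul_right_injective _ hm h1
  have hdvd : μ 0 ∣ 2 := by
    have h := congrFun (hscalar (act cs hA z⁻¹ (fun _ => 1))) 0
    rw [hZ, ← act_mul, mul_inv_cancel, act_one] at h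
    simp only [Pi.smul_apply, smul_eq_mul, mul_one] at h
    exact ⟨_, h⟩
  have habs : (μ 0).natAbs ∣ 2 := Int.natAbs_dvd_natAbs.2 hdvd
  have h2 := congrFun (hscalar (Pi.single 0 1)) 0
  simp only [Pi.smul_apply, smul_eq_mul, Pi.single_eq_same, mul_one] at h2
  rcases (Nat.dvd_prime Nat.prime_two).1 habs with h | h
  · omega
  · rcases Int.natAbs_eq (μ 0) with h' | h' <;> rw [h] at h'
    · left
      intro l
      have := hscalar l
      rw [h'] at this
      exact smul_right_injective _ (two_ne_zero (α := ℤ)) this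
    · right
      intro l
      have := hscalar l
      rw [h'] at this
      refine smul_right_injective _ (two_ne_zero (α := ℤ)) (this.trans ?_)
      funext k; simp

theorem list_ones : List.ofFn (fun _ : Fin n => (1 : ℤ)) = List.replicate n 1 := List.ofFn_const _ _

theorem center_of_word (hA : IsCartan M (cartanOf M)) {R : List (List ℤ)}
    (hR : List.ofFn (fun i => List.ofFn (cartanOf M i)) = R) (par : Fin n → Fin n)
    (rk : Fin n → ℕ)
    (hpar : ∀ i : Fin n, i.val ≠ 0 → rk (par i) < rk i ∧ cartanOf M i (par i) ≠ 0)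
    (m : ℤ) (hm : m ≠ 0) (C : Fin n → Fin n → ℤ)
    (hC : ∀ j k, ∑ i, C j i * cartanOf M i k = if j = k then m else 0)
    (h : ℕ) (hw : evalL R (List.replicate h (List.range n)).flatten (List.replicate n 1) = List.replicate n (-1))
    (hc : ((List.range n).all fun i => decide
      (evalL R (i :: (List.replicate h (List.range n)).flatten) (List.replicate n 1) =
        evalL R ((List.replicate h (List.range n)).flatten ++ [i]) (List.replicate n 1))) = true) :
    Nat.card (Subgroup.center M.Group) = 2 ∧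
      Subgroup.center M.Group ≤ Subgroup.zpowers ((List.finRange n).map M.simple).prod := by
  set cs := M.toCoxeterSystem
  set w := (List.replicate h (List.range n)).flatten with hwdef
  have hwn : ∀ i ∈ w, i < n := by
    intro i hi
    obtain ⟨x, hx, hix⟩ := List.mem_flatten.1 hi
    rw [List.eq_of_mem_replicate hx] at hix
    exact List.mem_range.1 hix
  have hcox : elemOf M (List.range n) = ((List.finRange n).map M.simple).prod := by
    rw [elemOf, CoxeterSystem.wordProd, M.toCoxeterSystem_simple]
    congr 2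
    rw [← List.map_coe_finRange_eq_range, List.map_map]
    refine (List.map_congr_left fun i _ => ?_).trans (List.map_id _)
    exact Fin.ofNat_val_eq_self i
  set z := elemOf M w with hz
  have hzc : z ∈ Subgroup.center M.Group := by
    rw [Subgroup.mem_center_iff]
    intro g
    induction g using cs.simple_induction_left with
    | one => simp
    | mul_simple_left g i ih =>
      have hb := List.all_eq_true.1 hc i.val (List.mem_range.2 i.isLt)
      rw [decide_eq_true_eq] at hb
      have e := elemOf_eq_of_evalL hA hR (M := M) (w := i.val :: w) (w' := w ++ [i.val])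
        (by intro j hj; rcases List.mem_cons.1 hj with rfl | hj; exacts [i.isLt, hwn j hj])
        (by intro j hj; rcases List.mem_append.1 hj with hj | hj; exacts [hwn j hj, by simp at hj; omega]) hb
      rw [elemOf_cons, elemOf_append, elemOf_cons, elemOf_nil, mul_one, Fin.ofNat_val_eq_self] at e
      rw [mul_assoc, ih, ← mul_assoc, e, mul_assoc]
  have hz1 : act cs hA z (fun _ => 1) = fun _ => (-1 : ℤ) := by
    apply List.ofFn_injective
    rw [ofFn_act_elemOf hA hR w hwn, list_ones, hw, List.ofFn_const]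
  have hne : z ≠ 1 := by
    intro e
    rw [e, act_one] at hz1
    simpa using congrFun hz1 0
  have hcen : ∀ x ∈ Subgroup.center M.Group, x = 1 ∨ x = z := by
    intro x hx
    rcases central_act hA par rk hpar m hm C hC hx with hx' | hx'
    · exact Or.inl (act_inj cs hA (l := fun _ => 1) (fun _ => one_pos) (by rw [hx', act_one]))
    · refine Or.inr (act_inj cs hA (l := fun _ => 1) (fun _ => one_pos) ?_)
      rw [hx', hz1]
      funext k; simp
  refine ⟨?_, fun x hx => ?_⟩
  · rw [Nat.card_eq_two_iff]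
    refine ⟨1, ⟨z, hzc⟩, fun e => hne (congrArg Subtype.val e).symm, ?_⟩
    refine Set.eq_univ_of_forall fun x => ?_
    rcases hcen x.1 x.2 with h1 | h1
    · exact Or.inl (Subtype.ext h1)
    · exact Or.inr (Subtype.ext h1)
  · rcases hcen x hx with rfl | rfl
    · exact one_mem _
    · rw [← hcox]
      exact ⟨(h : ℤ), by simp only [zpow_natCast, elemOf_pow]; rfl⟩

theorem center_e6 : Nat.card (Subgroup.center CoxeterMatrix.E₆.Group) = 1 ∧
    Subgroup.center CoxeterMatrix.E₆.Group ≤
      Subgroup.zpowers ((List.finRange 6).map CoxeterMatrix.E₆.simple).prod := by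
  have hA := isCartan_cartanOf_all (M := CoxeterMatrix.E₆) (by decide +kernel)
  set cs := CoxeterMatrix.E₆.toCoxeterSystem
  set R := List.ofFn (fun i => List.ofFn (cartanOf CoxeterMatrix.E₆ i)) with hR
  set w : List ℕ := [0, 2, 3, 4, 5, 1, 3, 4, 2, 3, 0, 2, 1, 3, 4, 5, 1, 3, 4, 2, 3, 0, 2, 1, 3, 4, 2, 3, 0, 2, 1, 3, 0, 2, 1, 0] with hwdef
  have hwn : ∀ i ∈ w, i < 6 := by decide +kernel
  have hbot : Subgroup.center CoxeterMatrix.E₆.Group = ⊥ := by
    rw [Subgroup.eq_bot_iff_forall]
    intro x hx
    rcases central_act hA ![0, 3, 0, 2, 3, 4] (fun i => if i.val = 1 then 100 else i.val) (by decide +kernel) 3 (by decide)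
      ![![4, 3, 5, 6, 4, 2], ![3, 6, 6, 9, 6, 3], ![5, 6, 10, 12, 8, 4], ![6, 9, 12, 18, 12, 6], ![4, 6, 8, 12, 10, 5], ![2, 3, 4, 6, 5, 4]]
      (by decide +kernel) hx with h | h
    · exact act_inj cs hA (l := fun _ => 1) (fun _ => one_pos) (by rw [h, act_one])
    · exfalso
      have h1 : List.ofFn (act cs hA (elemOf CoxeterMatrix.E₆ w) (fun _ => 1)) = List.replicate 6 (-1) := by
        rw [ofFn_act_elemOf hA hR.symm w hwn, list_ones]
        decide +kernel
      have hxw : x = elemOf CoxeterMatrix.E₆ w := by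
        refine act_inj cs hA (l := fun _ => 1) (fun _ => one_pos) (List.ofFn_injective ?_)
        rw [h1, h]
        decide +kernel
      have h2 := congrArg List.ofFn (h ![1, 0, 0, 0, 0, 0])
      rw [hxw, ofFn_act_elemOf hA hR.symm w hwn] at h2
      revert h2
      decide +kernel
  rw [hbot]
  exact ⟨Subgroup.card_bot, bot_le⟩


/-- For the Coxeter groups of types B₂, G₂, D₄, F₄, E₇, E₈ the centre has order 2 (the element acting as −1 on the root system) and is generated by a power of the Coxeter element `s₁ s₂ ⋯ s_l`; the Coxeter group of type E₆ has trivial centre. -/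
theorem result (c : (Σ n : ℕ, CoxeterMatrix (Fin n)) × ℕ)
    (hc : c ∈ [(⟨2, CoxeterMatrix.B 2⟩, 2), (⟨2, CoxeterMatrix.G₂⟩, 2), (⟨4, Cfsg.Lie.coxeterD4⟩, 2), (⟨4, CoxeterMatrix.F₄⟩, 2),
      (⟨6, CoxeterMatrix.E₆⟩, 1), (⟨7, CoxeterMatrix.E₇⟩, 2), (⟨8, CoxeterMatrix.E₈⟩, 2)]) :
    Nat.card (Subgroup.center c.1.2.Group) = c.2 ∧
      Subgroup.center c.1.2.Group ≤ Subgroup.zpowers ((List.finRange c.1.1).map c.1.2.simple).prod := by
  simp only [List.mem_cons, List.not_mem_nil, or_false] at hc
  rcases hc with rfl | rfl | rfl | rfl | rfl | rfl | rfl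
  · exact center_of_word (M := CoxeterMatrix.B 2) (isCartan_cartanOf_all (by decide +kernel)) rfl ![0, 0] Fin.val
      (by decide +kernel) 2 (by decide) ![![2, 2], ![1, 2]] (by decide +kernel) 2 (by decide +kernel) (by decide +kernel)
  · exact center_of_word (M := CoxeterMatrix.G₂) (isCartan_cartanOf_all (by decide +kernel)) rfl ![0, 0] Fin.val
      (by decide +kernel) 1 (by decide) ![![2, 3], ![1, 2]] (by decide +kernel) 3 (by decide +kernel) (by decide +kernel)
  · exact center_of_word (M := Cfsg.Lie.coxeterD4) (isCartan_cartanOf_all (by decide +kernel)) rfl ![0, 0, 1, 1] Fin.val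
      (by decide +kernel) 2 (by decide) ![![2, 2, 1, 1], ![2, 4, 2, 2], ![1, 2, 2, 1], ![1, 2, 1, 2]] (by decide +kernel) 3 (by decide +kernel) (by decide +kernel)
  · exact center_of_word (M := CoxeterMatrix.F₄) (isCartan_cartanOf_all (by decide +kernel)) rfl ![0, 0, 1, 2] Fin.val
      (by decide +kernel) 1 (by decide) ![![2, 3, 4, 2], ![3, 6, 8, 4], ![2, 4, 6, 3], ![1, 2, 3, 2]] (by decide +kernel) 6 (by decide +kernel) (by decide +kernel)
  · exact center_e6
  · exact center_of_word (M := CoxeterMatrix.E₇) (isCartan_cartanOf_all (by decide +kernel)) rfl ![0, 3, 0, 2, 3, 4, 5]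
      (fun i => if i.val = 1 then 100 else i.val)
      (by decide +kernel) 2 (by decide) ![![4, 4, 6, 8, 6, 4, 2], ![4, 7, 8, 12, 9, 6, 3], ![6, 8, 12, 16, 12, 8, 4], ![8, 12, 16, 24, 18, 12, 6], ![6, 9, 12, 18, 15, 10, 5], ![4, 6, 8, 12, 10, 8, 4], ![2, 3, 4, 6, 5, 4, 3]] (by decide +kernel) 9 (by decide +kernel) (by decide +kernel)
  · exact center_of_word (M := CoxeterMatrix.E₈) (isCartan_cartanOf_all (by decide +kernel)) rfl ![0, 3, 0, 2, 3, 4, 5, 6]
      (fun i => if i.val = 1 then 100 else i.val)
      (by decide +kernel) 1 (by decide) ![![4, 5, 7, 10, 8, 6, 4, 2], ![5, 8, 10, 15, 12, 9, 6, 3], ![7, 10, 14, 20, 16, 12, 8, 4], ![10, 15, 20, 30, 24, 18, 12, 6], ![8, 12, 16, 24, 20, 15, 10, 5], ![6, 9, 12, 18, 15, 12, 8, 4], ![4, 6, 8, 12, 10, 8, 6, 3], ![2, 3, 4, 6, 5, 4, 3, 2]] (by decide +kernel) 15 (by decide +kernel) (by decide +kernel)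

end Cfsg.Agent.S2418
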