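import Cfsg.Statements.S2419
import Cfsg.Agent.EqLemmas

set_option autoImplicit false
open Cfsg

namespace Cfsg.Agent.S2419

variable {G : Type*} [Group G]

private lemma inv_of_sq {a : G} (ha : a * a = 1) : a⁻¹ = a := inv_eq_of_mul_eq_one_right ha

private lemma comm_of_sq {a b : G} (ha : a * a = 1) (hb : b * b = 1) (h : (a * b) ^ 2 = 1) :
    Commute a b := by
  have h' : (a * b)⁻¹ = a * b := inv_eq_of_mul_eq_one_right (by simpa [pow_two] using h)
  rw [mul_inv_rev, inv_of_sq ha, inv_of_sq hb] at h'
  exact h'.symm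

private lemma braid_of_cube {a b : G} (ha : a * a = 1) (hb : b * b = 1) (h : (a * b) ^ 3 = 1) :
    a * b * a = b * a * b := by
  have h' : (a * b * a) * (b * a * b) = 1 := by simpa [pow_succ, mul_assoc] using h
  have := (inv_eq_of_mul_eq_one_right h').symm
  rw [this, mul_inv_rev, mul_inv_rev, inv_of_sq ha, inv_of_sq hb, mul_assoc]

/-- Conjugation by a product moves `a` to its successor `b`. -/
private lemma step {X Y a b : G} (ha : a * a = 1) (hb : b * b = 1) (hab : (a * b) ^ 3 = 1)
    (hX : Commute X b) (hY : Commute Y a) :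
    (X * (a * b) * Y) * a * (X * (a * b) * Y)⁻¹ = b := by
  have h1 : Y * a * Y⁻¹ = a := by rw [hY.eq, mul_inv_cancel_right]
  have h2 : a * b * a * (b⁻¹ * a⁻¹) = b := by
    have hinv : b⁻¹ * a⁻¹ = b * a := by rw [inv_of_sq ha, inv_of_sq hb]
    rw [hinv, braid_of_cube ha hb hab]
    calc b * a * b * (b * a) = b * a * (b * b) * a := by simp [mul_assoc]
      _ = b := by rw [hb, mul_one, mul_assoc, ha, mul_one]
  calc (X * (a * b) * Y) * a * (X * (a * b) * Y)⁻¹
      = X * (a * b * (Y * a * Y⁻¹) * (b⁻¹ * a⁻¹)) * X⁻¹ := by simp [mul_assoc]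
    _ = X * b * X⁻¹ := by rw [h1, h2]
    _ = b := by rw [hX.eq, mul_inv_cancel_right]

/-- A subgroup with `a * b` and `c` contains `a`, for a Coxeter chain `a - b - c`. -/
private lemma chain3 {a b c : G} (ha : a * a = 1) (hb : b * b = 1) (hc : c * c = 1)
    (hab : (a * b) ^ 3 = 1) (hbc : (b * c) ^ 3 = 1) (hac : (a * c) ^ 2 = 1)
    (H : Subgroup G) (h1 : a * b ∈ H) (h2 : c ∈ H) : a ∈ H := by
  have hbr := braid_of_cube hb hc hbc
  have hac' := comm_of_sq ha hc hac
  have hinv : (a * b)⁻¹ = b * a := by rw [mul_inv_rev, inv_of_sq ha, inv_of_sq hb]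
  have m1 : a * (b * c * b) * a ∈ H := by
    have := mul_mem (mul_mem h1 h2) (inv_mem h1)
    rw [hinv] at this
    simpa [mul_assoc] using this
  have m2 : b * c * b ∈ H := by
    have := mul_mem (mul_mem (inv_mem h1) h2) h1
    rw [hinv] at this
    have e : b * a * c * (a * b) = b * c * b := by
      calc b * a * c * (a * b) = b * (a * c) * a * b := by simp [mul_assoc]
        _ = b * (c * a) * a * b := by rw [hac'.eq]
        _ = b * c * (a * a) * b := by simp [mul_assoc]
        _ = b * c * b := by rw [ha, mul_one]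
    rwa [e] at this
  have hu : a * (b * c * b) = c * (a * b) * c⁻¹ := by
    rw [inv_of_sq hc, hbr, ← mul_assoc, ← mul_assoc, ← mul_assoc, hac'.eq]
  have hcube : (a * (b * c * b)) ^ 3 = 1 := by
    rw [hu, conj_pow, hab, mul_one, mul_inv_cancel]
  have e : a * (b * c * b) * a * (b * c * b) * (a * (b * c * b) * a) = a := by
    calc _ = (a * (b * c * b)) ^ 3 * a := by simp [pow_succ, mul_assoc]
      _ = a := by rw [hcube, one_mul]
  have := mul_mem (mul_mem m1 m2) m1
  rwa [e] at this

variable {n : ℕ} (M : CoxeterMatrix (Fin n))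

private lemma rel (i j : Fin n) {k : ℕ} (h : M i j = k) : (M.simple i * M.simple j) ^ k = 1 := by
  rw [← h, ← M.toCoxeterSystem_simple]
  exact M.toCoxeterSystem.simple_mul_simple_pow i j

private lemma sq (i : Fin n) : M.simple i * M.simple i = 1 := by
  rw [← M.toCoxeterSystem_simple]
  exact M.toCoxeterSystem.simple_mul_simple_self i

private lemma comm (i j : Fin n) (h : M i j = 2) : Commute (M.simple i) (M.simple j) :=
  comm_of_sq (sq M i) (sq M j) (rel M i j h)

private lemma top_of_simple (H : Subgroup M.Group) (h : ∀ i, M.simple i ∈ H) : H = ⊤ := by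
  rw [eq_top_iff, ← M.toCoxeterSystem.subgroup_closure_range_simple, Subgroup.closure_le]
  rintro _ ⟨i, rfl⟩
  rw [M.toCoxeterSystem_simple]
  exact h i

/-- Two simple reflections are different if some lift separates them. -/
private lemma simple_ne {P : Type*} [Monoid P] (f : Fin n → P)
    (hf : ∀ i j, (f i * f j) ^ M i j = 1) (i j : Fin n) (h : f i ≠ f j) : M.simple i ≠ M.simple j := by
  intro e
  apply h
  have hi := M.toCoxeterSystem.lift_apply_simple (f := f) hf i
  have hj := M.toCoxeterSystem.lift_apply_simple (f := f) hf j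
  rw [M.toCoxeterSystem_simple] at hi hj
  rw [← hi, ← hj, e]


open scoped Classical in
/-- The Coxeter groups of types B₂, G₂, E₆, E₇, E₈ are generated by the Coxeter element `s₁ s₂ ⋯ s_l` together with one suitable reflection (a conjugate of a simple reflection); for types D₄ and F₄ the Coxeter element together with two suitable reflections suffices. -/
theorem result (c : (Σ n : ℕ, CoxeterMatrix (Fin n)) × ℕ)
    (hc : c ∈ [(⟨2, CoxeterMatrix.B 2⟩, 1), (⟨2, CoxeterMatrix.G₂⟩, 1), (⟨4, Cfsg.Lie.coxeterD4⟩, 2), (⟨4, CoxeterMatrix.F₄⟩, 2),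
      (⟨6, CoxeterMatrix.E₆⟩, 1), (⟨7, CoxeterMatrix.E₇⟩, 1), (⟨8, CoxeterMatrix.E₈⟩, 1)]) :
    ∃ T : Finset c.1.2.Group, T.card = c.2 ∧ (∀ t ∈ T, ∃ (g : c.1.2.Group) (i : Fin c.1.1), t = g * c.1.2.simple i * g⁻¹) ∧
      Subgroup.closure (({((List.finRange c.1.1).map c.1.2.simple).prod} : Set c.1.2.Group) ∪ ↑T) = ⊤ := by
  simp only [List.mem_cons, List.not_mem_nil, or_false] at hc
  rcases hc with rfl | rfl | rfl | rfl | rfl | rfl | rfl
  · refine ⟨{(CoxeterMatrix.B 2).simple 0}, Finset.card_singleton _, ?_, ?_⟩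
    · intro t ht
      exact ⟨1, 0, by simpa using ht⟩
    · apply top_of_simple
      set H : Subgroup (CoxeterMatrix.B 2).Group := Subgroup.closure _ with hH
      have hp : (CoxeterMatrix.B 2).simple 0 * (CoxeterMatrix.B 2).simple 1 ∈ H := by
        apply Subgroup.subset_closure; left; simp [List.finRange_succ]
      have h0 : (CoxeterMatrix.B 2).simple 0 ∈ H := by apply Subgroup.subset_closure; right; simp
      intro i
      fin_cases i
      · exact h0
      · simpa using mul_mem (inv_mem h0) hp
  · refine ⟨{(CoxeterMatrix.G₂).simple 0}, Finset.card_singleton _, ?_, ?_⟩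
    · intro t ht
      exact ⟨1, 0, by simpa using ht⟩
    · apply top_of_simple
      set H : Subgroup CoxeterMatrix.G₂.Group := Subgroup.closure _ with hH
      have hp : (CoxeterMatrix.G₂).simple 0 * (CoxeterMatrix.G₂).simple 1 ∈ H := by
        apply Subgroup.subset_closure; left; simp [List.finRange_succ]
      have h0 : (CoxeterMatrix.G₂).simple 0 ∈ H := by apply Subgroup.subset_closure; right; simp
      intro i
      fin_cases i
      · exact h0
      · simpa using mul_mem (inv_mem h0) hp
  · let M := Cfsg.Lie.coxeterD4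
    have hne : M.simple 0 ≠ M.simple 2 :=
      simple_ne M ![Equiv.swap (0 : Fin 4) 1, Equiv.swap 1 2, Equiv.swap 2 3, Equiv.swap 0 1]
        (by decide +kernel) 0 2 (by decide +kernel)
    refine ⟨({M.simple 0, M.simple 2} : Finset M.Group), Finset.card_pair hne, ?_, ?_⟩
    · intro t ht
      simp only [Finset.mem_insert, Finset.mem_singleton] at ht
      rcases ht with rfl | rfl
      · exact ⟨1, 0, by simp [M]⟩
      · exact ⟨1, 2, by simp [M]⟩
    · apply top_of_simple
      set H : Subgroup M.Group := Subgroup.closure _ with hH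
      have hp : 1 * (M.simple 0 * M.simple 1) * (M.simple 2 * M.simple 3) ∈ H := by
        apply Subgroup.subset_closure; left; simp [List.finRange_succ, mul_assoc, M]
      have h0 : M.simple 0 ∈ H := by apply Subgroup.subset_closure; right; simp [M]
      have h2 : M.simple 2 ∈ H := by apply Subgroup.subset_closure; right; simp [M]
      have h1 : M.simple 1 ∈ H := by
        have := mul_mem (mul_mem hp h0) (inv_mem hp)
        rwa [step (sq M 0) (sq M 1) (rel M 0 1 rfl) (Commute.one_left _)
          ((comm M 2 0 rfl).mul_left (comm M 3 0 rfl))] at this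
      have h3 : M.simple 3 ∈ H := by
        simpa [mul_assoc] using mul_mem (inv_mem (mul_mem (mul_mem h0 h1) h2)) hp
      intro i
      fin_cases i <;> assumption
  · let M := CoxeterMatrix.F₄
    have hne : M.simple 0 ≠ M.simple 3 :=
      simple_ne M ![(-1 : ℤˣ), -1, 1, 1] (by decide +kernel) 0 3 (by decide +kernel)
    refine ⟨({M.simple 0, M.simple 3} : Finset M.Group), Finset.card_pair hne, ?_, ?_⟩
    · intro t ht
      simp only [Finset.mem_insert, Finset.mem_singleton] at ht
      rcases ht with rfl | rfl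
      · exact ⟨1, 0, by simp [M]⟩
      · exact ⟨1, 3, by simp [M]⟩
    · apply top_of_simple
      set H : Subgroup M.Group := Subgroup.closure _ with hH
      have hp : 1 * (M.simple 0 * M.simple 1) * (M.simple 2 * M.simple 3) ∈ H := by
        apply Subgroup.subset_closure; left; simp [List.finRange_succ, mul_assoc, M]
      have h0 : M.simple 0 ∈ H := by apply Subgroup.subset_closure; right; simp [M]
      have h3 : M.simple 3 ∈ H := by apply Subgroup.subset_closure; right; simp [M]
      have h1 : M.simple 1 ∈ H := by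
        have := mul_mem (mul_mem hp h0) (inv_mem hp)
        rwa [step (sq M 0) (sq M 1) (rel M 0 1 rfl) (Commute.one_left _)
          ((comm M 2 0 rfl).mul_left (comm M 3 0 rfl))] at this
      have h2 : M.simple 2 ∈ H := by
        simpa [mul_assoc] using mul_mem (mul_mem (inv_mem (mul_mem h0 h1)) hp) (inv_mem h3)
      intro i
      fin_cases i <;> assumption
  · let M := CoxeterMatrix.E₆
    refine ⟨{M.simple 3}, Finset.card_singleton _, ?_, ?_⟩
    · intro t ht
      exact ⟨1, 3, by simpa [M] using ht⟩
    · apply top_of_simple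
      set H : Subgroup M.Group := Subgroup.closure _ with hH
      have hp : M.simple 0 * M.simple 1 * M.simple 2 * M.simple 3 * M.simple 4 * M.simple 5 ∈ H := by
        apply Subgroup.subset_closure; left; simp [List.finRange_succ, mul_assoc, M]
      have h3 : M.simple 3 ∈ H := by apply Subgroup.subset_closure; right; simp [M]
      have h4 : M.simple 4 ∈ H := by
        have hq : (M.simple 0 * M.simple 1 * M.simple 2) * (M.simple 3 * M.simple 4) * M.simple 5 ∈ H := by
          simpa [mul_assoc] using hp
        have := mul_mem (mul_mem hq h3) (inv_mem hq)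
        rwa [step (sq M 3) (sq M 4) (rel M 3 4 rfl) (((((comm M 0 4 rfl)).mul_left (comm M 1 4 rfl))).mul_left (comm M 2 4 rfl)) (comm M 5 3 rfl)] at this
      have h5 : M.simple 5 ∈ H := by
        have hq : (M.simple 0 * M.simple 1 * M.simple 2 * M.simple 3) * (M.simple 4 * M.simple 5) * 1 ∈ H := by
          simpa [mul_assoc] using hp
        have := mul_mem (mul_mem hq h4) (inv_mem hq)
        rwa [step (sq M 4) (sq M 5) (rel M 4 5 rfl) (((((((comm M 0 5 rfl)).mul_left (comm M 1 5 rfl))).mul_left (comm M 2 5 rfl))).mul_left (comm M 3 5 rfl)) (Commute.one_left _)] at this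
      have h012 : M.simple 0 * M.simple 1 * M.simple 2 ∈ H := by
        simpa [mul_assoc] using mul_mem hp (inv_mem (mul_mem (mul_mem h3 h4) h5))
      have e : M.simple 0 * M.simple 1 * M.simple 2 = M.simple 1 * (M.simple 0 * M.simple 2) := by
        rw [(comm M 0 1 rfl).eq, mul_assoc]
      have hcube : (M.simple 0 * M.simple 1 * M.simple 2) ^ 3 = M.simple 1 := by
        rw [e, ((comm M 1 0 rfl).mul_right (comm M 1 2 rfl)).mul_pow, rel M 0 2 (k := 3) rfl, mul_one,
          pow_succ, pow_two, sq M 1, one_mul]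
      have h1 : M.simple 1 ∈ H := hcube ▸ pow_mem h012 3
      have h02 : M.simple 0 * M.simple 2 ∈ H := by
        simpa [e] using mul_mem (inv_mem h1) h012
      have h0 : M.simple 0 ∈ H :=
        chain3 (sq M 0) (sq M 2) (sq M 3) (rel M 0 2 rfl) (rel M 2 3 rfl) (rel M 0 3 rfl) H h02 h3
      have h2 : M.simple 2 ∈ H := by simpa using mul_mem (inv_mem h0) h02
      intro i
      fin_cases i <;> assumption
  · let M := CoxeterMatrix.E₇
    refine ⟨{M.simple 3}, Finset.card_singleton _, ?_, ?_⟩
    · intro t ht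
      exact ⟨1, 3, by simpa [M] using ht⟩
    · apply top_of_simple
      set H : Subgroup M.Group := Subgroup.closure _ with hH
      have hp : M.simple 0 * M.simple 1 * M.simple 2 * M.simple 3 * M.simple 4 * M.simple 5 * M.simple 6 ∈ H := by
        apply Subgroup.subset_closure; left; simp [List.finRange_succ, mul_assoc, M]
      have h3 : M.simple 3 ∈ H := by apply Subgroup.subset_closure; right; simp [M]
      have h4 : M.simple 4 ∈ H := by
        have hq : (M.simple 0 * M.simple 1 * M.simple 2) * (M.simple 3 * M.simple 4) * (M.simple 5 * M.simple 6) ∈ H := by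
          simpa [mul_assoc] using hp
        have := mul_mem (mul_mem hq h3) (inv_mem hq)
        rwa [step (sq M 3) (sq M 4) (rel M 3 4 rfl) (((((comm M 0 4 rfl)).mul_left (comm M 1 4 rfl))).mul_left (comm M 2 4 rfl)) (((comm M 5 3 rfl)).mul_left (comm M 6 3 rfl))] at this
      have h5 : M.simple 5 ∈ H := by
        have hq : (M.simple 0 * M.simple 1 * M.simple 2 * M.simple 3) * (M.simple 4 * M.simple 5) * M.simple 6 ∈ H := by
          simpa [mul_assoc] using hp
        have := mul_mem (mul_mem hq h4) (inv_mem hq)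
        rwa [step (sq M 4) (sq M 5) (rel M 4 5 rfl) (((((((comm M 0 5 rfl)).mul_left (comm M 1 5 rfl))).mul_left (comm M 2 5 rfl))).mul_left (comm M 3 5 rfl)) (comm M 6 4 rfl)] at this
      have h6 : M.simple 6 ∈ H := by
        have hq : (M.simple 0 * M.simple 1 * M.simple 2 * M.simple 3 * M.simple 4) * (M.simple 5 * M.simple 6) * 1 ∈ H := by
          simpa [mul_assoc] using hp
        have := mul_mem (mul_mem hq h5) (inv_mem hq)
        rwa [step (sq M 5) (sq M 6) (rel M 5 6 rfl) (((((((((comm M 0 6 rfl)).mul_left (comm M 1 6 rfl))).mul_left (comm M 2 6 rfl))).mul_left (comm M 3 6 rfl))).mul_left (comm M 4 6 rfl)) (Commute.one_left _)] at this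
      have h012 : M.simple 0 * M.simple 1 * M.simple 2 ∈ H := by
        simpa [mul_assoc] using mul_mem hp (inv_mem (mul_mem (mul_mem (mul_mem h3 h4) h5) h6))
      have e : M.simple 0 * M.simple 1 * M.simple 2 = M.simple 1 * (M.simple 0 * M.simple 2) := by
        rw [(comm M 0 1 rfl).eq, mul_assoc]
      have hcube : (M.simple 0 * M.simple 1 * M.simple 2) ^ 3 = M.simple 1 := by
        rw [e, ((comm M 1 0 rfl).mul_right (comm M 1 2 rfl)).mul_pow, rel M 0 2 (k := 3) rfl, mul_one,
          pow_succ, pow_two, sq M 1, one_mul]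
      have h1 : M.simple 1 ∈ H := hcube ▸ pow_mem h012 3
      have h02 : M.simple 0 * M.simple 2 ∈ H := by
        simpa [e] using mul_mem (inv_mem h1) h012
      have h0 : M.simple 0 ∈ H :=
        chain3 (sq M 0) (sq M 2) (sq M 3) (rel M 0 2 rfl) (rel M 2 3 rfl) (rel M 0 3 rfl) H h02 h3
      have h2 : M.simple 2 ∈ H := by simpa using mul_mem (inv_mem h0) h02
      intro i
      fin_cases i <;> assumption
  · let M := CoxeterMatrix.E₈
    refine ⟨{M.simple 3}, Finset.card_singleton _, ?_, ?_⟩
    · intro t ht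
      exact ⟨1, 3, by simpa [M] using ht⟩
    · apply top_of_simple
      set H : Subgroup M.Group := Subgroup.closure _ with hH
      have hp : M.simple 0 * M.simple 1 * M.simple 2 * M.simple 3 * M.simple 4 * M.simple 5 * M.simple 6 * M.simple 7 ∈ H := by
        apply Subgroup.subset_closure; left; simp [List.finRange_succ, mul_assoc, M]
      have h3 : M.simple 3 ∈ H := by apply Subgroup.subset_closure; right; simp [M]
      have h4 : M.simple 4 ∈ H := by
        have hq : (M.simple 0 * M.simple 1 * M.simple 2) * (M.simple 3 * M.simple 4) * (M.simple 5 * M.simple 6 * M.simple 7) ∈ H := by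
          simpa [mul_assoc] using hp
        have := mul_mem (mul_mem hq h3) (inv_mem hq)
        rwa [step (sq M 3) (sq M 4) (rel M 3 4 rfl) (((((comm M 0 4 rfl)).mul_left (comm M 1 4 rfl))).mul_left (comm M 2 4 rfl)) (((((comm M 5 3 rfl)).mul_left (comm M 6 3 rfl))).mul_left (comm M 7 3 rfl))] at this
      have h5 : M.simple 5 ∈ H := by
        have hq : (M.simple 0 * M.simple 1 * M.simple 2 * M.simple 3) * (M.simple 4 * M.simple 5) * (M.simple 6 * M.simple 7) ∈ H := by
          simpa [mul_assoc] using hp
        have := mul_mem (mul_mem hq h4) (inv_mem hq)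
        rwa [step (sq M 4) (sq M 5) (rel M 4 5 rfl) (((((((comm M 0 5 rfl)).mul_left (comm M 1 5 rfl))).mul_left (comm M 2 5 rfl))).mul_left (comm M 3 5 rfl)) (((comm M 6 4 rfl)).mul_left (comm M 7 4 rfl))] at this
      have h6 : M.simple 6 ∈ H := by
        have hq : (M.simple 0 * M.simple 1 * M.simple 2 * M.simple 3 * M.simple 4) * (M.simple 5 * M.simple 6) * M.simple 7 ∈ H := by
          simpa [mul_assoc] using hp
        have := mul_mem (mul_mem hq h5) (inv_mem hq)
        rwa [step (sq M 5) (sq M 6) (rel M 5 6 rfl) (((((((((comm M 0 6 rfl)).mul_left (comm M 1 6 rfl))).mul_left (comm M 2 6 rfl))).mul_left (comm M 3 6 rfl))).mul_left (comm M 4 6 rfl)) (comm M 7 5 rfl)] at this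
      have h7 : M.simple 7 ∈ H := by
        have hq : (M.simple 0 * M.simple 1 * M.simple 2 * M.simple 3 * M.simple 4 * M.simple 5) * (M.simple 6 * M.simple 7) * 1 ∈ H := by
          simpa [mul_assoc] using hp
        have := mul_mem (mul_mem hq h6) (inv_mem hq)
        rwa [step (sq M 6) (sq M 7) (rel M 6 7 rfl) (((((((((((comm M 0 7 rfl)).mul_left (comm M 1 7 rfl))).mul_left (comm M 2 7 rfl))).mul_left (comm M 3 7 rfl))).mul_left (comm M 4 7 rfl))).mul_left (comm M 5 7 rfl)) (Commute.one_left _)] at this
      have h012 : M.simple 0 * M.simple 1 * M.simple 2 ∈ H := by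
        simpa [mul_assoc] using mul_mem hp (inv_mem (mul_mem (mul_mem (mul_mem (mul_mem h3 h4) h5) h6) h7))
      have e : M.simple 0 * M.simple 1 * M.simple 2 = M.simple 1 * (M.simple 0 * M.simple 2) := by
        rw [(comm M 0 1 rfl).eq, mul_assoc]
      have hcube : (M.simple 0 * M.simple 1 * M.simple 2) ^ 3 = M.simple 1 := by
        rw [e, ((comm M 1 0 rfl).mul_right (comm M 1 2 rfl)).mul_pow, rel M 0 2 (k := 3) rfl, mul_one,
          pow_succ, pow_two, sq M 1, one_mul]
      have h1 : M.simple 1 ∈ H := hcube ▸ pow_mem h012 3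
      have h02 : M.simple 0 * M.simple 2 ∈ H := by
        simpa [e] using mul_mem (inv_mem h1) h012
      have h0 : M.simple 0 ∈ H :=
        chain3 (sq M 0) (sq M 2) (sq M 3) (rel M 0 2 rfl) (rel M 2 3 rfl) (rel M 0 3 rfl) H h02 h3
      have h2 : M.simple 2 ∈ H := by simpa using mul_mem (inv_mem h0) h02
      intro i
      fin_cases i <;> assumption

end Cfsg.Agent.S2419
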