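import Cfsg.Statements.S2425
import Cfsg.Agent.EqLemmas
import Cfsg.Agent.Lib.GLOrder.FlagChains
import Cfsg.Agent.Lib.Semisimple.Classes
import Cfsg.Agent.Lib.GLFlag.Perm

open Cfsg Cfsg.Agent Cfsg.Agent.GLOrder Module
-- import your own Cfsg.Agent.* helpers here

set_option autoImplicit false
open scoped MatrixGroups
open Cfsg

namespace Cfsg.Agent.S2425

/-- Values of the Steinberg character of `GL_n(q)` (the partition-indexed character for `ν = (1,…,1)`, of degree `q^(n(n−1)/2)`) at elements of order prime to the characteristic: if the characteristic polynomial of such an element is `∏ f^(m_f)` over distinct monic irreducible `f`, the value is `∏_f (−1)^((deg f − 1) m_f) q^(deg f · m_f (m_f − 1)/2)`. (At elements of order divisible by the characteristic the value is 0; that is not part of this statement.) -/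
theorem result {F : Type*} [Field F] [Fintype F] [DecidableEq F] {q : ℕ} (hq : Fintype.card F = q) (p : ℕ) [Fact p.Prime] [CharP F p]
    {n : ℕ} (x : GL (Fin n) F) (hx : (orderOf x).Coprime p) :
    Cfsg.unipotentCharacterGL n F (fun _ => 1) x =
      ∏ f ∈ (UniqueFactorizationMonoid.normalizedFactors (x : Matrix (Fin n) (Fin n) F).charpoly).toFinset,
        (-1 : ℂ) ^ ((f.natDegree - 1) * (UniqueFactorizationMonoid.normalizedFactors (x : Matrix (Fin n) (Fin n) F).charpoly).count f) *
          (q : ℂ) ^ (f.natDegree * (UniqueFactorizationMonoid.normalizedFactors (x : Matrix (Fin n) (Fin n) F).charpoly).count f *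
            ((UniqueFactorizationMonoid.normalizedFactors (x : Matrix (Fin n) (Fin n) F).charpoly).count f - 1) / 2) := by
  classical
  rcases n with _ | m
  · haveI : Subsingleton (GL (Fin 0) F) := ⟨fun a b => Units.ext (Subsingleton.elim _ _)⟩
    have h1 : (x : Matrix (Fin 0) (Fin 0) F).charpoly = 1 := by simp [Matrix.charpoly]
    have h2 : ∀ H : Subgroup (GL (Fin 0) F), fixedPointCharacter H x = 1 := by
      intro H
      rw [Subsingleton.elim x 1, GLFlag.fixedPointCharacter_one, Subgroup.index_eq_one.2
        (Subgroup.eq_top_iff' H |>.2 fun g => by rw [Subsingleton.elim g 1]; exact H.one_mem)]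
      simp
    rw [h1, UniqueFactorizationMonoid.normalizedFactors_one]
    simp [unipotentCharacterGL, h2]
  · set f : Module.End F (Fin (m + 1) → F) := Matrix.toLin' (x : Matrix (Fin (m + 1)) (Fin (m + 1)) F) with hf
    have hss : f.IsSemisimple := Semisimple.isSemisimple_of_coprime p x hx
    haveI : Finite (Inv f) := Subtype.finite
    haveI := Fintype.ofFinite (Inv f)
    let top : Inv f := ⟨⊤, fun _ _ => trivial⟩
    have hrk : finrank F top.1 = m + 1 := by
      show finrank F (⊤ : Submodule F (Fin (m + 1) → F)) = _
      rw [finrank_top, Module.finrank_fin_fun]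
    -- the character as an alternating sum over chains
    have hchar : Cfsg.unipotentCharacterGL (m + 1) F (fun _ => 1) x = (altSum f m 0 top : ℂ) := by
      rw [altSum, validPerms, Finset.sum_filter, Int.cast_sum]
      show ∑ κ : Equiv.Perm (Fin (m + 1)), _ = _
      refine Finset.sum_congr rfl fun κ _ => ?_
      have hcond : (∀ i : Fin (m + 1), (κ i).val ≤ 1 + i.val) ↔ ∀ i, (κ i).val ≤ i.val + 1 := by
        simp only [add_comm]
      by_cases hκ : ∀ i : Fin (m + 1), (κ i).val ≤ i.val + 1
      · rw [if_pos (hcond.2 hκ), if_pos hκ]
        have hps : partSum (fun i : Fin (m + 1) => 1 + i.val - (κ i).val) = psumE κ 0 := by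
          funext a
          rw [partSum, Finset.sum_filter, psumE, psum, ite_self, add_zero]
          refine Finset.sum_congr rfl fun j _ => ?_
          rw [add_comm 1 j.val]
        have hmem : κ ∈ validPerms (m + 1) := mem_validPerms.2 hκ
        have hlast := psum_last hmem
        rw [fixedPointCharacter, card_fixedBy_parabolic _ x
          (fun a => by rw [hps, psumE, ite_self, add_zero]; exact (psum_mono κ (Fin.le_last a)).trans hlast.le)
          (fun a b hab => by
            rw [hps, psumE, psumE, ite_self, ite_self, add_zero, add_zero]; exact psum_mono κ hab)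
          (by rw [hps, psumE, ite_self, add_zero, hlast]), hps]
        push_cast
        rfl
      · rw [if_neg (mt hcond.1 hκ), if_neg hκ, Int.cast_zero]
    rw [hchar, altSum_eq hss m 0 top hrk]
    -- all but the top
    have hsum := sum_wt_eq_zero hss top (fun h => by
      have := hrk; rw [h, finrank_bot] at this; omega)
    have hins : Finset.univ.filter (fun U : Inv f => U ≤ top) =
        insert top (Finset.univ.filter (fun U : Inv f => U ≤ top ∧ rk U ≤ m)) := by
      ext U
      simp only [Finset.mem_filter, Finset.mem_univ, true_and, Finset.mem_insert]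
      constructor
      · intro h
        rcases Nat.lt_or_ge m (rk U) with hd | hd
        · exact Or.inl (inv_eq_of_le h (show finrank F top.1 ≤ rk U by omega))
        · exact Or.inr ⟨h, hd⟩
      · rintro (rfl | ⟨h, -⟩)
        · exact le_rfl
        · exact h
    rw [hins, Finset.sum_insert (by
      simp only [Finset.mem_filter, Finset.mem_univ, true_and, not_and]
      intro _ h
      have : finrank F top.1 ≤ m := h
      omega)] at hsum
    rw [eq_neg_of_add_eq_zero_right hsum]
    -- the weight
    have hcp : cp top = (x : Matrix (Fin (m + 1)) (Fin (m + 1)) F).charpoly := by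
      let e : (top.1 : Submodule F (Fin (m + 1) → F)) ≃ₗ[F] (Fin (m + 1) → F) := Submodule.topEquiv
      have he : e.conj (f.restrict top.2) = f := by ext; rfl
      rw [cp, ← e.charpoly_conj, he, hf, Matrix.charpoly_toLin']
    set M := UniqueFactorizationMonoid.normalizedFactors
      (x : Matrix (Fin (m + 1)) (Fin (m + 1)) F).charpoly with hM
    have hfac : factors top = M := by
      rw [GLOrder.factors, hcp, hM]
      congr!
    have hdeg : ∑ g ∈ M.toFinset, g.natDegree * M.count g = m + 1 := by
      have hne : (x : Matrix (Fin (m + 1)) (Fin (m + 1)) F).charpoly ≠ 0 :=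
        (Matrix.charpoly_monic _).ne_zero
      have hmonic : ∀ g ∈ M, g.Monic := fun g hg => by
        have h1 := UniqueFactorizationMonoid.normalize_normalized_factor g hg
        exact h1 ▸ Polynomial.monic_normalize
          (UniqueFactorizationMonoid.irreducible_of_normalized_factor g hg).ne_zero
      have h := Polynomial.natDegree_eq_of_degree_eq
        (Polynomial.degree_eq_degree_of_associated (UniqueFactorizationMonoid.prod_normalizedFactors hne))
      rw [← hM, Polynomial.natDegree_multiset_prod_of_monic _ hmonic,
        Matrix.charpoly_natDegree_eq_dim, Fintype.card_fin, Finset.sum_multiset_map_count] at h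
      rw [← h]
      refine Finset.sum_congr rfl fun g _ => ?_
      rw [smul_eq_mul, mul_comm]
    rw [wt, hfac, wtM, Nat.card_eq_fintype_card, hq]
    push_cast
    rw [mul_neg, neg_eq_neg_one_mul, ← mul_assoc, ← pow_succ', ← hdeg, ← Finset.prod_pow_eq_pow_sum]
    refine Eq.trans (Eq.trans (by congr!) (Finset.prod_mul_distrib (s := M.toFinset)).symm) ?_
    refine Finset.prod_congr (by congr!) fun g hg => ?_
    have hgd : 1 ≤ g.natDegree :=
      (UniqueFactorizationMonoid.irreducible_of_normalized_factor g (Multiset.mem_toFinset.1 hg)).natDegree_pos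
    rw [← mul_assoc, ← pow_add, Nat.choose_two_right, ← Nat.mul_div_assoc _ (Nat.even_mul_pred_self _).two_dvd,
      ← mul_assoc g.natDegree]
    have hs : ∀ c : ℕ, (-1 : ℂ) ^ (g.natDegree * c + c) = (-1) ^ ((g.natDegree - 1) * c) := by
      intro c
      obtain ⟨d, hd⟩ : ∃ d, g.natDegree = d + 1 := ⟨g.natDegree - 1, by omega⟩
      rw [hd, Nat.add_sub_cancel, show (d + 1) * c + c = d * c + 2 * c by ring, pow_add,
        pow_mul (-1 : ℂ) 2, neg_one_sq, one_pow, mul_one]
    have h2 := congrArg (fun u : ℂ => u * (q : ℂ) ^ (g.natDegree * Multiset.count g M * (Multiset.count g M - 1) / 2)) (hs (Multiset.count g M))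
    convert h2 using 6
    all_goals congr!

end Cfsg.Agent.S2425
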