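import Cfsg.Statements.S2427
import Cfsg.Agent.EqLemmas

set_option autoImplicit false
open Cfsg

namespace Cfsg.Agent.S2427

local notation "G24" => Matrix.SpecialLinearGroup (Fin 2) (ZMod 3)

/-- The quaternion subgroup. -/
def Q8 : Subgroup G24 where
  carrier := {g | g ^ 4 = 1}
  one_mem' := one_pow 4
  mul_mem' := by
    have : ∀ a b : G24, a ^ 4 = 1 → b ^ 4 = 1 → (a * b) ^ 4 = 1 := by decide +kernel
    exact fun {a b} => this a b
  inv_mem' := fun {a} (h : a ^ 4 = 1) => show a⁻¹ ^ 4 = 1 by rw [inv_pow, h, inv_one]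

/-- The two generators. -/
def qi : G24 := ⟨!![0, 1; -1, 0], by decide +kernel⟩

/-- The two generators. -/
def qj : G24 := ⟨!![1, 1; 1, -1], by decide +kernel⟩

/-- The quaternion map. -/
def qmap : QuaternionGroup 2 → G24
  | .a k => qi ^ k.val
  | .xa k => qj * qi ^ k.val

theorem card_G24 : Nat.card G24 = 24 := by
  rw [Nat.card_eq_fintype_card]; decide +kernel

theorem comm_eq : commutator G24 = Q8 := by
  apply le_antisymm
  · rw [commutator_def, Subgroup.commutator_le]
    intro a _ b _
    have : ∀ a b : G24, (a * b * a⁻¹ * b⁻¹) ^ 4 = 1 := by decide +kernel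
    exact this a b
  · have : ∀ g : G24, g ^ 4 = 1 → ∃ a b : G24, g = a * b * a⁻¹ * b⁻¹ := by decide +kernel
    intro g hg
    obtain ⟨a, b, rfl⟩ := this g hg
    exact Subgroup.commutator_mem_commutator (Subgroup.mem_top a) (Subgroup.mem_top b)

theorem card_center : Nat.card (Subgroup.center G24) = 2 := by
  rw [Nat.card_congr (show Subgroup.center G24 ≃ {g : G24 // ∀ h : G24, h * g = g * h} from
    Equiv.subtypeEquivRight fun g => Subgroup.mem_center_iff), Nat.card_eq_fintype_card]
  decide +kernel

theorem quat_iso : Nonempty (commutator G24 ≃* QuaternionGroup 2) := by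
  have hom : ∀ x y : QuaternionGroup 2, qmap (x * y) = qmap x * qmap y := by decide +kernel
  have inj : Function.Injective qmap := by unfold Function.Injective; decide +kernel
  have hrange : ∀ g : G24, g ∈ Q8 ↔ ∃ x, qmap x = g := by
    have h1 : ∀ g : G24, g ^ 4 = 1 → ∃ x, qmap x = g := by decide +kernel
    have h2 : ∀ x, qmap x ^ 4 = 1 := by decide +kernel
    exact fun g => ⟨h1 g, by rintro ⟨x, rfl⟩; exact h2 x⟩
  let f : QuaternionGroup 2 →* G24 := MonoidHom.mk' qmap hom
  have e : f.range = commutator G24 := by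
    rw [comm_eq]; ext g; rw [hrange g]; exact Iff.rfl
  exact ⟨((MonoidHom.ofInjective (f := f) inj).trans (MulEquiv.subgroupCongr e)).symm⟩

/-- The group SL₂ over the field with 3 elements has order 24 and centre of order 2; its commutator subgroup has order 8, is isomorphic to the quaternion group of order 8 and is complemented by every Sylow 3-subgroup (so the group is a semidirect product of a quaternion group of order 8 by a cyclic group of order 3); and its only normal subgroups besides the trivial subgroup and the whole group are the centre and the commutator subgroup. -/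
theorem result :
    Nat.card (Matrix.SpecialLinearGroup (Fin 2) (ZMod 3)) = 24 ∧
    Nat.card (Subgroup.center (Matrix.SpecialLinearGroup (Fin 2) (ZMod 3))) = 2 ∧
    Nat.card (commutator (Matrix.SpecialLinearGroup (Fin 2) (ZMod 3))) = 8 ∧
    Nonempty (commutator (Matrix.SpecialLinearGroup (Fin 2) (ZMod 3)) ≃* QuaternionGroup 2) ∧
    (∀ P : Sylow 3 (Matrix.SpecialLinearGroup (Fin 2) (ZMod 3)),
      Subgroup.IsComplement' (commutator (Matrix.SpecialLinearGroup (Fin 2) (ZMod 3)))
        (P : Subgroup (Matrix.SpecialLinearGroup (Fin 2) (ZMod 3)))) ∧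
    ∀ N : Subgroup (Matrix.SpecialLinearGroup (Fin 2) (ZMod 3)), N.Normal →
      N = ⊥ ∨ N = ⊤ ∨ N = Subgroup.center (Matrix.SpecialLinearGroup (Fin 2) (ZMod 3)) ∨
        N = commutator (Matrix.SpecialLinearGroup (Fin 2) (ZMod 3)) := by
  have hQ : Nat.card (commutator (Matrix.SpecialLinearGroup (Fin 2) (ZMod 3))) = 8 := by
    obtain ⟨e⟩ := quat_iso
    rw [Nat.card_congr e.toEquiv, Nat.card_eq_fintype_card]
    rfl
  refine ⟨card_G24, card_center, hQ, quat_iso, fun P => ?_, fun N hN => ?_⟩
  · have : Fact (Nat.Prime 3) := ⟨Nat.prime_three⟩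
    have hP : Nat.card P = 3 := by
      rw [Sylow.card_eq_multiplicity, card_G24]
      decide +kernel
    refine Subgroup.isComplement'_of_coprime ?_ ?_
    · rw [hQ, hP, card_G24]
    · rw [hQ, hP]; decide
  · by_cases h1 : ∃ g ∈ N, g ^ 4 ≠ 1
    · obtain ⟨g, hg, hg4⟩ := h1
      right; left
      have hgen : ∀ g : Matrix.SpecialLinearGroup (Fin 2) (ZMod 3), g ^ 4 ≠ 1 → ∀ y,
          ∃ x : Matrix.SpecialLinearGroup (Fin 2) (ZMod 3), ∃ k : Fin 6,
            ∃ z : Matrix.SpecialLinearGroup (Fin 2) (ZMod 3),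
              g ^ k.val * (x * g * x⁻¹) * (z * g * z⁻¹) = y := by decide +kernel
      rw [eq_top_iff]
      intro y _
      obtain ⟨x, k, z, rfl⟩ := hgen g hg4 y
      exact mul_mem (mul_mem (pow_mem hg _) (hN.conj_mem g hg x)) (hN.conj_mem g hg z)
    · push Not at h1
      by_cases h2 : ∃ g ∈ N, g ^ 2 ≠ 1
      · obtain ⟨g, hg, hg2⟩ := h2
        right; right; right
        rw [comm_eq]
        refine le_antisymm h1 fun y hy => ?_
        have hgen : ∀ g : Matrix.SpecialLinearGroup (Fin 2) (ZMod 3), g ^ 4 = 1 → g ^ 2 ≠ 1 → ∀ y,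
            y ^ 4 = 1 → y = 1 ∨ y = g ^ 2 ∨ ∃ x : Matrix.SpecialLinearGroup (Fin 2) (ZMod 3),
              x * g * x⁻¹ = y := by decide +kernel
        rcases hgen g (h1 g hg) hg2 y hy with rfl | rfl | ⟨x, rfl⟩
        · exact one_mem _
        · exact pow_mem hg 2
        · exact hN.conj_mem g hg x
      · push Not at h2
        by_cases h3 : ∃ g ∈ N, g ≠ 1
        · obtain ⟨g, hg, hg1⟩ := h3
          right; right; left
          have hz : ∀ g : Matrix.SpecialLinearGroup (Fin 2) (ZMod 3), g ^ 2 = 1 →
              ∀ h, h * g = g * h := by decide +kernel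
          have hu : ∀ g : Matrix.SpecialLinearGroup (Fin 2) (ZMod 3), g ^ 2 = 1 → g ≠ 1 →
              ∀ y, (∀ h, h * y = y * h) → y = 1 ∨ y = g := by decide +kernel
          refine le_antisymm (fun y hy => Subgroup.mem_center_iff.2 (hz y (h2 y hy))) fun y hy => ?_
          rcases hu g (h2 g hg) hg1 y (Subgroup.mem_center_iff.1 hy) with rfl | rfl
          · exact one_mem _
          · exact hg
        · push Not at h3
          left
          rw [Subgroup.eq_bot_iff_forall]
          exact h3

end Cfsg.Agent.S2427
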