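import Cfsg.Statements.S2428
import Cfsg.Agent.Lib.GLOrder.TorusClasses

set_option autoImplicit false
open Cfsg

namespace Cfsg.Agent.S2428

open Cfsg.Agent

/-- Let F be a finite field with q elements, q odd, and let d be a diagonal element of SL₂ over F whose diagonal entry a has a² ≠ 1 (such d exist exactly when q > 3). Then the centraliser of d is precisely the diagonal subgroup T; the normaliser of T has order 2(q − 1) and exactly (q + 5)/2 conjugacy classes; and every element of that normaliser outside T has square equal to −1. -/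
theorem result {F : Type*} [Field F] [Fintype F] (hodd : Odd (Fintype.card F))
    (d : Matrix.SpecialLinearGroup (Fin 2) F) (hd01 : (d : Matrix (Fin 2) (Fin 2) F) 0 1 = 0) (hd10 : (d : Matrix (Fin 2) (Fin 2) F) 1 0 = 0) (hda : (d : Matrix (Fin 2) (Fin 2) F) 0 0 ^ 2 ≠ 1) :
    (∀ g : Matrix.SpecialLinearGroup (Fin 2) F, g ∈ Subgroup.centralizer ({d} : Set (Matrix.SpecialLinearGroup (Fin 2) F)) ↔ ((g : Matrix (Fin 2) (Fin 2) F) 0 1 = 0 ∧ (g : Matrix (Fin 2) (Fin 2) F) 1 0 = 0)) ∧
    Nat.card (Subgroup.normalizer ((Subgroup.centralizer ({d} : Set (Matrix.SpecialLinearGroup (Fin 2) F))) : Set (Matrix.SpecialLinearGroup (Fin 2) F))) = 2 * (Fintype.card F - 1) ∧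
    Nat.card (ConjClasses (Subgroup.normalizer ((Subgroup.centralizer ({d} : Set (Matrix.SpecialLinearGroup (Fin 2) F))) : Set (Matrix.SpecialLinearGroup (Fin 2) F)))) = (Fintype.card F + 5) / 2 ∧
    ∀ g : Matrix.SpecialLinearGroup (Fin 2) F, g ∈ Subgroup.normalizer ((Subgroup.centralizer ({d} : Set (Matrix.SpecialLinearGroup (Fin 2) F))) : Set (Matrix.SpecialLinearGroup (Fin 2) F)) →
      g ∉ Subgroup.centralizer ({d} : Set (Matrix.SpecialLinearGroup (Fin 2) F)) → ((g * g) : Matrix (Fin 2) (Fin 2) F) = -1 := by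
  classical
  rw [← Nat.card_eq_fintype_card (α := F)] at hodd ⊢
  have hcast : ((Nat.card F : ℕ) : F) = 0 := by
    rw [Nat.card_eq_fintype_card, FiniteField.cast_card_eq_zero]
  have h2 : (2 : F) ≠ 0 := by
    intro h2
    obtain ⟨m, hm⟩ := hodd
    rw [hm] at hcast
    push_cast at hcast
    rw [h2, zero_mul, zero_add] at hcast
    exact one_ne_zero hcast
  have hdd : (d : Matrix (Fin 2) (Fin 2) F) 0 0 * (d : Matrix (Fin 2) (Fin 2) F) 1 1 = 1 := by
    have h := PSL2.det_eq d
    rw [hd01, zero_mul, sub_zero] at h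
    exact h
  have hne : (d : Matrix (Fin 2) (Fin 2) F) 0 0 - (d : Matrix (Fin 2) (Fin 2) F) 1 1 ≠ 0 := fun h =>
    hda (by linear_combination (d : Matrix (Fin 2) (Fin 2) F) 0 0 * h + hdd)
  have hcent : ∀ g : Matrix.SpecialLinearGroup (Fin 2) F,
      g ∈ Subgroup.centralizer ({d} : Set (Matrix.SpecialLinearGroup (Fin 2) F)) ↔
        ((g : Matrix (Fin 2) (Fin 2) F) 0 1 = 0 ∧ (g : Matrix (Fin 2) (Fin 2) F) 1 0 = 0) := by
    intro g
    rw [GLOrder.mem_centralizer_singleton]
    constructor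
    · intro h
      have e := congrArg Subtype.val h.eq
      have e01 := congrFun (congrFun e 0) 1
      have e10 := congrFun (congrFun e 1) 0
      simp [Matrix.mul_apply, Fin.sum_univ_two, hd01, hd10] at e01 e10
      exact ⟨(mul_eq_zero.1 (show ((d : Matrix (Fin 2) (Fin 2) F) 0 0 -
          (d : Matrix (Fin 2) (Fin 2) F) 1 1) * (g : Matrix (Fin 2) (Fin 2) F) 0 1 = 0 by
          linear_combination -e01)).resolve_left hne,
        (mul_eq_zero.1 (show ((d : Matrix (Fin 2) (Fin 2) F) 0 0 -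
          (d : Matrix (Fin 2) (Fin 2) F) 1 1) * (g : Matrix (Fin 2) (Fin 2) F) 1 0 = 0 by
          linear_combination e10)).resolve_left hne⟩
    · rintro ⟨h01, h10⟩
      refine Subtype.ext ?_
      ext i j
      fin_cases i <;> fin_cases j <;>
        simp [Matrix.mul_apply, Fin.sum_univ_two, hd01, hd10, h01, h10, mul_comm]
  have hq1 := GLOrder.one_lt_card_field (F := F)
  have h3 : 3 ≤ Nat.card F - 1 := by
    by_contra h
    have hq : Nat.card F = 3 := by
      obtain ⟨m, hm⟩ := hodd
      omega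
    have hp := FiniteField.pow_card_sub_one_eq_one _ (left_ne_zero_of_mul_eq_one hdd)
    rw [← Nat.card_eq_fintype_card, hq] at hp
    exact hda hp
  obtain ⟨u, hu⟩ := IsCyclic.exists_ofOrder_eq_natCard (α := Fˣ)
  have hT : Subgroup.centralizer ({d} : Set (Matrix.SpecialLinearGroup (Fin 2) F)) =
      Subgroup.zpowers (GLOrder.diagS F u) := by
    ext g
    rw [hcent]
    constructor
    · rintro ⟨h01, h10⟩
      have hg := PSL2.det_eq g
      rw [h01, zero_mul, sub_zero] at hg
      obtain ⟨j, hj⟩ : Units.mk0 _ (left_ne_zero_of_mul_eq_one hg) ∈ Subgroup.zpowers u := by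
        rw [Subgroup.eq_top_of_card_eq (Subgroup.zpowers u) (by rw [Nat.card_zpowers, hu])]
        trivial
      refine ⟨j, ?_⟩
      show (GLOrder.diagS F u) ^ j = g
      rw [← map_zpow, show u ^ j = Units.mk0 _ (left_ne_zero_of_mul_eq_one hg) from hj]
      ext i k
      fin_cases i <;> fin_cases k <;> simp [GLOrder.diagS_apply, h01, h10]
      exact (eq_inv_of_mul_eq_one_right hg).symm
    · rintro ⟨j, rfl⟩
      show (((GLOrder.diagS F u) ^ j).1 0 1 = 0 ∧ ((GLOrder.diagS F u) ^ j).1 1 0 = 0)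
      rw [← map_zpow]
      exact ⟨rfl, rfl⟩
  obtain ⟨t, ht, hC⟩ : ∃ t : Matrix.SpecialLinearGroup (Fin 2) F, orderOf t = Nat.card F - 1 ∧
      Subgroup.centralizer ({t} : Set (Matrix.SpecialLinearGroup (Fin 2) F)) = Subgroup.zpowers t ∧
      Subgroup.centralizer ({d} : Set (Matrix.SpecialLinearGroup (Fin 2) F)) = Subgroup.zpowers t := by
    refine ⟨GLOrder.diagS F u, by
      rw [orderOf_injective _ GLOrder.diagS_injective, hu, GLOrder.card_units], ?_, hT⟩
    rw [← hT]
    ext g
    rw [hcent, GLOrder.mem_centralizer_singleton]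
    have hu' : (u : F) - (u : F)⁻¹ ≠ 0 := by
      intro h
      have h' : u ^ 2 = 1 := (S2437.sq_ne_iff u).2 (sub_eq_zero.1 h)
      have := Nat.le_of_dvd two_pos (orderOf_dvd_of_pow_eq_one h')
      rw [hu, GLOrder.card_units] at this
      omega
    constructor
    · intro h
      have e := congrArg Subtype.val h.eq
      have e01 := congrFun (congrFun e 0) 1
      have e10 := congrFun (congrFun e 1) 0
      simp [Matrix.mul_apply, Fin.sum_univ_two, GLOrder.diagS_apply] at e01 e10
      exact ⟨(mul_eq_zero.1 (show ((u : F) - (u : F)⁻¹) * (g : Matrix (Fin 2) (Fin 2) F) 0 1 = 0 by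
          linear_combination -e01)).resolve_left hu',
        (mul_eq_zero.1 (show ((u : F) - (u : F)⁻¹) * (g : Matrix (Fin 2) (Fin 2) F) 1 0 = 0 by
          linear_combination e10)).resolve_left hu'⟩
    · rintro ⟨h01, h10⟩
      refine Subtype.ext ?_
      ext i j
      fin_cases i <;> fin_cases j <;>
        simp [Matrix.mul_apply, Fin.sum_univ_two, GLOrder.diagS_apply, h01, h10, mul_comm]
  obtain ⟨hC, hdT⟩ := hC
  have he : Even (Nat.card F - 1) := Nat.Odd.sub_odd hodd odd_one
  have hd0 : ((Nat.card F - 1 : ℕ) : F) ≠ 0 := by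
    rw [Nat.cast_sub (by omega), hcast]
    simp
  obtain ⟨-, -, h3', h4, h5⟩ := GLOrder.torus_structure h2 hd0 he (by omega) ht hC
  refine ⟨hcent, ?_, ?_, ?_⟩
  · rw [hdT, h3']
  · rw [hdT, h4, show Nat.card F - 1 + 6 = Nat.card F + 5 by omega]
  · intro g hg hg'
    rw [hdT] at hg hg'
    rw [← Matrix.SpecialLinearGroup.coe_mul, h5 g hg hg']
    simp

end Cfsg.Agent.S2428
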