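import Cfsg.Statements.S2429
import Cfsg.Agent.Lib.GLOrder.TorusClasses

set_option autoImplicit false
open Cfsg

namespace Cfsg.Agent.S2429

open Cfsg.Agent

/-- Let F be a finite field with q elements, q odd. Then SL₂ over F contains a cyclic subgroup T′ of order q + 1 (a non-split torus) with the following properties: T′ is its own centraliser, and indeed the centraliser of each element of T′ other than 1 and −1 is exactly T′; every element of SL₂ having no eigenvector in F² is conjugate to an element of T′; the normaliser of T′ has order 2(q + 1) and exactly (q + 7)/2 conjugacy classes; and every element of that normaliser outside T′ has square −1. -/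
theorem result {F : Type*} [Field F] [Fintype F] (hodd : Odd (Fintype.card F)) :
    ∃ T' : Subgroup (Matrix.SpecialLinearGroup (Fin 2) F), IsCyclic T' ∧ Nat.card T' = Fintype.card F + 1 ∧
      Subgroup.centralizer ((T' : Set (Matrix.SpecialLinearGroup (Fin 2) F))) = T' ∧
      (∀ g : Matrix.SpecialLinearGroup (Fin 2) F, g ∈ T' → (g : Matrix (Fin 2) (Fin 2) F) ≠ 1 → (g : Matrix (Fin 2) (Fin 2) F) ≠ -1 → Subgroup.centralizer ({g} : Set (Matrix.SpecialLinearGroup (Fin 2) F)) = T') ∧
      (∀ g : Matrix.SpecialLinearGroup (Fin 2) F, (∀ (c : F) (v : Fin 2 → F), v ≠ 0 → (g : Matrix (Fin 2) (Fin 2) F).mulVec v ≠ c • v) → ∃ h : Matrix.SpecialLinearGroup (Fin 2) F, h * g * h⁻¹ ∈ T') ∧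
      Nat.card (Subgroup.normalizer (T' : Set (Matrix.SpecialLinearGroup (Fin 2) F))) = 2 * (Fintype.card F + 1) ∧
      Nat.card (ConjClasses (Subgroup.normalizer (T' : Set (Matrix.SpecialLinearGroup (Fin 2) F)))) = (Fintype.card F + 7) / 2 ∧
      ∀ g : Matrix.SpecialLinearGroup (Fin 2) F, g ∈ Subgroup.normalizer (T' : Set (Matrix.SpecialLinearGroup (Fin 2) F)) → g ∉ T' → ((g * g) : Matrix (Fin 2) (Fin 2) F) = -1 := by
  classical
  rw [← Nat.card_eq_fintype_card (α := F)] at hodd ⊢
  have hcast : ((Nat.card F : ℕ) : F) = 0 := by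
    rw [Nat.card_eq_fintype_card, FiniteField.cast_card_eq_zero]
  have h2 : (2 : F) ≠ 0 := by
    intro h2
    obtain ⟨m, hm⟩ := hodd
    rw [hm] at hcast
    push_cast at hcast
    rw [h2, zero_mul, zero_add] at hcast
    exact one_ne_zero hcast
  have hq1 := GLOrder.one_lt_card_field (F := F)
  have he : Even (Nat.card F + 1) := Nat.even_add_one.2 (Nat.not_even_iff_odd.2 hodd)
  have hd0 : ((Nat.card F + 1 : ℕ) : F) ≠ 0 := by
    push_cast
    rw [hcast]
    simp
  obtain ⟨t, ht, hC⟩ := GLOrder.exists_nonsplit_torus h2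
  obtain ⟨h1, h2', h3, h4, h5⟩ := GLOrder.torus_structure h2 hd0 he (by omega) ht hC
  refine ⟨Subgroup.zpowers t, inferInstance, by rw [Nat.card_zpowers, ht], h2', ?_, ?_, h3, ?_, ?_⟩
  · intro g hg hg1 hg2
    refine h1 g hg fun hc => ?_
    rcases GLOrder.center_SL2.1 hc with rfl | rfl
    · exact hg1 rfl
    · exact hg2 (by simp)
  · intro g hg
    rcases GLOrder.exists_trace_eq h2 ht he hC (PSL2.tr g) with ⟨l, hl⟩ | ⟨x, hx, htr, hne⟩
    · exfalso
      have hdet : ((g : Matrix (Fin 2) (Fin 2) F) - l • (1 : Matrix (Fin 2) (Fin 2) F)).det = 0 := by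
        have hd := PSL2.det_eq g
        unfold PSL2.tr at hl
        simp [Matrix.det_fin_two]
        linear_combination hl + hd
      obtain ⟨v, hv, hv'⟩ := Matrix.exists_mulVec_eq_zero_iff.2 hdet
      refine hg l v hv ?_
      rw [Matrix.sub_mulVec, Matrix.smul_mulVec, Matrix.one_mulVec, sub_eq_zero] at hv'
      exact hv'
    · obtain ⟨h, hh⟩ := isConj_iff.1 (GLOrder.isConj_of_trace_odd h2 htr.symm hne)
      exact ⟨h, hh ▸ hx⟩
  · rw [h4]
  · intro g hg hg'
    rw [← Matrix.SpecialLinearGroup.coe_mul, h5 g hg hg']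
    simp

end Cfsg.Agent.S2429
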