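import Cfsg.Statements.S2430
import Cfsg.Agent.EqLemmas
import Cfsg.Agent.Lib.GLOrder.TorusNormalizer

set_option autoImplicit false
open Cfsg

namespace Cfsg.Agent.S2430

open Cfsg.Agent

/-- Let F be a finite field with q elements, q odd, ℓ an odd prime, and P a Sylow ℓ-subgroup of SL₂ over F. If ℓ divides q − 1, the centraliser of P is cyclic of order q − 1 (a split torus) and the normaliser of P has order 2(q − 1); if ℓ divides q + 1, the centraliser of P is cyclic of order q + 1 (a non-split torus) and the normaliser of P has order 2(q + 1). -/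
theorem result {F : Type*} [Field F] [Fintype F] (hodd : Odd (Fintype.card F)) (ℓ : ℕ) [Fact ℓ.Prime] (hℓ : ℓ ≠ 2)
    (P : Sylow ℓ (Matrix.SpecialLinearGroup (Fin 2) F)) :
    (ℓ ∣ Fintype.card F - 1 →
      Nat.card (Subgroup.centralizer ((P : Subgroup (Matrix.SpecialLinearGroup (Fin 2) F)) : Set (Matrix.SpecialLinearGroup (Fin 2) F))) = Fintype.card F - 1 ∧
      IsCyclic (Subgroup.centralizer ((P : Subgroup (Matrix.SpecialLinearGroup (Fin 2) F)) : Set (Matrix.SpecialLinearGroup (Fin 2) F))) ∧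
      Nat.card (Subgroup.normalizer ((P : Subgroup (Matrix.SpecialLinearGroup (Fin 2) F)) : Set (Matrix.SpecialLinearGroup (Fin 2) F))) = 2 * (Fintype.card F - 1)) ∧
    (ℓ ∣ Fintype.card F + 1 →
      Nat.card (Subgroup.centralizer ((P : Subgroup (Matrix.SpecialLinearGroup (Fin 2) F)) : Set (Matrix.SpecialLinearGroup (Fin 2) F))) = Fintype.card F + 1 ∧
      IsCyclic (Subgroup.centralizer ((P : Subgroup (Matrix.SpecialLinearGroup (Fin 2) F)) : Set (Matrix.SpecialLinearGroup (Fin 2) F))) ∧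
      Nat.card (Subgroup.normalizer ((P : Subgroup (Matrix.SpecialLinearGroup (Fin 2) F)) : Set (Matrix.SpecialLinearGroup (Fin 2) F))) = 2 * (Fintype.card F + 1)) := by
  have hl : ℓ.Prime := Fact.out
  obtain ⟨p, hp⟩ := CharP.exists F
  haveI : Fact p.Prime := ⟨CharP.char_prime_of_ne_zero F (CharP.char_ne_zero_of_finite F p)⟩
  obtain ⟨f, hf, hq⟩ := GLOrder.exists_card_eq_pow (F := F) p
  rw [← Nat.card_eq_fintype_card (α := F)] at hodd ⊢
  have hq1 := GLOrder.one_lt_card_field (F := F)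
  have hcast : ((Nat.card F : ℕ) : F) = 0 := by
    rw [Nat.card_eq_fintype_card, FiniteField.cast_card_eq_zero]
  have h2 : (2 : F) ≠ 0 := by
    intro h2
    obtain ⟨m, hm⟩ := hodd
    rw [hm] at hcast
    push_cast at hcast
    rw [h2, zero_mul, zero_add] at hcast
    exact one_ne_zero hcast
  have main : ∀ d : ℕ, ℓ ∣ d →
      (d = Nat.card F - 1 ∨ d = Nat.card F + 1) →
      ℓ ^ (Nat.card (Matrix.SpecialLinearGroup (Fin 2) F)).factorization ℓ ∣ d := by
    intro d hld hd
    have hdd : (d = Nat.card F - 1 ∧ ¬ ℓ ∣ Nat.card F + 1) ∨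
        (d = Nat.card F + 1 ∧ ¬ ℓ ∣ Nat.card F - 1) := by
      rcases hd with rfl | rfl
      · refine Or.inl ⟨rfl, fun h => hℓ ?_⟩
        have h' := Nat.dvd_sub h hld
        rw [show Nat.card F + 1 - (Nat.card F - 1) = 2 by omega] at h'
        exact (Nat.prime_dvd_prime_iff_eq hl Nat.prime_two).1 h'
      · refine Or.inr ⟨rfl, fun h => hℓ ?_⟩
        have h' := Nat.dvd_sub hld h
        rw [show Nat.card F + 1 - (Nat.card F - 1) = 2 by omega] at h'
        exact (Nat.prime_dvd_prime_iff_eq hl Nat.prime_two).1 h'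
    have hnq : ¬ ℓ ∣ Nat.card F := by
      intro h
      rcases hd with rfl | rfl
      · have := Nat.dvd_sub h hld
        rw [show Nat.card F - (Nat.card F - 1) = 1 by omega] at this
        exact hl.not_dvd_one this
      · exact hl.not_dvd_one ((Nat.dvd_add_right h).1 hld)
    set k := (Nat.card (Matrix.SpecialLinearGroup (Fin 2) F)).factorization ℓ
    have h : ℓ ^ k ∣ Nat.card (Matrix.SpecialLinearGroup (Fin 2) F) := Nat.ordProj_dvd _ _
    rw [GLOrder.card_SL_two', mul_assoc] at h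
    replace h := (Nat.Coprime.pow_left k ((hl.coprime_iff_not_dvd).2 hnq)).dvd_of_dvd_mul_left h
    rcases hdd with ⟨rfl, hn⟩ | ⟨rfl, hn⟩
    · exact (Nat.Coprime.pow_left k ((hl.coprime_iff_not_dvd).2 hn)).dvd_of_dvd_mul_left h
    · exact (Nat.Coprime.pow_left k ((hl.coprime_iff_not_dvd).2 hn)).dvd_of_dvd_mul_right h
  obtain ⟨m, hm⟩ := hodd
  refine ⟨fun hd => ?_, fun hd => ?_⟩
  · have h3 : 3 ≤ Nat.card F - 1 := by
      have h1 := Nat.le_of_dvd (by omega) hd
      have h2 := hl.two_le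
      omega
    obtain ⟨t, ht, hC⟩ := GLOrder.exists_split_torus h3
    refine GLOrder.torus_sylow h2 ℓ hℓ ?_ ⟨m, by omega⟩ ht hC hd (main _ hd (Or.inl rfl)) P
    rw [Nat.cast_sub (by omega), hcast]
    simp
  · obtain ⟨t, ht, hC⟩ := GLOrder.exists_nonsplit_torus h2
    refine GLOrder.torus_sylow h2 ℓ hℓ ?_ ⟨m + 1, by omega⟩ ht hC hd (main _ hd (Or.inr rfl)) P
    push_cast
    rw [hcast]
    simp

end Cfsg.Agent.S2430
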