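import Cfsg.Statements.S2434
import Cfsg.Agent.Lib.SL2Cusp.Apps

set_option autoImplicit false
open Cfsg

namespace Cfsg.Agent.S2434

open Cfsg.Agent GLTwoChar SL2Cusp
open scoped MatrixGroups

/-- Let F be a finite field with q elements, q odd, and C a cyclic subgroup of order q + 1 of SL₂ over F (a non-split torus; it contains the centre). For every homomorphism θ from C to the non-zero complex numbers with θ² ≠ 1 there is an irreducible complex character χ of degree q − 1 such that χ(c) = −θ(c) − θ(c)⁻¹ for every non-central c in C, χ(zg) = θ(z)χ(g) for central z in C, χ vanishes at diagonal elements with entry a, a² ≠ 1, and χ takes the value −1 at every upper unitriangular element other than 1. Conversely every irreducible character of degree q − 1 has, for some such θ, the values −θ(c) − θ(c)⁻¹ at the non-central elements c of C (for q ≥ 5 these are exactly the cuspidal characters of degree q − 1). -/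
theorem result {F : Type*} [Field F] [Fintype F] (hodd : Odd (Fintype.card F))
    (C : Subgroup (Matrix.SpecialLinearGroup (Fin 2) F)) (hC : IsCyclic C) (hcard : Nat.card C = Fintype.card F + 1) :
    (∀ θ : C →* ℂˣ, (∃ c : C, θ c ^ 2 ≠ 1) →
      ∃ χ : Matrix.SpecialLinearGroup (Fin 2) F → ℂ, Cfsg.IsIrrCharacter (Matrix.SpecialLinearGroup (Fin 2) F) χ ∧ χ 1 = (Fintype.card F : ℂ) - 1 ∧
        (∀ c : C, (c : Matrix.SpecialLinearGroup (Fin 2) F) ∉ Subgroup.center (Matrix.SpecialLinearGroup (Fin 2) F) → χ c = -((θ c).val + (θ c)⁻¹.val)) ∧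
        (∀ c : C, (c : Matrix.SpecialLinearGroup (Fin 2) F) ∈ Subgroup.center (Matrix.SpecialLinearGroup (Fin 2) F) → ∀ g : Matrix.SpecialLinearGroup (Fin 2) F, χ ((c : Matrix.SpecialLinearGroup (Fin 2) F) * g) = (θ c).val * χ g) ∧
        (∀ g : Matrix.SpecialLinearGroup (Fin 2) F, (g : Matrix (Fin 2) (Fin 2) F) 0 1 = 0 → (g : Matrix (Fin 2) (Fin 2) F) 1 0 = 0 → (g : Matrix (Fin 2) (Fin 2) F) 0 0 ^ 2 ≠ 1 → χ g = 0) ∧
        (∀ g : Matrix.SpecialLinearGroup (Fin 2) F, (g : Matrix (Fin 2) (Fin 2) F) 1 0 = 0 → (g : Matrix (Fin 2) (Fin 2) F) 0 0 = 1 → (g : Matrix (Fin 2) (Fin 2) F) 1 1 = 1 → (g : Matrix (Fin 2) (Fin 2) F) 0 1 ≠ 0 → χ g = -1)) ∧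
    (∀ χ : Matrix.SpecialLinearGroup (Fin 2) F → ℂ, Cfsg.IsIrrCharacter (Matrix.SpecialLinearGroup (Fin 2) F) χ → χ 1 = (Fintype.card F : ℂ) - 1 →
      ∃ θ : C →* ℂˣ, (∃ c : C, θ c ^ 2 ≠ 1) ∧
        ∀ c : C, (c : Matrix.SpecialLinearGroup (Fin 2) F) ∉ Subgroup.center (Matrix.SpecialLinearGroup (Fin 2) F) → χ c = -((θ c).val + (θ c)⁻¹.val)) := by
  classical
  have h2 := two_ne_zero_of_odd hodd
  have hT : IsTorus C := ⟨hC, hcard⟩
  constructor
  · intro θ hθ
    obtain ⟨χ, hχ, hv, hval⟩ := exists_disc hT hodd θ hθ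
    refine ⟨χ, hχ, hv.one, fun c hc => ?_, fun c hc g => ?_, fun g h01 h10 hne => ?_, fun g h10 h00 h11 h01 => ?_⟩
    · rw [hval c hc, th_apply, Units.val_inv_eq_inv_val]
    · rcases (not_mem_center_iff _).1 hc with h | h
      · obtain rfl : c = 1 := Subtype.ext h
        rw [map_one, Units.val_one, one_mul, h, one_mul]
      · obtain rfl : c = negC hT hodd := Subtype.ext h
        obtain ⟨k, -, hk⟩ := neg_apply hχ
        have h1 := hk 1
        rw [hv.negOne, hv.one] at h1
        have hq : (Fintype.card F : ℂ) - 1 ≠ 0 :=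
          sub_ne_zero.2 (by exact_mod_cast (Fintype.one_lt_card (α := F)).ne')
        rw [coe_negC, neg_one_mul, hk, ← mul_right_cancel₀ hq h1]
        rfl
    · have hdet := PSL2.det_eq g
      rw [h01, zero_mul, sub_zero] at hdet
      obtain ⟨a, rfl⟩ : ∃ a : Fˣ, g = dg a := ⟨Units.mk0 _ (left_ne_zero_of_mul_eq_one hdet), by
        ext i k
        fin_cases i <;> fin_cases k <;> simp [dg, GLOrder.diagS_apply, h01, h10]
        exact eq_inv_of_mul_eq_one_right hdet⟩
      exact hv.diag a fun h => hne (by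
        show (a : F) ^ 2 = 1
        rw [← Units.val_pow_eq_pow_val, h, Units.val_one])
    · rw [eq_uSL h00 h11 h10]
      exact hv.unip _ h01
  · intro χ hχ hd
    have hcr : ringChar F ≠ 2 := fun hc => h2 (by
      haveI := ringChar.of_eq hc
      exact CharTwo.two_eq_zero)
    obtain ⟨e, he⟩ := FiniteField.exists_nonsquare hcr
    have hq := Fintype.one_lt_card (α := F)
    have hnat : ∀ a : ℕ, a ≤ 2 → (Fintype.card F : ℂ) ≠ a := fun a ha h => by
      have : Fintype.card F = a := by exact_mod_cast h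
      obtain ⟨m, hm⟩ := hodd
      omega
    rcases kinds he hχ with rfl | rfl | ⟨γ, -, rfl⟩ | ⟨γ, θ, -, -, hs, hor⟩ | ⟨ψ, hψ, hc, rfl⟩ | ⟨ψ, θ, hψ, hc, hs, hor⟩
    · exfalso
      rw [Pi.one_apply] at hd
      exact hnat 2 le_rfl (by push_cast; linear_combination -hd)
    · exfalso
      rw [stS_one] at hd
      exact one_ne_zero (α := ℂ) (by linear_combination hd)
    · exfalso
      rw [psS_one] at hd
      exact two_ne_zero (α := ℂ) (by linear_combination hd)
    · -- only possible for three elements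
      have h := half_one hs hor
      rw [psS_one, hd] at h
      have h3 : Fintype.card F = 3 := by
        have : (Fintype.card F : ℂ) = (3 : ℕ) := by push_cast; linear_combination h
        exact_mod_cast this
      obtain ⟨t, hCt, ht, -⟩ := hT.exists_gen hodd
      rw [Nat.card_eq_fintype_card, h3] at ht
      obtain ⟨u, hu⟩ := IsCyclic.exists_ofOrder_eq_natCard (α := C)
      rw [hcard, h3] at hu
      obtain ⟨θ', hθ'⟩ : ∃ θ' : C →* ℂˣ, θ' u ^ 2 = -1 := by
        refine ⟨monoidHomOfForallMemZpowers (g := u) (g' := Units.mk0 Complex.I Complex.I_ne_zero) ?_ ?_, ?_⟩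
        · intro x
          rw [Subgroup.eq_top_of_card_eq (Subgroup.zpowers u) (by rw [Nat.card_zpowers, hu, hcard, h3])]
          trivial
        · rw [hu, orderOf_dvd_iff_pow_eq_one]
          refine Units.ext ?_
          simp [Complex.I_pow_four]
        · rw [monoidHomOfForallMemZpowers_apply_gen]
          refine Units.ext ?_
          simp [Complex.I_sq]
      refine ⟨θ', ⟨u, fun h => ?_⟩, fun c hcz => ?_⟩
      · rw [hθ', Units.ext_iff, Units.val_neg, Units.val_one] at h
        exact two_ne_zero (α := ℂ) (by linear_combination -h)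
      · have h4 := hT.tr_sq_ne hodd c.2 hcz
        have hval := half_apply_semisimple hodd hs hor h4
        rw [psS_ell _ (isEll_of_no_root (hT.no_root hodd c.2 hcz))] at hval
        obtain ⟨i, hi⟩ := Subgroup.mem_zpowers_iff.1 (show c ∈ Subgroup.zpowers u by
          rw [Subgroup.eq_top_of_card_eq (Subgroup.zpowers u) (by rw [Nat.card_zpowers, hu, hcard, h3])]
          trivial)
        have hodd_i : Odd i := by
          rw [← Int.not_even_iff_odd]
          rintro ⟨j, rfl⟩
          have hu2 : ((u : Matrix.SpecialLinearGroup (Fin 2) F) ^ (2 : ℕ)) ∈ Subgroup.center (Matrix.SpecialLinearGroup (Fin 2) F) := by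
            refine GLOrder.center_SL2.2 (GLOrder.eq_one_or_neg_one_of_sq h2 ?_)
            rw [← pow_add, ← Subgroup.coe_pow, show 2 + 2 = orderOf u by rw [hu], pow_orderOf_eq_one]
            rfl
          refine hcz ?_
          rw [← hi, Subgroup.coe_zpow, show j + j = (2 : ℕ) * j by push_cast; ring, zpow_mul, zpow_natCast]
          exact Subgroup.zpow_mem _ hu2 j
        have hsq : (θ' c : ℂ) ^ 2 = -1 := by
          rw [← Units.val_pow_eq_pow_val, ← hi, map_zpow, ← zpow_natCast (θ' u ^ i), ← zpow_mul, mul_comm,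
            zpow_mul, zpow_natCast, hθ', hodd_i.neg_one_zpow, Units.val_neg, Units.val_one]
        rw [Units.val_inv_eq_inv_val]
        have hne := (θ' c).ne_zero
        have h0 : χ c = 0 := (mul_eq_zero.1 hval).resolve_left two_ne_zero
        rw [h0]
        field_simp
        linear_combination hsq
    · obtain ⟨ε, hv, -⟩ := res_cuspVals hψ hc
      have hne : ∀ η : Matrix.SpecialLinearGroup (Fin 2) F → ℂ, IsIrrCharacter _ η → res ψ ≠ η → classInner (res ψ) η = 0 :=
        fun η hη h => Char.classInner_irr_of_ne hχ hη h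
      by_cases hex : ∃ θ : C →* ℂˣ, (∃ c, θ c ^ 2 ≠ 1) ∧
          ∀ c : C, (c : Matrix.SpecialLinearGroup (Fin 2) F) ∉ Subgroup.center (Matrix.SpecialLinearGroup (Fin 2) F) → res ψ c = -(th θ c + (th θ c)⁻¹)
      · obtain ⟨θ, hθ, hval⟩ := hex
        exact ⟨θ, hθ, fun c hcz => by rw [hval c hcz, th_apply, Units.val_inv_eq_inv_val]⟩
      · exfalso
        have h1 : res ψ ≠ 1 := fun h => by
          rw [h, Pi.one_apply] at hd
          exact hnat 2 le_rfl (by push_cast; linear_combination -hd)
        have hst : res ψ ≠ stS F := fun h => by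
          rw [h, stS_one] at hd
          exact one_ne_zero (α := ℂ) (by linear_combination hd)
        -- orthogonal to every `π_θ`
        have hdisc' : ∀ θ : C →* ℂˣ, (∃ c, θ c ^ 2 ≠ 1) → ∀ π, IsIrrCharacter (Matrix.SpecialLinearGroup (Fin 2) F) π →
            (∀ c : C, (c : Matrix.SpecialLinearGroup (Fin 2) F) ∉ Subgroup.center (Matrix.SpecialLinearGroup (Fin 2) F) → π c = -(th θ c + (th θ c)⁻¹)) →
            res ψ ≠ π := fun θ hθ π _ hπ h => hex ⟨θ, hθ, fun c hc' => h ▸ hπ c hc'⟩
        obtain ⟨-, hval⟩ := cusp_dichotomy' hT hodd hv (fun θ hθ π hπ hπv _ => hne π hπ (hdisc' θ hθ π hπ hπv))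
          (hne 1 Char.isIrrCharacter_one h1) (hne _ stS_irr hst)
        have hnorm := inner_cuspVals hodd hT hv hv
        rw [Char.classInner_irr_self hχ, Finset.sum_congr rfl (fun (c : C) hc' => show res ψ (c : Matrix.SpecialLinearGroup (Fin 2) F) * starRingEnd ℂ (res ψ (c : Matrix.SpecialLinearGroup (Fin 2) F)) = 4 by
          rw [hval c (Finset.mem_filter.1 hc').2, map_mul, conj_th, map_neg, map_ofNat]
          have := th_ne_zero (sgn hT hodd) c
          field_simp
          ring), sum_noncentral hT hodd, Finset.sum_const, Finset.card_univ, ← Nat.card_eq_fintype_card (α := C), hcard,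
          nsmul_eq_mul, show ε * ε = 1 by rcases hv.sign with h | h <;> rw [h] <;> ring] at hnorm
        push_cast at hnorm
        exact hnat 0 (by norm_num) (by
          have : (Fintype.card F : ℂ) + 1 = 0 := by linear_combination -hnorm / 2
          exact absurd this (Nat.cast_add_one_ne_zero _))
    · exfalso
      have h := half_one hs hor
      rw [res_cusp_one hψ hc, hd] at h
      exact hnat 1 (by norm_num) (by push_cast; linear_combination h)

end Cfsg.Agent.S2434
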