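import Cfsg.Statements.S2435
import Cfsg.Agent.Lib.SL2Cusp.Apps

set_option autoImplicit false
open Cfsg

namespace Cfsg.Agent.S2435

open Cfsg.Agent GLTwoChar SL2Cusp
open scoped MatrixGroups

/-- Let F be a finite field with q elements, q odd and q ≥ 5, and χ an irreducible complex character of SL₂ over F. If χ has degree (q + 1)/2, then at a diagonal element with entry a, a² ≠ 1, χ takes the value 1 when a is a square in F and −1 otherwise. If χ has degree (q − 1)/2, then at an element g with no eigenvector in F² (so g has order dividing q + 1), χ takes the value −1 when g raised to the power (q + 1)/2 is the identity and the value 1 otherwise. -/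
theorem result {F : Type*} [Field F] [Fintype F] (hodd : Odd (Fintype.card F)) (hq : 5 ≤ Fintype.card F)
    (χ : Matrix.SpecialLinearGroup (Fin 2) F → ℂ) (hχ : Cfsg.IsIrrCharacter (Matrix.SpecialLinearGroup (Fin 2) F) χ) (g : Matrix.SpecialLinearGroup (Fin 2) F) :
    (χ 1 = (((Fintype.card F + 1) / 2 : ℕ) : ℂ) → (g : Matrix (Fin 2) (Fin 2) F) 0 1 = 0 → (g : Matrix (Fin 2) (Fin 2) F) 1 0 = 0 → (g : Matrix (Fin 2) (Fin 2) F) 0 0 ^ 2 ≠ 1 →
      (IsSquare ((g : Matrix (Fin 2) (Fin 2) F) 0 0) → χ g = 1) ∧ (¬ IsSquare ((g : Matrix (Fin 2) (Fin 2) F) 0 0) → χ g = -1)) ∧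
    (χ 1 = (((Fintype.card F - 1) / 2 : ℕ) : ℂ) → (∀ (c : F) (v : Fin 2 → F), v ≠ 0 → (g : Matrix (Fin 2) (Fin 2) F).mulVec v ≠ c • v) →
      (((g ^ ((Fintype.card F + 1) / 2)) : Matrix (Fin 2) (Fin 2) F) = 1 → χ g = -1) ∧ (((g ^ ((Fintype.card F + 1) / 2)) : Matrix (Fin 2) (Fin 2) F) ≠ 1 → χ g = 1)) := by
  classical
  have h2 := two_ne_zero_of_odd hodd
  have hcr : ringChar F ≠ 2 := fun hc => h2 (by
    haveI := ringChar.of_eq hc
    exact CharTwo.two_eq_zero)
  obtain ⟨e, he⟩ := FiniteField.exists_nonsquare hcr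
  obtain ⟨m, hm⟩ : ∃ m, Fintype.card F = 2 * m + 1 := id hodd
  have hn1 : (((Fintype.card F + 1) / 2 : ℕ) : ℂ) * 2 = (Fintype.card F : ℂ) + 1 := by
    rw [show (Fintype.card F + 1) / 2 = m + 1 by omega, hm]; push_cast; ring
  have hn2 : (((Fintype.card F - 1) / 2 : ℕ) : ℂ) * 2 = (Fintype.card F : ℂ) - 1 := by
    rw [show (Fintype.card F - 1) / 2 = m by omega, hm]; push_cast; ring
  have hnat : ∀ a : ℕ, a ≤ 4 → (Fintype.card F : ℂ) ≠ a := fun a ha h => by
    have : Fintype.card F = a := by exact_mod_cast h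
    omega
  constructor
  · intro hd h01 h10 hne
    have hdet := PSL2.det_eq g
    rw [h01, zero_mul, sub_zero] at hdet
    obtain ⟨a, rfl⟩ : ∃ a : Fˣ, g = dg a := ⟨Units.mk0 _ (left_ne_zero_of_mul_eq_one hdet), by
      ext i k
      fin_cases i <;> fin_cases k <;> simp [dg, GLOrder.diagS_apply, h01, h10]
      exact eq_inv_of_mul_eq_one_right hdet⟩
    have ha : a ^ 2 ≠ 1 := fun h => hne (by
      show (a : F) ^ 2 = 1
      rw [← Units.val_pow_eq_pow_val, h, Units.val_one])
    have key : χ (dg a) = if IsSquare (a : F) then 1 else -1 := by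
      rcases kinds he hχ with rfl | rfl | ⟨γ, -, rfl⟩ | ⟨γ, θ, hγ1, hγ, hs, hor⟩ | ⟨ψ, hψ, hc, rfl⟩ | ⟨ψ, θ, hψ, hc, hs, hor⟩
      · exfalso
        rw [Pi.one_apply] at hd
        exact hnat 1 (by norm_num) (by push_cast; linear_combination -hn1 - 2 * hd)
      · exfalso
        rw [stS_one] at hd
        exact hnat 1 (by norm_num) (by push_cast; linear_combination hn1 + 2 * hd)
      · exfalso
        rw [psS_one] at hd
        exact Nat.cast_add_one_ne_zero (Fintype.card F) (show (Fintype.card F : ℂ) + 1 = 0 by linear_combination hn1 + 2 * hd)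
      · have h := half_apply_semisimple hodd hs hor (tr_sq_dg ha)
        rw [psS_dg γ ha, quad_apply hγ1 hγ a.ne_zero, quad_apply hγ1 hγ (inv_ne_zero a.ne_zero)] at h
        have hiff : IsSquare (a : F)⁻¹ ↔ IsSquare (a : F) := isSquare_inv
        simp only [hiff] at h
        apply mul_left_cancel₀ (two_ne_zero' ℂ)
        rw [h]; ring
      · exfalso
        rw [res_cusp_one hψ hc] at hd
        exact hnat 3 (by norm_num) (by push_cast; linear_combination hn1 + 2 * hd)
      · exfalso
        have h := half_one hs hor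
        rw [res_cusp_one hψ hc, hd] at h
        exact one_ne_zero (α := ℂ) (by linear_combination (h - hn1) / 2)
    constructor
    · intro hs
      rw [key, if_pos]; exact hs
    · intro hs
      rw [key, if_neg]; exact hs
  · intro hd hell
    obtain ⟨t0, ht0, hC0⟩ := GLOrder.exists_nonsplit_torus (F := F) h2
    let C := Subgroup.zpowers t0
    have hT : IsTorus C := ⟨inferInstance, by rw [Nat.card_zpowers, ht0, Nat.card_eq_fintype_card]⟩
    have hroot : ∀ l : F, l ^ 2 - PSL2.tr g * l + 1 ≠ 0 := by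
      intro l hl
      have hdet : ((g : Matrix (Fin 2) (Fin 2) F) - l • (1 : Matrix (Fin 2) (Fin 2) F)).det = 0 := by
        have hd' := PSL2.det_eq g
        unfold PSL2.tr at hl
        simp [Matrix.det_fin_two]
        linear_combination hl + hd'
      obtain ⟨v, hv, hv'⟩ := Matrix.exists_mulVec_eq_zero_iff.2 hdet
      refine hell l v hv ?_
      rw [Matrix.sub_mulVec, Matrix.smul_mulVec, Matrix.one_mulVec, sub_eq_zero] at hv'
      exact hv'
    rcases GLOrder.exists_trace_eq h2 ht0 (hT.even hodd) hC0 (PSL2.tr g) with ⟨l, hl⟩ | ⟨x, hx, htr, h4⟩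
    · exact absurd hl (hroot l)
    obtain ⟨k, hk⟩ := isConj_iff.1 (GLOrder.isConj_of_trace_odd h2 htr (htr.symm ▸ h4))
    have hxc : x ∉ Subgroup.center (Matrix.SpecialLinearGroup (Fin 2) F) := fun hc => h4 (htr ▸ GLOrder.tr_sq_of_mem_center hc)
    have key : χ x = -(th (sgn hT hodd) ⟨x, hx⟩) := by
      rcases kinds he hχ with rfl | rfl | ⟨γ, -, rfl⟩ | ⟨γ, θ, hγ1, hγ, hs, hor⟩ | ⟨ψ, hψ, hc, rfl⟩ | ⟨ψ, θ, hψ, hc, hs, hor⟩
      · exfalso
        rw [Pi.one_apply] at hd
        exact hnat 3 (by norm_num) (by push_cast; linear_combination -hn2 - 2 * hd)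
      · exfalso
        rw [stS_one] at hd
        exact Nat.cast_add_one_ne_zero (Fintype.card F) (show (Fintype.card F : ℂ) + 1 = 0 by linear_combination hn2 + 2 * hd)
      · exfalso
        rw [psS_one] at hd
        have h3 : ((Fintype.card F + 3 : ℕ) : ℂ) = 0 := by push_cast; linear_combination hn2 + 2 * hd
        exact Nat.cast_ne_zero.2 (by omega) h3
      · exfalso
        have h := half_one hs hor
        rw [psS_one, hd] at h
        exact one_ne_zero (α := ℂ) (by linear_combination (hn2 - h) / 2)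
      · exfalso
        rw [res_cusp_one hψ hc] at hd
        exact hnat 1 (by norm_num) (by push_cast; linear_combination hn2 + 2 * hd)
      · have h := half_apply_semisimple hodd hs hor (htr.symm ▸ h4)
        have h' : res ψ x = -2 * th (sgn hT hodd) ⟨x, hx⟩ :=
          split_cusp_values hodd hq hT hψ hc hs (c := ⟨x, hx⟩) hxc
        apply mul_left_cancel₀ (two_ne_zero' ℂ)
        rw [h, h']; ring
    have hχg : χ g = χ x := by rw [← hk, Char.IsIrrCharacter.isClassFunction hχ]
    have hiff : ((g ^ ((Fintype.card F + 1) / 2)) : Matrix (Fin 2) (Fin 2) F) = 1 ↔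
        x ^ ((Fintype.card F + 1) / 2) = 1 := by
      have e : g ^ ((Fintype.card F + 1) / 2) = 1 ↔ x ^ ((Fintype.card F + 1) / 2) = 1 := by
        rw [← hk, conj_pow, mul_inv_eq_one, mul_eq_left]
      rw [← e]
      exact ⟨fun h => Subtype.ext ((Matrix.SpecialLinearGroup.coe_pow g _).trans h),
        fun h => (Matrix.SpecialLinearGroup.coe_pow g _).symm.trans (congrArg (fun z : SL(2, F) => (z : Matrix (Fin 2) (Fin 2) F)) h)⟩
    rw [ne_eq, hiff, hχg, key, th_sgn hT hodd]
    constructor
    · intro h; rw [if_pos h]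
    · intro h; rw [if_neg h, neg_neg]

end Cfsg.Agent.S2435
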