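import Cfsg.Statements.S2436
import Cfsg.Agent.Lib.SL2Cusp.Census
import Cfsg.Agent.Lib.GLOrder.TorusClasses
import Cfsg.Agent.Lib.Ito.Basic
import Cfsg.Agent.Lib.Char.Integral
import Cfsg.Agent.S2430
import Cfsg.Agent.S2431

set_option autoImplicit false
open Cfsg

namespace Cfsg.Agent.S2436

open Cfsg.Agent SL2Cusp Matrix
open scoped MatrixGroups

theorem degree_dvd_index {G : Type*} [Group G] [Finite G] (A : Subgroup G) [A.Normal]
    (hA : ∀ a ∈ A, ∀ b ∈ A, a * b = b * a) (χ : IrrCharacter G) :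
    charDegree (χ : G → ℂ) ∣ A.index := by
  haveI := Fintype.ofFinite G
  obtain ⟨n, -, hn, hd⟩ := Ito.exists_degree_dvd_index χ.2 A hA
  rw [charDegree_eq hn]; exact hd

theorem count_all {G : Type*} [Group G] [Finite G] {ℓ : ℕ}
    (h : ∀ χ : IrrCharacter G, ¬ ℓ ∣ charDegree (χ : G → ℂ)) :
    Nat.card {χ : IrrCharacter G // ¬ ℓ ∣ charDegree (χ : G → ℂ)} = Nat.card (ConjClasses G) := by
  haveI := Fintype.ofFinite G
  rw [Nat.card_congr (Equiv.subtypeUnivEquiv h), Char.card_irr_eq_card_conjClasses]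

variable {F : Type*} [Field F] [Fintype F] [DecidableEq F]

theorem census_eval (hodd : Odd (Fintype.card F)) (ℓ : ℕ) :
    Nat.card {χ : IrrCharacter SL(2, F) // ¬ ℓ ∣ charDegree (χ : SL(2, F) → ℂ)} =
      (if ¬ ℓ ∣ 1 then 1 else 0) + (if ¬ ℓ ∣ Fintype.card F then 1 else 0) +
      (if ¬ ℓ ∣ Fintype.card F + 1 then (Fintype.card F - 3) / 2 else 0) +
      (if ¬ ℓ ∣ (Fintype.card F + 1) / 2 then 2 else 0) +
      (if ¬ ℓ ∣ Fintype.card F - 1 then (Fintype.card F - 1) / 2 else 0) +
      (if ¬ ℓ ∣ (Fintype.card F - 1) / 2 then 2 else 0) := by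
  rw [census hodd (fun n => ¬ ℓ ∣ n), Fin.sum_univ_six]
  simp only [kindDeg, kindNum, Matrix.cons_val]
  congr

/-- The upper unitriangular subgroup. -/
def uHom (F : Type*) [Field F] : Multiplicative F →* SL(2, F) where
  toFun s := GLTwoChar.uSL s.toAdd
  map_one' := by ext i j; fin_cases i <;> fin_cases j <;> simp [GLTwoChar.coe_uSL]
  map_mul' a b := by
    ext i j
    fin_cases i <;> fin_cases j <;> simp [GLTwoChar.coe_uSL, Matrix.mul_apply, Fin.sum_univ_two, add_comm]

theorem uHom_injective : Function.Injective (uHom F) := fun a b h => by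
  have := congrArg (fun g : SL(2, F) => g 0 1) h
  simpa [uHom, GLTwoChar.coe_uSL] using this

theorem card_uRange : Nat.card (uHom F).range = Fintype.card F := by
  rw [← Nat.card_congr (MonoidHom.ofInjective uHom_injective).toEquiv, Nat.card_eq_fintype_card,
    Fintype.card_multiplicative]

theorem mem_borel {g : SL(2, F)} :
    g ∈ (upperTriangularGL 2 F).comap SpecialLinearGroup.toGL ↔ g 1 0 = 0 := by
  constructor
  · intro h; exact h (show (0 : Fin 2) < 1 from Nat.zero_lt_one)
  · intro h i j hij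
    fin_cases i <;> fin_cases j <;> simp at hij ⊢
    exact h

theorem borel_mul_uSL {g : SL(2, F)} (hg : g 1 0 = 0) (x : F) :
    g * GLTwoChar.uSL x = GLTwoChar.uSL (g 0 0 * g 0 0 * x) * g := by
  have hd := PSL2.det_eq g
  rw [hg, mul_zero, sub_zero] at hd
  ext i j
  fin_cases i <;> fin_cases j <;>
    simp [GLTwoChar.coe_uSL, Matrix.mul_apply, Fin.sum_univ_two, hg] <;>
    first | ring1 | linear_combination (-(g 0 0 * x)) * hd

theorem normalizer_uRange :
    Subgroup.normalizer ((uHom F).range : Set SL(2, F)) =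
      (upperTriangularGL 2 F).comap SpecialLinearGroup.toGL := by
  ext g
  rw [mem_borel]
  constructor
  · intro h
    obtain ⟨s, hs⟩ := (Subgroup.mem_normalizer_iff.1 h _).1
      (show GLTwoChar.uSL 1 ∈ (uHom F).range from ⟨Multiplicative.ofAdd 1, rfl⟩)
    have e := congrArg (fun z : SL(2, F) => (z * g) 1 1) hs
    simp [uHom, GLTwoChar.coe_uSL, Matrix.mul_apply, Fin.sum_univ_two] at e
    exact e
  · intro hg
    rw [Subgroup.mem_normalizer_iff]
    intro x
    constructor
    · rintro ⟨s, rfl⟩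
      refine ⟨Multiplicative.ofAdd (g 0 0 * g 0 0 * s.toAdd), ?_⟩
      show GLTwoChar.uSL _ = g * GLTwoChar.uSL _ * g⁻¹
      rw [borel_mul_uSL hg, mul_inv_cancel_right]
      rfl
    · rintro ⟨s, hs⟩
      have hd := PSL2.det_eq g
      rw [hg, mul_zero, sub_zero] at hd
      have ha := left_ne_zero_of_mul_eq_one hd
      refine ⟨Multiplicative.ofAdd (s.toAdd / (g 0 0 * g 0 0)), ?_⟩
      show GLTwoChar.uSL (s.toAdd / (g 0 0 * g 0 0)) = x
      refine mul_left_cancel (a := g) (mul_right_cancel (b := g⁻¹) ?_)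
      rw [borel_mul_uSL hg, mul_inv_cancel_right, ← hs]
      show GLTwoChar.uSL _ = GLTwoChar.uSL _
      congr 1
      field_simp

theorem count_borel (hodd : Odd (Fintype.card F)) (p : ℕ) [Fact p.Prime] [CharP F p]
    (S : Sylow p SL(2, F)) :
    Nat.card {ψ : IrrCharacter (Subgroup.normalizer ((S : Subgroup SL(2, F)) : Set SL(2, F))) //
      ¬ p ∣ charDegree ψ.1} = Fintype.card F + 3 := by
  obtain ⟨f, hf, hq⟩ := GLOrder.exists_card_eq_pow (F := F) p
  rw [Nat.card_eq_fintype_card] at hq
  have hp := (Fact.out : p.Prime)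
  have hq1 := Fintype.one_lt_card (α := F)
  have hpq : p ∣ Fintype.card F := hq ▸ dvd_pow_self p hf.ne'
  have hp1 : ¬ p ∣ Fintype.card F - 1 := fun h => hp.not_dvd_one (by
    have := Nat.dvd_sub hpq h
    rwa [show Fintype.card F - (Fintype.card F - 1) = 1 by omega] at this)
  have hp1' : ¬ p ∣ Fintype.card F + 1 := fun h => hp.not_dvd_one ((Nat.dvd_add_right hpq).1 h)
  have hfac : (Nat.card SL(2, F)).factorization p = f := by
    rw [GLOrder.card_SL_two', Nat.card_eq_fintype_card (α := F), mul_assoc,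
      Nat.factorization_mul Fintype.card_ne_zero (Nat.mul_ne_zero (by omega) (by omega)), Finsupp.add_apply,
      Nat.factorization_eq_zero_of_not_dvd (n := (Fintype.card F + 1) * (Fintype.card F - 1))
        (fun h => (hp.dvd_mul.1 h).elim hp1' hp1), add_zero, hq, Nat.Prime.factorization_pow hp,
      Finsupp.single_eq_same]
  let Q : Sylow p SL(2, F) := Sylow.ofCard (uHom F).range (by rw [card_uRange, hfac, hq])
  obtain ⟨g, hg⟩ := MulAction.exists_smul_eq SL(2, F) Q S
  have hS : (S : Subgroup SL(2, F)) = (uHom F).range.map (MulAut.conj g).toMonoidHom := by rw [← hg]; rfl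
  have hN : Subgroup.normalizer ((S : Subgroup SL(2, F)) : Set SL(2, F)) =
      (Subgroup.normalizer ((uHom F).range : Set SL(2, F))).map (MulAut.conj g).toMonoidHom := by
    rw [hS, Subgroup.map_normalizer_eq_of_bijective _ (MulAut.conj g).bijective]
  let e := ((MulEquiv.subgroupCongr normalizer_uRange.symm).trans
    (Subgroup.equivMapOfInjective (Subgroup.normalizer ((uHom F).range : Set SL(2, F))) (MulAut.conj g).toMonoidHom
      (MulAut.conj g).injective)).trans (MulEquiv.subgroupCongr hN.symm)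
  rw [← card_degree_congr e (fun n => ¬ p ∣ n)]
  set B := (upperTriangularGL 2 F).comap (SpecialLinearGroup.toGL (n := Fin 2) (R := F)) with hB
  have hle : (uHom F).range ≤ B := by
    rw [hB, ← normalizer_uRange]; exact Subgroup.le_normalizer
  have hnorm : ((uHom F).range.subgroupOf B).Normal := by
    constructor
    intro u hu b
    have hb : (b : SL(2, F)) ∈ Subgroup.normalizer ((uHom F).range : Set SL(2, F)) := by
      rw [normalizer_uRange]; exact b.2
    exact (Subgroup.mem_normalizer_iff.1 hb _).1 hu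
  have hcardB : Nat.card B = Fintype.card F * (Fintype.card F - 1) := by
    rw [Nat.card_congr S2437.borelEquiv, Nat.card_eq_fintype_card, Fintype.card_prod, Fintype.card_units, mul_comm]
  have hidx : ((uHom F).range.subgroupOf B).index = Fintype.card F - 1 := by
    have h := ((uHom F).range.subgroupOf B).index_mul_card
    rw [Nat.card_congr (Subgroup.subgroupOfEquivOfLe hle).toEquiv, card_uRange, hcardB, mul_comm] at h
    exact Nat.eq_of_mul_eq_mul_left Fintype.card_pos h
  rw [count_all fun χ hd => hp1 (hidx ▸ hd.trans (degree_dvd_index _ ?_ χ))]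
  · exact S2437.result hodd
  · rintro a ha b hb
    obtain ⟨s, hs⟩ := ha
    obtain ⟨t, ht⟩ := hb
    refine Subtype.ext ?_
    rw [Subgroup.coe_mul, Subgroup.coe_mul, ← Subgroup.coe_subtype, Subgroup.coe_subtype, show (a : SL(2, F)) = uHom F s from hs.symm,
      show (b : SL(2, F)) = uHom F t from ht.symm, ← map_mul, ← map_mul, mul_comm]

theorem count_torus {ℓ : ℕ} [Fact ℓ.Prime] (hℓ : ℓ ≠ 2) (h2 : (2 : F) ≠ 0) (S : Sylow ℓ SL(2, F)) {d : ℕ}
    (hd0 : (d : F) ≠ 0) (he : Even d) (hd2 : 2 < d)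
    (hC : Nat.card (Subgroup.centralizer ((S : Subgroup SL(2, F)) : Set SL(2, F))) = d)
    (hcyc : IsCyclic (Subgroup.centralizer ((S : Subgroup SL(2, F)) : Set SL(2, F))))
    (hN : Nat.card (Subgroup.normalizer ((S : Subgroup SL(2, F)) : Set SL(2, F))) = 2 * d)
    (hSC : (S : Subgroup SL(2, F)) ≤ Subgroup.centralizer ((S : Subgroup SL(2, F)) : Set SL(2, F))) :
    Nat.card {ψ : IrrCharacter (Subgroup.normalizer ((S : Subgroup SL(2, F)) : Set SL(2, F))) //
      ¬ ℓ ∣ charDegree ψ.1} = (d + 6) / 2 := by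
  set C := Subgroup.centralizer ((S : Subgroup SL(2, F)) : Set SL(2, F)) with hCdef
  set N := Subgroup.normalizer ((S : Subgroup SL(2, F)) : Set SL(2, F)) with hNdef
  obtain ⟨c, hc⟩ := IsCyclic.exists_ofOrder_eq_natCard (α := C)
  have ht : orderOf (c : SL(2, F)) = d := by rw [Subgroup.orderOf_coe, hc, hC]
  have hCt : C = Subgroup.zpowers (c : SL(2, F)) :=
    (Subgroup.eq_of_le_of_card_ge (Subgroup.zpowers_le.2 c.2) (by rw [Nat.card_zpowers, ht, hC])).symm
  have hcent : Subgroup.centralizer ({(c : SL(2, F))} : Set SL(2, F)) = Subgroup.zpowers (c : SL(2, F)) := by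
    refine le_antisymm (fun x hx => ?_) (Subgroup.zpowers_le.2 (GLOrder.mem_centralizer_singleton.2 (Commute.refl _)))
    rw [← hCt, hCdef, Subgroup.mem_centralizer_iff]
    intro y hy
    obtain ⟨i, rfl⟩ := Subgroup.mem_zpowers_iff.1 (hCt ▸ hSC hy : y ∈ Subgroup.zpowers (c : SL(2, F)))
    exact ((GLOrder.mem_centralizer_singleton.1 hx).zpow_right i).symm.eq
  obtain ⟨-, -, hcardN', hclass, -⟩ := GLOrder.torus_structure h2 hd0 he hd2 ht hcent
  rw [← hCt] at hcardN' hclass
  have hle : N ≤ Subgroup.normalizer (C : Set SL(2, F)) := by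
    have key : ∀ n ∈ N, ∀ x ∈ C, n * x * n⁻¹ ∈ C := by
      intro n hn x hx
      rw [hCdef, Subgroup.mem_centralizer_iff] at hx ⊢
      intro s hs
      have hs' : n⁻¹ * s * n ∈ (S : Subgroup SL(2, F)) := by
        have := (Subgroup.mem_normalizer_iff.1 (inv_mem hn) s).1 hs
        rwa [inv_inv] at this
      have := hx _ hs'
      calc s * (n * x * n⁻¹) = n * (n⁻¹ * s * n * x) * n⁻¹ := by group
        _ = n * (x * (n⁻¹ * s * n)) * n⁻¹ := by rw [this]
        _ = _ := by group
    intro n hn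
    rw [Subgroup.mem_normalizer_iff]
    refine fun x => ⟨key n hn x, fun h => ?_⟩
    have := key n⁻¹ (inv_mem hn) _ h
    simpa [mul_assoc] using this
  have hNeq : N = Subgroup.normalizer (C : Set SL(2, F)) :=
    Subgroup.eq_of_le_of_card_ge hle (by rw [hN, hcardN'])
  rw [hNeq]
  have hCN : C ≤ Subgroup.normalizer (C : Set SL(2, F)) := Subgroup.le_normalizer
  have hidx : (C.subgroupOf (Subgroup.normalizer (C : Set SL(2, F)))).index = 2 := by
    have h := (C.subgroupOf (Subgroup.normalizer (C : Set SL(2, F)))).index_mul_card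
    rw [Nat.card_congr (Subgroup.subgroupOfEquivOfLe hCN).toEquiv, hC, hcardN'] at h
    exact Nat.eq_of_mul_eq_mul_right (by omega) h
  haveI := Subgroup.normal_of_index_eq_two hidx
  rw [count_all fun χ hd => hℓ ((Nat.prime_dvd_prime_iff_eq Fact.out Nat.prime_two).1
    (hidx ▸ hd.trans (degree_dvd_index _ ?_ χ)))]
  · exact hclass
  · rintro a ha b hb
    haveI := hcyc
    exact Subtype.ext (congrArg Subtype.val (IsCyclic.commGroup.mul_comm (⟨a, ha⟩ : C) ⟨b, hb⟩) :)

theorem quaternion_count (n : ℕ) [NeZero n] (hn : 2 ≤ n) :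
    (commutator (QuaternionGroup n)).index = 4 := by
  have horder : orderOf (QuaternionGroup.a (2 : ZMod (2 * n))) = n := by
    rw [QuaternionGroup.orderOf_a]
    have hval : (2 : ZMod (2 * n)).val = 2 := by
      have h := ZMod.val_natCast (2 * n) 2
      rw [Nat.mod_eq_of_lt (by omega : 2 < 2 * n)] at h
      simpa using h
    rw [hval, Nat.gcd_eq_right (dvd_mul_right 2 n), Nat.mul_div_cancel_left n two_pos]
  have heq : commutator (QuaternionGroup n) = Subgroup.zpowers (QuaternionGroup.a (2 : ZMod (2 * n))) := by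
    refine le_antisymm ?_ (Subgroup.zpowers_le.2 ?_)
    · rw [commutator_def, Subgroup.commutator_le]
      intro g _ h _
      have hz : ∀ k : ZMod (2 * n),
          QuaternionGroup.a (2 * k) ∈ Subgroup.zpowers (QuaternionGroup.a (2 : ZMod (2 * n))) := by
        intro k
        refine ⟨(k.val : ℤ), ?_⟩
        show QuaternionGroup.a (2 : ZMod (2 * n)) ^ ((k.val : ℤ)) = _
        rw [zpow_natCast]
        have e1 : (2 : ZMod (2 * n)) * k = ((2 * k.val : ℕ) : ZMod (2 * n)) := by
          push_cast; rw [ZMod.natCast_zmod_val]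
        rw [e1, ← QuaternionGroup.a_one_pow, show (QuaternionGroup.a (2 : ZMod (2 * n))) = QuaternionGroup.a 1 ^ 2 by
          rw [QuaternionGroup.a_one_pow]; norm_num, ← pow_mul]
      have hnn : ((n : ZMod (2 * n))) + n = 0 := by
        rw [← two_mul]; exact_mod_cast ZMod.natCast_self (2 * n)
      rw [commutatorElement_def]
      rcases g with i | i <;> rcases h with j | j
      · rw [show QuaternionGroup.a i * QuaternionGroup.a j * (QuaternionGroup.a i)⁻¹ * (QuaternionGroup.a j)⁻¹ =
          QuaternionGroup.a (2 * 0) from congrArg QuaternionGroup.a (show i + j + -i + -j = 2 * 0 by ring)]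
        exact hz 0
      · rw [show QuaternionGroup.a i * QuaternionGroup.xa j * (QuaternionGroup.a i)⁻¹ * (QuaternionGroup.xa j)⁻¹ =
          QuaternionGroup.a (2 * i) from congrArg QuaternionGroup.a
            (show (n : ZMod (2 * n)) + ((n : ZMod (2 * n)) + j) - (j - i + -i) = 2 * i by linear_combination hnn)]
        exact hz _
      · rw [show QuaternionGroup.xa i * QuaternionGroup.a j * (QuaternionGroup.xa i)⁻¹ * (QuaternionGroup.a j)⁻¹ =
          QuaternionGroup.a (2 * (-j)) from congrArg QuaternionGroup.a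
            (show (n : ZMod (2 * n)) + ((n : ZMod (2 * n)) + i) - (i + j) + -j = 2 * (-j) by linear_combination hnn)]
        exact hz _
      · rw [show QuaternionGroup.xa i * QuaternionGroup.xa j * (QuaternionGroup.xa i)⁻¹ * (QuaternionGroup.xa j)⁻¹ =
          QuaternionGroup.a (2 * (j - i)) from congrArg QuaternionGroup.a
            (show (n : ZMod (2 * n)) + ((n : ZMod (2 * n)) + j) - ((n : ZMod (2 * n)) + i - ((n : ZMod (2 * n)) + j - i)) = 2 * (j - i) by
              linear_combination hnn)]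
        exact hz _
    · rw [commutator_def]
      have h := Subgroup.commutator_mem_commutator (Subgroup.mem_top (QuaternionGroup.a (1 : ZMod (2 * n))))
        (Subgroup.mem_top (QuaternionGroup.xa (0 : ZMod (2 * n))))
      rw [commutatorElement_def] at h
      convert h using 1
      refine congrArg QuaternionGroup.a ?_
      have hnn : ((n : ZMod (2 * n))) + n = 0 := by
        rw [← two_mul]; exact_mod_cast ZMod.natCast_self (2 * n)
      show (2 : ZMod (2 * n)) = (n : ZMod (2 * n)) + ((n : ZMod (2 * n)) + 0) - (0 - 1 + -1)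
      linear_combination -hnn
  have h := (commutator (QuaternionGroup n)).index_mul_card
  rw [heq, Nat.card_zpowers, horder, Nat.card_eq_fintype_card, QuaternionGroup.card] at h
  rw [heq]
  exact Nat.eq_of_mul_eq_mul_right (by omega) h

theorem odd_degrees_eq_one {G : Type*} [Group G] [Finite G] {k : ℕ} (hG : Nat.card G = 2 ^ k) (χ : IrrCharacter G)
    (h : ¬ 2 ∣ charDegree (χ : G → ℂ)) : (χ : G → ℂ) 1 = 1 := by
  obtain ⟨n, -, hn, hd⟩ := Char.IsIrrCharacter.degree_dvd_card χ.2
  rw [charDegree_eq hn] at h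
  obtain ⟨j, -, rfl⟩ := (Nat.dvd_prime_pow Nat.prime_two).1 (hG ▸ hd)
  rcases j with _ | j
  · simpa using hn
  · exact absurd (dvd_pow_self 2 j.succ_ne_zero) h

theorem count_order_24 (hodd : Odd (Fintype.card F)) (S : Sylow 2 SL(2, F))
    (hcent : Subgroup.centralizer ((S : Subgroup SL(2, F)) : Set SL(2, F)) = Subgroup.center SL(2, F))
    (hS8 : Nat.card S = 8)
    (hN24 : Nat.card (Subgroup.normalizer ((S : Subgroup SL(2, F)) : Set SL(2, F))) = 24) :
    Nat.card {ψ : IrrCharacter (Subgroup.normalizer ((S : Subgroup SL(2, F)) : Set SL(2, F))) //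
      ¬ 2 ∣ charDegree ψ.1} = 4 := by
  classical
  set N := Subgroup.normalizer ((S : Subgroup SL(2, F)) : Set SL(2, F)) with hNdef
  have hSN : (S : Subgroup SL(2, F)) ≤ N := Subgroup.le_normalizer
  haveI hKn : ((S : Subgroup SL(2, F)).subgroupOf N).Normal := Subgroup.normal_in_normalizer
  set K := (S : Subgroup SL(2, F)).subgroupOf N with hK
  have hK8 : Nat.card K = 8 := by rw [hK, Nat.card_congr (Subgroup.subgroupOfEquivOfLe hSN).toEquiv]; exact hS8
  have hK3 : K.index = 3 := by
    have h := K.index_mul_card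
    rw [hK8, hN24] at h
    omega
  haveI : Fact (Nat.Prime 3) := ⟨Nat.prime_three⟩
  have hDK : commutator N ≤ K := by
    haveI : IsCyclic (N ⧸ K) := isCyclic_of_prime_card (p := 3) (by rw [← Subgroup.index_eq_card, hK3])
    rw [commutator_def, Subgroup.commutator_le]
    intro a _ b _
    rw [← QuotientGroup.eq_one_iff, commutatorElement_def, QuotientGroup.mk_mul, QuotientGroup.mk_mul,
      QuotientGroup.mk_mul, QuotientGroup.mk_inv, QuotientGroup.mk_inv,
      IsCyclic.commGroup.mul_comm (QuotientGroup.mk a : N ⧸ K) (QuotientGroup.mk b), mul_inv_cancel_right,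
      mul_inv_cancel]
  have hDeq : commutator N = K := by
    by_contra hne
    have hlt : Nat.card (commutator N) ≤ 4 := by
      have hd : Nat.card (commutator N) ∣ 8 := hK8 ▸ Subgroup.card_dvd_of_le hDK
      have h8 : Nat.card (commutator N) ≠ 8 := fun h => hne (Subgroup.eq_of_le_of_card_ge hDK (by rw [h, hK8]))
      have h1 := Nat.le_of_dvd (by norm_num) hd
      revert hd h8 h1
      generalize Nat.card (commutator N) = c
      intros hd h8 h1
      interval_cases c <;> omega
    obtain ⟨y, hy⟩ := exists_prime_orderOf_dvd_card' (G := N) 3 (by rw [hN24]; norm_num)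
    have hy3 : y ^ 3 = 1 := hy ▸ pow_orderOf_eq_one y
    have hfix : ∀ z ∈ commutator N, y * z * y⁻¹ = z := by
      intro z hz
      by_contra hzb
      haveI : (commutator N).Normal := Subgroup.commutator_normal _ _
      have h2 : 2 ∣ Nat.card (commutator N) := by
        have hd : Nat.card (commutator N) ∣ 2 ^ 3 := (Subgroup.card_dvd_of_le hDK).trans (hK8.trans (by norm_num)).dvd
        obtain ⟨j, -, hj⟩ := (Nat.dvd_prime_pow Nat.prime_two).1 hd
        rcases j with _ | j
        · exfalso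
          rw [pow_zero, Subgroup.card_eq_one] at hj
          rw [hj, Subgroup.mem_bot] at hz
          subst hz
          simp at hzb
        · rw [hj]; exact dvd_pow_self 2 j.succ_ne_zero
      obtain ⟨d, hd⟩ := exists_prime_orderOf_dvd_card' (G := commutator N) 2 h2
      have hdsl : ((d : N) : SL(2, F)) = -1 := by
        refine (GLOrder.eq_one_or_neg_one_of_sq (GLTwoChar.two_ne_zero_of_odd hodd) ?_).resolve_left fun h => ?_
        · have := congrArg (fun u : commutator N => ((u : N) : SL(2, F))) (hd ▸ pow_orderOf_eq_one d)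
          simpa [pow_two] using this
        · have : d = 1 := Subtype.ext (Subtype.ext h)
          rw [this, orderOf_one] at hd
          norm_num at hd
      have hdfix : y * (d : N) * y⁻¹ = d := Subtype.ext (by
        show (y : SL(2, F)) * ((d : N) : SL(2, F)) * (y : SL(2, F))⁻¹ = ((d : N) : SL(2, F))
        rw [hdsl]; simp)
      let c : N →* N := (MulAut.conj y).toMonoidHom
      have hcinj : Function.Injective c := (MulAut.conj y).injective
      have hc1 : c 1 = 1 := map_one c
      have hcd : c (d : N) = d := hdfix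
      have hc3 : c (c (c z)) = z := by
        show y * (y * (y * z * y⁻¹) * y⁻¹) * y⁻¹ = z
        calc y * (y * (y * z * y⁻¹) * y⁻¹) * y⁻¹ = y ^ 3 * z * (y ^ 3)⁻¹ := by rw [pow_succ, pow_two]; group
          _ = z := by rw [hy3]; simp
      have hzc : c z ≠ z := hzb
      have hmem : ∀ u, u ∈ commutator N → c u ∈ commutator N := fun u hu =>
        Subgroup.Normal.conj_mem inferInstance u hu y
      have h5 : ({1, (d : N), z, c z, c (c z)} : Finset N) ⊆ Finset.univ.filter (fun u => u ∈ commutator N) := by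
        intro u hu
        simp only [Finset.mem_insert, Finset.mem_singleton] at hu
        refine Finset.mem_filter.2 ⟨Finset.mem_univ _, ?_⟩
        rcases hu with rfl | rfl | rfl | rfl | rfl
        · exact one_mem _
        · exact d.2
        · exact hz
        · exact hmem _ hz
        · exact hmem _ (hmem _ hz)
      have hd1 : (d : N) ≠ 1 := fun h => by
        rw [show d = 1 from Subtype.ext h, orderOf_one] at hd
        norm_num at hd
      have e1 : ∀ f : N, c f = f → z ≠ f ∧ c z ≠ f ∧ c (c z) ≠ f := by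
        intro f hf
        have a1 : z ≠ f := fun h => hzc (by rw [h, hf])
        have a2 : c z ≠ f := fun h => a1 (hcinj (h.trans hf.symm))
        exact ⟨a1, a2, fun h => a2 (hcinj (h.trans hf.symm))⟩
      obtain ⟨b1, b2, b3⟩ := e1 1 hc1
      obtain ⟨b4, b5, b6⟩ := e1 _ hcd
      have b7 : c z ≠ c (c z) := fun h => hzc (hcinj h).symm
      have b8 : z ≠ c (c z) := fun h => hzc (by conv_lhs => rw [h]; rw [hc3])
      have hcount := Finset.card_le_card h5
      rw [Finset.card_insert_of_notMem (by simp [hd1.symm, b1.symm, b2.symm, b3.symm]),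
        Finset.card_insert_of_notMem (by simp [b4.symm, b5.symm, b6.symm]),
        Finset.card_insert_of_notMem (by simp [hzc.symm, b8]),
        Finset.card_pair b7, ← Fintype.card_subtype, ← Nat.card_eq_fintype_card] at hcount
      have : Nat.card {u : N // u ∈ commutator N} ≤ 4 := hlt
      omega
    have hyS : (y : SL(2, F)) ∈ Subgroup.centralizer ((S : Subgroup SL(2, F)) : Set SL(2, F)) := by
      rw [Subgroup.mem_centralizer_iff]
      intro x hx
      let x' : N := ⟨x, hSN hx⟩
      have hzD : y * x' * y⁻¹ * x'⁻¹ ∈ commutator N := by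
        rw [commutator_def, ← commutatorElement_def]
        exact Subgroup.commutator_mem_commutator (Subgroup.mem_top _) (Subgroup.mem_top _)
      set z := y * x' * y⁻¹ * x'⁻¹ with hz
      have hzy : y * z = z * y := by
        have := hfix z hzD
        rwa [mul_inv_eq_iff_eq_mul] at this
      have e1 : y * x' * y⁻¹ = z * x' := by rw [hz]; group
      have e2 : y ^ 2 * x' * (y ^ 2)⁻¹ = z * z * x' := by
        calc y ^ 2 * x' * (y ^ 2)⁻¹ = y * (y * x' * y⁻¹) * y⁻¹ := by rw [pow_two]; group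
          _ = (y * z) * x' * y⁻¹ := by rw [e1]; group
          _ = z * (y * x' * y⁻¹) := by rw [hzy]; group
          _ = _ := by rw [e1]; group
      have hz3 : z ^ 3 = 1 := by
        have e3 : y ^ 3 * x' * (y ^ 3)⁻¹ = z ^ 3 * x' := by
          calc y ^ 3 * x' * (y ^ 3)⁻¹ = y * (y ^ 2 * x' * (y ^ 2)⁻¹) * y⁻¹ := by rw [pow_succ' y 2]; group
            _ = (y * z) * (z * x' * y⁻¹) := by rw [e2]; group
            _ = (z * y) * (z * x' * y⁻¹) := by rw [hzy]
            _ = z * ((y * z) * x' * y⁻¹) := by group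
            _ = z * (z * (y * x' * y⁻¹)) := by rw [hzy]; group
            _ = _ := by rw [e1, pow_succ, pow_two]; group
        rw [hy3] at e3
        simpa using e3.symm
      have hz8 : orderOf z ∣ 8 := hK8 ▸ (by
        have := orderOf_dvd_natCard (⟨z, hDK hzD⟩ : K)
        rwa [← Subgroup.orderOf_coe] at this)
      have hz1 : z = 1 := orderOf_eq_one_iff.1 (Nat.eq_one_of_dvd_coprimes
        (by norm_num : Nat.Coprime 3 8) (orderOf_dvd_of_pow_eq_one hz3) hz8)
      rw [hz, mul_inv_eq_one, mul_inv_eq_iff_eq_mul] at hz1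
      exact (congrArg Subtype.val hz1).symm
    rw [hcent] at hyS
    have hy2 : y ^ 2 = 1 := Subtype.ext (by
      rcases GLOrder.center_SL2.1 hyS with h | h <;> simp [h])
    have := Nat.le_of_dvd two_pos (hy ▸ orderOf_dvd_of_pow_eq_one hy2)
    omega
  have hlin : Nat.card {ψ : IrrCharacter N // ψ.1 1 = 1} = 3 := by
    rw [Char.card_linear_irr, hDeq, hK3]
  haveI := Fintype.ofFinite (IrrCharacter N)
  choose n hn0 hn hnd using fun ψ : IrrCharacter N => Char.IsIrrCharacter.degree_dvd_card ψ.2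
  have hdeg : ∀ ψ : IrrCharacter N, charDegree ψ.1 = n ψ := fun ψ => charDegree_eq (hn ψ)
  have hsum : ∑ ψ, n ψ ^ 2 = 24 := by
    have h := Char.sum_sq_degrees (G := N)
    simp only [hn, hN24] at h
    exact_mod_cast h
  have hodd13 : ∀ ψ, ¬ 2 ∣ n ψ ↔ (n ψ = 1 ∨ n ψ = 3) := by
    intro ψ
    refine ⟨fun h => ?_, by rintro (h | h) <;> rw [h] <;> decide⟩
    have hd := hN24 ▸ hnd ψ
    have hle : n ψ ≤ 24 := Nat.le_of_dvd (by norm_num) hd
    revert h hd hle
    generalize n ψ = c
    intros h hd hle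
    interval_cases c <;> omega
  set A := Finset.univ.filter (fun ψ : IrrCharacter N => n ψ = 1) with hA
  set B := Finset.univ.filter (fun ψ : IrrCharacter N => n ψ = 3) with hB
  have hA3 : A.card = 3 := by
    rw [← hlin, Nat.card_eq_fintype_card, Fintype.card_subtype]
    refine congrArg Finset.card (Finset.filter_congr fun ψ _ => ?_)
    rw [hn, Nat.cast_eq_one]
  have hsplit : ∃ r, 24 = A.card + 9 * B.card + 4 * r := by
    refine ⟨∑ ψ ∈ Finset.univ.filter (fun ψ => 2 ∣ n ψ), (n ψ / 2) ^ 2, ?_⟩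
    conv_lhs => rw [← hsum]
    rw [Finset.card_eq_sum_ones, Finset.card_eq_sum_ones, Finset.mul_sum, Finset.mul_sum, hA, hB, Finset.sum_filter,
      Finset.sum_filter, Finset.sum_filter, ← Finset.sum_add_distrib, ← Finset.sum_add_distrib]
    refine Finset.sum_congr rfl fun ψ _ => ?_
    by_cases h : 2 ∣ n ψ
    · obtain ⟨t, ht⟩ := h
      rw [if_neg (by omega), if_neg (by omega), if_pos ⟨t, ht⟩, ht, Nat.mul_div_cancel_left t two_pos]
      ring
    · rcases (hodd13 ψ).1 h with h' | h' <;> simp [h']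
  obtain ⟨r, hr⟩ := hsplit
  have hB1 : B.card = 1 := by omega
  rw [Nat.card_congr (Equiv.subtypeEquivRight (q := fun ψ : IrrCharacter N => n ψ = 1 ∨ n ψ = 3)
    fun ψ => by rw [hdeg, hodd13]), Nat.card_eq_fintype_card, Fintype.card_subtype, Finset.filter_or,
    Finset.card_union_of_disjoint (Finset.disjoint_filter.2 fun ψ _ a b => by omega), ← hA, ← hB, hA3, hB1]

theorem count_two (hodd : Odd (Fintype.card F)) (S : Sylow 2 SL(2, F)) :
    Nat.card {ψ : IrrCharacter (Subgroup.normalizer ((S : Subgroup SL(2, F)) : Set SL(2, F))) //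
      ¬ 2 ∣ charDegree ψ.1} = 4 := by
  haveI : Fact (Nat.Prime 2) := ⟨Nat.prime_two⟩
  obtain ⟨hcent, hN1, hN3⟩ := S2431.result hodd S
  have hodd' : Odd (Nat.card F) := by rwa [Nat.card_eq_fintype_card]
  obtain ⟨k, hk, ⟨e⟩⟩ := GLOrder.sylow_two_SL_two hodd' S
  haveI : NeZero (2 ^ k) := ⟨pow_ne_zero _ two_ne_zero⟩
  have hcard : Nat.card S = 4 * 2 ^ k := by
    rw [Nat.card_congr e.toEquiv, Nat.card_eq_fintype_card, QuaternionGroup.card]
  have hk2 : 2 ≤ 2 ^ k := by
    calc 2 = 2 ^ 1 := rfl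
      _ ≤ 2 ^ k := Nat.pow_le_pow_right two_pos hk
  have hQ : Nat.card {ψ : IrrCharacter (S : Subgroup SL(2, F)) // ¬ 2 ∣ charDegree ψ.1} = 4 := by
    rw [card_degree_congr e (fun n => ¬ 2 ∣ n)]
    rw [Nat.card_congr (Equiv.subtypeEquivRight (q := fun χ : IrrCharacter (QuaternionGroup (2 ^ k)) => χ.1 1 = 1)
      fun χ => ⟨odd_degrees_eq_one (k := k + 2) (by rw [Nat.card_eq_fintype_card, QuaternionGroup.card, pow_add]; ring) χ,
        fun h => by rw [charDegree_eq (n := 1) (h.trans Nat.cast_one.symm)]; decide⟩), Char.card_linear_irr,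
      quaternion_count _ hk2]
  have h8 : Fintype.card F % 8 = 1 ∨ Fintype.card F % 8 = 7 ∨ Fintype.card F % 8 = 3 ∨ Fintype.card F % 8 = 5 := by
    obtain ⟨m, hm⟩ := hodd
    omega
  rcases h8 with h8 | h8 | h8 | h8
  · rw [hN1 (Or.inl h8)]; exact hQ
  · rw [hN1 (Or.inr h8)]; exact hQ
  all_goals
    have hNcard := hN3 (by omega)
    set N := Subgroup.normalizer ((S : Subgroup SL(2, F)) : Set SL(2, F)) with hNdef
    have hS8 : Nat.card S = 8 := by
      rw [hcard]
      have hle : k ≤ 1 := by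
        by_contra hlt
        have h16 : 2 ^ 4 ∣ Nat.card SL(2, F) := by
          have h : 2 ^ 4 ∣ Nat.card S := by
            rw [hcard, show (2 : ℕ) ^ 4 = 4 * 2 ^ 2 by norm_num]
            exact Nat.mul_dvd_mul_left 4 (pow_dvd_pow 2 (by omega))
          exact h.trans (Subgroup.card_subgroup_dvd_card (S : Subgroup SL(2, F)))
        rw [GLOrder.card_SL_two', Nat.card_eq_fintype_card (α := F)] at h16
        obtain ⟨r, hr⟩ : ∃ r, Fintype.card F = 8 * r + 3 ∨ Fintype.card F = 8 * r + 5 :=
          ⟨Fintype.card F / 8, by omega⟩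
        rcases hr with hr | hr <;> rw [hr] at h16
        · rw [show 8 * r + 3 - 1 = 2 * (4 * r + 1) by omega,
            show (8 * r + 3) * (8 * r + 3 + 1) * (2 * (4 * r + 1)) =
              2 ^ 3 * ((8 * r + 3) * (2 * r + 1) * (4 * r + 1)) by ring, pow_succ] at h16
          have h' := Nat.dvd_of_mul_dvd_mul_left (by norm_num) h16
          simp [Nat.prime_two.dvd_mul] at h'
          omega
        · rw [show 8 * r + 5 - 1 = 4 * (2 * r + 1) by omega,
            show (8 * r + 5) * (8 * r + 5 + 1) * (4 * (2 * r + 1)) =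
              2 ^ 3 * ((8 * r + 5) * (4 * r + 3) * (2 * r + 1)) by ring, pow_succ] at h16
          have h' := Nat.dvd_of_mul_dvd_mul_left (by norm_num) h16
          simp [Nat.prime_two.dvd_mul] at h'
          omega
      rw [show k = 1 by omega]; norm_num
    have hN24 : Nat.card N = 24 := by rw [hNcard, hS8]
    exact count_order_24 hodd S hcent hS8 hN24

/-- An odd Sylow subgroup in a torus is abelian. -/
theorem sylow_le_centralizer (hodd : Odd (Fintype.card F)) (ℓ : ℕ) [Fact ℓ.Prime] (hℓ : ℓ ≠ 2)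
    (S : Sylow ℓ SL(2, F)) (h : ℓ ∣ Fintype.card F - 1 ∨ ℓ ∣ Fintype.card F + 1) :
    (S : Subgroup SL(2, F)) ≤ Subgroup.centralizer ((S : Subgroup SL(2, F)) : Set SL(2, F)) := by
  obtain ⟨p, hp⟩ := CharP.exists F
  haveI : Fact p.Prime := ⟨CharP.char_prime_of_ne_zero F (CharP.char_ne_zero_of_finite F p)⟩
  obtain ⟨f, hf, hqp⟩ := GLOrder.exists_card_eq_pow (F := F) p
  rw [Nat.card_eq_fintype_card] at hqp
  have hlp : ℓ ≠ p := by
    rintro rfl
    have hq1 := Fintype.one_lt_card (α := F)
    have hdq : ℓ ∣ Fintype.card F := hqp ▸ dvd_pow_self ℓ hf.ne'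
    rcases h with h | h
    · exact (Fact.out : ℓ.Prime).not_dvd_one (by
        have := Nat.dvd_sub hdq h
        rwa [show Fintype.card F - (Fintype.card F - 1) = 1 by omega] at this)
    · exact (Fact.out : ℓ.Prime).not_dvd_one ((Nat.dvd_add_right hdq).1 h)
  haveI := GLOrder.isCyclic_sylow_SL_two p ℓ hℓ hlp S
  intro x hx
  rw [Subgroup.mem_centralizer_iff]
  intro y hy
  exact congrArg Subtype.val (IsCyclic.commGroup.mul_comm (⟨y, hy⟩ : (S : Subgroup SL(2, F))) ⟨x, hx⟩)

/-- Let F be a finite field with q elements, q odd, ℓ any prime and S a Sylow ℓ-subgroup of SL₂ over F with normaliser N. Then SL₂ and N have the same number of irreducible complex characters of degree not divisible by ℓ (the McKay equality holds for SL₂ over F at every prime). -/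
theorem result {F : Type*} [Field F] [Fintype F] (hodd : Odd (Fintype.card F)) (ℓ : ℕ) [Fact ℓ.Prime] (S : Sylow ℓ (Matrix.SpecialLinearGroup (Fin 2) F)) :
    Nat.card {χ : Cfsg.IrrCharacter (Matrix.SpecialLinearGroup (Fin 2) F) // ¬ ℓ ∣ Cfsg.charDegree (χ : Matrix.SpecialLinearGroup (Fin 2) F → ℂ)} =
      Nat.card {ψ : Cfsg.IrrCharacter (Subgroup.normalizer ((S : Subgroup (Matrix.SpecialLinearGroup (Fin 2) F)) : Set (Matrix.SpecialLinearGroup (Fin 2) F))) //
        ¬ ℓ ∣ Cfsg.charDegree (ψ : Subgroup.normalizer ((S : Subgroup (Matrix.SpecialLinearGroup (Fin 2) F)) : Set (Matrix.SpecialLinearGroup (Fin 2) F)) → ℂ)} := by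
  classical
  have hl : ℓ.Prime := Fact.out
  have h2 : (2 : F) ≠ 0 := GLTwoChar.two_ne_zero_of_odd hodd
  have hq1 := Fintype.one_lt_card (α := F)
  obtain ⟨m, hm⟩ := id hodd
  rw [census_eval hodd ℓ]
  by_cases hℓ2 : ℓ = 2
  · subst hℓ2
    rw [count_two hodd S, if_pos (by decide), if_pos (by omega), if_neg (by omega), if_neg (c := ¬ 2 ∣ Fintype.card F - 1) (by omega)]
    rcases Nat.even_or_odd m with ⟨r, hr⟩ | ⟨r, hr⟩
    · rw [if_pos (by omega), if_neg (by omega)]
    · rw [if_neg (by omega), if_pos (by omega)]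
  have hn1 : ¬ ℓ ∣ 1 := hl.not_dvd_one
  have hhalf : ∀ a, ℓ ∣ 2 * a → ℓ ∣ a := fun a h => (hl.dvd_mul.1 h).resolve_left
    fun h' => hℓ2 ((Nat.prime_dvd_prime_iff_eq hl Nat.prime_two).1 h')
  have hdiff : ∀ a b, ℓ ∣ a → ℓ ∣ b → a ≤ b → b ≤ a + 2 → b = a := by
    intro a b ha hb h1' h2'
    by_contra hne
    have h3 := Nat.le_of_dvd (by omega) (Nat.dvd_sub hb ha)
    have := hl.two_le
    omega
  by_cases hmi : ℓ ∣ Fintype.card F - 1
  · have a1 : ¬ ℓ ∣ Fintype.card F := fun h => by have := hdiff _ _ hmi h (by omega) (by omega); omega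
    have a2 : ¬ ℓ ∣ Fintype.card F + 1 := fun h => by have := hdiff _ _ hmi h (by omega) (by omega); omega
    have a3 : ¬ ℓ ∣ (Fintype.card F + 1) / 2 := fun h => a2 (by
      have := h.mul_left 2
      rwa [show 2 * ((Fintype.card F + 1) / 2) = Fintype.card F + 1 by omega] at this)
    have a4 : ℓ ∣ (Fintype.card F - 1) / 2 := hhalf _ (by
      rwa [show 2 * ((Fintype.card F - 1) / 2) = Fintype.card F - 1 by omega])
    rw [if_pos hn1, if_pos a1, if_pos a2, if_pos a3, if_neg (not_not.2 hmi), if_neg (not_not.2 a4)]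
    have hd3 : 3 ≤ Fintype.card F - 1 := by
      have := Nat.le_of_dvd (by omega) hmi
      have := hl.two_le
      omega
    obtain ⟨hC, hcyc, hN⟩ := (S2430.result hodd ℓ hℓ2 S).1 hmi
    have hd0 : ((Fintype.card F - 1 : ℕ) : F) ≠ 0 := by
      rw [Nat.cast_sub (by omega), FiniteField.cast_card_eq_zero]
      simp
    rw [count_torus hℓ2 h2 S hd0 ⟨m, by omega⟩ (by omega) hC hcyc hN (sylow_le_centralizer hodd ℓ hℓ2 S (Or.inl hmi))]
    omega
  by_cases hpl : ℓ ∣ Fintype.card F + 1
  · have a1 : ¬ ℓ ∣ Fintype.card F := fun h => by have := hdiff _ _ h hpl (by omega) (by omega); omega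
    have a3 : ℓ ∣ (Fintype.card F + 1) / 2 := hhalf _ (by
      rwa [show 2 * ((Fintype.card F + 1) / 2) = Fintype.card F + 1 by omega])
    have a4 : ¬ ℓ ∣ (Fintype.card F - 1) / 2 := fun h => hmi (by
      have := h.mul_left 2
      rwa [show 2 * ((Fintype.card F - 1) / 2) = Fintype.card F - 1 by omega] at this)
    rw [if_pos hn1, if_pos a1, if_neg (not_not.2 hpl), if_neg (not_not.2 a3), if_pos hmi, if_pos a4]
    obtain ⟨hC, hcyc, hN⟩ := (S2430.result hodd ℓ hℓ2 S).2 hpl
    have hd0 : ((Fintype.card F + 1 : ℕ) : F) ≠ 0 := by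
      rw [Nat.cast_add, FiniteField.cast_card_eq_zero]
      simp
    rw [count_torus hℓ2 h2 S hd0 ⟨m + 1, by omega⟩ (by omega) hC hcyc hN (sylow_le_centralizer hodd ℓ hℓ2 S (Or.inr hpl))]
    omega
  by_cases hq : ℓ ∣ Fintype.card F
  · obtain ⟨p, hp⟩ := CharP.exists F
    haveI : Fact p.Prime := ⟨CharP.char_prime_of_ne_zero F (CharP.char_ne_zero_of_finite F p)⟩
    obtain ⟨f, hf, hqp⟩ := GLOrder.exists_card_eq_pow (F := F) p
    rw [Nat.card_eq_fintype_card] at hqp
    obtain rfl : ℓ = p := (Nat.prime_dvd_prime_iff_eq hl (Fact.out : p.Prime)).1 (hl.dvd_of_dvd_pow (hqp ▸ hq))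
    have a3 : ¬ ℓ ∣ (Fintype.card F + 1) / 2 := fun h => hpl (by
      have := h.mul_left 2
      rwa [show 2 * ((Fintype.card F + 1) / 2) = Fintype.card F + 1 by omega] at this)
    have a4 : ¬ ℓ ∣ (Fintype.card F - 1) / 2 := fun h => hmi (by
      have := h.mul_left 2
      rwa [show 2 * ((Fintype.card F - 1) / 2) = Fintype.card F - 1 by omega] at this)
    rw [if_pos hn1, if_neg (not_not.2 hq), if_pos hpl, if_pos a3, if_pos hmi, if_pos a4, count_borel hodd ℓ S]
    omega
  · -- `ℓ` does not divide the order of the group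
    have hnd : ¬ ℓ ∣ Nat.card (Matrix.SpecialLinearGroup (Fin 2) F) := by
      rw [GLOrder.card_SL_two', Nat.card_eq_fintype_card (α := F)]
      intro h
      rcases hl.dvd_mul.1 h with h | h
      · exact (hl.dvd_mul.1 h).elim hq hpl
      · exact hmi h
    have hSbot : (S : Subgroup (Matrix.SpecialLinearGroup (Fin 2) F)) = ⊥ := by
      rw [← Subgroup.card_eq_one]
      rw [S.card_eq_multiplicity, Nat.factorization_eq_zero_of_not_dvd hnd, pow_zero]
    have htop : Subgroup.normalizer ((S : Subgroup (Matrix.SpecialLinearGroup (Fin 2) F)) : Set (Matrix.SpecialLinearGroup (Fin 2) F)) = ⊤ :=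
      Subgroup.normalizer_eq_top_iff.2 (hSbot ▸ inferInstance)
    rw [← census_eval hodd ℓ]
    exact card_degree_congr ((MulEquiv.subgroupCongr htop).trans Subgroup.topEquiv).symm (fun n => ¬ ℓ ∣ n)

end Cfsg.Agent.S2436
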