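import Cfsg.Statements.S2438
import Cfsg.Agent.Lib.SL2Cusp.Kinds

set_option autoImplicit false
open Cfsg

namespace Cfsg.Agent.S2438

open Cfsg.Agent GLTwoChar SL2Cusp
open scoped MatrixGroups

variable {F : Type*} [Field F] [Fintype F] [DecidableEq F]

theorem sum_if_eq (χ : SL(2, F) → ℂ) :
    (∑ g : SL(2, F), if (g : Matrix (Fin 2) (Fin 2) F) 1 0 = 0 ∧ (g : Matrix (Fin 2) (Fin 2) F) 0 0 = 1 ∧
      (g : Matrix (Fin 2) (Fin 2) F) 1 1 = 1 then χ g else 0) = ∑ s : F, χ ((slDatum F).u s) := by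
  rw [← Finset.sum_filter]
  refine (Finset.sum_bij' (fun s _ => uSL s) (fun g _ => (g : Matrix (Fin 2) (Fin 2) F) 0 1) ?_ ?_ ?_ ?_ ?_).symm
  · intro s _; simp [coe_uSL]
  · intro g _; exact Finset.mem_univ _
  · intro s _; simp [coe_uSL]
  · intro g hg
    rw [Finset.mem_filter] at hg
    exact (eq_uSL hg.2.2.1 hg.2.2.2 hg.2.1).symm
  · intro s _; rw [uSL_eq_u]

theorem sum_psS (γ : MulChar F ℂ) : ∑ s : F, psS γ ((slDatum F).u s) = 2 * (Fintype.card F : ℂ) := by
  rw [← Finset.add_sum_erase _ _ (Finset.mem_univ (0 : F)), (slDatum F).u_zero, psS_one,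
    Finset.sum_congr rfl (fun s hs => (congrArg (psS γ) (uSL_eq_u s).symm).trans (psS_u γ (Finset.ne_of_mem_erase hs))),
    Finset.sum_const, Finset.card_erase_of_mem (Finset.mem_univ _), Finset.card_univ, nsmul_eq_mul, mul_one,
    Nat.cast_sub (Fintype.card_pos (α := F)), Nat.cast_one]
  ring

theorem sum_half {θ θ' : SL(2, F) → ℂ} {γ : MulChar F ℂ} (hθ : IsIrrCharacter SL(2, F) θ)
    (hθ' : IsIrrCharacter SL(2, F) θ') (hne : θ ≠ θ') (h : psS γ = θ + θ') :
    ∑ s : F, θ ((slDatum F).u s) = (Fintype.card F : ℂ) ∧ ∑ s : F, θ' ((slDatum F).u s) = (Fintype.card F : ℂ) := by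
  have hc := Char.IsIrrCharacter.isCharacter hθ
  have hc' := Char.IsIrrCharacter.isCharacter hθ'
  obtain ⟨m, hm⟩ := sum_u_nat (slDatum F) hc
  obtain ⟨m', hm'⟩ := sum_u_nat (slDatum F) hc'
  have hq : (Fintype.card F : ℂ) ≠ 0 := Nat.cast_ne_zero.2 Fintype.card_ne_zero
  have hm0 : m ≠ 0 := by
    rintro rfl
    refine not_cusp_of_psS hc (γ := γ) ?_ (hm.trans (by simp))
    rw [h, Char.classInner_add_right, Char.classInner_irr_self hθ, Char.classInner_irr_of_ne hθ hθ' hne, add_zero]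
    exact one_ne_zero
  have hm0' : m' ≠ 0 := by
    rintro rfl
    refine not_cusp_of_psS hc' (γ := γ) ?_ (hm'.trans (by simp))
    rw [h, Char.classInner_add_right, Char.classInner_irr_self hθ', Char.classInner_irr_of_ne hθ' hθ hne.symm, zero_add]
    exact one_ne_zero
  have hsum := sum_psS γ
  simp only [h, Pi.add_apply, Finset.sum_add_distrib, hm, hm', ← mul_add, mul_comm (2 : ℂ)] at hsum
  have h2 : m + m' = 2 := by exact_mod_cast mul_left_cancel₀ hq hsum
  rw [hm, hm', show m = 1 by omega, show m' = 1 by omega, Nat.cast_one, mul_one]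
  exact ⟨rfl, rfl⟩

/-- Let F be a finite field with q elements, q odd, q ≥ 5, U the upper unitriangular subgroup of SL₂ over F, and χ an irreducible complex character. The sum of the values of χ over U equals 2q, q, 0, q, 0 according as the degree of χ is q + 1, q, q − 1, (q + 1)/2, (q − 1)/2; so among these five degrees the sum vanishes exactly for the degrees q − 1 and (q − 1)/2, i.e. the irreducible characters of those two degrees are the ones whose restriction to U does not contain the trivial character (the cuspidal characters), while those of degree q + 1, q and (q + 1)/2 are not cuspidal. -/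
theorem result {F : Type*} [Field F] [Fintype F] [DecidableEq F] (hodd : Odd (Fintype.card F)) (hq : 5 ≤ Fintype.card F)
    (χ : Matrix.SpecialLinearGroup (Fin 2) F → ℂ) (hχ : Cfsg.IsIrrCharacter (Matrix.SpecialLinearGroup (Fin 2) F) χ) :
    (χ 1 = (Fintype.card F : ℂ) + 1 →
      (∑ g : Matrix.SpecialLinearGroup (Fin 2) F, if (g : Matrix (Fin 2) (Fin 2) F) 1 0 = 0 ∧ (g : Matrix (Fin 2) (Fin 2) F) 0 0 = 1 ∧ (g : Matrix (Fin 2) (Fin 2) F) 1 1 = 1 then χ g else 0) = 2 * (Fintype.card F : ℂ)) ∧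
    (χ 1 = (Fintype.card F : ℂ) →
      (∑ g : Matrix.SpecialLinearGroup (Fin 2) F, if (g : Matrix (Fin 2) (Fin 2) F) 1 0 = 0 ∧ (g : Matrix (Fin 2) (Fin 2) F) 0 0 = 1 ∧ (g : Matrix (Fin 2) (Fin 2) F) 1 1 = 1 then χ g else 0) = (Fintype.card F : ℂ)) ∧
    (χ 1 = (Fintype.card F : ℂ) - 1 →
      (∑ g : Matrix.SpecialLinearGroup (Fin 2) F, if (g : Matrix (Fin 2) (Fin 2) F) 1 0 = 0 ∧ (g : Matrix (Fin 2) (Fin 2) F) 0 0 = 1 ∧ (g : Matrix (Fin 2) (Fin 2) F) 1 1 = 1 then χ g else 0) = 0) ∧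
    (χ 1 = (((Fintype.card F + 1) / 2 : ℕ) : ℂ) →
      (∑ g : Matrix.SpecialLinearGroup (Fin 2) F, if (g : Matrix (Fin 2) (Fin 2) F) 1 0 = 0 ∧ (g : Matrix (Fin 2) (Fin 2) F) 0 0 = 1 ∧ (g : Matrix (Fin 2) (Fin 2) F) 1 1 = 1 then χ g else 0) = (Fintype.card F : ℂ)) ∧
    (χ 1 = (((Fintype.card F - 1) / 2 : ℕ) : ℂ) →
      (∑ g : Matrix.SpecialLinearGroup (Fin 2) F, if (g : Matrix (Fin 2) (Fin 2) F) 1 0 = 0 ∧ (g : Matrix (Fin 2) (Fin 2) F) 0 0 = 1 ∧ (g : Matrix (Fin 2) (Fin 2) F) 1 1 = 1 then χ g else 0) = 0) := by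
  classical
  simp only [sum_if_eq]
  have hcr : ringChar F ≠ 2 := fun hc => two_ne_zero_of_odd hodd (by
    haveI := ringChar.of_eq hc
    exact CharTwo.two_eq_zero)
  obtain ⟨e, he⟩ := FiniteField.exists_nonsquare hcr
  obtain ⟨m, hm⟩ : ∃ m, Fintype.card F = 2 * m + 1 := hodd
  set q := Fintype.card F with hqd
  have h1 : (((q + 1) / 2 : ℕ) : ℂ) * 2 = (q : ℂ) + 1 := by
    rw [show (q + 1) / 2 = m + 1 by omega, hm]; push_cast; ring
  have h2 : (((q - 1) / 2 : ℕ) : ℂ) * 2 = (q : ℂ) - 1 := by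
    rw [show (q - 1) / 2 = m by omega, hm]; push_cast; ring
  have hnat : ∀ a : ℕ, a ≤ 4 → (q : ℂ) ≠ a := fun a ha h => by
    have : q = a := by exact_mod_cast h
    omega
  rcases kinds he hχ with rfl | rfl | ⟨γ, -, rfl⟩ | ⟨γ, θ, -, -, hs, hor⟩ | ⟨ψ, hψ, hc, rfl⟩ | ⟨ψ, θ, hψ, hc, hs, hor⟩
  · simp only [Pi.one_apply]
    refine ⟨fun h => absurd (show (q : ℂ) = (0 : ℕ) by push_cast; linear_combination -h) (hnat 0 (by norm_num)),
      fun h => absurd (show (q : ℂ) = (1 : ℕ) by push_cast; linear_combination -h) (hnat 1 (by norm_num)),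
      fun h => absurd (show (q : ℂ) = (2 : ℕ) by push_cast; linear_combination -h) (hnat 2 (by norm_num)),
      fun h => absurd (show (q : ℂ) = (1 : ℕ) by push_cast; linear_combination -h1 - 2 * h) (hnat 1 (by norm_num)),
      fun h => absurd (show (q : ℂ) = (3 : ℕ) by push_cast; linear_combination -h2 - 2 * h) (hnat 3 (by norm_num))⟩
  · rw [stS_one, ← hqd]
    refine ⟨fun h => absurd h (fun h => one_ne_zero (α := ℂ) (by linear_combination -h)), fun _ => ?_,
      fun h => absurd h (fun h => one_ne_zero (α := ℂ) (by linear_combination h)),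
      fun h => absurd (show (q : ℂ) = (1 : ℕ) by push_cast; linear_combination h1 + 2 * h) (hnat 1 (by norm_num)),
      fun h => absurd (show (q : ℂ) + 1 = 0 by linear_combination h2 + 2 * h) (Nat.cast_add_one_ne_zero q)⟩
    simp only [stS, Pi.sub_apply, Pi.one_apply, Finset.sum_sub_distrib, sum_psS, Finset.sum_const, Finset.card_univ,
      nsmul_eq_mul, mul_one, ← hqd]
    ring
  · rw [psS_one, ← hqd]
    refine ⟨fun _ => sum_psS γ, fun h => absurd h (fun h => one_ne_zero (α := ℂ) (by linear_combination h)),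
      fun h => absurd h (fun h => two_ne_zero (α := ℂ) (by linear_combination h)),
      fun h => absurd (show (q : ℂ) + 1 = 0 by linear_combination h1 + 2 * h) (Nat.cast_add_one_ne_zero q),
      fun h => ?_⟩
    exfalso
    have hh : (q : ℂ) + 3 = 0 := by linear_combination h2 + 2 * h
    exact Nat.cast_ne_zero.2 (show q + 3 ≠ 0 by omega) (by push_cast; exact hh)
  · have hd : 2 * χ 1 = (q : ℂ) + 1 := by rw [half_one hs hor, psS_one]
    obtain ⟨h1s, h2s, h3s, h4s⟩ := hs
    have key : ∑ s : F, χ ((slDatum F).u s) = (q : ℂ) := by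
      obtain ⟨k1, k2⟩ := sum_half h1s h2s h3s.symm h4s
      rcases hor with rfl | rfl
      · exact k1
      · exact k2
    refine ⟨fun h => absurd (show (q : ℂ) + 1 = 0 by linear_combination -(2 * h) + hd) (Nat.cast_add_one_ne_zero q),
      fun h => absurd (show (q : ℂ) = (1 : ℕ) by push_cast; linear_combination -(2 * h) + hd) (hnat 1 (by norm_num)),
      fun h => absurd (show (q : ℂ) = (3 : ℕ) by push_cast; linear_combination -(2 * h) + hd) (hnat 3 (by norm_num)),
      fun _ => key, fun h => absurd (show (1 : ℂ) = 0 by linear_combination (h2 + 2 * h - hd) / 2) one_ne_zero⟩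
  · have hd := res_cusp_one hψ hc
    rw [← hqd] at hd
    refine ⟨fun h => absurd (show (2 : ℂ) = 0 by linear_combination hd - h) two_ne_zero,
      fun h => absurd (show (1 : ℂ) = 0 by linear_combination hd - h) one_ne_zero,
      fun _ => cusp_res hc,
      fun h => absurd (show (q : ℂ) = (3 : ℕ) by push_cast; linear_combination h1 + 2 * h - 2 * hd) (hnat 3 (by norm_num)),
      fun _ => cusp_res hc⟩
  · have hd : 2 * χ 1 = (q : ℂ) - 1 := by rw [half_one hs hor, res_cusp_one hψ hc]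
    obtain ⟨h1s, h2s, -, h4s⟩ := hs
    obtain ⟨c1, c2⟩ := cusp_of_add (Char.IsIrrCharacter.isCharacter h1s) (Char.IsIrrCharacter.isCharacter h2s)
      (h4s ▸ cusp_res hc)
    have key : ∑ s : F, χ ((slDatum F).u s) = 0 := by
      rcases hor with rfl | rfl
      · exact c1
      · exact c2
    refine ⟨fun h => absurd (show (q : ℂ) + 3 = 0 by linear_combination -(2 * h) + hd) (by exact_mod_cast (by omega : q + 3 ≠ 0)),
      fun h => absurd (show (q : ℂ) + 1 = 0 by linear_combination -(2 * h) + hd) (Nat.cast_add_one_ne_zero q),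
      fun _ => key,
      fun h => absurd (show (1 : ℂ) = 0 by linear_combination (-h1 - 2 * h + hd) / 2) one_ne_zero, fun _ => key⟩

end Cfsg.Agent.S2438
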