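import Cfsg.Statements.S2439
import Cfsg.Agent.Lib.SL2Cusp.Census
import Cfsg.Agent.Lib.SL2Cusp.Kinds
import Cfsg.Agent.Lib.Blocks.Osima
import Cfsg.Agent.Lib.Blocks.Defect
import Cfsg.Agent.Lib.CentralChar.Congr

set_option autoImplicit false
open Cfsg

namespace Cfsg.Agent.S2439

open Cfsg.Agent GLTwoChar Blocks Matrix
open scoped MatrixGroups ComplexConjugate

variable {F : Type*} [Field F] [Fintype F] [DecidableEq F] (p : ℕ) [Fact p.Prime] [CharP F p]

include p in
theorem card_facts : p ∣ Fintype.card F ∧ ¬ p ∣ Fintype.card F + 1 ∧ ¬ p ∣ Fintype.card F - 1 := by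
  obtain ⟨f, hf, hq⟩ := GLOrder.exists_card_eq_pow (F := F) p
  rw [Nat.card_eq_fintype_card] at hq
  have hp := (Fact.out : p.Prime)
  have hq1 := Fintype.one_lt_card (α := F)
  have hpq : p ∣ Fintype.card F := hq ▸ dvd_pow_self p hf.ne'
  refine ⟨hpq, fun h => hp.not_dvd_one ((Nat.dvd_add_right hpq).1 h), fun h => hp.not_dvd_one ?_⟩
  have := Nat.dvd_sub hpq h
  rwa [show Fintype.card F - (Fintype.card F - 1) = 1 by omega] at this

theorem odd_card (hp : p ≠ 2) : Odd (Fintype.card F) := by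
  obtain ⟨f, hf, hq⟩ := GLOrder.exists_card_eq_pow (F := F) p
  rw [Nat.card_eq_fintype_card] at hq
  rw [hq]
  exact ((Fact.out : p.Prime).odd_of_ne_two hp).pow

variable {p}

/-- Only the Steinberg character has degree divisible by `p`. -/
theorem eq_st_or_not_dvd (hp : p ≠ 2) (χ : IrrCharacter SL(2, F)) :
    (χ : SL(2, F) → ℂ) = stS F ∨
      ((χ : SL(2, F) → ℂ) 1 ≠ (Fintype.card F : ℂ) ∧ ¬ p ∣ charDegree (χ : SL(2, F) → ℂ)) := by
  classical
  have hodd := odd_card (F := F) p hp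
  obtain ⟨hpq, hp1, hm1⟩ := card_facts (F := F) p
  obtain ⟨m, hm⟩ := id hodd
  have hspec := SL2Cusp.kind_spec hodd χ
  by_cases hk : SL2Cusp.kindIdx χ = 1
  · left
    unfold SL2Cusp.kindIdx at hk
    split_ifs at hk <;> first | assumption | exact absurd hk (by decide)
  · right
    have key : ¬ p ∣ SL2Cusp.kindDeg (Fintype.card F) (SL2Cusp.kindIdx χ) := by
      revert hk
      generalize SL2Cusp.kindIdx χ = i
      intro hk
      fin_cases i <;> simp [SL2Cusp.kindDeg] at hk ⊢
      · exact (Fact.out : p.Prime).ne_one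
      · exact hp1
      · exact fun h => hp1 (by
          have := h.mul_left 2
          rwa [show 2 * ((Fintype.card F + 1) / 2) = Fintype.card F + 1 by omega] at this)
      · exact hm1
      · exact fun h => hm1 (by
          have := h.mul_left 2
          rwa [show 2 * ((Fintype.card F - 1) / 2) = Fintype.card F - 1 by omega] at this)
    refine ⟨fun h => key ?_, by rwa [SL2Cusp.charDegree_eq hspec]⟩
    rw [hspec, Nat.cast_inj] at h
    rw [h]; exact hpq

theorem st_neg_one (hp : p ≠ 2) : stS F (-1 : SL(2, F)) = (Fintype.card F : ℂ) := by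
  have hodd := odd_card (F := F) p hp
  rw [stS, Pi.sub_apply, SL2Cusp.psS_neg, psS_one, Pi.one_apply,
    MulChar.one_apply (isUnit_iff_ne_zero.2 (neg_ne_zero.2 one_ne_zero))]
  ring

/-- An element commuting with an element of order `p` has trace `±2`. -/
theorem index_cases (hp : p ≠ 2) (g : SL(2, F)) :
    (∃ u : SL(2, F), u ^ p = 1 ∧ (g = u ∨ g = -u)) ∨
      p ∣ (Subgroup.centralizer ({g} : Set SL(2, F))).index := by
  classical
  obtain ⟨hpq, -, -⟩ := card_facts (F := F) p
  have h2 : (2 : F) ≠ 0 := GLTwoChar.two_ne_zero_of_odd (odd_card p hp)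
  by_cases h4 : PSL2.tr g ^ 2 = 4
  · left
    have key : ∀ u : SL(2, F), PSL2.tr u = 2 → u ^ p = 1 := by
      intro u hu
      by_cases hs : IsScalar (u : Matrix (Fin 2) (Fin 2) F)
      · obtain ⟨a1, a2, a3⟩ := hs
        have hu1 : u = 1 := by
          have hh : u 0 0 = 1 := by
            unfold PSL2.tr at hu
            rw [← a3] at hu
            exact mul_left_cancel₀ h2 (by linear_combination hu)
          ext i j
          fin_cases i <;> fin_cases j <;> simp [a1, a2, ← a3, hh]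
        rw [hu1, one_pow]
      · exact orderOf_dvd_iff_pow_eq_one.1 (dvd_of_eq ((orderOf_eq_char_iff p u).2 ⟨hu, hs⟩))
    rcases sq_eq_sq_iff_eq_or_eq_neg.1 (show PSL2.tr g ^ 2 = (2 : F) ^ 2 by linear_combination h4) with h | h
    · exact ⟨g, key g h, Or.inl rfl⟩
    · exact ⟨-g, key _ (by rw [PSL2.tr_neg, h, neg_neg]), Or.inr (neg_neg g).symm⟩
  · right
    have hnd : ¬ p ∣ Nat.card (Subgroup.centralizer ({g} : Set SL(2, F))) := by
      intro hd
      obtain ⟨x, hx⟩ := exists_prime_orderOf_dvd_card' p hd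
      have hx' : orderOf (x : SL(2, F)) = p := by rw [Subgroup.orderOf_coe, hx]
      obtain ⟨ht, hs⟩ := (orderOf_eq_char_iff p _).1 hx'
      obtain ⟨b, hb, hc⟩ := exists_isConj_uSL ht hs
      obtain ⟨k, hk⟩ := isConj_iff.1 hc
      have hgx : Commute (x : SL(2, F)) g := GLOrder.mem_centralizer_singleton.1 x.2
      have hmem : k * g * k⁻¹ ∈ Subgroup.centralizer ({uSL b} : Set SL(2, F)) := by
        rw [GLOrder.mem_centralizer_singleton, ← hk]
        exact (Commute.conj_iff k).2 hgx.symm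
      obtain ⟨e1, e2⟩ := (mem_centralizer_uSL hb _).1 hmem
      apply h4
      rw [← PSL2.tr_conj g k]
      have hd2 := PSL2.det_eq (k * g * k⁻¹)
      unfold PSL2.tr
      rw [e1, e2, mul_zero, sub_zero] at hd2
      rw [e2]
      linear_combination 4 * hd2
    have hdvd : p ∣ (Subgroup.centralizer ({g} : Set SL(2, F))).index *
        Nat.card (Subgroup.centralizer ({g} : Set SL(2, F))) := by
      rw [Subgroup.index_mul_card, GLOrder.card_SL_two', Nat.card_eq_fintype_card (α := F)]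
      exact (hpq.mul_right _).mul_right _
    exact ((Fact.out : p.Prime).dvd_mul.1 hdvd).resolve_right hnd

theorem not_dvd_index_uSL (hp : p ≠ 2) :
    ¬ p ∣ (Subgroup.centralizer ({uSL (1 : F)} : Set SL(2, F))).index := by
  obtain ⟨hpq, hp1, hm1⟩ := card_facts (F := F) p
  intro h
  have hC := (Subgroup.centralizer ({uSL (1 : F)} : Set SL(2, F))).index_mul_card
  have hroots : Nat.card {a : F // a * a = 1} = 2 := by
    have h2 : (2 : F) ≠ 0 := GLTwoChar.two_ne_zero_of_odd (odd_card p hp)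
    rw [Nat.card_eq_two_iff]
    refine ⟨⟨1, one_mul 1⟩, ⟨-1, by ring⟩, fun e => h2 ?_, Set.eq_univ_of_forall fun a => ?_⟩
    · have := congrArg Subtype.val e
      simp at this
      linear_combination this
    · rcases mul_self_eq_one_iff.1 a.2 with h' | h' <;> simp [Subtype.ext_iff, h']
  rw [Nat.card_congr (centralizerEquiv one_ne_zero), Nat.card_prod, hroots, GLOrder.card_SL_two',
    Nat.card_eq_fintype_card (α := F)] at hC
  have h' : (Subgroup.centralizer ({uSL (1 : F)} : Set SL(2, F))).index * 2 =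
      (Fintype.card F + 1) * (Fintype.card F - 1) :=
    Nat.eq_of_mul_eq_mul_left Fintype.card_pos (by linarith [hC])
  have hd : p ∣ (Fintype.card F + 1) * (Fintype.card F - 1) := h' ▸ h.mul_right 2
  exact ((Fact.out : p.Prime).dvd_mul.1 hd).elim hp1 hm1

variable {M : Ideal AlgInt}

theorem two_notMemI (hp : p ≠ 2) (hM : IsPModular p M) : ¬ MemLocalIdeal M (2 : ℂ) := by
  have := not_memI_natCast hM (n := 2) fun h => hp ((Nat.prime_dvd_prime_iff_eq Fact.out Nat.prime_two).1 h)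
  simpa using this

/-- The sign of the central element. -/
theorem sign_cases (χ : IrrCharacter SL(2, F)) :
    ∃ c : ℂ, (c = 1 ∨ c = -1) ∧ ∀ g, (χ : SL(2, F) → ℂ) (-g) = c * (χ : SL(2, F) → ℂ) g := by
  obtain ⟨c, hc, h⟩ := SL2Cusp.neg_apply χ.2
  exact ⟨c, mul_self_eq_one_iff.1 hc, h⟩

theorem sameBlock_of_sign (hp : p ≠ 2) (hM : IsPModular p M) (χ ψ : IrrCharacter SL(2, F)) {c : ℂ}
    (hc : c = 1 ∨ c = -1)
    (hχ : ¬ p ∣ charDegree (χ : SL(2, F) → ℂ)) (hψ : ¬ p ∣ charDegree (ψ : SL(2, F) → ℂ))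
    (hcχ : ∀ g, (χ : SL(2, F) → ℂ) (-g) = c * (χ : SL(2, F) → ℂ) g)
    (hcψ : ∀ g, (ψ : SL(2, F) → ℂ) (-g) = c * (ψ : SL(2, F) → ℂ) g) :
    SameBlock M (χ : SL(2, F) → ℂ) (ψ : SL(2, F) → ℂ) := by
  intro g
  have hcint : IsIntegral ℤ c := by
    rcases hc with rfl | rfl
    · exact isIntegral_one
    · exact isIntegral_one.neg
  have hinv : ∀ φ : IrrCharacter SL(2, F), ¬ p ∣ charDegree (φ : SL(2, F) → ℂ) →
      MemLocalRing M ((φ : SL(2, F) → ℂ) 1)⁻¹ := fun φ h => by
    rw [← charDegree_cast φ]; exact memR_natCast_inv hM h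
  have hint : ∀ (φ : IrrCharacter SL(2, F)) (x : SL(2, F)), MemLocalRing M ((φ : SL(2, F) → ℂ) x) := fun φ x =>
    memR_of_isIntegral hM (Char.IsCharacter.isIntegral (Char.IsIrrCharacter.isCharacter φ.2) x)
  simp only [centralChar, mul_div_assoc]
  rw [← mul_sub]
  rcases index_cases hp g with ⟨u, hu, hg⟩ | hd
  · refine memI_mul_left hM (memR_natCast hM _) ?_
    have key : ∀ φ : IrrCharacter SL(2, F), ¬ p ∣ charDegree (φ : SL(2, F) → ℂ) →
        MemLocalIdeal M ((φ : SL(2, F) → ℂ) u / (φ : SL(2, F) → ℂ) 1 - 1) := by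
      intro φ h
      have he : (φ : SL(2, F) → ℂ) u / (φ : SL(2, F) → ℂ) 1 - 1 =
          ((φ : SL(2, F) → ℂ) u - (φ : SL(2, F) → ℂ) 1) * ((φ : SL(2, F) → ℂ) 1)⁻¹ := by
        rw [sub_mul, mul_inv_cancel₀ (irr_one_ne_zero φ), div_eq_mul_inv]
      rw [he]
      exact memI_mul_right hM (CentralChar.memI_sub_apply_one hM (Char.IsIrrCharacter.isCharacter φ.2) (k := 1)
        (by rwa [pow_one])) (hinv φ h)
    have hu' := memI_sub hM (key χ hχ) (key ψ hψ)
    rw [sub_sub_sub_cancel_right] at hu'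
    rcases hg with rfl | rfl
    · exact hu'
    · rw [hcχ, hcψ, mul_div_assoc, mul_div_assoc, ← mul_sub]
      exact memI_mul_left hM (memR_of_isIntegral hM hcint) hu'
  · refine memI_mul_right hM ((memI_natCast hM).2 hd) ?_
    exact memR_sub hM (by rw [div_eq_mul_inv]; exact memR_mul hM (hint χ g) (hinv χ hχ))
      (by rw [div_eq_mul_inv]; exact memR_mul hM (hint ψ g) (hinv ψ hψ))

theorem sign_of_sameBlock (hp : p ≠ 2) (hM : IsPModular p M) (χ ψ : IrrCharacter SL(2, F)) {c d : ℂ}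
    (hc : c = 1 ∨ c = -1) (hd : d = 1 ∨ d = -1)
    (hcχ : ∀ g, (χ : SL(2, F) → ℂ) (-g) = c * (χ : SL(2, F) → ℂ) g)
    (hdψ : ∀ g, (ψ : SL(2, F) → ℂ) (-g) = d * (ψ : SL(2, F) → ℂ) g)
    (h : SameBlock M (χ : SL(2, F) → ℂ) (ψ : SL(2, F) → ℂ)) : c = d := by
  have hidx : (Subgroup.centralizer ({(-1 : SL(2, F))} : Set SL(2, F))).index = 1 := by
    rw [Subgroup.index_eq_one, eq_top_iff]
    intro x _
    exact GLOrder.mem_centralizer_singleton.2 (Commute.neg_one_right x)
  have h1 := h (-1)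
  simp only [centralChar, hidx, Nat.cast_one, one_mul, hcχ, hdψ] at h1
  rw [mul_div_assoc, mul_div_assoc, div_self (irr_one_ne_zero χ), div_self (irr_one_ne_zero ψ), mul_one, mul_one] at h1
  rcases hc with rfl | rfl <;> rcases hd with rfl | rfl
  · rfl
  · rw [show (1 : ℂ) - -1 = 2 by ring] at h1; exact absurd h1 (two_notMemI hp hM)
  · rw [show (-1 : ℂ) - 1 = -2 by ring] at h1
    exact absurd (by simpa using memI_neg h1) (two_notMemI hp hM)
  · rfl

theorem not_sameBlock_st (hp : p ≠ 2) (hM : IsPModular p M) (χ : IrrCharacter SL(2, F))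
    (hχ : ¬ p ∣ charDegree (χ : SL(2, F) → ℂ)) : ¬ SameBlock M (stS F) (χ : SL(2, F) → ℂ) := by
  intro h
  have hu : (uSL (1 : F)) ^ p = 1 :=
    orderOf_dvd_iff_pow_eq_one.1 (dvd_of_eq ((orderOf_eq_char_iff p _).2
      ⟨by simp [coe_uSL, one_add_one_eq_two], not_isScalar_uSL one_ne_zero⟩))
  have h1 := h (uSL 1)
  have hst : stS F (uSL (1 : F)) = 0 := by
    rw [stS, Pi.sub_apply, SL2Cusp.psS_u _ one_ne_zero, Pi.one_apply, sub_self]
  simp only [centralChar, hst, mul_zero, zero_div, zero_sub] at h1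
  have h2 := memI_neg h1
  rw [neg_neg, mul_div_assoc] at h2
  have hR : MemLocalRing M ((χ : SL(2, F) → ℂ) (uSL 1) / (χ : SL(2, F) → ℂ) 1) := by
    rw [div_eq_mul_inv, ← charDegree_cast χ]
    exact memR_mul hM (memR_of_isIntegral hM (Char.IsCharacter.isIntegral (Char.IsIrrCharacter.isCharacter χ.2) _))
      (memR_natCast_inv hM hχ)
  have h3 := (memI_or_memI hM (memR_natCast hM _) hR h2).resolve_left (not_memI_natCast hM (not_dvd_index_uSL hp))
  have h4 : MemLocalIdeal M ((χ : SL(2, F) → ℂ) (uSL 1) / (χ : SL(2, F) → ℂ) 1 * (χ : SL(2, F) → ℂ) 1) := by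
    refine memI_mul_right hM h3 ?_
    rw [← charDegree_cast χ]; exact memR_natCast hM _
  rw [div_mul_cancel₀ _ (irr_one_ne_zero χ)] at h4
  have h5 := memI_sub hM h4 (CentralChar.memI_sub_apply_one hM (Char.IsIrrCharacter.isCharacter χ.2) (k := 1)
    (g := uSL (1 : F)) (by rwa [pow_one]))
  rw [sub_sub_cancel, ← charDegree_cast χ] at h5
  exact not_memI_natCast hM hχ h5

open Classical in
theorem sum_sign [Fintype (IrrCharacter SL(2, F))] (hp : p ≠ 2) {c : ℂ} (hc : c = 1 ∨ c = -1) :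
    2 * ∑ χ ∈ Finset.univ.filter (fun χ : IrrCharacter SL(2, F) => (χ : SL(2, F) → ℂ) (-1) = c * (χ : SL(2, F) → ℂ) 1),
      (χ : SL(2, F) → ℂ) 1 ^ 2 = (Nat.card SL(2, F) : ℂ) := by
  have h2 : (2 : F) ≠ 0 := GLTwoChar.two_ne_zero_of_odd (odd_card p hp)
  have hne : (-1 : SL(2, F)) ≠ 1 := fun h => h2 (by
    have := congrArg (fun g : SL(2, F) => (g : Matrix (Fin 2) (Fin 2) F) 0 0) h
    simp at this
    linear_combination -this)
  have h1 := Char.sum_sq_degrees (G := SL(2, F))
  have h3 := Char.sum_degree_mul_apply (G := SL(2, F)) (-1)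
  rw [if_neg hne] at h3
  have h4 : ∀ χ : IrrCharacter SL(2, F), (χ : SL(2, F) → ℂ) 1 ^ 2 + c * ((χ : SL(2, F) → ℂ) 1 * (χ : SL(2, F) → ℂ) (-1)) =
      if (χ : SL(2, F) → ℂ) (-1) = c * (χ : SL(2, F) → ℂ) 1 then 2 * (χ : SL(2, F) → ℂ) 1 ^ 2 else 0 := by
    intro χ
    obtain ⟨d, hd, h⟩ := sign_cases χ
    rw [h 1]
    have hcc : c * c = 1 := by rcases hc with rfl | rfl <;> ring
    split_ifs with hh
    · have := mul_right_cancel₀ (irr_one_ne_zero χ) hh
      subst this
      linear_combination ((χ : SL(2, F) → ℂ) 1) ^ 2 * hcc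
    · have : d = -c := by
        rcases hc with rfl | rfl <;> rcases hd with rfl | rfl <;> first | (exfalso; exact hh rfl) | norm_num
      subst this
      linear_combination -((χ : SL(2, F) → ℂ) 1) ^ 2 * hcc
  rw [Finset.mul_sum, Finset.sum_filter, ← Finset.sum_congr rfl (fun χ _ => h4 χ), Finset.sum_add_distrib,
    ← Finset.mul_sum, h3, h1, mul_zero, add_zero]

theorem isDefectGroup_of_coeff (hM : IsPModular p M) {B : Set (IrrCharacter SL(2, F))}
    (h1 : MemLocalRing M (blockCoeff B 1)) (h2 : ¬ MemLocalIdeal M (blockCoeff B 1))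
    (P : Sylow p SL(2, F)) : IsDefectGroup p M B (P : Subgroup SL(2, F)) := by
  have hC : Subgroup.centralizer ({(1 : SL(2, F))} : Set SL(2, F)) = ⊤ :=
    eq_top_iff.2 fun x _ => GLOrder.mem_centralizer_singleton.2 (Commute.one_right x)
  have hidx : (Subgroup.centralizer ({(1 : SL(2, F))} : Set SL(2, F))).index = 1 := by rw [hC, Subgroup.index_top]
  refine ⟨1, ⟨h1, h2, fun χ _ => ?_⟩, P.subtype (hC ▸ le_top), ?_⟩
  · simp only [centralChar, hidx, Nat.cast_one, one_mul, div_self (irr_one_ne_zero χ)]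
    exact not_memI_one hM
  · rw [Sylow.coe_subtype, Subgroup.map_subgroupOf_eq_of_le (hC ▸ le_top)]

/-- Let F be a finite field with q elements of odd characteristic p, and M a maximal ideal of the algebraic integers containing p. Then SL₂ over F has exactly three p-blocks relative to M: the irreducible character of degree q (the Steinberg character) alone; the other irreducible characters taking the same value at −1 as at 1 (the principal block); and the irreducible characters χ with χ(−1) = −χ(1). Every Sylow p-subgroup is a defect group of each of the last two blocks. -/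
theorem result {F : Type*} [Field F] [Fintype F] (p : ℕ) [Fact p.Prime] [CharP F p] (hp : p ≠ 2)
    (M : Ideal Cfsg.AlgInt) (hM : Cfsg.IsPModular p M) :
    (∀ B : Set (Cfsg.IrrCharacter (Matrix.SpecialLinearGroup (Fin 2) F)), Cfsg.IsPBlock M B ↔
      (B = {χ : Cfsg.IrrCharacter (Matrix.SpecialLinearGroup (Fin 2) F) | (χ : Matrix.SpecialLinearGroup (Fin 2) F → ℂ) 1 = (Fintype.card F : ℂ)} ∨
       B = {χ : Cfsg.IrrCharacter (Matrix.SpecialLinearGroup (Fin 2) F) | (χ : Matrix.SpecialLinearGroup (Fin 2) F → ℂ) (-1) = (χ : Matrix.SpecialLinearGroup (Fin 2) F → ℂ) 1 ∧ (χ : Matrix.SpecialLinearGroup (Fin 2) F → ℂ) 1 ≠ (Fintype.card F : ℂ)} ∨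
       B = {χ : Cfsg.IrrCharacter (Matrix.SpecialLinearGroup (Fin 2) F) | (χ : Matrix.SpecialLinearGroup (Fin 2) F → ℂ) (-1) = -(χ : Matrix.SpecialLinearGroup (Fin 2) F → ℂ) 1})) ∧
    Nat.card {B : Set (Cfsg.IrrCharacter (Matrix.SpecialLinearGroup (Fin 2) F)) // Cfsg.IsPBlock M B} = 3 ∧
    ∀ P : Sylow p (Matrix.SpecialLinearGroup (Fin 2) F),
      Cfsg.IsDefectGroup p M {χ : Cfsg.IrrCharacter (Matrix.SpecialLinearGroup (Fin 2) F) | (χ : Matrix.SpecialLinearGroup (Fin 2) F → ℂ) (-1) = (χ : Matrix.SpecialLinearGroup (Fin 2) F → ℂ) 1 ∧ (χ : Matrix.SpecialLinearGroup (Fin 2) F → ℂ) 1 ≠ (Fintype.card F : ℂ)} (P : Subgroup (Matrix.SpecialLinearGroup (Fin 2) F)) ∧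
      Cfsg.IsDefectGroup p M {χ : Cfsg.IrrCharacter (Matrix.SpecialLinearGroup (Fin 2) F) | (χ : Matrix.SpecialLinearGroup (Fin 2) F → ℂ) (-1) = -(χ : Matrix.SpecialLinearGroup (Fin 2) F → ℂ) 1} (P : Subgroup (Matrix.SpecialLinearGroup (Fin 2) F)) := by
  classical
  have := Fintype.ofFinite (IrrCharacter (Matrix.SpecialLinearGroup (Fin 2) F))
  have hodd := odd_card (F := F) p hp
  obtain ⟨hpq, hp1, hm1⟩ := card_facts (F := F) p
  have hq1 := Fintype.one_lt_card (α := F)
  set B0 : Set (IrrCharacter SL(2, F)) := {χ | (χ : SL(2, F) → ℂ) 1 = (Fintype.card F : ℂ)} with hB0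
  set B1 : Set (IrrCharacter SL(2, F)) :=
    {χ | (χ : SL(2, F) → ℂ) (-1) = (χ : SL(2, F) → ℂ) 1 ∧ (χ : SL(2, F) → ℂ) 1 ≠ (Fintype.card F : ℂ)} with hB1
  set B2 : Set (IrrCharacter SL(2, F)) := {χ | (χ : SL(2, F) → ℂ) (-1) = -(χ : SL(2, F) → ℂ) 1} with hB2
  have hst : ∀ χ : IrrCharacter SL(2, F), (χ : SL(2, F) → ℂ) 1 = (Fintype.card F : ℂ) → (χ : SL(2, F) → ℂ) = stS F :=
    fun χ h => (eq_st_or_not_dvd hp χ).resolve_right fun h' => h'.1 h
  have hneg : ∀ χ : IrrCharacter SL(2, F), (χ : SL(2, F) → ℂ) 1 ≠ -(χ : SL(2, F) → ℂ) 1 := fun χ h =>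
    irr_one_ne_zero χ (by linear_combination h / 2)
  -- the block of each character
  have hblock : ∀ χ : IrrCharacter SL(2, F), blockOf M (χ : SL(2, F) → ℂ) =
      if (χ : SL(2, F) → ℂ) 1 = (Fintype.card F : ℂ) then B0
      else if (χ : SL(2, F) → ℂ) (-1) = (χ : SL(2, F) → ℂ) 1 then B1 else B2 := by
    intro χ
    obtain ⟨c, hc, hcχ⟩ := sign_cases χ
    ext ψ
    obtain ⟨d, hd, hdψ⟩ := sign_cases ψ
    show SameBlock M _ _ ↔ _
    split_ifs with h1 h2
    · rw [hst χ h1]
      refine ⟨fun h => ?_, fun h => ?_⟩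
      · rcases eq_st_or_not_dvd hp ψ with h' | h'
        · show (ψ : SL(2, F) → ℂ) 1 = _
          rw [h', stS_one]
        · exact absurd h (not_sameBlock_st hp hM ψ h'.2)
      · rw [hst ψ h]
        exact sameBlock_refl hM _
    all_goals
      have hχd := ((eq_st_or_not_dvd hp χ).resolve_left fun h => h1 (by rw [h, stS_one])).2
      have hc' := hcχ 1
    · have hc1 : c = 1 := mul_right_cancel₀ (irr_one_ne_zero χ) (by rw [← hc', h2, one_mul])
      refine ⟨fun h => ?_, fun h => ?_⟩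
      · have hψne : (ψ : SL(2, F) → ℂ) 1 ≠ (Fintype.card F : ℂ) := fun e =>
          not_sameBlock_st hp hM χ hχd (hst ψ e ▸ sameBlock_symm h)
        refine ⟨?_, hψne⟩
        rw [hdψ 1, ← sign_of_sameBlock hp hM χ ψ hc hd hcχ hdψ h, hc1, one_mul]
      · obtain ⟨hs, hne⟩ := h
        have hψd := ((eq_st_or_not_dvd hp ψ).resolve_left fun e => hne (by rw [e, stS_one])).2
        have hd1 : d = c := by
          rw [hc1]
          exact mul_right_cancel₀ (irr_one_ne_zero ψ) (by rw [← hdψ 1, hs, one_mul])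
        exact sameBlock_of_sign hp hM χ ψ hc hχd hψd hcχ (hd1 ▸ hdψ)
    · have hc1 : c = -1 := hc.resolve_left fun e => h2 (by rw [hc', e, one_mul])
      refine ⟨fun h => ?_, fun h => ?_⟩
      · show (ψ : SL(2, F) → ℂ) (-1) = _
        rw [hdψ 1, ← sign_of_sameBlock hp hM χ ψ hc hd hcχ hdψ h, hc1, neg_one_mul]
      · have hd1 : d = c := by
          rw [hc1]
          exact mul_right_cancel₀ (irr_one_ne_zero ψ) (by rw [← hdψ 1, neg_one_mul]; exact h)
        have hψd := ((eq_st_or_not_dvd hp ψ).resolve_left fun e => by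
          have h' : (ψ : SL(2, F) → ℂ) (-1) = -(ψ : SL(2, F) → ℂ) 1 := h
          rw [e, st_neg_one hp, stS_one] at h'
          exact Fintype.card_ne_zero (α := F) (by exact_mod_cast (show (Fintype.card F : ℂ) = 0 by linear_combination h' / 2))).2
        exact sameBlock_of_sign hp hM χ ψ hc hχd hψd hcχ (hd1 ▸ hdψ)
  -- representatives
  let χ0 : IrrCharacter SL(2, F) := ⟨stS F, stS_irr⟩
  let χ1 : IrrCharacter SL(2, F) := ⟨1, Char.isIrrCharacter_one⟩
  obtain ⟨χ2, hχ2⟩ : ∃ χ : IrrCharacter SL(2, F), (χ : SL(2, F) → ℂ) (-1) = -(χ : SL(2, F) → ℂ) 1 := by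
    by_contra hcon
    push Not at hcon
    have h := sum_sign (F := F) hp (c := -1) (Or.inr rfl)
    rw [Finset.filter_false_of_mem (fun χ _ => by rw [neg_one_mul]; exact hcon χ), Finset.sum_empty, mul_zero] at h
    exact Nat.card_pos.ne' (Nat.cast_eq_zero.1 h.symm)
  have e0 : blockOf M (χ0 : SL(2, F) → ℂ) = B0 := by rw [hblock, if_pos]; exact stS_one
  have e1 : blockOf M (χ1 : SL(2, F) → ℂ) = B1 := by
    rw [hblock, if_neg, if_pos]
    · rfl
    · show ¬ (1 : ℂ) = _
      intro h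
      have : Fintype.card F = 1 := by exact_mod_cast h.symm
      omega
  have e2 : blockOf M (χ2 : SL(2, F) → ℂ) = B2 := by
    rw [hblock, if_neg, if_neg]
    · intro h; exact hneg χ2 (h.symm.trans hχ2)
    · intro h
      have h' := hst χ2 h
      rw [h', st_neg_one hp, stS_one] at hχ2
      exact Fintype.card_ne_zero (α := F) (by exact_mod_cast (show (Fintype.card F : ℂ) = 0 by linear_combination hχ2 / 2))
  have hiff : ∀ B, IsPBlock M B ↔ (B = B0 ∨ B = B1 ∨ B = B2) := by
    intro B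
    constructor
    · rintro ⟨χ, rfl⟩
      rw [hblock]
      split_ifs <;> simp
    · rintro (rfl | rfl | rfl)
      · exact ⟨χ0, e0.symm⟩
      · exact ⟨χ1, e1.symm⟩
      · exact ⟨χ2, e2.symm⟩
  refine ⟨hiff, ?_, fun P => ?_⟩
  · have m1 : χ1 ∈ B1 := by rw [← e1]; exact sameBlock_refl hM _
    have m2 : χ2 ∈ B2 := hχ2
    have n01 : B0 ≠ B1 := fun h => (h ▸ m1 : χ1 ∈ B0) |> m1.2
    have n02 : B0 ≠ B2 := fun h => by
      have h' : (χ2 : SL(2, F) → ℂ) 1 = _ := (h ▸ m2 : χ2 ∈ B0)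
      have hh := hst χ2 h'
      rw [hh, st_neg_one hp, stS_one] at hχ2
      exact Fintype.card_ne_zero (α := F) (by exact_mod_cast (show (Fintype.card F : ℂ) = 0 by linear_combination hχ2 / 2))
    have n12 : B1 ≠ B2 := fun h => by
      have h' : χ2 ∈ B1 := h ▸ m2
      exact hneg χ2 (h'.1.symm.trans hχ2)
    rw [Nat.card_congr (Equiv.subtypeEquivRight (q := fun B => B ∈ ({B0, B1, B2} : Finset _))
      fun B => by rw [hiff]; simp), Nat.card_eq_fintype_card, Fintype.card_coe,
      Finset.card_insert_of_notMem (by simp [n01, n02]), Finset.card_pair n12]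
  · have hcoeff : ∀ B : Set (IrrCharacter SL(2, F)), blockCoeff B 1 =
        (Nat.card SL(2, F) : ℂ)⁻¹ * ∑ χ ∈ (Set.toFinite B).toFinset, (χ : SL(2, F) → ℂ) 1 ^ 2 := by
      intro B
      rw [blockCoeff, finsum_mem_eq_finite_toFinset_sum _ (Set.toFinite B)]
      congr 1
      refine Finset.sum_congr rfl fun χ _ => ?_
      rw [← charDegree_cast χ, Complex.conj_natCast, sq]
    have hN : (Nat.card SL(2, F) : ℂ) ≠ 0 := Nat.cast_ne_zero.2 Nat.card_pos.ne'
    have h2R : MemLocalRing M ((2 : ℂ)⁻¹) := memR_inv hM (by simpa using memR_natCast hM 2) (two_notMemI hp hM)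
    have h2I : ¬ MemLocalIdeal M ((2 : ℂ)⁻¹) := fun h => not_memI_one hM (by
      have := memI_mul_left hM (show MemLocalRing M (2 : ℂ) by simpa using memR_natCast hM 2) h
      simpa using this)
    refine ⟨?_, ?_⟩
    · set k := Fintype.card F with hk
      have hval : blockCoeff B1 1 = (2 : ℂ)⁻¹ - (k : ℂ) * (((k + 1) * (k - 1) : ℕ) : ℂ)⁻¹ := by
        rw [hcoeff]
        have hsum := sum_sign (F := F) hp (c := 1) (Or.inl rfl)
        have hsplit : Finset.univ.filter (fun χ : IrrCharacter SL(2, F) => (χ : SL(2, F) → ℂ) (-1) = 1 * (χ : SL(2, F) → ℂ) 1) =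
            insert χ0 (Set.toFinite B1).toFinset := by
          ext χ
          simp only [Finset.mem_filter, Finset.mem_univ, true_and, Finset.mem_insert, one_mul, Set.Finite.mem_toFinset]
          constructor
          · intro h
            by_cases h' : (χ : SL(2, F) → ℂ) 1 = (k : ℂ)
            · exact Or.inl (Subtype.ext (hst χ h'))
            · exact Or.inr ⟨h, h'⟩
          · rintro (rfl | h)
            · show stS F (-1) = stS F 1
              rw [st_neg_one hp, stS_one]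
            · exact h.1
        rw [hsplit, Finset.sum_insert (by
          simp only [Set.Finite.mem_toFinset]
          exact fun h => h.2 stS_one), show (χ0 : SL(2, F) → ℂ) 1 = (k : ℂ) from stS_one] at hsum
        have hk0 : (k : ℂ) ≠ 0 := Nat.cast_ne_zero.2 Fintype.card_ne_zero
        have hcard : (Nat.card SL(2, F) : ℂ) = (k : ℂ) * (((k + 1) * (k - 1) : ℕ) : ℂ) := by
          rw [GLOrder.card_SL_two', Nat.card_eq_fintype_card (α := F), ← hk, mul_assoc, Nat.cast_mul]
        rw [hcard] at hN hsum ⊢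
        obtain ⟨hk0', hm0⟩ := mul_ne_zero_iff.1 hN
        generalize (((k + 1) * (k - 1) : ℕ) : ℂ) = m at hm0 hsum ⊢
        field_simp
        linear_combination hsum
      have hnd : ¬ p ∣ (k + 1) * (k - 1) := fun h => ((Fact.out : p.Prime).dvd_mul.1 h).elim hp1 hm1
      have hI : MemLocalIdeal M ((k : ℂ) * (((k + 1) * (k - 1) : ℕ) : ℂ)⁻¹) :=
        memI_mul_right hM ((memI_natCast hM).2 hpq) (memR_natCast_inv hM hnd)
      refine isDefectGroup_of_coeff hM ?_ ?_ P
      · rw [hval]; exact memR_sub hM h2R (memR_of_memI hI)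
      · rw [hval]
        intro h
        have := memI_add hM h hI
        rw [sub_add_cancel] at this
        exact h2I this
    · have hval : blockCoeff B2 1 = (2 : ℂ)⁻¹ := by
        rw [hcoeff]
        have hsum := sum_sign (F := F) hp (c := -1) (Or.inr rfl)
        have hsplit : Finset.univ.filter (fun χ : IrrCharacter SL(2, F) => (χ : SL(2, F) → ℂ) (-1) = -1 * (χ : SL(2, F) → ℂ) 1) =
            (Set.toFinite B2).toFinset := by
          ext χ
          simp only [Finset.mem_filter, Finset.mem_univ, true_and, Set.Finite.mem_toFinset, neg_one_mul]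
          rfl
        rw [hsplit] at hsum
        field_simp
        linear_combination hsum
      refine isDefectGroup_of_coeff hM ?_ ?_ P
      · rw [hval]; exact h2R
      · rw [hval]; exact h2I

end Cfsg.Agent.S2439
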