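import Cfsg.Statements.S4741
import Cfsg.Agent.Lib.Blocks.Defect
import Cfsg.Agent.Lib.Blocks.OrbitSum
import Cfsg.Agent.Lib.ClassCount.PElementSum

set_option autoImplicit false
open Cfsg

namespace Cfsg.Agent.S4741

open Cfsg.Agent
open scoped ComplexConjugate

variable {p : ℕ} {M : Ideal AlgInt}

theorem memI_prod_sub {ι : Type*} (hM : IsPModular p M) (s : Finset ι) {f g : ι → ℂ}
    (hf : ∀ i, MemLocalRing M (f i)) (hg : ∀ i, MemLocalRing M (g i))
    (h : ∀ i, MemLocalIdeal M (f i - g i)) :
    MemLocalIdeal M (∏ i ∈ s, f i - ∏ i ∈ s, g i) := by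
  classical
  induction s using Finset.induction_on with
  | empty => simpa using Blocks.memI_zero hM
  | insert a s ha ih =>
    rw [Finset.prod_insert ha, Finset.prod_insert ha,
      show f a * ∏ i ∈ s, f i - g a * ∏ i ∈ s, g i
        = (f a - g a) * ∏ i ∈ s, f i + g a * (∏ i ∈ s, f i - ∏ i ∈ s, g i) by ring]
    exact Blocks.memI_add hM
      (Blocks.memI_mul_right hM (h a) (Blocks.memR_prod hM s fun i _ => hf i))
      (Blocks.memI_mul_left hM (hg a) ih)

theorem memI_det_sub {n : Type*} [Fintype n] [DecidableEq n] (hM : IsPModular p M)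
    {A B : Matrix n n ℂ} (hA : ∀ i j, MemLocalRing M (A i j)) (hB : ∀ i j, MemLocalRing M (B i j))
    (h : ∀ i j, MemLocalIdeal M (A i j - B i j)) : MemLocalIdeal M (A.det - B.det) := by
  rw [Matrix.det_apply', Matrix.det_apply', ← Finset.sum_sub_distrib]
  refine Blocks.memI_sum hM _ fun σ _ => ?_
  rw [← mul_sub]
  exact Blocks.memI_mul_left hM (Blocks.memR_intCast hM _)
    (memI_prod_sub hM _ (fun i => hA _ _) (fun i => hB _ _) fun i => h _ _)

variable {G : Type*} [Group G] [Finite G]

/-- Weighting by the `p`-elements kills everything congruent to zero in every block. -/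
theorem memI_ofOmega_pElt [Fintype G] (hM : IsPModular p M) {c : IrrCharacter G → ℂ}
    (hc : ∀ χ, MemLocalIdeal M (c χ)) (g : G) :
    MemLocalIdeal M (Blocks.ofOmega (Blocks.omegaFun (ClassCount.pElt p) * c) g) := by
  classical
  have := Fintype.ofFinite (IrrCharacter G)
  set a := (Nat.card G).factorization p with ha
  set m := Nat.card G / p ^ a with hm
  have hG : (Nat.card G : ℂ) = ((p ^ a : ℕ) : ℂ) * (m : ℂ) := by
    rw [← Nat.cast_mul, hm, Nat.ordProj_mul_ordCompl_eq_self]
  rw [Blocks.ofOmega_eq_sum, Finset.mul_sum]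
  refine Blocks.memI_sum hM _ fun χ _ => ?_
  obtain ⟨k, hk⟩ := ClassCount.sum_pElements hM.1 (Char.IsIrrCharacter.isCharacter χ.2)
  have h1 : Blocks.omegaFun (ClassCount.pElt p) χ * (χ : G → ℂ) 1 = ((p ^ a : ℕ) : ℂ) * k := by
    simp only [Blocks.omegaFun, Blocks.omega_eq_sum, div_mul_cancel₀ _ (Blocks.irr_one_ne_zero χ)]
    rw [← hk]
  have hpa : ((p ^ a : ℕ) : ℂ) ≠ 0 := Nat.cast_ne_zero.mpr (pow_ne_zero _ hM.1.ne_zero)
  rw [Pi.mul_apply, mul_right_comm _ (c χ) ((χ : G → ℂ) 1), h1, hG,
    show (((p ^ a : ℕ) : ℂ) * (m : ℂ))⁻¹ * (((p ^ a : ℕ) : ℂ) * (k : ℂ) * c χ *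
      conj ((χ : G → ℂ) g)) = c χ * ((m : ℂ)⁻¹ * ((k : ℂ) * conj ((χ : G → ℂ) g))) by field_simp]
  refine Blocks.memI_mul_right hM (hc χ) (Blocks.memR_mul hM (Blocks.memR_natCast_inv hM
    (Nat.not_dvd_ordCompl hM.1 Nat.card_pos.ne')) (Blocks.memR_mul hM (Blocks.memR_intCast hM k) ?_))
  refine Blocks.memR_of_isIntegral hM ?_
  rw [← Char.IsCharacter.apply_inv (Char.IsIrrCharacter.isCharacter χ.2)]
  exact Blocks.isIntegral_irr χ _

/-- Let p be a prime, M a maximal ideal of the algebraic integers containing p, and D a subgroup of the finite group G. Let x₁, …, x_r be pairwise non-conjugate elements of G such that D is a Sylow p-subgroup of the centralizer of each xᵢ, and such that for any conjugates g of some xᵢ and h of some xⱼ the element g h⁻¹ is never a non-identity p-element. Then there are r distinct p-blocks B₁, …, B_r of G, each having D as a defect group, such that for every choice of characters χᵢ ∈ Bᵢ of height zero the determinant of the r × r matrix (χᵢ(xⱼ)) does not lie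 in the local ideal at M. -/
theorem result {G : Type*} [Group G] [Finite G] (p : ℕ) [Fact p.Prime] (M : Ideal Cfsg.AlgInt) (hM : Cfsg.IsPModular p M) (D : Subgroup G) {r : ℕ} (x : Fin r → G) (hx : ∀ i j : Fin r, IsConj (x i) (x j) → i = j) (hD : ∀ i : Fin r, ∃ S : Sylow p ↥(Subgroup.centralizer ({x i} : Set G)), (S : Subgroup ↥(Subgroup.centralizer ({x i} : Set G))).map (Subgroup.centralizer ({x i} : Set G)).subtype = D) (hsep : ∀ i j : Fin r, ∀ g h : G, IsConj (x i) g → IsConj (x j) h → ∀ k : ℕ, 0 < k → orderOf (g * h⁻¹) ≠ p ^ k) : ∃ B : Fin r → Set (Cfsg.IrrCharacter G), Function.Injective B ∧ (∀ i : Fin r, Cfsg.IsPBlock M (B i) ∧ Cfsg.IsDefectGroup p M (B i) D) ∧ ∀ χ : Fin r → Cfsg.IrrCharacter G, (∀ i : Fin r, χ i ∈ B i ∧ Cfsg.blockHeight p (B i) (χ i : G → ℂ) = 0) → ¬ Cfsg.MemLocalIdeal M (Matrix.det (Matrix.of fun i j : Fin r => (χ i : G → ℂ) (x j))) := by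
  classical
  have := Fintype.ofFinite G
  have := Fintype.ofFinite (IrrCharacter G)
  have hp : p.Prime := Fact.out
  have hsyl : ∀ i, Blocks.SylowIn p (Subgroup.centralizer ({x i} : Set G)) D := fun i =>
    (hD i).elim fun S hS => ⟨S, hS.symm⟩
  set z : G → ℂ := ClassCount.pElt p with hz
  have hzc : IsClassFunction G z := ClassCount.isClassFunction_pElt p
  have hzR : ∀ y, MemLocalRing M (z y) := fun y => by
    simp only [hz, ClassCount.pElt]
    split_ifs
    · exact Blocks.memR_one hM
    · exact Blocks.memR_zero hM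
  -- the map weighting by p-elements
  let Ψ : (IrrCharacter G → ℂ) → Fin r → ℂ := fun c i =>
    Blocks.ofOmega (Blocks.omegaFun z * c) (x i)
  have hΨconv : ∀ f : G → ℂ, IsClassFunction G f → ∀ i,
      Ψ (Blocks.omegaFun f) i = ∑ y, z y * f (y⁻¹ * x i) := by
    intro f hf i
    show Blocks.ofOmega (Blocks.omegaFun z * Blocks.omegaFun f) (x i) = _
    rw [Blocks.ofOmega_mul, Blocks.ofOmega_omega hzc, Blocks.ofOmega_omega hf, Blocks.conv_eq_sum]
  have hδ : ∀ i j, Ψ (Blocks.omegaFun (Blocks.classInd (x j))) i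
      = (1 : Matrix (Fin r) (Fin r) ℂ) i j := by
    intro i j
    rw [hΨconv _ (Blocks.isClassFunction_classInd _), Finset.sum_eq_single (1 : G)]
    · simp only [hz, ClassCount.pElt, one_pow, if_true, one_mul, inv_one, Blocks.classInd,
        Matrix.one_apply]
      by_cases hij : i = j
      · subst hij; rw [if_pos rfl, if_pos (IsConj.refl _)]
      · rw [if_neg hij, if_neg fun hc => hij (hx i j hc.symm)]
    · intro y _ hy
      by_cases hcy : IsConj (x j) (y⁻¹ * x i)
      · have hord := hsep i j (x i) (y⁻¹ * x i) (IsConj.refl _) hcy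
        rw [show x i * (y⁻¹ * x i)⁻¹ = y by group] at hord
        have hpow : ¬ y ^ p ^ (Nat.card G).factorization p = 1 := by
          intro h1
          obtain ⟨k, -, hk⟩ := (Nat.dvd_prime_pow hp).mp (orderOf_dvd_of_pow_eq_one h1)
          rcases Nat.eq_zero_or_pos k with rfl | hk0
          · rw [pow_zero, orderOf_eq_one_iff] at hk; exact hy hk
          · exact hord k hk0 hk
        rw [show z y = 0 by simp only [hz, ClassCount.pElt]; exact if_neg hpow, zero_mul]
      · rw [show Blocks.classInd (x j) (y⁻¹ * x i) = 0 from if_neg hcy, mul_zero]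
    · simp
  -- blocks
  set all : Finset (Set (IrrCharacter G)) :=
    Finset.univ.image (fun χ : IrrCharacter G => blockOf M (χ : G → ℂ)) with hall
  have hblk : ∀ B ∈ all, IsPBlock M B := by
    intro B hB
    obtain ⟨φ, -, rfl⟩ := Finset.mem_image.mp hB
    exact ⟨φ, rfl⟩
  let W : Set (IrrCharacter G) → Fin r → ℂ := fun B j =>
    if h : B.Nonempty then centralChar (h.some : G → ℂ) (x j) else 0
  have hWR : ∀ B j, MemLocalRing M (W B j) := by
    intro B j
    simp only [W]
    split_ifs
    · exact Blocks.memR_centralChar hM _ _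
    · exact Blocks.memR_zero hM
  have hW : ∀ B, IsPBlock M B → ∀ χ ∈ B, ∀ j,
      MemLocalIdeal M (centralChar (χ : G → ℂ) (x j) - W B j) := by
    intro B hB χ hχ j
    simp only [W, dif_pos (Blocks.isPBlock_nonempty hM hB)]
    exact Blocks.sameBlock_of_mem hM hB hχ (Blocks.isPBlock_nonempty hM hB).some_mem _
  let Φ : Fin r → Set (IrrCharacter G) → ℂ := fun i B => Ψ (Blocks.blockInd B) i
  have hΦ : ∀ i B, Φ i B = ∑ y, z y * blockCoeff B (y⁻¹ * x i) := by
    intro i B
    rw [Blocks.blockCoeff_eq_ofOmega]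
    show Ψ (Blocks.blockInd B) i = _
    rw [← hΨconv _ (Blocks.isClassFunction_ofOmega _), Blocks.omegaFun_ofOmega]
  have hΦR : ∀ i, ∀ B ∈ all, MemLocalRing M (Φ i B) := fun i B hB => by
    rw [hΦ]
    exact Blocks.memR_sum hM _ fun y _ =>
      Blocks.memR_mul hM (hzR y) (Blocks.memR_blockCoeff hM (hblk B hB) _)
  -- the blocks seen by both maps have defect group `D`
  set S : Finset (Set (IrrCharacter G)) := all.filter (fun B => IsDefectGroup p M B D) with hS
  have hout : ∀ B ∈ all, B ∉ S → ∀ i j, MemLocalIdeal M (Φ i B * W B j) := by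
    intro B hBall hBS i j
    have hB := hblk B hBall
    by_contra hcon
    have hΦn : ¬ MemLocalIdeal M (Φ i B) := fun h =>
      hcon (Blocks.memI_mul_right hM h (hWR _ _))
    have hWn : ¬ MemLocalIdeal M (W B j) := fun h =>
      hcon (Blocks.memI_mul_left hM (hΦR i B hBall) h)
    obtain ⟨χ, hχ⟩ := Blocks.isPBlock_nonempty hM hB
    have hωj : ¬ MemLocalIdeal M (centralChar (χ : G → ℂ) (x j)) := fun h =>
      hWn ((Blocks.memI_iff_of_sub hM (hW B hB χ hχ j)).mp h)
    obtain ⟨E, hE⟩ := Blocks.exists_isDefectGroup hM hB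
    obtain ⟨g, hg, hgE⟩ := hE
    have hDp : IsPGroup p D := Blocks.sylowIn_isPGroup (hsyl i)
    have hxD : x i ∈ Subgroup.centralizer (D : Set G) :=
      Blocks.le_centralizer_singleton.mp (Blocks.sylowIn_le (hsyl i))
    obtain ⟨h, hhD, hhe⟩ : ∃ h, h ∈ Subgroup.centralizer (D : Set G) ∧
        ¬ MemLocalIdeal M (blockCoeff B h) := by
      by_contra hno
      push Not at hno
      apply hΦn
      rw [hΦ, Blocks.conj_sum_eq_sum_centralizer_add (P := D)]
      let I0 : AddSubmonoid ℂ :=
        { carrier := {v | MemLocalIdeal M v}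
          zero_mem' := Blocks.memI_zero hM
          add_mem' := fun h h' => Blocks.memI_add hM h h' }
      refine Blocks.memI_add hM (Blocks.memI_sum hM _ fun y hy => ?_) ?_
      · exact Blocks.memI_mul_left hM (hzR y) (hno _ (Subgroup.mul_mem _
          (Subgroup.inv_mem _ (Finset.mem_filter.mp hy).2) hxD))
      · refine Blocks.conj_sum_not_centralizer_mem hDp _ (fun u hu y => ?_) I0 fun y => ?_
        · rw [hzc y u, show (u * y * u⁻¹)⁻¹ * x i = u * (y⁻¹ * (u⁻¹ * x i * u)) * u⁻¹ by group,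
            Blocks.isClassFunction_blockCoeff B (y⁻¹ * (u⁻¹ * x i * u)) u,
            show u⁻¹ * x i * u = x i by
              rw [mul_assoc, ← Subgroup.mem_centralizer_iff.mp hxD u hu, inv_mul_cancel_left]]
        · show MemLocalIdeal M _
          rw [nsmul_eq_mul]
          exact Blocks.memI_mul_right hM (Blocks.memI_p hM)
            (Blocks.memR_mul hM (hzR y) (Blocks.memR_blockCoeff hM hB _))
    obtain ⟨u, hu⟩ := Blocks.minmax hM hB hχ (hg.2.2 χ hχ) hhe hDp
      (Blocks.le_centralizer_singleton.mpr hhD) hgE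
    obtain ⟨v, hv⟩ := Blocks.minmax hM hB hχ hωj hg.2.1 (Blocks.sylowIn_isPGroup hgE)
      (Blocks.sylowIn_le hgE) (hsyl j)
    have heq : D = Blocks.conjSub u E := Subgroup.eq_of_le_of_card_ge hu (by
      rw [Blocks.card_conjSub]
      exact (Subgroup.card_le_of_le hv).trans (Blocks.card_conjSub v D).le)
    exact hBS (Finset.mem_filter.mpr
      ⟨hBall, heq ▸ Blocks.isDefectGroup_conjSub hM ⟨g, hg, hgE⟩ u⟩)
  -- the congruence
  have hcong : ∀ i j, MemLocalIdeal M
      ((1 : Matrix (Fin r) (Fin r) ℂ) i j - ∑ B ∈ S, Φ i B * W B j) := by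
    intro i j
    rw [← hδ i j]
    have h1 : MemLocalIdeal M (Ψ (Blocks.omegaFun (Blocks.classInd (x j))
        - ∑ B ∈ all, W B j • Blocks.blockInd B) i) := by
      refine memI_ofOmega_pElt hM (fun χ => ?_) _
      rw [Pi.sub_apply, Finset.sum_apply, Finset.sum_eq_single (blockOf M (χ : G → ℂ))]
      · rw [Pi.smul_apply, Blocks.blockInd_of_mem (Blocks.mem_blockOf_self hM χ), smul_eq_mul,
          mul_one, Blocks.omegaFun, Blocks.omega_classInd]
        exact hW _ ⟨χ, rfl⟩ χ (Blocks.mem_blockOf_self hM χ) j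
      · intro B hB hne
        rw [Pi.smul_apply, Blocks.blockInd_of_notMem fun h =>
          hne (Blocks.isPBlock_eq_blockOf hM (hblk B hB) h), smul_zero]
      · exact fun h => absurd (Finset.mem_image_of_mem _ (Finset.mem_univ χ)) h
    have hlin : Ψ (Blocks.omegaFun (Blocks.classInd (x j))
        - ∑ B ∈ all, W B j • Blocks.blockInd B) i
        = Ψ (Blocks.omegaFun (Blocks.classInd (x j))) i - ∑ B ∈ all, Φ i B * W B j := by
      simp only [Φ, Ψ, Blocks.ofOmega_eq_sum, Pi.mul_apply, Pi.sub_apply, Finset.sum_apply,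
        Pi.smul_apply, smul_eq_mul]
      simp only [Finset.mul_sum, Finset.sum_mul, mul_sub, sub_mul, Finset.sum_sub_distrib]
      congr 1
      rw [Finset.sum_comm]
      exact Finset.sum_congr rfl fun B _ => Finset.sum_congr rfl fun χ _ => by ring
    rw [hlin] at h1
    have h2 : MemLocalIdeal M (∑ B ∈ all.filter (fun B => ¬ IsDefectGroup p M B D), Φ i B * W B j) :=
      Blocks.memI_sum hM _ fun B hB => hout B (Finset.mem_filter.mp hB).1
        (fun hBS => (Finset.mem_filter.mp hB).2 (Finset.mem_filter.mp hBS).2) i j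
    have h3 := Blocks.memI_add hM h1 h2
    rw [← Finset.sum_filter_add_sum_filter_not all (fun B => IsDefectGroup p M B D)] at h3
    simpa [hS, sub_add_eq_sub_sub] using h3
  obtain ⟨f, hfS, hfdet⟩ : ∃ f : Fin r → Set (IrrCharacter G), (∀ i, f i ∈ S) ∧
      ¬ MemLocalIdeal M (Matrix.det (Matrix.of fun i j => W (f i) j)) := by
    by_contra hno
    push Not at hno
    let N : Matrix (Fin r) (Fin r) ℂ := Matrix.of fun i j => ∑ B ∈ S, Φ i B * W B j
    have h1 : MemLocalIdeal M ((1 : Matrix (Fin r) (Fin r) ℂ).det - N.det) :=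
      memI_det_sub hM (fun i j => by
        rw [Matrix.one_apply]
        split_ifs
        · exact Blocks.memR_one hM
        · exact Blocks.memR_zero hM)
        (fun i j => Blocks.memR_sum hM _ fun B hB =>
          Blocks.memR_mul hM (hΦR i B (Finset.mem_filter.mp hB).1) (hWR _ _)) hcong
    have h2 : MemLocalIdeal M N.det := by
      have hN : N.det = Matrix.detRowAlternating
          (fun i => ∑ B ∈ S, Φ i B • W B : Fin r → Fin r → ℂ) := by
        rw [Matrix.det]
        congr 1
        funext i j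
        simp [N]
      rw [hN]
      rw [show Matrix.detRowAlternating (fun i => ∑ B ∈ S, Φ i B • W B : Fin r → Fin r → ℂ)
          = (Matrix.detRowAlternating (R := ℂ) (n := Fin r)).toMultilinearMap
            (fun i => ∑ B ∈ S, Φ i B • W B) from rfl,
        MultilinearMap.map_sum_finset]
      refine Blocks.memI_sum hM _ fun q hq => ?_
      rw [MultilinearMap.map_smul_univ, smul_eq_mul]
      rw [Fintype.mem_piFinset] at hq
      exact Blocks.memI_mul_left hM
        (Blocks.memR_prod hM _ fun i _ => hΦR i _ (Finset.mem_filter.mp (hq i)).1) (hno q hq)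
    rw [Matrix.det_one] at h1
    exact Blocks.not_memI_one hM ((Blocks.memI_iff_of_sub hM h1).mpr h2)
  refine ⟨f, fun i j hij => ?_, fun i => ⟨hblk _ (Finset.mem_filter.mp (hfS i)).1,
    (Finset.mem_filter.mp (hfS i)).2⟩, fun χ hχ => ?_⟩
  · by_contra hne
    exact hfdet (by
      rw [Matrix.det_zero_of_row_eq hne (funext fun k => by simp [hij])]
      exact Blocks.memI_zero hM)
  -- degrees and class sizes
  set d := (Nat.card D).factorization p with hd
  set e := (Nat.card G).factorization p - d with he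
  have hDcard : ∀ j, Nat.card D = p ^ (Nat.card (Subgroup.centralizer ({x j} : Set G))).factorization p :=
    fun j => Blocks.sylowIn_card (hsyl j)
  have hdC : ∀ j, (Nat.card (Subgroup.centralizer ({x j} : Set G))).factorization p = d := fun j => by
    rw [hd, hDcard j, hp.factorization_pow, Finsupp.single_eq_same]
  have hindex : ∀ j, ∃ m : ℕ, ¬ p ∣ m ∧
      (Subgroup.centralizer ({x j} : Set G)).index = p ^ e * m := by
    intro j
    have hi : (Subgroup.centralizer ({x j} : Set G)).index.factorization p = e := by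
      rw [he, ← hdC j, ← (Subgroup.centralizer ({x j} : Set G)).index_mul_card,
        Nat.factorization_mul Subgroup.index_ne_zero_of_finite Nat.card_pos.ne', Finsupp.add_apply,
        Nat.add_sub_cancel]
    refine ⟨(Subgroup.centralizer ({x j} : Set G)).index / p ^ e, ?_, ?_⟩
    · rw [← hi]; exact Nat.not_dvd_ordCompl hp Subgroup.index_ne_zero_of_finite
    · rw [← hi, Nat.ordProj_mul_ordCompl_eq_self]
  choose m hm hmi using hindex
  have hdeg : ∀ i, ∃ k : ℕ, ¬ p ∣ k ∧ charDegree (χ i : G → ℂ) = p ^ e * k := by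
    intro i
    have hBi := hblk _ (Finset.mem_filter.mp (hfS i)).1
    have hDi := (Finset.mem_filter.mp (hfS i)).2
    have hc := Blocks.card_defectGroup hM hBi hDi
    have hbd : blockDefect p (f i) = d := by
      rw [hd, hc, hp.factorization_pow, Finsupp.single_eq_same]
    have hh := (hχ i).2
    have hle : sInf ((fun ψ : IrrCharacter G => (charDegree (ψ : G → ℂ)).factorization p) '' f i)
        ≤ (charDegree (χ i : G → ℂ)).factorization p := Nat.sInf_le ⟨_, (hχ i).1, rfl⟩
    have hle2 := (Nat.factorization_le_iff_dvd (Blocks.charDegree_pos (χ i)).ne'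
      Nat.card_pos.ne').mpr (Blocks.charDegree_dvd_card (χ i)) p
    have hv : (charDegree (χ i : G → ℂ)).factorization p = e := by
      unfold blockHeight at hh
      unfold blockDefect at hbd
      omega
    exact ⟨_, Nat.not_dvd_ordCompl hp (Blocks.charDegree_pos (χ i)).ne',
      hv ▸ (Nat.ordProj_mul_ordCompl_eq_self _ p).symm⟩
  choose k hk hki using hdeg
  let Ω : Matrix (Fin r) (Fin r) ℂ := Matrix.of fun i j => centralChar (χ i : G → ℂ) (x j)
  have hval : ∀ i j, (χ i : G → ℂ) (x j) = (k i : ℂ) * ((m j : ℂ)⁻¹ * Ω i j) := by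
    intro i j
    have hm0 : (m j : ℂ) ≠ 0 := by exact_mod_cast fun h : m j = 0 => hm j (h ▸ dvd_zero p)
    have hk0 : (k i : ℂ) ≠ 0 := by exact_mod_cast fun h : k i = 0 => hk i (h ▸ dvd_zero p)
    have hpe : (p : ℂ) ^ e ≠ 0 := pow_ne_zero _ (by exact_mod_cast hp.ne_zero)
    simp only [Ω, Matrix.of_apply, centralChar, hmi j, ← Blocks.charDegree_cast, hki i]
    push_cast
    field_simp
  have hdet : Matrix.det (Matrix.of fun i j : Fin r => (χ i : G → ℂ) (x j))
      = (∏ i, (k i : ℂ)) * ((∏ j, (m j : ℂ)⁻¹) * Ω.det) := by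
    rw [← Matrix.det_mul_row, ← Matrix.det_mul_column]
    congr 1
    ext i j
    simp only [Matrix.of_apply]
    exact hval i j
  have hΩR : MemLocalRing M Ω.det := by
    rw [Matrix.det_apply']
    exact Blocks.memR_sum hM _ fun σ _ => Blocks.memR_mul hM (Blocks.memR_intCast hM _)
      (Blocks.memR_prod hM _ fun i _ => Blocks.memR_centralChar hM _ _)
  have hΩ : ¬ MemLocalIdeal M Ω.det := fun h => hfdet ((Blocks.memI_iff_of_sub hM
    (memI_det_sub hM (A := Ω) (B := Matrix.of fun i j => W (f i) j)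
      (fun i j => Blocks.memR_centralChar hM _ _) (fun i j => hWR _ _)
      (fun i j => hW _ (hblk _ (Finset.mem_filter.mp (hfS i)).1) _ (hχ i).1 j))).mp h)
  have hk1 : ¬ MemLocalIdeal M (∏ i, (k i : ℂ)) := by
    rw [← Nat.cast_prod]
    refine Blocks.not_memI_natCast hM fun h => ?_
    obtain ⟨i, -, hi⟩ := (Nat.Prime.prime hp).exists_mem_finset_dvd h
    exact hk i hi
  have hm1 : ¬ MemLocalIdeal M (∏ j, (m j : ℂ)) := by
    rw [← Nat.cast_prod]
    refine Blocks.not_memI_natCast hM fun h => ?_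
    obtain ⟨i, -, hi⟩ := (Nat.Prime.prime hp).exists_mem_finset_dvd h
    exact hm i hi
  intro hI
  rw [hdet, Finset.prod_inv_distrib] at hI
  have h1 := Blocks.memI_mul_left hM
    (x := (∏ j, (m j : ℂ)))
    (Blocks.memR_prod hM _ fun j _ => Blocks.memR_natCast hM _) hI
  rw [show (∏ j, (m j : ℂ)) * ((∏ i, (k i : ℂ)) * ((∏ j, (m j : ℂ))⁻¹ * Ω.det))
    = (∏ i, (k i : ℂ)) * Ω.det by
      have := Blocks.ne_zero_of_not_memI hM hm1
      field_simp] at h1
  exact Blocks.not_memI_mul hM (Blocks.memR_prod hM _ fun i _ => Blocks.memR_natCast hM _) hΩR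
    hk1 hΩ h1

end Cfsg.Agent.S4741
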