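import Cfsg.Statements.S2440
import Cfsg.Agent.Lib.SLBlocks.Blocks
import Cfsg.Agent.Lib.BlocksNormal.Count
import Cfsg.Agent.S4741

set_option autoImplicit false
open Cfsg

namespace Cfsg.Agent.S2440

/-- For a prime p and n ≥ 2, the group SL_n over the field with p elements has exactly gcd(n, p − 1) + 1 p-blocks relative to any maximal ideal of the algebraic integers containing p, that is, one more than the order of its centre (only this total is asserted; it arises as the defect-zero block of the Steinberg character plus as many blocks of maximal defect as the order of the centre). -/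
theorem result (p : ℕ) [Fact p.Prime] (n : ℕ) (hn : 2 ≤ n) (M : Ideal Cfsg.AlgInt) (hM : Cfsg.IsPModular p M) :
    Nat.card {B : Set (Cfsg.IrrCharacter (Matrix.SpecialLinearGroup (Fin n) (ZMod p))) // Cfsg.IsPBlock M B} =
      Nat.gcd n (p - 1) + 1 := by
  obtain ⟨m, rfl⟩ : ∃ m, n = m + 1 := ⟨n - 1, by omega⟩
  have hm : 1 ≤ m := by omega
  classical
  have hp : p.Prime := Fact.out
  let G := Matrix.SpecialLinearGroup (Fin (m + 1)) (ZMod p)
  set a := (Nat.card G).factorization p with ha
  have hcen : Nat.card (Subgroup.center G) = Nat.gcd (m + 1) (p - 1) := by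
    rw [Nat.card_congr (Matrix.SpecialLinearGroup.center_equiv_rootsOfUnity
      (n := Fin (m + 1)) (R := ZMod p)).toEquiv, Fintype.card_fin,
      max_eq_left (by omega : 1 ≤ m + 1),
      show rootsOfUnity (m + 1) (ZMod p) = (powMonoidHom (m + 1) : (ZMod p)ˣ →* (ZMod p)ˣ).ker by
        ext x; simp [mem_rootsOfUnity],
      IsCyclic.card_powMonoidHom_ker, Nat.card_eq_fintype_card, ZMod.card_units p, Nat.gcd_comm]
  have hcp : ¬ p ∣ Nat.card (Subgroup.center G) := fun h => by
    have h1 := Nat.le_of_dvd (Nat.sub_pos_of_lt hp.one_lt) (h.trans (hcen ▸ Nat.gcd_dvd_right _ _))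
    have := hp.two_le
    omega
  have ha0 : a ≠ 0 := by
    intro h
    refine SLBlocks.UU_ne_bot (F := ZMod p) hm (Subgroup.card_eq_one.1 ?_)
    rw [SLBlocks.card_UU (p := p)]
    show p ^ a = 1
    rw [h, pow_zero]
  have h0 := SLBlocks.card_defect_zero (F := ZMod p) (m := m) hM
  have hfull : Nat.card {B : Set (IrrCharacter G) // IsPBlock M B ∧ a ≤ blockDefect p B} =
      Nat.card (Subgroup.center G) := by
    refine le_antisymm ((BlocksNormal.card_blocks_le hM a).trans ?_) ?_
    · have key : ∀ C : {C : ConjClasses G // ∃ g : G, ConjClasses.mk g = C ∧ IsPRegular p g ∧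
          a ≤ (Nat.card (Subgroup.centralizer ({g} : Set G))).factorization p},
          ∃ z : Subgroup.center G, ConjClasses.mk (z : G) = C.1 := fun C => by
        obtain ⟨g, hg, hreg, hga⟩ := C.2
        exact ⟨⟨g, SLBlocks.central_of_full hm hreg hga⟩, hg⟩
      choose z hz using key
      exact Nat.card_le_card_of_injective z fun C C' h => Subtype.ext (by rw [← hz, ← hz, h])
    · let e := (Finite.equivFin (Subgroup.center G)).symm
      let x : Fin (Nat.card (Subgroup.center G)) → G := fun i => (e i : G)
      have hxc : ∀ i g, IsConj (x i) g → g = x i := fun i g h => by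
        obtain ⟨c, hc⟩ := isConj_iff.1 h
        rw [← hc, Subgroup.mem_center_iff.1 (e i).2 c, mul_assoc, mul_inv_cancel, mul_one]
      obtain ⟨h1, h2⟩ := SLBlocks.UU_isSylow (F := ZMod p) (m := m) p
      obtain ⟨B, hBi, hB, -⟩ := S4741.result p M hM (SLBlocks.UU (ZMod p) m) x
        (fun i j h => e.injective (Subtype.ext (hxc i _ h).symm))
        (fun i => by
          have hle : SLBlocks.UU (ZMod p) m ≤ Subgroup.centralizer ({x i} : Set G) := fun u _ =>
            Subgroup.mem_centralizer_iff.2 fun y hy => by
              rw [Set.mem_singleton_iff.1 hy, Subgroup.mem_center_iff.1 (e i).2 u]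
          exact ⟨(h1.toSylow h2).subtype hle, Subgroup.map_subgroupOf_eq_of_le hle⟩)
        (fun i j g h hg hh k hk ho => by
          rw [hxc i g hg, hxc j h hh] at ho
          have hd : orderOf (x i * (x j)⁻¹) ∣ Nat.card (Subgroup.center G) :=
            Subgroup.orderOf_dvd_natCard _
              ((Subgroup.center G).mul_mem (e i).2 ((Subgroup.center G).inv_mem (e j).2))
          exact hcp ((dvd_pow_self p hk.ne').trans (ho ▸ hd)))
      refine le_of_eq_of_le (Nat.card_fin _).symm (Nat.card_le_card_of_injective
        (fun i => (⟨B i, (hB i).1, ?_⟩ : {B : Set (IrrCharacter G) // IsPBlock M B ∧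
          a ≤ blockDefect p B})) fun i j h => hBi (congrArg Subtype.val h))
      have hc := Blocks.card_defectGroup hM (hB i).1 (hB i).2
      rw [SLBlocks.card_UU (p := p)] at hc
      exact (Nat.pow_right_injective hp.two_le hc).le
  have hsum : Nat.card {B : Set (IrrCharacter G) // IsPBlock M B} =
      Nat.card {B : Set (IrrCharacter G) // IsPBlock M B ∧ a ≤ blockDefect p B} +
        Nat.card {B : Set (IrrCharacter G) // IsPBlock M B ∧ blockDefect p B = 0} := by
    rw [← Nat.card_sum]
    refine Nat.card_congr ((Equiv.subtypeEquivRight fun B => ?_).trans (subtypeOrEquiv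
      (fun B : Set (IrrCharacter G) => IsPBlock M B ∧ a ≤ blockDefect p B)
      (fun B => IsPBlock M B ∧ blockDefect p B = 0) ?_))
    · constructor
      · intro hB
        rcases SLBlocks.defect_dichotomy (F := ZMod p) hm hM hB with h | h
        · exact Or.inr ⟨hB, h⟩
        · exact Or.inl ⟨hB, h.ge⟩
      · rintro (⟨hB, -⟩ | ⟨hB, -⟩) <;> exact hB
    · intro q hq1 hq2 B hB
      exact absurd (Nat.le_zero.1 ((hq2 B hB).2 ▸ (hq1 B hB).2)) ha0
  rw [hsum, h0, hfull, hcen]

end Cfsg.Agent.S2440
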