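import Cfsg.Statements.S2444
import Cfsg.Agent.Lib.SLComm.Three

set_option autoImplicit false
open Cfsg

namespace Cfsg.Agent.S2444

/-- In the special linear group SL(n,F) over a finite field F, with n ≥ 2 and (n, |F|) not (2,2) or (2,3), every element is a commutator a·b·a⁻¹·b⁻¹ of two elements of SL(n,F). -/
theorem result {F : Type*} [Field F] [Fintype F] (n : ℕ) (hn : 2 ≤ n) (hex : n = 2 → 4 ≤ Fintype.card F) :
    ∀ g : Matrix.SpecialLinearGroup (Fin n) F, ∃ a b : Matrix.SpecialLinearGroup (Fin n) F, g = a * b * a⁻¹ * b⁻¹ := by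
  intro g
  have hdet : LinearMap.det (Matrix.toLin' (g : Matrix (Fin n) (Fin n) F)) = 1 := by
    rw [LinearMap.det_toLin']; exact g.2
  have hrank : Module.finrank F (Fin n → F) = n := Module.finrank_fin_fun F
  refine Cfsg.Agent.SLComm.exists_sl_commutator g ?_
  have hc : Nat.card F = Fintype.card F := Nat.card_eq_fintype_card
  have hgt : 1 < Fintype.card F := Fintype.one_lt_card
  rcases (show Fintype.card F = 2 ∨ Fintype.card F = 3 ∨ 4 ≤ Fintype.card F by omega) with h | h | h
  · refine Cfsg.Agent.SLComm.gad_two (hc.trans h) _ hdet ?_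
    rcases (show n = 2 ∨ 3 ≤ n by omega) with e | e
    · exact absurd (hex e) (by omega)
    · omega
  · refine Cfsg.Agent.SLComm.gad_three (hc.trans h) _ hdet ?_
    rcases (show n = 2 ∨ 3 ≤ n by omega) with e | e
    · exact absurd (hex e) (by omega)
    · omega
  · exact Cfsg.Agent.SLComm.gad_large (by omega) _ hdet

end Cfsg.Agent.S2444
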