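import Cfsg.Statements.S2455
import Cfsg.Agent.EqLemmas
import Cfsg.Agent.Lib.GLOrder.TraceCover

set_option autoImplicit false
open Cfsg

namespace Cfsg.Agent.S2455

open Cfsg.Agent

/-- A strong covering result in the direction of Thompson's conjecture (non-identity elements) for PSL(2,q), q odd: let F be a finite field of odd characteristic p with at least 5 elements and let x ∈ PSL(2,F) have order greater than 2 and not divisible by p (so x is not unipotent). Then every non-identity element of PSL(2,F) is a product of two conjugates of x. -/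
theorem result {F : Type*} [Field F] [Fintype F] (p : ℕ) [Fact p.Prime] [CharP F p] (hp : p ≠ 2) (h5 : 5 ≤ Fintype.card F)
    (x : Matrix.ProjectiveSpecialLinearGroup (Fin 2) F) (hx2 : 2 < orderOf x) (hxp : ¬ p ∣ orderOf x) : ∀ g : Matrix.ProjectiveSpecialLinearGroup (Fin 2) F, g ≠ 1 → ∃ u v : Matrix.ProjectiveSpecialLinearGroup (Fin 2) F, g = (u * x * u⁻¹) * (v * x * v⁻¹) := by
  intro g hg
  obtain ⟨X, rfl⟩ := QuotientGroup.mk'_surjective _ x
  have h2 : (2 : F) ≠ 0 := Ring.two_ne_zero (by rw [ringChar.eq F p]; exact hp)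
  refine GLOrder.psl_cover_odd h2 ?_ ?_ g hg
  · intro h0
    have hXX : X * X = -1 := GLOrder.SL2_sq_eq_neg_one h0
    have h1 : orderOf (QuotientGroup.mk' (Subgroup.center (Matrix.SpecialLinearGroup (Fin 2) F)) X) ∣ 2 := by
      refine orderOf_dvd_of_pow_eq_one ?_
      rw [pow_two, ← map_mul, hXX]
      exact (QuotientGroup.eq_one_iff _).2 (GLOrder.center_SL2.2 (Or.inr rfl))
    have := Nat.le_of_dvd two_pos h1
    omega
  · intro h4
    obtain ⟨c, hc, htr⟩ : ∃ c : F, c * c = 1 ∧ PSL2.tr X = 2 * c := by
      refine ⟨PSL2.tr X / 2, ?_, by field_simp⟩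
      field_simp
      linear_combination h4
    have hM : ((X : Matrix (Fin 2) (Fin 2) F) - algebraMap F _ c) ^ 2 = 0 := by
      rw [pow_two, sub_mul, mul_sub, mul_sub, ← Algebra.commutes c (X : Matrix (Fin 2) (Fin 2) F),
        PSL2.coe_sq, htr, ← map_mul, hc, map_one, ← Algebra.smul_def, mul_smul, two_smul]
      abel
    have hp0 : ((X : Matrix (Fin 2) (Fin 2) F) - algebraMap F _ c) ^ p = 0 := by
      have hp2 : 2 ≤ p := (Fact.out : p.Prime).two_le
      rw [show p = 2 + (p - 2) by omega, pow_add, hM, zero_mul]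
    rw [sub_pow_char_of_commute p (Algebra.commute_algebraMap_right _ _), ← map_pow,
      sub_eq_zero] at hp0
    have hcen : X ^ p ∈ Subgroup.center (Matrix.SpecialLinearGroup (Fin 2) F) := by
      rw [GLOrder.center_SL2]
      rcases mul_self_eq_one_iff.1 hc with rfl | rfl
      · left; apply Subtype.ext
        rw [Matrix.SpecialLinearGroup.coe_pow, hp0, one_pow, map_one]; rfl
      · right; apply Subtype.ext
        rw [Matrix.SpecialLinearGroup.coe_pow, hp0, neg_one_pow_char F p, map_neg, map_one]
        simp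
    have h1 : orderOf (QuotientGroup.mk' (Subgroup.center (Matrix.SpecialLinearGroup (Fin 2) F)) X) ∣ p := by
      refine orderOf_dvd_of_pow_eq_one ?_
      rw [← map_pow]
      exact (QuotientGroup.eq_one_iff _).2 hcen
    rcases (Fact.out : p.Prime).eq_one_or_self_of_dvd _ h1 with h | h
    · omega
    · exact hxp (dvd_of_eq h.symm)

end Cfsg.Agent.S2455
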