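import Cfsg.Statements.S2456
import Cfsg.Agent.EqLemmas
import Cfsg.Agent.Lib.GLOrder.TraceCover

set_option autoImplicit false
open Cfsg

namespace Cfsg.Agent.S2456

open Cfsg.Agent

theorem prod_X_sub_C_univ (F : Type*) [Field F] [Fintype F] :
    ∏ c : F, (Polynomial.X - Polynomial.C c) = Polynomial.X ^ Fintype.card F - Polynomial.X := by
  have h1 := FiniteField.roots_X_pow_card_sub_X F
  have hm : (Polynomial.X ^ Fintype.card F - Polynomial.X : Polynomial F).Monic :=
    Polynomial.monic_X_pow_sub (by rw [Polynomial.degree_X]; exact_mod_cast Fintype.one_lt_card)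
  have h2 := Polynomial.prod_multiset_X_sub_C_of_monic_of_roots_card_eq hm (by
    rw [h1, FiniteField.X_pow_card_sub_X_natDegree_eq F Fintype.one_lt_card]; rfl)
  rw [h1] at h2
  exact h2

/-- A strong covering result in the direction of Thompson's conjecture (non-identity elements) for PSL(2,q), q even: let F be a finite field of characteristic 2 with q ≥ 4 elements and let x ∈ PSL(2,F) have order greater than 2 and not dividing q + 1. Then every non-identity element of PSL(2,F) is a product of two conjugates of x. -/
theorem result {F : Type*} [Field F] [Fintype F] [CharP F 2] (h4 : 4 ≤ Fintype.card F)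
    (x : Matrix.ProjectiveSpecialLinearGroup (Fin 2) F) (hx2 : 2 < orderOf x) (hxq : ¬ orderOf x ∣ Fintype.card F + 1) : ∀ g : Matrix.ProjectiveSpecialLinearGroup (Fin 2) F, g ≠ 1 → ∃ u v : Matrix.ProjectiveSpecialLinearGroup (Fin 2) F, g = (u * x * u⁻¹) * (v * x * v⁻¹) := by
  intro g hg
  obtain ⟨X, rfl⟩ := QuotientGroup.mk'_surjective _ x
  haveI : Fact (Nat.Prime 2) := ⟨Nat.prime_two⟩
  have hX : X * X ≠ 1 := by
    intro h
    have h1 : orderOf (QuotientGroup.mk' (Subgroup.center (Matrix.SpecialLinearGroup (Fin 2) F)) X) ∣ 2 :=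
      orderOf_dvd_of_pow_eq_one (by rw [pow_two, ← map_mul, h, map_one])
    have := Nat.le_of_dvd two_pos h1
    omega
  have h0 : PSL2.tr X ≠ 0 := fun h0 => hX (by
    rw [GLOrder.SL2_sq_eq_neg_one h0]
    apply Subtype.ext
    ext i j
    simp [CharTwo.neg_eq])
  obtain ⟨l, hl⟩ : ∃ l : F, l * (PSL2.tr X - l) = 1 := by
    by_contra hno
    apply hxq
    rcases PSL2.pow_card_cases 2 X with h | h | h
    · exfalso
      have hq : X ^ Fintype.card F = X := by
        have h1 : 1 ≤ Fintype.card F := by omega
        rw [← Nat.sub_add_cancel h1, pow_succ, ← Nat.card_eq_fintype_card, h, one_mul]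
      have hz : Polynomial.aeval (X : Matrix (Fin 2) (Fin 2) F)
          (∏ c : F, (Polynomial.X - Polynomial.C c)) = 0 := by
        rw [prod_X_sub_C_univ, map_sub, map_pow, Polynomial.aeval_X,
          ← Matrix.SpecialLinearGroup.coe_pow, hq, sub_self]
      obtain ⟨c, hc⟩ : ∃ c : F, (Polynomial.aeval (X : Matrix (Fin 2) (Fin 2) F)
          (Polynomial.X - Polynomial.C c)).det = 0 := by
        by_contra hall
        push Not at hall
        have hu : IsUnit (Polynomial.aeval (X : Matrix (Fin 2) (Fin 2) F)
            (∏ c : F, (Polynomial.X - Polynomial.C c))) :=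
          Finset.prod_induction _ (fun P => IsUnit (Polynomial.aeval (X : Matrix (Fin 2) (Fin 2) F) P))
            (fun a b ha hb => by rw [map_mul]; exact ha.mul hb) (by rw [map_one]; exact isUnit_one)
            (fun c _ => (Matrix.isUnit_iff_isUnit_det _).2 (isUnit_iff_ne_zero.2 (hall c)))
        rw [hz] at hu
        exact not_isUnit_zero hu
      apply hno
      refine ⟨c, ?_⟩
      rw [map_sub, Polynomial.aeval_X, Polynomial.aeval_C, Matrix.det_fin_two] at hc
      simp [Matrix.algebraMap_matrix_apply] at hc
      have hd := GLOrder.SL2_det X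
      simp only [PSL2.tr]
      linear_combination -hc + hd
    · rw [Nat.card_eq_fintype_card] at h
      exact orderOf_dvd_of_pow_eq_one (by rw [← map_pow, h, map_one])
    · exfalso
      apply hX
      rcases h with h | h
      · rw [← pow_two]; exact h
      · rw [← pow_two, h]
        apply Subtype.ext
        ext i j
        simp [CharTwo.neg_eq]
  exact GLOrder.psl_cover_split hl h0 g hg

end Cfsg.Agent.S2456
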