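import Cfsg.Statements.S2457
import Cfsg.Agent.Lib.Suzuki.CharCover

set_option autoImplicit false
open Cfsg

namespace Cfsg.Agent.S2457

/-- A strong covering result in the direction of Thompson's conjecture (non-identity elements) for the Suzuki groups: let q = 2^(2m+1) ≥ 8, F the field with q elements and Sz(q) the Suzuki group over F. For every element x of Sz(q) of order greater than 2, every non-identity element of Sz(q) is a product of two conjugates of x. -/
theorem result {F : Type*} [Field F] [Fintype F] (m : ℕ) (hm : 1 ≤ m) (hF : Fintype.card F = 2 ^ (2 * m + 1))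
    (x : Cfsg.Lie.Sz F (2 ^ (m + 1))) (hx2 : 2 < orderOf x) : ∀ g : Cfsg.Lie.Sz F (2 ^ (m + 1)), g ≠ 1 → ∃ u v : Cfsg.Lie.Sz F (2 ^ (m + 1)), g = (u * x * u⁻¹) * (v * x * v⁻¹) := by
  intro g hg
  classical
  obtain ⟨e⟩ : Nonempty (Cfsg.Sz F m ≃* Cfsg.Lie.Sz F (2 ^ (m + 1))) :=
    ⟨Cfsg.Agent.Suzuki.lieEquiv hm hF⟩
  haveI : Finite (Cfsg.Sz F m) := Nat.finite_of_card_ne_zero (by
    rw [Cfsg.Agent.Suzuki.card_sz hm hF]
    have h2 : 2 ≤ 2 ^ (2 * m + 1) := Nat.le_self_pow (by omega) 2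
    exact Nat.mul_ne_zero (Nat.mul_ne_zero (pow_ne_zero 2 (by omega)) (by omega)) (by omega))
  haveI := Fintype.ofFinite (Cfsg.Sz F m)
  haveI := Fintype.ofFinite (Cfsg.IrrCharacter (Cfsg.Sz F m))
  obtain ⟨u, v, h⟩ := Cfsg.Agent.Suzuki.CharTable.cover hm hF (x := e.symm x) (g := e.symm g)
    (by rwa [MulEquiv.orderOf_eq]) (fun h => hg (by simpa using h))
  exact ⟨e u, e v, by simpa using congrArg e h⟩

end Cfsg.Agent.S2457
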