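import Cfsg.Statements.S2458
import Cfsg.Agent.Lib.ReeCover.Main

set_option autoImplicit false
open Cfsg

namespace Cfsg.Agent.S2458

/-- A strong covering result in the direction of Thompson's conjecture (non-identity elements) for the small Ree groups: let q = 3^(2m+1) ≥ 27, K the field with q elements and ²G₂(q) the Ree group over K. For every element x of ²G₂(q) of order greater than 2 and not divisible by 3, every non-identity element of ²G₂(q) is a product of two conjugates of x. -/
theorem result {K : Type*} [Field K] [Fintype K] (m : ℕ) (hm : 1 ≤ m) (hK : Fintype.card K = 3 ^ (2 * m + 1))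
    (x : Cfsg.Lie.twistedG2 K (3 ^ m)) (hx2 : 2 < orderOf x) (hx3 : ¬ 3 ∣ orderOf x) : ∀ g : Cfsg.Lie.twistedG2 K (3 ^ m), g ≠ 1 → ∃ u v : Cfsg.Lie.twistedG2 K (3 ^ m), g = (u * x * u⁻¹) * (v * x * v⁻¹) := by
  haveI := Agent.Twisted.charP_ree hK
  intro g hg
  haveI := Fintype.ofFinite ↥(Agent.Twisted.foldK K m).fix
  obtain ⟨D, hP⟩ := Agent.ReeCover.exists_setting hK hm
  let e := MulEquiv.subgroupCongr (Agent.Twisted.twisted_eq (m := m) hK)
  obtain ⟨u, v, h⟩ := Agent.ReeCover.cov_main hK D hP hm (x := e x) (g := e g)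
    (by rwa [MulEquiv.orderOf_eq]) (by rwa [MulEquiv.orderOf_eq]) (by simpa using hg)
  refine ⟨e.symm u, e.symm v, e.injective ?_⟩
  simp [map_mul, map_inv, h]

end Cfsg.Agent.S2458
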