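import Cfsg.Statements.S2459
import Cfsg.Agent.EqLemmas

set_option autoImplicit false
open Cfsg

namespace Cfsg.Agent.S2459

open Matrix

variable {F : Type*} [Field F]

local notation "SL3" R => Matrix.SpecialLinearGroup (Fin 3) R

/-- A non-scalar matrix of determinant one moves some vector off its line. -/
private lemma exists_vec (g : SL3 F) (hg : g ∉ Subgroup.center (SL3 F)) :
    ∃ (v : Fin 3 → F) (i : Fin 3), (Matrix.of ![v, (g : Matrix (Fin 3) (Fin 3) F) *ᵥ v, Pi.single i 1]).det ≠ 0 := by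
  classical
  by_contra hc
  push Not at hc
  apply hg
  set A : Matrix (Fin 3) (Fin 3) F := (g : Matrix (Fin 3) (Fin 3) F) with hA
  have e : ∀ v i, (Matrix.of ![v, A *ᵥ v, Pi.single i 1]).det = 0 := hc
  have a10 : A 1 0 = 0 := by simpa [Matrix.det_fin_three, Matrix.mulVec, dotProduct, Fin.sum_univ_three] using e ![1, 0, 0] 2
  have a20 : A 2 0 = 0 := by simpa [Matrix.det_fin_three, Matrix.mulVec, dotProduct, Fin.sum_univ_three] using e ![1, 0, 0] 1
  have a01 : A 0 1 = 0 := by simpa [Matrix.det_fin_three, Matrix.mulVec, dotProduct, Fin.sum_univ_three] using e ![0, 1, 0] 2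
  have a21 : A 2 1 = 0 := by simpa [Matrix.det_fin_three, Matrix.mulVec, dotProduct, Fin.sum_univ_three] using e ![0, 1, 0] 0
  have a02 : A 0 2 = 0 := by simpa [Matrix.det_fin_three, Matrix.mulVec, dotProduct, Fin.sum_univ_three] using e ![0, 0, 1] 1
  have a12 : A 1 2 = 0 := by simpa [Matrix.det_fin_three, Matrix.mulVec, dotProduct, Fin.sum_univ_three] using e ![0, 0, 1] 0
  have d1 : A 1 1 = A 0 0 := by
    simpa [Matrix.det_fin_three, Matrix.mulVec, dotProduct, Fin.sum_univ_three, a10, a01, sub_eq_zero] using e ![1, 1, 0] 2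
  have d2 : A 2 2 = A 0 0 := by
    have h := e ![1, 0, 1] 1
    simp [Matrix.det_fin_three, Matrix.mulVec, dotProduct, Fin.sum_univ_three, a20, a02] at h
    linear_combination -h
  rw [Matrix.SpecialLinearGroup.mem_center_iff]
  refine ⟨A 0 0, ?_, ?_⟩
  · have h := g.2
    rw [← hA, Matrix.det_fin_three, a10, a20, a01, a21, a02, a12, d1, d2] at h
    simp only [Fintype.card_fin]
    linear_combination h
  · ext i j
    fin_cases i <;> fin_cases j <;> simp [← hA, a10, a20, a01, a21, a02, a12, d1, d2]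

/-- Any non-central element is conjugate to one with first column `(p, 1, 0)`. -/
private lemma normalize (g : SL3 F) (hg : g ∉ Subgroup.center (SL3 F)) (p : F) :
    ∃ T : SL3 F, ∀ i : Fin 3, (T⁻¹ * g * T : SL3 F) i 0 = ![p, 1, 0] i := by
  obtain ⟨v, i, hD⟩ := exists_vec g hg
  set A : Matrix (Fin 3) (Fin 3) F := (g : Matrix (Fin 3) (Fin 3) F) with hA
  set D := (Matrix.of ![v, A *ᵥ v, Pi.single i 1]).det with hDdef
  let u : Fin 3 → F := A *ᵥ v - p • v
  let w : Fin 3 → F := D⁻¹ • Pi.single i 1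
  have hdet : (Matrix.of ![v, u, w])ᵀ.det = 1 := by
    have : (Matrix.of ![v, u, w]).det = D⁻¹ * D := by
      have : ∀ s : F, (Matrix.of ![v, u, s • Pi.single i 1]).det = s * D := fun s => by
        rw [hDdef]
        simp [Matrix.det_fin_three, u]
        ring
      exact this D⁻¹
    rw [Matrix.det_transpose, this, inv_mul_cancel₀ hD]
  let T : SL3 F := ⟨(Matrix.of ![v, u, w])ᵀ, hdet⟩
  refine ⟨T, fun j => ?_⟩
  have key : ((g * T : SL3 F) : Matrix (Fin 3) (Fin 3) F) *ᵥ Pi.single 0 1 =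
      (T : Matrix (Fin 3) (Fin 3) F) *ᵥ ![p, 1, 0] := by
    rw [Matrix.SpecialLinearGroup.coe_mul, ← Matrix.mulVec_mulVec]
    ext k
    simp [T, u, Matrix.mulVec, dotProduct, Fin.sum_univ_three, ← hA]
    ring
  have h2 : ((T⁻¹ * g * T : SL3 F) : Matrix (Fin 3) (Fin 3) F) *ᵥ Pi.single 0 1 = ![p, 1, 0] := by
    rw [mul_assoc, Matrix.SpecialLinearGroup.coe_mul, ← Matrix.mulVec_mulVec, key, Matrix.mulVec_mulVec,
      ← Matrix.SpecialLinearGroup.coe_mul, inv_mul_cancel, Matrix.SpecialLinearGroup.coe_one,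
      Matrix.one_mulVec]
  have := congrFun h2 j
  simpa using this

/-- The second leading minor may be prescribed as well. -/
private lemma adjust (M : SL3 F) (p : F) (hM : ∀ i : Fin 3, M i 0 = ![p, 1, 0] i) (β : F) :
    ∃ T : SL3 F, (T⁻¹ * M * T : SL3 F) 0 0 = p ∧
      (T⁻¹ * M * T : SL3 F) 0 0 * (T⁻¹ * M * T : SL3 F) 1 1 -
        (T⁻¹ * M * T : SL3 F) 0 1 * (T⁻¹ * M * T : SL3 F) 1 0 = β := by
  have h00 : M 0 0 = p := by simpa using hM 0
  have h10 : M 1 0 = 1 := by simpa using hM 1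
  have h20 : M 2 0 = 0 := by simpa using hM 2
  have hdet : p * M 1 1 * M 2 2 - p * M 1 2 * M 2 1 - M 0 1 * M 2 2 + M 0 2 * M 2 1 = 1 := by
    have h := M.2
    rw [Matrix.det_fin_three, h00, h10, h20] at h
    linear_combination h
  set π := p * M 1 1 - M 0 1 with hπ
  by_cases he : M 2 1 = 0
  · have hμ : M 2 2 ≠ 0 := by
      intro h
      rw [he, h] at hdet
      simp at hdet
    obtain ⟨δ, hδ⟩ : ∃ δ : F, p * M 1 2 - M 0 2 + δ * M 2 2 ≠ 0 := by
      by_cases h : p * M 1 2 - M 0 2 = 0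
      · exact ⟨1, by simpa [h] using hμ⟩
      · exact ⟨0, by simpa using h⟩
    obtain ⟨γ, hγ⟩ : ∃ γ : F, γ * (p * M 1 2 - M 0 2 + δ * M 2 2) = β - π :=
      ⟨_, div_mul_cancel₀ _ hδ⟩
    let T : SL3 F := ⟨!![1, δ * γ, δ; 0, 1, 0; 0, γ, 1], by simp [Matrix.det_fin_three]⟩
    have hT : ((T⁻¹ : SL3 F) : Matrix (Fin 3) (Fin 3) F) = !![1, 0, -δ; 0, 1, 0; 0, -γ, 1] := by
      rw [Matrix.SpecialLinearGroup.coe_inv, Matrix.adjugate_fin_three]
      simp [T]
    refine ⟨T, ?_, ?_⟩ <;>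
      rw [Matrix.SpecialLinearGroup.coe_mul, Matrix.SpecialLinearGroup.coe_mul, hT]
    · simp [Matrix.mul_apply, Matrix.vecMul, dotProduct, Fin.sum_univ_three, T, h00, h10, h20]
    · simp [Matrix.mul_apply, Matrix.vecMul, dotProduct, Fin.sum_univ_three, T, h00, h10, h20, he]
      linear_combination hγ + hπ
  · obtain ⟨δ, hδ⟩ : ∃ δ : F, δ * M 2 1 = β - π := ⟨_, div_mul_cancel₀ _ he⟩
    let T : SL3 F := ⟨!![1, 0, δ; 0, 1, 0; 0, 0, 1], by simp [Matrix.det_fin_three]⟩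
    have hT : ((T⁻¹ : SL3 F) : Matrix (Fin 3) (Fin 3) F) = !![1, 0, -δ; 0, 1, 0; 0, 0, 1] := by
      rw [Matrix.SpecialLinearGroup.coe_inv, Matrix.adjugate_fin_three]
      simp [T]
    refine ⟨T, ?_, ?_⟩ <;>
      rw [Matrix.SpecialLinearGroup.coe_mul, Matrix.SpecialLinearGroup.coe_mul, hT]
    · simp [Matrix.mul_apply, Matrix.vecMul, dotProduct, Fin.sum_univ_three, T, h00, h10, h20]
    · simp [Matrix.mul_apply, Matrix.vecMul, dotProduct, Fin.sum_univ_three, T, h00, h10, h20]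
      linear_combination hδ + hπ

/-- LU factorisation with both diagonals equal to `(a, b, c)`. -/
private lemma lu (M x : SL3 F) {a b c : F} (hab : a ≠ b) (hac : a ≠ c) (hbc : b ≠ c) (habc : a * b * c = 1)
    (hx : (x : Matrix (Fin 3) (Fin 3) F) = Matrix.diagonal ![a, b, c])
    (h00 : M 0 0 = a ^ 2) (hminor : M 0 0 * M 1 1 - M 0 1 * M 1 0 = a ^ 2 * b ^ 2) :
    ∃ P Q : SL3 F, M = P * x * P⁻¹ * (Q * x * Q⁻¹) := by
  have ha : a ≠ 0 := fun h => by simp [h] at habc
  have hb : b ≠ 0 := fun h => by simp [h] at habc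
  have hc : c ≠ 0 := fun h => by simp [h] at habc
  let l32 := (M 2 1 - M 2 0 * M 0 1 / a ^ 2) / b
  let u23 := (M 1 2 - M 1 0 * M 0 2 / a ^ 2) / b
  let L : SL3 F := ⟨!![a, 0, 0; M 1 0 / a, b, 0; M 2 0 / a, l32, c],
    by simp [Matrix.det_fin_three, habc]⟩
  let U : SL3 F := ⟨!![a, M 0 1 / a, M 0 2 / a; 0, b, u23; 0, 0, c],
    by simp [Matrix.det_fin_three, habc]⟩
  let p21 := M 1 0 / a / (a - b)
  let P : SL3 F := ⟨!![1, 0, 0; p21, 1, 0; (M 2 0 / a + l32 * p21) / (a - c), l32 / (b - c), 1],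
    by simp [Matrix.det_fin_three]⟩
  let q12 := M 0 1 / a / (b - a)
  let q23 := u23 / (c - b)
  let Q : SL3 F := ⟨!![1, q12, (M 0 2 / a + M 0 1 / a * q23) / (c - a); 0, 1, q23; 0, 0, 1],
    by simp [Matrix.det_fin_three]⟩
  have hab' := sub_ne_zero.2 hab
  have hac' := sub_ne_zero.2 hac
  have hbc' := sub_ne_zero.2 hbc
  have hba' := sub_ne_zero.2 hab.symm
  have hca' := sub_ne_zero.2 hac.symm
  have hcb' := sub_ne_zero.2 hbc.symm
  have hL : L * P = P * x := by
    apply Subtype.ext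
    rw [Matrix.SpecialLinearGroup.coe_mul, Matrix.SpecialLinearGroup.coe_mul, hx]
    ext i j
    fin_cases i <;> fin_cases j <;>
      simp [Matrix.mul_apply, Matrix.vecMul, dotProduct, Fin.sum_univ_three, L, P, p21] <;> field_simp <;> ring
  have hU : U * Q = Q * x := by
    apply Subtype.ext
    rw [Matrix.SpecialLinearGroup.coe_mul, Matrix.SpecialLinearGroup.coe_mul, hx]
    ext i j
    fin_cases i <;> fin_cases j <;>
      simp [Matrix.mul_apply, Matrix.vecMul, dotProduct, Fin.sum_univ_three, U, Q, q12, q23] <;> field_simp <;> ring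
  have h11 : M 1 1 = M 1 0 / a * (M 0 1 / a) + b ^ 2 := by
    rw [h00] at hminor
    field_simp
    linear_combination hminor
  have h22 : M 2 2 = M 2 0 / a * (M 0 2 / a) + l32 * u23 + c ^ 2 := by
    have h := M.2
    rw [Matrix.det_fin_three, h00, h11] at h
    have hc2 : c ^ 2 = 1 / (a ^ 2 * b ^ 2) := by
      field_simp
      linear_combination (a * b * c + 1) * habc
    rw [hc2]
    simp only [l32, u23]
    field_simp at h ⊢
    linear_combination h
  have hM : M = L * U := by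
    apply Subtype.ext
    rw [Matrix.SpecialLinearGroup.coe_mul]
    ext i j
    fin_cases i <;> fin_cases j <;>
      simp [Matrix.mul_apply, Matrix.vecMul, dotProduct, Fin.sum_univ_three, L, U, h00, h11, h22, l32, u23] <;>
      field_simp <;> ring
  refine ⟨P, Q, ?_⟩
  rw [hM, ← hL, ← hU, mul_inv_cancel_right, mul_inv_cancel_right]

/-- Large fields: a product of two conjugates of `diag(a, b, c)`. -/
private lemma split_case (g x : SL3 F) (hg : g ∉ Subgroup.center (SL3 F)) {a b c : F}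
    (hab : a ≠ b) (hac : a ≠ c) (hbc : b ≠ c) (habc : a * b * c = 1)
    (hx : (x : Matrix (Fin 3) (Fin 3) F) = Matrix.diagonal ![a, b, c]) :
    ∃ P Q : SL3 F, g = P * x * P⁻¹ * (Q * x * Q⁻¹) := by
  obtain ⟨T, hT⟩ := normalize g hg (a ^ 2)
  obtain ⟨S, hS0, hS1⟩ := adjust (T⁻¹ * g * T) (a ^ 2) hT (a ^ 2 * b ^ 2)
  obtain ⟨P, Q, h⟩ := lu _ x hab hac hbc habc hx hS0 hS1
  refine ⟨T * S * P, T * S * Q, ?_⟩
  have : g = T * S * (S⁻¹ * (T⁻¹ * g * T) * S) * (T * S)⁻¹ := by simp [mul_assoc]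
  rw [this, h]
  simp [mul_assoc]

/-! ### The field with three elements -/

/-- The companion matrix of `X ^ 3 - X ^ 2 - 1`, of order eight. -/
private def C3 : SL3 (ZMod 3) := ⟨!![0, 0, 1; 1, 0, 0; 0, 1, 1], by decide +kernel⟩

/-- Conjugates of `C3` sufficient for all products. -/
private def witnesses : List (Fin 3 → Fin 3 → ZMod 3) :=
  [![![0, 0, 1], ![2, 0, 0], ![0, 2, 1]],
    ![![0, 0, 1], ![2, 1, 0], ![0, 2, 0]],
    ![![0, 0, 1], ![2, 2, 2], ![0, 2, 2]],
    ![![0, 1, 0], ![2, 0, 1], ![0, 1, 1]],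
    ![![0, 1, 0], ![2, 0, 2], ![0, 2, 1]],
    ![![0, 1, 1], ![2, 1, 2], ![0, 2, 0]],
    ![![0, 2, 2], ![2, 1, 2], ![0, 1, 0]],
    ![![0, 1, 2], ![2, 1, 1], ![0, 1, 0]],
    ![![0, 1, 1], ![2, 2, 2], ![0, 1, 2]],
    ![![2, 2, 0], ![1, 0, 1], ![0, 2, 2]],
    ![![0, 1, 1], ![1, 0, 1], ![1, 1, 1]],
    ![![2, 2, 2], ![1, 1, 0], ![0, 2, 1]],
    ![![2, 0, 0], ![1, 0, 1], ![0, 1, 2]],
    ![![0, 0, 2], ![0, 1, 2], ![1, 2, 0]]]

/-- The matrix with columns `e, Y e, Y (Y e)`. -/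
private def krylov (Y : Matrix (Fin 3) (Fin 3) (ZMod 3)) : Matrix (Fin 3) (Fin 3) (ZMod 3) :=
  Matrix.of fun i j => ![![1, 0, 0] i, Y i 0, Y i 0 * Y 0 0 + Y i 1 * Y 1 0 + Y i 2 * Y 2 0] j

private def det3 (A : Matrix (Fin 3) (Fin 3) (ZMod 3)) : ZMod 3 :=
  A 0 0 * (A 1 1 * A 2 2 - A 1 2 * A 2 1) - A 0 1 * (A 1 0 * A 2 2 - A 1 2 * A 2 0) +
    A 0 2 * (A 1 0 * A 2 1 - A 1 1 * A 2 0)

private def C3mat : Matrix (Fin 3) (Fin 3) (ZMod 3) := !![0, 0, 1; 1, 0, 0; 0, 1, 1]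

private def conjTest (Y : Matrix (Fin 3) (Fin 3) (ZMod 3)) : Prop :=
  det3 (krylov Y) ≠ 0 ∧ ∀ i j, (Y * krylov Y) i j =
    (krylov Y * C3mat) i j

private instance (Y : Matrix (Fin 3) (Fin 3) (ZMod 3)) : Decidable (conjTest Y) :=
  inferInstanceAs (Decidable (_ ∧ _))

private def formMat (x y q z e μ : ZMod 3) : Matrix (Fin 3) (Fin 3) (ZMod 3) :=
  !![0, x, y; 1, q, z; 0, e, μ]

private lemma table : ∀ x y q z e μ : ZMod 3, y * e - x * μ = 1 → ∃ Y ∈ witnesses,
    det3 (Matrix.of Y) = 1 ∧ conjTest (Matrix.of Y) ∧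
      conjTest (formMat x y q z e μ * (Matrix.of Y).adjugate) := by
  decide +kernel

private lemma conj_of_test (Y : SL3 (ZMod 3)) (h : conjTest (Y : Matrix (Fin 3) (Fin 3) (ZMod 3))) :
    ∃ P : SL3 (ZMod 3), Y = P * C3 * P⁻¹ := by
  obtain ⟨h1, h2⟩ := h
  set K := krylov (Y : Matrix (Fin 3) (Fin 3) (ZMod 3))
  have hd : det3 K = K.det := by simp [det3, Matrix.det_fin_three]; ring
  have h2' : (Y : Matrix (Fin 3) (Fin 3) (ZMod 3)) * K = K * C3mat :=
    Matrix.ext h2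
  have hsign : ∀ z : ZMod 3, z ≠ 0 → z = 1 ∨ (-1) ^ 3 * z = 1 := by decide +kernel
  rcases hsign _ h1 with h | h
  · let P : SL3 (ZMod 3) := ⟨K, hd ▸ h⟩
    refine ⟨P, eq_mul_inv_of_mul_eq (Subtype.ext ?_)⟩
    simp only [Matrix.SpecialLinearGroup.coe_mul]
    exact h2'
  · let P : SL3 (ZMod 3) := ⟨-K, by rw [Matrix.det_neg, Fintype.card_fin, ← hd]; exact h⟩
    refine ⟨P, eq_mul_inv_of_mul_eq (Subtype.ext ?_)⟩
    simp only [Matrix.SpecialLinearGroup.coe_mul]
    change (Y : Matrix (Fin 3) (Fin 3) (ZMod 3)) * (-K) = -K * _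
    rw [Matrix.mul_neg, Matrix.neg_mul]
    exact congrArg Neg.neg h2'

private lemma three_case (g : SL3 (ZMod 3)) (hg : g ∉ Subgroup.center (SL3 (ZMod 3))) :
    ∃ P Q : SL3 (ZMod 3), g = P * C3 * P⁻¹ * (Q * C3 * Q⁻¹) := by
  haveI : Fact (Nat.Prime 3) := ⟨Nat.prime_three⟩
  obtain ⟨T, hT⟩ := normalize g hg 0
  set M := T⁻¹ * g * T with hM
  have h00 : M 0 0 = 0 := by simpa using hT 0
  have h10 : M 1 0 = 1 := by simpa using hT 1
  have h20 : M 2 0 = 0 := by simpa using hT 2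
  have hform : (M : Matrix (Fin 3) (Fin 3) (ZMod 3)) =
      formMat (M 0 1) (M 0 2) (M 1 1) (M 1 2) (M 2 1) (M 2 2) := by
    ext i j
    fin_cases i <;> fin_cases j <;> simp [formMat, h00, h10, h20]
  have hdet : M 0 2 * M 2 1 - M 0 1 * M 2 2 = 1 := by
    have h := M.2
    rw [Matrix.det_fin_three, h00, h10, h20] at h
    linear_combination h
  obtain ⟨Y, -, hY1, hY2, hY3⟩ := table _ _ (M 1 1) (M 1 2) _ _ hdet
  let Y' : SL3 (ZMod 3) := ⟨Matrix.of Y, by rw [← hY1]; simp [det3, Matrix.det_fin_three]; ring⟩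
  obtain ⟨Q, hQ⟩ := conj_of_test Y' hY2
  obtain ⟨P, hP⟩ := conj_of_test (M * Y'⁻¹) (by
    rw [Matrix.SpecialLinearGroup.coe_mul, Matrix.SpecialLinearGroup.coe_inv, hform]; exact hY3)
  refine ⟨T * P, T * Q, ?_⟩
  have : g = T * (M * Y'⁻¹ * Y') * T⁻¹ := by simp [hM, mul_assoc]
  rw [this, hP, hQ]
  simp [mul_assoc]

/-- Reduction from `SL` to `PSL`. -/
private lemma to_psl (x : SL3 F) (h : ∀ g : SL3 F, g ∉ Subgroup.center (SL3 F) →
    ∃ P Q : SL3 F, g = P * x * P⁻¹ * (Q * x * Q⁻¹))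
    (g : Matrix.ProjectiveSpecialLinearGroup (Fin 3) F) (hg : g ≠ 1) :
    ∃ u v : Matrix.ProjectiveSpecialLinearGroup (Fin 3) F,
      g = (u * QuotientGroup.mk x * u⁻¹) * (v * QuotientGroup.mk x * v⁻¹) := by
  obtain ⟨g, rfl⟩ := QuotientGroup.mk_surjective g
  obtain ⟨P, Q, rfl⟩ := h g (fun hc => hg ((QuotientGroup.eq_one_iff g).2 hc))
  exact ⟨QuotientGroup.mk P, QuotientGroup.mk Q, by simp⟩


/-- A form of Thompson's conjecture for PSL(3,q), q > 2 (covering the non-identity elements), with a semisimple class: for F a finite field of characteristic p with more than 2 elements there is an element x of PSL(3,F) of order prime to p such that every non-identity element of PSL(3,F) is a product of two conjugates of x. -/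
theorem result {F : Type*} [Field F] [Fintype F] (p : ℕ) [Fact p.Prime] [CharP F p] (h3 : 3 ≤ Fintype.card F) :
    ∃ x : Matrix.ProjectiveSpecialLinearGroup (Fin 3) F, ¬ p ∣ orderOf x ∧ ∀ g : Matrix.ProjectiveSpecialLinearGroup (Fin 3) F, g ≠ 1 → ∃ u v : Matrix.ProjectiveSpecialLinearGroup (Fin 3) F, g = (u * x * u⁻¹) * (v * x * v⁻¹) := by
  classical
  have hp : p.Prime := Fact.out
  by_cases h4 : 4 ≤ Fintype.card F
  · obtain ⟨b, hb⟩ : ∃ b : F, b ∉ ({0, 1, -1} : Finset F) := by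
      by_contra hc
      push Not at hc
      have h1 := Finset.card_le_card (fun b _ => hc b : (Finset.univ : Finset F) ⊆ {0, 1, -1})
      have := Finset.card_le_three (a := (0 : F)) (b := 1) (c := -1)
      rw [Finset.card_univ] at h1
      omega
    simp only [Finset.mem_insert, Finset.mem_singleton, not_or] at hb
    obtain ⟨hb0, hb1, hb2⟩ := hb
    have h1b : (1 : F) ≠ b⁻¹ := fun h => hb1 (inv_eq_one.1 h.symm)
    have hbb : b ≠ b⁻¹ := fun h => by
      have : b * b = 1 := by nth_rw 2 [h]; exact mul_inv_cancel₀ hb0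
      rcases mul_self_eq_one_iff.1 this with h' | h'
      · exact hb1 h'
      · exact hb2 h'
    let x : Matrix.SpecialLinearGroup (Fin 3) F := ⟨Matrix.diagonal ![1, b, b⁻¹],
      by simp [Matrix.det_diagonal, Fin.prod_univ_three, mul_inv_cancel₀ hb0]⟩
    refine ⟨QuotientGroup.mk x, ?_, to_psl x fun g hg =>
      split_case g x hg (Ne.symm hb1) h1b hbb (by rw [one_mul, mul_inv_cancel₀ hb0]) rfl⟩
    intro hdvd
    have hx : x ^ (Fintype.card F - 1) = 1 := by
      apply Subtype.ext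
      rw [Matrix.SpecialLinearGroup.coe_pow, Matrix.SpecialLinearGroup.coe_one]
      change Matrix.diagonal ![1, b, b⁻¹] ^ _ = 1
      rw [Matrix.diagonal_pow, ← Matrix.diagonal_one]
      congr 1
      ext i
      fin_cases i <;> simp [FiniteField.pow_card_sub_one_eq_one, hb0]
    have h1 : p ∣ Fintype.card F - 1 := hdvd.trans (orderOf_dvd_of_pow_eq_one (by
      rw [← QuotientGroup.mk_pow, hx, QuotientGroup.mk_one]))
    obtain ⟨n, -, hn⟩ := FiniteField.card F p
    have h2 : p ∣ Fintype.card F := hn ▸ dvd_pow_self p n.ne_zero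
    have := Nat.dvd_sub h2 h1
    rw [show Fintype.card F - (Fintype.card F - 1) = 1 by omega, Nat.dvd_one] at this
    exact hp.ne_one this
  · have hq : Fintype.card F = 3 := by omega
    have hp3 : p = 3 := by
      obtain ⟨n, -, hn⟩ := FiniteField.card F p
      have h2 : p ∣ 3 := hq ▸ hn ▸ dvd_pow_self p n.ne_zero
      exact (Nat.prime_dvd_prime_iff_eq hp Nat.prime_three).1 h2
    subst hp3
    let e := ZMod.ringEquivOfPrime F Nat.prime_three hq
    let f : Matrix.SpecialLinearGroup (Fin 3) (ZMod 3) →* Matrix.SpecialLinearGroup (Fin 3) F :=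
      Matrix.SpecialLinearGroup.map e.toRingHom
    let f' : Matrix.SpecialLinearGroup (Fin 3) F →* Matrix.SpecialLinearGroup (Fin 3) (ZMod 3) :=
      Matrix.SpecialLinearGroup.map e.symm.toRingHom
    have hff : ∀ g, f (f' g) = g := fun g => by
      ext i j; exact e.apply_symm_apply _
    refine ⟨QuotientGroup.mk (f C3), ?_, to_psl (f C3) fun g hg => ?_⟩
    · intro hdvd
      have h8 : f C3 ^ 8 = 1 := by
        rw [← map_pow, show C3 ^ 8 = 1 by decide +kernel, map_one]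
      have := hdvd.trans (orderOf_dvd_of_pow_eq_one (n := 8) (by
        rw [← QuotientGroup.mk_pow, h8, QuotientGroup.mk_one]))
      norm_num at this
    · obtain ⟨P, Q, h⟩ := three_case (f' g) (fun hc => hg (by
        rw [← hff g, Subgroup.mem_center_iff]
        intro y
        have := congrArg f (Subgroup.mem_center_iff.1 hc (f' y))
        rw [map_mul, map_mul, hff y] at this
        exact this))
      exact ⟨f P, f Q, by rw [← hff g, h]; simp⟩

end Cfsg.Agent.S2459
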