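import Cfsg.Statements.S2461
import Cfsg.Agent.EqLemmas
import Cfsg.Agent.Lib.G2Thompson.Fields

set_option autoImplicit false
open Cfsg

namespace Cfsg.Agent.S2461

/-- A form of Thompson's conjecture for the simple Chevalley groups G₂(q), q ≥ 3 (covering the non-identity elements), with a semisimple class: for F a finite field of characteristic p with at least 3 elements there is an element x of the Chevalley group of type G₂ over F of order prime to p such that every non-identity element of that group is a product of two conjugates of x. -/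
theorem result {F : Type*} [Field F] [Fintype F] (p : ℕ) [Fact p.Prime] [CharP F p] (h3 : 3 ≤ Fintype.card F) :
    ∃ x : Cfsg.Lie.chevG2.group F, ¬ p ∣ orderOf x ∧ ∀ g : Cfsg.Lie.chevG2.group F, g ≠ 1 → ∃ u v : Cfsg.Lie.chevG2.group F, g = (u * x * u⁻¹) * (v * x * v⁻¹) := by
  by_cases h7 : 7 ≤ Fintype.card F
  · exact G2Thompson.exists_split p h7
  have h : Fintype.card F = 3 ∨ Fintype.card F = 4 ∨ Fintype.card F = 5 := by
    have h6 : Fintype.card F ≠ 6 := fun e => by
      obtain ⟨n, hn⟩ := FiniteField.card F p
      rw [e] at hn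
      have h2 : 2 ∣ p ^ (n : ℕ) := by rw [← hn.2]; norm_num
      have h3' : 3 ∣ p ^ (n : ℕ) := by rw [← hn.2]; norm_num
      have e2 := (Nat.prime_dvd_prime_iff_eq Nat.prime_two hn.1).1 (Nat.prime_two.dvd_of_dvd_pow h2)
      have e3 := (Nat.prime_dvd_prime_iff_eq Nat.prime_three hn.1).1 (Nat.prime_three.dvd_of_dvd_pow h3')
      omega
    omega
  rcases h with h | h | h
  exacts [G2Thompson.exists_three p h, G2Thompson.exists_four p h, G2Thompson.exists_five p h]

end Cfsg.Agent.S2461
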