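import Cfsg.Statements.S2462
import Cfsg.Agent.EqLemmas
import Cfsg.Agent.Lib.D4Thompson.TwoFinal
import Cfsg.Agent.Lib.TwistE6D4.Results
import Cfsg.Agent.Lib.Chev.DataD4

set_option autoImplicit false
open Cfsg

namespace Cfsg.Agent.S2462

/-- A form of Thompson's conjecture for the triality groups ³D₄(q) (covering the non-identity elements) with a semisimple class: for q a power of the prime p and K the field with q³ elements there is an element x of ³D₄(q) (realised over K) of order prime to p such that every non-identity element of ³D₄(q) is a product of two conjugates of x. -/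
theorem result {K : Type*} [Field K] [Fintype K] (p : ℕ) [Fact p.Prime] [CharP K p] (q : ℕ) (hq : IsPrimePow q) (hK : Fintype.card K = q ^ 3) :
    ∃ x : Cfsg.Lie.twistedD4 K q, ¬ p ∣ orderOf x ∧ ∀ g : Cfsg.Lie.twistedD4 K q, g ≠ 1 → ∃ u v : Cfsg.Lie.twistedD4 K q, g = (u * x * u⁻¹) * (v * x * v⁻¹) := by
  have hD := Agent.Chev.DataD4.good
  obtain ⟨φ, e, h⟩ := Agent.TwistE6D4.exists_ctxD4 (K := K) hD hq hK
  have hs : IsSimpleGroup ↥(Agent.TwistE6D4.ctxD4 hD φ).G0 :=
    e ▸ (Agent.TwistE6D4.simple_twistedD4 (K := K) hD hq hK).1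
  have hpow : ∀ t : K, φ t = t ^ q := h.pow
  have h3 : ∀ t, φ (φ (φ t)) = t := fun t => by
    rw [hpow, hpow, hpow, ← pow_mul, ← pow_mul, show q * (q * q) = Fintype.card K by rw [hK]; ring]
    exact FiniteField.pow_card t
  obtain ⟨n, hn, hcard⟩ := FiniteField.card K p
  rw [hK] at hcard
  have hdvd : q ∣ p ^ (n : ℕ) := hcard ▸ dvd_pow_self q three_ne_zero
  obtain ⟨k, -, hpk⟩ := (Nat.dvd_prime_pow hn).1 hdvd
  rw [e]
  by_cases hodd : q % 2 = 1
  · exact Agent.D4Thompson.exists_odd hD φ h3 hpow hK hq.one_lt hodd hs p hpk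
  have hp2 : p = 2 := by
    have h2q : 2 ∣ p ^ k := by rw [← hpk]; omega
    exact ((Nat.prime_dvd_prime_iff_eq Nat.prime_two hn).1 (Nat.prime_two.dvd_of_dvd_pow h2q)).symm
  subst hp2
  have h2 : (2 : K) = 0 := by exact_mod_cast CharP.cast_eq_zero K 2
  have hq1 := hq.one_lt
  rcases (show k = 0 ∨ k = 1 ∨ k = 2 ∨ 3 ≤ k by omega) with rfl | rfl | rfl | hk
  · simp at hpk; omega
  · obtain rfl : q = 2 := by simpa using hpk
    exact Agent.D4Thompson.Two.exists_two (hD := hD) (φ := φ) (by rw [hK]; norm_num) hpow h3 h2 hs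
  · obtain rfl : q = 4 := by simpa using hpk
    exact Agent.D4Thompson.exists_even hD φ h3 hpow hK h2 (Or.inl rfl) hs 2
  · refine Agent.D4Thompson.exists_even hD φ h3 hpow hK h2 (Or.inr ?_) hs 2
    rw [hpk]
    exact (show 2 ^ 3 ≤ 2 ^ k from Nat.pow_le_pow_right (by norm_num) hk)

end Cfsg.Agent.S2462
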