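import Cfsg.Statements.S2463
import Cfsg.Agent.EqLemmas
import Cfsg.Agent.Lib.ReeLargeThompson.Cover
import Cfsg.Agent.Lib.ReeLargeThompson.Tits

set_option autoImplicit false
open Cfsg

namespace Cfsg.Agent.S2463

/-- A form of Thompson's conjecture for the simple groups of type ²F₄ (covering the non-identity elements) with a semisimple class: if M is a large Ree group ²F₄(2^(2m+1)) with m ≥ 1, or the Tits group, then there is an element x of M of odd order such that every non-identity element of M is a product of two conjugates of x. -/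
theorem result {M : Type*} [Group M] [Finite M] (hM : Cfsg.Lie.Iso2F4 M ∨ Cfsg.Lie.IsoTits M) :
    ∃ x : M, Odd (orderOf x) ∧ ∀ g : M, g ≠ 1 → ∃ u v : M, g = (u * x * u⁻¹) * (v * x * v⁻¹) := by
  classical
  rcases hM with ⟨K, hF, hT, m, hm, hK, ⟨e⟩⟩ | ⟨⟨e⟩⟩
  · haveI : CharP K 2 := Cfsg.Agent.Twisted.F4.charP_f4 hK
    obtain ⟨x, hx, hodd, hcov⟩ := Cfsg.Agent.ReeLargeThompson.exists_large hK hm
    refine ⟨e.symm ⟨x, hx⟩, ?_, fun g hg => ?_⟩
    · rwa [MulEquiv.orderOf_eq, ← Subgroup.orderOf_coe]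
    · obtain ⟨a, ha, b, hb, h⟩ := hcov _ (e g).2 (fun h => hg (e.injective (Subtype.ext (by rw [h, map_one]; rfl))))
      refine ⟨e.symm ⟨a, ha⟩, e.symm ⟨b, hb⟩, e.injective ?_⟩
      simp only [map_mul, map_inv, MulEquiv.apply_symm_apply]
      exact Subtype.ext h
  · obtain ⟨x, hodd, hcov⟩ := Cfsg.Agent.ReeLargeThompson.TitsCert.exists_tits
    refine ⟨e.symm x, ?_, fun g hg => ?_⟩
    · rwa [MulEquiv.orderOf_eq]
    · obtain ⟨a, b, h⟩ := hcov (e g) (fun h => hg (e.injective (by rw [h, map_one])))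
      refine ⟨e.symm a, e.symm b, e.injective ?_⟩
      simp only [map_mul, map_inv, MulEquiv.apply_symm_apply]
      exact h

end Cfsg.Agent.S2463
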