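import Cfsg.Statements.S2466
import Cfsg.Agent.EqLemmas

set_option autoImplicit false
open Cfsg

namespace Cfsg.Agent.S2466

open Equiv.Perm

/-- An even permutation with a given cycle type. -/
theorem exists_alt {n : ℕ} (m : Multiset ℕ) (hs : m.sum ≤ n) (h2 : ∀ a ∈ m, 2 ≤ a)
    (he : Even (m.sum + Multiset.card m)) :
    m.lcm ∈ Set.range (orderOf : alternatingGroup (Fin n) → ℕ) := by
  obtain ⟨g, hg⟩ := (Equiv.Perm.exists_with_cycleType_iff (Fin n)).2 ⟨by simpa using hs, h2⟩
  have hmem : g ∈ alternatingGroup (Fin n) := by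
    rw [Equiv.Perm.mem_alternatingGroup, sign_of_cycleType, hg]
    exact he.neg_one_pow
  exact ⟨⟨g, hmem⟩, by rw [Subgroup.orderOf_mk, ← lcm_cycleType, hg]⟩

/-- The cycle type of an even permutation of given order. -/
theorem cycle_data {n d : ℕ} (h : d ∈ Set.range (orderOf : alternatingGroup (Fin n) → ℕ)) :
    ∃ m : Multiset ℕ, m.lcm = d ∧ m.sum ≤ n ∧ (∀ a ∈ m, 2 ≤ a) ∧ Even (m.sum + Multiset.card m) := by
  obtain ⟨⟨g, hg⟩, rfl⟩ := h
  refine ⟨g.cycleType, by rw [lcm_cycleType, Subgroup.orderOf_mk], by simpa using g.sum_cycleType_le,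
    fun a ha => two_le_of_mem_cycleType ha, ?_⟩
  rw [Equiv.Perm.mem_alternatingGroup, sign_of_cycleType] at hg
  by_contra hc
  rw [Nat.not_even_iff_odd] at hc
  rw [hc.neg_one_pow] at hg
  exact absurd hg (by decide)

/-- A prime dividing the lcm divides a member. -/
theorem exists_mem_of_dvd_lcm {r : ℕ} (hr : r.Prime) (m : Multiset ℕ) (h : r ∣ m.lcm) : ∃ a ∈ m, r ∣ a := by
  induction m using Multiset.induction_on with
  | empty => simp at h; exact absurd h hr.ne_one
  | cons a m ih =>
    rw [Multiset.lcm_cons] at h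
    have h' : r ∣ a * m.lcm := h.trans (Nat.lcm_dvd_mul _ _)
    rcases hr.dvd_mul.1 h' with h' | h'
    · exact ⟨a, Multiset.mem_cons_self _ _, h'⟩
    · obtain ⟨b, hb, hrb⟩ := ih h'
      exact ⟨b, Multiset.mem_cons_of_mem hb, hrb⟩

/-- Adjacency of odd primes in the prime graph of the alternating groups: let r ≠ s be odd primes at most n. The alternating group of degree n has an element of order r·s if and only if r + s ≤ n. -/
theorem result (n r s : ℕ) (hr : r.Prime) (hs : s.Prime) (hr2 : r ≠ 2) (hs2 : s ≠ 2) (hrs : r ≠ s) (hrn : r ≤ n) (hsn : s ≤ n) :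
    (r * s ∈ Set.range (orderOf : alternatingGroup (Fin n) → ℕ)) ↔ r + s ≤ n := by
  constructor
  · intro h
    obtain ⟨m, hm, hsum, h2, -⟩ := cycle_data h
    obtain ⟨a, ha, hra⟩ := exists_mem_of_dvd_lcm hr m (hm ▸ dvd_mul_right r s)
    obtain ⟨b, hb, hsb⟩ := exists_mem_of_dvd_lcm hs m (hm ▸ dvd_mul_left s r)
    have hr2' := hr.two_le
    have hs2' := hs.two_le
    obtain ⟨m', rfl⟩ := Multiset.exists_cons_of_mem ha
    rw [Multiset.sum_cons] at hsum
    have har : r ≤ a := Nat.le_of_dvd (by have := h2 a ha; omega) hra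
    rcases Multiset.mem_cons.1 hb with rfl | hb'
    · have h1 : r * s ∣ b := ((Nat.coprime_primes hr hs).2 hrs).mul_dvd_of_dvd_of_dvd hra hsb
      have h3 : r * s ≤ b := Nat.le_of_dvd (by have := h2 b ha; omega) h1
      have : r + s ≤ r * s := Nat.add_le_mul hr2' hs2'
      omega
    · have hbs : s ≤ b := Nat.le_of_dvd (by have := h2 b hb; omega) hsb
      have := Multiset.single_le_sum (fun x _ => Nat.zero_le x) b hb'
      omega
  · intro h
    have e : ({r, s} : Multiset ℕ).lcm = r * s := by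
      show (r ::ₘ s ::ₘ 0).lcm = r * s
      simp [Multiset.lcm_cons, lcm_eq_nat_lcm, (Nat.Coprime.lcm_eq_mul ((Nat.coprime_primes hr hs).2 hrs))]
    rw [← e]
    refine exists_alt _ (by simpa using h) (fun a ha => ?_) ?_
    · rcases Multiset.mem_cons.1 ha with rfl | ha
      · exact hr.two_le
      · rw [Multiset.mem_singleton] at ha; subst ha; exact hs.two_le
    · have h1 := hr.odd_of_ne_two hr2
      have h2 := hs.odd_of_ne_two hs2
      simp only [Multiset.insert_eq_cons, Multiset.sum_cons, Multiset.sum_singleton, Multiset.card_cons,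
        Multiset.card_singleton]
      rw [Nat.odd_iff] at h1 h2
      rw [Nat.even_iff]
      omega

end Cfsg.Agent.S2466
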