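import Cfsg.Statements.S2467
import Cfsg.Agent.EqLemmas
import Cfsg.Agent.S2466

set_option autoImplicit false
open Cfsg

namespace Cfsg.Agent.S2467

open Cfsg.Agent.S2466

theorem parity_mod (m : Multiset ℕ) :
    (m.sum + Multiset.card m) % 2 = Multiset.card (m.filter (fun a => a % 2 = 0)) % 2 := by
  induction m using Multiset.induction_on with
  | empty => simp
  | cons a m ih =>
    rw [Multiset.sum_cons, Multiset.card_cons, Multiset.filter_cons]
    split_ifs with h <;> simp <;> omega

/-- Adjacency of 2 and an odd prime in the prime graph of the alternating groups: let r be an odd prime at most n, with n ≥ 4. The alternating group of degree n has an element of order 2r if and only if r + 4 ≤ n. -/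
theorem result (n r : ℕ) (hn : 4 ≤ n) (hr : r.Prime) (hr2 : r ≠ 2) (hrn : r ≤ n) :
    (2 * r ∈ Set.range (orderOf : alternatingGroup (Fin n) → ℕ)) ↔ r + 4 ≤ n := by
  constructor
  · intro h
    obtain ⟨m, hm, hsum, h2, he⟩ := cycle_data h
    obtain ⟨a, ha, hra⟩ := exists_mem_of_dvd_lcm hr m (hm ▸ dvd_mul_left r 2)
    obtain ⟨e, hem, h2e⟩ := exists_mem_of_dvd_lcm Nat.prime_two m (hm ▸ dvd_mul_right 2 r)
    set S := m.filter (fun x => x % 2 = 0) with hS
    have hcard : Multiset.card S % 2 = 0 := (parity_mod m).symm.trans (Nat.even_iff.1 he)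
    have hpos : 0 < Multiset.card S :=
      Multiset.card_pos_iff_exists_mem.2 ⟨e, Multiset.mem_filter.2 ⟨hem, by omega⟩⟩
    have hSge : ∀ T : Multiset ℕ, (∀ x ∈ T, 2 ≤ x) → 2 * Multiset.card T ≤ T.sum := fun T hT => by
      have := Multiset.card_nsmul_le_sum hT
      simpa [mul_comm] using this
    have hsplit : S.sum + (m.filter (fun x => ¬ x % 2 = 0)).sum = m.sum := by
      rw [← Multiset.sum_add, hS, Multiset.filter_add_not]
    have hr3 : 3 ≤ r := by have := hr.two_le; omega
    by_cases hae : a % 2 = 0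
    · have h2r : 2 * r ∣ a :=
        ((Nat.coprime_primes Nat.prime_two hr).2 (Ne.symm hr2)).mul_dvd_of_dvd_of_dvd (by omega) hra
      have h2ra : 2 * r ≤ a := Nat.le_of_dvd (by have := h2 a ha; omega) h2r
      obtain ⟨T, hT⟩ := Multiset.exists_cons_of_mem
        (show a ∈ S from Multiset.mem_filter.2 ⟨ha, hae⟩)
      have hTc : 1 ≤ Multiset.card T := by rw [hT, Multiset.card_cons] at hcard; omega
      have := hSge T (fun x hx => h2 x (Multiset.mem_filter.1 (show x ∈ S by rw [hT]; exact Multiset.mem_cons_of_mem hx)).1)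
      rw [hT, Multiset.sum_cons] at hsplit
      omega
    · have har : r ≤ a := Nat.le_of_dvd (by have := h2 a ha; omega) hra
      have := hSge S (fun x hx => h2 x (Multiset.mem_filter.1 hx).1)
      have := Multiset.single_le_sum (fun x _ => Nat.zero_le x) a
        (Multiset.mem_filter.2 ⟨ha, hae⟩ : a ∈ m.filter (fun x => ¬ x % 2 = 0))
      omega
  · intro h
    have e : ({r, 2, 2} : Multiset ℕ).lcm = 2 * r := by
      show (r ::ₘ 2 ::ₘ 2 ::ₘ 0).lcm = 2 * r
      simp [Multiset.lcm_cons, lcm_eq_nat_lcm, Nat.Coprime.lcm_eq_mul ((Nat.coprime_primes hr Nat.prime_two).2 hr2), mul_comm]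
    rw [← e]
    refine exists_alt _ (by show (r ::ₘ 2 ::ₘ 2 ::ₘ 0).sum ≤ n; simp; omega) (fun a ha => ?_) ?_
    · have := hr.two_le
      simp at ha
      omega
    · have h1 := Nat.odd_iff.1 (hr.odd_of_ne_two hr2)
      rw [Nat.even_iff]
      show ((r ::ₘ 2 ::ₘ 2 ::ₘ 0).sum + Multiset.card (r ::ₘ 2 ::ₘ 2 ::ₘ 0)) % 2 = 0
      simp
      omega

end Cfsg.Agent.S2467
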