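import Cfsg.Statements.S2468
import Cfsg.Agent.EqLemmas
import Cfsg.Agent.Lib.GLOrder.LinOrders

open Polynomial Cfsg.Agent.GLOrder
-- import your own Cfsg.Agent.* helpers here

set_option autoImplicit false
open Cfsg

namespace Cfsg.Agent.S2468

/-- Adjacency of two odd primes in the prime graph of PSL(n,q): let F be a finite field of characteristic p with q elements, n ≥ 2 with PSL(n,F) simple, and let r ≠ s be odd primes different from p dividing the order of PSL(n,F). Let k and l be the multiplicative orders of q modulo r and modulo s, and suppose 2 ≤ k ≤ l. Then PSL(n,F) has NO element of order r·s if and only if k + l > n and k does not divide l. -/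
theorem result {F : Type*} [Field F] [Fintype F] (p : ℕ) [Fact p.Prime] [CharP F p] (n : ℕ) (hn : 2 ≤ n) (hsmall : n = 2 → 4 ≤ Fintype.card F)
    (r s : ℕ) (hr : r.Prime) (hs : s.Prime) (hr2 : r ≠ 2) (hs2 : s ≠ 2) (hrp : r ≠ p) (hsp : s ≠ p) (hrs : r ≠ s)
    (hrG : r ∣ Nat.card (Matrix.ProjectiveSpecialLinearGroup (Fin n) F)) (hsG : s ∣ Nat.card (Matrix.ProjectiveSpecialLinearGroup (Fin n) F))
    (k l : ℕ) (hk : k = orderOf ((Fintype.card F : ℕ) : ZMod r)) (hl : l = orderOf ((Fintype.card F : ℕ) : ZMod s))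
    (h2k : 2 ≤ k) (hkl : k ≤ l) :
    (r * s ∉ Set.range (orderOf : Matrix.ProjectiveSpecialLinearGroup (Fin n) F → ℕ)) ↔ (n < k + l ∧ ¬ k ∣ l) := by
  classical
  have hrF : (r : F) ≠ 0 := cast_ne_zero_of_prime p hr hrp
  have hsF : (s : F) ≠ 0 := cast_ne_zero_of_prime p hs hsp
  have hN : ((r * s : ℕ) : F) ≠ 0 := by rw [Nat.cast_mul]; exact mul_ne_zero hrF hsF
  have hcop := (Nat.coprime_primes hr hs).2 hrs
  have hq1 : ∀ a m : ℕ, a.Prime → m = orderOf ((Fintype.card F : ℕ) : ZMod a) → 2 ≤ m →
      Nat.Coprime a (Nat.card F - 1) := by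
    intro a m ha hm h2 
    rw [ha.coprime_iff_not_dvd, Nat.card_eq_fintype_card, ← ZMod.natCast_eq_zero_iff,
      Nat.cast_sub (Nat.succ_le_of_lt Fintype.card_pos), sub_eq_zero]
    intro h
    rw [hm, h, Nat.cast_one, orderOf_one] at h2
    omega
  have hcq : Nat.Coprime (r * s) (Nat.card F - 1) :=
    Nat.Coprime.mul_left (hq1 r k hr hk h2k) (hq1 s l hs hl (h2k.trans hkl))
  have hn1 : 1 ≤ n := by omega
  constructor
  · intro hno
    by_contra hcon
    rw [not_and_or, not_lt, not_not] at hcon
    have key : ∀ {ι : Type} [Fintype ι] [DecidableEq ι] (M : Matrix ι ι F),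
        Fintype.card ι = n → orderOf M = r * s → False := by
      intro ι _ _ M hι hM
      have hM1 : M.det = 1 :=
        det_eq_one_of_coprime (hM ▸ pow_orderOf_eq_one M) (Nat.mul_pos hr.pos hs.pos) hcq
      refine hno (exists_psl_orderOf hι hM1 fun j c _ hj => ?_)
      refine hcq.dvd_of_dvd_mul_right (hM ▸ orderOf_dvd_of_pow_eq_one ?_)
      have hc0 : c ≠ 0 := fun h0 => by
        have h := congrArg Matrix.det hj
        rw [Matrix.det_pow, hM1, one_pow, h0, zero_smul] at h
        haveI : Nonempty ι := Fintype.card_pos_iff.1 (by omega)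
        simp at h
      rw [pow_mul, hj, _root_.smul_pow, one_pow, Nat.card_eq_fintype_card,
        FiniteField.pow_card_sub_one_eq_one c hc0, one_smul]
    rcases hcon with hle | hkd
    · obtain ⟨A, hA⟩ := exists_gl_mat_orderOf (F := F) (n := k) (a := r) (by omega) le_rfl
        (by rw [Nat.card_eq_fintype_card]; exact dvd_pow_sub_one hk)
      obtain ⟨B, hB⟩ := exists_gl_mat_orderOf (F := F) (n := n - k) (d := l) (a := s) (by omega)
        (by omega) (by rw [Nat.card_eq_fintype_card]; exact dvd_pow_sub_one hl)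
      refine key (blockMat A B) (by simp; omega) ?_
      refine Nat.dvd_antisymm (orderOf_dvd_of_pow_eq_one ?_) (hcop.mul_dvd_of_dvd_of_dvd ?_ ?_)
      · rw [blockMat_pow, pow_mul, ← hA, pow_orderOf_eq_one, hA, mul_comm, pow_mul, ← hB,
          pow_orderOf_eq_one, one_pow, one_pow, blockMat, Matrix.fromBlocks_one]
      all_goals
        have h := pow_orderOf_eq_one (blockMat A B)
        rw [blockMat_pow, ← one_smul F (1 : Matrix _ _ F)] at h
        obtain ⟨h1, h2⟩ := blockMat_eq_smul_one h
        rw [one_smul] at h1 h2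
      · exact hA ▸ orderOf_dvd_of_pow_eq_one h1
      · exact hB ▸ orderOf_dvd_of_pow_eq_one h2
    · have hln : l ≤ n := hl ▸ le_of_dvd_card_PSL p hn hs hsp hsG
      obtain ⟨A, hA⟩ := exists_gl_mat_orderOf (F := F) (n := n) (d := l) (a := r * s) (by omega) hln
        (hcop.mul_dvd_of_dvd_of_dvd ((by rw [Nat.card_eq_fintype_card]; exact dvd_pow_sub_one hk :
            r ∣ Nat.card F ^ k - 1).trans (Nat.pow_sub_one_dvd_pow_sub_one _ hkd))
          (by rw [Nat.card_eq_fintype_card]; exact dvd_pow_sub_one hl))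
      exact key A (Fintype.card_fin n) hA
  · rintro ⟨hsum, hnd⟩ ⟨y, hy⟩
    obtain ⟨x, hx⟩ := exists_sl_orderOf hn1
      (hcq.coprime_dvd_right (Nat.gcd_dvd_right _ _)) hy
    set M := (x : Matrix (Fin n) (Fin n) F) with hM
    have hxN : M ^ (r * s * p ^ 0) = 1 := by rw [pow_zero, mul_one, ← hx, pow_orderOf_eq_one]
    have hne : ∀ a, a = r ∨ a = s → M ^ (a * p ^ 0) ≠ 1 := by
      intro a ha h
      rw [pow_zero, mul_one] at h
      have h' := hx ▸ orderOf_dvd_of_pow_eq_one h
      rcases ha with rfl | rfl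
      · exact hs.ne_one (Nat.dvd_one.1 ((Nat.mul_dvd_mul_iff_left hr.pos).1 (by rwa [mul_one])))
      · exact hr.ne_one (Nat.dvd_one.1 ((Nat.mul_dvd_mul_iff_right hs.pos).1 (by rwa [one_mul])))
    have hχ := Matrix.minpoly_dvd_charpoly M
    have hχ0 : M.charpoly ≠ 0 := (Matrix.charpoly_monic M).ne_zero
    have hdeg : M.charpoly.natDegree = n := by
      rw [Matrix.charpoly_natDegree_eq_dim, Fintype.card_fin]
    have hrs0 : 0 < r * s := Nat.mul_pos hr.pos hs.pos
    have hroots : ∀ {f : F[X]}, f ∣ X ^ (r * s) - 1 →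
        rootOrder f = 1 ∨ rootOrder f = r ∨ rootOrder f = s ∨ rootOrder f = r * s := by
      intro f hf
      obtain ⟨a, b, ha, hb, hab⟩ := Nat.dvd_mul.1 (dvd_X_pow_sub_one_iff.1 hf)
      rcases (Nat.dvd_prime hr).1 ha with rfl | rfl <;>
        rcases (Nat.dvd_prime hs).1 hb with rfl | rfl <;> simp [← hab]
    have hbig : ∀ f : F[X], Irreducible f → f ∣ M.charpoly → f ∣ X ^ (r * s) - 1 →
        rootOrder f ≠ r * s := by
      intro f hf hfχ hfN hroot
      have hL : f.natDegree = orderOf ((Fintype.card F : ℕ) : ZMod (r * s)) := by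
        rw [natDegree_eq_orderOf hf hrs0 hfN, hroot, Nat.card_eq_fintype_card]
      have hkL : k ∣ f.natDegree := by
        have := orderOf_map_dvd (ZMod.castHom (dvd_mul_right r s) (ZMod r)).toMonoidHom
          ((Fintype.card F : ℕ) : ZMod (r * s))
        simpa [hL, hk] using this
      have hlL : l ∣ f.natDegree := by
        have := orderOf_map_dvd (ZMod.castHom (dvd_mul_left s r) (ZMod s)).toMonoidHom
          ((Fintype.card F : ℕ) : ZMod (r * s))
        simpa [hL, hl] using this
      have hle := natDegree_le_of_dvd hfχ hχ0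
      obtain ⟨c, hc⟩ := hlL
      rcases c with _ | _ | c
      · have := hf.natDegree_pos; omega
      · exact hnd (by rw [hc] at hkL; simpa using hkL)
      · have : 2 * l ≤ f.natDegree := by rw [hc]; nlinarith
        omega
    obtain ⟨f, hf, hfm, hfμ, hfN, hfr⟩ :=
      exists_factor_not_dvd p hN hr.pos hxN (hne r (Or.inl rfl))
    obtain ⟨g, hg, hgm, hgμ, hgN, hgs⟩ :=
      exists_factor_not_dvd p hN hs.pos hxN (hne s (Or.inr rfl))
    rw [dvd_X_pow_sub_one_iff] at hfr hgs
    have hfroot : rootOrder f = s := by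
      rcases hroots hfN with h | h | h | h
      · exact absurd (h ▸ one_dvd r) hfr
      · exact absurd (h ▸ dvd_rfl) hfr
      · exact h
      · exact absurd h (hbig f hf (hfμ.trans hχ) hfN)
    have hgroot : rootOrder g = r := by
      rcases hroots hgN with h | h | h | h
      · exact absurd (h ▸ one_dvd s) hgs
      · exact h
      · exact absurd (h ▸ dvd_rfl) hgs
      · exact absurd h (hbig g hg (hgμ.trans hχ) hgN)
    have hfd : f.natDegree = l := by
      rw [natDegree_eq_orderOf hf hrs0 hfN, hfroot, Nat.card_eq_fintype_card, hl]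
    have hgd : g.natDegree = k := by
      rw [natDegree_eq_orderOf hg hrs0 hgN, hgroot, Nat.card_eq_fintype_card, hk]
    have hfg : f ≠ g := fun h => hrs (by rw [← hgroot, ← h, hfroot])
    have := natDegree_add_le_of_coprime (coprime_of_ne hf hg hfm hgm hfg) hχ0 (hfμ.trans hχ)
      (hgμ.trans hχ)
    omega

end Cfsg.Agent.S2468
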