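import Cfsg.Statements.S2470
import Cfsg.Agent.EqLemmas
import Cfsg.Agent.Lib.GLOrder.LinOrders

open Polynomial Cfsg.Agent.GLOrder
-- import your own Cfsg.Agent.* helpers here

set_option autoImplicit false
open Cfsg

namespace Cfsg.Agent.S2470

/-- Adjacency of an odd prime and the characteristic in the prime graph of PSL(n,q): let F be a finite field of characteristic p with q elements, n ≥ 2 with PSL(n,F) simple, and let r ≠ p be an odd prime dividing the order of PSL(n,F), with k the multiplicative order of q modulo r. Then PSL(n,F) has NO element of order r·p if and only if either k > n − 2, or n = 3, r = 3 and 3 divides q − 1 exactly once. -/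
theorem result {F : Type*} [Field F] [Fintype F] (p : ℕ) [Fact p.Prime] [CharP F p] (n : ℕ) (hn : 2 ≤ n) (hsmall : n = 2 → 4 ≤ Fintype.card F)
    (r : ℕ) (hr : r.Prime) (hr2 : r ≠ 2) (hrp : r ≠ p) (hrG : r ∣ Nat.card (Matrix.ProjectiveSpecialLinearGroup (Fin n) F))
    (k : ℕ) (hk : k = orderOf ((Fintype.card F : ℕ) : ZMod r)) :
    (r * p ∉ Set.range (orderOf : Matrix.ProjectiveSpecialLinearGroup (Fin n) F → ℕ)) ↔
      (n - 2 < k ∨ (n = 3 ∧ r = 3 ∧ 3 ∣ Fintype.card F - 1 ∧ ¬ 9 ∣ Fintype.card F - 1)) := by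
  classical
  have hp : p.Prime := Fact.out
  have hrF : (r : F) ≠ 0 := cast_ne_zero_of_prime p hr hrp
  have hk0 : 0 < k := hk ▸ orderOf_pos_zmod p hr hrp
  have hn1 : 1 ≤ n := by omega
  have hcard : Nat.card F = Fintype.card F := Nat.card_eq_fintype_card
  have hrp' := (Nat.coprime_primes hr hp).2 hrp
  have hk1 : k = 1 ↔ r ∣ Nat.card F - 1 := by
    rw [hcard, ← ZMod.natCast_eq_zero_iff, Nat.cast_sub (Nat.succ_le_of_lt Fintype.card_pos),
      sub_eq_zero, hk, orderOf_eq_one_iff, Nat.cast_one]
  have hpq : Nat.Coprime p (Nat.card F - 1) := by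
    rw [hp.coprime_iff_not_dvd]
    intro h
    obtain ⟨e, -, he⟩ := FiniteField.card F p
    have h1 : p ∣ Nat.card F := by rw [hcard, he]; exact dvd_pow_self p e.pos.ne'
    have h2 := Nat.dvd_sub h1 h
    rw [Nat.sub_sub_self (Nat.succ_le_of_lt Nat.card_pos)] at h2
    exact hp.ne_one (Nat.dvd_one.1 h2)
  constructor
  · intro hno
    by_contra hcon
    rw [not_or, not_lt] at hcon
    obtain ⟨hkn, hexc⟩ := hcon
    apply hno
    -- the transvection block
    have hT : ∀ m : ℕ, 2 ≤ m → ∃ T : Matrix (Fin m) (Fin m) F, T.det = 1 ∧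
        ∀ (j : ℕ) (c : F), T ^ j = c • (1 : Matrix (Fin m) (Fin m) F) → c = 1 ∧ p ∣ j := by
      intro m hm
      have h01 : (⟨0, by omega⟩ : Fin m) ≠ ⟨1, by omega⟩ := fun h => by simpa using congrArg Fin.val h
      refine ⟨Matrix.transvection ⟨0, by omega⟩ ⟨1, by omega⟩ 1,
        Matrix.det_transvection_of_ne _ _ h01 _, fun j c hj => ?_⟩
      rw [transvection_pow h01, mul_one, Matrix.transvection] at hj
      have h1 := congrFun (congrFun hj ⟨0, by omega⟩) ⟨0, by omega⟩
      have h2 := congrFun (congrFun hj ⟨0, by omega⟩) ⟨1, by omega⟩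
      simp [h01, h01.symm] at h1 h2
      exact ⟨h1.symm, (CharP.cast_eq_zero_iff F p j).1 h2⟩
    by_cases hsmall' : k = 1 ∧ n = 3
    · obtain ⟨hk1', rfl⟩ := hsmall'
      obtain ⟨a, ha⟩ : ∃ a : Fˣ, orderOf (a ^ 3) = r := by
        by_cases hr3 : r = 3
        · subst hr3
          have h9 : 3 ^ 2 ∣ Nat.card Fˣ := by
            rw [Nat.card_units]
            by_contra h9
            exact hexc ⟨rfl, rfl, hcard ▸ hk1.1 hk1', hcard ▸ h9⟩
          obtain ⟨g, hg⟩ := IsCyclic.exists_ofOrder_eq_natCard (α := Fˣ)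
          refine ⟨g ^ (Nat.card Fˣ / 3 ^ 2), ?_⟩
          have h := orderOf_pow_orderOf_div (orderOf_pos g).ne' (hg ▸ h9)
          rw [hg] at h
          rw [orderOf_pow' _ (by norm_num), h]
          rfl
        · obtain ⟨g, hg⟩ := IsCyclic.exists_ofOrder_eq_natCard (α := Fˣ)
          have hd : r ∣ orderOf g := by rw [hg, Nat.card_units]; exact hk1.1 hk1'
          refine ⟨g ^ (orderOf g / r), ?_⟩
          rw [orderOf_pow' _ (by norm_num), orderOf_pow_orderOf_div (orderOf_pos g).ne' hd,
            Nat.Coprime.gcd_eq_one ((Nat.coprime_primes hr Nat.prime_three).2 hr3), Nat.div_one]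
      obtain ⟨T, hT1, hT2⟩ := hT 2 le_rfl
      refine exists_psl_orderOf (M := blockMat (((a : F) ^ 2)⁻¹ • (1 : Matrix (Fin 1) (Fin 1) F))
        ((a : F) • T)) (by simp) ?_ fun j c hc hj => ?_
      · rw [blockMat_det, Matrix.det_smul, Matrix.det_smul, hT1, Matrix.det_one, Fintype.card_fin,
          Fintype.card_fin, pow_one, mul_one, mul_one]
        exact inv_mul_cancel₀ (pow_ne_zero _ a.ne_zero)
      · rw [blockMat_pow] at hj
        obtain ⟨h1, h2⟩ := blockMat_eq_smul_one hj
        rw [_root_.smul_pow, one_pow] at h1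
        rw [_root_.smul_pow] at h2
        obtain ⟨h3, h4⟩ := hT2 j (c * ((a : F) ^ j)⁻¹) (by
          rw [← smul_smul, ← smul_comm, ← h2, smul_smul,
            inv_mul_cancel₀ (pow_ne_zero _ a.ne_zero), one_smul])
        refine hrp'.mul_dvd_of_dvd_of_dvd ?_ h4
        rw [← ha]
        refine orderOf_dvd_of_pow_eq_one (Units.ext ?_)
        rw [mul_inv_eq_one₀ (pow_ne_zero _ a.ne_zero)] at h3
        have h1' := congrFun (congrFun h1 0) 0
        simp [h3] at h1'
        rw [Units.val_pow_eq_pow_val, Units.val_pow_eq_pow_val, Units.val_one, ← pow_mul]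
        have h5 : ((a : F) ^ j) * ((a : F) ^ 2) ^ j = 1 := by
          rw [← h1', inv_mul_cancel₀ (pow_ne_zero _ (pow_ne_zero _ a.ne_zero))]
        rw [← h5]; ring
    · -- an element of order `r` and determinant one in dimension at most `n - 2`
      obtain ⟨d, hd2, hdn, A, hA1, hA2⟩ : ∃ d, 2 ≤ d ∧ d + 2 ≤ n ∧
          ∃ A : Matrix (Fin d) (Fin d) F, A.det = 1 ∧ orderOf A = r := by
        rcases Nat.lt_or_ge k 2 with hk2 | hk2
        · have hk1' : k = 1 := by omega
          refine ⟨2, le_rfl, by omega, ?_⟩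
          obtain ⟨ζ, hζ⟩ := exists_prime_orderOf_dvd_card' (G := Fˣ) (hp := Fact.mk hr) r
            (by rw [Nat.card_units]; exact hk1.1 hk1')
          refine ⟨Matrix.diagonal ![(ζ : F), ((ζ⁻¹ : Fˣ) : F)],
            by simp [Matrix.det_diagonal], ?_⟩
          haveI := Fact.mk hr
          refine orderOf_eq_prime ?_ fun h => ?_
          · rw [Matrix.diagonal_pow, ← Matrix.diagonal_one]
            congr 1
            funext i
            fin_cases i <;> simp [← Units.val_pow_eq_pow_val, ← hζ, pow_orderOf_eq_one]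
          · have := congrFun (congrFun h 0) 0
            simp at this
            rw [this, orderOf_one] at hζ
            exact hr.ne_one hζ.symm
        · obtain ⟨A, hA⟩ := exists_gl_mat_orderOf (F := F) (n := k) (a := r) hk0 le_rfl
            (by rw [hcard]; exact dvd_pow_sub_one hk)
          refine ⟨k, hk2, by omega, A, det_eq_one_of_coprime (hA ▸ pow_orderOf_eq_one A) hr.pos ?_, hA⟩
          rw [hr.coprime_iff_not_dvd]
          intro h
          have := hk1.2 h
          omega
      obtain ⟨T, hT1, hT2⟩ := hT (n - d) (by omega)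
      refine exists_psl_orderOf (M := blockMat A T) (by simp; omega)
        (by rw [blockMat_det, hA1, hT1, mul_one]) fun j c hc hj => ?_
      rw [blockMat_pow] at hj
      obtain ⟨h1, h2⟩ := blockMat_eq_smul_one hj
      obtain ⟨rfl, h4⟩ := hT2 j c h2
      rw [one_smul] at h1
      exact hrp'.mul_dvd_of_dvd_of_dvd (hA2 ▸ orderOf_dvd_of_pow_eq_one h1) h4
  · intro hor hmem
    obtain ⟨y, hy⟩ := hmem
    by_cases hspec : n = 3 ∧ r = 3 ∧ k ≤ 1
    · obtain ⟨rfl, rfl, hk1'⟩ := hspec
      obtain ⟨h3q, h9q⟩ : 3 ∣ Nat.card F - 1 ∧ ¬ 9 ∣ Nat.card F - 1 := by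
        rcases hor with h | ⟨-, -, h⟩
        · omega
        · rwa [hcard]
      obtain ⟨g, rfl⟩ := QuotientGroup.mk'_surjective _ y
      set y := QuotientGroup.mk' (Subgroup.center (Matrix.SpecialLinearGroup (Fin 3) F)) g with hydef
      have hc : g ^ (3 * p) ∈ Subgroup.center (Matrix.SpecialLinearGroup (Fin 3) F) := by
        rw [← QuotientGroup.eq_one_iff]
        show QuotientGroup.mk' _ (g ^ (3 * p)) = 1
        rw [map_pow, ← hy, pow_orderOf_eq_one]
      obtain ⟨c, hc1, hc2⟩ := Matrix.SpecialLinearGroup.mem_center_iff.1 hc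
      set M := (g : Matrix (Fin 3) (Fin 3) F) with hM
      have hMN : M ^ (9 * p ^ 1) = 1 := by
        have h1 : M ^ (3 * p) = c • (1 : Matrix (Fin 3) (Fin 3) F) := by
          rw [hM, ← Matrix.SpecialLinearGroup.coe_pow, ← hc2, Matrix.smul_one_eq_diagonal]; rfl
        rw [pow_one, show 9 * p = 3 * p * 3 by ring, pow_mul, h1, _root_.smul_pow, one_pow,
          show c ^ 3 = 1 by simpa using hc1, one_smul]
      have hscalar : ∀ j (b : F), M ^ j = b • (1 : Matrix (Fin 3) (Fin 3) F) → 3 * p ∣ j := by
        intro j b hj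
        rw [← hy]
        refine orderOf_dvd_of_pow_eq_one ?_
        rw [hydef, ← map_pow, QuotientGroup.mk'_apply, QuotientGroup.eq_one_iff,
          Matrix.SpecialLinearGroup.mem_center_iff]
        refine ⟨b, ?_, ?_⟩
        · have h := congrArg Matrix.det hj
          rw [Matrix.det_pow, hM, g.2, one_pow, Matrix.det_smul, Matrix.det_one, mul_one] at h
          exact h.symm
        · rw [Matrix.SpecialLinearGroup.coe_pow, ← hM, hj, Matrix.smul_one_eq_diagonal]; rfl
      have h9F : ((9 : ℕ) : F) ≠ 0 := by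
        rw [show (9 : ℕ) = 3 * 3 by rfl, Nat.cast_mul]
        exact mul_ne_zero hrF hrF
      obtain ⟨f, hf, hfm, hf2, hf9⟩ := exists_sq_factor p h9F hMN (fun h => by
        have := hscalar 9 1 (by rw [h, one_smul])
        have h' : p ∣ 3 ^ 2 := (dvd_mul_left p 3).trans this
        exact hrp ((Nat.prime_dvd_prime_iff_eq hp Nat.prime_three).1 (hp.dvd_of_dvd_pow h')).symm)
      have hfχ := hf2.trans (Matrix.minpoly_dvd_charpoly M)
      have hχ0 : M.charpoly ≠ 0 := (Matrix.charpoly_monic M).ne_zero
      have hdeg : M.charpoly.natDegree = 3 := by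
        rw [Matrix.charpoly_natDegree_eq_dim, Fintype.card_fin]
      have hfd := hf.natDegree_pos
      have hle := natDegree_le_of_dvd hfχ hχ0
      rw [natDegree_pow, hdeg] at hle
      obtain ⟨h, hh⟩ := hfχ
      have hhm : h.Monic := (hfm.pow 2).of_mul_monic_left (hh ▸ Matrix.charpoly_monic M)
      have hhd : h.natDegree = 1 := by
        have := congrArg natDegree hh
        rw [hdeg, (hfm.pow 2).natDegree_mul hhm, natDegree_pow] at this
        omega
      obtain ⟨u, rfl⟩ : ∃ u : F, f = X - C u :=
        ⟨-f.coeff 0, by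
          have hl : f.coeff 1 = 1 := by
            have h := hfm.coeff_natDegree
            rwa [show f.natDegree = 1 by omega] at h
          conv_lhs => rw [eq_X_add_C_of_natDegree_le_one (show f.natDegree ≤ 1 by omega), hl]
          simp⟩
      obtain ⟨v, rfl⟩ : ∃ v : F, h = X - C v := by
        refine ⟨-h.coeff 0, ?_⟩
        have hl : h.coeff 1 = 1 := hhd ▸ hhm.coeff_natDegree
        conv_lhs => rw [eq_X_add_C_of_natDegree_le_one hhd.le, hl]
        simp
      have hu9 : u ^ 9 = 1 := by
        have := hf9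
        rw [dvd_iff_isRoot] at this
        simpa [sub_eq_zero] using this
      have hu0 : u ≠ 0 := fun h => by simp [h] at hu9
      have hu3 : u ^ 3 = 1 := by
        rw [← orderOf_dvd_iff_pow_eq_one]
        have h1 := Nat.dvd_gcd (orderOf_dvd_of_pow_eq_one hu9)
          (orderOf_dvd_of_pow_eq_one (FiniteField.pow_card_sub_one_eq_one u hu0))
        rw [← hcard] at h1
        obtain ⟨i, hi2, hi⟩ := (Nat.dvd_prime_pow Nat.prime_three (m := 2)).1
          (show Nat.gcd 9 (Nat.card F - 1) ∣ 3 ^ 2 from Nat.gcd_dvd_left _ _)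
        rw [hi] at h1
        refine h1.trans ?_
        interval_cases i
        · exact one_dvd 3
        · exact dvd_rfl
        · exact absurd (hi ▸ Nat.gcd_dvd_right 9 _ : 3 ^ 2 ∣ Nat.card F - 1) h9q
      have hdet : u ^ 2 * v = 1 := by
        have h1 := congrArg (fun P : F[X] => P.coeff 0) hh
        have h2 := Matrix.det_eq_sign_charpoly_coeff M
        rw [hM, g.2, ← hM] at h2
        simp only [coeff_zero_eq_eval_zero, eval_mul, eval_pow, eval_sub, eval_X, eval_C,
          zero_sub] at h1
        rw [coeff_zero_eq_eval_zero, h1, Fintype.card_fin] at h2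
        linear_combination -h2
      have huv : v = u := by
        linear_combination u * hdet - v * hu3
      subst huv
      have hnil : (M - v • 1) ^ 3 = 0 := by
        have := Matrix.aeval_self_charpoly M
        rw [hh, ← pow_succ, map_pow, map_sub, aeval_X, aeval_C, Algebra.algebraMap_eq_smul_one] at this
        exact this
      have hp2 : 3 ≤ p ^ 2 := by nlinarith [hp.two_le]
      have hsc : M ^ p ^ 2 = (v ^ p ^ 2) • (1 : Matrix (Fin 3) (Fin 3) F) := by
        have h0 : (M - v • 1) ^ p ^ 2 = 0 := pow_eq_zero_of_le hp2 hnil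
        rw [sub_pow_char_pow_of_commute (p := p) (n := 2) ((Commute.one_right M).smul_right v),
          sub_eq_zero, _root_.smul_pow, one_pow] at h0
        exact h0
      have h' : 3 ∣ p ^ 2 := (dvd_mul_right 3 p).trans (hscalar _ _ hsc)
      exact hrp ((Nat.prime_dvd_prime_iff_eq Nat.prime_three hp).1 (Nat.prime_three.dvd_of_dvd_pow h'))
    · have hcop : Nat.Coprime (r * p) (Nat.gcd n (Nat.card F - 1)) := by
        refine Nat.Coprime.mul_left ?_ (hpq.coprime_dvd_right (Nat.gcd_dvd_right _ _))
        rw [hr.coprime_iff_not_dvd, Nat.dvd_gcd_iff, ← hk1]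
        rintro ⟨hrn, hk1'⟩
        rcases hor with h | ⟨h3, h3', -⟩
        · have hn23 : n = 2 := by omega
          rw [hn23] at hrn
          exact hr2 ((Nat.prime_dvd_prime_iff_eq hr Nat.prime_two).1 hrn)
        · exact hspec ⟨h3, h3', by omega⟩
      have hkn : n - 2 < k := by
        rcases hor with h | ⟨h3, h3', -⟩
        · exact h
        · have : 1 < k := by
            by_contra h'
            exact hspec ⟨h3, h3', by omega⟩
          omega
      obtain ⟨x, hx⟩ := exists_sl_orderOf hn1 hcop hy
      set M := (x : Matrix (Fin n) (Fin n) F) with hM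
      have hxN : M ^ (r * p ^ 1) = 1 := by rw [pow_one, ← hx, pow_orderOf_eq_one]
      have hxr : M ^ r ≠ 1 := fun h => by
        have := Nat.le_of_dvd hr.pos (hx ▸ orderOf_dvd_of_pow_eq_one h)
        nlinarith [hr.pos, hp.two_le]
      have hx1 : M ^ (1 * p ^ 1) ≠ 1 := fun h => by
        rw [one_mul, pow_one] at h
        have := Nat.le_of_dvd hp.pos (hx ▸ orderOf_dvd_of_pow_eq_one h)
        nlinarith [hr.two_le, hp.pos]
      obtain ⟨f, hf, hfm, hfμ, hfN, hf1⟩ := exists_factor_not_dvd p hrF one_pos hxN hx1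
      obtain ⟨g, hg, hgm, hgμ, hgN⟩ := exists_sq_factor p hrF hxN hxr
      have hχ := Matrix.minpoly_dvd_charpoly M
      have hχ0 : M.charpoly ≠ 0 := (Matrix.charpoly_monic M).ne_zero
      have hdeg : M.charpoly.natDegree = n := by
        rw [Matrix.charpoly_natDegree_eq_dim, Fintype.card_fin]
      obtain ⟨hroot, hfd⟩ := natDegree_of_prime hr hf hfN hf1
      rw [← hk] at hfd
      have hgd := hg.natDegree_pos
      have hfχ := hfμ.trans hχ
      have hgχ := hgμ.trans hχ
      rcases eq_or_ne g f with rfl | hgf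
      · have hle := natDegree_le_of_dvd hgχ hχ0
        rw [natDegree_pow] at hle
        have hn2 : n = 2 ∧ k = 1 := by omega
        obtain ⟨rfl, hk1'⟩ := hn2
        have hgm2 := hgm.pow 2
        have heq : M.charpoly = g ^ 2 :=
          eq_of_monic_of_dvd_of_natDegree_le hgm2 (Matrix.charpoly_monic M) hgχ
            (by rw [hdeg, natDegree_pow]; omega)
        obtain ⟨u, hu⟩ : ∃ u : F, g = X - C u := by
          refine ⟨-g.coeff 0, ?_⟩
          have hl : g.coeff 1 = 1 := by
            have h := hgm.coeff_natDegree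
            rwa [show g.natDegree = 1 by omega] at h
          conv_lhs => rw [eq_X_add_C_of_natDegree_le_one (show g.natDegree ≤ 1 by omega), hl]
          simp
        have hu2 : u ^ 2 = 1 := by
          have h2 := Matrix.det_eq_sign_charpoly_coeff M
          rw [hM, x.2, ← hM, heq, hu, coeff_zero_eq_eval_zero, Fintype.card_fin] at h2
          simpa using h2.symm
        have hur : u ^ r = 1 := by
          have := hgN
          rw [hu, dvd_iff_isRoot] at this
          simpa [sub_eq_zero] using this
        have hu1 : u = 1 := by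
          obtain ⟨i, hi⟩ := hr.odd_of_ne_two hr2
          rwa [hi, pow_succ, pow_mul, hu2, one_pow, one_mul] at hur
        refine hf1 ?_
        rw [hu, hu1, map_one, pow_one]
      · have := natDegree_add_le_of_coprime ((coprime_of_ne hg hf hgm hfm hgf).pow_left (m := 2))
          hχ0 hgχ hfχ
        rw [natDegree_pow] at this
        omega

end Cfsg.Agent.S2470
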