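import Cfsg.Statements.S2471
import Cfsg.Agent.EqLemmas
import Cfsg.Agent.Lib.PSL2.Basic

set_option autoImplicit false
open Cfsg

namespace Cfsg.Agent.S2471

/-- In PSL(2,q) with q odd, the characteristic p is isolated from 2 in the prime graph: for F a finite field of odd characteristic p with at least 5 elements, PSL(2,F) has no element of order 2p. -/
theorem result {F : Type*} [Field F] [Fintype F] (p : ℕ) [Fact p.Prime] [CharP F p] (hp : p ≠ 2) (h5 : 5 ≤ Fintype.card F) (g : Matrix.ProjectiveSpecialLinearGroup (Fin 2) F) :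
    orderOf g ≠ 2 * p := by
  intro h
  have hp2 : p.Prime := Fact.out
  obtain ⟨n, -, hn⟩ := FiniteField.card F p
  have hq : p ∣ Nat.card F := by
    rw [Nat.card_eq_fintype_card, hn]; exact dvd_pow_self p n.ne_zero
  have hq1 : 1 ≤ Nat.card F := Nat.card_pos
  have h1 : ∀ m, p ∣ m → m + 1 = Nat.card F ∨ m = Nat.card F + 1 → False := by
    rintro m hm (he | he)
    · have := (Nat.dvd_add_right hm).1 (he ▸ hq)
      exact hp2.ne_one (Nat.dvd_one.1 this)
    · have := (Nat.dvd_add_right hq).1 (he ▸ hm)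
      exact hp2.ne_one (Nat.dvd_one.1 this)
  have hg : Nat.gcd 2 (Nat.card F - 1) ∣ Nat.card F - 1 := Nat.gcd_dvd_right _ _
  have hg' : Nat.gcd 2 (Nat.card F - 1) ∣ Nat.card F + 1 := by
    have h2 := Nat.gcd_dvd_left 2 (Nat.card F - 1)
    have := hg.add h2
    rwa [show Nat.card F - 1 + 2 = Nat.card F + 1 by omega] at this
  rcases PSL2.psl_orderOf_cases p g with hd | hd | hd <;> rw [h] at hd
  · exact h1 _ ((dvd_mul_left p 2).trans (hd.trans (Nat.div_dvd_of_dvd hg))) (Or.inl (by omega))
  · exact h1 _ ((dvd_mul_left p 2).trans (hd.trans (Nat.div_dvd_of_dvd hg'))) (Or.inr rfl)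
  · have := Nat.le_of_dvd hp2.pos hd
    have := hp2.two_le
    omega

end Cfsg.Agent.S2471
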