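import Cfsg.Statements.S2474
import Cfsg.Agent.EqLemmas
import Cfsg.Agent.Lib.PrimeGraphBC.Even

set_option autoImplicit false
open Cfsg

namespace Cfsg.Agent.S2474

/-- For q odd and n ≥ 3 the simple groups PΩ(2n+1,q) and PSp(2n,q) (which have the same order but different sets of element orders) have the same prime graph: for all distinct primes r, s, one of them has an element of order r·s if and only if the other does. -/
theorem result {F : Type*} [Field F] [Fintype F] (hodd : Odd (Fintype.card F)) (n : ℕ) (hn : 3 ≤ n) (r s : ℕ) (hr : r.Prime) (hs : s.Prime) (hrs : r ≠ s) :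
    (r * s ∈ Set.range (orderOf : Cfsg.POmega F (Cfsg.quadFormOdd n F) → ℕ)) ↔ (r * s ∈ Set.range (orderOf : Cfsg.PSp n F → ℕ)) := by
  have h2 : (2 : F) ≠ 0 := Ring.two_ne_zero fun h => by
    exact (Nat.not_even_iff_odd.2 hodd) (Nat.even_iff.2 (FiniteField.even_card_of_char_two h))
  have key : ∀ t : ℕ, t.Prime → Odd t →
      ((t * 2 ∈ Set.range (orderOf : Cfsg.POmega F (Cfsg.quadFormOdd n F) → ℕ)) ↔
        (t * 2 ∈ Set.range (orderOf : Cfsg.PSp n F → ℕ))) := by
    intro t ht ht2
    by_cases hD : t ∣ Nat.card (Matrix.symplecticGroup (Fin (n - 1)) F)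
    · exact iff_of_true (PrimeGraphBC.pomega_of_small h2 hn ht ht2 hD)
        (PrimeGraphBC.psp_of_small h2 (by omega) ht ht2 hD)
    · exact ⟨PrimeGraphBC.psp_of_pomega h2 hn ht ht2 hD, PrimeGraphBC.pomega_of_psp h2 hn ht ht2 hD⟩
  rcases hr.eq_two_or_odd' with rfl | hr'
  · rcases hs.eq_two_or_odd' with rfl | hs'
    · exact absurd rfl hrs
    · rw [mul_comm]; exact key s hs hs'
  · rcases hs.eq_two_or_odd' with rfl | hs'
    · exact key r hr hr'
    · have ha : Odd (r * s) := hr'.mul hs'
      have hsq : Squarefree (r * s) := (Nat.squarefree_mul ((Nat.coprime_primes hr hs).2 hrs)).2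
        ⟨Irreducible.squarefree hr, Irreducible.squarefree hs⟩
      rw [PrimeGraphBC.pomega_range_iff hn h2 ha, PrimeGraphBC.psp_range_iff ha]
      exact ⟨PrimeGraphBC.spHas_of_oHas h2 ha hsq, PrimeGraphBC.oHas_of_spHas h2 ha hsq⟩

end Cfsg.Agent.S2474
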