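import Cfsg.Statements.S2476
import Cfsg.Agent.EqLemmas
import Cfsg.Agent.Lib.PSLThree.Spectrum

set_option autoImplicit false
open Cfsg

namespace Cfsg.Agent.S2476

/-- The set of element orders of PSL(3,q): let F be a finite field of characteristic p with q elements and d = gcd(3, q − 1). The orders of elements of PSL(3,F) are exactly the divisors of (q² + q + 1)/d, of (q² − 1)/d, of q − 1, of p(q − 1)/d, and, when p = 2, of 4. -/
theorem result {F : Type*} [Field F] [Fintype F] (p : ℕ) [Fact p.Prime] [CharP F p] :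
    Set.range (orderOf : Matrix.ProjectiveSpecialLinearGroup (Fin 3) F → ℕ) =
      {m : ℕ | m ∣ (Fintype.card F ^ 2 + Fintype.card F + 1) / Nat.gcd 3 (Fintype.card F - 1) ∨
        m ∣ (Fintype.card F ^ 2 - 1) / Nat.gcd 3 (Fintype.card F - 1) ∨ m ∣ Fintype.card F - 1 ∨
        m ∣ p * (Fintype.card F - 1) / Nat.gcd 3 (Fintype.card F - 1) ∨ (p = 2 ∧ m ∣ 4)} := by
  ext m
  constructor
  · rintro ⟨x, rfl⟩
    obtain ⟨g, rfl⟩ := QuotientGroup.mk'_surjective _ x
    obtain ⟨e, he, hg⟩ := PSLThree.exists_exponent p g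
    have hd : orderOf (QuotientGroup.mk' (Subgroup.center (Matrix.SpecialLinearGroup (Fin 3) F)) g) ∣ e := by
      refine orderOf_dvd_of_pow_eq_one ?_
      rw [← map_pow]
      exact (QuotientGroup.eq_one_iff _).2 hg
    rw [Set.mem_ofPred_eq]
    rcases he with rfl | rfl | rfl | rfl | ⟨hp, rfl⟩
    · exact Or.inl hd
    · exact Or.inr (Or.inl hd)
    · exact Or.inr (Or.inr (Or.inl hd))
    · exact Or.inr (Or.inr (Or.inr (Or.inl hd)))
    · exact Or.inr (Or.inr (Or.inr (Or.inr ⟨hp, hd⟩)))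
  · rw [Set.mem_ofPred_eq]
    rintro (h | h | h | h | ⟨hp, h⟩)
    · obtain ⟨y, hy⟩ := PSLThree.exists_order_singer (F := F) p
      exact LinSpec.exists_orderOf_eq_of_dvd (y := y) (hy ▸ h)
    · obtain ⟨y, hy⟩ := PSLThree.exists_order_quad (F := F) p
      exact LinSpec.exists_orderOf_eq_of_dvd (y := y) (hy ▸ h)
    · obtain ⟨y, hy⟩ := PSLThree.exists_order_split (F := F)
      exact LinSpec.exists_orderOf_eq_of_dvd (y := y) (hy ▸ h)
    · obtain ⟨y, hy⟩ := PSLThree.exists_order_unip (F := F) p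
      exact LinSpec.exists_orderOf_eq_of_dvd (y := y) (hy ▸ h)
    · subst hp
      obtain ⟨y, hy⟩ := PSLThree.exists_order_four (F := F)
      exact LinSpec.exists_orderOf_eq_of_dvd (y := y) (hy ▸ h)

end Cfsg.Agent.S2476
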