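import Cfsg.Statements.S2477
import Cfsg.Agent.EqLemmas

set_option autoImplicit false
set_option linter.style.haveILetI false
set_option linter.unusedSimpArgs false
open Cfsg

namespace Cfsg.Agent.S2477

/-- The set of element orders of the alternating group of degree 10 is {1, 2, 3, 4, 5, 6, 7, 8, 9, 10, 12, 15, 21}. -/
theorem result : Set.range (orderOf : alternatingGroup (Fin 10) → ℕ) = {1, 2, 3, 4, 5, 6, 7, 8, 9, 10, 12, 15, 21} := by
  apply Set.Subset.antisymm
  · rintro _ ⟨⟨σ, hσ⟩, rfl⟩
    have hord : orderOf (⟨σ, hσ⟩ : alternatingGroup (Fin 10)) = σ.cycleType.lcm := by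
      rw [Subgroup.orderOf_mk, Equiv.Perm.lcm_cycleType]
    rw [hord]
    have hsum : σ.cycleType.sum ≤ 10 := by
      rw [Equiv.Perm.sum_cycleType]
      exact le_trans (Finset.card_le_univ _) (by simp)
    have htwo : ∀ x ∈ σ.cycleType, 2 ≤ x := fun x hx => Equiv.Perm.two_le_of_mem_cycleType hx
    have hsign : (-1 : ℤˣ) ^ (σ.cycleType.sum + σ.cycleType.card) = 1 := by
      rw [← Equiv.Perm.sign_of_cycleType]
      exact Equiv.Perm.mem_alternatingGroup.mp hσ
    generalize σ.cycleType = m at hsum htwo hsign
    have key : ∀ S ∈ (Finset.Icc 2 10).powerset, S.sum id ≤ 10 →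
        S.lcm id ∈ ({1, 2, 3, 4, 5, 6, 7, 8, 9, 10, 12, 15, 21} : Finset ℕ) ∨
          ((S.filter fun x => x % 2 = 0).card % 2 = 1 ∧ ∀ x ∈ S, x % 2 = 0 → 10 < S.sum id + x) := by
      decide +kernel
    have hle : m.toFinset.sum id ≤ m.sum := by
      have h := Finset.sum_multiset_count m
      rw [h]
      refine Finset.sum_le_sum fun x hx => ?_
      simp only [id, smul_eq_mul]
      exact Nat.le_mul_of_pos_left _ (Multiset.count_pos.mpr (Multiset.mem_toFinset.mp hx))
    have hS : m.toFinset ∈ (Finset.Icc 2 10).powerset := by
      rw [Finset.mem_powerset]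
      intro x hx
      rw [Multiset.mem_toFinset] at hx
      exact Finset.mem_Icc.mpr ⟨htwo x hx, (Multiset.le_sum_of_mem hx).trans hsum⟩
    rcases key _ hS (hle.trans hsum) with h | ⟨hodd, hbig⟩
    · have hl : m.toFinset.lcm id = m.lcm := by
        rw [Finset.lcm_def, Multiset.map_id, Multiset.toFinset_val, Multiset.lcm_dedup]
      rw [hl] at h
      simpa using h
    · exfalso
      have hnd : (m.filter fun x => x % 2 = 0).Nodup := by
        rw [Multiset.nodup_iff_count_le_one]
        intro x
        by_contra hc
        push Not at hc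
        have hx : x ∈ m.filter fun x => x % 2 = 0 := Multiset.count_pos.mp (by omega)
        rw [Multiset.mem_filter] at hx
        rw [Multiset.count_filter, if_pos hx.2] at hc
        have hS' := Multiset.mem_toFinset.mpr hx.1
        have h1 := Finset.sum_multiset_count m
        have h2 : m.toFinset.sum id + x ≤ m.sum := by
          rw [h1, ← Finset.add_sum_erase _ _ hS', ← Finset.add_sum_erase _ _ hS']
          simp only [id, smul_eq_mul]
          have h3 : ∑ y ∈ m.toFinset.erase x, y ≤ ∑ y ∈ m.toFinset.erase x, Multiset.count y m * y := by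
            refine Finset.sum_le_sum fun y hy => ?_
            exact Nat.le_mul_of_pos_left _
              (Multiset.count_pos.mpr (Multiset.mem_toFinset.mp (Finset.mem_of_mem_erase hy)))
          have h4 : 2 * x ≤ Multiset.count x m * x := Nat.mul_le_mul_right _ hc
          omega
        have := hbig x hS' hx.2
        omega
      have hcard : (m.filter fun x => x % 2 = 0).card = (m.toFinset.filter fun x => x % 2 = 0).card := by
        rw [← Multiset.toFinset_card_of_nodup hnd, Multiset.toFinset_filter]
      have hpar : ∀ s : Multiset ℕ, (s.sum + s.card) % 2 = (s.filter fun x => x % 2 = 0).card % 2 := by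
        intro s
        induction s using Multiset.induction with
        | empty => rfl
        | cons a s ih =>
          rw [Multiset.sum_cons, Multiset.card_cons, Multiset.filter_cons]
          by_cases h : a % 2 = 0
          · rw [if_pos h, Multiset.card_add, Multiset.card_singleton]; omega
          · rw [if_neg h, Multiset.card_add, Multiset.card_zero]; omega
      rw [← hcard, ← hpar] at hodd
      rw [(Nat.odd_iff.mpr hodd).neg_one_pow] at hsign
      exact absurd hsign (by decide)
  · intro n hn
    have key : ∀ l : List ℕ, (l : Multiset ℕ).sum ≤ 10 → (∀ a ∈ (l : Multiset ℕ), 2 ≤ a) →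
        (((l : Multiset ℕ).sum + (l : Multiset ℕ).card) % 2 = 0) → (l : Multiset ℕ).lcm = n →
        n ∈ Set.range (orderOf : alternatingGroup (Fin 10) → ℕ) := by
      intro l h1 h2 h3 h4
      obtain ⟨g, hg⟩ := (Equiv.Perm.exists_with_cycleType_iff (Fin 10)).mpr ⟨by simpa using h1, h2⟩
      have hmem : g ∈ alternatingGroup (Fin 10) := by
        rw [Equiv.Perm.mem_alternatingGroup, Equiv.Perm.sign_of_cycleType, hg,
          (Nat.even_iff.mpr h3).neg_one_pow]
      exact ⟨⟨g, hmem⟩, by rw [Subgroup.orderOf_mk, ← Equiv.Perm.lcm_cycleType, hg, h4]⟩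
    simp only [Set.mem_insert_iff, Set.mem_singleton_iff] at hn
    rcases hn with rfl | rfl | rfl | rfl | rfl | rfl | rfl | rfl | rfl | rfl | rfl | rfl | rfl
    · exact key [] (by decide) (by decide) (by decide) (by decide)
    · exact key [2, 2] (by decide) (by decide) (by decide) (by decide)
    · exact key [3] (by decide) (by decide) (by decide) (by decide)
    · exact key [4, 2] (by decide) (by decide) (by decide) (by decide)
    · exact key [5] (by decide) (by decide) (by decide) (by decide)
    · exact key [3, 2, 2] (by decide) (by decide) (by decide) (by decide)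
    · exact key [7] (by decide) (by decide) (by decide) (by decide)
    · exact key [8, 2] (by decide) (by decide) (by decide) (by decide)
    · exact key [9] (by decide) (by decide) (by decide) (by decide)
    · exact key [5, 2, 2] (by decide) (by decide) (by decide) (by decide)
    · exact key [4, 6] (by decide) (by decide) (by decide +kernel) (by decide +kernel)
    · exact key [5, 3] (by decide) (by decide) (by decide) (by decide +kernel)
    · exact key [7, 3] (by decide) (by decide) (by decide) (by decide +kernel)

end Cfsg.Agent.S2477
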