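import Cfsg.Statements.S2479
import Cfsg.Agent.Lib.SLComm.SLBound

set_option autoImplicit false
open Cfsg

namespace Cfsg.Agent.S2479

/-- The number of conjugacy classes of SL(n,q): for F a finite field with q elements, the number k of conjugacy classes of SL(n,F) satisfies q^(n−1) < k and k ≤ (5/2)·q^(n−1) for n ≥ 2, and k ≤ q^(n−1) + 3q^(n−2) for n ≥ 3. -/
theorem result {F : Type*} [Field F] [Fintype F] (n : ℕ) (hn : 2 ≤ n) :
    Fintype.card F ^ (n - 1) < Nat.card (ConjClasses (Matrix.SpecialLinearGroup (Fin n) F)) ∧ 2 * Nat.card (ConjClasses (Matrix.SpecialLinearGroup (Fin n) F)) ≤ 5 * Fintype.card F ^ (n - 1) ∧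
      (3 ≤ n → Nat.card (ConjClasses (Matrix.SpecialLinearGroup (Fin n) F)) ≤ Fintype.card F ^ (n - 1) + 3 * Fintype.card F ^ (n - 2)) := by
  have hq : 2 ≤ Fintype.card F := Fintype.one_lt_card
  rw [← Nat.card_eq_fintype_card] at hq ⊢
  refine ⟨?_, ?_, fun h3 => Cfsg.Agent.SLComm.card_classes_SL_le h3⟩
  · obtain ⟨m, rfl⟩ : ∃ m, n = m + 1 := ⟨n - 1, by omega⟩
    rw [Nat.add_sub_cancel]
    exact Cfsg.Agent.SLComm.lt_card_classes_SL m (by omega)
  · rcases (show n = 2 ∨ 3 ≤ n by omega) with rfl | h3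
    · have h := Cfsg.Agent.SLComm.card_classes_SL_two (F := F)
      rw [show (2 : ℕ) - 1 = 1 from rfl, pow_one]
      by_cases hq2 : Nat.card F = 2
      · -- over two elements SL = GL
        have h' := Cfsg.Agent.SLComm.card_classes_SL_two_of_two (F := F) hq2
        omega
      · omega
    · have h := Cfsg.Agent.SLComm.card_classes_SL_le (F := F) h3
      obtain ⟨k, rfl⟩ : ∃ k, n = k + 2 := ⟨n - 2, by omega⟩
      rw [show k + 2 - 1 = k + 1 by omega, show k + 2 - 2 = k by omega] at h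
      rw [show k + 2 - 1 = k + 1 by omega]
      have h2 : 2 * Nat.card F ^ k ≤ Nat.card F ^ (k + 1) := by
        rw [pow_succ']; exact Nat.mul_le_mul hq le_rfl
      omega

end Cfsg.Agent.S2479
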