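import Cfsg.Statements.S2482
import Cfsg.Agent.EqLemmas
import Cfsg.Agent.Lib.SpOClassCount.Bound
import Cfsg.Agent.Lib.SpOClassCount.Lower

set_option autoImplicit false
open Cfsg

namespace Cfsg.Agent.S2482

open Cfsg.Agent.SpOClassCount Matrix Polynomial

theorem two_ne_zero_of_odd {F : Type*} [Field F] [Fintype F] (hodd : Odd (Fintype.card F)) : (2 : F) ≠ 0 :=
  Ring.two_ne_zero fun h => by
    have := FiniteField.even_card_iff_char_two.1 h
    rw [Nat.odd_iff] at hodd
    omega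

/-- The number of conjugacy classes of Sp(2n,q), q odd: for F a finite field of odd order q and n ≥ 1, the number k of conjugacy classes of Sp(2n,F) satisfies q^n ≤ k ≤ 10.8·q^n. -/
theorem result {F : Type*} [Field F] [Fintype F] (hodd : Odd (Fintype.card F)) (n : ℕ) (hn : 1 ≤ n) :
    Fintype.card F ^ n ≤ Nat.card (ConjClasses (Matrix.symplecticGroup (Fin n) F)) ∧ 5 * Nat.card (ConjClasses (Matrix.symplecticGroup (Fin n) F)) ≤ 54 * Fintype.card F ^ n := by
  have h2 := two_ne_zero_of_odd hodd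
  obtain ⟨m, rfl⟩ : ∃ m, n = m + 1 := ⟨n - 1, by omega⟩
  have R : IsRep (-1 : F) (Matrix.J (Fin (m + 1)) F) (Submonoid.subtype (Matrix.symplecticGroup (Fin (m + 1)) F)) := by
    refine ⟨Subtype.coe_injective, fun A hA => ⟨⟨A, SymplecticGroup.mem_iff'.2 hA⟩, rfl⟩,
      fun g => SymplecticGroup.mem_iff'.1 g.2,
      (Matrix.isUnit_iff_isUnit_det _).2 (Matrix.isUnit_det_J _ F), ?_, by ring, h2⟩
    rw [Matrix.J_transpose, neg_smul, one_smul]
  have hι : Fintype.card (Fin (m + 1) ⊕ Fin (m + 1)) = 2 * (m + 1) := by simp; omega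
  rw [← Nat.card_eq_fintype_card]
  refine ⟨?_, card_classes_symp_le R hι rfl⟩
  haveI := Fintype.ofFinite (Matrix.symplecticGroup (Fin (m + 1)) F)
  refine (pow_le_ncard_pal h2 (m + 1)).trans (ncard_le_classes (Submonoid.subtype _) _ fun P hP => ?_)
  obtain ⟨M, hM, hc⟩ := exists_symplectic_charpoly h2 hP
  exact ⟨⟨M, SymplecticGroup.mem_iff'.2 hM⟩, hc⟩

end Cfsg.Agent.S2482
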