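import Cfsg.Statements.S2485
import Cfsg.Agent.Lib.GLOrder.Basic

set_option autoImplicit false
set_option linter.style.haveILetI false
set_option linter.unusedSimpArgs false
open scoped Pointwise
open Cfsg

namespace Cfsg.Agent.S2485

open Matrix
open scoped Pointwise

section
variable (F : Type*) [Field F]

/-- The matrix of the reference involution. -/
def z0 : Matrix (Fin 2) (Fin 2) F := !![0, -1; 1, 0]

/-- The elements of `GL₂` which commute or anticommute with `z0`. -/
def C0 : Subgroup (GL (Fin 2) F) where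
  carrier := {g | (g : Matrix (Fin 2) (Fin 2) F) * z0 F = z0 F * g ∨
    (g : Matrix (Fin 2) (Fin 2) F) * z0 F = -(z0 F * g)}
  one_mem' := Or.inl (by simp)
  mul_mem' {a b} ha hb := by
    simp only [Set.mem_ofPred_eq, Units.val_mul] at ha hb ⊢
    rcases ha with ha | ha <;> rcases hb with hb | hb
    · left; rw [mul_assoc, hb, ← mul_assoc, ha, mul_assoc]
    · right; rw [mul_assoc, hb, mul_neg, ← mul_assoc, ha, mul_assoc]
    · right; rw [mul_assoc, hb, ← mul_assoc, ha, neg_mul, mul_assoc]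
    · left; rw [mul_assoc, hb, mul_neg, ← mul_assoc, ha, neg_mul, neg_neg, mul_assoc]
  inv_mem' {a} ha := by
    simp only [Set.mem_ofPred_eq] at ha ⊢
    rcases ha with ha | ha
    · left
      calc (↑a⁻¹ : Matrix (Fin 2) (Fin 2) F) * z0 F = ↑a⁻¹ * (z0 F * a) * ↑a⁻¹ := by simp [mul_assoc]
        _ = z0 F * ↑a⁻¹ := by rw [← ha]; simp [← mul_assoc]
    · right
      calc (↑a⁻¹ : Matrix (Fin 2) (Fin 2) F) * z0 F = ↑a⁻¹ * (z0 F * a) * ↑a⁻¹ := by simp [mul_assoc]
        _ = -(z0 F * ↑a⁻¹) := by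
          rw [show z0 F * (a : Matrix (Fin 2) (Fin 2) F) = -((a : Matrix (Fin 2) (Fin 2) F) * z0 F) by rw [ha, neg_neg]]
          simp [← mul_assoc]

variable {F}

theorem mem_C0_iff (hneg : ¬ IsSquare (-1 : F)) (g : GL (Fin 2) F) :
    g ∈ C0 F ↔ ∃ a b : F, (a ≠ 0 ∨ b ≠ 0) ∧ ((g : Matrix (Fin 2) (Fin 2) F) = !![a, -b; b, a] ∨
      (g : Matrix (Fin 2) (Fin 2) F) = !![a, b; b, -a]) := by
  have hne : (g : Matrix (Fin 2) (Fin 2) F).det ≠ 0 := Matrix.GeneralLinearGroup.det_ne_zero g
  rw [Matrix.det_fin_two] at hne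
  set M := (g : Matrix (Fin 2) (Fin 2) F)
  show M * z0 F = z0 F * M ∨ M * z0 F = -(z0 F * M) ↔ _
  constructor
  · intro h
    refine ⟨M 0 0, M 1 0, ?_, ?_⟩
    · by_contra hc
      push Not at hc
      rw [hc.1, hc.2] at hne
      simp at hne
    · rcases h with h | h
      · left
        have h00 := congrFun (congrFun h 0) 0
        have h01 := congrFun (congrFun h 0) 1
        simp [z0, Matrix.mul_apply, Fin.sum_univ_two, Matrix.vecMul, dotProduct] at h00 h01
        ext i j; fin_cases i <;> fin_cases j <;> simp [h00, ← h01]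
      · right
        have h00 := congrFun (congrFun h 0) 0
        have h01 := congrFun (congrFun h 0) 1
        simp [z0, Matrix.mul_apply, Fin.sum_univ_two, Matrix.vecMul, dotProduct] at h00 h01
        ext i j; fin_cases i <;> fin_cases j <;> simp [h00]
        linear_combination -h01
  · rintro ⟨a, b, -, h | h⟩
    · left; rw [h]; ext i j; fin_cases i <;> fin_cases j <;> simp [z0, Matrix.mul_apply, Fin.sum_univ_two]
    · right; rw [h]; ext i j; fin_cases i <;> fin_cases j <;> simp [z0, Matrix.mul_apply, Fin.sum_univ_two]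

theorem sq_add_sq_ne_zero (hneg : ¬ IsSquare (-1 : F)) {a b : F} (h : a ≠ 0 ∨ b ≠ 0) :
    a * a + b * b ≠ 0 := by
  intro h0
  by_cases hb : b = 0
  · subst hb; simp at h0; simp [h0] at h
  · exact hneg ⟨a / b, by field_simp; linear_combination -h0⟩

theorem det_mk_ne_zero (hneg : ¬ IsSquare (-1 : F)) (p : {v : F × F // v ≠ 0} × Bool) :
    (bif p.2 then !![p.1.1.1, p.1.1.2; p.1.1.2, -p.1.1.1] else !![p.1.1.1, -p.1.1.2; p.1.1.2, p.1.1.1]
      : Matrix (Fin 2) (Fin 2) F).det ≠ 0 := by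
  obtain ⟨⟨⟨a, b⟩, hab⟩, t⟩ := p
  have h := sq_add_sq_ne_zero hneg (a := a) (b := b) (by
    by_contra hc; push Not at hc; exact hab (Prod.ext hc.1 hc.2))
  cases t
  · simp only [cond_false, Matrix.det_fin_two_of]
    intro h0; exact h (by linear_combination h0)
  · simp only [cond_true, Matrix.det_fin_two_of]
    intro h0; exact h (by linear_combination -h0)

theorem card_C0 [Fintype F] (hneg : ¬ IsSquare (-1 : F)) :
    Nat.card (C0 F) = 2 * (Fintype.card F ^ 2 - 1) := by
  classical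
  have h2 : (2 : F) ≠ 0 := by
    intro h
    exact hneg ⟨1, by linear_combination -h⟩
  let f : {v : F × F // v ≠ 0} × Bool → C0 F := fun p =>
    ⟨Matrix.GeneralLinearGroup.mkOfDetNeZero _ (det_mk_ne_zero hneg p), (mem_C0_iff hneg _).2
      ⟨p.1.1.1, p.1.1.2, by by_contra hc; push Not at hc; exact p.1.2 (Prod.ext hc.1 hc.2), by
        obtain ⟨q, t⟩ := p
        cases t
        · exact Or.inl rfl
        · exact Or.inr rfl⟩⟩
  have hf : Function.Bijective f := by
    constructor
    · rintro ⟨⟨⟨a, b⟩, hab⟩, s⟩ ⟨⟨⟨c, d⟩, hcd⟩, t⟩ h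
      have hM := congrArg (fun x : C0 F => ((x : GL (Fin 2) F) : Matrix (Fin 2) (Fin 2) F)) h
      simp only [f] at hM
      have e00 := congrFun (congrFun hM 0) 0
      have e10 := congrFun (congrFun hM 1) 0
      have e01 := congrFun (congrFun hM 0) 1
      have e11 := congrFun (congrFun hM 1) 1
      cases s <;> cases t <;> simp [Matrix.GeneralLinearGroup.mkOfDetNeZero] at e00 e10 e01 e11 <;>
        subst e00 <;> subst e10 <;> first
        | rfl
        | (exfalso
           have ha : a = 0 := by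
             refine (mul_right_inj' h2).1 ?_
             first
             | linear_combination e11
             | linear_combination -e11
           have hb : b = 0 := by
             refine (mul_right_inj' h2).1 ?_
             first
             | linear_combination e01
             | linear_combination -e01
           exact hab (Prod.ext ha hb))
    · rintro ⟨g, hg⟩
      obtain ⟨a, b, hab, h | h⟩ := (mem_C0_iff hneg g).1 hg
      · exact ⟨(⟨(a, b), fun hc => by rcases hab with h' | h' <;> simp_all [Prod.ext_iff]⟩, false),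
          Subtype.ext (Units.ext h.symm)⟩
      · exact ⟨(⟨(a, b), fun hc => by rcases hab with h' | h' <;> simp_all [Prod.ext_iff]⟩, true),
          Subtype.ext (Units.ext h.symm)⟩
  rw [← Nat.card_eq_of_bijective f hf, Nat.card_eq_fintype_card, Fintype.card_prod, Fintype.card_bool,
    Fintype.card_subtype_compl, Fintype.card_subtype_eq, Fintype.card_prod, sq, mul_comm]

/-- Any two conjugates of `C0` share a non-scalar matrix. -/
theorem exists_common (hneg : ¬ IsSquare (-1 : F)) (c : GL (Fin 2) F) :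
    ∃ w : GL (Fin 2) F, w ∈ C0 F ∧ c⁻¹ * w * c ∈ C0 F ∧ w ∉ Subgroup.center (GL (Fin 2) F) := by
  have h2 : (2 : F) ≠ 0 := fun h => hneg ⟨1, by linear_combination -h⟩
  set z := (c : Matrix (Fin 2) (Fin 2) F) * z0 F * ((c⁻¹ : GL (Fin 2) F) : Matrix (Fin 2) (Fin 2) F) with hz
  obtain ⟨a, b, hab, hlin⟩ : ∃ a b : F, (a ≠ 0 ∨ b ≠ 0) ∧ a * (z 0 0 - z 1 1) + b * (z 0 1 + z 1 0) = 0 := by
    by_cases hα : z 0 0 - z 1 1 = 0 ∧ z 0 1 + z 1 0 = 0
    · exact ⟨1, 0, Or.inl one_ne_zero, by rw [hα.1]; ring⟩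
    · exact ⟨-(z 0 1 + z 1 0), z 0 0 - z 1 1, (not_and_or.1 hα).symm.imp neg_ne_zero.2 id, by ring⟩
  let M : Matrix (Fin 2) (Fin 2) F := !![a, b; b, -a]
  have hM : M.det ≠ 0 := by
    rw [Matrix.det_fin_two_of]; intro h0
    exact sq_add_sq_ne_zero hneg hab (by linear_combination -h0)
  refine ⟨Matrix.GeneralLinearGroup.mkOfDetNeZero M hM, (mem_C0_iff hneg _).2 ⟨a, b, hab, Or.inr rfl⟩, ?_, ?_⟩
  · right
    show (((c⁻¹ : GL (Fin 2) F) : Matrix (Fin 2) (Fin 2) F) * M * (c : Matrix (Fin 2) (Fin 2) F)) * z0 F = -(z0 F * (((c⁻¹ : GL (Fin 2) F) : Matrix (Fin 2) (Fin 2) F) * M * (c : Matrix (Fin 2) (Fin 2) F)))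
    have hzM : M * z = -(z * M) := by
      have htr : z 0 0 + z 1 1 = 0 := by
        have h1 : z.trace = 0 := by
          rw [hz, Matrix.trace_mul_cycle, ← Matrix.GeneralLinearGroup.coe_mul, inv_mul_cancel]
          simp [z0, Matrix.trace_fin_two]
        rwa [Matrix.trace_fin_two] at h1
      ext i j
      fin_cases i <;> fin_cases j <;>
        simp [M, Matrix.mul_apply, Fin.sum_univ_two, Matrix.neg_apply] <;>
        first
        | linear_combination hlin + a * htr
        | linear_combination b * htr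
        | linear_combination hlin - a * htr
    calc ((↑c⁻¹ : Matrix (Fin 2) (Fin 2) F) * M * c) * z0 F = ↑c⁻¹ * (M * z) * ↑c := by
          simp [hz, mul_assoc, ← Matrix.GeneralLinearGroup.coe_mul]
      _ = -(z0 F * (↑c⁻¹ * M * ↑c)) := by
          rw [hzM]; simp [hz, mul_assoc, mul_neg, neg_mul]
  · intro hc
    rw [Matrix.GeneralLinearGroup.center_eq_range_scalar] at hc
    obtain ⟨u, hu⟩ := hc
    have hu' : Matrix.scalar (Fin 2) (u : F) = M := congrArg Units.val hu
    have h00 := congrFun (congrFun hu' 0) 0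
    have h11 := congrFun (congrFun hu' 1) 1
    simp [M] at h00 h11
    exact u.ne_zero ((mul_right_inj' h2).1 (by linear_combination h00 + h11))

end

/-- Let q = 2^k − 1 ≥ 7 be a prime and let G = PGL(2,q), the general linear group of degree 2 over the field with q elements modulo its centre. Then any two Sylow 2-subgroups of G have a non-trivial intersection: for a Sylow 2-subgroup H and every x ∈ G, H ∩ H^x ≠ 1. -/
theorem result {q k : ℕ} [Fact q.Prime] (hk : q + 1 = 2 ^ k) (hq : 7 ≤ q)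
    (H : Sylow 2 (GL (Fin 2) (ZMod q) ⧸ Subgroup.center (GL (Fin 2) (ZMod q))))
    (x : GL (Fin 2) (ZMod q) ⧸ Subgroup.center (GL (Fin 2) (ZMod q))) :
    (H : Subgroup (GL (Fin 2) (ZMod q) ⧸ Subgroup.center (GL (Fin 2) (ZMod q)))) ⊓ MulAut.conj x • (H : Subgroup _) ≠ ⊥ := by
  classical
  have hq2 : q % 4 = 3 := by
    obtain ⟨j, rfl⟩ : ∃ j, k = j + 2 := by
      refine ⟨k - 2, ?_⟩
      by_contra hc
      have hk1 : k ≤ 1 := by omega
      interval_cases k <;> omega
    have : 2 ^ (j + 2) = 4 * 2 ^ j := by ring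
    omega
  have hneg : ¬ IsSquare (-1 : ZMod q) := by
    rw [ZMod.exists_sq_eq_neg_one_iff]; simp [hq2]
  let π := QuotientGroup.mk' (Subgroup.center (GL (Fin 2) (ZMod q)))
  let C := (C0 (ZMod q)).map π
  have hk2 : 2 ≤ k := by
    by_contra hc
    interval_cases k <;> omega
  have hcardG : Nat.card (GL (Fin 2) (ZMod q) ⧸ Subgroup.center (GL (Fin 2) (ZMod q))) = q * (q ^ 2 - 1) := by
    have := GLOrder.card_PGL_two (F := ZMod q)
    rw [Nat.card_zmod] at this
    exact this
  have hZle : Subgroup.center (GL (Fin 2) (ZMod q)) ≤ C0 (ZMod q) := fun g hg => by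
    rw [Matrix.GeneralLinearGroup.center_eq_range_scalar] at hg
    obtain ⟨u, rfl⟩ := hg
    exact Or.inl ((Matrix.scalar_commute (u : ZMod q) (fun r' => mul_comm _ _)) _).eq
  have hsq : q ^ 2 - 1 = (q + 1) * (q - 1) := by simpa using Nat.sq_sub_sq q 1
  have hCcard : Nat.card C = 2 * (q + 1) := by
    have h1 : Nat.card C * Nat.card (Subgroup.center (GL (Fin 2) (ZMod q))) = Nat.card (C0 (ZMod q)) := by
      rw [← Subgroup.index_mul_card (((π.comp (C0 (ZMod q)).subtype)).ker), Subgroup.index_ker]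
      congr 1
      · show Nat.card C = Nat.card (π.comp (C0 (ZMod q)).subtype).range
        rw [MonoidHom.range_comp, Subgroup.range_subtype]
      · rw [show (π.comp (C0 (ZMod q)).subtype).ker = (Subgroup.center (GL (Fin 2) (ZMod q))).subgroupOf (C0 (ZMod q)) from by
          rw [← MonoidHom.comap_ker, QuotientGroup.ker_mk']; rfl]
        exact (Nat.card_congr (Subgroup.subgroupOfEquivOfLe hZle).toEquiv).symm
    rw [GLOrder.card_center_GL, card_C0 hneg, ZMod.card, Nat.card_zmod, hsq, ← mul_assoc] at h1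
    exact Nat.eq_of_mul_eq_mul_right (by omega) h1
  have hCp : IsPGroup 2 C := IsPGroup.of_card (n := k + 1) (by rw [hCcard, hk]; ring)
  have hCi : ¬ 2 ∣ C.index := by
    intro h
    have hmul := C.card_mul_index
    rw [hCcard, hcardG, hsq] at hmul
    have h1 : 2 * C.index = q * (q - 1) := by
      refine Nat.eq_of_mul_eq_mul_right (show 0 < q + 1 by omega) ?_
      linarith
    obtain ⟨m, hm⟩ := h
    obtain ⟨l, hl⟩ : ∃ l, q = 4 * l + 3 := ⟨q / 4, by omega⟩
    have h3 : q - 1 = 2 * (2 * l + 1) := by omega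
    rw [h3, hm, hl] at h1
    have h4 : (2 * m) = (4 * l + 3) * (2 * l + 1) := by linarith
    have : (2 * m) % 2 = ((4 * l + 3) * (2 * l + 1)) % 2 := by rw [h4]
    simp [Nat.mul_mod, Nat.add_mod] at this
  obtain ⟨g, hg⟩ := MulAction.exists_smul_eq (GL (Fin 2) (ZMod q) ⧸ Subgroup.center (GL (Fin 2) (ZMod q)))
    (hCp.toSylow hCi) H
  obtain ⟨g₁, rfl⟩ := QuotientGroup.mk'_surjective _ g
  obtain ⟨x₁, rfl⟩ := QuotientGroup.mk'_surjective _ x
  have hH : (H : Subgroup _) = MulAut.conj (π g₁) • C := by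
    rw [← hg]; rfl
  obtain ⟨w, hw1, hw2, hw3⟩ := exists_common hneg (g₁⁻¹ * x₁ * g₁)
  have hne : π (g₁ * w * g₁⁻¹) ≠ 1 := by
    intro h
    rw [map_mul, map_mul, map_inv, mul_inv_eq_one, mul_eq_left] at h
    exact hw3 ((QuotientGroup.eq_one_iff w).1 h)
  intro hbot
  refine hne ((Subgroup.eq_bot_iff_forall _).1 hbot _ ⟨?_, ?_⟩)
  · rw [hH]
    have h := Subgroup.smul_mem_pointwise_smul _ (MulAut.conj (π g₁)) C (Subgroup.mem_map_of_mem π hw1)
    rw [MulAut.smul_def, MulAut.conj_apply] at h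
    rw [map_mul, map_mul, map_inv]
    exact h
  · rw [hH, ← mul_smul, ← map_mul, ← map_mul]
    have h := Subgroup.smul_mem_pointwise_smul _ (MulAut.conj (π (x₁ * g₁))) C (Subgroup.mem_map_of_mem π hw2)
    rw [MulAut.smul_def, MulAut.conj_apply, ← map_inv, ← map_mul, ← map_mul] at h
    have he : x₁ * g₁ * ((g₁⁻¹ * x₁ * g₁)⁻¹ * w * (g₁⁻¹ * x₁ * g₁)) * (x₁ * g₁)⁻¹ = g₁ * w * g₁⁻¹ := by group
    rw [he] at h
    exact h

end Cfsg.Agent.S2485
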