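import Cfsg.Statements.S2486
import Cfsg.Agent.EqLemmas
import Cfsg.Agent.Lib.GLFlag.Bruhat

set_option autoImplicit false
set_option linter.unusedSimpArgs false
set_option linter.style.haveILetI false
set_option linter.unusedSectionVars false
open scoped Pointwise
open Cfsg

namespace Cfsg.Agent.S2486

open Pointwise

variable {n : ℕ}

local notation "Γ" => GL (Fin n) (ZMod 2)
local notation "U" => Cfsg.upperTriangularGL n (ZMod 2)
local notation "π" => GLFlag.permGL (n := n) (ZMod 2)

theorem conj_smul_eq_self {G : Type*} [Group G] {H : Subgroup G} {g : G} (hg : g ∈ H) :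
    MulAut.conj g • H = H := by
  ext z
  rw [Subgroup.mem_pointwise_smul_iff_inv_smul_mem, MulAut.smul_def, MulAut.conj_inv_apply]
  rw [Subgroup.mul_mem_cancel_right _ hg, Subgroup.mul_mem_cancel_left _ (inv_mem hg)]

theorem conj_smul_normal {G : Type*} [Group G] (N : Subgroup G) [N.Normal] (g : G) :
    MulAut.conj g • N = N := by
  ext z
  rw [Subgroup.mem_pointwise_smul_iff_inv_smul_mem, MulAut.smul_def, MulAut.conj_inv_apply]
  constructor
  · intro h
    simpa [mul_assoc] using Subgroup.Normal.conj_mem (inferInstance : N.Normal) _ h g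
  · intro h
    simpa [mul_assoc] using Subgroup.Normal.conj_mem (inferInstance : N.Normal) _ h g⁻¹

theorem map_conj_smul {A B : Type*} [Group A] [Group B] (f : A →* B) (g : A) (S : Subgroup A) :
    MulAut.conj (f g) • S.map f = (MulAut.conj g • S).map f := by
  ext z
  rw [Subgroup.mem_pointwise_smul_iff_inv_smul_mem, MulAut.smul_def, MulAut.conj_inv_apply]
  constructor
  · rintro ⟨a, ha, h⟩
    refine ⟨g * a * g⁻¹, Subgroup.smul_mem_pointwise_smul _ (MulAut.conj g) S ha, ?_⟩
    rw [map_mul, map_mul, map_inv, h]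
    group
  · rintro ⟨a, ha, rfl⟩
    replace ha : a ∈ MulAut.conj g • S := ha
    rw [Subgroup.mem_pointwise_smul_iff_inv_smul_mem, MulAut.smul_def, MulAut.conj_inv_apply] at ha
    exact ⟨_, ha, by simp⟩

theorem eq_one_of_ne_zero : ∀ z : ZMod 2, z ≠ 0 → z = 1 := by decide

theorem conj_le {g : Γ} (hg : g ∈ U) : MulAut.conj g • U = U := conj_smul_eq_self hg

/-- Root elements. -/
noncomputable def elem (i j : Fin n) (h : i ≠ j) : Γ :=
  Matrix.GeneralLinearGroup.mk'' (Matrix.transvection i j 1)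
    (by rw [Matrix.det_transvection_of_ne i j h]; exact isUnit_one)

theorem elem_apply (i j : Fin n) (h : i ≠ j) (a b : Fin n) :
    (elem i j h : Matrix (Fin n) (Fin n) (ZMod 2)) a b = (if a = b then 1 else 0) + if i = a ∧ j = b then 1 else 0 := by
  show Matrix.transvection i j 1 a b = _
  simp [Matrix.transvection, Matrix.one_apply, Matrix.single_apply]

theorem elem_mem {i j : Fin n} (h : i < j) : elem i j h.ne ∈ U := by
  intro a b (hab : b < a)
  rw [elem_apply, if_neg hab.ne', if_neg (by rintro ⟨rfl, rfl⟩; exact absurd h (not_lt.mpr hab.le)), add_zero]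

theorem elem_not_mem {i j : Fin n} (h : j < i) : elem i j h.ne' ∉ U := by
  intro hmem
  have := hmem (show id j < id i from h)
  rw [elem_apply, if_neg h.ne', if_pos ⟨rfl, rfl⟩, zero_add] at this
  exact one_ne_zero this

theorem elem_ne_one {i j : Fin n} (h : i ≠ j) : elem i j h ≠ 1 := by
  intro h1
  have := congrArg (fun g : Γ => (g : Matrix (Fin n) (Fin n) (ZMod 2)) i j) h1
  simp [elem_apply, h] at this

theorem perm_conj_elem (σ : Equiv.Perm (Fin n)) (i j : Fin n) (h : i ≠ j) :
    π σ * elem i j h * (π σ)⁻¹ = elem (σ i) (σ j) (fun e => h (σ.injective e)) := by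
  rw [mul_inv_eq_iff_eq_mul]
  apply Units.ext
  ext a b
  rw [Units.val_mul, Units.val_mul, Matrix.mul_apply, Matrix.mul_apply, Fintype.sum_eq_single (σ.symm a),
    Fintype.sum_eq_single (σ b)]
  · rw [GLFlag.permGL_apply, GLFlag.permGL_apply, elem_apply, elem_apply, if_pos (σ.apply_symm_apply a).symm,
      if_pos rfl, one_mul, mul_one]
    simp only [Equiv.symm_apply_eq, Equiv.eq_symm_apply, σ.injective.eq_iff]
  · intro c hc
    rw [GLFlag.permGL_apply, if_neg hc, mul_zero]
  · intro c hc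
    rw [GLFlag.permGL_apply, if_neg (fun e => hc (by rw [e, Equiv.symm_apply_apply])), zero_mul]

theorem eq_one_of_strictMono {σ : Equiv.Perm (Fin n)} (h : StrictMono σ) : σ = 1 := by
  have h1 : (h.orderIsoOfSurjective _ σ.surjective) = OrderIso.refl (Fin n) := Subsingleton.elim _ _
  ext x
  exact congrArg Fin.val (congrArg (fun f : Fin n ≃o Fin n => f x) h1)

theorem mem_of_normalizes {g : Γ} (h : MulAut.conj g • U = U) : g ∈ U := by
  obtain ⟨b, hb, σ, b', hb', rfl⟩ := GLFlag.exists_bruhat g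
  have hσ : MulAut.conj (π σ) • U = U := by
    rw [map_mul, map_mul, mul_smul, mul_smul, conj_le hb'] at h
    have := congrArg (fun S => MulAut.conj b⁻¹ • S) h
    simp only [smul_smul, ← map_mul, ← mul_assoc, inv_mul_cancel, one_mul, conj_le (inv_mem hb)] at this
    exact this
  have hmono : StrictMono σ := by
    intro i j hij
    rcases lt_trichotomy (σ i) (σ j) with h1 | h1 | h1
    · exact h1
    · exact absurd (σ.injective h1) hij.ne
    · exfalso
      refine elem_not_mem h1 ?_
      rw [← perm_conj_elem σ i j hij.ne, ← hσ]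
      exact Subgroup.smul_mem_pointwise_smul _ _ _ (elem_mem hij)
  rw [eq_one_of_strictMono hmono, map_one, mul_one]
  exact mul_mem hb hb'

theorem opposite_eq {g : Γ} (h : U ⊓ MulAut.conj g • U = ⊥) :
    ∃ b ∈ U, MulAut.conj g • U = MulAut.conj (b * π Fin.revPerm) • U := by
  obtain ⟨b, hb, σ, b', hb', rfl⟩ := GLFlag.exists_bruhat g
  have hb'' : MulAut.conj (b * π σ * b') • U = MulAut.conj (b * π σ) • U := by
    rw [map_mul (MulAut.conj) (b * π σ) b', mul_smul, conj_le hb']
  rw [hb''] at h ⊢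
  have hanti : ∀ i j : Fin n, i < j → σ j < σ i := by
    intro i j hij
    rcases lt_trichotomy (σ i) (σ j) with h1 | h1 | h1
    · exfalso
      have hmem : b * elem (σ i) (σ j) h1.ne * b⁻¹ ∈ U ⊓ MulAut.conj (b * π σ) • U := by
        refine Subgroup.mem_inf.mpr ⟨mul_mem (mul_mem hb (elem_mem h1)) (inv_mem hb), ?_⟩
        rw [map_mul, mul_smul]
        refine Subgroup.smul_mem_pointwise_smul _ (MulAut.conj b) _ ?_
        rw [← perm_conj_elem σ i j hij.ne]
        exact Subgroup.smul_mem_pointwise_smul _ (MulAut.conj (π σ)) _ (elem_mem hij)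
      rw [h, Subgroup.mem_bot, conj_eq_one_iff] at hmem
      exact elem_ne_one _ hmem
    · exact absurd (σ.injective h1) hij.ne
    · exact h1
  have hrev : σ * Fin.revPerm = 1 :=
    eq_one_of_strictMono fun i j hij => hanti _ _ (Fin.rev_lt_rev.mpr hij)
  refine ⟨b, hb, ?_⟩
  rw [eq_inv_of_mul_eq_one_left hrev, Equiv.Perm.inv_def, Fin.revPerm_symm]

theorem exists_move {g g' : Γ} (h : U ⊓ MulAut.conj g • U = ⊥) (h' : U ⊓ MulAut.conj g' • U = ⊥) :
    ∃ u ∈ U, MulAut.conj u • MulAut.conj g • U = MulAut.conj g' • U := by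
  obtain ⟨b, hb, hg⟩ := opposite_eq h
  obtain ⟨b', hb', hg'⟩ := opposite_eq h'
  refine ⟨b' * b⁻¹, mul_mem hb' (inv_mem hb), ?_⟩
  rw [hg, hg', smul_smul, ← map_mul]
  congr 2
  group

theorem isPGroup_upper : IsPGroup 2 U := by
  have hdiag : ∀ g ∈ U, ∀ i, (g : Matrix (Fin n) (Fin n) (ZMod 2)) i i = 1 := by
    intro g hg i
    have h : (g : Matrix (Fin n) (Fin n) (ZMod 2)).det ≠ 0 :=
      ((Matrix.isUnit_iff_isUnit_det _).mp g.isUnit).ne_zero
    rw [Matrix.det_of_upperTriangular hg, Finset.prod_ne_zero_iff] at h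
    exact eq_one_of_ne_zero _ (h i (Finset.mem_univ i))
  refine IsPGroup.of_card (n := Nat.card {p : Fin n × Fin n // p.1 < p.2}) ?_
  have key : U ≃ ({p : Fin n × Fin n // p.1 < p.2} → ZMod 2) :=
    { toFun := fun g p => (g.1 : Matrix (Fin n) (Fin n) (ZMod 2)) p.1.1 p.1.2
      invFun := fun f => ⟨Matrix.GeneralLinearGroup.mk''
          (Matrix.of fun i j => if i = j then 1 else if h : i < j then f ⟨(i, j), h⟩ else 0) (by
        rw [Matrix.det_of_upperTriangular]
        · simp
        · intro i j (hij : j < i)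
          simp [hij.ne', not_lt.mpr hij.le]), by
        intro i j (hij : j < i)
        show (if i = j then (1 : ZMod 2) else if h : i < j then f ⟨(i, j), h⟩ else 0) = 0
        simp [hij.ne', not_lt.mpr hij.le]⟩
      left_inv := fun g => by
        refine Subtype.ext (Units.ext ?_)
        ext i j
        show (if i = j then (1 : ZMod 2) else if h : i < j then _ else 0) = _
        rcases lt_trichotomy i j with h | h | h
        · simp [h, h.ne]
        · subst h; simp [hdiag g.1 g.2]
        · simp only [h.ne', if_false, dif_neg (not_lt.mpr h.le)]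
          exact (g.2 (show id j < id i from h)).symm
      right_inv := fun f => by
        funext p
        show (if p.1.1 = p.1.2 then (1 : ZMod 2) else if h : p.1.1 < p.1.2 then f ⟨_, h⟩ else 0) = _
        simp [p.2.ne, p.2] }
  rw [Nat.card_congr key, Nat.card_fun, Nat.card_zmod]


/-- Let n ≥ 4 and let G be a finite group with a normal subgroup N of index 2 isomorphic to SL(n,2) and with trivial centralizer in G (so G is the extension of the simple group L_n(2) by its inverse-transpose automorphism, its full automorphism group). Then any two Sylow 2-subgroups of G have a non-trivial intersection: for a Sylow 2-subgroup H and every x ∈ G, H ∩ H^x ≠ 1. -/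
theorem result {G : Type*} [Group G] [Finite G] {n : ℕ} (hn : 4 ≤ n) (N : Subgroup G) [N.Normal]
    (e : N ≃* Matrix.SpecialLinearGroup (Fin n) (ZMod 2)) (hidx : N.index = 2)
    (hC : Subgroup.centralizer (N : Set G) = ⊥)
    (H : Sylow 2 G) (x : G) :
    (H : Subgroup G) ⊓ MulAut.conj x • (H : Subgroup G) ≠ ⊥ := by
  classical
  haveI : Fact (Nat.Prime 2) := ⟨Nat.prime_two⟩
  have hbij : Function.Bijective
      (Matrix.SpecialLinearGroup.toGL : Matrix.SpecialLinearGroup (Fin n) (ZMod 2) →* GL (Fin n) (ZMod 2)) := by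
    refine ⟨Matrix.SpecialLinearGroup.toGL_injective, fun g => ?_⟩
    exact ⟨⟨g.val, eq_one_of_ne_zero _ ((Matrix.isUnit_iff_isUnit_det _).mp g.isUnit).ne_zero⟩, Units.ext rfl⟩
  let e' : N ≃* GL (Fin n) (ZMod 2) := e.trans (MulEquiv.ofBijective _ hbij)
  let ι : GL (Fin n) (ZMod 2) →* G := N.subtype.comp e'.symm.toMonoidHom
  have hι : Function.Injective ι := N.subtype_injective.comp e'.symm.injective
  have hιN : ∀ g, ι g ∈ N := fun g => (e'.symm g).2
  have hιs : ∀ y ∈ N, ∃ g, ι g = y := fun y hy => ⟨e' ⟨y, hy⟩, by simp [ι]⟩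
  let U₀ : Subgroup G := (Cfsg.upperTriangularGL n (ZMod 2)).map ι
  have hmap : ∀ g, MulAut.conj (ι g) • U₀ = (MulAut.conj g • Cfsg.upperTriangularGL n (ZMod 2)).map ι :=
    fun g => map_conj_smul ι g _
  have hnorm : ∀ y ∈ N, MulAut.conj y • U₀ = U₀ → y ∈ U₀ := by
    intro y hy h
    obtain ⟨g, rfl⟩ := hιs y hy
    rw [hmap] at h
    exact ⟨g, mem_of_normalizes (Subgroup.map_injective hι h), rfl⟩
  obtain ⟨P, hUP⟩ := ((isPGroup_upper (n := n)).map ι).exists_le_sylow
  have hPN : (P : Subgroup G) ⊓ N = U₀ := by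
    refine le_antisymm ?_ (le_inf hUP (by rintro _ ⟨g, -, rfl⟩; exact hιN g))
    by_contra hlt
    have hle : U₀ ≤ (P : Subgroup G) ⊓ N := le_inf hUP (by rintro _ ⟨g, -, rfl⟩; exact hιN g)
    have hne : U₀.subgroupOf ((P : Subgroup G) ⊓ N) < ⊤ :=
      lt_top_iff_ne_top.mpr fun h => hlt (Subgroup.subgroupOf_eq_top.mp h)
    haveI := (IsPGroup.to_le P.2 (inf_le_left : (P : Subgroup G) ⊓ N ≤ P)).isNilpotent
    obtain ⟨y, hy, hy'⟩ := SetLike.exists_of_lt (Group.normalizerCondition_of_isNilpotent _ hne)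
    refine hy' (Subgroup.mem_subgroupOf.mpr (hnorm _ y.2.2 ?_))
    ext z
    rw [Subgroup.mem_pointwise_smul_iff_inv_smul_mem, MulAut.smul_def, MulAut.conj_inv_apply]
    rw [Subgroup.mem_normalizer_iff] at hy
    constructor
    · intro hz
      have := (hy ⟨_, hle hz⟩).mp (Subgroup.mem_subgroupOf.mpr hz)
      rw [Subgroup.mem_subgroupOf] at this
      simpa [mul_assoc] using this
    · intro hz
      have hw : (y : G)⁻¹ * z * y ∈ (P : Subgroup G) ⊓ N := mul_mem (mul_mem (inv_mem y.2) (hle hz)) y.2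
      have := (hy ⟨_, hw⟩).mpr (Subgroup.mem_subgroupOf.mpr (by simpa [mul_assoc] using hz))
      exact Subgroup.mem_subgroupOf.mp this
  obtain ⟨p, hpP, hpN⟩ : ∃ p ∈ (P : Subgroup G), p ∉ N := by
    by_contra hall
    push Not at hall
    have h := Subgroup.index_dvd_of_le (show (P : Subgroup G) ≤ N from hall)
    rw [hidx] at h
    exact P.not_dvd_index h
  have hPnorm : ∀ y ∈ (P : Subgroup G), MulAut.conj y • U₀ = U₀ := by
    intro y hy
    rw [← hPN, Subgroup.smul_inf, conj_smul_eq_self hy, conj_smul_normal]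
  have hnormG : ∀ z : G, MulAut.conj z • U₀ = U₀ → z ∈ (P : Subgroup G) := by
    intro z hz
    by_cases hzN : z ∈ N
    · exact hUP (hnorm z hzN hz)
    · have hmem : z * p⁻¹ ∈ N := by
        rw [Subgroup.mul_mem_iff_of_index_two hidx, inv_mem_iff]
        exact iff_of_false hzN hpN
      have h := hnorm _ hmem (by rw [map_mul, mul_smul, hPnorm _ (inv_mem hpP), hz])
      have := mul_mem (hUP h) hpP
      simpa using this
  have hU1 : ∃ u ∈ U₀, u ≠ 1 := by
    refine ⟨ι (elem ⟨0, by omega⟩ ⟨1, by omega⟩ (by simp)), ⟨_, elem_mem (by simp [Fin.lt_def]), rfl⟩, ?_⟩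
    rw [ne_eq, map_eq_one_iff ι hι]
    exact elem_ne_one _
  have main : ∀ x : G, (P : Subgroup G) ⊓ MulAut.conj x • (P : Subgroup G) ≠ ⊥ := by
    intro x
    by_cases hUV : U₀ ⊓ MulAut.conj x • U₀ = ⊥
    swap
    · exact fun h => hUV (le_bot_iff.mp (h ▸ inf_le_inf hUP (Subgroup.pointwise_smul_le_pointwise_smul_iff.mpr hUP)))
    have hex : ∀ z : G, ∃ g, MulAut.conj z • U₀ = MulAut.conj (ι g) • U₀ := by
      intro z
      by_cases hzN : z ∈ N
      · obtain ⟨g, rfl⟩ := hιs z hzN; exact ⟨g, rfl⟩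
      · have hmem : z * p⁻¹ ∈ N := by
          rw [Subgroup.mul_mem_iff_of_index_two hidx, inv_mem_iff]
          exact iff_of_false hzN hpN
        obtain ⟨g, hg⟩ := hιs _ hmem
        exact ⟨g, by rw [hg, map_mul, mul_smul, hPnorm _ (inv_mem hpP)]⟩
    obtain ⟨g, hg⟩ := hex x
    obtain ⟨g', hg'⟩ := hex (p * x)
    have hbot : ∀ g, U₀ ⊓ MulAut.conj (ι g) • U₀ = ⊥ →
        Cfsg.upperTriangularGL n (ZMod 2) ⊓ MulAut.conj g • Cfsg.upperTriangularGL n (ZMod 2) = ⊥ := by
      intro g h
      refine Subgroup.map_injective hι ?_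
      rw [Subgroup.map_inf _ _ _ hι, ← hmap, Subgroup.map_bot]
      exact h
    have h' : U₀ ⊓ MulAut.conj (ι g') • U₀ = ⊥ := by
      rw [← hg', map_mul, mul_smul]
      have := congrArg (fun S => MulAut.conj p • S) hUV
      simpa [Subgroup.smul_inf, hPnorm p hpP] using this
    obtain ⟨u, hu, hmove⟩ := exists_move (hbot g' h') (hbot g (hg ▸ hUV))
    have hV : MulAut.conj (ι u * p) • MulAut.conj x • U₀ = MulAut.conj x • U₀ := by
      rw [map_mul, mul_smul, smul_smul (MulAut.conj p), ← map_mul, hg', hg, hmap, hmap, ← hmove, map_conj_smul]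
    have huP : ι u ∈ (P : Subgroup G) := hUP ⟨u, hu, rfl⟩
    have hy : x⁻¹ * (ι u * p) * x ∈ (P : Subgroup G) := hnormG _ (by
      rw [map_mul, map_mul, mul_smul, mul_smul, hV, map_inv, inv_smul_smul])
    intro hbot'
    have : ι u * p ∈ (P : Subgroup G) ⊓ MulAut.conj x • (P : Subgroup G) :=
      Subgroup.mem_inf.mpr ⟨mul_mem huP hpP, by
        rw [Subgroup.mem_pointwise_smul_iff_inv_smul_mem, MulAut.smul_def, MulAut.conj_inv_apply]; exact hy⟩
    rw [hbot', Subgroup.mem_bot] at this
    exact hpN ((eq_inv_of_mul_eq_one_right this) ▸ inv_mem (hιN u))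
  obtain ⟨g, hg⟩ := MulAction.exists_smul_eq G P H
  intro hbot
  refine main (g⁻¹ * x * g) ?_
  have hH : (H : Subgroup G) = MulAut.conj g • (P : Subgroup G) := by rw [← hg]; rfl
  rw [hH] at hbot
  have := congrArg (fun S => MulAut.conj g⁻¹ • S) hbot
  simpa [Subgroup.smul_inf, smul_smul, ← map_inv, ← map_mul, mul_assoc] using this

end Cfsg.Agent.S2486
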