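import Cfsg.Statements.S2487
import Cfsg.Agent.Lib.OrthPlusSylow.Basic
import Cfsg.Agent.Lib.Orth.Models

set_option autoImplicit false
open scoped Pointwise
open Cfsg

namespace Cfsg.Agent.S2487

/-- Let m ≥ 4 and let G be the full isometry group of the hyperbolic quadratic form x₁y₁ + ⋯ + x_m y_m on the 2m-dimensional space over the field with 2 elements (the orthogonal group O⁺(2m,2), which contains Ω⁺(2m,2) with index 2). Then any two Sylow 2-subgroups of G have a non-trivial intersection: for a Sylow 2-subgroup H and every x ∈ G, H ∩ H^x ≠ 1. -/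
theorem result {F : Type*} [Field F] [Fintype F] (hF : Fintype.card F = 2) {m : ℕ} (hm : 4 ≤ m)
    (H : Sylow 2 (Cfsg.isometryGroup F (Cfsg.quadFormPlus m F)))
    (x : Cfsg.isometryGroup F (Cfsg.quadFormPlus m F)) :
    (H : Subgroup (Cfsg.isometryGroup F (Cfsg.quadFormPlus m F))) ⊓ MulAut.conj x • (H : Subgroup _) ≠ ⊥ := by
  classical
  let X : Submodule F (Fin m ⊕ Fin m → F) :=
    LinearMap.range (LinearMap.funLeft F F (Sum.elim (fun i : Fin m => (some i : Option (Fin m))) fun _ => none) ∘ₗ
      { toFun := fun v o => o.elim 0 v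
        map_add' := fun v w => funext fun o => by cases o <;> simp
        map_smul' := fun c v => funext fun o => by cases o <;> simp })
  have hX : OrthPlusSylow.TS (Orth.quadPlus m F) X := by
    rintro _ ⟨v, rfl⟩
    rw [Orth.coe_quadPlus]
    simp [quadFormPlus]
  have hXm : Module.finrank F X = m := by
    rw [LinearMap.finrank_range_of_inj, Module.finrank_fin_fun]
    intro v w h
    funext i
    exact congrFun h (Sum.inl i)
  exact OrthPlusSylow.sylow_inf_conj_ne_bot (Q := Orth.quadPlus m F) hF (Orth.quadPlus_nondeg m)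
    (by rw [Fintype.card_sum, Fintype.card_fin]; omega) (by omega) hX hXm H x

end Cfsg.Agent.S2487
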