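import Cfsg.Statements.S2488
import Cfsg.Agent.Lib.PGroup.Basic

set_option autoImplicit false
set_option linter.style.haveILetI false
set_option linter.unusedSimpArgs false
open scoped Pointwise
open Cfsg

namespace Cfsg.Agent.S2488

open scoped Pointwise

/-- The involutions of `A₆`, as products of two disjoint transpositions. -/
def L : List (Equiv.Perm (Fin 6)) :=
  let R := List.finRange 6
  R.flatMap fun a => R.flatMap fun b => R.flatMap fun c => R.filterMap fun d =>
    if a < b ∧ c < d ∧ a < c ∧ b ≠ c ∧ b ≠ d then some (Equiv.swap a b * Equiv.swap c d) else none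

/-- Pointwise commutation test. -/
def comm (f g : Equiv.Perm (Fin 6)) : Bool := decide (∀ x, f (g x) = g (f x))

/-- The reference involution. -/
def z0 : Equiv.Perm (Fin 6) := Equiv.swap 0 1 * Equiv.swap 2 3

def commonB (f : Equiv.Perm (Fin 6)) : Bool := L.any fun t => comm z0 t && comm t f

def chainB (f : Equiv.Perm (Fin 6)) : Bool :=
  (L.filter (comm z0)).any fun a => (L.filter (comm a)).any fun b => comm b f

theorem L_complete : ∀ g : Equiv.Perm (Fin 6), g * g = 1 → g ≠ 1 → Equiv.Perm.sign g = 1 → g ∈ L := by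
  decide +kernel

theorem L_spec : ∀ g ∈ L, g * g = 1 ∧ g ≠ 1 ∧ Equiv.Perm.sign g = 1 := by decide +kernel

theorem card_centralizer : (List.filter (fun g => comm z0 g && decide (Equiv.Perm.sign g = 1))
    (permsOfList (List.finRange 6))).length = 8 := by decide +kernel

theorem card_far : (L.filter fun f => !commonB f && chainB f).length ≤ 16 ∧
    (L.filter fun f => !commonB f && !chainB f).length ≤ 16 := by decide +kernel

theorem comm_iff (f g : Equiv.Perm (Fin 6)) : comm f g = true ↔ Commute f g := by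
  simp [comm, Commute, SemiconjBy, Equiv.ext_iff]

/-- An involution. -/
def Inv' {M : Type*} [Group M] (a : M) : Prop := a * a = 1 ∧ a ≠ 1

def Common {M : Type*} [Group M] (z f : M) : Prop := ∃ t, Inv' t ∧ Commute z t ∧ Commute t f

def Chain {M : Type*} [Group M] (z f : M) : Prop :=
  ∃ a, Inv' a ∧ Commute z a ∧ ∃ b, Inv' b ∧ Commute a b ∧ Commute b f

theorem inv'_map {M N : Type*} [Group M] [Group N] (φ : M ≃* N) {a : M} : Inv' (φ a) ↔ Inv' a := by
  simp [Inv', ← map_mul, map_eq_one_iff φ φ.injective]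

theorem commute_of_map {M N : Type*} [Group M] [Group N] (φ : M ≃* N) {a b : M}
    (hc : Commute (φ a) (φ b)) : Commute a b := φ.injective (by simpa using hc.eq)

theorem common_map {M N : Type*} [Group M] [Group N] (φ : M ≃* N) {z f : M} :
    Common (φ z) (φ f) ↔ Common z f := by
  constructor
  · rintro ⟨t, h1, h2, h3⟩
    obtain ⟨t, rfl⟩ := φ.surjective t
    exact ⟨t, (inv'_map φ).1 h1, commute_of_map φ h2, commute_of_map φ h3⟩
  · rintro ⟨t, h1, h2, h3⟩
    exact ⟨φ t, (inv'_map φ).2 h1, h2.map φ, h3.map φ⟩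

theorem chain_map {M N : Type*} [Group M] [Group N] (φ : M ≃* N) {z f : M} :
    Chain (φ z) (φ f) ↔ Chain z f := by
  constructor
  · rintro ⟨a, h1, h2, b, h3, h4, h5⟩
    obtain ⟨a, rfl⟩ := φ.surjective a
    obtain ⟨b, rfl⟩ := φ.surjective b
    exact ⟨a, (inv'_map φ).1 h1, commute_of_map φ h2, b, (inv'_map φ).1 h3,
      commute_of_map φ h4, commute_of_map φ h5⟩
  · rintro ⟨a, h1, h2, b, h3, h4, h5⟩
    exact ⟨φ a, (inv'_map φ).2 h1, h2.map φ, φ b, (inv'_map φ).2 h3, h4.map φ, h5.map φ⟩

theorem inv'_iff (a : alternatingGroup (Fin 6)) : Inv' a ↔ (a : Equiv.Perm (Fin 6)) ∈ L := by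
  constructor
  · intro h
    exact L_complete _ (congrArg Subtype.val h.1) (fun h' => h.2 (Subtype.ext h'))
      (Equiv.Perm.mem_alternatingGroup.1 a.2)
  · intro h
    obtain ⟨h1, h2, -⟩ := L_spec _ h
    exact ⟨Subtype.ext h1, fun h' => h2 (congrArg Subtype.val h')⟩

theorem commute_coe (a b : alternatingGroup (Fin 6)) :
    Commute a b ↔ Commute (a : Equiv.Perm (Fin 6)) b := by
  simp only [Commute, SemiconjBy, ← Subgroup.coe_mul, Subtype.ext_iff]

theorem common_iff (z f : alternatingGroup (Fin 6)) (hz : (z : Equiv.Perm (Fin 6)) = z0) :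
    Common z f ↔ commonB f = true := by
  simp only [Common, commonB, List.any_eq_true, Bool.and_eq_true, comm_iff, inv'_iff, commute_coe, hz]
  constructor
  · rintro ⟨t, h1, h2⟩; exact ⟨_, h1, h2⟩
  · rintro ⟨t, h1, h2⟩; exact ⟨⟨t, Equiv.Perm.mem_alternatingGroup.2 (L_spec t h1).2.2⟩, h1, h2⟩

theorem chain_iff (z f : alternatingGroup (Fin 6)) (hz : (z : Equiv.Perm (Fin 6)) = z0) :
    Chain z f ↔ chainB f = true := by
  simp only [Chain, chainB, List.any_eq_true, List.mem_filter, comm_iff, inv'_iff, commute_coe, hz]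
  constructor
  · rintro ⟨a, h1, h2, b, h3, h4, h5⟩; exact ⟨_, ⟨h1, h2⟩, _, ⟨h3, h4⟩, h5⟩
  · rintro ⟨a, ⟨h1, h2⟩, b, ⟨h3, h4⟩, h5⟩
    exact ⟨⟨a, Equiv.Perm.mem_alternatingGroup.2 (L_spec a h1).2.2⟩, h1, h2,
      ⟨b, Equiv.Perm.mem_alternatingGroup.2 (L_spec b h3).2.2⟩, h3, h4, h5⟩


/-- Let G be a finite group with a normal subgroup N of index 4 isomorphic to the alternating group of degree 6 and with trivial centralizer in G (so G is the full automorphism group of A₆). Then any two Sylow 2-subgroups of G have a non-trivial intersection: for a Sylow 2-subgroup H and every x ∈ G, H ∩ H^x ≠ 1. -/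
theorem result {G : Type*} [Group G] [Finite G] (N : Subgroup G) [N.Normal]
    (e : N ≃* alternatingGroup (Fin 6)) (hidx : N.index = 4)
    (hC : Subgroup.centralizer (N : Set G) = ⊥)
    (H : Sylow 2 G) (x : G) :
    (H : Subgroup G) ⊓ MulAut.conj x • (H : Subgroup G) ≠ ⊥ := by
  classical
  have hA6 : Nat.card (alternatingGroup (Fin 6)) = 360 := by
    have h := two_mul_nat_card_alternatingGroup (α := Fin 6)
    rw [Nat.card_perm, Nat.card_fin, show Nat.factorial 6 = 720 from rfl] at h
    omega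
  have hcardN : Nat.card N = 360 := by rw [Nat.card_congr e.toEquiv, hA6]
  have hcardG : Nat.card G = 1440 := by rw [← Subgroup.card_mul_index N, hcardN, hidx]
  have hH : Nat.card H = 32 := by
    rw [H.card_eq_multiplicity, hcardG]
    have : (1440 : ℕ).factorization 2 = 5 := by
      rw [show (1440 : ℕ) = 2 ^ 5 * 45 from rfl, Nat.factorization_mul (by positivity) (by norm_num),
        Finsupp.add_apply, Nat.Prime.factorization_pow Nat.prime_two, Finsupp.single_eq_same,
        Nat.factorization_eq_zero_of_not_dvd (show ¬ 2 ∣ 45 by norm_num)]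
    rw [this]; norm_num
  -- an involution of `N` central in `H`
  have hS : N.subgroupOf (H : Subgroup G) ≠ ⊥ := by
    intro h
    have h1 := Subgroup.relIndex_dvd_index_of_normal N (H : Subgroup G)
    rw [hidx, Subgroup.relIndex, h, Subgroup.index_bot, hH] at h1
    norm_num at h1
  obtain ⟨z₁, hz₁c, hz₁N, hz₁o⟩ : ∃ z : (H : Subgroup G), z ∈ Subgroup.center (H : Subgroup G) ∧
      (z : G) ∈ N ∧ orderOf z = 2 := by
    have hne := PGroup.inf_center_ne_bot (p := 2) H.isPGroup' hS
    have hp : IsPGroup 2 (N.subgroupOf (H : Subgroup G) ⊓ Subgroup.center (H : Subgroup G) : Subgroup _) :=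
      H.isPGroup'.to_subgroup _
    haveI : Nontrivial (N.subgroupOf (H : Subgroup G) ⊓ Subgroup.center (H : Subgroup G) : Subgroup _) :=
      (Subgroup.nontrivial_iff_ne_bot _).2 hne
    obtain ⟨n, hn0, hn⟩ := hp.nontrivial_iff_card.1 inferInstance
    obtain ⟨u, hu⟩ := exists_prime_orderOf_dvd_card' 2 (hn ▸ dvd_pow_self 2 hn0.ne')
    exact ⟨u.1, u.2.2, u.2.1, by rw [Subgroup.orderOf_coe]; exact hu⟩
  set zN : N := ⟨_, hz₁N⟩ with hzN
  have hzinv : Inv' zN := by
    have h2 : (z₁ : G) ^ 2 = 1 := by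
      rw [← SubmonoidClass.coe_pow, orderOf_dvd_iff_pow_eq_one.1 hz₁o.dvd]; rfl
    refine ⟨Subtype.ext (by rw [sq] at h2; exact h2), fun h => ?_⟩
    have : z₁ = 1 := Subtype.ext (congrArg (fun u : N => (u : G)) h)
    rw [this, orderOf_one] at hz₁o; norm_num at hz₁o
  -- move it to the reference involution
  obtain ⟨c, hc⟩ : ∃ c : Equiv.Perm (Fin 6), c * (e zN : Equiv.Perm (Fin 6)) * c⁻¹ = z0 := by
    have hall : ∀ f ∈ L, f.cycleType = z0.cycleType := by decide +kernel
    obtain ⟨c, hc⟩ := isConj_iff.1 (Equiv.Perm.isConj_iff_cycleType_eq.2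
      (hall _ ((inv'_iff _).1 ((inv'_map e).2 hzinv))))
    exact ⟨c, hc⟩
  let ν : alternatingGroup (Fin 6) ≃* alternatingGroup (Fin 6) := MulAut.conjNormal c
  let e' : N ≃* alternatingGroup (Fin 6) := e.trans ν
  have he' : (e' zN : Equiv.Perm (Fin 6)) = z0 := by
    show (MulAut.conjNormal c (e zN) : Equiv.Perm (Fin 6)) = z0
    rw [MulAut.conjNormal_apply]; exact hc
  -- centralisers
  have hCN : Nat.card (Subgroup.centralizer ({zN} : Set N)) ≤ 8 := by
    rw [← card_centralizer, ← List.toFinset_card_of_nodup ((nodup_permsOfList (List.nodup_finRange 6)).filter _),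
      ← Nat.card_eq_finsetCard]
    refine Nat.card_le_card_of_injective (fun a => ⟨(e' a.1 : Equiv.Perm (Fin 6)), ?_⟩)
      (fun a b h => Subtype.ext (e'.injective (Subtype.ext (Subtype.ext_iff.1 h :))))
    rw [List.mem_toFinset, List.mem_filter, Bool.and_eq_true, comm_iff, decide_eq_true_iff]
    refine ⟨mem_permsOfList_of_mem (fun x _ => List.mem_finRange x), ?_, Equiv.Perm.mem_alternatingGroup.1 (e' a.1).2⟩
    rw [← he', ← commute_coe]
    exact (show Commute zN a.1 from (Subgroup.mem_centralizer_singleton_iff.1 a.2).symm).map e'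
  have hCG : Subgroup.centralizer ({(z₁ : G)} : Set G) = (H : Subgroup G) := by
    refine (Subgroup.eq_of_le_of_card_ge (fun h hh => ?_) ?_).symm
    · exact Subgroup.mem_centralizer_singleton_iff.2
        (congrArg Subtype.val (Subgroup.mem_center_iff.1 hz₁c ⟨h, hh⟩))
    · rw [hH]
      set C := Subgroup.centralizer ({(z₁ : G)} : Set G)
      rw [← Subgroup.card_mul_index (N.subgroupOf C)]
      have h1 : Nat.card (N.subgroupOf C) ≤ 8 := by
        refine le_trans (Nat.card_le_card_of_injective (fun a => (⟨⟨(a.1 : G), a.2⟩, ?_⟩ :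
          Subgroup.centralizer ({zN} : Set N))) ?_) hCN
        · exact Subgroup.mem_centralizer_singleton_iff.2
            (Subtype.ext (Subgroup.mem_centralizer_singleton_iff.1 a.1.2))
        · intro a b h
          exact Subtype.ext (Subtype.ext (congrArg (fun u : Subgroup.centralizer ({zN} : Set N) => ((u : N) : G)) h))
      have h2 : (N.subgroupOf C).index ≤ 4 := by
        have := Nat.le_of_dvd (by omega) (Subgroup.relIndex_dvd_index_of_normal N C)
        rw [hidx] at this
        exact this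
      calc _ ≤ 8 * 4 := Nat.mul_le_mul h1 h2
        _ = 32 := by norm_num
  set z' : N := ⟨x * (z₁ : G) * x⁻¹, (inferInstance : N.Normal).conj_mem _ hz₁N x⟩ with hz'
  have hmemx : ∀ g : G, Commute g (z' : G) → g ∈ MulAut.conj x • (H : Subgroup G) := by
    intro g hg
    have h1 : x⁻¹ * g * x ∈ (H : Subgroup G) := hCG ▸ Subgroup.mem_centralizer_singleton_iff.2 (by
      have h2 : g * (x * (z₁ : G) * x⁻¹) = x * (z₁ : G) * x⁻¹ * g := hg.eq
      calc x⁻¹ * g * x * (z₁ : G) = x⁻¹ * (g * (x * (z₁ : G) * x⁻¹)) * x := by group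
        _ = (z₁ : G) * (x⁻¹ * g * x) := by rw [h2]; group)
    have h3 := Subgroup.smul_mem_pointwise_smul _ (MulAut.conj x) _ h1
    rwa [MulAut.smul_def, MulAut.conj_apply, show x * (x⁻¹ * g * x) * x⁻¹ = g by group] at h3
  intro hbot
  have htriv : ∀ g : G, g ∈ (H : Subgroup G) → Commute g (z' : G) → g = 1 := fun g h1 h2 =>
    (Subgroup.eq_bot_iff_forall _).1 hbot g ⟨h1, hmemx g h2⟩
  by_cases hcom : Common zN z'
  · obtain ⟨t, ht, ht1, ht2⟩ := hcom
    exact ht.2 (Subtype.ext (htriv _ (hCG ▸ Subgroup.mem_centralizer_singleton_iff.2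
      (congrArg Subtype.val ht1.symm.eq)) (congrArg Subtype.val ht2.eq)))
  -- the orbit of `z'` under `H`
  let a : ↥(H : Subgroup G) → N := fun h => MulAut.conjNormal (h : G) z'
  have hinj : Function.Injective a := by
    intro h1 h2 h
    have h' := congrArg Subtype.val h
    simp only [a, MulAut.conjNormal_apply] at h'
    have : ((h2⁻¹ * h1 : (H : Subgroup G)) : G) = 1 := htriv _ (h2⁻¹ * h1).2 (by
      show ((h2 : G)⁻¹ * h1) * (z' : G) = (z' : G) * ((h2 : G)⁻¹ * h1)
      calc ((h2 : G)⁻¹ * h1) * (z' : G) = (h2 : G)⁻¹ * ((h1 : G) * z' * (h1 : G)⁻¹) * h1 := by group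
        _ = (z' : G) * ((h2 : G)⁻¹ * h1) := by rw [h']; group)
    exact (inv_mul_eq_one.1 (Subtype.ext this)).symm
  have hinv' : Inv' z' := by
    have : z' = MulAut.conjNormal x zN := Subtype.ext (by rw [MulAut.conjNormal_apply])
    rw [this]; exact (inv'_map _).2 hzinv
  have hfix : ∀ h : (H : Subgroup G), (MulAut.conjNormal (h : G) : N ≃* N) zN = zN := fun h => Subtype.ext (by
    rw [MulAut.conjNormal_apply, mul_inv_eq_iff_eq_mul]
    exact congrArg Subtype.val (Subgroup.mem_center_iff.1 hz₁c h))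
  set P : Equiv.Perm (Fin 6) → Bool := fun f =>
    if Chain zN z' then !commonB f && chainB f else !commonB f && !chainB f
  have hP : ∀ h, (e' (a h) : Equiv.Perm (Fin 6)) ∈ L.filter P := by
    intro h
    rw [List.mem_filter]
    refine ⟨(inv'_iff _).1 ((inv'_map e').2 ((inv'_map _).2 hinv')), ?_⟩
    have h1 : ¬ Common (e' zN) (e' (a h)) := by
      rw [common_map, ← hfix h, common_map]; exact hcom
    have h2 : Chain (e' zN) (e' (a h)) ↔ Chain zN z' := by
      rw [chain_map]; conv_lhs => rw [← hfix h]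
      exact chain_map _
    rw [common_iff _ _ he', Bool.not_eq_true] at h1
    rw [chain_iff _ _ he'] at h2
    by_cases hch : Chain zN z'
    · simp [P, hch, h1, h2.2 hch]
    · have : chainB (e' (a h) : Equiv.Perm (Fin 6)) = false := by
        rw [← Bool.not_eq_true]; exact fun hh => hch (h2.1 hh)
      simp [P, hch, h1, this]
  have hle : Nat.card (H : Subgroup G) ≤ (L.filter P).length := by
    refine le_trans ?_ (List.toFinset_card_le _)
    rw [← Nat.card_eq_finsetCard]
    refine Nat.card_le_card_of_injective (fun h => ⟨_, List.mem_toFinset.2 (hP h)⟩) ?_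
    intro h1 h2 h
    exact hinj (e'.injective (Subtype.ext (Subtype.ext_iff.1 h :)))
  have hlen : (L.filter P).length ≤ 16 := by
    by_cases hch : Chain zN z'
    · simpa [P, hch] using card_far.1
    · simpa [P, hch] using card_far.2
  rw [hH] at hle
  omega

end Cfsg.Agent.S2488
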