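import Cfsg.Statements.S2490
import Cfsg.Agent.EqLemmas
import Cfsg.Agent.Lib.GraphOrder.Main7920

set_option autoImplicit false
open Cfsg

namespace Cfsg.Agent.S2490

/-- Let G be a finite group of order 7920 = 2⁴·3²·5·11 (the order of the smallest Mathieu group) and suppose its prime graph (vertices the prime divisors of the order, distinct p, q joined when there is an element of order pq) is disconnected: the prime divisors split into two non-empty parts with no element of order pq for p in one part and q in the other. Then G is simple. -/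
theorem result {G : Type*} [Group G] [Finite G] (hord : Nat.card G = 7920)
    (hdisc : (∃ A : Set ℕ, (∃ a ∈ A, a.Prime ∧ a ∣ Nat.card G) ∧ (∃ b ∉ A, b.Prime ∧ b ∣ Nat.card G) ∧
      ∀ a ∈ A, ∀ b ∉ A, a.Prime → b.Prime → a ∣ Nat.card G → b ∣ Nat.card G → ¬ ∃ g : G, orderOf g = a * b)) :
    IsSimpleGroup G := by
  classical
  obtain ⟨A, ⟨a, haA, hap, had⟩, ⟨b, hbA, hbp, hbd⟩, hsep⟩ := hdisc
  haveI : Fact (Nat.Prime 11) := ⟨by norm_num⟩
  haveI : Fact (Nat.Prime 5) := ⟨by norm_num⟩
  haveI : Fact (Nat.Prime 3) := ⟨by norm_num⟩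
  let f : ℕ → Bool := fun r => decide (r ∈ A)
  have hf : GraphOrder.Sep G f := by
    rintro r s hr hs ⟨g, hg⟩
    have hd : r * s ∣ Nat.card G := hg ▸ orderOf_dvd_natCard g
    have hrd : r ∣ Nat.card G := (Dvd.intro s rfl).trans hd
    have hsd : s ∣ Nat.card G := (Dvd.intro_left r rfl).trans hd
    by_cases hr' : r ∈ A <;> by_cases hs' : s ∈ A
    · simp [f, hr', hs']
    · exact absurd ⟨g, hg⟩ (hsep r hr' s hs' hr hs hrd hsd)
    · exact absurd ⟨g, hg.trans (mul_comm r s)⟩ (hsep s hs' r hr' hs hr hsd hrd)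
    · simp [f, hr', hs']
  have hnc : ¬ GraphOrder.Conn f := by
    rintro ⟨h3, h5, h11⟩
    have key : ∀ p : ℕ, p.Prime → p ∣ Nat.card G → f p = f 2 := by
      intro p hp hpd
      rw [hord] at hpd
      have : p ∈ Nat.primeFactors 7920 := Nat.mem_primeFactors.2 ⟨hp, hpd, by norm_num⟩
      have h4 : Nat.primeFactors 7920 ⊆ ({2, 3, 5, 11} : Finset ℕ) := by
        intro q hq
        rw [Nat.mem_primeFactors] at hq
        obtain ⟨hq, hqd, -⟩ := hq
        have := Nat.le_of_dvd (by norm_num) hqd
        simp only [Finset.mem_insert, Finset.mem_singleton]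
        have h7 : (7920 : ℕ) = 2 ^ 4 * (3 ^ 2 * (5 * 11)) := by norm_num
        rw [h7] at hqd
        rcases hq.dvd_mul.1 hqd with h | h
        · exact Or.inl ((Nat.prime_dvd_prime_iff_eq hq Nat.prime_two).1 (hq.dvd_of_dvd_pow h))
        rcases hq.dvd_mul.1 h with h | h
        · exact Or.inr (Or.inl ((Nat.prime_dvd_prime_iff_eq hq Nat.prime_three).1 (hq.dvd_of_dvd_pow h)))
        rcases hq.dvd_mul.1 h with h | h
        · exact Or.inr (Or.inr (Or.inl ((Nat.prime_dvd_prime_iff_eq hq (by norm_num)).1 h)))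
        · exact Or.inr (Or.inr (Or.inr ((Nat.prime_dvd_prime_iff_eq hq (by norm_num)).1 h)))
      have := h4 this
      simp only [Finset.mem_insert, Finset.mem_singleton] at this
      rcases this with rfl | rfl | rfl | rfl
      · rfl
      · exact h3.symm
      · exact h5.symm
      · exact h11.symm
    have := (key a hap had).trans (key b hbp hbd).symm
    simp [f, haA, hbA] at this
  haveI : Nontrivial G := by
    rw [← Finite.one_lt_card_iff_nontrivial, hord]; norm_num
  refine ⟨fun N hN => ?_⟩
  by_cases h1 : Nat.card N = 1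
  · exact Or.inl (Subgroup.eq_bot_of_card_eq N h1)
  by_cases h2 : Nat.card N = 7920
  · exact Or.inr (Subgroup.eq_top_of_card_eq N (h2.trans hord.symm))
  haveI := hN
  exact absurd (GraphOrder.conn_of_normal hord hf h1 h2) hnc

end Cfsg.Agent.S2490
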