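import Cfsg.Statements.S2493
import Cfsg.Agent.Lib.AltTwoConj.Decomp
import Cfsg.Agent.Lib.DoubleCoverAlt.Multiplier
import Cfsg.Agent.S3335
-- import your own Cfsg.Agent.* helpers here

set_option autoImplicit false
open Cfsg

namespace Cfsg.Agent.S2493

open scoped commutatorElement

open Equiv Equiv.Perm

/-- The product of two members of a Klein four group is the third. -/
theorem klein_mul {α : Type*} [DecidableEq α] {p q r s : α} (h : [p, q, r, s].Nodup) :
    swap p q * swap r s * (swap p r * swap q s) = swap p s * swap q r := by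
  simp only [List.nodup_cons, List.mem_cons, List.not_mem_nil, or_false, not_or] at h
  obtain ⟨⟨h1, h2, h3⟩, ⟨h4, h5⟩, h6, -⟩ := h
  ext y
  simp only [Perm.mul_apply]
  rcases eq_or_ne y p with rfl | hyp
  · simp [swap_apply_def, h1, h2, h3, h4, h5, h6, Ne.symm h1, Ne.symm h2, Ne.symm h3, Ne.symm h4,
      Ne.symm h5, Ne.symm h6]
  rcases eq_or_ne y q with rfl | hyq
  · simp [swap_apply_def, h1, h2, h3, h4, h5, h6, Ne.symm h1, Ne.symm h2, Ne.symm h3, Ne.symm h4,
      Ne.symm h5, Ne.symm h6]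
  rcases eq_or_ne y r with rfl | hyr
  · simp [swap_apply_def, h1, h2, h3, h4, h5, h6, Ne.symm h1, Ne.symm h2, Ne.symm h3, Ne.symm h4,
      Ne.symm h5, Ne.symm h6]
  rcases eq_or_ne y s with rfl | hys
  · simp [swap_apply_def, h1, h2, h3, h4, h5, h6, Ne.symm h1, Ne.symm h2, Ne.symm h3, Ne.symm h4,
      Ne.symm h5, Ne.symm h6]
  simp [swap_apply_of_ne_of_ne, hyp, hyq, hyr, hys]

section Cover

variable {G : Type*} [Group G] [Finite G] {n : ℕ} (π : G →* Perm (Fin n))

/-- In the double cover, products of two disjoint transpositions lift to elements of order four. -/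
theorem sq_eq_z (hn : 5 ≤ n) (hperf : commutator G = ⊤)
    (hker : ∀ g, π g = 1 ↔ g ∈ Subgroup.center G) (hrange : π.range = alternatingGroup (Fin n))
    {z : G} (hzZ : z ∈ Subgroup.center G) (hz1 : z ≠ 1) (hz2 : z * z = 1)
    (hcases : ∀ w ∈ Subgroup.center G, w = 1 ∨ w = z)
    (g : G) (hg : (π g).cycleType = {2, 2}) : g ^ 2 = z := by
  have hzc : ∀ a : G, Commute a z := fun a => Subgroup.mem_center_iff.1 hzZ a
  have hcz : ∀ w ∈ Subgroup.center G, w ^ 2 = 1 := fun w hw => by
    rcases hcases w hw with rfl | rfl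
    · exact one_pow 2
    · rw [pow_two]; exact hz2
  have hπ2 : π g ^ 2 = 1 := by
    rw [← orderOf_dvd_iff_pow_eq_one, ← lcm_cycleType, hg]; decide
  rcases hcases (g ^ 2) ((hker _).1 (by rw [map_pow, hπ2])) with hg1 | hgz
  swap
  · exact hgz
  exfalso
  -- all lifts of products of two disjoint transpositions are involutions
  have key : ∀ h : G, (π h).cycleType = {2, 2} → h ^ 2 = 1 := by
    intro h hh
    obtain ⟨τ, hτ⟩ := isConj_iff.1 (isConj_of_cycleType_eq (hg.trans hh.symm))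
    have hmem : (2 : ℕ) ∈ (π g).cycleType := by rw [hg]; simp
    obtain ⟨c, r, hcr, hd, hcyc, hc2⟩ := mem_cycleType_iff.1 hmem
    obtain ⟨p, q, hpq, rfl⟩ := card_support_eq_two.1 hc2
    have hcom : swap p q * π g * (swap p q)⁻¹ = π g := by
      rw [hcr, ← mul_assoc (swap p q), swap_inv, swap_mul_self, one_mul, hd.commute.eq]
    obtain ⟨τ', hτ's, hτ'⟩ : ∃ τ' : Perm (Fin n), sign τ' = 1 ∧ τ' * π g * τ'⁻¹ = π h := by
      rcases Int.units_eq_one_or (sign τ) with ht | ht
      · exact ⟨τ, ht, hτ⟩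
      · refine ⟨τ * swap p q, by rw [map_mul, ht, sign_swap hpq]; decide, ?_⟩
        rw [← hτ]
        conv_rhs => rw [← hcom]
        group
    obtain ⟨t, ht⟩ : τ' ∈ π.range := by rw [hrange]; exact Perm.mem_alternatingGroup.2 hτ's
    have hw : t * g * t⁻¹ * h⁻¹ ∈ Subgroup.center G := by
      rw [← hker, map_mul, map_mul, map_mul, map_inv, map_inv, ht, hτ', mul_inv_cancel]
    have e1 : h = (t * g * t⁻¹ * h⁻¹)⁻¹ * (t * g * t⁻¹) := by group
    rw [e1, (Commute.symm (show Commute (t * g * t⁻¹) (t * g * t⁻¹ * h⁻¹)⁻¹ from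
      (show Commute (t * g * t⁻¹) (t * g * t⁻¹ * h⁻¹) from
        Subgroup.mem_center_iff.1 hw _).inv_right)).mul_pow, conj_pow, hg1, mul_one, mul_inv_cancel,
      mul_one, inv_pow, hcz _ hw, inv_one]
  -- so the presentation of the alternating group lifts
  obtain ⟨k, rfl⟩ : ∃ k, n = k + 3 := ⟨n - 3, by omega⟩
  have hct : ∀ {a b c d : ℕ}, a < k + 3 → b < k + 3 → c < k + 3 → d < k + 3 → a ≠ b → a ≠ c → a ≠ d →
      b ≠ c → b ≠ d → c ≠ d →
      (DoubleCoverAlt.sw k a b * DoubleCoverAlt.sw k c d).cycleType = {2, 2} := by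
    intro a b c d ha hb hc hd h1 h2 h3 h4 h5 h6
    refine cycleType_swap_mul_swap_of_nodup ?_
    simp [DoubleCoverAlt.pt_ne ha hb h1, DoubleCoverAlt.pt_ne ha hc h2, DoubleCoverAlt.pt_ne ha hd h3,
      DoubleCoverAlt.pt_ne hb hc h4, DoubleCoverAlt.pt_ne hb hd h5, DoubleCoverAlt.pt_ne hc hd h6]
  have hrels := DoubleCoverAlt.rels_gen k
  have hgen : ∀ i, i < k + 1 → ∃ h, π h = DoubleCoverAlt.gen k i := fun i hi => by
    have := DoubleCoverAlt.gen_mem (k := k) hi
    rw [← hrange] at this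
    exact this
  choose! u hu using hgen
  classical
  let y : ℕ → G := fun i => Nat.rec ((u 0) ^ 4)
    (fun i prev => if (prev * u (i + 1)) ^ 3 = 1 then u (i + 1) else z * u (i + 1)) i
  have hy : ∀ i, i < k + 1 → π (y i) = DoubleCoverAlt.gen k i := by
    intro i hi
    cases i with
    | zero =>
      show π (u 0 ^ 4) = _
      rw [map_pow, hu 0 hi, pow_succ, hrels.cube (by omega), one_mul]
    | succ i =>
      show π (if _ then _ else _) = _
      split_ifs
      · exact hu _ hi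
      · rw [map_mul, (hker z).2 hzZ, one_mul, hu _ hi]
  have hy0 : y 0 ^ 3 = 1 := by
    show (u 0 ^ 4) ^ 3 = 1
    have h3 : u 0 ^ 3 ∈ Subgroup.center G := by
      rw [← hker, map_pow, hu 0 (by omega), hrels.cube (by omega)]
    rw [← pow_mul, show 4 * 3 = 3 * (2 * 2) from rfl, pow_mul, pow_mul, hcz _ h3, one_pow]
  have hyadj : ∀ i, i + 1 < k + 1 → (y i * y (i + 1)) ^ 3 = 1 := by
    intro i hi
    show (y i * if (y i * u (i + 1)) ^ 3 = 1 then u (i + 1) else z * u (i + 1)) ^ 3 = 1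
    split_ifs with h
    · exact h
    · have h3 : (y i * u (i + 1)) ^ 3 ∈ Subgroup.center G := by
        rw [← hker, map_pow, map_mul, hy i (by omega), hu _ hi, hrels.adj i (by omega)]
      rw [← mul_assoc, (hzc (y i)).eq, mul_assoc z, (hzc _).symm.mul_pow,
        (hcases _ h3).resolve_left h, ← pow_succ, show 3 + 1 = 2 * 2 from rfl, pow_mul, hcz z hzZ,
        one_pow]
  set R := ({g : FreeGroup (Fin (k + 3 - 2)) | ∃ i : Fin (k + 3 - 2), i.val = 0 ∧ g = FreeGroup.of i ^ 3} ∪
       {g | ∃ i : Fin (k + 3 - 2), 1 ≤ i.val ∧ g = FreeGroup.of i ^ 2} ∪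
       {g | ∃ i j : Fin (k + 3 - 2), j.val = i.val + 1 ∧ g = (FreeGroup.of i * FreeGroup.of j) ^ 3} ∪
       {g | ∃ i j : Fin (k + 3 - 2), i.val + 1 < j.val ∧ g = (FreeGroup.of i * FreeGroup.of j) ^ 2})
    with hR
  have hlt : ∀ i : Fin (k + 3 - 2), i.val < k + 1 := fun i => by
    have := i.isLt
    omega
  have hrel : ∀ r ∈ R, FreeGroup.lift (fun i : Fin (k + 3 - 2) => y i.val) r = 1 := by
    rintro r (((⟨i, hi, rfl⟩ | ⟨i, hi, rfl⟩) | ⟨i, j, hij, rfl⟩) | ⟨i, j, hij, rfl⟩) <;>
      simp only [map_pow, map_mul, FreeGroup.lift_apply_of]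
    · rw [hi]; exact hy0
    · refine key _ ?_
      have := hlt i
      rw [hy _ (hlt i), DoubleCoverAlt.gen_pos k hi]
      apply hct <;> omega
    · rw [hij]
      exact hyadj _ (hij ▸ hlt j)
    · refine key _ ?_
      have := hlt j
      rw [map_mul, hy _ (hlt i), hy _ (hlt j), DoubleCoverAlt.gen_pos k (i := j) (by omega)]
      rcases Nat.eq_zero_or_pos i.val with hi | hi
      · rw [hi, DoubleCoverAlt.gen_zero, ← mul_assoc, DoubleCoverAlt.sw_conj]
        apply hct <;> omega
      · rw [DoubleCoverAlt.gen_pos k hi,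
          (DoubleCoverAlt.sw_comm (k := k) (a := 0) (b := 1) (c := i.val + 1) (d := i.val + 2) (by omega)
            (by omega) (by omega) (by omega) (by omega) (by omega) (by omega) (by omega)).eq,
          mul_assoc, ← mul_assoc (DoubleCoverAlt.sw k 0 1) (DoubleCoverAlt.sw k 0 1),
          DoubleCoverAlt.sw_sq, one_mul]
        apply hct <;> omega
  set f := PresentedGroup.toGroup hrel with hf
  obtain ⟨eP⟩ := S3335.result (k + 3) (by omega)
  have hPfin : Finite (PresentedGroup R) := Finite.of_equiv _ eP.symm.toEquiv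
  have hcardL : Nat.card f.range ≤ Nat.card (alternatingGroup (Fin (k + 3))) :=
    (Nat.card_le_card_of_surjective _ f.rangeRestrict_surjective).trans (Nat.card_congr eP.toEquiv).le
  have honto : alternatingGroup (Fin (k + 3)) ≤ f.range.map π := by
    intro σ hσ
    have hmem := DoubleCoverAlt.mem_closure_gens k hσ
    have hle : Subgroup.closure (DoubleCoverAlt.gen k '' Set.Iio (k + 1)) ≤ f.range.map π := by
      rw [Subgroup.closure_le]
      rintro _ ⟨i, hi, rfl⟩
      refine ⟨y i, ⟨PresentedGroup.of ⟨i, by rw [Set.mem_Iio] at hi; omega⟩, ?_⟩, hy i hi⟩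
      rw [hf, PresentedGroup.toGroup.of]
    exact hle hmem
  -- the commutators lie in the image of the presentation
  have hdec : ∀ a : G, ∃ w ∈ Subgroup.center G, ∃ l ∈ f.range, w * l = a := by
    intro a
    obtain ⟨l, hl, hla⟩ := honto (x := π a) (by rw [← hrange]; exact ⟨a, rfl⟩)
    refine ⟨a * l⁻¹, (hker _).1 (by rw [map_mul, map_inv, hla, mul_inv_cancel]), l, hl, by group⟩
  have hle : commutator G ≤ f.range := by
    rw [_root_.commutator_def, Subgroup.commutator_le]
    intro a _ b _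
    obtain ⟨w, hw, l, hl, rfl⟩ := hdec a
    obtain ⟨w', hw', m, hm, rfl⟩ := hdec b
    have cw : ∀ a, Commute w a := fun a => (Subgroup.mem_center_iff.1 hw a).symm
    have cw' : ∀ a, Commute w' a := fun a => (Subgroup.mem_center_iff.1 hw' a).symm
    have e : ⁅w * l, w' * m⁆ = ⁅l, m⁆ := by
      rw [commutatorElement_def, commutatorElement_def, mul_inv_rev, mul_inv_rev]
      calc w * l * (w' * m) * (l⁻¹ * w⁻¹) * (m⁻¹ * w'⁻¹)
          = w * (l * (w' * m) * l⁻¹) * w⁻¹ * (m⁻¹ * w'⁻¹) := by group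
        _ = l * (w' * m) * l⁻¹ * (m⁻¹ * w'⁻¹) := by rw [(cw _).eq, mul_inv_cancel_right]
        _ = l * w' * (m * l⁻¹ * m⁻¹) * w'⁻¹ := by group
        _ = w' * (l * m * l⁻¹ * m⁻¹) * w'⁻¹ := by rw [← (cw' l).eq]; group
        _ = l * m * l⁻¹ * m⁻¹ := by rw [(cw' _).eq, mul_inv_cancel_right]
    rw [e, commutatorElement_def]
    exact f.range.mul_mem (f.range.mul_mem (f.range.mul_mem hl hm) (f.range.inv_mem hl)) (f.range.inv_mem hm)
  rw [hperf, top_le_iff] at hle
  rw [hle, Subgroup.card_top] at hcardL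
  let π' : G →* alternatingGroup (Fin (k + 3)) := π.codRestrict _ fun a => by rw [← hrange]; exact ⟨a, rfl⟩
  have hs : Function.Surjective π' := by
    rintro ⟨σ, hσ⟩
    rw [← hrange] at hσ
    obtain ⟨a, rfl⟩ := hσ
    exact ⟨a, rfl⟩
  have hinj := ((Nat.bijective_iff_surjective_and_card π').2
    ⟨hs, le_antisymm hcardL (Nat.card_le_card_of_surjective π' hs)⟩).1
  exact hz1 (hinj (Subtype.ext (by simp [π', (hker z).2 hzZ])))

/-- An even permutation with two transpositions lifts to an element conjugate to its negative. -/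
theorem conj_neg (hker : ∀ g, π g = 1 ↔ g ∈ Subgroup.center G) (hrange : π.range = alternatingGroup (Fin n))
    {z : G} (hzZ : z ∈ Subgroup.center G) (hz1 : z ≠ 1) (hz2 : z * z = 1)
    (hcases : ∀ w ∈ Subgroup.center G, w = 1 ∨ w = z)
    (hsq : ∀ g : G, (π g).cycleType = {2, 2} → g ^ 2 = z)
    (A : G) {p q r s : Fin n} (hnd : [p, q, r, s].Nodup) {ρ : Perm (Fin n)}
    (hA : π A = swap p q * swap r s * ρ) (hp : ρ p = p) (hq : ρ q = q) (hr : ρ r = r) (hs : ρ s = s) :
    ∃ w : G, w * A * w⁻¹ = A * z := by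
  have hzc : ∀ a : G, Commute a z := fun a => Subgroup.mem_center_iff.1 hzZ a
  have hnd' := hnd
  simp only [List.nodup_cons, List.mem_cons, List.not_mem_nil, or_false, not_or] at hnd'
  obtain ⟨⟨h1, h2, h3⟩, ⟨h4, h5⟩, h6, -⟩ := hnd'
  have hev : ∀ σ : Perm (Fin n), sign σ = 1 → ∃ g, π g = σ := fun σ hσ => by
    have : σ ∈ π.range := by rw [hrange]; exact Perm.mem_alternatingGroup.2 hσ
    exact this
  obtain ⟨S, hS⟩ := hev (swap p q * swap r s) (by rw [map_mul, sign_swap h1, sign_swap h6]; decide)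
  obtain ⟨T, hT⟩ := hev (swap p r * swap q s) (by rw [map_mul, sign_swap h2, sign_swap h5]; decide)
  have hS2 : S * S = z := by
    rw [← pow_two]
    exact hsq S (by rw [hS]; exact cycleType_swap_mul_swap_of_nodup hnd)
  have hT2 : T * T = z := by
    rw [← pow_two]
    refine hsq T ?_
    rw [hT]
    exact cycleType_swap_mul_swap_of_nodup (by simp [h1, h2, h3, h5, h6, Ne.symm h4, Ne.symm h6])
  have hST : (S * T) * (S * T) = z := by
    rw [← pow_two]
    refine hsq _ ?_
    rw [map_mul, hS, hT, klein_mul hnd]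
    exact cycleType_swap_mul_swap_of_nodup (by simp [h1, h2, h3, h4, Ne.symm h5, Ne.symm h6])
  have hcomm : Commute (π S) (π T) := by
    rw [hS, hT]
    have e1 := klein_mul hnd
    have e2 := klein_mul (p := p) (q := r) (r := q) (s := s) (by simp [h1, h2, h3, h5, h6, Ne.symm h4])
    show _ = _
    rw [e1, e2, swap_comm r q]
  have hw : T * S * T⁻¹ * S⁻¹ ∈ Subgroup.center G := by
    rw [← hker, map_mul, map_mul, map_mul, map_inv, map_inv, ← hcomm.eq, mul_inv_cancel_right,
      mul_inv_cancel]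
  have hTS : T * S * T⁻¹ = S * z := by
    rcases hcases _ hw with h | h
    · exfalso
      rw [mul_inv_eq_one, mul_inv_eq_iff_eq_mul] at h
      apply hz1
      calc z = z * z * z := by rw [hz2, one_mul]
        _ = S * S * (T * T) * z := by rw [hS2, hT2]
        _ = S * T * (S * T) * z := by rw [mul_assoc S T, ← mul_assoc T S, h]; simp only [mul_assoc]
        _ = 1 := by rw [hST, hz2]
    · rw [mul_inv_eq_iff_eq_mul] at h
      rw [h, (hzc S).eq]
  -- lifts of the remaining part commute with `T`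
  let P : Fin n → Prop := fun x => x ≠ p ∧ x ≠ q ∧ x ≠ r ∧ x ≠ s
  have h3cyc : ∀ c : Perm (Subtype P), c.IsThreeCycle →
      Perm.ofSubtype c ∈ (Subgroup.centralizer {T}).map π := by
    intro c hc
    have hc' : (Perm.ofSubtype c).IsThreeCycle := by
      show _ = _
      rw [cycleType_ofSubtype]; exact hc
    obtain ⟨g, hg⟩ := hev _ hc'.sign
    refine ⟨g, Subgroup.mem_centralizer_singleton_iff.2 ?_, hg⟩
    have hcomm' : Commute (π T) (π g) := by
      rw [hT, hg]
      refine Equiv.Perm.Disjoint.commute fun y => ?_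
      by_cases hy : P y
      · left
        obtain ⟨a1, a2, a3, a4⟩ := hy
        rw [Perm.mul_apply, swap_apply_of_ne_of_ne a2 a4, swap_apply_of_ne_of_ne a1 a3]
      · exact Or.inr (Perm.ofSubtype_apply_of_not_mem c hy)
    have hw' : T * g * T⁻¹ * g⁻¹ ∈ Subgroup.center G := by
      rw [← hker, map_mul, map_mul, map_mul, map_inv, map_inv, hcomm'.eq, mul_inv_cancel_right,
        mul_inv_cancel]
    rcases hcases _ hw' with h | h
    · rw [mul_inv_eq_one, mul_inv_eq_iff_eq_mul] at h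
      exact h.symm
    · exfalso
      rw [mul_inv_eq_iff_eq_mul] at h
      have hg3 : g ^ 3 ∈ Subgroup.center G := by
        rw [← hker, map_pow, hg, ← hc'.orderOf, pow_orderOf_eq_one]
      have e := congrArg (fun x : G => x ^ 3) h
      simp only [conj_pow] at e
      rw [Subgroup.mem_center_iff.1 hg3 T, mul_inv_cancel_right, ((hzc g).symm).mul_pow] at e
      have : z ^ 3 = 1 := mul_eq_right.1 e.symm
      rw [pow_succ, pow_two, hz2, one_mul] at this
      exact hz1 this
  have hρs : sign ρ = 1 := by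
    have h : π A ∈ π.range := ⟨A, rfl⟩
    rw [hrange, Perm.mem_alternatingGroup] at h
    rw [hA, map_mul, map_mul, sign_swap h1, sign_swap h6] at h
    simpa using h
  have hρP : ∀ x, ρ x ≠ x → P x := fun x hx =>
    ⟨fun e => hx (e ▸ hp), fun e => hx (e ▸ hq), fun e => hx (e ▸ hr), fun e => hx (e ▸ hs)⟩
  have hρ : ρ ∈ (Subgroup.centralizer {T}).map π := by
    have hPρ : ∀ x, P (ρ x) ↔ P x := by
      intro x
      by_cases hx : ρ x = x
      · rw [hx]
      · exact iff_of_true (hρP _ fun e => hx (ρ.injective e)) (hρP x hx)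
    set ρ' := ρ.subtypePerm hPρ with hρ'
    have e : Perm.ofSubtype ρ' = ρ := Perm.ofSubtype_subtypePerm hPρ hρP
    have hmem : ρ' ∈ Subgroup.closure {c : Perm (Subtype P) | c.IsThreeCycle} := by
      rw [closure_three_cycles_eq_alternating, Perm.mem_alternatingGroup]
      rw [← e, sign_ofSubtype] at hρs
      exact hρs
    have hle : Subgroup.closure {c : Perm (Subtype P) | c.IsThreeCycle} ≤
        ((Subgroup.centralizer {T}).map π).comap Perm.ofSubtype := by
      rw [Subgroup.closure_le]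
      exact h3cyc
    have := hle hmem
    rwa [Subgroup.mem_comap, e] at this
  obtain ⟨R, hR, hRρ⟩ := hρ
  have hu : A * R⁻¹ * S⁻¹ ∈ Subgroup.center G := by
    rw [← hker, map_mul, map_mul, map_inv, map_inv, hRρ, hS, hA, mul_inv_cancel_right, mul_inv_cancel]
  obtain ⟨u, hu', rfl⟩ : ∃ u ∈ Subgroup.center G, A = u * S * R := ⟨_, hu, by group⟩
  refine ⟨T, ?_⟩
  have hRT : R * T = T * R := Subgroup.mem_centralizer_singleton_iff.1 hR
  calc T * (u * S * R) * T⁻¹ = T * u * S * (R * T⁻¹) := by group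
    _ = u * T * S * (T⁻¹ * R) := by
        rw [Subgroup.mem_center_iff.1 hu' T, (Commute.inv_right (show Commute R T from hRT)).eq]
    _ = u * (T * S * T⁻¹) * R := by group
    _ = u * S * R * z := by rw [hTS]; simp only [mul_assoc]; rw [(hzc R).eq]

end Cover


/-- Let n ≥ 5 and let G be a finite perfect group whose centre has order 2 with G/Z(G) isomorphic to the alternating group of degree n (the double cover of the alternating group). Then every element of G is a commutator. -/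
theorem result {G : Type*} [Group G] [Finite G] (hperf : commutator G = ⊤) {n : ℕ} (hn : 5 ≤ n)
    (hZ : Nat.card (Subgroup.center G) = 2) (e : G ⧸ Subgroup.center G ≃* alternatingGroup (Fin n))
    (g : G) :
    ∃ a b : G, a * b * a⁻¹ * b⁻¹ = g := by
  obtain ⟨π, hker, hrange⟩ : ∃ π : G →* Perm (Fin n),
      (∀ g, π g = 1 ↔ g ∈ Subgroup.center G) ∧ π.range = alternatingGroup (Fin n) := by
    refine ⟨(alternatingGroup (Fin n)).subtype.comp (e.toMonoidHom.comp (QuotientGroup.mk' _)), ?_, ?_⟩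
    · intro h
      show ((e (QuotientGroup.mk h) : alternatingGroup (Fin n)) : Perm (Fin n)) = 1 ↔ _
      rw [← OneMemClass.coe_one (alternatingGroup (Fin n)), Subtype.coe_inj, e.map_eq_one_iff,
        QuotientGroup.eq_one_iff]
    · refine le_antisymm ?_ ?_
      · rintro _ ⟨h, rfl⟩
        exact (e (QuotientGroup.mk h)).2
      · intro σ hσ
        obtain ⟨h, hh⟩ := QuotientGroup.mk_surjective (e.symm ⟨σ, hσ⟩)
        refine ⟨h, ?_⟩
        show ((e (QuotientGroup.mk h) : alternatingGroup (Fin n)) : Perm (Fin n)) = σ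
        rw [hh, e.apply_symm_apply]
  obtain ⟨z, hzZ, hz1', hcases⟩ : ∃ z ∈ Subgroup.center G, z ≠ 1 ∧
      ∀ w ∈ Subgroup.center G, w = 1 ∨ w = z := by
    obtain ⟨⟨z, hzZ⟩, hz, huniq⟩ := (Nat.card_eq_two_iff' (1 : Subgroup.center G)).1 hZ
    refine ⟨z, hzZ, fun h => hz (Subtype.ext h), fun w hw => ?_⟩
    by_cases h1 : w = 1
    · exact Or.inl h1
    · exact Or.inr (congrArg Subtype.val (huniq ⟨w, hw⟩ fun h => h1 (congrArg Subtype.val h)))
  have hz2 : z * z = 1 := by
    rcases hcases _ (mul_mem hzZ hzZ) with h | h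
    · exact h
    · exact absurd (mul_eq_left.1 h) hz1'
  have hzc : ∀ a : G, Commute a z := fun a => Subgroup.mem_center_iff.1 hzZ a
  have hsq := sq_eq_z π hn hperf hker hrange hzZ hz1' hz2 hcases
  have hsign : ∀ h : G, Equiv.Perm.sign (π h) = 1 := fun h => by
    have hm : π h ∈ π.range := ⟨h, rfl⟩
    rwa [hrange, Perm.mem_alternatingGroup] at hm
  obtain ⟨a, b, hab, htype, t, ht, ht2, hT⟩ :=
    AltTwoConj.exists_special_factorisation hn (π g) (hsign g)
  have hcount : 2 ≤ a.cycleType.count 2 := by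
    rcases hT with h | h <;> rw [h] <;> simp [AltTwoConj.twos, Multiset.count_cons] <;> omega
  have hasign : Equiv.Perm.sign a = 1 := by
    rw [sign_of_cycleType]
    obtain ⟨d, rfl⟩ := ht
    rcases hT with h | h <;> rw [h] <;>
      simp [AltTwoConj.twos, pow_add, pow_mul, Multiset.sum_replicate, pow_succ, ← two_mul]
  -- two transpositions of `a`
  obtain ⟨c, a1, ha1, hd1, hc1, hcard1⟩ := mem_cycleType_iff.1
    (Multiset.count_pos.1 (lt_of_lt_of_le two_pos hcount))
  obtain ⟨p, q, hpq, rfl⟩ := card_support_eq_two.1 hcard1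
  have hcnt1 : 2 ∈ a1.cycleType := by
    rw [← Multiset.count_pos]
    rw [ha1, hd1.cycleType_mul, hc1.cycleType, hcard1, Multiset.count_add] at hcount
    simp at hcount
    omega
  obtain ⟨c, ρ, ha2, hd2, hc2, hcard2⟩ := mem_cycleType_iff.1 hcnt1
  obtain ⟨r, s, hrs, rfl⟩ := card_support_eq_two.1 hcard2
  have hpf : ∀ x, (x = p ∨ x = q) → (swap r s * ρ) x = x := by
    intro x hx
    rw [← ha2]
    refine (hd1 x).resolve_left ?_
    rcases hx with rfl | rfl
    · simpa using hpq.symm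
    · simpa using hpq
  have hrf : ∀ x, (x = r ∨ x = s) → ρ x = x := by
    intro x hx
    refine (hd2 x).resolve_left ?_
    rcases hx with rfl | rfl
    · simpa using hrs.symm
    · simpa using hrs
  have hne : ∀ x y, (x = p ∨ x = q) → (y = r ∨ y = s) → x ≠ y := by
    rintro x y hx hy rfl
    have h0 := hpf x hx
    rw [Perm.mul_apply, hrf x hy] at h0
    rcases hy with rfl | rfl <;> simp at h0
    · exact hrs h0.symm
    · exact hrs h0
  have hρfix : ∀ x, (x = p ∨ x = q) → ρ x = x := by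
    intro x hx
    have h0 := hpf x hx
    rw [Perm.mul_apply] at h0
    have h1 := congrArg (swap r s) h0
    rw [swap_apply_self, swap_apply_of_ne_of_ne (hne x r hx (Or.inl rfl)) (hne x s hx (Or.inr rfl))] at h1
    exact h1
  have hnd : [p, q, r, s].Nodup := by
    simp [hpq, hrs, hne p r (Or.inl rfl) (Or.inl rfl), hne p s (Or.inl rfl) (Or.inr rfl),
      hne q r (Or.inr rfl) (Or.inl rfl), hne q s (Or.inr rfl) (Or.inr rfl)]
  have ha : a = swap p q * swap r s * ρ := by rw [ha1, ha2, mul_assoc]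
  obtain ⟨A, hA⟩ : a ∈ π.range := by rw [hrange]; exact Perm.mem_alternatingGroup.2 hasign
  obtain ⟨w, hw⟩ := conj_neg π hker hrange hzZ hz1' hz2 hcases hsq A hnd (hA.trans ha)
    (hρfix p (Or.inl rfl)) (hρfix q (Or.inr rfl)) (hrf r (Or.inl rfl)) (hrf s (Or.inr rfl))
  -- the second factor is conjugate to the inverse of the first
  obtain ⟨τ, hτ⟩ := isConj_iff.1 (isConj_of_cycleType_eq ((cycleType_inv a).trans htype))
  have hfix : swap p q * a⁻¹ * (swap p q)⁻¹ = a⁻¹ := by
    rw [ha1, mul_inv_rev, swap_inv, ← mul_assoc (swap p q), mul_assoc (swap p q * a1⁻¹),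
      swap_mul_self, mul_one, (hd1.commute.inv_right).eq]
  obtain ⟨τ', hτ's, hτ'⟩ : ∃ τ' : Perm (Fin n), Equiv.Perm.sign τ' = 1 ∧ τ' * a⁻¹ * τ'⁻¹ = b := by
    rcases Int.units_eq_one_or (Equiv.Perm.sign τ) with h | h
    · exact ⟨τ, h, hτ⟩
    · refine ⟨τ * swap p q, by rw [map_mul, h, sign_swap hpq]; decide, ?_⟩
      rw [← hτ]
      conv_rhs => rw [← hfix]
      group
  obtain ⟨T, hTτ⟩ : τ' ∈ π.range := by rw [hrange]; exact Perm.mem_alternatingGroup.2 hτ's
  have hπ : π (A * T * A⁻¹ * T⁻¹) = π g := by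
    rw [map_mul, map_mul, map_mul, map_inv, map_inv, hA, hTτ, hab, ← hτ']
    simp only [mul_assoc]
  have hdiff : (A * T * A⁻¹ * T⁻¹)⁻¹ * g ∈ Subgroup.center G := by
    rw [← hker, map_mul, map_inv, hπ, inv_mul_cancel]
  rcases hcases _ hdiff with h | h
  · exact ⟨A, T, inv_mul_eq_one.1 h⟩
  · refine ⟨A, T * w, ?_⟩
    rw [inv_mul_eq_iff_eq_mul] at h
    have hzi : z⁻¹ = z := inv_eq_of_mul_eq_one_right hz2
    have hwA : w * A⁻¹ * w⁻¹ = A⁻¹ * z := by
      rw [show w * A⁻¹ * w⁻¹ = (w * A * w⁻¹)⁻¹ by group, hw, mul_inv_rev, hzi, (hzc A⁻¹).eq]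
    calc A * (T * w) * A⁻¹ * (T * w)⁻¹ = A * T * (w * A⁻¹ * w⁻¹) * T⁻¹ := by group
      _ = A * T * A⁻¹ * (z * T⁻¹) := by rw [hwA]; simp only [mul_assoc]
      _ = A * T * A⁻¹ * T⁻¹ * z := by rw [← (hzc T⁻¹).eq]; simp only [mul_assoc]
      _ = g := h.symm

end Cfsg.Agent.S2493
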