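import Cfsg.Statements.S2496
import Cfsg.Agent.EqLemmas
import Cfsg.Agent.Lib.HalfTorus.Unitary

set_option autoImplicit false
open Cfsg

namespace Cfsg.Agent.S2496

/-- Let q be an odd prime power, n ≥ 4 even, and U = PSU(n,q) (realised over the field with q² elements). Then U has an element of order q^(n/2) + (−1)^(n/2) — that is, q^(n/2) + 1 when n/2 is even and q^(n/2) − 1 when n/2 is odd — if and only if the 2-part of n exceeds the 2-part of q + 1. -/
theorem result {F : Type*} [Field F] [Fintype F] {q : ℕ} (hF : Fintype.card F = q ^ 2) (hodd : Odd q)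
    {n : ℕ} (hn : 4 ≤ n) (heven : Even n) :
    (∃ g : Cfsg.PSU n F q, orderOf g = if Even (n / 2) then q ^ (n / 2) + 1 else q ^ (n / 2) - 1) ↔
      padicValNat 2 (q + 1) < padicValNat 2 n := by
  obtain ⟨m, rfl⟩ : ∃ m, n = 2 * m := ⟨n / 2, by obtain ⟨k, rfl⟩ := heven; omega⟩
  have hq : 2 ≤ q := Agent.Unitary.two_le_q hF
  obtain ⟨S, hS, hSd⟩ := HalfTorus.exists_cofactor hq (show 2 ≤ m by omega)
  rw [show 2 * m / 2 = m by omega, ← HalfTorus.dvd_half_iff (show 0 < q + 1 by omega) (show 0 < m by omega)]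
  constructor
  · rintro ⟨y, hy⟩
    exact HalfTorus.dvd_of_order hF hodd (by omega) hS hSd hy
  · intro hd
    exact HalfTorus.exists_order hF (by omega) hS ((hSd _ (Nat.gcd_dvd_right _ _)).2 hd)

end Cfsg.Agent.S2496
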