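import Cfsg.Statements.S2503
import Cfsg.Agent.EqLemmas

set_option autoImplicit false
set_option linter.style.haveILetI false
set_option linter.unusedSimpArgs false
open Cfsg

namespace Cfsg.Agent.S2503

open Matrix

section
variable {F : Type*} [Field F] [CharP F 2] (d : F)

/-- Multiplication by `a + bω` on `F(ω)`, `ω² = ω + d`. -/
def M (a b : F) : Matrix (Fin 2) (Fin 2) F := !![a, b * d; b, a + b]

/-- The conjugation of `F(ω)`. -/
def σ : Matrix (Fin 2) (Fin 2) F := !![1, 1; 0, 1]

theorem two_eq : (2 : F) = 0 := CharP.cast_eq_zero F 2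

theorem M_mul (a b a' b' : F) :
    M d a b * M d a' b' = M d (a * a' + b * b' * d) (a * b' + b * a' + b * b') := by
  ext i j; fin_cases i <;> fin_cases j <;> simp [M, Matrix.mul_apply, Fin.sum_univ_two] <;> ring

theorem det_M (a b : F) : (M d a b).det = a * a + a * b + b * b * d := by
  rw [M, Matrix.det_fin_two_of]
  linear_combination (-(b * b * d)) * two_eq (F := F)

/-- The norm one elements. -/
def T : Subgroup (Matrix.SpecialLinearGroup (Fin 2) F) where
  carrier := {g | ∃ a b, (g : Matrix (Fin 2) (Fin 2) F) = M d a b}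
  one_mem' := ⟨1, 0, by ext i j; fin_cases i <;> fin_cases j <;> simp [M]⟩
  mul_mem' := by
    rintro g h ⟨a, b, hg⟩ ⟨a', b', hh⟩
    exact ⟨_, _, by rw [Matrix.SpecialLinearGroup.coe_mul, hg, hh, M_mul]⟩
  inv_mem' := by
    rintro g ⟨a, b, hg⟩
    refine ⟨a + b, b, ?_⟩
    rw [Matrix.SpecialLinearGroup.coe_inv, hg]
    ext i j; fin_cases i <;> fin_cases j <;> simp [M, Matrix.adjugate_fin_two, CharTwo.neg_eq, CharTwo.add_self_eq_zero, add_assoc]

/-- The upper unitriangular group. -/
def U : Subgroup (Matrix.SpecialLinearGroup (Fin 2) F) where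
  carrier := {g | ∃ t, (g : Matrix (Fin 2) (Fin 2) F) = !![1, t; 0, 1]}
  one_mem' := ⟨0, by ext i j; fin_cases i <;> fin_cases j <;> simp⟩
  mul_mem' := by
    rintro g h ⟨a, hg⟩ ⟨b, hh⟩
    refine ⟨a + b, ?_⟩
    rw [Matrix.SpecialLinearGroup.coe_mul, hg, hh]
    ext i j; fin_cases i <;> fin_cases j <;> simp [Matrix.mul_apply, Fin.sum_univ_two, add_comm]
  inv_mem' := by
    rintro g ⟨a, hg⟩
    refine ⟨-a, ?_⟩
    rw [Matrix.SpecialLinearGroup.coe_inv, hg]
    ext i j; fin_cases i <;> fin_cases j <;> simp [Matrix.adjugate_fin_two]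

theorem M_conj (a b : F) : σ * M d (a + b) b = M d a b * (σ : Matrix (Fin 2) (Fin 2) F) := by
  ext i j; fin_cases i <;> fin_cases j <;>
    simp [M, σ, Matrix.mul_apply, Fin.sum_univ_two, CharTwo.add_self_eq_zero, add_assoc, add_left_comm] <;>
    (have h2 := two_eq (F := F); grind)

theorem eq_one_of_sq [Finite F] {a : F} (h : a * a = 1) : a = 1 := by
  have : (a - 1) * (a - 1) = 0 := by linear_combination h - (a - 1) * two_eq (F := F)
  exact sub_eq_zero.1 (mul_self_eq_zero.1 this)

variable (hd : ∀ t : F, t * t + t + d ≠ 0)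
include hd

theorem norm_eq_zero {a b : F} (h : a * a + a * b + b * b * d = 0) : a = 0 ∧ b = 0 := by
  by_cases hb : b = 0
  · subst hb; simpa using h
  · exact absurd (by field_simp; linear_combination h) (hd (a / b))

theorem T_coe {g : T d} : ∃ a b, ((g : Matrix.SpecialLinearGroup (Fin 2) F) : Matrix (Fin 2) (Fin 2) F) = M d a b ∧
    a * a + a * b + b * b * d = 1 := by
  obtain ⟨a, b, h⟩ := g.2
  exact ⟨a, b, h, by rw [← det_M, ← h]; exact g.1.2⟩

theorem card_T [Finite F] : Nat.card (T d) = Nat.card F + 1 := by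
  classical
  let f : Option F → T d := fun o => match o with
    | none => 1
    | some t => ⟨⟨M d ((t * t + d) / (t * t + t + d)) (1 / (t * t + t + d)), by
        rw [det_M]; have := hd t
        rw [div_mul_div_comm, div_mul_div_comm, div_mul_div_comm, div_mul_eq_mul_div, ← add_div, ← add_div,
          div_eq_one_iff_eq (mul_ne_zero this this)]
        linear_combination (d - t * t * t - t * d) * two_eq (F := F)⟩, _, _, rfl⟩
  have hf : Function.Bijective f := by
    constructor
    · rintro (_ | t) (_ | u) h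
      · rfl
      · exfalso
        have h' := congrFun (congrFun (congrArg (fun x : T d => ((x : Matrix.SpecialLinearGroup (Fin 2) F) : Matrix (Fin 2) (Fin 2) F)) h) 1) 0
        simp [f, M, hd u] at h'
        exact hd u (by linear_combination -h')
      · exfalso
        have h' := congrFun (congrFun (congrArg (fun x : T d => ((x : Matrix.SpecialLinearGroup (Fin 2) F) : Matrix (Fin 2) (Fin 2) F)) h) 1) 0
        simp [f, M, hd t] at h'
      · have h' := congrArg (fun x : T d => ((x : Matrix.SpecialLinearGroup (Fin 2) F) : Matrix (Fin 2) (Fin 2) F)) h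
        have h0 := congrFun (congrFun h' 0) 0
        have h1 := congrFun (congrFun h' 1) 0
        simp [f, M] at h0 h1
        rw [h1] at h0
        rw [div_left_inj' (hd u), add_left_inj] at h0
        congr 1
        have h3 : (t - u) * (t - u) = 0 := by linear_combination h0 - u * (t - u) * two_eq (F := F)
        exact sub_eq_zero.1 (mul_self_eq_zero.1 h3)
    · intro g
      obtain ⟨a, b, hg, hn⟩ := T_coe d hd (g := g)
      by_cases hb : b = 0
      · subst hb
        obtain rfl := eq_one_of_sq (a := a) (by simpa using hn)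
        exact ⟨none, Subtype.ext (Subtype.ext (by rw [hg]; ext i j; fin_cases i <;> fin_cases j <;> simp [f, M]))⟩
      · refine ⟨some ((1 + a) / b), Subtype.ext (Subtype.ext ?_)⟩
        rw [hg]
        have hN : ((1 + a) / b) * ((1 + a) / b) + (1 + a) / b + d = 1 / b := by
          field_simp
          linear_combination hn + (1 + a) * two_eq (F := F)
        show M d _ _ = M d a b
        rw [hN, show (1 : F) / (1 / b) = b from one_div_one_div b]
        congr 1
        field_simp
        have h2 := two_eq (F := F)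
        grind
  rw [← Nat.card_eq_of_bijective f hf, Finite.card_option]

theorem isCyclic_T [Finite F] : IsCyclic (T d) := by
  classical
  obtain ⟨ω, hω⟩ := IsAlgClosed.exists_root (Polynomial.X ^ 2 + Polynomial.X + Polynomial.C (algebraMap F (AlgebraicClosure F) d))
    (by
      rw [show (Polynomial.X ^ 2 + Polynomial.X + Polynomial.C (algebraMap F (AlgebraicClosure F) d)) =
        Polynomial.C 1 * Polynomial.X ^ 2 + Polynomial.C 1 * Polynomial.X + Polynomial.C (algebraMap F (AlgebraicClosure F) d) by simp,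
        Polynomial.degree_quadratic one_ne_zero]
      decide)
  simp [Polynomial.IsRoot] at hω
  let ι := algebraMap F (AlgebraicClosure F)
  haveI : CharP (AlgebraicClosure F) 2 := charP_of_injective_algebraMap ι.injective 2
  let f : T d →* AlgebraicClosure F :=
    { toFun := fun g => ι ((g : Matrix.SpecialLinearGroup (Fin 2) F) 0 0) + ι ((g : Matrix.SpecialLinearGroup (Fin 2) F) 1 0) * ω
      map_one' := by simp
      map_mul' := fun g h => by
        obtain ⟨a, b, hg⟩ := g.2
        obtain ⟨a', b', hh⟩ := h.2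
        simp only [Subgroup.coe_mul, Matrix.SpecialLinearGroup.coe_mul, hg, hh, M_mul]
        simp [M, ι]
        linear_combination (-(ι b * ι b')) * hω + (ι b * ι b' * (ω + ι d)) * two_eq (F := AlgebraicClosure F) }
  refine isCyclic_of_subgroup_isDomain f fun g h hgh => ?_
  obtain ⟨a, b, hg⟩ := g.2
  obtain ⟨a', b', hh⟩ := h.2
  simp only [f, MonoidHom.coe_mk, OneHom.coe_mk, hg, hh] at hgh
  simp [M] at hgh
  by_cases hb : b = b'
  · subst hb
    obtain rfl : a = a' := ι.injective (by simpa using hgh)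
    exact Subtype.ext (Subtype.ext (hg.trans hh.symm))
  · exfalso
    have hne : ι b - ι b' ≠ 0 := sub_ne_zero.2 fun h => hb (ι.injective h)
    have hω' : ω = ι ((a' - a) / (b - b')) := by
      rw [map_div₀, map_sub, map_sub, eq_div_iff hne]
      linear_combination hgh
    refine hd ((a' - a) / (b - b')) (ι.injective ?_)
    rw [map_add, map_add, map_mul, map_zero, ← hω', ← sq]
    exact hω

theorem decompose [Finite F] (g : Matrix.SpecialLinearGroup (Fin 2) F) :
    ∃ l ∈ T d, ∃ u ∈ U (F := F), ∃ m ∈ T d, g = l * u * m := by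
  classical
  set p := g 0 0
  set r := g 0 1
  set s := g 1 0
  set v := g 1 1
  set a2 := r + s * d with ha2
  set a1 := p + a2 with ha1
  set b1 := v + p with hb1
  set b2 := s + b1 with hb2
  have hgM : (g : Matrix (Fin 2) (Fin 2) F) = M d a1 b1 + M d a2 b2 * σ := by
    ext i j; fin_cases i <;> fin_cases j <;> simp [M, σ, Matrix.mul_apply, Fin.sum_univ_two, ha1, hb1, hb2, ha2, p, r, s, v]
    all_goals (have h2 := two_eq (F := F); grind)
  have hnorm : a1 * a1 + a1 * b1 + b1 * b1 * d + (a2 * a2 + a2 * b2 + b2 * b2 * d) = 1 := by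
    have h := g.2
    rw [Matrix.det_fin_two] at h
    have h2 := two_eq (F := F)
    grind
  obtain ⟨w, hw⟩ := (Finite.injective_iff_surjective.1 (fun x y (h : x * x = y * y) => by
    have : (x - y) * (x - y) = 0 := by linear_combination h - y * (x - y) * two_eq (F := F)
    exact sub_eq_zero.1 (mul_self_eq_zero.1 this) : Function.Injective fun x : F => x * x))
    (a1 * a1 + a1 * b1 + b1 * b1 * d)
  simp only at hw
  set t := 1 + w with ht
  have hN2 : a2 * a2 + a2 * b2 + b2 * b2 * d = t * t := by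
    have h2 := two_eq (F := F)
    grind
  have hunit : ∀ (c a b : F), a * a + a * b + b * b * d = c * c →
      ∃ x ∈ T d, M d a b = c • (x : Matrix (Fin 2) (Fin 2) F) := by
    intro c a b h
    by_cases hc : c = 0
    · subst hc
      obtain ⟨rfl, rfl⟩ := norm_eq_zero d hd (by simpa using h)
      exact ⟨1, one_mem _, by ext i j; fin_cases i <;> fin_cases j <;> simp [M]⟩
    · refine ⟨⟨M d (a / c) (b / c), by rw [det_M]; field_simp; linear_combination h⟩, ⟨_, _, rfl⟩, ?_⟩
      show M d a b = c • M d (a / c) (b / c)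
      ext i j; fin_cases i <;> fin_cases j <;> simp [M, Matrix.smul_apply] <;> field_simp
  obtain ⟨X, hX, hX'⟩ := hunit w a1 b1 hw.symm
  obtain ⟨Y, hY, hY'⟩ := hunit t a2 b2 hN2
  obtain ⟨k, hk⟩ : ∃ k, Nat.card F + 1 = 2 * k + 1 := by
    haveI := Fintype.ofFinite F
    obtain ⟨n, -, hn⟩ := FiniteField.card F 2
    refine ⟨2 ^ ((n : ℕ) - 1), ?_⟩
    rw [Nat.card_eq_fintype_card, hn, ← pow_succ', Nat.sub_add_cancel n.pos]
  set L : T d := (⟨X, hX⟩ * ⟨Y, hY⟩) ^ (k + 1) with hL
  have hL2 : L * L = ⟨X, hX⟩ * ⟨Y, hY⟩ := by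
    rw [hL, ← pow_add, show k + 1 + (k + 1) = (2 * k + 1) + 1 by omega, pow_succ, ← hk, ← card_T d hd,
      pow_card_eq_one', one_mul]
  set R : T d := L⁻¹ * ⟨X, hX⟩ with hR
  let u : Matrix.SpecialLinearGroup (Fin 2) F := ⟨!![1, t; 0, 1], by simp⟩
  refine ⟨L, L.2, u, ⟨t, rfl⟩, R, R.2, ?_⟩
  apply Subtype.ext
  have hu : (u : Matrix (Fin 2) (Fin 2) F) = w • 1 + t • σ := by
    ext i j; fin_cases i <;> fin_cases j <;> simp [u, σ, ht] <;> linear_combination -w * two_eq (F := F)
  rw [Matrix.SpecialLinearGroup.coe_mul, Matrix.SpecialLinearGroup.coe_mul, hu, hgM, hX', hY']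
  have h1 : L * R = ⟨X, hX⟩ := by rw [hR, mul_inv_cancel_left]
  haveI := isCyclic_T d hd
  have h2 : L * R⁻¹ = ⟨Y, hY⟩ := by
    rw [hR, _root_.mul_inv_rev, inv_inv, IsCyclic.commGroup.mul_comm (⟨X, hX⟩ : T d)⁻¹ L, ← mul_assoc, hL2,
      IsCyclic.commGroup.mul_comm (⟨X, hX⟩ : T d) ⟨Y, hY⟩, mul_inv_cancel_right]
  obtain ⟨a, b, hRm⟩ := R.2
  have hsig : σ * ((R : Matrix.SpecialLinearGroup (Fin 2) F) : Matrix (Fin 2) (Fin 2) F) =
      ((R⁻¹ : T d) : Matrix.SpecialLinearGroup (Fin 2) F).1 * σ := by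
    have h3 : ((R⁻¹ : T d) : Matrix.SpecialLinearGroup (Fin 2) F).1 = M d (a + b) b := by
      rw [Subgroup.coe_inv, Matrix.SpecialLinearGroup.coe_inv, hRm]
      ext i j; fin_cases i <;> fin_cases j <;>
        simp [M, Matrix.adjugate_fin_two, CharTwo.neg_eq, CharTwo.add_self_eq_zero, add_assoc]
    rw [h3, hRm, ← M_conj d (a + b) b]
    congr 2; linear_combination -b * two_eq (F := F)
  rw [mul_add, add_mul, mul_smul_comm, mul_smul_comm, smul_mul_assoc, smul_mul_assoc, mul_one, smul_mul_assoc, mul_assoc _ σ,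
    hsig, ← mul_assoc]
  have h1' := congrArg (fun x : T d => ((x : Matrix.SpecialLinearGroup (Fin 2) F) : Matrix (Fin 2) (Fin 2) F)) h1
  have h2' := congrArg (fun x : T d => ((x : Matrix.SpecialLinearGroup (Fin 2) F) : Matrix (Fin 2) (Fin 2) F)) h2
  simp only [Subgroup.coe_mul, Matrix.SpecialLinearGroup.coe_mul] at h1' h2'
  rw [h1', h2']

end


/-- Let F be a finite field with q = 2^t ≥ 4 elements and L = PSL(2,F). Then L has a cyclic subgroup A of order q + 1 and an elementary abelian 2-subgroup B of order q such that L = ABA: every element of L is a product a·b·a' with a, a' ∈ A and b ∈ B. -/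
theorem result {F : Type*} [Field F] [Fintype F]
    (h2 : 2 ∣ Fintype.card F) (h4 : 4 ≤ Fintype.card F) :
    ∃ A B : Subgroup (Matrix.ProjectiveSpecialLinearGroup (Fin 2) F),
      IsCyclic A ∧ Nat.card A = Fintype.card F + 1 ∧ IsMulCommutative B ∧ (∀ b ∈ B, b * b = 1) ∧
        Nat.card B = Fintype.card F ∧
        ∀ g : Matrix.ProjectiveSpecialLinearGroup (Fin 2) F, ∃ a ∈ A, ∃ b ∈ B, ∃ c ∈ A, g = a * b * c := by
  classical
  haveI : CharP F 2 := by
    refine CharP.charP_iff_prime_eq_zero Nat.prime_two |>.2 ?_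
    obtain ⟨p, hp⟩ := CharP.exists F
    obtain ⟨n, hpp, hn⟩ := FiniteField.card F p
    have : (2 : ℕ) = p := (Nat.prime_dvd_prime_iff_eq Nat.prime_two hpp).1 (Nat.prime_two.dvd_of_dvd_pow (hn ▸ h2))
    rw [this, CharP.cast_eq_zero]
  obtain ⟨d, hd⟩ : ∃ d : F, ∀ t : F, t * t + t + d ≠ 0 := by
    have hns : ¬ Function.Surjective fun t : F => t * t + t := fun h => by
      have := Finite.injective_iff_surjective.2 h (a₁ := (0 : F)) (a₂ := 1)
        (by show (0:F) * 0 + 0 = 1 * 1 + 1; linear_combination -two_eq (F := F))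
      exact zero_ne_one this
    simp only [Function.Surjective, not_forall, not_exists] at hns
    obtain ⟨d, hd⟩ := hns
    exact ⟨d, fun t h => hd t (by linear_combination h - d * two_eq (F := F))⟩
  let π := QuotientGroup.mk' (Subgroup.center (Matrix.SpecialLinearGroup (Fin 2) F))
  have hinj : Function.Injective π := by
    refine (MonoidHom.ker_eq_bot_iff π).1 ?_
    rw [QuotientGroup.ker_mk']
    refine (Subgroup.eq_bot_iff_forall _).2 fun A hA => ?_
    obtain ⟨r, hr, hrA⟩ := Matrix.SpecialLinearGroup.mem_center_iff.1 hA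
    apply Subtype.ext
    rw [← hrA, eq_one_of_sq (a := r) (by rwa [Fintype.card_fin, sq] at hr)]
    simp
  have e := fun S : Subgroup (Matrix.SpecialLinearGroup (Fin 2) F) => S.equivMapOfInjective π hinj
  refine ⟨(T d).map π, (U (F := F)).map π, ?_, ?_, ?_, ?_, ?_, ?_⟩
  · haveI := isCyclic_T d hd
    exact isCyclic_of_surjective _ (e (T d)).surjective
  · rw [← Nat.card_congr (e (T d)).toEquiv, card_T d hd, Nat.card_eq_fintype_card]
  · refine IsMulCommutative.of_comm ?_
    rintro ⟨_, g, ⟨a, hg⟩, rfl⟩ ⟨_, h, ⟨b, hh⟩, rfl⟩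
    apply Subtype.ext
    show π g * π h = π h * π g
    rw [← map_mul, ← map_mul]
    congr 1
    apply Subtype.ext
    rw [Matrix.SpecialLinearGroup.coe_mul, Matrix.SpecialLinearGroup.coe_mul, hg, hh]
    ext i j; fin_cases i <;> fin_cases j <;> simp [Matrix.mul_apply, Fin.sum_univ_two, add_comm]
  · rintro _ ⟨g, ⟨a, hg⟩, rfl⟩
    rw [← map_mul, ← map_one π]
    congr 1
    apply Subtype.ext
    rw [Matrix.SpecialLinearGroup.coe_mul, hg]
    ext i j; fin_cases i <;> fin_cases j <;> simp [Matrix.mul_apply, Fin.sum_univ_two, CharTwo.add_self_eq_zero]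
  · rw [← Nat.card_congr (e (U (F := F))).toEquiv, ← Nat.card_eq_fintype_card]
    refine (Nat.card_eq_of_bijective (fun t : F => (⟨⟨!![1, t; 0, 1], by simp⟩, t, rfl⟩ : U (F := F))) ⟨?_, ?_⟩).symm
    · intro a b h
      simpa using congrFun (congrFun (congrArg (fun x : U (F := F) => ((x : Matrix.SpecialLinearGroup (Fin 2) F) : Matrix (Fin 2) (Fin 2) F)) h) 0) 1
    · rintro ⟨g, t, hg⟩
      exact ⟨t, Subtype.ext (Subtype.ext hg.symm)⟩
  · intro x
    obtain ⟨g, rfl⟩ := QuotientGroup.mk'_surjective _ x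
    obtain ⟨l, hl, u, hu, m, hm, rfl⟩ := decompose d hd g
    exact ⟨_, Subgroup.mem_map_of_mem π hl, _, Subgroup.mem_map_of_mem π hu, _, Subgroup.mem_map_of_mem π hm,
      by rw [← map_mul, ← map_mul]⟩

end Cfsg.Agent.S2503
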