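import Cfsg.Statements.S2504
import Cfsg.Agent.EqLemmas
import Cfsg.Agent.Lib.SymAbelian.MaxAbelian
import Cfsg.Agent.Lib.SymAbelian.Build

set_option autoImplicit false
set_option linter.style.haveILetI false
set_option linter.unusedSimpArgs false
open Cfsg

namespace Cfsg.Agent.S2504

/-- The largest order of an abelian subgroup of the alternating group of degree n is 3^k when n = 3k, 4·3^(k−1) when n = 3k + 1, and 16·3^(k−2) when n = 3k + 2, for every k ≥ 2 (so for all degrees n ≥ 6). -/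
theorem result (k : ℕ) (hk : 2 ≤ k) :
    IsGreatest {c : ℕ | ∃ A : Subgroup (alternatingGroup (Fin (3 * k))), IsMulCommutative A ∧ Nat.card A = c} (3 ^ k) ∧
    IsGreatest {c : ℕ | ∃ A : Subgroup (alternatingGroup (Fin (3 * k + 1))), IsMulCommutative A ∧ Nat.card A = c}
      (4 * 3 ^ (k - 1)) ∧
    IsGreatest {c : ℕ | ∃ A : Subgroup (alternatingGroup (Fin (3 * k + 2))), IsMulCommutative A ∧ Nat.card A = c}
      (16 * 3 ^ (k - 2)) := by
  have hmax : ∀ n, 3 ≤ n → n ≠ 5 →
      ∀ A : Subgroup (alternatingGroup (Fin n)), IsMulCommutative A → Nat.card A ≤ SymAbelian.eMax n := by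
    intro n h3 h5 A hA
    have hA' : IsMulCommutative (A.map (alternatingGroup (Fin n)).subtype) := inferInstance
    have hev : ∀ a ∈ A.map (alternatingGroup (Fin n)).subtype, Equiv.Perm.sign a = 1 := by
      rintro _ ⟨x, -, rfl⟩; exact Equiv.Perm.mem_alternatingGroup.mp x.2
    have h := (SymAbelian.card_le_eMax hA' hev (by simpa using h3) (by simpa using h5)).1
    rwa [Nat.card_congr (A.equivMapOfInjective _ (Subgroup.subtype_injective _)).toEquiv.symm, Fintype.card_fin] at h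
  have hex : ∀ n a b, n = 3 * a + 4 * b →
      ∃ A : Subgroup (alternatingGroup (Fin n)), IsMulCommutative A ∧ Nat.card A = 3 ^ a * 4 ^ b := by
    intro n a b h
    obtain ⟨A, hA, hc, hs⟩ := SymAbelian.exists_threes_fours_group (α := Fin n) a b (by simpa using h)
    have hle : A ≤ alternatingGroup (Fin n) := fun x hx => Equiv.Perm.mem_alternatingGroup.mpr (hs x hx)
    refine ⟨A.subgroupOf (alternatingGroup (Fin n)), ?_, ?_⟩
    · haveI := hA; infer_instance
    · rw [Nat.card_congr (Subgroup.subgroupOfEquivOfLe hle).toEquiv, hc]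
  refine ⟨⟨?_, ?_⟩, ⟨?_, ?_⟩, ⟨?_, ?_⟩⟩
  · obtain ⟨A, hA, hc⟩ := hex (3 * k) k 0 (by omega)
    exact ⟨A, hA, by simpa using hc⟩
  · rintro c ⟨A, hA, rfl⟩
    exact (hmax _ (by omega) (by omega) A hA).trans (le_of_eq (SymAbelian.eMax_three_mul k))
  · obtain ⟨A, hA, hc⟩ := hex (3 * k + 1) (k - 1) 1 (by omega)
    exact ⟨A, hA, by rw [hc]; ring⟩
  · rintro c ⟨A, hA, rfl⟩
    refine (hmax _ (by omega) (by omega) A hA).trans (le_of_eq ?_)
    rw [show 3 * k + 1 = 3 * (k - 1) + 4 from by omega, SymAbelian.eMax_three_mul_add_four]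
  · obtain ⟨A, hA, hc⟩ := hex (3 * k + 2) (k - 2) 2 (by omega)
    exact ⟨A, hA, by rw [hc]; ring⟩
  · rintro c ⟨A, hA, rfl⟩
    refine (hmax _ (by omega) (by omega) A hA).trans (le_of_eq ?_)
    rw [show 3 * k + 2 = 3 * (k - 2) + 8 from by omega, SymAbelian.eMax_three_mul_add_eight]

end Cfsg.Agent.S2504
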