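import Cfsg.Statements.S2505
import Cfsg.Agent.EqLemmas
import Cfsg.Agent.Lib.SymAbelian.MaxAbelian
import Cfsg.Agent.Lib.SymAbelian.Build

set_option autoImplicit false
set_option linter.style.haveILetI false
set_option linter.unusedSimpArgs false
open Cfsg

namespace Cfsg.Agent.S2505

/-- The largest order of an abelian subgroup of the symmetric group of degree n is 3^k when n = 3k, 4·3^(k−1) when n = 3k + 1, and 2·3^k when n = 3k + 2, for every k ≥ 1. -/
theorem result (k : ℕ) (hk : 1 ≤ k) :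
    IsGreatest {c : ℕ | ∃ A : Subgroup (Equiv.Perm (Fin (3 * k))), IsMulCommutative A ∧ Nat.card A = c} (3 ^ k) ∧
    IsGreatest {c : ℕ | ∃ A : Subgroup (Equiv.Perm (Fin (3 * k + 1))), IsMulCommutative A ∧ Nat.card A = c}
      (4 * 3 ^ (k - 1)) ∧
    IsGreatest {c : ℕ | ∃ A : Subgroup (Equiv.Perm (Fin (3 * k + 2))), IsMulCommutative A ∧ Nat.card A = c}
      (2 * 3 ^ k) := by
  refine ⟨⟨?_, ?_⟩, ⟨?_, ?_⟩, ⟨?_, ?_⟩⟩
  · obtain ⟨A, hA, hc, -⟩ := SymAbelian.exists_threes_fours_group (α := Fin (3 * k)) k 0 (by simp)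
    exact ⟨A, hA, by simpa using hc⟩
  · rintro c ⟨A, hA, rfl⟩
    exact (SymAbelian.card_le_fMax hA).trans (by rw [Fintype.card_fin, SymAbelian.fMax_three_mul])
  · obtain ⟨A, hA, hc, -⟩ := SymAbelian.exists_threes_fours_group (α := Fin (3 * k + 1)) (k - 1) 1
      (by simp; omega)
    exact ⟨A, hA, by rw [hc]; ring⟩
  · rintro c ⟨A, hA, rfl⟩
    refine (SymAbelian.card_le_fMax hA).trans (le_of_eq ?_)
    rw [Fintype.card_fin, show 3 * k + 1 = 3 * (k - 1) + 4 from by omega, SymAbelian.fMax_three_mul_add_four]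
  · obtain ⟨A, hA, hc⟩ := SymAbelian.exists_threes_two_group (α := Fin (3 * k + 2)) k (by simp)
    exact ⟨A, hA, hc⟩
  · rintro c ⟨A, hA, rfl⟩
    exact (SymAbelian.card_le_fMax hA).trans (by rw [Fintype.card_fin, SymAbelian.fMax_three_mul_add_two])

end Cfsg.Agent.S2505
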