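import Cfsg.Statements.S2506
import Cfsg.Agent.EqLemmas
import Cfsg.Agent.Lib.SymAbelian.Unique
import Cfsg.Agent.Lib.SymAbelian.Build

set_option autoImplicit false
set_option linter.style.haveILetI false
set_option linter.unusedSimpArgs false
open scoped Pointwise
open Cfsg

namespace Cfsg.Agent.S2506

/-- In the alternating group of any degree, any two abelian subgroups of the largest possible order (among abelian subgroups) are conjugate. -/
theorem result (n : ℕ)
    (A B : Subgroup (alternatingGroup (Fin n))) (hA : IsMulCommutative A) (hB : IsMulCommutative B)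
    (hAmax : ∀ C : Subgroup (alternatingGroup (Fin n)), IsMulCommutative C → Nat.card C ≤ Nat.card A)
    (hBmax : ∀ C : Subgroup (alternatingGroup (Fin n)), IsMulCommutative C → Nat.card C ≤ Nat.card B) :
    ∃ g : alternatingGroup (Fin n), B = MulAut.conj g • A := by
  classical
  haveI := hA
  haveI := hB
  by_cases h2 : n ≤ 2
  · have hs : Subsingleton (alternatingGroup (Fin n)) := by
      refine ⟨fun x y => ?_⟩
      interval_cases n <;> revert x y <;> decide
    exact ⟨1, by ext x; simp [Subsingleton.elim x 1]⟩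
  push Not at h2
  have h3 : 3 ≤ Fintype.card (Fin n) := by rw [Fintype.card_fin]; omega
  let ι : alternatingGroup (Fin n) →* Equiv.Perm (Fin n) := (alternatingGroup (Fin n)).subtype
  have hι : Function.Injective ι := Subgroup.subtype_injective _
  have hcard : ∀ C : Subgroup (alternatingGroup (Fin n)), Nat.card (C.map ι) = Nat.card C := fun C =>
    Nat.card_congr (C.equivMapOfInjective ι hι).toEquiv.symm
  have hev : ∀ C : Subgroup (alternatingGroup (Fin n)), ∀ s ∈ C.map ι, Equiv.Perm.sign s = 1 := by
    rintro C _ ⟨x, -, rfl⟩; exact Equiv.Perm.mem_alternatingGroup.mp x.2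
  by_cases h5 : n = 5
  · subst h5
    have hle : ∀ C : Subgroup (alternatingGroup (Fin 5)), IsMulCommutative C → Nat.card C ≤ 5 := by
      intro C hC
      haveI := hC
      rw [← hcard C]
      exact SymAbelian.card_le_five inferInstance (hev C) (by simp)
    have h60 : Nat.card (alternatingGroup (Fin 5)) = 60 := by
      rw [nat_card_alternatingGroup, Nat.card_eq_fintype_card, Fintype.card_fin]; rfl
    haveI : Fact (Nat.Prime 5) := ⟨by norm_num⟩
    have hfac : (Nat.card (alternatingGroup (Fin 5))).factorization 5 = 1 := by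
      rw [h60, show (60 : ℕ) = 5 * 12 from rfl, Nat.factorization_mul (by norm_num) (by norm_num),
        Finsupp.add_apply, Nat.Prime.factorization_self (by norm_num),
        Nat.factorization_eq_zero_of_not_dvd (by norm_num)]
    have hex : ∃ C : Subgroup (alternatingGroup (Fin 5)), IsMulCommutative C ∧ Nat.card C = 5 := by
      obtain ⟨x, hx⟩ := exists_prime_orderOf_dvd_card' (G := alternatingGroup (Fin 5)) 5 (by rw [h60]; norm_num)
      exact ⟨Subgroup.zpowers x, inferInstance, by rw [Nat.card_zpowers, hx]⟩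
    obtain ⟨C, hC, hC5⟩ := hex
    have hA5 : Nat.card A = 5 := le_antisymm (hle A hA) (hC5.ge.trans (hAmax C hC))
    have hB5 : Nat.card B = 5 := le_antisymm (hle B hB) (hC5.ge.trans (hBmax C hC))
    let P : Sylow 5 (alternatingGroup (Fin 5)) := Sylow.ofCard A (by rw [hA5, hfac, pow_one])
    let Q : Sylow 5 (alternatingGroup (Fin 5)) := Sylow.ofCard B (by rw [hB5, hfac, pow_one])
    obtain ⟨g, hg⟩ := MulAction.exists_smul_eq (alternatingGroup (Fin 5)) P Q
    exact ⟨g, (congrArg Sylow.toSubgroup hg).symm⟩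
  have h5' : Fintype.card (Fin n) ≠ 5 := by simpa using h5
  obtain ⟨a, b, hab⟩ : ∃ a b, n = 3 * a + 4 * b ∧ SymAbelian.eMax n = 3 ^ a * 4 ^ b :=
    ⟨(n - 4 * (n % 3)) / 3, n % 3, by omega, rfl⟩
  obtain ⟨C, hC, hCc, hCs⟩ := SymAbelian.exists_threes_fours_group (α := Fin n) a b (by simpa using hab.1)
  let C' : Subgroup (alternatingGroup (Fin n)) := C.subgroupOf (alternatingGroup (Fin n))
  have hC' : IsMulCommutative C' := by haveI := hC; infer_instance
  have hC'c : Nat.card C' = SymAbelian.eMax n := by
    rw [Nat.card_congr (Subgroup.subgroupOfEquivOfLe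
      (fun x hx => Equiv.Perm.mem_alternatingGroup.mpr (hCs x hx))).toEquiv, hCc, hab.2]
  have heq : ∀ D : Subgroup (alternatingGroup (Fin n)), IsMulCommutative D →
      (∀ E : Subgroup (alternatingGroup (Fin n)), IsMulCommutative E → Nat.card E ≤ Nat.card D) →
      Nat.card (D.map ι) = SymAbelian.eMax (Fintype.card (Fin n)) := by
    intro D hD hmax
    haveI := hD
    refine le_antisymm (SymAbelian.card_le_eMax inferInstance (hev D) h3 h5').1 ?_
    rw [hcard, Fintype.card_fin, ← hC'c]
    exact hmax C' hC'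
  obtain ⟨g, hgs, hg⟩ := SymAbelian.exists_conj_of_eMax (A := A.map ι) (B := B.map ι) inferInstance inferInstance
    (hev A) (hev B) h3 h5' (heq A hA hAmax) (heq B hB hBmax)
  let g' : alternatingGroup (Fin n) := ⟨g, Equiv.Perm.mem_alternatingGroup.mpr hgs⟩
  refine ⟨g', Subgroup.map_injective hι ?_⟩
  rw [← hg, Subgroup.map_map, Subgroup.pointwise_smul_def]
  ext y
  simp only [Subgroup.mem_map]
  constructor
  · rintro ⟨x, hx, rfl⟩
    exact ⟨_, ⟨x, hx, rfl⟩, rfl⟩
  · rintro ⟨_, ⟨x, hx, rfl⟩, rfl⟩
    exact ⟨x, hx, rfl⟩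

end Cfsg.Agent.S2506
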