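import Cfsg.Statements.S2509
import Cfsg.Agent.EqLemmas
import Cfsg.Agent.Lib.PronSymp.Main

set_option autoImplicit false
open Cfsg

namespace Cfsg.Agent.S2509

/-- Let G be a finite direct product of groups PSp_{2m_i}(F_i) (the symplectic group on a 2m_i-dimensional space modulo its centre), where each m_i is a power of 2 (m_i = 1, giving PSL₂, is allowed), each F_i is a finite field of odd order, and each factor PSp_{2m_i}(F_i) is a simple group. Then every subgroup H of G of odd index is pronormal in G: for every g ∈ G the subgroups H and gHg⁻¹ are conjugate by an element of the subgroup they generate. -/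
theorem result {t : ℕ}
    (m : Fin t → ℕ) (F : Fin t → Type*) [∀ i, Field (F i)] [∀ i, Fintype (F i)]
    (hm : ∀ i, ∃ k : ℕ, m i = 2 ^ k) (hodd : ∀ i, Odd (Fintype.card (F i)))
    (hs : ∀ i, IsSimpleGroup (Cfsg.PSp (m i) (F i)))
    (H : Subgroup (Π i, Cfsg.PSp (m i) (F i))) (hH : Odd H.index) : Cfsg.IsPronormal H := by
  haveI : Fact (Nat.Prime 2) := ⟨Nat.prime_two⟩
  have h := PronSymp.allPron_pi_Sp m F hm fun i => by rw [Nat.card_eq_fintype_card]; exact hodd i
  exact PronormalOdd.pron_of_surjective (f := Pi.monoidHom fun i =>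
      (QuotientGroup.mk' (Subgroup.center (Matrix.symplecticGroup (Fin (m i)) (F i)))).comp
        (Pi.evalMonoidHom (fun i => ↥(Matrix.symplecticGroup (Fin (m i)) (F i))) i))
    (fun y => ⟨fun i => (y i).out, funext fun i => Quotient.out_eq (y i)⟩) h H
    (fun h2 => Nat.not_even_iff_odd.mpr hH (even_iff_two_dvd.mpr h2))

end Cfsg.Agent.S2509
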