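import Cfsg.Statements.S2510
import Cfsg.Agent.Lib.LinSpec.Primary

set_option autoImplicit false
set_option linter.style.haveILetI false
set_option linter.unusedSimpArgs false
open Cfsg

namespace Cfsg.Agent.S2510

open LinSpec Polynomial

/-- Some element order is a multiple of `orderOf a` and of `r`. -/
def Up {G : Type*} [Group G] (r : ℕ) (a : G) : Prop := ∃ a' : G, orderOf a ∣ orderOf a' ∧ r ∣ orderOf a'

theorem up_of_commute {G : Type*} [Group G] {r : ℕ} (hr : r.Prime) {a h : G} (hc : Commute a h)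
    (hh : orderOf h = r) : Up r a := by
  by_cases hd : r ∣ orderOf a
  · exact ⟨a, dvd_rfl, hd⟩
  · refine ⟨a * h, ?_⟩
    rw [hc.orderOf_mul_eq_mul_orderOf_of_coprime (by rw [hh]; exact ((hr.coprime_iff_not_dvd).2 hd).symm), hh]
    exact ⟨dvd_mul_right _ _, dvd_mul_left _ _⟩

theorem range_eq_three {G E : Type*} [Group G] [Finite G] [Group E] [Finite E] {r : ℕ}
    (hE : ∀ x : E, x ^ r = 1) {s u z : G} (hz : orderOf z = r) (hco : Nat.Coprime (orderOf s) (orderOf u))
    (hdich : ∀ a : G, Up r a ∨ orderOf a ∣ orderOf s * orderOf u) :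
    Set.range (orderOf : G × G × G × E → ℕ) = Set.range (orderOf : G × G × G → ℕ) := by
  ext N
  constructor
  · rintro ⟨⟨a, b, c, e⟩, rfl⟩
    obtain ⟨⟨a', b', c'⟩, ha, hb, hc, hr'⟩ : ∃ y : G × G × G, orderOf a ∣ orderOf y ∧ orderOf b ∣ orderOf y ∧
        orderOf c ∣ orderOf y ∧ r ∣ orderOf y := by
      have p1 : ∀ y : G × G × G, orderOf y.1 ∣ orderOf y ∧ orderOf y.2.1 ∣ orderOf y ∧ orderOf y.2.2 ∣ orderOf y :=
        fun y => ⟨orderOf_map_dvd (MonoidHom.fst G (G × G)) y,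
          orderOf_map_dvd ((MonoidHom.fst G G).comp (MonoidHom.snd G (G × G))) y,
          orderOf_map_dvd ((MonoidHom.snd G G).comp (MonoidHom.snd G (G × G))) y⟩
      rcases hdich a with ⟨a', h1, h2⟩ | ha
      · obtain ⟨q1, q2, q3⟩ := p1 (a', b, c)
        exact ⟨(a', b, c), h1.trans q1, q2, q3, h2.trans q1⟩
      rcases hdich b with ⟨b', h1, h2⟩ | hb
      · obtain ⟨q1, q2, q3⟩ := p1 (a, b', c)
        exact ⟨(a, b', c), q1, h1.trans q2, q3, h2.trans q2⟩
      rcases hdich c with ⟨c', h1, h2⟩ | hc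
      · obtain ⟨q1, q2, q3⟩ := p1 (a, b, c')
        exact ⟨(a, b, c'), q1, q2, h1.trans q3, h2.trans q3⟩
      obtain ⟨q1, q2, q3⟩ := p1 (s, u, z)
      have hsu : orderOf s * orderOf u ∣ orderOf (s, u, z) := hco.mul_dvd_of_dvd_of_dvd q1 q2
      exact ⟨(s, u, z), ha.trans hsu, hb.trans hsu, hc.trans hsu, hz ▸ q3⟩
    refine exists_orderOf_eq_of_dvd (y := (a', b', c')) (orderOf_dvd_iff_pow_eq_one.2 ?_)
    refine Prod.ext (orderOf_dvd_iff_pow_eq_one.1 ha) (Prod.ext (orderOf_dvd_iff_pow_eq_one.1 hb)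
      (Prod.ext (orderOf_dvd_iff_pow_eq_one.1 hc) ?_))
    obtain ⟨t, ht⟩ := hr'
    show e ^ _ = 1
    rw [ht, pow_mul, hE, one_pow]
  · rintro ⟨⟨a, b, c⟩, rfl⟩
    refine ⟨(a, b, c, 1), ?_⟩
    exact orderOf_injective ((MonoidHom.id G).prodMap ((MonoidHom.id G).prodMap (MonoidHom.inl G E))) (by
      rintro ⟨a, b, c⟩ ⟨a', b', c'⟩ h
      simpa using h) (a, b, c)

theorem range_eq_two {G E : Type*} [Group G] [Finite G] [Group E] [Finite E] {r : ℕ}
    (hE : ∀ x : E, x ^ r = 1) {s u : G} {P : ℕ} (hu : P ∣ orderOf u) (hur : r ∣ orderOf u)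
    (hco : Nat.Coprime (orderOf s) P)
    (hdich : ∀ a : G, Up r a ∨ orderOf a ∣ orderOf s * P) :
    Set.range (orderOf : G × G × E → ℕ) = Set.range (orderOf : G × G → ℕ) := by
  ext N
  constructor
  · rintro ⟨⟨a, b, e⟩, rfl⟩
    obtain ⟨⟨a', b'⟩, ha, hb, hr'⟩ : ∃ y : G × G, orderOf a ∣ orderOf y ∧ orderOf b ∣ orderOf y ∧ r ∣ orderOf y := by
      have p1 : ∀ y : G × G, orderOf y.1 ∣ orderOf y ∧ orderOf y.2 ∣ orderOf y :=
        fun y => ⟨orderOf_map_dvd (MonoidHom.fst G G) y, orderOf_map_dvd (MonoidHom.snd G G) y⟩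
      rcases hdich a with ⟨a', h1, h2⟩ | ha
      · obtain ⟨q1, q2⟩ := p1 (a', b)
        exact ⟨(a', b), h1.trans q1, q2, h2.trans q1⟩
      rcases hdich b with ⟨b', h1, h2⟩ | hb
      · obtain ⟨q1, q2⟩ := p1 (a, b')
        exact ⟨(a, b'), q1, h1.trans q2, h2.trans q2⟩
      obtain ⟨q1, q2⟩ := p1 (s, u)
      have hsu : orderOf s * P ∣ orderOf (s, u) := hco.mul_dvd_of_dvd_of_dvd q1 (hu.trans q2)
      exact ⟨(s, u), ha.trans hsu, hb.trans hsu, hur.trans q2⟩
    refine exists_orderOf_eq_of_dvd (y := (a', b')) (orderOf_dvd_iff_pow_eq_one.2 ?_)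
    refine Prod.ext (orderOf_dvd_iff_pow_eq_one.1 ha) (Prod.ext (orderOf_dvd_iff_pow_eq_one.1 hb) ?_)
    obtain ⟨t, ht⟩ := hr'
    show e ^ _ = 1
    rw [ht, pow_mul, hE, one_pow]
  · rintro ⟨⟨a, b⟩, rfl⟩
    refine ⟨(a, b, 1), ?_⟩
    exact orderOf_injective ((MonoidHom.id G).prodMap (MonoidHom.inl G E)) (by
      rintro ⟨a, b⟩ ⟨a', b'⟩ h
      simpa using h) (a, b)

section
variable {F : Type*} [Field F] {n : ℕ}

/-- The projection onto `PSL`. -/
abbrev π (F : Type*) [Field F] (n : ℕ) :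
    Matrix.SpecialLinearGroup (Fin n) F →* Matrix.ProjectiveSpecialLinearGroup (Fin n) F :=
  QuotientGroup.mk' _

theorem π_eq_one (g : Matrix.SpecialLinearGroup (Fin n) F) :
    π F n g = 1 ↔ ∃ c : F, (g : Matrix (Fin n) (Fin n) F) = c • 1 := by
  rw [QuotientGroup.mk'_apply, QuotientGroup.eq_one_iff, Matrix.SpecialLinearGroup.mem_center_iff]
  constructor
  · rintro ⟨c, -, hc⟩
    exact ⟨c, by rw [← hc, Matrix.smul_one_eq_diagonal]; rfl⟩
  · rintro ⟨c, hc⟩
    refine ⟨c, ?_, by rw [hc, Matrix.smul_one_eq_diagonal]; rfl⟩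
    have h := g.2
    rw [hc, Matrix.det_smul, Matrix.det_one, mul_one] at h
    exact h

theorem orderOf_π_eq_prime {r : ℕ} (hr : r.Prime) {w : Matrix.SpecialLinearGroup (Fin n) F}
    (h1 : (w : Matrix (Fin n) (Fin n) F) ^ r = 1) (h2 : ∀ c : F, (w : Matrix (Fin n) (Fin n) F) ≠ c • 1) :
    orderOf (π F n w) = r := by
  haveI := Fact.mk hr
  refine orderOf_eq_prime ?_ (fun h => ?_)
  · rw [← map_pow, show w ^ r = 1 from Subtype.ext (by simpa using h1), map_one]
  · obtain ⟨c, hc⟩ := (π_eq_one w).1 h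
    exact h2 c hc

/-- The Jordan element: order `p ^ (e + 1)` in `PSL`. -/
theorem exists_unipotent {p e : ℕ} [Fact p.Prime] [CharP F p] (hn : 0 < n) {m : ℕ} (hmn : m ≤ n)
    (h1 : p ^ e < m) (h2 : m ≤ p ^ (e + 1)) :
    ∃ g : Matrix.SpecialLinearGroup (Fin n) F, (g : Matrix (Fin n) (Fin n) F) = 1 + shift F n m ∧
      orderOf (π F n g) = p ^ (e + 1) := by
  haveI : Nonempty (Fin n) := ⟨⟨0, hn⟩⟩
  set N := shift F n m with hN
  have hpow : ∀ i, (1 + N) ^ p ^ i = 1 + N ^ p ^ i := fun i => by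
    rw [add_pow_char_pow_of_commute (p := p) (n := i) (Commute.one_left N), one_pow]
  have hzero : N ^ p ^ (e + 1) = 0 := by
    obtain ⟨j, hj⟩ := Nat.exists_eq_succ_of_ne_zero (pow_pos (Fact.out : p.Prime).pos (e + 1)).ne'
    rw [hj, hN, shift_pow hmn]
    ext i l
    simp only [Matrix.of_apply, Matrix.zero_apply]
    exact if_neg (by omega)
  have hone : (1 + N) ^ p ^ (e + 1) = 1 := by rw [hpow, hzero, add_zero]
  have hdet : (1 + N).det = 1 := by
    have h := congrArg Matrix.det hone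
    rw [Matrix.det_pow, Matrix.det_one] at h
    have h' : ((1 + N).det - 1) ^ p ^ (e + 1) = 0 := by
      rw [sub_pow_char_pow, h, one_pow, sub_self]
    exact sub_eq_zero.1 (eq_zero_of_pow_eq_zero h')
  let g : Matrix.SpecialLinearGroup (Fin n) F := ⟨1 + N, hdet⟩
  refine ⟨g, rfl, ?_⟩
  refine orderOf_eq_prime_pow (fun h => ?_) ?_
  · rw [← map_pow (π F n), π_eq_one] at h
    obtain ⟨c, hc⟩ := h
    rw [Matrix.SpecialLinearGroup.coe_pow] at hc
    change (1 + N) ^ p ^ e = c • 1 at hc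
    obtain ⟨j, hj⟩ : ∃ j, p ^ e = j + 1 := ⟨p ^ e - 1, (Nat.sub_add_cancel (Nat.one_le_pow _ _ (Fact.out : p.Prime).pos)).symm⟩
    rw [hpow, hj, hN, shift_pow hmn] at hc
    have h01 := congrFun (congrFun hc ⟨0, hn⟩) ⟨j + 1, by omega⟩
    rw [Matrix.add_apply, Matrix.smul_apply, Matrix.one_apply_ne (fun h => by
      have := congrArg Fin.val h; simp at this), smul_zero] at h01
    simp only [Matrix.of_apply, zero_add] at h01
    rw [if_pos ⟨trivial, by omega⟩] at h01
    exact one_ne_zero h01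
  · rw [← map_pow (π F n), show g ^ p ^ (e + 1) = 1 from
      Subtype.ext (by rw [Matrix.SpecialLinearGroup.coe_pow]; exact hone), map_one]

/-- The torus element commuting with the Jordan element. -/
theorem exists_diag {r m : ℕ} {ζ : F} (hr : r.Prime) (hζ : orderOf ζ = r) (hn : 2 ≤ n) (hrn : ¬ r ∣ n)
    (hm : m + 1 = n) :
    ∃ w : Matrix.SpecialLinearGroup (Fin n) F, orderOf (π F n w) = r ∧
      Commute (w : Matrix (Fin n) (Fin n) F) (shift F n m) := by
  have hζr : ζ ^ r = 1 := hζ ▸ pow_orderOf_eq_one ζ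
  have hζ0 : ζ ≠ 0 := by rintro rfl; rw [zero_pow hr.pos.ne'] at hζr; exact zero_ne_one hζr
  let e : Matrix (Fin n) (Fin n) F := Matrix.diagonal fun i : Fin n => if (i : ℕ) < m then 1 else 0
  have he : e * e = e := by
    rw [Matrix.diagonal_mul_diagonal]; congr 1; ext i; split_ifs <;> simp
  have he0 : e ≠ 0 := fun h => by
    have := congrFun (congrFun h ⟨0, by omega⟩) ⟨0, by omega⟩
    simp [e, show 0 < m by omega] at this
  have he1 : e ≠ 1 := fun h => by
    have := congrFun (congrFun h ⟨m, by omega⟩) ⟨m, by omega⟩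
    simp [e] at this
  obtain ⟨w, hw1, hw2, hw3, hw4⟩ := exists_torsion_det_one hr hrn hζ he he0 he1
  refine ⟨⟨w, hw1⟩, orderOf_π_eq_prime hr hw2 hw3, hw4 _ ?_⟩
  show e * shift F n m = shift F n m * e
  ext i j
  rw [Matrix.diagonal_mul, Matrix.mul_diagonal]
  simp only [shift, Matrix.of_apply]
  by_cases h : (j : ℕ) = i + 1 ∧ (j : ℕ) < m
  · simp [h, show (i : ℕ) < m by omega]
  · simp [h]

end


/-- Let F be a finite field with q = p^a elements, n ≥ 2 (with q ≥ 4 when n = 2), L = PSL(n, F), and let r be a prime dividing q − 1 and not dividing n. Then for every m the direct product L × L × L × (ℤ/r)^m has the same set of element orders as L × L × L; and if n − 1 ≠ p^j for every j ≥ 0 (so never when n = 2, since 1 = p^0), then already L × L × (ℤ/r)^m has the same set of element orders as L × L. -/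
theorem result {F : Type*} [Field F] [Fintype F] (p a n r m : ℕ) (hp : p.Prime) (ha : 1 ≤ a) (hF : Fintype.card F = p ^ a)
    (hn : 2 ≤ n) (hn2 : n = 2 → 4 ≤ Fintype.card F) (hr : r.Prime) (hrq : r ∣ Fintype.card F - 1) (hrn : ¬ r ∣ n) :
    Set.range (orderOf : Matrix.ProjectiveSpecialLinearGroup (Fin n) F × Matrix.ProjectiveSpecialLinearGroup (Fin n) F × Matrix.ProjectiveSpecialLinearGroup (Fin n) F × Multiplicative (Fin m → ZMod r) → ℕ) =
      Set.range (orderOf : Matrix.ProjectiveSpecialLinearGroup (Fin n) F × Matrix.ProjectiveSpecialLinearGroup (Fin n) F × Matrix.ProjectiveSpecialLinearGroup (Fin n) F → ℕ) ∧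
    ((¬ ∃ j : ℕ, n - 1 = p ^ j) →
      Set.range (orderOf : Matrix.ProjectiveSpecialLinearGroup (Fin n) F × Matrix.ProjectiveSpecialLinearGroup (Fin n) F × Multiplicative (Fin m → ZMod r) → ℕ) =
        Set.range (orderOf : Matrix.ProjectiveSpecialLinearGroup (Fin n) F × Matrix.ProjectiveSpecialLinearGroup (Fin n) F → ℕ)) := by
  classical
  haveI := Fact.mk hp
  haveI := Fact.mk hr
  haveI hchar : CharP F p := by
    refine CharP.charP_iff_prime_eq_zero hp |>.2 ?_
    obtain ⟨p', hp'⟩ := CharP.exists F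
    obtain ⟨k, hpp, hk⟩ := FiniteField.card F p'
    have : p = p' := (Nat.prime_dvd_prime_iff_eq hp hpp).1 (hp.dvd_of_dvd_pow (show p ∣ p' ^ (k : ℕ) by
      rw [← hk, hF]; exact dvd_pow_self p (by omega)))
    rw [this, CharP.cast_eq_zero]
  have hrp : r ≠ p := by
    rintro rfl
    have h1 : r ∣ Fintype.card F := hF ▸ dvd_pow_self r (by omega)
    have h2 := Nat.dvd_sub h1 hrq
    rw [Nat.sub_sub_self Fintype.card_pos] at h2
    exact hr.ne_one (Nat.dvd_one.1 h2)
  obtain ⟨ζ, hζ⟩ : ∃ ζ : F, orderOf ζ = r := by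
    obtain ⟨u, hu⟩ := exists_prime_orderOf_dvd_card' (G := Fˣ) r (by rwa [Nat.card_units, Nat.card_eq_fintype_card])
    exact ⟨u, by rw [orderOf_units, hu]⟩
  have hn0 : 0 < n := by omega
  haveI : NeZero n := ⟨hn0.ne'⟩
  haveI : Nonempty (Fin n) := ⟨⟨0, hn0⟩⟩
  -- the exponent `e`
  set e := Nat.clog p n - 1 with he
  have hclog : 1 ≤ Nat.clog p n := Nat.clog_pos hp.one_lt hn
  have he1 : n ≤ p ^ (e + 1) := by rw [he, Nat.sub_add_cancel hclog]; exact Nat.le_pow_clog hp.one_lt n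
  have he2 : p ^ e < n := (Nat.lt_clog_iff_pow_lt hp.one_lt).1 (by omega)
  -- the Singer torus
  let K := FiniteField.Extension F p n
  let bK : Module.Basis (Fin n) F K :=
    Module.finBasisOfFinrankEq F K (FiniteField.finrank_extension F p n)
  let ψ : K →ₐ[F] Matrix (Fin n) (Fin n) F := Algebra.leftMulMatrix bK
  have hψ : Function.Injective ψ := Algebra.leftMulMatrix_injective bK
  let δ : Kˣ →* F := Matrix.detMonoidHom.comp ((ψ : K →* Matrix (Fin n) (Fin n) F).comp (Units.coeHom K))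
  obtain ⟨τ, hτ⟩ := IsCyclic.exists_generator (α := δ.ker)
  let sT : Matrix.SpecialLinearGroup (Fin n) F := ⟨ψ ((τ : Kˣ) : K), MonoidHom.mem_ker.1 τ.2⟩
  set S := orderOf (π F n sT) with hS
  have hScop : Nat.Coprime S (p ^ (e + 1)) := by
    refine Nat.Coprime.pow_right _ (Nat.Coprime.symm ((hp.coprime_iff_not_dvd).2 fun hdvd => ?_))
    have h1 : S ∣ Nat.card Kˣ := by
      refine orderOf_dvd_iff_pow_eq_one.2 ?_
      rw [← map_pow, ← map_one (π F n)]
      congr 1
      apply Subtype.ext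
      show (sT ^ Nat.card Kˣ : Matrix.SpecialLinearGroup (Fin n) F).1 = 1
      rw [Matrix.SpecialLinearGroup.coe_pow]
      show ψ ((τ : Kˣ) : K) ^ Nat.card Kˣ = 1
      rw [← map_pow, ← Units.val_pow_eq_pow_val, pow_card_eq_one', Units.val_one, map_one]
    rw [Nat.card_units, FiniteField.natCard_extension] at h1
    have hq : p ∣ Nat.card F ^ n := by
      rw [Nat.card_eq_fintype_card, hF]; exact dvd_pow (dvd_pow_self p (by omega)) hn0.ne'
    have h2 := Nat.dvd_sub hq (hdvd.trans h1)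
    rw [Nat.sub_sub_self (Nat.one_le_pow _ _ Nat.card_pos)] at h2
    exact hp.ne_one (Nat.dvd_one.1 h2)
  -- the dichotomy
  have hdich : ∀ x : Matrix.ProjectiveSpecialLinearGroup (Fin n) F, Up r x ∨ orderOf x ∣ S * p ^ (e + 1) := by
    intro x
    obtain ⟨g, rfl⟩ := QuotientGroup.mk'_surjective _ x
    rcases exists_idempotent_or_primary hn0 (g : Matrix (Fin n) (Fin n) F) with
      ⟨ε, h1, h2, h3, h4⟩ | ⟨f, k, hf, hfm, hkn, hfk⟩
    · left
      obtain ⟨w, hw1, hw2, hw3, hw4⟩ := exists_torsion_det_one hr hrn hζ h1 h2 h3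
      refine up_of_commute hr (h := π F n ⟨w, hw1⟩) ?_ (orderOf_π_eq_prime hr hw2 hw3)
      have hcom : Commute g (⟨w, hw1⟩ : Matrix.SpecialLinearGroup (Fin n) F) := Subtype.ext (hw4 _ h4).symm.eq
      exact hcom.map _
    · right
      obtain ⟨j, hj1, hj2⟩ := charpoly_eq_pow_of_aeval_pow hf hfm hfk
      haveI : Fact (Irreducible f) := ⟨hf⟩
      haveI : Module.Finite F (AdjoinRoot f) := (AdjoinRoot.powerBasis hf.ne_zero).finite
      haveI : Finite (AdjoinRoot f) := Module.finite_of_finite F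
      obtain ⟨ι⟩ : Nonempty (AdjoinRoot f →ₐ[F] K) := FiniteField.nonempty_algHom_of_finrank_dvd (by
        rw [FiniteField.finrank_extension, (AdjoinRoot.powerBasis hf.ne_zero).finrank, AdjoinRoot.powerBasis_dim]
        exact Dvd.intro j hj2)
      set α := ι (AdjoinRoot.root f) with hα
      have hfα : aeval α f = 0 := by
        rw [hα, aeval_algHom_apply, AdjoinRoot.aeval_eq, AdjoinRoot.mk_self, map_zero]
      obtain ⟨j', hj'1, hj'2⟩ := charpoly_eq_pow_of_aeval_pow (M := ψ α) (N := 1) hf hfm (by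
        rw [pow_one, aeval_algHom_apply, hfα, map_zero])
      have hjj : j' = j := Nat.eq_of_mul_eq_mul_left hf.natDegree_pos (hj'2.trans hj2.symm)
      have hdetα : (ψ α).det = 1 := by
        rw [Matrix.det_eq_sign_charpoly_coeff, hj'1, hjj, ← hj1, ← Matrix.det_eq_sign_charpoly_coeff, g.2]
      have hα0 : α ≠ 0 := fun h => by
        rw [h, map_zero, Matrix.det_zero] at hdetα
        exact zero_ne_one hdetα
      obtain ⟨i, hi⟩ := Submonoid.mem_powers_iff _ _ |>.1 ((mem_powers_iff_mem_zpowers).2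
        (hτ ⟨Units.mk0 α hα0, MonoidHom.mem_ker.2 hdetα⟩))
      have hαi : ((τ : Kˣ) : K) ^ i = α := by
        rw [← Units.val_pow_eq_pow_val, ← SubgroupClass.coe_pow, hi]; rfl
      obtain ⟨c, hc⟩ := (π_eq_one (sT ^ S)).1 (by rw [map_pow, hS, pow_orderOf_eq_one])
      have hτc : ((τ : Kˣ) : K) ^ S = algebraMap F K c := by
        refine hψ ?_
        rw [map_pow, AlgHom.commutes, Algebra.algebraMap_eq_smul_one]
        rwa [Matrix.SpecialLinearGroup.coe_pow] at hc
      have hdiv : f ∣ X ^ S - C (c ^ i) := by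
        have hmin : minpoly F α = f := (minpoly.eq_of_irreducible_of_monic hf hfα hfm).symm
        rw [← hmin]
        refine minpoly.dvd F α ?_
        rw [map_sub, map_pow, aeval_X, aeval_C, ← hαi, ← pow_mul, mul_comm, pow_mul, hτc, map_pow, sub_self]
      have h0 : ((g : Matrix (Fin n) (Fin n) F) ^ S - algebraMap F _ (c ^ i)) ^ p ^ (e + 1) = 0 := by
        refine pow_eq_zero_of_le (show k ≤ p ^ (e + 1) by omega) ?_
        obtain ⟨d, hd⟩ := pow_dvd_pow_of_dvd hdiv k
        have h := congrArg (aeval (g : Matrix (Fin n) (Fin n) F)) hd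
        rw [map_mul, hfk, zero_mul, map_pow, map_sub, map_pow, aeval_X, aeval_C] at h
        exact h
      refine orderOf_dvd_iff_pow_eq_one.2 ?_
      rw [← map_pow, π_eq_one]
      refine ⟨(c ^ i) ^ p ^ (e + 1), ?_⟩
      rw [sub_pow_char_pow_of_commute (p := p) (n := e + 1) (Algebra.commute_algebraMap_right _ _), sub_eq_zero, ← map_pow,
        ← pow_mul, Algebra.algebraMap_eq_smul_one] at h0
      rw [Matrix.SpecialLinearGroup.coe_pow]
      exact h0
  have hE : ∀ x : Multiplicative (Fin m → ZMod r), x ^ r = 1 := fun x => by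
    apply Multiplicative.toAdd.injective
    rw [toAdd_pow, toAdd_one]
    funext i
    rw [Pi.smul_apply, nsmul_eq_mul, ZMod.natCast_self, zero_mul]; rfl
  obtain ⟨u, -, hu⟩ := exists_unipotent (F := F) (e := e) hn0 le_rfl he2 he1
  obtain ⟨w, hw, hwc⟩ := exists_diag (F := F) (m := n - 1) hr hζ hn hrn (by omega)
  refine ⟨range_eq_three hE hw (s := π F n sT) (u := π F n u) (by rw [hu]; exact hScop)
    (fun x => by rw [hu]; exact hdich x), fun hnp => ?_⟩
  have he3 : p ^ e < n - 1 := lt_of_le_of_ne (by omega) (fun h => hnp ⟨e, h.symm⟩)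
  obtain ⟨u', hu'v, hu'⟩ := exists_unipotent (F := F) (e := e) (m := n - 1) hn0 (by omega) he3 (by omega)
  have hcomm : Commute (π F n u') (π F n w) := by
    refine Commute.map (?_ : Commute u' w) _
    apply Subtype.ext
    show (u' : Matrix (Fin n) (Fin n) F) * w = w * u'
    rw [hu'v]
    exact ((Commute.one_left _).add_left hwc.symm).eq
  have hord : orderOf (π F n u' * π F n w) = p ^ (e + 1) * r := by
    rw [hcomm.orderOf_mul_eq_mul_orderOf_of_coprime, hu', hw]
    rw [hu', hw]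
    exact Nat.Coprime.pow_left _ ((Nat.coprime_primes hp hr).2 (Ne.symm hrp))
  exact range_eq_two hE (s := π F n sT) (u := π F n u' * π F n w) (P := p ^ (e + 1))
    (hord ▸ dvd_mul_right _ _) (hord ▸ dvd_mul_left _ _) hScop hdich

end Cfsg.Agent.S2510
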