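import Cfsg.Statements.S2511
import Cfsg.Agent.Lib.LinSpec.Herm
import Cfsg.Agent.S2510

set_option autoImplicit false
set_option linter.style.haveILetI false
set_option linter.unusedSimpArgs false
set_option linter.unusedSectionVars false
open Cfsg

namespace Cfsg.Agent.S2511

open LinSpec Unitary Polynomial
open Cfsg.Agent.S2510 (Up up_of_commute range_eq_three range_eq_two)

section
variable {F : Type*} [Field F] {n : ℕ}

theorem cancel_aux {L : Type*} [Field L] {g : L} (hg : g ≠ 0) (a b : L) : g⁻¹ * a * (g * b) = a * b := by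
  field_simp

/-- The involution reversing the first `m` coordinates. -/
def revIdx (m : ℕ) (i : Fin n) : Fin n :=
  if h : (i : ℕ) < m ∧ m ≤ n then ⟨m - 1 - i, by omega⟩ else i

/-- Its permutation matrix. -/
def flipMat (F : Type*) [Field F] (n m : ℕ) : Matrix (Fin n) (Fin n) F :=
  Matrix.of fun i j => if j = revIdx m i then 1 else 0

/-- The projection on the first `m` coordinates. -/
def headMat (F : Type*) [Field F] (n m : ℕ) : Matrix (Fin n) (Fin n) F :=
  Matrix.diagonal fun i => if (i : ℕ) < m then 1 else 0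

theorem flip_flip (m : ℕ) (i : Fin n) : revIdx m (revIdx m i) = i := by
  unfold revIdx
  by_cases h : (i : ℕ) < m ∧ m ≤ n
  · rw [dif_pos (by simp only [dif_pos h]; omega)]
    apply Fin.ext; simp only [dif_pos h]; omega
  · rw [dif_neg h, dif_neg h]

theorem flipMat_mul_apply (A : Matrix (Fin n) (Fin n) F) (m : ℕ) (i j : Fin n) :
    (flipMat F n m * A) i j = A (revIdx m i) j := by
  simp [flipMat, Matrix.mul_apply]

theorem mul_flipMat_apply (A : Matrix (Fin n) (Fin n) F) (m : ℕ) (i j : Fin n) :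
    (A * flipMat F n m) i j = A i (revIdx m j) := by
  rw [Matrix.mul_apply, Finset.sum_eq_single (revIdx m j)]
  · simp [flipMat, flip_flip]
  · intro b _ hb
    rw [flipMat, Matrix.of_apply, if_neg, mul_zero]
    rintro rfl
    exact hb (flip_flip m b).symm
  · simp

theorem flip_lt {m : ℕ} (hmn : m ≤ n) (i : Fin n) : ((revIdx m i : Fin n) : ℕ) < m ↔ (i : ℕ) < m := by
  unfold revIdx
  by_cases h : (i : ℕ) < m
  · rw [dif_pos ⟨h, hmn⟩]; simp only [h, iff_true]; omega
  · simp [h]

theorem flip_val {m : ℕ} (hmn : m ≤ n) (i : Fin n) (h : (i : ℕ) < m) :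
    ((revIdx m i : Fin n) : ℕ) = m - 1 - i := by
  simp [revIdx, h, hmn]

end

section
variable {F : Type*} [Field F] [Fintype F] {q n : ℕ} (hF : Fintype.card F = q ^ 2)

/-- The projection onto `PSU`. -/
abbrev π (n : ℕ) (F : Type*) [Field F] (q : ℕ) : Cfsg.SU n F q →* Cfsg.PSU n F q := QuotientGroup.mk' _

/-- The matrix of an element of `SU`. -/
abbrev mat (g : Cfsg.SU n F q) : Matrix (Fin n) (Fin n) F := (g : Matrix.SpecialLinearGroup (Fin n) F)

theorem mat_pow (g : Cfsg.SU n F q) (k : ℕ) : mat (g ^ k) = mat g ^ k := by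
  simp [mat, SubgroupClass.coe_pow]

theorem mat_injective : Function.Injective (mat : Cfsg.SU n F q → Matrix (Fin n) (Fin n) F) :=
  fun _ _ h => Subtype.ext (Subtype.ext h)

include hF in
theorem π_eq_one (hn : 2 ≤ n) (g : Cfsg.SU n F q) :
    π n F q g = 1 ↔ ∃ c : F, mat g = c • 1 := by
  rw [QuotientGroup.mk'_apply, QuotientGroup.eq_one_iff, mem_center_SU_iff hF hn]
  simp [mat, Matrix.smul_one_eq_diagonal]

include hF in
theorem exists_torsion (hn : 2 ≤ n) {r : ℕ} (hr : r.Prime) (hrn : ¬ r ∣ n) (hrq : r ∣ q + 1) {ζ : F}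
    (hζ : orderOf ζ = r) {E : Matrix (Fin n) (Fin n) F} (hE : E * E = E) (hE0 : E ≠ 0) (hE1 : E ≠ 1)
    (hEa : adj hF E = E) :
    ∃ w : Cfsg.SU n F q, orderOf (π n F q w) = r ∧ ∀ M, Commute E M → Commute (mat w) M := by
  obtain ⟨s, hs, h1, h2, h3⟩ := exists_torsion_scalar hr hrn hζ hE hE0 hE1
  have hnorm : ∀ x : F, x ^ r = 1 → x ^ q * x = 1 := fun x hx => by
    obtain ⟨t, ht⟩ := hrq
    rw [← pow_succ, ht, pow_mul, hx, one_pow]
  have hu : IsUnitary q (s • (1 + (ζ - 1) • E)) := by
    rw [isUnitary_iff_adj hF, adj_smul, adj_add, adj_one, adj_smul, hEa, sub_pow_q hF, one_pow, smul_mul_smul_comm,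
      hnorm s hs, one_smul, mul_add, mul_one, add_mul, one_mul, smul_mul_smul_comm, hE, add_assoc, ← add_smul,
      ← add_smul]
    have h := hnorm ζ (hζ ▸ pow_orderOf_eq_one ζ)
    rw [show ζ ^ q - 1 + (ζ - 1 + (ζ ^ q - 1) * (ζ - 1)) = 0 by linear_combination h, zero_smul, add_zero]
  refine ⟨suOfUnitary _ hu h1, ?_, fun M hM => ((Commute.one_left M).add_left (hM.smul_left _)).smul_left _⟩
  haveI := Fact.mk hr
  refine orderOf_eq_prime ?_ ?_
  · rw [← map_pow, show suOfUnitary _ hu h1 ^ r = 1 from mat_injective (by rw [mat_pow]; exact h2), map_one]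
  · rw [Ne, π_eq_one hF hn]
    rintro ⟨c, hc⟩
    exact h3 c hc

include hF in
/-- A unipotent element of order `p ^ (e + 1)` in `PSU`, commuting with a projection. -/
theorem exists_unipotent {p e : ℕ} [Fact p.Prime] [CharP F p] (hn : 2 ≤ n) {m : ℕ} (hmn : m ≤ n)
    (h1 : p ^ e < m) (h2 : m ≤ p ^ (e + 1)) :
    ∃ (U : Cfsg.SU n F q) (E : Matrix (Fin n) (Fin n) F), orderOf (π n F q U) = p ^ (e + 1) ∧
      E * E = E ∧ adj hF E = E ∧ Commute E (mat U) ∧ (m + 1 = n → E ≠ 0 ∧ E ≠ 1) := by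
  classical
  haveI : Nonempty (Fin n) := ⟨⟨0, by omega⟩⟩
  have hp1 : 0 < p ^ (e + 1) := pow_pos (Fact.out : p.Prime).pos _
  obtain ⟨c, hc0, hcq⟩ := exists_skew hF
  obtain ⟨a, ha⟩ := exists_trace_eq hF (c := (1 : F)) (one_pow q)
  set P := flipMat F n m with hPdef
  obtain ⟨N, hNdef⟩ : ∃ N : Matrix (Fin n) (Fin n) F, N = c • shift F n m := ⟨_, rfl⟩
  set D := headMat F n m with hDdef
  have hPsym : adj hF P = P := by
    ext i j
    show Cfsg.Agent.Unitary.conjHom hF (P j i) = P i j
    simp only [hPdef, flipMat, Matrix.of_apply]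
    have : i = revIdx m j ↔ j = revIdx m i :=
      ⟨fun h => by rw [h, flip_flip], fun h => by rw [h, flip_flip]⟩
    by_cases h : j = revIdx m i
    · rw [if_pos (this.2 h), if_pos h, map_one]
    · rw [if_neg (fun h' => h (this.1 h')), if_neg h, map_zero]
  have hPP : P * P = 1 := by
    ext i j
    rw [hPdef, flipMat_mul_apply]
    simp only [flipMat, Matrix.of_apply, flip_flip, Matrix.one_apply]
    exact if_congr eq_comm rfl rfl
  have hskew : adj hF N * P = -(P * N) := by
    ext i j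
    rw [Matrix.neg_apply, hPdef, flipMat_mul_apply, mul_flipMat_apply]
    show Cfsg.Agent.Unitary.conjHom hF (N (revIdx m j) i) = -N (revIdx m i) j
    simp only [hNdef, shift, Matrix.smul_apply, Matrix.of_apply, smul_eq_mul, mul_ite, mul_one, mul_zero]
    by_cases h : (i : ℕ) = (revIdx m j : Fin n) + 1 ∧ (i : ℕ) < m
    · have hj : (j : ℕ) < m := (flip_lt hmn j).1 (by omega)
      rw [if_pos h, if_pos (by rw [flip_val hmn i h.2]; rw [flip_val hmn j hj] at h; omega)]
      exact hcq
    · rw [if_neg h, map_zero, if_neg, neg_zero]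
      rintro ⟨h', hj⟩
      have hi : (i : ℕ) < m := (flip_lt hmn i).1 (by omega)
      refine h ⟨?_, hi⟩
      rw [flip_val hmn i hi] at h'; rw [flip_val hmn j hj]; omega
  have hD : D * D = D := by
    rw [hDdef, headMat, Matrix.diagonal_mul_diagonal]; congr 1; ext i; split_ifs <;> simp
  have hDsym : adj hF D = D := by
    ext i j
    show Cfsg.Agent.Unitary.conjHom hF (D j i) = D i j
    simp only [hDdef, headMat, Matrix.diagonal_apply]
    by_cases h : i = j
    · subst h; simp only [if_pos]; split_ifs <;> simp [(show q ≠ 0 by have := two_le_q hF; omega)]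
    · simp [h, Ne.symm h, (show q ≠ 0 by have := two_le_q hF; omega)]
  have hDP : Commute D P := by
    ext i j
    rw [hPdef, flipMat_mul_apply, mul_flipMat_apply]
    simp only [hDdef, headMat, Matrix.diagonal_apply]
    by_cases h : i = revIdx m j
    · subst h
      simp [flip_flip, flip_lt hmn]
    · rw [if_neg h, if_neg (fun h' => h (by rw [← h', flip_flip]))]
  have hDN : Commute D N := by
    rw [hNdef]
    refine Commute.smul_right ?_ c
    ext i j
    rw [hDdef, headMat, Matrix.diagonal_mul, Matrix.mul_diagonal]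
    simp only [shift, Matrix.of_apply]
    by_cases h : (j : ℕ) = i + 1 ∧ (j : ℕ) < m
    · simp [h, show (i : ℕ) < m by omega]
    · simp [h]
  -- the twisted form
  let h : (Fin n → F) → (Fin n → F) → F := fun u v => Cfsg.hermForm n F q u (P.mulVec v)
  have H0 := hermForm_isHerm hF n
  have H : IsHerm q h :=
    ⟨fun x y z => H0.add_left x y _, fun c x z => H0.smul_left c x _, fun x y => by
      show Cfsg.hermForm n F q y (P.mulVec x) = Cfsg.hermForm n F q x (P.mulVec y) ^ q
      rw [← H0.conj_symm x (P.mulVec y), hermForm_mulVec_left hF, hPsym]⟩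
  have hnd : Nondeg h := fun x hx => hermForm_nondeg hF n x fun y => by
    have := hx (P.mulVec y)
    simp only [h] at this
    rwa [Matrix.mulVec_mulVec, hPP, Matrix.one_mulVec] at this
  obtain ⟨Φ, hΦu, hΦa, hΦd⟩ := exists_transfer hF H hnd (Module.finrank_fin_fun F)
  let Ψ : Matrix (Fin n) (Fin n) F ≃ₐ[F] Matrix (Fin n) (Fin n) F := Matrix.toLinAlgEquiv'.trans Φ
  have hΨapply : ∀ (A : Matrix (Fin n) (Fin n) F) (x : Fin n → F), Matrix.toLinAlgEquiv' A x = A.mulVec x :=
    fun A x => Matrix.toLinAlgEquiv'_apply A x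
  -- Cayley transform
  have hNz : N ^ (p ^ (e + 1)) = 0 := by
    obtain ⟨j, hj⟩ : ∃ j, p ^ (e + 1) = j + 1 := ⟨p ^ (e + 1) - 1, by omega⟩
    rw [hj, hNdef, _root_.smul_pow, shift_pow hmn]
    ext i l
    simp only [Matrix.smul_apply, Matrix.of_apply, Matrix.zero_apply]
    rw [if_neg (by omega), smul_zero]
  have hnil : IsNilpotent ((a ^ q) • N) := ⟨p ^ (e + 1), by rw [_root_.smul_pow, hNz, smul_zero]⟩
  obtain ⟨B, hB⟩ := hnil.isUnit_one_sub
  set R : Matrix (Fin n) (Fin n) F := ((B⁻¹ : (Matrix (Fin n) (Fin n) F)ˣ) : Matrix (Fin n) (Fin n) F)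
  have hBR : (1 - a ^ q • N) * R = 1 := by rw [← hB]; exact B.mul_inv
  have hcomm : ∀ X, Commute X N → Commute X R := fun X hX =>
    Commute.units_inv_right (by rw [hB]; exact (Commute.one_right X).sub_right (hX.smul_right _))
  set u := (1 + a • N) * R
  have hu1 : u - 1 = N * R := by
    show (1 + a • N) * R - 1 = N * R
    conv_lhs => arg 2; rw [← hBR]
    rw [← sub_mul, show (1 + a • N) - (1 - a ^ q • N) = N by
      rw [add_sub_sub_cancel, ← add_smul, ha, one_smul]]
  have hNR : ∀ k, (N * R) ^ k = N ^ k * R ^ k := fun k => (hcomm N (Commute.refl N)).mul_pow k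
  have hu : ∀ i, (u - 1) ^ p ^ i = u ^ p ^ i - 1 := fun i => by
    rw [sub_pow_char_pow_of_commute (p := p) (n := i) (Commute.one_right u), one_pow]
  have hupow : u ^ p ^ (e + 1) = 1 := by
    rw [← sub_eq_zero, ← hu, hu1, hNR, hNz, zero_mul]
  have hune : u ^ p ^ e ≠ 1 := by
    rw [Ne, ← sub_eq_zero, ← hu, hu1, hNR]
    intro h0
    have h3 : N ^ p ^ e = 0 := (((B⁻¹).isUnit.pow (p ^ e)).mul_left_eq_zero).1 h0
    obtain ⟨j, hj⟩ : ∃ j, p ^ e = j + 1 :=
      ⟨p ^ e - 1, by have := pow_pos (Fact.out : p.Prime).pos e; omega⟩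
    rw [hj, hNdef, _root_.smul_pow, shift_pow hmn] at h3
    have h4 := congrFun (congrFun h3 ⟨0, by omega⟩) ⟨j + 1, by omega⟩
    simp only [Matrix.smul_apply, Matrix.of_apply, Matrix.zero_apply, zero_add] at h4
    rw [if_pos ⟨trivial, by omega⟩, smul_eq_mul, mul_one] at h4
    exact pow_ne_zero _ hc0 h4
  have hiso : ∀ x y, h (u.mulVec x) (u.mulVec y) = h x y := by
    have hN : ∀ x y, h (N.mulVec x) y = -h x (N.mulVec y) := by
      intro x y
      simp only [h]
      rw [hermForm_mulVec_left hF, Matrix.mulVec_mulVec, hskew, Matrix.mulVec_mulVec, Matrix.neg_mulVec,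
        H0.neg_right hF]
    intro x y
    have key : ∀ z w, h ((1 + a • N).mulVec z) ((1 + a • N).mulVec w) =
        h ((1 - a ^ q • N).mulVec z) ((1 - a ^ q • N).mulVec w) := by
      intro z w
      rw [Matrix.add_mulVec, Matrix.add_mulVec, Matrix.sub_mulVec, Matrix.sub_mulVec, Matrix.one_mulVec,
        Matrix.one_mulVec, Matrix.smul_mulVec, Matrix.smul_mulVec, Matrix.smul_mulVec, Matrix.smul_mulVec,
        H.add_left, H.sub_left, H.add_right hF, H.add_right hF, H.sub_right hF, H.sub_right hF,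
        H.smul_left, H.smul_left, H.smul_left, H.smul_left, H.smul_right, H.smul_right, H.smul_right, H.smul_right,
        pow_q_pow_q hF, hN]
      ring
    rw [← Matrix.mulVec_mulVec, ← Matrix.mulVec_mulVec, key, Matrix.mulVec_mulVec, Matrix.mulVec_mulVec, hBR,
      Matrix.one_mulVec, Matrix.one_mulVec]
  have hU : IsUnitary q (Ψ u) := hΦu _ fun x y => hiso x y
  have hUp : Ψ u ^ p ^ (e + 1) = 1 := by rw [← map_pow, hupow, map_one]
  have hdet : (Ψ u).det = 1 := by
    have h0 := congrArg Matrix.det hUp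
    rw [Matrix.det_pow, Matrix.det_one] at h0
    have h' : ((Ψ u).det - 1) ^ p ^ (e + 1) = 0 := by rw [sub_pow_char_pow, h0, one_pow, sub_self]
    exact sub_eq_zero.1 (eq_zero_of_pow_eq_zero h')
  refine ⟨suOfUnitary _ hU hdet, Ψ D, ?_, ?_, ?_, ?_, ?_⟩
  · refine orderOf_eq_prime_pow (fun h0 => ?_) ?_
    · rw [← map_pow (π n F q), π_eq_one hF hn] at h0
      obtain ⟨z, hz⟩ := h0
      rw [mat_pow] at hz
      change Ψ u ^ p ^ e = z • 1 at hz
      rw [← map_pow, ← map_one Ψ, ← map_smul] at hz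
      have hz' := Ψ.injective hz
      have hz1 : z ^ p = 1 := by
        have h3 := congrArg (· ^ p) hz'
        simp only [← pow_mul, ← pow_succ, hupow, _root_.smul_pow, one_pow] at h3
        have h4 := congrFun (congrFun h3 ⟨0, by omega⟩) ⟨0, by omega⟩
        simpa using h4.symm
      have hz2 : z = 1 := by
        have h' : (z - 1) ^ p = 0 := by rw [sub_pow_char, hz1, one_pow, sub_self]
        exact sub_eq_zero.1 (eq_zero_of_pow_eq_zero h')
      rw [hz2, one_smul] at hz'
      exact hune hz'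
    · rw [← map_pow (π n F q), show suOfUnitary _ hU hdet ^ p ^ (e + 1) = 1 from
        mat_injective (by rw [mat_pow]; exact hUp), map_one]
  · rw [← map_mul, hD]
  · refine hΦa _ _ fun x y => ?_
    show Cfsg.hermForm n F q (D.mulVec x) (P.mulVec y) = Cfsg.hermForm n F q x (P.mulVec (D.mulVec y))
    rw [hermForm_mulVec_left hF, hDsym, Matrix.mulVec_mulVec, hDP.eq, ← Matrix.mulVec_mulVec]
  · show Ψ D * Ψ u = Ψ u * Ψ D
    rw [← map_mul, ← map_mul]
    congr 1
    exact ((Commute.one_right D).add_right (hDN.smul_right a)).mul_right (hcomm D hDN)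
  · intro hm
    refine ⟨fun h0 => ?_, fun h0 => ?_⟩
    · rw [← map_zero Ψ] at h0
      have := congrFun (congrFun (Ψ.injective h0) ⟨0, by omega⟩) ⟨0, by omega⟩
      simp [hDdef, headMat, show 0 < m by omega] at this
    · rw [← map_one Ψ] at h0
      have := congrFun (congrFun (Ψ.injective h0) ⟨m, by omega⟩) ⟨m, by omega⟩
      simp [hDdef, headMat] at this

include hF in
theorem coeff_rev_root {f f' : F[X]} {L : Type*} [Field L] [Algebra F L] {α : L} (hfα : aeval α f = 0)
    (hf0 : f.coeff 0 ≠ 0) {u : F} (hu : u ≠ 0) (huf : rev hF f = C u * f') :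
    α ≠ 0 ∧ aeval (α ^ q)⁻¹ f' = 0 := by
  have hα : α ≠ 0 := fun h => by
    rw [h, aeval_def, eval₂_at_zero, map_eq_zero] at hfα
    exact hf0 hfα
  have h1 := aeval_rev_root hF hα hfα
  rw [huf, map_mul, aeval_C, mul_eq_zero, map_eq_zero] at h1
  exact ⟨hα, h1.resolve_left hu⟩

include hF in
theorem aeval_pow_root {f : F[X]} {L : Type*} [Field L] [Algebra F L] {α : L} (hfα : aeval α f = 0) :
    aeval (α ^ q ^ 2) f = 0 := by
  have h := congrArg (qHom hF L 2) hfα
  rw [aeval_def, Polynomial.hom_eval₂, map_zero] at h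
  have hc : (qHom hF L 2).comp (algebraMap F L) = algebraMap F L := RingHom.ext fun c => by
    show (algebraMap F L c) ^ q ^ 2 = _
    rw [← map_pow, ← hF, FiniteField.pow_card]
  rwa [hc] at h

include hF in
/-- The torus element: a single element of `PSU` whose order bounds those of all primary elements. -/
theorem exists_torus {p : ℕ} [Fact p.Prime] [CharP F p] (hn : 2 ≤ n) :
    ∃ S : Cfsg.SU n F q, Nat.Coprime (orderOf (π n F q S)) p ∧
      ∀ (g : Cfsg.SU n F q) (f f' : F[X]), Irreducible f → f.Monic → Irreducible f' → f'.Monic →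
        f.coeff 0 ≠ 0 → f'.natDegree = f.natDegree → (∃ u : F, u ≠ 0 ∧ rev hF f = C u * f') →
        ((∃ j, (mat g).charpoly = (f * f') ^ j ∧ 2 * (f.natDegree * j) = n) ∨
          (Odd n ∧ f' = f ∧ ∃ j, (mat g).charpoly = f ^ j ∧ f.natDegree * j = n)) →
        ∃ c : F, f ∣ X ^ orderOf (π n F q S) - C c ∧ f' ∣ X ^ orderOf (π n F q S) - C c := by
  classical
  have hq2 := two_le_q hF
  have hqp : p ∣ Nat.card F :=
    (CharP.cast_eq_zero_iff F p _).1 (by rw [Nat.card_eq_fintype_card]; exact Nat.cast_card_eq_zero F)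
  -- coprimality of the order with `p`
  have hcop : ∀ {L : Type} [Field L] [Algebra F L] [Finite L] (Γ : Subgroup Lˣ) (ω : Lˣ →* Matrix (Fin n) (Fin n) F)
      (τ : Γ) (g : Cfsg.SU n F q), mat g = ω τ → Nat.Coprime (orderOf (π n F q g)) p := by
    intro L _ _ _ Γ ω τ g hg
    haveI : Module.Finite F L := Module.Finite.of_finite
    refine Nat.Coprime.symm (((Fact.out : p.Prime).coprime_iff_not_dvd).2 fun hdvd => ?_)
    have h1 : orderOf (π n F q g) ∣ Nat.card Lˣ := by
      refine orderOf_dvd_iff_pow_eq_one.2 ?_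
      rw [← map_pow, show g ^ Nat.card Lˣ = 1 from mat_injective (by
        rw [mat_pow, hg, ← map_pow, pow_card_eq_one', map_one]; rfl), map_one]
    rw [Nat.card_units, Module.natCard_eq_pow_finrank (K := F) (V := L)] at h1
    have h2 := Nat.dvd_sub (dvd_pow hqp (Module.finrank_pos (R := F) (M := L)).ne') (hdvd.trans h1)
    rw [Nat.sub_sub_self (Nat.one_le_pow _ _ Nat.card_pos)] at h2
    exact (Fact.out : p.Prime).ne_one (Nat.dvd_one.1 h2)
  rcases Nat.even_or_odd n with ⟨l, hl⟩ | ho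
  · have hl' : n = 2 * l := by omega
    haveI : NeZero l := ⟨by omega⟩
    let L := FiniteField.Extension F p l
    haveI : Fintype L := Fintype.ofFinite L
    let h : L × L → L × L → F := fun v w =>
      Algebra.trace F L (v.1 * qHom hF L 1 w.2) + Algebra.trace F L (w.1 * qHom hF L 1 v.2) ^ q
    have hsm : ∀ (c : F) (y : L), qHom hF L 1 (c • y) = (c ^ q) • qHom hF L 1 y := fun c y => by
      rw [Algebra.smul_def, Algebra.smul_def, map_mul]
      congr 1
      show (algebraMap F L c) ^ q ^ 1 = _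
      rw [pow_one, map_pow]
    have H : IsHerm q h := by
      refine ⟨fun x y z => ?_, fun c x z => ?_, fun x y => ?_⟩
      · simp only [h, Prod.fst_add, Prod.snd_add, map_add, add_mul, mul_add, add_pow_q hF]; ring
      · simp only [h, Prod.smul_fst, Prod.smul_snd, hsm, smul_mul_assoc, mul_smul_comm, map_smul, smul_eq_mul,
          mul_pow, pow_q_pow_q hF, mul_add]
      · simp only [h, add_pow_q hF, pow_q_pow_q hF]; ring
    have hbij : Function.Bijective (qHom hF L 1) :=
      ⟨(qHom hF L 1).injective, Finite.injective_iff_surjective.1 (qHom hF L 1).injective⟩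
    have hnd : Nondeg h := by
      have htr := traceForm_nondegenerate F L
      intro x hx
      refine Prod.ext (htr.1 _ fun z => ?_) (hbij.1 (Eq.trans (htr.1 _ fun z => ?_) (map_zero _).symm))
      · obtain ⟨y, rfl⟩ := hbij.2 z
        have := hx (0, y)
        simpa [h, zero_pow_q hF, Algebra.traceForm_apply] using this
      · have := hx (z, 0)
        rw [show h x (z, 0) = Algebra.trace F L (z * qHom hF L 1 x.2) ^ q by simp [h], pow_q_eq_zero hF] at this
        rw [Algebra.traceForm_apply, mul_comm]; exact this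
    obtain ⟨Φ, hΦu, -, hΦd⟩ := exists_transfer hF H hnd (n := n) (by
      rw [Module.finrank_prod, FiniteField.finrank_extension]; omega)
    let T : Lˣ →* Module.End F (L × L) :=
      { toFun := fun γ => (LinearMap.mulLeft F ((((γ : Lˣ) : L) ^ q)⁻¹)).prodMap (LinearMap.mulLeft F (γ : L))
        map_one' := by ext v <;> simp [LinearMap.prodMap_apply]
        map_mul' := fun a b => by
          ext v <;> simp [LinearMap.prodMap_apply, mul_pow, mul_assoc, mul_comm, mul_left_comm] }
    have hT : ∀ γ v w, h (T γ v) (T γ w) = h v w := by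
      intro γ v w
      have hγ : ((γ : L) ^ q) ≠ 0 := pow_ne_zero _ γ.ne_zero
      have e : ∀ a b : L, ((γ : L) ^ q)⁻¹ * a * qHom hF L 1 ((γ : L) * b) = a * qHom hF L 1 b := fun a b => by
        rw [map_mul]
        show ((γ : L) ^ q)⁻¹ * a * ((γ : L) ^ q ^ 1 * qHom hF L 1 b) = _
        rw [pow_one]
        exact cancel_aux hγ _ _
      show Algebra.trace F L _ + Algebra.trace F L _ ^ q = _
      simp only [T, MonoidHom.coe_mk, OneHom.coe_mk, LinearMap.prodMap_apply, LinearMap.mulLeft_apply, e, h]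
    let ω : Lˣ →* Matrix (Fin n) (Fin n) F := (Φ : Module.End F (L × L) →* Matrix (Fin n) (Fin n) F).comp T
    let δ : Lˣ →* F := Matrix.detMonoidHom.comp ω
    obtain ⟨τ, hτ⟩ := IsCyclic.exists_generator (α := δ.ker)
    let sT : Cfsg.SU n F q := suOfUnitary (ω τ) (hΦu _ (hT τ)) (MonoidHom.mem_ker.1 τ.2)
    refine ⟨sT, hcop δ.ker ω τ sT rfl, ?_⟩
    intro g f f' hf hfm hf' hfm' hf0 hdeg ⟨u, hu, huf⟩ hcases
    obtain ⟨j, hj, hjn⟩ : ∃ j, (mat g).charpoly = (f * f') ^ j ∧ 2 * (f.natDegree * j) = n :=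
      hcases.resolve_right (fun h' => by obtain ⟨k, hk⟩ := h'.1; omega)
    haveI : Fact (Irreducible f) := ⟨hf⟩
    haveI : Module.Finite F (AdjoinRoot f) := (AdjoinRoot.powerBasis hf.ne_zero).finite
    haveI : Finite (AdjoinRoot f) := Module.finite_of_finite F
    obtain ⟨ι⟩ : Nonempty (AdjoinRoot f →ₐ[F] L) := FiniteField.nonempty_algHom_of_finrank_dvd (by
      rw [FiniteField.finrank_extension, (AdjoinRoot.powerBasis hf.ne_zero).finrank, AdjoinRoot.powerBasis_dim]
      exact Dvd.intro j (by omega))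
    set α := ι (AdjoinRoot.root f)
    have hfα : aeval α f = 0 := by rw [aeval_algHom_apply, AdjoinRoot.aeval_eq, AdjoinRoot.mk_self, map_zero]
    obtain ⟨hα, hfγ⟩ := coeff_rev_root hF hfα hf0 hu huf
    let γ : Lˣ := Units.mk0 (α ^ q)⁻¹ (inv_ne_zero (pow_ne_zero _ hα))
    have hδ : (((γ : L) ^ q)⁻¹) = α ^ q ^ 2 := by
      show ((((α ^ q)⁻¹) ^ q))⁻¹ = _
      rw [inv_pow, inv_inv, ← pow_mul, ← sq]
    have hfδ : aeval (α ^ q ^ 2) f = 0 := aeval_pow_root hF hfα
    let bL : Module.Basis (Fin l) F L := Module.finBasisOfFinrankEq F L (FiniteField.finrank_extension F p l)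
    have hdl : ∀ (z : L) (P : F[X]), Irreducible P → P.Monic → P.natDegree = f.natDegree → aeval z P = 0 →
        LinearMap.det (LinearMap.mulLeft F z) = (-1) ^ l * (P ^ j).coeff 0 := by
      intro z P hP hPm hPd hz
      rw [show LinearMap.det (LinearMap.mulLeft F z) = Algebra.norm F z from (Algebra.norm_apply F z).symm,
        Algebra.norm_eq_matrix_det bL z]
      obtain ⟨k, hk, hk'⟩ := charpoly_eq_pow_of_aeval_pow (N := 1) (M := Algebra.leftMulMatrix bL z) hP hPm (by
        rw [pow_one, aeval_algHom_apply, hz, map_zero])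
      have : k = j := by
        refine Nat.eq_of_mul_eq_mul_left hf.natDegree_pos ?_
        rw [← hPd, hk', hPd]; omega
      rw [Matrix.det_eq_sign_charpoly_coeff, hk, this, Fintype.card_fin]
    have hdetγ : γ ∈ δ.ker := by
      rw [MonoidHom.mem_ker]
      show (Φ (T γ)).det = 1
      rw [hΦd]
      simp only [T, MonoidHom.coe_mk, OneHom.coe_mk, γ, Units.val_mk0]
      rw [LinearMap.det_prodMap, show (((α ^ q)⁻¹) ^ q)⁻¹ = α ^ q ^ 2 from hδ, hdl _ f hf hfm rfl hfδ, hdl _ f' hf' hfm' hdeg hfγ,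
        mul_mul_mul_comm, ← pow_add, ← mul_coeff_zero, ← mul_pow, ← hl, ← hj]
      have h' := (g : Matrix.SpecialLinearGroup (Fin n) F).2
      rw [Matrix.det_eq_sign_charpoly_coeff, Fintype.card_fin] at h'
      exact h'
    obtain ⟨i, hi⟩ := Submonoid.mem_powers_iff _ _ |>.1 ((mem_powers_iff_mem_zpowers).2 (hτ ⟨γ, hdetγ⟩))
    obtain ⟨c, hc⟩ := (π_eq_one hF hn (sT ^ orderOf (π n F q sT))).1 (by rw [map_pow, pow_orderOf_eq_one])
    rw [mat_pow] at hc
    change Φ (T τ) ^ _ = c • 1 at hc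
    rw [← map_pow, ← map_pow, ← map_one Φ, ← map_smul] at hc
    have hc' := Φ.injective hc
    have hγS : T (γ ^ orderOf (π n F q sT)) = (c ^ i) • 1 := by
      have : γ = (τ : Lˣ) ^ i := by rw [← SubgroupClass.coe_pow, hi]
      rw [this, ← pow_mul, mul_comm, pow_mul, map_pow, hc', _root_.smul_pow, one_pow]
    have h12 := LinearMap.congr_fun hγS (1, 1)
    simp only [T, MonoidHom.coe_mk, OneHom.coe_mk, LinearMap.prodMap_apply, LinearMap.mulLeft_apply, mul_one,
      LinearMap.smul_apply, Module.End.one_apply, Prod.smul_mk, Prod.mk.injEq, Units.val_pow_eq_pow_val] at h12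
    obtain ⟨ha, hb⟩ := h12
    rw [← Algebra.algebraMap_eq_smul_one] at ha hb
    rw [← pow_mul, mul_comm, pow_mul, ← inv_pow, hδ] at ha
    refine ⟨c ^ i, ?_, ?_⟩
    · rw [minpoly.eq_of_irreducible_of_monic hf hfδ hfm]
      exact minpoly.dvd F _ (by rw [map_sub, map_pow, aeval_X, aeval_C, ha, sub_self])
    · rw [minpoly.eq_of_irreducible_of_monic hf' hfγ hfm']
      refine minpoly.dvd F _ ?_
      rw [map_sub, map_pow, aeval_X, aeval_C, show ((α ^ q)⁻¹) = (γ : L) from rfl, hb, sub_self]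
  · haveI : NeZero n := ⟨by omega⟩
    let L := FiniteField.Extension F p n
    haveI : Fintype L := Fintype.ofFinite L
    have hcardL : ∀ x : L, x ^ q ^ (2 * n) = x := fun x => by
      have : Fintype.card L = q ^ (2 * n) := by
        rw [← Nat.card_eq_fintype_card, FiniteField.natCard_extension, Nat.card_eq_fintype_card, hF, ← pow_mul]
      rw [← this, FiniteField.pow_card]
    let h : L → L → F := fun x y => Algebra.trace F L (x * qHom hF L n y)
    have hsm : ∀ (c : F) (y : L), qHom hF L n (c • y) = (c ^ q) • qHom hF L n y := fun c y => by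
      rw [Algebra.smul_def, Algebra.smul_def, map_mul]
      congr 1
      show (algebraMap F L c) ^ q ^ n = _
      rw [← map_pow, conj_pow_odd hF ho]
    have hττ : ∀ y, qHom hF L n (qHom hF L n y) = y := fun y => by
      show (y ^ q ^ n) ^ q ^ n = y
      rw [← pow_mul, ← pow_add, ← two_mul, hcardL]
    have htr' : ∀ z : L, Algebra.trace F L (qHom hF L n z) = Algebra.trace F L z ^ q := fun z => by
      refine (algebraMap F L).injective ?_
      rw [← conj_pow_odd hF ho, map_pow, FiniteField.algebraMap_trace_eq_sum_pow,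
        FiniteField.algebraMap_trace_eq_sum_pow]
      show _ = qHom hF L n (∑ i ∈ Finset.range (Module.finrank F L), z ^ Nat.card F ^ i)
      rw [map_sum]
      simp only [map_pow]
    have H : IsHerm q h := by
      refine ⟨fun x y z => ?_, fun c x z => ?_, fun x y => ?_⟩
      · simp only [h, add_mul, map_add]
      · simp only [h, smul_mul_assoc, map_smul, smul_eq_mul]
      · simp only [h]
        rw [← htr', map_mul (qHom hF L n), hττ, mul_comm]
    have hnd : Nondeg h := fun x hx => (traceForm_nondegenerate F L).1 x fun z => by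
      have := hx (qHom hF L n z)
      simp only [h, hττ] at this
      rwa [Algebra.traceForm_apply]
    obtain ⟨Φ, hΦu, -, hΦd⟩ := exists_transfer hF H hnd (n := n) (FiniteField.finrank_extension F p n)
    let T : Lˣ →* Module.End F L :=
      { toFun := fun γ => LinearMap.mulLeft F (γ : L)
        map_one' := by ext v; simp
        map_mul' := fun a b => by ext v; simp [mul_assoc] }
    let ω : Lˣ →* Matrix (Fin n) (Fin n) F := (Φ : Module.End F L →* Matrix (Fin n) (Fin n) F).comp T
    let Γ : Subgroup Lˣ := (powMonoidHom (q ^ n + 1) : Lˣ →* Lˣ).ker ⊓ (Matrix.detMonoidHom.comp ω).ker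
    have hΓ : ∀ γ : Γ, IsUnitary q (ω γ) := fun γ => hΦu _ fun x y => by
      show Algebra.trace F L (((γ : Lˣ) : L) * x * qHom hF L n (((γ : Lˣ) : L) * y)) = _
      have h1 : ((γ : Lˣ) : L) * ((γ : Lˣ) : L) ^ q ^ n = 1 := by
        rw [← pow_succ', ← Units.val_pow_eq_pow_val]
        exact congrArg Units.val (MonoidHom.mem_ker.1 γ.2.1)
      rw [map_mul (qHom hF L n)]
      show Algebra.trace F L (((γ : Lˣ) : L) * x * (((γ : Lˣ) : L) ^ q ^ n * qHom hF L n y)) = _
      rw [mul_mul_mul_comm, h1, one_mul]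
    obtain ⟨τ, hτ⟩ := IsCyclic.exists_generator (α := Γ)
    let sT : Cfsg.SU n F q := suOfUnitary (ω τ) (hΓ τ) (MonoidHom.mem_ker.1 τ.2.2)
    refine ⟨sT, hcop Γ ω τ sT rfl, ?_⟩
    intro g f f' hf hfm hf' hfm' hf0 hdeg ⟨u, hu, huf⟩ hcases
    obtain ⟨-, rfl, j, hj, hjn⟩ : Odd n ∧ f' = f ∧ ∃ j, (mat g).charpoly = f ^ j ∧ f.natDegree * j = n :=
      hcases.resolve_left (fun ⟨k, _, hk⟩ => by obtain ⟨a, ha⟩ := ho; omega)
    haveI : Fact (Irreducible f') := ⟨hf⟩
    haveI : Module.Finite F (AdjoinRoot f') := (AdjoinRoot.powerBasis hf.ne_zero).finite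
    haveI : Finite (AdjoinRoot f') := Module.finite_of_finite F
    obtain ⟨ι⟩ : Nonempty (AdjoinRoot f' →ₐ[F] L) := FiniteField.nonempty_algHom_of_finrank_dvd (by
      rw [FiniteField.finrank_extension, (AdjoinRoot.powerBasis hf.ne_zero).finrank, AdjoinRoot.powerBasis_dim]
      exact Dvd.intro j hjn)
    have hroot : aeval (AdjoinRoot.root f') f' = 0 := by rw [AdjoinRoot.aeval_eq, AdjoinRoot.mk_self]
    obtain ⟨-, hsc⟩ := selfconj_root hF hf hf0 (coeff_rev_root hF hroot hf0 hu huf).2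
    have hsc' := congrArg ι (hsc n (Dvd.intro j hjn) ho)
    rw [map_mul, map_pow, map_one] at hsc'
    set α := ι (AdjoinRoot.root f')
    have hfα : aeval α f' = 0 := by rw [aeval_algHom_apply, hroot, map_zero]
    have hα : α ≠ 0 := (coeff_rev_root hF hfα hf0 hu huf).1
    let γ : Lˣ := Units.mk0 α hα
    have hγ : γ ∈ Γ := by
      refine ⟨MonoidHom.mem_ker.2 (Units.ext ?_), MonoidHom.mem_ker.2 ?_⟩
      · show ((γ ^ (q ^ n + 1) : Lˣ) : L) = 1
        rw [Units.val_pow_eq_pow_val, pow_succ]; exact hsc'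
      · show (Φ (T γ)).det = 1
        rw [hΦd]
        let bL : Module.Basis (Fin n) F L := Module.finBasisOfFinrankEq F L (FiniteField.finrank_extension F p n)
        show LinearMap.det (LinearMap.mulLeft F α) = 1
        rw [show LinearMap.det (LinearMap.mulLeft F α) = Algebra.norm F α from (Algebra.norm_apply F α).symm,
          Algebra.norm_eq_matrix_det bL α]
        obtain ⟨k, hk, hk'⟩ := charpoly_eq_pow_of_aeval_pow (N := 1) (M := Algebra.leftMulMatrix bL α) hf hfm (by
          rw [pow_one, aeval_algHom_apply, hfα, map_zero])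
        have : k = j := Nat.eq_of_mul_eq_mul_left hf.natDegree_pos (hk'.trans hjn.symm)
        rw [Matrix.det_eq_sign_charpoly_coeff, hk, this, ← hj, ← Matrix.det_eq_sign_charpoly_coeff]
        exact (g : Matrix.SpecialLinearGroup (Fin n) F).2
    obtain ⟨i, hi⟩ := Submonoid.mem_powers_iff _ _ |>.1 ((mem_powers_iff_mem_zpowers).2 (hτ ⟨γ, hγ⟩))
    obtain ⟨c, hc⟩ := (π_eq_one hF hn (sT ^ orderOf (π n F q sT))).1 (by rw [map_pow, pow_orderOf_eq_one])
    rw [mat_pow] at hc
    change Φ (T τ) ^ _ = c • 1 at hc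
    rw [← map_pow, ← map_pow, ← map_one Φ, ← map_smul] at hc
    have hc' := Φ.injective hc
    have hγS : T (γ ^ orderOf (π n F q sT)) = (c ^ i) • 1 := by
      have : γ = (τ : Lˣ) ^ i := by rw [← SubgroupClass.coe_pow, hi]
      rw [this, ← pow_mul, mul_comm, pow_mul, map_pow, hc', _root_.smul_pow, one_pow]
    have hb := LinearMap.congr_fun hγS 1
    simp only [T, MonoidHom.coe_mk, OneHom.coe_mk, LinearMap.mulLeft_apply, mul_one, LinearMap.smul_apply,
      Module.End.one_apply, Units.val_pow_eq_pow_val] at hb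
    rw [← Algebra.algebraMap_eq_smul_one] at hb
    refine ⟨c ^ i, ?_, ?_⟩ <;>
    · rw [minpoly.eq_of_irreducible_of_monic hf hfα hfm]
      refine minpoly.dvd F _ ?_
      rw [map_sub, map_pow, aeval_X, aeval_C, show α = (γ : L) from rfl, hb, sub_self]

end


/-- Let F be a finite field with q² elements, q = p^a, n ≥ 3 with (n, q) ≠ (3, 2), L = PSU(n, q) realised over F, and let r be a prime dividing q + 1 and not dividing n. Then for every m the direct product L × L × L × (ℤ/r)^m has the same set of element orders as L × L × L; and if n − 1 is not a power of p, then already L × L × (ℤ/r)^m has the same set of element orders as L × L. -/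
theorem result {F : Type*} [Field F] [Fintype F] (p a n q r m : ℕ) (hp : p.Prime) (ha : 1 ≤ a) (hq : q = p ^ a) (hF : Fintype.card F = q ^ 2)
    (hn : 3 ≤ n) (hn3 : ¬ (n = 3 ∧ q = 2)) (hr : r.Prime) (hrq : r ∣ q + 1) (hrn : ¬ r ∣ n) :
    Set.range (orderOf : Cfsg.PSU n F q × Cfsg.PSU n F q × Cfsg.PSU n F q × Multiplicative (Fin m → ZMod r) → ℕ) = Set.range (orderOf : Cfsg.PSU n F q × Cfsg.PSU n F q × Cfsg.PSU n F q → ℕ) ∧
    ((¬ ∃ j : ℕ, n - 1 = p ^ j) →
      Set.range (orderOf : Cfsg.PSU n F q × Cfsg.PSU n F q × Multiplicative (Fin m → ZMod r) → ℕ) = Set.range (orderOf : Cfsg.PSU n F q × Cfsg.PSU n F q → ℕ)) := by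
  classical
  subst hq
  haveI := Fact.mk hp
  haveI := Fact.mk hr
  haveI hchar : CharP F p := by
    refine CharP.charP_iff_prime_eq_zero hp |>.2 ?_
    obtain ⟨p', hp'⟩ := CharP.exists F
    obtain ⟨k, hpp, hk⟩ := FiniteField.card F p'
    have : p = p' := (Nat.prime_dvd_prime_iff_eq hp hpp).1 (hp.dvd_of_dvd_pow (show p ∣ p' ^ (k : ℕ) by
      rw [← hk, hF, ← pow_mul]; exact dvd_pow_self p (by omega)))
    rw [this, CharP.cast_eq_zero]
  have hrp : r ≠ p := by
    rintro rfl
    have h2 := Nat.dvd_sub hrq (dvd_pow_self r (show a ≠ 0 by omega))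
    rw [Nat.add_sub_cancel_left] at h2
    exact hr.ne_one (Nat.dvd_one.1 h2)
  obtain ⟨ζ, hζ⟩ : ∃ ζ : F, orderOf ζ = r := by
    obtain ⟨u, hu⟩ := exists_prime_orderOf_dvd_card' (G := Fˣ) r (by
      rw [Unitary.card_units hF]; exact hrq.trans (q_succ_dvd _))
    exact ⟨u, by rw [orderOf_units, hu]⟩
  have hn2 : 2 ≤ n := by omega
  haveI : Nonempty (Fin n) := ⟨⟨0, by omega⟩⟩
  set e := Nat.clog p n - 1 with he
  have hclog : 1 ≤ Nat.clog p n := Nat.clog_pos hp.one_lt hn2
  have he1 : n ≤ p ^ (e + 1) := by rw [he, Nat.sub_add_cancel hclog]; exact Nat.le_pow_clog hp.one_lt n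
  have he2 : p ^ e < n := (Nat.lt_clog_iff_pow_lt hp.one_lt).1 (by omega)
  obtain ⟨sT, hScop, hS⟩ := exists_torus hF (p := p) hn2
  have hSco : Nat.Coprime (orderOf (π n F (p ^ a) sT)) (p ^ (e + 1)) := hScop.pow_right _
  have hdich : ∀ x : Cfsg.PSU n F (p ^ a), Up r x ∨
      orderOf x ∣ orderOf (π n F (p ^ a) sT) * p ^ (e + 1) := by
    intro x
    obtain ⟨g, rfl⟩ := QuotientGroup.mk'_surjective _ x
    rcases unitary_dichotomy hF (g := mat g) (by omega) ((isUnitary_iff_adj hF _).1 (g.2 : IsUnitary (p ^ a) (mat g))) with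
      ⟨E, h1, h2, h3, h4, h5⟩ | ⟨f, f', hf, hfm, hf', hfm', hf0, hdeg, hrev, hcases⟩
    · left
      obtain ⟨w, hw, hwc⟩ := exists_torsion hF hn2 hr hrn hrq hζ h1 h2 h3 h4
      refine up_of_commute hr (h := π n F (p ^ a) w) ?_ hw
      have hcom : Commute g w := mat_injective (hwc _ h5).symm.eq
      exact hcom.map _
    · right
      obtain ⟨c, hfc, hfc'⟩ := hS g f f' hf hfm hf' hfm' hf0 hdeg hrev hcases
      set S := orderOf (π n F (p ^ a) sT)
      obtain ⟨N, hN, hNdvd⟩ : ∃ N, N ≤ p ^ (e + 1) ∧ (mat g).charpoly ∣ (X ^ S - C c) ^ N := by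
        rcases hcases with ⟨j, hj, hjn⟩ | ⟨-, rfl, j, hj, hjn⟩
        · refine ⟨2 * j, ?_, ?_⟩
          · have : j ≤ f.natDegree * j := Nat.le_mul_of_pos_left j hf.natDegree_pos
            omega
          · rw [hj, pow_mul]
            refine pow_dvd_pow_of_dvd ?_ j
            rw [sq]; exact mul_dvd_mul hfc hfc'
        · refine ⟨j, ?_, ?_⟩
          · have : j ≤ f'.natDegree * j := Nat.le_mul_of_pos_left j hf.natDegree_pos
            omega
          · rw [hj]; exact pow_dvd_pow_of_dvd hfc j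
      have h0 : (mat g ^ S - algebraMap F _ c) ^ p ^ (e + 1) = 0 := by
        refine pow_eq_zero_of_le hN ?_
        have h := Polynomial.aeval_eq_zero_of_dvd_aeval_eq_zero hNdvd (Matrix.aeval_self_charpoly (mat g))
        rwa [map_pow, map_sub, map_pow, aeval_X, aeval_C] at h
      refine orderOf_dvd_iff_pow_eq_one.2 ?_
      rw [← map_pow, π_eq_one hF hn2]
      refine ⟨c ^ p ^ (e + 1), ?_⟩
      rw [sub_pow_char_pow_of_commute (p := p) (n := e + 1) (Algebra.commute_algebraMap_right _ _), sub_eq_zero,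
        ← map_pow, ← pow_mul, Algebra.algebraMap_eq_smul_one] at h0
      rw [mat_pow]
      exact h0
  have hE : ∀ x : Multiplicative (Fin m → ZMod r), x ^ r = 1 := fun x => by
    apply Multiplicative.toAdd.injective
    rw [toAdd_pow, toAdd_one]
    funext i
    rw [Pi.smul_apply, nsmul_eq_mul, ZMod.natCast_self, zero_mul]; rfl
  obtain ⟨U, _, hU, -, -, -, -⟩ := exists_unipotent hF (e := e) hn2 le_rfl he2 he1
  obtain ⟨U', E, -, hE1, hE2, hE3, hE4⟩ := exists_unipotent hF (p := p) (e := Nat.clog p (n - 1) - 1) hn2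
    (show n - 1 ≤ n by omega)
    ((Nat.lt_clog_iff_pow_lt hp.one_lt).1 (by have := Nat.clog_pos hp.one_lt (show 2 ≤ n - 1 by omega); omega))
    (by
      rw [Nat.sub_add_cancel (Nat.clog_pos hp.one_lt (show 2 ≤ n - 1 by omega))]
      exact Nat.le_pow_clog hp.one_lt _)
  obtain ⟨hne0, hne1⟩ := hE4 (by omega)
  obtain ⟨w, hw, -⟩ := exists_torsion hF hn2 hr hrn hrq hζ hE1 hne0 hne1 hE2
  refine ⟨range_eq_three hE hw (s := π n F (p ^ a) sT) (u := π n F (p ^ a) U) (by rw [hU]; exact hSco)
    (fun x => by rw [hU]; exact hdich x), fun hnp => ?_⟩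
  have he3 : p ^ e < n - 1 := lt_of_le_of_ne (by omega) (fun h => hnp ⟨e, h.symm⟩)
  obtain ⟨U'', E', hU'', hF1, hF2, hF3, hF4⟩ := exists_unipotent hF (e := e) hn2 (show n - 1 ≤ n by omega) he3
    (by omega)
  obtain ⟨hne0', hne1'⟩ := hF4 (by omega)
  obtain ⟨w', hw', hwc'⟩ := exists_torsion hF hn2 hr hrn hrq hζ hF1 hne0' hne1' hF2
  have hcomm : Commute (π n F (p ^ a) U'') (π n F (p ^ a) w') := by
    have h : Commute U'' w' := mat_injective (hwc' _ hF3).symm.eq
    exact h.map _
  have hord : orderOf (π n F (p ^ a) U'' * π n F (p ^ a) w') = p ^ (e + 1) * r := by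
    rw [hcomm.orderOf_mul_eq_mul_orderOf_of_coprime, hU'', hw']
    rw [hU'', hw']
    exact Nat.Coprime.pow_left _ ((Nat.coprime_primes hp hr).2 (Ne.symm hrp))
  exact range_eq_two hE (s := π n F (p ^ a) sT) (u := π n F (p ^ a) U'' * π n F (p ^ a) w') (P := p ^ (e + 1))
    (hord ▸ dvd_mul_right _ _) (hord ▸ dvd_mul_left _ _) hSco hdich

end Cfsg.Agent.S2511
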