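import Cfsg.Statements.S2512
import Cfsg.Agent.EqLemmas
import Cfsg.Agent.Lib.GLOrder.SympSpectrum
import Cfsg.Agent.S2510

open Cfsg.Agent Cfsg.Agent.GLOrder
-- import your own Cfsg.Agent.* helpers here

set_option autoImplicit false
open Cfsg

namespace Cfsg.Agent.S2512

/-- Let F be a finite field of odd order q = p^a, n ≥ 2 (with q ≥ 3 automatic), and L = PSp(2n, F). Then for every m the direct product L × L × L × (ℤ/2)^m has the same set of element orders as L × L × L; and if 2n − 1 is not a power of p, then already L × L × (ℤ/2)^m has the same set of element orders as L × L. -/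
theorem result {F : Type*} [Field F] [Fintype F] (p a n m : ℕ) (hp : p.Prime) (ha : 1 ≤ a) (hF : Fintype.card F = p ^ a) (hodd : Odd (Fintype.card F))
    (hn : 2 ≤ n) :
    Set.range (orderOf : Cfsg.PSp n F × Cfsg.PSp n F × Cfsg.PSp n F × Multiplicative (Fin m → ZMod 2) → ℕ) = Set.range (orderOf : Cfsg.PSp n F × Cfsg.PSp n F × Cfsg.PSp n F → ℕ) ∧
    ((¬ ∃ j : ℕ, 2 * n - 1 = p ^ j) →
      Set.range (orderOf : Cfsg.PSp n F × Cfsg.PSp n F × Multiplicative (Fin m → ZMod 2) → ℕ) = Set.range (orderOf : Cfsg.PSp n F × Cfsg.PSp n F → ℕ)) := by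
  classical
  haveI := Fact.mk hp
  haveI : Fact (Nat.Prime 2) := ⟨Nat.prime_two⟩
  haveI hchar : CharP F p := by
    refine CharP.charP_iff_prime_eq_zero hp |>.2 ?_
    obtain ⟨p', hp'⟩ := CharP.exists F
    obtain ⟨k, hpp, hk⟩ := FiniteField.card F p'
    have : p = p' := (Nat.prime_dvd_prime_iff_eq hp hpp).1 (hp.dvd_of_dvd_pow (show p ∣ p' ^ (k : ℕ) by
      rw [← hk, hF]; exact dvd_pow_self p (by omega)))
    rw [this, CharP.cast_eq_zero]
  have hpodd : Odd p := by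
    rw [hF] at hodd
    exact (Nat.odd_pow_iff (by omega)).1 hodd
  have h2 : (2 : F) ≠ 0 := by
    intro h
    have h' : ((2 : ℕ) : F) = 0 := by exact_mod_cast h
    rw [CharP.cast_eq_zero_iff F p, Nat.prime_dvd_prime_iff_eq hp Nat.prime_two] at h'
    rw [h'] at hpodd
    exact (Nat.not_odd_iff_even.2 even_two) hpodd
  set Q := Fintype.card F ^ n with hQ
  have hQodd : Odd Q := hodd.pow
  have hQ1 : 1 ≤ Q := Nat.one_le_pow _ _ Fintype.card_pos
  have hpQ : p ∣ Q := by rw [hQ, hF, ← pow_mul]; exact dvd_pow_self p (by positivity)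
  have hminus : HasOrd F n (Q - 1) := dvd_torus_hasOrd (by omega) (Or.inl dvd_rfl)
  have hplus : HasOrd F n (Q + 1) := dvd_torus_hasOrd (by omega) (Or.inr dvd_rfl)
  -- half of the order of a torus
  have hhalf : ∀ W : ℕ, Even W → HasOrd F n W → ∃ g : Cfsg.PSp n F, orderOf g = W / 2 := by
    intro W hW h
    obtain ⟨E, hE⟩ := h
    refine E.exists_psp fun k hk => ?_
    obtain ⟨w, rfl⟩ := hW
    have hk2 : E.val ^ (k * 2) = 1 := by
      rw [pow_mul]; rcases hk with hk | hk <;> simp [hk]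
    obtain ⟨v, hv⟩ := hE.trans (orderOf_dvd_of_pow_eq_one hk2)
    exact ⟨v, by rw [show (w + w) / 2 = w by omega]; nlinarith⟩
  obtain ⟨D, H, hD, hH, ⟨gD, hgD⟩, ⟨gH, hgH⟩, hcase, hpH⟩ : ∃ D H : ℕ, 2 ∣ D ∧ Odd H ∧
      (∃ g : Cfsg.PSp n F, orderOf g = D) ∧ (∃ g : Cfsg.PSp n F, orderOf g = H) ∧
      (∀ a : ℕ, Odd a → (a ∣ Q - 1 ∨ a ∣ Q + 1) → a ∣ D ∨ a ∣ H) ∧ Nat.Coprime H p := by
    obtain ⟨w, hw⟩ := hQodd
    have hdvd2 : ∀ a W : ℕ, Odd a → Even W → a ∣ W → a ∣ W / 2 := by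
      intro a W ha hW h
      obtain ⟨v, rfl⟩ := hW
      rw [show (v + v) / 2 = v by omega]
      rw [← two_mul] at h
      exact (Nat.coprime_two_right.2 ha).dvd_of_dvd_mul_left h
    have hco : ∀ H : ℕ, (H ∣ Q - 1 ∨ H ∣ Q + 1) → Nat.Coprime H p := by
      intro H hH
      rw [Nat.coprime_comm, hp.coprime_iff_not_dvd]
      intro h
      rcases hH with h' | h'
      · have h1 := Nat.dvd_sub hpQ (h.trans h')
        rw [Nat.sub_sub_self hQ1] at h1
        exact hp.ne_one (Nat.dvd_one.1 h1)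
      · exact hp.ne_one (Nat.dvd_one.1 ((Nat.dvd_add_right hpQ).1 (h.trans h')))
    have e1 : Even (Q - 1) := ⟨w, by omega⟩
    have e2 : Even (Q + 1) := ⟨w + 1, by omega⟩
    have d1 : (Q - 1) / 2 = w := by omega
    have d2 : (Q + 1) / 2 = w + 1 := by omega
    rcases Nat.even_or_odd w with hw2 | hw2
    · refine ⟨(Q - 1) / 2, (Q + 1) / 2, d1 ▸ hw2.two_dvd, d2 ▸ hw2.add_one, hhalf _ e1 hminus,
        hhalf _ e2 hplus, fun a ha h => h.imp (hdvd2 a _ ha e1) (hdvd2 a _ ha e2),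
        hco _ (Or.inr (Nat.div_dvd_of_dvd e2.two_dvd))⟩
    · refine ⟨(Q + 1) / 2, (Q - 1) / 2, d2 ▸ hw2.add_one.two_dvd, d1 ▸ hw2, hhalf _ e2 hplus,
        hhalf _ e1 hminus, fun a ha h => h.symm.imp (hdvd2 a _ ha e2) (hdvd2 a _ ha e1),
        hco _ (Or.inl (Nat.div_dvd_of_dvd e1.two_dvd))⟩
  -- the dichotomy
  have hdich : ∀ y : Cfsg.PSp n F, S2510.Up 2 y ∨ orderOf y ∣ orderOf gH ∨
      ∃ j, 2 * n - 1 = p ^ j ∧ orderOf y ∣ p ^ (j + 1) := by
    intro y
    rcases Nat.even_or_odd (orderOf y) with he | ho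
    · exact Or.inl ⟨y, dvd_rfl, he.two_dvd⟩
    obtain ⟨x, hx⟩ := exists_sp_orderOf (Or.inl ho) rfl (y := y)
    rcases odd_order_cases p h2 hn ho hx with ⟨g, hg1, hg2⟩ | h | h | h
    · exact Or.inl ⟨g, hg1, hg2⟩
    · exact (hcase _ ho (Or.inl h)).imp (fun hd => ⟨gD, hgD ▸ hd, hgD ▸ hD⟩)
        fun hd => Or.inl (hgH ▸ hd)
    · exact (hcase _ ho (Or.inr h)).imp (fun hd => ⟨gD, hgD ▸ hd, hgD ▸ hD⟩)
        fun hd => Or.inl (hgH ▸ hd)
    · exact Or.inr (Or.inr h)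
  obtain ⟨z, hz⟩ : ∃ z : Cfsg.PSp n F, orderOf z = 2 :=
    ⟨gD ^ (orderOf gD / 2), orderOf_pow_orderOf_div (orderOf_pos gD).ne' (hgD ▸ hD)⟩
  have hE : ∀ x : Multiplicative (Fin m → ZMod 2), x ^ 2 = 1 := fun x => by
    apply Multiplicative.toAdd.injective
    rw [toAdd_pow, toAdd_one]
    funext i
    rw [Pi.smul_apply, nsmul_eq_mul, ZMod.natCast_self, zero_mul]; rfl
  refine ⟨?_, fun hnp => ?_⟩
  · by_cases hj : ∃ j, 2 * n - 1 = p ^ j
    · obtain ⟨j, hj⟩ := hj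
      obtain ⟨u, hu⟩ := ((hasOrd_unipotent F p h2 (k := n) (j := j) (by omega)).exists_psp_orderOf
        (Or.inl hpodd.pow))
      refine S2510.range_eq_three hE (s := gH) (u := u) hz ?_ fun y => ?_
      · rw [hu, hgH]; exact hpH.pow_right _
      · refine (hdich y).imp_right fun h => ?_
        rcases h with h | ⟨i, hi, hy⟩
        · exact h.mul_right _
        · have : i = j := Nat.pow_right_injective hp.two_le (hi.symm.trans hj)
          rw [hu, ← this]
          exact hy.mul_left _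
    · refine S2510.range_eq_three hE (s := gH) (u := 1) hz (by simp) fun y => ?_
      refine (hdich y).imp_right fun h => ?_
      rcases h with h | ⟨i, hi, -⟩
      · simpa using h
      · exact absurd ⟨i, hi⟩ hj
  · refine S2510.range_eq_two hE (s := gH) (u := z) (P := 1) (one_dvd _) (hz ▸ dvd_rfl)
      (Nat.coprime_one_right _) fun y => ?_
    refine (hdich y).imp_right fun h => ?_
    rcases h with h | ⟨i, hi, -⟩
    · simpa using h
    · exact absurd ⟨i, hi⟩ hnp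

end Cfsg.Agent.S2512
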