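import Cfsg.Statements.S2513
import Cfsg.Agent.Lib.LinSpec.Basic

set_option autoImplicit false
open Cfsg
open scoped MatrixGroups

namespace Cfsg.Agent.S2513

/-- Let F be the field with two elements, n ≥ 2, L = PSL(n, F) and k₀ = ⌊(n + 3)/2⌋. Then for every k ≥ k₀ the direct product of k copies of L has the same set of element orders as the direct product of k₀ copies of L. -/
theorem result {F : Type*} [Field F] [Fintype F] (hF : Fintype.card F = 2) (n k : ℕ) (hn : 2 ≤ n) (hk : (n + 3) / 2 ≤ k) :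
    Set.range (orderOf : (Fin k → Matrix.ProjectiveSpecialLinearGroup (Fin n) F) → ℕ) = Set.range (orderOf : (Fin ((n + 3) / 2) → Matrix.ProjectiveSpecialLinearGroup (Fin n) F) → ℕ) := by
  classical
  have hF' : Nat.card F = 2 := by rw [Nat.card_eq_fintype_card, hF]
  have hne1 : ∀ r : F, r ≠ 0 → r = 1 := fun r hr => by
    have := FiniteField.pow_card_sub_one_eq_one r hr
    rwa [hF, show 2 - 1 = 1 from rfl, pow_one] at this
  have hcent : Subgroup.center (Matrix.SpecialLinearGroup (Fin n) F) = ⊥ := by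
    refine (Subgroup.eq_bot_iff_forall _).2 fun A hA => ?_
    obtain ⟨r, hr, hrA⟩ := Matrix.SpecialLinearGroup.mem_center_iff.1 hA
    have hr1 : r = 1 := hne1 r (by rintro rfl; rw [Fintype.card_fin, zero_pow (by omega)] at hr; exact zero_ne_one hr)
    apply Subtype.ext
    rw [← hrA, hr1]
    simp
  let π := QuotientGroup.mk' (Subgroup.center (Matrix.SpecialLinearGroup (Fin n) F))
  have hπinj : Function.Injective π := by
    refine (MonoidHom.ker_eq_bot_iff π).1 ?_
    rw [QuotientGroup.ker_mk', hcent]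
  have horder : ∀ g : GL (Fin n) F, ∃ z : Matrix.ProjectiveSpecialLinearGroup (Fin n) F, orderOf z = orderOf g := fun g => by
    let s : Matrix.SpecialLinearGroup (Fin n) F :=
      ⟨(g : Matrix (Fin n) (Fin n) F), hne1 _ (Matrix.GeneralLinearGroup.det g).ne_zero⟩
    refine ⟨π s, ?_⟩
    rw [orderOf_injective π hπinj s, ← orderOf_injective Matrix.SpecialLinearGroup.toGL
      Matrix.SpecialLinearGroup.toGL_injective s]
    congr 1
    exact Units.ext rfl
  have hd : ∀ i : Fin (n - n / 2), ∃ z : Matrix.ProjectiveSpecialLinearGroup (Fin n) F,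
      orderOf z = 2 ^ (n / 2 + 1 + (i : ℕ)) - 1 := fun i => by
    obtain ⟨g, hg⟩ := LinSpec.exists_gl_orderOf (F := F) (n := n) (d := n / 2 + 1 + (i : ℕ)) (by omega) (by omega)
    rw [hF'] at hg
    rw [← hg]
    exact horder g
  choose z hz using hd
  obtain ⟨b, hb⟩ := Nat.Prime.exists_orderOf_eq_pow_factorization_exponent
    (Matrix.ProjectiveSpecialLinearGroup (Fin n) F) Nat.prime_two
  let y : Fin ((n + 3) / 2) → Matrix.ProjectiveSpecialLinearGroup (Fin n) F := fun i =>
    if h : (i : ℕ) < n - n / 2 then z ⟨i, h⟩ else b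
  have hy : ∀ i, orderOf (y i) ∣ orderOf y := fun i => orderOf_map_dvd (Pi.evalMonoidHom _ i) y
  refine LinSpec.orderOf_range_pi_eq hk y fun g => ?_
  rw [Nat.dvd_iff_prime_pow_dvd_dvd]
  intro p e hp hpe
  rcases Nat.eq_zero_or_pos e with rfl | he
  · simp
  by_cases hp2 : p = 2
  · subst hp2
    have hlt : n - n / 2 < (n + 3) / 2 := by omega
    refine dvd_trans ?_ (hy ⟨n - n / 2, hlt⟩)
    simp only [y, lt_irrefl, dite_false, hb]
    refine pow_dvd_pow 2 ?_
    exact (Nat.Prime.pow_dvd_iff_le_factorization hp Monoid.exponent_ne_zero_of_finite).1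
      (hpe.trans (Monoid.order_dvd_exponent g))
  · obtain ⟨x, hx⟩ := LinSpec.exists_orderOf_eq_of_dvd hpe
    obtain ⟨s, rfl⟩ := QuotientGroup.mk'_surjective _ x
    have hs : orderOf (s : Matrix (Fin n) (Fin n) F) = p ^ (e - 1 + 1) := by
      rw [Nat.sub_add_cancel he, ← hx, orderOf_injective π hπinj s]
      exact orderOf_injective (Cfsg.slToMat n F) (fun a b h => Subtype.ext h) s
    have hpF : (p : F) ≠ 0 := by
      haveI : CharP F 2 := by
        refine CharP.charP_iff_prime_eq_zero Nat.prime_two |>.2 ?_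
        have := Nat.cast_card_eq_zero F
        rwa [hF] at this
      rw [Ne, CharP.cast_eq_zero_iff F 2 p]
      exact fun h => hp2 ((Nat.prime_dvd_prime_iff_eq Nat.prime_two hp).1 h).symm
    obtain ⟨d, hd1, hdn, hdvd⟩ := LinSpec.exists_dvd_card_pow_sub_one hp hpF _ hs
    rw [Nat.sub_add_cancel he, hF'] at hdvd
    have h2 : d * (n / d) ≤ n := Nat.mul_div_le n d
    have h3 : n < d * (n / d + 1) := Nat.lt_mul_div_succ n (by omega)
    have h4 : d ≤ d * (n / d) := Nat.le_mul_of_pos_right d (Nat.div_pos hdn (by omega))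
    rw [Nat.mul_add, Nat.mul_one] at h3
    have hi : d * (n / d) - (n / 2 + 1) < n - n / 2 := by omega
    have hi2 : d * (n / d) - (n / 2 + 1) < (n + 3) / 2 := by omega
    refine dvd_trans (hdvd.trans ?_) (hy ⟨_, hi2⟩)
    simp only [y, dif_pos hi, hz]
    refine (Nat.pow_sub_one_dvd_pow_sub_one 2 (Dvd.intro (n / d) rfl)).trans ?_
    rw [show n / 2 + 1 + (d * (n / d) - (n / 2 + 1)) = d * (n / d) by omega]

end Cfsg.Agent.S2513
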