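import Cfsg.Statements.S2514
import Cfsg.Agent.Lib.LinSpec.Basic

set_option autoImplicit false
set_option linter.style.haveILetI false
set_option linter.unusedSimpArgs false
open Cfsg Cfsg.Agent.LinSpec

namespace Cfsg.Agent.S2514

/-- Every element order divides one that is maximal under divisibility. -/
theorem exists_max_orderOf {X : Type*} [Group X] [Finite X] (g : X) :
    ∃ b, b ∈ Set.range (orderOf : X → ℕ) ∧
      (∀ m ∈ Set.range (orderOf : X → ℕ), b ∣ m → m = b) ∧ orderOf g ∣ b := by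
  have hfin : {b | b ∈ Set.range (orderOf : X → ℕ) ∧ orderOf g ∣ b}.Finite :=
    (Set.finite_range _).subset fun b hb => hb.1
  obtain ⟨b, hb⟩ := hfin.exists_maximalFor id _ ⟨_, ⟨g, rfl⟩, dvd_rfl⟩
  refine ⟨b, hb.1.1, fun m hm hbm => ?_, hb.1.2⟩
  obtain ⟨x, rfl⟩ := hm
  have hle : b ≤ orderOf x := Nat.le_of_dvd (orderOf_pos x) hbm
  exact le_antisymm (hb.2 ⟨⟨x, rfl⟩, hb.1.2.trans hbm⟩ hle) hle

/-- For a finite group X write μ(X) for the set of element orders of X that are maximal under divisibility. Let G and H be finite groups and k ≥ 1 such that μ(H) ⊆ μ(G) and μ(G) has fewer than k elements outside μ(H). Then the direct product of k copies of G has the same set of element orders as the direct product of k − 1 copies of G with H. -/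
theorem result {G H : Type*} [Group G] [Finite G] [Group H] [Finite H] (k : ℕ) (hk : 1 ≤ k)
    (hsub : {n : ℕ | n ∈ Set.range (orderOf : H → ℕ) ∧ ∀ m ∈ Set.range (orderOf : H → ℕ), n ∣ m → m = n} ⊆ {n : ℕ | n ∈ Set.range (orderOf : G → ℕ) ∧ ∀ m ∈ Set.range (orderOf : G → ℕ), n ∣ m → m = n})
    (hfew : ({n : ℕ | n ∈ Set.range (orderOf : G → ℕ) ∧ ∀ m ∈ Set.range (orderOf : G → ℕ), n ∣ m → m = n} \ {n : ℕ | n ∈ Set.range (orderOf : H → ℕ) ∧ ∀ m ∈ Set.range (orderOf : H → ℕ), n ∣ m → m = n}).ncard < k) :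
    Set.range (orderOf : (Fin k → G) → ℕ) = Set.range (orderOf : (Fin (k - 1) → G) × H → ℕ) := by
  classical
  obtain ⟨j, rfl⟩ : ∃ j, k = j + 1 := ⟨k - 1, by omega⟩
  have hmax := fun (x : G) => exists_max_orderOf x
  have hmax' := fun (x : H) => exists_max_orderOf x
  ext m
  show m ∈ Set.range (orderOf : (Fin (j + 1) → G) → ℕ) ↔ m ∈ Set.range (orderOf : (Fin j → G) × H → ℕ)
  constructor
  · rintro ⟨x, rfl⟩
    choose b hbr hbm hbd using fun i => hmax (x i)
    choose g hg using hbr
    by_cases hH : ∃ i, b i ∈ Set.range (orderOf : H → ℕ) ∧ ∀ m ∈ Set.range (orderOf : H → ℕ), b i ∣ m → m = b i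
    · obtain ⟨i, ⟨h, hh⟩, -⟩ := hH
      refine exists_orderOf_eq_of_dvd (y := (((fun l => g (i.succAbove l)), h) : (Fin j → G) × H)) ?_
      refine orderOf_dvd_iff_pow_eq_one.2 (funext fun l => orderOf_dvd_iff_pow_eq_one.1 ((hbd l).trans ?_))
      rcases Fin.eq_self_or_eq_succAbove i l with rfl | ⟨l', rfl⟩
      · rw [← hh]; exact orderOf_map_dvd (MonoidHom.snd (Fin j → G) H) _
      · rw [← hg]; exact orderOf_map_dvd ((Pi.evalMonoidHom _ l').comp (MonoidHom.fst (Fin j → G) H))
          (((fun l => g (i.succAbove l)), h) : (Fin j → G) × H)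
    · push Not at hH
      obtain ⟨i, i', hne, heq⟩ : ∃ i i', i ≠ i' ∧ b i = b i' := by
        by_contra hcon
        push Not at hcon
        have hinj : Function.Injective b := fun a c hac => by
          by_contra hne
          exact hcon a c hne hac
        refine absurd hfew (not_lt.2 ?_)
        rw [← Nat.card_fin (j + 1), ← Set.ncard_range_of_injective hinj]
        refine Set.ncard_le_ncard ?_ ((Set.finite_range _).subset (fun _ h => h.1.1))
        rintro _ ⟨i, rfl⟩
        refine ⟨⟨⟨g i, hg i⟩, hbm i⟩, fun hc => ?_⟩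
        obtain ⟨m, hm, hbm', hne'⟩ := hH i hc.1
        exact hne' (hc.2 m hm hbm')
      refine exists_orderOf_eq_of_dvd (y := (((fun l => g (i.succAbove l)), 1) : (Fin j → G) × H)) ?_
      refine orderOf_dvd_iff_pow_eq_one.2 (funext fun l => orderOf_dvd_iff_pow_eq_one.1 ((hbd l).trans ?_))
      have main : ∀ l', b (i.succAbove l') ∣
          orderOf (((fun l => g (i.succAbove l)), 1) : (Fin j → G) × H) := fun l' => by
        rw [← hg]; exact orderOf_map_dvd ((Pi.evalMonoidHom _ l').comp (MonoidHom.fst (Fin j → G) H))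
          (((fun l => g (i.succAbove l)), 1) : (Fin j → G) × H)
      rcases Fin.eq_self_or_eq_succAbove i l with rfl | ⟨l', rfl⟩
      · rcases Fin.eq_self_or_eq_succAbove l i' with rfl | ⟨l'', rfl⟩
        · exact absurd rfl hne
        · rw [heq]; exact main l''
      · exact main l'
  · rintro ⟨⟨f, h⟩, rfl⟩
    obtain ⟨b, hbr, hbm, hbd⟩ := hmax' h
    obtain ⟨⟨g, rfl⟩, -⟩ := hsub ⟨hbr, hbm⟩
    refine exists_orderOf_eq_of_dvd (y := (Fin.cons g f : Fin (j + 1) → G)) ?_
    refine orderOf_dvd_iff_pow_eq_one.2 (Prod.ext ?_ ?_)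
    · funext l
      simpa using congrFun (pow_orderOf_eq_one (Fin.cons g f : Fin (j + 1) → G)) l.succ
    · refine orderOf_dvd_iff_pow_eq_one.1 (hbd.trans ?_)
      simpa using orderOf_map_dvd (Pi.evalMonoidHom (fun _ => G) 0) (Fin.cons g f : Fin (j + 1) → G)

end Cfsg.Agent.S2514
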