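import Cfsg.Statements.S2515
import Cfsg.Agent.Lib.PSL2.ReeSpectrum
import Cfsg.Agent.Lib.PSL2.SolThree

set_option autoImplicit false
open Cfsg

namespace Cfsg.Agent.S2515

/-- Let q = 3^α with α ≥ 3 odd. There is a finite group H having a non-trivial normal 3-subgroup and whose element orders maximal under divisibility are exactly 6, 9, q − 1 and (q + 1)/2. -/
theorem result (α : ℕ) (hα : 3 ≤ α) (hodd : Odd α) :
    ∃ (H : Type) (_ : Group H) (_ : Fintype H), (∃ P : Subgroup H, P.Normal ∧ P ≠ ⊥ ∧ IsPGroup 3 ↥P) ∧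
      {n : ℕ | n ∈ Set.range (orderOf : H → ℕ) ∧ ∀ m ∈ Set.range (orderOf : H → ℕ), n ∣ m → m = n} = ({6, 9, 3 ^ α - 1, (3 ^ α + 1) / 2} : Set ℕ) := by
  have h3 : Fact (Nat.Prime 3) := ⟨Nat.prime_three⟩
  let F := GaloisField 3 α
  have hcard : Nat.card F = 3 ^ α := GaloisField.card 3 α (by omega)
  have hFin : Finite F := Nat.finite_of_card_ne_zero (by rw [hcard]; positivity)
  have h4 : Nat.card F % 4 = 3 := PSL2.card_mod_four hodd hcard
  have : Finite (PSL2.ReeSpec.Big F) := Finite.of_equiv _ SemidirectProduct.equivProd.symm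
  obtain ⟨⟨a, ha⟩, ⟨b, hb⟩, ⟨c, hc⟩, ⟨d, hd⟩⟩ := PSL2.ReeSpec.exists_orders F h4
  rw [hcard] at hc hd h4
  have h27 : 27 ≤ 3 ^ α := by
    calc 27 = 3 ^ 3 := rfl
      _ ≤ 3 ^ α := Nat.pow_le_pow_right (by norm_num) hα
  have h3q : 3 ∣ 3 ^ α := dvd_pow_self 3 (by omega)
  have hn6 : ¬ 3 ∣ 3 ^ α - 1 ∧ ¬ 3 ∣ (3 ^ α + 1) / 2 := by omega
  have hgcd : ∀ m, m ∣ 3 ^ α - 1 → m ∣ (3 ^ α + 1) / 2 → m ≤ 2 := by
    intro m h h'
    have h'' : m ∣ 3 ^ α + 1 := h'.trans (Nat.div_dvd_of_dvd (by omega))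
    have := Nat.dvd_sub h'' h
    rw [show 3 ^ α + 1 - (3 ^ α - 1) = 2 by omega] at this
    exact Nat.le_of_dvd two_pos this
  have key : ∀ m ∈ Set.range (orderOf : PSL2.ReeSpec.Big F → ℕ),
      m ∣ 6 ∨ m ∣ 9 ∨ m ∣ 3 ^ α - 1 ∨ m ∣ (3 ^ α + 1) / 2 := by
    rintro m ⟨h, rfl⟩
    have h' := PSL2.ReeSpec.orderOf_dvd_four F (hcard.symm ▸ h4) h
    rwa [hcard] at h'
  have hin : ∀ n ∈ ({6, 9, 3 ^ α - 1, (3 ^ α + 1) / 2} : Set ℕ),
      n ∈ Set.range (orderOf : PSL2.ReeSpec.Big F → ℕ) := by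
    rintro n (rfl | rfl | rfl | rfl)
    exacts [⟨a, ha⟩, ⟨b, hb⟩, ⟨c, hc⟩, ⟨d, hd⟩]
  refine ⟨PSL2.ReeSpec.Big F, inferInstance, Fintype.ofFinite _, PSL2.ReeSpec.exists_three_core F, ?_⟩
  ext n
  constructor
  · rintro ⟨hn, hmax⟩
    rcases key n hn with h | h | h | h
    · exact Or.inl (hmax 6 (hin 6 (Or.inl rfl)) h).symm
    · exact Or.inr (Or.inl (hmax 9 (hin 9 (Or.inr (Or.inl rfl))) h).symm)
    · exact Or.inr (Or.inr (Or.inl (hmax _ (hin _ (Or.inr (Or.inr (Or.inl rfl)))) h).symm))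
    · exact Or.inr (Or.inr (Or.inr (hmax _ (hin _ (Or.inr (Or.inr (Or.inr rfl)))) h).symm))
  · intro hn
    refine ⟨hin n hn, fun m hm hdvd => ?_⟩
    rcases hn with rfl | rfl | rfl | rfl <;> rcases key m hm with h | h | h | h
    all_goals first
      | exact Nat.dvd_antisymm h hdvd
      | (exfalso; have h' := hdvd.trans h; norm_num at h'; done)
      | (exfalso; exact hn6.1 ((show 3 ∣ 6 by norm_num).trans (hdvd.trans h)))
      | (exfalso; exact hn6.2 ((show 3 ∣ 6 by norm_num).trans (hdvd.trans h)))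
      | (exfalso; exact hn6.1 ((show 3 ∣ 9 by norm_num).trans (hdvd.trans h)))
      | (exfalso; exact hn6.2 ((show 3 ∣ 9 by norm_num).trans (hdvd.trans h)))
      | (exfalso; have := hgcd _ dvd_rfl (hdvd.trans h); omega)
      | (exfalso; have := hgcd _ (hdvd.trans h) dvd_rfl; omega)
      | (exfalso; have := Nat.le_of_dvd (by norm_num) (hdvd.trans h); omega)

end Cfsg.Agent.S2515
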