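import Cfsg.Statements.S2516
import Cfsg.Agent.EqLemmas

set_option autoImplicit false
set_option linter.style.haveILetI false
set_option linter.unusedSimpArgs false
open Cfsg

namespace Cfsg.Agent.S2516

/-- Let F be a field of characteristic p > 0, V a non-zero finite-dimensional F-vector space, G a finite group and ρ a representation of G on V; form the semidirect product V ⋊ G. For g ∈ G of order k, the coset Vg contains an element of order pk if and only if the minimal polynomial of ρ(g) does not divide 1 + X + ⋯ + X^(k−1). -/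
theorem result {F : Type*} [Field F] (p : ℕ) [Fact p.Prime] [CharP F p] {V : Type*} [AddCommGroup V] [Module F V] [FiniteDimensional F V] [Nontrivial V]
    {G : Type*} [Group G] [Finite G] (ρ : Representation F G V) (g : G) :
    (∃ x : Multiplicative V ⋊[(MulAutMultiplicative V).symm.toMonoidHom.comp
        ((DistribMulAction.toAddAut ((V →ₗ[F] V)ˣ) V).comp ρ.asGroupHom)] G,
        x.right = g ∧ orderOf x = p * orderOf g) ↔
      ¬ (minpoly F (ρ g) ∣ ∑ i ∈ Finset.range (orderOf g), (Polynomial.X : Polynomial F) ^ i) := by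
  classical
  set φ := (MulAutMultiplicative V).symm.toMonoidHom.comp
        ((DistribMulAction.toAddAut ((V →ₗ[F] V)ˣ) V).comp ρ.asGroupHom) with hφ
  have hφv : ∀ (h : G) (v : V), φ h (Multiplicative.ofAdd v) = Multiplicative.ofAdd (ρ h v) := fun h v => rfl
  set k := orderOf g with hkdef
  set P := ∑ i ∈ Finset.range k, (Polynomial.X : Polynomial F) ^ i with hP
  have hPv : ∀ v : V, Polynomial.aeval (ρ g) P v = ∑ i ∈ Finset.range k, (ρ g ^ i) v := fun v => by
    simp [hP, map_sum, LinearMap.sum_apply]
  have hpow : ∀ (v : V) (m : ℕ), (⟨Multiplicative.ofAdd v, g⟩ : Multiplicative V ⋊[φ] G) ^ m =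
      ⟨Multiplicative.ofAdd (∑ i ∈ Finset.range m, (ρ g ^ i) v), g ^ m⟩ := by
    intro v m
    induction m with
    | zero => ext <;> simp
    | succ m ih =>
      rw [pow_succ, ih]
      refine SemidirectProduct.ext ?_ ?_
      · rw [SemidirectProduct.mul_left]
        simp only [hφv]
        rw [← ofAdd_add, Finset.sum_range_succ, map_pow]
      · rw [SemidirectProduct.mul_right]; simp [pow_succ]
  have hk0 : 0 < k := orderOf_pos g
  constructor
  · rintro ⟨⟨v, h⟩, hh, hord⟩
    obtain ⟨v, rfl⟩ : ∃ w : V, Multiplicative.ofAdd w = v := ⟨Multiplicative.toAdd v, rfl⟩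
    change h = g at hh
    subst hh
    intro hdvd
    have h1 : (⟨Multiplicative.ofAdd v, h⟩ : Multiplicative V ⋊[φ] G) ^ k = 1 := by
      rw [hpow, hkdef, pow_orderOf_eq_one, ← hkdef, ← hPv,
        Polynomial.aeval_eq_zero_of_dvd_aeval_eq_zero hdvd (minpoly.aeval F _)]
      rfl
    have h2 := Nat.le_of_dvd hk0 (hord ▸ orderOf_dvd_of_pow_eq_one h1)
    have h3 := Nat.mul_le_mul_right k (Fact.out : p.Prime).two_le
    omega
  · intro hdvd
    obtain ⟨v, hv⟩ : ∃ v : V, Polynomial.aeval (ρ g) P v ≠ 0 := by
      by_contra hcon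
      push Not at hcon
      exact hdvd (minpoly.dvd F _ (LinearMap.ext hcon))
    set w := ∑ i ∈ Finset.range k, (ρ g ^ i) v with hw
    have hw0 : w ≠ 0 := by rw [hw, ← hPv]; exact hv
    refine ⟨⟨Multiplicative.ofAdd v, g⟩, rfl, ?_⟩
    set x : Multiplicative V ⋊[φ] G := ⟨Multiplicative.ofAdd v, g⟩ with hx
    have hxk : x ^ k = SemidirectProduct.inl (Multiplicative.ofAdd w) := by
      rw [hx, hpow, hkdef, pow_orderOf_eq_one]; rfl
    have hordw : orderOf (x ^ k) = p := by
      rw [hxk, orderOf_injective SemidirectProduct.inl SemidirectProduct.inl_injective, orderOf_ofAdd_eq_addOrderOf]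
      refine addOrderOf_eq_prime ?_ hw0
      rw [← Nat.cast_smul_eq_nsmul F, CharP.cast_eq_zero, zero_smul]
    have hdv : k ∣ orderOf x := orderOf_map_dvd SemidirectProduct.rightHom x
    have := orderOf_pow' x (hk0.ne')
    rw [hordw, Nat.gcd_eq_right hdv] at this
    rw [this, Nat.div_mul_cancel hdv]

end Cfsg.Agent.S2516
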