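import Cfsg.Statements.S2517
import Cfsg.Agent.Lib.SpecOmNine.Realise
import Cfsg.Agent.Lib.SpecOmNine.Spectrum
-- import your own Cfsg.Agent.* helpers here

set_option autoImplicit false
open Cfsg

namespace Cfsg.Agent.S2517

/-- Let F be a finite field of odd order q, let Ω₉ be the simple orthogonal group PΩ(9, F), and let Ω₈⁻ be the commutator subgroup of the isometry group of a minus-type non-singular quadratic form on V = F⁸ (the simple group PΩ⁻(8, F), acting on its natural module V). Then Ω₉ and the semidirect product V ⋊ Ω₈⁻ have exactly the same set of element orders. -/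
theorem result {F : Type*} [Field F] [Fintype F] (hF : Odd (Fintype.card F)) (a b : F)
    (hab : ∀ z₁ z₂ : F, z₁ ^ 2 + a * z₁ * z₂ + b * z₂ ^ 2 = 0 → z₁ = 0 ∧ z₂ = 0) :
    Set.range (orderOf : Cfsg.POmega F (Cfsg.quadFormOdd 4 F) → ℕ) =
      Set.range (orderOf :
        (Multiplicative (((Fin 3 ⊕ Fin 3) ⊕ Fin 2) → F)) ⋊[
          (MulAutMultiplicative (((Fin 3 ⊕ Fin 3) ⊕ Fin 2) → F)).symm.toMonoidHom.comp
           ((DistribMulAction.toAddAut (LinearMap.GeneralLinearGroup F (((Fin 3 ⊕ Fin 3) ⊕ Fin 2) → F))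
              (((Fin 3 ⊕ Fin 3) ⊕ Fin 2) → F)).comp
            (Matrix.GeneralLinearGroup.toLin.toMonoidHom.comp
              ((Cfsg.isometryGroup F (Cfsg.quadFormMinus 3 F a b)).subtype.comp
                (Cfsg.Omega F (Cfsg.quadFormMinus 3 F a b)).subtype)))]
          ↥(Cfsg.Omega F (Cfsg.quadFormMinus 3 F a b)) → ℕ) := by
  have hchar : ringChar F ≠ 2 := fun h => by
    have := FiniteField.even_card_iff_char_two.1 h
    rw [Nat.odd_iff] at hF
    omega
  have h2 : (2 : F) ≠ 0 := Ring.two_ne_zero hchar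
  haveI : Fact (ringChar F).Prime := ⟨CharP.char_is_prime F _⟩
  obtain ⟨ν, hν⟩ := FiniteField.exists_nonsquare hchar
  have hab' : ∀ x y : F, x ^ 2 + a * x * y + b * y ^ 2 = 0 → x = 0 ∧ y = 0 := hab
  obtain ⟨e, he⟩ := Cfsg.Agent.Forms.qfMinus_equiv
    (Cfsg.Agent.SpecOmNine.aniso_of_nonsquare hν) hab' 3
  have h8 := Cfsg.Agent.SpecOmNine.semidirect_spec (p := ringChar F)
    (Cfsg.Agent.Orth.Good.of_two_ne_zero (Cfsg.Agent.SpecOmNine.minus_nd hab' 3) h2) h2 (by simp)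
    (fun N hN => (Cfsg.Agent.SpecOmNine.realise_eight h2 hν N hN).congr e he)
  have h9 := Cfsg.Agent.SpecOmNine.pomega_spec (p := ringChar F)
    (Cfsg.Agent.Orth.Good.of_two_ne_zero (Cfsg.Agent.SpecOmNine.oddQ_nd h2 (one_ne_zero (α := F)) 4) h2) h2 (by simp)
    (Cfsg.Agent.SpecOmNine.realise_nine h2 hν)
  rw [← Cfsg.Agent.SpecOmNine.oddQ_one 4, ← Cfsg.Agent.Forms.qfMinus_eq 3 a b]
  exact Cfsg.Agent.SpecOmNine.range_orderOf_eq _ h9.1 h9.2 h8.1 h8.2

end Cfsg.Agent.S2517
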