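import Cfsg.Statements.S2518
import Cfsg.Agent.Lib.G2Three.SevenCent
import Cfsg.Agent.Lib.ChevG2SL3.Singer
import Cfsg.Agent.Lib.ChevOrder.Final
import Cfsg.Agent.Lib.PSL2.Elements
import Cfsg.Agent.Lib.PSL2.Thirteen
import Mathlib.GroupTheory.Sylow

set_option autoImplicit false
open Cfsg

namespace Cfsg.Agent.S2518

open Cfsg.Lie
open scoped MatrixGroups

/-- An element of order six of `SL₃(3)`. -/
def six : SL(3, ZMod 3) := ⟨!![2, 1, 0; 0, 2, 0; 0, 0, 1], by decide +kernel⟩

theorem six_pow : six ^ 6 = 1 ∧ ∀ m : ℕ, m < 6 → 0 < m → six ^ m ≠ 1 := by decide +kernel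

theorem orderOf_six : orderOf (⟨ChevG2SL3.phi (ZMod 3) six, ChevG2SL3.phi_mem_group _⟩ : ↥(chevG2.group (ZMod 3))) = 6 := by
  rw [← orderOf_injective _ (chevG2.group (ZMod 3)).subtype_injective, Subgroup.coe_subtype,
    orderOf_injective _ ChevG2SL3.phi_injective, orderOf_eq_iff (by norm_num)]
  exact six_pow

/-- An element of order thirteen is centralised only by its powers. -/
theorem commute_thirteen {F : Type*} [Field F] [Fintype F] (hF : Fintype.card F = 3) {x y : ↥(chevG2.group F)}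
    (hx : orderOf x = 13) (hc : Commute x y) : orderOf y ∣ 13 := by
  classical
  have : Fact (Nat.Prime 13) := ⟨by norm_num⟩
  obtain ⟨H, -, hH, hHc⟩ := ChevG2SL3.exists_torus (F := F) 3 hF le_rfl
  have hord : Nat.card ↥(chevG2.group F) = 3 ^ 6 * (3 ^ 2 - 1) * (3 ^ 6 - 1) :=
    ChevOrder.card_G2 hF Twisted.good_chevG2
  have hfac : (Nat.card ↥(chevG2.group F)).factorization 13 = 1 := by
    rw [hord, show (3 : ℕ) ^ 6 * (3 ^ 2 - 1) * (3 ^ 6 - 1) = 13 * 326592 by norm_num,
      Nat.factorization_mul_apply_of_coprime (by norm_num),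
      Nat.Prime.factorization_self (by norm_num), Nat.factorization_eq_zero_of_not_dvd (by norm_num)]
  let P : Sylow 13 ↥(chevG2.group F) := Sylow.ofCard H (by rw [hfac, hH]; norm_num)
  let Q : Sylow 13 ↥(chevG2.group F) :=
    Sylow.ofCard (Subgroup.zpowers x) (by rw [hfac, Nat.card_zpowers, hx]; norm_num)
  obtain ⟨g, hg⟩ := MulAction.exists_smul_eq ↥(chevG2.group F) P Q
  have hxH : g⁻¹ * x * g ∈ H := by
    have h : x ∈ (Q : Subgroup ↥(chevG2.group F)) := Subgroup.mem_zpowers x
    rw [← hg, Sylow.coe_subgroup_smul, Subgroup.mem_pointwise_smul_iff_inv_smul_mem] at h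
    show g⁻¹ * x * g ∈ (P : Subgroup ↥(chevG2.group F))
    simpa [MulAut.smul_def, mul_assoc] using h
  have hgen : Subgroup.zpowers (g⁻¹ * x * g) = H := by
    refine Subgroup.eq_of_le_of_card_ge (Subgroup.zpowers_le.2 hxH) ?_
    rw [hH, Nat.card_zpowers, show g⁻¹ * x * g = MulAut.conj g⁻¹ x by simp, MulEquiv.orderOf_eq, hx]
    norm_num
  have hy : g⁻¹ * y * g ∈ H := by
    rw [← hHc, Subgroup.mem_centralizer_iff, ← hgen]
    rintro z ⟨n, rfl⟩
    have : Commute (g⁻¹ * x * g) (g⁻¹ * y * g) := by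
      simpa [MulAut.conj_apply] using hc.map (MulAut.conj g⁻¹).toMonoidHom
    exact (this.zpow_left n).eq
  have h := orderOf_dvd_natCard (⟨g⁻¹ * y * g, hy⟩ : H)
  rw [Subgroup.orderOf_mk, hH, show g⁻¹ * y * g = MulAut.conj g⁻¹ y by simp, MulEquiv.orderOf_eq] at h
  exact h

/-- Let F₃ be the field with 3 elements and F₁₃ the field with 13 elements. The Chevalley group G₂(F₃) and PSL(2, F₁₃) have the same prime graph: the same prime divisors of their orders, and for distinct primes r, s an element of order rs in one iff in the other. -/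
theorem result {F : Type*} [Field F] [Fintype F] (hF : Fintype.card F = 3) {E : Type*} [Field E] [Fintype E] (hE : Fintype.card E = 13) :
    ((∀ r : ℕ, r.Prime → (r ∣ Nat.card ↥(Cfsg.Lie.chevG2.group F) ↔ r ∣ Nat.card (Matrix.ProjectiveSpecialLinearGroup (Fin 2) E))) ∧
      (∀ r s : ℕ, r.Prime → s.Prime → r ≠ s → ((∃ x : ↥(Cfsg.Lie.chevG2.group F), orderOf x = r * s) ↔ (∃ y : (Matrix.ProjectiveSpecialLinearGroup (Fin 2) E), orderOf y = r * s)))) := by
  classical
  have : Fact (Nat.Prime 13) := ⟨by norm_num⟩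
  have : CharP E 13 := charP_of_card_eq_prime hE
  have : CharP F 3 := charP_of_card_eq_prime hF
  have hG : Nat.card ↥(chevG2.group F) = 2 ^ 6 * 3 ^ 6 * 7 * 13 := by
    rw [ChevOrder.card_G2 hF Twisted.good_chevG2]; norm_num
  have hP : Nat.card (Matrix.ProjectiveSpecialLinearGroup (Fin 2) E) = 2 ^ 2 * 3 * 7 * 13 := by
    rw [PSL2.card_psl_thirteen (by rw [Nat.card_eq_fintype_card, hE])]; norm_num
  let e : ZMod 3 ≃+* F := ZMod.ringEquiv F hF
  let down : ↥(chevG2.group F) →* ↥(chevG2.group (ZMod 3)) :=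
    ((ChevFixed.mapG chevG2 e.symm.toRingHom).comp (chevG2.group F).subtype).codRestrict _ fun g =>
      ChevFixed.mapG_group_le Twisted.good_chevG2 _ (Subgroup.mem_map_of_mem _ g.2)
  have hdown : Function.Injective down := fun a b h =>
    Subtype.ext (ChevFixed.mapG_injective _ (congrArg Subtype.val h))
  let up : ↥(chevG2.group (ZMod 3)) →* ↥(chevG2.group F) :=
    ((ChevFixed.mapG chevG2 e.toRingHom).comp (chevG2.group (ZMod 3)).subtype).codRestrict _ fun g =>
      ChevFixed.mapG_group_le Twisted.good_chevG2 _ (Subgroup.mem_map_of_mem _ g.2)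
  have hup : Function.Injective up := fun a b h =>
    Subtype.ext (ChevFixed.mapG_injective _ (congrArg Subtype.val h))
  have hprimes : ∀ r : ℕ, r.Prime → (r ∣ Nat.card ↥(chevG2.group F) ↔ r = 2 ∨ r = 3 ∨ r = 7 ∨ r = 13) := by
    intro r hr
    rw [hG, hr.dvd_mul, hr.dvd_mul, hr.dvd_mul]
    constructor
    · rintro (((h | h) | h) | h)
      · exact Or.inl ((Nat.prime_dvd_prime_iff_eq hr (by norm_num)).1 (hr.dvd_of_dvd_pow h))
      · exact Or.inr (Or.inl ((Nat.prime_dvd_prime_iff_eq hr (by norm_num)).1 (hr.dvd_of_dvd_pow h)))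
      · exact Or.inr (Or.inr (Or.inl ((Nat.prime_dvd_prime_iff_eq hr (by norm_num)).1 h)))
      · exact Or.inr (Or.inr (Or.inr ((Nat.prime_dvd_prime_iff_eq hr (by norm_num)).1 h)))
    · rintro (rfl | rfl | rfl | rfl) <;> norm_num
  refine ⟨fun r hr => ?_, fun r s hr hs hrs => ?_⟩
  · rw [hprimes r hr, hP, hr.dvd_mul, hr.dvd_mul, hr.dvd_mul]
    constructor
    · rintro (rfl | rfl | rfl | rfl) <;> norm_num
    · rintro (((h | h) | h) | h)
      · exact Or.inl ((Nat.prime_dvd_prime_iff_eq hr (by norm_num)).1 (hr.dvd_of_dvd_pow h))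
      · exact Or.inr (Or.inl ((Nat.prime_dvd_prime_iff_eq hr (by norm_num)).1 h))
      · exact Or.inr (Or.inr (Or.inl ((Nat.prime_dvd_prime_iff_eq hr (by norm_num)).1 h)))
      · exact Or.inr (Or.inr (Or.inr ((Nat.prime_dvd_prime_iff_eq hr (by norm_num)).1 h)))
  have hrange := PSL2.range_psl_orderOf (F := E) 13
  rw [Nat.card_eq_fintype_card, hE] at hrange
  constructor
  · rintro ⟨x, hx⟩
    have hr' : r = 2 ∨ r = 3 ∨ r = 7 ∨ r = 13 :=
      (hprimes r hr).1 ((dvd_mul_right r s).trans (hx ▸ orderOf_dvd_natCard x))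
    have hs' : s = 2 ∨ s = 3 ∨ s = 7 ∨ s = 13 :=
      (hprimes s hs).1 ((dvd_mul_left s r).trans (hx ▸ orderOf_dvd_natCard x))
    have hpow : ∀ k, k ∣ r * s → orderOf (x ^ (r * s / k)) = k := fun k hk => by
      rw [← hx] at hk ⊢
      exact orderOf_pow_orderOf_div (by rw [hx]; exact mul_ne_zero hr.ne_zero hs.ne_zero) hk
    have h13 : ¬ 13 ∣ r * s := fun h13 => by
      have h := commute_thirteen hF (hpow 13 h13) ((Commute.refl x).pow_left _)
      rw [hx] at h
      rcases (Nat.dvd_prime (by norm_num)).1 h with e | e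
      · exact hr.one_lt.ne' (mul_eq_one.1 e).1
      · exact absurd e (fun e => Nat.not_prime_mul hr.one_lt.ne' hs.one_lt.ne' (e ▸ (by norm_num : Nat.Prime 13)))
    have h7 : ∀ k, k = 2 ∨ k = 3 → 7 ∣ r * s → k ∣ r * s → False := fun k hk h7 hkd => by
      have ho := hpow k hkd
      have h := G2Three.commute_seven_trivial (x := down (x ^ (r * s / 7))) (y := down (x ^ (r * s / k)))
        (by rw [orderOf_injective down hdown, hpow 7 h7]) (((Commute.refl x).pow_pow _ _).map down)
        (by rcases hk with rfl | rfl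
            · left; rw [← map_pow, orderOf_dvd_iff_pow_eq_one.1 ho.dvd, map_one]
            · right; rw [← map_pow, orderOf_dvd_iff_pow_eq_one.1 ho.dvd, map_one])
      rw [← down.map_one] at h
      rw [hdown h, orderOf_one] at ho
      omega
    have h6 : r * s = 6 := by
      rcases hr' with rfl | rfl | rfl | rfl <;> rcases hs' with rfl | rfl | rfl | rfl <;>
        first
          | rfl
          | exact absurd rfl hrs
          | (refine absurd ?_ h13; decide)
          | (refine (h7 2 (Or.inl rfl) ?_ ?_).elim <;> decide)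
          | (refine (h7 3 (Or.inr rfl) ?_ ?_).elim <;> decide)
    rw [h6]
    exact hrange.symm.subset (show 6 ∈ _ from Or.inr (Or.inl (by norm_num)))
  · rintro ⟨y, hy⟩
    have hm := hrange.subset ⟨y, rfl⟩
    simp only [Set.mem_ofPred_eq, hy] at hm
    norm_num at hm
    have h6 : r * s = 6 := by
      have hle : r * s ≤ 13 := by
        rcases hm with h | h | h <;> have := Nat.le_of_dvd (by norm_num) h <;> omega
      have h2r := hr.two_le
      have h2s := hs.two_le
      have hr13 : r ≤ 13 := le_trans (Nat.le_mul_of_pos_right r hs.pos) hle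
      have hs13 : s ≤ 13 := le_trans (Nat.le_mul_of_pos_left s hr.pos) hle
      interval_cases r <;> interval_cases s <;> simp_all (config := { decide := true })
    refine ⟨up ⟨_, ChevG2SL3.phi_mem_group six⟩, ?_⟩
    rw [orderOf_injective up hup, orderOf_six, h6]

end Cfsg.Agent.S2518
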