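import Cfsg.Statements.S2519
import Cfsg.Agent.Lib.G2Orders.Regular
import Cfsg.Agent.Lib.G2Oct.Exist

set_option autoImplicit false
open Cfsg

namespace Cfsg.Agent.S2519

/-- The proposed maximal orders do not divide one another. -/
theorem antichain {p q : ℕ} (hp : p.Prime) (hpq : p ∣ q) (hq : 5 ≤ q) :
    ∀ t ∈ ({p * (q + 1), p * (q - 1), q ^ 2 - 1, q ^ 2 + q + 1, q ^ 2 - q + 1} ∪
      (if p = 3 ∨ p = 5 then ({p ^ 2} : Set ℕ) else ∅) : Set ℕ),
    ∀ t' ∈ ({p * (q + 1), p * (q - 1), q ^ 2 - 1, q ^ 2 + q + 1, q ^ 2 - q + 1} ∪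
      (if p = 3 ∨ p = 5 then ({p ^ 2} : Set ℕ) else ∅) : Set ℕ), t ∣ t' → t' = t := by
  obtain ⟨k, hk⟩ := hpq
  have hq2 : q ≤ q ^ 2 := Nat.le_self_pow two_ne_zero q
  have hqq : 5 * q ≤ q ^ 2 := by nlinarith
  -- the prime does not divide the neighbours of its multiples
  have hn1 : ∀ x y : ℕ, p ∣ y → x + 1 = y ∨ x = y + 1 → ¬ p ∣ x := by
    intro x y hy hxy hx
    rcases hxy with rfl | rfl
    · exact hp.not_dvd_one ((Nat.dvd_add_right hx).1 hy)
    · exact hp.not_dvd_one ((Nat.dvd_add_right hy).1 hx)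
  have hpq : p ∣ q := ⟨k, hk⟩
  have hpq2 : p ∣ q ^ 2 := dvd_pow hpq two_ne_zero
  have a1 : ¬ p ∣ q ^ 2 - 1 := hn1 _ _ hpq2 (Or.inl (by omega))
  have a2 : ¬ p ∣ q ^ 2 + q + 1 := hn1 _ _ (Nat.dvd_add hpq2 hpq) (Or.inr rfl)
  have a3 : ¬ p ∣ q ^ 2 - q + 1 := hn1 _ _ (Nat.dvd_sub hpq2 hpq) (Or.inr rfl)
  have b1 : ¬ p ∣ q - 1 := hn1 _ _ hpq (Or.inl (by omega))
  have b2 : ¬ p ∣ q + 1 := hn1 _ _ hpq (Or.inr rfl)
  -- a number prime to p dividing p * x divides x
  have cop : ∀ A x : ℕ, ¬ p ∣ A → A ∣ p * x → A ∣ x := fun A x hA h =>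
    ((hp.coprime_iff_not_dvd.2 hA).symm).dvd_of_dvd_mul_left h
  have small : ∀ A x : ℕ, 0 < x → x < A → ¬ A ∣ x := fun A x h0 h h' => absurd (Nat.le_of_dvd h0 h') (by omega)
  have near : ∀ A B : ℕ, 0 < B → B < 2 * A → A ∣ B → B = A := by
    rintro A B h0 h ⟨c, rfl⟩
    rcases c with _ | _ | c
    · simp at h0
    · simp
    · nlinarith
  have two : ¬ q - 1 ∣ q + 1 := fun h => by
    have := Nat.dvd_sub h dvd_rfl
    rw [show q + 1 - (q - 1) = 2 by omega] at this
    exact small _ _ (by omega) (by omega) this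
  have hpq' : p ≤ q := Nat.le_of_dvd (by omega) hpq
  intro t ht t' ht' hd
  have cases' : ∀ u ∈ ({p * (q + 1), p * (q - 1), q ^ 2 - 1, q ^ 2 + q + 1, q ^ 2 - q + 1} ∪
      (if p = 3 ∨ p = 5 then ({p ^ 2} : Set ℕ) else ∅) : Set ℕ),
      (¬ p ∣ u ∧ q ^ 2 - q + 1 ≤ u ∧ u ≤ q ^ 2 + q + 1) ∨
        ∃ x, u = p * x ∧ (x = q - 1 ∨ x = q + 1 ∨ x = p) := by
    intro u hu
    simp only [Set.mem_union, Set.mem_insert_iff, Set.mem_singleton_iff] at hu
    rcases hu with (rfl | rfl | rfl | rfl | rfl) | hu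
    · exact Or.inr ⟨q + 1, rfl, by omega⟩
    · exact Or.inr ⟨q - 1, rfl, by omega⟩
    · exact Or.inl ⟨a1, by omega, by omega⟩
    · exact Or.inl ⟨a2, by omega, by omega⟩
    · exact Or.inl ⟨a3, by omega, by omega⟩
    · split_ifs at hu with h35
      · rw [Set.mem_singleton_iff] at hu
        exact Or.inr ⟨p, by rw [hu, sq], by omega⟩
      · exact absurd hu (Set.notMem_empty u)
  rcases cases' t ht with ⟨ht1, ht2, ht3⟩ | ⟨x, rfl, hx⟩ <;>
    rcases cases' t' ht' with ⟨hu1, hu2, hu3⟩ | ⟨y, rfl, hy⟩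
  · exact near _ _ (by omega) (by omega) hd
  · have hy0 : 0 < y := by have := hp.pos; omega
    exact absurd (cop _ _ ht1 hd) (small _ _ hy0 (by omega))
  · exact absurd ((dvd_mul_right p x).trans hd) hu1
  · have hxy : x ∣ y := Nat.dvd_of_mul_dvd_mul_left hp.pos hd
    rcases hx with rfl | rfl | rfl <;> rcases hy with rfl | rfl | rfl
    all_goals try rfl
    · exact absurd hxy two
    · rcases (Nat.dvd_prime hp).1 hxy with h | h
      · omega
      · exact absurd (dvd_of_eq h.symm) b1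
    · exact absurd hxy (small _ _ (by omega) (by omega))
    · rcases (Nat.dvd_prime hp).1 hxy with h | h
      · omega
      · exact absurd (dvd_of_eq h.symm) b2
    · exact absurd hxy b1
    · exact absurd hxy b2

/-- Let F be a finite field of odd order q = p^a ≥ 5. The element orders of the Chevalley group G₂(F) that are maximal under divisibility are exactly p(q + 1), p(q − 1), q² − 1, q² + q + 1, q² − q + 1, together with p² when p is 3 or 5. -/
theorem result {F : Type*} [Field F] [Fintype F] (p a : ℕ) (hp : p.Prime) (hp2 : p ≠ 2) (ha : 1 ≤ a) (hF : Fintype.card F = p ^ a) (hq5 : 5 ≤ Fintype.card F) :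
    {n : ℕ | n ∈ Set.range (orderOf : ↥(Cfsg.Lie.chevG2.group F) → ℕ) ∧ ∀ m ∈ Set.range (orderOf : ↥(Cfsg.Lie.chevG2.group F) → ℕ), n ∣ m → m = n} =
      ({p * (p ^ a + 1), p * (p ^ a - 1), p ^ (2 * a) - 1, p ^ (2 * a) + p ^ a + 1, p ^ (2 * a) - p ^ a + 1} : Set ℕ) ∪
        (if p = 3 ∨ p = 5 then ({p ^ 2} : Set ℕ) else ∅) := by
  classical
  haveI := Fact.mk hp
  haveI : CharP F p := by
    haveI := Fact.mk hp
    obtain ⟨n, hn, e⟩ := FiniteField.card F (ringChar F)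
    have h1 : p = ringChar F := by
      have := hF.symm.trans e
      exact (Nat.prime_dvd_prime_iff_eq hp hn).1 (hp.dvd_of_dvd_pow (this ▸ dvd_pow_self p (by omega)))
    exact h1 ▸ ringChar.charP F
  have h2 : (2 : F) ≠ 0 := by
    intro h
    have hd : p ∣ 2 := (CharP.cast_eq_zero_iff F p 2).1 (by exact_mod_cast h)
    exact hp2 ((Nat.prime_dvd_prime_iff_eq hp Nat.prime_two).1 hd)
  set q := p ^ a with hq
  have hq5' : 5 ≤ q := hF ▸ hq5
  have hqq : p ^ (2 * a) = q ^ 2 := by rw [hq, ← pow_mul, mul_comm]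
  rw [hqq]
  have hpq : p ∣ q := dvd_pow_self p (by omega)
  set T : Set ℕ := {p * (q + 1), p * (q - 1), q ^ 2 - 1, q ^ 2 + q + 1, q ^ 2 - q + 1} ∪
    (if p = 3 ∨ p = 5 then ({p ^ 2} : Set ℕ) else ∅) with hT
  -- every element of the set is an order
  have hex : ∀ t ∈ T, t ∈ Set.range (orderOf : ↥(Cfsg.Lie.chevG2.group F) → ℕ) := by
    intro t ht
    rw [hT] at ht
    rcases ht with ht | ht
    · simp only [Set.mem_insert_iff, Set.mem_singleton_iff] at ht
      rcases ht with rfl | rfl | rfl | rfl | rfl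
      · exact G2Oct.exists_char_mul p (Or.inr (by rw [hF]))
      · exact G2Oct.exists_char_mul p (Or.inl (by rw [hF]))
      · have := G2Oct.exists_sq_sub_one (F := F); rwa [hF] at this
      · have := G2Oct.exists_sq_add (F := F) (by omega); rwa [hF] at this
      · have := G2Oct.exists_sq_sub (F := F); rwa [hF] at this
    · split_ifs at ht with h35
      · rw [Set.mem_singleton_iff] at ht
        subst ht
        exact G2Orders.exists_sq_char p h2 h35
      · exact absurd ht (Set.notMem_empty t)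
  -- every order divides one of them
  have hbd : ∀ m ∈ Set.range (orderOf : ↥(Cfsg.Lie.chevG2.group F) → ℕ), ∃ t ∈ T, m ∣ t := by
    rintro m ⟨g, rfl⟩
    obtain ⟨N, hN, hd⟩ := G2Orders.orderOf_dvd_bound p a h2 ha hF g
    simp only [Set.mem_insert_iff, Set.mem_singleton_iff, ← hq] at hN
    rcases hN with rfl | rfl | rfl | rfl | rfl | rfl
    · exact ⟨q ^ 2 - 1, by simp [hT], hd⟩
    · exact ⟨q ^ 2 + q + 1, by simp [hT], hd⟩
    · exact ⟨q ^ 2 - q + 1, by simp [hT], hd⟩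
    · exact ⟨p * (q - 1), by simp [hT], hd⟩
    · exact ⟨p * (q + 1), by simp [hT], hd⟩
    by_cases h35 : p = 3 ∨ p = 5
    · refine ⟨p ^ 2, by simp [hT, h35], hd.trans (pow_dvd_pow p (Nat.clog_le_of_le_pow ?_))⟩
      rcases h35 with rfl | rfl <;> norm_num
    · refine ⟨p * (q + 1), by simp [hT], hd.trans ((pow_dvd_pow p (Nat.clog_le_of_le_pow (y := 1) ?_)).trans ?_)⟩
      · push Not at h35
        rw [pow_one]
        have h4 : p ≠ 4 := fun e => absurd (e ▸ hp) (by norm_num)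
        have h6 : p ≠ 6 := fun e => absurd (e ▸ hp) (by norm_num)
        have := hp.two_le
        omega
      · rw [pow_one]; exact dvd_mul_right p _
  -- no one of them divides another
  have hanti : ∀ t ∈ T, ∀ t' ∈ T, t ∣ t' → t' = t := antichain hp hpq hq5'
  ext n
  constructor
  · rintro ⟨hn, hmax⟩
    obtain ⟨t, ht, hd⟩ := hbd n hn
    rwa [← hmax t (hex t ht) hd]
  · intro hn
    refine ⟨hex n hn, fun m hm hnm => ?_⟩
    obtain ⟨t, ht, hd⟩ := hbd m hm
    exact Nat.dvd_antisymm ((hanti n hn t ht (hnm.trans hd)) ▸ hd) hnm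

end Cfsg.Agent.S2519
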