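import Cfsg.Statements.S2520
import Cfsg.Agent.EqLemmas
import Cfsg.Agent.Lib.G2Oct.Exist
-- import your own Cfsg.Agent.* helpers here

set_option autoImplicit false
open Cfsg

namespace Cfsg.Agent.S2520

/-- Let F be a finite field with q = 2^a ≥ 4 elements and G₂(F) the Chevalley group of type G₂ over it. Every element order of G₂(F) maximal under divisibility lies in the set {8, 12, 2(q + 1), 2(q − 1), q² − 1, q² + q + 1, q² − q + 1}, and every member of that set is an element order of G₂(F). -/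
theorem result {F : Type*} [Field F] [Fintype F] (a : ℕ) (ha : 2 ≤ a) (hF : Fintype.card F = 2 ^ a) :
    {n : ℕ | n ∈ Set.range (orderOf : ↥(Cfsg.Lie.chevG2.group F) → ℕ) ∧ ∀ m ∈ Set.range (orderOf : ↥(Cfsg.Lie.chevG2.group F) → ℕ), n ∣ m → m = n} ⊆ ({8, 12, 2 * (2 ^ a + 1), 2 * (2 ^ a - 1), 2 ^ (2 * a) - 1, 2 ^ (2 * a) + 2 ^ a + 1, 2 ^ (2 * a) - 2 ^ a + 1} : Set ℕ) ∧
    ({8, 12, 2 * (2 ^ a + 1), 2 * (2 ^ a - 1), 2 ^ (2 * a) - 1, 2 ^ (2 * a) + 2 ^ a + 1, 2 ^ (2 * a) - 2 ^ a + 1} : Set ℕ) ⊆ Set.range (orderOf : ↥(Cfsg.Lie.chevG2.group F) → ℕ) := by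
  have hcp : CharP F 2 := G2Oct.charTwo_of_card hF
  have h4 : 2 ^ 2 ≤ 2 ^ a := Nat.pow_le_pow_right (by norm_num) ha
  rw [show 2 * a = a * 2 by ring, pow_mul]
  constructor
  · rintro n ⟨⟨g, rfl⟩, hmax⟩
    obtain ⟨N, hN, hdvd⟩ := G2Oct.orderOf_dvd_mem hF (G2Oct.rho g)
    rw [orderOf_injective _ G2Oct.rho_injective] at hdvd
    have key : ∀ M, (∃ h : ↥(Cfsg.Lie.chevG2.group F), orderOf h = M) → N = M → orderOf g = M := by
      rintro M ⟨h, hh⟩ rfl
      exact (hmax N ⟨h, hh⟩ hdvd).symm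
    simp only [Set.mem_insert_iff, Set.mem_singleton_iff]
    rcases hN with e | e | e | e | e | e | e
    · exact Or.inl (key _ G2Oct.exists_eight e)
    · exact Or.inr (Or.inl (key _ G2Oct.exists_twelve e))
    · exact Or.inr (Or.inr (Or.inl (key _ (hF ▸ G2Oct.exists_two_mul_succ) e)))
    · exact Or.inr (Or.inr (Or.inr (Or.inl (key _ (hF ▸ G2Oct.exists_two_mul_pred) e))))
    · exact Or.inr (Or.inr (Or.inr (Or.inr (Or.inl (key _ (hF ▸ G2Oct.exists_sq_sub_one) e)))))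
    · exact Or.inr (Or.inr (Or.inr (Or.inr (Or.inr (Or.inl
        (key _ (hF ▸ G2Oct.exists_sq_add (by omega)) e))))))
    · exact Or.inr (Or.inr (Or.inr (Or.inr (Or.inr (Or.inr (key _ (hF ▸ G2Oct.exists_sq_sub) e))))))
  · intro n hn
    simp only [Set.mem_insert_iff, Set.mem_singleton_iff] at hn
    rcases hn with rfl | rfl | rfl | rfl | rfl | rfl | rfl
    · exact G2Oct.exists_eight
    · exact G2Oct.exists_twelve
    · exact hF ▸ G2Oct.exists_two_mul_succ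
    · exact hF ▸ G2Oct.exists_two_mul_pred
    · exact hF ▸ G2Oct.exists_sq_sub_one
    · exact hF ▸ G2Oct.exists_sq_add (by omega)
    · exact hF ▸ G2Oct.exists_sq_sub

end Cfsg.Agent.S2520
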