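import Cfsg.Statements.S2521
import Cfsg.Agent.EqLemmas

set_option autoImplicit false
set_option linter.style.haveILetI false
set_option linter.unusedSimpArgs false
open Cfsg

namespace Cfsg.Agent.S2521

/-- Let B be a finite group that is the semidirect product of a nilpotent normal subgroup U by an abelian subgroup T (U ∩ T = 1, UT = B), and let t ∈ T have centralizer exactly T. Then every element of the coset tU is conjugate to t in B: for each u ∈ U there is b ∈ B with b t b⁻¹ = t u. -/
theorem result {B : Type*} [Group B] [Finite B] (U T : Subgroup B) [U.Normal] (hU : Group.IsNilpotent ↥U) (hT : IsMulCommutative ↥T)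
    (hcompl : Subgroup.IsComplement' U T) (t : B) (ht : t ∈ T) (hreg : Subgroup.centralizer ({t} : Set B) = T) (u : B) (hu : u ∈ U) :
    ∃ b : B, b * t * b⁻¹ = t * u := by
  classical
  have key : ∀ u' : U, (u' : B) * t * (u' : B)⁻¹ * t⁻¹ ∈ U := fun u' => by
    have h := U.mul_mem u'.2 ((inferInstance : U.Normal).conj_mem _ (U.inv_mem u'.2) t)
    simpa [mul_assoc] using h
  have hinj : Function.Injective fun u' : U => (⟨(u' : B) * t * (u' : B)⁻¹ * t⁻¹, key u'⟩ : U) := by
    intro a b hab
    have hab' : (a : B) * t * (a : B)⁻¹ = (b : B) * t * (b : B)⁻¹ := mul_right_cancel (Subtype.ext_iff.1 hab)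
    have hc : (b : B)⁻¹ * a ∈ Subgroup.centralizer ({t} : Set B) := by
      rw [Subgroup.mem_centralizer_singleton_iff]
      calc (b : B)⁻¹ * a * t = (b : B)⁻¹ * ((a : B) * t * (a : B)⁻¹) * a := by group
        _ = t * ((b : B)⁻¹ * a) := by rw [hab']; group
    rw [hreg] at hc
    have h1 : (b : B)⁻¹ * a ∈ U ⊓ T := ⟨U.mul_mem (U.inv_mem b.2) a.2, hc⟩
    rw [hcompl.disjoint.eq_bot, Subgroup.mem_bot, inv_mul_eq_one] at h1
    exact Subtype.ext h1.symm
  obtain ⟨w, hw⟩ := (Finite.injective_iff_surjective.1 hinj)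
    ⟨t * u * t⁻¹, (inferInstance : U.Normal).conj_mem u hu t⟩
  exact ⟨w, mul_right_cancel (Subtype.ext_iff.1 hw)⟩

end Cfsg.Agent.S2521
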