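import Cfsg.Statements.S2524
import Cfsg.Agent.EqLemmas
import Cfsg.Agent.Lib.SpWeil.Classify

set_option autoImplicit false
open Cfsg

namespace Cfsg.Agent.S2524

/-- Let F be a finite field of odd order q and G = Sp(2n, F) with n ≥ 2. Then G has exactly four irreducible complex characters of degree (q^n + 1)/2 or (q^n − 1)/2 (two of each), and every other non-principal irreducible character has degree at least (q^n − 1)(q^n − q)/(2(q + 1)). -/
theorem result {F : Type*} [Field F] [Fintype F] (hodd : Odd (Fintype.card F)) (n : ℕ) (hn : 2 ≤ n) :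
    Nat.card {χ : Cfsg.IrrCharacter ↥(Matrix.symplecticGroup (Fin n) F) // (χ : ↥(Matrix.symplecticGroup (Fin n) F) → ℂ) 1 = (((Fintype.card F) ^ n + 1 : ℕ) : ℂ) / 2} = 2 ∧
    Nat.card {χ : Cfsg.IrrCharacter ↥(Matrix.symplecticGroup (Fin n) F) // (χ : ↥(Matrix.symplecticGroup (Fin n) F) → ℂ) 1 = (((Fintype.card F) ^ n - 1 : ℕ) : ℂ) / 2} = 2 ∧
    ∀ χ : Cfsg.IrrCharacter ↥(Matrix.symplecticGroup (Fin n) F),
      (χ : ↥(Matrix.symplecticGroup (Fin n) F) → ℂ) 1 ≠ 1 →
      (χ : ↥(Matrix.symplecticGroup (Fin n) F) → ℂ) 1 ≠ (((Fintype.card F) ^ n + 1 : ℕ) : ℂ) / 2 →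
      (χ : ↥(Matrix.symplecticGroup (Fin n) F) → ℂ) 1 ≠ (((Fintype.card F) ^ n - 1 : ℕ) : ℂ) / 2 →
      (((Fintype.card F) ^ n - 1 : ℕ) : ℝ) * (((Fintype.card F) ^ n - Fintype.card F : ℕ) : ℝ) / (2 * ((Fintype.card F : ℕ) + 1 : ℝ)) ≤ ‖(χ : ↥(Matrix.symplecticGroup (Fin n) F) → ℂ) 1‖ := by
  classical
  have h2 : (2 : F) ≠ 0 := fun h => by
    have : ringChar F = 2 := CharP.ringChar_of_prime_eq_zero Nat.prime_two (by simpa using h)
    have h3 := FiniteField.even_card_of_char_two this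
    exact Nat.not_even_iff_odd.2 hodd (Nat.even_iff.2 h3)
  obtain ⟨ψ, hψ⟩ := AddChar.exists_apply_ne_zero.2 (one_ne_zero : (1 : F) ≠ 0)
  have hψ : ψ ≠ 1 := fun h => hψ (by rw [h]; rfl)
  obtain ⟨ν₀, hν₀⟩ := FiniteField.exists_nonsquare (F := F) fun h => h2 (by
    haveI : CharP F 2 := ringChar.of_eq h
    exact CharTwo.two_eq_zero)
  let e := Cfsg.Agent.Linear.spEquiv n F
  let w : Bool → ℤˣ → Cfsg.IrrCharacter ↥(Matrix.symplecticGroup (Fin n) F) := fun b s =>
    ⟨fun g => SpWeil.wchar h2 hψ hν₀ b s (e g),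
      Char.IsIrrCharacter.comp_equiv (SpWeil.isIrrCharacter_wchar h2 hψ hν₀ hn b s) e⟩
  set q := Fintype.card F with hqdef
  have hq3 : 3 ≤ q := by
    obtain ⟨k, hk⟩ := hodd
    have := Fintype.one_lt_card (α := F)
    omega
  have hQ : q * q ≤ q ^ n := by
    rw [← sq]
    exact Nat.pow_le_pow_right (by omega) hn
  -- classification below the bound
  have hcl : ∀ (χ : Cfsg.IrrCharacter ↥(Matrix.symplecticGroup (Fin n) F)) (k : ℕ),
      χ.1 1 = (k : ℂ) → k ≠ 1 → 2 * (q + 1) * k < (q ^ n - 1) * (q ^ n - q) → ∃ b s, χ = w b s := by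
    rintro ⟨χ, m, ρ, hρ, rfl⟩ k hk hk1 hlt
    have hmk : m = k := by
      simp only [Representation.char_one, Module.finrank_fin_fun] at hk
      exact_mod_cast hk
    subst hmk
    let ρ' : Representation ℂ (Cfsg.spGL n F) (Fin m → ℂ) := ρ.comp e.symm.toMonoidHom
    haveI := hρ
    haveI := Char.nontrivial_of_isIrreducible ρ
    haveI : ρ'.IsIrreducible := CharApp.isIrreducible_of_forall_invariant ρ' fun W hW =>
      CharApp.eq_bot_or_top_of_invariant ρ W fun g v hv => by simpa [ρ'] using hW (e g) v hv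
    have hnt : ∃ g, ρ' g ≠ 1 := by
      by_contra! htriv
      have hm : 0 < m := by
        by_contra! h0
        obtain rfl : m = 0 := by omega
        exact false_of_nontrivial_of_subsingleton (Fin 0 → ℂ)
      let W : Submodule ℂ (Fin m → ℂ) := Submodule.span ℂ {Pi.single ⟨0, hm⟩ (1 : ℂ)}
      rcases CharApp.eq_bot_or_top_of_invariant ρ' W (fun g v hv => by simpa [htriv g] using hv)
        with h | h
      · simp [W] at h
      · have hd : Module.finrank ℂ W = m := by rw [h, finrank_top, Module.finrank_fin_fun]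
        rw [finrank_span_singleton (by simp)] at hd
        omega
    obtain ⟨b, s, hbs⟩ := SpWeil.character_eq_weilPart h2 hψ hν₀ hn ρ' hnt
      (by rwa [Module.finrank_fin_fun])
    refine ⟨b, s, Subtype.ext (funext fun g => ?_)⟩
    show ρ.character g = SpWeil.wchar h2 hψ hν₀ b s (e g)
    rw [← hbs]
    simp [Representation.character, ρ']
  have hw1 : ∀ b s, (w b s).1 1 = ((q : ℂ) ^ n + ((s : ℤ) : ℂ)) / 2 := fun b s => by
    rw [eq_div_iff two_ne_zero, mul_comm]
    show 2 * SpWeil.wchar h2 hψ hν₀ b s (e 1) = _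
    rw [map_one, SpWeil.two_mul_wchar_one]
  have hp : ((q ^ n + 1 : ℕ) : ℂ) / 2 = ((q : ℂ) ^ n + (((1 : ℤˣ) : ℤ) : ℂ)) / 2 := by simp
  have hm : ((q ^ n - 1 : ℕ) : ℂ) / 2 = ((q : ℂ) ^ n + (((-1 : ℤˣ) : ℤ) : ℂ)) / 2 := by
    rw [Nat.cast_sub (Nat.one_le_pow _ _ (by omega))]
    simp [sub_eq_add_neg]
  -- both degrees lie below the bound
  have hcnt : ∀ s : ℤˣ, Nat.card {χ : Cfsg.IrrCharacter ↥(Matrix.symplecticGroup (Fin n) F) //
      χ.1 1 = ((q : ℂ) ^ n + ((s : ℤ) : ℂ)) / 2} = 2 := by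
    intro s
    let f : Bool → {χ : Cfsg.IrrCharacter ↥(Matrix.symplecticGroup (Fin n) F) //
        χ.1 1 = ((q : ℂ) ^ n + ((s : ℤ) : ℂ)) / 2} := fun b => ⟨w b s, hw1 b s⟩
    have hf : Function.Bijective f := by
      refine ⟨fun b b' hb => ?_, fun χ => ?_⟩
      · have hb' : ∀ g, SpWeil.wchar (n := n) h2 hψ hν₀ b s g = SpWeil.wchar h2 hψ hν₀ b' s g :=
          fun g => by
            simpa [w, f] using congrFun (congrArg (fun x => x.1.1) hb) (e.symm g)
        cases b <;> cases b'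
        · rfl
        · exact absurd (funext hb') (SpWeil.weilPart_character_ne h2 hψ hν₀ hn s)
        · exact absurd (funext fun g => (hb' g).symm) (SpWeil.weilPart_character_ne h2 hψ hν₀ hn s)
        · rfl
      · obtain ⟨k, hk0, hk⟩ := Char.IsIrrCharacter.exists_degree χ.1.2
        have h2k : (2 * k : ℤ) = (q : ℤ) ^ n + (s : ℤ) := by
          have := χ.2
          rw [hk, eq_div_iff (two_ne_zero' ℂ)] at this
          have : ((2 * k : ℤ) : ℂ) = (((q : ℤ) ^ n + (s : ℤ) : ℤ) : ℂ) := by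
            push_cast
            linear_combination this
          exact_mod_cast this
        have hle : 2 * k ≤ q ^ n + 1 ∧ q ^ n ≤ 2 * k + 1 := by
          rcases Int.units_eq_one_or s with rfl | rfl
          · have : ((2 * k : ℕ) : ℤ) = ((q ^ n + 1 : ℕ) : ℤ) := by push_cast; simpa using h2k
            omega
          · have : ((2 * k + 1 : ℕ) : ℤ) = ((q ^ n : ℕ) : ℤ) := by
              push_cast
              rw [h2k]
              simp
            omega
        have hlt : 2 * (q + 1) * k < (q ^ n - 1) * (q ^ n - q) := by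
          obtain ⟨Q, hQe⟩ : ∃ Q, q ^ n = Q + q + 1 := ⟨q ^ n - q - 1, by
            have : 3 * q ≤ q * q := Nat.mul_le_mul_right q hq3
            omega⟩
          rw [hQe] at hle hQ ⊢
          rw [show Q + q + 1 - 1 = Q + q by omega, show Q + q + 1 - q = Q + 1 by omega]
          calc 2 * (q + 1) * k = (q + 1) * (2 * k) := by ring
            _ ≤ (q + 1) * (Q + q + 1 + 1) := Nat.mul_le_mul_left _ hle.1
            _ < (Q + q) * (Q + 1) := by
              have h9 : 3 * q ≤ q * q := Nat.mul_le_mul_right q hq3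
              have h2q : 2 * q ≤ Q + 1 := by omega
              nlinarith [Nat.mul_le_mul h2q h2q]
        obtain ⟨b, s', hbs⟩ := hcl χ.1 k hk (by
          have : 9 ≤ q * q := Nat.mul_le_mul hq3 hq3
          omega) hlt
        have hss : s' = s := by
          have := χ.2
          rw [hbs, hw1, div_left_inj' (two_ne_zero' ℂ)] at this
          exact Units.ext (by exact_mod_cast add_left_cancel this)
        subst hss
        exact ⟨b, Subtype.ext hbs.symm⟩
    rw [← Nat.card_congr (Equiv.ofBijective f hf), Nat.card_eq_fintype_card, Fintype.card_bool]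
  refine ⟨?_, ?_, fun χ h1 hP hM => ?_⟩
  · rw [hp]; exact hcnt 1
  · rw [hm]; exact hcnt (-1)
  · obtain ⟨k, hk0, hk⟩ := Char.IsIrrCharacter.exists_degree χ.2
    rw [hk, Complex.norm_natCast]
    by_contra! hlt
    have hlt' : 2 * (q + 1) * k < (q ^ n - 1) * (q ^ n - q) := by
      rw [lt_div_iff₀ (by positivity)] at hlt
      have : ((2 * (q + 1) * k : ℕ) : ℝ) < (((q ^ n - 1) * (q ^ n - q) : ℕ) : ℝ) := by
        rw [Nat.cast_mul ((q ^ n - 1) : ℕ)]
        push_cast
        linarith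
      exact_mod_cast this
    obtain ⟨b, s, rfl⟩ := hcl χ k hk (fun hk1 => h1 (by rw [hk, hk1, Nat.cast_one])) hlt'
    rcases Int.units_eq_one_or s with rfl | rfl
    · exact hP (by rw [hw1, hp])
    · exact hM (by rw [hw1, hm])

end Cfsg.Agent.S2524
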