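import Cfsg.Statements.S2525
import Cfsg.Agent.EqLemmas
import Cfsg.Agent.Lib.ChevPG.Exist

set_option autoImplicit false
open Cfsg

namespace Cfsg.Agent.S2525

open Cfsg.Agent.ChevPG in
theorem adj_combos : ∀ k ∈ ([1, 2, 3, 4, 6, 8, 12] : List ℕ), ∀ l ∈ ([1, 2, 3, 4, 6, 8, 12] : List ℕ), k ≤ l →
    (k = l ∨ (¬ (l = 8 ∨ l = 12) ∧ ¬ (l = 6 ∧ (k = 3 ∨ k = 4)) ∧ ¬ (l = 4 ∧ k = 3))) → (k, l) ∈ adjPairs := by
  decide

open Cfsg.Agent.ChevPG in
theorem order_facts {F : Type*} [Field F] [Fintype F] (h2F : (2 : F) = 0) {r : ℕ} (hr : r.Prime) (hr2 : r ≠ 2)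
    (hrG : r ∣ Nat.card ↥(Cfsg.Lie.chevF4.group F)) :
    ¬ r ∣ Fintype.card F ∧ orderOf ((Fintype.card F : ℕ) : ZMod r) ∈ ([1, 2, 3, 4, 6, 8, 12] : List ℕ) := by
  have : Fact r.Prime := ⟨hr⟩
  have hq : ¬ r ∣ Fintype.card F := by
    obtain ⟨p, hp⟩ := CharP.exists F
    obtain ⟨n, hpr, hn⟩ := FiniteField.card F p
    intro h
    rw [hn] at h
    have e1 := (Nat.prime_dvd_prime_iff_eq hr hpr).1 (hr.dvd_of_dvd_pow h)
    have e2 : p ∣ 2 := (CharP.cast_eq_zero_iff F p 2).1 (by exact_mod_cast h2F)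
    exact hr2 (e1.trans ((Nat.prime_dvd_prime_iff_eq hpr Nat.prime_two).1 e2))
  refine ⟨hq, ?_⟩
  rw [ChevOrder.card_F4 (q := Fintype.card F) rfl hD4] at hrG
  have hq1 : 1 ≤ Fintype.card F := Fintype.card_pos
  have key : ∀ d ∈ ([2, 6, 8, 12] : List ℕ), r ∣ Fintype.card F ^ d - 1 →
      orderOf ((Fintype.card F : ℕ) : ZMod r) ∈ ([1, 2, 3, 4, 6, 8, 12] : List ℕ) := by
    intro d hd h
    rw [← ZMod.natCast_eq_zero_iff, Nat.cast_sub (Nat.one_le_pow _ _ hq1), Nat.cast_pow, Nat.cast_one,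
      sub_eq_zero] at h
    have := order_mem_degs hd h
    simpa [degs] using this
  rcases hr.dvd_mul.1 hrG with h | h
  · rcases hr.dvd_mul.1 h with h | h
    · rcases hr.dvd_mul.1 h with h | h
      · rcases hr.dvd_mul.1 h with h | h
        · exact absurd (hr.dvd_of_dvd_pow h) hq
        · exact key 2 (by simp) h
      · exact key 6 (by simp) h
    · exact key 8 (by simp) h
  · exact key 12 (by simp) h

open Cfsg.Agent.ChevPG in
/-- Adjacency of two odd primes whose orders avoid the listed configurations. -/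
theorem adjacent_of_le {F : Type*} [Field F] [Fintype F] (h2F : (2 : F) = 0) {r s : ℕ} (hr : r.Prime) (hs : s.Prime)
    (hrs : r ≠ s) (hr2 : r ≠ 2) (hs2 : s ≠ 2) (hrG : r ∣ Nat.card ↥(Cfsg.Lie.chevF4.group F))
    (hsG : s ∣ Nat.card ↥(Cfsg.Lie.chevF4.group F))
    (hle : orderOf ((Fintype.card F : ℕ) : ZMod r) ≤ orderOf ((Fintype.card F : ℕ) : ZMod s))
    (h : ¬ (orderOf ((Fintype.card F : ℕ) : ZMod r) < orderOf ((Fintype.card F : ℕ) : ZMod s) ∧
      (orderOf ((Fintype.card F : ℕ) : ZMod s) ∈ ({8, 12} : Finset ℕ) ∨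
        (orderOf ((Fintype.card F : ℕ) : ZMod s) = 6 ∧ orderOf ((Fintype.card F : ℕ) : ZMod r) ∈ ({3, 4} : Finset ℕ)) ∨
        (orderOf ((Fintype.card F : ℕ) : ZMod s) = 4 ∧ orderOf ((Fintype.card F : ℕ) : ZMod r) = 3)))) :
    ∃ x : ↥(Cfsg.Lie.chevF4.group F), orderOf x = r * s := by
  obtain ⟨hrq, hk⟩ := order_facts h2F hr hr2 hrG
  obtain ⟨hsq, hl⟩ := order_facts h2F hs hs2 hsG
  refine adjacent_pair hr hs hrs hrq hsq (adj_combos _ hk _ hl hle ?_) rfl rfl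
  rcases hle.eq_or_lt with e | e
  · exact Or.inl e
  · simp only [Finset.mem_insert, Finset.mem_singleton] at h
    push Not at h
    obtain ⟨h1, h2, h3⟩ := h e
    exact Or.inr ⟨by rintro (h' | h'); exacts [h1.1 h', h1.2 h'],
      by rintro ⟨h', h'' | h''⟩; exacts [(h2 h').1 h'', (h2 h').2 h''], fun ⟨h', h''⟩ => h3 h' h''⟩


/-- Let F be a finite field with q = 2^n elements and G = F₄(F). For an odd prime r let e(r, q) be the multiplicative order of q modulo r. Two distinct primes r, s dividing the order of G are non-adjacent in the prime graph of G (no element of order rs) if and only if, up to swapping r and s, either r = 2 and e(s, q) ∈ {8, 12}, or r, s are both odd with k = e(r, q) < l = e(s, q) and one of: l ∈ {8, 12}; l = 6 and k ∈ {3, 4}; l = 4 and k = 3. -/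
theorem result {F : Type*} [Field F] [Fintype F] (n : ℕ) (hn : 1 ≤ n) (hF : Fintype.card F = 2 ^ n)
    (r s : ℕ) (hr : r.Prime) (hs : s.Prime) (hrs : r ≠ s) (hrG : r ∣ Nat.card ↥(Cfsg.Lie.chevF4.group F)) (hsG : s ∣ Nat.card ↥(Cfsg.Lie.chevF4.group F)) :
    (¬ ∃ x : ↥(Cfsg.Lie.chevF4.group F), orderOf x = r * s) ↔
      ((r = 2 ∧ orderOf ((Fintype.card F : ℕ) : ZMod s) ∈ ({8, 12} : Finset ℕ)) ∨ (s = 2 ∧ orderOf ((Fintype.card F : ℕ) : ZMod r) ∈ ({8, 12} : Finset ℕ)) ∨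
       (r ≠ 2 ∧ s ≠ 2 ∧
         ((orderOf ((Fintype.card F : ℕ) : ZMod r) < orderOf ((Fintype.card F : ℕ) : ZMod s) ∧ (orderOf ((Fintype.card F : ℕ) : ZMod s) ∈ ({8, 12} : Finset ℕ) ∨ (orderOf ((Fintype.card F : ℕ) : ZMod s) = 6 ∧ orderOf ((Fintype.card F : ℕ) : ZMod r) ∈ ({3, 4} : Finset ℕ)) ∨ (orderOf ((Fintype.card F : ℕ) : ZMod s) = 4 ∧ orderOf ((Fintype.card F : ℕ) : ZMod r) = 3))) ∨
          (orderOf ((Fintype.card F : ℕ) : ZMod s) < orderOf ((Fintype.card F : ℕ) : ZMod r) ∧ (orderOf ((Fintype.card F : ℕ) : ZMod r) ∈ ({8, 12} : Finset ℕ) ∨ (orderOf ((Fintype.card F : ℕ) : ZMod r) = 6 ∧ orderOf ((Fintype.card F : ℕ) : ZMod s) ∈ ({3, 4} : Finset ℕ)) ∨ (orderOf ((Fintype.card F : ℕ) : ZMod r) = 4 ∧ orderOf ((Fintype.card F : ℕ) : ZMod s) = 3)))))) := by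
  have h2F : (2 : F) = 0 := by
    have h := FiniteField.cast_card_eq_zero F
    rw [hF, Nat.cast_pow, Nat.cast_ofNat] at h
    exact (pow_eq_zero_iff (by omega)).1 h
  constructor
  · intro hno
    by_cases hr2 : r = 2
    · subst hr2
      refine Or.inl ⟨rfl, ?_⟩
      obtain ⟨hsq, hl⟩ := order_facts h2F hs (Ne.symm hrs) hsG
      by_contra h
      simp only [Finset.mem_insert, Finset.mem_singleton, not_or] at h
      refine hno (ChevPG.adjacent_two h2F hs (Ne.symm hrs) hsq ?_ rfl)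
      simp only [List.mem_cons, List.not_mem_nil, or_false] at hl ⊢
      omega
    by_cases hs2 : s = 2
    · subst hs2
      refine Or.inr (Or.inl ⟨rfl, ?_⟩)
      obtain ⟨hrq, hl⟩ := order_facts h2F hr hr2 hrG
      by_contra h
      simp only [Finset.mem_insert, Finset.mem_singleton, not_or] at h
      obtain ⟨x, hx⟩ := ChevPG.adjacent_two h2F hr hr2 hrq (l := orderOf ((Fintype.card F : ℕ) : ZMod r))
        (by simp only [List.mem_cons, List.not_mem_nil, or_false] at hl ⊢; omega) rfl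
      exact hno ⟨x, by rw [hx, mul_comm]⟩
    refine Or.inr (Or.inr ⟨hr2, hs2, ?_⟩)
    by_contra h
    push Not at h
    rcases le_total (orderOf ((Fintype.card F : ℕ) : ZMod r)) (orderOf ((Fintype.card F : ℕ) : ZMod s)) with hle | hle
    · exact hno (adjacent_of_le h2F hr hs hrs hr2 hs2 hrG hsG hle (by push Not; exact h.1))
    · obtain ⟨x, hx⟩ := adjacent_of_le h2F hs hr (Ne.symm hrs) hs2 hr2 hsG hrG hle (by push Not; exact h.2)
      exact hno ⟨x, by rw [hx, mul_comm]⟩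
  · have swap : (¬ ∃ x : ↥(Cfsg.Lie.chevF4.group F), orderOf x = s * r) →
        ¬ ∃ x : ↥(Cfsg.Lie.chevF4.group F), orderOf x = r * s := fun h ⟨x, hx⟩ => h ⟨x, by rw [hx, mul_comm]⟩
    simp only [Finset.mem_insert, Finset.mem_singleton]
    rintro (⟨rfl, h⟩ | ⟨rfl, h⟩ | ⟨hr2, hs2, (⟨hlt, h⟩ | ⟨hlt, h⟩)⟩)
    · exact ChevPG.no_element_regular h2F hr hs hrs h rfl (Or.inl rfl)
    · exact swap (ChevPG.no_element_regular h2F hs hr (Ne.symm hrs) h rfl (Or.inl rfl))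
    · rcases h with h | ⟨h, h'⟩ | ⟨h, h'⟩
      · exact ChevPG.no_element_regular h2F hr hs hrs h rfl (Or.inr hlt.ne)
      · exact ChevPG.no_element_pair hr hs hrs rfl rfl (by omega)
      · exact ChevPG.no_element_pair hr hs hrs rfl rfl (by omega)
    · rcases h with h | ⟨h, h'⟩ | ⟨h, h'⟩
      · exact swap (ChevPG.no_element_regular h2F hs hr (Ne.symm hrs) h rfl (Or.inr hlt.ne))
      · exact swap (ChevPG.no_element_pair hs hr (Ne.symm hrs) rfl rfl (by omega))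
      · exact swap (ChevPG.no_element_pair hs hr (Ne.symm hrs) rfl rfl (by omega))

end Cfsg.Agent.S2525
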