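import Cfsg.Statements.S2530
import Cfsg.Agent.EqLemmas
import Cfsg.Agent.Lib.ThreeTrans.SymmPresentation

set_option autoImplicit false
set_option linter.style.haveILetI false
set_option linter.unusedSimpArgs false
open Cfsg

namespace Cfsg.Agent.S2530

/-- The Coxeter presentation of the symmetric group: for every n, the symmetric group on n+1 letters is the Coxeter group of type A_n with the adjacent transpositions (i, i+1) as simple reflections; that is, it is presented by generators r_1, …, r_n subject to r_i² = 1, (r_i r_j)² = 1 for |i − j| > 1 and (r_i r_{i+1})³ = 1, with r_i mapping to (i, i+1). -/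
theorem result (n : ℕ) :
    ∃ cs : CoxeterSystem (CoxeterMatrix.A n) (Equiv.Perm (Fin (n + 1))), ∀ i : Fin n, cs.simple i = Equiv.swap i.castSucc i.succ := by
  classical
  let M := CoxeterMatrix.A n
  let cs₀ := M.toCoxeterSystem
  let f : Fin n → Equiv.Perm (Fin (n + 1)) := fun i => Equiv.swap i.castSucc i.succ
  have hM : ∀ i j : Fin n, M i j = if i = j then 1 else (if (j : ℕ) + 1 = i ∨ (i : ℕ) + 1 = j then 3 else 2) :=
    fun i j => rfl
  have h3 : ∀ a b c : Fin (n + 1), a ≠ b → a ≠ c → b ≠ c → (Equiv.swap b a * Equiv.swap b c) ^ 3 = 1 := by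
    intro a b c hab hac hbc
    have h := (Equiv.Perm.isThreeCycle_swap_mul_swap_same hab.symm hbc hac).orderOf
    rw [← h]; exact pow_orderOf_eq_one _
  have hf : M.IsLiftable f := by
    intro i j
    rw [hM]
    split_ifs with hij hadj
    · subst hij; simp [f]
    · rcases hadj with h | h
      · show (Equiv.swap i.castSucc i.succ * Equiv.swap j.castSucc j.succ) ^ 3 = 1
        rw [show j.succ = i.castSucc from Fin.ext (by simp; omega), Equiv.swap_comm j.castSucc]
        exact h3 i.succ i.castSucc j.castSucc (by simp [Fin.ext_iff]) (by simp [Fin.ext_iff]; omega)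
          (by simp [Fin.ext_iff]; omega)
      · show (Equiv.swap i.castSucc i.succ * Equiv.swap j.castSucc j.succ) ^ 3 = 1
        rw [show j.castSucc = i.succ from Fin.ext (by simp; omega), Equiv.swap_comm i.castSucc]
        exact h3 i.castSucc i.succ j.succ (by simp [Fin.ext_iff]) (by simp [Fin.ext_iff]; omega)
          (by simp [Fin.ext_iff]; omega)
    · have hne : (i : ℕ) ≠ j := fun h => hij (Fin.ext h)
      have hd : Equiv.Perm.Disjoint (f i) (f j) := by
        intro x
        by_cases hx : x = i.castSucc ∨ x = i.succ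
        · right
          refine Equiv.swap_apply_of_ne_of_ne ?_ ?_ <;> rcases hx with rfl | rfl <;>
            simp [Fin.ext_iff] <;> omega
        · left
          push Not at hx
          exact Equiv.swap_apply_of_ne_of_ne hx.1 hx.2
      rw [hd.commute.mul_pow]
      simp [f, pow_two]
  let t : ℕ → M.Group := fun k => if hk : k < n then cs₀.simple ⟨k, hk⟩ else 1
  have ht : ∀ (k : ℕ) (hk : k < n), t k = cs₀.simple ⟨k, hk⟩ := fun k hk => dif_pos hk
  have hb : ThreeTrans.BraidA t n := by
    refine ⟨fun i hi => ?_, fun i hi => ?_, fun i j h1 h2 => ?_⟩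
    · rw [ht i hi]; exact cs₀.simple_mul_simple_self _
    · rw [ht i (by omega), ht (i + 1) hi]
      have h := cs₀.simple_mul_simple_pow ⟨i, by omega⟩ ⟨i + 1, hi⟩
      rw [hM, if_neg (by simp [Fin.ext_iff]), if_pos (Or.inr rfl)] at h
      have ha := cs₀.simple_mul_simple_self ⟨i, by omega⟩
      have hb := cs₀.simple_mul_simple_self ⟨i + 1, hi⟩
      generalize cs₀.simple ⟨i, _⟩ = a at h ha ⊢
      generalize cs₀.simple ⟨i + 1, hi⟩ = b at h hb ⊢
      calc a * b * a = (a * b) ^ 3 * (b⁻¹ * a⁻¹ * b⁻¹) := by simp only [pow_succ, pow_zero, one_mul]; group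
        _ = b * a * b := by
          rw [h, one_mul, inv_eq_of_mul_eq_one_right ha, inv_eq_of_mul_eq_one_right hb]
    · rw [ht i (by omega), ht j h2]
      have h := cs₀.simple_mul_simple_pow ⟨i, by omega⟩ ⟨j, h2⟩
      rw [hM, if_neg (by simp [Fin.ext_iff]; omega), if_neg (by simp; omega)] at h
      have ha := cs₀.simple_mul_simple_self ⟨i, by omega⟩
      have hb := cs₀.simple_mul_simple_self ⟨j, h2⟩
      generalize cs₀.simple ⟨i, _⟩ = a at h ha ⊢
      generalize cs₀.simple ⟨j, h2⟩ = b at h hb ⊢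
      show a * b = b * a
      calc a * b = (a * b) ^ 2 * (b⁻¹ * a⁻¹) := by simp only [pow_succ, pow_zero, one_mul]; group
        _ = b * a := by rw [h, one_mul, inv_eq_of_mul_eq_one_right ha, inv_eq_of_mul_eq_one_right hb]
  obtain ⟨ψ, hψ⟩ := ThreeTrans.exists_hom_perm hb
  let φ : M.Group →* Equiv.Perm (Fin (n + 1)) := cs₀.lift ⟨f, hf⟩
  have hφ : ∀ i, φ (cs₀.simple i) = f i := fun i => cs₀.lift_apply_simple hf i
  have h1 : φ.comp ψ = MonoidHom.id _ := by
    refine MonoidHom.eq_of_eqOn_denseM (Equiv.Perm.mclosure_swap_castSucc_succ n) ?_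
    rintro _ ⟨i, rfl⟩
    show φ (ψ (Equiv.swap i.castSucc i.succ)) = Equiv.swap i.castSucc i.succ
    rw [hψ, ht i i.isLt, Fin.eta, hφ]
  have h2 : ψ.comp φ = MonoidHom.id _ := by
    refine cs₀.ext_simple fun i => ?_
    show ψ (φ (cs₀.simple i)) = cs₀.simple i
    rw [hφ, hψ, ht i i.isLt, Fin.eta]
  refine ⟨⟨MonoidHom.toMulEquiv ψ φ h1 h2⟩, fun i => ?_⟩
  show (MonoidHom.toMulEquiv ψ φ h1 h2).symm (cs₀.simple i) = _
  exact hφ i

end Cfsg.Agent.S2530
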