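import Cfsg.Statements.S2531
import Cfsg.Agent.EqLemmas

set_option autoImplicit false
set_option linter.style.haveILetI false
set_option linter.unusedSimpArgs false
open Cfsg

namespace Cfsg.Agent.S2531

/-- Let `F` be a finite field and `n ≥ 3`. No set of permutations of the points of the projective space of `Fⁿ`, each induced by an invertible semilinear transformation of `Fⁿ` (so a subset of the full projective semilinear group), is sharply 2-transitive on the points: it is impossible that for all pairs of distinct points `(a, b)` and `(c, d)` exactly one member of the set sends `a` to `c` and `b` to `d`. -/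
theorem result {F : Type*} [Field F] [Finite F]
    (n : ℕ) (hn : 3 ≤ n) (S : Set (Equiv.Perm (Projectivization F (Fin n → F))))
    (hS : ∀ s ∈ S, ∃ (σ : F ≃+* F) (f : (Fin n → F) →ₛₗ[(σ : F →+* F)] (Fin n → F)) (hf : Function.Injective f),
      ∀ x, s x = Projectivization.map f hf x) :
    ¬ (∀ a b c d : Projectivization F (Fin n → F), a ≠ b → c ≠ d →
        ∃! s, s ∈ S ∧ s a = c ∧ s b = d) := by
  classical
  intro hsharp
  set q := Nat.card F with hq
  have hq2 : 1 < q := Finite.one_lt_card
  have hVcard : Nat.card (Fin n → F) = q ^ n := by rw [Nat.card_fun, Nat.card_fin]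
  haveI : Finite (Projectivization F (Fin n → F)) := by
    exact (Projectivization.finite_iff_of_finite F (Fin n → F)).2 inferInstance
  -- the hyperplane, a point off it, a point on it
  let W : Submodule F (Fin n → F) := LinearMap.ker (LinearMap.proj (⟨0, by omega⟩ : Fin n))
  let H : Set (Projectivization F (Fin n → F)) := {x | x.submodule ≤ W}
  have hmem : ∀ (v : Fin n → F) (hv : v ≠ 0), Projectivization.mk F v hv ∈ H ↔ v ∈ W := fun v hv => by
    simp [H, Projectivization.submodule_mk]
  let P := Projectivization.mk F (Pi.single (M := fun _ : Fin n => F) (⟨0, by omega⟩ : Fin n) 1) (by simp)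
  have hP : P ∉ H := by
    rw [hmem]; simp [W]
  let x₀ := Projectivization.mk F (Pi.single (M := fun _ : Fin n => F) (⟨1, by omega⟩ : Fin n) 1) (by simp)
  have hx₀ : x₀ ∈ H := by
    rw [hmem]; simp [W]
  -- points of a nonzero subspace
  have hsub : ∀ U : Submodule F (Fin n → F), U ≠ ⊥ →
      (Nat.card {x : Projectivization F (Fin n → F) // x.submodule ≤ U} : ZMod q) = 1 := by
    intro U hU
    have e : Projectivization F U ≃ {x : Projectivization F (Fin n → F) // x.submodule ≤ U} := by
      refine Equiv.ofBijective (fun x => ⟨Projectivization.map U.subtype U.injective_subtype x, ?_⟩) ⟨?_, ?_⟩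
      · induction x using Projectivization.ind with | h v hv =>
        rw [Projectivization.map_mk, Projectivization.submodule_mk]; simp
      · intro a b hab; exact Projectivization.map_injective _ U.injective_subtype (Subtype.ext_iff.1 hab)
      · rintro ⟨x, hx⟩
        induction x using Projectivization.ind with | h v hv =>
        rw [Projectivization.submodule_mk, Submodule.span_singleton_le_iff_mem] at hx
        exact ⟨Projectivization.mk F ⟨v, hx⟩ (by simpa using hv), Subtype.ext rfl⟩
    have h1 : Nat.card U = Nat.card (Projectivization F U) * (q - 1) + 1 := Projectivization.card' F U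
    have hpos : 0 < Module.finrank F U := Nat.pos_of_ne_zero fun h => hU (Submodule.finrank_eq_zero.1 h)
    rw [Module.natCard_eq_pow_finrank (K := F)] at h1
    rw [← Nat.card_congr e]
    have h2 := congrArg (Nat.cast : ℕ → ZMod q) h1
    rw [Nat.cast_pow, Nat.cast_add, Nat.cast_mul, Nat.cast_sub hq2.le] at h2
    simp only [← hq, ZMod.natCast_self, zero_pow hpos.ne', zero_sub, Nat.cast_one, mul_neg, mul_one] at h2
    linear_combination h2
  have hWbot : W ≠ ⊥ := by
    intro h
    have : (Pi.single (M := fun _ : Fin n => F) (⟨1, by omega⟩ : Fin n) 1) ∈ W := by simp [W]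
    rw [h] at this; simp at this
  have hWcard : Nat.card W = q ^ (n - 1) := by
    rw [Module.natCard_eq_pow_finrank (K := F)]
    congr 1
    have h1 := LinearMap.finrank_range_add_finrank_ker (LinearMap.proj (⟨0, by omega⟩ : Fin n) : (Fin n → F) →ₗ[F] F)
    rw [LinearMap.range_eq_top.2 (LinearMap.proj_surjective _), finrank_top, Module.finrank_self,
      Module.finrank_pi, Fintype.card_fin] at h1
    show Module.finrank F (LinearMap.ker _) = _
    omega
  -- the maps fixing `P`
  haveI : Fintype (Projectivization F (Fin n → F)) := Fintype.ofFinite _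
  let T := {s // s ∈ S ∧ s P = P}
  haveI : Fintype T := Fintype.ofFinite _
  have hne : ∀ {x}, x ∈ H → P ≠ x := fun hx h => hP (h ▸ hx)
  have hT : (Fintype.card T : ZMod q) = 0 := by
    have e : T ≃ {y : Projectivization F (Fin n → F) // y ≠ P} := by
      refine Equiv.ofBijective (fun s => ⟨s.1 x₀, fun h => hne hx₀ (s.1.injective (s.2.2.trans h.symm))⟩) ⟨?_, ?_⟩
      · intro s t hst
        have h' := Subtype.ext_iff.1 hst
        exact Subtype.ext ((hsharp P x₀ P (t.1 x₀) (hne hx₀) (fun h => hne hx₀ (t.1.injective (t.2.2.trans h)))).unique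
          ⟨s.2.1, s.2.2, h'⟩ ⟨t.2.1, t.2.2, rfl⟩)
      · rintro ⟨y, hy⟩
        obtain ⟨s, ⟨hs1, hs2, hs3⟩, -⟩ := hsharp P x₀ P y (hne hx₀) (Ne.symm hy)
        exact ⟨⟨s, hs1, hs2⟩, Subtype.ext hs3⟩
    have h1 : Fintype.card T + 1 = Nat.card (Projectivization F (Fin n → F)) := by
      rw [Fintype.card_congr e, Fintype.card_subtype_compl, Fintype.card_subtype_eq, Nat.card_eq_fintype_card]
      have : 0 < Fintype.card (Projectivization F (Fin n → F)) := Fintype.card_pos_iff.2 ⟨P⟩
      omega
    have h2 : (Nat.card (Projectivization F (Fin n → F)) : ZMod q) = 1 := by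
      rw [← hsub ⊤ (by
        intro h
        have : (Pi.single (M := fun _ : Fin n => F) (⟨1, by omega⟩ : Fin n) 1) ∈ (⊤ : Submodule F (Fin n → F)) := trivial
        rw [h] at this; simp at this)]
      exact congrArg _ (Nat.card_congr (Equiv.subtypeUnivEquiv fun _ => le_top).symm)
    rw [← h1, Nat.cast_add, Nat.cast_one] at h2
    linear_combination h2
  -- double counting
  let e2 : (Σ s : T, {x : H // s.1 x.1 ∈ H}) ≃ H × H := by
    refine Equiv.ofBijective (fun a => (a.2.1, ⟨_, a.2.2⟩)) ⟨?_, ?_⟩
    · rintro ⟨s, x, hx⟩ ⟨t, y, hy⟩ h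
      simp only [Prod.mk.injEq, Subtype.mk.injEq] at h
      obtain ⟨rfl, h2⟩ := h
      obtain rfl : s = t := Subtype.ext ((hsharp P x.1 P (t.1 x.1) (hne x.2) (hne hy)).unique
        ⟨s.2.1, s.2.2, h2⟩ ⟨t.2.1, t.2.2, rfl⟩)
      rfl
    · rintro ⟨⟨x, hx⟩, ⟨y, hy⟩⟩
      obtain ⟨s, ⟨hs1, hs2, hs3⟩, -⟩ := hsharp P x P y (hne hx) (hne hy)
      exact ⟨⟨⟨s, hs1, hs2⟩, ⟨⟨x, hx⟩, show s x ∈ H from hs3 ▸ hy⟩⟩, by simp [hs3]⟩
  have hH : (Nat.card H : ZMod q) = 1 := hsub W hWbot
  have hterm : ∀ s : T, (Nat.card {x : H // s.1 x.1 ∈ H} : ZMod q) = 1 := by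
    intro s
    obtain ⟨σ, f, hf, hsf⟩ := hS s.1 s.2.1
    let U : Submodule F (Fin n → F) := W ⊓ Submodule.comap f W
    have hU : U ≠ ⊥ := by
      intro h
      have hinj : Function.Injective (fun p : W × W => f p.1 - (p.2 : Fin n → F)) := by
        rintro ⟨a, b⟩ ⟨c, d⟩ h1
        simp only at h1
        have h2 : f ((a : Fin n → F) - c) = (b : Fin n → F) - d := by
          rw [map_sub]; exact sub_eq_sub_iff_sub_eq_sub.1 h1
        have h3 : ((a : Fin n → F) - c) ∈ U :=
          ⟨W.sub_mem a.2 c.2, show f _ ∈ W from h2 ▸ W.sub_mem b.2 d.2⟩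
        rw [h, Submodule.mem_bot, sub_eq_zero] at h3
        rw [h3, sub_self, map_zero] at h2
        exact Prod.ext (Subtype.ext h3) (Subtype.ext (sub_eq_zero.1 h2.symm))
      have := Nat.card_le_card_of_injective _ hinj
      rw [Nat.card_prod, hWcard, hVcard, ← pow_add, Nat.pow_le_pow_iff_right hq2] at this
      omega
    rw [← hsub U hU]
    refine congrArg _ (Nat.card_congr ((Equiv.subtypeSubtypeEquivSubtypeInter _ (fun x => s.1 x ∈ H)).trans
      (Equiv.subtypeEquivRight fun x => ?_)))
    rw [hsf]
    induction x using Projectivization.ind with | h v hv =>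
    rw [Projectivization.map_mk, hmem, hmem, Projectivization.submodule_mk, Submodule.span_singleton_le_iff_mem]
    rfl
  have hcount := congrArg (Nat.cast : ℕ → ZMod q) (Nat.card_congr e2)
  rw [Nat.card_sigma, Nat.card_prod, Nat.cast_mul, hH, Nat.cast_sum] at hcount
  simp only [hterm, Finset.sum_const, Finset.card_univ, nsmul_eq_mul, hT, zero_mul, mul_one] at hcount
  haveI : Fact (1 < q) := ⟨hq2⟩
  exact zero_ne_one hcount

end Cfsg.Agent.S2531
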