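import Cfsg.Statements.S2532
import Cfsg.Agent.EqLemmas

set_option autoImplicit false
set_option linter.style.haveILetI false
set_option linter.unusedSimpArgs false
open Cfsg

namespace Cfsg.Agent.S2532

/-- There is a function `f` of two natural-number arguments such that, whenever `m ≥ f(n, r)`, every subgroup of order `n` of the alternating group of degree `m` centralizes some subgroup of that alternating group isomorphic to the alternating group of degree `r`. -/
theorem result :
    ∃ f : ℕ → ℕ → ℕ, ∀ (m r : ℕ) (H : Subgroup ↥(alternatingGroup (Fin m))), f (Nat.card H) r ≤ m →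
      ∃ K : Subgroup ↥(alternatingGroup (Fin m)), Nonempty (↥K ≃* ↥(alternatingGroup (Fin r))) ∧
        K ≤ Subgroup.centralizer (H : Set ↥(alternatingGroup (Fin m))) := by
  classical
  refine ⟨fun h r => h * (r * 2 ^ h) + 1, fun m r H hm => ?_⟩
  haveI : Fintype H := Fintype.ofFinite H
  let Ω := MulAction.orbitRel.Quotient H (Fin m)
  haveI : Fintype Ω := Fintype.ofFinite Ω
  have hΩ : m ≤ Nat.card H * Fintype.card Ω := by
    have hsurj : Function.Surjective (fun p : H × Ω => p.1 • p.2.out) := by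
      intro x
      obtain ⟨h, hh⟩ : Quotient.out (Quotient.mk'' x : Ω) ∈ MulAction.orbit H x := by
        rw [← MulAction.orbitRel_apply]; exact Quotient.mk_out (s := MulAction.orbitRel H (Fin m)) x
      refine ⟨(h⁻¹, Quotient.mk'' x), ?_⟩
      show h⁻¹ • Quotient.out (Quotient.mk'' x : Ω) = x
      rw [← hh]
      exact inv_smul_smul h x
    have := Fintype.card_le_of_surjective _ hsurj
    simpa [Nat.card_eq_fintype_card] using this
  obtain ⟨S, hS⟩ : ∃ S : Finset H, r ≤ (Finset.univ.filter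
      (fun ω : Ω => (Finset.univ.filter fun h : H => h • ω.out = ω.out) = S)).card := by
    by_contra hcon
    push Not at hcon
    have h1 : Fintype.card Ω ≤ r * 2 ^ Fintype.card H := by
      rw [← Fintype.card_finset, ← Finset.card_univ, ← Finset.card_univ]
      exact Finset.card_le_mul_card_image_of_maps_to (f := fun ω : Ω => Finset.univ.filter fun h : H => h • ω.out = ω.out)
        (fun _ _ => Finset.mem_univ _) r fun S _ => (hcon S).le
    rw [← Nat.card_eq_fintype_card (α := H)] at h1
    nlinarith [Nat.mul_le_mul_left (Nat.card H) h1]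
  obtain ⟨T, hTsub, hTcard⟩ := Finset.exists_subset_card_eq hS
  let e : Fin r ≃ T := (Finset.equivFinOfCardEq hTcard).symm
  let x : Fin r → Fin m := fun j => ((e j : T) : Ω).out
  have hx : ∀ j i, ∀ h : H, h • x j = x j → h • x i = x i := by
    intro j i h hh
    have hj := (Finset.mem_filter.1 (hTsub (e j).2)).2
    have hi := (Finset.mem_filter.1 (hTsub (e i).2)).2
    have : h ∈ Finset.univ.filter fun h : H => h • x i = x i := by
      show h ∈ Finset.univ.filter fun h : H => h • ((e i : T) : Ω).out = ((e i : T) : Ω).out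
      rw [hi, ← hj]; simpa using hh
    simpa using this
  have horb : ∀ j i (h h' : H), h • x j = h' • x i → j = i := by
    intro j i h h' hh
    apply e.injective; apply Subtype.ext
    have h1 : ∀ (h : H) (j : Fin r), (Quotient.mk'' (h • x j) : Ω) = (e j : T) := fun h j => by
      conv_rhs => rw [← Quotient.out_eq' ((e j : T) : Ω)]
      exact Quotient.sound' (MulAction.mem_orbit _ _)
    rw [← h1 h j, ← h1 h' i, hh]
  let X := {y : Fin m // ∃ j, ∃ h : H, h • x j = y}
  -- a permutation of the chosen orbits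
  let σf : Equiv.Perm (Fin r) → Fin m → Fin m := fun σ y =>
    if hy : ∃ p : Fin r × H, p.2 • x p.1 = y then hy.choose.2 • x (σ hy.choose.1) else y
  have hσ : ∀ σ (j : Fin r) (h : H), σf σ (h • x j) = h • x (σ j) := by
    intro σ j h
    have hy : ∃ p : Fin r × H, p.2 • x p.1 = h • x j := ⟨(j, h), rfl⟩
    simp only [σf, dif_pos hy]
    have hc := hy.choose_spec
    generalize hy.choose = p at hc ⊢
    obtain ⟨j', h'⟩ := p
    simp only at hc ⊢
    obtain rfl : j' = j := horb _ _ _ _ hc
    have h1 : (h⁻¹ * h') • x j' = x j' := by rw [mul_smul, inv_smul_eq_iff]; exact hc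
    have h2 := hx j' (σ j') _ h1
    rwa [mul_smul, inv_smul_eq_iff] at h2
  have hσout : ∀ σ y, (¬ ∃ p : Fin r × H, p.2 • x p.1 = y) → σf σ y = y := fun σ y hy => by
    simp only [σf, dif_neg hy]
  have hmul : ∀ σ τ y, σf σ (σf τ y) = σf (σ * τ) y := by
    intro σ τ y
    by_cases hy : ∃ p : Fin r × H, p.2 • x p.1 = y
    · obtain ⟨⟨j, h⟩, rfl⟩ := hy
      simp only [hσ, Equiv.Perm.mul_apply]
    · simp only [hσout _ _ hy]
  have hone : ∀ y, σf 1 y = y := by
    intro y
    by_cases hy : ∃ p : Fin r × H, p.2 • x p.1 = y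
    · obtain ⟨⟨j, h⟩, rfl⟩ := hy
      simp only [hσ, Equiv.Perm.one_apply]
    · exact hσout _ _ hy
  let Φ : Equiv.Perm (Fin r) →* Equiv.Perm (Fin m) :=
    { toFun := fun σ => ⟨σf σ, σf σ⁻¹, fun y => by rw [hmul, inv_mul_cancel, hone],
        fun y => by rw [hmul, mul_inv_cancel, hone]⟩
      map_one' := Equiv.ext hone
      map_mul' := fun σ τ => Equiv.ext fun y => (hmul σ τ y).symm }
  have hΦ : ∀ σ, σ ∈ alternatingGroup (Fin r) → Φ σ ∈ alternatingGroup (Fin m) := by
    intro σ hσ
    rw [Equiv.Perm.mem_alternatingGroup]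
    rw [← Equiv.Perm.closure_three_cycles_eq_alternating] at hσ
    induction hσ using Subgroup.closure_induction with
    | mem t ht =>
      have h3 : (Equiv.Perm.sign (Φ t)) ^ 3 = 1 := by
        rw [← map_pow, ← map_pow, ← ht.orderOf, pow_orderOf_eq_one, map_one, map_one]
      rcases Int.units_eq_one_or (Equiv.Perm.sign (Φ t)) with h | h
      · exact h
      · rw [h] at h3; simp [pow_succ] at h3
    | one => simp
    | mul a b _ _ ha hb => simp [map_mul, ha, hb]
    | inv a _ ha => simp [map_inv, ha]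
  let Ψ : alternatingGroup (Fin r) →* alternatingGroup (Fin m) :=
    (Φ.comp (alternatingGroup (Fin r)).subtype).codRestrict _ fun σ => hΦ σ σ.2
  have hΨ : Function.Injective Ψ := by
    refine (injective_iff_map_eq_one Ψ).2 fun σ hσ1 => Subtype.ext (Equiv.ext fun j => ?_)
    have h1 : σf (σ : Equiv.Perm (Fin r)) ((1 : H) • x j) = (1 : H) • x j :=
      Equiv.congr_fun (Subtype.ext_iff.1 hσ1) ((1 : H) • x j)
    rw [hσ] at h1
    exact horb _ _ _ _ h1
  refine ⟨Ψ.range, ⟨(MonoidHom.ofInjective hΨ).symm⟩, ?_⟩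
  rintro _ ⟨σ, rfl⟩
  rw [Subgroup.mem_centralizer_iff]
  intro a ha
  refine Subtype.ext (Equiv.ext fun y => ?_)
  show (a : Equiv.Perm (Fin m)) (σf σ y) = σf σ ((a : Equiv.Perm (Fin m)) y)
  by_cases hy : ∃ p : Fin r × H, p.2 • x p.1 = y
  · obtain ⟨⟨j, h⟩, rfl⟩ := hy
    show (⟨a, ha⟩ : H) • σf σ (h • x j) = σf σ ((⟨a, ha⟩ : H) • h • x j)
    rw [hσ, ← mul_smul, ← mul_smul, hσ]
  · rw [hσout _ _ hy, hσout _ _]
    rintro ⟨⟨j, h⟩, hh⟩
    refine hy ⟨(j, (⟨a, ha⟩ : H)⁻¹ * h), ?_⟩
    rw [mul_smul, inv_smul_eq_iff]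
    exact hh

end Cfsg.Agent.S2532
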