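import Cfsg.Statements.S2533
import Cfsg.Agent.EqLemmas

set_option autoImplicit false
set_option linter.unusedSimpArgs false
set_option linter.style.haveILetI false
set_option linter.unusedSectionVars false
open Cfsg

namespace Cfsg.Agent.S2533

open Matrix

variable (p : ℕ) [Fact p.Prime]

/-- The elementary abelian part. -/
abbrev E : Type := Multiplicative (Fin 3 → ZMod p)

/-- Inversion action of the two units of `ℤ`. -/
def invAction : ℤˣ →* MulAut (E p) where
  toFun u :=
    { toFun := fun v => Multiplicative.ofAdd ((u : ℤ) • v.toAdd)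
      invFun := fun v => Multiplicative.ofAdd ((u : ℤ) • v.toAdd)
      left_inv := fun v => by rcases Int.units_eq_one_or u with rfl | rfl <;> simp
      right_inv := fun v => by rcases Int.units_eq_one_or u with rfl | rfl <;> simp
      map_mul' := fun v w => by simp [← ofAdd_add, smul_add] }
  map_one' := by ext v; simp
  map_mul' u w := by ext v; simp [mul_smul]

/-- The group `E ⋊ ⟨-1⟩`. -/
abbrev H : Type := E p ⋊[invAction p] ℤˣ

variable (m : ℕ)

/-- The shift matrix. -/
def shiftMat : Matrix (Fin m) (Fin m) (ZMod p) := Matrix.of fun i j => if (i : ℕ) + 1 = j then 1 else 0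

/-- The image of a vector. -/
def pencil (v : Fin 3 → ZMod p) : Matrix (Fin m) (Fin m) (ZMod p) :=
  v 0 • (1 : Matrix (Fin m) (Fin m) (ZMod p)) + v 1 • shiftMat p m + v 2 • (shiftMat p m)ᵀ

theorem pencil_zero : pencil p m 0 = 0 := by simp [pencil]

theorem pencil_add (v w : Fin 3 → ZMod p) : pencil p m (v + w) = pencil p m v + pencil p m w := by
  simp only [pencil, Pi.add_apply, add_smul]; abel

theorem pencil_smul (c : ℤ) (v : Fin 3 → ZMod p) : pencil p m (c • v) = (c : ZMod p) • pencil p m v := by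
  simp only [pencil, Pi.smul_apply, smul_add, smul_smul, zsmul_eq_mul, Int.cast_id]

variable {m}

theorem pencil_injective (hm : 2 ≤ m) {v : Fin 3 → ZMod p} (h : pencil p m v = 0) : v = 0 := by
  have h0 := congrFun (congrFun h ⟨0, by omega⟩) ⟨0, by omega⟩
  have h1 := congrFun (congrFun h ⟨0, by omega⟩) ⟨1, by omega⟩
  have h2 := congrFun (congrFun h ⟨1, by omega⟩) ⟨0, by omega⟩
  simp [pencil, shiftMat, Matrix.one_apply, Fin.ext_iff] at h0 h1 h2
  funext i; fin_cases i <;> simpa

theorem shiftMat_mul_apply (A : Matrix (Fin m) (Fin m) (ZMod p)) (i j : Fin m) (hi : (i : ℕ) + 1 < m) :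
    (shiftMat p m * A) i j = A ⟨i + 1, hi⟩ j := by
  rw [Matrix.mul_apply, Finset.sum_eq_single ⟨i + 1, hi⟩]
  · simp [shiftMat]
  · intro k _ hk
    have : (i : ℕ) + 1 ≠ k := fun e => hk (Fin.ext e.symm)
    simp [shiftMat, this]
  · simp

theorem mul_shiftMat_apply (A : Matrix (Fin m) (Fin m) (ZMod p)) (i j : Fin m) (k : ℕ) (hk : k < m)
    (hkj : k + 1 = j) : (A * shiftMat p m) i j = A i ⟨k, hk⟩ := by
  rw [Matrix.mul_apply, Finset.sum_eq_single ⟨k, hk⟩]
  · simp [shiftMat, hkj]
  · intro l _ hl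
    have : (l : ℕ) + 1 ≠ j := fun e => hl (Fin.ext (show (l : ℕ) = k by omega))
    simp [shiftMat, this]
  · simp

theorem mul_shiftMat_zero (A : Matrix (Fin m) (Fin m) (ZMod p)) (i j : Fin m) (hj : (j : ℕ) = 0) :
    (A * shiftMat p m) i j = 0 := by
  rw [Matrix.mul_apply]
  refine Finset.sum_eq_zero fun k _ => ?_
  simp [shiftMat, hj]

theorem eq_scalar_of_commute (hm : 0 < m) {A : Matrix (Fin m) (Fin m) (ZMod p)}
    (h1 : A * shiftMat p m = shiftMat p m * A) (h2 : A * (shiftMat p m)ᵀ = (shiftMat p m)ᵀ * A) :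
    A = A ⟨0, hm⟩ ⟨0, hm⟩ • (1 : Matrix (Fin m) (Fin m) (ZMod p)) := by
  have h3 : Aᵀ * shiftMat p m = shiftMat p m * Aᵀ := by
    have := congrArg Matrix.transpose h2
    simpa [Matrix.transpose_mul] using this.symm
  have col0 : ∀ (B : Matrix (Fin m) (Fin m) (ZMod p)), B * shiftMat p m = shiftMat p m * B →
      ∀ i : Fin m, (i : ℕ) ≠ 0 → B i ⟨0, hm⟩ = 0 := by
    intro B hB i hi
    have h := congrFun (congrFun hB ⟨i - 1, by omega⟩) ⟨0, hm⟩
    rw [mul_shiftMat_zero p B _ _ rfl, shiftMat_mul_apply p B _ _ (by have := i.isLt; simp; omega)] at h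
    rw [h]; congr 1; exact Fin.ext (show (i : ℕ) = (i : ℕ) - 1 + 1 by omega)
  have step : ∀ i j : Fin m, ∀ (hi : (i : ℕ) + 1 < m) (hj : (j : ℕ) + 1 < m),
      A ⟨i + 1, hi⟩ ⟨j + 1, hj⟩ = A i j := by
    intro i j hi hj
    have h := congrFun (congrFun h1 i) ⟨j + 1, hj⟩
    rw [mul_shiftMat_apply p A i _ j j.isLt rfl, shiftMat_mul_apply p A i _ hi] at h
    exact h.symm
  have key : ∀ (a : ℕ) (ha : a < m) (j : Fin m), A ⟨a, ha⟩ j = if a = j then A ⟨0, hm⟩ ⟨0, hm⟩ else 0 := by
    intro a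
    induction a with
    | zero =>
      intro ha j
      split_ifs with h
      · rw [show j = ⟨0, hm⟩ from Fin.ext h.symm]
      · exact col0 Aᵀ h3 j (fun e => h e.symm)
    | succ a ih =>
      intro ha j
      obtain ⟨j, hjlt⟩ := j
      rcases j with _ | j
      · rw [if_neg (by simp)]
        exact col0 A h1 ⟨a + 1, ha⟩ (by simp)
      · rw [step ⟨a, by omega⟩ ⟨j, by omega⟩ ha hjlt, ih]
        simp
  ext i j
  rw [key i i.isLt j]
  simp [Matrix.one_apply, Fin.ext_iff]

variable (m)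

/-- The unipotent part. -/
def unip : E p →* Matrix.SpecialLinearGroup (Fin m ⊕ Fin m) (ZMod p) where
  toFun v := ⟨fromBlocks 1 (pencil p m v.toAdd) 0 1, by simp⟩
  map_one' := Subtype.ext (by simp [pencil_zero, fromBlocks_one])
  map_mul' v w := Subtype.ext (by
    show fromBlocks 1 (pencil p m (v.toAdd + w.toAdd)) 0 1 = fromBlocks 1 (pencil p m v.toAdd) 0 1 * fromBlocks 1 (pencil p m w.toAdd) 0 1
    simp [pencil_add, fromBlocks_multiply, add_comm])

/-- The involution. -/
def flipHom (hm : Even m) : ℤˣ →* Matrix.SpecialLinearGroup (Fin m ⊕ Fin m) (ZMod p) where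
  toFun u := ⟨fromBlocks (((u : ℤ) : ZMod p) • (1 : Matrix (Fin m) (Fin m) (ZMod p))) 0 0 1, by
    rcases Int.units_eq_one_or u with rfl | rfl <;> simp [det_fromBlocks_zero₂₁, Matrix.det_neg, hm.neg_one_pow]⟩
  map_one' := Subtype.ext (by simp [fromBlocks_one])
  map_mul' u w := Subtype.ext (by
    show fromBlocks _ 0 0 1 = fromBlocks _ 0 0 1 * fromBlocks _ 0 0 1
    simp [fromBlocks_multiply, smul_smul, mul_comm])

/-- The representation. -/
def rep (hm : Even m) : H p →* Matrix.SpecialLinearGroup (Fin m ⊕ Fin m) (ZMod p) :=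
  SemidirectProduct.lift (unip p m) (flipHom p m hm) fun u => by
    refine MonoidHom.ext fun v => ?_
    refine eq_mul_inv_of_mul_eq (Subtype.ext ?_)
    rw [Matrix.SpecialLinearGroup.coe_mul, Matrix.SpecialLinearGroup.coe_mul]
    show fromBlocks 1 (pencil p m ((u : ℤ) • v.toAdd)) 0 1 * fromBlocks (((u : ℤ) : ZMod p) • 1) 0 0 1 =
      fromBlocks (((u : ℤ) : ZMod p) • 1) 0 0 1 * fromBlocks 1 (pencil p m v.toAdd) 0 1
    rw [pencil_smul]
    simp [fromBlocks_multiply]

theorem rep_coe (hm : Even m) (x : H p) : ((rep p m hm x).1 : Matrix (Fin m ⊕ Fin m) (Fin m ⊕ Fin m) (ZMod p)) =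
    fromBlocks (((x.right : ℤ) : ZMod p) • 1) (pencil p m x.left.toAdd) 0 1 := by
  conv_lhs => rw [← SemidirectProduct.inl_left_mul_inr_right x]
  rw [rep, map_mul, SemidirectProduct.lift_inl, SemidirectProduct.lift_inr, Matrix.SpecialLinearGroup.coe_mul]
  show fromBlocks 1 (pencil p m x.left.toAdd) 0 1 * fromBlocks (((x.right : ℤ) : ZMod p) • 1) 0 0 1 = _
  simp [fromBlocks_multiply]

/-- Relabelling. -/
def relabel {ι κ : Type*} [Fintype ι] [DecidableEq ι] [Fintype κ] [DecidableEq κ] (e : ι ≃ κ) :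
    Matrix.SpecialLinearGroup ι (ZMod p) →* Matrix.SpecialLinearGroup κ (ZMod p) where
  toFun g := ⟨reindexAlgEquiv (ZMod p) (ZMod p) e g.1, by rw [det_reindexAlgEquiv]; exact g.2⟩
  map_one' := Subtype.ext (by simp)
  map_mul' a b := Subtype.ext (map_mul (reindexAlgEquiv (ZMod p) (ZMod p) e) a.1 b.1)

theorem relabel_surjective {ι κ : Type*} [Fintype ι] [DecidableEq ι] [Fintype κ] [DecidableEq κ] (e : ι ≃ κ) :
    Function.Surjective (relabel p e) := by
  intro g
  refine ⟨⟨reindexAlgEquiv (ZMod p) (ZMod p) e.symm g.1, by rw [det_reindexAlgEquiv]; exact g.2⟩, Subtype.ext ?_⟩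
  show reindexAlgEquiv (ZMod p) (ZMod p) e (reindexAlgEquiv (ZMod p) (ZMod p) e.symm g.1) = g.1
  ext i j
  simp

theorem relabel_eq_scalar {ι κ : Type*} [Fintype ι] [DecidableEq ι] [Fintype κ] [DecidableEq κ] (e : ι ≃ κ)
    (g : Matrix.SpecialLinearGroup ι (ZMod p)) :
    relabel p e g ∈ Subgroup.center _ ↔ ∃ r : ZMod p, (g : Matrix ι ι (ZMod p)) = r • 1 ∧ r ^ Fintype.card ι = 1 := by
  rw [Matrix.SpecialLinearGroup.mem_center_iff, Fintype.card_congr e]
  refine exists_congr fun r => ?_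
  rw [and_comm]
  refine and_congr_left fun _ => ?_
  constructor
  · intro h
    apply (reindexAlgEquiv (ZMod p) (ZMod p) e).injective
    rw [map_smul, map_one, smul_one_eq_diagonal]
    exact h.symm
  · intro h
    show scalar κ r = reindexAlgEquiv (ZMod p) (ZMod p) e (g : Matrix ι ι (ZMod p))
    rw [h, map_smul, map_one, smul_one_eq_diagonal]
    rfl


/-- For every odd prime `p` there is a finite group `H` of order `2p³` which, for infinitely many `n`, embeds in the projective special linear group `PSL(n, p)` as a subgroup with trivial centralizer. -/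
theorem result
    (p : ℕ) [Fact p.Prime] (hp : p ≠ 2) :
    ∃ (H : Type) (_ : Group H) (_ : Finite H), Nat.card H = 2 * p ^ 3 ∧
      ∀ N : ℕ, ∃ n, N ≤ n ∧ ∃ φ : H →* Matrix.ProjectiveSpecialLinearGroup (Fin n) (ZMod p),
        Function.Injective φ ∧ Subgroup.centralizer (φ.range : Set (Matrix.ProjectiveSpecialLinearGroup (Fin n) (ZMod p))) = ⊥ := by
  classical
  have h1p : (-1 : ZMod p) ≠ 1 := by
    intro h
    have h2 : ((2 : ℕ) : ZMod p) = 0 := by
      have := congrArg (fun x => 1 - x) h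
      simpa [one_add_one_eq_two] using this
    rw [ZMod.natCast_eq_zero_iff] at h2
    exact hp ((Nat.prime_dvd_prime_iff_eq (Fact.out) Nat.prime_two).mp h2)
  refine ⟨H p, inferInstance, Finite.of_equiv _ SemidirectProduct.equivProd.symm, ?_, fun N => ?_⟩
  · rw [Nat.card_congr SemidirectProduct.equivProd, Nat.card_prod]
    simp [Nat.card_eq_fintype_card, mul_comm]
  obtain ⟨m, hm, hm2, hmN⟩ : ∃ m, Even m ∧ 2 ≤ m ∧ N ≤ m :=
    ⟨2 * (N + 1), even_two_mul _, by omega, by omega⟩
  refine ⟨m + m, by omega, (QuotientGroup.mk' _).comp ((relabel p finSumFinEquiv).comp (rep p m hm)), ?_, ?_⟩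
  · rw [injective_iff_map_eq_one]
    intro x hx
    rw [MonoidHom.comp_apply, MonoidHom.comp_apply, QuotientGroup.mk'_apply, QuotientGroup.eq_one_iff,
      relabel_eq_scalar] at hx
    obtain ⟨r, hr, -⟩ := hx
    rw [rep_coe, ← fromBlocks_one, fromBlocks_smul, fromBlocks_inj] at hr
    obtain ⟨h11, h12, -, h22⟩ := hr
    have hr1 : r = 1 := by simpa using (congrFun (congrFun h22 ⟨0, by omega⟩) ⟨0, by omega⟩).symm
    have hu : x.right = 1 := by
      rcases Int.units_eq_one_or x.right with h | h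
      · exact h
      · exfalso
        have := congrFun (congrFun h11 ⟨0, by omega⟩) ⟨0, by omega⟩
        rw [h, hr1] at this
        simp [h1p] at this
    have hv : x.left = 1 := by
      have := pencil_injective p hm2 (v := x.left.toAdd) (by simpa using h12)
      exact Multiplicative.toAdd.injective this
    exact SemidirectProduct.ext hv hu
  · rw [Subgroup.eq_bot_iff_forall]
    intro z hz
    obtain ⟨g', rfl⟩ := QuotientGroup.mk'_surjective _ z
    obtain ⟨g, rfl⟩ := relabel_surjective p finSumFinEquiv g'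
    have hcomm : ∀ x : H p, ∃ r : ZMod p, (g : Matrix _ _ (ZMod p)) * ((rep p m hm x).1 : Matrix (Fin m ⊕ Fin m) (Fin m ⊕ Fin m) (ZMod p)) =
        r • (((rep p m hm x).1 : Matrix (Fin m ⊕ Fin m) (Fin m ⊕ Fin m) (ZMod p)) * (g : Matrix _ _ (ZMod p))) := by
      intro x
      have h := Subgroup.mem_centralizer_iff.mp hz _ ⟨x, rfl⟩
      simp only [MonoidHom.comp_apply, QuotientGroup.mk'_apply] at h
      rw [← QuotientGroup.mk_mul, ← QuotientGroup.mk_mul, QuotientGroup.eq, ← map_mul, ← map_mul, ← map_inv,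
        ← map_mul, relabel_eq_scalar] at h
      obtain ⟨r, hr, -⟩ := h
      refine ⟨r, ?_⟩
      have e : (rep p m hm x * g).1 * ((rep p m hm x * g)⁻¹ * (g * rep p m hm x)).1 = (g * rep p m hm x).1 := by
        rw [← Matrix.SpecialLinearGroup.coe_mul, mul_inv_cancel_left]
      rw [hr, Matrix.mul_smul, mul_one] at e
      simpa using e.symm
    obtain ⟨A, B, C, D, hg⟩ : ∃ A B C D, (g : Matrix (Fin m ⊕ Fin m) (Fin m ⊕ Fin m) (ZMod p)) = fromBlocks A B C D :=
      ⟨_, _, _, _, (fromBlocks_toBlocks _).symm⟩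
    have hu : ∀ v : Fin 3 → ZMod p, ∃ r : ZMod p, A = r • (A + pencil p m v * C) ∧
        A * pencil p m v + B = r • (B + pencil p m v * D) ∧ C = r • C ∧ C * pencil p m v + D = r • D := by
      intro v
      obtain ⟨r, hr⟩ := hcomm (SemidirectProduct.inl (Multiplicative.ofAdd v))
      rw [hg, rep_coe, fromBlocks_multiply, fromBlocks_multiply, fromBlocks_smul, fromBlocks_inj] at hr
      exact ⟨r, by simpa using hr⟩
    obtain ⟨k, hk⟩ : ∃ k : Fin m, k = ⟨0, by omega⟩ := ⟨_, rfl⟩
    have hdet : (g : Matrix (Fin m ⊕ Fin m) (Fin m ⊕ Fin m) (ZMod p)).det ≠ 0 := by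
      rw [g.2]; exact one_ne_zero
    have hu1 : ∀ v : Fin 3 → ZMod p, pencil p m v * C = 0 ∧ C * pencil p m v = 0 ∧
        A * pencil p m v = pencil p m v * D := by
      intro v
      obtain ⟨r, e1, e2, e3, e4⟩ := hu v
      have hr1 : r = 1 := by
        by_contra hne
        have h' : (1 : ZMod p) - r ≠ 0 := sub_ne_zero.mpr (Ne.symm hne)
        have hC : C = 0 := (smul_eq_zero.mp (by rw [sub_smul, one_smul, ← e3, sub_self] :
          ((1 : ZMod p) - r) • C = 0)).resolve_left h'
        rw [hC, Matrix.mul_zero, add_zero] at e1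
        have hA : A = 0 := (smul_eq_zero.mp (by rw [sub_smul, one_smul, ← e1, sub_self] :
          ((1 : ZMod p) - r) • A = 0)).resolve_left h'
        refine hdet (Matrix.det_eq_zero_of_column_eq_zero (Sum.inl k) fun i => ?_)
        rw [hg, hA, hC]
        rcases i with i | i <;> simp
      rw [hr1, one_smul] at e1 e2 e3 e4
      exact ⟨by simpa using e1.symm, by simpa using e4, by rw [add_comm B] at e2; exact add_right_cancel e2⟩
    have hI : pencil p m ![1, 0, 0] = 1 := by simp [pencil]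
    have hJ : pencil p m ![0, 1, 0] = shiftMat p m := by simp [pencil]
    have hJ' : pencil p m ![0, 0, 1] = (shiftMat p m)ᵀ := by simp [pencil]
    obtain ⟨hC, -, hAD⟩ := hu1 ![1, 0, 0]
    rw [hI, Matrix.one_mul] at hC
    rw [hI, Matrix.one_mul, Matrix.mul_one] at hAD
    subst hAD
    obtain ⟨-, -, hc1⟩ := hu1 ![0, 1, 0]
    obtain ⟨-, -, hc2⟩ := hu1 ![0, 0, 1]
    rw [hJ] at hc1
    rw [hJ'] at hc2
    obtain ⟨a, ha⟩ : ∃ a : ZMod p, A = a • 1 := ⟨_, eq_scalar_of_commute p (by omega) hc1 hc2⟩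
    subst ha hC
    have ha0 : a ≠ 0 := by
      rintro rfl
      refine hdet (Matrix.det_eq_zero_of_column_eq_zero (Sum.inl k) fun i => ?_)
      rw [hg]
      rcases i with i | i <;> simp
    obtain ⟨r, hr⟩ := hcomm (SemidirectProduct.inr (-1))
    rw [hg, rep_coe, fromBlocks_multiply, fromBlocks_multiply, fromBlocks_smul, fromBlocks_inj] at hr
    simp [pencil_zero] at hr
    obtain ⟨-, hB, hD⟩ := hr
    have hr1 : r = 1 := by
      have := congrFun (congrFun hD k) k
      simp [smul_smul] at this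
      exact (mul_right_cancel₀ ha0 ((one_mul a).trans this)).symm
    subst hr1
    have hB0 : B = 0 := by
      rw [one_smul] at hB
      ext i j
      have := congrFun (congrFun hB i) j
      simp only [Matrix.neg_apply] at this
      have h2 : (1 - (-1 : ZMod p)) * B i j = 0 := by linear_combination this
      exact (mul_eq_zero.mp h2).resolve_left (sub_ne_zero.mpr h1p.symm)
    rw [QuotientGroup.mk'_apply, QuotientGroup.eq_one_iff, relabel_eq_scalar]
    refine ⟨a, by rw [hg, hB0, ← fromBlocks_one, fromBlocks_smul, smul_zero], ?_⟩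
    have hd := g.2
    rw [hg, hB0, show fromBlocks (a • (1 : Matrix (Fin m) (Fin m) (ZMod p))) 0 0 (a • 1) = a • 1 from by
      rw [← fromBlocks_one, fromBlocks_smul, smul_zero], det_smul, det_one, mul_one] at hd
    exact hd

end Cfsg.Agent.S2533
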