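import Cfsg.Statements.S2534
import Cfsg.Agent.Lib.PermHall.Hall

set_option autoImplicit false
open Cfsg

open scoped Pointwise

namespace Cfsg.Agent.S2534

open Equiv Equiv.Perm PermHall in
/-- If `A_n` is a `D_π`-group every `π`-subgroup stabilises an object. -/
theorem exists_obj_of_dpi {α : Type*} [Fintype α] [DecidableEq α] {π : Set ℕ} (hmix : Mixed π (Fintype.card α))
    (hD : Cfsg.IsDPiGroup π (alternatingGroup α)) (U : Subgroup (Perm α)) (hUA : U ≤ alternatingGroup α)
    (hU : ∀ p : ℕ, p.Prime → p ∣ Nat.card U → p ∈ π) :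
    ∃ 𝓕, Obj π α 𝓕 ∧ U ≤ MulAction.stabilizer (Perm α) 𝓕 := by
  have hbot : Cfsg.IsPiSubgroup π (⊥ : Subgroup (alternatingGroup α)) := fun p hp h => absurd h (by simp [hp.ne_one])
  obtain ⟨H, -, hH⟩ := Finite.exists_le_maximal hbot
  have hHall : Cfsg.IsPiHall π H := by
    refine ⟨hH.prop, fun p hp hpπ h => ?_⟩
    haveI := Fact.mk hp
    obtain ⟨P⟩ : Nonempty (Sylow p (alternatingGroup α)) := inferInstance
    have hP : Cfsg.IsPiSubgroup π (P : Subgroup (alternatingGroup α)) := fun r hr hdvd => by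
      obtain ⟨k, hk⟩ := IsPGroup.iff_card.mp P.2
      rwa [(Nat.prime_dvd_prime_iff_eq hr hp).mp (hr.dvd_of_dvd_pow (hk ▸ hdvd))]
    obtain ⟨K, hPK, hK⟩ := Finite.exists_le_maximal hP
    obtain ⟨g, rfl⟩ := hD H K hH hK
    refine P.not_dvd_index (dvd_trans ?_ (Subgroup.index_dvd_of_le hPK))
    rwa [Subgroup.index_map_of_bijective (MulEquiv.bijective _)]
  have hU' : Cfsg.IsPiSubgroup π (U.subgroupOf (alternatingGroup α)) := fun p hp hd =>
    hU p hp (by rwa [Nat.card_congr (Subgroup.subgroupOfEquivOfLe hUA).toEquiv] at hd)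
  obtain ⟨K, hUK, hK⟩ := Finite.exists_le_maximal hU'
  obtain ⟨g, rfl⟩ := hD H K hH hK
  obtain ⟨𝓕, h𝓕, he⟩ := classify_alt hmix (Solvable.isPiHall_map hHall (f := (MulAut.conj g).toMonoidHom) (MulEquiv.surjective _))
  refine ⟨𝓕, h𝓕, fun x hx => ?_⟩
  have h := hUK (show (⟨x, hUA hx⟩ : alternatingGroup α) ∈ U.subgroupOf _ from hx)
  rw [show H.map (MulAut.conj g).toMonoidHom = _ from he] at h
  exact h

/-- `A₄` on six points inside `S₇`, as a list. -/
def six7 : List (Equiv.Perm (Fin 7)) :=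
  let a : Equiv.Perm (Fin 7) := Equiv.swap 0 1 * Equiv.swap 1 2 * (Equiv.swap 3 4 * Equiv.swap 4 5)
  let b : Equiv.Perm (Fin 7) := Equiv.swap 0 3 * Equiv.swap 1 4
  let v := [1, b, a * b * a⁻¹, b * (a * b * a⁻¹)]
  v ++ v.map (a * ·) ++ v.map (a * a * ·)

/-- `A₄` on six points inside `S₈`, as a list. -/
def six8 : List (Equiv.Perm (Fin 8)) :=
  let a : Equiv.Perm (Fin 8) := Equiv.swap 0 1 * Equiv.swap 1 2 * (Equiv.swap 3 4 * Equiv.swap 4 5)
  let b : Equiv.Perm (Fin 8) := Equiv.swap 0 3 * Equiv.swap 1 4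
  let v := [1, b, a * b * a⁻¹, b * (a * b * a⁻¹)]
  v ++ v.map (a * ·) ++ v.map (a * a * ·)

theorem six7_facts : (∀ x ∈ six7, ∀ y ∈ six7, x * y ∈ six7) ∧ (∀ x ∈ six7, x⁻¹ ∈ six7) ∧ 1 ∈ six7 ∧
    (∀ x ∈ six7, Equiv.Perm.sign x = 1) ∧ six7.toFinset.card = 12 := by
  have hm : ∀ j : Fin six7.length, ∀ k : Fin six7.length, ∃ l : Fin six7.length,
      ∀ i, six7[j.1] (six7[k.1] i) = six7[l.1] i := by decide +kernel
  have hi : ∀ j : Fin six7.length, ∃ k : Fin six7.length, ∀ i, six7[j.1] (six7[k.1] i) = i := by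
    decide +kernel
  have h1 : ∃ j : Fin six7.length, ∀ i, six7[j.1] i = i := by decide +kernel
  have hd : ∀ j : Fin six7.length, ∀ k : Fin six7.length, j ≠ k → ∃ i, six7[j.1] i ≠ six7[k.1] i := by
    decide +kernel
  have key : ∀ x ∈ six7, ∃ j : Fin six7.length, six7[j.1] = x := fun x hx => by
    obtain ⟨j, hj, e⟩ := List.getElem_of_mem hx
    exact ⟨⟨j, hj⟩, e⟩
  refine ⟨?_, ?_, ?_, ?_, ?_⟩
  · intro x hx y hy
    obtain ⟨j, rfl⟩ := key x hx
    obtain ⟨k, rfl⟩ := key y hy
    obtain ⟨l, hl⟩ := hm j k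
    rw [show six7[j.1] * six7[k.1] = six7[l.1] from Equiv.ext hl]
    exact List.getElem_mem _
  · intro x hx
    obtain ⟨j, rfl⟩ := key x hx
    obtain ⟨k, hk⟩ := hi j
    rw [inv_eq_of_mul_eq_one_right (show six7[j.1] * six7[k.1] = 1 from Equiv.ext hk)]
    exact List.getElem_mem _
  · obtain ⟨j, hj⟩ := h1
    rw [← show six7[j.1] = 1 from Equiv.ext hj]
    exact List.getElem_mem _
  · simp [six7, Equiv.Perm.sign_swap']
  · rw [List.toFinset_card_of_nodup (List.nodup_iff_injective_get.2 fun j k h => ?_)]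
    · rfl
    · by_contra hne
      obtain ⟨i, hi'⟩ := hd j k hne
      exact hi' (Equiv.congr_fun h i)

theorem six7_no_fix : ∀ S ∈ Finset.powersetCard 3 (Finset.univ : Finset (Fin 7)), ∃ x ∈ six7, x • S ≠ S := by
  decide +kernel

theorem six8_facts : (∀ x ∈ six8, ∀ y ∈ six8, x * y ∈ six8) ∧ (∀ x ∈ six8, x⁻¹ ∈ six8) ∧ 1 ∈ six8 ∧
    (∀ x ∈ six8, Equiv.Perm.sign x = 1) ∧ six8.toFinset.card = 12 := by
  have hm : ∀ j : Fin six8.length, ∀ k : Fin six8.length, ∃ l : Fin six8.length,
      ∀ i, six8[j.1] (six8[k.1] i) = six8[l.1] i := by decide +kernel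
  have hi : ∀ j : Fin six8.length, ∃ k : Fin six8.length, ∀ i, six8[j.1] (six8[k.1] i) = i := by
    decide +kernel
  have h1 : ∃ j : Fin six8.length, ∀ i, six8[j.1] i = i := by decide +kernel
  have hd : ∀ j : Fin six8.length, ∀ k : Fin six8.length, j ≠ k → ∃ i, six8[j.1] i ≠ six8[k.1] i := by
    decide +kernel
  have key : ∀ x ∈ six8, ∃ j : Fin six8.length, six8[j.1] = x := fun x hx => by
    obtain ⟨j, hj, e⟩ := List.getElem_of_mem hx
    exact ⟨⟨j, hj⟩, e⟩
  refine ⟨?_, ?_, ?_, ?_, ?_⟩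
  · intro x hx y hy
    obtain ⟨j, rfl⟩ := key x hx
    obtain ⟨k, rfl⟩ := key y hy
    obtain ⟨l, hl⟩ := hm j k
    rw [show six8[j.1] * six8[k.1] = six8[l.1] from Equiv.ext hl]
    exact List.getElem_mem _
  · intro x hx
    obtain ⟨j, rfl⟩ := key x hx
    obtain ⟨k, hk⟩ := hi j
    rw [inv_eq_of_mul_eq_one_right (show six8[j.1] * six8[k.1] = 1 from Equiv.ext hk)]
    exact List.getElem_mem _
  · obtain ⟨j, hj⟩ := h1
    rw [← show six8[j.1] = 1 from Equiv.ext hj]
    exact List.getElem_mem _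
  · simp [six8, Equiv.Perm.sign_swap']
  · rw [List.toFinset_card_of_nodup (List.nodup_iff_injective_get.2 fun j k h => ?_)]
    · rfl
    · by_contra hne
      obtain ⟨i, hi'⟩ := hd j k hne
      exact hi' (Equiv.congr_fun h i)

theorem six8_no_fix : ∀ B ∈ Finset.powersetCard 4 (Finset.univ : Finset (Fin 8)),
    ∃ x ∈ six8, x • B ≠ B ∧ x • B ≠ Bᶜ := by
  decide +kernel

/-- The subgroup carried by a closed list. -/
def listSubgroup {G : Type*} [Group G] (L : List G) (hm : ∀ x ∈ L, ∀ y ∈ L, x * y ∈ L) (hi : ∀ x ∈ L, x⁻¹ ∈ L)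
    (h1 : 1 ∈ L) : Subgroup G where
  carrier := {x | x ∈ L}
  one_mem' := h1
  mul_mem' := fun {x y} hx hy => hm x hx y hy
  inv_mem' := fun {x} hx => hi x hx

theorem swap_mem_iff {β : Type*} [DecidableEq β] {T : Finset β} {a b z : β} (h : a ∈ T ↔ b ∈ T) :
    Equiv.swap a b z ∈ T ↔ z ∈ T := by
  rw [Equiv.swap_apply_def]
  split_ifs with h1 h2
  · rw [h1]; exact h.symm
  · rw [h2]; exact h
  · exact Iff.rfl

set_option maxHeartbeats 1000000 in
open Equiv Equiv.Perm PermHall in
theorem not_dpi {n : ℕ} {π : Set ℕ} (hmix : Mixed π (Fintype.card (Fin n))) :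
    ¬ Cfsg.IsDPiGroup π (alternatingGroup (Fin n)) := by
  classical
  intro hD
  have h5 := hmix.five_le
  obtain ⟨𝓕₀, hobj₀, -⟩ := exists_obj_of_dpi hmix hD ⊥ bot_le (fun p hp h => absurd h (by simp [hp.ne_one]))
  rw [Fintype.card_fin] at h5
  have h12 : ∀ {m : ℕ} (hc : ∀ r, r.Prime → r ≤ m → (r ∈ π ↔ (r = 2 ∨ r = 3))) (_ : 5 ≤ m) (L : List (Perm (Fin m)))
      (hm : ∀ x ∈ L, ∀ y ∈ L, x * y ∈ L) (hi : ∀ x ∈ L, x⁻¹ ∈ L) (h1 : 1 ∈ L),
      L.toFinset.card = 12 → ∀ p : ℕ, p.Prime → p ∣ Nat.card (listSubgroup L hm hi h1) → p ∈ π := by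
    intro m hc hm5 L hm hi h1 h12 p hp hd
    have hcard : Nat.card (listSubgroup L hm hi h1) = 12 := by
      rw [← h12, ← Nat.card_eq_finsetCard]
      exact Nat.card_congr (Equiv.subtypeEquivRight fun x => List.mem_toFinset.symm)
    rw [hcard] at hd
    have hle := Nat.le_of_dvd (by norm_num) hd
    have := hp.two_le
    refine (hc p hp ?_).2 ?_ <;> interval_cases p <;> simp_all (config := {decide := true}) <;> omega
  rcases hobj₀ with ⟨hp, hc, -⟩ | ⟨hc, h78⟩
  · rw [Fintype.card_fin] at hp hc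
    obtain ⟨S, -, hS⟩ := Finset.exists_subset_card_eq (s := (Finset.univ : Finset (Fin n))) (n := 3)
      (by rw [Finset.card_univ, Fintype.card_fin]; omega)
    have hidx := index_stabilizer_finset S
    obtain ⟨𝓕, hobj, hle⟩ := exists_obj_of_dpi hmix hD
      (MulAction.stabilizer (Perm (Fin n)) ({S} : Finset (Finset (Fin n))) ⊓ alternatingGroup (Fin n)) inf_le_right (by
        intro p hpp hd
        have hd' := hd.trans (Subgroup.card_dvd_of_le inf_le_left)
        have hle := PermHall.prime_le_of_dvd_card hpp hd'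
        rw [Fintype.card_fin] at hle
        refine (hc p hpp hle).2 (lt_of_le_of_ne hle ?_)
        rintro rfl
        have hci := (MulAction.stabilizer (Perm (Fin p)) ({S} : Finset (Finset (Fin p)))).card_mul_index
        rw [hidx, hS, Nat.card_perm, Nat.card_eq_fintype_card (α := Fin p), Fintype.card_fin] at hci
        have h2 : p * p ∣ p.factorial := hci ▸ Nat.mul_dvd_mul hd' (hpp.dvd_choose_self (by norm_num) (by omega))
        obtain ⟨m, rfl⟩ : ∃ m, p = m + 1 := ⟨p - 1, by omega⟩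
        rw [Nat.factorial_succ, Nat.mul_dvd_mul_iff_left (by omega)] at h2
        have := (Nat.Prime.dvd_factorial hpp).1 h2
        omega)
    rcases hobj with ⟨-, -, x, rfl⟩ | ⟨hc', h78'⟩
    · -- an even permutation preserving `S` and moving `x`
      obtain ⟨T, hxT, hT2, hpair⟩ : ∃ T : Finset (Fin n), x ∈ T ∧ (T = S ∨ T = Sᶜ) ∧
          ∃ c ∈ Tᶜ, ∃ d ∈ Tᶜ, c ≠ d := by
        have hcard : 1 < Sᶜ.card := by rw [Finset.card_compl, Fintype.card_fin, hS]; omega
        by_cases hx : x ∈ S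
        · exact ⟨S, hx, Or.inl rfl, Finset.one_lt_card.1 hcard⟩
        · refine ⟨Sᶜ, Finset.mem_compl.2 hx, Or.inr rfl, ?_⟩
          rw [compl_compl]
          exact Finset.one_lt_card.1 (by omega)
      obtain ⟨y, hy, hyx⟩ : ∃ y ∈ T, y ≠ x := by
        refine Finset.exists_mem_ne ?_ x
        rcases hT2 with rfl | rfl
        · omega
        · rw [Finset.card_compl, Fintype.card_fin, hS]; omega
      obtain ⟨c, hc1, d, hd1, hcd⟩ := hpair
      rw [Finset.mem_compl] at hc1 hd1
      have hgT : ∀ z, (swap x y * swap c d) z ∈ T ↔ z ∈ T := by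
        intro z
        rw [Equiv.Perm.mul_apply, swap_mem_iff (iff_of_true hxT hy), swap_mem_iff (iff_of_false hc1 hd1)]
      have hgS : ∀ z, (swap x y * swap c d) z ∈ S ↔ z ∈ S := by
        rcases hT2 with rfl | rfl
        · exact hgT
        · intro z
          have := hgT z
          simp only [Finset.mem_compl] at this
          exact not_iff_not.1 this
      have hg : swap x y * swap c d ∈ MulAction.stabilizer (Perm (Fin n)) ({S} : Finset (Finset (Fin n))) ⊓
          alternatingGroup (Fin n) := by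
        refine Subgroup.mem_inf.2 ⟨?_, ?_⟩
        · rw [MulAction.mem_stabilizer_iff, Finset.smul_finset_singleton]
          congr 1
          refine Finset.eq_of_subset_of_card_le ?_ (by rw [Finset.card_smul_finset])
          intro z hz
          obtain ⟨w, hw, rfl⟩ := Finset.mem_smul_finset.1 hz
          exact (hgS w).2 hw
        · rw [Equiv.Perm.mem_alternatingGroup, map_mul, sign_swap hyx.symm, sign_swap hcd]
          rfl
      have hfix := hle hg
      rw [MulAction.mem_stabilizer_iff, Finset.smul_finset_singleton, Finset.singleton_inj,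
        Finset.smul_finset_singleton, Finset.singleton_inj, Equiv.Perm.smul_def, Equiv.Perm.mul_apply] at hfix
      have hxc : x ≠ c := fun h => hc1 (h ▸ hxT)
      have hxd : x ≠ d := fun h => hd1 (h ▸ hxT)
      rw [swap_apply_of_ne_of_ne hxc hxd, swap_apply_left] at hfix
      exact hyx hfix
    · simp only [Fintype.card_fin] at hc' h78'
      have h7 : n = 7 := by
        rcases h78' with ⟨h, -⟩ | ⟨h, -⟩
        · exact h
        · subst h; exact absurd hp (by decide)
      have := (hc' 5 (by norm_num) (by omega)).1 ((hc 5 (by norm_num) (by omega)).2 (by omega))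
      omega
  · simp only [Fintype.card_fin] at hc h78
    rcases h78 with ⟨rfl, -⟩ | ⟨rfl, -⟩
    · obtain ⟨f1, f2, f3, f4, f5⟩ := six7_facts
      obtain ⟨𝓕, hobj, hle⟩ := exists_obj_of_dpi hmix hD (listSubgroup six7 f1 f2 f3)
        (fun x hx => Equiv.Perm.mem_alternatingGroup.2 (f4 x hx)) (h12 hc (by norm_num) _ f1 f2 f3 f5)
      rcases hobj with ⟨-, hc', -⟩ | ⟨-, ⟨-, S, hS, rfl⟩ | ⟨h8, -⟩⟩
      · simp only [Fintype.card_fin] at hc'
        have := (hc 5 (by norm_num) (by norm_num)).1 ((hc' 5 (by norm_num) (by norm_num)).2 (by norm_num))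
        omega
      · obtain ⟨x, hx, hne⟩ := six7_no_fix S (Finset.mem_powersetCard.2 ⟨Finset.subset_univ _, hS⟩)
        have h := hle (show x ∈ listSubgroup six7 f1 f2 f3 from hx)
        rw [MulAction.mem_stabilizer_iff, Finset.smul_finset_singleton, Finset.singleton_inj] at h
        exact hne h
      · simp at h8
    · obtain ⟨f1, f2, f3, f4, f5⟩ := six8_facts
      obtain ⟨𝓕, hobj, hle⟩ := exists_obj_of_dpi hmix hD (listSubgroup six8 f1 f2 f3)
        (fun x hx => Equiv.Perm.mem_alternatingGroup.2 (f4 x hx)) (h12 hc (by norm_num) _ f1 f2 f3 f5)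
      rcases hobj with ⟨hp, -, -⟩ | ⟨-, ⟨h7, -⟩ | ⟨-, B, hB, rfl⟩⟩
      · rw [Fintype.card_fin] at hp
        exact absurd hp (by decide)
      · simp at h7
      · obtain ⟨x, hx, hne, hne'⟩ := six8_no_fix B (Finset.mem_powersetCard.2 ⟨Finset.subset_univ _, hB⟩)
        have h := hle (show x ∈ listSubgroup six8 f1 f2 f3 from hx)
        rw [MulAction.mem_stabilizer_iff] at h
        have h' := Finset.smul_mem_smul_finset (a := x) (Finset.mem_insert_self B {Bᶜ})
        rw [h, Finset.mem_insert, Finset.mem_singleton] at h'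
        exact h'.elim hne hne'


/-- For `n ≥ 5` and a set of primes `π`, the alternating group of degree `n` satisfies the full Sylow analogue for `π` (its maximal `π`-subgroups are pairwise conjugate; for a finite group this says Hall `π`-subgroups exist, are all conjugate, and contain every `π`-subgroup up to conjugacy) if and only if either at most one prime of `π` divides its order or every prime dividing its order lies in `π`. -/
theorem result (n : ℕ) (hn : 5 ≤ n) (π : Set ℕ) :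
    Cfsg.IsDPiGroup π ↥(alternatingGroup (Fin n)) ↔
      ((∀ r s : ℕ, r.Prime → s.Prime → r ∈ π → s ∈ π → r ∣ Nat.card ↥(alternatingGroup (Fin n)) → s ∣ Nat.card ↥(alternatingGroup (Fin n)) → r = s) ∨
        ∀ r : ℕ, r.Prime → r ∣ Nat.card ↥(alternatingGroup (Fin n)) → r ∈ π) := by
  constructor
  · intro hD
    by_contra hcon
    push Not at hcon
    obtain ⟨⟨r, s, hr, hs, hrπ, hsπ, hrd, hsd, hne⟩, t, ht, htd, htπ⟩ := hcon
    have hle : ∀ p : ℕ, p.Prime → p ∣ Nat.card (alternatingGroup (Fin n)) → p ≤ n := fun p hp hd => by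
      have := PermHall.prime_le_of_dvd_card (H := alternatingGroup (Fin n)) hp hd
      rwa [Fintype.card_fin] at this
    exact not_dpi (by rw [Fintype.card_fin]
                      exact ⟨⟨r, s, hr, hs, hne, hrπ, hsπ, hle r hr hrd, hle s hs hsd⟩, t, ht, hle t ht htd, htπ⟩) hD
  · intro h
    exact (PermHall.small_cases (π := π) h).2.2

end Cfsg.Agent.S2534
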