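import Cfsg.Statements.S2537
import Cfsg.Agent.Lib.PSL2.Overgroups

set_option autoImplicit false
open Cfsg

namespace Cfsg.Agent.S2537

/-- Let `F` be a finite field with `q` elements of characteristic `p ≥ 5`, and `ε = 1` if `q ≡ 1 (mod 4)`, `ε = -1` otherwise. Then `PSL(2, F)` has a Hall `{2, 3}`-subgroup if and only if `3` divides `q − ε`, or the `{2,3}`-part of `q² − 1` is 24, or the `{2,3}`-part of `q² − 1` is 48 (the `{2,3}`-part of `m` being the largest divisor of `m` with no prime factor other than 2 and 3). -/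
theorem result {F : Type*} [Field F] [Fintype F] {p : ℕ} [Fact p.Prime] [CharP F p]
    (hp : 5 ≤ p) (q : ℕ) (hq : Fintype.card F = q) :
    (∃ H : Subgroup (Matrix.ProjectiveSpecialLinearGroup (Fin 2) F), Cfsg.IsPiHall ({2, 3} : Set ℕ) H) ↔
      (3 ∣ q - 1 ∧ q % 4 = 1) ∨ (3 ∣ q + 1 ∧ q % 4 = 3) ∨
        2 ^ (q ^ 2 - 1).factorization 2 * 3 ^ (q ^ 2 - 1).factorization 3 = 24 ∨
        2 ^ (q ^ 2 - 1).factorization 2 * 3 ^ (q ^ 2 - 1).factorization 3 = 48 := by
  rw [← Nat.card_eq_fintype_card] at hq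
  subst hq
  set q := Nat.card F with hqdef
  have hpp : p.Prime := Fact.out
  obtain ⟨n, hn, hqn, ⟨h, -⟩ | ⟨-, ho, hd, h2⟩⟩ := PSL2.q_cases (F := F) p
  · omega
  rw [← hqdef, Nat.odd_iff] at ho
  rw [← hqdef] at hqn hd
  have hq5 : 5 ≤ q := hqn ▸ hp.trans (Nat.le_self_pow (by omega) p)
  have hq3 : ¬ 3 ∣ q := fun h => by
    have := (Nat.prime_dvd_prime_iff_eq Nat.prime_three hpp).1 (Nat.prime_three.dvd_of_dvd_pow (hqn ▸ h))
    omega
  have hN : q ^ 2 - 1 = (q + 1) * (q - 1) := GLOrder.sq_sub_one q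
  have hN0 : q ^ 2 - 1 ≠ 0 := by rw [hN]; exact (Nat.mul_pos (by omega) (by omega)).ne'
  obtain ⟨a, ha⟩ : ∃ a, (q ^ 2 - 1).factorization 2 = a := ⟨_, rfl⟩
  obtain ⟨b, hb⟩ : ∃ b, (q ^ 2 - 1).factorization 3 = b := ⟨_, rfl⟩
  rw [ha, hb]
  have h8 : 2 ^ 3 ∣ q ^ 2 - 1 := by
    rw [hN]
    obtain ⟨i, hi⟩ : ∃ i, q = 2 * i + 1 := ⟨q / 2, by omega⟩
    rw [hi, Nat.add_sub_cancel, show (2 * i + 1 + 1) * (2 * i) = 4 * (i * (i + 1)) by ring,
      show 2 ^ 3 = 4 * 2 by norm_num]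
    exact mul_dvd_mul_left 4 (Nat.even_mul_succ_self i).two_dvd
  have h31 : 3 ^ 1 ∣ q ^ 2 - 1 := by
    rw [hN, pow_one]
    rcases (show q % 3 = 1 ∨ q % 3 = 2 by omega) with h | h
    · exact Dvd.dvd.mul_left (by omega) _
    · exact Dvd.dvd.mul_right (by omega) _
  have ha3 : 3 ≤ a := ha ▸ (Nat.Prime.pow_dvd_iff_le_factorization Nat.prime_two hN0).1 h8
  have hb1 : 1 ≤ b := hb ▸ (Nat.Prime.pow_dvd_iff_le_factorization Nat.prime_three hN0).1 h31
  -- the part prime to six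
  obtain ⟨c, hc⟩ : 2 ^ a * 3 ^ b ∣ q ^ 2 - 1 :=
    Nat.Coprime.mul_dvd_of_dvd_of_dvd (Nat.Coprime.pow _ _ (by norm_num))
      (ha ▸ Nat.ordProj_dvd _ 2) (hb ▸ Nat.ordProj_dvd _ 3)
  have hc2 : ¬ 2 ∣ c := fun h => by
    have : 2 ^ (a + 1) ∣ q ^ 2 - 1 := by
      rw [hc, pow_succ]; exact mul_dvd_mul (Nat.dvd_mul_right _ _) h
    have := (Nat.Prime.pow_dvd_iff_le_factorization Nat.prime_two hN0).1 this
    omega
  have hc3 : ¬ 3 ∣ c := fun h => by
    have : 3 ^ (b + 1) ∣ q ^ 2 - 1 := by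
      rw [hc, pow_succ]; exact mul_dvd_mul (Nat.dvd_mul_left _ _) h
    have := (Nat.Prime.pow_dvd_iff_le_factorization Nat.prime_three hN0).1 this
    omega
  set h := 2 ^ (a - 1) * 3 ^ b with hh
  have hG : Nat.card (Matrix.ProjectiveSpecialLinearGroup (Fin 2) F) = h * (q * c) := by
    have e := PSL2.card_psl_mul (F := F)
    rw [← hqdef, hd, ← hN, hc, show 2 ^ a = 2 * 2 ^ (a - 1) by rw [← pow_succ']; congr 1; omega] at e
    refine Nat.eq_of_mul_eq_mul_left two_pos (e.trans ?_)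
    rw [hh]; ring
  have hqc2 : ¬ 2 ∣ q * c := fun h => by
    rcases Nat.prime_two.dvd_mul.1 h with h | h
    · omega
    · exact hc2 h
  have hqc3 : ¬ 3 ∣ q * c := fun h => by
    rcases Nat.prime_three.dvd_mul.1 h with h | h
    · exact hq3 h
    · exact hc3 h
  have hh0 : h ≠ 0 := Nat.mul_ne_zero (by positivity) (by positivity)
  have key : ∀ H : Subgroup (Matrix.ProjectiveSpecialLinearGroup (Fin 2) F),
      Cfsg.IsPiHall ({2, 3} : Set ℕ) H ↔ Nat.card H = h := by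
    intro H
    have hmul := H.index_mul_card
    rw [hG] at hmul
    constructor
    · rintro ⟨h1, h2'⟩
      have hcop : Nat.Coprime (Nat.card H) (q * c) := Nat.coprime_of_dvd fun k hk hkH hkc => by
        rcases h1 k hk hkH with rfl | rfl
        · exact hqc2 hkc
        · exact hqc3 hkc
      refine Nat.dvd_antisymm ((Nat.Coprime.dvd_of_dvd_mul_right hcop) ⟨H.index, by rw [← hmul, mul_comm]⟩) ?_
      have hcop' : Nat.Coprime h H.index := by
        rw [hh]
        exact Nat.Coprime.mul_left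
          (Nat.Coprime.pow_left _ (Nat.prime_two.coprime_iff_not_dvd.2 (h2' 2 Nat.prime_two (Or.inl rfl))))
          (Nat.Coprime.pow_left _ (Nat.prime_three.coprime_iff_not_dvd.2 (h2' 3 Nat.prime_three (Or.inr rfl))))
      exact hcop'.dvd_of_dvd_mul_left ⟨q * c, hmul⟩
    · intro hH
      rw [hH, mul_comm] at hmul
      have hidx : H.index = q * c := Nat.eq_of_mul_eq_mul_left (Nat.pos_of_ne_zero hh0) hmul
      refine ⟨fun k hk hkH => ?_, fun k hk hk23 => ?_⟩
      · rw [hH, hh] at hkH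
        rcases hk.dvd_mul.1 hkH with h | h
        · exact Or.inl ((Nat.prime_dvd_prime_iff_eq hk Nat.prime_two).1 (hk.dvd_of_dvd_pow h))
        · exact Or.inr ((Nat.prime_dvd_prime_iff_eq hk Nat.prime_three).1 (hk.dvd_of_dvd_pow h))
      · rw [hidx]
        rcases hk23 with rfl | rfl
        · exact hqc2
        · exact hqc3
  constructor
  · rintro ⟨H, hH⟩
    rw [key] at hH
    have h12 : 12 ∣ h := by
      rw [hh, show 12 = 2 ^ 2 * 3 ^ 1 by norm_num]
      exact mul_dvd_mul (Nat.pow_dvd_pow 2 (by omega)) (Nat.pow_dvd_pow 3 hb1)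
    have hph : ¬ p ∣ h := fun hd' => by
      rcases hpp.dvd_mul.1 hd' with e | e
      · have := (Nat.prime_dvd_prime_iff_eq hpp Nat.prime_two).1 (hpp.dvd_of_dvd_pow e); omega
      · have := (Nat.prime_dvd_prime_iff_eq hpp Nat.prime_three).1 (hpp.dvd_of_dvd_pow e); omega
    have hP : 2 ^ a * 3 ^ b = 2 * h := by
      rw [hh, show 2 ^ a = 2 * 2 ^ (a - 1) by rw [← pow_succ']; congr 1; omega]; ring
    rcases PSL2.psl_dickson p H with ⟨e, -⟩ | ⟨-, hcy, e⟩ | ⟨k, -, -, hk, hkc, -, -⟩ | ⟨-, e⟩ |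
      ⟨e, -, -⟩ | ⟨R, m, -, -, e⟩
    · exact absurd (hH ▸ e) hph
    · exfalso
      rw [hH, hd, ← hqdef] at e
      have h4 : 4 ∣ h := Dvd.dvd.trans (by norm_num) h12
      have h3 : 3 ∣ h := Dvd.dvd.trans (by norm_num) h12
      -- a cyclic Sylow 2-subgroup would need `4 ∣ |G|/4`
      have hpow : 2 ^ (a - 1) ∣ (q - 1) / 2 ∨ 2 ^ (a - 1) ∣ (q + 1) / 2 :=
        e.imp (fun e => (Dvd.intro _ rfl).trans (hh ▸ e)) (fun e => (Dvd.intro _ rfl).trans (hh ▸ e))
      have hbig : 2 ^ (a + 1) ∣ q ^ 2 - 1 := by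
        rw [show 2 ^ (a + 1) = 2 * (2 * 2 ^ (a - 1)) by
          rw [← pow_succ', ← pow_succ']; congr 1; omega, hN]
        rcases hpow with e | e
        · refine mul_dvd_mul (show 2 ∣ q + 1 by omega) ?_
          rw [show q - 1 = 2 * ((q - 1) / 2) by omega]
          exact mul_dvd_mul_left 2 e
        · rw [mul_comm (q + 1)]
          refine mul_dvd_mul (show 2 ∣ q - 1 by omega) ?_
          rw [show q + 1 = 2 * ((q + 1) / 2) by omega]
          exact mul_dvd_mul_left 2 e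
      have := (Nat.Prime.pow_dvd_iff_le_factorization Nat.prime_two hN0).1 hbig
      omega
    · rw [hd, ← hqdef] at hk
      rw [hH] at hkc
      have h6 : 6 ∣ k := by omega
      rcases hk with e | e
      · left
        have := h6.trans e
        omega
      · right; left
        have := h6.trans e
        omega
    · rcases e with ⟨⟨e⟩⟩ | ⟨⟨e⟩⟩ | ⟨⟨e⟩⟩
      · rw [Nat.card_congr e.toEquiv, PSL2.card_alt_four] at hH
        exact Or.inr (Or.inr (Or.inl (by omega)))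
      · rw [Nat.card_congr e.toEquiv, PSL2.card_perm_four] at hH
        exact Or.inr (Or.inr (Or.inr (by omega)))
      · exfalso
        rw [Nat.card_congr e.toEquiv, PSL2.card_alt_five] at hH
        have h5 : 5 ∣ h := by rw [← hH]; norm_num
        rcases (show (5 : ℕ).Prime by norm_num).dvd_mul.1 h5 with e | e
        · exact absurd ((show (5 : ℕ).Prime by norm_num).dvd_of_dvd_pow e) (by norm_num)
        · exact absurd ((show (5 : ℕ).Prime by norm_num).dvd_of_dvd_pow e) (by norm_num)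
    · omega
    · exfalso
      apply hph
      rw [← hH]
      have := PSL2.charP_subfield p R
      rcases e with ⟨⟨e⟩⟩ | ⟨-, -, ⟨e⟩⟩
      · rw [Nat.card_congr e.toEquiv]; exact PSL2.dvd_card_psl p
      · rw [Nat.card_congr e.toEquiv, PSL2.card_pgl_eq]
        obtain ⟨l, hl, hcl⟩ := GLOrder.exists_card_eq_pow (F := R) p
        exact (hcl ▸ dvd_pow_self p hl.ne').trans (Nat.dvd_mul_right _ _)
  · intro hcase
    have hdih : ∀ s t : ℕ, q ^ 2 - 1 = (2 * s) * (2 * t) → ¬ 2 ∣ t → ¬ 3 ∣ t →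
        (s = (q - 1) / 2 ∨ s = (q + 1) / 2) →
        ∃ H : Subgroup (Matrix.ProjectiveSpecialLinearGroup (Fin 2) F), Cfsg.IsPiHall ({2, 3} : Set ℕ) H := by
      intro s t hst ht2 ht3 hs
      have hpa : 2 ^ a = 4 * 2 ^ (a - 2) := by
        rw [show 4 = 2 ^ 2 by norm_num, ← pow_add]; congr 1; omega
      have hdvd : 2 ^ (a - 2) * 3 ^ b ∣ s := by
        have h1 : 2 ^ (a - 2) * 3 ^ b ∣ s * t := by
          refine ⟨c, Nat.eq_of_mul_eq_mul_left (show 0 < 4 by norm_num) ?_⟩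
          calc 4 * (s * t) = q ^ 2 - 1 := by rw [hst]; ring
            _ = _ := by rw [hc, hpa]; ring
        exact (Nat.Coprime.mul_left
          (Nat.Coprime.pow_left _ (Nat.prime_two.coprime_iff_not_dvd.2 ht2))
          (Nat.Coprime.pow_left _ (Nat.prime_three.coprime_iff_not_dvd.2 ht3))).dvd_of_dvd_mul_right h1
      obtain ⟨H, ⟨e⟩⟩ := PSL2.exists_dihedral_sub (F := F) (n := 2 ^ (a - 2) * 3 ^ b)
        (by
          have h1 : 1 ≤ 2 ^ (a - 2) := Nat.one_le_two_pow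
          have h3 : 3 ≤ 3 ^ b := Nat.le_self_pow (by omega) 3
          calc 2 ≤ 1 * 3 := by norm_num
            _ ≤ _ := Nat.mul_le_mul h1 h3)
        (by rw [← hqdef, hd]; rcases hs with rfl | rfl <;> [left; right] <;> exact hdvd)
      refine ⟨H, (key H).2 ?_⟩
      rw [Nat.card_congr e.toEquiv, DihedralGroup.nat_card, hh, ← mul_assoc, ← pow_succ']
      congr 2
      omega
    rcases hcase with ⟨h3, h4⟩ | ⟨h3, h4⟩ | h24 | h48
    · refine hdih ((q - 1) / 2) ((q + 1) / 2) ?_ (by omega) (by omega) (Or.inl rfl)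
      rw [hN, show 2 * ((q - 1) / 2) = q - 1 by omega, show 2 * ((q + 1) / 2) = q + 1 by omega,
        mul_comm]
    · refine hdih ((q + 1) / 2) ((q - 1) / 2) ?_ (by omega) (by omega) (Or.inr rfl)
      rw [hN, show 2 * ((q - 1) / 2) = q - 1 by omega, show 2 * ((q + 1) / 2) = q + 1 by omega]
    · obtain ⟨H, ⟨e⟩⟩ := PSL2.exists_alternatingFour_sub h2
      refine ⟨H, (key H).2 ?_⟩
      rw [Nat.card_congr e.toEquiv, PSL2.card_alt_four]
      rw [show 2 ^ a = 2 * 2 ^ (a - 1) by rw [← pow_succ']; congr 1; omega, mul_assoc, ← hh] at h24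
      omega
    · rw [show 2 ^ a = 2 * 2 ^ (a - 1) by rw [← pow_succ']; congr 1; omega, mul_assoc, ← hh] at h48
      obtain ⟨H, ⟨e⟩⟩ := (PSL2.exists_permFour_sub_iff (F := F)).2 (by
        rw [← hqdef]
        have h16 : 16 ∣ q ^ 2 - 1 := by
          rw [hc, show 2 ^ a * 3 ^ b = 48 by
            rw [show 2 ^ a = 2 * 2 ^ (a - 1) by rw [← pow_succ']; congr 1; omega, mul_assoc, ← hh]
            exact h48]
          exact Dvd.dvd.mul_right (by norm_num) c
        have : 1 ≤ q ^ 2 := Nat.one_le_pow _ _ (by omega)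
        omega)
      refine ⟨H, (key H).2 ?_⟩
      rw [Nat.card_congr e.toEquiv, PSL2.card_perm_four]
      omega

end Cfsg.Agent.S2537
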