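import Cfsg.Statements.S2540
import Cfsg.Agent.Lib.Linear.SLn

set_option autoImplicit false
set_option linter.style.haveILetI false
set_option linter.unusedSimpArgs false
open Cfsg

namespace Cfsg.Agent.S2540

/-- Let F be a finite field and n ≥ 1, excluding the case n = 2 with #F ≤ 3. A subgroup of GL_n(F) that is normalized by every element of SL_n(F) either consists of scalar matrices or contains SL_n(F). -/
theorem result {F : Type*} [Field F] [Fintype F] (n : ℕ) (hn : 1 ≤ n) (hex : ¬ (n = 2 ∧ Fintype.card F ≤ 3)) (G : Subgroup (Matrix.GeneralLinearGroup (Fin n) F)) (hG : ∀ s : Matrix.SpecialLinearGroup (Fin n) F, ∀ g ∈ G, (Matrix.SpecialLinearGroup.toGL s) * g * (Matrix.SpecialLinearGroup.toGL s)⁻¹ ∈ G) : (∀ g ∈ G, ∃ c : F, (g : Matrix (Fin n) (Fin n) F) = c • (1 : Matrix (Fin n) (Fin n) F)) ∨ (Matrix.SpecialLinearGroup.toGL : Matrix.SpecialLinearGroup (Fin n) F →* _).range ≤ G := by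
  classical
  rcases Nat.lt_or_ge n 2 with hn1 | hn2
  · left
    intro g _
    obtain rfl : n = 1 := by omega
    refine ⟨(g : Matrix (Fin 1) (Fin 1) F) 0 0, ?_⟩
    ext i j; fin_cases i; fin_cases j; simp
  have hsq : n = 2 → ∃ x : F, x ≠ 0 ∧ x ^ 2 ≠ 1 := by
    intro h2
    by_contra hcon
    push Not at hcon
    have hsub : (Finset.univ : Finset F) ⊆ {0, 1, -1} := fun x _ => by
      by_cases hx : x = 0
      · simp [hx]
      · rcases sq_eq_one_iff.1 (hcon x hx) with h | h <;> simp [h]
    have := (Finset.card_le_card hsub).trans Finset.card_le_three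
    rw [Finset.card_univ] at this
    exact hex ⟨h2, this⟩
  have hperf : commutator (Matrix.SpecialLinearGroup (Fin n) F) = ⊤ := by
    refine Linear.commutator_sl_eq_top ?_
    rw [Fintype.card_fin]
    rcases Nat.lt_or_ge n 3 with h | h
    · exact Or.inr (hsq (by omega))
    · exact Or.inl h
  have hsimple : IsSimpleGroup (Matrix.ProjectiveSpecialLinearGroup (Fin n) F) := by
    rcases Nat.lt_or_ge n 3 with h | h
    · obtain rfl : n = 2 := by omega
      exact Matrix.ProjectiveSpecialLinearGroup.rank_two_simple' (hsq rfl)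
    · exact Linear.isSimpleGroup_psl (by simpa using h)
  let ι := (Matrix.SpecialLinearGroup.toGL : Matrix.SpecialLinearGroup (Fin n) F →* GL (Fin n) F)
  let N := G.comap ι
  have hN : N.Normal := ⟨fun x hx s => by
    show ι (s * x * s⁻¹) ∈ G
    rw [map_mul, map_mul, map_inv]
    exact hG s _ hx⟩
  let π := QuotientGroup.mk' (Subgroup.center (Matrix.SpecialLinearGroup (Fin n) F))
  rcases hsimple.eq_bot_or_eq_top_of_normal (N.map π) (hN.map _ (QuotientGroup.mk'_surjective _)) with hb | ht
  · left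
    have hNc : ∀ z ∈ N, z ∈ Subgroup.center (Matrix.SpecialLinearGroup (Fin n) F) := fun z hz => by
      have h1 : π z ∈ N.map π := Subgroup.mem_map_of_mem _ hz
      rw [hb, Subgroup.mem_bot] at h1
      exact (QuotientGroup.eq_one_iff z).1 h1
    intro g hg
    have hdet : ∀ s, Matrix.GeneralLinearGroup.det (ι s * g * (ι s)⁻¹ * g⁻¹) = 1 := fun s => by
      simp [mul_comm]
    have hex' : ∀ s, ∃ z ∈ Subgroup.center (Matrix.SpecialLinearGroup (Fin n) F),
        ι z = ι s * g * (ι s)⁻¹ * g⁻¹ := fun s => by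
      refine ⟨⟨_, congrArg Units.val (hdet s)⟩, hNc _ ?_, Units.ext rfl⟩
      show ι _ ∈ G
      have : ι ⟨_, congrArg Units.val (hdet s)⟩ = ι s * g * (ι s)⁻¹ * g⁻¹ := Units.ext rfl
      rw [this]
      exact G.mul_mem (hG s g hg) (G.inv_mem hg)
    choose z hz hzeq using hex'
    have hcomm : ∀ w ∈ Subgroup.center (Matrix.SpecialLinearGroup (Fin n) F), ∀ x : GL (Fin n) F, x * ι w = ι w * x := by
      intro w hw x
      obtain ⟨r, -, hr⟩ := Matrix.SpecialLinearGroup.mem_center_iff.1 hw
      refine Units.ext ?_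
      show (x : Matrix (Fin n) (Fin n) F) * (w : Matrix (Fin n) (Fin n) F) = (w : Matrix (Fin n) (Fin n) F) * x
      rw [← hr]
      exact ((Matrix.scalar_commute r (fun r' => mul_comm _ _)) _).eq.symm
    let φ : Matrix.SpecialLinearGroup (Fin n) F →* Subgroup.center (Matrix.SpecialLinearGroup (Fin n) F) :=
      { toFun := fun s => ⟨z s, hz s⟩
        map_one' := Subtype.ext (Matrix.SpecialLinearGroup.toGL_injective (by
          show ι (z 1) = ι 1
          rw [hzeq]; simp))
        map_mul' := fun a b => Subtype.ext (Matrix.SpecialLinearGroup.toGL_injective (by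
          show ι (z (a * b)) = ι (z a * z b)
          rw [map_mul ι (z a), ← hcomm _ (hz a) (ι (z b)), hzeq, map_mul]
          have h1 : ι a * g * (ι a)⁻¹ = ι (z a) * g := by rw [hzeq]; group
          have h2 : ι b * g * (ι b)⁻¹ = ι (z b) * g := by rw [hzeq]; group
          calc ι a * ι b * g * (ι a * ι b)⁻¹ * g⁻¹ = ι a * (ι b * g * (ι b)⁻¹) * (ι a)⁻¹ * g⁻¹ := by group
            _ = ι a * ι (z b) * g * (ι a)⁻¹ * g⁻¹ := by rw [h2]; group
            _ = ι (z b) * (ι a * g * (ι a)⁻¹) * g⁻¹ := by rw [hcomm _ (hz b) (ι a)]; group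
            _ = ι (z b) * ι (z a) := by rw [h1]; group)) }
    have htriv : ∀ s, z s = 1 := fun s => by
      have : φ.ker = ⊤ := by
        refine top_unique ?_
        rw [← hperf, commutator_def, Subgroup.commutator_le]
        intro a _ b _
        rw [MonoidHom.mem_ker, map_commutatorElement, commutatorElement_eq_one_iff_commute]
        exact Subtype.ext (Subgroup.mem_center_iff.1 (φ b).2 _)
      have h1 : φ s = 1 := MonoidHom.mem_ker.1 (by rw [this]; exact Subgroup.mem_top s)
      exact congrArg Subtype.val h1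
    obtain ⟨c, hc⟩ : (g : Matrix (Fin n) (Fin n) F) ∈ Set.range (Matrix.scalar (Fin n)) := by
      refine Matrix.mem_range_scalar_of_commute_transvectionStruct fun t => ?_
      let T : Matrix.SpecialLinearGroup (Fin n) F := ⟨t.toMatrix, t.det⟩
      have h1 : 1 = ι T * g * (ι T)⁻¹ * g⁻¹ := by rw [← hzeq T, htriv T, map_one]
      have h2 : ι T * g = g * ι T := by
        calc _ = (ι T * g * (ι T)⁻¹ * g⁻¹) * g * ι T := by group
          _ = _ := by rw [← h1, one_mul]
      exact congrArg Units.val h2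
    refine ⟨c, ?_⟩
    rw [← hc, Matrix.smul_one_eq_diagonal]
    rfl
  · right
    suffices h : N = ⊤ by
      rintro _ ⟨s, rfl⟩
      exact (h ▸ Subgroup.mem_top s : s ∈ N)
    haveI := hN
    have hsup : ∀ x, ∃ m ∈ N, ∃ c ∈ Subgroup.center (Matrix.SpecialLinearGroup (Fin n) F), x = m * c := fun x => by
      obtain ⟨m, hm, hmx⟩ := (ht ▸ Subgroup.mem_top (π x) : π x ∈ N.map π)
      obtain ⟨c, hc, hcx⟩ := (QuotientGroup.mk'_eq_mk' _).1 hmx
      exact ⟨m, hm, c, hc, hcx.symm⟩
    have hab : Subgroup.center (Matrix.SpecialLinearGroup (Fin n) F ⧸ N) = ⊤ := by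
      refine top_unique fun x _ => Subgroup.mem_center_iff.2 fun y => ?_
      obtain ⟨x, rfl⟩ := QuotientGroup.mk'_surjective N x
      obtain ⟨y, rfl⟩ := QuotientGroup.mk'_surjective N y
      obtain ⟨m, hm, c, hc, rfl⟩ := hsup x
      have h1 : QuotientGroup.mk' N m = 1 := (QuotientGroup.eq_one_iff m).2 hm
      rw [map_mul, h1, one_mul, ← map_mul, ← map_mul, Subgroup.mem_center_iff.1 hc y]
    refine top_unique (hperf ▸ ?_)
    rw [commutator_def, Subgroup.commutator_le]
    intro a _ b _
    rw [← QuotientGroup.eq_one_iff, ← QuotientGroup.mk'_apply, map_commutatorElement]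
    exact commutatorElement_eq_one_iff_commute.2 (Subgroup.mem_center_iff.1 (hab ▸ Subgroup.mem_top _ : QuotientGroup.mk' N b ∈ _) _)

end Cfsg.Agent.S2540
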