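import Cfsg.Statements.S2541
import Cfsg.Agent.EqLemmas

set_option autoImplicit false
set_option linter.style.haveILetI false
set_option linter.unusedSimpArgs false
open Cfsg

namespace Cfsg.Agent.S2541

/-- Let F be a field with 9 elements. The symmetric group S_6 is not isomorphic to PGL_2(F) (although both have index-2 subgroups isomorphic to A_6). -/
theorem result {F : Type*} [Field F] [Fintype F] (hF : Fintype.card F = 9) : ¬ Nonempty (Equiv.Perm (Fin 6) ≃* Matrix.ProjGenLinGroup (Fin 2) F) := by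
  classical
  rintro ⟨e⟩
  obtain ⟨ζ, hζ⟩ := IsCyclic.exists_ofOrder_eq_natCard (α := Fˣ)
  rw [Nat.card_units, Nat.card_eq_fintype_card, hF] at hζ
  let d : GL (Fin 2) F := Matrix.GeneralLinearGroup.mkOfDetNeZero (Matrix.diagonal ![(ζ : F), 1]) (by simp)
  have h8 : ∀ s : Equiv.Perm (Fin 6), s ^ 8 = 1 → s ^ 4 = 1 := by
    intro s hs
    rw [← orderOf_dvd_iff_pow_eq_one, ← Equiv.Perm.lcm_cycleType, Multiset.lcm_dvd] at hs ⊢
    intro b hb
    have hb6 : b ≤ 6 := by
      calc b ≤ s.cycleType.sum := Multiset.single_le_sum (by simp) b hb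
        _ = s.support.card := Equiv.Perm.sum_cycleType s
        _ ≤ 6 := by simpa using Finset.card_le_univ s.support
    have := hs b hb
    interval_cases b <;> omega
  have hd : ∀ k : ℕ, (Matrix.ProjGenLinGroup.mk d) ^ k = 1 ↔ ζ ^ k = 1 := by
    intro k
    have hv : ((d ^ k : GL (Fin 2) F) : Matrix (Fin 2) (Fin 2) F) = Matrix.diagonal ![(ζ : F) ^ k, 1] := by
      have hdv : (d : Matrix (Fin 2) (Fin 2) F) = Matrix.diagonal ![(ζ : F), 1] := rfl
      rw [Units.val_pow_eq_pow_val, hdv, Matrix.diagonal_pow]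
      congr 1; ext i; fin_cases i <;> simp
    rw [← map_pow, Matrix.ProjGenLinGroup.mk_eq_one, Matrix.GeneralLinearGroup.center_eq_range_scalar]
    constructor
    · rintro ⟨u, hu⟩
      have hu' : Matrix.scalar (Fin 2) (u : F) = Matrix.diagonal ![(ζ : F) ^ k, 1] := by rw [← hv, ← hu]; rfl
      have h0 := congrFun (congrFun hu' 0) 0
      have h1 := congrFun (congrFun hu' 1) 1
      simp at h0 h1
      refine Units.ext ?_
      simp [← h0, h1]
    · intro hk
      refine ⟨1, ?_⟩
      apply Units.ext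
      rw [hv]
      have : (ζ : F) ^ k = 1 := by simpa using congrArg Units.val hk
      rw [map_one, Units.val_one, this, ← Matrix.diagonal_one]
      congr 1; ext i; fin_cases i <;> rfl
  have e8 : (e.symm (Matrix.ProjGenLinGroup.mk d)) ^ 8 = 1 := by
    rw [← map_pow, (hd 8).2, map_one]
    rw [← orderOf_dvd_iff_pow_eq_one, hζ]
  have := h8 _ e8
  rw [← map_pow, MulEquiv.map_eq_one_iff, hd, ← orderOf_dvd_iff_pow_eq_one, hζ] at this
  omega

end Cfsg.Agent.S2541
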