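import Cfsg.Statements.S2542
import Cfsg.Agent.Lib.PSL2.Eleven
import Cfsg.Agent.S0675

set_option autoImplicit false
open Cfsg

namespace Cfsg.Agent.S2542

/-- Let F be a field with 11 elements. PSL_2(F) has a subgroup H of index 11 isomorphic to the alternating group A_5, and the action of PSL_2(F) on the cosets of H is 2-transitive (of degree 11). -/
theorem result {F : Type*} [Field F] [Fintype F] (hF : Fintype.card F = 11) : ∃ H : Subgroup (Matrix.ProjectiveSpecialLinearGroup (Fin 2) F), H.index = 11 ∧ Nonempty (H ≃* alternatingGroup (Fin 5)) ∧ MulAction.IsMultiplyPretransitive (Matrix.ProjectiveSpecialLinearGroup (Fin 2) F) ((Matrix.ProjectiveSpecialLinearGroup (Fin 2) F) ⧸ H) 2 := by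
  rw [← Nat.card_eq_fintype_card] at hF
  obtain ⟨H, ⟨e⟩⟩ := PSL2.exists_altFive_eleven hF
  have hi := PSL2.altFive_index hF e
  refine ⟨H, hi, ⟨e⟩, ?_⟩
  classical
  let Ω := Matrix.ProjectiveSpecialLinearGroup (Fin 2) F ⧸ H
  let φ : Matrix.ProjectiveSpecialLinearGroup (Fin 2) F →* Equiv.Perm Ω := MulAction.toPermHom _ _
  have := Fintype.ofFinite Ω
  have hpre : MulAction.IsPretransitive φ.range Ω := ⟨fun x y => by
    obtain ⟨g, hg⟩ := MulAction.exists_smul_eq (Matrix.ProjectiveSpecialLinearGroup (Fin 2) F) x y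
    exact ⟨⟨φ g, g, rfl⟩, hg⟩⟩
  have hs := S0675.result (α := Ω) (by rw [← Nat.card_eq_fintype_card]; rw [show Nat.card Ω = H.index from rfl, hi]; norm_num) φ.range
  rcases hs with hs | hs
  · exfalso
    have hsimp := PSL2.isSimpleGroup_psl (L := F) (by omega)
    have hker : φ.ker = ⊥ := (φ.normal_ker.eq_bot_or_eq_top).resolve_right fun htop => by
      obtain ⟨a, b, hab⟩ : ∃ a b : Ω, a ≠ b := by
        have : Nontrivial Ω := Finite.one_lt_card_iff_nontrivial.1 (by
          rw [show Nat.card Ω = H.index from rfl, hi]; norm_num)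
        exact exists_pair_ne Ω
      obtain ⟨g, hg⟩ := MulAction.exists_smul_eq (Matrix.ProjectiveSpecialLinearGroup (Fin 2) F) a b
      have h1 : φ g = 1 := by rw [← MonoidHom.mem_ker, htop]; exact Subgroup.mem_top g
      exact hab (by rw [← hg]; exact (Equiv.Perm.ext_iff.1 h1 a).symm)
    have hinj := (MonoidHom.ker_eq_bot_iff φ).1 hker
    exact PSL2.not_isSolvable_psl (L := F) (by omega) (Group.isSolvable_of_isSolvable_injective
      (f := φ.rangeRestrict) fun a b h => hinj (congrArg Subtype.val h))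
  · rw [MulAction.is_two_pretransitive_iff] at hs ⊢
    intro a b c d hab hcd
    obtain ⟨⟨_, g, rfl⟩, h1, h2⟩ := hs hab hcd
    exact ⟨g, h1, h2⟩

end Cfsg.Agent.S2542
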