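import Cfsg.Statements.S2544
import Cfsg.Agent.EqLemmas
import Cfsg.Agent.Lib.SLRGD.Steinberg
import Cfsg.Agent.Lib.CentralChar.Twist

set_option autoImplicit false
set_option linter.style.haveILetI false
set_option linter.unusedSimpArgs false
open Cfsg
open scoped Pointwise

namespace Cfsg.Agent.S2544

/-- Let F be a finite field of characteristic p and consider the projective special linear group PSL_n(F) with n ≥ 2. This group has an irreducible complex character χ whose degree equals the order of a Sylow p-subgroup (namely q^(n(n−1)/2) when #F = q) and whose restriction to any Sylow p-subgroup P is the regular character of P: χ vanishes on the non-identity elements of P. (This is the Steinberg character.) -/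
theorem result {F : Type*} [Field F] [Fintype F] (p : ℕ) [Fact p.Prime] [CharP F p] (n : ℕ) (hn : 2 ≤ n) : ∃ χ : Matrix.ProjectiveSpecialLinearGroup (Fin n) F → ℂ, Cfsg.IsIrrCharacter (Matrix.ProjectiveSpecialLinearGroup (Fin n) F) χ ∧ ∀ P : Sylow p (Matrix.ProjectiveSpecialLinearGroup (Fin n) F), χ 1 = Nat.card P ∧ ∀ x : Matrix.ProjectiveSpecialLinearGroup (Fin n) F, x ∈ P → x ≠ 1 → χ x = 0 := by
  classical
  obtain ⟨m, rfl⟩ : ∃ m, n = m + 1 := ⟨n - 1, by omega⟩
  obtain ⟨χ, hχ, hdeg, hvan, hcen⟩ := SLRGD.exists_steinberg F m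
  obtain ⟨⟨ψ, hψ⟩, hψe⟩ := CentralChar.exists_deflation (Subgroup.center (Matrix.SpecialLinearGroup (Fin (m + 1)) F))
    ⟨χ, hχ⟩ hcen
  refine ⟨ψ, hψ, fun P => ?_⟩
  obtain ⟨hpU, hidx⟩ := SLRGD.sylow_index F m (p := p)
  let Q : Sylow p (Matrix.SpecialLinearGroup (Fin (m + 1)) F) := hpU.toSylow hidx
  let f := QuotientGroup.mk' (Subgroup.center (Matrix.SpecialLinearGroup (Fin (m + 1)) F))
  have hf : Function.Surjective f := QuotientGroup.mk'_surjective _
  obtain ⟨g, hg⟩ := MulAction.exists_smul_eq (Matrix.ProjectiveSpecialLinearGroup (Fin (m + 1)) F) (Q.mapSurjective hf) P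
  have hQ : (Q : Subgroup (Matrix.SpecialLinearGroup (Fin (m + 1)) F)) = RGD.RootData.Upos (SLRGD.slRGD F m) := rfl
  have hinj : Function.Injective (f.subgroupMap (Q : Subgroup _)) := by
    rw [injective_iff_map_eq_one]
    rintro ⟨u, hu⟩ h1
    have h2 : u ∈ Subgroup.center (Matrix.SpecialLinearGroup (Fin (m + 1)) F) :=
      (QuotientGroup.eq_one_iff u).1 (congrArg Subtype.val h1)
    have h3 : u ∈ RGD.RootData.Upos (SLRGD.slRGD F m) ⊓ RGD.RootData.H (SLRGD.slRGD F m) :=
      ⟨hQ ▸ hu, SLRGD.center_le_diag F m h2⟩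
    rw [show RGD.RootData.Upos (SLRGD.slRGD F m) ⊓ RGD.RootData.H (SLRGD.slRGD F m) = ⊥ from (SLRGD.slRGD F m).U_inf_H,
      Subgroup.mem_bot] at h3
    exact Subtype.ext h3
  have hcard : Nat.card P = Nat.card (RGD.RootData.Upos (SLRGD.slRGD F m)) := by
    rw [Sylow.card_eq_multiplicity P, ← Sylow.card_eq_multiplicity (Q.mapSurjective hf), ← hQ]
    exact (Nat.card_congr (Equiv.ofBijective _ ⟨hinj, MonoidHom.subgroupMap_surjective f _⟩)).symm
  refine ⟨?_, fun x hx hx1 => ?_⟩
  · rw [hcard, ← hdeg]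
    exact (hψe 1).symm
  · rw [← hg] at hx
    have hx' : g⁻¹ * x * g ∈ (Q : Subgroup _).map f := by
      have := hx
      change x ∈ MulAut.conj g • ((Q.mapSurjective hf : Sylow p _) : Subgroup _) at this
      simpa [Sylow.coe_mapSurjective, Subgroup.mem_pointwise_smul_iff_inv_smul_mem, MulAut.smul_def, mul_assoc] using this
    obtain ⟨u, hu, he⟩ := hx'
    have hu1 : u ≠ 1 := by
      rintro rfl
      rw [map_one] at he
      refine hx1 ?_
      calc x = g * (g⁻¹ * x * g) * g⁻¹ := by group
        _ = 1 := by rw [← he]; group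
    have hconj : ψ x = ψ (f u) := by
      rw [he]
      have := (Char.IsIrrCharacter.isClassFunction hψ) x g⁻¹
      rw [inv_inv] at this
      exact this.symm
    rw [hconj, show ψ (f u) = χ u from (hψe u).symm]
    exact hvan u (hQ ▸ hu) hu1

end Cfsg.Agent.S2544
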