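import Cfsg.Statements.S2546
import Cfsg.Agent.Lib.UnitaryBN.Steinberg
import Cfsg.Agent.Lib.CentralChar.Twist

set_option autoImplicit false
open Cfsg
open scoped Pointwise

namespace Cfsg.Agent.S2546

/-- Let F be a finite field of characteristic p and consider the projective special unitary group PSU_n(q), n ≥ 2, realised over the field F with q² elements. This group has an irreducible complex character χ whose degree equals the order of a Sylow p-subgroup (namely q^(n(n−1)/2)) and whose restriction to any Sylow p-subgroup P is the regular character of P: χ vanishes on the non-identity elements of P. (This is the Steinberg character.) -/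
theorem result {F : Type*} [Field F] [Fintype F] (p : ℕ) [Fact p.Prime] [CharP F p] (n q : ℕ) (hn : 2 ≤ n) (hF : Fintype.card F = q ^ 2) : ∃ χ : Cfsg.PSU n F q → ℂ, Cfsg.IsIrrCharacter (Cfsg.PSU n F q) χ ∧ ∀ P : Sylow p (Cfsg.PSU n F q), χ 1 = Nat.card P ∧ ∀ x : Cfsg.PSU n F q, x ∈ P → x ≠ 1 → χ x = 0 := by
  classical
  obtain ⟨Φ⟩ := UFus.exists_frame (q := q) hF n
  obtain ⟨χ, hχ, hdeg, hvan, hcen⟩ := UnitaryBN.exists_steinberg hF Φ hn
  obtain ⟨⟨ψ, hψ⟩, hψe⟩ := CentralChar.exists_deflation (Subgroup.center (Cfsg.SU n F q)) ⟨χ, hχ⟩ hcen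
  refine ⟨ψ, hψ, fun P => ?_⟩
  let Q : Sylow p (Cfsg.SU n F q) :=
    { Φ.unip hF with
      isPGroup' := Φ.isPGroup_unip hF p
      is_maximal' := fun hR hle => Φ.eq_unip_of_isPGroup hF p hR hle }
  let f := QuotientGroup.mk' (Subgroup.center (Cfsg.SU n F q))
  have hf : Function.Surjective f := QuotientGroup.mk'_surjective _
  obtain ⟨g, hg⟩ := MulAction.exists_smul_eq (Cfsg.PSU n F q) (Q.mapSurjective hf) P
  have hQ : (Q : Subgroup (Cfsg.SU n F q)) = Φ.unip hF := rfl
  have hinj : Function.Injective (f.subgroupMap (Q : Subgroup _)) := by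
    rw [injective_iff_map_eq_one]
    rintro ⟨u, hu⟩ h1
    exact Subtype.ext (UnitaryBN.center_inf_unip hF Φ hn (by omega)
      ((QuotientGroup.eq_one_iff u).1 (congrArg Subtype.val h1)) (hQ ▸ hu))
  have hcard : Nat.card P = Nat.card (Φ.unip hF) := by
    rw [Sylow.card_eq_multiplicity P, ← Sylow.card_eq_multiplicity (Q.mapSurjective hf), ← hQ]
    exact (Nat.card_congr (Equiv.ofBijective _ ⟨hinj, MonoidHom.subgroupMap_surjective f _⟩)).symm
  refine ⟨?_, fun x hx hx1 => ?_⟩
  · rw [hcard, ← hdeg]
    exact (hψe 1).symm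
  · rw [← hg] at hx
    have hx' : g⁻¹ * x * g ∈ (Q : Subgroup _).map f := by
      have := hx
      change x ∈ MulAut.conj g • ((Q.mapSurjective hf : Sylow p _) : Subgroup _) at this
      simpa [Sylow.coe_mapSurjective, Subgroup.mem_pointwise_smul_iff_inv_smul_mem, MulAut.smul_def, mul_assoc] using this
    obtain ⟨u, hu, he⟩ := hx'
    have hu1 : u ≠ 1 := by
      rintro rfl
      rw [map_one] at he
      refine hx1 ?_
      calc x = g * (g⁻¹ * x * g) * g⁻¹ := by group
        _ = 1 := by rw [← he]; group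
    have hconj : ψ x = ψ (f u) := by
      rw [he]
      have := (Char.IsIrrCharacter.isClassFunction hψ) x g⁻¹
      rw [inv_inv] at this
      exact this.symm
    rw [hconj, show ψ (f u) = χ u from (hψe u).symm]
    exact hvan u (hQ ▸ hu) hu1

end Cfsg.Agent.S2546
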