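import Cfsg.Statements.S2550
import Cfsg.Agent.EqLemmas
import Cfsg.Agent.Lib.TransvConj.Basic
import Cfsg.Agent.Lib.GLOrder.Basic
import Cfsg.Agent.Lib.Linear.AltEight

set_option autoImplicit false
open Cfsg

namespace Cfsg.Agent.S2550

open Matrix

theorem no_order_six {K : Type*} [Field K] [Fintype K] (hK : Fintype.card K = 4)
    (x : Matrix.ProjectiveSpecialLinearGroup (Fin 3) K) : orderOf x ≠ 6 := by
  classical
  intro hx
  have h2 : (2 : K) = 0 := by
    have h := FiniteField.cast_card_eq_zero K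
    rw [hK] at h
    have h4 : (2 : K) * 2 = 0 := by norm_num at h ⊢; exact h
    exact mul_self_eq_zero.mp h4
  haveI : CharP K 2 := CharTwo.of_one_ne_zero_of_two_eq_zero one_ne_zero h2
  obtain ⟨g, rfl⟩ := QuotientGroup.mk_surjective x
  have hp6 : ((QuotientGroup.mk g : Matrix.ProjectiveSpecialLinearGroup (Fin 3) K)) ^ 6 = 1 := by
    rw [← hx]; exact pow_orderOf_eq_one _
  rw [← QuotientGroup.mk_pow, QuotientGroup.eq_one_iff, Matrix.SpecialLinearGroup.mem_center_iff] at hp6
  obtain ⟨c, hc3, hc⟩ := hp6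
  rw [Fintype.card_fin] at hc3
  set M : Matrix (Fin 3) (Fin 3) K := (g : Matrix (Fin 3) (Fin 3) K) with hM
  have hM6 : M ^ 6 = Matrix.scalar (Fin 3) c := by
    rw [hM, ← Matrix.SpecialLinearGroup.coe_pow]; exact hc.symm
  have hnot : ∀ (r : ℕ), 0 < r → r < 6 → ∀ d : K, d ^ 3 = 1 → M ^ r ≠ Matrix.scalar (Fin 3) d := by
    intro r hr hr6 d hd h
    have h1 : ((QuotientGroup.mk g : Matrix.ProjectiveSpecialLinearGroup (Fin 3) K)) ^ r = 1 := by
      rw [← QuotientGroup.mk_pow, QuotientGroup.eq_one_iff, Matrix.SpecialLinearGroup.mem_center_iff]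
      exact ⟨d, by rw [Fintype.card_fin]; exact hd, by rw [Matrix.SpecialLinearGroup.coe_pow]; exact h.symm⟩
    have := Nat.le_of_dvd hr (orderOf_dvd_of_pow_eq_one h1)
    omega
  have hcc : c * c * c = 1 := by rw [← hc3]; ring
  set T : Matrix (Fin 3) (Fin 3) K := c • M ^ 3 with hT
  set N := T - 1 with hN
  have hTT : T * T = 1 := by
    rw [hT, Matrix.smul_mul, Matrix.mul_smul, smul_smul, ← pow_add, hM6, Matrix.scalar_apply,
      ← Matrix.smul_one_eq_diagonal, smul_smul, hcc, one_smul]
  have h2M : ∀ A : Matrix (Fin 3) (Fin 3) K, A + A = 0 := fun A => by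
    ext i j; exact CharTwo.add_self_eq_zero _
  have hNN : N * N = 0 := by
    rw [hN, mul_sub, sub_mul, hTT, mul_one, one_mul]
    calc (1 : Matrix (Fin 3) (Fin 3) K) - T - (T - 1) = (1 + 1) - (T + T) := by abel
      _ = 0 := by rw [h2M, h2M, sub_zero]
  have hN0 : N ≠ 0 := by
    intro h
    rw [hN, sub_eq_zero, hT] at h
    refine hnot 3 (by norm_num) (by norm_num) (c * c) (by rw [mul_pow, hc3, one_mul]) ?_
    rw [Matrix.scalar_apply, ← Matrix.smul_one_eq_diagonal, ← h, smul_smul, hcc, one_smul]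
  have hrk : N.rank = 1 := by
    have h1 : N.rank ≠ 0 := by
      intro h0
      apply hN0
      have h1 : LinearMap.range N.mulVecLin = ⊥ := Submodule.finrank_eq_zero.mp h0
      rw [LinearMap.range_eq_bot] at h1
      exact Matrix.ext_of_mulVec_single fun i => by rw [Matrix.zero_mulVec]; exact LinearMap.congr_fun h1 _
    have h3 : LinearMap.range N.mulVecLin ≤ LinearMap.ker N.mulVecLin := by
      rintro _ ⟨v, rfl⟩
      rw [LinearMap.mem_ker, Matrix.mulVecLin_apply, Matrix.mulVecLin_apply, Matrix.mulVec_mulVec, hNN,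
        Matrix.zero_mulVec]
    have h4 := Submodule.finrank_mono h3
    have h5 := LinearMap.finrank_range_add_finrank_ker N.mulVecLin
    rw [Module.finrank_fin_fun] at h5
    have h6 : N.rank = Module.finrank K (LinearMap.range N.mulVecLin) := rfl
    omega
  set E : Matrix (Fin 3) (Fin 3) K := Matrix.single 0 2 1 with hE
  have hEE : E * E = 0 := by rw [hE]; exact Matrix.single_mul_single_of_ne _ _ _ _ (by decide) _
  have hErk : E.rank = 1 := by
    have hEv : E = Matrix.vecMulVec (Pi.single 0 1) (Pi.single 2 1) := by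
      ext i j
      fin_cases i <;> fin_cases j <;> simp [hE, Matrix.vecMulVec_apply]
    refine le_antisymm (hEv ▸ Matrix.rank_vecMulVec_le _ _) (Nat.one_le_iff_ne_zero.mpr fun h0 => ?_)
    have h1 : LinearMap.range E.mulVecLin = ⊥ := Submodule.finrank_eq_zero.mp h0
    rw [LinearMap.range_eq_bot] at h1
    have := congrFun (LinearMap.congr_fun h1 (Pi.single 2 1)) 0
    simp [hE, Matrix.single_apply] at this
  obtain ⟨P, hP⟩ := TransvConj.exists_gl_conj N E hrk hNN hErk hEE
  set B : Matrix (Fin 3) (Fin 3) K :=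
    (P : Matrix (Fin 3) (Fin 3) K) * M * ((P⁻¹ : GL (Fin 3) K) : Matrix (Fin 3) (Fin 3) K) with hB
  have hNM : M * N = N * M := by
    rw [hN, hT, mul_sub, sub_mul, Matrix.mul_smul, Matrix.smul_mul, ← pow_succ', ← pow_succ, mul_one, one_mul]
  have hBE : B * E = E * B := by
    have hE' : E = (P : Matrix (Fin 3) (Fin 3) K) * N * ((P⁻¹ : GL (Fin 3) K) : Matrix (Fin 3) (Fin 3) K) := by
      rw [hP, mul_assoc, Units.mul_inv, mul_one]
    rw [hB, hE']
    simp only [mul_assoc, Units.inv_mul_cancel_left]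
    rw [← mul_assoc M N, hNM, mul_assoc N M]
  have hdetB : B.det = 1 := by
    rw [hB, Matrix.det_units_conj]
    exact g.2
  have e : ∀ i j, (B * E) i j = (E * B) i j := fun i j => by rw [hBE]
  have e02 := e 0 2
  have e12 := e 1 2
  have e22 := e 2 2
  have e01 := e 0 1
  simp [hE, Matrix.mul_apply, Fin.sum_univ_three, Matrix.single_apply] at e02 e12 e22 e01
  rw [Matrix.det_fin_three, e12, e22, ← e01, ← e02] at hdetB
  ring_nf at hdetB
  have ha : B 0 0 ≠ 0 := fun h => by rw [h] at hdetB; simp at hdetB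
  have ha3 : B 0 0 ^ 3 = 1 := by
    have := FiniteField.pow_card_sub_one_eq_one (B 0 0) ha
    rwa [hK] at this
  have hb : B 1 1 = B 0 0 := by linear_combination (B 0 0) * hdetB - (B 1 1) * ha3
  set U := B - Matrix.scalar (Fin 3) (B 0 0) with hU
  have hU3 : U ^ 3 = 0 := by
    rw [pow_succ, pow_two]
    ext i j
    fin_cases i <;> fin_cases j <;>
      simp [hU, Matrix.mul_apply, Fin.sum_univ_three, Matrix.sub_apply, Matrix.scalar_apply,
        Matrix.diagonal_apply, e12, e22, ← e01, ← e02, hb]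
  have hB4 : B ^ 4 = Matrix.scalar (Fin 3) (B 0 0) := by
    have hs : ∀ A : Matrix (Fin 3) (Fin 3) K, Commute A (Matrix.scalar (Fin 3) (B 0 0)) := fun A =>
      (Matrix.scalar_commute _ (fun _ => Commute.all _ _) _).symm
    set d := Matrix.scalar (Fin 3) (B 0 0) with hd
    have e1 : B = U + d := by rw [hU, sub_add_cancel]
    have e2 : B * B = U * U + d * d := by
      rw [e1, add_mul, mul_add, mul_add, (hs U).eq]
      calc U * U + d * U + (d * U + d * d) = U * U + d * d + (d * U + d * U) := by abel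
        _ = _ := by rw [h2M, add_zero]
    have hU4 : U * U * (U * U) = 0 := by
      rw [show U * U * (U * U) = U ^ 3 * U by rw [pow_succ, pow_two]; simp only [mul_assoc], hU3, zero_mul]
    have hsd : d * d = Matrix.scalar (Fin 3) (B 0 0 * B 0 0) := by rw [hd, map_mul]
    have hc2 : Commute (U * U) (d * d) := ((hs U).mul_left (hs U)).mul_right ((hs U).mul_left (hs U))
    have e4 : B * B * (B * B) = U * U * (U * U) + d * d * (d * d) := by
      rw [e2, add_mul, mul_add, mul_add, hc2.eq]
      calc U * U * (U * U) + d * d * (U * U) + (d * d * (U * U) + d * d * (d * d))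
          = U * U * (U * U) + d * d * (d * d) + (d * d * (U * U) + d * d * (U * U)) := by abel
        _ = _ := by rw [h2M, add_zero]
    rw [show B ^ 4 = B * B * (B * B) by rw [pow_succ, pow_succ, pow_two]; simp only [mul_assoc], e4, hU4, zero_add, hsd,
      hd, ← map_mul]
    congr 1
    linear_combination (B 0 0) * ha3
  refine hnot 4 (by norm_num) (by norm_num) (B 0 0) ha3 ?_
  have hMB : M = ((P⁻¹ : GL (Fin 3) K) : Matrix (Fin 3) (Fin 3) K) * B * (P : Matrix (Fin 3) (Fin 3) K) := by
    rw [hB]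
    simp only [mul_assoc, Units.inv_mul, mul_one, Units.inv_mul_cancel_left]
  rw [hMB, Units.conj_pow', hB4, (Matrix.scalar_commute _ (fun _ => Commute.all _ _) _).symm.eq, mul_assoc,
    Units.inv_mul, mul_one]


/-- Let F be a field with 2 elements and K a field with 4 elements. PSL_4(F) and PSL_3(K) have the same order (20160) but are not isomorphic. -/
theorem result {F K : Type*} [Field F] [Fintype F] [Field K] [Fintype K] (hF : Fintype.card F = 2) (hK : Fintype.card K = 4) : Nat.card (Matrix.ProjectiveSpecialLinearGroup (Fin 4) F) = Nat.card (Matrix.ProjectiveSpecialLinearGroup (Fin 3) K) ∧ ¬ Nonempty (Matrix.ProjectiveSpecialLinearGroup (Fin 4) F ≃* Matrix.ProjectiveSpecialLinearGroup (Fin 3) K) := by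
  classical
  haveI : Nonempty (Fin 4) := ⟨0⟩
  haveI : Nonempty (Fin 3) := ⟨0⟩
  refine ⟨?_, ?_⟩
  · rw [GLOrder.card_PSL, GLOrder.card_PSL, GLOrder.card_SL, GLOrder.card_SL]
    simp [Nat.card_eq_fintype_card, hF, hK]
    decide
  · rintro ⟨φ⟩
    obtain ⟨e⟩ := Linear.nonempty_pslFour_two hF
    let c : Equiv.Perm (Fin 8) := Equiv.swap 0 1 * Equiv.swap 1 2 * (Equiv.swap 3 4 * Equiv.swap 5 6)
    have hc : c ∈ alternatingGroup (Fin 8) := by
      rw [Equiv.Perm.mem_alternatingGroup]; decide
    have ho : orderOf (⟨c, hc⟩ : alternatingGroup (Fin 8)) = 6 := by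
      rw [← Subgroup.orderOf_coe]
      show orderOf c = 6
      rw [orderOf_eq_iff (by norm_num)]
      refine ⟨by decide +kernel, fun r hr hr0 => ?_⟩
      interval_cases r <;> decide +kernel
    apply no_order_six hK (φ (e.symm ⟨c, hc⟩))
    rw [MulEquiv.orderOf_eq, MulEquiv.orderOf_eq, ho]

end Cfsg.Agent.S2550
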