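import Cfsg.Statements.S2551
import Cfsg.Agent.EqLemmas
import Cfsg.Agent.Lib.Linear.AltEight

set_option autoImplicit false
open Cfsg

namespace Cfsg.Agent.S2551

open Matrix Cfsg.Agent.Linear

/-- No element of order 15 in the symmetric group of degree 7. -/
theorem orderOf_ne_fifteen (σ : Equiv.Perm (Fin 7)) : orderOf σ ≠ 15 := by
  intro h
  rw [← Equiv.Perm.lcm_cycleType] at h
  have hsum : σ.cycleType.sum ≤ 7 := by
    rw [Equiv.Perm.sum_cycleType]
    simpa using Finset.card_le_univ σ.support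
  have hp : ∀ p, p.Prime → p ∣ 15 → ∃ a ∈ σ.cycleType, p ∣ a := by
    intro p hp hd
    by_contra hcon
    push Not at hcon
    rw [← h] at hd
    revert hd hcon
    induction σ.cycleType using Multiset.induction_on with
    | empty =>
      intro hd _
      rw [Multiset.lcm_zero] at hd
      exact hp.ne_one (Nat.dvd_one.mp hd)
    | cons a s ih =>
      intro hd hcon
      rw [Multiset.lcm_cons] at hd
      rcases hp.dvd_mul.mp (hd.trans (Nat.lcm_dvd_mul _ _)) with h1 | h1
      · exact hcon a (Multiset.mem_cons_self _ _) h1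
      · exact ih h1 (fun x hx => hcon x (Multiset.mem_cons_of_mem hx))
  obtain ⟨a, ha, ha5⟩ := hp 5 (by norm_num) (by norm_num)
  obtain ⟨b, hb, hb3⟩ := hp 3 (by norm_num) (by norm_num)
  have ha2 := Equiv.Perm.two_le_of_mem_cycleType ha
  have hb2 := Equiv.Perm.two_le_of_mem_cycleType hb
  obtain ⟨t, ht⟩ := Multiset.exists_cons_of_mem ha
  rcases eq_or_ne b a with rfl | hne
  · have := Nat.le_of_dvd (by omega) (Nat.Coprime.mul_dvd_of_dvd_of_dvd (by norm_num) ha5 hb3)
    have := Multiset.le_sum_of_mem ha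
    omega
  · rw [ht, Multiset.mem_cons] at hb
    have := Multiset.le_sum_of_mem (hb.resolve_left hne)
    rw [ht, Multiset.sum_cons] at hsum
    have := Nat.le_of_dvd (by omega) ha5
    have := Nat.le_of_dvd (by omega) hb3
    omega

theorem cube_eq_one : ∀ a : ZMod 5, (1 : ZMod 5) = a ^ 3 → a = 1 := by decide

theorem exists_third : ∀ a : Fin 8, ∃ b : Fin 8, b ≠ 7 ∧ b ≠ a := by decide

/-- `A_7` has no subgroup of order 315. -/
theorem card_ne_315 (K : Subgroup (alternatingGroup (Fin 7))) : Nat.card K ≠ 315 := by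
  intro hK
  haveI : Fact (Nat.Prime 5) := ⟨by norm_num⟩
  haveI : Fact (Nat.Prime 3) := ⟨by norm_num⟩
  let P : Sylow 5 K := default
  have hP : Nat.card (P : Subgroup K) = 5 := by
    have h := P.card_eq_multiplicity
    rw [hK, show (315 : ℕ) = 5 * 63 by norm_num,
      Nat.factorization_mul (by norm_num) (by norm_num), Finsupp.add_apply,
      Nat.Prime.factorization_self (by norm_num), Nat.factorization_eq_zero_of_not_dvd (by norm_num)] at h
    simpa using h
  have hn : Nat.card (Sylow 5 K) ∣ 63 := by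
    have h := Sylow.card_dvd_index P
    have h2 := Subgroup.card_mul_index (P : Subgroup K)
    rw [hP, hK] at h2
    rwa [show (P : Subgroup K).index = 63 by omega] at h
  have hmod := card_sylow_modEq_one 5 K
  have hN : 15 ∣ Nat.card (Subgroup.normalizer (P : Set K)) := by
    have h := Subgroup.card_mul_index (Subgroup.normalizer (P : Set K))
    rw [← Sylow.card_eq_index_normalizer, hK] at h
    have : Nat.card (Sylow 5 K) ∈ Nat.divisors 63 := Nat.mem_divisors.mpr ⟨hn, by norm_num⟩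
    rw [show Nat.divisors 63 = {1, 3, 7, 9, 21, 63} by decide] at this
    unfold Nat.ModEq at hmod
    simp only [Finset.mem_insert, Finset.mem_singleton] at this
    rcases this with e | e | e | e | e | e <;> rw [e] at h hmod <;> omega
  obtain ⟨x, hx⟩ := exists_prime_orderOf_dvd_card' (G := Subgroup.normalizer (P : Set K))
    3 ((by norm_num : 3 ∣ 15).trans hN)
  obtain ⟨y, hy⟩ := exists_prime_orderOf_dvd_card' (G := (P : Subgroup K)) 5 (by rw [hP])
  have hgen : ∀ z ∈ (P : Subgroup K), z ∈ Subgroup.zpowers (y : K) := by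
    intro z hz
    have hle : Subgroup.zpowers (y : K) ≤ (P : Subgroup K) := Subgroup.zpowers_le.mpr y.2
    have := Subgroup.eq_of_le_of_card_ge hle (by
      rw [hP, Nat.card_zpowers, Subgroup.orderOf_coe, hy])
    rwa [this]
  have hconj : (x : K) * y * (x : K)⁻¹ ∈ (P : Subgroup K) :=
    (Subgroup.mem_normalizer_iff.mp x.2 _).mp y.2
  obtain ⟨j, hj⟩ := Subgroup.mem_zpowers_iff.mp (hgen _ hconj)
  have hit : ∀ i : ℕ, (x : K) ^ i * y * ((x : K) ^ i)⁻¹ = (y : K) ^ (j ^ i) := by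
    intro i
    induction i with
    | zero => simp
    | succ i ih =>
      calc (x : K) ^ (i + 1) * y * ((x : K) ^ (i + 1))⁻¹
          = (x : K) * ((x : K) ^ i * y * ((x : K) ^ i)⁻¹) * (x : K)⁻¹ := by rw [pow_succ']; group
        _ = (y : K) ^ (j ^ (i + 1)) := by rw [ih, ← conj_zpow, ← hj, ← _root_.zpow_mul, pow_succ']
  have h3 : (x : K) ^ 3 = 1 := by
    rw [← hx, ← Subgroup.orderOf_coe]; exact pow_orderOf_eq_one _
  have hy5 : orderOf (y : K) = 5 := by rw [Subgroup.orderOf_coe, hy]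
  have hj3 := hit 3
  rw [h3, one_mul, inv_one, mul_one, ← zpow_one (y : K), ← _root_.zpow_mul, one_mul,
    zpow_eq_zpow_iff_modEq, hy5] at hj3
  have hj1 : j ≡ 1 [ZMOD 5] := by
    rw [show ((5 : ℕ) : ℤ) = 5 from rfl] at hj3
    have h5 := (ZMod.intCast_eq_intCast_iff _ _ 5).mpr hj3
    push_cast at h5
    exact (ZMod.intCast_eq_intCast_iff j 1 5).mp (by push_cast; exact cube_eq_one _ h5)
  have hxy : Commute (x : K) (y : K) := by
    have : (x : K) * y * (x : K)⁻¹ = y := by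
      rw [← hj]
      conv_rhs => rw [← zpow_one (y : K)]
      rw [zpow_eq_zpow_iff_modEq, hy5]
      exact hj1
    exact (mul_inv_eq_iff_eq_mul.mp this)
  have h15 : orderOf ((x : K) * y) = 15 := by
    rw [hxy.orderOf_mul_eq_mul_orderOf_of_coprime] <;>
      rw [Subgroup.orderOf_coe, hx, Subgroup.orderOf_coe, hy] <;> norm_num
  rw [← Subgroup.orderOf_coe, ← Subgroup.orderOf_coe] at h15
  exact orderOf_ne_fifteen _ h15

/-- Every embedding of `A_7` in `A_8` fixes a point. -/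
theorem exists_fixed_point (φ : alternatingGroup (Fin 7) →* alternatingGroup (Fin 8))
    (hφ : Function.Injective φ) :
    ∃ a : Fin 8, ∀ x, (φ x : Equiv.Perm (Fin 8)) a = a := by
  classical
  letI : MulAction (alternatingGroup (Fin 7)) (Fin 8) :=
    MulAction.compHom (Fin 8) ((alternatingGroup (Fin 8)).subtype.comp φ)
  haveI : IsSimpleGroup (alternatingGroup (Fin 7)) := alternatingGroup.isSimpleGroup (by simp)
  have hA : Nat.card (alternatingGroup (Fin 7)) = 2520 := by
    rw [nat_card_alternatingGroup, Nat.card_fin]; decide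
  by_contra hcon
  push Not at hcon
  have hsize : ∀ a : Fin 8, 7 ≤ (MulAction.orbit (alternatingGroup (Fin 7)) a).ncard := by
    intro a
    obtain ⟨x, hx⟩ := hcon a
    let O : Type := ↥(MulAction.orbit (alternatingGroup (Fin 7)) a)
    let ψ := MulAction.toPermHom (alternatingGroup (Fin 7)) O
    have hψ : Function.Injective ψ := by
      rw [← MonoidHom.ker_eq_bot_iff]
      refine (IsSimpleGroup.eq_bot_or_eq_top_of_normal _ inferInstance).resolve_right fun htop => ?_
      have h1 : x ∈ ψ.ker := htop ▸ Subgroup.mem_top x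
      have h2 := Equiv.congr_fun (MonoidHom.mem_ker.mp h1) ⟨a, MulAction.mem_orbit_self a⟩
      exact hx (congrArg Subtype.val h2)
    have hle := Nat.card_le_card_of_injective ψ hψ
    rw [hA, Nat.card_perm, Nat.card_coe_set_eq] at hle
    by_contra hlt
    push Not at hlt
    have := hle.trans (Nat.factorial_le (show _ ≤ 6 by omega))
    norm_num [Nat.factorial] at this
  have hall : ∀ a : Fin 8, MulAction.orbit (alternatingGroup (Fin 7)) a = Set.univ := by
    intro a
    by_contra hne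
    obtain ⟨b, hb⟩ : ∃ b, b ∉ MulAction.orbit (alternatingGroup (Fin 7)) a := by
      by_contra hh
      push Not at hh
      exact hne (Set.eq_univ_of_forall hh)
    have hd : Disjoint (MulAction.orbit (alternatingGroup (Fin 7)) a)
        (MulAction.orbit (alternatingGroup (Fin 7)) b) := by
      rw [Set.disjoint_left]
      intro c hca hcb
      apply hb
      rw [← MulAction.orbit_eq_iff.mpr hca, MulAction.orbit_eq_iff.mpr hcb]
      exact MulAction.mem_orbit_self b
    have h := Set.ncard_union_eq hd (Set.toFinite _) (Set.toFinite _)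
    have h' : (MulAction.orbit (alternatingGroup (Fin 7)) a ∪
        MulAction.orbit (alternatingGroup (Fin 7)) b).ncard ≤ 8 :=
      (Set.ncard_le_card _).trans (Nat.card_fin 8).le
    have := hsize a
    have := hsize b
    omega
  have hst := MulAction.index_stabilizer (alternatingGroup (Fin 7)) (0 : Fin 8)
  rw [hall, Set.ncard_univ, Nat.card_fin] at hst
  have hc := Subgroup.card_mul_index (MulAction.stabilizer (alternatingGroup (Fin 7)) (0 : Fin 8))
  rw [hst, hA] at hc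
  exact card_ne_315 (MulAction.stabilizer (alternatingGroup (Fin 7)) (0 : Fin 8)) (by omega)

/-- The matrix of a word in the witnesses. -/
def wd : List (Fin 8) → Matrix (Fin 4) (Fin 4) (ZMod 2)
  | [] => 1
  | k :: l => eightWitness k * wd l

/-- Words carrying the first basis vector to each non-zero vector. -/
def orbWord (y : Fin 4 → ZMod 2) : List (Fin 8) :=
  [[], [], [3], [2], [6], [6, 6], [4], [5], [3, 5], [4, 2], [6, 2], [5, 2], [5, 3], [2, 4],
    [6, 3], [4, 3]].getD ((y 0).val + 2 * (y 1).val + 4 * (y 2).val + 8 * (y 3).val) []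

/-- Words fixing the first basis vector and carrying the second to each other vector. -/
def stabWord (y : Fin 4 → ZMod 2) : List (Fin 8) :=
  [[], [], [], [4, 5, 5, 4], [4, 5], [5, 4], [2, 3, 5, 4], [3, 2, 5, 4], [6, 3, 2, 5], [4, 3, 6, 5],
    [2, 5, 6, 3], [2, 6, 5, 3], [6, 2, 3, 4], [5, 2, 6, 4], [3, 6, 4, 2], [3, 4, 6, 2]].getD
    ((y 0).val + 2 * (y 1).val + 4 * (y 2).val + 8 * (y 3).val) []

theorem orbWord_spec : ∀ y : Fin 4 → ZMod 2, y ≠ 0 → wd (orbWord y) *ᵥ ![1, 0, 0, 0] = y := by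
  decide +kernel

theorem stabWord_spec : ∀ y : Fin 4 → ZMod 2, y ≠ 0 → y ≠ ![1, 0, 0, 0] →
    wd (stabWord y) *ᵥ ![1, 0, 0, 0] = ![1, 0, 0, 0] ∧ wd (stabWord y) *ᵥ ![0, 1, 0, 0] = y := by
  decide +kernel

theorem word_bounds : ∀ y : Fin 4 → ZMod 2,
    (∀ k ∈ orbWord y, 2 ≤ k.1 ∧ k.1 ≤ 6) ∧ ∀ k ∈ stabWord y, 2 ≤ k.1 ∧ k.1 ≤ 6 := by
  decide +kernel

theorem eightRel_subset : ∀ y y' : Fin 4 → ZMod 2, y ≠ 0 →
    (∀ t ∈ eightLines y, eightRel (maskPred 8 t) y') → y = y' := by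
  decide +kernel

theorem triple_ext : ∀ k : Fin 7, 2 ≤ k.1 → k.1 ≤ 6 →
    (altTriple k : Equiv.Perm (Fin 7)) ∈ alternatingGroup (Fin 7) := by
  intro k hk _
  have : (0 : Fin 7) ≠ k := fun e => by simp [← e] at hk
  simp [Equiv.Perm.mem_alternatingGroup, altTriple, this]

/-- `A_7` as the stabiliser of the last point in `A_8`. -/
def embSeven : alternatingGroup (Fin 7) →* alternatingGroup (Fin 8) where
  toFun x := ⟨(x : Equiv.Perm (Fin 7)).extendDomain (Fin.castLEquiv (by norm_num : 7 ≤ 8)), by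
    rw [Equiv.Perm.mem_alternatingGroup, Equiv.Perm.sign_extendDomain]; exact x.2⟩
  map_one' := Subtype.ext (Equiv.Perm.extendDomain_one _)
  map_mul' x y := Subtype.ext (Equiv.Perm.extendDomain_mul _ _ _).symm

theorem embSeven_injective : Function.Injective embSeven := fun _ _ h =>
  Subtype.ext (Equiv.Perm.extendDomainHom_injective (Fin.castLEquiv (by norm_num : 7 ≤ 8))
    (congrArg Subtype.val h))

theorem embSeven_last (x : alternatingGroup (Fin 7)) : (embSeven x : Equiv.Perm (Fin 8)) 7 = 7 :=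
  Equiv.Perm.extendDomain_apply_not_subtype _ _ (by decide)

theorem embSeven_triple : ∀ k : Fin 7, 2 ≤ k.1 →
    (altTriple k : Equiv.Perm (Fin 7)).extendDomain (Fin.castLEquiv (by norm_num : 7 ≤ 8))
      = altTriple (Fin.castLE (by norm_num : 7 ≤ 8) k) := by
  decide +kernel

theorem main_two :
    (∃ H : Subgroup (SpecialLinearGroup (Fin 4) (ZMod 2)), Nonempty (H ≃* alternatingGroup (Fin 7))) ∧
    ∀ H : Subgroup (SpecialLinearGroup (Fin 4) (ZMod 2)), Nonempty (H ≃* alternatingGroup (Fin 7)) →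
      ∀ v w v' w' : Fin 4 → ZMod 2, v ≠ 0 → w ≠ 0 → v ≠ w → v' ≠ 0 → w' ≠ 0 → v' ≠ w' →
        ∃ g ∈ H, (g : Matrix (Fin 4) (Fin 4) (ZMod 2)) *ᵥ v = v' ∧
          (g : Matrix (Fin 4) (Fin 4) (ZMod 2)) *ᵥ w = w' := by
  classical
  have : FaithfulSMul (SpecialLinearGroup (Fin 4) (ZMod 2)) (Fin 4 → ZMod 2) :=
    ⟨fun h => sl_ext_smul h⟩
  have hsep : ∀ y y', (∀ z, eightRel z y ↔ eightRel z y') → y = y' := fun y y' h =>
    eightRel_separates y y' (fun t ht => (h _).1 ⟨t, ht, .inl rfl⟩)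
      (fun t ht => (h _).2 ⟨t, ht, .inl rfl⟩)
  obtain ⟨f, hf⟩ := exists_hom_of_compat_maps (H := SpecialLinearGroup (Fin 4) (ZMod 2))
    ((predHom 8).comp (alternatingGroup (Fin 8)).subtype) eightRel hsep
    (closure_altTriple (n := 6)) (by
      rintro g ⟨k, hk, hg⟩
      refine ⟨⟨eightWitness k, eightWitness_det k⟩, fun z y hz => ?_⟩
      change eightRel (predHom 8 g.1 z) (eightWitness k *ᵥ y)
      rw [hg]
      obtain ⟨t, ht, rfl | rfl⟩ := hz
      · exact (eightRel_move k hk y t ht).1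
      · exact (eightRel_move k hk y t ht).2)
  have hfg : ∀ (g : alternatingGroup (Fin 8)) (k : Fin 8), 2 ≤ k.1 →
      (g : Equiv.Perm (Fin 8)) = altTriple k →
      f g = ⟨eightWitness k, eightWitness_det k⟩ := by
    intro g k hk hg
    apply sl_ext_smul
    intro y
    show (f g : Matrix (Fin 4) (Fin 4) (ZMod 2)) *ᵥ y = eightWitness k *ᵥ y
    by_cases hy : y = 0
    · subst hy; rw [Matrix.mulVec_zero, Matrix.mulVec_zero]
    refine eightRel_subset _ _ ?_ fun t ht => ?_
    · intro h0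
      apply hy
      have hi : Function.Injective fun v => (f g : Matrix (Fin 4) (Fin 4) (ZMod 2)) *ᵥ v :=
        Matrix.mulVec_injective_of_isUnit ((Matrix.isUnit_iff_isUnit_det _).mpr (by rw [(f g).2]; exact isUnit_one))
      exact hi (h0.trans (Matrix.mulVec_zero _).symm)
    · have h1 : eightRel (maskPred 8 t) ((f g) • y) := ⟨t, ht, .inl rfl⟩
      have h2 : ∃ z, predHom 8 (g : Equiv.Perm (Fin 8)) z = maskPred 8 t :=
        (predHom 8 (g : Equiv.Perm (Fin 8))).surjective _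
      obtain ⟨z, hz⟩ := h2
      rw [← hz] at h1 ⊢
      have h3 := (hf g z y).1 h1
      obtain ⟨s, hs, rfl | rfl⟩ := h3
      · rw [hg]; exact (eightRel_move k hk y s hs).1
      · rw [hg]; exact (eightRel_move k hk y s hs).2
  haveI hsimp : IsSimpleGroup (alternatingGroup (Fin 8)) := alternatingGroup.isSimpleGroup (by simp)
  have hinj : Function.Injective f := by
    rw [← MonoidHom.ker_eq_bot_iff]
    refine (IsSimpleGroup.eq_bot_or_eq_top_of_normal _ inferInstance).resolve_right fun htop => ?_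
    let g : alternatingGroup (Fin 8) :=
      ⟨altTriple 2, Equiv.Perm.mem_alternatingGroup.2 (by decide)⟩
    have h1 : f g = 1 := MonoidHom.mem_ker.1 (htop ▸ Subgroup.mem_top g)
    rw [hfg g 2 (le_refl _) rfl] at h1
    exact absurd (congrArg Subtype.val h1) (by decide)
  have hbij : Function.Bijective f := by
    refine (Nat.bijective_iff_injective_and_card f).2 ⟨hinj, ?_⟩
    rw [nat_card_alternatingGroup, Nat.card_fin, Cfsg.Agent.GLOrder.card_SL, Nat.card_zmod]
    decide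
  set φ₀ := f.comp embSeven with hφ₀
  have hφ₀inj : Function.Injective φ₀ := hinj.comp embSeven_injective
  refine ⟨⟨φ₀.range, ⟨(MonoidHom.ofInjective hφ₀inj).symm⟩⟩, ?_⟩
  rintro H ⟨eH⟩ v w v' w' hv hw hvw hv' hw' hvw'
  have hwd : ∀ l : List (Fin 8), (∀ k ∈ l, 2 ≤ k.1 ∧ k.1 ≤ 6) →
      ∃ x, (φ₀ x : Matrix (Fin 4) (Fin 4) (ZMod 2)) = wd l := by
    intro l
    induction l with
    | nil => exact fun _ => ⟨1, by simp [wd]⟩
    | cons k l ih =>
      intro hl
      obtain ⟨x, hx⟩ := ih fun a ha => hl a (List.mem_cons_of_mem _ ha)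
      obtain ⟨hk, hk6⟩ := hl k List.mem_cons_self
      let k' : Fin 7 := ⟨k.1, by omega⟩
      refine ⟨⟨altTriple k', triple_ext k' hk hk6⟩ * x, ?_⟩
      rw [map_mul, Matrix.SpecialLinearGroup.coe_mul, hx, hφ₀, MonoidHom.comp_apply,
        hfg _ k hk (embSeven_triple k' hk)]
      rfl
  -- the standard subgroup is transitive on pairs
  have htrans : ∀ a b : Fin 4 → ZMod 2, a ≠ 0 → b ≠ 0 → a ≠ b →
      ∃ x, (φ₀ x : Matrix (Fin 4) (Fin 4) (ZMod 2)) *ᵥ ![1, 0, 0, 0] = a ∧
        (φ₀ x : Matrix (Fin 4) (Fin 4) (ZMod 2)) *ᵥ ![0, 1, 0, 0] = b := by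
    intro a b ha hb hab
    obtain ⟨x, hx⟩ := hwd _ (word_bounds a).1
    have hxa : (φ₀ x : Matrix (Fin 4) (Fin 4) (ZMod 2)) *ᵥ ![1, 0, 0, 0] = a := by
      rw [hx]; exact orbWord_spec a ha
    set b' := (φ₀ x⁻¹ : Matrix (Fin 4) (Fin 4) (ZMod 2)) *ᵥ b with hb'
    have hback : (φ₀ x : Matrix (Fin 4) (Fin 4) (ZMod 2)) *ᵥ b' = b := by
      rw [hb', Matrix.mulVec_mulVec, ← Matrix.SpecialLinearGroup.coe_mul, ← map_mul, mul_inv_cancel,
        map_one, Matrix.SpecialLinearGroup.coe_one, Matrix.one_mulVec]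
    have hb0 : b' ≠ 0 := fun h => hb (by rw [← hback, h, Matrix.mulVec_zero])
    have hb1 : b' ≠ ![1, 0, 0, 0] := fun h => hab (by rw [← hback, h, hxa])
    obtain ⟨z, hz⟩ := hwd _ (word_bounds b').2
    refine ⟨x * z, ?_, ?_⟩ <;>
      rw [map_mul, Matrix.SpecialLinearGroup.coe_mul, ← Matrix.mulVec_mulVec, hz]
    · rw [(stabWord_spec b' hb0 hb1).1, hxa]
    · rw [(stabWord_spec b' hb0 hb1).2, hback]
  -- the given subgroup is a conjugate of the standard one
  let F₈ := MulEquiv.ofBijective f hbij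
  let ψ : alternatingGroup (Fin 7) →* alternatingGroup (Fin 8) :=
    (F₈.symm.toMonoidHom.comp H.subtype).comp eH.symm.toMonoidHom
  have hψ : Function.Injective ψ :=
    (F₈.symm.injective.comp H.subtype_injective).comp eH.symm.injective
  obtain ⟨a, ha⟩ := exists_fixed_point ψ hψ
  haveI : Fintype (alternatingGroup (Fin 8)) := Fintype.ofFinite _
  obtain ⟨σ, hσ⟩ : ∃ σ : alternatingGroup (Fin 8), (σ : Equiv.Perm (Fin 8)) 7 = a := by
    rcases eq_or_ne a 7 with rfl | h7
    · exact ⟨1, rfl⟩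
    obtain ⟨b, hb7, hba⟩ := exists_third a
    refine ⟨⟨Equiv.swap 7 b * Equiv.swap 7 a, ?_⟩, ?_⟩
    · rw [Equiv.Perm.mem_alternatingGroup, map_mul, Equiv.Perm.sign_swap (Ne.symm hb7),
        Equiv.Perm.sign_swap (Ne.symm h7)]
      decide
    · show Equiv.swap (7 : Fin 8) b (Equiv.swap 7 a 7) = a
      rw [Equiv.swap_apply_left, Equiv.swap_apply_of_ne_of_ne h7 hba.symm]
  letI : MulAction (alternatingGroup (Fin 8)) (Fin 8) :=
    MulAction.compHom (Fin 8) (alternatingGroup (Fin 8)).subtype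
  set St := MulAction.stabilizer (alternatingGroup (Fin 8)) (7 : Fin 8) with hSt
  have hStcard : Nat.card St = 2520 := by
    have h := MulAction.index_stabilizer (alternatingGroup (Fin 8)) (7 : Fin 8)
    have horb : MulAction.orbit (alternatingGroup (Fin 8)) (7 : Fin 8) = Set.univ := by
      refine Set.eq_univ_of_forall fun c => ?_
      rcases eq_or_ne c 7 with rfl | h7
      · exact MulAction.mem_orbit_self _
      obtain ⟨b, hb7, hbc⟩ := exists_third c
      refine ⟨⟨Equiv.swap 7 b * Equiv.swap 7 c, ?_⟩, ?_⟩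
      · rw [Equiv.Perm.mem_alternatingGroup, map_mul, Equiv.Perm.sign_swap (Ne.symm hb7),
          Equiv.Perm.sign_swap (Ne.symm h7)]
        decide
      · show Equiv.swap (7 : Fin 8) b (Equiv.swap 7 c 7) = c
        rw [Equiv.swap_apply_left, Equiv.swap_apply_of_ne_of_ne h7 hbc.symm]
    rw [horb, Set.ncard_univ, Nat.card_fin] at h
    have hc := Subgroup.card_mul_index St
    rw [h, nat_card_alternatingGroup, Nat.card_fin] at hc
    rw [show Nat.factorial 8 / 2 = 20160 from rfl] at hc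
    omega
  have hA : Nat.card (alternatingGroup (Fin 7)) = 2520 := by
    rw [nat_card_alternatingGroup, Nat.card_fin]; decide
  have hSt₀ : embSeven.range = St := by
    refine Subgroup.eq_of_le_of_card_ge ?_ ?_
    · rintro _ ⟨x, rfl⟩
      exact embSeven_last x
    · rw [hStcard, ← Nat.card_congr (MonoidHom.ofInjective embSeven_injective).toEquiv, hA]
  let ψ' : alternatingGroup (Fin 7) →* alternatingGroup (Fin 8) :=
    (MulAut.conj σ⁻¹).toMonoidHom.comp ψ
  have hψ' : ψ'.range = St := by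
    refine Subgroup.eq_of_le_of_card_ge ?_ ?_
    · rintro _ ⟨x, rfl⟩
      show ((σ⁻¹ * ψ x * σ⁻¹⁻¹ : alternatingGroup (Fin 8)) : Equiv.Perm (Fin 8)) 7 = 7
      simp [hσ, ha]
      rw [← hσ]
      simp
    · have hi : Function.Injective ψ' := (MulAut.conj σ⁻¹).injective.comp hψ
      rw [hStcard, ← Nat.card_congr (MonoidHom.ofInjective hi).toEquiv, hA]
  have hmem : ∀ x, f σ * φ₀ x * (f σ)⁻¹ ∈ H := by
    intro x
    have : embSeven x ∈ ψ'.range := by rw [hψ', ← hSt₀]; exact ⟨x, rfl⟩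
    obtain ⟨y, hy⟩ := this
    have h1 : σ * embSeven x * σ⁻¹ = ψ y := by
      rw [← hy]
      show σ * (σ⁻¹ * ψ y * σ⁻¹⁻¹) * σ⁻¹ = ψ y
      group
    have h2 : f σ * φ₀ x * (f σ)⁻¹ = f (ψ y) := by rw [← h1, map_mul, map_mul, map_inv]; rfl
    rw [h2]
    have h3 : F₈ (ψ y) = ((eH.symm y : H) : SpecialLinearGroup (Fin 4) (ZMod 2)) :=
      F₈.apply_symm_apply _
    show F₈ (ψ y) ∈ H
    rw [h3]
    exact (eH.symm y).2
  set C := f σ
  have hC : ∀ u, (C : Matrix (Fin 4) (Fin 4) (ZMod 2)) *ᵥ ((C⁻¹ : SpecialLinearGroup (Fin 4) (ZMod 2)) : Matrix (Fin 4) (Fin 4) (ZMod 2)) *ᵥ u = u := by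
    intro u
    rw [Matrix.mulVec_mulVec, ← Matrix.SpecialLinearGroup.coe_mul, mul_inv_cancel,
      Matrix.SpecialLinearGroup.coe_one, Matrix.one_mulVec]
  set D := ((C⁻¹ : SpecialLinearGroup (Fin 4) (ZMod 2)) : Matrix (Fin 4) (Fin 4) (ZMod 2))
  have hD0 : ∀ u, u ≠ 0 → D *ᵥ u ≠ 0 := fun u hu h => hu (by rw [← hC u, h, Matrix.mulVec_zero])
  have hD1 : ∀ u u', u ≠ u' → D *ᵥ u ≠ D *ᵥ u' := fun u u' hu h => hu (by rw [← hC u, h, hC])
  obtain ⟨x₁, hx₁, hx₁'⟩ := htrans _ _ (hD0 v hv) (hD0 w hw) (hD1 v w hvw)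
  obtain ⟨x₂, hx₂, hx₂'⟩ := htrans _ _ (hD0 v' hv') (hD0 w' hw') (hD1 v' w' hvw')
  refine ⟨C * φ₀ (x₂ * x₁⁻¹) * C⁻¹, hmem _, ?_⟩
  have hback : ∀ u, (φ₀ x₁⁻¹ : Matrix (Fin 4) (Fin 4) (ZMod 2)) *ᵥ ((φ₀ x₁ : Matrix (Fin 4) (Fin 4) (ZMod 2)) *ᵥ u) = u := by
    intro u
    rw [Matrix.mulVec_mulVec, ← Matrix.SpecialLinearGroup.coe_mul, ← map_mul, inv_mul_cancel,
      map_one, Matrix.SpecialLinearGroup.coe_one, Matrix.one_mulVec]
  simp only [Matrix.SpecialLinearGroup.coe_mul, map_mul, ← Matrix.mulVec_mulVec]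
  refine ⟨?_, ?_⟩
  · show (C : Matrix (Fin 4) (Fin 4) (ZMod 2)) *ᵥ _ *ᵥ (_ *ᵥ (D *ᵥ v)) = v'
    rw [← hx₁, hback, hx₂, hC]
  · show (C : Matrix (Fin 4) (Fin 4) (ZMod 2)) *ᵥ _ *ᵥ (_ *ᵥ (D *ᵥ w)) = w'
    rw [← hx₁', hback, hx₂', hC]


/-- Let F be the field with 2 elements. GL_4(F) (≅ A_8) has a subgroup isomorphic to the alternating group A_7, and every such subgroup acts 2-transitively on the 15 non-zero vectors of F⁴: any ordered pair of distinct non-zero vectors is carried to any other by some element of the subgroup. -/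
theorem result {F : Type*} [Field F] [Fintype F] (hF : Fintype.card F = 2) : (∃ H : Subgroup (Matrix.GeneralLinearGroup (Fin 4) F), Nonempty (H ≃* alternatingGroup (Fin 7))) ∧ ∀ H : Subgroup (Matrix.GeneralLinearGroup (Fin 4) F), Nonempty (H ≃* alternatingGroup (Fin 7)) → ∀ v w v' w' : Fin 4 → F, v ≠ 0 → w ≠ 0 → v ≠ w → v' ≠ 0 → w' ≠ 0 → v' ≠ w' → ∃ g ∈ H, (g : Matrix (Fin 4) (Fin 4) F).mulVec v = v' ∧ (g : Matrix (Fin 4) (Fin 4) F).mulVec w = w' := by
  classical
  let e : F ≃+* ZMod 2 := (ZMod.ringEquivOfPrime F Nat.prime_two hF).symm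
  have hdet : ∀ A : Matrix (Fin 4) (Fin 4) (ZMod 2), IsUnit A → A.det = 1 := by
    intro A hA
    have h := ((Matrix.isUnit_iff_isUnit_det A).mp hA).ne_zero
    revert h
    generalize A.det = a
    revert a
    decide
  let ev : GL (Fin 4) F →* Matrix.SpecialLinearGroup (Fin 4) (ZMod 2) :=
    { toFun := fun g => ⟨e.mapMatrix (g : Matrix (Fin 4) (Fin 4) F),
        hdet _ ((Units.isUnit g).map e.mapMatrix)⟩
      map_one' := Subtype.ext (map_one e.mapMatrix)
      map_mul' := fun g h => Subtype.ext (map_mul e.mapMatrix _ _) }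
  have hevb : Function.Bijective ev := by
    refine ⟨fun g h hgh => Units.ext (e.mapMatrix.injective (congrArg Subtype.val hgh)), fun M => ?_⟩
    have hu : IsUnit (M : Matrix (Fin 4) (Fin 4) (ZMod 2)) :=
      (Matrix.isUnit_iff_isUnit_det _).mpr (by rw [M.2]; exact isUnit_one)
    exact ⟨(hu.map e.mapMatrix.symm).unit, Subtype.ext (e.mapMatrix.apply_symm_apply _)⟩
  let E := MulEquiv.ofBijective ev hevb
  obtain ⟨⟨H₀, ⟨i₀⟩⟩, htr⟩ := main_two
  refine ⟨⟨H₀.map E.symm.toMonoidHom, ⟨(E.symm.subgroupMap H₀).symm.trans i₀⟩⟩, ?_⟩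
  rintro H ⟨iH⟩ v w v' w' hv hw hvw hv' hw' hvw'
  have hne : ∀ u : Fin 4 → F, u ≠ 0 → e ∘ u ≠ 0 := fun u hu h =>
    hu (funext fun i => e.injective (by simpa using congrFun h i))
  have hne' : ∀ u u' : Fin 4 → F, u ≠ u' → e ∘ u ≠ e ∘ u' := fun u u' hu h =>
    hu (funext fun i => e.injective (congrFun h i))
  obtain ⟨g, ⟨g₀, hg₀, rfl⟩, hgv, hgw⟩ := htr (H.map E.toMonoidHom) ⟨(E.subgroupMap H).symm.trans iH⟩
    (e ∘ v) (e ∘ w) (e ∘ v') (e ∘ w') (hne v hv) (hne w hw) (hne' v w hvw) (hne v' hv') (hne w' hw')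
    (hne' v' w' hvw')
  refine ⟨g₀, hg₀, ?_, ?_⟩
  · funext i
    apply e.injective
    exact ((e.toRingHom.map_mulVec _ _ i).trans (congrFun hgv i) : _)
  · funext i
    apply e.injective
    exact ((e.toRingHom.map_mulVec _ _ i).trans (congrFun hgw i) : _)

end Cfsg.Agent.S2551
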