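import Cfsg.Statements.S2552
import Cfsg.Agent.EqLemmas

set_option autoImplicit false
open Cfsg

namespace Cfsg.Agent.S2552

theorem exists_det_eq {F : Type*} [Field F] {U : Type*} [AddCommGroup U] [Module F U]
    [FiniteDimensional F U] (hU : 0 < Module.finrank F U) (d : F) (hd : d ≠ 0) :
    ∃ e : U ≃ₗ[F] U, LinearMap.det (e : U →ₗ[F] U) = d := by
  classical
  let b := Module.finBasis F U
  let f : U →ₗ[F] U := Matrix.toLin b b (Matrix.diagonal (Function.update 1 ⟨0, hU⟩ d))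
  have hdet : LinearMap.det f = d := by
    rw [LinearMap.det_toLin, Matrix.det_diagonal, Finset.prod_update_of_mem (Finset.mem_univ _)]
    simp
  exact ⟨LinearEquiv.ofIsUnitDet (f := f) (v := b) (v' := b)
    (by rw [LinearMap.det_toMatrix, hdet]; exact isUnit_iff_ne_zero.mpr hd), hdet⟩

/-- Let F be a finite field and n ≥ 1. For every k, the special linear group SL_n(F) acts transitively on the set of k-dimensional subspaces of F^n: any two subspaces of the same dimension are carried onto each other by some matrix of determinant 1. -/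
theorem result {F : Type*} [Field F] [Fintype F] (n : ℕ) (hn : 1 ≤ n) (U₁ U₂ : Submodule F (Fin n → F)) (h : Module.finrank F U₁ = Module.finrank F U₂) : ∃ g : Matrix.SpecialLinearGroup (Fin n) F, U₁.map ((Matrix.SpecialLinearGroup.toLin' g : (Fin n → F) ≃ₗ[F] (Fin n → F)) : (Fin n → F) →ₗ[F] (Fin n → F)) = U₂ := by
  classical
  obtain ⟨C₁, hC₁⟩ := Submodule.exists_isCompl U₁
  obtain ⟨C₂, hC₂⟩ := Submodule.exists_isCompl U₂
  have hC : Module.finrank F C₁ = Module.finrank F C₂ := by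
    have h1 := Submodule.finrank_add_eq_of_isCompl hC₁
    have h2 := Submodule.finrank_add_eq_of_isCompl hC₂
    omega
  let e₁ := Submodule.prodEquivOfIsCompl U₁ C₁ hC₁
  let e₂ := Submodule.prodEquivOfIsCompl U₂ C₂ hC₂
  let σ := LinearEquiv.ofFinrankEq U₁ U₂ h
  let ρ := LinearEquiv.ofFinrankEq C₁ C₂ hC
  let g₀ : (Fin n → F) ≃ₗ[F] (Fin n → F) := e₁.symm.trans ((σ.prodCongr ρ).trans e₂)
  have hd : LinearMap.det (g₀ : (Fin n → F) →ₗ[F] (Fin n → F)) ≠ 0 :=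
    (LinearEquiv.isUnit_det' g₀).ne_zero
  obtain ⟨s, r, hsr⟩ : ∃ (s : U₂ ≃ₗ[F] U₂) (r : C₂ ≃ₗ[F] C₂),
      LinearMap.det (s : U₂ →ₗ[F] U₂) * LinearMap.det (r : C₂ →ₗ[F] C₂)
        = (LinearMap.det (g₀ : (Fin n → F) →ₗ[F] (Fin n → F)))⁻¹ := by
    rcases Nat.eq_zero_or_pos (Module.finrank F U₂) with h0 | h0
    · have h2 := Submodule.finrank_add_eq_of_isCompl hC₂
      rw [Module.finrank_fin_fun] at h2
      obtain ⟨r, hr⟩ := exists_det_eq (U := C₂) (by omega) _ (inv_ne_zero hd)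
      exact ⟨LinearEquiv.refl F U₂, r, by rw [hr]; simp⟩
    · obtain ⟨s, hs⟩ := exists_det_eq (U := U₂) h0 _ (inv_ne_zero hd)
      exact ⟨s, LinearEquiv.refl F C₂, by rw [hs]; simp⟩
  let k : (Fin n → F) ≃ₗ[F] (Fin n → F) := e₂.symm.trans ((s.prodCongr r).trans e₂)
  have hk : LinearMap.det (k : (Fin n → F) →ₗ[F] (Fin n → F))
      = (LinearMap.det (g₀ : (Fin n → F) →ₗ[F] (Fin n → F)))⁻¹ := by
    have : (k : (Fin n → F) →ₗ[F] (Fin n → F))
        = (e₂ : (U₂ × C₂) →ₗ[F] (Fin n → F)) ∘ₗ ((s : U₂ →ₗ[F] U₂).prodMap (r : C₂ →ₗ[F] C₂))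
          ∘ₗ (e₂.symm : (Fin n → F) →ₗ[F] (U₂ × C₂)) := rfl
    rw [this, LinearMap.det_conj, LinearMap.det_prodMap, hsr]
  let T : (Fin n → F) →ₗ[F] (Fin n → F) :=
    (k : (Fin n → F) →ₗ[F] (Fin n → F)) ∘ₗ (g₀ : (Fin n → F) →ₗ[F] (Fin n → F))
  have hT : (LinearMap.toMatrix' T).det = 1 := by
    rw [LinearMap.det_toMatrix', LinearMap.det_comp, hk, inv_mul_cancel₀ hd]
  refine ⟨⟨LinearMap.toMatrix' T, hT⟩, ?_⟩
  have hcoe : ((Matrix.SpecialLinearGroup.toLin' (⟨LinearMap.toMatrix' T, hT⟩ :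
      Matrix.SpecialLinearGroup (Fin n) F) : (Fin n → F) ≃ₗ[F] (Fin n → F)) :
      (Fin n → F) →ₗ[F] (Fin n → F)) = T := by
    apply LinearMap.ext
    intro v
    show Matrix.toLin' (LinearMap.toMatrix' T) v = T v
    rw [Matrix.toLin'_toMatrix']
  rw [hcoe]
  refine le_antisymm ?_ fun y hy => ?_
  · rintro y ⟨x, hx, rfl⟩
    have h1 : e₁.symm x = (⟨x, hx⟩, 0) :=
      Submodule.prodEquivOfIsCompl_symm_apply_left _ _ hC₁ ⟨x, hx⟩
    simp [T, k, g₀, h1, e₂, LinearEquiv.prodCongr_apply]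
  · refine ⟨(σ.symm (s.symm ⟨y, hy⟩) : U₁), Submodule.coe_mem _, ?_⟩
    have h1 : e₁.symm ((σ.symm (s.symm ⟨y, hy⟩) : U₁) : Fin n → F) = (σ.symm (s.symm ⟨y, hy⟩), 0) :=
      Submodule.prodEquivOfIsCompl_symm_apply_left _ _ hC₁ _
    simp [T, k, g₀, h1, e₂, LinearEquiv.prodCongr_apply]

end Cfsg.Agent.S2552
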