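import Cfsg.Statements.S2556
import Cfsg.Agent.Lib.Suzuki.SylowAut
import Cfsg.Agent.Lib.Suzuki.LieModel

set_option autoImplicit false
open Cfsg

namespace Cfsg.Agent.S2556

/-- Let S be a Sylow 2-subgroup of the Suzuki group Sz(q), q = 2ⁿ with n = 2m + 1 ≥ 3 (realised as 4 × 4 matrices over the field with q elements). Then the largest normal 2-subgroup of the automorphism group of S is elementary abelian of order 2^(n²), and the automorphism group of S has order 2^(n²) · n · (q − 1). -/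
theorem result {S : Type*} [Group S] [Finite S] (m : ℕ) (hm : 1 ≤ m)
    {F : Type*} [Field F] [Fintype F] (hF : Fintype.card F = 2 ^ (2 * m + 1))
    (P : Sylow 2 ↥(Cfsg.Lie.Sz F (2 ^ (m + 1)))) (hS : Nonempty (S ≃* ↥(P : Subgroup ↥(Cfsg.Lie.Sz F (2 ^ (m + 1)))))) :
    Cfsg.IsElementaryAbelian 2 (Cfsg.pCore 2 (MulAut S)) ∧ Nat.card ↥(Cfsg.pCore 2 (MulAut S)) = 2 ^ ((2 * m + 1) ^ 2) ∧
      Nat.card (MulAut S) = 2 ^ ((2 * m + 1) ^ 2) * ((2 * m + 1) * (2 ^ (2 * m + 1) - 1)) := by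
  obtain ⟨e⟩ := hS
  let lie := Cfsg.Agent.Suzuki.lieEquiv hm hF
  haveI : Finite (Matrix.SpecialLinearGroup (Fin 4) F) := inferInstance
  obtain ⟨ε⟩ := Cfsg.Agent.Suzuki.sylowEquiv hm hF (P.mapSurjective (f := lie.symm.toMonoidHom) lie.symm.surjective)
  let E : S ≃* Cfsg.Agent.Suzuki.uSub hF :=
    e.trans ((((P : Subgroup ↥(Cfsg.Lie.Sz F (2 ^ (m + 1)))).equivMapOfInjective lie.symm.toMonoidHom lie.symm.injective).trans (MulEquiv.subgroupCongr rfl)).trans ε)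
  let M : Cfsg.Agent.Suzuki.SylowAut.Model S F m :=
    { e := (Equiv.ofBijective (fun p : F × F =>
        (⟨Cfsg.Agent.Suzuki.tSz hF p.1 p.2, Cfsg.Agent.Suzuki.tSz_mem_uSub hF p.1 p.2⟩ :
          Cfsg.Agent.Suzuki.uSub hF))
        ⟨fun p q h => Prod.ext (Cfsg.Agent.Suzuki.tSz_inj hF (Subtype.mk.inj h)).1
          (Cfsg.Agent.Suzuki.tSz_inj hF (Subtype.mk.inj h)).2,
          fun ⟨g, a, b, h⟩ => ⟨(a, b), Subtype.ext h.symm⟩⟩).trans E.symm.toEquiv
      mul := fun a b c d => by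
        refine ((map_mul E.symm _ _).symm).trans (congrArg E.symm ?_)
        exact Subtype.ext (Cfsg.Agent.Suzuki.tSz_mul hF a b c d) }
  exact ⟨(Cfsg.Agent.Suzuki.SylowAut.pCore_mulAut hF M).1,
    (Cfsg.Agent.Suzuki.SylowAut.pCore_mulAut hF M).2, Cfsg.Agent.Suzuki.SylowAut.card_mulAut hF M⟩

end Cfsg.Agent.S2556
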