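import Cfsg.Statements.S2559
import Cfsg.Agent.Lib.CharTwoClass.Groups

set_option autoImplicit false
open Cfsg

namespace Cfsg.Agent.S2559

/-- The number of conjugacy classes of the full orthogonal groups O⁺(2n,q) and O⁻(2n,q), q even, 2n ≥ 4: for F a finite field of even order q and n ≥ 2, the number k of conjugacy classes of the isometry group of the hyperbolic quadratic form Σ xᵢyᵢ on F^{2n}, and likewise of the elliptic form Σ xᵢyᵢ + (z₁² + a z₁z₂ + b z₂²) with anisotropic binary part, satisfies q^n/2 ≤ k ≤ 15·q^n. -/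
theorem result {F : Type*} [Field F] [Fintype F] (heven : Even (Fintype.card F)) (n : ℕ) (hn : 2 ≤ n) (a b : F) (hab : ∀ z₁ z₂ : F, z₁ ^ 2 + a * z₁ * z₂ + b * z₂ ^ 2 = 0 → z₁ = 0 ∧ z₂ = 0) :
    (Fintype.card F ^ n ≤ 2 * Nat.card (ConjClasses ↥(Cfsg.isometryGroup F (Cfsg.quadFormPlus n F))) ∧
      Nat.card (ConjClasses ↥(Cfsg.isometryGroup F (Cfsg.quadFormPlus n F))) ≤ 15 * Fintype.card F ^ n) ∧
    (Fintype.card F ^ n ≤ 2 * Nat.card (ConjClasses ↥(Cfsg.isometryGroup F (Cfsg.quadFormMinus (n - 1) F a b))) ∧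
      Nat.card (ConjClasses ↥(Cfsg.isometryGroup F (Cfsg.quadFormMinus (n - 1) F a b))) ≤ 15 * Fintype.card F ^ n) := by
  haveI : CharP F 2 := by
    haveI := ringChar.charP F
    have h2 : ringChar F = 2 := FiniteField.even_card_iff_char_two.2 (Nat.even_iff.1 heven)
    rwa [h2] at this
  rw [← Nat.card_eq_fintype_card, ← Forms.qfPlus_eq, ← Forms.qfMinus_eq]
  have hab' : ∀ x y : F, x ^ 2 + a * x * y + b * y ^ 2 = 0 → x = 0 ∧ y = 0 := hab
  have ha : a ≠ 0 := (CharTwoClass.chi_of_anisotropic hab').1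
  have hd : (4 : F) * b - a ^ 2 ≠ 0 := by
    rw [show (4 : F) = 2 * 2 by norm_num, CharTwo.two_eq_zero]
    simp [ha]
  have hq : (0 : ℤ) < Nat.card F := by exact_mod_cast Nat.card_pos
  refine ⟨CharTwoClass.orth_bounds _ (Forms.qfPlus_nondegenerate n) (by simp; omega) hn (ε := 1) (Or.inl rfl) ?_,
    CharTwoClass.orth_bounds _ (Forms.qfMinus_nondegenerate hd (n - 1)) (by simp; omega) hn (ε := -1) (Or.inr rfl) ?_⟩
  · rw [CharTwoClass.gauss_qfPlus, mul_one]; positivity
  · rw [CharTwoClass.gauss_qfMinus hab', mul_neg_one, neg_neg]; positivity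

end Cfsg.Agent.S2559
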