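import Cfsg.Statements.S2561
import Cfsg.Agent.Lib.Forms.BinaryType

set_option autoImplicit false
open Cfsg

namespace Cfsg.Agent.S2561

open Forms in
theorem exists_shift (m : ℕ) (q : (Fin m ⊕ Fin m → ZMod 2) → ZMod 2)
    (hq : ∀ u v : (Fin m ⊕ Fin m → ZMod 2), q (u + v) = q u + q v +
      (Cfsg.quadFormPlus m (ZMod 2) (u + v) - Cfsg.quadFormPlus m (ZMod 2) u -
        Cfsg.quadFormPlus m (ZMod 2) v)) :
    ∃ a, ∀ v, q v = qfPlus m (ZMod 2) v + QuadraticMap.polar (qfPlus m (ZMod 2)) a v := by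
  let ℓ : (Fin m ⊕ Fin m → ZMod 2) →+ ZMod 2 :=
    { toFun := fun v => q v - qfPlus m (ZMod 2) v
      map_zero' := by
        have h := hq 0 0
        simp only [← qfPlus_apply, add_zero, QuadraticMap.map_zero, sub_zero] at h
        rw [QuadraticMap.map_zero, sub_zero]
        linear_combination -h
      map_add' := fun u v => by
        simp only [qfPlus_apply, hq]
        ring }
  obtain ⟨a, ha⟩ := exists_form_eq_functional (QuadraticMap.polarBilin (qfPlus m (ZMod 2)))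
    (qfPlus_nondegenerate m).2 (AddMonoidHom.toZModLinearMap 2 ℓ)
  refine ⟨a, fun v => ?_⟩
  have h : QuadraticMap.polar (qfPlus m (ZMod 2)) a v = q v - qfPlus m (ZMod 2) v :=
    LinearMap.congr_fun ha v
  rw [h]
  ring

open Forms in
/-- The forms polarizing to `f`, parametrised by vectors. -/
noncomputable def paramEquiv (m : ℕ) : (Fin m ⊕ Fin m → ZMod 2) ≃
    {q : (Fin m ⊕ Fin m → ZMod 2) → ZMod 2 // ∀ u v : (Fin m ⊕ Fin m → ZMod 2),
      q (u + v) = q u + q v + (Cfsg.quadFormPlus m (ZMod 2) (u + v) -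
        Cfsg.quadFormPlus m (ZMod 2) u - Cfsg.quadFormPlus m (ZMod 2) v)} :=
  Equiv.ofBijective
    (fun a => ⟨fun v => qfPlus m (ZMod 2) v + QuadraticMap.polar (qfPlus m (ZMod 2)) a v,
      fun u v => by
        simp only [← qfPlus_apply, QuadraticMap.polar_add_right]
        ring⟩)
    ⟨fun a b h => by
      rw [← sub_eq_zero]
      refine (nondegenerate_polarBilin_iff _).1 (qfPlus_nondegenerate m) _ fun y => ?_
      have hy := congrFun (congrArg Subtype.val h) y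
      simp only [add_right_inj] at hy
      rw [QuadraticMap.polar_sub_left, hy, sub_self],
    fun q => by
      obtain ⟨a, ha⟩ := exists_shift m q.1 q.2
      exact ⟨a, Subtype.ext (funext fun v => (ha v).symm)⟩⟩

open Forms in
theorem paramEquiv_apply (m : ℕ) (a v : Fin m ⊕ Fin m → ZMod 2) :
    (paramEquiv m a).1 v
      = qfPlus m (ZMod 2) v + QuadraticMap.polar (qfPlus m (ZMod 2)) a v := rfl

/-- The shifted form as a quadratic form. -/
def shifted (m : ℕ) (a : Fin m ⊕ Fin m → ZMod 2) :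
    QuadraticForm (ZMod 2) (Fin m ⊕ Fin m → ZMod 2) :=
  Forms.qfPlus m (ZMod 2) + QuadraticMap.linMulLin
    (QuadraticMap.polarBilin (Forms.qfPlus m (ZMod 2)) a)
    (QuadraticMap.polarBilin (Forms.qfPlus m (ZMod 2)) a)

theorem shifted_apply (m : ℕ) (a v : Fin m ⊕ Fin m → ZMod 2) :
    shifted m a v = (paramEquiv m a).1 v := by
  rw [paramEquiv_apply, shifted, QuadraticMap.add_apply, QuadraticMap.linMulLin_apply,
    QuadraticMap.polarBilin_apply_apply]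
  rcases Forms.zero_or_one_two
    (QuadraticMap.polar (Forms.qfPlus m (ZMod 2)) a v) with h | h <;> simp [h]

theorem shifted_nondegenerate (m : ℕ) (a : Fin m ⊕ Fin m → ZMod 2) :
    (QuadraticMap.polarBilin (shifted m a)).Nondegenerate := by
  rw [Forms.nondegenerate_polarBilin_iff]
  intro x hx
  refine (Forms.nondegenerate_polarBilin_iff _).1 (Forms.qfPlus_nondegenerate m) x fun y => ?_
  have h := hx y
  have h2 : (2 : ZMod 2) = 0 := rfl
  simp only [QuadraticMap.polar, shifted, QuadraticMap.add_apply, QuadraticMap.linMulLin_apply,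
    map_add] at h
  simp only [QuadraticMap.polar]
  linear_combination h - (QuadraticMap.polarBilin (Forms.qfPlus m (ZMod 2)) a x
    * QuadraticMap.polarBilin (Forms.qfPlus m (ZMod 2)) a y) * h2

open Forms in
theorem zeros_shift (m : ℕ) (a : Fin m ⊕ Fin m → ZMod 2) :
    Nat.card {v // shifted m a v = 0}
      = Nat.card {v // qfPlus m (ZMod 2) v = qfPlus m (ZMod 2) a} := by
  refine Nat.card_congr ((Equiv.addLeft a).subtypeEquiv fun v => ?_)
  rw [shifted_apply, paramEquiv_apply, Equiv.coe_addLeft, QuadraticMap.map_add (⇑(qfPlus m (ZMod 2)))]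
  constructor <;> intro h <;> linear_combination h

open Forms in
theorem classify_param (m : ℕ) (hm : 1 ≤ m) (a : Fin m ⊕ Fin m → ZMod 2) :
    ((∃ g : (Fin m ⊕ Fin m → ZMod 2) ≃ₗ[ZMod 2] (Fin m ⊕ Fin m → ZMod 2),
      ∀ v, (paramEquiv m a).1 v = Cfsg.quadFormPlus m (ZMod 2) (g v)) ↔ qfPlus m (ZMod 2) a = 0) ∧
    ((∃ g : (Fin m ⊕ Fin m → ZMod 2) ≃ₗ[ZMod 2] ((Fin (m - 1) ⊕ Fin (m - 1)) ⊕ Fin 2 → ZMod 2),
      ∀ v, (paramEquiv m a).1 v = Cfsg.quadFormMinus (m - 1) (ZMod 2) 1 1 (g v)) ↔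
      qfPlus m (ZMod 2) a ≠ 0) ∧
    ((∃ g : (Fin m ⊕ Fin m → ZMod 2) ≃ₗ[ZMod 2] (Fin m ⊕ Fin m → ZMod 2),
      ∀ v, (paramEquiv m a).1 v = Cfsg.quadFormPlus m (ZMod 2) (g v)) ∨
    (∃ g : (Fin m ⊕ Fin m → ZMod 2) ≃ₗ[ZMod 2] ((Fin (m - 1) ⊕ Fin (m - 1)) ⊕ Fin 2 → ZMod 2),
      ∀ v, (paramEquiv m a).1 v = Cfsg.quadFormMinus (m - 1) (ZMod 2) 1 1 (g v))) := by
  classical
  obtain ⟨k, rfl⟩ := Nat.exists_eq_add_of_le' hm
  have hdim : Module.finrank (ZMod 2) (Fin (k + 1) ⊕ Fin (k + 1) → ZMod 2) = 2 * (k + 1) := by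
    simp [two_mul]
  have hplus : (Nat.card {v // qfPlus (k + 1) (ZMod 2) v = 0} : ℤ)
      = 2 ^ (2 * (k + 1) - 1) + 2 ^ (k + 1 - 1) := by
    rw [card_zeros_qfPlus, Nat.card_zmod, show 2 * (k + 1) - 1 = 2 * k + 1 by omega,
      Nat.add_sub_cancel]
    push_cast
    ring
  have hZ : (Nat.card {v // shifted (k + 1) a v = 0} : ℤ)
      = if qfPlus (k + 1) (ZMod 2) a = 0 then 2 ^ (2 * (k + 1) - 1) + 2 ^ (k + 1 - 1)
        else 2 ^ (2 * (k + 1) - 1) - 2 ^ (k + 1 - 1) := by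
    rw [zeros_shift]
    rcases zero_or_one_two (qfPlus (k + 1) (ZMod 2) a) with h | h
    · rw [if_pos h, h, hplus]
    · rw [if_neg (by rw [h]; exact one_ne_zero), h]
      have htot : Nat.card {v // qfPlus (k + 1) (ZMod 2) v = 1}
          + Nat.card {v // qfPlus (k + 1) (ZMod 2) v = 0} = 2 ^ (2 * (k + 1)) := by
        have hs : Nat.card (Fin (k + 1) ⊕ Fin (k + 1) → ZMod 2) = 2 ^ (2 * (k + 1)) := by
          simp [Nat.card_eq_fintype_card, two_mul, pow_add]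
        rw [← hs, ← Nat.card_congr (Equiv.sumCompl fun v => qfPlus (k + 1) (ZMod 2) v = 1),
          Nat.card_sum]
        refine congrArg₂ (· + ·) rfl (Nat.card_congr (Equiv.subtypeEquivRight fun v => ?_))
        rcases zero_or_one_two (qfPlus (k + 1) (ZMod 2) v) with hv | hv <;> simp [hv]
      rw [show 2 * (k + 1) - 1 = 2 * k + 1 by omega, Nat.add_sub_cancel] at hplus ⊢
      have h' : ((Nat.card {v // qfPlus (k + 1) (ZMod 2) v = 1} : ℤ))
          + Nat.card {v // qfPlus (k + 1) (ZMod 2) v = 0} = 2 ^ (2 * (k + 1)) := by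
        exact_mod_cast htot
      rw [hplus, show 2 * (k + 1) = 2 * k + 1 + 1 by ring, pow_succ (2 : ℤ) (2 * k + 1)] at h'
      linarith
  have hpow : (0 : ℤ) < 2 ^ (k + 1 - 1) := by positivity
  have toG : ∀ {W : Type} [AddCommGroup W] [Module (ZMod 2) W] (Q : W → ZMod 2)
      (e : W ≃ₗ[ZMod 2] (Fin (k + 1) ⊕ Fin (k + 1) → ZMod 2)),
      (∀ v, shifted (k + 1) a (e v) = Q v) →
      ∃ g : (Fin (k + 1) ⊕ Fin (k + 1) → ZMod 2) ≃ₗ[ZMod 2] W,
        ∀ v, (paramEquiv (k + 1) a).1 v = Q (g v) := fun Q e he =>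
    ⟨e.symm, fun v => by rw [← he, LinearEquiv.apply_symm_apply, shifted_apply]⟩
  refine ⟨⟨?_, ?_⟩, ⟨?_, ?_⟩, ?_⟩
  · rintro ⟨g, hg⟩
    by_contra h
    rw [if_neg h, card_zeros_congr (qfPlus (k + 1) (ZMod 2)) (shifted (k + 1) a) g.symm 1
      one_ne_zero (fun v => by
        rw [one_mul, shifted_apply, hg, LinearEquiv.apply_symm_apply, qfPlus_apply]), hplus] at hZ
    linarith
  · intro h
    rcases zeros_iff_plus _ (shifted_nondegenerate (k + 1) a) hm hdim with ⟨⟨e, he⟩, -⟩ | ⟨-, hN⟩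
    · exact toG _ e he
    · rw [hZ, if_pos h] at hN
      linarith
  · rintro ⟨g, hg⟩ h
    rw [if_pos h, card_zeros_congr (qfMinus (k + 1 - 1) (ZMod 2) 1 1) (shifted (k + 1) a) g.symm 1
      one_ne_zero (fun v => by
        rw [one_mul, shifted_apply, hg, LinearEquiv.apply_symm_apply, qfMinus_apply]),
      card_zeros_qfMinus aniso_one_one, Nat.card_zmod,
      show 2 * (k + 1) - 1 = 2 * k + 1 by omega, Nat.add_sub_cancel] at hZ
    push_cast at hZ
    rw [pow_succ (2 : ℤ) k] at hZ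
    rw [Nat.add_sub_cancel] at hpow
    linarith
  · intro h
    rcases zeros_iff_plus _ (shifted_nondegenerate (k + 1) a) hm hdim with ⟨-, hN⟩ | ⟨⟨e, he⟩, -⟩
    · rw [hZ, if_neg h] at hN
      linarith
    · exact toG _ e he
  · rcases zeros_iff_plus _ (shifted_nondegenerate (k + 1) a) hm hdim with ⟨⟨e, he⟩, -⟩ | ⟨⟨e, he⟩, -⟩
    · exact Or.inl (toG _ e he)
    · exact Or.inr (toG _ e he)

/-- Fix the non-singular alternating form on the 2m-dimensional space over the field of two elements obtained by polarizing the plus-type form Σ xᵢyᵢ (m ≥ 1). The functions q on the space with q(u + v) = q(u) + q(v) + f(u, v) (the quadratic forms polarizing to f) number 2^(2m); each is equivalent under an invertible linear map either to the plus-type form or to the minus-type form Σ xᵢyᵢ + (z₁² + z₁z₂ + z₂²); and those of plus type number 2^(2m−1) + 2^(m−1), those of minus type 2^(2m−1) − 2^(m−1). -/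
theorem result (m : ℕ) (hm : 1 ≤ m) :
    Nat.card {q : (Fin m ⊕ Fin m → ZMod 2) → ZMod 2 // (∀ u v : (Fin m ⊕ Fin m → ZMod 2), q (u + v) = q u + q v + (Cfsg.quadFormPlus m (ZMod 2) (u + v) - Cfsg.quadFormPlus m (ZMod 2) u - Cfsg.quadFormPlus m (ZMod 2) v))} = 2 ^ (2 * m) ∧
    (∀ q : (Fin m ⊕ Fin m → ZMod 2) → ZMod 2, (∀ u v : (Fin m ⊕ Fin m → ZMod 2), q (u + v) = q u + q v + (Cfsg.quadFormPlus m (ZMod 2) (u + v) - Cfsg.quadFormPlus m (ZMod 2) u - Cfsg.quadFormPlus m (ZMod 2) v)) →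
      (∃ g : (Fin m ⊕ Fin m → ZMod 2) ≃ₗ[ZMod 2] (Fin m ⊕ Fin m → ZMod 2), ∀ v, q v = Cfsg.quadFormPlus m (ZMod 2) (g v)) ∨
      (∃ g : (Fin m ⊕ Fin m → ZMod 2) ≃ₗ[ZMod 2] ((Fin (m - 1) ⊕ Fin (m - 1)) ⊕ Fin 2 → ZMod 2), ∀ v, q v = Cfsg.quadFormMinus (m - 1) (ZMod 2) 1 1 (g v))) ∧
    Nat.card {q : (Fin m ⊕ Fin m → ZMod 2) → ZMod 2 // (∀ u v : (Fin m ⊕ Fin m → ZMod 2), q (u + v) = q u + q v + (Cfsg.quadFormPlus m (ZMod 2) (u + v) - Cfsg.quadFormPlus m (ZMod 2) u - Cfsg.quadFormPlus m (ZMod 2) v)) ∧ ∃ g : (Fin m ⊕ Fin m → ZMod 2) ≃ₗ[ZMod 2] (Fin m ⊕ Fin m → ZMod 2), ∀ v, q v = Cfsg.quadFormPlus m (ZMod 2) (g v)} = 2 ^ (2 * m - 1) + 2 ^ (m - 1) ∧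
    Nat.card {q : (Fin m ⊕ Fin m → ZMod 2) → ZMod 2 // (∀ u v : (Fin m ⊕ Fin m → ZMod 2), q (u + v) = q u + q v + (Cfsg.quadFormPlus m (ZMod 2) (u + v) - Cfsg.quadFormPlus m (ZMod 2) u - Cfsg.quadFormPlus m (ZMod 2) v)) ∧ ∃ g : (Fin m ⊕ Fin m → ZMod 2) ≃ₗ[ZMod 2] ((Fin (m - 1) ⊕ Fin (m - 1)) ⊕ Fin 2 → ZMod 2), ∀ v, q v = Cfsg.quadFormMinus (m - 1) (ZMod 2) 1 1 (g v)} = 2 ^ (2 * m - 1) - 2 ^ (m - 1) := by
  classical
  have hvec : Nat.card (Fin m ⊕ Fin m → ZMod 2) = 2 ^ (2 * m) := by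
    simp [Nat.card_eq_fintype_card, two_mul, pow_add]
  refine ⟨by rw [← Nat.card_congr (paramEquiv m), hvec], fun q hq => ?_, ?_, ?_⟩
  · obtain ⟨a, ha⟩ := (paramEquiv m).surjective ⟨q, hq⟩
    have h := (classify_param m hm a).2.2
    rwa [show (paramEquiv m a).1 = q from congrArg Subtype.val ha] at h
  · rw [← Nat.card_congr (((paramEquiv m).subtypeEquiv fun a =>
      (classify_param m hm a).1.symm).trans (Equiv.subtypeSubtypeEquivSubtypeInter _ (fun q =>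
        ∃ g : (Fin m ⊕ Fin m → ZMod 2) ≃ₗ[ZMod 2] (Fin m ⊕ Fin m → ZMod 2),
          ∀ v, q v = Cfsg.quadFormPlus m (ZMod 2) (g v))))]
    obtain ⟨k, rfl⟩ := Nat.exists_eq_add_of_le' hm
    have h := Forms.card_zeros_qfPlus (F := ZMod 2) k
    rw [Nat.card_zmod] at h
    rw [show 2 * (k + 1) - 1 = 2 * k + 1 by omega, Nat.add_sub_cancel]
    zify
    rw [h]
    push_cast
    ring
  · rw [← Nat.card_congr (((paramEquiv m).subtypeEquiv fun a =>
      (classify_param m hm a).2.1.symm).trans (Equiv.subtypeSubtypeEquivSubtypeInter _ (fun q =>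
        ∃ g : (Fin m ⊕ Fin m → ZMod 2) ≃ₗ[ZMod 2] ((Fin (m - 1) ⊕ Fin (m - 1)) ⊕ Fin 2 → ZMod 2),
          ∀ v, q v = Cfsg.quadFormMinus (m - 1) (ZMod 2) 1 1 (g v))))]
    obtain ⟨k, rfl⟩ := Nat.exists_eq_add_of_le' hm
    have h := Forms.card_zeros_qfPlus (F := ZMod 2) k
    rw [Nat.card_zmod] at h
    have htot : Nat.card {v // Forms.qfPlus (k + 1) (ZMod 2) v = 0}
        + Nat.card {v // Forms.qfPlus (k + 1) (ZMod 2) v ≠ 0} = 2 ^ (2 * (k + 1)) := by
      rw [← Nat.card_sum, Nat.card_congr (Equiv.sumCompl _), hvec]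
    rw [show 2 * (k + 1) - 1 = 2 * k + 1 by omega, Nat.add_sub_cancel]
    zify [Nat.pow_le_pow_right (show 0 < 2 by norm_num) (show k ≤ 2 * k + 1 by omega)]
    zify at htot
    rw [h, show 2 * (k + 1) = 2 * k + 1 + 1 by ring, pow_succ (2 : ℤ) (2 * k + 1)] at htot
    push_cast at htot
    rw [pow_succ (2 : ℤ) k] at htot
    linarith

end Cfsg.Agent.S2561
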