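import Cfsg.Statements.S2562
import Cfsg.Agent.EqLemmas
import Cfsg.Agent.S2617

set_option autoImplicit false
open Cfsg

namespace Cfsg.Agent.S2562

/-- Witt indices over the field of two elements, m ≥ 1: for the plus-type form Σ xᵢyᵢ in dimension 2m some m-dimensional subspace is totally singular and no totally singular subspace has larger dimension; for the minus-type form Σ xᵢyᵢ + (z₁² + z₁z₂ + z₂²) in dimension 2m the maximal dimension of a totally singular subspace is m − 1. -/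
theorem result (m : ℕ) (hm : 1 ≤ m) :
    (∃ U : Submodule (ZMod 2) (Fin m ⊕ Fin m → ZMod 2), (∀ u ∈ U, Cfsg.quadFormPlus m (ZMod 2) u = 0) ∧ Module.finrank (ZMod 2) ↥U = m) ∧
    (∀ U : Submodule (ZMod 2) (Fin m ⊕ Fin m → ZMod 2), (∀ u ∈ U, Cfsg.quadFormPlus m (ZMod 2) u = 0) → Module.finrank (ZMod 2) ↥U ≤ m) ∧
    (∃ U : Submodule (ZMod 2) ((Fin (m - 1) ⊕ Fin (m - 1)) ⊕ Fin 2 → ZMod 2), (∀ u ∈ U, Cfsg.quadFormMinus (m - 1) (ZMod 2) 1 1 u = 0) ∧ Module.finrank (ZMod 2) ↥U = m - 1) ∧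
    (∀ U : Submodule (ZMod 2) ((Fin (m - 1) ⊕ Fin (m - 1)) ⊕ Fin 2 → ZMod 2), (∀ u ∈ U, Cfsg.quadFormMinus (m - 1) (ZMod 2) 1 1 u = 0) → Module.finrank (ZMod 2) ↥U ≤ m - 1) := by
  refine ⟨S2617.exists_plus_singular (ZMod 2) m, fun U hU => S2617.plus_singular_le U hU, ?_,
    fun U hU => S2617.minus_singular_le 1 1 (S2617.aniso_of_no_root (F := ZMod 2) 1 (by decide)) U hU⟩
  let ex : (Fin (m - 1) → ZMod 2) →ₗ[ZMod 2]
      ((Fin (m - 1) ⊕ Fin (m - 1)) ⊕ Fin 2 → ZMod 2) :=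
    { toFun := fun x => Sum.elim (Sum.elim x 0) 0
      map_add' := fun x y => by funext i; rcases i with (i | i) | i <;> simp
      map_smul' := fun c x => by funext i; rcases i with (i | i) | i <;> simp }
  have hex : Function.Injective ex := fun x y h => funext fun i => congrFun h (Sum.inl (Sum.inl i))
  refine ⟨LinearMap.range ex, ?_, ?_⟩
  · rintro _ ⟨x, rfl⟩
    simp [ex, Cfsg.quadFormMinus]
  · rw [LinearMap.finrank_range_of_inj hex, Module.finrank_fin_fun]

end Cfsg.Agent.S2562
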