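import Cfsg.Statements.S2563
import Cfsg.Agent.Lib.Forms.BinaryType

set_option autoImplicit false
open Cfsg

namespace Cfsg.Agent.S2563

/-- The homomorphism into a matrix isometry group given by an isometry with the even-subset space. -/
noncomputable def embed (k : ℕ) {ι : Type} [Fintype ι] [DecidableEq ι] (Q : (ι → ZMod 2) → ZMod 2)
    (e : (ι → ZMod 2) ≃ₗ[ZMod 2] Forms.evenQuot k) (he : ∀ v, Forms.evenForm k (e v) = Q v) :
    Equiv.Perm (Fin (4 * k + 4)) →* ↥(Cfsg.isometryGroup (ZMod 2) Q) :=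
  (Forms.isometryGroupEquiv Q).symm.toMonoidHom.comp
    ((Forms.preservingFunCongr Q (⇑(Forms.evenForm k)) e 1 one_ne_zero
      (fun v => by rw [he, one_mul])).symm.toMonoidHom.comp (Forms.permHom k))

theorem embed_injective (k : ℕ) (hk : 1 ≤ k) {ι : Type} [Fintype ι] [DecidableEq ι]
    (Q : (ι → ZMod 2) → ZMod 2) (e : (ι → ZMod 2) ≃ₗ[ZMod 2] Forms.evenQuot k)
    (he : ∀ v, Forms.evenForm k (e v) = Q v) : Function.Injective (embed k Q e he) :=
  by
  intro a b h
  simp only [embed, MonoidHom.comp_apply, MulEquiv.coe_toMonoidHom, EmbeddingLike.apply_eq_iff_eq] at h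
  exact Forms.permHom_injective k hk h

/-- For k ≥ 1 the symmetric group of degree 4k + 4 embeds in a full orthogonal group in dimension 4k + 2 over the field of two elements: in the isometry group of the plus-type form Σ xᵢyᵢ when k is odd, and in that of the minus-type form Σ xᵢyᵢ + (z₁² + z₁z₂ + z₂²) when k is even (through its action on even partitions of a (4k+4)-set, with the form 'half the size of a part, modulo 2'). -/
theorem result (k : ℕ) (hk : 1 ≤ k) :
    (Odd k → ∃ φ : Equiv.Perm (Fin (4 * k + 4)) →* ↥(Cfsg.isometryGroup (ZMod 2) (Cfsg.quadFormPlus (2 * k + 1) (ZMod 2))), Function.Injective φ) ∧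
    (Even k → ∃ φ : Equiv.Perm (Fin (4 * k + 4)) →* ↥(Cfsg.isometryGroup (ZMod 2) (Cfsg.quadFormMinus (2 * k) (ZMod 2) 1 1)), Function.Injective φ) := by
  constructor
  · intro hodd
    rcases Forms.zeros_iff_plus (Forms.evenForm k) (Forms.evenForm_nondegenerate k)
      (m := 2 * k + 1) (by omega) (Forms.finrank_evenQuot k) with ⟨⟨e, he⟩, -⟩ | ⟨-, hN⟩
    · exact ⟨_, embed_injective k hk _ e he⟩
    · exfalso
      rw [Forms.card_zeros_evenForm, show 2 * (2 * k + 1) - 1 = 4 * k + 1 by omega,
        show 2 * k + 1 - 1 = 2 * k by omega, (Odd.add_one hodd).neg_one_pow] at hN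
      have := pow_pos (by norm_num : (0 : ℤ) < 2) (2 * k)
      linarith
  · intro heven
    rcases Forms.zeros_iff_plus (Forms.evenForm k) (Forms.evenForm_nondegenerate k)
      (m := 2 * k + 1) (by omega) (Forms.finrank_evenQuot k) with ⟨-, hN⟩ | ⟨⟨e, he⟩, -⟩
    · exfalso
      rw [Forms.card_zeros_evenForm, show 2 * (2 * k + 1) - 1 = 4 * k + 1 by omega,
        show 2 * k + 1 - 1 = 2 * k by omega, (Even.add_one heven).neg_one_pow] at hN
      have := pow_pos (by norm_num : (0 : ℤ) < 2) (2 * k)
      linarith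
    · exact ⟨_, embed_injective k hk _ e he⟩

end Cfsg.Agent.S2563
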