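import Cfsg.Statements.S2564
import Cfsg.Agent.EqLemmas

set_option autoImplicit false
open Cfsg

namespace Cfsg.Agent.S2564

/-- The polar form of the plus-type form, as a sum. -/
theorem polar_plus {F : Type*} [Field F] {m : ℕ} (u v : Fin m ⊕ Fin m → F) :
    Cfsg.quadFormPlus m F (u + v) - Cfsg.quadFormPlus m F u - Cfsg.quadFormPlus m F v
      = ∑ i, (u (Sum.inl i) * v (Sum.inr i) + u (Sum.inr i) * v (Sum.inl i)) := by
  simp only [Cfsg.quadFormPlus, ← Finset.sum_sub_distrib]
  exact Finset.sum_congr rfl fun i _ => by simp; ring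

theorem zmod_two_sq : ∀ x : ZMod 2, x * x = x := by decide

theorem zmod_two_cases : ∀ x : ZMod 2, x = 0 ∨ x = 1 := by decide

/-- On the 2m-dimensional space over the field of two elements (m ≥ 1) let f be the alternating form obtained by polarizing the plus-type form Σ xᵢyᵢ, and let q be any quadratic form polarizing to f. For a vector w, the function q + f(·, w) again polarizes to f, and it is equivalent to q under an invertible linear map (that is, has the same type) if and only if q(w) = 0. -/
theorem result (m : ℕ) (hm : 1 ≤ m) (q : (Fin m ⊕ Fin m → ZMod 2) → ZMod 2) (hq : (∀ u v : (Fin m ⊕ Fin m → ZMod 2), q (u + v) = q u + q v + (Cfsg.quadFormPlus m (ZMod 2) (u + v) - Cfsg.quadFormPlus m (ZMod 2) u - Cfsg.quadFormPlus m (ZMod 2) v))) (w : (Fin m ⊕ Fin m → ZMod 2)) :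
    (∀ u v : (Fin m ⊕ Fin m → ZMod 2), (q (u + v) + (Cfsg.quadFormPlus m (ZMod 2) (u + v + w) - Cfsg.quadFormPlus m (ZMod 2) (u + v) - Cfsg.quadFormPlus m (ZMod 2) w)) =
        (q u + (Cfsg.quadFormPlus m (ZMod 2) (u + w) - Cfsg.quadFormPlus m (ZMod 2) u - Cfsg.quadFormPlus m (ZMod 2) w)) + (q v + (Cfsg.quadFormPlus m (ZMod 2) (v + w) - Cfsg.quadFormPlus m (ZMod 2) v - Cfsg.quadFormPlus m (ZMod 2) w)) +
        (Cfsg.quadFormPlus m (ZMod 2) (u + v) - Cfsg.quadFormPlus m (ZMod 2) u - Cfsg.quadFormPlus m (ZMod 2) v)) ∧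
    ((∃ g : (Fin m ⊕ Fin m → ZMod 2) ≃ₗ[ZMod 2] (Fin m ⊕ Fin m → ZMod 2), ∀ v, q v + (Cfsg.quadFormPlus m (ZMod 2) (v + w) - Cfsg.quadFormPlus m (ZMod 2) v - Cfsg.quadFormPlus m (ZMod 2) w) = q (g v)) ↔ q w = 0) := by
  classical
  simp only [polar_plus] at hq ⊢
  set f : (Fin m ⊕ Fin m → ZMod 2) → (Fin m ⊕ Fin m → ZMod 2) → ZMod 2 :=
    fun u v => ∑ i, (u (Sum.inl i) * v (Sum.inr i) + u (Sum.inr i) * v (Sum.inl i)) with hf
  have hadd : ∀ u v x, f (u + v) x = f u x + f v x := by
    intro u v x
    simp only [hf, ← Finset.sum_add_distrib]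
    exact Finset.sum_congr rfl fun i _ => by simp; ring
  have hadd' : ∀ u v x, f x (u + v) = f x u + f x v := by
    intro u v x
    simp only [hf, ← Finset.sum_add_distrib]
    exact Finset.sum_congr rfl fun i _ => by simp; ring
  have hsmul : ∀ (c : ZMod 2) u x, f (c • u) x = c * f u x := by
    intro c u x
    simp only [hf, Finset.mul_sum]
    exact Finset.sum_congr rfl fun i _ => by simp; ring
  have hsmul' : ∀ (c : ZMod 2) u x, f x (c • u) = c * f x u := by
    intro c u x
    simp only [hf, Finset.mul_sum]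
    exact Finset.sum_congr rfl fun i _ => by simp; ring
  have hsymm : ∀ u v, f u v = f v u := by
    intro u v
    simp only [hf]
    exact Finset.sum_congr rfl fun i _ => by ring
  have hself : ∀ u, f u u = 0 := by
    intro u
    simp only [hf]
    exact Finset.sum_eq_zero fun i _ => by
      rw [mul_comm (u (Sum.inr i))]; exact CharTwo.add_self_eq_zero _
  have hq' : ∀ u v, q (u + v) = q u + q v + f u v := hq
  have hq0 : q 0 = 0 := by
    have h := hq' 0 0
    rw [add_zero, hself, add_zero, CharTwo.add_self_eq_zero] at h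
    exact h
  have hqs : ∀ (c : ZMod 2) u, q (c • u) = c * q u := by
    intro c u
    rcases zmod_two_cases c with rfl | rfl <;> simp [hq0]
  refine ⟨fun u v => ?_, ?_⟩
  · show q (u + v) + f (u + v) w = q u + f u w + (q v + f v w) + f u v
    rw [hq', hadd]; ring
  show (∃ g : (Fin m ⊕ Fin m → ZMod 2) ≃ₗ[ZMod 2] (Fin m ⊕ Fin m → ZMod 2),
    ∀ v, q v + f v w = q (g v)) ↔ q w = 0
  constructor
  · rintro ⟨g, hg⟩
    rcases zmod_two_cases (q w) with h | h
    · exact h
    exfalso
    let χ : ZMod 2 → ℤ := fun x => if x = 0 then 1 else -1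
    have hχ : ∀ x y, χ (x + y) = χ x * χ y := by
      intro x y
      rcases zmod_two_cases x with rfl | rfl <;> rcases zmod_two_cases y with rfl | rfl <;> decide
    set S : ℤ := ∑ v, χ (q v) with hS
    have hneg : S = -S := by
      calc S = ∑ v, χ (q (g v)) := (Equiv.sum_comp g.toEquiv fun v => χ (q v)).symm
        _ = ∑ v, χ (q (v + w)) * χ 1 := by
          refine Finset.sum_congr rfl fun v _ => ?_
          rw [← hg, ← hχ, hq', h]
          congr 1
          linear_combination (-1 : ZMod 2) * CharTwo.add_self_eq_zero (1 : ZMod 2)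
        _ = (∑ v, χ (q (v + w))) * χ 1 := by rw [Finset.sum_mul]
        _ = -S := by
          rw [Fintype.sum_equiv (Equiv.addRight w) (fun v => χ (q (v + w))) (fun v => χ (q v))
            (fun v => rfl)]
          simp [χ, hS]
    have hsq : S * S = (Fintype.card (Fin m ⊕ Fin m → ZMod 2) : ℤ) := by
      have hinner : ∀ c : Fin m ⊕ Fin m → ZMod 2, c ≠ 0 → ∑ a, χ (f a c) = 0 := by
        intro c hc
        obtain ⟨a₀, ha₀⟩ : ∃ a₀, f a₀ c = 1 := by
          obtain ⟨i, hi⟩ := Function.ne_iff.mp hc
          have hi1 : c i = 1 := (zmod_two_cases (c i)).resolve_left hi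
          rcases i with i | i
          · refine ⟨Pi.single (Sum.inr i) 1, ?_⟩
            simp [hf, Pi.single_apply, hi1]
          · refine ⟨Pi.single (Sum.inl i) 1, ?_⟩
            simp [hf, Pi.single_apply, hi1]
        have h2 : ∑ a, χ (f a c) = -∑ a, χ (f a c) := by
          conv_lhs => rw [← Equiv.sum_comp (Equiv.addRight a₀) fun a => χ (f a c)]
          rw [← Finset.sum_neg_distrib]
          refine Finset.sum_congr rfl fun a _ => ?_
          rw [Equiv.coe_addRight, hadd, hχ, ha₀]
          simp [χ]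
        omega
      calc S * S = ∑ a, ∑ b, χ (q a) * χ (q b) := by rw [hS, Finset.sum_mul_sum]
        _ = ∑ a, ∑ c, χ (q c) * χ (f a c) := by
          refine Finset.sum_congr rfl fun a _ => ?_
          rw [← Equiv.sum_comp (Equiv.addLeft a) fun b => χ (q a) * χ (q b)]
          refine Finset.sum_congr rfl fun c _ => ?_
          rw [Equiv.coe_addLeft, ← hχ, ← hχ, hq']
          congr 1
          linear_combination CharTwo.add_self_eq_zero (q a)
        _ = ∑ c, χ (q c) * ∑ a, χ (f a c) := by
          rw [Finset.sum_comm]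
          simp [Finset.mul_sum]
        _ = _ := by
          rw [Finset.sum_eq_single 0 (fun c _ hc => by rw [hinner c hc, mul_zero])
            (fun h => absurd (Finset.mem_univ _) h)]
          simp [χ, hq0, hf]
    have hzero : S = 0 := by omega
    rw [hzero, mul_zero] at hsq
    exact Fintype.card_ne_zero (by exact_mod_cast hsq.symm)
  · intro hw
    let T : (Fin m ⊕ Fin m → ZMod 2) →ₗ[ZMod 2] (Fin m ⊕ Fin m → ZMod 2) :=
      { toFun := fun v => v + f v w • w
        map_add' := fun u v => by
          rw [hadd, add_smul]; abel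
        map_smul' := fun c v => by
          rw [hsmul, RingHom.id_apply, smul_add, smul_smul] }
    have hTT : ∀ v, T (T v) = v := by
      intro v
      show v + f v w • w + f (v + f v w • w) w • w = v
      rw [hadd, hsmul, hself, mul_zero, add_zero, add_assoc, ← add_smul,
        CharTwo.add_self_eq_zero, zero_smul, add_zero]
    refine ⟨LinearEquiv.ofLinearMap T T (LinearMap.ext hTT) (LinearMap.ext hTT), fun v => ?_⟩
    show q v + f v w = q (v + f v w • w)
    rw [hq', hqs, hw, hsmul', mul_zero, add_zero, zmod_two_sq]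

end Cfsg.Agent.S2564
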