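import Cfsg.Statements.S2565
import Cfsg.Agent.Lib.Forms.Count
import Cfsg.Agent.S2563

set_option autoImplicit false
open Cfsg

namespace Cfsg.Agent.S2565

/-- The commutator subgroup of the full orthogonal group of the plus-type form Σ xᵢyᵢ in dimension 6 over the field of two elements (the group Ω⁺₆(2), of index 2) is isomorphic to the alternating group of degree 8. -/
theorem result :
    (Cfsg.Omega (ZMod 2) (Cfsg.quadFormPlus 3 (ZMod 2))).index = 2 ∧
    Nonempty (↥(Cfsg.Omega (ZMod 2) (Cfsg.quadFormPlus 3 (ZMod 2))) ≃* alternatingGroup (Fin 8)) := by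
  obtain ⟨φ, hφ⟩ : ∃ φ : Equiv.Perm (Fin 8) →*
      ↥(Cfsg.isometryGroup (ZMod 2) (Cfsg.quadFormPlus 3 (ZMod 2))), Function.Injective φ :=
    (S2563.result 1 le_rfl).1 odd_one
  have hcard : Nat.card ↥(Cfsg.isometryGroup (ZMod 2) (Cfsg.quadFormPlus 3 (ZMod 2))) = 40320 := by
    rw [Nat.card_congr (Forms.isometryGroupEquiv (Cfsg.quadFormPlus 3 (ZMod 2))).toEquiv,
      ← Forms.qfPlus_eq, Forms.card_preservingFun_qfPlus, Nat.card_zmod]
    decide
  haveI : Finite ↥(Cfsg.isometryGroup (ZMod 2) (Cfsg.quadFormPlus 3 (ZMod 2))) :=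
    Nat.finite_of_card_ne_zero (by omega)
  have hbij : Function.Bijective φ := by
    rw [Nat.bijective_iff_injective_and_card]
    refine ⟨hφ, ?_⟩
    rw [hcard, Nat.card_eq_fintype_card, Fintype.card_perm, Fintype.card_fin]
    decide
  have hmap : (alternatingGroup (Fin 8)).map φ
      = Cfsg.Omega (ZMod 2) (Cfsg.quadFormPlus 3 (ZMod 2)) := by
    rw [← alternatingGroup.commutator_perm_eq (α := Fin 8) (by simp), Cfsg.Omega, commutator_def,
      commutator_def, Subgroup.map_commutator, ← MonoidHom.range_eq_map,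
      MonoidHom.range_eq_top.2 hbij.2]
  refine ⟨?_, ⟨?_⟩⟩
  · rw [← hmap, Subgroup.index_map_of_bijective hbij, alternatingGroup.index_eq_two]
  · exact ((MulEquiv.subgroupCongr hmap.symm).trans
      ((alternatingGroup (Fin 8)).equivMapOfInjective φ hφ).symm)

end Cfsg.Agent.S2565
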