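import Cfsg.Statements.S2567
import Cfsg.Agent.EqLemmas

set_option autoImplicit false
open Cfsg

namespace Cfsg.Agent.S2567

/-- Lifting elements of prime order from PGL to GL: let F be a finite field with q elements, r a prime not dividing q − 1, and x an element of order r in GL_n(F) modulo its centre (the scalar matrices). Then x has exactly one preimage in GL_n(F) of order r. -/
theorem result {F : Type*} [Field F] [Fintype F] {q n r : ℕ} (hF : Fintype.card F = q) (hr : r.Prime) (hdiv : ¬ r ∣ q - 1) (x : GL (Fin n) F ⧸ Subgroup.center (GL (Fin n) F)) (hx : orderOf x = r) : ∃! g : GL (Fin n) F, (QuotientGroup.mk g : GL (Fin n) F ⧸ Subgroup.center (GL (Fin n) F)) = x ∧ orderOf g = r := by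
  classical
  obtain ⟨g₀, rfl⟩ := QuotientGroup.mk_surjective x
  rcases Nat.eq_zero_or_pos n with rfl | hn
  · exfalso
    haveI : Subsingleton (GL (Fin 0) F) := ⟨fun a b => by ext i; exact i.elim0⟩
    rw [Subsingleton.elim g₀ 1, QuotientGroup.mk_one, orderOf_one] at hx
    exact hr.ne_one hx.symm
  haveI : Nonempty (Fin n) := ⟨⟨0, hn⟩⟩
  have hZ : ∀ z ∈ Subgroup.center (GL (Fin n) F), z ^ (q - 1) = 1 := by
    intro z hz
    obtain ⟨a, rfl⟩ : ∃ a : Fˣ, Matrix.GeneralLinearGroup.scalar (Fin n) a = z := by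
      rw [Matrix.GeneralLinearGroup.center_eq_range_scalar] at hz
      exact hz
    rw [← map_pow, ← hF, ← Fintype.card_units, pow_card_eq_one, map_one]
  have hco : Nat.Coprime r (q - 1) := (Nat.Prime.coprime_iff_not_dvd hr).mpr hdiv
  have hZr : ∀ z ∈ Subgroup.center (GL (Fin n) F), z ^ r = 1 → z = 1 := by
    intro z hz h1
    have h := pow_gcd_eq_one.mpr ⟨h1, hZ z hz⟩
    rwa [hco.gcd_eq_one, pow_one] at h
  have hc : g₀ ^ r ∈ Subgroup.center (GL (Fin n) F) := by
    rw [← QuotientGroup.eq_one_iff, QuotientGroup.mk_pow, ← hx]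
    exact pow_orderOf_eq_one _
  have hq1 : 0 < q - 1 := by
    have := Fintype.one_lt_card (α := F)
    omega
  obtain ⟨e, he⟩ : ∃ e : ℕ, (g₀ ^ r) ^ (r * e) = g₀ ^ r := by
    rcases Nat.lt_or_ge 1 (q - 1) with h1 | h1
    · obtain ⟨e, -, he⟩ := Nat.exists_mul_mod_eq_one_of_coprime hco h1
      refine ⟨e, ?_⟩
      rw [← Nat.mod_add_div (r * e) (q - 1), he, pow_add, pow_one, pow_mul, hZ _ hc, one_pow,
        mul_one]
    · refine ⟨0, ?_⟩
      have := hZ _ hc
      rw [show q - 1 = 1 by omega, pow_one] at this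
      rw [mul_zero, pow_zero, this]
  set z := (g₀ ^ r) ^ e with hz_def
  have hzc : z ∈ Subgroup.center (GL (Fin n) F) := Subgroup.pow_mem _ hc e
  have hzr : z ^ r = g₀ ^ r := by rw [hz_def, ← pow_mul, mul_comm, he]
  have hmk : (QuotientGroup.mk (g₀ * z⁻¹) : GL (Fin n) F ⧸ Subgroup.center (GL (Fin n) F))
      = QuotientGroup.mk g₀ := by
    rw [QuotientGroup.mk_mul_of_mem]
    exact Subgroup.inv_mem _ hzc
  have hcomm : Commute g₀ z⁻¹ :=
    (Subgroup.mem_center_iff.mp (Subgroup.inv_mem _ hzc) g₀)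
  have hpow : (g₀ * z⁻¹) ^ r = 1 := by
    rw [hcomm.mul_pow, inv_pow, hzr, mul_inv_cancel]
  haveI : Fact r.Prime := ⟨hr⟩
  have hne : g₀ * z⁻¹ ≠ 1 := by
    intro h
    rw [h, QuotientGroup.mk_one] at hmk
    rw [← hmk, orderOf_one] at hx
    exact hr.ne_one hx.symm
  refine ⟨g₀ * z⁻¹, ⟨hmk, orderOf_eq_prime hpow hne⟩, ?_⟩
  rintro g ⟨hg, hgr⟩
  have hmem : g⁻¹ * (g₀ * z⁻¹) ∈ Subgroup.center (GL (Fin n) F) :=
    QuotientGroup.eq.mp (hg.trans hmk.symm)
  set w := g⁻¹ * (g₀ * z⁻¹) with hw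
  have h1 : g * w = g₀ * z⁻¹ := by rw [hw, mul_inv_cancel_left]
  have h2 : w ^ r = 1 := by
    have hc' : Commute g w := Subgroup.mem_center_iff.mp hmem g
    rw [← h1, hc'.mul_pow, ← hgr, pow_orderOf_eq_one, one_mul] at hpow
    rwa [hgr] at hpow
  rw [← h1, hZr w hmem h2, mul_one]

end Cfsg.Agent.S2567
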