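import Cfsg.Statements.S2568
import Cfsg.Agent.EqLemmas
import Cfsg.Agent.Lib.Semisimple.Classes

set_option autoImplicit false
open Cfsg

namespace Cfsg.Agent.S2568
open Polynomial UniqueFactorizationMonoid

variable {F : Type*} [Field F] [Fintype F]

omit [Fintype F] in
theorem charpoly_dvd_of_pow_eq_one {n r : ℕ} (A : Matrix (Fin n) (Fin n) F) (h : A ^ r = 1) :
    A.charpoly ∣ ((X : F[X]) ^ r - 1) ^ n := by
  have hc : Commute (Matrix.scalar (Fin n) (X : F[X])) ((C : F →+* F[X]).mapMatrix A) :=
    Matrix.scalar_commute _ (fun _ => Commute.all _ _) _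
  have h1 := hc.sub_dvd_pow_sub_pow r
  rw [← map_pow, ← map_pow, h, map_one, ← map_one (Matrix.scalar (Fin n)), ← map_sub] at h1
  have h2 := map_dvd Matrix.detMonoidHom h1
  simpa [Matrix.charpoly, Matrix.charmatrix] using h2

theorem exists_pow_eq_one (p : ℕ) [Fact p.Prime] [CharP F p] {n r : ℕ} (hr : 0 < r) (P : F[X]) (hP : P.Monic)
    (hd : P.natDegree = n) (hdv : P ∣ ((X : F[X]) ^ r - 1) ^ n) :
    ∃ g : GL (Fin n) F, (orderOf g).Coprime p ∧ g ^ r = 1 ∧ (g : Matrix (Fin n) (Fin n) F).charpoly = P := by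
  obtain ⟨A, hA⟩ := Semisimple.exists_matrix_charpoly P hP hd
  have h0 : A.det ≠ 0 := by
    rw [Semisimple.det_eq_coeff, hA]
    refine mul_ne_zero (pow_ne_zero _ (by simp)) fun h0 => ?_
    rw [coeff_zero_eq_eval_zero] at h0
    have h1 := eval_dvd (x := (0 : F)) hdv
    rw [h0, zero_dvd_iff] at h1
    simp [zero_pow hr.ne'] at h1
  obtain ⟨k, hk, hkc⟩ := Semisimple.exists_coprime_charpoly p (MonoidHom.id (GL (Fin n) F))
    (Matrix.GeneralLinearGroup.mkOfDetNeZero A h0)
  simp only [MonoidHom.id_apply] at hkc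
  have hc : ((Matrix.GeneralLinearGroup.mkOfDetNeZero A h0 ^ k : GL (Fin n) F) : Matrix (Fin n) (Fin n) F).charpoly = P := by
    rw [hkc]; exact hA
  generalize Matrix.GeneralLinearGroup.mkOfDetNeZero A h0 ^ k = g at hk hc ⊢
  refine ⟨g, hk, ?_, hc⟩
  have hss := Semisimple.isSemisimple_of_coprime p g hk
  have hm : minpoly F (Matrix.toLin' (g : Matrix (Fin n) (Fin n) F)) ∣ ((X : F[X]) ^ r - 1) ^ n :=
    (LinearMap.minpoly_dvd_charpoly _).trans (by rw [Matrix.charpoly_toLin', hc]; exact hdv)
  have hz := aeval_eq_zero_of_dvd_aeval_eq_zero (hss.minpoly_squarefree.isRadical n _ hm) (minpoly.aeval F _)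
  rw [map_sub, map_pow, map_one, aeval_X, sub_eq_zero, ← Matrix.toLin'_pow] at hz
  apply Units.ext
  rw [Units.val_pow_eq_pow_val, Units.val_one]
  exact Matrix.toLin'.injective (hz.trans Matrix.toLin'_one.symm)

omit [Fintype F] in
theorem nf_prod {L : Multiset F[X]} [DecidableEq F] (hL : ∀ Q ∈ L, Q.Monic ∧ Irreducible Q) :
    normalizedFactors L.prod = L := by
  induction L using Multiset.induction with
  | empty => simp
  | cons a L ih =>
    have ha := hL a (Multiset.mem_cons_self a L)
    have hL' : ∀ Q ∈ L, Q.Monic ∧ Irreducible Q := fun Q hQ => hL Q (Multiset.mem_cons_of_mem hQ)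
    rw [Multiset.prod_cons, normalizedFactors_mul ha.2.ne_zero
      (Multiset.prod_ne_zero fun h0 => (hL' 0 h0).2.ne_zero rfl), ih hL',
      normalizedFactors_irreducible ha.2, ha.1.normalize_eq_self, Multiset.singleton_add]

omit [Fintype F] in
theorem prod_dvd_pow {L : Multiset F[X]} {M : F[X]} (hL : ∀ Q ∈ L, Q ∣ M) : L.prod ∣ M ^ L.card := by
  induction L using Multiset.induction with
  | empty => simp
  | cons a L ih =>
    rw [Multiset.prod_cons, Multiset.card_cons, pow_succ']
    exact mul_dvd_mul (hL a (Multiset.mem_cons_self a L)) (ih fun Q hQ => hL Q (Multiset.mem_cons_of_mem hQ))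

theorem replicate_add_filterMap {α : Type*} (s : Multiset (Option α)) :
    Multiset.replicate (s.card - (s.filterMap id).card) none + (s.filterMap id).map some = s := by
  induction s using Multiset.induction with
  | empty => simp
  | cons a s ih =>
    have hle : (s.filterMap id).card ≤ s.card := by
      have := congrArg Multiset.card ih
      simp at this
      omega
    cases a with
    | none =>
      rw [Multiset.filterMap_cons_none _ _ (by rfl), Multiset.card_cons, Nat.succ_sub hle,
        Multiset.replicate_succ, Multiset.cons_add, ih]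
    | some b =>
      rw [Multiset.filterMap_cons_some id _ _ (by rfl), Multiset.map_cons, Multiset.add_cons,
        Multiset.card_cons, Multiset.card_cons, Nat.succ_sub_succ, ih]

theorem card_multiset_le (α : Type*) [Finite α] (N : ℕ) :
    Nat.card {m : Multiset α // m.card ≤ N} = (N + Nat.card α).choose (Nat.card α) := by
  let e : {m : Multiset α // m.card ≤ N} ≃ Sym (Option α) N :=
    { toFun := fun m => ⟨Multiset.replicate (N - m.1.card) none + m.1.map some, by
        have := m.2; simp; omega⟩
      invFun := fun s => ⟨(s : Multiset (Option α)).filterMap id, by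
        have h1 := congrArg Multiset.card (replicate_add_filterMap (s : Multiset (Option α)))
        rw [Multiset.card_add, Multiset.card_map, Multiset.card_replicate, Sym.card_coe] at h1
        omega⟩
      left_inv := fun m => by
        apply Subtype.ext
        show (Multiset.replicate (N - m.1.card) none + m.1.map some).filterMap id = m.1
        generalize N - m.1.card = k
        induction k with
        | zero => simp [Multiset.filterMap_map]
        | succ k ih => rw [Multiset.replicate_succ, Multiset.cons_add, Multiset.filterMap_cons_none _ _ (by rfl), ih]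
      right_inv := fun s => by
        apply Subtype.ext
        have h1 := replicate_add_filterMap (s : Multiset (Option α))
        rw [Sym.card_coe] at h1
        exact h1 }
  rw [Nat.card_congr e, Sym.natCard_sym_eq_choose, Finite.card_option]
  rw [show Nat.card α + 1 + N - 1 = N + Nat.card α by omega]
  exact Nat.choose_symm_add

set_option maxHeartbeats 1000000 in
/-- Monic divisors of degree `n` of `(X^r - 1)^n`. -/
theorem card_divisors (p : ℕ) [Fact p.Prime] [CharP F p] {q n r i t : ℕ} (hF : Fintype.card F = q) (hr : r.Prime)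
    (hrp : r ≠ p) (hi : i = orderOf (q : ZMod r)) (ht : t * i = r - 1) :
    Nat.card {P : F[X] // P.Monic ∧ P.natDegree = n ∧ P ∣ ((X : F[X]) ^ r - 1) ^ n} = (n / i + t).choose t := by
  classical
  obtain ⟨f, hp, hf⟩ := FiniteField.card F p
  haveI : Fact r.Prime := ⟨hr⟩
  have hcop : p.Coprime r := (Nat.coprime_primes hp hr).mpr (Ne.symm hrp)
  have hrF : (r : F) ≠ 0 := fun h0 => hrp ((Nat.prime_dvd_prime_iff_eq hp hr).mp ((CharP.cast_eq_zero_iff F p r).mp h0)).symm
  have hsq : Squarefree ((X : F[X]) ^ r - 1) := (X_pow_sub_one_separable_iff.mpr hrF).squarefree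
  have hfac : cyclotomic r F * (X - 1) = X ^ r - 1 := cyclotomic_prime_mul_X_sub_one F r
  have hX1 : (X - 1 : F[X]).Monic ∧ Irreducible (X - 1 : F[X]) := by
    rw [← map_one (C : F →+* F[X])]; exact ⟨monic_X_sub_C _, irreducible_X_sub_C _⟩
  let S := (normalizedFactors (cyclotomic r F)).toFinset
  have hS : ∀ Q ∈ S, Q.Monic ∧ Irreducible Q ∧ Q ∣ cyclotomic r F := by
    intro Q hQ
    rw [Multiset.mem_toFinset] at hQ
    have h1 := irreducible_of_normalized_factor Q hQ
    refine ⟨?_, h1, dvd_of_mem_normalizedFactors hQ⟩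
    rw [← normalize_normalized_factor Q hQ]
    exact monic_normalize h1.ne_zero
  have hdeg : ∀ Q ∈ S, Q.natDegree = i := by
    intro Q hQ
    rw [natDegree_of_dvd_cyclotomic_of_irreducible hf hcop (hS Q hQ).2.2 (hS Q hQ).2.1, ← orderOf_units,
      ZMod.coe_unitOfCoprime, hi, ← hF, hf]
  have hi0 : 0 < i := by
    rcases Nat.eq_zero_or_pos i with h0 | h0
    · subst h0; have := hr.two_le; omega
    · exact h0
  have hne : ∀ Q ∈ S, Q ≠ X - 1 := by
    intro Q hQ h0
    have h1 : (X - 1) * (X - 1) ∣ (X : F[X]) ^ r - 1 := by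
      rw [← hfac]; exact mul_dvd_mul_right (h0 ▸ (hS Q hQ).2.2) _
    exact hX1.2.not_isUnit (hsq _ h1)
  have hcyc0 : cyclotomic r F ≠ 0 := cyclotomic_ne_zero r F
  have hcard : S.card = t := by
    have hnd : (normalizedFactors (cyclotomic r F)).Nodup :=
      (squarefree_iff_nodup_normalizedFactors hcyc0).mp (hsq.squarefree_of_dvd ⟨_, hfac.symm⟩)
    have hmon : ∀ Q ∈ normalizedFactors (cyclotomic r F), Q.Monic := fun Q hQ => (hS Q (Multiset.mem_toFinset.mpr hQ)).1
    have hprod : (normalizedFactors (cyclotomic r F)).prod = cyclotomic r F :=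
      eq_of_monic_of_associated (by simpa using monic_multiset_prod_of_monic _ id hmon)
        (cyclotomic.monic r F) (prod_normalizedFactors hcyc0)
    have hd : (cyclotomic r F).natDegree = S.card * i := by
      conv_lhs => rw [← hprod]
      rw [natDegree_multiset_prod_of_monic _ fun Q hQ => (hS Q (Multiset.mem_toFinset.mpr hQ)).1,
        Multiset.map_congr rfl (fun Q hQ => hdeg Q (Multiset.mem_toFinset.mpr hQ)), Multiset.map_const',
        Multiset.sum_replicate, smul_eq_mul, Multiset.toFinset_card_of_nodup hnd]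
    rw [natDegree_cyclotomic, Nat.totient_prime hr, ← ht] at hd
    exact (Nat.eq_of_mul_eq_mul_right hi0 hd).symm
  have hclass : ∀ Q : F[X], Q.Monic → Irreducible Q → Q ∣ (X : F[X]) ^ r - 1 → Q ≠ X - 1 → Q ∈ S := by
    intro Q hm hQ hd h1
    rw [← hfac] at hd
    rcases hQ.prime.dvd_or_dvd hd with h | h
    · rw [Multiset.mem_toFinset, mem_normalizedFactors_iff' hcyc0]
      exact ⟨hQ, hm.normalize_eq_self, h⟩
    · exact absurd (eq_of_monic_of_associated hm hX1.1 (hQ.associated_of_dvd hX1.2 h)) h1
  let L : Multiset S → Multiset F[X] := fun m => Multiset.replicate (n - i * m.card) (X - 1) + m.map Subtype.val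
  have hL : ∀ m, ∀ Q ∈ L m, Q.Monic ∧ Irreducible Q := by
    intro m Q hQ
    rcases Multiset.mem_add.mp hQ with h | h
    · rw [Multiset.eq_of_mem_replicate h]; exact hX1
    · obtain ⟨s, _, rfl⟩ := Multiset.mem_map.mp h
      exact ⟨(hS s.1 s.2).1, (hS s.1 s.2).2.1⟩
  have hmap : ∀ m : Multiset S, ((m.map Subtype.val).map natDegree).sum = i * m.card := by
    intro m
    rw [Multiset.map_map, Multiset.map_congr rfl (fun s _ => show (natDegree ∘ Subtype.val) s = i from hdeg s.1 s.2),
      Multiset.map_const', Multiset.sum_replicate, smul_eq_mul, mul_comm]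
  have hX1d : (X - 1 : F[X]).natDegree = 1 := by rw [← map_one (C : F →+* F[X])]; exact natDegree_X_sub_C _
  have hLdeg : ∀ m, i * m.card ≤ n → (L m).prod.natDegree = n := by
    intro m hm
    rw [natDegree_multiset_prod_of_monic _ fun Q hQ => (hL m Q hQ).1, Multiset.map_add, Multiset.sum_add,
      Multiset.map_replicate, hX1d, hmap, Multiset.sum_replicate, smul_eq_mul]
    omega
  let Φ : {m : Multiset S // m.card ≤ n / i} → {P : F[X] // P.Monic ∧ P.natDegree = n ∧ P ∣ ((X : F[X]) ^ r - 1) ^ n} :=
    fun m => ⟨(L m.1).prod, by simpa using monic_multiset_prod_of_monic (L m.1) id (fun Q hQ => (hL m.1 Q hQ).1),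
      hLdeg m.1 (by have := (Nat.le_div_iff_mul_le hi0).mp m.2; rwa [mul_comm]), by
      have hm : i * m.1.card ≤ n := by have := (Nat.le_div_iff_mul_le hi0).mp m.2; rwa [mul_comm]
      refine (prod_dvd_pow (M := (X : F[X]) ^ r - 1) fun Q hQ => ?_).trans (pow_dvd_pow _ ?_)
      · rcases Multiset.mem_add.mp hQ with h | h
        · rw [Multiset.eq_of_mem_replicate h, ← hfac]; exact dvd_mul_left _ _
        · obtain ⟨s, _, rfl⟩ := Multiset.mem_map.mp h
          exact ((hS s.1 s.2).2.2).trans ⟨_, hfac.symm⟩
      · show (L m.1).card ≤ n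
        have : m.1.card ≤ i * m.1.card := Nat.le_mul_of_pos_left _ hi0
        simp [L]; omega⟩
  have hΦ : Function.Bijective Φ := by
    constructor
    · intro m m' h
      have h1 : L m.1 = L m'.1 := by
        rw [← nf_prod (hL m.1), ← nf_prod (hL m'.1)]
        exact congrArg (fun z => normalizedFactors z) (congrArg Subtype.val h)
      have h2 : ∀ m : Multiset S, (L m).filter (fun Q => Q ≠ X - 1) = m.map Subtype.val := by
        intro m
        rw [Multiset.filter_add, Multiset.filter_eq_nil.mpr (fun Q hQ => by simp [Multiset.eq_of_mem_replicate hQ]), zero_add,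
          Multiset.filter_eq_self]
        intro Q hQ
        obtain ⟨s, _, rfl⟩ := Multiset.mem_map.mp hQ
        exact hne s.1 s.2
      exact Subtype.ext (Multiset.map_injective Subtype.val_injective (by rw [← h2, h1, h2]))
    · rintro ⟨P, hPm, hPd, hPdv⟩
      let N := normalizedFactors P
      have hN : ∀ Q ∈ N, Q.Monic ∧ Irreducible Q := by
        intro Q hQ
        have h1 := irreducible_of_normalized_factor Q hQ
        refine ⟨?_, h1⟩
        rw [← normalize_normalized_factor Q hQ]
        exact monic_normalize h1.ne_zero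
      have hP : N.prod = P := eq_of_monic_of_associated
        (by simpa using monic_multiset_prod_of_monic N id (fun Q hQ => (hN Q hQ).1)) hPm (prod_normalizedFactors hPm.ne_zero)
      have hmem : ∀ Q ∈ N.filter (fun Q => Q ≠ X - 1), Q ∈ S := by
        intro Q hQ
        obtain ⟨hQ1, hQ2⟩ := Multiset.mem_filter.mp hQ
        exact hclass Q (hN Q hQ1).1 (hN Q hQ1).2
          ((hN Q hQ1).2.prime.dvd_of_dvd_pow ((dvd_of_mem_normalizedFactors hQ1).trans hPdv)) hQ2
      let m : Multiset S := (N.filter (fun Q => Q ≠ X - 1)).pmap (fun Q h => (⟨Q, h⟩ : S)) hmem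
      have hm : m.map Subtype.val = N.filter (fun Q => Q ≠ X - 1) := by
        rw [Multiset.map_pmap, Multiset.pmap_eq_map, Multiset.map_id']
      have hsplit : N = Multiset.replicate (N.count (X - 1)) (X - 1) + m.map Subtype.val := by
        rw [hm, ← Multiset.filter_eq']
        exact (Multiset.filter_add_not _ N).symm
      have hd : N.count (X - 1) + i * m.card = n := by
        have h := natDegree_multiset_prod_of_monic N fun Q hQ => (hN Q hQ).1
        rw [hP, hPd] at h
        conv_rhs at h => rw [hsplit]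
        rw [Multiset.map_add, Multiset.sum_add, Multiset.map_replicate, hX1d, hmap, Multiset.sum_replicate, smul_eq_mul, mul_one] at h
        exact h.symm
      refine ⟨⟨m, (Nat.le_div_iff_mul_le hi0).mpr (by rw [mul_comm]; omega)⟩, Subtype.ext ?_⟩
      show (L m).prod = P
      rw [← hP]
      conv_rhs => rw [hsplit]
      rw [show N.count (X - 1) = n - i * m.card by omega]
  rw [← Nat.card_eq_of_bijective Φ hΦ, card_multiset_le]
  simp [hcard]


/-- Number of conjugacy classes of elements of a given prime order r, coprime to the characteristic, in GL_n(q): if i is the multiplicative order of q modulo r and t = (r − 1)/i, the classes correspond to the non-zero t-tuples of natural numbers (a_1, …, a_t) with i(a_1 + ⋯ + a_t) ≤ n (a_j is the multiplicity of the j-th Frobenius orbit of nontrivial r-th roots of unity among the eigenvalues), so there are exactly C(⌊n/i⌋ + t, t) − 1 of them. -/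
theorem result {F : Type*} [Field F] [Fintype F] {p q : ℕ} [Fact p.Prime] [CharP F p] (hF : Fintype.card F = q) (n r i t : ℕ) (hr : r.Prime) (hrp : r ≠ p) (hi : i = orderOf (q : ZMod r)) (ht : t * i = r - 1) : Nat.card {C : ConjClasses (GL (Fin n) F) // ∃ g : GL (Fin n) F, ConjClasses.mk g = C ∧ orderOf g = r} = Nat.choose (n / i + t) t - 1 := by
  classical
  have hcop : ∀ g : GL (Fin n) F, g ^ r = 1 → (orderOf g).Coprime p := fun g hg =>
    Nat.Coprime.coprime_dvd_left (orderOf_dvd_of_pow_eq_one hg) ((Nat.coprime_primes hr Fact.out).mpr hrp)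
  let A : Set (ConjClasses (GL (Fin n) F)) := {C | ∃ g, ConjClasses.mk g = C ∧ g ^ r = 1}
  have hset : {C : ConjClasses (GL (Fin n) F) | ∃ g : GL (Fin n) F, ConjClasses.mk g = C ∧ orderOf g = r} = A \ {1} := by
    ext C
    constructor
    · rintro ⟨g, rfl, hg⟩
      refine ⟨⟨g, rfl, by rw [← hg]; exact pow_orderOf_eq_one g⟩, fun h1 => ?_⟩
      rw [Set.mem_singleton_iff, ConjClasses.one_eq_mk_one, ConjClasses.mk_eq_mk_iff_isConj, isConj_one_left] at h1
      rw [h1, orderOf_one] at hg
      exact hr.ne_one hg.symm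
    · rintro ⟨⟨g, rfl, hg⟩, hne⟩
      haveI : Fact r.Prime := ⟨hr⟩
      exact ⟨g, rfl, orderOf_eq_prime hg fun h1 => hne (by rw [h1]; rfl)⟩
  have hA : Nat.card A = Nat.card {P : Polynomial F // P.Monic ∧ P.natDegree = n ∧ P ∣ ((Polynomial.X : Polynomial F) ^ r - 1) ^ n} := by
    let Ψ : A → {P : Polynomial F // P.Monic ∧ P.natDegree = n ∧ P ∣ ((Polynomial.X : Polynomial F) ^ r - 1) ^ n} :=
      fun C => ⟨(C.2.choose : Matrix (Fin n) (Fin n) F).charpoly, Matrix.charpoly_monic _,
        by rw [Matrix.charpoly_natDegree_eq_dim, Fintype.card_fin],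
        charpoly_dvd_of_pow_eq_one _ (by rw [← Units.val_pow_eq_pow_val, C.2.choose_spec.2, Units.val_one])⟩
    refine Nat.card_eq_of_bijective Ψ ⟨fun C C' h => Subtype.ext ?_, fun ⟨P, hPm, hPd, hPdv⟩ => ?_⟩
    · rw [← C.2.choose_spec.1, ← C'.2.choose_spec.1, ConjClasses.mk_eq_mk_iff_isConj]
      exact Semisimple.gl_isConj_of_charpoly_eq p _ _ (hcop _ C.2.choose_spec.2) (hcop _ C'.2.choose_spec.2) (congrArg Subtype.val h)
    · obtain ⟨g, -, hg, hc⟩ := exists_pow_eq_one p hr.pos P hPm hPd hPdv
      let C : A := ⟨ConjClasses.mk g, g, rfl, hg⟩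
      refine ⟨C, Subtype.ext ?_⟩
      show (C.2.choose : Matrix (Fin n) (Fin n) F).charpoly = P
      rw [← hc]
      exact Semisimple.charpoly_conj_gl (ConjClasses.mk_eq_mk_iff_isConj.1 C.2.choose_spec.1)
  have h1 : (1 : ConjClasses (GL (Fin n) F)) ∈ A := ⟨1, rfl, one_pow r⟩
  show Nat.card ({C : ConjClasses (GL (Fin n) F) | ∃ g : GL (Fin n) F, ConjClasses.mk g = C ∧ orderOf g = r} : Set _) = _
  rw [hset, Nat.card_coe_set_eq, Set.ncard_sdiff_singleton_of_mem h1, ← Nat.card_coe_set_eq, hA,
    card_divisors p hF hr hrp hi ht]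

end Cfsg.Agent.S2568
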