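import Cfsg.Statements.S2569
import Cfsg.Agent.EqLemmas

set_option autoImplicit false
open Cfsg

namespace Cfsg.Agent.S2569

open Polynomial

/-- The centralizer of a semisimple endomorphism of a space over a finite field has full determinant. -/
theorem exists_commute_det {F V : Type*} [Field F] [Finite F] [AddCommGroup V] [Module F V]
    [FiniteDimensional F V] (hV : 0 < Module.finrank F V) (f : Module.End F V) (hss : f.IsSemisimple)
    (d : F) : ∃ c : Module.End F V, Commute f c ∧ LinearMap.det c = d := by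
  classical
  haveI : Nontrivial V := Module.finrank_pos_iff.mp hV
  obtain ⟨g, hg, hgd⟩ := WfDvdMonoid.exists_irreducible_factor
    (minpoly.not_isUnit F f) (minpoly.ne_zero_of_finite F f)
  haveI : Fact (Irreducible g) := ⟨hg⟩
  obtain ⟨v, hv, hv0⟩ : ∃ v, aeval f g v = 0 ∧ v ≠ 0 := by
    by_contra hcon
    push Not at hcon
    have hu : IsUnit (aeval f g) := by
      rw [LinearMap.isUnit_iff_ker_eq_bot, LinearMap.ker_eq_bot']
      exact hcon
    obtain ⟨r, hr⟩ := hgd
    have h0 := minpoly.aeval F f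
    rw [hr, map_mul, hu.mul_right_eq_zero] at h0
    have hr0 : r ≠ 0 := fun h => minpoly.ne_zero_of_finite F f (by rw [hr, h, mul_zero])
    have hdeg := minpoly.degree_le_of_ne_zero F f hr0 h0
    rw [hr, degree_mul] at hdeg
    have hgpos := Polynomial.degree_pos_of_irreducible hg
    rw [Polynomial.degree_eq_natDegree hg.ne_zero, Polynomial.degree_eq_natDegree hr0] at hdeg
    rw [Polynomial.degree_eq_natDegree hg.ne_zero] at hgpos
    norm_cast at hdeg hgpos
    omega
  let ψ : F[X] →ₗ[F[X]] Module.AEval' f := LinearMap.toSpanSingleton _ _ (Module.AEval'.of f v)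
  have hψ : Ideal.span {g} ≤ LinearMap.ker ψ := by
    rw [Ideal.span_le, Set.singleton_subset_iff]
    show ψ g = 0
    apply (Module.AEval'.of f).symm.injective
    simpa [ψ] using hv
  let φ₀ : (F[X] ⧸ Ideal.span {g}) →ₗ[F[X]] Module.AEval' f :=
    Submodule.liftQ (Ideal.span {g}) ψ hψ
  let φ : AdjoinRoot g →ₗ[F] V :=
    { toFun := fun a => (Module.AEval'.of f).symm (φ₀ a)
      map_add' := fun a b => (congrArg _ (map_add φ₀ a b)).trans (map_add _ _ _)
      map_smul' := fun r a => (congrArg _ ((φ₀.restrictScalars F).map_smul r a)).trans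
        (map_smul _ _ _) }
  have hφmk : ∀ p : F[X], φ (AdjoinRoot.mk g p) = aeval f p v := by
    intro p
    have : φ₀ (AdjoinRoot.mk g p) = p • Module.AEval'.of f v := rfl
    show (Module.AEval'.of f).symm (φ₀ (AdjoinRoot.mk g p)) = _
    rw [this]
    simp
  have hφroot : ∀ a, φ (AdjoinRoot.root g * a) = f (φ a) := by
    intro a
    induction a using AdjoinRoot.induction_on with
    | ih p => rw [← AdjoinRoot.mk_X, ← map_mul, hφmk, hφmk, map_mul, aeval_X]; rfl
  have hφinj : Function.Injective φ := by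
    rw [← LinearMap.ker_eq_bot, LinearMap.ker_eq_bot']
    intro a ha
    by_contra hne
    obtain ⟨p, rfl⟩ := AdjoinRoot.mk_surjective a
    obtain ⟨b, hb⟩ := AdjoinRoot.mk_surjective (AdjoinRoot.mk g p)⁻¹
    apply hv0
    rw [hφmk] at ha
    have h1 : φ (AdjoinRoot.mk g (b * p)) = 0 := by rw [hφmk, map_mul]; simp [ha]
    rw [map_mul, hb, inv_mul_cancel₀ hne, ← map_one (AdjoinRoot.mk g), hφmk] at h1
    simpa using h1
  let W : Submodule F V := LinearMap.range φ
  have hWinv : W ∈ f.invtSubmodule := by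
    rintro _ ⟨a, rfl⟩
    exact ⟨AdjoinRoot.root g * a, hφroot a⟩
  obtain ⟨W', hW', hc⟩ := Module.End.isSemisimple_iff.mp hss W hWinv
  haveI : FiniteDimensional F (AdjoinRoot g) := (AdjoinRoot.powerBasis hg.ne_zero).finite
  haveI : Finite (AdjoinRoot g) := Module.finite_of_finite F
  obtain ⟨a, ha⟩ := FiniteField.norm_surjective F (AdjoinRoot g) d
  let e : (AdjoinRoot g × W') ≃ₗ[F] V :=
    ((LinearEquiv.ofInjective φ hφinj).prodCongr (LinearEquiv.refl F W')).trans
      (Submodule.prodEquivOfIsCompl W W' hc)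
  have he : ∀ x y, e (x, y) = φ x + (y : V) := fun x y => by
    simp [e, LinearEquiv.prodCongr_apply]
  let c₀ : Module.End F (AdjoinRoot g × W') :=
    (LinearMap.mulLeft F a).prodMap LinearMap.id
  refine ⟨e.toLinearMap ∘ₗ c₀ ∘ₗ e.symm.toLinearMap, ?_, ?_⟩
  · apply LinearMap.ext
    intro z
    obtain ⟨⟨x, y⟩, rfl⟩ := e.surjective z
    have hfy : f (y : V) ∈ W' := hW' y.2
    have h1 : f (e (x, y)) = e (AdjoinRoot.root g * x, ⟨f y, hfy⟩) := by
      rw [he, he, map_add, hφroot]
    simp only [Module.End.mul_apply, LinearMap.comp_apply, LinearEquiv.coe_coe,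
      LinearEquiv.symm_apply_apply, h1]
    show f (e (a * x, y)) = e (a * (AdjoinRoot.root g * x), ⟨f y, hfy⟩)
    rw [he, he, map_add, ← hφroot, mul_left_comm]
  · rw [LinearMap.det_conj, LinearMap.det_prodMap, LinearMap.det_id, mul_one]
    exact ha

/-- In GL_n over a finite field of characteristic p, the conjugacy class of a semisimple element (an element of order prime to p) under the special linear group is its whole GL-conjugacy class: for every such x and every invertible g there is h of determinant one with h x h⁻¹ = g x g⁻¹. -/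
theorem result {F : Type*} [Field F] [Fintype F] {p : ℕ} [Fact p.Prime] [CharP F p] {n : ℕ} (x g : GL (Fin n) F) (hx : (orderOf x).Coprime p) : ∃ h : GL (Fin n) F, (h : Matrix (Fin n) (Fin n) F).det = 1 ∧ h * x * h⁻¹ = g * x * g⁻¹ := by
  classical
  rcases Nat.eq_zero_or_pos n with rfl | hn
  · exact ⟨g, Matrix.det_isEmpty, rfl⟩
  let f : Module.End F (Fin n → F) := Matrix.toLinAlgEquiv' (x : Matrix (Fin n) (Fin n) F)
  have hss : f.IsSemisimple := by
    refine Module.End.isSemisimple_of_squarefree_aeval_eq_zero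
      (p := (Polynomial.X : Polynomial F) ^ orderOf x - 1) ?_ ?_
    · refine (Polynomial.X_pow_sub_one_separable_iff.mpr ?_).squarefree
      intro h
      rw [CharP.cast_eq_zero_iff F p] at h
      exact (Fact.out : p.Prime).ne_one (Nat.Coprime.eq_one_of_dvd hx.symm h)
    · simp only [f, map_sub, map_pow, Polynomial.aeval_X, map_one]
      rw [← map_pow, ← Units.val_pow_eq_pow_val, pow_orderOf_eq_one, Units.val_one, map_one, sub_self]
  have hdg : (g : Matrix (Fin n) (Fin n) F).det ≠ 0 :=
    ((Matrix.isUnit_iff_isUnit_det _).mp g.isUnit).ne_zero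
  obtain ⟨c, hc, hdet⟩ := exists_commute_det (by rw [Module.finrank_fin_fun]; exact hn) f hss
    ((g : Matrix (Fin n) (Fin n) F).det)⁻¹
  set C := Matrix.toLinAlgEquiv'.symm c with hC
  have hCdet : C.det = ((g : Matrix (Fin n) (Fin n) F).det)⁻¹ := by
    rw [← hdet, ← LinearMap.det_toMatrix' c]
    rfl
  have hCu : IsUnit C := by
    rw [Matrix.isUnit_iff_isUnit_det, hCdet]
    exact isUnit_iff_ne_zero.mpr (inv_ne_zero hdg)
  have hcx : Commute x hCu.unit := by
    apply Units.ext
    show (x : Matrix (Fin n) (Fin n) F) * C = C * x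
    apply Matrix.toLinAlgEquiv'.injective
    rw [map_mul, map_mul, hC, AlgEquiv.apply_symm_apply]
    exact hc.eq
  refine ⟨g * hCu.unit, ?_, ?_⟩
  · rw [Units.val_mul, Matrix.det_mul, IsUnit.unit_spec, hCdet, mul_inv_cancel₀ hdg]
  · have : hCu.unit * x * hCu.unit⁻¹ = x := by rw [← hcx.eq, mul_inv_cancel_right]
    calc g * hCu.unit * x * (g * hCu.unit)⁻¹ = g * (hCu.unit * x * hCu.unit⁻¹) * g⁻¹ := by group
      _ = _ := by rw [this]

end Cfsg.Agent.S2569
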