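import Cfsg.Statements.S2570
import Cfsg.Agent.EqLemmas
import Cfsg.Agent.Lib.Jordan.Classes

set_option autoImplicit false
open Cfsg

namespace Cfsg.Agent.S2570

/-- Number of conjugacy classes of elements of order p in GL_n over a finite field of characteristic p: they correspond to the Jordan types, that is, to the partitions of n with all parts at most p other than the partition into ones, so there are (number of partitions of n with parts ≤ p) − 1 of them. -/
theorem result {F : Type*} [Field F] [Fintype F] {p : ℕ} [Fact p.Prime] [CharP F p] (n : ℕ) : Nat.card {C : ConjClasses (GL (Fin n) F) // ∃ g : GL (Fin n) F, ConjClasses.mk g = C ∧ orderOf g = p} = (Finset.univ.filter (fun μ : Nat.Partition n => ∀ a ∈ μ.parts, a ≤ p)).card - 1 := by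
  classical
  have hiff : ∀ g : GL (Fin n) F, g ^ p = 1 ↔ ((g : Matrix (Fin n) (Fin n) F) - 1) ^ p = 0 := by
    intro g
    rcases Nat.eq_zero_or_pos n with rfl | hn
    · exact iff_of_true (Subsingleton.elim _ _) (Subsingleton.elim _ _)
    haveI : Nonempty (Fin n) := ⟨⟨0, hn⟩⟩
    haveI : ExpChar (Matrix (Fin n) (Fin n) F) p := ExpChar.prime Fact.out
    rw [sub_pow_expChar_of_commute p (Commute.one_right _), one_pow, sub_eq_zero, ← Units.val_pow_eq_pow_val, Units.val_eq_one]
  let A : Set (ConjClasses (GL (Fin n) F)) :=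
    {C | ∃ g : GL (Fin n) F, ConjClasses.mk g = C ∧ ((g : Matrix (Fin n) (Fin n) F) - 1) ^ p = 0}
  have hset : {C : ConjClasses (GL (Fin n) F) | ∃ g : GL (Fin n) F, ConjClasses.mk g = C ∧ orderOf g = p} = A \ {1} := by
    ext C
    constructor
    · rintro ⟨g, rfl, hg⟩
      refine ⟨⟨g, rfl, (hiff g).mp (by rw [← hg]; exact pow_orderOf_eq_one g)⟩, fun h1 => ?_⟩
      rw [Set.mem_singleton_iff, ConjClasses.one_eq_mk_one, ConjClasses.mk_eq_mk_iff_isConj, isConj_one_left] at h1
      rw [h1, orderOf_one] at hg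
      exact (Fact.out : p.Prime).ne_one hg.symm
    · rintro ⟨⟨g, rfl, hg⟩, hne⟩
      exact ⟨g, rfl, orderOf_eq_prime ((hiff g).mpr hg) fun h1 => hne (by rw [h1]; rfl)⟩
  have h1 : (1 : ConjClasses (GL (Fin n) F)) ∈ A := ⟨1, rfl, by rw [Units.val_one, sub_self, zero_pow (Fact.out : p.Prime).ne_zero]⟩
  show Nat.card ({C : ConjClasses (GL (Fin n) F) | ∃ g : GL (Fin n) F, ConjClasses.mk g = C ∧ orderOf g = p} : Set _) = _
  rw [hset, Nat.card_coe_set_eq, Set.ncard_sdiff_singleton_of_mem h1, ← Nat.card_coe_set_eq]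
  congr 1
  exact Jordan.card_classes (F := F) (n := n) p

end Cfsg.Agent.S2570
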