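import Cfsg.Statements.S2571
import Cfsg.Agent.EqLemmas
import Cfsg.Agent.S2573

set_option autoImplicit false
open Cfsg

namespace Cfsg.Agent.S2571

theorem mulVec_pow_comm {F : Type*} [Field F] {n : ℕ} (N g : Matrix (Fin n) (Fin n) F)
    (h : Commute N g) (k : ℕ) (v : Fin n → F) :
    (N ^ k).mulVec (g.mulVec v) = g.mulVec ((N ^ k).mulVec v) := by
  rw [Matrix.mulVec_mulVec, Matrix.mulVec_mulVec, (h.pow_left k).eq]

/-- Centraliser of a regular unipotent element in GL_n(q): if u is an invertible n × n matrix over the field with q elements, n ≥ 1, with (u − 1)^n = 0 and rank(u − 1) = n − 1 (a single unipotent Jordan block), then its centraliser in GL_n(q) has order (q − 1) q^(n−1). -/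
theorem result {F : Type*} [Field F] [Fintype F] {q n : ℕ} (hF : Fintype.card F = q) (hn : 1 ≤ n) (u : GL (Fin n) F) (hnil : ((u : Matrix (Fin n) (Fin n) F) - 1) ^ n = 0) (hreg : ((u : Matrix (Fin n) (Fin n) F) - 1).rank = n - 1) : Nat.card ↥(Subgroup.centralizer ({u} : Set (GL (Fin n) F))) = (q - 1) * q ^ (n - 1) := by
  classical
  set N : Matrix (Fin n) (Fin n) F := (u : Matrix (Fin n) (Fin n) F) - 1 with hN
  let f : Module.End F (Fin n → F) := N.mulVecLin
  have hfp : ∀ k v, (f ^ k) v = (N ^ k).mulVec v := fun k v => by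
    rw [show f = N.mulVecLin from rfl, ← S2573.mulVecLin_pow]; rfl
  have hnilf : IsNilpotent f := ⟨n, LinearMap.ext fun v => by simp [hfp, hnil]⟩
  have hker := S2573.ker_le_one N (Fintype.card_fin n) hreg
  set H := LinearMap.ker (f ^ (n - 1)) with hH
  have hHle : Module.finrank F H ≤ n - 1 := S2573.finrank_ker_pow_le f hker _
  have hHne : H ≠ ⊤ := by
    intro h
    rw [h, finrank_top, Module.finrank_fin_fun] at hHle
    omega
  obtain ⟨e, he⟩ : ∃ e, e ∉ H := by
    by_contra hcon
    push Not at hcon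
    exact hHne (Submodule.eq_top_iff'.mpr hcon)
  let Φ : (Fin n → F) →ₗ[F] (Fin n → F) :=
    { toFun := fun c => ∑ i : Fin n, c i • (N ^ (i : ℕ)).mulVec e
      map_add' := fun c d => by simp [add_smul, Finset.sum_add_distrib]
      map_smul' := fun a c => by simp [Finset.smul_sum, smul_smul] }
  have hΦ : LinearMap.range Φ = ⊤ := by
    set W := LinearMap.range Φ
    have hgen : ∀ i : Fin n, (N ^ (i : ℕ)).mulVec e ∈ W := fun i => ⟨Pi.single i 1, by
      simp [Φ, Pi.single_apply]⟩
    have hinv : ∀ v ∈ W, f v ∈ W := by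
      rintro _ ⟨c, rfl⟩
      have : f (Φ c) = ∑ i : Fin n, c i • (N ^ ((i : ℕ) + 1)).mulVec e := by
        simp [f, Φ, Matrix.mulVec_sum, Matrix.mulVec_smul, Matrix.mulVec_mulVec, ← pow_succ']
      rw [this]
      refine Submodule.sum_mem _ fun i _ => Submodule.smul_mem _ _ ?_
      rcases Nat.lt_or_ge ((i : ℕ) + 1) n with h | h
      · exact hgen ⟨_, h⟩
      · rw [show (i : ℕ) + 1 = n by omega, hnil, Matrix.zero_mulVec]
        exact W.zero_mem
    have hW := S2573.invariant_eq_ker_pow f hnilf hker W hinv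
    have heW : e ∈ W := by simpa using hgen ⟨0, hn⟩
    apply Submodule.eq_top_of_finrank_eq
    rw [Module.finrank_fin_fun]
    apply le_antisymm ((Submodule.finrank_le W).trans_eq (Module.finrank_fin_fun F))
    by_contra hlt
    push Not at hlt
    apply he
    rw [hW, LinearMap.mem_ker] at heW
    rw [hH, LinearMap.mem_ker]
    obtain ⟨j, hj⟩ := Nat.exists_eq_add_of_le (show Module.finrank F W ≤ n - 1 by omega)
    rw [hj, add_comm, pow_add, Module.End.mul_apply, heW, map_zero]
  have hHeq : Module.finrank F H = n - 1 := by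
    refine le_antisymm hHle ?_
    have h1 := LinearMap.finrank_range_add_finrank_ker (f ^ (n - 1))
    rw [Module.finrank_fin_fun] at h1
    have h2 : LinearMap.range (f ^ (n - 1)) ≤ LinearMap.ker f := by
      rintro _ ⟨v, rfl⟩
      rw [LinearMap.mem_ker, ← Module.End.mul_apply, ← pow_succ', show n - 1 + 1 = n by omega,
        hfp, hnil, Matrix.zero_mulVec]
    have h3 := Submodule.finrank_mono h2
    have h4 : Module.finrank F (LinearMap.ker f) ≤ 1 := hker
    rw [← hH] at h1
    omega
  have hcomm : ∀ g : GL (Fin n) F, g ∈ Subgroup.centralizer ({u} : Set (GL (Fin n) F)) ↔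
      Commute N (g : Matrix (Fin n) (Fin n) F) := by
    intro g
    rw [Subgroup.mem_centralizer_singleton_iff, hN]
    constructor
    · intro h
      exact (Commute.sub_left (congrArg Units.val h.symm) (Commute.one_left _) : _)
    · intro h
      apply Units.ext
      have h2 := h.add_left (Commute.one_left (g : Matrix (Fin n) (Fin n) F))
      rw [sub_add_cancel] at h2
      exact h2.symm.eq
  let T : ↥(Subgroup.centralizer ({u} : Set (GL (Fin n) F))) → {v : Fin n → F // v ∉ H} :=
    fun g => ⟨((g : GL (Fin n) F) : Matrix (Fin n) (Fin n) F).mulVec e, by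
      intro hmem
      rw [hH, LinearMap.mem_ker, hfp, mulVec_pow_comm _ _ ((hcomm _).mp g.2)] at hmem
      apply he
      rw [hH, LinearMap.mem_ker, hfp]
      apply Matrix.mulVec_injective_of_isUnit (Units.isUnit (g : GL (Fin n) F))
      rw [hmem, Matrix.mulVec_zero]⟩
  have hTinj : Function.Injective T := by
    intro g g' h
    have h0 : ((g : GL (Fin n) F) : Matrix (Fin n) (Fin n) F).mulVec e
        = ((g' : GL (Fin n) F) : Matrix (Fin n) (Fin n) F).mulVec e := congrArg Subtype.val h
    apply Subtype.ext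
    apply Units.ext
    apply Matrix.ext_of_mulVec_single
    intro i
    have hi : Pi.single i (1 : F) ∈ LinearMap.range Φ := by rw [hΦ]; trivial
    obtain ⟨c, hc⟩ := hi
    rw [← hc]
    simp only [Φ, LinearMap.coe_mk, AddHom.coe_mk, Matrix.mulVec_sum, Matrix.mulVec_smul]
    refine Finset.sum_congr rfl fun j _ => ?_
    rw [← mulVec_pow_comm _ _ ((hcomm _).mp g.2), ← mulVec_pow_comm _ _ ((hcomm _).mp g'.2), h0]
  have hTsurj : Function.Surjective T := by
    rintro ⟨v, hv⟩
    obtain ⟨c, hc⟩ : v ∈ LinearMap.range Φ := by rw [hΦ]; trivial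
    set A : Matrix (Fin n) (Fin n) F := ∑ i : Fin n, c i • N ^ (i : ℕ) with hA
    have hAe : A.mulVec e = v := by
      rw [hA, ← hc]
      simp [Φ, Matrix.sum_mulVec, Matrix.smul_mulVec]
    have hAN : Commute N A :=
      Commute.sum_right _ _ _ fun i _ => ((Commute.refl N).pow_right _).smul_right _
    have hAu : IsUnit A := by
      rw [← Matrix.mulVec_injective_iff_isUnit]
      show Function.Injective A.mulVecLin
      rw [← LinearMap.ker_eq_bot]
      by_contra hK
      have hinv : ∀ x ∈ LinearMap.ker A.mulVecLin, f x ∈ LinearMap.ker A.mulVecLin := by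
        intro x hx
        rw [LinearMap.mem_ker, Matrix.mulVecLin_apply] at hx ⊢
        have := mulVec_pow_comm N A hAN 1 x
        rw [pow_one] at this
        show A.mulVec (N.mulVec x) = 0
        rw [← this, hx, Matrix.mulVec_zero]
      have hKeq := S2573.invariant_eq_ker_pow f hnilf hker _ hinv
      have hd : Module.finrank F (LinearMap.ker A.mulVecLin) ≠ 0 := fun h0 =>
        hK (Submodule.finrank_eq_zero.mp h0)
      have hmem : (N ^ (n - 1)).mulVec e ∈ LinearMap.ker A.mulVecLin := by
        obtain ⟨d, hd'⟩ := Nat.exists_eq_succ_of_ne_zero hd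
        rw [hKeq, hd', LinearMap.mem_ker, hfp, Matrix.mulVec_mulVec, ← pow_add,
          show d.succ + (n - 1) = n + d by omega, pow_add, hnil, zero_mul, Matrix.zero_mulVec]
      rw [LinearMap.mem_ker, Matrix.mulVecLin_apply, ← mulVec_pow_comm N A hAN, hAe] at hmem
      apply hv
      rw [hH, LinearMap.mem_ker, hfp, hmem]
    exact ⟨⟨hAu.unit, (hcomm _).mpr hAN⟩, Subtype.ext hAe⟩
  rw [Nat.card_congr (Equiv.ofBijective T ⟨hTinj, hTsurj⟩), Nat.card_eq_fintype_card,
    Fintype.card_subtype_compl, Fintype.card_fun, Fintype.card_fin, hF]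
  have hHc : Fintype.card {v : Fin n → F // v ∈ H} = q ^ (n - 1) := by
    have := Module.card_eq_pow_finrank (K := F) (V := H)
    rw [hHeq, hF] at this
    exact (Fintype.card_congr (Equiv.refl _)).trans this
  rw [hHc]
  conv_lhs => rw [show n = n - 1 + 1 by omega, pow_succ']
  rw [Nat.add_sub_cancel, Nat.sub_one_mul]

end Cfsg.Agent.S2571
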