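import Cfsg.Statements.S2572
import Cfsg.Agent.EqLemmas
import Cfsg.Agent.Lib.TransvConj.Basic

set_option autoImplicit false
open Cfsg

namespace Cfsg.Agent.S2572

/-- Centraliser of a transvection in GL_n(q), n ≥ 2: if t − 1 has rank one and square zero, the centraliser of t in GL_n(q) has order q^(2n−3) (q − 1) |GL_(n−2)(q)| (a group of order q^(2n−3) extended by GL_1(q) × GL_(n−2)(q)). -/
theorem result {F : Type*} [Field F] [Fintype F] {q n : ℕ} (hF : Fintype.card F = q) (hn : 2 ≤ n) (t : GL (Fin n) F) (ht : Cfsg.IsTransvection (t : Matrix (Fin n) (Fin n) F)) : Nat.card ↥(Subgroup.centralizer ({t} : Set (GL (Fin n) F))) = q ^ (2 * n - 3) * (q - 1) * ∏ i : Fin (n - 2), (q ^ (n - 2) - q ^ (i : ℕ)) := by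
  classical
  obtain ⟨k, rfl⟩ : ∃ k, n = k + 2 := ⟨n - 2, by omega⟩
  set N₀ : Matrix (Fin (k + 2)) (Fin (k + 2)) F := (t : Matrix (Fin (k + 2)) (Fin (k + 2)) F) - 1
  have hq2 : 2 ≤ q := hF ▸ Fintype.one_lt_card
  -- the orbit
  let Orb := {N : Matrix (Fin (k + 2)) (Fin (k + 2)) F // N.rank = 1 ∧ N * N = 0}
  let T : GL (Fin (k + 2)) F → Orb := fun g =>
    ⟨(g : Matrix (Fin (k + 2)) (Fin (k + 2)) F) * N₀ * ((g⁻¹ : GL (Fin (k + 2)) F) : Matrix (Fin (k + 2)) (Fin (k + 2)) F), by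
      refine ⟨?_, ?_⟩
      · rw [Matrix.rank_mul_eq_left_of_isUnit_det _ _ ((Matrix.isUnit_iff_isUnit_det _).mp (Units.isUnit _)),
          Matrix.rank_mul_eq_right_of_isUnit_det _ _ ((Matrix.isUnit_iff_isUnit_det _).mp (Units.isUnit _))]
        exact ht.1
      · calc _ = (g : Matrix (Fin (k + 2)) (Fin (k + 2)) F) * (N₀ * (((g⁻¹ : GL (Fin (k + 2)) F) : Matrix (Fin (k + 2)) (Fin (k + 2)) F) * (g : Matrix (Fin (k + 2)) (Fin (k + 2)) F)) * N₀) *
              ((g⁻¹ : GL (Fin (k + 2)) F) : Matrix (Fin (k + 2)) (Fin (k + 2)) F) := by simp only [mul_assoc]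
          _ = _ := by rw [Units.inv_mul, mul_one, ht.2, mul_zero, zero_mul]⟩
  have hTsurj : Function.Surjective T := by
    rintro ⟨N, hN1, hN2⟩
    obtain ⟨g, hg⟩ := TransvConj.exists_gl_conj N₀ N ht.1 ht.2 hN1 hN2
    exact ⟨g, Subtype.ext (by simp only [T]; rw [hg, mul_assoc, Units.mul_inv, mul_one])⟩
  have hfib : ∀ N : Orb, Nat.card {g // T g = N}
      = Nat.card ↥(Subgroup.centralizer ({t} : Set (GL (Fin (k + 2)) F))) := by
    intro N
    obtain ⟨g₀, rfl⟩ := hTsurj N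
    have hiff : ∀ g, T g = T g₀ ↔ g₀⁻¹ * g ∈ Subgroup.centralizer ({t} : Set (GL (Fin (k + 2)) F)) := by
      intro g
      rw [Subgroup.mem_centralizer_singleton_iff, Subtype.ext_iff]
      have h1 : ∀ g : GL (Fin (k + 2)) F,
          (g : Matrix (Fin (k + 2)) (Fin (k + 2)) F) * N₀ * ((g⁻¹ : GL (Fin (k + 2)) F) : Matrix (Fin (k + 2)) (Fin (k + 2)) F)
            = ((g * t * g⁻¹ : GL (Fin (k + 2)) F) : Matrix (Fin (k + 2)) (Fin (k + 2)) F) - 1 := by
        intro g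
        simp only [N₀, mul_sub, sub_mul, Units.val_mul, mul_one, Units.mul_inv]
      simp only [T, h1, sub_left_inj, Units.val_inj]
      constructor
      · intro h
        calc g₀⁻¹ * g * t = g₀⁻¹ * (g * t * g⁻¹) * g := by group
          _ = _ := by rw [h]; group
      · intro h
        calc g * t * g⁻¹ = g₀ * (g₀⁻¹ * g * t) * g⁻¹ := by group
          _ = _ := by rw [h]; group
    refine Nat.card_congr ⟨fun g => ⟨g₀⁻¹ * g.1, (hiff g.1).mp g.2⟩,
      fun c => ⟨g₀ * c.1, (hiff _).mpr (by simp)⟩, fun g => by simp, fun c => by simp⟩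
  have h1 : Nat.card (GL (Fin (k + 2)) F)
      = Nat.card Orb * Nat.card ↥(Subgroup.centralizer ({t} : Set (GL (Fin (k + 2)) F))) := by
    rw [← Nat.card_congr (Equiv.sigmaFiberEquiv T), Nat.card_sigma, Finset.sum_congr rfl (fun N _ => hfib N),
      Finset.sum_const, Finset.card_univ, smul_eq_mul, Nat.card_eq_fintype_card (α := Orb)]
  -- pairs
  let P := Σ v : {v : Fin (k + 2) → F // v ≠ 0}, {φ : Fin (k + 2) → F // φ ⬝ᵥ v.1 = 0 ∧ φ ≠ 0}
  have hPcard : Nat.card P = (q ^ (k + 2) - 1) * (q ^ (k + 1) - 1) := by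
    have hv : ∀ v : {v : Fin (k + 2) → F // v ≠ 0},
        Nat.card {φ : Fin (k + 2) → F // φ ⬝ᵥ v.1 = 0 ∧ φ ≠ 0} = q ^ (k + 1) - 1 := by
      rintro ⟨v, hv⟩
      let χ : (Fin (k + 2) → F) →ₗ[F] F :=
        { toFun := fun φ => φ ⬝ᵥ v
          map_add' := fun a b => add_dotProduct a b v
          map_smul' := fun c a => by simp [smul_dotProduct] }
      have hK : Module.finrank F (LinearMap.ker χ) = k + 1 := by
        have h := LinearMap.finrank_range_add_finrank_ker χ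
        have h' : LinearMap.range χ = ⊤ := by
          obtain ⟨j, hj⟩ := Function.ne_iff.mp hv
          refine LinearMap.range_eq_top.mpr fun c => ⟨Pi.single j (c / v j), ?_⟩
          simp only [χ, LinearMap.coe_mk, AddHom.coe_mk, single_dotProduct]
          exact div_mul_cancel₀ c hj
        rw [h', finrank_top, Module.finrank_self, Module.finrank_fin_fun] at h
        omega
      have e : {φ : Fin (k + 2) → F // φ ⬝ᵥ v = 0 ∧ φ ≠ 0} ≃ {x : LinearMap.ker χ // x ≠ 0} :=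
        ⟨fun x => ⟨⟨x.1, x.2.1⟩, fun h => x.2.2 (congrArg Subtype.val h)⟩,
          fun x => ⟨x.1.1, x.1.2, fun h => x.2 (Subtype.ext h)⟩, fun _ => rfl, fun _ => rfl⟩
      rw [Nat.card_congr e, Nat.card_eq_fintype_card, Fintype.card_subtype_compl,
        Fintype.card_subtype_eq, Module.card_eq_pow_finrank (K := F), hK, hF]
    rw [Nat.card_sigma, Finset.sum_congr rfl (fun v _ => hv v), Finset.sum_const, Finset.card_univ,
      smul_eq_mul, Fintype.card_subtype_compl, Fintype.card_subtype_eq, Fintype.card_fun,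
      Fintype.card_fin, hF]
  have hrep : ∀ N : Orb, ∃ v φ : Fin (k + 2) → F, v ≠ 0 ∧ φ ≠ 0 ∧ φ ⬝ᵥ v = 0 ∧
      (N.1 : Matrix (Fin (k + 2)) (Fin (k + 2)) F) = Matrix.vecMulVec v φ := fun N => TransvConj.vecMulVec_form N.1 N.2.1 N.2.2
  choose vN φN hvN hφN hdN hN using hrep
  let E : Orb × Fˣ → P := fun x =>
    ⟨⟨(x.2 : F) • vN x.1, smul_ne_zero x.2.ne_zero (hvN x.1)⟩,
      ⟨(↑(x.2⁻¹) : F) • φN x.1, by simp [hdN], smul_ne_zero (Units.ne_zero _) (hφN x.1)⟩⟩
  have hE : Function.Bijective E := by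
    constructor
    · rintro ⟨N, c⟩ ⟨N', c'⟩ h
      have hp := congrArg (fun p : P => Matrix.vecMulVec p.1.1 p.2.1) h
      simp only [E, Matrix.smul_vecMulVec, Matrix.vecMulVec_smul, smul_smul, Units.mul_inv,
        Units.inv_mul, one_smul, ← hN] at hp
      have hNN : N = N' := Subtype.ext hp
      subst hNN
      have hc := congrArg (fun p : P => p.1.1) h
      simp only [E] at hc
      have := smul_left_injective F (hvN N) hc
      rw [Units.ext this]
    · rintro ⟨⟨v, hv⟩, φ, hd, hφ⟩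
      have hN1 : (Matrix.vecMulVec v φ).rank = 1 ∧ Matrix.vecMulVec v φ * Matrix.vecMulVec v φ = 0 := by
        refine ⟨le_antisymm (Matrix.rank_vecMulVec_le _ _) ?_, ?_⟩
        · refine Nat.one_le_iff_ne_zero.mpr fun h0 => ?_
          replace h0 : Matrix.vecMulVec v φ = 0 := by
            have h1 : LinearMap.range (Matrix.vecMulVec v φ).mulVecLin = ⊥ := Submodule.finrank_eq_zero.mp h0
            rw [LinearMap.range_eq_bot] at h1
            exact Matrix.ext_of_mulVec_single fun i => by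
              rw [Matrix.zero_mulVec]; exact LinearMap.congr_fun h1 _
          obtain ⟨i, hi⟩ := Function.ne_iff.mp hv
          obtain ⟨j, hj⟩ := Function.ne_iff.mp hφ
          exact mul_ne_zero hi hj (congrFun (congrFun h0 i) j)
        · rw [Matrix.vecMulVec_mul_vecMulVec, hd]
          simp
      obtain ⟨c, hc1, hc2⟩ := TransvConj.vecMulVec_unique (hvN ⟨_, hN1⟩) hv (hφN ⟨_, hN1⟩)
        (hN ⟨_, hN1⟩).symm
      refine ⟨(⟨_, hN1⟩, c), ?_⟩
      refine Sigma.ext (Subtype.ext hc1.symm) ?_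
      refine (Subtype.heq_iff_coe_eq ?_).mpr hc2.symm
      intro ψ
      show (ψ ⬝ᵥ ((c : F) • vN ⟨_, hN1⟩) = 0 ∧ ψ ≠ 0) ↔ _
      rw [← hc1]
  have h2 : Nat.card Orb * (q - 1) = (q ^ (k + 2) - 1) * (q ^ (k + 1) - 1) := by
    rw [← hPcard, ← Nat.card_congr (Equiv.ofBijective E hE), Nat.card_prod,
      Nat.card_eq_fintype_card (α := Fˣ), Fintype.card_units, hF]
  have hO : 0 < Nat.card Orb := Nat.card_pos_iff.mpr ⟨⟨⟨N₀, ht.1, ht.2⟩⟩, inferInstance⟩
  have hGL : Nat.card (GL (Fin (k + 2)) F)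
      = (q ^ (k + 2) - 1) * (q * (q ^ (k + 1) - 1)) * (q ^ (2 * k) * ∏ i : Fin k, (q ^ k - q ^ (i : ℕ))) := by
    rw [Matrix.card_GL_field, hF, Fin.prod_univ_succ, Fin.prod_univ_succ]
    simp only [Fin.val_zero, pow_zero, Fin.succ_zero_eq_one, Fin.val_one, pow_one, Fin.val_succ]
    have e1 : q ^ (k + 2) - q = q * (q ^ (k + 1) - 1) := by
      rw [Nat.mul_sub, mul_one, ← pow_succ']
    have e2 : ∏ x : Fin k, (q ^ (k + 2) - q ^ ((x : ℕ) + 1 + 1))
        = q ^ (2 * k) * ∏ x : Fin k, (q ^ k - q ^ (x : ℕ)) := by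
      rw [pow_mul, show (q ^ 2) ^ k = ∏ _x : Fin k, q ^ 2 by simp, ← Finset.prod_mul_distrib]
      refine Finset.prod_congr rfl fun x _ => ?_
      rw [Nat.mul_sub, ← pow_add, ← pow_add, show 2 + k = k + 2 by omega,
        show 2 + (x : ℕ) = (x : ℕ) + 1 + 1 by omega]
    rw [e1, e2]; ring
  show _ = q ^ (2 * (k + 2) - 3) * (q - 1) * ∏ i : Fin k, (q ^ k - q ^ (i : ℕ))
  apply Nat.eq_of_mul_eq_mul_left hO
  rw [← h1, hGL, show 2 * (k + 2) - 3 = 2 * k + 1 by omega, pow_succ]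
  calc _ = ((q ^ (k + 2) - 1) * (q ^ (k + 1) - 1)) * (q ^ (2 * k) * q * ∏ i : Fin k, (q ^ k - q ^ (i : ℕ))) := by ring
    _ = _ := by rw [← h2]; ring

end Cfsg.Agent.S2572
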