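import Cfsg.Statements.S2585
import Cfsg.Agent.EqLemmas

set_option autoImplicit false
open Cfsg

namespace Cfsg.Agent.S2585

open Matrix

theorem sympForm_eq {F : Type*} [CommRing F] {m : ℕ} (u v : Fin m ⊕ Fin m → F) :
    Cfsg.sympForm m F u v = ∑ i, u (Sum.inr i) * v (Sum.inl i) - ∑ i, u (Sum.inl i) * v (Sum.inr i) := by
  unfold Cfsg.sympForm Matrix.J
  rw [Matrix.fromBlocks_mulVec]
  simp [dotProduct, Fintype.sum_sum_type, Function.comp_def, Matrix.neg_mulVec]
  ring

theorem sympForm_mulVec {F : Type*} [CommRing F] {m : ℕ} (A : Matrix.symplecticGroup (Fin m) F)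
    (u v : Fin m ⊕ Fin m → F) :
    Cfsg.sympForm m F ((A : Matrix _ _ F) *ᵥ u) ((A : Matrix _ _ F) *ᵥ v) = Cfsg.sympForm m F u v := by
  unfold Cfsg.sympForm
  rw [Matrix.mulVec_mulVec, Matrix.dotProduct_mulVec, Matrix.vecMul_mulVec, ← Matrix.mul_assoc,
    SymplecticGroup.mem_iff'.mp A.2, ← Matrix.dotProduct_mulVec]

/-- The bilinear form `Σ u_(inl i) v_(inr i)`. -/
def hypB (F : Type*) [CommRing F] (m : ℕ) : LinearMap.BilinMap F (Fin m ⊕ Fin m → F) F :=
  LinearMap.mk₂ F (fun u v => ∑ i, u (Sum.inl i) * v (Sum.inr i))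
    (by intros; simp [add_mul, Finset.sum_add_distrib])
    (by intros; simp [Finset.mul_sum, mul_assoc])
    (by intros; simp [mul_add, Finset.sum_add_distrib])
    (by intros; simp [Finset.mul_sum]; congr 1; funext i; ring)

/-- Over a finite field of characteristic two every element of the symplectic group is orthogonal for a suitable quadratic form: for each A in Sp_2m(F) there is a quadratic form Q on F^(2m) whose polar form is the alternating form defining Sp_2m(F) (so Q is non-degenerate) and which A preserves. Equivalently, for m ≥ 1, Sp_2m(F) is the union of the conjugates of its two orthogonal subgroups O⁺_2m(F) and O⁻_2m(F). -/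
theorem result {F : Type*} [Field F] [Fintype F] [CharP F 2] {m : ℕ} (A : Matrix.symplecticGroup (Fin m) F) : ∃ Q : QuadraticForm F (Fin m ⊕ Fin m → F), (∀ u v : Fin m ⊕ Fin m → F, QuadraticMap.polar ⇑Q u v = Cfsg.sympForm m F u v) ∧ ∀ v : Fin m ⊕ Fin m → F, Q ((A : Matrix (Fin m ⊕ Fin m) (Fin m ⊕ Fin m) F).mulVec v) = Q v := by
  classical
  haveI : Fact (Nat.Prime 2) := ⟨Nat.prime_two⟩
  set Q₀ : QuadraticForm F (Fin m ⊕ Fin m → F) := LinearMap.BilinMap.toQuadraticMap (hypB F m)
    with hQ₀
  have hpol : ∀ u v, QuadraticMap.polar ⇑Q₀ u v = Cfsg.sympForm m F u v := by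
    intro u v
    rw [hQ₀, LinearMap.BilinMap.polar_toQuadraticMap, sympForm_eq, CharTwo.sub_eq_add]
    simp only [hypB, LinearMap.mk₂_apply]
    rw [add_comm]
    congr 1
    exact Finset.sum_congr rfl fun i _ => mul_comm _ _
  set M : (Fin m ⊕ Fin m → F) →ₗ[F] (Fin m ⊕ Fin m → F) :=
    Matrix.mulVecLin (A : Matrix (Fin m ⊕ Fin m) (Fin m ⊕ Fin m) F) with hM
  let s : F → F := fun x => (frobeniusEquiv F 2).symm x
  have hs : ∀ x, s x * s x = x := fun x => by
    have := frobeniusEquiv_symm_pow_p F 2 x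
    rwa [pow_two] at this
  have hinj : ∀ x y : F, x * x = y * y → x = y := fun x y h => by
    apply (frobeniusEquiv F 2).injective
    simpa [frobeniusEquiv_apply, frobenius_def, pow_two] using h
  have hQa : ∀ u v, Q₀ (u + v) = Q₀ u + Q₀ v + Cfsg.sympForm m F u v := by
    intro u v
    rw [← hpol, QuadraticMap.polar]; ring
  have hD : ∀ u v, Q₀ (M (u + v)) + Q₀ (u + v) =
      (Q₀ (M u) + Q₀ u) + (Q₀ (M v) + Q₀ v) := by
    intro u v
    rw [map_add, hQa, hQa, hM]
    simp only [Matrix.mulVecLin_apply, sympForm_mulVec]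
    generalize Cfsg.sympForm m F u v = t
    linear_combination CharTwo.add_self_eq_zero t
  let l : (Fin m ⊕ Fin m → F) →ₗ[F] F :=
    { toFun := fun v => s (Q₀ (M v) + Q₀ v)
      map_add' := fun u v => by
        show s (Q₀ (M (u + v)) + Q₀ (u + v)) = s (Q₀ (M u) + Q₀ u) + s (Q₀ (M v) + Q₀ v)
        rw [hD]
        exact map_add (frobeniusEquiv F 2).symm _ _
      map_smul' := fun c v => by
        apply hinj
        rw [hs, RingHom.id_apply, smul_eq_mul, mul_mul_mul_comm, hs, map_smul,
          QuadraticMap.map_smul, QuadraticMap.map_smul, smul_eq_mul, smul_eq_mul]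
        ring }
  have hl : ∀ v, l v * l v = Q₀ (M v) + Q₀ v := fun v => hs _
  have hker : l ∈ (LinearMap.ker (M + LinearMap.id)).dualAnnihilator := by
    rw [Submodule.mem_dualAnnihilator]
    intro w hw
    have hw' : M w + w = 0 := hw
    have hMw : M w = w := by
      funext i
      exact CharTwo.add_eq_zero.mp (congrFun hw' i)
    apply hinj
    rw [hl, hMw, CharTwo.add_self_eq_zero, mul_zero]
  rw [← LinearMap.range_dualMap_eq_dualAnnihilator_ker] at hker
  obtain ⟨l', hl'⟩ := hker
  refine ⟨Q₀ + QuadraticMap.linMulLin l' l', fun u v => ?_, fun v => ?_⟩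
  · have hz : QuadraticMap.polar (⇑(QuadraticMap.linMulLin l' l')) u v = 0 := by
      simp only [QuadraticMap.polar, QuadraticMap.linMulLin_apply, map_add]
      linear_combination CharTwo.add_self_eq_zero (l' u * l' v)
    rw [FunLike.coe_add, QuadraticMap.polar_add, hpol, hz, add_zero]
  · have h1 : l v = l' (M v) + l' v := by
      rw [← hl']
      simp
    have h2 := hl v
    simp only [hM, Matrix.mulVecLin_apply] at h1 h2
    simp only [_root_.add_apply, QuadraticMap.add_apply, QuadraticMap.linMulLin_apply]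
    rw [h1] at h2
    set a := l' ((A : Matrix (Fin m ⊕ Fin m) (Fin m ⊕ Fin m) F) *ᵥ v)
    set b := l' v
    set x := Q₀ ((A : Matrix (Fin m ⊕ Fin m) (Fin m ⊕ Fin m) F) *ᵥ v)
    set y := Q₀ v
    linear_combination h2 + (x - a * b - b * b) * (CharTwo.two_eq_zero (R := F))

end Cfsg.Agent.S2585
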