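import Cfsg.Statements.S2574
import Cfsg.Agent.EqLemmas
import Cfsg.Agent.S2573
import Cfsg.Agent.S2585

set_option autoImplicit false
open Cfsg

namespace Cfsg.Agent.S2574

/-- A regular unipotent element of the symplectic group has totally isotropic small invariant subspaces: over a finite field, if u ∈ Sp_2m(F) satisfies (u − 1)^(2m) = 0 and rank(u − 1) = 2m − 1, and W is a u-invariant subspace with 2 dim W ≤ 2m, then the alternating form vanishes identically on W. -/
theorem result {F : Type*} [Field F] [Finite F] {m : ℕ} (u : Matrix.symplecticGroup (Fin m) F) (hnil : ((u : Matrix (Fin m ⊕ Fin m) (Fin m ⊕ Fin m) F) - 1) ^ (2 * m) = 0) (hreg : ((u : Matrix (Fin m ⊕ Fin m) (Fin m ⊕ Fin m) F) - 1).rank = 2 * m - 1) (W : Submodule F (Fin m ⊕ Fin m → F)) (hW : ∀ v ∈ W, (u : Matrix (Fin m ⊕ Fin m) (Fin m ⊕ Fin m) F).mulVec v ∈ W) (hdim : 2 * Module.finrank F W ≤ 2 * m) : ∀ v ∈ W, ∀ w ∈ W, Cfsg.sympForm m F v w = 0 := by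
  classical
  set U : Matrix (Fin m ⊕ Fin m) (Fin m ⊕ Fin m) F :=
    (u : Matrix (Fin m ⊕ Fin m) (Fin m ⊕ Fin m) F) with hU
  let J : Matrix (Fin m ⊕ Fin m) (Fin m ⊕ Fin m) F := Matrix.J (Fin m) F
  let B : LinearMap.BilinForm F (Fin m ⊕ Fin m → F) := Matrix.toBilin' J
  have hB : ∀ x y, B x y = Cfsg.sympForm m F x y := fun x y => Matrix.toBilin'_apply' J x y
  have hBn : B.Nondegenerate := by
    refine LinearMap.BilinForm.nondegenerate_toBilin'_of_det_ne_zero' J ?_
    exact (Matrix.isUnit_det_J (Fin m) F).ne_zero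
  have hBr : B.IsRefl := by
    intro x y h
    rw [hB, Cfsg.Agent.S2585.sympForm_eq] at h ⊢
    have e1 : ∑ i, y (Sum.inr i) * x (Sum.inl i) = ∑ i, x (Sum.inl i) * y (Sum.inr i) :=
      Finset.sum_congr rfl fun i _ => mul_comm _ _
    have e2 : ∑ i, y (Sum.inl i) * x (Sum.inr i) = ∑ i, x (Sum.inr i) * y (Sum.inl i) :=
      Finset.sum_congr rfl fun i _ => mul_comm _ _
    rw [e1, e2]
    linear_combination -h
  let f : Module.End F (Fin m ⊕ Fin m → F) := (U - 1).mulVecLin
  have hf : ∀ v, f v = U.mulVec v - v := fun v => by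
    simp [f, Matrix.sub_mulVec]
  have hcard : Fintype.card (Fin m ⊕ Fin m) = 2 * m := by simp [two_mul]
  have hnil' : IsNilpotent f := ⟨2 * m, by
    rw [← Cfsg.Agent.S2573.mulVecLin_pow, hnil, Matrix.mulVecLin_zero]⟩
  have hker := Cfsg.Agent.S2573.ker_le_one (U - 1) hcard hreg
  set W' := B.orthogonal W with hW'def
  have hinj : Function.Injective U.mulVec := by
    apply Matrix.mulVec_injective_of_isUnit
    exact (Matrix.isUnit_iff_isUnit_det U).mpr (SymplecticGroup.symplectic_det u.2)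
  let g : W →ₗ[F] W := U.mulVecLin.restrict hW
  have hgsurj : Function.Surjective g :=
    LinearMap.surjective_of_injective (fun a b h => Subtype.ext (hinj (congrArg Subtype.val h)))
  have hW' : ∀ v ∈ W', f v ∈ W' := by
    intro v hv
    rw [hf]
    refine W'.sub_mem ?_ hv
    rw [hW'def, LinearMap.BilinForm.mem_orthogonal_iff]
    intro w hw
    obtain ⟨⟨w', hw'⟩, he⟩ := hgsurj ⟨w, hw⟩
    have hw'' : U.mulVec w' = w := congrArg Subtype.val he
    show B w (U.mulVec v) = 0
    rw [← hw'', hB, hU, Cfsg.Agent.S2585.sympForm_mulVec, ← hB]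
    exact (LinearMap.BilinForm.mem_orthogonal_iff.mp hv) w' hw'
  have hWf : ∀ v ∈ W, f v ∈ W := fun v hv => by
    rw [hf]; exact W.sub_mem (hW v hv) hv
  have h1 := Cfsg.Agent.S2573.invariant_eq_ker_pow f hnil' hker W hWf
  have h2 := Cfsg.Agent.S2573.invariant_eq_ker_pow f hnil' hker W' hW'
  have h3 : Module.finrank F W ≤ Module.finrank F W' := by
    rw [hW'def, LinearMap.BilinForm.finrank_orthogonal hBn W, Module.finrank_pi, hcard]
    omega
  have hle : W ≤ W' := by
    rw [h1, h2]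
    intro v hv
    rw [LinearMap.mem_ker] at hv ⊢
    obtain ⟨k, hk⟩ := Nat.exists_eq_add_of_le h3
    rw [hk, add_comm, pow_add, Module.End.mul_apply, hv, map_zero]
  intro v hv w hw
  rw [← hB]
  exact (LinearMap.BilinForm.mem_orthogonal_iff.mp (hle hw)) v hv

end Cfsg.Agent.S2574
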