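import Cfsg.Statements.S2575
import Cfsg.Agent.EqLemmas

set_option autoImplicit false
open Cfsg

namespace Cfsg.Agent.S2575

/-- In a finite field, `-1` is an `n`-th power exactly when the two-part of `q - 1` exceeds that of `n`. -/
theorem neg_one_pow_iff {F : Type*} [Field F] [Fintype F] {q : ℕ} (hF : Fintype.card F = q)
    (hq : Odd q) {n : ℕ} (hn : n ≠ 0) :
    (∃ c : F, c ≠ 0 ∧ c ^ n = -1) ↔ padicValNat 2 n < padicValNat 2 (q - 1) := by
  classical
  haveI : Fact (Nat.Prime 2) := ⟨Nat.prime_two⟩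
  have h1 : (-1 : F) ≠ 1 := by
    intro h
    have h2 : ringChar F ≠ 2 := fun h2 => by
      have := FiniteField.even_card_of_char_two h2
      rw [hF] at this
      exact Nat.not_even_iff_odd.mpr hq (Nat.even_iff.mpr this)
    exact Ring.two_ne_zero h2 (by linear_combination -h)
  have hq1 : q - 1 ≠ 0 := by
    have := Fintype.one_lt_card (α := F); omega
  constructor
  · rintro ⟨c, hc, hcn⟩
    have hord := orderOf_dvd_of_pow_eq_one (FiniteField.pow_card_sub_one_eq_one c hc)
    by_contra hle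
    push Not at hle
    have h2 : c ^ (2 * n) = 1 := by rw [mul_comm, pow_mul, hcn]; simp
    rw [← orderOf_dvd_iff_pow_eq_one] at h2
    rw [hF] at hord
    apply h1
    rw [← hcn, ← orderOf_dvd_iff_pow_eq_one]
    have hg := Nat.dvd_gcd h2 hord
    refine hg.trans ?_
    obtain ⟨A, hA⟩ : 2 ^ padicValNat 2 (q - 1) ∣ n :=
      (pow_dvd_pow 2 hle).trans pow_padicValNat_dvd
    obtain ⟨B, hB⟩ := (pow_padicValNat_dvd : 2 ^ padicValNat 2 (q - 1) ∣ q - 1)
    have hBodd : ¬ 2 ∣ B := by
      rintro ⟨r, rfl⟩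
      exact pow_succ_padicValNat_not_dvd (p := 2) hq1
        ⟨r, hB.trans (by rw [pow_succ, mul_assoc])⟩
    generalize padicValNat 2 (q - 1) = v at hA hB ⊢
    rw [hA, hB, show 2 * (2 ^ v * A) = 2 ^ v * (2 * A) by ring,
      Nat.gcd_mul_left]
    refine mul_dvd_mul_left _ ?_
    have hcop : Nat.Coprime (Nat.gcd (2 * A) B) 2 :=
      Nat.Coprime.coprime_dvd_left (Nat.gcd_dvd_right _ _)
        ((Nat.Prime.coprime_iff_not_dvd Nat.prime_two).mpr hBodd).symm
    exact hcop.dvd_of_dvd_mul_left (Nat.gcd_dvd_left _ _)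
  · intro hlt
    obtain ⟨M, hM⟩ := (pow_padicValNat_dvd : 2 ^ padicValNat 2 n ∣ n)
    have hModd : Odd M := by
      rw [← Nat.not_even_iff_odd, even_iff_two_dvd]
      rintro ⟨r, rfl⟩
      exact pow_succ_padicValNat_not_dvd (p := 2) hn
        ⟨r, hM.trans (by rw [pow_succ, mul_assoc])⟩
    set k := padicValNat 2 n
    obtain ⟨r, hr⟩ : 2 ^ (k + 1) ∣ Fintype.card Fˣ := by
      rw [Fintype.card_units, hF]
      exact (pow_dvd_pow 2 hlt).trans pow_padicValNat_dvd
    obtain ⟨g, hg⟩ := IsCyclic.exists_generator (α := Fˣ)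
    have hog : orderOf g = Fintype.card Fˣ := by
      rw [← Nat.card_eq_fintype_card]; exact orderOf_eq_card_of_forall_mem_zpowers hg
    set c := g ^ r
    have hpos : 0 < Fintype.card Fˣ := Fintype.card_pos
    have hne : c ^ (2 ^ k) ≠ 1 := by
      intro h
      rw [← pow_mul, ← orderOf_dvd_iff_pow_eq_one, hog, hr] at h
      rw [hr] at hpos
      have hr0 : 0 < r := Nat.pos_of_mul_pos_left hpos
      have := Nat.le_of_dvd (by positivity) h
      rw [pow_succ] at this
      nlinarith [Nat.one_le_two_pow (n := k)]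
    have hsq : ((c ^ (2 ^ k) : Fˣ) : F) * ((c ^ (2 ^ k) : Fˣ) : F) = 1 := by
      rw [← Units.val_mul, ← pow_add, ← two_mul, ← pow_succ', ← pow_mul, mul_comm, ← hr,
        pow_card_eq_one, Units.val_one]
    refine ⟨(c : F), c.ne_zero, ?_⟩
    have hm1 : ((c ^ (2 ^ k) : Fˣ) : F) = -1 := by
      rcases mul_self_eq_one_iff.mp hsq with h | h
      · exact absurd (Units.ext h) hne
      · exact h
    rw [hM, pow_mul, ← Units.val_pow_eq_pow_val, hm1, hModd.neg_one_pow]

/-- Which diagonal involutions of PGL_n(q) lie in PSL_n(q), q odd: for the diagonal matrix t with i entries −1 and n − i entries 1, some non-zero scalar multiple of t has determinant one if and only if i is even or the 2-part of q − 1 exceeds the 2-part of n (that is, −1 is an n-th power in the field exactly in the latter case). -/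
theorem result {F : Type*} [Field F] [Fintype F] {q : ℕ} (hF : Fintype.card F = q) (hq : Odd q) {n : ℕ} (hn : 1 ≤ n) (i : ℕ) (hi : i ≤ n) : (∃ c : F, c ≠ 0 ∧ (c • Matrix.diagonal (fun j : Fin n => if (j : ℕ) < i then (-1 : F) else 1)).det = 1) ↔ (Even i ∨ padicValNat 2 n < padicValNat 2 (q - 1)) := by
  classical
  have hdet : ∀ c : F, (c • Matrix.diagonal (fun j : Fin n => if (j : ℕ) < i then (-1 : F) else 1)).det
      = c ^ n * (-1) ^ i := by
    intro c
    rw [Matrix.det_smul, Matrix.det_diagonal, Fintype.card_fin]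
    congr 1
    rw [Finset.prod_ite, Finset.prod_const, Finset.prod_const, one_pow, mul_one]
    congr 1
    rw [Fin.card_filter_val_lt, min_eq_right hi]
  simp only [hdet]
  rcases Nat.even_or_odd i with he | ho
  · exact ⟨fun _ => Or.inl he, fun _ => ⟨1, one_ne_zero, by rw [he.neg_one_pow]; simp⟩⟩
  · simp only [ho.neg_one_pow, mul_neg, mul_one, neg_eq_iff_eq_neg, Nat.not_even_iff_odd.mpr ho,
      false_or]
    exact neg_one_pow_iff hF hq (by omega)

end Cfsg.Agent.S2575
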