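import Cfsg.Statements.S2576
import Cfsg.Agent.EqLemmas
import Cfsg.Agent.S2575

set_option autoImplicit false
open Cfsg

namespace Cfsg.Agent.S2576

/-- Which involutions of PGL_2m(q) coming from a scalar of the quadratic extension field lie in PSL_2m(q), q odd: let μ generate the Sylow 2-subgroup of the multiplicative group of the field with q elements (μ has order the 2-part of q − 1) and let t be the block-diagonal matrix with m diagonal blocks [[0, 1], [μ, 0]] (so t² is the scalar μ and t is an involution modulo scalars). Then some non-zero scalar multiple of t has determinant one if and only if q ≡ 3 (mod 4) or the 2-part of q − 1 is less than the 2-part of 2m. -/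
theorem result {F : Type*} [Field F] [Fintype F] {q : ℕ} (hF : Fintype.card F = q) (hq : Odd q) {m : ℕ} (hm : 1 ≤ m) (μ : F) (hμ : orderOf μ = 2 ^ padicValNat 2 (q - 1)) : (∃ c : F, c ≠ 0 ∧ (c • Matrix.blockDiagonal (fun _ : Fin m => !![(0 : F), 1; μ, 0])).det = 1) ↔ (q % 4 = 3 ∨ padicValNat 2 (q - 1) < padicValNat 2 (2 * m)) := by
  classical
  haveI : Fact (Nat.Prime 2) := ⟨Nat.prime_two⟩
  set a := padicValNat 2 (q - 1) with ha
  set b := padicValNat 2 (2 * m) with hb
  have hb' : b = padicValNat 2 m + 1 := by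
    rw [hb, padicValNat.mul (by norm_num) (by omega), padicValNat.self one_lt_two, add_comm]
  have hq2 : 2 ≤ q := hF ▸ Fintype.one_lt_card
  have hdet : ∀ c : F, (c • Matrix.blockDiagonal (fun _ : Fin m => !![(0 : F), 1; μ, 0])).det
      = c ^ (2 * m) * (-μ) ^ m := by
    intro c
    rw [Matrix.det_smul, Matrix.det_blockDiagonal]
    simp [Matrix.det_fin_two, Fintype.card_prod]
  simp only [hdet]
  have hfour : q % 4 = 3 ↔ a = 1 := by
    have hiff : ∀ t, 2 ^ t ∣ q - 1 ↔ t ≤ a := fun t => padicValNat_dvd_iff_le (by omega)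
    have h1 := hiff 1
    have h2 := hiff 2
    norm_num at h1 h2
    obtain ⟨k, hk⟩ := hq
    omega
  have ha1 : 1 ≤ a := by
    obtain ⟨k, hk⟩ := hq
    exact (padicValNat_dvd_iff_le (by omega : q - 1 ≠ 0)).mp ⟨k, by omega⟩
  set j := 2 ^ (a - 1) + 1
  have hμh : μ ^ (2 ^ (a - 1)) = -1 := by
    have h2 : μ ^ (2 ^ (a - 1)) * μ ^ (2 ^ (a - 1)) = 1 := by
      rw [← pow_add, ← two_mul, ← pow_succ', show a - 1 + 1 = a by omega, ← hμ, pow_orderOf_eq_one]
    rcases mul_self_eq_one_iff.mp h2 with h | h
    · rw [← orderOf_dvd_iff_pow_eq_one, hμ, Nat.pow_dvd_pow_iff_le_right one_lt_two] at h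
      omega
    · exact h
  have hneg : -μ = μ ^ j := by rw [pow_succ, hμh]; simp
  have hkey : (∃ c : F, c ≠ 0 ∧ c ^ (2 * m) * (-μ) ^ m = 1) ↔ (a = 1 ∨ a < b) := by
    constructor
    · rintro ⟨c, hc, h⟩
      by_contra hcon
      push Not at hcon
      obtain ⟨hane, hba⟩ := hcon
      obtain ⟨B, hB⟩ := (pow_padicValNat_dvd : 2 ^ a ∣ q - 1)
      have hord := orderOf_dvd_of_pow_eq_one (FiniteField.pow_card_sub_one_eq_one c hc)
      rw [hF] at hord
      have hBodd : Odd B := by
        rw [← Nat.not_even_iff_odd, even_iff_two_dvd]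
        rintro ⟨r, rfl⟩
        exact pow_succ_padicValNat_not_dvd (p := 2) (n := q - 1) (by omega)
          ⟨r, hB.trans (by rw [pow_succ, mul_assoc])⟩
      obtain ⟨M, hM⟩ := (pow_padicValNat_dvd : 2 ^ padicValNat 2 m ∣ m)
      have hModd : Odd M := by
        rw [← Nat.not_even_iff_odd, even_iff_two_dvd]
        rintro ⟨r, rfl⟩
        exact pow_succ_padicValNat_not_dvd (p := 2) (n := m) (by omega)
          ⟨r, hM.trans (by rw [pow_succ, mul_assoc])⟩
      generalize padicValNat 2 m = w at hM hb'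
      set e := a - b
      have h2 := congrArg (· ^ (2 ^ e * B)) h
      simp only [mul_pow, one_pow] at h2
      have hce : (c ^ (2 * m)) ^ (2 ^ e * B) = 1 := by
        rw [← pow_mul, ← orderOf_dvd_iff_pow_eq_one]
        refine hord.trans ?_
        rw [hB, hM]
        refine ⟨M, ?_⟩
        have : 2 ^ a = 2 ^ e * 2 ^ w * 2 := by
          rw [← pow_add, ← pow_succ]; congr 1; omega
        rw [this]; ring
      rw [hce, one_mul, hneg, ← pow_mul, ← pow_mul, ← orderOf_dvd_iff_pow_eq_one, hμ] at h2
      have hjodd : Odd j := by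
        refine Even.add_one ?_
        rw [Nat.even_pow]
        exact ⟨even_two, by omega⟩
      have hodd : Odd (j * B * M) := (hjodd.mul hBodd).mul hModd
      have h3 : 2 ^ a ∣ 2 ^ (w + e) * (j * B * M) := by
        refine h2.trans (dvd_of_eq ?_)
        rw [hM, pow_add]; ring
      have h4 := (Nat.Coprime.pow_left a
        ((Nat.Prime.coprime_iff_not_dvd Nat.prime_two).mpr
          (fun hd => Nat.not_even_iff_odd.mpr hodd (even_iff_two_dvd.mpr hd)))).dvd_of_dvd_mul_right h3
      rw [Nat.pow_dvd_pow_iff_le_right one_lt_two] at h4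
      omega
    · rintro (h | h)
      · have : μ = -1 := by
          rw [h] at hμh
          simpa using hμh
        exact ⟨1, one_ne_zero, by rw [this]; simp⟩
      · refine ⟨1, one_ne_zero, ?_⟩
        rw [one_pow, one_mul, hneg, ← pow_mul, ← orderOf_dvd_iff_pow_eq_one, hμ]
        refine dvd_mul_of_dvd_right ((pow_dvd_pow 2 ?_).trans pow_padicValNat_dvd) j
        omega
  rw [hkey, hfour]

end Cfsg.Agent.S2576
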