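import Cfsg.Statements.S2577
import Cfsg.Agent.EqLemmas
import Cfsg.Agent.Lib.Semisimple.Classes

set_option autoImplicit false
open Cfsg

namespace Cfsg.Agent.S2577
open Polynomial Matrix

variable {F : Type*} [Field F] [Fintype F] {n : ℕ}

/-- Scalars. -/
noncomputable def sc (n : ℕ) : Fˣ →* GL (Fin n) F := Matrix.GeneralLinearGroup.scalar (Fin n)

omit [Fintype F] in
theorem coe_sc (c : Fˣ) : ((sc n c : GL (Fin n) F) : Matrix (Fin n) (Fin n) F) = Matrix.scalar (Fin n) (c : F) := rfl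

omit [Fintype F] in
theorem mem_center_iff' {z : GL (Fin n) F} : z ∈ Subgroup.center (GL (Fin n) F) ↔ ∃ c, sc n c = z := by
  rw [Matrix.GeneralLinearGroup.center_eq_range_scalar]; rfl

omit [Fintype F] in
theorem sc_comm (c : Fˣ) (g : GL (Fin n) F) : g * sc n c = sc n c * g :=
  Subgroup.mem_center_iff.mp (mem_center_iff'.mpr ⟨c, rfl⟩) g

omit [Fintype F] in
theorem conj_quot_iff (a b : GL (Fin n) F) :
    IsConj (a : GL (Fin n) F ⧸ Subgroup.center (GL (Fin n) F)) (b : GL (Fin n) F ⧸ Subgroup.center (GL (Fin n) F)) ↔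
      ∃ c : Fˣ, IsConj (a * sc n c) b := by
  constructor
  · intro h
    obtain ⟨x, hx⟩ := isConj_iff.mp h
    obtain ⟨k, rfl⟩ := QuotientGroup.mk_surjective x
    rw [← QuotientGroup.mk_inv, ← QuotientGroup.mk_mul, ← QuotientGroup.mk_mul, QuotientGroup.eq] at hx
    obtain ⟨c, hc⟩ := mem_center_iff'.mp hx
    refine ⟨c, isConj_iff.mpr ⟨k, ?_⟩⟩
    rw [← mul_assoc k a, mul_assoc (k * a), ← sc_comm, hc]
    group
  · rintro ⟨c, h⟩
    have h1 := (QuotientGroup.mk' (Subgroup.center (GL (Fin n) F))).map_isConj h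
    simp only [QuotientGroup.mk'_apply] at h1
    rwa [QuotientGroup.mk_mul_of_mem a (mem_center_iff'.mpr ⟨c, rfl⟩)] at h1

omit [Fintype F] in
theorem charpoly_dvd_of_sq {μ : F} (A : Matrix (Fin n) (Fin n) F) (h : A ^ 2 = Matrix.scalar (Fin n) μ) :
    A.charpoly ∣ ((X : F[X]) ^ 2 - C μ) ^ n := by
  have hc : Commute (Matrix.scalar (Fin n) (X : F[X])) ((C : F →+* F[X]).mapMatrix A) :=
    Matrix.scalar_commute _ (fun _ => Commute.all _ _) _
  have h1 := hc.sub_dvd_pow_sub_pow 2
  have h3 : (C : F →+* F[X]).mapMatrix (Matrix.scalar (Fin n) μ) = Matrix.scalar (Fin n) (C μ) := by simp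
  rw [← map_pow, ← map_pow, h, h3, ← map_sub] at h1
  have h2 := map_dvd Matrix.detMonoidHom h1
  simpa [Matrix.charpoly, Matrix.charmatrix] using h2

/-- `diag(x, …, x, y, …, y)`. -/
def dvec (b : ℕ) (x y : F) : Fin n → F := fun j => if j.1 < b then x else y

omit [Fintype F] in
theorem charpoly_dvec {b c : ℕ} (h : n = b + c) (x y : F) :
    (Matrix.diagonal (dvec b x y : Fin n → F)).charpoly = (X - C x) ^ b * (X - C y) ^ c := by
  subst h
  simp [Matrix.charpoly_diagonal, Fin.prod_univ_add, dvec]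

omit [Fintype F] in
theorem exponents_eq (h2 : (2 : F) ≠ 0) {b c b' c' : ℕ}
    (h : (X - C (-1 : F)) ^ b * (X - C 1) ^ c = (X - C (-1 : F)) ^ b' * (X - C 1) ^ c') : b = b' := by
  classical
  have hne : (-1 : F) ≠ 1 := fun h0 => h2 (by linear_combination -h0)
  have h' := congrArg (fun P : F[X] => P.roots.count (-1)) h
  have e : ∀ b c : ℕ, ((X - C (-1 : F)) ^ b * (X - C 1) ^ c).roots = b • {(-1 : F)} + c • {(1 : F)} := by
    intro b c
    rw [roots_mul (mul_ne_zero (pow_ne_zero _ (X_sub_C_ne_zero _)) (pow_ne_zero _ (X_sub_C_ne_zero _))),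
      roots_pow, roots_pow, roots_X_sub_C, roots_X_sub_C]
  simp only [e, Multiset.count_add, Multiset.count_nsmul, Multiset.count_singleton_self, Multiset.count_singleton, if_neg hne] at h'
  simpa using h'

theorem coprime_of_sq (p : ℕ) [Fact p.Prime] [CharP F p] (hp2 : p ≠ 2) (g : GL (Fin n) F) (c : Fˣ) (h : g ^ 2 = sc n c) :
    (orderOf g).Coprime p := by
  classical
  have h1 : g ^ (2 * (Fintype.card F - 1)) = 1 := by
    rw [pow_mul, h, ← map_pow, ← Fintype.card_units, pow_card_eq_one, map_one]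
  refine Nat.Coprime.coprime_dvd_left (orderOf_dvd_of_pow_eq_one h1) ?_
  obtain ⟨f, hp, hf⟩ := FiniteField.card F p
  refine Nat.Coprime.mul_left ((Nat.coprime_primes Nat.prime_two hp).mpr (Ne.symm hp2)) (Nat.Coprime.symm ?_)
  rw [hp.coprime_iff_not_dvd]
  intro hd
  have h3 : p ∣ Fintype.card F := hf ▸ dvd_pow_self p f.ne_zero
  have h5 : 0 < Fintype.card F := Fintype.card_pos
  have h4 := Nat.dvd_sub h3 hd
  rw [Nat.sub_sub_self h5, Nat.dvd_one] at h4
  exact hp.ne_one h4

/-- `diag(-1, …, -1, 1, …, 1)` in `GL`. -/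
noncomputable def D (n b : ℕ) : GL (Fin n) F :=
  GeneralLinearGroup.mkOfDetNeZero (Matrix.diagonal (dvec b (-1) 1)) (by
    rw [Matrix.det_diagonal]
    refine Finset.prod_ne_zero_iff.mpr fun j _ => ?_
    simp only [dvec]; split_ifs <;> simp)

omit [Fintype F] in
theorem D_sq (b : ℕ) : (D n b : GL (Fin n) F) ^ 2 = 1 := by
  apply Units.ext
  show (Matrix.diagonal (dvec b (-1 : F) 1) : Matrix (Fin n) (Fin n) F) ^ 2 = 1
  rw [Matrix.diagonal_pow, ← Matrix.diagonal_one]
  congr 1; funext j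
  simp only [Pi.pow_apply, dvec]; split_ifs <;> simp

omit [Fintype F] in
theorem charpoly_D_mul_sc {b c : ℕ} (h : n = b + c) (e : Fˣ) :
    ((D n b * sc n e : GL (Fin n) F) : Matrix (Fin n) (Fin n) F).charpoly = (X - C (-(e : F))) ^ b * (X - C (e : F)) ^ c := by
  rw [← charpoly_dvec h]
  congr 1
  rw [Units.val_mul, coe_sc]
  show Matrix.diagonal (dvec b (-1 : F) 1) * Matrix.diagonal (fun _ => (e : F)) = _
  rw [Matrix.diagonal_mul_diagonal]
  congr 1; funext j
  simp only [dvec]; split_ifs <;> simp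

/-- Involutions in `GL` are diagonalisable. -/
theorem exists_isConj_D (p : ℕ) [Fact p.Prime] [CharP F p] (hp2 : p ≠ 2) (g : GL (Fin n) F) (h : g ^ 2 = 1) :
    ∃ b, b ≤ n ∧ IsConj g (D n b) := by
  have hsq : (g : Matrix (Fin n) (Fin n) F) ^ 2 = Matrix.scalar (Fin n) (1 : F) := by
    rw [map_one, ← Units.val_pow_eq_pow_val, h, Units.val_one]
  have hd := charpoly_dvd_of_sq _ hsq
  have hm := Matrix.charpoly_monic (g : Matrix (Fin n) (Fin n) F)
  have hdeg : (g : Matrix (Fin n) (Fin n) F).charpoly.natDegree = n := by simp [Matrix.charpoly_natDegree_eq_dim]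
  rw [show ((X : F[X]) ^ 2 - C 1) = (X - C (-1)) * (X - C 1) by simp; ring, mul_pow] at hd
  obtain ⟨P1, P2, h1, h2, hP⟩ := exists_dvd_and_dvd_of_dvd_mul hd
  obtain ⟨b, -, hb⟩ := (dvd_prime_pow (prime_X_sub_C (-1 : F)) n).mp h1
  obtain ⟨c, -, hc⟩ := (dvd_prime_pow (prime_X_sub_C (1 : F)) n).mp h2
  have heq : (g : Matrix (Fin n) (Fin n) F).charpoly = (X - C (-1)) ^ b * (X - C 1) ^ c :=
    eq_of_monic_of_associated hm (((monic_X_sub_C _).pow _).mul ((monic_X_sub_C _).pow _)) (hP ▸ hb.mul_mul hc)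
  have hbc : n = b + c := by
    rw [← hdeg, heq, ((monic_X_sub_C _).pow _).natDegree_mul ((monic_X_sub_C _).pow _),
      natDegree_pow, natDegree_pow, natDegree_X_sub_C, natDegree_X_sub_C, mul_one, mul_one]
  refine ⟨b, by omega, Semisimple.gl_isConj_of_charpoly_eq p g (D n b) (coprime_of_sq p hp2 g 1 (by rw [h, map_one]))
    (coprime_of_sq p hp2 _ 1 (by rw [D_sq, map_one])) ?_⟩
  have h3 := charpoly_D_mul_sc (F := F) hbc 1
  rw [map_one, mul_one, Units.val_one] at h3
  rw [heq, h3]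

/-- Two elements with the same non-square scalar square are conjugate. -/
theorem charpoly_eq_of_nonsquare {μ : Fˣ} (hμ : ¬ IsSquare (μ : F)) (g : GL (Fin n) F) (h : g ^ 2 = sc n μ) :
    Even n ∧ (g : Matrix (Fin n) (Fin n) F).charpoly = ((X : F[X]) ^ 2 - C (μ : F)) ^ (n / 2) := by
  have hsq : (g : Matrix (Fin n) (Fin n) F) ^ 2 = Matrix.scalar (Fin n) (μ : F) := by
    rw [← Units.val_pow_eq_pow_val, h, coe_sc]
  have hirr : Irreducible ((X : F[X]) ^ 2 - C (μ : F)) :=
    X_pow_sub_C_irreducible_of_prime Nat.prime_two fun b hb => hμ ⟨b, by rw [← hb, sq]⟩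
  obtain ⟨k, -, hk⟩ := (dvd_prime_pow hirr.prime n).mp (charpoly_dvd_of_sq _ hsq)
  have heq := eq_of_monic_of_associated (Matrix.charpoly_monic _) ((monic_X_pow_sub_C _ two_ne_zero).pow k) hk
  have hdeg : (g : Matrix (Fin n) (Fin n) F).charpoly.natDegree = n := by simp [Matrix.charpoly_natDegree_eq_dim]
  rw [heq, natDegree_pow, natDegree_X_pow_sub_C] at hdeg
  refine ⟨⟨k, by omega⟩, ?_⟩
  rw [heq, show n / 2 = k by omega]

omit [Fintype F] in
theorem exists_sq_eq_sc (hn : Even n) (μ : Fˣ) : ∃ g : GL (Fin n) F, g ^ 2 = sc n μ := by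
  obtain ⟨k, rfl⟩ := hn
  let M : Matrix (Fin k ⊕ Fin k) (Fin k ⊕ Fin k) F := Matrix.fromBlocks 0 1 (Matrix.scalar (Fin k) (μ : F)) 0
  let A : Matrix (Fin (k + k)) (Fin (k + k)) F := Matrix.reindex finSumFinEquiv finSumFinEquiv M
  have hA : A * A = Matrix.scalar (Fin (k + k)) (μ : F) := by
    simp only [A, Matrix.reindex_apply, Matrix.submatrix_mul_equiv]
    rw [show M * M = Matrix.scalar (Fin k ⊕ Fin k) (μ : F) by simp [M, Matrix.fromBlocks_multiply]]
    simp [Matrix.submatrix_diagonal_equiv]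
  have hdet : A.det ≠ 0 := by
    intro h0
    have h1 := congrArg Matrix.det hA
    rw [Matrix.det_mul, h0, zero_mul] at h1
    simp [Matrix.det_diagonal] at h1
    exact pow_ne_zero _ μ.ne_zero h1.symm
  refine ⟨GeneralLinearGroup.mkOfDetNeZero A hdet, Units.ext ?_⟩
  rw [Units.val_pow_eq_pow_val, sq, coe_sc]
  exact hA


/-- Number of conjugacy classes of involutions in PGL_n(q) for q odd and n ≥ 2: there are ⌊n/2⌋ classes represented by diagonal matrices with i entries −1 (1 ≤ i ≤ n/2) and, when n is even, one more class represented by a block-diagonal matrix of 2 × 2 blocks [[0, 1], [μ, 0]] with μ a non-square (a matrix squaring to a scalar but having no eigenvalue in the field); in all ⌊n/2⌋ + 1 classes if n is even and ⌊n/2⌋ if n is odd. -/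
theorem result {F : Type*} [Field F] [Fintype F] {q : ℕ} (hF : Fintype.card F = q) (hq : Odd q) {n : ℕ} (hn : 2 ≤ n) : Nat.card {C : ConjClasses (GL (Fin n) F ⧸ Subgroup.center (GL (Fin n) F)) // ∃ g : GL (Fin n) F ⧸ Subgroup.center (GL (Fin n) F), ConjClasses.mk g = C ∧ orderOf g = 2} = n / 2 + (if Even n then 1 else 0) := by
  classical
  obtain ⟨p, hchar⟩ := CharP.exists F
  obtain ⟨f, hp, hf⟩ := FiniteField.card F p
  haveI : Fact p.Prime := ⟨hp⟩
  have hp2 : p ≠ 2 := by
    rintro rfl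
    rw [← hF, hf] at hq
    exact (Nat.not_odd_iff_even.mpr (Nat.even_pow.mpr ⟨even_two, f.ne_zero⟩)) hq
  have h2 : (2 : F) ≠ 0 := Ring.two_ne_zero (by rw [ringChar.eq F p]; exact hp2)
  obtain ⟨μ0, hμ⟩ := FiniteField.exists_nonsquare (F := F) (by rw [ringChar.eq F p]; exact hp2)
  let μ : Fˣ := Units.mk0 μ0 (fun h0 => hμ (h0 ▸ ⟨0, (mul_zero 0).symm⟩))
  have hμ' : ¬ IsSquare (μ : F) := hμ
  let π : GL (Fin n) F → GL (Fin n) F ⧸ Subgroup.center (GL (Fin n) F) := fun g => (g : GL (Fin n) F ⧸ Subgroup.center (GL (Fin n) F))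
  have hord : ∀ g : GL (Fin n) F, orderOf (π g) = 2 ↔ (∃ c, g ^ 2 = sc n c) ∧ ¬ ∃ c, g = sc n c := by
    intro g
    rw [orderOf_eq_prime_iff, show (π g) ^ 2 = π (g ^ 2) from rfl]
    refine and_congr ?_ (not_congr ?_)
    · show ((g ^ 2 : GL (Fin n) F) : GL (Fin n) F ⧸ Subgroup.center (GL (Fin n) F)) = 1 ↔ _
      rw [QuotientGroup.eq_one_iff, mem_center_iff']
      simp only [eq_comm]
    · show ((g : GL (Fin n) F) : GL (Fin n) F ⧸ Subgroup.center (GL (Fin n) F)) = 1 ↔ _
      rw [QuotientGroup.eq_one_iff, mem_center_iff']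
      simp only [eq_comm]
  have hD : ∀ i : Fin (n / 2), orderOf (π (D n (i.1 + 1))) = 2 := by
    intro i
    rw [hord]
    refine ⟨⟨1, by rw [D_sq, map_one]⟩, ?_⟩
    rintro ⟨c, hc⟩
    have h := congrArg (fun z : GL (Fin n) F => (z : Matrix (Fin n) (Fin n) F)) hc
    have hi := i.2
    have h0 := congrFun (congrFun h ⟨0, by omega⟩) ⟨0, by omega⟩
    have h1 := congrFun (congrFun h ⟨n - 1, by omega⟩) ⟨n - 1, by omega⟩
    simp only [coe_sc] at h0 h1
    simp [D, dvec, Matrix.GeneralLinearGroup.mkOfDetNeZero] at h0 h1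
    rw [if_neg (by omega)] at h1
    exact h2 (by linear_combination h1 - h0)
  have hB : ∀ g : GL (Fin n) F, g ^ 2 = sc n μ → orderOf (π g) = 2 := by
    intro g hg
    rw [hord]
    refine ⟨⟨μ, hg⟩, ?_⟩
    rintro ⟨c, rfl⟩
    rw [← map_pow] at hg
    have h := congrFun (congrFun (congrArg (fun z : GL (Fin n) F => (z : Matrix (Fin n) (Fin n) F)) hg) ⟨0, by omega⟩) ⟨0, by omega⟩
    simp only [coe_sc, Matrix.scalar_apply, Matrix.diagonal_apply_eq] at h
    exact hμ' ⟨c, by rw [← h, Units.val_pow_eq_pow_val, sq]⟩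
  let T := {C : ConjClasses (GL (Fin n) F ⧸ Subgroup.center (GL (Fin n) F)) //
    ∃ g : GL (Fin n) F ⧸ Subgroup.center (GL (Fin n) F), ConjClasses.mk g = C ∧ orderOf g = 2}
  let I := Fin (n / 2) ⊕ {_u : Unit // Even n}
  let Φ : I → T := Sum.elim (fun i => ⟨ConjClasses.mk (π (D n (i.1 + 1))), _, rfl, hD i⟩)
    (fun u => ⟨ConjClasses.mk (π (exists_sq_eq_sc u.2 μ).choose), _, rfl, hB _ (exists_sq_eq_sc u.2 μ).choose_spec⟩)
  have hsc_inj : ∀ a b : Fˣ, sc n a = sc n b → a = b := by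
    intro a b hab
    have h := congrFun (congrFun (congrArg (fun z : GL (Fin n) F => (z : Matrix (Fin n) (Fin n) F)) hab) ⟨0, by omega⟩) ⟨0, by omega⟩
    simp [coe_sc] at h
    exact Units.ext h
  have hsq_conj : ∀ (a b : GL (Fin n) F) (c d e : Fˣ), IsConj (a * sc n c) b → a ^ 2 = sc n d → b ^ 2 = sc n e → d * c ^ 2 = e := by
    intro a b c d e h ha hb
    obtain ⟨k, hk⟩ := isConj_iff.mp h
    apply hsc_inj
    rw [← hb, ← hk, conj_pow, (show Commute a (sc n c) from sc_comm c a).mul_pow, ha, ← map_pow, ← map_mul, sc_comm, mul_inv_cancel_right]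
  have hne : ∀ (i : Fin (n / 2)) (g : GL (Fin n) F), g ^ 2 = sc n μ → ¬ IsConj (π (D n (i.1 + 1))) (π g) := by
    intro i g hg h
    obtain ⟨c, hc⟩ := (conj_quot_iff _ _).mp h
    have h3 := hsq_conj _ _ c 1 μ hc (by rw [D_sq, map_one]) hg
    rw [one_mul] at h3
    exact hμ' ⟨c, by rw [← h3, sq, Units.val_mul]⟩
  have hΦ : Function.Bijective Φ := by
    constructor
    · rintro (i | u) (j | v) h
      · have h' : ConjClasses.mk (π (D n (i.1 + 1))) = ConjClasses.mk (π (D n (j.1 + 1))) := congrArg Subtype.val h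
        obtain ⟨c, hc⟩ := (conj_quot_iff _ _).mp (ConjClasses.mk_eq_mk_iff_isConj.mp h')
        have h3 := hsq_conj _ _ c 1 1 hc (by rw [D_sq, map_one]) (by rw [D_sq, map_one])
        rw [one_mul] at h3
        have h4 := Semisimple.charpoly_conj_gl hc
        have hi := i.2
        have hj := j.2
        rw [charpoly_D_mul_sc (c := n - (i.1 + 1)) (by omega)] at h4
        have h5 := charpoly_D_mul_sc (F := F) (n := n) (b := j.1 + 1) (c := n - (j.1 + 1)) (by omega) 1
        rw [map_one, mul_one, Units.val_one] at h5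
        rw [h5] at h4
        rcases sq_eq_one_iff.mp (show (c : F) ^ 2 = 1 by rw [← Units.val_pow_eq_pow_val, h3, Units.val_one]) with hc1 | hc1
        · rw [hc1] at h4
          have := exponents_eq h2 h4
          exact congrArg Sum.inl (Fin.ext (by omega))
        · rw [hc1, neg_neg, mul_comm] at h4
          have := exponents_eq h2 h4
          exact congrArg Sum.inl (Fin.ext (by omega))
      · exact absurd (ConjClasses.mk_eq_mk_iff_isConj.mp (congrArg Subtype.val h)) (hne i _ (exists_sq_eq_sc v.2 μ).choose_spec)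
      · exact absurd (ConjClasses.mk_eq_mk_iff_isConj.mp (congrArg Subtype.val h)).symm (hne j _ (exists_sq_eq_sc u.2 μ).choose_spec)
      · exact congrArg Sum.inr (Subsingleton.elim u v)
    · rintro ⟨C, x, rfl, hx⟩
      obtain ⟨g, rfl⟩ := QuotientGroup.mk_surjective x
      obtain ⟨⟨d, hd⟩, hns⟩ := (hord g).mp hx
      suffices hsuff : ∃ i : I, ∃ a : GL (Fin n) F, ∃ c, (Φ i).1 = ConjClasses.mk (π a) ∧ IsConj (g * sc n c) a by
        obtain ⟨i, a, c, hia, hc⟩ := hsuff
        refine ⟨i, Subtype.ext (hia.trans ?_)⟩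
        exact (ConjClasses.mk_eq_mk_iff_isConj.mpr ((conj_quot_iff _ _).mpr ⟨c, hc⟩)).symm
      have hmul : ∀ c : Fˣ, (g * sc n c) ^ 2 = sc n (d * c ^ 2) := by
        intro c
        rw [(show Commute g (sc n c) from sc_comm c g).mul_pow, hd, ← map_pow, ← map_mul]
      by_cases hsq : IsSquare (d : F)
      · obtain ⟨s, hs⟩ := hsq
        have hs0 : s ≠ 0 := fun h0 => d.ne_zero (by rw [hs, h0, mul_zero])
        let c : Fˣ := (Units.mk0 s hs0)⁻¹
        have h1 : (g * sc n c) ^ 2 = 1 := by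
          rw [hmul, show d * c ^ 2 = 1 from Units.ext (by simp [c, hs]; field_simp), map_one]
        obtain ⟨b, hbn, hb⟩ := exists_isConj_D p hp2 _ h1
        have hb0 : b ≠ 0 := by
          rintro rfl
          have : (D n 0 : GL (Fin n) F) = 1 := Units.ext (by
            show Matrix.diagonal (dvec 0 (-1 : F) 1) = 1
            rw [← Matrix.diagonal_one]; congr 1)
          rw [this, isConj_one_left, mul_eq_one_iff_eq_inv, ← map_inv] at hb
          exact hns ⟨c⁻¹, hb⟩
        have hbn' : b ≠ n := by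
          rintro rfl
          have : (D b b : GL (Fin b) F) = sc b (-1) := Units.ext (by
            rw [coe_sc]
            show Matrix.diagonal (dvec b (-1 : F) 1) = Matrix.diagonal _
            congr 1; funext j; simp [dvec, j.2])
          rw [this] at hb
          obtain ⟨k, hk⟩ := isConj_iff.mp hb.symm
          rw [sc_comm, mul_inv_cancel_right, eq_comm, ← eq_mul_inv_iff_mul_eq, ← map_inv, ← map_mul] at hk
          exact hns ⟨_, hk⟩
        rcases Nat.lt_or_ge (n / 2) b with hb2 | hb2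
        · refine ⟨Sum.inl ⟨n - b - 1, by omega⟩, D n (n - b), c * -1, ?_, ?_⟩
          · show ConjClasses.mk (π (D n (n - b - 1 + 1))) = _
            rw [Nat.sub_add_cancel (by omega : 1 ≤ n - b)]
          · rw [map_mul, ← mul_assoc]
            have h5 : IsConj (g * sc n c * sc n (-1)) (D n b * sc n (-1)) := by
              obtain ⟨k, hk⟩ := isConj_iff.mp hb
              exact isConj_iff.mpr ⟨k, by rw [← hk, ← mul_assoc, mul_assoc _ (sc n (-1)), ← sc_comm, ← mul_assoc]⟩
            refine h5.trans ?_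
            refine Semisimple.gl_isConj_of_charpoly_eq p _ _ (coprime_of_sq p hp2 _ 1 ?_) (coprime_of_sq p hp2 _ 1 (by rw [D_sq, map_one])) ?_
            · rw [(show Commute (D n b) (sc n (-1 : Fˣ)) from sc_comm _ _).mul_pow, D_sq, ← map_pow, one_mul]; simp
            · have h6 := charpoly_D_mul_sc (F := F) (n := n) (b := n - b) (c := b) (by omega) 1
              rw [map_one, mul_one, Units.val_one] at h6
              rw [h6, charpoly_D_mul_sc (c := n - b) (by omega), Units.val_neg, Units.val_one, neg_neg, mul_comm]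
        · refine ⟨Sum.inl ⟨b - 1, by omega⟩, D n b, c, ?_, hb⟩
          show ConjClasses.mk (π (D n (b - 1 + 1))) = _
          rw [Nat.sub_add_cancel (by omega : 1 ≤ b)]
      · have hd1 : quadraticChar F (d : F) = -1 := quadraticChar_neg_one_iff_not_isSquare.mpr hsq
        have hd2 : quadraticChar F (μ : F) = -1 := quadraticChar_neg_one_iff_not_isSquare.mpr hμ'
        have hd3 : IsSquare ((d : F) * (μ : F)) := by
          rw [← quadraticChar_one_iff_isSquare (mul_ne_zero d.ne_zero μ.ne_zero), map_mul, hd1, hd2]; norm_num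
        obtain ⟨s, hs⟩ := hd3
        have hs0 : s ≠ 0 := fun h0 => (mul_ne_zero d.ne_zero μ.ne_zero) (by rw [hs, h0, mul_zero])
        let c : Fˣ := μ * (Units.mk0 s hs0)⁻¹
        have h1 : (g * sc n c) ^ 2 = sc n μ := by
          rw [hmul, show d * c ^ 2 = μ from Units.ext (by simp [c]; field_simp; linear_combination hs)]
        obtain ⟨hev, hch⟩ := charpoly_eq_of_nonsquare hμ' _ h1
        refine ⟨Sum.inr ⟨(), hev⟩, (exists_sq_eq_sc hev μ).choose, c, rfl, ?_⟩
        refine Semisimple.gl_isConj_of_charpoly_eq p _ _ (coprime_of_sq p hp2 _ μ h1) (coprime_of_sq p hp2 _ μ (exists_sq_eq_sc hev μ).choose_spec) ?_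
        rw [hch, (charpoly_eq_of_nonsquare hμ' _ (exists_sq_eq_sc hev μ).choose_spec).2]
  show Nat.card T = _
  rw [← Nat.card_eq_of_bijective Φ hΦ, Nat.card_sum, Nat.card_fin]
  by_cases hev : Even n
  · simp [hev]
  · simp [hev]

end Cfsg.Agent.S2577
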