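import Cfsg.Statements.S2578
import Cfsg.Agent.EqLemmas
import Cfsg.Agent.S2573

set_option autoImplicit false
open Cfsg

namespace Cfsg.Agent.S2578

open Matrix

theorem det_add_nilpotent {F : Type*} [Field F] {n : ℕ} (c : F) (M : Matrix (Fin n) (Fin n) F)
    (hM : IsNilpotent M) : (c • (1 : Matrix (Fin n) (Fin n) F) + M).det = c ^ n := by
  have h : IsNilpotent (Matrix.toLin' (-M)) := by
    obtain ⟨k, hk⟩ := hM.neg
    exact ⟨k, by rw [← Matrix.toLin'_pow, hk, map_zero]⟩
  have hc : (-M).charpoly = Polynomial.X ^ n := by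
    rw [← Matrix.charpoly_toLin', IsNilpotent.charpoly_eq_X_pow_finrank h, Module.finrank_fin_fun]
  have := congrArg (Polynomial.eval c) hc
  rw [Matrix.eval_charpoly, Polynomial.eval_pow, Polynomial.eval_X, sub_neg_eq_add,
    Matrix.scalar_apply, ← Matrix.smul_one_eq_diagonal] at this
  exact this

/-- The shift matrix. -/
def shiftMat (n : ℕ) (F : Type*) [Field F] : Matrix (Fin n) (Fin n) F :=
  Matrix.of fun i j => if (i : ℕ) = (j : ℕ) + 1 then 1 else 0

theorem shiftMat_pow_single {F : Type*} [Field F] {n : ℕ} (k : ℕ) : ∀ j : Fin n,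
    (shiftMat n F ^ k) *ᵥ Pi.single j (1 : F)
      = if h : (j : ℕ) + k < n then Pi.single ⟨(j : ℕ) + k, h⟩ 1 else 0 := by
  induction k with
  | zero => intro j; funext i; simp [Matrix.one_apply, Pi.single_apply]
  | succ k ih =>
    intro j
    rw [pow_succ', ← Matrix.mulVec_mulVec, ih]
    split
    · rename_i h
      funext i
      rw [Matrix.mulVec_single_one, Matrix.col_apply]
      by_cases h' : (j : ℕ) + (k + 1) < n
      · rw [dif_pos h']
        simp [shiftMat, Pi.single_apply, Fin.ext_iff, add_assoc]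
      · rw [dif_neg h']
        simp [shiftMat]
        omega
    · rename_i h
      rw [Matrix.mulVec_zero, dif_neg (by omega)]

theorem shiftMat_pow_eq_zero (F : Type*) [Field F] (n : ℕ) : shiftMat n F ^ n = 0 := by
  apply Matrix.ext_of_mulVec_single
  intro j
  rw [shiftMat_pow_single, dif_neg (by omega), Matrix.zero_mulVec]

theorem shiftMat_rank (F : Type*) [Field F] {n : ℕ} (hn : 1 ≤ n) : (shiftMat n F).rank = n - 1 := by
  have h := LinearMap.finrank_range_add_finrank_ker (shiftMat n F).mulVecLin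
  rw [Module.finrank_fin_fun] at h
  have hr : (shiftMat n F).rank = Module.finrank F (LinearMap.range (shiftMat n F).mulVecLin) := rfl
  let last : Fin n := ⟨n - 1, by omega⟩
  have hk : LinearMap.ker (shiftMat n F).mulVecLin = Submodule.span F {Pi.single last (1 : F)} := by
    apply le_antisymm
    · intro v hv
      rw [LinearMap.mem_ker, Matrix.mulVecLin_apply] at hv
      rw [Submodule.mem_span_singleton]
      refine ⟨v last, ?_⟩
      funext i
      rcases eq_or_ne i last with rfl | hi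
      · simp
      · have hi' : (i : ℕ) + 1 < n := by
          have : (i : ℕ) ≠ n - 1 := fun h => hi (Fin.ext h)
          omega
        have := congrFun hv ⟨(i : ℕ) + 1, hi'⟩
        simp only [Matrix.mulVec, dotProduct, shiftMat, Matrix.of_apply, Nat.add_right_cancel_iff,
          ite_mul, one_mul, zero_mul, Pi.zero_apply, ← Fin.ext_iff, Finset.sum_ite_eq,
          Finset.mem_univ, if_true] at this
        simp [hi, this]
    · rw [Submodule.span_singleton_le_iff_mem, LinearMap.mem_ker, Matrix.mulVecLin_apply]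
      have := shiftMat_pow_single (F := F) 1 last
      rw [pow_one] at this
      rw [this, dif_neg (by show ¬ (n - 1 + 1 < n); omega)]
  rw [hk, finrank_span_singleton (by simp)] at h
  omega

/-- A regular nilpotent matrix is conjugate to the shift. -/
theorem exists_conj_shift {F : Type*} [Field F] {n : ℕ} (hn : 1 ≤ n)
    (N : Matrix (Fin n) (Fin n) F) (hnil : N ^ n = 0) (hreg : N.rank = n - 1) :
    ∃ P : GL (Fin n) F, N * (P : Matrix (Fin n) (Fin n) F)
      = (P : Matrix (Fin n) (Fin n) F) * shiftMat n F := by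
  classical
  let f : Module.End F (Fin n → F) := N.mulVecLin
  have hfp : ∀ k v, (f ^ k) v = (N ^ k) *ᵥ v := fun k v => by
    rw [show f = N.mulVecLin from rfl, ← S2573.mulVecLin_pow]; rfl
  have hnilf : IsNilpotent f := ⟨n, LinearMap.ext fun v => by simp [hfp, hnil]⟩
  have hker := S2573.ker_le_one N (Fintype.card_fin n) hreg
  obtain ⟨e, he⟩ : ∃ e, (N ^ (n - 1)) *ᵥ e ≠ 0 := by
    by_contra hcon
    push Not at hcon
    have h1 := S2573.finrank_ker_pow_le f hker (n - 1)
    have h2 : LinearMap.ker (f ^ (n - 1)) = ⊤ :=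
      Submodule.eq_top_iff'.mpr fun v => by rw [LinearMap.mem_ker, hfp]; exact hcon v
    rw [h2, finrank_top, Module.finrank_fin_fun] at h1
    omega
  let P : Matrix (Fin n) (Fin n) F := Matrix.of fun i j => ((N ^ (j : ℕ)) *ᵥ e) i
  have hP : ∀ j, P *ᵥ Pi.single j 1 = (N ^ (j : ℕ)) *ᵥ e := by
    intro j; funext i; simp [P, Matrix.mulVec_single_one]
  have hcomm : N * P = P * shiftMat n F := by
    apply Matrix.ext_of_mulVec_single
    intro j
    rw [← Matrix.mulVec_mulVec, ← Matrix.mulVec_mulVec, hP, Matrix.mulVec_mulVec, ← pow_succ']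
    have := shiftMat_pow_single (F := F) 1 j
    rw [pow_one] at this
    rw [this]
    split
    · rw [hP]
    · rw [Matrix.mulVec_zero, show (j : ℕ) + 1 = n by omega, hnil, Matrix.zero_mulVec]
  have hPu : IsUnit P := by
    rw [← Matrix.mulVec_injective_iff_isUnit]
    show Function.Injective P.mulVecLin
    rw [LinearMap.injective_iff_surjective, ← LinearMap.range_eq_top]
    set W := LinearMap.range P.mulVecLin
    have hinv : ∀ v ∈ W, f v ∈ W := by
      rintro _ ⟨c, rfl⟩
      refine ⟨shiftMat n F *ᵥ c, ?_⟩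
      simp [f, Matrix.mulVec_mulVec, hcomm]
    have hW := S2573.invariant_eq_ker_pow f hnilf hker W hinv
    have heW : e ∈ W := ⟨Pi.single ⟨0, by omega⟩ 1, by rw [Matrix.mulVecLin_apply, hP]; simp⟩
    apply Submodule.eq_top_of_finrank_eq
    rw [Module.finrank_fin_fun]
    refine le_antisymm ((Submodule.finrank_le W).trans_eq (Module.finrank_fin_fun F)) ?_
    by_contra hlt
    rw [hW, LinearMap.mem_ker] at heW
    obtain ⟨j, hj⟩ := Nat.exists_eq_add_of_le (show Module.finrank F W ≤ n - 1 by omega)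
    apply he
    rw [← hfp, hj, add_comm, pow_add, Module.End.mul_apply, heW, map_zero]
  exact ⟨hPu.unit, hcomm⟩

theorem det_commute_shift {F : Type*} [Field F] {n : ℕ} (hn : 1 ≤ n) (M : Matrix (Fin n) (Fin n) F)
    (h : Commute (shiftMat n F) M) : ∃ c : F, M.det = c ^ n := by
  classical
  set S := shiftMat n F
  let c : Fin n → F := M *ᵥ Pi.single ⟨0, by omega⟩ 1
  have hM : M = ∑ i : Fin n, c i • S ^ (i : ℕ) := by
    apply Matrix.ext_of_mulVec_single
    intro j
    have hj : Pi.single j (1 : F) = (S ^ (j : ℕ)) *ᵥ Pi.single (⟨0, by omega⟩ : Fin n) 1 := by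
      rw [shiftMat_pow_single, dif_pos (by simp [j.2])]; congr 1; simp
    rw [hj, Matrix.mulVec_mulVec, ← (h.pow_left _).eq, ← Matrix.mulVec_mulVec, Matrix.sum_mulVec]
    show (S ^ (j : ℕ)) *ᵥ c = _
    conv_lhs => rw [pi_eq_sum_univ' c]
    rw [Matrix.mulVec_sum]
    refine Finset.sum_congr rfl fun i _ => ?_
    rw [Matrix.mulVec_smul, Matrix.smul_mulVec, Matrix.mulVec_mulVec, ← pow_add,
      shiftMat_pow_single, shiftMat_pow_single]
    congr 1
    simp [add_comm]
  refine ⟨c ⟨0, by omega⟩, ?_⟩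
  rw [hM, ← Finset.add_sum_erase _ _ (Finset.mem_univ (⟨0, by omega⟩ : Fin n))]
  simp only [pow_zero]
  refine det_add_nilpotent _ _ ?_
  have hfac : ∑ i ∈ Finset.univ.erase (⟨0, by omega⟩ : Fin n), c i • S ^ (i : ℕ)
      = S * ∑ i ∈ Finset.univ.erase (⟨0, by omega⟩ : Fin n), c i • S ^ ((i : ℕ) - 1) := by
    rw [Finset.mul_sum]
    refine Finset.sum_congr rfl fun i hi => ?_
    have : (i : ℕ) ≠ 0 := fun h => (Finset.mem_erase.mp hi).1 (Fin.ext h)
    rw [mul_smul_comm, ← pow_succ', show (i : ℕ) - 1 + 1 = (i : ℕ) by omega]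
  rw [hfac]
  refine Commute.isNilpotent_mul_right ?_ ⟨n, shiftMat_pow_eq_zero F n⟩
  exact Commute.sum_right _ _ _ fun i _ => ((Commute.refl S).pow_right _).smul_right _


/-- Regular unipotent classes of SL_n(q): for n ≥ 2 over the field with q elements, the matrices u of determinant one with (u − 1)^n = 0 and rank(u − 1) = n − 1 form a single GL_n(q)-class which splits into exactly gcd(n, q − 1) conjugacy classes of SL_n(q). -/
theorem result {F : Type*} [Field F] [Fintype F] {q : ℕ} (hF : Fintype.card F = q) {n : ℕ} (hn : 2 ≤ n) : Nat.card {C : ConjClasses (Matrix.SpecialLinearGroup (Fin n) F) // ∃ u : Matrix.SpecialLinearGroup (Fin n) F, ConjClasses.mk u = C ∧ ((u : Matrix (Fin n) (Fin n) F) - 1) ^ n = 0 ∧ ((u : Matrix (Fin n) (Fin n) F) - 1).rank = n - 1} = Nat.gcd n (q - 1) := by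
  classical
  set S := shiftMat n F
  let P : Subgroup Fˣ := (powMonoidHom n : Fˣ →* Fˣ).range
  have hu₀det : (1 + S).det = 1 := by
    have := det_add_nilpotent (1 : F) S ⟨n, shiftMat_pow_eq_zero F n⟩
    rwa [one_smul, one_pow] at this
  let u₀ : GL (Fin n) F := Matrix.SpecialLinearGroup.toGL ⟨1 + S, hu₀det⟩
  have hu₀ : (u₀ : Matrix (Fin n) (Fin n) F) = 1 + S := rfl
  have hcl : ∀ C : {C : ConjClasses (Matrix.SpecialLinearGroup (Fin n) F) //
      ∃ u : Matrix.SpecialLinearGroup (Fin n) F, ConjClasses.mk u = C ∧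
        ((u : Matrix (Fin n) (Fin n) F) - 1) ^ n = 0 ∧ ((u : Matrix (Fin n) (Fin n) F) - 1).rank = n - 1},
      ∃ (g : GL (Fin n) F) (u : Matrix.SpecialLinearGroup (Fin n) F), ConjClasses.mk u = C.1 ∧
        (Matrix.SpecialLinearGroup.toGL u) = g * u₀ * g⁻¹ := by
    rintro ⟨C, u, hC, hnil, hrk⟩
    obtain ⟨g, hg⟩ := exists_conj_shift (by omega) _ hnil hrk
    refine ⟨g, u, hC, ?_⟩
    rw [eq_mul_inv_iff_mul_eq]
    apply Units.ext
    show (u : Matrix (Fin n) (Fin n) F) * g = (g : Matrix (Fin n) (Fin n) F) * (1 + S)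
    rw [mul_add, mul_one, ← hg, sub_mul, one_mul]
    abel
  choose gC uC hmk hconj using hcl
  let Ψ := fun C => (QuotientGroup.mk (Matrix.GeneralLinearGroup.det (gC C)) : Fˣ ⧸ P)
  have hΨinj : Function.Injective Ψ := by
    intro C C' h
    apply Subtype.ext
    rw [← hmk C, ← hmk C', ConjClasses.mk_eq_mk_iff_isConj, isConj_iff]
    obtain ⟨c, hc⟩ := QuotientGroup.eq.mp h
    have hc' : c ^ n = (Matrix.GeneralLinearGroup.det (gC C))⁻¹ * Matrix.GeneralLinearGroup.det (gC C') := hc
    let z : GL (Fin n) F := Matrix.GeneralLinearGroup.scalar (Fin n) c⁻¹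
    let k : GL (Fin n) F := gC C' * z * (gC C)⁻¹
    have hzdet : Matrix.GeneralLinearGroup.det z = (c ^ n)⁻¹ := by
      apply Units.ext
      simp [z, Matrix.GeneralLinearGroup.scalar, Matrix.det_diagonal]
    have hkdet : Matrix.GeneralLinearGroup.det k = 1 := by
      rw [show k = gC C' * z * (gC C)⁻¹ from rfl, map_mul, map_mul, map_inv, hzdet, hc',
        _root_.mul_inv_rev, inv_inv]
      group
    obtain ⟨h0, hh0⟩ : ∃ h0 : Matrix.SpecialLinearGroup (Fin n) F, Matrix.SpecialLinearGroup.toGL h0 = k :=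
      ⟨⟨k, congrArg Units.val hkdet⟩, Units.ext rfl⟩
    refine ⟨h0, Matrix.SpecialLinearGroup.toGL_injective ?_⟩
    rw [map_mul, map_mul, map_inv, hh0, hconj, hconj]
    have hz : Commute z u₀ := by
      apply Units.ext
      show (z : Matrix (Fin n) (Fin n) F) * (u₀ : Matrix (Fin n) (Fin n) F)
        = (u₀ : Matrix (Fin n) (Fin n) F) * (z : Matrix (Fin n) (Fin n) F)
      exact (Matrix.scalar_commute (↑c⁻¹ : F) (fun _ => Commute.all _ _) _).eq
    calc k * (gC C * u₀ * (gC C)⁻¹) * k⁻¹ = gC C' * (z * u₀ * z⁻¹) * (gC C')⁻¹ := by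
          simp only [k]; group
      _ = _ := by rw [hz.eq, mul_inv_cancel_right]
  have hΨsurj : Function.Surjective Ψ := by
    intro x
    obtain ⟨d, rfl⟩ := QuotientGroup.mk_surjective x
    have hD : IsUnit (Matrix.diagonal (Function.update (1 : Fin n → F) ⟨0, by omega⟩ (d : F))) := by
      rw [Matrix.isUnit_iff_isUnit_det, Matrix.det_diagonal, Finset.prod_update_of_mem (Finset.mem_univ _)]
      simp
    set g := hD.unit
    have hgd : Matrix.GeneralLinearGroup.det g = d := by
      apply Units.ext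
      rw [Matrix.GeneralLinearGroup.val_det_apply, IsUnit.unit_spec, Matrix.det_diagonal,
        Finset.prod_update_of_mem (Finset.mem_univ _)]
      simp
    have hdet : ((g * u₀ * g⁻¹ : GL (Fin n) F) : Matrix (Fin n) (Fin n) F).det = 1 := by
      rw [← Matrix.GeneralLinearGroup.val_det_apply, map_mul, map_mul, map_inv, mul_inv_cancel_comm]
      exact hu₀det
    let u : Matrix.SpecialLinearGroup (Fin n) F := ⟨_, hdet⟩
    have hsub : (u : Matrix (Fin n) (Fin n) F) - 1
        = (g : Matrix (Fin n) (Fin n) F) * S * ((g⁻¹ : GL (Fin n) F) : Matrix (Fin n) (Fin n) F) := by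
      show ((g * u₀ * g⁻¹ : GL (Fin n) F) : Matrix (Fin n) (Fin n) F) - 1 = _
      rw [Units.val_mul, Units.val_mul, hu₀, mul_add, add_mul, mul_one, Units.mul_inv]
      abel
    have hgu : IsUnit ((g : Matrix (Fin n) (Fin n) F)).det := (Matrix.isUnit_iff_isUnit_det _).mp g.isUnit
    have hgu' : IsUnit (((g⁻¹ : GL (Fin n) F) : Matrix (Fin n) (Fin n) F)).det :=
      (Matrix.isUnit_iff_isUnit_det _).mp (Units.isUnit _)
    let C : {C : ConjClasses (Matrix.SpecialLinearGroup (Fin n) F) //
      ∃ u : Matrix.SpecialLinearGroup (Fin n) F, ConjClasses.mk u = C ∧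
        ((u : Matrix (Fin n) (Fin n) F) - 1) ^ n = 0 ∧ ((u : Matrix (Fin n) (Fin n) F) - 1).rank = n - 1} :=
      ⟨ConjClasses.mk u, u, rfl, by
        rw [hsub, Units.conj_pow, shiftMat_pow_eq_zero, mul_zero, zero_mul], by
        rw [hsub, Matrix.rank_mul_eq_left_of_isUnit_det _ _ hgu',
          Matrix.rank_mul_eq_right_of_isUnit_det _ _ hgu, shiftMat_rank F (by omega)]⟩
    refine ⟨C, QuotientGroup.eq.mpr ?_⟩
    obtain ⟨h0, hh0⟩ := isConj_iff.mp (ConjClasses.mk_eq_mk_iff_isConj.mp (hmk C))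
    have hh := congrArg Matrix.SpecialLinearGroup.toGL hh0
    rw [map_mul, map_mul, map_inv, hconj, show Matrix.SpecialLinearGroup.toGL u = g * u₀ * g⁻¹ from
      Units.ext rfl] at hh
    set k := g⁻¹ * Matrix.SpecialLinearGroup.toGL h0 * gC C
    have hk : Commute k u₀ := by
      show k * u₀ = u₀ * k
      calc k * u₀ = g⁻¹ * (Matrix.SpecialLinearGroup.toGL h0 * (gC C * u₀ * (gC C)⁻¹) *
            (Matrix.SpecialLinearGroup.toGL h0)⁻¹) * g * k := by simp only [k]; group
        _ = _ := by rw [hh]; group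
    have hks : Commute S (k : Matrix (Fin n) (Fin n) F) := by
      have h1 : Commute (1 + S) (k : Matrix (Fin n) (Fin n) F) :=
        (congrArg Units.val hk.eq.symm : _)
      have h2 := h1.sub_left (Commute.one_left _)
      rwa [add_sub_cancel_left] at h2
    obtain ⟨c, hc⟩ := det_commute_shift (by omega) _ hks
    have hkd : Matrix.GeneralLinearGroup.det k = d⁻¹ * Matrix.GeneralLinearGroup.det (gC C) := by
      have h1 : Matrix.GeneralLinearGroup.det (Matrix.SpecialLinearGroup.toGL h0) = 1 :=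
        Units.ext h0.2
      simp only [k, map_mul, map_inv, hgd, h1, mul_one]
    have hc0 : c ≠ 0 := by
      intro h0
      rw [h0, zero_pow (by omega)] at hc
      exact ((Matrix.isUnit_iff_isUnit_det _).mp k.isUnit).ne_zero hc
    refine ⟨(Units.mk0 c hc0)⁻¹, ?_⟩
    have hkc : Matrix.GeneralLinearGroup.det k = (Units.mk0 c hc0) ^ n :=
      Units.ext (by rw [Matrix.GeneralLinearGroup.val_det_apply, hc]; simp)
    show ((Units.mk0 c hc0)⁻¹) ^ n = (Matrix.GeneralLinearGroup.det (gC C))⁻¹ * d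
    rw [inv_pow, ← hkc, hkd, _root_.mul_inv_rev, inv_inv]
  rw [Nat.card_congr (Equiv.ofBijective Ψ ⟨hΨinj, hΨsurj⟩), ← Subgroup.index_eq_card,
    IsCyclic.index_powMonoidHom_range, Nat.card_eq_fintype_card, Fintype.card_units, hF,
    Nat.gcd_comm]

end Cfsg.Agent.S2578
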