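import Cfsg.Statements.S2579
import Cfsg.Agent.EqLemmas

set_option autoImplicit false
open Cfsg

namespace Cfsg.Agent.S2579

theorem exists_equiv_apply_eq {F : Type*} [Field F] {U U' : Type*} [AddCommGroup U] [Module F U]
    [AddCommGroup U'] [Module F U'] [FiniteDimensional F U] [FiniteDimensional F U']
    (h : Module.finrank F U = Module.finrank F U') (v : U) (v' : U') (hv : v ≠ 0) (hv' : v' ≠ 0) :
    ∃ σ : U ≃ₗ[F] U', σ v = v' := by
  obtain ⟨C, hC⟩ := Submodule.exists_isCompl (F ∙ v)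
  obtain ⟨C', hC'⟩ := Submodule.exists_isCompl (F ∙ v')
  have hd : Module.finrank F C = Module.finrank F C' := by
    have h1 := Submodule.finrank_add_eq_of_isCompl hC
    have h2 := Submodule.finrank_add_eq_of_isCompl hC'
    rw [finrank_span_singleton hv] at h1
    rw [finrank_span_singleton hv'] at h2
    omega
  let a := (LinearEquiv.toSpanNonzeroSingleton F U v hv).symm.trans
    (LinearEquiv.toSpanNonzeroSingleton F U' v' hv')
  let e := Submodule.prodEquivOfIsCompl _ _ hC
  let e' := Submodule.prodEquivOfIsCompl _ _ hC'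
  refine ⟨e.symm.trans ((a.prodCongr (LinearEquiv.ofFinrankEq C C' hd)).trans e'), ?_⟩
  have h1 : e.symm v = (⟨v, Submodule.mem_span_singleton_self v⟩, 0) :=
    Submodule.prodEquivOfIsCompl_symm_apply_left _ _ hC ⟨v, Submodule.mem_span_singleton_self v⟩
  have h2 : (LinearEquiv.toSpanNonzeroSingleton F U v hv).symm
      ⟨v, Submodule.mem_span_singleton_self v⟩ = 1 := by
    apply (LinearEquiv.toSpanNonzeroSingleton F U v hv).injective
    rw [LinearEquiv.apply_symm_apply]
    exact Subtype.ext (by simp)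
  simp [a, e', h1, h2, LinearEquiv.prodCongr_apply]

theorem transvection_form {F : Type*} [Field F] {n : ℕ} (N : Matrix (Fin n) (Fin n) F)
    (hr : N.rank = 1) (hsq : N * N = 0) :
    ∃ (v a : Fin n → F) (φ : (Fin n → F) →ₗ[F] F), v ≠ 0 ∧ φ v = 0 ∧ φ a = 1 ∧
      ∀ x, N.mulVec x = φ x • v := by
  have hr' : Module.finrank F (LinearMap.range N.mulVecLin) = 1 := hr
  obtain ⟨⟨v, a, hva⟩, hv0, hspan⟩ := finrank_eq_one_iff'.mp hr'
  have hv : v ≠ 0 := fun h => hv0 (Subtype.ext h)
  obtain ⟨ψ, hψ⟩ : ∃ ψ : Module.Dual F (Fin n → F), ψ v = 1 := Module.Projective.exists_dual_eq_one F hv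
  have hx : ∀ x, N.mulVec x = ψ (N.mulVec x) • v := by
    intro x
    obtain ⟨c, hc⟩ := hspan ⟨N.mulVec x, x, rfl⟩
    have hc' : c • v = N.mulVec x := congrArg Subtype.val hc
    rw [← hc', map_smul, hψ, smul_eq_mul, mul_one]
  refine ⟨v, a, ψ.comp N.mulVecLin, hv, ?_, ?_, hx⟩
  · have : N.mulVec v = 0 := by
      rw [← hva, Matrix.mulVecLin_apply, Matrix.mulVec_mulVec, hsq, Matrix.zero_mulVec]
    simp [this]
  · rw [LinearMap.comp_apply, hva, hψ]

/-- In SL_n(F) with n ≥ 3, over a finite field F, any two transvections (matrices t with t − 1 of rank one and square zero) are conjugate by an element of SL_n(F). -/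
theorem result {F : Type*} [Field F] [Finite F] {n : ℕ} (hn : 3 ≤ n) (s t : Matrix.SpecialLinearGroup (Fin n) F) (hs : Cfsg.IsTransvection (s : Matrix (Fin n) (Fin n) F)) (ht : Cfsg.IsTransvection (t : Matrix (Fin n) (Fin n) F)) : IsConj s t := by
  classical
  obtain ⟨v, a, φ, hv, hφv, hφa, hNx⟩ := transvection_form _ hs.1 hs.2
  obtain ⟨v', a', φ', hv', hφv', hφa', hNx'⟩ := transvection_form _ ht.1 ht.2
  have hdimK : ∀ (χ : (Fin n → F) →ₗ[F] F) (b : Fin n → F), χ b = 1 →
      Module.finrank F (LinearMap.ker χ) = n - 1 := by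
    intro χ b hb
    have h1 := LinearMap.finrank_range_add_finrank_ker χ
    have h2 : LinearMap.range χ = ⊤ :=
      LinearMap.range_eq_top.mpr fun c => ⟨c • b, by simp [hb]⟩
    rw [h2, finrank_top, Module.finrank_self, Module.finrank_fin_fun] at h1
    omega
  obtain ⟨σ, hσ⟩ := exists_equiv_apply_eq (U := LinearMap.ker φ) (U' := LinearMap.ker φ')
    ((hdimK φ a hφa).trans (hdimK φ' a' hφa').symm) ⟨v, hφv⟩ ⟨v', hφv'⟩
    (fun h => hv (congrArg Subtype.val h)) (fun h => hv' (congrArg Subtype.val h))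
  let p : (Fin n → F) →ₗ[F] LinearMap.ker φ :=
    (LinearMap.id - φ.smulRight a).codRestrict _ (fun x => by simp [hφa])
  let g : (Fin n → F) →ₗ[F] (Fin n → F) :=
    (LinearMap.ker φ').subtype ∘ₗ (σ : LinearMap.ker φ →ₗ[F] LinearMap.ker φ') ∘ₗ p
      + φ.smulRight a'
  have hp : ∀ x, ((p x : LinearMap.ker φ) : Fin n → F) = x - φ x • a := fun x => rfl
  have hgφ : ∀ x, φ' (g x) = φ x := by
    intro x
    have : φ' ((σ (p x) : LinearMap.ker φ') : Fin n → F) = 0 := (σ (p x)).2
    simp [g, this, hφa']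
  have hgv : g v = v' := by
    have : p v = ⟨v, hφv⟩ := Subtype.ext (by simp [hp, hφv])
    simp [g, this, hσ, hφv]
  have hginj : Function.Injective g := by
    rw [← LinearMap.ker_eq_bot, LinearMap.ker_eq_bot']
    intro x hx
    have h0 : φ x = 0 := by rw [← hgφ, hx, map_zero]
    have h1 : σ (p x) = 0 := by
      apply Subtype.ext
      simpa [g, h0] using hx
    have h2 := congrArg Subtype.val ((LinearEquiv.map_eq_zero_iff σ).mp h1)
    rw [hp, h0, zero_smul, sub_zero] at h2
    exact h2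
  have hdg : LinearMap.det g ≠ 0 :=
    (LinearEquiv.isUnit_det' (LinearEquiv.ofInjectiveEndo g hginj)).ne_zero
  -- a vector of `ker φ'` outside the line of `v'`, with a functional
  obtain ⟨w, hw, hwv⟩ : ∃ w, φ' w = 0 ∧ w ∉ F ∙ v' := by
    by_contra hcon
    push Not at hcon
    have hle : LinearMap.ker φ' ≤ F ∙ v' := fun x hx => hcon x hx
    have := Submodule.finrank_mono hle
    rw [hdimK φ' a' hφa', finrank_span_singleton hv'] at this
    omega
  obtain ⟨ψ₀, hψw₀, hψv'⟩ := Submodule.exists_dual_map_eq_bot_of_notMem hwv inferInstance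
  have hψv₀ : ψ₀ v' = 0 := by
    have h : ψ₀ v' ∈ (F ∙ v').map ψ₀ := Submodule.mem_map_of_mem (Submodule.mem_span_singleton_self v')
    rw [hψv'] at h
    exact (Submodule.mem_bot F).mp h
  let ψ := (ψ₀ w)⁻¹ • ψ₀
  have hψw : ψ w = 1 := by simp [ψ, hψw₀]
  have hψv : ψ v' = 0 := by simp [ψ, hψv₀]
  set d := (LinearMap.det g)⁻¹
  let h : (Fin n → F) →ₗ[F] (Fin n → F) := LinearMap.id + ((d - 1) • ψ).smulRight w
  have hhv : h v' = v' := by simp [h, hψv]
  have hhφ : ∀ x, φ' (h x) = φ' x := fun x => by simp [h, hw]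
  have hdh : LinearMap.det h = d := by
    rw [← LinearMap.det_toMatrix' h]
    have hM : LinearMap.toMatrix' h = 1 + Matrix.vecMulVec w
        (fun j => (d - 1) * ψ (Pi.single j 1)) := by
      ext i j
      simp [h, LinearMap.toMatrix'_apply, Matrix.vecMulVec_apply, Matrix.one_apply, Pi.single_apply,
        mul_comm]
    rw [hM, Matrix.vecMulVec_eq Unit, Matrix.det_one_add_replicateCol_mul_replicateRow]
    have hdot : ∑ j, (d - 1) * ψ (Pi.single j 1) * w j = (d - 1) * ψ w := by
      conv_rhs => rw [pi_eq_sum_univ' w, map_sum]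
      rw [Finset.mul_sum]
      refine Finset.sum_congr rfl fun j _ => ?_
      rw [map_smul, smul_eq_mul]; ring
    rw [dotProduct, hdot, hψw]; ring
  set C := LinearMap.toMatrix' (h ∘ₗ g) with hC
  have hCdet : C.det = 1 := by
    rw [hC, LinearMap.det_toMatrix', LinearMap.det_comp, hdh]
    exact inv_mul_cancel₀ hdg
  let c : Matrix.SpecialLinearGroup (Fin n) F := ⟨C, hCdet⟩
  refine ⟨toUnits c, ?_⟩
  show c * s = t * c
  apply Subtype.ext
  show C * (s : Matrix (Fin n) (Fin n) F) = (t : Matrix (Fin n) (Fin n) F) * C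
  have hkey : C * ((s : Matrix (Fin n) (Fin n) F) - 1)
      = ((t : Matrix (Fin n) (Fin n) F) - 1) * C := by
    apply Matrix.ext_of_mulVec_single
    intro i
    rw [← Matrix.mulVec_mulVec, ← Matrix.mulVec_mulVec, hNx, hNx', hC,
      LinearMap.toMatrix'_mulVec, LinearMap.toMatrix'_mulVec, LinearMap.comp_apply,
      LinearMap.comp_apply, map_smul, map_smul, hgv, hhv, hhφ, hgφ]
  rw [mul_sub, sub_mul, mul_one, one_mul, sub_left_inj] at hkey
  exact hkey

end Cfsg.Agent.S2579
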