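import Cfsg.Statements.S2581
import Cfsg.Agent.EqLemmas
import Cfsg.Agent.Lib.Jordan.Centralizer

set_option autoImplicit false
open Cfsg

namespace Cfsg.Agent.S2581
theorem jordanType_eq {F : Type*} [Field F] {t : ℕ} (d : Fin t → ℕ) :
    Cfsg.jordanTypeMatrix d F = 1 + Jordan.NT F d := by
  ext ⟨l, i⟩ ⟨k, j⟩
  rw [Matrix.add_apply, Jordan.NT_apply, Cfsg.jordanTypeMatrix]
  by_cases h : l = k
  · subst h
    rw [Matrix.blockDiagonal'_apply_eq, Matrix.one_apply]
    simp only [Cfsg.jordanBlock, Matrix.of_apply, Jordan.mk_eq_mk, true_and]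
    by_cases h1 : (i : ℕ) = j
    · rw [if_pos h1, if_pos h1, if_neg (by omega), add_zero]
    · rw [if_neg h1, if_neg h1, zero_add]
  · rw [Matrix.blockDiagonal'_apply_ne _ _ _ h, Matrix.one_apply, if_neg (fun e => h (Jordan.mk_eq_mk.mp e).1), if_neg (fun e => h e.1), add_zero]

/-- The double sum splits along the diagonal. -/
theorem sum_min_split (a : ℕ → ℕ) (R : ℕ) (h0 : a 0 = 0) :
    (∑ i ∈ Finset.range R, ∑ j ∈ Finset.range R, a i * a j * min i j) =
      (2 * (∑ i ∈ Finset.range R, ∑ j ∈ Finset.range R, if i < j then i * a i * a j else 0) +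
        ∑ i ∈ Finset.range R, (i - 1) * a i ^ 2) + ∑ i ∈ Finset.range R, a i ^ 2 := by
  have hdiag : (∑ i ∈ Finset.range R, (i - 1) * a i ^ 2) + ∑ i ∈ Finset.range R, a i ^ 2 =
      ∑ i ∈ Finset.range R, ∑ j ∈ Finset.range R, if i = j then i * a i * a j else 0 := by
    rw [← Finset.sum_add_distrib]
    refine Finset.sum_congr rfl fun i hi => ?_
    rw [Finset.sum_ite_eq, if_pos hi]
    rcases Nat.eq_zero_or_pos i with rfl | hpos
    · simp [h0]
    · obtain ⟨m, rfl⟩ : ∃ m, i = m + 1 := ⟨i - 1, by omega⟩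
      rw [Nat.add_sub_cancel]; ring
  have hswap : (∑ i ∈ Finset.range R, ∑ j ∈ Finset.range R, if i < j then i * a i * a j else 0) =
      ∑ i ∈ Finset.range R, ∑ j ∈ Finset.range R, if j < i then j * a j * a i else 0 := Finset.sum_comm
  rw [add_assoc, hdiag, two_mul]
  conv_rhs => arg 1; arg 2; rw [hswap]
  rw [← Finset.sum_add_distrib, ← Finset.sum_add_distrib]
  refine Finset.sum_congr rfl fun i _ => ?_
  rw [← Finset.sum_add_distrib, ← Finset.sum_add_distrib]
  refine Finset.sum_congr rfl fun j _ => ?_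
  rcases lt_trichotomy i j with h | rfl | h
  · rw [if_pos h, if_neg (by omega), if_neg (by omega), min_eq_left h.le]; ring
  · simp; ring
  · rw [if_neg (by omega), if_pos h, if_neg (by omega), min_eq_right h.le]; ring


/-- Order of the centraliser in GL of a unipotent matrix of given Jordan type over the field with q elements: if the type has a_i blocks of size i (all block sizes at least 1), the invertible matrices commuting with it number q^γ · Π_i |GL_(a_i)(q)| with γ = 2 Σ_(i<j) i a_i a_j + Σ_i (i − 1) a_i² (a group of order q^γ extended by Π GL_(a_i)(q)). -/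
theorem result {F : Type*} [Field F] [Fintype F] {q : ℕ} (hF : Fintype.card F = q) {t : ℕ} (d : Fin t → ℕ) (hd : ∀ k, 1 ≤ d k) : Nat.card {g : GL ((k : Fin t) × Fin (d k)) F // (g : Matrix ((k : Fin t) × Fin (d k)) ((k : Fin t) × Fin (d k)) F) * Cfsg.jordanTypeMatrix d F = Cfsg.jordanTypeMatrix d F * (g : Matrix ((k : Fin t) × Fin (d k)) ((k : Fin t) × Fin (d k)) F)} = q ^ (2 * (∑ i ∈ Finset.range (Finset.univ.sup d + 1), ∑ j ∈ Finset.range (Finset.univ.sup d + 1), if i < j then i * (Finset.univ.filter (fun k : Fin t => d k = i)).card * (Finset.univ.filter (fun k : Fin t => d k = j)).card else 0) + ∑ i ∈ Finset.range (Finset.univ.sup d + 1), (i - 1) * (Finset.univ.filter (fun k : Fin t => d k = i)).card ^ 2) * ∏ i ∈ Finset.range (Finset.univ.sup d + 1), ∏ j : Fin ((Finset.univ.filter (fun k : Fin t => d k = i)).card), (q ^ (Finset.univ.filter (fun k : Fin t => d k = i)).card - q ^ (j : ℕ)) := by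
  classical
  let R := Finset.univ.sup d + 1
  let a : ℕ → ℕ := fun i => (Finset.univ.filter (fun k : Fin t => d k = i)).card
  have ha : ∀ D, Fintype.card (Jordan.Fib d D) = a D := fun D => by simp [Jordan.Fib, a, Fintype.card_subtype]
  have hmem : ∀ k, d k ∈ Finset.range R := fun k =>
    Finset.mem_range.mpr (Nat.lt_succ_of_le (Finset.le_sup (f := d) (Finset.mem_univ k)))
  have hfib : ∀ f : ℕ → ℕ, (∑ k, f (d k)) = ∑ i ∈ Finset.range R, a i * f i := by
    intro f
    rw [← Finset.sum_fiberwise_of_maps_to (fun k _ => hmem k)]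
    refine Finset.sum_congr rfl fun i _ => ?_
    rw [Finset.sum_congr rfl (fun k hk => by rw [(Finset.mem_filter.mp hk).2]), Finset.sum_const, smul_eq_mul]
  have hS : Fintype.card (Jordan.Idx d) = ∑ i ∈ Finset.range R, ∑ j ∈ Finset.range R, a i * a j * min i j := by
    simp only [Jordan.Idx, Fintype.card_sigma, Fintype.card_fin]
    rw [hfib (fun i => ∑ l, min i (d l))]
    refine Finset.sum_congr rfl fun i _ => ?_
    rw [hfib (fun j => min i j), Finset.mul_sum]
    exact Finset.sum_congr rfl fun j _ => by ring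
  have himg : ∀ D ∈ Finset.range R, D ∉ Finset.univ.image d → a D = 0 := by
    intro D _ hD
    exact Finset.card_eq_zero.mpr (Finset.filter_eq_empty_iff.mpr fun k _ hk => hD (Finset.mem_image.mpr ⟨k, Finset.mem_univ k, hk⟩))
  have hsub : Finset.univ.image d ⊆ Finset.range R := fun D hD => by
    obtain ⟨k, -, rfl⟩ := Finset.mem_image.mp hD; exact hmem k
  have hP : Fintype.card {s : Jordan.Idx d // Jordan.IsDiag d s} = ∑ i ∈ Finset.range R, a i ^ 2 := by
    rw [Fintype.card_congr (Jordan.diagEquiv d hd), Fintype.card_sigma]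
    simp only [Fintype.card_prod, ha, ← sq]
    rw [← Finset.sum_subset hsub (fun D h1 h2 => by rw [himg D h1 h2]; rfl), Finset.sum_coe_sort (Finset.univ.image d) (fun D => a D ^ 2)]
  have h0 : a 0 = 0 := Finset.card_eq_zero.mpr (Finset.filter_eq_empty_iff.mpr fun k _ hk => by have := hd k; omega)
  have key := sum_min_split a R h0
  have hcongr : Nat.card {g : GL ((k : Fin t) × Fin (d k)) F // (g : Matrix ((k : Fin t) × Fin (d k)) ((k : Fin t) × Fin (d k)) F) * Cfsg.jordanTypeMatrix d F = Cfsg.jordanTypeMatrix d F * (g : Matrix ((k : Fin t) × Fin (d k)) ((k : Fin t) × Fin (d k)) F)} = Nat.card {g : GL ((k : Fin t) × Fin (d k)) F // (g : Matrix ((k : Fin t) × Fin (d k)) ((k : Fin t) × Fin (d k)) F) * Jordan.NT F d = Jordan.NT F d * (g : Matrix ((k : Fin t) × Fin (d k)) ((k : Fin t) × Fin (d k)) F)} :=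
    Nat.card_congr (Equiv.subtypeEquivRight fun g => by rw [jordanType_eq, mul_add, add_mul, one_mul, mul_one, add_right_inj])
  rw [hcongr, Jordan.card_centralizer d hd, Fintype.card_subtype_compl, hP, hS, key, Nat.add_sub_cancel,
    Nat.card_eq_fintype_card (α := F), hF]
  congr 1
  have hGL : ∀ D, Nat.card (GL (Fin (Fintype.card (Jordan.Fib d D))) F) = ∏ i : Fin (a D), (q ^ a D - q ^ (i : ℕ)) :=
    fun D => by rw [ha D, Matrix.card_GL_field, hF]
  simp only [hGL]
  refine Eq.trans (Finset.prod_coe_sort (Finset.univ.image d) (fun D => ∏ i : Fin (a D), (q ^ a D - q ^ (i : ℕ)))) ?_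
  refine Finset.prod_subset hsub fun D h1 h2 => ?_
  rw [himg D h1 h2]
  simp

end Cfsg.Agent.S2581
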