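import Cfsg.Statements.S2582
import Cfsg.Agent.Lib.Forms.UnipotentModels
import Cfsg.Agent.EqLemmas

set_option autoImplicit false
open Cfsg Cfsg.Agent Cfsg.Agent.Forms.Unip Module

namespace Cfsg.Agent.S2582

/-- Which unipotent Jordan types occur in the finite symplectic group: over a finite field, a unipotent matrix with Jordan block sizes d_1, …, d_t (sum 2m, all at least 1) is similar to an element of Sp_2m(F) if and only if every odd block size occurs an even number of times. -/
theorem result {F : Type*} [Field F] [Fintype F] {m t : ℕ} (d : Fin t → ℕ) (hd : ∀ k, 1 ≤ d k) (hsum : ∑ k, d k = 2 * m) : (∃ e : ((k : Fin t) × Fin (d k)) ≃ (Fin m ⊕ Fin m), ∃ A : Matrix.symplecticGroup (Fin m) F, IsConj (Matrix.reindex e e (Cfsg.jordanTypeMatrix d F)) (A : Matrix (Fin m ⊕ Fin m) (Fin m ⊕ Fin m) F)) ↔ ∀ j : ℕ, Odd j → Even (Finset.univ.filter (fun k : Fin t => d k = j)).card := by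
  classical
  have hcount : ∀ j, (Finset.univ.filter fun k : Fin t => d k = j).card
      = (Finset.univ.val.map d).count j := fun j => by
    rw [Multiset.count_map]
    simp only [eq_comm, Finset.card_def, Finset.filter_val]
  constructor
  · rintro ⟨e, A, hA⟩ j hj
    obtain ⟨i, rfl⟩ : ∃ i, j = i + 1 := ⟨j - 1, by rw [Nat.odd_iff] at hj; omega⟩
    have hi : Even i := by rw [Nat.odd_iff] at hj; rw [Nat.even_iff]; omega
    let g : GL (Fin m ⊕ Fin m) F := (toUnits A).map (Matrix.symplecticGroup (Fin m) F).subtype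
    have hf : ∀ x y, GLOrder.sympB m F (Forms.glLinEquiv g x) (Forms.glLinEquiv g y)
        = GLOrder.sympB m F x y := fun x y => GLOrder.sympB_mulVec A x y
    have halt : (GLOrder.sympB m F).IsAlt := GLOrder.sympB_self
    have hnd : (GLOrder.sympB m F).Nondegenerate :=
      ⟨GLOrder.sympB_nondeg, fun v hv => GLOrder.sympB_nondeg v fun u => by
        rw [GLOrder.sympB_swap, hv, neg_zero]⟩
    have h := even_rank_pair (GLOrder.sympB m F) hnd (LinearMap.IsAlt.isRefl halt) hf i
      (alt_of_isAlt (GLOrder.sympB m F) hf halt hi)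
    rw [nilPart_range_pow (A : Matrix (Fin m ⊕ Fin m) (Fin m ⊕ Fin m) F) _ (fun x => rfl),
      nilPart_range_pow (A : Matrix (Fin m ⊕ Fin m) (Fin m ⊕ Fin m) F) _ (fun x => rfl),
      rank_eq_of_similar d e hA, rank_eq_of_similar d e hA] at h
    exact even_count_of_rank d i h
  · intro hpar
    have hr := realizes_of_parity (ε := (-1 : F)) (by ring) (fun a => Even a ∧ 1 ≤ a)
      (fun a ha => by
        obtain ⟨l, hl⟩ := ha.1
        obtain ⟨l', rfl⟩ : ∃ l', a = 2 * (l' + 1) := ⟨l - 1, by omega⟩
        exact realizes_single_even l')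
      (Finset.univ.val.map d) (fun a ha hgood => by
        obtain ⟨k, -, rfl⟩ := Multiset.mem_map.1 ha
        rw [← hcount]
        exact hpar _ (Nat.not_even_iff_odd.1 fun he => hgood ⟨he, hd k⟩))
    obtain ⟨A, hA⟩ := exists_symplectic_of_realizes (m := m) hr hsum
    obtain ⟨e, he⟩ := similar_of_ranks d hd (A : Matrix (Fin m ⊕ Fin m) (Fin m ⊕ Fin m) F) fun r => by
      rw [hA r, Multiset.map_map]; rfl
    exact ⟨e, A, he⟩

end Cfsg.Agent.S2582
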