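import Cfsg.Statements.S2583
import Cfsg.Agent.Lib.Forms.UnipotentModels
import Cfsg.Agent.EqLemmas

set_option autoImplicit false
open Cfsg Cfsg.Agent Cfsg.Agent.Forms.Unip Module

namespace Cfsg.Agent.S2583

/-- Which unipotent Jordan types occur in a finite orthogonal group in odd characteristic: over a finite field of odd order, a unipotent matrix with Jordan block sizes d_1, …, d_t (sum n, all at least 1) is similar to an isometry of some quadratic form on F^n with non-degenerate polar form if and only if every even block size occurs an even number of times. -/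
theorem result {F : Type*} [Field F] [Fintype F] (h2 : (2 : F) ≠ 0) {n t : ℕ} (d : Fin t → ℕ) (hd : ∀ k, 1 ≤ d k) (hsum : ∑ k, d k = n) : (∃ Q : QuadraticForm F (Fin n → F), (QuadraticMap.polarBilin Q).Nondegenerate ∧ ∃ e : ((k : Fin t) × Fin (d k)) ≃ Fin n, ∃ A : ↥(Cfsg.isometryGroup F ⇑Q), IsConj (Matrix.reindex e e (Cfsg.jordanTypeMatrix d F)) ((A : Matrix.GeneralLinearGroup (Fin n) F) : Matrix (Fin n) (Fin n) F)) ↔ ∀ j : ℕ, Even j → 0 < j → Even (Finset.univ.filter (fun k : Fin t => d k = j)).card := by
  classical
  have hcount : ∀ j, (Finset.univ.filter fun k : Fin t => d k = j).card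
      = (Finset.univ.val.map d).count j := fun j => by
    rw [Multiset.count_map]
    simp only [eq_comm, Finset.card_def, Finset.filter_val]
  constructor
  · rintro ⟨Q, hQ, e, A, hA⟩ j hj hj0
    obtain ⟨i, rfl⟩ : ∃ i, j = i + 1 := ⟨j - 1, by omega⟩
    have hi : Odd i := by rw [Nat.even_iff] at hj; rw [Nat.odd_iff]; omega
    set B : LinearMap.BilinForm F (Fin n → F) := QuadraticMap.polarBilin Q with hB
    have hs : ∀ x y, B x y = B y x := fun x y => QuadraticMap.polar_comm _ x y
    have hf : ∀ x y, B (Forms.glLinEquiv (A : GL (Fin n) F) x) (Forms.glLinEquiv (A : GL (Fin n) F) y) = B x y :=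
      fun x y => Forms.polar_map_of_preserving (g := Forms.glLinEquiv (A : GL (Fin n) F))
        (fun v => A.2 v v) x y
    have h := even_rank_pair B hQ (fun x y h => (hs y x).trans h) hf i
      (alt_of_symm B hf h2 hs hi)
    rw [nilPart_range_pow ((A : GL (Fin n) F) : Matrix (Fin n) (Fin n) F) _ (fun x => rfl),
      nilPart_range_pow ((A : GL (Fin n) F) : Matrix (Fin n) (Fin n) F) _ (fun x => rfl),
      rank_eq_of_similar d e hA, rank_eq_of_similar d e hA] at h
    exact even_count_of_rank d i h
  · intro hpar
    have hr := realizes_of_parity (ε := (1 : F)) (by ring) (fun a => Odd a)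
      (fun a ha => by
        obtain ⟨k, rfl⟩ := ha
        exact realizes_single_odd h2 k)
      (Finset.univ.val.map d) (fun a ha hgood => by
        obtain ⟨k, -, rfl⟩ := Multiset.mem_map.1 ha
        rw [← hcount]
        exact hpar _ (Nat.not_odd_iff_even.1 hgood) (hd k))
    obtain ⟨Q, C, hQ, hC, hCr⟩ := exists_quadratic_of_realizes h2 (n := n) hr hsum
    obtain ⟨e, he⟩ := similar_of_ranks d hd C fun r => by rw [hCr r, Multiset.map_map]; rfl
    have hinj : Function.Injective C.mulVec := by
      refine (injective_iff_map_eq_zero C.mulVecLin).2 fun v hv => ?_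
      have hv' : C.mulVec v = 0 := hv
      refine hQ.1 v fun w => ?_
      have h0 : QuadraticMap.polar Q (C.mulVec v) (C.mulVec w) = QuadraticMap.polar Q v w := by
        simp only [QuadraticMap.polar, ← Matrix.mulVec_add, hC]
      rw [hv', QuadraticMap.polar_zero_left] at h0
      exact h0.symm
    obtain ⟨g, hg⟩ := Matrix.mulVec_injective_iff_isUnit.1 hinj
    exact ⟨Q, hQ, e, ⟨g, fun u _ => by
      show Q ((g : Matrix (Fin n) (Fin n) F).mulVec u) = Q u
      rw [hg, hC]⟩, by rw [hg]; exact he⟩

end Cfsg.Agent.S2583
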