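import Cfsg.Statements.S2584
import Cfsg.Agent.Lib.Forms.UnipotentModels
import Cfsg.Agent.S2582
import Cfsg.Agent.S2585

set_option autoImplicit false
open Cfsg Cfsg.Agent Cfsg.Agent.Forms.Unip Module

namespace Cfsg.Agent.S2584

/-- Which unipotent Jordan types occur in a finite orthogonal group in characteristic two: over a finite field of characteristic 2 and in even dimension 2m, a unipotent matrix with Jordan block sizes d_1, …, d_t (sum 2m, all at least 1) is similar to an isometry of some quadratic form on F^(2m) with non-degenerate polar form if and only if every odd block size occurs an even number of times (the same condition as for the symplectic group, which contains these orthogonal groups). -/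
theorem result {F : Type*} [Field F] [Fintype F] [CharP F 2] {m t : ℕ} (d : Fin t → ℕ) (hd : ∀ k, 1 ≤ d k) (hsum : ∑ k, d k = 2 * m) : (∃ Q : QuadraticForm F (Fin (2 * m) → F), (QuadraticMap.polarBilin Q).Nondegenerate ∧ ∃ e : ((k : Fin t) × Fin (d k)) ≃ Fin (2 * m), ∃ A : ↥(Cfsg.isometryGroup F ⇑Q), IsConj (Matrix.reindex e e (Cfsg.jordanTypeMatrix d F)) ((A : Matrix.GeneralLinearGroup (Fin (2 * m)) F) : Matrix (Fin (2 * m)) (Fin (2 * m)) F)) ↔ ∀ j : ℕ, Odd j → Even (Finset.univ.filter (fun k : Fin t => d k = j)).card := by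
  classical
  constructor
  · rintro ⟨Q, hQ, e, A, hA⟩ j hj
    obtain ⟨i, rfl⟩ : ∃ i, j = i + 1 := ⟨j - 1, by rw [Nat.odd_iff] at hj; omega⟩
    have hi : Even i := by rw [Nat.odd_iff] at hj; rw [Nat.even_iff]; omega
    set B : LinearMap.BilinForm F (Fin (2 * m) → F) := QuadraticMap.polarBilin Q with hB
    have halt : B.IsAlt := fun x => by
      rw [hB, QuadraticMap.polarBilin_apply_apply, QuadraticMap.polar_self, two_nsmul,
        CharTwo.add_self_eq_zero]
    have hf : ∀ x y, B (Forms.glLinEquiv (A : GL (Fin (2 * m)) F) x) (Forms.glLinEquiv (A : GL (Fin (2 * m)) F) y) = B x y :=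
      fun x y => Forms.polar_map_of_preserving (g := Forms.glLinEquiv (A : GL (Fin (2 * m)) F))
        (fun v => A.2 v v) x y
    have h := even_rank_pair B hQ (LinearMap.IsAlt.isRefl halt) hf i (alt_of_isAlt B hf halt hi)
    rw [nilPart_range_pow ((A : GL (Fin (2 * m)) F) : Matrix (Fin (2 * m)) (Fin (2 * m)) F) _ (fun x => rfl),
      nilPart_range_pow ((A : GL (Fin (2 * m)) F) : Matrix (Fin (2 * m)) (Fin (2 * m)) F) _ (fun x => rfl),
      rank_eq_of_similar d e hA, rank_eq_of_similar d e hA] at h
    exact even_count_of_rank d i h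
  · intro hpar
    obtain ⟨e, A, hA⟩ := (S2582.result (F := F) d hd hsum).2 hpar
    obtain ⟨Q, hQ, hAQ⟩ := S2585.result A
    let σ : Fin m ⊕ Fin m ≃ Fin (2 * m) := finSumFinEquiv.trans (finCongr (two_mul m).symm)
    let L : (Fin (2 * m) → F) ≃ₗ[F] (Fin m ⊕ Fin m → F) := LinearEquiv.funCongrLeft F F σ
    let Q' : QuadraticForm F (Fin (2 * m) → F) := Q.comp L.toLinearMap
    let φ := Matrix.reindexAlgEquiv F F σ
    let g : GL (Fin (2 * m)) F := Units.map φ.toMulEquiv.toMonoidHom
      ((toUnits A).map (Matrix.symplecticGroup (Fin m) F).subtype)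
    have hg : ∀ v, L ((g : Matrix (Fin (2 * m)) (Fin (2 * m)) F).mulVec v)
        = (A : Matrix (Fin m ⊕ Fin m) (Fin m ⊕ Fin m) F).mulVec (L v) := fun v => by
      funext i
      show (g : Matrix (Fin (2 * m)) (Fin (2 * m)) F).mulVec v (σ i) = _
      simp only [Matrix.mulVec, dotProduct]
      rw [← σ.sum_comp]
      simp [g, φ, L, LinearEquiv.funCongrLeft_apply]
    refine ⟨Q', ?_, e.trans σ, ⟨g, fun u _ => ?_⟩, ?_⟩
    · rw [Forms.nondegenerate_polarBilin_iff]
      intro x hx
      refine L.map_eq_zero_iff.1 (GLOrder.sympB_nondeg _ fun y => ?_)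
      have h := hx (L.symm y)
      simp only [QuadraticMap.polar, Q', QuadraticMap.comp_apply, map_add, LinearEquiv.coe_coe,
        L.apply_symm_apply] at h
      rw [GLOrder.sympB_eq_neg_sympForm, ← hQ, QuadraticMap.polar, h, neg_zero]
    · show Q (L ((g : Matrix (Fin (2 * m)) (Fin (2 * m)) F).mulVec u)) = Q (L u)
      rw [hg, hAQ]
    · have h := MonoidHom.map_isConj φ.toMulEquiv.toMonoidHom hA
      exact h

end Cfsg.Agent.S2584
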