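import Cfsg.Statements.S2586
import Cfsg.Agent.EqLemmas
import Cfsg.Agent.S2580

set_option autoImplicit false
open Cfsg

namespace Cfsg.Agent.S2586

/-- Over a finite field, every element of the symplectic group Sp_2m(F) is conjugate by an invertible matrix to its inverse. -/
theorem result {F : Type*} [Field F] [Finite F] {m : ℕ} (A : Matrix.symplecticGroup (Fin m) F) : IsConj (A : Matrix (Fin m ⊕ Fin m) (Fin m ⊕ Fin m) F) ((A⁻¹ : Matrix.symplecticGroup (Fin m) F) : Matrix (Fin m ⊕ Fin m) (Fin m ⊕ Fin m) F) := by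
  classical
  have hJ : IsUnit (Matrix.J (Fin m) F) :=
    (Matrix.isUnit_iff_isUnit_det _).mpr (Matrix.isUnit_det_J (Fin m) F)
  refine (S2580.isConj_transpose _).trans (IsConj.symm ⟨hJ.unit, ?_⟩)
  show (Matrix.J (Fin m) F) * ((A⁻¹ : Matrix.symplecticGroup (Fin m) F) : Matrix (Fin m ⊕ Fin m) (Fin m ⊕ Fin m) F)
    = (A : Matrix (Fin m ⊕ Fin m) (Fin m ⊕ Fin m) F).transpose * (Matrix.J (Fin m) F)
  symm
  have h := SymplecticGroup.mem_iff'.mp A.2
  have h2 : (A : Matrix (Fin m ⊕ Fin m) (Fin m ⊕ Fin m) F) * ((A⁻¹ : Matrix.symplecticGroup (Fin m) F) : Matrix (Fin m ⊕ Fin m) (Fin m ⊕ Fin m) F) = 1 :=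
    congrArg Subtype.val (mul_inv_cancel A)
  calc (A : Matrix (Fin m ⊕ Fin m) (Fin m ⊕ Fin m) F).transpose * (Matrix.J (Fin m) F)
      = (A : Matrix (Fin m ⊕ Fin m) (Fin m ⊕ Fin m) F).transpose * (Matrix.J (Fin m) F) * ((A : Matrix (Fin m ⊕ Fin m) (Fin m ⊕ Fin m) F) *
        ((A⁻¹ : Matrix.symplecticGroup (Fin m) F) : Matrix (Fin m ⊕ Fin m) (Fin m ⊕ Fin m) F)) := by rw [h2, mul_one]
    _ = _ := by rw [← mul_assoc, h]

end Cfsg.Agent.S2586
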