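import Cfsg.Statements.S2589
import Cfsg.Agent.Lib.Forms.IsoConj
import Cfsg.Agent.Lib.GLOrder.Symplectic

set_option autoImplicit false
open Cfsg

namespace Cfsg.Agent.S2589

/-- Two semisimple elements of the finite symplectic group Sp_2m(F) (elements of order prime to the characteristic) are conjugate in Sp_2m(F) if and only if they are conjugate in GL_2m(F). -/
theorem result {F : Type*} [Field F] [Fintype F] {p : ℕ} [Fact p.Prime] [CharP F p] {m : ℕ} (A B : Matrix.symplecticGroup (Fin m) F) (hA : (orderOf A).Coprime p) : IsConj A B ↔ IsConj (A : Matrix (Fin m ⊕ Fin m) (Fin m ⊕ Fin m) F) (B : Matrix (Fin m ⊕ Fin m) (Fin m ⊕ Fin m) F) := by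
  classical
  let ι := (Units.map (Matrix.symplecticGroup (Fin m) F).subtype).comp
    (toUnits (G := ↥(Matrix.symplecticGroup (Fin m) F))).toMonoidHom
  have hι : ∀ X, ((ι X : Matrix.GeneralLinearGroup (Fin m ⊕ Fin m) F) : Matrix _ _ F) = X.1 :=
    fun X => rfl
  constructor
  · intro h
    exact MonoidHom.map_isConj (Matrix.symplecticGroup (Fin m) F).subtype h
  · rintro ⟨c, hc⟩
    have hcA : c * ι A = ι B * c := Units.ext hc
    have hgA : Forms.glLinEquiv c * Forms.glLinEquiv (ι A)
        = Forms.glLinEquiv (ι B) * Forms.glLinEquiv c := by rw [← map_mul, ← map_mul, hcA]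
    obtain ⟨N, hN⟩ : ∃ N, orderOf A = N + 1 :=
      ⟨orderOf A - 1, by have := orderOf_pos A; omega⟩
    have hA1 : ι A ^ (N + 1) = 1 := by rw [← map_pow, ← hN, pow_orderOf_eq_one, map_one]
    have hB1 : ι B ^ (N + 1) = 1 := by
      rw [show ι B = c * ι A * c⁻¹ by rw [hcA, mul_inv_cancel_right], conj_pow, hA1, mul_one,
        mul_inv_cancel]
    have hp : p.Prime := Fact.out
    have hpres : ∀ X, ∀ u v, GLOrder.sympB m F (Forms.glLinEquiv (ι X) u) (Forms.glLinEquiv (ι X) v)
        = GLOrder.sympB m F u v := fun X u v => GLOrder.sympB_mulVec X u v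
    obtain ⟨h, hh, hhA⟩ := Forms.alternating_conj (GLOrder.sympB m F)
      ⟨GLOrder.sympB_nondeg, fun u hu => GLOrder.sympB_nondeg u fun v => by
        rw [GLOrder.sympB_swap, hu v, neg_zero]⟩
      (fun u => GLOrder.sympB_self u) (Forms.glLinEquiv (ι A)) (Forms.glLinEquiv (ι B))
      (Forms.glLinEquiv c) (hpres A) (hpres B) (fun v => LinearEquiv.congr_fun hgA v) (N := N)
      (by rw [← map_pow, hA1, map_one]) (by rw [← map_pow, hB1, map_one])
      (by rw [← hN, Ne, CharP.cast_eq_zero_iff F p]; exact hp.coprime_iff_not_dvd.1 hA.symm)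
    have hmv : ∀ v, ((Forms.glLinEquiv.symm h : Matrix.GeneralLinearGroup (Fin m ⊕ Fin m) F)
        : Matrix _ _ F).mulVec v = h v := fun v => by
      rw [← Forms.glLinEquiv_apply, MulEquiv.apply_symm_apply]
    let H : ↥(Matrix.symplecticGroup (Fin m) F) :=
      ⟨((Forms.glLinEquiv.symm h : Matrix.GeneralLinearGroup (Fin m ⊕ Fin m) F) : Matrix _ _ F),
        (GLOrder.mem_symplecticGroup_iff_preserves _).2 fun u v => by rw [hmv, hmv]; exact hh u v⟩
    have hH : Forms.glLinEquiv (ι H) = h := by
      have : ι H = Forms.glLinEquiv.symm h := Units.ext (hι H)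
      rw [this, MulEquiv.apply_symm_apply]
    have hHA : H * A = B * H := by
      have h' : ι (H * A) = ι (B * H) := by
        apply Forms.glLinEquiv.injective
        rw [map_mul, map_mul, map_mul, map_mul, hH]
        exact LinearEquiv.ext hhA
      exact Subtype.ext (congrArg Units.val h')
    exact isConj_iff.2 ⟨H, by rw [hHA, mul_inv_cancel_right]⟩

end Cfsg.Agent.S2589
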