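import Cfsg.Statements.S2590
import Cfsg.Agent.Lib.Forms.IsoConj

set_option autoImplicit false
open Cfsg

namespace Cfsg.Agent.S2590

/-- Two semisimple elements of odd order of a finite orthogonal group (isometry group of a quadratic form on F^n with non-degenerate polar form, F finite of characteristic p; the elements have odd order prime to p) are conjugate in the orthogonal group if and only if they are conjugate in GL_n(F). -/
theorem result {F : Type*} [Field F] [Fintype F] {p : ℕ} [Fact p.Prime] [CharP F p] {n : ℕ} (Q : QuadraticForm F (Fin n → F)) (hQ : (QuadraticMap.polarBilin Q).Nondegenerate) (A B : ↥(Cfsg.isometryGroup F ⇑Q)) (hodd : Odd (orderOf A)) (hA : (orderOf A).Coprime p) : IsConj A B ↔ IsConj ((A : Matrix.GeneralLinearGroup (Fin n) F) : Matrix (Fin n) (Fin n) F) ((B : Matrix.GeneralLinearGroup (Fin n) F) : Matrix (Fin n) (Fin n) F) := by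
  classical
  constructor
  · intro h
    exact MonoidHom.map_isConj ((Units.coeHom (Matrix (Fin n) (Fin n) F)).comp
      (Cfsg.isometryGroup F ⇑Q).subtype) h
  · rintro ⟨c, hc⟩
    have hcA : c * A.1 = B.1 * c := Units.ext hc
    have hgA : Forms.glLinEquiv c * Forms.glLinEquiv A.1
        = Forms.glLinEquiv B.1 * Forms.glLinEquiv c := by rw [← map_mul, ← map_mul, hcA]
    obtain ⟨N, hN⟩ : ∃ N, orderOf A = N + 1 :=
      ⟨orderOf A - 1, by have := orderOf_pos A; omega⟩
    have hA1 : A.1 ^ (N + 1) = 1 := by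
      rw [← hN, ← SubmonoidClass.coe_pow, pow_orderOf_eq_one]; rfl
    have hB1 : B.1 ^ (N + 1) = 1 := by
      rw [show B.1 = c * A.1 * c⁻¹ by rw [hcA, mul_inv_cancel_right], conj_pow, hA1, mul_one,
        mul_inv_cancel]
    have hp : p.Prime := Fact.out
    obtain ⟨h, hh, hhA⟩ := Forms.quadratic_conj Q hQ (Forms.glLinEquiv A.1) (Forms.glLinEquiv B.1)
      (Forms.glLinEquiv c) ((Forms.mem_isometryGroup _ _).1 A.2)
      ((Forms.mem_isometryGroup _ _).1 B.2) (fun v => LinearEquiv.congr_fun hgA v) (N := N)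
      (by rw [← map_pow, hA1, map_one]) (by rw [← map_pow, hB1, map_one])
      (by rw [← hN, Ne, CharP.cast_eq_zero_iff F p]; exact hp.coprime_iff_not_dvd.1 hA.symm)
      (hN ▸ hodd)
    let H := (Forms.isometryGroupEquiv ⇑Q).symm ⟨h, hh⟩
    have hH : Forms.glLinEquiv H.1 = h := Forms.glLinEquiv.apply_symm_apply h
    have hHA : H * A = B * H := by
      apply Subtype.ext
      apply Forms.glLinEquiv.injective
      rw [Subgroup.coe_mul, Subgroup.coe_mul, map_mul, map_mul, hH]
      exact LinearEquiv.ext hhA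
    exact isConj_iff.2 ⟨H, by rw [hHA, mul_inv_cancel_right]⟩

end Cfsg.Agent.S2590
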