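import Cfsg.Statements.S2591
import Cfsg.Agent.Lib.Forms.RegularSympMatrix

set_option autoImplicit false
open Cfsg Cfsg.Agent Cfsg.Agent.Forms.Regular

namespace Cfsg.Agent.S2591

/-- Over a finite field of odd order and for m ≥ 1, the regular unipotent elements of Sp_2m(F) (u − 1 nilpotent of rank 2m − 1, a single Jordan block) form exactly two conjugacy classes of Sp_2m(F) (one class under the similarity group, which splits in two). -/
theorem result {F : Type*} [Field F] [Fintype F] {q : ℕ} (hF : Fintype.card F = q) (hq : Odd q) {m : ℕ} (hm : 1 ≤ m) : Nat.card {C : ConjClasses ↥(Matrix.symplecticGroup (Fin m) F) // ∃ u : Matrix.symplecticGroup (Fin m) F, ConjClasses.mk u = C ∧ ((u : Matrix (Fin m ⊕ Fin m) (Fin m ⊕ Fin m) F) - 1) ^ (2 * m) = 0 ∧ ((u : Matrix (Fin m ⊕ Fin m) (Fin m ⊕ Fin m) F) - 1).rank = 2 * m - 1} = 2 := by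
  have h2 : (2 : F) ≠ 0 := Ring.two_ne_zero fun h => by
    have := FiniteField.even_card_of_char_two h
    rw [hF] at this
    exact (Nat.not_even_iff_odd.2 hq) (Nat.even_iff.2 this)
  obtain ⟨u, hu⟩ := exists_regUnip (F := F) hm
  obtain ⟨v, hv, huv⟩ := exists_flip h2 hm hu
  rw [Nat.card_eq_two_iff]
  refine ⟨⟨ConjClasses.mk u, u, rfl, hu.1, hu.2⟩, ⟨ConjClasses.mk v, v, rfl, hv.1, hv.2⟩,
    fun h => huv (ConjClasses.mk_eq_mk_iff_isConj.1 (congrArg Subtype.val h)), Set.eq_univ_of_forall ?_⟩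
  rintro ⟨C, w, rfl, hw1, hw2⟩
  have hw : IsRegUnip w := ⟨hw1, hw2⟩
  rw [isConj_iff_sqType h2 hm hu hv] at huv
  have h : IsConj w u ∨ IsConj w v := by
    rw [isConj_iff_sqType h2 hm hw hu, isConj_iff_sqType h2 hm hw hv]
    by_cases IsSqType (GLOrder.sympB m F) (cay (spLin w)) m <;>
      by_cases IsSqType (GLOrder.sympB m F) (cay (spLin u)) m <;>
        simp_all
  rcases h with h | h
  · exact Or.inl (Subtype.ext (ConjClasses.mk_eq_mk_iff_isConj.2 h))
  · exact Or.inr (Subtype.ext (ConjClasses.mk_eq_mk_iff_isConj.2 h))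

end Cfsg.Agent.S2591
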