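import Cfsg.Statements.S2593
import Cfsg.Agent.Lib.Forms.InvolutionModels

set_option autoImplicit false
open Cfsg Cfsg.Agent Cfsg.Agent.Orth Cfsg.Agent.Forms.Invol Module

namespace Cfsg.Agent.S2593

/-- Number of conjugacy classes of involutions in the symplectic group Sp_2m(F) over a finite field of characteristic two (m ≥ 1): for each s with 1 ≤ s ≤ m there is one class with rank(t − 1) = s if s is odd and two if s is even (according as v ↦ f(v, tv), f the symplectic form, vanishes identically or not), so m + ⌊m/2⌋ classes in all. -/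
theorem result {F : Type*} [Field F] [Fintype F] [CharP F 2] {m : ℕ} (hm : 1 ≤ m) : Nat.card {C : ConjClasses ↥(Matrix.symplecticGroup (Fin m) F) // ∃ g : Matrix.symplecticGroup (Fin m) F, ConjClasses.mk g = C ∧ orderOf g = 2} = m + m / 2 := by
  classical
  refine card_classes_inv _ (fun g => finrank F (LinearMap.range (spN g)))
    (fun g => IsAltInv (GLOrder.sympB m F) (spN g)) 1 2 m (m / 2) one_pos two_pos
    (fun g h hg hh => sp_isConj_iff (sq_of_orderOf hg) (sq_of_orderOf hh))
    (fun s h1 h2 => ?_) (fun j h1 h2 => ?_) fun g hg => ?_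
  · obtain ⟨t, ht, hr, ha⟩ := plus_nonalt (F := F) h1 h2
    obtain ⟨g, hg, hgN⟩ := exists_sp_of_iso t ht
    refine ⟨g, (sp_orderOf_eq_two_iff g).2 ⟨hg, ?_⟩, ?_, ?_⟩
    · rw [hgN]; omega
    · rw [hgN, hr, one_mul]
    · rw [hgN, sympB_eq_polar]; exact ha
  · obtain ⟨t, ht, hr, ha⟩ := plus_alt (F := F) (show 2 * j ≤ m by omega)
    obtain ⟨g, hg, hgN⟩ := exists_sp_of_iso t ht
    refine ⟨g, (sp_orderOf_eq_two_iff g).2 ⟨hg, ?_⟩, ?_, ?_⟩
    · rw [hgN]; omega
    · rw [hgN, hr]
    · rw [hgN, sympB_eq_polar]; exact ha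
  · obtain ⟨hg1, hg2⟩ := (sp_orderOf_eq_two_iff g).1 hg
    have hN := isInvN_spN hg1
    have h3 := hN.two_mul_rank_le
    rw [GLOrder.finrank_sympSpace] at h3
    refine ⟨fun _ => ⟨finrank F (LinearMap.range (spN g)), hg2, by omega, (one_mul _).symm⟩,
      fun ha => ?_⟩
    obtain ⟨j, hj⟩ := even_of_altInv hN ha
    exact ⟨j, by omega, by omega, hj⟩

end Cfsg.Agent.S2593
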