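import Cfsg.Statements.S2594
import Cfsg.Agent.Lib.GLOrder.Symplectic

set_option autoImplicit false
open Cfsg

namespace Cfsg.Agent.S2594

/-- Over a finite field with q elements, q even, an element t of Sp_2m(F) with rank(t − 1) = 1 (a symplectic transvection) has centraliser in Sp_2m(F) of order q^(2m−1) · |Sp_(2m−2)(q)| = q^(2m−1) · q^((m−1)²) · Π_(i=1)^(m−1) (q^(2i) − 1). -/
theorem result {F : Type*} [Field F] [Fintype F] [CharP F 2] {q : ℕ} (hF : Fintype.card F = q) {m : ℕ} (hm : 1 ≤ m) (t : Matrix.symplecticGroup (Fin m) F) (ht : ((t : Matrix (Fin m ⊕ Fin m) (Fin m ⊕ Fin m) F) - 1).rank = 1) : Nat.card ↥(Subgroup.centralizer ({t} : Set ↥(Matrix.symplecticGroup (Fin m) F))) = q ^ (2 * m - 1) * (q ^ ((m - 1) ^ 2) * ∏ i : Fin (m - 1), (q ^ (2 * ((i : ℕ) + 1)) - 1)) := by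
  classical
  haveI : Finite ↥(Matrix.symplecticGroup (Fin m) F) := Finite.of_injective _ Subtype.val_injective
  set B := GLOrder.sympB m F with hB
  set T := Matrix.mulVecLin ((t : Matrix (Fin m ⊕ Fin m) (Fin m ⊕ Fin m) F) - 1) with hT
  have hT1 : Module.finrank F (LinearMap.range T) = 1 := ht
  obtain ⟨w, hw0, hw⟩ := finrank_eq_one_iff'.1 hT1
  have hv : (w : Fin m ⊕ Fin m → F) ≠ 0 := fun h => hw0 (Subtype.ext h)
  set v : Fin m ⊕ Fin m → F := (w : Fin m ⊕ Fin m → F) with hvdef
  have hf : ∀ x, ∃ r : F, T x = r • v := fun x => by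
    obtain ⟨r, hr⟩ := hw ⟨T x, LinearMap.mem_range_self T x⟩
    exact ⟨r, (congrArg Subtype.val hr).symm⟩
  choose f hf using hf
  have htx : ∀ x, (t : Matrix _ _ F).mulVec x = x + f x • v := fun x => by
    rw [← hf x, hT, Matrix.mulVecLin_apply, Matrix.sub_mulVec, Matrix.one_mulVec]
    abel
  obtain ⟨y₀, hy₀⟩ := GLOrder.exists_apply_eq_one GLOrder.sympB_nondeg hv
  have hfx : ∀ x, f x = f y₀ * B v x := by
    intro x
    have h := GLOrder.sympB_mulVec t x y₀
    rw [htx, htx] at h
    simp only [map_add, map_smul, LinearMap.add_apply, LinearMap.smul_apply, smul_eq_mul,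
      GLOrder.sympB_self, hy₀, mul_zero, add_zero] at h
    rw [GLOrder.sympB_swap v x] at h
    linear_combination h
  have hc0 : f y₀ ≠ 0 := by
    intro h0
    obtain ⟨x, hx⟩ := w.2
    rw [hf x, hfx x, h0, zero_mul, zero_smul] at hx
    exact hv hx.symm
  have hcent : ∀ g : ↥(Matrix.symplecticGroup (Fin m) F),
      g ∈ Subgroup.centralizer ({t} : Set ↥(Matrix.symplecticGroup (Fin m) F)) ↔
        g.1.mulVec v = v := by
    intro g
    rw [Subgroup.mem_centralizer_singleton_iff]
    constructor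
    · intro h
      have hx : ∀ x, B v x • g.1.mulVec v = B v (g.1.mulVec x) • v := by
        intro x
        have h' := congrArg (fun k : ↥(Matrix.symplecticGroup (Fin m) F) => k.1.mulVec x) h
        simp only [Submonoid.coe_mul, ← Matrix.mulVec_mulVec, htx, Matrix.mulVec_add,
          Matrix.mulVec_smul, add_right_inj] at h'
        rw [hfx x, hfx (g.1.mulVec x), mul_smul, mul_smul] at h'
        exact smul_right_injective _ hc0 h'
      have h1 := hx y₀
      rw [hy₀, one_smul] at h1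
      set l := B v (g.1.mulVec y₀)
      have h2 : l * l = 1 := by
        have h3 := GLOrder.sympB_mulVec g v y₀
        rw [h1, map_smul, LinearMap.smul_apply, smul_eq_mul, hy₀] at h3
        exact h3
      have h4 : (l - 1) * (l - 1) = 0 := by
        have h20 : (2 : F) = 0 := CharTwo.two_eq_zero
        linear_combination h2 + (1 - l) * h20
      rw [h1, sub_eq_zero.1 (mul_self_eq_zero.1 h4), one_smul]
    · intro h
      refine Subtype.ext (Matrix.ext_of_mulVec_single fun j => ?_)
      generalize (Pi.single j 1 : Fin m ⊕ Fin m → F) = x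
      simp only [Submonoid.coe_mul, ← Matrix.mulVec_mulVec, htx, Matrix.mulVec_add,
        Matrix.mulVec_smul, h]
      rw [hfx x, hfx (g.1.mulVec x)]
      congr 2
      rw [← GLOrder.sympB_mulVec g v x, h]
  let π : ↥(Matrix.symplecticGroup (Fin m) F) → {x : Fin m ⊕ Fin m → F // x ≠ 0} := fun g =>
    ⟨g.1.mulVec v, fun h => hv (by
      have h' := congrArg (fun x => ((g⁻¹ : ↥(Matrix.symplecticGroup (Fin m) F)).1).mulVec x) h
      simp only [Matrix.mulVec_mulVec, Matrix.mulVec_zero, ← Submonoid.coe_mul, inv_mul_cancel,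
        Submonoid.coe_one, Matrix.one_mulVec] at h'
      exact h')⟩
  have hfib : ∀ x, Nat.card {g // π g = x}
      = Nat.card ↥(Subgroup.centralizer ({t} : Set ↥(Matrix.symplecticGroup (Fin m) F))) := by
    rintro ⟨x, hx⟩
    obtain ⟨g₀, hg₀⟩ := GLOrder.exists_symp_mulVec hv hx
    refine (Nat.card_congr ((Equiv.mulLeft g₀).subtypeEquiv fun g => ?_)).symm
    rw [SetLike.mem_coe.symm, SetLike.mem_coe, hcent]
    simp only [Equiv.coe_mulLeft, π, Subtype.mk.injEq, Submonoid.coe_mul,
      ← Matrix.mulVec_mulVec]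
    constructor
    · intro h; rw [h, hg₀]
    · intro h
      have h' := congrArg (fun y => ((g₀⁻¹ : ↥(Matrix.symplecticGroup (Fin m) F)).1).mulVec y)
        (h.trans hg₀.symm)
      simpa only [Matrix.mulVec_mulVec, ← Submonoid.coe_mul, inv_mul_cancel, inv_mul_cancel_left,
        Submonoid.coe_one, Matrix.one_mulVec] using h'
  haveI := Fintype.ofFinite {x : Fin m ⊕ Fin m → F // x ≠ 0}
  have hcard := Nat.card_congr (Equiv.sigmaFiberEquiv π)
  rw [Nat.card_sigma, Finset.sum_congr rfl fun x _ => hfib x, Finset.sum_const, Finset.card_univ,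
    smul_eq_mul, GLOrder.card_Sp, Nat.card_eq_fintype_card (α := F), hF] at hcard
  obtain ⟨k, rfl⟩ := Nat.exists_eq_add_of_le' hm
  have hne : Fintype.card {x : Fin (k + 1) ⊕ Fin (k + 1) → F // x ≠ 0} = q ^ (2 * (k + 1)) - 1 := by
    rw [← Nat.card_eq_fintype_card]
    simp [Nat.card_eq_fintype_card, Fintype.card_subtype_compl, hF, two_mul]
  rw [hne, Finset.prod_range_succ] at hcard
  have hpos : 0 < q ^ (2 * (k + 1)) - 1 := by
    have hq : 1 < q := hF ▸ Fintype.one_lt_card
    have := Nat.one_lt_pow (show 2 * (k + 1) ≠ 0 by omega) hq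
    omega
  refine Nat.eq_of_mul_eq_mul_left hpos (hcard.trans ?_)
  rw [Fin.prod_univ_eq_prod_range (fun i => q ^ (2 * (i + 1)) - 1) (k + 1 - 1),
    show 2 * (k + 1) - 1 = 2 * k + 1 by omega, Nat.add_sub_cancel]
  ring

end Cfsg.Agent.S2594
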