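import Cfsg.Statements.S2597
import Cfsg.Agent.Lib.Forms.InvolutionModels

set_option autoImplicit false
open Cfsg Cfsg.Agent Cfsg.Agent.Orth Cfsg.Agent.Forms.Invol Module

namespace Cfsg.Agent.S2597

/-- Number of conjugacy classes of involutions in Ω⁺_2m(F) (the commutator subgroup of the orthogonal group of Σ x_i y_i) over a finite field F of characteristic two, m ≥ 1, excluding the case m = 2 over the field of two elements: the involutions of Ω are those with s = rank(t − 1) even, giving two O-classes for each even s with 2 ≤ s ≤ m, each of which is a single Ω-class except that for m even the class with s = m and v ↦ f(v, tv) identically zero splits in two; in all 2⌊m/2⌋ + 1 classes if m is even and 2⌊m/2⌋ if m is odd. -/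
theorem result {F : Type*} [Field F] [Fintype F] [CharP F 2] {m : ℕ} (hm : 1 ≤ m) (h : Fintype.card F ≠ 2 ∨ m ≠ 2) : Nat.card {C : ConjClasses ↥(Cfsg.Omega F (Cfsg.quadFormPlus m F)) // ∃ g : ↥(Cfsg.Omega F (Cfsg.quadFormPlus m F)), ConjClasses.mk g = C ∧ orderOf g = 2} = 2 * (m / 2) + (if Even m then 1 else 0) := by
  classical
  have hQ := quadPlus_nondeg (F := F) m
  have hgen := plus_gen (F := F) h
  have hn : Fintype.card (Fin m ⊕ Fin m) = 2 * m := by
    simp only [Fintype.card_sum, Fintype.card_fin]; omega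
  have hv₀ := plus_ne_zero (F := F) hm
  set R₀ : Submodule F (Fin m ⊕ Fin m → F) := Forms.plusMax₁ m with hR₀
  have hR₀' : finrank F R₀ = m ∧ ∀ w ∈ R₀, quadPlus m F w = 0 :=
    ⟨Forms.finrank_plusMax₁ m, fun w hw =>
      (Forms.qfPlus_apply m w).symm.trans (Forms.plusMax₁_singular m w hw)⟩
  let ex : IsoGrp (quadPlus m F) → Prop := fun t =>
    finrank F (LinearMap.range (tN t)) = m ∧ IsAltInv (quadPlus m F).polarBilin (tN t)
  let sd : IsoGrp (quadPlus m F) → Prop := fun t =>
    ex t ∧ Odd (finrank F ↥(R₀ ⊓ LinearMap.range (tN t)))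
  have hmax : ∀ t : IsoGrp (quadPlus m F), t * t = 1 → ex t →
      finrank F (LinearMap.range (tN t)) = m ∧ ∀ w ∈ LinearMap.range (tN t), quadPlus m F w = 0 := by
    rintro t ht ⟨h1, h2⟩
    refine ⟨h1, ?_⟩
    rintro _ ⟨x, rfl⟩
    rw [(isInvQ_tN hQ ht).quad]
    exact h2 x
  have hev : ∀ t : IsoGrp (quadPlus m F), t * t = 1 → ex t → Even m := fun t ht he => by
    obtain ⟨j, hj⟩ := even_of_altInv (isInvQ_tN hQ ht).toIsInvN he.2
    exact ⟨j, by rw [← he.1, hj]; omega⟩
  have hpar : ∀ t s : IsoGrp (quadPlus m F), t * t = 1 → s * s = 1 → ex t → ex s →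
      (Even (finrank F ↥(LinearMap.range (tN t) ⊓ LinearMap.range (tN s))) ↔ (sd t ↔ sd s)) := by
    intro t s ht hs het hes
    obtain ⟨i, hi⟩ := hev t ht het
    have h3 := Forms.even_three_maximal (quadPlus m F) hQ (m := m) (by rw [finrank_space, hn])
      R₀ (LinearMap.range (tN t)) (LinearMap.range (tN s)) hR₀' (hmax t ht het) (hmax s hs hes)
    have hle : ∀ U W : Submodule F (Fin m ⊕ Fin m → F), finrank F U = m →
        finrank F ↥(U ⊓ W) ≤ m := fun U W hU =>
        (Submodule.finrank_mono (inf_le_left : U ⊓ W ≤ U)).trans hU.le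
    have l1 := hle R₀ (LinearMap.range (tN t)) hR₀'.1
    have l2 := hle _ (LinearMap.range (tN s)) het.1
    have l3 := hle R₀ (LinearMap.range (tN s)) hR₀'.1
    simp only [sd, het, hes, true_and]
    simp only [Nat.even_iff, Nat.odd_iff] at h3 ⊢
    omega
  let rk : ↥(Omega F ⇑(quadPlus m F)) → ℕ := fun g =>
    if sd g.1 then m + 2 else finrank F (LinearMap.range (tN g.1))
  have hbnd : ∀ t : IsoGrp (quadPlus m F), t * t = 1 → finrank F (LinearMap.range (tN t)) ≤ m :=
    fun t ht => by
      have h3 := (isInvQ_tN hQ ht).toIsInvN.two_mul_rank_le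
      rw [finrank_space, hn] at h3
      omega
  rw [show 2 * (m / 2) + (if Even m then 1 else 0) = m / 2 + (m / 2 + if Even m then 1 else 0) by omega]
  refine card_classes_inv (G := ↥(Omega F ⇑(quadPlus m F))) _ rk
    (fun g => IsAltInv (quadPlus m F).polarBilin (tN g.1)) 2 2 (m / 2) _ two_pos two_pos
    (fun g h hg hh => ?_) (fun s h1 h2 => ?_) (fun j h1 h2 => ?_) fun g hg => ?_
  · have hg1 := sq_of_orderOf ((orderOf_coe_omega g).symm.trans hg)
    have hh1 := sq_of_orderOf ((orderOf_coe_omega h).symm.trans hh)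
    have hgm := hbnd _ hg1
    have hhm := hbnd _ hh1
    rw [isConj_omega_iff]
    constructor
    · rintro ⟨c, hcO, hc⟩
      obtain ⟨h1, h2⟩ := (isConj_iff_inv hQ hg1 hh1).1 (isConj_iff.2 ⟨c, hc⟩)
      refine ⟨?_, h2⟩
      by_cases he : ex g.1
      · have he' : ex h.1 := ⟨h1 ▸ he.1, h2.1 he.2⟩
        have h5 := (hpar _ _ hg1 hh1 he he').1 ((omega_conj_iff hQ hgen hn (hev _ hg1 he) hv₀ hc hg1
          he.1 he.2).1 ⟨c, hcO, hc⟩)
        simp only [rk, h5, h1]
      · have he' : ¬ ex h.1 := fun he' => he ⟨h1.trans he'.1, h2.2 he'.2⟩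
        simp only [rk, show ¬ sd g.1 from fun hs => he hs.1, show ¬ sd h.1 from fun hs => he' hs.1,
          if_false, h1]
    · rintro ⟨h1, h2⟩
      have hrank : finrank F (LinearMap.range (tN g.1)) = finrank F (LinearMap.range (tN h.1)) ∧
          (sd g.1 ↔ sd h.1) := by
        simp only [rk] at h1
        by_cases hs : sd g.1 <;> by_cases hs' : sd h.1 <;> simp only [hs, hs', if_true, if_false] at h1
        · exact ⟨hs.1.1.trans hs'.1.1.symm, iff_of_true hs hs'⟩
        · omega
        · omega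
        · exact ⟨h1, iff_of_false hs hs'⟩
      obtain ⟨c, hc⟩ := isConj_iff.1 ((isConj_iff_inv hQ hg1 hh1).2 ⟨hrank.1, h2⟩)
      by_cases he : ex g.1
      · have he' : ex h.1 := ⟨hrank.1 ▸ he.1, h2.1 he.2⟩
        exact (omega_conj_iff hQ hgen hn (hev _ hg1 he) hv₀ hc hg1 he.1 he.2).2
          ((hpar _ _ hg1 hh1 he he').2 hrank.2)
      · obtain ⟨v, hv, hvQ⟩ := exists_fixed_nonsingular hQ hn hg1 he
        exact exists_omega_conj hQ hgen hc hv hvQ
  · obtain ⟨t, ht, hr, ha⟩ := plus_nonalt (F := F) (m := m) (s := 2 * s) (by omega) (by omega)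
    refine ⟨⟨t, (invol_mem_omega_iff hQ hgen hv₀ t).2 (by rw [hr]; exact even_two_mul s)⟩, ?_, ?_, ha⟩
    · exact (orderOf_coe_omega _).trans ((orderOf_eq_two_iff t).2 ⟨ht, by omega⟩)
    · simp only [rk, show ¬ sd t from fun hs => ha hs.1.2, if_false]
      exact hr
  · -- representatives of the alternating classes
    have mk : ∀ t : IsoGrp (quadPlus m F), t * t = 1 → ∀ i, 1 ≤ i →
        finrank F (LinearMap.range (tN t)) = 2 * i → IsAltInv (quadPlus m F).polarBilin (tN t) →
        (if sd t then m + 2 else 2 * i) = 2 * j →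
        ∃ g : ↥(Omega F ⇑(quadPlus m F)), orderOf g = 2 ∧ rk g = 2 * j ∧
          IsAltInv (quadPlus m F).polarBilin (tN g.1) := by
      intro t ht i hi hr ha hval
      refine ⟨⟨t, (invol_mem_omega_iff hQ hgen hv₀ t).2 (by rw [hr]; exact even_two_mul i)⟩, ?_, ?_, ha⟩
      · exact (orderOf_coe_omega _).trans ((orderOf_eq_two_iff t).2 ⟨ht, by omega⟩)
      · simp only [rk, hr]
        exact hval
    by_cases hj : 2 * j < m
    · obtain ⟨t, ht, hr, ha⟩ := plus_alt (F := F) (show 2 * j ≤ m by omega)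
      refine mk t ht j h1 hr ha ?_
      rw [if_neg]
      exact fun hs => by have := hs.1.1; omega
    have hmev : Even m := by
      by_contra hodd
      rw [if_neg hodd] at h2
      rw [Nat.even_iff] at hodd
      omega
    obtain ⟨i, hi⟩ := hmev
    rw [if_pos ⟨i, hi⟩] at h2
    obtain ⟨t, ht, hr, ha⟩ := plus_alt (F := F) (show 2 * i ≤ m by omega)
    have het : ex t := ⟨by omega, ha⟩
    set r := refl (quadPlus m F) (Pi.single (.inl ⟨0, hm⟩) 1 + Pi.single (.inr ⟨0, hm⟩) 1)
    set t' := r * t * r⁻¹ with ht'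
    have ht'1 : t' * t' = 1 := by rw [ht', conj_mul, ht, mul_one, mul_inv_cancel]
    have hconj := (isConj_iff_inv hQ ht ht'1).1 (isConj_iff.2 ⟨r, rfl⟩)
    have het' : ex t' := ⟨hconj.1 ▸ het.1, hconj.2.1 ha⟩
    have hne : ¬ (sd t ↔ sd t') := fun he => by
      have h6 := (hpar _ _ ht ht'1 het het').2 he
      rw [range_tN_conj (show r * t * r⁻¹ = t' from rfl)] at h6
      have h7 := dick_eq_pow_inf hQ hgen hn _ (hmax t ht het) r
      rw [dick_refl hQ hv₀, Even.neg_one_pow] at h7
      · norm_num at h7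
      · rw [Nat.even_sub ((Submodule.finrank_mono inf_le_left).trans het.1.le)]
        exact iff_of_true ⟨i, hi⟩ h6
    rcases Nat.lt_or_ge (2 * j) (m + 2) with hlt | hge
    · by_cases hs : sd t
      · exact mk t' ht'1 i (by omega) (hconj.1 ▸ hr) het'.2
          (by rw [if_neg fun hs' => hne (iff_of_true hs hs')]; omega)
      · exact mk t ht i (by omega) hr ha (by rw [if_neg hs]; omega)
    · by_cases hs : sd t
      · exact mk t ht i (by omega) hr ha (by rw [if_pos hs]; omega)
      · exact mk t' ht'1 i (by omega) (hconj.1 ▸ hr) het'.2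
          (by rw [if_pos (by_contra fun hs' => hne (iff_of_false hs hs'))]; omega)
  · obtain ⟨hg1, hg2⟩ := (orderOf_eq_two_iff g.1).1 ((orderOf_coe_omega g).symm.trans hg)
    obtain ⟨i, hi⟩ := (invol_mem_omega_iff hQ hgen hv₀ g.1).1 g.2
    have hle := hbnd _ hg1
    refine ⟨fun hna => ⟨i, by omega, by omega, ?_⟩, fun ha => ?_⟩
    · simp only [rk, show ¬ sd g.1 from fun hs => hna hs.1.2, if_false]
      omega
    · by_cases hs : sd g.1
      · obtain ⟨l, hl⟩ := hev _ hg1 hs.1
        refine ⟨l + 1, by omega, by rw [if_pos ⟨l, hl⟩]; omega, ?_⟩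
        simp only [rk, hs, if_true]
        omega
      · refine ⟨i, by omega, by split_ifs <;> omega, ?_⟩
        simp only [rk, hs, if_false]
        omega

end Cfsg.Agent.S2597
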