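import Cfsg.Statements.S2598
import Cfsg.Agent.Lib.Forms.InvolutionModels

set_option autoImplicit false
open Cfsg Cfsg.Agent Cfsg.Agent.Orth Cfsg.Agent.Forms.Invol Module

namespace Cfsg.Agent.S2598

/-- Number of conjugacy classes of involutions in Ω⁻_2m(F) (the commutator subgroup of the orthogonal group of an elliptic quadratic form, Σ_(i<m−1) x_i y_i plus an anisotropic binary form) over a finite field F of characteristic two, m ≥ 1: the involutions of Ω are those with s = rank(t − 1) even, one O-class for each even s with 2 ≤ s ≤ m on which v ↦ f(v, tv) is not identically zero and one for each even s with 2 ≤ s < m on which it is zero (f the polar form; in characteristic 2, f(v, tv) = Q(v + tv)), none of which splits in Ω; in all ⌊m/2⌋ + ⌊(m − 1)/2⌋. -/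
theorem result {F : Type*} [Field F] [Fintype F] [CharP F 2] {m : ℕ} (hm : 1 ≤ m) (a b : F) (hab : ∀ z₁ z₂ : F, z₁ ^ 2 + a * z₁ * z₂ + b * z₂ ^ 2 = 0 → z₁ = 0 ∧ z₂ = 0) : Nat.card {C : ConjClasses ↥(Cfsg.Omega F (Cfsg.quadFormMinus (m - 1) F a b)) // ∃ g : ↥(Cfsg.Omega F (Cfsg.quadFormMinus (m - 1) F a b)), ConjClasses.mk g = C ∧ orderOf g = 2} = m / 2 + (m - 1) / 2 := by
  obtain ⟨k, rfl⟩ : ∃ k, m = k + 1 := ⟨m - 1, by omega⟩
  simp only [Nat.add_sub_cancel]
  have hQ := quadMinus_nondeg k (F := F) hab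
  have hgen := minus_gen (k := k) hab
  have hn : Fintype.card ((Fin k ⊕ Fin k) ⊕ Fin 2) = 2 * (k + 1) := by
    simp only [Fintype.card_sum, Fintype.card_fin]; omega
  have hv₀ := minus_ne_zero (k := k) a b
  have hbd : ∀ t : IsoGrp (quadMinus k F a b), t * t = 1 →
      IsAltInv (quadMinus k F a b).polarBilin (tN t) → finrank F (LinearMap.range (tN t)) ≤ k :=
    fun t ht ha => by
      have h := minus_singular_lt hab (LinearMap.range (tN t)) (by
        rintro _ ⟨x, rfl⟩
        rw [(isInvQ_tN hQ ht).quad]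
        exact ha x)
      simp only [Fintype.card_sum, Fintype.card_fin] at h
      omega
  refine card_classes_inv (G := ↥(Omega F ⇑(quadMinus k F a b))) _
    (fun g => finrank F (LinearMap.range (tN g.1)))
    (fun g => IsAltInv (quadMinus k F a b).polarBilin (tN g.1)) 2 2 ((k + 1) / 2) (k / 2) two_pos
    two_pos (fun g h hg hh => ?_) (fun s h1 h2 => ?_) (fun j h1 h2 => ?_) fun g hg => ?_
  · have hg1 := sq_of_orderOf ((orderOf_coe_omega g).symm.trans hg)
    have hh1 := sq_of_orderOf ((orderOf_coe_omega h).symm.trans hh)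
    rw [isConj_omega_iff, ← isConj_iff_inv hQ hg1 hh1]
    refine ⟨fun ⟨c, _, hc⟩ => isConj_iff.2 ⟨c, hc⟩, fun hc => ?_⟩
    obtain ⟨c, hc⟩ := isConj_iff.1 hc
    obtain ⟨v, hv, hvQ⟩ := exists_fixed_nonsingular hQ hn hg1 fun he => by
      have := hbd _ hg1 he.2; omega
    exact exists_omega_conj hQ hgen hc hv hvQ
  · obtain ⟨t, ht, hr, ha⟩ := minus_nonalt (F := F) (k := k) hab (s := 2 * s) (by omega) (by omega)
    refine ⟨⟨t, (invol_mem_omega_iff hQ hgen hv₀ t).2 (by rw [hr]; exact even_two_mul s)⟩, ?_, hr, ha⟩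
    exact (orderOf_coe_omega _).trans ((orderOf_eq_two_iff t).2 ⟨ht, by omega⟩)
  · obtain ⟨t, ht, hr, ha⟩ := minus_alt (F := F) hab (show 2 * j ≤ k by omega)
    refine ⟨⟨t, (invol_mem_omega_iff hQ hgen hv₀ t).2 (by rw [hr]; exact even_two_mul j)⟩, ?_, hr, ha⟩
    exact (orderOf_coe_omega _).trans ((orderOf_eq_two_iff t).2 ⟨ht, by omega⟩)
  · obtain ⟨hg1, hg2⟩ := (orderOf_eq_two_iff g.1).1 ((orderOf_coe_omega g).symm.trans hg)
    obtain ⟨j, hj⟩ := (invol_mem_omega_iff hQ hgen hv₀ g.1).1 g.2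
    have h3 := (isInvQ_tN hQ hg1).toIsInvN.two_mul_rank_le
    rw [finrank_space, hn] at h3
    refine ⟨fun _ => ⟨j, by omega, by omega, by omega⟩, fun ha => ⟨j, by omega, ?_, by omega⟩⟩
    have := hbd _ hg1 ha
    omega

end Cfsg.Agent.S2598
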