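import Cfsg.Statements.S2599
import Cfsg.Agent.EqLemmas

set_option autoImplicit false
open Cfsg

namespace Cfsg.Agent.S2599

/-- An irreducible invariant subspace of a semisimple isometry is non-degenerate or totally singular: let Q be a quadratic form on F^n (F finite of characteristic p) with non-degenerate polar form f, x an isometry of Q of order prime to p, and U a non-zero x-invariant subspace containing no x-invariant subspace other than 0 and U. Then U meets its f-orthogonal trivially, or Q vanishes on U, or p = 2, U is a line spanned by a non-singular vector and x fixes U pointwise. -/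
theorem result {F : Type*} [Field F] [Fintype F] {p : ℕ} [Fact p.Prime] [CharP F p] {n : ℕ} (Q : QuadraticForm F (Fin n → F)) (hQ : (QuadraticMap.polarBilin Q).Nondegenerate) (x : ↥(Cfsg.isometryGroup F ⇑Q)) (hx : (orderOf x).Coprime p) (U : Submodule F (Fin n → F)) (hU0 : U ≠ ⊥) (hUx : ∀ u ∈ U, ((x : Matrix.GeneralLinearGroup (Fin n) F) : Matrix (Fin n) (Fin n) F).mulVec u ∈ U) (hirr : ∀ W : Submodule F (Fin n → F), W ≤ U → (∀ w ∈ W, ((x : Matrix.GeneralLinearGroup (Fin n) F) : Matrix (Fin n) (Fin n) F).mulVec w ∈ W) → W = ⊥ ∨ W = U) : U ⊓ LinearMap.BilinForm.orthogonal (QuadraticMap.polarBilin Q) U = ⊥ ∨ (∀ u ∈ U, Q u = 0) ∨ (p = 2 ∧ Module.finrank F U = 1 ∧ (∃ u ∈ U, Q u ≠ 0) ∧ ∀ u ∈ U, ((x : Matrix.GeneralLinearGroup (Fin n) F) : Matrix (Fin n) (Fin n) F).mulVec u = u) := by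
  classical
  set M : Matrix (Fin n) (Fin n) F := ((x : Matrix.GeneralLinearGroup (Fin n) F) : Matrix (Fin n) (Fin n) F)
    with hM
  have hQx : ∀ v, Q (M.mulVec v) = Q v := fun v => x.2 v v
  have hpx : ∀ u v, QuadraticMap.polar ⇑Q (M.mulVec u) (M.mulVec v) = QuadraticMap.polar ⇑Q u v := by
    intro u v
    simp only [QuadraticMap.polar, ← Matrix.mulVec_add, hQx]
  have hinjM : Function.Injective M.mulVec :=
    Matrix.mulVec_injective_of_isUnit (Units.isUnit (x : Matrix.GeneralLinearGroup (Fin n) F))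
  set W := U ⊓ LinearMap.BilinForm.orthogonal (QuadraticMap.polarBilin Q) U with hW
  let f : U →ₗ[F] U := (Matrix.mulVecLin M).restrict hUx
  have hfsurj : Function.Surjective f :=
    LinearMap.surjective_of_injective (fun a b h => Subtype.ext (hinjM (congrArg Subtype.val h)))
  have hWx : ∀ w ∈ W, M.mulVec w ∈ W := by
    intro w hw
    refine ⟨hUx w hw.1, ?_⟩
    rw [SetLike.mem_coe, LinearMap.BilinForm.mem_orthogonal_iff]
    intro u hu
    obtain ⟨⟨u', hu'⟩, he⟩ := hfsurj ⟨u, hu⟩
    have hu'' : M.mulVec u' = u := congrArg Subtype.val he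
    have := (LinearMap.BilinForm.mem_orthogonal_iff.mp hw.2) u' hu'
    change QuadraticMap.polar ⇑Q u (M.mulVec w) = 0
    rw [← hu'', hpx]
    exact this
  rcases hirr W inf_le_left hWx with h | h
  · exact Or.inl h
  right
  have hiso : ∀ u ∈ U, ∀ v ∈ U, QuadraticMap.polar ⇑Q u v = 0 := by
    intro u hu v hv
    have hv' : v ∈ W := h ▸ hv
    exact (LinearMap.BilinForm.mem_orthogonal_iff.mp hv'.2) u hu
  by_cases hp : p = 2
  · subst hp
    by_cases h0 : ∀ u ∈ U, Q u = 0
    · exact Or.inl h0
    right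
    push Not at h0
    obtain ⟨u₀, hu₀, hne⟩ := h0
    haveI : Fact (Nat.Prime 2) := ⟨Nat.prime_two⟩
    have hadd : ∀ u ∈ U, ∀ v ∈ U, Q (u + v) = Q u + Q v := by
      intro u hu v hv
      have := hiso u hu v hv
      simp only [QuadraticMap.polar] at this
      linear_combination this
    let K : Submodule F (Fin n → F) :=
      { carrier := {u | u ∈ U ∧ Q u = 0}
        add_mem' := fun {a b} ha hb => ⟨U.add_mem ha.1 hb.1, by rw [hadd a ha.1 b hb.1, ha.2, hb.2, add_zero]⟩
        zero_mem' := ⟨U.zero_mem, map_zero Q⟩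
        smul_mem' := fun c a ha => ⟨U.smul_mem c ha.1, by rw [QuadraticMap.map_smul, ha.2, smul_zero]⟩ }
    have hK : K = ⊥ := by
      rcases hirr K (fun u hu => hu.1) (fun u hu => ⟨hUx u hu.1, (hQx u).trans hu.2⟩) with hb | ht
      · exact hb
      · exfalso
        have : u₀ ∈ K := ht ▸ hu₀
        exact hne this.2
    have huniq : ∀ u ∈ U, ∀ v ∈ U, Q u = Q v → u = v := by
      intro u hu v hv he
      have : u + v ∈ K := ⟨U.add_mem hu hv, by rw [hadd u hu v hv, he, CharTwo.add_self_eq_zero]⟩
      rw [hK, Submodule.mem_bot] at this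
      funext i
      exact CharTwo.add_eq_zero.mp (congrFun this i)
    refine ⟨rfl, ?_, ⟨u₀, hu₀, hne⟩, fun u hu => huniq _ (hUx u hu) u hu (hQx u)⟩
    have hspan : U = Submodule.span F {u₀} := by
      refine le_antisymm (fun u hu => ?_) ((Submodule.span_singleton_le_iff_mem _ _).mpr hu₀)
      obtain ⟨c, hc⟩ := (frobeniusEquiv F 2).surjective (Q u / Q u₀)
      rw [frobeniusEquiv_apply, frobenius_def] at hc
      rw [Submodule.mem_span_singleton]
      refine ⟨c, huniq _ (U.smul_mem c hu₀) u hu ?_⟩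
      rw [QuadraticMap.map_smul, smul_eq_mul, ← pow_two, hc, div_mul_cancel₀ _ hne]
    rw [hspan]
    exact finrank_span_singleton (fun h => hne (by rw [h, map_zero]))
  · left
    intro u hu
    have h2 : (2 : F) ≠ 0 := by
      intro h
      have : ((2 : ℕ) : F) = 0 := by exact_mod_cast h
      rw [CharP.cast_eq_zero_iff F p] at this
      exact hp ((Nat.prime_dvd_prime_iff_eq Fact.out Nat.prime_two).mp this)
    have := hiso u hu u hu
    rw [QuadraticMap.polar_self] at this
    simpa [smul_eq_mul, h2] using this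

end Cfsg.Agent.S2599
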