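import Cfsg.Statements.S2601
import Cfsg.Agent.EqLemmas
import Cfsg.Agent.Lib.AutPSL.Count

set_option autoImplicit false
open Cfsg

namespace Cfsg.Agent.S2601

open AutPSL in
theorem out_structure {F : Type*} [Field F] [Fintype F] {p f m : ℕ} [Fact p.Prime] (hf : 1 ≤ f)
    (hF : Fintype.card F = p ^ f) (hm : 1 ≤ m) :
    ∃ φ : Cfsg.Out (Matrix.ProjectiveSpecialLinearGroup (Fin (m + 2)) F) →* Multiplicative (ZMod f × ZMod 2),
      Function.Surjective φ ∧ IsCyclic φ.ker ∧ Nat.card φ.ker = Nat.gcd (m + 2) (p ^ f - 1) := by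
  classical
  obtain ⟨hcyc, hcard⟩ := fieldAut_facts (F := F) p f hf hF
  haveI := hcyc
  let ιF : Multiplicative (ZMod f) ≃* (F ≃+* F) := hcard ▸ zmodCyclicMulEquiv hcyc
  -- the normal form
  have hex : ∀ α : MulAut (Matrix.ProjectiveSpecialLinearGroup (Fin (m + 2)) F),
      ∃ (σ : F ≃+* F) (e : ZMod 2), ∃ g : GL (Fin (m + 2)) F, α = semi g σ * invT ^ e.val := by
    intro α
    rcases exists_semi_or α with ⟨g, σ, rfl⟩ | ⟨g, σ, rfl⟩
    · exact ⟨σ, 0, g, by simp⟩
    · exact ⟨σ, 1, g, by simp [ZMod.val_one]⟩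
  choose S E G hG using hex
  have hinv2 : ∀ e : ZMod 2, e = 0 ∨ e = 1 := by decide
  have huniq : ∀ α σ e g, α = semi g σ * invT ^ (e : ZMod 2).val → S α = σ ∧ E α = e := by
    intro α σ e g h
    have h' : semi g σ * invT ^ e.val = semi (G α) (S α) * invT ^ (E α).val := h.symm.trans (hG α)
    generalize G α = g', S α = σ', E α = e' at h' ⊢
    rcases hinv2 e with rfl | rfl <;> rcases hinv2 e' with rfl | rfl <;>
      simp only [ZMod.val_zero, ZMod.val_one, pow_zero, pow_one, mul_one] at h'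
    · exact ⟨(semi_eq_semi.mp h').1.symm, rfl⟩
    · exact absurd h' (semi_mul_invT_ne hm _ _ _ _)
    · exact absurd h'.symm (semi_mul_invT_ne hm _ _ _ _)
    · exact ⟨(semi_eq_semi.mp (mul_right_cancel h')).1.symm, rfl⟩
  have hcomm : ∀ (e : ZMod 2) (g : GL (Fin (m + 2)) F) (σ : F ≃+* F), ∃ g',
      invT ^ e.val * semi g σ = semi g' σ * invT ^ e.val := by
    intro e g σ
    rcases hinv2 e with rfl | rfl
    · exact ⟨g, by simp⟩
    · exact ⟨ctr g, by simp [ZMod.val_one, invT_semi]⟩
  have hpow : ∀ a b : ZMod 2, (invT : MulAut (Matrix.ProjectiveSpecialLinearGroup (Fin (m + 2)) F)) ^ a.val * invT ^ b.val = invT ^ (a + b).val := by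
    intro a b
    rcases hinv2 a with rfl | rfl <;> rcases hinv2 b with rfl | rfl <;>
      simp [ZMod.val_one, invT_sq, show (1 : ZMod 2) + 1 = 0 from by decide]
  let Θ : MulAut (Matrix.ProjectiveSpecialLinearGroup (Fin (m + 2)) F) →* Multiplicative (ZMod f × ZMod 2) :=
    MonoidHom.mk' (fun α => Multiplicative.ofAdd (Multiplicative.toAdd (ιF.symm (S α)), E α)) (fun α β => by
      obtain ⟨g', hg'⟩ := hcomm (E α) (G β) (S β)
      obtain ⟨hS, hE⟩ := huniq (α * β) (S α * S β) (E α + E β)
        (G α * Matrix.GeneralLinearGroup.map (S α : F →+* F) g') (by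
          conv_lhs => rw [hG α, hG β]
          rw [mul_assoc, ← mul_assoc (invT ^ (E α).val), hg', mul_assoc (semi g' (S β)), hpow, ← mul_assoc, semi_mul]
          rfl)
      rw [hS, hE, map_mul]
      rfl)
  have hΘsemi : ∀ g σ, Θ (semi g σ) = Multiplicative.ofAdd (Multiplicative.toAdd (ιF.symm σ), (0 : ZMod 2)) := by
    intro g σ
    obtain ⟨hS, hE⟩ := huniq (semi g σ) σ 0 g (by simp)
    show Multiplicative.ofAdd _ = _
    rw [hS, hE]
  have hΘinn : Inn (Matrix.ProjectiveSpecialLinearGroup (Fin (m + 2)) F) ≤ Θ.ker := by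
    rintro _ ⟨x, rfl⟩
    obtain ⟨s, rfl⟩ := proj_surjective x
    rw [MonoidHom.mem_ker, conj_eq_semi, hΘsemi, show (RingEquiv.refl F) = (1 : F ≃+* F) from rfl, map_one]
    rfl
  let φ := QuotientGroup.lift _ Θ hΘinn
  have hΘsurj : Function.Surjective Θ := by
    intro x
    refine ⟨semi 1 (ιF (Multiplicative.ofAdd (Multiplicative.toAdd x).1)) * invT ^ (Multiplicative.toAdd x).2.val, ?_⟩
    obtain ⟨hS, hE⟩ := huniq _ (ιF (Multiplicative.ofAdd (Multiplicative.toAdd x).1)) (Multiplicative.toAdd x).2 1 rfl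
    show Multiplicative.ofAdd _ = _
    rw [hS, hE, MulEquiv.symm_apply_apply]
    simp
  have hφ : Function.Surjective φ := fun x => by
    obtain ⟨α, hα⟩ := hΘsurj x
    exact ⟨QuotientGroup.mk α, hα⟩
  refine ⟨φ, hφ, ?_, ?_⟩
  · -- the kernel is the image of GL
    let I : GL (Fin (m + 2)) F →* Out (Matrix.ProjectiveSpecialLinearGroup (Fin (m + 2)) F) :=
      (QuotientGroup.mk' _).comp (MonoidHom.mk' (fun g => semi g (RingEquiv.refl F)) fun g h => (semi_refl_mul g h).symm)
    have hker : φ.ker = I.range := by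
      ext x
      obtain ⟨α, rfl⟩ := QuotientGroup.mk_surjective x
      constructor
      · intro hx
        have h1 : Θ α = 1 := hx
        have h2 : Multiplicative.ofAdd (Multiplicative.toAdd (ιF.symm (S α)), E α) = 1 := h1
        have h3 := congrArg (fun z : Multiplicative (ZMod f × ZMod 2) => Multiplicative.toAdd z) h2
        simp only [toAdd_ofAdd, toAdd_one, Prod.mk_eq_zero] at h3
        have hS : S α = 1 := by
          have : ιF.symm (S α) = 1 := Multiplicative.toAdd.injective (by simpa using h3.1)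
          simpa using congrArg ιF this
        refine ⟨G α, ?_⟩
        show QuotientGroup.mk' (Inn (Matrix.ProjectiveSpecialLinearGroup (Fin (m + 2)) F)) (semi (G α) (RingEquiv.refl F)) =
          QuotientGroup.mk' (Inn (Matrix.ProjectiveSpecialLinearGroup (Fin (m + 2)) F)) α
        conv_rhs => rw [hG α, hS, h3.2]
        simp only [ZMod.val_zero, pow_zero, mul_one]
        rfl
      · rintro ⟨g, hg⟩
        rw [← hg]
        show Θ (semi g (RingEquiv.refl F)) = 1
        rw [hΘsemi, show (RingEquiv.refl F) = (1 : F ≃+* F) from rfl, map_one]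
        rfl
    obtain ⟨u, hu⟩ := IsCyclic.exists_generator (α := Fˣ)
    let d : Fin (m + 2) → F := Function.update (fun _ => 1) 0 (u : F)
    have hd : (Matrix.diagonal d).det = (u : F) := by
      rw [Matrix.det_diagonal, Finset.prod_eq_single 0]
      · simp [d]
      · intro b _ hb; simp [d, hb]
      · simp
    let g₀ : GL (Fin (m + 2)) F := Matrix.GeneralLinearGroup.mkOfDetNeZero (Matrix.diagonal d) (by rw [hd]; exact u.ne_zero)
    have hg₀ : Matrix.GeneralLinearGroup.det g₀ = u := Units.ext hd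
    rw [hker]
    refine ⟨⟨⟨I g₀, g₀, rfl⟩, ?_⟩⟩
    rintro ⟨_, g, rfl⟩
    obtain ⟨k, hk⟩ := hu (Matrix.GeneralLinearGroup.det g)
    refine ⟨k, Subtype.ext ?_⟩
    show ((⟨I g₀, g₀, rfl⟩ : I.range) ^ k : I.range).1 = I g
    rw [SubgroupClass.coe_zpow, ← map_zpow, ← inv_mul_eq_one, ← map_inv, ← map_mul]
    have hdet : (((g₀ ^ k)⁻¹ * g : GL (Fin (m + 2)) F) : Matrix (Fin (m + 2)) (Fin (m + 2)) F).det = 1 := by
      have hk' : u ^ k = Matrix.GeneralLinearGroup.det g := hk
      have : Matrix.GeneralLinearGroup.det ((g₀ ^ k)⁻¹ * g) = 1 := by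
        rw [map_mul, map_inv, map_zpow, hg₀, hk', inv_mul_cancel]
      exact congrArg Units.val this
    refine (QuotientGroup.eq_one_iff _).mpr ⟨proj _ F ⟨_, hdet⟩, ?_⟩
    refine (conj_eq_semi _).trans ?_
    exact congrArg (fun z => semi z (RingEquiv.refl F)) (Units.ext rfl)
  · have hA := card_mulAut (F := F) (m := m) p f hf (by rw [Nat.card_eq_fintype_card, hF])
    rw [if_neg (by omega)] at hA
    haveI : Finite (MulAut (Matrix.ProjectiveSpecialLinearGroup (Fin (m + 2)) F)) :=
      Finite.of_injective (fun α => (α : _ → _)) DFunLike.coe_injective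
    haveI : NeZero f := ⟨by omega⟩
    have h1 := (φ.ker).card_mul_index
    rw [Subgroup.index_ker, MonoidHom.range_eq_top.mpr hφ, Subgroup.card_top,
      show Nat.card (Multiplicative (ZMod f × ZMod 2)) = f * 2 by
        rw [Nat.card_congr Multiplicative.toAdd, Nat.card_prod, Nat.card_zmod, Nat.card_zmod]] at h1
    have h2 := Subgroup.card_eq_card_quotient_mul_card_subgroup (Inn (Matrix.ProjectiveSpecialLinearGroup (Fin (m + 2)) F))
    have hinj : Function.Injective (MulAut.conj : Matrix.ProjectiveSpecialLinearGroup (Fin (m + 2)) F →* _) := by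
      rw [injective_iff_map_eq_one]
      intro x hx
      obtain ⟨s, rfl⟩ := proj_surjective x
      rw [conj_eq_semi, semi_eq_one_iff, Matrix.GeneralLinearGroup.center_eq_range_scalar] at hx
      obtain ⟨c, hc⟩ := hx.2
      refine proj_eq_one_of_forall (c := (c : F)) ?_
      have := congrArg (fun z : GL (Fin (m + 2)) F => (z : Matrix (Fin (m + 2)) (Fin (m + 2)) F)) hc.symm
      refine this.trans ?_
      simp [Matrix.smul_one_eq_diagonal]
    rw [← Nat.card_congr (MonoidHom.ofInjective hinj).toEquiv, hA, GLOrder.card_PGL,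
      ← GLOrder.card_PSL_mul, Fintype.card_fin, Nat.card_eq_fintype_card (α := F), hF, ← h1] at h2
    have hpos : 0 < f * 2 * Nat.card (Matrix.ProjectiveSpecialLinearGroup (Fin (m + 2)) F) :=
      Nat.mul_pos (by omega) Nat.card_pos
    refine Nat.eq_of_mul_eq_mul_right hpos ?_
    linarith [h2]


/-- Structure of the outer automorphism group of PSL_n(q), n ≥ 3, q = p^f: it has a normal cyclic subgroup of order gcd(n, q − 1) (the diagonal automorphisms) whose quotient is the direct product of a cyclic group of order f (field automorphisms) and a group of order 2 (the inverse-transpose graph automorphism). -/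
theorem result {F : Type*} [Field F] [Fintype F] {p f n : ℕ} [Fact p.Prime] (hf : 1 ≤ f) (hF : Fintype.card F = p ^ f) (hn : 3 ≤ n) : ∃ φ : Cfsg.Out (Matrix.ProjectiveSpecialLinearGroup (Fin n) F) →* Multiplicative (ZMod f × ZMod 2), Function.Surjective φ ∧ IsCyclic φ.ker ∧ Nat.card φ.ker = Nat.gcd n (p ^ f - 1) := by
  obtain ⟨m, rfl⟩ : ∃ m, n = m + 2 := ⟨n - 2, by omega⟩
  exact out_structure hf hF (by omega)

end Cfsg.Agent.S2601
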