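import Cfsg.Statements.S2609
import Cfsg.Agent.Lib.Orth.Spinor

set_option autoImplicit false
open Cfsg

namespace Cfsg.Agent.S2609

open Classical in
/-- Signs of a product of reflections. -/
theorem signs {F : Type*} [Field F] [Fintype F] {n : ℕ} (Q : QuadraticForm F (Fin n → F))
    (hG : Orth.Good Q) : ∀ vs : List (Fin n → F), (∀ v ∈ vs, Q v ≠ 0) →
      Orth.dick ((vs.map (Orth.refl Q)).prod) = (-1 : ℤ) ^ vs.length ∧
      Orth.spin ((vs.map (Orth.refl Q)).prod) = quadraticChar F ((vs.map fun v => Q v).prod)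
  | [], _ => by simp [Orth.dick_one, Orth.spin_one]
  | v :: vs, h => by
    obtain ⟨hd, hs⟩ := signs Q hG vs fun w hw => h w (List.mem_cons_of_mem _ hw)
    have hv : Q v ≠ 0 := h v List.mem_cons_self
    refine ⟨?_, ?_⟩
    · rw [List.map_cons, List.prod_cons, Orth.dick_refl_mul hG.nd _ hv, hd, List.length_cons,
        pow_succ]
      ring
    · rw [List.map_cons, List.prod_cons, Orth.spin_refl_mul hG.nd _ hv, hs, List.map_cons,
        List.prod_cons, map_mul]

theorem coe_prod {F : Type*} [Field F] {n : ℕ} (Q : QuadraticForm F (Fin n → F)) :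
    ∀ vs : List (Fin n → F), (∀ v ∈ vs, Q v ≠ 0) →
      (((vs.map (Orth.refl Q)).prod : Orth.IsoGrp Q) : Matrix.GeneralLinearGroup (Fin n) F).val
        = (vs.map fun v => Cfsg.reflectionMatrix (⇑Q) v).prod
  | [], _ => rfl
  | v :: vs, h => by
    rw [List.map_cons, List.prod_cons, List.map_cons, List.prod_cons, Orth.coe_mul_mat,
      coe_prod Q vs fun w hw => h w (List.mem_cons_of_mem _ hw),
      Orth.refl_mat]

/-- Spinor norm criterion for Ω over a finite field of odd order: let Q be a quadratic form on F^n, n ≥ 2, with non-degenerate polar form, and let g be an isometry written as a product of reflections in non-singular vectors v_1, …, v_k. Then g lies in Ω (the commutator subgroup of the orthogonal group) if and only if k is even and Q(v_1)⋯Q(v_k) is a square; in particular, for g of determinant one, whether that product is a square does not depend on the chosen factorisation (it is the spinor norm of g). -/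
theorem result {F : Type*} [Field F] [Fintype F] (h2 : (2 : F) ≠ 0) {n : ℕ} (hn : 2 ≤ n) (Q : QuadraticForm F (Fin n → F)) (hQ : (QuadraticMap.polarBilin Q).Nondegenerate) (g : ↥(Cfsg.isometryGroup F ⇑Q)) (vs : List (Fin n → F)) (hvs : ∀ v ∈ vs, Q v ≠ 0) (hg : ((g : Matrix.GeneralLinearGroup (Fin n) F) : Matrix (Fin n) (Fin n) F) = (vs.map (fun v => Cfsg.reflectionMatrix ⇑Q v)).prod) : g ∈ Cfsg.Omega F ⇑Q ↔ (Even vs.length ∧ IsSquare (vs.map (fun v => Q v)).prod) := by
  classical
  have hG : Orth.Good Q := Orth.Good.of_two_ne_zero hQ h2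
  have hgeq : g = (vs.map (Orth.refl Q)).prod :=
    Subtype.ext (Units.ext (by rw [hg, coe_prod Q vs hvs]))
  obtain ⟨hd, hs⟩ := signs Q hG vs hvs
  rw [hgeq, Orth.mem_omega_iff hG, hd, hs, neg_one_pow_eq_one_iff_even (by norm_num),
    quadraticChar_one_iff_isSquare]
  refine List.prod_ne_zero fun hmem => ?_
  obtain ⟨v, hv, hv0⟩ := List.mem_map.1 hmem
  exact hvs v hv hv0

end Cfsg.Agent.S2609
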