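import Cfsg.Statements.S2610
import Cfsg.Agent.EqLemmas
import Cfsg.Agent.Lib.OrthLevi.Basic

set_option autoImplicit false
open Cfsg

namespace Cfsg.Agent.S2610

/-- For a quadratic form Q on F^n with non-degenerate polar form, F finite of odd order and n ≥ 2 even, the isometry −1 lies in Ω (the commutator subgroup of the orthogonal group) if and only if the discriminant of Q (the determinant of the Gram matrix of its polar form) is a square. -/
theorem result {F : Type*} [Field F] [Fintype F] (h2 : (2 : F) ≠ 0) {n : ℕ} (hn : 2 ≤ n) (he : Even n) (Q : QuadraticForm F (Fin n → F)) (hQ : (QuadraticMap.polarBilin Q).Nondegenerate) : (∃ g : ↥(Cfsg.isometryGroup F ⇑Q), g ∈ Cfsg.Omega F ⇑Q ∧ ((g : Matrix.GeneralLinearGroup (Fin n) F) : Matrix (Fin n) (Fin n) F) = -1) ↔ IsSquare (Matrix.of (fun i j : Fin n => QuadraticMap.polar ⇑Q (Pi.single i 1) (Pi.single j 1))).det := by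
  classical
  open Cfsg.Agent.Orth in
  have hG : Good Q := Good.of_two_ne_zero hQ h2
  let g : Cfsg.Agent.Orth.IsoGrp Q := ⟨-1, fun v _ => by
    show Q (((-1 : Matrix.GeneralLinearGroup (Fin n) F) : Matrix (Fin n) (Fin n) F).mulVec v) = Q v
    simp [Matrix.neg_mulVec]⟩
  have key : g ∈ Cfsg.Omega F ⇑Q ↔
      IsSquare (Matrix.of (fun i j : Fin n => QuadraticMap.polar ⇑Q (Pi.single i 1) (Pi.single j 1))).det := by
    set G := Matrix.of (fun i j : Fin n => QuadraticMap.polar ⇑Q (Pi.single i (1 : F)) (Pi.single j 1))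
    let x : Fin n → Fin n → F := fun a => (-2 : F)⁻¹ • Pi.single a 1
    let w : Fin n → Fin n → F := fun a => Pi.single a 1
    have hap : ∀ v, Cfsg.Agent.Orth.ap g v = -v := fun v => by
      rw [Cfsg.Agent.Orth.ap_apply]; simp [g, Matrix.neg_mulVec]
    have hx : ∀ a, Cfsg.Agent.Orth.ap g (x a) - x a = w a := by
      intro a
      rw [hap]
      funext j
      simp [x, w, Pi.single_apply]
      split <;> field_simp <;> ring
    have hw : w = Pi.basisFun F (Fin n) := funext fun a => by simp [w]
    have hind : LinearIndependent F w := by rw [hw]; exact (Pi.basisFun F (Fin n)).linearIndependent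
    have hspan : Submodule.span F (Set.range w) = Cfsg.Agent.Orth.resSpace g := by
      have hT : Submodule.span F (Set.range w) = ⊤ := by rw [hw]; exact (Pi.basisFun F (Fin n)).span_eq
      rw [hT]
      symm
      rw [eq_top_iff, ← hT, Submodule.span_le]
      rintro _ ⟨a, rfl⟩
      exact Cfsg.Agent.Orth.mem_resSpace.mpr ⟨x a, hx a⟩
    have hdick : Cfsg.Agent.Orth.dick g = 1 := by
      rw [Cfsg.Agent.Orth.dick, ← hspan, finrank_span_eq_card hind, Fintype.card_fin]
      exact he.neg_one_pow
    have hwall : Cfsg.Agent.Orth.wallMat Q w x = (-2 : F)⁻¹ • G := by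
      ext a b
      simp only [Cfsg.Agent.Orth.wallMat, Matrix.of_apply, w, x, QuadraticMap.polar_smul_right,
        Matrix.smul_apply, G]
    have hGd : G.det ≠ 0 := by
      intro h0
      obtain ⟨c, hc0, hc⟩ := Matrix.exists_mulVec_eq_zero_iff.2 h0
      obtain ⟨y, hy⟩ := Cfsg.Agent.Orth.exists_polar_ne hQ hc0
      apply hy
      show (QuadraticMap.polarBilin Q c) y = 0
      have hlin : QuadraticMap.polarBilin Q c = 0 := by
        refine (Pi.basisFun F (Fin n)).ext fun i => ?_
        have := congrFun hc i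
        rw [pi_eq_sum_univ' c]
        simp only [map_sum, map_smul, LinearMap.sum_apply, LinearMap.smul_apply, LinearMap.zero_apply,
          QuadraticMap.polarBilin_apply_apply, Pi.basisFun_apply, smul_eq_mul]
        refine Eq.trans ?_ this
        simp only [Matrix.mulVec, dotProduct, G, Matrix.of_apply]
        refine Finset.sum_congr rfl fun j _ => ?_
        rw [mul_comm, QuadraticMap.polar_comm]
      rw [hlin]; rfl
    obtain ⟨k, hk⟩ := he
    rw [Cfsg.Agent.Orth.mem_omega_iff hG, Cfsg.Agent.Orth.spin_eq w x hind hspan hx, hwall,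
      Matrix.det_smul, Fintype.card_fin, ← mul_assoc, ← mul_pow,
      show ((-1 : F) * (-2)⁻¹) ^ n = (((-1 : F) * (-2)⁻¹) ^ k) ^ 2 by rw [← pow_mul, mul_two, hk],
      map_mul, quadraticChar_sq_one'
        (pow_ne_zero _ (mul_ne_zero (by simp) (inv_ne_zero (neg_ne_zero.mpr h2)))),
      one_mul, quadraticChar_one_iff_isSquare hGd]
    simp [hdick]
  rw [← key]
  constructor
  · rintro ⟨g', hg', hm⟩
    have : g' = g := Subtype.ext (Units.ext (by rw [hm]; simp [g]))
    exact this ▸ hg'
  · exact fun h => ⟨g, h, by simp [g]⟩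

end Cfsg.Agent.S2610
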