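import Cfsg.Statements.S2612
import Cfsg.Agent.EqLemmas
import Cfsg.Agent.Lib.OrthLevi.Basic

set_option autoImplicit false
open Cfsg

namespace Cfsg.Agent.S2612

/-- For the hyperbolic quadratic form Σ x_i y_i on F^(2m) (F finite, m ≥ 1, excluding m = 2 over the field of two elements), Ω⁺_2m(F) (the commutator subgroup of the orthogonal group) contains an element interchanging the two complementary maximal totally singular subspaces {y = 0} and {x = 0} if and only if m is even (dimension divisible by 4). -/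
theorem result {F : Type*} [Field F] [Fintype F] {m : ℕ} (hm : 1 ≤ m) (h : Fintype.card F ≠ 2 ∨ m ≠ 2) : (∃ g : ↥(Cfsg.isometryGroup F (Cfsg.quadFormPlus m F)), g ∈ Cfsg.Omega F (Cfsg.quadFormPlus m F) ∧ (∀ v : Fin m ⊕ Fin m → F, (∀ i, v (Sum.inr i) = 0) → ∀ i, (((g : Matrix.GeneralLinearGroup (Fin m ⊕ Fin m) F) : Matrix (Fin m ⊕ Fin m) (Fin m ⊕ Fin m) F).mulVec v) (Sum.inl i) = 0) ∧ (∀ v : Fin m ⊕ Fin m → F, (∀ i, v (Sum.inl i) = 0) → ∀ i, (((g : Matrix.GeneralLinearGroup (Fin m ⊕ Fin m) F) : Matrix (Fin m ⊕ Fin m) (Fin m ⊕ Fin m) F).mulVec v) (Sum.inr i) = 0)) ↔ Even m := by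
  classical
  rw [← Cfsg.Agent.Forms.qfPlus_eq]
  have hG := OrthLevi.qfPlus_good (F := F) h
  constructor
  · rintro ⟨g, hg, h1, h2⟩
    set M : Matrix (Fin m ⊕ Fin m) (Fin m ⊕ Fin m) F :=
      ((g : Matrix.GeneralLinearGroup (Fin m ⊕ Fin m) F) : Matrix (Fin m ⊕ Fin m) (Fin m ⊕ Fin m) F) with hM
    have hA : M.toBlocks₁₁ = 0 := by
      ext i j
      have := h1 (Pi.single (Sum.inl j) 1) (fun k => by simp) i
      simpa [Matrix.mulVec_single, Matrix.toBlocks₁₁] using this
    have hD : M.toBlocks₂₂ = 0 := by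
      ext i j
      have := h2 (Pi.single (Sum.inr j) 1) (fun k => by simp) i
      simpa [Matrix.mulVec_single, Matrix.toBlocks₂₂] using this
    set B := M.toBlocks₁₂
    set C := M.toBlocks₂₁
    have hBC : M = Matrix.fromBlocks 0 B C 0 := by
      conv_lhs => rw [← Matrix.fromBlocks_toBlocks M, hA, hD]
    have hCB : C.transpose * B = 1 := by
      ext i j
      have hp := Cfsg.Agent.Orth.polar_ap g (Pi.single (Sum.inl i) 1) (Pi.single (Sum.inr j) 1)
      rw [Cfsg.Agent.Orth.ap_apply, Cfsg.Agent.Orth.ap_apply, ← hM, hBC, OrthLevi.polar_plus,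
        OrthLevi.polar_plus] at hp
      simp only [Matrix.mulVec_single, Matrix.col, Matrix.transpose_apply] at hp
      simp [Pi.single_apply] at hp
      rw [Matrix.mul_apply, Matrix.one_apply]
      simpa [eq_comm] using hp
    have hCu : IsUnit C := by
      rw [← Matrix.isUnit_transpose]
      exact IsUnit.of_mul_eq_one _ hCB
    have hlevi : g = Cfsg.Agent.OrthLevi.swapIso m F * OrthLevi.levi hCu.unit := by
      apply Subtype.ext
      apply Units.ext
      rw [Cfsg.Agent.Orth.coe_mul_mat, OrthLevi.levi_mat, ← hM, hBC]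
      show _ = OrthLevi.swapMat m F * OrthLevi.leviMat hCu.unit
      rw [OrthLevi.swapMat, OrthLevi.leviMat, Matrix.fromBlocks_multiply]
      have hB : ((hCu.unit⁻¹ : GL (Fin m) F) : Matrix (Fin m) (Fin m) F).transpose = B := by
        have h3 : C * ((hCu.unit⁻¹ : GL (Fin m) F) : Matrix (Fin m) (Fin m) F) = 1 := by
          have := Units.mul_inv hCu.unit
          rwa [IsUnit.unit_spec] at this
        have h4 := congrArg Matrix.transpose h3
        rw [Matrix.transpose_mul, Matrix.transpose_one] at h4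
        rw [← mul_one ((hCu.unit⁻¹ : GL (Fin m) F) : Matrix (Fin m) (Fin m) F).transpose, ← hCB,
          ← mul_assoc, h4, one_mul]
      simp only [Matrix.zero_mul, Matrix.mul_zero, one_mul, zero_add, add_zero, hB, IsUnit.unit_spec]
    have hd := ((Cfsg.Agent.Orth.mem_omega_iff hG g).mp hg).1
    rw [hlevi, Cfsg.Agent.Orth.dick_mul hG, OrthLevi.dick_levi, OrthLevi.dick_swapIso, mul_one] at hd
    rwa [neg_one_pow_eq_one_iff_even (by norm_num)] at hd
  · intro hev
    obtain ⟨d, hd0, hd⟩ : ∃ d : F, d ≠ 0 ∧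
        quadraticChar F d = Cfsg.Agent.Orth.spin (OrthLevi.swapIso m F) := by
      rcases Cfsg.Agent.Orth.spin_eq_or hG (OrthLevi.swapIso m F) with hs | hs
      · exact ⟨1, one_ne_zero, by rw [map_one, hs]⟩
      · by_cases h2 : ringChar F = 2
        · have := Cfsg.Agent.Orth.spin_eq_one_of_two hG (by
            have h20 := CharP.cast_eq_zero F (ringChar F)
            rw [h2] at h20
            exact_mod_cast h20) (OrthLevi.swapIso m F)
          omega
        · obtain ⟨c, hc⟩ := quadraticChar_exists_neg_one' (F := F) h2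
          exact ⟨c, c.ne_zero, by rw [hc, hs]⟩
    have hu : IsUnit (Matrix.diagonal (Function.update (1 : Fin m → F) ⟨0, hm⟩ d)) := by
      rw [Matrix.isUnit_iff_isUnit_det, Matrix.det_diagonal, isUnit_iff_ne_zero, Finset.prod_ne_zero_iff]
      intro j _
      by_cases hj : j = ⟨0, hm⟩ <;> simp [hj, hd0]
    refine ⟨OrthLevi.swapIso m F * OrthLevi.levi hu.unit, ?_, ?_, ?_⟩
    · rw [Cfsg.Agent.Orth.mem_omega_iff hG, Cfsg.Agent.Orth.dick_mul hG, Cfsg.Agent.Orth.spin_mul hG,
        OrthLevi.dick_levi, OrthLevi.dick_swapIso,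
        OrthLevi.spin_levi_single ⟨0, hm⟩ hu.unit d (IsUnit.unit_spec hu), hd, hev.neg_one_pow]
      rcases Cfsg.Agent.Orth.spin_eq_or hG (OrthLevi.swapIso m F) with hs | hs <;> simp [hs]
    all_goals
      intro v hv i
      rw [Cfsg.Agent.Orth.coe_mul_mat, OrthLevi.levi_mat]
      show ((OrthLevi.swapMat m F * OrthLevi.leviMat hu.unit).mulVec v) _ = 0
      rw [OrthLevi.swapMat, OrthLevi.leviMat, Matrix.fromBlocks_multiply, Matrix.fromBlocks_mulVec]
      first
        | (have h0 : v ∘ Sum.inr = 0 := funext hv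
           simp [h0])
        | (have h0 : v ∘ Sum.inl = 0 := funext hv
           simp [h0])

end Cfsg.Agent.S2612
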