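import Cfsg.Statements.S2613
import Cfsg.Agent.EqLemmas
import Cfsg.Agent.Lib.OrthLevi.Basic

set_option autoImplicit false
open Cfsg

namespace Cfsg.Agent.S2613

/-- For the hyperbolic form Σ x_j y_j on F^(2m), F finite with q elements, q odd, and 1 ≤ i ≤ m: the involution negating the first i hyperbolic pairs (x_j, y_j ↦ −x_j, −y_j for j < i) and fixing the rest lies in Ω⁺_2m(q) (commutator subgroup of the orthogonal group) if and only if q^i ≡ 1 (mod 4); its (−1)-eigenspace is a hyperbolic 2i-space. -/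
theorem result {F : Type*} [Field F] [Fintype F] {q : ℕ} (hF : Fintype.card F = q) (hq : Odd q) {m : ℕ} (i : ℕ) (hi : 1 ≤ i) (him : i ≤ m) : (∃ g : ↥(Cfsg.isometryGroup F (Cfsg.quadFormPlus m F)), g ∈ Cfsg.Omega F (Cfsg.quadFormPlus m F) ∧ ((g : Matrix.GeneralLinearGroup (Fin m ⊕ Fin m) F) : Matrix (Fin m ⊕ Fin m) (Fin m ⊕ Fin m) F) = Matrix.diagonal (fun k : Fin m ⊕ Fin m => if (Sum.elim (fun j : Fin m => (j : ℕ)) (fun j : Fin m => (j : ℕ)) k) < i then (-1 : F) else 1)) ↔ q ^ i % 4 = 1 := by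
  classical
  rw [← Cfsg.Agent.Forms.qfPlus_eq]
  let σ : Fin i ⊕ Fin i → Fin m ⊕ Fin m := Sum.map (Fin.castLE him) (Fin.castLE him)
  have hσ : Function.Injective σ :=
    Sum.map_injective.mpr ⟨Fin.castLE_injective him, Fin.castLE_injective him⟩
  have hd : (Matrix.diagonal (fun k : Fin m ⊕ Fin m =>
      if (Sum.elim (fun j : Fin m => (j : ℕ)) (fun j : Fin m => (j : ℕ)) k) < i then (-1 : F) else 1))
      = Matrix.diagonal (fun k => if k ∈ Set.range σ then -1 else 1) := by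
    congr 1
    funext k
    rcases k with j | j <;> simp only [Sum.elim_inl, Sum.elim_inr] <;>
      refine if_congr ⟨fun hj => ?_, ?_⟩ rfl rfl
    all_goals first
      | exact ⟨Sum.inl ⟨j, hj⟩, rfl⟩
      | exact ⟨Sum.inr ⟨j, hj⟩, rfl⟩
      | (rintro ⟨a | a, ha⟩ <;> simp [σ] at ha; subst ha; exact a.2)
  rw [hd]
  have hgram : ∀ a b, QuadraticMap.polar ⇑(Cfsg.Agent.Forms.qfPlus m F) (Pi.single (σ a) 1) (Pi.single (σ b) 1)
      = (Matrix.fromBlocks 0 1 1 0 : Matrix (Fin i ⊕ Fin i) (Fin i ⊕ Fin i) F) a b := by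
    intro a b
    rw [OrthLevi.polar_plus]
    rcases a with a | a <;> rcases b with b | b <;>
      simp [σ, Pi.single_apply, Matrix.one_apply, eq_comm, Fin.castLE_inj]
  have key := fun g hg => OrthLevi.mem_omega_neg_pairs hF hq (Cfsg.Agent.Forms.qfPlus_nondegenerate m)
    σ hσ hgram g hg
  constructor
  · rintro ⟨g, hg, hgm⟩
    exact (key g hgm).mp hg
  · intro hqi
    set D : Matrix (Fin m ⊕ Fin m) (Fin m ⊕ Fin m) F :=
      Matrix.diagonal (fun k => if k ∈ Set.range σ then -1 else 1)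
    have hDD : D * D = 1 := by
      rw [Matrix.diagonal_mul_diagonal, ← Matrix.diagonal_one]
      congr 1; funext k; split <;> simp
    let g : Cfsg.Agent.Orth.IsoGrp (Cfsg.Agent.Forms.qfPlus m F) := ⟨⟨D, D, hDD, hDD⟩, fun v _ => by
      show Cfsg.Agent.Forms.qfPlus m F (D.mulVec v) = Cfsg.Agent.Forms.qfPlus m F v
      rw [Cfsg.Agent.Forms.qfPlus_apply, Cfsg.Agent.Forms.qfPlus_apply, ← hd]
      refine Finset.sum_congr rfl fun j _ => ?_
      simp only [Matrix.mulVec_diagonal, Sum.elim_inl, Sum.elim_inr]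
      by_cases hj : (j : ℕ) < i <;> simp [hj]⟩
    exact ⟨g, (key g rfl).mpr hqi, rfl⟩

end Cfsg.Agent.S2613
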