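import Cfsg.Statements.S2614
import Cfsg.Agent.EqLemmas
import Cfsg.Agent.Lib.OrthLevi.Basic

set_option autoImplicit false
open Cfsg

namespace Cfsg.Agent.S2614

/-- For the form x_0² + Σ x_j y_j on F^(2m+1), F finite with q elements, q odd, and 1 ≤ i ≤ m: the involution of determinant one negating the first i hyperbolic pairs (and fixing x_0 and the other pairs) lies in Ω_(2m+1)(q) (commutator subgroup of the orthogonal group) if and only if q^i ≡ 1 (mod 4); its (−1)-eigenspace is a hyperbolic 2i-space. -/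
theorem result {F : Type*} [Field F] [Fintype F] {q : ℕ} (hF : Fintype.card F = q) (hq : Odd q) {m : ℕ} (i : ℕ) (hi : 1 ≤ i) (him : i ≤ m) : (∃ g : ↥(Cfsg.isometryGroup F (Cfsg.quadFormOdd m F)), g ∈ Cfsg.Omega F (Cfsg.quadFormOdd m F) ∧ ((g : Matrix.GeneralLinearGroup (Unit ⊕ (Fin m ⊕ Fin m)) F) : Matrix (Unit ⊕ (Fin m ⊕ Fin m)) (Unit ⊕ (Fin m ⊕ Fin m)) F) = Matrix.diagonal (fun k : Unit ⊕ (Fin m ⊕ Fin m) => if (Sum.elim (fun _ : Unit => i) (Sum.elim (fun j : Fin m => (j : ℕ)) (fun j : Fin m => (j : ℕ))) k) < i then (-1 : F) else 1)) ↔ q ^ i % 4 = 1 := by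
  classical
  rw [← Cfsg.Agent.Forms.qfOdd_eq]
  let σ : Fin i ⊕ Fin i → Unit ⊕ (Fin m ⊕ Fin m) := Sum.inr ∘ Sum.map (Fin.castLE him) (Fin.castLE him)
  have hσ : Function.Injective σ :=
    Sum.inr_injective.comp (Sum.map_injective.mpr ⟨Fin.castLE_injective him, Fin.castLE_injective him⟩)
  have hd : (Matrix.diagonal (fun k : Unit ⊕ (Fin m ⊕ Fin m) =>
      if (Sum.elim (fun _ : Unit => i) (Sum.elim (fun j : Fin m => (j : ℕ)) (fun j : Fin m => (j : ℕ))) k) < i then (-1 : F) else 1))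
      = Matrix.diagonal (fun k => if k ∈ Set.range σ then -1 else 1) := by
    congr 1
    funext k
    rcases k with u | j | j <;> simp only [Sum.elim_inl, Sum.elim_inr] <;>
      refine if_congr ⟨fun hj => ?_, ?_⟩ rfl rfl
    all_goals first
      | exact absurd hj (lt_irrefl _)
      | exact ⟨Sum.inl ⟨j, hj⟩, rfl⟩
      | exact ⟨Sum.inr ⟨j, hj⟩, rfl⟩
      | (rintro ⟨a | a, ha⟩ <;> simp [σ] at ha; subst ha; exact a.2)
      | (rintro ⟨a | a, ha⟩ <;> simp [σ] at ha)
  rw [hd]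
  have hgram : ∀ a b, QuadraticMap.polar ⇑(Cfsg.Agent.Forms.qfOdd m F) (Pi.single (σ a) 1) (Pi.single (σ b) 1)
      = (Matrix.fromBlocks 0 1 1 0 : Matrix (Fin i ⊕ Fin i) (Fin i ⊕ Fin i) F) a b := by
    intro a b
    simp only [QuadraticMap.polar, Cfsg.Agent.Forms.qfOdd_apply, Cfsg.quadFormOdd]
    rcases a with a | a <;> rcases b with b | b <;>
      simp [σ, Pi.single_apply, Matrix.one_apply, eq_comm, Fin.castLE_inj, Finset.sum_add_distrib, mul_add, add_mul]
  have h2 : (2 : F) ≠ 0 := by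
    intro h
    have h' : ringChar F = 2 := CharP.ringChar_of_prime_eq_zero Nat.prime_two (by exact_mod_cast h)
    have := FiniteField.even_card_of_char_two h'
    rw [hF] at this
    exact Nat.not_even_iff_odd.mpr hq (Nat.even_iff.mpr this)
  have key := fun g hg => OrthLevi.mem_omega_neg_pairs hF hq (Cfsg.Agent.Forms.qfOdd_nondegenerate h2 m)
    σ hσ hgram g hg
  constructor
  · rintro ⟨g, hg, hgm⟩
    exact (key g hgm).mp hg
  · intro hqi
    set D : Matrix (Unit ⊕ (Fin m ⊕ Fin m)) (Unit ⊕ (Fin m ⊕ Fin m)) F :=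
      Matrix.diagonal (fun k => if k ∈ Set.range σ then -1 else 1)
    have hDD : D * D = 1 := by
      rw [Matrix.diagonal_mul_diagonal, ← Matrix.diagonal_one]
      congr 1; funext k; split <;> simp
    let g : Cfsg.Agent.Orth.IsoGrp (Cfsg.Agent.Forms.qfOdd m F) := ⟨⟨D, D, hDD, hDD⟩, fun v _ => by
      show Cfsg.Agent.Forms.qfOdd m F (D.mulVec v) = Cfsg.Agent.Forms.qfOdd m F v
      rw [Cfsg.Agent.Forms.qfOdd_apply, Cfsg.Agent.Forms.qfOdd_apply, ← hd]
      simp only [Cfsg.quadFormOdd, Matrix.mulVec_diagonal, Sum.elim_inl, Sum.elim_inr, lt_irrefl,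
        if_false, one_mul]
      congr 1
      refine Finset.sum_congr rfl fun j _ => ?_
      by_cases hj : (j : ℕ) < i <;> simp [hj]⟩
    exact ⟨g, (key g rfl).mpr hqi, rfl⟩

end Cfsg.Agent.S2614
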