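import Cfsg.Statements.S2615
import Cfsg.Agent.EqLemmas
import Cfsg.Agent.Lib.OrthLevi.Basic

set_option autoImplicit false
open Cfsg

namespace Cfsg.Agent.S2615

/-- For an elliptic form Σ_(j<m−1) x_j y_j + (z₁² + a z₁z₂ + b z₂²) (anisotropic binary part) on F^(2m), F finite with q elements, q odd, and 1 ≤ i ≤ m − 1: the involution negating the first i hyperbolic pairs and fixing the rest lies in Ω⁻_2m(q) (commutator subgroup of the orthogonal group) if and only if q^i ≡ 1 (mod 4). -/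
theorem result {F : Type*} [Field F] [Fintype F] {q : ℕ} (hF : Fintype.card F = q) (hq : Odd q) {m : ℕ} (a b : F) (hab : ∀ z₁ z₂ : F, z₁ ^ 2 + a * z₁ * z₂ + b * z₂ ^ 2 = 0 → z₁ = 0 ∧ z₂ = 0) (i : ℕ) (hi : 1 ≤ i) (him : i + 1 ≤ m) : (∃ g : ↥(Cfsg.isometryGroup F (Cfsg.quadFormMinus (m - 1) F a b)), g ∈ Cfsg.Omega F (Cfsg.quadFormMinus (m - 1) F a b) ∧ ((g : Matrix.GeneralLinearGroup ((Fin (m - 1) ⊕ Fin (m - 1)) ⊕ Fin 2) F) : Matrix ((Fin (m - 1) ⊕ Fin (m - 1)) ⊕ Fin 2) ((Fin (m - 1) ⊕ Fin (m - 1)) ⊕ Fin 2) F) = Matrix.diagonal (fun k : (Fin (m - 1) ⊕ Fin (m - 1)) ⊕ Fin 2 => if (Sum.elim (Sum.elim (fun j : Fin (m - 1) => (j : ℕ)) (fun j : Fin (m - 1) => (j : ℕ))) (fun _ : Fin 2 => i) k) < i then (-1 : F) else 1)) ↔ q ^ i % 4 = 1 := by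
  classical
  have him' : i ≤ m - 1 := by omega
  rw [← Cfsg.Agent.Forms.qfMinus_eq]
  let σ : Fin i ⊕ Fin i → (Fin (m - 1) ⊕ Fin (m - 1)) ⊕ Fin 2 :=
    Sum.inl ∘ Sum.map (Fin.castLE him') (Fin.castLE him')
  have hσ : Function.Injective σ :=
    Sum.inl_injective.comp (Sum.map_injective.mpr ⟨Fin.castLE_injective him', Fin.castLE_injective him'⟩)
  have hd : (Matrix.diagonal (fun k : (Fin (m - 1) ⊕ Fin (m - 1)) ⊕ Fin 2 =>
      if (Sum.elim (Sum.elim (fun j : Fin (m - 1) => (j : ℕ)) (fun j : Fin (m - 1) => (j : ℕ))) (fun _ : Fin 2 => i) k) < i then (-1 : F) else 1))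
      = Matrix.diagonal (fun k => if k ∈ Set.range σ then -1 else 1) := by
    congr 1
    funext k
    rcases k with (j | j) | u <;> simp only [Sum.elim_inl, Sum.elim_inr] <;>
      refine if_congr ⟨fun hj => ?_, ?_⟩ rfl rfl
    all_goals first
      | exact ⟨Sum.inl ⟨j, hj⟩, rfl⟩
      | exact ⟨Sum.inr ⟨j, hj⟩, rfl⟩
      | exact absurd hj (lt_irrefl _)
      | (rintro ⟨a' | a', ha⟩ <;> simp [σ] at ha; subst ha; exact a'.2)
      | (rintro ⟨a' | a', ha⟩ <;> simp [σ] at ha)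
  rw [hd]
  have hgram : ∀ x y, QuadraticMap.polar ⇑(Cfsg.Agent.Forms.qfMinus (m - 1) F a b) (Pi.single (σ x) 1) (Pi.single (σ y) 1)
      = (Matrix.fromBlocks 0 1 1 0 : Matrix (Fin i ⊕ Fin i) (Fin i ⊕ Fin i) F) x y := by
    intro x y
    simp only [QuadraticMap.polar, Cfsg.Agent.Forms.qfMinus_apply, Cfsg.quadFormMinus]
    rcases x with x | x <;> rcases y with y | y <;>
      simp [σ, Pi.single_apply, Matrix.one_apply, eq_comm, Fin.castLE_inj, Finset.sum_add_distrib, mul_add, add_mul]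
  have key := fun g hg => OrthLevi.mem_omega_neg_pairs hF hq (Cfsg.Agent.Forms.qfMinus_nondegenerate (Cfsg.Agent.Forms.disc_ne_zero_of_anisotropic hab) (m - 1))
    σ hσ hgram g hg
  constructor
  · rintro ⟨g, hg, hgm⟩
    exact (key g hgm).mp hg
  · intro hqi
    set D : Matrix ((Fin (m - 1) ⊕ Fin (m - 1)) ⊕ Fin 2) ((Fin (m - 1) ⊕ Fin (m - 1)) ⊕ Fin 2) F :=
      Matrix.diagonal (fun k => if k ∈ Set.range σ then -1 else 1)
    have hDD : D * D = 1 := by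
      rw [Matrix.diagonal_mul_diagonal, ← Matrix.diagonal_one]
      congr 1; funext k; split <;> simp
    let g : Cfsg.Agent.Orth.IsoGrp (Cfsg.Agent.Forms.qfMinus (m - 1) F a b) := ⟨⟨D, D, hDD, hDD⟩, fun v _ => by
      show Cfsg.Agent.Forms.qfMinus (m - 1) F a b (D.mulVec v) = Cfsg.Agent.Forms.qfMinus (m - 1) F a b v
      rw [Cfsg.Agent.Forms.qfMinus_apply, Cfsg.Agent.Forms.qfMinus_apply, ← hd]
      simp only [Cfsg.quadFormMinus, Matrix.mulVec_diagonal, Sum.elim_inl, Sum.elim_inr, lt_irrefl,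
        if_false, one_mul]
      congr 1
      refine Finset.sum_congr rfl fun j _ => ?_
      by_cases hj : (j : ℕ) < i <;> simp [hj]⟩
    exact ⟨g, (key g rfl).mpr hqi, rfl⟩

end Cfsg.Agent.S2615
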