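import Cfsg.Statements.S2618
import Cfsg.Agent.Lib.Forms.Bases

set_option autoImplicit false
open Cfsg

namespace Cfsg.Agent.S2618

/-- Standard (parabolic) basis of a non-degenerate quadratic space of odd dimension 2m + 1 over a finite field (the non-degeneracy of the polar form forces the characteristic to be odd): there is a basis e_i, f_i (i < m), x with Q(e_i) = Q(f_i) = 0, B(e_i, f_j) = δ_ij (B the polar form), the e's pairwise orthogonal and the f's pairwise orthogonal, x orthogonal to all of them and Q(x) ≠ 0. -/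
theorem result {F V : Type*} [Field F] [Finite F] [AddCommGroup V] [Module F V] [FiniteDimensional F V] {m : ℕ} (hV : Module.finrank F V = 2 * m + 1) (Q : QuadraticForm F V) (hQ : (QuadraticMap.polarBilin Q).Nondegenerate) : ∃ b : Module.Basis (Unit ⊕ (Fin m ⊕ Fin m)) F V, Q (b (Sum.inl ())) ≠ 0 ∧ (∀ i, QuadraticMap.polar ⇑Q (b (Sum.inl ())) (b (Sum.inr (Sum.inl i))) = 0 ∧ QuadraticMap.polar ⇑Q (b (Sum.inl ())) (b (Sum.inr (Sum.inr i))) = 0) ∧ (∀ i, Q (b (Sum.inr (Sum.inl i))) = 0 ∧ Q (b (Sum.inr (Sum.inr i))) = 0) ∧ (∀ i j, QuadraticMap.polar ⇑Q (b (Sum.inr (Sum.inl i))) (b (Sum.inr (Sum.inr j))) = if i = j then 1 else 0) ∧ (∀ i j, QuadraticMap.polar ⇑Q (b (Sum.inr (Sum.inl i))) (b (Sum.inr (Sum.inl j))) = 0 ∧ QuadraticMap.polar ⇑Q (b (Sum.inr (Sum.inr i))) (b (Sum.inr (Sum.inr j))) = 0) := by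
  classical
  obtain ⟨h2, c, e, hc, he⟩ := Cfsg.Agent.Forms.classify_odd Q hQ hV
  let w : Unit ⊕ (Fin m ⊕ Fin m) → Fˣ := Sum.elim 1 (Sum.elim 1 fun _ => (Units.mk0 c hc)⁻¹)
  let s : (Unit ⊕ (Fin m ⊕ Fin m) → F) ≃ₗ[F] (Unit ⊕ (Fin m ⊕ Fin m) → F) :=
    LinearEquiv.piCongrRight fun i => LinearEquiv.smulOfUnit (w i)
  have hs : ∀ (x : Unit ⊕ (Fin m ⊕ Fin m) → F) i, s x i = (w i : F) * x i := fun x i => rfl
  have hval : ∀ x, Q (e (s x)) = c * Cfsg.Agent.Forms.qfOdd m F (s x) := fun x => he _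
  refine ⟨Module.Basis.ofEquivFun (s.trans e).symm, ?_, fun i => ?_, fun i => ?_, fun i j => ?_,
    fun i j => ?_⟩
  · simp [hval, Cfsg.Agent.Forms.qfOdd_apply, Cfsg.quadFormOdd, hs, w, hc, Pi.single_apply]
  · simp [Cfsg.Agent.Forms.polar_similar (⇑Q) (⇑(Cfsg.Agent.Forms.qfOdd m F)) e c he,
      Cfsg.Agent.Forms.polar_qfOdd, hs, w, Pi.single_apply]
  · simp [hval, Cfsg.Agent.Forms.qfOdd_apply, Cfsg.quadFormOdd, hs, w, Pi.single_apply]
  · simp [Cfsg.Agent.Forms.polar_similar (⇑Q) (⇑(Cfsg.Agent.Forms.qfOdd m F)) e c he,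
      Cfsg.Agent.Forms.polar_qfOdd, hs, w, Pi.single_apply, hc, eq_comm]
  · simp [Cfsg.Agent.Forms.polar_similar (⇑Q) (⇑(Cfsg.Agent.Forms.qfOdd m F)) e c he,
      Cfsg.Agent.Forms.polar_qfOdd, hs, w, Pi.single_apply]

end Cfsg.Agent.S2618
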