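import Cfsg.Statements.S2619
import Cfsg.Agent.EqLemmas

set_option autoImplicit false
open Cfsg

namespace Cfsg.Agent.S2619

/-- Over a finite field of characteristic two, given an alternating bilinear form B on a finite-dimensional space, a basis (v_i) and scalars (λ_i), there is exactly one quadratic form whose polar form is B and whose value at each v_i is λ_i. -/
theorem result {F V ι : Type*} [Field F] [Finite F] [CharP F 2] [AddCommGroup V] [Module F V] [Fintype ι] (b : Module.Basis ι F V) (B : LinearMap.BilinForm F V) (hB : B.IsAlt) (c : ι → F) : ∃! Q : QuadraticForm F V, QuadraticMap.polarBilin Q = B ∧ ∀ i, Q (b i) = c i := by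
  classical
  letI : LinearOrder ι := LinearOrder.lift' (Fintype.equivFin ι) (Equiv.injective _)
  let T : LinearMap.BilinForm F V :=
    Matrix.toBilin b (Matrix.of fun i j => if i < j then B (b i) (b j) else if i = j then c i else 0)
  have hT : ∀ i j, T (b i) (b j) = if i < j then B (b i) (b j) else if i = j then c i else 0 := by
    intro i j
    have := congrFun (congrFun (LinearMap.BilinForm.toMatrix_toBilin b
      (Matrix.of fun i j => if i < j then B (b i) (b j) else if i = j then c i else 0)) i) j
    rw [LinearMap.BilinForm.toMatrix_apply] at this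
    exact this
  have hsymm : ∀ x y, B x y = B y x := fun x y => by
    have := LinearMap.IsAlt.neg hB x y
    rw [CharTwo.neg_eq] at this
    exact this
  have hpol : QuadraticMap.polarBilin (LinearMap.BilinMap.toQuadraticMap T) = B := by
    rw [LinearMap.BilinMap.polarBilin_toQuadraticMap]
    refine LinearMap.BilinForm.ext_basis b fun i j => ?_
    show T (b i) (b j) + T (b j) (b i) = B (b i) (b j)
    rw [hT, hT]
    rcases lt_trichotomy i j with h | h | h
    · rw [if_pos h, if_neg (lt_asymm h), if_neg h.ne', add_zero]
    · subst h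
      rw [if_neg (lt_irrefl i), if_pos rfl, hB (b i), CharTwo.add_self_eq_zero]
    · rw [if_neg (lt_asymm h), if_neg h.ne', if_pos h, zero_add, hsymm]
  refine ⟨LinearMap.BilinMap.toQuadraticMap T, ⟨hpol, fun i => ?_⟩, ?_⟩
  · rw [LinearMap.BilinMap.toQuadraticMap_apply, hT, if_neg (lt_irrefl i), if_pos rfl]
  rintro Q ⟨hQ, hv⟩
  refine QuadraticMap.ext fun v => ?_
  have hadd : ∀ x y, Q (x + y) = Q x + Q y + B x y := by
    intro x y
    rw [← hQ, QuadraticMap.polarBilin_apply_apply, QuadraticMap.polar]; ring
  have hadd' : ∀ x y, LinearMap.BilinMap.toQuadraticMap T (x + y)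
      = LinearMap.BilinMap.toQuadraticMap T x + LinearMap.BilinMap.toQuadraticMap T y + B x y := by
    intro x y
    rw [← hpol, QuadraticMap.polarBilin_apply_apply, QuadraticMap.polar]; ring
  have hmem : v ∈ Submodule.span F (Set.range b) := by rw [b.span_eq]; trivial
  induction hmem using Submodule.span_induction with
  | mem x hx =>
    obtain ⟨i, rfl⟩ := hx
    rw [hv, LinearMap.BilinMap.toQuadraticMap_apply, hT, if_neg (lt_irrefl i), if_pos rfl]
  | zero => rw [map_zero, map_zero]
  | add x y _ _ hx hy => rw [hadd, hadd', hx, hy]
  | smul a x _ hx => rw [QuadraticMap.map_smul, QuadraticMap.map_smul, hx]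

end Cfsg.Agent.S2619
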