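import Cfsg.Statements.S2622
import Cfsg.Agent.EqLemmas

set_option autoImplicit false
open Cfsg

namespace Cfsg.Agent.S2622

theorem orth_family {F V : Type*} [Field F] [Finite F] [CharP F 2] [AddCommGroup V] [Module F V]
    [FiniteDimensional F V] (B : LinearMap.BilinForm F V) (hS : B.IsSymm) (W : Submodule F V)
    (hW : ∀ x ∈ W, (∀ y ∈ W, B x y = 0) → x = 0) (hna : W = ⊥ ∨ ∃ v ∈ W, B v v ≠ 0) :
    ∃ (k : ℕ) (e : Fin k → V), (∀ i, e i ∈ W) ∧ (∀ i j, B (e i) (e j) = if i = j then 1 else 0) ∧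
      W ≤ Submodule.span F (Set.range e) := by
  classical
  induction W using WellFoundedLT.induction with
  | ind W ih =>
  rcases hna with rfl | ⟨v₀, hv₀, hv₀0⟩
  · exact ⟨0, Fin.elim0, fun i => i.elim0, fun i => i.elim0, bot_le⟩
  have hcomm : ∀ x y, B x y = B y x := fun x y => hS.eq x y
  have h2 : (2 : F) = 0 := CharP.cast_eq_zero F 2
  obtain ⟨s, hs⟩ : IsSquare (B v₀ v₀) :=
    FiniteField.isSquare_of_char_two (ringChar.eq F 2) _
  have hs0 : s ≠ 0 := fun h => hv₀0 (by rw [hs, h, mul_zero])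
  obtain ⟨v, hv, hv1, hgood⟩ : ∃ v ∈ W, B v v = 1 ∧
      (W ⊓ LinearMap.ker (B v) = ⊥ ∨ ∃ w ∈ W ⊓ LinearMap.ker (B v), B w w ≠ 0) := by
    have hv : s⁻¹ • v₀ ∈ W := W.smul_mem _ hv₀
    have hv1 : B (s⁻¹ • v₀) (s⁻¹ • v₀) = 1 := by
      simp only [map_smul, LinearMap.smul_apply, smul_eq_mul, hs]
      field_simp
    generalize s⁻¹ • v₀ = v at hv hv1
    by_cases h : W ⊓ LinearMap.ker (B v) = ⊥ ∨ ∃ w ∈ W ⊓ LinearMap.ker (B v), B w w ≠ 0
    · exact ⟨v, hv, hv1, h⟩
    push Not at h
    obtain ⟨hbot, halt⟩ := h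
    obtain ⟨f, hf, hf0⟩ := Submodule.exists_mem_ne_zero_of_ne_bot hbot
    obtain ⟨g, hg, hfg⟩ : ∃ g ∈ W ⊓ LinearMap.ker (B v), B f g = 1 := by
      obtain ⟨y, hy, hfy⟩ : ∃ y ∈ W, B f y ≠ 0 := by
        by_contra h
        push Not at h
        exact hf0 (hW f hf.1 h)
      refine ⟨(B f y)⁻¹ • (y - B v y • v), Submodule.smul_mem _ _ ⟨W.sub_mem hy (W.smul_mem _ hv), ?_⟩, ?_⟩
      · rw [SetLike.mem_coe, LinearMap.mem_ker, map_sub, map_smul, hv1, smul_eq_mul, mul_one, sub_self]
      · have hfv : B f v = 0 := by rw [hcomm]; exact hf.2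
        rw [map_smul, map_sub, map_smul, hfv, smul_zero, sub_zero, smul_eq_mul, inv_mul_cancel₀ hfy]
    have hvf : B v f = 0 := hf.2
    have hvg : B v g = 0 := hg.2
    refine ⟨v + f, W.add_mem hv hf.1, ?_, Or.inr ⟨v + g, ⟨W.add_mem hv hg.1, ?_⟩, ?_⟩⟩
    · simp [hv1, hvf, hcomm f v, halt f hf]
    · rw [SetLike.mem_coe, LinearMap.mem_ker]
      simp [hv1, hvg, hcomm f v, hvf, hfg, one_add_one_eq_two, h2]
    · simp [hv1, hvg, hcomm g v, halt g hg]
  have hlt : W ⊓ LinearMap.ker (B v) < W := by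
    refine lt_of_le_of_ne inf_le_left fun h => ?_
    have hh : v ∈ W ⊓ LinearMap.ker (B v) := h.symm ▸ hv
    exact one_ne_zero (hv1.symm.trans hh.2)
  have hdec : ∀ y ∈ W, y - B v y • v ∈ W ⊓ LinearMap.ker (B v) := fun y hy =>
    ⟨W.sub_mem hy (W.smul_mem _ hv), by
      rw [SetLike.mem_coe, LinearMap.mem_ker, map_sub, map_smul, hv1, smul_eq_mul, mul_one, sub_self]⟩
  obtain ⟨k, e, he, horth, hspan⟩ := ih _ hlt (fun x hx hx0 => hW x hx.1 fun y hy => by
    have hxv : B x v = 0 := by rw [hcomm]; exact hx.2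
    have := hx0 _ (hdec y hy)
    rwa [map_sub, map_smul, hxv, smul_zero, sub_zero] at this) hgood
  refine ⟨k + 1, Fin.cons v e, fun i => ?_, fun i j => ?_, fun y hy => ?_⟩
  · induction i using Fin.cases with
    | zero => simpa using hv
    | succ i => simpa using (he i).1
  · induction i using Fin.cases with
    | zero =>
      induction j using Fin.cases with
      | zero => simpa using hv1
      | succ j =>
        have := (he j).2
        rw [SetLike.mem_coe, LinearMap.mem_ker] at this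
        simp [this, (Fin.succ_ne_zero j).symm]
    | succ i =>
      induction j using Fin.cases with
      | zero =>
        have := (he i).2
        rw [SetLike.mem_coe, LinearMap.mem_ker] at this
        simp [hcomm (e i) v, this, Fin.succ_ne_zero i]
      | succ j => simpa using horth i j
  · have h1 : y - B v y • v ∈ Submodule.span F (Set.range (Fin.cons v e : Fin (k + 1) → V)) :=
      Submodule.span_mono (by rintro _ ⟨i, rfl⟩; exact ⟨i.succ, by simp⟩) (hspan (hdec y hy))
    have h2 : v ∈ Submodule.span F (Set.range (Fin.cons v e : Fin (k + 1) → V)) :=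
      Submodule.subset_span ⟨0, by simp⟩
    simpa using Submodule.add_mem _ h1 (Submodule.smul_mem _ (B v y) h2)

/-- Over a finite field of characteristic two, a non-degenerate symmetric bilinear form that is not alternating (some vector v has B(v, v) ≠ 0) admits an orthonormal basis. -/
theorem result {F V : Type*} [Field F] [Finite F] [CharP F 2] [AddCommGroup V] [Module F V] [FiniteDimensional F V] {n : ℕ} (hV : Module.finrank F V = n) (B : LinearMap.BilinForm F V) (hS : B.IsSymm) (hB : B.Nondegenerate) (hna : ∃ v : V, B v v ≠ 0) : ∃ b : Module.Basis (Fin n) F V, ∀ i j, B (b i) (b j) = if i = j then 1 else 0 := by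
  classical
  obtain ⟨k, e, -, horth, hspan⟩ := orth_family B hS ⊤
    (fun x _ hx => hB.1 x fun y => hx y trivial) (Or.inr ⟨hna.choose, trivial, hna.choose_spec⟩)
  have hli : LinearIndependent F e := by
    rw [Fintype.linearIndependent_iff]
    intro c hc i
    have := congrArg (B (e i)) hc
    rw [map_sum, map_zero] at this
    simpa [horth] using this
  let b0 : Module.Basis (Fin k) F V := Module.Basis.mk hli (by simpa using hspan)
  have hk : k = n := by rw [← hV, Module.finrank_eq_card_basis b0, Fintype.card_fin]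
  subst hk
  exact ⟨b0, fun i j => by simpa [b0] using horth i j⟩

end Cfsg.Agent.S2622
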