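import Cfsg.Statements.S2623
import Cfsg.Agent.EqLemmas
import Cfsg.Agent.Lib.QuadClass.Odd

set_option autoImplicit false
open Cfsg Cfsg.Agent

namespace Cfsg.Agent.S2623

/-- Over a finite field of odd order, two quadratic forms on F^n with non-degenerate polar forms are isometric (related by an invertible linear change of variables) if and only if their discriminants (determinants of the Gram matrices of their polar forms) lie in the same square class. -/
theorem result {F : Type*} [Field F] [Fintype F] (h2 : (2 : F) ≠ 0) {n : ℕ} (Q₁ Q₂ : QuadraticForm F (Fin n → F)) (h₁ : (QuadraticMap.polarBilin Q₁).Nondegenerate) (h₂ : (QuadraticMap.polarBilin Q₂).Nondegenerate) : (∃ g : (Fin n → F) ≃ₗ[F] (Fin n → F), ∀ v, Q₂ (g v) = Q₁ v) ↔ IsSquare ((Matrix.of (fun i j : Fin n => QuadraticMap.polar ⇑Q₁ (Pi.single i 1) (Pi.single j 1))).det * (Matrix.of (fun i j : Fin n => QuadraticMap.polar ⇑Q₂ (Pi.single i 1) (Pi.single j 1))).det) := by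
  rw [← QuadClass.disc_eq, ← QuadClass.disc_eq, ← QuadClass.equivalent_iff_disc h2 Q₁ Q₂ h₁ h₂]
  constructor
  · rintro ⟨g, hg⟩
    exact ⟨⟨g, hg⟩⟩
  · rintro ⟨e⟩
    exact ⟨e.toLinearEquiv, e.map_app⟩

end Cfsg.Agent.S2623
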