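import Cfsg.Statements.S2624
import Cfsg.Agent.EqLemmas
import Cfsg.Agent.Lib.QuadClass.Odd

set_option autoImplicit false
open Cfsg Cfsg.Agent

namespace Cfsg.Agent.S2624

/-- For a quadratic form Q on F^n with non-degenerate polar form, F finite and n ≥ 2 even, every non-zero scalar c is the multiplier of some similarity: there is an invertible linear map g with Q(g v) = c·Q(v) for all v. -/
theorem result {F : Type*} [Field F] [Fintype F] {n : ℕ} (hn : 2 ≤ n) (he : Even n) (Q : QuadraticForm F (Fin n → F)) (hQ : (QuadraticMap.polarBilin Q).Nondegenerate) (c : F) (hc : c ≠ 0) : ∃ g : (Fin n → F) ≃ₗ[F] (Fin n → F), ∀ v, Q (g v) = c * Q v := by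
  classical
  by_cases h2 : (2 : F) = 0
  · have hchar : ringChar F = 2 :=
      CharP.ringChar_of_prime_eq_zero Nat.prime_two (by exact_mod_cast h2)
    obtain ⟨s, hs⟩ := FiniteField.isSquare_of_char_two hchar c
    have hs0 : s ≠ 0 := fun h => hc (by rw [hs, h, mul_zero])
    refine ⟨LinearEquiv.smulOfNeZero F _ s hs0, fun v => ?_⟩
    show Q (s • v) = c * Q v
    rw [QuadraticMap.map_smul, hs, smul_eq_mul]
  · have hpol : QuadraticMap.polarBilin (c • Q) = c • QuadraticMap.polarBilin Q := by
      refine LinearMap.ext fun u => LinearMap.ext fun v => ?_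
      simp [QuadraticMap.polar, mul_sub]
    have hcQ : (QuadraticMap.polarBilin (c • Q)).Nondegenerate := by
      rw [hpol]
      constructor
      · intro x hx
        exact hQ.1 x fun y => (mul_eq_zero.1 (by simpa using hx y)).resolve_left hc
      · intro x hx
        exact hQ.2 x fun y => (mul_eq_zero.1 (by simpa using hx y)).resolve_left hc
    obtain ⟨k, hk⟩ := he
    have hsq : IsSquare (QuadClass.disc (c • Q) * QuadClass.disc Q) := by
      refine ⟨c ^ k * QuadClass.disc Q, ?_⟩
      simp only [QuadClass.disc, hpol, map_smul, Matrix.det_smul, Fintype.card_fin, hk, pow_add]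
      ring
    obtain ⟨e⟩ := (QuadClass.equivalent_iff_disc h2 (c • Q) Q hcQ hQ).2 hsq
    exact ⟨e.toLinearEquiv, fun v => by simpa using e.map_app v⟩

end Cfsg.Agent.S2624
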