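import Cfsg.Statements.S2625
import Cfsg.Agent.EqLemmas

set_option autoImplicit false
open Cfsg

namespace Cfsg.Agent.S2625

/-- For a quadratic form Q on F^n with non-degenerate polar form, F finite and n odd (so |F| is odd), the multiplier of any similarity is a square: if g is an invertible linear map with Q(g v) = c·Q(v) for all v then c is a square. -/
theorem result {F : Type*} [Field F] [Fintype F] {n : ℕ} (hn : Odd n) (Q : QuadraticForm F (Fin n → F)) (hQ : (QuadraticMap.polarBilin Q).Nondegenerate) (g : (Fin n → F) ≃ₗ[F] (Fin n → F)) (c : F) (hg : ∀ v, Q (g v) = c * Q v) : IsSquare c := by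
  classical
  set B : LinearMap.BilinForm F (Fin n → F) := QuadraticMap.polarBilin Q with hBdef
  have hdet : (LinearMap.BilinForm.toMatrix' B).det ≠ 0 :=
    Matrix.nondegenerate_iff_det_ne_zero.1 (LinearMap.BilinForm.nondegenerate_toMatrix'_iff.2 hQ)
  have hcomp : B.comp g.toLinearMap g.toLinearMap = c • B := by
    refine LinearMap.ext fun u => LinearMap.ext fun v => ?_
    simp [hBdef, QuadraticMap.polar, ← map_add, hg, mul_sub]
  have hM := congrArg LinearMap.BilinForm.toMatrix' hcomp
  rw [LinearMap.BilinForm.toMatrix'_comp, map_smul] at hM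
  have hd := congrArg Matrix.det hM
  rw [Matrix.det_mul, Matrix.det_mul, Matrix.det_transpose, Matrix.det_smul, Fintype.card_fin] at hd
  set d := (LinearMap.toMatrix' g.toLinearMap).det with hddef
  have hcn : d ^ 2 = c ^ n := mul_right_cancel₀ hdet (by rw [← hd]; ring)
  obtain ⟨k, rfl⟩ := hn
  by_cases hc : c = 0
  · exact hc ▸ IsSquare.zero
  · refine ⟨d / c ^ k, ?_⟩
    field_simp
    rw [← pow_mul, hcn]
    ring

end Cfsg.Agent.S2625
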