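import Cfsg.Statements.S2626
import Cfsg.Agent.EqLemmas

set_option autoImplicit false
open Cfsg

namespace Cfsg.Agent.S2626

/-- Ω of an orthogonal direct sum contains the product of the Ω's: for quadratic forms Q₁ on F^k and Q₂ on F^l with non-degenerate polar forms (F finite) and Q = Q₁ ⊕ Q₂ on F^(k+l), if g₁ lies in Ω(Q₁) and g₂ in Ω(Q₂) (commutator subgroups of the orthogonal groups) then the block-diagonal isometry diag(g₁, g₂) lies in Ω(Q). -/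
theorem result {F : Type*} [Field F] [Fintype F] {k l : ℕ} (Q₁ : QuadraticForm F (Fin k → F)) (Q₂ : QuadraticForm F (Fin l → F)) (h₁ : (QuadraticMap.polarBilin Q₁).Nondegenerate) (h₂ : (QuadraticMap.polarBilin Q₂).Nondegenerate) (g₁ : ↥(Cfsg.isometryGroup F ⇑Q₁)) (g₂ : ↥(Cfsg.isometryGroup F ⇑Q₂)) (hg₁ : g₁ ∈ Cfsg.Omega F ⇑Q₁) (hg₂ : g₂ ∈ Cfsg.Omega F ⇑Q₂) : ∃ g : ↥(Cfsg.isometryGroup F (fun v : Fin k ⊕ Fin l → F => Q₁ (v ∘ Sum.inl) + Q₂ (v ∘ Sum.inr))), g ∈ Cfsg.Omega F (fun v : Fin k ⊕ Fin l → F => Q₁ (v ∘ Sum.inl) + Q₂ (v ∘ Sum.inr)) ∧ ((g : Matrix.GeneralLinearGroup (Fin k ⊕ Fin l) F) : Matrix (Fin k ⊕ Fin l) (Fin k ⊕ Fin l) F) = Matrix.fromBlocks ((g₁ : Matrix.GeneralLinearGroup (Fin k) F) : Matrix (Fin k) (Fin k) F) 0 0 ((g₂ : Matrix.GeneralLinearGroup (Fin l) F) : Matrix (Fin l) (Fin l) F) := by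
  classical
  let Q : (Fin k ⊕ Fin l → F) → F := fun v => Q₁ (v ∘ Sum.inl) + Q₂ (v ∘ Sum.inr)
  let M : ↥(Cfsg.isometryGroup F ⇑Q₁) × ↥(Cfsg.isometryGroup F ⇑Q₂) →*
      Matrix (Fin k ⊕ Fin l) (Fin k ⊕ Fin l) F :=
    { toFun := fun g => Matrix.fromBlocks ((g.1 : GL (Fin k) F) : Matrix (Fin k) (Fin k) F) 0 0
        ((g.2 : GL (Fin l) F) : Matrix (Fin l) (Fin l) F)
      map_one' := by simp [Matrix.fromBlocks_one]
      map_mul' := fun g h => by simp [Matrix.fromBlocks_multiply] }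
  have hM : ∀ g, M.toHomUnits g ∈ Cfsg.isometryGroup F Q := by
    intro g u _
    show Q ((M g).mulVec u) = Q u
    have h1 := g.1.2 (u ∘ Sum.inl) (u ∘ Sum.inl)
    have h2 := g.2.2 (u ∘ Sum.inr) (u ∘ Sum.inr)
    show Q₁ _ + Q₂ _ = Q₁ _ + Q₂ _
    simp [M, Matrix.fromBlocks_mulVec, Sum.elim_comp_inl, Sum.elim_comp_inr] at h1 h2 ⊢
    rw [h1, h2]
  let ψ := M.toHomUnits.codRestrict (Cfsg.isometryGroup F Q) hM
  have hmap : (Cfsg.Omega F ⇑Q₁).prod (Cfsg.Omega F ⇑Q₂) ≤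
      (commutator ↥(Cfsg.isometryGroup F Q)).comap ψ := by
    rw [← Subgroup.map_le_iff_le_comap]
    refine le_trans ?_ (Subgroup.commutator_mono (le_top (a := ψ.range)) (le_top (a := ψ.range)))
    rw [MonoidHom.range_eq_map ψ, ← Subgroup.map_commutator]
    refine Subgroup.map_mono ?_
    rw [← Subgroup.top_prod_top, Subgroup.commutator_prod_prod]
    exact le_rfl
  exact ⟨ψ (g₁, g₂), hmap ⟨hg₁, hg₂⟩, rfl⟩

end Cfsg.Agent.S2626
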