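import Cfsg.Statements.S2628
import Cfsg.Agent.EqLemmas
import Cfsg.Agent.Lib.OrthAct.SumForm

set_option autoImplicit false
open Cfsg Cfsg.Agent Cfsg.Agent.Orth Cfsg.Agent.OrthAct
open Module (finrank)

namespace Cfsg.Agent.S2628

/-- For the orthogonal direct sum Q ⊕ Q of two copies of a quadratic form Q with non-degenerate polar form on F^k (F finite), every isometry g of Q acting diagonally, diag(g, g), lies in Ω(Q ⊕ Q), the commutator subgroup of the orthogonal group of Q ⊕ Q. (Excluded: k = 2 over the field of two elements, where Q ⊕ Q is the hyperbolic 4-space whose orthogonal group's commutator subgroup is smaller than the group usually called Ω.) -/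
theorem result {F : Type*} [Field F] [Fintype F] {k : ℕ} (h : Fintype.card F ≠ 2 ∨ k ≠ 2) (Q : QuadraticForm F (Fin k → F)) (hQ : (QuadraticMap.polarBilin Q).Nondegenerate) (g : ↥(Cfsg.isometryGroup F ⇑Q)) : ∃ x : ↥(Cfsg.isometryGroup F (fun v : Fin k ⊕ Fin k → F => Q (v ∘ Sum.inl) + Q (v ∘ Sum.inr))), x ∈ Cfsg.Omega F (fun v : Fin k ⊕ Fin k → F => Q (v ∘ Sum.inl) + Q (v ∘ Sum.inr)) ∧ ((x : Matrix.GeneralLinearGroup (Fin k ⊕ Fin k) F) : Matrix (Fin k ⊕ Fin k) (Fin k ⊕ Fin k) F) = Matrix.fromBlocks ((g : Matrix.GeneralLinearGroup (Fin k) F) : Matrix (Fin k) (Fin k) F) 0 0 ((g : Matrix.GeneralLinearGroup (Fin k) F) : Matrix (Fin k) (Fin k) F) := by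
  classical
  have hG : Good (sumForm Q Q) := Good.of_card (sumForm_nondegenerate hQ hQ)
    (h.imp_right fun h' => by simp; omega)
  obtain ⟨a, ha⟩ : ∃ a, a = inlHom Q Q g := ⟨_, rfl⟩
  let P : Matrix (Fin k ⊕ Fin k) (Fin k ⊕ Fin k) F := Matrix.fromBlocks 0 1 1 0
  have hPP : P * P = 1 := by simp [P, Matrix.fromBlocks_multiply, Matrix.fromBlocks_one]
  let u : GL (Fin k ⊕ Fin k) F := ⟨P, P, hPP, hPP⟩
  let s : IsoGrp (sumForm Q Q) := ⟨u, fun v _ => by
    show sumForm Q Q (P.mulVec v) = sumForm Q Q v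
    simp [P, sumForm_coe, Matrix.fromBlocks_mulVec, Sum.elim_comp_inl, Sum.elim_comp_inr, add_comm]⟩
  have hs : s⁻¹ = s := Subtype.ext (Units.ext rfl)
  have hmat : ∀ y z : IsoGrp (sumForm Q Q),
      (((y * z : IsoGrp (sumForm Q Q)) : GL (Fin k ⊕ Fin k) F) :
        Matrix (Fin k ⊕ Fin k) (Fin k ⊕ Fin k) F) =
      ((y : GL (Fin k ⊕ Fin k) F) : Matrix (Fin k ⊕ Fin k) (Fin k ⊕ Fin k) F) *
        ((z : GL (Fin k ⊕ Fin k) F) : Matrix (Fin k ⊕ Fin k) (Fin k ⊕ Fin k) F) := fun y z => rfl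
  have hsm : ((s : GL (Fin k ⊕ Fin k) F) : Matrix (Fin k ⊕ Fin k) (Fin k ⊕ Fin k) F) = P := rfl
  refine ⟨a * (s * a * s⁻¹), (mem_omega_iff hG (a * (s * a * s⁻¹))).2 ⟨?_, ?_⟩, ?_⟩
  · rw [hs, dick_mul hG, dick_mul hG, dick_mul hG, show dick s * dick a * dick s = dick a * (dick s * dick s) by ring]
    rcases dick_eq_or a with h1 | h1 <;> rcases dick_eq_or s with h2 | h2 <;> rw [h1, h2] <;> norm_num
  · rw [hs, spin_mul hG, spin_mul hG, spin_mul hG, show spin s * spin a * spin s = spin a * (spin s * spin s) by ring]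
    rcases spin_eq_or hG a with h1 | h1 <;> rcases spin_eq_or hG s with h2 | h2 <;> rw [h1, h2] <;> norm_num
  · refine ((hmat a (s * a * s⁻¹)).trans ?_)
    rw [hmat, hmat, hs, ha, inlHom_mat, hsm]
    simp [P, Matrix.fromBlocks_multiply]

end Cfsg.Agent.S2628
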