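import Cfsg.Statements.S2629
import Cfsg.Agent.EqLemmas
import Cfsg.Agent.Lib.OrthAct.MaxClass

set_option autoImplicit false
open Cfsg Cfsg.Agent Cfsg.Agent.Orth Cfsg.Agent.OrthAct
open Module (finrank)

namespace Cfsg.Agent.S2629

/-- For the hyperbolic form Σ x_i y_i on F^(2m) over a finite field of odd order (m ≥ 1), an isometry g preserves the class of the maximal totally singular subspace U₀ = {y = 0} (that is, m − dim(U₀ ∩ gU₀) is even) if and only if det g = 1: the stabiliser of each of the two classes of maximal totally singular subspaces is SO. -/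
theorem result {F : Type*} [Field F] [Fintype F] (h2 : (2 : F) ≠ 0) {m : ℕ} (hm : 1 ≤ m) (g : ↥(Cfsg.isometryGroup F (Cfsg.quadFormPlus m F))) : Even (m - Module.finrank F ↥(LinearMap.ker (LinearMap.funLeft F F (Sum.inr : Fin m → Fin m ⊕ Fin m)) ⊓ (LinearMap.ker (LinearMap.funLeft F F (Sum.inr : Fin m → Fin m ⊕ Fin m))).map (Matrix.mulVecLin ((g : Matrix.GeneralLinearGroup (Fin m ⊕ Fin m) F) : Matrix (Fin m ⊕ Fin m) (Fin m ⊕ Fin m) F)))) ↔ ((g : Matrix.GeneralLinearGroup (Fin m ⊕ Fin m) F) : Matrix (Fin m ⊕ Fin m) (Fin m ⊕ Fin m) F).det = 1 := by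
  classical
  obtain ⟨x, hx⟩ : ∃ x : IsoGrp (quadPlus m F), ∀ v, ap x v =
      ((g : Matrix.GeneralLinearGroup (Fin m ⊕ Fin m) F) : Matrix (Fin m ⊕ Fin m) (Fin m ⊕ Fin m) F).mulVec v :=
    ⟨⟨g.1, fun u v => by rw [quadPlus_coe]; exact g.2 u v⟩, fun v => rfl⟩
  have hG := Good.of_two_ne_zero (quadPlus_nondegenerate m) h2
  obtain ⟨hU, hU0⟩ := base_subspace_facts (F := F) m
  have hmap : Matrix.mulVecLin ((g : Matrix.GeneralLinearGroup (Fin m ⊕ Fin m) F) :
      Matrix (Fin m ⊕ Fin m) (Fin m ⊕ Fin m) F) = ap x := LinearMap.ext fun v => (hx v).symm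
  have hmat : ((g : Matrix.GeneralLinearGroup (Fin m ⊕ Fin m) F) : Matrix (Fin m ⊕ Fin m) (Fin m ⊕ Fin m) F) =
      ((x : GL (Fin m ⊕ Fin m) F) : Matrix (Fin m ⊕ Fin m) (Fin m ⊕ Fin m) F) :=
    Matrix.ext_iff_mulVec.2 fun v => (hx v).symm
  rw [hmap, ← neg_one_pow_eq_one_iff_even (R := ℤ) (by norm_num),
    ← dick_eq_parity hG (by simp [two_mul]) hU hU0 x, hmat, det_eq_dick hG]
  rcases dick_eq_or x with hd | hd <;> rw [hd]
  · simp
  · simp only [Int.cast_neg, Int.cast_one]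
    constructor
    · intro h; norm_num at h
    · intro h; exact absurd (by linear_combination -h) h2

end Cfsg.Agent.S2629
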