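import Cfsg.Statements.S2630
import Cfsg.Agent.EqLemmas
import Cfsg.Agent.Lib.OrthAct.MaxClass

set_option autoImplicit false
open Cfsg Cfsg.Agent Cfsg.Agent.Orth Cfsg.Agent.OrthAct
open Module (finrank)

namespace Cfsg.Agent.S2630

/-- For the hyperbolic form Σ x_i y_i on F^(2m) over a finite field of characteristic two (m ≥ 1, excluding m = 2 over the field of two elements), an isometry g preserves the class of the maximal totally singular subspace U₀ = {y = 0} (m − dim(U₀ ∩ gU₀) even) if and only if g lies in Ω (the commutator subgroup of the orthogonal group): the stabiliser of each class is Ω. -/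
theorem result {F : Type*} [Field F] [Fintype F] [CharP F 2] {m : ℕ} (hm : 1 ≤ m) (h : Fintype.card F ≠ 2 ∨ m ≠ 2) (g : ↥(Cfsg.isometryGroup F (Cfsg.quadFormPlus m F))) : Even (m - Module.finrank F ↥(LinearMap.ker (LinearMap.funLeft F F (Sum.inr : Fin m → Fin m ⊕ Fin m)) ⊓ (LinearMap.ker (LinearMap.funLeft F F (Sum.inr : Fin m → Fin m ⊕ Fin m))).map (Matrix.mulVecLin ((g : Matrix.GeneralLinearGroup (Fin m ⊕ Fin m) F) : Matrix (Fin m ⊕ Fin m) (Fin m ⊕ Fin m) F)))) ↔ g ∈ Cfsg.Omega F (Cfsg.quadFormPlus m F) := by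
  classical
  have hG : Good (quadPlus m F) := good_quadPlus m h
  obtain ⟨hU, hU0⟩ := base_subspace_facts (F := F) m
  have h20 : (2 : F) = 0 := CharP.cast_eq_zero F 2
  revert g
  rw [← quadPlus_coe]
  intro g
  have hpar := dick_eq_parity hG (by simp [two_mul]) hU hU0 g
  rw [← neg_one_pow_eq_one_iff_even (R := ℤ) (by norm_num)]
  refine Iff.trans ?_ (mem_omega_iff hG g).symm
  rw [spin_eq_one_of_two hG h20, hpar]
  exact (and_iff_left rfl).symm

end Cfsg.Agent.S2630
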