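import Cfsg.Statements.S2631
import Cfsg.Agent.EqLemmas
import Cfsg.Agent.Lib.OrthAct.MaxClass

set_option autoImplicit false
open Cfsg Cfsg.Agent Cfsg.Agent.Orth Cfsg.Agent.OrthAct
open Module (finrank)

namespace Cfsg.Agent.S2631

/-- For the hyperbolic form Σ x_i y_i on F^(2m) over a finite field (m ≥ 1, excluding m = 2 over the field of two elements), Ω (the commutator subgroup of the orthogonal group) acts transitively on each of the two classes of maximal totally singular subspaces: if U and W are m-dimensional totally singular subspaces with m − dim(U ∩ W) even, some element of Ω carries U to W. -/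
theorem result {F : Type*} [Field F] [Fintype F] {m : ℕ} (hm : 1 ≤ m) (h : Fintype.card F ≠ 2 ∨ m ≠ 2) (U W : Submodule F (Fin m ⊕ Fin m → F)) (hU : Module.finrank F U = m) (hW : Module.finrank F W = m) (hU0 : ∀ u ∈ U, Cfsg.quadFormPlus m F u = 0) (hW0 : ∀ w ∈ W, Cfsg.quadFormPlus m F w = 0) (he : Even (m - Module.finrank F ↥(U ⊓ W))) : ∃ g : ↥(Cfsg.isometryGroup F (Cfsg.quadFormPlus m F)), g ∈ Cfsg.Omega F (Cfsg.quadFormPlus m F) ∧ U.map (Matrix.mulVecLin ((g : Matrix.GeneralLinearGroup (Fin m ⊕ Fin m) F) : Matrix (Fin m ⊕ Fin m) (Fin m ⊕ Fin m) F)) = W := by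
  classical
  have hG : Good (quadPlus m F) := good_quadPlus m h
  rw [← quadPlus_coe] at hU0 hW0 ⊢
  obtain ⟨g, -, hgU⟩ := exists_iso_map (Q := quadPlus m F) hG.nd
    (LinearEquiv.ofFinrankEq (R := F) U W (hU.trans hW.symm))
    (fun x => by rw [hU0 _ x.2, hW0 _ (Subtype.prop _)])
  have hd : dick g = 1 := by
    rw [dick_eq_parity hG (by simp [two_mul]) hU hU0 g, hgU, he.neg_one_pow]
  have hne : U ≠ ⊥ := fun h' => by rw [h', finrank_bot] at hU; omega
  obtain ⟨h', h1, h2, h3⟩ := exists_stab_torus hG g hne hU0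
  obtain ⟨x, hx, hxU⟩ := exists_omega_map hG g hgU ⟨h', h1, h2.trans hd.symm, h3⟩
  exact ⟨x, hx, hxU⟩

end Cfsg.Agent.S2631
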