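import Cfsg.Statements.S2632
import Cfsg.Agent.EqLemmas
import Cfsg.Agent.Lib.OrthAct.Stab

set_option autoImplicit false
open Cfsg Cfsg.Agent Cfsg.Agent.Orth Cfsg.Agent.OrthAct
open Module (finrank)

namespace Cfsg.Agent.S2632

/-- Ω is transitive on non-degenerate subspaces of each isometry type: for a quadratic form Q on F^n, n ≥ 3, with non-degenerate polar form (F finite; excluding dimension 4 over the field of two elements), if U and W are subspaces on which the polar form is non-degenerate and there is a Q-preserving linear isomorphism U → W, then some element of Ω (the commutator subgroup of the orthogonal group) carries U to W. (In dimension 2 this fails: Ω can be {±1}, which fixes every line.) -/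
theorem result {F : Type*} [Field F] [Fintype F] {n : ℕ} (hn : 3 ≤ n) (h : Fintype.card F ≠ 2 ∨ n ≠ 4) (Q : QuadraticForm F (Fin n → F)) (hQ : (QuadraticMap.polarBilin Q).Nondegenerate) (U W : Submodule F (Fin n → F)) (hU : U ⊓ LinearMap.BilinForm.orthogonal (QuadraticMap.polarBilin Q) U = ⊥) (hW : W ⊓ LinearMap.BilinForm.orthogonal (QuadraticMap.polarBilin Q) W = ⊥) (e : U ≃ₗ[F] W) (he : ∀ u : U, Q (e u : Fin n → F) = Q (u : Fin n → F)) : ∃ g : ↥(Cfsg.isometryGroup F ⇑Q), g ∈ Cfsg.Omega F ⇑Q ∧ U.map (Matrix.mulVecLin ((g : Matrix.GeneralLinearGroup (Fin n) F) : Matrix (Fin n) (Fin n) F)) = W := by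
  classical
  have hG : Good Q := Good.of_card hQ (h.imp_right fun h' => by simpa using h')
  obtain ⟨g, -, hgU⟩ := exists_iso_map hQ e he
  have hnd : ∀ V : Submodule F (Fin n → F),
      V ⊓ LinearMap.BilinForm.orthogonal (QuadraticMap.polarBilin Q) V = ⊥ →
      ∀ x ∈ V, x ≠ 0 → ∃ y ∈ V, QuadraticMap.polar (⇑Q) x y ≠ 0 := by
    intro V hV x hx hx0
    by_contra! hcon
    apply hx0
    rw [← Submodule.mem_bot F, ← hV]
    refine ⟨hx, fun y hy => ?_⟩
    show QuadraticMap.polar (⇑Q) y x = 0
    rw [pl_comm]
    exact hcon y hy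
  have hstab : ∃ h : IsoGrp Q, U.map (ap h) = U ∧ dick h = dick g ∧ spin h = spin g := by
    by_cases h2U : 2 ≤ finrank F U
    · exact exists_stab_signs hG g U (fun c _ => exists_Q_eq_in U (hnd U hU) h2U c) U
        fun v hv => refl_map_of_mem hv
    · have hperp : LinearMap.BilinForm.orthogonal (QuadraticMap.polarBilin Q) U ⊓
          LinearMap.BilinForm.orthogonal (QuadraticMap.polarBilin Q)
            (LinearMap.BilinForm.orthogonal (QuadraticMap.polarBilin Q) U) = ⊥ := by
        rw [LinearMap.BilinForm.orthogonal_orthogonal hQ, inf_comm, hU]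
        intro x y hxy
        show QuadraticMap.polar (⇑Q) y x = 0
        rw [pl_comm]; exact hxy
      refine exists_stab_signs hG g _ (fun c _ => exists_Q_eq_in _ (hnd _ hperp) ?_ c) U
        fun v hv => refl_map_of_orth fun x hx => ?_
      · rw [LinearMap.BilinForm.finrank_orthogonal hQ, finrank_space, Fintype.card_fin]
        omega
      · rw [pl_comm]; exact hv x hx
  obtain ⟨x, hx, hxU⟩ := exists_omega_map hG g hgU hstab
  exact ⟨x, hx, hxU⟩

end Cfsg.Agent.S2632
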