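import Cfsg.Statements.S2633
import Cfsg.Agent.EqLemmas
import Cfsg.Agent.Lib.OrthAct.Stab

set_option autoImplicit false
open Cfsg Cfsg.Agent Cfsg.Agent.Orth Cfsg.Agent.OrthAct
open Module (finrank)

namespace Cfsg.Agent.S2633

/-- Ω is transitive on totally singular subspaces of each dimension less than half the dimension: for a quadratic form Q on F^n with non-degenerate polar form (F finite; excluding dimension 4 over the field of two elements), if U and W are subspaces of the same dimension k with 2k < n on which Q vanishes, then some element of Ω (the commutator subgroup of the orthogonal group) carries U to W. -/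
theorem result {F : Type*} [Field F] [Fintype F] {n : ℕ} (h : Fintype.card F ≠ 2 ∨ n ≠ 4) (Q : QuadraticForm F (Fin n → F)) (hQ : (QuadraticMap.polarBilin Q).Nondegenerate) (U W : Submodule F (Fin n → F)) {k : ℕ} (hk : 2 * k < n) (hU : Module.finrank F U = k) (hW : Module.finrank F W = k) (hU0 : ∀ u ∈ U, Q u = 0) (hW0 : ∀ w ∈ W, Q w = 0) : ∃ g : ↥(Cfsg.isometryGroup F ⇑Q), g ∈ Cfsg.Omega F ⇑Q ∧ U.map (Matrix.mulVecLin ((g : Matrix.GeneralLinearGroup (Fin n) F) : Matrix (Fin n) (Fin n) F)) = W := by
  classical
  have hG : Good Q := Good.of_card hQ (h.imp_right fun h' => by simpa using h')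
  obtain ⟨g, -, hgU⟩ := exists_iso_map hQ (LinearEquiv.ofFinrankEq (R := F) U W (hU.trans hW.symm))
    (fun x => by rw [hU0 _ x.2, hW0 _ (Subtype.prop _)])
  by_cases hne : U = ⊥
  · subst hne
    refine ⟨1, Subgroup.one_mem _, ?_⟩
    rw [Submodule.map_bot] at hgU ⊢
    exact hgU
  · obtain ⟨x, hx, hxU⟩ := exists_omega_map hG g hgU
      (exists_stab_singular hG g (by rw [hU, Fintype.card_fin]; exact hk) hne hU0)
    exact ⟨x, hx, hxU⟩

end Cfsg.Agent.S2633
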