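import Cfsg.Statements.S2634
import Cfsg.Agent.EqLemmas
import Cfsg.Agent.Lib.OrthAct.Stab

set_option autoImplicit false
open Cfsg Cfsg.Agent Cfsg.Agent.Orth Cfsg.Agent.OrthAct
open Module (finrank)

namespace Cfsg.Agent.S2634

/-- Over a finite field of characteristic two, Ω (the commutator subgroup of the orthogonal group of a quadratic form Q on F^n with non-degenerate polar form; excluding dimension 4 over the field of two elements) acts transitively on the non-singular 1-spaces: for u, v with Q(u) ≠ 0 and Q(v) ≠ 0 some element of Ω carries the line through u to the line through v. -/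
theorem result {F : Type*} [Field F] [Fintype F] [CharP F 2] {n : ℕ} (h : Fintype.card F ≠ 2 ∨ n ≠ 4) (Q : QuadraticForm F (Fin n → F)) (hQ : (QuadraticMap.polarBilin Q).Nondegenerate) (u v : Fin n → F) (hu : Q u ≠ 0) (hv : Q v ≠ 0) : ∃ g : ↥(Cfsg.isometryGroup F ⇑Q), g ∈ Cfsg.Omega F ⇑Q ∧ (F ∙ ((g : Matrix.GeneralLinearGroup (Fin n) F) : Matrix (Fin n) (Fin n) F).mulVec u) = F ∙ v := by
  classical
  have hG : Good Q := Good.of_card hQ (h.imp_right fun h' => by simpa using h')
  have h20 : (2 : F) = 0 := CharP.cast_eq_zero F 2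
  obtain ⟨s, hs⟩ : IsSquare (Q u / Q v) := FiniteField.isSquare_of_char_two (ringChar.eq F 2) _
  have hs0 : s ≠ 0 := fun h' => by rw [h', mul_zero] at hs; exact div_ne_zero hu hv hs
  obtain ⟨g, -, hg⟩ := exists_ap_eq hQ hG.ex hu (v := s • v)
    (by rw [Q_smul, ← hs, div_mul_cancel₀ _ hv])
  have hspan : ∀ x : IsoGrp Q, ap x u = s • v ∨ ap x u = -(s • v) →
      (F ∙ ((x : Matrix.GeneralLinearGroup (Fin n) F) : Matrix (Fin n) (Fin n) F).mulVec u) = F ∙ v := by
    intro x hx
    show (F ∙ ap x u) = F ∙ v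
    rcases hx with hx | hx <;> rw [hx]
    · exact Submodule.span_singleton_smul_eq (IsUnit.mk0 s hs0) v
    · rw [← neg_smul]; exact Submodule.span_singleton_smul_eq (IsUnit.mk0 _ (neg_ne_zero.2 hs0)) v
  rcases dick_eq_or g with hd | hd
  · exact ⟨g, (mem_omega_iff hG g).2 ⟨hd, spin_eq_one_of_two hG h20 g⟩, hspan g (.inl hg)⟩
  · refine ⟨g * refl Q u, (mem_omega_iff hG (g * refl Q u)).2 ⟨?_, spin_eq_one_of_two hG h20 _⟩,
      hspan _ (.inr ?_)⟩
    · rw [dick_mul hG, hd, dick_refl hQ hu]; norm_num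
    · rw [ap_mul, refl_ap_self Q hu, map_neg, hg]

end Cfsg.Agent.S2634
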