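import Cfsg.Statements.S2635
import Cfsg.Agent.EqLemmas
import Cfsg.Agent.Lib.Orth.Spinor

set_option autoImplicit false
open Cfsg Cfsg.Agent Cfsg.Agent.Orth
open Module (finrank)

namespace Cfsg.Agent.S2635

/-- Over a finite field of characteristic two, for a quadratic form Q on F^n with non-degenerate polar form, n ≥ 2, other than dimension 4 over the field of two elements, Ω (the commutator subgroup of the orthogonal group) is exactly the subgroup generated by the products of two reflections (orthogonal transvections) x ↦ x − Q(v)⁻¹ f(x, v) v, Q(v) ≠ 0: the products of an even number of reflections. -/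
theorem result {F : Type*} [Field F] [Fintype F] [CharP F 2] {n : ℕ} (hn : 2 ≤ n) (h : Fintype.card F ≠ 2 ∨ n ≠ 4) (Q : QuadraticForm F (Fin n → F)) (hQ : (QuadraticMap.polarBilin Q).Nondegenerate) : Cfsg.Omega F ⇑Q = Subgroup.closure {g : ↥(Cfsg.isometryGroup F ⇑Q) | ∃ u v : Fin n → F, Q u ≠ 0 ∧ Q v ≠ 0 ∧ ((g : Matrix.GeneralLinearGroup (Fin n) F) : Matrix (Fin n) (Fin n) F) = Cfsg.reflectionMatrix ⇑Q u * Cfsg.reflectionMatrix ⇑Q v} := by
  classical
  have hG : Good Q := Good.of_card hQ (h.imp_right fun h' => by simpa using h')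
  have h20 : (2 : F) = 0 := CharP.cast_eq_zero F 2
  set C := Subgroup.closure {g : ↥(Cfsg.isometryGroup F ⇑Q) | ∃ u v : Fin n → F, Q u ≠ 0 ∧ Q v ≠ 0 ∧
    ((g : Matrix.GeneralLinearGroup (Fin n) F) : Matrix (Fin n) (Fin n) F) =
      Cfsg.reflectionMatrix ⇑Q u * Cfsg.reflectionMatrix ⇑Q v}
  apply le_antisymm
  · have hpair : ∀ u v, Q u ≠ 0 → Q v ≠ 0 → refl Q u * refl Q v ∈ C := fun u v hu hv =>
      Subgroup.subset_closure ⟨u, v, hu, hv, by rw [← refl_mat, ← refl_mat, ← coe_mul_mat]⟩
    have key : ∀ g : IsoGrp Q, (dick g = 1 → g ∈ C) ∧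
        (dick g = -1 → ∀ w, Q w ≠ 0 → refl Q w * g ∈ C) := by
      intro g
      induction g using reflGen_induction hG with
      | one => exact ⟨fun _ => C.one_mem, fun h' => absurd (dick_one.symm.trans h') (by norm_num)⟩
      | mul v g hv ih =>
        rw [dick_refl_mul hQ g hv]
        constructor
        · intro h'
          exact ih.2 (by omega) v hv
        · intro h' w hw
          rw [← mul_assoc]
          exact C.mul_mem (hpair w v hw hv) (ih.1 (by omega))
    intro g hg
    exact (key g).1 ((mem_omega_iff hG g).1 hg).1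
  · rw [Subgroup.closure_le]
    rintro g ⟨u, v, hu, hv, hg⟩
    have heq : (g : IsoGrp Q) = refl Q u * refl Q v :=
      Subtype.ext (Units.ext (by rw [coe_mul_mat, refl_mat, refl_mat]; exact hg))
    rw [SetLike.mem_coe, mem_omega_iff hG g]
    refine ⟨?_, spin_eq_one_of_two hG h20 g⟩
    rw [heq, dick_mul hG, dick_refl hQ hu, dick_refl hQ hv]; norm_num

end Cfsg.Agent.S2635
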