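import Cfsg.Statements.S2636
import Cfsg.Agent.EqLemmas

set_option autoImplicit false
open Cfsg

namespace Cfsg.Agent.S2636

/-- Centraliser of a field automorphism in PGL_n: let F be the field with q = q₀^r elements, σ a field automorphism of F of prime order r (so its fixed field has q₀ elements) and n ≥ 1. The invertible matrices g whose entrywise image under σ is a scalar multiple of g — those whose coset modulo scalars is fixed by σ — number (q − 1)/(q₀ − 1) · |GL_n(q₀)|; equivalently the centraliser in PGL_n(q) of the induced automorphism has the order of PGL_n(q₀). -/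
theorem result {F : Type*} [Field F] [Fintype F] {q₀ r n : ℕ} (hr : r.Prime) (hn : 1 ≤ n) (hF : Fintype.card F = q₀ ^ r) (σ : F ≃+* F) (hσ : orderOf σ = r) : Nat.card {g : GL (Fin n) F // ∃ c : F, c ≠ 0 ∧ (g : Matrix (Fin n) (Fin n) F).map σ = c • (g : Matrix (Fin n) (Fin n) F)} = (q₀ ^ r - 1) / (q₀ - 1) * ∏ i : Fin n, (q₀ ^ n - q₀ ^ (i : ℕ)) := by
  classical
  have hq0 : 2 ≤ q₀ := by
    have := Fintype.one_lt_card (α := F)
    rw [hF] at this
    by_contra h
    interval_cases q₀ <;> simp [hr.ne_zero] at this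
  let F₀ := FixedPoints.subfield (Subgroup.zpowers σ) F
  have hmem : ∀ x : F, x ∈ F₀ ↔ σ x = x := by
    intro x
    constructor
    · exact fun h => h ⟨σ, Subgroup.mem_zpowers σ⟩
    · rintro h ⟨τ, hτ⟩
      have hle : Subgroup.zpowers σ ≤ MulAction.stabilizer (RingAut F) x :=
        Subgroup.zpowers_le.2 h
      exact hle hτ
  have hcard : Nat.card F₀ = q₀ := by
    have h1 : Module.finrank F₀ F = r := by
      have : Finite (RingAut F) := Finite.of_injective (fun τ : F ≃+* F => (τ : F → F)) DFunLike.coe_injective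
      have := Fintype.ofFinite (Subgroup.zpowers σ)
      rw [FixedPoints.finrank_eq_card (Subgroup.zpowers σ) F, ← Nat.card_eq_fintype_card,
        Nat.card_zpowers, hσ]
    have h2 : Nat.card F = Nat.card F₀ ^ r := by
      rw [Module.natCard_eq_pow_finrank (K := F₀) (V := F), h1]
    rw [Nat.card_eq_fintype_card, hF] at h2
    exact Nat.pow_left_injective hr.ne_zero h2.symm
  set S := {g : GL (Fin n) F // ∃ c : F, c ≠ 0 ∧
    (g : Matrix (Fin n) (Fin n) F).map σ = c • (g : Matrix (Fin n) (Fin n) F)} with hS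
  have hne : ∀ g : GL (Fin n) F, ∃ i j, (g : Matrix (Fin n) (Fin n) F) i j ≠ 0 := by
    intro g
    by_contra h
    push Not at h
    have : Nonempty (Fin n) := ⟨⟨0, hn⟩⟩
    exact g.isUnit.ne_zero (Matrix.ext h)
  choose di dj hd using hne
  let d : GL (Fin n) F → Fˣ := fun g => Units.mk0 _ (hd g)
  -- the scalar of an element of the set is read off a nonzero entry
  have key : ∀ g : S, σ (d g.1 : F) ≠ 0 ∧ ∀ i j,
      σ ((g.1 : Matrix (Fin n) (Fin n) F) i j) * (d g.1 : F) =
        σ (d g.1 : F) * (g.1 : Matrix (Fin n) (Fin n) F) i j := by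
    rintro ⟨g, c, hc, hg⟩
    refine ⟨by simp, fun i j => ?_⟩
    have h : ∀ i j, σ ((g : Matrix (Fin n) (Fin n) F) i j) = c * (g : Matrix (Fin n) (Fin n) F) i j :=
      fun i j => congrFun (congrFun hg i) j
    simp only [d, Units.val_mk0]
    rw [h, h]
    ring
  let Z := {u : Fˣ // σ (u : F) = (u : F)}
  let GF := {h : GL (Fin n) F // (h : Matrix (Fin n) (Fin n) F).map σ = (h : Matrix (Fin n) (Fin n) F)}
  have hmap : ∀ (u : Fˣ) (h : GF), ∃ c : F, c ≠ 0 ∧
      ((u • h.1 : GL (Fin n) F) : Matrix (Fin n) (Fin n) F).map σ =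
        c • ((u • h.1 : GL (Fin n) F) : Matrix (Fin n) (Fin n) F) := by
    intro u h
    refine ⟨σ (u : F) / u, div_ne_zero (by simp) u.ne_zero, ?_⟩
    ext i j
    have := congrFun (congrFun h.2 i) j
    simp only [Matrix.map_apply] at this
    simp [Matrix.map_apply, Units.smul_def, this]
    field_simp
  let e : S × Z ≃ Fˣ × GF :=
    { toFun := fun p => (p.2.1 * d p.1.1, ⟨(p.2.1 * d p.1.1)⁻¹ • p.1.1, by
        ext i j
        have h := (key p.1).2 i j
        have hu : σ (p.2.1 : F) = p.2.1 := p.2.2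
        have hne' := (key p.1).1
        simp [Matrix.map_apply, Units.smul_def, hu]
        field_simp
        linear_combination h⟩)
      invFun := fun p => (⟨p.1 • p.2.1, hmap p.1 p.2⟩, ⟨p.1 * (d (p.1 • p.2.1))⁻¹, by
        have h := congrFun (congrFun p.2.2 (di (p.1 • p.2.1))) (dj (p.1 • p.2.1))
        simp only [Matrix.map_apply] at h
        have h3 : ((d (p.1 • p.2.1) : Fˣ) : F) = (p.1 : F) *
            (p.2.1 : Matrix (Fin n) (Fin n) F) (di (p.1 • p.2.1)) (dj (p.1 • p.2.1)) := by
          simp [d, Units.smul_def]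
        have h4 : (p.2.1 : Matrix (Fin n) (Fin n) F) (di (p.1 • p.2.1)) (dj (p.1 • p.2.1)) ≠ 0 := by
          intro h0
          rw [h0, mul_zero] at h3
          exact (d _).ne_zero h3
        rw [Units.val_mul, Units.val_inv_eq_inv_val, h3, map_mul, map_inv₀, map_mul, h]
        have hp : σ (p.1 : F) ≠ 0 := by simp
        field_simp⟩)
      left_inv := fun p => by
        have h1 : (p.2.1 * d p.1.1) • ((p.2.1 * d p.1.1)⁻¹ • p.1.1) = p.1.1 := smul_inv_smul _ _
        apply Prod.ext
        · exact Subtype.ext h1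
        · apply Subtype.ext
          show p.2.1 * d p.1.1 * (d _)⁻¹ = p.2.1
          rw [h1, mul_inv_cancel_right]
      right_inv := fun p => by
        have h1 : p.1 * (d (p.1 • p.2.1))⁻¹ * d (p.1 • p.2.1) = p.1 := inv_mul_cancel_right _ _
        apply Prod.ext
        · exact h1
        · apply Subtype.ext
          show (p.1 * (d (p.1 • p.2.1))⁻¹ * d (p.1 • p.2.1))⁻¹ • p.1 • p.2.1 = p.2.1
          rw [h1, inv_smul_smul] }
  have hZ : Nat.card Z = q₀ - 1 := by
    have eZ : Z ≃ F₀ˣ :=
      { toFun := fun u => Units.mk0 ⟨(u.1 : F), (hmem _).2 u.2⟩ (fun h => u.1.ne_zero (congrArg Subtype.val h))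
        invFun := fun u => ⟨Units.mk0 ((u : F₀) : F) (fun h => u.ne_zero (Subtype.ext h)), (hmem _).1 (u : F₀).2⟩
        left_inv := fun u => by ext; rfl
        right_inv := fun u => by ext; rfl }
    rw [Nat.card_congr eZ, Nat.card_units, hcard]
  have hGF : Nat.card GF = ∏ i : Fin n, (q₀ ^ n - q₀ ^ (i : ℕ)) := by
    let f := Matrix.GeneralLinearGroup.map (n := Fin n) F₀.subtype
    have hf : Function.Injective f := by
      intro a b h
      apply Units.ext
      ext i j
      simpa [f] using congrArg (fun x : GL (Fin n) F => (x : Matrix (Fin n) (Fin n) F) i j) h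
    have hfix : ∀ h : GL (Fin n) F₀,
        (f h : Matrix (Fin n) (Fin n) F).map σ = (f h : Matrix (Fin n) (Fin n) F) := by
      intro h
      ext i j
      simpa [f] using (hmem _).1 ((h : Matrix (Fin n) (Fin n) F₀) i j).2
    have hb : Function.Bijective (fun h => (⟨f h, hfix h⟩ : GF)) := by
      refine ⟨fun a b h => hf (congrArg Subtype.val h), fun g => ?_⟩
      let M : Matrix (Fin n) (Fin n) F₀ := Matrix.of fun i j =>
        ⟨(g.1 : Matrix (Fin n) (Fin n) F) i j, (hmem _).2 (congrFun (congrFun g.2 i) j)⟩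
      have hM : M.map F₀.subtype = (g.1 : Matrix (Fin n) (Fin n) F) := by ext i j; rfl
      have hdet : M.det ≠ 0 := by
        intro h0
        have h1 : (g.1 : Matrix (Fin n) (Fin n) F).det = 0 := by
          rw [← hM, ← RingHom.mapMatrix_apply, ← RingHom.map_det, h0, map_zero]
        exact (Matrix.isUnits_det_units g.1).ne_zero h1
      exact ⟨Matrix.GeneralLinearGroup.mkOfDetNeZero M hdet, Subtype.ext (Units.ext hM)⟩
    have := Fintype.ofFinite F₀
    rw [← Nat.card_congr (Equiv.ofBijective _ hb), Matrix.card_GL_field, ← Nat.card_eq_fintype_card,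
      hcard]
  have hprod : Nat.card S * (q₀ - 1) = (q₀ ^ r - 1) * ∏ i : Fin n, (q₀ ^ n - q₀ ^ (i : ℕ)) := by
    rw [← hZ, ← Nat.card_prod, Nat.card_congr e, Nat.card_prod, hGF, Nat.card_units,
      Nat.card_eq_fintype_card (α := F), hF]
  obtain ⟨k, hk⟩ := Nat.sub_one_dvd_pow_sub_one q₀ r
  rw [hk, Nat.mul_div_cancel_left k (by omega)]
  rw [hk, mul_assoc, mul_comm] at hprod
  exact Nat.eq_of_mul_eq_mul_left (by omega) hprod

end Cfsg.Agent.S2636
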