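import Cfsg.Statements.S2637
import Cfsg.Agent.Lib.Unitary.Count
import Cfsg.Agent.Lib.UnitaryConj.Basic
import Cfsg.Agent.Lib.FormClasses.Groups
import Mathlib.Algebra.QuadraticAlgebra.Basic

set_option autoImplicit false
open Cfsg

namespace Cfsg.Agent.S2637

open Polynomial

variable {F : Type*} [Field F] {m : ℕ}

/-- The quadratic extension by a cube root of unity. -/
abbrev Quad (F : Type*) [Field F] : Type _ := QuadraticAlgebra F (-1) (-1)

/-- The real form of a matrix over the quadratic extension. -/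
def real (Z : Matrix (Fin m) (Fin m) (Quad F)) : Matrix (Fin m ⊕ Fin m) (Fin m ⊕ Fin m) F :=
  Matrix.fromBlocks (Z.map (·.re)) (-(Z.map (·.im))) (Z.map (·.im)) (Z.map (·.re) - Z.map (·.im))

/-- The standard element of order three. -/
def std (m : ℕ) (F : Type*) [Field F] : Matrix (Fin m ⊕ Fin m) (Fin m ⊕ Fin m) F :=
  Matrix.fromBlocks 0 (-1) 1 (-1)

theorem std_rel : std m F * std m F + std m F + 1 = 0 := by
  rw [std, Matrix.fromBlocks_multiply, ← Matrix.fromBlocks_one, Matrix.fromBlocks_add, Matrix.fromBlocks_add,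
    ← Matrix.fromBlocks_zero]
  simp

theorem comm_std_iff (M : Matrix (Fin m ⊕ Fin m) (Fin m ⊕ Fin m) F) :
    std m F * M = M * std m F ↔ ∃ Z, real Z = M := by
  obtain ⟨A, B, C, D, rfl⟩ : ∃ A B C D, M = Matrix.fromBlocks A B C D :=
    ⟨_, _, _, _, (Matrix.fromBlocks_toBlocks M).symm⟩
  rw [std, Matrix.fromBlocks_multiply, Matrix.fromBlocks_multiply, Matrix.fromBlocks_inj]
  simp only [Matrix.zero_mul, Matrix.mul_zero, Matrix.neg_mul, Matrix.mul_neg, Matrix.one_mul,
    Matrix.mul_one, zero_add]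
  constructor
  · rintro ⟨h1, h2, h3, h4⟩
    refine ⟨Matrix.of fun i j => ⟨A i j, C i j⟩, ?_⟩
    rw [real, Matrix.fromBlocks_inj]
    refine ⟨rfl, ?_, rfl, ?_⟩
    · show -C = B
      exact h1
    · show A - C = D
      rw [sub_eq_add_neg]
      exact h3
  · rintro ⟨Z, hZ⟩
    rw [real, Matrix.fromBlocks_inj] at hZ
    obtain ⟨rfl, rfl, rfl, rfl⟩ := hZ
    refine ⟨rfl, ?_, ?_, ?_⟩ <;> abel

theorem real_injective : Function.Injective (real (m := m) (F := F)) := fun Z W h => by
  rw [real, real, Matrix.fromBlocks_inj] at h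
  ext i j
  · exact congrFun (congrFun h.1 i) j
  · exact congrFun (congrFun h.2.2.1 i) j

theorem map_re_mul (Z W : Matrix (Fin m) (Fin m) (Quad F)) :
    (Z * W).map (·.re) = Z.map (·.re) * W.map (·.re) - Z.map (·.im) * W.map (·.im) := by
  ext i j
  simp only [Matrix.map_apply, Matrix.mul_apply, Matrix.sub_apply]
  show QuadraticAlgebra.reₗ (-1 : F) (-1) _ = _
  rw [map_sum, ← Finset.sum_sub_distrib]
  refine Finset.sum_congr rfl fun k _ => ?_
  show (Z i k * W k j).re = _
  simp only [QuadraticAlgebra.re_mul]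
  ring

theorem map_im_mul (Z W : Matrix (Fin m) (Fin m) (Quad F)) :
    (Z * W).map (·.im) = Z.map (·.re) * W.map (·.im) + Z.map (·.im) * W.map (·.re) -
      Z.map (·.im) * W.map (·.im) := by
  ext i j
  simp only [Matrix.map_apply, Matrix.mul_apply, Matrix.sub_apply, Matrix.add_apply]
  show QuadraticAlgebra.imₗ (-1 : F) (-1) _ = _
  rw [map_sum, ← Finset.sum_add_distrib, ← Finset.sum_sub_distrib]
  refine Finset.sum_congr rfl fun k _ => ?_
  show (Z i k * W k j).im = _
  simp only [QuadraticAlgebra.im_mul]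
  ring

theorem real_mem_iff (Z : Matrix (Fin m) (Fin m) (Quad F)) :
    real Z ∈ Matrix.symplecticGroup (Fin m) F ↔ Z * (Z.map star).transpose = 1 := by
  rw [SymplecticGroup.mem_iff, real, Matrix.J, Matrix.fromBlocks_transpose,
    Matrix.fromBlocks_multiply, Matrix.fromBlocks_multiply, Matrix.fromBlocks_inj]
  simp only [Matrix.mul_zero, Matrix.mul_one, Matrix.mul_neg, Matrix.neg_mul, zero_add, add_zero,
    Matrix.transpose_neg, Matrix.transpose_sub, neg_neg, neg_zero]
  set A := Z.map (·.re) with hA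
  set B := Z.map (·.im) with hB
  have hS1 : ((Z.map star).transpose).map (·.re) = A.transpose - B.transpose := by
    ext i j
    simp [hA, hB, sub_eq_add_neg]
  have hS2 : ((Z.map star).transpose).map (·.im) = -B.transpose := by
    ext i j
    simp [hB]
  have e1 := map_re_mul Z (Z.map star).transpose
  have e2 := map_im_mul Z (Z.map star).transpose
  rw [hS1, hS2, ← hA, ← hB] at e1 e2
  simp only [Matrix.mul_sub, Matrix.sub_mul, Matrix.mul_neg, Matrix.neg_mul, sub_neg_eq_add] at e1 e2 ⊢
  have h1re : (1 : Matrix (Fin m) (Fin m) (Quad F)).map (·.re) = 1 := by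
    ext i j
    by_cases h : i = j
    · subst h; simp [QuadraticAlgebra.re_one]
    · simp [h]
  have h1im : (1 : Matrix (Fin m) (Fin m) (Quad F)).map (·.im) = 0 := by
    ext i j; by_cases h : i = j <;> simp [h, QuadraticAlgebra.im_one]
  constructor
  · rintro ⟨h1, h2, h3, -⟩
    ext i j
    · have := congrFun (congrFun e1 i) j
      have a := congrFun (congrFun h2 i) j
      simp only [Matrix.map_apply, Matrix.add_apply, Matrix.sub_apply, Matrix.neg_apply] at this a ⊢
      have b := congrFun (congrFun h1re i) j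
      simp only [Matrix.map_apply] at b
      rw [this, b]
      linear_combination -a
    · have := congrFun (congrFun e2 i) j
      have a := congrFun (congrFun h1 i) j
      simp only [Matrix.map_apply, Matrix.add_apply, Matrix.sub_apply, Matrix.neg_apply,
        Matrix.zero_apply] at this a ⊢
      have b := congrFun (congrFun h1im i) j
      simp only [Matrix.map_apply, Matrix.zero_apply] at b
      rw [this, b]
      linear_combination -a
  · intro h
    rw [h, h1re] at e1
    rw [h, h1im] at e2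
    have sa : ∀ i j, (B * A.transpose) i j = (A * B.transpose) i j := fun i j => by
      have := congrFun (congrFun e2 i) j
      simp only [Matrix.add_apply, Matrix.sub_apply, Matrix.neg_apply, Matrix.zero_apply] at this
      linear_combination -this
    have sb : ∀ i j, (A * A.transpose) i j - (A * B.transpose) i j + (B * B.transpose) i j =
        (1 : Matrix (Fin m) (Fin m) F) i j := fun i j => by
      have := congrFun (congrFun e1 i) j
      simp only [Matrix.add_apply, Matrix.sub_apply] at this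
      linear_combination -this
    refine ⟨?_, ?_, ?_, ?_⟩ <;> ext i j <;>
      simp only [Matrix.add_apply, Matrix.sub_apply, Matrix.neg_apply, Matrix.zero_apply] <;>
      first
      | linear_combination sa i j
      | linear_combination -(sa i j)
      | linear_combination sb i j
      | linear_combination -(sb i j)
      | linear_combination sb i j + sa i j
      | linear_combination sb i j - sa i j
      | linear_combination -(sb i j) + sa i j
      | linear_combination -(sb i j) - sa i j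

theorem charpoly_of_rel (hirr : Irreducible (X ^ 2 + X + 1 : F[X]))
    (M : Matrix (Fin m ⊕ Fin m) (Fin m ⊕ Fin m) F) (h : M * M + M + 1 = 0) :
    M.charpoly = (X ^ 2 + X + 1 : F[X]) ^ m := by
  have hP : (X ^ 2 + X + 1 : F[X]).Monic := by monicity!
  have hd : (X ^ 2 + X + 1 : F[X]).natDegree = 2 := by compute_degree!
  have haeval : aeval (Matrix.toLin' M) (X ^ 2 + X + 1 : F[X]) = 0 := by
    simp only [map_add, map_pow, aeval_X, map_one, map_mul, sq]
    rw [Module.End.mul_eq_comp, ← Matrix.toLin'_mul, Module.End.one_eq_id, ← Matrix.toLin'_one,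
      ← map_add, ← map_add, h, map_zero]
  have key : ∀ (d : ℕ) (P : F[X]), P.natDegree ≤ d → P.Monic → P ∣ M.charpoly →
      ∃ k, P = (X ^ 2 + X + 1 : F[X]) ^ k := by
    intro d
    induction d with
    | zero =>
      intro P hd' hm _
      exact ⟨0, by rw [pow_zero, ← hm.natDegree_eq_zero]; omega⟩
    | succ d ih =>
      intro P hd' hm hdvd
      by_cases h0 : P.natDegree = 0
      · exact ⟨0, by rw [pow_zero, ← hm.natDegree_eq_zero]; exact h0⟩
      obtain ⟨p, hpm, hp, hpP⟩ := exists_monic_irreducible_factor P (fun hu => h0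
        (natDegree_eq_zero_of_isUnit hu))
      have hpd : p ∣ (X ^ 2 + X + 1 : F[X]) := by
        by_contra hnd
        obtain ⟨v, hv, hpv⟩ := Semisimple.exists_aeval_eq_zero_of_dvd_charpoly (Matrix.toLin' M) hp
          (by rw [Matrix.charpoly_toLin']; exact hpP.trans hdvd)
        obtain ⟨a, b, hab⟩ := hp.coprime_iff_not_dvd.2 hnd
        apply hv
        have := congrArg (fun r => aeval (Matrix.toLin' M) r v) hab
        simpa [haeval, hpv] using this.symm
      have he : p = X ^ 2 + X + 1 :=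
        eq_of_monic_of_associated hpm hP (hp.associated_of_dvd hirr hpd)
      subst he
      obtain ⟨P', rfl⟩ := hpP
      have hm' : P'.Monic := hpm.of_mul_monic_left hm
      rw [hpm.natDegree_mul hm', hd] at hd'
      obtain ⟨k, rfl⟩ := ih P' (by omega) hm' (dvd_trans (dvd_mul_left _ _) hdvd)
      exact ⟨k + 1, (pow_succ' _ k).symm⟩
  obtain ⟨k, hk⟩ := key _ _ le_rfl (Matrix.charpoly_monic M) dvd_rfl
  have := congrArg natDegree hk
  rw [Matrix.charpoly_natDegree_eq_dim, natDegree_pow, hd, Fintype.card_sum, Fintype.card_fin] at this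
  rw [hk, show k = m by omega]

theorem no_root [Fintype F] {q : ℕ} (hF : Fintype.card F = q) (hq : q % 3 = 2) (a : F) :
    a * a + a + 1 ≠ 0 := by
  intro h
  have h3 : a ^ 3 = 1 := by linear_combination (a - 1) * h
  have ha : a ≠ 0 := fun h0 => by simp [h0] at h3
  have h1 := FiniteField.pow_card_sub_one_eq_one a ha
  rw [hF, show q - 1 = 3 * (q / 3) + 1 by omega, pow_succ, pow_mul, h3, one_pow, one_mul] at h1
  subst h1
  have h30 : (3 : F) = 0 := by linear_combination h
  obtain ⟨p, hp⟩ := CharP.exists F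
  obtain ⟨k, hprime, hcard⟩ := FiniteField.card F p
  have : p = 3 := (Nat.prime_dvd_prime_iff_eq hprime Nat.prime_three).1
    ((CharP.cast_eq_zero_iff F p 3).1 (by exact_mod_cast h30))
  subst this
  rw [hF] at hcard
  have : (3 : ℕ) ∣ q := hcard ▸ dvd_pow_self 3 k.ne_zero
  omega

theorem card_centralizer [Fintype F] {q : ℕ} (hF : Fintype.card F = q) (hq : q % 3 = 2)
    (x₀ : Matrix.symplecticGroup (Fin m) F)
    (hx₀ : (x₀ : Matrix (Fin m ⊕ Fin m) (Fin m ⊕ Fin m) F) = std m F) :
    Nat.card ↥(Subgroup.centralizer ({x₀} : Set ↥(Matrix.symplecticGroup (Fin m) F))) =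
      q ^ (m * (m - 1) / 2) *
        ∏ i ∈ Finset.range m, (if Even i then q ^ (i + 1) + 1 else q ^ (i + 1) - 1) := by
  classical
  haveI : Fact (∀ r : F, r ^ 2 ≠ -1 + -1 * r) :=
    ⟨fun r h => no_root hF hq r (by linear_combination h)⟩
  letI : Fintype (Quad F) := Fintype.ofEquiv _ (QuadraticAlgebra.equivProd (-1 : F) (-1)).symm
  have hK : Fintype.card (Quad F) = q ^ 2 := by
    rw [Fintype.card_congr (QuadraticAlgebra.equivProd (-1 : F) (-1)), Fintype.card_prod, hF, sq]
  obtain ⟨p, hp⟩ := CharP.exists F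
  obtain ⟨s, hprime, hs⟩ := FiniteField.card F p
  haveI := Fact.mk hprime
  haveI : CharP (Quad F) p := charP_of_injective_algebraMap (algebraMap F (Quad F)).injective p
  have hfrob : ∀ z : Quad F, z ^ q = star z := by
    intro z
    have hω : (⟨0, 1⟩ : Quad F) ^ 3 = 1 := by
      ext <;> simp [pow_succ, QuadraticAlgebra.re_one, QuadraticAlgebra.im_one]
    have e : z = algebraMap F (Quad F) z.re + algebraMap F (Quad F) z.im * ⟨0, 1⟩ := by
      ext <;> simp [QuadraticAlgebra.algebraMap_eq]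
    have hωq : (⟨0, 1⟩ : Quad F) ^ q = ⟨-1, -1⟩ := by
      rw [show q = 3 * (q / 3) + 2 by omega, pow_add, pow_mul, hω, one_pow, one_mul, sq]
      ext <;> simp
    conv_lhs => rw [e]
    rw [show q = p ^ (s : ℕ) by rw [← hF, hs], add_pow_char_pow, mul_pow, ← map_pow, ← map_pow,
      show p ^ (s : ℕ) = q by rw [← hF, hs], hωq, ← hF, FiniteField.pow_card, FiniteField.pow_card]
    ext <;> simp [QuadraticAlgebra.algebraMap_eq, sub_eq_add_neg]
  have hadj : ∀ Z : Matrix (Fin m) (Fin m) (Quad F), UnitaryConj.adj hK Z = (Z.map star).transpose := by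
    intro Z
    ext1 i j
    exact hfrob (Z j i)
  have hmem : ∀ g : ↥(Cfsg.GU m (Quad F) q),
      ((g : GL (Fin m) (Quad F)) : Matrix (Fin m) (Fin m) (Quad F)) *
        (((g : GL (Fin m) (Quad F)) : Matrix (Fin m) (Fin m) (Quad F)).map star).transpose = 1 := fun g => by
    rw [← hadj]
    exact mul_eq_one_comm.1 ((UnitaryConj.mem_GU_iff_adj hK _).1 g.2)
  let f : ↥(Cfsg.GU m (Quad F) q) → ↥(Subgroup.centralizer ({x₀} : Set ↥(Matrix.symplecticGroup (Fin m) F))) :=
    fun g => ⟨⟨real ((g : GL (Fin m) (Quad F)) : Matrix (Fin m) (Fin m) (Quad F)), (real_mem_iff _).2 (hmem g)⟩,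
      Subgroup.mem_centralizer_singleton_iff.2 (Subtype.ext (by
        show real _ * (x₀ : Matrix (Fin m ⊕ Fin m) (Fin m ⊕ Fin m) F) =
          (x₀ : Matrix (Fin m ⊕ Fin m) (Fin m ⊕ Fin m) F) * real _
        rw [hx₀]
        exact ((comm_std_iff _).2 ⟨_, rfl⟩).symm))⟩
  have hbij : Function.Bijective f := by
    refine ⟨fun g h he => Subtype.ext (Units.ext (real_injective
      (congrArg (fun c => ((c.1 : ↥(Matrix.symplecticGroup (Fin m) F)) :
        Matrix (Fin m ⊕ Fin m) (Fin m ⊕ Fin m) F)) he))), fun c => ?_⟩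
    have hc := congrArg Subtype.val (Subgroup.mem_centralizer_singleton_iff.1 c.2)
    change (c.1 : Matrix (Fin m ⊕ Fin m) (Fin m ⊕ Fin m) F) * (x₀ : Matrix _ _ F) =
      (x₀ : Matrix (Fin m ⊕ Fin m) (Fin m ⊕ Fin m) F) * (c.1 : Matrix _ _ F) at hc
    rw [hx₀] at hc
    obtain ⟨Z, hZ⟩ := (comm_std_iff _).1 hc.symm
    have hZ1 : Z * UnitaryConj.adj hK Z = 1 := by
      rw [hadj]
      exact (real_mem_iff Z).1 (hZ ▸ c.1.2)
    let u : GL (Fin m) (Quad F) := ⟨Z, UnitaryConj.adj hK Z, hZ1, mul_eq_one_comm.1 hZ1⟩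
    exact ⟨⟨u, (UnitaryConj.mem_GU_iff_adj hK u).2 (mul_eq_one_comm.1 hZ1)⟩,
      Subtype.ext (Subtype.ext hZ)⟩
  rw [← Nat.card_eq_of_bijective f hbij, Unitary.card_GU hK m]


/-- Centraliser of a fixed-point-free element of order three in Sp_2m(q) when q ≡ 2 (mod 3): if x ∈ Sp_2m(F) (|F| = q, m ≥ 1) satisfies x³ = 1 and x − 1 is invertible, then its centraliser in Sp_2m(F) has the order of the unitary group GU_m(q), namely q^(m(m−1)/2) Π_(i=1)^m (q^i − (−1)^i) (x lies in the centre of a subgroup GU_m(q) of Sp_2m(q)). -/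
theorem result {F : Type*} [Field F] [Fintype F] {q : ℕ} (hF : Fintype.card F = q) (hq : q % 3 = 2) {m : ℕ} (hm : 1 ≤ m) (x : Matrix.symplecticGroup (Fin m) F) (hx3 : x ^ 3 = 1) (hfpf : IsUnit ((x : Matrix (Fin m ⊕ Fin m) (Fin m ⊕ Fin m) F) - 1)) : (Nat.card ↥(Subgroup.centralizer ({x} : Set ↥(Matrix.symplecticGroup (Fin m) F))) : ℤ) = (q : ℤ) ^ (m * (m - 1) / 2) * ∏ i : Fin m, ((q : ℤ) ^ ((i : ℕ) + 1) - (-1) ^ ((i : ℕ) + 1)) := by
  classical
  obtain ⟨p, hp⟩ := CharP.exists F
  obtain ⟨s, hprime, hs⟩ := FiniteField.card F p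
  haveI := Fact.mk hprime
  haveI : Finite ↥(Matrix.symplecticGroup (Fin m) F) := Subtype.finite
  have hirr : Irreducible (Polynomial.X ^ 2 + Polynomial.X + 1 : Polynomial F) := by
    have hd : (Polynomial.X ^ 2 + Polynomial.X + 1 : Polynomial F).natDegree = 2 := by compute_degree!
    rw [Polynomial.irreducible_iff_roots_eq_zero_of_degree_le_three hd.ge (hd.le.trans (by norm_num)),
      Multiset.eq_zero_iff_forall_notMem]
    intro a ha
    rw [Polynomial.mem_roots'] at ha
    refine no_root hF hq a ?_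
    have := ha.2
    simp only [Polynomial.IsRoot, Polynomial.eval_add, Polynomial.eval_pow, Polynomial.eval_X,
      Polynomial.eval_one] at this
    linear_combination this
  have h3p : Nat.Coprime 3 p := by
    refine (Nat.coprime_primes Nat.prime_three hprime).2 fun h => ?_
    rw [← h, hF] at hs
    have : (3 : ℕ) ∣ q := hs ▸ dvd_pow_self 3 s.ne_zero
    omega
  obtain ⟨M, hM⟩ : ∃ M, M = ((x : Matrix (Fin m ⊕ Fin m) (Fin m ⊕ Fin m) F)) := ⟨_, rfl⟩
  rw [← hM] at hfpf
  have hM3 : M * M * M = 1 := by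
    have := congrArg Subtype.val hx3
    rw [SubmonoidClass.coe_pow, ← hM, pow_succ, pow_two] at this
    exact this
  have hrel : M * M + M + 1 = 0 := hfpf.mul_right_eq_zero.1 (by
    rw [← sub_eq_zero.2 hM3]
    simp only [mul_add, sub_mul, mul_one, one_mul, mul_assoc]
    abel)
  have hmem : std m F ∈ Matrix.symplecticGroup (Fin m) F := by
    have e : std m F = real (Matrix.diagonal fun _ : Fin m => (⟨0, 1⟩ : Quad F)) := by
      rw [std, real, Matrix.diagonal_map rfl, Matrix.diagonal_map rfl]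
      simp
    rw [e, real_mem_iff, Matrix.diagonal_map (star_zero _), Matrix.diagonal_transpose,
      Matrix.diagonal_mul_diagonal, ← Matrix.diagonal_one]
    congr 1
    funext i
    ext <;> simp [QuadraticAlgebra.re_one, QuadraticAlgebra.im_one]
  let x₀ : Matrix.symplecticGroup (Fin m) F := ⟨std m F, hmem⟩
  have hx₀3 : x₀ ^ 3 = 1 := Subtype.ext (by
    show std m F ^ 3 = 1
    rw [pow_succ, pow_two, eq_neg_of_add_eq_zero_left (by rw [← add_assoc]; exact std_rel :
      std m F * std m F + (std m F + 1) = 0), Matrix.neg_mul, Matrix.add_mul, one_mul]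
    exact neg_eq_of_add_eq_zero_right std_rel)
  have hcop : ∀ y : Matrix.symplecticGroup (Fin m) F, y ^ 3 = 1 → (orderOf y).Coprime p := fun y hy =>
    Nat.Coprime.coprime_dvd_left (orderOf_dvd_of_pow_eq_one hy) h3p
  obtain ⟨c, hc⟩ := isConj_iff.1 (FormClasses.sp_isConj p m x₀ x (hcop _ hx₀3) (hcop _ hx3)
    (by rw [← hM, charpoly_of_rel hirr M hrel]; exact charpoly_of_rel hirr _ std_rel))
  have hcard : Nat.card ↥(Subgroup.centralizer ({x} : Set ↥(Matrix.symplecticGroup (Fin m) F))) =
      Nat.card ↥(Subgroup.centralizer ({x₀} : Set ↥(Matrix.symplecticGroup (Fin m) F))) := by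
    refine (Nat.card_congr ((MulAut.conj c).toEquiv.subtypeEquiv fun g => ?_)).symm
    rw [Subgroup.mem_centralizer_singleton_iff, Subgroup.mem_centralizer_singleton_iff, ← hc]
    show g * x₀ = x₀ * g ↔ c * g * c⁻¹ * (c * x₀ * c⁻¹) = c * x₀ * c⁻¹ * (c * g * c⁻¹)
    rw [show c * g * c⁻¹ * (c * x₀ * c⁻¹) = c * (g * x₀) * c⁻¹ by group,
      show c * x₀ * c⁻¹ * (c * g * c⁻¹) = c * (x₀ * g) * c⁻¹ by group, mul_left_inj, mul_right_inj]
  rw [hcard, card_centralizer hF hq x₀ rfl, Nat.cast_mul, Nat.cast_pow, Nat.cast_prod,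
    ← Fin.prod_univ_eq_prod_range]
  congr 1
  refine Finset.prod_congr rfl fun i _ => ?_
  rcases Nat.even_or_odd (i : ℕ) with he | he
  · rw [if_pos he, he.add_one.neg_one_pow, Nat.cast_add, Nat.cast_pow, Nat.cast_one]
    ring
  · rw [if_neg (Nat.not_even_iff_odd.2 he), he.add_one.neg_one_pow,
      Nat.cast_sub (Nat.one_le_pow _ _ (by omega)), Nat.cast_pow, Nat.cast_one]

end Cfsg.Agent.S2637
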