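import Cfsg.Statements.S2638
import Cfsg.Agent.EqLemmas

set_option autoImplicit false
open Cfsg

namespace Cfsg.Agent.S2638

/-- If an element x of GL_n(q), n ≥ 1, has prime order r and the multiplicative order of q modulo r is n (r is a primitive prime divisor of q^n − 1, so x acts irreducibly), then the centraliser of x in GL_n(q) is cyclic of order q^n − 1 (the multiplicative group of the field with q^n elements, a Singer cycle). -/
theorem result {F : Type*} [Field F] [Fintype F] {p q : ℕ} [Fact p.Prime] [CharP F p] (hF : Fintype.card F = q) {n r : ℕ} (hn : 1 ≤ n) (hr : r.Prime) (hrp : r ≠ p) (hi : orderOf (q : ZMod r) = n) (x : GL (Fin n) F) (hx : orderOf x = r) : IsCyclic ↥(Subgroup.centralizer ({x} : Set (GL (Fin n) F))) ∧ Nat.card ↥(Subgroup.centralizer ({x} : Set (GL (Fin n) F))) = q ^ n - 1 := by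
  classical
  obtain ⟨A, hA⟩ : ∃ A : Matrix (Fin n) (Fin n) F, A = (x : Matrix (Fin n) (Fin n) F) := ⟨_, rfl⟩
  haveI := Fact.mk hr
  have : Nonempty (Fin n) := ⟨⟨0, hn⟩⟩
  have hAr : A ^ r = 1 := by
    rw [hA, ← Units.val_pow_eq_pow_val, ← hx, pow_orderOf_eq_one, Units.val_one]
  have hA1 : A ≠ 1 := fun h => hr.one_lt.ne' (by
    rw [← hx, orderOf_eq_one_iff]
    exact Units.ext (by rw [← hA, h, Units.val_one]))
  have hr0 : (r : F) ≠ 0 := by
    rw [Ne, CharP.cast_eq_zero_iff F p r]
    intro h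
    exact hrp ((Nat.prime_dvd_prime_iff_eq Fact.out hr).1 h).symm
  set μ := minpoly F A with hμ
  have hint : IsIntegral F A := Matrix.isIntegral A
  have hμdvd : μ ∣ Polynomial.X ^ r - 1 := minpoly.dvd F A (by simp [hAr])
  have hsep : (Polynomial.X ^ r - 1 : Polynomial F).Separable :=
    Polynomial.separable_X_pow_sub_C 1 hr0 one_ne_zero
  -- a monic irreducible factor not vanishing at one
  obtain ⟨P, hPirr, hPmon, hPdvd, hP1⟩ : ∃ P : Polynomial F, Irreducible P ∧ P.Monic ∧ P ∣ μ ∧
      P.eval 1 ≠ 0 := by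
    by_contra h
    push Not at h
    have hsq : Squarefree μ := (hsep.of_dvd hμdvd).squarefree
    have hdvd : μ ∣ Polynomial.X - Polynomial.C 1 := by
      obtain ⟨Q, hQm, hQi, hQd⟩ := Polynomial.exists_monic_irreducible_factor μ (minpoly.not_isUnit F A)
      obtain ⟨R, hR⟩ := hQd
      have hQ : Q = Polynomial.X - Polynomial.C 1 :=
        (Polynomial.eq_of_monic_of_associated (Polynomial.monic_X_sub_C 1) hQm
          ((Polynomial.irreducible_X_sub_C 1).associated_of_dvd hQi
            (Polynomial.dvd_iff_isRoot.2 (h Q hQi hQm ⟨R, hR⟩)))).symm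
      by_cases hRu : IsUnit R
      · rw [hR, hQ]
        exact hRu.mul_right_dvd.2 dvd_rfl
      · exfalso
        obtain ⟨Q', hQm', hQi', hQd'⟩ := Polynomial.exists_monic_irreducible_factor R hRu
        have hQ' : Q' = Polynomial.X - Polynomial.C 1 :=
          (Polynomial.eq_of_monic_of_associated (Polynomial.monic_X_sub_C 1) hQm'
            ((Polynomial.irreducible_X_sub_C 1).associated_of_dvd hQi'
              (Polynomial.dvd_iff_isRoot.2 (h Q' hQi' hQm' (hQd'.trans ⟨Q, by rw [hR, mul_comm]⟩))))).symm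
        rw [hQ'] at hQd'
        exact (Polynomial.irreducible_X_sub_C (1 : F)).not_isUnit
          (hsq _ (hR ▸ mul_dvd_mul (hQ ▸ dvd_refl _) hQd'))
    have : Polynomial.aeval A (Polynomial.X - Polynomial.C (1 : F)) = 0 :=
      Polynomial.aeval_eq_zero_of_dvd_aeval_eq_zero hdvd (minpoly.aeval F A)
    exact hA1 (by simpa [sub_eq_zero] using this)
  haveI := Fact.mk hPirr
  set E := AdjoinRoot P
  set ζ : E := AdjoinRoot.root P
  have hEdim : Module.finrank F E = P.natDegree := by
    rw [(AdjoinRoot.powerBasis hPirr.ne_zero).finrank, AdjoinRoot.powerBasis_dim]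
  haveI : FiniteDimensional F E := (AdjoinRoot.powerBasis hPirr.ne_zero).finite
  haveI : Finite E := Module.finite_of_finite F
  haveI := Fintype.ofFinite E
  have hζr : ζ ^ r = 1 := by
    have : AdjoinRoot.mk P (Polynomial.X ^ r - 1) = 0 :=
      AdjoinRoot.mk_eq_zero.2 (hPdvd.trans hμdvd)
    simpa [sub_eq_zero] using this
  have hζ1 : ζ ≠ 1 := by
    intro h
    have h1 : AdjoinRoot.mk P (Polynomial.X - Polynomial.C 1) = 0 := by
      simpa [sub_eq_zero] using h
    rw [AdjoinRoot.mk_eq_zero] at h1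
    exact hP1 (Polynomial.dvd_iff_isRoot.1
      ((hPirr.associated_of_dvd (Polynomial.irreducible_X_sub_C 1) h1).dvd'))
  have hnd : n ∣ P.natDegree := by
    rw [← hi, orderOf_dvd_iff_pow_eq_one]
    have hζ0 : ζ ≠ 0 := fun h => by simp [h, zero_pow hr.ne_zero] at hζr
    have ho : orderOf ζ = r := orderOf_eq_prime hζr hζ1
    have hd : r ∣ Fintype.card E - 1 := by
      rw [← ho]
      exact orderOf_dvd_of_pow_eq_one (FiniteField.pow_card_sub_one_eq_one ζ hζ0)
    rw [Module.card_eq_pow_finrank (K := F) (V := E), hF, hEdim] at hd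
    have hq1 : 1 ≤ q ^ P.natDegree := Nat.one_le_pow _ _ (hF ▸ Fintype.card_pos)
    have := (ZMod.natCast_eq_zero_iff _ _).2 hd
    rw [Nat.cast_sub hq1, Nat.cast_pow, Nat.cast_one, sub_eq_zero] at this
    exact this
  have hle : μ.natDegree ≤ n := by
    have := Polynomial.natDegree_le_of_dvd (Matrix.minpoly_dvd_charpoly A) A.charpoly_monic.ne_zero
    rwa [Matrix.charpoly_natDegree_eq_dim, Fintype.card_fin] at this
  have hPle : P.natDegree ≤ μ.natDegree :=
    Polynomial.natDegree_le_of_dvd hPdvd (minpoly.ne_zero hint)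
  have hPn : P.natDegree = n := le_antisymm (hPle.trans hle) (Nat.le_of_dvd hPirr.natDegree_pos hnd)
  have hPμ : P = μ :=
    (Polynomial.eq_of_monic_of_dvd_of_natDegree_le hPmon (minpoly.monic hint) hPdvd
      (hle.trans hPn.ge)).symm
  let ψ : E →ₐ[F] Matrix (Fin n) (Fin n) F :=
    Ideal.Quotient.liftₐ (Ideal.span {P}) (Polynomial.aeval A) fun Q hQ => by
      rw [Ideal.mem_span_singleton, hPμ] at hQ
      exact Polynomial.aeval_eq_zero_of_dvd_aeval_eq_zero hQ (minpoly.aeval F A)
  have hψmk : ∀ Q, ψ (AdjoinRoot.mk P Q) = Polynomial.aeval A Q := fun Q => rfl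
  have hψζ : ψ ζ = A := (hψmk Polynomial.X).trans (Polynomial.aeval_X A)
  have hψinj : Function.Injective ψ := ψ.toRingHom.injective
  obtain ⟨v, hv⟩ := exists_ne (0 : Fin n → F)
  let ev : E →ₗ[F] (Fin n → F) :=
    { toFun := fun e => (ψ e).mulVec v
      map_add' := fun e e' => by simp [Matrix.add_mulVec]
      map_smul' := fun c e => by simp [Matrix.smul_mulVec] }
  have hev : Function.Surjective ev := by
    refine (LinearMap.injective_iff_surjective_of_finrank_eq_finrank (by simp [hEdim, hPn])).1 ?_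
    rw [injective_iff_map_eq_zero]
    intro e he
    by_contra h0
    apply hv
    have he' : (ψ e).mulVec v = 0 := he
    have : (ψ (e⁻¹ * e)).mulVec v = 0 := by
      rw [map_mul, ← Matrix.mulVec_mulVec, he', Matrix.mulVec_zero]
    rwa [inv_mul_cancel₀ h0, map_one, Matrix.one_mulVec] at this
  let Φ : Eˣ →* GL (Fin n) F := Units.map (ψ : E →* Matrix (Fin n) (Fin n) F)
  have hΦinj : Function.Injective Φ := Units.map_injective hψinj
  have hrange : Φ.range = Subgroup.centralizer {x} := by
    ext h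
    rw [Subgroup.mem_centralizer_singleton_iff]
    constructor
    · rintro ⟨u, rfl⟩
      apply Units.ext
      show ψ u * (x : Matrix (Fin n) (Fin n) F) = (x : Matrix (Fin n) (Fin n) F) * ψ u
      rw [← hA, ← hψζ, ← map_mul, ← map_mul, mul_comm]
    · intro hc
      have hcA : (h : Matrix (Fin n) (Fin n) F) * A = A * h := by
        rw [hA, ← Units.val_mul, ← Units.val_mul, hc]
      have hall : ∀ e : E, (h : Matrix (Fin n) (Fin n) F) * ψ e = ψ e * h := by
        intro e
        obtain ⟨Q, rfl⟩ := AdjoinRoot.mk_surjective e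
        rw [hψmk]
        exact (Algebra.commute_of_mem_adjoin_singleton_of_commute (R := F) (Polynomial.aeval_mem_adjoin_singleton F A) hcA).eq
      obtain ⟨e0, he0⟩ := hev ((h : Matrix (Fin n) (Fin n) F).mulVec v)
      have heq : (h : Matrix (Fin n) (Fin n) F) = ψ e0 := by
        refine Matrix.ext_iff_mulVec.2 fun w => ?_
        obtain ⟨e, rfl⟩ := hev w
        show (h : Matrix (Fin n) (Fin n) F).mulVec ((ψ e).mulVec v) = (ψ e0).mulVec ((ψ e).mulVec v)
        have he0' : (ψ e0).mulVec v = (h : Matrix (Fin n) (Fin n) F).mulVec v := he0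
        rw [Matrix.mulVec_mulVec, hall, ← Matrix.mulVec_mulVec, ← he0', Matrix.mulVec_mulVec,
          Matrix.mulVec_mulVec, ← map_mul, ← map_mul, mul_comm]
      have he00 : e0 ≠ 0 := fun h0 => by
        rw [h0, map_zero] at heq
        exact h.isUnit.ne_zero heq
      exact ⟨Units.mk0 e0 he00, Units.ext heq.symm⟩
  rw [← hrange]
  refine ⟨isCyclic_of_surjective Φ.rangeRestrict Φ.rangeRestrict_surjective, ?_⟩
  rw [← Nat.card_congr (MonoidHom.ofInjective hΦinj).toEquiv, Nat.card_units, Nat.card_eq_fintype_card,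
    Module.card_eq_pow_finrank (K := F) (V := E), hF, hEdim, hPn]

end Cfsg.Agent.S2638
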