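import Cfsg.Statements.S2639
import Cfsg.Agent.EqLemmas
import Cfsg.Agent.Lib.Restrict.Basic

set_option autoImplicit false
open Cfsg

namespace Cfsg.Agent.S2639

/-- The unitary group embeds in the symplectic group of twice the dimension over the subfield: for a field K with q² elements and a field F with q elements (isomorphic to the subfield of K of order q), there is an injective homomorphism GU_m(q) → Sp_2m(F). -/
theorem result {K F : Type*} [Field K] [Fintype K] [Field F] [Fintype F] {q : ℕ} (hK : Fintype.card K = q ^ 2) (hF : Fintype.card F = q) (m : ℕ) : ∃ φ : ↥(Cfsg.GU m K q) →* ↥(Matrix.symplecticGroup (Fin m) F), Function.Injective φ := by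
  classical
  obtain ⟨_, h2⟩ := Restrict.exists_algebra hK hF
  obtain ⟨b, hb⟩ := Restrict.exists_basis_one h2
  let L : (Fin m → K) ≃ₗ[F] (Fin m ⊕ Fin m → F) :=
    { toFun := fun v => Sum.elim (fun i => b.equivFun (v i) 0) (fun i => b.equivFun (v i) 1)
      invFun := fun w i => b.equivFun.symm ![w (Sum.inl i), w (Sum.inr i)]
      map_add' := fun u v => by funext x; cases x <;> simp
      map_smul' := fun c v => by funext x; cases x <;> simp
      left_inv := fun v => funext fun i => by
        apply b.equivFun.injective
        rw [LinearEquiv.apply_symm_apply]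
        funext k
        fin_cases k <;> simp
      right_inv := fun w => by funext x; cases x <;> simp [LinearEquiv.apply_symm_apply] }
  -- the functional killing the base field
  set lam : K →ₗ[F] F := b.coord 1 with hlam
  have hlam0 : ∀ c : F, lam (algebraMap F K c) = 0 := fun c => by
    rw [Algebra.algebraMap_eq_smul_one, ← hb, map_smul]
    simp [hlam]
  have hnorm : ∀ x : K, lam (x * x ^ q) = 0 := fun x => by
    obtain ⟨c, hc⟩ := Restrict.norm_mem_range hK hF x
    rw [← hc, hlam0]
  have hfr : ∀ x : K, FiniteField.frobeniusAlgHom F K x = x ^ q := fun x => by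
    simp [hF]
  have key : ∀ x y : K, lam (x * y ^ q) =
      -(b.equivFun x 0 * b.equivFun y 1) + b.equivFun x 1 * b.equivFun y 0 := by
    intro x y
    have hx := b.sum_equivFun x
    have hy := b.sum_equivFun y
    rw [Fin.sum_univ_two] at hx hy
    have h10 : lam (b 1 * b 0 ^ q) = 1 := by
      rw [hb, one_pow, mul_one]
      simp [hlam]
    have h01 : lam (b 0 * b 1 ^ q) = -1 := by
      have h := hnorm (b 0 + b 1)
      rw [← hfr, map_add, hfr, hfr, add_mul, mul_add, mul_add, map_add, map_add, map_add, hnorm, hnorm,
        h10] at h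
      linear_combination h
    conv_lhs => rw [← hx, ← hy, ← hfr, map_add, map_smul, map_smul, hfr, hfr]
    simp only [add_mul, mul_add, smul_mul_assoc, mul_smul_comm, map_add, map_smul, smul_eq_mul,
      hnorm, h10, h01]
    ring
  have hdot : ∀ u v : Fin m → K,
      L u ⬝ᵥ (Matrix.J (Fin m) F).mulVec (L v) = lam (Cfsg.hermForm m K q u v) := by
    intro u v
    unfold Cfsg.hermForm
    rw [map_sum]
    simp only [key]
    simp [L, Matrix.J, Matrix.fromBlocks_mulVec, dotProduct, Fintype.sum_sum_type,
      Finset.sum_add_distrib, Matrix.neg_mulVec, Matrix.one_mulVec]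
  refine Restrict.exists_symplectic_hom
    ((Units.coeHom (Matrix (Fin m) (Fin m) K)).comp (Cfsg.GU m K q).subtype)
    (fun a c h => Subtype.ext (Units.ext h)) L fun g u v => ?_
  rw [hdot, hdot]
  exact congrArg lam (g.2 u v)

end Cfsg.Agent.S2639
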