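import Cfsg.Statements.S2642
import Cfsg.Agent.Lib.Jordan.Classes
import Cfsg.Agent.S2587
import Cfsg.Agent.S2588
import Cfsg.Agent.Lib.Unitary.Field

set_option autoImplicit false
open Cfsg

namespace Cfsg.Agent.S2642

open Cfsg.Agent.Jordan Matrix

theorem eq_of_rank {F : Type*} [Field F] {n : ℕ} {μ ν : Nat.Partition n}
    (h : ∀ m, (repN F μ ^ m).rank = (repN F ν ^ m).rank) : μ = ν := by
  classical
  have hr : ∀ m, (NT F (fun x : μ.parts => (x : ℕ)) ^ m).rank = (NT F (fun x : ν.parts => (x : ℕ)) ^ m).rank := by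
    intro m
    have h' := h m
    rw [repN, repN, ← map_pow, ← map_pow, Matrix.coe_reindexAlgEquiv,
      Matrix.rank_reindex, Matrix.coe_reindexAlgEquiv, Matrix.rank_reindex] at h'
    exact h'
  have := parts_eq_of_rank (F := F) _ _ (parts_pos' μ) (parts_pos' ν) hr
  exact Nat.Partition.ext ((Multiset.map_univ_coe μ.parts).symm.trans (this.trans (Multiset.map_univ_coe ν.parts)))

/-- Every unipotent type is unitary. -/
theorem exists_unitary_rep {K : Type*} [Field K] [Fintype K] {q n : ℕ} (hK : Fintype.card K = q ^ 2)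
    (μ : Nat.Partition n) : ∃ g : ↥(Cfsg.GU n K q), IsConj (rep K μ) (g : GL (Fin n) K) := by
  classical
  set A := (rep K μ : Matrix (Fin n) (Fin n) K) with hA
  have hAN : A = 1 + repN K μ := by rw [← coe_rep_sub, hA]; abel
  have hfix : A.map (fun x : K => x ^ q) = A := by
    ext i j
    rw [Matrix.map_apply, hAN, repN, Matrix.coe_reindexAlgEquiv, Matrix.reindex_apply, Matrix.add_apply,
      Matrix.submatrix_apply, NT_apply, Matrix.one_apply]
    split_ifs <;> simp [Unitary.zero_pow_q hK, Unitary.add_pow_q hK]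
  refine (S2588.result hK _).2 ?_
  rw [← hA, hfix]
  have hT : IsUnit A.transpose := (Matrix.isUnit_transpose _).2 (rep K μ).isUnit
  let B : GL (Fin n) K := hT.unit⁻¹
  have hB : (B : Matrix (Fin n) (Fin n) K) = A.transpose⁻¹ := by
    show ((hT.unit⁻¹ : GL (Fin n) K) : Matrix (Fin n) (Fin n) K) = _
    rw [Matrix.coe_units_inv, hT.unit_spec]
  have hBA : (B : Matrix (Fin n) (Fin n) K) * A.transpose = 1 := hT.val_inv_mul
  have hAB : A.transpose * (B : Matrix (Fin n) (Fin n) K) = 1 := hT.mul_val_inv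
  set N := (repN K μ).transpose with hN
  have hAt : A.transpose = 1 + N := by rw [hAN, Matrix.transpose_add, Matrix.transpose_one]
  have hcomm : Commute (-(B : Matrix (Fin n) (Fin n) K)) N := by
    refine Commute.neg_left ?_
    show _ * _ = _ * _
    rw [show N = A.transpose - 1 by rw [hAt]; abel, mul_sub, sub_mul, hBA, hAB, mul_one, one_mul]
  have hB1 : (B : Matrix (Fin n) (Fin n) K) - 1 = -(B : Matrix (Fin n) (Fin n) K) * N := by
    rw [show N = A.transpose - 1 by rw [hAt]; abel, mul_sub, neg_mul, hBA, mul_one]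
    abel
  have hnil : IsNilpotent ((B : Matrix (Fin n) (Fin n) K) - 1) := by
    rw [hB1]
    refine hcomm.isNilpotent_mul_left ⟨n, ?_⟩
    rw [hN, ← Matrix.transpose_pow, (repN_pow_eq_zero_iff μ n).mpr fun a ha =>
      (Multiset.single_le_sum (fun _ _ => Nat.zero_le _) _ ha).trans μ.parts_sum.le, Matrix.transpose_zero]
  obtain ⟨ν, hν⟩ := exists_isConj_rep B hnil
  have hμν : μ = ν := eq_of_rank (F := K) fun m => by
    have h := rank_pow_of_isConj hν m
    rw [coe_rep_sub, hB1, hcomm.mul_pow, Matrix.rank_mul_eq_right_of_isUnit_det _ _ (by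
        rw [Matrix.det_pow]
        exact ((Matrix.isUnit_iff_isUnit_det _).mp B.isUnit.neg).pow m),
      hN, ← Matrix.transpose_pow, Matrix.rank_transpose] at h
    exact h.symm
  rw [← hμν] at hν
  rw [← hB]
  exact MonoidHom.map_isConj (Units.coeHom (Matrix (Fin n) (Fin n) K)) hν


/-- Number of conjugacy classes of elements of order p in the general unitary group GU_n(q), q a power of p: every unipotent Jordan type occurs and the classes correspond to the partitions of n with all parts at most p other than the all-ones partition, exactly as in GL_n; so there are (number of partitions of n with parts ≤ p) − 1 classes. -/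
theorem result {K : Type*} [Field K] [Fintype K] {p q n : ℕ} [Fact p.Prime] [CharP K p] (hK : Fintype.card K = q ^ 2) : Nat.card {C : ConjClasses ↥(Cfsg.GU n K q) // ∃ g : ↥(Cfsg.GU n K q), ConjClasses.mk g = C ∧ orderOf g = p} = (Finset.univ.filter (fun μ : Nat.Partition n => ∀ a ∈ μ.parts, a ≤ p)).card - 1 := by
  classical
  have hiff : ∀ g : GL (Fin n) K, g ^ p = 1 ↔ ((g : Matrix (Fin n) (Fin n) K) - 1) ^ p = 0 := by
    intro g
    rcases Nat.eq_zero_or_pos n with rfl | hn
    · exact iff_of_true (Subsingleton.elim _ _) (Subsingleton.elim _ _)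
    haveI : Nonempty (Fin n) := ⟨⟨0, hn⟩⟩
    haveI : ExpChar (Matrix (Fin n) (Fin n) K) p := ExpChar.prime Fact.out
    rw [sub_pow_expChar_of_commute p (Commute.one_right _), one_pow, sub_eq_zero,
      ← Units.val_pow_eq_pow_val, Units.val_eq_one]
  let A : Set (ConjClasses ↥(Cfsg.GU n K q)) :=
    {C | ∃ g : ↥(Cfsg.GU n K q), ConjClasses.mk g = C ∧ g ^ p = 1}
  have hset : {C : ConjClasses ↥(Cfsg.GU n K q) |
      ∃ g : ↥(Cfsg.GU n K q), ConjClasses.mk g = C ∧ orderOf g = p} = A \ {ConjClasses.mk 1} := by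
    ext C
    constructor
    · rintro ⟨g, rfl, hg⟩
      refine ⟨⟨g, rfl, by rw [← hg]; exact pow_orderOf_eq_one g⟩, fun h1 => ?_⟩
      rw [Set.mem_singleton_iff, ConjClasses.mk_eq_mk_iff_isConj, isConj_one_left] at h1
      rw [h1, orderOf_one] at hg
      exact (Fact.out : p.Prime).ne_one hg.symm
    · rintro ⟨⟨g, rfl, hg⟩, hne⟩
      exact ⟨g, rfl, orderOf_eq_prime hg fun h1 => hne (by rw [h1]; rfl)⟩
  show Nat.card ({C : ConjClasses ↥(Cfsg.GU n K q) |
    ∃ g : ↥(Cfsg.GU n K q), ConjClasses.mk g = C ∧ orderOf g = p} : Set _) = _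
  rw [hset, Nat.card_coe_set_eq, Set.ncard_sdiff_singleton_of_mem
    (show ConjClasses.mk 1 ∈ A from ⟨1, rfl, one_pow p⟩), ← Nat.card_coe_set_eq]
  congr 1
  rw [← Cfsg.Agent.Jordan.card_classes (F := K) (n := n) p]
  let Φ : A → {C : ConjClasses (GL (Fin n) K) //
      ∃ g : GL (Fin n) K, ConjClasses.mk g = C ∧ ((g : Matrix (Fin n) (Fin n) K) - 1) ^ p = 0} :=
    fun C => ⟨C.1.map (Cfsg.GU n K q).subtype, by
      obtain ⟨g, hg, hgp⟩ := C.2
      exact ⟨g, by rw [← hg]; rfl, (hiff _).mp (by rw [← Subgroup.coe_pow, hgp]; rfl)⟩⟩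
  refine Nat.card_eq_of_bijective Φ ⟨?_, ?_⟩
  · rintro ⟨_, g, rfl, hg⟩ ⟨_, h, rfl, hh⟩ he
    have he' : ConjClasses.mk (g : GL (Fin n) K) = ConjClasses.mk (h : GL (Fin n) K) := congrArg Subtype.val he
    apply Subtype.ext
    exact ConjClasses.mk_eq_mk_iff_isConj.mpr
      ((Cfsg.Agent.S2587.result hK g h).mpr (ConjClasses.mk_eq_mk_iff_isConj.mp he'))
  · rintro ⟨_, g, rfl, hg⟩
    obtain ⟨μ, hμ⟩ := Cfsg.Agent.Jordan.exists_isConj_rep g ⟨p, hg⟩
    obtain ⟨u, hu⟩ := exists_unitary_rep hK μ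
    refine ⟨⟨ConjClasses.mk u, u, rfl, Subtype.ext ?_⟩, Subtype.ext
      (ConjClasses.mk_eq_mk_iff_isConj.mpr (hu.symm.trans hμ))⟩
    obtain ⟨w, hw⟩ := isConj_iff.mp (hμ.symm.trans hu)
    rw [Subgroup.coe_pow, ← hw, conj_pow, (hiff g).mpr hg, mul_one, mul_inv_cancel]
    rfl

end Cfsg.Agent.S2642
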