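import Cfsg.Statements.S2643
import Cfsg.Agent.S2642
import Cfsg.Agent.S2578
import Cfsg.Agent.Lib.Unitary.Maximal
import Cfsg.Agent.Lib.Unitary.PrimePGU

set_option autoImplicit false
open Cfsg

namespace Cfsg.Agent.S2643

open Matrix

/-- A matrix commuting with the shift is a scalar plus a nilpotent. -/
theorem exists_scalar_nilpotent {F : Type*} [Field F] {n : ℕ} (hn : 1 ≤ n) (M : Matrix (Fin n) (Fin n) F)
    (h : Commute (S2578.shiftMat n F) M) :
    ∃ c : F, IsNilpotent (M - c • 1) ∧ M.det = c ^ n := by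
  classical
  set S := S2578.shiftMat n F
  let c : Fin n → F := M *ᵥ Pi.single ⟨0, by omega⟩ 1
  have hM : M = ∑ i : Fin n, c i • S ^ (i : ℕ) := by
    apply Matrix.ext_of_mulVec_single
    intro j
    have hj : Pi.single j (1 : F) = (S ^ (j : ℕ)) *ᵥ Pi.single (⟨0, by omega⟩ : Fin n) 1 := by
      rw [S2578.shiftMat_pow_single, dif_pos (by simp [j.2])]; congr 1; simp
    rw [hj, Matrix.mulVec_mulVec, ← (h.pow_left _).eq, ← Matrix.mulVec_mulVec, Matrix.sum_mulVec]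
    show (S ^ (j : ℕ)) *ᵥ c = _
    conv_lhs => rw [pi_eq_sum_univ' c]
    rw [Matrix.mulVec_sum]
    refine Finset.sum_congr rfl fun i _ => ?_
    rw [Matrix.mulVec_smul, Matrix.smul_mulVec, Matrix.mulVec_mulVec, ← pow_add,
      S2578.shiftMat_pow_single, S2578.shiftMat_pow_single]
    congr 1
    simp [add_comm]
  have hnil : IsNilpotent (M - c ⟨0, by omega⟩ • 1) := by
    have hfac : M - c ⟨0, by omega⟩ • 1
        = S * ∑ i ∈ Finset.univ.erase (⟨0, by omega⟩ : Fin n), c i • S ^ ((i : ℕ) - 1) := by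
      conv_lhs => rw [hM, ← Finset.add_sum_erase _ _ (Finset.mem_univ (⟨0, by omega⟩ : Fin n))]
      simp only [pow_zero, add_sub_cancel_left]
      rw [Finset.mul_sum]
      refine Finset.sum_congr rfl fun i hi => ?_
      have : (i : ℕ) ≠ 0 := fun h => (Finset.mem_erase.mp hi).1 (Fin.ext h)
      rw [mul_smul_comm, ← pow_succ', show (i : ℕ) - 1 + 1 = (i : ℕ) by omega]
    rw [hfac]
    refine Commute.isNilpotent_mul_right ?_ ⟨n, S2578.shiftMat_pow_eq_zero F n⟩
    exact Commute.sum_right _ _ _ fun i _ => ((Commute.refl S).pow_right _).smul_right _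
  refine ⟨_, hnil, ?_⟩
  have := S2578.det_add_nilpotent (c ⟨0, by omega⟩) _ hnil
  rwa [add_sub_cancel] at this

/-- In GU, the centralizer of a regular unipotent has determinants n-th powers of norm-one scalars. -/
theorem det_centralizer {K : Type*} [Field K] [Fintype K] {q n : ℕ} (hK : Fintype.card K = q ^ 2)
    (hn : 1 ≤ n) (P k : GL (Fin n) K) (hk : k ∈ Cfsg.GU n K q)
    (hcomm : Commute (S2578.shiftMat n K) ((P⁻¹ * k * P : GL (Fin n) K) : Matrix (Fin n) (Fin n) K)) :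
    ∃ c : Kˣ, (c : K) ^ (q + 1) = 1 ∧ Matrix.GeneralLinearGroup.det k = c ^ n := by
  haveI : Nonempty (Fin n) := ⟨⟨0, hn⟩⟩
  obtain ⟨p, hp⟩ := CharP.exists K
  haveI : Fact p.Prime := ⟨CharP.char_is_prime K p⟩
  haveI : ExpChar K p := ExpChar.prime Fact.out
  haveI : ExpChar (Matrix (Fin n) (Fin n) K) p := ExpChar.prime Fact.out
  obtain ⟨c, hnil, hdet⟩ := exists_scalar_nilpotent hn _ hcomm
  obtain ⟨k', hk'⟩ : ∃ k', k' = P⁻¹ * k * P := ⟨_, rfl⟩
  rw [← hk'] at hnil hdet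
  have hdk : Matrix.GeneralLinearGroup.det k = Matrix.GeneralLinearGroup.det k' := by
    rw [hk', map_mul, map_mul, map_inv, inv_mul_cancel_comm]
  have hc0 : c ≠ 0 := by
    intro h
    rw [h, zero_pow (by omega)] at hdet
    exact ((Matrix.isUnit_iff_isUnit_det _).mp k'.isUnit).ne_zero hdet
  refine ⟨Units.mk0 c hc0, ?_, ?_⟩
  swap
  · rw [hdk]; exact Units.ext (by rw [Matrix.GeneralLinearGroup.val_det_apply, hdet]; rfl)
  obtain ⟨m, hm⟩ := hnil
  have hpow : k' ^ p ^ m = PrimeClassPGL.sc n K (Units.mk0 c hc0 ^ p ^ m) := by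
    refine Units.ext ?_
    have h := sub_pow_expChar_pow_of_commute p m (show Commute (k' : Matrix (Fin n) (Fin n) K) (c • 1) from
      (Commute.one_right _).smul_right _)
    rw [pow_eq_zero_of_le (Nat.lt_pow_self (Fact.out : p.Prime).one_lt).le hm, eq_comm, sub_eq_zero,
      smul_pow, one_pow] at h
    rw [Units.val_pow_eq_pow_val, h, PrimeClassPGL.sc_mat, Matrix.scalar_apply, ← Matrix.smul_one_eq_diagonal]
    rfl
  have hmem : PrimeClassPGL.sc n K (Units.mk0 c hc0 ^ p ^ m) ∈ Cfsg.GU n K q := by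
    have hsc : k ^ p ^ m = PrimeClassPGL.sc n K (Units.mk0 c hc0 ^ p ^ m) := by
      rw [show k = P * k' * P⁻¹ by rw [hk']; group, conj_pow, hpow, ← (PrimeClassPGL.sc_comm _ P).eq,
        mul_inv_cancel_right]
    exact hsc ▸ pow_mem hk _
  have hnorm := Unitary.norm_of_sc_mem hn hmem
  rw [Units.val_pow_eq_pow_val, ← pow_mul, mul_comm, pow_mul] at hnorm
  have h0 : ((Units.mk0 c hc0 : K) ^ (q + 1) - 1) ^ p ^ m = 0 := by
    rw [sub_pow_expChar_pow, hnorm, one_pow, sub_self]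
  exact sub_eq_zero.mp (pow_eq_zero_iff (pow_ne_zero _ (Fact.out : p.Prime).ne_zero) |>.mp h0)


/-- Regular unipotent classes of SU_n(q), n ≥ 2: the elements u of the special unitary group (isometries of Σ u_i v_i^q of determinant one over the field with q² elements) with (u − 1)^n = 0 and rank(u − 1) = n − 1 form exactly gcd(n, q + 1) conjugacy classes of SU_n(q). -/
theorem result {K : Type*} [Field K] [Fintype K] {q n : ℕ} (hK : Fintype.card K = q ^ 2) (hn : 2 ≤ n) : Nat.card {C : ConjClasses ↥(Cfsg.SU n K q) // ∃ u : ↥(Cfsg.SU n K q), ConjClasses.mk u = C ∧ (((u : GL (Fin n) K) : Matrix (Fin n) (Fin n) K) - 1) ^ n = 0 ∧ (((u : GL (Fin n) K) : Matrix (Fin n) (Fin n) K) - 1).rank = n - 1} = Nat.gcd n (q + 1) := by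
  classical
  haveI : Nonempty (Fin n) := ⟨⟨0, by omega⟩⟩
  set S := Cfsg.Agent.S2578.shiftMat n K
  have hSn : IsNilpotent S := ⟨n, Cfsg.Agent.S2578.shiftMat_pow_eq_zero K n⟩
  have hdetS : (1 + S).det = 1 := by
    have := Cfsg.Agent.S2578.det_add_nilpotent (1 : K) S hSn
    rwa [one_smul, one_pow] at this
  let U1 : Subgroup Kˣ := (powMonoidHom (q + 1) : Kˣ →* Kˣ).ker
  let Pw : Subgroup U1 := (powMonoidHom n : U1 →* U1).range
  have hidx : Pw.index = Nat.gcd n (q + 1) := by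
    rw [IsCyclic.index_powMonoidHom_range, IsCyclic.card_powMonoidHom_ker,
      Cfsg.Agent.Unitary.card_units hK, Nat.gcd_eq_right (Cfsg.Agent.Unitary.q_succ_dvd q), Nat.gcd_comm]
  have hdetU : ∀ g : ↥(Cfsg.GU n K q), Matrix.GeneralLinearGroup.det (g : GL (Fin n) K) ∈ U1 := fun g => by
    have h : Cfsg.Agent.Unitary.detHom n K q g ∈ (Cfsg.Agent.Unitary.detHom n K q).range := ⟨g, rfl⟩
    rw [Cfsg.Agent.Unitary.detHom_range hK (by omega)] at h
    exact h
  let dU : ↥(Cfsg.GU n K q) →* U1 :=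
    (Cfsg.Agent.Unitary.detHom n K q).codRestrict U1 hdetU
  -- a unitary regular unipotent element
  let v : GL (Fin n) K := Matrix.SpecialLinearGroup.toGL ⟨1 + S, hdetS⟩
  have hv : (v : Matrix (Fin n) (Fin n) K) = 1 + S := rfl
  obtain ⟨μ, hμ⟩ := Cfsg.Agent.Jordan.exists_isConj_rep v (by rwa [hv, add_sub_cancel_left])
  obtain ⟨u₀, hu₀⟩ := Cfsg.Agent.S2642.exists_unitary_rep hK μ
  obtain ⟨P, hP⟩ := isConj_iff.mp (hμ.symm.trans hu₀)
  have hu₀d : Matrix.GeneralLinearGroup.det (u₀ : GL (Fin n) K) = 1 := by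
    rw [← hP, map_mul, map_mul, map_inv, mul_inv_cancel_comm]
    exact Units.ext hdetS
  have hcl : ∀ C : {C : ConjClasses ↥(Cfsg.SU n K q) // ∃ u : ↥(Cfsg.SU n K q), ConjClasses.mk u = C ∧
      (((u : GL (Fin n) K) : Matrix (Fin n) (Fin n) K) - 1) ^ n = 0 ∧
      (((u : GL (Fin n) K) : Matrix (Fin n) (Fin n) K) - 1).rank = n - 1},
      ∃ (g : ↥(Cfsg.GU n K q)) (u : ↥(Cfsg.SU n K q)), ConjClasses.mk u = C.1 ∧
        Cfsg.Agent.Unitary.suToGU n K q u = g * u₀ * g⁻¹ := by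
    rintro ⟨C, u, hC, hnil, hrk⟩
    obtain ⟨Q, hQ⟩ := Cfsg.Agent.S2578.exists_conj_shift (by omega) _ hnil hrk
    have hconj : IsConj v (Cfsg.Agent.Unitary.suToGU n K q u : GL (Fin n) K) := by
      refine isConj_iff.mpr ⟨Q, ?_⟩
      rw [mul_inv_eq_iff_eq_mul]
      apply Units.ext
      show (Q : Matrix (Fin n) (Fin n) K) * (1 + S) =
        ((u : GL (Fin n) K) : Matrix (Fin n) (Fin n) K) * (Q : Matrix (Fin n) (Fin n) K)
      rw [mul_add, mul_one, ← hQ, sub_mul, one_mul]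
      abel
    obtain ⟨g, hg⟩ := isConj_iff.mp ((Cfsg.Agent.S2587.result hK u₀ (Cfsg.Agent.Unitary.suToGU n K q u)).mpr
      (hu₀.symm.trans (hμ.trans hconj)))
    exact ⟨g, u, hC, hg.symm⟩
  choose gC uC hmk hconj using hcl
  let Ψ := fun C => (QuotientGroup.mk (dU (gC C)) : U1 ⧸ Pw)
  have hΨinj : Function.Injective Ψ := by
    intro C C' h
    apply Subtype.ext
    rw [← hmk C, ← hmk C', ConjClasses.mk_eq_mk_iff_isConj, isConj_iff]
    obtain ⟨c, hc⟩ := QuotientGroup.eq.mp h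
    have hc' : ((c : Kˣ)) ^ n = (Matrix.GeneralLinearGroup.det (gC C : GL (Fin n) K))⁻¹ *
        Matrix.GeneralLinearGroup.det (gC C' : GL (Fin n) K) := congrArg Subtype.val hc
    have hc1 : (((c : Kˣ)⁻¹ : Kˣ) : K) ^ (q + 1) = 1 := by
      rw [← Units.val_pow_eq_pow_val, inv_pow, show (c : Kˣ) ^ (q + 1) = 1 from c.2, inv_one, Units.val_one]
    let z : ↥(Cfsg.GU n K q) := ⟨_, Cfsg.Agent.Unitary.sc_mem_gu hK hc1⟩
    let k : ↥(Cfsg.GU n K q) := gC C' * z * (gC C)⁻¹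
    have hz : Commute z u₀ :=
      Subtype.ext (Cfsg.Agent.PrimeClassPGL.sc_comm _ (u₀ : GL (Fin n) K)).eq
    have hzdet : Matrix.GeneralLinearGroup.det (z : GL (Fin n) K) = ((c : Kˣ) ^ n)⁻¹ := by
      apply Units.ext
      rw [← inv_pow, Units.val_pow_eq_pow_val, Matrix.GeneralLinearGroup.val_det_apply]
      show (Matrix.scalar (Fin n) _).det = _
      simp [Matrix.det_diagonal]
    have hkdet : Matrix.GeneralLinearGroup.det (k : GL (Fin n) K) = 1 := by
      show Matrix.GeneralLinearGroup.det ((gC C' : GL (Fin n) K) * (z : GL (Fin n) K) * (gC C : GL (Fin n) K)⁻¹) = 1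
      rw [map_mul, map_mul, map_inv, hzdet, hc', _root_.mul_inv_rev, inv_inv]
      group
    let h0 : ↥(Cfsg.SU n K q) := Cfsg.Agent.Unitary.suOfUnitary _ k.2 (congrArg Units.val hkdet)
    have hh0 : Cfsg.Agent.Unitary.suToGU n K q h0 = k := Subtype.ext (Units.ext rfl)
    refine ⟨h0, Cfsg.Agent.Unitary.suToGU_injective ?_⟩
    rw [map_mul, map_mul, map_inv, hh0, hconj, hconj]
    calc k * (gC C * u₀ * (gC C)⁻¹) * k⁻¹ = gC C' * (z * u₀ * z⁻¹) * (gC C')⁻¹ := by
          simp only [k]; group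
      _ = _ := by rw [hz.eq, mul_inv_cancel_right]
  have hΨsurj : Function.Surjective Ψ := by
    intro x
    obtain ⟨d, rfl⟩ := QuotientGroup.mk_surjective x
    obtain ⟨g, hg⟩ : (d : Kˣ) ∈ (Cfsg.Agent.Unitary.detHom n K q).range := by
      rw [Cfsg.Agent.Unitary.detHom_range hK (by omega)]; exact d.2
    have hgd : Matrix.GeneralLinearGroup.det (g : GL (Fin n) K) = d := hg
    have hdet1 : Matrix.GeneralLinearGroup.det ((g * u₀ * g⁻¹ : ↥(Cfsg.GU n K q)) : GL (Fin n) K) = 1 := by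
      show Matrix.GeneralLinearGroup.det ((g : GL (Fin n) K) * (u₀ : GL (Fin n) K) * (g : GL (Fin n) K)⁻¹) = 1
      rw [map_mul, map_mul, map_inv, mul_inv_cancel_comm, hu₀d]
    let u : ↥(Cfsg.SU n K q) :=
      Cfsg.Agent.Unitary.suOfUnitary _ (g * u₀ * g⁻¹).2 (congrArg Units.val hdet1)
    have hu : Cfsg.Agent.Unitary.suToGU n K q u = g * u₀ * g⁻¹ := Subtype.ext (Units.ext rfl)
    obtain ⟨R, hR⟩ : ∃ R : GL (Fin n) K, (u : GL (Fin n) K) = R * v * R⁻¹ := by
      refine ⟨(g : GL (Fin n) K) * P, ?_⟩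
      show (Cfsg.Agent.Unitary.suToGU n K q u : GL (Fin n) K) = _
      rw [hu]
      show (g : GL (Fin n) K) * (u₀ : GL (Fin n) K) * (g : GL (Fin n) K)⁻¹ = _
      rw [← hP]; group
    have hsub : ((u : GL (Fin n) K) : Matrix (Fin n) (Fin n) K) - 1
        = (R : Matrix (Fin n) (Fin n) K) * S * ((R⁻¹ : GL (Fin n) K) : Matrix (Fin n) (Fin n) K) := by
      rw [hR, Units.val_mul, Units.val_mul, hv, mul_add, add_mul, mul_one, Units.mul_inv]
      abel
    have hRu : IsUnit ((R : Matrix (Fin n) (Fin n) K)).det := (Matrix.isUnit_iff_isUnit_det _).mp R.isUnit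
    have hRu' : IsUnit (((R⁻¹ : GL (Fin n) K) : Matrix (Fin n) (Fin n) K)).det :=
      (Matrix.isUnit_iff_isUnit_det _).mp (Units.isUnit _)
    let C : {C : ConjClasses ↥(Cfsg.SU n K q) // ∃ u : ↥(Cfsg.SU n K q), ConjClasses.mk u = C ∧
      (((u : GL (Fin n) K) : Matrix (Fin n) (Fin n) K) - 1) ^ n = 0 ∧
      (((u : GL (Fin n) K) : Matrix (Fin n) (Fin n) K) - 1).rank = n - 1} :=
      ⟨ConjClasses.mk u, u, rfl, by
        rw [hsub, Units.conj_pow, Cfsg.Agent.S2578.shiftMat_pow_eq_zero, mul_zero, zero_mul], by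
        rw [hsub, Matrix.rank_mul_eq_left_of_isUnit_det _ _ hRu',
          Matrix.rank_mul_eq_right_of_isUnit_det _ _ hRu, Cfsg.Agent.S2578.shiftMat_rank K (by omega)]⟩
    refine ⟨C, QuotientGroup.eq.mpr ?_⟩
    obtain ⟨h0, hh0⟩ := isConj_iff.mp (ConjClasses.mk_eq_mk_iff_isConj.mp (hmk C))
    have hh := congrArg (Cfsg.Agent.Unitary.suToGU n K q) hh0
    rw [map_mul, map_mul, map_inv, hconj, hu] at hh
    obtain ⟨k, hk⟩ : ∃ k, k = g⁻¹ * Cfsg.Agent.Unitary.suToGU n K q h0 * gC C := ⟨_, rfl⟩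
    have hku : k * u₀ = u₀ * k := by
      calc k * u₀ = g⁻¹ * (Cfsg.Agent.Unitary.suToGU n K q h0 * (gC C * u₀ * (gC C)⁻¹) *
            (Cfsg.Agent.Unitary.suToGU n K q h0)⁻¹) * g * k := by rw [hk]; group
        _ = _ := by rw [hh]; group
    have hcomm : Commute S ((P⁻¹ * (k : GL (Fin n) K) * P : GL (Fin n) K) : Matrix (Fin n) (Fin n) K) := by
      have h1 : (P⁻¹ * (k : GL (Fin n) K) * P) * v = v * (P⁻¹ * (k : GL (Fin n) K) * P) := by
        have h2 : (k : GL (Fin n) K) * (u₀ : GL (Fin n) K) = (u₀ : GL (Fin n) K) * (k : GL (Fin n) K) := congrArg Subtype.val hku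
        rw [← hP] at h2
        calc (P⁻¹ * (k : GL (Fin n) K) * P) * v = P⁻¹ * ((k : GL (Fin n) K) * (P * v * P⁻¹)) * P := by group
          _ = _ := by rw [h2]; group
      have h3 : Commute (1 + S) ((P⁻¹ * (k : GL (Fin n) K) * P : GL (Fin n) K) : Matrix (Fin n) (Fin n) K) :=
        (congrArg Units.val h1.symm : _)
      have h4 := h3.sub_left (Commute.one_left _)
      rwa [add_sub_cancel_left] at h4
    obtain ⟨c, hc1, hcd⟩ := det_centralizer hK (by omega) P k k.2 hcomm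
    have hdh : Matrix.GeneralLinearGroup.det (Cfsg.Agent.Unitary.suToGU n K q h0 : GL (Fin n) K) = 1 :=
      Units.ext (h0 : Matrix.SpecialLinearGroup (Fin n) K).2
    rw [hk] at hcd
    change Matrix.GeneralLinearGroup.det ((g : GL (Fin n) K)⁻¹ *
      (Cfsg.Agent.Unitary.suToGU n K q h0 : GL (Fin n) K) * (gC C : GL (Fin n) K)) = c ^ n at hcd
    rw [map_mul, map_mul, map_inv, hdh, hgd, mul_one] at hcd
    refine ⟨⟨c⁻¹, Units.ext (by
      rw [powMonoidHom_apply, inv_pow, show c ^ (q + 1) = 1 from Units.ext (by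
        rw [Units.val_pow_eq_pow_val, hc1, Units.val_one]), inv_one])⟩, Subtype.ext ?_⟩
    show (c⁻¹) ^ n = (Matrix.GeneralLinearGroup.det (gC C : GL (Fin n) K))⁻¹ * (d : Kˣ)
    rw [inv_pow, ← hcd, _root_.mul_inv_rev, inv_inv]
  rw [Nat.card_congr (Equiv.ofBijective Ψ ⟨hΨinj, hΨsurj⟩), ← Subgroup.index_eq_card, hidx]

end Cfsg.Agent.S2643
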