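import Cfsg.Statements.S2644
import Cfsg.Agent.EqLemmas
import Cfsg.Agent.Lib.Unitary.Simple

set_option autoImplicit false
open Cfsg Cfsg.Agent

namespace Cfsg.Agent.S2644

/-- A unitary transvection has the standard shape. -/
theorem exists_shape {F : Type*} [Field F] [Fintype F] {q n : ℕ} (hF : Fintype.card F = q ^ 2)
    {M : Matrix (Fin n) (Fin n) F} (hM : Unitary.IsUnitary q M) (ht : Cfsg.IsTransvection M) :
    ∃ (v : Fin n → F) (c : F), v ≠ 0 ∧ c ≠ 0 ∧ Cfsg.hermForm n F q v v = 0 ∧ c + c ^ q = 0 ∧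
      M = Cfsg.unitaryTransvection n q v c := by
  obtain ⟨hrank, hsq⟩ := ht
  have H := Unitary.hermForm_isHerm hF n
  obtain ⟨⟨v, hv⟩, hv0, hgen⟩ := finrank_eq_one_iff'.1 hrank
  have hvne : v ≠ 0 := fun h => hv0 (Subtype.ext h)
  obtain ⟨i, hi⟩ := Function.ne_iff.1 hvne
  have hi' : v i ≠ 0 := hi
  let φ : (Fin n → F) →ₗ[F] F := (v i)⁻¹ • (LinearMap.proj i ∘ₗ (M - 1).mulVecLin)
  have hφ : ∀ x, M.mulVec x = x + φ x • v := by
    intro x
    obtain ⟨a, ha⟩ := hgen ⟨(M - 1).mulVec x, LinearMap.mem_range.2 ⟨x, rfl⟩⟩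
    have ha' : a • v = (M - 1).mulVec x := congrArg Subtype.val ha
    have : φ x = a := by
      show (v i)⁻¹ * ((M - 1).mulVec x i) = a
      rw [← ha']
      show (v i)⁻¹ * (a * v i) = a
      field_simp
    rw [this, ha', Matrix.sub_mulVec, Matrix.one_mulVec, add_sub_cancel]
  have hφv : φ v = 0 := by
    obtain ⟨x, hx⟩ := LinearMap.mem_range.1 hv
    show (v i)⁻¹ * ((M - 1).mulVec v i) = 0
    rw [← hx, Matrix.mulVecLin_apply, Matrix.mulVec_mulVec, hsq, Matrix.zero_mulVec, Pi.zero_apply,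
      mul_zero]
  obtain ⟨y₀, hy₀⟩ : ∃ y, φ y ≠ 0 := by
    by_contra h
    push Not at h
    have h1 : M = 1 := Matrix.ext_iff_mulVec.2 fun x => by rw [hφ, h, zero_smul, add_zero, Matrix.one_mulVec]
    rw [h1, sub_self, Matrix.rank_zero] at hrank
    exact zero_ne_one hrank
  have key : ∀ x y, φ x * Cfsg.hermForm n F q v y + φ y ^ q * Cfsg.hermForm n F q x v +
      φ x * φ y ^ q * Cfsg.hermForm n F q v v = 0 := fun x y => by
    have h := hM x y
    rw [hφ, hφ, H.add_left, H.add_right hF, H.add_right hF, H.smul_left, H.smul_left, H.smul_right,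
      H.smul_right] at h
    linear_combination h
  have hy₀q : φ y₀ ^ q ≠ 0 := fun h => hy₀ ((Unitary.pow_q_eq_zero hF).1 h)
  have hvv : Cfsg.hermForm n F q v v = 0 := by
    have h := key v y₀
    rw [hφv] at h
    exact (mul_eq_zero.1 (by linear_combination h : φ y₀ ^ q * Cfsg.hermForm n F q v v = 0)).resolve_left hy₀q
  obtain ⟨w, -, hw⟩ := Unitary.exists_iso_partner hF hvne hvv
  set c : F := -φ w ^ q with hc
  have hshape : M = Cfsg.unitaryTransvection n q v c := by
    refine Matrix.ext_iff_mulVec.2 fun x => ?_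
    rw [hφ, Unitary.transvection_mulVec]
    congr 2
    have h := key x w
    rw [hw, hvv] at h
    rw [hc]
    linear_combination h
  refine ⟨v, c, hvne, ?_, hvv, ?_, hshape⟩
  · intro hc0
    rw [hc0, Unitary.transvection_zero] at hshape
    rw [hshape, sub_self, Matrix.rank_zero] at hrank
    exact zero_ne_one hrank
  · exact (Unitary.transvection_isometry_iff hF v hvne hvv c).1 (hshape ▸ hM)

/-- In the special unitary group SU_n(q) with n ≥ 3 (isometries of Σ u_i v_i^q of determinant one over the field with q² elements), any two transvections (elements t with t − 1 of rank one and square zero) are conjugate. -/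
theorem result {K : Type*} [Field K] [Fintype K] {q n : ℕ} (hK : Fintype.card K = q ^ 2) (hn : 3 ≤ n) (s t : ↥(Cfsg.SU n K q)) (hs : Cfsg.IsTransvection (((s : GL (Fin n) K) : Matrix (Fin n) (Fin n) K))) (ht : Cfsg.IsTransvection (((t : GL (Fin n) K) : Matrix (Fin n) (Fin n) K))) : IsConj s t := by
  obtain ⟨v, c, hv, hc, hv0, hcs, hsv⟩ := exists_shape hK
    (M := ((s : Matrix.SpecialLinearGroup (Fin n) K) : Matrix (Fin n) (Fin n) K)) (fun u w => s.2 u w) hs
  obtain ⟨v', c', hv', hc', hv0', hcs', htv⟩ := exists_shape hK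
    (M := ((t : Matrix.SpecialLinearGroup (Fin n) K) : Matrix (Fin n) (Fin n) K)) (fun u w => t.2 u w) ht
  have e1 : c ^ q = -c := eq_neg_of_add_eq_zero_right hcs
  have e2 : c' ^ q = -c' := eq_neg_of_add_eq_zero_right hcs'
  obtain ⟨a, ha⟩ := Unitary.exists_norm_eq hK (c := c' / c) (by rw [div_pow, e1, e2, neg_div_neg_eq])
  have ha0 : a ≠ 0 := fun h => div_ne_zero hc' hc (by rw [← ha, h, zero_pow (Nat.succ_ne_zero q)])
  have hiso : Cfsg.hermForm n K q (a • v') (a • v') = 0 := by
    rw [(Unitary.hermForm_isHerm hK n).smul_left, (Unitary.hermForm_isHerm hK n).smul_right, hv0',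
      mul_zero, mul_zero]
  obtain ⟨g, hg⟩ := Unitary.su_transitive_iso hK hn hv hv0 (smul_ne_zero ha0 hv') hiso
  rw [isConj_iff]
  refine ⟨g, mul_inv_eq_of_eq_mul (Subtype.ext (Subtype.ext ?_))⟩
  show ((g : Matrix.SpecialLinearGroup (Fin n) K) : Matrix (Fin n) (Fin n) K) *
      ((s : Matrix.SpecialLinearGroup (Fin n) K) : Matrix (Fin n) (Fin n) K) =
    ((t : Matrix.SpecialLinearGroup (Fin n) K) : Matrix (Fin n) (Fin n) K) *
      ((g : Matrix.SpecialLinearGroup (Fin n) K) : Matrix (Fin n) (Fin n) K)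
  have hconj := Unitary.transvection_conj (Unitary.suToGU n K q g) v c
  rw [hsv, htv]
  refine Eq.trans hconj ?_
  congr 1
  show Cfsg.unitaryTransvection n q (Unitary.suAct g v) c = _
  rw [hg, Unitary.transvection_smul, ha, mul_div_cancel₀ _ hc]

end Cfsg.Agent.S2644
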