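import Cfsg.Statements.S2646
import Cfsg.Statements.S2646
import Cfsg.Agent.EqLemmas
import Cfsg.Agent.S2581
import Cfsg.Agent.Lib.Forms.UnipotentCentralizer
import Cfsg.Agent.Lib.UnitaryConj.Basic
import Cfsg.Agent.Lib.Unitary.Count

set_option autoImplicit false
open Cfsg

namespace Cfsg.Agent.S2646

open Cfsg.Agent.Forms Matrix
open scoped Classical MatrixGroups

/-- Isometries of an invertible `(±1)`-hermitian matrix. -/
theorem card_isometries {K : Type*} [Field K] [Fintype K] {q : ℕ} (hK : Fintype.card K = q ^ 2)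
    {m : Type} [Fintype m] [DecidableEq m] (G : Matrix m m K) (hG : IsUnit G) (r : ℕ)
    (hG' : UnipCent.ad (Unitary.conjHom hK) G = (-1 : K) ^ r • G) :
    Nat.card {B : Matrix m m K // UnipCent.ad (Unitary.conjHom hK) B * G * B = G} =
      Nat.card ↥(Cfsg.GU (Fintype.card m) K q) := by
  classical
  obtain ⟨a, ha⟩ := UnitaryConj.exists_moved hK
  set θ := Unitary.conjHom hK with hθ
  set lam := (θ a - a) ^ r with hlam
  have hθθ : ∀ x, θ (θ x) = x := fun x => UnitaryConj.conj_conj hK x
  have hlam0 : lam ≠ 0 := pow_ne_zero _ (by simpa [hθ] using ha)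
  have hlam' : θ lam = (-1 : K) ^ r * lam := by
    rw [hlam, map_pow, map_sub, hθθ, ← mul_pow]; congr 1; ring
  let e := Fintype.equivFin m
  let R := Matrix.reindexAlgEquiv K K e
  have hR : ∀ X, UnipCent.ad θ (R X) = R (UnipCent.ad θ X) := fun X => rfl
  have hMu : IsUnit (R (lam • G)) := by
    refine IsUnit.map R ?_
    rw [Matrix.isUnit_iff_isUnit_det, Matrix.det_smul]
    exact (isUnit_iff_ne_zero.mpr (pow_ne_zero _ hlam0)).mul ((Matrix.isUnit_iff_isUnit_det _).mp hG)
  obtain ⟨P, hP⟩ := UnitaryConj.exists_factor hK hMu.unit (by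
    show UnipCent.ad θ (R (lam • G)) = R (lam • G)
    rw [hR, UnipCent.ad_smul, hG', hlam', smul_smul, mul_right_comm, ← mul_pow]
    simp)
  rw [IsUnit.unit_spec] at hP
  let PM : Matrix (Fin (Fintype.card m)) (Fin (Fintype.card m)) K := P
  let PI : Matrix (Fin (Fintype.card m)) (Fin (Fintype.card m)) K :=
    ((P⁻¹ : GL (Fin (Fintype.card m)) K) : Matrix (Fin (Fintype.card m)) (Fin (Fintype.card m)) K)
  change UnipCent.ad θ PM * PM = _ at hP
  have hinv : PI * PM = 1 := Units.inv_mul P
  have hinv' : PM * PI = 1 := Units.mul_inv P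
  have key : ∀ B : Matrix m m K, UnipCent.ad θ B * G * B = G ↔
      UnipCent.ad θ (PM * R B * PI) *
        (PM * R B * PI) = 1 := by
    intro B
    have e1 : UnipCent.ad θ (PM * R B * PI) *
        (PM * R B * PI) =
        UnipCent.ad θ PI * (R (UnipCent.ad θ B * (lam • G) * B)) * PI := by
      rw [map_mul, map_mul, ← hP, ← hR, UnipCent.ad_mul, UnipCent.ad_mul]
      show _ = UnipCent.ad θ _ * (UnipCent.ad θ (R B) * (UnipCent.ad θ PM * _) * R B) * _
      simp only [mul_assoc]
    have hP1 : UnipCent.ad θ PI * UnipCent.ad θ PM = 1 := by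
      rw [← UnipCent.ad_mul, hinv', UnipCent.ad_one]
    rw [e1]
    constructor
    · intro h
      rw [Matrix.mul_smul, Matrix.smul_mul, h, ← hP]
      show UnipCent.ad θ _ * (UnipCent.ad θ PM * _) * _ = 1
      rw [← mul_assoc, hP1, one_mul, hinv']
    · intro h
      have h2 : R (UnipCent.ad θ B * (lam • G) * B) = R (lam • G) := by
        rw [← hP]
        show _ = UnipCent.ad θ PM * _
        have hP2 : UnipCent.ad θ PM * UnipCent.ad θ PI = 1 :=
          mul_eq_one_comm.mp hP1
        have h3 := congrArg (fun X => UnipCent.ad θ PM * X * PM) h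
        simp only [mul_one] at h3
        simp only [← mul_assoc, hP2, one_mul] at h3
        rwa [mul_assoc, hinv, mul_one] at h3
      have h4 := R.injective h2
      rw [Matrix.mul_smul, Matrix.smul_mul] at h4
      exact smul_right_injective _ hlam0 h4
  have hu : ∀ B : {B : Matrix m m K // UnipCent.ad θ B * G * B = G},
      IsUnit (PM * R B.1 * PI) := fun B =>
    IsUnit.of_mul_eq_one_right _ ((key B.1).mp B.2)
  refine Nat.card_congr
    { toFun := fun B => ⟨(hu B).unit, (UnitaryConj.mem_GU_iff_adj hK _).mpr ((key B.1).mp B.2)⟩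
      invFun := fun g => ⟨R.symm (PI * (g.1 : Matrix _ _ K) * PM), (key _).mpr (by
        rw [AlgEquiv.apply_symm_apply]
        simp only [← mul_assoc, PM, PI, Units.mul_inv, one_mul, Units.mul_inv_cancel_right]
        exact (UnitaryConj.mem_GU_iff_adj hK _).mp g.2)⟩
      left_inv := fun B => Subtype.ext (R.symm_apply_eq.mpr (by
        simp only [IsUnit.unit_spec, ← mul_assoc, PM, PI, Units.inv_mul, one_mul, Units.inv_mul_cancel_right]))
      right_inv := fun g => Subtype.ext (Units.ext (by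
        simp only [IsUnit.unit_spec, AlgEquiv.apply_symm_apply, ← mul_assoc, PM, PI, Units.mul_inv, one_mul,
          Units.mul_inv_cancel_right])) }

/-- The centralizer is the isometry group of the commutant. -/
theorem card_centralizer_eq {K : Type*} [Field K] [Fintype K] {q n t : ℕ} (hK : Fintype.card K = q ^ 2)
    (d : Fin t → ℕ) (e : ((k : Fin t) × Fin (d k)) ≃ Fin n) (u : ↥(Cfsg.GU n K q))
    (hu : IsConj (Matrix.reindex e e (Cfsg.jordanTypeMatrix d K)) ((u : GL (Fin n) K) : Matrix (Fin n) (Fin n) K)) :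
    ∃ (H : GL (UnipCent.Ix d) K) (_ : UnipCent.ad (Unitary.conjHom hK) (H : Matrix (UnipCent.Ix d) (UnipCent.Ix d) K) = (1 : K) • (H : Matrix (UnipCent.Ix d) (UnipCent.Ix d) K))
      (hT : UnipCent.ad (Unitary.conjHom hK) ((1 : Matrix (UnipCent.Ix d) (UnipCent.Ix d) K) + Jordan.NT K d) * (H : Matrix (UnipCent.Ix d) (UnipCent.Ix d) K) * ((1 : Matrix (UnipCent.Ix d) (UnipCent.Ix d) K) + Jordan.NT K d) = (H : Matrix (UnipCent.Ix d) (UnipCent.Ix d) K)),
      Nat.card ↥(Subgroup.centralizer ({u} : Set ↥(Cfsg.GU n K q))) =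
        Nat.card {g : (UnipCent.A K d)ˣ // UnipCent.σ d (Unitary.conjHom hK) H hT (g : UnipCent.A K d) * g = 1} := by
  classical
  obtain ⟨c, hc⟩ := hu
  set θ := Unitary.conjHom hK with hθ
  have hθθ : ∀ x, θ (θ x) = x := fun x => UnitaryConj.conj_conj hK x
  let R := Matrix.reindexAlgEquiv K K e
  have hR : ∀ X, UnipCent.ad θ (R X) = R (UnipCent.ad θ X) := fun X => rfl
  set T : Matrix _ _ K := 1 + Jordan.NT K d with hTdef
  set U : Matrix (Fin n) (Fin n) K := ((u : GL (Fin n) K) : Matrix (Fin n) (Fin n) K) with hU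
  set C : Matrix (Fin n) (Fin n) K := (c : Matrix (Fin n) (Fin n) K)
  set C' : Matrix (Fin n) (Fin n) K := ((c⁻¹ : GL (Fin n) K) : Matrix (Fin n) (Fin n) K)
  have hCU : C * R T = U * C := by
    have h := hc.eq
    rw [S2581.jordanType_eq] at h
    exact h
  have hC : UnipCent.ad θ C' * UnipCent.ad θ C = 1 := by rw [← UnipCent.ad_mul, Units.mul_inv, UnipCent.ad_one]
  have hC2 : UnipCent.ad θ C * UnipCent.ad θ C' = 1 := mul_eq_one_comm.mp hC
  let H : GL (UnipCent.Ix d) K := ((UnipCent.isUnit_ad θ c.isUnit).mul c.isUnit |>.map R.symm).unit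
  have hH1 : R (H : Matrix (UnipCent.Ix d) (UnipCent.Ix d) K) = UnipCent.ad θ C * C := by simp [H, C]
  -- an element preserves `H` iff its transport is unitary
  have key : ∀ X : Matrix (UnipCent.Ix d) (UnipCent.Ix d) K,
      UnipCent.ad θ X * (H : Matrix (UnipCent.Ix d) (UnipCent.Ix d) K) * X = (H : Matrix (UnipCent.Ix d) (UnipCent.Ix d) K) ↔
        UnipCent.ad θ (C * R X * C') * (C * R X * C') = 1 := by
    intro X
    have e1 : UnipCent.ad θ (C * R X * C') * (C * R X * C') =
        UnipCent.ad θ C' * R (UnipCent.ad θ X * (H : Matrix (UnipCent.Ix d) (UnipCent.Ix d) K) * X) * C' := by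
      rw [map_mul, map_mul, hH1, ← hR, UnipCent.ad_mul, UnipCent.ad_mul]
      simp only [mul_assoc]
    rw [e1]
    constructor
    · intro h
      rw [h, hH1, ← mul_assoc, hC, one_mul]
      exact Units.mul_inv c
    · intro h
      refine R.injective ?_
      have h3 := congrArg (fun X => UnipCent.ad θ C * X * C) h
      simp only [← mul_assoc, hC2, one_mul, mul_one] at h3
      rw [hH1, ← h3]
      simp only [mul_assoc, show C' * C = 1 from Units.inv_mul c, mul_one]
  have hUu : UnipCent.ad θ U * U = 1 := (UnitaryConj.mem_GU_iff_adj hK _).mp u.2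
  have hCU' : C * R T * C' = U := by rw [hCU, mul_assoc, show C * C' = 1 from Units.mul_inv c, mul_one]
  have hT : UnipCent.ad θ T * (H : Matrix (UnipCent.Ix d) (UnipCent.Ix d) K) * T = (H : Matrix (UnipCent.Ix d) (UnipCent.Ix d) K) := (key T).mpr (by rw [hCU']; exact hUu)
  refine ⟨H, ?_, hT, ?_⟩
  · rw [one_smul]
    refine R.injective ?_
    rw [← hR, hH1, UnipCent.ad_mul, UnipCent.ad_ad θ hθθ]
  · have hiso : ∀ g : UnipCent.A K d, (UnipCent.σ d θ H hT g * g = 1 ↔
        UnipCent.ad θ g.1 * (H : Matrix (UnipCent.Ix d) (UnipCent.Ix d) K) * g.1 = (H : Matrix (UnipCent.Ix d) (UnipCent.Ix d) K)) := fun g => by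
      rw [Subtype.ext_iff, Subalgebra.coe_mul, UnipCent.σ_val, OneMemClass.coe_one]
      constructor
      · intro h
        have h' := congrArg ((H : Matrix (UnipCent.Ix d) (UnipCent.Ix d) K) * ·) h
        simpa only [mul_assoc, Units.mul_inv_cancel_left, mul_one] using h'
      · intro h
        rw [mul_assoc, mul_assoc, ← mul_assoc (UnipCent.ad θ g.1), h, Units.inv_mul]
    have hcomm : ∀ X : Matrix (UnipCent.Ix d) (UnipCent.Ix d) K,
        X ∈ UnipCent.A K d ↔ C * R X * C' * U = U * (C * R X * C') := by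
      intro X
      rw [UnipCent.mem_A, ← hCU']
      have e1 : ∀ A B : Matrix (Fin n) (Fin n) K, C * A * C' * (C * B * C') = C * (A * B) * C' := fun A B => by
        simp only [mul_assoc, C, C', Units.inv_mul_cancel_left]
      rw [e1, e1, ← map_mul, ← map_mul, Units.mul_left_inj, Units.mul_right_inj, R.injective.eq_iff, hTdef,
        mul_add, add_mul, mul_one, one_mul, add_right_inj]
    refine Nat.card_congr
      { toFun := fun g =>
          have hmem : R.symm (C' * ((g.1.1 : GL (Fin n) K) : Matrix (Fin n) (Fin n) K) * C) ∈ UnipCent.A K d := by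
            refine (hcomm _).mpr ?_
            rw [AlgEquiv.apply_symm_apply]
            simp only [← mul_assoc, C, C', Units.mul_inv, one_mul, Units.mul_inv_cancel_right]
            exact congrArg (fun x : ↥(Cfsg.GU n K q) => ((x : GL (Fin n) K) : Matrix (Fin n) (Fin n) K))
              ((Subgroup.mem_centralizer_iff.mp g.2 u rfl).symm)
          have hone : UnipCent.σ d θ H hT ⟨_, hmem⟩ * ⟨_, hmem⟩ = 1 := (hiso _).mpr ((key _).mpr (by
            rw [AlgEquiv.apply_symm_apply]
            simp only [← mul_assoc, C, C', Units.mul_inv, one_mul, Units.mul_inv_cancel_right]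
            exact (UnitaryConj.mem_GU_iff_adj hK _).mp g.1.2))
          ⟨(IsUnit.of_mul_eq_one_right _ hone).unit, hone⟩
        invFun := fun g => ⟨⟨c * Units.map (R : Matrix (UnipCent.Ix d) (UnipCent.Ix d) K →* Matrix (Fin n) (Fin n) K) (Units.map ((UnipCent.A K d).val : _ →* _) g.1) * c⁻¹,
            (UnitaryConj.mem_GU_iff_adj hK _).mpr ((key _).mp ((hiso _).mp g.2))⟩, Subgroup.mem_centralizer_iff.mpr (by
            rintro _ rfl
            refine Subtype.ext (Units.ext ?_)
            exact ((hcomm _).mp (g.1 : UnipCent.A K d).2).symm)⟩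
        left_inv := fun g => Subtype.ext (Subtype.ext (Units.ext (by
          simp only [Units.val_mul, Units.coe_map, IsUnit.unit_spec, MonoidHom.coe_coe, Subalgebra.coe_val, AlgEquiv.apply_symm_apply]
          simp only [← mul_assoc, C, C', Units.mul_inv, one_mul, Units.mul_inv_cancel_right])))
        right_inv := fun g => Subtype.ext (Units.ext (Subtype.ext (by
          simp only [Units.val_mul, Units.coe_map, IsUnit.unit_spec, MonoidHom.coe_coe, Subalgebra.coe_val]
          simp only [← mul_assoc, C, C', Units.inv_mul, one_mul, Units.inv_mul_cancel_right, AlgEquiv.symm_apply_apply]))) }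

/-- Order of the centraliser in the general unitary group GU_n(q) of a unipotent element of given Jordan type: if u ∈ GU_n(q) (isometries of Σ u_i v_i^q over the field with q² elements) is similar to the unipotent matrix with a_i Jordan blocks of size i (all sizes at least 1), then its centraliser in GU_n(q) has order q^γ · Π_i |GU_(a_i)(q)| with γ = 2 Σ_(i<j) i a_i a_j + Σ_i (i − 1) a_i², the same exponent as in GL_n(q), where |GU_a(q)| = q^(a(a−1)/2) Π_(k=1)^a (q^k − (−1)^k). -/
theorem result {K : Type*} [Field K] [Fintype K] {q n t : ℕ} (hK : Fintype.card K = q ^ 2) (d : Fin t → ℕ) (hd : ∀ k, 1 ≤ d k) (e : ((k : Fin t) × Fin (d k)) ≃ Fin n) (u : ↥(Cfsg.GU n K q)) (hu : IsConj (Matrix.reindex e e (Cfsg.jordanTypeMatrix d K)) ((u : GL (Fin n) K) : Matrix (Fin n) (Fin n) K)) : (Nat.card ↥(Subgroup.centralizer ({u} : Set ↥(Cfsg.GU n K q))) : ℤ) = (q : ℤ) ^ (2 * (∑ i ∈ Finset.range (Finset.univ.sup d + 1), ∑ j ∈ Finset.range (Finset.univ.sup d + 1), if i < j then i * (Finset.univ.filter (fun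 k : Fin t => d k = i)).card * (Finset.univ.filter (fun k : Fin t => d k = j)).card else 0) + ∑ i ∈ Finset.range (Finset.univ.sup d + 1), (i - 1) * (Finset.univ.filter (fun k : Fin t => d k = i)).card ^ 2) * ∏ i ∈ Finset.range (Finset.univ.sup d + 1), ((q : ℤ) ^ ((Finset.univ.filter (fun k : Fin t => d k = i)).card * ((Finset.univ.filter (fun k : Fin t => d k = i)).card - 1) / 2) * ∏ j : Fin (Finset.univ.filter (fun k : Fin t => d k = i)).card, ((q : ℤ) ^ ((j : ℕ) + 1) - (-1) ^ ((j : ℕ) + 1))) := by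
  classical
  obtain ⟨H, hH, hT, hcard⟩ := card_centralizer_eq hK d e u hu
  rw [hcard]
  set θ := Unitary.conjHom hK with hθ
  have hθθ : ∀ x, θ (θ x) = x := fun x => UnitaryConj.conj_conj hK x
  have hε : (1 : K) * θ 1 = 1 := by rw [map_one, one_mul]
  obtain ⟨a, ha⟩ := UnitaryConj.exists_moved hK
  have ha' : θ a ≠ a := fun h => ha (by rw [sub_eq_zero]; simpa [hθ] using h)
  obtain ⟨α, hα⟩ := Unitary.exists_trace_eq hK (c := 1) (one_pow q)
  have hα' : α + θ α = 1 := by simpa [hθ] using hα
  have hA := UnipCent.isAnti_σ d θ hθθ 1 H hH hT hε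
  have h1 := AntiInv.card_unitary hA (UnipCent.π d hd) (UnipCent.isNilpotent_of_π_eq_zero d hd)
    (α := algebraMap K (UnipCent.A K d) α) (fun z => Algebra.commutes α z) (by
      rw [Algebra.algebraMap_eq_smul_one, UnipCent.σ_smul, AntiInv.map_one hA, ← add_smul, hα', one_smul])
    (UnipCent.π_σ_eq_zero d hd θ H hT)
  have h2 := UnipCent.card_ker_sq d hd θ hθθ 1 H hH hT hε a ha'
  have h3 := UnipCent.range_π d hd θ hθθ 1 H hH hT hε α hα'
  set nd := Fintype.card {s : Jordan.Idx d // ¬ Jordan.IsDiag d s} with hnd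
  have h4 : Nat.card {M : UnipCent.A K d // UnipCent.π d hd M = 0 ∧ UnipCent.σ d θ H hT M = M} = q ^ nd := by
    refine Nat.pow_left_injective two_ne_zero ?_
    show _ ^ 2 = _ ^ 2
    rw [h2, UnipCent.card_ker, Nat.card_eq_fintype_card, hK, ← pow_mul, ← pow_mul, mul_comm]
  rw [← h2, h4, h3, sq, mul_comm (Nat.card _) (q ^ nd), mul_assoc] at h1
  have hq : 1 < q := by
    rcases Nat.lt_or_ge 1 q with h | h
    · exact h
    · have := Fintype.one_lt_card (α := K)
      rw [hK] at this
      nlinarith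
  have h5 := Nat.eq_of_mul_eq_mul_left (pow_pos (by omega) nd) h1
  have h6 : Nat.card ↥{B : (D : ↥(Finset.univ.image d)) → Matrix (UnipCent.Fb d D) (UnipCent.Fb d D) K |
      ∀ D, UnipCent.ad θ (B D) * UnipCent.G d hd H D * B D = UnipCent.G d hd H D} =
      ∏ D : ↥(Finset.univ.image d), Nat.card ↥(Cfsg.GU (Fintype.card (UnipCent.Fb d D)) K q) := by
    refine (Nat.card_congr (Equiv.subtypePiEquivPi (p := fun D B => UnipCent.ad θ B * UnipCent.G d hd H D * B = UnipCent.G d hd H D))).trans ?_
    rw [Nat.card_pi]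
    refine Finset.prod_congr rfl fun D _ => ?_
    refine card_isometries hK _ (UnipCent.isUnit_G d hd θ H hT D) ((D : ℕ) - 1) ?_
    rw [UnipCent.ad_G d hd θ 1 H hH hT D, one_mul]
  rw [h5, h6]
  -- the arithmetic
  let R := Finset.univ.sup d + 1
  let a : ℕ → ℕ := fun i => (Finset.univ.filter (fun k : Fin t => d k = i)).card
  have hafib : ∀ D, Fintype.card (Jordan.Fib d D) = a D := fun D => by simp [Jordan.Fib, a, Fintype.card_subtype]
  have hmem : ∀ k, d k ∈ Finset.range R := fun k =>
    Finset.mem_range.mpr (Nat.lt_succ_of_le (Finset.le_sup (f := d) (Finset.mem_univ k)))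
  have hfib : ∀ f : ℕ → ℕ, (∑ k, f (d k)) = ∑ i ∈ Finset.range R, a i * f i := by
    intro f
    rw [← Finset.sum_fiberwise_of_maps_to (fun k _ => hmem k)]
    refine Finset.sum_congr rfl fun i _ => ?_
    rw [Finset.sum_congr rfl (fun k hk => by rw [(Finset.mem_filter.mp hk).2]), Finset.sum_const, smul_eq_mul]
  have hS : Fintype.card (Jordan.Idx d) = ∑ i ∈ Finset.range R, ∑ j ∈ Finset.range R, a i * a j * min i j := by
    simp only [Jordan.Idx, Fintype.card_sigma, Fintype.card_fin]
    rw [hfib (fun i => ∑ l, min i (d l))]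
    refine Finset.sum_congr rfl fun i _ => ?_
    rw [hfib (fun j => min i j), Finset.mul_sum]
    exact Finset.sum_congr rfl fun j _ => by ring
  have himg : ∀ D ∈ Finset.range R, D ∉ Finset.univ.image d → a D = 0 := by
    intro D _ hD
    exact Finset.card_eq_zero.mpr (Finset.filter_eq_empty_iff.mpr fun k _ hk => hD (Finset.mem_image.mpr ⟨k, Finset.mem_univ k, hk⟩))
  have hsub : Finset.univ.image d ⊆ Finset.range R := fun D hD => by
    obtain ⟨k, -, rfl⟩ := Finset.mem_image.mp hD; exact hmem k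
  have hP : Fintype.card {s : Jordan.Idx d // Jordan.IsDiag d s} = ∑ i ∈ Finset.range R, a i ^ 2 := by
    rw [Fintype.card_congr (Jordan.diagEquiv d hd), Fintype.card_sigma]
    simp only [Fintype.card_prod, hafib, ← sq]
    rw [← Finset.sum_subset hsub (fun D h1 h2 => by rw [himg D h1 h2]; rfl), Finset.sum_coe_sort (Finset.univ.image d) (fun D => a D ^ 2)]
  have ha0 : a 0 = 0 := Finset.card_eq_zero.mpr (Finset.filter_eq_empty_iff.mpr fun k _ hk => by have := hd k; omega)
  have hnd' : nd = 2 * (∑ i ∈ Finset.range R, ∑ j ∈ Finset.range R, if i < j then i * a i * a j else 0) +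
      ∑ i ∈ Finset.range R, (i - 1) * a i ^ 2 := by
    rw [hnd, Fintype.card_subtype_compl, hP, hS, S2581.sum_min_split a R ha0, Nat.add_sub_cancel]
  rw [hnd', Nat.cast_mul, Nat.cast_pow]
  congr 1
  rw [Finset.prod_coe_sort_eq_attach, Nat.cast_prod]
  simp only [hafib, Unitary.card_GU hK]
  rw [Finset.prod_attach (Finset.univ.image d) (fun D => ((q ^ (a D * (a D - 1) / 2) *
    ∏ i ∈ Finset.range (a D), (if Even i then q ^ (i + 1) + 1 else q ^ (i + 1) - 1) : ℕ) : ℤ)),
    Finset.prod_subset hsub fun D h1 h2 => by rw [himg D h1 h2]; simp]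
  refine Finset.prod_congr rfl fun D _ => ?_
  rw [Nat.cast_mul, Nat.cast_pow, Nat.cast_prod, Finset.prod_range]
  congr 1
  refine Finset.prod_congr rfl fun j _ => ?_
  rcases Nat.even_or_odd (j : ℕ) with h | h
  · rw [if_pos h, (Even.add_one h).neg_one_pow]; push_cast; ring
  · rw [if_neg (Nat.not_even_iff_odd.mpr h), (Odd.add_one h).neg_one_pow, Nat.cast_sub (Nat.one_le_pow _ _ (by omega))]
    push_cast; ring

end Cfsg.Agent.S2646
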