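import Cfsg.Statements.S2647
import Cfsg.Agent.Lib.OrthFrame.Sylow
import Cfsg.Agent.Lib.Orth.Models

set_option autoImplicit false
open Cfsg

namespace Cfsg.Agent.S2647

open Cfsg.Agent Cfsg.Agent.Orth in
open QuadraticMap (polar) in
/-- An orthogonal frame of seven vectors of norm `-1`. -/
theorem exists_frame {F : Type*} [Field F] [Fintype F] [DecidableEq F] (q : ℕ)
    (hF : Fintype.card F = q) (hq : q % 8 = 3 ∨ q % 8 = 5) :
    Nonempty (OrthFrame.Frame (quadOdd 3 F)) := by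
  subst hF
  have h2s : ¬ IsSquare (2 : F) := fun h => by
    have := FiniteField.isSquare_two_iff.1 h
    omega
  have h2 : (2 : F) ≠ 0 := fun h => h2s (h ▸ IsSquare.zero)
  obtain ⟨a, b, hab⟩ : ∃ a b : F, a ^ 2 + b ^ 2 = -1 := by
    have : Fact (Nat.Prime (ringChar F)) := ⟨CharP.char_is_prime F _⟩
    obtain ⟨a, b, h⟩ := CharP.sq_add_sq F (ringChar F) (-1 : ℤ)
    exact ⟨a, b, by simpa using h⟩
  let v : F → (Fin 3 → F) → (Fin 3 → F) → (Unit ⊕ (Fin 3 ⊕ Fin 3) → F) := fun z x y =>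
    Sum.elim (fun _ => z) (Sum.elim x y)
  let u : Fin 7 → Unit ⊕ (Fin 3 ⊕ Fin 3) → F :=
    ![v 0 ![1, 0, 0] ![-1, 0, 0], v 0 ![0, 1, 0] ![0, -1, 0], v 0 ![0, 0, 1] ![0, 0, -1],
      v a ![b, 0, 0] ![b, 0, 0], v (-b) ![a, 0, 0] ![a, 0, 0],
      v 0 ![0, a, b] ![0, a, b], v 0 ![0, -b, a] ![0, -b, a]]
  refine ⟨{
    u := u
    c := -1
    good := Good.of_two_ne_zero (quadOdd_nondeg 3 h2) h2
    c_ne := neg_ne_zero.2 one_ne_zero
    two := h2s
    card := rfl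
    q := ?_
    orth := ?_ }⟩
  · intro i
    show quadFormOdd 3 F (u i) = -1
    fin_cases i <;> simp [quadFormOdd, Fin.sum_univ_three, u, v] <;> linear_combination hab
  · intro i j h
    show polar (quadFormOdd 3 F) (u i) (u j) = 0
    rw [polar_quadOdd]
    fin_cases i <;> fin_cases j <;> first
      | exact absurd rfl h
      | (simp [Fin.sum_univ_three, u, v] <;> ring1)

open Cfsg.Agent Cfsg.Agent.Orth in
/-- Conjugates of the monomial subgroup belong to the moved frame. -/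
theorem syl_map {ι : Type} [Fintype ι] [DecidableEq ι] {F : Type*} [Field F] [Fintype F]
    [DecidableEq F] {Q : QuadraticForm F (ι → F)} (f : OrthFrame.Frame Q) (g x : Omega F ⇑Q) :
    g⁻¹ * x * g ∈ f.syl ↔ x ∈ (f.map g.1).syl := by
  constructor
  · rintro ⟨s, σ, hσ, hm⟩
    refine ⟨s, σ, hσ, fun i => ?_⟩
    show ap x.1 (ap g.1 (f.u i)) = _ • ap g.1 (f.u (σ i))
    have := congrArg (ap g.1) (hm i)
    simpa using this
  · rintro ⟨s, σ, hσ, hm⟩
    refine ⟨s, σ, hσ, fun i => ?_⟩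
    have := congrArg (ap g.1⁻¹) (hm i)
    simpa [OrthFrame.Frame.map] using this

/-- Let q be an odd prime power with q ≡ ±3 (mod 8), F a field with q elements and S a Sylow 2-subgroup of the commutator subgroup Ω₇(q) of the orthogonal group of the form x₀² + x₁y₁ + x₂y₂ + x₃y₃ over F. Then every automorphism of S induced by N(S) is inner, S has no strongly closed subgroup other than 1 and S with respect to this group, and the 2-fusion system of Ω₇(q) on S is simple. -/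
theorem result {F : Type*} [Field F] [Fintype F] [DecidableEq F] (q : ℕ) (hF : Fintype.card F = q) (hq : q % 8 = 3 ∨ q % 8 = 5) (S : Sylow 2 ↥(Cfsg.Omega F (Cfsg.quadFormOdd 3 F))) : (Cfsg.groupFusionSystem (S : Subgroup ↥(Cfsg.Omega F (Cfsg.quadFormOdd 3 F)))).autGroup (S : Subgroup ↥(Cfsg.Omega F (Cfsg.quadFormOdd 3 F))) = Cfsg.Inn ↥(S : Subgroup ↥(Cfsg.Omega F (Cfsg.quadFormOdd 3 F))) ∧ (∀ T : Subgroup ↥(Cfsg.Omega F (Cfsg.quadFormOdd 3 F)), (Cfsg.groupFusionSystem (S : Subgroup ↥(Cfsg.Omega F (Cfsg.quadFormOdd 3 F)))).StronglyClosed T → T = ⊥ ∨ T = (S : Subgroup ↥(Cfsg.Omega F (Cfsg.quadFormOdd 3 F)))) ∧ (Cfsg.groupFusionSystem (S : Subgroup ↥(Cfsg.Omega F (Cfsg.quadFormOdd 3 F)))).IsSimple 2 := by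
  obtain ⟨f⟩ := exists_frame (F := F) q hF hq
  let S0 : Sylow 2 ↥(Cfsg.Omega F (Cfsg.quadFormOdd 3 F)) := f.sylow
  obtain ⟨g, hg⟩ := MulAction.exists_smul_eq ↥(Cfsg.Omega F (Cfsg.quadFormOdd 3 F)) S0 S
  let g' : Cfsg.Agent.Orth.IsoGrp (Cfsg.Agent.Orth.quadOdd 3 F) := g.1
  have hS : (S : Subgroup ↥(Cfsg.Omega F (Cfsg.quadFormOdd 3 F))) = (f.map g').syl := by
    rw [← hg, Sylow.coe_subgroup_smul]
    ext x
    rw [Subgroup.mem_pointwise_smul_iff_inv_smul_mem, ← map_inv, MulAut.smul_def, MulAut.conj_apply,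
      inv_inv]
    exact syl_map f g x
  have hsc := (f.map g').strongly_closed_eq
  have hN : ∀ y, y ∈ Subgroup.normalizer ((f.map g').syl : Set _) → y ∈ (f.map g').syl :=
    fun y hy => (f.map g').mem_syl_of_norm fun x => Subgroup.mem_normalizer_iff.1 hy x
  have hne := (f.map g').syl_ne_bot
  rw [← hS] at hsc hN hne
  refine ⟨?_, hsc, Cfsg.Agent.MathieuFusion.isSimple_of_selfNormalizing S hne hsc hN⟩
  rw [Cfsg.Agent.Fusion.autGroup_group le_rfl]
  ext α
  rw [Cfsg.Agent.Fusion.mem_autInducedBy_iff]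
  constructor
  · rintro ⟨y, -, hy⟩
    exact ⟨⟨y, hN y (Cfsg.Agent.Fusion.mem_normalizerIn_of_aut (S := ⊤) (Subgroup.mem_top y) hy).2⟩,
      MulEquiv.ext fun x => Subtype.ext (hy x).symm⟩
  · rintro ⟨y, rfl⟩
    exact ⟨y.1, Subgroup.mem_top _, fun x => rfl⟩

end Cfsg.Agent.S2647
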