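import Cfsg.Statements.S2648
import Cfsg.Agent.EqLemmas
import Cfsg.Agent.Lib.SympSylowTwo.Main

set_option autoImplicit false
open Cfsg

namespace Cfsg.Agent.S2648

/-- Let q be odd, F a field with q elements and n ≥ 1. A Sylow 2-subgroup R of the symplectic group Sp_{2n}(F) has derived length exactly k + 1, where 2^k ≤ 2n < 2^{k+1}: the (k+1)-st term of its derived series is trivial and the k-th is not. -/
theorem result {F : Type*} [Field F] [Fintype F] [DecidableEq F] (q : ℕ) (hF : Fintype.card F = q) (hq : Odd q) (n : ℕ) (hn : 1 ≤ n) (R : Sylow 2 ↥(Matrix.symplecticGroup (Fin n) F)) : derivedSeries ↥(R : Subgroup ↥(Matrix.symplecticGroup (Fin n) F)) (Nat.log 2 (2 * n) + 1) = ⊥ ∧ derivedSeries ↥(R : Subgroup ↥(Matrix.symplecticGroup (Fin n) F)) (Nat.log 2 (2 * n)) ≠ ⊥ := by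
  haveI : Fact (Nat.Prime 2) := ⟨Nat.prime_two⟩
  have hodd : Odd (Nat.card F) := by rw [Nat.card_eq_fintype_card, hF]; exact hq
  haveI : Finite (SympSylowTwo.Mono n F) :=
    Finite.of_injective _ SympSylowTwo.monoHom_injective
  obtain ⟨P⟩ : Nonempty (Sylow 2 (SympSylowTwo.Mono n F)) := inferInstance
  let P' : Sylow 2 ↥(Matrix.symplecticGroup (Fin n) F) :=
    Sylow.ofCard ((P : Subgroup (SympSylowTwo.Mono n F)).map (SympSylowTwo.monoHom n F)) (by
      rw [← Nat.card_congr
        ((P : Subgroup (SympSylowTwo.Mono n F)).equivMapOfInjective _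
          SympSylowTwo.monoHom_injective).toEquiv, P.card_eq_multiplicity,
        Nat.factorization_def _ Nat.prime_two, Nat.factorization_def _ Nat.prime_two,
        SympSylowTwo.padic_card_eq hodd])
  let e : ↥(R : Subgroup ↥(Matrix.symplecticGroup (Fin n) F)) ≃*
      ↥(P : Subgroup (SympSylowTwo.Mono n F)) :=
    (R.equiv P').trans ((P : Subgroup (SympSylowTwo.Mono n F)).equivMapOfInjective _
      SympSylowTwo.monoHom_injective).symm
  have key : ∀ j, derivedSeries ↥(R : Subgroup ↥(Matrix.symplecticGroup (Fin n) F)) j = ⊥ ↔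
      SympSylowTwo.der (P : Subgroup (SympSylowTwo.Mono n F)) j = ⊥ := fun j => by
    rw [← SympSylowTwo.derivedSeries_eq_bot_iff, ← map_derivedSeries_eq (f := e.toMonoidHom) e.surjective,
      Subgroup.map_eq_bot_iff_of_injective _ e.injective]
  have hlog : Nat.log 2 (2 * n) = Nat.log 2 n + 1 := by
    rw [mul_comm, Nat.log_mul_base one_lt_two (by omega)]
  rw [hlog]
  refine ⟨(key _).2 (SympSylowTwo.der_mono_bot hodd P.isPGroup'), ?_⟩
  rw [Ne, key]
  intro hbot
  obtain ⟨W, hWp, -, hWd⟩ := SympSylowTwo.exists_witness hodd hn (Nat.log 2 n)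
    (Nat.pow_log_le_self 2 (by omega))
  obtain ⟨P₂, hP₂⟩ := hWp.exists_le_sylow
  obtain ⟨g, hg⟩ := MulAction.exists_smul_eq (SympSylowTwo.Mono n F) P P₂
  apply hWd
  rw [eq_bot_iff]
  refine (SympSylowTwo.der_mono hP₂ _).trans ?_
  have hcoe : (P₂ : Subgroup (SympSylowTwo.Mono n F)) =
      (P : Subgroup (SympSylowTwo.Mono n F)).map (MulAut.conj g).toMonoidHom := by
    rw [← hg]; rfl
  rw [hcoe, SympSylowTwo.der_map, hbot, Subgroup.map_bot]

end Cfsg.Agent.S2648
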