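import Cfsg.Statements.S2649
import Cfsg.Agent.Lib.GolayExt.Code

set_option autoImplicit false
open Cfsg

namespace Cfsg.Agent.S2649

/-- Extensions of the Mathieu group M₂₃ by its code module split. Let E be a finite group with a normal subgroup N, an isomorphism φ from E/N onto M₂₃ = `Spor.M23` (the stabiliser of the extra point `none` in M₂₄ acting on the 24 points `GolayPt`), and an injective additive homomorphism ψ from N onto the set of words of the binary Golay code `golayCode` that vanish at `none` (an 11-dimensional space over the field with two elements), such that conjugation by g ∈ E on N corresponds under ψ to the coordinate permutation w ↦ w ∘ σ⁻¹, σ the permutation φ(gN). Then N has a complement in E: some subgroup H meets N trivially and generates E together with N. (Equivalently, the second cohomology group of M₂₃ with coefficients in this module vanishes.) -/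
theorem result
    {E : Type*} [Group E] [Finite E] (N : Subgroup E) [hN : N.Normal]
    (φ : E ⧸ N ≃* ↥Cfsg.Spor.M23)
    (ψ : Additive ↥N →+ (Cfsg.GolayPt → ZMod 2)) (hinj : Function.Injective ψ)
    (hrange : ∀ w : Cfsg.GolayPt → ZMod 2, w ∈ Set.range ψ ↔ (w ∈ Cfsg.golayCode ∧ w none = 0))
    (hψ : ∀ (g : E) (n : ↥N),
      ψ (Additive.ofMul ⟨g * n * g⁻¹, hN.conj_mem n n.2 g⟩)
        = ψ (Additive.ofMul n) ∘ ⇑(((φ (QuotientGroup.mk g) : ↥Cfsg.Spor.M23) : Equiv.Perm Cfsg.GolayPt)⁻¹)) :
    ∃ H : Subgroup E, H ⊓ N = ⊥ ∧ H ⊔ N = ⊤ := by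
  classical
  obtain ⟨M, hM⟩ : ∃ M : GolayExt.Mod GolayExt.codeSM GolayExt.codeGM E,
      M.f = φ.toMonoidHom.comp (QuotientGroup.mk' N) := by
    let f : E →* ↥Spor.M23 := φ.toMonoidHom.comp (QuotientGroup.mk' N)
    have hf1 : ∀ e, f e = 1 ↔ e ∈ N := fun e => by
      simp [f, QuotientGroup.eq_one_iff]
    choose n hn using fun v => (hrange (GolayExt.comb GolayExt.codeB v)).mpr
      (GolayExt.comb_codeB_mem v)
    let ι : GolayExt.Vec → E := fun v => (((n v).toMul : ↥N) : E)
    have hadd : ∀ v w, ι (v + w) = ι v * ι w := by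
      intro v w
      have e : n (v + w) = n v + n w :=
        hinj (by rw [map_add, hn, hn, hn, GolayExt.comb_add])
      show ((n (v + w)).toMul : E) = _
      rw [e]
      rfl
    have hιinj : Function.Injective ι := by
      intro v w h
      have e : n v = n w := Additive.toMul.injective (Subtype.ext h)
      funext k
      rw [← GolayExt.comb_codeB_coord v k, ← GolayExt.comb_codeB_coord w k, ← hn, ← hn, e]
    have hact : ∀ (d : ℕ) (m : List ℕ) (hd : Golay.validPerm d = true),
        GolayExt.actOk (fun x => x == 0) GolayExt.codeB d m = true →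
        ∀ e, ((f e : ↥Spor.M23) : Equiv.Perm GolayPt) = Golay.toPerm d → ∀ v,
          e * ι v * e⁻¹ = ι (GolayExt.act m v) := by
      intro d m hd hok e he v
      have h1 := hψ e (n v).toMul
      rw [ofMul_toMul, hn] at h1
      have h2 := GolayExt.comb_act (AddMonoidHom.id (GolayPt → ZMod 2))
        (good := fun x => x == 0) (fun x hx => by simp [beq_iff_eq.mp hx, Golay.word_zero]) hd hok v
      simp only [AddMonoidHom.id_apply] at h2
      rw [← he] at h2
      have h3 := hinj (h1.trans (h2.trans (hn (GolayExt.act m v)).symm))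
      exact congrArg (fun z : Additive ↥N => ((z.toMul : ↥N) : E)) h3
    refine ⟨{
      ι := ι, add := hadd, inj := hιinj, f := f
      surj := φ.surjective.comp (QuotientGroup.mk'_surjective N)
      ker := fun e => (hf1 e).trans ⟨fun he => ?_, ?_⟩
      actS := fun a e he v => ?_
      actG := fun c hc e he v => ?_ }, rfl⟩
    · obtain ⟨hw, h0⟩ := (hrange _).mp ⟨Additive.ofMul ⟨e, he⟩, rfl⟩
      obtain ⟨v, hv⟩ := GolayExt.exists_comb_codeB hw h0
      refine ⟨v, ?_⟩
      show ((n v).toMul : E) = e
      rw [hinj ((hn v).trans hv)]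
      rfl
    · rintro ⟨v, rfl⟩
      exact SetLike.coe_mem _
    · refine hact _ _ (Golay.validPerm_of_isAut
        (Bool.and_eq_true_iff.mp (GolayExt.inM23_serN a)).1) ?_ e (by rw [he]; rfl) v
      exact GolayExt.code_matrices.1 (a % 7) (Nat.mod_lt _ (by norm_num))
    · exact hact _ _ (Golay.validPerm_of_isAut
        (Bool.and_eq_true_iff.mp (GolayExt.inM23_cjN c hc)).1)
        (GolayExt.code_matrices.2 c hc) e (by rw [he, GolayExt.cjG_val hc]) v
  obtain ⟨x, c, hx, hrel⟩ := M.exists_lifts GolayExt.code_eqs GolayExt.code_delta GolayExt.code_cert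
  obtain ⟨H, h1, h2⟩ := GolayExt.complement_of_rels M.f M.surj M.isMulCommutative_ker
    ⟨11, M.card_ker⟩ x hx fun a ha b hb => by
      rw [hrel a ha b hb]
      have h0 : (fun l : Fin 11 =>
          if GolayExt.codeV0.testBit (GolayExt.key a b * 11 + l.val) then c else 0) = 0 := by
        funext l; simp [GolayExt.codeV0]
      rw [h0, show M.ι 0 = 1 by simpa using M.add 0 0, one_mul]
  have hker : M.f.ker = N := by
    ext e
    rw [hM]
    simp [QuotientGroup.eq_one_iff]
  rw [hker] at h1 h2
  exact ⟨H, h1, h2⟩

end Cfsg.Agent.S2649
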