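import Cfsg.Statements.S2651
import Cfsg.Agent.Lib.GolayExt.Unique

set_option autoImplicit false
open Cfsg

namespace Cfsg.Agent.S2651

/-- The non-split extension of the Mathieu group M₂₃ by its cocode module is unique. Suppose E and E' are finite groups, each with a normal subgroup (N, N'), an isomorphism of the quotient onto M₂₃ = `Spor.M23`, and a surjective additive homomorphism from the binary words on the 24 points `GolayPt` onto the normal subgroup with kernel the Golay code `golayCode` together with its translate by the unit vector at the extra point `none`, intertwining the coordinate permutation w ↦ w ∘ σ⁻¹ (σ the image of gN) with conjugation by g; and suppose that in each group the normal subgroup has no complement. Then E and E' are isomorphic. -/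
theorem result
    {E : Type*} [Group E] [Finite E] (N : Subgroup E) [hN : N.Normal]
    (φ : E ⧸ N ≃* ↥Cfsg.Spor.M23) (θ : (Cfsg.GolayPt → ZMod 2) →+ Additive ↥N)
    (hsurj : Function.Surjective θ)
    (hker : ∀ w : Cfsg.GolayPt → ZMod 2, θ w = 0 ↔ (w ∈ Cfsg.golayCode ∨ w + Pi.single none 1 ∈ Cfsg.golayCode))
    (hθ : ∀ (g : E) (w : Cfsg.GolayPt → ZMod 2),
      ((θ (w ∘ ⇑(((φ (QuotientGroup.mk g) : ↥Cfsg.Spor.M23) : Equiv.Perm Cfsg.GolayPt)⁻¹))).toMul : E)
        = g * ((θ w).toMul : E) * g⁻¹)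
    (hns : ∀ H : Subgroup E, H ⊓ N = ⊥ → H ⊔ N ≠ ⊤)
    {E' : Type*} [Group E'] [Finite E'] (N' : Subgroup E') [hN' : N'.Normal]
    (φ' : E' ⧸ N' ≃* ↥Cfsg.Spor.M23) (θ' : (Cfsg.GolayPt → ZMod 2) →+ Additive ↥N')
    (hsurj' : Function.Surjective θ')
    (hker' : ∀ w : Cfsg.GolayPt → ZMod 2, θ' w = 0 ↔ (w ∈ Cfsg.golayCode ∨ w + Pi.single none 1 ∈ Cfsg.golayCode))
    (hθ' : ∀ (g : E') (w : Cfsg.GolayPt → ZMod 2),
      ((θ' (w ∘ ⇑(((φ' (QuotientGroup.mk g) : ↥Cfsg.Spor.M23) : Equiv.Perm Cfsg.GolayPt)⁻¹))).toMul : E')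
        = g * ((θ' w).toMul : E') * g⁻¹)
    (hns' : ∀ H : Subgroup E', H ⊓ N' = ⊥ → H ⊔ N' ≠ ⊤) :
    Nonempty (E ≃* E') := by
  obtain ⟨M, hN, hact, hex⟩ := GolayExt.exists_coc_mod N φ θ hsurj hker hθ
  obtain ⟨M', hN', hact', -⟩ := GolayExt.exists_coc_mod N' φ' θ' hsurj' hker' hθ'
  obtain ⟨x, c, hx, hr⟩ := M.exists_lifts GolayExt.coc_eqs GolayExt.coc_delta GolayExt.coc_cert
  obtain ⟨x', c', hx', hr'⟩ :=
    M'.exists_lifts GolayExt.coc_eqs GolayExt.coc_delta GolayExt.coc_cert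
  have h0 : ∀ a b, (fun l : Fin 11 =>
      if GolayExt.cocV0.testBit (GolayExt.key a b * 11 + l.val) then (0 : ZMod 2) else 0) = 0 := by
    intro a b; funext l; simp
  have hc : c = 1 := by
    refine ((by decide : ∀ t : ZMod 2, t = 0 ∨ t = 1) c).resolve_left fun e => ?_
    subst e
    obtain ⟨H, h1, h2⟩ := GolayExt.complement_of_rels M.f M.surj M.isMulCommutative_ker
      ⟨11, M.card_ker⟩ x hx fun a ha b hb => by
        rw [hr a ha b hb, h0, show M.ι 0 = 1 by simpa using M.add 0 0, one_mul]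
    rw [hN] at h1 h2
    exact hns H h1 h2
  have hc' : c' = 1 := by
    refine ((by decide : ∀ t : ZMod 2, t = 0 ∨ t = 1) c').resolve_left fun e => ?_
    subst e
    obtain ⟨H, h1, h2⟩ := GolayExt.complement_of_rels M'.f M'.surj M'.isMulCommutative_ker
      ⟨11, M'.card_ker⟩ x' hx' fun a ha b hb => by
        rw [hr' a ha b hb, h0, show M'.ι 0 = 1 by simpa using M'.add 0 0, one_mul]
    rw [hN'] at h1 h2
    exact hns' H h1 h2
  subst hc hc'
  refine GolayExt.iso_of_relators M M' _ (fun g v => ?_) x hx hr x' hx' hr'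
  obtain ⟨w, hw⟩ := hex g v
  exact ⟨w, hact g v w hw, hact' g v w hw⟩

end Cfsg.Agent.S2651
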