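import Cfsg.Statements.S2652
import Cfsg.Agent.Lib.Fi23Sylow.Unique

set_option autoImplicit false
open Cfsg

namespace Cfsg.Agent.S2652

open Cfsg.Agent in
theorem core {G : Type} [Group G] [Finite G] (K L : Subgroup G) (hKL : K ≤ L) (hKe : IsElementaryAbelian 2 K)
    (hKn : (K.subgroupOf L).Normal) (hK : Nat.card K = 2 ^ 11) (hL : Nat.card L = 2 ^ (Nat.card G).factorization 2)
    (huniq : ∀ A : Subgroup G, A ≤ L → IsElementaryAbelian 2 A → 2 ^ 11 ≤ Nat.card A → A = K)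
    (T : Sylow 2 G) :
    (∀ A : Subgroup G, A ≤ T → (A.subgroupOf T).Normal → IsElementaryAbelian 2 A → Nat.card A ≤ 2 ^ 11) ∧
    ∃! A : Subgroup G, A ≤ T ∧ (A.subgroupOf T).Normal ∧ IsElementaryAbelian 2 A ∧ Nat.card A = 2 ^ 11 := by
  have := Fact.mk (show Nat.Prime 2 by norm_num)
  obtain ⟨c, hc⟩ := MulAction.exists_smul_eq G (Sylow.ofCard L hL) T
  set φ : G ≃* G := MulAut.conj c
  have hT : (T : Subgroup G) = L.map φ.toMonoidHom := by
    rw [← hc]
    rfl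
  have hel : ∀ (f : G ≃* G) {A : Subgroup G}, IsElementaryAbelian 2 A → IsElementaryAbelian 2 (A.map f.toMonoidHom) := by
    rintro f A ⟨hA, hA2⟩
    refine ⟨⟨⟨?_⟩⟩, ?_⟩
    · rintro ⟨_, a, ha, rfl⟩ ⟨_, b, hb, rfl⟩
      refine Subtype.ext ?_
      show f a * f b = f b * f a
      rw [← map_mul, ← map_mul]
      exact congrArg f (congrArg Subtype.val (hA.1.1 (⟨a, ha⟩ : A) ⟨b, hb⟩))
    · rintro _ ⟨a, ha, rfl⟩
      show f a ^ 2 = 1
      rw [← map_pow, hA2 a ha, map_one]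
  have hcard : ∀ (f : G ≃* G) (A : Subgroup G), Nat.card (A.map f.toMonoidHom) = Nat.card A := fun f A =>
    (Nat.card_congr (f.subgroupMap A).toEquiv).symm
  have huniq' : ∀ A : Subgroup G, A ≤ T → IsElementaryAbelian 2 A → 2 ^ 11 ≤ Nat.card A →
      A = K.map φ.toMonoidHom := by
    intro A hA he h
    rw [← huniq (A.map φ.symm.toMonoidHom) ?_ (hel _ he) (by rw [hcard]; exact h)]
    · rw [Subgroup.map_map, show φ.toMonoidHom.comp φ.symm.toMonoidHom = MonoidHom.id G from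
        MonoidHom.ext φ.apply_symm_apply, Subgroup.map_id]
    · rintro _ ⟨a, ha, rfl⟩
      rw [hT] at hA
      obtain ⟨l, hl, rfl⟩ := hA ha
      simpa using hl
  refine ⟨fun A hA _ he => ?_, K.map φ.toMonoidHom, ⟨?_, ?_, hel _ hKe, (hcard _ _).trans hK⟩,
    fun A ⟨hA, _, he, h⟩ => huniq' A hA he h.ge⟩
  · rcases le_or_gt (2 ^ 11) (Nat.card A) with h | h
    · rw [huniq' A hA he h, hcard, hK]
    · exact h.le
  · rw [hT]
    exact Subgroup.map_mono hKL
  · refine ⟨fun n hn g => ?_⟩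
    obtain ⟨k, hk, hkn⟩ := Subgroup.mem_subgroupOf.mp hn
    have hg : (g : G) ∈ L.map φ.toMonoidHom := hT ▸ g.2
    obtain ⟨l, hl, hlg⟩ := hg
    rw [Subgroup.mem_subgroupOf]
    refine ⟨l * k * l⁻¹, ?_, ?_⟩
    · exact Subgroup.mem_subgroupOf.mp (hKn.conj_mem ⟨k, hKL hk⟩ hk ⟨l, hl⟩)
    · show φ (l * k * l⁻¹) = ((g * n * g⁻¹ : (T : Subgroup G)) : G)
      rw [map_mul, map_mul, map_inv]
      show φ l * φ k * (φ l)⁻¹ = (g : G) * (n : G) * (g : G)⁻¹
      rw [← hlg, ← hkn]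
      rfl


/-- Let T be a Sylow 2-subgroup of the Fischer group Fi₂₃ (the finitely presented group `Spor.Fi23`; T has order 2¹⁸). Then every elementary abelian subgroup of Fi₂₃ contained in T and normal in T has order at most 2¹¹, and there is exactly one such subgroup of order 2¹¹. -/
theorem result
    (T : Sylow 2 Cfsg.Spor.Fi23) :
    (∀ A : Subgroup Cfsg.Spor.Fi23, A ≤ T → (A.subgroupOf T).Normal → Cfsg.IsElementaryAbelian 2 A →
        Nat.card A ≤ 2 ^ 11) ∧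
    ∃! A : Subgroup Cfsg.Spor.Fi23, A ≤ T ∧ (A.subgroupOf T).Normal ∧ Cfsg.IsElementaryAbelian 2 A ∧
        Nat.card A = 2 ^ 11 := by
  have : Finite Cfsg.Spor.Fi23 := Cfsg.Agent.Fi23Sylow.fi23_finite
  have : Finite Cfsg.Agent.CosetEnum.fi23Setup.G := Cfsg.Agent.Fi23Sylow.fi23_finite
  refine core Cfsg.Agent.Fi23Sylow.kSub Cfsg.Agent.Fi23Sylow.sylowSub Cfsg.Agent.Fi23Sylow.kSub_le
    Cfsg.Agent.Fi23Sylow.kSub_elementary Cfsg.Agent.Fi23Sylow.kSub_normal Cfsg.Agent.Fi23Sylow.card_kSub ?_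
    (fun A => Cfsg.Agent.Fi23Sylow.eq_kSub_of_card) T
  refine Cfsg.Agent.Fi23Sylow.card_sylowSub.trans ?_
  congr 1
  refine (Eq.trans (congrArg (fun n => n.factorization 2) Cfsg.Agent.S1697.main.2) ?_).symm
  rw [show (4089470473293004800 : ℕ) = 2 ^ 18 * 15600091832325 by norm_num,
    Nat.factorization_mul (by norm_num) (by norm_num), Finsupp.add_apply, Nat.Prime.factorization_pow (by norm_num),
    Finsupp.single_eq_same, Nat.factorization_eq_zero_of_not_dvd (by norm_num)]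

end Cfsg.Agent.S2652
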