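import Cfsg.Statements.S2657
import Cfsg.Agent.Lib.ToralSection.F4
import Cfsg.Agent.Lib.ToralSection.AltPerms

set_option autoImplicit false
open scoped MatrixGroups
open Cfsg

namespace Cfsg.Agent.S2657

/-- Alternating sections of the groups of type F₄. Let `F` be a finite field of characteristic `p` and let `G` be the Chevalley group of type F₄ over `F`. If some subgroup of `G` has a quotient isomorphic to the alternating group of degree `r`, then `r` is at most 10, or 11 in characteristic 11. (Only an upper bound is asserted.) -/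
theorem result {F : Type*} [Field F] [Fintype F] (p : ℕ) [Fact p.Prime] [CharP F p]
    (r : ℕ) (H : Subgroup ↥(Cfsg.Lie.chevF4.group F)) (K : Subgroup ↥H) [K.Normal]
    (h : Nonempty (↥H ⧸ K ≃* ↥(alternatingGroup (Fin r)))) :
    r ≤ 10 + (if p = 11 then 1 else 0) := by
  obtain ⟨e⟩ := h
  let φ : ↥H →* ↥(alternatingGroup (Fin r)) := e.toMonoidHom.comp (QuotientGroup.mk' K)
  have hφ : Function.Surjective φ := e.surjective.comp (QuotientGroup.mk'_surjective K)
  by_contra hr
  rw [not_le] at hr
  by_cases hp : p = 11
  · have h12 : 12 ≤ r := by rw [if_pos hp] at hr; omega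
    obtain ⟨H₁, ψ, hψ⟩ := ToralSection.exists_sub_section h12 φ hφ
    obtain ⟨x, y, a, hx, hy, hxy, hax, hay⟩ := ToralSection.alt_twelve
    exact ToralSection.F4.no_thirtyfive (p := p) (H.subtype.comp H₁.subtype) ψ
      (H.subtype_injective.comp H₁.subtype_injective) hψ (by omega) (by omega) hx hy hxy hax hay
  · have h11 : 11 ≤ r := by rw [if_neg hp] at hr; omega
    obtain ⟨H₁, ψ, hψ⟩ := ToralSection.exists_sub_section h11 φ hφ
    obtain ⟨x, a, hx, hax⟩ := ToralSection.alt_eleven
    exact ToralSection.F4.no_eleven (p := p) (H.subtype.comp H₁.subtype) ψ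
      (H.subtype_injective.comp H₁.subtype_injective) hψ hp hx hax

end Cfsg.Agent.S2657
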