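import Cfsg.Statements.S2658
import Cfsg.Agent.EqLemmas
import Cfsg.Agent.Lib.G2Sections.Five
import Cfsg.Agent.Lib.G2Sections.Section
import Cfsg.Agent.Lib.G2Sections.Two
import Mathlib.FieldTheory.IsAlgClosed.AlgebraicClosure

set_option autoImplicit false
open scoped MatrixGroups
open Cfsg

namespace Cfsg.Agent.S2658

/-- Alternating sections of the groups of type G₂. Let `F` be a finite field of characteristic `p` and let `G` be the Chevalley group of type G₂ over `F`. If some subgroup of `G` has a quotient isomorphic to the alternating group of degree `r`, then `r` is at most 6, or 7 in characteristic 5. (Only an upper bound is asserted.) -/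
theorem result {F : Type*} [Field F] [Fintype F] (p : ℕ) [Fact p.Prime] [CharP F p]
    (r : ℕ) (H : Subgroup ↥(Cfsg.Lie.chevG2.group F)) (K : Subgroup ↥H) [K.Normal]
    (h : Nonempty (↥H ⧸ K ≃* ↥(alternatingGroup (Fin r)))) :
    r ≤ 6 + (if p = 5 then 1 else 0) := by
  obtain ⟨e⟩ := h
  let π : ↥H →* alternatingGroup (Fin r) := e.toMonoidHom.comp (QuotientGroup.mk' K)
  have hπ : Function.Surjective π := e.surjective.comp (QuotientGroup.mk'_surjective K)
  let j : ↥H →* Cfsg.Lie.G2 F := G2Oct.rho.comp H.subtype
  have hj : Function.Injective j := G2Oct.rho_injective.comp H.subtype_injective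
  have : Finite ↥H := Finite.of_injective j hj
  by_cases h5 : p = 5
  · subst h5
    rw [if_pos rfl]
    by_contra hr
    push Not at hr
    have h8 : 8 ≤ r := by omega
    have hq : Nat.card F % 4 = 1 := by
      obtain ⟨n, -, hn⟩ := FiniteField.card F 5
      rw [Nat.card_eq_fintype_card, hn, Nat.pow_mod]
      norm_num
    let H' : Subgroup ↥H := (G2Sections.altHom h8).range.comap π
    let π' : H' →* (G2Sections.altHom h8).range :=
      MonoidHom.codRestrict (π.comp H'.subtype) _ fun x => x.2
    have hπ' : Function.Surjective π' := fun y => by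
      obtain ⟨x, hx⟩ := hπ y
      exact ⟨⟨x, show π x ∈ _ from hx ▸ y.2⟩, Subtype.ext hx⟩
    let eq8 := MonoidHom.ofInjective (G2Sections.altHom_injective h8)
    exact G2Sections.no_section_eight hq (j.comp H'.subtype) (hj.comp H'.subtype_injective)
      (eq8.symm.toMonoidHom.comp π') (eq8.symm.surjective.comp hπ')
  · rw [if_neg h5, add_zero]
    by_contra hr
    push Not at hr
    obtain ⟨x, q, hx1, hx, hq⟩ := G2Sections.exists_alt_conj_sq (r := r) (by omega)
    let J := (G2Oct.mapZ (algebraMap F (AlgebraicClosure F))).comp j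
    have hJ : Function.Injective J := (G2Oct.mapZ_injective _).comp hj
    have h5F : (5 : F) ≠ 0 := fun h0 => h5 ((Nat.prime_dvd_prime_iff_eq Fact.out (by norm_num)).1
      ((CharP.cast_eq_zero_iff F p 5).1 (by exact_mod_cast h0)))
    have h5K : (5 : AlgebraicClosure F) ≠ 0 := by
      rw [← map_ofNat (algebraMap F (AlgebraicClosure F))]
      exact (map_ne_zero _).2 h5F
    obtain ⟨y, g, hy1, hy, hyg⟩ := G2Sections.exists_five_conj_sq π hπ hx1 hx hq fun P hP a ha b hb =>
      congrArg Subtype.val (G2Sections.five_group_comm h5K hP (J.comp P.subtype)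
        (hJ.comp P.subtype_injective) ⟨a, ha⟩ ⟨b, hb⟩)
    refine hy1 ((injective_iff_map_eq_one J).1 hJ y (G2Sections.eq_one_of_conj_sq h5K (J y)
      (by rw [← map_pow, hy, map_one]) (J g) ?_))
    rw [← map_inv, ← map_mul, ← map_mul, hyg, map_pow]

end Cfsg.Agent.S2658
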