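import Cfsg.Statements.S2659
import Cfsg.Agent.Lib.AltE6.Main
import Cfsg.Agent.Lib.TwistE6D4.Unip

set_option autoImplicit false
open scoped MatrixGroups
open Cfsg

namespace Cfsg.Agent.S2659

open Cfsg.Lie Cfsg.Lie.ChevalleyDatum in
theorem twisted_le {K : Type*} [Field K] (q : ℕ) : twistedE6 K q ≤ chevE6.group K := by
  rw [twistedE6, genSubgroup, Subgroup.closure_le]
  rintro g ⟨w, -, e⟩
  have hD := Chev.DataE6.good
  have key : ∀ w : List (ℕ × K), ∃ u ∈ chevE6.group K, (u : Matrix chevE6.Idx chevE6.Idx K) = chevE6.wordMat K w := by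
    intro w
    induction w with
    | nil => exact ⟨1, one_mem _, by simp [wordMat]⟩
    | cons a w ih =>
      obtain ⟨u, hu, hue⟩ := ih
      refine ⟨TwistE6D4.gx hD K a.1 a.2 * u, mul_mem (TwistE6D4.gx_mem hD K a.1 a.2) hu, ?_⟩
      rw [Units.val_mul, hue, TwistE6D4.coe_gx]
      simp [wordMat]
  obtain ⟨u, hu, hue⟩ := key w
  rw [show g = u from Units.ext (e.trans hue.symm)]
  exact hu

/-- Alternating sections of the twisted groups of type ²E₆. Let `q = p^a` be a prime power and `K` a field with `q²` elements, and let `G` be the twisted group ²E₆(q) realised over `K`. If some subgroup of `G` has a quotient isomorphic to the alternating group of degree `r`, then `r ≤ 12`, and `r ≤ 11` unless the characteristic is 2, 3 or 5. (Only an upper bound is asserted; characteristic 3 is admitted among the exceptions to match the statement for the untwisted groups of type E₆, so for these twisted groups the bound may be weaker than the truth.) -/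
theorem result {K : Type*} [Field K] [Fintype K] (p a : ℕ) [Fact p.Prime] [CharP K p]
    (ha : 1 ≤ a) (hK : Fintype.card K = (p ^ a) ^ 2) (r : ℕ) (H : Subgroup ↥(Cfsg.Lie.twistedE6 K (p ^ a))) (N : Subgroup ↥H) [N.Normal]
    (h : Nonempty (↥H ⧸ N ≃* ↥(alternatingGroup (Fin r)))) :
    r ≤ 11 + (if p = 2 ∨ p = 3 ∨ p = 5 then 1 else 0) := by
  obtain ⟨e⟩ := h
  exact AltE6.e6_alt_bound p r ((Subgroup.inclusion (twisted_le (K := K) (p ^ a))).comp H.subtype)
    ((Subgroup.inclusion_injective (twisted_le (K := K) (p ^ a))).comp H.subtype_injective) (e.toMonoidHom.comp (QuotientGroup.mk' N))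
    (e.surjective.comp (QuotientGroup.mk'_surjective N))

end Cfsg.Agent.S2659
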