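import Cfsg.Statements.S2661
import Cfsg.Agent.EqLemmas
import Cfsg.Agent.Lib.AltToral.RootData
import Cfsg.Agent.Lib.Twisted.F4Facts

set_option autoImplicit false
open scoped MatrixGroups
open Cfsg

namespace Cfsg.Agent.S2661

/-- A 7-cycle of degree `r ≥ 7` and a product of two 3-cycles squaring it. -/
theorem exists_elements {r : ℕ} (hr : 7 ≤ r) : ∃ c a : ↥(alternatingGroup (Fin r)),
    orderOf c = 7 ∧ a * c * a⁻¹ ∈ Subgroup.zpowers c ∧ a ^ 16 * c * (a ^ 16)⁻¹ ≠ c := by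
  let e : Equiv.Perm (Fin 7) →* Equiv.Perm (Fin r) :=
    Equiv.Perm.viaEmbeddingHom (Fin.castLEEmb hr)
  have he : Function.Injective e := Equiv.Perm.viaEmbeddingHom_injective _
  let c₀ : Equiv.Perm (Fin 7) := finRotate 7
  let a₀ : Equiv.Perm (Fin 7) :=
    Equiv.swap 1 4 * Equiv.swap 1 2 * (Equiv.swap 3 5 * Equiv.swap 3 6)
  have hs : ∀ x, Equiv.Perm.sign x = 1 → Equiv.Perm.sign (e x) = 1 := by
    intro x hx
    show Equiv.Perm.sign (Equiv.Perm.viaEmbedding x _) = 1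
    rw [Equiv.Perm.viaEmbedding, Equiv.Perm.sign_extendDomain, hx]
  refine ⟨⟨e c₀, Equiv.Perm.mem_alternatingGroup.2 (hs _ (by decide))⟩,
    ⟨e a₀, Equiv.Perm.mem_alternatingGroup.2 (hs _ (by decide))⟩, ?_, ?_, ?_⟩
  · haveI : Fact (Nat.Prime 7) := ⟨by norm_num⟩
    rw [← Subgroup.orderOf_coe, Subtype.coe_mk, orderOf_injective e he]
    exact orderOf_eq_prime (by decide) (by decide)
  · refine ⟨((2 : ℕ) : ℤ), ?_⟩
    show _ ^ ((2 : ℕ) : ℤ) = _
    rw [zpow_natCast]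
    refine Subtype.ext ?_
    show e c₀ ^ 2 = e a₀ * e c₀ * (e a₀)⁻¹
    rw [← map_pow, ← map_inv, ← map_mul, ← map_mul]
    exact congrArg e (by decide)
  · intro h
    have h' : e a₀ ^ 16 * e c₀ * (e a₀ ^ 16)⁻¹ = e c₀ :=
      congrArg (fun t : ↥(alternatingGroup (Fin r)) => (t : Equiv.Perm (Fin r))) h
    rw [← map_pow, ← map_inv, ← map_mul, ← map_mul] at h'
    exact absurd (he h') (by decide +kernel)

/-- `|²F₄(q) : H¹|` in terms of `q`. -/
theorem index_arith (q : ℕ) (hq : 1 ≤ q) :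
    q ^ 12 * (q - 1) * (q ^ 3 + 1) * (q ^ 4 - 1) * (q ^ 6 + 1) =
      (q - 1) ^ 2 * (q ^ 12 * (q ^ 3 + 1) * (q + 1) * (q ^ 2 + 1) * (q ^ 6 + 1)) := by
  have h4 : 1 ≤ q ^ 4 := Nat.one_le_pow _ _ (by omega)
  zify [h4, hq]
  ring


/-- Alternating sections of the large Ree groups ²F₄. Let `m ≥ 1`, let `K` be a field with `2^(2m+1)` elements and let `G` be the large Ree group ²F₄(2^(2m+1)) realised over `K`. If some subgroup of `G` has a quotient isomorphic to the alternating group of degree `r`, then `r ≤ 6`. (Only an upper bound is asserted.) -/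
theorem result {K : Type*} [Field K] [Fintype K] {m : ℕ} (hm : 1 ≤ m)
    (hK : Fintype.card K = 2 ^ (2 * m + 1)) (r : ℕ) (H : Subgroup ↥(Cfsg.Lie.twistedF4 K (2 ^ m))) (N : Subgroup ↥H) [N.Normal]
    (h : Nonempty (↥H ⧸ N ≃* ↥(alternatingGroup (Fin r)))) :
    r ≤ 6 := by
  classical
  by_contra hr
  obtain ⟨c, a, hc, hac, hne⟩ := exists_elements (r := r) (by omega)
  haveI : Fact (Nat.Prime 7) := ⟨by norm_num⟩
  haveI : Fact (Nat.Prime 2) := ⟨Nat.prime_two⟩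
  haveI := Cfsg.Agent.Twisted.F4.charP_f4 hK
  set R := Cfsg.Agent.Twisted.F4.rgdF4' hK (m := m) with hR
  have hG : (Cfsg.Lie.twistedF4 K (2 ^ m)) = R.G := Cfsg.Agent.Twisted.F4.twisted_eq hK
  set q := 2 ^ (2 * m + 1) with hq
  have hqpos : 1 ≤ q := Nat.one_le_two_pow
  have hcardG : Nat.card (Cfsg.Lie.twistedF4 K (2 ^ m)) =
      (q - 1) ^ 2 * (q ^ 12 * (q ^ 3 + 1) * (q + 1) * (q ^ 2 + 1) * (q ^ 6 + 1)) := by
    rw [← index_arith q hqpos]; exact Cfsg.Agent.Twisted.F4.card_twistedF4 hK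
  -- `q` is 1, 2 or 4 mod 7
  have hq7 : q % 7 = 1 ∨ q % 7 = 2 ∨ q % 7 = 4 := by
    rw [hq]
    generalize 2 * m + 1 = n
    induction n with
    | zero => decide
    | succ n ih => rw [pow_succ, Nat.mul_mod]; rcases ih with h | h | h <;> rw [h] <;> decide
  have hrest : ¬ 7 ∣ q ^ 12 * (q ^ 3 + 1) * (q + 1) * (q ^ 2 + 1) * (q ^ 6 + 1) := by
    rw [Nat.dvd_iff_mod_eq_zero]
    rcases hq7 with h | h | h <;> simp [Nat.mul_mod, Nat.add_mod, Nat.pow_mod, h]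
  have hHle : (Cfsg.Agent.Twisted.F4.σF K m).H1 ≤ (Cfsg.Lie.twistedF4 K (2 ^ m)) := Cfsg.Agent.Twisted.F4.H1_le hK
  have hcardH : Nat.card ↥((Cfsg.Agent.Twisted.F4.σF K m).H1.subgroupOf (Cfsg.Lie.twistedF4 K (2 ^ m))) = (q - 1) ^ 2 := by
    rw [Nat.card_congr (Subgroup.subgroupOfEquivOfLe hHle).toEquiv]
    exact Cfsg.Agent.Twisted.F4.card_H1 hK
  have hidx : ¬ 7 ∣ ((Cfsg.Agent.Twisted.F4.σF K m).H1.subgroupOf (Cfsg.Lie.twistedF4 K (2 ^ m))).index := by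
    have hmul := ((Cfsg.Agent.Twisted.F4.σF K m).H1.subgroupOf (Cfsg.Lie.twistedF4 K (2 ^ m))).card_mul_index
    rw [hcardH, hcardG] at hmul
    have hpos : 0 < (q - 1) ^ 2 := hcardH ▸ Nat.card_pos
    rwa [Nat.eq_of_mul_eq_mul_left hpos hmul]
  obtain ⟨P, hP⟩ := Cfsg.Agent.AltToral.exists_sylow_le 7 _ hidx
  have hRH : R.H = (Cfsg.Agent.Twisted.F4.σF K m).H1 := rfl
  have hdiag : ∀ x ∈ R.H, x ∈ Cfsg.Lie.chevF4.diagonalSubgroup K := fun x hx => by
    rw [hRH, ← Cfsg.Agent.Twisted.F4.diag_inf hK] at hx; exact hx.1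
  obtain ⟨wh, -, hker⟩ := Cfsg.Agent.Twisted.F4.weylHom hK (m := m)
  obtain ⟨e⟩ := h
  let φ := e.toMonoidHom.comp (QuotientGroup.mk' N)
  have hφ : Function.Surjective φ := e.surjective.comp (QuotientGroup.mk'_surjective N)
  refine Cfsg.Agent.AltToral.false_of_section P ?_ (k := 16) ?_ H φ hφ c a hc hac hne
  · intro x hx y hy
    exact Subtype.ext (Cfsg.Agent.Twisted.F4.H1_comm hK
      (hdiag _ (Subgroup.mem_subgroupOf.1 (hP hx))) (hdiag _ (Subgroup.mem_subgroupOf.1 (hP hy))))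
  · intro g hg t ht
    haveI : Finite R.H := Nat.finite_of_card_ne_zero (by
      rw [hRH, Cfsg.Agent.Twisted.F4.card_H1 hK]; exact (hcardH ▸ Nat.card_pos).ne')
    refine Cfsg.Agent.AltToral.pow_conj_eq_of_rootData R (p := 2) (Cfsg.Lie.twistedF4 K (2 ^ m)) hG ?_ ?_ ?_
      (P : Subgroup (Cfsg.Lie.twistedF4 K (2 ^ m))) hP hg ht
    · exact IsPGroup.of_card (n := (2 * m + 1) * 12)
        (by rw [hR, Cfsg.Agent.Twisted.F4.card_Upos hK, pow_mul])
    · rw [hRH, Cfsg.Agent.Twisted.F4.card_H1 hK, ← hq]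
      intro h2
      have h3 := Nat.prime_two.dvd_of_dvd_pow h2
      have h4 : 2 ∣ q := dvd_pow_self 2 (by omega)
      omega
    · intro n hn x hx
      have hn16 : n ^ 16 ∈ R.H := by
        have h16 : (⟨n, hn⟩ : R.N) ^ 16 ∈ wh.ker := by
          rw [MonoidHom.mem_ker, map_pow]
          have := pow_card_eq_one' (G := DihedralGroup 8) (x := wh ⟨n, hn⟩)
          rwa [DihedralGroup.nat_card] at this
        rw [hker, Subgroup.mem_subgroupOf] at h16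
        exact h16
      rw [Cfsg.Agent.Twisted.F4.H1_comm hK (hdiag _ hn16) (hdiag _ hx), mul_inv_cancel_right]

end Cfsg.Agent.S2661
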