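import Cfsg.Statements.S2665
import Cfsg.Agent.EqLemmas
import Cfsg.Agent.Lib.Lang.Basic

set_option autoImplicit false
open scoped MatrixGroups
open Cfsg

namespace Cfsg.Agent.S2665

/-- The Lang–Steinberg Theorem for the general linear group. Let `K` be an algebraically closed field of prime characteristic `p`, let `q = p^f` with `f ≥ 1`, and let `σ` be the endomorphism of GL_n(K) raising every matrix entry to the `q`-th power. Then every element `g` of GL_n(K) can be written `g = x · σ(x)⁻¹` for some `x` in GL_n(K): the map `x ↦ x σ(x)⁻¹` is surjective. -/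
theorem result {K : Type*} [Field K] [IsAlgClosed K] (p : ℕ) [Fact p.Prime] [CharP K p]
    (f : ℕ) (hf : 1 ≤ f) (n : ℕ) (g : GL (Fin n) K) :
    ∃ x : GL (Fin n) K, g = x * (Matrix.GeneralLinearGroup.map (iterateFrobenius K p f) x)⁻¹ := by
  classical
  set τ := iterateFrobenius K p f with hτ
  let T : (Fin n → K) →ₛₗ[τ] (Fin n → K) :=
    { toFun := fun v => (g : Matrix (Fin n) (Fin n) K).mulVec (fun i => τ (v i))
      map_add' := fun v w => by
        rw [← Matrix.mulVec_add]
        congr 1
        funext i
        simp
      map_smul' := fun c v => by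
        rw [← Matrix.mulVec_smul]
        congr 1
        funext i
        simp }
  have hT : Function.Injective T := by
    intro v w h
    have h1 := Matrix.mulVec_injective_iff_isUnit.2 g.isUnit h
    funext i
    exact τ.injective (congrFun h1 i)
  obtain ⟨b, hb, hspan, hli⟩ := exists_linearIndependent K {v | T v = v}
  rw [Lang.span_fixed_eq_top p f hf T hT] at hspan
  let B : Module.Basis b K (Fin n → K) := Module.Basis.mk hli (by simp [hspan])
  have : Finite b := hli.finite
  have := Fintype.ofFinite b
  have hc : Fintype.card b = Fintype.card (Fin n) := by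
    rw [← Module.finrank_eq_card_basis B, Module.finrank_fintype_fun_eq_card]
  let B' := B.reindex (Fintype.equivOfCardEq hc)
  let M : Matrix (Fin n) (Fin n) K := (Pi.basisFun K (Fin n)).toMatrix B'
  have hM : M.det ≠ 0 := by
    have := (Pi.basisFun K (Fin n)).invertibleToMatrix B'
    exact (Matrix.isUnit_det_of_invertible _).ne_zero
  refine ⟨Matrix.GeneralLinearGroup.mkOfDetNeZero M hM, ?_⟩
  rw [eq_mul_inv_iff_mul_eq]
  apply Units.ext
  ext i j
  have hfix : T (B' j) = B' j := by
    have : B' j = ((Fintype.equivOfCardEq hc).symm j : Fin n → K) := by simp [B', B]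
    rw [this]
    exact hb ((Fintype.equivOfCardEq hc).symm j).2
  exact congrFun hfix i

end Cfsg.Agent.S2665
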