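import Cfsg.Statements.S2669
import Cfsg.Agent.EqLemmas
import Cfsg.Agent.Lib.Shintani.Basic

set_option autoImplicit false
open Cfsg

namespace Cfsg.Agent.S2669

/-- Shintani descent preserves numbers of fixed points on coset spaces (abstract form). Let `σ` be an automorphism of a group `X` and `e ≥ 1`; write `G` for the fixed points of `σᵉ` and `H` for the fixed points of `σ`, and assume `G` is finite. Let `Y` be a `σ`-stable subgroup of `X` on which the maps `a ↦ a σ(a)⁻¹` and `a ↦ a σᵉ(a)⁻¹` are surjective (as for a closed connected `σ`-stable subgroup of an algebraic group). Let `g ∈ G`, let `a ∈ X` satisfy `g = a σ(a)⁻¹` and put `x = σᵉ(a)⁻¹ a` (the Shintani image, an element of `H`). The element `g σ` of the semidirect product acts on the cosets of `Y ∩ G` in `G` by `k (Y ∩ G) ↦ g σ(k) (Y ∩ G)`, fixing that coset exactly when `k⁻¹ g σ(k) ∈ Y`; and `x` fixes the coset `h (Y ∩ H)` of `H` exactly when `h⁻¹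 x h ∈ Y`. Then the two numbers of fixed cosets agree; in cross-multiplied form, `#{k ∈ G : k⁻¹ g σ(k) ∈ Y} · |Y ∩ H| = #{h ∈ H : h⁻¹ x h ∈ Y} · |Y ∩ G|`. -/
theorem result {X : Type*} [Group X] (σ : MulAut X) (e : ℕ) (he : 1 ≤ e)
    [Finite ↥((MulEquiv.toMonoidHom (σ ^ e)).eqLocus (MonoidHom.id X))]
    (Y : Subgroup X) (hY : ∀ y : X, y ∈ Y ↔ σ y ∈ Y)
    (hYL : ∀ y ∈ Y, ∃ a ∈ Y, y = a * (σ a)⁻¹) (hYLe : ∀ y ∈ Y, ∃ a ∈ Y, y = a * ((σ ^ e) a)⁻¹)
    (g : X) (hg : g ∈ (MulEquiv.toMonoidHom (σ ^ e)).eqLocus (MonoidHom.id X)) (a : X) (ha : g = a * (σ a)⁻¹) :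
    Nat.card {k : ↥((MulEquiv.toMonoidHom (σ ^ e)).eqLocus (MonoidHom.id X)) // (k : X)⁻¹ * g * σ k ∈ Y} *
        Nat.card ↥(Y ⊓ (MulEquiv.toMonoidHom σ).eqLocus (MonoidHom.id X)) =
      Nat.card {h : ↥((MulEquiv.toMonoidHom σ).eqLocus (MonoidHom.id X)) // (h : X)⁻¹ * (((σ ^ e) a)⁻¹ * a) * h ∈ Y} *
        Nat.card ↥(Y ⊓ (MulEquiv.toMonoidHom (σ ^ e)).eqLocus (MonoidHom.id X)) := by
  classical
  subst ha
  let K := {k : ↥((MulEquiv.toMonoidHom (σ ^ e)).eqLocus (MonoidHom.id X)) //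
    (k : X)⁻¹ * (a * (σ a)⁻¹) * σ k ∈ Y}
  let T := {h : ↥((MulEquiv.toMonoidHom σ).eqLocus (MonoidHom.id X)) // (h : X)⁻¹ * (((σ ^ e) a)⁻¹ * a) * h ∈ Y}
  let P := {p : X × X // σ p.1 = p.1 ∧ p.2 ∈ Y ∧ (σ ^ e) (a * p.1 * p.2) = a * p.1 * p.2}
  -- a pair gives an element of `T`
  have pT : ∀ p : P, p.1.1⁻¹ * (((σ ^ e) a)⁻¹ * a) * p.1.1 ∈ Y := fun p => by
    obtain ⟨⟨h, u⟩, hh, hu, hk⟩ := p
    have he' : (σ ^ e) h = h := Shintani.pow_fix hh e
    rw [map_mul, map_mul, he'] at hk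
    have : h⁻¹ * (((σ ^ e) a)⁻¹ * a) * h = (σ ^ e) u * u⁻¹ := by
      have := congrArg (fun z => h⁻¹ * ((σ ^ e) a)⁻¹ * z * u⁻¹) hk
      simpa [mul_assoc] using this.symm
    show h⁻¹ * (((σ ^ e) a)⁻¹ * a) * h ∈ Y
    rw [this]
    refine Y.mul_mem ?_ (Y.inv_mem hu)
    have hpow : ∀ n : ℕ, (σ ^ n) u ∈ Y := fun n => by
      induction n with
      | zero => exact hu
      | succ n ih => rw [pow_succ', MulAut.mul_apply]; exact (hY _).1 ih
    exact hpow e
  -- a pair gives an element of `K`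
  have pK : ∀ p : P, (a * p.1.1 * p.1.2)⁻¹ * (a * (σ a)⁻¹) * σ (a * p.1.1 * p.1.2) ∈ Y := fun p => by
    obtain ⟨⟨h, u⟩, hh, hu, -⟩ := p
    have hh' : σ h = h := hh
    have : (a * h * u)⁻¹ * (a * (σ a)⁻¹) * σ (a * h * u) = u⁻¹ * σ u := by
      rw [map_mul, map_mul, hh']; simp [mul_assoc]
    show (a * h * u)⁻¹ * (a * (σ a)⁻¹) * σ (a * h * u) ∈ Y
    rw [this]
    exact Y.mul_mem (Y.inv_mem hu) ((hY u).1 hu)
  -- sections
  have sT : ∀ h : T, ∃ u, u ∈ Y ∧ (σ ^ e) (a * (h.1 : X) * u) = a * (h.1 : X) * u := fun h => by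
    obtain ⟨u, hu, hu'⟩ := hYLe _ (Y.inv_mem h.2)
    refine ⟨u, hu, ?_⟩
    rw [map_mul, map_mul, Shintani.pow_fix (Shintani.mem_fix.1 h.1.2) e]
    have := congrArg (fun z => a * (h.1 : X) * z * (σ ^ e) u) hu'
    simpa [mul_assoc] using this
  have sK : ∀ k : K, ∃ u, u ∈ Y ∧ σ (a⁻¹ * (k.1 : X) * u⁻¹) = a⁻¹ * (k.1 : X) * u⁻¹ := fun k => by
    obtain ⟨w, hw, hw'⟩ := hYL _ k.2
    refine ⟨w⁻¹, Y.inv_mem hw, ?_⟩
    rw [map_mul, map_mul, map_inv, map_inv, map_inv, inv_inv]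
    have := congrArg (fun z => a⁻¹ * (k.1 : X) * z * σ w) hw'
    simpa [mul_assoc] using this
  choose uT huT huT' using sT
  choose uK huK huK' using sK
  let toT : P → T := fun p => ⟨⟨p.1.1, p.2.1⟩, pT p⟩
  let toK : P → K := fun p => ⟨⟨a * p.1.1 * p.1.2, p.2.2.2⟩, pK p⟩
  let eT : P ≃ T × ↥(Y ⊓ (MulEquiv.toMonoidHom (σ ^ e)).eqLocus (MonoidHom.id X)) :=
    { toFun := fun p => (toT p, ⟨(uT (toT p))⁻¹ * p.1.2,
        Y.mul_mem (Y.inv_mem (huT _)) p.2.2.1, by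
          have h1 := huT' (toT p)
          have h2 := p.2.2.2
          rw [map_mul] at h1 h2
          show (σ ^ e) _ = _
          rw [map_mul, map_inv]
          have := congrArg₂ (fun y z => y⁻¹ * z) h1 h2
          simpa [toT, mul_assoc] using this⟩)
      invFun := fun z => ⟨((z.1.1 : X), uT z.1 * (z.2 : X)), z.1.1.2,
        Y.mul_mem (huT _) z.2.2.1, by
          rw [← mul_assoc, map_mul, huT' z.1, Shintani.mem_fix.1 z.2.2.2]⟩
      left_inv := fun p => Subtype.ext (Prod.ext rfl (mul_inv_cancel_left _ _))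
      right_inv := fun z => Prod.ext rfl (Subtype.ext (inv_mul_cancel_left _ _)) }
  let eK : P ≃ K × ↥(Y ⊓ (MulEquiv.toMonoidHom σ).eqLocus (MonoidHom.id X)) :=
    { toFun := fun p => (toK p, ⟨p.1.2 * (uK (toK p))⁻¹,
        Y.mul_mem p.2.2.1 (Y.inv_mem (huK _)), by
          have h1 := huK' (toK p)
          show σ _ = _
          generalize uK (toK p) = u0 at h1 ⊢
          simp only [toK] at h1
          have h2 := p.2.1
          generalize p.1.2 = v at h1 ⊢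
          generalize p.1.1 = h at h1 h2
          have e1 : v * u0⁻¹ = h⁻¹ * (a⁻¹ * (a * h * v) * u0⁻¹) := by simp [mul_assoc]
          rw [e1, map_mul, map_inv, h2, h1]
          rfl⟩)
      invFun := fun z => ⟨(a⁻¹ * (z.1.1 : X) * (uK z.1)⁻¹ * (z.2 : X)⁻¹, (z.2 : X) * uK z.1), by
          rw [map_mul, huK' z.1, map_inv, Shintani.mem_fix.1 z.2.2.2],
        Y.mul_mem z.2.2.1 (huK _), by simpa [mul_assoc] using Shintani.mem_fix.1 z.1.1.2⟩
      left_inv := fun p => by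
        apply Subtype.ext
        apply Prod.ext
        · simp [toK, mul_assoc]
        · exact inv_mul_cancel_right _ _
      right_inv := fun z => by
        have e1 : ∀ w : P, w.1 = (a⁻¹ * (z.1.1 : X) * (uK z.1)⁻¹ * (z.2 : X)⁻¹,
            (z.2 : X) * uK z.1) → toK w = z.1 := fun w hw => by
          apply Subtype.ext; apply Subtype.ext
          simp [toK, hw, mul_assoc]
        apply Prod.ext
        · exact e1 _ rfl
        · apply Subtype.ext
          simp only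
          rw [e1 _ rfl]
          simp [mul_assoc] }
  rw [← Nat.card_prod, ← Nat.card_prod, ← Nat.card_congr eK, Nat.card_congr eT]

end Cfsg.Agent.S2669
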