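import Cfsg.Statements.S2670
import Cfsg.Agent.EqLemmas
import Cfsg.Agent.Lib.PrimeClassPGL.Count

set_option autoImplicit false
open Cfsg

namespace Cfsg.Agent.S2670

/-- Number of conjugacy classes of elements of prime order r in PGL_n(q) = GL_n(q)/scalars when r divides q − 1 (n ≥ 2): the classes of elements with a diagonalisable lift correspond to the orbits of the cyclic rotation on the r-tuples of eigenvalue multiplicities (a_0, …, a_(r−1)) summing to n with every a_j < n, and when r divides n there are r − 1 further classes (lifts acting irreducibly on blocks of size r); in all (C(n+r−1, r−1) − r − [r ∣ n])/r + r·[r ∣ n] classes. -/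
theorem result {F : Type*} [Field F] [Fintype F] {q : ℕ} (hF : Fintype.card F = q) {n r : ℕ} (hn : 2 ≤ n) (hr : r.Prime) (hrq : r ∣ q - 1) : Nat.card {C : ConjClasses (GL (Fin n) F ⧸ Subgroup.center (GL (Fin n) F)) // ∃ g : GL (Fin n) F ⧸ Subgroup.center (GL (Fin n) F), ConjClasses.mk g = C ∧ orderOf g = r} = (Nat.choose (n + r - 1) (r - 1) - r - (if r ∣ n then 1 else 0)) / r + r * (if r ∣ n then 1 else 0) := by
  classical
  haveI := Fact.mk hr
  have hq : 1 < q := hF ▸ Fintype.one_lt_card
  have hrdvd : r ∣ Fintype.card Fˣ := by rw [Fintype.card_units, hF]; exact hrq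
  obtain ⟨u, hu⟩ := exists_prime_orderOf_dvd_card r hrdvd
  have hζ : IsPrimitiveRoot (u : F) r := by
    have h := IsPrimitiveRoot.orderOf (u : F)
    rwa [orderOf_units, hu] at h
  have hr0 : (r : F) ≠ 0 := by
    intro h
    obtain ⟨p, _⟩ := CharP.exists F
    haveI : Fact p.Prime := ⟨CharP.char_is_prime F p⟩
    obtain ⟨k, hpp, hk⟩ := FiniteField.card F p
    have hrp : r = p := ((Nat.prime_dvd_prime_iff_eq Fact.out hr).1 ((CharP.cast_eq_zero_iff F p r).1 h)).symm
    have hrdq : r ∣ q := by rw [← hF, hk, hrp]; exact dvd_pow_self p k.ne_zero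
    have hr1 : r ∣ 1 := by
      have h' := Nat.dvd_sub hrdq hrq
      rwa [show q - (q - 1) = 1 by omega] at h'
    exact hr.ne_one (Nat.dvd_one.1 hr1)
  exact PrimeClassPGL.card_classes hζ hn hr0

end Cfsg.Agent.S2670
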