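import Cfsg.Statements.S2671
import Cfsg.Agent.Lib.Unitary.TorsionClasses

set_option autoImplicit false
open Cfsg

namespace Cfsg.Agent.S2671

/-- Number of conjugacy classes of elements of odd prime order r in the general unitary group GU_n(q), for r not dividing q(q + 1): let i be the multiplicative order of q modulo r, b = i if i is odd and b = i/2 if i is even, and s = (r − 1)/b. If i ≢ 2 (mod 4) the eigenvalue orbits pair off into dual pairs of totally isotropic blocks and there are C(⌊n/(2b)⌋ + s/2, s/2) − 1 classes; if i ≡ 2 (mod 4) each orbit gives a non-degenerate block of dimension i/2 and there are C(⌊2n/i⌋ + s, s) − 1 classes. -/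
theorem result {K : Type*} [Field K] [Fintype K] {p q n r i b s : ℕ} [Fact p.Prime] [CharP K p] (hK : Fintype.card K = q ^ 2) (hr : r.Prime) (hr2 : r ≠ 2) (hrp : r ≠ p) (hi : i = orderOf (q : ZMod r)) (hi2 : i ≠ 2) (hb : b = if Odd i then i else i / 2) (hs : s * b = r - 1) : Nat.card {C : ConjClasses ↥(Cfsg.GU n K q) // ∃ g : ↥(Cfsg.GU n K q), ConjClasses.mk g = C ∧ orderOf g = r} = if i % 4 = 2 then Nat.choose (2 * n / i + s) s - 1 else Nat.choose (n / (2 * b) + s / 2) (s / 2) - 1 := by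
  classical
  haveI := Fact.mk hr
  have hq0 : (q : ZMod r) ≠ 0 := by
    rw [Ne, ZMod.natCast_eq_zero_iff]
    obtain ⟨s', hp, hs'⟩ := FiniteField.card K p
    intro h
    have : r ∣ p ^ (s' : ℕ) := by rw [← hs', hK]; exact dvd_pow h two_ne_zero
    exact hrp ((Nat.prime_dvd_prime_iff_eq hr hp).1 (hr.dvd_of_dvd_pow this))
  obtain ⟨c, hc⟩ : ∃ c : (ZMod r)ˣ, (c : ZMod r) = -(q : ZMod r) :=
    ⟨Units.mk0 _ (neg_ne_zero.2 hq0), rfl⟩
  have hi0 : 0 < i := hi ▸ orderOf_pos_iff.2 (isOfFinOrder_iff_pow_eq_one.2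
    ⟨r - 1, by have := hr.two_le; omega, ZMod.pow_card_sub_one_eq_one hq0⟩)
  have hneg1 : (-1 : ZMod r) ≠ 1 := by
    intro h
    have h2 : ((2 : ℕ) : ZMod r) = 0 := by push_cast; linear_combination -h
    rw [ZMod.natCast_eq_zero_iff] at h2
    exact hr2 ((Nat.prime_dvd_prime_iff_eq hr Nat.prime_two).1 h2)
  have hpow : ∀ j : ℕ, (q : ZMod r) ^ j = 1 ↔ i ∣ j := fun j => by rw [hi, orderOf_dvd_iff_pow_eq_one]
  have hord : ∀ e : ℕ, (∀ j, (-(q : ZMod r)) ^ j = 1 ↔ e ∣ j) → orderOf c = e := fun e he => by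
    refine Nat.dvd_antisymm ?_ ?_
    · rw [← orderOf_units, hc, orderOf_dvd_iff_pow_eq_one]
      exact (he e).2 dvd_rfl
    · rw [← he, ← hc, ← Units.val_pow_eq_pow_val, pow_orderOf_eq_one, Units.val_one]
  have hsq : ∀ j : ℕ, (-(q : ZMod r)) ^ j = 1 → i ∣ 2 * j := fun j hj => by
    have h2 : ((-(q : ZMod r)) ^ j) ^ 2 = 1 := by rw [hj, one_pow]
    rw [← pow_mul, mul_comm, pow_mul, neg_sq, ← pow_mul] at h2
    exact (hpow _).1 h2
  have hcard : Nat.card {C : ConjClasses ↥(Cfsg.GU n K q) //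
      ∃ g : ↥(Cfsg.GU n K q), ConjClasses.mk g = C ∧ orderOf g = r} =
      Nat.card (Cfsg.Agent.Unitary.InvExps r n (c : ZMod r)) - 1 := by
    rw [hc, ← Cfsg.Agent.Unitary.card_torsion_GU hK hrp n]
    have hset : {C : ConjClasses ↥(Cfsg.GU n K q) |
        ∃ g : ↥(Cfsg.GU n K q), ConjClasses.mk g = C ∧ orderOf g = r} =
        {C : ConjClasses ↥(Cfsg.GU n K q) |
        ∃ g : ↥(Cfsg.GU n K q), ConjClasses.mk g = C ∧ g ^ r = 1} \ {ConjClasses.mk 1} := by
      ext C
      simp only [Set.mem_ofPred_eq, Set.mem_sdiff, Set.mem_singleton_iff]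
      constructor
      · rintro ⟨g, rfl, hg⟩
        refine ⟨⟨g, rfl, by rw [← hg, pow_orderOf_eq_one]⟩, fun h => ?_⟩
        rw [ConjClasses.mk_eq_mk_iff_isConj, isConj_one_left] at h
        rw [h, orderOf_one] at hg
        exact hr.one_lt.ne hg
      · rintro ⟨⟨g, rfl, hg⟩, hne⟩
        exact ⟨g, rfl, orderOf_eq_prime hg fun h => hne (by rw [h])⟩
    show Nat.card ↥{C : ConjClasses ↥(Cfsg.GU n K q) |
        ∃ g : ↥(Cfsg.GU n K q), ConjClasses.mk g = C ∧ orderOf g = r} = _
    rw [Nat.card_coe_set_eq, hset, Set.ncard_sdiff_singleton_of_mem (show ConjClasses.mk 1 ∈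
        {C : ConjClasses ↥(Cfsg.GU n K q) |
        ∃ g : ↥(Cfsg.GU n K q), ConjClasses.mk g = C ∧ g ^ r = 1} from ⟨1, rfl, one_pow r⟩),
      ← Nat.card_coe_set_eq]
    rfl
  rw [hcard]
  by_cases h4 : i % 4 = 2
  · rw [if_pos h4]
    obtain ⟨k, hk⟩ : ∃ k, i = 2 * (2 * k + 1) := ⟨i / 4, by omega⟩
    have hbk : b = 2 * k + 1 := by
      rw [hb, if_neg (Nat.not_odd_iff_even.2 ⟨2 * k + 1, by omega⟩)]; omega
    have hq1 : (q : ZMod r) ^ (2 * k + 1) = -1 := by
      have h := (hpow (2 * (2 * k + 1))).2 (hk ▸ dvd_rfl)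
      rw [mul_comm, pow_mul, sq_eq_one_iff] at h
      refine h.resolve_left fun h1 => ?_
      have := Nat.le_of_dvd (by omega) ((hpow _).1 h1)
      omega
    have he : orderOf c = 2 * k + 1 := hord _ fun j => by
      constructor
      · intro hj
        have := hsq j hj
        rw [hk] at this
        exact Nat.dvd_of_mul_dvd_mul_left two_pos this
      · rintro ⟨t, rfl⟩
        rw [pow_mul, Odd.neg_pow ⟨k, rfl⟩, hq1, neg_neg, one_pow]
    rw [Cfsg.Agent.Unitary.card_invExps c (N := s) (by rw [he, ← hbk]; exact hs), he, hk,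
      Nat.mul_div_mul_left _ _ two_pos]
  · rw [if_neg h4]
    have he : orderOf c = 2 * b := hord _ fun j => by
      rcases Nat.even_or_odd i with hev | hodd
      · rw [hb, if_neg (Nat.not_odd_iff_even.2 hev)]
        obtain ⟨k, hk⟩ : ∃ k, i = 4 * k := ⟨i / 4, by obtain ⟨m, hm⟩ := hev; omega⟩
        rw [show 2 * (i / 2) = i by omega]
        constructor
        · intro hj
          have h2 := hsq j hj
          have he2 : Even j := by
            obtain ⟨t, ht⟩ : 2 * k ∣ j := Nat.dvd_of_mul_dvd_mul_left two_pos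
              (show 2 * (2 * k) ∣ 2 * j by rw [show 2 * (2 * k) = i by omega]; exact h2)
            exact ⟨k * t, by rw [ht]; ring⟩
          rw [he2.neg_pow] at hj
          exact (hpow j).1 hj
        · rintro ⟨t, rfl⟩
          rw [pow_mul, (show Even i from hev).neg_pow, (hpow i).2 dvd_rfl, one_pow]
      · rw [hb, if_pos hodd]
        constructor
        · intro hj
          have h2 := hsq j hj
          obtain ⟨t, rfl⟩ : i ∣ j := (Nat.coprime_two_right.2 hodd).dvd_of_dvd_mul_left h2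
          rcases Nat.even_or_odd t with ⟨u, hu⟩ | ht
          · exact ⟨u, by rw [hu]; ring⟩
          · rw [(hodd.mul ht).neg_pow, pow_mul, (hpow i).2 dvd_rfl, one_pow] at hj
            exact absurd hj hneg1
        · rintro ⟨t, rfl⟩
          rw [pow_mul, (even_two_mul i).neg_pow, (hpow _).2 (dvd_mul_left i 2), one_pow]
    have hs2 : 2 ∣ s := by
      have h1 : orderOf c ∣ r - 1 := orderOf_dvd_of_pow_eq_one (ZMod.units_pow_card_sub_one_eq_one r c)
      rw [he, ← hs, mul_comm s] at h1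
      have hb0 : b ≠ 0 := fun h => by
        rw [h, mul_zero] at he
        exact (orderOf_pos c).ne' he
      exact Nat.dvd_of_mul_dvd_mul_right (Nat.pos_of_ne_zero hb0) (by rw [mul_comm s b]; exact h1)
    rw [Cfsg.Agent.Unitary.card_invExps c (N := s / 2) (by
      rw [he, ← hs]
      calc s / 2 * (2 * b) = (s / 2 * 2) * b := by ring
        _ = s * b := by rw [Nat.div_mul_cancel hs2]), he]

end Cfsg.Agent.S2671
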