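import Cfsg.Statements.S2672
import Cfsg.Agent.Lib.Unitary.PrimePGU

set_option autoImplicit false
open Cfsg

namespace Cfsg.Agent.S2672

/-- Number of conjugacy classes of elements of odd prime order r in PGU_n(q) = GU_n(q)/scalars (n ≥ 3) when r divides q + 1: as in the linear case with q − 1 replaced by q + 1, the classes correspond to the rotation orbits on r-tuples of eigenvalue multiplicities summing to n with every entry < n, plus r − 1 further classes when r divides n; in all (C(n+r−1, r−1) − r − [r ∣ n])/r + r·[r ∣ n]. -/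
theorem result {K : Type*} [Field K] [Fintype K] {q n r : ℕ} (hK : Fintype.card K = q ^ 2) (hn : 3 ≤ n) (hr : r.Prime) (hr2 : r ≠ 2) (hrq : r ∣ q + 1) : Nat.card {C : ConjClasses (↥(Cfsg.GU n K q) ⧸ Subgroup.center ↥(Cfsg.GU n K q)) // ∃ g : ↥(Cfsg.GU n K q) ⧸ Subgroup.center ↥(Cfsg.GU n K q), ConjClasses.mk g = C ∧ orderOf g = r} = (Nat.choose (n + r - 1) (r - 1) - r - (if r ∣ n then 1 else 0)) / r + r * (if r ∣ n then 1 else 0) := by
  haveI := Fact.mk hr
  obtain ⟨a, ha, hord⟩ := Cfsg.Agent.Unitary.exists_norm_one_gen hK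
  obtain ⟨t, ht⟩ := hrq
  have ht0 : t ≠ 0 := by rintro rfl; omega
  have hζ : IsPrimitiveRoot (a ^ t) r := by
    rw [IsPrimitiveRoot.iff_orderOf, orderOf_pow' _ ht0, hord, ht, Nat.gcd_eq_right (Dvd.intro_left r rfl),
      Nat.mul_div_cancel _ (Nat.pos_of_ne_zero ht0)]
  have hr0 : (r : K) ≠ 0 := by
    intro h
    obtain ⟨p, _⟩ := CharP.exists K
    haveI : Fact p.Prime := ⟨CharP.char_is_prime K p⟩
    obtain ⟨k, -, hk⟩ := FiniteField.card K p
    have hrp : r = p := ((Nat.prime_dvd_prime_iff_eq Fact.out hr).1 ((CharP.cast_eq_zero_iff K p r).1 h)).symm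
    have hrq' : r ∣ q := hr.dvd_of_dvd_pow (show r ∣ q ^ 2 by rw [← hK, hk, hrp]; exact dvd_pow_self p k.ne_zero)
    have h1 := Nat.dvd_sub (Dvd.intro t ht.symm : r ∣ q + 1) hrq'
    rw [Nat.add_sub_cancel_left] at h1
    exact hr.ne_one (Nat.dvd_one.1 h1)
  rw [Cfsg.Agent.Unitary.card_pgu_classes hK (by omega) hr hr2 ⟨t, ht⟩ hζ hr0]
  exact Cfsg.Agent.PrimeClassPGL.card_classes hζ (by omega) hr0

end Cfsg.Agent.S2672
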