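import Cfsg.Agent.EqLemmas
import Cfsg.Agent.Lib.OrthPrime.Arith

set_option autoImplicit false
open Cfsg

namespace Cfsg.Agent.S2673

/-- Number of conjugacy classes of elements of odd prime order r ≠ p in the orthogonal group O_(2m+1)(q) of x_0² + Σ x_j y_j, q odd: with i the multiplicative order of q mod r and t = (r − 1)/i, there are C(⌊m/i⌋ + t/2, t/2) − 1 classes if i is odd (dual pairs of totally singular i-blocks) and C(⌊(2m+1)/i⌋ + t, t) − 1 if i is even (elliptic i-blocks). -/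
theorem result {F : Type*} [Field F] [Fintype F] {p q : ℕ} [Fact p.Prime] [CharP F p] (hF : Fintype.card F = q) (hq : Odd q) (m r i t : ℕ) (hr : r.Prime) (hr2 : r ≠ 2) (hrp : r ≠ p) (hi : i = orderOf (q : ZMod r)) (ht : t * i = r - 1) : Nat.card {C : ConjClasses ↥(Cfsg.isometryGroup F (Cfsg.quadFormOdd m F)) // ∃ g : ↥(Cfsg.isometryGroup F (Cfsg.quadFormOdd m F)), ConjClasses.mk g = C ∧ orderOf g = r} = if Odd i then Nat.choose (m / i + t / 2) (t / 2) - 1 else Nat.choose ((2 * m + 1) / i + t) t - 1 := by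
  classical
  subst hF
  haveI := Fact.mk hr
  haveI : Finite ↥(Cfsg.isometryGroup F (Cfsg.quadFormOdd m F)) := Subtype.finite
  have hrF : (r : F) ≠ 0 := fun h => hrp ((Nat.prime_dvd_prime_iff_eq Fact.out hr).1
    ((CharP.cast_eq_zero_iff F p r).1 h)).symm
  have h11 := OrthPrime.neg_one_ne_one_zmod (r := r) hr2
  obtain ⟨hO, hE⟩ := OrthPrime.params p hr2 hrp hi ht
  rw [OrthPrime.card_orderOf_classes hr]
  have h2 : (2 : F) ≠ 0 := fun h => by
    obtain ⟨k, hp, hk⟩ := FiniteField.card F p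
    have : p = 2 := (Nat.prime_dvd_prime_iff_eq hp Nat.prime_two).1
      ((CharP.cast_eq_zero_iff F p 2).1 (by exact_mod_cast h))
    subst this
    rw [hk, Nat.odd_pow_iff k.ne_zero] at hq
    exact absurd hq (by decide)
  obtain ⟨ζ, -, hab⟩ := Forms.exists_no_root (F := F)
  rw [OrthPrime.card_torsion_orth p hr2 hrp (Forms.qfOdd m F) (Forms.qfOdd_nondegenerate h2 m) _ (Forms.qfOdd_eq m)
    (m := m) (Or.inr (by simp; omega)) True (fun _ => trivial) (fun h => absurd trivial h) hab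
    (fun l hl hlm _ => ⟨fun _ => (OrthPrime.emb_plus_plus hlm).trans (OrthPrime.emb_plus_odd m), fun _ => by
      obtain ⟨n, rfl⟩ : ∃ n, m = n + 1 := ⟨m - 1, by omega⟩
      exact (OrthPrime.emb_minus_minus (by omega) _ _).trans (OrthPrime.emb_minus_odd h2 n _ _)⟩)
    (fun _ _ _ _ _ _ => trivial), if_pos trivial]
  by_cases hio : Odd i
  · rw [if_pos hio, (hO hio).2.1]
  · obtain ⟨-, j, rfl, -, hc, -⟩ := hE hio
    rw [if_neg hio, hc, ← Nat.div_div_eq_div_mul, show (2 * m + 1) / 2 = m by omega]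

end Cfsg.Agent.S2673
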