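import Cfsg.Agent.EqLemmas
import Cfsg.Agent.Lib.OrthPrime.Arith

set_option autoImplicit false
open Cfsg

namespace Cfsg.Agent.S2675

/-- Number of conjugacy classes of elements of odd prime order r ≠ p in the orthogonal group O⁻_2m(q) of an elliptic form Σ_(j<m−1) x_j y_j + z₁² + a z₁z₂ + c z₂² (binary part anisotropic, m ≥ 1): with i the multiplicative order of q mod r and t = (r − 1)/i — if i is odd, C(⌊m/i⌋ + t/2, t/2) − 1 minus, when i divides m, the C(m/i + t/2 − 1, t/2 − 1) tuples filling the whole space (dual pairs of totally singular blocks fill a hyperbolic space); if i is even, C(⌊2m/i⌋ + t, t) − 1 minus, when i divides 2m with even quotient, the C(2m/i + t − 1, t − 1) tuples filling the whole space with an even number of elliptic blocks. -/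
theorem result {F : Type*} [Field F] [Fintype F] {p q : ℕ} [Fact p.Prime] [CharP F p] (hF : Fintype.card F = q) (m r i t : ℕ) (hm : 1 ≤ m) (a c : F) (hac : ∀ z₁ z₂ : F, z₁ ^ 2 + a * z₁ * z₂ + c * z₂ ^ 2 = 0 → z₁ = 0 ∧ z₂ = 0) (hr : r.Prime) (hr2 : r ≠ 2) (hrp : r ≠ p) (hi : i = orderOf (q : ZMod r)) (ht : t * i = r - 1) : Nat.card {C : ConjClasses ↥(Cfsg.isometryGroup F (Cfsg.quadFormMinus (m - 1) F a c)) // ∃ g : ↥(Cfsg.isometryGroup F (Cfsg.quadFormMinus (m - 1) F a c)), ConjClasses.mk g = C ∧ orderOf g = r} = if Odd i then Nat.choose (m / i + t / 2) (t / 2) - 1 - (if i ∣ m then Nat.choose (m / i + t / 2 - 1) (t / 2 - 1) else 0) else Nat.choose (2 * m / i + t) t - 1 - (if i ∣ 2 * m ∧ Even (2 * m / i) then Nat.choose (2 * m / i + t - 1) (t - 1) else 0) := by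
  classical
  subst hF
  haveI := Fact.mk hr
  haveI : Finite ↥(Cfsg.isometryGroup F (Cfsg.quadFormMinus (m - 1) F a c)) := Subtype.finite
  have hrF : (r : F) ≠ 0 := fun h => hrp ((Nat.prime_dvd_prime_iff_eq Fact.out hr).1
    ((CharP.cast_eq_zero_iff F p r).1 h)).symm
  have h11 := OrthPrime.neg_one_ne_one_zmod (r := r) hr2
  obtain ⟨hO, hE⟩ := OrthPrime.params p hr2 hrp hi ht
  rw [OrthPrime.card_orderOf_classes hr]
  have hdisc := Forms.disc_ne_zero_of_anisotropic hac
  have hcard : Fintype.card ((Fin (m - 1) ⊕ Fin (m - 1)) ⊕ Fin 2) = 2 * m := by simp; omega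
  rw [OrthPrime.card_torsion_orth p hr2 hrp (Forms.qfMinus (m - 1) F a c) (Forms.qfMinus_nondegenerate hdisc _) _
    (Forms.qfMinus_eq _ a c) (m := m) (Or.inl hcard) ((Fintype.card F : ZMod r) ^ m = -1) (fun h => by omega)
    (fun _ => hm) hac
    (fun l hl hlm hor => ⟨fun hs => by
      rcases eq_or_lt_of_le hlm with rfl | hlt
      · have hOK := hor.resolve_left (lt_irrefl _)
        exact absurd (hOK.symm.trans hs) h11
      · exact (OrthPrime.emb_plus_minus l a c).trans (OrthPrime.emb_minus_minus (by omega) a c),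
      fun _ => OrthPrime.emb_minus_minus (by omega) a c⟩)
    (fun g hiso hg hfp hm0 _ => (OrthPrime.type_of_fixedFree hr2 hrF _ (Forms.qfMinus_nondegenerate hdisc _) hm0
      (by rw [Module.finrank_fintype_fun_eq_card, hcard]) hiso hg hfp hac).2 ⟨LinearEquiv.refl F _, fun v => rfl⟩)]
  by_cases hio : Odd i
  · obtain ⟨hu, hc, -, h1⟩ := hO hio
    rw [if_pos hio, if_neg (h1 m), hc, OrthPrime.choose_pred hm hu, Nat.sub_right_comm]
  · obtain ⟨hu, j, rfl, hj, hc, hpow⟩ := hE hio
    rw [if_neg hio, hc, hc, Nat.mul_div_mul_left _ _ two_pos]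
    simp only [Nat.mul_dvd_mul_iff_left two_pos]
    rw [OrthPrime.choose_pred hm hu]
    by_cases hd : j ∣ m
    · rw [hpow m hd]
      rcases Nat.even_or_odd (m / j) with he | ho
      · rw [he.neg_one_pow, if_neg h11.symm, if_pos hd, if_pos ⟨hd, he⟩, Nat.sub_right_comm]
      · rw [if_pos ho.neg_one_pow, if_neg fun h => Nat.not_even_iff_odd.2 ho h.2, tsub_zero]
    · simp [hd]

end Cfsg.Agent.S2675
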