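import Cfsg.Statements.S2676
import Cfsg.Statements.S2676
import Cfsg.Agent.EqLemmas
import Cfsg.Agent.Lib.Forms.UnipotentClasses
import Cfsg.Agent.Lib.GLOrder.Symplectic

set_option autoImplicit false
open Classical
open Cfsg

namespace Cfsg.Agent.S2676

open Cfsg.Agent.Forms Cfsg.Agent.Forms.UnipCent Matrix

variable {F : Type*} [Field F] {m : ℕ} {κ : Type} [Fintype κ] [DecidableEq κ] {d : κ → ℕ}

local notation "V" => Fin m ⊕ Fin m

/-- The symplectic matrix. -/
def S (F : Type*) [Field F] (m : ℕ) : Matrix (Fin m ⊕ Fin m) (Fin m ⊕ Fin m) F := -Matrix.J (Fin m) F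

theorem preserves_iff (A : Matrix V V F) :
    A ∈ Matrix.symplecticGroup (Fin m) F ↔ Aᵀ * S F m * A = S F m := by
  rw [SymplecticGroup.mem_iff', S, Matrix.mul_neg, Matrix.neg_mul, neg_inj]

/-- A basis of chains for `g`, with Gram matrix `H`. -/
structure Adapted (g : Matrix.symplecticGroup (Fin m) F) (H : GL (Ix d) F) : Prop where
  exists_basis : ∃ (P : Matrix V (Ix d) F) (Q : Matrix (Ix d) V F), P * Q = 1 ∧ Q * P = 1 ∧
    (g : Matrix V V F) * P = P * (1 + Jordan.NT F d) ∧ (H : Matrix (Ix d) (Ix d) F) = Pᵀ * S F m * P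

theorem ad_eq {ι₁ ι₂ : Type} (M : Matrix ι₁ ι₂ F) : ad (RingHom.id F) M = Mᵀ := rfl

theorem Adapted.isForm {g : Matrix.symplecticGroup (Fin m) F} {H : GL (Ix d) F} (h : Adapted g H) :
    UnipCls.IsForm d (-1 : F) H := by
  obtain ⟨P, Q, hPQ, hQP, hg, hH⟩ := h
  refine ⟨?_, ?_⟩
  · rw [ad_eq, hH, Matrix.transpose_mul, Matrix.transpose_mul, Matrix.transpose_transpose, S, Matrix.transpose_neg,
      Matrix.J_transpose, neg_neg]
    simp only [Matrix.neg_mul, Matrix.mul_neg, neg_one_smul, neg_neg, Matrix.mul_assoc]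
  · rw [ad_eq, hH]
    calc (1 + Jordan.NT F d)ᵀ * (Pᵀ * S F m * P) * (1 + Jordan.NT F d)
        = (P * (1 + Jordan.NT F d))ᵀ * S F m * (P * (1 + Jordan.NT F d)) := by
          rw [Matrix.transpose_mul]; simp only [Matrix.mul_assoc]
      _ = ((g : Matrix V V F) * P)ᵀ * S F m * ((g : Matrix V V F) * P) := by rw [hg]
      _ = Pᵀ * ((g : Matrix V V F)ᵀ * S F m * (g : Matrix V V F)) * P := by
          rw [Matrix.transpose_mul]; simp only [Matrix.mul_assoc]
      _ = _ := by rw [(preserves_iff _).mp g.2]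

theorem Adapted.conj {g : Matrix.symplecticGroup (Fin m) F} {H : GL (Ix d) F} (h : Adapted g H)
    (c : Matrix.symplecticGroup (Fin m) F) : Adapted (c * g * c⁻¹) H := by
  obtain ⟨P, Q, hPQ, hQP, hg, hH⟩ := h
  have h1 : ((c⁻¹ : Matrix.symplecticGroup (Fin m) F) : Matrix V V F) * (c : Matrix V V F) = 1 :=
    congrArg Subtype.val (inv_mul_cancel c)
  have h2 : (c : Matrix V V F) * ((c⁻¹ : Matrix.symplecticGroup (Fin m) F) : Matrix V V F) = 1 :=
    congrArg Subtype.val (mul_inv_cancel c)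
  refine ⟨(c : Matrix V V F) * P, Q * ((c⁻¹ : Matrix.symplecticGroup (Fin m) F) : Matrix V V F), ?_, ?_, ?_, ?_⟩
  · rw [Matrix.mul_assoc, ← Matrix.mul_assoc P, hPQ, Matrix.one_mul, h2]
  · rw [Matrix.mul_assoc, ← Matrix.mul_assoc _ (c : Matrix V V F), h1, Matrix.one_mul, hQP]
  · rw [Submonoid.coe_mul, Submonoid.coe_mul]
    rw [Matrix.mul_assoc _ _ ((c : Matrix V V F) * P), ← Matrix.mul_assoc _ (c : Matrix V V F) P, h1, Matrix.one_mul,
      Matrix.mul_assoc, hg, ← Matrix.mul_assoc]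
  · rw [hH, Matrix.transpose_mul]
    conv_lhs => rw [← (preserves_iff _).mp c.2]
    simp only [Matrix.mul_assoc]

theorem Adapted.unique {g : Matrix.symplecticGroup (Fin m) F} {H H' : GL (Ix d) F} (h : Adapted g H)
    (h' : Adapted g H') : ∃ a : A F d, IsUnit a ∧
      ad (RingHom.id F) a.1 * (H : Matrix (Ix d) (Ix d) F) * a.1 = (H' : Matrix (Ix d) (Ix d) F) := by
  obtain ⟨P, Q, hPQ, hQP, hg, hH⟩ := h
  obtain ⟨P', Q', hPQ', hQP', hg', hH'⟩ := h'
  have hcomm : ∀ (P₁ P₂ : Matrix V (Ix d) F) (Q₁ : Matrix (Ix d) V F), P₁ * Q₁ = 1 → Q₁ * P₁ = 1 →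
      (g : Matrix V V F) * P₁ = P₁ * (1 + Jordan.NT F d) → (g : Matrix V V F) * P₂ = P₂ * (1 + Jordan.NT F d) →
      Q₁ * P₂ ∈ A F d := by
    intro P₁ P₂ Q₁ e1 e2 e3 e4
    have h3 : Q₁ * P₂ * (1 + Jordan.NT F d) = (1 + Jordan.NT F d) * (Q₁ * P₂) :=
      calc Q₁ * P₂ * (1 + Jordan.NT F d) = Q₁ * ((g : Matrix V V F) * P₂) := by rw [e4, Matrix.mul_assoc]
        _ = Q₁ * ((g : Matrix V V F) * (P₁ * Q₁) * P₂) := by rw [e1, Matrix.mul_one]
        _ = Q₁ * (P₁ * (1 + Jordan.NT F d) * Q₁ * P₂) := by rw [← Matrix.mul_assoc _ P₁, e3]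
        _ = (Q₁ * P₁) * ((1 + Jordan.NT F d) * (Q₁ * P₂)) := by simp only [Matrix.mul_assoc]
        _ = _ := by rw [e2, Matrix.one_mul]
    rw [mem_A]
    rw [mul_add, add_mul, mul_one, one_mul, add_right_inj] at h3
    exact h3
  let a : A F d := ⟨Q * P', hcomm P P' Q hPQ hQP hg hg'⟩
  let b : A F d := ⟨Q' * P, hcomm P' P Q' hPQ' hQP' hg' hg⟩
  refine ⟨a, ?_, ?_⟩
  · refine ⟨⟨a, b, Subtype.ext ?_, Subtype.ext ?_⟩, rfl⟩
    · show Q * P' * (Q' * P) = 1
      rw [Matrix.mul_assoc, ← Matrix.mul_assoc P', hPQ', Matrix.one_mul, hQP]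
    · show Q' * P * (Q * P') = 1
      rw [Matrix.mul_assoc, ← Matrix.mul_assoc P, hPQ, Matrix.one_mul, hQP']
  · rw [ad_eq, hH, hH', show a.1 = Q * P' from rfl]
    calc (Q * P')ᵀ * (Pᵀ * S F m * P) * (Q * P') = (P * Q * P')ᵀ * S F m * (P * Q * P') := by
          simp only [Matrix.transpose_mul, Matrix.mul_assoc]
      _ = _ := by rw [hPQ, Matrix.one_mul]

theorem Adapted.isConj {g g' : Matrix.symplecticGroup (Fin m) F} {H H' : GL (Ix d) F} (h : Adapted g H)
    (h' : Adapted g' H') (a : A F d) (ha : IsUnit a)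
    (e : ad (RingHom.id F) a.1 * (H : Matrix (Ix d) (Ix d) F) * a.1 = (H' : Matrix (Ix d) (Ix d) F)) : IsConj g g' := by
  obtain ⟨P, Q, hPQ, hQP, hg, hH⟩ := h
  obtain ⟨P', Q', hPQ', hQP', hg', hH'⟩ := h'
  obtain ⟨u, rfl⟩ := ha
  set b : A F d := ((u⁻¹ : (A F d)ˣ) : A F d) with hb
  have hab : (u : A F d).1 * b.1 = 1 := congrArg Subtype.val (Units.mul_inv u)
  have hba : b.1 * (u : A F d).1 = 1 := congrArg Subtype.val (Units.inv_mul u)
  set R := P * (u : A F d).1
  set R' := b.1 * Q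
  have hRR : R * R' = 1 := by
    show P * _ * (_ * Q) = 1
    rw [Matrix.mul_assoc, ← Matrix.mul_assoc (u : A F d).1, hab, Matrix.one_mul, hPQ]
  have hR'R : R' * R = 1 := by
    show b.1 * Q * (P * _) = 1
    rw [Matrix.mul_assoc, ← Matrix.mul_assoc Q, hQP, Matrix.one_mul, hba]
  have hgR : (g : Matrix V V F) * R = R * (1 + Jordan.NT F d) := by
    show _ * (P * _) = P * _ * _
    rw [← Matrix.mul_assoc, hg, Matrix.mul_assoc, Matrix.mul_assoc, UnipCls.comm_T]
  have hR : Rᵀ * S F m * R = (H' : Matrix (Ix d) (Ix d) F) := by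
    rw [← e, ad_eq, hH, Matrix.transpose_mul]; simp only [R, Matrix.mul_assoc]
  set C := P' * R' with hC
  have hCmem : C ∈ Matrix.symplecticGroup (Fin m) F := by
    rw [preserves_iff]
    calc Cᵀ * S F m * C = R'ᵀ * (P'ᵀ * S F m * P') * R' := by simp only [hC, Matrix.transpose_mul, Matrix.mul_assoc]
      _ = R'ᵀ * (Rᵀ * S F m * R) * R' := by rw [← hH', hR]
      _ = (R * R')ᵀ * S F m * (R * R') := by simp only [Matrix.transpose_mul, Matrix.mul_assoc]
      _ = _ := by rw [hRR, Matrix.transpose_one, Matrix.one_mul, Matrix.mul_one]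
  refine isConj_iff.mpr ⟨⟨C, hCmem⟩, ?_⟩
  rw [mul_inv_eq_iff_eq_mul]
  refine Subtype.ext ?_
  show C * (g : Matrix V V F) = (g' : Matrix V V F) * C
  calc C * (g : Matrix V V F) = C * ((g : Matrix V V F) * (R * R')) := by rw [hRR, Matrix.mul_one]
    _ = P' * ((R' * R) * ((1 + Jordan.NT F d) * R')) := by
      rw [← Matrix.mul_assoc _ R, hgR, hC]; simp only [Matrix.mul_assoc]
    _ = (g' : Matrix V V F) * P' * R' := by rw [hR'R, Matrix.one_mul, hg', Matrix.mul_assoc]
    _ = _ := Matrix.mul_assoc _ _ _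

theorem Adapted.rank_eq {g : Matrix.symplecticGroup (Fin m) F} {H : GL (Ix d) F} (h : Adapted g H) (r : ℕ) :
    (((g : Matrix V V F) - 1) ^ r).rank = ∑ k, (d k - r) := by
  obtain ⟨P, Q, hPQ, hQP, hg, hH⟩ := h
  have h1 : ((g : Matrix V V F) - 1) * P = P * Jordan.NT F d := by
    rw [Matrix.sub_mul, hg, Matrix.one_mul, Matrix.mul_add, Matrix.mul_one, add_sub_cancel_left]
  have h2 : ((g : Matrix V V F) - 1) ^ r * P = P * Jordan.NT F d ^ r := by
    induction r with
    | zero => rw [pow_zero, pow_zero, Matrix.one_mul, Matrix.mul_one]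
    | succ r ih => rw [pow_succ, Matrix.mul_assoc, h1, ← Matrix.mul_assoc, ih, Matrix.mul_assoc, ← pow_succ]
  rw [← Jordan.rank_NT_pow (F := F)]
  have e1 : ((g : Matrix V V F) - 1) ^ r = P * Jordan.NT F d ^ r * Q := by rw [← h2, Matrix.mul_assoc, hPQ, Matrix.mul_one]
  have e2 : Jordan.NT F d ^ r = Q * ((g : Matrix V V F) - 1) ^ r * P := by
    rw [Matrix.mul_assoc, h2, ← Matrix.mul_assoc, hQP, Matrix.one_mul]
  refine le_antisymm ?_ ?_
  · rw [e1]; exact (Matrix.rank_mul_le_left _ _).trans (Matrix.rank_mul_le_right _ _)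
  · rw [e2]; exact (Matrix.rank_mul_le_left _ _).trans (Matrix.rank_mul_le_right _ _)

theorem exists_adapted {t : ℕ} {d : Fin t → ℕ} (hd : ∀ k, 1 ≤ d k) (g : Matrix.symplecticGroup (Fin m) F)
    (hr : ∀ r, (((g : Matrix V V F) - 1) ^ r).rank = ∑ k, (d k - r)) :
    ∃ H : GL (Ix d) F, Adapted g H := by
  obtain ⟨e, c, hc⟩ := Forms.Unip.similar_of_ranks d hd (g : Matrix V V F) hr
  set P : Matrix V (Ix d) F := (c : Matrix V V F).submatrix id e
  set Q : Matrix (Ix d) V F := ((c⁻¹ : GL V F) : Matrix V V F).submatrix e id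
  have hPQ : P * Q = 1 := by
    show (c : Matrix V V F).submatrix id e * ((c⁻¹ : GL V F) : Matrix V V F).submatrix e id = 1
    rw [Matrix.submatrix_mul_equiv, Units.mul_inv, Matrix.submatrix_id_id]
  have hQP : Q * P = 1 := by
    show ((c⁻¹ : GL V F) : Matrix V V F).submatrix e (Equiv.refl V) * (c : Matrix V V F).submatrix (Equiv.refl V) e = 1
    rw [Matrix.submatrix_mul_equiv, Units.inv_mul, Matrix.submatrix_one_equiv]
  have hgP : (g : Matrix V V F) * P = P * (1 + Jordan.NT F d) := by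
    have h := congrArg (fun X : Matrix V V F => X.submatrix id e) hc.eq.symm
    rw [Forms.Unip.jordanTypeMatrix_eq] at h
    show (g : Matrix V V F).submatrix id (Equiv.refl V) * (c : Matrix V V F).submatrix (Equiv.refl V) e = _
    rw [Matrix.submatrix_mul_equiv, h]
    have e1 : (1 + Jordan.NT F d) = (Matrix.reindex e e (1 + Jordan.NT F d)).submatrix e e := by
      ext; simp
    conv_rhs => rw [e1]
    rw [show P = (c : Matrix V V F).submatrix id e from rfl, Matrix.submatrix_mul_equiv]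
  refine ⟨⟨Pᵀ * S F m * P, Q * (Matrix.J (Fin m) F) * Qᵀ, ?_, ?_⟩, P, Q, hPQ, hQP, hgP, rfl⟩
  · calc Pᵀ * S F m * P * (Q * Matrix.J (Fin m) F * Qᵀ) = Pᵀ * (S F m * (P * Q) * Matrix.J (Fin m) F) * Qᵀ := by
          simp only [Matrix.mul_assoc]
      _ = _ := by rw [hPQ, Matrix.mul_one, S, Matrix.neg_mul, Matrix.J_squared, neg_neg, Matrix.mul_one,
          ← Matrix.transpose_mul, hQP, Matrix.transpose_one]
  · calc Q * Matrix.J (Fin m) F * Qᵀ * (Pᵀ * S F m * P) = Q * (Matrix.J (Fin m) F * (P * Q)ᵀ * S F m) * P := by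
          simp only [Matrix.transpose_mul, Matrix.mul_assoc]
      _ = _ := by rw [hPQ, Matrix.transpose_one, Matrix.mul_one, S, Matrix.mul_neg, Matrix.J_squared, neg_neg,
          Matrix.mul_one, hQP]

/-- Every form is attached to an element. -/
theorem exists_element (h2 : (2 : F) ≠ 0) (hcard : Fintype.card (Ix d) = 2 * m) (H : GL (Ix d) F) (hH : UnipCls.IsForm d (-1 : F) H) :
    ∃ g : Matrix.symplecticGroup (Fin m) F, Adapted g H := by
  let ε : V ≃ Ix d := Fintype.equivOfCardEq (by rw [hcard]; simp [two_mul])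
  set M : Matrix V V F := (H : Matrix (Ix d) (Ix d) F).submatrix ε ε with hM
  have hs : (H : Matrix (Ix d) (Ix d) F)ᵀ = -(H : Matrix (Ix d) (Ix d) F) := by
    have := hH.symm; rwa [neg_one_smul] at this
  have hJu : IsUnit (S F m) := IsUnit.of_mul_eq_one (Matrix.J (Fin m) F) (by
    rw [S, Matrix.neg_mul, Matrix.J_squared, neg_neg])
  have hMu : IsUnit M := by
    rw [hM, Matrix.isUnit_iff_isUnit_det, Matrix.det_submatrix_equiv_self, ← Matrix.isUnit_iff_isUnit_det]
    exact H.isUnit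
  obtain ⟨B, hB, hBM⟩ := UnipCls.exists_congr_alt h2 (S F m) M
    (by rw [S, Matrix.transpose_neg, Matrix.J_transpose]) (by rw [hM, Matrix.transpose_submatrix, hs, Matrix.submatrix_neg]; rfl) hJu hMu
  obtain ⟨B, rfl⟩ := hB
  set P : Matrix V (Ix d) F := (B : Matrix V V F).submatrix id ε.symm
  set Q : Matrix (Ix d) V F := ((B⁻¹ : GL V F) : Matrix V V F).submatrix ε.symm id
  have hPQ : P * Q = 1 := by
    show (B : Matrix V V F).submatrix id ε.symm * ((B⁻¹ : GL V F) : Matrix V V F).submatrix ε.symm id = 1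
    rw [Matrix.submatrix_mul_equiv, Units.mul_inv, Matrix.submatrix_id_id]
  have hQP : Q * P = 1 := by
    show ((B⁻¹ : GL V F) : Matrix V V F).submatrix ε.symm (Equiv.refl V) * (B : Matrix V V F).submatrix (Equiv.refl V) ε.symm = 1
    rw [Matrix.submatrix_mul_equiv, Units.inv_mul, Matrix.submatrix_one_equiv]
  have hP : Pᵀ * S F m * P = (H : Matrix (Ix d) (Ix d) F) := by
    have h : (((B : Matrix V V F))ᵀ * S F m * (B : Matrix V V F)).submatrix ε.symm ε.symm = (H : Matrix (Ix d) (Ix d) F) := by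
      rw [show (B : Matrix V V F)ᵀ * S F m * (B : Matrix V V F) = M from hBM, hM, Matrix.submatrix_submatrix,
        Equiv.self_comp_symm, Matrix.submatrix_id_id]
    rw [← h]
    show ((B : Matrix V V F).submatrix id ε.symm)ᵀ * S F m * (B : Matrix V V F).submatrix id ε.symm = _
    rw [Matrix.transpose_submatrix]
    show (B : Matrix V V F)ᵀ.submatrix ε.symm (Equiv.refl V) * (S F m).submatrix (Equiv.refl V) (Equiv.refl V) *
      (B : Matrix V V F).submatrix (Equiv.refl V) ε.symm = _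
    rw [Matrix.submatrix_mul_equiv, Matrix.submatrix_mul_equiv]
  refine ⟨⟨P * (1 + Jordan.NT F d) * Q, ?_⟩, P, Q, hPQ, hQP, ?_, hP.symm⟩
  · rw [preserves_iff]
    calc (P * (1 + Jordan.NT F d) * Q)ᵀ * S F m * (P * (1 + Jordan.NT F d) * Q)
        = Qᵀ * ((1 + Jordan.NT F d)ᵀ * (Pᵀ * S F m * P) * (1 + Jordan.NT F d)) * Q := by
          simp only [Matrix.transpose_mul, Matrix.mul_assoc]
      _ = Qᵀ * (Pᵀ * S F m * P) * Q := by rw [hP, ← ad_eq (1 + Jordan.NT F d), hH.pres]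
      _ = (P * Q)ᵀ * S F m * (P * Q) := by simp only [Matrix.transpose_mul, Matrix.mul_assoc]
      _ = _ := by rw [hPQ, Matrix.transpose_one, Matrix.one_mul, Matrix.mul_one]
  · show P * (1 + Jordan.NT F d) * Q * P = _
    rw [Matrix.mul_assoc, hQP, Matrix.mul_one]

/-- An enumeration of the parts. -/
theorem exists_enum (s : Multiset ℕ) : ∃ d : Fin s.card → ℕ, Finset.univ.val.map d = s := by
  refine ⟨fun i => s.toList[i.1]'(by rw [Multiset.length_toList]; exact i.2), ?_⟩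
  rw [Fin.univ_val_map]
  conv_rhs => rw [← Multiset.coe_toList s]
  congr 1
  refine List.ext_getElem (by simp) fun i h1 h2 => ?_
  simp

/-- Square class. -/
noncomputable def sqClass {n : Type} [Fintype n] [DecidableEq n] (M : Matrix n n F) : Bool := decide (IsSquare M.det)

/-- A symmetric invertible matrix of given square class. -/
theorem exists_symm_class [Finite F] (h2 : (2 : F) ≠ 0) {n : Type} [Fintype n] [DecidableEq n] [Nonempty n] (b : Bool) :
    ∃ M : Matrix n n F, Mᵀ = M ∧ IsUnit M ∧ sqClass M = b := by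
  haveI := Fintype.ofFinite F
  obtain ⟨α, hα⟩ := FiniteField.exists_nonsquare (F := F) (fun h => h2 (by
    haveI : CharP F 2 := ringChar.of_eq h
    exact CharTwo.two_eq_zero))
  obtain ⟨i⟩ := ‹Nonempty n›
  refine ⟨Matrix.diagonal (Function.update (fun _ => 1) i (if b then 1 else α)), Matrix.diagonal_transpose _, ?_, ?_⟩
  · rw [Matrix.isUnit_iff_isUnit_det, Matrix.det_diagonal, Finset.prod_update_of_mem (Finset.mem_univ i),
      Finset.prod_const_one, mul_one]
    refine isUnit_iff_ne_zero.mpr ?_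
    cases b
    · exact fun h => hα (by simp at h; subst h; exact IsSquare.zero)
    · simp
  · rw [sqClass, Matrix.det_diagonal, Finset.prod_update_of_mem (Finset.mem_univ i), Finset.prod_const_one, mul_one]
    cases b <;> simp [hα]

theorem card_torsion [Finite F] (p : ℕ) [Fact p.Prime] [CharP F p] (hp : p ≠ 2) :
    Nat.card {C : ConjClasses ↥(Matrix.symplecticGroup (Fin m) F) //
      ∃ g : Matrix.symplecticGroup (Fin m) F, ConjClasses.mk g = C ∧ ((g : Matrix V V F) - 1) ^ p = 0} =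
    ∑ μ ∈ Finset.univ.filter (fun μ : Nat.Partition (2 * m) => (∀ a ∈ μ.parts, a ≤ p) ∧ ∀ j : ℕ, Odd j → Even (μ.parts.count j)),
      2 ^ ((μ.parts.toFinset.filter (fun j : ℕ => Even j)).card) := by
  have h2 : (2 : F) ≠ 0 := fun h => hp (by
    have h1 : p ∣ 2 := (CharP.cast_eq_zero_iff F p 2).mp (by exact_mod_cast h)
    exact (Nat.prime_dvd_prime_iff_eq Fact.out Nat.prime_two).mp h1)
  set Adm := Finset.univ.filter (fun μ : Nat.Partition (2 * m) => (∀ a ∈ μ.parts, a ≤ p) ∧ ∀ j : ℕ, Odd j → Even (μ.parts.count j))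
  have hdesc : ∀ μ : Nat.Partition (2 * m), ∃ d : Fin μ.parts.card → ℕ, Finset.univ.val.map d = μ.parts :=
    fun μ => exists_enum μ.parts
  choose dd hdd using hdesc
  have hd : ∀ μ k, 1 ≤ dd μ k := fun μ k => μ.parts_pos (by
    rw [← hdd μ]; exact Multiset.mem_map_of_mem _ (Finset.mem_univ_val k))
  have himage : ∀ μ, Finset.univ.image (dd μ) = μ.parts.toFinset := fun μ => by
    rw [show Finset.univ.image (dd μ) = (Finset.univ.val.map (dd μ)).toFinset from rfl, hdd μ]
  have hsum : ∀ μ (f : ℕ → ℕ), (μ.parts.map f).sum = ∑ k, f (dd μ k) := fun μ f => by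
    conv_lhs => rw [← hdd μ, Multiset.map_map]
    rfl
  have hcardIx : ∀ μ, Fintype.card (Ix (dd μ)) = 2 * m := fun μ => by
    rw [Fintype.card_sigma]
    simp only [Fintype.card_fin]
    rw [← hsum μ fun a => a, Multiset.map_id', μ.parts_sum]
  have hfib : ∀ μ D, Fintype.card (Jordan.Fib (dd μ) D) = μ.parts.count D := fun μ D => by
    conv_rhs => rw [← hdd μ, Multiset.count_map]
    rw [Fintype.card_subtype]
    simp [Finset.card_def, eq_comm]
  -- the forms
  have hforms : ∀ μ : ↥Adm, ∀ c : {j // j ∈ μ.1.parts.toFinset.filter (fun j : ℕ => Even j)} → Bool,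
      ∃ g : Matrix.symplecticGroup (Fin m) F, ∃ H : GL (Ix (dd μ.1)) F, Adapted g H ∧
        ∀ (D : ↥(Finset.univ.image (dd μ.1))) (hD : Even (D : ℕ)),
          sqClass (G (dd μ.1) (hd μ.1) H D) = c ⟨D, Finset.mem_filter.mpr ⟨(himage μ.1) ▸ D.2, hD⟩⟩ := by
    intro μ c
    obtain ⟨hμp, hμo⟩ := (Finset.mem_filter.mp μ.2).2
    have hreal : Forms.Unip.Realizes F (-1 : F) μ.1.parts := by
      refine Forms.Unip.realizes_of_parity (by simp) (fun a => Even a ∧ 0 < a) (fun a ha => ?_) _ fun a ha hna => hμo a ?_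
      · obtain ⟨⟨l, rfl⟩, hl⟩ := ha
        have h := Forms.Unip.realizes_single_even (F := F) (l - 1)
        rwa [show 2 * (l - 1 + 1) = l + l by omega] at h
      · rw [← Nat.not_even_iff_odd]
        exact fun h => hna ⟨h, μ.1.parts_pos ha⟩
    obtain ⟨g0, hg0⟩ := Forms.Unip.exists_symplectic_of_realizes hreal μ.1.parts_sum
    obtain ⟨H0, hH0⟩ := exists_adapted (hd μ.1) g0 (fun r => by rw [hg0 r, hsum])
    have hne : ∀ D : ↥(Finset.univ.image (dd μ.1)), Nonempty (Fb (dd μ.1) D) := fun D => by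
      obtain ⟨x, -, hx⟩ := Finset.mem_image.mp D.2
      exact ⟨⟨x, hx⟩⟩
    have hG : ∀ D : ↥(Finset.univ.image (dd μ.1)), ∃ G' : Matrix (Fb (dd μ.1) D) (Fb (dd μ.1) D) F,
        IsUnit G' ∧ ad (RingHom.id F) G' = ((-1 : F) * (-1) ^ ((D : ℕ) - 1)) • G' ∧
        ∀ hD : Even (D : ℕ), sqClass G' = c ⟨D, Finset.mem_filter.mpr ⟨(himage μ.1) ▸ D.2, hD⟩⟩ := by
      intro D
      haveI := hne D
      by_cases hD : Even (D : ℕ)
      · obtain ⟨M, hM, hMu, hMc⟩ := exists_symm_class (n := Fb (dd μ.1) D) h2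
          (c ⟨D, Finset.mem_filter.mpr ⟨(himage μ.1) ▸ D.2, hD⟩⟩)
        refine ⟨M, hMu, ?_, fun _ => hMc⟩
        have h1 : 1 ≤ (D : ℕ) := by
          obtain ⟨x, -, hx⟩ := Finset.mem_image.mp D.2
          have := hd μ.1 x; omega
        rw [ad_eq, hM, ← pow_succ', Nat.sub_add_cancel h1, hD.neg_one_pow, one_smul]
      · exact ⟨G (dd μ.1) (hd μ.1) H0 D, isUnit_G _ _ _ _ hH0.isForm.pres D,
          ad_G _ _ _ _ _ hH0.isForm.symm hH0.isForm.pres D, fun h => absurd h hD⟩
    choose G' hG'u hG's hG'c using hG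
    obtain ⟨H, hH, hHG⟩ := UnipCls.exists_form (dd μ.1) (hd μ.1) (by simp) h2 hH0.isForm G' hG'u hG's
    obtain ⟨g, hg⟩ := exists_element h2 (hcardIx μ.1) H hH
    exact ⟨g, H, hg, fun D hD => by rw [hHG D]; exact hG'c D hD⟩
  choose gg HH hgg hHH using hforms
  have hpow : ∀ (μ : ↥Adm) c, ((gg μ c : Matrix V V F) - 1) ^ p = 0 := by
    intro μ c
    obtain ⟨P, Q, hPQ, hQP, hg, -⟩ := hgg μ c
    have h1 : ((gg μ c : Matrix V V F) - 1) * P = P * Jordan.NT F (dd μ.1) := by
      rw [Matrix.sub_mul, hg, Matrix.one_mul, Matrix.mul_add, Matrix.mul_one, add_sub_cancel_left]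
    have h3 : ∀ r, ((gg μ c : Matrix V V F) - 1) ^ r * P = P * Jordan.NT F (dd μ.1) ^ r := by
      intro r
      induction r with
      | zero => rw [pow_zero, pow_zero, Matrix.one_mul, Matrix.mul_one]
      | succ r ih => rw [pow_succ, Matrix.mul_assoc, h1, ← Matrix.mul_assoc, ih, Matrix.mul_assoc, ← pow_succ]
    have h4 : Jordan.NT F (dd μ.1) ^ p = 0 := (Jordan.NT_pow_eq_zero_iff (dd μ.1) p).mpr fun k =>
      ((Finset.mem_filter.mp μ.2).2.1) _ (by rw [← hdd μ.1]; exact Multiset.mem_map_of_mem _ (Finset.mem_univ_val k))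
    have h5 := congrArg (· * Q) (h3 p)
    simpa only [Matrix.mul_assoc, hPQ, Matrix.mul_one, h4, Matrix.mul_zero, Matrix.zero_mul] using h5
  let Φ : (Σ μ : ↥Adm, {j // j ∈ μ.1.parts.toFinset.filter (fun j : ℕ => Even j)} → Bool) →
      {C : ConjClasses ↥(Matrix.symplecticGroup (Fin m) F) //
        ∃ g : Matrix.symplecticGroup (Fin m) F, ConjClasses.mk g = C ∧ ((g : Matrix V V F) - 1) ^ p = 0} :=
    fun x => ⟨ConjClasses.mk (gg x.1 x.2), gg x.1 x.2, rfl, hpow x.1 x.2⟩
  have hinj : Function.Injective Φ := by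
    rintro ⟨μ, c⟩ ⟨ν, c'⟩ h
    obtain ⟨k, hk⟩ := isConj_iff.mp (ConjClasses.mk_eq_mk_iff_isConj.mp (congrArg Subtype.val h))
    have h1 : Adapted (gg ν c') (HH μ c) := hk ▸ (hgg μ c).conj k
    have hμν : μ = ν := by
      refine Subtype.ext (Nat.Partition.ext ?_)
      rw [← hdd μ.1, ← hdd ν.1]
      refine Jordan.parts_eq_of_rank (F := F) (dd μ.1) (dd ν.1) (hd _) (hd _) fun r => ?_
      rw [Jordan.rank_NT_pow, Jordan.rank_NT_pow, ← h1.rank_eq r, ← (hgg ν c').rank_eq r]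
    subst hμν
    obtain ⟨a, -, ha⟩ := h1.unique (hgg μ c')
    refine congrArg (Sigma.mk μ) (funext fun j => ?_)
    obtain ⟨hj1, hj2⟩ := Finset.mem_filter.mp j.2
    let D : ↥(Finset.univ.image (dd μ.1)) := ⟨j.1, (himage μ.1).symm ▸ hj1⟩
    have e1 := hHH μ c D hj2
    have e2 := hHH μ c' D hj2
    have hB : ad (RingHom.id F) (π (dd μ.1) (hd μ.1) a D) * G (dd μ.1) (hd μ.1) (HH μ c) D * π (dd μ.1) (hd μ.1) a D =
        G (dd μ.1) (hd μ.1) (HH μ c') D := by
      rw [← topBlock_sandwich _ _ _ _ (hgg μ c).isForm.pres D a a, G, ha]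
    have hsq : sqClass (G (dd μ.1) (hd μ.1) (HH μ c) D) = sqClass (G (dd μ.1) (hd μ.1) (HH μ c') D) := by
      rw [← hB, sqClass, sqClass, decide_eq_decide, Matrix.det_mul, Matrix.det_mul, ad_eq, Matrix.det_transpose]
      set b := (π (dd μ.1) (hd μ.1) a D).det with hb
      have hb0 : b ≠ 0 := fun h0 => by
        have := congrArg Matrix.det hB
        rw [Matrix.det_mul, ← hb, h0, mul_zero] at this
        exact ((Matrix.isUnit_iff_isUnit_det _).mp (isUnit_G _ _ _ _ (hgg μ c').isForm.pres D)).ne_zero this.symm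
      constructor
      · rintro ⟨s, hs⟩; exact ⟨b * s, by rw [hs]; ring⟩
      · rintro ⟨s, hs⟩; exact ⟨s / b, by field_simp; linear_combination hs⟩
    rw [e1, e2] at hsq
    exact hsq
  have hsurj : Function.Surjective Φ := by
    rintro ⟨C, g, rfl, hg⟩
    -- the type of `g`
    let σ := Fintype.equivFin (Fin m ⊕ Fin m)
    let N := Matrix.reindexAlgEquiv F F σ ((g : Matrix V V F) - 1)
    obtain ⟨t, d0, e0, P0, hd0, hP0⟩ := Jordan.exists_type N ⟨p, by rw [← map_pow, hg, map_zero]⟩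
    have hrank : ∀ r, (((g : Matrix V V F) - 1) ^ r).rank = ∑ k, (d0 k - r) := fun r => by
      have h1 : SemiconjBy (P0 : Matrix _ _ F) (Matrix.reindex e0 e0 (Jordan.NT F d0)) N := hP0.symm
      have hdet : IsUnit (P0 : Matrix (Fin (Fintype.card (Fin m ⊕ Fin m))) (Fin (Fintype.card (Fin m ⊕ Fin m))) F).det := (Matrix.isUnit_iff_isUnit_det _).1 P0.isUnit
      have h3 : (N ^ r).rank = (((g : Matrix V V F) - 1) ^ r).rank := by
        rw [← map_pow, Matrix.reindexAlgEquiv_apply, Matrix.rank_reindex]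
      rw [← h3, ← Matrix.rank_mul_eq_left_of_isUnit_det _ (N ^ r) hdet, ← (h1.pow_right r).eq,
        Matrix.rank_mul_eq_right_of_isUnit_det _ _ hdet, ← Matrix.reindexAlgEquiv_apply F F, ← map_pow,
        Matrix.reindexAlgEquiv_apply, Matrix.rank_reindex, Jordan.rank_NT_pow]
    let μ0 : Nat.Partition (2 * m) :=
      { parts := Finset.univ.val.map d0
        parts_pos := fun {a} ha => by
          obtain ⟨k, -, rfl⟩ := Multiset.mem_map.mp ha
          exact hd0 k
        parts_sum := by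
          have h := Fintype.card_congr e0
          simp only [Fintype.card_sigma, Fintype.card_fin] at h
          rw [Fintype.card_sum, Fintype.card_fin] at h
          rw [two_mul]
          exact h }
    have hranks : ∀ r, (((g : Matrix V V F) - 1) ^ r).rank = ∑ k, (dd μ0 k - r) := fun r => by
      rw [hrank r, ← hsum μ0 fun a => a - r]
      show _ = ((Finset.univ.val.map d0).map _).sum
      rw [Multiset.map_map]; rfl
    obtain ⟨H, hH⟩ := exists_adapted (hd μ0) g hranks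
    have hμ0 : μ0 ∈ Adm := by
      refine Finset.mem_filter.mpr ⟨Finset.mem_univ _, fun a ha => ?_, fun j hj => ?_⟩
      · by_contra hlt
        obtain ⟨k, -, hk⟩ := Multiset.mem_map.mp ((hdd μ0).symm ▸ ha)
        have h := hranks p
        rw [hg, Matrix.rank_zero] at h
        have := Finset.sum_eq_zero_iff.mp h.symm k (Finset.mem_univ k)
        omega
      · rw [← hfib]
        by_cases hjm : j ∈ Finset.univ.image (dd μ0)
        · have h1 := ad_G (dd μ0) (hd μ0) (RingHom.id F) (-1 : F) H hH.isForm.symm hH.isForm.pres ⟨j, hjm⟩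
          have h1' : (-1 : F) * (-1) ^ (j - 1) = -1 := by
            rw [Nat.Odd.sub_odd hj odd_one |>.neg_one_pow, mul_one]
          rw [ad_eq, show (((⟨j, hjm⟩ : ↥(Finset.univ.image (dd μ0))) : ℕ)) = j from rfl, h1', neg_one_smul] at h1
          have hu := (Matrix.isUnit_iff_isUnit_det _).mp (isUnit_G (dd μ0) (hd μ0) (RingHom.id F) H hH.isForm.pres ⟨j, hjm⟩)
          have h3 := congrArg Matrix.det h1
          rw [Matrix.det_transpose, Matrix.det_neg] at h3
          by_contra hodd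
          rw [Nat.not_even_iff_odd] at hodd
          rw [hodd.neg_one_pow] at h3
          refine hu.ne_zero ((mul_eq_zero.mp ?_).resolve_left h2)
          linear_combination h3
        · rw [Fintype.card_eq_zero_iff.mpr ⟨fun x => hjm (Finset.mem_image.mpr ⟨x.1, Finset.mem_univ _, x.2⟩)⟩]
          exact Even.zero
    let c : {j // j ∈ μ0.parts.toFinset.filter (fun j : ℕ => Even j)} → Bool := fun j =>
      sqClass (G (dd μ0) (hd μ0) H ⟨j.1, (himage μ0).symm ▸ (Finset.mem_filter.mp j.2).1⟩)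
    refine ⟨⟨⟨μ0, hμ0⟩, c⟩, Subtype.ext (ConjClasses.mk_eq_mk_iff_isConj.mpr ?_)⟩
    have hg' := hgg ⟨μ0, hμ0⟩ c
    obtain ⟨y, hy, hyH⟩ := UnipCls.exists_congr (dd μ0) (hd μ0) (ε := (-1 : F)) (by simp) h2 hg'.isForm hH.isForm (fun D => by
      have hu1 := isUnit_G (dd μ0) (hd μ0) (RingHom.id F) _ hg'.isForm.pres D
      have hu2 := isUnit_G (dd μ0) (hd μ0) (RingHom.id F) _ hH.isForm.pres D
      have hs1 := ad_G (dd μ0) (hd μ0) (RingHom.id F) (-1 : F) _ hg'.isForm.symm hg'.isForm.pres D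
      have hs2 := ad_G (dd μ0) (hd μ0) (RingHom.id F) (-1 : F) _ hH.isForm.symm hH.isForm.pres D
      have h1 : 1 ≤ (D : ℕ) := by
        obtain ⟨x, -, hx⟩ := Finset.mem_image.mp D.2
        have := hd μ0 x; omega
      rw [ad_eq, ← pow_succ', Nat.sub_add_cancel h1] at hs1 hs2
      by_cases hD : Even (D : ℕ)
      · rw [hD.neg_one_pow, one_smul] at hs1 hs2
        haveI : Nonempty (Fb (dd μ0) D) := by
          obtain ⟨x, -, hx⟩ := Finset.mem_image.mp D.2
          exact ⟨⟨x, hx⟩⟩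
        refine UnipCls.exists_congr_symm h2 _ _ hs1 hs2 hu1 hu2 ?_
        have h3 := hHH ⟨μ0, hμ0⟩ c D hD
        exact decide_eq_decide.mp h3
      · rw [Nat.not_even_iff_odd] at hD
        rw [hD.neg_one_pow, neg_one_smul] at hs1 hs2
        exact UnipCls.exists_congr_alt h2 _ _ hs1 hs2 hu1 hu2)
    exact hg'.isConj hH y hy hyH
  rw [← Nat.card_congr (Equiv.ofBijective Φ ⟨hinj, hsurj⟩), Nat.card_eq_fintype_card, Fintype.card_sigma]
  simp only [Fintype.card_fun, Fintype.card_bool, Fintype.card_coe]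
  exact Finset.sum_coe_sort Adm fun μ => 2 ^ ((μ.parts.toFinset.filter (fun j : ℕ => Even j)).card)

/-- Number of conjugacy classes of elements of order p in Sp_2m(q), q a power of the odd prime p: the classes correspond to the signed partitions of 2m — partitions with all parts at most p in which every odd part has even multiplicity, each even part size that occurs carrying a sign — other than the all-ones partition; so the count is the sum over such partitions of 2^(number of distinct even parts), minus one. -/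
theorem result {F : Type*} [Field F] [Fintype F] {p : ℕ} [Fact p.Prime] [CharP F p] (hp : p ≠ 2) (m : ℕ) : Nat.card {C : ConjClasses ↥(Matrix.symplecticGroup (Fin m) F) // ∃ g : Matrix.symplecticGroup (Fin m) F, ConjClasses.mk g = C ∧ orderOf g = p} = (∑ μ ∈ Finset.univ.filter (fun μ : Nat.Partition (2 * m) => (∀ a ∈ μ.parts, a ≤ p) ∧ ∀ j : ℕ, Odd j → Even (μ.parts.count j)), 2 ^ ((μ.parts.toFinset.filter (fun j : ℕ => Even j)).card)) - 1 := by
  classical
  rcases Nat.eq_zero_or_pos m with rfl | hm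
  · have h1 : ∀ g : Matrix.symplecticGroup (Fin 0) F, orderOf g ≠ p := fun g h => by
      rw [show g = 1 from Subtype.ext (Subsingleton.elim _ _), orderOf_one] at h
      exact (Fact.out : p.Prime).ne_one h.symm
    haveI : IsEmpty {C : ConjClasses ↥(Matrix.symplecticGroup (Fin 0) F) // ∃ g : Matrix.symplecticGroup (Fin 0) F, ConjClasses.mk g = C ∧ orderOf g = p} :=
      ⟨fun ⟨_, g, _, h⟩ => h1 g h⟩
    rw [Nat.card_of_isEmpty]
    have h2 := card_torsion (F := F) (m := 0) p hp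
    have h3 : Subsingleton {C : ConjClasses ↥(Matrix.symplecticGroup (Fin 0) F) //
        ∃ g : Matrix.symplecticGroup (Fin 0) F, ConjClasses.mk g = C ∧ ((g : Matrix (Fin 0 ⊕ Fin 0) (Fin 0 ⊕ Fin 0) F) - 1) ^ p = 0} :=
      ⟨fun ⟨a, g, hg, _⟩ ⟨b, g', hg', _⟩ => Subtype.ext (by
        show a = b
        rw [← hg, ← hg', show g = g' from Subtype.ext (Subsingleton.elim _ _)])⟩
    have h4 := Finite.card_le_one_iff_subsingleton.mpr h3
    omega
  haveI : Nonempty (Fin m ⊕ Fin m) := ⟨.inl ⟨0, hm⟩⟩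
  have hiff : ∀ g : Matrix.symplecticGroup (Fin m) F, g ^ p = 1 ↔
      ((g : Matrix (Fin m ⊕ Fin m) (Fin m ⊕ Fin m) F) - 1) ^ p = 0 := by
    intro g
    haveI : ExpChar (Matrix (Fin m ⊕ Fin m) (Fin m ⊕ Fin m) F) p := ExpChar.prime Fact.out
    rw [sub_pow_expChar_of_commute p (Commute.one_right _), one_pow, sub_eq_zero, ← SubmonoidClass.coe_pow]
    exact ⟨fun h => by rw [h]; rfl, fun h => Subtype.ext h⟩
  let A : Set (ConjClasses ↥(Matrix.symplecticGroup (Fin m) F)) := {C | ∃ g : Matrix.symplecticGroup (Fin m) F,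
    ConjClasses.mk g = C ∧ ((g : Matrix (Fin m ⊕ Fin m) (Fin m ⊕ Fin m) F) - 1) ^ p = 0}
  have hset : {C : ConjClasses ↥(Matrix.symplecticGroup (Fin m) F) | ∃ g : Matrix.symplecticGroup (Fin m) F,
      ConjClasses.mk g = C ∧ orderOf g = p} = A \ {1} := by
    ext C
    constructor
    · rintro ⟨g, rfl, hg⟩
      refine ⟨⟨g, rfl, (hiff g).mp (by rw [← hg]; exact pow_orderOf_eq_one g)⟩, fun h1 => ?_⟩
      rw [Set.mem_singleton_iff, ConjClasses.one_eq_mk_one, ConjClasses.mk_eq_mk_iff_isConj, isConj_one_left] at h1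
      rw [h1, orderOf_one] at hg
      exact (Fact.out : p.Prime).ne_one hg.symm
    · rintro ⟨⟨g, rfl, hg⟩, hne⟩
      exact ⟨g, rfl, orderOf_eq_prime ((hiff g).mpr hg) fun h1 => hne (by rw [h1]; rfl)⟩
  have h1 : (1 : ConjClasses ↥(Matrix.symplecticGroup (Fin m) F)) ∈ A :=
    ⟨1, rfl, (hiff 1).mp (one_pow p)⟩
  show Nat.card ({C : ConjClasses ↥(Matrix.symplecticGroup (Fin m) F) | ∃ g : Matrix.symplecticGroup (Fin m) F,
      ConjClasses.mk g = C ∧ orderOf g = p} : Set _) = _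
  rw [hset, Nat.card_coe_set_eq, Set.ncard_sdiff_singleton_of_mem h1, ← Nat.card_coe_set_eq]
  congr 1
  exact card_torsion p hp

end Cfsg.Agent.S2676
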