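import Cfsg.Statements.S2677
import Cfsg.Agent.EqLemmas
import Cfsg.Agent.Lib.Unitary.Count

set_option autoImplicit false
open Cfsg Cfsg.Agent

namespace Cfsg.Agent.S2677

open Matrix

theorem mem_iff_entries {F : Type*} [Field F] [Fintype F] {q n : ℕ} (hF : Fintype.card F = q ^ 2)
    (M : Matrix (Fin n) (Fin n) F) :
    Unitary.IsUnitary q M ↔ ∀ i j, ∑ k, M k i * (M k j) ^ q = if i = j then 1 else 0 := by
  rw [Unitary.isUnitary_iff_orthonormal hF]
  constructor
  · intro h i j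
    by_cases hij : i = j
    · subst hij
      rw [if_pos rfl]
      exact h.1 i
    · rw [if_neg hij]
      exact h.2 hij
  · intro h
    exact ⟨fun i => (h i i).trans (if_pos rfl), fun i j hij => (h i j).trans (if_neg hij)⟩

theorem card_GU_int {F : Type*} [Field F] [Fintype F] {q : ℕ} (hF : Fintype.card F = q ^ 2) (n : ℕ) :
    (Nat.card (Cfsg.GU n F q) : ℤ) =
      (q : ℤ) ^ (n * (n - 1) / 2) * ∏ i : Fin n, ((q : ℤ) ^ ((i : ℕ) + 1) - (-1) ^ ((i : ℕ) + 1)) := by
  have hq : 1 ≤ q := (Unitary.two_le_q hF).trans' one_le_two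
  rw [Unitary.card_GU hF, Nat.cast_mul, Nat.cast_pow, Nat.cast_prod, Finset.prod_range]
  congr 1
  refine Finset.prod_congr rfl fun i _ => ?_
  by_cases he : Even (i : ℕ)
  · rw [if_pos he, (he.add_one).neg_one_pow]
    push_cast
    ring
  · rw [if_neg he, (Nat.even_add_one.2 he).neg_one_pow, Nat.cast_sub (Nat.one_le_pow _ _ hq)]
    push_cast
    ring

theorem pow_q0_iterate {F : Type*} [Field F] {q₀ : ℕ} {x : F} (hx : x ^ q₀ ^ 2 = x) :
    ∀ {r : ℕ}, Odd r → x ^ q₀ ^ r = x ^ q₀ := by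
  have h2 : ∀ k, x ^ q₀ ^ (2 * k) = x := fun k => by
    induction k with
    | zero => simp
    | succ k ih => rw [Nat.mul_succ, pow_add, pow_mul, ih, hx]
  rintro r ⟨k, rfl⟩
  rw [pow_add, pow_mul x, h2, pow_one]

/-- Centraliser of a field automorphism of odd prime order in PGU_n(q): let q = q₀^r with r an odd prime, K the field with q² elements and σ a field automorphism of K of order r (fixed field of order q₀²). The elements g of GU_n(q) whose entrywise image under σ is a scalar multiple of g — those whose coset modulo the q + 1 unitary scalars is fixed by σ — number (q + 1)/(q₀ + 1) · |GU_n(q₀)|; equivalently the centraliser in PGU_n(q) of the induced automorphism has the order of PGU_n(q₀). -/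
theorem result {K : Type*} [Field K] [Fintype K] {q₀ q r n : ℕ} (hr : r.Prime) (hr2 : r ≠ 2) (hn : 1 ≤ n) (hq : q = q₀ ^ r) (hK : Fintype.card K = q ^ 2) (σ : K ≃+* K) (hσ : orderOf σ = r) : (Nat.card {g : ↥(Cfsg.GU n K q) // ∃ c : K, c ≠ 0 ∧ ((g : GL (Fin n) K) : Matrix (Fin n) (Fin n) K).map σ = c • ((g : GL (Fin n) K) : Matrix (Fin n) (Fin n) K)} : ℤ) = ((q + 1) / (q₀ + 1) : ℕ) * ((q₀ : ℤ) ^ (n * (n - 1) / 2) * ∏ i : Fin n, ((q₀ : ℤ) ^ ((i : ℕ) + 1) - (-1) ^ ((i : ℕ) + 1))) := by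
  classical
  subst hq
  have hrodd : Odd r := hr.odd_of_ne_two hr2
  let F₀ := FixedPoints.subfield (Subgroup.zpowers σ) K
  have hmem : ∀ x : K, x ∈ F₀ ↔ σ x = x := by
    intro x
    constructor
    · exact fun h => h ⟨σ, Subgroup.mem_zpowers σ⟩
    · rintro h ⟨τ, hτ⟩
      have hle : Subgroup.zpowers σ ≤ MulAction.stabilizer (RingAut K) x :=
        Subgroup.zpowers_le.2 h
      exact hle hτ
  have := Fintype.ofFinite F₀
  have hF₀ : Fintype.card F₀ = q₀ ^ 2 := by
    have h1 : Module.finrank F₀ K = r := by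
      have : Finite (RingAut K) := Finite.of_injective (fun τ : K ≃+* K => (τ : K → K)) DFunLike.coe_injective
      have := Fintype.ofFinite (Subgroup.zpowers σ)
      rw [FixedPoints.finrank_eq_card (Subgroup.zpowers σ) K, ← Nat.card_eq_fintype_card,
        Nat.card_zpowers, hσ]
    have h2 : Fintype.card K = Fintype.card F₀ ^ r := by
      rw [Module.card_eq_pow_finrank (K := F₀) (V := K), h1]
    rw [hK, ← pow_mul, mul_comm, pow_mul] at h2
    exact Nat.pow_left_injective hr.ne_zero h2.symm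
  have hpow : ∀ x : K, σ x = x → x ^ q₀ ^ r = x ^ q₀ := fun x hx => by
    refine pow_q0_iterate ?_ hrodd
    have h := congrArg Subtype.val (FiniteField.pow_card (⟨x, (hmem x).2 hx⟩ : F₀))
    rw [hF₀] at h
    simpa using h
  have hq0 : 1 ≤ q₀ := (Unitary.two_le_q hF₀).trans' one_le_two
  set S := {g : ↥(Cfsg.GU n K (q₀ ^ r)) // ∃ c : K, c ≠ 0 ∧
    ((g : GL (Fin n) K) : Matrix (Fin n) (Fin n) K).map σ =
      c • ((g : GL (Fin n) K) : Matrix (Fin n) (Fin n) K)}
  let D := {d : Kˣ // d ^ (q₀ ^ r + 1) = 1}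
  let D₀ := {d : F₀ˣ // d ^ (q₀ + 1) = 1}
  let H := ↥(Cfsg.GU n F₀ q₀)
  -- every scalar multiple of an element over the fixed field is in the set
  have hunit : ∀ (d : D) (h : H), Unitary.IsUnitary (q₀ ^ r) ((d.1 : K) •
      (((h : GL (Fin n) F₀) : Matrix (Fin n) (Fin n) F₀).map (fun x : F₀ => (x : K)))) := by
    intro d h
    rw [mem_iff_entries hK]
    intro i j
    have hh := congrArg Subtype.val
      ((mem_iff_entries hF₀ ((h : GL (Fin n) F₀) : Matrix (Fin n) (Fin n) F₀)).1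
        (fun u v => (h : ↥(Cfsg.GU n F₀ q₀)).2 u v) i j)
    have hd : (d.1 : K) * (d.1 : K) ^ (q₀ ^ r) = 1 := by
      rw [← pow_succ', ← Units.val_pow_eq_pow_val, d.2, Units.val_one]
    have e : ((if i = j then (1 : F₀) else 0 : F₀) : K) = if i = j then 1 else 0 := by
      split_ifs <;> rfl
    rw [e] at hh
    push_cast at hh
    rw [← hh]
    refine Finset.sum_congr rfl fun k _ => ?_
    have hx := hpow _ ((hmem _).1 (((h : GL (Fin n) F₀) : Matrix (Fin n) (Fin n) F₀) k j).2)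
    simp only [Matrix.smul_apply, Matrix.map_apply, smul_eq_mul, mul_pow]
    rw [hx]
    linear_combination ((((h : GL (Fin n) F₀) : Matrix (Fin n) (Fin n) F₀) k i : K) *
      (((h : GL (Fin n) F₀) : Matrix (Fin n) (Fin n) F₀) k j : K) ^ q₀) * hd
  have hset : ∀ (d : D) (h : H), ∃ c : K, c ≠ 0 ∧
      ((d.1 : K) • (((h : GL (Fin n) F₀) : Matrix (Fin n) (Fin n) F₀).map (fun x : F₀ => (x : K)))).map σ =
        c • ((d.1 : K) • (((h : GL (Fin n) F₀) : Matrix (Fin n) (Fin n) F₀).map (fun x : F₀ => (x : K)))) := by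
    intro d h
    refine ⟨σ (d.1 : K) / d.1, div_ne_zero (by simp) d.1.ne_zero, ?_⟩
    ext i j
    simp only [Matrix.map_apply, Matrix.smul_apply, smul_eq_mul, map_mul]
    rw [(hmem _).1 (((h : GL (Fin n) F₀) : Matrix (Fin n) (Fin n) F₀) i j).2]
    have := d.1.ne_zero
    field_simp
  let ψ : D × H → S := fun p => ⟨Unitary.guOfUnitary hK _ (hunit p.1 p.2), hset p.1 p.2⟩
  have hψ : ∀ (p : D × H) (i j), (((ψ p).1 : GL (Fin n) K) : Matrix (Fin n) (Fin n) K) i j =
      (p.1.1 : K) * ((((p.2 : GL (Fin n) F₀) : Matrix (Fin n) (Fin n) F₀) i j : F₀) : K) := fun p i j => rfl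
  have hsurj : Function.Surjective ψ := by
    rintro ⟨g, c, hc, hg⟩
    obtain ⟨i₀, j₀, hd⟩ : ∃ i j, ((g : GL (Fin n) K) : Matrix (Fin n) (Fin n) K) i j ≠ 0 := by
      by_contra h
      push Not at h
      have : Nonempty (Fin n) := ⟨⟨0, hn⟩⟩
      exact (g : GL (Fin n) K).isUnit.ne_zero (Matrix.ext h)
    set A := ((g : GL (Fin n) K) : Matrix (Fin n) (Fin n) K)
    set d := A i₀ j₀
    have hA : ∀ i j, σ (A i j) = c * A i j := fun i j => congrFun (congrFun hg i) j
    have hA0 : ∀ i j, σ (A i j / d) = A i j / d := fun i j => by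
      rw [map_div₀, hA, hA, mul_div_mul_left _ _ hc]
    -- the norm of `d` is a nonzero element of the fixed field
    have hgU := (mem_iff_entries hK A).1 (fun u v => g.2 u v)
    have hlam : σ (d * d ^ (q₀ ^ r)) = d * d ^ (q₀ ^ r) := by
      have h1 := hgU ⟨0, hn⟩ ⟨0, hn⟩
      rw [if_pos rfl] at h1
      have h2 := congrArg σ h1
      simp only [map_sum, map_mul, map_pow, map_one, hA, mul_pow] at h2
      have hc1 : c * c ^ (q₀ ^ r) = 1 := by
        refine Eq.trans ?_ h2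
        rw [← mul_one (c * c ^ (q₀ ^ r)), ← h1, Finset.mul_sum]
        exact Finset.sum_congr rfl fun k _ => by ring
      rw [map_mul, map_pow, hA, mul_pow]
      linear_combination (d * d ^ (q₀ ^ r)) * hc1
    have hlam' : σ (d * d ^ (q₀ ^ r))⁻¹ = (d * d ^ (q₀ ^ r))⁻¹ := by rw [map_inv₀, hlam]
    obtain ⟨e, he⟩ := Unitary.exists_norm_eq hF₀
      (c := (⟨(d * d ^ (q₀ ^ r))⁻¹, (hmem _).2 hlam'⟩ : F₀)) (by
        apply Subtype.ext
        push_cast
        rw [← hpow _ hlam', inv_pow, mul_pow, Unitary.pow_q_pow_q hK, mul_comm])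
    have he' : (e : K) ^ (q₀ + 1) = (d * d ^ (q₀ ^ r))⁻¹ := by
      have := congrArg Subtype.val he
      simpa using this
    have hefix : σ (e : K) = e := (hmem _).1 e.2
    have he0 : (e : K) ≠ 0 := by
      intro h0
      rw [h0, zero_pow (Nat.succ_ne_zero _)] at he'
      exact inv_ne_zero (mul_ne_zero hd (pow_ne_zero _ hd)) he'.symm
    have hnorm : (d * e) * (d * e) ^ (q₀ ^ r) = 1 := by
      have h3 : (e : K) * (e : K) ^ (q₀ ^ r) = (d * d ^ (q₀ ^ r))⁻¹ := by
        rw [hpow _ hefix, ← pow_succ', he']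
      rw [mul_pow, mul_mul_mul_comm, h3, mul_inv_cancel₀ (mul_ne_zero hd (pow_ne_zero _ hd))]
    let D' : D := ⟨Units.mk0 (d * e) (mul_ne_zero hd he0), Units.ext (by
      rw [Units.val_pow_eq_pow_val, Units.val_mk0, pow_succ', hnorm, Units.val_one])⟩
    let M : Matrix (Fin n) (Fin n) F₀ := Matrix.of fun i j =>
      ⟨A i j / (d * e), (hmem _).2 (by rw [← div_div, map_div₀, hA0, hefix])⟩
    have hM : Unitary.IsUnitary q₀ M := by
      rw [mem_iff_entries hF₀]
      intro i j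
      apply Subtype.ext
      have e1 : ((if i = j then (1 : F₀) else 0 : F₀) : K) = if i = j then 1 else 0 := by
        split_ifs <;> rfl
      rw [e1, ← hgU i j]
      push_cast
      refine Finset.sum_congr rfl fun k _ => ?_
      have hx := hpow (A k j / (d * e)) ((hmem _).1 (M k j).2)
      show A k i / (d * e) * (A k j / (d * e)) ^ q₀ = _
      rw [← hx, div_pow, div_mul_div_comm, hnorm, div_one]
    refine ⟨(D', Unitary.guOfUnitary hF₀ M hM), Subtype.ext (Subtype.ext (Units.ext ?_))⟩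
    ext i j
    rw [hψ]
    show (d * e) * (A i j / (d * e)) = A i j
    exact mul_div_cancel₀ _ (mul_ne_zero hd he0)
  have hn1 : ∀ d : D, (d.1 : K) * (d.1 : K) ^ (q₀ ^ r) = 1 := fun d => by
    rw [← pow_succ', ← Units.val_pow_eq_pow_val, d.2, Units.val_one]
  have hfib : ∀ s : S, Nat.card {p : D × H // ψ p = s} = q₀ + 1 := by
    intro s
    obtain ⟨⟨d₁, h₁⟩, rfl⟩ := hsurj s
    have hD₀ : Nat.card D₀ = q₀ + 1 := Unitary.card_units_ker_pow hF₀ (Unitary.q_succ_dvd q₀)
    rw [← hD₀]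
    have hscal : ∀ t : D₀, Unitary.IsUnitary q₀
        (((t.1 : F₀))⁻¹ • ((h₁ : GL (Fin n) F₀) : Matrix (Fin n) (Fin n) F₀)) := fun t => by
      rw [mem_iff_entries hF₀]
      intro i j
      rw [← (mem_iff_entries hF₀ ((h₁ : GL (Fin n) F₀) : Matrix (Fin n) (Fin n) F₀)).1
        (fun u v => (h₁ : ↥(Cfsg.GU n F₀ q₀)).2 u v) i j]
      refine Finset.sum_congr rfl fun k _ => ?_
      have ht : (t.1 : F₀) * (t.1 : F₀) ^ q₀ = 1 := by
        rw [← pow_succ', ← Units.val_pow_eq_pow_val, t.2, Units.val_one]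
      simp only [Matrix.smul_apply, smul_eq_mul, mul_pow, inv_pow]
      rw [mul_mul_mul_comm, ← mul_inv, ht, inv_one, one_mul]
    have hd1 : ∀ t : D₀, (Units.map (F₀.subtype : F₀ →* K) t.1 * d₁.1) ^ (q₀ ^ r + 1) = 1 := fun t => by
      rw [mul_pow, d₁.2, mul_one]
      apply Units.ext
      have hfix := (hmem _).1 (t.1 : F₀).2
      have := congrArg (fun u : F₀ˣ => ((u : F₀) : K)) t.2
      simp only [Units.val_pow_eq_pow_val, Units.val_one] at this
      push_cast at this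
      show ((t.1 : F₀) : K) ^ (q₀ ^ r + 1) = 1
      rw [pow_succ', hpow _ hfix, ← pow_succ', this]
    refine (Nat.card_congr (Equiv.ofBijective (fun t : D₀ => (⟨(⟨_, hd1 t⟩,
      Unitary.guOfUnitary hF₀ _ (hscal t)), ?_⟩ : {p : D × H // ψ p = ψ (d₁, h₁)})) ⟨?_, ?_⟩)).symm
    · apply Subtype.ext; apply Subtype.ext; apply Units.ext
      ext i j
      rw [hψ, hψ]
      have : ((t.1 : F₀) : K) ≠ 0 := fun h0 => t.1.ne_zero (Subtype.ext h0)
      show ((t.1 : F₀) : K) * (d₁.1 : K) * ((((t.1 : F₀))⁻¹ : F₀) * _ : F₀) = _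
      push_cast
      field_simp
    · intro t t' htt
      have h := congrArg (fun p : {p : D × H // ψ p = ψ (d₁, h₁)} => (p.1.1.1 : K)) htt
      have h' : ((t.1 : F₀) : K) * (d₁.1 : K) = ((t'.1 : F₀) : K) * (d₁.1 : K) := h
      exact Subtype.ext (Units.ext (Subtype.ext (mul_right_cancel₀ d₁.1.ne_zero h')))
    · rintro ⟨⟨d₂, h₂⟩, hp⟩
      have hij : ∀ i j, (d₂.1 : K) * ((((h₂ : GL (Fin n) F₀) : Matrix (Fin n) (Fin n) F₀) i j : F₀) : K) =
          (d₁.1 : K) * ((((h₁ : GL (Fin n) F₀) : Matrix (Fin n) (Fin n) F₀) i j : F₀) : K) := fun i j => by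
        rw [← hψ (d₂, h₂), ← hψ (d₁, h₁), hp]
      obtain ⟨i₀, j₀, h0⟩ : ∃ i j, ((h₂ : GL (Fin n) F₀) : Matrix (Fin n) (Fin n) F₀) i j ≠ 0 := by
        by_contra h
        push Not at h
        have : Nonempty (Fin n) := ⟨⟨0, hn⟩⟩
        exact (h₂ : GL (Fin n) F₀).isUnit.ne_zero (Matrix.ext h)
      set x := ((h₂ : GL (Fin n) F₀) : Matrix (Fin n) (Fin n) F₀) i₀ j₀
      set y := ((h₁ : GL (Fin n) F₀) : Matrix (Fin n) (Fin n) F₀) i₀ j₀
      have hxK : (x : K) ≠ 0 := fun h => h0 (Subtype.ext h)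
      have hu : (d₂.1 : K) = ((y / x : F₀) : K) * (d₁.1 : K) := by
        push_cast
        field_simp
        linear_combination hij i₀ j₀
      have hu0 : y / x ≠ 0 := fun h => d₂.1.ne_zero (by rw [hu, h]; simp)
      have ht : Units.mk0 _ hu0 ^ (q₀ + 1) = (1 : F₀ˣ) := by
        apply Units.ext; apply Subtype.ext
        rw [Units.val_pow_eq_pow_val, Units.val_mk0, Units.val_one]
        push_cast
        have h2 := hn1 d₂
        rw [hu, mul_pow, mul_mul_mul_comm, hn1 d₁, mul_one,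
          hpow _ ((hmem _).1 (y / x : F₀).2), ← pow_succ'] at h2
        push_cast at h2
        exact h2
      refine ⟨⟨_, ht⟩, Subtype.ext (Prod.ext (Subtype.ext (Units.ext hu.symm)) ?_)⟩
      apply Subtype.ext; apply Units.ext
      ext i j
      show (((y / x)⁻¹ * ((h₁ : GL (Fin n) F₀) : Matrix (Fin n) (Fin n) F₀) i j : F₀) : K) = _
      have hy0 : ((y / x : F₀) : K) ≠ 0 := fun h => hu0 (Subtype.ext h)
      have hprod := hij i j
      rw [hu] at hprod
      push_cast at hprod hy0 ⊢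
      rw [inv_mul_eq_iff_eq_mul₀ hy0]
      refine mul_left_cancel₀ d₁.1.ne_zero ?_
      linear_combination -hprod
  have hcard : Nat.card S * (q₀ + 1) = (q₀ ^ r + 1) * Nat.card H := by
    have hD : Nat.card D = q₀ ^ r + 1 := Unitary.card_units_ker_pow hK (Unitary.q_succ_dvd _)
    have hF : Finite (D × H) := inferInstance
    have := Fintype.ofFinite S
    rw [← hD, ← Nat.card_prod, ← Nat.card_congr (Equiv.sigmaFiberEquiv ψ), Nat.card_sigma,
      Finset.sum_congr rfl fun s _ => hfib s, Finset.sum_const, Finset.card_univ,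
      Nat.card_eq_fintype_card, smul_eq_mul]
  obtain ⟨k, hk⟩ : q₀ + 1 ∣ q₀ ^ r + 1 := by
    have := hrodd.nat_add_dvd_pow_add_pow q₀ 1
    simpa using this
  rw [hk, mul_assoc, mul_comm (Nat.card S)] at hcard
  rw [Nat.eq_of_mul_eq_mul_left (Nat.succ_pos q₀) hcard, Nat.cast_mul, card_GU_int hF₀ n, hk,
    Nat.mul_div_cancel_left k (Nat.succ_pos q₀)]

end Cfsg.Agent.S2677
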