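import Cfsg.Statements.S2678
import Cfsg.Agent.EqLemmas
import Cfsg.Agent.Lib.Restrict.Basic

set_option autoImplicit false
open Cfsg

namespace Cfsg.Agent.S2678

/-- Field-extension embedding of symplectic groups: for a field K with q² elements and a field F with q elements there is an injective homomorphism Sp_2a(K) → Sp_4a(F). -/
theorem result {K F : Type*} [Field K] [Fintype K] [Field F] [Fintype F] {q : ℕ} (hK : Fintype.card K = q ^ 2) (hF : Fintype.card F = q) (a : ℕ) : ∃ φ : ↥(Matrix.symplecticGroup (Fin a) K) →* ↥(Matrix.symplecticGroup (Fin (2 * a)) F), Function.Injective φ := by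
  classical
  obtain ⟨_, h2⟩ := Restrict.exists_algebra hK hF
  let b : Module.Basis (Fin 2) F K := Module.finBasisOfFinrankEq F K h2
  set lam : K →ₗ[F] F := b.coord 0 with hlam
  let B : LinearMap.BilinForm F K := (LinearMap.mul F K).compr₂ lam
  have hB : B.Nondegenerate := by
    have hne : ∀ x : K, x ≠ 0 → lam (x * (b 0 / x)) = 1 := fun x hx => by
      rw [mul_div_cancel₀ _ hx]
      simp [hlam]
    constructor
    · intro x hx
      by_contra h
      have h' : lam (x * (b 0 / x)) = 0 := hx (b 0 / x)
      rw [hne x h] at h'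
      exact one_ne_zero h'
    · intro x hx
      by_contra h
      have h' : lam (b 0 / x * x) = 0 := hx (b 0 / x)
      rw [mul_comm, hne x h] at h'
      exact one_ne_zero h'
  let b' : Module.Basis (Fin 2) F K := B.dualBasis hB b
  have hbb : ∀ i j, lam (b' i * b j) = if j = i then 1 else 0 := fun i j =>
    LinearMap.BilinForm.apply_dualBasis_left hB b i j
  have key : ∀ x y : K, lam (x * y) = ∑ k, b.equivFun x k * b'.equivFun y k := by
    intro x y
    conv_lhs => rw [← b.sum_equivFun x, ← b'.sum_equivFun y]
    simp only [Finset.sum_mul, Finset.mul_sum, map_sum, smul_mul_smul_comm, map_smul, smul_eq_mul]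
    refine Finset.sum_congr rfl fun i _ => ?_
    rw [Finset.sum_eq_single i]
    · rw [mul_comm (b i), hbb, if_pos rfl, mul_one]
    · intro j _ hj
      rw [mul_comm (b j), hbb, if_neg hj, mul_zero]
    · simp
  let e : Fin a × Fin 2 ≃ Fin (2 * a) :=
    finProdFinEquiv.trans (finCongr (mul_comm a 2))
  let L : (Fin a ⊕ Fin a → K) ≃ₗ[F] (Fin (2 * a) ⊕ Fin (2 * a) → F) :=
    { toFun := fun v => Sum.elim (fun k => b.equivFun (v (Sum.inl (e.symm k).1)) (e.symm k).2)
        (fun k => b'.equivFun (v (Sum.inr (e.symm k).1)) (e.symm k).2)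
      invFun := fun w => Sum.elim (fun i => b.equivFun.symm fun k => w (Sum.inl (e (i, k))))
        (fun i => b'.equivFun.symm fun k => w (Sum.inr (e (i, k))))
      map_add' := fun u v => by funext x; cases x <;> simp
      map_smul' := fun c v => by funext x; cases x <;> simp
      left_inv := fun v => by
        funext x
        cases x
        · apply b.equivFun.injective
          simp [LinearEquiv.apply_symm_apply]
        · apply b'.equivFun.injective
          simp [LinearEquiv.apply_symm_apply]
      right_inv := fun w => by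
        funext x
        cases x <;>
          simp only [Sum.elim_inl, Sum.elim_inr, LinearEquiv.apply_symm_apply, Prod.eta,
            Equiv.apply_symm_apply] }
  have hdot : ∀ u v : Fin a ⊕ Fin a → K,
      L u ⬝ᵥ (Matrix.J (Fin (2 * a)) F).mulVec (L v) =
        lam (u ⬝ᵥ (Matrix.J (Fin a) K).mulVec v) := by
    intro u v
    simp only [dotProduct, Fintype.sum_sum_type, map_add, map_sum, Matrix.J, Matrix.fromBlocks_mulVec,
      Sum.elim_inl, Sum.elim_inr, Matrix.zero_mulVec, Matrix.neg_mulVec, Matrix.one_mulVec, zero_add,
      add_zero, Function.comp_apply, Pi.neg_apply, mul_neg, map_neg, Finset.sum_neg_distrib]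
    congr 1
    · congr 1
      simp only [key]
      rw [← e.sum_comp, Fintype.sum_prod_type]
      simp [L]
    · simp only [mul_comm (u (Sum.inr _)), key]
      rw [← e.sum_comp, Fintype.sum_prod_type]
      simp [L, mul_comm]
  refine Restrict.exists_symplectic_hom (Submonoid.subtype _)
    Subtype.val_injective L fun g u v => ?_
  rw [hdot, hdot]
  congr 1
  have hg := SymplecticGroup.mem_iff'.1 g.2
  rw [Submonoid.subtype_apply, Matrix.dotProduct_mulVec, Matrix.dotProduct_mulVec,
    ← Matrix.vecMul_transpose, Matrix.vecMul_vecMul, Matrix.vecMul_vecMul, ← mul_assoc, hg,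
    ← Matrix.dotProduct_mulVec]

end Cfsg.Agent.S2678
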