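import Cfsg.Statements.S2679
import Cfsg.Agent.EqLemmas
import Cfsg.Agent.Lib.Restrict.Norm

set_option autoImplicit false
open Cfsg

namespace Cfsg.Agent.S2679

/-- A quadratic map vanishing on a basis and on pairwise sums of it is zero. -/
theorem quadraticMap_eq_zero_of_pi {R : Type*} [CommRing R] {ι : Type} [Fintype ι] [DecidableEq ι]
    (Q : QuadraticMap R (ι → R) R) (h1 : ∀ i, Q (Pi.single i 1) = 0)
    (h2 : ∀ i j, Q (Pi.single i 1 + Pi.single j 1) = 0) : Q = 0 := by
  have hpol : QuadraticMap.polarBilin Q = 0 := by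
    refine (Pi.basisFun R ι).ext fun i => (Pi.basisFun R ι).ext fun j => ?_
    simp [QuadraticMap.polar, h1, h2]
  ext v
  rw [← Finset.univ_sum_single v]
  have hadd : ∀ x y, Q (x + y) = Q x + Q y := fun x y => by
    have := LinearMap.congr_fun (LinearMap.congr_fun hpol x) y
    simp [QuadraticMap.polar] at this
    linear_combination this
  have : ∀ s : Finset ι, Q (∑ i ∈ s, Pi.single i (v i)) = 0 := by
    intro s
    induction s using Finset.induction with
    | empty => simp
    | insert i s hi ih =>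
      rw [Finset.sum_insert hi, hadd, ih, add_zero,
        show (Pi.single i (v i) : ι → R) = v i • Pi.single i 1 by rw [← Pi.single_smul]; simp,
        QuadraticMap.map_smul, h1, smul_zero]
  exact this Finset.univ

/-- The form `quadFormMinus` as a quadratic map. -/
noncomputable def qfMinus (k : ℕ) {R : Type*} [Field R] (a c : R) :
    QuadraticMap R ((Fin k ⊕ Fin k) ⊕ Fin 2 → R) R :=
  (∑ i : Fin k, QuadraticMap.proj (Sum.inl (Sum.inl i)) (Sum.inl (Sum.inr i)))
    + QuadraticMap.proj (Sum.inr 0) (Sum.inr 0)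
    + a • QuadraticMap.proj (Sum.inr 0) (Sum.inr 1)
    + c • QuadraticMap.proj (Sum.inr 1) (Sum.inr 1)

theorem qfMinus_apply (k : ℕ) {R : Type*} [Field R] (a c : R) (v : (Fin k ⊕ Fin k) ⊕ Fin 2 → R) :
    qfMinus k a c v = Cfsg.quadFormMinus k R a c v := by
  simp [qfMinus, Cfsg.quadFormMinus, QuadraticMap.sum_apply]
  ring

theorem quadFormMinus_map_invariant {R S : Type*} [Field R] [Field S] (f : R →+* S) {k : ℕ} (a c : R)
    (A : Matrix ((Fin k ⊕ Fin k) ⊕ Fin 2) ((Fin k ⊕ Fin k) ⊕ Fin 2) R)
    (hA : ∀ u, Cfsg.quadFormMinus k R a c (A.mulVec u) = Cfsg.quadFormMinus k R a c u)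
    (v : (Fin k ⊕ Fin k) ⊕ Fin 2 → S) :
    Cfsg.quadFormMinus k S (f a) (f c) ((A.map f).mulVec v) =
      Cfsg.quadFormMinus k S (f a) (f c) v := by
  have hQ : ∀ u : (Fin k ⊕ Fin k) ⊕ Fin 2 → R,
      Cfsg.quadFormMinus k S (f a) (f c) (fun i => f (u i)) = f (Cfsg.quadFormMinus k R a c u) := by
    intro u
    simp [Cfsg.quadFormMinus, map_sum]
  have hz : ∀ u : (Fin k ⊕ Fin k) ⊕ Fin 2 → R,
      ((qfMinus k (f a) (f c)).comp (A.map f).mulVecLin - qfMinus k (f a) (f c)) (fun i => f (u i)) = 0 := by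
    intro u
    have hmv : (A.map f).mulVec (fun i => f (u i)) = fun i => f (A.mulVec u i) :=
      funext fun i => (f.map_mulVec A u i).symm
    rw [QuadraticMap.sub_apply, QuadraticMap.comp_apply, Matrix.mulVecLin_apply, qfMinus_apply,
      qfMinus_apply, hmv, hQ, hQ, hA, sub_self]
  have h0 := quadraticMap_eq_zero_of_pi
    ((qfMinus k (f a) (f c)).comp (A.map f).mulVecLin - qfMinus k (f a) (f c))
    (fun i => by
      convert hz (Pi.single i 1) using 2
      funext j
      simp [Pi.single_apply, apply_ite f])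
    (fun i j => by
      convert hz (Pi.single i 1 + Pi.single j 1) using 2
      funext l
      simp [Pi.single_apply, apply_ite f])
  have := congrArg (fun Q : QuadraticMap S _ S => Q v) h0
  simpa [qfMinus_apply, sub_eq_zero] using this

/-- An elliptic orthogonal group embeds in the hyperbolic orthogonal group of the same dimension over the quadratic extension: for a field F with q elements and a field K with q² elements there is an injective homomorphism from O⁻_2m(F) (isometries of Σ_(j<m−1) x_j y_j + z₁² + a z₁z₂ + c z₂², binary part anisotropic) to O⁺_2m(K) (isometries of Σ_(j<m) x_j y_j over K). -/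
theorem result {F K : Type*} [Field F] [Fintype F] [Field K] [Fintype K] {q : ℕ} (hF : Fintype.card F = q) (hK : Fintype.card K = q ^ 2) {m : ℕ} (hm : 1 ≤ m) (a c : F) (hac : ∀ z₁ z₂ : F, z₁ ^ 2 + a * z₁ * z₂ + c * z₂ ^ 2 = 0 → z₁ = 0 ∧ z₂ = 0) : ∃ φ : ↥(Cfsg.isometryGroup F (Cfsg.quadFormMinus (m - 1) F a c)) →* ↥(Cfsg.isometryGroup K (Cfsg.quadFormPlus m K)), Function.Injective φ := by
  classical
  obtain ⟨_, h2⟩ := Restrict.exists_algebra hK hF
  obtain ⟨θ, hsum, hprod, hnr⟩ := Restrict.exists_conj_root (K := K) h2 hF a c hac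
  obtain ⟨k, rfl⟩ : ∃ k, m = k + 1 := ⟨m - 1, by omega⟩
  have hd : θ - θ ^ q ≠ 0 := fun h =>
    hnr (Restrict.mem_range_of_pow_eq hF (sub_eq_zero.1 h).symm)
  let L : ((Fin k ⊕ Fin k) ⊕ Fin 2 → K) ≃ₗ[K] (Fin (k + 1) ⊕ Fin (k + 1) → K) :=
    { toFun := fun v => Sum.elim
        (Fin.snoc (fun i => v (Sum.inl (Sum.inl i))) (v (Sum.inr 0) - θ * v (Sum.inr 1)))
        (Fin.snoc (fun i => v (Sum.inl (Sum.inr i))) (v (Sum.inr 0) - θ ^ q * v (Sum.inr 1)))
      invFun := fun w => Sum.elim
        (Sum.elim (fun i => w (Sum.inl i.castSucc)) (fun i => w (Sum.inr i.castSucc)))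
        ![(θ * w (Sum.inr (Fin.last k)) - θ ^ q * w (Sum.inl (Fin.last k))) / (θ - θ ^ q),
          (w (Sum.inr (Fin.last k)) - w (Sum.inl (Fin.last k))) / (θ - θ ^ q)]
      map_add' := fun u v => by
        funext x
        rcases x with i | i <;> induction i using Fin.lastCases <;> simp <;> ring
      map_smul' := fun t v => by
        funext x
        rcases x with i | i <;> induction i using Fin.lastCases <;> simp <;> ring
      left_inv := fun v => by
        funext x
        rcases x with (i | i) | i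
        · simp
        · simp
        · fin_cases i <;> simp <;> field_simp <;> ring
      right_inv := fun w => by
        funext x
        rcases x with i | i <;> induction i using Fin.lastCases <;> simp <;> field_simp <;> ring }
  let Q : ((Fin k ⊕ Fin k) ⊕ Fin 2 → K) → K :=
    Cfsg.quadFormMinus k K (algebraMap F K a) (algebraMap F K c)
  have hLQ : ∀ v, Cfsg.quadFormPlus (k + 1) K (L v) = Q v := by
    intro v
    unfold Cfsg.quadFormPlus
    simp only [Q, Cfsg.quadFormMinus]
    rw [Fin.sum_univ_castSucc]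
    simp [L]
    linear_combination (-(v (Sum.inr 0) * v (Sum.inr 1))) * hsum + (v (Sum.inr 1)) ^ 2 * hprod
  let G := Cfsg.isometryGroup F (Cfsg.quadFormMinus k F a c)
  let M : G →* Matrix ((Fin k ⊕ Fin k) ⊕ Fin 2) ((Fin k ⊕ Fin k) ⊕ Fin 2) K :=
    (algebraMap F K).mapMatrix.toMonoidHom.comp
      ((Units.coeHom (Matrix _ _ F)).comp G.subtype)
  have hM : Function.Injective M := by
    intro g g' h
    apply Subtype.ext
    apply Units.ext
    exact Matrix.map_injective (algebraMap F K).injective h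
  refine Restrict.exists_isometry_hom (K := K) (F := K) M hM L _ fun g v => ?_
  rw [hLQ, hLQ]
  exact quadFormMinus_map_invariant (algebraMap F K) a c _ (fun u => g.2 u u) v

end Cfsg.Agent.S2679
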