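import Cfsg.Statements.S2680
import Cfsg.Agent.EqLemmas
import Cfsg.Agent.Lib.InvCentralizer.Symplectic

set_option autoImplicit false
open Cfsg

namespace Cfsg.Agent.S2680

/-- Centraliser order of an involution t of Sp_2m(q), q even, with s = rank(t − 1) odd (type b_s): |C(t)| = q^(2ms − (3s² − s)/2) · |Sp_(s−1)(q)| · |Sp_(2m−2s)(q)|, where |Sp_2k(q)| = q^(k²) Π_(i=1)^k (q^(2i) − 1). -/
theorem result {F : Type*} [Field F] [Fintype F] [CharP F 2] {q : ℕ} (hF : Fintype.card F = q) {m s : ℕ} (t : Matrix.symplecticGroup (Fin m) F) (ht : t ^ 2 = 1) (hs : ((t : Matrix (Fin m ⊕ Fin m) (Fin m ⊕ Fin m) F) - 1).rank = s) (hodd : Odd s) : Nat.card ↥(Subgroup.centralizer ({t} : Set ↥(Matrix.symplecticGroup (Fin m) F))) = q ^ (2 * m * s - (3 * s ^ 2 - s) / 2) * ((q : ℕ) ^ (((s - 1) / 2) ^ 2) * ∏ i : Fin ((s - 1) / 2), (q ^ (2 * ((i : ℕ) + 1)) - 1)) * ((q : ℕ) ^ ((m - s) ^ 2) * ∏ i : Fin (m - s), (q ^ (2 * ((i : ℕ) + 1)) -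 1)) := by
  obtain ⟨k, rfl, B, hB, hBd, hz, hc⟩ := InvCentralizer.card_centralizer_sp t ht hs
  rw [hc, Nat.card_eq_fintype_card (α := F), hF]
  rw [show s + k - s = k by omega]
  have hch : (s + 1).choose 2 * 2 = s ^ 2 + s := by
    rw [Nat.choose_two_right, Nat.div_mul_cancel (Nat.even_mul_pred_self (s + 1)).two_dvd]
    simp only [Nat.add_sub_cancel]; ring
  have hm : 2 * (s + k) * s = 2 * k * s + 2 * s ^ 2 := by ring
  have hle : s ≤ s ^ 2 := Nat.le_self_pow (by norm_num) s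
  have hne : ∃ i, B i i ≠ 0 := by
    by_contra! hall
    obtain ⟨j, hj, -⟩ := InvCentralizer.card_iso_alt hB hBd hall
    rw [Fintype.card_fin] at hj
    exact Nat.not_even_iff_odd.2 hodd ⟨j, by omega⟩
  rcases InvCentralizer.card_iso_nonalt hB hBd hne with ⟨j, hj, hjc⟩ | ⟨j, hj, -⟩
  · rw [Fintype.card_fin] at hj
    rw [hjc, Nat.card_eq_fintype_card (α := F), hF, show (s - 1) / 2 = j by omega,
      show 2 * (s + k) * s - (3 * s ^ 2 - s) / 2 = 2 * k * s + (s + 1).choose 2 by omega,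
      InvCentralizer.spOrder, InvCentralizer.spOrder]
    ring
  · rw [Fintype.card_fin] at hj
    exact absurd hodd (Nat.not_odd_iff_even.2 ⟨j + 1, by omega⟩)

end Cfsg.Agent.S2680
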