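import Cfsg.Statements.S2683
import Cfsg.Agent.EqLemmas
import Cfsg.Agent.Lib.InvCentralizer.Orthogonal

set_option autoImplicit false
open Cfsg

namespace Cfsg.Agent.S2683

/-- For the hyperbolic form Σ x_j y_j on F^(2m) over a finite field with q elements, q even (excluding m = 2 over the field of two elements), and an involution x of the orthogonal group with s = rank(x − 1) odd (type b_s; such x lie outside Ω): the elements of Ω (the commutator subgroup of the orthogonal group) commuting with x number q^(2m(s−1) − (3s² − 3s)/2) · |Sp_(s−1)(q)| · |Sp_(2m−2s)(q)|, where |Sp_2k(q)| = q^(k²) Π_(i=1)^k (q^(2i) − 1). -/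
theorem result {F : Type*} [Field F] [Fintype F] [CharP F 2] {q : ℕ} (hF : Fintype.card F = q) {m s : ℕ} (h : Fintype.card F ≠ 2 ∨ m ≠ 2) (x : ↥(Cfsg.isometryGroup F (Cfsg.quadFormPlus m F))) (hx : x ^ 2 = 1) (hs : (((x : Matrix.GeneralLinearGroup (Fin m ⊕ Fin m) F) : Matrix (Fin m ⊕ Fin m) (Fin m ⊕ Fin m) F) - 1).rank = s) (hodd : Odd s) : Nat.card {g : ↥(Cfsg.Omega F (Cfsg.quadFormPlus m F)) // (g : ↥(Cfsg.isometryGroup F (Cfsg.quadFormPlus m F))) * x = x * (g : ↥(Cfsg.isometryGroup F (Cfsg.quadFormPlus m F)))} = q ^ (2 * m * (s - 1) - (3 * s ^ 2 - 3 * s) / 2) * ((q : ℕ) ^ (((s - 1) / 2) ^ 2) * ∏ i : Fin ((s - 1) / 2), (q ^ (2 * ((i : ℕ) + 1)) - 1)) * ((q : ℕ) ^ ((m - s) ^ 2) * ∏ i : Fin (m - s), (q ^ (2 * ((i : ℕ) + 1)) - 1)) := by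
  have hc := OrthAct.quadPlus_coe (F := F) m
  have hG : Orth.Good (OrthAct.quadPlus m F) := OrthAct.good_quadPlus m h
  revert x
  rw [← hc]
  intro x hx hs
  have hch : (s + 1).choose 2 * 2 = s ^ 2 + s := by
    rw [Nat.choose_two_right, Nat.div_mul_cancel (Nat.even_mul_pred_self (s + 1)).two_dvd]
    simp only [Nat.add_sub_cancel]; ring
  have hle : s ≤ s ^ 2 := Nat.le_self_pow (by norm_num) s
  have hq : 0 < q := hF ▸ Fintype.card_pos
  obtain ⟨k, rfl, P, P', B, Hw, C, d⟩ := InvCentralizer.exists_data hx hs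
  have hne : ∃ i, B i i ≠ 0 := by
    by_contra! hall
    obtain ⟨j, hj, -⟩ := InvCentralizer.card_iso_alt d.symm d.det hall
    rw [Fintype.card_fin] at hj
    exact Nat.not_even_iff_odd.2 hodd ⟨j, by omega⟩
  have hN := d.card_comm_nonalt hne
  have hO := InvCentralizer.card_omega_half hG (d.exists_odd hG (Or.inl hne))
  rw [← hO, Nat.card_eq_fintype_card (α := F), hF] at hN
  rw [show s + k - s = k by omega]
  rcases InvCentralizer.card_iso_nonalt d.symm d.det hne with ⟨j, hj, hjc⟩ | ⟨j, hj, -⟩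
  · rw [Fintype.card_fin] at hj
    rw [hjc, Nat.card_eq_fintype_card (α := F), hF] at hN
    rw [show (s - 1) / 2 = j by omega]
    refine Nat.eq_of_mul_eq_mul_right (show 0 < 2 * (q ^ (2 * k) * q ^ s) by positivity) ?_
    refine Eq.trans (Eq.trans (by ring) hN) ?_
    obtain ⟨u, rfl⟩ : ∃ u, s = u + 1 := ⟨s - 1, by omega⟩
    have hm : 2 * (u + 1 + k) * (u + 1 - 1) + 2 * (u + 1) + 2 * k =
        2 * k * (u + 1) + 2 * (u + 1) ^ 2 := by
      rw [Nat.add_sub_cancel]; ring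
    have hexp : 2 * k * (u + 1) + (u + 1 + 1).choose 2 =
        (2 * (u + 1 + k) * (u + 1 - 1) - (3 * (u + 1) ^ 2 - 3 * (u + 1)) / 2) + (2 * k + (u + 1)) := by
      have hI : 2 * k ≤ 2 * k * (u + 1) := Nat.le_mul_of_pos_right _ (by omega)
      generalize 2 * k * (u + 1) = I at hI hm ⊢
      generalize 2 * (u + 1 + k) * (u + 1 - 1) = A at hm ⊢
      generalize (u + 1) ^ 2 = S at *
      omega
    generalize 2 * (u + 1 + k) * (u + 1 - 1) - (3 * (u + 1) ^ 2 - 3 * (u + 1)) / 2 = E at hexp ⊢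
    have hp : q ^ (2 * k * (u + 1)) * q ^ ((u + 1 + 1).choose 2) =
        q ^ E * (q ^ (2 * k) * q ^ (u + 1)) := by
      rw [← pow_add, ← pow_add, ← pow_add, hexp]
    rw [InvCentralizer.spOrder, InvCentralizer.spOrder]
    linear_combination 2 * (q ^ j ^ 2 * ∏ i : Fin j, (q ^ (2 * ((i : ℕ) + 1)) - 1)) *
      (q ^ k ^ 2 * ∏ i : Fin k, (q ^ (2 * ((i : ℕ) + 1)) - 1)) * hp
  · rw [Fintype.card_fin] at hj
    exact absurd hodd (Nat.not_odd_iff_even.2 ⟨j + 1, by omega⟩)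

end Cfsg.Agent.S2683
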