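import Cfsg.Statements.S2684
import Cfsg.Agent.EqLemmas
import Cfsg.Agent.Lib.InvCentralizer.Orthogonal

set_option autoImplicit false
open Cfsg

namespace Cfsg.Agent.S2684

/-- For the hyperbolic form Q = Σ x_j y_j on F^(2m) over a finite field with q elements, q even (excluding m = 2 over the field of two elements), and an involution x ≠ 1 of the orthogonal group with s = rank(x − 1) even and Q vanishing on the image of x − 1 (equivalently f(v, xv) = 0 for all v, where f(u, w) = Q(u + w) − Q(u) − Q(w) is the bilinear form of Q; type a_s, which lies in Ω): its centraliser in Ω (the commutator subgroup of the orthogonal group) has order q^(2ms − (3s² + s)/2) · |Sp_s(q)| · |Ω⁺_(2m−2s)(q)|, where |Ω⁺_2k(q)| = q^(k(k−1)) (q^k − 1) Π_(i=1)^(k−1) (q^(2i) − 1) for k ≥ 1 and the last factor is 1 when s = m. -/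
theorem result {F : Type*} [Field F] [Fintype F] [CharP F 2] {q : ℕ} (hF : Fintype.card F = q) {m s : ℕ} (h : Fintype.card F ≠ 2 ∨ m ≠ 2) (x : ↥(Cfsg.isometryGroup F (Cfsg.quadFormPlus m F))) (hx : x ^ 2 = 1) (hx1 : x ≠ 1) (hs : (((x : Matrix.GeneralLinearGroup (Fin m ⊕ Fin m) F) : Matrix (Fin m ⊕ Fin m) (Fin m ⊕ Fin m) F) - 1).rank = s) (heven : Even s) (halt : ∀ v : Fin m ⊕ Fin m → F, Cfsg.quadFormPlus m F ((((x : Matrix.GeneralLinearGroup (Fin m ⊕ Fin m) F) : Matrix (Fin m ⊕ Fin m) (Fin m ⊕ Fin m) F) - 1).mulVec v) = 0) : Nat.card {g : ↥(Cfsg.Omega F (Cfsg.quadFormPlus m F)) // (g : ↥(Cfsg.isometryGroup F (Cfsg.quadFormPlus m F))) * x = x * (g : ↥(Cfsg.isometryGroup F (Cfsg.quadFormPlus m F)))} = q ^ (2 * m * s - (3 * s ^ 2 + s) / 2) * ((q : ℕ) ^ ((s / 2) ^ 2) * ∏ i : Fin (s / 2), (q ^ (2 * ((i : ℕ) + 1)) - 1)) * (if s = m then 1 else q ^ ((m - s) * (m - s - 1)) * (q ^ (m - s) - 1) * ∏ i : Fin (m - s - 1), (q ^ (2 * ((i : ℕ) + 1)) - 1)) := by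
  have hc := OrthAct.quadPlus_coe (F := F) m
  have hG : Orth.Good (OrthAct.quadPlus m F) := OrthAct.good_quadPlus m h
  revert x
  rw [← hc]
  intro x hx hx1 hs halt
  have hch : (s + 1).choose 2 * 2 = s ^ 2 + s := by
    rw [Nat.choose_two_right, Nat.div_mul_cancel (Nat.even_mul_pred_self (s + 1)).two_dvd]
    simp only [Nat.add_sub_cancel]; ring
  have hle : s ≤ s ^ 2 := Nat.le_self_pow (by norm_num) s
  have hq : 0 < q := hF ▸ Fintype.card_pos
  obtain ⟨k, rfl, P, P', B, Hw, C, d, hw⟩ := InvCentralizer.exists_data_singular hx hs halt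
  have hz := d.alt_iff.1 halt
  have hN := d.card_comm_alt hz hw
  obtain ⟨j, hj, hjc⟩ := InvCentralizer.card_iso_alt d.symm d.det hz
  rw [Fintype.card_fin] at hj
  rw [show s + k - s = k by omega, show s / 2 = j by omega]
  rcases k with _ | k
  · rw [if_pos (by omega)]
    have hO := InvCentralizer.card_omega_full hG (by
      have : (InvCentralizer.mt x - 1).rank = s := hs
      simpa using this) halt
    have h1 : Nat.card (Forms.preservingFun (F := F) (⇑(Forms.qfPlus 0 F))) = 1 := by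
      rw [Nat.card_eq_one_iff_unique]
      exact ⟨⟨fun g g' => Subtype.ext (LinearEquiv.ext fun v => Subsingleton.elim _ _)⟩,
        One.instNonempty⟩
    rw [← hO, hjc, h1, Nat.card_eq_fintype_card (α := F), hF] at hN
    refine Nat.eq_of_mul_eq_mul_right (show 0 < q ^ s by positivity) ?_
    refine Eq.trans hN ?_
    have hm : 2 * (s + 0) * s = 2 * s ^ 2 := by ring
    have hexp : (s + 1).choose 2 = (2 * (s + 0) * s - (3 * s ^ 2 + s) / 2) + s := by omega
    generalize 2 * (s + 0) * s - (3 * s ^ 2 + s) / 2 = E at hexp ⊢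
    rw [hexp, InvCentralizer.spOrder]
    ring
  · rw [if_neg (by omega)]
    have hO := InvCentralizer.card_omega_half hG (d.exists_odd hG (Or.inr (Nat.succ_pos k)))
    rw [← hO, hjc, Forms.card_preservingFun_qfPlus, Nat.card_eq_fintype_card (α := F), hF] at hN
    simp only [Fin.prod_univ_eq_prod_range (fun i => q ^ (2 * (i + 1)) - 1), Nat.add_sub_cancel]
    rw [InvCentralizer.spOrder,
      Fin.prod_univ_eq_prod_range (fun i => q ^ (2 * (i + 1)) - 1)] at hN
    refine Nat.eq_of_mul_eq_mul_right (show 0 < 2 * q ^ s by positivity) ?_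
    refine Eq.trans (Eq.trans (by ring) hN) ?_
    have hm : 2 * (s + (k + 1)) * s = 2 * (k + 1) * s + 2 * s ^ 2 := by ring
    have hexp : 2 * (k + 1) * s + (s + 1).choose 2 =
        (2 * (s + (k + 1)) * s - (3 * s ^ 2 + s) / 2) + s := by omega
    generalize 2 * (s + (k + 1)) * s - (3 * s ^ 2 + s) / 2 = E at hexp ⊢
    have hp : q ^ (2 * (k + 1) * s) * q ^ ((s + 1).choose 2) = q ^ E * q ^ s := by
      rw [← pow_add, ← pow_add, hexp]
    linear_combination 2 * (q ^ j ^ 2 * ∏ i ∈ Finset.range j, (q ^ (2 * (i + 1)) - 1)) *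
      (q ^ ((k + 1) * k) * (q ^ (k + 1) - 1) * ∏ i ∈ Finset.range k, (q ^ (2 * (i + 1)) - 1)) * hp

end Cfsg.Agent.S2684
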