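import Cfsg.Statements.S2690
import Cfsg.Agent.EqLemmas
import Cfsg.Agent.Lib.AutPSL.Count

set_option autoImplicit false
open Cfsg

namespace Cfsg.Agent.S2690

/-- Every automorphism of a simple projective special linear group PSL_n(F) over a finite field (n ≥ 2; |F| ≥ 4 when n = 2) is a product δ φ γ of an inner-diagonal automorphism δ (induced by an invertible matrix), a standard field automorphism φ (one automorphism of F applied to every entry, possibly the identity) and γ either the identity or the inverse-transpose automorphism. -/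
theorem result {F : Type*} [Field F] [Fintype F] {p f : ℕ} [Fact p.Prime] (hF : Fintype.card F = p ^ f) (hf : 1 ≤ f) {n : ℕ} (hn : 2 ≤ n) (hs : n = 2 → 4 ≤ Fintype.card F) (β : MulAut (Matrix.ProjectiveSpecialLinearGroup (Fin n) F)) :
    ∃ (δ φ γ : MulAut (Matrix.ProjectiveSpecialLinearGroup (Fin n) F)) (σ : F ≃+* F), Cfsg.IsInnerDiagonalAutPSL δ ∧ Cfsg.IsStdFieldAutPSL σ φ ∧ (γ = 1 ∨ Cfsg.IsInverseTransposeAutPSL γ) ∧ β = δ * φ * γ := by
  obtain ⟨m, rfl⟩ : ∃ m, n = m + 2 := ⟨n - 2, by omega⟩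
  have hdiag : ∀ g : GL (Fin (m + 2)) F, IsInnerDiagonalAutPSL (AutPSL.semi g (RingEquiv.refl F)) := fun g =>
    ⟨g, fun s s' h => AutPSL.semi_proj_eq g _ (by simpa using h)⟩
  have hstd : ∀ σ : F ≃+* F, IsStdFieldAutPSL σ (AutPSL.semi (1 : GL (Fin (m + 2)) F) σ) := fun σ s s' h =>
    AutPSL.semi_proj_eq 1 σ (by simpa using h)
  have hsplit : ∀ (g : GL (Fin (m + 2)) F) (σ : F ≃+* F),
      AutPSL.semi g σ = AutPSL.semi g (RingEquiv.refl F) * AutPSL.semi (1 : GL (Fin (m + 2)) F) σ := fun g σ => by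
    rw [AutPSL.semi_mul, map_one, mul_one]
    congr 1
  rcases AutPSL.exists_semi_or β with ⟨g, σ, rfl⟩ | ⟨g, σ, rfl⟩
  · exact ⟨_, _, 1, σ, hdiag g, hstd σ, Or.inl rfl, by rw [mul_one, ← hsplit]⟩
  · exact ⟨_, _, _, σ, hdiag g, hstd σ, Or.inr ((AutPSL.isInvT_iff _).mpr rfl), by rw [← hsplit]⟩

end Cfsg.Agent.S2690
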