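import Cfsg.Statements.S2692
import Cfsg.Agent.Lib.AutPSU.Main

set_option autoImplicit false
open Cfsg

namespace Cfsg.Agent.S2692

/-- Every automorphism of a simple PSU_n(q), n ≥ 3, (n, q) ≠ (3, 2), realised over the field F with q² elements, is a product δ φ of an inner-diagonal automorphism δ (induced by a general unitary matrix) and a standard field automorphism φ (one automorphism of F applied to every entry, possibly the identity; the standard field automorphisms of even order are the graph automorphisms here). -/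
theorem result {F : Type*} [Field F] [Fintype F] {p f q : ℕ} [Fact p.Prime] (hq : q = p ^ f) (hf : 1 ≤ f) (hF : Fintype.card F = q ^ 2) {n : ℕ} (hn : 3 ≤ n) (hs : ¬ (n = 3 ∧ q = 2)) (β : MulAut (Cfsg.PSU n F q)) :
    ∃ (δ φ : MulAut (Cfsg.PSU n F q)) (σ : F ≃+* F), Cfsg.IsInnerDiagonalAutPSU δ ∧ Cfsg.IsFieldAutPSUOf σ φ ∧ β = δ * φ := by
  obtain ⟨X, hX, σ, rfl⟩ := Agent.AutPSU.exists_factor hF hn hs β
  refine ⟨Agent.FieldAut.indAut Agent.FieldAut.suMat_injective ⟨MulAut.conj X, Agent.FieldAut.conj_mem_suMat hX⟩,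
    Agent.FieldAut.indAut Agent.FieldAut.suMat_injective ⟨Agent.FieldAut.galGL σ, Agent.FieldAut.keep_gal_su σ⟩,
    σ, ?_, ?_, ?_⟩
  · exact (Agent.FieldAut.isInd_innerDiag_psu _).2 ⟨X, hX, (Agent.FieldAut.isInd_iff _ _).2 rfl⟩
  · exact (Agent.FieldAut.isInd_fieldAut_psu σ _).2 ((Agent.FieldAut.isInd_iff _ _).2 rfl)
  · exact Agent.AutPSU.twistAut_eq_mul hX σ

end Cfsg.Agent.S2692
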