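import Cfsg.Statements.S2697
import Cfsg.Agent.Lib.AutPSL.TwistedGF

set_option autoImplicit false
open Cfsg

namespace Cfsg.Agent.S2697

/-- Let T = PSL_n(F) be simple over a finite field (n ≥ 2; |F| ≥ 4 when n = 2) and let x be a field automorphism or a graph-field automorphism of T of prime order r. Then an element y of the coset Inndiag(T)·x (that is, y = δ x with δ in the inner-diagonal group, the image of PGL_n(F)) has order r if and only if y is conjugate to x by an element of Inndiag(T). -/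
theorem result {F : Type*} [Field F] [Fintype F] {p f : ℕ} [Fact p.Prime] (hF : Fintype.card F = p ^ f) (hf : 1 ≤ f) {n : ℕ} (hn : 2 ≤ n) (hs : n = 2 → 4 ≤ Fintype.card F) (x δ : MulAut (Matrix.ProjectiveSpecialLinearGroup (Fin n) F)) (hx : Cfsg.IsFieldAutClassPSL x ∨ Cfsg.IsGraphFieldAutClassPSL x) {r : ℕ} (hr : r.Prime) (hxr : orderOf x = r) (hδ : δ ∈ Cfsg.inndiagPSL n F) :
    orderOf (δ * x) = r ↔ Cfsg.IsConjUnder (Cfsg.inndiagPSL n F) x (δ * x) := by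
  obtain ⟨m, rfl⟩ : ∃ m, n = m + 2 := ⟨n - 2, by omega⟩
  rw [AutPSL.inndiag_eq] at hδ ⊢
  rcases hx with hx | hx
  · obtain ⟨σ, h, hσ, hxh⟩ := AutPSL.field_reduce hf hF hx hr hxr
    refine FieldAut.coset_conj_transport (a := (AutPSL.cj h)⁻¹)
      (AutPSL.conj_mem_normalizer (H := (AutPSL.cj : GL (Fin (m + 2)) F →* _).range) (inv_mem ⟨h, rfl⟩)) (φ := AutPSL.semi 1 σ) (by rw [hxh]; group) ?_ hxr hδ
    rintro _ ⟨g, rfl⟩ hord
    obtain ⟨k, hk⟩ := AutPSL.field_coset hσ hr.pos g hord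
    exact ⟨_, ⟨k, rfl⟩, hk⟩
  · obtain ⟨σ, h, rfl, hσ, hxh⟩ := AutPSL.gf_reduce hf hF (by have := hx.1; omega) hx hr hxr
    obtain ⟨h2f, -, -⟩ := FieldAut.order_data Fact.out hF hσ two_pos
    have hF2 : Fintype.card F = (p ^ (f / 2)) ^ 2 := by rw [hF, ← pow_mul, Nat.div_mul_cancel h2f]
    refine FieldAut.coset_conj_transport (a := (AutPSL.cj h)⁻¹)
      (AutPSL.conj_mem_normalizer (H := (AutPSL.cj : GL (Fin (m + 2)) F →* _).range) (inv_mem ⟨h, rfl⟩)) (φ := AutPSL.semi 1 σ * AutPSL.invT)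
      (by rw [hxh]; group) ?_ hxr hδ
    rintro _ ⟨g, rfl⟩ hord
    obtain ⟨k, hk⟩ := AutPSL.gf_coset hσ hF2 g hord
    exact ⟨_, ⟨k, rfl⟩, hk⟩

end Cfsg.Agent.S2697
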