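import Cfsg.Statements.S2698
import Cfsg.Agent.Lib.AutPSL.TwistedGF

set_option autoImplicit false
open Cfsg

namespace Cfsg.Agent.S2698

/-- Let T = PSL_n(F) be simple over the field F with p^f elements (n ≥ 2; p^f ≥ 4 when n = 2), G = Inndiag(T) the image of PGL_n(F) in Aut(T), and x a field automorphism of T of prime order r. Then r divides f; the centralizer C_G(x) is isomorphic to PGL_n(F₀) for the subfield size |F₀| = p^(f/r); and the G-class of x is the union of exactly gcd(n, (p^f − 1)/(p^(f/r) − 1)) classes under conjugation by T (the inner automorphism group). -/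
theorem result {F : Type*} [Field F] [Fintype F] {p f : ℕ} [Fact p.Prime] (hF : Fintype.card F = p ^ f) (hf : 1 ≤ f) {n : ℕ} (hn : 2 ≤ n) (hs : n = 2 → 4 ≤ Fintype.card F) (x : MulAut (Matrix.ProjectiveSpecialLinearGroup (Fin n) F)) (hx : Cfsg.IsFieldAutClassPSL x) {r : ℕ} (hr : r.Prime) (hxr : orderOf x = r) (F₀ : Type*) [Field F₀] [Fintype F₀] (hF₀ : Fintype.card F₀ = p ^ (f / r)) :
    r ∣ f ∧ Nonempty (↥(Cfsg.inndiagPSL n F ⊓ Subgroup.centralizer {x}) ≃* Matrix.ProjGenLinGroup (Fin n) F₀) ∧ Cfsg.splitClassCount (Cfsg.inndiagPSL n F) (Cfsg.Inn (Matrix.ProjectiveSpecialLinearGroup (Fin n) F)) x = Nat.gcd n ((p ^ f - 1) / (p ^ (f / r) - 1)) := by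
  obtain ⟨m, rfl⟩ : ∃ m, n = m + 2 := ⟨n - 2, by omega⟩
  obtain ⟨σ, h, hσ, hxh⟩ := AutPSL.field_reduce hf hF hx hr hxr
  obtain ⟨h1, h2, h3⟩ := AutPSL.field_data (m := m) hF hσ hr.pos F₀ hF₀
  have ha : (AutPSL.cj h)⁻¹ ∈ Subgroup.normalizer
      ((AutPSL.cj : GL (Fin (m + 2)) F →* _).range : Set (MulAut _)) :=
    AutPSL.conj_mem_normalizer (inv_mem ⟨h, rfl⟩)
  have hc : (AutPSL.cj h)⁻¹ * x * ((AutPSL.cj h)⁻¹)⁻¹ = AutPSL.semi 1 σ := by rw [hxh]; group
  rw [AutPSL.inndiag_eq]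
  obtain ⟨E⟩ := h2
  exact ⟨h1, ⟨(FieldAut.centralizerConjEquiv ha hc).trans E⟩,
    (FieldAut.splitClassCount_conj ha hc).trans h3⟩

end Cfsg.Agent.S2698
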