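import Cfsg.Statements.S2700
import Cfsg.Agent.Lib.AutPSL.GraphModels

set_option autoImplicit false
open Cfsg

open Cfsg.Agent.AutPSL
open scoped Matrix

namespace Cfsg.Agent.S2700

/-- Let T = PSL_n(F) over a finite field of odd order with n = 2m ≥ 4 even, and G = Inndiag(T) the image of PGL_n(F). The involutory graph automorphisms of T fall into exactly three G-classes, with representatives γ₁, γ₂, γ₃ whose centralizers in G are isomorphic respectively to the projective conformal symplectic group PGSp_n(F), the projective conformal orthogonal group of the plus-type form Σ xᵢ yᵢ, and that of a minus-type form Σ xᵢ yᵢ + z₁² + a z₁ z₂ + b z₂² (anisotropic binary part) in dimension n. -/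
theorem result {F : Type*} [Field F] [Fintype F] (hodd : Odd (Fintype.card F)) {n m : ℕ} (hm : 2 ≤ m) (hnm : n = 2 * m) :
    ∃ (γ₁ γ₂ γ₃ : MulAut (Matrix.ProjectiveSpecialLinearGroup (Fin n) F)) (a b : F), (∀ z₁ z₂ : F, z₁ ^ 2 + a * z₁ * z₂ + b * z₂ ^ 2 = 0 → z₁ = 0 ∧ z₂ = 0) ∧ Cfsg.IsGraphAutClassPSL γ₁ ∧ orderOf γ₁ = 2 ∧ Cfsg.IsGraphAutClassPSL γ₂ ∧ orderOf γ₂ = 2 ∧ Cfsg.IsGraphAutClassPSL γ₃ ∧ orderOf γ₃ = 2 ∧ ¬ Cfsg.IsConjUnder (Cfsg.inndiagPSL n F) γ₁ γ₂ ∧ ¬ Cfsg.IsConjUnder (Cfsg.inndiagPSL n F) γ₁ γ₃ ∧ ¬ Cfsg.IsConjUnder (Cfsg.inndiagPSL n F) γ₂ γ₃ ∧ (∀ γ : MulAut (Matrix.ProjectiveSpecialLinearGroup (Fin n) F), Cfsg.IsGraphAutClassPSL γ → orderOf γ = 2 → Cfsg.IsConjUnder (Cfsg.inndiagPSL n F) γ₁ γ ∨ Cfsg.IsConjUnder (Cfsg.inndiagPSL n F) γ₂ γ ∨ Cfsg.IsConjUnder (Cfsg.inndiagPSL n F) γ₃ γ) ∧ Nonempty (↥(Cfsg.inndiagPSL n F ⊓ Subgroup.centralizer {γ₁}) ≃* Cfsg.PGSp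 m F) ∧ Nonempty (↥(Cfsg.inndiagPSL n F ⊓ Subgroup.centralizer {γ₂}) ≃* Cfsg.PGO F (Cfsg.quadFormPlus m F)) ∧ Nonempty (↥(Cfsg.inndiagPSL n F ⊓ Subgroup.centralizer {γ₃}) ≃* Cfsg.PGO F (Cfsg.quadFormMinus (m - 1) F a b)) := by
  classical
  obtain ⟨k, rfl⟩ : ∃ k, n = k + 2 := ⟨n - 2, by omega⟩
  have h2 : (2 : F) ≠ 0 := OrthOuter.two_ne_zero_of_odd hodd
  have hk : 1 ≤ k := by omega
  have hev : Even (k + 2) := ⟨m, by omega⟩
  obtain ⟨a, b, hab⟩ := exists_aniso hodd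
  have hns := disc_nonsq hodd hab
  let e1 : Fin m ⊕ Fin m ≃ Fin (k + 2) := Fintype.equivOfCardEq (by simp; omega)
  let e3 : (Fin (m - 1) ⊕ Fin (m - 1)) ⊕ Fin 2 ≃ Fin (k + 2) := Fintype.equivOfCardEq (by simp; omega)
  have hdp : (Orth.gram (quadFormPlus m F)).det = (-1) ^ m := Orth.det_gram_quadPlus m
  have hdm : (Orth.gram (quadFormMinus (m - 1) F a b)).det = (-1) ^ m * (a * a - 4 * b) := by
    rw [Orth.det_gram_quadMinus, show m - 1 + 1 = m by omega]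
  have hp0 : (Orth.gram (quadFormPlus m F)).det ≠ 0 := by
    rw [hdp]; exact pow_ne_zero _ (neg_ne_zero.2 one_ne_zero)
  have hm0 : (Orth.gram (quadFormMinus (m - 1) F a b)).det ≠ 0 := by
    rw [hdm]
    exact mul_ne_zero (pow_ne_zero _ (neg_ne_zero.2 one_ne_zero)) fun h => hns (h ▸ IsSquare.zero)
  set B₁ := ofModel e1 _ (det_J_ne_zero (F := F) m) with hB1
  set B₂ := ofModel e1 _ hp0 with hB2
  set B₃ := ofModel e3 _ hm0 with hB3
  have s1 : (B₁ : Matrix (Fin (k + 2)) (Fin (k + 2)) F)ᵀ = -(B₁ : Matrix _ _ F) := by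
    rw [hB1, ofModel_coe, Matrix.transpose_submatrix, Matrix.J_transpose]
    rfl
  have s2 : (B₂ : Matrix (Fin (k + 2)) (Fin (k + 2)) F)ᵀ = (B₂ : Matrix _ _ F) := by
    rw [hB2, ofModel_coe, Matrix.transpose_submatrix, gram_symm]
  have s3 : (B₃ : Matrix (Fin (k + 2)) (Fin (k + 2)) F)ᵀ = (B₃ : Matrix _ _ F) := by
    rw [hB3, ofModel_coe, Matrix.transpose_submatrix, gram_symm]
  have sqm : IsSquare (((-1 : F) ^ m) * (-1) ^ m) := ⟨(-1) ^ m, rfl⟩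
  have d2 : (B₂ : Matrix (Fin (k + 2)) (Fin (k + 2)) F).det = (-1) ^ m := by rw [hB2, ofModel_det, hdp]
  have d3 : (B₃ : Matrix (Fin (k + 2)) (Fin (k + 2)) F).det = (-1) ^ m * (a * a - 4 * b) := by
    rw [hB3, ofModel_det, hdm]
  have hn3 : ¬ IsSquare ((B₃ : Matrix (Fin (k + 2)) (Fin (k + 2)) F).det * (-1) ^ m) := by
    rw [d3]
    rintro ⟨s, hs⟩
    refine hns ⟨s, ?_⟩
    rw [← hs, show (-1 : F) ^ m * (a * a - 4 * b) * (-1) ^ m = ((-1) ^ m * (-1) ^ m) * (a * a - 4 * b) by ring,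
      ← mul_pow, neg_one_mul, neg_neg, one_pow, one_mul]
  refine ⟨gam B₁, gam B₂, gam B₃, a, b, hab, (isGraph_iff _).2 ⟨hk, _, rfl⟩, (orderOf_gam_iff hk _).2 (Or.inr s1),
    (isGraph_iff _).2 ⟨hk, _, rfl⟩, (orderOf_gam_iff hk _).2 (Or.inl s2),
    (isGraph_iff _).2 ⟨hk, _, rfl⟩, (orderOf_gam_iff hk _).2 (Or.inl s3),
    skew_symm_not_conj h2 s1 s2, skew_symm_not_conj h2 s1 s3, fun h => hn3 ?_, ?_,
    skew_model h2 hnm s1, plus_model h2 hnm s2 (by rw [d2]; exact sqm), minus_model hodd hnm s3 hn3 hab⟩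
  · have := square_det_of_conj hev h
    rw [d2] at this
    rwa [mul_comm] at this
  · intro γ hγ hγ2
    obtain ⟨-, B, rfl, hB | hB⟩ := graph_inv_exists hγ hγ2
    · by_cases hsq : IsSquare ((B : Matrix (Fin (k + 2)) (Fin (k + 2)) F).det * (-1) ^ m)
      · refine Or.inr (Or.inl (conj_symm_even h2 s2 hB ?_))
        rwa [d2, mul_comm]
      · refine Or.inr (Or.inr (conj_symm_even h2 s3 hB ?_))
        rw [d3, mul_comm, ← mul_assoc]
        exact isSquare_mul_of_nonsq hsq hns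
    · exact Or.inl (conj_skew h2 hnm s1 hB)

end Cfsg.Agent.S2700
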