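import Cfsg.Statements.S2701
import Cfsg.Agent.Lib.AutPSL.GraphTwoModels

set_option autoImplicit false
open Cfsg

open Cfsg.Agent.AutPSL
open scoped Matrix

namespace Cfsg.Agent.S2701

/-- Let T = PSL_n(F) over a finite field of characteristic 2 with n = 2m ≥ 4 even, and G = Inndiag(T) the image of PGL_n(F). The involutory graph automorphisms of T fall into exactly two G-classes, with representatives γ₁ and γ₃ whose centralizers in G are isomorphic respectively to the symplectic group Sp_n(F) and to the centralizer in Sp_n(F) of a symplectic transvection. -/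
theorem result {F : Type*} [Field F] [Fintype F] [CharP F 2] {n m : ℕ} (hm : 2 ≤ m) (hnm : n = 2 * m) :
    ∃ (γ₁ γ₃ : MulAut (Matrix.ProjectiveSpecialLinearGroup (Fin n) F)) (t : ↥(Matrix.symplecticGroup (Fin m) F)), Cfsg.IsTransvection (t : Matrix (Fin m ⊕ Fin m) (Fin m ⊕ Fin m) F) ∧ Cfsg.IsGraphAutClassPSL γ₁ ∧ orderOf γ₁ = 2 ∧ Cfsg.IsGraphAutClassPSL γ₃ ∧ orderOf γ₃ = 2 ∧ ¬ Cfsg.IsConjUnder (Cfsg.inndiagPSL n F) γ₁ γ₃ ∧ (∀ γ : MulAut (Matrix.ProjectiveSpecialLinearGroup (Fin n) F), Cfsg.IsGraphAutClassPSL γ → orderOf γ = 2 → Cfsg.IsConjUnder (Cfsg.inndiagPSL n F) γ₁ γ ∨ Cfsg.IsConjUnder (Cfsg.inndiagPSL n F) γ₃ γ) ∧ Nonempty (↥(Cfsg.inndiagPSL n F ⊓ Subgroup.centralizer {γ₁}) ≃* ↥(Matrix.symplecticGroup (Fin m) F)) ∧ Nonempty (↥(Cfsg.inndiagPSL n F ⊓ Subgroup.centralizer {γ₃}) ≃* ↥(Subgroup.centralizer ({t} : Set ↥(Matrix.symplecticGroup (Fin m) F)))) := by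
  classical
  obtain ⟨k, rfl⟩ : ∃ k, n = k + 2 := ⟨n - 2, by omega⟩
  have hk : 1 ≤ k := by omega
  let e1 : Fin m ⊕ Fin m ≃ Fin (k + 2) := Fintype.equivOfCardEq (by simp; omega)
  set B₁ := ofModel e1 _ (det_J_ne_zero (F := F) m) with hB1
  have s1 : (B₁ : Matrix (Fin (k + 2)) (Fin (k + 2)) F)ᵀ = (B₁ : Matrix _ _ F) := by
    rw [hB1, ofModel_coe, Matrix.transpose_submatrix, J_symm_two]
  have hd1 : ∀ i, (B₁ : Matrix (Fin (k + 2)) (Fin (k + 2)) F) i i = 0 := fun i => by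
    rw [hB1, ofModel_coe]; exact J_diag _ _
  have hone : ((1 : GL (Fin (k + 2)) F) : Matrix (Fin (k + 2)) (Fin (k + 2)) F) 0 0 ≠ 0 := by simp
  obtain ⟨t, ht, hE⟩ := one_even_model (F := F) hnm
  refine ⟨gam B₁, gam 1, t, ht, (isGraph_iff _).2 ⟨hk, _, rfl⟩, (orderOf_gam_iff hk _).2 (Or.inl s1),
    (isGraph_iff _).2 ⟨hk, _, rfl⟩, (orderOf_gam_iff hk _).2 (Or.inl one_transpose),
    alt_not_conj s1 hd1 hone, ?_, alt_model hnm s1 hd1, hE⟩
  intro γ hγ hγ2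
  obtain ⟨-, B, rfl, hB⟩ := graph_inv_exists hγ hγ2
  have hs := symm_two hB
  by_cases hd : ∀ i, (B : Matrix (Fin (k + 2)) (Fin (k + 2)) F) i i = 0
  · exact Or.inl (conj_alt_two hnm s1 hd1 hs hd)
  · push Not at hd
    obtain ⟨i, hi⟩ := hd
    exact Or.inr (isConjUnder_symm (conj_one_two hs hi))

end Cfsg.Agent.S2701
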