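import Cfsg.Statements.S2702
import Cfsg.Agent.Lib.AutPSL.GraphSplit

set_option autoImplicit false
open Cfsg
open Cfsg.Agent.AutPSL
open scoped Matrix

namespace Cfsg.Agent.S2702

/-- Let T = PSL_n(F) over the field with q = p^f elements, n ≥ 3, G = Inndiag(T) the image of PGL_n(F), and γ an involutory graph automorphism of T. The G-class of γ is the union of exactly c T-classes, where: if n is even and q is odd, c = gcd(n/2, q − 1) when C_G(γ) is isomorphic to the projective conformal symplectic group PGSp_n(F) (symplectic type) and c = gcd(n, q − 1)/2 otherwise; and c = gcd(n, q − 1) when n is odd or q is even. -/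
theorem result {F : Type*} [Field F] [Fintype F] {p f : ℕ} [Fact p.Prime] (hF : Fintype.card F = p ^ f) (hf : 1 ≤ f) {n : ℕ} (hn : 3 ≤ n) (γ : MulAut (Matrix.ProjectiveSpecialLinearGroup (Fin n) F)) (hγ : Cfsg.IsGraphAutClassPSL γ) (hγ2 : orderOf γ = 2) :
    ((Even n ∧ Odd p ∧ Nonempty (↥(Cfsg.inndiagPSL n F ⊓ Subgroup.centralizer {γ}) ≃* Cfsg.PGSp (n / 2) F)) → Cfsg.splitClassCount (Cfsg.inndiagPSL n F) (Cfsg.Inn (Matrix.ProjectiveSpecialLinearGroup (Fin n) F)) γ = Nat.gcd (n / 2) (p ^ f - 1)) ∧ ((Even n ∧ Odd p ∧ ¬ Nonempty (↥(Cfsg.inndiagPSL n F ⊓ Subgroup.centralizer {γ}) ≃* Cfsg.PGSp (n / 2) F)) → Cfsg.splitClassCount (Cfsg.inndiagPSL n F) (Cfsg.Inn (Matrix.ProjectiveSpecialLinearGroup (Fin n) F)) γ = Nat.gcd n (p ^ f - 1) / 2) ∧ (¬ (Even n ∧ Odd p) → Cfsg.splitClassCount (Cfsg.inndiagPSL n F) (Cfsg.Inn (Matrix.ProjectiveSpecialLinearGroup (Fin n) F)) γ = Nat.gcd n (p ^ f - 1)) := by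
  obtain ⟨k, rfl⟩ : ∃ k, n = k + 2 := ⟨n - 2, by omega⟩
  obtain ⟨hk, B, rfl, hB⟩ := graph_inv_exists hγ hγ2
  haveI : CharP F p := charP_of_card_eq_prime_pow hF
  have hodd : Odd p → Odd (Fintype.card F) := fun h => by rw [hF]; exact h.pow
  refine ⟨fun ⟨⟨r, hr⟩, hp, hE⟩ => ?_, fun ⟨⟨r, hr⟩, hp, hE⟩ => ?_, fun h => ?_⟩
  · have h2 : (2 : F) ≠ 0 := OrthOuter.two_ne_zero_of_odd (hodd hp)
    rw [show (k + 2) / 2 = r by omega] at hE ⊢
    rcases hB with hB | hB
    · exact absurd hE (symm_not_PGSp (hodd hp) (k := r) (by omega) hB)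
    · rw [split_skew h2 (k := r) (by omega) hB, hF]
  · have h2 : (2 : F) ≠ 0 := OrthOuter.two_ne_zero_of_odd (hodd hp)
    rw [show (k + 2) / 2 = r by omega] at hE
    rcases hB with hB | hB
    · rw [split_symm h2 (k := r) (by omega) hB, hF]
    · exact absurd (skew_model h2 (k := r) (by omega) hB) hE
  · rw [← hF]
    rcases Nat.even_or_odd (k + 2) with he | ho
    · obtain rfl := ((Fact.out : p.Prime).eq_two_or_odd').resolve_right fun hp => h ⟨he, hp⟩
      exact split_small B (Or.inr inferInstance)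
    · exact split_small B (Or.inl ho)

end Cfsg.Agent.S2702
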