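import Cfsg.Statements.S2703
import Cfsg.Agent.Lib.AutPSL.GraphModels

set_option autoImplicit false
open Cfsg

open Cfsg.Agent.AutPSL
open scoped Matrix

namespace Cfsg.Agent.S2703

/-- Let T = PSL_n(F) over the field with q elements, q odd, n = 2m ≥ 4 even, and ι the inverse-transpose automorphism. Its centralizer in G = Inndiag(T) (the image of PGL_n(F)) is isomorphic to the projective conformal orthogonal group of the plus-type form Σ xᵢ yᵢ in dimension n when n(q − 1)/4 is even, and to that of a minus-type form (Σ xᵢ yᵢ + z₁² + a z₁ z₂ + b z₂² with anisotropic binary part) when n(q − 1)/4 is odd. -/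
theorem result {F : Type*} [Field F] [Fintype F] (hodd : Odd (Fintype.card F)) {n m : ℕ} (hm : 2 ≤ m) (hnm : n = 2 * m) (ι : MulAut (Matrix.ProjectiveSpecialLinearGroup (Fin n) F)) (hι : Cfsg.IsInverseTransposeAutPSL ι) :
    (Even (n * (Fintype.card F - 1) / 4) → Nonempty (↥(Cfsg.inndiagPSL n F ⊓ Subgroup.centralizer {ι}) ≃* Cfsg.PGO F (Cfsg.quadFormPlus m F))) ∧ (¬ Even (n * (Fintype.card F - 1) / 4) → ∃ a b : F, (∀ z₁ z₂ : F, z₁ ^ 2 + a * z₁ * z₂ + b * z₂ ^ 2 = 0 → z₁ = 0 ∧ z₂ = 0) ∧ Nonempty (↥(Cfsg.inndiagPSL n F ⊓ Subgroup.centralizer {ι}) ≃* Cfsg.PGO F (Cfsg.quadFormMinus (m - 1) F a b))) := by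
  obtain ⟨k, rfl⟩ : ∃ k, n = k + 2 := ⟨n - 2, by omega⟩
  have h2 : (2 : F) ≠ 0 := OrthOuter.two_ne_zero_of_odd hodd
  rw [(isInvT_iff ι).1 hι, invT_eq_gam]
  obtain ⟨r, hr⟩ := hodd
  have hq : (k + 2) * (Fintype.card F - 1) / 4 = m * r := by
    rw [hnm, hr, show 2 * m * (2 * r + 1 - 1) = (m * r) * 4 by rw [Nat.add_sub_cancel]; ring,
      Nat.mul_div_cancel _ (by norm_num)]
  have hiff : Even (m * r) ↔ IsSquare ((((1 : GL (Fin (k + 2)) F) : Matrix (Fin (k + 2)) (Fin (k + 2)) F)).det *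
      (-1 : F) ^ m) := by
    rw [Units.val_one, Matrix.det_one, one_mul, Nat.even_mul]
    rcases m.even_or_odd with he | ho
    · exact iff_of_true (Or.inl he) (by rw [he.neg_one_pow]; exact IsSquare.one)
    · rw [ho.neg_one_pow, FiniteField.isSquare_neg_one_iff, hr, or_iff_right (Nat.not_even_iff_odd.2 ho),
        Nat.even_iff]
      omega
  rw [hq]
  refine ⟨fun h => plus_model h2 hnm one_transpose (hiff.1 h), fun h => ?_⟩
  obtain ⟨a, b, hab⟩ := exists_aniso ⟨r, hr⟩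
  exact ⟨a, b, hab, minus_model ⟨r, hr⟩ hnm one_transpose (fun hs => h (hiff.2 hs)) hab⟩

end Cfsg.Agent.S2703
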