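import Cfsg.Statements.S2704
import Cfsg.Agent.Lib.AutPSL.TwistedGF

set_option autoImplicit false
open Cfsg

namespace Cfsg.Agent.S2704

/-- Let T = PSL_n(F) over the field F with p^f elements, n ≥ 3, and G = Inndiag(T) the image of PGL_n(F). If x is an involutory graph-field automorphism of T then f is even; x is G-conjugate to every other involutory graph-field automorphism; C_G(x) is isomorphic to the projective general unitary group PGU_n(q₀) with q₀² = p^f, realised over F itself through the Hermitian form Σ uᵢ vᵢ^{q₀}; and the G-class of x is the union of exactly gcd(n, q₀ − 1) T-classes. -/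
theorem result {F : Type*} [Field F] [Fintype F] {p f : ℕ} [Fact p.Prime] (hF : Fintype.card F = p ^ f) (hf : 1 ≤ f) {n : ℕ} (hn : 3 ≤ n) (x : MulAut (Matrix.ProjectiveSpecialLinearGroup (Fin n) F)) (hx : Cfsg.IsGraphFieldAutClassPSL x) (hx2 : orderOf x = 2) :
    Even f ∧ (∀ y : MulAut (Matrix.ProjectiveSpecialLinearGroup (Fin n) F), Cfsg.IsGraphFieldAutClassPSL y → orderOf y = 2 → Cfsg.IsConjUnder (Cfsg.inndiagPSL n F) x y) ∧ Nonempty (↥(Cfsg.inndiagPSL n F ⊓ Subgroup.centralizer {x}) ≃* Cfsg.PGU n F (p ^ (f / 2))) ∧ Cfsg.splitClassCount (Cfsg.inndiagPSL n F) (Cfsg.Inn (Matrix.ProjectiveSpecialLinearGroup (Fin n) F)) x = Nat.gcd n (p ^ (f / 2) - 1) := by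
  obtain ⟨m, rfl⟩ : ∃ m, n = m + 2 := ⟨n - 2, by omega⟩
  obtain ⟨σ, h, -, hσ, hxh⟩ := AutPSL.gf_reduce hf hF (by omega) hx Nat.prime_two hx2
  obtain ⟨h2f, -, -⟩ := FieldAut.order_data Fact.out hF hσ two_pos
  have hF2 : Fintype.card F = (p ^ (f / 2)) ^ 2 := by rw [hF, ← pow_mul, Nat.div_mul_cancel h2f]
  obtain ⟨⟨E⟩, h3⟩ := AutPSL.gf_data (m := m) hσ hF2
  have ha : (AutPSL.cj h)⁻¹ ∈ Subgroup.normalizer
      ((AutPSL.cj : GL (Fin (m + 2)) F →* _).range : Set (MulAut _)) :=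
    AutPSL.conj_mem_normalizer (inv_mem ⟨h, rfl⟩)
  have hc : (AutPSL.cj h)⁻¹ * x * ((AutPSL.cj h)⁻¹)⁻¹ = AutPSL.semi 1 σ * AutPSL.invT := by
    rw [hxh]; group
  rw [AutPSL.inndiag_eq]
  refine ⟨even_iff_two_dvd.2 h2f, fun y hy hy2 => ?_,
    ⟨(FieldAut.centralizerConjEquiv ha hc).trans E⟩, (FieldAut.splitClassCount_conj ha hc).trans h3⟩
  obtain ⟨τ, k, -, hτ, hyk⟩ := AutPSL.gf_reduce hf hF (by omega) hy Nat.prime_two hy2
  obtain rfl : τ = σ := RingEquiv.ext fun z => by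
    rw [AutPSL.sigma_eq_pow hτ hF2, AutPSL.sigma_eq_pow hσ hF2]
  exact ⟨_, mul_mem ⟨k, rfl⟩ (inv_mem ⟨h, rfl⟩), by rw [hxh, hyk]; group⟩

end Cfsg.Agent.S2704
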