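import Cfsg.Statements.S2707
import Cfsg.Agent.Lib.GraphPSU.Desc
import Cfsg.Agent.S2700

set_option autoImplicit false
open Cfsg
open Cfsg.Agent.GraphPSU
open Cfsg.Agent.AutPSL (gam isGraph_iff orderOf_gam_iff)
open scoped Matrix

namespace Cfsg.Agent.S2707

/-- Let T = PSU_n(q) with n = 2m ≥ 4 even and q odd, realised over the field F with q² elements, and G = Inndiag(T) the image of PGU_n(q). The involutory graph automorphisms of T fall into exactly three G-classes, with representatives whose centralizers in G are isomorphic respectively to the projective conformal symplectic group PGSp_n(F₀), the projective conformal orthogonal group of the plus-type form Σ xᵢ yᵢ, and that of a minus-type form Σ xᵢ yᵢ + z₁² + a z₁ z₂ + b z₂² (anisotropic binary part) in dimension n, all over a field F₀ with q elements. -/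
theorem result {F : Type*} [Field F] [Fintype F] {q : ℕ} (hodd : Odd q) (hF : Fintype.card F = q ^ 2) {n m : ℕ} (hm : 2 ≤ m) (hnm : n = 2 * m) (F₀ : Type*) [Field F₀] [Fintype F₀] (hF₀ : Fintype.card F₀ = q) :
    ∃ (γ₁ γ₂ γ₃ : MulAut (Cfsg.PSU n F q)) (a b : F₀), (∀ z₁ z₂ : F₀, z₁ ^ 2 + a * z₁ * z₂ + b * z₂ ^ 2 = 0 → z₁ = 0 ∧ z₂ = 0) ∧ Cfsg.IsGraphAutClassPSU γ₁ ∧ orderOf γ₁ = 2 ∧ Cfsg.IsGraphAutClassPSU γ₂ ∧ orderOf γ₂ = 2 ∧ Cfsg.IsGraphAutClassPSU γ₃ ∧ orderOf γ₃ = 2 ∧ ¬ Cfsg.IsConjUnder (Cfsg.inndiagPSU n F q) γ₁ γ₂ ∧ ¬ Cfsg.IsConjUnder (Cfsg.inndiagPSU n F q) γ₁ γ₃ ∧ ¬ Cfsg.IsConjUnder (Cfsg.inndiagPSU n F q) γ₂ γ₃ ∧ (∀ γ : MulAut (Cfsg.PSU n F q), Cfsg.IsGraphAutClassPSU γ → orderOf γ = 2 → Cfsg.IsConjUnder (Cfsg.inndiagPSU n F q) γ₁ γ ∨ Cfsg.IsConjUnder (Cfsg.inndiagPSU n F q) γ₂ γ ∨ Cfsg.IsConjUnder (Cfsg.inndiagPSU n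 F q) γ₃ γ) ∧ Nonempty (↥(Cfsg.inndiagPSU n F q ⊓ Subgroup.centralizer {γ₁}) ≃* Cfsg.PGSp m F₀) ∧ Nonempty (↥(Cfsg.inndiagPSU n F q ⊓ Subgroup.centralizer {γ₂}) ≃* Cfsg.PGO F₀ (Cfsg.quadFormPlus m F₀)) ∧ Nonempty (↥(Cfsg.inndiagPSU n F q ⊓ Subgroup.centralizer {γ₃}) ≃* Cfsg.PGO F₀ (Cfsg.quadFormMinus (m - 1) F₀ a b)) := by
  obtain ⟨k, rfl⟩ : ∃ k, n = k + 2 := ⟨n - 2, by omega⟩
  obtain ⟨σ, e, C⟩ := exists_ctx hF hF₀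
  obtain ⟨δ₁, δ₂, δ₃, a, b, hab, g1, o1, g2, o2, g3, o3, n12, n13, n23, hall, ⟨E1⟩, ⟨E2⟩, ⟨E3⟩⟩ :=
    S2700.result (F := F₀) (by rw [hF₀]; exact hodd) hm hnm
  obtain ⟨hk, H₁, rfl, s1⟩ := Cfsg.Agent.AutPSL.graph_inv_exists g1 o1
  obtain ⟨-, H₂, rfl, s2⟩ := Cfsg.Agent.AutPSL.graph_inv_exists g2 o2
  obtain ⟨-, H₃, rfl, s3⟩ := Cfsg.Agent.AutPSL.graph_inv_exists g3 o3
  obtain ⟨B₁, D1, t1⟩ := exists_lift C s1
  obtain ⟨B₂, D2, t2⟩ := exists_lift C s2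
  obtain ⟨B₃, D3, t3⟩ := exists_lift C s3
  obtain ⟨C1⟩ := centralizer_desc C D1
  obtain ⟨C2⟩ := centralizer_desc C D2
  obtain ⟨C3⟩ := centralizer_desc C D3
  refine ⟨ugam σ B₁, ugam σ B₂, ugam σ B₃, a, b, hab, isGraph_ugam C hk _, (orderOf_ugam_iff C hk _).2 t1,
    isGraph_ugam C hk _, (orderOf_ugam_iff C hk _).2 t2, isGraph_ugam C hk _, (orderOf_ugam_iff C hk _).2 t3,
    fun h => n12 ((conj_iff C D1 D2).1 h), fun h => n13 ((conj_iff C D1 D3).1 h),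
    fun h => n23 ((conj_iff C D2 D3).1 h), ?_, ⟨C1.trans E1⟩, ⟨C2.trans E2⟩, ⟨C3.trans E3⟩⟩
  intro γ hγ hγ2
  obtain ⟨-, B, rfl, hB⟩ := Cfsg.Agent.GraphPSU.graph_inv_exists C hγ hγ2
  obtain ⟨H, D, hH⟩ := exists_desc C hB
  rcases hall (gam H) ((isGraph_iff _).2 ⟨hk, H, rfl⟩) ((orderOf_gam_iff hk H).2 hH) with h | h | h
  · exact Or.inl ((conj_iff C D1 D).2 h)
  · exact Or.inr (Or.inl ((conj_iff C D2 D).2 h))
  · exact Or.inr (Or.inr ((conj_iff C D3 D).2 h))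

end Cfsg.Agent.S2707
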