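import Cfsg.Statements.S2708
import Cfsg.Agent.Lib.GraphPSU.Desc
import Cfsg.Agent.S2701

set_option autoImplicit false
open Cfsg
open Cfsg.Agent.GraphPSU
open Cfsg.Agent.AutPSL (gam isGraph_iff orderOf_gam_iff)
open scoped Matrix

namespace Cfsg.Agent.S2708

/-- Let T = PSU_n(q) with n = 2m ≥ 4 even and q even, realised over the field F (of characteristic 2) with q² elements, and G = Inndiag(T) the image of PGU_n(q). The involutory graph automorphisms of T fall into exactly two G-classes, with representatives whose centralizers in G are isomorphic respectively to the symplectic group Sp_n(F₀) and to the centralizer in Sp_n(F₀) of a symplectic transvection, F₀ a field with q elements. -/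
theorem result {F : Type*} [Field F] [Fintype F] [CharP F 2] {q : ℕ} (hF : Fintype.card F = q ^ 2) {n m : ℕ} (hm : 2 ≤ m) (hnm : n = 2 * m) (F₀ : Type*) [Field F₀] [Fintype F₀] (hF₀ : Fintype.card F₀ = q) :
    ∃ (γ₁ γ₃ : MulAut (Cfsg.PSU n F q)) (t : ↥(Matrix.symplecticGroup (Fin m) F₀)), Cfsg.IsTransvection (t : Matrix (Fin m ⊕ Fin m) (Fin m ⊕ Fin m) F₀) ∧ Cfsg.IsGraphAutClassPSU γ₁ ∧ orderOf γ₁ = 2 ∧ Cfsg.IsGraphAutClassPSU γ₃ ∧ orderOf γ₃ = 2 ∧ ¬ Cfsg.IsConjUnder (Cfsg.inndiagPSU n F q) γ₁ γ₃ ∧ (∀ γ : MulAut (Cfsg.PSU n F q), Cfsg.IsGraphAutClassPSU γ → orderOf γ = 2 → Cfsg.IsConjUnder (Cfsg.inndiagPSU n F q) γ₁ γ ∨ Cfsg.IsConjUnder (Cfsg.inndiagPSU n F q) γ₃ γ) ∧ Nonempty (↥(Cfsg.inndiagPSU n F q ⊓ Subgroup.centralizer {γ₁}) ≃* ↥(Matrix.symplecticGroup (Fin m) F₀)) ∧ Nonempty (↥(Cfsg.inndiagPSU n F q ⊓ Subgroup.centralizer {γ₃}) ≃* ↥(Subgroup.centralizer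 ({t} : Set ↥(Matrix.symplecticGroup (Fin m) F₀)))) := by
  obtain ⟨k, rfl⟩ : ∃ k, n = k + 2 := ⟨n - 2, by omega⟩
  obtain ⟨σ, e, C⟩ := exists_ctx hF hF₀
  haveI : CharP F₀ 2 := (RingHom.charP_iff_charP e 2).2 inferInstance
  obtain ⟨δ₁, δ₃, t, ht, g1, o1, g3, o3, n13, hall, ⟨E1⟩, ⟨E3⟩⟩ := S2701.result (F := F₀) hm hnm
  obtain ⟨hk, H₁, rfl, s1⟩ := Cfsg.Agent.AutPSL.graph_inv_exists g1 o1
  obtain ⟨-, H₃, rfl, s3⟩ := Cfsg.Agent.AutPSL.graph_inv_exists g3 o3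
  obtain ⟨B₁, D1, t1⟩ := exists_lift C s1
  obtain ⟨B₃, D3, t3⟩ := exists_lift C s3
  obtain ⟨C1⟩ := centralizer_desc C D1
  obtain ⟨C3⟩ := centralizer_desc C D3
  refine ⟨ugam σ B₁, ugam σ B₃, t, ht, isGraph_ugam C hk _, (orderOf_ugam_iff C hk _).2 t1,
    isGraph_ugam C hk _, (orderOf_ugam_iff C hk _).2 t3, fun h => n13 ((conj_iff C D1 D3).1 h), ?_,
    ⟨C1.trans E1⟩, ⟨C3.trans E3⟩⟩
  intro γ hγ hγ2
  obtain ⟨-, B, rfl, hB⟩ := Cfsg.Agent.GraphPSU.graph_inv_exists C hγ hγ2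
  obtain ⟨H, D, hH⟩ := exists_desc C hB
  rcases hall (gam H) ((isGraph_iff _).2 ⟨hk, H, rfl⟩) ((orderOf_gam_iff hk H).2 hH) with h | h
  · exact Or.inl ((conj_iff C D1 D).2 h)
  · exact Or.inr ((conj_iff C D3 D).2 h)

end Cfsg.Agent.S2708
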