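import Cfsg.Statements.S2709
import Cfsg.Agent.Lib.GraphPSU.Split

set_option autoImplicit false
open Cfsg
open Cfsg.Agent.GraphPSU
open Cfsg.Agent.AutPSL (symm_not_PGSp skew_model)
open scoped Matrix

namespace Cfsg.Agent.S2709

/-- Let T = PSU_n(q) be simple (n ≥ 3, (n,q) ≠ (3,2), q = p^f), realised over the field F with q² elements, G = Inndiag(T) the image of PGU_n(q), and γ an involutory graph automorphism of T. The G-class of γ is the union of exactly c T-classes, where: if n is even and q is odd, c = gcd(n/2, q + 1) when C_G(γ) is isomorphic to PGSp_n(F₀) for a field F₀ with q elements (symplectic type) and c = gcd(n, q + 1)/2 otherwise; and c = gcd(n, q + 1) when n is odd or q is even. -/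
theorem result {F : Type*} [Field F] [Fintype F] {p f q : ℕ} [Fact p.Prime] (hq : q = p ^ f) (hf : 1 ≤ f) (hF : Fintype.card F = q ^ 2) {n : ℕ} (hn : 3 ≤ n) (hs : ¬ (n = 3 ∧ q = 2)) (F₀ : Type*) [Field F₀] [Fintype F₀] (hF₀ : Fintype.card F₀ = q) (γ : MulAut (Cfsg.PSU n F q)) (hγ : Cfsg.IsGraphAutClassPSU γ) (hγ2 : orderOf γ = 2) :
    ((Even n ∧ Odd q ∧ Nonempty (↥(Cfsg.inndiagPSU n F q ⊓ Subgroup.centralizer {γ}) ≃* Cfsg.PGSp (n / 2) F₀)) → Cfsg.splitClassCount (Cfsg.inndiagPSU n F q) (Cfsg.Inn (Cfsg.PSU n F q)) γ = Nat.gcd (n / 2) (q + 1)) ∧ ((Even n ∧ Odd q ∧ ¬ Nonempty (↥(Cfsg.inndiagPSU n F q ⊓ Subgroup.centralizer {γ}) ≃* Cfsg.PGSp (n / 2) F₀)) → Cfsg.splitClassCount (Cfsg.inndiagPSU n F q) (Cfsg.Inn (Cfsg.PSU n F q)) γ = Nat.gcd n (q + 1) / 2) ∧ (¬ (Even n ∧ Odd q) → Cfsg.splitClassCount (Cfsg.inndiagPSU n F q) (Cfsg.Inn (Cfsg.PSU n F q)) γ = Nat.gcd n (q + 1)) := by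
  obtain ⟨k, rfl⟩ : ∃ k, n = k + 2 := ⟨n - 2, by omega⟩
  obtain ⟨σ, e, C⟩ := exists_ctx hF hF₀
  obtain ⟨hk, B, rfl, hB⟩ := Cfsg.Agent.GraphPSU.graph_inv_exists C hγ hγ2
  obtain ⟨H, D, -⟩ := exists_desc C hB
  obtain ⟨E0⟩ := centralizer_desc C D
  refine ⟨fun ⟨⟨r, hr⟩, hq2, hE⟩ => ?_, fun ⟨⟨r, hr⟩, hq2, hE⟩ => ?_, fun h => ?_⟩
  · have hodd : Odd (Fintype.card F₀) := by rw [hF₀]; exact hq2
    have h2 : (2 : F₀) ≠ 0 := OrthOuter.two_ne_zero_of_odd hodd
    rw [show (k + 2) / 2 = r by omega] at hE ⊢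
    rcases hB with hB | hB
    · have hH : (H : Matrix (Fin (k + 2)) (Fin (k + 2)) F₀)ᵀ = (H : Matrix _ _ F₀) := by
        have := (desc_type C D 1).1 (by rw [map_one, one_smul]; exact hB)
        rwa [one_smul] at this
      obtain ⟨E⟩ := hE
      exact absurd ⟨E0.symm.trans E⟩ (symm_not_PGSp hodd (k := r) (by omega) hH)
    · exact split_skew C h2 (k := r) (by omega) hB
  · have hodd : Odd (Fintype.card F₀) := by rw [hF₀]; exact hq2
    have h2 : (2 : F₀) ≠ 0 := OrthOuter.two_ne_zero_of_odd hodd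
    rw [show (k + 2) / 2 = r by omega] at hE
    rcases hB with hB | hB
    · exact split_symm C h2 hq2 (k := r) (by omega) hB
    · have hH : (H : Matrix (Fin (k + 2)) (Fin (k + 2)) F₀)ᵀ = -(H : Matrix _ _ F₀) := by
        have := (desc_type C D (-1)).1 (by rw [map_neg, map_one, neg_one_smul]; exact hB)
        rwa [neg_one_smul] at this
      obtain ⟨E⟩ := skew_model h2 (k := r) (by omega) hH
      exact absurd ⟨E0.trans E⟩ hE
  · rcases Nat.even_or_odd (k + 2) with he | ho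
    · have hp2 : p = 2 := ((Fact.out : p.Prime).eq_two_or_odd').resolve_right fun hp =>
        h ⟨he, hq ▸ hp.pow⟩
      subst hp2
      have hF' : Fintype.card F = 2 ^ (f * 2) := by rw [hF, hq, ← pow_mul]
      exact split_small C B (Or.inr (charP_of_card_eq_prime_pow hF'))
    · exact split_small C B (Or.inl ho)

end Cfsg.Agent.S2709
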