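import Cfsg.Statements.S2710
import Cfsg.Agent.Lib.GraphPSU.Desc
import Cfsg.Agent.Lib.AutPSL.GraphModels

set_option autoImplicit false
open Cfsg
open Cfsg.Agent.GraphPSU
open Cfsg.Agent.AutPSL (gam isGraph_iff orderOf_gam_iff plus_model one_transpose)
open scoped Matrix

namespace Cfsg.Agent.S2710

/-- Let T = PSU_n(q) with n ≥ 4 divisible by 4 (n = 2m) and q odd, realised over the field F with q² elements, G = Inndiag(T) the image of PGU_n(q), and φ the standard field automorphism of T attached to the q-th power map of F (it induces inverse-transpose on the unitary matrices and is a graph automorphism). Its centralizer in G is isomorphic to the projective conformal orthogonal group of the plus-type form Σ xᵢ yᵢ in dimension n over a field F₀ with q elements. (Dimensions n ≡ 2 (mod 4) are not covered.) -/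
theorem result {F : Type*} [Field F] [Fintype F] {q : ℕ} (hodd : Odd q) (hF : Fintype.card F = q ^ 2) {n m : ℕ} (hm : 2 ≤ m) (hnm : n = 2 * m) (h4 : 4 ∣ n) (F₀ : Type*) [Field F₀] [Fintype F₀] (hF₀ : Fintype.card F₀ = q) (σ : F ≃+* F) (hσ : ∀ a : F, σ a = a ^ q) (φ : MulAut (Cfsg.PSU n F q)) (hφ : Cfsg.IsFieldAutPSUOf σ φ) :
    Nonempty (↥(Cfsg.inndiagPSU n F q ⊓ Subgroup.centralizer {φ}) ≃* Cfsg.PGO F₀ (Cfsg.quadFormPlus m F₀)) := by
  obtain ⟨k, rfl⟩ : ∃ k, n = k + 2 := ⟨n - 2, by omega⟩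
  obtain ⟨σ', e, C⟩ := exists_ctx hF hF₀
  obtain rfl : σ = σ' := RingEquiv.ext fun x => by rw [hσ, C.spow]
  have h1 : φ = ugam σ (1 : Cfsg.GU (k + 2) F q) := by
    rw [(isFieldAutOf_iff σ φ).1 hφ, ugam, inv_one, map_one, one_mul]
  have D : Desc σ e (1 : Cfsg.GU (k + 2) F q) (1 : GL (Fin (k + 2)) F₀) :=
    ⟨1, 1, 1, by simp, by simp⟩
  rw [h1]
  obtain ⟨E0⟩ := centralizer_desc C D
  have h2 : (2 : F₀) ≠ 0 := OrthOuter.two_ne_zero_of_odd (by rw [hF₀]; exact hodd)
  obtain ⟨r, hr⟩ : Even m := by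
    obtain ⟨c, hc⟩ := h4
    exact ⟨c, by omega⟩
  obtain ⟨E⟩ := plus_model h2 hnm one_transpose (B := (1 : GL (Fin (k + 2)) F₀))
    (by rw [Units.val_one, Matrix.det_one, one_mul, hr, (Even.add_self r).neg_one_pow]; exact IsSquare.one)
  exact ⟨E0.trans E⟩

end Cfsg.Agent.S2710
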