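import Cfsg.Statements.S2718
import Cfsg.Agent.Lib.OrthOuter.Involution

set_option autoImplicit false
open Cfsg Cfsg.Agent Cfsg.Agent.OrthOuter

namespace Cfsg.Agent.S2718

/-- Let T = PΩ⁺_{2m}(F) with m ≥ 4 and |F| = q odd, G = Inndiag(T), and γ an involutory graph automorphism of T induced by a similarity (one interchanging the two classes of maximal totally singular subspaces). Then the G-class of γ is either a single T-class or the union of exactly two T-classes, and it is the union of two unless m is odd and q ≡ 3 (mod 4). -/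
theorem result {F : Type*} [Field F] [Fintype F] (hodd : Odd (Fintype.card F)) {m : ℕ} (hm : 4 ≤ m) (γ : MulAut (Cfsg.POmega F (Cfsg.quadFormPlus m F))) (hγ : Cfsg.IsSimilarityGraphAutPOmegaPlus m γ) (hγ2 : orderOf γ = 2) :
    (Cfsg.splitClassCount (Cfsg.inndiagPOmegaPlus m F) (Cfsg.Inn (Cfsg.POmega F (Cfsg.quadFormPlus m F))) γ = 1 ∨ Cfsg.splitClassCount (Cfsg.inndiagPOmegaPlus m F) (Cfsg.Inn (Cfsg.POmega F (Cfsg.quadFormPlus m F))) γ = 2) ∧ (¬ (Odd m ∧ Fintype.card F % 4 = 3) → Cfsg.splitClassCount (Cfsg.inndiagPOmegaPlus m F) (Cfsg.Inn (Cfsg.POmega F (Cfsg.quadFormPlus m F))) γ = 2) := by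
  have h3 : 3 ≤ m := by omega
  have hC := ctxPlus (F := F) hodd h3
  obtain ⟨g, hg, hnp, hind⟩ := hγ
  have hsgn : sgn hC.exists_ne m ⟨g, hg⟩ ≠ 1 :=
    fun e => hnp ((preserves_plus_iff hodd h3 ⟨g, hg⟩).2 e)
  obtain rfl := (induced_iff (Q := Orth.quadPlus m F) ⟨g, hg⟩ γ).1 hind
  obtain ⟨h1, h2⟩ := splitCount hC (diagPlus hodd h3) hsgn (by
    rw [← hγ2]; exact pow_orderOf_eq_one _)
  rw [inndiagPlus_eq hodd h3]
  exact ⟨h1, fun h => h2 ((negOne_plus_iff hodd h3).2 h)⟩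

end Cfsg.Agent.S2718
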