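import Cfsg.Statements.S2719
import Cfsg.Agent.Lib.OrthOuter.Semi

set_option autoImplicit false
open Cfsg Cfsg.Agent Cfsg.Agent.OrthOuter

namespace Cfsg.Agent.S2719

/-- Let T = PΩ⁻_{2m+2}(F) with m ≥ 3 and |F| = q odd (form with anisotropic binary part z₁² + a z₁ z₂ + b z₂²), G = Inndiag(T), and γ an involutory graph automorphism of T (an automorphism in the image of the semisimilarity group, not inner-diagonal, of order 2). Then the G-class of γ is either a single T-class or the union of exactly two T-classes, and it is the union of two unless m is even and q ≡ 1 (mod 4). -/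
theorem result {F : Type*} [Field F] [Fintype F] (hodd : Odd (Fintype.card F)) {m : ℕ} (hm : 3 ≤ m) (a b : F) (hab : (∀ z₁ z₂ : F, z₁ ^ 2 + a * z₁ * z₂ + b * z₂ ^ 2 = 0 → z₁ = 0 ∧ z₂ = 0)) (γ : MulAut (Cfsg.POmega F (Cfsg.quadFormMinus m F a b))) (hγ : Cfsg.IsGraphAutClassPOmegaMinus m a b γ) (hγ2 : orderOf γ = 2) :
    (Cfsg.splitClassCount (Cfsg.inndiagPOmegaMinus m F a b) (Cfsg.Inn (Cfsg.POmega F (Cfsg.quadFormMinus m F a b))) γ = 1 ∨ Cfsg.splitClassCount (Cfsg.inndiagPOmegaMinus m F a b) (Cfsg.Inn (Cfsg.POmega F (Cfsg.quadFormMinus m F a b))) γ = 2) ∧ (¬ (Even m ∧ Fintype.card F % 4 = 1) → Cfsg.splitClassCount (Cfsg.inndiagPOmegaMinus m F a b) (Cfsg.Inn (Cfsg.POmega F (Cfsg.quadFormMinus m F a b))) γ = 2) := by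
  classical
  have h3 : 2 ≤ m := by omega
  have hC := ctxMinus (F := F) hodd h3 hab
  obtain ⟨hmem, hnot, -⟩ := hγ
  have hdisc : quadraticChar F
      ((-1) ^ (m + 1) * (Orth.gram ⇑(Orth.quadMinus m F a b)).det) = -1 := by
    rw [Orth.coe_quadMinus, Orth.det_gram_quadMinus, ← mul_assoc, ← mul_pow]
    norm_num
    exact chi_disc hodd hab
  obtain ⟨g, rfl⟩ := exists_sim_of_involution hC hdisc hmem (orderOf_dvd_iff_pow_eq_one.1 hγ2.dvd)
  have hsgn : sgn hC.exists_ne (m + 1) g ≠ 1 := fun e => hnot (by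
    rw [inndiagMinus_eq hodd h3 hab]; exact ⟨g, e, rfl⟩)
  obtain ⟨h1, h2⟩ := splitCount hC (diagMinus hodd h3 hab) hsgn (orderOf_dvd_iff_pow_eq_one.1 hγ2.dvd)
  rw [inndiagMinus_eq hodd h3 hab]
  refine ⟨h1, fun h => ?_⟩
  rcases Nat.even_or_odd m with he | ho
  · refine h2 ((negOne_minus_iff hodd h3 hab).2 ⟨he, ?_⟩)
    have h4 : Fintype.card F % 4 ≠ 1 := fun e => h ⟨he, e⟩
    have := Nat.odd_iff.1 hodd
    omega
  · exact splitCount_even hC (diagMinus hodd h3 hab) ho.add_one hsgn (orderOf_dvd_iff_pow_eq_one.1 hγ2.dvd)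

end Cfsg.Agent.S2719
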