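import Cfsg.Statements.S2738
import Cfsg.Agent.Lib.Linear.SLn

set_option autoImplicit false
open Cfsg
open scoped commutatorElement

namespace Cfsg.Agent.S2738

/-- The special linear group SL(3, 4) has centre of order 3 and does not split over it: no subgroup is a complement to the centre (so SL(3, 4) is a non-split central extension of PSL(3, 4) by a group of order 3). -/
theorem result (F : Type*) [Field F] [Fintype F] (hF : Fintype.card F = 4) : Nat.card ↥(Subgroup.center (Matrix.SpecialLinearGroup (Fin 3) F)) = 3 ∧ ¬ ∃ K : Subgroup (Matrix.SpecialLinearGroup (Fin 3) F), Subgroup.IsComplement' (Subgroup.center (Matrix.SpecialLinearGroup (Fin 3) F)) K := by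
  classical
  have hu : ∀ a : Fˣ, a ^ 3 = 1 := fun a => by
    have h1 : Fintype.card Fˣ = 3 := by rw [Fintype.card_units, hF]
    have h2 := pow_card_eq_one (x := a)
    rwa [h1] at h2
  have hc : Nat.card ↥(Subgroup.center (Matrix.SpecialLinearGroup (Fin 3) F)) = 3 := by
    rw [Nat.card_congr Matrix.SpecialLinearGroup.center_equiv_rootsOfUnity.toEquiv,
      Nat.card_eq_of_bijective (Subtype.val : rootsOfUnity (max (Fintype.card (Fin 3)) 1) F → Fˣ)
        ⟨Subtype.val_injective, fun a => ⟨⟨a, by simp [mem_rootsOfUnity, hu a]⟩, rfl⟩⟩,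
      Nat.card_eq_fintype_card, Fintype.card_units, hF]
  refine ⟨hc, ?_⟩
  rintro ⟨K, hK⟩
  have hle : _root_.commutator (Matrix.SpecialLinearGroup (Fin 3) F) ≤ K := by
    rw [_root_.commutator_def, Subgroup.commutator_le]
    intro a _ b _
    obtain ⟨⟨⟨z, hz⟩, k, hk⟩, rfl⟩ := hK.2 a
    obtain ⟨⟨⟨z', hz'⟩, k', hk'⟩, rfl⟩ := hK.2 b
    have h1 := Subgroup.mem_center_iff.1 hz
    have h2 := Subgroup.mem_center_iff.1 hz'
    have : ⁅z * k, z' * k'⁆ = ⁅k, k'⁆ := by
      rw [commutatorElement_def, commutatorElement_def]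
      calc z * k * (z' * k') * (z * k)⁻¹ * (z' * k')⁻¹
          = z * (k * z') * k' * k⁻¹ * z⁻¹ * k'⁻¹ * z'⁻¹ := by group
        _ = z * (z' * k) * k' * k⁻¹ * z⁻¹ * k'⁻¹ * z'⁻¹ := by rw [h2 k]
        _ = z * (z' * (k * k' * k⁻¹)) * z⁻¹ * k'⁻¹ * z'⁻¹ := by group
        _ = (z' * (k * k' * k⁻¹)) * z * z⁻¹ * k'⁻¹ * z'⁻¹ := by rw [h1 (z' * (k * k' * k⁻¹))]
        _ = z' * (k * k' * k⁻¹ * k'⁻¹) * z'⁻¹ := by group
        _ = (k * k' * k⁻¹ * k'⁻¹) * z' * z'⁻¹ := by rw [h2 (k * k' * k⁻¹ * k'⁻¹)]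
        _ = k * k' * k⁻¹ * k'⁻¹ := by group
    show ⁅z * k, z' * k'⁆ ∈ K
    rw [this, commutatorElement_def]
    exact mul_mem (mul_mem (mul_mem hk hk') (inv_mem hk)) (inv_mem hk')
  rw [Linear.commutator_sl_eq_top (Or.inl (by simp)), top_le_iff] at hle
  rw [hle, Subgroup.isComplement'_top_right] at hK
  rw [hK, Subgroup.card_bot] at hc
  norm_num at hc

end Cfsg.Agent.S2738
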