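import Cfsg.Statements.S2739
import Cfsg.Agent.EqLemmas

set_option autoImplicit false
open scoped Pointwise
open Cfsg

namespace Cfsg.Agent.S2739

open Matrix

/-- Cayley–Hamilton in dimension three. -/
theorem cayley_three {F : Type*} [Field F] (A : Matrix (Fin 3) (Fin 3) F) :
    A * A * A - A.trace • (A * A)
      + (A 0 0 * A 1 1 - A 0 1 * A 1 0 + (A 0 0 * A 2 2 - A 0 2 * A 2 0)
          + (A 1 1 * A 2 2 - A 1 2 * A 2 1)) • A
      - A.det • (1 : Matrix (Fin 3) (Fin 3) F) = 0 := by
  ext i j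
  fin_cases i <;> fin_cases j <;>
    simp [Matrix.mul_apply, Fin.sum_univ_three, Matrix.trace_fin_three, Matrix.det_fin_three] <;>
    ring

/-- The determinant of `A - l` in dimension three. -/
theorem det_sub_scalar {F : Type*} [Field F] (A : Matrix (Fin 3) (Fin 3) F) (l : F) :
    (A - l • (1 : Matrix (Fin 3) (Fin 3) F)).det = A.det
      - (A 0 0 * A 1 1 - A 0 1 * A 1 0 + (A 0 0 * A 2 2 - A 0 2 * A 2 0)
          + (A 1 1 * A 2 2 - A 1 2 * A 2 1)) * l + A.trace * l ^ 2 - l ^ 3 := by
  simp [Matrix.trace_fin_three, Matrix.det_fin_three]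
  ring

/-- An element of order three of `PSL(3, 4)` comes from a diagonalisable element of `SL(3, 4)`. -/
theorem exists_conj_diag {F : Type*} [Field F] [Fintype F] (hF : Fintype.card F = 4)
    (w : Fin 3 → F) (hw : Function.Injective w) (hw3 : ∀ i, w i ^ 3 = 1)
    (a : Matrix.SpecialLinearGroup (Fin 3) F) (ha : a ∉ Subgroup.center _)
    (ha3 : a ^ 3 ∈ Subgroup.center _) :
    ∃ g : Matrix.SpecialLinearGroup (Fin 3) F,
      (a : Matrix (Fin 3) (Fin 3) F) * g = (g : Matrix (Fin 3) (Fin 3) F) * Matrix.diagonal w := by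
  classical
  have hu : ∀ x : F, x ≠ 0 → x ^ 3 = 1 := fun x hx => by
    simpa [hF] using FiniteField.pow_card_sub_one_eq_one x hx
  obtain ⟨z, hz, hza⟩ := Matrix.SpecialLinearGroup.mem_center_iff.1 ha3
  rw [Fintype.card_fin] at hz
  set A : Matrix (Fin 3) (Fin 3) F := (a : Matrix (Fin 3) (Fin 3) F) with hA
  have hdet : A.det = 1 := a.prop
  have hns : ∀ c : F, A ≠ c • (1 : Matrix (Fin 3) (Fin 3) F) := by
    intro c hc
    refine ha (Matrix.SpecialLinearGroup.mem_center_iff.2 ⟨c, ?_, ?_⟩)
    · simpa [hc, Matrix.det_smul] using hdet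
    · ext i j
      simp [← hA, hc, Matrix.diagonal_apply, Matrix.one_apply]
  have hpow : A * A * A = z • (1 : Matrix (Fin 3) (Fin 3) F) := by
    have h1 : Matrix.scalar (Fin 3) z = A ^ 3 := by rw [hza]; simp [hA]
    have h2 : A * A * A = A ^ 3 := by simp [pow_succ]
    rw [h2, ← h1]
    ext i j
    simp [Matrix.diagonal_apply, Matrix.one_apply]
  have ch := cayley_three A
  have ds := det_sub_scalar A
  set t := A.trace
  set s := A 0 0 * A 1 1 - A 0 1 * A 1 0 + (A 0 0 * A 2 2 - A 0 2 * A 2 0)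
          + (A 1 1 * A 2 2 - A 1 2 * A 2 1)
  rw [hdet, hpow] at ch
  have hlin : ∀ c d : F, c • A + d • (1 : Matrix (Fin 3) (Fin 3) F) = 0 → c = 0 ∧ d = 0 := by
    intro c d h
    have hc : c = 0 := by
      by_contra hc
      apply hns (-d / c)
      have h2 : c • A = (-d) • (1 : Matrix (Fin 3) (Fin 3) F) := by
        rw [neg_smul]; exact eq_neg_of_add_eq_zero_left h
      calc A = c⁻¹ • (c • A) := by rw [smul_smul, inv_mul_cancel₀ hc, one_smul]
        _ = (-d / c) • (1 : Matrix (Fin 3) (Fin 3) F) := by rw [h2, smul_smul]; congr 1; ring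
    refine ⟨hc, ?_⟩
    rw [hc, zero_smul, zero_add] at h
    simpa using congrArg (fun M : Matrix (Fin 3) (Fin 3) F => M 0 0) h
  have hts : t = 0 ∧ s = 0 ∧ z = 1 := by
    by_cases ht : t = 0
    · have := hlin s (z - 1) (by
        rw [← ch, ht]; module)
      exact ⟨ht, this.1, sub_eq_zero.1 this.2⟩
    · exfalso
      set α : F := s / t
      set β : F := (z - 1) / t
      have hq : A * A = α • A + β • (1 : Matrix (Fin 3) (Fin 3) F) := by
        have : t • (A * A) = t • (α • A + β • (1 : Matrix (Fin 3) (Fin 3) F)) := by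
          rw [smul_add, smul_smul, smul_smul, mul_div_cancel₀ _ ht, mul_div_cancel₀ _ ht]
          rw [← sub_eq_zero, ← neg_eq_zero, ← ch]
          module
        exact smul_right_injective _ ht this
      have h3 : (α * α + β) • A + (α * β - z) • (1 : Matrix (Fin 3) (Fin 3) F) = 0 := by
        have : A * A * A = α • (A * A) + β • A := by
          conv_lhs => rw [hq]
          rw [add_mul, smul_mul_assoc, smul_mul_assoc, one_mul]
        rw [hpow, hq] at this
        rw [← sub_self (z • (1 : Matrix (Fin 3) (Fin 3) F))]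
        conv_rhs => arg 1; rw [this]
        module
      obtain ⟨e1, e2⟩ := hlin _ _ h3
      have hz0 : z ≠ 0 := fun h => by rw [h] at hz; simp at hz
      have hα : α ≠ 0 := by
        intro h; rw [h] at e2; apply hz0; linear_combination -e2
      have h2 : (2 : F) = 0 := by
        have h4 : ((Fintype.card F : ℕ) : F) = 0 := Nat.cast_card_eq_zero F
        rw [hF] at h4
        have h5 : (2 : F) * 2 = 0 := by rw [← h4]; push_cast; norm_num
        exact mul_self_eq_zero.1 h5
      have hz1 : z = 1 := by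
        have := hu α hα
        linear_combination α * e1 - e2 - this - h2
      have hb : β = 0 := by simp [β, hz1]
      rw [hb, mul_zero, zero_sub, neg_eq_zero] at e2
      exact hz0 e2
  obtain ⟨ht, hs, -⟩ := hts
  have hev : ∀ i, ∃ v : Fin 3 → F, v ≠ 0 ∧ A *ᵥ v = w i • v := by
    intro i
    have : (A - w i • (1 : Matrix (Fin 3) (Fin 3) F)).det = 0 := by
      rw [ds, hdet, ht, hs, hw3]; ring
    obtain ⟨v, hv, hv'⟩ := Matrix.exists_mulVec_eq_zero_iff.2 this
    refine ⟨v, hv, ?_⟩
    rwa [Matrix.sub_mulVec, sub_eq_zero, Matrix.smul_mulVec, Matrix.one_mulVec] at hv'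
  choose v hv0 hv using hev
  set g : Matrix (Fin 3) (Fin 3) F := Matrix.of fun i j => v j i with hg
  have hgd : g.det ≠ 0 := by
    have hli : LinearIndependent F v :=
      Module.End.eigenvectors_linearIndependent' (Matrix.toLin' A) w hw v fun i =>
        Module.End.hasEigenvector_iff.2
          ⟨Module.End.mem_eigenspace_iff.2 (by rw [Matrix.toLin'_apply]; exact hv i), hv0 i⟩
    have hu' : IsUnit g := Matrix.linearIndependent_cols_iff_isUnit.1 hli
    exact ((Matrix.isUnit_iff_isUnit_det g).1 hu').ne_zero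
  have hAg : A * g = g * Matrix.diagonal w := by
    ext i j
    rw [Matrix.mul_diagonal, Matrix.mul_apply]
    have := congrFun (hv j) i
    simp only [Matrix.mulVec, dotProduct, Pi.smul_apply, smul_eq_mul] at this
    simpa [hg, mul_comm] using this
  let k : Fin 3 → F := ![g.det⁻¹, 1, 1]
  refine ⟨⟨g * Matrix.diagonal k, ?_⟩, ?_⟩
  · rw [Matrix.det_mul, Matrix.det_diagonal, Fin.prod_univ_three]
    simp [k, hgd]
  · show A * (g * Matrix.diagonal k) = g * Matrix.diagonal k * Matrix.diagonal w
    rw [← Matrix.mul_assoc, hAg, Matrix.mul_assoc, Matrix.mul_assoc]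
    simp [mul_comm]

/-- In the projective special linear group PSL(3, 4) all subgroups of order 3 are conjugate. -/
theorem result (F : Type*) [Field F] [Fintype F] (hF : Fintype.card F = 4) (X Y : Subgroup (Matrix.ProjectiveSpecialLinearGroup (Fin 3) F)) (hX : Nat.card ↥X = 3) (hY : Nat.card ↥Y = 3) : ∃ g : Matrix.ProjectiveSpecialLinearGroup (Fin 3) F, MulAut.conj g • X = Y := by
  classical
  haveI : Fact (Nat.Prime 3) := ⟨Nat.prime_three⟩
  obtain ⟨r, hr0, hr1⟩ : ∃ r : F, r ≠ 0 ∧ r ≠ 1 := by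
    by_contra! h
    have hle : Fintype.card F ≤ Fintype.card Bool :=
      Fintype.card_le_of_surjective (fun b : Bool => if b then (1 : F) else 0) fun x => by
        by_cases hx : x = 0
        · exact ⟨false, by simp [hx]⟩
        · exact ⟨true, by simp [h x hx]⟩
    simp [hF] at hle
  have hr3 : r ^ 3 = 1 := by simpa [hF] using FiniteField.pow_card_sub_one_eq_one r hr0
  let w : Fin 3 → F := ![1, r, r ^ 2]
  have hw : Function.Injective w := by
    have h12 : r ≠ r ^ 2 := fun h => hr1 (mul_left_cancel₀ hr0 (by linear_combination -h))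
    have h02 : (1 : F) ≠ r ^ 2 := fun h => hr1 (by linear_combination hr3 + r * h)
    intro i j
    fin_cases i <;> fin_cases j <;> simp [w, hr1, Ne.symm hr1, h12, h12.symm, h02, h02.symm]
  have hw3 : ∀ i, w i ^ 3 = 1 := by
    intro i; fin_cases i <;> simp [w, hr3]
    rw [← pow_mul, show (2 * 3 : ℕ) = 3 * 2 by norm_num, pow_mul, hr3, one_pow]
  let d : Matrix.SpecialLinearGroup (Fin 3) F := ⟨Matrix.diagonal w, by
    rw [Matrix.det_diagonal, Fin.prod_univ_three]
    simp only [w, Matrix.cons_val_zero, Matrix.cons_val_one, Matrix.cons_val_two, one_mul]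
    simpa [pow_succ, mul_assoc] using hr3⟩
  suffices H : ∀ Z : Subgroup (Matrix.ProjectiveSpecialLinearGroup (Fin 3) F), Nat.card ↥Z = 3 →
      ∃ g, Z = MulAut.conj g • Subgroup.zpowers
        (QuotientGroup.mk d : Matrix.ProjectiveSpecialLinearGroup (Fin 3) F) by
    obtain ⟨g, hg⟩ := H X hX
    obtain ⟨k, hk⟩ := H Y hY
    exact ⟨k * g⁻¹, by rw [hg, hk, ← mul_smul, ← map_mul, inv_mul_cancel_right]⟩
  intro Z hZ
  obtain ⟨⟨x, hx⟩, hx1⟩ : ∃ x : Z, x ≠ 1 := by
    haveI : Nontrivial Z := Finite.one_lt_card_iff_nontrivial.1 (by omega)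
    exact exists_ne 1
  have hzp : Z = Subgroup.zpowers x := by
    have h := zpowers_eq_top_of_prime_card hZ hx1
    have := congrArg (Subgroup.map Z.subtype) h
    rwa [MonoidHom.map_zpowers, ← MonoidHom.range_eq_map, Subgroup.range_subtype, eq_comm] at this
  obtain ⟨a, rfl⟩ := QuotientGroup.mk_surjective x
  have ha : a ∉ Subgroup.center _ := fun h => hx1 (Subtype.ext ((QuotientGroup.eq_one_iff a).2 h))
  have ha3 : a ^ 3 ∈ Subgroup.center _ := by
    rw [← QuotientGroup.eq_one_iff, QuotientGroup.mk_pow]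
    have := pow_card_eq_one' (x := (⟨_, hx⟩ : Z))
    rw [hZ] at this
    exact congrArg Subtype.val this
  obtain ⟨g, hg⟩ := exists_conj_diag hF w hw hw3 a ha ha3
  refine ⟨QuotientGroup.mk g, ?_⟩
  have hag : a * g = g * d := Subtype.ext hg
  have hc : (MulAut.conj (QuotientGroup.mk g : Matrix.ProjectiveSpecialLinearGroup (Fin 3) F))
      (QuotientGroup.mk d) = QuotientGroup.mk a := by
    rw [MulAut.conj_apply, ← QuotientGroup.mk_inv, ← QuotientGroup.mk_mul, ← QuotientGroup.mk_mul,
      ← hag, mul_inv_cancel_right]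
  rw [hzp]
  exact ((MonoidHom.map_zpowers (MulAut.conj
    (QuotientGroup.mk g : Matrix.ProjectiveSpecialLinearGroup (Fin 3) F)).toMonoidHom _).trans
      (congrArg _ hc)).symm

end Cfsg.Agent.S2739
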