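import Cfsg.Statements.S2751
import Cfsg.Agent.EqLemmas
import Cfsg.Agent.S2858
import Cfsg.Agent.Lib.Amalgam33.Top
import Cfsg.Agent.Lib.Amalgam.CosetGraph

set_option autoImplicit false
open Cfsg

namespace Cfsg.Agent.S2751

section

open Cfsg.Agent.ThompsonWielandt Cfsg.Agent.ThompsonWielandt.Cubic

/-- One side of the amalgam: `T` is a 2-subgroup of index 3 in `R`, larger than `O₂(R)`. -/
structure Side {H : Type*} [Group H] (R T : Subgroup H) : Prop where
  le : T ≤ R
  idx : T.relIndex R = 3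
  pg : IsPGroup 2 ↥T
  lt : Nat.card ↥(Cfsg.pCoreOf 2 R) < Nat.card ↥T

theorem Side.map {H : Type*} [Group H] {R T : Subgroup H} (h : Side R T) (e : H ≃* H) :
    Side (R.map e.toMonoidHom) (T.map e.toMonoidHom) where
  le := Subgroup.map_mono h.le
  idx := (Subgroup.relIndex_map_map_of_injective _ _ e.injective).trans h.idx
  pg := h.pg.map _
  lt := by
    rw [Cfsg.Agent.Amalgam.pCoreOf_map, Subgroup.card_map_of_injective e.injective,
      Subgroup.card_map_of_injective e.injective]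
    exact h.lt

theorem card_inf_le {X : Type*} [Group X] [Finite X] (R₁ R₂ : Subgroup X) (hgen : R₁ ⊔ R₂ = ⊤)
    (hcore : ∀ N : Subgroup X, N ≤ R₁ ⊓ R₂ → N.Normal → N = ⊥)
    (s₁ : Side R₁ (R₁ ⊓ R₂)) (s₂ : Side R₂ (R₁ ⊓ R₂)) :
    Nat.card ↥(R₁ ⊓ R₂) ≤ 2 ^ 7 := by
  let Γ := Cfsg.cosetGraph R₁ R₂
  have edge : ∀ {u x : Cfsg.CosetVertex R₁ R₂}, Γ.Adj u x →
      Side (MulAction.stabilizer X u) (MulAction.stabilizer X u ⊓ MulAction.stabilizer X x) := by
    intro u x h
    obtain ⟨g, ⟨rfl, rfl⟩ | ⟨rfl, rfl⟩⟩ := Cfsg.Agent.Amalgam.adj_iff.mp h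
    · have h' := s₁.map (MulAut.conj g)
      rw [← Cfsg.Agent.Amalgam.edgeStabilizer_base (M₁ := R₁) (M₂ := R₂)] at h'
      conv at h' => arg 1; arg 2; rw [← Cfsg.Agent.Amalgam.stabilizer_baseL (M₁ := R₁) (M₂ := R₂)]
      rw [← Cfsg.Agent.Amalgam.stabilizer_smul', ← Cfsg.Agent.Amalgam.edgeStabilizer_smul] at h'
      exact h'
    · have h' := s₂.map (MulAut.conj g)
      rw [← Cfsg.Agent.Amalgam.edgeStabilizer_base' (M₁ := R₁) (M₂ := R₂)] at h'
      conv at h' => arg 1; arg 2; rw [← Cfsg.Agent.Amalgam.stabilizer_baseR (M₁ := R₁) (M₂ := R₂)]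
      rw [← Cfsg.Agent.Amalgam.stabilizer_smul', ← Cfsg.Agent.Amalgam.edgeStabilizer_smul] at h'
      exact h'
  have adj_fix : ∀ {u x : Cfsg.CosetVertex R₁ R₂}, Γ.Adj u x → ∀ {g : X}, g • u = u →
      Γ.Adj u (g • x) := fun {u x} h {g} hg => by
    have h' := Cfsg.Agent.Amalgam.adj_smul g h
    rwa [hg] at h'
  have three : ∀ {u x : Cfsg.CosetVertex R₁ R₂}, Γ.Adj u x → ∃ y z, Γ.Adj u y ∧ Γ.Adj u z ∧
      y ≠ x ∧ z ≠ x ∧ z ≠ y ∧ ∀ w, Γ.Adj u w → w = x ∨ w = y ∨ w = z := by
    intro u x hx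
    have hidx : (MulAction.stabilizer X x).relIndex (MulAction.stabilizer X u) = 3 := by
      have := (edge hx).idx
      rwa [Subgroup.inf_relIndex_left] at this
    have hs : (MulAction.stabilizer X x).subgroupOf (MulAction.stabilizer X u) =
        MulAction.stabilizer (MulAction.stabilizer X u) x := by
      ext g; simp [Subgroup.mem_subgroupOf, MulAction.mem_stabilizer_iff, Subgroup.smul_def]
    rw [Subgroup.relIndex, hs, MulAction.index_stabilizer, Set.ncard_eq_three] at hidx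
    obtain ⟨a, b, c, hab, hac, hbc, he⟩ := hidx
    have hmem : ∀ w, w = a ∨ w = b ∨ w = c ↔ Γ.Adj u w := fun w => by
      have : w ∈ MulAction.orbit (MulAction.stabilizer X u) x ↔ Γ.Adj u w := by
        constructor
        · rintro ⟨⟨g, hg⟩, rfl⟩
          exact adj_fix hx hg
        · intro hw
          obtain ⟨g, hg, hgw⟩ := Cfsg.Agent.Amalgam.exists_mem_stabilizer_smul_eq hx hw
          exact ⟨⟨g, hg⟩, hgw⟩
      have h2 := (Set.ext_iff.mp he w).symm.trans this
      simpa using h2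
    rcases (hmem x).mpr hx with rfl | rfl | rfl
    · exact ⟨b, c, (hmem b).mp (by simp), (hmem c).mp (by simp), hab.symm, hac.symm, hbc.symm,
        fun w hw => (hmem w).mpr hw⟩
    · exact ⟨a, c, (hmem a).mp (by simp), (hmem c).mp (by simp), hab, hbc.symm, hac.symm,
        fun w hw => by rcases (hmem w).mpr hw with h | h | h <;> simp [h]⟩
    · exact ⟨a, b, (hmem a).mp (by simp), (hmem b).mp (by simp), hac, hbc, hab.symm,
        fun w hw => by rcases (hmem w).mpr hw with h | h | h <;> simp [h]⟩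
  let S : Amalgam33.Cubic X (Cfsg.CosetVertex R₁ R₂) :=
    { Adj := Γ.Adj
      symm := fun h => h.symm
      smul := fun g _ _ h => Cfsg.Agent.Amalgam.adj_smul g h
      trans := fun {u x y} hx hy => by
        obtain ⟨g, hg, hgx⟩ := Cfsg.Agent.Amalgam.exists_mem_stabilizer_smul_eq hx hy
        exact ⟨g, hg, hgx⟩
      three := three
      two := fun h => (edge h).pg
      swap := fun {u x y z} hx hy hz hyx hzx => by
        by_cases hzy : z = y
        · exact ⟨1, one_smul _ _, one_smul _ _, by rw [one_smul, hzy]⟩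
        obtain ⟨g, hgu, hgx, hgy⟩ : ∃ g : X, g • u = u ∧ g • x = x ∧ g • y ≠ y := by
          by_contra hno
          push Not at hno
          set E := MulAction.stabilizer X u ⊓ MulAction.stabilizer X x with hE
          have hle : E ≤ MulAction.stabilizer X u ⊓ MulAction.stabilizer X y :=
            fun g hg => ⟨hg.1, hno g hg.1 hg.2⟩
          obtain ⟨k, hk, hkx⟩ := Cfsg.Agent.Amalgam.exists_mem_stabilizer_smul_eq hx hy
          have hmap : E.map (MulAut.conj k).toMonoidHom =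
              MulAction.stabilizer X u ⊓ MulAction.stabilizer X y := by
            rw [hE, Subgroup.map_inf _ _ _ (MulAut.conj k).injective,
              ← MulAction.stabilizer_smul_eq_stabilizer_map_conj,
              ← MulAction.stabilizer_smul_eq_stabilizer_map_conj, hkx,
              MulAction.mem_stabilizer_iff.mp hk]
          have heq : E = MulAction.stabilizer X u ⊓ MulAction.stabilizer X y :=
            Subgroup.eq_of_le_of_card_ge hle (by
              rw [← hmap, Subgroup.card_map_of_injective (MulAut.conj k).injective])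
          have hkn : k ∈ Subgroup.normalizer (E : Set X) :=
            Subgroup.mem_normalizer_iff_map_conj_eq.mpr (hmap.trans heq.symm)
          rcases eq_or_eq_of_relIndex_three (le_inf inf_le_left Subgroup.le_normalizer :
              E ≤ MulAction.stabilizer X u ⊓ Subgroup.normalizer (E : Set X)) inf_le_left
              (edge hx).idx with h | h
          · exact hyx (hkx.symm.trans (h.le ⟨hk, hkn⟩).2)
          · have h1 : E ≤ Cfsg.pCoreOf 2 (MulAction.stabilizer X u) :=
              le_pCoreOf inf_le_left (edge hx).pg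
                (isSubnormal_subgroupOf_of_normal (h.ge.trans inf_le_right))
            exact absurd (Subgroup.card_le_of_le h1) (not_le.mpr (edge hx).lt)
        refine ⟨g, hgu, hgx, ?_⟩
        obtain ⟨y', z', -, -, hy'x, hz'x, hz'y', hall⟩ := three hx
        have hne : g • y ≠ x := fun e => hyx (MulAction.injective g (e.trans hgx.symm))
        rcases hall y hy with rfl | rfl | rfl
        · exact absurd rfl hyx
        all_goals
          rcases hall z hz with rfl | rfl | rfl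
          all_goals first
            | exact absurd rfl hzy
            | exact absurd rfl hzx
            | (rcases hall _ (adj_fix hy hgu) with h | h | h
               all_goals first
                 | exact h
                 | exact absurd h hne
                 | exact absurd h hgy)
      reach := fun u v => (SimpleGraph.reachable_iff_reflTransGen u v).mp
        ((Cfsg.Agent.Amalgam.connected hgen) u v)
      faithful := fun g hg => by
        have h := Cfsg.Agent.Amalgam.eq_bot_of_fixes_all (M₁ := R₁) (M₂ := R₂) hcore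
          (T := Subgroup.zpowers g) (fun v => Subgroup.zpowers_le.mpr (hg v))
        exact Subgroup.zpowers_eq_bot.mp h }
  have h := S.card_le (Cfsg.Agent.Amalgam.adj_base (M₁ := R₁) (M₂ := R₂))
  rwa [Cfsg.Agent.Amalgam.stabilizer_baseL, Cfsg.Agent.Amalgam.stabilizer_baseR] at h

theorem side_range {G H : Type*} [Group G] [Group H] (P B : Subgroup G) [Finite ↥P] (hBP : B ≤ P)
    (hB : IsPGroup 2 ↥B) (h6 : Nat.card ↥P = 6 * Nat.card ↥(Cfsg.pCore 2 ↥P))
    (h3 : B.relIndex P = 3) (g : ↥P →* H) (hg : Function.Injective g) :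
    Side g.range ((B.subgroupOf P).map g) where
  le := Subgroup.map_le_range _ _
  idx := by
    rw [MonoidHom.range_eq_map, Subgroup.relIndex_map_map_of_injective _ _ hg,
      Subgroup.relIndex_top_right]
    exact h3
  pg := (hB.of_equiv (Subgroup.subgroupOfEquivOfLe hBP).symm).map _
  lt := by
    rw [S2858.Q_range g hg, Subgroup.card_map_of_injective hg, Subgroup.card_map_of_injective hg,
      Nat.card_congr (Subgroup.subgroupOfEquivOfLe hBP).toEquiv]
    have h := relIndex_mul_card_inf B P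
    rw [h3, inf_eq_left.mpr hBP, h6] at h
    have := Nat.card_pos (α := ↥(Cfsg.pCore 2 ↥P))
    omega

theorem core_subset {G : Type*} [Group G] {P : Subgroup G} {N : Subgroup G} (hN : N ≤ P)
    (h : ∀ x ∈ P, ∀ t ∈ N, x * t * x⁻¹ ∈ N) : (N.subgroupOf P).Normal :=
  (Subgroup.normal_subgroupOf_iff_le_normalizer hN).2 (S2858.le_normalizer_of_forall h)

end

/-- Goldschmidt's bound for amalgams of index (3, 3): let M₁ and M₂ be finite subgroups of a group G such that M₁ ⊓ M₂ is a Sylow 2-subgroup of both M₁ and M₂, each quotient Mᵢ / O₂(Mᵢ) is isomorphic to the symmetric group of degree 3, and no nontrivial subgroup of M₁ ⊓ M₂ is normal in both M₁ and M₂. Then M₁ ⊓ M₂ has order at most 2^7. -/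
theorem result {G : Type*} [Group G] (M₁ M₂ : Subgroup G) [Finite M₁] [Finite M₂] (ha₁ : ∃ P : Sylow 2 M₁, (P : Subgroup M₁) = (M₁ ⊓ M₂).subgroupOf M₁) (ha₂ : ∃ P : Sylow 2 M₂, (P : Subgroup M₂) = (M₁ ⊓ M₂).subgroupOf M₂) (hb₁ : Nonempty (M₁ ⧸ Cfsg.pCore 2 M₁ ≃* Equiv.Perm (Fin 3))) (hb₂ : Nonempty (M₂ ⧸ Cfsg.pCore 2 M₂ ≃* Equiv.Perm (Fin 3))) (hc : ∀ N : Subgroup G, N ≤ M₁ ⊓ M₂ → (N.subgroupOf M₁).Normal → (N.subgroupOf M₂).Normal → N = ⊥) : Nat.card ↥(M₁ ⊓ M₂) ≤ 2 ^ 7 := by
  classical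
  obtain ⟨c1, i1, q1⟩ := S2858.facts M₁ _ ha₁ hb₁
  obtain ⟨c2, i2, q2⟩ := S2858.facts M₂ _ ha₂ hb₂
  have i1' := i1
  have i2' := i2
  rw [Subgroup.inf_relIndex_left] at i1'
  rw [Subgroup.inf_relIndex_right] at i2'
  obtain ⟨f₁, f₂, hf₁, hf₂, hcomp⟩ := S2858.exists_completion M₁ M₂ (i1'.trans i2'.symm)
  let J : Subgroup (Equiv.Perm ↥M₁) := f₁.range ⊔ f₂.range
  let g₁ : ↥M₁ →* ↥J := f₁.codRestrict J fun x => (le_sup_left : f₁.range ≤ J) ⟨x, rfl⟩
  let g₂ : ↥M₂ →* ↥J := f₂.codRestrict J fun x => (le_sup_right : f₂.range ≤ J) ⟨x, rfl⟩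
  have hg₁ : Function.Injective g₁ := fun x y h => hf₁ (congrArg Subtype.val h)
  have hg₂ : Function.Injective g₂ := fun x y h => hf₂ (congrArg Subtype.val h)
  have hcomp' : ∀ t (h1 : t ∈ M₁) (h2 : t ∈ M₂), g₁ ⟨t, h1⟩ = g₂ ⟨t, h2⟩ :=
    fun t h1 h2 => Subtype.ext (hcomp t h1 h2)
  set B := M₁ ⊓ M₂ with hBdef
  have hBp : IsPGroup 2 ↥B := by
    obtain ⟨P, hP⟩ := ha₁
    have h := P.isPGroup'
    rw [hP] at h
    exact h.of_equiv (Subgroup.subgroupOfEquivOfLe inf_le_left)
  have hTeq : (B.subgroupOf M₁).map g₁ = (B.subgroupOf M₂).map g₂ := by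
    ext y
    constructor
    · rintro ⟨⟨t, ht⟩, ht', rfl⟩
      exact ⟨⟨t, (Subgroup.mem_subgroupOf.mp ht').2⟩, ht', (hcomp' t ht _).symm⟩
    · rintro ⟨⟨t, ht⟩, ht', rfl⟩
      exact ⟨⟨t, (Subgroup.mem_subgroupOf.mp ht').1⟩, ht', hcomp' t _ ht⟩
  set T := (B.subgroupOf M₁).map g₁ with hTdef
  have s₁ : Side g₁.range T := side_range M₁ B inf_le_left hBp c1 i1 g₁ hg₁
  have s₂ : Side g₂.range T := hTeq ▸ side_range M₂ B inf_le_right hBp c2 i2 g₂ hg₂
  have hcardT : Nat.card ↥T = Nat.card ↥B := by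
    rw [hTdef, Subgroup.card_map_of_injective hg₁,
      Nat.card_congr (Subgroup.subgroupOfEquivOfLe (inf_le_left : B ≤ M₁)).toEquiv]
  rcases Cfsg.Agent.ThompsonWielandt.Cubic.eq_or_eq_of_relIndex_three (le_inf s₁.le s₂.le)
      inf_le_left s₁.idx with hinf | hinf
  · rw [← hcardT, ← hinf]
    refine card_inf_le g₁.range g₂.range ?_ (fun N hN hNn => ?_) (hinf.symm ▸ s₁) (hinf.symm ▸ s₂)
    · apply Subgroup.map_injective (f := J.subtype) J.subtype_injective
      rw [Subgroup.map_sup, MonoidHom.map_range, MonoidHom.map_range, ← MonoidHom.range_eq_map,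
        Subgroup.range_subtype]
      rfl
    · have hNT : N ≤ T := hinf ▸ hN
      set X := (N.comap g₁).map M₁.subtype with hX
      have hXB : X ≤ B := by
        rintro _ ⟨y, hy, rfl⟩
        obtain ⟨t, ht, e⟩ := hNT hy
        rw [← hg₁ e]
        exact ht
      have hmem : ∀ t (h1 : t ∈ M₁) (h2 : t ∈ M₂), t ∈ X ↔ g₂ ⟨t, h2⟩ ∈ N := by
        intro t h1 h2
        rw [← hcomp' t h1 h2]
        exact ⟨fun ⟨y, hy, e⟩ => (show y = ⟨t, h1⟩ from Subtype.ext e) ▸ hy,
          fun hy => ⟨_, hy, rfl⟩⟩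
      have h0 : X = ⊥ := by
        refine hc X hXB (core_subset (hXB.trans inf_le_left) fun x hx t ht => ?_)
          (core_subset (hXB.trans inf_le_right) fun x hx t ht => ?_)
        · obtain ⟨y, hy, rfl⟩ := ht
          refine ⟨⟨x, hx⟩ * y * ⟨x, hx⟩⁻¹, ?_, rfl⟩
          show g₁ (⟨x, hx⟩ * y * ⟨x, hx⟩⁻¹) ∈ N
          rw [map_mul, map_mul, map_inv]
          exact hNn.conj_mem _ hy _
        · obtain ⟨h1, h2⟩ := hXB ht
          have hy := hNn.conj_mem _ ((hmem t h1 h2).mp ht) (g₂ ⟨x, hx⟩)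
          rw [← map_inv, ← map_mul, ← map_mul] at hy
          obtain ⟨t', ht', e⟩ := hTeq ▸ hNT hy
          have e' := hg₂ e
          subst e'
          exact (hmem _ ht'.1 ht'.2).mpr hy
      rw [Subgroup.eq_bot_iff_forall]
      intro y hy
      obtain ⟨t, -, rfl⟩ := hNT hy
      have ht : (t : G) ∈ X := ⟨t, hy, rfl⟩
      rw [h0, Subgroup.mem_bot] at ht
      rw [show t = 1 from Subtype.ext ht, map_one]
  · -- then the two images coincide and `O₂` is trivial
    have hle : g₁.range ≤ g₂.range := hinf.ge.trans inf_le_right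
    have hcard : Nat.card ↥M₁ = Nat.card ↥M₂ := by
      have e1 := Cfsg.Agent.ThompsonWielandt.Cubic.relIndex_mul_card s₁.le
      have e2 := Cfsg.Agent.ThompsonWielandt.Cubic.relIndex_mul_card s₂.le
      rw [s₁.idx, ← Nat.card_congr (MonoidHom.ofInjective hg₁).toEquiv] at e1
      rw [s₂.idx, ← Nat.card_congr (MonoidHom.ofInjective hg₂).toEquiv] at e2
      omega
    have he : g₁.range = g₂.range := Subgroup.eq_of_le_of_card_ge hle (by
      rw [← Nat.card_congr (MonoidHom.ofInjective hg₁).toEquiv,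
        ← Nat.card_congr (MonoidHom.ofInjective hg₂).toEquiv, hcard])
    have hQ : (Cfsg.pCore 2 ↥M₁).map g₁ = (Cfsg.pCore 2 ↥M₂).map g₂ := by
      rw [← S2858.Q_range g₁ hg₁, ← S2858.Q_range g₂ hg₂, he]
    have hN : Cfsg.pCoreOf 2 M₁ = Cfsg.pCoreOf 2 M₂ := by
      ext z
      constructor
      · intro hz
        have hz' := q1 hz
        obtain ⟨y, hy, rfl⟩ := hz
        have hm : g₁ y ∈ (Cfsg.pCore 2 ↥M₁).map g₁ := ⟨y, hy, rfl⟩
        rw [hQ] at hm
        obtain ⟨y', hy', e'⟩ := hm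
        exact ⟨y', hy', congrArg Subtype.val (hg₂ (e'.trans (hcomp' y y.2 hz'.2)))⟩
      · intro hz
        have hz' := q2 hz
        obtain ⟨y, hy, rfl⟩ := hz
        have hm : g₂ y ∈ (Cfsg.pCore 2 ↥M₂).map g₂ := ⟨y, hy, rfl⟩
        rw [← hQ] at hm
        obtain ⟨y', hy', e'⟩ := hm
        exact ⟨y', hy', congrArg Subtype.val (hg₁ (e'.trans (hcomp' y hz'.1 y.2).symm))⟩
    have h0 := hc _ q1
      ((Subgroup.normal_subgroupOf_iff_le_normalizer (q1.trans inf_le_left)).2
        (Cfsg.Agent.ThompsonWielandt.le_normalizer_pCoreOf 2 M₁))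
      ((Subgroup.normal_subgroupOf_iff_le_normalizer (q1.trans inf_le_right)).2
        (hN ▸ Cfsg.Agent.ThompsonWielandt.le_normalizer_pCoreOf 2 M₂))
    have h1 : Nat.card ↥(Cfsg.pCore 2 ↥M₁) = 1 := by
      rw [← Subgroup.card_map_of_injective M₁.subtype_injective]
      exact Subgroup.card_eq_one.mpr h0
    have h2 : Nat.card ↥B ≤ Nat.card ↥M₁ := Subgroup.card_le_of_le inf_le_left
    rw [c1, h1] at h2
    omega

end Cfsg.Agent.S2751
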