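import Cfsg.Statements.S2756
import Cfsg.Agent.Lib.TwoClosedInverted.Basic

set_option autoImplicit false
open Cfsg

namespace Cfsg.Agent.S2756

/-- For a finite group G the following are equivalent: (a) G has a normal Sylow 2-subgroup; (b) for every odd prime q dividing the order of G and every Sylow q-subgroup T, the normalizer of Z(J(T)) has a normal Sylow 2-subgroup; (c) for every odd prime q and every Sylow q-subgroup T, no nonidentity element of T is inverted by an element of the normalizer of Z(J(T)). Here J(T) is the Thompson subgroup generated by the abelian subgroups of T of largest order. Stated as the two equivalences (a) ⇔ (b) and (a) ⇔ (c). -/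
theorem result {G : Type*} [Group G] [Finite G] : ((∀ P : Sylow 2 G, (P : Subgroup G).Normal) ↔ ∀ (q : ℕ) [Fact q.Prime], q ≠ 2 → q ∣ Nat.card G → ∀ T : Sylow q G, ∀ P : Sylow 2 ↥(Subgroup.normalizer (Cfsg.centerThompsonAOf (T : Subgroup G) : Set G)), (P : Subgroup ↥(Subgroup.normalizer (Cfsg.centerThompsonAOf (T : Subgroup G) : Set G))).Normal) ∧ ((∀ P : Sylow 2 G, (P : Subgroup G).Normal) ↔ ∀ (q : ℕ) [Fact q.Prime], q ≠ 2 → ∀ T : Sylow q G, ∀ x ∈ (T : Subgroup G), x ≠ 1 → ∀ g ∈ Subgroup.normalizer (Cfsg.centerThompsonAOf (T : Subgroup G) : Set G), g * x * g⁻¹ ≠ x⁻¹) := by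
  have hodd : ∀ (q : ℕ) [Fact q.Prime], q ≠ 2 → ∀ (T : Sylow q G), ∀ x ∈ (T : Subgroup G),
      Odd (orderOf x) := by
    intro q _ hq T x hx
    obtain ⟨j, hj⟩ := T.isPGroup' ⟨x, hx⟩
    have hj' : x ^ q ^ j = 1 := by simpa using congrArg Subtype.val hj
    exact ((Fact.out : q.Prime).odd_of_ne_two hq).pow.of_dvd_nat (orderOf_dvd_of_pow_eq_one hj')
  have hca : (∀ (q : ℕ) [Fact q.Prime], q ≠ 2 → ∀ T : Sylow q G, ∀ x ∈ (T : Subgroup G), x ≠ 1 →
      ∀ g ∈ Subgroup.normalizer (Cfsg.centerThompsonAOf (T : Subgroup G) : Set G), g * x * g⁻¹ ≠ x⁻¹) →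
      ∀ P : Sylow 2 G, (P : Subgroup G).Normal := by
    intro hc
    by_contra hP
    obtain ⟨q, hq, x, g, hq2, hxo, hinv⟩ := TwoClosedInverted.exists_inverted hP
    haveI : Fact q.Prime := ⟨hq⟩
    obtain ⟨T, x', n, hx', hx'1, hn, hn'⟩ := TwoClosedInverted.exists_inverted_normalizer hq2
      (⟨1, by rw [pow_one, ← hxo, pow_orderOf_eq_one]⟩ : ∃ j : ℕ, x ^ q ^ j = 1)
      (fun h1 => hq.ne_one (by rw [← hxo, h1, orderOf_one])) hinv
    exact hc q hq2 T x' hx' hx'1 n hn hn'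
  refine ⟨⟨fun h q _ _ _ T P => TwoClosedInverted.normal_sylow_subgroup h _ P, fun hb => hca ?_⟩,
    ⟨fun h q _ hq T x hx hx1 g _ hinv =>
      hx1 (TwoClosedInverted.eq_one_of_inverted h (hodd q hq T x hx) hinv), hca⟩⟩
  intro q _ hq T x hx hx1 g hg hinv
  have hdvd : q ∣ Nat.card G := by
    obtain ⟨j, hj⟩ := T.isPGroup' ⟨x, hx⟩
    have hj' : x ^ q ^ j = 1 := by simpa using congrArg Subtype.val hj
    obtain ⟨i, -, hi⟩ := (Nat.dvd_prime_pow (Fact.out : q.Prime)).1 (orderOf_dvd_of_pow_eq_one hj')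
    have hi0 : i ≠ 0 := fun h0 => hx1 (orderOf_eq_one_iff.1 (by rw [hi, h0, pow_zero]))
    exact ((dvd_pow_self q hi0).trans (hi ▸ dvd_rfl)).trans (orderOf_dvd_natCard x)
  set N := Subgroup.normalizer (Cfsg.centerThompsonAOf (T : Subgroup G) : Set G)
  have hxN : x ∈ N := ZJFusion.Good.le_normalizer (S := T) rfl hx
  have h1 := TwoClosedInverted.eq_one_of_inverted (G := ↥N) (x := ⟨x, hxN⟩) (g := ⟨g, hg⟩)
    (hb q hq hdvd T) (by rw [Subgroup.orderOf_mk]; exact hodd q hq T x hx) (Subtype.ext hinv)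
  exact hx1 (congrArg Subtype.val h1)

end Cfsg.Agent.S2756
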