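import Cfsg.Statements.S2762
import Cfsg.Agent.Lib.QdOver.Basic

set_option autoImplicit false
open Cfsg

namespace Cfsg.Agent.S2762

/-- Structure of Qd over a finite field F of characteristic p (the affine subgroup of SL₃(F)): its largest normal p-subgroup is the group of translations (matrices with upper-left block the identity), the block-diagonal matrices form a complement isomorphic to SL₂(F), and the translation subgroup is a natural SL₂(F)-module for that complement. -/
theorem result {F : Type*} [Field F] [Fintype F] {p : ℕ} [Fact p.Prime] [CharP F p] : (∀ M : ↥(Cfsg.qdOver F), M ∈ Cfsg.pCore p ↥(Cfsg.qdOver F) ↔ ((M : Matrix.SpecialLinearGroup (Fin 3) F) : Matrix (Fin 3) (Fin 3) F) 0 0 = 1 ∧ ((M : Matrix.SpecialLinearGroup (Fin 3) F) : Matrix (Fin 3) (Fin 3) F) 0 1 = 0 ∧ ((M : Matrix.SpecialLinearGroup (Fin 3) F) : Matrix (Fin 3) (Fin 3) F) 1 0 = 0 ∧ ((M : Matrix.SpecialLinearGroup (Fin 3) F) : Matrix (Fin 3) (Fin 3) F) 1 1 = 1) ∧ ∃ K : Subgroup ↥(Cfsg.qdOver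 F), (∀ M : ↥(Cfsg.qdOver F), M ∈ K ↔ ((M : Matrix.SpecialLinearGroup (Fin 3) F) : Matrix (Fin 3) (Fin 3) F) 0 2 = 0 ∧ ((M : Matrix.SpecialLinearGroup (Fin 3) F) : Matrix (Fin 3) (Fin 3) F) 1 2 = 0) ∧ K ⊓ Cfsg.pCore p ↥(Cfsg.qdOver F) = ⊥ ∧ K ⊔ Cfsg.pCore p ↥(Cfsg.qdOver F) = ⊤ ∧ Nonempty (↥K ≃* Matrix.SpecialLinearGroup (Fin 2) F) ∧ Cfsg.IsNaturalSL2Module F (Cfsg.pCore p ↥(Cfsg.qdOver F)) K := by
  open Cfsg.Agent.QdOver in
  rw [pCore_eq_ker]
  refine ⟨fun M => mem_ker_block, emb.range, fun M => ?_, ?_, ?_, ?_, ?_⟩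
  · show M ∈ emb.range ↔ ent M 0 2 = 0 ∧ ent M 1 2 = 0
    constructor
    · rintro ⟨g, rfl⟩
      exact ⟨rfl, rfl⟩
    · rintro ⟨h1, h2⟩
      refine ⟨block M, ?_⟩
      conv_rhs => rw [decomp M, h1, h2, tr_zero, one_mul]
  · rw [Subgroup.eq_bot_iff_forall]
    rintro M ⟨⟨g, rfl⟩, hk⟩
    have h : block (emb g) = 1 := hk
    rw [block_emb] at h
    rw [h, map_one]
  · refine eq_top_iff.2 fun M _ => ?_
    rw [decomp M]
    exact mul_mem (Subgroup.mem_sup_right (MonoidHom.mem_ker.2 (block_tr _ _)))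
      (Subgroup.mem_sup_left ⟨_, rfl⟩)
  · exact ⟨(MonoidHom.ofInjective (f := emb) (Function.LeftInverse.injective block_emb)).symm⟩
  · refine ⟨?_, block.comp emb.range.subtype, ?_⟩
    · rw [Subgroup.normalizer_eq_top]; exact le_top
    have htr : ∀ a b : F, tr a b ∈ (block (F := F)).ker := fun a b => MonoidHom.mem_ker.2 (block_tr a b)
    let ψ : Additive ↥(block (F := F)).ker ≃+ (Fin 2 → F) :=
      { toFun := fun v => ![ent (Additive.toMul v).1 0 2, ent (Additive.toMul v).1 1 2]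
        invFun := fun w => Additive.ofMul ⟨tr (w 0) (w 1), htr _ _⟩
        left_inv := fun v => by
          apply Additive.toMul.injective
          exact Subtype.ext (eq_tr (Additive.toMul v).2).symm
        right_inv := fun w => by
          funext i; fin_cases i <;> rfl
        map_add' := fun v w => by
          obtain ⟨h00, h01, h10, h11⟩ := mem_ker_block.1 (Additive.toMul v).2
          obtain ⟨-, -, h22⟩ := ent_last (Additive.toMul w).1
          funext i
          fin_cases i <;>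
            simp [toMul_add, ent_mul, h00, h01, h10, h11, h22, add_comm] }
    refine ⟨ψ, fun g => ?_, ?_, ?_⟩
    · exact ⟨⟨emb g, g, rfl⟩, block_emb g⟩
    · ext ⟨M, g, rfl⟩
      rw [MonoidHom.mem_ker, Subgroup.mem_subgroupOf]
      show block (emb g) = 1 ↔ emb g ∈ _
      rw [block_emb]
      constructor
      · rintro rfl; rw [map_one]; exact one_mem _
      · intro h
        have key : ∀ a b : F, tr (g.1 0 0 * a + g.1 0 1 * b) (g.1 1 0 * a + g.1 1 1 * b) = tr a b := by
          intro a b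
          rw [← emb_conj_tr, ← Subgroup.mem_centralizer_iff.1 h _ (htr a b), mul_inv_cancel_right]
        have e00 := congrArg (fun M => ent M 0 2) (key 1 0)
        have e10 := congrArg (fun M => ent M 1 2) (key 1 0)
        have e01 := congrArg (fun M => ent M 0 2) (key 0 1)
        have e11 := congrArg (fun M => ent M 1 2) (key 0 1)
        simp [tr] at e00 e10 e01 e11
        refine Subtype.ext ?_
        rw [Matrix.SpecialLinearGroup.coe_one, Matrix.eta_fin_two g.1, Matrix.one_fin_two, e00, e01,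
          e10, e11]
    · rintro ⟨M, g, rfl⟩ v
      obtain ⟨v, hv⟩ := v
      obtain ⟨a, b, rfl⟩ : ∃ a b, v = tr a b := ⟨_, _, eq_tr hv⟩
      refine ⟨⟨tr (g.1 0 0 * a + g.1 0 1 * b) (g.1 1 0 * a + g.1 1 1 * b), htr _ _⟩,
        (emb_conj_tr g a b).symm, ?_⟩
      have hb : (block.comp (emb (F := F)).range.subtype) ⟨emb g, g, rfl⟩ = g := block_emb g
      rw [hb]
      funext i
      fin_cases i <;> simp [ψ, tr, Matrix.mulVec, dotProduct, Fin.sum_univ_two]

end Cfsg.Agent.S2762
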