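import Cfsg.Statements.S2766
import Cfsg.Agent.Lib.PushUp.Qd

set_option autoImplicit false
open Cfsg

namespace Cfsg.Agent.S2766

/-- Let p ≥ 5 be prime and G a maximal p-local subgroup of a finite group H (G is the normalizer of a nontrivial p-subgroup and lies in no other such normalizer). Suppose C_G(O_p(G)) ≤ O_p(G), G/K ≅ PSL₂(p^n) for some normal K and n ≥ 1, a Sylow p-subgroup S of G lies in exactly one maximal subgroup of G, and N_H(S) is not contained in G. Then G = G₀ × E for subgroups G₀ ≅ Qd(p^n) (the natural semidirect product of the plane over the field with p^n elements by SL₂) and E an elementary abelian p-group. -/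
theorem result {H : Type*} [Group H] [Finite H] {p : ℕ} [Fact p.Prime] (hp : 5 ≤ p) (G : Subgroup H) (hloc : ∃ R : Subgroup H, IsPGroup p ↥R ∧ R ≠ ⊥ ∧ G = Subgroup.normalizer (R : Set H)) (hmax : ∀ R : Subgroup H, IsPGroup p ↥R → R ≠ ⊥ → G ≤ Subgroup.normalizer (R : Set H) → Subgroup.normalizer (R : Set H) = G) (S : Sylow p ↥G) (hE₁ : Subgroup.centralizer (Cfsg.pCore p ↥G : Set ↥G) ≤ Cfsg.pCore p ↥G) (hE₂ : ∃! M : Subgroup ↥G, IsCoatom M ∧ (S : Subgroup ↥G) ≤ M) (K : Subgroup ↥G) [K.Normal] (F : Type) [Field F] [Fintype F] (n : ℕ) (hn : 1 ≤ n) (hF : Fintype.card F = p ^ n) (hE₃ : Nonempty (↥G ⧸ K ≃* Matrix.ProjectiveSpecialLinearGroup (Fin 2) F)) (hN : ¬ Subgroup.normalizer (((S : Subgroup ↥G).map G.subtype : Subgroup H) : Set H) ≤ G) : ∃ G₀ E : Subgroup H, Cfsg.IsInternalDirectProduct G₀ E G ∧ Cfsg.IsElementaryAbelian p E ∧ Nonempty (↥G₀ ≃* ↥(Cfsg.qdOver F)) := by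
  haveI hQn : (Cfsg.pCore p ↥G).Normal := Cores.pCore_normal p ↥G
  -- a subgroup of `S` normal in `G` has normalizer `G`
  have hmove : ∀ T : Subgroup ↥G, T ≤ (S : Subgroup ↥G) → T.Normal → T ≠ ⊥ →
      Subgroup.normalizer ((T.map G.subtype : Subgroup H) : Set H) = G := by
    intro T hT hTn hne
    refine hmax _ ((S.2.to_le hT).map _) (fun h => hne ?_) ?_
    · exact (Subgroup.map_eq_bot_iff_of_injective _ G.subtype_injective).mp h
    · haveI := hTn
      intro g hg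
      refine PushUp.mem_normalizer_of_cj_eq (le_antisymm ?_ ?_)
      · rintro _ ⟨_, ⟨x, hx, rfl⟩, rfl⟩
        exact ⟨⟨g, hg⟩ * x * ⟨g, hg⟩⁻¹, hTn.conj_mem x hx _, rfl⟩
      · rintro _ ⟨x, hx, rfl⟩
        have h2 := hTn.conj_mem x hx (⟨g, hg⟩ : ↥G)⁻¹
        rw [inv_inv] at h2
        exact PushUp.mem_cj.mpr ⟨_, h2, rfl⟩
  have hA : PushUp.Amb (S : Subgroup ↥G) G.subtype
      (Subgroup.normalizer (((S : Subgroup ↥G).map G.subtype : Subgroup H) : Set H)) :=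
    ⟨G.subtype_injective, le_rfl, fun T hT hne hTn hN' => hN (hN'.trans (hmove T hT hTn hne).le)⟩
  obtain ⟨M, π, h⟩ := hA.exists_hyp (n := n) hE₁ hE₂ K F hn hF hE₃
  obtain ⟨w, hw⟩ := h.exists_w
  obtain ⟨hquad, hcase⟩ := h.config hA
  rcases hcase with ⟨Z', h1, k, -, hkQ⟩ | h2
  · obtain ⟨G₀, E, ⟨-, -, hcomm, hinf, hsup⟩, ⟨hEc, hEp⟩, ⟨φ⟩⟩ := h1.exists_qd h hquad hA hp hkQ
      fun T hT hTn hkT => by_contra fun hne => by
        have hkG : k ∈ G := (hmove T hT hTn hne).le hkT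
        refine h1.not_le ?_
        have h2 : PushUp.cj k ((Cfsg.pCore p ↥G).map G.subtype) ≤ (Cfsg.pCore p ↥G).map G.subtype := by
          rintro _ ⟨_, ⟨x, hx, rfl⟩, rfl⟩
          exact ⟨_, hQn.conj_mem x hx ⟨k, hkG⟩, rfl⟩
        rw [hkQ, Subgroup.map_le_map_iff_of_injective G.subtype_injective] at h2
        exact le_sup_left.trans h2
    refine ⟨G₀.map G.subtype, E.map G.subtype, ⟨Subgroup.map_subtype_le _, Subgroup.map_subtype_le _,
      ?_, ?_, ?_⟩, ⟨?_, ?_⟩, ⟨(G₀.equivMapOfInjective _ G.subtype_injective).symm.trans φ⟩⟩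
    · rintro _ ⟨a, ha, rfl⟩ _ ⟨b, hb, rfl⟩
      exact congrArg Subtype.val (hcomm a ha b hb)
    · rw [← Subgroup.map_inf _ _ _ G.subtype_injective, hinf, Subgroup.map_bot]
    · rw [← Subgroup.map_sup, hsup, ← MonoidHom.range_eq_map, Subgroup.range_subtype]
    · constructor
      constructor
      rintro ⟨_, a, ha, rfl⟩ ⟨_, b, hb, rfl⟩
      exact Subtype.ext (congrArg (fun x : ↥E => ((x : ↥G) : H)) (hEc.is_comm.comm ⟨a, ha⟩ ⟨b, hb⟩))
    · rintro _ ⟨a, ha, rfl⟩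
      rw [← map_pow, hEp a ha, map_one]
  · obtain ⟨X, D, U, x, u, t⟩ := PushUp.exists_two h h2
    exact absurd (t.eq_three h hquad hw) (by omega)

end Cfsg.Agent.S2766
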