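import Cfsg.Statements.S2768
import Cfsg.Agent.Lib.PushUp.Baumann

set_option autoImplicit false
open Cfsg

namespace Cfsg.Agent.S2768

/-- Let G be a finite group and p a prime with C_G(O_p(G)) ≤ O_p(G), such that a Sylow p-subgroup S lies in exactly one maximal subgroup of G and G/K ≅ PSL₂(p^n) for some normal K and n ≥ 1. Put J̃(S) = C_S(Z(J(S))), where J(S) is generated by the abelian subgroups of S of largest order. If Z(S) is not normal in G, then J̃(S) is a Sylow p-subgroup of its normal closure ⟨J̃(S)^G⟩. -/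
theorem result {G : Type*} [Group G] [Finite G] {p : ℕ} [Fact p.Prime] (S : Sylow p G) (hE₁ : Subgroup.centralizer (Cfsg.pCore p G : Set G) ≤ Cfsg.pCore p G) (hE₂ : ∃! M : Subgroup G, IsCoatom M ∧ (S : Subgroup G) ≤ M) (K : Subgroup G) [K.Normal] (F : Type) [Field F] [Fintype F] (n : ℕ) (hn : 1 ≤ n) (hF : Fintype.card F = p ^ n) (hE₃ : Nonempty (G ⧸ K ≃* Matrix.ProjectiveSpecialLinearGroup (Fin 2) F)) (hZ : ¬ ((S : Subgroup G) ⊓ Subgroup.centralizer ((S : Subgroup G) : Set G)).Normal) : ∃ P : Sylow p ↥(Subgroup.normalClosure (((S : Subgroup G) ⊓ Subgroup.centralizer (Cfsg.centerThompsonAOf (S : Subgroup G) : Set G)) : Set G)), (P : Subgroup ↥(Subgroup.normalClosure (((S : Subgroup G) ⊓ Subgroup.centralizer (Cfsg.centerThompsonAOf (S : Subgroup G) : Set G)) : Set G))) = (((S : Subgroup G) ⊓ Subgroup.centralizer (Cfsg.centerThompsonAOf (S : Subgroup G) : Set G))).subgroupOf (Subgroup.normalClosure (((S : Subgroup G) ⊓ Subgroup.centralizer (Cfsg.centerThompsonAOf (S : Subgroup G) : Set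 G)) : Set G)) := by
  obtain ⟨e⟩ := hE₃
  let π : G →* Matrix.ProjectiveSpecialLinearGroup (Fin 2) F :=
    e.toMonoidHom.comp (QuotientGroup.mk' K)
  have hπ : Function.Surjective π := e.surjective.comp (QuotientGroup.mk'_surjective _)
  set Zs := (S : Subgroup G) ⊓ Subgroup.centralizer ((S : Subgroup G) : Set G)
  set T := (S : Subgroup G) ⊓ Subgroup.centralizer
    (Cfsg.centerThompsonAOf (S : Subgroup G) : Set G) with hT
  set L := Subgroup.normalClosure (T : Set G) with hL
  have hnZ : ¬ Cfsg.pResidual p G ≤ Subgroup.centralizer (Zs : Set G) := fun h1 =>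
    hZ (PushUp.normal_of_le_center (PushUp.central_of_pResidual S h1
      fun s hs z hz => (hz.2 s hs).symm))
  haveI : L.Normal := Subgroup.normalClosure_normal
  have hkey : (S : Subgroup G) ⊓ L ≤ T := by
    rcases PushUp.baumann S hE₁ hE₂ π hπ hn hF hnZ with h | h
    · haveI := h
      exact inf_le_right.trans (Subgroup.normalClosure_le_normal le_rfl)
    · intro s hs
      refine ⟨hs.1, fun z hz => ?_⟩
      obtain ⟨u, hu, d, hd, rfl⟩ := (h L hL).2 z hz
      have h1 : Commute s u := hu.2 s hs.1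
      have h2 : Commute s d := hd s hs.2
      exact (h1.mul_right h2).symm.eq
  refine ⟨PReduced.sylowOfSubnormal S (Subgroup.Normal.isSubnormal ‹L.Normal›), ?_⟩
  rw [PReduced.sylowOfSubnormal_coe]
  ext x
  exact ⟨fun hx => hkey ⟨hx, x.2⟩, fun hx => hx.1⟩

end Cfsg.Agent.S2768
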