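import Cfsg.Statements.S2769
import Cfsg.Agent.Lib.PushUp.Baumann

set_option autoImplicit false
open Cfsg
open scoped commutatorElement

namespace Cfsg.Agent.S2769

/-- Let G be a finite group and p a prime with C_G(O_p(G)) ≤ O_p(G), S a Sylow p-subgroup lying in exactly one maximal subgroup of G, and G/K ≅ PSL₂(p^n) for some normal K and n ≥ 1. Let J(S) be generated by the abelian subgroups of S of largest order. If [Z(J(S)), S] ≠ 1, then either [Z(J(S)), S] ∩ Z(S) is normal in G or C_S(Z(J(S))) is normal in G. -/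
theorem result {G : Type*} [Group G] [Finite G] {p : ℕ} [Fact p.Prime] (S : Sylow p G) (hE₁ : Subgroup.centralizer (Cfsg.pCore p G : Set G) ≤ Cfsg.pCore p G) (hE₂ : ∃! M : Subgroup G, IsCoatom M ∧ (S : Subgroup G) ≤ M) (K : Subgroup G) [K.Normal] (F : Type) [Field F] [Fintype F] (n : ℕ) (hn : 1 ≤ n) (hF : Fintype.card F = p ^ n) (hE₃ : Nonempty (G ⧸ K ≃* Matrix.ProjectiveSpecialLinearGroup (Fin 2) F)) (h : ⁅(Cfsg.centerThompsonAOf (S : Subgroup G)), (S : Subgroup G)⁆ ≠ ⊥) : (⁅(Cfsg.centerThompsonAOf (S : Subgroup G)), (S : Subgroup G)⁆ ⊓ ((S : Subgroup G) ⊓ Subgroup.centralizer ((S : Subgroup G) : Set G))).Normal ∨ (((S : Subgroup G) ⊓ Subgroup.centralizer (Cfsg.centerThompsonAOf (S : Subgroup G) : Set G))).Normal := by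
  obtain ⟨e⟩ := hE₃
  let π : G →* Matrix.ProjectiveSpecialLinearGroup (Fin 2) F :=
    e.toMonoidHom.comp (QuotientGroup.mk' K)
  have hπ : Function.Surjective π := e.surjective.comp (QuotientGroup.mk'_surjective _)
  set Zs := (S : Subgroup G) ⊓ Subgroup.centralizer ((S : Subgroup G) : Set G)
  set Z1 := Cfsg.centerThompsonAOf (S : Subgroup G)
  set X := ⁅Z1, (S : Subgroup G)⁆ ⊓ Zs
  have hcen : Cfsg.pResidual p G ≤ Subgroup.centralizer (X : Set G) → X.Normal := fun h1 =>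
    PushUp.normal_of_le_center (PushUp.central_of_pResidual S h1
      fun s hs z hz => (hz.2.2 s hs).symm)
  by_cases hnZ : Cfsg.pResidual p G ≤ Subgroup.centralizer (Zs : Set G)
  · exact Or.inl (hcen (hnZ.trans (Subgroup.centralizer_le inf_le_right)))
  rcases PushUp.baumann S hE₁ hE₂ π hπ hn hF hnZ with h1 | h1
  · exact Or.inr h1
  refine Or.inl (hcen ?_)
  set L := Subgroup.normalClosure (((S : Subgroup G) ⊓ Subgroup.centralizer
    (Z1 : Set G) : Subgroup G) : Set G) with hL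
  obtain ⟨hres, hdec⟩ := h1 L hL
  haveI : L.Normal := Subgroup.normalClosure_normal
  set C := Subgroup.centralizer (L : Set G)
  have hXC : ⁅Z1, (S : Subgroup G)⁆ ≤ C := by
    rw [Subgroup.commutator_le]
    intro z hz s hs
    obtain ⟨u, hu, d, hd, rfl⟩ := hdec z hz
    have h2 : Commute s u := hu.2 s hs
    have h3 : d * s * d⁻¹ * s⁻¹ ∈ C := by
      rw [mul_assoc, mul_assoc, ← mul_assoc s]
      exact mul_mem hd (Subgroup.Normal.conj_mem inferInstance _ (inv_mem hd) s)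
    have h4 : ⁅u * d, s⁆ = u * (d * s * d⁻¹ * s⁻¹) * u⁻¹ := by
      rw [commutatorElement_def, mul_inv_rev]
      have h5 : u⁻¹ * s⁻¹ = s⁻¹ * u⁻¹ := ((h2.inv_left).inv_right).symm.eq
      calc u * d * s * (d⁻¹ * u⁻¹) * s⁻¹ = u * d * s * d⁻¹ * (u⁻¹ * s⁻¹) := by group
        _ = u * (d * s * d⁻¹ * s⁻¹) * u⁻¹ := by rw [h5]; group
    rw [h4]
    exact Subgroup.Normal.conj_mem inferInstance _ h3 u
  refine le_trans ?_ (Subgroup.centralizer_le (inf_le_left.trans hXC : X ≤ C))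
  exact hres.trans (Subgroup.le_centralizer_iff.mp le_rfl)

end Cfsg.Agent.S2769
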