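import Cfsg.Statements.S4385
import Cfsg.Agent.EqLemmas
import Cfsg.Agent.Lib.SimsChain.DihedralCase
import Cfsg.Agent.Lib.SimsChain.DihedralTop
import Cfsg.Agent.Lib.Solvable.Basic

set_option autoImplicit false
open Pointwise
open Cfsg
open scoped commutatorElement

namespace Cfsg.Agent.S4385

open Cfsg.Agent.SimsChain DihedralGroup

/-- The odd core lies above no reflection. -/
theorem rot_of_odd {n : ℕ} {M : Type*} [Group M] [Finite M] (f : M →* DihedralGroup n) {g : M}
    (hg : ¬ 2 ∣ orderOf g) : ∃ j, f g = r j := by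
  rcases hfg : f g with j | j
  · exact ⟨j, rfl⟩
  · exfalso
    refine hg ?_
    rw [← orderOf_sr (n := n) j, ← hfg]
    exact orderOf_map_dvd f g

/-- Elements of an interval of two adjacent commuting involutions. -/
theorem W_le_pair {G : Type*} [Group G] (x : ℤ → G) (i : ℤ) : W x i 2 ≤ Subgroup.closure {x i, x (i + 1)} := by
  rw [W, Subgroup.closure_le]
  rintro _ ⟨j, hj1, hj2, rfl⟩
  rcases (show j = i ∨ j = i + 1 by omega) with rfl | rfl
  · exact Subgroup.subset_closure (Or.inl rfl)
  · exact Subgroup.subset_closure (Or.inr rfl)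

theorem quot_small {G : Type*} [Group G] [Finite G] {H P Q : Subgroup G} {h y : G} {t : ℕ} {x : ℤ → G}
    (S : Setup H P Q h y t x) (hQe : (Cfsg.pCore 2 ↥H).map H.subtype = Q) {n : ℕ}
    (f : ↥H →* DihedralGroup n) (hf : Function.Surjective f) (hker : f.ker = Cfsg.pCore 2 ↥H)
    (hn : ¬ 2 ∣ n) (hPH : P ≤ H) (ht : t = 2) :
    Nonempty (↥H ⧸ Cfsg.oddCore ↥H ≃* Multiplicative (ZMod 2) × Multiplicative (ZMod 2)) := by
  have := Fact.mk Nat.prime_two
  set Z := Cfsg.pCore 2 ↥H
  have hn0 : n ≠ 0 := fun e => hn (e ▸ dvd_zero 2)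
  set C : Subgroup ↥H := (Subgroup.zpowers (r 1 : DihedralGroup n)).comap f
  have hrot : (Subgroup.zpowers (r 1 : DihedralGroup n)).index = 2 := by
    have h' := (Subgroup.zpowers (r 1 : DihedralGroup n)).index_mul_card
    rw [Nat.card_zpowers, orderOf_r_one, nat_card] at h'
    exact Nat.eq_of_mul_eq_mul_right (Nat.pos_of_ne_zero hn0) h'
  have hC2 : C.index = 2 := by rw [Subgroup.index_comap_of_surjective _ hf, hrot]
  have hCn : C.Normal := Subgroup.normal_of_index_eq_two hC2
  have hZcard : Nat.card Z = 2 := by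
    rw [← Subgroup.card_map_of_injective H.subtype_injective, hQe, ← S.hQ, S.chain.card _ _ (by omega), ht]
    norm_num
  have hZC : Z ≤ C := fun z hz => by
    show f z ∈ Subgroup.zpowers (r 1 : DihedralGroup n)
    rw [show f z = 1 from (hker.ge hz : z ∈ f.ker)]
    exact one_mem _
  have hcen : ∀ z ∈ Z, ∀ c ∈ C, Commute z c := by
    intro z hz c _
    by_cases hz1 : z = 1
    · rw [hz1]; exact Commute.one_left c
    have h2 := (Nat.card_eq_two_iff' (1 : Z)).mp hZcard
    have hmem : c * z * c⁻¹ ∈ Z := (inferInstance : Z.Normal).conj_mem z hz c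
    have e := h2.unique (y₁ := ⟨c * z * c⁻¹, hmem⟩) (y₂ := ⟨z, hz⟩)
      (fun e => hz1 (conj_eq_one_iff.mp (congrArg Subtype.val e))) (fun e => hz1 (congrArg Subtype.val e))
    exact (mul_inv_eq_iff_eq_mul.mp (congrArg Subtype.val e)).symm
  have hCcard : Nat.card C = 2 * n := by
    have h1 := C.index_mul_card
    have h2 := f.ker.index_mul_card
    rw [Subgroup.index_ker, MonoidHom.range_eq_top.mpr hf, Subgroup.card_top, nat_card, hker, hZcard] at h2
    rw [hC2] at h1
    linarith
  have hodd : ¬ 2 ∣ Z.relIndex C := by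
    have h1 := (Z.subgroupOf C).index_mul_card
    rw [Nat.card_congr (Subgroup.subgroupOfEquivOfLe hZC).toEquiv, hZcard, hCcard] at h1
    rw [Subgroup.relIndex, show (Z.subgroupOf C).index = n by linarith]
    exact hn
  have hO : Cfsg.oddCore ↥H ≤ C := fun g hg => by
    obtain ⟨j, hj⟩ := rot_of_odd f (g := g) fun hd =>
      odd_card_oddCore (hd.trans (Subgroup.orderOf_dvd_natCard _ hg))
    show f g ∈ Subgroup.zpowers (r 1 : DihedralGroup n)
    rw [hj]
    exact ⟨((j.cast : ℤ)), by show (r 1 : DihedralGroup n) ^ (j.cast : ℤ) = r j; rw [r_one_zpow, ZMod.intCast_zmod_cast]⟩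
  have hmain := card_oddCore_of_central hZC hcen (Cores.isPGroup_pCore 2 _) hodd hO
  have hR : Nat.card (↥H ⧸ Cfsg.oddCore ↥H) = 4 := by
    have h1 := (Cfsg.oddCore ↥H).index_mul_card
    have h2 := C.index_mul_card
    rw [hC2, hmain, hZcard] at h2
    rw [← Subgroup.index_eq_card]
    exact Nat.eq_of_mul_eq_mul_right Nat.card_pos (h1.trans (h2.symm.trans (by ring)))
  refine mulEquiv_klein hR fun g => ?_
  let i : P →* ↥H ⧸ Cfsg.oddCore ↥H := (QuotientGroup.mk' _).comp (Subgroup.inclusion hPH)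
  have hPcard : Nat.card P = 4 := by rw [← S.hW, S.chain.card _ _ le_rfl, ht]; norm_num
  have hi : Function.Bijective i := by
    rw [Nat.bijective_iff_injective_and_card, hPcard, hR]
    refine ⟨(injective_iff_map_eq_one i).mpr fun w hw => ?_, rfl⟩
    have hmem : Subgroup.inclusion hPH w ∈ Cfsg.oddCore ↥H := (QuotientGroup.eq_one_iff _).mp hw
    have hd := Subgroup.orderOf_dvd_natCard _ hmem
    rw [orderOf_injective _ (Subgroup.inclusion_injective hPH)] at hd
    have h4 : orderOf w ∣ 2 ^ 2 := by rw [show (2 : ℕ) ^ 2 = Nat.card P by rw [hPcard]; norm_num]; exact orderOf_dvd_natCard w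
    exact orderOf_eq_one_iff.mp (Nat.eq_one_of_dvd_coprimes
      (Nat.Coprime.pow_left 2 (Nat.prime_two.coprime_iff_not_dvd.mpr odd_card_oddCore)) h4 hd)
  obtain ⟨w, rfl⟩ := hi.2 g
  have h01 : Commute (x 0) (x 1) := by
    have h' := IsPGroup.commutative_of_card_eq_prime_sq (p := 2) (S.chain.card 0 2 (by omega))
      ⟨x 0, mem_W le_rfl (by omega)⟩ ⟨x 1, mem_W (by omega) (by omega)⟩
    exact congrArg Subtype.val h'
  have hw : (w : G) ∈ W x 0 2 := by rw [← ht, S.hW]; exact w.2
  have hsq : (w : G) * w = 1 := by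
    rcases mem_pair h01 (S.sq 0) (S.sq 1) (W_le_pair x 0 hw) with e | e | e | e <;> rw [e]
    · exact one_mul 1
    · exact S.sq 0
    · exact S.sq 1
    · rw [show x 0 * x 1 * (x 0 * x 1) = x 0 * (x 1 * x 0) * x 1 by group, h01.eq.symm,
        show x 0 * (x 0 * x 1) * x 1 = x 0 * x 0 * (x 1 * x 1) by group, S.sq 0, S.sq 1, one_mul]
  rw [← map_mul, show w * w = 1 from Subtype.ext hsq, map_one]

/-- Let H be a subgroup of a finite group G whose largest normal 2-subgroup O_2(H) is nontrivial and such that H/O_2(H) is a dihedral group of order at least 4. Let P be a Sylow 2-subgroup of H and S a Sylow 2-subgroup of G containing P. Suppose y ∈ S lies outside P, normalizes P, has y² in the product of P with the centralizer of P in G, and normalizes no non-identity normal subgroup of H contained in P. Then P has order 4, 8 or 16, and H modulo its largest normal subgroup of odd order is isomorphic to the four-group, to the symmetric group of degree 4, or to the direct product of the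 symmetric group of degree 4 with a group of order 2. -/
theorem result {G : Type*} [Group G] [Finite G]
    (H : Subgroup G) (hO : Cfsg.pCore 2 ↥H ≠ ⊥) (n : ℕ) (hn : 2 ≤ n) (hdih : Nonempty (↥H ⧸ Cfsg.pCore 2 ↥H ≃* DihedralGroup n))
    (P : Subgroup G) (hPH : P ≤ H) (hP : IsPGroup 2 P) (hPsyl : ¬ 2 ∣ P.relIndex H)
    (S : Sylow 2 G) (hPS : P ≤ (S : Subgroup G)) (y : G) (hyS : y ∈ (S : Subgroup G)) (hyP : y ∉ P)
    (hy2 : y ^ 2 ∈ P ⊔ Subgroup.centralizer (P : Set G)) (hyN : MulAut.conj y • P = P)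
    (hyQ : ∀ Q : Subgroup G, Q ≤ P → (Q.subgroupOf H).Normal → MulAut.conj y • Q = Q → Q = ⊥) :
    (Nat.card P = 4 ∨ Nat.card P = 8 ∨ Nat.card P = 16) ∧
    (Nonempty (↥H ⧸ Cfsg.oddCore ↥H ≃* Multiplicative (ZMod 2) × Multiplicative (ZMod 2)) ∨
     Nonempty (↥H ⧸ Cfsg.oddCore ↥H ≃* Equiv.Perm (Fin 4)) ∨
     Nonempty (↥H ⧸ Cfsg.oddCore ↥H ≃* Equiv.Perm (Fin 4) × Multiplicative (ZMod 2))) := by
  classical
  have := Fact.mk Nat.prime_two
  obtain ⟨e⟩ := hdih
  set Z := Cfsg.pCore 2 ↥H with hZdef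
  let f : ↥H →* DihedralGroup n := e.toMonoidHom.comp (QuotientGroup.mk' Z)
  have hf : Function.Surjective f := e.surjective.comp (QuotientGroup.mk'_surjective Z)
  have hfker : f.ker = Z := by
    ext g
    show e (QuotientGroup.mk' Z g) = 1 ↔ g ∈ Z
    rw [e.map_eq_one_iff]
    exact QuotientGroup.eq_one_iff g
  -- `n` is odd
  have hnodd : ¬ 2 ∣ n := by
    rintro ⟨k, rfl⟩
    have hk0 : (k : ZMod (2 * k)) ≠ 0 := fun h0 => by
      rw [ZMod.natCast_eq_zero_iff] at h0
      have := Nat.le_of_dvd (by omega) h0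
      omega
    have h2k : (k : ZMod (2 * k)) + k = 0 := by
      rw [← Nat.cast_add, ← two_mul, ZMod.natCast_self]
    have hcomm : ∀ g : DihedralGroup (2 * k), g * r (k : ZMod (2 * k)) = r k * g := by
      rintro (j | j)
      · rw [r_mul_r, r_mul_r, add_comm]
      · rw [sr_mul_r, r_mul_sr, eq_sub_of_add_eq (show j + k + k = j by rw [add_assoc, h2k, add_zero])]
    have ho : orderOf (r (k : ZMod (2 * k))) = 2 := orderOf_eq_prime (by rw [pow_two, r_mul_r, h2k, r_zero])
      (fun h0 => hk0 (by rw [← r_zero] at h0; exact DihedralGroup.r.inj h0))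
    set z := e.symm (r (k : ZMod (2 * k)))
    have hzc : z ∈ Subgroup.center (↥H ⧸ Z) := Subgroup.mem_center_iff.mpr fun g => e.injective (by
      rw [map_mul, map_mul, MulEquiv.apply_symm_apply]; exact hcomm (e g))
    have hzn : (Subgroup.zpowers z).Normal := ⟨fun w hw g => by
      rw [Subgroup.mem_center_iff.mp ((Subgroup.zpowers_le.mpr hzc) hw) g, mul_inv_cancel_right]; exact hw⟩
    have hzo : orderOf z = 2 := by rw [MulEquiv.orderOf_eq, ho]
    have hle : Subgroup.zpowers z ≤ Cfsg.pCore 2 (↥H ⧸ Z) := Cores.le_pCore hzn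
      (IsPGroup.of_card (n := 1) (by rw [Nat.card_zpowers, hzo, pow_one]))
    have := Subgroup.mem_bot.mp ((hle.trans (le_of_eq (Cores.pCore_quotient_self 2 ↥H))) (Subgroup.mem_zpowers z))
    rw [this, orderOf_one] at hzo
    omega
  have hn3 : 3 ≤ n := by
    rcases (show n = 2 ∨ 3 ≤ n by omega) with h | h
    · exact absurd (h ▸ dvd_rfl) hnodd
    · exact h
  -- orders
  set Q : Subgroup G := Z.map H.subtype with hQdef
  set P' := P.subgroupOf H
  have hP'p : IsPGroup 2 P' := hP.comap_subtype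
  let SP : Sylow 2 ↥H := hP'p.toSylow hPsyl
  have hZP : Z ≤ P' := (Cores.isPGroup_pCore 2 _).le_sylow_of_normal SP
  have hQP : Q ≤ P := by rintro _ ⟨z, hz, rfl⟩; exact hZP hz
  have hQH : Q ≤ H := Subgroup.map_subtype_le Z
  obtain ⟨b, hb⟩ := IsPGroup.iff_card.mp (Cores.isPGroup_pCore 2 ↥H)
  obtain ⟨a, ha⟩ := IsPGroup.iff_card.mp hP'p
  have hHcard : Nat.card ↥H = 2 ^ b * (2 * n) := by
    rw [← f.ker.index_mul_card, Subgroup.index_ker, MonoidHom.range_eq_top.mpr hf, Subgroup.card_top, nat_card, hfker,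
      hb, mul_comm]
  have hab : a = b + 1 := by
    have h1 := P'.index_mul_card
    rw [ha, hHcard] at h1
    have hc : ∀ i, Nat.Coprime (2 ^ i) n := fun i => Nat.Coprime.pow_left i (Nat.prime_two.coprime_iff_not_dvd.mpr hnodd)
    have hc' : ∀ i, Nat.Coprime (2 ^ i) P'.index :=
      fun i => Nat.Coprime.pow_left i (Nat.prime_two.coprime_iff_not_dvd.mpr hPsyl)
    refine le_antisymm ?_ ?_
    · refine (Nat.pow_dvd_pow_iff_le_right (by norm_num : 1 < 2)).mp ((hc a).dvd_of_dvd_mul_right (m := 2 ^ (b + 1)) ?_)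
      exact ⟨P'.index, by rw [pow_succ, mul_assoc, ← h1, mul_comm]⟩
    · refine (Nat.pow_dvd_pow_iff_le_right (by norm_num : 1 < 2)).mp ((hc' (b + 1)).dvd_of_dvd_mul_left (n := 2 ^ a) ?_)
      exact ⟨n, by rw [h1, pow_succ, mul_assoc]⟩
  have hP'card : Nat.card P' = 2 * 2 ^ b := by rw [ha, hab, pow_succ']
  have hPcard : Nat.card P = 2 * 2 ^ b := by
    rw [← hP'card]; exact (Nat.card_congr (Subgroup.subgroupOfEquivOfLe hPH).toEquiv).symm
  have hQcard : Nat.card Q = 2 ^ b := by rw [hQdef, Subgroup.card_map_of_injective H.subtype_injective, hb]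
  -- the image of `P` is generated by a reflection
  have himg : Nat.card (P'.map f) = 2 := by
    have h1 : P'.map f = (f.comp P'.subtype).range := by rw [MonoidHom.range_comp, Subgroup.range_subtype]
    have hk : (f.comp P'.subtype).ker = Z.subgroupOf P' := by rw [← hfker]; rfl
    have h2 := (f.comp P'.subtype).ker.index_mul_card
    rw [Subgroup.index_ker, ← h1, hk, Nat.card_congr (Subgroup.subgroupOfEquivOfLe hZP).toEquiv, hb, hP'card] at h2
    exact Nat.eq_of_mul_eq_mul_right (pow_pos two_pos b) h2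
  obtain ⟨⟨τ, hτ⟩, hτ1, hτu⟩ := (Nat.card_eq_two_iff' (1 : P'.map f)).mp himg
  obtain ⟨i, rfl⟩ : ∃ i, τ = sr i := by
    rcases τ with j | j
    · exfalso
      have ho : orderOf (r j) ∣ 2 := himg ▸ Subgroup.orderOf_dvd_natCard _ hτ
      have hon : orderOf (r j) ∣ n := by
        rw [orderOf_dvd_iff_pow_eq_one, ← zpow_natCast, r_zpow]
        simp
      have h1 := Nat.eq_one_of_dvd_coprimes (Nat.prime_two.coprime_iff_not_dvd.mpr hnodd) ho hon
      exact hτ1 (Subtype.ext (orderOf_eq_one_iff.mp h1))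
    · exact ⟨j, rfl⟩
  have himgP : ∀ z : ↥H, (z : G) ∈ P → f z = 1 ∨ f z = sr i := by
    intro z hz
    by_cases h1 : f z = 1
    · exact Or.inl h1
    · exact Or.inr (congrArg Subtype.val (hτu ⟨f z, ⟨z, hz, rfl⟩⟩ (fun h' => h1 (congrArg Subtype.val h'))))
  obtain ⟨h₀, hh₀⟩ := hf (r 1)
  set σ : MulAut G := MulAut.conj ((h₀ : G) * y) with hσ
  have hσP : σ • P = MulAut.conj (h₀ : G) • P := by rw [hσ, map_mul, mul_smul, hyN]
  have hmemσ : ∀ z : G, z ∈ σ • P ↔ (h₀ : G)⁻¹ * z * h₀ ∈ P := fun z => by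
    rw [hσP, Subgroup.mem_pointwise_smul_iff_inv_smul_mem, ← map_inv, MulAut.smul_def, MulAut.conj_apply, inv_inv]
  have hσH : σ • P ≤ H := fun z hz => by
    have := H.mul_mem (H.mul_mem h₀.2 (hPH ((hmemσ z).mp hz))) (H.inv_mem h₀.2)
    simpa [mul_assoc] using this
  -- `P ⊓ σ P = Q`
  have hinf : P ⊓ σ • P = Q := by
    refine le_antisymm (fun z hz => ?_) (le_inf hQP fun z hz => (hmemσ z).mpr (hQP ?_))
    · obtain ⟨hz1, hz2⟩ := hz
      refine ⟨⟨z, hPH hz1⟩, ?_, rfl⟩
      have h2' := himgP (h₀⁻¹ * ⟨z, hPH hz1⟩ * h₀) ((hmemσ z).mp hz2)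
      rw [map_mul, map_mul, map_inv, hh₀, inv_r] at h2'
      rw [SetLike.mem_coe, ← hfker, MonoidHom.mem_ker]
      rcases himgP ⟨z, hPH hz1⟩ hz1 with h' | h'
      · exact h'
      · exfalso
        rw [h', r_mul_sr, sr_mul_r] at h2'
        rcases h2' with h'' | h''
        · rw [← r_zero] at h''; cases h''
        · have h3 : ((2 : ℕ) : ZMod n) = 0 := by
            push_cast
            linear_combination DihedralGroup.sr.inj h''
          rw [ZMod.natCast_eq_zero_iff] at h3
          have := Nat.le_of_dvd two_pos h3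
          omega
    · obtain ⟨w, hw, rfl⟩ := hz
      exact ⟨h₀⁻¹ * w * h₀, by simpa using (inferInstance : Z.Normal).conj_mem w hw h₀⁻¹, rfl⟩
  have hσcard : Nat.card ↥(σ • P) = 2 * 2 ^ b := by
    rw [← hPcard]; exact (Nat.card_congr (Subgroup.equivSMul σ P).toEquiv).symm
  have hidx : (P ⊓ σ • P).relIndex (σ • P) = 2 := by
    have hle : Q ≤ σ • P := hinf ▸ inf_le_right
    have h1 := (Q.subgroupOf (σ • P)).index_mul_card
    rw [Nat.card_congr (Subgroup.subgroupOfEquivOfLe hle).toEquiv, hQcard, hσcard] at h1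
    rw [hinf]
    exact Nat.eq_of_mul_eq_mul_right (pow_pos two_pos b) h1
  have hN : ((P ⊓ σ • P).subgroupOf (σ • P)).Normal := Subgroup.normal_of_index_eq_two hidx
  -- `H` is generated by `P` and `σ P`
  have hsup : P ⊔ σ • P = H := by
    refine le_antisymm (sup_le hPH hσH) fun g hg => ?_
    set K := (P ⊔ σ • P).subgroupOf H
    obtain ⟨z, hz, hzτ⟩ := hτ
    have hr2 : r (2 : ZMod n) ∈ K.map f := by
      have h1 : z ∈ K := Subgroup.mem_subgroupOf.mpr (Subgroup.mem_sup_left hz)
      have h2 : h₀ * z * h₀⁻¹ ∈ K := Subgroup.mem_subgroupOf.mpr (Subgroup.mem_sup_right ((hmemσ _).mpr (by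
        rw [show (h₀ : G)⁻¹ * ((h₀ * z * h₀⁻¹ : ↥H) : G) * h₀ = z by
          rw [Subgroup.coe_mul, Subgroup.coe_mul, Subgroup.coe_inv]; group]
        exact hz)))
      refine ⟨h₀ * z * h₀⁻¹ * z, K.mul_mem h2 h1, ?_⟩
      rw [map_mul, map_mul, map_mul, map_inv, hh₀, hzτ, inv_r, r_mul_sr, sr_mul_r, sr_mul_sr]
      congr 1
      ring
    have htop : K.map f = ⊤ := by
      refine eq_top_iff.mpr fun g _ => ?_
      have hrot : ∀ j, r j ∈ K.map f := fun j => by
        obtain ⟨u, hu⟩ := ((ZMod.isUnit_iff_coprime 2 n).mpr (Nat.prime_two.coprime_iff_not_dvd.mpr hnodd)).exists_right_inv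
        have h' := Subgroup.zpow_mem _ hr2 ((u * j : ZMod n).cast : ℤ)
        rwa [r_zpow, ZMod.intCast_zmod_cast, ← mul_assoc, show (2 : ZMod n) * u = 1 by exact_mod_cast hu, one_mul] at h'
      rcases g with j | j
      · exact hrot j
      · have h' := (K.map f).mul_mem (show sr i ∈ K.map f from ⟨z, Subgroup.mem_subgroupOf.mpr (Subgroup.mem_sup_left hz), hzτ⟩) (hrot (j - i))
        rwa [sr_mul_r, add_sub_cancel] at h'
    have hKtop : K = ⊤ := by
      have h' := Subgroup.comap_map_eq f K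
      rw [htop, Subgroup.comap_top, hfker, sup_eq_left.mpr] at h'
      · exact h'.symm
      · intro w hw
        exact Subgroup.mem_subgroupOf.mpr (Subgroup.mem_sup_left (hZP hw))
    exact (hKtop ▸ Subgroup.mem_top (⟨g, hg⟩ : ↥H) : (⟨g, hg⟩ : ↥H) ∈ K)
  -- the chain
  obtain ⟨t, x, ht1, hch, hPt, hW, hsh⟩ := exists_chain Nat.prime_two hN hidx (fun N hNP hPN hσN => by
    have hσPN : σ • P ≤ Subgroup.normalizer (N : Set G) := by
      rw [← hσN]
      rintro _ ⟨u, hu, rfl⟩
      show σ u ∈ Subgroup.normalizer ((σ • N : Subgroup G) : Set G)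
      rw [Subgroup.mem_normalizer_iff]
      intro w
      rw [Subgroup.mem_pointwise_smul_iff_inv_smul_mem, Subgroup.mem_pointwise_smul_iff_inv_smul_mem, MulAut.smul_def,
        MulAut.smul_def, map_mul, map_mul, map_inv σ⁻¹ (σ u), MulAut.inv_apply_self]
      exact Subgroup.mem_normalizer_iff.mp (hPN hu) _
    have hHN : H ≤ Subgroup.normalizer (N : Set G) := hsup ▸ sup_le hPN hσPN
    refine hyQ N hNP (Subgroup.normal_subgroupOf_of_le_normalizer hHN) ?_
    have h' : MulAut.conj (h₀ : G) • N = N := by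
      refine Subgroup.eq_of_le_of_card_ge ?_ (le_of_eq (Nat.card_congr (Subgroup.equivSMul _ N).toEquiv))
      rintro _ ⟨w, hw, rfl⟩
      exact (Subgroup.mem_normalizer_iff.mp (hHN h₀.2) w).mp hw
    rw [hσ, map_mul, mul_smul] at hσN
    exact MulAction.injective (MulAut.conj (h₀ : G)) (hσN.trans h'.symm))
  have hb1 : 1 ≤ b := by
    by_contra hb0
    rw [show b = 0 by omega, pow_zero, Subgroup.card_eq_one] at hb
    exact hO hb
  have htb : t = b + 1 := Nat.pow_right_injective le_rfl (hPt.symm.trans (hPcard.trans (pow_succ' 2 b).symm))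
  have hWσ : ∀ k, ∀ z ∈ W x 0 k, σ z ∈ W x 1 k := by
    intro k
    have hle : W x 0 k ≤ (W x 1 k).comap σ.toMonoidHom := by
      rw [W, Subgroup.closure_le]
      rintro _ ⟨j, hj1, hj2, rfl⟩
      show σ (x j) ∈ W x 1 k
      rw [hsh]
      exact mem_W (by omega) (by omega)
    exact fun z hz => hle hz
  have hWt : σ • P = W x 1 t := by
    refine Subgroup.eq_of_le_of_card_ge ?_ ?_
    · rintro _ ⟨z, hz, rfl⟩; exact hWσ t z (hW.symm ▸ hz)
    · rw [hch.card 1 t le_rfl, hσcard, ← hPcard, hPt]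
  have hWQ : W x 1 (t - 1) = Q := by
    refine Subgroup.eq_of_le_of_card_ge ?_ ?_
    · rw [← hinf]
      exact le_inf ((W_mono (by omega) (by omega)).trans hW.le) ((W_mono le_rfl (by omega)).trans hWt.ge)
    · rw [hQcard, hch.card _ _ (by omega), htb, Nat.add_sub_cancel]
  have hgenW : W x 0 (t + 1) = H := by
    refine le_antisymm ?_ ?_
    · rw [W, Subgroup.closure_le]
      rintro _ ⟨j, hj1, hj2, rfl⟩
      rw [← hsup]
      by_cases hjt : j < t
      · exact Subgroup.mem_sup_left (hW ▸ mem_W hj1 (by omega))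
      · exact Subgroup.mem_sup_right (hWt ▸ mem_W (by omega) (by push_cast at hj2; omega))
    · rw [← hsup, hWt, ← hW]
      exact sup_le (W_mono le_rfl (by omega)) (W_mono (by omega) (by push_cast; omega))
  have hQn : H ≤ Subgroup.normalizer (Q : Set G) := fun g hg => by
    rw [Subgroup.mem_normalizer_iff_map_conj_eq]
    refine Subgroup.eq_of_le_of_card_ge ?_ (le_of_eq (Subgroup.card_map_of_injective (MulAut.conj g).injective).symm)
    rintro _ ⟨_, ⟨z, hz, rfl⟩, rfl⟩
    exact ⟨⟨g, hg⟩ * z * ⟨g, hg⟩⁻¹, (inferInstance : Z.Normal).conj_mem z hz _, rfl⟩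
  have hnonc : ¬ ∀ u ∈ H, ∀ v ∈ H, Commute u v := fun hall => by
    obtain ⟨s, hs⟩ := hf (sr 0)
    have hc : Commute h₀ s := Subtype.ext (hall _ h₀.2 _ s.2).eq
    have h' := (hc.map f).eq
    rw [hh₀, hs, r_mul_sr, sr_mul_r] at h'
    have h2 : ((2 : ℕ) : ZMod n) = 0 := by
      push_cast
      linear_combination -DihedralGroup.sr.inj h'
    rw [ZMod.natCast_eq_zero_iff] at h2
    have := Nat.le_of_dvd two_pos h2
    omega
  have Sx : Setup H P Q (h₀ : G) y t x :=
    { chain := hch
      ht := by omega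
      hW := hW
      hQ := hWQ
      gen := hgenW
      hQH := hQn
      hh := h₀.2
      shift := fun j => by
        rw [← hsh j]
        show _ = (h₀ : G) * y * x j * ((h₀ : G) * y)⁻¹
        group
      hy := fun z hz => by
        rw [← hyN]
        exact Subgroup.smul_mem_pointwise_smul z _ _ hz
      hy2 := hy2
      noncomm := hnonc }
  have hPval : Nat.card P = 2 ^ t := hPt
  rcases Sx.cases with ht | ⟨ht, hc0, hc1⟩ | ⟨ht, hc0, hc1, hnear⟩
  · exact ⟨Or.inl (by rw [hPval, ht]; norm_num), Or.inl (quot_small Sx rfl f hf hfker hnodd hPH ht)⟩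
  -- common part of the last two cases
  all_goals
    have hcd : ∀ (j l : ℤ), (j - l).natAbs < t - 1 → Commute (x j) (x l) := by
      intro j l hjl
      have hd : Commute (x 0) (x ((j - l).natAbs : ℤ)) := by
        first
          | exact hnear _ (by omega)
          | (rcases (show (j - l).natAbs = 0 ∨ (j - l).natAbs = 1 by omega) with e0 | e0 <;> rw [e0]
             · exact Commute.refl _
             · exact congrArg Subtype.val (IsPGroup.commutative_of_card_eq_prime_sq (p := 2) (hch.card 0 2 (by omega))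
                 ⟨x 0, mem_W le_rfl (by omega)⟩ ⟨x 1, mem_W (by omega) (by omega)⟩))
      rcases le_total j l with hle | hle
      · have h' := (hch.shift j ((j - l).natAbs : ℤ)).mpr hd
        rwa [show j + ((j - l).natAbs : ℤ) = l by omega] at h'
      · have h' := (hch.shift l ((j - l).natAbs : ℤ)).mpr hd
        rw [show l + ((j - l).natAbs : ℤ) = j by omega] at h'
        exact h'.symm
  · subst ht
    refine ⟨Or.inr (Or.inl (by rw [hPval]; norm_num)), Or.inr (Or.inl ?_)⟩
    have hcd' : ∀ (j l : ℤ), (j - l).natAbs < 2 → Commute (x j) (x l) := fun j l h' => hcd j l (by omega)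
    have hbot : ∀ (m : ℤ) (z : G), x m = z → z ≠ 1 := fun m z h' => h' ▸ Sx.ne_one m
    have hxab : x 1 * x 2 ≠ 1 := fun h' => hch.not_mem_left (i := 1) (k := 1) (by omega) (by
      rw [eq_inv_of_mul_eq_one_left h', inv_eq_of_mul_eq_one_right (Sx.sq 2)]
      exact mem_W (by norm_num) (by norm_num))
    let A : ↥H := ⟨x 1, Sx.x_mem_H (by norm_num) (by norm_num)⟩
    let B : ↥H := ⟨x 2, Sx.x_mem_H (by norm_num) (by norm_num)⟩
    have hAA : A * A = 1 := Subtype.ext (Sx.sq 1)
    have hBB : B * B = 1 := Subtype.ext (Sx.sq 2)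
    have hABc : Commute A B := Subtype.ext (hcd' 1 2 (by norm_num)).eq
    have hne : A ≠ B := fun h' => hxab (by
      have h'' : x 1 = x 2 := congrArg Subtype.val h'
      rw [h'', Sx.sq 2])
    have hT : ∀ g : ↥H, ∀ w ∈ ({A, B, A * B} : Set ↥H), g * w * g⁻¹ ∈ ({A, B, A * B} : Set ↥H) := by
      intro g w hw
      let T : Set G := {x 1, x 2, x 1 * x 2}
      have hg : ∀ w ∈ T, (g : G) * w * (g : G)⁻¹ ∈ T := by
        have hmem : (g : G) ∈ W x 0 (3 + 1) := hgenW.symm ▸ g.2
        generalize (g : G) = g' at hmem ⊢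
        unfold W at hmem
        induction hmem using Subgroup.closure_induction with
        | mem v hv =>
          obtain ⟨j, hj1, hj2, rfl⟩ := hv
          have c1 : ∀ l : ℤ, (j - l).natAbs < 2 → x j * x l * (x j)⁻¹ = x l := fun l hl => by
            rw [(hcd' j l hl).eq, mul_inv_cancel_right]
          have e02 : j = 0 → x j * x 2 * (x j)⁻¹ = x 1 * x 2 := fun hj => by
            subst hj
            rw [show x 0 * x 2 * (x 0)⁻¹ = ⁅x 0, x 2⁆ * x 2 by rw [commutatorElement_def]; group, hc0]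
          have e31 : j = 3 → x j * x 1 * (x j)⁻¹ = x 1 * x 2 := fun hj => by
            subst hj
            rw [show x 3 * x 1 * (x 3)⁻¹ = ⁅x 1, x 3⁆⁻¹ * x 1 by rw [commutatorElement_def]; group, hc1,
              inv_eq_of_mul_eq_one_right (Sx.sq 2), (hcd' 2 1 (by norm_num)).eq]
          push_cast at hj2
          intro w hw
          have hconj : ∀ p q : G, x j * (p * q) * (x j)⁻¹ = (x j * p * (x j)⁻¹) * (x j * q * (x j)⁻¹) := fun p q => by group
          rcases (show j = 0 ∨ j = 1 ∨ j = 2 ∨ j = 3 by omega) with hj | hj | hj | hj <;>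
            rcases hw with rfl | rfl | hw
          all_goals first
            | exact Or.inl (c1 1 (by omega))
            | exact Or.inr (Or.inl (c1 2 (by omega)))
            | exact Or.inr (Or.inr (e02 hj))
            | exact Or.inr (Or.inr (e31 hj))
            | skip
          · rw [Set.mem_singleton_iff.mp hw, hconj, c1 1 (by omega), e02 hj, ← mul_assoc, Sx.sq 1, one_mul]
            exact Or.inr (Or.inl rfl)
          · rw [Set.mem_singleton_iff.mp hw, hconj, c1 1 (by omega), c1 2 (by omega)]; exact Or.inr (Or.inr rfl)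
          · rw [Set.mem_singleton_iff.mp hw, hconj, c1 1 (by omega), c1 2 (by omega)]; exact Or.inr (Or.inr rfl)
          · rw [Set.mem_singleton_iff.mp hw, hconj, c1 2 (by omega), e31 hj, mul_assoc, Sx.sq 2, mul_one]
            exact Or.inl rfl
        | one => intro w hw; rwa [one_mul, inv_one, mul_one]
        | mul p q _ _ ihp ihq =>
          intro w hw
          have := ihp _ (ihq w hw)
          rwa [show p * q * w * (p * q)⁻¹ = p * (q * w * q⁻¹) * p⁻¹ by group]
        | inv p _ ihp =>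
          intro w hw
          obtain ⟨v, hv, hvw⟩ := Set.surjOn_image (fun z => p * z * p⁻¹) T
            (show w ∈ (fun z => p * z * p⁻¹) '' T from by
              have himg : (fun z => p * z * p⁻¹) '' T = T :=
                Set.eq_of_subset_of_ncard_le (Set.image_subset_iff.mpr fun z hz => ihp z hz)
                  (le_of_eq (Set.ncard_image_of_injective _ fun z z' h' => mul_left_cancel (mul_right_cancel h')).symm)
                  (Set.toFinite _)
              exact himg.symm ▸ hw)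
          rw [← hvw]
          show p⁻¹ * (p * v * p⁻¹) * p⁻¹⁻¹ ∈ T
          rwa [show p⁻¹ * (p * v * p⁻¹) * p⁻¹⁻¹ = v by group]
      have hwT : (w : G) ∈ T := by
        rcases hw with rfl | rfl | hw
        exacts [Or.inl rfl, Or.inr (Or.inl rfl), Or.inr (Or.inr (congrArg Subtype.val (Set.mem_singleton_iff.mp hw)))]
      rcases hg _ hwT with h' | h' | h'
      · exact Or.inl (Subtype.ext h')
      · exact Or.inr (Or.inl (Subtype.ext h'))
      · exact Or.inr (Or.inr (Subtype.ext h'))
    obtain ⟨hCn, hC6⟩ := index_centralizer_pair (u := (⟨x 0, Sx.x_mem_H le_rfl (by norm_num)⟩ : ↥H))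
      (v := ⟨x 3, Sx.x_mem_H (by norm_num) (by norm_num)⟩) hAA hBB
      (fun h' => Sx.ne_one 1 (congrArg Subtype.val h')) (fun h' => Sx.ne_one 2 (congrArg Subtype.val h')) hne
      (Subtype.ext (show x 0 * x 1 * (x 0)⁻¹ = x 1 by rw [(hcd' 0 1 (by norm_num)).eq, mul_inv_cancel_right]))
      (Subtype.ext (show x 0 * x 2 * (x 0)⁻¹ = x 1 * x 2 by
        rw [show x 0 * x 2 * (x 0)⁻¹ = ⁅x 0, x 2⁆ * x 2 by rw [commutatorElement_def]; group, hc0]))
      (Subtype.ext (show x 3 * x 2 * (x 3)⁻¹ = x 2 by rw [(hcd' 3 2 (by norm_num)).eq, mul_inv_cancel_right]))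
      (Subtype.ext (show x 3 * x 1 * (x 3)⁻¹ = x 1 * x 2 by
        rw [show x 3 * x 1 * (x 3)⁻¹ = ⁅x 1, x 3⁆⁻¹ * x 1 by rw [commutatorElement_def]; group, hc1,
          inv_eq_of_mul_eq_one_right (Sx.sq 2), (hcd' 2 1 (by norm_num)).eq]))
      hT
    set C := Subgroup.centralizer ({A, B} : Set ↥H)
    have hZgen : ∀ z ∈ Z, (z : G) ∈ W x 1 2 := fun z hz => hWQ.ge ⟨z, hz, rfl⟩
    have hZC : Z ≤ C := fun z hz => Subgroup.mem_centralizer_iff.mpr fun w hw => Subtype.ext (by
      refine (commute_W (fun l hl1 hl2 => ?_) (hZgen z hz)).eq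
      rcases hw with rfl | hw
      · exact hcd' 1 l (by omega)
      · rw [Set.mem_singleton_iff.mp hw]; exact hcd' 2 l (by omega))
    have hcen : ∀ z ∈ Z, ∀ c ∈ C, Commute z c := fun z hz c hc => Subtype.ext (by
      refine (commute_W (y := (c : G)) (fun l hl1 hl2 => ?_) (hZgen z hz)).eq.symm
      rcases (show l = 1 ∨ l = 2 by omega) with rfl | rfl
      · exact (congrArg Subtype.val (Subgroup.mem_centralizer_iff.mp hc A (Or.inl rfl))).symm
      · exact (congrArg Subtype.val (Subgroup.mem_centralizer_iff.mp hc B (Or.inr rfl))).symm)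
    have hodd : ¬ 2 ∣ Z.relIndex C := fun hd => hnodd (by
      have h1 := Subgroup.relIndex_mul_index hZC
      rw [hC6] at h1
      have h2 : Z.index = 2 * n := by
        rw [← hfker, Subgroup.index_ker, MonoidHom.range_eq_top.mpr hf, Subgroup.card_top, nat_card]
      rw [h2] at h1
      obtain ⟨m, hm⟩ := hd
      exact ⟨m * 3, by rw [hm] at h1; linarith⟩)
    have hOC : Cfsg.oddCore ↥H ≤ C := fun g hg => Subgroup.mem_centralizer_iff.mpr fun w hw => by
      refine (Subgroup.commute_of_normal_of_disjoint Z (Cfsg.oddCore ↥H) inferInstance inferInstance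
        (Subgroup.disjoint_of_coprime_natCard ?_) w g ?_ hg).eq
      · rw [hb]; exact Nat.Coprime.pow_left b (Nat.prime_two.coprime_iff_not_dvd.mpr odd_card_oddCore)
      · obtain ⟨z, hz, hz'⟩ : (w : G) ∈ Q := by
          rw [← hWQ]
          rcases hw with rfl | hw
          · exact mem_W (by norm_num) (by norm_num)
          · rw [Set.mem_singleton_iff.mp hw]; exact mem_W (by norm_num) (by norm_num)
        rwa [← Subtype.ext hz']
    have hcard := card_oddCore_of_central hZC hcen (Cores.isPGroup_pCore 2 _) hodd hOC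
    have hnotO : ∀ w : ↥H, w * w = 1 → w ≠ 1 → w ∉ Cfsg.oddCore ↥H := fun w h1 h2 h3 => odd_card_oddCore
      ((orderOf_eq_prime (p := 2) (by rw [pow_two, h1]) h2).symm.dvd.trans (Subgroup.orderOf_dvd_natCard _ h3))
    refine mulEquiv_quot_permFour hAA hBB hABc hT hC6 _ hOC ?_
      (hnotO A hAA fun h' => Sx.ne_one 1 (congrArg Subtype.val h'))
      (hnotO B hBB fun h' => Sx.ne_one 2 (congrArg Subtype.val h'))
      (hnotO (A * B) (by rw [show A * B * (A * B) = A * (B * A) * B by group, hABc.eq.symm,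
        show A * (A * B) * B = A * A * (B * B) by group, hAA, hBB, one_mul]) fun h' => hxab (congrArg Subtype.val h'))
    rw [hcard, hb, show b = 2 by omega]
    norm_num
  · subst ht
    refine ⟨Or.inr (Or.inr (by rw [hPval]; norm_num)), Or.inr (Or.inr ?_)⟩
    have hcd' : ∀ (j l : ℤ), (j - l).natAbs < 3 → Commute (x j) (x l) := fun j l h' => hcd j l (by omega)
    have hinvx : ∀ l : ℤ, (x l)⁻¹ = x l := fun l => inv_eq_of_mul_eq_one_right (Sx.sq l)
    let ga := x 1 * x 2
    let gb := x 2 * x 3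
    have hga2 : ga * ga = 1 := by
      show x 1 * x 2 * (x 1 * x 2) = 1
      rw [show x 1 * x 2 * (x 1 * x 2) = x 1 * (x 2 * x 1) * x 2 by group, (hcd' 2 1 (by norm_num)).eq,
        show x 1 * (x 1 * x 2) * x 2 = (x 1 * x 1) * (x 2 * x 2) by group, Sx.sq 1, Sx.sq 2, one_mul]
    have hgb2 : gb * gb = 1 := by
      show x 2 * x 3 * (x 2 * x 3) = 1
      rw [show x 2 * x 3 * (x 2 * x 3) = x 2 * (x 3 * x 2) * x 3 by group, (hcd' 3 2 (by norm_num)).eq,
        show x 2 * (x 2 * x 3) * x 3 = (x 2 * x 2) * (x 3 * x 3) by group, Sx.sq 2, Sx.sq 3, one_mul]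
    have hgab : ga * gb = x 1 * x 3 := by
      show x 1 * x 2 * (x 2 * x 3) = x 1 * x 3
      rw [show x 1 * x 2 * (x 2 * x 3) = x 1 * (x 2 * x 2) * x 3 by group, Sx.sq 2, mul_one]
    have hz2H : ∀ u ∈ H, Commute (x 2) u := fun u hu => Sx.central_H (fun j hj0 hj1 => hcd' 2 j (by omega)) hu
    have e0b : x 0 * gb * (x 0)⁻¹ = ga * gb := by
      rw [hgab]
      show x 0 * (x 2 * x 3) * (x 0)⁻¹ = _
      rw [show x 0 * (x 2 * x 3) * (x 0)⁻¹ = (x 0 * x 2 * (x 0)⁻¹) * (⁅x 0, x 3⁆ * x 3) by rw [commutatorElement_def]; group,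
        (hcd' 0 2 (by norm_num)).eq, mul_inv_cancel_right, hc0,
        show x 2 * (x 1 * x 2 * x 3) = (x 2 * x 1) * x 2 * x 3 by group, (hcd' 2 1 (by norm_num)).eq,
        show x 1 * x 2 * x 2 * x 3 = x 1 * (x 2 * x 2) * x 3 by group, Sx.sq 2, mul_one]
    have e4a : x 4 * ga * (x 4)⁻¹ = ga * gb := by
      rw [hgab]
      show x 4 * (x 1 * x 2) * (x 4)⁻¹ = _
      rw [show x 4 * (x 1 * x 2) * (x 4)⁻¹ = (⁅x 1, x 4⁆⁻¹ * x 1) * (x 4 * x 2 * (x 4)⁻¹) by rw [commutatorElement_def]; group,
        (hcd' 4 2 (by norm_num)).eq, mul_inv_cancel_right, hc1, mul_inv_rev, hinvx, hinvx,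
        show x 3 * x 2 * x 1 * x 2 = x 3 * (x 2 * x 1) * x 2 by group, (hcd' 2 1 (by norm_num)).eq,
        show x 3 * (x 1 * x 2) * x 2 = (x 3 * x 1) * (x 2 * x 2) by group, Sx.sq 2, mul_one, (hcd' 3 1 (by norm_num)).eq]
    have e0a : x 0 * ga * (x 0)⁻¹ = ga := by
      rw [((hcd' 0 1 (by norm_num)).mul_right (hcd' 0 2 (by norm_num))).eq, mul_inv_cancel_right]
    have e4b : x 4 * gb * (x 4)⁻¹ = gb := by
      rw [((hcd' 4 2 (by norm_num)).mul_right (hcd' 4 3 (by norm_num))).eq, mul_inv_cancel_right]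
    let A : ↥H := ⟨ga, H.mul_mem (Sx.x_mem_H (by norm_num) (by norm_num)) (Sx.x_mem_H (by norm_num) (by norm_num))⟩
    let B : ↥H := ⟨gb, H.mul_mem (Sx.x_mem_H (by norm_num) (by norm_num)) (Sx.x_mem_H (by norm_num) (by norm_num))⟩
    let z : ↥H := ⟨x 2, Sx.x_mem_H (by norm_num) (by norm_num)⟩
    let u : ↥H := ⟨x 0, Sx.x_mem_H le_rfl (by norm_num)⟩
    have hAA : A * A = 1 := Subtype.ext hga2
    have hBB : B * B = 1 := Subtype.ext hgb2
    have hzz : z * z = 1 := Subtype.ext (Sx.sq 2)
    have hABc : Commute A B := Subtype.ext (show ga * gb = gb * ga from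
      (((hcd' 1 2 (by norm_num)).mul_right (hcd' 1 3 (by norm_num))).mul_left
        ((Commute.refl (x 2)).mul_right (hcd' 2 3 (by norm_num)))).eq)
    -- nonidentity products
    have n12 : x 1 * x 2 ≠ 1 := fun h' => hch.not_mem_left (i := 1) (k := 1) (by omega) (by
      rw [eq_inv_of_mul_eq_one_left h', hinvx]; exact mem_W (by norm_num) (by norm_num))
    have n23 : x 2 * x 3 ≠ 1 := fun h' => hch.not_mem_left (i := 2) (k := 1) (by omega) (by
      rw [eq_inv_of_mul_eq_one_left h', hinvx]; exact mem_W (by norm_num) (by norm_num))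
    have n13 : x 1 * x 3 ≠ 1 := fun h' => hch.not_mem_left (i := 1) (k := 2) (by omega) (by
      rw [eq_inv_of_mul_eq_one_left h', hinvx]; exact mem_W (by norm_num) (by norm_num))
    have n123 : x 1 * x 2 * x 3 ≠ 1 := fun h' => hch.not_mem_right (i := 1) (k := 2) (by omega) (by
      rw [show (1 : ℤ) + ((2 : ℕ) : ℤ) = 3 by norm_num, eq_inv_of_mul_eq_one_right h', mul_inv_rev, hinvx, hinvx]
      exact mul_mem (mem_W (by norm_num) (by norm_num)) (mem_W (by norm_num) (by norm_num)))
    have hne : A ≠ B := fun h' => n13 (by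
      rw [← hgab, show ga = gb from congrArg Subtype.val h', hgb2])
    have hT : ∀ g : ↥H, ∀ w ∈ ({A, B, A * B} : Set ↥H), g * w * g⁻¹ ∈ ({A, B, A * B} : Set ↥H) := by
      intro g w hw
      let T : Set G := {ga, gb, ga * gb}
      have hg : ∀ w ∈ T, (g : G) * w * (g : G)⁻¹ ∈ T := by
        have hmem : (g : G) ∈ W x 0 (4 + 1) := hgenW.symm ▸ g.2
        generalize (g : G) = g' at hmem ⊢
        unfold W at hmem
        induction hmem using Subgroup.closure_induction with
        | mem v hv =>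
          obtain ⟨j, hj1, hj2, rfl⟩ := hv
          push_cast at hj2
          intro w hw
          have hconj : ∀ p q : G, x j * (p * q) * (x j)⁻¹ = (x j * p * (x j)⁻¹) * (x j * q * (x j)⁻¹) := fun p q => by group
          rcases (show j = 0 ∨ (1 ≤ j ∧ j ≤ 3) ∨ j = 4 by omega) with rfl | hj | rfl
          · rcases hw with rfl | rfl | hw
            · exact Or.inl e0a
            · exact Or.inr (Or.inr e0b)
            · rw [Set.mem_singleton_iff.mp hw, hconj, e0a, e0b, ← mul_assoc, hga2, one_mul]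
              exact Or.inr (Or.inl rfl)
          · have ca : x j * ga * (x j)⁻¹ = ga := by
              rw [((hcd' j 1 (by omega)).mul_right (hcd' j 2 (by omega))).eq, mul_inv_cancel_right]
            have cb : x j * gb * (x j)⁻¹ = gb := by
              rw [((hcd' j 2 (by omega)).mul_right (hcd' j 3 (by omega))).eq, mul_inv_cancel_right]
            rcases hw with rfl | rfl | hw
            · exact Or.inl ca
            · exact Or.inr (Or.inl cb)
            · rw [Set.mem_singleton_iff.mp hw, hconj, ca, cb]; exact Or.inr (Or.inr rfl)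
          · rcases hw with rfl | rfl | hw
            · exact Or.inr (Or.inr e4a)
            · exact Or.inr (Or.inl e4b)
            · rw [Set.mem_singleton_iff.mp hw, hconj, e4a, e4b, mul_assoc, hgb2, mul_one]
              exact Or.inl rfl
        | one => intro w hw; rwa [one_mul, inv_one, mul_one]
        | mul p q _ _ ihp ihq =>
          intro w hw
          have := ihp _ (ihq w hw)
          rwa [show p * q * w * (p * q)⁻¹ = p * (q * w * q⁻¹) * p⁻¹ by group]
        | inv p _ ihp =>
          intro w hw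
          have himg : (fun z => p * z * p⁻¹) '' T = T :=
            Set.eq_of_subset_of_ncard_le (Set.image_subset_iff.mpr fun z hz => ihp z hz)
              (le_of_eq (Set.ncard_image_of_injective _ fun z z' h' => mul_left_cancel (mul_right_cancel h')).symm)
              (Set.toFinite _)
          obtain ⟨v, hv, rfl⟩ := himg.symm ▸ hw
          rwa [show p⁻¹ * (p * v * p⁻¹) * p⁻¹⁻¹ = v by group]
      have hwT : (w : G) ∈ T := by
        rcases hw with rfl | rfl | hw
        exacts [Or.inl rfl, Or.inr (Or.inl rfl), Or.inr (Or.inr (congrArg Subtype.val (Set.mem_singleton_iff.mp hw)))]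
      rcases hg _ hwT with h' | h' | h'
      · exact Or.inl (Subtype.ext h')
      · exact Or.inr (Or.inl (Subtype.ext h'))
      · exact Or.inr (Or.inr (Subtype.ext h'))
    obtain ⟨hCn, hC6⟩ := index_centralizer_pair (u := u)
      (v := ⟨x 4, Sx.x_mem_H (by norm_num) (by norm_num)⟩) hAA hBB
      (fun h' => n12 (congrArg Subtype.val h')) (fun h' => n23 (congrArg Subtype.val h')) hne
      (Subtype.ext e0a) (Subtype.ext e0b) (Subtype.ext e4b) (Subtype.ext e4a) hT
    set C := Subgroup.centralizer ({A, B} : Set ↥H)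
    set O := Cfsg.oddCore ↥H
    have hZgen : ∀ w ∈ Z, (w : G) ∈ W x 1 3 := fun w hw => hWQ.ge ⟨w, hw, rfl⟩
    have hzc : z ∈ Subgroup.center ↥H := Subgroup.mem_center_iff.mpr fun g => Subtype.ext (hz2H g g.2).eq.symm
    have hZC : Z ≤ C := fun v hv => Subgroup.mem_centralizer_iff.mpr fun w hw => Subtype.ext (by
      refine (commute_W (fun l hl1 hl2 => ?_) (hZgen v hv)).eq
      rcases hw with rfl | hw
      · exact (hcd' 1 l (by omega)).mul_left (hcd' 2 l (by omega))
      · rw [Set.mem_singleton_iff.mp hw]; exact (hcd' 2 l (by omega)).mul_left (hcd' 3 l (by omega)))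
    have hcen : ∀ w ∈ Z, ∀ c ∈ C, Commute w c := fun w hw c hc => Subtype.ext (by
      refine (commute_W (y := (c : G)) (fun l hl1 hl2 => ?_) (hZgen w hw)).eq.symm
      have ca : Commute (c : G) ga := (congrArg Subtype.val (Subgroup.mem_centralizer_iff.mp hc A (Or.inl rfl))).symm
      have cb : Commute (c : G) gb := (congrArg Subtype.val (Subgroup.mem_centralizer_iff.mp hc B (Or.inr rfl))).symm
      have c2 : Commute (c : G) (x 2) := (hz2H c c.2).symm
      rcases (show l = 1 ∨ l = 2 ∨ l = 3 by omega) with rfl | rfl | rfl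
      · have h' := ca.mul_right c2
        rwa [show ga * x 2 = x 1 * (x 2 * x 2) from mul_assoc _ _ _, Sx.sq 2, mul_one] at h'
      · exact c2
      · have h' := c2.mul_right cb
        rwa [show x 2 * gb = (x 2 * x 2) * x 3 from (mul_assoc _ _ _).symm, Sx.sq 2, one_mul] at h')
    have hodd : ¬ 2 ∣ Z.relIndex C := fun hd => hnodd (by
      have h1 := Subgroup.relIndex_mul_index hZC
      rw [hC6] at h1
      have h2 : Z.index = 2 * n := by
        rw [← hfker, Subgroup.index_ker, MonoidHom.range_eq_top.mpr hf, Subgroup.card_top, nat_card]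
      rw [h2] at h1
      obtain ⟨m, hm⟩ := hd
      exact ⟨m * 3, by rw [hm] at h1; linarith⟩)
    have hmemZ : ∀ v : ↥H, (v : G) ∈ W x 1 3 → v ∈ Z := fun v hv => by
      obtain ⟨w, hw, hw'⟩ : (v : G) ∈ Q := hWQ.le hv
      rwa [← Subtype.ext hw']
    have hAZ : A ∈ Z := hmemZ A (mul_mem (mem_W (by norm_num) (by norm_num)) (mem_W (by norm_num) (by norm_num)))
    have hBZ : B ∈ Z := hmemZ B (mul_mem (mem_W (by norm_num) (by norm_num)) (mem_W (by norm_num) (by norm_num)))
    have hzZ : z ∈ Z := hmemZ z (mem_W (by norm_num) (by norm_num))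
    have hdisj : Disjoint Z O := Subgroup.disjoint_of_coprime_natCard (by
      rw [hb]; exact Nat.Coprime.pow_left b (Nat.prime_two.coprime_iff_not_dvd.mpr odd_card_oddCore))
    have hOn : O.Normal := inferInstance
    have hOC : O ≤ C := fun g hg => Subgroup.mem_centralizer_iff.mpr fun w hw => by
      refine (Subgroup.commute_of_normal_of_disjoint Z O inferInstance hOn hdisj w g ?_ hg).eq
      rcases hw with rfl | hw
      · exact hAZ
      · rwa [Set.mem_singleton_iff.mp hw]
    have hcard := card_oddCore_of_central hZC hcen (Cores.isPGroup_pCore 2 _) hodd hOC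
    rw [hb, show b = 3 by omega] at hcard
    have hzO : ∀ v ∈ Z, v ∈ O → v = 1 := fun v h1 h2 => (Subgroup.disjoint_def.mp hdisj) h1 h2
    have hoz : orderOf z = 2 := orderOf_eq_prime (by rw [pow_two, hzz]) fun h' => Sx.ne_one 2 (congrArg Subtype.val h')
    have hzn : (Subgroup.zpowers z).Normal := ⟨fun w hw g => by
      rw [Subgroup.mem_center_iff.mp ((Subgroup.zpowers_le.mpr hzc) hw) g, mul_inv_cancel_right]; exact hw⟩
    set L := O ⊔ Subgroup.zpowers z
    have hLn : L.Normal := Subgroup.sup_normal O (Subgroup.zpowers z)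
    have hzp : ∀ v ∈ Subgroup.zpowers z, v = 1 ∨ v = z := by
      intro v hv
      obtain ⟨k, hk, rfl⟩ := Finset.mem_image.mp (mem_zpowers_iff_mem_range_orderOf.mp hv)
      rw [hoz, Finset.mem_range] at hk
      interval_cases k <;> simp
    have hLcard : Nat.card L = Nat.card O * 2 := by
      show Nat.card ↥(O ⊔ Subgroup.zpowers z) = _
      rw [Solvable.card_sup_of_disjoint O (Subgroup.zpowers z), Nat.card_zpowers, hoz]
      refine (Subgroup.eq_bot_iff_forall _).mpr fun v hv => ?_
      rcases hzp v hv.2 with h' | h'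
      · exact h'
      · exact hzO v (h' ▸ hzZ) hv.1
    have hLnot : ∀ v ∈ Z, v ≠ 1 → v * z ≠ 1 → v ∉ L := by
      intro v hv h1 h2 hvL
      rw [← SetLike.mem_coe, Subgroup.mul_normal] at hvL
      obtain ⟨o, ho, w, hw, rfl⟩ := hvL
      rcases hzp w hw with rfl | rfl
      · exact h1 (hzO _ hv (by simpa using ho))
      · exact h2 (hzO _ (Z.mul_mem hv hzZ) (by rw [mul_assoc, hzz, mul_one]; exact ho))
    have hLC : L ≤ C := sup_le hOC (Subgroup.zpowers_le.mpr (hZC hzZ))
    have hS4 : Nonempty (↥H ⧸ L ≃* Equiv.Perm (Fin 4)) := by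
      refine mulEquiv_quot_permFour hAA hBB hABc hT hC6 L hLC ?_ ?_ ?_ ?_
      · rw [hcard, hLcard]; ring
      · refine hLnot A hAZ (fun h' => n12 (congrArg Subtype.val h')) fun h' => Sx.ne_one 1 ?_
        have h'' : x 1 * x 2 * x 2 = 1 := congrArg Subtype.val h'
        rwa [mul_assoc, Sx.sq 2, mul_one] at h''
      · refine hLnot B hBZ (fun h' => n23 (congrArg Subtype.val h')) fun h' => Sx.ne_one 3 ?_
        have h'' : x 2 * x 3 * x 2 = 1 := congrArg Subtype.val h'
        rw [(hcd' 2 3 (by norm_num)).eq, mul_assoc, Sx.sq 2, mul_one] at h''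
        exact h''
      · refine hLnot _ (Z.mul_mem hAZ hBZ) (fun h' => n13 (hgab ▸ congrArg Subtype.val h')) fun h' => n123 ?_
        have h'' : ga * gb * x 2 = 1 := congrArg Subtype.val h'
        rwa [hgab, mul_assoc, (hcd' 3 2 (by norm_num)).eq, ← mul_assoc] at h''
    -- the complement of `z`
    set K := Subgroup.closure ({A, B} : Set ↥H)
    have hKmem : ∀ w ∈ K, w = 1 ∨ w = A ∨ w = B ∨ w = A * B := fun w hw => mem_pair hABc hAA hBB hw
    have hKn : K.Normal := ⟨fun w hw g => by
      have hA : A ∈ K := Subgroup.subset_closure (Or.inl rfl)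
      have hB : B ∈ K := Subgroup.subset_closure (Or.inr rfl)
      have hthree : ∀ v ∈ ({A, B, A * B} : Set ↥H), v ∈ K := by
        rintro v (rfl | rfl | hv)
        exacts [hA, hB, Set.mem_singleton_iff.mp hv ▸ K.mul_mem hA hB]
      rcases hKmem w hw with rfl | rfl | rfl | rfl
      · simp
      · exact hthree _ (hT g A (Or.inl rfl))
      · exact hthree _ (hT g B (Or.inr (Or.inl rfl)))
      · exact hthree _ (hT g _ (Or.inr (Or.inr rfl)))⟩
    have hKZ : K ≤ Z := (Subgroup.closure_le Z).mpr (by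
      rintro v (rfl | hv)
      · exact hAZ
      · rw [Set.mem_singleton_iff.mp hv]; exact hBZ)
    have hKcard : Nat.card K = 4 := by
      have hset : (K : Set ↥H) = {1, A, B, A * B} := by
        refine Set.Subset.antisymm (fun w hw => ?_) ?_
        · rcases hKmem w hw with h' | h' | h' | h' <;> simp [h']
        · rintro w (rfl | rfl | rfl | rfl)
          exacts [K.one_mem, Subgroup.subset_closure (Or.inl rfl), Subgroup.subset_closure (Or.inr rfl),
            K.mul_mem (Subgroup.subset_closure (Or.inl rfl)) (Subgroup.subset_closure (Or.inr rfl))]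
      rw [← SetLike.coe_sort_coe, Nat.card_coe_set_eq, hset]
      have a1 : (1 : ↥H) ≠ A := fun h' => n12 (congrArg Subtype.val h'.symm)
      have b1 : (1 : ↥H) ≠ B := fun h' => n23 (congrArg Subtype.val h'.symm)
      have ab1 : (1 : ↥H) ≠ A * B := fun h' => n13 (hgab ▸ congrArg Subtype.val h'.symm)
      have aab : A ≠ A * B := fun h' => b1 (left_eq_mul.mp h').symm
      have bab : B ≠ A * B := fun h' => a1 (right_eq_mul.mp h').symm
      rw [Set.ncard_insert_of_notMem (by simp only [Set.mem_insert_iff, Set.mem_singleton_iff, not_or]; exact ⟨a1, b1, ab1⟩) (Set.toFinite _),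
        Set.ncard_insert_of_notMem (by simp only [Set.mem_insert_iff, Set.mem_singleton_iff, not_or]; exact ⟨hne, aab⟩) (Set.toFinite _),
        Set.ncard_pair bab]
    set N := O ⊔ K
    have hNn : N.Normal := Subgroup.sup_normal O K
    have hNcard : Nat.card N = Nat.card O * 4 := by
      show Nat.card ↥(O ⊔ K) = _
      rw [Solvable.card_sup_of_disjoint O K (disjoint_iff.mp (hdisj.mono_left hKZ).symm), hKcard]
    have hHN : Nat.card (↥H ⧸ N) = 12 := by
      have h1 := N.index_mul_card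
      have h2 := C.index_mul_card
      rw [hC6, hcard] at h2
      rw [hNcard] at h1
      rw [← Subgroup.index_eq_card]
      refine Nat.eq_of_mul_eq_mul_right (mul_pos Nat.card_pos (by norm_num : 0 < 4)) (h1.trans (h2.symm.trans ?_))
      ring
    have hNC : N ≤ C := sup_le hOC (hKZ.trans hZC)
    have hzN : z ∉ N := by
      intro hzN'
      rw [← SetLike.mem_coe, Subgroup.mul_normal] at hzN'
      obtain ⟨o, ho, w, hw, how⟩ := hzN'
      have ho1 : o = 1 := hzO o (by rw [eq_mul_inv_of_mul_eq how]; exact Z.mul_mem hzZ (Z.inv_mem (hKZ hw))) ho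
      rw [ho1] at how
      have hzw : z = w := how.symm.trans (one_mul w)
      have hval : x 2 = (w : G) := congrArg Subtype.val hzw
      rcases hKmem w hw with rfl | rfl | rfl | rfl
      · exact Sx.ne_one 2 hval
      · exact Sx.ne_one 1 ((right_eq_mul.mp (show x 2 = x 1 * x 2 from hval)))
      · exact Sx.ne_one 3 ((left_eq_mul.mp (show x 2 = x 2 * x 3 from hval)))
      · refine n123 ?_
        have h'' : x 2 = x 1 * x 3 := hval.trans hgab
        rw [mul_assoc, (hcd' 2 3 (by norm_num)).eq, ← mul_assoc, ← h'', Sx.sq 2]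
    have hnotC : ∀ v : ↥H, (v : G) * gb * (v : G)⁻¹ = ga * gb → v ∉ C := fun v hv hc => by
      have hcomm : gb * (v : G) = (v : G) * gb :=
        congrArg Subtype.val (Subgroup.mem_centralizer_iff.mp hc B (Or.inr rfl))
      rw [← hcomm, mul_inv_cancel_right] at hv
      exact n12 (right_eq_mul.mp hv)
    have huz : u * z ∉ C := hnotC _ (by
      show x 0 * x 2 * gb * (x 0 * x 2)⁻¹ = ga * gb
      rw [mul_assoc (x 0) (x 2) gb, ((Commute.refl (x 2)).mul_right (hcd' 2 3 (by norm_num))).eq, mul_inv_rev,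
        show x 0 * (gb * x 2) * ((x 2)⁻¹ * (x 0)⁻¹) = x 0 * gb * (x 0)⁻¹ by group, e0b])
    exact mulEquiv_quot_prod hoz hzc (O := O) (W := N) odd_card_oddCore hS4 hzN le_sup_left hHN
      (Subtype.ext (Sx.sq 0)) (fun h' => hnotC u e0b (hNC h')) (fun h' => huz (hNC h'))

end Cfsg.Agent.S4385
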