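import Cfsg.Statements.S2772
import Cfsg.Agent.Lib.SimsChain.OddAut
import Cfsg.Agent.S4385

set_option autoImplicit false
open Cfsg

namespace Cfsg.Agent.S2772

open Cfsg.Agent.SimsChain
open scoped Pointwise commutatorElement


/-- Sims' Theorem in local form: let H be a finite non-abelian simple group and G a maximal subgroup of H with C_G(O₂(G)) ≤ O₂(G), such that N_H(S) is not contained in G for a Sylow 2-subgroup S of G and G/O₂(G) is dihedral of order 2q for a prime q. Then G is isomorphic to the symmetric group of degree 4 or to its direct product with a group of order 2. -/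
theorem result {H : Type*} [Group H] [Finite H] [IsSimpleGroup H] (hna : ¬ IsMulCommutative H) (G : Subgroup H) (hG : IsCoatom G) (hchar : Subgroup.centralizer (Cfsg.pCore 2 ↥G : Set ↥G) ≤ Cfsg.pCore 2 ↥G) (S : Sylow 2 ↥G) (hN : ¬ Subgroup.normalizer (((S : Subgroup ↥G).map G.subtype : Subgroup H) : Set H) ≤ G) (q : ℕ) (hq : q.Prime) (hD : Nonempty (↥G ⧸ Cfsg.pCore 2 ↥G ≃* DihedralGroup q)) : Nonempty (↥G ≃* Equiv.Perm (Fin 4)) ∨ Nonempty (↥G ≃* Equiv.Perm (Fin 4) × Multiplicative (ZMod 2)) := by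
  classical
  have := Fact.mk Nat.prime_two
  obtain ⟨eD⟩ := hD
  haveI : NeZero q := ⟨hq.ne_zero⟩
  have hGtop : G ≠ ⊤ := hG.1
  have hGbot : Cfsg.pCore 2 ↥G ≠ ⊥ := by
    intro h0
    have h1 : (⊤ : Subgroup ↥G) ≤ ⊥ := by
      refine le_trans (fun g _ => ?_) (hchar.trans h0.le)
      rw [h0, Subgroup.mem_centralizer_iff]
      intro x hx
      rw [Subgroup.mem_bot.mp hx, one_mul, mul_one]
    obtain ⟨g, hg⟩ := (eD.surjective.comp (QuotientGroup.mk'_surjective _)) (DihedralGroup.r 1)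
    have h2 : g = 1 := Subgroup.mem_bot.mp (h1 (Subgroup.mem_top g))
    rw [h2] at hg
    change eD (QuotientGroup.mk' _ 1) = _ at hg
    rw [map_one, map_one] at hg
    rw [← DihedralGroup.r_zero] at hg
    have hinj := DihedralGroup.r.inj hg
    haveI : Fact (1 < q) := ⟨hq.one_lt⟩
    exact zero_ne_one hinj
  set P := (S : Subgroup ↥G).map G.subtype with hPdef
  have hPG : P ≤ G := Subgroup.map_subtype_le _
  have hP : IsPGroup 2 P := S.2.map _
  have hPsyl : ¬ 2 ∣ P.relIndex G := by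
    rw [Subgroup.relIndex, Subgroup.subgroupOf, hPdef,
      Subgroup.comap_map_eq_self_of_injective G.subtype_injective]
    exact S.not_dvd_index
  have hmaxP : ∀ g ∈ G, g ∈ Subgroup.normalizer (P : Set H) → IsPGroup 2 ↥(Subgroup.zpowers g) → g ∈ P := by
    intro g hg hgN hgp
    have h1 : IsPGroup 2 ↥(P ⊔ Subgroup.zpowers g) :=
      hP.to_sup_of_normal_left' hgp (Subgroup.zpowers_le.mpr hgN)
    have h2 : P ⊔ Subgroup.zpowers g ≤ G := sup_le hPG (Subgroup.zpowers_le.mpr hg)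
    have h3 : (S : Subgroup ↥G) ≤ (P ⊔ Subgroup.zpowers g).subgroupOf G := fun s hs =>
      Subgroup.mem_sup_left ⟨s, hs, rfl⟩
    have h4 := S.3 (h1.comap_subtype) h3
    refine ⟨⟨g, hg⟩, ?_, rfl⟩
    rw [SetLike.mem_coe, ← h4]
    exact Subgroup.mem_sup_right (Subgroup.mem_zpowers g)
  have hnormal : ∀ N : Subgroup H, N ≤ G → ∀ g : H, g ∉ G → G ≤ Subgroup.normalizer (N : Set H) →
      g ∈ Subgroup.normalizer (N : Set H) → N = ⊥ := by
    intro N hNG g hg hGN hgN
    have htop : Subgroup.normalizer (N : Set H) = ⊤ :=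
      hG.2 _ (lt_of_le_of_ne hGN fun e => hg (e ▸ hgN))
    rcases (Subgroup.normalizer_eq_top_iff.mp htop).eq_bot_or_eq_top with h | h
    · exact h
    · exact absurd (top_le_iff.mp (h ▸ hNG)) hGtop
  have hmem : ∀ y : H, y ∈ Subgroup.normalizer (P : Set H) → MulAut.conj y • P = P := fun y hy => by
    refine Subgroup.eq_of_le_of_card_ge ?_ (le_of_eq (Nat.card_congr (Subgroup.equivSMul _ P).toEquiv))
    rintro _ ⟨w, hw, rfl⟩
    exact (Subgroup.mem_normalizer_iff.mp hy w).mp hw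
  have hQy : ∀ y : H, y ∉ G → ∀ Q : Subgroup H, Q ≤ P → (Q.subgroupOf G).Normal →
      MulAut.conj y • Q = Q → Q = ⊥ := by
    intro y hy Q hQP hQn hQy
    refine hnormal Q (hQP.trans hPG) y hy
      ((Subgroup.normal_subgroupOf_iff_le_normalizer (hQP.trans hPG)).mp hQn) ?_
    rw [Subgroup.mem_normalizer_iff_map_conj_eq]
    exact hQy
  obtain ⟨y₀, hy₀N, hy₀G⟩ := SetLike.not_le_iff_exists.mp hN
  -- split into the `2`-part and the odd part
  obtain ⟨k, m, hm, hkm⟩ : ∃ k m, Odd m ∧ orderOf y₀ = 2 ^ k * m := by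
    obtain ⟨k, m, hm, hkm⟩ := Nat.exists_eq_two_pow_mul_odd (orderOf_pos y₀).ne'
    exact ⟨k, m, hm, hkm⟩
  by_cases hb : y₀ ^ 2 ^ k ∈ G
  · -- a `2`-element outside `G`
    have hzG : y₀ ^ m ∉ G := fun hc => hy₀G (by
      have hcop : Nat.Coprime (2 ^ k) m := Nat.Coprime.pow_left k hm.coprime_two_left
      obtain ⟨u, v, huv⟩ : ∃ u v : ℤ, ((2 ^ k : ℕ) : ℤ) * u + (m : ℤ) * v = 1 :=
        ⟨_, _, (by rw [← Nat.gcd_eq_gcd_ab, hcop.gcd_eq_one]; rfl : _ = (1 : ℤ))⟩
      rw [← zpow_one y₀, ← huv, zpow_add, zpow_mul, zpow_mul, zpow_natCast, zpow_natCast]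
      exact G.mul_mem (G.zpow_mem hb u) (G.zpow_mem hc v))
    have hz2 : (y₀ ^ m) ^ 2 ^ k ∈ G := by
      rw [← pow_mul, mul_comm, ← hkm, pow_orderOf_eq_one]
      exact G.one_mem
    have hex : ∃ i, (y₀ ^ m) ^ 2 ^ (i + 1) ∈ G :=
      ⟨k, by rw [pow_succ, pow_mul]; exact G.pow_mem hz2 2⟩
    set i := Nat.find hex
    set y := (y₀ ^ m) ^ 2 ^ i
    have hyG : y ∉ G := by
      rcases Nat.eq_zero_or_pos i with h0 | h0
      · show (y₀ ^ m) ^ 2 ^ i ∉ G
        rw [h0, pow_zero, pow_one]; exact hzG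
      · intro hc
        refine Nat.find_min hex (show i - 1 < i by omega) ?_
        rwa [show i - 1 + 1 = i by omega]
    have hyN : y ∈ Subgroup.normalizer (P : Set H) := pow_mem (pow_mem hy₀N _) _
    have hyp : IsPGroup 2 ↥(Subgroup.zpowers y) := by
      refine IsPGroup.of_card_dvd_pow (n := k) ?_
      rw [Nat.card_zpowers]
      refine orderOf_dvd_of_pow_eq_one ?_
      show ((y₀ ^ m) ^ 2 ^ i) ^ 2 ^ k = 1
      rw [← pow_mul, ← pow_mul, show m * (2 ^ i * 2 ^ k) = 2 ^ k * m * 2 ^ i by ring, ← hkm, pow_mul,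
        pow_orderOf_eq_one, one_pow]
    have hy2 : y ^ 2 ∈ P := by
      refine hmaxP _ ?_ (pow_mem hyN 2) (hyp.to_le (Subgroup.zpowers_le.mpr ((Subgroup.zpowers y).pow_mem (Subgroup.mem_zpowers y) 2)))
      show ((y₀ ^ m) ^ 2 ^ i) ^ 2 ∈ G
      rw [← pow_mul, ← pow_succ]
      exact Nat.find_spec hex
    have hsup : IsPGroup 2 ↥(P ⊔ Subgroup.zpowers y) :=
      hP.to_sup_of_normal_left' hyp (Subgroup.zpowers_le.mpr hyN)
    obtain ⟨T, hT⟩ := hsup.exists_le_sylow
    obtain ⟨-, h3⟩ := Cfsg.Agent.S4385.result G hGbot q hq.two_le ⟨eD⟩ P hPG hP hPsyl T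
      (le_sup_left.trans hT) y ((le_sup_right.trans hT) (Subgroup.mem_zpowers y))
      (fun h => hyG (hPG h)) (Subgroup.mem_sup_left hy2) (hmem y hyN) (hQy y hyG)
    have hodd : Cfsg.oddCore ↥G = ⊥ := by
      rw [eq_bot_iff]
      intro x hx
      have hc : x ∈ Subgroup.centralizer (Cfsg.pCore 2 ↥G : Set ↥G) := by
        intro u hu
        have hbot : ⁅Cfsg.pCore 2 ↥G, Cfsg.oddCore ↥G⁆ = ⊥ := by
          rw [eq_bot_iff]
          refine le_trans (Subgroup.commutator_le_inf _ _) fun w hw => ?_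
          obtain ⟨l, hl⟩ := Cores.isPGroup_pCore 2 ↥G ⟨w, hw.1⟩
          exact Subgroup.mem_bot.mpr (orderOf_eq_one_iff.mp (Nat.eq_one_of_dvd_coprimes
            ((Cores.coprime_card_pPrimeCore (G := ↥G) 2).pow_right l)
            (Subgroup.orderOf_dvd_natCard _ hw.2) (orderOf_dvd_of_pow_eq_one (congrArg Subtype.val hl))))
        have h1 : ⁅u, x⁆ ∈ (⊥ : Subgroup ↥G) := hbot ▸ Subgroup.commutator_mem_commutator hu hx
        exact commutatorElement_eq_one_iff_mul_comm.mp (Subgroup.mem_bot.mp h1)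
      obtain ⟨l, hl⟩ := Cores.isPGroup_pCore 2 ↥G ⟨x, hchar hc⟩
      refine Subgroup.mem_bot.mpr (orderOf_eq_one_iff.mp (Nat.eq_one_of_dvd_coprimes
        ((Cores.coprime_card_pPrimeCore (G := ↥G) 2).pow_right l)
        (Subgroup.orderOf_dvd_natCard _ hx) (orderOf_dvd_of_pow_eq_one (congrArg Subtype.val hl))))
    have eG : ↥G ≃* ↥G ⧸ Cfsg.oddCore ↥G :=
      (QuotientGroup.quotientBot (G := ↥G)).symm.trans (QuotientGroup.quotientMulEquivOfEq hodd.symm)
    rcases h3 with ⟨⟨e⟩⟩ | ⟨⟨e⟩⟩ | ⟨⟨e⟩⟩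
    · exfalso
      have h4 : Nat.card ↥G = 2 ^ 2 := by
        rw [Nat.card_congr (eG.trans e).toEquiv, Nat.card_prod, Nat.card_congr Multiplicative.toAdd,
          Nat.card_zmod]
        norm_num
      have htop : Cfsg.pCore 2 ↥G = ⊤ := top_le_iff.mp (Cores.le_pCore inferInstance
        ((IsPGroup.of_card h4).to_subgroup ⊤))
      have h5 := Nat.card_congr eD.toEquiv
      rw [← Subgroup.index_eq_card, htop, Subgroup.index_top, DihedralGroup.nat_card] at h5
      have := hq.two_le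
      omega
    · exact Or.inl ⟨eG.trans e⟩
    · exact Or.inr ⟨eG.trans e⟩
  · -- an element of odd order outside `G`
    exfalso
    set y := y₀ ^ 2 ^ k
    have hyN : y ∈ Subgroup.normalizer (P : Set H) := pow_mem hy₀N _
    have hyodd : Odd (orderOf y) := by
      rw [orderOf_pow, hkm, Nat.gcd_mul_right_left, Nat.mul_div_cancel_left _ (pow_pos two_pos k)]
      exact hm
    obtain ⟨h, t, x, hh, ht, hch, hW, hgen, hQ, hsh⟩ := exists_dihedral_chain G hGbot q hq.two_le ⟨eD⟩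
      P hPG hP hPsyl y (hmem y hyN) (hQy y hb)
    refine odd_aut_false hch ht hW hgen hQ hh hsh (hmem y hyN) hyodd hchar fun z hz hc1 hc2 => ?_
    by_contra hz1
    have hGy : ¬ ∀ g ∈ G, y⁻¹ * g * y ∈ G := by
      intro hall
      have hGN : y⁻¹ ∈ Subgroup.normalizer (G : Set H) := by
        rw [Subgroup.mem_normalizer_iff_map_conj_eq]
        refine Subgroup.eq_of_le_of_card_ge ?_ (le_of_eq (Subgroup.card_map_of_injective (MulAut.conj _).injective).symm)
        rintro _ ⟨g, hg, rfl⟩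
        show y⁻¹ * g * y⁻¹⁻¹ ∈ G
        rw [inv_inv]; exact hall g hg
      refine hGbot ?_
      have := hnormal G le_rfl y hb Subgroup.le_normalizer (by simpa using inv_mem hGN)
      rw [eq_bot_iff]
      intro u _
      exact Subgroup.mem_bot.mpr (Subtype.ext ((Subgroup.eq_bot_iff_forall G).mp this u u.2))
    push Not at hGy
    obtain ⟨g, hg, hgG⟩ := hGy
    refine hz1 ((Subgroup.eq_bot_iff_forall _).mp (hnormal (Subgroup.zpowers z) (Subgroup.zpowers_le.mpr hz)
      (y⁻¹ * g * y) hgG (fun u hu => ?_) ?_) z (Subgroup.mem_zpowers z))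
    · refine Subgroup.centralizer_le_normalizer _ ?_
      rw [Subgroup.mem_centralizer_iff]
      rintro _ ⟨i, rfl⟩
      exact ((hc1 u hu).zpow_left i).eq
    · refine Subgroup.centralizer_le_normalizer _ ?_
      rw [Subgroup.mem_centralizer_iff]
      rintro _ ⟨i, rfl⟩
      exact ((hc2 g hg).zpow_left i).eq

end Cfsg.Agent.S2772
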