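import Cfsg.Statements.S2779
import Cfsg.Agent.Lib.NatSL2.Basic

set_option autoImplicit false
open Cfsg

namespace Cfsg.Agent.S2779


open scoped commutatorElement Matrix

/-- Let L act on the elementary abelian p-group V (inside a finite group, by conjugation, faithfully) as SL₂(F) on its natural module, F a field with p^n elements, and let S be a Sylow p-subgroup of L. Then [V, S, S] = 1; |V| = p^(2n) and |C_V(S)| = p^n; and for every nonidentity s ∈ S and every v ∈ V outside C_V(S): C_V(s) = C_V(S) = [V, S] = [V, s] = the subgroup generated by the commutators [v, t], t ∈ S. -/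
theorem result {G : Type*} [Group G] [Finite G] {p : ℕ} [Fact p.Prime] {F : Type*} [Field F] [Fintype F] (n : ℕ) (hF : Fintype.card F = p ^ n) (V L : Subgroup G) (hnat : Cfsg.IsNaturalSL2Module F V L) (hf : L ⊓ Subgroup.centralizer (V : Set G) = ⊥) (S : Sylow p ↥L) (T : Subgroup G) (hT : T = ((S : Subgroup ↥L).map L.subtype)) : ⁅⁅V, T⁆, T⁆ = ⊥ ∧ Nat.card V = p ^ (2 * n) ∧ Nat.card ↥(V ⊓ Subgroup.centralizer ((T : Subgroup G) : Set G)) = p ^ n ∧ ∀ s ∈ T, s ≠ 1 → (V ⊓ Subgroup.centralizer ({s} : Set G)) = (V ⊓ Subgroup.centralizer ((T : Subgroup G) : Set G)) ∧ ⁅V, T⁆ = (V ⊓ Subgroup.centralizer ((T : Subgroup G) : Set G)) ∧ ⁅V, Subgroup.zpowers s⁆ = (V ⊓ Subgroup.centralizer ((T : Subgroup G) : Set G)) ∧ ∀ v ∈ V, v ∉ Subgroup.centralizer (T : Set G) → Subgroup.closure {x : G | ∃ t ∈ T, x = v * t * v⁻¹ * t⁻¹} = (V ⊓ Subgroup.centralizer ((T : Subgroup G) : Set G)) := by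
  obtain ⟨D⟩ := Cfsg.Agent.NatSL2.exists_coord hF hnat hf S hT
  set C := V ⊓ Subgroup.centralizer (T : Set G) with hC
  have hcen : ∀ v ∈ V, ∀ t ∈ T, v * t * v⁻¹ * t⁻¹ ∈ C := by
    intro v hv t ht
    obtain ⟨h, hco⟩ := D.commutator_mem ht hv
    exact ⟨h, (D.mem_centralizer_iff h).mpr (by rw [hco]; rfl)⟩
  have hcomm : ⁅V, T⁆ ≤ C := by
    rw [Subgroup.commutator_le]
    intro v hv t ht
    rw [commutatorElement_def]
    exact hcen v hv t ht
  refine ⟨?_, ?_, ?_, ?_⟩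
  · rw [eq_bot_iff]
    refine (Subgroup.commutator_mono hcomm le_rfl).trans ?_
    exact (Subgroup.commutator_eq_bot_iff_le_centralizer.mpr inf_le_right).le
  · rw [D.card_eq, hF, ← pow_mul, mul_comm]
  · rw [D.card_centralizer, hF]
  intro s hs hs1
  have hU := (D.mem_iff ⟨s, D.le hs⟩).mp hs
  set a := (D.e ⟨s, D.le hs⟩).1 0 1 with ha
  have ha0 : a ≠ 0 := by
    intro h
    apply hs1
    have h1 : D.e ⟨s, D.le hs⟩ = 1 := by
      rw [hU.eq_up]
      refine Subtype.ext ?_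
      show !![1, a; 0, 1] = 1
      rw [h, Matrix.one_fin_two]
    exact congrArg Subtype.val ((map_eq_one_iff _ D.e.injective).mp h1)
  have hreach : ∀ c : F, ∃ v ∈ V, (D.el ![c, 0] : G) = v * s * v⁻¹ * s⁻¹ := by
    intro c
    refine ⟨D.el ![0, -c / a], (D.el _).2, ?_⟩
    obtain ⟨h, hco⟩ := D.commutator_mem hs (D.el ![0, -c / a]).2
    refine (congrArg Subtype.val (D.co_injective (a₁ := (⟨_, h⟩ : ↥V)) (a₂ := D.el ![c, 0]) ?_)).symm
    rw [hco, D.co_el, D.co_el]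
    simp only [Matrix.cons_val_one, Matrix.cons_val_fin_one, ← ha]
    rw [mul_div_cancel₀ _ ha0, neg_neg]
  have hel : ∀ v ∈ C, ∃ c : F, (D.el ![c, 0] : G) = v := by
    intro v hv
    refine ⟨D.co ⟨v, hv.1⟩ 0, ?_⟩
    rw [← Cfsg.Agent.NatSL2.vec_eq rfl ((D.mem_centralizer_iff hv.1).mp hv.2)]
    exact congrArg Subtype.val (D.co_injective (D.co_el _) : D.el _ = (⟨v, hv.1⟩ : ↥V))
  have hge : C ≤ ⁅V, Subgroup.zpowers s⁆ := by
    intro v hv
    obtain ⟨c, rfl⟩ := hel v hv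
    obtain ⟨w, hw, hwe⟩ := hreach c
    rw [hwe, ← commutatorElement_def]
    exact Subgroup.commutator_mem_commutator hw (Subgroup.mem_zpowers s)
  have hzs : ⁅V, Subgroup.zpowers s⁆ ≤ ⁅V, T⁆ :=
    Subgroup.commutator_mono le_rfl (Subgroup.zpowers_le.mpr hs)
  refine ⟨?_, le_antisymm hcomm (hge.trans hzs), le_antisymm (hzs.trans hcomm) hge, ?_⟩
  · refine le_antisymm (fun v hv => ?_)
      (inf_le_inf_left _ (Subgroup.centralizer_le (Set.singleton_subset_iff.mpr hs)))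
    refine ⟨hv.1, (D.mem_centralizer_iff hv.1).mpr ?_⟩
    have h1 := (D.fixed_iff (D.le hs) hv.1).mp (hv.2 s rfl)
    rw [hU.mulVec, ← ha] at h1
    simpa [ha0] using congrFun h1 0
  · intro v hv hvn
    refine le_antisymm ((Subgroup.closure_le _).mpr ?_) ?_
    · rintro x ⟨t, ht, rfl⟩
      exact hcen v hv t ht
    · intro w hw
      obtain ⟨c, rfl⟩ := hel w hw
      refine Subgroup.subset_closure ?_
      set y := D.co ⟨v, hv⟩ 1 with hy
      have hy0 : y ≠ 0 := fun h => hvn ((D.mem_centralizer_iff hv).mpr h)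
      set l := D.e.symm (Cfsg.Agent.QdOver.up (-c / y)) with hl
      have hle : D.e l = Cfsg.Agent.QdOver.up (-c / y) := D.e.apply_symm_apply _
      have hlT : (l : G) ∈ T := (D.mem_iff l).mpr (by rw [hle]; exact Cfsg.Agent.NatSL2.isU_up _)
      refine ⟨l, hlT, ?_⟩
      obtain ⟨h, hco⟩ := D.commutator_mem hlT hv
      refine (congrArg Subtype.val (D.co_injective (a₁ := (⟨_, h⟩ : ↥V)) (a₂ := D.el ![c, 0]) ?_)).symm
      rw [hco, D.co_el, Subtype.coe_eta, hle, ← hy]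
      simp only [Cfsg.Agent.QdOver.up, Matrix.of_apply, Matrix.cons_val_one, Matrix.cons_val_zero,
        Matrix.cons_val', Matrix.cons_val_fin_one]
      rw [div_mul_cancel₀ _ hy0, neg_neg]

end Cfsg.Agent.S2779
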