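import Cfsg.Statements.S2780
import Cfsg.Agent.Lib.NatSL2.Basic

set_option autoImplicit false
open Cfsg

namespace Cfsg.Agent.S2780


open scoped commutatorElement Matrix

/-- Let L act on the elementary abelian p-group V (inside a finite group, faithfully) as SL₂(F) on its natural module, F a field with p^n elements, S a Sylow p-subgroup of L. Then: for every g ∈ L not normalizing S, V is the internal direct product of C_V(S) and C_V(gSg⁻¹); every nonidentity element of L of order prime to p acts on V without nonidentity fixed points; and C_V(S) and V/C_V(S) are irreducible for N_L(S): the only N_L(S)-invariant subgroups of C_V(S) are 1 and C_V(S), and the only N_L(S)-invariant subgroups between C_V(S) and V are those two. -/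
theorem result {G : Type*} [Group G] [Finite G] {p : ℕ} [Fact p.Prime] {F : Type*} [Field F] [Fintype F] (n : ℕ) (hF : Fintype.card F = p ^ n) (V L : Subgroup G) (hnat : Cfsg.IsNaturalSL2Module F V L) (hf : L ⊓ Subgroup.centralizer (V : Set G) = ⊥) (S : Sylow p ↥L) (T : Subgroup G) (hT : T = ((S : Subgroup ↥L).map L.subtype)) : (∀ g ∈ L, g ∉ Subgroup.normalizer (T : Set G) → Cfsg.IsInternalDirectProduct (V ⊓ Subgroup.centralizer ((T : Subgroup G) : Set G)) (V ⊓ Subgroup.centralizer ((T.map (MulAut.conj g).toMonoidHom : Subgroup G) : Set G)) V) ∧ (∀ x ∈ L, x ≠ 1 → (orderOf x).Coprime p → (V ⊓ Subgroup.centralizer ({x} : Set G)) = ⊥) ∧ (∀ U : Subgroup G, U ≤ (V ⊓ Subgroup.centralizer ((T : Subgroup G) : Set G)) → L ⊓ Subgroup.normalizer (T : Set G) ≤ Subgroup.normalizer (U : Set G) → U = ⊥ ∨ U = (V ⊓ Subgroup.centralizer ((T : Subgroup G) : Set G))) ∧ (∀ U : Subgroup G, (V ⊓ Subgroup.centralizer ((T : Subgroup G) : Set G)) ≤ U → U ≤ V →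 L ⊓ Subgroup.normalizer (T : Set G) ≤ Subgroup.normalizer (U : Set G) → U = (V ⊓ Subgroup.centralizer ((T : Subgroup G) : Set G)) ∨ U = V) := by
  obtain ⟨D⟩ := Cfsg.Agent.NatSL2.exists_coord hF hnat hf S hT
  haveI := Cfsg.Agent.NatSL2.charP_of_card hF
  set C := V ⊓ Subgroup.centralizer (T : Set G) with hC
  have hel : ∀ (v : G) (hv : v ∈ V), (D.el (D.co ⟨v, hv⟩) : G) = v := fun v hv =>
    congrArg Subtype.val (D.co_injective (D.co_el _) : D.el _ = (⟨v, hv⟩ : ↥V))
  refine ⟨?_, ?_, ?_, ?_⟩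
  · intro g hg hgn
    set M := D.e ⟨g, hg⟩ with hM
    have hc : M.1 1 0 ≠ 0 := fun h => hgn (D.mem_normalizer hg h)
    set C' := V ⊓ Subgroup.centralizer ((T.map (MulAut.conj g).toMonoidHom : Subgroup G) : Set G)
    have hmem : ∀ u ∈ C, g * u * g⁻¹ ∈ C' := by
      intro u hu
      refine ⟨D.conj_mem hg hu.1, ?_⟩
      rintro _ ⟨t, ht, rfl⟩
      show g * t * g⁻¹ * (g * u * g⁻¹) = g * u * g⁻¹ * (g * t * g⁻¹)
      have := hu.2 t ht
      calc g * t * g⁻¹ * (g * u * g⁻¹) = g * (t * u) * g⁻¹ := by group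
        _ = g * (u * t) * g⁻¹ := by rw [this]
        _ = _ := by group
    have hback : ∀ w ∈ C', ∃ u ∈ C, w = g * u * g⁻¹ := by
      intro w hw
      refine ⟨g⁻¹ * w * g, ⟨?_, ?_⟩, by group⟩
      · simpa using D.conj_mem (L.inv_mem hg) hw.1
      · intro t ht
        have := hw.2 (g * t * g⁻¹) ⟨t, ht, rfl⟩
        calc t * (g⁻¹ * w * g) = g⁻¹ * ((g * t * g⁻¹) * w) * g := by group
          _ = g⁻¹ * (w * (g * t * g⁻¹)) * g := by rw [this]
          _ = g⁻¹ * w * g * t := by group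
    refine ⟨inf_le_left, inf_le_left, fun a ha b hb => D.comm a b ha.1 hb.1, ?_, ?_⟩
    · rw [eq_bot_iff]
      rintro w ⟨hw1, hw2⟩
      obtain ⟨u, hu, rfl⟩ := hback w hw2
      have h1 := (D.mem_centralizer_iff hu.1).mp hu.2
      have h2 := (D.mem_centralizer_iff (D.conj_mem hg hu.1)).mp hw1.2
      rw [D.co_conj hg hu.1, ← hM, Cfsg.Agent.NatSL2.mulVec_apply] at h2
      simp only [h1, mul_zero, add_zero, Matrix.cons_val_one, Matrix.cons_val_fin_one,
        mul_eq_zero, hc, false_or] at h2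
      have h3 : (⟨u, hu.1⟩ : ↥V) = 1 := D.co_injective (by
        rw [D.co_one]; funext i; fin_cases i <;> assumption)
      rw [Subgroup.mem_bot, show u = 1 from congrArg Subtype.val h3, mul_one, mul_inv_cancel]
    · refine le_antisymm (sup_le inf_le_left inf_le_left) fun v hv => ?_
      set y := D.co ⟨v, hv⟩ 1 with hy
      set r := D.el ![y / M.1 1 0, 0] with hr
      have hrC : (r : G) ∈ C := D.el_mem _
      set w := g * (r : G) * g⁻¹ with hw
      have hwC' : w ∈ C' := hmem _ hrC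
      have hwV : w ∈ V := hwC'.1
      have hvw : v * w⁻¹ ∈ C := by
        refine ⟨V.mul_mem hv (V.inv_mem hwV), (D.mem_centralizer_iff (V.mul_mem hv (V.inv_mem hwV))).mpr ?_⟩
        rw [show (⟨v * w⁻¹, _⟩ : ↥V) = ⟨v, hv⟩ * (⟨w, hwV⟩ : ↥V)⁻¹ from rfl, D.co_mul, D.co_inv,
          show (⟨w, hwV⟩ : ↥V) = ⟨g * (r : G) * g⁻¹, D.conj_mem hg r.2⟩ from rfl,
          D.co_conj hg r.2, Subtype.coe_eta, hr, D.co_el, ← hM, Cfsg.Agent.NatSL2.mulVec_apply]
        simp [← hy, mul_div_cancel₀ _ hc]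
      have := Subgroup.mul_mem_sup (T := C') hvw hwC'
      rwa [inv_mul_cancel_right] at this
  · intro x hx hx1 hcop
    rw [eq_bot_iff]
    intro v hv
    by_contra hne
    have hw : D.co ⟨v, hv.1⟩ ≠ 0 := fun h => hne (Subgroup.mem_bot.mpr
      (congrArg Subtype.val (D.co_injective (h.trans D.co_one.symm) : (⟨v, hv.1⟩ : ↥V) = 1)))
    have hfix := (D.fixed_iff hx hv.1).mp (hv.2 x rfl)
    obtain ⟨g, hg⟩ := Cfsg.Agent.NatSL2.exists_sl2_column hw
    set M := D.e ⟨x, hx⟩ with hM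
    have hU : Cfsg.Agent.NatSL2.IsU (g⁻¹ * M * g) := by
      rw [Cfsg.Agent.NatSL2.isU_iff, Matrix.SpecialLinearGroup.coe_mul,
        Matrix.SpecialLinearGroup.coe_mul, ← Matrix.mulVec_mulVec, ← Matrix.mulVec_mulVec, hg,
        hfix, ← hg, Matrix.mulVec_mulVec, ← Matrix.SpecialLinearGroup.coe_mul, inv_mul_cancel,
        Matrix.SpecialLinearGroup.coe_one, Matrix.one_mulVec]
    have hpow : M ^ p = 1 := by
      have h1 : (g⁻¹ * M * g⁻¹⁻¹) ^ p = 1 := by
        rw [inv_inv, hU.eq_up]; exact Cfsg.Agent.NatSL2.pow_up _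
      rw [conj_pow, conj_eq_one_iff] at h1
      exact h1
    have hxp : x ^ p = 1 := congrArg Subtype.val ((map_eq_one_iff _ D.e.injective).mp
      (by rw [map_pow, ← hM, hpow] : D.e (⟨x, hx⟩ ^ p) = 1))
    exact hx1 (orderOf_eq_one_iff.mp (Nat.eq_one_of_dvd_coprimes hcop dvd_rfl
      (orderOf_dvd_of_pow_eq_one hxp)))
  · intro U hU hN
    by_cases hbot : U = ⊥
    · exact Or.inl hbot
    right
    refine le_antisymm hU fun v hv => ?_
    obtain ⟨u, huU, hu1⟩ := (Subgroup.bot_or_exists_ne_one U).resolve_left hbot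
    have hu := hU huU
    have h1 := (D.mem_centralizer_iff hu.1).mp hu.2
    have hv1 := (D.mem_centralizer_iff hv.1).mp hv.2
    set c₀ := D.co ⟨u, hu.1⟩ 0
    set c := D.co ⟨v, hv.1⟩ 0
    have hc₀ : c₀ ≠ 0 := fun h => hu1 (congrArg Subtype.val (D.co_injective (by
      rw [D.co_one]; funext i; fin_cases i <;> assumption) : (⟨u, hu.1⟩ : ↥V) = 1))
    by_cases hc : c = 0
    · have : (⟨v, hv.1⟩ : ↥V) = 1 := D.co_injective (by
        rw [D.co_one]; funext i; fin_cases i <;> assumption)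
      rw [show v = 1 from congrArg Subtype.val this]; exact U.one_mem
    obtain ⟨l, hl, hlN, hlv⟩ := D.exists_torus (div_ne_zero hc hc₀)
    have hlu : l * u * l⁻¹ = v := congrArg Subtype.val (D.co_injective
      (a₁ := (⟨_, D.conj_mem hl hu.1⟩ : ↥V)) (a₂ := ⟨v, hv.1⟩) (by
        rw [hlv u hu.1, h1, mul_zero, div_mul_cancel₀ _ hc₀]
        exact (Cfsg.Agent.NatSL2.vec_eq rfl hv1).symm))
    exact hlu ▸ (Subgroup.mem_normalizer_iff.mp (hN ⟨hl, hlN⟩) u).mp huU
  · intro U hCU hUV hN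
    by_cases hUC : U ≤ C
    · exact Or.inl (le_antisymm hUC hCU)
    right
    obtain ⟨u, huU, huC⟩ := SetLike.not_le_iff_exists.mp hUC
    refine le_antisymm hUV fun v hv => ?_
    have hu := hUV huU
    set y₀ := D.co ⟨u, hu⟩ 1
    set y := D.co ⟨v, hv⟩ 1
    have hy₀ : y₀ ≠ 0 := fun h => huC ⟨hu, (D.mem_centralizer_iff hu).mpr h⟩
    by_cases hy : y = 0
    · exact hCU ⟨hv, (D.mem_centralizer_iff hv).mpr hy⟩
    obtain ⟨l, hl, hlN, hlv⟩ := D.exists_torus (div_ne_zero hy₀ hy)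
    have hw := (Subgroup.mem_normalizer_iff.mp (hN ⟨hl, hlN⟩) u).mp huU
    have hd : v * (l * u * l⁻¹)⁻¹ ∈ C := by
      refine ⟨V.mul_mem hv (V.inv_mem (D.conj_mem hl hu)),
        (D.mem_centralizer_iff (V.mul_mem hv (V.inv_mem (D.conj_mem hl hu)))).mpr ?_⟩
      rw [show (⟨v * (l * u * l⁻¹)⁻¹, _⟩ : ↥V) =
          ⟨v, hv⟩ * (⟨l * u * l⁻¹, D.conj_mem hl hu⟩ : ↥V)⁻¹ from rfl, D.co_mul, D.co_inv, hlv u hu]
      simp only [Pi.add_apply, Pi.neg_apply, Matrix.cons_val_one, Matrix.cons_val_fin_one]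
      rw [inv_div, div_mul_cancel₀ _ hy₀, add_neg_cancel]
    have := U.mul_mem (hCU hd) hw
    rwa [inv_mul_cancel_right] at this

end Cfsg.Agent.S2780
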