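import Cfsg.Statements.S2781
import Cfsg.Agent.Lib.PReduced.Tools

set_option autoImplicit false
open Cfsg

namespace Cfsg.Agent.S2781

open Subgroup Cfsg.Agent.PReduced
open scoped commutatorElement

theorem map_centralizer_eq_of_conj {G : Type*} [Group G] (h : G) (R : Subgroup G)
    (hR : R.map (MulAut.conj h).toMonoidHom = R) :
    (centralizer (R : Set G)).map (MulAut.conj h).toMonoidHom = centralizer (R : Set G) := by
  ext x
  constructor
  · rintro ⟨c, hc, rfl⟩ r hr
    have hr' : r ∈ R.map (MulAut.conj h).toMonoidHom := by rw [hR]; exact hr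
    obtain ⟨r0, hr0, rfl⟩ := hr'
    rw [← map_mul, ← map_mul, hc r0 hr0]
  · intro hx
    refine ⟨(MulAut.conj h).symm x, fun r hr => (MulAut.conj h).injective ?_,
      (MulAut.conj h).apply_symm_apply x⟩
    have h1 : MulAut.conj h r ∈ R := by
      have h0 := mem_map_of_mem (MulAut.conj h).toMonoidHom hr
      rw [hR] at h0
      exact h0
    rw [map_mul, map_mul, MulEquiv.apply_symm_apply]
    exact hx _ h1

/-- Let H act faithfully by conjugation on the elementary abelian p-subgroup V of a finite group, let O^p(H) be the subgroup of H generated by its elements of order prime to p, and T a Sylow p-subgroup of O^p(H). If V is generated by the H-conjugates of C_V(T) (V is the smallest H-invariant subgroup containing C_V(T)), then V = [V, O^p(H)]·C_V(O^p(H)). -/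
theorem result {G : Type*} [Group G] [Finite G] {p : ℕ} [Fact p.Prime] (V H : Subgroup G) (hV : Cfsg.IsElementaryAbelian p V) (hHV : H ≤ Subgroup.normalizer (V : Set G)) (hf : H ⊓ Subgroup.centralizer (V : Set G) = ⊥) (R : Subgroup G) (hR : R = (Cfsg.pResidual p ↥H).map H.subtype) (S : Sylow p ↥R) (T : Subgroup G) (hT : T = ((S : Subgroup ↥R).map R.subtype)) (hgen : ∀ W : Subgroup G, H ≤ Subgroup.normalizer (W : Set G) → (V ⊓ Subgroup.centralizer ((T : Subgroup G) : Set G)) ≤ W → V ≤ W) : ⁅V, R⁆ ⊔ (V ⊓ Subgroup.centralizer ((R : Subgroup G) : Set G)) = V := by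
  have hRH : R ≤ H := hR ▸ map_subtype_le _
  have hRV : R ≤ normalizer (V : Set G) := hRH.trans hHV
  have hHR : H ≤ normalizer (R : Set G) := by
    have h1 : (Cfsg.pResidual p ↥H).Normal := pResidual_normal p _
    have h2 := Subgroup.le_normalizer_map H.subtype (H := Cfsg.pResidual p ↥H)
    rw [normalizer_eq_top (Cfsg.pResidual p ↥H), ← MonoidHom.range_eq_map, range_subtype] at h2
    rwa [← hR] at h2
  have hVR : ⁅V, R⁆ ≤ V := commutator_le.2 fun v hv r hr => by
    have h1 : r * v⁻¹ * r⁻¹ ∈ V := (mem_normalizer_iff.1 (hRV hr) v⁻¹).1 (inv_mem hv)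
    have h2 : ⁅v, r⁆ = v * (r * v⁻¹ * r⁻¹) := by rw [commutatorElement_def]; group
    rw [h2]; exact mul_mem hv h1
  refine le_antisymm (sup_le hVR inf_le_left) (hgen _ ?_ ?_)
  · intro h hh
    set f := (MulAut.conj h).toMonoidHom
    have hconj : ∀ {A : Subgroup G}, h ∈ normalizer (A : Set G) → A.map f = A := by
      intro A hA
      ext x
      constructor
      · rintro ⟨a, ha, rfl⟩
        exact (mem_normalizer_iff.1 hA a).1 ha
      · intro hx
        exact ⟨h⁻¹ * x * h, (mem_normalizer_iff.1 hA _).2 (by group; exact hx),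
          by simp [f, mul_assoc]⟩
    have hfix : ∀ {A : Subgroup G}, A.map f = A → h ∈ normalizer (A : Set G) := by
      intro A hA
      rw [mem_normalizer_iff]
      intro x
      conv_rhs => rw [← hA]
      constructor
      · intro hx; exact ⟨x, hx, rfl⟩
      · rintro ⟨a, ha, hax⟩
        have : a = x := (MulAut.conj h).injective hax
        exact this ▸ ha
    refine hfix ?_
    rw [Subgroup.map_sup, map_commutator, hconj (hHV hh), hconj (hHR hh),
      map_inf _ _ f (MulAut.conj h).injective, hconj (hHV hh),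
      map_centralizer_eq_of_conj h R (hconj (hHR hh))]
  · rintro v ⟨hv, hvT⟩
    have hco : (T.relIndex R).Coprime p := by
      subst hT
      have h1 : ((S : Subgroup ↥R).map R.subtype).relIndex R = (S : Subgroup ↥R).index := by
        rw [← relIndex_top_right, ← relIndex_map_map_of_injective _ ⊤ R.subtype_injective,
          ← MonoidHom.range_eq_map, range_subtype]
      rw [h1]
      exact ((Fact.out : p.Prime).coprime_iff_not_dvd.2 S.not_dvd_index).symm
    obtain ⟨a, k, haW, haX, -, -, hk, rfl⟩ := exists_trace_decomp hV hRV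
      (hT ▸ map_subtype_le _) hco hv fun s hs => hvT s hs
    rw [sup_comm]
    refine mul_mem_sup (mem_inf.2 ⟨haW, fun r hr => haX r hr⟩) ?_
    refine (closure_le _).2 ?_ hk
    rintro _ ⟨r, hr, rfl⟩
    rw [commutator_comm]
    exact commutator_mem_commutator hr hv

end Cfsg.Agent.S2781
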