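import Cfsg.Statements.S2787
import Cfsg.Agent.Lib.QuadPair.Ree

set_option autoImplicit false
open Cfsg

namespace Cfsg.Agent.S2787

/-- Let p be a prime and let H act by conjugation on the elementary abelian p-subgroup V of a finite group, irreducibly (no H-invariant subgroups of V other than 1 and V) and nontrivially, and suppose H/C_H(V) is isomorphic to PSL₂(F) for a field F with p^n elements, p^n odd, or p = 3 and H/C_H(V) is isomorphic to a Ree group ²G₂(3^(2m+1)), m ≥ 1. Then no subgroup A of H acting nontrivially on V acts quadratically: [V, A, A] = 1 forces [V, A] = 1. -/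
theorem result {G : Type*} [Group G] [Finite G] {p : ℕ} [Fact p.Prime] (V H : Subgroup G) (hV : Cfsg.IsElementaryAbelian p V) (hHV : H ≤ Subgroup.normalizer (V : Set G)) (hirr : ∀ U : Subgroup G, U ≤ V → H ≤ Subgroup.normalizer (U : Set G) → U = ⊥ ∨ U = V) (hnt : ¬ H ≤ Subgroup.centralizer (V : Set G)) [hn : ((Subgroup.centralizer (V : Set G)).subgroupOf H).Normal] (hq : (∃ (F : Type) (_ : Field F) (_ : Fintype F) (n : ℕ), Fintype.card F = p ^ n ∧ Odd (Fintype.card F) ∧ Nonempty (↥H ⧸ (Subgroup.centralizer (V : Set G)).subgroupOf H ≃* Matrix.ProjectiveSpecialLinearGroup (Fin 2) F)) ∨ (p = 3 ∧ Cfsg.Lie.IsoRee (↥H ⧸ (Subgroup.centralizer (V : Set G)).subgroupOf H))) (A : Subgroup G) (hA : A ≤ H) (hquad : ⁅⁅V, A⁆, A⁆ = ⊥) : ⁅V, A⁆ = ⊥ := by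
  by_contra hne
  rw [← ne_eq, Ne, Subgroup.commutator_comm, Subgroup.commutator_eq_bot_iff_le_centralizer] at hne
  obtain ⟨a, haA, haC⟩ := SetLike.not_le_iff_exists.1 hne
  set C := (Subgroup.centralizer (V : Set G)).subgroupOf H with hC
  set a' : H := ⟨a, hA haA⟩
  have hquad' : ∀ v ∈ V, Commute a (a * v * a⁻¹ * v⁻¹) := Cfsg.Agent.Quadratic.commute_of_quad (by
    rw [eq_bot_iff, ← hquad]
    exact Subgroup.commutator_mono (Subgroup.commutator_mono le_rfl (Subgroup.zpowers_le.2 haA))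
      (Subgroup.zpowers_le.2 haA))
  have hx1 : (a' : ↥H ⧸ C) ≠ 1 := fun h => haC (Subgroup.mem_subgroupOf.1 ((QuotientGroup.eq_one_iff (N := C) a').1 h))
  have hxp : (a' : ↥H ⧸ C) ^ p = 1 := by
    rw [← QuotientGroup.mk_pow, QuotientGroup.eq_one_iff]
    exact Subgroup.mem_subgroupOf.2 (by
      rw [SubmonoidClass.coe_pow]
      exact Cfsg.Agent.Quadratic.pow_mem_centralizer_of_quad hV (hHV (hA haA)) hquad')
  rcases hq with ⟨F, _, _, n, hF, hodd, ⟨e⟩⟩ | ⟨rfl, K, _, _, m, hm, hK, ⟨e⟩⟩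
  · haveI : CharP F p := by
      obtain ⟨q, hq'⟩ := CharP.exists F
      haveI := hq'
      obtain ⟨k, hpp, hk⟩ := FiniteField.card F q
      have h : q ∣ p ^ n := hF ▸ hk ▸ dvd_pow_self q k.ne_zero
      obtain rfl := (Nat.prime_dvd_prime_iff_eq hpp Fact.out).1 (hpp.dvd_of_dvd_pow h)
      exact hq'
    have hp2 : p ≠ 2 := by
      rintro rfl
      have hn0 : n ≠ 0 := fun h => by
        rw [h, pow_zero] at hF
        exact absurd hF (Fintype.one_lt_card (α := F)).ne'
      rw [hF, Nat.odd_pow_iff hn0] at hodd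
      exact absurd hodd (by decide)
    refine Cfsg.Agent.QuadPair.no_quadratic hp2 hV hHV (a := a') hquad' ?_
    have h := (Cfsg.Agent.QuadPair.crit_psl2 hp2 (e a') ((MulEquiv.map_ne_one_iff e).2 hx1)
      (by rw [← map_pow, hxp, map_one])).map e.symm
    rwa [e.symm_apply_apply] at h
  · haveI := Cfsg.Agent.Twisted.charP_ree hK
    refine Cfsg.Agent.QuadPair.no_quadratic (p := 3) (by norm_num) hV hHV (a := a') hquad' ?_
    have h := (Cfsg.Agent.QuadPair.crit_ree hK (e a') ((MulEquiv.map_ne_one_iff e).2 hx1)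
      (by rw [← map_pow, hxp, map_one])).map e.symm
    rwa [e.symm_apply_apply] at h

end Cfsg.Agent.S2787
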