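import Cfsg.Statements.S2794
import Cfsg.Agent.Lib.PStab.ZJControl
import Cfsg.Agent.Lib.QdCrit.Stable
import Cfsg.Agent.Lib.PLocal.Functor

set_option autoImplicit false
open Cfsg

namespace Cfsg.Agent.S2794

open Subgroup Cfsg.Agent.PReduced
open scoped commutatorElement
theorem not_control {X : Type*} [Group X] [Finite X] {p : ℕ} [Fact p.Prime] (e : X ≃* ↥(Cfsg.qd p))
    (T : Sylow p X) : ¬ Cfsg.ControlsStrongFusion p (Cfsg.centerThompsonAOf (T : Subgroup X)) := by
  classical
  set U := Cfsg.centerThompsonAOf (T : Subgroup X) with hU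
  set V := (Qd.transE p).comap e.toMonoidHom with hV
  haveI : V.Normal := (Qd.transE_normal p).comap _
  let τ : ZMod p → ZMod p → X := fun x y => e.symm (Qd.tr p x y)
  have hτV : ∀ x y, τ x y ∈ V := fun x y => by
    show e (e.symm (Qd.tr p x y)) ∈ Qd.transE p
    rw [MulEquiv.apply_symm_apply]; exact Qd.tr_mem p x y
  have hexV : ∀ v ∈ V, ∃ x y, v = τ x y := by
    intro v hv
    obtain ⟨x, y, h⟩ := (hv : e v ∈ Qd.transE p)
    exact ⟨x, y, by show v = e.symm (Qd.tr p x y); exact (e.symm_apply_eq.mpr h.symm).symm⟩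
  have hVp : IsPGroup p ↥V := fun v => by
    refine ⟨1, Subtype.ext (e.injective ?_)⟩
    simpa using Qd.transE_pow p (v.2 : e v ∈ Qd.transE p)
  have hVT : ∀ P : Sylow p X, V ≤ (P : Subgroup X) := fun P =>
    (PReduced.le_pCore inferInstance hVp).trans (PReduced.pCore_le_sylow P)
  have hVcard : Nat.card V ≤ p ^ 2 := by
    have := Nat.card_le_card_of_surjective (fun q : ZMod p × ZMod p => (⟨τ q.1 q.2, hτV _ _⟩ : V))
      (fun v => by obtain ⟨x, y, h⟩ := hexV v v.2; exact ⟨(x, y), Subtype.ext h.symm⟩)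
    simpa [Nat.card_prod, sq] using this
  have hCV : Subgroup.centralizer (V : Set X) ≤ V := by
    intro g hg
    obtain ⟨a, b, c, d, x, y, h, he⟩ := Qd.exists_el p (e g)
    have hc : ∀ u v, Qd.tr p (a * u + b * v) (c * u + d * v) = Qd.tr p u v := by
      intro u v
      rw [← Qd.conj_tr p h u v, ← he]
      have := congrArg e (Subgroup.mem_centralizer_iff.1 hg (τ u v) (hτV u v))
      rw [map_mul, map_mul, show e (τ u v) = Qd.tr p u v from e.apply_symm_apply _] at this
      rw [← this, mul_inv_cancel_right]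
    have h10 := hc 1 0
    have h01 := hc 0 1
    simp only [Qd.tr, Qd.el_eq_iff, mul_one, mul_zero, add_zero, zero_add, true_and] at h10 h01
    obtain ⟨rfl, rfl⟩ := h10
    obtain ⟨rfl, rfl⟩ := h01
    show e g ∈ Qd.transE p
    exact ⟨x, y, he⟩
  -- `T` is bigger than `V`
  have hne : (T : Subgroup X) ≠ V := by
    intro hTV
    set u := e.symm (Qd.up p 1) with hu
    have huV : u ∉ V := fun h => one_ne_zero ((Qd.up_mem_transE_iff p 1).1 (by
      have h' : e u ∈ Qd.transE p := h
      rwa [hu, MulEquiv.apply_symm_apply] at h'))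
    have hup : IsPGroup p (Subgroup.zpowers u) := by
      rintro ⟨w, k, rfl⟩
      refine ⟨1, Subtype.ext ?_⟩
      show (u ^ k) ^ p ^ 1 = 1
      rw [pow_one, ← zpow_natCast, ← zpow_mul, mul_comm, zpow_mul, zpow_natCast, hu, ← map_pow, Qd.up_pow,
        CharP.cast_eq_zero, zero_mul, show Qd.up p 0 = 1 from Qd.el_one p, map_one, one_zpow]
    obtain ⟨P, hP⟩ := hup.exists_le_sylow
    have hlt : V < (P : Subgroup X) := lt_of_le_of_ne (hVT P) fun h => huV (h ▸ hP (Subgroup.mem_zpowers u))
    refine hlt.ne (SetLike.coe_injective (Set.eq_of_subset_of_ncard_le hlt.le (le_of_eq ?_)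
      (Set.toFinite _)))
    rw [← Nat.card_coe_set_eq, ← Nat.card_coe_set_eq]
    have := Sylow.card_eq_multiplicity P
    have h2 := Sylow.card_eq_multiplicity T
    have h3 : Nat.card (P : Subgroup X) = Nat.card V := by rw [← hTV]; exact this.trans h2.symm
    exact h3
  obtain ⟨t, htT, htV⟩ := SetLike.exists_of_lt (lt_of_le_of_ne (hVT T) hne.symm)
  -- the centre of `T`
  set Z := (T : Subgroup X) ⊓ Subgroup.centralizer ((T : Subgroup X) : Set X) with hZ
  have hZV : Z ≤ V := inf_le_right.trans ((Subgroup.centralizer_le (hVT T)).trans hCV)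
  have hZU : Z ≤ U := fun z hz => PLocal.central_le_centerThompsonAOf hz
  have hZbot : Z ≠ ⊥ := by
    haveI : Nontrivial (T : Subgroup X) := (Subgroup.nontrivial_iff_ne_bot _).2 fun h => htV (by
      rw [h, Subgroup.mem_bot] at htT; rw [htT]; exact one_mem V)
    haveI := T.isPGroup'.center_nontrivial
    obtain ⟨⟨z, hz⟩, hz1⟩ := exists_ne (1 : Subgroup.center (T : Subgroup X))
    intro hbot
    have hzZ : (z : X) ∈ Z := ⟨z.2, Subgroup.mem_centralizer_iff.2 fun a ha =>
      congrArg Subtype.val ((Subgroup.mem_center_iff.1 hz) ⟨a, ha⟩)⟩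
    rw [hbot, Subgroup.mem_bot] at hzZ
    exact hz1 (Subtype.ext (Subtype.ext hzZ))
  -- `V` is not inside `U`
  have hVU : ¬ V ≤ U := by
    intro hle
    have hJ : Cfsg.thompsonSubgroupAOf (T : Subgroup X) ≤ V := by
      refine le_trans (fun j hj => ?_) hCV
      exact Subgroup.mem_centralizer_iff.2 fun v hv =>
        (Subgroup.mem_centralizer_iff.1 (hle hv).2 j hj).symm
    obtain ⟨A, hA⟩ := PLocal.exists_maxIn (Q := PLocal.abelian) PLocal.abelian_bot (T : Subgroup X)
    have hmax : ∀ A ∈ PLocal.maxIn PLocal.abelian (T : Subgroup X), A ≤ V := fun A hA =>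
      (le_sSup hA).trans ((PLocal.thompsonSubgroupAOf_eq (T : Subgroup X)).ge.trans hJ)
    set B := Z ⊔ Subgroup.zpowers t with hB
    have hBT : B ≤ (T : Subgroup X) := sup_le inf_le_left (Subgroup.zpowers_le.2 htT)
    have hBab : PLocal.abelian B := by
      rw [PLocal.abelian_iff, ← Subgroup.le_centralizer_iff_isMulCommutative]
      have h1 : Z ≤ Subgroup.centralizer (B : Set X) :=
        inf_le_right.trans (Subgroup.centralizer_le hBT)
      refine sup_le h1 (Subgroup.le_centralizer_iff.1 (sup_le ?_ ?_))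
      · exact inf_le_right.trans (Subgroup.centralizer_le (Subgroup.zpowers_le.2 htT))
      · exact Subgroup.le_centralizer_iff_isMulCommutative.2 inferInstance
    have hlt : Z < B := lt_of_le_of_ne le_sup_left fun h => htV (hZV (h ▸
      (le_sup_right : Subgroup.zpowers t ≤ B) (Subgroup.mem_zpowers t)))
    obtain ⟨i, hi⟩ := IsPGroup.iff_card.1 (T.isPGroup'.to_le (inf_le_left : Z ≤ _))
    obtain ⟨j, hj⟩ := IsPGroup.iff_card.1 (T.isPGroup'.to_le hBT)
    have hp := (Fact.out : p.Prime).one_lt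
    have h1 : 1 < Nat.card Z := (Finite.one_lt_card_iff_nontrivial).2
      ((Subgroup.nontrivial_iff_ne_bot _).2 hZbot)
    have h2 : Nat.card Z < Nat.card B := by
      show Nat.card (Z : Set X) < Nat.card (B : Set X)
      rw [Nat.card_coe_set_eq, Nat.card_coe_set_eq]
      exact Set.ncard_lt_ncard hlt (Set.toFinite _)
    have h3 : 2 ≤ j := by
      rw [hi] at h1
      rw [hi, hj] at h2
      have hi1 : i ≠ 0 := by rintro rfl; simp at h1
      have := (Nat.pow_lt_pow_iff_right hp).1 h2
      omega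
    have hAB : Nat.card A ≤ Nat.card B :=
      ((Subgroup.card_le_of_le (hmax A hA)).trans hVcard).trans
        (hj ▸ Nat.pow_le_pow_right hp.le h3)
    exact htV (hmax B ⟨hBT, hBab, fun C hC hQ => (PLocal.maxIn_card hA hC hQ).trans hAB⟩
      ((le_sup_right : Subgroup.zpowers t ≤ B) (Subgroup.mem_zpowers t)))
  -- control would spread a central element over `V`
  rintro ⟨T', hUT', hctl⟩
  obtain ⟨z, hz, hz1⟩ := Z.bot_or_exists_ne_one.resolve_left hZbot
  have horb : ∀ g : X, g * z * g⁻¹ ∈ U := by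
    intro g
    obtain ⟨-, hc⟩ := hctl {z} (by
      rintro _ rfl; exact hVT T' (hZV hz))
    obtain ⟨n, hn, hne'⟩ := hc g (by
      rintro _ ⟨a, rfl, rfl⟩
      exact hVT T' ((inferInstance : V.Normal).conj_mem _ (hZV hz) g))
    rw [hne' z rfl]
    exact (Subgroup.mem_normalizer_iff.1 hn z).1 (hZU hz)
  set W := Subgroup.normalClosure ({z} : Set X)
  have hWU : W ≤ U := by
    refine (Subgroup.closure_le _).2 ?_
    intro w hw
    obtain ⟨a, rfl, hconj⟩ := Group.mem_conjugatesOfSet_iff.1 hw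
    obtain ⟨g, rfl⟩ := isConj_iff.1 hconj
    exact horb g
  refine hVU (le_trans ?_ hWU)
  obtain ⟨u, v, rfl⟩ := hexV z (hZV hz)
  have hzW : τ u v ∈ W := Subgroup.subset_normalClosure rfl
  have hτmul : ∀ a b c d, τ a b * τ c d = τ (a + c) (b + d) := fun a b c d => by
    show e.symm _ * e.symm _ = e.symm _
    rw [← map_mul, Qd.tr_mul]
  have hstep : ∀ (a b c d : ZMod p) (h : a * d - b * c = 1) x y, τ x y ∈ W →
      τ (a * x + b * y) (c * x + d * y) ∈ W := by
    intro a b c d h x y hxy
    have := (inferInstance : W.Normal).conj_mem _ hxy (e.symm (Qd.el p a b c d 0 0 h))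
    rwa [← map_inv, ← map_mul, ← map_mul, Qd.conj_tr] at this
  have hscal : ∀ x y, τ x y ∈ W → ∀ k : ZMod p, τ (k * x) (k * y) ∈ W := by
    intro x y hxy k
    have := pow_mem hxy k.val
    rwa [← map_pow, Qd.tr_pow, ZMod.natCast_zmod_val] at this
  have hdiff : ∀ x y x' y', τ x y ∈ W → τ x' y' ∈ W → τ (x - x') (y - y') ∈ W := by
    intro x y x' y' h h'
    have := mul_mem h (hscal x' y' h' (-1))
    rw [hτmul] at this
    simpa [sub_eq_add_neg] using this
  have hor : u ≠ 0 ∨ v ≠ 0 := by
    by_contra hh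
    simp only [not_or, not_not] at hh
    obtain ⟨rfl, rfl⟩ := hh
    exact hz1 (by show e.symm _ = 1; rw [Qd.tr_zero, map_one])
  have h10 : τ 1 0 ∈ W := by
    have ha := hdiff _ _ _ _ (hstep 1 1 0 1 (by ring) u v hzW) hzW
    have hb := hdiff _ _ _ _ (hstep 1 0 1 1 (by ring) u v hzW) hzW
    rcases ne_or_eq v 0 with hv | rfl
    · simpa [hv] using hscal _ _ ha v⁻¹
    · have hu := hor.resolve_right (fun h => h rfl)
      simpa [hu] using hscal _ _ hzW u⁻¹
  have h01 : τ 0 1 ∈ W := by
    simpa using hdiff _ _ _ _ (hstep 1 0 1 1 (by ring) 1 0 h10) h10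
  intro w hw
  obtain ⟨x, y, rfl⟩ := hexV w hw
  have := mul_mem (hscal _ _ h10 x) (hscal _ _ h01 y)
  rw [hτmul] at this
  simpa using this

/-- For an odd prime p and a finite group G, the group Qd(p) is not involved in G if and only if in every section K/R of G, for every Sylow p-subgroup S* of K/R, the centre of J(S*) (J generated by the abelian subgroups of largest order) controls strong fusion in K/R. -/
theorem result {G : Type*} [Group G] [Finite G] {p : ℕ} [Fact p.Prime] (hp : p ≠ 2) : ¬ Cfsg.Involves ↥(Cfsg.qd p) G ↔ ∀ (K R : Subgroup G) [hR : (R.subgroupOf K).Normal], ∀ T : Sylow p (K ⧸ R.subgroupOf K), Cfsg.ControlsStrongFusion p (Cfsg.centerThompsonAOf (T : Subgroup (K ⧸ R.subgroupOf K))) := by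
  constructor
  · intro hfree K R hR T
    have hfree' : ¬ Cfsg.Involves ↥(Cfsg.qd p) (K ⧸ R.subgroupOf K) := fun h =>
      hfree (Involves.involves_of_subgroup
        (Involves.involves_of_surjective _ (QuotientGroup.mk'_surjective _) h))
    have hctl := PStab.ctl hp _ (QdCrit.isNormalizerPStable_of_not_involves hp hfree')
    refine ⟨T, PStab.centerThompsonAOf_le _, fun A hA => ⟨hA, fun g hg => ?_⟩⟩
    obtain ⟨n, hn, hne⟩ := hctl T A g hA hg
    exact ⟨n, hn, fun a ha => (hne a ha).symm⟩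
  · rintro h ⟨K, R, hR, ⟨e⟩⟩
    haveI := hR
    let T : Sylow p (K ⧸ R.subgroupOf K) := default
    exact not_control e T (h K R T)

end Cfsg.Agent.S2794
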