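import Cfsg.Statements.S2802
import Cfsg.Agent.Lib.PReduced.Tools

set_option autoImplicit false
open Cfsg

namespace Cfsg.Agent.S2802

open Subgroup Cfsg.Agent.PReduced
open scoped commutatorElement

/-- The normal closure of a `p`-reduced normal subgroup of an overgroup of a Sylow subgroup. -/
theorem normalClosure_isPReducedNormal {L : Type*} [Group L] [Finite L] {p : ℕ} [Fact p.Prime]
    (hchar : centralizer (Cfsg.pCore p L : Set L) ≤ Cfsg.pCore p L) (T : Sylow p L) (R : Subgroup L)
    (hTR : (T : Subgroup L) ≤ R) (X : Subgroup ↥R) (hX : Cfsg.IsPReducedNormal p X) :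
    Cfsg.IsPReducedNormal p (normalClosure ((X.map R.subtype : Subgroup L) : Set L)) := by
  obtain ⟨-, hXel, hXred⟩ := isPReducedNormal_iff.1 hX
  have := pCore_normal p L
  set Q := Cfsg.pCore p L with hQ
  have hQR : Q ≤ R := (pCore_le_sylow T).trans hTR
  have hQX : X.map R.subtype ≤ centralizer (Q : Set L) := by
    rintro _ ⟨x, hx, rfl⟩ q hq
    have h1 : Q.subgroupOf R ≤ centralizer (X : Set ↥R) :=
      isPReducedNormal_centralizes hX inferInstance (IsPGroup.comap_subtype (isPGroup_pCore p))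
    exact congrArg Subtype.val (h1 (show (⟨q, hQR hq⟩ : ↥R) ∈ Q.subgroupOf R from hq) x hx).symm
  set W := Cfsg.omegaOne p (Q ⊓ centralizer (Q : Set L)) with hW
  have hWn : W.Normal := omegaOne_normal inferInstance p
  set Y := normalClosure ((X.map R.subtype : Subgroup L) : Set L) with hY
  have hYW : Y ≤ W := by
    rw [hY]
    refine normalClosure_le_normal ?_
    rintro _ ⟨x, hx, rfl⟩
    have hxC := hQX (mem_map_of_mem R.subtype hx)
    exact mem_omegaOne ⟨hchar hxC, hxC⟩
      (by simpa using congrArg R.subtype (hXel.2 x hx))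
  refine isPReducedNormal_iff.2 ⟨inferInstance,
    isElementaryAbelian_mono (omegaOne_isElementaryAbelian (center_commute Q)) hYW, ?_⟩
  intro N hN hmod
  set C := centralizer (Y : Set L) with hC
  have hTN : (T : Subgroup L) ⊓ (N ⊔ C) ≤ centralizer ((X.map R.subtype : Subgroup L) : Set L) := by
    have hmod' : pMod p C (N ⊔ C) := by
      intro x hx
      have hx' : x ∈ ((N ⊔ C : Subgroup L) : Set L) := hx
      rw [normal_mul] at hx'
      obtain ⟨n, hn, c, hc, rfl⟩ := Set.mem_mul.1 hx'
      obtain ⟨k, hk⟩ := hmod n hn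
      refine ⟨k, ?_⟩
      rw [← QuotientGroup.eq_one_iff] at hk ⊢
      rw [QuotientGroup.mk_pow, QuotientGroup.mk_mul, (QuotientGroup.eq_one_iff c).2 hc, mul_one,
        ← QuotientGroup.mk_pow, hk]
    have h1 : (N ⊔ C).subgroupOf R ≤ centralizer (X : Set ↥R) := by
      refine hXred _ inferInstance fun x hx => ?_
      obtain ⟨k, hk⟩ := hmod' x hx
      exact ⟨k, fun y hy => Subtype.ext
        (hk _ (subset_normalClosure (mem_map_of_mem R.subtype hy)))⟩
    rintro t ⟨htT, htM⟩
    rintro _ ⟨y, hy, rfl⟩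
    exact congrArg Subtype.val (h1 (show (⟨t, hTR htT⟩ : ↥R) ∈ (N ⊔ C).subgroupOf R from htM) y hy)
  have hmod'' : pMod p C (N ⊔ C) := by
    intro x hx
    have hx' : x ∈ ((N ⊔ C : Subgroup L) : Set L) := hx
    rw [normal_mul] at hx'
    obtain ⟨n, hn, c, hc, rfl⟩ := Set.mem_mul.1 hx'
    obtain ⟨k, hk⟩ := hmod n hn
    refine ⟨k, ?_⟩
    rw [← QuotientGroup.eq_one_iff] at hk ⊢
    rw [QuotientGroup.mk_pow, QuotientGroup.mk_mul, (QuotientGroup.eq_one_iff c).2 hc, mul_one,
      ← QuotientGroup.mk_pow, hk]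
  have hM := eq_sup_sylow_inf_of_pMod T (le_sup_right : C ≤ N ⊔ C) hmod''
  have hMX : N ⊔ C ≤ centralizer ((X.map R.subtype : Subgroup L) : Set L) := by
    rw [hM]
    exact sup_le (centralizer_le subset_normalClosure) hTN
  have hYC : Y ≤ centralizer ((N ⊔ C : Subgroup L) : Set L) := by
    rw [hY]
    exact normalClosure_le_normal ((le_centralizer_iff).1 hMX)
  exact le_sup_left.trans ((le_centralizer_iff).1 hYC)

/-- Let L be a finite group and p a prime with C_L(O_p(L)) ≤ O_p(L), T a Sylow p-subgroup of L and R a subgroup with T ≤ R. If X is a p-reduced normal subgroup of R (normal in R, elementary abelian, O_p(R/C_R(X)) = 1), then the normal closure of X in L is a p-reduced normal subgroup of L. -/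
theorem result {L : Type*} [Group L] [Finite L] {p : ℕ} [Fact p.Prime] (hchar : Subgroup.centralizer (Cfsg.pCore p L : Set L) ≤ Cfsg.pCore p L) (T : Sylow p L) (R : Subgroup L) (hTR : (T : Subgroup L) ≤ R) (X : Subgroup ↥R) (hX : Cfsg.IsPReducedNormal p X) : Cfsg.IsPReducedNormal p (Subgroup.normalClosure ((X.map R.subtype : Subgroup L) : Set L)) := by
  exact normalClosure_isPReducedNormal hchar T R hTR X hX

end Cfsg.Agent.S2802
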