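import Cfsg.Statements.S2803
import Cfsg.Agent.Lib.PReduced.Tools
import Cfsg.Agent.S2802

set_option autoImplicit false
open Cfsg

namespace Cfsg.Agent.S2803

open Subgroup Cfsg.Agent.PReduced
open scoped commutatorElement

theorem conj_mem_omega {L : Type*} [Group L] {p : ℕ} {A : Subgroup L} {g z : L}
    (hg : g ∈ normalizer (A : Set L))
    (hz : z ∈ Cfsg.omegaOne p (A ⊓ centralizer (A : Set L))) :
    g * z * g⁻¹ ∈ Cfsg.omegaOne p (A ⊓ centralizer (A : Set L)) := by
  obtain ⟨h1, h2, h3⟩ := mem_omegaOne_center.1 hz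
  refine mem_omegaOne_center.2
    ⟨(mem_normalizer_iff.1 hg z).1 h1, fun t ht => ?_, by rw [conj_pow, h3]; group⟩
  have ht' : g⁻¹ * t * g ∈ A :=
    (mem_normalizer_iff.1 hg _).2 (by simpa [mul_assoc] using ht)
  calc t * (g * z * g⁻¹) = g * ((g⁻¹ * t * g) * z) * g⁻¹ := by group
    _ = g * (z * (g⁻¹ * t * g)) * g⁻¹ := by rw [h2 _ ht']
    _ = g * z * g⁻¹ * t := by group

/-- Let L be a finite group and p a prime with C_L(O_p(L)) ≤ O_p(L), T a Sylow p-subgroup, and Y the largest p-reduced normal subgroup of L. Put T_L = C_T(Y) and L_T = N_L(T_L). Then L = L_T · C_L(Y) (elementwise), T_L = O_p(L_T), and Y = Ω₁(Z(T_L)). -/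
theorem result {L : Type*} [Group L] [Finite L] {p : ℕ} [Fact p.Prime] (hchar : Subgroup.centralizer (Cfsg.pCore p L : Set L) ≤ Cfsg.pCore p L) (T : Sylow p L) (Y : Subgroup L) (hY : (Cfsg.IsPReducedNormal p Y ∧ ∀ V : Subgroup L, Cfsg.IsPReducedNormal p V → V ≤ Y)) (TL : Subgroup L) (hTL : TL = (T : Subgroup L) ⊓ Subgroup.centralizer (Y : Set L)) : (∀ g : L, ∃ a ∈ Subgroup.normalizer (TL : Set L), ∃ c ∈ Subgroup.centralizer (Y : Set L), g = a * c) ∧ (Cfsg.pCore p ↥(Subgroup.normalizer (TL : Set L))).map (Subgroup.normalizer (TL : Set L)).subtype = TL ∧ Y = Cfsg.omegaOne p (TL ⊓ Subgroup.centralizer (TL : Set L)) := by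
  obtain ⟨hYred, hYmax⟩ := hY
  obtain ⟨hYn, hYel, hYq⟩ := isPReducedNormal_iff.1 hYred
  subst hTL
  set C := centralizer (Y : Set L) with hC
  set TL := (T : Subgroup L) ⊓ C with hTL
  set R := normalizer (TL : Set L) with hR
  have hTR : (T : Subgroup L) ≤ R := (le_inf le_normalizer
    (le_normalizer_of_normal (H := C))).trans (inf_normalizer_le_normalizer_inf (H := (T : Subgroup L)) (K := C))
  let π : ↥R →* L ⧸ C := (QuotientGroup.mk' C).comp R.subtype
  have hπ : Function.Surjective π := by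
    intro q
    induction q using QuotientGroup.induction_on with
    | H g =>
      obtain ⟨a, ha, c, hc, rfl⟩ := frattini_sylow_inf_mul T C g
      exact ⟨⟨a, ha⟩, (QuotientGroup.eq.2 (by simpa using hc))⟩
  have hlow : ∀ N : Subgroup ↥R, N.Normal → pMod p C (N.map R.subtype) → N.map R.subtype ≤ C := by
    intro N hN hmod
    have h1 : (N.map R.subtype).map (QuotientGroup.mk' C) ≤ Cfsg.pCore p (L ⧸ C) := by
      refine le_pCore ?_ (isPGroup_map_mk_iff.2 hmod)
      rw [map_map]
      exact hN.map π hπ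
    rw [(pCore_quotient_eq_bot_iff C).2 hYq, le_bot_iff, Subgroup.map_eq_bot_iff,
      QuotientGroup.ker_mk'] at h1
    exact h1
  have hYT : Y ≤ TL := le_inf ((le_pCore hYn (isPGroup_of_isElementaryAbelian hYel)).trans
    (pCore_le_sylow T)) (le_centralizer_of_isMulCommutative hYel.1)
  refine ⟨fun g => frattini_sylow_inf_mul T C g, ?_, ?_⟩
  · refine le_antisymm (le_inf ?_ ?_) ?_
    · rw [← subgroupOf_map_subtype (T : Subgroup L) R |>.trans (inf_eq_left.2 hTR)]
      exact map_mono (pCore_le_sylow (T.subtype hTR))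
    · exact hlow _ (pCore_normal p _) (pMod_of_isPGroup ((isPGroup_pCore p).map _))
    · intro x hx
      refine ⟨⟨x, le_normalizer hx⟩, le_pCore (N := TL.subgroupOf R) ?_ ?_ hx, rfl⟩
      · exact normal_in_normalizer
      · exact IsPGroup.comap_subtype (T.2.to_le inf_le_left)
  · set Z := Cfsg.omegaOne p (TL ⊓ centralizer (TL : Set L)) with hZ
    have hYZ : Y ≤ Z := fun y hy => mem_omegaOne
      ⟨hYT hy, fun t ht => ((mem_inf.1 ht).2 y hy).symm⟩ (hYel.2 y hy)
    refine le_antisymm hYZ ?_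
    have hZR : Z ≤ R := (omegaOne_le p _).trans (inf_le_left.trans le_normalizer)
    have hel : Cfsg.IsElementaryAbelian p Z := omegaOne_isElementaryAbelian (center_commute TL)
    have hred : Cfsg.IsPReducedNormal p (Z.subgroupOf R) := by
      refine isPReducedNormal_iff.2 ⟨⟨fun z hz g => conj_mem_omega g.2 hz⟩, ?_, ?_⟩
      · exact ⟨isMulCommutative_of_forall fun a ha b hb => Subtype.ext
          (commute_of_isMulCommutative hel.1 ha hb),
          fun a ha => Subtype.ext (by simpa using hel.2 _ ha)⟩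
      · intro N hN hmod
        set D := centralizer ((Z.subgroupOf R : Subgroup ↥R) : Set ↥R) with hD
        have : (Z.subgroupOf R).Normal := ⟨fun z hz g => conj_mem_omega g.2 hz⟩
        have hDn : D.Normal := normal_centralizer
        have hM := eq_sup_sylow_inf_of_pMod (T.subtype hTR) (le_sup_right : D ≤ N ⊔ D)
          (pMod_sup hmod)
        have hMC : (N ⊔ D).map R.subtype ≤ C := by
          refine hlow _ inferInstance ?_
          rintro _ ⟨x, hx, rfl⟩
          obtain ⟨k, hk⟩ := pMod_sup hmod x hx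
          refine ⟨k, fun y hy => ?_⟩
          exact congrArg Subtype.val (hk ⟨y, hZR (hYZ hy)⟩ (hYZ hy))
        refine le_sup_left.trans (hM.le.trans (sup_le le_rfl ?_))
        intro t ht z hz
        refine Subtype.ext ?_
        exact ((mem_omegaOne_center.1 (show (z : L) ∈ Z from hz)).2.1 (t : L)
          (mem_inf.2 ⟨(mem_inf.1 ht).1, hMC (mem_map_of_mem _ (mem_inf.1 ht).2)⟩)).symm
    have h1 := hYmax _ (Cfsg.Agent.S2802.normalClosure_isPReducedNormal hchar T R hTR _ hred)
    refine le_trans ?_ h1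
    intro z hz
    exact subset_normalClosure ⟨⟨z, hZR hz⟩, hz, rfl⟩

end Cfsg.Agent.S2803
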