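import Cfsg.Statements.S2804
import Cfsg.Agent.Lib.PReduced.Tools

set_option autoImplicit false
open Cfsg

namespace Cfsg.Agent.S2804

open Subgroup Cfsg.Agent.PReduced
open scoped commutatorElement

theorem mem_of_coprime {L : Type*} [Group L] [Finite L] {p : ℕ} [Fact p.Prime] {V : Subgroup L}
    [hVn : V.Normal] (hV : Cfsg.IsElementaryAbelian p V) {K : Subgroup L} (hK : K.IsSubnormal) :
    ∀ x ∈ K, (orderOf x).Coprime p → ∀ v ∈ V, x * v * x⁻¹ * v⁻¹ ∈ K := by
  induction hK with
  | top => exact fun _ _ _ _ _ => mem_top _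
  | step A B hle _ hN ih =>
    intro x hx hco v hv
    obtain ⟨a, k, -, hxa, -, hk, rfl⟩ := exists_coprime_decomp hV
      (show x ∈ normalizer (V : Set L) from le_normalizer_of_normal (mem_top x)) hco hv
    have hkB : k ∈ B := by
      refine (closure_le _).2 ?_ hk
      rintro _ ⟨y, hy, rfl⟩
      exact ih y (hle (zpowers_le.2 hx hy))
        (Nat.Coprime.coprime_dvd_left (orderOf_dvd_of_mem_zpowers hy) hco) _ hv
    have hAk : k * x⁻¹ * k⁻¹ ∈ A := by
      have := hN.conj_mem (⟨x⁻¹, hle (inv_mem hx)⟩ : ↥B)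
        (show x⁻¹ ∈ A from inv_mem hx) ⟨k, hkB⟩
      exact this
    have hca : (x * k * x⁻¹ * k⁻¹) ∈ A := by
      have h1 := mul_mem hx hAk
      simpa [mul_assoc] using h1
    have haA : a * (x * k * x⁻¹ * k⁻¹) * a⁻¹ = x * (a * k) * x⁻¹ * (a * k)⁻¹ := by
      rw [← mul_assoc x a, hxa]; group
    rw [← haA]
    -- `a` commutes with the commutator, both lying in `V`
    have hkV : k ∈ V := by
      refine (closure_le _).2 ?_ hk
      rintro _ ⟨y, -, rfl⟩
      exact mul_mem (hVn.conj_mem _ hv y) (inv_mem hv)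
    have haV : a ∈ V := by simpa using mul_mem hv (inv_mem hkV)
    have hcV : x * k * x⁻¹ * k⁻¹ ∈ V := mul_mem (hVn.conj_mem k hkV x) (inv_mem hkV)
    rw [commute_of_isMulCommutative hV.1 haV hcV, mul_inv_cancel_right]
    exact hca

/-- Let L be a finite group and p a prime with C_L(O_p(L)) ≤ O_p(L), V a p-reduced normal subgroup of L and K a subnormal subgroup of L. Then [V, O^p(K)] is contained in K and is a p-reduced normal subgroup of K, where O^p(K) is the subgroup of K generated by its elements of order prime to p. -/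
theorem result {L : Type*} [Group L] [Finite L] {p : ℕ} [Fact p.Prime] (hchar : Subgroup.centralizer (Cfsg.pCore p L : Set L) ≤ Cfsg.pCore p L) (V : Subgroup L) (hV : Cfsg.IsPReducedNormal p V) (K : Subgroup L) (hK : K.IsSubnormal) : ⁅V, (Cfsg.pResidual p ↥K).map K.subtype⁆ ≤ K ∧ Cfsg.IsPReducedNormal p ((⁅V, (Cfsg.pResidual p ↥K).map K.subtype⁆).subgroupOf K) := by
  obtain ⟨hVn, hVel, hVq⟩ := hV
  obtain ⟨hCn, hVq⟩ := hVq
  set R0 := Cfsg.pResidual p ↥K with hR0
  set R := R0.map K.subtype with hR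
  have hR0n : R0.Normal := pResidual_normal p _
  set W := ⁅V, R⁆ with hW
  have hRgen : ∀ y ∈ K, (orderOf y).Coprime p → y ∈ R := fun y hy hco =>
    ⟨⟨y, hy⟩, subset_closure (show Nat.Coprime (orderOf (⟨y, hy⟩ : ↥K)) p by
      rwa [Subgroup.orderOf_mk]), rfl⟩
  have hcomm : ∀ r : ↥K, r ∈ R0 → ∀ v ∈ V, (r : L) * v * (r : L)⁻¹ * v⁻¹ ∈ K := by
    intro r hr
    induction hr using Subgroup.closure_induction with
    | mem y hy =>
      intro v hv
      exact mem_of_coprime hVel hK _ y.2 (by rwa [Subgroup.orderOf_coe]) v hv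
    | one => intro v _; simp
    | mul a b _ _ iha ihb =>
      intro v hv
      have h1 := mul_mem (mul_mem (mul_mem a.2 (ihb v hv)) (inv_mem a.2)) (iha v hv)
      convert h1 using 1
      simp only [Subgroup.coe_mul]; group
    | inv a _ iha =>
      intro v hv
      have h1 := mul_mem (mul_mem (inv_mem a.2) (inv_mem (iha v hv))) a.2
      convert h1 using 1
      simp only [InvMemClass.coe_inv]; group
  have hWK : W ≤ K := by
    rw [hW, commutator_comm, commutator_le]
    rintro _ ⟨r, hr, rfl⟩ v hv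
    rw [commutatorElement_def]
    exact hcomm r hr v hv
  have hWV : W ≤ V := commutator_le_left V R
  refine ⟨hWK, isPReducedNormal_iff.2 ⟨?_, ?_, ?_⟩⟩
  · have hKn : K ≤ normalizer (R : Set L) := by
      have h2 := Subgroup.le_normalizer_map K.subtype (H := R0)
      rw [normalizer_eq_top R0, ← MonoidHom.range_eq_map, range_subtype] at h2
      exact h2
    refine ⟨fun w hw g => ?_⟩
    have h3 : W.map (MulAut.conj (g : L)).toMonoidHom = W := by
      have hmapV : V.map (MulAut.conj (g : L)).toMonoidHom = V := by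
        ext x
        exact ⟨fun ⟨y, hy, e⟩ => e ▸ hVn.conj_mem y hy g, fun hx =>
          ⟨(g : L)⁻¹ * x * g, by simpa using hVn.conj_mem x hx (g : L)⁻¹, by simp [mul_assoc]⟩⟩
      have hmapR : R.map (MulAut.conj (g : L)).toMonoidHom = R := by
        ext x
        exact ⟨fun ⟨y, hy, e⟩ => e ▸ (mem_normalizer_iff.1 (hKn g.2) y).1 hy, fun hx =>
          ⟨(g : L)⁻¹ * x * g, (mem_normalizer_iff.1 (hKn g.2) _).2 (by simpa [mul_assoc] using hx),
            by simp [mul_assoc]⟩⟩
      rw [hW, map_commutator, hmapV, hmapR]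
    show (g : L) * w * (g : L)⁻¹ ∈ W
    rw [← h3]
    exact ⟨w, hw, rfl⟩
  · exact ⟨isMulCommutative_of_forall fun a ha b hb => Subtype.ext
      (commute_of_isMulCommutative hVel.1 (hWV ha) (hWV hb)),
      fun a ha => Subtype.ext (by simpa using hVel.2 _ (hWV ha))⟩
  · intro N hN hmod
    have hN' : (N.map K.subtype).IsSubnormal := hN.isSubnormal.trans' hK
    have h1 : pMod p (K ⊓ centralizer (W : Set L)) (N.map K.subtype) := by
      rintro _ ⟨x, hx, rfl⟩
      obtain ⟨k, hk⟩ := hmod x hx
      refine ⟨k, mem_inf.2 ⟨pow_mem x.2 _, fun w hw => ?_⟩⟩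
      exact congrArg Subtype.val (hk ⟨w, hWK hw⟩ hw)
    have h2 : pMod p (centralizer (V : Set L)) (K ⊓ centralizer (W : Set L)) := by
      intro x hx
      refine ⟨(orderOf x).factorization p, fun v hv => ?_⟩
      set y := x ^ p ^ (orderOf x).factorization p with hy
      have hyK : y ∈ K := pow_mem (mem_inf.1 hx).1 _
      have hyW : y ∈ centralizer (W : Set L) := pow_mem (mem_inf.1 hx).2 _
      have hco : (orderOf y).Coprime p := by
        rw [hy, orderOf_pow_of_dvd (pow_ne_zero _ (Fact.out : p.Prime).ne_zero)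
          (Nat.ordProj_dvd _ _)]
        exact (Nat.coprime_ordCompl (Fact.out : p.Prime) (orderOf_pos x).ne').symm
      obtain ⟨a, k, -, hya, -, hk, rfl⟩ := exists_coprime_decomp hVel
        (show y ∈ normalizer (V : Set L) from le_normalizer_of_normal (mem_top y)) hco hv
      have hkW : k ∈ W := by
        refine (closure_le _).2 ?_ hk
        rintro _ ⟨u, hu, rfl⟩
        rw [← commutatorElement_def, hW, commutator_comm]
        exact commutator_mem_commutator
          (hRgen u (zpowers_le.2 hyK hu)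
            (Nat.Coprime.coprime_dvd_left (orderOf_dvd_of_mem_zpowers hu) hco)) hv
      exact ((show Commute a y from hya.symm).mul_left (show Commute k y from hyW k hkW)).eq
    have h4 := subnormal_le_of_pCore_quotient_eq_bot hVq hN' (h1.trans h2)
    intro x hx w hw
    exact Subtype.ext (h4 (mem_map_of_mem _ hx) _ (hWV hw))

end Cfsg.Agent.S2804
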