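import Cfsg.Statements.S2805
import Cfsg.Agent.Lib.PReduced.Tools

set_option autoImplicit false
open Cfsg

namespace Cfsg.Agent.S2805

open Subgroup Cfsg.Agent.PReduced
open scoped commutatorElement

/-- Every element of order dividing `p` of the centre of `T` commutes with `x`. -/
def zc {H : Type*} [Group H] (p : ℕ) (T : Subgroup H) (x : H) : Prop :=
  ∀ z ∈ T, (∀ t ∈ T, t * z = z * t) → z ^ p = 1 → z * x = x * z

theorem zc_iff {H : Type*} [Group H] {p : ℕ} {T : Subgroup H} {x : H} :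
    x ∈ centralizer (Cfsg.omegaOne p (T ⊓ centralizer (T : Set H)) : Set H) ↔ zc p T x := by
  constructor
  · exact fun h z h1 h2 h3 => h z (mem_omegaOne ⟨h1, h2⟩ h3)
  · intro h z hz
    obtain ⟨h1, h2, h3⟩ := mem_omegaOne_center.1 hz
    exact h z h1 h2 h3

/-- The normal case. -/
theorem zc_normal {H : Type*} [Group H] [Finite H] {p : ℕ} [Fact p.Prime]
    (hH : centralizer (Cfsg.pCore p H : Set H) ≤ Cfsg.pCore p H) (T : Sylow p H)
    (L : Subgroup H) [hLn : L.Normal] (x : H) (hxL : x ∈ L) :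
    zc p (T : Subgroup H) x ↔ zc p ((T : Subgroup H) ⊓ L) x := by
  have := pCore_normal p H
  set Q := Cfsg.pCore p H with hQ
  have hQT : Q ≤ (T : Subgroup H) := pCore_le_sylow T
  set S := (T : Subgroup H) ⊓ L with hS
  have hcop : ∀ X : Subgroup H, S ≤ X → X ≤ L → (S.relIndex X).Coprime p := by
    intro X hSX hXL
    refine Nat.Coprime.coprime_dvd_left ?_ (sylow_relIndex_coprime T L)
    rw [← inf_relIndex_right (T : Subgroup H) L]
    exact Dvd.intro _ (relIndex_mul_relIndex _ _ _ hSX hXL)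
  constructor
  · intro hx
    set Z := Cfsg.omegaOne p ((T : Subgroup H) ⊓ centralizer ((T : Subgroup H) : Set H)) with hZ
    set X := L ⊓ centralizer (Z : Set H) with hX
    set D := Q ⊓ L with hD
    set W := Cfsg.omegaOne p (D ⊓ centralizer (D : Set H)) with hW
    have hWn : W.Normal := omegaOne_normal inferInstance p
    have hTZ : (T : Subgroup H) ≤ centralizer (Z : Set H) := fun t ht z hz =>
      ((mem_omegaOne_center.1 hz).2.1 t ht).symm
    have key := centralizes_of_fixed (T := (T : Subgroup H)) (S := S) (X := X) (W := W)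
      (omegaOne_isElementaryAbelian (center_commute D)) le_normalizer_of_normal
      (fun s hs => mem_inf.2 ⟨(mem_inf.1 hs).2, hTZ (mem_inf.1 hs).1⟩)
      (hcop X (fun s hs => mem_inf.2 ⟨(mem_inf.1 hs).2, hTZ (mem_inf.1 hs).1⟩) inf_le_left)
      T.2 le_normalizer_of_normal
      (by
        intro t ht
        rw [mem_normalizer_iff]
        intro y
        have e1 : y ∈ L ↔ t * y * t⁻¹ ∈ L :=
          ⟨fun h => hLn.conj_mem y h t, fun h => by simpa [mul_assoc] using hLn.conj_mem _ h t⁻¹⟩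
        have e2 : y ∈ centralizer (Z : Set H) ↔ t * y * t⁻¹ ∈ centralizer (Z : Set H) :=
          ⟨fun h => mul_mem (mul_mem (hTZ ht) h) (inv_mem (hTZ ht)), fun h => by
            simpa [mul_assoc] using mul_mem (mul_mem (inv_mem (hTZ ht)) h) (hTZ ht)⟩
        rw [hX, mem_inf, mem_inf, ← e1, ← e2])
      (by
        intro t ht
        rw [mem_normalizer_iff]
        intro y
        have e1 : y ∈ L ↔ t * y * t⁻¹ ∈ L :=
          ⟨fun h => hLn.conj_mem y h t, fun h => by simpa [mul_assoc] using hLn.conj_mem _ h t⁻¹⟩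
        have e2 : y ∈ (T : Subgroup H) ↔ t * y * t⁻¹ ∈ (T : Subgroup H) :=
          ⟨fun h => mul_mem (mul_mem ht h) (inv_mem ht), fun h => by
            simpa [mul_assoc] using mul_mem (mul_mem (inv_mem ht) h) ht⟩
        rw [hS, mem_inf, mem_inf, ← e1, ← e2])
      (fun w hw _ hwT y hy => by
        obtain ⟨hwD, -, hwp⟩ := mem_omegaOne_center.1 hw
        exact ((mem_inf.1 hy).2 w (mem_omegaOne ⟨hQT (mem_inf.1 hwD).1, hwT⟩ hwp)).symm)
    intro z hzS hzc hzp
    have hzD : ∀ d ∈ D, d * z = z * d := fun d hd =>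
      hzc d (mem_inf.2 ⟨hQT (mem_inf.1 hd).1, (mem_inf.1 hd).2⟩)
    have hzQ : z ∈ Q := centralizer_pCore_inf_le hH L
      (mem_inf.2 ⟨(mem_inf.1 hzS).2, fun d hd => hzD d hd⟩)
    exact (key z (mem_omegaOne ⟨mem_inf.2 ⟨hzQ, (mem_inf.1 hzS).2⟩, hzD⟩ hzp) hzc x
      (mem_inf.2 ⟨hxL, zc_iff.2 hx⟩)).symm
  · intro hx z hzT hzc hzp
    set Z0 := Cfsg.omegaOne p (S ⊓ centralizer (S : Set H)) with hZ0
    set X := L ⊓ centralizer (Z0 : Set H) with hX
    set W := Cfsg.omegaOne p (Q ⊓ centralizer (Q : Set H)) with hW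
    have hWn : W.Normal := omegaOne_normal inferInstance p
    have hzQc : ∀ q ∈ Q, q * z = z * q := fun q hq => hzc q (hQT hq)
    have hSX : S ≤ X := fun s hs => mem_inf.2 ⟨(mem_inf.1 hs).2, fun u hu =>
      ((mem_omegaOne_center.1 hu).2.1 s hs).symm⟩
    obtain ⟨a, k, -, haX, hkW, hkS, hk, rfl⟩ := exists_trace_decomp (X := X) (S := S)
      (omegaOne_isElementaryAbelian (center_commute Q)) (le_normalizer_of_normal (H := W))
      hSX (hcop X hSX inf_le_left) (mem_omegaOne ⟨hH hzQc, hzQc⟩ hzp)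
      (fun s hs => hzc s (mem_inf.1 hs).1)
    have hkL : k ∈ L := by
      refine (closure_le _).2 ?_ hk
      rintro _ ⟨y, hy, rfl⟩
      rw [mul_assoc y, mul_assoc]
      exact mul_mem (mem_inf.1 hy).1 (hLn.conj_mem _ (inv_mem (mem_inf.1 hy).1) (a * k))
    have hkZ0 : k ∈ Z0 := mem_omegaOne
      ⟨mem_inf.2 ⟨hQT (mem_omegaOne_center.1 hkW).1, hkL⟩, hkS⟩ (mem_omegaOne_center.1 hkW).2.2
    exact ((show Commute a x from (haX x (mem_inf.2 ⟨hxL, zc_iff.2 hx⟩)).symm).mul_left
      (show Commute k x from zc_iff.2 hx k hkZ0)).eq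

theorem zc_subtype {H : Type*} [Group H] {p : ℕ} (K : Subgroup H) (T : Subgroup ↥K) (x : ↥K) :
    zc p T x ↔ zc p (T.map K.subtype) (x : H) := by
  constructor
  · rintro h _ ⟨z, hz, rfl⟩ h2 h3
    exact congrArg Subtype.val (h z hz
      (fun t ht => Subtype.ext (h2 _ (mem_map_of_mem _ ht))) (Subtype.ext (by simpa using h3)))
  · intro h z hz h2 h3
    refine Subtype.ext (h _ (mem_map_of_mem _ hz) ?_ (by simpa using congrArg Subtype.val h3))
    rintro _ ⟨t, ht, rfl⟩
    exact congrArg Subtype.val (h2 t ht)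

theorem char_normal {H : Type*} [Group H] [Finite H] {p : ℕ} [Fact p.Prime]
    (hH : centralizer (Cfsg.pCore p H : Set H) ≤ Cfsg.pCore p H) (L : Subgroup H) [hLn : L.Normal] :
    centralizer (Cfsg.pCore p ↥L : Set ↥L) ≤ Cfsg.pCore p ↥L := by
  have := pCore_normal p H
  have hle : (Cfsg.pCore p H).subgroupOf L ≤ Cfsg.pCore p ↥L :=
    le_pCore inferInstance (IsPGroup.comap_subtype (isPGroup_pCore p))
  intro c hc
  refine hle (centralizer_pCore_inf_le hH L (mem_inf.2 ⟨c.2, fun d hd => ?_⟩))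
  exact congrArg Subtype.val (hc (⟨d, (mem_inf.1 hd).2⟩ : ↥L) (hle (mem_inf.1 hd).1))

theorem kieler {H : Type*} [Group H] [Finite H] {p : ℕ} [Fact p.Prime]
    (hH : centralizer (Cfsg.pCore p H : Set H) ≤ Cfsg.pCore p H) (T : Sylow p H)
    {L : Subgroup H} (hL : L.IsSubnormal) :
    centralizer (Cfsg.pCore p ↥L : Set ↥L) ≤ Cfsg.pCore p ↥L ∧
    ∀ x ∈ L, zc p (T : Subgroup H) x ↔ zc p ((T : Subgroup H) ⊓ L) x := by
  induction hL with
  | top =>
    refine ⟨char_normal hH ⊤, fun x _ => ?_⟩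
    rw [inf_top_eq]
  | step A B hle hB hN ih =>
    obtain ⟨hcB, hB'⟩ := ih
    have := hN
    refine ⟨?_, fun x hx => ?_⟩
    · have h1 := char_normal hcB (A.subgroupOf B)
      let e : ↥(A.subgroupOf B) ≃* ↥A := subgroupOfEquivOfLe hle
      have h2 : (Cfsg.pCore p ↥(A.subgroupOf B)).map e.toMonoidHom = Cfsg.pCore p ↥A := by
        refine le_antisymm (le_pCore ((pCore_normal p _).map _ e.surjective)
          ((isPGroup_pCore p).map _)) fun a ha => ?_
        have h3 : (Cfsg.pCore p ↥A).map e.symm.toMonoidHom ≤ Cfsg.pCore p ↥(A.subgroupOf B) :=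
          le_pCore ((pCore_normal p _).map _ e.symm.surjective) ((isPGroup_pCore p).map _)
        exact ⟨e.symm a, h3 (mem_map_of_mem _ ha), e.apply_symm_apply a⟩
      rw [← h2]
      intro c hc
      refine ⟨e.symm c, h1 fun d hd => e.injective ?_, e.apply_symm_apply c⟩
      rw [map_mul, map_mul, e.apply_symm_apply]
      exact hc _ (mem_map_of_mem _ hd)
    · rw [hB' x (hle hx)]
      have key := zc_normal hcB (sylowOfSubnormal T hB) (A.subgroupOf B) ⟨x, hle hx⟩ hx
      rw [sylowOfSubnormal_coe, zc_subtype, zc_subtype, subgroupOf_map_subtype,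
        map_inf _ _ B.subtype B.subtype_injective, subgroupOf_map_subtype,
        subgroupOf_map_subtype] at key
      rwa [show (T : Subgroup H) ⊓ B ⊓ (A ⊓ B) = (T : Subgroup H) ⊓ A by
        rw [inf_eq_left.2 hle, inf_assoc, inf_eq_right.2 hle]] at key

/-- Kieler's Lemma: let H be a finite group of characteristic p (C_H(O_p(H)) ≤ O_p(H)), T a Sylow p-subgroup of H and L a subnormal subgroup of H. Then C_L(Ω₁(Z(T))) = C_L(Ω₁(Z(T ∩ L))), Ω₁(Z(·)) denoting the elements of order dividing p in the centre. -/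
theorem result {H : Type*} [Group H] [Finite H] {p : ℕ} [Fact p.Prime] (hH : Subgroup.centralizer (Cfsg.pCore p H : Set H) ≤ Cfsg.pCore p H) (T : Sylow p H) (L : Subgroup H) (hL : L.IsSubnormal) : L ⊓ Subgroup.centralizer ((Cfsg.omegaOne p ((T : Subgroup H) ⊓ Subgroup.centralizer ((T : Subgroup H) : Set H))) : Set H) = L ⊓ Subgroup.centralizer ((Cfsg.omegaOne p (((T : Subgroup H) ⊓ L) ⊓ Subgroup.centralizer ((((T : Subgroup H) ⊓ L) : Subgroup H) : Set H))) : Set H) := by
  ext x
  rw [mem_inf, mem_inf, zc_iff, zc_iff]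
  exact and_congr_right fun hx => (kieler hH T hL).2 x hx

end Cfsg.Agent.S2805
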