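import Cfsg.Statements.S2806
import Cfsg.Agent.S2805
import Cfsg.Agent.Lib.SubnormalJoin.Basic

set_option autoImplicit false
open Cfsg

namespace Cfsg.Agent.S2806

open Subgroup Cfsg.Agent.PReduced
open scoped commutatorElement

open S2805 (zc zc_iff zc_subtype kieler)

theorem omega_center_ne_bot {H : Type*} [Group H] [Finite H] {p : ℕ} [Fact p.Prime]
    {R : Subgroup H} (hR : IsPGroup p ↥R) (hR1 : R ≠ ⊥) :
    Cfsg.omegaOne p (R ⊓ centralizer (R : Set H)) ≠ ⊥ := by
  haveI : Nontrivial ↥R := (nontrivial_iff_ne_bot R).2 hR1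
  haveI := hR.center_nontrivial
  have hdvd : p ∣ Nat.card ↥(center ↥R) := by
    obtain ⟨n, hn, he⟩ := (hR.to_subgroup (center ↥R)).nontrivial_iff_card.1 inferInstance
    exact he ▸ dvd_pow_self p (Nat.pos_iff_ne_zero.1 hn)
  obtain ⟨z, hz⟩ := exists_prime_orderOf_dvd_card' p hdvd
  rw [← Subgroup.orderOf_coe, ← Subgroup.orderOf_coe] at hz
  intro h
  have hm : ((z : ↥R) : H) ∈ Cfsg.omegaOne p (R ⊓ centralizer (R : Set H)) :=
    mem_omegaOne_center.2 ⟨(z : ↥R).2,
      fun t ht => congrArg Subtype.val (mem_center_iff.1 z.2 ⟨t, ht⟩),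
      hz ▸ pow_orderOf_eq_one _⟩
  rw [h, mem_bot] at hm
  rw [hm, orderOf_one] at hz
  exact (Fact.out : p.Prime).ne_one hz.symm

theorem zc_change {H : Type*} [Group H] [Finite H] {p : ℕ} [Fact p.Prime] (T : Sylow p H)
    (Y : Subgroup H) (hY : centralizer (Cfsg.pCore p ↥Y : Set ↥Y) ≤ Cfsg.pCore p ↥Y)
    {A B : Subgroup H} (hA : A.IsSubnormal) (hB : B.IsSubnormal) (hAB : A ≤ B)
    (hP : (T : Subgroup H) ⊓ B ≤ Y) {x : H} (hxA : x ∈ A) (hxY : x ∈ Y) :
    zc p ((T : Subgroup H) ⊓ A) x ↔ zc p ((T : Subgroup H) ⊓ B) x := by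
  obtain ⟨T₀, hT₀⟩ := (IsPGroup.comap_subtype (K := Y) (T.2.to_le inf_le_left :
    IsPGroup p ↥((T : Subgroup H) ⊓ B))).exists_le_sylow
  have key : ∀ C : Subgroup H, C.IsSubnormal → C ≤ B →
      ((T₀ : Subgroup ↥Y) ⊓ C.subgroupOf Y).map Y.subtype = (T : Subgroup H) ⊓ C := by
    intro C hC hCB
    have hle : (T : Subgroup H) ⊓ C ≤ ((T₀ : Subgroup ↥Y) ⊓ C.subgroupOf Y).map Y.subtype :=
      fun y hy => ⟨⟨y, hP ⟨hy.1, hCB hy.2⟩⟩,
        mem_inf.2 ⟨hT₀ (show y ∈ (T : Subgroup H) ⊓ B from ⟨hy.1, hCB hy.2⟩), hy.2⟩, rfl⟩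
    refine le_antisymm (SubnormalJoin.le_of_coprime_relIndex (K := C)
      ((T₀.2.to_le inf_le_left).map _) hle ?_ ?_) hle
    · rintro _ ⟨y, hy, rfl⟩
      exact hy.2
    · rw [inf_relIndex_right]
      exact sylow_relIndex_coprime_subnormal T hC
  have hA' := (kieler hY T₀ (hA.subgroupOf (K := Y))).2 ⟨x, hxY⟩ hxA
  have hB' := (kieler hY T₀ (hB.subgroupOf (K := Y))).2 ⟨x, hxY⟩ (hAB hxA)
  rw [zc_subtype _ ((T₀ : Subgroup ↥Y) ⊓ _), key A hA hAB] at hA'
  rw [zc_subtype _ ((T₀ : Subgroup ↥Y) ⊓ _), key B hB le_rfl] at hB'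
  exact hA'.symm.trans hB'

theorem zc_up {H : Type*} [Group H] [Finite H] {p : ℕ} [Fact p.Prime]
    (hH : Cfsg.IsOfLocalCharacteristic p H) (T : Sylow p H) {A : Subgroup H} (hA : A.IsSubnormal)
    (hne : (T : Subgroup H) ⊓ A ≠ ⊥) {x : H} (hxA : x ∈ A)
    (hx : zc p ((T : Subgroup H) ⊓ A) x) : zc p (T : Subgroup H) x := by
  induction hA with
  | top => rwa [inf_top_eq] at hx
  | step A B hle hB hN ih =>
    set R := (T : Subgroup H) ⊓ A with hR
    set Z := Cfsg.omegaOne p (R ⊓ centralizer (R : Set H)) with hZ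
    have hZp : IsPGroup p ↥Z := isPGroup_of_isElementaryAbelian
      (omegaOne_isElementaryAbelian (center_commute R))
    have hY := hH.2 Z hZp (omega_center_ne_bot (T.2.to_le inf_le_left) hne)
    have hxY : x ∈ normalizer (Z : Set H) := by
      rw [mem_normalizer_iff]
      have hc : x ∈ centralizer (Z : Set H) := zc_iff.2 hx
      intro y
      constructor
      · intro hy
        rwa [← (hc y hy), mul_inv_cancel_right]
      · intro hy
        have h1 := (inv_mem hc : x⁻¹ ∈ centralizer (Z : Set H)) _ hy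
        have h2 : y = x * y * x⁻¹ := by
          calc y = x⁻¹ * (x * y * x⁻¹) * x := by group
            _ = _ := by rw [← h1, inv_mul_cancel_right]
        rwa [h2]
    have hP : (T : Subgroup H) ⊓ B ≤ normalizer (Z : Set H) := by
      intro t ht
      refine WeaklyClosed.mem_normalizer_of_cj_le ?_
      have hRn : ∀ y ∈ R, t * y * t⁻¹ ∈ R := fun y hy => mem_inf.2
        ⟨mul_mem (mul_mem ht.1 hy.1) (inv_mem ht.1), hN.conj_mem ⟨y, hle hy.2⟩ hy.2 ⟨t, ht.2⟩⟩
      have hRn' : ∀ y ∈ R, t⁻¹ * y * t ∈ R := fun y hy => mem_inf.2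
        ⟨mul_mem (mul_mem (inv_mem ht.1) hy.1) ht.1, by
          have h := hN.conj_mem ⟨y, hle hy.2⟩ hy.2 ⟨t⁻¹, inv_mem ht.2⟩
          simpa [mem_subgroupOf] using h⟩
      rintro _ ⟨z, hz, rfl⟩
      obtain ⟨h1, h2, h3⟩ := mem_omegaOne_center.1 hz
      show t * z * t⁻¹ ∈ Z
      refine mem_omegaOne_center.2 ⟨hRn z h1, fun s hs => ?_, by rw [conj_pow, h3, mul_one, mul_inv_cancel]⟩
      calc s * (t * z * t⁻¹) = t * ((t⁻¹ * s * t) * z) * t⁻¹ := by group
        _ = t * (z * (t⁻¹ * s * t)) * t⁻¹ := by rw [h2 _ (hRn' s hs)]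
        _ = t * z * t⁻¹ * s := by group
    exact ih (fun h => hne (le_bot_iff.1 (h ▸ inf_le_inf_left _ hle))) (hle hxA)
      ((zc_change T _ hY (IsSubnormal.step _ _ hle hB hN)
        hB hle hP hxA hxY).1 hx)

theorem zc_down {H : Type*} [Group H] [Finite H] {p : ℕ} [Fact p.Prime]
    (hH : Cfsg.IsOfLocalCharacteristic p H) (T : Sylow p H) {A : Subgroup H} (hA : A.IsSubnormal)
    {x : H} (hxA : x ∈ A) (hx : zc p (T : Subgroup H) x) : zc p ((T : Subgroup H) ⊓ A) x := by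
  set Z := Cfsg.omegaOne p ((T : Subgroup H) ⊓ centralizer ((T : Subgroup H) : Set H)) with hZ
  have hZp : IsPGroup p ↥Z := isPGroup_of_isElementaryAbelian
    (omegaOne_isElementaryAbelian (center_commute _))
  have hY := hH.2 Z hZp (omega_center_ne_bot T.2 (T.ne_bot_of_dvd_card hH.1))
  have hCN : centralizer (Z : Set H) ≤ normalizer (Z : Set H) := by
    intro c hc
    refine WeaklyClosed.mem_normalizer_of_cj_le ?_
    rintro _ ⟨z, hz, rfl⟩
    show c * z * c⁻¹ ∈ Z
    rwa [← hc z hz, mul_inv_cancel_right]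
  have hTZ : (T : Subgroup H) ≤ centralizer (Z : Set H) :=
    fun t ht z hz => ((mem_omegaOne_center.1 hz).2.1 t ht).symm
  have h := zc_change T _ hY hA IsSubnormal.top le_top
    ((inf_le_left).trans (hTZ.trans hCN)) hxA (hCN (zc_iff.2 hx))
  rw [inf_top_eq] at h
  exact h.2 hx

theorem pointStabilizer_eq {H : Type*} [Group H] [Finite H] {p : ℕ} [Fact p.Prime]
    (hH : Cfsg.IsOfLocalCharacteristic p H) (T : Sylow p H) {A : Subgroup H} (hA : A.IsSubnormal) :
    Cfsg.pointStabilizer p A ((T : Subgroup H) ⊓ A) = Components.pGen p (A ⊓ centralizer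
      (Cfsg.omegaOne p ((T : Subgroup H) ⊓ centralizer ((T : Subgroup H) : Set H)) : Set H)) := by
  unfold Cfsg.pointStabilizer Components.pGen
  congr 1
  ext x
  simp only [Set.mem_setOf_eq, mem_inf, zc_iff]
  constructor
  · rintro ⟨⟨hxA, hx⟩, k, hk⟩
    refine ⟨⟨hxA, ?_⟩, k, hk ▸ pow_orderOf_eq_one x⟩
    by_cases hne : (T : Subgroup H) ⊓ A = ⊥
    · have hco := sylow_relIndex_coprime_subnormal T hA
      rw [← inf_relIndex_right, hne, relIndex_bot_left] at hco
      have : x = 1 := orderOf_eq_one_iff.1 (hk ▸ Nat.eq_one_of_dvd_coprimes (hco.pow_right k)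
        (hk ▸ Subgroup.orderOf_dvd_natCard A hxA) dvd_rfl)
      rw [this]
      intro z _ _ _
      rw [one_mul, mul_one]
    · exact zc_up hH T hA hne hxA hx
  · rintro ⟨⟨hxA, hx⟩, k, hk⟩
    obtain ⟨j, -, hj⟩ := (Nat.dvd_prime_pow Fact.out).1 (orderOf_dvd_of_pow_eq_one hk)
    exact ⟨⟨hxA, zc_down hH T hA hxA hx⟩, j, hj⟩

theorem mem_of_subnormal_coprime_index {G : Type*} [Group G] [Finite G] {p : ℕ} {K : Subgroup G}
    (hK : K.IsSubnormal) (hn : K.index.Coprime p) {x : G} {k : ℕ} (hx : x ^ p ^ k = 1) : x ∈ K := by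
  induction hK with
  | top => exact mem_top x
  | step A B hle _ hN ih =>
    have hB : x ∈ B := ih (hn.coprime_dvd_left (index_dvd_of_le hle))
    have h2 : (⟨x, hB⟩ : ↥B) ^ A.relIndex B ∈ A.subgroupOf B := by
      haveI := hN
      exact (A.subgroupOf B).pow_index_mem _
    refine Transfer.mem_of_pow_mem_of_coprime
      ((hn.coprime_dvd_left (relIndex_dvd_index_of_le hle)).symm.pow_left k) ?_
      (show x ^ A.relIndex B ∈ A from h2)
    rw [hx]; exact one_mem _

/-- Let H be a finite group of local characteristic p, T a Sylow p-subgroup, and L₁, L₂ subnormal subgroups of H generating the subgroup L. Then the point stabilizer of L with respect to T ∩ L is generated by the point stabilizers of L₁ and L₂ with respect to T ∩ L₁ and T ∩ L₂ (point stabilizer of X w.r.t. R: the subgroup generated by the p-elements of X centralizing Ω₁(Z(R))). -/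
theorem result {H : Type*} [Group H] [Finite H] {p : ℕ} [Fact p.Prime] (hH : Cfsg.IsOfLocalCharacteristic p H) (T : Sylow p H) (L₁ L₂ : Subgroup H) (h₁ : L₁.IsSubnormal) (h₂ : L₂.IsSubnormal) : Cfsg.pointStabilizer p (L₁ ⊔ L₂) ((T : Subgroup H) ⊓ (L₁ ⊔ L₂)) = Cfsg.pointStabilizer p L₁ ((T : Subgroup H) ⊓ L₁) ⊔ Cfsg.pointStabilizer p L₂ ((T : Subgroup H) ⊓ L₂) := by
  have hL := Cores.isSubnormal_sup h₁ h₂
  rw [pointStabilizer_eq hH T hL, pointStabilizer_eq hH T h₁, pointStabilizer_eq hH T h₂]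
  set Z := Cfsg.omegaOne p ((T : Subgroup H) ⊓ centralizer ((T : Subgroup H) : Set H)) with hZ
  set X := centralizer (Z : Set H) with hX
  refine le_antisymm ?_ (sup_le (Components.pGen_mono (inf_le_inf_right _ le_sup_left))
    (Components.pGen_mono (inf_le_inf_right _ le_sup_right)))
  set C := (L₁ ⊔ L₂) ⊓ X with hC
  have hTX : (T : Subgroup H) ≤ X :=
    fun t ht z hz => ((mem_omegaOne_center.1 hz).2.1 t ht).symm
  set K := Components.pGen p (L₁.subgroupOf C) ⊔ Components.pGen p (L₂.subgroupOf C) with hK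
  have hsn : ∀ A : Subgroup H, A.IsSubnormal → (Components.pGen p (A.subgroupOf C)).IsSubnormal :=
    fun A hA => IsSubnormal.step _ _ (Components.pGen_le p _) hA.subgroupOf
      (normal_subgroupOf_of_le_normalizer
        (le_normalizer.trans (Components.normalizer_le_normalizer_pGen p _)))
  have hKs : K.IsSubnormal := Cores.isSubnormal_sup (hsn _ h₁) (hsn _ h₂)
  have hmap : ∀ A : Subgroup H, A ≤ L₁ ⊔ L₂ →
      (Components.pGen p (A.subgroupOf C)).map C.subtype ≤ Components.pGen p (A ⊓ X) := by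
    intro A _
    rw [Components.pGen, MonoidHom.map_closure]
    refine closure_mono ?_
    rintro _ ⟨y, ⟨hy, k, hk⟩, rfl⟩
    exact ⟨mem_inf.2 ⟨hy, (mem_inf.1 y.2).2⟩, k, by simpa using congrArg Subtype.val hk⟩
  have hidx : K.index.Coprime p := by
    have hTK : ((T : Subgroup H) ⊓ (L₁ ⊔ L₂)).subgroupOf C ≤ K := by
      rw [SubnormalJoin.sylow_inf_sup T h₁ h₂]
      have hsub : ∀ A : Subgroup H, A ≤ L₁ ⊔ L₂ → (T : Subgroup H) ⊓ A ≤ C :=
        fun A hA => le_inf (inf_le_right.trans hA) (inf_le_left.trans hTX)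
      have hgen : ∀ A : Subgroup H, ((T : Subgroup H) ⊓ A).subgroupOf C ≤
          Components.pGen p (A.subgroupOf C) := by
        intro A y hy
        obtain ⟨k, hk⟩ := T.2 ⟨(y : H), hy.1⟩
        exact subset_closure ⟨hy.2, k, Subtype.ext (by simpa using congrArg Subtype.val hk)⟩
      rw [subgroupOf_sup (hsub _ le_sup_left) (hsub _ le_sup_right)]
      exact sup_le ((hgen L₁).trans le_sup_left) ((hgen L₂).trans le_sup_right)
    refine Nat.Coprime.coprime_dvd_left (index_dvd_of_le hTK) ?_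
    show (((T : Subgroup H) ⊓ (L₁ ⊔ L₂)).relIndex C).Coprime p
    have h := sylow_relIndex_coprime_subnormal (T.subtype hTX)
      (hL.subgroupOf (K := X))
    rw [Sylow.coe_subtype] at h
    have e : ((T : Subgroup H) ⊓ (L₁ ⊔ L₂)).relIndex C =
        ((T : Subgroup H).subgroupOf X).relIndex ((L₁ ⊔ L₂).subgroupOf X) := by
      rw [← relIndex_map_map_of_injective _ _ X.subtype_injective, subgroupOf_map_subtype,
        subgroupOf_map_subtype, ← inf_relIndex_right ((T : Subgroup H) ⊓ (L₁ ⊔ L₂)),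
        ← inf_relIndex_right ((T : Subgroup H) ⊓ X), hC]
      congr 1
      ac_rfl
    rwa [e]
  refine (closure_le _).2 ?_
  rintro x ⟨hx, k, hk⟩
  have hmem : (⟨x, hx⟩ : ↥C) ∈ K :=
    mem_of_subnormal_coprime_index hKs hidx (k := k) (Subtype.ext (by simpa using hk))
  have h := mem_map_of_mem C.subtype hmem
  rw [Subgroup.map_sup] at h
  exact sup_le_sup (hmap L₁ le_sup_left) (hmap L₂ le_sup_right) h

end Cfsg.Agent.S2806
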