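import Cfsg.Statements.S2807
import Cfsg.Agent.Lib.Yoshida.Fusion
import Cfsg.Agent.Lib.Fusion.Group
import Cfsg.Agent.Lib.Transfer.Focal
-- import your own Cfsg.Agent.* helpers here

set_option autoImplicit false
open Cfsg

namespace Cfsg.Agent.S2807
open Cfsg.FusionSystem Cfsg.Agent.Fusion
open scoped commutatorElement

/-- Let S be a Sylow p-subgroup of the finite group G. If S ∩ G' ≠ S ∩ (N_G(S))' (derived subgroups), then the wreath product Z_p ≀ Z_p — realised as a Sylow p-subgroup of the symmetric group of degree p² — is a homomorphic image of S. -/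
theorem result {G : Type*} [Group G] [Finite G] {p : ℕ} [Fact p.Prime] (S : Sylow p G) (h : (S : Subgroup G) ⊓ commutator G ≠ (S : Subgroup G) ⊓ ⁅Subgroup.normalizer ((S : Subgroup G) : Set G), Subgroup.normalizer ((S : Subgroup G) : Set G)⁆) : ∃ (P : Sylow p (Equiv.Perm (Fin (p ^ 2)))) (f : ↥(S : Subgroup G) →* ↥(P : Subgroup (Equiv.Perm (Fin (p ^ 2))))), Function.Surjective f := by
  refine Cfsg.Agent.Yoshida.yoshida_fusion (F := groupFusionSystem (S : Subgroup G)) S.isPGroup'
    (isSaturated_group S) ((S : Subgroup G) ⊓ ⁅Subgroup.normalizer ((S : Subgroup G) : Set G),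
      Subgroup.normalizer ((S : Subgroup G) : Set G)⁆) ?_ ?_
  · intro f hf u hu
    obtain ⟨-, g, hg⟩ := isMap_group_iff.1 hf
    have hgN : g ∈ Subgroup.normalizer ((S : Subgroup G) : Set G) := by
      refine (Subgroup.mem_normalizer_fintype fun x hx => (hg x hx).1)
    refine Subgroup.mem_inf.mpr ⟨mul_mem (inv_mem hu) (hf.mem hu), ?_⟩
    rw [(hg u hu).2, show u⁻¹ * (g * u * g⁻¹) = ⁅u⁻¹, g⁆ by simp [commutatorElement_def, mul_assoc]]
    exact Subgroup.commutator_mem_commutator (Subgroup.le_normalizer (inv_mem hu)) hgN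
  · intro hle
    apply h
    refine le_antisymm ?_ (inf_le_inf_left _ (Subgroup.commutator_mono le_top le_top))
    rw [inf_comm, ← Cfsg.Agent.Transfer.focalSubgroup_eq_of_coprime _
      (Cfsg.Agent.Transfer.coprime_index_relIndex_sylow S)]
    refine le_trans ?_ hle
    rw [Subgroup.focalSubgroup_def, Subgroup.closure_le]
    rintro z ⟨hz, x, hx, u, rfl⟩
    have hx' : u * x⁻¹ * u⁻¹ ∈ (S : Subgroup G) := by
      have := mul_mem (inv_mem hx) hz
      simpa [commutatorElement_def, mul_assoc] using this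
    have hm : IsMap (groupFusionSystem (S : Subgroup G)) (Subgroup.zpowers x⁻¹)
        (fun y => u * y * u⁻¹) := by
      refine isMap_group_iff.2 ⟨Subgroup.zpowers_le.2 (inv_mem hx), u, fun y hy => ⟨?_, rfl⟩⟩
      obtain ⟨k, rfl⟩ := hy
      show u * x⁻¹ ^ k * u⁻¹ ∈ _
      rw [← conj_zpow]
      exact zpow_mem hx' k
    have := FusionChain.inv_mul_map_mem_focal hm (Subgroup.mem_zpowers _)
    simpa [commutatorElement_def, mul_assoc] using this

end Cfsg.Agent.S2807
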