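import Cfsg.Statements.S2809
import Cfsg.Agent.Lib.CharP.Basic
import Cfsg.Agent.Lib.PReduced.Basic

set_option autoImplicit false
open Cfsg

namespace Cfsg.Agent.S2809

open Subgroup Cfsg.Agent.PReduced
open scoped commutatorElement

/-- Let H be a finite group, p a prime, R a p-subgroup of H with C_H(R) ≤ R, and L a subgroup of N_H(R) acting nilpotently on R (some iterated commutator [R, L, …, L] is trivial). Then L is a p-group. -/
theorem result {H : Type*} [Group H] [Finite H] {p : ℕ} [Fact p.Prime] (R : Subgroup H) (hR : IsPGroup p ↥R) (hC : Subgroup.centralizer (R : Set H) ≤ R) (L : Subgroup H) (hL : L ≤ Subgroup.normalizer (R : Set H)) (hnil : ∃ n : ℕ, Cfsg.iterCommutator R L n = ⊥) : IsPGroup p ↥L := by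
  obtain ⟨n, hn⟩ := hnil
  have hle : ∀ i, Cfsg.iterCommutator R L i ≤ R := by
    intro i
    induction i with
    | zero => exact le_rfl
    | succ i ih =>
      refine commutator_le.2 fun a ha l hl => ?_
      have h1 : l * a⁻¹ * l⁻¹ ∈ R := (mem_normalizer_iff.1 (hL hl) a⁻¹).1 (inv_mem (ih ha))
      have h2 : ⁅a, l⁆ = a * (l * a⁻¹ * l⁻¹) := by rw [commutatorElement_def]; group
      rw [h2]; exact mul_mem (ih ha) h1
  refine CharP.isPGroup_of_coprime_eq_one fun y hy hco => ?_
  have key : ∀ j ≤ n, ∀ x ∈ Cfsg.iterCommutator R L (n - j), Commute x y := by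
    intro j
    induction j with
    | zero =>
      intro _ x hx
      rw [Nat.sub_zero, hn, mem_bot] at hx
      rw [hx]; exact Commute.one_left y
    | succ j ih =>
      intro hj x hx
      have hc : ⁅x, y⁆ ∈ Cfsg.iterCommutator R L (n - j) := by
        rw [show n - j = n - (j + 1) + 1 by omega]
        exact commutator_mem_commutator hx hy
      refine CharP.eq_one_of_commute hco ?_ (ih (by omega) _ hc)
      obtain ⟨k, hk⟩ := hR ⟨_, hle _ hc⟩
      exact ⟨k, by simpa [Subtype.ext_iff, commutatorElement_def] using hk⟩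
  have hyR : y ∈ R := hC fun x hx => key n le_rfl x (by rw [Nat.sub_self]; exact hx)
  obtain ⟨k, hk⟩ := hR ⟨y, hyR⟩
  have hk' : y ^ p ^ k = 1 := by simpa [Subtype.ext_iff] using hk
  exact orderOf_eq_one_iff.1 (Nat.Coprime.eq_one_of_dvd (hco.pow_right k) (orderOf_dvd_of_pow_eq_one hk'))

end Cfsg.Agent.S2809
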