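import Cfsg.Statements.S2810
import Cfsg.Agent.Lib.CharP.Basic
import Cfsg.Agent.Lib.PReduced.Tools

set_option autoImplicit false
open Cfsg

namespace Cfsg.Agent.S2810

open Subgroup Cfsg.Agent.PReduced
open scoped commutatorElement

/-- Let H be a finite group of characteristic p and L a subgroup of H centralizing every factor of some H-invariant chain 1 = A₀ ≤ A₁ ≤ … ≤ Aₙ = O_p(H) of normal subgroups (that is, [A_{i+1}, L] ≤ Aᵢ for each i). Then L ≤ O_p(H). -/
theorem result {H : Type*} [Group H] [Finite H] {p : ℕ} [Fact p.Prime] (hchar : Subgroup.centralizer (Cfsg.pCore p H : Set H) ≤ Cfsg.pCore p H) (L : Subgroup H) (n : ℕ) (A : Fin (n + 1) → Subgroup H) (h0 : A 0 = ⊥) (hn : A (Fin.last n) = Cfsg.pCore p H) (hmono : Monotone A) (hnorm : ∀ i, (A i).Normal) (hcent : ∀ i : Fin n, ⁅A i.succ, L⁆ ≤ A i.castSucc) : L ≤ Cfsg.pCore p H := by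
  let B : Fin n → Subgroup H := fun i =>
    haveI := hnorm i.castSucc
    (centralizer (((A i.succ).map (QuotientGroup.mk' (A i.castSucc)) : Subgroup _) :
      Set (H ⧸ A i.castSucc))).comap (QuotientGroup.mk' (A i.castSucc))
  have hBn : ∀ i, (B i).Normal := fun i => by
    haveI := hnorm i.castSucc
    haveI := (hnorm i.succ).map _ (QuotientGroup.mk'_surjective (A i.castSucc))
    exact Normal.comap normal_centralizer _
  have hB : ∀ i x, x ∈ B i ↔ ∀ q ∈ A i.succ, ⁅q, x⁆ ∈ A i.castSucc := by
    intro i x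
    haveI := hnorm i.castSucc
    constructor
    · intro hx q hq
      have h1 := hx _ (mem_map_of_mem _ hq)
      rw [← QuotientGroup.eq_one_iff, ← QuotientGroup.mk'_apply, map_commutatorElement]
      exact commutatorElement_eq_one_iff_mul_comm.2 h1
    · rintro hx _ ⟨q, hq, rfl⟩
      rw [← commutatorElement_eq_one_iff_mul_comm, ← map_commutatorElement, QuotientGroup.mk'_apply,
        QuotientGroup.eq_one_iff]
      exact hx q hq
  set N := ⨅ i, B i with hN
  have hNn : N.Normal := normal_iInf_normal hBn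
  have hLN : L ≤ N := le_iInf fun i x hx => (hB i x).2 fun q hq =>
    hcent i (commutator_mem_commutator hq hx)
  refine hLN.trans (PReduced.le_pCore hNn ?_)
  refine CharP.isPGroup_of_coprime_eq_one fun y hy hco => ?_
  have key : ∀ i : Fin (n + 1), ∀ x ∈ A i, Commute x y := by
    intro i
    induction i using Fin.induction with
    | zero => intro x hx; rw [h0, mem_bot] at hx; rw [hx]; exact Commute.one_left y
    | succ i ih =>
      intro x hx
      have hc : ⁅x, y⁆ ∈ A i.castSucc := (hB i y).1 (iInf_le B i hy) x hx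
      refine CharP.eq_one_of_commute hco ?_ (ih _ hc)
      obtain ⟨k, hk⟩ := PReduced.isPGroup_pCore (G := H) p
        ⟨_, hn ▸ hmono (Fin.le_last _) hc⟩
      exact ⟨k, by simpa [Subtype.ext_iff, commutatorElement_def] using hk⟩
  exact CharP.eq_one_of_centralizes_pCore hchar hco fun x hx =>
    (key (Fin.last n) x (hn ▸ hx)).symm

end Cfsg.Agent.S2810
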