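import Cfsg.Statements.S2813
import Cfsg.Agent.Lib.PIrred.Basic

set_option autoImplicit false
open Cfsg

namespace Cfsg.Agent.S2813

open Subgroup Cfsg.Agent.PReduced
open scoped commutatorElement

/-- Let K be a subgroup of the finite group H with O_p(K) = 1 and Y a p-subgroup of N_H(K) with [K, Y, Y] = 1. Then [K, Y] = 1. -/
theorem result {H : Type*} [Group H] [Finite H] {p : ℕ} [Fact p.Prime] (K : Subgroup H) (hO : Cfsg.pCore p ↥K = ⊥) (Y : Subgroup H) (hY : IsPGroup p ↥Y) (hYK : Y ≤ Subgroup.normalizer (K : Set H)) (hq : ⁅⁅K, Y⁆, Y⁆ = ⊥) : ⁅K, Y⁆ = ⊥ := by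
  set W := ⁅K, Y⁆ with hW
  have hWK : W ≤ K := commutator_le.2 fun k hk y hy => by
    have h1 : y * k⁻¹ * y⁻¹ ∈ K := (mem_normalizer_iff.1 (hYK hy) k⁻¹).1 (inv_mem hk)
    have h2 : ⁅k, y⁆ = k * (y * k⁻¹ * y⁻¹) := by rw [commutatorElement_def]; group
    rw [h2]; exact mul_mem hk h1
  have hKW : K ≤ normalizer (W : Set H) := Cores.commutator_normalizer_left K Y
  have hYc : ∀ y ∈ Y, ∀ w ∈ W, Commute w y := fun y hy w hw =>
    (commutator_eq_bot_iff_le_centralizer.1 hq hw y hy).symm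
  have hconj : ∀ k ∈ K, ∀ y ∈ Y, ∀ w ∈ W, Commute (k * y * k⁻¹) w := by
    intro k hk y hy w hw
    have hw' : k⁻¹ * w * k ∈ W := by
      have h1 := (mem_normalizer_iff.1 (hKW (inv_mem hk)) w).1 hw
      rwa [inv_inv] at h1
    have h2 := (hYc y hy _ hw').symm.eq
    calc k * y * k⁻¹ * w = k * (y * (k⁻¹ * w * k)) * k⁻¹ := by group
      _ = k * ((k⁻¹ * w * k) * y) * k⁻¹ := by rw [h2]
      _ = w * (k * y * k⁻¹) := by group
  have hWab : W ≤ centralizer (W : Set H) := commutator_le.2 fun k hk y hy w hw => by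
    rw [commutatorElement_def]
    exact ((hconj k hk y hy w hw).mul_left ((hYc y hy w hw).symm.inv_left)).symm.eq
  have hpart : ∀ w ∈ W, ∀ n : ℕ, w ^ p ^ n = 1 → w = 1 := by
    intro w hw n hn
    let N : Subgroup ↥K :=
      { carrier := {x | (x : H) ∈ W ∧ (x : H) ^ p ^ n = 1}
        one_mem' := ⟨one_mem _, one_pow _⟩
        mul_mem' := fun {a b} ha hb => ⟨mul_mem ha.1 hb.1, by
          rw [Subgroup.coe_mul,
            Commute.mul_pow (show Commute (a : H) b from hWab hb.1 _ ha.1), ha.2, hb.2, one_mul]⟩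
        inv_mem' := fun {a} ha => ⟨inv_mem ha.1, by
          rw [InvMemClass.coe_inv, inv_pow, ha.2, inv_one]⟩ }
    have hNn : N.Normal := ⟨fun a ha g => ⟨(mem_normalizer_iff.1 (hKW g.2) _).1 ha.1, by
      show ((g : H) * a * (g : H)⁻¹) ^ p ^ n = 1
      rw [conj_pow, ha.2, mul_one, mul_inv_cancel]⟩⟩
    have h1 : N ≤ ⊥ := hO ▸ PReduced.le_pCore hNn
      (fun a => ⟨n, Subtype.ext (Subtype.ext (by simpa using a.2.2))⟩)
    have h2 := h1 (show (⟨w, hWK hw⟩ : ↥K) ∈ N from ⟨hw, hn⟩)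
    exact congrArg Subtype.val (mem_bot.1 h2)
  rw [eq_bot_iff, hW, commutator_le]
  intro k hk y hy
  obtain ⟨n, hn⟩ := hY ⟨y, hy⟩
  have hn' : y ^ p ^ n = 1 := by simpa [Subtype.ext_iff] using hn
  have hwW : ⁅k, y⁆ ∈ W := commutator_mem_commutator hk hy
  refine mem_bot.2 (hpart _ hwW n ?_)
  have h1 : (k * y * k⁻¹) ^ p ^ n = 1 := by rw [conj_pow, hn', mul_one, mul_inv_cancel]
  rw [show k * y * k⁻¹ = ⁅k, y⁆ * y by rw [commutatorElement_def, inv_mul_cancel_right],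
    (hYc y hy _ hwW).mul_pow, hn', mul_one] at h1
  exact h1

end Cfsg.Agent.S2813
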