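import Cfsg.Statements.S2814
import Cfsg.Agent.Lib.PIrred.Basic

set_option autoImplicit false
open Cfsg

namespace Cfsg.Agent.S2814

open Subgroup Cfsg.Agent.PReduced
open scoped commutatorElement

/-- Let A be a subgroup of the finite group H and K the subnormal closure of A (intersection of the subnormal subgroups containing A). Then K is the normal closure of A inside K and N_H(A) ≤ N_H(K); K = A·O^p(K), O^p(K) being generated by the elements of K of order prime to p; and if A is a p-group, O^p(K) = [O^p(K), A]. -/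
theorem result {H : Type*} [Group H] [Finite H] {p : ℕ} [Fact p.Prime] (A : Subgroup H) (K : Subgroup H) (hK : K = Cfsg.subnormalClosure A) : (Subgroup.normalClosure ((A.subgroupOf K : Subgroup ↥K) : Set ↥K)).map K.subtype = K ∧ Subgroup.normalizer (A : Set H) ≤ Subgroup.normalizer (K : Set H) ∧ A ⊔ (Cfsg.pResidual p ↥K).map K.subtype = K ∧ (IsPGroup p ↥A → ⁅(Cfsg.pResidual p ↥K).map K.subtype, A⁆ = (Cfsg.pResidual p ↥K).map K.subtype) := by
  have hmem : A ≤ K ∧ K.IsSubnormal := by
    subst hK
    refine ⟨le_sInf fun J hJ => hJ.1, ?_⟩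
    have hfin : ({J : Subgroup H | A ≤ J ∧ J.IsSubnormal}).Finite := Set.toFinite _
    have : ∀ s : Set (Subgroup H), s.Finite → (∀ J ∈ s, J.IsSubnormal) → (sInf s).IsSubnormal := by
      intro s hs
      induction s, hs using Set.Finite.induction_on with
      | empty => intro _; rw [sInf_empty]; exact IsSubnormal.top
      | @insert a s _ _ ih =>
        intro h
        rw [sInf_insert]
        exact (h a (Set.mem_insert _ _)).inf (ih fun J hJ => h J (Set.mem_insert_of_mem _ hJ))
    exact this _ hfin fun J hJ => hJ.2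
  obtain ⟨hAK, hKs⟩ := hmem
  have hmin : ∀ J : Subgroup H, A ≤ J → J.IsSubnormal → K ≤ J := fun J h1 h2 =>
    hK ▸ sInf_le ⟨h1, h2⟩
  set R := (Cfsg.pResidual p ↥K).map K.subtype with hR
  have hcl : (normalClosure ((A.subgroupOf K : Subgroup ↥K) : Set ↥K)).map K.subtype = K := by
    refine le_antisymm (map_subtype_le _) (hmin _ ?_ ((normalClosure_normal.isSubnormal).trans' hKs))
    exact fun a ha => ⟨⟨a, hAK ha⟩, subset_normalClosure ha, rfl⟩
  have hAR : A ⊔ R = K := by
    refine le_antisymm (sup_le hAK (map_subtype_le _)) (hmin _ le_sup_left ?_)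
    haveI := PReduced.pResidual_normal p ↥K
    have hq : Group.IsNilpotent (↥K ⧸ Cfsg.pResidual p ↥K) :=
      (Transfer.isPGroup_quotient_pResidual (p := p) (G := ↥K)).isNilpotent
    have h1 := Cores.isSubnormal_of_nilpotent ((A.subgroupOf K).map (QuotientGroup.mk' (Cfsg.pResidual p ↥K)))
    have h2 := h1.comap (QuotientGroup.mk' (Cfsg.pResidual p ↥K))
    rw [comap_map_eq, QuotientGroup.ker_mk'] at h2
    have h3 := h2.trans' hKs
    rwa [Subgroup.map_sup, subgroupOf_map_subtype, inf_eq_left.2 hAK] at h3
  refine ⟨hcl, ?_, hAR, fun hAp => ?_⟩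
  · have key : ∀ h ∈ normalizer (A : Set H), ∀ x ∈ K, h * x * h⁻¹ ∈ K := by
      intro h hh x hx
      have hle : K ≤ K.comap (MulAut.conj h).toMonoidHom := hmin _
        (fun a ha => hAK ((mem_normalizer_iff.1 hh a).1 ha)) (hKs.comap _)
      exact hle hx
    intro h hh
    rw [mem_normalizer_iff]
    exact fun x => ⟨key h hh x, fun hx => by
      simpa [mul_assoc] using key h⁻¹ (inv_mem hh) _ hx⟩
  · set D := ⁅R, A⁆ with hD
    have hRK : R ≤ K := map_subtype_le _
    have hKR : K ≤ normalizer (R : Set H) := by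
      haveI := PReduced.pResidual_normal p ↥K
      have h2 := Subgroup.le_normalizer_map K.subtype (H := Cfsg.pResidual p ↥K)
      rw [normalizer_eq_top (Cfsg.pResidual p ↥K), ← MonoidHom.range_eq_map, range_subtype] at h2
      exact h2
    have hKD : K ≤ normalizer (D : Set H) := hAR ▸
      sup_le (Cores.commutator_normalizer_right R A) (Cores.commutator_normalizer_left R A)
    have hDR : D ≤ R := commutator_le.2 fun r hr a ha => by
      have h1 : a * r⁻¹ * a⁻¹ ∈ R := (mem_normalizer_iff.1 (hKR (hAK ha)) r⁻¹).1 (inv_mem hr)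
      have h2 : ⁅r, a⁆ = r * (a * r⁻¹ * a⁻¹) := by rw [commutatorElement_def]; group
      rw [h2]; exact mul_mem hr h1
    refine le_antisymm hDR ?_
    haveI hDn : (D.subgroupOf K).Normal := (normal_subgroupOf_iff_le_normalizer (hDR.trans hRK)).2 hKD
    set π := QuotientGroup.mk' (D.subgroupOf K) with hπ
    set A' := (A.subgroupOf K).map π with hA'
    have hA'n : A'.Normal := by
      refine normalizer_eq_top_iff.1 (top_le_iff.1 ?_)
      have htop : (A.subgroupOf K ⊔ R.subgroupOf K : Subgroup ↥K).map π = ⊤ := by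
        rw [← subgroupOf_sup hAK hRK, hAR, subgroupOf_self,
          map_top_of_surjective π (QuotientGroup.mk'_surjective _)]
      rw [← htop, Subgroup.map_sup]
      refine sup_le le_normalizer ?_
      rintro _ ⟨r, hr, rfl⟩
      have hcomm : ∀ a ∈ A.subgroupOf K, π r * π a = π a * π r := by
        intro a ha
        rw [← commutatorElement_eq_one_iff_mul_comm, ← map_commutatorElement, hπ,
          QuotientGroup.mk'_apply, QuotientGroup.eq_one_iff]
        exact commutator_mem_commutator (hr : (r : H) ∈ R) (ha : (a : H) ∈ A)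
      exact centralizer_le_normalizer _ (fun q ⟨a, ha, e⟩ => e ▸ (hcomm a ha).symm)
    have hA'top : A' = ⊤ := by
      refine top_le_iff.1 ?_
      have h1 : normalClosure ((A.subgroupOf K : Subgroup ↥K) : Set ↥K) = ⊤ := by
        refine map_injective K.subtype_injective ?_
        rw [hcl, ← MonoidHom.range_eq_map, range_subtype]
      haveI := hA'n
      rw [← map_top_of_surjective π (QuotientGroup.mk'_surjective _), ← h1, map_le_iff_le_comap]
      exact normalClosure_le_normal fun a ha => mem_map_of_mem π ha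
    have hmod : pMod p D K := by
      intro x hx
      have h1 : π ⟨x, hx⟩ ∈ A' := by rw [hA'top]; trivial
      obtain ⟨a, ha, he⟩ := h1
      obtain ⟨k, hk⟩ := hAp ⟨(a : H), ha⟩
      refine ⟨k, ?_⟩
      have hk' : a ^ p ^ k = 1 := Subtype.ext (by simpa [Subtype.ext_iff] using hk)
      have h2 : π ((⟨x, hx⟩ : ↥K) ^ p ^ k) = 1 := by
        rw [map_pow, ← he, ← map_pow, hk', map_one]
      exact mem_subgroupOf.1 ((QuotientGroup.eq_one_iff (N := D.subgroupOf K) _).1 h2)
    exact PIrred.pResidual_map_le_of_pMod hmod le_rfl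

end Cfsg.Agent.S2814
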