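import Cfsg.Statements.S2815
import Cfsg.Agent.Lib.PIrred.Basic
import Cfsg.Agent.Lib.Components.GenFitting

set_option autoImplicit false
open Cfsg

namespace Cfsg.Agent.S2815

open Subgroup Cfsg.Agent.PReduced
open scoped commutatorElement

/-- Let H be a finite group and p a prime dividing its order with O_p(H) = 1, and suppose K = O^p(H) (generated by the elements of order prime to p) is quasisimple. Then K = F*(H); for every nontrivial p-subgroup Y of H, K = [K, Y] and K lies in the subgroup generated by the K-conjugates of Y; every normal subgroup of H not containing K has order prime to p; and H is p-irreducible. -/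
theorem result {H : Type*} [Group H] [Finite H] {p : ℕ} [Fact p.Prime] (hp : p ∣ Nat.card H) (hO : Cfsg.pCore p H = ⊥) (hq : Cfsg.IsQuasisimple ↥(Cfsg.pResidual p H)) : Cfsg.pResidual p H = Cfsg.generalizedFittingSubgroup H ∧ (∀ Y : Subgroup H, IsPGroup p ↥Y → Y ≠ ⊥ → ⁅Cfsg.pResidual p H, Y⁆ = Cfsg.pResidual p H ∧ Cfsg.pResidual p H ≤ ⨆ k : ↥(Cfsg.pResidual p H), Y.map (MulAut.conj (k : H)).toMonoidHom) ∧ (∀ C : Subgroup H, C.Normal → ¬ Cfsg.pResidual p H ≤ C → (Nat.card ↥C).Coprime p) ∧ Cfsg.IsPIrreducible p H := by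
  set K := Cfsg.pResidual p H with hK
  haveI hKn : K.Normal := pResidual_normal p H
  have hcomp : Cfsg.IsComponent K := ⟨hKn.isSubnormal, hq⟩
  have hperf : ⁅K, K⁆ = K := Components.IsComponent.perfect hcomp
  set C := centralizer (K : Set H) with hC
  haveI hCn : C.Normal := inferInstance
  have hCnil : Group.IsNilpotent ↥C := by
    haveI : (K.subgroupOf C).Normal := inferInstance
    have hp' : IsPGroup p (↥C ⧸ K.subgroupOf C) := by
      intro q
      obtain ⟨c, rfl⟩ := QuotientGroup.mk'_surjective _ q
      obtain ⟨k, hk⟩ := pMod_pResidual (p := p) ⊤ (c : H) (mem_top _)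
      refine ⟨k, ?_⟩
      rw [← map_pow, QuotientGroup.mk'_apply, QuotientGroup.eq_one_iff, mem_subgroupOf,
        SubgroupClass.coe_pow]
      exact hk
    haveI := hp'.isNilpotent
    refine Subgroup.isNilpotent_of_ker_le_center (QuotientGroup.mk' (K.subgroupOf C)) ?_
    rw [QuotientGroup.ker_mk']
    intro z hz
    exact mem_center_iff.2 fun c => Subtype.ext (c.2 (z : H) hz).symm
  have hCco : (Nat.card ↥C).Coprime p := by
    refine (Nat.Prime.coprime_iff_not_dvd Fact.out).2 (fun hdvd => ?_) |>.symm
    haveI := hCnil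
    obtain ⟨P⟩ : Nonempty (Sylow p ↥C) := inferInstance
    have hclosed : Cfsg.IsPClosed p ↥C := fun P => inferInstance
    have h1 : (P : Subgroup ↥C).map C.subtype ≤ Cfsg.pCore p H :=
      PIrred.isPGroup_le_pCore_of_isPClosed hclosed (P.2.map _) (map_subtype_le _)
    rw [hO, le_bot_iff, map_eq_bot_iff_of_injective _ C.subtype_injective] at h1
    exact P.ne_bot_of_dvd_card hdvd h1
  have hCK : C ≤ K := fun c hc => by
    refine subset_closure ?_
    refine Nat.Coprime.coprime_dvd_left ?_ hCco
    exact Subgroup.orderOf_dvd_natCard C hc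
  have hYK : ∀ Y : Subgroup H, IsPGroup p ↥Y → Y ≠ ⊥ → ⁅K, Y⁆ = K := by
    intro Y hY hY1
    have hle : ⁅K, Y⁆ ≤ K := commutator_le.2 fun k hk y _ => by
      simpa [commutatorElement_def, mul_assoc] using mul_mem hk (hKn.conj_mem _ (inv_mem hk) y)
    haveI : (⁅K, Y⁆.subgroupOf K).Normal :=
      normal_subgroupOf_of_le_normalizer (normalizer_commutator_ge_left K Y)
    rcases Components.IsQuasisimple.normal_eq_top_or_le_center hq (⁅K, Y⁆.subgroupOf K) with h | h
    · exact le_antisymm hle (subgroupOf_eq_top.1 h)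
    · have h1 : ⁅K, Y⁆ ≤ C := by
        have := map_mono (f := K.subtype) h
        rw [map_subgroupOf_eq_of_le hle] at this
        exact this.trans (Components.center_map_subtype_le_centralizer K)
      have h2 : Y ≤ C := by
        have := Components.commutator_eq_bot_of_perfect_of_le hperf h1
          (commutator_eq_bot_iff_le_centralizer.2 le_rfl)
        rwa [commutator_comm, commutator_eq_bot_iff_le_centralizer] at this
      exfalso
      refine hY1 ((eq_bot_iff_forall _).2 fun y hy => orderOf_eq_one_iff.1 ?_)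
      obtain ⟨n, hn⟩ := IsPGroup.iff_orderOf.1 hY ⟨y, hy⟩
      rw [Subgroup.orderOf_mk] at hn
      have hd := Subgroup.orderOf_dvd_natCard C (h2 hy)
      rw [hn] at hd ⊢
      exact Nat.eq_one_of_dvd_coprimes (hCco.symm.pow_left n) dvd_rfl hd
  have hN : ∀ N : Subgroup H, N.Normal → ¬ K ≤ N → (Nat.card ↥N).Coprime p := by
    intro N hNn hKN
    rcases Components.IsComponent.le_or_commutes hcomp hNn.isSubnormal with h | h
    · exact absurd h hKN
    · rw [commutator_comm, commutator_eq_bot_iff_le_centralizer] at h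
      exact hCco.coprime_dvd_left (card_dvd_of_le h)
  refine ⟨le_antisymm ((Components.IsComponent.le_layer hcomp).trans le_sup_left) (sup_le ?_ ?_),
    fun Y hY hY1 => ⟨hYK Y hY hY1, ?_⟩, hN, ?_, ?_⟩
  · refine Components.layer_le fun L hL => ?_
    rcases Components.IsComponent.le_or_commutes hL hKn.isSubnormal with h | h
    · exact h
    · exact (commutator_eq_bot_iff_le_centralizer.1 h).trans hCK
  · refine le_trans ?_ hCK
    exact (Components.fitting_le_centralizer_layer).trans
      (centralizer_le (Components.IsComponent.le_layer hcomp))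
  · refine (hYK Y hY hY1).symm.le.trans (commutator_le.2 fun k hk y hy => ?_)
    rw [commutatorElement_def]
    refine mul_mem ?_ (inv_mem (le_iSup (fun k : ↥K => Y.map (MulAut.conj (k : H)).toMonoidHom) 1 ?_))
    · exact le_iSup (fun k : ↥K => Y.map (MulAut.conj (k : H)).toMonoidHom) ⟨k, hk⟩ ⟨y, hy, rfl⟩
    · exact ⟨y, hy, by simp⟩
  · intro hc
    obtain ⟨P⟩ : Nonempty (Sylow p H) := inferInstance
    have h1 := (PIrred.isPClosed_iff P).1 hc
    rw [hO, le_bot_iff] at h1
    exact P.ne_bot_of_dvd_card hp h1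
  · intro N hNn hNc
    by_contra hKN
    refine hNc fun P => ?_
    have : (P : Subgroup ↥N) = ⊥ := eq_bot_iff.2 fun x hx => by
      obtain ⟨n, hn⟩ := IsPGroup.iff_orderOf.1 P.2 ⟨x, hx⟩
      rw [Subgroup.orderOf_mk] at hn
      refine mem_bot.2 (orderOf_eq_one_iff.1 ?_)
      have hd := orderOf_dvd_natCard x
      rw [hn] at hd ⊢
      exact Nat.eq_one_of_dvd_coprimes ((hN N hNn hKN).symm.pow_left n) dvd_rfl hd
    rw [this]
    infer_instance

end Cfsg.Agent.S2815
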