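import Cfsg.Statements.S2816
import Cfsg.Agent.Lib.FStarAct.Basic

set_option autoImplicit false
open Cfsg

namespace Cfsg.Agent.S2816

open scoped commutatorElement

/-- Let H be a finite group and p a prime with O_p(H) = 1, and Y a p-subgroup of H. Then for every subnormal subgroup K of H containing Y, [F*(H), Y] = [F*(K), Y] = [F*(K), Y, Y]; and if Y₀ ≤ Y with [F*(H), Y, Y₀] = 1 then Y₀ = 1 (in particular [F*(H), Y] = 1 forces Y = 1). -/
theorem result {H : Type*} [Group H] [Finite H] {p : ℕ} [Fact p.Prime] (hO : Cfsg.pCore p H = ⊥) (Y : Subgroup H) (hY : IsPGroup p ↥Y) : (∀ K : Subgroup H, K.IsSubnormal → Y ≤ K → ⁅Cfsg.generalizedFittingSubgroup H, Y⁆ = ⁅(Cfsg.generalizedFittingSubgroup ↥K).map K.subtype, Y⁆ ∧ ⁅(Cfsg.generalizedFittingSubgroup ↥K).map K.subtype, Y⁆ = ⁅⁅(Cfsg.generalizedFittingSubgroup ↥K).map K.subtype, Y⁆, Y⁆) ∧ (∀ Y₀ : Subgroup H, Y₀ ≤ Y → ⁅⁅Cfsg.generalizedFittingSubgroup H, Y⁆, Y₀⁆ = ⊥ → Y₀ = ⊥) := by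
  set Fs := Cfsg.generalizedFittingSubgroup H with hFs
  haveI hFn : Fs.Normal := Cfsg.Agent.Components.genFitting_normal
  have hYFs : Y ≤ Subgroup.normalizer (Fs : Set H) := by
    rw [Subgroup.normalizer_eq_top (H := Fs)]; exact le_top
  obtain ⟨hsplit, hD⟩ := Cfsg.Agent.FStarAct.split_top hO hYFs hY le_rfl hFn.isSubnormal
  set D := ⁅Fs, Y⁆ with hDdef
  constructor
  · intro K hK hYK
    set FK := (Cfsg.generalizedFittingSubgroup ↥K).map K.subtype with hFK
    have hFKle : FK ≤ Fs := Cfsg.Agent.Components.genFitting_map_subtype_le hK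
    have hDK : D ≤ K := Cfsg.Agent.FStarAct.le_of_commutator_eq hD.symm hK hYK
    have hDF : D ≤ Fs := Subgroup.le_normalizer_iff_commutator_le_left.mp hYFs
    have hDsn : D.IsSubnormal := Subgroup.IsSubnormal.step D Fs hDF hFn.isSubnormal
      (Subgroup.normal_subgroupOf_of_le_normalizer (Subgroup.normalizer_commutator_ge_left Fs Y))
    have hdec := Cfsg.Agent.Components.subnormal_le_genFitting_decomp hDsn hDF
    have hDFK : D ≤ FK := by
      have h1 := Cfsg.Agent.Components.genFitting_map_subtype_le (G := ↥K) (S := D.subgroupOf K)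
        hDsn.subgroupOf
      have h2 : Cfsg.generalizedFittingSubgroup ↥(D.subgroupOf K) = ⊤ := by
        rw [← Cfsg.Agent.Components.genFitting_map_equiv (Subgroup.subgroupOfEquivOfLe hDK).symm,
          Cfsg.generalizedFittingSubgroup, sup_comm, hdec,
          Subgroup.map_top_of_surjective _ (Subgroup.subgroupOfEquivOfLe hDK).symm.surjective]
      rw [h2, ← MonoidHom.range_eq_map, Subgroup.range_subtype] at h1
      have h3 := Subgroup.map_mono (f := K.subtype) h1
      rwa [Subgroup.map_subgroupOf_eq_of_le hDK] at h3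
    have h1 : ⁅FK, Y⁆ = D := le_antisymm (Subgroup.commutator_mono hFKle le_rfl)
      (hD.le.trans (Subgroup.commutator_mono hDFK le_rfl))
    exact ⟨h1.symm, h1.symm ▸ hD⟩
  · intro Y₀ hle h0
    have hc : Fs ≤ Subgroup.centralizer (Y₀ : Set H) := by
      rw [← hsplit]
      exact sup_le (Subgroup.commutator_eq_bot_iff_le_centralizer.mp h0)
        (inf_le_right.trans (Subgroup.centralizer_le (SetLike.coe_subset_coe.mpr hle)))
    exact Cfsg.Agent.FStarAct.disjoint_of_coprime (Cfsg.Agent.FStarAct.coprime_card_fitting hO)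
      (hY.to_le hle) ((Subgroup.le_centralizer_iff.mp hc).trans
        Cfsg.Agent.Components.centralizer_genFitting_le_fitting)

end Cfsg.Agent.S2816
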