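import Cfsg.Statements.S2817
import Cfsg.Agent.Lib.FStarAct.Basic

set_option autoImplicit false
open Cfsg

namespace Cfsg.Agent.S2817

open Subgroup
open scoped commutatorElement Pointwise

/-- Let H be a finite group and p a prime with O_p(H) = 1, Q a p-subgroup of H, L = [F*(H), Q], and F the largest normal subgroup of F*(H) centralized by Q (a normal subgroup of F*(H) centralized by Q and containing every such). Then F = C_{F*(H)}(LQ); L = [L, Q]; L ∩ F ≤ Φ(L); every p-subgroup B of N_H(Q) with [L, B] ≤ F satisfies [L, B] = 1; and C_H(FL) has order prime to p. -/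
theorem result {H : Type*} [Group H] [Finite H] {p : ℕ} [Fact p.Prime] (hO : Cfsg.pCore p H = ⊥) (Q : Subgroup H) (hQ : IsPGroup p ↥Q) (L : Subgroup H) (hL : L = ⁅Cfsg.generalizedFittingSubgroup H, Q⁆) (F : Subgroup H) (hF : F ≤ Cfsg.generalizedFittingSubgroup H ∧ Cfsg.generalizedFittingSubgroup H ≤ Subgroup.normalizer (F : Set H) ∧ Q ≤ Subgroup.centralizer (F : Set H) ∧ ∀ N : Subgroup H, N ≤ Cfsg.generalizedFittingSubgroup H → Cfsg.generalizedFittingSubgroup H ≤ Subgroup.normalizer (N : Set H) → Q ≤ Subgroup.centralizer (N : Set H) → N ≤ F) : F = Cfsg.generalizedFittingSubgroup H ⊓ Subgroup.centralizer ((L ⊔ Q : Subgroup H) : Set H) ∧ ⁅L, Q⁆ = L ∧ L ⊓ F ≤ (frattini ↥L).map L.subtype ∧ (∀ B : Subgroup H, IsPGroup p ↥B → B ≤ Subgroup.normalizer (Q : Set H) → ⁅L, B⁆ ≤ F → ⁅L, B⁆ = ⊥) ∧ (Nat.card ↥(Subgroup.centralizer ((F ⊔ L : Subgroup H) : Set H))).Coprime p := by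
  set Fs := Cfsg.generalizedFittingSubgroup H with hFs
  obtain ⟨hFle, hFnorm, hQF, hFmax⟩ := hF
  haveI hFsn : Fs.Normal := Cfsg.Agent.Components.genFitting_normal
  have hQFs : Q ≤ normalizer (Fs : Set H) := by
    rw [normalizer_eq_top (H := Fs)]; exact le_top
  obtain ⟨hsplit, hD⟩ := Cfsg.Agent.FStarAct.split_top hO hQFs hQ le_rfl hFsn.isSubnormal
  rw [← hL] at hsplit hD
  have hLFs : L ≤ Fs := hL ▸ le_normalizer_iff_commutator_le_left.mp hQFs
  have hFsL : Fs ≤ normalizer (L : Set H) := hL ▸ normalizer_commutator_ge_left Fs Q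
  have hQL : Q ≤ normalizer (L : Set H) := hL ▸ normalizer_commutator_ge_right Fs Q
  have hLsn : L.IsSubnormal := IsSubnormal.step L Fs hLFs hFsn.isSubnormal
    (normal_subgroupOf_of_le_normalizer hFsL)
  have hFL : F ≤ centralizer (L : Set H) := by
    have h1 : ⁅⁅Q, F⁆, Fs⁆ = ⊥ := by
      rw [commutator_eq_bot_iff_le_centralizer.mpr hQF, commutator_bot_left]
    have h2 : ⁅⁅F, Fs⁆, Q⁆ = ⊥ := by
      rw [eq_bot_iff]
      exact (commutator_mono (le_normalizer_iff_commutator_le_left.mp hFnorm) le_rfl).trans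
        (commutator_eq_bot_iff_le_centralizer.mpr (le_centralizer_iff.mp hQF)).le
    have h3 : ⁅⁅Fs, Q⁆, F⁆ = ⊥ := commutator_commutator_eq_bot_of_rotate h1 h2
    rw [← hL, commutator_comm] at h3
    exact commutator_eq_bot_iff_le_centralizer.mp h3
  set C0 := Fs ⊓ centralizer ((L ⊔ Q : Subgroup H) : Set H) with hC0
  have hFC0 : F ≤ C0 := le_inf hFle (le_centralizer_iff.mp
    (sup_le (le_centralizer_iff.mp hFL) hQF))
  have hC0F : C0 ≤ F := by
    refine hFmax C0 inf_le_left ?_ (le_centralizer_iff.mp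
      (inf_le_right.trans (centralizer_le (SetLike.coe_subset_coe.mpr le_sup_right))))
    conv_lhs => rw [← hsplit]
    refine sup_le ((le_centralizer_iff.mp (inf_le_right.trans
      (centralizer_le (SetLike.coe_subset_coe.mpr le_sup_left)))).trans (centralizer_le_normalizer _)) ?_
    have hconj : ∀ g ∈ Fs ⊓ centralizer (Q : Set H), ∀ u ∈ C0, g * u * g⁻¹ ∈ C0 := by
      intro g hg u hu
      have hgF : g ∈ Fs := hg.1
      refine ⟨Fs.mul_mem (Fs.mul_mem hgF hu.1) (Fs.inv_mem hgF), ?_⟩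
      have hmap : (L ⊔ Q).map (MulAut.conj g : H →* H) = L ⊔ Q := by
        rw [Subgroup.map_sup, mem_normalizer_iff_map_conj_eq.mp (hFsL hgF),
          mem_normalizer_iff_map_conj_eq.mp (centralizer_le_normalizer _ hg.2)]
      intro v hv
      rw [SetLike.mem_coe, ← hmap] at hv
      obtain ⟨w, hw, rfl⟩ := hv
      show g * w * g⁻¹ * (g * u * g⁻¹) = g * u * g⁻¹ * (g * w * g⁻¹)
      rw [show g * w * g⁻¹ * (g * u * g⁻¹) = g * (w * u) * g⁻¹ by group, hu.2 w hw]
      group
    intro g hg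
    rw [mem_normalizer_iff]
    intro u
    refine ⟨hconj g hg u, fun h => ?_⟩
    have := hconj g⁻¹ (inv_mem hg) _ h
    simpa [mul_assoc] using this
  set Z := L ⊓ F with hZ
  have hdec := Cfsg.Agent.Components.subnormal_le_genFitting_decomp hLsn hLFs
  have hcopF : (Nat.card (Cfsg.fittingSubgroup ↥L)).Coprime p := by
    rw [← Cfsg.Agent.Cores.card_map_subtype,
      Cfsg.Agent.Components.fitting_map_subtype_of_isSubnormal hLsn]
    exact Nat.Coprime.coprime_dvd_left (card_dvd_of_le inf_le_left)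
      (Cfsg.Agent.FStarAct.coprime_card_fitting hO)
  have hAb : (Nat.card (Abelianization ↥L)).Coprime (Nat.card Q) := by
    obtain ⟨n, hn⟩ := IsPGroup.iff_card.mp hQ
    rw [hn]
    exact (Cfsg.Agent.FStarAct.coprime_card_abelianization hdec hcopF).pow_right n
  have hZL : Z ≤ ⁅L, L⁆ := fun z hz =>
    Cfsg.Agent.FStarAct.mem_commutator_of_fixed hQL hD.le hAb hz.1 (le_centralizer_iff.mp hQF hz.2)
  have hZc : Z ≤ centralizer (L : Set H) := inf_le_right.trans hFL
  have hC0eq : F = C0 := le_antisymm hFC0 hC0F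
  have hfr : Z ≤ (frattini ↥L).map L.subtype := by
    intro z hz
    refine ⟨⟨z, hz.1⟩, ?_, rfl⟩
    rw [frattini, Order.radical]
    simp only [SetLike.mem_coe, Subgroup.mem_iInf, Set.mem_setOf_eq]
    intro M hM
    by_contra hzM
    set z' : ↥L := ⟨z, hz.1⟩ with hz'
    have hcen : z' ∈ center ↥L := mem_center_iff.mpr fun a => Subtype.ext (hZc hz (a : H) a.2)
    have htop : M ⊔ zpowers z' = ⊤ := hM.2 _ (left_lt_sup.mpr fun h => hzM (h (mem_zpowers z')))
    have hzc : ∀ w ∈ zpowers z', ∀ a : ↥L, a * w = w * a := fun w hw a =>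
      mem_center_iff.mp ((zpowers_le.mpr hcen) hw) a
    haveI : (zpowers z').Normal := ⟨fun w hw a => by
      rwa [hzc w hw a, mul_inv_cancel_right]⟩
    have hcm : commutator ↥L ≤ M := by
      rw [_root_.commutator_def, commutator_le]
      intro a _ b _
      obtain ⟨m, hm, i, hi, rfl⟩ := mem_sup_of_normal_right.mp
        (htop ▸ mem_top a : a ∈ M ⊔ zpowers z')
      obtain ⟨n, hn, j, hj, rfl⟩ := mem_sup_of_normal_right.mp
        (htop ▸ mem_top b : b ∈ M ⊔ zpowers z')
      have e : ⁅m * i, n * j⁆ = ⁅m, n⁆ := by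
        simp only [commutatorElement_def]
        have hi' := hzc i hi
        have hj' := hzc j hj
        calc m * i * (n * j) * (m * i)⁻¹ * (n * j)⁻¹
            = m * (i * n) * (j * i⁻¹ * m⁻¹) * (j⁻¹ * n⁻¹) := by group
          _ = m * (n * i) * (i⁻¹ * m⁻¹ * j) * (j⁻¹ * n⁻¹) := by
              rw [hi' n, hj' (i⁻¹ * m⁻¹)]
              group
          _ = m * n * m⁻¹ * n⁻¹ := by group
      rw [e, commutatorElement_def]
      exact mul_mem (mul_mem (mul_mem hm hn) (inv_mem hm)) (inv_mem hn)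
    have h1 : z' ∈ commutator ↥L := by
      have h2 := hZL hz
      rw [← map_subtype_commutator] at h2
      obtain ⟨w, hw, hwz⟩ := h2
      rwa [show w = z' from Subtype.ext hwz] at hw
    exact hzM (hcm h1)
  refine ⟨hC0eq, hD.symm, hfr, ?_, ?_⟩
  · intro B hB hBQ hLB
    have hBFs : B ≤ normalizer (Fs : Set H) := by
      rw [normalizer_eq_top (H := Fs)]; exact le_top
    have hBL : B ≤ normalizer (L : Set H) := by
      intro b hb
      rw [mem_normalizer_iff_map_conj_eq, hL, map_commutator,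
        mem_normalizer_iff_map_conj_eq.mp (hBFs hb), mem_normalizer_iff_map_conj_eq.mp (hBQ hb)]
    have hsplitB := Cfsg.Agent.FStarAct.split hBL hB hdec hcopF
    set CB := L ⊓ centralizer (B : Set H) with hCB
    have hLCZ : L ≤ Z ⊔ CB := by
      conv_lhs => rw [← hsplitB]
      exact sup_le_sup (le_inf (le_normalizer_iff_commutator_le_left.mp hBL) hLB) le_rfl
    have hCBZ : CB ≤ normalizer (Z : Set H) :=
      (inf_le_left.trans (le_centralizer_iff.mp hZc)).trans (centralizer_le_normalizer _)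
    have hLL : ⁅L, L⁆ ≤ centralizer (B : Set H) := by
      rw [commutator_le]
      intro a ha b hb
      have ha' := hLCZ ha
      have hb' := hLCZ hb
      rw [← SetLike.mem_coe, coe_mul_of_right_le_normalizer_left Z CB hCBZ] at ha' hb'
      obtain ⟨z₁, hz₁, c₁, hc₁, rfl⟩ := ha'
      obtain ⟨z₂, hz₂, c₂, hc₂, rfl⟩ := hb'
      have e : ⁅z₁ * c₁, z₂ * c₂⁆ = ⁅c₁, c₂⁆ := by
        simp only [commutatorElement_def]
        have k1 : ∀ x ∈ L, x * z₁ = z₁ * x := fun x hx => hZc hz₁ x hx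
        have k2 : ∀ x ∈ L, x * z₂ = z₂ * x := fun x hx => hZc hz₂ x hx
        calc z₁ * c₁ * (z₂ * c₂) * (z₁ * c₁)⁻¹ * (z₂ * c₂)⁻¹
            = z₁ * (c₁ * z₂) * (c₂ * c₁⁻¹) * z₁⁻¹ * (c₂⁻¹ * z₂⁻¹) := by group
          _ = z₁ * z₂ * (c₁ * (c₂ * c₁⁻¹)) * z₁⁻¹ * (c₂⁻¹ * z₂⁻¹) := by
              rw [k2 c₁ hc₁.1]; group
          _ = z₂ * (c₁ * (c₂ * c₁⁻¹)) * (c₂⁻¹ * z₂⁻¹) := by
              rw [show z₁ * z₂ = z₂ * z₁ from k2 z₁ hz₁.1]
              rw [mul_assoc z₂ z₁, ← k1 _ (mul_mem hc₁.1 (mul_mem hc₂.1 (inv_mem hc₁.1)))]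
              group
          _ = z₂ * (c₁ * c₂ * c₁⁻¹ * c₂⁻¹) * z₂⁻¹ := by group
          _ = c₁ * c₂ * c₁⁻¹ * c₂⁻¹ := by
              rw [← k2 _ (mul_mem (mul_mem (mul_mem hc₁.1 hc₂.1) (inv_mem hc₁.1)) (inv_mem hc₂.1)),
                mul_inv_cancel_right]
      rw [e, commutatorElement_def]
      exact mul_mem (mul_mem (mul_mem hc₁.2 hc₂.2) (inv_mem hc₁.2)) (inv_mem hc₂.2)
    rw [commutator_eq_bot_iff_le_centralizer]
    exact hLCZ.trans (sup_le (hZL.trans hLL) inf_le_right)
  · set C := centralizer ((F ⊔ L : Subgroup H) : Set H) with hC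
    refine Nat.Coprime.symm ((Nat.Prime.coprime_iff_not_dvd Fact.out).mpr fun hdvd => ?_)
    obtain ⟨⟨x, hxC⟩, hx⟩ := exists_prime_orderOf_dvd_card' p hdvd
    rw [← orderOf_submonoid] at hx
    change orderOf x = p at hx
    set Y := zpowers x with hY'
    have hYp : IsPGroup p ↥Y := IsPGroup.of_card (n := 1) (by rw [Nat.card_zpowers, hx, pow_one])
    have hFLY : F ⊔ L ≤ centralizer (Y : Set H) :=
      le_centralizer_iff.mp (zpowers_le.mpr hxC)
    set Φ := Cfsg.fittingSubgroup H with hΦ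
    have hΦn : Φ.Normal := Cfsg.Agent.Cores.fittingSubgroup_normal H
    have hΦN : ∀ A : Subgroup H, A ≤ normalizer (Φ : Set H) := fun A => by
      rw [normalizer_eq_top (H := Φ)]; exact le_top
    have hEY : Cfsg.layer H ≤ centralizer (Y : Set H) := Cfsg.Agent.Components.layer_le fun K hK => by
      refine (?_ : K ≤ F ⊔ L).trans hFLY
      rcases Cfsg.Agent.Components.IsComponent.le_or_commutes hK hLsn with h | h
      · exact h.trans le_sup_right
      · refine le_trans ?_ le_sup_left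
        have hKE := Cfsg.Agent.Components.IsComponent.le_layer hK
        have hKFs : K ≤ Fs := hKE.trans Cfsg.Agent.Components.layer_le_genFitting
        refine hFmax K hKFs ?_ (le_centralizer_iff.mp
          (Cfsg.Agent.FStarAct.le_centralizer_of_perfect
            (Cfsg.Agent.Components.IsComponent.perfect hK) hKFs (by rw [← hL, commutator_comm, h])))
        exact sup_le (Cfsg.Agent.Components.IsComponent.layer_le_normalizer hK)
          ((Cfsg.Agent.Components.fitting_le_centralizer_layer.trans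
            (centralizer_le (SetLike.coe_subset_coe.mpr hKE))).trans (centralizer_le_normalizer _))
    set L0 := ⁅Φ, Q⁆ with hL0
    set X := Φ ⊓ (F ⊔ L) with hX
    have hL0X : L0 ≤ X := le_inf (le_normalizer_iff_commutator_le_left.mp (hΦN Q))
      ((commutator_mono Cfsg.Agent.Components.fitting_le_genFitting le_rfl).trans
        (hL ▸ le_sup_right))
    have hLE : L ≤ Cfsg.layer H ⊔ L0 := by
      rw [hL, commutator_le]
      intro a ha q hq
      obtain ⟨f, hf, e, he, rfl⟩ := mem_sup_of_normal_left.mp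
        (show a ∈ Φ ⊔ Cfsg.layer H by rw [sup_comm]; exact ha)
      have e1 : ⁅f * e, q⁆ = f * ⁅e, q⁆ * f⁻¹ * ⁅f, q⁆ := by
        simp only [commutatorElement_def]; group
      rw [e1]
      refine mul_mem (mem_sup_left ?_) (mem_sup_right (commutator_mem_commutator hf hq))
      refine (Cfsg.Agent.Components.layer_normal (G := H)).conj_mem _ ?_ f
      rw [commutatorElement_def, show e * q * e⁻¹ * q⁻¹ = e * (q * e⁻¹ * q⁻¹) by group]
      exact mul_mem he ((Cfsg.Agent.Components.layer_normal (G := H)).conj_mem _ (inv_mem he) q)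
    have hnilΦ : Group.IsNilpotent ↥Φ := Cfsg.Agent.Cores.fittingSubgroup_isNilpotent
    have hCX : Φ ⊓ centralizer (X : Set H) ≤ X := by
      set C1 := Φ ⊓ centralizer (L0 : Set H) with hC1
      refine le_trans (inf_le_inf_left _ (centralizer_le (SetLike.coe_subset_coe.mpr hL0X))) ?_
      have hQC1 : Q ≤ normalizer (C1 : Set H) := by
        have hmaps : ∀ q ∈ Q, ∀ u ∈ C1, q * u * q⁻¹ ∈ C1 := by
          intro q hq u hu
          refine ⟨hΦn.conj_mem _ hu.1 q, fun v hv => ?_⟩
          have hv' : q⁻¹ * v * q ∈ L0 := by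
            have := (mem_normalizer_iff.mp (normalizer_commutator_ge_right Φ Q (inv_mem hq)) v).mp hv
            simpa using this
          have := hu.2 _ hv'
          calc v * (q * u * q⁻¹) = q * ((q⁻¹ * v * q) * u) * q⁻¹ := by group
            _ = q * (u * (q⁻¹ * v * q)) * q⁻¹ := by rw [this]
            _ = q * u * q⁻¹ * v := by group
        intro q hq
        rw [mem_normalizer_iff]
        intro u
        refine ⟨hmaps q hq u, fun h => ?_⟩
        simpa [mul_assoc] using hmaps q⁻¹ (inv_mem hq) _ h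
      haveI := hQ.isNilpotent
      show C1 ≤ X
      rw [← Cfsg.Agent.Coprime.commutator_sup_centralizer hQC1
        (Cfsg.Agent.FStarAct.coprime_of_pGroup (Nat.Coprime.coprime_dvd_left
          (card_dvd_of_le inf_le_left) (Cfsg.Agent.FStarAct.coprime_card_fitting hO)) hQ)
        (Or.inl inferInstance)]
      refine sup_le ((commutator_mono inf_le_left le_rfl).trans hL0X) ?_
      intro c hc
      refine ⟨hc.1.1, mem_sup_left (hC0F ?_)⟩
      refine ⟨Cfsg.Agent.Components.fitting_le_genFitting hc.1.1, ?_⟩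
      refine le_centralizer_iff.mp (?_ : L ⊔ Q ≤ centralizer (zpowers c : Set H)) (mem_zpowers c)
      refine le_centralizer_iff.mp (le_centralizer_iff.mp (sup_le (hLE.trans (sup_le ?_ ?_)) ?_))
      · exact le_centralizer_iff.mp (zpowers_le.mpr
          (Cfsg.Agent.Components.fitting_le_centralizer_layer hc.1.1))
      · exact le_centralizer_iff.mp (zpowers_le.mpr hc.1.2)
      · exact le_centralizer_iff.mp (zpowers_le.mpr hc.2)
    have hYΦ : Φ ≤ centralizer (Y : Set H) := Cfsg.Agent.FStarAct.le_centralizer_of_self_centralizing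
      hnilΦ (hΦN Y) (Cfsg.Agent.FStarAct.coprime_of_pGroup
        (Cfsg.Agent.FStarAct.coprime_card_fitting hO) hYp) inf_le_left
      (inf_le_right.trans hFLY) hCX
    have hbot := Cfsg.Agent.FStarAct.disjoint_of_coprime
      (Cfsg.Agent.FStarAct.coprime_card_fitting hO) hYp
      ((le_centralizer_iff.mp (sup_le hEY hYΦ)).trans
        Cfsg.Agent.Components.centralizer_genFitting_le_fitting)
    rw [hY', zpowers_eq_bot] at hbot
    rw [hbot, orderOf_one] at hx
    exact (Fact.out : p.Prime).one_lt.ne hx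

end Cfsg.Agent.S2817
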