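import Cfsg.Statements.S2818
import Cfsg.Agent.Lib.PReduced.Basic
import Cfsg.Agent.Lib.PGroup.Basic

set_option autoImplicit false
open Cfsg

namespace Cfsg.Agent.S2818

open Subgroup Cfsg.Agent.PReduced
open scoped commutatorElement

/-- Let P be a finite p-subgroup of a group G and H a subgroup of N_G(P) with [P, H] ≤ Ω₁(Z(P)) (the elements of order dividing p in the centre of P). Then H centralizes the Frattini subgroup of P. -/
theorem result {G : Type*} [Group G] [Finite G] {p : ℕ} [Fact p.Prime] (P : Subgroup G) (hP : IsPGroup p ↥P) (H : Subgroup G) (hH : H ≤ Subgroup.normalizer (P : Set G)) (h : ⁅P, H⁆ ≤ Cfsg.omegaOne p (P ⊓ Subgroup.centralizer (P : Set G))) : ⁅(frattini ↥P).map P.subtype, H⁆ = ⊥ := by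
  set Z := Cfsg.omegaOne p (P ⊓ centralizer (P : Set G)) with hZ
  rw [commutator_eq_bot_iff_le_centralizer]
  intro u hu x hx
  have hf : ∀ a ∈ P, a * x * a⁻¹ * x⁻¹ ∈ Z := fun a ha =>
    h (commutator_mem_commutator ha hx)
  let f : ↥P →* ↥Z :=
    { toFun := fun a => ⟨(a : G) * x * (a : G)⁻¹ * x⁻¹, hf a a.2⟩
      map_one' := Subtype.ext (by simp)
      map_mul' := fun a b => Subtype.ext (by
        show (a : G) * b * x * ((a : G) * b)⁻¹ * x⁻¹ =
          ((a : G) * x * (a : G)⁻¹ * x⁻¹) * ((b : G) * x * (b : G)⁻¹ * x⁻¹)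
        obtain ⟨hcP, hcc, -⟩ := mem_omegaOne_center.1 (hf b b.2)
        have h1 : (a : G) * ((b : G) * x * (b : G)⁻¹ * x⁻¹) =
            ((b : G) * x * (b : G)⁻¹ * x⁻¹) * a := hcc a a.2
        have hza : ((a : G) * x * (a : G)⁻¹ * x⁻¹) ∈ P := (mem_omegaOne_center.1 (hf a a.2)).1
        have h2 := hcc _ hza
        calc (a : G) * b * x * ((a : G) * b)⁻¹ * x⁻¹
            = ((a : G) * ((b : G) * x * (b : G)⁻¹ * x⁻¹)) * (x * (a : G)⁻¹ * x⁻¹) := by group
          _ = (((b : G) * x * (b : G)⁻¹ * x⁻¹) * a) * (x * (a : G)⁻¹ * x⁻¹) := by rw [h1]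
          _ = ((b : G) * x * (b : G)⁻¹ * x⁻¹) * ((a : G) * x * (a : G)⁻¹ * x⁻¹) := by group
          _ = _ := h2.symm) }
  have hZc : ∀ a b : ↥Z, a * b = b * a := fun a b =>
    Subtype.ext ((mem_omegaOne_center.1 b.2).2.1 a (mem_omegaOne_center.1 a.2).1)
  have hker : frattini ↥P ≤ f.ker := by
    refine PGroup.frattini_le_of_quotient_elementary (p := p) ?_ fun a => ?_
    · rw [commutator_def, commutator_le]
      intro a _ b _
      rw [MonoidHom.mem_ker, map_commutatorElement, commutatorElement_eq_one_iff_mul_comm]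
      exact hZc _ _
    · rw [MonoidHom.mem_ker, map_pow]
      exact Subtype.ext (by simpa using (mem_omegaOne_center.1 (f a).2).2.2)
  obtain ⟨a, ha, rfl⟩ := hu
  have h1 : (a : G) * x * (a : G)⁻¹ * x⁻¹ = 1 := congrArg Subtype.val (hker ha)
  have h2 : (a : G) * x = x * a := mul_inv_eq_iff_eq_mul.1 (mul_inv_eq_one.1 h1)
  exact h2.symm

end Cfsg.Agent.S2818
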