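import Cfsg.Statements.S2819
import Cfsg.Agent.Lib.PIrred.Basic
import Cfsg.Agent.Lib.PGroup.Basic

set_option autoImplicit false
open Cfsg

namespace Cfsg.Agent.S2819

open Subgroup Cfsg.Agent.PReduced
open scoped commutatorElement

/-- Let P be a finite p-subgroup of a group G, H a subgroup of N_G(P), and Y a subgroup of H centralizing the derived subgroup P' such that [P, Y] is elementary abelian. Then O^p(⟨Y^H⟩), the subgroup of the normal closure of Y in H generated by its elements of order prime to p, centralizes the Frattini subgroup of P. -/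
theorem result {G : Type*} [Group G] [Finite G] {p : ℕ} [Fact p.Prime] (P : Subgroup G) (hP : IsPGroup p ↥P) (H : Subgroup G) (hH : H ≤ Subgroup.normalizer (P : Set G)) (Y : Subgroup G) (hYH : Y ≤ H) (hYc : Y ≤ Subgroup.centralizer ((⁅P, P⁆ : Subgroup G) : Set G)) (hel : Cfsg.IsElementaryAbelian p ⁅P, Y⁆) (NY : Subgroup G) (hNY : NY = (Subgroup.normalClosure ((Y.subgroupOf H : Subgroup ↥H) : Set ↥H)).map H.subtype) : (Cfsg.pResidual p ↥NY).map NY.subtype ≤ Subgroup.centralizer (((frattini ↥P).map P.subtype : Subgroup G) : Set G) := by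
  subst hNY
  set D := ⁅P, P⁆ with hD
  set Φ := (frattini ↥P).map P.subtype with hΦ
  have hDP : D ≤ P := commutator_le.2 fun a ha b hb => by
    rw [commutatorElement_def]; exact mul_mem (mul_mem (mul_mem ha hb) (inv_mem ha)) (inv_mem hb)
  have hDΦ : D ≤ Φ := by
    rw [hD, ← map_subtype_commutator]
    exact map_mono (PGroup.commutator_le_frattini hP)
  have hmapD : ∀ g ∈ normalizer (P : Set G), ∀ x ∈ D, g * x * g⁻¹ ∈ D := by
    intro g hg x hx
    have e : P.map (MulAut.conj g).toMonoidHom = P := (Cores.conj_smul_eq_self_iff (H := P)).2 hg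
    have h1 : D.map (MulAut.conj g).toMonoidHom = D := by rw [hD, map_commutator, e]
    exact h1.le (mem_map_of_mem _ hx)
  have hmapΦ : ∀ g ∈ normalizer (P : Set G), ∀ x ∈ Φ, g * x * g⁻¹ ∈ Φ := fun g hg x hx =>
    (mem_normalizer_iff.1 (Cores.normalizer_le_normalizer_map (frattini ↥P) hg) x).1 hx
  let good : G → Prop := fun g => g ∈ normalizer (P : Set G) ∧ (∀ d ∈ D, g * d = d * g) ∧
    ∀ u ∈ Φ, g * u * g⁻¹ * u⁻¹ ∈ D
  let St : Subgroup G :=
    { carrier := {g | good g}
      one_mem' := ⟨one_mem _, by simp, fun u _ => by simp⟩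
      mul_mem' := fun {a b} ha hb => ⟨mul_mem ha.1 hb.1, fun d hd => by
          rw [mul_assoc, hb.2.1 d hd, ← mul_assoc, ha.2.1 d hd, mul_assoc],
        fun u hu => by
          have h1 := mul_mem (ha.2.2 _ (hmapΦ b hb.1 u hu)) (hb.2.2 u hu)
          convert h1 using 1; group⟩
      inv_mem' := fun {a} ha => ⟨inv_mem ha.1, fun d hd =>
          (Commute.inv_left (show Commute a d from ha.2.1 d hd)).eq,
        fun u hu => by
          have h0 := hmapΦ a⁻¹ (inv_mem ha.1) u hu
          have h1 := inv_mem (ha.2.2 _ h0)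
          convert h1 using 1; group⟩ }
  have hStn : (St.subgroupOf H).Normal := by
    refine ⟨fun x hx g => ?_⟩
    obtain ⟨h1, h2, h3⟩ := hx
    have hg : (g : G) ∈ normalizer (P : Set G) := hH g.2
    refine ⟨mul_mem (mul_mem hg h1) (inv_mem hg), fun d hd => ?_, fun u hu => ?_⟩
    · have hd' := hmapD _ (inv_mem hg) d hd
      show (g : G) * x * (g : G)⁻¹ * d = d * ((g : G) * x * (g : G)⁻¹)
      have hd'' : (x : G) * ((g : G)⁻¹ * d * g) = ((g : G)⁻¹ * d * g) * x :=
        h2 _ (by simpa using hd')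
      calc (g : G) * x * (g : G)⁻¹ * d = g * (x * ((g : G)⁻¹ * d * g)) * (g : G)⁻¹ := by group
        _ = g * (((g : G)⁻¹ * d * g) * x) * (g : G)⁻¹ := by rw [hd'']
        _ = d * ((g : G) * x * (g : G)⁻¹) := by group
    · have h4 := hmapD _ hg _ (h3 _ (hmapΦ _ (inv_mem hg) u hu))
      convert h4 using 1
      show (g : G) * x * (g : G)⁻¹ * u * ((g : G) * x * (g : G)⁻¹)⁻¹ * u⁻¹ = _
      simp only [coe_subtype]
      group
  have hYSt : Y ≤ St := by
    intro y hy
    have hyN : y ∈ normalizer (P : Set G) := hH (hYH hy)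
    refine ⟨hyN, fun d hd => (hYc hy d hd).symm, ?_⟩
    let N : Subgroup ↥P :=
      { carrier := {u | y * (u : G) * y⁻¹ * (u : G)⁻¹ ∈ D}
        one_mem' := by simp
        mul_mem' := fun {a b} ha hb => by
          show y * ((a : G) * b) * y⁻¹ * ((a : G) * b)⁻¹ ∈ D
          have h1 := mul_mem ha (hmapD (a : G) (le_normalizer a.2) _ hb)
          convert h1 using 1; group
        inv_mem' := fun {a} ha => by
          show y * (a : G)⁻¹ * y⁻¹ * ((a : G)⁻¹)⁻¹ ∈ D
          have h1 := hmapD (a : G)⁻¹ (inv_mem (le_normalizer a.2)) _ (inv_mem ha)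
          convert h1 using 1; group }
    have hcN : commutator ↥P ≤ N := by
      intro u hu
      show y * (u : G) * y⁻¹ * (u : G)⁻¹ ∈ D
      have hd : (u : G) ∈ D := by
        rw [hD, ← map_subtype_commutator]; exact mem_map_of_mem _ hu
      rw [(hYc hy (u : G) hd).symm, mul_inv_cancel_right, mul_inv_cancel]
      exact one_mem D
    haveI : N.Normal := Normal.of_commutator_le ↥P hcN
    have hfr : frattini ↥P ≤ N := by
      refine PGroup.frattini_le_of_quotient_elementary (p := p) hcN fun x => ?_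
      show y * ((x ^ p : ↥P) : G) * y⁻¹ * ((x ^ p : ↥P) : G)⁻¹ ∈ D
      let c : ↥P := ⟨(x : G)⁻¹ * (y * x * y⁻¹), mul_mem (inv_mem x.2)
        ((mem_normalizer_iff.1 hyN _).1 x.2)⟩
      have hcp : c ^ p = 1 := Subtype.ext (by
        refine hel.2 _ ?_
        have : (c : G) = ⁅(x : G)⁻¹, y⁆ := by
          show (x : G)⁻¹ * (y * x * y⁻¹) = _
          rw [commutatorElement_def]; group
        rw [this]
        exact commutator_mem_commutator (inv_mem x.2) hy)
      have h1 : (((x * c) ^ p * (x ^ p)⁻¹ : ↥P) : G) ∈ D := by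
        have h2 : (x * c) ^ p * (x ^ p)⁻¹ ∈ commutator ↥P := by
          rw [← QuotientGroup.eq_one_iff]
          simp only [QuotientGroup.mk_mul, QuotientGroup.mk_pow, QuotientGroup.mk_inv]
          have hc : ∀ a b : ↥P ⧸ commutator ↥P, a * b = b * a :=
            (Subgroup.Normal.quotient_commutative_iff_commutator_le.mpr le_rfl).is_comm.comm
          rw [Commute.mul_pow (hc _ _), ← QuotientGroup.mk_pow _ c, hcp, QuotientGroup.mk_one,
            mul_one, mul_inv_cancel]
        rw [hD, ← map_subtype_commutator]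
        exact mem_map_of_mem _ h2
      convert h1 using 1
      simp only [Subgroup.coe_mul, SubgroupClass.coe_pow, InvMemClass.coe_inv]
      rw [← conj_pow]
      congr 2
      show y * (x : G) * y⁻¹ = x * ((x : G)⁻¹ * (y * x * y⁻¹))
      group
    rintro _ ⟨u, hu, rfl⟩
    exact hfr hu
  have hSt : (normalClosure ((Y.subgroupOf H : Subgroup ↥H) : Set ↥H)).map H.subtype ≤ St := by
    rintro _ ⟨x, hx, rfl⟩
    haveI := hStn
    exact (normalClosure_le_normal (N := St.subgroupOf H) fun y hy => hYSt hy) hx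
  refine PIrred.pResidual_map_le_of_pMod ?_ hSt
  exact pMod_of_stabilizes (hP.to_le (map_subtype_le _)) hDΦ
    (fun g hg d hd => (hg.2.1 d hd).symm) (fun g hg u hu => hg.2.2 u hu)

end Cfsg.Agent.S2819
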