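import Cfsg.Statements.S2821
import Cfsg.Agent.Lib.PReduced.Local
import Cfsg.Agent.S2802

set_option autoImplicit false
open Cfsg

namespace Cfsg.Agent.S2821

open Subgroup Cfsg.Agent.PReduced
open scoped commutatorElement

/-- Let H be a finite group, p a prime, T a Sylow p-subgroup and L a subgroup of characteristic p containing T; let Y_L be the largest p-reduced normal subgroup of L (the join of the normal elementary abelian p-subgroups V of L with O_p(L/C_L(V)) = 1). Then T₀ := C_T(Y_L) is a Sylow p-subgroup of C_H(Y_L); moreover O_p(L) ≤ T₀ ≤ C_L(Y_L) and Ω₁(Z(T)) ≤ Z_L ≤ Y_L ≤ Ω₁(Z(O_p(L))), where Z_L is generated by the Ω₁(Z(S)) over the Sylow p-subgroups S of L. -/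
theorem result {H : Type*} [Group H] [Finite H] {p : ℕ} [Fact p.Prime] (T : Sylow p H) (L : Subgroup H) (hTL : (T : Subgroup H) ≤ L) (hL : Subgroup.centralizer (Cfsg.pCore p ↥L : Set ↥L) ≤ Cfsg.pCore p ↥L) (T₀ : Subgroup H) (hT₀ : T₀ = (T : Subgroup H) ⊓ Subgroup.centralizer (((Cfsg.largestPReducedOf p L) : Subgroup H) : Set H)) : (∃ P : Sylow p ↥(Subgroup.centralizer (((Cfsg.largestPReducedOf p L) : Subgroup H) : Set H)), (P : Subgroup ↥(Subgroup.centralizer (((Cfsg.largestPReducedOf p L) : Subgroup H) : Set H))) = T₀.subgroupOf (Subgroup.centralizer (((Cfsg.largestPReducedOf p L) : Subgroup H) : Set H))) ∧ (Cfsg.pCoreOf p L) ≤ T₀ ∧ T₀ ≤ L ⊓ Subgroup.centralizer (((Cfsg.largestPReducedOf p L) : Subgroup H) : Set H) ∧ (Cfsg.omegaOne p ((T : Subgroup H) ⊓ Subgroup.centralizer (((T : Subgroup H) : Subgroup H) : Set H))) ≤ Cfsg.sylowCenterClosure p L ∧ Cfsg.sylowCenterClosure p L ≤ (Cfsg.largestPReducedOf p L) ∧ (Cfsg.largestPReducedOf p L) ≤ (Cfsg.omegaOne p ((Cfsg.pCoreOf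 p L) ⊓ Subgroup.centralizer (((Cfsg.pCoreOf p L) : Subgroup H) : Set H))) := by
  subst hT₀
  set Y := Cfsg.largestPReducedOf p L with hY
  set C := centralizer (Y : Set H) with hC
  have hLY := largestOf_normalized (p := p) L
  have hTC : (T : Subgroup H) ≤ normalizer (C : Set H) := hTL.trans (le_normalizer_centralizer hLY)
  have hred := largestPReduced_isPReducedNormal (G := ↥L) p
  refine ⟨?_, le_inf ?_ ?_, le_inf (inf_le_left.trans hTL) inf_le_right, ?_, ?_, ?_⟩
  · obtain ⟨P, hP⟩ := exists_sylow_inf T hTC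
    refine ⟨P, ?_⟩
    rw [hP]
    ext x
    exact ⟨fun h => mem_inf.2 ⟨h, x.2⟩, fun h => (mem_inf.1 h).1⟩
  · rintro _ ⟨x, hx, rfl⟩
    have h1 := PReduced.pCore_le_sylow (T.subtype hTL) hx
    rw [Sylow.coe_subtype] at h1
    exact h1
  · rintro _ ⟨x, hx, rfl⟩ _ ⟨y, hy, rfl⟩
    exact congrArg Subtype.val
      (isPReducedNormal_centralizes hred (PReduced.pCore_normal p _) (PReduced.isPGroup_pCore p) hx y hy)
  · refine le_trans (le_of_eq ?_) (le_iSup _ (T.subtype hTL))
    rw [Sylow.coe_subtype, subgroupOf_map_subtype, inf_eq_left.2 hTL]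
  · refine iSup_le fun S => ?_
    rw [← omega_center_map]
    refine map_mono ?_
    set Z := Cfsg.omegaOne p ((S : Subgroup ↥L) ⊓ centralizer ((S : Subgroup ↥L) : Set ↥L)) with hZ
    have hZS : Z ≤ (S : Subgroup ↥L) := (omegaOne_le p _).trans inf_le_left
    have hX : Cfsg.IsPReducedNormal p (Z.subgroupOf (S : Subgroup ↥L)) := by
      have hcen : ∀ z : ↥(S : Subgroup ↥L), z ∈ Z.subgroupOf (S : Subgroup ↥L) → ∀ s, s * z = z * s :=
        fun z hz s => Subtype.ext ((mem_omegaOne_center.1 (show (z : ↥L) ∈ Z from hz)).2.1 s s.2)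
      refine isPReducedNormal_iff.2 ⟨⟨fun z hz s => ?_⟩, ?_, fun N _ _ n _ z hz => (hcen z hz n).symm⟩
      · rw [hcen z hz s, mul_inv_cancel_right]; exact hz
      · exact subgroupOf_isElementaryAbelian (omegaOne_isElementaryAbelian (center_commute _))
    refine le_trans ?_ (le_largestPReduced
      (Cfsg.Agent.S2802.normalClosure_isPReducedNormal hL S (S : Subgroup ↥L) le_rfl _ hX))
    rw [subgroupOf_map_subtype, inf_eq_left.2 hZS]
    exact le_normalClosure
  · unfold Cfsg.pCoreOf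
    rw [← omega_center_map]
    exact map_mono (isPReducedNormal_le_center_pCore hred)

end Cfsg.Agent.S2821
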