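import Cfsg.Statements.S2822
import Cfsg.Agent.Lib.PReduced.Local

set_option autoImplicit false
open Cfsg

namespace Cfsg.Agent.S2822

open Subgroup Cfsg.Agent.PReduced
open scoped commutatorElement

/-- Let H be a finite group, p a prime, T a Sylow p-subgroup, and L, M subgroups of characteristic p containing T, with largest p-reduced normal subgroups Y_L, Y_M. If L·C_H(Y_M) = M·C_H(Y_M), then Y_M ≤ Y_L. -/
theorem result {H : Type*} [Group H] [Finite H] {p : ℕ} [Fact p.Prime] (T : Sylow p H) (L M : Subgroup H) (hTL : (T : Subgroup H) ≤ L) (hTM : (T : Subgroup H) ≤ M) (hL : Subgroup.centralizer (Cfsg.pCore p ↥L : Set ↥L) ≤ Cfsg.pCore p ↥L) (hM : Subgroup.centralizer (Cfsg.pCore p ↥M : Set ↥M) ≤ Cfsg.pCore p ↥M) : L ⊔ Subgroup.centralizer (((Cfsg.largestPReducedOf p M) : Subgroup H) : Set H) = M ⊔ Subgroup.centralizer (((Cfsg.largestPReducedOf p M) : Subgroup H) : Set H) → (Cfsg.largestPReducedOf p M) ≤ (Cfsg.largestPReducedOf p L) := by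
  intro h
  set Y := Cfsg.largestPReducedOf p M with hY
  have hMY := largestOf_normalized (p := p) M
  have hYT := largestOf_le_sylow (p := p) T hTM
  have hYel := largestOf_isElementaryAbelian (p := p) M
  have hCY : centralizer (Y : Set H) ≤ normalizer (Y : Set H) := centralizer_le_normalizer _
  have hLY : L ≤ normalizer (Y : Set H) := le_sup_left.trans (h.le.trans (sup_le hMY hCY))
  refine le_largestOf (hYT.trans hTL)
    (isPReducedNormal_transfer hLY hMY (hYT.trans hTL) (largestOf_le M) h ?_)
  rw [show Y.subgroupOf M = Cfsg.largestPReduced p ↥M from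
    comap_map_eq_self_of_injective M.subtype_injective _]
  exact largestPReduced_isPReducedNormal p

end Cfsg.Agent.S2822
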