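import Cfsg.Statements.S2823
import Cfsg.Agent.Lib.PReduced.Local
import Cfsg.Agent.Lib.WeaklyClosed.Basic
import Cfsg.Agent.S2802

set_option autoImplicit false
open Cfsg

namespace Cfsg.Agent.S2823

open Subgroup Cfsg.Agent.PReduced
open scoped commutatorElement

/-- Let H be a finite group, p a prime, T a Sylow p-subgroup and L a subgroup of characteristic p containing T; let Z_L be the subgroup generated by the Ω₁(Z(S)) over the Sylow p-subgroups S of L and O^p(L) the subgroup generated by the elements of L of order prime to p. Then Z_L = Ω₁(Z(L))·[Z_L, O^p(L)] and [Z_L, L] = [Z_L, O^p(L)]. -/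
theorem result {H : Type*} [Group H] [Finite H] {p : ℕ} [Fact p.Prime] (T : Sylow p H) (L : Subgroup H) (hTL : (T : Subgroup H) ≤ L) (hL : Subgroup.centralizer (Cfsg.pCore p ↥L : Set ↥L) ≤ Cfsg.pCore p ↥L) : Cfsg.sylowCenterClosure p L = (Cfsg.omegaOne p (L ⊓ Subgroup.centralizer ((L : Subgroup H) : Set H))) ⊔ ⁅Cfsg.sylowCenterClosure p L, (Cfsg.pResidual p ↥L).map L.subtype⁆ ∧ ⁅Cfsg.sylowCenterClosure p L, L⁆ = ⁅Cfsg.sylowCenterClosure p L, (Cfsg.pResidual p ↥L).map L.subtype⁆ := by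
  set W := Cfsg.sylowCenterClosure p L with hW
  set R := (Cfsg.pResidual p ↥L).map L.subtype with hR
  set D := ⁅W, R⁆ with hD
  set Ω := Cfsg.omegaOne p (L ⊓ centralizer (L : Set H)) with hΩ
  have hLel := largestOf_isElementaryAbelian (p := p) L
  have hWY : W ≤ Cfsg.largestPReducedOf p L := by
    refine iSup_le fun S => ?_
    rw [← omega_center_map]
    refine map_mono ?_
    set Z := Cfsg.omegaOne p ((S : Subgroup ↥L) ⊓ centralizer ((S : Subgroup ↥L) : Set ↥L)) with hZ
    have hZS : Z ≤ (S : Subgroup ↥L) := (omegaOne_le p _).trans inf_le_left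
    have hX : Cfsg.IsPReducedNormal p (Z.subgroupOf (S : Subgroup ↥L)) := by
      have hcen : ∀ z : ↥(S : Subgroup ↥L), z ∈ Z.subgroupOf (S : Subgroup ↥L) → ∀ s, s * z = z * s :=
        fun z hz s => Subtype.ext ((mem_omegaOne_center.1 (show (z : ↥L) ∈ Z from hz)).2.1 s s.2)
      refine isPReducedNormal_iff.2 ⟨⟨fun z hz s => ?_⟩, ?_, fun N _ _ n _ z hz => (hcen z hz n).symm⟩
      · rw [hcen z hz s, mul_inv_cancel_right]; exact hz
      · exact subgroupOf_isElementaryAbelian (omegaOne_isElementaryAbelian (center_commute _))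
    refine le_trans ?_ (le_largestPReduced
      (Cfsg.Agent.S2802.normalClosure_isPReducedNormal hL S (S : Subgroup ↥L) le_rfl _ hX))
    rw [subgroupOf_map_subtype, inf_eq_left.2 hZS]
    exact le_normalClosure
  have hWel : Cfsg.IsElementaryAbelian p W := isElementaryAbelian_mono hLel hWY
  have hWmem : ∀ (S : Sylow p ↥L) (z : ↥L), z ∈ (S : Subgroup ↥L) → (∀ t ∈ (S : Subgroup ↥L), t * z = z * t) →
      z ^ p = 1 → (z : H) ∈ W := by
    intro S z h1 h2 h3
    refine mem_iSup_of_mem S ?_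
    rw [← omega_center_map]
    exact mem_map_of_mem _ (mem_omegaOne_center.2 ⟨h1, h2, h3⟩)
  have hLW : L ≤ normalizer (W : Set H) := fun l hl => by
    refine Cfsg.Agent.WeaklyClosed.mem_normalizer_of_cj_le ?_
    rw [Cfsg.Agent.WeaklyClosed.cj, hW, Cfsg.sylowCenterClosure, Subgroup.map_iSup]
    refine iSup_le fun S => ?_
    rw [← omega_center_map]
    rintro _ ⟨_, ⟨z, hz, rfl⟩, rfl⟩
    obtain ⟨h1, h2, h3⟩ := mem_omegaOne_center.1 hz
    have e : ((⟨l, hl⟩ * z * (⟨l, hl⟩)⁻¹ : ↥L) : H) ∈ W := by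
      refine hWmem ((⟨l, hl⟩ : ↥L) • S) _ ?_ ?_ (by rw [conj_pow, h3, mul_one, mul_inv_cancel])
      · exact ⟨z, h1, rfl⟩
      · rintro _ ⟨t, ht, rfl⟩
        show MulAut.conj (⟨l, hl⟩ : ↥L) t * MulAut.conj (⟨l, hl⟩ : ↥L) z = MulAut.conj (⟨l, hl⟩ : ↥L) z * MulAut.conj (⟨l, hl⟩ : ↥L) t
        rw [← map_mul, ← map_mul, h2 t ht]
    exact e
  have hWL : W ≤ L := hWY.trans (largestOf_le L)
  have hRL : R ≤ L := map_subtype_le _
  have hLD : L ≤ normalizer (D : Set H) := fun l hl => by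
    refine Cfsg.Agent.WeaklyClosed.cj_eq_self_iff.1 ?_
    rw [hD, Cfsg.Agent.WeaklyClosed.cj, map_commutator]
    refine congrArg₂ _ (Cfsg.Agent.WeaklyClosed.cj_of_mem (hLW hl)) ?_
    refine Cfsg.Agent.WeaklyClosed.cj_of_mem ?_
    haveI := PReduced.pResidual_normal p ↥L
    have h2 := Subgroup.le_normalizer_map L.subtype (H := Cfsg.pResidual p ↥L)
    rw [normalizer_eq_top (Cfsg.pResidual p ↥L), ← MonoidHom.range_eq_map, range_subtype] at h2
    exact h2 hl
  have hDW : D ≤ W := commutator_le.2 fun w hw r hr => by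
    rw [commutatorElement_def, mul_assoc, mul_assoc, ← mul_assoc r]
    exact mul_mem hw ((mem_normalizer_iff.1 (hLW (hRL hr)) _).1 (inv_mem hw))
  have hgen : W = Ω ⊔ D := by
    refine le_antisymm (iSup_le fun S => ?_) (sup_le ?_ hDW)
    · rintro z hz
      obtain ⟨hzS, hzc, hzp⟩ := mem_omegaOne_center.1 hz
      have hzW : z ∈ W := mem_iSup_of_mem S hz
      have hco : (((S : Subgroup ↥L).map L.subtype).relIndex L).Coprime p := by
        have h1 : ((S : Subgroup ↥L).map L.subtype).relIndex L = (S : Subgroup ↥L).index := by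
          rw [← relIndex_top_right, ← relIndex_map_map_of_injective _ ⊤ L.subtype_injective,
            ← MonoidHom.range_eq_map, range_subtype]
        rw [h1]
        exact ((Fact.out : p.Prime).coprime_iff_not_dvd.2 S.not_dvd_index).symm
      obtain ⟨a, k, haW, haL, -, -, hk, rfl⟩ :=
        exists_trace_decomp hWel hLW (map_subtype_le _) hco hzW hzc
      refine mul_mem_sup ?_ ((closure_le _).2 ?_ hk)
      · exact mem_omegaOne ⟨hWL haW, haL⟩ (hWel.2 a haW)
      · rintro _ ⟨x, hx, rfl⟩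
        obtain ⟨r, hr, t, ht, e⟩ := exists_eq_mul_of_pResidual S (⟨x, hx⟩ : ↥L)
        have e' : x = (r : H) * (t : H) := congrArg Subtype.val e
        have h1 : x * (a * k) * x⁻¹ * (a * k)⁻¹ = ⁅(r : H), a * k⁆ := by
          rw [e', mul_assoc (r : H) (t : H),
            show (t : H) * (a * k) = a * k * t from hzc _ (mem_map_of_mem _ ht), commutatorElement_def]
          group
        rw [h1, hD, commutator_comm]
        exact commutator_mem_commutator (mem_map_of_mem L.subtype hr) hzW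
    · intro z hz
      obtain ⟨h1, h2, h3⟩ := mem_omegaOne_center.1 hz
      obtain ⟨S⟩ : Nonempty (Sylow p ↥L) := inferInstance
      refine hWmem S ⟨z, h1⟩ ?_ (fun t _ => Subtype.ext (h2 t t.2)) (Subtype.ext (by simpa using h3))
      have hzn : (zpowers (⟨z, h1⟩ : ↥L)).Normal := by
        refine ⟨fun y hy g => ?_⟩
        obtain ⟨m, rfl⟩ := mem_zpowers_iff.1 hy
        have hc : Commute g (⟨z, h1⟩ : ↥L) := Subtype.ext (h2 g g.2)
        rw [(hc.zpow_right m).eq, mul_inv_cancel_right]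
        exact zpow_mem (mem_zpowers _) m
      refine PReduced.pCore_le_sylow S (PReduced.le_pCore hzn ?_ (mem_zpowers _))
      intro y
      obtain ⟨m, hm⟩ := mem_zpowers_iff.1 y.2
      refine ⟨1, Subtype.ext ?_⟩
      rw [pow_one, SubgroupClass.coe_pow, ← hm, ← zpow_natCast, zpow_comm, zpow_natCast,
        show (⟨z, h1⟩ : ↥L) ^ p = 1 from Subtype.ext (by simpa using h3), one_zpow]
      rfl
  refine ⟨hgen, le_antisymm (commutator_le.2 fun w hw l hl => ?_) (commutator_mono le_rfl hRL)⟩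
  show ⁅w, l⁆ ∈ D
  rw [hgen] at hw
  have hΩD : Ω ≤ normalizer (D : Set H) := ((omegaOne_le p _).trans inf_le_left).trans hLD
  obtain ⟨a, ha, k, hk, rfl⟩ := mem_mul_of_le_normalizer hΩD hw
  obtain ⟨haL, hac, -⟩ := mem_omegaOne_center.1 ha
  have h1 : ⁅k, l⁆ ∈ D := by
    rw [commutatorElement_def, mul_assoc, mul_assoc, ← mul_assoc l]
    exact mul_mem hk ((mem_normalizer_iff.1 (hLD hl) _).1 (inv_mem hk))
  have h2 : a * ⁅k, l⁆ * a⁻¹ ∈ D := (mem_normalizer_iff.1 (hLD haL) _).1 h1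
  convert h2 using 1
  simp only [commutatorElement_def]
  have : l * a⁻¹ = a⁻¹ * l := (Commute.inv_right (show Commute l a from hac l hl)).eq
  calc a * k * l * (a * k)⁻¹ * l⁻¹ = a * k * l * k⁻¹ * (a⁻¹ * l⁻¹) := by group
    _ = a * k * l * k⁻¹ * (l⁻¹ * a⁻¹) := by
        rw [show a⁻¹ * l⁻¹ = l⁻¹ * a⁻¹ from ((show Commute l a from hac l hl).inv_inv).symm.eq]
    _ = a * (k * l * k⁻¹ * l⁻¹) * a⁻¹ := by group

end Cfsg.Agent.S2823
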