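import Cfsg.Statements.S2824
import Cfsg.Agent.Lib.PReduced.Local
import Cfsg.Agent.Lib.WeaklyClosed.Basic
import Cfsg.Agent.S2803

set_option autoImplicit false
open Cfsg

namespace Cfsg.Agent.S2824

open Subgroup Cfsg.Agent.PReduced
open scoped commutatorElement

/-- Let H be a finite group, p a prime, T a Sylow p-subgroup, L and M subgroups of characteristic p containing T, Y_L the largest p-reduced normal subgroup of L and T₀ = C_T(Y_L). If M·C_H(Y_L) = L·C_H(Y_L), then L* := N_M(T₀) has Y_{L*} = Y_L and L·C_H(Y_L) = L*·C_H(Y_L). -/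
theorem result {H : Type*} [Group H] [Finite H] {p : ℕ} [Fact p.Prime] (T : Sylow p H) (L M : Subgroup H) (hTL : (T : Subgroup H) ≤ L) (hTM : (T : Subgroup H) ≤ M) (hL : Subgroup.centralizer (Cfsg.pCore p ↥L : Set ↥L) ≤ Cfsg.pCore p ↥L) (hM : Subgroup.centralizer (Cfsg.pCore p ↥M : Set ↥M) ≤ Cfsg.pCore p ↥M) (T₀ : Subgroup H) (hT₀ : T₀ = (T : Subgroup H) ⊓ Subgroup.centralizer (((Cfsg.largestPReducedOf p L) : Subgroup H) : Set H)) (hfac : M ⊔ Subgroup.centralizer (((Cfsg.largestPReducedOf p L) : Subgroup H) : Set H) = L ⊔ Subgroup.centralizer (((Cfsg.largestPReducedOf p L) : Subgroup H) : Set H)) (Ls : Subgroup H) (hLs : Ls = M ⊓ Subgroup.normalizer ((T₀ : Subgroup H) : Set H)) : (Cfsg.largestPReducedOf p Ls) = (Cfsg.largestPReducedOf p L) ∧ L ⊔ Subgroup.centralizer (((Cfsg.largestPReducedOf p L) : Subgroup H) : Set H) = Ls ⊔ Subgroup.centralizer (((Cfsg.largestPReducedOf p L) : Subgroup H) : Set H) := by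
  subst hT₀ hLs
  set Y := Cfsg.largestPReducedOf p L with hY
  set C := centralizer (Y : Set H) with hC
  set T₀ := (T : Subgroup H) ⊓ C with hT₀
  set Ls := M ⊓ normalizer (T₀ : Set H) with hLs
  have hLY := largestOf_normalized (p := p) L
  have hYT := largestOf_le_sylow (p := p) T hTL
  have hMC : M ⊔ C ≤ normalizer (Y : Set H) :=
    hfac.le.trans (sup_le hLY (centralizer_le_normalizer _))
  have hMN : M ≤ normalizer (Y : Set H) := le_sup_left.trans hMC
  have hMC' : M ≤ normalizer (C : Set H) := le_normalizer_centralizer hMN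
  have hTC : (T : Subgroup H) ≤ normalizer (C : Set H) := hTM.trans hMC'
  have hTLs : (T : Subgroup H) ≤ Ls :=
    le_inf hTM ((le_inf le_normalizer hTC).trans inf_normalizer_le_normalizer_inf)
  have hT₀Ls : T₀ ≤ Ls := inf_le_left.trans hTLs
  have hfr : ∀ m ∈ M, m ∈ Ls ⊔ C := by
    intro m hm
    have hn : ((M ⊓ C).subgroupOf M).Normal := (normal_subgroupOf_iff_le_normalizer inf_le_left).2
      ((le_inf le_normalizer hMC').trans inf_normalizer_le_normalizer_inf)
    obtain ⟨a, ha, c, hc, e⟩ := frattini_sylow_inf_mul (T.subtype hTM) ((M ⊓ C).subgroupOf M) ⟨m, hm⟩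
    rw [show m = (a : H) * (c : H) from congrArg Subtype.val e]
    refine mul_mem_sup (mem_inf.2 ⟨a.2, ?_⟩) (mem_inf.1 (mem_subgroupOf.1 hc)).2
    refine Cfsg.Agent.WeaklyClosed.mem_normalizer_of_cj_le ?_
    rintro _ ⟨x, hx, rfl⟩
    obtain ⟨hxT, hxC⟩ := mem_inf.1 hx
    have h1 := (mem_normalizer_iff.1 ha ⟨x, hTM hxT⟩).1
      (mem_inf.2 ⟨hxT, mem_subgroupOf.2 (mem_inf.2 ⟨hTM hxT, hxC⟩)⟩)
    exact mem_inf.2 ⟨(mem_inf.1 h1).1, (mem_inf.1 (mem_subgroupOf.1 (mem_inf.1 h1).2)).2⟩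
  have hfac' : L ⊔ C = Ls ⊔ C := by
    rw [← hfac]
    exact le_antisymm (sup_le hfr le_sup_right) (sup_le_sup_right inf_le_left _)
  refine ⟨le_antisymm ?_ ?_, hfac'⟩
  · set Y' := Cfsg.largestPReducedOf p Ls with hY'
    have hY'el := largestOf_isElementaryAbelian (p := p) Ls
    have hY'T := largestOf_le_sylow (p := p) T hTLs
    have hT₀n : (T₀.subgroupOf Ls).Normal :=
      (normal_subgroupOf_iff_le_normalizer hT₀Ls).2 inf_le_right
    have hcent : ∀ t ∈ T₀, ∀ y ∈ Y', y * t = t * y := by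
      rintro t ht _ ⟨y, hy, rfl⟩
      exact congrArg Subtype.val (isPReducedNormal_centralizes (largestPReduced_isPReducedNormal (G := ↥Ls) p)
        hT₀n (IsPGroup.comap_subtype (T.2.to_le inf_le_left))
        (show (⟨t, hT₀Ls ht⟩ : ↥Ls) ∈ T₀.subgroupOf Ls from ht) y hy)
    have hYL : (T.subtype hTL : Subgroup ↥L) ⊓ centralizer (Cfsg.largestPReduced p ↥L : Set ↥L) =
        T₀.subgroupOf L := by
      ext x
      rw [Sylow.coe_subtype, mem_inf, mem_subgroupOf, mem_subgroupOf, hT₀, mem_inf]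
      refine and_congr_right fun _ => ⟨?_, fun h y hy => Subtype.ext (h _ (mem_map_of_mem _ hy))⟩
      rintro h _ ⟨y, hy, rfl⟩
      exact congrArg Subtype.val (h y hy)
    obtain ⟨-, -, hY3⟩ := Cfsg.Agent.S2803.result hL (T.subtype hTL) (Cfsg.largestPReduced p ↥L)
      ⟨largestPReduced_isPReducedNormal p, fun V hV => le_largestPReduced hV⟩ _ hYL.symm
    intro y hy
    have hyT : y ∈ (T : Subgroup H) := hY'T hy
    have hQ : (Cfsg.pCore p ↥L).map L.subtype ≤ T₀ := by
      refine le_inf ?_ ?_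
      · rintro _ ⟨x, hx, rfl⟩
        have h1 := PReduced.pCore_le_sylow (T.subtype hTL) hx
        rw [Sylow.coe_subtype] at h1
        exact h1
      · rintro _ ⟨x, hx, rfl⟩ _ ⟨w, hw, rfl⟩
        exact congrArg Subtype.val (isPReducedNormal_centralizes (largestPReduced_isPReducedNormal (G := ↥L) p)
          (PReduced.pCore_normal p _) (PReduced.isPGroup_pCore p) hx w hw)
    have hyQ : (⟨y, hTL hyT⟩ : ↥L) ∈ Cfsg.pCore p ↥L := hL fun q hq =>
      Subtype.ext (hcent _ (hQ (mem_map_of_mem _ hq)) y hy).symm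
    have hyT₀ : y ∈ T₀ := hQ ⟨_, hyQ, rfl⟩
    refine ⟨⟨y, hTL hyT⟩, ?_, rfl⟩
    rw [hY3]
    exact mem_omegaOne_center.2 ⟨mem_subgroupOf.2 hyT₀, fun t ht =>
      Subtype.ext (hcent _ (mem_subgroupOf.1 ht) y hy).symm,
      Subtype.ext (by simpa using hY'el.2 y hy)⟩
  · refine le_largestOf (hYT.trans hTLs) (isPReducedNormal_transfer (inf_le_left.trans hMN) hLY
      (hYT.trans hTLs) (largestOf_le L) hfac'.symm ?_)
    rw [show Y.subgroupOf L = Cfsg.largestPReduced p ↥L from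
      comap_map_eq_self_of_injective L.subtype_injective _]
    exact largestPReduced_isPReducedNormal p

end Cfsg.Agent.S2824
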