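import Cfsg.Statements.S2825
import Cfsg.Agent.Lib.PReduced.Local
import Cfsg.Agent.Lib.WeaklyClosed.Basic
import Cfsg.Agent.S2804

set_option autoImplicit false
open Cfsg

namespace Cfsg.Agent.S2825

open Subgroup Cfsg.Agent.PReduced
open scoped commutatorElement

/-- Normal case: `C_A(Y_G) ≤ C(Y_A)`. -/
theorem centralizes_normal {G : Type*} [Group G] [Finite G] {p : ℕ} [Fact p.Prime] (A : Subgroup G)
    [hAn : A.Normal] {x : G} (hxA : x ∈ A) (hx : x ∈ centralizer (Cfsg.largestPReduced p G : Set G)) :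
    x ∈ centralizer (Cfsg.largestPReducedOf p A : Set G) := by
  set YA := Cfsg.largestPReducedOf p A with hYA
  set W := normalClosure (YA : Set G) with hW
  obtain ⟨-, -, hAred⟩ := isPReducedNormal_iff.1 (largestPReduced_isPReducedNormal (G := ↥A) p)
  have hWel : Cfsg.IsElementaryAbelian p W := by
    haveI := pCore_map_subtype_normal hAn p
    haveI := omegaOne_normal (A := (Cfsg.pCore p ↥A).map A.subtype ⊓
      centralizer (((Cfsg.pCore p ↥A).map A.subtype : Subgroup G) : Set G)) inferInstance p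
    refine isElementaryAbelian_mono (omegaOne_isElementaryAbelian
      (center_commute ((Cfsg.pCore p ↥A).map A.subtype))) (normalClosure_le_normal ?_)
    rw [← omega_center_map]
    exact map_mono (isPReducedNormal_le_center_pCore (largestPReduced_isPReducedNormal (G := ↥A) p))
  have hred : ∀ K : Subgroup G, K.Normal → K ≤ A → pMod p (centralizer (YA : Set G)) K →
      K ≤ centralizer (W : Set G) := by
    intro K hK hKA hmod
    have h1 : K ≤ centralizer (YA : Set G) := by
      rintro k hk _ ⟨w, hw, rfl⟩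
      have h2 := hAred (K.subgroupOf A) inferInstance (fun z hz => by
        obtain ⟨n, hn⟩ := hmod z hz
        exact ⟨n, fun u hu => Subtype.ext (hn _ (mem_map_of_mem _ hu))⟩)
        (show (⟨k, hKA hk⟩ : ↥A) ∈ K.subgroupOf A from hk) w hw
      exact congrArg Subtype.val h2
    exact (le_centralizer_iff).1 (normalClosure_le_normal ((le_centralizer_iff).1 h1))
  obtain ⟨V, ⟨hVn, hVW, hVc⟩, hmin⟩ : ∃ V : Subgroup G,
      (V.Normal ∧ V ≤ W ∧ A ⊓ centralizer (V : Set G) ≤ centralizer (W : Set G)) ∧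
      ∀ V' : Subgroup G, V'.Normal ∧ V' ≤ W ∧ A ⊓ centralizer (V' : Set G) ≤ centralizer (W : Set G) →
        V' ≤ V → V ≤ V' := by
    obtain ⟨V, hV, hmin⟩ := Set.Finite.exists_minimal (s := {V : Subgroup G | V.Normal ∧ V ≤ W ∧
      A ⊓ centralizer (V : Set G) ≤ centralizer (W : Set G)}) (Set.toFinite _)
      ⟨W, normalClosure_normal, le_rfl, inf_le_right⟩
    exact ⟨V, hV, fun V' hV' hle => hmin hV' hle⟩
  have hVel := isElementaryAbelian_mono hWel hVW
  have hCW : centralizer (W : Set G) ≤ centralizer (YA : Set G) := centralizer_le subset_normalClosure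
  have hVred : Cfsg.IsPReducedNormal p V := by
    refine isPReducedNormal_iff.2 ⟨hVn, hVel, fun N hN hmod => ?_⟩
    set C := centralizer (V : Set G) with hC
    set K := N ⊔ C with hK
    have hmodK : pMod p C K := pMod_sup hmod
    have hAK : A ⊓ K ≤ C := by
      refine (hred (A ⊓ K) inferInstance inf_le_left (fun z hz => ?_)).trans
        (centralizer_le (SetLike.coe_subset_coe.2 hVW))
      obtain ⟨n, hn⟩ := hmodK z (mem_inf.1 hz).2
      exact ⟨n, hCW (hVc (mem_inf.2 ⟨pow_mem (mem_inf.1 hz).1 _, hn⟩))⟩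
    obtain ⟨T⟩ : Nonempty (Sylow p G) := inferInstance
    have hKeq := eq_sup_sylow_inf_of_pMod T (le_sup_right : C ≤ K) hmodK
    set V' := V ⊓ centralizer (K : Set G) with hV'
    have hV'c : A ⊓ centralizer (V' : Set G) ≤ centralizer (W : Set G) := by
      refine hred _ inferInstance inf_le_left fun z hz => ?_
      refine ⟨(orderOf z).factorization p, ?_⟩
      set y := z ^ p ^ (orderOf z).factorization p with hy
      have hco : (orderOf y).Coprime p := by
        rw [hy, orderOf_pow_of_dvd (pow_ne_zero _ (Fact.out : p.Prime).ne_zero) (Nat.ordProj_dvd _ _)]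
        exact (Nat.coprime_ordCompl (Fact.out : p.Prime) (orderOf_pos z).ne').symm
      obtain ⟨hyA, hyV'⟩ : y ∈ A ∧ y ∈ centralizer (V' : Set G) :=
        ⟨pow_mem (mem_inf.1 hz).1 _, pow_mem (mem_inf.1 hz).2 _⟩
      refine hCW (hVc (mem_inf.2 ⟨hyA, fun v hv => ?_⟩))
      set X := zpowers y ⊔ C with hX
      have hyX : y ∈ X := mem_sup_left (mem_zpowers y)
      refine (centralizes_of_fixed (X := X) (S := C) (T := (T : Subgroup G) ⊓ K) hVel
        le_normalizer_of_normal le_sup_right ?_ (T.2.to_le inf_le_left) le_normalizer_of_normal ?_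
        le_normalizer_of_normal ?_ v hv (fun s hs => (hs v hv).symm) y hyX).symm
      · rw [hX, relIndex_sup_right]
        exact Nat.Coprime.coprime_dvd_left (relIndex_dvd_card _ _) (by rwa [Nat.card_zpowers])
      · intro t ht
        refine Cfsg.Agent.WeaklyClosed.mem_normalizer_of_cj_le ?_
        rw [Cfsg.Agent.WeaklyClosed.cj, hX, Subgroup.map_sup]
        refine sup_le ?_ (le_sup_of_le_right ?_)
        · rw [MonoidHom.map_zpowers, zpowers_le]
          show t * y * t⁻¹ ∈ X
          have htK : t ∈ K := (mem_inf.1 ht).2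
          have h1 : t * y * t⁻¹ * y⁻¹ ∈ A ⊓ K := by
            refine mem_inf.2 ⟨mul_mem (hAn.conj_mem y hyA t) (inv_mem hyA), ?_⟩
            rw [mul_assoc, mul_assoc, ← mul_assoc y]
            exact mul_mem htK ((inferInstance : K.Normal).conj_mem _ (inv_mem htK) y)
          have e : t * y * t⁻¹ = (t * y * t⁻¹ * y⁻¹) * y := by group
          rw [e]
          exact mul_mem (mem_sup_right (hAK h1)) hyX
        · rintro _ ⟨c, hc, rfl⟩
          exact (inferInstance : C.Normal).conj_mem c hc t
      · intro w hw hwS hwT s hs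
        have hwK : w ∈ centralizer (K : Set G) := by
          have h1 : K ≤ centralizer {w} := hKeq.le.trans (sup_le
            (fun c hc => mem_centralizer_singleton_iff.2 (hwS c hc))
            (fun t ht => mem_centralizer_singleton_iff.2 (hwT t ht)))
          exact fun k hk => mem_centralizer_singleton_iff.1 (h1 hk)
        have h2 : X ≤ centralizer {w} := sup_le
          (zpowers_le.2 (mem_centralizer_singleton_iff.2 (hyV' w (mem_inf.2 ⟨hw, hwK⟩)).symm))
          (fun c hc => mem_centralizer_singleton_iff.2 (hwS c hc))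
        exact mem_centralizer_singleton_iff.1 (h2 hs)
    have := hmin V' ⟨inferInstance, inf_le_left.trans hVW, hV'c⟩ inf_le_left
    exact le_sup_left.trans ((le_centralizer_iff).1 (this.trans inf_le_right))
  exact hCW (hVc (mem_inf.2 ⟨hxA, centralizer_le (SetLike.coe_subset_coe.2 (le_largestPReduced hVred)) hx⟩))

/-- The subnormal case. -/
theorem centralizes_subnormal {G : Type*} [Group G] [Finite G] {p : ℕ} [Fact p.Prime] {A : Subgroup G}
    (hA : A.IsSubnormal) : ∀ x ∈ A, x ∈ centralizer (Cfsg.largestPReduced p G : Set G) →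
      x ∈ centralizer (Cfsg.largestPReducedOf p A : Set G) := by
  induction hA with
  | top =>
    intro x hx hxc
    exact centralizes_normal ⊤ hx hxc
  | step A B hle _ hN ih =>
    intro x hx hxc
    haveI := hN
    have h1 := ih x (hle hx) hxc
    have h2 : (⟨x, hle hx⟩ : ↥B) ∈ centralizer (Cfsg.largestPReduced p ↥B : Set ↥B) := fun y hy =>
      Subtype.ext (h1 _ (mem_map_of_mem _ hy))
    have h3 := centralizes_normal (A.subgroupOf B) (x := ⟨x, hle hx⟩) hx h2
    let e : ↥(A.subgroupOf B) ≃* ↥A := subgroupOfEquivOfLe hle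
    rintro _ ⟨y, hy, rfl⟩
    have hy' : e.symm y ∈ Cfsg.largestPReduced p ↥(A.subgroupOf B) := by
      have hred := isPReducedNormal_iff.1 (largestPReduced_isPReducedNormal (G := ↥A) p)
      refine le_largestPReduced (V := (Cfsg.largestPReduced p ↥A).map e.symm.toMonoidHom)
        (isPReducedNormal_iff.2 ⟨hred.1.map _ e.symm.surjective,
          ⟨isMulCommutative_of_forall ?_, ?_⟩, ?_⟩) (mem_map_of_mem _ hy)
      · rintro _ ⟨a, ha, rfl⟩ _ ⟨b, hb, rfl⟩
        rw [← map_mul, commute_of_isMulCommutative hred.2.1.1 ha hb, map_mul]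
      · rintro _ ⟨a, ha, rfl⟩
        rw [← map_pow, hred.2.1.2 a ha, map_one]
      · intro N hN' hmod
        have := hred.2.2 (N.map e.toMonoidHom) (hN'.map _ e.surjective) (by
          rintro _ ⟨z, hz, rfl⟩
          obtain ⟨n, hn⟩ := hmod z hz
          refine ⟨n, fun u hu => ?_⟩
          have := congrArg e (hn _ (mem_map_of_mem e.symm.toMonoidHom hu))
          simpa using this)
        rintro z hz _ ⟨u, hu, rfl⟩
        have h4 := congrArg e.symm (this (mem_map_of_mem _ hz) u hu)
        simpa using h4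
    exact congrArg Subtype.val (h3 _ (mem_map_of_mem (A.subgroupOf B).subtype hy'))

/-- Let L be a subnormal subgroup of the finite group H, p a prime, Y_H and Y_L the largest p-reduced normal subgroups. Then Y_H ∩ L = Y_H ∩ Y_L and this subgroup is a p-reduced normal subgroup of L; C_L(Y_L) = C_L(Y_H) = C_L(Y_H ∩ L); and if O^p(H) ≤ L, then [Y_L, L] = 1 if and only if [Y_H, H] = 1. -/
theorem result {H : Type*} [Group H] [Finite H] {p : ℕ} [Fact p.Prime] (L : Subgroup H) (hL : L.IsSubnormal) : Cfsg.largestPReduced p H ⊓ L = Cfsg.largestPReduced p H ⊓ (Cfsg.largestPReducedOf p L) ∧ Cfsg.IsPReducedNormal p ((Cfsg.largestPReduced p H ⊓ L).subgroupOf L) ∧ L ⊓ Subgroup.centralizer ((Cfsg.largestPReducedOf p L : Subgroup H) : Set H) = L ⊓ Subgroup.centralizer (Cfsg.largestPReduced p H : Set H) ∧ L ⊓ Subgroup.centralizer (Cfsg.largestPReduced p H : Set H) = L ⊓ Subgroup.centralizer ((Cfsg.largestPReduced p H ⊓ L : Subgroup H) : Set H) ∧ (Cfsg.pResidual p H ≤ L → (⁅(Cfsg.largestPReducedOf p L), L⁆ = ⊥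 ↔ ⁅Cfsg.largestPReduced p H, (⊤ : Subgroup H)⁆ = ⊥)) := by
  set Y := Cfsg.largestPReduced p H with hY
  set YL := Cfsg.largestPReducedOf p L with hYL
  obtain ⟨hYn, hYel, hYq⟩ := isPReducedNormal_iff.1 (largestPReduced_isPReducedNormal (G := H) p)
  have hCn : (centralizer (Y : Set H)).Normal := normal_centralizer
  have hYq' : Cfsg.pCore p (H ⧸ centralizer (Y : Set H)) = ⊥ := (pCore_quotient_eq_bot_iff _).2 hYq
  have hkey : pMod p (centralizer (Y : Set H)) (L ⊓ centralizer ((Y ⊓ L : Subgroup H) : Set H)) := by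
    intro z hz
    refine ⟨(orderOf z).factorization p, fun v hv => ?_⟩
    set y := z ^ p ^ (orderOf z).factorization p with hy
    have hco : (orderOf y).Coprime p := by
      rw [hy, orderOf_pow_of_dvd (pow_ne_zero _ (Fact.out : p.Prime).ne_zero) (Nat.ordProj_dvd _ _)]
      exact (Nat.coprime_ordCompl (Fact.out : p.Prime) (orderOf_pos z).ne').symm
    obtain ⟨hyL, hyC⟩ : y ∈ L ∧ y ∈ centralizer ((Y ⊓ L : Subgroup H) : Set H) :=
      ⟨pow_mem (mem_inf.1 hz).1 _, pow_mem (mem_inf.1 hz).2 _⟩
    obtain ⟨a, k, -, hya, hkY, hk, rfl⟩ := exists_coprime_decomp hYel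
      (show y ∈ normalizer (Y : Set H) from le_normalizer_of_normal (mem_top y)) hco hv
    have hkL : k ∈ L := by
      refine (closure_le _).2 ?_ hk
      rintro _ ⟨u, hu, rfl⟩
      exact Cfsg.Agent.S2804.mem_of_coprime hYel hL u (zpowers_le.2 hyL hu)
        (Nat.Coprime.coprime_dvd_left (orderOf_dvd_of_mem_zpowers hu) hco) _ hv
    exact ((show Commute a y from hya.symm).mul_left
      (show Commute k y from hyC k (mem_inf.2 ⟨hkY, hkL⟩))).eq
  have h2 : Cfsg.IsPReducedNormal p ((Y ⊓ L).subgroupOf L) := by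
    refine isPReducedNormal_iff.2 ⟨by rw [inf_subgroupOf_right]; infer_instance,
      subgroupOf_isElementaryAbelian (isElementaryAbelian_mono hYel inf_le_left), fun N hN hmod => ?_⟩
    have hmod' : pMod p (L ⊓ centralizer ((Y ⊓ L : Subgroup H) : Set H)) (N.map L.subtype) := by
      rintro _ ⟨z, hz, rfl⟩
      obtain ⟨n, hn⟩ := hmod z hz
      exact ⟨n, mem_inf.2 ⟨pow_mem z.2 _, fun u hu =>
        congrArg Subtype.val (hn (⟨u, (mem_inf.1 hu).2⟩ : ↥L) hu)⟩⟩
    have h4 := subnormal_le_of_pCore_quotient_eq_bot hYq' (hN.isSubnormal.trans' hL) (hmod'.trans hkey)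
    intro z hz u hu
    exact Subtype.ext (h4 (mem_map_of_mem _ hz) _ (mem_inf.1 hu).1)
  have hYLle : Y ⊓ L ≤ YL := le_largestOf inf_le_right h2
  have h4 : L ⊓ centralizer (Y : Set H) = L ⊓ centralizer ((Y ⊓ L : Subgroup H) : Set H) := by
    refine le_antisymm (inf_le_inf_left _ (centralizer_le (SetLike.coe_subset_coe.2 inf_le_left)))
      (le_inf inf_le_left ?_)
    refine subnormal_le_of_pCore_quotient_eq_bot hYq' (IsSubnormal.trans inf_le_left
      (Normal.isSubnormal ((normal_subgroupOf_iff_le_normalizer inf_le_left).2 ?_)) hL) hkey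
    refine (le_inf le_normalizer (le_normalizer_centralizer ?_)).trans inf_normalizer_le_normalizer_inf
    exact (le_inf (le_normalizer_of_normal (H := Y)) le_normalizer).trans inf_normalizer_le_normalizer_inf
  have h3 : L ⊓ centralizer (YL : Set H) = L ⊓ centralizer (Y : Set H) :=
    le_antisymm (h4 ▸ inf_le_inf_left _ (centralizer_le (SetLike.coe_subset_coe.2 hYLle)))
      (le_inf inf_le_left fun x hx => centralizes_subnormal hL x (mem_inf.1 hx).1 (mem_inf.1 hx).2)
  refine ⟨le_antisymm (le_inf inf_le_left hYLle) (inf_le_inf_left _ (largestOf_le L)), h2, h3, h4,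
    fun hR => ⟨fun h => ?_, fun h => ?_⟩⟩
  · rw [commutator_eq_bot_iff_le_centralizer] at h ⊢
    have hLY : L ≤ centralizer (Y : Set H) :=
      (le_inf le_rfl ((le_centralizer_iff).1 h)).trans (h3.le.trans inf_le_right)
    have := hYq ⊤ inferInstance ((pMod_pResidual ⊤).mono (hR.trans hLY) le_rfl)
    exact (le_centralizer_iff).1 this
  · rw [commutator_eq_bot_iff_le_centralizer] at h ⊢
    have hLY : L ≤ centralizer (Y : Set H) := le_top.trans ((le_centralizer_iff).1 h)
    exact (le_centralizer_iff).1 ((le_inf le_rfl hLY).trans (h3.ge.trans inf_le_right))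

end Cfsg.Agent.S2825
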