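import Cfsg.Statements.S2826
import Cfsg.Agent.Lib.PReduced.Tools

set_option autoImplicit false
open Cfsg

namespace Cfsg.Agent.S2826

open Subgroup Cfsg.Agent.PReduced
open scoped commutatorElement

/-- Let H be a finite group of characteristic p, T a Sylow p-subgroup, and V a normal elementary abelian p-subgroup of H containing Ω₁(Z(T)). Then C_H(Ω₁(Z(T))) = C_H([V, O^p(H)] ∩ Ω₁(Z(T))), O^p(H) being generated by the elements of order prime to p. -/
theorem result {H : Type*} [Group H] [Finite H] {p : ℕ} [Fact p.Prime] (hH : Subgroup.centralizer (Cfsg.pCore p H : Set H) ≤ Cfsg.pCore p H) (T : Sylow p H) (V : Subgroup H) [V.Normal] (hV : Cfsg.IsElementaryAbelian p V) (hZV : (Cfsg.omegaOne p ((T : Subgroup H) ⊓ Subgroup.centralizer (((T : Subgroup H) : Subgroup H) : Set H))) ≤ V) : Subgroup.centralizer ((Cfsg.omegaOne p ((T : Subgroup H) ⊓ Subgroup.centralizer (((T : Subgroup H) : Subgroup H) : Set H))) : Set H) = Subgroup.centralizer (((⁅V, Cfsg.pResidual p H⁆ ⊓ (Cfsg.omegaOne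 p ((T : Subgroup H) ⊓ Subgroup.centralizer (((T : Subgroup H) : Subgroup H) : Set H)))) : Subgroup H) : Set H) := by
  set Q := Cfsg.pCore p H with hQ
  set Z := Cfsg.omegaOne p ((T : Subgroup H) ⊓ centralizer ((T : Subgroup H) : Set H)) with hZ
  set U := ⁅V, Cfsg.pResidual p H⁆ with hU
  refine le_antisymm (centralizer_le (SetLike.coe_subset_coe.2 inf_le_right)) ?_
  set X := centralizer ((U ⊓ Z : Subgroup H) : Set H) with hX
  have hTX : (T : Subgroup H) ≤ X := fun t ht u hu =>
    ((mem_omegaOne_center.1 (mem_inf.1 hu).2).2.1 t ht).symm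
  have hco : ((T : Subgroup H).relIndex X).Coprime p :=
    Nat.Coprime.coprime_dvd_left (relIndex_dvd_index_of_le hTX)
      ((Fact.out : p.Prime).coprime_iff_not_dvd.2 T.not_dvd_index).symm
  intro x hx
  refine fun z hz => ?_
  obtain ⟨hzT, hzc, hzp⟩ := mem_omegaOne_center.1 hz
  obtain ⟨a, k, -, haX, hkV, hkT, hk, rfl⟩ := exists_trace_decomp hV
    (le_normalizer_of_normal) hTX hco (hZV hz) hzc
  have hkU : k ∈ U := by
    refine (closure_le _).2 ?_ hk
    rintro _ ⟨y, -, rfl⟩
    obtain ⟨r, hr, t, ht, rfl⟩ := exists_eq_mul_of_pResidual T y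
    have h1 : r * t * (a * k) * (r * t)⁻¹ * (a * k)⁻¹ = ⁅r, a * k⁆ := by
      rw [mul_assoc r t, hzc t ht, commutatorElement_def]; group
    rw [h1, hU, commutator_comm]
    exact commutator_mem_commutator hr (hZV hz)
  have hVT : V ≤ (T : Subgroup H) :=
    (le_pCore ‹V.Normal› (isPGroup_of_isElementaryAbelian hV)).trans (pCore_le_sylow T)
  have hkZ : k ∈ Z := mem_omegaOne ⟨hVT hkV, fun t ht => hkT t ht⟩ (hV.2 k hkV)
  exact ((show Commute a x from (haX x hx).symm).mul_left
    (show Commute k x from hx k (mem_inf.2 ⟨hkU, hkZ⟩))).eq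

end Cfsg.Agent.S2826
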