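import Cfsg.Statements.S2827
import Cfsg.Agent.Lib.PIrred.Basic

set_option autoImplicit false
open Cfsg

namespace Cfsg.Agent.S2827

open Subgroup Cfsg.Agent.PReduced
open scoped commutatorElement

/-- Let H be a finite p-irreducible group (not p-closed, and O^p(H) lies in every normal subgroup that is not p-closed) and T a Sylow p-subgroup. Then H is generated by the conjugates of T and H = H'·T; O^p(H) ≤ H'; and for every normal subgroup Y of T not contained in O_p(H), O^p(H) = [O^p(H), Y] and O^p(H) is contained in the normal closure of Y in H. -/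
theorem result {H : Type*} [Group H] [Finite H] {p : ℕ} [Fact p.Prime] (hH : Cfsg.IsPIrreducible p H) (T : Sylow p H) : Subgroup.normalClosure ((T : Subgroup H) : Set H) = ⊤ ∧ commutator H ⊔ (T : Subgroup H) = ⊤ ∧ Cfsg.pResidual p H ≤ commutator H ∧ ∀ Y : Subgroup H, Y ≤ (T : Subgroup H) → (T : Subgroup H) ≤ Subgroup.normalizer (Y : Set H) → ¬ Y ≤ Cfsg.pCore p H → ⁅Cfsg.pResidual p H, Y⁆ = Cfsg.pResidual p H ∧ Cfsg.pResidual p H ≤ Subgroup.normalClosure (Y : Set H) := by
  obtain ⟨hnc, hir⟩ := hH
  set R := Cfsg.pResidual p H with hR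
  haveI hRn : R.Normal := PReduced.pResidual_normal p H
  have hnot : ∀ N : Subgroup H, N.Normal → (T : Subgroup H) ≤ N → ¬ Cfsg.IsPClosed p ↥N := by
    intro N hN hTN hc
    refine hnc ((PIrred.isPClosed_iff T).2 ?_)
    exact PIrred.isPGroup_le_pCore_of_isPClosed hc T.2 hTN
  have hRT : R ⊔ (T : Subgroup H) = ⊤ := pResidual_sup_sylow T
  have htop : ∀ N : Subgroup H, N.Normal → (T : Subgroup H) ≤ N → N = ⊤ := fun N hN hTN =>
    top_le_iff.1 (hRT ▸ sup_le (hir N hN (hnot N hN hTN)) hTN)
  have hH'T : commutator H ⊔ (T : Subgroup H) = ⊤ :=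
    htop _ (Normal.of_commutator_le H le_sup_left) le_sup_right
  refine ⟨htop _ normalClosure_normal (le_normalClosure), hH'T,
    Transfer.pResidual_le (PIrred.isPGroup_quotient_of_sup T.2 (by rw [sup_comm]; exact hH'T)), ?_⟩
  intro Y hYT hTY hY
  set N := normalClosure (Y : Set H) with hN
  have hRN : R ≤ N := hir N normalClosure_normal fun hc =>
    hY (PIrred.isPGroup_le_pCore_of_isPClosed hc (T.2.to_le hYT) le_normalClosure)
  refine ⟨?_, hRN⟩
  set D := ⁅R, Y⁆ with hD
  have hDn : D.Normal := by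
    refine normalizer_eq_top_iff.1 (top_le_iff.1 (hRT ▸ sup_le
      (Cores.commutator_normalizer_left R Y) ?_))
    intro t ht
    rw [← Cores.conj_smul_eq_self_iff, Subgroup.pointwise_smul_def]
    show D.map (MulAut.conj t).toMonoidHom = D
    have e1 : R.map (MulAut.conj t).toMonoidHom = R :=
      (Cores.conj_smul_eq_self_iff (H := R)).2 (le_normalizer_of_normal (mem_top t))
    have e2 : Y.map (MulAut.conj t).toMonoidHom = Y := (Cores.conj_smul_eq_self_iff (H := Y)).2 (hTY ht)
    rw [hD, map_commutator, e1, e2]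
  refine le_antisymm (commutator_le_left R Y) ?_
  set π := QuotientGroup.mk' D with hπ
  have hY'n : (Y.map π).Normal := by
    refine normalizer_eq_top_iff.1 (top_le_iff.1 ?_)
    rw [← map_top_of_surjective π (QuotientGroup.mk'_surjective D), ← hRT, Subgroup.map_sup]
    refine sup_le ?_ ((map_mono hTY).trans (le_normalizer_map π))
    refine le_trans ?_ (centralizer_le_normalizer _)
    rw [← commutator_eq_bot_iff_le_centralizer, ← map_commutator, ← hD, Subgroup.map_eq_bot_iff,
      hπ, QuotientGroup.ker_mk']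
  have hNle : N ≤ (Y.map π).comap π := normalClosure_le_normal fun y hy => mem_map_of_mem π hy
  have hmod : pMod p D R := by
    intro r hr
    obtain ⟨y, hy, he⟩ := hNle (hRN hr)
    obtain ⟨k, hk⟩ := T.2 ⟨y, hYT hy⟩
    refine ⟨k, ?_⟩
    have hk' : y ^ p ^ k = 1 := by simpa [Subtype.ext_iff] using hk
    have h2 : π (r ^ p ^ k) = 1 := by rw [map_pow, ← he, ← map_pow, hk', map_one]
    exact (QuotientGroup.eq_one_iff _).1 h2
  rw [hR, Cfsg.pResidual, closure_le]
  exact fun x hx => PIrred.mem_of_pMod hmod (PIrred.mem_pResidual hx) hx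

end Cfsg.Agent.S2827
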