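import Cfsg.Statements.S2828
import Cfsg.Agent.Lib.PIrred.Basic

set_option autoImplicit false
open Cfsg

namespace Cfsg.Agent.S2828

open Subgroup Cfsg.Agent.PReduced
open scoped commutatorElement

/-- Let H be a finite group, p a prime and D a normal p-subgroup of H. Then H is p-irreducible if and only if H/D is p-irreducible, and H is strongly p-irreducible if and only if H/D is strongly p-irreducible. -/
theorem result {H : Type*} [Group H] [Finite H] {p : ℕ} [Fact p.Prime] (D : Subgroup H) [D.Normal] (hD : IsPGroup p ↥D) : (Cfsg.IsPIrreducible p H ↔ Cfsg.IsPIrreducible p (H ⧸ D)) ∧ (Cfsg.IsStronglyPIrreducible p H ↔ Cfsg.IsStronglyPIrreducible p (H ⧸ D)) := by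
  set π := QuotientGroup.mk' D with hπ
  have hπs : Function.Surjective π := QuotientGroup.mk'_surjective D
  have hker : IsPGroup p π.ker := by rw [QuotientGroup.ker_mk']; exact hD
  have hclosed : Cfsg.IsPClosed p H ↔ Cfsg.IsPClosed p (H ⧸ D) :=
    PIrred.isPClosed_iff_of_surjective π hπs hker
  have hR : (Cfsg.pResidual p H).map π = Cfsg.pResidual p (H ⧸ D) := PIrred.map_pResidual π hπs
  have hclosedN : ∀ N : Subgroup H, N.Normal → (Cfsg.IsPClosed p ↥N ↔ Cfsg.IsPClosed p ↥(N.map π)) := by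
    intro N _
    refine PIrred.isPClosed_iff_of_surjective (π.subgroupMap N) (π.subgroupMap_surjective N) ?_
    intro x
    obtain ⟨k, hk⟩ := hker ⟨(x : ↥N), by
      have := congrArg Subtype.val x.2
      exact this⟩
    exact ⟨k, Subtype.ext (Subtype.ext (by simpa [Subtype.ext_iff] using hk))⟩
  have hiff : ∀ N : Subgroup H, N.Normal →
      (Cfsg.pResidual p H ≤ N ↔ Cfsg.pResidual p (H ⧸ D) ≤ N.map π) := by
    intro N hN
    refine ⟨fun h => hR ▸ map_mono h, fun h => ?_⟩
    rw [← hR, map_le_iff_le_comap, comap_map_eq] at h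
    rw [Cfsg.pResidual, closure_le]
    intro x hx
    refine PIrred.mem_of_pMod (pMod_sup (C := N) (N := π.ker) (pMod_of_isPGroup hker)) ?_ hx
    rw [sup_comm]
    exact h (PIrred.mem_pResidual hx)
  have hcomm : ∀ N : Subgroup H, N.Normal →
      (⁅N, (⊤ : Subgroup H)⁆ ≤ Cfsg.pCore p H ↔
        ⁅N.map π, (⊤ : Subgroup (H ⧸ D))⁆ ≤ Cfsg.pCore p (H ⧸ D)) := by
    intro N _
    rw [← map_top_of_surjective π hπs, ← map_commutator]
    refine ⟨fun h => (map_mono h).trans (Cores.map_pCore_le π hπs p), fun h => ?_⟩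
    exact (map_le_iff_le_comap.1 h).trans (Cores.comap_pCore_le π hker)
  have hcm : ∀ M : Subgroup (H ⧸ D), (M.comap π).map π = M :=
    map_comap_eq_self_of_surjective hπs
  constructor
  · refine and_congr (not_congr hclosed) ⟨fun h M hM hMc => ?_, fun h N hN hNc => ?_⟩
    · rw [← hcm M, ← hiff _ (hM.comap π)]
      exact h _ (hM.comap π) fun hc => hMc (hcm M ▸ (hclosedN _ (hM.comap π)).1 hc)
    · exact (hiff N hN).2 (h _ (hN.map π hπs) fun hc => hNc ((hclosedN N hN).2 hc))
  · refine and_congr (not_congr hclosed) ⟨fun h M hM hMc => ?_, fun h N hN hNc => ?_⟩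
    · rw [← hcm M, ← hiff _ (hM.comap π)]
      refine h _ (hM.comap π) fun hc => hMc ?_
      have h1 := (hcomm _ (hM.comap π)).1 hc
      rwa [hcm] at h1
    · exact (hiff N hN).2 (h _ (hN.map π hπs) fun hc => hNc ((hcomm N hN).2 hc))

end Cfsg.Agent.S2828
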