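import Cfsg.Statements.S2829
import Cfsg.Agent.Lib.PIrred.Basic

set_option autoImplicit false
open Cfsg

namespace Cfsg.Agent.S2829

open Subgroup Cfsg.Agent.PReduced
open scoped commutatorElement

/-- Every strongly p-irreducible finite group is p-irreducible. -/
theorem result {H : Type*} [Group H] [Finite H] {p : ℕ} [Fact p.Prime] (hH : Cfsg.IsStronglyPIrreducible p H) : Cfsg.IsPIrreducible p H := by
  refine ⟨hH.1, fun N hN hnc => hH.2 N hN fun hle => hnc ?_⟩
  intro P
  have hQ := PReduced.pCore_normal p H
  have h1 : commutator ↥N ≤ (P : Subgroup ↥N) := by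
    refine le_trans ?_ (PReduced.pCore_le_sylow P)
    refine le_trans ?_ (PReduced.le_pCore (N := (Cfsg.pCore p H).subgroupOf N) inferInstance
      (IsPGroup.comap_subtype (PReduced.isPGroup_pCore p)))
    rw [commutator_def, commutator_le]
    intro a _ b _
    exact hle (commutator_mem_commutator a.2 (mem_top (b : H)))
  exact Normal.of_commutator_le _ h1

end Cfsg.Agent.S2829
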