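import Cfsg.Statements.S2830
import Cfsg.Agent.Lib.PIrred.Basic

set_option autoImplicit false
open Cfsg

namespace Cfsg.Agent.S2830

open Subgroup Cfsg.Agent.PReduced
open scoped commutatorElement

/-- Let H act by conjugation on the elementary abelian p-subgroup V of a finite group G (H ≤ N(V)), with H p-irreducible and O^p(H) not centralizing V. Then C_H(V) is p-closed and C_T(V) ≤ O_p(H) for every p-subgroup T of H. If in addition O_p(H) centralizes V, then C_T(V) = T ∩ O_p(H) for every p-subgroup T of H, and V is p-reduced for H: O_p(H/C_H(V)) = 1. -/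
theorem result {G : Type*} [Group G] [Finite G] {p : ℕ} [Fact p.Prime] (V H : Subgroup G) (hV : Cfsg.IsElementaryAbelian p V) (hHV : H ≤ Subgroup.normalizer (V : Set G)) (hH : Cfsg.IsPIrreducible p ↥H) (hnc : ¬ (Cfsg.pResidual p ↥H).map H.subtype ≤ Subgroup.centralizer (V : Set G)) [hn : ((Subgroup.centralizer (V : Set G)).subgroupOf H).Normal] : Cfsg.IsPClosed p ↥(H ⊓ Subgroup.centralizer (V : Set G)) ∧ (∀ T : Subgroup G, T ≤ H → IsPGroup p ↥T → T ⊓ Subgroup.centralizer (V : Set G) ≤ Cfsg.pCoreOf p H) ∧ (Cfsg.pCoreOf p H ≤ Subgroup.centralizer (V : Set G) → (∀ T : Subgroup G, T ≤ H → IsPGroup p ↥T → T ⊓ Subgroup.centralizer (V : Set G) = T ⊓ Cfsg.pCoreOf p H) ∧ Cfsg.pCore p (↥H ⧸ (Subgroup.centralizer (V : Set G)).subgroupOf H) = ⊥) := by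
  obtain ⟨-, hir⟩ := hH
  set C := (centralizer (V : Set G)).subgroupOf H with hC
  have hnR : ¬ Cfsg.pResidual p ↥H ≤ C := fun h => hnc (by
    rintro _ ⟨x, hx, rfl⟩
    exact h hx)
  have hCc : Cfsg.IsPClosed p ↥C := by
    by_contra h
    exact hnR (hir C hn h)
  have hpart2 : ∀ T : Subgroup G, T ≤ H → IsPGroup p ↥T →
      T ⊓ centralizer (V : Set G) ≤ Cfsg.pCoreOf p H := by
    intro T hTH hT x hx
    obtain ⟨hxT, hxC⟩ := mem_inf.1 hx
    have h1 : T.subgroupOf H ⊓ C ≤ Cfsg.pCore p ↥H :=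
      PIrred.isPGroup_le_pCore_of_isPClosed hCc
        (IsPGroup.to_le (IsPGroup.comap_subtype hT) inf_le_left) inf_le_right
    exact ⟨⟨x, hTH hxT⟩, h1 (mem_inf.2 ⟨hxT, hxC⟩), rfl⟩
  refine ⟨?_, hpart2, fun hOC => ⟨fun T hTH hT => le_antisymm (le_inf inf_le_left (hpart2 T hTH hT))
    (le_inf inf_le_left (inf_le_right.trans hOC)), ?_⟩⟩
  · have he : C = (H ⊓ centralizer (V : Set G)).subgroupOf H := by
      ext x; simp [hC, mem_subgroupOf]
    let e : ↥C ≃* ↥(H ⊓ centralizer (V : Set G)) :=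
      (MulEquiv.subgroupCongr he).trans (subgroupOfEquivOfLe inf_le_left)
    exact (PIrred.isPClosed_iff_of_surjective e.toMonoidHom e.surjective
      (by rw [(MonoidHom.ker_eq_bot_iff _).2 e.injective]; exact IsPGroup.of_bot)).1 hCc
  · rw [pCore_quotient_eq_bot_iff]
    intro N hN hmod
    by_cases hNc : Cfsg.IsPClosed p ↥N
    · obtain ⟨T⟩ : Nonempty (Sylow p ↥H) := inferInstance
      have hM := eq_sup_sylow_inf_of_pMod T (le_sup_right : C ≤ N ⊔ C) (pMod_sup hmod)
      have hOC' : Cfsg.pCore p ↥H ≤ C := fun x hx => hOC (mem_map_of_mem H.subtype hx)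
      have hNCc : Cfsg.IsPClosed p ↥(N ⊔ C) := by
        by_contra h
        have h1 := hir _ inferInstance h
        refine hnR ?_
        rw [Cfsg.pResidual, closure_le]
        exact fun x hx => PIrred.mem_of_pMod (pMod_sup hmod) (h1 (PIrred.mem_pResidual hx)) hx
      refine le_sup_left.trans (hM.le.trans (sup_le le_rfl ?_))
      exact (PIrred.sylow_inf_le_pCore_of_isPClosed hNCc T).trans hOC'
    · have h1 := hir N hN hNc
      exfalso
      refine hnR ?_
      rw [Cfsg.pResidual, closure_le]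
      exact fun x hx => PIrred.mem_of_pMod hmod (h1 (PIrred.mem_pResidual hx)) hx

end Cfsg.Agent.S2830
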