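import Cfsg.Statements.S2831
import Cfsg.Agent.Lib.PIrred.Basic

set_option autoImplicit false
open Cfsg

namespace Cfsg.Agent.S2831

open Subgroup Cfsg.Agent.PReduced
open scoped commutatorElement

/-- Let H be a finite group with Sylow p-subgroup T such that H is T-minimal (H is generated by the conjugates of T and T lies in exactly one maximal subgroup of H). Then H is p-irreducible: H is not p-closed and O^p(H) lies in every normal subgroup of H that is not p-closed. -/
theorem result {H : Type*} [Group H] [Finite H] {p : ℕ} [Fact p.Prime] (T : Sylow p H) (hmin : Cfsg.IsMinimalOver (T : Subgroup H)) : Cfsg.IsPIrreducible p H := by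
  obtain ⟨hgen, hu⟩ := hmin
  obtain ⟨M, hM⟩ := hu.exists
  have hTtop : (T : Subgroup H) ≠ ⊤ := fun h => hM.1.1 (top_le_iff.1 (h ▸ hM.2))
  refine ⟨PIrred.not_isPClosed_of_normalClosure T hgen hTtop, fun N hN hnc => ?_⟩
  set R := normalizer (((T : Subgroup H) ⊓ N : Subgroup H) : Set H) with hR
  have hTR : (T : Subgroup H) ≤ R := (le_inf le_normalizer
    (le_normalizer_of_normal (H := N))).trans (inf_normalizer_le_normalizer_inf (H := (T : Subgroup H)) (K := N))
  have hRne : R ≠ ⊤ := fun h => hnc <| PIrred.isPClosed_of_sylow_inf_le T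
    (PReduced.le_pCore (normalizer_eq_top_iff.1 h) (T.2.to_le inf_le_left))
  have hRM := PIrred.le_of_ne_top hu hM hTR hRne
  have hTN : (T : Subgroup H) ⊔ N = ⊤ := by
    refine PIrred.eq_top_of_not_le hu hM le_sup_left fun h => hM.1.1 (top_le_iff.1 ?_)
    rw [← frattini_sylow_inf T N]
    exact sup_le hRM (le_sup_right.trans h)
  exact Transfer.pResidual_le (PIrred.isPGroup_quotient_of_sup T.2 hTN)

end Cfsg.Agent.S2831
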