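import Cfsg.Statements.S2832
import Cfsg.Agent.Lib.PIrred.Basic

set_option autoImplicit false
open Cfsg

namespace Cfsg.Agent.S2832

open Subgroup Cfsg.Agent.PReduced
open scoped commutatorElement

/-- Let H be a finite group with Sylow p-subgroup T such that H is T-minimal (generated by the conjugates of T, with T in exactly one maximal subgroup), and let N be a normal subgroup of H. Then either H/N is a p-group or H/N is minimal over the image of T in the same sense. -/
theorem result {H : Type*} [Group H] [Finite H] {p : ℕ} [Fact p.Prime] (T : Sylow p H) (hmin : Cfsg.IsMinimalOver (T : Subgroup H)) (N : Subgroup H) [N.Normal] : IsPGroup p (H ⧸ N) ∨ Cfsg.IsMinimalOver ((T : Subgroup H).map (QuotientGroup.mk' N)) := by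
  obtain ⟨hgen, hu⟩ := hmin
  obtain ⟨M, hM⟩ := hu.exists
  set π := QuotientGroup.mk' N with hπ
  have hπs : Function.Surjective π := QuotientGroup.mk'_surjective N
  by_cases hNM : (T : Subgroup H) ⊔ N = ⊤
  · exact Or.inl (PIrred.isPGroup_quotient_of_sup T.2 hNM)
  have hle := PIrred.le_of_ne_top hu hM le_sup_left hNM
  have hker : π.ker ≤ M := by rw [QuotientGroup.ker_mk']; exact le_sup_right.trans hle
  right
  refine ⟨?_, M.map π, ⟨?_, map_mono hM.2⟩, ?_⟩
  · rw [coe_map, ← map_normalClosure _ π hπs, hgen, map_top_of_surjective π hπs]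
  · refine ⟨fun h => hM.1.1 ?_, fun K hK => ?_⟩
    · have := congrArg (Subgroup.comap π) h
      rwa [comap_map_eq, comap_top, sup_eq_left.2 hker] at this
    · have h1 : M < K.comap π := by
        have := (comap_lt_comap_of_surjective hπs).2 hK
        rwa [comap_map_eq, sup_eq_left.2 hker] at this
      rw [← map_comap_eq_self_of_surjective hπs K, hM.1.2 _ h1, map_top_of_surjective π hπs]
  · rintro K ⟨hK, hTK⟩
    have h1 : IsCoatom (K.comap π) := by
      refine ⟨fun h => hK.1 ?_, fun J hJ => ?_⟩
      · rw [← map_comap_eq_self_of_surjective hπs K, h, map_top_of_surjective π hπs]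
      · have hkJ : π.ker ≤ J := (ker_le_comap π K).trans hJ.le
        have h2 : K < J.map π := by
          rw [← map_comap_eq_self_of_surjective hπs K]
          exact lt_of_le_of_ne (map_mono hJ.le) fun h => hJ.ne (by
            have h3 := congrArg (Subgroup.comap π) h
            rwa [comap_map_eq, comap_map_eq, sup_eq_left.2 hkJ,
              sup_eq_left.2 (ker_le_comap π K)] at h3)
        have h3 := congrArg (Subgroup.comap π) (hK.2 _ h2)
        rwa [comap_map_eq, comap_top, sup_eq_left.2 hkJ] at h3
    have h2 := hu.unique ⟨h1, map_le_iff_le_comap.1 hTK⟩ hM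
    rw [← h2, map_comap_eq_self_of_surjective hπs]

end Cfsg.Agent.S2832
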