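import Cfsg.Statements.S2833
import Cfsg.Agent.Lib.Cores.Subnormal
import Cfsg.Agent.Lib.PReduced.Basic

set_option autoImplicit false
open Cfsg

namespace Cfsg.Agent.S2833

open Subgroup Cfsg.Agent.PReduced
open scoped commutatorElement

/-- Let V be a subgroup of a finite group G normalized by the subgroup L, let X ≤ L and g ∈ L with [V, X, X] = 1 and L generated by X and gXg⁻¹. Put W = [V, L]. Then W = [V, X]·[V, gXg⁻¹], C_W(X) = [V, X], and C_W(L) = [V, X] ∩ [V, gXg⁻¹]. -/
theorem result {G : Type*} [Group G] [Finite G] (V L : Subgroup G) (hLV : L ≤ Subgroup.normalizer (V : Set G)) (X : Subgroup G) (hX : X ≤ L) (g : G) (hg : g ∈ L) (hq : ⁅⁅V, X⁆, X⁆ = ⊥) (hgen : X ⊔ X.map (MulAut.conj g).toMonoidHom = L) (W : Subgroup G) (hW : W = ⁅V, L⁆) : ⁅V, X⁆ ⊔ ⁅V, X.map (MulAut.conj g).toMonoidHom⁆ = W ∧ W ⊓ Subgroup.centralizer (X : Set G) = ⁅V, X⁆ ∧ W ⊓ Subgroup.centralizer (L : Set G) = ⁅V, X⁆ ⊓ ⁅V, X.map (MulAut.conj g).toMonoidHom⁆ := by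
  subst hW
  set Y := X.map (MulAut.conj g).toMonoidHom with hY
  set A := ⁅V, X⁆ with hA
  set B := ⁅V, Y⁆ with hB
  have hVg : V.map (MulAut.conj g).toMonoidHom = V := by
    ext v
    constructor
    · rintro ⟨a, ha, rfl⟩
      exact (mem_normalizer_iff.1 (hLV hg) a).1 ha
    · intro hv
      exact ⟨g⁻¹ * v * g, (mem_normalizer_iff.1 (hLV hg) _).2 (by simpa [mul_assoc] using hv),
        by simp [mul_assoc]⟩
  have hBA : B = A.map (MulAut.conj g).toMonoidHom := by rw [hA, map_commutator, hVg]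
  have hYL : Y ≤ L := by
    rintro _ ⟨x, hx, rfl⟩
    exact mul_mem (mul_mem hg (hX hx)) (inv_mem hg)
  have hsub : ∀ Z : Subgroup G, Z ≤ L → ⁅V, Z⁆ ≤ V := fun Z hZ => commutator_le.2 fun v hv l hl => by
    have h1 : l * v⁻¹ * l⁻¹ ∈ V := (mem_normalizer_iff.1 (hLV (hZ hl)) v⁻¹).1 (inv_mem hv)
    have h2 : ⁅v, l⁆ = v * (l * v⁻¹ * l⁻¹) := by rw [commutatorElement_def]; group
    rw [h2]; exact mul_mem hv h1
  have hAV : A ≤ V := hsub X hX
  have hBV : B ≤ V := hsub Y hYL
  have hAX : ∀ a ∈ A, ∀ x ∈ X, x * a = a * x := fun a ha x hx =>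
    commutator_eq_bot_iff_le_centralizer.1 hq ha x hx
  have hBY : ∀ b ∈ B, ∀ y ∈ Y, y * b = b * y := by
    rw [hBA]
    rintro _ ⟨a, ha, rfl⟩ _ ⟨x, hx, rfl⟩
    rw [← map_mul, ← map_mul, hAX a ha x hx]
  have hAn : V ≤ normalizer (A : Set G) := Cores.commutator_normalizer_left V X
  have hBn : V ≤ normalizer (B : Set G) := Cores.commutator_normalizer_left V Y
  set M := A ⊔ B with hM
  have hXM : ∀ x ∈ X, ∀ m ∈ M, x * m * x⁻¹ ∈ M := by
    intro x hx m hm
    have : M ≤ M.comap (MulAut.conj x).toMonoidHom := sup_le (fun a ha => mem_sup_left (by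
      show x * a * x⁻¹ ∈ A
      rw [hAX a ha x hx, mul_inv_cancel_right]; exact ha)) (fun b hb => by
      show x * b * x⁻¹ ∈ M
      have h1 : x * b * x⁻¹ = ⁅b, x⁆⁻¹ * b := by rw [commutatorElement_def]; group
      rw [h1]
      exact mul_mem (mem_sup_left (inv_mem (commutator_mem_commutator (hBV hb) hx)))
        (mem_sup_right hb))
    exact this hm
  have hYM : ∀ y ∈ Y, ∀ m ∈ M, y * m * y⁻¹ ∈ M := by
    intro y hy m hm
    have : M ≤ M.comap (MulAut.conj y).toMonoidHom := sup_le (fun a ha => by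
      show y * a * y⁻¹ ∈ M
      have h1 : y * a * y⁻¹ = ⁅a, y⁆⁻¹ * a := by rw [commutatorElement_def]; group
      rw [h1]
      exact mul_mem (mem_sup_right (inv_mem (commutator_mem_commutator (hAV ha) hy)))
        (mem_sup_left ha)) (fun b hb => mem_sup_right (by
      show y * b * y⁻¹ ∈ B
      rw [hBY b hb y hy, mul_inv_cancel_right]; exact hb))
    exact this hm
  have hWM : ⁅V, L⁆ = M := by
    refine le_antisymm (commutator_le.2 fun v hv l hl => ?_)
      (sup_le (commutator_mono le_rfl hX) (commutator_mono le_rfl hYL))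
    suffices h : ∀ v ∈ V, ⁅v, l⁆ ∈ M ∧ (∀ m ∈ M, l * m * l⁻¹ ∈ M) ∧ (∀ m ∈ M, l⁻¹ * m * l ∈ M) from
      (h v hv).1
    rw [← hgen, ← closure_eq X, ← closure_eq Y, ← Subgroup.closure_union] at hl
    induction hl using Subgroup.closure_induction with
    | mem x hx =>
      intro v hv
      rcases hx with hx | hx
      · exact ⟨mem_sup_left (commutator_mem_commutator hv hx), hXM x hx, fun m hm => by
          simpa using hXM x⁻¹ (inv_mem hx) m hm⟩
      · exact ⟨mem_sup_right (commutator_mem_commutator hv hx), hYM x hx, fun m hm => by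
          simpa using hYM x⁻¹ (inv_mem hx) m hm⟩
    | one => intro v _; simp
    | mul a b _ _ iha ihb =>
      intro v hv
      obtain ⟨ha1, ha2, ha3⟩ := iha v hv
      obtain ⟨hb1, hb2, hb3⟩ := ihb v hv
      refine ⟨?_, fun m hm => ?_, fun m hm => ?_⟩
      · have h1 := mul_mem ha1 (ha2 _ hb1)
        convert h1 using 1
        simp only [commutatorElement_def]; group
      · convert ha2 _ (hb2 m hm) using 1; group
      · convert hb3 _ (ha3 m hm) using 1; group
    | inv a _ iha =>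
      intro v hv
      obtain ⟨ha1, ha2, ha3⟩ := iha v hv
      refine ⟨?_, fun m hm => by simpa using ha3 m hm, fun m hm => by simpa using ha2 m hm⟩
      have h1 := ha3 _ (inv_mem ha1)
      convert h1 using 1
      simp only [commutatorElement_def]; group
  have hAeq : ∀ w ∈ M, (∀ x ∈ X, x * w = w * x) → w ∈ A := by
    intro w hw hwX
    have hw' : w ∈ ((A ⊔ B : Subgroup G) : Set G) := hw
    rw [coe_mul_of_left_le_normalizer_right A B (hAV.trans hBn)] at hw'
    obtain ⟨a, ha, b, hb, rfl⟩ := Set.mem_mul.1 hw'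
    refine mul_mem ha ?_
    have hbX : ∀ x ∈ X, x * b = b * x := by
      intro x hx
      calc x * b = (x * a⁻¹) * (a * b) := by group
        _ = (a⁻¹ * x) * (a * b) := by rw [hAX a⁻¹ (inv_mem ha) x hx]
        _ = a⁻¹ * (x * (a * b)) := by group
        _ = a⁻¹ * ((a * b) * x) := by rw [hwX x hx]
        _ = b * x := by group
    have hbL : L ≤ centralizer {b} := by
      rw [← hgen]
      exact sup_le (fun x hx => mem_centralizer_singleton_iff.2 (hbX x hx))
        (fun y hy => mem_centralizer_singleton_iff.2 (hBY b hb y hy))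
    have hgb : g * b = b * g := mem_centralizer_singleton_iff.1 (hbL hg)
    rw [hBA] at hb
    obtain ⟨a', ha', he⟩ := hb
    have he' : g * a' * g⁻¹ = b := he
    have : a' = b := by
      calc a' = g⁻¹ * (g * a' * g⁻¹) * g := by group
        _ = g⁻¹ * b * g := by rw [he']
        _ = g⁻¹ * (b * g) := by group
        _ = g⁻¹ * (g * b) := by rw [hgb]
        _ = b := by group
    exact this ▸ ha'
  refine ⟨hWM.symm, ?_, ?_⟩
  · refine le_antisymm ?_ ?_
    · intro w hw
      obtain ⟨hwW, hwX⟩ := mem_inf.1 hw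
      exact hAeq w (hWM ▸ hwW) fun x hx => hwX x hx
    exact fun a ha => mem_inf.2 ⟨hWM ▸ mem_sup_left ha, fun x hx => hAX a ha x hx⟩
  · refine le_antisymm ?_ ?_
    · intro w hw
      obtain ⟨hwW, hwL⟩ := mem_inf.1 hw
      have hwA := hAeq w (hWM ▸ hwW) fun x hx => hwL x (hX hx)
      refine mem_inf.2 ⟨hwA, ?_⟩
      rw [hBA]
      refine ⟨w, hwA, ?_⟩
      show g * w * g⁻¹ = w
      rw [hwL g hg, mul_inv_cancel_right]
    · intro w hw
      refine mem_inf.2 ⟨hWM ▸ mem_sup_left (mem_inf.1 hw).1, fun l hl => ?_⟩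
      have hle : L ≤ centralizer {w} := by
        rw [← hgen]
        exact sup_le (fun x hx => mem_centralizer_singleton_iff.2 (hAX w (mem_inf.1 hw).1 x hx))
          (fun y hy => mem_centralizer_singleton_iff.2 (hBY w (mem_inf.1 hw).2 y hy))
      exact mem_centralizer_singleton_iff.1 (hle hl)

end Cfsg.Agent.S2833
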