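import Cfsg.Statements.S2834
import Cfsg.Agent.Lib.YMinimal.Basic
import Cfsg.Agent.Lib.SmallOrders.Intersect

set_option autoImplicit false
open Cfsg

namespace Cfsg.Agent.S2834

open Subgroup Cfsg.Agent.PReduced Cfsg.Agent.WeaklyClosed
open scoped commutatorElement

/-- The join of `Q` and the conjugates of `A` inside `S`. -/
def hull {H : Type*} [Group H] (p : ℕ) (A S : Subgroup H) : Subgroup H :=
  Cfsg.pCore p H ⊔ sSup {F : Subgroup H | (∃ g, F = cj g A) ∧ F ≤ S}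

section
variable {H : Type*} [Group H] {p : ℕ} {A S : Subgroup H}

theorem hull_le (hQ : Cfsg.pCore p H ≤ S) : hull p A S ≤ S :=
  sup_le hQ (sSup_le fun _ h => h.2)

theorem cj_le_hull {g : H} (h : cj g A ≤ S) : cj g A ≤ hull p A S :=
  le_sup_of_le_right (le_sSup (show cj g A ∈ {F : Subgroup H | (∃ g, F = cj g A) ∧ F ≤ S} from
    ⟨⟨g, rfl⟩, h⟩))

theorem hull_mono {S' : Subgroup H} (h : S ≤ S') : hull p A S ≤ hull p A S' :=
  sup_le_sup_left (sSup_le_sSup (show {F : Subgroup H | (∃ g, F = cj g A) ∧ F ≤ S} ⊆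
    {F : Subgroup H | (∃ g, F = cj g A) ∧ F ≤ S'} from fun _ hF => ⟨hF.1, hF.2.trans h⟩)) _

theorem pCore_le_hull : Cfsg.pCore p H ≤ hull p A S := le_sup_left

theorem cj_hull (y : H) : cj y (hull p A S) = hull p A (cj y S) := by
  have := pCore_normal p H
  have key : ∀ (z : H) (R : Subgroup H), cj z (hull p A R) ≤ hull p A (cj z R) := by
    intro z R
    show (hull p A R).map _ ≤ _
    rw [map_le_iff_le_comap]
    refine sup_le ?_ (sSup_le ?_)
    · rw [← map_le_iff_le_comap]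
      exact (cj_of_mem (by rw [normalizer_eq_top_iff.2 this]; exact mem_top z)).le.trans pCore_le_hull
    · rintro _ ⟨⟨g, rfl⟩, hF⟩
      rw [← map_le_iff_le_comap]
      show cj z (cj g A) ≤ _
      have h2 := cj_mono z hF
      rw [← cj_mul] at h2 ⊢
      exact cj_le_hull h2
  refine le_antisymm (key y S) ?_
  have h1 := cj_mono y (key y⁻¹ (cj y S))
  rwa [← cj_mul, mul_inv_cancel, cj_one, ← cj_mul y⁻¹ y, inv_mul_cancel, cj_one] at h1

end

theorem exists_le_cj_sylow {H : Type*} [Group H] [Finite H] {p : ℕ} [Fact p.Prime] (T : Sylow p H)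
    {R : Subgroup H} (hR : IsPGroup p ↥R) : ∃ x : H, R ≤ cj x (T : Subgroup H) := by
  obtain ⟨P, hP⟩ := hR.exists_le_sylow
  obtain ⟨x, hx⟩ := MulAction.exists_smul_eq H T P
  exact ⟨x, hP.trans (le_of_eq (congrArg Sylow.toSubgroup hx).symm)⟩

theorem exists_le_cj_sylow' {H : Type*} [Group H] [Finite H] {p : ℕ} [Fact p.Prime] (T : Sylow p H)
    {M R : Subgroup H} (hTM : (T : Subgroup H) ≤ M) {g : H} (hR : IsPGroup p ↥R)
    (hRM : R ≤ cj g M) : ∃ x : H, R ≤ cj x (T : Subgroup H) ∧ cj x M = cj g M := by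
  have hle : cj g⁻¹ R ≤ M := by
    have := cj_mono g⁻¹ hRM
    rwa [← cj_mul, inv_mul_cancel, cj_one] at this
  obtain ⟨P, hP⟩ := exists_sylow_in (hR.map (MulAut.conj g⁻¹).toMonoidHom) hle
  obtain ⟨m, hm⟩ := MulAction.exists_smul_eq ↥M (T.subtype hTM) P
  refine ⟨g * m, ?_, by rw [cj_mul, cj_of_mem (le_normalizer m.2)]⟩
  have h1 : cj g⁻¹ R ≤ cj (m : H) (T : Subgroup H) := by
    refine hP.trans ?_
    rw [← hm]
    rintro _ ⟨_, ⟨y, hy, rfl⟩, rfl⟩
    exact ⟨(y : H), hy, rfl⟩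
  have h2 := cj_mono g h1
  rwa [← cj_mul, ← cj_mul, mul_inv_cancel, cj_one] at h2

/-- The L-Lemma: let H be a finite group with Sylow p-subgroup T such that H is T-minimal (generated by the conjugates of T, T in exactly one maximal subgroup M), and let A ≤ T with A not contained in O_p(H). Then there is a subgroup L of H containing A·O_p(H) such that (a) A·O_p(L) lies in exactly one maximal subgroup L₀ of L, and L₀ = L ∩ gMg⁻¹ for some g ∈ H; (b) L = ⟨A, xAx⁻¹⟩·O_p(L) for every x ∈ L outside L₀. -/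
theorem result {H : Type*} [Group H] [Finite H] {p : ℕ} [Fact p.Prime] (T : Sylow p H) (hmin : Cfsg.IsMinimalOver (T : Subgroup H)) (M : Subgroup H) (hM : IsCoatom M ∧ (T : Subgroup H) ≤ M) (A : Subgroup H) (hAT : A ≤ (T : Subgroup H)) (hA : ¬ A ≤ Cfsg.pCore p H) : ∃ L : Subgroup H, A ⊔ Cfsg.pCore p H ≤ L ∧ ∃ L₀ : Subgroup H, A ⊔ (Cfsg.pCoreOf p L) ≤ L₀ ∧ L₀ < L ∧ (∀ X : Subgroup H, A ⊔ (Cfsg.pCoreOf p L) ≤ X → X < L → X ≤ L₀) ∧ (∃ g : H, L₀ = L ⊓ ((M : Subgroup H).map (MulAut.conj (g : H)).toMonoidHom)) ∧ ∀ x ∈ L, x ∉ L₀ → (A ⊔ ((A : Subgroup H).map (MulAut.conj (x : H)).toMonoidHom)) ⊔ (Cfsg.pCoreOf p L) = L := by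
  obtain ⟨hMc, hTM⟩ := hM
  have hQn := pCore_normal p H
  set Q := Cfsg.pCore p H with hQ
  have hQfix : ∀ y : H, cj y Q = Q := fun y =>
    cj_of_mem (by rw [normalizer_eq_top_iff.2 hQn]; exact mem_top y)
  have huniq : ∀ {x : H} {K : Subgroup H}, IsCoatom K → cj x (T : Subgroup H) ≤ K → K = cj x M := by
    intro x K hK h
    have h1 := cj_mono x⁻¹ h
    rw [← cj_mul, inv_mul_cancel, cj_one] at h1
    rw [← YMinimal.eq_of_le hmin hMc hTM (YMinimal.isCoatom_cj hK _) h1, ← cj_mul, mul_inv_cancel,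
      cj_one]
  have hself := YMinimal.normalizer_eq_self hmin hMc hTM
  have hQT : Q ≤ (T : Subgroup H) := pCore_le_sylow T
  have hQM : ∀ y, Q ≤ cj y M := fun y => hQfix y ▸ cj_mono y (hQT.trans hTM)
  -- a maximal closed subgroup in two conjugates of `M`
  set U : Set (Subgroup H) := {R | hull p A R = R ∧ IsPGroup p ↥R ∧
    ∃ g h : H, cj g M ≠ cj h M ∧ R ≤ cj g M ∧ R ≤ cj h M} with hU
  have hQU : Q ∈ U := by
    obtain ⟨g, hg⟩ : ∃ g : H, cj g M ≠ M := by
      by_contra hc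
      push Not at hc
      have : M = ⊤ := top_le_iff.1 fun g _ => hself ▸ cj_eq_self_iff.1 (hc g)
      exact hMc.1 this
    exact ⟨le_antisymm (hull_le le_rfl) pCore_le_hull, isPGroup_pCore p, g, 1,
      by rwa [cj_one], hQM g, hQM 1⟩
  obtain ⟨R, hR⟩ := (Set.toFinite U).exists_maximal ⟨Q, hQU⟩
  obtain ⟨hRhull, hRp, g₁, g₂, hne, hRg₁, hRg₂⟩ := hR.1
  have hQR : Q ≤ R := le_of_le_of_eq pCore_le_hull hRhull
  -- `R` is smaller than the closure of any Sylow subgroup over it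
  have hfull : ∀ x : H, R ≤ cj x (T : Subgroup H) → hull p A (cj x (T : Subgroup H)) ≠ R := by
    intro x hx he
    have hn : ∀ y : H, R ≤ cj y (T : Subgroup H) →
        cj y (T : Subgroup H) ≤ normalizer (R : Set H) := by
      intro y hy t ht
      have h1 : hull p A (cj y (T : Subgroup H)) = R := by
        refine (eq_of_le_of_card_ge (hRhull ▸ hull_mono hy) (le_of_eq ?_)).symm
        have e : cj (y * x⁻¹) (hull p A (cj x (T : Subgroup H))) = hull p A (cj y (T : Subgroup H)) := by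
          rw [cj_hull, ← cj_mul, mul_assoc, inv_mul_cancel, mul_one]
        rw [← e, he]
        exact (Nat.card_congr
          (R.equivMapOfInjective _ (MulAut.conj (y * x⁻¹)).injective).toEquiv).symm
      rw [← cj_eq_self_iff, ← h1, cj_hull, cj_of_mem (le_normalizer ht)]
    obtain ⟨x₁, hx₁, hx₁M⟩ := exists_le_cj_sylow' T hTM hRp hRg₁
    obtain ⟨x₂, hx₂, hx₂M⟩ := exists_le_cj_sylow' T hTM hRp hRg₂
    rcases eq_top_or_exists_le_coatom (normalizer (R : Set H)) with h | ⟨K, hK, hNK⟩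
    · have hRQ : R ≤ Q := le_pCore (normalizer_eq_top_iff.1 h) hRp
      have h2 : cj x A ≤ Q := le_trans (cj_le_hull (cj_mono x hAT)) (he.le.trans hRQ)
      refine hA ?_
      have h3 := cj_mono x⁻¹ h2
      rwa [← cj_mul, inv_mul_cancel, cj_one, hQfix] at h3
    · exact hne (by rw [← hx₁M, ← hx₂M, ← huniq hK ((hn x₁ hx₁).trans hNK),
        ← huniq hK ((hn x₂ hx₂).trans hNK)])
  have hmove : ∀ x : H, R ≤ cj x (T : Subgroup H) → ∃ u : H, cj u A ≤ cj x (T : Subgroup H) ∧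
      cj u A ≤ normalizer (R : Set H) ∧ ¬ cj u A ≤ R := by
    intro x hx
    by_contra hc
    push Not at hc
    set P := normalizer (R : Set H) ⊓ cj x (T : Subgroup H) with hP
    have hRP : R ≤ P := le_inf le_normalizer hx
    have hPR : hull p A P = R := by
      refine le_antisymm (sup_le hQR (sSup_le ?_)) (hRhull ▸ hull_mono hRP)
      rintro _ ⟨⟨u, rfl⟩, hu⟩
      exact hc u (hu.trans inf_le_right) (hu.trans inf_le_left)
    have hPS : P = cj x (T : Subgroup H) := by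
      refine (eq_or_lt_of_le (inf_le_right : P ≤ _)).resolve_right fun hlt => ?_
      obtain ⟨t, ht, htP⟩ := SetLike.exists_of_lt
        (SmallOrders.lt_normalizer_inf (T.2.map (MulAut.conj x).toMonoidHom) hlt)
      refine htP ⟨?_, (mem_inf.1 ht).2⟩
      show t ∈ normalizer (R : Set H)
      rw [← cj_eq_self_iff, ← hPR, cj_hull, cj_of_mem (mem_inf.1 ht).1]
    exact hfull x hx (hPS ▸ hPR)
  have hone : ∀ u : H, cj u A ≤ normalizer (R : Set H) → ¬ cj u A ≤ R →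
      ∀ y z : H, R ⊔ cj u A ≤ cj y M → R ⊔ cj u A ≤ cj z M → cj y M = cj z M := by
    intro u huN huR y z hy hz
    by_contra hyz
    have hp' : IsPGroup p ↥(R ⊔ cj u A) :=
      hRp.to_sup_of_normal_left' ((T.2.to_le hAT).map _) huN
    have hmem : R ⊔ cj u A ∈ U := by
      refine ⟨le_antisymm (hull_le (hQR.trans le_sup_left)) (sup_le ?_ (cj_le_hull le_sup_right)),
        hp', y, z, hyz, hy, hz⟩
      exact le_of_eq_of_le hRhull.symm (hull_mono le_sup_left)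
    exact huR (le_sup_right.trans (hR.2 hmem le_sup_left))
  obtain ⟨x₁, hx₁, hx₁M⟩ := exists_le_cj_sylow' T hTM hRp hRg₁
  obtain ⟨x₂, hx₂, hx₂M⟩ := exists_le_cj_sylow' T hTM hRp hRg₂
  obtain ⟨u, huS, huN, huR⟩ := hmove x₁ hx₁
  obtain ⟨v, hvS, hvN, hvR⟩ := hmove x₂ hx₂
  have hNR : ∀ y : H, ¬ normalizer (R : Set H) ≤ cj y M := by
    intro y hy
    refine hne ((?_ : cj y M = cj g₁ M).symm.trans ?_)
    · refine hone u huN huR y g₁ (sup_le (le_normalizer.trans hy) (huN.trans hy)) ?_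
      exact sup_le hRg₁ (huS.trans (hx₁M ▸ cj_mono x₁ hTM))
    · refine hone v hvN hvR y g₂ (sup_le (le_normalizer.trans hy) (hvN.trans hy)) ?_
      exact sup_le hRg₂ (hvS.trans (hx₂M ▸ cj_mono x₂ hTM))
  -- move to `A`
  set R₁ := cj u⁻¹ R with hR₁
  have huR' : ∀ X : Subgroup H, cj u (cj u⁻¹ X) = X := fun X => by
    rw [← cj_mul, mul_inv_cancel, cj_one]
  have hcjsup : ∀ (z : H) (X Y : Subgroup H), cj z (X ⊔ Y) = cj z X ⊔ cj z Y := fun z X Y =>
    Subgroup.map_sup _ _ _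
  have hN₁ : normalizer (R₁ : Set H) = cj u⁻¹ (normalizer (R : Set H)) :=
    (map_equiv_normalizer_eq R (MulAut.conj u⁻¹)).symm
  have hAN : A ≤ normalizer (R₁ : Set H) := by
    rw [hN₁]
    have := cj_mono u⁻¹ huN
    rwa [← cj_mul, inv_mul_cancel, cj_one] at this
  have hR₁p : IsPGroup p ↥R₁ := hRp.map _
  have hone₁ : ∀ y z : H, R₁ ⊔ A ≤ cj y M → R₁ ⊔ A ≤ cj z M → cj y M = cj z M := by
    intro y z hy hz
    have h1 := hone u huN huR (u * y) (u * z)
      (by have := cj_mono u hy; rwa [hcjsup, huR', ← cj_mul] at this)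
      (by have := cj_mono u hz; rwa [hcjsup, huR', ← cj_mul] at this)
    rw [cj_mul, cj_mul] at h1
    exact map_injective (MulAut.conj u).injective h1
  have hNR₁ : ∀ y : H, ¬ normalizer (R₁ : Set H) ≤ cj y M := by
    intro y hy
    refine hNR (u * y) ?_
    have := cj_mono u hy
    rwa [hN₁, huR', ← cj_mul] at this
  obtain ⟨g₀, hg₀⟩ : ∃ g₀ : H, R₁ ⊔ A ≤ cj g₀ M := by
    obtain ⟨x, hx⟩ := exists_le_cj_sylow T (hR₁p.to_sup_of_normal_left' (T.2.to_le hAT) hAN)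
    exact ⟨x, hx.trans (cj_mono x hTM)⟩
  obtain ⟨L, hL⟩ := (Set.toFinite {X : Subgroup H | R₁ ⊔ A ≤ X ∧ X ≤ normalizer (R₁ : Set H) ∧
    ∀ y, ¬ X ≤ cj y M}).exists_minimal ⟨_, sup_le le_normalizer hAN, le_rfl, hNR₁⟩
  obtain ⟨hRAL, hLN, hLM⟩ := hL.1
  have hR₁O : R₁ ≤ Cfsg.pCoreOf p L := by
    have hn : (R₁.subgroupOf L).Normal := normal_subgroupOf_of_le_normalizer hLN
    intro x hx
    exact ⟨⟨x, hRAL (mem_sup_left hx)⟩,
      le_pCore (p := p) hn (IsPGroup.comap_subtype hR₁p) hx, rfl⟩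
  have hAL : A ≤ L := le_sup_right.trans hRAL
  have hOL : Cfsg.pCoreOf p L ≤ L := map_subtype_le _
  have hON : L ≤ normalizer ((Cfsg.pCoreOf p L : Subgroup H) : Set H) := by
    haveI := pCore_normal p ↥L
    intro l hl
    rw [← cj_eq_self_iff]
    show ((Cfsg.pCore p ↥L).map L.subtype).map _ = _
    rw [map_map, show ((MulAut.conj l).toMonoidHom.comp L.subtype) =
      L.subtype.comp (MulAut.conj (⟨l, hl⟩ : ↥L)).toMonoidHom from rfl, ← map_map]
    exact congrArg _ (cj_of_mem (by rw [normalizer_eq_top]; exact mem_top _))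
  obtain ⟨g, hAg⟩ : ∃ g : H, A ⊔ Cfsg.pCoreOf p L ≤ cj g M := by
    obtain ⟨x, hx⟩ := exists_le_cj_sylow T ((T.2.to_le hAT).to_sup_of_normal_right'
      ((isPGroup_pCore p).map L.subtype) (hAL.trans hON))
    exact ⟨x, hx.trans (cj_mono x hTM)⟩
  have hgg : ∀ y, A ⊔ Cfsg.pCoreOf p L ≤ cj y M → cj y M = cj g M := fun y hy =>
    hone₁ y g (sup_le (hR₁O.trans (le_sup_right.trans hy)) (le_sup_left.trans hy))
      (sup_le (hR₁O.trans (le_sup_right.trans hAg)) (le_sup_left.trans hAg))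
  have hsmall : ∀ X : Subgroup H, A ⊔ Cfsg.pCoreOf p L ≤ X → X < L → X ≤ L ⊓ cj g M := by
    intro X hX hXL
    obtain ⟨y, hy⟩ : ∃ y, X ≤ cj y M := by
      by_contra hc
      push Not at hc
      exact hXL.not_ge (hL.2 ⟨sup_le (hR₁O.trans (le_sup_right.trans hX)) (le_sup_left.trans hX),
        hXL.le.trans hLN, hc⟩ hXL.le)
    exact le_inf hXL.le (hgg y (hX.trans hy) ▸ hy)
  refine ⟨L, sup_le hAL ?_, L ⊓ cj g M, le_inf (sup_le hAL hOL) hAg,
    lt_of_le_of_ne inf_le_left fun h => hLM g (inf_eq_left.1 h), hsmall, ⟨g, rfl⟩, ?_⟩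
  · exact (hQfix u⁻¹ ▸ cj_mono u⁻¹ hQR : Q ≤ R₁).trans (le_sup_left.trans hRAL)
  intro x hxL hx
  have hXle : A ⊔ cj x A ⊔ Cfsg.pCoreOf p L ≤ L := sup_le (sup_le hAL (cj_le_of_mem hAL hxL)) hOL
  refine hXle.eq_or_lt.resolve_right fun hlt => hx (mem_inf.2 ⟨hxL, ?_⟩)
  have h1 := (hsmall _ (sup_le (le_sup_left.trans le_sup_left) le_sup_right) hlt).trans inf_le_right
  have h2 : A ⊔ Cfsg.pCoreOf p L ≤ cj (x⁻¹ * g) M := by
    rw [cj_mul]
    have h3 : cj x (A ⊔ Cfsg.pCoreOf p L) ≤ cj g M := by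
      rw [hcjsup, cj_of_mem (hON hxL)]
      exact sup_le ((le_sup_right.trans le_sup_left).trans h1) (le_sup_right.trans h1)
    have := cj_mono x⁻¹ h3
    rwa [← cj_mul, inv_mul_cancel, cj_one] at this
  have h4 := hgg _ h2
  rw [cj_mul] at h4
  have h5 : x⁻¹ ∈ normalizer ((cj g M : Subgroup H) : Set H) := cj_eq_self_iff.1 h4
  rw [show normalizer ((cj g M : Subgroup H) : Set H) = cj g (normalizer (M : Set H)) from
    (map_equiv_normalizer_eq M (MulAut.conj g)).symm, hself] at h5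
  simpa using inv_mem h5

end Cfsg.Agent.S2834
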