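import Cfsg.Statements.S2835
import Cfsg.Agent.Lib.YMinimal.Basic
import Cfsg.Agent.Lib.PReduced.Basic

set_option autoImplicit false
open Cfsg

namespace Cfsg.Agent.S2835

open Subgroup Cfsg.Agent.PReduced Cfsg.Agent.WeaklyClosed
open scoped commutatorElement

/-- Let L be a finite group, L₀ a maximal subgroup, T a Sylow p-subgroup of L₀ and Y ≤ T, and suppose L is Y-minimal (generated by the conjugates of Y, with Y in exactly one maximal subgroup, necessarily L₀). Then N_L(T) ≤ L₀, O_p(L) ≤ L₀ and T is a Sylow p-subgroup of L; N_L(L₀) = L₀; L = ⟨Y, gYg⁻¹⟩ for each g ∈ L outside L₀; and if Y is abelian then Y ∩ gYg⁻¹ = C_Y(L) for each such g. -/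
theorem result {L : Type*} [Group L] [Finite L] {p : ℕ} [Fact p.Prime] (L₀ : Subgroup L) (hL₀ : IsCoatom L₀) (T : Sylow p ↥L₀) (Y : Subgroup L) (hYT : Y ≤ (T : Subgroup ↥L₀).map L₀.subtype) (hmin : Cfsg.IsMinimalOver Y) : Subgroup.normalizer (((T : Subgroup ↥L₀).map L₀.subtype : Subgroup L) : Set L) ≤ L₀ ∧ Cfsg.pCore p L ≤ L₀ ∧ (∃ P : Sylow p L, (P : Subgroup L) = (T : Subgroup ↥L₀).map L₀.subtype) ∧ Subgroup.normalizer (L₀ : Set L) = L₀ ∧ (∀ g : L, g ∉ L₀ → Y ⊔ Y.map (MulAut.conj g).toMonoidHom = ⊤) ∧ (IsMulCommutative ↥Y → ∀ g : L, g ∉ L₀ → Y ⊓ Y.map (MulAut.conj g).toMonoidHom = Y ⊓ Subgroup.center L) := by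
  have hT₀ : (T : Subgroup ↥L₀).map L₀.subtype ≤ L₀ := map_subtype_le _
  have hY : Y ≤ L₀ := hYT.trans hT₀
  obtain ⟨P, hP⟩ := YMinimal.exists_sylow_eq hmin hL₀ T hYT
  refine ⟨YMinimal.normalizer_sylow_le hmin hL₀ hT₀ hYT, ?_, ⟨P, hP⟩,
    YMinimal.normalizer_eq_self hmin hL₀ hY,
    fun g hg => YMinimal.sup_conj_eq_top hmin hL₀ hY hg, fun hab g hg => ?_⟩
  · exact (PReduced.pCore_le_sylow P).trans (hP ▸ hT₀)
  · have htop := YMinimal.sup_conj_eq_top hmin hL₀ hY hg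
    refine le_antisymm (le_inf inf_le_left fun w hw => ?_) fun w hw => ?_
    · have h1 : cj g Y ≤ centralizer {w} := by
        obtain ⟨w', hw', e⟩ := (mem_inf.1 hw).2
        rintro _ ⟨y, hy, rfl⟩
        rw [mem_centralizer_singleton_iff, ← e, ← map_mul, ← map_mul,
          commute_of_isMulCommutative hab hy hw']
      have h2 : Y ≤ centralizer {w} := fun y hy =>
        mem_centralizer_singleton_iff.2 (commute_of_isMulCommutative hab hy (mem_inf.1 hw).1)
      refine mem_center_iff.2 fun x => mem_centralizer_singleton_iff.1 ((htop ▸ sup_le h2 h1) (mem_top x))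
    · obtain ⟨hwY, hwZ⟩ := mem_inf.1 hw
      refine mem_inf.2 ⟨hwY, w, hwY, ?_⟩
      show g * w * g⁻¹ = w
      rw [mem_center_iff.1 hwZ g, mul_inv_cancel_right]

end Cfsg.Agent.S2835
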