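import Cfsg.Statements.S2836
import Cfsg.Agent.Lib.YMinimal.Basic
import Cfsg.Agent.Lib.PIrred.Basic
import Cfsg.Agent.Lib.PGroup.Basic

set_option autoImplicit false
open Cfsg

namespace Cfsg.Agent.S2836

open Subgroup Cfsg.Agent.PReduced Cfsg.Agent.WeaklyClosed
open scoped commutatorElement

/-- Let L be a finite group, L₀ a maximal subgroup, T a Sylow p-subgroup of L₀, Y ≤ T, and suppose L is Y-minimal. Let D be the intersection of the conjugates of L₀ (the core of L₀). Then D contains O_p(L) and D/O_p(L) is the Frattini subgroup of L/O_p(L), so D is p-closed; and every normal subgroup N of L contained in L₀ is p-closed with N/O_p(N) a nilpotent group of order prime to p. -/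
theorem result {L : Type*} [Group L] [Finite L] {p : ℕ} [Fact p.Prime] (L₀ : Subgroup L) (hL₀ : IsCoatom L₀) (T : Sylow p ↥L₀) (Y : Subgroup L) (hYT : Y ≤ (T : Subgroup ↥L₀).map L₀.subtype) (hmin : Cfsg.IsMinimalOver Y) : (Cfsg.pCore p L ≤ L₀.normalCore ∧ (L₀.normalCore).map (QuotientGroup.mk' (Cfsg.pCore p L)) = frattini (L ⧸ Cfsg.pCore p L) ∧ Cfsg.IsPClosed p ↥(L₀.normalCore)) ∧ ∀ (N : Subgroup L) [N.Normal], N ≤ L₀ → Cfsg.IsPClosed p ↥N ∧ Group.IsNilpotent (↥N ⧸ Cfsg.pCore p ↥N) ∧ (Nat.card (↥N ⧸ Cfsg.pCore p ↥N)).Coprime p := by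
  have hT₀ : (T : Subgroup ↥L₀).map L₀.subtype ≤ L₀ := map_subtype_le _
  have hY : Y ≤ L₀ := hYT.trans hT₀
  obtain ⟨P, hP⟩ := YMinimal.exists_sylow_eq hmin hL₀ T hYT
  have hPL : (P : Subgroup L) ≤ L₀ := hP ▸ hT₀
  have hYP : Y ≤ (P : Subgroup L) := hP ▸ hYT
  set Q := Cfsg.pCore p L with hQ
  haveI := PReduced.pCore_normal p L
  have hclosed : ∀ (N : Subgroup L) [N.Normal], N ≤ L₀ → Cfsg.IsPClosed p ↥N := by
    intro N _ hN
    refine PIrred.isPClosed_of_sylow_inf_le P ?_
    set R := normalizer (((P : Subgroup L) ⊓ N : Subgroup L) : Set L) with hR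
    have hPR : (P : Subgroup L) ≤ R :=
      (le_inf le_normalizer (le_normalizer_of_normal (H := N))).trans inf_normalizer_le_normalizer_inf
    rcases YMinimal.eq_top_or_le hmin hL₀ hY (hYP.trans hPR) with h | h
    · exact PReduced.le_pCore (normalizer_eq_top_iff.1 h) (P.2.to_le inf_le_left)
    · exact absurd (top_le_iff.1 ((PReduced.frattini_sylow_inf P N).ge.trans (sup_le h hN))) hL₀.1
  have hcop : ∀ (N : Subgroup L) [N.Normal], N ≤ L₀ →
      (Nat.card (↥N ⧸ Cfsg.pCore p ↥N)).Coprime p := by
    intro N _ hN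
    obtain ⟨S⟩ : Nonempty (Sylow p ↥N) := inferInstance
    have h1 : (S : Subgroup ↥N) = Cfsg.pCore p ↥N :=
      le_antisymm ((PIrred.isPClosed_iff S).1 (hclosed N hN)) (PReduced.pCore_le_sylow S)
    rw [← index_eq_card, ← h1]
    exact ((Fact.out : p.Prime).coprime_iff_not_dvd.2 S.not_dvd_index).symm
  set K := L₀.normalCore with hK
  have hKL : K ≤ L₀ := normalCore_le L₀
  have hQK : Q ≤ K := normal_le_normalCore.2 ((PReduced.pCore_le_sylow P).trans hPL)
  set π := QuotientGroup.mk' Q with hπ
  have hπs : Function.Surjective π := QuotientGroup.mk'_surjective Q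
  have hcoat : ∀ M : Subgroup L, Q ≤ M → (IsCoatom (M.map π) ↔ IsCoatom M) := by
    intro M hM
    have hcm : (M.map π).comap π = M := by rw [comap_map_eq, hπ, QuotientGroup.ker_mk', sup_eq_left.2 hM]
    constructor
    · intro h
      refine ⟨fun e => h.1 (by rw [e, map_top_of_surjective π hπs]), fun J hJ => ?_⟩
      have hkJ : π.ker ≤ J := by rw [hπ, QuotientGroup.ker_mk']; exact hM.trans hJ.le
      have h2 : M.map π < J.map π := lt_of_le_of_ne (map_mono hJ.le) fun e => hJ.ne (by
        have e' := congrArg (Subgroup.comap π) e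
        rwa [hcm, comap_map_eq, sup_eq_left.2 hkJ] at e')
      have e' := congrArg (Subgroup.comap π) (h.2 _ h2)
      rwa [comap_map_eq, sup_eq_left.2 hkJ, comap_top] at e'
    · intro h
      refine ⟨fun e => h.1 (by rw [← hcm, e, comap_top]), fun J hJ => ?_⟩
      have h2 : M < J.comap π := hcm ▸ (comap_lt_comap_of_surjective hπs).2 hJ
      rw [← map_comap_eq_self_of_surjective hπs J, h.2 _ h2, map_top_of_surjective π hπs]
  have hfr : K.map π = frattini (L ⧸ Q) := by
    refine le_antisymm ?_ ?_
    · refine PGroup.le_frattini fun M hM => ?_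
      have hMQ : Q ≤ M.comap π := fun x hx => by
        show π x ∈ M
        rw [show π x = 1 from (QuotientGroup.eq_one_iff x).2 hx]; exact one_mem _
      have hMc : IsCoatom (M.comap π) := (hcoat _ hMQ).1 (by
        rw [map_comap_eq_self_of_surjective hπs]; exact hM)
      rw [map_le_iff_le_comap]
      by_contra hKM
      set M' := M.comap π with hM'
      have htop : M' ⊔ K = ⊤ := hMc.2 _ (lt_of_le_of_ne le_sup_left fun e => hKM (e ▸ le_sup_right))
      have hidx : M'.index = M'.relIndex K := by
        have e1 := card_mul_index M'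
        have e2 := relIndex_mul_relIndex (M' ⊓ K) M' ⊤ inf_le_left le_top
        have e3 := relIndex_mul_relIndex (M' ⊓ K) K ⊤ inf_le_right le_top
        rw [inf_relIndex_left, ← e3, inf_relIndex_right, relIndex_top_right, relIndex_top_right,
          mul_comm (M'.relIndex K)] at e2
        have e4 : K.relIndex M' = K.index := by
          rw [← relIndex_sup_right M' K, htop, relIndex_top_right]
        rw [e4] at e2
        exact Nat.eq_of_mul_eq_mul_left (Nat.pos_of_ne_zero index_ne_zero_of_finite) e2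
      have hnd : ¬ p ∣ M'.index := by
        rw [hidx]
        intro hd
        have h1 : Q.relIndex K = (Cfsg.pCore p ↥K).index := by
          have := Cores.pCore_map_subtype K p
          show (Q.subgroupOf K).index = _
          congr 1
          apply map_injective K.subtype_injective
          rw [this, subgroupOf_map_subtype]
        have h2 := hd.trans (relIndex_dvd_of_le_left K hMQ)
        rw [h1, index_eq_card] at h2
        exact ((Fact.out : p.Prime).coprime_iff_not_dvd.1 (hcop K hKL).symm) h2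
      obtain ⟨S⟩ : Nonempty (Sylow p ↥M') := inferInstance
      have hS : IsPGroup p ↥((S : Subgroup ↥M').map M'.subtype) := S.2.map _
      obtain ⟨S', hS'⟩ : ∃ S' : Sylow p L, (S' : Subgroup L) = (S : Subgroup ↥M').map M'.subtype :=
        ⟨hS.toSylow (fun hd => by
          rw [index_map_subtype] at hd
          exact ((Fact.out : p.Prime).dvd_mul.1 hd).elim S.not_dvd_index hnd), rfl⟩
      obtain ⟨g, hg⟩ := MulAction.exists_smul_eq L S' P
      have h3 : cj g (S' : Subgroup L) = (P : Subgroup L) := congrArg Sylow.toSubgroup hg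
      have h4 : cj g M' = L₀ := YMinimal.eq_of_le hmin hL₀ hY (YMinimal.isCoatom_cj hMc g)
        (hYP.trans (h3 ▸ cj_mono g (hS' ▸ map_subtype_le _)))
      refine hKM fun x hx => ?_
      have hx' : g * x * g⁻¹ ∈ L₀ := hKL ((normalCore_normal L₀).conj_mem x hx g)
      rw [← h4, mem_cj] at hx'
      simpa [mul_assoc] using hx'
    · have h1 : (frattini (L ⧸ Q)).comap π ≤ K := by
        haveI : ((frattini (L ⧸ Q)).comap π).Normal := (inferInstance : (frattini (L ⧸ Q)).Normal).comap π
        refine normal_le_normalCore.2 ?_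
        have hQL : Q ≤ L₀ := hQK.trans hKL
        refine (Subgroup.comap_mono (frattini_le_coatom ((hcoat L₀ hQL).2 hL₀))).trans ?_
        rw [comap_map_eq, hπ, QuotientGroup.ker_mk', sup_eq_left.2 hQL]
      rw [← map_comap_eq_self_of_surjective hπs (frattini (L ⧸ Q))]
      exact map_mono h1
  refine ⟨⟨hQK, hfr, hclosed K hKL⟩, fun N hNn hN => ⟨hclosed N hN, ?_, hcop N hN⟩⟩
  have hNK : N ≤ K := normal_le_normalCore.2 hN
  let f : ↥N →* ↥(frattini (L ⧸ Q)) := (π.comp N.subtype).codRestrict _ fun n =>
    hfr ▸ mem_map_of_mem π (hNK n.2)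
  haveI : Group.IsNilpotent ↥(frattini (L ⧸ Q)) := frattini_nilpotent
  haveI : Group.IsNilpotent ↥f.range := inferInstance
  have hker : f.ker ≤ Cfsg.pCore p ↥N := fun n hn => by
    have h1 : π (n : L) = 1 := congrArg Subtype.val hn
    have h2 : (n : L) ∈ (Cfsg.pCore p ↥N).map N.subtype := by
      rw [Cores.pCore_map_subtype N p]
      exact mem_inf.2 ⟨(QuotientGroup.eq_one_iff _).1 h1, n.2⟩
    obtain ⟨n', hn', e⟩ := h2
    exact (Subtype.ext e : n' = n) ▸ hn'
  haveI : Group.IsNilpotent (↥N ⧸ f.ker) :=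
    Group.nilpotent_of_surjective (QuotientGroup.quotientKerEquivRange f).symm.toMonoidHom
      (QuotientGroup.quotientKerEquivRange f).symm.surjective
  exact Group.nilpotent_of_surjective (QuotientGroup.map f.ker _ (MonoidHom.id _) hker)
    (QuotientGroup.map_surjective_of_surjective _ _ _ (fun q => by
      induction q using QuotientGroup.induction_on with
      | H x => exact ⟨x, rfl⟩) hker)

end Cfsg.Agent.S2836
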