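import Cfsg.Statements.S2837
import Cfsg.Agent.Lib.YMinimal.Basic
import Cfsg.Agent.Lib.Cores.Frattini

set_option autoImplicit false
open Cfsg

namespace Cfsg.Agent.S2837

open Subgroup Cfsg.Agent.PReduced
open scoped commutatorElement

/-- Let L be a finite group of characteristic p, L₀ a maximal subgroup, Y an elementary abelian p-subgroup of L₀ with L Y-minimal and O_p(L) ≤ N_L(Y). Put A = the normal closure of O_p(L) ∩ Y in L. Then for every g ∈ L outside L₀: Φ(A) = A' = [A ∩ Y, A] = [A ∩ Y, A ∩ gYg⁻¹] ≤ C_Y(L), and Y ∩ gYg⁻¹ = (A ∩ Y) ∩ (A ∩ gYg⁻¹) = C_Y(L) = C_A(L). -/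
theorem result {L : Type*} [Group L] [Finite L] {p : ℕ} [Fact p.Prime] (hchar : Subgroup.centralizer (Cfsg.pCore p L : Set L) ≤ Cfsg.pCore p L) (L₀ : Subgroup L) (hL₀ : IsCoatom L₀) (Y : Subgroup L) (hYL₀ : Y ≤ L₀) (hYel : Cfsg.IsElementaryAbelian p Y) (hmin : Cfsg.IsMinimalOver Y) (hOY : Cfsg.pCore p L ≤ Subgroup.normalizer (Y : Set L)) (A : Subgroup L) (hA : A = Subgroup.normalClosure (((Cfsg.pCore p L ⊓ Y : Subgroup L)) : Set L)) (g : L) (hg : g ∉ L₀) : (frattini ↥A).map A.subtype = ⁅A, A⁆ ∧ ⁅A, A⁆ = ⁅A ⊓ Y, A⁆ ∧ ⁅A ⊓ Y, A⁆ = ⁅A ⊓ Y, A ⊓ Y.map (MulAut.conj g).toMonoidHom⁆ ∧ ⁅A ⊓ Y, A⁆ ≤ Y ⊓ Subgroup.center L ∧ Y ⊓ Y.map (MulAut.conj g).toMonoidHom = Y ⊓ Subgroup.center L ∧ (A ⊓ Y) ⊓ (A ⊓ Y.map (MulAut.conj g).toMonoidHom) = Y ⊓ Subgroup.center L ∧ A ⊓ Subgroup.center L = Y ⊓ Subgroup.center L := by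
  set Q := Cfsg.pCore p L with hQ
  haveI hQn : Q.Normal := PReduced.pCore_normal p L
  set Yg := Y.map (MulAut.conj g).toMonoidHom with hYg
  set Z := Subgroup.center L with hZ
  set B := Q ⊓ Y with hB
  set B' := Q ⊓ Yg with hB'
  have hYab : ∀ a ∈ Y, ∀ b ∈ Y, a * b = b * a := fun a ha b hb =>
    commute_of_isMulCommutative hYel.1 ha hb
  have hYgab : ∀ a ∈ Yg, ∀ b ∈ Yg, a * b = b * a := by
    rintro _ ⟨a, ha, rfl⟩ _ ⟨b, hb, rfl⟩
    rw [← map_mul, ← map_mul, hYab a ha b hb]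
  have htop : Y ⊔ Yg = ⊤ := YMinimal.sup_conj_eq_top hmin hL₀ hYL₀ hg
  have hcentre : ∀ x : L, (∀ y ∈ Y, y * x = x * y) → (∀ y ∈ Yg, y * x = x * y) → x ∈ Z := by
    intro x h1 h2
    refine mem_center_iff.2 fun l => ?_
    have h3 : (⊤ : Subgroup L) ≤ centralizer ({x} : Set L) := htop ▸ sup_le
      (fun y hy => mem_centralizer_singleton_iff.2 (h1 y hy))
      (fun y hy => mem_centralizer_singleton_iff.2 (h2 y hy))
    exact mem_centralizer_singleton_iff.1 (h3 (mem_top l))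
  have hfix : ∀ z ∈ Z, g * z * g⁻¹ = z := fun z hz => by
    rw [mem_center_iff.1 hz g, mul_inv_cancel_right]
  have hinf : Y ⊓ Yg = Y ⊓ Z := by
    refine le_antisymm (fun x hx => mem_inf.2 ⟨hx.1, hcentre x (fun y hy => hYab y hy x hx.1)
      (fun y hy => hYgab y hy x hx.2)⟩) fun x hx => mem_inf.2 ⟨hx.1, x, hx.1, hfix x hx.2⟩
  have hZQ : Z ≤ Q := le_trans (fun z hz => mem_centralizer_iff.2 fun q _ => mem_center_iff.1 hz q) hchar
  -- `[Y, Q] ≤ B` and its conjugate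
  have hYQ : ∀ y ∈ Y, ∀ q ∈ Q, y * q * y⁻¹ * q⁻¹ ∈ B := fun y hy q hq => mem_inf.2
    ⟨mul_mem (hQn.conj_mem q hq y) (inv_mem hq), by
      rw [show y * q * y⁻¹ * q⁻¹ = y * (q * y⁻¹ * q⁻¹) by group]
      exact mul_mem hy ((mem_normalizer_iff.1 (hOY hq) _).1 (inv_mem hy))⟩
  have hOYg : Q ≤ normalizer (Yg : Set L) := by
    have h := WeaklyClosed.cj_mono g hOY
    rw [WeaklyClosed.cj_of_mem (by rw [normalizer_eq_top]; exact mem_top g)] at h
    exact h.trans (le_of_eq (map_equiv_normalizer_eq Y (MulAut.conj g)))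
  have hYgQ : ∀ y ∈ Yg, ∀ q ∈ Q, y * q * y⁻¹ * q⁻¹ ∈ B' := fun y hy q hq => mem_inf.2
    ⟨mul_mem (hQn.conj_mem q hq y) (inv_mem hq), by
      rw [show y * q * y⁻¹ * q⁻¹ = y * (q * y⁻¹ * q⁻¹) by group]
      exact mul_mem hy ((mem_normalizer_iff.1 (hOYg hq) _).1 (inv_mem hy))⟩
  have hB'conj : B' = WeaklyClosed.cj g B := by
    rw [hB', hB, WeaklyClosed.cj, map_inf _ _ _ (MulAut.conj g).injective, ← hYg]
    congr 1
    exact (WeaklyClosed.cj_of_mem (Q := Q) (by rw [normalizer_eq_top]; exact mem_top g)).symm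
  -- `A = B ⊔ B'`
  have hnorm : ∀ (U : Subgroup L) (C C' : Subgroup L), (∀ u ∈ U, ∀ x ∈ C, u * x * u⁻¹ ∈ C) →
      (∀ u ∈ U, ∀ q ∈ C', u * q * u⁻¹ * q⁻¹ ∈ C) →
      U ≤ normalizer ((C ⊔ C' : Subgroup L) : Set L) := by
    intro U C C' h1 h2 u hu
    refine WeaklyClosed.mem_normalizer_of_cj_le ?_
    show (C ⊔ C').map _ ≤ _
    rw [Subgroup.map_sup]
    refine sup_le ?_ ?_
    · rintro _ ⟨x, hx, rfl⟩
      exact mem_sup_left (h1 u hu x hx)
    · rintro _ ⟨x, hx, rfl⟩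
      show u * x * u⁻¹ ∈ _
      rw [show u * x * u⁻¹ = (u * x * u⁻¹ * x⁻¹) * x by group]
      exact mul_mem (mem_sup_left (h2 u hu x hx)) (mem_sup_right hx)
  have hnY : Y ≤ normalizer ((B ⊔ B' : Subgroup L) : Set L) := hnorm Y B B'
    (fun u hu x hx => by rw [hYab u hu x hx.2, mul_inv_cancel_right]; exact hx)
    (fun u hu q hq => hYQ u hu q hq.1)
  have hnYg : Yg ≤ normalizer ((B ⊔ B' : Subgroup L) : Set L) := by
    rw [sup_comm B]
    exact hnorm Yg B' B (fun u hu x hx => by rw [hYgab u hu x hx.2, mul_inv_cancel_right]; exact hx)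
      (fun u hu q hq => hYgQ u hu q hq.1)
  haveI : (B ⊔ B').Normal := normalizer_eq_top_iff.1 (top_le_iff.1 (htop ▸ sup_le hnY hnYg))
  haveI : A.Normal := hA ▸ normalClosure_normal
  have hBA : B ≤ A := hA ▸ le_normalClosure
  have hB'A : B' ≤ A := by
    rw [hB'conj]
    exact (WeaklyClosed.cj_mono g hBA).trans
      (WeaklyClosed.cj_of_mem (by rw [normalizer_eq_top]; exact mem_top g)).le
  have hAeq : A = B ⊔ B' :=
    le_antisymm (hA ▸ normalClosure_le_normal (fun x hx => mem_sup_left hx)) (sup_le hBA hB'A)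
  have hAQ : A ≤ Q := hAeq ▸ sup_le inf_le_left inf_le_left
  have hAY : A ⊓ Y = B := le_antisymm (inf_le_inf_right _ hAQ) (le_inf hBA inf_le_right)
  have hAYg : A ⊓ Yg = B' := le_antisymm (inf_le_inf_right _ hAQ) (le_inf hB'A inf_le_right)
  rw [hAY, hAYg]
  -- elements of `A`
  have hBB' : B ≤ normalizer (B' : Set L) := by
    intro b hb
    refine WeaklyClosed.mem_normalizer_of_cj_le ?_
    rintro _ ⟨x, hx, rfl⟩
    exact mem_inf.2 ⟨hQn.conj_mem x hx.1 b, (mem_normalizer_iff.1 (hOYg hb.1) x).1 hx.2⟩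
  have hdec : ∀ x ∈ A, ∃ b ∈ B, ∃ c ∈ B', x = b * c := by
    intro x hx
    rw [hAeq] at hx
    have hx' : x ∈ ((B ⊔ B' : Subgroup L) : Set L) := hx
    rw [coe_mul_of_left_le_normalizer_right B B' hBB'] at hx'
    obtain ⟨b, hb, c, hc, rfl⟩ := Set.mem_mul.1 hx'
    exact ⟨b, hb, c, hc, rfl⟩
  set C := ⁅B, B'⁆ with hC
  have hCz : C ≤ Y ⊓ Z := by
    rw [← hinf]
    refine commutator_le.2 fun b hb c hc => ⟨(hYQ b hb.2 c hc.1).2, ?_⟩
    show b * c * b⁻¹ * c⁻¹ ∈ Yg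
    exact mul_mem ((mem_normalizer_iff.1 (hOYg hb.1) c).1 hc.2) (inv_mem hc.2)
  have hsub : A ⊓ Z = Y ⊓ Z := by
    refine le_antisymm ?_ (le_inf ((le_inf (inf_le_right.trans hZQ) inf_le_left).trans hBA) inf_le_right)
    intro x hx
    obtain ⟨b, hb, c, hc, rfl⟩ := hdec x hx.1
    have hcZ : c ∈ Z := hcentre c (fun y hy => by
        have h1 := mem_center_iff.1 hx.2 y
        have h2 := hYab y hy b hb.2
        calc y * c = b⁻¹ * (b * y) * c := by group
          _ = b⁻¹ * (y * (b * c)) := by rw [← h2]; group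
          _ = c * y := by rw [h1]; group)
      (fun y hy => hYgab y hy c hc.2)
    obtain ⟨z, hz, he⟩ := hc.2
    have hzc : z = c := by
      have h1 : g * z * g⁻¹ = g * c * g⁻¹ := he.trans (hfix c hcZ).symm
      simpa using h1
    exact mem_inf.2 ⟨mul_mem hb.2 (hzc ▸ hz), hx.2⟩
  -- commutators
  have hCcent : ∀ c ∈ C, ∀ l : L, l * c = c * l := fun c hc l => mem_center_iff.1 (hCz hc).2 l
  haveI hCn : C.Normal := ⟨fun c hc l => by rw [hCcent c hc l, mul_inv_cancel_right]; exact hc⟩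
  set π := QuotientGroup.mk' C with hπ
  have hπc : ∀ b ∈ B, ∀ c ∈ B', π b * π c = π c * π b := by
    intro b hb c hc
    have h1 : π ⁅b, c⁆ = 1 := (QuotientGroup.eq_one_iff _).2 (commutator_mem_commutator hb hc)
    rwa [map_commutatorElement, commutatorElement_eq_one_iff_mul_comm] at h1
  have hπA : ∀ x ∈ A, ∀ y ∈ A, π x * π y = π y * π x := by
    intro x hx y hy
    obtain ⟨b, hb, c, hc, rfl⟩ := hdec x hx
    obtain ⟨b', hb', c', hc', rfl⟩ := hdec y hy
    have h1 : Commute (π b) (π b') := by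
      show _ = _
      rw [← map_mul, ← map_mul, hYab b hb.2 b' hb'.2]
    have h2 : Commute (π c) (π c') := by
      show _ = _
      rw [← map_mul, ← map_mul, hYgab c hc.2 c' hc'.2]
    have h3 : Commute (π b) (π c') := hπc b hb c' hc'
    have h4 : Commute (π c) (π b') := (hπc b' hb' c hc).symm
    rw [map_mul, map_mul]
    exact (h1.mul_right h3).mul_left (h4.mul_right h2)
  have hAA : ⁅A, A⁆ ≤ C := commutator_le.2 fun x hx y hy => by
    refine (QuotientGroup.eq_one_iff _).1 ?_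
    show π ⁅x, y⁆ = 1
    rw [map_commutatorElement, commutatorElement_eq_one_iff_mul_comm]
    exact hπA x hx y hy
  have e1 : ⁅A, A⁆ = ⁅B, A⁆ := le_antisymm (hAA.trans (commutator_mono le_rfl hB'A))
    (commutator_mono hBA le_rfl)
  have e2 : ⁅B, A⁆ = C := le_antisymm ((commutator_mono hBA le_rfl).trans hAA)
    (commutator_mono le_rfl hB'A)
  have hAp : IsPGroup p ↥A := (PReduced.isPGroup_pCore p).to_le hAQ
  haveI := hAp.isNilpotent
  refine ⟨le_antisymm ?_ ?_, e1, e2, e2.le.trans hCz, hinf, ?_, hsub⟩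
  · refine map_le_iff_le_comap.2 (Cores.frattini_le_of_pGroup (p := p) _ ?_ fun x => ?_)
    · rw [← map_le_iff_le_comap, _root_.commutator_def, map_commutator, ← MonoidHom.range_eq_map,
        range_subtype]
    · show ((x ^ p : ↥A) : L) ∈ ⁅A, A⁆
      rw [e1, e2, SubgroupClass.coe_pow]
      obtain ⟨b, hb, c, hc, he⟩ := hdec x x.2
      refine (QuotientGroup.eq_one_iff _).1 ?_
      show π ((x : L) ^ p) = 1
      have hc' : Commute (π b) (π c) := hπc b hb c hc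
      rw [he, map_pow, map_mul, hc'.mul_pow, ← map_pow, ← map_pow, hYel.2 b hb.2]
      obtain ⟨z, hz, rfl⟩ := hc.2
      rw [← map_pow (MulAut.conj g).toMonoidHom, hYel.2 z hz]
      simp
  · have h := map_mono (f := A.subtype) (Cores.commutator_le_frattini (G := ↥A))
    rwa [_root_.commutator_def, map_commutator, ← MonoidHom.range_eq_map, range_subtype] at h
  · refine le_antisymm ?_ ?_
    · exact le_trans (inf_le_inf inf_le_right inf_le_right) hinf.le
    · rw [← hinf]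
      refine le_inf (le_inf ?_ inf_le_left) (le_inf ?_ inf_le_right)
      all_goals exact hinf.le.trans (inf_le_right.trans hZQ)

end Cfsg.Agent.S2837
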