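import Cfsg.Statements.S2838
import Cfsg.Agent.Lib.WeaklyClosed.Basic

set_option autoImplicit false
open Cfsg

namespace Cfsg.Agent.S2838

open Subgroup Cfsg.Agent.PReduced Cfsg.Agent.WeaklyClosed
open scoped commutatorElement

/-- For a nontrivial p-subgroup Q of a finite group H the following are equivalent: Q is a weakly closed subgroup (it is the only H-conjugate of itself inside some Sylow p-subgroup containing it); Q = P for every conjugate P of Q with [Q, P] ≤ Q ∩ P; Q is normal in N_H(R) for every p-subgroup R of H containing Q. -/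
theorem result {H : Type*} [Group H] [Finite H] {p : ℕ} [Fact p.Prime] (Q : Subgroup H) (hQp : IsPGroup p ↥Q) (hQ1 : Q ≠ ⊥) : (Cfsg.IsWeaklyClosedSubgroup p Q ↔ ∀ g : H, ⁅Q, ((Q : Subgroup H).map (MulAut.conj (g : H)).toMonoidHom)⁆ ≤ Q ⊓ ((Q : Subgroup H).map (MulAut.conj (g : H)).toMonoidHom) → ((Q : Subgroup H).map (MulAut.conj (g : H)).toMonoidHom) = Q) ∧ (Cfsg.IsWeaklyClosedSubgroup p Q ↔ ∀ R : Subgroup H, IsPGroup p ↥R → Q ≤ R → Subgroup.normalizer ((R : Subgroup H) : Set H) ≤ Subgroup.normalizer ((Q : Subgroup H) : Set H)) := by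
  refine ⟨⟨fun hwc g hg => ?_, fun h => ?_⟩, ⟨fun hwc R hR hQR => le_normalizer_of_le hwc hR hQR,
    fun h => ?_⟩⟩
  · show cj g Q = Q
    have hn : cj g Q ≤ normalizer (Q : Set H) := by
      intro r hr
      refine mem_normalizer_of_cj_le ?_
      rintro _ ⟨q, hq, rfl⟩
      have h1 : ⁅q, r⁆ ∈ Q := (hg (commutator_mem_commutator hq hr)).1
      show r * q * r⁻¹ ∈ Q
      have h2 : r * q * r⁻¹ = ⁅q, r⁆⁻¹ * q := by rw [commutatorElement_def]; group
      rw [h2]; exact mul_mem (inv_mem h1) hq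
    have hp : IsPGroup p ↥(Q ⊔ cj g Q) :=
      hQp.to_sup_of_normal_left' (hQp.map (MulAut.conj g).toMonoidHom) hn
    exact eq_of_le hwc hp le_sup_left le_sup_right
  · have hnorm : ∀ R : Subgroup H, IsPGroup p ↥R → Q ≤ R → R ≤ normalizer (Q : Set H) := by
      intro R hR hQR
      by_contra hne
      set M := R ⊓ normalizer (Q : Set H) with hM
      have hlt : M.subgroupOf R < normalizer ((M.subgroupOf R : Subgroup ↥R) : Set ↥R) := by
        haveI := hR.isNilpotent
        refine normalizerCondition_of_isNilpotent _ (lt_of_le_of_ne le_top fun h => hne ?_)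
        exact (subgroupOf_eq_top.1 h).trans inf_le_right
      obtain ⟨t, ht, htM⟩ := SetLike.exists_of_lt hlt
      have htN : (t : H) ∉ normalizer (Q : Set H) := fun h =>
        htM (mem_subgroupOf.2 (mem_inf.2 ⟨t.2, h⟩))
      refine htN (cj_eq_self_iff.1 (h (t : H) ?_))
      have hconj : ∀ y ∈ M, (t : H) * y * (t : H)⁻¹ ∈ M := by
        intro y hy
        exact (mem_normalizer_iff.1 ht ⟨y, (mem_inf.1 hy).1⟩).1 hy
      have hQM : Q ≤ M := le_inf hQR le_normalizer
      rw [commutator_le]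
      rintro q hq _ ⟨q', hq', rfl⟩
      show ⁅q, (t : H) * q' * (t : H)⁻¹⁆ ∈ Q ⊓ cj t Q
      have h1 : (t : H) * q' * (t : H)⁻¹ ∈ normalizer (Q : Set H) :=
        (mem_inf.1 (hconj q' (hQM hq'))).2
      have h2 : q ∈ normalizer ((cj (t : H) Q : Subgroup H) : Set H) := by
        refine mem_normalizer_of_cj_le ?_
        rintro _ ⟨_, ⟨q'', hq'', rfl⟩, rfl⟩
        have h3 : (t : H)⁻¹ * q * t ∈ M := by
          have h3' := (mem_normalizer_iff.1 (inv_mem ht) ⟨q, hQR hq⟩).1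
            (show (⟨q, hQR hq⟩ : ↥R) ∈ M.subgroupOf R from hQM hq)
          simpa [mem_subgroupOf] using h3'
        exact ⟨((t : H)⁻¹ * q * t) * q'' * ((t : H)⁻¹ * q * t)⁻¹,
          (mem_normalizer_iff.1 (mem_inf.1 h3).2 q'').1 hq'', by simp [mul_assoc]⟩
      rw [commutatorElement_def]
      refine mem_inf.2 ⟨?_, ?_⟩
      · have h4 := (mem_normalizer_iff.1 h1 q⁻¹).1 (inv_mem hq)
        have e : q * ((t : H) * q' * (t : H)⁻¹) * q⁻¹ * ((t : H) * q' * (t : H)⁻¹)⁻¹ =
          q * (((t : H) * q' * (t : H)⁻¹) * q⁻¹ * ((t : H) * q' * (t : H)⁻¹)⁻¹) := by group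
        rw [e]; exact mul_mem hq h4
      · exact mul_mem ((mem_normalizer_iff.1 h2 _).1 (conj_mem_cj hq')) (inv_mem (conj_mem_cj hq'))
    obtain ⟨T, hT⟩ := hQp.exists_le_sylow
    refine ⟨T, hT, fun g hg => h g ?_⟩
    have h1 : Q ≤ normalizer ((cj g Q : Subgroup H) : Set H) := by
      intro q hq
      have hP : cj g⁻¹ (T : Subgroup H) ≤ normalizer (Q : Set H) := by
        refine hnorm _ (T.2.map _) ?_
        have := cj_mono g⁻¹ (show cj g Q ≤ (T : Subgroup H) from hg)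
        rwa [← cj_mul, inv_mul_cancel, cj_one] at this
      have h2 : g⁻¹ * q * g ∈ normalizer (Q : Set H) := hP (by
        rw [mem_cj]; simpa [mul_assoc] using hT hq)
      rw [← cj_eq_self_iff] at h2 ⊢
      calc cj q (cj g Q) = cj g (cj (g⁻¹ * q * g) Q) := by
            rw [← cj_mul, ← cj_mul]; congr 1; group
        _ = cj g Q := by rw [h2]
    show ⁅Q, cj g Q⁆ ≤ Q ⊓ cj g Q
    refine commutator_le.2 fun q hq r hr => ?_
    rw [commutatorElement_def]
    refine mem_inf.2 ⟨?_, mul_mem ((mem_normalizer_iff.1 (h1 hq) r).1 hr) (inv_mem hr)⟩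
    have h3 : r ∈ normalizer (Q : Set H) := hnorm _ T.2 hT (hg hr)
    have h4 := (mem_normalizer_iff.1 h3 q⁻¹).1 (inv_mem hq)
    have e : q * r * q⁻¹ * r⁻¹ = q * (r * q⁻¹ * r⁻¹) := by group
    rw [e]; exact mul_mem hq h4
  · obtain ⟨T, hT⟩ := hQp.exists_le_sylow
    refine ⟨T, hT, fun g hg => ?_⟩
    show cj g Q = Q
    have hP : Q ≤ cj g⁻¹ (T : Subgroup H) := by
      have := cj_mono g⁻¹ (show cj g Q ≤ (T : Subgroup H) from hg)
      rwa [← cj_mul, inv_mul_cancel, cj_one] at this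
    have hTN : (T : Subgroup H) ≤ normalizer (Q : Set H) := le_normalizer.trans (h _ T.2 hT)
    have hPN : cj g⁻¹ (T : Subgroup H) ≤ normalizer (Q : Set H) :=
      le_normalizer.trans (h _ (T.2.map _) hP)
    obtain ⟨n, hn⟩ := MulAction.exists_smul_eq ↥(normalizer (Q : Set H))
      ((g⁻¹ • T).subtype hPN) (T.subtype hTN)
    have h2 : cj ((n : H) * g⁻¹) (T : Subgroup H) = (T : Subgroup H) := by
      rw [cj_mul]
      have h3 := congrArg (fun S : Sylow p ↥(normalizer (Q : Set H)) =>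
        (S : Subgroup ↥(normalizer (Q : Set H))).map (normalizer (Q : Set H)).subtype) hn
      simp only [Sylow.coe_subtype, subgroupOf_map_subtype, inf_eq_left.2 hTN] at h3
      refine Eq.trans ?_ h3
      ext x
      constructor
      · rintro ⟨y, hy, rfl⟩
        exact ⟨n * ⟨y, hPN hy⟩ * n⁻¹, ⟨⟨y, hPN hy⟩, hy, rfl⟩, rfl⟩
      · rintro ⟨_, ⟨y, hy, rfl⟩, rfl⟩
        exact ⟨(y : H), hy, rfl⟩
    have h5 : (n : H) * g⁻¹ ∈ normalizer (Q : Set H) := h _ T.2 hT (cj_eq_self_iff.1 h2)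
    refine cj_of_mem ?_
    have := mul_mem (inv_mem h5) n.2
    simpa using this

end Cfsg.Agent.S2838
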