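import Cfsg.Statements.S2839
import Cfsg.Agent.Lib.WeaklyClosed.Basic
import Cfsg.Agent.Lib.PReduced.Tools

set_option autoImplicit false
open Cfsg

namespace Cfsg.Agent.S2839

open Subgroup Cfsg.Agent.PReduced Cfsg.Agent.WeaklyClosed
open scoped commutatorElement

/-- Let Q be a nontrivial p-subgroup of the finite group H that is a weakly closed subgroup, K a subgroup containing Q and N a normal subgroup of H. Then Q is a weakly closed subgroup of K; every H-conjugate of Q contained in K is a K-conjugate of Q; N_K(Q) contains a Sylow p-subgroup of K; N = N_N(Q)·O^p(N); and QN/N is a weakly closed subgroup of H/N. -/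
theorem result {H : Type*} [Group H] [Finite H] {p : ℕ} [Fact p.Prime] (Q : Subgroup H) (hQp : IsPGroup p ↥Q) (hQ1 : Q ≠ ⊥) (hwc : Cfsg.IsWeaklyClosedSubgroup p Q) (K : Subgroup H) (hQK : Q ≤ K) (N' : Subgroup H) [N'.Normal] : Cfsg.IsWeaklyClosedSubgroup p (Q.subgroupOf K) ∧ (∀ g : H, ((Q : Subgroup H).map (MulAut.conj (g : H)).toMonoidHom) ≤ K → ∃ k ∈ K, ((Q : Subgroup H).map (MulAut.conj (g : H)).toMonoidHom) = ((Q : Subgroup H).map (MulAut.conj (k : H)).toMonoidHom)) ∧ Cfsg.IsParabolic p ((Subgroup.normalizer ((Q : Subgroup H) : Set H)).subgroupOf K) ∧ (N' ⊓ Subgroup.normalizer ((Q : Subgroup H) : Set H)) ⊔ (Cfsg.pResidual p ↥N').map N'.subtype = N' ∧ Cfsg.IsWeaklyClosedSubgroup p (Q.map (QuotientGroup.mk' N')) := by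
  obtain ⟨R, hR⟩ := exists_sylow_in hQp hQK
  refine ⟨⟨R, ?_, fun g hg => ?_⟩, fun g hg => ?_, ⟨R, ?_⟩, ?_, ?_⟩
  · intro x hx
    obtain ⟨y, hy, he⟩ := hR hx
    exact (Subtype.ext he : y = x) ▸ hy
  · have h1 : cj (g : H) Q ≤ (R : Subgroup ↥K).map K.subtype := by
      rintro _ ⟨q, hq, rfl⟩
      exact ⟨g * ⟨q, hQK hq⟩ * g⁻¹, hg ⟨⟨q, hQK hq⟩, hq, rfl⟩, rfl⟩
    have h2 := eq_of_le hwc (R.2.map _) hR h1
    ext x
    constructor
    · rintro ⟨y, hy, rfl⟩
      exact h2.le (conj_mem_cj (hy : (y : H) ∈ Q))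
    · intro hx
      obtain ⟨q, hq, he⟩ := h2.ge (hx : (x : H) ∈ Q)
      exact ⟨⟨q, hQK hq⟩, hq, Subtype.ext he⟩
  · exact exists_conj_mem hQp hwc hQK hg
  · intro r hr
    exact isPGroup_le hwc (R.2.map _) hR (mem_map_of_mem K.subtype hr)
  · obtain ⟨T, hT, -⟩ := id hwc
    refine le_antisymm (sup_le inf_le_left (map_subtype_le _)) fun n hn => ?_
    obtain ⟨r, hr, t, ht, he⟩ :=
      exists_eq_mul_of_pResidual (sylowOfSubnormal T ‹N'.Normal›.isSubnormal) (⟨n, hn⟩ : ↥N')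
    rw [show n = (r : H) * (t : H) from congrArg Subtype.val he]
    exact mul_mem (mem_sup_right (mem_map_of_mem _ hr))
      (mem_sup_left (mem_inf.2 ⟨t.2, isPGroup_le hwc T.2 hT ht⟩))
  · obtain ⟨T, hT, -⟩ := id hwc
    refine ⟨T.mapSurjective (QuotientGroup.mk'_surjective N'), ?_, fun q hq => ?_⟩
    · rw [Sylow.coe_mapSurjective]; exact map_mono hT
    obtain ⟨g, rfl⟩ := QuotientGroup.mk'_surjective N' q
    set π := QuotientGroup.mk' N' with hπ
    rw [Sylow.coe_mapSurjective] at hq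
    have hcomm : ∀ a : H, (Q.map π).map (MulAut.conj (π a)).toMonoidHom = (cj a Q).map π := by
      intro a
      rw [cj, map_map, map_map]
      congr 1
    rw [hcomm] at hq ⊢
    have hle : cj g Q ≤ (T : Subgroup H) ⊔ N' := by
      intro x hx
      have h1 : π x ∈ ((T : Subgroup H).map π) := hq (mem_map_of_mem π hx)
      have h2 : x ∈ ((T : Subgroup H).map π).comap π := h1
      rwa [comap_map_eq, hπ, QuotientGroup.ker_mk'] at h2
    obtain ⟨k, hk, he⟩ := exists_conj_mem hQp hwc (hT.trans le_sup_left) hle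
    have hk' : k ∈ (((T : Subgroup H) ⊔ N' : Subgroup H) : Set H) := hk
    rw [mul_normal] at hk'
    obtain ⟨t, ht, n, hn, rfl⟩ := Set.mem_mul.1 hk'
    rw [he, ← hcomm, map_mul, show π n = 1 from (QuotientGroup.eq_one_iff n).2 hn, mul_one, hcomm,
      cj_of_mem (isPGroup_le hwc T.2 hT ht)]

end Cfsg.Agent.S2839
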