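import Cfsg.Statements.S2840
import Cfsg.Agent.Lib.WeaklyClosed.Basic
import Cfsg.Agent.Lib.PReduced.Tools

set_option autoImplicit false
open Cfsg

namespace Cfsg.Agent.S2840

open Subgroup Cfsg.Agent.PReduced Cfsg.Agent.WeaklyClosed
open scoped commutatorElement

/-- In a subnormal subgroup containing `Q` all the conjugates of `Q` occur. -/
theorem conj_mem_subnormal {K : Type*} [Group K] [Finite K] {p : ℕ} [Fact p.Prime] {Q : Subgroup K}
    (hQp : IsPGroup p ↥Q) (hwc : Cfsg.IsWeaklyClosedSubgroup p Q) {J : Subgroup K}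
    (hJ : J.IsSubnormal) : Q ≤ J → ∀ g : K, cj g Q ≤ J := by
  induction hJ with
  | top => exact fun _ _ => le_top
  | step A B hle _ hN ih =>
    intro hQ g
    obtain ⟨b, hb, he⟩ := exists_conj_mem hQp hwc (hQ.trans hle) (ih (hQ.trans hle) g)
    rw [he]
    rintro _ ⟨q, hq, rfl⟩
    exact hN.conj_mem ⟨q, hle (hQ hq)⟩ (hQ hq) ⟨b, hb⟩

/-- Let Q be a nontrivial p-subgroup of the finite group H that is a weakly closed subgroup and K a subgroup containing Q; let K° be the weak closure of Q in K (generated by the H-conjugates of Q inside K). Then K° is generated by the K-conjugates of Q, and K° is the subnormal closure of Q in K. -/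
theorem result {H : Type*} [Group H] [Finite H] {p : ℕ} [Fact p.Prime] (Q : Subgroup H) (hQp : IsPGroup p ↥Q) (hQ1 : Q ≠ ⊥) (hwc : Cfsg.IsWeaklyClosedSubgroup p Q) (K : Subgroup H) (hQK : Q ≤ K) (Kc : Subgroup H) (hKc : Kc = Cfsg.weakClosure Q K) : Kc = ⨆ k : ↥K, ((Q : Subgroup H).map (MulAut.conj ((k : H) : H)).toMonoidHom) ∧ Kc = (Cfsg.subnormalClosure (Q.subgroupOf K)).map K.subtype := by
  subst hKc
  have hwcK : Cfsg.IsWeaklyClosedSubgroup p (Q.subgroupOf K) := by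
    obtain ⟨R, hR⟩ := exists_sylow_in hQp hQK
    refine ⟨R, ?_, fun g hg => ?_⟩
    · intro x hx
      obtain ⟨y, hy, he⟩ := hR hx
      exact (Subtype.ext he : y = x) ▸ hy
    · have h1 : cj (g : H) Q ≤ (R : Subgroup ↥K).map K.subtype := by
        rintro _ ⟨q, hq, rfl⟩
        exact ⟨g * ⟨q, hQK hq⟩ * g⁻¹, hg ⟨⟨q, hQK hq⟩, hq, rfl⟩, rfl⟩
      have h2 := eq_of_le hwc (R.2.map _) hR h1
      ext x
      constructor
      · rintro ⟨y, hy, rfl⟩
        exact h2.le (conj_mem_cj (hy : (y : H) ∈ Q))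
      · intro hx
        obtain ⟨q, hq, he⟩ := h2.ge (hx : (x : H) ∈ Q)
        exact ⟨⟨q, hQK hq⟩, hq, Subtype.ext he⟩
  have heq : Cfsg.weakClosure Q K = ⨆ k : ↥K, cj (k : H) Q := by
    refine le_antisymm (iSup_le fun g => ?_) (iSup_le fun k => ?_)
    · obtain ⟨k, hk, he⟩ := exists_conj_mem hQp hwc hQK g.2
      exact he.le.trans (le_iSup (fun k : ↥K => cj (k : H) Q) ⟨k, hk⟩)
    · exact le_iSup (fun g : {g : H // Q.map (MulAut.conj g).toMonoidHom ≤ K} =>
        Q.map (MulAut.conj (g : H)).toMonoidHom) ⟨(k : H), cj_le_of_mem hQK k.2⟩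
  refine ⟨heq, ?_⟩
  rw [heq]
  refine le_antisymm (iSup_le fun k => ?_) ?_
  · rintro _ ⟨q, hq, rfl⟩
    refine ⟨k * ⟨q, hQK hq⟩ * k⁻¹, ?_, rfl⟩
    rw [Cfsg.subnormalClosure, SetLike.mem_coe, Subgroup.mem_sInf]
    intro J hJ
    exact conj_mem_subnormal (IsPGroup.comap_subtype hQp) hwcK hJ.2 hJ.1 k
      ⟨⟨q, hQK hq⟩, hq, rfl⟩
  · set N := ⨆ k : ↥K, cj k (Q.subgroupOf K) with hN
    have hNn : N.Normal := by
      refine ⟨fun x hx g => ?_⟩
      have : N ≤ N.comap (MulAut.conj g).toMonoidHom := by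
        refine iSup_le fun k y hy => ?_
        refine mem_iSup_of_mem (g * k) ?_
        rw [cj_mul]
        exact conj_mem_cj hy
      exact this hx
    have h1 : Cfsg.subnormalClosure (Q.subgroupOf K) ≤ N :=
      sInf_le ⟨le_iSup_of_le 1 (cj_one _).ge, hNn.isSubnormal⟩
    refine (map_mono h1).trans ?_
    rw [hN, Subgroup.map_iSup]
    refine iSup_le fun k => le_iSup_of_le k ?_
    rintro _ ⟨_, ⟨q, hq, rfl⟩, rfl⟩
    exact conj_mem_cj (hq : (q : H) ∈ Q)

end Cfsg.Agent.S2840
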