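import Cfsg.Statements.S2841
import Cfsg.Agent.Lib.WeaklyClosed.Basic
import Cfsg.Agent.Lib.PReduced.Tools

set_option autoImplicit false
open Cfsg

namespace Cfsg.Agent.S2841

open Subgroup Cfsg.Agent.PReduced Cfsg.Agent.WeaklyClosed
open scoped commutatorElement

/-- Let Q be a nontrivial p-subgroup of the finite group H that is a weakly closed subgroup and N a normal subgroup of H. Then N = N_N(Q)·[N, Q] and [N, Q] = (Q ∩ [N, Q])·[N, Q, Q]. -/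
theorem result {H : Type*} [Group H] [Finite H] {p : ℕ} [Fact p.Prime] (Q : Subgroup H) (hQp : IsPGroup p ↥Q) (hQ1 : Q ≠ ⊥) (hwc : Cfsg.IsWeaklyClosedSubgroup p Q) (N' : Subgroup H) [N'.Normal] : (∀ n : H, n ∈ N' → ∃ a ∈ N' ⊓ Subgroup.normalizer ((Q : Subgroup H) : Set H), ∃ b ∈ ⁅N', Q⁆, n = a * b) ∧ (∀ c : H, c ∈ ⁅N', Q⁆ → ∃ a ∈ Q ⊓ ⁅N', Q⁆, ∃ b ∈ ⁅⁅N', Q⁆, Q⁆, c = a * b) := by
  set D := ⁅N', Q⁆ with hD
  have hDN : D ≤ N' := commutator_le_left N' Q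
  have hN'D : N' ≤ normalizer (D : Set H) := Cores.commutator_normalizer_left N' Q
  have hQD : Q ≤ normalizer (D : Set H) := Cores.commutator_normalizer_right N' Q
  have part1 : ∀ n : H, n ∈ N' → ∃ a ∈ N' ⊓ normalizer (Q : Set H), ∃ b ∈ D, n = a * b := by
    intro n hn
    have hle : cj n Q ≤ D ⊔ Q := by
      rintro _ ⟨q, hq, rfl⟩
      show n * q * n⁻¹ ∈ D ⊔ Q
      have h2 : n * q * n⁻¹ = ⁅n, q⁆ * q := by rw [commutatorElement_def]; group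
      rw [h2]
      exact mul_mem (mem_sup_left (commutator_mem_commutator hn hq)) (mem_sup_right hq)
    obtain ⟨k, hk, he⟩ := exists_conj_mem hQp hwc le_sup_right hle
    have hk' : k ∈ ((D ⊔ Q : Subgroup H) : Set H) := hk
    rw [coe_mul_of_right_le_normalizer_left D Q hQD] at hk'
    obtain ⟨d, hd, q, hq, rfl⟩ := Set.mem_mul.1 hk'
    rw [cj_mul, cj_of_mem (le_normalizer hq)] at he
    have ha : d⁻¹ * n ∈ normalizer (Q : Set H) := by
      rw [← cj_eq_self_iff, cj_mul, he, ← cj_mul, inv_mul_cancel, cj_one]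
    have ha' : d⁻¹ * n ∈ N' := mul_mem (inv_mem (hDN hd)) hn
    refine ⟨d⁻¹ * n, mem_inf.2 ⟨ha', ha⟩, (d⁻¹ * n)⁻¹ * d * (d⁻¹ * n), ?_, by group⟩
    have h3 := (mem_normalizer_iff.1 (hN'D (inv_mem ha')) d).1 hd
    simpa [mul_assoc] using h3
  refine ⟨part1, fun c hc => ?_⟩
  set D2 := ⁅D, Q⁆ with hD2
  have hDD2 : D ≤ normalizer (D2 : Set H) := Cores.commutator_normalizer_left D Q
  have hle : D ≤ (Q ⊓ D) ⊔ D2 := commutator_le.2 fun n hn q hq => by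
    obtain ⟨a, ha, b, hb, rfl⟩ := part1 n hn
    obtain ⟨haN, haQ⟩ := mem_inf.1 ha
    have h1 : ⁅a, q⁆ ∈ Q ⊓ D := mem_inf.2 ⟨mul_mem ((mem_normalizer_iff.1 haQ q).1 hq) (inv_mem hq),
      commutator_mem_commutator haN hq⟩
    have haD2 : a ∈ normalizer (D2 : Set H) := by
      rw [← cj_eq_self_iff]
      show (⁅D, Q⁆).map (MulAut.conj a).toMonoidHom = ⁅D, Q⁆
      rw [map_commutator]
      exact congrArg₂ _ (cj_of_mem (hN'D haN)) (cj_of_mem haQ)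
    have h2 : a * ⁅b, q⁆ * a⁻¹ ∈ D2 :=
      (mem_normalizer_iff.1 haD2 _).1 (commutator_mem_commutator hb hq)
    have e : ⁅a * b, q⁆ = (a * ⁅b, q⁆ * a⁻¹) * ⁅a, q⁆ := by
      simp only [commutatorElement_def]; group
    rw [e]
    exact mul_mem (mem_sup_right h2) (mem_sup_left h1)
  have hc' : c ∈ ((Q ⊓ D ⊔ D2 : Subgroup H) : Set H) := hle hc
  rw [coe_mul_of_left_le_normalizer_right (Q ⊓ D) D2 (inf_le_right.trans hDD2)] at hc'
  obtain ⟨a, ha, b, hb, rfl⟩ := Set.mem_mul.1 hc'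
  exact ⟨a, ha, b, hb, rfl⟩

end Cfsg.Agent.S2841
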