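import Cfsg.Statements.S2842
import Cfsg.Agent.Lib.WeaklyClosed.Basic
import Cfsg.Agent.Lib.CharP.Basic

set_option autoImplicit false
open Cfsg

namespace Cfsg.Agent.S2842

open Subgroup Cfsg.Agent.PReduced Cfsg.Agent.WeaklyClosed
open scoped commutatorElement

/-- Let Q be a nontrivial p-subgroup of the finite group H that is a weakly closed subgroup with C_H(Q) ≤ Q, and Q ≤ L ≤ H. Suppose H has characteristic p, or more generally that C_H(y) has characteristic p for some nonidentity y ∈ C_{O_p(L)}(Q). Then [Q, C_H(O_p(L))] ≤ Q ∩ O_p(L), C_H(O_p(L)) is a p-group, and L has characteristic p. -/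
theorem result {H : Type*} [Group H] [Finite H] {p : ℕ} [Fact p.Prime] (Q : Subgroup H) (hQp : IsPGroup p ↥Q) (hQ1 : Q ≠ ⊥) (hwc : Cfsg.IsWeaklyClosedSubgroup p Q) (hCQ : Subgroup.centralizer ((Q : Subgroup H) : Set H) ≤ Q) (L : Subgroup H) (hQL : Q ≤ L) (hyp : Subgroup.centralizer (Cfsg.pCore p H : Set H) ≤ Cfsg.pCore p H ∨ ∃ y : H, y ≠ 1 ∧ y ∈ (Cfsg.pCoreOf p L) ⊓ Subgroup.centralizer ((Q : Subgroup H) : Set H) ∧ Subgroup.centralizer (Cfsg.pCore p ↥(Subgroup.centralizer ({y} : Set H)) : Set ↥(Subgroup.centralizer ({y} : Set H))) ≤ Cfsg.pCore p ↥(Subgroup.centralizer ({y} : Set H))) : ⁅Q, Subgroup.centralizer (((Cfsg.pCoreOf p L) : Subgroup H) : Set H)⁆ ≤ Q ⊓ (Cfsg.pCoreOf p L) ∧ IsPGroup p ↥(Subgroup.centralizer (((Cfsg.pCoreOf p L) : Subgroup H) : Set H)) ∧ Subgroup.centralizer (Cfsg.pCore p ↥L : Set ↥L) ≤ Cfsg.pCore p ↥L := by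
  set S := Cfsg.pCoreOf p L with hS
  set C := centralizer (S : Set H) with hC
  have hSp : IsPGroup p ↥S := (PReduced.isPGroup_pCore p).map _
  have hLS : L ≤ normalizer (S : Set H) :=
    le_normalizer.trans (Cores.normalizer_le_normalizer_map (Cfsg.pCore p ↥L))
  have hLC : L ≤ normalizer (C : Set H) := fun l hl => by
    refine mem_normalizer_of_cj_le ?_
    rintro _ ⟨c, hc, rfl⟩ y hy
    show y * (l * c * l⁻¹) = l * c * l⁻¹ * y
    have hy' : l⁻¹ * y * l ∈ S := by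
      simpa using (mem_normalizer_iff.1 (hLS (inv_mem hl)) y).1 hy
    calc y * (l * c * l⁻¹) = l * ((l⁻¹ * y * l) * c) * l⁻¹ := by group
      _ = l * (c * (l⁻¹ * y * l)) * l⁻¹ := by rw [hc _ hy']
      _ = l * c * l⁻¹ * y := by group
  obtain ⟨P, hPp, hQP, hCP, hCc⟩ : ∃ P : Subgroup H, IsPGroup p ↥P ∧
      Q ≤ normalizer (P : Set H) ∧ C ≤ normalizer (P : Set H) ∧
      ∀ x ∈ C, x ∈ centralizer (P : Set H) → x ∈ P := by
    rcases hyp with h | ⟨y, -, hy, h⟩
    · haveI := PReduced.pCore_normal p H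
      exact ⟨Cfsg.pCore p H, PReduced.isPGroup_pCore p, le_normalizer_of_normal,
        le_normalizer_of_normal, fun x _ hx => h hx⟩
    · obtain ⟨hyS, hyQ⟩ := mem_inf.1 hy
      set M := centralizer ({y} : Set H) with hM
      have hCM : C ≤ M := fun c hc => mem_centralizer_singleton_iff.2 (hc y hyS).symm
      have hQM : Q ≤ M := fun q hq => mem_centralizer_singleton_iff.2 (hyQ q hq)
      have hN : M ≤ normalizer (((Cfsg.pCore p ↥M).map M.subtype : Subgroup H) : Set H) :=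
        le_normalizer.trans (Cores.normalizer_le_normalizer_map (Cfsg.pCore p ↥M))
      refine ⟨_, (PReduced.isPGroup_pCore p).map _, hQM.trans hN, hCM.trans hN, fun x hx hxP => ?_⟩
      refine ⟨⟨x, hCM hx⟩, h fun w hw => Subtype.ext (hxP _ (mem_map_of_mem _ hw)), rfl⟩
  set U := (Cfsg.pCore p ↥C).map C.subtype with hU
  have hUp : IsPGroup p ↥U := (PReduced.isPGroup_pCore p).map _
  have hUC : U ≤ C := map_subtype_le _
  have hLU : L ≤ normalizer (U : Set H) :=
    hLC.trans (Cores.normalizer_le_normalizer_map (Cfsg.pCore p ↥C))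
  have hCU : C ≤ normalizer (U : Set H) :=
    le_normalizer.trans (Cores.normalizer_le_normalizer_map (Cfsg.pCore p ↥C))
  have hUL : U ⊓ L ≤ S := fun x hx =>
    ⟨⟨x, (mem_inf.1 hx).2⟩, PReduced.le_pCore (N := (U ⊓ L).subgroupOf L)
      ((normal_subgroupOf_iff_le_normalizer inf_le_right).2
        ((le_inf hLU le_normalizer).trans inf_normalizer_le_normalizer_inf))
      (IsPGroup.comap_subtype (hUp.to_le inf_le_left)) hx, rfl⟩
  have hcomQ : ∀ R : Subgroup H, IsPGroup p ↥R → Q ≤ normalizer (R : Set H) →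
      R ≤ normalizer (Q : Set H) := fun R hR hQR =>
    le_sup_left.trans (isPGroup_le hwc (hR.to_sup_of_normal_left' hQp hQR) le_sup_right)
  set A := (P ⊓ C) ⊔ (P ⊓ Q) with hA
  have hPCU : P ⊓ C ≤ U := fun x hx =>
    ⟨⟨x, (mem_inf.1 hx).2⟩, PReduced.le_pCore (N := (P ⊓ C).subgroupOf C)
      ((normal_subgroupOf_iff_le_normalizer inf_le_right).2
        ((le_inf hCP le_normalizer).trans inf_normalizer_le_normalizer_inf))
      (IsPGroup.comap_subtype (hPp.to_le inf_le_left)) hx, rfl⟩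
  have hQA : Q ≤ normalizer (A : Set H) := fun q hq => by
    refine mem_normalizer_of_cj_le ?_
    rw [cj, hA, Subgroup.map_sup]
    refine sup_le (le_sup_of_le_left ?_) (le_sup_of_le_right ?_)
    · exact (cj_of_mem (((le_inf hQP (hQL.trans hLC)).trans inf_normalizer_le_normalizer_inf) hq)).le
    · exact (cj_of_mem (((le_inf hQP le_normalizer).trans inf_normalizer_le_normalizer_inf) hq)).le
  have hCA : C ≤ normalizer (A : Set H) := fun c hc => by
    refine mem_normalizer_of_cj_le ?_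
    rw [cj, hA, Subgroup.map_sup]
    refine sup_le (le_sup_of_le_left ?_) ?_
    · exact (cj_of_mem (((le_inf hCP le_normalizer).trans inf_normalizer_le_normalizer_inf) hc)).le
    · rintro _ ⟨a, ha, rfl⟩
      show c * a * c⁻¹ ∈ (P ⊓ C) ⊔ (P ⊓ Q)
      have haQ := (mem_inf.1 ha).2
      have h1 : c * a * c⁻¹ * a⁻¹ ∈ P ⊓ C := mem_inf.2
        ⟨mul_mem ((mem_normalizer_iff.1 (hCP hc) a).1 (mem_inf.1 ha).1) (inv_mem (mem_inf.1 ha).1), by
          rw [mul_assoc, mul_assoc, ← mul_assoc a]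
          exact mul_mem hc ((mem_normalizer_iff.1 (hLC (hQL haQ)) _).1 (inv_mem hc))⟩
      have e : c * a * c⁻¹ = (c * a * c⁻¹ * a⁻¹) * a := by group
      rw [e]
      exact mul_mem (mem_sup_left h1) (mem_sup_right ha)
  have hQst : Q ≤ stab P A := fun q hq => mem_stab.2 ⟨hQP hq, hQA hq, fun u hu => mem_sup_right
    (mem_inf.2 ⟨mul_mem ((mem_normalizer_iff.1 (hQP hq) u).1 hu) (inv_mem hu), by
      rw [mul_assoc, mul_assoc, ← mul_assoc u]
      exact mul_mem hq ((mem_normalizer_iff.1 (hcomQ P hPp hQP hu) q⁻¹).1 (inv_mem hq))⟩)⟩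
  have hQU : Q ≤ normalizer (U : Set H) := hQL.trans hLU
  have hQUL : Q ≤ normalizer ((U ⊓ L : Subgroup H) : Set H) :=
    (le_inf hQU (hQL.trans le_normalizer)).trans inf_normalizer_le_normalizer_inf
  have hCUL : C ≤ normalizer ((U ⊓ L : Subgroup H) : Set H) := fun c hc =>
    centralizer_le_normalizer _ (fun x hx => hc x (hUL hx))
  have hQst' : Q ≤ stab U (U ⊓ L) := fun q hq => mem_stab.2 ⟨hQU hq, hQUL hq, fun u hu => mem_inf.2
    ⟨mul_mem ((mem_normalizer_iff.1 (hQU hq) u).1 hu) (inv_mem hu), hQL (by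
      rw [mul_assoc, mul_assoc, ← mul_assoc u]
      exact mul_mem hq ((mem_normalizer_iff.1 (hcomQ U hUp hQU hu) q⁻¹).1 (inv_mem hq)))⟩⟩
  set D := ⁅C, Q⁆ with hD
  have hDC : D ≤ C := commutator_le.2 fun c hc q hq => by
    rw [commutatorElement_def, mul_assoc, mul_assoc, ← mul_assoc q]
    exact mul_mem hc ((mem_normalizer_iff.1 (hLC (hQL hq)) _).1 (inv_mem hc))
  have hDst : D ≤ stab P A ⊓ stab U (U ⊓ L) := commutator_le.2 fun c hc q hq => by
    rw [commutatorElement_def]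
    exact mem_inf.2 ⟨mul_mem (conj_mem_stab (hQst hq) (hCP hc) (hCA hc)) (inv_mem (hQst hq)),
      mul_mem (conj_mem_stab (hQst' hq) (hCU hc) (hCUL hc)) (inv_mem (hQst' hq))⟩
  have hAP : A ≤ P := sup_le inf_le_left inf_le_left
  have hcom : ∀ {x u : H}, (orderOf x).Coprime p → ∀ {R : Subgroup H}, IsPGroup p ↥R →
      x * u * x⁻¹ * u⁻¹ ∈ R → Commute (x * u * x⁻¹ * u⁻¹) x → Commute u x := by
    intro x u hco R hR hmem hcm
    have e : u * x * u⁻¹ * x⁻¹ = (x * u * x⁻¹ * u⁻¹)⁻¹ := by group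
    refine CharP.eq_one_of_commute hco ?_ (e ▸ hcm.inv_left)
    obtain ⟨k, hk⟩ := hR ⟨_, hmem⟩
    exact ⟨k, by rw [e, inv_pow, show (x * u * x⁻¹ * u⁻¹) ^ p ^ k = 1 by
      simpa [Subtype.ext_iff] using hk, inv_one]⟩
  have hDp : IsPGroup p ↥D := by
    refine CharP.isPGroup_of_coprime_eq_one fun x hx hco => ?_
    obtain ⟨hst1, hst2⟩ := mem_inf.1 (hDst hx)
    have hxC := hDC hx
    have h1 : ∀ u ∈ P ⊓ C, Commute u x := fun u hu => by
      have hm := (mem_stab.1 hst2).2.2 u (hPCU hu)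
      exact hcom hco hUp (mem_inf.1 hm).1 (hxC _ (hUL hm))
    have h2 : ∀ a ∈ P ⊓ Q, Commute a x := fun a ha => by
      obtain ⟨haP, haQ⟩ := mem_inf.1 ha
      have hm : x * a * x⁻¹ * a⁻¹ ∈ P ⊓ C := mem_inf.2
        ⟨mul_mem ((mem_normalizer_iff.1 (hCP hxC) a).1 haP) (inv_mem haP), by
          rw [mul_assoc, mul_assoc, ← mul_assoc a]
          exact mul_mem hxC ((mem_normalizer_iff.1 (hLC (hQL haQ)) _).1 (inv_mem hxC))⟩
      exact hcom hco hPp (mem_inf.1 hm).1 (h1 _ hm)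
    have h3 : A ≤ centralizer {x} := sup_le
      (fun u hu => mem_centralizer_singleton_iff.2 (h1 u hu))
      (fun u hu => mem_centralizer_singleton_iff.2 (h2 u hu))
    have h4 : x ∈ centralizer (P : Set H) := fun u hu => by
      have hm := (mem_stab.1 hst1).2.2 u hu
      exact hcom hco hPp (hAP hm) (mem_centralizer_singleton_iff.1 (h3 hm))
    obtain ⟨k, hk⟩ := hPp ⟨x, hCc x hxC h4⟩
    exact orderOf_eq_one_iff.1 (Nat.Coprime.eq_one_of_dvd (hco.pow_right k)
      (orderOf_dvd_of_pow_eq_one (by simpa [Subtype.ext_iff] using hk)))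
  have hQD : Q ≤ normalizer (D : Set H) := Cores.commutator_normalizer_right C Q
  have hCQ' : C ≤ normalizer (Q : Set H) := fun c hc => by
    refine cj_eq_self_iff.1 (eq_of_le hwc (hDp.to_sup_of_normal_left' hQp hQD) le_sup_right ?_)
    rintro _ ⟨q, hq, rfl⟩
    show c * q * c⁻¹ ∈ D ⊔ Q
    have e : c * q * c⁻¹ = ⁅c, q⁆ * q := by rw [commutatorElement_def]; group
    rw [e]
    exact mul_mem (mem_sup_left (commutator_mem_commutator hc hq)) (mem_sup_right hq)
  have hDQ : D ≤ Q := commutator_le.2 fun c hc q hq => by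
    rw [commutatorElement_def]
    exact mul_mem ((mem_normalizer_iff.1 (hCQ' hc) q).1 hq) (inv_mem hq)
  have hDS : D ≤ S := fun x hx => hUL (mem_inf.2
    ⟨⟨⟨x, hDC hx⟩, PReduced.le_pCore (N := D.subgroupOf C)
      ((normal_subgroupOf_iff_le_normalizer hDC).2 (Cores.commutator_normalizer_left C Q))
      (IsPGroup.comap_subtype hDp) hx, rfl⟩, hQL (hDQ hx)⟩)
  have hCp : IsPGroup p ↥C := by
    refine CharP.isPGroup_of_coprime_eq_one fun x hx hco => ?_
    have hxQ : x ∈ centralizer (Q : Set H) := fun q hq => by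
      have hm : x * q * x⁻¹ * q⁻¹ ∈ D := commutator_mem_commutator hx hq
      exact hcom hco hDp hm (hx _ (hDS hm))
    obtain ⟨k, hk⟩ := hQp ⟨x, hCQ hxQ⟩
    exact orderOf_eq_one_iff.1 (Nat.Coprime.eq_one_of_dvd (hco.pow_right k)
      (orderOf_dvd_of_pow_eq_one (by simpa [Subtype.ext_iff] using hk)))
  refine ⟨by rw [commutator_comm]; exact le_inf hDQ hDS, hCp, fun x hx => ?_⟩
  refine PReduced.le_pCore (N := (C ⊓ L).subgroupOf L) ((normal_subgroupOf_iff_le_normalizer inf_le_right).2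
    ((le_inf hLC le_normalizer).trans inf_normalizer_le_normalizer_inf))
    (IsPGroup.comap_subtype (hCp.to_le inf_le_left)) (mem_inf.2 ⟨?_, x.2⟩)
  rintro _ ⟨w, hw, rfl⟩
  exact congrArg Subtype.val (hx w hw)

end Cfsg.Agent.S2842
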