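import Cfsg.Statements.S2843
import Cfsg.Agent.Lib.WeaklyClosed.Basic
import Cfsg.Agent.Lib.PReduced.Tools

set_option autoImplicit false
open Cfsg

namespace Cfsg.Agent.S2843

open Subgroup Cfsg.Agent.PReduced Cfsg.Agent.WeaklyClosed
open scoped commutatorElement

/-- Let Q be a nontrivial large p-subgroup of the finite group H, Q ≤ L ≤ H, and Y a nontrivial p-subgroup of H normalized by L. Let L° be the weak closure of Q in L (generated by the conjugates of Q inside L). Then L° equals the weak closure of Q in L·C_H(Y), and [L°, C_H(Y)] ≤ O_p(L°); in particular C_H(Y) normalizes L°. -/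
theorem result {H : Type*} [Group H] [Finite H] {p : ℕ} [Fact p.Prime] (Q : Subgroup H) (hQp : IsPGroup p ↥Q) (hQ1 : Q ≠ ⊥) (hL : Cfsg.IsLarge Q) (L : Subgroup H) (hQL : Q ≤ L) (Y : Subgroup H) (hYp : IsPGroup p ↥Y) (hY1 : Y ≠ ⊥) (hLY : L ≤ Subgroup.normalizer ((Y : Subgroup H) : Set H)) : Cfsg.weakClosure Q L = Cfsg.weakClosure Q (L ⊔ Subgroup.centralizer ((Y : Subgroup H) : Set H)) ∧ ⁅Cfsg.weakClosure Q L, Subgroup.centralizer ((Y : Subgroup H) : Set H)⁆ ≤ (Cfsg.pCoreOf p (Cfsg.weakClosure Q L)) ∧ Subgroup.centralizer ((Y : Subgroup H) : Set H) ≤ Subgroup.normalizer (((Cfsg.weakClosure Q L) : Subgroup H) : Set H) := by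
  obtain ⟨hCQ, hQb⟩ := hL
  have hwc : Cfsg.IsWeaklyClosedSubgroup p Q := by
    obtain ⟨T, hT⟩ := hQp.exists_le_sylow
    have key : ∀ R : Subgroup H, IsPGroup p ↥R → Q ≤ R →
        normalizer (R : Set H) ≤ normalizer (Q : Set H) := by
      intro R hR hQR
      have hne : R ≠ ⊥ := fun h => hQ1 (le_bot_iff.1 (h ▸ hQR))
      haveI : Nontrivial ↥R := (nontrivial_iff_ne_bot R).2 hne
      set Z := (center ↥R).map R.subtype with hZ
      have hZne : Z ≠ ⊥ := by
        intro h
        rw [hZ, Subgroup.map_eq_bot_iff, ker_subtype] at h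
        exact absurd (le_bot_iff.1 h) (ne_of_gt hR.bot_lt_center)
      refine le_trans ?_ (hQb Z ?_ hZne)
      · exact Cores.normalizer_le_normalizer_map (center ↥R)
      · rintro _ ⟨z, hz, rfl⟩ q hq
        exact congrArg Subtype.val (mem_center_iff.1 hz ⟨q, hQR hq⟩)
    refine ⟨T, hT, fun g hg => ?_⟩
    show cj g Q = Q
    have hP : Q ≤ cj g⁻¹ (T : Subgroup H) := by
      have := cj_mono g⁻¹ (show cj g Q ≤ (T : Subgroup H) from hg)
      rwa [← cj_mul, inv_mul_cancel, cj_one] at this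
    have hTN : (T : Subgroup H) ≤ normalizer (Q : Set H) := le_normalizer.trans (key _ T.2 hT)
    have hPN : cj g⁻¹ (T : Subgroup H) ≤ normalizer (Q : Set H) :=
      le_normalizer.trans (key _ (T.2.map _) hP)
    obtain ⟨n, hn⟩ := MulAction.exists_smul_eq ↥(normalizer (Q : Set H))
      ((g⁻¹ • T).subtype hPN) (T.subtype hTN)
    have h2 : cj ((n : H) * g⁻¹) (T : Subgroup H) = (T : Subgroup H) := by
      rw [cj_mul]
      have h3 := congrArg (fun S : Sylow p ↥(normalizer (Q : Set H)) =>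
        (S : Subgroup ↥(normalizer (Q : Set H))).map (normalizer (Q : Set H)).subtype) hn
      simp only [Sylow.coe_subtype, subgroupOf_map_subtype, inf_eq_left.2 hTN] at h3
      refine Eq.trans ?_ h3
      ext x
      constructor
      · rintro ⟨y, hy, rfl⟩
        exact ⟨n * ⟨y, hPN hy⟩ * n⁻¹, ⟨⟨y, hPN hy⟩, hy, rfl⟩, rfl⟩
      · rintro ⟨_, ⟨y, hy, rfl⟩, rfl⟩
        exact ⟨(y : H), hy, rfl⟩
    have h5 : (n : H) * g⁻¹ ∈ normalizer (Q : Set H) := key _ T.2 hT (cj_eq_self_iff.1 h2)
    refine cj_of_mem ?_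
    simpa using mul_mem (inv_mem h5) n.2
  set C := centralizer (Y : Set H) with hC
  have hCn : L ≤ normalizer (C : Set H) := fun l hl => by
    refine mem_normalizer_of_cj_le ?_
    rintro _ ⟨c, hc, rfl⟩ y hy
    show y * (l * c * l⁻¹) = l * c * l⁻¹ * y
    have hy' : l⁻¹ * y * l ∈ Y := by
      have := (mem_normalizer_iff.1 (hLY (inv_mem hl)) y).1 hy
      simpa using this
    calc y * (l * c * l⁻¹) = l * ((l⁻¹ * y * l) * c) * l⁻¹ := by group
      _ = l * (c * (l⁻¹ * y * l)) * l⁻¹ := by rw [hc _ hy']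
      _ = l * c * l⁻¹ * y := by group
  have hCQN : C ≤ normalizer (Q : Set H) := by
    set U := Y ⊓ centralizer (Q : Set H) with hU
    haveI : Fact p.Prime := ‹_›
    let φ : ↥Q →* MulAut ↥Y := Y.normalizerMonoidHom.comp (inclusion (hQL.trans hLY))
    letI : MulAction ↥Q ↥Y := MulAction.compHom _ φ
    have hfix1 : (1 : ↥Y) ∈ MulAction.fixedPoints ↥Q ↥Y := fun q => map_one (φ q)
    have hdvd : p ∣ Nat.card ↥Y := hYp.card_eq_or_dvd.resolve_left fun h => hY1 (card_eq_one.1 h)
    obtain ⟨b, hb, hb1⟩ := hQp.exists_fixed_point_of_prime_dvd_card_of_fixed_point ↥Y hdvd hfix1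
    have hbQ : (b : H) ∈ centralizer (Q : Set H) := fun q hq =>
      mul_inv_eq_iff_eq_mul.1 (congrArg Subtype.val (hb ⟨q, hq⟩))
    have hzne : zpowers (b : H) ≠ ⊥ := fun h =>
      hb1 (Subtype.ext (zpowers_eq_bot.1 h).symm)
    refine le_trans ?_ (hQb _ (zpowers_le.2 hbQ) hzne)
    intro c hc
    refine centralizer_le_normalizer _ ?_
    intro z hz
    obtain ⟨m, rfl⟩ := mem_zpowers_iff.1 hz
    exact (Commute.zpow_left (show Commute (b : H) c from hc _ b.2) m).eq
  have hCconj : ∀ l ∈ L, C ≤ normalizer ((cj l Q : Subgroup H) : Set H) := by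
    intro l hl c hc
    rw [← cj_eq_self_iff]
    have h1 : l⁻¹ * c * l ∈ C := by
      have := (mem_normalizer_iff.1 (hCn (inv_mem hl)) c).1 hc
      simpa using this
    calc cj c (cj l Q) = cj l (cj (l⁻¹ * c * l) Q) := by
          rw [← cj_mul, ← cj_mul]; congr 1; group
      _ = cj l Q := by rw [cj_of_mem (hCQN h1)]
  set W := Cfsg.weakClosure Q L with hW
  have hWgen : ∀ l ∈ L, cj l Q ≤ W := fun l hl =>
    le_iSup (fun g : {g : H // Q.map (MulAut.conj g).toMonoidHom ≤ L} =>
      Q.map (MulAut.conj (g : H)).toMonoidHom) ⟨l, cj_le_of_mem hQL hl⟩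
  have hWeq : W = ⨆ l : ↥L, cj (l : H) Q := by
    refine le_antisymm (iSup_le fun g => ?_) (iSup_le fun l => hWgen l l.2)
    obtain ⟨k, hk, he⟩ := exists_conj_mem hQp hwc hQL g.2
    exact he.le.trans (le_iSup (fun l : ↥L => cj (l : H) Q) ⟨k, hk⟩)
  have hCW : C ≤ normalizer (W : Set H) := by
    intro c hc
    refine mem_normalizer_of_cj_le ?_
    rw [hWeq, cj, Subgroup.map_iSup]
    refine iSup_le fun l => le_iSup_of_le l ?_
    exact (cj_of_mem (hCconj l l.2 hc)).le
  refine ⟨le_antisymm (iSup_le fun g => le_iSup (fun g : {g : H //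
      Q.map (MulAut.conj g).toMonoidHom ≤ L ⊔ C} => Q.map (MulAut.conj (g : H)).toMonoidHom)
        ⟨g.1, g.2.trans le_sup_left⟩) (iSup_le fun g => ?_), ?_, hCW⟩
  · obtain ⟨k, hk, he⟩ := exists_conj_mem hQp hwc (hQL.trans le_sup_left) g.2
    have hk' : k ∈ ((L ⊔ C : Subgroup H) : Set H) := hk
    rw [coe_mul_of_left_le_normalizer_right L C hCn] at hk'
    obtain ⟨l, hl, c, hc, rfl⟩ := Set.mem_mul.1 hk'
    refine he.le.trans ?_
    rw [cj_mul, cj_of_mem (hCQN hc)]
    exact hWgen l hl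
  · set U := W ⊓ (Cfsg.pCore p ↥C).map C.subtype with hU
    have hUp : IsPGroup p ↥U := ((PReduced.isPGroup_pCore p).map _).to_le inf_le_right
    have hUW : W ≤ normalizer (U : Set H) := by
      refine (le_inf le_normalizer ?_).trans (inf_normalizer_le_normalizer_inf (H := W))
      have hWC : W ≤ normalizer (C : Set H) := by
        rw [hWeq]
        exact iSup_le fun l => (cj_le_of_mem hQL l.2).trans hCn
      exact hWC.trans (Cores.normalizer_le_normalizer_map (Cfsg.pCore p ↥C))
    have hUn : (U.subgroupOf W).Normal := (normal_subgroupOf_iff_le_normalizer inf_le_left).2 hUW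
    have hUle : U ≤ Cfsg.pCoreOf p W := fun x hx => ⟨⟨x, (mem_inf.1 hx).1⟩,
      PReduced.le_pCore hUn (IsPGroup.comap_subtype hUp) hx, rfl⟩
    refine le_trans (commutator_le.2 ?_) hUle
    suffices h : W ≤ W ⊓ { carrier := {k | k ∈ normalizer (C : Set H) ∧ ∀ c ∈ C, ⁅k, c⁆ ∈ U ∧ k ∈ W}
                           one_mem' := ⟨one_mem _, fun c _ => by simp⟩
                           mul_mem' := fun {a b} ha hb => ⟨mul_mem ha.1 hb.1, fun c hc => by
                             refine ⟨?_, mul_mem (ha.2 c hc).2 (hb.2 c hc).2⟩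
                             have h1 := (mem_normalizer_iff.1 (hUW (ha.2 c hc).2) _).1 (hb.2 c hc).1
                             have h2 := mul_mem h1 (ha.2 c hc).1
                             convert h2 using 1; simp only [commutatorElement_def]; group⟩
                           inv_mem' := fun {a} ha => ⟨inv_mem ha.1, fun c hc => by
                             refine ⟨?_, inv_mem (ha.2 c hc).2⟩
                             have h1 := (mem_normalizer_iff.1 (hUW (inv_mem (ha.2 c hc).2)) _).1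
                               (inv_mem (ha.2 c hc).1)
                             convert h1 using 1; simp only [commutatorElement_def]; group⟩ } from
      fun k hk c hc => ((h hk).2.2 c hc).1
    refine le_inf le_rfl (hWeq.le.trans (iSup_le fun l => fun k hk => ?_))
    refine ⟨(cj_le_of_mem hQL l.2).trans hCn hk, fun c hc => ⟨?_, hWeq ▸ hWgen l l.2 hk⟩⟩
    refine mem_inf.2 ⟨?_, ?_⟩
    · have h1 : c * k⁻¹ * c⁻¹ ∈ cj (l : H) Q :=
        (mem_normalizer_iff.1 (hCconj l l.2 hc) k⁻¹).1 (inv_mem hk)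
      refine hWgen l l.2 ?_
      have e : ⁅k, c⁆ = k * (c * k⁻¹ * c⁻¹) := by rw [commutatorElement_def]; group
      rw [e]; exact mul_mem hk h1
    · set P := cj (l : H) Q ⊓ C with hP
      have hPn : (P.subgroupOf C).Normal := (normal_subgroupOf_iff_le_normalizer inf_le_right).2
        ((le_inf (hCconj l l.2) le_normalizer).trans inf_normalizer_le_normalizer_inf)
      have hPp : IsPGroup p ↥P := (hQp.map _).to_le inf_le_left
      have hkC : k ∈ normalizer (C : Set H) := (cj_le_of_mem hQL l.2).trans hCn hk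
      have h2 : ⁅k, c⁆ ∈ P := by
        refine mem_inf.2 ⟨?_, ?_⟩
        · have h1 : c * k⁻¹ * c⁻¹ ∈ cj (l : H) Q :=
            (mem_normalizer_iff.1 (hCconj l l.2 hc) k⁻¹).1 (inv_mem hk)
          have e : ⁅k, c⁆ = k * (c * k⁻¹ * c⁻¹) := by rw [commutatorElement_def]; group
          rw [e]; exact mul_mem hk h1
        · rw [commutatorElement_def]
          exact mul_mem ((mem_normalizer_iff.1 hkC c).1 hc) (inv_mem hc)
      exact ⟨⟨_, (mem_inf.1 h2).2⟩, PReduced.le_pCore hPn (IsPGroup.comap_subtype hPp) h2, rfl⟩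

end Cfsg.Agent.S2843
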