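import Cfsg.Statements.S2844
import Cfsg.Agent.Lib.LargeSub.Basic

set_option autoImplicit false
open Cfsg

namespace Cfsg.Agent.S2844

/-- Let Q be a nontrivial large p-subgroup of the finite group H and Q• = O_p(N_H(Q)). Then for every g ∈ H outside N_H(Q): C_H(Q) ∩ C_H(gQg⁻¹) = 1, C_H(Q•) ∩ C_H(gQ•g⁻¹) = 1, Z(Q) ∩ Z(gQg⁻¹) = 1 and Z(Q•) ∩ Z(gQ•g⁻¹) = 1; moreover N_H(Q) = N_H(Q•) and Q• is large in H. -/
theorem result {H : Type*} [Group H] [Finite H] {p : ℕ} [Fact p.Prime] (Q : Subgroup H) (hQp : IsPGroup p ↥Q) (hQ1 : Q ≠ ⊥) (hL : Cfsg.IsLarge Q) (Qb : Subgroup H) (hQb : Qb = Cfsg.largeBullet p Q) : (∀ g : H, g ∉ Subgroup.normalizer ((Q : Subgroup H) : Set H) → Subgroup.centralizer ((Q : Subgroup H) : Set H) ⊓ Subgroup.centralizer ((((Q : Subgroup H).map (MulAut.conj (g : H)).toMonoidHom) : Subgroup H) : Set H) = ⊥ ∧ Subgroup.centralizer ((Qb : Subgroup H) : Set H) ⊓ Subgroup.centralizer ((((Qb : Subgroup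 H).map (MulAut.conj (g : H)).toMonoidHom) : Subgroup H) : Set H) = ⊥ ∧ (Q ⊓ Subgroup.centralizer ((Q : Subgroup H) : Set H)) ⊓ (((Q : Subgroup H).map (MulAut.conj (g : H)).toMonoidHom) ⊓ Subgroup.centralizer ((((Q : Subgroup H).map (MulAut.conj (g : H)).toMonoidHom) : Subgroup H) : Set H)) = ⊥ ∧ (Qb ⊓ Subgroup.centralizer ((Qb : Subgroup H) : Set H)) ⊓ (((Qb : Subgroup H).map (MulAut.conj (g : H)).toMonoidHom) ⊓ Subgroup.centralizer ((((Qb : Subgroup H).map (MulAut.conj (g : H)).toMonoidHom) : Subgroup H) : Set H)) = ⊥) ∧ Subgroup.normalizer ((Q : Subgroup H) : Set H) = Subgroup.normalizer ((Qb : Subgroup H) : Set H) ∧ Cfsg.IsLarge Qb := by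
  open Cfsg.Agent.LargeSub in
  subst hQb
  set N := Subgroup.normalizer ((Q : Subgroup H) : Set H) with hNdef
  set Qb := Cfsg.largeBullet p Q with hQbdef
  have hle : Q ≤ Qb := le_pCoreOf Subgroup.le_normalizer le_rfl hQp
  have hQbp : IsPGroup p Qb := isPGroup_pCoreOf N
  have hNeq : N = Subgroup.normalizer ((Qb : Subgroup H) : Set H) :=
    le_antisymm (self_le_normalizer_pCoreOf N) (normalizer_le hL hQ1 hQbp hle)
  have hcen : Subgroup.centralizer (Qb : Set H) ≤ Subgroup.centralizer (Q : Set H) :=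
    Subgroup.centralizer_le (SetLike.coe_subset_coe.mpr hle)
  have hQbL : Cfsg.IsLarge Qb :=
    ⟨hcen.trans (hL.1.trans hle), fun U hU h1 => (hL.2 U (hU.trans hcen) h1).trans hNeq.le⟩
  have hQb1 : Qb ≠ ⊥ := fun h => hQ1 (le_bot_iff.mp (h ▸ hle))
  refine ⟨fun g hg => ?_, hNeq, hQbL⟩
  have h1 := inf_centralizer_conj hQp hL hQ1 hg
  have h2 := inf_centralizer_conj hQbp hQbL hQb1 (g := g) (hNeq ▸ hg)
  refine ⟨h1, h2, le_bot_iff.mp ?_, le_bot_iff.mp ?_⟩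
  · exact (inf_le_inf inf_le_right inf_le_right).trans h1.le
  · exact (inf_le_inf inf_le_right inf_le_right).trans h2.le

end Cfsg.Agent.S2844
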