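import Cfsg.Statements.S2845
import Cfsg.Agent.Lib.LargeSub.Basic

set_option autoImplicit false
open Cfsg

namespace Cfsg.Agent.S2845

/-- Let Q be a nontrivial large p-subgroup of the finite group H. Then for every subgroup L ≥ Q with O_p(L) ≠ 1, C_H(O_p(L)) is a p-group and L has characteristic p, and either the weak closure L° of Q in L equals Q or C_H(L°) = 1; for every subgroup R of H containing a Sylow p-subgroup of H with O_p(R) ≠ 1, C_H(O_p(R)) ≤ O_p(R); and H has parabolic characteristic p. -/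
theorem result {H : Type*} [Group H] [Finite H] {p : ℕ} [Fact p.Prime] (Q : Subgroup H) (hQp : IsPGroup p ↥Q) (hQ1 : Q ≠ ⊥) (hL : Cfsg.IsLarge Q) : (∀ L : Subgroup H, Q ≤ L → Cfsg.pCore p ↥L ≠ ⊥ → IsPGroup p ↥(Subgroup.centralizer (((Cfsg.pCoreOf p L) : Subgroup H) : Set H)) ∧ Subgroup.centralizer (Cfsg.pCore p ↥L : Set ↥L) ≤ Cfsg.pCore p ↥L ∧ (Cfsg.weakClosure Q L = Q ∨ Subgroup.centralizer (((Cfsg.weakClosure Q L) : Subgroup H) : Set H) = ⊥)) ∧ (∀ R : Subgroup H, Cfsg.IsParabolic p R → Cfsg.pCore p ↥R ≠ ⊥ → Subgroup.centralizer (((Cfsg.pCoreOf p R) : Subgroup H) : Set H) ≤ (Cfsg.pCoreOf p R)) ∧ Cfsg.IsOfParabolicCharacteristic p H := by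
  open Cfsg.Agent.LargeSub in
  have hpar := isOfParabolicCharacteristic hQp hL hQ1
  refine ⟨fun L hQL hcore => ?_, fun R hR hcore => ?_, hpar⟩
  · rw [Ne, ← pCoreOf_eq_bot_iff] at hcore
    refine ⟨isPGroup_centralizer_pCoreOf hQp hL hQ1 hQL hcore,
      centralizer_pCore_iff.mpr (inf_centralizer_le hQp hL hQ1 hQL hcore), ?_⟩
    by_cases hall : ∀ g : H, Q.map (MulAut.conj g).toMonoidHom ≤ L → g ∈ Subgroup.normalizer (Q : Set H)
    · left
      refine le_antisymm (iSup_le fun g => ?_) ?_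
      · exact le_of_eq (Subgroup.mem_normalizer_iff_map_conj_eq.mp (hall g g.2))
      · intro q hq
        refine Subgroup.mem_iSup_of_mem (⟨1, ?_⟩ : {g : H // Q.map (MulAut.conj g).toMonoidHom ≤ L}) ?_
        · rintro _ ⟨x, hx, rfl⟩; simpa using hQL hx
        · exact ⟨q, hq, by simp⟩
    · right
      push Not at hall
      obtain ⟨g, hgL, hg⟩ := hall
      refine le_bot_iff.mp (le_trans ?_ (inf_centralizer_conj hQp hL hQ1 hg).le)
      refine le_inf (Subgroup.centralizer_le ?_) (Subgroup.centralizer_le ?_)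
      · intro q hq
        refine Subgroup.mem_iSup_of_mem (⟨1, ?_⟩ : {g : H // Q.map (MulAut.conj g).toMonoidHom ≤ L}) ?_
        · rintro _ ⟨x, hx, rfl⟩; simpa using hQL hx
        · exact ⟨q, hq, by simp⟩
      · exact fun q hq => Subgroup.mem_iSup_of_mem
          (⟨g, hgL⟩ : {g : H // Q.map (MulAut.conj g).toMonoidHom ≤ L}) hq
  · obtain ⟨T, hT⟩ := hR
    rw [Ne, ← pCoreOf_eq_bot_iff] at hcore
    exact (mem_charP_iff.mp (charP_of_parabolic hpar T hT hcore)).2

end Cfsg.Agent.S2845
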