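import Cfsg.Statements.S2846
import Cfsg.Agent.Lib.LargeSub.FrakM
import Cfsg.Agent.Lib.LargeSub.Basic

set_option autoImplicit false
open Cfsg

namespace Cfsg.Agent.S2846

/-- Let Q be a nontrivial large p-subgroup of the finite group H, S a Sylow p-subgroup containing Q, and L a subgroup containing S with O_p(L) ≠ 1 and C_H(O_p(L)) ≤ O_p(L). Then there are a subgroup M containing S having the basic property (M ∈ 𝔐_H, writing Y_X for the largest p-reduced normal subgroup of X and 𝓛_H for the set of subgroups X with O_p(X) ≠ 1 and C_H(O_p(X)) ≤ O_p(X): M ∈ 𝓛_H, M·C_H(Y_M) is the only maximal member of 𝓛_H containing M and its largest p-reduced normal subgroup is again Y_M, C_M(Y_M) is p-closed, and the image of C_M(Y_M) in M/O_p(M) lies in the Frattini subgroup of M/O_p(M)) and a subgroup L* with S ≤ L* ≤ M, O_p(L*) ≠ 1, C_H(O_p(L*)) ≤ O_p(L*), such that L·C_H(Y_L) = L*·C_H(Y_L), the weak closures of Q in L and in L* agree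 and lie in that of M, and Y_L = Y_{L*} ≤ Y_M. If moreover Q is not normal in L, then Q is normal in neither L* nor M. -/
theorem result {H : Type*} [Group H] [Finite H] {p : ℕ} [Fact p.Prime] (Q : Subgroup H) (hQp : IsPGroup p ↥Q) (hQ1 : Q ≠ ⊥) (hLg : Cfsg.IsLarge Q) (S : Sylow p H) (hQS : Q ≤ (S : Subgroup H)) (L : Subgroup H) (hSL : (S : Subgroup H) ≤ L) (hL : L ∈ Cfsg.charPSubgroups p H) : ∃ M Ls : Subgroup H, (S : Subgroup H) ≤ M ∧ Cfsg.IsInFrakM p M ∧ (S : Subgroup H) ≤ Ls ∧ Ls ≤ M ∧ Ls ∈ Cfsg.charPSubgroups p H ∧ L ⊔ Subgroup.centralizer (((Cfsg.largestPReducedOf p L) : Subgroup H) : Set H) = Ls ⊔ Subgroup.centralizer (((Cfsg.largestPReducedOf p L) : Subgroup H) : Set H) ∧ Cfsg.weakClosure Q L = Cfsg.weakClosure Q Ls ∧ Cfsg.weakClosure Q Ls ≤ Cfsg.weakClosure Q M ∧ (Cfsg.largestPReducedOf p L) = (Cfsg.largestPReducedOf p Ls) ∧ (Cfsg.largestPReducedOf p Ls) ≤ (Cfsg.largestPReducedOf p M) ∧ (¬ L ≤ Subgroup.normalizer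 ((Q : Subgroup H) : Set H) → ¬ Ls ≤ Subgroup.normalizer ((Q : Subgroup H) : Set H) ∧ ¬ M ≤ Subgroup.normalizer ((Q : Subgroup H) : Set H)) := by
  open Cfsg.Agent.LargeSub in
  obtain ⟨M, Ls, hSM, hM, hSLs, hLsM, hLsc, hY, hYM, hC⟩ :=
    exists_frakM (isOfParabolicCharacteristic hQp hLg hQ1) S hSL hL
  set C := Subgroup.centralizer ((Cfsg.largestPReducedOf p L : Subgroup H) : Set H) with hCdef
  have hCQ : C ≤ Subgroup.normalizer (Q : Set H) := centralizer_yOf_le hLg S hQS hSL hL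
  have key : ∀ A B : Subgroup H, A ≤ Subgroup.normalizer (C : Set H) → B ≤ Subgroup.normalizer (C : Set H) →
      A ≤ B ⊔ C → Q ≤ A → Q ≤ B → Cfsg.weakClosure Q A ≤ Cfsg.weakClosure Q B := by
    intro A B _ hB hle hQA hQB
    rw [weakClosure_eq hQp hLg hQ1 hQA, weakClosure_eq hQp hLg hQ1 hQB]
    refine iSup_le fun a => ?_
    obtain ⟨b, hb, c, hc, hbc⟩ := (mem_sup_mul hB).mp (hle a.2)
    refine le_iSup_of_le ⟨b, hb⟩ ?_
    rintro _ ⟨q, hq, rfl⟩
    refine ⟨c * q * c⁻¹, (Subgroup.mem_normalizer_iff.mp (hCQ hc) q).mp hq, ?_⟩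
    simp [← hbc, mul_assoc]
  have hLn : L ≤ Subgroup.normalizer (C : Set H) := (yOf_normalized L).trans centralizer_normalized
  have hLsn : Ls ≤ Subgroup.normalizer (C : Set H) := by
    rw [hCdef, hY]; exact (yOf_normalized Ls).trans centralizer_normalized
  have hLLs : L ≤ Ls ⊔ C := hC ▸ le_sup_left
  have hLsL : Ls ≤ L ⊔ C := hC.symm ▸ le_sup_left
  refine ⟨M, Ls, hSM, hM, hSLs, hLsM, hLsc, hC, ?_, weakClosure_mono hLsM, hY, hY ▸ hYM,
    fun hn => ?_⟩
  · exact le_antisymm (key L Ls hLn hLsn hLLs (hQS.trans hSL) (hQS.trans hSLs))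
      (key Ls L hLsn hLn hLsL (hQS.trans hSLs) (hQS.trans hSL))
  · have h1 : ¬ Ls ≤ Subgroup.normalizer ((Q : Subgroup H) : Set H) :=
      fun h => hn (hLLs.trans (sup_le h hCQ))
    exact ⟨h1, fun h => h1 (hLsM.trans h)⟩

end Cfsg.Agent.S2846
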