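import Cfsg.Statements.S2848
import Cfsg.Agent.Lib.LargeSub.PReducedOf

set_option autoImplicit false
open Cfsg

namespace Cfsg.Agent.S2848

/-- Standing hypotheses: G a finite group, S a Sylow p-subgroup, Q a nontrivial large p-subgroup of G contained in S (C_G(Q) ≤ Q and N_G(U) ≤ N_G(Q) for all nontrivial U ≤ C_G(Q)), and M a subgroup containing S with the basic property (M ∈ 𝔐_G(S)); Y_M denotes the largest p-reduced normal subgroup of M and M† = M·C_G(Y_M). Then O_p(M) is a weakly closed subgroup of M† (for p): it is the only M†-conjugate of itself inside some Sylow p-subgroup of M† containing it. -/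
theorem result {G : Type*} [Group G] [Finite G] {p : ℕ} [Fact p.Prime] (S : Sylow p G) (Q : Subgroup G) (hQp : IsPGroup p ↥Q) (hQ1 : Q ≠ ⊥) (hQS : Q ≤ (S : Subgroup G)) (hQ : Cfsg.IsLarge Q) (M : Subgroup G) (hSM : (S : Subgroup G) ≤ M) (hM : Cfsg.IsInFrakM p M) : Cfsg.IsWeaklyClosedSubgroup p (((Cfsg.pCoreOf p M)).subgroupOf (M ⊔ Subgroup.centralizer (((Cfsg.largestPReducedOf p M) : Subgroup G) : Set G))) := by
  open Cfsg.Agent.LargeSub in
  set Y := Cfsg.largestPReducedOf p M with hY
  set D := M ⊔ Subgroup.centralizer ((Y : Subgroup G) : Set G) with hD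
  set R := Cfsg.pCoreOf p M with hR
  have hSD : (S : Subgroup G) ≤ D := hSM.trans le_sup_left
  have hReq : R = (S : Subgroup G) ⊓ Subgroup.centralizer ((Y : Subgroup G) : Set G) :=
    pCoreOf_eq_inf S hSM hM
  have hRD : R ≤ D := (pCoreOf_le M).trans le_sup_left
  refine ⟨S.subtype hSD, fun x hx => (hReq.le hx).1, fun g hg => ?_⟩
  apply Subgroup.eq_of_le_of_card_ge
  · intro y hy
    have h1 : (y : G) ∈ (S : Subgroup G) := hg hy
    obtain ⟨x, hx, rfl⟩ := hy
    refine Subgroup.mem_subgroupOf.mpr (hReq.ge (Subgroup.mem_inf.mpr ⟨h1, ?_⟩))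
    have hgn : (g : G) ∈ Subgroup.normalizer (Subgroup.centralizer ((Y : Subgroup G) : Set G) : Set G) :=
      centralizer_normalized (dag_le_normalizer M g.2)
    exact (Subgroup.mem_normalizer_iff.mp hgn _).mp (hReq.le (Subgroup.mem_subgroupOf.mp hx)).2
  · rw [Subgroup.card_map_of_injective (MulAut.conj g).injective]

end Cfsg.Agent.S2848
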