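import Cfsg.Statements.S2849
import Cfsg.Agent.Lib.LargeSub.PReducedOf

set_option autoImplicit false
open Cfsg

namespace Cfsg.Agent.S2849

/-- Standing hypotheses: G a finite group, S a Sylow p-subgroup, Q a nontrivial large p-subgroup of G contained in S (C_G(Q) ≤ Q and N_G(U) ≤ N_G(Q) for all nontrivial U ≤ C_G(Q)), and M a subgroup containing S with the basic property (M ∈ 𝔐_G(S)); Y_M denotes the largest p-reduced normal subgroup of M and M† = M·C_G(Y_M). Suppose Y_M is asymmetric in G. Then for every subgroup R with Y_M ≤ R ≤ M†, the normal closure of Y_M in N_G(R) is elementary abelian. -/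
theorem result {G : Type*} [Group G] [Finite G] {p : ℕ} [Fact p.Prime] (S : Sylow p G) (Q : Subgroup G) (hQp : IsPGroup p ↥Q) (hQ1 : Q ≠ ⊥) (hQS : Q ≤ (S : Subgroup G)) (hQ : Cfsg.IsLarge Q) (M : Subgroup G) (hSM : (S : Subgroup G) ≤ M) (hM : Cfsg.IsInFrakM p M) (hasym : ¬ Cfsg.IsSymmetricIn (Cfsg.largestPReducedOf p M)) (R : Subgroup G) (hYR : (Cfsg.largestPReducedOf p M) ≤ R) (hRM : R ≤ (M ⊔ Subgroup.centralizer (((Cfsg.largestPReducedOf p M) : Subgroup G) : Set G))) : Cfsg.IsElementaryAbelian p ((Subgroup.normalClosure ((((Cfsg.largestPReducedOf p M)).subgroupOf (Subgroup.normalizer ((R : Subgroup G) : Set G)) : Subgroup ↥(Subgroup.normalizer ((R : Subgroup G) : Set G))) : Set ↥(Subgroup.normalizer ((R : Subgroup G) : Set G)))).map (Subgroup.normalizer ((R : Subgroup G) : Set G)).subtype) := by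
  open Cfsg.Agent.LargeSub in
  set Y := Cfsg.largestPReducedOf p M with hY
  set N := Subgroup.normalizer ((R : Subgroup G) : Set G) with hN
  have hRY : R ≤ Subgroup.normalizer ((Y : Subgroup G) : Set G) := hRM.trans (dag_le_normalizer M)
  have hYN : Y ≤ N := hYR.trans Subgroup.le_normalizer
  -- a conjugate of `Y` under `N(R)` is normal in `R` and commutes with `Y`
  have hcomm : ∀ g ∈ N, ∀ y ∈ Y, ∀ z ∈ Y, g * y * g⁻¹ * z = z * (g * y * g⁻¹) := by
    intro g hg
    set Yg := Y.map (MulAut.conj g).toMonoidHom with hYg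
    have hYgR : Yg ≤ R := by
      rintro _ ⟨y, hy, rfl⟩
      exact (Subgroup.mem_normalizer_iff.mp hg y).mp (hYR hy)
    have hRYg : R ≤ Subgroup.normalizer ((Yg : Subgroup G) : Set G) := by
      intro r hr
      rw [hYg, ← Subgroup.map_normalizer_eq_of_bijective _ (MulAut.conj g).bijective]
      exact ⟨g⁻¹ * r * g, hRY ((Subgroup.mem_normalizer_iff''.mp hg r).mp hr), by simp [mul_assoc]⟩
    have h1 : ⁅Y, Yg⁆ ≤ Y ⊓ Yg :=
      le_inf (Subgroup.le_normalizer_iff_commutator_le_left.mp (hYgR.trans hRY))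
        (by rw [Subgroup.commutator_comm]
            exact Subgroup.le_normalizer_iff_commutator_le_left.mp (hYR.trans hRYg))
    have h2 : ⁅Y, Yg⁆ = ⊥ := by
      by_contra h
      exact hasym ⟨g, h, h1⟩
    rw [Subgroup.commutator_eq_bot_iff_le_centralizer] at h2
    intro y hy z hz
    exact Subgroup.mem_centralizer_iff.mp (h2 hz) _ ⟨y, hy, rfl⟩
  set W := (Subgroup.normalClosure ((Y.subgroupOf N : Subgroup ↥N) : Set ↥N)).map N.subtype with hW
  have hgen : W ≤ Subgroup.closure {x : G | ∃ g ∈ N, ∃ y ∈ Y, x = g * y * g⁻¹} := by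
    rw [hW, Subgroup.map_le_iff_le_comap, Subgroup.normalClosure]
    refine (Subgroup.closure_le _).mpr fun x hx => ?_
    obtain ⟨a, ha, hax⟩ := Group.mem_conjugatesOfSet_iff.mp hx
    obtain ⟨c, hc⟩ := isConj_iff.mp hax
    exact Subgroup.subset_closure ⟨c, c.2, a, ha, by rw [← hc]; rfl⟩
  refine Cfsg.Agent.PReduced.isElementaryAbelian_mono (A := Subgroup.closure
    {x : G | ∃ g ∈ N, ∃ y ∈ Y, x = g * y * g⁻¹}) ?_ hgen
  have hpair : ∀ x ∈ {x : G | ∃ g ∈ N, ∃ y ∈ Y, x = g * y * g⁻¹},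
      ∀ x' ∈ {x : G | ∃ g ∈ N, ∃ y ∈ Y, x = g * y * g⁻¹}, x * x' = x' * x := by
    rintro x ⟨g, hg, y, hy, rfl⟩ x' ⟨g', hg', y', hy', rfl⟩
    have h := hcomm (g'⁻¹ * g) (mul_mem (inv_mem hg') hg) y hy y' hy'
    calc g * y * g⁻¹ * (g' * y' * g'⁻¹)
        = g' * ((g'⁻¹ * g) * y * (g'⁻¹ * g)⁻¹ * y') * g'⁻¹ := by group
      _ = g' * (y' * ((g'⁻¹ * g) * y * (g'⁻¹ * g)⁻¹)) * g'⁻¹ := by rw [h]
      _ = _ := by group
  have hc := Subgroup.isMulCommutative_closure hpair
  refine ⟨hc, fun a ha => ?_⟩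
  induction ha using Subgroup.closure_induction with
  | mem x hx =>
    obtain ⟨g, hg, y, hy, rfl⟩ := hx
    rw [show g * y * g⁻¹ = MulAut.conj g y from rfl, ← map_pow, (yOf_elementary M).2 y hy, map_one]
  | one => exact one_pow p
  | mul x y hx' hy' hx hy =>
    have hxy : Commute x y := Cfsg.Agent.PReduced.commute_of_isMulCommutative hc hx' hy'
    rw [hxy.mul_pow, hx, hy, one_mul]
  | inv x _ hx => rw [inv_pow, hx, inv_one]

end Cfsg.Agent.S2849
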