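import Cfsg.Statements.S2851
import Cfsg.Agent.EqLemmas
import Cfsg.Agent.Lib.LargeSub.Asym
import Cfsg.Agent.Lib.Components.GenFitting

set_option autoImplicit false
open Cfsg

namespace Cfsg.Agent.S2851

open Subgroup in
open scoped commutatorElement in
open Cfsg.Agent.LargeSub in
/-- A subgroup of `M†` that is a `p`-group modulo `C(Y_M)` and normalized by `F` centralizes `Y_M`. -/
theorem le_centralizer_of_normalized {G : Type*} [Group G] [Finite G] {p : ℕ} [Fact p.Prime]
    {S : Sylow p G} {M : Subgroup G} (h : Hyp p S M)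
    [((centralizer (Cfsg.largestPReducedOf p M : Set G)).subgroupOf
      (M ⊔ centralizer (Cfsg.largestPReducedOf p M : Set G))).Normal]
    {K : Subgroup G} (hK : K ≤ M ⊔ centralizer (Cfsg.largestPReducedOf p M : Set G))
    (hmod : Cfsg.Agent.PReduced.pMod p (centralizer (Cfsg.largestPReducedOf p M : Set G)) K)
    (hn : ((Cfsg.generalizedFittingSubgroup (↥(M ⊔ centralizer (Cfsg.largestPReducedOf p M : Set G)) ⧸
      (centralizer (Cfsg.largestPReducedOf p M : Set G)).subgroupOf
        (M ⊔ centralizer (Cfsg.largestPReducedOf p M : Set G)))).comap (QuotientGroup.mk' _)).map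
          (M ⊔ centralizer (Cfsg.largestPReducedOf p M : Set G)).subtype ≤ normalizer (K : Set G)) :
    K ≤ centralizer (Cfsg.largestPReducedOf p M : Set G) := by
  set C := centralizer (Cfsg.largestPReducedOf p M : Set G) with hC
  set D := M ⊔ C with hD
  set π := QuotientGroup.mk' (C.subgroupOf D) with hπ
  set Fs := Cfsg.generalizedFittingSubgroup (↥D ⧸ C.subgroupOf D) with hFs
  haveI : Fs.Normal := Cfsg.Agent.Components.genFitting_normal
  have hcore : Cfsg.pCore p (↥D ⧸ C.subgroupOf D) = ⊥ := by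
    set N := (Cfsg.pCore p (↥D ⧸ C.subgroupOf D)).comap π with hN
    haveI := Cfsg.Agent.PReduced.pCore_normal p (↥D ⧸ C.subgroupOf D)
    have hNn : D ≤ normalizer ((N.map D.subtype : Subgroup G) : Set G) :=
      (normal_subgroupOf_iff_le_normalizer (map_subtype_le N)).mp (by
        rw [subgroupOf, comap_map_eq_self_of_injective D.subtype_injective]
        exact (inferInstance : N.Normal))
    have hle : N.map D.subtype ≤ C := by
      have hY : Cfsg.largestPReducedOf p D = Cfsg.largestPReducedOf p M := h.frakM.2.2.2.1.symm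
      have := yOf_reduced (p := p) (L := D) (map_subtype_le N) hNn ?_
      · rw [hY] at this; exact this
      · rw [hY]
        rintro _ ⟨x, hx, rfl⟩
        obtain ⟨k, hk⟩ := Cfsg.Agent.Cores.isPGroup_pCore p _ ⟨π x, hx⟩
        refine ⟨k, ?_⟩
        have : π (x ^ p ^ k) = 1 := by rw [map_pow]; exact congrArg Subtype.val hk
        exact mem_subgroupOf.mp ((QuotientGroup.eq_one_iff _).mp this)
    refine eq_bot_iff.mpr fun z hz => ?_
    obtain ⟨x, rfl⟩ := QuotientGroup.mk'_surjective _ z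
    exact mem_bot.mpr ((QuotientGroup.eq_one_iff _).mpr (mem_subgroupOf.mpr (hle ⟨x, hz, rfl⟩)))
  set Kb := (K.subgroupOf D).map π with hKb
  have hKp : IsPGroup p Kb := by
    rintro ⟨z, x, hx, rfl⟩
    obtain ⟨k, hk⟩ := hmod x hx
    exact ⟨k, Subtype.ext (show π x ^ p ^ k = 1 by
      rw [← map_pow]; exact (QuotientGroup.eq_one_iff _).mpr (mem_subgroupOf.mpr hk))⟩
  have hFK : Fs ≤ normalizer (Kb : Set (↥D ⧸ C.subgroupOf D)) := by
    intro z hz
    obtain ⟨f, rfl⟩ := QuotientGroup.mk'_surjective _ z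
    refine Coprime.mem_normalizer_of_forall ?_
    rintro _ ⟨x, hx, rfl⟩
    refine ⟨f * x * f⁻¹, ?_, by simp [hπ]⟩
    exact (mem_normalizer_iff.mp (hn ⟨f, hz, rfl⟩) x).mp hx
  have hint : Kb ⊓ Fs = ⊥ := by
    refine le_bot_iff.mp (le_trans ?_ hcore.le)
    have h1 : (Kb ⊓ Fs).subgroupOf Fs ≤ Cfsg.pCore p Fs := Cores.le_pCore
      (Cores.subgroupOf_normal_of_le_normalizer
        ((le_inf hFK Subgroup.le_normalizer).trans inf_normalizer_le_normalizer_inf))
      ((hKp.to_le inf_le_left).comap_subtype)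
    rw [← map_subgroupOf_eq_of_le (inf_le_right : Kb ⊓ Fs ≤ Fs)]
    exact (map_mono h1).trans (by rw [Cores.pCore_map_subtype]; exact inf_le_left)
  have hKF : Kb ≤ Fs := by
    refine le_trans ?_ Cfsg.Agent.Components.centralizer_genFitting_le
    rw [← commutator_eq_bot_iff_le_centralizer, ← le_bot_iff, ← hint]
    exact le_inf (le_normalizer_iff_commutator_le_left.mp hFK)
      (commutator_le_right Kb Fs)
  have hbot : Kb = ⊥ := by rw [← hint, inf_eq_left.mpr hKF]
  intro x hx
  have hmem : π ⟨x, hK hx⟩ ∈ Kb := mem_map_of_mem π (mem_subgroupOf.mpr hx)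
  rw [hbot, mem_bot] at hmem
  exact mem_subgroupOf.mp ((QuotientGroup.eq_one_iff _).mp hmem)

/-- Standing hypotheses: G a finite group, S a Sylow p-subgroup, Q a nontrivial large p-subgroup of G contained in S, M a subgroup containing S with the basic property (M ∈ 𝔐_G(S)); Y_M the largest p-reduced normal subgroup of M and M† = M·C_G(Y_M). Let F be the preimage in M† of the generalized Fitting subgroup of M†/C_{M†}(Y_M). If Y_M is asymmetric in G and H is a subgroup of characteristic p containing F, then Y_M ≤ Y_H. -/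
theorem result {G : Type*} [Group G] [Finite G] {p : ℕ} [Fact p.Prime] (S : Sylow p G) (Q : Subgroup G) (hQp : IsPGroup p ↥Q) (hQ1 : Q ≠ ⊥) (hQS : Q ≤ (S : Subgroup G)) (hQ : Cfsg.IsLarge Q) (M : Subgroup G) (hSM : (S : Subgroup G) ≤ M) (hM : Cfsg.IsInFrakM p M) (hasym : ¬ Cfsg.IsSymmetricIn (Cfsg.largestPReducedOf p M)) [hn : ((Subgroup.centralizer (((Cfsg.largestPReducedOf p M) : Subgroup G) : Set G)).subgroupOf (M ⊔ Subgroup.centralizer (((Cfsg.largestPReducedOf p M) : Subgroup G) : Set G))).Normal] (F : Subgroup G) (hF : F = ((Cfsg.generalizedFittingSubgroup (↥(M ⊔ Subgroup.centralizer (((Cfsg.largestPReducedOf p M) : Subgroup G) : Set G)) ⧸ (Subgroup.centralizer (((Cfsg.largestPReducedOf p M) : Subgroup G) : Set G)).subgroupOf (M ⊔ Subgroup.centralizer (((Cfsg.largestPReducedOf p M) : Subgroup G) : Set G)))).comap (QuotientGroup.mk' ((Subgroup.centralizer (((Cfsg.largestPReducedOf p M) : Subgroup G) : Set G)).subgroupOf (M ⊔ Subgroup.centralizer (((Cfsg.largestPReducedOf p M)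 : Subgroup G) : Set G))))).map ((M ⊔ Subgroup.centralizer (((Cfsg.largestPReducedOf p M) : Subgroup G) : Set G))).subtype) (H : Subgroup G) (hFH : F ≤ H) (hH : Subgroup.centralizer (Cfsg.pCore p ↥H : Set ↥H) ≤ Cfsg.pCore p ↥H) : (Cfsg.largestPReducedOf p M) ≤ Cfsg.largestPReducedOf p H := by
  open Cfsg.Agent.LargeSub Cfsg.Agent Subgroup in
  have h := hyp_of_large hQp hQ1 hQ hSM hM hasym
  set Y := Cfsg.largestPReducedOf p M with hY
  set R := Cfsg.pCoreOf p M with hR
  set C := centralizer (Y : Set G) with hC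
  set D := M ⊔ C with hD
  have hCF : C ≤ F := by
    intro c hc
    rw [hF]
    refine ⟨⟨c, mem_sup_right hc⟩, mem_comap.mpr ?_, rfl⟩
    rw [QuotientGroup.mk'_apply, (QuotientGroup.eq_one_iff _).mpr (mem_subgroupOf.mpr hc)]
    exact one_mem _
  have hRH : R ≤ H := (pCoreOf_le_centralizer_yOf M).trans (hCF.trans hFH)
  set A := Cfsg.pCoreOf p H with hA
  have hFN : ∀ K : Subgroup G, H ≤ normalizer (K : Set G) → F ≤ normalizer (K : Set G) :=
    fun K hK => hFH.trans hK
  have hHA : H ≤ normalizer (A : Set G) := self_le_normalizer_pCoreOf H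
  have hAD : A ≤ D := by
    have hp : IsPGroup p ↥(A ⊔ R : Subgroup G) :=
      IsPGroup.to_sup_of_normal_left' (isPGroup_pCoreOf H) (isPGroup_pCoreOf M) (hRH.trans hHA)
    exact (le_sup_left.trans (h.le_normalizer hp le_sup_right)).trans
      (h.normalizer_pCoreOf_le.trans h.normalizer_yOf.le)
  have hAC : A ≤ C := le_centralizer_of_normalized h hAD
    (PReduced.pMod_of_isPGroup (isPGroup_pCoreOf H)) (hF ▸ hFN A hHA)
  have hchar := centralizer_pCore_iff.mp hH
  have hYH : Y ≤ H := (yOf_le_pCoreOf M).trans hRH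
  have hYZ : Y ≤ A ⊓ centralizer (A : Set G) := by
    have h1 : Y ≤ centralizer (A : Set G) := le_centralizer_iff.mp hAC
    exact le_inf ((le_inf hYH h1).trans hchar) h1
  set V := Subgroup.closure {x : G | ∃ g ∈ H, ∃ y ∈ Y, x = g * y * g⁻¹} with hV
  have hHN : H ≤ normalizer (A : Set G) ⊓ normalizer (centralizer (A : Set G) : Set G) :=
    le_inf hHA (hHA.trans centralizer_normalized)
  have hVZ : V ≤ Cfsg.omegaOne p (A ⊓ centralizer (A : Set G)) := (closure_le _).mpr (by
    rintro x ⟨g, hg, y, hy, rfl⟩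
    refine PReduced.mem_omegaOne ?_ ?_
    · exact (mem_normalizer_iff.mp (inf_normalizer_le_normalizer_inf (hHN hg)) y).mp (hYZ hy)
    · rw [show g * y * g⁻¹ = MulAut.conj g y from rfl, ← map_pow, (yOf_elementary M).2 y hy,
        map_one])
  have hVe : Cfsg.IsElementaryAbelian p V := PReduced.isElementaryAbelian_mono
    (PReduced.omegaOne_isElementaryAbelian (PReduced.center_commute A)) hVZ
  have hVH : V ≤ H := hVZ.trans ((PReduced.omegaOne_le p _).trans (inf_le_left.trans (pCoreOf_le H)))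
  have hVn : H ≤ normalizer (V : Set G) := by
    intro g hg
    refine Coprime.mem_normalizer_of_forall fun x hx => ?_
    have hle : V ≤ V.comap (MulAut.conj g).toMonoidHom := (closure_le _).mpr (by
      rintro z ⟨g', hg', y, hy, rfl⟩
      exact subset_closure ⟨g * g', H.mul_mem hg hg', y, hy, by simp [mul_assoc]⟩)
    exact hle hx
  have hYV : Y ≤ V := fun y hy => subset_closure ⟨1, H.one_mem, y, hy, by simp⟩
  refine hYV.trans (le_yOf hVH hVn hVe fun N hNH hHN' hmod => ?_)
  -- `N` lies in `M†`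
  obtain ⟨T, hT⟩ := ((isPGroup_pCoreOf M).of_equiv (subgroupOfEquivOfLe hRH).symm).exists_le_sylow
  have hTD : (T : Subgroup H).map H.subtype ≤ D := by
    refine (h.le_normalizer (T.isPGroup'.map H.subtype) ?_).trans
      (h.normalizer_pCoreOf_le.trans h.normalizer_yOf.le)
    exact fun r hr => ⟨⟨r, hRH hr⟩, hT (mem_subgroupOf.mpr hr), rfl⟩
  set CV := N ⊓ centralizer (V : Set G) with hCV
  have hCVn : H ≤ normalizer (CV : Set G) :=
    (le_inf hHN' (hVn.trans centralizer_normalized)).trans inf_normalizer_le_normalizer_inf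
  haveI : (CV.subgroupOf H).Normal := Cores.subgroupOf_normal_of_le_normalizer hCVn
  haveI : (N.subgroupOf H).Normal := Cores.subgroupOf_normal_of_le_normalizer hHN'
  have heq := PReduced.eq_sup_sylow_inf_of_pMod T (C := CV.subgroupOf H) (N := N.subgroupOf H)
    (fun x hx => hx.1) ((pMod_subgroupOf_iff hNH).mpr (fun x hx => by
      obtain ⟨k, hk⟩ := hmod x hx
      exact ⟨k, N.pow_mem hx _, hk⟩))
  have hCVC : centralizer (V : Set G) ≤ C := centralizer_le (SetLike.coe_subset_coe.mpr hYV)
  have hND : N ≤ D := by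
    intro n hn
    have h1 : (⟨n, hNH hn⟩ : H) ∈ CV.subgroupOf H ⊔ (T : Subgroup H) ⊓ N.subgroupOf H :=
      heq ▸ mem_subgroupOf.mpr hn
    have h2 := mem_map_of_mem H.subtype h1
    rw [Subgroup.map_sup] at h2
    refine SetLike.le_def.mp (sup_le ?_ ((map_mono inf_le_left).trans hTD)) h2
    rintro _ ⟨x, hx, rfl⟩
    exact mem_sup_right (hCVC hx.2)
  have hNC : N ≤ C := le_centralizer_of_normalized h hND
    (fun x hx => (hmod x hx).imp fun k hk => hCVC hk) (hF ▸ hFN N hHN')
  -- `N` centralizes every conjugate of `Y`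
  intro n hn
  refine mem_centralizer_iff.mpr fun v hv => ?_
  have hle : V ≤ centralizer ({n} : Set G) := (closure_le _).mpr (by
    rintro x ⟨g, hg, y, hy, rfl⟩
    have e : y * (g⁻¹ * n * g) = g⁻¹ * n * g * y :=
      mem_centralizer_iff.mp (hNC ((mem_normalizer_iff''.mp (hHN' hg) n).mp hn)) y hy
    rw [SetLike.mem_coe, mem_centralizer_singleton_iff]
    calc g * y * g⁻¹ * n = g * (y * (g⁻¹ * n * g)) * g⁻¹ := by group
      _ = g * ((g⁻¹ * n * g) * y) * g⁻¹ := by rw [e]
      _ = _ := by group)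
  exact mem_centralizer_singleton_iff.mp (hle hv)

end Cfsg.Agent.S2851
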