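import Cfsg.Statements.S2854
import Cfsg.Agent.EqLemmas
import Cfsg.Agent.Lib.LargeSub.FrakH

set_option autoImplicit false
open Cfsg

namespace Cfsg.Agent.S2854

/-- Standing hypotheses: G a finite group, S a Sylow p-subgroup, Q a nontrivial large p-subgroup of G contained in S, M a subgroup containing S with the basic property (M ∈ 𝔐_G(S)); Y_M the largest p-reduced normal subgroup of M and M† = M·C_G(Y_M). Suppose Y_M is asymmetric in G, H ∈ ℌ_G(O_p(M)), and H ≤ N_G(gQg⁻¹) for some g ∈ G. Then gQg⁻¹ ≤ O_p(H·gQg⁻¹) ≤ N_G(O_p(M)) ≤ N_G(Y_M) = M†; H is normal in H·gQg⁻¹ with O^p(H) = O^p(H·gQg⁻¹); and H·gQg⁻¹ is p-irreducible. -/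
theorem result {G : Type*} [Group G] [Finite G] {p : ℕ} [Fact p.Prime] (S : Sylow p G) (Q : Subgroup G) (hQp : IsPGroup p ↥Q) (hQ1 : Q ≠ ⊥) (hQS : Q ≤ (S : Subgroup G)) (hQ : Cfsg.IsLarge Q) (M : Subgroup G) (hSM : (S : Subgroup G) ≤ M) (hM : Cfsg.IsInFrakM p M) (hasym : ¬ Cfsg.IsSymmetricIn (Cfsg.largestPReducedOf p M)) (H : Subgroup G) (hH : Cfsg.IsInFrakH p M H) (g : G) (hHQ : H ≤ Subgroup.normalizer ((((Q : Subgroup G).map (MulAut.conj (g : G)).toMonoidHom) : Subgroup G) : Set G)) : ((Q : Subgroup G).map (MulAut.conj (g : G)).toMonoidHom) ≤ Cfsg.pCoreOf p (H ⊔ ((Q : Subgroup G).map (MulAut.conj (g : G)).toMonoidHom)) ∧ Cfsg.pCoreOf p (H ⊔ ((Q : Subgroup G).map (MulAut.conj (g : G)).toMonoidHom)) ≤ Subgroup.normalizer (((Cfsg.pCoreOf p M) : Subgroup G) : Set G) ∧ Subgroup.normalizer (((Cfsg.pCoreOf p M) : Subgroup G) : Set G) ≤ Subgroup.normalizer (((Cfsg.largestPReducedOf p M) : Subgroup G) : Set G) ∧ Subgroup.normalizer (((Cfsg.largestPReducedOf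 p M) : Subgroup G) : Set G) = (M ⊔ Subgroup.centralizer (((Cfsg.largestPReducedOf p M) : Subgroup G) : Set G)) ∧ (H.subgroupOf (H ⊔ ((Q : Subgroup G).map (MulAut.conj (g : G)).toMonoidHom))).Normal ∧ (Cfsg.pResidual p ↥H).map H.subtype = (Cfsg.pResidual p ↥(H ⊔ ((Q : Subgroup G).map (MulAut.conj (g : G)).toMonoidHom))).map (H ⊔ ((Q : Subgroup G).map (MulAut.conj (g : G)).toMonoidHom)).subtype ∧ Cfsg.IsPIrreducible p ↥(H ⊔ ((Q : Subgroup G).map (MulAut.conj (g : G)).toMonoidHom)) := by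
  open Cfsg.Agent.LargeSub Cfsg.Agent Subgroup in
  have h := hyp_of_large hQp hQ1 hQ hSM hM hasym
  set Y := Cfsg.largestPReducedOf p M with hY
  set R := Cfsg.pCoreOf p M with hR
  set Q' := Q.map (MulAut.conj g).toMonoidHom with hQ'
  set X := H ⊔ Q' with hX
  set A := Cfsg.pCoreOf p X with hA
  have hHX : H ≤ X := le_sup_left
  have hRX : R ≤ X := hH.2.1.trans hHX
  have hQA : Q' ≤ A := le_pCoreOf le_sup_right (sup_le hHQ Subgroup.le_normalizer) (hQp.map _)
  have hAR : A ≤ normalizer (R : Set G) := h.pCoreOf_le_normalizer hRX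
  have hXH : X ≤ normalizer (H : Set G) := by
    refine sup_le Subgroup.le_normalizer fun q hq => Coprime.mem_normalizer_of_forall fun x hx => ?_
    set K := Subgroup.closure {z : G | ∃ a ∈ H, ∃ r ∈ R, z = a * r * a⁻¹} with hK
    have hKH : K ≤ H := (closure_le _).mpr (by
      rintro z ⟨a, ha, r, hr, rfl⟩
      exact H.mul_mem (H.mul_mem ha (hH.2.1 hr)) (H.inv_mem ha))
    have hKn : H ≤ normalizer (K : Set G) := fun b hb => Coprime.mem_normalizer_of_forall fun z hz => by
      have hle : K ≤ K.comap (MulAut.conj b).toMonoidHom := (closure_le _).mpr (by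
        rintro z ⟨a, ha, r, hr, rfl⟩
        exact subset_closure ⟨b * a, H.mul_mem hb ha, r, hr, by simp [mul_assoc]⟩)
      exact hle hz
    have hKeq : K = H := h.eq_of_normalized hH
      (fun r hr => subset_closure ⟨1, H.one_mem, r, hr, by simp⟩) hKH hKn
    have hle : K ≤ K.comap (MulAut.conj q).toMonoidHom := (closure_le _).mpr (by
      rintro z ⟨a, ha, r, hr, rfl⟩
      refine subset_closure ⟨a, ha, (a⁻¹ * q * a) * r * (a⁻¹ * q * a)⁻¹, ?_, by simp [mul_assoc]⟩
      exact (mem_normalizer_iff.mp (hAR ((mem_normalizer_iff''.mp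
        (self_le_normalizer_pCoreOf X (hHX ha)) q).mp (hQA hq))) r).mp hr)
    rw [hKeq] at hle
    exact hle hx
  set E := pRes p H with hE
  have hEX : X ≤ normalizer (E : Set G) := hXH.trans (normalizer_le_normalizer_pRes H)
  have hres : pRes p H = pRes p X := by
    refine le_antisymm (pRes_le_of_forall fun a ha hap => mem_pRes (hHX ha) hap) ?_
    have hp : IsPGroup p ↥(A ⊔ R : Subgroup G) := IsPGroup.to_sup_of_normal_left'
      (isPGroup_pCoreOf X) (isPGroup_pCoreOf M) (hRX.trans (self_le_normalizer_pCoreOf X))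
    refine pRes_le_of_le_sup hp ((sup_le (pCoreOf_le X) hRX).trans hEX) ?_
    refine sup_le ((h.le_pRes_sup hH).trans ?_) (hQA.trans (le_sup_left.trans le_sup_left))
    exact sup_le le_sup_right (le_sup_of_le_left le_sup_right)
  refine ⟨hQA, hAR, h.normalizer_pCoreOf_le, h.normalizer_yOf,
    Cores.subgroupOf_normal_of_le_normalizer hXH, hres, ?_, fun N hN hNc => ?_⟩
  · -- not `p`-closed
    intro hcl
    obtain ⟨T, hT⟩ := ((isPGroup_pCoreOf M).of_equiv (subgroupOfEquivOfLe hRX).symm).exists_le_sylow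
    haveI := hcl T
    have hRA : R ≤ A := fun r hr => ⟨⟨r, hRX hr⟩,
      (Cores.pCore_eq_sylow T).symm ▸ hT (mem_subgroupOf.mpr hr), rfl⟩
    exact hH.2.2.1 (((yOf_le_pCoreOf M).trans (le_inf hRA hH.2.1)).trans (pCoreOf_inf_le hHX))
  -- `O^p(X)` lies in every normal subgroup that is not `p`-closed
  by_contra hEN
  set N' := N.map X.subtype with hN'
  have hN'X : N' ≤ X := map_subtype_le N
  have hXN' : X ≤ normalizer (N' : Set G) := (normal_subgroupOf_iff_le_normalizer hN'X).mp (by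
    rw [hN', subgroupOf, comap_map_eq_self_of_injective X.subtype_injective]; exact hN)
  set P₂ := R ⊔ N' with hP₂
  have hP₂X : P₂ ≤ X := sup_le hRX hN'X
  have hlt : P₂ ⊓ H < H := by
    refine lt_of_le_of_ne inf_le_right fun heq => hEN ?_
    have h1 : pRes p X ≤ N' := hres ▸ pRes_le_of_le_sup (isPGroup_pCoreOf M) (hRX.trans hXN')
      (inf_eq_right.mp heq)
    intro x hx
    obtain ⟨y, hy, hyx⟩ := h1 ⟨x, hx, rfl⟩
    exact X.subtype_injective hyx ▸ hy
  have hYP₂ : Y ≤ Cfsg.pCoreOf p P₂ :=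
    (hH.2.2.2 _ (le_inf le_sup_left hH.2.1) hlt).trans (pCoreOf_le_of_normalized inf_le_left
      ((le_inf Subgroup.le_normalizer (hP₂X.trans hXH)).trans inf_normalizer_le_normalizer_inf))
  have hYX : Y ≤ X := (yOf_le_pCoreOf M).trans hRX
  have hXA : X ≤ normalizer (A : Set G) := self_le_normalizer_pCoreOf X
  have hYst : Y ≤ X ⊓ stab N' A := fun y hy => by
    refine mem_inf.mpr ⟨hYX hy, mem_stab.mpr ⟨hXN' (hYX hy), hXA (hYX hy), fun n hn => ?_⟩⟩
    refine pCoreOf_le_of_normalized hN'X hXN' (pCoreOf_inf_le (le_sup_right : N' ≤ P₂) (mem_inf.mpr ⟨?_, ?_⟩))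
    · have h1 := (Cfsg.pCoreOf p P₂).inv_mem (hYP₂ hy)
      have h2 := (mem_normalizer_iff.mp (self_le_normalizer_pCoreOf P₂
        (mem_sup_right hn)) _).mp h1
      have h3 := (Cfsg.pCoreOf p P₂).mul_mem (hYP₂ hy) h2
      convert h3 using 1; group
    · exact N'.mul_mem ((mem_normalizer_iff.mp (hXN' (hYX hy)) n).mp hn) (N'.inv_mem hn)
  set U := X ⊓ stab N' A with hU
  have hUn : X ≤ normalizer (U : Set G) := fun x hx => Coprime.mem_normalizer_of_forall fun u hu =>
    mem_inf.mpr ⟨X.mul_mem (X.mul_mem hx hu.1) (X.inv_mem hx),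
      conj_mem_stab (hXN' hx) (hXA hx) hu.2⟩
  have hEU : E ≤ U := le_sup_left.trans
    ((h.normalClosure_yOf_eq hH).ge.trans (normalClosure_map_le hYst (hHX.trans hUn)))
  have hkey : ∀ T : Sylow p ↥X, (T : Subgroup ↥X).map X.subtype ⊓ N' ≤ A := by
    intro T
    set TX := (T : Subgroup ↥X).map X.subtype with hTX
    have hATX : A ≤ TX := map_mono (Cores.pCore_le_sylow T)
    set T' := A ⊔ TX ⊓ N' with hT'
    have hT'T : T' ≤ TX := sup_le hATX inf_le_left
    have hTXX : TX ≤ X := map_subtype_le _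
    have hXT' : X ≤ normalizer (T' : Set G) := by
      refine (pRes_sup_sylow T).ge.trans (sup_le (fun e he => ?_) ?_)
      · refine Coprime.mem_normalizer_of_forall fun x hx => ?_
        have heU : e ∈ U := hEU (hres.ge he)
        have hle : T' ≤ T'.comap (MulAut.conj e).toMonoidHom := by
          refine sup_le (fun a ha => mem_sup_left ((mem_normalizer_iff.mp (hXA heU.1) a).mp ha))
            fun t ht => ?_
          show e * t * e⁻¹ ∈ T'
          have := mul_mem (mem_sup_left (T := TX ⊓ N') (heU.2.2.2 t ht.2)) (mem_sup_right (S := A) ht)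
          convert this using 1; group
        exact hle hx
      · exact (le_inf (hTXX.trans hXA) ((le_inf Subgroup.le_normalizer (hTXX.trans hXN')).trans
          inf_normalizer_le_normalizer_inf)).trans (normalizer_inf_normalizer_le_normalizer_sup _ _)
    exact le_sup_right.trans
      (le_pCoreOf (hT'T.trans hTXX) hXT' ((T.isPGroup'.map X.subtype).to_le hT'T))
  apply hNc
  intro P
  obtain ⟨T, hT⟩ := (P.isPGroup'.map N.subtype).exists_le_sylow
  haveI : (Cfsg.pCore p ↥X).Normal := PReduced.pCore_normal p ↥X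
  have hle : (P : Subgroup ↥N) ≤ (Cfsg.pCore p ↥X).subgroupOf N := fun x hx => by
    obtain ⟨z, hz, hzx⟩ := hkey T (mem_inf.mpr ⟨⟨_, hT ⟨x, hx, rfl⟩, rfl⟩, ⟨_, x.2, rfl⟩⟩)
    have hzx' : z = (x : ↥X) := X.subtype_injective hzx
    rw [hzx'] at hz
    exact mem_subgroupOf.mpr hz
  rw [← P.is_maximal' ((Cores.isPGroup_pCore p ↥X).comap_subtype) hle]
  infer_instance

end Cfsg.Agent.S2854
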