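import Cfsg.Statements.S2855
import Cfsg.Agent.EqLemmas
import Cfsg.Agent.Lib.TransitiveFamily.Basic

set_option autoImplicit false
open Cfsg

namespace Cfsg.Agent.S2855

/-- Let H be a finite group, p a prime, and 𝒦 a nonempty set of subgroups of H permuted transitively by conjugation, with R the subgroup generated by the members of 𝒦. Suppose O^p(H) ≤ R, each E ∈ 𝒦 has E·O_p(H) normal in R·O_p(H), and each E ∈ 𝒦 is p-minimal (generated by the conjugates of a Sylow p-subgroup T_E of E, with T_E in exactly one maximal subgroup of E). Then H is p-minimal in the same sense. If instead each E ∈ 𝒦 is strongly p-irreducible, then H is p-irreducible and, for E, K ∈ 𝒦, either O^p(E·O_p(H)) = O^p(K·O_p(H)) or [E, K] ≤ O_p(H). -/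
theorem result {H : Type*} [Group H] [Finite H] {p : ℕ} [Fact p.Prime] (𝒦 : Set (Subgroup H)) (hne : 𝒦.Nonempty) (hinv : ∀ h : H, ∀ E ∈ 𝒦, E.map (MulAut.conj h).toMonoidHom ∈ 𝒦) (htr : ∀ E ∈ 𝒦, ∀ K ∈ 𝒦, ∃ h : H, K = E.map (MulAut.conj h).toMonoidHom) (hres : Cfsg.pResidual p H ≤ sSup 𝒦) (hnorm : ∀ E ∈ 𝒦, sSup 𝒦 ⊔ Cfsg.pCore p H ≤ Subgroup.normalizer ((E ⊔ Cfsg.pCore p H : Subgroup H) : Set H)) : ((∀ E ∈ 𝒦, ∀ T : Sylow p ↥E, Cfsg.IsMinimalOver (T : Subgroup ↥E)) → ∀ T : Sylow p H, Cfsg.IsMinimalOver (T : Subgroup H)) ∧ ((∀ E ∈ 𝒦, Cfsg.IsStronglyPIrreducible p ↥E) → Cfsg.IsPIrreducible p H ∧ ∀ E ∈ 𝒦, ∀ K ∈ 𝒦, (Cfsg.pResidual p ↥(E ⊔ Cfsg.pCore p H)).map (E ⊔ Cfsg.pCore p H).subtype = (Cfsg.pResidual p ↥(K ⊔ Cfsg.pCore p H)).map (K ⊔ Cfsg.pCore p H).subtype ∨ ⁅E, K⁆ ≤ Cfsg.pCore p H) := by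
  open Cfsg.Agent Cfsg.Agent.TransitiveFamily Cfsg.Agent.LargeSub Subgroup in
  haveI hPn : (Cfsg.pCore p H).Normal := Cores.pCore_normal p H
  set P := Cfsg.pCore p H with hP
  set π := QuotientGroup.mk' P with hπ
  have hπs : Function.Surjective π := QuotientGroup.mk'_surjective _
  have hker : π.ker = P := QuotientGroup.ker_mk' _
  have hPp : IsPGroup p P := Cores.isPGroup_pCore p H
  set ℱ : Set (Subgroup (H ⧸ P)) := (Subgroup.map π) '' 𝒦 with hℱ
  have hmap : sSup ℱ = (sSup 𝒦).map π := by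
    refine le_antisymm (sSup_le ?_) (map_le_iff_le_comap.mpr (sSup_le fun E hE => ?_))
    · rintro _ ⟨E, hE, rfl⟩; exact map_mono (le_sSup hE)
    · exact map_le_iff_le_comap.mp (le_sSup ⟨E, hE, rfl⟩)
  have hEP : ∀ E : Subgroup H, (E ⊔ P).map π = E.map π := fun E => by
    rw [Subgroup.map_sup, sup_eq_left, hπ, QuotientGroup.map_mk'_self]; exact bot_le
  have hconj : ∀ (g : H) (E : Subgroup H), (E.map (MulAut.conj g).toMonoidHom).map π =
      (E.map π).map (MulAut.conj (π g)).toMonoidHom := fun g E => by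
    rw [Subgroup.map_map, Subgroup.map_map]; congr 1
  have hfam : Family p ℱ := by
    refine ⟨hne.image _, ?_, ?_, ?_, ?_⟩
    · rintro g _ ⟨E, hE, rfl⟩
      obtain ⟨g', rfl⟩ := hπs g
      exact ⟨_, hinv g' E hE, hconj g' E⟩
    · rintro _ ⟨E, hE, rfl⟩ _ ⟨K, hK, rfl⟩
      obtain ⟨g, rfl⟩ := htr E hE K hK
      exact ⟨π g, hconj g E⟩
    · rw [← PIrred.map_pResidual π hπs, hmap]; exact map_mono hres
    · rintro _ ⟨E, hE, rfl⟩
      rw [hmap, ← hEP E]
      exact (map_mono (le_sup_left.trans (hnorm E hE))).trans (le_normalizer_map π)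
  have hred : Cfsg.pCore p (H ⧸ P) = ⊥ := Cores.pCore_quotient_self p H
  have hkE : ∀ E : Subgroup H, IsPGroup p (π.subgroupMap E).ker := fun E => by
    rintro ⟨⟨x, hx⟩, hxk⟩
    have hxP : x ∈ P := hker ▸ (congrArg Subtype.val hxk : π x = 1)
    obtain ⟨k, hk⟩ := hPp ⟨x, hxP⟩
    exact ⟨k, Subtype.ext (Subtype.ext (by simpa using congrArg Subtype.val hk))⟩
  constructor
  · intro hmin T
    refine isMinimalOver_of_map hπs (hker.le.trans (Cores.pCore_le_sylow T)) ?_
    refine isMinimalOver_sylow hfam ?_ (T.mapSurjective hπs)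
    rintro _ ⟨E, hE, rfl⟩ T'
    obtain ⟨T₀, rfl⟩ := Sylow.mapSurjective_surjective (π.subgroupMap_surjective E) p T'
    exact isMinimalOver_map (π.subgroupMap_surjective E)
      ((Cores.le_pCore inferInstance (hkE E)).trans (Cores.pCore_le_sylow T₀)) (hmin E hE T₀)
  intro hirr0
  have hirr : ∀ F ∈ ℱ, Cfsg.IsStronglyPIrreducible p ↥F := by
    rintro _ ⟨E, hE, rfl⟩
    have hs := π.subgroupMap_surjective E
    refine ⟨fun h => (hirr0 E hE).1 ((PIrred.isPClosed_iff_of_surjective _ hs (hkE E)).mpr h),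
      fun N hN hNle => ?_⟩
    rw [← PIrred.map_pResidual _ hs, map_le_iff_le_comap]
    refine (hirr0 E hE).2 _ inferInstance fun hle => hNle ?_
    have := (map_mono (f := π.subgroupMap E) hle).trans (Cores.map_pCore_le _ hs p)
    rwa [map_commutator, map_comap_eq_self_of_surjective hs, map_top_of_surjective _ hs] at this
  obtain ⟨hnc, hir⟩ := TransitiveFamily.isPIrreducible hfam hred hirr
  refine ⟨⟨fun hc => hnc ((PIrred.isPClosed_iff_of_surjective π hπs (hker.symm ▸ hPp)).mp hc),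
    fun N hN hNc => ?_⟩, fun E hE K hK => ?_⟩
  · have hnN : ¬ Cfsg.IsPClosed p ↥(N.map π) := fun h =>
      hNc ((PIrred.isPClosed_iff_of_surjective _ (π.subgroupMap_surjective N) (hkE N)).mpr h)
    have h1 := hir (N.map π) (hN.map π hπs) hnN
    rw [← PIrred.map_pResidual π hπs, Subgroup.map_le_map_iff, hker] at h1
    exact (closure_le _).mpr fun g hg => mem_of_mem_sup_pGroup hPp (normalizer_eq_top (H := N) ▸ le_top)
      (SetLike.le_def.mp (sup_comm N P).le (h1 (subset_closure hg))) hg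
  · rcases eq_or_commute hfam hred hirr ⟨E, hE, rfl⟩ ⟨K, hK, rfl⟩ with h | h
    · left
      have key : ∀ A B : Subgroup H, pRes p (A.map π) = pRes p (B.map π) →
          pRes p (A ⊔ P) ≤ pRes p (B ⊔ P) := by
        intro A B hAB
        refine pRes_le_of_forall fun g hg hgp => ?_
        have h1 : π g ∈ pRes p (B.map π) := hAB ▸ mem_pRes
          (hEP A ▸ mem_map_of_mem π hg) (Nat.Coprime.coprime_dvd_left (orderOf_map_dvd π g) hgp)
        have h2 : pRes p (B.map π) ≤ (pRes p (B ⊔ P)).map π := by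
          rw [pRes, ← PIrred.map_pResidual _ (π.subgroupMap_surjective B), Subgroup.map_map]
          rintro _ ⟨x, hx, rfl⟩
          refine ⟨(x : H), ?_, rfl⟩
          exact ⟨Subgroup.inclusion le_sup_left x,
            Transfer.map_pResidual_le (Subgroup.inclusion (le_sup_left : B ≤ B ⊔ P)) (mem_map_of_mem _ hx), rfl⟩
        have h3 : g ∈ pRes p (B ⊔ P) ⊔ P := by
          rw [show pRes p (B ⊔ P) ⊔ P = ((pRes p (B ⊔ P)).map π).comap π by rw [comap_map_eq, hker]]
          exact mem_comap.mpr (h2 h1)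
        exact mem_of_mem_sup_pGroup hPp ((le_sup_right : P ≤ B ⊔ P).trans (self_le_normalizer_pRes _))
          (SetLike.le_def.mp (sup_comm _ _).le h3) hgp
      exact le_antisymm (key E K h) (key K E h.symm)
    · right
      rw [← map_commutator, Subgroup.map_eq_bot_iff, hker] at h
      exact h

end Cfsg.Agent.S2855
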