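import Cfsg.Statements.S2857
import Cfsg.Agent.Lib.Amalgam.IteratedClosure

set_option autoImplicit false
open Cfsg

namespace Cfsg.Agent.S2857

/-- Let (M₁, M₂) be an amalgam pair in X satisfying the rank-two standing hypothesis (characteristic p, the normalizers in M₁ and in M₂ of a Sylow p-subgroup of M₁ ∩ M₂ equal and contained in M₁ ∩ M₂, and strongly p-embedded residues), λ a vertex of the coset graph, L_λ the subgroup of its stabilizer generated by the p-elements, Q_λ = O_p of the stabilizer, O^p(L_λ) the subgroup of L_λ generated by its elements of order prime to p, and V_λ^{(k)} the subgroup generated by the Z_μ over the vertices μ at distance at most k from λ (Z_μ being generated by the Ω₁(Z(S)), S a Sylow p-subgroup of the stabilizer of μ). If n ≥ 2 and V_λ^{(n)} ≤ Q_λ, then O^p(L_λ) does not centralize V_λ^{(n)}/V_λ^{(n-2)}, that is, [V_λ^{(n)}, O^p(L_λ)] is not contained in V_λ^{(n-2)}. -/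
theorem result {X : Type*} [Group X] {p : ℕ} [Fact p.Prime] (M₁ M₂ : Subgroup X) (h : Cfsg.IsSpeAmalgamPair p M₁ M₂) (lam : Cfsg.CosetVertex M₁ M₂) (n : ℕ) (hn : 2 ≤ n) (hVQ : Cfsg.vertexVIter p M₁ M₂ n lam ≤ Cfsg.vertexQ p lam) : ¬ ⁅Cfsg.vertexVIter p M₁ M₂ n lam, ((Cfsg.pResidual p ↥(Cfsg.pElementClosure p (MulAction.stabilizer X lam))).map (Cfsg.pElementClosure p (MulAction.stabilizer X lam)).subtype)⁆ ≤ Cfsg.vertexVIter p M₁ M₂ (n - 2) lam := by
  intro hR
  have hc := Cfsg.Agent.Amalgam.connected h.1.1.1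
  obtain ⟨μ, hadj⟩ := Cfsg.Agent.Amalgam.exists_adj lam
  have hd : (cosetGraph M₁ M₂).dist lam μ = 1 := SimpleGraph.dist_eq_one_iff_adj.mpr hadj
  have hd' : (cosetGraph M₁ M₂).dist μ lam = 1 := SimpleGraph.dist_eq_one_iff_adj.mpr hadj.symm
  refine Cfsg.Agent.Amalgam.false_of_residual_normalizes h hadj
    (W := Cfsg.vertexVIter p M₁ M₂ (n - 1) μ)
    (Cfsg.Agent.Amalgam.le_vertexVIter (by simp)) ?_ (Cfsg.Agent.Amalgam.le_normalizer_vertexVIter h.1 _ μ) ?_
  · refine (Cfsg.Agent.Amalgam.vertexVIter_le_of_dist hc (n := n) (by rw [hd]; omega)).trans (hVQ.trans ?_)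
    exact le_inf (Cfsg.Agent.Amalgam.pCoreOf_le _)
      ((Cfsg.Agent.Amalgam.vertexQ_le_neighbourKernel h.1 lam).trans (inf_le_right.trans (iInf₂_le μ hadj)))
  · refine Cfsg.Agent.Amalgam.normalizes_of_commutator_le ?_
    refine (Subgroup.commutator_mono (Cfsg.Agent.Amalgam.vertexVIter_le_of_dist hc (n := n)
      (by rw [hd]; omega)) le_rfl).trans (hR.trans ?_)
    exact Cfsg.Agent.Amalgam.vertexVIter_le_of_dist hc (by rw [hd']; omega)

end Cfsg.Agent.S2857
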