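import Cfsg.Statements.S2908
import Cfsg.Agent.EqLemmas
import Cfsg.Agent.Lib.Coprime.Invariant
import Cfsg.Agent.Lib.Coprime.PQ

set_option autoImplicit false
open Cfsg

namespace Cfsg.Agent.S2908

/-- The three subgroup lemma modulo a subgroup normalised by all three. -/
theorem three_subgroup_le {G : Type*} [Group G] {A B C N : Subgroup G}
    (hA : A ≤ Subgroup.normalizer (N : Set G)) (hB : B ≤ Subgroup.normalizer (N : Set G))
    (hC : C ≤ Subgroup.normalizer (N : Set G)) (h1 : ⁅⁅B, C⁆, A⁆ ≤ N) (h2 : ⁅⁅C, A⁆, B⁆ ≤ N) :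
    ⁅⁅A, B⁆, C⁆ ≤ N := by
  set M := Subgroup.normalizer (N : Set G) with hM
  haveI : (N.subgroupOf M).Normal := Subgroup.normal_in_normalizer
  have key : ∀ D : Subgroup ↥M, D ≤ N.subgroupOf M ↔
      D.map (QuotientGroup.mk' (N.subgroupOf M)) = ⊥ := fun D => by
    rw [Subgroup.map_eq_bot_iff, QuotientGroup.ker_mk']
  have e : ∀ X Y Z : Subgroup G, X ≤ M → Y ≤ M → Z ≤ M → (⁅⁅X, Y⁆, Z⁆ ≤ N ↔
      ⁅⁅X.subgroupOf M, Y.subgroupOf M⁆, Z.subgroupOf M⁆ ≤ N.subgroupOf M) := fun X Y Z hX hY hZ => by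
    have h3 : ∀ W : Subgroup ↥M, W ≤ N.subgroupOf M ↔ W.map M.subtype ≤ N := fun W =>
      Subgroup.map_le_iff_le_comap.symm
    rw [h3, Subgroup.map_commutator, Subgroup.map_commutator, Subgroup.map_subgroupOf_eq_of_le hX,
      Subgroup.map_subgroupOf_eq_of_le hY, Subgroup.map_subgroupOf_eq_of_le hZ]
  rw [e _ _ _ hA hB hC, key, Subgroup.map_commutator, Subgroup.map_commutator]
  rw [e _ _ _ hB hC hA, key, Subgroup.map_commutator, Subgroup.map_commutator] at h1
  rw [e _ _ _ hC hA hB, key, Subgroup.map_commutator, Subgroup.map_commutator] at h2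
  exact Subgroup.commutator_commutator_eq_bot_of_rotate h1 h2

/-- Let P be a p-subgroup of a finite group, normalized by a p-subgroup A and by a subgroup B of order prime to p that commutes elementwise with A. If [P, B] ≤ [P, A], then B centralizes P. -/
theorem result {G : Type*} [Group G] [Finite G] {p : ℕ} [Fact p.Prime] (P A B : Subgroup G) (hP : IsPGroup p ↥P) (hA : IsPGroup p ↥A) (hB : ¬ p ∣ Nat.card ↥B) (hnA : A ≤ Subgroup.normalizer (P : Set G)) (hnB : B ≤ Subgroup.normalizer (P : Set G)) (hAB : ⁅A, B⁆ = ⊥) (hcomm : ⁅P, B⁆ ≤ ⁅P, A⁆) : ⁅P, B⁆ = ⊥ := by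
  have hT : IsPGroup p ↥(P ⊔ A : Subgroup G) := IsPGroup.to_sup_of_normal_left' hP hA hnA
  have hBA : B ≤ Subgroup.normalizer (A : Set G) :=
    ((Subgroup.commutator_eq_bot_iff_le_centralizer).1 (Subgroup.commutator_comm A B ▸ hAB)).trans
      (Subgroup.centralizer_le_normalizer _)
  set T := P ⊔ A with hTdef
  have hBT : B ≤ Subgroup.normalizer (T : Set G) :=
    (le_inf hnB hBA).trans (Subgroup.normalizer_inf_normalizer_le_normalizer_sup P A)
  set W := ⁅P, B⁆ with hW
  have hWP : W ≤ P := Coprime.commutator_le_left' hnB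
  have hPW : P ≤ Subgroup.normalizer (W : Set G) := Subgroup.normalizer_commutator_ge_left P B
  have hBW : B ≤ Subgroup.normalizer (W : Set G) := Subgroup.normalizer_commutator_ge_right P B
  have hAW : A ≤ Subgroup.normalizer (W : Set G) := Coprime.le_normalizer_commutator hnA
    (((Subgroup.commutator_eq_bot_iff_le_centralizer).1 hAB).trans
      (Subgroup.centralizer_le_normalizer _))
  have hTW : T ≤ Subgroup.normalizer (W : Set G) := sup_le hPW hAW
  set N := ⁅W, T⁆ with hN
  have hTN : T ≤ Subgroup.normalizer (N : Set G) :=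
    Coprime.le_normalizer_commutator hTW Subgroup.le_normalizer
  have hBN : B ≤ Subgroup.normalizer (N : Set G) := Coprime.le_normalizer_commutator hBW hBT
  have hcop : (Nat.card ↥B).Coprime (Nat.card ↥P) := by
    obtain ⟨k, hk⟩ := IsPGroup.iff_card.1 hP
    rw [hk]
    exact (((Fact.out : p.Prime).coprime_iff_not_dvd.2 hB).symm).pow_right k
  have hWeq : ⁅W, B⁆ = W :=
    Coprime.commutator_commutator_eq hnB hcop (Or.inr (Coprime.isSolvable_of_isPGroup hP))
  have hle : W ≤ N := by
    calc W = ⁅W, B⁆ := hWeq.symm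
      _ ≤ ⁅⁅P, A⁆, B⁆ := Subgroup.commutator_mono hcomm le_rfl
      _ ≤ N := three_subgroup_le (le_sup_left.trans hTN) (le_sup_right.trans hTN) hBN
          (by rw [hAB, Subgroup.commutator_bot_left]; exact bot_le)
          (Subgroup.commutator_mono (Subgroup.commutator_comm_le B P) le_sup_right)
  exact Coprime.eq_bot_of_le_commutator (hWP.trans le_sup_left) hT.isNilpotent hle

end Cfsg.Agent.S2908
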