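import Cfsg.Statements.S2859
import Cfsg.Agent.EqLemmas
import Cfsg.Agent.Lib.WeaklyClosed.Basic
import Cfsg.Agent.Lib.LargeSub.Basic
import Cfsg.Agent.Lib.Components.Centralize
import Cfsg.Agent.Lib.Coprime.PQ
import Cfsg.Agent.S2908

set_option autoImplicit false
open Cfsg

namespace Cfsg.Agent.S2859

open Subgroup Cfsg.Agent.WeaklyClosed
open scoped commutatorElement

variable {G : Type*} [Group G]

theorem pResidual_map_eq (p : ℕ) (W : Subgroup G) :
    (Cfsg.pResidual p ↥W).map W.subtype = Components.pPrimeGen p W := by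
  rw [Cfsg.pResidual, MonoidHom.map_closure, Components.pPrimeGen]
  congr 1
  ext x
  constructor
  · rintro ⟨y, hy, rfl⟩
    exact ⟨y.2, by rw [W.subtype_apply, orderOf_coe]; exact hy⟩
  · rintro ⟨hx, ho⟩
    exact ⟨⟨x, hx⟩, by simpa [orderOf_mk] using ho, rfl⟩

/-- The elements of `N(P)` whose commutators with `C` lie in `P` form a subgroup. -/
theorem exists_commSub {P C : Subgroup G} (hC : C ≤ normalizer (P : Set G)) :
    ∃ S : Subgroup G, ∀ A : Subgroup G, A ≤ normalizer (P : Set G) → (⁅A, C⁆ ≤ P ↔ A ≤ S) := by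
  set M := normalizer (P : Set G)
  haveI : (P.subgroupOf M).Normal := normal_in_normalizer
  let π := QuotientGroup.mk' (P.subgroupOf M)
  refine ⟨((centralizer (((C.subgroupOf M).map π : Subgroup (↥M ⧸ P.subgroupOf M)) :
    Set (↥M ⧸ P.subgroupOf M))).comap π).map M.subtype, fun A hA => ?_⟩
  have h1 : ⁅A, C⁆ ≤ P ↔ ⁅A.subgroupOf M, C.subgroupOf M⁆ ≤ P.subgroupOf M := by
    rw [show (⁅A.subgroupOf M, C.subgroupOf M⁆ ≤ P.subgroupOf M) ↔
      (⁅A.subgroupOf M, C.subgroupOf M⁆).map M.subtype ≤ P from map_le_iff_le_comap.symm,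
      map_commutator, map_subgroupOf_eq_of_le hA, map_subgroupOf_eq_of_le hC]
  have h2 : ⁅A.subgroupOf M, C.subgroupOf M⁆ ≤ P.subgroupOf M ↔
      A.subgroupOf M ≤ (centralizer (((C.subgroupOf M).map π : Subgroup (↥M ⧸ P.subgroupOf M)) :
        Set (↥M ⧸ P.subgroupOf M))).comap π := by
    conv_rhs => rw [← map_le_iff_le_comap, ← commutator_eq_bot_iff_le_centralizer,
      ← map_commutator, Subgroup.map_eq_bot_iff, QuotientGroup.ker_mk']
  rw [h1, h2]
  constructor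
  · intro h
    rw [← map_subgroupOf_eq_of_le hA]
    exact map_mono h
  · rintro h ⟨a, ha⟩ haA
    obtain ⟨b, hb, hba⟩ := h haA
    exact (Subtype.ext hba : b = ⟨a, ha⟩) ▸ hb

theorem commutator_sup_le {A B C P : Subgroup G} (hA : A ≤ normalizer (P : Set G))
    (hB : B ≤ normalizer (P : Set G)) (hC : C ≤ normalizer (P : Set G))
    (h1 : ⁅A, C⁆ ≤ P) (h2 : ⁅B, C⁆ ≤ P) : ⁅A ⊔ B, C⁆ ≤ P := by
  obtain ⟨S, hS⟩ := exists_commSub hC
  exact (hS _ (sup_le hA hB)).2 (sup_le ((hS A hA).1 h1) ((hS B hB).1 h2))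

variable [Finite G] {p : ℕ} [Fact p.Prime]

theorem mem_of_coprime {W L Q : Subgroup G} (hn : W ≤ normalizer (L : Set G)) (hQ : IsPGroup p ↥Q)
    (hWQ : W ≤ L ⊔ Q) (hQW : Q ≤ W) {x : G} (hx : x ∈ W) (ho : (orderOf x).Coprime p) : x ∈ L := by
  obtain ⟨l, hl, q, hq, rfl⟩ := (Coprime.mem_sup_iff (hQW.trans hn)).1 (hWQ hx)
  set N := normalizer (L : Set G)
  haveI : (L.subgroupOf N).Normal := normal_in_normalizer
  let π := QuotientGroup.mk' (L.subgroupOf N)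
  have hlN : l ∈ N := le_normalizer hl
  have hqN : q ∈ N := hn (hQW hq)
  have he : π ⟨l * q, mul_mem hlN hqN⟩ = π ⟨q, hqN⟩ := by
    rw [show (⟨l * q, mul_mem hlN hqN⟩ : ↥N) = ⟨l, hlN⟩ * ⟨q, hqN⟩ from rfl, map_mul,
      show π ⟨l, hlN⟩ = 1 from (QuotientGroup.eq_one_iff _).2 hl, one_mul]
  obtain ⟨k, hk⟩ := hQ ⟨q, hq⟩
  have h1 : orderOf (π ⟨l * q, mul_mem hlN hqN⟩) ∣ p ^ k := by
    refine orderOf_dvd_of_pow_eq_one ?_
    rw [he, ← map_pow, show (⟨q, hqN⟩ : ↥N) ^ p ^ k = 1 from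
      Subtype.ext (by simpa using congrArg Subtype.val hk), map_one]
  have h2 : orderOf (π ⟨l * q, mul_mem hlN hqN⟩) ∣ orderOf (l * q) := by
    refine (orderOf_map_dvd π _).trans ?_
    rw [orderOf_mk]
  have h3 := orderOf_eq_one_iff.1 (Nat.eq_one_of_dvd_coprimes (ho.pow_right k).symm h1 h2)
  exact (QuotientGroup.eq_one_iff (N := L.subgroupOf N) ⟨l * q, mul_mem hlN hqN⟩).1 h3

/-- A group generated by the conjugates of `Q` is `O^p · Q`, and `[O^p, Q] = O^p`. -/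
theorem closure_facts {W Q : Subgroup G} (hQp : IsPGroup p ↥Q) (hQW : Q ≤ W)
    (hgen : W = ⨆ w : ↥W, cj (w : G) Q) :
    W = Components.pPrimeGen p W ⊔ Q ∧
      ⁅Components.pPrimeGen p W, Q⁆ = Components.pPrimeGen p W := by
  set K := Components.pPrimeGen p W with hK
  have hKW : K ≤ W := Components.pPrimeGen_le p W
  have hWK : W ≤ normalizer (K : Set G) :=
    le_normalizer.trans (Components.normalizer_le_normalizer_pPrimeGen p W)
  haveI : (K.subgroupOf W).Normal := normal_subgroupOf_of_le_normalizer hWK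
  have hquot : IsPGroup p (↥W ⧸ K.subgroupOf W) := fun y => by
    obtain ⟨x, rfl⟩ := QuotientGroup.mk_surjective y
    obtain ⟨k, hk⟩ := Components.exists_pow_coprime (p := p) (x : G)
    refine ⟨k, ?_⟩
    rw [← QuotientGroup.mk_pow, QuotientGroup.eq_one_iff, mem_subgroupOf]
    exact subset_closure ⟨by simpa using pow_mem x.2 _, by simpa using hk⟩
  have htop : W ≤ K ⊔ Q := by
    by_contra hne
    have hlt : (K ⊔ Q).subgroupOf W ≠ ⊤ := fun h => hne (subgroupOf_eq_top.1 h)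
    let π := QuotientGroup.mk' (K.subgroupOf W)
    have hmap : ((K ⊔ Q).subgroupOf W).map π ≠ ⊤ := fun h => hlt (by
      have h' := comap_map_eq π ((K ⊔ Q).subgroupOf W)
      rw [h, comap_top, QuotientGroup.ker_mk'] at h'
      rw [h']
      exact (sup_eq_left.2 fun x hx =>
        mem_subgroupOf.2 (le_sup_left (b := Q) (mem_subgroupOf.1 hx))).symm)
    haveI := hquot.isNilpotent
    obtain ⟨C, hC, hCle⟩ := (eq_top_or_exists_le_coatom (((K ⊔ Q).subgroupOf W).map π)).resolve_left hmap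
    haveI : C.Normal := Subgroup.NormalizerCondition.normal_of_coatom C
      Group.normalizerCondition_of_isNilpotent hC
    have hle : W ≤ (C.comap π).map W.subtype := by
      conv_lhs => rw [hgen]
      refine iSup_le fun w => ?_
      rintro _ ⟨q, hq, rfl⟩
      refine ⟨w * ⟨q, hQW hq⟩ * w⁻¹, ?_, rfl⟩
      rw [SetLike.mem_coe, mem_comap, map_mul, map_mul, map_inv]
      exact (inferInstance : C.Normal).conj_mem _ (hCle ⟨⟨q, hQW hq⟩,
        mem_subgroupOf.2 (le_sup_right (a := K) hq), rfl⟩) _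
    refine hC.1 (top_le_iff.1 fun y _ => ?_)
    obtain ⟨x, rfl⟩ := QuotientGroup.mk'_surjective (K.subgroupOf W) y
    obtain ⟨x', hx', e⟩ := hle x.2
    exact (Subtype.ext e : x' = x) ▸ hx'
  have heq : W = K ⊔ Q := le_antisymm htop (sup_le hKW hQW)
  refine ⟨heq, le_antisymm (Coprime.commutator_le_left' (hQW.trans hWK)) ?_⟩
  set L := ⁅K, Q⁆ with hL
  have hWL : W ≤ normalizer (L : Set G) := htop.trans
    (sup_le (normalizer_commutator_ge_left K Q) (normalizer_commutator_ge_right K Q))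
  have hQLQ : L ⊔ Q ≤ W :=
    sup_le ((Coprime.commutator_le_left' (hQW.trans hWK)).trans hKW) hQW
  have hWLQ : W ≤ L ⊔ Q := by
    conv_lhs => rw [hgen]
    refine iSup_le fun w => ?_
    rintro _ ⟨q, hq, rfl⟩
    obtain ⟨k, hk, q', hq', hkq⟩ := (Coprime.mem_sup_iff (hQW.trans hWK)).1 (htop w.2)
    set t := q' * q * q'⁻¹ with ht
    have htQ : t ∈ Q := mul_mem (mul_mem hq' hq) (inv_mem hq')
    have e : (MulAut.conj (w : G)).toMonoidHom q = ⁅k, t⁆ * t := by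
      show (w : G) * q * (w : G)⁻¹ = _
      rw [← hkq, ht, commutatorElement_def]; group
    rw [e]
    exact mul_mem (mem_sup_left (commutator_mem_commutator hk htQ)) (mem_sup_right htQ)
  exact (closure_le _).2 fun x hx => mem_of_coprime hWL hQp hWLQ hQW hx.1 hx.2

/-- The part of the statement for one of the two factors. -/
theorem half {Q X H₁ H₂ : Subgroup G} (hQp : IsPGroup p ↥Q)
    (hwc : Cfsg.IsWeaklyClosedSubgroup p Q) (hQX : Q ≤ X)
    (hgen : X = ⨆ x : ↥X, cj (x : G) Q) (hn₁ : H₁ ≤ X ∧ X ≤ normalizer (H₁ : Set G))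
    (hn₂ : H₂ ≤ X ∧ X ≤ normalizer (H₂ : Set G)) (hprod : H₁ ⊔ H₂ = X)
    (hcomm : ⁅H₁, H₂⁆ ≤ normalizer (Q : Set G)) :
    (⁅Components.pPrimeGen p (Cfsg.weakClosure Q (H₁ ⊔ Q)), Q⁆ =
        Components.pPrimeGen p (Cfsg.weakClosure Q (H₁ ⊔ Q)) ∧
      ⁅Components.pPrimeGen p (Cfsg.weakClosure Q (H₁ ⊔ Q)), H₁⁆ =
        Components.pPrimeGen p (Cfsg.weakClosure Q (H₁ ⊔ Q)) ∧
      Components.pPrimeGen p (Cfsg.weakClosure Q (H₁ ⊔ Q)) ≤ ⁅H₁, H₁⁆ ∧
      X ≤ normalizer (Components.pPrimeGen p (Cfsg.weakClosure Q (H₁ ⊔ Q)) : Set G)) ∧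
    ⁅Components.pPrimeGen p (Cfsg.weakClosure Q (H₁ ⊔ Q)), H₂⁆ ≤ Cfsg.pCoreOf p X ∧
    Components.pPrimeGen p (Cfsg.weakClosure Q (H₁ ⊔ Q)) ≤ Components.pPrimeGen p X ∧
    Components.pPrimeGen p (Cfsg.weakClosure Q (H₁ ⊔ Q)) ≤ H₁ ∧
    ∀ h ∈ H₁, cj h Q ≤ Components.pPrimeGen p (Cfsg.weakClosure Q (H₁ ⊔ Q)) ⊔ Q := by
  set P := Cfsg.pCoreOf p X with hP
  set Y := H₁ ⊔ Q with hY
  set W := Cfsg.weakClosure Q Y with hW
  have hYX : Y ≤ X := sup_le hn₁.1 hQX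
  have hcjY : ∀ y ∈ Y, cj y Q ≤ W := fun y hy =>
    le_iSup (fun g : {g : G // Q.map (MulAut.conj g).toMonoidHom ≤ Y} =>
      Q.map (MulAut.conj (g : G)).toMonoidHom) ⟨y, cj_le_of_mem le_sup_right hy⟩
  have hQW : Q ≤ W := by
    have := hcjY 1 (one_mem _)
    rwa [cj_one] at this
  have hWY : W ≤ Y := iSup_le fun g => g.2
  have hWgen : W = ⨆ w : ↥W, cj (w : G) Q := by
    refine le_antisymm ?_ (iSup_le fun w => cj_le_of_mem hQW w.2)
    refine iSup_le fun g => ?_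
    have hgW : cj (g : G) Q ≤ W :=
      le_iSup (fun g : {g : G // Q.map (MulAut.conj g).toMonoidHom ≤ Y} =>
        Q.map (MulAut.conj (g : G)).toMonoidHom) g
    obtain ⟨k, hk, he⟩ := exists_conj_mem hQp hwc hQW hgW
    exact he.le.trans (le_iSup (fun w : ↥W => cj (w : G) Q) ⟨k, hk⟩)
  obtain ⟨hWeq, hKQ⟩ := closure_facts hQp hQW hWgen
  set K := Components.pPrimeGen p W with hK
  have hKW : K ≤ W := Components.pPrimeGen_le p W
  have hXP : X ≤ normalizer (P : Set G) := LargeSub.self_le_normalizer_pCoreOf X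
  have hPQ : P ≤ normalizer (Q : Set G) :=
    le_sup_left.trans (isPGroup_le hwc
      (IsPGroup.to_sup_of_normal_left' (LargeSub.isPGroup_pCoreOf X) hQp (hQX.trans hXP)) le_sup_right)
  -- `Y` normalises `W`
  have hNW : ∀ g : G, g ∈ normalizer (Y : Set G) → g ∈ normalizer (W : Set G) := by
    intro g hg
    refine mem_normalizer_of_cj_le ?_
    rintro _ ⟨w, hw, rfl⟩
    have hle : W ≤ W.comap (MulAut.conj g).toMonoidHom := by
      refine iSup_le fun h => map_le_iff_le_comap.1 ?_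
      rw [Subgroup.map_map]
      have hgh : cj (g * h.1) Q ≤ Y := by
        rw [cj_mul]
        exact (cj_mono g h.2).trans (cj_of_mem hg).le
      refine le_trans (le_of_eq ?_) (le_iSup (fun g : {g : G // Q.map (MulAut.conj g).toMonoidHom ≤ Y} =>
        Q.map (MulAut.conj (g : G)).toMonoidHom) ⟨g * h.1, hgh⟩)
      congr 1
      ext x
      simp [mul_assoc]
    exact hle hw
  have hPN : P ≤ normalizer (K : Set G) := by
    refine le_trans (fun g hg => hNW g ?_) (Components.normalizer_le_normalizer_pPrimeGen p W)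
    exact normalizer_inf_normalizer_le_normalizer_sup H₁ Q
      ⟨hn₁.2 (LargeSub.pCoreOf_le X hg), hPQ hg⟩
  -- `[H₁, H₂]` is central modulo `P`
  set D := ⁅H₁, H₂⁆ with hD
  have hD₁ : D ≤ H₁ := le_normalizer_iff_commutator_le_left.1 (hn₂.1.trans hn₁.2)
  have hXD : X ≤ normalizer (D : Set G) := Coprime.le_normalizer_commutator hn₁.2 hn₂.2
  have hDX : D ≤ X := hD₁.trans hn₁.1
  obtain ⟨S, hS⟩ := exists_commSub (P := P) (C := D) (hDX.trans hXP)
  have hXD' : ⁅X, D⁆ ≤ P := by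
    refine (hS X hXP).2 ?_
    rw [hgen]
    refine iSup_le fun x => ?_
    refine (hS _ ((cj_le_of_mem hQX x.2).trans hXP)).1 ?_
    have hDQ : D ≤ normalizer ((cj (x : G) Q : Subgroup G) : Set G) := by
      intro d hd
      rw [cj, ← map_normalizer_eq_of_bijective _ (MulAut.conj (x : G)).bijective]
      refine ⟨(x : G)⁻¹ * d * x, hcomm ?_, by simp [mul_assoc]⟩
      simpa using (mem_normalizer_iff.1 (hXD (inv_mem x.2)) d).1 hd
    set R := D ⊓ cj (x : G) Q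
    have hR : ⁅cj (x : G) Q, D⁆ ≤ R := le_inf
      (le_normalizer_iff_commutator_le_right.1 ((cj_le_of_mem hQX x.2).trans hXD))
      (le_normalizer_iff_commutator_le_left.1 hDQ)
    have hRp : IsPGroup p ↥R := (hQp.map _).to_le inf_le_right
    have h1 : R ≤ Cfsg.pCoreOf p D := LargeSub.le_pCoreOf inf_le_left
      ((le_inf le_normalizer hDQ).trans inf_normalizer_le_normalizer_inf) hRp
    exact hR.trans (h1.trans (LargeSub.le_pCoreOf ((LargeSub.pCoreOf_le D).trans hDX)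
      (hXD.trans (LargeSub.le_normalizer_pCoreOf D)) (LargeSub.isPGroup_pCoreOf D)))
  have hDX' : ⁅D, X⁆ ≤ P := (commutator_comm_le D X).trans hXD'
  -- `[H₁, X]` centralises `H₂` modulo `P`
  set N := ⁅H₁, H₁⁆ ⊔ D with hN
  have hH₁' : ⁅H₁, H₁⁆ ≤ X := (le_normalizer_iff_commutator_le_left.1 le_normalizer).trans hn₁.1
  have hNH₂ : ⁅N, H₂⁆ ≤ P := by
    refine commutator_sup_le (hH₁'.trans hXP) (hDX.trans hXP) (hn₂.1.trans hXP) ?_
      ((commutator_mono le_rfl hn₂.1).trans hDX')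
    refine S2908.three_subgroup_le (hn₁.1.trans hXP) (hn₁.1.trans hXP) (hn₂.1.trans hXP) ?_ ?_
    · exact (commutator_mono le_rfl hn₁.1).trans hDX'
    · refine (commutator_mono (commutator_comm_le H₂ H₁) hn₁.1).trans hDX'
  have hXN : ⁅H₁, X⁆ ≤ N := by
    have hXN' : X ≤ normalizer (N : Set G) :=
      (le_inf (Coprime.le_normalizer_commutator hn₁.2 hn₁.2) hXD).trans
        (normalizer_inf_normalizer_le_normalizer_sup _ _)
    rw [commutator_comm, ← hprod]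
    exact commutator_sup_le (hn₁.1.trans hXN') (hn₂.1.trans hXN') (hn₁.1.trans hXN') le_sup_left
      ((commutator_comm_le H₂ H₁).trans le_sup_right)
  have hWH : W ≤ ⁅H₁, Q⁆ ⊔ Q := by
    have hle : W ≤ H₁ ⊔ Q := hWY
    conv_lhs => rw [hWgen]
    refine iSup_le fun w => ?_
    rintro _ ⟨q, hq, rfl⟩
    obtain ⟨k, hk, q', hq', hkq⟩ := (Coprime.mem_sup_iff (hQX.trans hn₁.2)).1 (hle w.2)
    set t := q' * q * q'⁻¹ with ht
    have htQ : t ∈ Q := mul_mem (mul_mem hq' hq) (inv_mem hq')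
    have e : (MulAut.conj (w : G)).toMonoidHom q = ⁅k, t⁆ * t := by
      show (w : G) * q * (w : G)⁻¹ = _
      rw [← hkq, ht, commutatorElement_def]; group
    rw [e]
    exact mul_mem (mem_sup_left (commutator_mem_commutator hk htQ)) (mem_sup_right htQ)
  have hWN : W ≤ normalizer ((⁅H₁, Q⁆ : Subgroup G) : Set G) := hWY.trans
    (sup_le (normalizer_commutator_ge_left H₁ Q) (normalizer_commutator_ge_right H₁ Q))
  have hKH : K ≤ ⁅H₁, Q⁆ :=
    (closure_le _).2 fun x hx => mem_of_coprime hWN hQp hWH hQW hx.1 hx.2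
  have hKH₁ : K ≤ H₁ :=
    hKH.trans (le_normalizer_iff_commutator_le_left.1 (hQX.trans hn₁.2))
  have hKX : K ≤ X := hKH₁.trans hn₁.1
  have hKH₂ : ⁅K, H₂⁆ ≤ P :=
    (commutator_mono ((hKH.trans (commutator_mono le_rfl hQX)).trans hXN) le_rfl).trans hNH₂
  have hH₁K : H₁ ≤ normalizer (K : Set G) :=
    (le_sup_left.trans ((le_normalizer : Y ≤ _).trans fun g hg => hNW g hg)).trans
      (Components.normalizer_le_normalizer_pPrimeGen p W)
  have hH₂K : H₂ ≤ normalizer (K : Set G) := by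
    intro h hh
    refine mem_normalizer_of_cj_le ?_
    rw [cj]
    refine map_le_iff_le_comap.2 ((closure_le _).2 fun x hx => ?_)
    have hxK : x ∈ K := subset_closure hx
    show h * x * h⁻¹ ∈ K
    have hP' : x⁻¹ * (h * x * h⁻¹) ∈ P := by
      have h1 := hKH₂ (commutator_mem_commutator (inv_mem hxK) hh)
      have e : x⁻¹ * (h * x * h⁻¹) = ⁅x⁻¹, h⁆ := by rw [commutatorElement_def]; group
      rwa [e]
    refine mem_of_coprime (W := K ⊔ P) (Q := P) (sup_le le_normalizer hPN)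
      (LargeSub.isPGroup_pCoreOf X) le_rfl le_sup_right ?_ ?_
    · have e : h * x * h⁻¹ = x * (x⁻¹ * (h * x * h⁻¹)) := by group
      rw [e]
      exact mul_mem (mem_sup_left hxK) (mem_sup_right hP')
    · rw [← MulAut.conj_apply, MulEquiv.orderOf_eq]; exact hx.2
  have hXK : X ≤ normalizer (K : Set G) := hprod ▸ sup_le hH₁K hH₂K
  have hKK : ⁅K, H₁⁆ = K := by
    refine le_antisymm (le_normalizer_iff_commutator_le_left.1 hH₁K) ?_
    have hXL : X ≤ normalizer (⁅K, H₁⁆ : Subgroup G) := Coprime.le_normalizer_commutator hXK hn₁.2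
    have hLX : ⁅K, H₁⁆ ≤ X := (le_normalizer_iff_commutator_le_left.1 hH₁K).trans hKX
    have hKLP : K ≤ ⁅K, H₁⁆ ⊔ P := by
      have hN' : X ≤ normalizer ((⁅K, H₁⁆ ⊔ P : Subgroup G) : Set G) :=
        (le_inf hXL hXP).trans (normalizer_inf_normalizer_le_normalizer_sup _ _)
      calc K = ⁅K, Q⁆ := hKQ.symm
        _ ≤ ⁅K, X⁆ := commutator_mono le_rfl hQX
        _ = ⁅H₁ ⊔ H₂, K⁆ := by rw [hprod, commutator_comm]
        _ ≤ ⁅K, H₁⁆ ⊔ P := commutator_sup_le (hn₁.1.trans hN') (hn₂.1.trans hN') (hKX.trans hN')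
            ((commutator_comm_le _ _).trans le_sup_left)
            ((commutator_comm_le _ _).trans (hKH₂.trans le_sup_right))
    refine (closure_le _).2 fun x hx => mem_of_coprime (W := ⁅K, H₁⁆ ⊔ P) (Q := P)
      ((sup_le hLX (LargeSub.pCoreOf_le X)).trans hXL) (LargeSub.isPGroup_pCoreOf X) le_rfl
      le_sup_right (hKLP (subset_closure hx)) hx.2
  refine ⟨⟨hKQ, hKK, hKK.ge.trans (commutator_mono hKH₁ le_rfl), hXK⟩, hKH₂,
    Components.pPrimeGen_mono (hWY.trans hYX), hKH₁, fun h hh => ?_⟩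
  exact (hcjY h (mem_sup_left hh)).trans hWeq.le

/-- Let Q be a nontrivial p-subgroup of the finite group H that is a weakly closed subgroup, H° the weak closure of Q in H (generated by the conjugates of Q) and H_∘ = O^p(H°). Suppose H₁, H₂ are normal subgroups of H° with H° = H₁H₂ and [H₁, H₂] ≤ N_H(Q), and put Kᵢ = O^p of the weak closure of Q in HᵢQ. Then for i = 1, 2: Kᵢ = [Kᵢ, Q] = [Kᵢ, Hᵢ] ≤ Hᵢ′ and Kᵢ is normal in H°; H_∘ = K₁K₂; and [K₁, K₂] ≤ O_p(H°). -/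
theorem result {G : Type*} [Group G] [Finite G] {p : ℕ} [Fact p.Prime] (Q : Subgroup G) (hQp : IsPGroup p ↥Q) (hQ1 : Q ≠ ⊥) (hwc : Cfsg.IsWeaklyClosedSubgroup p Q) (Hc : Subgroup G) (hHc : Hc = Cfsg.weakClosure Q ⊤) (H₁ H₂ : Subgroup G) (hn₁ : H₁ ≤ Hc ∧ Hc ≤ Subgroup.normalizer ((H₁ : Subgroup G) : Set G)) (hn₂ : H₂ ≤ Hc ∧ Hc ≤ Subgroup.normalizer ((H₂ : Subgroup G) : Set G)) (hprod : H₁ ⊔ H₂ = Hc) (hcomm : ⁅H₁, H₂⁆ ≤ Subgroup.normalizer ((Q : Subgroup G) : Set G)) (K₁ K₂ : Subgroup G) (hK₁ : K₁ = ((Cfsg.pResidual p ↥(Cfsg.weakClosure Q (H₁ ⊔ Q))).map ((Cfsg.weakClosure Q (H₁ ⊔ Q))).subtype)) (hK₂ : K₂ = ((Cfsg.pResidual p ↥(Cfsg.weakClosure Q (H₂ ⊔ Q))).map ((Cfsg.weakClosure Q (H₂ ⊔ Q))).subtype)) : (⁅K₁, Q⁆ = K₁ ∧ ⁅K₁, H₁⁆ = K₁ ∧ K₁ ≤ ⁅H₁, H₁⁆ ∧ Hc ≤ Subgroup.normalizer ((K₁ : Subgroup G) : Set G)) ∧ (⁅K₂, Q⁆ = K₂ ∧ ⁅K₂, H₂⁆ = K₂ ∧ K₂ ≤ ⁅H₂, H₂⁆ ∧ Hc ≤ Subgroup.normalizer ((K₂ : Subgroup G) : Set G))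 ∧ K₁ ⊔ K₂ = ((Cfsg.pResidual p ↥Hc).map (Hc).subtype) ∧ ⁅K₁, K₂⁆ ≤ (Cfsg.pCoreOf p Hc) := by
  subst hHc
  set X := Cfsg.weakClosure Q (⊤ : Subgroup G) with hX
  have hcjX : ∀ g : G, cj g Q ≤ X := fun g =>
    le_iSup (fun g : {g : G // Q.map (MulAut.conj g).toMonoidHom ≤ (⊤ : Subgroup G)} =>
      Q.map (MulAut.conj (g : G)).toMonoidHom) ⟨g, le_top⟩
  have hQX : Q ≤ X := by
    have := hcjX 1
    rwa [cj_one] at this
  have hgen : X = ⨆ x : ↥X, cj (x : G) Q := by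
    refine le_antisymm ?_ (iSup_le fun x => hcjX x)
    refine iSup_le fun g => ?_
    obtain ⟨k, hk, he⟩ := exists_conj_mem hQp hwc hQX (hcjX g)
    exact he.le.trans (le_iSup (fun x : ↥X => cj (x : G) Q) ⟨k, hk⟩)
  obtain ⟨a1, a2, a3, a4, a5⟩ := half hQp hwc hQX hgen hn₁ hn₂ hprod hcomm
  obtain ⟨b1, -, b3, -, b5⟩ := half hQp hwc hQX hgen hn₂ hn₁ ((sup_comm H₂ H₁).trans hprod)
    (by rwa [commutator_comm])
  rw [← pResidual_map_eq p (Cfsg.weakClosure Q (H₁ ⊔ Q)), ← hK₁] at a1 a2 a3 a4 a5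
  rw [← pResidual_map_eq p (Cfsg.weakClosure Q (H₂ ⊔ Q)), ← hK₂] at b1 b3 b5
  refine ⟨a1, b1, ?_, (commutator_mono le_rfl ?_).trans a2⟩
  · rw [pResidual_map_eq]
    refine le_antisymm (sup_le a3 b3) ((closure_le _).2 fun x hx => ?_)
    have hXn : X ≤ normalizer ((K₁ ⊔ K₂ : Subgroup G) : Set G) :=
      (le_inf a1.2.2.2 b1.2.2.2).trans (normalizer_inf_normalizer_le_normalizer_sup _ _)
    refine mem_of_coprime (W := X) (Q := Q) hXn hQp ?_ hQX hx.1 hx.2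
    conv_lhs => rw [hgen]
    refine iSup_le fun x => ?_
    obtain ⟨h1, hh1, h2, hh2, e⟩ := (Coprime.mem_sup_iff (hn₂.1.trans hn₁.2)).1
      (hprod.ge x.2 : (x : G) ∈ H₁ ⊔ H₂)
    rw [← e, cj_mul]
    refine (cj_mono h1 (b5 h2 hh2)).trans ?_
    rw [cj, Subgroup.map_sup]
    refine sup_le ?_ ((a5 h1 hh1).trans (sup_le_sup_right le_sup_left _))
    refine le_trans (le_of_eq (cj_of_mem (b1.2.2.2 (hn₁.1 hh1)))) (le_sup_right.trans le_sup_left)
  · rw [hK₂, pResidual_map_eq]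
    exact (half hQp hwc hQX hgen hn₂ hn₁ ((sup_comm H₂ H₁).trans hprod)
      (by rwa [commutator_comm])).2.2.2.1

end Cfsg.Agent.S2859
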