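import Cfsg.Statements.S2860
import Cfsg.Agent.EqLemmas
import Cfsg.Agent.Lib.LargeSub.Basic
import Cfsg.Agent.Lib.LargeSub.Stab
import Cfsg.Agent.Lib.Components.GenFitting
import Cfsg.Agent.S2815

set_option autoImplicit false
open Cfsg

namespace Cfsg.Agent.S2860

/-- Let Q be a nontrivial large p-subgroup of the finite group H, U a nontrivial elementary abelian p-subgroup of H, and Q ≤ E ≤ N_H(U) with Q not normal in E. Suppose O_p(E/C_E(U)) = 1 and O^p(E)·C_E(U)/C_E(U) is quasisimple. Let E° be the weak closure of Q in E (generated by the conjugates of Q inside E) and E_∘ = O^p(E°). Then O^p(E)·C_E(U) = E_∘·C_E(U); E_∘ is perfect and equals O^p(E_∘); E_∘/C_{E_∘}(U) and E_∘/O_p(E_∘) are quasisimple; and E_∘ = [E_∘, Y] for every p-subgroup Y of E not centralizing U. -/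
theorem result {G : Type*} [Group G] [Finite G] {p : ℕ} [Fact p.Prime] (Q : Subgroup G) (hQp : IsPGroup p ↥Q) (hQ1 : Q ≠ ⊥) (hQ : Cfsg.IsLarge Q) (U : Subgroup G) (hU : Cfsg.IsElementaryAbelian p U) (hU1 : U ≠ ⊥) (E : Subgroup G) (hQE : Q ≤ E) (hEU : E ≤ Subgroup.normalizer ((U : Subgroup G) : Set G)) (hQn : ¬ E ≤ Subgroup.normalizer ((Q : Subgroup G) : Set G)) [hn : ((Subgroup.centralizer ((U : Subgroup G) : Set G)).subgroupOf E).Normal] (hred : Cfsg.pCore p (↥E ⧸ (Subgroup.centralizer ((U : Subgroup G) : Set G)).subgroupOf E) = ⊥) (hqs : Cfsg.IsQuasisimple ↥(((Cfsg.pResidual p ↥E) ⊔ (Subgroup.centralizer ((U : Subgroup G) : Set G)).subgroupOf E).map (QuotientGroup.mk' ((Subgroup.centralizer ((U : Subgroup G) : Set G)).subgroupOf E)))) (Er : Subgroup G) (hEr : Er = ((Cfsg.pResidual p ↥(Cfsg.weakClosure Q E)).map ((Cfsg.weakClosure Q E)).subtype)) [hn2 : ((Subgroup.centralizer ((U : Subgroup G) : Set G)).subgroupOf Er).Normal] : ((Cfsg.pResidual p ↥E).map (E).subtype)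 ⊔ (E ⊓ Subgroup.centralizer ((U : Subgroup G) : Set G)) = Er ⊔ (E ⊓ Subgroup.centralizer ((U : Subgroup G) : Set G)) ∧ ⁅Er, Er⁆ = Er ∧ ((Cfsg.pResidual p ↥Er).map (Er).subtype) = Er ∧ Cfsg.IsQuasisimple (↥Er ⧸ (Subgroup.centralizer ((U : Subgroup G) : Set G)).subgroupOf Er) ∧ Cfsg.IsQuasisimple (↥Er ⧸ Cfsg.pCore p ↥Er) ∧ ∀ Y : Subgroup G, Y ≤ E → IsPGroup p ↥Y → ¬ Y ≤ Subgroup.centralizer ((U : Subgroup G) : Set G) → ⁅Er, Y⁆ = Er := by
  open Cfsg.Agent Cfsg.Agent.LargeSub Subgroup in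
  have hE' : Er = pRes p (Cfsg.weakClosure Q E) := hEr
  set W := Cfsg.weakClosure Q E with hWdef
  set C := E ⊓ centralizer (U : Set G) with hC
  set P := Cfsg.pCoreOf p C with hP
  set π := QuotientGroup.mk' ((centralizer (U : Set G)).subgroupOf E) with hπ
  have hWeq := weakClosure_eq hQp hQ hQ1 hQE
  have hWE : W ≤ E := iSup_le fun g => g.2
  have hQW : Q ≤ W := fun q hq => by
    rw [hWdef, hWeq]; exact mem_iSup_of_mem (1 : ↥E) ⟨q, hq, by simp⟩
  have hEW : E ≤ normalizer (W : Set G) := fun e he => Coprime.mem_normalizer_of_forall fun x hx => by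
    have hle : W ≤ W.comap (MulAut.conj e).toMonoidHom := by
      rw [hWdef, hWeq]
      refine iSup_le fun l => ?_
      rintro _ ⟨q, hq, rfl⟩
      exact mem_iSup_of_mem (⟨e, he⟩ * l : ↥E) ⟨q, hq, by simp [mul_assoc]⟩
    exact hle hx
  have hErW : Er ≤ W := hE'.le.trans (pRes_le W)
  have hErE : Er ≤ E := hErW.trans hWE
  have hEEr : E ≤ normalizer (Er : Set G) := hE' ▸ hEW.trans (normalizer_le_normalizer_pRes W)
  have hWEr : W ≤ normalizer (Er : Set G) := hWE.trans hEEr
  -- `C` normalizes all conjugates of `Q`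
  have hEC : E ≤ normalizer (C : Set G) := le_normalizer_inf_centralizer hEU
  obtain ⟨z, hzU, hz1, hzQ⟩ : ∃ z ∈ U, z ≠ 1 ∧ z ∈ centralizer (Q : Set G) := by
    set T := U ⊔ Q
    have hTp : IsPGroup p T := IsPGroup.to_sup_of_normal_left'
      (PReduced.isPGroup_of_isElementaryAbelian hU) hQp (hQE.trans hEU)
    haveI : (U.subgroupOf T).Normal :=
      Cores.subgroupOf_normal_of_le_normalizer (sup_le Subgroup.le_normalizer (hQE.trans hEU))
    haveI : Nontrivial ↥((U.subgroupOf T) ⊓ center T) := by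
      rw [Subgroup.nontrivial_iff_ne_bot]
      refine PGroup.inf_center_ne_bot hTp ?_
      rw [Ne, subgroupOf_eq_bot]
      exact fun hd => hU1 (hd.eq_bot_of_le le_sup_left)
    obtain ⟨z, hz⟩ := exists_ne (1 : ↥((U.subgroupOf T) ⊓ center T))
    exact ⟨((z : T) : G), z.2.1, fun h => hz (Subtype.ext (Subtype.ext h)),
      mem_centralizer_iff.mpr fun q hq =>
        congrArg Subtype.val (mem_center_iff.mp z.2.2 ⟨q, mem_sup_right hq⟩)⟩
  have hCQ : C ≤ normalizer (Q : Set G) := inf_le_right.trans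
    ((centralizer_le (Set.singleton_subset_iff.mpr hzU)).trans (centralizer_singleton_le hQ hz1 hzQ))
  have hCQe : ∀ e ∈ E, C ≤ normalizer ((Q.map (MulAut.conj e).toMonoidHom : Subgroup G) : Set G) := by
    intro e he c hc
    rw [← map_normalizer_eq_of_bijective _ (MulAut.conj e).bijective]
    exact ⟨e⁻¹ * c * e, hCQ ((mem_normalizer_iff''.mp (hEC he) c).mp hc), by simp [mul_assoc]⟩
  have hEP : E ≤ normalizer (P : Set G) := hEC.trans (le_normalizer_pCoreOf C)
  have hWst : W ≤ stab C P := by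
    rw [hWdef, hWeq]
    refine iSup_le fun e => ?_
    intro x hx
    have hxE : x ∈ E := by
      obtain ⟨q, hq, rfl⟩ := hx
      exact E.mul_mem (E.mul_mem e.2 (hQE hq)) (E.inv_mem e.2)
    refine mem_stab.mpr ⟨hEC hxE, hEP hxE, fun c hc => ?_⟩
    refine le_pCoreOf (N := C ⊓ Q.map (MulAut.conj (e : G)).toMonoidHom) inf_le_left
      ((le_inf Subgroup.le_normalizer (hCQe e e.2)).trans inf_normalizer_le_normalizer_inf)
      ((hQp.map _).to_le inf_le_right) (mem_inf.mpr ⟨?_, ?_⟩)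
    · exact C.mul_mem ((mem_normalizer_iff.mp (hEC hxE) c).mp hc) (C.inv_mem hc)
    · have := mul_mem hx ((mem_normalizer_iff.mp (hCQe e e.2 hc) x⁻¹).mp (inv_mem hx))
      convert this using 1; group
  -- the quotient
  have hkerπ : ∀ x : ↥E, π x = 1 ↔ (x : G) ∈ C := fun x => by
    rw [hπ, QuotientGroup.mk'_apply, QuotientGroup.eq_one_iff, mem_subgroupOf]
    exact ⟨fun h => mem_inf.mpr ⟨x.2, h⟩, fun h => h.2⟩
  have hQb : (Q.subgroupOf E).map π ≠ ⊥ := by
    rw [Ne, Subgroup.map_eq_bot_iff, QuotientGroup.ker_mk']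
    intro h
    refine hQn (hEU.trans (hQ.2 U (le_centralizer_iff.mp fun q hq => ?_) hU1))
    exact h (mem_subgroupOf.mpr hq : (⟨q, hQE hq⟩ : ↥E) ∈ Q.subgroupOf E)
  have hQbp : IsPGroup p ↥((Q.subgroupOf E).map π) := hQp.comap_subtype.map _
  haveI hfin : Finite (↥E ⧸ (centralizer (U : Set G)).subgroupOf E) := inferInstance
  have hKeq : ((Cfsg.pResidual p ↥E) ⊔ (centralizer (U : Set G)).subgroupOf E).map π =
      Cfsg.pResidual p (↥E ⧸ (centralizer (U : Set G)).subgroupOf E) := by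
    rw [Subgroup.map_sup, PIrred.map_pResidual π (QuotientGroup.mk'_surjective _), sup_eq_left,
      hπ, QuotientGroup.map_mk'_self]
    exact bot_le
  rw [hKeq] at hqs
  have hp : p ∣ Nat.card (↥E ⧸ (centralizer (U : Set G)).subgroupOf E) := by
    haveI : Nontrivial ↥((Q.subgroupOf E).map π) := (Subgroup.nontrivial_iff_ne_bot _).mpr hQb
    obtain ⟨n, hn, hc⟩ := hQbp.nontrivial_iff_card.mp ‹_›
    exact ((dvd_pow_self p hn.ne').trans hc.symm.dvd).trans (card_subgroup_dvd_card _)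
  obtain ⟨-, hY, hN, -⟩ := S2815.result hp hred hqs
  set K := Cfsg.pResidual p (↥E ⧸ (centralizer (U : Set G)).subgroupOf E) with hK
  -- the image of `W`
  haveI : (W.subgroupOf E).Normal := Cores.subgroupOf_normal_of_le_normalizer hEW
  have hKW : K ≤ (W.subgroupOf E).map π := by
    by_contra hle
    have hco := hN _ (Normal.map inferInstance π (QuotientGroup.mk'_surjective _)) hle
    refine hQb (eq_bot_iff.mpr fun x hx => ?_)
    obtain ⟨k, hk⟩ := IsPGroup.iff_orderOf.mp hQbp ⟨x, hx⟩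
    rw [Subgroup.orderOf_mk] at hk
    have hd : orderOf x ∣ Nat.card ↥((W.subgroupOf E).map π) := Subgroup.orderOf_dvd_natCard _
      (Subgroup.map_mono (show Q.subgroupOf E ≤ W.subgroupOf E from fun y hy => hQW hy) hx)
    exact mem_bot.mpr (orderOf_eq_one_iff.mp
      (Nat.eq_one_of_dvd_coprimes (hco.pow_right k) hd (dvd_of_eq hk)))
  have hErK : (Er.subgroupOf E).map π = K := by
    refine le_antisymm ?_ ?_
    · rw [hK, ← PIrred.map_pResidual π (QuotientGroup.mk'_surjective _)]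
      refine map_mono fun x hx => ?_
      obtain ⟨⟨y, hy⟩, hyr, hyx⟩ := hE'.le (mem_subgroupOf.mp hx)
      have h1 := Transfer.map_pResidual_le (p := p) (Subgroup.inclusion hWE) (mem_map_of_mem _ hyr)
      have h2 : Subgroup.inclusion hWE ⟨y, hy⟩ = x := Subtype.ext hyx
      rwa [h2] at h1
    · refine (closure_le _).mpr fun q hq => ?_
      obtain ⟨w, hw, rfl⟩ := hKW (Transfer.mem_pResidual_of_coprime hq)
      obtain ⟨k, hk⟩ := PReduced.pMod_pResidual (p := p) (⊤ : Subgroup ↥W) ⟨(w : G), hw⟩ trivial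
      have hmem : π w ^ p ^ k ∈ (Er.subgroupOf E).map π :=
        ⟨w ^ p ^ k, mem_subgroupOf.mpr (hE'.ge ⟨_, hk, rfl⟩), map_pow π w _⟩
      obtain ⟨n, hn'⟩ := exists_pow_eq_self_of_coprime
        (Nat.Coprime.pow_left k (Nat.Coprime.symm hq) : Nat.Coprime (p ^ k) (orderOf (π w)))
      rw [SetLike.mem_coe, ← hn']
      exact Subgroup.pow_mem _ hmem n
  have hErC : ∀ x ∈ pRes p E, x ∈ Er ⊔ C := by
    rintro _ ⟨x, hx, rfl⟩
    have h1 : π x ∈ K := by
      rw [hK, ← PIrred.map_pResidual π (QuotientGroup.mk'_surjective _)]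
      exact mem_map_of_mem π hx
    rw [← hErK] at h1
    obtain ⟨y, hy, hyx⟩ := h1
    have h2 : (((y⁻¹ * x) : ↥E) : G) ∈ C := (hkerπ _).mp (by rw [map_mul, map_inv, hyx, inv_mul_cancel])
    have := mul_mem (mem_sup_left (T := C) (mem_subgroupOf.mp hy)) (mem_sup_right (S := Er) h2)
    simpa using this
  have hErpE : Er ≤ pRes p E := hE'.le.trans
    (pRes_le_of_forall fun x hx hxp => mem_pRes (hWE hx) hxp)
  have hc1 : pRes p E ⊔ C = Er ⊔ C := le_antisymm (sup_le hErC le_sup_right) (sup_le_sup_right hErpE _)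
  -- `O^p` and perfectness
  have hErres : pRes p Er = Er := le_antisymm (pRes_le _) (hE'.le.trans
    (pRes_le_of_forall fun x hx hxp => mem_pRes (hE'.ge (mem_pRes hx hxp)) hxp))
  set Cr := Er ⊓ C with hCr
  set Pr := P ⊓ Er with hPr
  have hstCr : ∀ w ∈ W, ∀ c ∈ Cr, c * w * c⁻¹ * w⁻¹ ∈ P := by
    intro w hw c hc
    have := P.inv_mem ((hWst hw).2.2 c hc.2)
    convert this using 1; group
  haveI hKperf : Group.IsPerfect ↥K := hqs.1
  have hKK : ⁅K, K⁆ = K := Subgroup.isPerfect_iff.mp hKperf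
  have hsplit : ∀ N : Subgroup G, N ≤ Er → K ≤ (N.subgroupOf E).map π → Er ≤ N ⊔ Cr := by
    intro N hN hKN x hx
    obtain ⟨y, hy, hyx⟩ := hKN (hErK.le (mem_map_of_mem π
      (mem_subgroupOf.mpr hx : (⟨x, hErE hx⟩ : ↥E) ∈ Er.subgroupOf E)))
    have h2 : (((y⁻¹ * ⟨x, hErE hx⟩) : ↥E) : G) ∈ C :=
      (hkerπ _).mp (by rw [map_mul, map_inv, hyx, inv_mul_cancel])
    have h3 : (y : G)⁻¹ * x ∈ Er := mul_mem (inv_mem (hN hy)) hx
    have := mul_mem (mem_sup_left (T := Cr) (mem_subgroupOf.mp hy))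
      (mem_sup_right (S := N) (mem_inf.mpr ⟨h3, h2⟩))
    simpa using this
  have hEPr : E ≤ normalizer (Pr : Set G) := (le_inf hEP hEEr).trans inf_normalizer_le_normalizer_inf
  have hPrp : IsPGroup p Pr := (isPGroup_pCoreOf C).to_le inf_le_left
  -- commutators with a subgroup `N` covering `K` fill `Er` up to `Pr`
  have hbig : ∀ N : Subgroup G, N ≤ Er → K ≤ (N.subgroupOf E).map π → Er ≤ normalizer (N : Set G) →
      ∀ X : Subgroup G, X ≤ W → X ≤ normalizer (N : Set G) → Er ≤ normalizer (X : Set G) →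
      Er ≤ stab X (N ⊔ Pr) := by
    intro N hN hKN hErN X hXW hXN hErX
    have hB : Er ≤ normalizer ((N ⊔ Pr : Subgroup G) : Set G) :=
      (le_inf hErN (hErE.trans hEPr)).trans (normalizer_inf_normalizer_le_normalizer_sup _ _)
    refine (hsplit N hN hKN).trans (sup_le (fun n hn' => ?_) fun c hc => ?_)
    · refine mem_stab.mpr ⟨hErX (hN hn'), hB (hN hn'), fun x hx => mem_sup_left ?_⟩
      have := mul_mem hn' ((mem_normalizer_iff.mp (hXN hx) n⁻¹).mp (inv_mem hn'))
      convert this using 1; group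
    · refine mem_stab.mpr ⟨hErX hc.1, hB hc.1, fun x hx => mem_sup_right (mem_inf.mpr
        ⟨hstCr x (hXW hx) c hc, ?_⟩)⟩
      have := mul_mem hc.1 ((mem_normalizer_iff.mp (hWEr (hXW hx)) c⁻¹).mp (inv_mem hc.1))
      simpa [mul_assoc] using this
  have hcomm : ∀ A B : Subgroup G, A ≤ E → B ≤ E → ⁅(A.subgroupOf E).map π, (B.subgroupOf E).map π⁆ ≤
      ((⁅A, B⁆ : Subgroup G).subgroupOf E).map π := by
    intro A B hA hB
    rw [← map_commutator]
    refine map_mono ?_
    rw [show ((⁅A, B⁆ : Subgroup G).subgroupOf E) = (⁅A, B⁆ : Subgroup G).comap E.subtype from rfl,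
      ← map_le_iff_le_comap, map_commutator, map_subgroupOf_eq_of_le hA, map_subgroupOf_eq_of_le hB]
  have hperf : ⁅Er, Er⁆ = Er := by
    set D := ⁅Er, Er⁆ with hD
    have hDle : D ≤ Er := commutator_le_self Er
    have hKD : K ≤ (D.subgroupOf E).map π := by
      calc K = ⁅K, K⁆ := hKK.symm
        _ = ⁅(Er.subgroupOf E).map π, (Er.subgroupOf E).map π⁆ := by rw [hErK]
        _ ≤ _ := hcomm Er Er hErE hErE
    have hEDn : E ≤ normalizer (D : Set G) := (le_inf hEEr hEEr).trans le_normalizer_commutator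
    have hErW' : Er ≤ normalizer (W : Set G) := hErE.trans hEW
    have hst := hbig D hDle hKD (hErE.trans hEDn) W le_rfl (hWE.trans hEDn) hErW'
    obtain ⟨T⟩ : Nonempty (Sylow p ↥W) := inferInstance
    set TW := (T : Subgroup ↥W).map W.subtype with hTW
    have hTWW : TW ≤ W := map_subtype_le _
    set B := D ⊔ Pr with hB
    have hWB : W ≤ normalizer (B : Set G) :=
      (le_inf (hWE.trans hEDn) (hWE.trans hEPr)).trans (normalizer_inf_normalizer_le_normalizer_sup _ _)
    have hWsplit : W ≤ Er ⊔ TW := (pRes_sup_sylow T).ge.trans (sup_le (hE'.ge.trans le_sup_left) le_sup_right)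
    have hT'n : W ≤ normalizer ((TW ⊔ B : Subgroup G) : Set G) := by
      refine hWsplit.trans (sup_le (fun e he => ?_) ?_)
      · refine Coprime.mem_normalizer_of_forall fun x hx => ?_
        have hle : TW ⊔ B ≤ (TW ⊔ B).comap (MulAut.conj e).toMonoidHom := by
          refine sup_le (fun t ht => ?_) fun b hb =>
            mem_sup_right ((mem_normalizer_iff.mp (hWB (hErW he)) b).mp hb)
          show e * t * e⁻¹ ∈ TW ⊔ B
          have := mul_mem (mem_sup_right (S := TW) ((hst he).2.2 t (hTWW ht))) (mem_sup_left (T := B) ht)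
          simpa using this
        exact hle hx
      · exact (le_inf Subgroup.le_normalizer (hTWW.trans hWB)).trans
          (normalizer_inf_normalizer_le_normalizer_sup _ _)
    have hWT : W ≤ TW ⊔ B := by
      have key : ∀ e : ↥E, Q.map (MulAut.conj (e : G)).toMonoidHom ≤ TW ⊔ B := by
        intro e
        set Qe := Q.map (MulAut.conj (e : G)).toMonoidHom
        have hQeW : Qe ≤ W := by
          rw [hWdef, hWeq]
          exact le_iSup (fun l : ↥E => Q.map (MulAut.conj (l : G)).toMonoidHom) e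
        obtain ⟨T₂, hT₂⟩ := ((hQp.map _).of_equiv (subgroupOfEquivOfLe hQeW).symm).exists_le_sylow
        obtain ⟨w, hw⟩ := MulAction.exists_smul_eq ↥W T T₂
        intro x hx
        have h1 : (⟨x, hQeW hx⟩ : ↥W) ∈ ((w • T : Sylow p ↥W) : Subgroup ↥W) :=
          hw ▸ hT₂ (mem_subgroupOf.mpr hx)
        obtain ⟨t, ht, htx⟩ := h1
        have hxe : x = (w : G) * (t : G) * (w : G)⁻¹ := (congrArg Subtype.val htx).symm
        rw [hxe]
        exact (mem_normalizer_iff.mp (hT'n w.2) _).mp (mem_sup_left ⟨t, ht, rfl⟩)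
      calc W = ⨆ e : ↥E, Q.map (MulAut.conj (e : G)).toMonoidHom := by rw [hWdef, hWeq]
        _ ≤ _ := iSup_le key
    have h1 : Er ≤ B := hE'.le.trans (pRes_le_of_le_sup (T.2.map _) (hTWW.trans hWB) hWT)
    refine le_antisymm hDle (hErres.ge.trans (pRes_le_of_le_sup hPrp ?_ (h1.trans (sup_comm D Pr).le)))
    exact inf_le_right.trans (hErE.trans hEDn)
  refine ⟨hc1, hperf, hErres, ?_, ?_, fun Y hYE hYp hYC => ?_⟩
  · -- `Er / C_{Er}(U) ≃ K`
    set f := π.comp (Subgroup.inclusion hErE) with hf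
    have hr : f.range = K := by
      rw [hf, MonoidHom.range_comp, Subgroup.inclusion_range, hErK]
    have hk : f.ker = (centralizer (U : Set G)).subgroupOf Er := by
      ext x
      rw [MonoidHom.mem_ker, mem_subgroupOf, hf, MonoidHom.comp_apply, hkerπ]
      exact ⟨fun h => h.2, fun h => mem_inf.mpr ⟨hErE x.2, h⟩⟩
    exact (Components.isQuasisimple_congr (((QuotientGroup.quotientMulEquivOfEq hk.symm).trans
      (QuotientGroup.quotientKerEquivRange f)).trans (MulEquiv.subgroupCongr hr))).mpr hqs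
  · -- `Er / O_p(Er)`
    set f := π.comp (Subgroup.inclusion hErE) with hf
    have hr : f.range = K := by
      rw [hf, MonoidHom.range_comp, Subgroup.inclusion_range, hErK]
    set σ := QuotientGroup.mk' (Cfsg.pCore p ↥Er) with hσ
    have hσs : Function.Surjective σ := QuotientGroup.mk'_surjective _
    have hKne : K ≠ ⊥ := fun h => by
      haveI := Components.IsQuasisimple.nontrivial hqs
      exact Subgroup.nontrivial_iff_ne_bot K |>.mp ‹_› h
    haveI hnt : Nontrivial (↥Er ⧸ Cfsg.pCore p ↥Er) := QuotientGroup.nontrivial_iff.mpr fun h => by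
      refine hKne ?_
      have h0 : Er ≤ ⊥ := hErres.ge.trans (pRes_le_of_forall fun x hx hxp => by
        obtain ⟨k, hk⟩ := IsPGroup.iff_orderOf.mp (Cores.pCore_eq_top_iff.mp h) ⟨x, hx⟩
        rw [Subgroup.orderOf_mk] at hk
        exact mem_bot.mpr (orderOf_eq_one_iff.mp
          (Nat.eq_one_of_dvd_coprimes (hxp.pow_right k) dvd_rfl (dvd_of_eq hk))))
      rw [← hErK, Subgroup.map_eq_bot_iff]
      intro x hx
      have h1 : (x : G) = 1 := mem_bot.mp (h0 hx)
      rw [OneMemClass.coe_eq_one.mp h1]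
      exact one_mem _
    have hptop : ⁅(⊤ : Subgroup ↥Er), (⊤ : Subgroup ↥Er)⁆ = ⊤ := by
      rw [← map_subtype_inj, map_commutator, ← MonoidHom.range_eq_map, range_subtype, hperf]
    haveI hper : Group.IsPerfect (↥Er ⧸ Cfsg.pCore p ↥Er) := by
      refine ⟨?_⟩
      rw [_root_.commutator_def, ← map_top_of_surjective σ hσs, ← map_commutator, hptop]
    have hZ : f.ker.map σ ≤ center (↥Er ⧸ Cfsg.pCore p ↥Er) := by
      rintro _ ⟨c, hc, rfl⟩
      refine mem_center_iff.mpr fun q => ?_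
      obtain ⟨e, rfl⟩ := hσs q
      have hcC : (c : G) ∈ Cr := mem_inf.mpr ⟨c.2, (hkerπ _).mp hc⟩
      have h1 : (c : G) * e * (c : G)⁻¹ * (e : G)⁻¹ ∈ Cfsg.pCoreOf p Er :=
        le_pCoreOf inf_le_right (hErE.trans hEPr) hPrp (mem_inf.mpr ⟨hstCr e (hErW e.2) c hcC,
          mul_mem (mul_mem (mul_mem c.2 e.2) (inv_mem c.2)) (inv_mem e.2)⟩)
      obtain ⟨z', hz', hzz⟩ := h1
      have hz'' : z' = c * e * c⁻¹ * e⁻¹ := Subtype.ext hzz
      have h2 : σ (c * e * c⁻¹ * e⁻¹) = 1 := (QuotientGroup.eq_one_iff _).mpr (hz'' ▸ hz')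
      rw [map_mul, map_mul, map_mul, map_inv, map_inv, mul_inv_eq_one, mul_inv_eq_iff_eq_mul] at h2
      exact h2.symm
    refine Components.isQuasisimple_of_normal_le_center fun N hN' => ?_
    haveI := hN'
    set fK : ↥Er →* ↥K := (MulEquiv.subgroupCongr hr).toMonoidHom.comp f.rangeRestrict with hfK
    have hfKs : Function.Surjective fK :=
      (MulEquiv.subgroupCongr hr).surjective.comp f.rangeRestrict_surjective
    have hfKk : fK.ker = f.ker := by
      ext x
      rw [MonoidHom.mem_ker, MonoidHom.mem_ker, hfK, MonoidHom.comp_apply, MulEquiv.coe_toMonoidHom,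
        EmbeddingLike.map_eq_one_iff, Subtype.ext_iff]
      rfl
    haveI : ((N.comap σ).map fK).Normal := Normal.map inferInstance fK hfKs
    have hNσ : (N.comap σ).map σ = N := map_comap_eq_self_of_surjective hσs N
    rcases Components.IsQuasisimple.normal_eq_top_or_le_center hqs ((N.comap σ).map fK) with h | h
    · left
      refine Components.eq_top_of_sup_center_eq_top (top_le_iff.mp ?_)
      have h1 : N.comap σ ⊔ f.ker = ⊤ := by rw [← hfKk, ← comap_map_eq, h, comap_top]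
      rw [← map_top_of_surjective σ hσs, ← h1, Subgroup.map_sup, hNσ]
      exact sup_le_sup_left hZ _
    · right
      have h1 : ⁅N.comap σ, (⊤ : Subgroup ↥Er)⁆ ≤ f.ker := by
        rw [← hfKk, ← Subgroup.map_eq_bot_iff, map_commutator, map_top_of_surjective fK hfKs]
        exact le_bot_iff.mp ((commutator_mono h le_rfl).trans
          (commutator_eq_bot_iff_le_centralizer.mpr (center_le_centralizer _)).le)
      have h2 : ⁅⁅N, (⊤ : Subgroup (↥Er ⧸ Cfsg.pCore p ↥Er))⁆, (⊤ : Subgroup (↥Er ⧸ Cfsg.pCore p ↥Er))⁆ = ⊥ := by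
        have h3 := (map_mono (f := σ) h1).trans hZ
        rw [map_commutator, hNσ, map_top_of_surjective σ hσs] at h3
        rw [commutator_eq_bot_iff_le_centralizer]
        exact h3.trans (center_le_centralizer _)
      have h4 := commutator_commutator_eq_bot_of_rotate
        (H₁ := (⊤ : Subgroup (↥Er ⧸ Cfsg.pCore p ↥Er))) (H₂ := (⊤ : Subgroup (↥Er ⧸ Cfsg.pCore p ↥Er))) (H₃ := N)
        (by rw [commutator_comm ⊤ N]; exact h2) h2
      rw [← _root_.commutator_def, Group.IsPerfect.commutator_eq_top, commutator_comm,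
        commutator_eq_bot_iff_le_centralizer] at h4
      exact h4.trans_eq (by rw [coe_top, centralizer_univ])
  · set N := ⁅Er, Y⁆ with hN'
    have hNle : N ≤ Er := le_normalizer_iff_commutator_le_left.mp (hYE.trans hEEr)
    have hYb : (Y.subgroupOf E).map π ≠ ⊥ := by
      rw [Ne, Subgroup.map_eq_bot_iff, QuotientGroup.ker_mk']
      exact fun h => hYC fun y hy =>
        h (mem_subgroupOf.mpr hy : (⟨y, hYE hy⟩ : ↥E) ∈ Y.subgroupOf E)
    have hKN : K ≤ (N.subgroupOf E).map π := by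
      calc K = ⁅K, (Y.subgroupOf E).map π⁆ := ((hY _ (hYp.comap_subtype.map _) hYb).1).symm
        _ = ⁅(Er.subgroupOf E).map π, (Y.subgroupOf E).map π⁆ := by rw [hErK]
        _ ≤ _ := hcomm Er Y hErE hYE
    have hErN : Er ≤ normalizer (N : Set G) := normalizer_commutator_ge_left Er Y
    have hst := hbig N hNle hKN hErN Er hErW hErN Subgroup.le_normalizer
    have h1 : Er ≤ Pr ⊔ N := hperf.ge.trans (commutator_le.mpr fun a ha b hb => by
      rw [sup_comm]
      exact (hst ha).2.2 b hb)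
    exact le_antisymm hNle (hErres.ge.trans (pRes_le_of_le_sup hPrp (inf_le_right.trans hErN) h1))

end Cfsg.Agent.S2860
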