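import Cfsg.Statements.S2861
import Cfsg.Agent.Lib.FrakLModule.Setup

set_option autoImplicit false
open Cfsg

namespace Cfsg.Agent.S2861

/-- Standing hypotheses: G a finite group, S a Sylow p-subgroup, Q a nontrivial large p-subgroup of G contained in S, M a subgroup containing S with the basic property (M ∈ 𝔐_G(S)); Y_M the largest p-reduced normal subgroup of M and M† = M·C_G(Y_M). Let L ∈ 𝔏_G(Y_M) (L ∈ 𝔏_G(Y_M): Y_M ≤ L; O_p(L) is the normal closure in L of Y_M ∩ O_p(L) and normalizes Y_M; L is Y_M-minimal of characteristic p with N_L(Y_M) its unique maximal subgroup over Y_M; and L/O_p(L) ≅ SL₂(q) with q = |Y_M : Y_M ∩ O_p(L)|, or p = 2 and L/O_p(L) is a Suzuki group Sz(q) or dihedral of order 2r, r an odd prime) and A = O_p(L). Then Y_M·A/A is the unique nontrivial elementary abelian normal p-subgroup of N_L(Y_M)/A. -/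
theorem result {G : Type*} [Group G] [Finite G] {p : ℕ} [Fact p.Prime] (S : Sylow p G) (Q : Subgroup G) (hQp : IsPGroup p ↥Q) (hQ1 : Q ≠ ⊥) (hQS : Q ≤ (S : Subgroup G)) (hQ : Cfsg.IsLarge Q) (M : Subgroup G) (hSM : (S : Subgroup G) ≤ M) (hM : Cfsg.IsInFrakM p M) (L : Subgroup G) (hL : Cfsg.IsInFrakL p M L) (NL : Subgroup G) (hNL : NL = L ⊓ Subgroup.normalizer (((Cfsg.largestPReducedOf p M) : Subgroup G) : Set G)) [hn : (((Cfsg.pCoreOf p L)).subgroupOf NL).Normal] : let Ybar : Subgroup (↥NL ⧸ ((Cfsg.pCoreOf p L)).subgroupOf NL) := (((Cfsg.largestPReducedOf p M)).subgroupOf NL).map (QuotientGroup.mk' (((Cfsg.pCoreOf p L)).subgroupOf NL)); Ybar ≠ ⊥ ∧ Ybar.Normal ∧ Cfsg.IsElementaryAbelian p Ybar ∧ ∀ (V : Subgroup (↥NL ⧸ ((Cfsg.pCoreOf p L)).subgroupOf NL)), V.Normal → Cfsg.IsElementaryAbelian p V → V ≠ ⊥ → V = Ybar := by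
  intro Ybar
  obtain ⟨hd, hq⟩ := Cfsg.Agent.FrakLModule.ldata_of_isInFrakL hL
  subst hNL
  set Y := Cfsg.largestPReducedOf p M with hY
  set NL : Subgroup G := L ⊓ Subgroup.normalizer (Y : Set G) with hNL
  set D := (Cfsg.pCoreOf p L).subgroupOf NL with hD
  set π := QuotientGroup.mk' (Cfsg.pCore p ↥L) with hπ
  have hYN : Y ≤ NL := le_inf hL.1 Subgroup.le_normalizer
  let f : NL →* ↥L := Subgroup.inclusion inf_le_left
  have hker : (π.comp f).ker = D := by
    ext x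
    rw [MonoidHom.mem_ker, MonoidHom.comp_apply, hπ, QuotientGroup.mk'_apply,
      QuotientGroup.eq_one_iff, hD, Subgroup.mem_subgroupOf]
    exact ⟨fun h => ⟨f x, h, rfl⟩, fun ⟨z, hz, he⟩ =>
      (show z = f x from Subtype.ext he) ▸ hz⟩
  let φ : ↥NL ⧸ D →* ↥L ⧸ Cfsg.pCore p ↥L := QuotientGroup.lift D (π.comp f) hker.ge
  have hφ : Function.Injective φ := by
    rw [injective_iff_map_eq_one]
    intro x hx
    obtain ⟨x, rfl⟩ := QuotientGroup.mk'_surjective D x
    exact (QuotientGroup.eq_one_iff _).mpr (hker ▸ hx)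
  have hYmap : Ybar.map φ = (Y.subgroupOf L).map π := by
    show ((Y.subgroupOf NL).map (QuotientGroup.mk' D)).map φ = _
    rw [Subgroup.map_map]
    ext z
    constructor
    · rintro ⟨x, hx, rfl⟩
      exact ⟨f x, hx, rfl⟩
    · rintro ⟨x, hx, rfl⟩
      exact ⟨⟨x, hYN hx⟩, hx, rfl⟩
  have hrange : φ.range = Subgroup.normalizer ((Y.subgroupOf L).map π : Set (↥L ⧸ Cfsg.pCore p ↥L)) := by
    rw [hπ, hd.normalizer_map]
    ext z
    constructor
    · rintro ⟨x, rfl⟩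
      obtain ⟨x, rfl⟩ := QuotientGroup.mk'_surjective D x
      refine ⟨f x, ?_, rfl⟩
      simp only [SetLike.mem_coe, Subgroup.mem_normalizer_iff, Subgroup.mem_subgroupOf]
      intro z
      exact Subgroup.mem_normalizer_iff.mp x.2.2 z
    · rintro ⟨x, hx, rfl⟩
      refine ⟨QuotientGroup.mk' D ⟨x, x.2, ?_⟩, rfl⟩
      simp only [SetLike.mem_coe, Subgroup.mem_normalizer_iff, Subgroup.mem_subgroupOf] at hx
      refine Subgroup.mem_normalizer_iff.mpr fun z => ⟨fun hz => ?_, fun hz => ?_⟩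
      · simpa using (hx ⟨z, hL.1 hz⟩).mp hz
      · have hzL : z ∈ L := by
          have := L.mul_mem (L.mul_mem (L.inv_mem x.2) (hL.1 hz)) x.2
          simpa [mul_assoc] using this
        exact (hx ⟨z, hzL⟩).mpr (by simpa using hz)
  refine ⟨?_, ?_, ?_, ?_⟩
  · intro hb
    apply hd.map_ne_bot
    rw [← hπ, ← hYmap, hb, Subgroup.map_bot]
  · haveI : (Y.subgroupOf NL).Normal :=
      Cfsg.Agent.Cores.subgroupOf_normal_of_le_normalizer inf_le_right
    exact Subgroup.Normal.map inferInstance _ (QuotientGroup.mk'_surjective D)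
  · refine ⟨⟨⟨fun a b => Subtype.ext (hφ ?_)⟩⟩, fun a ha => hφ ?_⟩
    · show φ (a.1 * b.1) = φ (b.1 * a.1)
      haveI := hd.elem_map.1
      rw [map_mul, map_mul]
      have ha : φ a.1 ∈ (Y.subgroupOf L).map π := hYmap ▸ Subgroup.mem_map_of_mem φ a.2
      have hb : φ b.1 ∈ (Y.subgroupOf L).map π := hYmap ▸ Subgroup.mem_map_of_mem φ b.2
      exact congrArg Subtype.val (mul_comm' (⟨_, ha⟩ : ↥((Y.subgroupOf L).map π)) ⟨_, hb⟩)
    · rw [map_pow, map_one]
      exact hd.elem_map.2 _ (hYmap ▸ Subgroup.mem_map_of_mem φ ha)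
  · intro V hV hel hne
    refine Subgroup.map_injective hφ ((hd.uniq_quot hq (V.map φ) ?_ ?_ ?_ ?_).trans hYmap.symm)
    · rw [← hπ, ← hrange]; exact Subgroup.map_le_range φ V
    · rw [← hπ, ← hrange]
      rintro _ ⟨x, rfl⟩
      exact Subgroup.le_normalizer_map φ ⟨x, by rw [Subgroup.normalizer_eq_top V]; trivial, rfl⟩
    · refine ⟨⟨⟨?_⟩⟩, ?_⟩
      · rintro ⟨_, a, ha, rfl⟩ ⟨_, b, hb, rfl⟩
        haveI := hel.1
        refine Subtype.ext ?_
        show φ a * φ b = φ b * φ a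
        rw [← map_mul, ← map_mul]
        exact congrArg φ (congrArg Subtype.val (mul_comm' (⟨a, ha⟩ : V) ⟨b, hb⟩))
      · rintro _ ⟨a, ha, rfl⟩
        rw [← map_pow, hel.2 a ha, map_one]
    · exact fun h0 => hne ((Subgroup.map_eq_bot_iff_of_injective _ hφ).mp h0)

end Cfsg.Agent.S2861
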