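import Cfsg.Statements.S2864
import Cfsg.Agent.Lib.LargeSub.Basic
import Cfsg.Agent.Lib.Coprime.Frattini
import Cfsg.Agent.Lib.PGroup.Basic
import Cfsg.Agent.Lib.Transfer.Residual

set_option autoImplicit false
open Cfsg Cfsg.Agent.LargeSub
open scoped commutatorElement

namespace Cfsg.Agent.S2864

/-- Standing hypotheses: G a finite group, S a Sylow p-subgroup, Q a nontrivial large p-subgroup of G contained in S, M a subgroup containing S with the basic property (M ∈ 𝔐_G(S)); Y_M the largest p-reduced normal subgroup of M and M† = M·C_G(Y_M). Let I be a nontrivial normal p-subgroup of M and Y ≤ O_p(M†); let L be a subgroup of G containing Y and A a normal p-subgroup of L with I ≤ A ≤ M. If [Y, A] ≤ [I, A], then Y ≤ O_p(L). -/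
theorem result {G : Type*} [Group G] [Finite G] {p : ℕ} [Fact p.Prime] (S : Sylow p G) (Q : Subgroup G) (hQp : IsPGroup p ↥Q) (hQ1 : Q ≠ ⊥) (hQS : Q ≤ (S : Subgroup G)) (hQ : Cfsg.IsLarge Q) (M : Subgroup G) (hSM : (S : Subgroup G) ≤ M) (hM : Cfsg.IsInFrakM p M) (I : Subgroup G) (hI1 : I ≠ ⊥) (hIp : IsPGroup p ↥I) (hIM : I ≤ M ∧ M ≤ Subgroup.normalizer ((I : Subgroup G) : Set G)) (Y : Subgroup G) (hY : Y ≤ (Cfsg.pCoreOf p (M ⊔ Subgroup.centralizer (((Cfsg.largestPReducedOf p M) : Subgroup G) : Set G)))) (L : Subgroup G) (hYL : Y ≤ L) (A : Subgroup G) (hAp : IsPGroup p ↥A) (hAL : A ≤ L ∧ L ≤ Subgroup.normalizer ((A : Subgroup G) : Set G)) (hIA : I ≤ A) (hAM : A ≤ M) (hc : ⁅Y, A⁆ ≤ ⁅I, A⁆) : Y ≤ (Cfsg.pCoreOf p L) := by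
  set YM := Cfsg.largestPReducedOf p M with hYM
  set D := M ⊔ Subgroup.centralizer ((YM : Subgroup G) : Set G) with hD
  set Z := Cfsg.pCoreOf p D with hZ
  have hZD : D ≤ Subgroup.normalizer (Z : Set G) := self_le_normalizer_pCoreOf D
  have hYp : IsPGroup p Y := (isPGroup_pCoreOf D).to_le hY
  -- `N(I) ≤ M†`
  have hID : Subgroup.normalizer (I : Set G) ≤ D := by
    refine le_dag_of_charP hM ?_ hIM.2
    refine charP_of_parabolic (isOfParabolicCharacteristic hQp hQ hQ1) S (hSM.trans hIM.2)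
      fun h => hI1 (le_bot_iff.mp (h ▸ le_pCoreOf Subgroup.le_normalizer le_rfl hIp))
  have hCA : Subgroup.centralizer (A : Set G) ≤ D :=
    ((Subgroup.centralizer_le (SetLike.coe_subset_coe.mpr hIA)).trans
      (Subgroup.centralizer_le_normalizer _)).trans hID
  set P := Cfsg.pCoreOf p L with hP
  have hLP : L ≤ Subgroup.normalizer (P : Set G) := self_le_normalizer_pCoreOf L
  set Cc := L ⊓ Subgroup.centralizer (A : Set G) with hCc
  have hLCc : L ≤ Subgroup.normalizer (Cc : Set G) := le_normalizer_inf_centralizer hAL.2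
  set F := (frattini A).map A.subtype with hF
  haveI : (frattini A).Characteristic := inferInstance
  have hLF : L ≤ Subgroup.normalizer (F : Set G) :=
    hAL.2.trans (Cfsg.Agent.Cores.normalizer_le_normalizer_map _)
  -- elements of `L` acting trivially on `A / Φ(A)` and on `Cc` modulo `P`
  let E : Subgroup G :=
    { carrier := {l | l ∈ L ∧ (∀ a ∈ A, ⁅l, a⁆ ∈ F) ∧ ∀ c ∈ Cc, ⁅l, c⁆ ∈ P}
      one_mem' := ⟨L.one_mem, fun a _ => by rw [commutatorElement_one_left]; exact F.one_mem,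
        fun c _ => by rw [commutatorElement_one_left]; exact P.one_mem⟩
      mul_mem' := fun {x y} hx hy => ⟨L.mul_mem hx.1 hy.1, fun a ha => by
          rw [show ⁅x * y, a⁆ = x * ⁅y, a⁆ * x⁻¹ * ⁅x, a⁆ by simp only [commutatorElement_def]; group]
          exact F.mul_mem ((Subgroup.mem_normalizer_iff.mp (hLF hx.1) _).mp (hy.2.1 a ha)) (hx.2.1 a ha),
        fun c hc => by
          rw [show ⁅x * y, c⁆ = x * ⁅y, c⁆ * x⁻¹ * ⁅x, c⁆ by simp only [commutatorElement_def]; group]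
          exact P.mul_mem ((Subgroup.mem_normalizer_iff.mp (hLP hx.1) _).mp (hy.2.2 c hc)) (hx.2.2 c hc)⟩
      inv_mem' := fun {x} hx => ⟨L.inv_mem hx.1, fun a ha => by
          rw [show ⁅x⁻¹, a⁆ = x⁻¹ * ⁅x, a⁆⁻¹ * x⁻¹⁻¹ by simp only [commutatorElement_def]; group]
          exact (Subgroup.mem_normalizer_iff.mp (hLF (L.inv_mem hx.1)) _).mp (F.inv_mem (hx.2.1 a ha)),
        fun c hc => by
          rw [show ⁅x⁻¹, c⁆ = x⁻¹ * ⁅x, c⁆⁻¹ * x⁻¹⁻¹ by simp only [commutatorElement_def]; group]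
          exact (Subgroup.mem_normalizer_iff.mp (hLP (L.inv_mem hx.1)) _).mp (P.inv_mem (hx.2.2 c hc))⟩ }
  have hEL : E ≤ L := fun x hx => hx.1
  have hLE : L ≤ Subgroup.normalizer (E : Set G) := by
    refine Subgroup.le_normalizer_iff.mpr fun l hl x hx =>
      ⟨L.mul_mem (L.mul_mem hl hx.1) (L.inv_mem hl), fun a ha => ?_, fun c hc => ?_⟩
    · have h := (Subgroup.mem_normalizer_iff.mp (hLF hl) _).mp
        (hx.2.1 _ ((Subgroup.mem_normalizer_iff''.mp (hAL.2 hl) a).mp ha))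
      convert h using 1
      simp only [commutatorElement_def]; group
    · have h := (Subgroup.mem_normalizer_iff.mp (hLP hl) _).mp
        (hx.2.2 _ ((Subgroup.mem_normalizer_iff''.mp (hLCc hl) c).mp hc))
      convert h using 1
      simp only [commutatorElement_def]; group
  -- `Y ≤ E`
  have hYE : Y ≤ E := by
    intro y hy
    refine ⟨hYL hy, fun a ha => ?_, fun c hcc => ?_⟩
    · have h1 : ⁅y, a⁆ ∈ ⁅A, A⁆ :=
        Subgroup.commutator_mono hIA le_rfl (hc (Subgroup.commutator_mem_commutator hy ha))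
      rw [← Subgroup.map_subtype_commutator] at h1
      exact Subgroup.map_mono (Cfsg.Agent.PGroup.commutator_le_frattini (p := p) hAp) h1
    · have h1 : ⁅y, c⁆ ∈ Cc :=
        Cc.mul_mem ((Subgroup.mem_normalizer_iff.mp (hLCc (hYL hy)) c).mp hcc) (Cc.inv_mem hcc)
      have h2 : ⁅y, c⁆ ∈ Z := by
        have h3 : y * (c * y⁻¹ * c⁻¹) ∈ Z :=
          Z.mul_mem (hY hy) ((Subgroup.mem_normalizer_iff.mp (hZD (hCA hcc.2)) _).mp (Z.inv_mem (hY hy)))
        simpa [commutatorElement_def, mul_assoc] using h3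
      have hn : Cc ≤ Subgroup.normalizer ((Cc ⊓ Z : Subgroup G) : Set G) :=
        (le_inf Subgroup.le_normalizer ((inf_le_right.trans hCA).trans hZD)).trans
          Subgroup.inf_normalizer_le_normalizer_inf
      have h4 : Cc ⊓ Z ≤ Cfsg.pCoreOf p Cc :=
        le_pCoreOf inf_le_left hn ((isPGroup_pCoreOf D).to_le inf_le_right)
      refine le_pCoreOf ((pCoreOf_le Cc).trans inf_le_left) (hLCc.trans (le_normalizer_pCoreOf Cc))
        (isPGroup_pCoreOf Cc) (h4 ⟨h1, h2⟩)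
  -- elements of order prime to `p` of `E` lie in `Cc`
  have hp'E : ∀ z ∈ E, (orderOf z).Coprime p → z ∈ Cc := by
    intro z hz hzp
    refine Subgroup.mem_inf.mpr ⟨hz.1, Cfsg.Agent.Coprime.le_centralizer_of_forall_mem_frattini
      (A := Subgroup.zpowers z) (Subgroup.zpowers_le.mpr (hAL.2 hz.1)) ?_ ?_ (Subgroup.mem_zpowers z)⟩
    · rw [Nat.card_zpowers]
      obtain ⟨n, hn⟩ := IsPGroup.iff_card.mp (hAp.to_subgroup (frattini A))
      rw [hn]; exact hzp.pow_right n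
    · intro x hx a ha
      have hxE : x ∈ E := Subgroup.zpowers_le.mpr hz hx
      exact hxE.2.1 a ha
  -- a Sylow subgroup of `E` is normal
  obtain ⟨T⟩ : Nonempty (Sylow p E) := inferInstance
  haveI hCn : (Cc.subgroupOf E).Normal :=
    Cfsg.Agent.Cores.subgroupOf_normal_of_le_normalizer (hEL.trans hLCc)
  have hmod : Cfsg.Agent.PReduced.pMod p (Cc.subgroupOf E) ⊤ := by
    intro x _
    obtain ⟨u, v, huv, hu, hv, ⟨k, hk⟩, hvp⟩ := Cfsg.Agent.Transfer.exists_pPart_mul (p := p) x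
    refine ⟨k, ?_⟩
    obtain ⟨i, rfl⟩ := Subgroup.mem_zpowers_iff.mp hu
    obtain ⟨j, rfl⟩ := Subgroup.mem_zpowers_iff.mp hv
    rw [huv, ((Commute.refl x).zpow_zpow i j).mul_pow, ← hk, pow_orderOf_eq_one, one_mul]
    refine Subgroup.pow_mem _ (Subgroup.mem_subgroupOf.mpr (hp'E _ (x ^ j : E).2 ?_)) _
    rwa [Subgroup.orderOf_coe]
  have htop : (⊤ : Subgroup E) = Cc.subgroupOf E ⊔ ((T : Subgroup E) ⊓ ⊤) :=
    Cfsg.Agent.PReduced.eq_sup_sylow_inf_of_pMod T le_top hmod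
  have hPE : (P.subgroupOf E) ≤ (T : Subgroup E) :=
    (Cfsg.Agent.Cores.le_pCore (Cfsg.Agent.Cores.subgroupOf_normal_of_le_normalizer (hEL.trans hLP))
      ((isPGroup_pCoreOf L).comap_subtype)).trans (Cfsg.Agent.Cores.pCore_le_sylow T)
  have hTn : (T : Subgroup E).Normal := by
    rw [← Subgroup.normalizer_eq_top_iff, eq_top_iff, htop, inf_top_eq]
    refine sup_le (Subgroup.le_normalizer_iff.mpr fun c hc t ht => ?_) Subgroup.le_normalizer
    have h1 : ⁅c, t⁆ ∈ (T : Subgroup E) := by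
      apply hPE
      rw [Subgroup.mem_subgroupOf]
      have h2 := P.inv_mem (t.2.2.2 c (Subgroup.mem_subgroupOf.mp hc))
      rwa [commutatorElement_inv] at h2
    simpa [commutatorElement_def] using (T : Subgroup E).mul_mem h1 ht
  have hTP : (T : Subgroup E).map E.subtype ≤ P := by
    rw [← Cfsg.Agent.Cores.pCore_eq_sylow T]
    exact le_pCoreOf ((pCoreOf_le E).trans hEL) (hLE.trans (le_normalizer_pCoreOf E)) (isPGroup_pCoreOf E)
  intro y hy
  refine hTP ⟨⟨y, hYE hy⟩, ?_, rfl⟩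
  have hq : IsPGroup p (Subgroup.zpowers (⟨y, hYE hy⟩ : E)) := by
    rw [IsPGroup.iff_card]
    obtain ⟨n, hn⟩ := IsPGroup.iff_orderOf.mp hYp ⟨y, hy⟩
    exact ⟨n, by rw [Nat.card_zpowers, Subgroup.orderOf_mk, ← hn, Subgroup.orderOf_mk]⟩
  obtain ⟨T', hT'⟩ := hq.exists_le_sylow
  haveI := Sylow.unique_of_normal T hTn
  rw [Subsingleton.elim T' T] at hT'
  exact hT' (Subgroup.mem_zpowers _)

end Cfsg.Agent.S2864
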