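import Cfsg.Statements.S2872
import Cfsg.Agent.Lib.TwoTransfer.CenterInvolution

set_option autoImplicit false
open Cfsg

namespace Cfsg.Agent.S2872

/-- Let S be a Sylow 2-subgroup of the finite group G. Then G has a proper normal subgroup of 2-power index (O²(G) ≠ G), or Ω₁(Z(S)) is contained in the Frattini subgroup of S, or N_G(S) acts nontrivially on Ω₁(Z(S)) by conjugation. -/
theorem result {G : Type*} [Group G] [Finite G] (S : Sylow 2 G) : Cfsg.pResidual 2 G ≠ ⊤ ∨ Cfsg.omegaOne 2 ((S : Subgroup G) ⊓ Subgroup.centralizer ((S : Subgroup G) : Set G)) ≤ (frattini ↥(S : Subgroup G)).map (S : Subgroup G).subtype ∨ ∃ g ∈ Subgroup.normalizer ((S : Subgroup G) : Set G), ∃ z ∈ Cfsg.omegaOne 2 ((S : Subgroup G) ⊓ Subgroup.centralizer ((S : Subgroup G) : Set G)), g * z * g⁻¹ ≠ z := by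
  by_contra h
  push Not at h
  obtain ⟨hres, hle, hfix⟩ := h
  apply hle
  rw [Cfsg.omegaOne, Subgroup.closure_le]
  rintro z ⟨⟨hzS, hzC⟩, hz2⟩
  by_contra hzF
  apply Cfsg.Agent.TwoTransfer.pResidual_ne_top S ⟨z, hzS⟩ (Subtype.ext hz2) ?_ ?_ ?_ hres
  · rw [Subgroup.mem_center_iff]
    intro s
    exact Subtype.ext (Subgroup.mem_centralizer_iff.mp hzC s s.2)
  · exact fun hf => hzF ⟨⟨z, hzS⟩, hf, rfl⟩
  · intro g hg
    exact hfix g hg z (Subgroup.subset_closure ⟨⟨hzS, hzC⟩, hz2⟩)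

end Cfsg.Agent.S2872
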