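import Cfsg.Statements.S2873
import Cfsg.Agent.EqLemmas
import Cfsg.Agent.Lib.Cores.Basic
import Cfsg.Agent.Lib.Coprime.Basic

set_option autoImplicit false
open Cfsg

namespace Cfsg.Agent.S2873

open DihedralGroup
open scoped Pointwise

section

variable {r : ℕ} [Fact r.Prime]

theorem exists_sr_of_orderOf_two (hr : r ≠ 2) {d : DihedralGroup r} (hd : orderOf d = 2) :
    ∃ i, d = sr i := by
  haveI : NeZero r := ⟨(Fact.out : r.Prime).ne_zero⟩
  match d, hd with
  | .sr i, _ => exact ⟨i, rfl⟩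
  | .r i, hd =>
    exfalso
    rw [orderOf_r] at hd
    have h1 : r / Nat.gcd r i.val ∣ r := Nat.div_dvd_of_dvd (Nat.gcd_dvd_left _ _)
    rw [hd] at h1
    exact hr ((Nat.prime_dvd_prime_iff_eq Nat.prime_two Fact.out).1 h1).symm

theorem sr_conj (hr : r ≠ 2) (i j : ZMod r) : ∃ d : DihedralGroup r, d * sr i * d⁻¹ = sr j := by
  have h2 : (2 : ZMod r) ≠ 0 := by
    intro h
    have h' : ((2 : ℕ) : ZMod r) = 0 := by simpa using h
    exact hr ((Nat.prime_dvd_prime_iff_eq Fact.out Nat.prime_two).1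
      ((ZMod.natCast_eq_zero_iff _ _).1 h'))
  refine ⟨DihedralGroup.r ((i - j) / 2), ?_⟩
  rw [DihedralGroup.inv_r, r_mul_sr, sr_mul_r]
  congr 1
  field_simp
  ring

theorem orderOf_sr_mul_sr {i j : ZMod r} (h : i ≠ j) : orderOf (sr i * sr j) = r := by
  rw [sr_mul_sr]
  refine orderOf_eq_prime ?_ fun h1 => ?_
  · rw [r_pow]; simp
  · rw [one_def] at h1
    exact h (sub_eq_zero.1 (DihedralGroup.r.inj h1)).symm

variable {G : Type*} [Group G] [Finite G] {O : Subgroup G} [O.Normal]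
  {φ : G →* DihedralGroup r} (hφ : Function.Surjective φ) (hker : φ.ker = O)
  (hO : IsPGroup 2 ↥O) (hr : r ≠ 2)

include hφ hker hO hr

theorem card_sylow (R : Sylow r G) : Nat.card R = r := by
  have hrp : r.Prime := Fact.out
  haveI : NeZero r := ⟨hrp.ne_zero⟩
  obtain ⟨k, hk⟩ := IsPGroup.iff_card.1 hO
  have h1 := Subgroup.card_mul_index φ.ker
  rw [Subgroup.index_ker, MonoidHom.range_eq_top_of_surjective φ hφ, Subgroup.card_top,
    DihedralGroup.nat_card, hker, hk] at h1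
  rw [R.card_eq_multiplicity, ← h1]
  have h2 : ¬ r ∣ 2 := fun h => hr ((Nat.prime_dvd_prime_iff_eq hrp Nat.prime_two).1 h)
  rw [Nat.factorization_mul (pow_ne_zero _ two_ne_zero) (Nat.mul_ne_zero two_ne_zero hrp.ne_zero),
    Nat.factorization_mul two_ne_zero hrp.ne_zero, Nat.factorization_pow]
  simp [hrp.factorization_self, Nat.factorization_eq_zero_of_not_dvd h2]

omit hr in
theorem structure_normalizer (R : Sylow r G)
    (hC : O ⊓ Subgroup.centralizer ((R : Subgroup G) : Set G) = ⊥) (hR : Nat.card R = r)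
    (hr : r ≠ 2) :
    (∀ d, ∃ n ∈ Subgroup.normalizer ((R : Subgroup G) : Set G), φ n = d) ∧
      O ⊓ Subgroup.normalizer ((R : Subgroup G) : Set G) = ⊥ := by
  have hrp : r.Prime := Fact.out
  haveI : NeZero r := ⟨hrp.ne_zero⟩
  set N := Subgroup.normalizer ((R : Subgroup G) : Set G)
  obtain ⟨k, hk⟩ := IsPGroup.iff_card.1 hO
  have hdisj : O ⊓ (R : Subgroup G) = ⊥ := by
    refine Subgroup.inf_eq_bot_of_coprime ?_
    rw [hk, hR]
    exact ((Nat.coprime_primes Nat.prime_two hrp).2 (Ne.symm hr)).pow_left k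
  have hON : O ⊓ N = ⊥ := by
    refine le_bot_iff.1 (le_trans (le_inf inf_le_left ?_) hC.le)
    rintro n ⟨hnO, hnN⟩ x hx
    have h1 : n * x * n⁻¹ * x⁻¹ ∈ O ⊓ (R : Subgroup G) := by
      refine Subgroup.mem_inf.2 ⟨?_, mul_mem ((Subgroup.mem_normalizer_iff.1 hnN x).1 hx) (inv_mem hx)⟩
      rw [mul_assoc, mul_assoc]
      refine mul_mem hnO ?_
      rw [← mul_assoc]
      exact (inferInstance : O.Normal).conj_mem _ (inv_mem hnO) x
    rw [hdisj, Subgroup.mem_bot] at h1
    calc x * n = (n * x * n⁻¹ * x⁻¹)⁻¹ * (n * x) := by group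
      _ = n * x := by rw [h1, inv_one, one_mul]
  refine ⟨fun d => ?_, hON⟩
  -- the Frattini argument in `O R`
  set M := ((R : Subgroup G).map φ).comap φ with hM
  have hRmap : Nat.card ↥((R : Subgroup G).map φ) = r := by
    have e : Function.Injective (φ.comp (R : Subgroup G).subtype) := by
      rw [injective_iff_map_eq_one]
      intro x hx
      have : (x : G) ∈ O ⊓ (R : Subgroup G) := ⟨hker ▸ hx, x.2⟩
      rw [hdisj, Subgroup.mem_bot] at this
      exact Subtype.ext this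
    have h := Nat.card_congr (MonoidHom.ofInjective e).toEquiv
    rw [MonoidHom.range_comp, Subgroup.range_subtype] at h
    exact h.symm.trans hR
  haveI : ((R : Subgroup G).map φ).Normal := by
    refine Subgroup.normal_of_index_eq_two ?_
    have h1 := Subgroup.card_mul_index ((R : Subgroup G).map φ)
    rw [hRmap, DihedralGroup.nat_card] at h1
    exact Nat.eq_of_mul_eq_mul_left hrp.pos (by linarith)
  haveI : M.Normal := Subgroup.Normal.comap inferInstance φ
  have hF : N ⊔ M = ⊤ := Sylow.normalizer_sup_eq_top' R (Subgroup.le_comap_map _ _)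
  obtain ⟨g, rfl⟩ := hφ d
  obtain ⟨n, hn, m, hm, rfl⟩ := Subgroup.mem_sup_of_normal_right.1 (hF.ge (Subgroup.mem_top g))
  obtain ⟨x, hx, hxm⟩ := hm
  exact ⟨n * x, mul_mem hn (Subgroup.le_normalizer hx), by rw [map_mul, hxm, map_mul]⟩

/-- Two involutions with distinct images lie in one conjugate by `O` of `N(R)`. -/
theorem exists_conj_pair (R : Sylow r G)
    (hC : O ⊓ Subgroup.centralizer ((R : Subgroup G) : Set G) = ⊥) {b b' : G}
    (hb : orderOf b = 2) (hb' : orderOf b' = 2) (i j : ZMod r) (hi : φ b = sr i)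
    (hj : φ b' = sr j) (hne : i ≠ j) :
    ∃ o ∈ O, o⁻¹ * b * o ∈ Subgroup.normalizer ((R : Subgroup G) : Set G) ∧
      o⁻¹ * b' * o ∈ Subgroup.normalizer ((R : Subgroup G) : Set G) := by
  have hrp : r.Prime := Fact.out
  have hR := card_sylow hφ hker hO hr R
  set y := b * b' with hy
  have hd : r ∣ orderOf y := by
    have := orderOf_map_dvd φ y
    rwa [hy, map_mul, hi, hj, orderOf_sr_mul_sr hne] at this
  set x := y ^ (orderOf y / r) with hx
  have hxo : orderOf x = r := by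
    rw [hx, orderOf_pow_orderOf_div (orderOf_pos y).ne' hd]
  have hxp : IsPGroup r ↥(Subgroup.zpowers x) :=
    IsPGroup.of_card (n := 1) (by rw [Nat.card_zpowers, hxo, pow_one])
  obtain ⟨R', hR'⟩ := hxp.exists_le_sylow
  have hR'eq : Subgroup.zpowers x = (R' : Subgroup G) := Subgroup.eq_of_le_of_card_ge hR'
    (by rw [Nat.card_zpowers, hxo]; exact (card_sylow hφ hker hO hr R').le)
  obtain ⟨g, hg⟩ := MulAction.exists_smul_eq G R R'
  obtain ⟨n, hn, hng⟩ := (structure_normalizer hφ hker hO R hC hR hr).1 (φ g)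
  set o := g * n⁻¹ with ho
  have hoO : o ∈ O := by
    rw [← hker, MonoidHom.mem_ker, ho, map_mul, map_inv, hng, mul_inv_cancel]
  have hmem : ∀ t : G, t ∈ (R' : Subgroup G) ↔ o⁻¹ * t * o ∈ (R : Subgroup G) := by
    intro t
    rw [← hg, Sylow.coe_subgroup_smul, Subgroup.mem_pointwise_smul_iff_inv_smul_mem, ← map_inv,
      MulAut.smul_def, MulAut.conj_apply, inv_inv]
    have := Subgroup.mem_normalizer_iff.1 hn (g⁻¹ * t * g)
    rw [this]
    have e : o⁻¹ * t * o = n * (g⁻¹ * t * g) * n⁻¹ := by rw [ho]; group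
    rw [e]
  have key : ∀ c : G, c * y * c⁻¹ = y⁻¹ → orderOf c = 2 →
      o⁻¹ * c * o ∈ Subgroup.normalizer ((R : Subgroup G) : Set G) := by
    intro c hcy hc
    have h1 : ∀ t ∈ (R' : Subgroup G), c * t * c⁻¹ ∈ (R' : Subgroup G) := by
      rw [← hR'eq]
      intro t ht
      obtain ⟨k, rfl⟩ := Subgroup.mem_zpowers_iff.1 ht
      rw [← conj_zpow, hx, ← conj_pow, hcy, inv_pow, inv_zpow]
      exact inv_mem (zpow_mem (Subgroup.mem_zpowers _) k)
    refine Coprime.mem_normalizer_of_forall fun t ht => ?_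
    have h2 := h1 (o * t * o⁻¹) ((hmem _).2 (by
      have : o⁻¹ * (o * t * o⁻¹) * o = t := by group
      rw [this]; exact ht))
    rw [hmem] at h2
    have e : o⁻¹ * c * o * t * (o⁻¹ * c * o)⁻¹ = o⁻¹ * (c * (o * t * o⁻¹) * c⁻¹) * o := by group
    rw [e]
    exact h2
  have hinv : ∀ c : G, orderOf c = 2 → c⁻¹ = c := fun c hc => by
    rw [inv_eq_iff_mul_eq_one, ← pow_two, ← hc, pow_orderOf_eq_one]
  refine ⟨o, hoO, key b ?_ hb, key b' ?_ hb'⟩
  · rw [hy, mul_inv_rev, hinv b hb, hinv b' hb']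
    calc b * (b * b') * b = b * b * b' * b := by group
      _ = b' * b := by
        rw [show b * b = 1 by rw [← pow_two, ← hb, pow_orderOf_eq_one], one_mul]
  · rw [hy, mul_inv_rev, hinv b hb, hinv b' hb']
    calc b' * (b * b') * b' = b' * b * (b' * b') := by group
      _ = b' * b := by
        rw [show b' * b' = 1 by rw [← pow_two, ← hb', pow_orderOf_eq_one], mul_one]

theorem main (R : Sylow r G)
    (hC : O ⊓ Subgroup.centralizer ((R : Subgroup G) : Set G) = ⊥) :
    Nonempty (↥(Subgroup.normalizer ((R : Subgroup G) : Set G)) ≃* DihedralGroup r) ∧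
    ∀ a : G, a ∈ Subgroup.normalizer ((R : Subgroup G) : Set G) → orderOf a = 2 →
      (∀ b : G, orderOf b = 2 → b ∉ O → ∃ g : G, g * a * g⁻¹ = b) ∧
      Nat.card ↥(O ⊓ Subgroup.centralizer ({a} : Set G)) ^ 2 = Nat.card ↥O := by
  have hrp : r.Prime := Fact.out
  haveI : NeZero r := ⟨hrp.ne_zero⟩
  obtain ⟨hsurj, hON⟩ := structure_normalizer hφ hker hO R hC (card_sylow hφ hker hO hr R) hr
  set N := Subgroup.normalizer ((R : Subgroup G) : Set G)
  have huniq : ∀ n ∈ N, ∀ n' ∈ N, φ n = φ n' → n = n' := fun n hn n' hn' h => by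
    have : n⁻¹ * n' ∈ O ⊓ N := Subgroup.mem_inf.2 ⟨by rw [← hker, MonoidHom.mem_ker, map_mul, map_inv, h,
      inv_mul_cancel], mul_mem (inv_mem hn) hn'⟩
    rw [hON, Subgroup.mem_bot, inv_mul_eq_one] at this
    exact this
  refine ⟨⟨MulEquiv.ofBijective (φ.comp N.subtype) ⟨fun x y h => Subtype.ext (huniq x x.2 y y.2 h),
    fun d => let ⟨n, hn, e⟩ := hsurj d; ⟨⟨n, hn⟩, e⟩⟩⟩, fun a ha hao => ?_⟩
  have himg : ∀ b : G, orderOf b = 2 → b ∉ O → ∃ i, φ b = sr i := by
    intro b hb hbO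
    refine exists_sr_of_orderOf_two hr (orderOf_eq_prime ?_ fun h => hbO (hker ▸ h))
    rw [← map_pow, ← hb, pow_orderOf_eq_one, map_one]
  have haO : a ∉ O := fun h => by
    have : a ∈ O ⊓ N := ⟨h, ha⟩
    rw [hON, Subgroup.mem_bot] at this
    rw [this, orderOf_one] at hao
    omega
  obtain ⟨i, hi⟩ := himg a hao haO
  have hNord : ∀ n ∈ N, ∀ j, φ n = sr j → orderOf n = 2 := by
    intro n hn j hj
    refine orderOf_eq_prime (huniq _ (pow_mem hn 2) _ (one_mem _) ?_) fun h => ?_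
    · rw [map_pow, hj, map_one, pow_two, sr_mul_self]
    · rw [h, map_one, one_def] at hj
      cases hj
  have hconjN : ∀ n ∈ N, ∀ j, φ n = sr j → ∃ m ∈ N, m * a * m⁻¹ = n := by
    intro n hn j hj
    obtain ⟨d, hd⟩ := sr_conj hr i j
    obtain ⟨m, hm, rfl⟩ := hsurj d
    refine ⟨m, hm, huniq _ (mul_mem (mul_mem hm ha) (inv_mem hm)) _ hn ?_⟩
    rw [map_mul, map_mul, map_inv, hi, hj, hd]
  refine ⟨fun b hb hbO => ?_, ?_⟩
  · obtain ⟨j, hj⟩ := himg b hb hbO
    obtain ⟨a', ha', hja⟩ := hsurj (sr (j + 1))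
    obtain ⟨o, ho, h1, -⟩ := exists_conj_pair hφ hker hO hr R hC hb (hNord a' ha' _ hja) j (j + 1)
      hj hja (fun h => one_ne_zero (left_eq_add.1 h))
    have e : φ (o⁻¹ * b * o) = sr j := by
      rw [map_mul, map_mul, map_inv, (MonoidHom.mem_ker).1 (hker ▸ ho : o ∈ φ.ker), hj, inv_one,
        one_mul, mul_one]
    obtain ⟨m, hm, hme⟩ := hconjN _ h1 j e
    refine ⟨o * m, ?_⟩
    calc o * m * a * (o * m)⁻¹ = o * (m * a * m⁻¹) * o⁻¹ := by group
      _ = b := by rw [hme]; group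
  obtain ⟨a', ha', hj⟩ := hsurj (sr (i + 1))
  have hne : i ≠ i + 1 := fun h => one_ne_zero (left_eq_add.1 h)
  have ha'o := hNord a' ha' _ hj
  -- the `O`-class of an involution
  let I := fun c : G => {b : G // orderOf b = 2 ∧ φ b = φ c}
  have hconj : ∀ c o : G, orderOf c = 2 → o ∈ O →
      orderOf (o * c * o⁻¹) = 2 ∧ φ (o * c * o⁻¹) = φ c := fun c o hc ho => by
    refine ⟨?_, ?_⟩
    · rw [← MulAut.conj_apply, MulEquiv.orderOf_eq, hc]
    · rw [map_mul, map_mul, map_inv, (MonoidHom.mem_ker).1 (hker ▸ ho : o ∈ φ.ker), inv_one,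
        one_mul, mul_one]
  -- `C_O(a) ∩ C_O(a') = 1`
  have hgen : O ⊓ Subgroup.centralizer ({a} : Set G) ⊓ Subgroup.centralizer ({a'} : Set G) = ⊥ := by
    refine le_bot_iff.1 fun o ho => hON.le ⟨ho.1.1, ?_⟩
    -- `o` commutes with `a a'`, a generator of `R`
    refine Subgroup.centralizer_le_normalizer _ ?_
    have h1 : Commute o (a * a') :=
      (show Commute o a from Subgroup.mem_centralizer_singleton_iff.1 ho.1.2).mul_right
        (Subgroup.mem_centralizer_singleton_iff.1 ho.2)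
    intro x hx
    have hxo : orderOf (φ x) ∣ r := by
      refine (orderOf_map_dvd φ x).trans ?_
      have h2 := orderOf_dvd_natCard (⟨x, hx⟩ : ↥(R : Subgroup G))
      rwa [Subgroup.orderOf_mk, card_sylow hφ hker hO hr R] at h2
    obtain ⟨d, hd⟩ : ∃ d : ZMod r, φ x = DihedralGroup.r d := by
      match h : φ x, hxo with
      | .r d, _ => exact ⟨d, rfl⟩
      | .sr d, hxo =>
        rw [orderOf_sr] at hxo
        exact absurd ((Nat.prime_dvd_prime_iff_eq Nat.prime_two hrp).1 hxo).symm hr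
    have e : φ ((a * a') ^ d.val) = φ x := by
      rw [map_pow, map_mul, hi, hj, sr_mul_sr, r_pow, hd]
      congr 1
      rw [add_sub_cancel_left, one_mul, ZMod.natCast_val, ZMod.cast_id', id_eq]
    have h3 := huniq _ (pow_mem (mul_mem ha ha') _) _ (Subgroup.le_normalizer hx) e
    rw [← h3]
    exact (h1.pow_right _).eq.symm
  let F : ↥O → I a × I a' := fun o =>
    (⟨(o : G) * a * (o : G)⁻¹, hconj a o hao o.2⟩, ⟨(o : G) * a' * (o : G)⁻¹, hconj a' o ha'o o.2⟩)
  have hF : Function.Bijective F := by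
    constructor
    · intro o o' h
      have h1 : (o : G) * a * (o : G)⁻¹ = o' * a * (o' : G)⁻¹ := congrArg (fun t => (t.1 : G)) (Prod.ext_iff.1 h).1
      have h2 : (o : G) * a' * (o : G)⁻¹ = o' * a' * (o' : G)⁻¹ := congrArg (fun t => (t.1 : G)) (Prod.ext_iff.1 h).2
      have h3 : ∀ c : G, (o : G) * c * (o : G)⁻¹ = o' * c * (o' : G)⁻¹ →
          (o' : G)⁻¹ * o ∈ Subgroup.centralizer ({c} : Set G) := fun c hc => by
        rw [Subgroup.mem_centralizer_singleton_iff]
        calc (o' : G)⁻¹ * o * c = (o' : G)⁻¹ * (o * c * (o : G)⁻¹) * o := by group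
          _ = (o' : G)⁻¹ * (o' * c * (o' : G)⁻¹) * o := by rw [hc]
          _ = c * ((o' : G)⁻¹ * o) := by group
      have h4 : (o' : G)⁻¹ * o ∈ (⊥ : Subgroup G) :=
        hgen ▸ Subgroup.mem_inf.2 ⟨Subgroup.mem_inf.2 ⟨mul_mem (inv_mem o'.2) o.2, h3 a h1⟩, h3 a' h2⟩
      rw [Subgroup.mem_bot, inv_mul_eq_one] at h4
      exact Subtype.ext h4.symm
    · rintro ⟨⟨b, hb, hbi⟩, ⟨b', hb', hbj⟩⟩
      obtain ⟨o, ho, h1, h2⟩ := exists_conj_pair hφ hker hO hr R hC hb hb' i (i + 1)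
        (hbi.trans hi) (hbj.trans hj) hne
      have hφo : φ o = 1 := (MonoidHom.mem_ker).1 (hker ▸ ho : o ∈ φ.ker)
      have e1 : o⁻¹ * b * o = a := huniq _ h1 _ ha (by
        rw [map_mul, map_mul, map_inv, hφo, hbi, inv_one, one_mul, mul_one])
      have e2 : o⁻¹ * b' * o = a' := huniq _ h2 _ ha' (by
        rw [map_mul, map_mul, map_inv, hφo, hbj, inv_one, one_mul, mul_one])
      exact ⟨⟨o, ho⟩, Prod.ext (Subtype.ext (by show o * a * o⁻¹ = b; rw [← e1]; group))
        (Subtype.ext (by show o * a' * o⁻¹ = b'; rw [← e2]; group))⟩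
  have hIC : ∀ c : G, orderOf c = 2 → (∀ b : I c, ∃ o ∈ O, o * c * o⁻¹ = b.1) →
      Nat.card (I c) * Nat.card ↥(O ⊓ Subgroup.centralizer ({c} : Set G)) = Nat.card ↥O := by
    intro c hc hsur
    choose s hsO hs using hsur
    have hfix : ∀ k : ↥(O ⊓ Subgroup.centralizer ({c} : Set G)), (k : G) * c * (k : G)⁻¹ = c :=
      fun k => by rw [Subgroup.mem_centralizer_singleton_iff.1 k.2.2, mul_inv_cancel_right]
    rw [← Nat.card_prod]
    refine (Nat.card_eq_of_bijective (fun x : I c × ↥(O ⊓ Subgroup.centralizer ({c} : Set G)) =>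
      (⟨s x.1 * (x.2 : G), mul_mem (hsO _) x.2.2.1⟩ : ↥O)) ⟨?_, ?_⟩)
    · rintro ⟨b, k⟩ ⟨b', k'⟩ h
      have h1 : s b * (k : G) = s b' * (k' : G) := congrArg Subtype.val h
      have h2 : b = b' := by
        apply Subtype.ext
        have h3 := congrArg (fun t => t * c * t⁻¹) h1
        calc b.1 = s b * (k : G) * c * (s b * (k : G))⁻¹ := by
              conv_lhs => rw [← hs b, ← hfix k]
              group
          _ = s b' * (k' : G) * c * (s b' * (k' : G))⁻¹ := h3
          _ = b'.1 := by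
              conv_rhs => rw [← hs b', ← hfix k']
              group
      subst h2
      exact Prod.ext rfl (Subtype.ext (mul_left_cancel h1))
    · intro o
      let b : I c := ⟨(o : G) * c * (o : G)⁻¹, hconj c o hc o.2⟩
      have hk : (s b)⁻¹ * (o : G) ∈ O ⊓ Subgroup.centralizer ({c} : Set G) := by
        refine Subgroup.mem_inf.2 ⟨mul_mem (inv_mem (hsO b)) o.2, ?_⟩
        rw [Subgroup.mem_centralizer_singleton_iff]
        calc (s b)⁻¹ * (o : G) * c = (s b)⁻¹ * b.1 * o := by show _ = _ * ((o : G) * c * (o : G)⁻¹) * _; group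
          _ = (s b)⁻¹ * (s b * c * (s b)⁻¹) * o := by rw [hs b]
          _ = c * ((s b)⁻¹ * o) := by group
      exact ⟨(b, ⟨_, hk⟩), Subtype.ext (mul_inv_cancel_left _ _)⟩
  have hsa : ∀ b : I a, ∃ o ∈ O, o * a * o⁻¹ = b.1 := fun b => by
    obtain ⟨o, ho⟩ := hF.2 (b, ⟨a', ha'o, rfl⟩)
    exact ⟨o, o.2, congrArg (fun t => (t.1.1 : G)) ho⟩
  have hsa' : ∀ b : I a', ∃ o ∈ O, o * a' * o⁻¹ = b.1 := fun b => by
    obtain ⟨o, ho⟩ := hF.2 (⟨a, hao, rfl⟩, b)
    exact ⟨o, o.2, congrArg (fun t => (t.2.1 : G)) ho⟩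
  have hcard : Nat.card ↥O = Nat.card (I a) * Nat.card (I a') := by
    rw [← Nat.card_prod]; exact Nat.card_eq_of_bijective F hF
  have h1 := hIC a hao hsa
  have h2 := hIC a' ha'o hsa'
  obtain ⟨m, hm, hma⟩ := hconjN a' ha' _ hj
  have hcc : Nat.card ↥(O ⊓ Subgroup.centralizer ({a'} : Set G)) =
      Nat.card ↥(O ⊓ Subgroup.centralizer ({a} : Set G)) := by
    have : O ⊓ Subgroup.centralizer ({a'} : Set G) =
        (O ⊓ Subgroup.centralizer ({a} : Set G)).map (MulAut.conj m).toMonoidHom := by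
      ext u
      rw [Subgroup.mem_map_equiv, MulAut.conj_symm_apply, Subgroup.mem_inf, Subgroup.mem_inf,
        Subgroup.mem_centralizer_singleton_iff, Subgroup.mem_centralizer_singleton_iff, ← hma]
      constructor
      · rintro ⟨hu, hc⟩
        refine ⟨by simpa using (inferInstance : O.Normal).conj_mem u hu m⁻¹, ?_⟩
        calc m⁻¹ * u * m * a = m⁻¹ * (u * (m * a * m⁻¹)) * m := by group
          _ = m⁻¹ * (m * a * m⁻¹ * u) * m := by rw [hc]
          _ = a * (m⁻¹ * u * m) := by group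
      · rintro ⟨hu, hc⟩
        refine ⟨by have := (inferInstance : O.Normal).conj_mem _ hu m; simpa [mul_assoc] using this, ?_⟩
        calc u * (m * a * m⁻¹) = m * (m⁻¹ * u * m * a) * m⁻¹ := by group
          _ = m * (a * (m⁻¹ * u * m)) * m⁻¹ := by rw [hc]
          _ = m * a * m⁻¹ * u := by group
    rw [this]
    exact Subgroup.card_map_of_injective (MulAut.conj m).injective
  rw [hcc] at h2
  refine Nat.eq_of_mul_eq_mul_left (Nat.card_pos (α := ↥O)) ?_
  calc Nat.card ↥O * Nat.card ↥(O ⊓ Subgroup.centralizer ({a} : Set G)) ^ 2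
      = (Nat.card (I a) * Nat.card ↥(O ⊓ Subgroup.centralizer ({a} : Set G))) *
        (Nat.card (I a') * Nat.card ↥(O ⊓ Subgroup.centralizer ({a} : Set G))) := by
        conv_lhs => rw [hcard]
        ring
    _ = Nat.card ↥O * Nat.card ↥O := by rw [h1, h2]

end

/-- Let G be a finite group and r an odd prime such that G ⧸ O₂(G) is dihedral of order 2r, and let R be a Sylow r-subgroup of G with C_{O₂(G)}(R) = 1. Then N_G(R) is dihedral of order 2r; for any involution a of N_G(R), every involution of G outside O₂(G) is conjugate to a; and |C_{O₂(G)}(a)|² = |O₂(G)|. -/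
theorem result {G : Type*} [Group G] [Finite G] {r : ℕ} [Fact r.Prime] (hr : r ≠ 2) [hN : (Cfsg.pCore 2 G).Normal] (hquot : Nonempty (G ⧸ Cfsg.pCore 2 G ≃* DihedralGroup r)) (R : Sylow r G) (hC : Cfsg.pCore 2 G ⊓ Subgroup.centralizer ((R : Subgroup G) : Set G) = ⊥) : Nonempty (↥(Subgroup.normalizer ((R : Subgroup G) : Set G)) ≃* DihedralGroup r) ∧ ∀ a : G, a ∈ Subgroup.normalizer ((R : Subgroup G) : Set G) → orderOf a = 2 → (∀ b : G, orderOf b = 2 → b ∉ Cfsg.pCore 2 G → ∃ g : G, g * a * g⁻¹ = b) ∧ Nat.card ↥(Cfsg.pCore 2 G ⊓ Subgroup.centralizer ({a} : Set G)) ^ 2 = Nat.card ↥(Cfsg.pCore 2 G) := by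
  obtain ⟨e⟩ := hquot
  refine main (φ := e.toMonoidHom.comp (QuotientGroup.mk' (Cfsg.pCore 2 G)))
    (e.surjective.comp (QuotientGroup.mk'_surjective _)) ?_ (Cores.isPGroup_pCore 2 G) hr R hC
  ext g
  simp [MonoidHom.mem_ker]

end Cfsg.Agent.S2873
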