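import Cfsg.Statements.S2874
import Cfsg.Agent.EqLemmas

set_option autoImplicit false
open Cfsg
open scoped Pointwise

namespace Cfsg.Agent.S2874

section

/-- In a ring with `ω² + ω + 1 = 0` and `3` invertible, a fours group rotated by `ω` is `1 + x`
with `2 x = 0` and `x ω = ω² x`. -/
theorem ring_key {A : Type*} [Ring A] (ω v t : A) (hω : ω * ω + ω + 1 = 0)
    (ht : 3 * t = 1) (htc : ∀ x, t * x = x * t) (h1 : v * v = 1)
    (h2 : v * (ω * v * (ω * ω)) = ω * ω * v * ω) (h3 : ω * v * (ω * ω) * v = ω * ω * v * ω) :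
    (v - 1) + (v - 1) = 0 ∧ (v - 1) * ω = ω * ω * (v - 1) := by
  have hw : ω * ω = -ω - 1 := by linear_combination (norm := abel) hω
  have hw3 : ω * (ω * ω) = 1 := by
    calc ω * (ω * ω) = ω * (-ω - 1) := by rw [hw]
      _ = -(ω * ω) - ω := by noncomm_ring
      _ = 1 := by rw [hw]; abel
  have hw3' : ω * ω * ω = 1 := by rw [mul_assoc]; exact hw3
  set d := ω - ω * ω with hd
  set b := -t * (d * (ω * v - v * ω)) with hb
  set a := v - b with ha
  have hdd : d * d = -3 := by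
    rw [hd, hw]
    calc (ω - (-ω - 1)) * (ω - (-ω - 1)) = 4 * (ω * ω) + 4 * ω + 1 := by noncomm_ring
      _ = -3 := by rw [hw, show (4 : A) = 1 + 1 + 1 + 1 by norm_num, show (3 : A) = 1 + 1 + 1 by norm_num]; noncomm_ring
  have hdu : ∀ x : A, d * x = 0 → x = 0 := by
    intro x hx
    have h0 : d * d * x = 0 := by rw [mul_assoc, hx, mul_zero]
    rw [hdd, neg_mul, neg_eq_zero] at h0
    calc x = 3 * t * x := by rw [ht, one_mul]
      _ = t * (3 * x) := by rw [← mul_assoc, htc 3]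
      _ = 0 := by rw [h0, mul_zero]
  have hbω : b * ω = ω * ω * b := by
    have e : d * (ω * v - v * ω) * ω = ω * ω * (d * (ω * v - v * ω)) := by
      rw [hd]
      calc (ω - ω * ω) * (ω * v - v * ω) * ω
          = ω * ω * v * ω - (ω * ω * ω) * v * ω - ω * v * (ω * ω) + ω * ω * v * (ω * ω) := by noncomm_ring
        _ = ω * ω * v * ω - v * ω - ω * v * (ω * ω) + ω * ω * v * (ω * ω) := by rw [hw3', one_mul]
        _ = (-ω - 1) * v * ω - v * ω - ω * v * (-ω - 1) + (-ω - 1) * v * (-ω - 1) := by rw [hw]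
        _ = ω * v - v * ω - (-ω - 1) * v + ω * v * ω := by noncomm_ring
        _ = (ω * ω * ω) * ω * v - (ω * ω * ω) * (v * ω) - (ω * ω * ω) * (ω * ω) * v
              + (ω * ω * ω) * ω * (v * ω) := by
            simp only [hw3', one_mul]
            rw [hw]
            noncomm_ring
        _ = ω * ω * ((ω - ω * ω) * (ω * v - v * ω)) := by noncomm_ring
    calc b * ω = -t * (d * (ω * v - v * ω) * ω) := by rw [hb]; noncomm_ring
      _ = -t * (ω * ω * (d * (ω * v - v * ω))) := by rw [e]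
      _ = -(t * (ω * ω)) * (d * (ω * v - v * ω)) := by noncomm_ring
      _ = -((ω * ω) * t) * (d * (ω * v - v * ω)) := by rw [htc]
      _ = _ := by rw [hb]; noncomm_ring
  have haω : a * ω = ω * a := by
    have e : ω * b - b * ω = ω * v - v * ω := by
      rw [hbω, ← sub_mul, hb, ← mul_assoc, ← mul_assoc, show (ω - ω * ω) * -t = -t * d by
        rw [← hd, neg_mul, mul_neg, htc], mul_assoc (-t) d d, hdd]
      rw [show -t * -3 = (1 : A) by rw [neg_mul_neg, htc, ht], one_mul]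
    rw [ha, sub_mul, mul_sub]
    linear_combination (norm := abel) e
  have haω' : ω * ω * a = a * (ω * ω) := by rw [mul_assoc, ← haω, ← mul_assoc, ← haω, mul_assoc]
  have split : ∀ P Q : A, P * ω = ω * P → Q * ω = ω * ω * Q → P + Q = 0 → P = 0 ∧ Q = 0 := by
    intro P Q hP hQ hPQ
    have hPQ' : P = -Q := eq_neg_of_add_eq_zero_left hPQ
    have h0 : d * Q = 0 := by
      rw [hPQ', neg_mul, mul_neg, hQ, neg_inj] at hP
      rw [hd, sub_mul, ← hP, sub_self]
    have hQ0 := hdu Q h0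
    exact ⟨by rw [hPQ', hQ0, neg_zero], hQ0⟩
  have hv : v = a + b := by rw [ha, sub_add_cancel]
  have hbw2 : b * (ω * ω) = ω * b := by
    calc b * (ω * ω) = (b * ω) * ω := (mul_assoc b ω ω).symm
      _ = ω * ω * (b * ω) := by rw [← mul_assoc (ω * ω) b ω, ← hbω]
      _ = (ω * ω * ω) * ω * b := by rw [hbω]; noncomm_ring
      _ = ω * b := by rw [hw3', one_mul]
  have w1 : ω * v * (ω * ω) = a + ω * ω * b := by
    calc ω * v * (ω * ω) = ω * a * (ω * ω) + ω * (b * (ω * ω)) := by rw [hv]; noncomm_ring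
      _ = a * (ω * (ω * ω)) + ω * (ω * b) := by rw [← haω, hbw2, mul_assoc]
      _ = a + ω * ω * b := by rw [hw3, mul_one, ← mul_assoc]
  have w2 : ω * ω * v * ω = a + ω * b := by
    calc ω * ω * v * ω = ω * ω * a * ω + ω * ω * (b * ω) := by rw [hv]; noncomm_ring
      _ = a * (ω * ω * ω) + (ω * ω * ω) * (ω * b) := by rw [haω', hbω]; noncomm_ring
      _ = a + ω * b := by rw [hw3', mul_one, one_mul]
  rw [w1, w2, hv] at h2
  rw [w1, w2, hv] at h3
  rw [hv] at h1
  have haa : a * a * ω = ω * (a * a) := by rw [mul_assoc, haω, ← mul_assoc, haω, mul_assoc]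
  have hbb : b * b * ω = ω * (b * b) := by
    rw [mul_assoc, hbω, ← mul_assoc, hbw2, mul_assoc]
  have hab : a * b * ω = ω * ω * (a * b) := by
    rw [mul_assoc, hbω, ← mul_assoc, ← haω', mul_assoc]
  have hba : b * a * ω = ω * ω * (b * a) := by
    rw [mul_assoc, haω, ← mul_assoc, hbω, mul_assoc]
  obtain ⟨e1, e1'⟩ := split (a * a + b * b - 1) (a * b + b * a)
    (by simp only [sub_mul, add_mul, mul_sub, mul_add, haa, hbb, one_mul, mul_one])
    (by simp only [add_mul, mul_add, hab, hba])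
    (by linear_combination (norm := noncomm_ring) h1)
  obtain ⟨e2, -⟩ := split (a * a + ω * (b * b) - a) (ω * ω * (a * b) + b * a - ω * b)
    (by rw [sub_mul, add_mul, haa, mul_assoc ω, hbb, haω]; noncomm_ring)
    (by rw [sub_mul, add_mul, mul_assoc (ω * ω), hab, hba, mul_assoc ω b, hbω]; noncomm_ring)
    (by
      have e : b * (ω * ω * b) = ω * (b * b) := by rw [← mul_assoc, hbw2, mul_assoc]
      have e' : a * (ω * ω * b) = ω * ω * (a * b) := by rw [← mul_assoc, ← haω', mul_assoc]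
      rw [add_mul, mul_add, mul_add, e, e'] at h2
      linear_combination (norm := noncomm_ring) h2)
  obtain ⟨e3, -⟩ := split (a * a + ω * ω * (b * b) - a) (a * b + ω * ω * (b * a) - ω * b)
    (by
      rw [sub_mul, add_mul, haa, mul_assoc (ω * ω), hbb, haω]; noncomm_ring)
    (by rw [sub_mul, add_mul, mul_assoc (ω * ω), hab, hba, mul_assoc ω b, hbω]; noncomm_ring)
    (by linear_combination (norm := noncomm_ring) h3)
  have hb2 : b * b = 0 := hdu _ (by rw [hd]; linear_combination (norm := noncomm_ring) e2 - e3)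
  rw [hb2, add_zero, sub_eq_zero] at e1
  rw [hb2, mul_zero, add_zero, sub_eq_zero, e1] at e2
  have hb1 : v - 1 = b := by rw [hv, ← e2]; abel
  rw [hb1]
  rw [← e2, one_mul, mul_one] at e1'
  exact ⟨e1', hbω⟩

variable (k : ℕ)

/-- The standard element of order three. -/
def omegaMat : Matrix (Fin 2) (Fin 2) (ZMod (2 ^ k)) := !![0, -1; 1, -1]

theorem omega_rel : omegaMat k * omegaMat k + omegaMat k + 1 = 0 := by
  ext i j
  fin_cases i <;> fin_cases j <;> simp [omegaMat, Matrix.mul_apply]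

theorem omega_cube : omegaMat k * (omegaMat k * omegaMat k) = 1 := by
  have h := omega_rel k
  have hw : omegaMat k * omegaMat k = -omegaMat k - 1 := by linear_combination (norm := abel) h
  rw [hw, mul_sub, mul_neg, hw]; simp

/-- `ω` as a unit. -/
def omegaGL : GL (Fin 2) (ZMod (2 ^ k)) :=
  ⟨omegaMat k, omegaMat k * omegaMat k, omega_cube k, by rw [mul_assoc]; exact omega_cube k⟩

/-- The swap as a unit. -/
def swapGL : GL (Fin 2) (ZMod (2 ^ k)) :=
  ⟨!![0, 1; 1, 0], !![0, 1; 1, 0], by ext i j; fin_cases i <;> fin_cases j <;> simp [Matrix.mul_apply],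
    by ext i j; fin_cases i <;> fin_cases j <;> simp [Matrix.mul_apply]⟩

theorem swap_omega : swapGL k * omegaGL k * (swapGL k)⁻¹ = omegaGL k * omegaGL k := by
  refine Units.ext ?_
  show !![0, 1; 1, 0] * omegaMat k * !![0, 1; 1, 0] = omegaMat k * omegaMat k
  ext i j
  fin_cases i <;> fin_cases j <;> simp [omegaMat, Matrix.mul_apply]

theorem omegaGL_pow : omegaGL k ^ 3 = 1 := by
  refine Units.ext ?_
  rw [pow_succ', pow_two]
  exact omega_cube k

/-- The possible `v - 1`. -/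
def XSet : Set (Matrix (Fin 2) (Fin 2) (ZMod (2 ^ k))) :=
  {x | x + x = 0 ∧ x * omegaMat k = omegaMat k * omegaMat k * x}

theorem two_torsion (hk : 2 ≤ k) (p : ZMod (2 ^ k)) (hp : p + p = 0) :
    p = 0 ∨ p = ((2 ^ (k - 1) : ℕ) : ZMod (2 ^ k)) := by
  haveI : NeZero (2 ^ k) := ⟨by positivity⟩
  have h2 : ((p.val + p.val : ℕ) : ZMod (2 ^ k)) = 0 := by
    rw [Nat.cast_add, ZMod.natCast_zmod_val, hp]
  rw [ZMod.natCast_eq_zero_iff] at h2
  have hlt := ZMod.val_lt p
  have hpow : 2 ^ k = 2 * 2 ^ (k - 1) := by rw [← pow_succ']; congr 1; omega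
  obtain ⟨c, hc⟩ := h2
  have hc' : c < 2 := by
    by_contra h
    have := Nat.mul_le_mul_left (2 ^ k) (not_lt.mp h)
    omega
  interval_cases c
  · left; rw [← ZMod.natCast_zmod_val p, show p.val = 0 by omega, Nat.cast_zero]
  · right; rw [← ZMod.natCast_zmod_val p, show p.val = 2 ^ (k - 1) by omega]

theorem card_XSet (hk : 2 ≤ k) : (XSet k).ncard ≤ 4 := by
  classical
  set c : ZMod (2 ^ k) := ((2 ^ (k - 1) : ℕ) : ZMod (2 ^ k))
  set f : Bool × Bool → Matrix (Fin 2) (Fin 2) (ZMod (2 ^ k)) := fun b =>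
    let p := if b.1 then c else 0
    let r := if b.2 then c else 0
    !![p, r - p; r, -p]
  have hsub : XSet k ⊆ Set.range f := by
    rintro x ⟨hx2, hxω⟩
    have e00 := congrFun (congrFun hxω 0) 0
    have e10 := congrFun (congrFun hxω 1) 0
    simp [omegaMat, Matrix.mul_apply] at e00 e10
    have hp := two_torsion k hk _ (congrFun (congrFun hx2 0) 0)
    have hr := two_torsion k hk _ (congrFun (congrFun hx2 1) 0)
    refine ⟨(decide (x 0 0 ≠ 0), decide (x 1 0 ≠ 0)), ?_⟩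
    have hp' : (if decide (x 0 0 ≠ 0) then c else 0) = x 0 0 := by
      by_cases h : x 0 0 = 0
      · simp [h]
      · simp [h]; exact (hp.resolve_left h).symm
    have hr' : (if decide (x 1 0 ≠ 0) then c else 0) = x 1 0 := by
      by_cases h : x 1 0 = 0
      · simp [h]
      · simp [h]; exact (hr.resolve_left h).symm
    show !![_, _; _, _] = x
    simp only [hp', hr']
    ext i j
    fin_cases i <;> fin_cases j
    · rfl
    · show x 1 0 - x 0 0 = x 0 1; linear_combination -e00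
    · rfl
    · show -x 0 0 = x 1 1; linear_combination -e10
  calc (XSet k).ncard ≤ (Set.range f).ncard := Set.ncard_le_ncard hsub (Set.toFinite _)
    _ = Nat.card (Set.range f) := rfl
    _ ≤ Nat.card (Bool × Bool) :=
      Nat.card_le_card_of_surjective (Set.rangeFactorization f) Set.rangeFactorization_surjective
    _ = 4 := by simp

theorem pow_sub_one_mem {A : Type*} [Ring A] (y : A) :
    ∀ n : ℕ, ∃ z, (1 + 2 * y) ^ 2 ^ n = 1 + 2 ^ (n + 1) * z
  | 0 => ⟨y, by simp⟩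
  | n + 1 => by
    obtain ⟨z, hz⟩ := pow_sub_one_mem y n
    refine ⟨z + 2 ^ n * (z * z), ?_⟩
    rw [pow_succ 2 n, pow_mul, hz, pow_two]
    have e : ∀ w : A, z * (2 ^ (n + 1) * w) = 2 ^ (n + 1) * (z * w) := fun w => by
      rw [← mul_assoc, ← ((Nat.cast_ofNat (n := 2) : ((2 : ℕ) : A) = 2)), ← Nat.cast_pow,
        ← (Nat.cast_commute (2 ^ (n + 1)) z).eq, mul_assoc]
    calc (1 + 2 ^ (n + 1) * z) * (1 + 2 ^ (n + 1) * z)
        = 1 + 2 * (2 ^ (n + 1) * z) + 2 ^ (n + 1) * (z * (2 ^ (n + 1) * z)) := by noncomm_ring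
      _ = 1 + 2 ^ (n + 1 + 1) * z + 2 ^ (n + 1) * (2 ^ (n + 1) * (z * z)) := by
          rw [e, pow_succ' 2 (n + 1), mul_assoc]
      _ = _ := by
          rw [mul_add, ← mul_assoc (2 ^ (n + 1)) (2 ^ (n + 1)), ← mul_assoc (2 ^ (n + 1 + 1)) (2 ^ n), ← pow_add, ← pow_add,
            show n + 1 + (n + 1) = n + 1 + 1 + n by omega, add_assoc]

theorem not_nine_dvd (hk : 2 ≤ k) : ¬ 9 ∣ Nat.card (GL (Fin 2) (ZMod (2 ^ k))) := by
  haveI : Fact (Nat.Prime 2) := ⟨Nat.prime_two⟩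
  haveI : NeZero (2 ^ k) := ⟨by positivity⟩
  let φ : ZMod (2 ^ k) →+* ZMod 2 := ZMod.castHom (dvd_pow_self 2 (by omega)) (ZMod 2)
  let π : GL (Fin 2) (ZMod (2 ^ k)) →* GL (Fin 2) (ZMod 2) := Matrix.GeneralLinearGroup.map φ
  have hker : IsPGroup 2 π.ker := by
    rintro ⟨g, hg⟩
    have h0 : ∀ x : ZMod (2 ^ k), φ x = 0 → ∃ y, x = 2 * y := fun x hx => by
      rw [← ZMod.natCast_zmod_val x, map_natCast, ZMod.natCast_eq_zero_iff] at hx
      obtain ⟨c, hc⟩ := hx
      exact ⟨c, by rw [← ZMod.natCast_zmod_val x, hc]; push_cast; ring⟩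
    choose y hy using fun i j : Fin 2 =>
      h0 ((g : Matrix (Fin 2) (Fin 2) (ZMod (2 ^ k))) i j - (1 : Matrix (Fin 2) (Fin 2) _) i j) (by
        have hval : ((π g : GL (Fin 2) (ZMod 2)) : Matrix (Fin 2) (Fin 2) (ZMod 2)) = 1 := by
          rw [MonoidHom.mem_ker.mp hg]; rfl
        have := congrFun (congrFun hval i) j
        have h1 : φ ((g : Matrix (Fin 2) (Fin 2) (ZMod (2 ^ k))) i j) = (1 : Matrix (Fin 2) (Fin 2) (ZMod 2)) i j := this
        rw [map_sub, h1, Matrix.one_apply, Matrix.one_apply]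
        split_ifs <;> simp)
    obtain ⟨z, hz⟩ := pow_sub_one_mem (Matrix.of y) k
    refine ⟨k, Subtype.ext (Units.ext ?_)⟩
    have hg' : (g : Matrix (Fin 2) (Fin 2) (ZMod (2 ^ k))) = 1 + 2 * Matrix.of y := by
      ext i j
      rw [two_mul, Matrix.add_apply, Matrix.add_apply, Matrix.of_apply, ← two_mul, ← hy]
      ring
    show ((g ^ 2 ^ k : GL (Fin 2) (ZMod (2 ^ k))) : Matrix (Fin 2) (Fin 2) (ZMod (2 ^ k))) = 1
    rw [Units.val_pow_eq_pow_val, hg', hz, pow_succ, ← Nat.cast_ofNat (R := Matrix (Fin 2) (Fin 2) (ZMod (2 ^ k))) (n := 2),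
      ← Nat.cast_pow, show ((2 ^ k : ℕ) : Matrix (Fin 2) (Fin 2) (ZMod (2 ^ k))) = 0 by
        rw [← map_natCast (Matrix.scalar (Fin 2)), ZMod.natCast_self, map_zero]]
    simp
  obtain ⟨a, ha⟩ := IsPGroup.iff_card.mp hker
  have h6 : Nat.card (GL (Fin 2) (ZMod 2)) = 6 := by
    rw [Matrix.card_GL_field]; simp [Fin.prod_univ_two]
  have hdvd : Nat.card (GL (Fin 2) (ZMod (2 ^ k))) ∣ 2 ^ a * 6 := by
    rw [← π.ker.card_mul_index, ha, Subgroup.index_ker]
    exact Nat.mul_dvd_mul_left _ (h6 ▸ Subgroup.card_subgroup_dvd_card π.range)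
  intro h9
  have h := h9.trans hdvd
  rw [show 2 ^ a * 6 = (2 ^ a * 2) * 3 by ring, show (9 : ℕ) = 3 * 3 by rfl,
    Nat.mul_dvd_mul_iff_right (by norm_num : 0 < 3), ← pow_succ] at h
  have := Nat.prime_three.dvd_of_dvd_pow h
  omega

theorem a4_facts : ∃ s v : alternatingGroup (Fin 4), orderOf s = 3 ∧ v * v = 1 ∧ v ≠ 1 ∧
    (∀ g, ∃ i : Fin 3, g = s ^ i.val ∨ g = v * s ^ i.val ∨ g = (s * v * (s * s)) * s ^ i.val ∨
      g = (s * s * v * s) * s ^ i.val) ∧
    ∀ w : alternatingGroup (Fin 4), w * w = 1 → w ≠ 1 →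
      w * (s * w * (s * s)) = s * s * w * s ∧ s * w * (s * s) * w = s * s * w * s := by
  let s : alternatingGroup (Fin 4) := ⟨Equiv.swap 0 1 * Equiv.swap 1 2, Equiv.Perm.mem_alternatingGroup.mpr (by decide)⟩
  let v : alternatingGroup (Fin 4) := ⟨Equiv.swap 0 1 * Equiv.swap 2 3, Equiv.Perm.mem_alternatingGroup.mpr (by decide)⟩
  refine ⟨s, v, orderOf_eq_prime (p := 3) (hp := ⟨Nat.prime_three⟩) (by decide) (by decide),
    by decide, by decide, by decide, by decide +kernel⟩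

/-- The common shape of an `A₄` whose 3-element is `ω`. -/
theorem eq_closure {k : ℕ} (hk : 2 ≤ k) (e : alternatingGroup (Fin 4) →* GL (Fin 2) (ZMod (2 ^ k)))
    (he : Function.Injective e) {s v : alternatingGroup (Fin 4)}
    (hgen : ∀ g, ∃ i : Fin 3, g = s ^ i.val ∨ g = v * s ^ i.val ∨ g = (s * v * (s * s)) * s ^ i.val ∨
      g = (s * s * v * s) * s ^ i.val) (hvv : v * v = 1) (hv1 : v ≠ 1)
    (hrel : ∀ w : alternatingGroup (Fin 4), w * w = 1 → w ≠ 1 →
      w * (s * w * (s * s)) = s * s * w * s ∧ s * w * (s * s) * w = s * s * w * s)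
    (hs3 : orderOf s = 3) (hs : e s = omegaGL k) :
    e.range = Subgroup.closure ({omegaGL k} ∪
      {u | (u : Matrix (Fin 2) (Fin 2) (ZMod (2 ^ k))) - 1 ∈ XSet k}) := by
  classical
  haveI : NeZero (2 ^ k) := ⟨by positivity⟩
  have hsq : ∀ g : alternatingGroup (Fin 4), ∀ w : alternatingGroup (Fin 4), w * w = 1 →
      g * w * g⁻¹ * (g * w * g⁻¹) = 1 := fun g w hw => by rw [conj_mul, hw]; simp
  set m : alternatingGroup (Fin 4) → Matrix (Fin 2) (Fin 2) (ZMod (2 ^ k)) := fun g => (e g : _) with hm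
  have hmem : ∀ w : alternatingGroup (Fin 4), w * w = 1 → m w - 1 ∈ XSet k := by
    intro w hw
    rcases eq_or_ne w 1 with rfl | hw1
    · simp [hm, XSet]
    obtain ⟨r1, r2⟩ := hrel w hw hw1
    have hms : m s = omegaMat k := by simp only [hm]; rw [hs]; rfl
    have hmul : ∀ x y, m (x * y) = m x * m y := fun x y => by simp [hm]
    have q1 : m w * m w = 1 := by rw [← hmul, hw]; simp [hm]
    have q2 := congrArg m r1
    have q3 := congrArg m r2
    simp only [hmul, hms] at q2 q3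
    have h3 : IsUnit ((3 : ℕ) : ZMod (2 ^ k)) :=
      (ZMod.isUnit_iff_coprime 3 (2 ^ k)).mpr (Nat.Coprime.pow_right k (by norm_num))
    obtain ⟨t, ht⟩ := h3.exists_right_inv
    refine ring_key (omegaMat k) (m w) (Matrix.scalar (Fin 2) t) (omega_rel k) ?_ (fun x => ?_) q1 q2 q3
    · rw [show (3 : Matrix (Fin 2) (Fin 2) (ZMod (2 ^ k))) = Matrix.scalar (Fin 2) ((3 : ℕ) : ZMod (2 ^ k)) by
        rw [map_natCast]; norm_num, ← map_mul, ht, map_one]
    · exact (Matrix.scalar_commute t (fun _ => Commute.all _ _) x).eq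
  refine le_antisymm ?_ ((Subgroup.closure_le _).mpr ?_)
  · rintro _ ⟨g, rfl⟩
    have hω : omegaGL k ∈ Subgroup.closure ({omegaGL k} ∪
        {u : GL (Fin 2) (ZMod (2 ^ k)) | (u : Matrix (Fin 2) (Fin 2) (ZMod (2 ^ k))) - 1 ∈ XSet k}) :=
      Subgroup.subset_closure (Or.inl rfl)
    have hV : ∀ w : alternatingGroup (Fin 4), w * w = 1 →
        e w ∈ Subgroup.closure ({omegaGL k} ∪
          {u : GL (Fin 2) (ZMod (2 ^ k)) | (u : Matrix (Fin 2) (Fin 2) (ZMod (2 ^ k))) - 1 ∈ XSet k}) :=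
      fun w hw => Subgroup.subset_closure (Or.inr (hmem w hw))
    have hs2 : s * s = s⁻¹ := eq_inv_of_mul_eq_one_left (by
      rw [← pow_three', ← hs3]; exact pow_orderOf_eq_one s)
    obtain ⟨i, hi | hi | hi | hi⟩ := hgen g <;> subst hi <;> simp only [map_mul, map_pow, hs]
    · exact pow_mem hω _
    · exact mul_mem (hV v hvv) (pow_mem hω _)
    · refine mul_mem ?_ (pow_mem hω _)
      have h := hV (s * v * s⁻¹) (hsq s v hvv)
      rw [← hs2, map_mul, map_mul, map_mul, hs] at h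
      exact h
    · refine mul_mem ?_ (pow_mem hω _)
      have h := hV (s⁻¹ * v * s⁻¹⁻¹) (hsq s⁻¹ v hvv)
      rw [inv_inv, ← hs2, map_mul, map_mul, map_mul, hs] at h
      exact h
  · rintro u (rfl | hu)
    · exact ⟨s, hs⟩
    have hW : Nat.card {w : alternatingGroup (Fin 4) // w * w = 1} = 4 := by
      rw [Nat.card_eq_fintype_card]; decide +kernel
    have hinj : Set.InjOn (fun w => m w - 1) {w : alternatingGroup (Fin 4) | w * w = 1} :=
      fun x _ y _ hxy => he (Units.ext (sub_left_inj.mp hxy))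
    have heq : (fun w => m w - 1) '' {w : alternatingGroup (Fin 4) | w * w = 1} = XSet k := by
      refine Set.eq_of_subset_of_ncard_le (by rintro _ ⟨w, hw, rfl⟩; exact hmem w hw) ?_ (Set.toFinite _)
      rw [Set.ncard_image_of_injOn hinj]
      exact (card_XSet k hk).trans hW.ge
    have hu' : (u : Matrix (Fin 2) (Fin 2) (ZMod (2 ^ k))) - 1 ∈ XSet k := hu
    rw [← heq] at hu'
    obtain ⟨w, -, hw⟩ := hu'
    exact ⟨w, Units.ext (sub_left_inj.mp hw)⟩

end

/-- For k ≥ 2, any two subgroups of GL₂(ℤ/2ᵏℤ) (the automorphism group of the homocyclic group ℤ/2ᵏ × ℤ/2ᵏ) that are isomorphic to the alternating group of degree 4 are conjugate. -/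
theorem result (k : ℕ) (hk : 2 ≤ k) (H₁ H₂ : Subgroup (GL (Fin 2) (ZMod (2 ^ k)))) (h₁ : Nonempty (↥H₁ ≃* ↥(alternatingGroup (Fin 4)))) (h₂ : Nonempty (↥H₂ ≃* ↥(alternatingGroup (Fin 4)))) : ∃ g : GL (Fin 2) (ZMod (2 ^ k)), H₂ = H₁.map (MulAut.conj g).toMonoidHom := by
  classical
  haveI : NeZero (2 ^ k) := ⟨by positivity⟩
  haveI : Fact (Nat.Prime 3) := ⟨Nat.prime_three⟩
  obtain ⟨s, v, hs3, hvv, hv1, hgen, hrel⟩ := a4_facts
  have hpow : ∀ n : ℕ, 2 ≤ n → ∀ e : alternatingGroup (Fin 4) →* GL (Fin 2) (ZMod (2 ^ k)),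
      Function.Injective e → ∃ g : GL (Fin 2) (ZMod (2 ^ k)),
        ((MulAut.conj g).toMonoidHom.comp e) s = omegaGL k := by
    intro _ _ e he
    have hcard : ∀ x : GL (Fin 2) (ZMod (2 ^ k)), orderOf x = 3 →
        Nat.card (Subgroup.zpowers x) = 3 ^ (Nat.card (GL (Fin 2) (ZMod (2 ^ k)))).factorization 3 := by
      intro x hx
      have h1 : 3 ∣ Nat.card (GL (Fin 2) (ZMod (2 ^ k))) := hx ▸ orderOf_dvd_natCard x
      have h2 : (Nat.card (GL (Fin 2) (ZMod (2 ^ k)))).factorization 3 = 1 := by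
        have hne : Nat.card (GL (Fin 2) (ZMod (2 ^ k))) ≠ 0 := Nat.card_pos.ne'
        have a := (Nat.Prime.dvd_iff_one_le_factorization Nat.prime_three hne).mp h1
        have b : ¬ 2 ≤ (Nat.card (GL (Fin 2) (ZMod (2 ^ k)))).factorization 3 := fun h =>
          not_nine_dvd k hk ((Nat.prime_three.pow_dvd_iff_le_factorization hne (k := 2)).mpr h)
        omega
      rw [Nat.card_zpowers, hx, h2, pow_one]
    have hω3 : orderOf (omegaGL k) = 3 := by
      refine orderOf_eq_prime (omegaGL_pow k) fun h => ?_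
      haveI : Fact (1 < 2 ^ k) := ⟨Nat.one_lt_two_pow (by omega)⟩
      have := congrArg (fun x : GL (Fin 2) (ZMod (2 ^ k)) => (x : Matrix (Fin 2) (Fin 2) (ZMod (2 ^ k))) 1 0) h
      simp [omegaGL, omegaMat] at this
    have hes : orderOf (e s) = 3 := by rw [orderOf_injective e he, hs3]
    obtain ⟨g, hg⟩ := MulAction.exists_smul_eq (GL (Fin 2) (ZMod (2 ^ k)))
      (Sylow.ofCard (Subgroup.zpowers (e s)) (hcard _ hes))
      (Sylow.ofCard (Subgroup.zpowers (omegaGL k)) (hcard _ hω3))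
    have hg' := congrArg (fun P : Sylow 3 _ => (P : Subgroup (GL (Fin 2) (ZMod (2 ^ k))))) hg
    have hmem : g * e s * g⁻¹ ∈ Subgroup.zpowers (omegaGL k) := by
      have h : MulAut.conj g • e s ∈ (MulAut.conj g • Subgroup.zpowers (e s) : Subgroup (GL (Fin 2) (ZMod (2 ^ k)))) :=
        Subgroup.smul_mem_pointwise_smul _ _ _ (Subgroup.mem_zpowers _)
      simp only [Sylow.coe_subgroup_smul, Sylow.coe_ofCard] at hg'
      rwa [hg', MulAut.smul_def, MulAut.conj_apply] at h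
    obtain ⟨j, hj⟩ := (IsOfFinOrder.mem_zpowers_iff_mem_range_orderOf (isOfFinOrder_of_finite _)).mp hmem |>
      Finset.mem_image.mp
    rw [Finset.mem_range, hω3] at hj
    have hne : g * e s * g⁻¹ ≠ 1 := by
      rw [Ne, conj_eq_one_iff]; intro h; rw [h, orderOf_one] at hes; omega
    obtain ⟨hj, hj'⟩ := hj
    interval_cases j
    · simp at hj'; exact absurd hj'.symm hne
    · exact ⟨g, by simpa using hj'.symm⟩
    · refine ⟨swapGL k * g, ?_⟩
      simp only [MonoidHom.coe_comp, Function.comp_apply, MulEquiv.coe_toMonoidHom, MulAut.conj_apply]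
      calc swapGL k * g * e s * (swapGL k * g)⁻¹ = swapGL k * (g * e s * g⁻¹) * (swapGL k)⁻¹ := by group
        _ = (swapGL k * omegaGL k * (swapGL k)⁻¹) * (swapGL k * omegaGL k * (swapGL k)⁻¹) := by
            rw [← hj', pow_two]; group
        _ = omegaGL k * omegaGL k ^ 3 := by rw [swap_omega, pow_succ, pow_two]; simp only [mul_assoc]
        _ = omegaGL k := by rw [omegaGL_pow, mul_one]
  obtain ⟨f₁⟩ := h₁
  obtain ⟨f₂⟩ := h₂
  have hr : ∀ (H : Subgroup (GL (Fin 2) (ZMod (2 ^ k)))) (f : H ≃* alternatingGroup (Fin 4)),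
      ∃ g : GL (Fin 2) (ZMod (2 ^ k)), H.map (MulAut.conj g).toMonoidHom =
        Subgroup.closure ({omegaGL k} ∪
          {u : GL (Fin 2) (ZMod (2 ^ k)) | (u : Matrix (Fin 2) (Fin 2) (ZMod (2 ^ k))) - 1 ∈ XSet k}) := by
    intro H f
    set e := H.subtype.comp f.symm.toMonoidHom with he'
    have he : Function.Injective e := H.subtype_injective.comp f.symm.injective
    obtain ⟨g, hg⟩ := hpow k hk e he
    refine ⟨g, ?_⟩
    rw [← eq_closure hk ((MulAut.conj g).toMonoidHom.comp e) ((MulAut.conj g).injective.comp he) hgen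
      hvv hv1 hrel hs3 hg, MonoidHom.range_comp, he', MonoidHom.range_comp]
    congr 1
    rw [MonoidHom.range_eq_top.mpr f.symm.surjective, ← MonoidHom.range_eq_map, Subgroup.range_subtype]
  obtain ⟨g₁, e₁⟩ := hr H₁ f₁
  obtain ⟨g₂, e₂⟩ := hr H₂ f₂
  refine ⟨g₂⁻¹ * g₁, ?_⟩
  ext x
  have hx := SetLike.ext_iff.mp (e₁.trans e₂.symm) (g₂ * x * g₂⁻¹)
  simp only [Subgroup.mem_map, MulEquiv.coe_toMonoidHom, MulAut.conj_apply] at hx ⊢
  constructor
  · intro hx2
    obtain ⟨y, hy, hy'⟩ := hx.mpr ⟨x, hx2, rfl⟩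
    refine ⟨y, hy, ?_⟩
    calc g₂⁻¹ * g₁ * y * (g₂⁻¹ * g₁)⁻¹ = g₂⁻¹ * (g₁ * y * g₁⁻¹) * g₂ := by group
      _ = x := by rw [hy']; group
  · rintro ⟨y, hy, rfl⟩
    obtain ⟨z, hz, hz'⟩ := hx.mp ⟨y, hy, by group⟩
    have : z = g₂⁻¹ * g₁ * y * (g₂⁻¹ * g₁)⁻¹ := mul_left_cancel (mul_right_cancel hz')
    exact this ▸ hz

end Cfsg.Agent.S2874
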