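import Cfsg.Statements.S2880
import Cfsg.Agent.Lib.PGroup.Basic

set_option autoImplicit false
open Cfsg

namespace Cfsg.Agent.S2880

variable {E : Type*} [Group E] [Finite E]

/-- For an abelian `A`: `|A| |C(A)| ≤ |A ∩ Z| |E|` when all commutators lie in a central subgroup of order 2. -/
theorem card_mul_centralizer_le (hc : ∀ x y : E, x * y * x⁻¹ * y⁻¹ ∈ Subgroup.center E)
    (hZ : Nat.card (Subgroup.center E) = 2) (A : Subgroup E) :
    Nat.card A * Nat.card (Subgroup.centralizer (A : Set E)) ≤
      Nat.card ↥(A ⊓ Subgroup.center E) * Nat.card E := by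
  classical
  set C : Subgroup E := Subgroup.centralizer (A : Set E) with hC
  have key : ∀ L : Subgroup E, C ≤ L →
      Nat.card A * Nat.card C ≤ Nat.card ↥(A ⊓ Subgroup.centralizer (L : Set E)) * Nat.card L →
      Nat.card A * Nat.card C ≤ Nat.card ↥(A ⊓ Subgroup.center E) * Nat.card E := by
    intro L
    induction L using WellFoundedGT.induction with
    | _ L ih =>
      intro hCL hL
      by_cases htop : L = ⊤
      · subst htop
        rw [Subgroup.coe_top, Subgroup.centralizer_univ, Subgroup.card_top] at hL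
        exact hL
      obtain ⟨y, -, hy⟩ := SetLike.exists_of_lt (lt_top_iff_ne_top.mpr htop)
      set L' : Subgroup E := L ⊔ Subgroup.zpowers y with hL'
      have hlt : L < L' := lt_of_le_of_ne le_sup_left fun h =>
        hy (h.symm ▸ le_sup_right (a := L) (Subgroup.mem_zpowers y))
      refine ih L' hlt (hCL.trans hlt.le) (hL.trans ?_)
      set AL : Subgroup E := A ⊓ Subgroup.centralizer (L : Set E) with hAL
      let φ : AL →* ↥(Subgroup.center E) :=
        MonoidHom.mk' (fun a => ⟨y * a * y⁻¹ * (a : E)⁻¹, hc y a⟩) (fun a b => by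
          apply Subtype.ext
          show y * ((a : E) * b) * y⁻¹ * ((a : E) * b)⁻¹ =
            y * a * y⁻¹ * (a : E)⁻¹ * (y * b * y⁻¹ * (b : E)⁻¹)
          have h := Subgroup.mem_center_iff.mp (hc y b) (a : E)
          calc y * ((a : E) * b) * y⁻¹ * ((a : E) * b)⁻¹
              = y * a * y⁻¹ * (y * b * y⁻¹ * (b : E)⁻¹) * (a : E)⁻¹ := by group
            _ = y * a * y⁻¹ * (a : E)⁻¹ * ((a : E) * (y * b * y⁻¹ * (b : E)⁻¹)) * (a : E)⁻¹ := by group
            _ = y * a * y⁻¹ * (a : E)⁻¹ * ((y * b * y⁻¹ * (b : E)⁻¹) * (a : E)) * (a : E)⁻¹ := by rw [h]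
            _ = _ := by group)
      have hker : φ.ker.map AL.subtype ≤ A ⊓ Subgroup.centralizer (L' : Set E) := by
        rintro _ ⟨a, ha, rfl⟩
        refine ⟨a.2.1, ?_⟩
        have hy' : y * (a : E) * y⁻¹ * (a : E)⁻¹ = 1 := congrArg Subtype.val (MonoidHom.mem_ker.mp ha)
        rw [mul_inv_eq_one, mul_inv_eq_iff_eq_mul] at hy'
        have h1 : L' ≤ Subgroup.centralizer ({(a : E)} : Set E) := sup_le (fun l hl =>
          Subgroup.mem_centralizer_singleton_iff.mpr (Subgroup.mem_centralizer_iff.mp a.2.2 l hl))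
          (Subgroup.zpowers_le.mpr (Subgroup.mem_centralizer_singleton_iff.mpr hy'))
        exact Subgroup.mem_centralizer_iff.mpr fun l hl =>
          Subgroup.mem_centralizer_singleton_iff.mp (h1 hl)
      have h1 : Nat.card φ.ker ≤ Nat.card ↥(A ⊓ Subgroup.centralizer (L' : Set E)) := by
        rw [Nat.card_congr (φ.ker.equivMapOfInjective _ AL.subtype_injective).toEquiv]
        exact Subgroup.card_le_of_le hker
      have h2 : Nat.card AL ≤ Nat.card φ.ker * 2 := by
        rw [← φ.ker.card_mul_index, Subgroup.index_ker, ← hZ]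
        exact Nat.mul_le_mul_left _ (Subgroup.card_le_card_group _)
      have h3 : 2 * Nat.card L ≤ Nat.card L' := by
        obtain ⟨k, hk⟩ := Subgroup.card_dvd_of_le hlt.le
        have hk1 : k ≠ 1 := fun h => hlt.ne (Subgroup.eq_of_le_of_card_ge hlt.le (by rw [hk, h, mul_one]))
        have hk0 : k ≠ 0 := fun h => (Nat.card_pos (α := L')).ne' (by rw [hk, h, mul_zero])
        rw [hk, mul_comm 2]
        exact Nat.mul_le_mul_left _ (by omega)
      calc Nat.card AL * Nat.card L ≤ Nat.card φ.ker * 2 * Nat.card L := Nat.mul_le_mul_right _ h2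
        _ ≤ Nat.card ↥(A ⊓ Subgroup.centralizer (L' : Set E)) * 2 * Nat.card L := by gcongr
        _ ≤ _ := by rw [mul_assoc]; exact Nat.mul_le_mul_left _ h3
  refine key C le_rfl (Nat.mul_le_mul_right _ ?_)
  refine Subgroup.card_le_of_le (le_inf le_rfl ?_)
  intro a ha
  rw [Subgroup.mem_centralizer_iff]
  intro c hc'
  exact (Subgroup.mem_centralizer_iff.mp hc' a ha).symm

/-- Let E be an extraspecial 2-group of order 2^(2m+1) of plus type, that is, containing an elementary abelian subgroup of order 2^(m+1) (equivalently, a central product of m dihedral groups of order 8). Then E has exactly 2^(2m) − 2^m elements of order 4. -/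
theorem result {E : Type*} [Group E] [Finite E] (m : ℕ) (hm : 1 ≤ m) (hE : Cfsg.IsExtraspecial 2 E) (hcard : Nat.card E = 2 ^ (2 * m + 1)) (hplus : ∃ A : Subgroup E, Cfsg.IsElementaryAbelian 2 A ∧ Nat.card A = 2 ^ (m + 1)) : Nat.card {x : E // orderOf x = 4} = 2 ^ (2 * m) - 2 ^ m := by
  classical
  obtain ⟨⟨hp, hfr, hcomm⟩, hZ⟩ := hE
  obtain ⟨A, ⟨hAab, hA2⟩, hAc⟩ := hplus
  have hcen : ∀ x y : E, x * y * x⁻¹ * y⁻¹ ∈ Subgroup.center E := fun x y =>
    hcomm ▸ Subgroup.commutator_mem_commutator (Subgroup.mem_top x) (Subgroup.mem_top y)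
  have hsq : ∀ x : E, x ^ 2 ∈ Subgroup.center E := fun x => hfr ▸ Cfsg.Agent.PGroup.pow_mem_frattini hp x
  have hZ2 : ∀ z ∈ Subgroup.center E, z ^ 2 = 1 := fun z hz => by
    have := pow_card_eq_one' (G := ↥(Subgroup.center E)) (x := ⟨z, hz⟩)
    rw [hZ] at this
    exact congrArg Subtype.val this
  set C : Subgroup E := Subgroup.centralizer (A : Set E) with hC
  have hAC : A ≤ C := fun a ha => Subgroup.mem_centralizer_iff.mpr fun b hb =>
    congrArg Subtype.val (hAab.is_comm.comm (⟨b, hb⟩ : A) ⟨a, ha⟩)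
  have hle := card_mul_centralizer_le hcen hZ A
  rw [hAc, hcard] at hle
  -- `C(A) = A`
  have hAZ : Nat.card ↥(A ⊓ Subgroup.center E) ≤ 2 := hZ ▸ Subgroup.card_le_of_le inf_le_right
  have hpow : (2 : ℕ) * 2 ^ (2 * m + 1) = 2 ^ (m + 1) * 2 ^ (m + 1) := by ring
  have hCA : C = A := by
    refine (Subgroup.eq_of_le_of_card_ge hAC ?_).symm
    rw [hAc]
    refine Nat.le_of_mul_le_mul_left ?_ (pow_pos (show (0:ℕ) < 2 by norm_num) (m + 1))
    calc 2 ^ (m + 1) * Nat.card C ≤ Nat.card ↥(A ⊓ Subgroup.center E) * 2 ^ (2 * m + 1) := hle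
      _ ≤ 2 * 2 ^ (2 * m + 1) := by gcongr
      _ = _ := hpow
  haveI : A.Normal := ⟨fun a ha x => by
    have hz : x * a * x⁻¹ * a⁻¹ ∈ A := by
      rw [← hCA]
      exact Subgroup.center_le_centralizer _ (hcen x a)
    simpa using A.mul_mem hz ha⟩
  -- squares along a coset of `A`
  have hsq' : ∀ x a : E, a ∈ A → (x * a) ^ 2 = x ^ 2 * (x⁻¹ * a * x * a⁻¹) := by
    intro x a ha
    have h1 : a⁻¹ = a := inv_eq_iff_mul_eq_one.mpr (by rw [← pow_two]; exact hA2 a ha)
    rw [h1, pow_two, pow_two]; group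
  haveI : Fintype E := Fintype.ofFinite E
  haveI : Fintype (E ⧸ A) := Fintype.ofFinite _
  have hcoset : ∀ q : E ⧸ A, (Finset.univ.filter fun y : E => (y : E ⧸ A) = q ∧ y ^ 2 ≠ 1).card * 2 =
      if q = ((1 : E) : E ⧸ A) then 0 else 2 ^ (m + 1) := by
    intro q
    induction q using QuotientGroup.induction_on with
    | H x =>
    split_ifs with hq
    · rw [Finset.filter_false_of_mem, Finset.card_empty, zero_mul]
      rintro y - ⟨hy, hy'⟩
      exact hy' (hA2 y ((QuotientGroup.eq_one_iff y).mp (hy.trans hq)))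
    · have hxA : x ∉ A := fun h => hq ((QuotientGroup.eq_one_iff x).mpr h)
      obtain ⟨a, haA, hax⟩ : ∃ a ∈ A, a * x ≠ x * a := by
        by_contra h
        push Not at h
        exact hxA (hCA ▸ Subgroup.mem_centralizer_iff.mpr h)
      have hflip : ∀ y : E, (y : E ⧸ A) = x → ((y * a) ^ 2 = 1 ↔ y ^ 2 ≠ 1) := by
        intro y hy
        set c := y⁻¹ * a * y * a⁻¹ with hcdef
        have hcZ : c ∈ Subgroup.center E := by simpa [hcdef] using hcen y⁻¹ a
        have hc1 : c ≠ 1 := by
          intro h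
          apply hax
          have h' : a * y = y * a := by
            rw [hcdef, mul_inv_eq_one, mul_assoc, inv_mul_eq_iff_eq_mul] at h
            exact h
          obtain ⟨b, hb, rfl⟩ : ∃ b ∈ A, x = y * b := ⟨y⁻¹ * x, QuotientGroup.eq.mp hy, by group⟩
          have hab : a * b = b * a := congrArg Subtype.val (hAab.is_comm.comm (⟨a, haA⟩ : A) ⟨b, hb⟩)
          calc a * (y * b) = a * y * b := by group
            _ = y * a * b := by rw [h']
            _ = y * (a * b) := by group
            _ = y * (b * a) := by rw [hab]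
            _ = _ := by group
        have two : ∀ u ∈ Subgroup.center E, u ≠ 1 → ∀ v ∈ Subgroup.center E, v ≠ 1 → u = v := by
          intro u hu hu1 v hv hv1
          obtain ⟨w, -, hw⟩ := Nat.card_eq_two_iff' (⟨1, one_mem _⟩ : ↥(Subgroup.center E)) |>.mp hZ
          exact congrArg Subtype.val ((hw ⟨u, hu⟩ (fun h => hu1 (congrArg Subtype.val h))).trans
            (hw ⟨v, hv⟩ (fun h => hv1 (congrArg Subtype.val h))).symm)
        rw [hsq' y a haA, ← hcdef]
        constructor
        · intro h h'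
          rw [h', one_mul] at h
          exact hc1 h
        · intro h
          rw [two _ (hsq y) h _ hcZ hc1, ← pow_two]
          exact hZ2 c hcZ
      have hmem : ∀ y : E, (y : E ⧸ A) = x → ((y * a : E) : E ⧸ A) = x := fun y hy => by
        rw [← hy, QuotientGroup.eq]; simpa using haA
      have hbij : (Finset.univ.filter fun y : E => (y : E ⧸ A) = x ∧ y ^ 2 ≠ 1).card =
          (Finset.univ.filter fun y : E => (y : E ⧸ A) = x ∧ y ^ 2 = 1).card := by
        refine Finset.card_bij' (fun y _ => y * a) (fun y _ => y * a) ?_ ?_ ?_ ?_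
        · intro y hy
          obtain ⟨h1, h2⟩ := (Finset.mem_filter.mp hy).2
          exact Finset.mem_filter.mpr ⟨Finset.mem_univ _, hmem y h1, (hflip y h1).mpr h2⟩
        · intro y hy
          obtain ⟨h1, h2⟩ := (Finset.mem_filter.mp hy).2
          exact Finset.mem_filter.mpr ⟨Finset.mem_univ _, hmem y h1, fun h => (hflip y h1).mp h h2⟩
        · intro y _
          simp only [mul_assoc, ← pow_two, hA2 a haA, mul_one]
        · intro y _
          simp only [mul_assoc, ← pow_two, hA2 a haA, mul_one]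
      have hsum : (Finset.univ.filter fun y : E => (y : E ⧸ A) = x).card = 2 ^ (m + 1) := by
        rw [← hAc, Nat.card_eq_fintype_card, ← Finset.card_univ]
        refine Finset.card_bij' (fun y hy => (⟨x⁻¹ * y, QuotientGroup.eq.mp (Finset.mem_filter.mp hy).2.symm⟩ : A))
          (fun (b : A) _ => x * b) ?_ ?_ ?_ ?_
        · exact fun _ _ => Finset.mem_univ _
        · intro b _
          refine Finset.mem_filter.mpr ⟨Finset.mem_univ _, ?_⟩
          rw [QuotientGroup.eq]; simp [A.inv_mem b.2]
        · intro y _; simp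
        · intro b _; simp
      rw [← hsum, ← Finset.card_filter_add_card_filter_not
        (s := Finset.univ.filter fun y : E => (y : E ⧸ A) = x) (fun y => y ^ 2 = 1),
        Finset.filter_filter, Finset.filter_filter, mul_two]
      nth_rewrite 1 [hbij]
      rfl
  have h4 : ∀ x : E, orderOf x = 4 ↔ x ^ 2 ≠ 1 := by
    intro x
    constructor
    · intro h h'
      have := orderOf_dvd_of_pow_eq_one h'
      rw [h] at this; norm_num at this
    · intro h
      exact orderOf_eq_prime_pow (p := 2) (n := 1) (by simpa using h)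
        (by rw [show 2 ^ (1 + 1) = 2 * 2 from rfl, pow_mul]; exact hZ2 _ (hsq x))
  rw [Nat.card_eq_fintype_card, Fintype.card_subtype]
  simp only [h4]
  have htot : (Finset.univ.filter fun y : E => y ^ 2 ≠ 1).card = ∑ q : E ⧸ A,
      ((Finset.univ.filter fun y : E => y ^ 2 ≠ 1).filter fun y : E => (y : E ⧸ A) = q).card :=
    Finset.card_eq_sum_card_fiberwise (fun x _ => Finset.mem_univ _)
  simp only [Finset.filter_filter] at htot
  have hsum : (Finset.univ.filter fun y : E => y ^ 2 ≠ 1).card * 2 = (Fintype.card (E ⧸ A) - 1) * 2 ^ (m + 1) := by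
    rw [htot, Finset.sum_mul, Finset.sum_congr rfl (g := fun q : E ⧸ A =>
      if q = ((1 : E) : E ⧸ A) then 0 else 2 ^ (m + 1)) (fun q _ => by
        rw [← hcoset q]
        simp only [and_comm]), Finset.sum_ite, Finset.sum_const_zero, Finset.sum_const, zero_add,
      Finset.filter_ne', Finset.card_erase_of_mem (Finset.mem_univ _), Finset.card_univ, smul_eq_mul]
  have hq : Fintype.card (E ⧸ A) = 2 ^ m := by
    rw [← Nat.card_eq_fintype_card]
    have h := A.card_eq_card_quotient_mul_card_subgroup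
    rw [hcard, hAc, show 2 ^ (2 * m + 1) = 2 ^ m * 2 ^ (m + 1) by ring] at h
    exact (Nat.eq_of_mul_eq_mul_right (pow_pos (by norm_num) _) h).symm
  rw [hq] at hsum
  refine Nat.eq_of_mul_eq_mul_right (show 0 < 2 by norm_num) (hsum.trans ?_)
  rw [Nat.sub_mul, Nat.sub_mul, one_mul, ← pow_succ, ← pow_succ, ← pow_add]
  ring_nf

end Cfsg.Agent.S2880
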