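import Cfsg.Statements.S2881
import Cfsg.Agent.S2880

set_option autoImplicit false
open Cfsg

namespace Cfsg.Agent.S2881

/-- Let E be an extraspecial 2-group of order 2^(2m+1) of plus type (containing an elementary abelian subgroup of order 2^(m+1)), and let ω be an automorphism of E of order 5 whose fixed points are exactly the centre of E. Then m is divisible by 4. -/
theorem result {E : Type*} [Group E] [Finite E] (m : ℕ) (hm : 1 ≤ m) (hE : Cfsg.IsExtraspecial 2 E) (hcard : Nat.card E = 2 ^ (2 * m + 1)) (hplus : ∃ A : Subgroup E, Cfsg.IsElementaryAbelian 2 A ∧ Nat.card A = 2 ^ (m + 1)) (ω : E ≃* E) (hω : orderOf ω = 5) (hfix : ∀ x : E, ω x = x ↔ x ∈ Subgroup.center E) : 4 ∣ m := by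
  classical
  haveI : Fact (Nat.Prime 5) := ⟨by norm_num⟩
  have hZ := hE.2
  have h1 : ∀ x : E, orderOf (ω x) = orderOf x := fun x => ω.orderOf_eq x
  let f : Function.End {x : E // orderOf x = 4} := fun x => ⟨ω x, by rw [h1]; exact x.2⟩
  have hf : ∀ (n : ℕ) (x : {x : E // orderOf x = 4}), ((f ^ n) x : E) = (ω ^ n : MulAut E) x := by
    intro n
    induction n with
    | zero => intro x; rfl
    | succ n ih =>
      intro x
      rw [pow_succ', pow_succ']
      show ω ((f ^ n) x : E) = ω ((ω ^ n : MulAut E) x)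
      rw [ih]
  have h5 : f ^ 5 ^ 1 = 1 := by
    funext x
    apply Subtype.ext
    have hω5 : (ω : MulAut E) ^ 5 = 1 := by rw [← hω]; exact pow_orderOf_eq_one _
    rw [pow_one, hf, hω5]
    rfl
  haveI : Fintype {x : E // orderOf x = 4} := Fintype.ofFinite _
  haveI : IsEmpty f.fixedPoints := ⟨fun x => by
    have hx : ω (x : {x : E // orderOf x = 4}).1 = (x : {x : E // orderOf x = 4}).1 :=
      congrArg Subtype.val x.2
    have h := pow_card_eq_one' (G := ↥(Subgroup.center E)) (x := ⟨_, (hfix _).mp hx⟩)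
    rw [hZ] at h
    have h' := orderOf_dvd_of_pow_eq_one (congrArg Subtype.val h)
    rw [x.1.2] at h'
    norm_num at h'⟩
  have hmod := Equiv.Perm.card_fixedPoints_modEq h5
  rw [Fintype.card_eq_zero (α := f.fixedPoints), ← Nat.card_eq_fintype_card,
    S2880.result m hm hE hcard hplus] at hmod
  have h := Nat.modEq_zero_iff_dvd.mp hmod
  rw [show 2 ^ (2 * m) - 2 ^ m = 2 ^ m * (2 ^ m - 1) by rw [Nat.mul_sub, mul_one, ← pow_add, two_mul]] at h
  rcases (Nat.Prime.dvd_mul (by norm_num)).mp h with h | h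
  · exact absurd ((Nat.prime_dvd_prime_iff_eq (by norm_num) Nat.prime_two).mp
      (Nat.Prime.dvd_of_dvd_pow (by norm_num) h)) (by norm_num)
  · obtain ⟨q, r, hr, rfl⟩ : ∃ q r, r < 4 ∧ m = 4 * q + r := ⟨m / 4, m % 4, Nat.mod_lt _ (by norm_num), by omega⟩
    have hper : 2 ^ (4 * q + r) % 5 = 2 ^ r % 5 := by
      rw [pow_add, pow_mul, Nat.mul_mod, Nat.pow_mod]; simp
    have hpos : 0 < 2 ^ (4 * q + r) := pow_pos (by norm_num) _
    have hm5 : 2 ^ (4 * q + r) % 5 = 1 := by omega
    rw [hper] at hm5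
    interval_cases r <;> simp at hm5 ⊢

end Cfsg.Agent.S2881
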