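import Cfsg.Statements.S2896
import Cfsg.Agent.EqLemmas
import Cfsg.Agent.Lib.LocalCharP.Criteria

set_option autoImplicit false
open Cfsg

namespace Cfsg.Agent.S2896

/-- Let p be a prime dividing the order of the finite group G, S a Sylow p-subgroup of G and X a subgroup of S. (i) If some nontrivial element z of the centre of X has F*(C_G(z)) = O_p(C_G(z)), then F*(N_G(X)) = O_p(N_G(X)). (ii) G has parabolic characteristic p if and only if F*(C_G(z)) = O_p(C_G(z)) for every nontrivial z ∈ Ω₁(Z(S)). (iii) If F*(C_G(z)) = O_p(C_G(z)) for every element z of S of order p, then G has local characteristic p. -/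
theorem result {G : Type*} [Group G] [Finite G] {p : ℕ} [Fact p.Prime] (hdiv : p ∣ Nat.card G) (S : Sylow p G) (X : Subgroup G) (hX : X ≤ (S : Subgroup G)) : (∀ z : G, z ≠ 1 → z ∈ X → (∀ x ∈ X, x * z = z * x) → Cfsg.generalizedFittingSubgroup ↥(Subgroup.centralizer ({z} : Set G)) = Cfsg.pCore p ↥(Subgroup.centralizer ({z} : Set G)) → Cfsg.generalizedFittingSubgroup ↥(Subgroup.normalizer (X : Set G)) = Cfsg.pCore p ↥(Subgroup.normalizer (X : Set G))) ∧ (Cfsg.IsOfParabolicCharacteristic p G ↔ ∀ z : G, z ≠ 1 → z ∈ Cfsg.omegaOne p ((S : Subgroup G) ⊓ Subgroup.centralizer ((S : Subgroup G) : Set G)) → Cfsg.generalizedFittingSubgroup ↥(Subgroup.centralizer ({z} : Set G)) = Cfsg.pCore p ↥(Subgroup.centralizer ({z} : Set G))) ∧ ((∀ z : G, z ∈ (S : Subgroup G) → orderOf z = p → Cfsg.generalizedFittingSubgroup ↥(Subgroup.centralizer ({z} : Set G)) = Cfsg.pCore p ↥(Subgroup.centralizer ({z} : Set G))) → Cfsg.IsOfLocalCharacteristic p G) := by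
  refine ⟨fun z _ hz hc h => ?_, ⟨fun hG z hz1 hz => ?_, fun h => ?_⟩, fun h => ⟨hdiv, ?_⟩⟩
  · exact LocalCharP.hasCharP_iff_generalizedFitting.1 (LocalCharP.hasCharP_normalizer
      (S.2.to_le hX) hz hc (LocalCharP.hasCharP_iff_generalizedFitting.2 h))
  · exact LocalCharP.hasCharP_iff_generalizedFitting.1
      (LocalCharP.hasCharP_centralizer_of_parabolic hG S
        ((Subgroup.closure_le _).2 (fun _ hx => hx.1) hz) hz1)
  · exact LocalCharP.isOfParabolicCharacteristic_of_centralizers S fun z hz1 hz =>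
      LocalCharP.hasCharP_iff_generalizedFitting.2 (h z hz1 hz)
  · intro T hT hT1
    obtain ⟨z, hzT, hzo, -, hzc⟩ :=
      LocalCharP.exists_mem_omegaOne_center hT le_rfl Subgroup.le_normalizer hT1
    obtain ⟨U, hU⟩ := hT.exists_le_sylow
    obtain ⟨g, rfl⟩ := MulAction.exists_smul_eq G S U
    have hzS : g⁻¹ * z * g ∈ (S : Subgroup G) := by
      have h1 := hU hzT
      rw [Sylow.coe_subgroup_smul, Subgroup.mem_pointwise_smul_iff_inv_smul_mem, ← map_inv,
        MulAut.smul_def, MulAut.conj_apply, inv_inv] at h1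
      exact h1
    have e : g * (g⁻¹ * z * g) * g⁻¹ = z := by group
    have ho : orderOf (g⁻¹ * z * g) = p := by
      rw [show g⁻¹ * z * g = MulAut.conj g⁻¹ z by simp, MulEquiv.orderOf_eq]
      exact hzo
    have h2 := LocalCharP.hasCharP_centralizer_conj
      (LocalCharP.hasCharP_iff_generalizedFitting.2 (h _ hzS ho)) g
    rw [e] at h2
    exact LocalCharP.hasCharP_iff.1 (LocalCharP.hasCharP_normalizer hT hzT hzc h2)

end Cfsg.Agent.S2896
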