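import Cfsg.Statements.S2897
import Cfsg.Agent.EqLemmas
import Cfsg.Agent.Lib.LocalCharP.Criteria
import Cfsg.Agent.Lib.PReduced.Tools

set_option autoImplicit false
open Cfsg

namespace Cfsg.Agent.S2897

/-- Let p be a prime dividing the order of the finite group G, suppose G has parabolic characteristic p, let S be a Sylow p-subgroup of G and G₁ a normal subgroup of G. If Ω₁(Z(S ∩ G₁)) is nontrivial and contained in Ω₁(Z(S)), then G₁ has parabolic characteristic p. -/
theorem result {G : Type*} [Group G] [Finite G] {p : ℕ} [Fact p.Prime] (hdiv : p ∣ Nat.card G) (hG : Cfsg.IsOfParabolicCharacteristic p G) (S : Sylow p G) (G₁ : Subgroup G) [G₁.Normal] (hne : Cfsg.omegaOne p (((S : Subgroup G) ⊓ G₁) ⊓ Subgroup.centralizer (((S : Subgroup G) ⊓ G₁ : Subgroup G) : Set G)) ≠ ⊥) (hle : Cfsg.omegaOne p (((S : Subgroup G) ⊓ G₁) ⊓ Subgroup.centralizer (((S : Subgroup G) ⊓ G₁ : Subgroup G) : Set G)) ≤ Cfsg.omegaOne p ((S : Subgroup G) ⊓ Subgroup.centralizer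 ((S : Subgroup G) : Set G))) : Cfsg.IsOfParabolicCharacteristic p ↥G₁ := by
  obtain ⟨S₁, hS₁⟩ : ∃ S₁ : Sylow p ↥G₁, (S₁ : Subgroup ↥G₁) = (S : Subgroup G).subgroupOf G₁ :=
    ⟨PReduced.sylowOfSubnormal S (inferInstance : G₁.Normal).isSubnormal, rfl⟩
  refine LocalCharP.isOfParabolicCharacteristic_of_centralizers S₁ fun z hz1 hz => ?_
  have hzG : (z : G) ∈ Cfsg.omegaOne p (((S : Subgroup G) ⊓ G₁) ⊓
      Subgroup.centralizer (((S : Subgroup G) ⊓ G₁ : Subgroup G) : Set G)) := by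
    refine (Subgroup.closure_le (K := Subgroup.comap G₁.subtype (Cfsg.omegaOne p
      (((S : Subgroup G) ⊓ G₁) ⊓
        Subgroup.centralizer (((S : Subgroup G) ⊓ G₁ : Subgroup G) : Set G))))).2 ?_ hz
    rintro x ⟨⟨hxS, hxc⟩, hxp⟩
    refine Subgroup.subset_closure ⟨⟨⟨?_, x.2⟩, ?_⟩, ?_⟩
    · rw [hS₁] at hxS
      exact hxS
    · rintro y ⟨hyS, hyG⟩
      exact congrArg Subtype.val (hxc ⟨y, hyG⟩ (by rw [SetLike.mem_coe, hS₁]; exact hyS))
    · simpa using congrArg Subtype.val hxp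
  have hC := LocalCharP.hasCharP_centralizer_of_parabolic hG S
    ((Subgroup.closure_le _).2 (fun _ hx => hx.1) (hle hzG)) (fun h => hz1 (Subtype.ext h))
  have hD := hC.of_normal (Y := G₁ ⊓ Subgroup.centralizer ({(z : G)} : Set G)) inf_le_right
    ((le_inf (by rw [Subgroup.normalizer_eq_top]; exact le_top) Subgroup.le_normalizer).trans
      Subgroup.inf_normalizer_le_normalizer_inf)
  refine LocalCharP.HasCharP.of_map G₁.subtype G₁.subtype_injective ?_
  convert hD using 2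
  ext x
  constructor
  · rintro ⟨y, hy, rfl⟩
    exact ⟨y.2, Subgroup.mem_centralizer_singleton_iff.2
      (congrArg Subtype.val (Subgroup.mem_centralizer_singleton_iff.1 hy))⟩
  · rintro ⟨hxG, hxc⟩
    exact ⟨⟨x, hxG⟩, Subgroup.mem_centralizer_singleton_iff.2 (Subtype.ext
      (Subgroup.mem_centralizer_singleton_iff.1 hxc)), rfl⟩

end Cfsg.Agent.S2897
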