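import Cfsg.Statements.S2898
import Cfsg.Agent.EqLemmas
import Cfsg.Agent.Lib.LocalCharP.Criteria

set_option autoImplicit false
open Cfsg

namespace Cfsg.Agent.S2898

/-- Let G be a finite group of even order with parabolic characteristic 2. If the centre of G ⧸ O(G) is trivial, then O(G) = 1. -/
theorem result {G : Type*} [Group G] [Finite G] (h2 : 2 ∣ Nat.card G) (hG : Cfsg.IsOfParabolicCharacteristic 2 G) [hN : (Cfsg.oddCore G).Normal] (hZ : Subgroup.center (G ⧸ Cfsg.oddCore G) = ⊥) : Cfsg.oddCore G = ⊥ := by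
  set O := Cfsg.oddCore G with hOdef
  haveI : Fact (Nat.Prime 2) := ⟨Nat.prime_two⟩
  have hodd : ¬ 2 ∣ Nat.card ↥O := Cores.not_dvd_card_pPrimeCore
  by_contra hne
  obtain ⟨T⟩ := (inferInstance : Nonempty (Sylow 2 G))
  have hT1 : (T : Subgroup G) ≠ ⊥ := T.ne_bot_of_dvd_card h2
  have sq : ∀ z : G, orderOf z = 2 → z⁻¹ = z := fun z hz => by
    rw [inv_eq_iff_mul_eq_one, ← sq, ← hz, pow_orderOf_eq_one]
  -- a 2-central involution has no fixed point on the odd core, so inverts it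
  have key : ∀ z : G, orderOf z = 2 →
      LocalCharP.HasCharP 2 (Subgroup.centralizer ({z} : Set G)) →
      ∀ o ∈ O, z * o * z⁻¹ = o⁻¹ := by
    intro z hz hC o ho
    have hfix : ∀ x ∈ O, z * x = x * z → x = 1 := by
      intro x hxO hxz
      have hox : (orderOf x).Coprime 2 := by
        rw [Nat.coprime_comm, Nat.prime_two.coprime_iff_not_dvd]
        exact fun hd => hodd (hd.trans (by
          have := orderOf_dvd_natCard (⟨x, hxO⟩ : ↥O)
          rwa [Subgroup.orderOf_mk] at this))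
      refine hC.eq_one (Subgroup.mem_centralizer_singleton_iff.2 hxz.symm) ?_ hox
      intro q hq
      have hqC := LocalCharP.pCoreIn_le 2 _ hq
      have hxC : x ∈ Subgroup.centralizer ({z} : Set G) :=
        Subgroup.mem_centralizer_singleton_iff.2 hxz.symm
      have h1 : x * q * x⁻¹ * q⁻¹ ∈ LocalCharP.pCoreIn 2 (Subgroup.centralizer ({z} : Set G)) :=
        mul_mem ((Subgroup.mem_normalizer_iff.1 (LocalCharP.le_normalizer_pCoreIn 2 _ hxC) q).1 hq)
          (inv_mem hq)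
      have h2' : x * q * x⁻¹ * q⁻¹ ∈ O := by
        have h3 := hN.conj_mem _ (inv_mem hxO) q
        have e : x * q * x⁻¹ * q⁻¹ = x * (q * x⁻¹ * q⁻¹) := by group
        rw [e]; exact mul_mem hxO h3
      have h4 : x * q * x⁻¹ * q⁻¹ = 1 := LocalCharP.eq_one_of_coprime
        (LocalCharP.isPGroup_pCoreIn 2 _) h1 (by
          rw [Nat.coprime_comm, Nat.prime_two.coprime_iff_not_dvd]
          exact fun hd => hodd (hd.trans (by
            have := orderOf_dvd_natCard (⟨_, h2'⟩ : ↥O)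
            rwa [Subgroup.orderOf_mk] at this)))
      calc q * x = (x * q * x⁻¹ * q⁻¹)⁻¹ * (x * q) := by group
        _ = x * q := by rw [h4, inv_one, one_mul]
    have hzz : z * z = 1 := by rw [← _root_.sq, ← hz, pow_orderOf_eq_one]
    let f : ↥O → ↥O := fun x =>
      ⟨(x : G)⁻¹ * (z * x * z⁻¹), mul_mem (inv_mem x.2) (hN.conj_mem _ x.2 z)⟩
    have hinj : Function.Injective f := by
      intro x y hxy
      have h1 : (x : G)⁻¹ * (z * x * z⁻¹) = (y : G)⁻¹ * (z * y * z⁻¹) := congrArg Subtype.val hxy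
      have h2' : z * ((y : G) * (x : G)⁻¹) = (y : G) * (x : G)⁻¹ * z := by
        calc z * ((y : G) * (x : G)⁻¹) = z * y * z⁻¹ * (z * x * z⁻¹)⁻¹ * z := by group
          _ = (y : G) * ((y : G)⁻¹ * (z * y * z⁻¹)) * ((x : G) * ((x : G)⁻¹ * (z * x * z⁻¹)))⁻¹ * z := by
            group
          _ = (y : G) * (x : G)⁻¹ * z := by rw [h1]; group
      exact Subtype.ext (mul_inv_eq_one.1 (hfix _ (mul_mem y.2 (inv_mem x.2)) h2')).symm
    obtain ⟨x, hx⟩ := (Finite.injective_iff_surjective.1 hinj) ⟨o, ho⟩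
    have hx' : (x : G)⁻¹ * (z * x * z⁻¹) = o := congrArg Subtype.val hx
    rw [← hx', sq z hz]
    calc z * ((x : G)⁻¹ * (z * x * z)) * z = z * (x : G)⁻¹ * z * x * (z * z) := by group
      _ = z * (x : G)⁻¹ * z * x := by rw [hzz, mul_one]
      _ = ((x : G)⁻¹ * (z * x * z))⁻¹ := by
        rw [mul_inv_rev, mul_inv_rev, mul_inv_rev, sq z hz, inv_inv]; group
  obtain ⟨z, -, hzo, hzΩ, hzc⟩ :=
    LocalCharP.exists_mem_omegaOne_center T.2 le_rfl Subgroup.le_normalizer hT1
  have hz1 : z ≠ 1 := fun h => by rw [h, orderOf_one] at hzo; omega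
  have hCz := LocalCharP.hasCharP_centralizer_of_parabolic hG T
    ((Subgroup.closure_le _).2 (fun _ hx => hx.1) hzΩ) hz1
  set C := Subgroup.centralizer (O : Set G) with hCdef
  have hCO : C ≤ O := by
    have hTC : (T : Subgroup G) ⊓ C = ⊥ := by
      by_contra hb
      obtain ⟨w, hw, hwo, hwΩ, -⟩ := LocalCharP.exists_mem_omegaOne_center T.2 inf_le_left
        ((le_inf Subgroup.le_normalizer (by rw [Subgroup.normalizer_eq_top]; exact le_top)).trans
          Subgroup.inf_normalizer_le_normalizer_inf) hb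
      have hCw := LocalCharP.hasCharP_centralizer_of_parabolic hG T
        ((Subgroup.closure_le _).2 (fun _ hx => hx.1) hwΩ)
        (fun h => by rw [h, orderOf_one] at hwo; omega)
      obtain ⟨o, ho, ho1⟩ : ∃ o ∈ O, o ≠ 1 := by
        simpa using (Subgroup.ne_bot_iff_exists_ne_one.1 hne)
      have h1 := key w hwo hCw o ho
      rw [← Subgroup.mem_centralizer_iff.1 hw.2 o ho, mul_inv_cancel_right] at h1
      have h2' : o ^ 2 = 1 := by rw [pow_two]; nth_rw 2 [h1]; exact mul_inv_cancel o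
      have h3 : orderOf o ∣ 2 := orderOf_dvd_of_pow_eq_one h2'
      rcases (Nat.dvd_prime Nat.prime_two).1 h3 with h4 | h4
      · exact ho1 (orderOf_eq_one_iff.1 h4)
      · refine hodd ?_
        have h5 := orderOf_dvd_natCard (⟨o, ho⟩ : ↥O)
        rwa [Subgroup.orderOf_mk, h4] at h5
    refine Cores.le_pPrimeCore (inferInstance : C.Normal) (Nat.coprime_comm.1 (Nat.prime_two.coprime_iff_not_dvd.2 fun hd => ?_))
    obtain ⟨x, hx⟩ := exists_prime_orderOf_dvd_card' 2 hd
    obtain ⟨U, hU⟩ := (IsPGroup.of_card (p := 2) (n := 1)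
      (by rw [Nat.card_zpowers, pow_one, Subgroup.orderOf_coe, hx]) :
        IsPGroup 2 ↥(Subgroup.zpowers (x : G))).exists_le_sylow
    obtain ⟨g, rfl⟩ := MulAction.exists_smul_eq G T U
    have h1 := hU (Subgroup.mem_zpowers (x : G))
    rw [Sylow.coe_subgroup_smul, Subgroup.mem_pointwise_smul_iff_inv_smul_mem, ← map_inv,
      MulAut.smul_def, MulAut.conj_apply, inv_inv] at h1
    have h2' : g⁻¹ * (x : G) * g ∈ C := by
      simpa using (inferInstance : C.Normal).conj_mem _ x.2 g⁻¹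
    have h3 : g⁻¹ * (x : G) * g = 1 := Subgroup.mem_bot.1 (hTC ▸ ⟨h1, h2'⟩)
    have h4 : x = 1 := Subtype.ext (by
      calc (x : G) = g * (g⁻¹ * (x : G) * g) * g⁻¹ := by group
        _ = 1 := by rw [h3]; group)
    rw [h4, orderOf_one] at hx
    omega
  have hcen : (QuotientGroup.mk z : G ⧸ O) ∈ Subgroup.center (G ⧸ O) := by
    refine Subgroup.mem_center_iff.2 fun q => ?_
    obtain ⟨g, rfl⟩ := QuotientGroup.mk_surjective q
    rw [← QuotientGroup.mk_mul, ← QuotientGroup.mk_mul, QuotientGroup.eq]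
    refine hCO (Subgroup.mem_centralizer_iff.2 fun o ho => ?_)
    have hz' : orderOf (g⁻¹ * z * g) = 2 := by
      rw [show g⁻¹ * z * g = MulAut.conj g⁻¹ z by simp, MulEquiv.orderOf_eq]
      exact hzo
    have hC' : LocalCharP.HasCharP 2 (Subgroup.centralizer ({g⁻¹ * z * g} : Set G)) := by
      have := LocalCharP.hasCharP_centralizer_conj hCz g⁻¹
      rwa [inv_inv] at this
    have e : (g * z)⁻¹ * (z * g) = z * (g⁻¹ * z * g) := by
      rw [mul_inv_rev, sq z hzo]; group
    rw [e]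
    have a := key z hzo hCz o⁻¹ (inv_mem ho)
    have b := key _ hz' hC' o ho
    rw [inv_inv] at a
    calc o * (z * (g⁻¹ * z * g))
        = z * o⁻¹ * z⁻¹ * (z * (g⁻¹ * z * g)) := by rw [a]
      _ = z * (o⁻¹ * (g⁻¹ * z * g)) := by group
      _ = z * ((g⁻¹ * z * g) * o * (g⁻¹ * z * g)⁻¹ * (g⁻¹ * z * g)) := by rw [b]
      _ = z * (g⁻¹ * z * g) * o := by group
  rw [hZ, Subgroup.mem_bot, QuotientGroup.eq_one_iff] at hcen
  refine hodd ?_
  have h5 := orderOf_dvd_natCard (⟨z, hcen⟩ : ↥O)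
  rwa [Subgroup.orderOf_mk, hzo] at h5

end Cfsg.Agent.S2898
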