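import Cfsg.Statements.S2906
import Cfsg.Agent.EqLemmas
import Cfsg.Agent.Lib.PMinimal.Basic
import Cfsg.Agent.Lib.Components.GenFitting
import Cfsg.Agent.Lib.Components.Quasisimple
import Cfsg.Agent.Lib.PLocal.Action
import Cfsg.Agent.Lib.PLocal.Thompson

set_option autoImplicit false
open Cfsg

namespace Cfsg.Agent.S2906

/-- Let P be a finite p-minimal group with O_p(P) = 1, S a Sylow p-subgroup of P and K a component of P. Then O^p(P) = F*(P) = E(P) is generated by the S-conjugates of K, and the subgroup K·N_S(K) is again p-minimal. -/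
theorem result {P : Type*} [Group P] [Finite P] {p : ℕ} [Fact p.Prime] (hP : Cfsg.IsPMinimal p P) (hOp : Cfsg.pCore p P = ⊥) (S : Sylow p P) (K : Subgroup P) (hK : Cfsg.IsComponent K) : Cfsg.pResidual p P = Cfsg.generalizedFittingSubgroup P ∧ Cfsg.generalizedFittingSubgroup P = Cfsg.layer P ∧ Cfsg.layer P = ⨆ s : ↥(S : Subgroup P), K.map (MulAut.conj (s : P)).toMonoidHom ∧ Cfsg.IsPMinimal p ↥(K ⊔ ((S : Subgroup P) ⊓ Subgroup.normalizer (K : Set P))) := by
  have hpp : p.Prime := Fact.out
  obtain ⟨M, ⟨hM, hSM⟩, -⟩ := (hP S).2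
  have hsub : ∀ N : Subgroup P, N.IsSubnormal → N ≤ M → N ⊓ (S : Subgroup P) = ⊥ := fun N hN hNM =>
    le_bot_iff.1 (hOp ▸ PMinimal.inf_sylow_le_pCore S hM hSM hP N hN hNM)
  have hcoprime : ∀ N : Subgroup P, N.Normal → N ≤ M → (Nat.card ↥N).Coprime p := by
    intro N hN hNM
    have h1 := Cores.not_dvd_relIndex_of_isSubnormal S hN.isSubnormal
    rw [← Subgroup.inf_relIndex_right, inf_comm, hsub N hN.isSubnormal hNM,
      Subgroup.relIndex_bot_left] at h1
    exact Nat.coprime_comm.1 (hpp.coprime_iff_not_dvd.2 h1)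
  have hnoK : ∀ N : Subgroup P, Group.IsNilpotent ↥N → ¬ K ≤ N := fun N hN =>
    Components.IsComponent.not_le_of_isSolvable hK inferInstance
  have hnleM : ∀ N : Subgroup P, N.Normal → K ≤ N → ¬ N ≤ M := fun N hN hKN hNM =>
    hnoK N (PMinimal.isNilpotent_of_normal_coprime S hM hSM hP N (hcoprime N hN hNM)) hKN
  haveI : (Cfsg.pResidual p P).Normal := PReduced.pResidual_normal p P
  have hE : Cfsg.pResidual p P = Cfsg.layer P := by
    refine le_antisymm ((PMinimal.le_or_le S hM hSM hP _).resolve_right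
      (hnleM _ inferInstance (Components.IsComponent.le_layer hK))) ?_
    set π := QuotientGroup.mk' (Cfsg.pResidual p P)
    have hQ : IsPGroup p (P ⧸ Cfsg.pResidual p P) :=
      PIrred.isPGroup_quotient_of_sup S.2 (by rw [sup_comm]; exact PReduced.pResidual_sup_sylow S)
    have h1 : (Cfsg.layer P).map π = ⊥ := by
      refine Coprime.eq_bot_of_le_commutator le_rfl (hQ.to_subgroup _).isNilpotent ?_
      rw [← Subgroup.map_commutator, Components.layer_perfect]
    rwa [Subgroup.map_eq_bot_iff, QuotientGroup.ker_mk'] at h1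
  have hFE : Cfsg.fittingSubgroup P ≤ Cfsg.layer P := by
    rcases PMinimal.le_or_le S hM hSM hP (Cfsg.fittingSubgroup P) with h | h
    · exact absurd ((Components.IsComponent.le_layer hK).trans (hE ▸ h)) (hnoK _ inferInstance)
    · intro x hx
      rw [← hE]
      refine PIrred.mem_pResidual ((hcoprime _ inferInstance h).coprime_dvd_left ?_)
      have := orderOf_dvd_natCard (⟨x, hx⟩ : ↥(Cfsg.fittingSubgroup P))
      rwa [Subgroup.orderOf_mk] at this
  set X := ⨆ s : ↥(S : Subgroup P), K.map (MulAut.conj (s : P)).toMonoidHom with hX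
  have hcomp : ∀ s : ↥(S : Subgroup P), Cfsg.IsComponent (K.map (MulAut.conj (s : P)).toMonoidHom) :=
    fun s => Components.IsComponent.conj hK (s : P)
  have hXE : X ≤ Cfsg.layer P := iSup_le fun s => Components.IsComponent.le_layer (hcomp s)
  have hEX : Cfsg.layer P ≤ Subgroup.normalizer (X : Set P) :=
    PMinimal.le_normalizer_iSup _ fun s => Components.IsComponent.layer_le_normalizer (hcomp s)
  have hXn : X.Normal := by
    refine Subgroup.normalizer_eq_top_iff.1 (top_le_iff.1 ?_)
    rw [← PReduced.pResidual_sup_sylow (p := p) S, hE]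
    exact sup_le hEX (PMinimal.le_normalizer_iSup_conj _ _)
  haveI := hXn
  have hXeq : X = Cfsg.layer P := le_antisymm hXE (hE ▸ (PMinimal.le_or_le S hM hSM hP X).resolve_right
    (hnleM X hXn (PMinimal.le_iSup_conj _ _)))
  refine ⟨hE.trans (sup_eq_left.2 hFE).symm, sup_eq_left.2 hFE, hXeq.symm, ?_⟩
  -- `p` divides the order of `K`
  have hpK : p ∣ Nat.card ↥K := by
    by_contra h
    have h1 : X ≤ Cfsg.pPrimeCore p P := iSup_le fun s => by
      refine Cores.le_pPrimeCore_of_isSubnormal (hcomp s).1 ?_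
      rw [Subgroup.card_map_of_injective (MulAut.conj (s : P)).injective]
      exact Nat.coprime_comm.1 (hpp.coprime_iff_not_dvd.2 h)
    exact hnoK _ (PMinimal.isNilpotent_of_normal_coprime S hM hSM hP (Cfsg.pPrimeCore p P)
      (Cores.coprime_card_pPrimeCore p)) ((PMinimal.le_iSup_conj _ _).trans h1)
  have hKM : ¬ K ≤ M := by
    intro hKM
    refine hnleM X hXn (PMinimal.le_iSup_conj _ _) (iSup_le fun s => ?_)
    rintro _ ⟨x, hx, rfl⟩
    exact mul_mem (mul_mem (hSM s.2) (hKM hx)) (inv_mem (hSM s.2))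
  set D := (S : Subgroup P) ⊓ Subgroup.normalizer (K : Set P) with hD
  have hDK : D ≤ Subgroup.normalizer (K : Set P) := inf_le_right
  have hKS : K ⊓ D = K ⊓ (S : Subgroup P) := by
    refine le_antisymm (inf_le_inf_left _ inf_le_left) fun x hx => ⟨hx.1, hx.2, ?_⟩
    exact Subgroup.le_normalizer hx.1
  have hrel : ¬ p ∣ D.relIndex K := by
    rw [← Subgroup.inf_relIndex_right, inf_comm, hKS, inf_comm, Subgroup.inf_relIndex_right]
    exact Cores.not_dvd_relIndex_of_isSubnormal S hK.1
  set G' := K ⊔ D with hG'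
  have hrel' : D.relIndex G' = D.relIndex K := by
    have h1 := PLocal.card_sup_mul_card_inf (H := K) (K := D) hDK
    have h2 : Nat.card ↥(K ⊓ D) * D.relIndex K = Nat.card ↥K := by
      rw [← Subgroup.inf_relIndex_right D K, inf_comm K D, ← Subgroup.relIndex_bot_left (D ⊓ K),
        Subgroup.relIndex_mul_relIndex _ _ _ bot_le inf_le_right, Subgroup.relIndex_bot_left]
    have h3 : Nat.card ↥D * D.relIndex G' = Nat.card ↥G' := by
      rw [← Subgroup.relIndex_bot_left D, Subgroup.relIndex_mul_relIndex _ _ _ bot_le le_sup_right,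
        Subgroup.relIndex_bot_left]
    rw [← hG', ← h3, ← h2] at h1
    refine Nat.eq_of_mul_eq_mul_left (Nat.mul_pos (Nat.card_pos (α := ↥D))
      (Nat.card_pos (α := ↥(K ⊓ D)))) ?_
    linear_combination h1
  have hDidx : ¬ p ∣ (D.subgroupOf G').index := by
    show ¬ p ∣ D.relIndex G'
    rwa [hrel']
  set D' := ((S.2.to_le (inf_le_left : D ≤ _)).comap_subtype (K := G')).toSylow hDidx with hD'def
  have hD' : (D' : Subgroup ↥G') = D.subgroupOf G' := IsPGroup.toSylow_coe _ _
  have hDn : ¬ G' ≤ Subgroup.normalizer (D : Set P) := by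
    intro h
    have h1 : K ≤ Subgroup.normalizer ((K ⊓ D : Subgroup P) : Set P) :=
      (le_inf Subgroup.le_normalizer (le_sup_left.trans h)).trans
        Subgroup.inf_normalizer_le_normalizer_inf
    have h2 : K ⊓ D = ⊥ := by
      refine le_bot_iff.1 (hOp ▸ Cores.le_pCore_of_isSubnormal
        (Subgroup.IsSubnormal.step (K ⊓ D) K inf_le_left hK.1
          (Subgroup.normal_subgroupOf_of_le_normalizer h1)) ?_)
      exact S.2.to_le (inf_le_right.trans inf_le_left)
    rw [← Subgroup.inf_relIndex_right, inf_comm, h2, Subgroup.relIndex_bot_left] at hrel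
    exact hrel hpK
  set Z := (M ⊓ K) ⊔ D with hZ
  have hDMK : D ≤ Subgroup.normalizer ((M ⊓ K : Subgroup P) : Set P) :=
    (le_inf ((inf_le_left.trans hSM).trans Subgroup.le_normalizer) hDK).trans
      Subgroup.inf_normalizer_le_normalizer_inf
  have hZG : Z ≤ G' := sup_le_sup_right inf_le_right _
  have hZne : ¬ G' ≤ Z := by
    intro h
    refine hKM fun k hk => ?_
    obtain ⟨m, hm, d, hd, rfl⟩ := (Coprime.mem_sup_iff hDMK).1 (h (le_sup_left (b := D) hk))
    exact mul_mem hm.1 (hSM hd.1)
  -- every proper overgroup of `D` meets `K` inside `M`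
  have hmain : ∀ Y : Subgroup P, D ≤ Y → Y ≤ G' → ¬ G' ≤ Y → Y ≤ Z := by
    intro Y hDY hYG hne
    set A := Y ⊓ K with hA
    have hAne : A ≠ K := fun h => hne (sup_le (h ▸ inf_le_left) hDY)
    have hAM : A ≤ M := by
      set B := ⨆ s : ↥(S : Subgroup P), A.map (MulAut.conj (s : P)).toMonoidHom with hB
      have hBS : (S : Subgroup P) ≤ Subgroup.normalizer (B : Set P) :=
        PMinimal.le_normalizer_iSup_conj _ _
      by_contra hAM
      have htop : B ⊔ (S : Subgroup P) = ⊤ := PMinimal.eq_top_of_not_le S hM hSM hP le_sup_right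
        fun h => hAM (((PMinimal.le_iSup_conj _ _).trans le_sup_left).trans h)
      set E := Cfsg.layer P with hEdef
      set C := E ⊓ Subgroup.centralizer (K : Set P) with hC
      have hEK : E ≤ Subgroup.normalizer (K : Set P) :=
        Components.IsComponent.layer_le_normalizer hK
      have hEC : E ≤ Subgroup.normalizer (C : Set P) :=
        (le_inf Subgroup.le_normalizer (hEK.trans
          (PLocal.normalizer_le_normalizer_centralizer K))).trans
          Subgroup.inf_normalizer_le_normalizer_inf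
      have hKE : K ≤ E := Components.IsComponent.le_layer hK
      have hEKC : E ≤ C ⊔ K := Components.layer_le fun L hL => by
        by_cases h : L = K
        · exact h ▸ le_sup_right
        · exact le_trans (le_inf (Components.IsComponent.le_layer hL)
            (Subgroup.commutator_eq_bot_iff_le_centralizer.1
              (Components.IsComponent.commutator_eq_bot hL hK h))) le_sup_left
      have hAE : A ≤ E := inf_le_right.trans hKE
      have hBle : B ≤ C ⊔ A := iSup_le fun s => by
        by_cases h : K.map (MulAut.conj (s : P)).toMonoidHom = K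
        · have hsD : (s : P) ∈ D := ⟨s.2, PLocal.mem_normalizer_iff_map_eq.2 h⟩
          refine le_trans ?_ le_sup_right
          rintro _ ⟨x, hx, rfl⟩
          exact ⟨Y.mul_mem (Y.mul_mem (hDY hsD) hx.1) (Y.inv_mem (hDY hsD)),
            (Subgroup.mem_normalizer_iff.1 (hDK hsD) x).1 hx.2⟩
        · refine le_trans (Subgroup.map_mono inf_le_right) (le_trans ?_ le_sup_left)
          exact le_inf (Components.IsComponent.le_layer (hcomp s))
            (Subgroup.commutator_eq_bot_iff_le_centralizer.1
              (Components.IsComponent.commutator_eq_bot (hcomp s) hK h))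
      have hSE : (S : Subgroup P) ⊓ E ≤ C ⊔ A := by
        intro x hx
        set W := C ⊔ (K ⊓ (S : Subgroup P)) with hW
        have hWA : W ≤ C ⊔ A := sup_le_sup_left (le_inf ((hKS.ge.trans inf_le_right).trans hDY)
          inf_le_left) _
        have hxW : x ∈ Subgroup.normalizer (W : Set P) := by
          refine Cores.normalizer_inf_le_normalizer_sup _ _ ⟨hEC hx.2, ?_⟩
          exact Subgroup.inf_normalizer_le_normalizer_inf
            ⟨hEK hx.2, Subgroup.le_normalizer hx.1⟩
        obtain ⟨c, hc, k, hk, hck⟩ := (Coprime.mem_sup_iff (hKE.trans hEC)).1 (hEKC hx.2)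
        have hkW : k ∈ Subgroup.normalizer (W : Set P) := by
          have : k = c⁻¹ * x := by rw [← hck]; group
          rw [this]
          exact mul_mem (inv_mem (Subgroup.le_normalizer (le_sup_left (b := K ⊓ _) hc))) hxW
        set H := K ⊓ Subgroup.normalizer (W : Set P)
        haveI hWn : (W.subgroupOf H).Normal :=
          Subgroup.normal_subgroupOf_of_le_normalizer inf_le_right
        have hr : (W.relIndex H) ∣ (S : Subgroup P).relIndex K := by
          have h1 : K ⊓ (S : Subgroup P) ≤ W := le_sup_right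
          have h2 : K ⊓ (S : Subgroup P) ≤ H := le_inf inf_le_left (h1.trans Subgroup.le_normalizer)
          calc W.relIndex H ∣ (K ⊓ (S : Subgroup P)).relIndex H :=
                Subgroup.relIndex_dvd_of_le_left H h1
            _ ∣ (K ⊓ (S : Subgroup P)).relIndex K :=
                ⟨_, (Subgroup.relIndex_mul_relIndex _ _ _ h2 inf_le_left).symm⟩
            _ = (S : Subgroup P).relIndex K := by rw [inf_comm, Subgroup.inf_relIndex_right]
        set r := W.relIndex H
        have hkr : k ^ r ∈ W := by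
          have := (W.subgroupOf H).pow_index_mem ⟨k, hk, hkW⟩
          exact this
        obtain ⟨n, hn⟩ := S.2 ⟨x, hx.1⟩
        have hn' : x ^ p ^ n = 1 := by simpa using congrArg Subtype.val hn
        set N := Subgroup.normalizer (W : Set P)
        haveI : (W.subgroupOf N).Normal := Subgroup.normal_in_normalizer
        let π := QuotientGroup.mk' (W.subgroupOf N)
        have hcN : c ∈ N := Subgroup.le_normalizer (le_sup_left (b := K ⊓ _) hc)
        have hπ : π ⟨x, hxW⟩ = π ⟨k, hkW⟩ := by
          have e : (⟨x, hxW⟩ : ↥N) = ⟨c, hcN⟩ * ⟨k, hkW⟩ := Subtype.ext hck.symm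
          rw [e, map_mul, show π ⟨c, hcN⟩ = 1 from (QuotientGroup.eq_one_iff _).2
            (le_sup_left (b := K ⊓ (S : Subgroup P)) hc), one_mul]
        have h1 : orderOf (π ⟨x, hxW⟩) ∣ p ^ n := orderOf_dvd_of_pow_eq_one (by
          rw [← map_pow, show (⟨x, hxW⟩ : ↥N) ^ p ^ n = 1 from Subtype.ext (by simpa using hn'),
            map_one])
        have h2 : orderOf (π ⟨x, hxW⟩) ∣ r := orderOf_dvd_of_pow_eq_one (by
          rw [hπ, ← map_pow]
          exact (QuotientGroup.eq_one_iff _).2 hkr)
        have h3 : orderOf (π ⟨x, hxW⟩) = 1 := Nat.eq_one_of_dvd_coprimes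
          ((hpp.coprime_iff_not_dvd.2 fun hd =>
            Cores.not_dvd_relIndex_of_isSubnormal S hK.1 (hd.trans hr)).pow_left n) h1 h2
        exact hWA (show x ∈ W from
          (QuotientGroup.eq_one_iff (N := W.subgroupOf N) ⟨x, hxW⟩).1 (orderOf_eq_one_iff.1 h3))
      have hKle : K ≤ C ⊔ A := by
        intro k hk
        obtain ⟨b, hb, t, ht, rfl⟩ := (Coprime.mem_sup_iff hBS).1
          (htop ▸ Subgroup.mem_top k : k ∈ B ⊔ (S : Subgroup P))
        have hbE : b ∈ E := (hBle.trans (sup_le inf_le_left hAE)) hb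
        have htE : t ∈ E := by
          have := mul_mem (inv_mem hbE) (hKE hk)
          simpa using this
        exact mul_mem (hBle hb) (hSE ⟨ht, htE⟩)
      refine hAne (le_antisymm inf_le_right ?_)
      haveI : Group.IsPerfect ↥K := hK.2.1
      refine Subgroup.subgroupOf_eq_top.1
        (Components.eq_top_of_sup_center_eq_top (top_le_iff.1 fun k _ => ?_))
      obtain ⟨c, hc, a, ha, hca⟩ := (Coprime.mem_sup_iff (hAE.trans hEC)).1 (hKle k.2)
      have hcK : c ∈ K := by
        have h1 : c = (k : P) * a⁻¹ := by rw [← hca]; group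
        rw [h1]
        exact mul_mem k.2 (inv_mem ha.2)
      have e : k = (⟨c, hcK⟩ : ↥K) * ⟨a, ha.2⟩ := Subtype.ext hca.symm
      rw [e]
      refine mul_mem (Subgroup.mem_sup_right (Subgroup.mem_center_iff.2 fun y =>
        Subtype.ext (hc.2 y.1 y.2))) (Subgroup.mem_sup_left ha)
    intro y hy
    obtain ⟨k, hk, d, hd, rfl⟩ := (Coprime.mem_sup_iff hDK).1 (hYG hy)
    have hkA : k ∈ A := ⟨by simpa using mul_mem hy (inv_mem (hDY hd)), hk⟩
    exact Subgroup.mul_mem_sup ⟨hAM hkA, hk⟩ hd
  have hproper : ∀ Y : Subgroup ↥G', (D' : Subgroup ↥G') ≤ Y → Y ≠ ⊤ →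
      Y ≤ Z.subgroupOf G' := by
    intro Y hDY hY
    refine Subgroup.map_le_iff_le_comap.1 (hmain _ ?_ (Subgroup.map_subtype_le _) fun h => hY ?_)
    · intro d hd
      exact ⟨⟨d, le_sup_right (a := K) hd⟩, hDY (by rw [hD']; exact hd), rfl⟩
    · rw [eq_top_iff]
      intro g _
      obtain ⟨y, hy, e⟩ := h g.2
      exact (Subtype.ext e : y = g) ▸ hy
  refine PMinimal.isPMinimal_of_sylow D' ?_ (Z.subgroupOf G') ⟨?_, fun Y hY => ?_⟩ ?_ hproper
  · rw [hD', Subgroup.normal_subgroupOf_iff_le_normalizer le_sup_right]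
    exact hDn
  · rw [Ne, Subgroup.subgroupOf_eq_top]
    exact hZne
  · by_contra hYt
    exact hY.not_ge (hproper Y ((by rw [hD']; exact fun d hd => le_sup_right (a := M ⊓ K) hd :
      (D' : Subgroup ↥G') ≤ Z.subgroupOf G').trans hY.le) hYt)
  · rw [hD']
    exact fun d hd => le_sup_right (a := M ⊓ K) hd

end Cfsg.Agent.S2906
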