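import Cfsg.Statements.S2907
import Cfsg.Agent.EqLemmas

set_option autoImplicit false
open Cfsg

namespace Cfsg.Agent.S2907

/-- Let X be a finite semi-extraspecial p-group and x an element of X outside the centre. Then the index of C_X(x) in X equals the order of Z(X), and the commutators [x, y], y ∈ X, form exactly the centre Z(X). -/
theorem result {X : Type*} [Group X] [Finite X] {p : ℕ} [Fact p.Prime] (hX : Cfsg.IsSemiExtraspecial p X) (x : X) (hx : x ∉ Subgroup.center X) : (Subgroup.centralizer ({x} : Set X)).index = Nat.card ↥(Subgroup.center X) ∧ {z : X | ∃ y : X, z = x * y * x⁻¹ * y⁻¹} = (Subgroup.center X : Set X) := by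
  obtain ⟨⟨hp, hfr, hcomm⟩, hY⟩ := hX
  have hc : ∀ y : X, x * y * x⁻¹ * y⁻¹ ∈ Subgroup.center X := fun y =>
    hcomm ▸ Subgroup.commutator_mem_commutator (Subgroup.mem_top x) (Subgroup.mem_top y)
  let φ : X →* ↥(Subgroup.center X) :=
    MonoidHom.mk' (fun y => ⟨x * y * x⁻¹ * y⁻¹, hc y⟩) (fun a b => by
      apply Subtype.ext
      show x * (a * b) * x⁻¹ * (a * b)⁻¹ = x * a * x⁻¹ * a⁻¹ * (x * b * x⁻¹ * b⁻¹)
      have h := Subgroup.mem_center_iff.mp (hc b) a
      calc x * (a * b) * x⁻¹ * (a * b)⁻¹ = x * a * x⁻¹ * (x * b * x⁻¹ * b⁻¹) * a⁻¹ := by group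
        _ = x * a * x⁻¹ * a⁻¹ * (a * (x * b * x⁻¹ * b⁻¹)) * a⁻¹ := by group
        _ = x * a * x⁻¹ * a⁻¹ * ((x * b * x⁻¹ * b⁻¹) * a) * a⁻¹ := by rw [h]
        _ = _ := by group)
  have hrange : φ.range = ⊤ := by
    by_contra hne
    obtain ⟨M, hM, hle⟩ := (eq_top_or_exists_le_coatom φ.range).resolve_left hne
    set Y : Subgroup X := M.map (Subgroup.center X).subtype with hYdef
    have hYZ : Y ≤ Subgroup.center X := Subgroup.map_subtype_le _
    have hYM : Y.subgroupOf (Subgroup.center X) = M :=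
      Subgroup.comap_map_eq_self_of_injective (Subgroup.center X).subtype_injective M
    obtain ⟨hn, hes⟩ := hY Y hYZ (hYM ▸ hM)
    have hcard : Nat.card (Subgroup.center (X ⧸ Y)) = p := hes.2
    set I : Subgroup (X ⧸ Y) := (Subgroup.center X).map (QuotientGroup.mk' Y) with hI
    have hIc : I ≤ Subgroup.center (X ⧸ Y) := by
      rintro _ ⟨z, hz, rfl⟩
      rw [Subgroup.mem_center_iff]
      intro g
      induction g using QuotientGroup.induction_on with
      | H g =>
        show (g : X ⧸ Y) * (z : X ⧸ Y) = (z : X ⧸ Y) * (g : X ⧸ Y)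
        rw [← QuotientGroup.mk_mul, ← QuotientGroup.mk_mul, Subgroup.mem_center_iff.mp hz g]
    have hI1 : I ≠ ⊥ := by
      intro hb
      rw [hI, Subgroup.map_eq_bot_iff, QuotientGroup.ker_mk'] at hb
      apply hM.1
      rw [← hYM, Subgroup.subgroupOf_eq_top]
      exact hb
    have hIeq : I = Subgroup.center (X ⧸ Y) := by
      apply Subgroup.eq_of_le_of_card_ge hIc
      rw [hcard]
      haveI : Fact (Nat.card (Subgroup.center (X ⧸ Y))).Prime := by
        rw [hcard]; exact ⟨Fact.out⟩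
      haveI : Nontrivial I := (Subgroup.nontrivial_iff_ne_bot I).mpr hI1
      rcases (Subgroup.subgroupOf I (Subgroup.center (X ⧸ Y))).eq_bot_or_eq_top_of_prime_card with h | h
      · exact absurd ((Subgroup.subgroupOf_eq_bot.mp h).eq_bot_of_le hIc) hI1
      · have := le_antisymm hIc (Subgroup.subgroupOf_eq_top.mp h)
        rw [this, hcard]
    have hxc : (x : X ⧸ Y) ∈ Subgroup.center (X ⧸ Y) := by
      rw [Subgroup.mem_center_iff]
      intro g
      induction g using QuotientGroup.induction_on with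
      | H g =>
        have h1 : x * g * x⁻¹ * g⁻¹ ∈ Y := ⟨φ g, hle ⟨g, rfl⟩, rfl⟩
        have h2 := (QuotientGroup.eq_one_iff _).mpr h1
        simp only [QuotientGroup.mk_mul, QuotientGroup.mk_inv] at h2
        rw [mul_inv_eq_one, mul_inv_eq_iff_eq_mul] at h2
        exact h2.symm
    rw [← hIeq] at hxc
    obtain ⟨z, hz, hzx⟩ := hxc
    apply hx
    have h3 : z⁻¹ * x ∈ Y := QuotientGroup.eq.mp hzx
    simpa using (Subgroup.center X).mul_mem hz (hYZ h3)
  have hker : φ.ker = Subgroup.centralizer ({x} : Set X) := by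
    ext y
    rw [MonoidHom.mem_ker, Subgroup.mem_centralizer_singleton_iff]
    constructor
    · intro h
      have h' : x * y * x⁻¹ * y⁻¹ = 1 := congrArg Subtype.val h
      rw [mul_inv_eq_one, mul_inv_eq_iff_eq_mul] at h'
      exact h'.symm
    · intro h
      apply Subtype.ext
      show x * y * x⁻¹ * y⁻¹ = 1
      rw [← h]; group
  refine ⟨?_, ?_⟩
  · rw [← hker, Subgroup.index_ker, hrange, Subgroup.card_top]
  · ext z
    refine ⟨?_, fun hz => ?_⟩
    · rintro ⟨y, rfl⟩; exact hc y
    · obtain ⟨y, hy⟩ := hrange.ge (Subgroup.mem_top (⟨z, hz⟩ : ↥(Subgroup.center X)))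
      exact ⟨y, (congrArg Subtype.val hy).symm⟩

end Cfsg.Agent.S2907
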