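import Cfsg.Statements.S2909
import Cfsg.Agent.EqLemmas
import Cfsg.Agent.S2908
import Cfsg.Agent.Lib.Coprime.Generation
import Cfsg.Agent.Lib.Coprime.PQ

set_option autoImplicit false
open Cfsg

namespace Cfsg.Agent.S2909

/-- Let p be a prime, E a normal p-subgroup of the finite group G, and U a non-cyclic elementary abelian p-subgroup of G such that either C_E(U) = C_E(u) for every nontrivial u ∈ U, or [E, U] = [E, ⟨u⟩] for every nontrivial u ∈ U. If R is a subgroup of order prime to p normalized by U, then [R, U] centralizes E. -/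
theorem result {G : Type*} [Group G] [Finite G] {p : ℕ} [Fact p.Prime] (E : Subgroup G) [E.Normal] (hE : IsPGroup p ↥E) (U : Subgroup G) (hU : Cfsg.IsElementaryAbelian p U) (hnc : ¬ IsCyclic ↥U) (hcond : (∀ u ∈ U, u ≠ 1 → E ⊓ Subgroup.centralizer (U : Set G) = E ⊓ Subgroup.centralizer ({u} : Set G)) ∨ (∀ u ∈ U, u ≠ 1 → ⁅E, U⁆ = ⁅E, Subgroup.zpowers u⁆)) (R : Subgroup G) (hR : ¬ p ∣ Nat.card ↥R) (hRU : U ≤ Subgroup.normalizer (R : Set G)) : ⁅R, U⁆ ≤ Subgroup.centralizer (E : Set G) := by
  set C := Subgroup.centralizer (E : Set G) with hC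
  haveI : IsMulCommutative ↥U := hU.1
  have hUU : U ≤ Subgroup.centralizer (U : Set G) := Subgroup.le_centralizer U
  have hUp : IsPGroup p ↥U := fun u => ⟨1, Subtype.ext (by simpa using hU.2 u.1 u.2)⟩
  have hEn : ∀ X : Subgroup G, X ≤ Subgroup.normalizer (E : Set G) := fun X => by
    rw [Subgroup.normalizer_eq_top]; exact le_top
  have key : ∀ u ∈ U, u ≠ 1 → ⁅R ⊓ Subgroup.centralizer ({u} : Set G), U⁆ ≤ C := by
    intro u hu hu1
    set K := R ⊓ Subgroup.centralizer ({u} : Set G) with hK
    have hCu : Subgroup.centralizer ({u} : Set G) =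
        Subgroup.centralizer ((Subgroup.zpowers u : Subgroup G) : Set G) := by
      rw [Subgroup.zpowers_eq_closure, Subgroup.centralizer_closure]
    have hUCu : U ≤ Subgroup.centralizer ({u} : Set G) :=
      hUU.trans (Subgroup.centralizer_le (Set.singleton_subset_iff.2 hu))
    have hUK : U ≤ Subgroup.normalizer (K : Set G) :=
      (le_inf hRU (hUCu.trans Subgroup.le_normalizer)).trans Subgroup.inf_normalizer_le_normalizer_inf
    set Q := ⁅K, U⁆ with hQ
    have hQK : Q ≤ K := Coprime.commutator_le_left' hUK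
    have hQu : Q ≤ Subgroup.centralizer ((Subgroup.zpowers u : Subgroup G) : Set G) :=
      hCu ▸ hQK.trans inf_le_right
    have huQ : Subgroup.zpowers u ≤ Subgroup.centralizer (Q : Set G) :=
      Subgroup.le_centralizer_iff.1 hQu
    have hQp : (Nat.card ↥Q).Coprime p := by
      rw [Nat.coprime_comm, (Fact.out : p.Prime).coprime_iff_not_dvd]
      exact fun h => hR (h.trans (Subgroup.card_dvd_of_le (hQK.trans inf_le_left)))
    have hup : IsPGroup p ↥(Subgroup.zpowers u) := hUp.to_le (Subgroup.zpowers_le.2 hu)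
    rcases hcond with h | h
    · refine Coprime.thompson_pq p hup hQp hE huQ (hEn _) (hEn _) ?_
      rw [← hCu, ← h u hu hu1]
      set D := E ⊓ Subgroup.centralizer (U : Set G) with hD
      have hKD : K ≤ Subgroup.normalizer (D : Set G) := by
        rw [h u hu hu1]
        exact (le_inf (hEn _) ((inf_le_right : K ≤ _).trans Subgroup.le_normalizer)).trans
          Subgroup.inf_normalizer_le_normalizer_inf
      have hDU : ⁅D, U⁆ = ⊥ := Subgroup.commutator_eq_bot_iff_le_centralizer.2 inf_le_right
      have h1 : ⁅⁅U, D⁆, K⁆ = ⊥ := by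
        rw [Subgroup.commutator_comm U D, hDU, Subgroup.commutator_bot_left]
      have h2 : ⁅⁅D, K⁆, U⁆ = ⊥ := le_bot_iff.1
        (hDU ▸ Subgroup.commutator_mono (Coprime.commutator_le_left' hKD) le_rfl)
      have h3 := Subgroup.commutator_commutator_eq_bot_of_rotate h1 h2
      exact Subgroup.le_centralizer_iff.1 (Subgroup.commutator_eq_bot_iff_le_centralizer.1 h3)
    · set N := ⁅E, U⁆ with hN
      have hKN : K ≤ Subgroup.normalizer (N : Set G) := by
        rw [h u hu hu1]
        exact Coprime.le_normalizer_commutator (hEn _) ((inf_le_right : K ≤ _).trans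
          (hCu ▸ Subgroup.centralizer_le_normalizer _))
      have hle : ⁅Q, E⁆ ≤ N := S2908.three_subgroup_le hKN
        (Subgroup.normalizer_commutator_ge_right E U) (Subgroup.normalizer_commutator_ge_left E U)
        (le_trans (Subgroup.commutator_mono (Subgroup.commutator_comm_le U E) le_rfl)
          (Coprime.commutator_le_left' hKN))
        (Subgroup.commutator_mono (Coprime.commutator_le_left' (hEn _)) le_rfl)
      refine Subgroup.commutator_eq_bot_iff_le_centralizer.1 ?_
      rw [Subgroup.commutator_comm]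
      refine S2908.result E (Subgroup.zpowers u) Q hE hup ?_ (hEn _) (hEn _)
        (Subgroup.commutator_eq_bot_iff_le_centralizer.2 huQ) ?_
      · exact fun h' => (Fact.out : p.Prime).coprime_iff_not_dvd.1 hQp.symm h'
      · rw [Subgroup.commutator_comm E Q, ← h u hu hu1]
        exact hle
  let π := QuotientGroup.mk' C
  have hCn : ∀ X Y : Subgroup G, ⁅X, Y⁆ ≤ C ↔ X ≤ (Subgroup.centralizer ((Y.map π : Subgroup (G ⧸ C)) : Set (G ⧸ C))).comap π := by
    intro X Y
    conv_rhs => rw [← Subgroup.map_le_iff_le_comap, ← Subgroup.commutator_eq_bot_iff_le_centralizer,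
      ← Subgroup.map_commutator, Subgroup.map_eq_bot_iff, QuotientGroup.ker_mk']
  refine (hCn R U).2 (Coprime.le_of_noncyclic hnc hRU ?_ fun a ha ha1 => (hCn _ U).1 (key a ha ha1))
  obtain ⟨k, hk⟩ := IsPGroup.iff_card.1 hUp
  rw [hk]
  exact ((Fact.out : p.Prime).coprime_iff_not_dvd.2 hR).pow_left k

end Cfsg.Agent.S2909
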