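import Cfsg.Statements.S2910
import Cfsg.Agent.EqLemmas
import Cfsg.Agent.Lib.Transfer.Alperin
import Cfsg.Agent.Lib.Coprime.PQ
import Cfsg.Agent.Lib.Components.Quasisimple

set_option autoImplicit false
open Cfsg

namespace Cfsg.Agent.S2910

/-- Let p be an odd prime dividing the order of the finite group G and P a Sylow p-subgroup of G. If Ω₁(P) (generated by the elements of order dividing p) is contained in the centre of G, then G has a normal p-complement. In particular, if G is quasisimple then Ω₁(P) is not central in G. -/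
theorem result {G : Type*} [Group G] [Finite G] {p : ℕ} [Fact p.Prime] (hp : p ≠ 2) (hdiv : p ∣ Nat.card G) (P : Sylow p G) (hZ : Cfsg.omegaOne p (P : Subgroup G) ≤ Subgroup.center G) : Cfsg.HasNormalPComplement p G ∧ ¬ Cfsg.IsQuasisimple G := by
  have hpp : p.Prime := Fact.out
  have hN : Cfsg.HasNormalPComplement p G := by
    refine Cfsg.Agent.Transfer.hasNormalPComplement_of_local P fun R hR _ n hn hco => ?_
    refine Coprime.le_centralizer_of_fixing_order_p p hp (A := Subgroup.zpowers n) (D := R)
      (P.2.to_le hR.1) (Subgroup.zpowers_le.mpr hn) (by rw [Nat.card_zpowers]; exact hco) ?_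
      (Subgroup.mem_zpowers n)
    intro x hx hxo
    have hxp : x ^ p = 1 := by rw [← hxo]; exact pow_orderOf_eq_one x
    have hxc : x ∈ Subgroup.center G := hZ (Subgroup.subset_closure ⟨hR.1 hx, hxp⟩)
    exact Subgroup.mem_centralizer_iff.mpr fun y _ => Subgroup.mem_center_iff.mp hxc y
  refine ⟨hN, fun hq => ?_⟩
  obtain ⟨N, hNn, hc⟩ := (Cfsg.Agent.Transfer.hasNormalPComplement_iff_sylow P).mp hN
  haveI := hNn
  haveI := hq.1
  haveI : Group.IsNilpotent (G ⧸ N) :=
    (P.2.of_equiv (Subgroup.IsComplement'.QuotientMulEquiv hc.symm).symm).isNilpotent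
  have hcard : Nat.card (G ⧸ N) ≠ 1 := by
    rw [← Subgroup.index_eq_card, hc.symm.index_eq_card]
    intro h1
    have h2 := P.dvd_card_of_dvd_card hdiv
    rw [h1] at h2
    exact hpp.ne_one (Nat.dvd_one.mp h2)
  haveI : Nontrivial (G ⧸ N) := Finite.one_lt_card_iff_nontrivial.mp
    (by have := Nat.card_pos (α := G ⧸ N); omega)
  exact Group.IsPerfect.not_isNilpotent (G ⧸ N) inferInstance

end Cfsg.Agent.S2910
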