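import Cfsg.Statements.S2912
import Cfsg.Agent.EqLemmas
import Cfsg.Agent.Lib.Coprime.Abelian
import Cfsg.Agent.Lib.Coprime.Generation
import Cfsg.Agent.Lib.Coprime.PQ
import Cfsg.Agent.Lib.Extraspecial.Basic
import Cfsg.Agent.Lib.PLocal.Basic
import Cfsg.Agent.Lib.PLocal.Action

set_option autoImplicit false
open Cfsg

namespace Cfsg.Agent.S2912

open scoped commutatorElement IsMulCommutative

theorem isMulCommutative_of_commute {G : Type*} [Group G] (A : Subgroup G)
    (h : ∀ a ∈ A, ∀ b ∈ A, a * b = b * a) : IsMulCommutative ↥A :=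
  ⟨⟨fun a b => Subtype.ext (h a.1 a.2 b.1 b.2)⟩⟩

theorem commute_of {G : Type*} [Group G] {A : Subgroup G} (h : IsMulCommutative ↥A) {a b : G}
    (ha : a ∈ A) (hb : b ∈ A) : a * b = b * a :=
  congrArg Subtype.val (h.is_comm.comm ⟨a, ha⟩ ⟨b, hb⟩)

theorem card_conj_fixed {G : Type*} [Group G] {U : Subgroup G} {y w w' : G}
    (hy : y ∈ Subgroup.normalizer (U : Set G)) (he : w' = y * w * y⁻¹) :
    Nat.card ↥(U ⊓ Subgroup.centralizer ({w'} : Set G)) =
      Nat.card ↥(U ⊓ Subgroup.centralizer ({w} : Set G)) := by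
  have : U ⊓ Subgroup.centralizer ({w'} : Set G) =
      (U ⊓ Subgroup.centralizer ({w} : Set G)).map (MulAut.conj y).toMonoidHom := by
    ext u
    rw [Subgroup.mem_map_equiv, MulAut.conj_symm_apply, Subgroup.mem_inf, Subgroup.mem_inf,
      Subgroup.mem_centralizer_singleton_iff, Subgroup.mem_centralizer_singleton_iff, he]
    have h1 : u ∈ U ↔ y⁻¹ * u * y ∈ U := by
      have := Subgroup.mem_normalizer_iff.1 (inv_mem hy) u
      simpa using this
    constructor
    · rintro ⟨hu, hc⟩
      refine ⟨h1.1 hu, ?_⟩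
      calc y⁻¹ * u * y * w = y⁻¹ * (u * (y * w * y⁻¹)) * y := by group
        _ = y⁻¹ * (y * w * y⁻¹ * u) * y := by rw [hc]
        _ = w * (y⁻¹ * u * y) := by group
    · rintro ⟨hu, hc⟩
      refine ⟨h1.2 hu, ?_⟩
      calc u * (y * w * y⁻¹) = y * (y⁻¹ * u * y * w) * y⁻¹ := by group
        _ = y * (w * (y⁻¹ * u * y)) * y⁻¹ := by rw [hc]
        _ = y * w * y⁻¹ * u := by group
  rw [this]
  exact Subgroup.card_map_of_injective (MulAut.conj y).injective

/-- The step from `U` to the fixed points of `x`. -/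
theorem step {G : Type*} [Group G] [Finite G] {p : ℕ} [Fact p.Prime] (U : Subgroup G)
    [IsMulCommutative U] (hU : (Nat.card U).Coprime p) (x y z : G)
    (hx : x ∈ Subgroup.normalizer (U : Set G)) (hy : y ∈ Subgroup.normalizer (U : Set G))
    (hz : z ∈ Subgroup.normalizer (U : Set G)) (hxp : x ^ p = 1) (hzp : z ^ p = 1)
    (hxz : x * z = z * x) (hyz : y * z = z * y) (hyx : y * x * y⁻¹ = x * z)
    (hfix : U ⊓ Subgroup.centralizer ({z} : Set G) = ⊥) :
    Nat.card ↥(U ⊓ Subgroup.centralizer ({x} : Set G)) ^ p ≤ Nat.card U ∧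
      (U ≠ ⊥ → U ⊓ Subgroup.centralizer ({x} : Set G) ≠ ⊥) := by
  have hpp : p.Prime := Fact.out
  have hyj : ∀ j : ℕ, y ^ j * x * (y ^ j)⁻¹ = x * z ^ j := by
    intro j
    induction j with
    | zero => simp
    | succ j ih =>
      calc y ^ (j + 1) * x * (y ^ (j + 1))⁻¹ = y * (y ^ j * x * (y ^ j)⁻¹) * y⁻¹ := by
            rw [pow_succ']; group
        _ = y * x * (z ^ j * y⁻¹) := by rw [ih]; group
        _ = y * x * (y⁻¹ * z ^ j) := by
            rw [((show Commute y z from hyz).pow_right j).inv_left.eq]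
        _ = x * (z * z ^ j) := by rw [← mul_assoc (y * x), hyx, mul_assoc]
        _ = x * z ^ (j + 1) := by rw [pow_succ']
  have hcard : ∀ j : ℕ, Nat.card ↥(U ⊓ Subgroup.centralizer ({x * z ^ j} : Set G)) =
      Nat.card ↥(U ⊓ Subgroup.centralizer ({x} : Set G)) := fun j =>
    card_conj_fixed (pow_mem hy j) (hyj j).symm
  have hmem : ∀ j : ℕ, ∀ u : G, u ∈ U ⊓ Subgroup.centralizer ({x * z ^ j} : Set G) ↔
      u ∈ U ∧ Commute u (x * z ^ j) := fun j u => by
    rw [Subgroup.mem_inf, Subgroup.mem_centralizer_singleton_iff]; rfl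
  have hpow : ∀ j : ℕ, (x * z ^ j) ^ p = 1 := fun j => by
    rw [((show Commute x z from hxz).pow_right j).mul_pow, hxp, ← pow_mul, mul_comm, pow_mul, hzp,
      one_pow, one_mul]
  have hcc : ∀ i j : ℕ, Commute (x * z ^ i) (x * z ^ j) := fun i j => by
    have c : Commute x z := hxz
    exact ((Commute.refl x).mul_right (c.pow_right j)).mul_left
      (((c.pow_right i).symm).mul_right ((Commute.refl z).pow_pow i j))
  refine ⟨?_, fun hne hbot => hne ?_⟩
  · classical
    let Uj : Fin p → Subgroup G := fun j =>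
      U ⊓ Subgroup.centralizer ({x * z ^ (j : ℕ)} : Set G)
    have hzinv : ∀ j : ℕ, x * z ^ j ∈ Subgroup.normalizer (U : Set G) := fun j =>
      mul_mem hx (pow_mem hz j)
    let Φ : (∀ j : Fin p, ↥(Uj j)) →* ↥U :=
      { toFun := fun f => ∏ j : Fin p, (⟨(f j : G), (f j).2.1⟩ : ↥U)
        map_one' := Finset.prod_eq_one fun j _ => Subtype.ext rfl
        map_mul' := fun f g => by rw [← Finset.prod_mul_distrib]; rfl }
    have hinj : Function.Injective Φ := by
      rw [injective_iff_map_eq_one]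
      intro f hf
      funext i
      have hQ : Subgroup.zpowers (x * z ^ (i : ℕ)) ≤ Subgroup.normalizer (U : Set G) :=
        Subgroup.zpowers_le.2 (hzinv i)
      have hQcard : (Nat.card ↥(Subgroup.zpowers (x * z ^ (i : ℕ)))) ∣ p := by
        rw [Nat.card_zpowers]; exact orderOf_dvd_of_pow_eq_one (hpow i)
      have h1 := congrArg (Coprime.conjProd hQ) hf
      rw [map_one] at h1
      have h2 : Coprime.conjProd hQ (Φ f) =
          ∏ j : Fin p, Coprime.conjProd hQ (⟨(f j : G), (f j).2.1⟩ : ↥U) := by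
        rw [show Φ f = ∏ j : Fin p, (⟨(f j : G), (f j).2.1⟩ : ↥U) from rfl, map_prod]
      rw [h2, Finset.prod_eq_single i ?_ (fun h => absurd (Finset.mem_univ i) h)] at h1
      · have hi : Commute (f i : G) (x * z ^ (i : ℕ)) := ((hmem _ _).1 (f i).2).2
        rw [Coprime.conjProd_of_mem_centralizer hQ (by
          intro a ha
          obtain ⟨k, rfl⟩ := Subgroup.mem_zpowers_iff.1 ha
          exact (hi.zpow_right k).symm)] at h1
        have h3 : orderOf (⟨(f i : G), (f i).2.1⟩ : ↥U) = 1 := Nat.eq_one_of_dvd_coprimes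
          ((hU.coprime_dvd_right hQcard)) (orderOf_dvd_natCard _) (orderOf_dvd_of_pow_eq_one h1)
        have h3' := orderOf_eq_one_iff.mp h3
        exact Subtype.ext (congrArg (fun t : ↥U => (t : G)) h3')
      · intro j _ hji
        have hmemC := Coprime.conjProd_mem_centralizer hQ (⟨(f j : G), (f j).2.1⟩ : ↥U)
        set w := Coprime.conjProd hQ (⟨(f j : G), (f j).2.1⟩ : ↥U) with hw
        have hwi : Commute (w : G) (x * z ^ (i : ℕ)) :=
          (hmemC.2 _ (Subgroup.mem_zpowers _)).symm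
        -- `f j` is fixed by `x z ^ j`, hence so is its average
        have hj : Commute (f j : G) (x * z ^ (j : ℕ)) := ((hmem _ _).1 (f j).2).2
        have hwj : Commute (w : G) (x * z ^ (j : ℕ)) := by
          cases nonempty_fintype ↥(Subgroup.zpowers (x * z ^ (i : ℕ)))
          have hs : w ∈ (Subgroup.centralizer ({x * z ^ (j : ℕ)} : Set G)).subgroupOf U := by
            rw [hw, Coprime.conjProd_apply]
            refine Subgroup.prod_mem _ fun a _ => ?_
            rw [Subgroup.mem_subgroupOf, Coprime.coe_conjAut, Subgroup.mem_centralizer_singleton_iff]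
            obtain ⟨k, hk⟩ := Subgroup.mem_zpowers_iff.1 a.2
            have ha : Commute (a : G) (x * z ^ (j : ℕ)) := hk ▸ (hcc i j).zpow_left k
            exact (ha.mul_left hj).mul_left ha.inv_left
          exact Subgroup.mem_centralizer_singleton_iff.1 hs
        -- hence it commutes with `z`
        have hd : Commute (w : G) ((x * z ^ (i : ℕ))⁻¹ * (x * z ^ (j : ℕ))) :=
          hwi.inv_right.mul_right hwj
        have he : (x * z ^ (i : ℕ))⁻¹ * (x * z ^ (j : ℕ)) = z ^ ((j : ℤ) - i) := by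
          rw [zpow_sub, zpow_natCast, zpow_natCast]
          have c : Commute x z := hxz
          rw [mul_inv_rev, mul_assoc, inv_mul_cancel_left]
          exact ((Commute.refl z).pow_pow i j).inv_left.eq
        rw [he] at hd
        have hzc : Commute (w : G) z := by
          have hne : ¬ (p : ℤ) ∣ (j : ℤ) - i := by
            intro hd'
            refine hji (Fin.ext ?_)
            have := Int.eq_zero_of_abs_lt_dvd hd' (by
              have := i.2; have := j.2; rw [abs_lt]; constructor <;> omega)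
            omega
          obtain ⟨a, b, hab⟩ : IsCoprime ((j : ℤ) - i) (p : ℤ) :=
            ((Nat.prime_iff_prime_int.1 hpp).coprime_iff_not_dvd.2 hne).symm
          have e : z = (z ^ ((j : ℤ) - i)) ^ a := by
            rw [← zpow_mul]
            calc z = z ^ (a * ((j : ℤ) - i) + b * p) := by rw [hab, zpow_one]
              _ = z ^ (((j : ℤ) - i) * a) := by
                rw [zpow_add, mul_comm b, zpow_mul z (p : ℤ), zpow_natCast, hzp, one_zpow, mul_one,
                  mul_comm a]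
          rw [e]
          exact hd.zpow_right a
        have h0 : (w : G) ∈ U ⊓ Subgroup.centralizer ({z} : Set G) :=
          ⟨w.2, Subgroup.mem_centralizer_singleton_iff.2 hzc⟩
        rw [hfix, Subgroup.mem_bot] at h0
        exact Subtype.ext h0
    have h := Nat.card_le_card_of_injective Φ hinj
    rw [Nat.card_pi] at h
    have e : ∀ j : Fin p, Nat.card ↥(Uj j) = Nat.card ↥(U ⊓ Subgroup.centralizer ({x} : Set G)) :=
      fun j => hcard j
    rwa [Finset.prod_congr rfl (fun j _ => e j), Finset.prod_const, Finset.card_univ,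
      Fintype.card_fin] at h
  · set A := Subgroup.closure ({x, z} : Set G)
    haveI : IsMulCommutative ↥A := Subgroup.isMulCommutative_closure (by
      rintro a (rfl | rfl) b (rfl | rfl)
      · rfl
      · exact hxz
      · exact hxz.symm
      · rfl)
    have hAN : A ≤ Subgroup.normalizer (U : Set G) :=
      (Subgroup.closure_le _).2 (Set.insert_subset hx (Set.singleton_subset_iff.2 hz))
    have hApow : ∀ a ∈ A, a ^ p = 1 := by
      intro a ha
      have hle : A ≤ ((powMonoidHom p : ↥A →* ↥A).ker).map A.subtype := by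
        refine (Subgroup.closure_le _).2 ?_
        rintro b (rfl | rfl)
        · exact ⟨⟨b, Subgroup.subset_closure (Set.mem_insert _ _)⟩, Subtype.ext hxp, rfl⟩
        · exact ⟨⟨b, Subgroup.subset_closure (Set.mem_insert_of_mem _ rfl)⟩, Subtype.ext hzp, rfl⟩
      obtain ⟨b, hb, rfl⟩ := hle ha
      exact congrArg Subtype.val hb
    have hAp : IsPGroup p ↥A := fun a => ⟨1, Subtype.ext (by simpa using hApow a a.2)⟩
    refine le_bot_iff.1 (Coprime.le_of_pair hAN ?_ hpp (a := x) (b := z)
      (Subgroup.subset_closure (Set.mem_insert _ _))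
      (Subgroup.subset_closure (Set.mem_insert_of_mem _ rfl))
      (by rw [hxp]; exact one_mem _) (by rw [hzp]; exact one_mem _) fun i j hij => ?_)
    · obtain ⟨k, hk⟩ := IsPGroup.iff_card.1 hAp
      rw [hk]
      exact (hU.symm).pow_left k
    · have hmodz : ∀ m : ℕ, z ^ m = z ^ (m % p) := fun m => by
        conv_lhs => rw [← Nat.mod_add_div m p, pow_add, pow_mul, hzp, one_pow, mul_one]
      have hmodx : ∀ m : ℕ, x ^ m = x ^ (m % p) := fun m => by
        conv_lhs => rw [← Nat.mod_add_div m p, pow_add, pow_mul, hxp, one_pow, mul_one]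
      by_cases hi : p ∣ i
      · have hxi : x ^ i = 1 := by
          rw [hmodx i, Nat.mod_eq_zero_of_dvd hi, pow_zero]
        have hj : ¬ p ∣ j := fun h => hij ⟨hi, h⟩
        obtain ⟨b, -, hb⟩ := Nat.exists_mul_mod_eq_one_of_coprime
          (hpp.coprime_iff_not_dvd.2 hj).symm hpp.one_lt
        intro u hu
        rw [hxi, one_mul] at hu
        have hc : Commute u (z ^ j) := Subgroup.mem_centralizer_singleton_iff.1 hu.2
        have e : z = (z ^ j) ^ b := by rw [← pow_mul, hmodz (j * b), hb, pow_one]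
        rw [← hfix]
        exact ⟨hu.1, Subgroup.mem_centralizer_singleton_iff.2 (e ▸ hc.pow_right b)⟩
      · obtain ⟨a, -, ha⟩ := Nat.exists_mul_mod_eq_one_of_coprime
          (hpp.coprime_iff_not_dvd.2 hi).symm hpp.one_lt
        intro u hu
        have hc : Commute u (x ^ i * z ^ j) := Subgroup.mem_centralizer_singleton_iff.1 hu.2
        have e : (x ^ i * z ^ j) ^ a = x * z ^ (j * a) := by
          rw [((show Commute x z from hxz).pow_pow i j).mul_pow, ← pow_mul, ← pow_mul,
            hmodx (i * a), ha, pow_one]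
        have h4 := hcard (j * a)
        rw [hbot, Subgroup.card_bot, Subgroup.card_eq_one] at h4
        rw [← h4]
        exact (hmem _ _).2 ⟨hu.1, e ▸ hc.pow_right a⟩

/-- The bound under the hypothesis that the centre acts fixed-point-freely. -/
theorem core {G : Type*} [Group G] [Finite G] {p r : ℕ} [Fact p.Prime] [hr : Fact r.Prime]
    (hpr : p ≠ r) (E A : Subgroup G) (w : ℕ) (hE : Cfsg.IsExtraspecial p ↥E)
    (hEcard : Nat.card ↥E = p ^ (2 * w + 1)) (hA : Cfsg.IsElementaryAbelian r A)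
    (hnorm : E ≤ Subgroup.normalizer (A : Set G)) (hA1 : A ≠ ⊥)
    (z : G) (hzZ : Subgroup.zpowers z = (Subgroup.center ↥E).map E.subtype)
    (hfix : A ⊓ Subgroup.centralizer ({z} : Set G) = ⊥)
    (n : ℕ) (hn : 1 ≤ n) (hmin : ∀ k : ℕ, 1 ≤ k → p ∣ r ^ k - 1 → n ≤ k) :
    r ^ (n * p ^ w) ≤ Nat.card ↥A := by
  haveI := hA.1
  have hpp : p.Prime := Fact.out
  have hrp : r.Prime := Fact.out
  have hAr : IsPGroup r ↥A := fun a => ⟨1, Subtype.ext (by simpa using hA.2 a a.2)⟩
  have hAcop : ∀ U : Subgroup G, U ≤ A → (Nat.card ↥U).Coprime p := by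
    intro U hU
    obtain ⟨k, hk⟩ := IsPGroup.iff_card.1 (hAr.to_le hU)
    rw [hk]
    exact ((Nat.coprime_primes hrp hpp).2 (Ne.symm hpr)).pow_left k
  have hZc : Nat.card ↥((Subgroup.center ↥E).map E.subtype) = p := by
    rw [Subgroup.card_map_of_injective E.subtype_injective, hE.2]
  have hzo : orderOf z = p := by rw [← Nat.card_zpowers, hzZ, hZc]
  have hzp : z ^ p = 1 := hzo ▸ pow_orderOf_eq_one z
  have hzE : z ∈ E := by
    have := Subgroup.mem_zpowers z
    rw [hzZ] at this
    exact Subgroup.map_subtype_le _ this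
  have hcomm : ∀ a ∈ E, ∀ b ∈ E, ⁅a, b⁆ ∈ Subgroup.zpowers z := fun a ha b hb => by
    rw [hzZ]
    exact ⟨⁅(⟨a, ha⟩ : ↥E), ⟨b, hb⟩⁆, Extraspecial.commutatorElement_mem_center hE _ _, rfl⟩
  have hpowZ : ∀ a ∈ E, a ^ p ∈ Subgroup.zpowers z := fun a ha => by
    rw [hzZ]
    exact ⟨(⟨a, ha⟩ : ↥E) ^ p, Extraspecial.pow_mem_center hE _, rfl⟩
  have hzc : ∀ a ∈ E, a * z = z * a := fun a ha => by
    have := Subgroup.mem_zpowers z
    rw [hzZ] at this
    obtain ⟨c, hc, rfl⟩ := this
    exact congrArg Subtype.val (Subgroup.mem_center_iff.1 hc ⟨a, ha⟩)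
  have hEZ : E ⊓ Subgroup.centralizer (E : Set G) = Subgroup.zpowers z := by
    rw [hzZ]
    ext x
    constructor
    · rintro ⟨hx, hc⟩
      exact ⟨⟨x, hx⟩, Subgroup.mem_center_iff.2 fun g => Subtype.ext (hc g g.2), rfl⟩
    · rintro ⟨c, hc, rfl⟩
      exact ⟨c.2, fun g hg => congrArg Subtype.val (Subgroup.mem_center_iff.1 hc ⟨g, hg⟩)⟩
  have hzpow : ∀ c ∈ Subgroup.zpowers z, c ≠ 1 → z ∈ Subgroup.zpowers c := by
    intro c hc hc1
    have : Subgroup.zpowers c = Subgroup.zpowers z :=
      Subgroup.eq_of_le_of_card_ge (Subgroup.zpowers_le.2 hc) (by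
        rw [Nat.card_zpowers, Nat.card_zpowers, hzo]
        have h1 : orderOf c ∣ p := by
          refine orderOf_dvd_of_pow_eq_one ?_
          obtain ⟨t, rfl⟩ := Subgroup.mem_zpowers_iff.1 hc
          rw [← zpow_natCast, ← zpow_mul, mul_comm, zpow_mul, zpow_natCast, hzp, one_zpow]
        exact ((Nat.dvd_prime hpp).1 h1).elim (fun h => absurd (orderOf_eq_one_iff.1 h) hc1)
          (fun h => h.ge))
    exact this ▸ Subgroup.mem_zpowers z
  let good : Subgroup G → Prop := fun K =>
    K ≤ E ∧ (∀ a ∈ K, ∀ b ∈ K, a * b = b * a) ∧ (∀ a ∈ K, a ^ p = 1) ∧ z ∉ K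
  have hKinf : ∀ K, good K → K ⊓ Subgroup.zpowers z = ⊥ := fun K hK =>
    le_bot_iff.1 fun c hc => by
      by_contra hc1
      exact hK.2.2.2 (Subgroup.zpowers_le.2 hc.1 (hzpow c hc.2 hc1))
  have hcen : ∀ K, good K → (E ⊓ Subgroup.centralizer (K : Set G)).relIndex E = Nat.card ↥K := by
    intro K hK
    rw [Extraspecial.relIndex_centralizer_eq E K (Subgroup.zpowers z) (by rw [Nat.card_zpowers, hzo])
      (fun k hk g hg => by
        obtain ⟨m, rfl⟩ := Subgroup.mem_zpowers_iff.1 hk
        have hgE : g ∈ E := (sup_le le_rfl hK.1) hg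
        exact ((show Commute g z from hzc g hgE).zpow_right m).eq.symm)
      (fun a ha b hb => hcomm a ha b (hK.1 hb))]
    have : K ⊓ Subgroup.centralizer (E : Set G) = ⊥ := by
      refine le_bot_iff.1 ((le_inf inf_le_left ?_).trans (hKinf K hK).le)
      rw [← hEZ]
      exact inf_le_inf_right _ hK.1
    rw [this, Subgroup.relIndex_bot_left]
  -- descent
  have hstep : ∀ k : ℕ, ∀ K, good K → Nat.card ↥K = p ^ k →
      A ⊓ Subgroup.centralizer (K : Set G) ≠ ⊥ ∧
      Nat.card ↥(A ⊓ Subgroup.centralizer (K : Set G)) ^ p ^ k ≤ Nat.card ↥A := by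
    intro k
    induction k with
    | zero =>
      intro K _ hcard
      rw [pow_zero, Subgroup.card_eq_one] at hcard
      subst hcard
      have : A ⊓ Subgroup.centralizer ((⊥ : Subgroup G) : Set G) = A :=
        inf_eq_left.2 fun a _ b hb => by
          rw [Subgroup.mem_bot.1 hb, one_mul, mul_one]
      rw [this, pow_zero, pow_one]
      exact ⟨hA1, le_rfl⟩
    | succ k ih =>
      intro K hK hcard
      have hKp : IsPGroup p ↥K := IsPGroup.of_card hcard
      obtain ⟨K₁, hK₁c, hK₁le⟩ : ∃ K₁ : Subgroup G, Nat.card ↥K₁ = p ^ k ∧ K₁ ≤ K := by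
        obtain ⟨L, hL⟩ := Sylow.exists_subgroup_card_pow_prime p (G := ↥K) (n := k)
          (hcard ▸ pow_dvd_pow p (Nat.le_succ k))
        exact ⟨L.map K.subtype, by rw [Subgroup.card_map_of_injective K.subtype_injective, hL],
          Subgroup.map_subtype_le _⟩
      have hK₁ : good K₁ := ⟨hK₁le.trans hK.1, fun a ha b hb => hK.2.1 a (hK₁le ha) b (hK₁le hb),
        fun a ha => hK.2.2.1 a (hK₁le ha), fun h => hK.2.2.2 (hK₁le h)⟩
      obtain ⟨x, hxK, hxK₁⟩ : ∃ x ∈ K, x ∉ K₁ := by
        by_contra h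
        push Not at h
        have := Subgroup.card_le_of_le (h : K ≤ K₁)
        rw [hcard, hK₁c] at this
        exact absurd this (not_le.2 (Nat.pow_lt_pow_right hpp.one_lt (Nat.lt_succ_self k)))
      obtain ⟨y₀, hy₀E, hy₀c, hy₀x⟩ : ∃ y ∈ E, (∀ a ∈ K₁, a * y = y * a) ∧ ⁅y, x⁆ ≠ 1 := by
        by_contra h
        push Not at h
        have hle : E ⊓ Subgroup.centralizer (K₁ : Set G) ≤ E ⊓ Subgroup.centralizer (K : Set G) := by
          have hKeq : K₁ ⊔ Subgroup.zpowers x = K := by
            refine Subgroup.eq_of_le_of_card_ge (sup_le hK₁le (Subgroup.zpowers_le.2 hxK)) ?_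
            by_contra hlt
            push Not at hlt
            have hd := Subgroup.card_dvd_of_le (le_sup_left : K₁ ≤ K₁ ⊔ Subgroup.zpowers x)
            obtain ⟨m, hm⟩ := IsPGroup.iff_card.1
              (hKp.to_le (sup_le hK₁le (Subgroup.zpowers_le.2 hxK)))
            rw [hm, hcard] at hlt
            rw [hm, hK₁c, Nat.pow_dvd_pow_iff_le_right hpp.one_lt] at hd
            have hmk : m = k := by
              have := (Nat.pow_lt_pow_iff_right hpp.one_lt).1 hlt
              omega
            refine hxK₁ ?_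
            have he : K₁ = K₁ ⊔ Subgroup.zpowers x :=
              Subgroup.eq_of_le_of_card_ge le_sup_left (by rw [hm, hK₁c, hmk])
            rw [he]
            exact Subgroup.mem_sup_right (Subgroup.mem_zpowers x)
          rintro y ⟨hyE, hyc⟩
          refine ⟨hyE, ?_⟩
          have hyx : y * x = x * y := by
            have := h y hyE hyc
            rwa [commutatorElement_eq_one_iff_mul_comm] at this
          rw [← hKeq]
          intro a ha
          have hsub : K₁ ⊔ Subgroup.zpowers x ≤ Subgroup.centralizer ({y} : Set G) :=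
            sup_le (fun b hb => Subgroup.mem_centralizer_singleton_iff.2 (hyc b hb))
              (Subgroup.zpowers_le.2 (Subgroup.mem_centralizer_singleton_iff.2 hyx.symm))
          exact Subgroup.mem_centralizer_singleton_iff.1 (hsub ha)
        have h1 := hcen K hK
        have h2 := hcen K₁ hK₁
        have h3 := Subgroup.relIndex_dvd_of_le_left E hle
        rw [h1, h2, hcard, hK₁c, Nat.pow_dvd_pow_iff_le_right hpp.one_lt] at h3
        omega
      have hcxy := hcomm y₀ hy₀E x (hK.1 hxK)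
      -- normalise so that `y x y⁻¹ = x z`
      obtain ⟨y, hyE, hyc, hyx⟩ : ∃ y ∈ E, (∀ a ∈ K₁, a * y = y * a) ∧ y * x * y⁻¹ = x * z := by
        obtain ⟨m, hm⟩ := Subgroup.mem_zpowers_iff.1 (hzpow _ hcxy hy₀x)
        refine ⟨y₀ ^ m, zpow_mem hy₀E m, fun a ha => ((show Commute a y₀ from hy₀c a ha).zpow_right m).eq, ?_⟩
        set c := ⁅y₀, x⁆ with hc
        have hcc : ∀ g ∈ E, Commute g c := fun g hg => by
          obtain ⟨t, ht⟩ := Subgroup.mem_zpowers_iff.1 hcxy
          rw [← ht]
          exact (show Commute g z from hzc g hg).zpow_right t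
        have hbase : y₀ * x * y₀⁻¹ = c * x := by
          rw [hc, commutatorElement_def]; group
        have key : ∀ t : ℤ, y₀ ^ t * x * (y₀ ^ t)⁻¹ = c ^ t * x := by
          intro t
          induction t using Int.induction_on with
          | zero => simp
          | succ i ih =>
            calc y₀ ^ ((i : ℤ) + 1) * x * (y₀ ^ ((i : ℤ) + 1))⁻¹
                = y₀ * (y₀ ^ (i : ℤ) * x * (y₀ ^ (i : ℤ))⁻¹) * y₀⁻¹ := by
                  rw [add_comm, zpow_add, zpow_one]; group
              _ = y₀ * c ^ (i : ℤ) * (x * y₀⁻¹) := by rw [ih]; group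
              _ = c ^ (i : ℤ) * (y₀ * x * y₀⁻¹) := by
                  rw [((hcc y₀ hy₀E).zpow_right _).eq]; group
              _ = c ^ (i : ℤ) * (c * x) := by rw [hbase]
              _ = c ^ ((i : ℤ) + 1) * x := by rw [zpow_add, zpow_one, mul_assoc]
          | pred i ih =>
            have hbase' : y₀⁻¹ * x * y₀ = c⁻¹ * x := by
              have h1 : x = y₀⁻¹ * (c * x) * y₀ := by rw [← hbase]; group
              calc y₀⁻¹ * x * y₀ = y₀⁻¹ * (c⁻¹ * (c * x)) * y₀ := by group
                _ = c⁻¹ * (y₀⁻¹ * (c * x) * y₀) := by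
                  rw [← mul_assoc y₀⁻¹ c⁻¹, ((hcc y₀ hy₀E).inv_inv).eq]; group
                _ = c⁻¹ * x := by rw [← h1]
            calc y₀ ^ (-(i : ℤ) - 1) * x * (y₀ ^ (-(i : ℤ) - 1))⁻¹
                = y₀⁻¹ * (y₀ ^ (-(i : ℤ)) * x * (y₀ ^ (-(i : ℤ)))⁻¹) * y₀ := by
                  rw [sub_eq_add_neg, add_comm, zpow_add, zpow_neg_one]; group
              _ = y₀⁻¹ * c ^ (-(i : ℤ)) * (x * y₀) := by rw [ih]; group
              _ = c ^ (-(i : ℤ)) * (y₀⁻¹ * x * y₀) := by
                  rw [(((hcc y₀ hy₀E).inv_left).zpow_right _).eq]; group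
              _ = c ^ (-(i : ℤ)) * (c⁻¹ * x) := by rw [hbase']
              _ = c ^ (-(i : ℤ) - 1) * x := by rw [zpow_sub, zpow_one, mul_assoc]
        rw [key, hm]
        exact (hzc x (hK.1 hxK)).symm
      obtain ⟨hne₁, hb₁⟩ := ih K₁ hK₁ hK₁c
      set U := A ⊓ Subgroup.centralizer (K₁ : Set G) with hU
      haveI : IsMulCommutative ↥U :=
        isMulCommutative_of_commute U fun a ha b hb => commute_of hA.1 ha.1 hb.1
      have hNU : ∀ g ∈ E, (∀ a ∈ K₁, a * g = g * a) → g ∈ Subgroup.normalizer (U : Set G) :=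
        fun g hg hc => Subgroup.inf_normalizer_le_normalizer_inf
          ⟨hnorm hg, Subgroup.le_normalizer (Subgroup.mem_centralizer_iff.2 hc)⟩
      have hfixU : U ⊓ Subgroup.centralizer ({z} : Set G) = ⊥ :=
        le_bot_iff.1 ((inf_le_inf_right _ inf_le_left).trans hfix.le)
      obtain ⟨hb₂, hne₂⟩ := step U (hAcop U inf_le_left) x y z
        (hNU x (hK.1 hxK) fun a ha => hK.2.1 a (hK₁le ha) x hxK) (hNU y hyE hyc)
        (hNU z hzE fun a ha => hzc a (hK₁.1 ha)) (hK.2.2.1 x hxK) hzp (hzc x (hK.1 hxK))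
        (hzc y hyE) hyx hfixU
      have hKU : U ⊓ Subgroup.centralizer ({x} : Set G) = A ⊓ Subgroup.centralizer (K : Set G) := by
        refine le_antisymm ?_ ?_
        · rintro a ⟨⟨haA, hac⟩, hax⟩
          refine ⟨haA, ?_⟩
          have hsub : K₁ ⊔ Subgroup.zpowers x ≤ Subgroup.centralizer ({a} : Set G) :=
            sup_le (fun b hb => Subgroup.mem_centralizer_singleton_iff.2 (hac b hb))
              (Subgroup.zpowers_le.2 (Subgroup.mem_centralizer_singleton_iff.2
                (Subgroup.mem_centralizer_singleton_iff.1 hax).symm))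
          have hKle : K ≤ K₁ ⊔ Subgroup.zpowers x := by
            refine (Subgroup.eq_of_le_of_card_ge (sup_le hK₁le (Subgroup.zpowers_le.2 hxK)) ?_).ge
            have hd := Subgroup.card_dvd_of_le (sup_le hK₁le (Subgroup.zpowers_le.2 hxK))
            rw [hcard] at hd ⊢
            obtain ⟨m, hm, hm'⟩ := (Nat.dvd_prime_pow hpp).1 hd
            rcases hm.lt_or_eq with hlt | heq
            · exfalso
              refine hxK₁ ?_
              have he : K₁ = K₁ ⊔ Subgroup.zpowers x :=
                Subgroup.eq_of_le_of_card_ge le_sup_left (by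
                  rw [hm', hK₁c]
                  exact Nat.pow_le_pow_right hpp.pos (by omega))
              rw [he]
              exact Subgroup.mem_sup_right (Subgroup.mem_zpowers x)
            · rw [hm', heq]
          intro b hb
          exact Subgroup.mem_centralizer_singleton_iff.1 (hsub (hKle hb))
        · rintro a ⟨haA, hac⟩
          exact ⟨⟨haA, fun b hb => hac b (hK₁le hb)⟩,
            Subgroup.mem_centralizer_singleton_iff.2 (hac x hxK).symm⟩
      rw [hKU] at hb₂ hne₂
      refine ⟨hne₂ hne₁, le_trans ?_ hb₁⟩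
      rw [pow_succ', pow_mul]
      exact Nat.pow_le_pow_left hb₂ _
  -- a maximal good subgroup
  obtain ⟨K, -, hK, hmax⟩ := Set.Finite.exists_le_maximal (s := {K : Subgroup G | good K})
    (Set.toFinite _) (a := ⊥) ⟨bot_le,
      fun a ha b hb => by rw [Subgroup.mem_bot.1 ha, one_mul, mul_one],
      fun a ha => by rw [Subgroup.mem_bot.1 ha, one_pow],
      fun h => hpp.ne_one (by rw [← hzo, Subgroup.mem_bot.1 h, orderOf_one])⟩
  obtain ⟨k, hk⟩ := IsPGroup.iff_card.1
    (fun a => ⟨1, Subtype.ext (by simpa using hK.2.2.1 a.1 a.2)⟩ : IsPGroup p ↥K)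
  obtain ⟨hne, hbound⟩ := hstep k K hK hk
  set U := A ⊓ Subgroup.centralizer (K : Set G) with hU
  set E₀ := E ⊓ Subgroup.centralizer (K : Set G) with hE₀
  set T := K ⊔ Subgroup.zpowers z with hT
  have hTE : T ≤ E₀ := sup_le (le_inf hK.1 fun a ha b hb => hK.2.1 b hb a ha)
    (Subgroup.zpowers_le.2 ⟨hzE, fun b hb => hzc b (hK.1 hb)⟩)
  have hTcard : Nat.card ↥T = p ^ (k + 1) := by
    have h := PLocal.card_sup_mul_card_inf (H := K) (K := Subgroup.zpowers z) (by
      refine Subgroup.zpowers_le.2 (Subgroup.centralizer_le_normalizer _ ?_)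
      exact fun b hb => hzc b (hK.1 hb))
    rw [hKinf K hK, Subgroup.card_bot, mul_one, hk, Nat.card_zpowers, hzo] at h
    rw [hT, h, pow_succ]
  have hE₀card : Nat.card ↥E₀ * p ^ k = p ^ (2 * w + 1) := by
    rw [← hk, ← hcen K hK, ← hEcard]
    rw [← Subgroup.relIndex_bot_left E₀, Subgroup.relIndex_mul_relIndex _ _ _ bot_le inf_le_left,
      Subgroup.relIndex_bot_left]
  -- elements of order `p` of `C_E(K)` lie in `K Z`
  have homega : ∀ a ∈ E₀, a ^ p = 1 → a ∈ T := by
    intro a ha hap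
    by_contra haT
    set L := K ⊔ Subgroup.zpowers a with hL
    have haK : Subgroup.zpowers a ≤ Subgroup.centralizer (K : Set G) :=
      Subgroup.zpowers_le.2 ha.2
    have hLmem : ∀ b ∈ L, ∃ c ∈ K, ∃ i : ℤ, c * a ^ i = b ∧ Commute c (a ^ i) := by
      intro b hb
      obtain ⟨c, hc, d, hd, rfl⟩ :=
        (Coprime.mem_sup_iff (haK.trans (Subgroup.centralizer_le_normalizer _))).1 hb
      obtain ⟨i, rfl⟩ := Subgroup.mem_zpowers_iff.1 hd
      exact ⟨c, hc, i, rfl, (show Commute c a from ha.2 c hc).zpow_right i⟩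
    have hgood : good L := by
      refine ⟨sup_le hK.1 (Subgroup.zpowers_le.2 ha.1), ?_, ?_, ?_⟩
      · intro b hb b' hb'
        obtain ⟨c, hc, i, rfl, -⟩ := hLmem b hb
        obtain ⟨c', hc', i', rfl, -⟩ := hLmem b' hb'
        have h1 : Commute c c' := hK.2.1 c hc c' hc'
        have h2 : ∀ d ∈ K, ∀ t : ℤ, Commute d (a ^ t) := fun d hd t =>
          (show Commute d a from ha.2 d hd).zpow_right t
        exact (h1.mul_right (h2 c hc i')).mul_left
          ((h2 c' hc' i).symm.mul_right ((Commute.refl a).zpow_zpow i i'))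
      · intro b hb
        obtain ⟨c, hc, i, rfl, hci⟩ := hLmem b hb
        rw [hci.mul_pow, hK.2.2.1 c hc, one_mul, ← zpow_natCast, ← zpow_mul, mul_comm, zpow_mul,
          zpow_natCast, hap, one_zpow]
      · intro hzL
        obtain ⟨c, hc, i, hci, -⟩ := hLmem z hzL
        by_cases hd : (p : ℤ) ∣ i
        · obtain ⟨t, rfl⟩ := hd
          rw [zpow_mul, zpow_natCast, hap, one_zpow, mul_one] at hci
          exact hK.2.2.2 (hci ▸ hc)
        · refine haT ?_
          obtain ⟨s, t, hst⟩ : IsCoprime i (p : ℤ) :=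
            ((Nat.prime_iff_prime_int.1 hpp).coprime_iff_not_dvd.2 hd).symm
          have e : a = (a ^ i) ^ s := by
            rw [← zpow_mul]
            calc a = a ^ (s * i + t * p) := by rw [hst, zpow_one]
              _ = a ^ (i * s) := by
                rw [zpow_add, mul_comm t, zpow_mul a (p : ℤ), zpow_natCast, hap, one_zpow, mul_one,
                  mul_comm s]
          have hai : a ^ i ∈ T := by
            have : a ^ i = c⁻¹ * z := by rw [← hci]; group
            rw [this]
            exact mul_mem (inv_mem (Subgroup.mem_sup_left hc))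
              (Subgroup.mem_sup_right (Subgroup.mem_zpowers z))
          rw [e]
          exact zpow_mem hai s
    exact haT (Subgroup.mem_sup_left (hmax hgood le_sup_left (Subgroup.mem_sup_right
      (Subgroup.mem_zpowers a))))
  have hcomm2 : ∀ a ∈ E, ∀ b ∈ E, ∀ m : ℕ, (a * b) ^ m = a ^ m * b ^ m * ⁅b, a⁆ ^ (m.choose 2) := by
    intro a ha b hb m
    have hcenC : ∀ g ∈ E, Commute g ⁅b, a⁆ := fun g hg => by
      obtain ⟨t, ht⟩ := Subgroup.mem_zpowers_iff.1 (hcomm b hb a ha)
      rw [← ht]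
      exact (show Commute g z from hzc g hg).zpow_right t
    have hswap : ∀ t : ℕ, b ^ t * a = a * b ^ t * ⁅b, a⁆ ^ t := by
      intro t
      induction t with
      | zero => simp
      | succ t ih =>
        have h1 : b * a = a * b * ⁅b, a⁆ := by
          have h2 : ⁅b, a⁆ * (a * b) = b * a := by rw [commutatorElement_def]; group
          rw [← h2, ((hcenC (a * b) (mul_mem ha hb))).eq]
        calc b ^ (t + 1) * a = b * (b ^ t * a) := by rw [pow_succ', mul_assoc]
          _ = b * a * (b ^ t * ⁅b, a⁆ ^ t) := by rw [ih]; group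
          _ = a * b * (⁅b, a⁆ * b ^ t) * ⁅b, a⁆ ^ t := by rw [h1]; group
          _ = a * b * (b ^ t * ⁅b, a⁆) * ⁅b, a⁆ ^ t := by
            rw [((hcenC b hb).pow_left t).eq]
          _ = a * b ^ (t + 1) * ⁅b, a⁆ ^ (t + 1) := by
            rw [pow_succ' b, pow_succ' ⁅b, a⁆]; simp only [mul_assoc]
    induction m with
    | zero => simp
    | succ m ih =>
      have hC : Commute (⁅b, a⁆ ^ (m.choose 2)) (a * b) :=
        ((hcenC (a * b) (mul_mem ha hb)).pow_right _).symm
      calc (a * b) ^ (m + 1) = a ^ m * b ^ m * (⁅b, a⁆ ^ (m.choose 2) * (a * b)) := by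
            rw [pow_succ, ih, mul_assoc]
        _ = a ^ m * (b ^ m * a) * b * ⁅b, a⁆ ^ (m.choose 2) := by
            rw [hC.eq]; simp only [mul_assoc]
        _ = a ^ m * a * b ^ m * (⁅b, a⁆ ^ m * b) * ⁅b, a⁆ ^ (m.choose 2) := by
            rw [hswap m]; simp only [mul_assoc]
        _ = a ^ m * a * (b ^ m * b) * (⁅b, a⁆ ^ m * ⁅b, a⁆ ^ (m.choose 2)) := by
            rw [((hcenC b hb).pow_right m).symm.eq]; simp only [mul_assoc]
        _ = a ^ (m + 1) * b ^ (m + 1) * ⁅b, a⁆ ^ ((m + 1).choose 2) := by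
            rw [pow_succ a, pow_succ b, ← pow_add, Nat.choose_succ_succ' m 1,
              Nat.choose_one_right]
  have hp1 : ∀ a ∈ E, ∀ b ∈ E, ⁅a, b⁆ ^ p = 1 := fun a ha b hb => by
    obtain ⟨t, ht⟩ := Subgroup.mem_zpowers_iff.1 (hcomm a ha b hb)
    rw [← ht, ← zpow_natCast, ← zpow_mul, mul_comm, zpow_mul, zpow_natCast, hzp, one_zpow]
  -- size of `C_E(K)` over `K Z`
  have hk1 : k + 1 ≤ 2 * w + 1 - k := by
    have h1 := Subgroup.card_dvd_of_le hTE
    obtain ⟨m, hm⟩ := IsPGroup.iff_card.1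
      ((IsPGroup.of_card hEcard).to_le (inf_le_left : E₀ ≤ E))
    rw [hm, ← pow_add] at hE₀card
    rw [hTcard, hm, Nat.pow_dvd_pow_iff_le_right hpp.one_lt] at h1
    have := Nat.pow_right_injective hpp.two_le hE₀card
    omega
  have hUcop := hAcop U inf_le_left
  have hzU : z ∈ Subgroup.normalizer (U : Set G) :=
    Subgroup.inf_normalizer_le_normalizer_inf ⟨hnorm hzE,
      Subgroup.le_normalizer (fun b hb => hzc b (hK.1 hb))⟩
  obtain ⟨d, hd⟩ := IsPGroup.iff_card.1 (hAr.to_le (inf_le_left : U ≤ A))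
  have hd1 : 1 ≤ d := Nat.pos_of_ne_zero fun h => hne (by
    rw [← Subgroup.card_eq_one, hd, h, pow_zero])
  have hnd : n ≤ d := by
    refine hmin d hd1 ?_
    letI : MulAction ↥(Subgroup.zpowers z) ↥U := MulAction.compHom _
      (Coprime.conjAut (A := Subgroup.zpowers z) (V := U) (Subgroup.zpowers_le.2 hzU))
    have hQ : IsPGroup p ↥(Subgroup.zpowers z) :=
      IsPGroup.of_card (n := 1) (by rw [Nat.card_zpowers, hzo, pow_one])
    have h := hQ.card_modEq_card_fixedPoints ↥U
    have hfp : MulAction.fixedPoints ↥(Subgroup.zpowers z) ↥U = {1} := by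
      ext u
      constructor
      · intro hu
        have h1 := congrArg Subtype.val (hu ⟨z, Subgroup.mem_zpowers z⟩)
        change z * (u : G) * z⁻¹ = (u : G) at h1
        have h2 : (u : G) ∈ A ⊓ Subgroup.centralizer ({z} : Set G) :=
          ⟨u.2.1, Subgroup.mem_centralizer_singleton_iff.2 (mul_inv_eq_iff_eq_mul.1 h1).symm⟩
        rw [hfix, Subgroup.mem_bot] at h2
        exact Subtype.ext h2
      · intro hu q
        rw [Set.mem_singleton_iff.1 hu]
        exact map_one (Coprime.conjAut (A := Subgroup.zpowers z) (V := U)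
          (Subgroup.zpowers_le.2 hzU) q)
    rw [hfp, Nat.card_coe_set_eq, Set.ncard_singleton, hd] at h
    exact (Nat.modEq_iff_dvd' (Nat.one_le_pow _ _ hrp.pos)).1 h.symm
  -- conclusion
  have hfinal : ∀ e : ℕ, n * p ^ w ≤ e * p ^ k → r ^ e ≤ Nat.card ↥U →
      r ^ (n * p ^ w) ≤ Nat.card ↥A := fun e he hU' =>
    le_trans (le_trans (Nat.pow_le_pow_right hrp.pos he)
      (by rw [pow_mul]; exact Nat.pow_le_pow_left hU' _)) hbound
  by_cases hkw : k = w
  · exact hfinal n (by rw [hkw]) (hd ▸ Nat.pow_le_pow_right hrp.pos hnd)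
  have hlt : k < w := by omega
  have hTn : E₀ ≤ Subgroup.normalizer (T : Set G) := by
    refine le_trans ?_ (Subgroup.normalizer_inf_normalizer_le_normalizer_sup K (Subgroup.zpowers z))
    refine le_inf (inf_le_right.trans (Subgroup.centralizer_le_normalizer _)) ?_
    refine inf_le_left.trans (le_trans ?_ (Subgroup.centralizer_le_normalizer _))
    intro g hg b hb
    obtain ⟨t, rfl⟩ := Subgroup.mem_zpowers_iff.1 hb
    exact ((show Commute g z from hzc g hg).zpow_right t).eq.symm
  -- `p` is two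
  obtain rfl : p = 2 := by
    by_contra hp2
    have hchoose : p ∣ p.choose 2 := hpp.dvd_choose_self two_ne_zero (by
      have := hpp.two_le; omega)
    let φ : ↥E₀ →* G :=
      MonoidHom.mk' (fun a => (a : G) ^ p) fun a b => by
        obtain ⟨t, ht⟩ := hchoose
        show ((a : G) * b) ^ p = (a : G) ^ p * (b : G) ^ p
        rw [hcomm2 _ a.2.1 _ b.2.1 p, ht, pow_mul, hp1 _ b.2.1 _ a.2.1, one_pow, mul_one]
    have hker : φ.ker ≤ T.subgroupOf E₀ := fun a ha => homega a a.2 ha
    have hrange : φ.range ≤ Subgroup.zpowers z := by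
      rintro _ ⟨a, rfl⟩
      exact hpowZ a a.2.1
    have h1 : Nat.card φ.range * Nat.card φ.ker = Nat.card ↥E₀ := by
      rw [← Subgroup.index_ker, Subgroup.index_mul_card]
    have h2 : Nat.card φ.range ≤ p := by
      have := Subgroup.card_le_of_le hrange
      rwa [Nat.card_zpowers, hzo] at this
    have h3 : Nat.card φ.ker ≤ p ^ (k + 1) := by
      rw [← hTcard, ← Nat.card_congr (Subgroup.subgroupOfEquivOfLe hTE).toEquiv]
      exact Subgroup.card_le_of_le hker
    have h4 : Nat.card ↥E₀ ≤ p ^ (k + 2) := by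
      rw [← h1, pow_succ' p (k + 1)]
      exact Nat.mul_le_mul h2 h3
    have h5 : p ^ (2 * w + 1) ≤ p ^ (k + 2 + k) := by
      rw [← hE₀card, pow_add p (k + 2)]
      exact Nat.mul_le_mul_right _ h4
    have := (Nat.pow_le_pow_iff_right hpp.one_lt).1 h5
    omega
  -- two non-commuting elements
  obtain ⟨a, ha, b, hb, hab⟩ : ∃ a ∈ E₀, ∃ b ∈ E₀, a * b ≠ b * a := by
    by_contra hcon
    push Not at hcon
    obtain ⟨a, ha, haT⟩ : ∃ a ∈ E₀, a ∉ T := by
      by_contra h
      push Not at h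
      have h1 := Subgroup.card_le_of_le (h : E₀ ≤ T)
      rw [hTcard] at h1
      have h5 : (2 : ℕ) ^ (2 * w + 1) ≤ 2 ^ (k + 1 + k) := by
        rw [← hE₀card, pow_add 2 (k + 1)]
        exact Nat.mul_le_mul_right _ h1
      have := (Nat.pow_le_pow_iff_right (by norm_num : 1 < 2)).1 h5
      omega
    -- with all commuting every element outside `T` squares to `z`, so at most one class
    have hsq : ∀ c ∈ E₀, c ∉ T → c ^ 2 = z := by
      intro c hc hcT
      have h1 := hpowZ c hc.1
      obtain ⟨t, ht⟩ := Subgroup.mem_zpowers_iff.1 h1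
      rcases Int.even_or_odd t with ⟨s, hs⟩ | ⟨s, hs⟩
      · refine absurd (homega c hc ?_) hcT
        rw [← ht, hs, ← two_mul, zpow_mul, show z ^ (2 : ℤ) = z ^ 2 from zpow_natCast z 2, hzp,
          one_zpow]
      · rw [← ht, hs, zpow_add, zpow_mul, show z ^ (2 : ℤ) = z ^ 2 from zpow_natCast z 2, hzp,
          one_zpow, one_mul, zpow_one]
    have hall : ∀ b ∈ E₀, b ∉ T → a * b ∈ T := by
      intro b hb hbT
      refine homega _ (mul_mem ha hb) ?_
      rw [(show Commute a b from hcon a ha b hb).mul_pow, hsq a ha haT, hsq b hb hbT, ← pow_two, hzp]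
    have hidx : T.relIndex E₀ ≤ 2 := by
      rw [Subgroup.relIndex]
      by_cases htop : T.subgroupOf E₀ = ⊤
      · rw [htop, Subgroup.index_top]; norm_num
      refine (Subgroup.index_eq_two_iff.2 ⟨⟨a, ha⟩, fun b => ?_⟩).le
      rw [Subgroup.mem_subgroupOf, Subgroup.mem_subgroupOf, Subgroup.coe_mul]
      by_cases hbT : (b : G) ∈ T
      · refine Or.inr ⟨hbT, fun h => haT ?_⟩
        have h9 := mul_mem (inv_mem hbT) h
        simpa using h9
      · refine Or.inl ⟨?_, hbT⟩
        rw [show (b : G) * a = a * b from (hcon a ha b b.2).symm]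
        exact hall b b.2 hbT
    have h5 : (2 : ℕ) ^ (2 * w + 1) ≤ 2 ^ (k + 2 + k) := by
      rw [← hE₀card, pow_add 2 (k + 2), pow_succ' 2 (k + 1), ← hTcard]
      refine Nat.mul_le_mul_right _ ?_
      calc Nat.card ↥E₀ = T.relIndex E₀ * Nat.card ↥T := by
            rw [mul_comm, ← Subgroup.relIndex_bot_left T,
              Subgroup.relIndex_mul_relIndex _ _ _ bot_le hTE, Subgroup.relIndex_bot_left]
        _ ≤ 2 * Nat.card ↥T := Nat.mul_le_mul_right _ hidx
    have := (Nat.pow_le_pow_iff_right (by norm_num : 1 < 2)).1 h5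
    omega
  -- so `w = k + 1`
  have hw : w ≤ k + 1 := by
    have hC : ∀ c ∈ E₀, c ∉ T → E₀ ⊓ Subgroup.centralizer ({c} : Set G) ≤ T ⊔ Subgroup.zpowers c := by
      intro c hc hcT d hd
      by_cases hdT : d ∈ T
      · exact Subgroup.mem_sup_left hdT
      have hsq : ∀ e ∈ E₀, e ∉ T → e ^ 2 = z := by
        intro e he heT
        obtain ⟨t, ht⟩ := Subgroup.mem_zpowers_iff.1 (hpowZ e he.1)
        rcases Int.even_or_odd t with ⟨s, hs⟩ | ⟨s, hs⟩
        · refine absurd (homega e he ?_) heT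
          rw [← ht, hs, ← two_mul, zpow_mul, show z ^ (2 : ℤ) = z ^ 2 from zpow_natCast z 2, hzp,
            one_zpow]
        · rw [← ht, hs, zpow_add, zpow_mul, show z ^ (2 : ℤ) = z ^ 2 from zpow_natCast z 2, hzp,
            one_zpow, one_mul, zpow_one]
      have hdc : Commute d c := Subgroup.mem_centralizer_singleton_iff.1 hd.2
      have h1 : d * c ∈ T := by
        refine homega _ (mul_mem hd.1 hc) ?_
        rw [hdc.mul_pow, hsq d hd.1 hdT, hsq c hc hcT, ← pow_two, hzp]
      have : d = (d * c) * c⁻¹ := by group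
      rw [this]
      exact mul_mem (Subgroup.mem_sup_left h1)
        (inv_mem (Subgroup.mem_sup_right (Subgroup.mem_zpowers c)))
    obtain ⟨c, hc, hcT⟩ : ∃ c ∈ E₀, c ∉ T := by
      by_contra h
      push Not at h
      refine hab ?_
      obtain ⟨a₁, ha₁, a₂, ha₂, ea⟩ := (Coprime.mem_sup_iff (Subgroup.zpowers_le.2
        (Subgroup.centralizer_le_normalizer _ (fun x hx => hzc x (hK.1 hx))))).1 (h a ha)
      obtain ⟨i, rfl⟩ := Subgroup.mem_zpowers_iff.1 ha₂
      have h1 : Commute z b := (hzc b hb.1).symm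
      rw [← ea]
      exact (show Commute a₁ b from hb.2 a₁ ha₁).mul_left (h1.zpow_left i)
    have hcT' : Subgroup.zpowers c ≤ Subgroup.normalizer (T : Set G) :=
      Subgroup.zpowers_le.2 (hTn hc)
    have h1 : Nat.card ↥(T ⊔ Subgroup.zpowers c) ≤ 2 * Nat.card ↥T := by
      have h := PLocal.card_sup_mul_card_inf hcT'
      have hc2 : c ^ 2 ∈ T := Subgroup.mem_sup_right (hpowZ c hc.1)
      have h2 : Nat.card ↥(Subgroup.zpowers c) ≤ 2 * Nat.card ↥(T ⊓ Subgroup.zpowers c) := by
        have h3 : Subgroup.zpowers (c ^ 2) ≤ T ⊓ Subgroup.zpowers c :=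
          le_inf (Subgroup.zpowers_le.2 hc2) (Subgroup.zpowers_le.2 (pow_mem (Subgroup.mem_zpowers c) 2))
        have h4 := Subgroup.card_le_of_le h3
        rw [Nat.card_zpowers, orderOf_pow] at h4
        rw [Nat.card_zpowers]
        have h5 : orderOf c ≤ 2 * (orderOf c / Nat.gcd (orderOf c) 2) := by
          rcases (Nat.dvd_prime Nat.prime_two).1 (Nat.gcd_dvd_right (orderOf c) 2) with h6 | h6
          all_goals have h8 := Nat.mul_div_cancel' (Nat.gcd_dvd_left (orderOf c) 2)
          all_goals rw [h6] at h8 ⊢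
          all_goals omega
        omega
      have := Nat.card_pos (α := ↥(T ⊓ Subgroup.zpowers c))
      nlinarith
    have h2 : (E₀ ⊓ Subgroup.centralizer ({c} : Set G)).relIndex E₀ ≤ 2 := by
      rw [show Subgroup.centralizer ({c} : Set G) =
          Subgroup.centralizer ((Subgroup.zpowers c : Subgroup G) : Set G) by
        rw [Subgroup.zpowers_eq_closure, Subgroup.centralizer_closure],
        Extraspecial.relIndex_centralizer_eq (p := 2) E₀ (Subgroup.zpowers c) (Subgroup.zpowers z)
          (by rw [Nat.card_zpowers, hzo])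
          (fun x hx g hg => by
            obtain ⟨t, rfl⟩ := Subgroup.mem_zpowers_iff.1 hx
            exact ((show Commute g z from hzc g ((sup_le inf_le_left
              (Subgroup.zpowers_le.2 hc.1)) hg)).zpow_right t).eq.symm)
          (fun x hx y hy => hcomm x hx.1 y ((Subgroup.zpowers_le.2 hc.1) hy))]
      have hc2 : Subgroup.zpowers (c ^ 2) ≤
          Subgroup.zpowers c ⊓ Subgroup.centralizer (E₀ : Set G) := by
        refine Subgroup.zpowers_le.2 ⟨pow_mem (Subgroup.mem_zpowers c) 2, fun g hg => ?_⟩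
        obtain ⟨t, ht⟩ := Subgroup.mem_zpowers_iff.1 (hpowZ c hc.1)
        rw [← ht]
        exact ((show Commute g z from hzc g hg.1).zpow_right t).eq
      have hdvd := Subgroup.relIndex_dvd_of_le_left (Subgroup.zpowers c) hc2
      have h3 : (Subgroup.zpowers (c ^ 2)).relIndex (Subgroup.zpowers c) ≤ 2 := by
        have h4 := Subgroup.relIndex_mul_relIndex ⊥ (Subgroup.zpowers (c ^ 2)) (Subgroup.zpowers c)
          bot_le (Subgroup.zpowers_le.2 (pow_mem (Subgroup.mem_zpowers c) 2))
        rw [Subgroup.relIndex_bot_left, Subgroup.relIndex_bot_left, Nat.card_zpowers,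
          Nat.card_zpowers, orderOf_pow] at h4
        have hpos := orderOf_pos c
        have hg := Nat.gcd_pos_of_pos_left 2 hpos
        have hg2 : Nat.gcd (orderOf c) 2 ≤ 2 := Nat.le_of_dvd (by norm_num) (Nat.gcd_dvd_right _ _)
        have he := Nat.div_mul_cancel (Nat.gcd_dvd_left (orderOf c) 2)
        have hq : 0 < orderOf c / Nat.gcd (orderOf c) 2 :=
          Nat.div_pos (Nat.le_of_dvd hpos (Nat.gcd_dvd_left _ _)) hg
        nlinarith
      exact le_trans (Nat.le_of_dvd (Nat.pos_of_ne_zero Subgroup.index_ne_zero_of_finite) hdvd) h3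
    have h3 : Nat.card ↥E₀ ≤ 2 ^ (k + 3) := by
      calc Nat.card ↥E₀ = Nat.card ↥(E₀ ⊓ Subgroup.centralizer ({c} : Set G)) *
            (E₀ ⊓ Subgroup.centralizer ({c} : Set G)).relIndex E₀ := by
            conv_rhs => rw [← Subgroup.relIndex_bot_left (E₀ ⊓ _),
              Subgroup.relIndex_mul_relIndex _ _ _ bot_le inf_le_left, Subgroup.relIndex_bot_left]
        _ ≤ (2 * 2 ^ (k + 1)) * 2 := Nat.mul_le_mul
            ((Subgroup.card_le_of_le (hC c hc hcT)).trans (hTcard ▸ h1)) h2
        _ = 2 ^ (k + 3) := by ring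
    have h5 : (2 : ℕ) ^ (2 * w + 1) ≤ 2 ^ (k + 3 + k) := by
      rw [← hE₀card, pow_add 2 (k + 3)]
      exact Nat.mul_le_mul_right _ h3
    have := (Nat.pow_le_pow_iff_right (by norm_num : 1 < 2)).1 h5
    omega
  -- `n = 1`
  have hn1 : n = 1 := by
    refine le_antisymm (hmin 1 le_rfl ?_) hn
    have : r ≠ 2 := Ne.symm hpr
    have := (hrp.eq_two_or_odd).resolve_left this
    rw [pow_one]; omega
  subst hn1
  -- `U` is not cyclic of order `r`
  have hd2 : 2 ≤ d := by
    by_contra hlt'
    obtain rfl : d = 1 := by omega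
    rw [pow_one] at hd
    obtain ⟨u, hu1⟩ : ∃ u : ↥U, u ≠ 1 := haveI : Nontrivial ↥U := Finite.one_lt_card_iff_nontrivial.1 (by rw [hd]; exact hrp.one_lt); exists_ne 1
    have hgen : ∀ v : G, v ∈ U → ∃ i : ℤ, (u : G) ^ i = v := fun v hv => by
      obtain ⟨i, hi⟩ := Subgroup.mem_zpowers_iff.1 (mem_zpowers_of_prime_card hd hu1
        (g' := (⟨v, hv⟩ : ↥U)))
      exact ⟨i, by rw [← SubgroupClass.coe_zpow, hi]⟩
    have hEU : E₀ ≤ Subgroup.normalizer (U : Set G) :=
      (le_inf (inf_le_left.trans hnorm) (inf_le_right.trans Subgroup.le_normalizer)).trans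
        Subgroup.inf_normalizer_le_normalizer_inf
    obtain ⟨i, hi⟩ := hgen _ ((Subgroup.mem_normalizer_iff.1 (hEU ha) u).1 u.2)
    obtain ⟨j, hj⟩ := hgen _ ((Subgroup.mem_normalizer_iff.1 (hEU hb) u).1 u.2)
    have conj_zpow' : ∀ (g : G) (t : ℤ), g * (u : G) ^ t * g⁻¹ = (g * u * g⁻¹) ^ t :=
      fun g t => (conj_zpow).symm
    have hfixc : ⁅a, b⁆ * (u : G) * ⁅a, b⁆⁻¹ = u := by
      have h1 : a * b * (u : G) * (a * b)⁻¹ = b * a * u * (b * a)⁻¹ := by
        calc a * b * (u : G) * (a * b)⁻¹ = a * (b * u * b⁻¹) * a⁻¹ := by group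
          _ = (u : G) ^ (i * j) := by rw [← hj, conj_zpow', ← hi, ← zpow_mul]
          _ = b * (a * u * a⁻¹) * b⁻¹ := by rw [← hi, conj_zpow', ← hj, ← zpow_mul, mul_comm]
          _ = b * a * u * (b * a)⁻¹ := by group
      have h3 : ∀ v, v ∈ U → a * b * v * (a * b)⁻¹ = b * a * v * (b * a)⁻¹ := by
        intro v hv
        obtain ⟨t, rfl⟩ := hgen v hv
        rw [conj_zpow', conj_zpow', h1]
      set w₀ := a⁻¹ * (b⁻¹ * u * b) * a with hw₀
      have hw₀U : w₀ ∈ U := by
        have h4 := (Subgroup.mem_normalizer_iff.1 (inv_mem (hEU hb)) u).1 u.2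
        have h5 := (Subgroup.mem_normalizer_iff.1 (inv_mem (hEU ha)) _).1 h4
        simpa [hw₀] using h5
      have h6 := h3 w₀ hw₀U
      calc ⁅a, b⁆ * (u : G) * ⁅a, b⁆⁻¹ = a * b * w₀ * (a * b)⁻¹ := by
            rw [hw₀, commutatorElement_def]; group
        _ = b * a * w₀ * (b * a)⁻¹ := h6
        _ = u := by rw [hw₀]; group
    obtain ⟨t, ht⟩ := Subgroup.mem_zpowers_iff.1
      (hzpow _ (hcomm a ha.1 b hb.1) (fun h => hab (commutatorElement_eq_one_iff_mul_comm.1 h)))
    have hc : Commute (u : G) z := by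
      rw [← ht]
      exact (show Commute (u : G) ⁅a, b⁆ from ((mul_inv_eq_iff_eq_mul.1 hfixc).symm)).zpow_right t
    have h7 : (u : G) ∈ A ⊓ Subgroup.centralizer ({z} : Set G) :=
      ⟨u.2.1, Subgroup.mem_centralizer_singleton_iff.2 hc⟩
    rw [hfix, Subgroup.mem_bot] at h7
    exact hu1 (Subtype.ext h7)
  refine hfinal 2 ?_ (hd ▸ Nat.pow_le_pow_right hrp.pos hd2)
  rw [one_mul, show w = k + 1 by omega, pow_succ']

/-- Let p and r be distinct primes, let E be an extraspecial subgroup of order p^(2w+1) of a finite group, and let A be an elementary abelian r-subgroup normalized by E on which E acts faithfully (C_E(A) = 1). If n ≥ 1 is least with p dividing rⁿ − 1 (the smallest dimension of a faithful representation of a group of order p over the field with r elements), then the order of A is at least r^(n·p^w). -/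
theorem result {G : Type*} [Group G] [Finite G] {p r : ℕ} [Fact p.Prime] [hr : Fact r.Prime] (hpr : p ≠ r) (E A : Subgroup G) (w : ℕ) (hE : Cfsg.IsExtraspecial p ↥E) (hEcard : Nat.card ↥E = p ^ (2 * w + 1)) (hA : Cfsg.IsElementaryAbelian r A) (hnorm : E ≤ Subgroup.normalizer (A : Set G)) (hfaith : E ⊓ Subgroup.centralizer (A : Set G) = ⊥) (n : ℕ) (hn : 1 ≤ n) (hdiv : p ∣ r ^ n - 1) (hmin : ∀ k : ℕ, 1 ≤ k → p ∣ r ^ k - 1 → n ≤ k) : r ^ (n * p ^ w) ≤ Nat.card ↥A := by
  have hpp : p.Prime := Fact.out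
  haveI := hA.1
  have hZc : Nat.card ↥((Subgroup.center ↥E).map E.subtype) = p := by
    rw [Subgroup.card_map_of_injective E.subtype_injective, hE.2]
  obtain ⟨z₀, hz₀⟩ : ∃ z : ↥((Subgroup.center ↥E).map E.subtype), z ≠ 1 :=
    haveI : Nontrivial ↥((Subgroup.center ↥E).map E.subtype) :=
      Finite.one_lt_card_iff_nontrivial.1 (by rw [hZc]; exact hpp.one_lt)
    exists_ne 1
  have hzZ : Subgroup.zpowers (z₀ : G) = (Subgroup.center ↥E).map E.subtype := by
    refine le_antisymm (Subgroup.zpowers_le.2 z₀.2) fun x hx => ?_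
    obtain ⟨i, hi⟩ := Subgroup.mem_zpowers_iff.1
      (mem_zpowers_of_prime_card hZc hz₀ (g' := (⟨x, hx⟩ : ↥((Subgroup.center ↥E).map E.subtype))))
    exact ⟨i, congrArg Subtype.val hi⟩
  set z := (z₀ : G)
  set Q := Subgroup.zpowers z with hQ
  have hQE : Q ≤ E := hzZ.le.trans (Subgroup.map_subtype_le _)
  have hQA : Q ≤ Subgroup.normalizer (A : Set G) := hQE.trans hnorm
  have hAr : IsPGroup r ↥A := fun a => ⟨1, Subtype.ext (by simpa using hA.2 a a.2)⟩
  have hcop : (Nat.card ↥Q).Coprime (Nat.card ↥A) := by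
    obtain ⟨k, hk⟩ := IsPGroup.iff_card.1 hAr
    rw [hzZ, hZc, hk]
    exact ((Nat.coprime_primes hpp Fact.out).2 hpr).pow_right k
  set A' := ⁅A, Q⁆ with hA'
  have hA'le : A' ≤ A := Subgroup.le_normalizer_iff_commutator_le_left.1 hQA
  have hsplit := Coprime.abelian_sup_eq hQA hcop
  have hdisj := Coprime.abelian_inf_eq_bot hQA hcop
  have hQn : E ≤ Subgroup.normalizer (Q : Set G) := by
    rw [hzZ]
    intro e he
    refine Subgroup.centralizer_le_normalizer _ ?_
    rintro _ ⟨c, hc, rfl⟩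
    exact (congrArg Subtype.val (Subgroup.mem_center_iff.1 hc ⟨e, he⟩)).symm
  have hA'1 : A' ≠ ⊥ := by
    intro h
    rw [← hA', h, sup_bot_eq] at hsplit
    have h1 : z ∈ E ⊓ Subgroup.centralizer (A : Set G) := by
      refine ⟨hQE (Subgroup.mem_zpowers z), fun a ha => ?_⟩
      have h2 : a ∈ A ⊓ Subgroup.centralizer (Q : Set G) := hsplit.ge ha
      exact (h2.2 z (Subgroup.mem_zpowers z)).symm
    rw [hfaith, Subgroup.mem_bot] at h1
    exact hz₀ (Subtype.ext h1)
  refine le_trans (core hpr E A' w hE hEcard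
    ⟨isMulCommutative_of_commute A' fun a ha b hb => commute_of hA.1 (hA'le ha) (hA'le hb),
      fun a ha => hA.2 a (hA'le ha)⟩
    (Coprime.le_normalizer_commutator hnorm hQn) hA'1 z hzZ ?_ n hn hmin)
    (Nat.le_of_dvd Nat.card_pos (Subgroup.card_dvd_of_le hA'le))
  refine le_bot_iff.1 (le_trans ?_ hdisj.le)
  rintro a ⟨ha, hc⟩
  refine ⟨⟨hA'le ha, ?_⟩, ha⟩
  intro q hq
  obtain ⟨i, rfl⟩ := Subgroup.mem_zpowers_iff.1 hq
  exact ((show Commute a z from Subgroup.mem_centralizer_singleton_iff.1 hc).zpow_right i).eq.symm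

end Cfsg.Agent.S2912
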