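import Cfsg.Statements.S2922
import Cfsg.Agent.Lib.LocalCharP.Basic
import Cfsg.Agent.Lib.CharP.Fitting

set_option autoImplicit false
open Cfsg

namespace Cfsg.Agent.S2922

/-- Let p be a prime, X a finite group, B a p-subgroup of X and C a normal subgroup of B. If N_X(C) has characteristic p (its generalized Fitting subgroup is O_p(N_X(C))), then N_X(B) and C_X(B) have characteristic p. -/
theorem result {X : Type*} [Group X] [Finite X] {p : ℕ} [Fact p.Prime] (B C : Subgroup X) (hB : IsPGroup p ↥B) (hCB : C ≤ B) (hCn : (C.subgroupOf B).Normal) (hC : Cfsg.generalizedFittingSubgroup ↥(Subgroup.normalizer (C : Set X)) = Cfsg.pCore p ↥(Subgroup.normalizer (C : Set X))) : Cfsg.generalizedFittingSubgroup ↥(Subgroup.normalizer (B : Set X)) = Cfsg.pCore p ↥(Subgroup.normalizer (B : Set X)) ∧ Cfsg.generalizedFittingSubgroup ↥(Subgroup.centralizer (B : Set X)) = Cfsg.pCore p ↥(Subgroup.centralizer (B : Set X)) := by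
  open Cfsg.Agent.LocalCharP in
  have hM : HasCharP p (Subgroup.normalizer (C : Set X)) :=
    hasCharP_iff.mpr (Cfsg.Agent.CharP.charP_of_generalizedFitting_eq hC)
  have hBN : B ≤ Subgroup.normalizer (C : Set X) :=
    (Subgroup.normal_subgroupOf_iff_le_normalizer hCB).mp hCn
  have hBM : B ≤ Subgroup.normalizer ((Subgroup.normalizer (C : Set X) : Subgroup X) : Set X) :=
    hBN.trans Subgroup.le_normalizer
  have hCB' : Subgroup.normalizer (C : Set X) ⊓ Subgroup.centralizer (B : Set X)
      = Subgroup.centralizer (B : Set X) :=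
    inf_eq_right.mpr ((Subgroup.centralizer_le hCB).trans (Subgroup.centralizer_le_normalizer _))
  have hCX : Cfsg.Agent.LocalCharP.HasCharP p (Subgroup.centralizer (B : Set X)) :=
    hCB' ▸ hM.inf_centralizer hB hBM
  have hNX : Cfsg.Agent.LocalCharP.HasCharP p (Subgroup.normalizer (B : Set X)) := by
    refine Cfsg.Agent.LocalCharP.hasCharP_of_forall fun x hx hxC ho => ?_
    have hxB : x ∈ Subgroup.centralizer (B : Set X) := Subgroup.centralizer_le
      (Cfsg.Agent.LocalCharP.le_pCoreIn Subgroup.le_normalizer hB le_rfl) hxC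
    refine hCX.eq_one hxB (Subgroup.centralizer_le ?_ hxC) ho
    refine Cfsg.Agent.LocalCharP.le_pCoreIn
      ((Cfsg.Agent.LocalCharP.pCoreIn_le p _).trans (Subgroup.centralizer_le_normalizer _))
      (Cfsg.Agent.LocalCharP.isPGroup_pCoreIn p _) ?_
    refine le_trans ?_ (Cfsg.Agent.LocalCharP.normalizer_le_normalizer_pCoreIn p _)
    intro g hg
    have key : ∀ g ∈ Subgroup.normalizer (B : Set X), ∀ c ∈ Subgroup.centralizer (B : Set X),
        g * c * g⁻¹ ∈ Subgroup.centralizer (B : Set X) := by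
      intro g hg c hc
      refine Subgroup.mem_centralizer_iff.mpr fun b hb => ?_
      have h1 := Subgroup.mem_centralizer_iff.mp hc _
        (((Subgroup.mem_normalizer_iff'' (g := g)).mp hg b).mp hb)
      calc b * (g * c * g⁻¹) = g * (g⁻¹ * b * g * c) * g⁻¹ := by group
        _ = g * (c * (g⁻¹ * b * g)) * g⁻¹ := by rw [h1]
        _ = g * c * g⁻¹ * b := by group
    rw [Subgroup.mem_normalizer_iff]
    refine fun c => ⟨key g hg c, fun hc => ?_⟩
    simpa [mul_assoc] using key g⁻¹ (inv_mem hg) _ hc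
  exact ⟨Cfsg.Agent.LocalCharP.generalizedFittingSubgroup_eq_pCore
      (Cfsg.Agent.LocalCharP.hasCharP_iff.mp hNX),
    Cfsg.Agent.LocalCharP.generalizedFittingSubgroup_eq_pCore
      (Cfsg.Agent.LocalCharP.hasCharP_iff.mp hCX)⟩

end Cfsg.Agent.S2922
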