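import Cfsg.Statements.S2924
import Cfsg.Agent.Lib.CharP.Basic
import Cfsg.Agent.Lib.Cores.Fitting
import Cfsg.Agent.Lib.PLocal.Basic
import Cfsg.Agent.Lib.Components.Basic

set_option autoImplicit false
open Cfsg

namespace Cfsg.Agent.S2924

/-- Without components the Fitting subgroup contains its centraliser. -/
theorem centralizer_fitting_le_of_layer_eq_bot {G : Type*} [Group G] [Finite G]
    (h : Cfsg.layer G = ⊥) :
    Subgroup.centralizer (Cfsg.fittingSubgroup G : Set G) ≤ Cfsg.fittingSubgroup G := by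
  set F := Cfsg.fittingSubgroup G
  by_contra hne
  let s : Set (Subgroup G) :=
    {K | K.IsSubnormal ∧ K ≤ Subgroup.centralizer (F : Set G) ∧ ¬ K ≤ F}
  obtain ⟨K, hKs⟩ := Set.Finite.exists_minimal (Set.toFinite s)
    ⟨_, Subgroup.Normal.isSubnormal inferInstance, le_rfl, hne⟩
  obtain ⟨hKsn, hKC, hKF⟩ := hKs.prop
  have hsub : ∀ M : Subgroup K, M.Normal → M = ⊤ ∨ M ≤ Subgroup.center K := by
    intro M hM
    by_cases hMF : M.map K.subtype ≤ F
    · right
      intro m hm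
      refine Subgroup.mem_center_iff.mpr fun g => Subtype.ext ?_
      exact (Subgroup.mem_centralizer_iff.mp (hKC g.2) _ (hMF ⟨m, hm, rfl⟩)).symm
    · left
      have hle := Subgroup.map_subtype_le M
      have hsn : (M.map K.subtype).IsSubnormal := Subgroup.IsSubnormal.trans' hM.isSubnormal hKsn
      have heq := hKs.le_of_le ⟨hsn, hle.trans hKC, hMF⟩ hle
      refine Subgroup.map_injective K.subtype_injective ?_
      rw [← MonoidHom.range_eq_map, Subgroup.range_subtype]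
      exact le_antisymm hle heq
  have hcne : Subgroup.center K ≠ ⊤ := by
    intro hc
    refine hKF (Cfsg.Agent.Cores.le_fittingSubgroup_of_isSubnormal hKsn ?_)
    haveI : IsMulCommutative K :=
      ⟨⟨fun a b => Subgroup.mem_center_iff.mp (hc ▸ Subgroup.mem_top b) a⟩⟩
    exact Cfsg.Agent.Cores.isNilpotent_of_isMulCommutative K
  have hperf : ⁅(⊤ : Subgroup K), (⊤ : Subgroup K)⁆ = (⊤ : Subgroup K) := by
    rcases hsub ⁅(⊤ : Subgroup K), (⊤ : Subgroup K)⁆ inferInstance with h1 | h1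
    · exact h1
    · exfalso
      refine hKF (Cfsg.Agent.Cores.le_fittingSubgroup_of_isSubnormal hKsn ?_)
      refine Subgroup.nilpotent_iff_lowerCentralSeries.mpr ⟨2, ?_⟩
      refine Subgroup.lowerCentralSeries_succ_eq_bot _ ?_
      simpa [Subgroup.lowerCentralSeries_succ] using h1
  have hcomp : Cfsg.IsComponent K := by
    refine ⟨hKsn, Subgroup.isPerfect_iff.mpr ?_, ?_⟩
    · have := congrArg (Subgroup.map K.subtype) hperf
      rwa [Subgroup.map_commutator, ← MonoidHom.range_eq_map, Subgroup.range_subtype] at this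
    · haveI : Nontrivial (K ⧸ Subgroup.center K) := QuotientGroup.nontrivial_iff.mpr hcne
      refine ⟨fun M hM => ?_⟩
      have hc : (M.comap (QuotientGroup.mk' (Subgroup.center K))).map (QuotientGroup.mk' _) = M :=
        Subgroup.map_comap_eq_self_of_surjective (QuotientGroup.mk'_surjective _) M
      rcases hsub (M.comap (QuotientGroup.mk' (Subgroup.center K))) (hM.comap _) with h1 | h1
      · right; rw [← hc, h1, Subgroup.map_top_of_surjective _ (QuotientGroup.mk'_surjective _)]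
      · left
        rw [← hc, eq_bot_iff]
        rintro _ ⟨m, hm, rfl⟩
        exact (QuotientGroup.eq_one_iff m).mpr (h1 hm)
  have hKl : K ≤ Cfsg.layer G := le_sSup hcomp
  rw [h, le_bot_iff] at hKl
  exact hKF (hKl ▸ bot_le)

theorem odd_orderOf_of_mem {X : Type*} [Group X] [Finite X] {A : Subgroup X}
    (hA : (Nat.card A).Coprime 2) {a : X} (ha : a ∈ A) : (orderOf a).Coprime 2 := by
  refine hA.coprime_dvd_left ?_
  simpa using orderOf_dvd_natCard (⟨a, ha⟩ : A)

theorem mem_of_sq_mem {X : Type*} [Group X] {H : Subgroup X} {a : X} (ha : (orderOf a).Coprime 2)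
    (h : a ^ 2 ∈ H) : a ∈ H := by
  obtain ⟨m, hm⟩ := exists_pow_eq_self_of_coprime ha.symm
  rw [← hm]
  exact H.pow_mem h m

theorem inv_of_sq {X : Type*} [Group X] {y : X} (h : y ^ 2 = 1) : y⁻¹ = y :=
  inv_eq_of_mul_eq_one_left (by rw [← pow_two, h])

/-- An involution `y` of `C` and an odd-order subgroup of `C(y)` normalised by `C(y)`: it
centralises `O₂(C)`. -/
theorem commute_pCore {X : Type*} [Group X] [Finite X] (C A : Subgroup X) {y : X} (hyC : y ∈ C)
    (hy2 : y ^ 2 = 1) (hA : (Nat.card A).Coprime 2) (hAC : A ≤ C)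
    (hAy : ∀ a ∈ A, Commute a y) (hAn : ∀ g ∈ C, Commute g y → ∀ a ∈ A, g * a * g⁻¹ ∈ A) :
    ∀ a ∈ A, ∀ x ∈ Cfsg.pCoreOf 2 C, Commute a x := by
  intro a ha
  have hn : C ≤ Subgroup.normalizer (Cfsg.pCoreOf 2 C : Set X) := by
    intro g hg
    have key : ∀ g ∈ C, ∀ x ∈ Cfsg.pCoreOf 2 C, g * x * g⁻¹ ∈ Cfsg.pCoreOf 2 C := by
      rintro g hg _ ⟨x, hx, rfl⟩
      exact ⟨⟨g, hg⟩ * x * ⟨g, hg⟩⁻¹, (Cfsg.Agent.Cores.pCore_normal 2 ↥C).conj_mem x hx _, rfl⟩
    rw [Subgroup.mem_normalizer_iff]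
    refine fun x => ⟨key g hg x, fun hx => ?_⟩
    simpa [mul_assoc] using key g⁻¹ (inv_mem hg) _ hx
  have hP : IsPGroup 2 ↥(Cfsg.pCoreOf 2 C) := (Cfsg.Agent.Cores.isPGroup_pCore 2 ↥C).map _
  refine Cfsg.Agent.CharP.commute_of_centralizes_centralizer hP
    (Q := Subgroup.zpowers y) ?_ ((Subgroup.zpowers_le.mpr hyC).trans hn)
    (odd_orderOf_of_mem hA ha) (hn (hAC ha)) ?_ ?_
  · rintro ⟨z, hz⟩
    obtain ⟨i, rfl⟩ := Subgroup.mem_zpowers_iff.mp hz
    refine ⟨1, Subtype.ext ?_⟩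
    show (y ^ i) ^ (2 ^ 1) = 1
    rw [pow_one, ← zpow_natCast, ← zpow_mul, mul_comm, zpow_mul, zpow_natCast, hy2, one_zpow]
  · intro q hq
    obtain ⟨i, rfl⟩ := Subgroup.mem_zpowers_iff.mp hq
    exact (hAy a ha).zpow_right i
  · intro x hx hxy
    have hxC : x ∈ C := Subgroup.map_subtype_le _ hx
    have h1 : x * a * x⁻¹ ∈ A := hAn x hxC (hxy y (Subgroup.mem_zpowers y)) a ha
    have h2 : a * x⁻¹ * a⁻¹ ∈ Cfsg.pCoreOf 2 C :=
      (Subgroup.mem_normalizer_iff.mp (hn (hAC ha)) _).mp (inv_mem hx)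
    set c := x * a * x⁻¹ * a⁻¹ with hc
    have hcA : c ∈ A := mul_mem h1 (inv_mem ha)
    have hcP : c ∈ Cfsg.pCoreOf 2 C := by simpa [hc, mul_assoc] using mul_mem hx h2
    obtain ⟨k, hk⟩ := hP ⟨c, hcP⟩
    have hc1 : c = 1 := by
      refine orderOf_eq_one_iff.mp (Nat.eq_one_of_dvd_coprimes
        ((odd_orderOf_of_mem hA hcA).pow_right k) dvd_rfl ?_)
      exact orderOf_dvd_of_pow_eq_one (by simpa using congrArg Subtype.val hk)
    exact ((mul_inv_eq_iff_eq_mul.mp (mul_inv_eq_one.mp hc1))).symm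

/-- A fixed-point-free involution inverts. -/
theorem inverts_of_fpf {X : Type*} [Group X] [Finite X] (A : Subgroup X) {z : X} (hz2 : z ^ 2 = 1)
    (hzA : ∀ a ∈ A, z * a * z⁻¹ ∈ A) (h : ∀ a ∈ A, Commute a z → a = 1) :
    ∀ a ∈ A, z * a * z⁻¹ = a⁻¹ := by
  have hzi : z⁻¹ = z := inv_of_sq hz2
  have hzz : z * z = 1 := by rw [← pow_two, hz2]
  let f : A → A := fun a => ⟨(a : X)⁻¹ * (z * a * z⁻¹), mul_mem (inv_mem a.2) (hzA _ a.2)⟩
  have hf : Function.Injective f := by
    intro a b hab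
    have h1 : (a : X)⁻¹ * (z * a * z⁻¹) = (b : X)⁻¹ * (z * b * z⁻¹) := congrArg Subtype.val hab
    have h2 : (b : X) * (a : X)⁻¹ = z * ((b : X) * (a : X)⁻¹) * z⁻¹ := by
      calc (b : X) * (a : X)⁻¹ = (b : X) * ((a : X)⁻¹ * (z * a * z⁻¹)) * (z * (a : X)⁻¹ * z⁻¹) := by group
        _ = (b : X) * ((b : X)⁻¹ * (z * b * z⁻¹)) * (z * (a : X)⁻¹ * z⁻¹) := by rw [h1]
        _ = z * ((b : X) * (a : X)⁻¹) * z⁻¹ := by group
    have h3 := h _ (mul_mem b.2 (inv_mem a.2)) (eq_mul_inv_iff_mul_eq.mp h2)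
    exact Subtype.ext (mul_inv_eq_one.mp h3).symm
  intro a ha
  obtain ⟨b, hb⟩ := Finite.injective_iff_surjective.mp hf ⟨a, ha⟩
  have hb' : (b : X)⁻¹ * (z * b * z⁻¹) = a := congrArg Subtype.val hb
  rw [← hb', hzi]
  calc z * ((b : X)⁻¹ * (z * b * z)) * z = z * (b : X)⁻¹ * z * b * (z * z) := by group
    _ = z⁻¹ * (b : X)⁻¹ * z⁻¹ * b := by rw [hzz, mul_one, hzi]
    _ = ((b : X)⁻¹ * (z * b * z))⁻¹ := by group

/-- An odd-order group inverted by an involution is commutative. -/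
theorem commute_of_inverts {X : Type*} [Group X] (A : Subgroup X) {z : X}
    (h : ∀ a ∈ A, z * a * z⁻¹ = a⁻¹) : ∀ a ∈ A, ∀ b ∈ A, Commute a b := by
  intro a ha b hb
  have h1 : z * (a * b) * z⁻¹ = (z * a * z⁻¹) * (z * b * z⁻¹) := by group
  rw [h _ (mul_mem ha hb), h a ha, h b hb, mul_inv_rev] at h1
  have h2 := congrArg (fun w => a * b * w * (b * a)) h1
  have h3 : b * a = a * b := by
    calc b * a = a * b * (b⁻¹ * a⁻¹) * (b * a) := by group
      _ = a * b * (a⁻¹ * b⁻¹) * (b * a) := h2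
      _ = a * b := by group
  exact h3.symm

/-- The elements of `A` fixed or inverted by every element of `l`. -/
def eigen {X : Type*} [Group X] (A : Subgroup X) (l : List X) : Set X :=
  {a | a ∈ A ∧ ∀ y ∈ l, y * a * y⁻¹ = a ∨ y * a * y⁻¹ = a⁻¹}

theorem le_closure_eigen {X : Type*} [Group X] (A : Subgroup X)
    (hA : ∀ a ∈ A, (orderOf a).Coprime 2) (hAc : ∀ a ∈ A, ∀ b ∈ A, Commute a b) (l : List X)
    (hn : ∀ y ∈ l, ∀ a ∈ A, y * a * y⁻¹ ∈ A) (h2 : ∀ y ∈ l, y ^ 2 = 1)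
    (hc : ∀ y ∈ l, ∀ y' ∈ l, Commute y y') : A ≤ Subgroup.closure (eigen A l) := by
  induction l with
  | nil => exact fun a ha => Subgroup.subset_closure ⟨ha, by simp⟩
  | cons y l ih =>
    refine le_trans (ih (fun w hw => hn w (List.mem_cons_of_mem y hw))
      (fun w hw => h2 w (List.mem_cons_of_mem y hw))
      (fun w hw w' hw' => hc w (List.mem_cons_of_mem y hw) w' (List.mem_cons_of_mem y hw')))
      ((Subgroup.closure_le _).mpr ?_)
    rintro a ⟨ha, hal⟩
    have hyl : y ∈ y :: l := List.mem_cons_self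
    have hyy : y * y = 1 := by rw [← pow_two, h2 y hyl]
    have hyi : y⁻¹ = y := inv_of_sq (h2 y hyl)
    set a' := y * a * y⁻¹ with ha'
    have ha'A : a' ∈ A := hn y hyl a ha
    have hback : y * a' * y⁻¹ = a := by
      calc y * a' * y⁻¹ = (y * y) * a * (y⁻¹ * y⁻¹) := by rw [ha']; group
        _ = a := by rw [hyi, hyy]; group
    have hb : a * a' ∈ eigen A (y :: l) := by
      refine ⟨mul_mem ha ha'A, fun w hw => ?_⟩
      rcases List.mem_cons.mp hw with rfl | hw
      · left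
        calc w * (a * a') * w⁻¹ = a' * (w * a' * w⁻¹) := by rw [ha']; group
          _ = a * a' := by rw [hback, (hAc a' ha'A a ha).eq]
      · have hwy : w * y = y * w := (hc w (List.mem_cons_of_mem _ hw) y hyl).eq
        have hwa : w * a' * w⁻¹ = y * (w * a * w⁻¹) * y⁻¹ := by
          calc w * a' * w⁻¹ = (w * y) * a * (w * y)⁻¹ := by rw [ha']; group
            _ = y * (w * a * w⁻¹) * y⁻¹ := by rw [hwy]; group
        rcases hal w hw with h | h
        · left
          rw [show w * (a * a') * w⁻¹ = (w * a * w⁻¹) * (w * a' * w⁻¹) by group, hwa, h, ← ha']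
        · right
          rw [show w * (a * a') * w⁻¹ = (w * a * w⁻¹) * (w * a' * w⁻¹) by group, hwa, h,
            show y * a⁻¹ * y⁻¹ = a'⁻¹ by rw [ha']; group]
          exact ((hAc a ha a' ha'A).inv_inv).eq.trans (mul_inv_rev a a').symm
    have hc' : a * a'⁻¹ ∈ eigen A (y :: l) := by
      refine ⟨mul_mem ha (inv_mem ha'A), fun w hw => ?_⟩
      rcases List.mem_cons.mp hw with rfl | hw
      · right
        calc w * (a * a'⁻¹) * w⁻¹ = a' * (w * a' * w⁻¹)⁻¹ := by rw [ha']; group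
          _ = (a * a'⁻¹)⁻¹ := by rw [hback, mul_inv_rev, inv_inv]
      · have hwy : w * y = y * w := (hc w (List.mem_cons_of_mem _ hw) y hyl).eq
        have hwa : w * a' * w⁻¹ = y * (w * a * w⁻¹) * y⁻¹ := by
          calc w * a' * w⁻¹ = (w * y) * a * (w * y)⁻¹ := by rw [ha']; group
            _ = y * (w * a * w⁻¹) * y⁻¹ := by rw [hwy]; group
        rcases hal w hw with h | h
        · left
          rw [show w * (a * a'⁻¹) * w⁻¹ = (w * a * w⁻¹) * (w * a' * w⁻¹)⁻¹ by group, hwa, h, ← ha']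
        · right
          rw [show w * (a * a'⁻¹) * w⁻¹ = (w * a * w⁻¹) * (w * a' * w⁻¹)⁻¹ by group, hwa, h,
            show (y * a⁻¹ * y⁻¹)⁻¹ = a' by rw [ha']; group, mul_inv_rev, inv_inv,
            ((hAc a ha a' ha'A).inv_left).eq]
    refine mem_of_sq_mem (hA a ha) ?_
    have : a ^ 2 = a * a' * (a * a'⁻¹) := by
      rw [(hAc a ha a' ha'A).eq, pow_two]
      calc a * a = a * a' * (a'⁻¹ * a) := by group
        _ = a' * a * (a * a'⁻¹) := by
          rw [(hAc a ha a' ha'A).eq, ((hAc a ha a' ha'A).inv_right).eq]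
    rw [this]
    exact mul_mem (Subgroup.subset_closure hb) (Subgroup.subset_closure hc')

theorem map_centralizerPPrimeCore {X : Type*} [Group X] (p : ℕ) (g y : X) :
    (Cfsg.centralizerPPrimeCore p y).map (MulAut.conj g).toMonoidHom =
      Cfsg.centralizerPPrimeCore p (g * y * g⁻¹) := by
  have heq : (Subgroup.centralizer ({y} : Set X)).map (MulAut.conj g).toMonoidHom
      = Subgroup.centralizer ({g * y * g⁻¹} : Set X) := by
    ext a
    simp only [Subgroup.mem_map, Subgroup.mem_centralizer_singleton_iff]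
    constructor
    · rintro ⟨b, hb, rfl⟩
      have h := congrArg (MulAut.conj g) hb
      simpa [mul_assoc] using h
    · intro ha
      refine ⟨g⁻¹ * a * g, ?_, by simp [mul_assoc]⟩
      have h := congrArg (MulAut.conj g⁻¹) ha
      simpa [mul_assoc] using h
  let e := ((MulAut.conj g).subgroupMap (Subgroup.centralizer ({y} : Set X))).trans
    (MulEquiv.subgroupCongr heq)
  unfold Cfsg.centralizerPPrimeCore
  rw [← Cfsg.Agent.Cores.pPrimeCore_map_mulEquiv e, Subgroup.map_map, Subgroup.map_map]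
  rfl

/-- Let X be a finite group and Y an elementary abelian 2-subgroup of X of order at least 8 such that C_X(x) has no components (E(C_X(x)) = 1) for every nontrivial x ∈ Y, and F*(C_X(z)) = O₂(C_X(z)) for some nontrivial z ∈ Y. Then the subgroup generated by the cores O(C_X(y)), y ∈ Y nontrivial, has odd order and is normalized by N_X(Y). -/
theorem result {X : Type*} [Group X] [Finite X] (Y : Subgroup X) (hY : Cfsg.IsElementaryAbelian 2 Y) (h8 : 8 ≤ Nat.card ↥Y) (hE : ∀ x ∈ Y, x ≠ 1 → Cfsg.layer ↥(Subgroup.centralizer ({x} : Set X)) = ⊥) (hz : ∃ z ∈ Y, z ≠ 1 ∧ Cfsg.generalizedFittingSubgroup ↥(Subgroup.centralizer ({z} : Set X)) = Cfsg.pCore 2 ↥(Subgroup.centralizer ({z} : Set X))) : Odd (Nat.card ↥(⨆ y : {y : X // y ∈ Y ∧ y ≠ 1}, (Cfsg.oddCore ↥(Subgroup.centralizer ({(y : X)} : Set X))).map (Subgroup.centralizer ({(y : X)} : Set X)).subtype)) ∧ Subgroup.normalizer (Y : Set X) ≤ Subgroup.normalizer ((⨆ y : {y : X // y ∈ Y ∧ y ≠ 1},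 (Cfsg.oddCore ↥(Subgroup.centralizer ({(y : X)} : Set X))).map (Subgroup.centralizer ({(y : X)} : Set X)).subtype : Subgroup X) : Set X) := by
  obtain ⟨z, hzY, hz1, hzF⟩ := hz
  set O : X → Subgroup X := fun y => Cfsg.centralizerPPrimeCore 2 y with hO
  have hYc : ∀ a ∈ Y, ∀ b ∈ Y, Commute a b := fun a ha b hb =>
    congrArg Subtype.val (hY.1.is_comm.comm (⟨a, ha⟩ : Y) ⟨b, hb⟩)
  have hY2 : ∀ a ∈ Y, a ^ 2 = 1 := hY.2
  have hmemC : ∀ g y : X, g ∈ Subgroup.centralizer ({y} : Set X) ↔ Commute g y := fun g y =>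
    Subgroup.mem_centralizer_singleton_iff
  have hOle : ∀ y : X, ∀ a ∈ O y, Commute a y := fun y a ha =>
    (hmemC a y).1 (Subgroup.map_subtype_le _ ha)
  have hOodd : ∀ y : X, (Nat.card (O y)).Coprime 2 := by
    intro y
    show (Nat.card ↥((Cfsg.pPrimeCore 2 ↥(Subgroup.centralizer ({y} : Set X))).map
      (Subgroup.centralizer ({y} : Set X)).subtype)).Coprime 2
    rw [Cfsg.Agent.Cores.card_map_subtype]
    exact Cfsg.Agent.Cores.coprime_card_pPrimeCore 2
  have hOn : ∀ y g : X, Commute g y → ∀ a ∈ O y, g * a * g⁻¹ ∈ O y := by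
    rintro y g hg _ ⟨a, ha, rfl⟩
    exact ⟨⟨g, (hmemC g y).2 hg⟩ * a * ⟨g, (hmemC g y).2 hg⟩⁻¹,
      (Cfsg.Agent.Cores.pPrimeCore_normal 2 _).conj_mem a ha _, rfl⟩
  have hself : ∀ x ∈ Y, x ≠ 1 → ∀ d : ↥(Subgroup.centralizer ({x} : Set X)),
      (∀ r ∈ Cfsg.fittingSubgroup ↥(Subgroup.centralizer ({x} : Set X)), Commute d r) →
      d ∈ Cfsg.fittingSubgroup ↥(Subgroup.centralizer ({x} : Set X)) := by
    intro x hx hx1 d hd
    exact centralizer_fitting_le_of_layer_eq_bot (hE x hx hx1)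
      (Subgroup.mem_centralizer_iff.mpr fun r hr => (hd r hr).eq.symm)
  -- odd subgroups of `C(y) ∩ C(z)` normalised by it are trivial
  have hA1 : ∀ y ∈ Y, ∀ A : Subgroup X, (Nat.card A).Coprime 2 →
      (∀ a ∈ A, Commute a y ∧ Commute a z) →
      (∀ g, Commute g y → Commute g z → ∀ a ∈ A, g * a * g⁻¹ ∈ A) → ∀ a ∈ A, a = 1 := by
    intro y hy A hA hAc hAn a ha
    have hcz : a ∈ Subgroup.centralizer ({z} : Set X) := (hmemC a z).2 (hAc a ha).2
    have h := commute_pCore (Subgroup.centralizer ({z} : Set X)) A (y := y) ((hmemC y z).2 (hYc y hy z hzY))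
      (hY2 y hy) hA (fun b hb => (hmemC b z).2 (hAc b hb).2) (fun b hb => (hAc b hb).1)
      (fun g hg hgy => hAn g hgy ((hmemC g z).1 hg)) a ha
    have hF : Cfsg.fittingSubgroup ↥(Subgroup.centralizer ({z} : Set X)) =
        Cfsg.pCore 2 ↥(Subgroup.centralizer ({z} : Set X)) := by
      rw [← hzF, Cfsg.generalizedFittingSubgroup, hE z hzY hz1, bot_sup_eq]
    have hmem := hself z hzY hz1 ⟨a, hcz⟩ fun r hr =>
      Subtype.ext (h r ⟨r, hF ▸ hr, rfl⟩).eq
    rw [hF] at hmem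
    obtain ⟨k, hk⟩ := Cfsg.Agent.Cores.isPGroup_pCore 2 _ ⟨_, hmem⟩
    refine orderOf_eq_one_iff.mp (Nat.eq_one_of_dvd_coprimes
      ((odd_orderOf_of_mem hA ha).pow_right k) dvd_rfl ?_)
    exact orderOf_dvd_of_pow_eq_one
      (by simpa using congrArg Subtype.val (congrArg Subtype.val hk))
  -- `z` inverts every `O y`
  have hinv : ∀ y ∈ Y, ∀ a ∈ O y, z * a * z⁻¹ = a⁻¹ := by
    intro y hy
    refine inverts_of_fpf (O y) (hY2 z hzY) (hOn y z (hYc z hzY y hy)) fun a ha haz => ?_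
    refine hA1 y hy (O y ⊓ Subgroup.centralizer ({z} : Set X))
      ((hOodd y).coprime_dvd_left (Subgroup.card_dvd_of_le inf_le_left))
      (fun b hb => ⟨hOle y b hb.1, (hmemC b z).1 hb.2⟩) ?_ a ⟨ha, (hmemC a z).2 haz⟩
    intro g hgy hgz b hb
    exact ⟨hOn y g hgy b hb.1,
      (hmemC _ z).2 ((hgz.mul_left ((hmemC b z).1 hb.2)).mul_left hgz.inv_left)⟩
  -- balance
  have hbal : ∀ x ∈ Y, ∀ y ∈ Y, y ≠ 1 → ∀ d ∈ O x, Commute d y → d ∈ O y := by
    intro x hx y hy hy1 d hd hdy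
    set C := Subgroup.centralizer ({y} : Set X) with hC
    set D := O x ⊓ C with hD
    have hDodd : (Nat.card D).Coprime 2 :=
      (hOodd x).coprime_dvd_left (Subgroup.card_dvd_of_le inf_le_left)
    set dC : ↥C := ⟨d, (hmemC d y).2 hdy⟩ with hdC
    have hdodd : (orderOf dC).Coprime 2 := by
      rw [← Subgroup.orderOf_coe]; exact odd_orderOf_of_mem (hOodd x) hd
    have hO2 := commute_pCore C D (y := x) ((hmemC x y).2 (hYc x hx y hy)) (hY2 x hx) hDodd
      inf_le_right (fun a ha => hOle x a ha.1)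
      (fun g hg hgx a ha => ⟨hOn x g hgx a ha.1, C.mul_mem (C.mul_mem hg ha.2) (C.inv_mem hg)⟩)
      d ⟨hd, (hmemC d y).2 hdy⟩
    have hOq : ∀ q : ℕ, q.Prime → q ≠ 2 → ∀ r ∈ Cfsg.pCore q ↥C, Commute dC r := by
      intro q hq hq2 r hr
      haveI := Fact.mk hq
      set A := (Cfsg.pCore q ↥C).map C.subtype with hA
      have hAn : ∀ g ∈ C, ∀ a ∈ A, g * a * g⁻¹ ∈ A := by
        rintro g hg _ ⟨a, ha, rfl⟩
        exact ⟨⟨g, hg⟩ * a * ⟨g, hg⟩⁻¹, (Cfsg.Agent.Cores.pCore_normal q ↥C).conj_mem a ha _, rfl⟩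
      have hAodd : (Nat.card A).Coprime 2 := by
        rw [hA, Cfsg.Agent.Cores.card_map_subtype]
        obtain ⟨n, hn⟩ := IsPGroup.iff_card.mp (Cfsg.Agent.Cores.isPGroup_pCore q ↥C)
        rw [hn]
        exact ((Nat.coprime_primes hq Nat.prime_two).mpr hq2).pow_left n
      have hAinv : ∀ a ∈ A, z * a * z⁻¹ = a⁻¹ := by
        refine inverts_of_fpf A (hY2 z hzY) (hAn z ((hmemC z y).2 (hYc z hzY y hy)))
          fun a ha haz => ?_
        refine hA1 y hy (A ⊓ Subgroup.centralizer ({z} : Set X))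
          (hAodd.coprime_dvd_left (Subgroup.card_dvd_of_le inf_le_left))
          (fun b hb => ⟨(hmemC b y).1 (Subgroup.map_subtype_le _ hb.1), (hmemC b z).1 hb.2⟩) ?_ a
          ⟨ha, (hmemC a z).2 haz⟩
        intro g hgy hgz b hb
        exact ⟨hAn g ((hmemC g y).2 hgy) b hb.1,
          (hmemC _ z).2 ((hgz.mul_left ((hmemC b z).1 hb.2)).mul_left hgz.inv_left)⟩
      have hrA : (r : X) ∈ A := ⟨r, hr, rfl⟩
      have h1 : z * d * z⁻¹ = d⁻¹ := hinv x hx d hd
      have h2 := hAinv r hrA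
      have h3 := hAinv _ (hAn d ((hmemC d y).2 hdy) _ hrA)
      have h4 : z * (d * r * d⁻¹) * z⁻¹ = (z * d * z⁻¹) * (z * r * z⁻¹) * (z * d * z⁻¹)⁻¹ := by group
      rw [h1, h2, h3, inv_inv] at h4
      have h5 : d * d * (r : X) = r * (d * d) := by
        calc d * d * (r : X) = d * (d * (r : X)⁻¹ * d⁻¹)⁻¹ * d := by group
          _ = d * ((d * (r : X) * d⁻¹)⁻¹)⁻¹ * d := by group
          _ = d * (d⁻¹ * (r : X)⁻¹ * d)⁻¹ * d := by rw [h4]
          _ = r * (d * d) := by group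
      have h6 : d ∈ Subgroup.centralizer ({(r : X)} : Set X) :=
        mem_of_sq_mem (odd_orderOf_of_mem (hOodd x) hd) ((hmemC _ _).2 (by rw [pow_two]; exact h5))
      exact Subtype.ext ((hmemC d r).1 h6).eq
    have hcent : Cfsg.fittingSubgroup ↥C ≤ Subgroup.centralizer ({dC} : Set ↥C) := by
      rw [Cfsg.Agent.Cores.fittingSubgroup_eq_iSup_pCore]
      refine iSup_le fun q r hr => ?_
      refine Subgroup.mem_centralizer_singleton_iff.mpr ?_
      rcases eq_or_ne (q : ℕ) 2 with h2 | h2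
      · exact (Subtype.ext (hO2 r ⟨r, h2 ▸ hr, rfl⟩).eq : dC * r = r * dC).symm
      · exact (hOq q q.2 h2 r hr).eq.symm
    have hdF : dC ∈ Cfsg.fittingSubgroup ↥C := hself y hy hy1 dC fun r hr =>
      (Subgroup.mem_centralizer_singleton_iff.mp (hcent hr)).symm
    have hdsup : dC ∈ Cfsg.pCore 2 ↥C ⊔ Cfsg.pPrimeCore 2 ↥C := by
      rw [Cfsg.Agent.Cores.fittingSubgroup_eq_iSup_pCore] at hdF
      revert hdF
      refine fun h => (?_ : (⨆ q : Nat.Primes, Cfsg.pCore (q : ℕ) ↥C) ≤ _) h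
      refine iSup_le fun q => ?_
      rcases eq_or_ne (q : ℕ) 2 with h2 | h2
      · rw [h2]; exact le_sup_left
      · refine le_trans (Cfsg.Agent.Cores.le_pPrimeCore inferInstance ?_) le_sup_right
        haveI := Fact.mk q.2
        obtain ⟨n, hn⟩ := IsPGroup.iff_card.mp (Cfsg.Agent.Cores.isPGroup_pCore (q : ℕ) ↥C)
        rw [hn]
        exact ((Nat.coprime_primes q.2 Nat.prime_two).mpr h2).pow_left n
    obtain ⟨u, hu, v, hv, huv⟩ := Subgroup.mem_sup_of_normal_right.mp hdsup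
    obtain ⟨k, hk⟩ := Cfsg.Agent.Cores.isPGroup_pCore 2 ↥C ⟨u, hu⟩
    have hu1 : u ^ 2 ^ k = 1 := by simpa using congrArg Subtype.val hk
    have hpow : dC ^ 2 ^ k ∈ Cfsg.pPrimeCore 2 ↥C := by
      rw [← huv, (Cfsg.Agent.Cores.pCore_pPrimeCore_commute hu hv).mul_pow, hu1, one_mul]
      exact pow_mem hv _
    obtain ⟨m, hm⟩ := exists_pow_eq_self_of_coprime ((hdodd.pow_right k).symm)
    exact ⟨dC, hm ▸ pow_mem hpow m, rfl⟩
  -- the generated subgroup is abelian
  classical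
  haveI := Fintype.ofFinite Y
  let l : List X := (Finset.univ : Finset Y).toList.map Subtype.val
  have hl : ∀ y, y ∈ l ↔ y ∈ Y := fun y => by simp [l]
  let Φ : Set X := {a | a = 1 ∨ ∃ H : Subgroup X, H ≤ Y ∧ Nat.card Y ≤ 2 * Nat.card H ∧
    ∀ h ∈ H, h ≠ 1 → a ∈ O h}
  have hsub : ∀ x ∈ Y, x ≠ 1 → O x ≤ Subgroup.closure Φ := by
    intro x hx hx1
    refine le_trans (le_closure_eigen (O x) (fun a ha => odd_orderOf_of_mem (hOodd x) ha)
      (commute_of_inverts (O x) (hinv x hx)) l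
      (fun y hy => hOn x y (hYc y ((hl y).1 hy) x hx)) (fun y hy => hY2 y ((hl y).1 hy))
      (fun y hy y' hy' => hYc y ((hl y).1 hy) y' ((hl y').1 hy'))) (Subgroup.closure_mono ?_)
    rintro a ⟨ha, hal⟩
    rcases Classical.em (a = 1) with rfl | ha1
    · exact Or.inl rfl
    right
    set H := Y ⊓ Subgroup.centralizer ({a} : Set X) with hH
    refine ⟨H, inf_le_left, ?_, fun h hh hh1 =>
      hbal x hx h hh.1 hh1 a ha ((hmemC h a).1 hh.2).symm⟩
    have hza : z * a * z⁻¹ = a⁻¹ := hinv x hx a ha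
    have hmul : ∀ u ∈ Y, u ∉ H → z * u ∈ H := by
      intro u hu huH
      refine ⟨mul_mem hzY hu, (hmemC _ a).2 ?_⟩
      rcases hal u ((hl u).2 hu) with h | h
      · exact absurd ⟨hu, (hmemC u a).2 (mul_inv_eq_iff_eq_mul.mp h)⟩ huH
      · have h1 : z * u * a * (z * u)⁻¹ = a := by
          calc z * u * a * (z * u)⁻¹ = z * (u * a * u⁻¹) * z⁻¹ := by group
            _ = (z * a * z⁻¹)⁻¹ := by rw [h]; group
            _ = a := by rw [hza, inv_inv]
        exact mul_inv_eq_iff_eq_mul.mp h1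
    let f : Y → H × Bool := fun u =>
      if hu : (u : X) ∈ H then (⟨u, hu⟩, true) else (⟨z * u, hmul u u.2 hu⟩, false)
    have hf : Function.Injective f := by
      intro u v huv
      simp only [f] at huv
      split at huv <;> split at huv
      · exact Subtype.ext (congrArg (fun w : H × Bool => (w.1 : X)) huv)
      · exact absurd (congrArg Prod.snd huv) (by simp)
      · exact absurd (congrArg Prod.snd huv) (by simp)
      · exact Subtype.ext (mul_left_cancel (congrArg (fun w : H × Bool => (w.1 : X)) huv))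
    have := Nat.card_le_card_of_injective f hf
    rw [Nat.card_prod, Nat.card_eq_fintype_card (α := Bool), Fintype.card_bool, mul_comm] at this
    exact this
  have hcomm : ∀ a ∈ Φ, ∀ b ∈ Φ, Commute a b := by
    rintro a (rfl | ⟨H, hHY, hH, ha⟩) b hb
    · exact Commute.one_left b
    rcases hb with rfl | ⟨K, hKY, hK, hb⟩
    · exact Commute.one_right a
    have hne : H ⊓ K ≠ ⊥ := by
      intro hbot
      have h1 := Cfsg.Agent.PLocal.card_mul_card_le H K
      rw [hbot, Subgroup.card_bot, mul_one] at h1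
      have h2 : Nat.card ↥(H ⊔ K) ≤ Nat.card Y :=
        Cfsg.Agent.PLocal.card_le_of_le (sup_le hHY hKY)
      nlinarith
    obtain ⟨h, hh, hh1⟩ := (Subgroup.bot_or_exists_ne_one _).resolve_left hne
    exact commute_of_inverts (O h) (hinv h (hHY hh.1)) a (ha h hh.1 hh1) b (hb h hh.2 hh1)
  have hodd : ∀ a ∈ Φ, (orderOf a).Coprime 2 := by
    rintro a (rfl | ⟨H, -, hH, ha⟩)
    · simp
    have hH1 : H ≠ ⊥ := by
      rintro rfl
      rw [Subgroup.card_bot] at hH
      omega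
    obtain ⟨h, hh, hh1⟩ := (Subgroup.bot_or_exists_ne_one _).resolve_left hH1
    exact odd_orderOf_of_mem (hOodd h) (ha h hh hh1)
  haveI : IsMulCommutative ↥(Subgroup.closure Φ) :=
    Subgroup.isMulCommutative_closure fun a ha b hb => hcomm a ha b hb
  have hcl : ∀ a ∈ Subgroup.closure Φ, (orderOf a).Coprime 2 := by
    intro a ha
    induction ha using Subgroup.closure_induction with
    | mem a ha => exact hodd a ha
    | one => simp
    | mul a b ha hb iha ihb =>
      have hab : Commute a b := congrArg Subtype.val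
        ((inferInstance : IsMulCommutative ↥(Subgroup.closure Φ)).is_comm.comm ⟨a, ha⟩ ⟨b, hb⟩)
      exact (iha.mul_left ihb).coprime_dvd_left hab.orderOf_mul_dvd_mul_orderOf
    | inv a _ iha => rwa [orderOf_inv]
  set S : Subgroup X := ⨆ y : {y : X // y ∈ Y ∧ y ≠ 1}, O (y : X) with hS
  have hSle : S ≤ Subgroup.closure Φ := iSup_le fun y => hsub y y.2.1 y.2.2
  change Odd (Nat.card S) ∧ Subgroup.normalizer (Y : Set X) ≤ Subgroup.normalizer (S : Set X)
  refine ⟨?_, ?_⟩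
  · rw [← Nat.not_even_iff_odd, even_iff_two_dvd]
    intro h
    obtain ⟨w, hw⟩ := exists_prime_orderOf_dvd_card' 2 h
    have hw' := hcl w (hSle w.2)
    rw [Subgroup.orderOf_coe, hw] at hw'
    exact absurd hw' (by norm_num)
  · intro g hg
    have key : ∀ g ∈ Subgroup.normalizer (Y : Set X), ∀ s ∈ S, g * s * g⁻¹ ∈ S := by
      intro g hg s hs
      have hle : S ≤ S.comap (MulAut.conj g).toMonoidHom := by
        refine iSup_le fun y => ?_
        rw [← Subgroup.map_le_iff_le_comap]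
        show (Cfsg.centralizerPPrimeCore 2 (y : X)).map (MulAut.conj g).toMonoidHom ≤ S
        rw [map_centralizerPPrimeCore]
        exact le_iSup (fun y : {y : X // y ∈ Y ∧ y ≠ 1} => O (y : X))
          ⟨g * y * g⁻¹, (Subgroup.mem_normalizer_iff.mp hg _).mp y.2.1,
            fun h => y.2.2 (conj_eq_one_iff.mp h)⟩
      exact hle hs
    rw [Subgroup.mem_normalizer_iff]
    refine fun s => ⟨key g hg s, fun hs => ?_⟩
    simpa [mul_assoc] using key g⁻¹ (inv_mem hg) _ hs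

end Cfsg.Agent.S2924
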