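import Cfsg.Statements.S2925
import Cfsg.Agent.Lib.Components.Basic
import Cfsg.Agent.Lib.Cores.Subnormal
import Cfsg.Agent.Lib.Transfer.Focal

set_option autoImplicit false
open Cfsg

namespace Cfsg.Agent.S2925

/-- Let K be a component of the finite group X and T a Sylow 2-subgroup of X. If some abelian normal subgroup Y of T does not normalize K, then K ⧸ Z(K) has abelian Sylow 2-subgroups. -/
theorem result {X : Type*} [Group X] [Finite X] (K : Subgroup X) (hK : Cfsg.IsComponent K) (T : Sylow 2 X) (Y : Subgroup X) (hYT : Y ≤ (T : Subgroup X)) (hYn : (Y.subgroupOf (T : Subgroup X)).Normal) (hYab : IsMulCommutative ↥Y) (hnot : ¬ Y ≤ Subgroup.normalizer (K : Set X)) (P : Sylow 2 (↥K ⧸ Subgroup.center ↥K)) : IsMulCommutative ↥(P : Subgroup (↥K ⧸ Subgroup.center ↥K)) := by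
  obtain ⟨y, hy, hyK⟩ := SetLike.not_le_iff_exists.mp hnot
  set K' := K.map (MulAut.conj y).toMonoidHom with hK'
  have hne : K ≠ K' := fun h => hyK (Cfsg.Agent.Transfer.map_conj_eq_iff_mem_normalizer.mp h.symm)
  have hKK' : ⁅K, K'⁆ = ⊥ :=
    Cfsg.Agent.Components.IsComponent.commutator_eq_bot hK
      (Cfsg.Agent.Components.IsComponent.conj hK y) hne
  have hcom : ∀ a ∈ K, ∀ b ∈ K', Commute a b := fun a ha b hb =>
    (Subgroup.mem_centralizer_iff.mp ((Subgroup.commutator_eq_bot_iff_le_centralizer.mp hKK') ha) b hb).symm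
  have hY : ∀ s ∈ (T : Subgroup X), s⁻¹ * (y * s * y⁻¹) ∈ Y := by
    intro s hs
    have h1 := hYn.conj_mem ⟨y, hYT hy⟩ hy ⟨s⁻¹, inv_mem hs⟩
    simp only [Subgroup.mem_subgroupOf, Subgroup.coe_mul, Subgroup.coe_inv, inv_inv] at h1
    simpa [mul_assoc] using mul_mem h1 (inv_mem hy)
  obtain ⟨S, hS⟩ := Cfsg.Agent.Cores.sylow_inf_isSubnormal T hK.1
  let f := QuotientGroup.mk' (Subgroup.center ↥K)
  have hf : Function.Surjective f := QuotientGroup.mk'_surjective _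
  have key : ∀ s ∈ (S : Subgroup ↥K), ∀ t ∈ (S : Subgroup ↥K), f s * f t = f t * f s := by
    intro s hs t ht
    rw [hS, Subgroup.mem_subgroupOf] at hs ht
    have hs' : y * (s : X) * y⁻¹ ∈ K' := ⟨s, s.2, rfl⟩
    have ht' : y * (t : X) * y⁻¹ ∈ K' := ⟨t, t.2, rfl⟩
    have hab : (s : X)⁻¹ * (y * s * y⁻¹) * ((t : X)⁻¹ * (y * t * y⁻¹)) =
        (t : X)⁻¹ * (y * t * y⁻¹) * ((s : X)⁻¹ * (y * s * y⁻¹)) :=
      congrArg Subtype.val (hYab.is_comm.comm (⟨_, hY _ hs⟩ : ↥Y) ⟨_, hY _ ht⟩)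
    set s' := y * (s : X) * y⁻¹ with hs'd
    set t' := y * (t : X) * y⁻¹ with ht'd
    have e1 : s' * (t : X)⁻¹ = (t : X)⁻¹ * s' := ((hcom _ (inv_mem t.2) _ hs').symm).eq
    have e2 : t' * (s : X)⁻¹ = (s : X)⁻¹ * t' := ((hcom _ (inv_mem s.2) _ ht').symm).eq
    have e3 : (s : X)⁻¹ * (t : X)⁻¹ * (s' * t') = (t : X)⁻¹ * (s : X)⁻¹ * (t' * s') := by
      calc (s : X)⁻¹ * (t : X)⁻¹ * (s' * t') = (s : X)⁻¹ * ((t : X)⁻¹ * s') * t' := by group
        _ = (s : X)⁻¹ * (s' * (t : X)⁻¹) * t' := by rw [e1]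
        _ = (s : X)⁻¹ * s' * ((t : X)⁻¹ * t') := by group
        _ = (t : X)⁻¹ * t' * ((s : X)⁻¹ * s') := hab
        _ = (t : X)⁻¹ * (t' * (s : X)⁻¹) * s' := by group
        _ = (t : X)⁻¹ * ((s : X)⁻¹ * t') * s' := by rw [e2]
        _ = (t : X)⁻¹ * (s : X)⁻¹ * (t' * s') := by group
    have e4 : (s : X) * t * (s : X)⁻¹ * (t : X)⁻¹ = t' * s' * (t'⁻¹ * s'⁻¹)⁻¹⁻¹ := by
      have h := congrArg (fun z => (s : X) * t * z * (t'⁻¹ * s'⁻¹)) e3
      rw [inv_inv]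
      calc (s : X) * t * (s : X)⁻¹ * (t : X)⁻¹
          = (s : X) * t * ((s : X)⁻¹ * (t : X)⁻¹ * (s' * t')) * (t'⁻¹ * s'⁻¹) := by group
        _ = (s : X) * t * ((t : X)⁻¹ * (s : X)⁻¹ * (t' * s')) * (t'⁻¹ * s'⁻¹) := h
        _ = t' * s' * (t'⁻¹ * s'⁻¹) := by group
    have hz : s * t * s⁻¹ * t⁻¹ ∈ Subgroup.center ↥K := by
      refine Subgroup.mem_center_iff.mpr fun g => Subtype.ext ?_
      simp only [Subgroup.coe_mul, Subgroup.coe_inv]
      refine (hcom g g.2 _ ?_).eq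
      rw [e4, inv_inv]
      exact mul_mem (mul_mem ht' hs') (mul_mem (inv_mem ht') (inv_mem hs'))
    rw [← map_mul, ← map_mul]
    apply mul_inv_eq_one.mp
    rw [← map_inv, ← map_mul]
    refine (QuotientGroup.eq_one_iff _).mpr ?_
    simpa [mul_assoc] using hz
  obtain ⟨g, hg⟩ := MulAction.exists_smul_eq (↥K ⧸ Subgroup.center ↥K) (S.mapSurjective hf) P
  refine ⟨⟨fun a b => ?_⟩⟩
  have hmem : ∀ x ∈ (P : Subgroup (↥K ⧸ Subgroup.center ↥K)),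
      ∃ s ∈ (S : Subgroup ↥K), x = g * f s * g⁻¹ := by
    intro x hx
    rw [← hg, Sylow.coe_subgroup_smul] at hx
    obtain ⟨z, ⟨s, hs, rfl⟩, rfl⟩ := hx
    exact ⟨s, hs, rfl⟩
  obtain ⟨s, hs, hsa⟩ := hmem _ a.2
  obtain ⟨t, ht, htb⟩ := hmem _ b.2
  apply Subtype.ext
  simp only [Subgroup.coe_mul, hsa, htb]
  calc g * f s * g⁻¹ * (g * f t * g⁻¹) = g * (f s * f t) * g⁻¹ := by group
    _ = g * (f t * f s) * g⁻¹ := by rw [key s hs t ht]
    _ = g * f t * g⁻¹ * (g * f s * g⁻¹) := by group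

end Cfsg.Agent.S2925
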