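import Cfsg.Statements.S2928
import Cfsg.Agent.Lib.SymOvergroup.Double

set_option autoImplicit false
open Cfsg

namespace Cfsg.Agent.S2928

/-- The standard pairing `0 ↔ 1`, `2 ↔ 3`, ... of `Fin n`. -/
def pairing (n : ℕ) : Equiv.Perm (Fin n) :=
  Function.Involutive.toPerm
    (fun x => if _h : x.val % 2 = 0 then (if h' : x.val + 1 < n then ⟨x.val + 1, h'⟩ else x)
      else ⟨x.val - 1, by omega⟩)
    (by
      intro x
      apply Fin.ext
      dsimp only
      split_ifs <;> simp at * <;> omega)

theorem pairing_val (n : ℕ) (x : Fin n) : (pairing n x).val =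
    if x.val % 2 = 0 then (if x.val + 1 < n then x.val + 1 else x.val) else x.val - 1 := by
  split_ifs <;> simp [pairing, Function.Involutive.toPerm, *]

/-- The even permutations moving each point at most to its partner form a two-group. -/
theorem exists_pairing_le {n : ℕ} (hn : 8 ≤ n) (H : Subgroup (Equiv.Perm (Fin n)))
    (P : Sylow 2 ↥(alternatingGroup (Fin n)))
    (hP : (P : Subgroup ↥(alternatingGroup (Fin n))).map (alternatingGroup (Fin n)).subtype ≤ H) :
    ∃ τ : Equiv.Perm (Fin n), (∀ x, τ (τ x) = x) ∧ (∀ x y, τ x = x → τ y = y → x = y) ∧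
      8 ≤ τ.support.card ∧
      ∀ g : Equiv.Perm (Fin n), Equiv.Perm.sign g = 1 → (∀ x, g x = x ∨ g x = τ x) → g ∈ H := by
  set τ₀ := pairing n with hτ₀
  have hinv : ∀ x, τ₀ (τ₀ x) = x := fun x => Function.Involutive.toPerm_involutive _ x
  have hfix : ∀ x, τ₀ x = x → x.val + 1 = n := by
    intro x hx
    have h1 := congrArg Fin.val hx
    have h2 := x.isLt
    rw [hτ₀, pairing_val] at h1
    split_ifs at h1 <;> omega
  let A := alternatingGroup (Fin n)
  let Q : Subgroup ↥A :=
    { carrier := {g | ∀ x, (g : Equiv.Perm (Fin n)) x = x ∨ (g : Equiv.Perm (Fin n)) x = τ₀ x}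
      one_mem' := fun x => Or.inl rfl
      mul_mem' := fun {a b} ha hb x => by
        rcases hb x with h | h
        · rcases ha x with h' | h'
          · left; simp [h, h']
          · right; simp [h, h']
        · rcases ha (τ₀ x) with h' | h'
          · right; simp [h, h']
          · left; simp [h, h', hinv]
      inv_mem' := fun {a} ha x => by
        rcases ha ((a : Equiv.Perm (Fin n))⁻¹ x) with h | h
        · left; simpa using h.symm
        · right
          have := congrArg τ₀ h
          rw [hinv] at this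
          simpa using this.symm }
  have hQp : IsPGroup 2 ↥Q := by
    intro g
    refine ⟨1, Subtype.ext (Subtype.ext (Equiv.ext fun x => ?_))⟩
    simp only [pow_one, sq, Subgroup.coe_mul, Subgroup.coe_one, Equiv.Perm.mul_apply,
      Equiv.Perm.one_apply]
    set s : Equiv.Perm (Fin n) := ((g : ↥A) : Equiv.Perm (Fin n))
    rcases g.2 x with h | h
    · rw [h, h]
    · rw [h]
      rcases g.2 (τ₀ x) with h' | h'
      · have := s.injective (h'.trans h.symm)
        rw [h', this]
      · rw [h', hinv]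
  obtain ⟨Q', hQ'⟩ := hQp.exists_le_sylow
  obtain ⟨g₀, hg₀⟩ := MulAction.exists_smul_eq ↥A Q' P
  set g : Equiv.Perm (Fin n) := (g₀ : Equiv.Perm (Fin n)) with hg
  refine ⟨g * τ₀ * g⁻¹, fun x => by simp [hinv], fun x y hx hy => ?_, ?_, fun h hsign hh => ?_⟩
  · have h1 := hfix (g⁻¹ x) (g.injective (by simpa using hx))
    have h2 := hfix (g⁻¹ y) (g.injective (by simpa using hy))
    exact g⁻¹.injective (Fin.ext (by omega))
  · rw [Equiv.Perm.card_support_conj]
    have hsub : (Finset.univ : Finset (Fin 8)).map (Fin.castLEEmb hn) ⊆ τ₀.support := by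
      intro x hx
      obtain ⟨i, -, rfl⟩ := Finset.mem_map.mp hx
      rw [Equiv.Perm.mem_support]
      intro h
      have := hfix _ h
      have := i.isLt
      have h1 := congrArg Fin.val h
      rw [hτ₀, pairing_val] at h1
      simp only [Fin.coe_castLE, Fin.castLEEmb_apply] at *
      split_ifs at h1 <;> omega
    simpa using Finset.card_le_card hsub
  · have hmem : g⁻¹ * h * g ∈ A := by
      rw [Equiv.Perm.mem_alternatingGroup, map_mul, map_mul, map_inv, hsign, mul_one, inv_mul_cancel]
    have hQm : (⟨_, hmem⟩ : ↥A) ∈ Q := by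
      intro x
      rcases hh (g x) with e | e
      · left; simp [e]
      · right; simp [e]
    refine hP ⟨g₀ * ⟨_, hmem⟩ * g₀⁻¹, ?_, ?_⟩
    · rw [← hg₀, Sylow.coe_subgroup_smul]
      exact ⟨⟨_, hmem⟩, hQ' hQm, rfl⟩
    · simp [hg, mul_assoc]


/-- Let n ≥ 8 and let H be a subgroup of the symmetric group of degree n whose generalized Fitting subgroup F*(H) is quasisimple. If H contains a Sylow 2-subgroup of the alternating group of degree n, then F*(H) is isomorphic to an alternating group of degree m for some m ∈ {n − 3, n − 2, n − 1, n}. -/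
theorem result (n : ℕ) (hn : 8 ≤ n) (H : Subgroup (Equiv.Perm (Fin n))) (hF : Cfsg.IsQuasisimple ↥(Cfsg.generalizedFittingSubgroup ↥H)) (hS : ∃ P : Sylow 2 ↥(alternatingGroup (Fin n)), ((P : Subgroup ↥(alternatingGroup (Fin n))).map (alternatingGroup (Fin n)).subtype) ≤ H) : ∃ m : ℕ, (m = n - 3 ∨ m = n - 2 ∨ m = n - 1 ∨ m = n) ∧ Nonempty (↥(Cfsg.generalizedFittingSubgroup ↥H) ≃* ↥(alternatingGroup (Fin m))) := by
  classical
  obtain ⟨P, hP⟩ := hS
  set K := (Cfsg.generalizedFittingSubgroup ↥H).map H.subtype with hKdef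
  have c : Cfsg.Agent.SymOvergroup.Core H K := Cfsg.Agent.SymOvergroup.core_of_quasisimple H hF
  obtain ⟨τ, hτ, hfixτ, hM, hev⟩ := exists_pairing_le hn H P hP
  obtain ⟨y, hy, hy3⟩ := Cfsg.Agent.SymOvergroup.exists_threeCycle c τ hτ hfixτ hM hev
  obtain ⟨B, hKB, hinv, hfix⟩ := Cfsg.Agent.SymOvergroup.exists_block c hy hy3
  have hT : (Bᶜ : Finset (Fin n)).card ≤ 3 := by
    by_contra hlt
    obtain ⟨U, hUsub, hU⟩ := Finset.exists_subset_card_eq (Nat.lt_of_not_le hlt : 4 ≤ Bᶜ.card)
    obtain ⟨u, v, w, z, huv, huw, huz, hvw, hvz, hwz, rfl⟩ := Finset.card_eq_four.mp hU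
    have hnot : ∀ r ∈ ({u, v, w, z} : Finset (Fin n)), ∀ x ∈ B, x ≠ r := fun r hr x hx h =>
      Finset.mem_compl.mp (hUsub hr) (h ▸ hx)
    set Y := (fixingSubgroup (Equiv.Perm (Fin n)) (B : Set (Fin n))).subgroupOf
      (alternatingGroup (Fin n)) with hYdef
    have hN : (P : Subgroup ↥(alternatingGroup (Fin n))) ≤
        Subgroup.normalizer (Y : Set ↥(alternatingGroup (Fin n))) := by
      intro h hh
      have hhH : (h : Equiv.Perm (Fin n)) ∈ H := hP ⟨h, hh, rfl⟩
      have hB : ∀ x, (h : Equiv.Perm (Fin n)) x ∈ B ↔ x ∈ B := fun x =>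
        ⟨fun hx => by simpa using hinv _ (inv_mem hhH) _ hx, hinv _ hhH x⟩
      rw [Subgroup.mem_normalizer_iff]
      intro g
      simp only [hYdef, SetLike.mem_coe, Subgroup.mem_subgroupOf, mem_fixingSubgroup_iff, Equiv.Perm.smul_def,
        Subgroup.coe_mul, InvMemClass.coe_inv, Equiv.Perm.mul_apply]
      constructor
      · intro hg x hx
        rw [hg _ ((hB _).mp (by simpa using hx))]
        simp
      · intro hg x hx
        have := hg ((h : Equiv.Perm (Fin n)) x) ((hB x).mpr hx)
        simpa using this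
    set d : Equiv.Perm (Fin n) := Equiv.swap u v * Equiv.swap w z with hd
    have hdA : d ∈ alternatingGroup (Fin n) := by
      simp [hd, Equiv.Perm.mem_alternatingGroup, Equiv.Perm.sign_swap huv, Equiv.Perm.sign_swap hwz]
    have hdY : (⟨d, hdA⟩ : ↥(alternatingGroup (Fin n))) ∈ Y := by
      rw [hYdef, Subgroup.mem_subgroupOf, mem_fixingSubgroup_iff]
      intro x hx
      simp only [Finset.mem_insert, Finset.mem_singleton] at hnot
      simp only [hd, Equiv.Perm.smul_def, Equiv.Perm.mul_apply]
      rw [Equiv.swap_apply_of_ne_of_ne (hnot w (by simp) x hx) (hnot z (by simp) x hx),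
        Equiv.swap_apply_of_ne_of_ne (hnot u (by simp) x hx) (hnot v (by simp) x hx)]
    have hdd : d * d = 1 := by
      have e : Equiv.swap u v * Equiv.swap w z = Equiv.swap w z * Equiv.swap u v :=
        Cfsg.Agent.SymOvergroup.swap_mul_swap_comm huw huz hvw hvz
      calc d * d = Equiv.swap u v * (Equiv.swap w z * Equiv.swap u v) * Equiv.swap w z := by
            rw [hd]; group
        _ = (Equiv.swap u v * Equiv.swap u v) * (Equiv.swap w z * Equiv.swap w z) := by rw [← e]; group
        _ = 1 := by simp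
    have hdne : d ≠ 1 := by
      intro h
      have := Equiv.congr_fun h u
      simp [hd, Equiv.swap_apply_of_ne_of_ne huw huz] at this
      exact huv this.symm
    have hord : orderOf (⟨d, hdA⟩ : ↥(alternatingGroup (Fin n))) = 2 := by
      rw [← Subgroup.orderOf_coe]
      exact orderOf_eq_prime (by rw [sq]; exact hdd) hdne
    obtain ⟨g, -, hgP, hgY⟩ := Cfsg.Agent.SymOvergroup.exists_conj_mem_sylow P hN hdY
      (IsPGroup.of_card (n := 1) (by rw [Nat.card_zpowers, hord, pow_one]))
    rw [hYdef, Subgroup.mem_subgroupOf, mem_fixingSubgroup_iff] at hgY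
    have h1 := hfix _ (hP ⟨_, hgP, rfl⟩) hgY
    refine hdne ?_
    simpa using h1
  have hcard : B.card ≤ n := by simpa using B.card_le_univ
  rw [Finset.card_compl, Fintype.card_fin] at hT
  exact ⟨B.card, by omega, ⟨((Cfsg.generalizedFittingSubgroup ↥H).equivMapOfInjective H.subtype
    H.subtype_injective).trans ((MulEquiv.subgroupCongr hKB).trans
      (Cfsg.Agent.SymOvergroup.altOnEquiv B))⟩⟩

end Cfsg.Agent.S2928
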