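import Cfsg.Statements.S2929
import Cfsg.Agent.Lib.SymOvergroup.Basic

set_option autoImplicit false
open Cfsg

namespace Cfsg.Agent.S2929

/-- Let n ≥ 5 and let H be a subgroup of the symmetric group of degree n whose generalized Fitting subgroup F*(H) is quasisimple. If H contains a Sylow 3-subgroup of the symmetric group, then F*(H) is isomorphic to an alternating group of degree m for some m ∈ {n − 2, n − 1, n}. -/
theorem result (n : ℕ) (hn : 5 ≤ n) (H : Subgroup (Equiv.Perm (Fin n))) (hF : Cfsg.IsQuasisimple ↥(Cfsg.generalizedFittingSubgroup ↥H)) (hS : ∃ P : Sylow 3 (Equiv.Perm (Fin n)), (P : Subgroup (Equiv.Perm (Fin n))) ≤ H) : ∃ m : ℕ, (m = n - 2 ∨ m = n - 1 ∨ m = n) ∧ Nonempty (↥(Cfsg.generalizedFittingSubgroup ↥H) ≃* ↥(alternatingGroup (Fin m))) := by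
  classical
  obtain ⟨P, hP⟩ := hS
  set K := (Cfsg.generalizedFittingSubgroup ↥H).map H.subtype with hKdef
  have c : Cfsg.Agent.SymOvergroup.Core H K := Cfsg.Agent.SymOvergroup.core_of_quasisimple H hF
  let a : Fin n := ⟨0, by omega⟩
  let b : Fin n := ⟨1, by omega⟩
  let d : Fin n := ⟨2, by omega⟩
  have htri : (Cfsg.Agent.AltAut.tri a b d).IsThreeCycle :=
    Cfsg.Agent.AltAut.isThreeCycle_tri (by simp [a, b]) (by simp [a, d]) (by simp [b, d])
  have hpg : ∀ y : Equiv.Perm (Fin n), y.IsThreeCycle → IsPGroup 3 ↥(Subgroup.zpowers y) := fun y hy =>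
    IsPGroup.of_card (n := 1) (by rw [Nat.card_zpowers, hy.orderOf, pow_one])
  obtain ⟨g, -, hg, -⟩ := Cfsg.Agent.SymOvergroup.exists_conj_mem_sylow P (Y := ⊤)
    (by intro y _; rw [Subgroup.mem_normalizer_iff]; simp) (Subgroup.mem_top _) (hpg _ htri)
  rw [Cfsg.Agent.AltAut.tri_conj] at hg
  obtain ⟨B, hKB, hinv, hfix⟩ := Cfsg.Agent.SymOvergroup.exists_block c (hP hg)
    (Cfsg.Agent.AltAut.isThreeCycle_tri (g.injective.ne (by simp [a, b]))
      (g.injective.ne (by simp [a, d])) (g.injective.ne (by simp [b, d])))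
  have hT : (Bᶜ : Finset (Fin n)).card ≤ 2 := by
    by_contra hlt
    obtain ⟨u, hu, v, hv, w, hw, huv, huw, hvw⟩ := Finset.two_lt_card.mp (Nat.lt_of_not_le hlt)
    rw [Finset.mem_compl] at hu hv hw
    have hN : (P : Subgroup (Equiv.Perm (Fin n))) ≤ Subgroup.normalizer
        ((fixingSubgroup (Equiv.Perm (Fin n)) (B : Set (Fin n))) : Set (Equiv.Perm (Fin n))) := by
      intro h hh
      have hB : ∀ x, h x ∈ B ↔ x ∈ B := fun x =>
        ⟨fun hx => by simpa using hinv _ (inv_mem (hP hh)) _ hx, hinv h (hP hh) x⟩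
      rw [Subgroup.mem_normalizer_iff]
      intro y
      simp only [SetLike.mem_coe, mem_fixingSubgroup_iff, Equiv.Perm.smul_def, Equiv.Perm.mul_apply]
      constructor
      · intro hy x hx
        rw [hy _ ((hB _).mp (by simpa using hx))]
        simp
      · intro hy x hx
        have := hy (h x) ((hB x).mpr hx)
        simpa using this
    have hY : Cfsg.Agent.AltAut.tri u v w ∈
        fixingSubgroup (Equiv.Perm (Fin n)) (B : Set (Fin n)) := by
      rw [mem_fixingSubgroup_iff]
      intro x hx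
      exact Cfsg.Agent.AltAut.tri_apply_ne (fun h => hu (h ▸ hx)) (fun h => hv (h ▸ hx))
        (fun h => hw (h ▸ hx))
    have h3 := Cfsg.Agent.AltAut.isThreeCycle_tri huv huw hvw
    obtain ⟨g', -, hgP, hgY⟩ := Cfsg.Agent.SymOvergroup.exists_conj_mem_sylow P hN hY (hpg _ h3)
    rw [mem_fixingSubgroup_iff] at hgY
    have h1 := hfix _ (hP hgP) hgY
    rw [conj_eq_one_iff] at h1
    exact h3.ne_one h1
  have hcard : B.card ≤ n := by simpa using B.card_le_univ
  rw [Finset.card_compl, Fintype.card_fin] at hT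
  exact ⟨B.card, by omega, ⟨((Cfsg.generalizedFittingSubgroup ↥H).equivMapOfInjective H.subtype
    H.subtype_injective).trans ((MulEquiv.subgroupCongr hKB).trans
      (Cfsg.Agent.SymOvergroup.altOnEquiv B))⟩⟩

end Cfsg.Agent.S2929
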