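import Cfsg.Statements.S2930
import Cfsg.Agent.Lib.AltMinimal.Main
import Cfsg.Agent.Lib.AltAut.Odd
import Cfsg.Agent.Lib.Components.GenFitting
import Cfsg.Agent.Lib.Symplectic.GFit
-- import your own Cfsg.Agent.* helpers here

set_option autoImplicit false
open Cfsg

namespace Cfsg.Agent.S2930

/-- Let X be a finite 3-minimal group (a Sylow 3-subgroup is not normal and lies in a unique maximal subgroup) whose generalized Fitting subgroup is isomorphic to an alternating group of degree n ≥ 5. Then X = F*(X), and n = 6, n = 9, or n = 3ᵃ + 1 for some a ≥ 2. -/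
theorem result {X : Type*} [Group X] [Finite X] (hX : Cfsg.IsPMinimal 3 X) (n : ℕ) (hn : 5 ≤ n) (hF : Nonempty (↥(Cfsg.generalizedFittingSubgroup X) ≃* ↥(alternatingGroup (Fin n)))) : Cfsg.generalizedFittingSubgroup X = ⊤ ∧ (n = 6 ∨ n = 9 ∨ ∃ a : ℕ, 2 ≤ a ∧ n = 3 ^ a + 1) := by
  classical
  obtain ⟨e⟩ := hF
  set N := Cfsg.generalizedFittingSubgroup X with hNdef
  haveI hNn : N.Normal := Cfsg.Agent.Symplectic.generalizedFitting_normal X
  haveI h3 : Fact (Nat.Prime 3) := ⟨by norm_num⟩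
  have hnofix : ∀ τ : Equiv.Perm (Fin n),
      (∀ g ∈ alternatingGroup (Fin n), τ * g = g * τ) → τ = 1 := by
    intro τ hτ
    by_contra hne
    obtain ⟨u, hu⟩ : ∃ u, τ u ≠ u := by
      by_contra h
      push Not at h
      exact hne (Equiv.ext h)
    obtain ⟨w, hw⟩ : ∃ w, w ∉ ({u, τ u, τ (τ u)} : Finset (Fin n)) := by
      by_contra h
      push Not at h
      have : (Finset.univ : Finset (Fin n)) ⊆ {u, τ u, τ (τ u)} := fun y _ => h y
      have := Finset.card_le_card this
      have := Finset.card_le_three (a := u) (b := τ u) (c := τ (τ u))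
      rw [Finset.card_univ, Fintype.card_fin] at *
      omega
    simp only [Finset.mem_insert, Finset.mem_singleton, not_or] at hw
    have hm := Cfsg.Agent.AltMinimal.tri_mem_alternating (Ne.symm hu) (Ne.symm hw.1) (Ne.symm hw.2.1)
    have h4 := Equiv.congr_fun (hτ _ hm) u
    rw [Equiv.Perm.mul_apply, Equiv.Perm.mul_apply, Cfsg.Agent.AltAut.tri_apply_snd,
      Cfsg.Agent.AltAut.tri_apply_fst (Ne.symm hu) (Ne.symm hw.2.1)] at h4
    exact hw.2.2 h4.symm
  have hcen : ∀ x : X, (∀ k ∈ N, k * x = x * k) → x = 1 := by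
    intro x hx
    have hxN : x ∈ N := Cfsg.Agent.Components.centralizer_genFitting_le
      (Subgroup.mem_centralizer_iff.mpr hx)
    have hc : ((e ⟨x, hxN⟩ : ↥(alternatingGroup (Fin n))) : Equiv.Perm (Fin n)) = 1 := by
      refine hnofix _ fun g hg => ?_
      obtain ⟨k, hk⟩ := e.surjective ⟨g, hg⟩
      have := congrArg e (Subtype.ext (hx k k.2).symm : (⟨x, hxN⟩ : ↥N) * k = k * ⟨x, hxN⟩)
      rw [map_mul, map_mul, hk] at this
      exact congrArg Subtype.val this
    have : e ⟨x, hxN⟩ = 1 := Subtype.ext hc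
    rw [MulEquiv.map_eq_one_iff] at this
    exact congrArg Subtype.val this
  have hodd : ∀ x : X, Odd (orderOf x) → x ∈ N := by
    intro x hx
    let c : X →* MulAut ↥(alternatingGroup (Fin n)) :=
      (MulAut.congr e).toMonoidHom.comp MulAut.conjNormal
    have hcinj : ∀ y, c y = 1 → y = 1 := by
      intro y hy
      refine hcen y fun k hk => ?_
      have h1 : MulAut.conjNormal y = (1 : MulAut ↥N) := (MulAut.congr e).injective (by rw [map_one]; exact hy)
      have h2 := congrArg Subtype.val (DFunLike.congr_fun h1 ⟨k, hk⟩)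
      rw [MulAut.conjNormal_apply, MulAut.one_apply] at h2
      exact (mul_inv_eq_iff_eq_mul.mp h2).symm
    have hθ : Odd (orderOf (c x)) := hx.of_dvd_nat (orderOf_map_dvd c x)
    obtain ⟨σ, hσ⟩ := Cfsg.Agent.AltAut.exists_conjNormal_of_odd hn (c x) hθ
    have h1 : MulAut.conjNormal (σ ^ orderOf (c x)) = (1 : MulAut ↥(alternatingGroup (Fin n))) := by
      rw [map_pow, hσ, pow_orderOf_eq_one]
    have h2 : σ ^ orderOf (c x) = 1 := hnofix _ fun g hg => by
      have := congrArg Subtype.val (DFunLike.congr_fun h1 ⟨g, hg⟩)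
      rw [MulAut.conjNormal_apply, MulAut.one_apply] at this
      exact mul_inv_eq_iff_eq_mul.mp this
    have hσA : σ ∈ alternatingGroup (Fin n) := by
      rw [Equiv.Perm.mem_alternatingGroup]
      have h4 := congrArg Equiv.Perm.sign h2
      rw [map_pow, map_one] at h4
      rcases Int.units_eq_one_or (Equiv.Perm.sign σ) with h5 | h5
      · exact h5
      · rw [h5, hθ.neg_one_pow] at h4
        exact absurd h4 (by decide)
    let k : ↥N := e.symm ⟨σ, hσA⟩
    have hck : c k = c x := by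
      rw [← hσ]
      refine MulEquiv.ext fun g => Subtype.ext ?_
      rw [MulAut.conjNormal_apply]
      change ((e (MulAut.conjNormal (k : X) (e.symm g)) : ↥(alternatingGroup (Fin n))) : Equiv.Perm (Fin n)) = _
      have : MulAut.conjNormal (k : X) (e.symm g) = k * e.symm g * k⁻¹ := Subtype.ext (by
        rw [MulAut.conjNormal_apply]; rfl)
      rw [this, map_mul, map_mul, map_inv, MulEquiv.apply_symm_apply, MulEquiv.apply_symm_apply]
      rfl
    have := hcinj (x * (k : X)⁻¹) (by rw [map_mul, map_inv, hck, mul_inv_cancel])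
    rw [mul_inv_eq_one] at this
    exact this ▸ k.2
  have hsyl : ∀ S : Sylow 3 X, (S : Subgroup X) ≤ N := fun S s hs => by
    obtain ⟨j, hj⟩ := S.2 ⟨s, hs⟩
    exact hodd s ((Nat.odd_iff.mpr rfl : Odd 3).pow.of_dvd_nat
      (orderOf_dvd_of_pow_eq_one (n := 3 ^ j) (congrArg Subtype.val hj)))
  have htop : N = ⊤ := by
    by_contra hne
    obtain ⟨S⟩ : Nonempty (Sylow 3 X) := inferInstance
    obtain ⟨hSn, M, ⟨hM, -⟩, huniq⟩ := hX S
    obtain ⟨M₁, hM₁, hNM⟩ := (eq_top_or_exists_le_coatom N).resolve_left hne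
    have e₁ : M₁ = M := huniq M₁ ⟨hM₁, (hsyl S).trans hNM⟩
    set L := Subgroup.normalizer ((S : Subgroup X) : Set X) with hL
    have hLne : L ≠ ⊤ := fun h => hSn (Subgroup.normalizer_eq_top_iff.mp h)
    obtain ⟨M₂, hM₂, hLM⟩ := (eq_top_or_exists_le_coatom L).resolve_left hLne
    have e₂ : M₂ = M := huniq M₂ ⟨hM₂, Subgroup.le_normalizer.trans hLM⟩
    have := Sylow.normalizer_sup_eq_top' S (hsyl S)
    exact hM.1 (top_le_iff.mp (this ▸ sup_le (e₂ ▸ hLM) (e₁ ▸ hNM)))
  refine ⟨htop, ?_⟩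
  let ψ : ↥(alternatingGroup (Fin n)) ≃* X :=
    e.symm.trans ((MulEquiv.subgroupCongr htop).trans Subgroup.topEquiv)
  obtain ⟨S₀⟩ : Nonempty (Sylow 3 X) := inferInstance
  obtain ⟨-, M₀, ⟨hM₀, hS₀M⟩, huniq⟩ := hX S₀
  let f : X →* Equiv.Perm (Fin n) := (alternatingGroup (Fin n)).subtype.comp ψ.symm.toMonoidHom
  have hf : Function.Injective f := Subtype.val_injective.comp ψ.symm.injective
  have hrange : f.range = alternatingGroup (Fin n) := by
    ext g
    exact ⟨fun ⟨x, hx⟩ => hx ▸ (ψ.symm x).2, fun hg => ⟨ψ ⟨g, hg⟩, by simp [f]⟩⟩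
  have hc : Cfsg.Agent.AltMinimal.Ctx ((S₀ : Subgroup X).map f) (M₀.map f) := by
    refine ⟨hrange ▸ Subgroup.map_le_range _ _, S₀.2.map f, fun Q hQ hQp hle => ?_, fun h => ?_,
      fun K hK hKA hKne => ?_⟩
    · have h1 : Q.comap f = (S₀ : Subgroup X) := S₀.3 (hQp.comap_of_injective f hf)
        (fun x hx => hle ⟨x, hx, rfl⟩)
      rw [← h1, Subgroup.map_comap_eq, hrange, inf_eq_right.mpr hQ]
    · refine hM₀.1 (top_le_iff.mp fun x _ => ?_)
      obtain ⟨m, hm, hmx⟩ := h (hrange ▸ ⟨x, rfl⟩ : f x ∈ alternatingGroup (Fin n))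
      exact hf hmx ▸ hm
    · have hKc : K.comap f ≠ ⊤ := fun h => hKne (le_antisymm hKA fun g hg => by
        obtain ⟨x, rfl⟩ := (hrange ▸ hg : g ∈ f.range)
        exact (h ▸ Subgroup.mem_top x : x ∈ K.comap f))
      obtain ⟨M₁, hM₁, hKM⟩ := (eq_top_or_exists_le_coatom (K.comap f)).resolve_left hKc
      have := huniq M₁ ⟨hM₁, fun x hx => hKM (hK ⟨x, hx, rfl⟩)⟩
      intro g hg
      obtain ⟨x, rfl⟩ := (hrange ▸ hKA hg : g ∈ f.range)
      exact ⟨x, this ▸ hKM hg, rfl⟩
  simpa using Cfsg.Agent.AltMinimal.degree hc (by simpa using hn)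

end Cfsg.Agent.S2930
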