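import Cfsg.Statements.S2931
import Cfsg.Agent.EqLemmas
import Cfsg.Agent.Lib.SylowEight.Abstract
import Cfsg.Agent.Lib.SylowEight.ChecksOrth
import Cfsg.Agent.Lib.GLOrder.Symplectic
import Cfsg.Agent.Lib.Forms.Count

set_option autoImplicit false
open Cfsg

namespace Cfsg.Agent.S2931

open SylowEight

/-- The permutation with index `n`. -/
def pPerm (n : Fin 128) : Equiv.Perm (Fin 8) :=
  ⟨pF n, pB n, fun x => (perm_bij n x).1, fun x => (perm_bij n x).2⟩

theorem pPerm_inj : Function.Injective pPerm := by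
  intro n n' h
  have hF : pF n = pF n' := congrArg (fun e : Equiv.Perm (Fin 8) => (e : Fin 8 → Fin 8)) h
  obtain ⟨hnd, hsz, henc⟩ := perm_inj
  have hv : permTbl.getD n.val 0 = permTbl.getD n'.val 0 := by rw [← henc n, ← henc n', hF]
  have hn : n.val < permTbl.size := by rw [hsz]; exact n.2
  have hn' : n'.val < permTbl.size := by rw [hsz]; exact n'.2
  rw [Array.getD_eq_getD_getElem?, Array.getD_eq_getD_getElem?, Array.getElem?_eq_getElem hn,
    Array.getElem?_eq_getElem hn', Option.getD_some, Option.getD_some, ← Array.getElem_toList,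
    ← Array.getElem_toList] at hv
  exact Fin.ext ((List.Nodup.getElem_inj_iff hnd).mp hv)

/-- The tabled representation in the symmetric group. -/
def repS : Rep (Equiv.Perm (Fin 8)) m gInd where
  W := pPerm
  zero := Equiv.ext perm_zero
  step i n := Equiv.ext fun x => perm_mul i n x
  inj := pPerm_inj
  inv n := ⟨SylowEight.inv n, Equiv.ext fun x => perm_inv n x⟩

theorem reach128 : Reach m := fun n hn =>
  let ⟨i, h, h'⟩ := reach n hn
  ⟨i, _, h', h⟩

theorem reach64 : Reach m' := fun n hn =>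
  let ⟨i, h, h'⟩ := reach' n hn
  ⟨i, _, h', h⟩

theorem sign_e64 : ∀ n : Fin 64, Equiv.Perm.sign (pPerm (e64 n)) = 1 := by decide +kernel

theorem inv_e64 : ∀ n : Fin 64, (SylowEight.inv (e64 n)).val < 64 := by decide +kernel

/-- The tabled representation in the alternating group. -/
def repA : Rep (alternatingGroup (Fin 8)) m' gInd' where
  W n := ⟨pPerm (e64 n), Equiv.Perm.mem_alternatingGroup.2 (sign_e64 n)⟩
  zero := Subtype.ext repS.zero
  step i n := Subtype.ext <| by
    show pPerm (e64 (gInd' i)) * pPerm (e64 n) = pPerm (e64 (m' i n))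
    rw [m_e64, g_e64]
    exact repS.step _ _
  inj a b h := Fin.castLE_injective _ (pPerm_inj (congrArg Subtype.val h))
  inv n := by
    refine ⟨⟨(SylowEight.inv (e64 n)).val, inv_e64 n⟩, Subtype.ext ?_⟩
    show pPerm (SylowEight.inv (e64 n)) = (pPerm (e64 n))⁻¹
    exact Equiv.ext fun x => perm_inv (e64 n) x

section Symplectic

variable {F : Type} [Field F] (ψ : ZMod 3 →+* F)

theorem mem_symp (n : Fin 64) : (sN n).map ψ ∈ Matrix.symplecticGroup (Fin 2) F := by
  rw [SymplecticGroup.mem_iff]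
  have hJ : altJ.map ψ = Matrix.J (Fin 2) F := by
    ext i j
    rcases i with i | i <;> rcases j with j | j <;>
      simp [altJ, Matrix.J, Matrix.one_apply, apply_ite ψ]
  rw [← hJ, ← Matrix.transpose_map, ← Matrix.map_mul, ← Matrix.map_mul, symp_form]

/-- The symplectic element with index `n`. -/
def spElt (n : Fin 64) : Matrix.symplecticGroup (Fin 2) F := ⟨(sN n).map ψ, mem_symp ψ n⟩

theorem neg_map (A : Matrix (Fin 2 ⊕ Fin 2) (Fin 2 ⊕ Fin 2) (ZMod 3)) :
    (-A).map ψ = -(A.map ψ) := by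
  ext i j; simp

theorem psp_eq_iff [Finite F] (g h : Matrix.symplecticGroup (Fin 2) F) :
    (QuotientGroup.mk g : Cfsg.PSp 2 F) = QuotientGroup.mk h ↔ g.1 = h.1 ∨ g.1 = -h.1 := by
  rw [QuotientGroup.eq]
  constructor
  · intro hm
    obtain ⟨z, hz, rfl⟩ : ∃ z ∈ Subgroup.center (Matrix.symplecticGroup (Fin 2) F), g * z = h :=
      ⟨_, hm, by group⟩
    rcases GLOrder.center_Sp.1 hz with e | e
    · left
      show g.1 = g.1 * z.1
      rw [e, mul_one]
    · right
      show g.1 = -(g.1 * z.1)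
      rw [e, mul_neg, mul_one, neg_neg]
  · intro hgh
    rw [GLOrder.center_Sp]
    have hi : (g⁻¹).1 * g.1 = 1 := congrArg Subtype.val (inv_mul_cancel g)
    rcases hgh with e | e
    · left
      show (g⁻¹).1 * h.1 = 1
      rw [← e, hi]
    · right
      show (g⁻¹).1 * h.1 = -1
      have e' : h.1 = -g.1 := by rw [e, neg_neg]
      rw [e', mul_neg, hi]

/-- The tabled representation in `PSp_4(3)`. -/
noncomputable def repP [Finite F] : Rep (Cfsg.PSp 2 F) m' gInd' where
  W n := QuotientGroup.mk (spElt ψ n)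
  zero := by
    rw [QuotientGroup.eq_one_iff, GLOrder.center_Sp]
    left
    show (sN 0).map ψ = 1
    rw [symp_zero, Matrix.map_one _ (map_zero ψ) (map_one ψ)]
  step i n := by
    rw [← QuotientGroup.mk_mul, psp_eq_iff]
    show (sN (gInd' i)).map ψ * (sN n).map ψ = (sN (m' i n)).map ψ ∨
      (sN (gInd' i)).map ψ * (sN n).map ψ = -((sN (m' i n)).map ψ)
    rw [← Matrix.map_mul, ← neg_map]
    exact (symp_mul i n).imp (fun e => by rw [e]) (fun e => by rw [e])
  inj a b h := by
    rw [psp_eq_iff] at h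
    obtain ⟨h1, h2, h3⟩ := List.nodup_append.1 symp_inj
    rcases h with e | e
    · have := Matrix.map_injective ψ.injective e
      exact List.nodup_ofFn.1 h1 (congrArg enc this)
    · exfalso
      rw [show (spElt ψ b).1 = (sN b).map ψ from rfl, ← neg_map] at e
      exact h3 _ (List.mem_ofFn.2 ⟨a, rfl⟩) _ (List.mem_ofFn.2 ⟨b, rfl⟩)
        (congrArg enc (Matrix.map_injective ψ.injective e))
  inv n := by
    refine ⟨⟨(SylowEight.inv (e64 n)).val, inv_e64 n⟩, eq_inv_of_mul_eq_one_left ?_⟩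
    rw [← QuotientGroup.mk_mul, QuotientGroup.eq_one_iff, GLOrder.center_Sp]
    show (sN _).map ψ * (sN n).map ψ = 1 ∨ (sN _).map ψ * (sN n).map ψ = -1
    rw [← Matrix.map_mul, ← Matrix.map_one ψ (map_zero ψ) (map_one ψ), ← neg_map]
    exact (symp_inv n).imp (fun e => by rw [e]) (fun e => by rw [e])
where
  symp_inv : ∀ n : Fin 64,
      sN ⟨(SylowEight.inv (e64 n)).val, inv_e64 n⟩ * sN n = 1 ∨
        sN ⟨(SylowEight.inv (e64 n)).val, inv_e64 n⟩ * sN n = -1 := by decide +kernel

end Symplectic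

section Orthogonal

/-- Sum index to `Fin 6`. -/
def six : (Fin 2 ⊕ Fin 2) ⊕ Fin 2 → Fin 6 :=
  Sum.elim (Sum.elim (fun a => ⟨a.val, by omega⟩) (fun a => ⟨2 + a.val, by omega⟩))
    (fun a => ⟨4 + a.val, by omega⟩)

theorem six_bij : Function.Bijective six := by decide

/-- The matrix on the standard index type. -/
def oM (n : Fin 128) : Matrix ((Fin 2 ⊕ Fin 2) ⊕ Fin 2) ((Fin 2 ⊕ Fin 2) ⊕ Fin 2) (ZMod 2) :=
  (oN n).submatrix six six

theorem oM_mul (a b : Fin 128) : oM a * oM b = (oN a * oN b).submatrix six six :=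
  (Matrix.submatrix_mul_equiv (oN a) (oN b) six (Equiv.ofBijective six six_bij) six).symm ▸ rfl

/-- Vectors by number. -/
def vec (v : Fin 64) : (Fin 2 ⊕ Fin 2) ⊕ Fin 2 → ZMod 2 :=
  fun i => ((v.val / 2 ^ (six i).val : ℕ) : ZMod 2)

theorem vec_surj : ∀ c : Fin 6 → ZMod 2, ∃ v : Fin 64, vec v = c ∘ six := by decide +kernel

theorem gen_form : ∀ i : Fin 7, ∀ v : Fin 64,
    Cfsg.quadFormMinus 2 (ZMod 2) 1 1 ((oM (gInd i)).mulVec (vec v)) =
      Cfsg.quadFormMinus 2 (ZMod 2) 1 1 (vec v) := by decide +kernel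

theorem oM_form (n : Fin 128) (w : (Fin 2 ⊕ Fin 2) ⊕ Fin 2 → ZMod 2) :
    Cfsg.quadFormMinus 2 (ZMod 2) 1 1 ((oM n).mulVec w) =
      Cfsg.quadFormMinus 2 (ZMod 2) 1 1 w := by
  suffices H : ∀ (t : ℕ) (n : Fin 128), n.val = t → ∀ w,
      Cfsg.quadFormMinus 2 (ZMod 2) 1 1 ((oM n).mulVec w) =
        Cfsg.quadFormMinus 2 (ZMod 2) 1 1 w from H _ n rfl w
  intro t
  induction t using Nat.strong_induction_on with
  | _ t ih =>
    intro n ht w
    by_cases h0 : n = 0
    · rw [h0, oM, orth_zero, Matrix.submatrix_one _ six_bij.1, Matrix.one_mulVec]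
    obtain ⟨i, n', hlt, he⟩ := reach128 n h0
    have hm : oM n = oM (gInd i) * oM n' := by rw [oM_mul, orth_mul, ← oM, he]
    have hg : ∀ u, Cfsg.quadFormMinus 2 (ZMod 2) 1 1 ((oM (gInd i)).mulVec u) =
        Cfsg.quadFormMinus 2 (ZMod 2) 1 1 u := fun u => by
      obtain ⟨v, hv⟩ := vec_surj (u ∘ (Equiv.ofBijective six six_bij).symm)
      have : vec v = u := hv.trans (funext fun j => congrArg u
        ((Equiv.ofBijective six six_bij).symm_apply_apply j))
      rw [← this]
      exact gen_form i v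
    rw [hm, ← Matrix.mulVec_mulVec, hg]
    exact ih _ (ht ▸ hlt) n' rfl w

theorem oM_inj : Function.Injective oM := by
  intro a b h
  have hN : oN a = oN b := Matrix.ext fun i j => by
    obtain ⟨i', rfl⟩ := six_bij.2 i
    obtain ⟨j', rfl⟩ := six_bij.2 j
    exact congrFun (congrFun h i') j'
  obtain ⟨hnd, hsz, hlt⟩ := orthTbl_ok
  have hbit : ∀ k, k < 36 → orthTbl.getD a.val 0 / 2 ^ k % 2 = orthTbl.getD b.val 0 / 2 ^ k % 2 := by
    intro k hk
    have ha := orth_inj a ⟨k / 6, by omega⟩ ⟨k % 6, by omega⟩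
    have hb := orth_inj b ⟨k / 6, by omega⟩ ⟨k % 6, by omega⟩
    rw [hN] at ha
    rw [show 6 * (k / 6) + k % 6 = k from Nat.div_add_mod k 6] at ha hb
    exact ha.symm.trans hb
  have hv : orthTbl.getD a.val 0 = orthTbl.getD b.val 0 := by
    apply Nat.eq_of_testBit_eq
    intro k
    by_cases hk : k < 36
    · rw [Nat.testBit_eq_decide_div_mod_eq, Nat.testBit_eq_decide_div_mod_eq, hbit k hk]
    · have h2 : 2 ^ 36 ≤ 2 ^ k := Nat.pow_le_pow_right two_pos (by omega)
      rw [Nat.testBit_lt_two_pow ((hlt a).trans_le h2), Nat.testBit_lt_two_pow ((hlt b).trans_le h2)]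
  have ha' : a.val < orthTbl.size := by rw [hsz]; exact a.2
  have hb' : b.val < orthTbl.size := by rw [hsz]; exact b.2
  rw [Array.getD_eq_getD_getElem?, Array.getD_eq_getD_getElem?, Array.getElem?_eq_getElem ha',
    Array.getElem?_eq_getElem hb', Option.getD_some, Option.getD_some, ← Array.getElem_toList,
    ← Array.getElem_toList] at hv
  exact Fin.ext ((List.Nodup.getElem_inj_iff hnd).mp hv)

variable {K : Type} [Field K] (ψ : ZMod 2 ≃+* K)

/-- The orthogonal element with index `n`. -/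
def orthElt (n : Fin 128) : ↥(Cfsg.isometryGroup K (Cfsg.quadFormMinus 2 K 1 1)) :=
  ⟨⟨(oM n).map ψ, (oM (SylowEight.inv n)).map ψ,
    by rw [← Matrix.map_mul, oM_mul, (orth_inv n).1, Matrix.submatrix_one _ six_bij.1,
      Matrix.map_one _ (map_zero ψ) (map_one ψ)],
    by rw [← Matrix.map_mul, oM_mul, (orth_inv n).2, Matrix.submatrix_one _ six_bij.1,
      Matrix.map_one _ (map_zero ψ) (map_one ψ)]⟩, by
    rw [Forms.mem_isometryGroup]
    intro v
    obtain ⟨w, rfl⟩ : ∃ w, (fun i => ψ (w i)) = v :=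
      ⟨fun i => ψ.symm (v i), funext fun i => ψ.apply_symm_apply _⟩
    have hq : ∀ u : (Fin 2 ⊕ Fin 2) ⊕ Fin 2 → ZMod 2,
        Cfsg.quadFormMinus 2 K 1 1 (fun i => ψ (u i)) = ψ (Cfsg.quadFormMinus 2 (ZMod 2) 1 1 u) := by
      intro u; simp only [Cfsg.quadFormMinus, map_add, map_mul, map_pow, map_sum, map_one]
    have hm : ((oM n).map ψ).mulVec (fun i => ψ (w i)) = fun i => ψ ((oM n).mulVec w i) :=
      funext fun i => (RingHom.map_mulVec ψ.toRingHom (oM n) w i).symm
    show Cfsg.quadFormMinus 2 K 1 1 (((oM n).map ψ).mulVec fun i => ψ (w i)) = _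
    rw [hm, hq, hq, oM_form]⟩

/-- The tabled representation in the orthogonal group. -/
def repO : Rep ↥(Cfsg.isometryGroup K (Cfsg.quadFormMinus 2 K 1 1)) m gInd where
  W := orthElt ψ
  zero := Subtype.ext <| Units.ext <| by
    show (oM 0).map ψ = 1
    rw [oM, orth_zero, Matrix.submatrix_one _ six_bij.1, Matrix.map_one _ (map_zero ψ) (map_one ψ)]
  step i n := Subtype.ext <| Units.ext <| by
    show (oM (gInd i)).map ψ * (oM n).map ψ = (oM (m i n)).map ψ
    rw [← Matrix.map_mul, oM_mul, orth_mul, ← oM]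
  inj a b h := oM_inj (Matrix.map_injective ψ.injective
    (congrArg (fun x : ↥(Cfsg.isometryGroup K (Cfsg.quadFormMinus 2 K 1 1)) =>
      ((x : Matrix.GeneralLinearGroup ((Fin 2 ⊕ Fin 2) ⊕ Fin 2) K) :
        Matrix ((Fin 2 ⊕ Fin 2) ⊕ Fin 2) ((Fin 2 ⊕ Fin 2) ⊕ Fin 2) K)) h))
  inv n := ⟨SylowEight.inv n, eq_inv_of_mul_eq_one_left <| Subtype.ext <| Units.ext <| by
    show (oM (SylowEight.inv n)).map ψ * (oM n).map ψ = 1
    rw [← Matrix.map_mul, oM_mul, (orth_inv n).2, Matrix.submatrix_one _ six_bij.1,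
      Matrix.map_one _ (map_zero ψ) (map_one ψ)]⟩

end Orthogonal

theorem two_vals : ∀ y : ZMod 2, y = 0 ∨ y = 1 := by decide

theorem two_add : (1 + 1 : ZMod 2) = 0 := by decide

theorem factorization_two {n j o : ℕ} (hn : n = 2 ^ j * o) (ho : ¬ 2 ∣ o) :
    n.factorization 2 = j := by
  have ho0 : o ≠ 0 := fun e => ho (e ▸ dvd_zero 2)
  rw [hn, Nat.factorization_mul (pow_ne_zero _ two_ne_zero) ho0, Finsupp.add_apply,
    Nat.prime_two.factorization_pow, Finsupp.single_eq_same,
    Nat.factorization_eq_zero_of_not_dvd ho, add_zero]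

/-- The Sylow 2-subgroups of the alternating group of degree 8 and of PSp₄(3) are isomorphic, and so are the Sylow 2-subgroups of the symmetric group of degree 8 and of the full isometry group of a non-degenerate quadratic form of minus type in dimension 6 over the field with 2 elements. -/
theorem result (F : Type) [Field F] [Fintype F] (hF : Fintype.card F = 3) (K : Type) [Field K] [Fintype K] (hK : Fintype.card K = 2) (a b : K) (hab : ∀ z₁ z₂ : K, z₁ ^ 2 + a * z₁ * z₂ + b * z₂ ^ 2 = 0 → z₁ = 0 ∧ z₂ = 0) (P : Sylow 2 ↥(alternatingGroup (Fin 8))) (Q : Sylow 2 (Cfsg.PSp 2 F)) (P' : Sylow 2 (Equiv.Perm (Fin 8))) (Q' : Sylow 2 ↥(Cfsg.isometryGroup K (Cfsg.quadFormMinus 2 K a b))) : Nonempty (↥(P : Subgroup ↥(alternatingGroup (Fin 8))) ≃* ↥(Q : Subgroup (Cfsg.PSp 2 F))) ∧ Nonempty (↥(P' : Subgroup (Equiv.Perm (Fin 8))) ≃* ↥(Q' : Subgroup ↥(Cfsg.isometryGroup K (Cfsg.quadFormMinus 2 K a b)))) := by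
  have hFc : Nat.card F = 3 := by rw [Nat.card_eq_fintype_card, hF]
  have hKc : Nat.card K = 2 := by rw [Nat.card_eq_fintype_card, hK]
  let ψ₂ : ZMod 2 ≃+* K := ZMod.ringEquivOfPrime K Nat.prime_two hK
  let ψ₃ : ZMod 3 ≃+* F := ZMod.ringEquivOfPrime F Nat.prime_three hF
  have : Fact (Nat.Prime 2) := ⟨Nat.prime_two⟩
  -- the coefficients
  have h01 : ∀ x : K, x = 0 ∨ x = 1 := fun x => by
    obtain ⟨y, rfl⟩ := ψ₂.surjective x
    rcases two_vals y with rfl | rfl <;> simp
  obtain rfl : b = 1 := (h01 b).resolve_left fun hb => one_ne_zero (hab 0 1 (by simp [hb])).2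
  obtain rfl : a = 1 := by
    refine (h01 a).resolve_left fun ha => one_ne_zero (hab 1 1 ?_).1
    have h11 : (1 + 1 : K) = 0 := by
      rw [← map_one ψ₂, ← map_add, two_add, map_zero]
    simp [ha, h11]
  constructor
  · obtain ⟨e₁⟩ := nonempty_sylow_equiv reach64 repA (by
      rw [nat_card_alternatingGroup]
      rw [factorization_two (j := 6) (o := 315) (by norm_num [Nat.card_eq_fintype_card,
        Nat.factorial]) (by norm_num)]
      norm_num) P
    obtain ⟨e₂⟩ := nonempty_sylow_equiv reach64 (repP ψ₃.toRingHom) (by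
      have hc := (Subgroup.center (Matrix.symplecticGroup (Fin 2) F)).card_eq_card_quotient_mul_card_subgroup
      rw [GLOrder.card_center_Sp one_le_two, GLOrder.card_Sp, hFc] at hc
      norm_num [Finset.prod_range_succ] at hc
      rw [factorization_two (j := 6) (o := 405) (show Nat.card (Cfsg.PSp 2 F) = 2 ^ 6 * 405 by
        show Nat.card (Matrix.symplecticGroup (Fin 2) F ⧸ Subgroup.center _) = _
        omega) (by norm_num)]
      norm_num) Q
    obtain ⟨e⟩ := nonempty_equiv reach64 repA (repP ψ₃.toRingHom)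
    exact ⟨(e₁.symm.trans e).trans e₂⟩
  · obtain ⟨e₁⟩ := nonempty_sylow_equiv reach128 repS (by
      rw [factorization_two (j := 7) (o := 315) (by norm_num [Nat.card_eq_fintype_card,
        Fintype.card_perm, Nat.factorial]) (by norm_num)]
      norm_num) P'
    obtain ⟨e₂⟩ := nonempty_sylow_equiv reach128 (repO ψ₂) (by
      have hc : Nat.card ↥(Cfsg.isometryGroup K (Cfsg.quadFormMinus 2 K 1 1)) = 51840 := by
        rw [Nat.card_congr (Forms.isometryGroupEquiv (Cfsg.quadFormMinus 2 K 1 1)).toEquiv,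
          ← Forms.qfMinus_eq, Forms.card_preservingFun_qfMinus hab, hKc]
        norm_num [Finset.prod_range_succ]
      rw [factorization_two (j := 7) (o := 405) (by rw [hc]; norm_num) (by norm_num)]
      norm_num) Q'
    obtain ⟨e⟩ := nonempty_equiv reach128 repS (repO ψ₂)
    exact ⟨(e₁.symm.trans e).trans e₂⟩

end Cfsg.Agent.S2931
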