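import Cfsg.Statements.S2932
import Cfsg.Agent.EqLemmas
import Cfsg.Agent.Lib.NatEmbedded.Four

set_option autoImplicit false
open Cfsg

namespace Cfsg.Agent.S2932

/-- Let p be a prime. Inside a finite ambient group let V be an elementary abelian p-subgroup and G a subgroup normalizing V and acting faithfully on it (G ∩ C(V) = 1), and let L ≤ G act on V as SL₂(F) on its natural module, F a finite field of characteristic p, with L ≅ SL₂(F). If every Sylow p-subgroup of N_G(L) is a Sylow p-subgroup of G, then either L is normal in G, or F has 4 elements and G is isomorphic to the alternating group of degree 7. -/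
theorem result {X : Type*} [Group X] [Finite X] {p : ℕ} [Fact p.Prime] (F : Type) [Field F] [Fintype F] [CharP F p] (V G L : Subgroup X) (hV : Cfsg.IsElementaryAbelian p V) (hGV : G ≤ Subgroup.normalizer (V : Set X)) (hfaith : G ⊓ Subgroup.centralizer (V : Set X) = ⊥) (hLG : L ≤ G) (hnat : Cfsg.IsNaturalSL2Module F V L) (hLiso : Nonempty (↥L ≃* Matrix.SpecialLinearGroup (Fin 2) F)) (hSyl : ∀ S : Sylow p ↥(G ⊓ Subgroup.normalizer (L : Set X)), ∀ P : Sylow p ↥G, Nat.card S = Nat.card P) : (L.subgroupOf G).Normal ∨ (Fintype.card F = 4 ∧ Nonempty (↥G ≃* ↥(alternatingGroup (Fin 7)))) := by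
  classical
  obtain ⟨hLn, ρ, ψ, hsur, hker, hact⟩ := hnat
  -- the action of `G` on the module
  let cj : ↥G → ↥V → ↥V := fun g v =>
    ⟨(g : X) * v * (g : X)⁻¹, (Subgroup.mem_normalizer_iff.1 (hGV g.2) _).1 v.2⟩
  let φ : ↥G →* AddMonoid.End (Fin 2 → F) :=
    { toFun := fun g => AddMonoidHom.mk' (fun v => ψ (Additive.ofMul (cj g (Additive.toMul (ψ.symm v)))))
        (fun a b => by
          rw [← map_add, ← ofMul_mul]
          refine congrArg (fun u => ψ (Additive.ofMul u)) (Subtype.ext ?_)
          simp [cj, map_add, mul_assoc])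
      map_one' := AddMonoidHom.ext fun v => by
        show ψ (Additive.ofMul (cj 1 (Additive.toMul (ψ.symm v)))) = v
        rw [show cj 1 (Additive.toMul (ψ.symm v)) = Additive.toMul (ψ.symm v) from
          Subtype.ext (by simp [cj]), ofMul_toMul, AddEquiv.apply_symm_apply]
      map_mul' := fun g h => AddMonoidHom.ext fun v => by
        show ψ (Additive.ofMul (cj (g * h) (Additive.toMul (ψ.symm v)))) =
          ψ (Additive.ofMul (cj g (Additive.toMul (ψ.symm (ψ (Additive.ofMul (cj h
            (Additive.toMul (ψ.symm v)))))))))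
        rw [AddEquiv.symm_apply_apply, toMul_ofMul]
        exact congrArg (fun u => ψ (Additive.ofMul u)) (Subtype.ext (by simp [cj, mul_assoc])) }
  have hφ : Function.Injective φ := by
    rw [← MonoidHom.ker_eq_bot_iff, eq_bot_iff]
    intro g hg
    have hc : (g : X) ∈ G ⊓ Subgroup.centralizer (V : Set X) := by
      refine ⟨g.2, Subgroup.mem_centralizer_iff.2 fun v hv => ?_⟩
      have h := DFunLike.congr_fun (MonoidHom.mem_ker.1 hg) (ψ (Additive.ofMul ⟨v, hv⟩))
      change ψ (Additive.ofMul (cj g (Additive.toMul (ψ.symm (ψ (Additive.ofMul ⟨v, hv⟩)))))) =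
        ψ (Additive.ofMul ⟨v, hv⟩) at h
      rw [AddEquiv.symm_apply_apply, toMul_ofMul] at h
      have h2 := congrArg Subtype.val (Additive.ofMul.injective (ψ.injective h))
      exact (mul_inv_eq_iff_eq_mul.1 h2).symm
    rw [hfaith, Subgroup.mem_bot] at hc
    exact Subtype.ext hc
  have hρ : Function.Injective ρ := by
    rw [← MonoidHom.ker_eq_bot_iff, hker, eq_bot_iff]
    intro l hl
    have hc : (l : X) ∈ G ⊓ Subgroup.centralizer (V : Set X) := ⟨hLG l.2, hl⟩
    rw [hfaith, Subgroup.mem_bot] at hc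
    exact Subtype.ext hc
  let e := MulEquiv.ofBijective ρ ⟨hρ, hsur⟩
  let ι : Matrix.SpecialLinearGroup (Fin 2) F →* ↥G :=
    (Subgroup.inclusion hLG).comp e.symm.toMonoidHom
  have hrange : ι.range = L.subgroupOf G := by
    ext g
    constructor
    · rintro ⟨s, rfl⟩
      exact (e.symm s).2
    · intro hg
      refine ⟨ρ ⟨g, hg⟩, Subtype.ext ?_⟩
      show ((e.symm (e ⟨g, hg⟩) : ↥L) : X) = g
      rw [e.symm_apply_apply]
  have hι : ∀ s v, φ (ι s) v = s.1.mulVec v := by
    intro s v
    obtain ⟨w, hw, hw'⟩ := hact (e.symm s) (Additive.toMul (ψ.symm v))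
    rw [ofMul_toMul, AddEquiv.apply_symm_apply, show ρ (e.symm s) = s from e.apply_symm_apply s] at hw'
    show ψ (Additive.ofMul (cj (ι s) (Additive.toMul (ψ.symm v)))) = _
    rw [← hw', show cj (ι s) (Additive.toMul (ψ.symm v)) = w from Subtype.ext hw.symm]
  -- the Sylow subgroup
  set M : Subgroup X := G ⊓ Subgroup.normalizer (L : Set X) with hM
  have hLM : L ≤ M := le_inf hLG Subgroup.le_normalizer
  let j : Matrix.SpecialLinearGroup (Fin 2) F →* ↥M :=
    (Subgroup.inclusion hLM).comp e.symm.toMonoidHom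
  obtain ⟨S, hS⟩ := ((NatSL2.isPGroup_upperU (F := F) (p := p)).map j).exists_le_sylow
  let S' : Subgroup ↥G := (S : Subgroup ↥M).map (Subgroup.inclusion (inf_le_left : M ≤ G))
  obtain ⟨P, hP⟩ := (S.isPGroup'.map (Subgroup.inclusion (inf_le_left : M ≤ G))).exists_le_sylow
  have hPS : S' = (P : Subgroup ↥G) := Subgroup.eq_of_le_of_card_ge hP (by
    rw [← hSyl S P]
    exact le_of_eq (Nat.card_congr ((S : Subgroup ↥M).equivMapOfInjective _
      (Subgroup.inclusion_injective _)).toEquiv))
  let D : NatEmbedded.Emb p ↥G F :=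
    { φ := φ
      inj := hφ
      ι := ι
      act := hι
      P := P
      P_le := by
        rw [hrange, ← hPS]
        rintro _ ⟨m, -, rfl⟩
        rw [Subgroup.mem_normalizer_iff]
        intro n
        exact Subgroup.mem_normalizer_iff.1 m.2.2 n
      up_mem := fun t => by
        rw [← hPS]
        exact ⟨j (QdOver.up t), hS ⟨_, NatSL2.isU_up t, rfl⟩, rfl⟩ }
  rw [← hrange]
  rcases D.flat_or_four with h | ⟨rfl, hq, hI, hex, ha⟩
  · exact Or.inl (D.normal_of_flat h)
  · rcases D.normal_or_alt_seven hq hI hex ha with h | h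
    · exact Or.inl h
    · exact Or.inr ⟨by rw [← Nat.card_eq_fintype_card, hq], h⟩

end Cfsg.Agent.S2932
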