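import Cfsg.Statements.S2933
import Cfsg.Agent.Lib.FourFixed.Nonabelian

set_option autoImplicit false
open Cfsg
open scoped commutatorElement

namespace Cfsg.Agent.S2933

/-- Conjugation by an element normalizing `T`, as an automorphism of `T`. -/
def conjAut {G : Type*} [Group G] (T : Subgroup G) (g : G) (hg : g ∈ Subgroup.normalizer (T : Set G)) :
    MulAut T where
  toFun x := ⟨g * x * g⁻¹, (Subgroup.mem_normalizer_iff.1 hg x).1 x.2⟩
  invFun x := ⟨g⁻¹ * x * g, by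
    have h := (Subgroup.mem_normalizer_iff.1 (inv_mem hg) x).1 x.2
    rwa [inv_inv] at h⟩
  left_inv x := Subtype.ext (by show g⁻¹ * (g * x * g⁻¹) * g = x; group)
  right_inv x := Subtype.ext (by show g * (g⁻¹ * x * g) * g⁻¹ = x; group)
  map_mul' x y := Subtype.ext (by
    show g * ((x : G) * y) * g⁻¹ = g * x * g⁻¹ * (g * y * g⁻¹); group)

/-- Let T be a 2-subgroup of a finite group G, V ≤ Z(T) a four-group, and t, ρ ∈ N_G(V) ∩ N_G(T) elements of order 2 and 3 with t commuting with ρ and with V. If [V, ρ] = V and C_T(t) = V, then T is elementary abelian of order 16, or homocyclic of rank 2 (ℤ/2ⁿ × ℤ/2ⁿ for some n ≥ 1), or isomorphic to a Sylow 2-subgroup of PSL₃(4) or of PSU₃(4). -/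
theorem result {G : Type*} [Group G] [Finite G] (T V : Subgroup G) (hT : IsPGroup 2 ↥T) (hVT : V ≤ T ⊓ Subgroup.centralizer (T : Set G)) (hV : Nat.card ↥V = 4 ∧ ∀ v ∈ V, v ^ 2 = 1) (t ρ : G) (ht : orderOf t = 2) (hρ : orderOf ρ = 3) (htn : t ∈ Subgroup.normalizer (V : Set G) ⊓ Subgroup.normalizer (T : Set G)) (hρn : ρ ∈ Subgroup.normalizer (V : Set G) ⊓ Subgroup.normalizer (T : Set G)) (htρ : t * ρ = ρ * t) (htV : t ∈ Subgroup.centralizer (V : Set G)) (hVρ : ⁅V, Subgroup.zpowers ρ⁆ = V) (hCt : T ⊓ Subgroup.centralizer ({t} : Set G) = V) : (Nat.card ↥T = 16 ∧ ∀ x ∈ T, x ^ 2 = 1) ∨ (∃ n : ℕ, 1 ≤ n ∧ Nonempty (↥T ≃* Multiplicative (ZMod (2 ^ n)) × Multiplicative (ZMod (2 ^ n)))) ∨ (∃ (F : Type) (_ : Field F) (_ : Fintype F), Fintype.card F = 4 ∧ ∀ P : Sylow 2 (Matrix.ProjectiveSpecialLinearGroup (Fin 3) F), Nonempty (↥T ≃* ↥(P : Subgroup (Matrix.ProjectiveSpecialLinearGroup (Fin 3) F)))) ∨ (∃ (F : Type) (_ : Field F) (_ : Fintype F),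 Fintype.card F = 16 ∧ ∀ P : Sylow 2 (Cfsg.PSU 3 F 4), Nonempty (↥T ≃* ↥(P : Subgroup (Cfsg.PSU 3 F 4)))) := by
  classical
  haveI : Fact (Nat.Prime 2) := ⟨Nat.prime_two⟩
  haveI : Fact (Nat.Prime 3) := ⟨Nat.prime_three⟩
  have ht2 : t * t = 1 := by rw [← pow_two, ← ht, pow_orderOf_eq_one]
  have hρ3 : ρ * ρ * ρ = 1 := by rw [← pow_three', ← hρ, pow_orderOf_eq_one]
  have hVT' := @hVT
  have hVT : V ≤ T := hVT.trans inf_le_left
  -- `ρ` fixes only the identity of `V`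
  have hV1 : ∀ v ∈ V, ρ * v = v * ρ → v = 1 := by
    intro v hv hfix
    by_contra hv1
    haveI := Fintype.ofFinite V
    have hmem : ∀ x ∈ V, ρ * x * ρ⁻¹ ∈ V := fun x hx => (Subgroup.mem_normalizer_iff.1 hρn.1 x).1 hx
    let f : V → V := fun x => ⟨ρ * x * ρ⁻¹, hmem x x.2⟩
    have hm := Equiv.Perm.card_fixedPoints_modEq (f := f) (p := 3) (n := 1) (funext fun x => Subtype.ext (by
      show ρ * (ρ * (ρ * (x : G) * ρ⁻¹) * ρ⁻¹) * ρ⁻¹ = x
      calc _ = (ρ * ρ * ρ) * (x : G) * (ρ * ρ * ρ)⁻¹ := by group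
        _ = x := by rw [hρ3, one_mul, inv_one, mul_one]))
    set K := V ⊓ Subgroup.centralizer ({ρ} : Set G) with hK
    have hFK : Nat.card (Function.fixedPoints f) = Nat.card K := Nat.card_congr
      { toFun := fun x => ⟨x.1.1, x.1.2, Subgroup.mem_centralizer_singleton_iff.2
          (mul_inv_eq_iff_eq_mul.1 (congrArg Subtype.val x.2 : ρ * (x.1 : G) * ρ⁻¹ = x.1)).symm⟩
        invFun := fun x => ⟨⟨x.1, x.2.1⟩, Subtype.ext (mul_inv_eq_iff_eq_mul.2
          (Subgroup.mem_centralizer_singleton_iff.1 x.2.2).symm)⟩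
        left_inv := fun _ => rfl
        right_inv := fun _ => rfl }
    rw [← Nat.card_eq_fintype_card, ← Nat.card_eq_fintype_card, hFK, hV.1] at hm
    have hKd : Nat.card K ∣ 4 := hV.1 ▸ Subgroup.card_dvd_of_le inf_le_left
    have hK1 : Nat.card K ≠ 1 := fun e => hv1 (by
      have hvK : v ∈ K := ⟨hv, Subgroup.mem_centralizer_singleton_iff.2 hfix.symm⟩
      rwa [Subgroup.eq_bot_of_card_eq _ e, Subgroup.mem_bot] at hvK)
    have hK4 : Nat.card K = 4 := by
      unfold Nat.ModEq at hm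
      have := Nat.le_of_dvd (by norm_num) hKd
      interval_cases Nat.card K <;> omega
    have hle : V ≤ Subgroup.centralizer (Subgroup.zpowers ρ : Set G) := fun x hx => by
      have hxK : x ∈ K := by
        have hKV : K = V := Subgroup.eq_of_le_of_card_ge inf_le_left (by rw [hK4, hV.1])
        rwa [hKV]
      rintro _ ⟨k, rfl⟩
      exact (Commute.zpow_left (Subgroup.mem_centralizer_singleton_iff.1 hxK.2).symm k).eq
    rw [Subgroup.commutator_eq_bot_iff_le_centralizer.2 hle] at hVρ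
    rw [← hVρ, Subgroup.card_bot] at hV
    exact absurd hV.1 (by norm_num)
  let τ := conjAut T t htn.2
  let r := conjAut T ρ hρn.2
  let W := V.subgroupOf T
  have hτ2 : ∀ x, τ (τ x) = x := fun x => Subtype.ext (by
    show t * (t * (x : G) * t⁻¹) * t⁻¹ = x
    calc _ = (t * t) * (x : G) * (t * t)⁻¹ := by group
      _ = x := by rw [ht2, one_mul, inv_one, mul_one])
  have hr3 : ∀ x, r (r (r x)) = x := fun x => Subtype.ext (by
    show ρ * (ρ * (ρ * (x : G) * ρ⁻¹) * ρ⁻¹) * ρ⁻¹ = x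
    calc _ = (ρ * ρ * ρ) * (x : G) * (ρ * ρ * ρ)⁻¹ := by group
      _ = x := by rw [hρ3, one_mul, inv_one, mul_one])
  have hcomm : ∀ x, τ (r x) = r (τ x) := fun x => Subtype.ext (by
    show t * (ρ * (x : G) * ρ⁻¹) * t⁻¹ = ρ * (t * (x : G) * t⁻¹) * ρ⁻¹
    calc _ = (t * ρ) * (x : G) * (t * ρ)⁻¹ := by group
      _ = _ := by rw [htρ]; group)
  have hfixτ : ∀ x : T, τ x = x ↔ x ∈ W := fun x => by
    rw [Subgroup.mem_subgroupOf, ← hCt, Subtype.ext_iff]
    show t * (x : G) * t⁻¹ = x ↔ _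
    rw [mul_inv_eq_iff_eq_mul, Subgroup.mem_inf, Subgroup.mem_centralizer_singleton_iff]
    exact ⟨fun e => ⟨x.2, e.symm⟩, fun e => e.2.symm⟩
  have hfixr : ∀ x, r x = x → x = 1 := by
    let C : Subgroup T := MonoidHom.eqLocus (r : T →* T) (MonoidHom.id _)
    have hC : ∀ x, x ∈ C ↔ r x = x := fun x => Iff.rfl
    have hbot : C = ⊥ := FourFixed.eq_bot_of_noFix C (hT.to_subgroup C)
      (fun x => ⟨τ x, (hC _).2 (by rw [← hcomm, (hC _).1 x.2])⟩) (fun x => Subtype.ext (hτ2 x))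
      (Subtype.ext (map_one τ)) fun x hx => by
        have h1 : (x : T) ∈ W := (hfixτ _).1 (congrArg Subtype.val hx)
        have h2 : ρ * (x : G) * ρ⁻¹ = (x : G) := congrArg Subtype.val ((hC _).1 x.2)
        exact Subtype.ext (Subtype.ext (hV1 _ h1 (mul_inv_eq_iff_eq_mul.1 h2)))
    intro x hx
    have h : x ∈ C := (hC x).2 hx
    rwa [hbot, Subgroup.mem_bot] at h
  have S : FourFixed.Setup τ r W := by
    refine ⟨hT, hτ2, hr3, hcomm, ?_, ?_, ?_, hfixτ, hfixr⟩
    · rw [Nat.card_congr (Subgroup.subgroupOfEquivOfLe hVT).toEquiv, hV.1]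
    · exact fun w hw => Subtype.ext (by
        show (w : G) * w = 1
        rw [← pow_two]; exact hV.2 _ hw)
    · intro w hw
      rw [Subgroup.mem_center_iff]
      exact fun g => Subtype.ext ((hVT' hw).2 (g : G) g.2)
  by_cases hab : ∀ a b : T, a * b = b * a
  · rcases S.abelian_cases hab with ⟨hexp, hle⟩ | hom
    · have h3 := S.card_mod_three ⊤ fun _ _ => Subgroup.mem_top _
      have h4 : 4 ≤ Nat.card T := S.card_W ▸ Subgroup.card_le_card_group W
      obtain ⟨k, hk⟩ := IsPGroup.iff_card.mp hT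
      rw [Subgroup.card_top, hk] at h3
      by_cases h16 : Nat.card T = 16
      · refine Or.inl ⟨h16, fun x hx => ?_⟩
        rw [pow_two]
        exact congrArg Subtype.val (hexp ⟨x, hx⟩)
      · have hW : W = ⊤ := by
          refine Subgroup.eq_top_of_card_eq _ ?_
          rw [S.card_W, hk]
          rw [hk] at h4 hle h16
          have hk4 : k ≤ 4 := (Nat.pow_le_pow_iff_right (by norm_num)).1 (show 2 ^ k ≤ 2 ^ 4 by omega)
          interval_cases k <;> omega
        obtain ⟨n, hn, -, -, he, -⟩ := S.homocyclic hab fun x _ => hW ▸ Subgroup.mem_top x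
        exact Or.inr (Or.inl ⟨n, hn, he⟩)
    · obtain ⟨n, hn, -, -, he, -⟩ := S.homocyclic hab hom
      exact Or.inr (Or.inl ⟨n, hn, he⟩)
  · rcases S.nonabelian_cases hab with h | h
    · exact Or.inr (Or.inr (Or.inl h))
    · exact Or.inr (Or.inr (Or.inr h))

end Cfsg.Agent.S2933
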