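import Cfsg.Statements.S2934
import Cfsg.Agent.EqLemmas
import Cfsg.Agent.Lib.Fusion3.Quat
import Cfsg.Agent.Lib.Coprime.Generation
import Cfsg.Agent.Lib.Coprime.Action
import Cfsg.Agent.Lib.PGroup.Basic

set_option autoImplicit false
open Cfsg
open scoped commutatorElement

namespace Cfsg.Agent.S2934

section

open Subgroup Cfsg.Agent.Fusion3
open scoped commutatorElement

theorem perm_six : ∀ σ : Equiv.Perm (Fin 4), σ 0 = 0 → σ ^ 6 = 1 := by decide +kernel

theorem perm_fix_class : ∀ (σ : Equiv.Perm (Fin 4)) (c : Fin 4), σ 0 = 0 → σ ^ 3 = 1 → c ≠ 0 →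
    σ c = c → σ = 1 := by decide +kernel

theorem perm_three : ∀ σ τ : Equiv.Perm (Fin 4), σ 0 = 0 → τ 0 = 0 → σ ^ 3 = 1 → τ ^ 3 = 1 →
    σ ≠ 1 → τ = 1 ∨ τ = σ ∨ τ = σ * σ := by decide +kernel

theorem q8_pair : ∀ y z : Q8, cl y ≠ 0 → cl z ≠ 0 → cl y ≠ cl z →
    ∀ x : Q8, x = 1 ∨ x = y ∨ x = y * y ∨ x = y * y * y ∨ x = z ∨ x = z * z * z ∨ x = y * z ∨
      x = z * y := by decide +kernel

theorem q8_center : ∀ y : Q8, (∀ x : Q8, x * y = y * x) → cl y = 0 := by decide +kernel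

theorem q8_class_zero : ∀ y : Q8, cl y = 0 → y = 1 ∨ y = .a 2 := by decide +kernel

theorem eq_one_of_perm (φ : MulAut Q8) {m : ℕ} (hm : Odd m) (hφ : φ ^ m = 1)
    (h : perm φ = 1) : φ = 1 := by
  have key : ∀ y : Q8, φ y = y ∨ φ y = y * .a 2 := fun y =>
    (cl_eq_iff y (φ y)).1 (by rw [← perm_apply_cl, h, Equiv.Perm.one_apply])
  have h2 : φ ^ 2 = 1 := by
    refine MulEquiv.ext fun y => ?_
    rw [pow_two, MulAut.mul_apply, MulAut.one_apply]
    rcases key y with e | e
    · rw [e, e]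
    · rw [e, map_mul, aut_center, e, mul_assoc, show (QuaternionGroup.a 2 : Q8) * .a 2 = 1 by decide,
        mul_one]
  have := pow_gcd_eq_one' hφ h2
  rwa [show Nat.gcd m 2 = 1 from Nat.coprime_two_right.2 hm, pow_one] at this

theorem perm_cube (φ : MulAut Q8) {m : ℕ} (hm : Odd m) (hφ : φ ^ m = 1) : perm φ ^ 3 = 1 := by
  have h1 : (perm φ ^ 3) ^ 2 = 1 := by rw [← pow_mul]; exact perm_six _ (perm_fix φ)
  have h2 : (perm φ ^ 3) ^ m = 1 := by rw [← map_pow, ← map_pow, ← pow_mul, mul_comm, pow_mul, hφ,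
    one_pow, map_one]
  have := pow_gcd_eq_one' h2 h1
  rwa [show Nat.gcd m 2 = 1 from Nat.coprime_two_right.2 hm, pow_one] at this

theorem cube_eq_one (φ : MulAut Q8) {m : ℕ} (hm : Odd m) (hφ : φ ^ m = 1) : φ ^ 3 = 1 :=
  eq_one_of_perm _ hm (by rw [← pow_mul, mul_comm, pow_mul, hφ, one_pow])
    (by rw [map_pow]; exact perm_cube φ hm hφ)

/-- A 2-group with at most one involution and a non-trivial automorphism of odd order is `Q₈`. -/
theorem equiv_q8 {Y : Type*} [Group Y] [Finite Y] (hY : IsPGroup 2 Y)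
    (huniq : ∀ x y : Y, orderOf x = 2 → orderOf y = 2 → x = y) {φ : MulAut Y} {m : ℕ}
    (hm : Odd m) (hφ : φ ^ m = 1) (hne : φ ≠ 1) : Nonempty (Y ≃* Q8) := by
  haveI : Fact (Nat.Prime 2) := ⟨Nat.prime_two⟩
  have hcases := PGroup.unique_order_p_cases (p := 2) hY fun x y hx hy => by
    rcases eq_or_ne y 1 with rfl | hy1
    · exact one_mem _
    · rw [huniq y x (orderOf_eq_prime hy hy1) hx]
      exact mem_zpowers x
  have hcyc : ¬ IsCyclic Y := fun hc => by
    obtain ⟨k, hk⟩ := IsPGroup.iff_card.mp hY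
    have hp : IsPGroup 2 (MulAut Y) := by
      have hc' := IsCyclic.card_mulAut Y
      rw [hk] at hc'
      rcases k with _ | k
      · exact IsPGroup.of_card (n := 0) (by simpa using hc')
      · exact IsPGroup.of_card (n := k) (by rw [hc', Nat.totient_prime_pow_succ Nat.prime_two]; simp)
    obtain ⟨j, hj⟩ := hp φ
    exact hne (fixes_of_odd_of_two_group hm hφ hj)
  obtain ⟨-, n, ⟨e⟩⟩ := hcases.resolve_left hcyc
  rcases n with _ | _ | n
  · exfalso
    apply hcyc
    have h4 : Nat.card Y = 4 := by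
      rw [Nat.card_congr e.toEquiv, Nat.card_eq_fintype_card, QuaternionGroup.card]
      rfl
    refine isCyclic_of_orderOf_eq_card (e.symm (.xa 0)) ?_
    rw [h4, MulEquiv.orderOf_eq]
    exact QuaternionGroup.orderOf_xa (n := 1) 0
  · exact ⟨e⟩
  · obtain ⟨j, hj⟩ := S5112.aut_congr e (S5112.aut_quaternion (n + 2) (by omega)) φ
    exact absurd (fixes_of_odd_of_two_group hm hφ hj) hne

variable {W : Type*} [Group W] {E : Subgroup (MulAut W)}

/-- The fixed points of `e`. -/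
def fix (e : MulAut W) : Subgroup W where
  carrier := {x | e x = x}
  one_mem' := map_one e
  mul_mem' := fun {a b} ha hb => by show e (a * b) = a * b; rw [map_mul, ha, hb]
  inv_mem' := fun {a} ha => by show e a⁻¹ = a⁻¹; rw [map_inv, ha]

theorem mem_fix {e : MulAut W} {x : W} : x ∈ fix e ↔ e x = x := Iff.rfl

variable [Finite W]

theorem gen (hab : IsMulCommutative ↥E) (hnc : ¬ IsCyclic ↥E)
    (hcop : (Nat.card ↥E).Coprime (Nat.card W)) {H X : Subgroup W}
    (hH : ∀ e ∈ E, ∀ x ∈ H, e x ∈ H)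
    (h : ∀ e ∈ E, e ≠ 1 → ∀ x ∈ H, e x = x → x ∈ X) : H ≤ X := by
  haveI : Finite (Coprime.toSemi ↥E W) := Finite.of_equiv _ SemidirectProduct.equivProd.symm
  let i : W →* Coprime.toSemi ↥E W := SemidirectProduct.inl
  haveI : IsMulCommutative ↥(Coprime.embA ↥E W) := ⟨⟨by
    rintro ⟨_, a, rfl⟩ ⟨_, b, rfl⟩
    exact Subtype.ext ((map_mul _ a b).symm.trans
      ((congrArg _ (hab.is_comm.comm a b)).trans (map_mul _ b a)))⟩⟩
  have hnc' : ¬ IsCyclic ↥(Coprime.embA ↥E W) := fun hc => by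
    have e' := MonoidHom.ofInjective (f := (SemidirectProduct.inr : ↥E →* Coprime.toSemi ↥E W))
      SemidirectProduct.inr_injective
    exact hnc (isCyclic_of_surjective e'.symm.toMonoidHom e'.symm.surjective)
  have hn : Coprime.embA ↥E W ≤ normalizer ((H.map i : Subgroup _) : Set (Coprime.toSemi ↥E W)) := by
    rintro _ ⟨a, rfl⟩
    refine Coprime.mem_normalizer_of_forall ?_
    rintro _ ⟨x, hx, rfl⟩
    exact ⟨a • x, hH a a.2 x hx, (Coprime.inr_conj_inl a x).symm⟩
  have hle := Coprime.le_of_noncyclic (W := X.map i) hnc' hn (by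
    rw [Coprime.card_embA, card_map_of_injective SemidirectProduct.inl_injective]
    exact hcop.coprime_dvd_right (card_subgroup_dvd_card H)) (by
    rintro _ ⟨a, rfl⟩ ha1 _ ⟨⟨x, hx, rfl⟩, hc⟩
    refine mem_map_of_mem _ (h a a.2 (fun ha => ha1 ?_) x hx ?_)
    · rw [show a = 1 from Subtype.ext ha, map_one]
    · have hc' : SemidirectProduct.inr a * i x = i x * SemidirectProduct.inr a :=
        hc _ rfl
      have h1 := Coprime.inr_conj_inl a x
      rw [hc', mul_inv_cancel_right] at h1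
      exact (SemidirectProduct.inl_injective h1).symm)
  intro x hx
  obtain ⟨y, hy, hyx⟩ := hle (mem_map_of_mem i hx)
  exact SemidirectProduct.inl_injective hyx ▸ hy

/-- The automorphism induced on an invariant subgroup. -/
noncomputable def res (f : MulAut W) (H : Subgroup W) (hf : ∀ x ∈ H, f x ∈ H) : MulAut ↥H :=
  MulEquiv.ofBijective
    (MonoidHom.mk' (fun x : ↥H => (⟨f x, hf x x.2⟩ : ↥H)) fun a b => Subtype.ext (map_mul f (a : W) (b : W)))
    (Finite.injective_iff_bijective.1 fun a b h =>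
      Subtype.ext (f.injective (congrArg Subtype.val h)))

theorem res_apply (f : MulAut W) (H : Subgroup W) (hf : ∀ x ∈ H, f x ∈ H) (x : ↥H) :
    (res f H hf x : W) = f (x : W) := rfl

theorem res_pow (f : MulAut W) (H : Subgroup W) (hf : ∀ x ∈ H, f x ∈ H) (k : ℕ) (x : ↥H) :
    ((res f H hf ^ k) x : W) = (f ^ k) (x : W) := by
  induction k with
  | zero => simp
  | succ k ih => rw [pow_succ', MulAut.mul_apply, res_apply, ih, pow_succ', MulAut.mul_apply]

theorem rel_mul_card {A B : Subgroup W} (h : A ≤ B) :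
    A.relIndex B * Nat.card ↥A = Nat.card ↥B := by
  rw [Subgroup.relIndex, ← Nat.card_congr (subgroupOfEquivOfLe h).toEquiv, mul_comm,
    card_mul_index]

theorem Q8_sq : ∀ y : Q8, cl (y * y) = 0 := by decide +kernel

/-- The facts about a centraliser `fix e` on which `E` acts non-trivially. -/
theorem big_facts (hW : IsPGroup 2 W) {p : ℕ} [Fact p.Prime] (hp : p ≠ 2) (hE : IsPGroup p ↥E)
    (hab : IsMulCommutative ↥E)
    (hfix : ∀ e ∈ E, e ≠ 1 → ∀ x y : W, orderOf x = 2 → orderOf y = 2 → e x = x → e y = y → x = y)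
    {e f : MulAut W} (he : e ∈ E) (he1 : e ≠ 1) (hf : f ∈ E) (hne : ¬ ∀ x ∈ fix e, f x = x) :
    p = 3 ∧ ∃ ι : ↥(fix e) ≃* Q8,
      (∀ g ∈ E, ∀ x ∈ fix e, (g * g * g) x = x) ∧
      (∀ g ∈ E, (∀ x ∈ fix e, g x = x) ∨ (∀ x ∈ fix e, (g * f) x = x) ∨
        (∀ x ∈ fix e, (g * (f * f)) x = x)) ∧
      (∀ x : ↥(fix e), (∀ g ∈ E, g x.1 = x.1) → cl (ι x) = 0) ∧
      (∀ x : ↥(fix e), cl (ι x) ≠ 0 → ∀ X : Subgroup W, (∀ g ∈ E, g x.1 ∈ X) → fix e ≤ X) := by
  classical
  have hcomm : ∀ a ∈ E, ∀ b ∈ E, a * b = b * a := fun a ha b hb =>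
    congrArg Subtype.val (hab.is_comm.comm (⟨a, ha⟩ : ↥E) ⟨b, hb⟩)
  have hinv : ∀ g ∈ E, ∀ x ∈ fix e, g x ∈ fix e := fun g hg x hx => by
    show e (g x) = g x
    rw [← MulAut.mul_apply, hcomm e he g hg, MulAut.mul_apply, hx]
  have hodd : ∀ g ∈ E, Odd (orderOf g) := fun g hg => by
    obtain ⟨k, hk⟩ := hE ⟨g, hg⟩
    have hd : orderOf g ∣ p ^ k := orderOf_dvd_of_pow_eq_one (congrArg Subtype.val hk)
    exact Odd.of_dvd_nat (((Fact.out : p.Prime).odd_of_ne_two hp).pow) hd
  have hres : ∀ g (hg : g ∈ E), res g (fix e) (hinv g hg) ^ orderOf g = 1 := fun g hg =>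
    MulEquiv.ext fun x => Subtype.ext (by rw [res_pow, pow_orderOf_eq_one]; rfl)
  have huniq : ∀ x y : ↥(fix e), orderOf x = 2 → orderOf y = 2 → x = y := fun x y hx hy =>
    Subtype.ext (hfix e he he1 x y ((Subgroup.orderOf_coe x).trans hx)
      ((Subgroup.orderOf_coe y).trans hy) x.2 y.2)
  have hfne : res f (fix e) (hinv f hf) ≠ 1 := fun h => hne fun x hx =>
    congrArg Subtype.val (DFunLike.congr_fun h (⟨x, hx⟩ : ↥(fix e)))
  obtain ⟨ι⟩ := equiv_q8 (hW.to_subgroup (fix e)) huniq (hodd f hf) (hres f hf) hfne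
  let ψ : ∀ g, g ∈ E → MulAut Q8 := fun g hg => MulAut.congr ι (res g (fix e) (hinv g hg))
  have hψap : ∀ g (hg : g ∈ E) (x : ↥(fix e)), ψ g hg (ι x) = ι ⟨g x.1, hinv g hg x.1 x.2⟩ :=
    fun g hg x => by
      show ι (res g (fix e) (hinv g hg) (ι.symm (ι x))) = _
      rw [MulEquiv.symm_apply_apply]
      rfl
  have hψfix : ∀ g (hg : g ∈ E), ψ g hg = 1 → ∀ x ∈ fix e, g x = x := fun g hg h x hx => by
    have h1 := hψap g hg ⟨x, hx⟩
    rw [h, MulAut.one_apply] at h1
    exact (congrArg Subtype.val (ι.injective h1)).symm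
  have hψodd : ∀ g (hg : g ∈ E), ψ g hg ^ orderOf g = 1 := fun g hg => by
    show MulAut.congr ι _ ^ orderOf g = 1
    rw [← map_pow, hres g hg, map_one]
  have hfψ : perm (ψ f hf) ≠ 1 := fun h =>
    hne (hψfix f hf (eq_one_of_perm _ (hodd f hf) (hψodd f hf) h))
  have hmul : ∀ g (hg : g ∈ E) k (hk : k ∈ E), ψ (g * k) (mul_mem hg hk) = ψ g hg * ψ k hk :=
    fun g hg k hk => MulEquiv.ext fun y => by
      obtain ⟨x, rfl⟩ := ι.surjective y
      rw [MulAut.mul_apply, hψap (g * k) (mul_mem hg hk), hψap k hk, hψap g hg]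
      rfl
  have hperm1 : ∀ g (hg : g ∈ E), perm (ψ g hg) = 1 → ∀ x ∈ fix e, g x = x := fun g hg h =>
    hψfix g hg (eq_one_of_perm _ (hodd g hg) (hψodd g hg) h)
  have hcube : ∀ g ∈ E, ∀ x ∈ fix e, (g * g * g) x = x := fun g hg => by
    refine hperm1 _ (mul_mem (mul_mem hg hg) hg) ?_
    rw [hmul (g * g) (mul_mem hg hg) g hg, hmul g hg g hg, map_mul, map_mul, ← pow_three']
    exact perm_cube _ (hodd g hg) (hψodd g hg)
  have hp3 : p = 3 := by
    by_contra hp3
    obtain ⟨k, hk⟩ := hE ⟨f, hf⟩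
    have h1 : f ^ p ^ k = 1 := congrArg Subtype.val hk
    have h2 : ψ f hf ^ p ^ k = 1 := by
      show MulAut.congr ι _ ^ p ^ k = 1
      rw [← map_pow, show res f (fix e) (hinv f hf) ^ p ^ k = 1 from
        MulEquiv.ext fun x => Subtype.ext (by rw [res_pow, h1]; rfl), map_one]
    have h3 := pow_gcd_eq_one' (congrArg perm h2 |>.trans (map_one perm) |> fun h => by
      rwa [map_pow] at h) (perm_cube _ (hodd f hf) (hψodd f hf))
    rw [show Nat.gcd (p ^ k) 3 = 1 from
      ((Nat.coprime_primes Fact.out Nat.prime_three).2 hp3).pow_left k, pow_one] at h3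
    exact hfψ h3
  refine ⟨hp3, ι, hcube, fun g hg => ?_, fun x hx => ?_, fun x hx X hX => ?_⟩
  · rcases perm_three _ (perm (ψ g hg)) (perm_fix _) (perm_fix _)
      (perm_cube _ (hodd f hf) (hψodd f hf)) (perm_cube _ (hodd g hg) (hψodd g hg)) hfψ with h | h | h
    · exact Or.inl (hperm1 g hg h)
    · refine Or.inr (Or.inr (hperm1 _ (mul_mem hg (mul_mem hf hf)) ?_))
      rw [hmul g hg _ (mul_mem hf hf), hmul f hf f hf, map_mul, map_mul, h, ← mul_assoc,
        ← pow_three']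
      exact perm_cube _ (hodd f hf) (hψodd f hf)
    · refine Or.inr (Or.inl (hperm1 _ (mul_mem hg hf) ?_))
      rw [hmul g hg f hf, map_mul, h, ← pow_three']
      exact perm_cube _ (hodd f hf) (hψodd f hf)
  · by_contra hc
    refine hfψ (perm_fix_class _ _ (perm_fix _) (perm_cube _ (hodd f hf) (hψodd f hf)) hc ?_)
    rw [perm_apply_cl, hψap f hf]
    exact congrArg (fun y => cl (ι y)) (Subtype.ext (hx f hf))
  · have hcl : cl (ψ f hf (ι x)) ≠ cl (ι x) := fun h => hfψ (perm_fix_class _ _ (perm_fix _)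
      (perm_cube _ (hodd f hf) (hψodd f hf)) hx ((perm_apply_cl _ _).trans h))
    have h0 : cl (ψ f hf (ι x)) ≠ 0 := fun h => hx ((perm (ψ f hf)).injective (by
      rw [perm_apply_cl, perm_fix, h]))
    intro w hw
    set x' : ↥(fix e) := ⟨f x.1, hinv f hf x.1 x.2⟩ with hx'
    have hxX : x.1 ∈ X := by
      have := hX 1 (one_mem E)
      rwa [MulAut.one_apply] at this
    have hx'X : x'.1 ∈ X := hX f hf
    obtain ⟨w', hw'⟩ : ∃ w' : ↥(fix e), w' = ⟨w, hw⟩ := ⟨_, rfl⟩
    rw [show w = w'.1 by rw [hw']]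
    rcases q8_pair (ι x) (ι x') hx (by rwa [hψap f hf] at h0) (fun h => hcl (by rw [hψap f hf]; exact h.symm))
      (ι w') with h | h | h | h | h | h | h | h <;>
      (try simp only [← map_one ι] at h) <;> (try simp only [← map_mul] at h) <;> rw [ι.injective h]
    · exact one_mem X
    · exact hxX
    · exact mul_mem hxX hxX
    · exact mul_mem (mul_mem hxX hxX) hxX
    · exact hx'X
    · exact mul_mem (mul_mem hx'X hx'X) hx'X
    · exact mul_mem hxX hx'X
    · exact mul_mem hx'X hxX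

theorem card_iSup {ι : Type*} (s : Finset ι) (C : ι → Subgroup W) (Z : Subgroup W)
    (hZ : Nat.card ↥Z = 2) (hZC : ∀ i, Z ≤ C i) (hC : ∀ i ∈ s, Nat.card ↥(C i) = 2 ∨
      Nat.card ↥(C i) = 8)
    (hcomm : ∀ i ∈ s, ∀ j ∈ s, i ≠ j → ∀ x ∈ C i, ∀ y ∈ C j, x * y = y * x)
    (hcen : ∀ i ∈ s, ∀ x ∈ C i, (∀ y ∈ C i, y * x = x * y) → x ∈ Z)
    (hnorm : ∀ i ∈ s, (C i).Normal) (hZc : ∀ w ∈ Z, ∀ y : W, y * w = w * y) :
    ∃ k ≤ s.card, Nat.card ↥(Z ⊔ ⨆ i ∈ s, C i) = 2 * 4 ^ k := by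
  classical
  induction s using Finset.induction with
  | empty => exact ⟨0, le_rfl, by simp [hZ]⟩
  | @insert a t hat ih =>
    obtain ⟨k, hk, hcard⟩ := ih (fun i hi => hC i (Finset.mem_insert_of_mem hi))
      (fun i hi j hj => hcomm i (Finset.mem_insert_of_mem hi) j (Finset.mem_insert_of_mem hj))
      (fun i hi => hcen i (Finset.mem_insert_of_mem hi))
      (fun i hi => hnorm i (Finset.mem_insert_of_mem hi))
    set N := Z ⊔ ⨆ i ∈ t, C i with hN
    haveI := hnorm a (Finset.mem_insert_self a t)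
    have hsup : (Z ⊔ ⨆ i ∈ insert a t, C i) = N ⊔ C a := by
      rw [Finset.iSup_insert, hN, sup_assoc, sup_comm (C a)]
    have hNc : ∀ y ∈ C a, (∀ w ∈ Z, y * w = w * y) → ∀ x ∈ N, y * x = x * y := by
      intro y hy hyZ x hx
      have hle : N ≤ centralizer {y} := sup_le (fun w hw => mem_centralizer_singleton_iff.2
          (hyZ w hw).symm) (iSup₂_le fun i hi w hw => mem_centralizer_singleton_iff.2
          (hcomm a (Finset.mem_insert_self a t) i (Finset.mem_insert_of_mem hi)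
            (fun e => hat (e ▸ hi)) y hy w hw).symm)
      exact (mem_centralizer_singleton_iff.1 (hle hx)).symm
    have hinf : N ⊓ C a = Z := by
      refine le_antisymm (fun x hx => hcen a (Finset.mem_insert_self a t) x hx.2 fun y hy => ?_)
        (le_inf le_sup_left (hZC a))
      refine hNc y hy (fun w hw => ?_) x hx.1
      exact hZc w hw y
    have hmul : Nat.card ↥(N ⊔ C a : Subgroup W) * 2 = Nat.card ↥N * Nat.card ↥(C a) := by
      have h1 := rel_mul_card (le_sup_right : C a ≤ N ⊔ C a)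
      rw [relIndex_sup_right] at h1
      have h2 := rel_mul_card (inf_le_left : N ⊓ C a ≤ N)
      rw [inf_relIndex_left, hinf, hZ] at h2
      rw [← h1, ← h2]
      ring
    rw [hsup]
    rcases hC a (Finset.mem_insert_self a t) with h | h
    · refine ⟨k, hk.trans (Finset.card_le_card (Finset.subset_insert a t)), ?_⟩
      rw [h, hcard] at hmul
      omega
    · refine ⟨k + 1, by rw [Finset.card_insert_of_notMem hat]; omega, ?_⟩
      rw [h, hcard] at hmul
      rw [pow_succ]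
      omega

end

/- Let p be an odd prime, W a finite 2-group and E a non-cyclic abelian p-subgroup of Aut(W) such that, for every nontrivial e ∈ E, the fixed points of e in W contain at most one involution. Then E has order 9, W is extraspecial of order 2⁵, 2⁷ or 2⁹, and the common fixed points of E in W form exactly the centre Z(W). -/
open Cfsg.Agent.Fusion3 (cl) in
theorem result {W : Type*} [Group W] [Finite W] (hW : IsPGroup 2 W) {p : ℕ} [Fact p.Prime] (hp : p ≠ 2) (E : Subgroup (MulAut W)) (hE : IsPGroup p ↥E) (hab : IsMulCommutative ↥E) (hnc : ¬ IsCyclic ↥E) (hfix : ∀ e ∈ E, e ≠ 1 → ∀ x y : W, orderOf x = 2 → orderOf y = 2 → e x = x → e y = y → x = y) : Nat.card ↥E = 9 ∧ Cfsg.IsExtraspecial 2 W ∧ (Nat.card W = 2 ^ 5 ∨ Nat.card W = 2 ^ 7 ∨ Nat.card W = 2 ^ 9) ∧ {x : W | ∀ e ∈ E, e x = x} = (Subgroup.center W : Set W) := by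
  classical
  haveI : Fact (Nat.Prime 2) := ⟨Nat.prime_two⟩
  have hcomm : ∀ a ∈ E, ∀ b ∈ E, a * b = b * a := fun a ha b hb =>
    congrArg Subtype.val (hab.is_comm.comm (⟨a, ha⟩ : ↥E) ⟨b, hb⟩)
  have hinv : ∀ e ∈ E, ∀ g ∈ E, ∀ x ∈ fix e, g x ∈ fix e := fun e he g hg x hx => by
    show e (g x) = g x
    rw [← MulAut.mul_apply, hcomm e he g hg, MulAut.mul_apply, hx]
  have hcop : (Nat.card ↥E).Coprime (Nat.card W) := by
    obtain ⟨a, ha⟩ := IsPGroup.iff_card.mp hE
    obtain ⟨b, hb⟩ := IsPGroup.iff_card.mp hW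
    rw [ha, hb]
    exact ((Nat.coprime_primes Fact.out Nat.prime_two).2 hp).pow a b
  have eqOne : ∀ f : MulAut W, (∀ x, f x = x) → f = 1 := fun f h =>
    MulEquiv.ext fun x => by rw [h x]; rfl
  have genTop : ∀ {X : Subgroup W}, (∀ e ∈ E, e ≠ 1 → fix e ≤ X) → ∀ x, x ∈ X := fun {X} h x =>
    gen hab hnc hcop (fun _ _ _ _ => Subgroup.mem_top _) (fun e he he1 y _ hy => h e he he1 hy)
      (Subgroup.mem_top x)
  obtain ⟨e₀, he₀, he₀1, f₀, hf₀, hne₀⟩ :
      ∃ e ∈ E, e ≠ 1 ∧ ∃ f ∈ E, ¬ ∀ x ∈ fix e, f x = x := by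
    by_contra hno
    push Not at hno
    have hbot : ∀ f ∈ E, f = 1 := fun f hf =>
      eqOne f (genTop (X := fix f) fun e he he1 x hx => hno e he he1 f hf x hx)
    haveI : Subsingleton ↥E := ⟨fun a b => Subtype.ext ((hbot a a.2).trans (hbot b b.2).symm)⟩
    exact hnc inferInstance
  obtain ⟨hp3, ι₀, hcube₀, hthree₀, hfx₀, hgen₀⟩ := big_facts hW hp hE hab hfix he₀ he₀1 hf₀ hne₀
  subst hp3
  set z₁ : ↥(fix e₀) := ι₀.symm (QuaternionGroup.a 2) with hz₁
  have hz₁o : orderOf z₁ = 2 := by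
    rw [hz₁, MulEquiv.orderOf_eq]
    exact orderOf_eq_prime (by decide) (by decide)
  set z : W := z₁.1 with hz
  have hzo : orderOf z = 2 := (Subgroup.orderOf_coe z₁).trans hz₁o
  have hzfix : ∀ g ∈ E, g z = z := fun g hg =>
    hfix e₀ he₀ he₀1 _ _ ((MulEquiv.orderOf_eq g z).trans hzo) hzo (hinv e₀ he₀ g hg z z₁.2) z₁.2
  set Z := Subgroup.zpowers z with hZ
  have hzZ : z ∈ Z := Subgroup.mem_zpowers z
  have hZcard : Nat.card ↥Z = 2 := by rw [hZ, Nat.card_zpowers, hzo]
  have hZfix : ∀ e ∈ E, Z ≤ fix e := fun e he => Subgroup.zpowers_le.2 (hzfix e he)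
  have hZall : ∀ g ∈ E, ∀ x ∈ Z, g x = x := fun g hg x hx => hZfix g hg hx
  have hC0 : ∀ x, (∀ g ∈ E, g x = x) → x ∈ Z := by
    intro x hx
    rcases q8_class_zero _ (hfx₀ ⟨x, hx e₀ he₀⟩ hx) with h | h
    · rw [show x = 1 from congrArg Subtype.val (ι₀.injective (h.trans (map_one ι₀).symm))]
      exact one_mem Z
    · rw [show x = z from congrArg Subtype.val
        (ι₀.injective (h.trans (ι₀.apply_symm_apply _).symm) : (⟨x, hx e₀ he₀⟩ : ↥(fix e₀)) = z₁)]
      exact hzZ
  have hzc : ∀ y : W, y * z = z * y := by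
    have h : ∀ y, y ∈ Subgroup.centralizer ({z} : Set W) := genTop fun e he he1 x hx => by
      rw [Subgroup.mem_centralizer_singleton_iff]
      have hmem : x * z * x⁻¹ ∈ fix e := mul_mem (mul_mem hx (hzfix e he)) (inv_mem hx)
      have ho : orderOf (x * z * x⁻¹) = 2 := by
        rw [show x * z * x⁻¹ = MulAut.conj x z from rfl, MulEquiv.orderOf_eq, hzo]
      have h' := hfix e he he1 _ _ ho hzo hmem (hzfix e he)
      calc x * z = x * z * x⁻¹ * x := by group
        _ = z * x := by rw [h']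
    exact fun y => Subgroup.mem_centralizer_singleton_iff.1 (h y)
  have hZc : ∀ w ∈ Z, ∀ y : W, y * w = w * y := fun w hw y => by
    obtain ⟨k, rfl⟩ := Subgroup.mem_zpowers_iff.1 hw
    exact ((show Commute y z from hzc y).zpow_right k).eq
  have hZcen : Z ≤ Subgroup.center W := fun w hw => Subgroup.mem_center_iff.2 (hZc w hw)
  haveI hZn : Z.Normal := ⟨fun w hw y => by rwa [hZc w hw y, mul_inv_cancel_right]⟩
  -- the big centralisers
  have hbig : ∀ e ∈ E, e ≠ 1 → ¬ fix e ≤ Z → Nat.card ↥(fix e) = 8 ∧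
      (∀ x ∈ fix e, (∀ y ∈ fix e, y * x = x * y) → x ∈ Z) ∧
      (∀ g ∈ E, ∀ x ∈ fix e, (g * g * g) x = x) ∧
      (∀ x ∈ fix e, x ∉ Z → ∀ X : Subgroup W, (∀ g ∈ E, g x ∈ X) → fix e ≤ X) ∧
      (∀ x ∈ fix e, x * x ∈ Z) := by
    intro e he he1 hnot
    obtain ⟨f, hf, hne⟩ : ∃ f ∈ E, ¬ ∀ x ∈ fix e, f x = x := by
      by_contra hall
      push Not at hall
      exact hnot fun x hx => hC0 x fun g hg => hall g hg x hx
    obtain ⟨-, ι, hcube, -, -, hgen⟩ := big_facts hW hp hE hab hfix he he1 hf hne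
    have hcl : ∀ x : ↥(fix e), cl (ι x) = 0 → x.1 ∈ Z := fun x h => by
      rcases q8_class_zero _ h with h1 | h1
      · rw [show x = 1 from ι.injective (h1.trans (map_one ι).symm)]
        exact one_mem Z
      · have ho : orderOf x.1 = 2 := by
          rw [Subgroup.orderOf_coe, ← MulEquiv.orderOf_eq ι, h1]
          exact orderOf_eq_prime (by decide) (by decide)
        rw [hfix e he he1 _ _ ho hzo x.2 (hzfix e he)]
        exact hzZ
    have hcl' : ∀ x : ↥(fix e), x.1 ∈ Z → cl (ι x) = 0 := fun x hx => by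
      refine q8_center _ fun y => ?_
      obtain ⟨y', rfl⟩ := ι.surjective y
      rw [← map_mul, ← map_mul]
      exact congrArg ι (Subtype.ext (hZc _ hx _))
    refine ⟨?_, fun x hx hc => hcl ⟨x, hx⟩ (q8_center _ fun y => ?_), hcube,
      fun x hx hxZ X hX => hgen ⟨x, hx⟩ (fun h => hxZ (hcl _ h)) X hX,
      fun x hx => hcl ⟨x * x, mul_mem hx hx⟩ ?_⟩
    · rw [Nat.card_congr ι.toEquiv, Nat.card_eq_fintype_card, QuaternionGroup.card]
    · obtain ⟨y', rfl⟩ := ι.surjective y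
      rw [← map_mul, ← map_mul]
      exact congrArg ι (Subtype.ext (hc _ y'.2))
    · rw [show (⟨x * x, mul_mem hx hx⟩ : ↥(fix e)) = ⟨x, hx⟩ * ⟨x, hx⟩ from rfl, map_mul]
      exact Q8_sq _
  have hbig₀ : ¬ fix e₀ ≤ Z := fun h => hne₀ fun x hx => hZall f₀ hf₀ x (h hx)
  have hexp : ∀ g ∈ E, g * g * g = 1 := fun g hg => eqOne _ (genTop (X := fix (g * g * g))
    fun e he he1 x hx => by
      by_cases h : fix e ≤ Z
      · exact hZall _ (mul_mem (mul_mem hg hg) hg) x (h hx)
      · exact (hbig e he he1 h).2.2.1 g hg x hx)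
  have hord : ∀ g ∈ E, g ≠ 1 → orderOf g = 3 := fun g hg h1 =>
    haveI : Fact (Nat.Prime 3) := ⟨Nat.prime_three⟩
    orderOf_eq_prime (by rw [pow_three', hexp g hg]) h1
  have hker : ∀ g ∈ E, (∀ x ∈ fix e₀, g x = x) → g ∈ Subgroup.zpowers e₀ := by
    intro g hg hfixg
    by_contra hgn
    set B := Subgroup.zpowers e₀ ⊔ Subgroup.zpowers g with hB
    have hBE : B ≤ E := sup_le (Subgroup.zpowers_le.2 he₀) (Subgroup.zpowers_le.2 hg)
    have habB : IsMulCommutative ↥B := ⟨⟨fun a b =>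
      Subtype.ext (hcomm a (hBE a.2) b (hBE b.2))⟩⟩
    have hncB : ¬ IsCyclic ↥B := fun hc => by
      obtain ⟨⟨b, hb⟩, hbo⟩ := IsCyclic.exists_ofOrder_eq_natCard (α := ↥B)
      have hle : Nat.card ↥B ≤ 3 := by
        rw [← hbo, ← Subgroup.orderOf_coe]
        exact Nat.le_of_dvd (by norm_num)
          (orderOf_dvd_of_pow_eq_one (by rw [pow_three', hexp b (hBE hb)]))
      have h3 : Nat.card ↥(Subgroup.zpowers e₀) = 3 := by
        rw [Nat.card_zpowers, hord e₀ he₀ he₀1]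
      have heq : Subgroup.zpowers e₀ = B := Subgroup.eq_of_le_of_card_ge le_sup_left (by omega)
      exact hgn (heq ▸ (le_sup_right : Subgroup.zpowers g ≤ B) (Subgroup.mem_zpowers g))
    refine he₀1 (eqOne _ fun x => ?_)
    refine gen habB hncB (hcop.coprime_dvd_left (Subgroup.card_dvd_of_le hBE))
      (fun _ _ _ _ => Subgroup.mem_top _) (X := fix e₀) (fun b hb hb1 y _ hy => ?_) (Subgroup.mem_top x)
    let Fx : Subgroup (MulAut W) :=
      { carrier := {f | ∀ x ∈ fix e₀, f x = x}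
        one_mem' := fun _ _ => rfl
        mul_mem' := fun {a c} ha hc x hx => by rw [MulAut.mul_apply, hc x hx, ha x hx]
        inv_mem' := fun {a} ha x hx => by
          conv_lhs => rw [← ha x hx]
          exact MulAut.inv_apply_self _ a x }
    have hBF : B ≤ Fx := sup_le (Subgroup.zpowers_le.2 fun x hx => hx) (Subgroup.zpowers_le.2 hfixg)
    have hle : fix e₀ ≤ fix b := fun x hx => hBF hb x hx
    have hbb : ¬ fix b ≤ Z := fun h => hbig₀ (hle.trans h)
    have heq := Subgroup.eq_of_le_of_card_ge hle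
      (by rw [(hbig b (hBE hb) hb1 hbb).1, (hbig e₀ he₀ he₀1 hbig₀).1])
    rw [heq]
    exact hy
  have hgenE : ∀ g ∈ E, ∃ a b : Fin 3, g = e₀ ^ a.val * f₀ ^ b.val := by
    have hk : ∀ g, g ∈ Subgroup.zpowers e₀ → ∃ a : Fin 3, g = e₀ ^ a.val := fun g hg => by
      have hfin : IsOfFinOrder e₀ := orderOf_pos_iff.mp (by rw [hord e₀ he₀ he₀1]; norm_num)
      obtain ⟨n, hn, hng⟩ := Finset.mem_image.1 (hfin.mem_zpowers_iff_mem_range_orderOf.1 hg)
      rw [Finset.mem_range, hord e₀ he₀ he₀1] at hn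
      exact ⟨⟨n, hn⟩, hng.symm⟩
    intro g hg
    rcases hthree₀ g hg with h | h | h
    · obtain ⟨a, ha⟩ := hk g (hker g hg h)
      exact ⟨a, 0, by simp [ha]⟩
    · obtain ⟨a, ha⟩ := hk _ (hker _ (mul_mem hg hf₀) h)
      refine ⟨a, 2, ?_⟩
      rw [← ha]
      show g = g * f₀ * f₀ ^ 2
      rw [pow_two, mul_assoc g, ← mul_assoc f₀, hexp f₀ hf₀, mul_one]
    · obtain ⟨a, ha⟩ := hk _ (hker _ (mul_mem hg (mul_mem hf₀ hf₀)) h)
      refine ⟨a, 1, ?_⟩
      rw [← ha]
      show g = g * (f₀ * f₀) * f₀ ^ 1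
      rw [pow_one, mul_assoc, hexp f₀ hf₀, mul_one]
  have hcard9 : Nat.card ↥E = 9 := by
    have hle : Nat.card ↥E ≤ 9 := by
      have hsurj : Function.Surjective (fun ab : Fin 3 × Fin 3 =>
          (⟨e₀ ^ ab.1.val * f₀ ^ ab.2.val, mul_mem (pow_mem he₀ _) (pow_mem hf₀ _)⟩ : ↥E)) :=
        fun g => by
          obtain ⟨a, b, hg⟩ := hgenE g g.2
          exact ⟨(a, b), Subtype.ext hg.symm⟩
      have h := Nat.card_le_card_of_surjective _ hsurj
      simpa using h
    obtain ⟨k, hk⟩ := IsPGroup.iff_card.mp hE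
    rcases k with _ | _ | _ | k
    · haveI : Subsingleton ↥E := (Nat.card_eq_one_iff_unique.mp (by simpa using hk)).1
      exact (hnc inferInstance).elim
    · exact absurd (isCyclic_of_prime_card (p := 3) (by simpa using hk)) hnc
    · simpa using hk
    · exfalso
      have : 3 ^ 3 ≤ 3 ^ (k + 1 + 1 + 1) := Nat.pow_le_pow_right (by norm_num) (by omega)
      omega
  -- commutators
  have hq : ∀ x y : W, ⁅x, y⁆ ∈ Z ↔ ((x : W ⧸ Z) * y = (y : W ⧸ Z) * x) := fun x y => by
    rw [← QuotientGroup.eq_one_iff, ← QuotientGroup.mk'_apply, map_commutatorElement,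
      commutatorElement_eq_one_iff_mul_comm]
    rfl
  have hpair : ∀ e ∈ E, e ≠ 1 → ∀ d ∈ E, d ≠ 1 → ¬ fix e ≤ Z → ¬ fix d ≤ Z → fix e ≠ fix d →
      (∀ x ∈ fix e, ∀ y ∈ fix d, ⁅x, y⁆ ∈ Z) → ∀ x ∈ fix e, ∀ y ∈ fix d, x * y = y * x := by
    intro e he he1 d hd hd1 hbe hbd hne hZ' x hx y hy
    obtain ⟨y₀, hy₀, hy₀e⟩ : ∃ y₀ ∈ fix d, e y₀ ≠ y₀ := by
      by_contra hall
      push Not at hall
      exact hne (Subgroup.eq_of_le_of_card_ge hall
        (by rw [(hbig e he he1 hbe).1, (hbig d hd hd1 hbd).1])).symm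
    have hw : ∀ y' ∈ fix d, y'⁻¹ * e y' ∈ Subgroup.centralizer ({x} : Set W) := by
      intro y' hy'
      rw [Subgroup.mem_centralizer_singleton_iff]
      have h1 : e ⁅x, y'⁆ = ⁅x, y'⁆ := hZall e he _ (hZ' x hx y' hy')
      rw [commutatorElement_def, map_mul, map_mul, map_mul, map_inv, map_inv, hx] at h1
      obtain ⟨w, hw⟩ : ∃ w, e y' = y' * w := ⟨y'⁻¹ * e y', (mul_inv_cancel_left _ _).symm⟩
      rw [hw] at h1 ⊢
      rw [inv_mul_cancel_left]
      have h2 : w * x⁻¹ * w⁻¹ = x⁻¹ := by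
        calc w * x⁻¹ * w⁻¹ = y'⁻¹ * x⁻¹ * (x * (y' * w) * x⁻¹ * (y' * w)⁻¹) * y' := by group
          _ = y'⁻¹ * x⁻¹ * (x * y' * x⁻¹ * y'⁻¹) * y' := by rw [h1]
          _ = x⁻¹ := by group
      calc w * x = (x * w * x⁻¹) * x * (w⁻¹)⁻¹ * w⁻¹ * 1 * 1 * (x⁻¹ * (x * 1)) := by
            rw [show x * w * x⁻¹ = w from by
              calc x * w * x⁻¹ = x * (w * x⁻¹ * w⁻¹) * w := by group
                _ = w := by rw [h2]; group]
            group
        _ = x * w := by group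
    have hwZ : y₀⁻¹ * e y₀ ∉ Z := fun h => hy₀e (by
      set w := y₀⁻¹ * e y₀
      have hey : e y₀ = y₀ * w := (mul_inv_cancel_left _ _).symm
      have hwe : e w = w := hZall e he w h
      have h3 : (e * e * e) y₀ = y₀ * (w * w * w) := by
        rw [MulAut.mul_apply, MulAut.mul_apply, hey, map_mul, map_mul, hey, hwe, map_mul, hey, hwe]
        group
      rw [hexp e he, MulAut.one_apply, left_eq_mul] at h3
      have h2 : w * w = 1 := by
        have hz2 := pow_card_eq_one' (G := ↥Z) (x := ⟨w, h⟩)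
        rw [hZcard, pow_two] at hz2
        exact congrArg Subtype.val hz2
      rw [h2, one_mul] at h3
      rw [hey, h3, mul_one])
    have hle := (hbig d hd hd1 hbd).2.2.2.1 (y₀⁻¹ * e y₀)
      (mul_mem (inv_mem hy₀) (hinv d hd e he y₀ hy₀)) hwZ
      (Subgroup.centralizer ({x} : Set W)) fun g hg => by
      rw [map_mul, map_inv, show g (e y₀) = e (g y₀) from DFunLike.congr_fun (hcomm g hg e he) y₀]
      exact hw _ (hinv d hd g hg y₀ hy₀)
    exact (Subgroup.mem_centralizer_singleton_iff.1 (hle hy)).symm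
  set U := (Subgroup.center (W ⧸ Z)).comap (QuotientGroup.mk' Z) with hU
  have hmemU : ∀ x, x ∈ U ↔ ∀ y, ⁅x, y⁆ ∈ Z := fun x => by
    rw [hU, Subgroup.mem_comap, Subgroup.mem_center_iff]
    refine ⟨fun h y => (hq x y).2 (h y).symm, fun h q => ?_⟩
    induction q using QuotientGroup.induction_on with
    | H y => exact ((hq x y).1 (h y)).symm
  have hUall : ∀ x, x ∈ U := by
    refine genTop ?_
    by_contra hno
    push Not at hno
    obtain ⟨e₁, he₁, he₁1, hne₁⟩ := hno
    set D : Subgroup W := ⨆ (e : MulAut W) (_ : e ∈ E ∧ e ≠ 1 ∧ ¬ fix e ≤ U), fix e with hD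
    have hleD : ∀ e ∈ E, e ≠ 1 → ¬ fix e ≤ U → fix e ≤ D := fun e h1 h2 h3 =>
      le_iSup₂_of_le e ⟨h1, h2, h3⟩ le_rfl
    have hZU : Z ≤ U := fun w hw => (hmemU w).2 fun y => by
      rw [commutatorElement_eq_one_iff_mul_comm.mpr (hZc w hw y).symm]
      exact one_mem Z
    have hDinv : ∀ g ∈ E, ∀ x ∈ D, g x ∈ D := fun g hg => by
      suffices h : D ≤ D.comap g.toMonoidHom from fun x hx => h hx
      exact iSup₂_le fun e he x hx => hleD e he.1 he.2.1 he.2.2 (hinv e he.1 g hg x hx)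
    set D' := D.map (QuotientGroup.mk' Z) with hD'
    haveI : Nontrivial ↥D' := by
      rw [Subgroup.nontrivial_iff_ne_bot, Ne, Subgroup.map_eq_bot_iff, QuotientGroup.ker_mk']
      exact fun h => hne₁ (((hleD e₁ he₁ he₁1 hne₁).trans h).trans hZU)
    haveI := ((hW.to_quotient Z).to_subgroup D').center_nontrivial
    obtain ⟨q, hq1⟩ := exists_ne (1 : ↥(Subgroup.center ↥D'))
    obtain ⟨x₀, hx₀D, hx₀⟩ := (q : ↥D').2
    set UD := D ⊓ (Subgroup.centralizer (D' : Set (W ⧸ Z))).comap (QuotientGroup.mk' Z) with hUD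
    have hUDmem : ∀ x ∈ UD, ∀ y ∈ D, ⁅x, y⁆ ∈ Z := fun x hx y hy =>
      (hq x y).2 ((Subgroup.mem_centralizer_iff.1 hx.2) (y : W ⧸ Z) ⟨y, hy, rfl⟩).symm
    have hx₀UD : x₀ ∈ UD := ⟨hx₀D, Subgroup.mem_centralizer_iff.2 fun h hh => by
      have h' := congrArg Subtype.val (Subgroup.mem_center_iff.1 q.2 ⟨h, hh⟩)
      simp only [Subgroup.coe_mul] at h'
      rw [← hx₀] at h'
      exact h'⟩
    have hx₀Z : x₀ ∉ Z := fun h => hq1 (Subtype.ext (Subtype.ext (by
      rw [← hx₀]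
      exact (QuotientGroup.eq_one_iff x₀).2 h)))
    have hUDinv : ∀ g ∈ E, ∀ x ∈ UD, g x ∈ UD := fun g hg x hx => by
      refine ⟨hDinv g hg x hx.1, Subgroup.mem_centralizer_iff.2 ?_⟩
      rintro _ ⟨y, hy, rfl⟩
      have h1 := hUDmem x hx _ (hDinv g⁻¹ (inv_mem hg) y hy)
      have h2 : ⁅g x, y⁆ ∈ Z := by
        have h3 : g ⁅x, g⁻¹ y⁆ = ⁅g x, y⁆ := by
          rw [commutatorElement_def, map_mul, map_mul, map_mul, map_inv, map_inv,
            MulAut.apply_inv_self, ← commutatorElement_def]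
        rw [← h3, hZall g hg _ h1]
        exact h1
      exact ((hq _ y).1 h2).symm
    obtain ⟨e, he, he1, x, hx, hxe, hxZ⟩ :
        ∃ e ∈ E, e ≠ 1 ∧ ∃ x ∈ UD, e x = x ∧ x ∉ Z := by
      by_contra hno'
      push Not at hno'
      exact hx₀Z (gen hab hnc hcop hUDinv (fun e he he1 x hx hxe => hno' e he he1 x hx hxe) hx₀UD)
    have hbe : ¬ fix e ≤ Z := fun h => hxZ (h hxe)
    have heUD : fix e ≤ UD := (hbig e he he1 hbe).2.2.2.1 x hxe hxZ UD fun g hg => hUDinv g hg x hx
    by_cases heU : fix e ≤ U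
    · refine hxZ ((hbig e he he1 hbe).2.1 x hxe fun q' hq' => ?_)
      have hDc : D ≤ Subgroup.centralizer ({q'} : Set W) := iSup₂_le fun d hd y hy => by
        rw [Subgroup.mem_centralizer_singleton_iff]
        exact (hpair e he he1 d hd.1 hd.2.1 hbe (fun h => hd.2.2 (h.trans hZU))
          (fun h => hd.2.2 (h ▸ heU)) (fun a ha b _ => (hmemU a).1 (heU ha) b) q' hq' y hy).symm
      exact (Subgroup.mem_centralizer_singleton_iff.1 (hDc hx.1)).symm
    · refine heU fun q' hq' => (hmemU q').2 fun y => ?_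
      have hall : ∀ y, y ∈ (Subgroup.centralizer ({(q' : W ⧸ Z)} : Set (W ⧸ Z))).comap
          (QuotientGroup.mk' Z) := genTop fun d hd hd1 y hy => by
        rw [Subgroup.mem_comap, Subgroup.mem_centralizer_singleton_iff]
        refine ((hq q' y).1 ?_).symm
        by_cases hdU : fix d ≤ U
        · rw [← commutatorElement_inv]
          exact inv_mem ((hmemU y).1 (hdU hy) q')
        · exact hUDmem q' (heUD hq') y (hleD d hd hd1 hdU hy)
      exact (hq q' y).2 (Subgroup.mem_centralizer_singleton_iff.1 (hall y)).symm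
  have hcommZ : ∀ x y : W, ⁅x, y⁆ ∈ Z := fun x => (hmemU x).1 (hUall x)
  have hcenter : Subgroup.center W = Z := by
    refine le_antisymm ?_ hZcen
    refine gen hab hnc hcop (fun g _ x hx => Subgroup.mem_center_iff.2 fun y => by
      obtain ⟨y', rfl⟩ := g.surjective y
      rw [← map_mul, ← map_mul, Subgroup.mem_center_iff.1 hx y']) fun e he he1 x hx hxe => ?_
    by_cases h : fix e ≤ Z
    · exact h hxe
    · exact (hbig e he he1 h).2.1 x hxe fun y _ => Subgroup.mem_center_iff.1 hx y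
  have hcommW : commutator W = Z := by
    refine le_antisymm (by
      rw [commutator_def, Subgroup.commutator_le]; exact fun x _ y _ => hcommZ x y) ?_
    obtain ⟨x, hx, hxZ⟩ := SetLike.not_le_iff_exists.1 hbig₀
    obtain ⟨y, hy, hxy⟩ : ∃ y ∈ fix e₀, y * x ≠ x * y := by
      by_contra hall
      push Not at hall
      exact hxZ ((hbig e₀ he₀ he₀1 hbig₀).2.1 x hx hall)
    have hmem : ⁅y, x⁆ ∈ commutator W :=
      Subgroup.commutator_mem_commutator (Subgroup.mem_top _) (Subgroup.mem_top _)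
    refine Subgroup.zpowers_le.2 ?_
    have hne : ⁅y, x⁆ ≠ 1 := fun h => hxy (commutatorElement_eq_one_iff_mul_comm.1 h)
    have ho : orderOf ⁅y, x⁆ = 2 := by
      refine orderOf_eq_prime ?_ hne
      have hz2 := pow_card_eq_one' (G := ↥Z) (x := ⟨_, hcommZ y x⟩)
      rw [hZcard] at hz2
      exact congrArg Subtype.val hz2
    rwa [← hfix e₀ he₀ he₀1 _ _ ho hzo (hZfix e₀ he₀ (hcommZ y x)) (hzfix e₀ he₀)]
  have hfrat : frattini W = Z := by
    refine le_antisymm (PGroup.frattini_le_of_quotient_elementary (p := 2) hcommW.le fun x => ?_)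
      (hcommW ▸ PGroup.commutator_le_frattini hW)
    let Sq : Subgroup W :=
      { carrier := {x | x * x ∈ Z}
        one_mem' := by show (1 : W) * 1 ∈ Z; rw [one_mul]; exact one_mem Z
        mul_mem' := fun {a b} ha hb => by
          show a * b * (a * b) ∈ Z
          rw [show a * b * (a * b) = ⁅a * b, a⁆ * (a * a) * (b * b) by
            rw [commutatorElement_def]; group]
          exact mul_mem (mul_mem (hcommZ _ _) ha) hb
        inv_mem' := fun {a} ha => by
          show a⁻¹ * a⁻¹ ∈ Z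
          rw [← mul_inv_rev]; exact inv_mem ha }
    have hS : x ∈ Sq := genTop (fun e he he1 y hy => by
      by_cases h : fix e ≤ Z
      · exact mul_mem (h hy) (h hy)
      · exact (hbig e he he1 h).2.2.2.2 y hy) x
    rw [pow_two]; exact hS
  have hextra : Cfsg.IsExtraspecial 2 W :=
    ⟨⟨hW, hfrat.trans hcenter.symm, hcommW.trans hcenter.symm⟩, hcenter ▸ hZcard⟩
  refine ⟨hcard9, hextra, ?_, ?_⟩
  · set s : Finset (Subgroup W) :=
      {fix e₀, fix f₀, fix (e₀ * f₀), fix (e₀ * e₀ * f₀)} with hs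
    have hf₀n : f₀ ∉ Subgroup.zpowers e₀ := fun h => hne₀ (by
      obtain ⟨k, rfl⟩ := Subgroup.mem_zpowers_iff.1 h
      intro x hx
      let Fx : Subgroup (MulAut W) := MulAction.stabilizer (MulAut W) x
      exact (zpow_mem (show e₀ ∈ Fx from hx) k : e₀ ^ k ∈ Fx))
    have hse : ∀ C ∈ s, ∃ e ∈ E, e ≠ 1 ∧ C = fix e := by
      intro C hC
      simp only [hs, Finset.mem_insert, Finset.mem_singleton] at hC
      rcases hC with rfl | rfl | rfl | rfl
      · exact ⟨e₀, he₀, he₀1, rfl⟩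
      · exact ⟨f₀, hf₀, fun h => hf₀n (h ▸ one_mem _), rfl⟩
      · refine ⟨_, mul_mem he₀ hf₀, fun h => hf₀n ?_, rfl⟩
        rw [eq_inv_of_mul_eq_one_right h]
        exact inv_mem (Subgroup.mem_zpowers e₀)
      · refine ⟨_, mul_mem (mul_mem he₀ he₀) hf₀, fun h => hf₀n ?_, rfl⟩
        rw [eq_inv_of_mul_eq_one_right h]
        exact inv_mem (mul_mem (Subgroup.mem_zpowers e₀) (Subgroup.mem_zpowers e₀))
    have htop : (Z ⊔ ⨆ C ∈ s, C) = ⊤ := by
      refine top_le_iff.1 fun x _ => genTop ?_ x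
      intro g hg hg1
      suffices hmem : fix g ∈ s from (le_iSup₂_of_le (f := fun C (_ : C ∈ s) => C) (fix g) hmem le_rfl).trans le_sup_right
      have hfinv : ∀ {g h : MulAut W}, g * h = 1 → fix g = fix h := by
        intro g h hgh
        have hhg : h * g = 1 := by rw [eq_inv_of_mul_eq_one_right hgh, inv_mul_cancel]
        ext x
        constructor
        · intro hx
          show h x = x
          conv_lhs => rw [← show g x = x from hx]
          rw [← MulAut.mul_apply, hhg]; rfl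
        · intro hx
          show g x = x
          conv_lhs => rw [← show h x = x from hx]
          rw [← MulAut.mul_apply, hgh]; rfl
      have hx := hexp e₀ he₀
      have hy := hexp f₀ hf₀
      have hxy : Commute e₀ f₀ := hcomm e₀ he₀ f₀ hf₀
      have key : ∀ i j : ℕ, ∀ k l : ℕ, (i + k) % 3 = 0 → (j + l) % 3 = 0 →
          fix (e₀ ^ i * f₀ ^ j) = fix (e₀ ^ k * f₀ ^ l) := fun i j k l hi hj => by
        refine hfinv ?_
        rw [mul_assoc, ← mul_assoc (f₀ ^ j), ← (hxy.pow_pow k j).eq, mul_assoc (e₀ ^ k), ← mul_assoc,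
          ← pow_add, ← pow_add]
        obtain ⟨u, hu⟩ := Nat.dvd_of_mod_eq_zero hi
        obtain ⟨v, hv⟩ := Nat.dvd_of_mod_eq_zero hj
        rw [hu, hv, pow_mul, pow_mul, pow_three', pow_three', hx, hy, one_pow, one_pow, one_mul]
      obtain ⟨a, b, rfl⟩ := hgenE g hg
      simp only [hs, Finset.mem_insert, Finset.mem_singleton]
      fin_cases a <;> fin_cases b
      · simp at hg1
      · right; left; simp
      · right; left; rw [key 0 2 0 1 (by norm_num) (by norm_num)]; simp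
      · left; simp
      · right; right; left; simp
      · right; right; right; rw [key 1 2 2 1 (by norm_num) (by norm_num)]; simp [pow_two]
      · left; rw [key 2 0 1 0 (by norm_num) (by norm_num)]; simp
      · right; right; right; simp [pow_two]
      · right; right; left; rw [key 2 2 1 1 (by norm_num) (by norm_num)]; simp
    -- all members contain `Z`
    let C' : Subgroup W → Subgroup W := fun C => Z ⊔ C
    have hC' : ∀ C ∈ s, C' C = C := fun C hC => by
      obtain ⟨e, he, -, rfl⟩ := hse C hC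
      exact sup_eq_right.2 (hZfix e he)
    have hsup : (⨆ C ∈ s, C' C) = ⨆ C ∈ s, C :=
      iSup_congr fun C => iSup_congr fun hC => hC' C hC
    obtain ⟨k, hk, hcard⟩ := card_iSup s C' Z hZcard (fun _ => le_sup_left)
      (fun C hC => by
        rw [hC' C hC]
        obtain ⟨e, he, he1, rfl⟩ := hse C hC
        by_cases h : fix e ≤ Z
        · left; rw [le_antisymm h (hZfix e he), hZcard]
        · exact Or.inr (hbig e he he1 h).1)
      (fun C hC C₂ hC₂ hne x hx y hy => by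
        rw [hC' C hC] at hx
        rw [hC' C₂ hC₂] at hy
        obtain ⟨e, he, he1, rfl⟩ := hse C hC
        obtain ⟨d, hd, hd1, rfl⟩ := hse C₂ hC₂
        by_cases h : fix e ≤ Z
        · exact (hZc x (h hx) y).symm
        by_cases h' : fix d ≤ Z
        · exact hZc y (h' hy) x
        exact hpair e he he1 d hd hd1 h h' hne (fun a _ b _ => hcommZ a b) x hx y hy)
      (fun C hC x hx hc => by
        rw [hC' C hC] at hx hc
        obtain ⟨e, he, he1, rfl⟩ := hse C hC
        by_cases h : fix e ≤ Z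
        · exact h hx
        · exact (hbig e he he1 h).2.1 x hx hc)
      (fun C hC => by
        rw [hC' C hC]
        obtain ⟨e, he, -, rfl⟩ := hse C hC
        exact ⟨fun x hx y => by
          rw [show y * x * y⁻¹ = ⁅y, x⁆ * x by rw [commutatorElement_def]; group]
          exact mul_mem (hZfix e he (hcommZ y x)) hx⟩) hZc
    rw [hsup, htop, Subgroup.card_top] at hcard
    have hk4 : k ≤ 4 := hk.trans (by
      rw [hs]
      exact (Finset.card_insert_le _ _).trans (Nat.succ_le_succ ((Finset.card_insert_le _ _).trans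
        (Nat.succ_le_succ ((Finset.card_insert_le _ _).trans (Nat.succ_le_succ
          (Finset.card_singleton _).le))))))
    have h8 := (hbig e₀ he₀ he₀1 hbig₀).1
    have hWgt : 8 < Nat.card W := by
      by_contra hle
      refine he₀1 (eqOne _ fun x => ?_)
      have := Subgroup.eq_top_of_le_card (fix e₀) (by omega)
      exact (this.ge (Subgroup.mem_top x) : x ∈ fix e₀)
    interval_cases k <;> simp [hcard] at hWgt ⊢
  · ext x
    simp only [Set.mem_setOf_eq, SetLike.mem_coe, hcenter]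
    exact ⟨hC0 x, fun hx g hg => hZall g hg x hx⟩

end Cfsg.Agent.S2934
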