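import Cfsg.Statements.S2939
import Cfsg.Agent.Lib.SylowChain.Basic

set_option autoImplicit false
open Cfsg

namespace Cfsg.Agent.S2939

/-- Let p be a prime dividing the order of the finite group G and 𝓕 a family of subgroups of G closed under conjugation, with conjugates taken as X^g = g⁻¹Xg. Then 𝓕 controls Sylow p-intersections in G (any two distinct Sylow p-subgroups S and T with S ∩ T ≠ 1 are joined by a chain S = S₀, S₁, …, Sₙ = T of Sylow p-subgroups where, for each i, some member Xᵢ of 𝓕 meets both S_{i-1} and Sᵢ in Sylow p-subgroups of Xᵢ, satisfies S ∩ T ≤ Sᵢ ∩ Xᵢ, and contains an element xᵢ with Sᵢ^{xᵢ} = S_{i-1}) if and only if 𝓕 strongly controls p-fusion in G (whenever A is a subset of a Sylow p-subgroup S, A contains an element other than 1, and A^g ⊆ S, the element g factorises as g = y₁⋯yₙy with y ∈ N_G(S) and each yᵢ in a member Yᵢ of 𝓕 that meets S in a Sylow p-subgroup of Yᵢ, with A^{y₁⋯yᵢ} ⊆ S ∩ Yᵢ for each i). -/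
theorem result {G : Type*} [Group G] [Finite G] {p : ℕ} [Fact p.Prime] (hdiv : p ∣ Nat.card G) (𝓕 : Set (Subgroup G)) (h𝓕 : Cfsg.IsNormalSet 𝓕) : Cfsg.ControlsSylowIntersections p 𝓕 ↔ Cfsg.FamilyStronglyControlsFusion p 𝓕 := by
  constructor
  · intro hc S A g hA ⟨a, haA, ha1⟩ hAg
    by_cases hgS : g • S = S
    · exact ⟨0, Fin.elim0, Fin.elim0, g, Sylow.smul_eq_iff_mem_normalizer.mp hgS,
        fun i => i.elim0, by simp, fun i => i.elim0⟩
    have hmem : ∀ b ∈ A, b ∈ (S : Subgroup G) ⊓ ((g • S : Sylow p G) : Subgroup G) := fun b hb =>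
      ⟨hA hb, Cfsg.Agent.SylowChain.mem_smul_sylow.mpr (hAg ⟨b, hb, rfl⟩)⟩
    have hne : (S : Subgroup G) ⊓ ((g • S : Sylow p G) : Subgroup G) ≠ ⊥ := fun h => by
      have := hmem a haA
      rw [h, Subgroup.mem_bot] at this
      exact ha1 this
    obtain ⟨n, c, X, x, h0, hlast, hstep⟩ := hc S (g • S) (Ne.symm hgS) hne
    let u : ℕ → G := fun i => Nat.rec 1 (fun j v => if h : j < n then x ⟨j, h⟩ * v else v) i
    have hu : ∀ i : Fin n, u (i.val + 1) = x i * u i.val := fun i => dif_pos i.isLt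
    have hcu : ∀ i : Fin (n + 1), c i = u i.val • S := by
      intro i
      induction i using Fin.induction with
      | zero => rw [h0]; exact (one_smul G S).symm
      | succ i ih =>
        rw [Cfsg.Agent.SylowChain.chain_step (hstep i).2.2.2.1, ih, Fin.val_succ, hu, mul_smul]
        rfl
    let y : Fin n → G := fun i => (u i.val)⁻¹ * x i * u i.val
    have hpre : ∀ i : ℕ, i ≤ n → ((List.ofFn y).take i).prod = u i := by
      intro i
      induction i with
      | zero => intro _; simp [u]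
      | succ i ih =>
        intro hi
        rw [List.prod_take_succ _ i (by simp; omega), ih (by omega), List.getElem_ofFn]
        show u i * ((u i)⁻¹ * x ⟨i, _⟩ * u i) = u (i + 1)
        rw [hu ⟨i, by omega⟩]
        group
    refine ⟨n, fun i => Cfsg.subgroupConjRight (u i.val) (X i), y, (u n)⁻¹ * g,
      Sylow.smul_eq_iff_mem_normalizer.mp ?_, fun i => ⟨?_, ?_⟩, ?_, fun i => ?_⟩
    · rw [mul_smul, ← hlast, hcu]
      exact inv_smul_smul _ S
    · have h1 := Cfsg.Agent.SylowChain.conj_mem_sylowMembers h𝓕 (hstep i).1 (u i.val)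
      rwa [hcu, Fin.val_castSucc, inv_smul_smul] at h1
    · rw [Cfsg.Agent.SylowChain.mem_subgroupConjRight]
      simpa [y, mul_assoc] using (hstep i).2.2.1
    · have h1 := hpre n le_rfl
      rw [List.take_of_length_le (by simp)] at h1
      rw [h1, mul_inv_cancel_left]
    · rintro _ ⟨b, hb, rfl⟩
      rw [hpre _ i.isLt]
      obtain ⟨hb1, hb2⟩ := (hstep i).2.2.2.2 (hmem b hb)
      have hb1' : b ∈ (c i.succ : Subgroup G) := hb1
      rw [hcu, Fin.val_succ, Cfsg.Agent.SylowChain.mem_smul_sylow] at hb1'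
      refine ⟨hb1', ?_⟩
      show (u (i.val + 1))⁻¹ * b * u (i.val + 1) ∈ Cfsg.subgroupConjRight (u i.val) (X i)
      rw [Cfsg.Agent.SylowChain.mem_subgroupConjRight, hu i]
      simpa [mul_assoc] using
        mul_mem (mul_mem (inv_mem (hstep i).2.2.1) hb2) (hstep i).2.2.1
  · intro hs S T hST hne
    obtain ⟨g, rfl⟩ := MulAction.exists_smul_eq G S T
    obtain ⟨d, hd, hd1⟩ := (Subgroup.bot_or_exists_ne_one _).resolve_left hne
    obtain ⟨n, Y, y, y₀, hy₀, hY, hgprod, hA⟩ := hs S
      (((S : Subgroup G) ⊓ ((g • S : Sylow p G) : Subgroup G) : Subgroup G) : Set G) g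
      (fun b hb => hb.1) ⟨d, hd, hd1⟩
      (by rintro _ ⟨b, hb, rfl⟩; exact Cfsg.Agent.SylowChain.mem_smul_sylow.mp hb.2)
    let P : ℕ → G := fun i => ((List.ofFn y).take i).prod
    have hP : ∀ i : Fin n, P (i.val + 1) = P i.val * y i := by
      intro i
      simp only [P]
      rw [List.prod_take_succ _ i.val (by simp), List.getElem_ofFn]
    refine ⟨n, fun i => P i.val • S, fun i => Cfsg.subgroupConjRight (P i.val)⁻¹ (Y i),
      fun i => P i.val * y i * (P i.val)⁻¹, ?_, ?_, fun i => ?_⟩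
    · simp [P]
    · have h1 : P n = (List.ofFn y).prod := by simp [P, List.take_of_length_le]
      show P n • S = g • S
      rw [hgprod, mul_smul, Sylow.smul_eq_iff_mem_normalizer.mpr hy₀, h1]
    · have hX : Cfsg.subgroupConjRight (P i.val)⁻¹ (Y i) ∈
          Cfsg.sylowMembers p 𝓕 ((P i.val • S : Sylow p G) : Subgroup G) := by
        simpa using Cfsg.Agent.SylowChain.conj_mem_sylowMembers h𝓕 (hY i).1 (P i.val)⁻¹
      have hx : P i.val * y i * (P i.val)⁻¹ ∈ Cfsg.subgroupConjRight (P i.val)⁻¹ (Y i) := by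
        rw [Cfsg.Agent.SylowChain.mem_subgroupConjRight]
        simpa [mul_assoc] using (hY i).2
      have hsucc : P (i.val + 1) • S = (P i.val * y i * (P i.val)⁻¹) • (P i.val • S) := by
        rw [← mul_smul, hP, inv_mul_cancel_right]
      simp only [Fin.val_castSucc, Fin.val_succ]
      refine ⟨hX, ?_, hx, ?_, fun b hb => ?_⟩
      · rw [hsucc]
        exact Cfsg.Agent.SylowChain.mem_sylowMembers_of_mem h𝓕 hX hx
      · rw [hsucc, Cfsg.Agent.SylowChain.subgroupConjRight_sylow, inv_smul_smul]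
      · have h1 := hA i ⟨b, hb, rfl⟩
        refine ⟨Cfsg.Agent.SylowChain.mem_smul_sylow.mpr h1.1,
          Cfsg.Agent.SylowChain.mem_subgroupConjRight.mpr ?_⟩
        have h2 : (P (i.val + 1))⁻¹ * b * P (i.val + 1) ∈ Y i := h1.2
        rw [hP] at h2
        simpa [mul_assoc] using mul_mem (mul_mem (hY i).2 h2) (inv_mem (hY i).2)

end Cfsg.Agent.S2939
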