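import Cfsg.Statements.S2940
import Cfsg.Agent.EqLemmas

set_option autoImplicit false
open Cfsg

namespace Cfsg.Agent.S2940

/-- A `p`-subgroup of a subgroup containing a Sylow subgroup lies in such a Sylow subgroup. -/
theorem exists_sylow_ge_of_le {G : Type*} [Group G] [Finite G] {p : ℕ} [Fact p.Prime] (T : Sylow p G)
    (M : Subgroup G) (hTM : (T : Subgroup G) ≤ M) (R : Subgroup G) (hR : IsPGroup p R) (hRM : R ≤ M) :
    ∃ U : Sylow p G, R ≤ (U : Subgroup G) ∧ (U : Subgroup G) ≤ M := by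
  obtain ⟨P, hP⟩ := (hR.comap_subtype (K := M)).exists_le_sylow
  obtain ⟨m, hm⟩ := MulAction.exists_smul_eq M (T.subtype hTM) P
  refine ⟨(m : G) • T, ?_, ?_⟩
  · intro x hx
    have : (⟨x, hRM hx⟩ : M) ∈ (P : Subgroup M) := hP (show x ∈ R from hx)
    rw [← hm, Sylow.coe_subgroup_smul] at this
    obtain ⟨y, hy, hxy⟩ := this
    rw [Sylow.coe_subgroup_smul]
    refine ⟨(y : G), hy, ?_⟩
    have := congrArg Subtype.val hxy
    simpa using this
  · intro x hx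
    rw [Sylow.coe_subgroup_smul] at hx
    obtain ⟨s, hs, rfl⟩ := hx
    simpa using mul_mem (mul_mem m.2 (hTM hs)) (inv_mem m.2)

/-- Let S be a Sylow p-subgroup of the finite group G and G₁, G₂ subgroups containing S with G = G₁G₂. Then for every g ∈ G there is a Sylow p-subgroup U of G with S ∩ S^g ≤ U ≤ G₁ ∩ G₂^g (conjugates taken as X^g = g⁻¹Xg). -/
theorem result {G : Type*} [Group G] [Finite G] {p : ℕ} [Fact p.Prime] (S : Sylow p G) (G₁ G₂ : Subgroup G) (h1 : (S : Subgroup G) ≤ G₁) (h2 : (S : Subgroup G) ≤ G₂) (hfact : ∀ g : G, ∃ g₁ ∈ G₁, ∃ g₂ ∈ G₂, g = g₁ * g₂) (g : G) : ∃ U : Sylow p G, (S : Subgroup G) ⊓ Cfsg.subgroupConjRight g (S : Subgroup G) ≤ (U : Subgroup G) ∧ (U : Subgroup G) ≤ G₁ ⊓ Cfsg.subgroupConjRight g G₂ := by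
  obtain ⟨a, ha, b, hb, hab⟩ := hfact g⁻¹
  have hg : g = b⁻¹ * a⁻¹ := by
    rw [← mul_inv_rev, ← hab, inv_inv]
  have hmem : ∀ (K : Subgroup G) (x : G), x ∈ Cfsg.subgroupConjRight g K ↔ g * x * g⁻¹ ∈ K := by
    intro K x
    simp only [Cfsg.subgroupConjRight, Subgroup.mem_map]
    constructor
    · rintro ⟨y, hy, rfl⟩
      simpa [mul_assoc] using hy
    · intro h
      exact ⟨_, h, by simp [mul_assoc]⟩
  set M := G₁ ⊓ Cfsg.subgroupConjRight g G₂ with hM
  let R : Subgroup G := (S : Subgroup G) ⊓ Cfsg.subgroupConjRight g (S : Subgroup G)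
  have hRM : R ≤ M := fun x hx => ⟨h1 hx.1, (hmem _ _).2 (h2 ((hmem _ _).1 hx.2))⟩
  have hSM : ((a • S : Sylow p G) : Subgroup G) ≤ M := by
    intro x hx
    rw [Sylow.coe_subgroup_smul] at hx
    obtain ⟨s, hs, rfl⟩ := hx
    refine ⟨?_, (hmem _ _).2 ?_⟩
    · simpa using mul_mem (mul_mem ha (h1 hs)) (inv_mem ha)
    · have := mul_mem (mul_mem (inv_mem hb) (h2 hs)) hb
      simpa [hg, mul_assoc] using this
  exact exists_sylow_ge_of_le (a • S) M hSM R (S.isPGroup'.to_le inf_le_left) hRM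

end Cfsg.Agent.S2940
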