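import Cfsg.Statements.S2941
import Cfsg.Agent.EqLemmas

set_option autoImplicit false
open Cfsg
open scoped commutatorElement

namespace Cfsg.Agent.S2941

/-- Let G be a finite group of characteristic 2 type in which every 2-local subgroup is solvable and the centralizer of Ω₁(Z(S)) lies in N_G(S) for every Sylow 2-subgroup S, and let T be a nontrivial 2-subgroup and K a J(T)-component (J the Thompson subgroup generated by the elementary abelian 2-subgroups of largest order). If a subgroup Q is normalized by ⟨K, J(T)⟩ and normalizes J(T), then Q normalizes K. -/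
theorem result {G : Type*} [Group G] [Finite G] (hL : Cfsg.IsCharacteristicTwoType G) (hN : ∀ N : Subgroup G, Cfsg.IsTwoLocal N → Group.IsSolvable ↥N)
    (hZ : ∀ S : Sylow 2 G, Subgroup.centralizer (Cfsg.omegaCenterOf (S : Subgroup G) : Set G) ≤ Subgroup.normalizer ((S : Subgroup G) : Set G)) (T : Subgroup G) (hT : IsPGroup 2 ↥T) (hT1 : T ≠ ⊥) (K : Subgroup G) (hK : Cfsg.IsJComponent T K)
    (Q : Subgroup G) (hQ1 : K ⊔ Cfsg.thompsonSubgroupOf 2 T ≤ Subgroup.normalizer (Q : Set G)) (hQ2 : Q ≤ Subgroup.normalizer (Cfsg.thompsonSubgroupOf 2 T : Set G)) :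
    Q ≤ Subgroup.normalizer (K : Set G) := by
  obtain ⟨hclo, hcomm, -, -⟩ := hK
  set J := Cfsg.thompsonSubgroupOf 2 T with hJdef
  have hJT : J ≤ T := Subgroup.map_subtype_le _
  have hJ : IsPGroup 2 J := hT.to_le hJT
  have hJK : J ≤ Subgroup.normalizer (K : Set G) := by
    have h1 : ∀ a ∈ J, ∀ z ∈ K, a * z * a⁻¹ ∈ K := by
      intro a ha z hz
      rw [← hcomm] at hz ⊢
      induction hz using Subgroup.closure_induction with
      | mem z hz =>
        obtain ⟨k, hk, b, hb, rfl⟩ := hz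
        have : a * ⁅k, b⁆ * a⁻¹ = ⁅k, a⁆⁻¹ * ⁅k, a * b⁆ := by
          simp only [commutatorElement_def]; group
        rw [this]
        exact mul_mem (inv_mem (Subgroup.commutator_mem_commutator hk ha))
          (Subgroup.commutator_mem_commutator hk (mul_mem ha hb))
      | one => simp
      | mul z w _ _ h1 h2 =>
        have : a * (z * w) * a⁻¹ = a * z * a⁻¹ * (a * w * a⁻¹) := by group
        rw [this]; exact mul_mem h1 h2
      | inv z _ h1 =>
        have : a * z⁻¹ * a⁻¹ = (a * z * a⁻¹)⁻¹ := by group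
        rw [this]; exact inv_mem h1
    intro a ha
    rw [Subgroup.mem_normalizer_iff]
    refine fun z => ⟨h1 a ha z, fun hz => ?_⟩
    simpa [mul_assoc] using h1 a⁻¹ (inv_mem ha) _ hz
  set X := K ⊔ J with hXdef
  let U : Subgroup G := ⨆ k : K, J.map (MulAut.conj (k : G)).toMonoidHom
  have hJU : J ≤ U := fun j hj =>
    (le_iSup (fun k : K => J.map (MulAut.conj (k : G)).toMonoidHom) 1) ⟨j, hj, by simp⟩
  have hU : U = X := by
    refine le_antisymm (iSup_le fun k => ?_) (sup_le ?_ hJU)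
    · rintro _ ⟨j, hj, rfl⟩
      simpa using mul_mem (mul_mem (Subgroup.mem_sup_left (T := J) k.2)
        (Subgroup.mem_sup_right (S := K) hj))
        (inv_mem (Subgroup.mem_sup_left (T := J) k.2))
    · refine le_trans hcomm.ge (Subgroup.commutator_le.mpr fun k hk j hj => ?_)
      have : k * j * k⁻¹ ∈ U :=
        (le_iSup (fun k : K => J.map (MulAut.conj (k : G)).toMonoidHom) ⟨k, hk⟩) ⟨j, hj, by simp⟩
      rw [commutatorElement_def]
      exact mul_mem this (inv_mem (hJU hj))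
  have hQU : ∀ q ∈ Q, ∀ z ∈ X, q * z * q⁻¹ ∈ X := by
    intro q hq z hz
    rw [← hU] at hz ⊢
    have hle : U ≤ U.comap (MulAut.conj q).toMonoidHom := by
      refine iSup_le fun k => ?_
      rintro _ ⟨j, hj, rfl⟩
      have hkq : (k : G)⁻¹ * q * (k : G) ∈ Q :=
        ((Subgroup.mem_normalizer_iff'' (g := (k : G))).mp (hQ1 (Subgroup.mem_sup_left k.2)) q).mp hq
      have hj' : ((k : G)⁻¹ * q * (k : G)) * j * ((k : G)⁻¹ * q * (k : G))⁻¹ ∈ J :=
        (Subgroup.mem_normalizer_iff.mp (hQ2 hkq) j).mp hj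
      refine (le_iSup (fun k : K => J.map (MulAut.conj (k : G)).toMonoidHom) k) ⟨_, hj', ?_⟩
      simp [mul_assoc]
    simpa using hle hz
  have hodd : ∀ z ∈ X, Odd (orderOf z) → z ∈ K := by
    intro z hz ho
    have hz' : z ∈ J ⊔ K := by rwa [sup_comm]
    haveI hn : (K.subgroupOf (J ⊔ K)).Normal :=
      Subgroup.normal_subgroupOf_of_le_normalizer (sup_le hJK Subgroup.le_normalizer)
    let f := QuotientGroup.mk' (K.subgroupOf (J ⊔ K))
    let φ := f.comp (Subgroup.inclusion (le_sup_left : J ≤ J ⊔ K))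
    have hφ : Function.Surjective φ := by
      intro w
      obtain ⟨⟨w, hw⟩, rfl⟩ := QuotientGroup.mk'_surjective _ w
      obtain ⟨j, hj, k, hk, rfl⟩ :=
        Set.mem_mul.mp ((Subgroup.coe_mul_of_left_le_normalizer_right J K hJK) ▸ (SetLike.mem_coe.mpr hw))
      refine ⟨⟨j, hj⟩, (QuotientGroup.eq).mpr ?_⟩
      simpa [Subgroup.mem_subgroupOf] using hk
    have h2 : IsPGroup 2 (↥(J ⊔ K) ⧸ K.subgroupOf (J ⊔ K)) := hJ.of_surjective φ hφ
    obtain ⟨n, hn2⟩ := h2 (f ⟨z, hz'⟩)
    have hd1 : orderOf (f ⟨z, hz'⟩) ∣ 2 ^ n := orderOf_dvd_of_pow_eq_one hn2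
    have hd2 : orderOf (f ⟨z, hz'⟩) ∣ orderOf z := by
      rw [show orderOf z = orderOf (⟨z, hz'⟩ : ↥(J ⊔ K)) from
        orderOf_injective (J ⊔ K).subtype (J ⊔ K).subtype_injective ⟨z, hz'⟩]
      exact orderOf_map_dvd f _
    have h1 : orderOf (f ⟨z, hz'⟩) = 1 :=
      Nat.eq_one_of_dvd_coprimes ((Nat.coprime_two_left.mpr ho).pow_left n) hd1 hd2
    have := (QuotientGroup.eq_one_iff (⟨z, hz'⟩ : ↥(J ⊔ K))).mp (orderOf_eq_one_iff.mp h1)
    simpa [Subgroup.mem_subgroupOf] using this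
  have hconj : ∀ q ∈ Q, ∀ z ∈ K, q * z * q⁻¹ ∈ K := by
    intro q hq z hz
    rw [← hclo] at hz
    induction hz using Subgroup.closure_induction with
    | mem z hz =>
      refine hodd _ (hQU q hq z (Subgroup.mem_sup_left hz.1)) ?_
      rw [← MulAut.conj_apply, MulEquiv.orderOf_eq]
      exact hz.2
    | one => simp
    | mul z w _ _ h1 h2 =>
      have : q * (z * w) * q⁻¹ = q * z * q⁻¹ * (q * w * q⁻¹) := by group
      rw [this]; exact mul_mem h1 h2
    | inv z _ h1 =>
      have : q * z⁻¹ * q⁻¹ = (q * z * q⁻¹)⁻¹ := by group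
      rw [this]; exact inv_mem h1
  intro q hq
  rw [Subgroup.mem_normalizer_iff]
  refine fun z => ⟨hconj q hq z, fun hz => ?_⟩
  simpa [mul_assoc] using hconj q⁻¹ (inv_mem hq) _ hz

end Cfsg.Agent.S2941
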