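import Cfsg.Statements.S2943
import Cfsg.Agent.Lib.JComp.Component
import Cfsg.Agent.Lib.JComp.Conj
import Cfsg.Agent.EqLemmas

set_option autoImplicit false
open Cfsg

namespace Cfsg.Agent.S2943

/-- Let G be a finite group of characteristic 2 type in which every 2-local subgroup is solvable and the centralizer of Ω₁(Z(S)) lies in N_G(S) for every Sylow 2-subgroup S, and let T be a nontrivial 2-subgroup (below, J is the Thompson subgroup generated by the elementary abelian 2-subgroups of largest order), L a subgroup in which T is a Sylow 2-subgroup with J(T) not contained in O₂(L) and C_G(O₂(L)) ≤ O₂(L), and K a J(T)-component contained in L. If Z(T) meets W_K = [Ω₁(Z(O₂(K))), K] nontrivially, then T normalizes K. -/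
theorem result {G : Type*} [Group G] [Finite G] (hL : Cfsg.IsCharacteristicTwoType G) (hN : ∀ N : Subgroup G, Cfsg.IsTwoLocal N → Group.IsSolvable ↥N)
    (hZ : ∀ S : Sylow 2 G, Subgroup.centralizer (Cfsg.omegaCenterOf (S : Subgroup G) : Set G) ≤ Subgroup.normalizer ((S : Subgroup G) : Set G)) (T : Subgroup G) (hT : IsPGroup 2 ↥T) (hT1 : T ≠ ⊥) (L : Subgroup G) (hLT : L ∈ Cfsg.jOvergroups T)
    (K : Subgroup G) (hK : Cfsg.IsJComponent T K) (hKL : K ≤ L)
    (hZW : T ⊓ Subgroup.centralizer (T : Set G) ⊓ Cfsg.wOf K ≠ ⊥) : T ≤ Subgroup.normalizer (K : Set G) := by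
  obtain hs : Cfsg.Agent.JComp.Setup T L := ⟨⟨hL, hN, hZ⟩, hLT⟩
  obtain ⟨⟨z, hz⟩, hz1⟩ := Subgroup.ne_bot_iff_exists_ne_one.mp hZW
  intro t ht
  rw [Subgroup.mem_normalizer_iff_map_conj_eq]
  obtain ⟨hc, hcL⟩ := hs.conj_comp hK hKL (hs.sylow.1 ht)
  by_contra hne
  obtain ⟨hbot, -⟩ := hs.wOf_disjoint hK hKL hc hcL hne
  have hzt : z ∈ Cfsg.wOf (K.map (MulAut.conj t).toMonoidHom) := by
    rw [Cfsg.Agent.JComp.wOf_conj]
    refine ⟨z, hz.2, ?_⟩
    show t * z * t⁻¹ = z
    rw [Subgroup.mem_centralizer_iff.mp hz.1.2 t ht, mul_inv_cancel_right]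
  have hmem : z ∈ (⊥ : Subgroup G) := hbot ▸ ⟨hz.2, hzt⟩
  exact hz1 (Subtype.ext (Subgroup.mem_bot.mp hmem))

end Cfsg.Agent.S2943
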