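import Cfsg.Statements.S2955
import Cfsg.Agent.Lib.SylowChain.Basic

set_option autoImplicit false
open Cfsg

namespace Cfsg.Agent.S2955

/-- Let p be a prime dividing the order of the finite group G and 𝓕 a conjugation-closed family of subgroups that controls Sylow p-intersections in G. Suppose the Sylow p-subgroups of G are chain-connected: any two of them are joined by a chain of Sylow p-subgroups, consecutive ones distinct with nontrivial intersection, all containing the intersection of the two ends (equivalently, the graph on the Sylow p-subgroups whose edges are the distinct pairs meeting nontrivially is connected). Then for every Sylow p-subgroup S, G is generated by N_G(S) together with the members of 𝓕 that meet S in a Sylow p-subgroup of themselves. -/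
theorem result {G : Type*} [Group G] [Finite G] (p : ℕ) [Fact p.Prime] (hdiv : p ∣ Nat.card G)
    (𝓕 : Set (Subgroup G)) (h𝓕 : Cfsg.IsNormalSet 𝓕) (hc : Cfsg.ControlsSylowIntersections p 𝓕)
    (hconn : Cfsg.IsSylowChainConnected p G) (S : Sylow p G) :
    (⨆ X ∈ Cfsg.sylowMembers p 𝓕 (S : Subgroup G), X) ⊔ Subgroup.normalizer ((S : Subgroup G) : Set G) = ⊤ := by
  set H := (⨆ X ∈ Cfsg.sylowMembers p 𝓕 (S : Subgroup G), X) ⊔
    Subgroup.normalizer ((S : Subgroup G) : Set G) with hH
  have step : ∀ U T : Sylow p G, U ≠ T → (U : Subgroup G) ⊓ (T : Subgroup G) ≠ ⊥ →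
      (∃ h ∈ H, U = h • S) → ∃ h ∈ H, T = h • S := by
    intro U T hUT hne hU
    obtain ⟨n, c, X, x, h0, hlast, hstep⟩ := hc U T hUT hne
    have key : ∀ i : Fin (n + 1), ∃ h ∈ H, c i = h • S := by
      intro i
      induction i using Fin.induction with
      | zero => rw [h0]; exact hU
      | succ i ih =>
        obtain ⟨h, hhH, hci⟩ := ih
        obtain ⟨hX, -, hx, hconj, -⟩ := hstep i
        have hX' := Cfsg.Agent.SylowChain.conj_mem_sylowMembers h𝓕 hX h
        rw [hci, inv_smul_smul] at hX'
        have hle : Cfsg.subgroupConjRight h (X i) ≤ H :=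
          le_sup_of_le_left (le_iSup₂ (f := fun Y (_ : Y ∈ Cfsg.sylowMembers p 𝓕 (S : Subgroup G)) => Y)
            _ hX')
        have hxH : x i ∈ H := by
          have h1 : h⁻¹ * x i * h ∈ Cfsg.subgroupConjRight h (X i) := by
            rw [Cfsg.Agent.SylowChain.mem_subgroupConjRight]
            simpa [mul_assoc] using hx
          simpa [mul_assoc] using mul_mem (mul_mem hhH (hle h1)) (inv_mem hhH)
        exact ⟨x i * h, mul_mem hxH hhH, by
          rw [Cfsg.Agent.SylowChain.chain_step hconj, hci, mul_smul]⟩
    exact hlast ▸ key (Fin.last n)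
  rw [eq_top_iff]
  intro g _
  obtain ⟨n, c, h0, hlast, -, hadj⟩ := hconn S (g • S)
  have key : ∀ i : Fin (n + 1), ∃ h ∈ H, c i = h • S := by
    intro i
    induction i using Fin.induction with
    | zero => exact ⟨1, one_mem _, by rw [h0, one_smul]⟩
    | succ i ih => exact step _ _ (hadj i).1 (hadj i).2 ih
  obtain ⟨h, hhH, hgh⟩ := key (Fin.last n)
  rw [hlast] at hgh
  have hn : h⁻¹ * g ∈ Subgroup.normalizer ((S : Subgroup G) : Set G) :=
    Sylow.smul_eq_iff_mem_normalizer.mp (by rw [mul_smul, hgh, inv_smul_smul])
  simpa using mul_mem hhH (Subgroup.mem_sup_right (S := ⨆ X ∈ Cfsg.sylowMembers p 𝓕 (S : Subgroup G), X) hn)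

end Cfsg.Agent.S2955
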