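import Cfsg.Statements.S2956
import Cfsg.Agent.Lib.SylowChain.Relative
import Cfsg.Agent.Lib.Isolated.Basic

set_option autoImplicit false
open Cfsg

namespace Cfsg.Agent.S2956

/-- Let p be a prime dividing the order of the finite group G, and f an assignment to every p-subgroup P of a set f(P) of subgroups of P, each normalized by N_G(P), compatible with conjugation, such that for P ≠ 1 the members of f(P) are nontrivial. Let 𝓕 be the family of the normalizers N_G(F) of the members F of f(S) over the Sylow p-subgroups S of G, and 𝓕' the family of the maximal p-local subgroups M of G that are singular for f (the corresponding family of normalizers inside M does not control Sylow p-intersections in M). Then 𝓕 ∪ 𝓕' controls Sylow p-intersections in G. -/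
theorem result {G : Type*} [Group G] [Finite G] (p : ℕ) [Fact p.Prime] (hdiv : p ∣ Nat.card G)
    (f : Subgroup G → Set (Subgroup G)) (hf : Cfsg.IsNormalizerFunctor p f)
    (hf1 : ∀ P : Subgroup G, IsPGroup p ↥P → P ≠ ⊥ → ∀ F ∈ f P, F ≠ ⊥)
    (𝓕 𝓕' : Set (Subgroup G)) (h𝓕 : 𝓕 = Cfsg.functorFamily p f ⊤)
    (h𝓕' : 𝓕' = {M | Cfsg.IsMaximalPLocal p M ∧ ¬ Cfsg.IsFunctorRegular p f M}) :
    Cfsg.ControlsSylowIntersections p (𝓕 ∪ 𝓕') := by
  subst h𝓕
  refine Cfsg.Agent.SylowChain.controls_of_reach fun S T hST hne => ?_
  suffices key : ∀ k : ℕ, ∀ D : Subgroup G, D ≠ ⊥ → Nat.card G ≤ Nat.card D + k →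
      ∀ S T : Sylow p G, S ≠ T → (S : Subgroup G) ⊓ (T : Subgroup G) = D →
        Cfsg.Agent.SylowChain.Reach p (Cfsg.functorFamily p f ⊤ ∪ 𝓕') D S T from
    key (Nat.card G) _ hne (Nat.le_add_left _ _) S T hST rfl
  intro k
  induction k with
  | zero =>
    intro D _ hk S T hST hD
    exfalso
    have htop : D = ⊤ := Subgroup.eq_top_of_card_eq D (le_antisymm (Subgroup.card_le_card_group D) (by omega))
    rw [← hD, inf_eq_top_iff] at htop
    exact hST (Sylow.ext (htop.1.trans htop.2.symm))
  | succ k ih =>
    intro D hD1 hk S T hST hDST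
    set 𝓖 := Cfsg.functorFamily p f ⊤ ∪ 𝓕' with h𝓖
    -- pairs with a larger intersection
    have hbig : ∀ (U V : Sylow p G) (A : Subgroup G), D ≤ A → Nat.card D < Nat.card A →
        A ≤ (U : Subgroup G) → A ≤ (V : Subgroup G) → Cfsg.Agent.SylowChain.Reach p 𝓖 D U V := by
      intro U V A hDA hlt hAU hAV
      by_cases hUV : U = V
      · subst hUV; exact Relation.ReflTransGen.refl
      have hle : A ≤ (U : Subgroup G) ⊓ (V : Subgroup G) := le_inf hAU hAV
      have hc := Nat.le_of_dvd Nat.card_pos (Subgroup.card_dvd_of_le hle)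
      refine (ih _ (fun h => hD1 (le_bot_iff.mp (h ▸ hDA.trans hle))) (by omega) U V hUV rfl).mono
        (hDA.trans hle)
    have hDp : IsPGroup p D := hDST ▸ S.isPGroup'.to_le inf_le_left
    -- any `p`-local subgroup
    have main : ∀ j : ℕ, ∀ M : Subgroup G, Cfsg.IsPLocal p M → ∀ P : Sylow p ↥M,
        Nat.card G ≤ Nat.card P + j → ∀ U V : Sylow p G, ∀ PU PV : Sylow p ↥M,
        (PU : Subgroup ↥M).map M.subtype ≤ (U : Subgroup G) →
        (PV : Subgroup ↥M).map M.subtype ≤ (V : Subgroup G) →
        D ≤ (PU : Subgroup ↥M).map M.subtype → D ≤ (PV : Subgroup ↥M).map M.subtype →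
        Nat.card D < Nat.card P → Cfsg.Agent.SylowChain.Reach p 𝓖 D U V := by
      intro j
      induction j using Nat.strong_induction_on with
      | _ j jh =>
      intro M hM P hj U V PU PV hPU hPV hDU hDV hlt
      obtain ⟨M', hMM', hM'max⟩ := Finite.exists_le_maximal (p := fun N => Cfsg.IsPLocal p N) hM
      have hM' : Cfsg.IsMaximalPLocal p M' :=
        ⟨hM'max.prop, fun N hN hle => le_antisymm (hM'max.le_of_ge hN hle) hle⟩
      -- move to Sylow subgroups of `M'`
      obtain ⟨U₁, hU₁, QU, hQU⟩ := Cfsg.Agent.SylowChain.exists_sylow_inf (p := p)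
        (PU.isPGroup'.map M.subtype) ((Subgroup.map_subtype_le _).trans hMM')
      obtain ⟨V₁, hV₁, QV, hQV⟩ := Cfsg.Agent.SylowChain.exists_sylow_inf (p := p)
        (PV.isPGroup'.map M.subtype) ((Subgroup.map_subtype_le _).trans hMM')
      have hcP : ∀ P' : Sylow p ↥M, Nat.card D < Nat.card ↥((P' : Subgroup ↥M).map M.subtype) := by
        intro P'
        rwa [Subgroup.card_map_of_injective M.subtype_injective,
          ← Nat.card_congr (Sylow.equiv P P').toEquiv]
      refine ((hbig U U₁ _ hDU (hcP PU) hPU hU₁).trans ?_).trans (hbig V₁ V _ hDV (hcP PV) hV₁ hPV)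
      have hQUge : (PU : Subgroup ↥M).map M.subtype ≤ (QU : Subgroup ↥M').map M'.subtype := by
        rw [hQU]; exact le_inf hU₁ ((Subgroup.map_subtype_le _).trans hMM')
      have hQVge : (PV : Subgroup ↥M).map M.subtype ≤ (QV : Subgroup ↥M').map M'.subtype := by
        rw [hQV]; exact le_inf hV₁ ((Subgroup.map_subtype_le _).trans hMM')
      have hcQ : Nat.card P ≤ Nat.card QU := by
        have h1 := Nat.le_of_dvd Nat.card_pos (Subgroup.card_dvd_of_le hQUge)
        rwa [Subgroup.card_map_of_injective M.subtype_injective,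
          Subgroup.card_map_of_injective M'.subtype_injective,
          ← Nat.card_congr (Sylow.equiv P PU).toEquiv] at h1
      by_cases hreg : Cfsg.IsFunctorRegular p f M'
      · -- regular
        by_cases hQ : QU = QV
        · refine hbig U₁ V₁ ((QU : Subgroup ↥M').map M'.subtype) (hDU.trans hQUge) ?_
            (hQU ▸ inf_le_left) (hQ ▸ hQV ▸ inf_le_left)
          rw [Subgroup.card_map_of_injective M'.subtype_injective]
          exact lt_of_lt_of_le hlt hcQ
        have hchain := Cfsg.Agent.SylowChain.regular_chain hf hreg hQ hD1 (hDU.trans hQUge)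
          (hDV.trans hQVge)
        have key : ∀ B, Relation.ReflTransGen (Cfsg.Agent.SylowChain.RelIn f M' D) QU B →
            D ≤ (B : Subgroup ↥M').map M'.subtype ∧ ∀ W : Sylow p G,
              (B : Subgroup ↥M').map M'.subtype ≤ (W : Subgroup G) →
              Cfsg.Agent.SylowChain.Reach p 𝓖 D U₁ W := by
          intro B hB
          induction hB with
          | refl =>
            refine ⟨hDU.trans hQUge, fun W hW => hbig U₁ W _ (hDU.trans hQUge) ?_ (hQU ▸ inf_le_left) hW⟩
            rw [Subgroup.card_map_of_injective M'.subtype_injective]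
            exact lt_of_lt_of_le hlt hcQ
          | @tail B C _ hrel ih2 =>
            obtain ⟨hDB, ih2⟩ := ih2
            obtain ⟨R, F, x, hF, hCB, hx, hBN, hCN, hDC⟩ := hrel
            refine ⟨hDC, fun W hW => ?_⟩
            obtain ⟨W₁, hW₁⟩ := (B.isPGroup'.map M'.subtype).exists_le_sylow
            refine (ih2 W₁ hW₁).trans ?_
            set RG := (R : Subgroup ↥M').map M'.subtype with hRG
            have hR : IsPGroup p RG := R.isPGroup'.map _
            have hcardR : ∀ B' : Sylow p ↥M',
                Nat.card ↥((B' : Subgroup ↥M').map M'.subtype) = Nat.card QU := fun B' => by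
              rw [Subgroup.card_map_of_injective M'.subtype_injective]
              exact Nat.card_congr (Sylow.equiv B' QU).toEquiv
            have hRne : RG ≠ ⊥ := by
              intro h
              have := hcardR R
              rw [← hRG, h, Subgroup.card_bot] at this
              have : 0 < Nat.card D := Nat.card_pos
              omega
            obtain ⟨hFR, hNF⟩ := (hf RG hR).1 F hF
            have hFlocal : Cfsg.IsPLocal p (Subgroup.normalizer (F : Set G)) :=
              ⟨F, hR.to_le hFR, hf1 RG hR hRne F hF, rfl⟩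
            obtain ⟨RS, hRS⟩ := hR.exists_le_sylow
            by_cases hfull : (RS : Subgroup G) = RG
            · -- `R` is a Sylow subgroup of `G`
              have hcS : ∀ (B' : Sylow p ↥M') (W' : Sylow p G),
                  (B' : Subgroup ↥M').map M'.subtype ≤ (W' : Subgroup G) →
                  (W' : Subgroup G) = (B' : Subgroup ↥M').map M'.subtype := by
                intro B' W' hle
                refine (Subgroup.eq_of_le_of_card_ge hle ?_).symm
                rw [hcardR, ← hcardR R, ← hRG, ← hfull]
                exact le_of_eq (Nat.card_congr (Sylow.equiv W' RS).toEquiv)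
              have hW' := hcS C W hW
              have hW₁' := hcS B W₁ hW₁
              refine Relation.ReflTransGen.single (Cfsg.Agent.SylowChain.step_functor
                Set.subset_union_left (W := RS) (F := F) (hfull.symm ▸ hF) hx (hW₁' ▸ hBN)
                (hW' ▸ hCN) ?_ (hW' ▸ hDC))
              refine Sylow.ext ?_
              rw [hW', hCB, Sylow.coe_subgroup_smul, Sylow.coe_subgroup_smul, hW₁']
              ext y
              constructor
              · rintro ⟨_, ⟨b, hb, rfl⟩, rfl⟩
                exact ⟨(b : G), ⟨b, hb, rfl⟩, rfl⟩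
              · rintro ⟨_, ⟨b, hb, rfl⟩, rfl⟩
                exact ⟨x * b * x⁻¹, ⟨b, hb, rfl⟩, rfl⟩
            · -- `N(F)` has larger Sylow subgroups
              set L := Subgroup.normalizer (F : Set G) with hL
              obtain ⟨PB, hPB⟩ := ((B.isPGroup'.map M'.subtype).comap_subtype (K := L)).exists_le_sylow
              obtain ⟨PC, hPC⟩ := ((C.isPGroup'.map M'.subtype).comap_subtype (K := L)).exists_le_sylow
              have hPB' : (B : Subgroup ↥M').map M'.subtype ≤ (PB : Subgroup ↥L).map L.subtype :=
                fun b hb => ⟨⟨b, hBN hb⟩, hPB hb, rfl⟩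
              have hPC' : (C : Subgroup ↥M').map M'.subtype ≤ (PC : Subgroup ↥L).map L.subtype :=
                fun c hc => ⟨⟨c, hCN hc⟩, hPC hc, rfl⟩
              have hgt : Nat.card QU < Nat.card PB := by
                by_contra hle
                refine hfull (Cfsg.Agent.Isolated.eq_of_normalizer_le RS.isPGroup' hRS
                  fun g hgS hg => ?_).symm
                obtain ⟨PR, hPR⟩ := ((RS.isPGroup'.to_le (inf_le_left :
                  (RS : Subgroup G) ⊓ Subgroup.normalizer (RG : Set G) ≤ _)).comap_subtype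
                  (K := L)).exists_le_sylow
                have hsub : (RS : Subgroup G) ⊓ Subgroup.normalizer (RG : Set G) ≤
                    (PR : Subgroup ↥L).map L.subtype :=
                  fun y hy => ⟨⟨y, hNF hy.2⟩, hPR hy, rfl⟩
                have h1 := Nat.le_of_dvd Nat.card_pos (Subgroup.card_dvd_of_le hsub)
                rw [Subgroup.card_map_of_injective L.subtype_injective,
                  Nat.card_congr (Sylow.equiv PR PB).toEquiv] at h1
                have heq := Subgroup.eq_of_le_of_card_ge
                  (le_inf hRS Subgroup.le_normalizer) (h1.trans (by rw [hcardR R]; omega))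
                exact heq.ge ⟨hgS, hg⟩
              obtain ⟨WB, hWB⟩ := (PB.isPGroup'.map L.subtype).exists_le_sylow
              obtain ⟨WC, hWC⟩ := (PC.isPGroup'.map L.subtype).exists_le_sylow
              have hDlt : Nat.card D < Nat.card QU := lt_of_lt_of_le hlt hcQ
              refine ((hbig W₁ WB _ hDB ((hcardR B).symm ▸ hDlt) hW₁ (hPB'.trans hWB)).trans ?_).trans
                (hbig WC W _ hDC ((hcardR C).symm ▸ hDlt) (hPC'.trans hWC) hW)
              have hPle : Nat.card PB ≤ Nat.card G := by
                exact Subgroup.card_le_card_group (PB : Subgroup ↥L) |>.trans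
                  (Subgroup.card_le_card_group L)
              exact jh (Nat.card G - Nat.card PB) (by omega) L hFlocal PB (by omega) WB WC PB PC hWB
                hWC (hDB.trans hPB') (hDC.trans hPC') (by omega)
        exact (key QV hchain).2 V₁ (hQV ▸ inf_le_left)
      · -- singular
        obtain ⟨m, hm⟩ := MulAction.exists_smul_eq ↥M' QU QV
        have hV' : (QV : Subgroup ↥M').map M'.subtype ≤ (((m : G) • U₁ : Sylow p G) : Subgroup G) := by
          rw [← hm, Sylow.coe_subgroup_smul, Sylow.coe_subgroup_smul]
          rintro _ ⟨_, ⟨b, hb, rfl⟩, rfl⟩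
          exact ⟨(b : G), (hQU.le ⟨b, hb, rfl⟩).1, rfl⟩
        have hmem : ∀ (Q : Sylow p ↥M') (W : Sylow p G),
            (Q : Subgroup ↥M').map M'.subtype ≤ (W : Subgroup G) →
            M' ∈ Cfsg.sylowMembers p 𝓖 (W : Subgroup G) := fun Q W hQW => by
          refine ⟨Or.inr (h𝓕' ▸ ⟨hM', hreg⟩), Q, le_antisymm (le_inf hQW (Subgroup.map_subtype_le _))
            fun y hy => ?_⟩
          have hle : (Q : Subgroup ↥M') ≤ (W : Subgroup G).comap M'.subtype :=
            fun b hb => hQW ⟨b, hb, rfl⟩
          exact ⟨⟨y, hy.2⟩, Q.is_maximal' (W.isPGroup'.comap_subtype (K := M')) hle ▸ hy.1, rfl⟩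
        have hstep : Cfsg.Agent.SylowChain.Step p 𝓖 D U₁ ((m : G) • U₁) :=
          ⟨M', m, hmem QU U₁ (hQU ▸ inf_le_left), hmem QV _ hV', m.2, rfl,
            le_inf ((hDV.trans hQVge).trans hV') ((hDV.trans hQVge).trans (Subgroup.map_subtype_le _))⟩
        refine Relation.ReflTransGen.head hstep (hbig _ V₁ _ (hDV.trans hQVge) ?_ hV' (hQV ▸ inf_le_left))
        rw [Subgroup.card_map_of_injective M'.subtype_injective,
          Nat.card_congr (Sylow.equiv QV QU).toEquiv]
        exact lt_of_lt_of_le hlt hcQ
    -- start at `N(D)`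
    set N := Subgroup.normalizer (D : Set G) with hN
    have hlocal : Cfsg.IsPLocal p N := ⟨D, hDp, hD1, rfl⟩
    have hgrow : ∀ W : Sylow p G, D ≤ (W : Subgroup G) → (W : Subgroup G) ≠ D →
        Nat.card D < Nat.card ↥((W : Subgroup G) ⊓ N) := by
      intro W hDW hne'
      by_contra hle
      have heq := Subgroup.eq_of_le_of_card_ge (le_inf hDW Subgroup.le_normalizer) (Nat.le_of_not_lt hle)
      exact hne' (Cfsg.Agent.Isolated.eq_of_normalizer_le W.isPGroup' hDW
        fun g hgW hg => heq.ge ⟨hgW, hg⟩).symm
    have hDS : D ≤ (S : Subgroup G) := hDST ▸ inf_le_left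
    have hDT : D ≤ (T : Subgroup G) := hDST ▸ inf_le_right
    have hSne : (S : Subgroup G) ≠ D := fun h =>
      hST (Sylow.ext (S.is_maximal' T.isPGroup' (h.le.trans hDT)).symm)
    have hTne : (T : Subgroup G) ≠ D := fun h =>
      hST (Sylow.ext (T.is_maximal' S.isPGroup' (h.le.trans hDS)))
    obtain ⟨U, hU, PU, hPU⟩ := Cfsg.Agent.SylowChain.exists_sylow_inf (p := p)
      (S.isPGroup'.to_le (inf_le_left : (S : Subgroup G) ⊓ N ≤ _)) inf_le_right
    obtain ⟨V, hV, PV, hPV⟩ := Cfsg.Agent.SylowChain.exists_sylow_inf (p := p)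
      (T.isPGroup'.to_le (inf_le_left : (T : Subgroup G) ⊓ N ≤ _)) inf_le_right
    refine ((hbig S U _ (le_inf hDS Subgroup.le_normalizer) (hgrow S hDS hSne) inf_le_left hU).trans ?_).trans
      (hbig V T _ (le_inf hDT Subgroup.le_normalizer) (hgrow T hDT hTne) hV inf_le_left)
    have hlt : Nat.card D < Nat.card PU := by
      refine lt_of_lt_of_le (hgrow S hDS hSne) ?_
      rw [← Subgroup.card_map_of_injective (K := (PU : Subgroup ↥N)) N.subtype_injective, hPU]
      exact Nat.le_of_dvd Nat.card_pos (Subgroup.card_dvd_of_le (le_inf hU inf_le_right))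
    refine main (Nat.card G) N hlocal PU (Nat.le_add_left _ _) U V PU PV (hPU ▸ inf_le_left)
      (hPV ▸ inf_le_left) ?_ ?_ hlt
    · rw [hPU]
      exact le_inf ((le_inf hDS Subgroup.le_normalizer).trans hU) Subgroup.le_normalizer
    · rw [hPV]
      exact le_inf ((le_inf hDT Subgroup.le_normalizer).trans hV) Subgroup.le_normalizer

end Cfsg.Agent.S2956
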