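import Cfsg.Statements.S2957
import Cfsg.Agent.Lib.SylowChain.Relative
import Cfsg.Agent.S2940

set_option autoImplicit false
open Cfsg

namespace Cfsg.Agent.S2957

/-- Regularity of `M` joins any two conjugates of Sylow subgroups lying in `M`. -/
theorem reach_of_regular {G : Type*} [Group G] [Finite G] {p : ℕ} [Fact p.Prime]
    {f : Subgroup G → Set (Subgroup G)} (hf : Cfsg.IsNormalizerFunctor p f) {M : Subgroup G}
    (hr : Cfsg.IsFunctorRegular p f M) (a : G) (U V : Sylow p G) (hU : (U : Subgroup G) ≤ M)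
    (hV : (V : Subgroup G) ≤ M) {D : Subgroup G} (hD : D ≠ ⊥)
    (hDU : D ≤ ((a • U : Sylow p G) : Subgroup G)) (hDV : D ≤ ((a • V : Sylow p G) : Subgroup G)) :
    Cfsg.Agent.SylowChain.Reach p (Cfsg.functorFamily p f ⊤) D (a • U) (a • V) := by
  by_cases hUV : U = V
  · subst hUV; exact Relation.ReflTransGen.refl
  set D₀ := D.map (MulAut.conj a⁻¹).toMonoidHom with hD₀
  have hmap : ∀ Q : Sylow p G, (Q : Subgroup G) ≤ M → D ≤ ((a • Q : Sylow p G) : Subgroup G) →
      D₀ ≤ ((Q : Subgroup G).subgroupOf M).map M.subtype := by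
    intro Q hQ hDQ
    rw [Subgroup.map_subgroupOf_eq_of_le hQ]
    rintro _ ⟨d, hd, rfl⟩
    simpa using Cfsg.Agent.SylowChain.mem_smul_sylow.mp (hDQ hd)
  have h := Cfsg.Agent.SylowChain.regular_chain hf hr (A := U.subtype hU) (B := V.subtype hV)
    (fun h => hUV (Sylow.subtype_injective h)) (D := D₀)
    (fun h => hD ((Subgroup.map_eq_bot_iff_of_injective _ (MulAut.conj a⁻¹).injective).mp h))
    (hmap U hU hDU) (hmap V hV hDV)
  have key : ∀ B, Relation.ReflTransGen (Cfsg.Agent.SylowChain.RelIn f M D₀) (U.subtype hU) B →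
      ∃ Q : Sylow p G, (Q : Subgroup G) = (B : Subgroup ↥M).map M.subtype ∧
        Cfsg.Agent.SylowChain.Reach p (Cfsg.functorFamily p f ⊤) D (a • U) (a • Q) := by
    intro B hB
    induction hB with
    | refl => exact ⟨U, (Subgroup.map_subgroupOf_eq_of_le hU).symm, Relation.ReflTransGen.refl⟩
    | @tail B C _ hrel ih =>
      obtain ⟨Q, hQ, hreach⟩ := ih
      obtain ⟨P, F, x, hF, hCB, hx, hBN, hCN, hDC⟩ := hrel
      -- all three are Sylow subgroups of `G`
      have hPS : ∃ Z : Sylow p G, (Z : Subgroup G) = (P : Subgroup ↥M).map M.subtype := by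
        obtain ⟨m, hm⟩ := MulAction.exists_smul_eq ↥M (U.subtype hU) P
        refine ⟨(m : G) • U, ?_⟩
        rw [← hm, Sylow.smul_subtype hU]
        exact (Subgroup.map_subgroupOf_eq_of_le (Sylow.smul_le hU m)).symm
      obtain ⟨Z, hZ⟩ := hPS
      refine ⟨(x : G) • Q, ?_, hreach.tail ?_⟩
      · rw [hCB, Sylow.coe_subgroup_smul, Sylow.coe_subgroup_smul, hQ]
        ext y
        constructor
        · rintro ⟨_, ⟨b, hb, rfl⟩, rfl⟩
          exact ⟨x * b * x⁻¹, ⟨b, hb, rfl⟩, rfl⟩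
        · rintro ⟨_, ⟨b, hb, rfl⟩, rfl⟩
          exact ⟨(b : G), ⟨b, hb, rfl⟩, rfl⟩
      have hQC : (((x : G) • Q : Sylow p G) : Subgroup G) = (C : Subgroup ↥M).map M.subtype := by
        rw [hCB, Sylow.coe_subgroup_smul, Sylow.coe_subgroup_smul, hQ]
        ext y
        constructor
        · rintro ⟨_, ⟨b, hb, rfl⟩, rfl⟩
          exact ⟨x * b * x⁻¹, ⟨b, hb, rfl⟩, rfl⟩
        · rintro ⟨_, ⟨b, hb, rfl⟩, rfl⟩
          exact ⟨(b : G), ⟨b, hb, rfl⟩, rfl⟩
      set Fa := F.map (MulAut.conj a).toMonoidHom with hFa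
      have hFa' : Fa ∈ f (((a • Z : Sylow p G) : Subgroup G)) := by
        rw [Sylow.coe_subgroup_smul]
        show Fa ∈ f ((Z : Subgroup G).map (MulAut.conj a).toMonoidHom)
        rw [(hf _ Z.isPGroup').2 a]
        exact ⟨F, hZ ▸ hF, rfl⟩
      have hN : ∀ y ∈ Subgroup.normalizer (F : Set G),
          a * y * a⁻¹ ∈ Subgroup.normalizer (Fa : Set G) := fun y hy =>
        Subgroup.le_normalizer_map (MulAut.conj a).toMonoidHom ⟨y, hy, rfl⟩
      refine Cfsg.Agent.SylowChain.step_functor (subset_refl _) (W := a • Z) hFa'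
        (x := a * x * a⁻¹) (hN _ hx) ?_ ?_ ?_ ?_
      · intro y hy
        have := hN _ (hBN (hQ ▸ Cfsg.Agent.SylowChain.mem_smul_sylow.mp hy))
        simpa [mul_assoc] using this
      · intro y hy
        have := hN _ (hCN (hQC ▸ Cfsg.Agent.SylowChain.mem_smul_sylow.mp hy))
        simpa [mul_assoc] using this
      · rw [← mul_smul, ← mul_smul, inv_mul_cancel_right]
      · intro d hd
        refine Cfsg.Agent.SylowChain.mem_smul_sylow.mpr ?_
        rw [hQC]
        exact hDC ⟨d, hd, by simp⟩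
  obtain ⟨Q, hQ, hreach⟩ := key _ h
  have : Q = V := Sylow.ext (hQ.trans (Subgroup.map_subgroupOf_eq_of_le hV))
  exact this ▸ hreach

/-- Let p be a prime dividing the order of the finite group G, f an equivariant assignment of a set of subgroups f(P) of P to every p-subgroup P, each normalized by N_G(P), and S a Sylow p-subgroup. If G = G₁G₂ for subgroups G₁, G₂ both containing S and both regular for f (in each Gᵢ, the family of normalizers in Gᵢ of the members of f(P), P a Sylow p-subgroup of Gᵢ, controls Sylow p-intersections), then G itself is regular for f. -/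
theorem result {G : Type*} [Group G] [Finite G] (p : ℕ) [Fact p.Prime] (hdiv : p ∣ Nat.card G)
    (f : Subgroup G → Set (Subgroup G)) (hf : Cfsg.IsNormalizerFunctor p f) (S : Sylow p G)
    (G₁ G₂ : Subgroup G) (h₁ : (S : Subgroup G) ≤ G₁) (h₂ : (S : Subgroup G) ≤ G₂)
    (hprod : ∀ g : G, ∃ g₁ ∈ G₁, ∃ g₂ ∈ G₂, g = g₁ * g₂)
    (hr₁ : Cfsg.IsFunctorRegular p f G₁) (hr₂ : Cfsg.IsFunctorRegular p f G₂) :
    Cfsg.IsFunctorRegular p f ⊤ := by
  refine Cfsg.Agent.SylowChain.regular_top_of_controls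
    (Cfsg.Agent.SylowChain.controls_of_reach fun U₀ V₀ _ hne => ?_)
  obtain ⟨a, rfl⟩ := MulAction.exists_smul_eq G S U₀
  obtain ⟨b, rfl⟩ := MulAction.exists_smul_eq G S V₀
  obtain ⟨W, hW1, hW2⟩ := Cfsg.Agent.S2940.result S G₁ G₂ h₁ h₂ hprod (b⁻¹ * a)
  have hW : ((a • W : Sylow p G) : Subgroup G) = (W : Subgroup G).map (MulAut.conj a).toMonoidHom := by
    rw [Sylow.coe_subgroup_smul]
    rfl
  set D : Subgroup G := ((a • S : Sylow p G) : Subgroup G) ⊓ ((b • S : Sylow p G) : Subgroup G) with hD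
  have hDmem : ∀ d ∈ D, a⁻¹ * d * a ∈ (W : Subgroup G) := by
    intro d hd
    refine hW1 ⟨Cfsg.Agent.SylowChain.mem_smul_sylow.mp hd.1,
      Cfsg.Agent.SylowChain.mem_subgroupConjRight.mpr ?_⟩
    simpa [mul_assoc] using Cfsg.Agent.SylowChain.mem_smul_sylow.mp hd.2
  have hDW : D ≤ ((a • W : Sylow p G) : Subgroup G) := fun d hd =>
    Cfsg.Agent.SylowChain.mem_smul_sylow.mpr (hDmem d hd)
  refine (reach_of_regular hf hr₁ a S W h₁ (hW2.trans inf_le_left) hne inf_le_left hDW).trans ?_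
  -- pass to `G₂`
  set g := b⁻¹ * a with hg
  have hW' : ((g • W : Sylow p G) : Subgroup G) ≤ G₂ := by
    intro w hw
    have := Cfsg.Agent.SylowChain.mem_subgroupConjRight.mp
      ((hW2 (Cfsg.Agent.SylowChain.mem_smul_sylow.mp hw)).2)
    simpa [mul_assoc] using this
  have h2 := reach_of_regular hf hr₂ b (g • W) S hW' h₂ hne
    (by rw [← mul_smul, hg, mul_inv_cancel_left]; exact hDW) inf_le_right
  rwa [← mul_smul, hg, mul_inv_cancel_left] at h2

end Cfsg.Agent.S2957
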