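import Cfsg.Statements.S2958
import Cfsg.Agent.EqLemmas

set_option autoImplicit false
open Cfsg

namespace Cfsg.Agent.S2958

/-- Let X, A, B be subgroups of a group G such that G is generated by the conjugates of X and every conjugate of X is contained in A or in B. Then A = G or B = G. -/
theorem result {G : Type*} [Group G] (X A B : Subgroup G) (hgen : (⨆ g : G, X.map (MulAut.conj g).toMonoidHom) = ⊤) (hcover : ∀ g : G, X.map (MulAut.conj g).toMonoidHom ≤ A ∨ X.map (MulAut.conj g).toMonoidHom ≤ B) : A = ⊤ ∨ B = ⊤ := by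
  classical
  rcases Classical.em (∃ g : G, ¬ X.map (MulAut.conj g).toMonoidHom ≤ B) with ⟨g₀, hg₀⟩ | hB
  swap
  · right
    push Not at hB
    rw [← top_le_iff, ← hgen]
    exact iSup_le hB
  left
  let D : Set G := {g : G | ¬ X.map (MulAut.conj g).toMonoidHom ≤ B}
  let U : Subgroup G := ⨆ g ∈ D, X.map (MulAut.conj g).toMonoidHom
  have hUA : U ≤ A := iSup₂_le fun g hg => (hcover g).resolve_right hg
  have hmem : ∀ g ∈ D, X.map (MulAut.conj g).toMonoidHom ≤ U := fun g hg =>
    le_iSup₂ (f := fun g (_ : g ∈ D) => X.map (MulAut.conj g).toMonoidHom) g hg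
  have hcomp : ∀ a b : G, (X.map (MulAut.conj b).toMonoidHom).map (MulAut.conj a).toMonoidHom
      = X.map (MulAut.conj (a * b)).toMonoidHom := by
    intro a b
    rw [Subgroup.map_map]
    congr 1
    ext x
    simp [mul_assoc]
  have key : ∀ g : G, ∀ y ∈ X.map (MulAut.conj g).toMonoidHom, ∀ u ∈ U, y * u * y⁻¹ ∈ U := by
    intro g y hy u hu
    by_cases hg : g ∈ D
    · exact mul_mem (mul_mem (hmem g hg hy) hu) (inv_mem (hmem g hg hy))
    · have hgB : X.map (MulAut.conj g).toMonoidHom ≤ B := not_not.mp hg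
      have hle : U ≤ U.comap (MulAut.conj y).toMonoidHom := by
        refine iSup₂_le fun h hh => ?_
        rw [← Subgroup.map_le_iff_le_comap, hcomp]
        refine hmem _ fun hB' => hh fun x hx => ?_
        have h1 : y * x * y⁻¹ ∈ B := by
          apply hB'
          rw [← hcomp y h]
          exact ⟨x, hx, by simp⟩
        have h2 : y⁻¹ * (y * x * y⁻¹) * y ∈ B :=
          mul_mem (mul_mem (inv_mem (hgB hy)) h1) (hgB hy)
        simpa [mul_assoc] using h2
      simpa using hle hu
  have hN : U.Normal := by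
    have htop : (⊤ : Subgroup G) ≤ Subgroup.normalizer (U : Set G) := by
      rw [← hgen]
      refine iSup_le fun g y hy => ?_
      rw [Subgroup.mem_normalizer_iff]
      intro u
      refine ⟨fun hu => key g y hy u hu, fun hu => ?_⟩
      have := key g y⁻¹ (inv_mem hy) _ hu
      simpa [mul_assoc] using this
    exact Subgroup.normalizer_eq_top_iff.mp (top_le_iff.mp htop)
  rw [← top_le_iff, ← hgen]
  refine le_trans (iSup_le fun g => ?_) hUA
  have h := hcomp (g * g₀⁻¹) g₀
  rw [inv_mul_cancel_right] at h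
  rw [← h]
  rintro _ ⟨x, hx, rfl⟩
  simpa [mul_assoc] using hN.conj_mem x (hmem g₀ hg₀ hx) (g * g₀⁻¹)

end Cfsg.Agent.S2958
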