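import Cfsg.Statements.S2960
import Cfsg.Agent.Lib.CharP.Basic

set_option autoImplicit false
open Cfsg

namespace Cfsg.Agent.S2960

/-- Let G be a finite group of characteristic p (C_G(O_p(G)) ≤ O_p(G)), p prime, T a Sylow p-subgroup of G and Q a normal subgroup of T with C_T(Q) ≤ Q. Then C_G(Q) ≤ Q. -/
theorem result {G : Type*} [Group G] [Finite G] {p : ℕ} [Fact p.Prime] (hG : Subgroup.centralizer (Cfsg.pCore p G : Set G) ≤ Cfsg.pCore p G) (T : Sylow p G) (Q : Subgroup G) (hQT : Q ≤ (T : Subgroup G)) (hQn : (T : Subgroup G) ≤ Subgroup.normalizer (Q : Set G)) (hC : (T : Subgroup G) ⊓ Subgroup.centralizer (Q : Set G) ≤ Q) : Subgroup.centralizer (Q : Set G) ≤ Q := by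
  set R := Cfsg.pCore p G with hR
  have hRp : IsPGroup p R := Cfsg.Agent.Cores.isPGroup_pCore p G
  have hCC : IsPGroup p ↥(Subgroup.centralizer (Q : Set G)) := by
    refine Cfsg.Agent.CharP.isPGroup_of_coprime_eq_one fun y hy hyp => ?_
    refine Cfsg.Agent.CharP.eq_one_of_centralizes_pCore hG hyp ?_
    refine Cfsg.Agent.CharP.commute_of_centralizes_centralizer hRp (T.isPGroup'.to_le hQT)
      (by rw [Subgroup.normalizer_eq_top]; exact le_top) hyp
      (by rw [Subgroup.normalizer_eq_top]; exact Subgroup.mem_top y)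
      (fun q hq => (Subgroup.mem_centralizer_iff.mp hy q hq).symm) ?_
    intro x hx hxQ
    have hxT : x ∈ (T : Subgroup G) := Cfsg.Agent.Cores.pCore_le_sylow T hx
    have hxQ' : x ∈ Q := hC ⟨hxT, Subgroup.mem_centralizer_iff.mpr fun q hq => (hxQ q hq).eq.symm⟩
    exact (Subgroup.mem_centralizer_iff.mp hy x hxQ').symm
  have hTC : (T : Subgroup G) ≤ Subgroup.normalizer (Subgroup.centralizer (Q : Set G) : Set G) := by
    intro t ht
    have h := Subgroup.mem_normalizer_iff.mp (hQn ht)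
    have key : ∀ a : G, (∀ x, x ∈ Q → a⁻¹ * x * a ∈ Q) → ∀ z ∈ Subgroup.centralizer (Q : Set G),
        a * z * a⁻¹ ∈ Subgroup.centralizer (Q : Set G) := by
      intro a ha z hz
      refine Subgroup.mem_centralizer_iff.mpr fun x hx => ?_
      have h1 := Subgroup.mem_centralizer_iff.mp hz _ (ha x hx)
      calc x * (a * z * a⁻¹) = a * (a⁻¹ * x * a * z) * a⁻¹ := by group
        _ = a * (z * (a⁻¹ * x * a)) * a⁻¹ := by rw [h1]
        _ = a * z * a⁻¹ * x := by group
    have hA : ∀ x, x ∈ Q → t⁻¹ * x * t ∈ Q := fun x hx => (h _).mpr (by simpa [mul_assoc] using hx)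
    rw [Subgroup.mem_normalizer_iff]
    refine fun z => ⟨key t hA z, fun hz => ?_⟩
    have := key t⁻¹ (fun x hx => by simpa [mul_assoc] using (h x).mp hx) _ hz
    simpa [mul_assoc] using this
  have hsup : IsPGroup p ↥((T : Subgroup G) ⊔ Subgroup.centralizer (Q : Set G)) :=
    T.isPGroup'.to_sup_of_normal_right' hCC hTC
  have heq := T.is_maximal' hsup le_sup_left
  intro x hx
  exact hC ⟨heq ▸ Subgroup.mem_sup_right hx, hx⟩

end Cfsg.Agent.S2960
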