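import Cfsg.Statements.S2961
import Cfsg.Agent.Lib.CharP.Basic

set_option autoImplicit false
open Cfsg

namespace Cfsg.Agent.S2961

/-- Let G be a finite group of characteristic p (C_G(O_p(G)) ≤ O_p(G)), p prime, T a Sylow p-subgroup of G and Q a normal subgroup of T with C_T(Q) ≤ Q. Then every subgroup L of G containing Q has characteristic p: C_L(O_p(L)) ≤ O_p(L). -/
theorem result {G : Type*} [Group G] [Finite G] {p : ℕ} [Fact p.Prime] (hG : Subgroup.centralizer (Cfsg.pCore p G : Set G) ≤ Cfsg.pCore p G) (T : Sylow p G) (Q : Subgroup G) (hQT : Q ≤ (T : Subgroup G)) (hQn : (T : Subgroup G) ≤ Subgroup.normalizer (Q : Set G)) (hC : (T : Subgroup G) ⊓ Subgroup.centralizer (Q : Set G) ≤ Q) (L : Subgroup G) (hQL : Q ≤ L) : Subgroup.centralizer (Cfsg.pCore p ↥L : Set ↥L) ≤ Cfsg.pCore p ↥L := by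
  refine Cfsg.Agent.CharP.charP_of_forall fun y hy hyc => ?_
  set R := Cfsg.pCore p G with hR
  have hRp : IsPGroup p R := Cfsg.Agent.Cores.isPGroup_pCore p G
  have hRn : R.Normal := Cfsg.Agent.Cores.pCore_normal p G
  have hy' : (orderOf (y : G)).Coprime p := by rwa [Subgroup.orderOf_coe]
  have hyR0 : ∀ (z : ↥L), (∀ r ∈ Cfsg.pCore p ↥L, Commute z r) → ∀ r ∈ R, r ∈ L →
      Commute (z : G) r := fun z hz r hr hrL =>
    congrArg Subtype.val (hz ⟨r, hrL⟩ (Cfsg.Agent.CharP.pCore_subgroupOf_le L hr)).eq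
  have hqR : ∀ q ∈ Q, ∀ r ∈ R, q * r * q⁻¹ * r⁻¹ ∈ L := by
    intro q hq r hr
    have h1 : r * q⁻¹ * r⁻¹ ∈ Q :=
      (Subgroup.mem_normalizer_iff.mp (hQn (Cfsg.Agent.Cores.pCore_le_sylow T hr)) q⁻¹).mp
        (inv_mem hq)
    simpa [mul_assoc] using hQL (mul_mem hq h1)
  let N : Subgroup ↥L :=
    { carrier := {g | (∀ r ∈ Cfsg.pCore p ↥L, Commute g r) ∧
        ∀ r ∈ R, (g : G) * r * (g : G)⁻¹ * r⁻¹ ∈ L}
      one_mem' := ⟨fun r _ => Commute.one_left r, fun r _ => by simp⟩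
      mul_mem' := fun {a b} ha hb => ⟨fun r hr => (ha.1 r hr).mul_left (hb.1 r hr), fun r hr => by
        have e : ((a * b : ↥L) : G) * r * ((a * b : ↥L) : G)⁻¹ * r⁻¹ =
            (a : G) * ((b : G) * r * (b : G)⁻¹ * r⁻¹) * (a : G)⁻¹ *
              ((a : G) * r * (a : G)⁻¹ * r⁻¹) := by
          rw [Subgroup.coe_mul]; group
        rw [e]
        exact mul_mem (mul_mem (mul_mem a.2 (hb.2 r hr)) (inv_mem a.2)) (ha.2 r hr)⟩
      inv_mem' := fun {a} ha => ⟨fun r hr => (ha.1 r hr).inv_left, fun r hr => by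
        have e : ((a⁻¹ : ↥L) : G) * r * ((a⁻¹ : ↥L) : G)⁻¹ * r⁻¹ =
            (a : G)⁻¹ * ((a : G) * r * (a : G)⁻¹ * r⁻¹)⁻¹ * (a : G) := by
          rw [Subgroup.coe_inv]; group
        rw [e]
        exact mul_mem (mul_mem (inv_mem a.2) (inv_mem (ha.2 r hr))) a.2⟩ }
  have hNn : N.Normal := by
    refine ⟨fun z hz g => ⟨fun r hr => ?_, fun r hr => ?_⟩⟩
    · have h := hz.1 (g⁻¹ * r * g) (by
        simpa using (Cfsg.Agent.Cores.pCore_normal p ↥L).conj_mem r hr g⁻¹)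
      have := h.map (MulAut.conj g)
      simpa [mul_assoc] using this
    · have hr' : (g : G)⁻¹ * r * (g : G) ∈ R := by simpa using hRn.conj_mem r hr (g : G)⁻¹
      have h := mul_mem (mul_mem g.2 (hz.2 _ hr')) (inv_mem g.2)
      simpa [mul_assoc] using h
  have hNp : IsPGroup p N := by
    refine Cfsg.Agent.CharP.isPGroup_of_coprime_eq_one fun z hz hzp => ?_
    have hzp' : (orderOf (z : G)).Coprime p := by rwa [Subgroup.orderOf_coe]
    refine Subtype.ext (Cfsg.Agent.CharP.eq_one_of_centralizes_pCore hG hzp' fun r hr => ?_)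
    set c := r * (z : G) * r⁻¹ * (z : G)⁻¹ with hc
    have hcR : c ∈ R := by
      simpa [hc, mul_assoc] using mul_mem hr (hRn.conj_mem _ (inv_mem hr) (z : G))
    have hcL : c ∈ L := by
      have := inv_mem (hz.2 r hr)
      simpa [hc, mul_assoc] using this
    obtain ⟨k, hk⟩ := hRp ⟨c, hcR⟩
    exact (Cfsg.Agent.CharP.eq_one_of_commute hzp' ⟨k, by simpa using congrArg Subtype.val hk⟩
      (hyR0 z hz.1 c hcR hcL).symm).symm
  have hNle : N ≤ Cfsg.pCore p ↥L := Cfsg.Agent.Cores.le_pCore hNn hNp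
  have hyQ : ∀ q ∈ Q, Commute (y : G) q := by
    intro q hq
    set ql : ↥L := ⟨q, hQL hq⟩ with hql
    have hzmem : ql * y * ql⁻¹ * y⁻¹ ∈ N := by
      refine ⟨fun r hr => ?_, fun r hr => ?_⟩
      · have h := (hyc (ql⁻¹ * r * ql)
          (by simpa using (Cfsg.Agent.Cores.pCore_normal p ↥L).conj_mem r hr ql⁻¹)).map
            (MulAut.conj ql)
        have h1 : Commute (ql * y * ql⁻¹) r := by simpa [mul_assoc] using h
        exact h1.mul_left (hyc r hr).inv_left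
      · show ((ql * y * ql⁻¹ * y⁻¹ : ↥L) : G) * r * ((ql * y * ql⁻¹ * y⁻¹ : ↥L) : G)⁻¹ * r⁻¹ ∈ L
        rw [Subgroup.coe_mul, Subgroup.coe_mul, Subgroup.coe_mul, Subgroup.coe_inv, Subgroup.coe_inv]
        show q * (y : G) * q⁻¹ * (y : G)⁻¹ * r * (q * (y : G) * q⁻¹ * (y : G)⁻¹)⁻¹ * r⁻¹ ∈ L
        have hr1 : (y : G)⁻¹ * r * (y : G) ∈ R := by simpa using hRn.conj_mem r hr (y : G)⁻¹
        have h1 := hqR q⁻¹ (inv_mem hq) _ hr1
        have h2 := mul_mem (mul_mem y.2 h1) (inv_mem y.2)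
        have h3 := mul_mem (mul_mem (mul_mem (hQL hq) h2) (inv_mem (hQL hq))) (hqR q hq r hr)
        simpa [mul_assoc] using h3
    have hcomm := hyc _ (hNle hzmem)
    obtain ⟨k, hk⟩ := Cfsg.Agent.Cores.isPGroup_pCore p ↥L ⟨_, hNle hzmem⟩
    have hfin := Cfsg.Agent.CharP.eq_one_of_commute hy
      ⟨k, by simpa using congrArg Subtype.val hk⟩ hcomm.symm
    exact congrArg Subtype.val hfin.symm.eq
  refine Subtype.ext (Cfsg.Agent.CharP.eq_one_of_centralizes_pCore hG hy' ?_)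
  refine Cfsg.Agent.CharP.commute_of_centralizes_centralizer hRp (T.isPGroup'.to_le hQT)
    (by rw [Subgroup.normalizer_eq_top]; exact le_top) hy'
    (by rw [Subgroup.normalizer_eq_top]; exact Subgroup.mem_top _) hyQ ?_
  intro x hx hxQ
  have hxT : x ∈ (T : Subgroup G) := Cfsg.Agent.Cores.pCore_le_sylow T hx
  exact hyR0 y hyc x hx
    (hQL (hC ⟨hxT, Subgroup.mem_centralizer_iff.mpr fun q hq => (hxQ q hq).eq.symm⟩))

end Cfsg.Agent.S2961
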