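import Cfsg.Statements.S2963
import Cfsg.Agent.EqLemmas

set_option autoImplicit false
open Cfsg
open scoped Pointwise

namespace Cfsg.Agent.S2963

/-- A 2-group of permutations fixes a `k`-set when `n.choose k` is odd. -/
theorem exists_fixed_set {n : ℕ} {S : Subgroup (Equiv.Perm (Fin n))} (hS : IsPGroup 2 S) (k : ℕ)
    (hk : ¬ 2 ∣ n.choose k) :
    ∃ s : {s : Finset (Fin n) // s.card = k}, ∀ g ∈ S, g • (s : Finset (Fin n)) = (s : Finset (Fin n)) := by
  letI : MulAction S {s : Finset (Fin n) // s.card = k} :=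
    { smul := fun g s => ⟨(g : Equiv.Perm (Fin n)) • (s : Finset (Fin n)),
        (Finset.card_smul_finset _ _).trans s.2⟩
      one_smul := fun s => Subtype.ext (one_smul _ (s : Finset (Fin n)))
      mul_smul := fun g h s => Subtype.ext (mul_smul (g : Equiv.Perm (Fin n)) (h : Equiv.Perm (Fin n)) _) }
  have hcard : Nat.card {s : Finset (Fin n) // s.card = k} = n.choose k := by
    rw [Nat.card_eq_fintype_card, Fintype.card_finset_len, Fintype.card_fin]
  obtain ⟨s, hs⟩ := hS.nonempty_fixed_point_of_prime_not_dvd_card _ (hcard ▸ hk)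
  exact ⟨s, fun g hg => congrArg Subtype.val (hs ⟨g, hg⟩)⟩

/-- `n.choose (2^m)` is odd when `2^m ≤ n < 2^(m+1)`. -/
theorem odd_choose_two_pow (n m : ℕ) (h1 : 2 ^ m ≤ n) (h2 : n < 2 ^ (m + 1)) :
    ¬ 2 ∣ n.choose (2 ^ m) := by
  induction m generalizing n with
  | zero =>
    obtain rfl : n = 1 := by simp at h1 h2; omega
    norm_num
  | succ m ih =>
    intro hd
    haveI : Fact (Nat.Prime 2) := ⟨Nat.prime_two⟩
    have h := Choose.choose_modEq_choose_mod_mul_choose_div_nat (n := n) (k := 2 ^ (m + 1)) (p := 2)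
    have hmod : 2 ^ (m + 1) % 2 = 0 := by rw [pow_succ]; omega
    have hdiv : 2 ^ (m + 1) / 2 = 2 ^ m := by rw [pow_succ]; omega
    rw [hmod, hdiv, Nat.choose_zero_right, one_mul] at h
    refine ih (n / 2) ?_ ?_ ?_
    · rw [Nat.le_div_iff_mul_le two_pos, ← pow_succ]; exact h1
    · rw [Nat.div_lt_iff_lt_mul two_pos, ← pow_succ]; exact h2
    · exact (Nat.modEq_zero_iff_dvd).mp (h.symm.trans (Nat.modEq_zero_iff_dvd.mpr hd))

/-- Stabilisers of sets of different, non-complementary sizes differ. -/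
theorem stabilizer_ne_of_card {n a b : ℕ} (hab : a ≠ b) (hsum : a + b ≠ n)
    (s t : Set (Fin n)) (hs : s.ncard = a) (ht : t.ncard = b) :
    MulAction.stabilizer (Equiv.Perm (Fin n)) s ≠ MulAction.stabilizer (Equiv.Perm (Fin n)) t := by
  intro heq
  classical
  have hsw : ∀ i j, (i ∈ s ↔ j ∈ s) → (i ∈ t ↔ j ∈ t) := by
    intro i j hij
    have hmem : Equiv.swap i j ∈ MulAction.stabilizer (Equiv.Perm (Fin n)) s := by
      rw [MulAction.mem_stabilizer_set]
      intro x
      simp only [Equiv.Perm.smul_def]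
      rcases eq_or_ne x i with rfl | hxi
      · rw [Equiv.swap_apply_left]; exact hij.symm
      rcases eq_or_ne x j with rfl | hxj
      · rw [Equiv.swap_apply_right]; exact hij
      rw [Equiv.swap_apply_of_ne_of_ne hxi hxj]
    rw [heq, MulAction.mem_stabilizer_set] at hmem
    have h1 := hmem i
    simp only [Equiv.Perm.smul_def, Equiv.swap_apply_left] at h1
    exact h1.symm
  rcases Classical.em (∃ i, i ∈ s ∧ i ∈ t) with ⟨i, hi, hit⟩ | hno
  · have hst : s ⊆ t := fun j hj => (hsw i j ⟨fun _ => hj, fun _ => hi⟩).mp hit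
    rcases Classical.em (∃ j, j ∉ s ∧ j ∈ t) with ⟨j, hj, hjt⟩ | hno'
    · have hall : t = Set.univ := by
        ext l
        refine ⟨fun _ => trivial, fun _ => ?_⟩
        by_cases hl : l ∈ s
        · exact hst hl
        · exact (hsw j l ⟨fun h => absurd h hj, fun h => absurd h hl⟩).mp hjt
      -- then every transposition fixes `t`, so also `s`
      have hall' : ∀ g, g ∈ MulAction.stabilizer (Equiv.Perm (Fin n)) s := by
        intro g
        rw [heq, hall, MulAction.mem_stabilizer_iff]
        exact Set.smul_set_univ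
      have h2 := hall' (Equiv.swap i j)
      rw [MulAction.mem_stabilizer_set] at h2
      have h3 := (h2 i).mpr hi
      simp only [Equiv.Perm.smul_def, Equiv.swap_apply_left] at h3
      exact hj h3
    · have : s = t := Set.Subset.antisymm hst fun j hj => by_contra fun hjs => hno' ⟨j, hjs, hj⟩
      exact hab (by rw [← hs, ← ht, this])
  · rcases t.eq_empty_or_nonempty with rfl | ⟨j, hj⟩
    · rcases s.eq_empty_or_nonempty with rfl | ⟨i, hi⟩
      · exact hab (by rw [← hs, ← ht])
      · have hall : s = Set.univ := by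
          ext l
          refine ⟨fun _ => trivial, fun _ => ?_⟩
          by_contra hl
          have hmem : Equiv.swap i l ∈ MulAction.stabilizer (Equiv.Perm (Fin n)) s := by
            rw [heq, MulAction.mem_stabilizer_iff]
            exact Set.smul_set_empty
          rw [MulAction.mem_stabilizer_set] at hmem
          have h3 := (hmem i).mpr hi
          simp only [Equiv.Perm.smul_def, Equiv.swap_apply_left] at h3
          exact hl h3
        rw [hall, Set.ncard_univ, Nat.card_eq_fintype_card, Fintype.card_fin] at hs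
        rw [Set.ncard_empty] at ht
        omega
    · have hjs : j ∉ s := fun h => hno ⟨j, h, hj⟩
      have : t = sᶜ := by
        ext l
        refine ⟨fun hl hls => hno ⟨l, hls, hl⟩, fun hl => ?_⟩
        exact (hsw j l ⟨fun h => absurd h hjs, fun h => absurd h hl⟩).mp hj
      rw [this] at ht
      have h1 := Set.ncard_add_ncard_compl s
      rw [hs, ht, Nat.card_eq_fintype_card, Fintype.card_fin] at h1
      omega

/-- Let n be odd. If the symmetric group of degree n is a minimal parabolic group for the prime 2, that is, a Sylow 2-subgroup is not normal and lies in exactly one maximal subgroup, then n = 2^m + 1 for some natural number m. -/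
theorem result (n : ℕ) (hn : Odd n) (h : Cfsg.IsPMinimal 2 (Equiv.Perm (Fin n))) : ∃ m : ℕ, n = 2 ^ m + 1 := by
  rcases Nat.lt_or_ge n 2 with h2 | h2
  · exfalso
    haveI : Subsingleton (Equiv.Perm (Fin n)) := by
      haveI : Subsingleton (Fin n) := ⟨fun a b => Fin.ext (by omega)⟩
      infer_instance
    obtain ⟨hnn, -⟩ := h default
    exact hnn ⟨fun a ha b => by rwa [Subsingleton.elim (b * a * b⁻¹) a]⟩
  obtain ⟨m, hm1, hm2⟩ : ∃ m, 2 ^ m ≤ n ∧ n < 2 ^ (m + 1) :=
    ⟨Nat.log 2 n, Nat.pow_log_le_self 2 (by omega), Nat.lt_pow_succ_log_self (by norm_num) n⟩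
  by_contra hcon
  push Not at hcon
  have hne : 2 ^ m + 1 ≠ n := fun he => hcon m he.symm
  have hm0 : m ≠ 0 := by
    rintro rfl
    simp at hm2
    omega
  have hlt : 2 ^ m < n := by
    refine lt_of_le_of_ne hm1 fun he => Nat.not_even_iff_odd.mpr hn ?_
    rw [← he]
    exact even_two.pow_of_ne_zero hm0
  -- a Sylow 2-subgroup fixes a point and stabilises a set of size `2^m`
  let S : Sylow 2 (Equiv.Perm (Fin n)) := default
  obtain ⟨hnn, M, -, huniq⟩ := h S
  have key : ∀ k : ℕ, 0 < k → k < n → 2 * k ≠ n → ¬ 2 ∣ n.choose k →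
      ∃ s : Set (Fin n), s.ncard = k ∧
        IsCoatom (MulAction.stabilizer (Equiv.Perm (Fin n)) s) ∧
        (S : Subgroup (Equiv.Perm (Fin n))) ≤ MulAction.stabilizer (Equiv.Perm (Fin n)) s := by
    intro k hk0 hkn hk2 hodd
    obtain ⟨s, hs⟩ := exists_fixed_set S.isPGroup' k hodd
    refine ⟨(s : Set (Fin n)), by simp [s.2], ?_, fun g hg => ?_⟩
    · refine Equiv.Perm.isCoatom_stabilizer ?_ ?_ ?_
      · exact Set.nonempty_coe_sort.mp ⟨⟨_, (Finset.card_pos.mp (by rw [s.2]; omega)).choose_spec⟩⟩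
      · rw [Set.nonempty_compl, Ne, ← Finset.coe_univ, Finset.coe_inj]
        intro he
        have := s.2
        rw [he, Finset.card_univ, Fintype.card_fin] at this
        omega
      · rw [Set.ncard_coe_finset, s.2, Nat.card_eq_fintype_card, Fintype.card_fin]
        omega
    · rw [MulAction.mem_stabilizer_iff]
      have := hs g hg
      simpa using congrArg (fun t : Finset (Fin n) => (t : Set (Fin n))) this
  have hodd1 : ¬ 2 ∣ n.choose 1 := by
    rw [Nat.choose_one_right]
    exact hn.not_two_dvd_nat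
  have hodd2 : ¬ 2 ∣ n.choose (2 ^ m) := by
    intro hd
    exact odd_choose_two_pow n m hm1 hm2 hd
  obtain ⟨s1, hs1, hc1, hS1⟩ := key 1 one_pos (by omega) (by omega) hodd1
  obtain ⟨s2, hs2, hc2, hS2⟩ := key (2 ^ m) (Nat.two_pow_pos m) hlt
    (fun he => Nat.not_even_iff_odd.mpr hn ⟨2 ^ m, by omega⟩) hodd2
  have heq := (huniq _ ⟨hc1, hS1⟩).trans (huniq _ ⟨hc2, hS2⟩).symm
  refine stabilizer_ne_of_card (n := n) (a := 1) (b := 2 ^ m) ?_ ?_ s1 s2 hs1 hs2 heq
  · exact (Nat.one_lt_two_pow hm0).ne
  · omega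

end Cfsg.Agent.S2963
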