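import Cfsg.Statements.S2968
import Cfsg.Agent.Lib.Isolated.Basic

set_option autoImplicit false
open Cfsg

namespace Cfsg.Agent.S2968

/-- Let G be a finite group, p a prime, P a Sylow p-subgroup of G and x ∈ P an element of p-power order which is isolated in G (the only conjugate of x commuting with x is x itself). Then x lies in the centre of P, and the subgroup generated by x is both strongly closed and weakly closed in P with respect to G. -/
theorem result {G : Type*} [Group G] [Finite G] {p : ℕ} [Fact p.Prime] (P : Sylow p G) (x : G) (hxP : x ∈ (P : Subgroup G)) (hx : ∃ k : ℕ, orderOf x = p ^ k) (hiso : Cfsg.IsIsolated x) : x ∈ (P : Subgroup G) ⊓ Subgroup.centralizer ((P : Subgroup G) : Set G) ∧ Cfsg.IsStronglyClosed (Subgroup.zpowers x) (P : Subgroup G) ∧ Cfsg.IsWeaklyClosed (Subgroup.zpowers x) (P : Subgroup G) := by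
  have hP : (P : Subgroup G) ≤ Subgroup.centralizer ({x} : Set G) :=
    Cfsg.Agent.Isolated.commute_of_mem_pGroup hiso P.isPGroup' hxP
  have hcomm : ∀ s ∈ (P : Subgroup G), Commute x s := fun s hs =>
    (Subgroup.mem_centralizer_singleton_iff.mp (hP hs)).symm
  have hle : Subgroup.zpowers x ≤ (P : Subgroup G) := Subgroup.zpowers_le.mpr hxP
  have key : ∀ y ∈ Subgroup.zpowers x, ∀ g : G, g * y * g⁻¹ ∈ (P : Subgroup G) → g * y * g⁻¹ = y := by
    intro y hy g hg
    obtain ⟨i, rfl⟩ := Subgroup.mem_zpowers_iff.mp hy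
    exact Cfsg.Agent.Isolated.conj_zpow_eq hx hiso i g (hcomm _ hg)
  refine ⟨⟨hxP, Subgroup.mem_centralizer_iff.mpr fun s hs => (hcomm s hs).eq.symm⟩,
    ⟨hle, fun y hy g hg => by rw [key y hy g hg]; exact hy⟩, hle, fun g hg => ?_⟩
  have himg : ∀ y ∈ Subgroup.zpowers x, g * y * g⁻¹ = y := fun y hy => key y hy g (hg ⟨y, hy, rfl⟩)
  ext z
  constructor
  · rintro ⟨y, hy, rfl⟩
    simpa [himg y hy] using hy
  · exact fun hz => ⟨z, hz, by simpa using himg z hz⟩

end Cfsg.Agent.S2968
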