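import Cfsg.Statements.S2971
import Cfsg.Agent.Lib.Isolated.RankOne
import Cfsg.Agent.Lib.Transfer.Residual
import Cfsg.Agent.S2970

set_option autoImplicit false
open Cfsg

namespace Cfsg.Agent.S2971

/-- Let G be a finite group and p an odd prime such that G has p-rank at most 1 (no elementary abelian subgroup of order p²). If x ∈ G is an isolated element of order p, then x is central modulo the largest normal subgroup of G of order prime to p. -/
theorem result {G : Type*} [Group G] [Finite G] {p : ℕ} [Fact p.Prime] (hp : p ≠ 2) (hrk : Cfsg.PRankLE p 1 G) (x : G) (hx : orderOf x = p) (hiso : Cfsg.IsIsolated x) : Cfsg.InZStar p x := by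
  have hcyc : ∀ P : Sylow p G, IsCyclic ↥(P : Subgroup G) := fun P =>
    Cfsg.Agent.Isolated.isCyclic_of_rank_le_one hp hrk _ P.isPGroup'
  obtain ⟨P, N, hN, hc⟩ := (Cfsg.Agent.S2970.result x ⟨1, by rw [pow_one]; exact hx⟩ hiso).2
    (fun h => (Fact.out : p.Prime).ne_one (by rw [← hx, h, orderOf_one])) hcyc
  intro g
  refine Cfsg.Agent.Cores.le_pPrimeCore hN
    (Cfsg.Agent.Transfer.coprime_card_of_isComplement' P hc) ?_
  haveI := hN
  let e := hc.symm.QuotientMulEquiv
  haveI := hcyc P
  have hcomm : ∀ a b : G ⧸ N, a * b = b * a := by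
    intro a b
    refine e.injective ?_
    obtain ⟨c, hcg⟩ := IsCyclic.exists_generator (α := ↥(P : Subgroup G))
    obtain ⟨i, hi⟩ := Subgroup.mem_zpowers_iff.mp (hcg (e a))
    obtain ⟨j, hj⟩ := Subgroup.mem_zpowers_iff.mp (hcg (e b))
    rw [map_mul, map_mul, ← hi, ← hj, ← zpow_add, ← zpow_add, add_comm]
  rw [← QuotientGroup.eq_one_iff]
  simp only [QuotientGroup.mk_mul, QuotientGroup.mk_inv]
  rw [hcomm (g : G ⧸ N) (x : G ⧸ N)]
  group

end Cfsg.Agent.S2971
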