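import Cfsg.Statements.S2975
import Cfsg.Agent.Lib.Isolated.Minimal

set_option autoImplicit false
open Cfsg

namespace Cfsg.Agent.S2975

/-- A `p`-element normalising a `p'`-subgroup `V` fixes some Sylow `q`-subgroup of `V`; if `V`
contains a Sylow subgroup of the whole group, that gives a fixed Sylow subgroup of the whole group. -/
theorem exists_fixed_sylow_of_normalizes {G : Type*} [Group G] [Finite G] {p q : ℕ} [Fact p.Prime]
    [Fact q.Prime] (S₀ : Sylow q G) (V : Subgroup G) (hS₀ : (S₀ : Subgroup G) ≤ V) {x : G}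
    (hx : x ∈ Subgroup.normalizer (V : Set G)) (hV : (Nat.card V).Coprime p) (hxo : orderOf x = p) :
    ∃ S : Sylow q G, (S : Subgroup G) ≤ V ∧
      x ∈ Subgroup.normalizer ((S : Subgroup G) : Set G) := by
  set X := {S : Sylow q G // (S : Subgroup G) ≤ V}
  have hclosed : ∀ g ∈ Subgroup.zpowers x, ∀ S : X, ((g • (S : Sylow q G) : Sylow q G) : Subgroup G) ≤ V := by
    intro g hg S a ha
    rw [Sylow.coe_subgroup_smul] at ha
    obtain ⟨b, hb, rfl⟩ := ha
    exact ((Subgroup.mem_normalizer_iff.mp ((Subgroup.zpowers_le.mpr hx) hg)) b).mp (S.2 hb)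
  letI : MulAction (Subgroup.zpowers x) X :=
    { smul := fun g S => ⟨(g : G) • (S : Sylow q G), hclosed g g.2 S⟩
      one_smul := fun S => Subtype.ext (one_smul G (S : Sylow q G))
      mul_smul := fun g h S => Subtype.ext (mul_smul (g : G) (h : G) (S : Sylow q G)) }
  have hP : IsPGroup p (Subgroup.zpowers x) :=
    IsPGroup.of_card (n := 1) (by rw [Nat.card_zpowers, hxo, pow_one])
  have hcard : ¬ p ∣ Nat.card X := by
    let f : X → Sylow q ↥V := fun S => (S : Sylow q G).subtype S.2
    have hf : Function.Bijective f := by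
      refine ⟨fun S T h => Subtype.ext (Sylow.subtype_injective h), fun R => ?_⟩
      obtain ⟨v, hv⟩ := MulAction.exists_smul_eq ↥V (S₀.subtype hS₀) R
      refine ⟨⟨(v : G) • S₀, Sylow.smul_le hS₀ v⟩, ?_⟩
      rw [← hv]
      exact (Sylow.smul_subtype hS₀ v).symm
    rw [Nat.card_eq_of_bijective f hf]
    intro hd
    have h1 := Sylow.card_dvd_index (default : Sylow q ↥V)
    exact ((Fact.out : p.Prime).coprime_iff_not_dvd.mp hV.symm)
      (hd.trans (h1.trans (Subgroup.index_dvd_card _)))
  obtain ⟨S, hS⟩ := hP.nonempty_fixed_point_of_prime_not_dvd_card X hcard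
  refine ⟨S, S.2, Sylow.smul_eq_iff_mem_normalizer.mp ?_⟩
  exact congrArg Subtype.val (hS ⟨x, Subgroup.mem_zpowers x⟩)

/-- Let G be a finite group, p a prime and x ∈ G an isolated element of order p (the only conjugate of x commuting with x is x) which is not central modulo the largest normal subgroup of order prime to p, while x is central modulo the largest normal subgroup of order prime to p in every proper subgroup containing x, and the image of x is so in every quotient of G by a nontrivial normal subgroup (a minimal counterexample to the Z*_p statement). Then for every prime q, every q-subgroup of G that is normalized by x and maximal among the q-subgroups normalized by x is either trivial or a Sylow q-subgroup of G; and C_G(x) permutes the x-invariant Sylow q-subgroups of G transitively by conjugation. -/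
theorem result {G : Type*} [Group G] [Finite G] {p : ℕ} [Fact p.Prime] (x : G) (hx : orderOf x = p) (hiso : Cfsg.IsIsolated x) (hnz : ¬ Cfsg.InZStar p x) (hmin : ∀ (H : Subgroup G) (hxH : x ∈ H), H ≠ ⊤ → Cfsg.InZStar p (⟨x, hxH⟩ : ↥H)) (hquot : ∀ (N : Subgroup G) [N.Normal], N ≠ ⊥ → Cfsg.InZStar p (QuotientGroup.mk x : G ⧸ N)) (q : ℕ) [Fact q.Prime] : (∀ Q : Subgroup G, IsPGroup q ↥Q → x ∈ Subgroup.normalizer (Q : Set G) → (∀ R : Subgroup G, IsPGroup q ↥R → x ∈ Subgroup.normalizer (R : Set G) → Q ≤ R → R = Q) → Q = ⊥ ∨ ∃ S : Sylow q G, (S : Subgroup G) = Q) ∧ (∀ S₁ S₂ : Sylow q G, x ∈ Subgroup.normalizer ((S₁ : Subgroup G) : Set G) → x ∈ Subgroup.normalizer ((S₂ : Subgroup G) : Set G) → ∃ c ∈ Subgroup.centralizer ({x} : Set G), (S₁ : Subgroup G).map (MulAut.conj c).toMonoidHom = (S₂ : Subgroup G)) := by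
  obtain ⟨hsimple, hnab, -⟩ := Cfsg.Agent.Isolated.minimal_structure x hx hiso hnz hmin hquot
  have hxk : ∃ k : ℕ, orderOf x = p ^ k := ⟨1, by rw [pow_one]; exact hx⟩
  have hxP : IsPGroup p (Subgroup.zpowers x) :=
    Cfsg.Agent.Isolated.isPGroup_zpowers (k := 1) (by rw [pow_one]; exact hx)
  refine ⟨fun Q hQ hxQ hmax => or_iff_not_imp_left.mpr fun hQ1 => ?_, fun S₁ S₂ h1 h2 => ?_⟩
  · set H := Subgroup.normalizer (Q : Set G) with hH
    have hxH : x ∈ H := hxQ
    rcases eq_or_ne q p with rfl | hqp
    · -- `q = p`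
      have h := hQ.to_sup_of_normal_left' hxP (Subgroup.zpowers_le.mpr hxQ)
      have hxQ' : x ∈ Q := by
        have hn : x ∈ Subgroup.normalizer ((Q ⊔ Subgroup.zpowers x : Subgroup G) : Set G) :=
          Subgroup.le_normalizer (Subgroup.mem_sup_right (Subgroup.mem_zpowers x))
        have := hmax _ h hn le_sup_left
        rw [← this]
        exact Subgroup.mem_sup_right (Subgroup.mem_zpowers x)
      obtain ⟨P, hP⟩ := hQ.exists_le_sylow
      exact ⟨P, hmax _ P.isPGroup' (Subgroup.le_normalizer (hP hxQ')) hP⟩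
    · have hHtop : H ≠ ⊤ := by
        intro htop
        have hn : Q.Normal := Subgroup.normalizer_eq_top_iff.mp htop
        rcases hsimple.eq_bot_or_eq_top_of_normal (Q.subgroupOf (commutator G))
            (Subgroup.normal_subgroupOf) with h | h
        · -- `Q` meets the derived group trivially, so is central
          have hdis : Disjoint Q (commutator G) := Subgroup.subgroupOf_eq_bot.mp h
          have hcen : ∀ a ∈ Q, ∀ g : G, g * a * g⁻¹ = a := by
            intro a ha g
            have h1 : g * a * g⁻¹ * a⁻¹ ∈ commutator G :=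
              Subgroup.commutator_mem_commutator (Subgroup.mem_top g) (Subgroup.mem_top a)
            have h2 : g * a * g⁻¹ * a⁻¹ ∈ Q := mul_mem (hn.conj_mem a ha g) (inv_mem ha)
            exact mul_inv_eq_one.mp (Subgroup.mem_bot.mp (hdis.le_bot ⟨h2, h1⟩))
          -- so `Q` is a normal subgroup of order prime to `p`
          have hco : (Nat.card Q).Coprime p := by
            obtain ⟨n, hn'⟩ := IsPGroup.iff_card.mp hQ
            rw [hn']
            exact ((Nat.coprime_primes Fact.out Fact.out).mpr hqp).pow_left n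
          have hQO : Q ≤ Cfsg.pPrimeCore p G := Cfsg.Agent.Cores.le_pPrimeCore hn hco
          refine hnz fun g => ?_
          by_cases hO : Cfsg.pPrimeCore p G = ⊥
          · exact absurd (le_bot_iff.mp (hO ▸ hQO)) hQ1
          · have h' := hquot (Cfsg.pPrimeCore p G) hO (QuotientGroup.mk g)
            rw [Cfsg.Agent.Cores.pPrimeCore_quotient_self, Subgroup.mem_bot] at h'
            exact (QuotientGroup.eq_one_iff _).mp h'
        · have hle : commutator G ≤ Q := Subgroup.subgroupOf_eq_top.mp h
          haveI := hsimple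
          haveI : Nontrivial (commutator G) := hsimple.toNontrivial
          have hD : IsPGroup q (commutator G) := hQ.to_le hle
          haveI := hD.center_nontrivial
          rcases hsimple.eq_bot_or_eq_top_of_normal (Subgroup.center (commutator G))
              inferInstance with h3 | h3
          · exact (Subgroup.nontrivial_iff_ne_bot _).mp inferInstance h3
          · exact hnab ⟨⟨fun a b => Subgroup.mem_center_iff.mp (h3 ▸ Subgroup.mem_top b) a⟩⟩
      -- an `x`-invariant Sylow subgroup of `H`
      set xH : ↥H := ⟨x, hxH⟩ with hxHd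
      set W := Cfsg.pPrimeCore p ↥H with hW
      have hcw : ∀ a : ↥H, a * xH * a⁻¹ * xH⁻¹ ∈ W := hmin H hxH hHtop
      let S₀ : Sylow q ↥H := default
      set V := W ⊔ (S₀ : Subgroup ↥H) with hV
      have hVx : xH ∈ Subgroup.normalizer (V : Set ↥H) := by
        have key : ∀ a ∈ Subgroup.zpowers xH, ∀ v ∈ V, a * v * a⁻¹ ∈ V := by
          intro a ha v hv
          obtain ⟨i, rfl⟩ := Subgroup.mem_zpowers_iff.mp ha
          have hc : Commute (xH : ↥H ⧸ W) (v : ↥H ⧸ W) := by
            have := (QuotientGroup.eq_one_iff _).mpr (hcw v)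
            simp only [QuotientGroup.mk_mul, QuotientGroup.mk_inv] at this
            exact (mul_inv_eq_iff_eq_mul.mp (mul_inv_eq_one.mp this)).symm
          have hmem : xH ^ i * v * (xH ^ i)⁻¹ * v⁻¹ ∈ W := by
            rw [← QuotientGroup.eq_one_iff]
            simp only [QuotientGroup.mk_mul, QuotientGroup.mk_inv, QuotientGroup.mk_zpow]
            rw [(hc.zpow_left i).eq]
            group
          simpa using mul_mem (Subgroup.mem_sup_left (T := (S₀ : Subgroup ↥H)) hmem) hv
        rw [Subgroup.mem_normalizer_iff]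
        refine fun v => ⟨key xH (Subgroup.mem_zpowers xH) v, fun hv => ?_⟩
        simpa [mul_assoc] using key xH⁻¹ (inv_mem (Subgroup.mem_zpowers xH)) _ hv
      have hVp : (Nat.card V).Coprime p := by
        refine Nat.Coprime.coprime_dvd_left
          (?_ : Nat.card V ∣ Nat.card (S₀ : Subgroup ↥H) * Nat.card W) ?_
        · rw [hV, sup_comm]
          exact Cfsg.Agent.Cores.card_sup_dvd _ _
        refine Nat.Coprime.mul_left ?_ (Cfsg.Agent.Cores.coprime_card_pPrimeCore p)
        obtain ⟨n, hn⟩ := IsPGroup.iff_card.mp S₀.isPGroup'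
        rw [hn]
        exact ((Nat.coprime_primes Fact.out Fact.out).mpr hqp).pow_left n
      obtain ⟨S, hSV, hxS⟩ := exists_fixed_sylow_of_normalizes (p := p) S₀ V le_sup_right hVx hVp
        (by rw [← Subgroup.orderOf_coe]; exact hx)
      have hQS : Q.subgroupOf H ≤ (S : Subgroup ↥H) := by
        have hnQ : (Q.subgroupOf H).Normal :=
          (Subgroup.normal_subgroupOf_iff_le_normalizer Subgroup.le_normalizer).mpr le_rfl
        exact (Cfsg.Agent.Cores.le_pCore (p := q) hnQ
          (hQ.comap_subtype)).trans (Cfsg.Agent.Cores.pCore_le_sylow S)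
      have hSQ : (S : Subgroup ↥H).map H.subtype = Q := by
        refine hmax _ (S.isPGroup'.map _) ?_ ?_
        · exact Subgroup.le_normalizer_map H.subtype ⟨xH, hxS, rfl⟩
        · intro a ha
          exact ⟨⟨a, Subgroup.le_normalizer ha⟩, hQS ha, rfl⟩
      obtain ⟨P, hP⟩ := hQ.exists_le_sylow
      refine ⟨P, (Cfsg.Agent.Isolated.eq_of_normalizer_le P.isPGroup' hP fun g hgP hg => ?_).symm⟩
      have hge : (S : Subgroup ↥H) ≤ (P : Subgroup G).comap H.subtype := by
        intro a ha
        exact hP (hSQ ▸ ⟨a, ha, rfl⟩ : (a : G) ∈ Q)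
      have heq := S.is_maximal' (P.isPGroup'.comap_subtype (K := H)) hge
      rw [← hSQ]
      exact ⟨⟨g, hg⟩, heq ▸ hgP, rfl⟩
  · obtain ⟨g, hg⟩ := MulAction.exists_smul_eq G S₁ S₂
    have hgx : g * x * g⁻¹ ∈ Subgroup.normalizer ((S₂ : Subgroup G) : Set G) := by
      refine Sylow.smul_eq_iff_mem_normalizer.mp ?_
      rw [mul_smul, mul_smul, ← hg, inv_smul_smul, Sylow.smul_eq_iff_mem_normalizer.mpr h1]
    obtain ⟨n, hn, hnx⟩ := Cfsg.Agent.Isolated.exists_conj_eq_of_mem hxk hiso h2 hgx
    refine ⟨n * g, Subgroup.mem_centralizer_singleton_iff.mpr ?_, ?_⟩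
    · have : n * g * x * (n * g)⁻¹ = x := by
        conv_rhs => rw [← hnx]
        group
      exact mul_inv_eq_iff_eq_mul.mp this
    · have h3 : (n * g) • S₁ = S₂ := by
        rw [mul_smul, hg, Sylow.smul_eq_iff_mem_normalizer.mpr hn]
      rw [← h3, Sylow.coe_subgroup_smul]
      rfl

end Cfsg.Agent.S2975
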