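import Cfsg.Statements.S2981
import Cfsg.Agent.EqLemmas
import Cfsg.Agent.Lib.FFMinimal.Local

set_option autoImplicit false
open Cfsg
open scoped IsMulCommutative commutatorElement

namespace Cfsg.Agent.S2981

/-- The local C**(G,T)-Theorem for minimal parabolic groups. Let G be a finite p-minimal group (a Sylow p-subgroup T is not normal and lies in exactly one maximal subgroup) of characteristic p (C_G(O_p(G)) ≤ O_p(G)), and suppose G ≠ C**(G,T), the subgroup generated by C_G(Ω₁(Z(T))) and N_G(J(T)) (J(T) generated by the elementary abelian p-subgroups of T of largest order). Put V = Ω₁(Z(O_p(G))) and C = C_G(V). Then there are subgroups E₁, …, E_r of G containing C such that: J(G)TC = G and the E_i C/C form an internal direct product equal to J(G)C/C; any two of the E_i are conjugate by an element of T; V = C_V(⟨E_i⟩)·∏[V, E_i] with [V, E_i, E_j] = 1 for i ≠ j; for some n ≥ 1, each E_i/C is isomorphic to SL₂(pⁿ), or p = 2 and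 to the symmetric group of degree 2ⁿ + 1; and E_i acts on [V, E_i]/C_{[V,E_i]}(E_i) as the natural two-dimensional SL₂(pⁿ)-module, respectively as the symmetric group of degree 2ⁿ+1 on its even-weight permutation module. -/
theorem result {G : Type*} [Group G] [Finite G] {p : ℕ} [Fact p.Prime] (hmin : Cfsg.IsPMinimal p G) (hG : Subgroup.centralizer (Cfsg.pCore p G : Set G) ≤ Cfsg.pCore p G) (T : Sylow p G) (hne : Cfsg.cStarStarOf p (T : Subgroup G) ≠ ⊤) : ∃ (r : ℕ) (E : Fin r → Subgroup G), (∀ i, Subgroup.centralizer (Cfsg.omegaOneCenter p (Cfsg.pCore p G) : Set G) ≤ E i) ∧ Cfsg.thompsonSubgroup p G ⊔ (T : Subgroup G) ⊔ Subgroup.centralizer (Cfsg.omegaOneCenter p (Cfsg.pCore p G) : Set G) = ⊤ ∧ (⨆ i, E i) = Cfsg.thompsonSubgroup p G ⊔ Subgroup.centralizer (Cfsg.omegaOneCenter p (Cfsg.pCore p G) : Set G) ∧ (∀ i j, i ≠ j → ⁅E i, E j⁆ ≤ Subgroup.centralizer (Cfsg.omegaOneCenter p (Cfsg.pCore p G) : Set G)) ∧ (∀ i, E i ⊓ (⨆ j ∈ {j |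 j ≠ i}, E j) ≤ Subgroup.centralizer (Cfsg.omegaOneCenter p (Cfsg.pCore p G) : Set G)) ∧ (∀ i j, ∃ t ∈ (T : Subgroup G), (E i).map (MulAut.conj t).toMonoidHom = E j) ∧ (Cfsg.omegaOneCenter p (Cfsg.pCore p G) ⊓ Subgroup.centralizer ((⨆ i, E i : Subgroup G) : Set G)) ⊔ (⨆ i, ⁅Cfsg.omegaOneCenter p (Cfsg.pCore p G), E i⁆) = Cfsg.omegaOneCenter p (Cfsg.pCore p G) ∧ (∀ i j, i ≠ j → ⁅⁅Cfsg.omegaOneCenter p (Cfsg.pCore p G), E i⁆, E j⁆ = ⊥) ∧ ∀ i, ∃ n : ℕ, 1 ≤ n ∧ ((∃ (F : Type) (_ : Field F) (_ : Fintype F), Fintype.card F = p ^ n ∧ (∃ _ : ((Subgroup.centralizer (Cfsg.omegaOneCenter p (Cfsg.pCore p G) : Set G)).subgroupOf (E i)).Normal, Nonempty (↥(E i) ⧸ (Subgroup.centralizer (Cfsg.omegaOneCenter p (Cfsg.pCore p G) : Set G)).subgroupOf (E i) ≃* Matrix.SpecialLinearGroup (Fin 2) F)) ∧ Cfsg.ActsAsSL2OnSection F ⊤ (E i) ⁅Cfsg.omegaOneCenter p (Cfsg.pCore p G), E i⁆ (⁅Cfsg.omegaOneCenter p (Cfsg.pCore p G), E i⁆ ⊓ Subgroup.centralizer ((E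 i : Subgroup G) : Set G))) ∨ (p = 2 ∧ (∃ _ : ((Subgroup.centralizer (Cfsg.omegaOneCenter p (Cfsg.pCore p G) : Set G)).subgroupOf (E i)).Normal, Nonempty (↥(E i) ⧸ (Subgroup.centralizer (Cfsg.omegaOneCenter p (Cfsg.pCore p G) : Set G)).subgroupOf (E i) ≃* Equiv.Perm (Fin (2 ^ n + 1)))) ∧ Cfsg.ActsAsOddPermModuleOnSection (2 ^ n + 1) ⊤ (E i) ⁅Cfsg.omegaOneCenter p (Cfsg.pCore p G), E i⁆ (⁅Cfsg.omegaOneCenter p (Cfsg.pCore p G), E i⁆ ⊓ Subgroup.centralizer ((E i : Subgroup G) : Set G)))) := by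
  classical
  have hS := Cfsg.Agent.FFMinimal.setupData hG T
  generalize hVdef : Cfsg.omegaOneCenter p (Cfsg.pCore p G) = V at hS ⊢
  clear hVdef
  haveI := hS.elem.1
  haveI := hS.normal
  obtain ⟨hpm, hcore, hoffA⟩ := hS.quotient hmin hne
  obtain ⟨M, ⟨hM, hTM⟩, -⟩ := (hmin T).2
  obtain ⟨A₀, hA₀, hA₀C⟩ := hS.exists_offender hmin hM hTM hne
  set C := Subgroup.centralizer (V : Set G) with hC
  set mk := QuotientGroup.mk' C with hmk
  have hsurj := QuotientGroup.mk'_surjective C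
  have hker : mk.ker = C := QuotientGroup.ker_mk' C
  set σ := FFMinimal.zAct (V := V)
  have hπ := FFMinimal.zProj_surjective (V := V)
  have hK : (⊤ : Subgroup G) ≤ Subgroup.normalizer (V : Set G) := FFMinimal.normalizer_eq_top_of hS.normal
  have hσ : ∀ g v, σ (FFMinimal.zProj g) v = FFMinimal.conjAct hK g v := FFMinimal.zAct_proj
  have hp := FFMinimal.exponent_of (G := G) hS.elem
  have hA₀off : FFMinimal.Off σ p (A₀.map mk) := (hoffA A₀ hA₀).resolve_left fun e =>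
    hA₀C (((Subgroup.map_eq_bot_iff _).1 e).trans hker.le)
  obtain ⟨n, E, hE, -, hgen, hall⟩ := FFMinimal.exists_split_full hp FFMinimal.zAct_faith hpm hcore
    ⟨_, hA₀off⟩ (T.mapSurjective hsurj)
  have hup : ∀ E', FFMinimal.up' (FFMinimal.zProj (V := V)) E' = E'.comap mk := FFMinimal.up'_eq_comap
  have hCle : ∀ E' : Subgroup (G ⧸ C), C ≤ E'.comap mk := fun E' =>
    hker.ge.trans (Subgroup.comap_mono bot_le)
  have hsupE : (⨆ i, E i).comap mk = ⨆ i, (E i).comap mk := by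
    refine le_antisymm ?_ (iSup_le fun i => Subgroup.comap_mono (le_iSup E i))
    have e : (⨆ i, E i) = (⨆ i, (E i).comap mk).map mk := by
      rw [Subgroup.map_iSup]
      exact iSup_congr fun i => (Subgroup.map_comap_eq_self_of_surjective hsurj _).symm
    rw [e, Subgroup.comap_map_eq, hker]
    exact sup_le le_rfl ((hCle _).trans (le_iSup (fun i => (E i).comap mk) ⟨0, hE.pos⟩))
  have hJn : (Cfsg.thompsonSubgroup p G).Normal := by
    have := PLocal.thompsonSubgroup_characteristic (p := p) (G := G)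
    infer_instance
  have hJ : Cfsg.thompsonSubgroup p G ⊔ C = (⨆ i, E i).comap mk := by
    refine le_antisymm (sup_le (sSup_le fun A hA => ?_) (hCle _)) ?_
    · rw [← Subgroup.map_le_iff_le_comap]
      rcases hoffA A hA with e | e
      · rw [e]; exact bot_le
      · exact hall _ e
    · have e : Cfsg.thompsonSubgroup p G ⊔ C = ((Cfsg.thompsonSubgroup p G).map mk).comap mk := by
        rw [Subgroup.comap_map_eq, hker]
      rw [e, hgen]
      refine Subgroup.comap_mono (sSup_le fun A' hA' => ?_)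
      obtain ⟨A₁, hle, hA₁⟩ := FFMinimal.exists_minOff hA₀off
      obtain ⟨c, r⟩ := FFMinimal.exists_red hp FFMinimal.zAct_faith hpm hcore ⟨_, hA₀off⟩
      obtain ⟨g, rfl⟩ := r.minOff_conj hA₁ hA'
      rintro _ ⟨a, ha, rfl⟩
      exact (Subgroup.Normal.map hJn mk hsurj).conj_mem a
        (Subgroup.map_mono (le_sSup hA₀ : A₀ ≤ Cfsg.thompsonSubgroup p G) (hle ha)) g
  have htop : Cfsg.thompsonSubgroup p G ⊔ (T : Subgroup G) ⊔ C = ⊤ := by
    have h1 : ((⨆ i, E i) ⊔ (T : Subgroup G).map mk).comap mk = ⊤ := by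
      rw [show (⨆ i, E i) ⊔ (T : Subgroup G).map mk = ⊤ from hE.sup, Subgroup.comap_top]
    have h2 : (⨆ i, E i) = (Cfsg.thompsonSubgroup p G ⊔ C).map mk := by
      rw [hJ, Subgroup.map_comap_eq_self_of_surjective hsurj]
    rw [h2, ← Subgroup.map_sup, Subgroup.comap_map_eq, hker] at h1
    rw [← h1]
    ac_rfl
  obtain ⟨hspan, horth⟩ := FFMinimal.split_translate hK hπ hσ hE (by simp only [hup]; exact hsupE)
  simp only [hup] at hspan horth
  refine ⟨n, fun i => (E i).comap mk, fun i => hCle _, htop, (hsupE.symm.trans hJ.symm), fun i j hij => ?_,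
    fun i => ?_, fun i j => ?_, hspan, horth, fun i => ?_⟩
  · refine Subgroup.commutator_le.2 fun a ha b hb => ?_
    rw [← hker, MonoidHom.mem_ker, map_commutatorElement, commutatorElement_eq_one_iff_mul_comm]
    exact hE.commute i j hij _ ha _ hb
  · rintro x ⟨hx, hx'⟩
    rw [← hker, MonoidHom.mem_ker, ← Subgroup.mem_bot, ← hE.inf i]
    exact ⟨hx, (iSup₂_le fun j hj => Subgroup.comap_mono (le_iSup₂ (f := fun j _ => E j) j hj) :
      (⨆ j ∈ {j | j ≠ i}, (E j).comap mk) ≤ (⨆ j ∈ {j | j ≠ i}, E j).comap mk) hx'⟩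
  · obtain ⟨_, ⟨t, ht, rfl⟩, e⟩ := hE.conj i j
    refine ⟨t, ht, le_antisymm ?_ fun x hx => ?_⟩
    · rintro _ ⟨y, hy, rfl⟩
      show mk (t * y * t⁻¹) ∈ E j
      rw [← e, map_mul, map_mul, map_inv]
      exact ⟨mk y, hy, rfl⟩
    · obtain ⟨q, hq, eq⟩ : mk x ∈ OffenderSL2.cj (E i) (mk t) := e.ge hx
      refine ⟨t⁻¹ * x * t, ?_, by simp [mul_assoc]⟩
      show mk (t⁻¹ * x * t) ∈ E i
      have eq' : mk t * q * (mk t)⁻¹ = mk x := eq
      rwa [map_mul, map_mul, map_inv, ← eq', show (mk t)⁻¹ * (mk t * q * (mk t)⁻¹) * mk t = q by group]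
  · haveI hCn : (C.subgroupOf ((E i).comap mk)).Normal := inferInstance
    have quot : ∀ {W : Type} [Group W], (↥(E i) ≃* W) →
        Nonempty (↥((E i).comap mk) ⧸ C.subgroupOf ((E i).comap mk) ≃* W) := by
      intro W _ e
      let f : ↥((E i).comap mk) →* W :=
        e.toMonoidHom.comp ((mk.comp ((E i).comap mk).subtype).codRestrict (E i) fun x => x.2)
      have hf : Function.Surjective f := e.surjective.comp fun q => by
        obtain ⟨g, hg⟩ := hsurj q.1
        exact ⟨⟨g, show mk g ∈ E i from hg ▸ q.2⟩, Subtype.ext hg⟩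
      have hfk : f.ker = C.subgroupOf ((E i).comap mk) := by
        ext x
        rw [MonoidHom.mem_ker, Subgroup.mem_subgroupOf]
        show e _ = 1 ↔ _
        rw [MulEquiv.map_eq_one_iff]
        exact ⟨fun h => (QuotientGroup.eq_one_iff (x : G)).1 (congrArg Subtype.val h),
          fun h => Subtype.ext ((QuotientGroup.eq_one_iff (x : G)).2 h)⟩
      exact ⟨(QuotientGroup.quotientMulEquivOfEq hfk.symm).trans (QuotientGroup.quotientKerEquivOfSurjective f hf)⟩
    rcases hE.sec i with h | h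
    · obtain ⟨m, hm, F, iF, fF, hF, ⟨e⟩, hact⟩ := FFMinimal.linSec_acts hK hπ hσ h
      rw [hup] at hact
      exact ⟨m, hm, Or.inl ⟨F, iF, fF, hF, ⟨hCn, quot e⟩, hact⟩⟩
    · obtain ⟨hp2, m, hm, ⟨e⟩, hact⟩ := FFMinimal.symSec_acts hK hπ hσ h
      rw [hup] at hact
      exact ⟨m, hm, Or.inr ⟨hp2, ⟨hCn, quot e⟩, hact⟩⟩

end Cfsg.Agent.S2981
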