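import Cfsg.Statements.S2989
import Cfsg.Agent.Lib.PushingUp.Main

set_option autoImplicit false
open Cfsg
open scoped commutatorElement

namespace Cfsg.Agent.S2989

/-- Let G be a finite group and S a Sylow p-subgroup of G in the basic pushing-up situation (G ≠ 1, C_G(O_p(G)) ≤ O_p(G), S lies in a unique maximal subgroup of G, and some quotient of G is isomorphic to PSL₂ over a field of order a power of p), and suppose that S centralizes Z(J(S)), where J(S) is generated by the abelian subgroups of S of largest order (that is, J̃(S) = C_S(Z(J(S))) = S). Call a subgroup R of S centrally large if |R|·|Z(R)| is as large as possible among subgroups of S, and let S_Φ be the subgroup generated by the Frattini subgroups Φ(Q) of those minimal centrally large subgroups Q of S whose Ω₁(Z(Q)) has the largest order among minimal centrally large subgroups. Then Z(S) or S_Φ is normal in G; and if S_Φ = 1, the minimal centrally large subgroups of S are exactly the abelian subgroups of S of largest order, and at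 least one of them is elementary abelian. -/
theorem result {G : Type*} [Group G] [Finite G] {p : ℕ} [Fact p.Prime] (S : Subgroup G) (hE : Cfsg.IsPushingUpSituation p S) (hJ : S ≤ Subgroup.centralizer (Cfsg.centerThompsonAOf S : Set G)) : ((S ⊓ Subgroup.centralizer (S : Set G)).Normal ∨ ((Cfsg.frattiniOfMinimalCLJoin p ↥S).map S.subtype).Normal) ∧ (Cfsg.frattiniOfMinimalCLJoin p ↥S = ⊥ → (∀ Q : Subgroup ↥S, Cfsg.IsMinimalCentrallyLarge Q ↔ Q ∈ Cfsg.maxAbelianSubgroups ↥S) ∧ ∃ A ∈ Cfsg.maxAbelianSubgroups ↥S, Cfsg.IsElementaryAbelian p A) := by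
  refine ⟨Cfsg.Agent.PushingUp.center_or_frattiniJoin_normal hE, fun hbot => ?_⟩
  obtain ⟨Q, hQ, hmz⟩ := Cfsg.Agent.PushingUp.exists_max_omega p ↥S
  have hS := Cfsg.Agent.PushingUp.isPGroup hE
  have hΦ : Cfsg.Agent.PushingUp.phi p Q ≤ ⊥ := by
    rw [← hbot, ← Cfsg.Agent.PushingUp.phi_eq_frattini (hS.to_subgroup Q)]
    exact le_iSup (fun X : {X : Subgroup ↥S // Cfsg.IsMinimalCentrallyLarge X ∧
      Nat.card ↥(Cfsg.omegaOneCenter p X) = Cfsg.maxOmegaCenterOfMinimalCL p ↥S} =>
        (frattini ↥(X : Subgroup ↥S)).map (X : Subgroup ↥S).subtype) ⟨Q, hQ, hmz⟩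
  have hab : IsMulCommutative Q := ⟨⟨fun a b => Subtype.ext (commutatorElement_eq_one_iff_mul_comm.mp
    (Subgroup.mem_bot.mp (hΦ (Subgroup.subset_closure (Or.inr ⟨_, a.2, _, b.2, rfl⟩)))))⟩⟩
  have hiff := (Cfsg.Agent.S3007.result ↥S hS Q Q hQ hQ).2.2.2.2 hab
  exact ⟨hiff, Q, (hiff Q).mp hQ, hab, fun a ha =>
    Subgroup.mem_bot.mp (hΦ (Subgroup.subset_closure (Or.inl ⟨a, ha, rfl⟩)))⟩

end Cfsg.Agent.S2989
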