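import Cfsg.Statements.S2998
import Cfsg.Agent.Lib.StrongEmb.Basic

set_option autoImplicit false
open Cfsg

namespace Cfsg.Agent.S2998

/-- Let G be a finite group, p a prime, P a Sylow p-subgroup of G and x ∈ P an element such that N_G(R) ≤ C_G(x) for every nontrivial subgroup R of P. Then P ≤ C_G(x); every G-conjugate of x lying in P equals x (so g ∈ C_G(x) whenever g x g⁻¹ ∈ P); and for every normal subgroup N of G, the image of x in G ⧸ N has the same property with respect to the image of P: the normalizer of every nontrivial subgroup of the image of P centralizes the image of x. -/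
theorem result {G : Type*} [Group G] [Finite G] {p : ℕ} [Fact p.Prime] (P : Sylow p G) (x : G) (hxP : x ∈ (P : Subgroup G)) (hlc : ∀ R : Subgroup G, R ≤ (P : Subgroup G) → R ≠ ⊥ → Subgroup.normalizer (R : Set G) ≤ Subgroup.centralizer ({x} : Set G)) : (P : Subgroup G) ≤ Subgroup.centralizer ({x} : Set G) ∧ (∀ g : G, g * x * g⁻¹ ∈ (P : Subgroup G) → g * x * g⁻¹ = x) ∧ ∀ (N : Subgroup G) [N.Normal], ∀ R : Subgroup (G ⧸ N), R ≤ (P : Subgroup G).map (QuotientGroup.mk' N) → R ≠ ⊥ → Subgroup.normalizer (R : Set (G ⧸ N)) ≤ Subgroup.centralizer ({(QuotientGroup.mk x : G ⧸ N)} : Set (G ⧸ N)) := by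
  have hpC : (P : Subgroup G) ≤ Subgroup.centralizer ({x} : Set G) := by
    by_cases hP : (P : Subgroup G) = ⊥
    · rw [hP]; exact bot_le
    · exact Subgroup.le_normalizer.trans (hlc P le_rfl hP)
  refine ⟨hpC, ?_, ?_⟩
  · intro g hgP
    by_cases hx1 : x = 1
    · simp [hx1]
    set y := g * x * g⁻¹ with hy
    have hy1 : y ≠ 1 := fun h => hx1 (by rw [hy, mul_inv_eq_one] at h; exact mul_left_cancel (a := g) (by rw [h, mul_one]))
    -- `C(y) ≤ C(x)`
    have h1 : Subgroup.centralizer ({y} : Set G) ≤ Subgroup.centralizer ({x} : Set G) := by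
      refine le_trans ?_ (hlc (Subgroup.zpowers y) (Subgroup.zpowers_le.mpr hgP) (Subgroup.zpowers_ne_bot.mpr hy1))
      intro c hc
      have hcy : Commute y c := Subgroup.mem_centralizer_iff.mp hc y rfl
      apply Subgroup.mem_normalizer_fintype
      rintro _ ⟨k, rfl⟩
      refine ⟨k, ?_⟩
      show y ^ k = c * y ^ k * c⁻¹
      rw [((hcy.zpow_left k).eq).symm]
      group
    have h2 : (Subgroup.centralizer ({x} : Set G)).map (MulAut.conj g).toMonoidHom
        ≤ Subgroup.centralizer ({y} : Set G) := by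
      rintro _ ⟨c, hc, rfl⟩
      have hcx : Commute x c := Subgroup.mem_centralizer_iff.mp hc x rfl
      apply Subgroup.mem_centralizer_singleton_iff.mpr
      exact (hcx.symm.map (MulAut.conj g).toMonoidHom).eq
    -- two Sylow subgroups of `C(x)`
    have hgP' : ((g • P : Sylow p G) : Subgroup G) ≤ Subgroup.centralizer ({x} : Set G) :=
      (Subgroup.map_mono hpC).trans (h2.trans h1)
    obtain ⟨c, hc⟩ := MulAction.exists_smul_eq (↥(Subgroup.centralizer ({x} : Set G)))
      ((g • P : Sylow p G).subtype hgP') (P.subtype hpC)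
    rw [Sylow.smul_subtype] at hc
    have hP' : ((c : G) • g • P : Sylow p G) = P := Sylow.subtype_injective hc
    rw [← mul_smul, Sylow.smul_eq_iff_mem_normalizer] at hP'
    by_cases hPbot : (P : Subgroup G) = ⊥
    · exact absurd (Subgroup.mem_bot.mp (hPbot ▸ hxP)) hx1
    have h3 : (c : G) * g ∈ Subgroup.centralizer ({x} : Set G) := hlc P le_rfl hPbot hP'
    have h4 : g ∈ Subgroup.centralizer ({x} : Set G) := by
      have := Subgroup.mul_mem _ (Subgroup.inv_mem _ c.2) h3
      simpa using this
    have h5 : Commute x g := Subgroup.mem_centralizer_iff.mp h4 x rfl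
    rw [hy, ← h5.eq]
    group
  · intro N hN R hR hR1
    set π := QuotientGroup.mk' N with hπ
    set M : Subgroup G := R.comap π with hM
    let P' : Subgroup G := (P : Subgroup G) ⊓ M
    have hNM : N ≤ M := by
      intro n hn
      show π n ∈ R
      have e : π n = 1 := (QuotientGroup.eq_one_iff n).mpr hn
      rw [e]
      exact R.one_mem
    have hsurj : P'.map π = R := by
      refine le_antisymm ?_ ?_
      · rintro _ ⟨a, ha, rfl⟩
        exact ha.2
      · intro r hr
        obtain ⟨a, ha, rfl⟩ := hR hr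
        exact ⟨a, ⟨ha, hr⟩, rfl⟩
    have hP'1 : P' ≠ ⊥ := by
      intro h
      rw [h, Subgroup.map_bot] at hsurj
      exact hR1 hsurj.symm
    intro q hq
    obtain ⟨g, rfl⟩ := QuotientGroup.mk'_surjective N q
    -- `g` normalises `M`
    have hgM : ∀ m ∈ M, g * m * g⁻¹ ∈ M := by
      intro m hm
      show π (g * m * g⁻¹) ∈ R
      rw [map_mul, map_mul, map_inv]
      exact (Subgroup.mem_normalizer_iff.mp hq (π m)).mp hm
    -- Frattini argument inside `L = N(M)`
    set L : Subgroup G := Subgroup.normalizer (M : Set G) with hL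
    have hgL : g ∈ L := Subgroup.mem_normalizer_fintype hgM
    have hML : M ≤ L := Subgroup.le_normalizer
    have hpg : IsPGroup p ↥((P : Subgroup G).subgroupOf M) := P.isPGroup'.comap_subtype
    have hnd : ¬ p ∣ (P : Subgroup G).relIndex M := by
      intro hd
      -- `M = P' N`
      have hM' : M = P' ⊔ N := by
        have := Subgroup.comap_map_eq π P'
        rw [hsurj, QuotientGroup.ker_mk'] at this
        exact this
      rw [← Subgroup.inf_relIndex_right] at hd
      have h6 : (P' : Subgroup G).relIndex M = P'.relIndex N := by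
        have a := Subgroup.relIndex_mul_relIndex (P' ⊓ N) P' M inf_le_left inf_le_right
        have b := Subgroup.relIndex_mul_relIndex (P' ⊓ N) N M inf_le_right hNM
        have c : N.relIndex M = (P' ⊓ N).relIndex P' := by
          rw [hM', Subgroup.relIndex_sup_right, Subgroup.inf_relIndex_left]
        rw [c, ← a, mul_comm, Subgroup.inf_relIndex_right] at b
        exact (Nat.eq_of_mul_eq_mul_left (Nat.pos_of_ne_zero ((P' ⊓ N).subgroupOf P').index_ne_zero_of_finite) b.symm)
      rw [show (P : Subgroup G) ⊓ M = P' from rfl, h6] at hd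
      have h7 : P'.relIndex N = (P : Subgroup G).relIndex N := by
        rw [← Subgroup.inf_relIndex_right P' N, ← Subgroup.inf_relIndex_right (P : Subgroup G) N]
        congr 1
        show (P : Subgroup G) ⊓ M ⊓ N = (P : Subgroup G) ⊓ N
        rw [inf_assoc, inf_eq_right.mpr hNM]
      exact StrongEmb.not_dvd_relIndex_inf P N (h7 ▸ hd)
    let Q : Sylow p ↥M := hpg.toSylow hnd
    haveI : (M.subgroupOf L).Normal := Subgroup.normal_subgroupOf_of_le_normalizer le_rfl
    let Q' : Sylow p ↥(M.subgroupOf L) := Sylow.comapOfInjective Q (Subgroup.subgroupOfEquivOfLe hML).toMonoidHom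
      (Subgroup.subgroupOfEquivOfLe hML).injective (by
        intro a _
        exact ⟨(Subgroup.subgroupOfEquivOfLe hML).symm a, (Subgroup.subgroupOfEquivOfLe hML).apply_symm_apply a⟩)
    have hfr := Sylow.normalizer_sup_eq_top Q'
    have h8 : (⟨g, hgL⟩ : ↥L) ∈ Subgroup.normalizer
        (((Q' : Subgroup ↥(M.subgroupOf L)).map (M.subgroupOf L).subtype : Subgroup ↥L) : Set ↥L) ⊔ M.subgroupOf L :=
      hfr ▸ Subgroup.mem_top _
    obtain ⟨n, hn, m, hm, hnm⟩ := Subgroup.mem_sup_of_normal_right.mp h8
    have hn' : (n : G) ∈ Subgroup.normalizer (P' : Set G) := by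
      apply Subgroup.mem_normalizer_fintype
      intro a ha
      have hcmem : (⟨a, hML ha.2⟩ : ↥L) ∈ (Q' : Subgroup ↥(M.subgroupOf L)).map (M.subgroupOf L).subtype :=
        ⟨⟨⟨a, hML ha.2⟩, ha.2⟩, ha.1, rfl⟩
      obtain ⟨⟨⟨b, hbL⟩, hbM⟩, hbP, hbeq⟩ := (Subgroup.mem_normalizer_iff.mp hn _).mp hcmem
      have hb : b = (n : G) * a * (n : G)⁻¹ := congrArg Subtype.val hbeq
      rw [← hb]
      exact ⟨hbP, hbM⟩
    have hnx : Commute x (n : G) :=
      Subgroup.mem_centralizer_iff.mp (hlc P' inf_le_left hP'1 hn') x rfl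
    have hmx : Commute (π x) (π m) := by
      have h9 : π (m : G) ∈ (P : Subgroup G).map π := hR hm
      obtain ⟨a, ha, hae⟩ := h9
      rw [← hae]
      exact (show Commute x a from Subgroup.mem_centralizer_iff.mp (hpC ha) x rfl).map π
    apply Subgroup.mem_centralizer_singleton_iff.mpr
    show π g * π x = π x * π g
    have hg : g = (n : G) * (m : G) := (congrArg Subtype.val hnm).symm
    rw [hg, map_mul]
    exact (((hnx.map π).mul_right hmx).eq).symm

end Cfsg.Agent.S2998
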