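import Cfsg.Statements.S2999
import Cfsg.Agent.Lib.OffenderSL2.Main
import Cfsg.Agent.Lib.SL2Module.Group

set_option autoImplicit false
open Cfsg

namespace Cfsg.Agent.S2999

open Cfsg.Agent
open scoped commutatorElement

/-- Let p be a prime and let P and V be subgroups of a finite group with V elementary abelian, P normalizing V and acting faithfully on it (P ∩ C(V) = 1). Suppose P is p-minimal (a Sylow p-subgroup T of P is not normal and lies in a unique maximal subgroup M of P) and A ≤ T is an elementary abelian subgroup such that: |V/C_V(A)| ≤ |A| while |A₀|·|C_V(A₀)| < |A|·|C_V(A)| for every nontrivial proper subgroup A₀ of A; [C_V(T), P] ≠ 1; and P = ⟨A, xAx⁻¹⟩ for every x ∈ P outside M. Then, with q = |A|, there is a field F with q elements such that P ≅ SL₂(F), C_V(A) = [V, A]·C_V(P), and P acts on V/C_V(P) as SL₂(F) on its natural two-dimensional module. -/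
theorem result {G : Type*} [Group G] [Finite G] {p : ℕ} [Fact p.Prime] (V P : Subgroup G) (hV : Cfsg.IsElementaryAbelian p V) (hPV : P ≤ Subgroup.normalizer (V : Set G)) (hfaith : P ⊓ Subgroup.centralizer (V : Set G) = ⊥) (hmin : Cfsg.IsPMinimal p ↥P) (T : Sylow p ↥P) (M : Subgroup ↥P) (hM : IsCoatom M) (hTM : (T : Subgroup ↥P) ≤ M) (A : Subgroup G) (hAT : A ≤ ((T : Subgroup ↥P).map P.subtype)) (hAel : Cfsg.IsElementaryAbelian p A) (hi : Nat.card ↥V ≤ Nat.card ↥A * Nat.card ↥(V ⊓ Subgroup.centralizer ((A : Subgroup G) : Set G)) ∧ ∀ A₀ : Subgroup G, A₀ ≤ A → A₀ ≠ ⊥ → A₀ ≠ A → Nat.card ↥A₀ * Nat.card ↥(V ⊓ Subgroup.centralizer ((A₀ : Subgroup G) : Set G)) < Nat.card ↥A * Nat.card ↥(V ⊓ Subgroup.centralizer ((A : Subgroup G) : Set G))) (hii : ⁅(V ⊓ Subgroup.centralizer ((((T : Subgroup ↥P).map P.subtype) : Subgroup G) : Set G)), P⁆ ≠ ⊥) (hiii : ∀ x : ↥P, x ∉ M → A ⊔ A.map (MulAut.conj (x : G)).toMonoidHom = P) : ∃ (F : Type) (_ : Field F) (_ : Fintype F), Fintype.card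 F = Nat.card ↥A ∧ Nonempty (↥P ≃* Matrix.SpecialLinearGroup (Fin 2) F) ∧ (V ⊓ Subgroup.centralizer ((A : Subgroup G) : Set G)) = ⁅V, A⁆ ⊔ (V ⊓ Subgroup.centralizer ((P : Subgroup G) : Set G)) ∧ Cfsg.ActsAsSL2OnSection F ⊤ P V (V ⊓ Subgroup.centralizer ((P : Subgroup G) : Set G)) := by
  classical
  have hVc : ∀ a ∈ V, ∀ b ∈ V, a * b = b * a := fun a ha b hb =>
    congrArg Subtype.val (hV.1.1.comm (⟨a, ha⟩ : ↥V) ⟨b, hb⟩)
  letI := SL2Module.commGroupOf V hVc
  let σ := SL2Module.addRep ((Subgroup.normalizerMonoidHom V).comp (Subgroup.inclusion hPV))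
  have hσ : ∀ (g : ↥P) (a : Additive ↥V),
      (((σ g a).toMul : ↥V) : G) = g * (a.toMul : G) * (g : G)⁻¹ := fun g a => rfl
  have hfixmem : ∀ (H : Subgroup ↥P) (a : Additive ↥V),
      a ∈ OffenderSL2.fixS σ H ↔ (a.toMul : G) ∈ Subgroup.centralizer ((H.map P.subtype : Subgroup G) : Set G) := by
    intro H a
    constructor
    · rintro h _ ⟨g, hg, rfl⟩
      have h2 := congrArg (fun x : Additive ↥V => ((x.toMul : ↥V) : G)) (h g hg)
      simp only [hσ] at h2
      exact mul_inv_eq_iff_eq_mul.1 h2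
    · intro h g hg
      refine Additive.toMul.injective (Subtype.ext ?_)
      rw [hσ, show (g : G) * (a.toMul : G) = a.toMul * g from h _ ⟨g, hg, rfl⟩, mul_inv_cancel_right]
  have hcard : ∀ H : Subgroup ↥P,
      Nat.card ↥(V ⊓ Subgroup.centralizer ((H.map P.subtype : Subgroup G) : Set G)) =
        Nat.card ↥(OffenderSL2.fixS σ H) := fun H => Nat.card_congr
    { toFun := fun a => ⟨Additive.ofMul ⟨a.1, a.2.1⟩, (hfixmem H _).2 a.2.2⟩
      invFun := fun a => ⟨(a.1.toMul : G), a.1.toMul.2, (hfixmem H _).1 a.2⟩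
      left_inv := fun a => rfl
      right_inv := fun a => rfl }
  have hAP : A ≤ P := hAT.trans (Subgroup.map_subtype_le _)
  set A' := A.subgroupOf P with hA'
  have hmapA : A'.map P.subtype = A := by rw [hA', Subgroup.subgroupOf_map_subtype, inf_eq_left.2 hAP]
  have hcardsub : ∀ H : Subgroup ↥P, Nat.card ↥(H.map P.subtype) = Nat.card ↥H := fun H =>
    Subgroup.card_map_of_injective P.subtype_injective
  have hmapinj : ∀ {H K : Subgroup ↥P}, H.map P.subtype = K.map P.subtype → H = K := fun h =>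
    Subgroup.map_injective P.subtype_injective h
  have hVcard : Nat.card (Additive ↥V) = Nat.card ↥V := rfl
  have hS : OffenderSL2.Setting σ p T M A' := by
    refine
      { exponent := fun v => ⟨1, Additive.toMul.injective (Subtype.ext (show (v.toMul : G) ^ p ^ 1 = 1 by rw [pow_one]; exact hV.2 _ v.toMul.2))⟩
        faith := fun g hg => ?_
        pmin := hmin
        coatom := hM
        sylow_le := hTM
        le_sylow := fun a ha => ?_
        comm := fun a ha b hb => Subtype.ext (show (a : G) * b = b * a from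
          congrArg Subtype.val (hAel.1.1.comm (⟨a, ha⟩ : ↥A) ⟨b, hb⟩))
        offender := ?_
        strict := fun A₀ hle h0 hne => ?_
        moved := ?_
        gen := fun x hx => hmapinj ?_ }
    · have : (g : G) ∈ P ⊓ Subgroup.centralizer (V : Set G) := by
        refine ⟨g.2, fun v hv => ?_⟩
        have h2 := congrArg (fun x : Additive ↥V => ((x.toMul : ↥V) : G)) (hg (Additive.ofMul ⟨v, hv⟩))
        simp only [hσ] at h2
        exact (mul_inv_eq_iff_eq_mul.1 h2).symm
      rw [hfaith, Subgroup.mem_bot] at this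
      exact Subtype.ext this
    · obtain ⟨t, ht, hta⟩ := hAT ha
      exact (Subtype.ext hta : t = a) ▸ ht
    · rw [← hcard, hmapA, hVcard, ← hcardsub A', hmapA]
      exact hi.1
    · have h := hi.2 (A₀.map P.subtype) ((Subgroup.map_mono hle).trans hmapA.le)
        (fun e => h0 (hmapinj (e.trans (Subgroup.map_bot _).symm))) (fun e => hne (hmapinj (e.trans hmapA.symm)))
      rwa [← hcard, ← hcard, ← hcardsub A₀, ← hcardsub A', hmapA]
    · by_contra hc
      push Not at hc
      refine hii (Subgroup.commutator_eq_bot_iff_le_centralizer.2 ?_)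
      rintro v ⟨hv, hvT⟩
      have h := (hfixmem ⊤ _).1 (hc (Additive.ofMul ⟨v, hv⟩) ((hfixmem _ _).2 hvT))
      rwa [← MonoidHom.range_eq_map, Subgroup.range_subtype] at h
    · rw [Subgroup.map_sup, hmapA, ← MonoidHom.range_eq_map, Subgroup.range_subtype]
      conv_rhs => rw [← hiii x hx]
      rw [OffenderSL2.cj, Subgroup.map_map]
      congr 1
      conv_rhs => rw [← hmapA, Subgroup.map_map]
      rfl
  obtain ⟨F, i1, i2, hF, e, ψ, hψs, hψk, hψe⟩ := hS.exists_natural
  have hZ : ∀ a : Additive ↥V, a ∈ OffenderSL2.fixS σ (⊤ : Subgroup ↥P) ↔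
      (a.toMul : G) ∈ V ⊓ Subgroup.centralizer (P : Set G) := by
    intro a
    rw [hfixmem, ← MonoidHom.range_eq_map, Subgroup.range_subtype]
    exact ⟨fun h => ⟨a.toMul.2, h⟩, fun h => h.2⟩
  have hfA : ∀ a : Additive ↥V, a ∈ OffenderSL2.fixS σ A' ↔
      (a.toMul : G) ∈ Subgroup.centralizer (A : Set G) := fun a => by rw [hfixmem, hmapA]
  refine ⟨F, i1, i2, hF.trans (by rw [← hcardsub A', hmapA]), ⟨e⟩, le_antisymm ?_ (sup_le ?_ ?_),
    hPV, inf_le_left, e.toMonoidHom, AddMonoidHom.toMultiplicativeRight ψ,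
    MonoidHom.range_eq_top.2 e.surjective, fun v => ?_, fun u => ?_, fun g u => ?_⟩
  · rintro k ⟨hk, hkA⟩
    obtain ⟨a, ha, l, z, hz, hkl⟩ := hS.fix_le_comm ((hfA (Additive.ofMul ⟨k, hk⟩)).2 hkA)
    have hk2 : k = ⁅(a : G), (l.toMul : G)⁆ * (z.toMul : G) := by
      have h2 := congrArg (fun x : Additive ↥V => ((x.toMul : ↥V) : G)) hkl
      simp only [toMul_ofMul, toMul_add, toMul_sub, div_eq_mul_inv, Subgroup.coe_mul, Subgroup.coe_inv, hσ] at h2
      exact h2
    rw [hk2, Subgroup.commutator_comm V A]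
    exact mul_mem (Subgroup.mem_sup_left (Subgroup.commutator_mem_commutator ha l.toMul.2))
      (Subgroup.mem_sup_right ((hZ z).1 hz))
  · rw [Subgroup.commutator_comm, Subgroup.commutator_le]
    intro a ha v hv
    let w : Additive ↥V := σ ⟨a, hAP ha⟩ (Additive.ofMul ⟨v, hv⟩) - Additive.ofMul ⟨v, hv⟩
    have hw : (w.toMul : G) = ⁅a, v⁆ := by
      simp only [w, toMul_ofMul, toMul_sub, div_eq_mul_inv, Subgroup.coe_mul, Subgroup.coe_inv, hσ]
      rfl
    rw [← hw]
    exact ⟨w.toMul.2, (hfA w).1 (hS.comm_mem_fix (show (⟨a, hAP ha⟩ : ↥P) ∈ A' from ha) _)⟩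
  · exact inf_le_inf_left _ (Subgroup.centralizer_le hAP)
  · obtain ⟨u, hu⟩ := hψs v.toAdd
    exact ⟨u.toMul, hu⟩
  · show ψ (Additive.ofMul u) = 0 ↔ _
    rw [hψk, hZ]
    rfl
  · exact ⟨(σ g (Additive.ofMul u)).toMul, hσ g _, hψe g _⟩

end Cfsg.Agent.S2999
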