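import Cfsg.Statements.S3000
import Cfsg.Agent.EqLemmas
import Cfsg.Agent.Lib.FFMinimal.GLevel

set_option autoImplicit false
open Cfsg
open scoped IsMulCommutative

namespace Cfsg.Agent.S3000

/-- Let p be a prime and let P and V be subgroups of a finite group with V elementary abelian, P normalizing V and acting faithfully on it (P ∩ C(V) = 1). Suppose P is p-minimal (a Sylow p-subgroup T of P is not normal and lies in a unique maximal subgroup M of P), O_p(P) = 1, C_P(C_V(T)) ≤ M, and P has a best offender on V: a subgroup A not centralizing V, with A/C_A(V) elementary abelian, such that |B|·|C_V(B)| ≤ |A|·|C_V(A)| for every subgroup B of A. Then there are subgroups E₁, …, E_r of P (r ≥ 1), pairwise commuting and forming with T a product P = (E₁ × ⋯ × E_r)T (internal direct product of the E_i), any two of which are conjugate by an element of T, such that V = C_V(E₁⋯E_r)·∏[V, E_i] with [V, E_i, E_j] = 1 for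 i ≠ j, and for each i there is n ≥ 1 with either E_i ≅ SL₂(pⁿ) acting on [V, E_i]/C_{[V,E_i]}(E_i) as on its natural two-dimensional module, or p = 2 and E_i isomorphic to the symmetric group of degree 2ⁿ + 1 acting on [V, E_i]/C_{[V,E_i]}(E_i) as on its even-weight permutation module. -/
theorem result {G : Type*} [Group G] [Finite G] {p : ℕ} [Fact p.Prime] (V P : Subgroup G) (hV : Cfsg.IsElementaryAbelian p V) (hPV : P ≤ Subgroup.normalizer (V : Set G)) (hfaith : P ⊓ Subgroup.centralizer (V : Set G) = ⊥) (hmin : Cfsg.IsPMinimal p ↥P) (T : Sylow p ↥P) (M : Subgroup ↥P) (hM : IsCoatom M) (hTM : (T : Subgroup ↥P) ≤ M) (hOp : Cfsg.pCore p ↥P = ⊥) (hoff : ∃ A : Subgroup G, A ≤ P ∧ ¬ A ≤ Subgroup.centralizer (V : Set G) ∧ Cfsg.IsBestOffenderOn p V A) (hCT : P ⊓ Subgroup.centralizer ((V ⊓ Subgroup.centralizer ((((T : Subgroup ↥P).map P.subtype) : Subgroup G) : Set G)) : Set G) ≤ M.map P.subtype) : ∃ (r : ℕ) (E :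 Fin r → Subgroup G), 1 ≤ r ∧ (∀ i, E i ≤ P) ∧ (∀ i j, i ≠ j → ⁅E i, E j⁆ = ⊥) ∧ (∀ i, E i ⊓ (⨆ j ∈ {j | j ≠ i}, E j) = ⊥) ∧ (⨆ i, E i) ⊔ ((T : Subgroup ↥P).map P.subtype) = P ∧ (∀ i j, ∃ t ∈ ((T : Subgroup ↥P).map P.subtype), (E i).map (MulAut.conj t).toMonoidHom = E j) ∧ (V ⊓ Subgroup.centralizer (((⨆ i, E i) : Subgroup G) : Set G)) ⊔ (⨆ i, ⁅V, E i⁆) = V ∧ (∀ i j, i ≠ j → ⁅⁅V, E i⁆, E j⁆ = ⊥) ∧ ∀ i, ∃ n : ℕ, 1 ≤ n ∧ ((∃ (F : Type) (_ : Field F) (_ : Fintype F), Fintype.card F = p ^ n ∧ Nonempty (↥(E i) ≃* Matrix.SpecialLinearGroup (Fin 2) F) ∧ Cfsg.ActsAsSL2OnSection F ⊤ (E i) ⁅V, E i⁆ (⁅V, E i⁆ ⊓ Subgroup.centralizer ((E i : Subgroup G) : Set G))) ∨ (p = 2 ∧ Nonempty (↥(E i) ≃* Equiv.Perm (Fin (2 ^ n + 1))) ∧ Cfsg.ActsAsOddPermModuleOnSection (2 ^ n + 1) ⊤ (E i) ⁅V, E i⁆ (⁅V, E i⁆ ⊓ Subgroup.centralizer ((E i : Subgroup G) : Set G)))) := by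
  classical
  haveI := hV.1
  set σ := Cfsg.Agent.FFMinimal.conjAct (V := V) hPV
  have hπ : Function.Surjective (MonoidHom.id ↥P) := fun x => ⟨x, rfl⟩
  have hσ : ∀ g v, σ ((MonoidHom.id ↥P) g) v = σ g v := fun _ _ => rfl
  have hker : (MonoidHom.id ↥P).ker = (Subgroup.centralizer (V : Set G)).subgroupOf P := by
    rw [MonoidHom.ker_id]
    symm
    rw [Subgroup.subgroupOf_eq_bot, disjoint_iff, inf_comm]
    exact hfaith
  have hf : ∀ g : ↥P, (∀ v, σ g v = v) → g = 1 := fun g hg => Subtype.ext (Subgroup.mem_bot.1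
    (hfaith.le ⟨g.2, (Cfsg.Agent.FFMinimal.conjAct_eq_iff hPV g).1 hg⟩))
  have hp := Cfsg.Agent.FFMinimal.exponent_of (G := G) hV
  have hO : ∃ A, Cfsg.Agent.FFMinimal.Off σ p A := by
    obtain ⟨A, hA, hne, hb⟩ := hoff
    exact ⟨_, Cfsg.Agent.FFMinimal.off_of_best hPV hπ hσ hker hA hne hb⟩
  obtain ⟨r, E, hE, -⟩ := Cfsg.Agent.FFMinimal.exists_split_full hp hf hmin hOp hO T
  have hup : ∀ E' : Subgroup ↥P, Cfsg.Agent.FFMinimal.up' (MonoidHom.id ↥P) E' = E'.map P.subtype := fun E' => by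
    rw [Cfsg.Agent.FFMinimal.up', Subgroup.comap_id]
  have hinj : Function.Injective P.subtype := Subtype.val_injective
  obtain ⟨hspan, horth⟩ := Cfsg.Agent.FFMinimal.split_translate hPV hπ hσ hE
    (by simp only [hup, Subgroup.map_iSup])
  simp only [hup] at hspan horth
  refine ⟨r, fun i => (E i).map P.subtype, hE.pos, fun i => Subgroup.map_subtype_le _, fun i j hij => ?_,
    fun i => ?_, ?_, fun i j => ?_, hspan, horth, fun i => ?_⟩
  · rw [Subgroup.commutator_eq_bot_iff_le_centralizer]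
    rintro _ ⟨a, ha, rfl⟩
    rw [Subgroup.mem_centralizer_iff]
    rintro _ ⟨b, hb, rfl⟩
    rw [← map_mul, ← map_mul, hE.commute i j hij a ha b hb]
  · show (E i).map P.subtype ⊓ _ = ⊥
    simp only [← Subgroup.map_iSup]
    rw [← Subgroup.map_inf _ _ _ hinj, hE.inf i, Subgroup.map_bot]
  · show (⨆ i, (E i).map P.subtype) ⊔ _ = P
    rw [← Subgroup.map_iSup, ← Subgroup.map_sup, hE.sup, ← MonoidHom.range_eq_map, Subgroup.range_subtype]
  · obtain ⟨t, ht, e⟩ := hE.conj i j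
    refine ⟨(t : G), ⟨t, ht, rfl⟩, ?_⟩
    show ((E i).map P.subtype).map _ = (E j).map P.subtype
    rw [← e, OffenderSL2.cj, Subgroup.map_map, Subgroup.map_map]
    congr 1
  · rcases hE.sec i with h | h
    · obtain ⟨n, hn, F, iF, fF, hF, ⟨e⟩, hact⟩ := Cfsg.Agent.FFMinimal.linSec_acts hPV hπ hσ h
      rw [hup] at hact
      exact ⟨n, hn, Or.inl ⟨F, iF, fF, hF, ⟨((E i).equivMapOfInjective P.subtype hinj).symm.trans e⟩, hact⟩⟩
    · obtain ⟨hp2, n, hn, ⟨e⟩, hact⟩ := Cfsg.Agent.FFMinimal.symSec_acts hPV hπ hσ h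
      rw [hup] at hact
      exact ⟨n, hn, Or.inr ⟨hp2, ⟨((E i).equivMapOfInjective P.subtype hinj).symm.trans e⟩, hact⟩⟩

end Cfsg.Agent.S3000
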