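import Cfsg.Statements.S3001
import Cfsg.Agent.EqLemmas
import Cfsg.Agent.Lib.FFMinimal.GLevel

set_option autoImplicit false
open Cfsg
open scoped IsMulCommutative commutatorElement

namespace Cfsg.Agent.S3001

/-- Let p be a prime and let P and V be subgroups of a finite group with V elementary abelian, P normalizing V and acting faithfully on it (P ∩ C(V) = 1). Suppose P is p-minimal (a Sylow p-subgroup is not normal and lies in a unique maximal subgroup), O_p(P) = 1, and P has a best offender on V (a subgroup A not centralizing V, with A/C_A(V) elementary abelian and |B|·|C_V(B)| ≤ |A|·|C_V(A)| for every B ≤ A). Then [C_V(T), P] ≠ 1 for every Sylow p-subgroup T of P. -/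
theorem result {G : Type*} [Group G] [Finite G] {p : ℕ} [Fact p.Prime] (V P : Subgroup G) (hV : Cfsg.IsElementaryAbelian p V) (hPV : P ≤ Subgroup.normalizer (V : Set G)) (hfaith : P ⊓ Subgroup.centralizer (V : Set G) = ⊥) (hmin : Cfsg.IsPMinimal p ↥P) (hOp : Cfsg.pCore p ↥P = ⊥) (hoff : ∃ A : Subgroup G, A ≤ P ∧ ¬ A ≤ Subgroup.centralizer (V : Set G) ∧ Cfsg.IsBestOffenderOn p V A) (T : Sylow p ↥P) : ⁅(V ⊓ Subgroup.centralizer ((((T : Subgroup ↥P).map P.subtype) : Subgroup G) : Set G)), P⁆ ≠ ⊥ := by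
  classical
  haveI := hV.1
  set σ := Cfsg.Agent.FFMinimal.conjAct (V := V) hPV
  have hπ : Function.Surjective (MonoidHom.id ↥P) := fun x => ⟨x, rfl⟩
  have hσ : ∀ g v, σ ((MonoidHom.id ↥P) g) v = σ g v := fun _ _ => rfl
  have hker : (MonoidHom.id ↥P).ker = (Subgroup.centralizer (V : Set G)).subgroupOf P := by
    rw [MonoidHom.ker_id]
    symm
    rw [Subgroup.subgroupOf_eq_bot, disjoint_iff, inf_comm]
    exact hfaith
  have hf : ∀ g : ↥P, (∀ v, σ g v = v) → g = 1 := fun g hg => Subtype.ext (Subgroup.mem_bot.1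
    (hfaith.le ⟨g.2, (Cfsg.Agent.FFMinimal.conjAct_eq_iff hPV g).1 hg⟩))
  have hp := Cfsg.Agent.FFMinimal.exponent_of (G := G) hV
  have hO : ∃ A, Cfsg.Agent.FFMinimal.Off σ p A := by
    obtain ⟨A, hA, hne, hb⟩ := hoff
    exact ⟨_, Cfsg.Agent.FFMinimal.off_of_best hPV hπ hσ hker hA hne hb⟩
  obtain ⟨z, hz, g, hg⟩ := Cfsg.Agent.FFMinimal.exists_fixed hp hf hmin hOp hO T
  intro h
  have hzT : Cfsg.Agent.FFMinimal.gval z ∈
      V ⊓ Subgroup.centralizer ((((T : Subgroup ↥P).map P.subtype) : Subgroup G) : Set G) := by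
    refine ⟨Cfsg.Agent.FFMinimal.gval_mem z, ?_⟩
    have h1 := (Cfsg.Agent.FFMinimal.mem_fix_iff hPV hπ hσ).1 hz
    rwa [Cfsg.Agent.FFMinimal.up', Subgroup.comap_id] at h1
  have h1 : ⁅Cfsg.Agent.FFMinimal.gval z, (g : G)⁆ = 1 :=
    Subgroup.mem_bot.1 (h.le (Subgroup.commutator_mem_commutator hzT g.2))
  refine hg (Cfsg.Agent.FFMinimal.gval_injective ?_)
  rw [Cfsg.Agent.FFMinimal.gval_act, ← commutatorElement_eq_one_iff_mul_comm.1 h1, mul_inv_cancel_right]

end Cfsg.Agent.S3001
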