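import Cfsg.Statements.S3003
import Cfsg.Agent.Lib.Coprime.Generation

set_option autoImplicit false
open Cfsg

namespace Cfsg.Agent.S3003

/-- Let G be a finite group, p a prime and Q a large p-subgroup of G: C_G(Q) ≤ Q and N_G(U) ≤ N_G(Q) for every nontrivial subgroup U of C_G(Q). Let Q ≤ G₁ ≤ G, let R be a subgroup of order prime to p normalized by G₁, and let U ≤ G₁ be a p-subgroup. If U contains a nontrivial element which is G₁-conjugate to an element of Z(Q), then C_R(U) = 1. In particular, if U is elementary abelian of order at least p² and every maximal subgroup of U contains a nontrivial element G₁-conjugate into Z(Q), then R = 1. -/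
theorem result {G : Type*} [Group G] [Finite G] {p : ℕ} [Fact p.Prime] (Q : Subgroup G) (hQp : IsPGroup p ↥Q) (hlarge : Cfsg.IsLarge Q) (G₁ : Subgroup G) (hQG : Q ≤ G₁) (R : Subgroup G) (hR : (Nat.card ↥R).Coprime p) (hGR : G₁ ≤ Subgroup.normalizer (R : Set G)) (U : Subgroup G) (hUG : U ≤ G₁) (hUp : IsPGroup p ↥U) : ((∃ x ∈ U, x ≠ 1 ∧ ∃ g ∈ G₁, g * x * g⁻¹ ∈ Q ⊓ Subgroup.centralizer (Q : Set G)) → R ⊓ Subgroup.centralizer (U : Set G) = ⊥) ∧ (Cfsg.IsElementaryAbelian p U → p ^ 2 ≤ Nat.card ↥U → (∀ U₀ : Subgroup G, U₀ ≤ U → IsCoatom (U₀.subgroupOf U) → ∃ x ∈ U₀, x ≠ 1 ∧ ∃ g ∈ G₁, g * x * g⁻¹ ∈ Q ⊓ Subgroup.centralizer (Q : Set G)) → R = ⊥) := by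
  have hRQ : ∀ z : G, z ∈ R → z ∈ Q → z = 1 := fun z hzR hzQ => by
    obtain ⟨k, hk⟩ := hQp ⟨z, hzQ⟩
    have h1 : orderOf z ∣ p ^ k := orderOf_dvd_of_pow_eq_one (congrArg Subtype.val hk)
    exact orderOf_eq_one_iff.mp (Nat.eq_one_of_dvd_coprimes (hR.pow_right k)
      (Subgroup.orderOf_dvd_natCard R hzR) h1)
  have hfirst : ∀ V : Subgroup G, (∃ x ∈ V, x ≠ 1 ∧ ∃ g ∈ G₁, g * x * g⁻¹ ∈ Q ⊓ Subgroup.centralizer (Q : Set G)) →
      R ⊓ Subgroup.centralizer (V : Set G) = ⊥ := by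
    rintro V ⟨x, hxV, hx1, g, hg, hy⟩
    set y := g * x * g⁻¹ with hydef
    rw [Subgroup.eq_bot_iff_forall]
    rintro r ⟨hrR, hrV⟩
    set r' := g * r * g⁻¹ with hr'
    have hr'R : r' ∈ R := (Subgroup.mem_normalizer_iff.mp (hGR hg) r).mp hrR
    have hcomm : Commute y r' := (show Commute x r from hrV x hxV).map (MulAut.conj g).toMonoidHom
    have hy1 : y ≠ 1 := fun h => hx1 (by
      rw [hydef, mul_inv_eq_one] at h
      exact mul_left_cancel (a := g) (by rw [h, mul_one]))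
    have hN : r' ∈ Subgroup.normalizer (Q : Set G) := by
      refine hlarge.2 (Subgroup.zpowers y) (Subgroup.zpowers_le.mpr hy.2) (Subgroup.zpowers_ne_bot.mpr hy1) ?_
      apply Subgroup.mem_normalizer_fintype
      rintro _ ⟨k, rfl⟩
      refine ⟨k, ?_⟩
      show y ^ k = r' * y ^ k * r'⁻¹
      rw [((hcomm.zpow_left k).eq).symm]
      group
    have hcent : r' ∈ Subgroup.centralizer (Q : Set G) := by
      intro q hq
      have h1 : r' * q * r'⁻¹ * q⁻¹ = 1 := by
        refine hRQ _ ?_ (Q.mul_mem ((Subgroup.mem_normalizer_iff.mp hN q).mp hq) (Q.inv_mem hq))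
        rw [show r' * q * r'⁻¹ * q⁻¹ = r' * (q * r'⁻¹ * q⁻¹) by group]
        exact R.mul_mem hr'R ((Subgroup.mem_normalizer_iff.mp (hGR (hQG hq)) _).mp (R.inv_mem hr'R))
      calc q * r' = 1 * (q * r') := (one_mul _).symm
        _ = r' * q * r'⁻¹ * q⁻¹ * (q * r') := by rw [h1]
        _ = r' * q := by group
    have h1 := hRQ r' hr'R (hlarge.1 hcent)
    rw [hr', mul_inv_eq_one] at h1
    exact mul_left_cancel (a := g) (by rw [h1, mul_one])
  refine ⟨hfirst U, fun hUel hcard hall => ?_⟩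
  haveI : IsMulCommutative U := hUel.1
  have hpp : p.Prime := Fact.out
  apply le_bot_iff.mp
  have hUK : U ≤ Subgroup.normalizer (R : Set G) := hUG.trans hGR
  have hcop : (Nat.card U).Coprime (Nat.card R) := by
    obtain ⟨k, hk⟩ := IsPGroup.iff_card.mp hUp
    rw [hk]
    exact (hR.pow_right k).symm
  refine Coprime.le_of_cyclic_quotient hUK hcop fun B hBU ⟨g, hg, hle⟩ => ?_
  obtain ⟨U₀, hU₀U, hU₀B, hU₀⟩ : ∃ U₀ : Subgroup G, U₀ ≤ U ∧ U₀ ≤ B ∧ IsCoatom (U₀.subgroupOf U) := by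
    have hidx : B.relIndex U ≤ p := Coprime.relIndex_le_of_cyclic_quotient hpp hUel.2 hBU hg hle
    obtain ⟨k, hk⟩ := IsPGroup.iff_card.mp hUp
    have hdvd : B.relIndex U ∣ p ^ k := hk ▸ (B.subgroupOf U).index_dvd_card
    obtain ⟨j, -, hj⟩ := (Nat.dvd_prime_pow hpp).mp hdvd
    rcases j with _ | _ | j
    · have hUB : U ≤ B := Subgroup.relIndex_eq_one.mp (by simpa using hj)
      haveI : Nontrivial ↥U := by
        rw [← Finite.one_lt_card_iff_nontrivial]
        calc 1 < p ^ 2 := Nat.one_lt_pow two_ne_zero hpp.one_lt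
          _ ≤ _ := hcard
      obtain ⟨K, hK⟩ := IsCoatomic.exists_coatom (α := Subgroup ↥U)
      refine ⟨K.map U.subtype, Subgroup.map_subtype_le K, (Subgroup.map_subtype_le K).trans hUB, ?_⟩
      rwa [Subgroup.subgroupOf, Subgroup.comap_map_eq_self_of_injective U.subtype_injective]
    · refine ⟨B, hBU, le_rfl, ?_⟩
      have hidx' : (B.subgroupOf U).index = p := by
        show B.relIndex U = p
        rw [hj]; ring
      refine ⟨fun h => hpp.ne_one ?_, fun Y hY => ?_⟩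
      · rw [← hidx', h, Subgroup.index_top]
      · rcases hpp.eq_one_or_self_of_dvd Y.index (hidx' ▸ Subgroup.index_dvd_of_le hY.le) with h | h
        · exact Subgroup.index_eq_one.mp h
        · exfalso
          have h1 := Subgroup.relIndex_mul_index hY.le
          rw [h, hidx'] at h1
          exact hY.not_ge (Subgroup.relIndex_eq_one.mp (Nat.eq_of_mul_eq_mul_right hpp.pos (by rw [one_mul]; exact h1)))
    · exfalso
      rw [hj] at hidx
      have : p ^ 1 < p ^ (j + 2) := Nat.pow_lt_pow_right hpp.one_lt (by omega)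
      rw [pow_one] at this
      exact absurd hidx (not_le.mpr this)
  refine (inf_le_inf_left R (Subgroup.centralizer_le (SetLike.coe_subset_coe.mpr hU₀B))).trans ?_
  exact (hfirst U₀ (hall U₀ hU₀U hU₀)).le

end Cfsg.Agent.S3003
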