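import Cfsg.Statements.S3006
import Cfsg.Agent.Lib.CentrallyLarge.Basic

set_option autoImplicit false
open scoped Pointwise
open Cfsg Cfsg.Agent.CentrallyLarge
open scoped Pointwise

namespace Cfsg.Agent.S3006

/-- Let P be a finite p-group, Q a centrally large subgroup of P (|Q|·|Z(Q)| maximal among subgroups of P) and A an abelian subgroup of P of largest order. Then QA = AQ is a centrally large subgroup of P, C_{QA}(Q ∩ A) = Z(Q)·A, and the subgroup generated by all centrally large subgroups of P contains C_P(Z(J(P))), where J(P) is generated by the abelian subgroups of largest order. -/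
theorem result {p : ℕ} [Fact p.Prime] (P : Type*) [Group P] [Finite P] (hP : IsPGroup p P) (Q A : Subgroup P) (hQ : Cfsg.IsCentrallyLarge Q) (hA : A ∈ Cfsg.maxAbelianSubgroups P) : ((Q ⊔ A : Subgroup P) : Set P) = (Q : Set P) * (A : Set P) ∧ Cfsg.IsCentrallyLarge (Q ⊔ A) ∧ (Q ⊔ A) ⊓ Subgroup.centralizer ((Q ⊓ A : Subgroup P) : Set P) = (Q ⊓ Subgroup.centralizer (Q : Set P)) ⊔ A ∧ (((Q ⊓ Subgroup.centralizer (Q : Set P)) ⊔ A : Subgroup P) : Set P) = ((Q ⊓ Subgroup.centralizer (Q : Set P)) : Set P) * (A : Set P) ∧ Subgroup.centralizer ((Cfsg.thompsonSubgroupA P ⊓ Subgroup.centralizer (Cfsg.thompsonSubgroupA P : Set P) : Subgroup P) : Set P) ≤ Cfsg.centrallyLargeJoin P := by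
  obtain ⟨hX, hprod, hB, hBprod⟩ := sup_maxAbelian hQ hA
  have hZ : Q ⊓ Subgroup.centralizer (Q : Set P) = Subgroup.centralizer (Q : Set P) :=
    inf_eq_right.mpr (CL.le hQ)
  rw [hZ]
  set Z := Subgroup.centralizer (Q : Set P) with hZdef
  have hle : Z ⊔ A ≤ (Q ⊔ A) ⊓ Subgroup.centralizer ((Q ⊓ A : Subgroup P) : Set P) := by
    refine le_inf (sup_le ((CL.le hQ).trans le_sup_left) le_sup_right) (sup_le ?_ ?_)
    · exact Subgroup.centralizer_le (SetLike.coe_subset_coe.mpr inf_le_left)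
    · exact (maxAbelian_le_centralizer hA).trans (Subgroup.centralizer_le (SetLike.coe_subset_coe.mpr inf_le_right))
  have hge : ((((Q ⊔ A) ⊓ Subgroup.centralizer ((Q ⊓ A : Subgroup P) : Set P)) : Subgroup P) : Set P) ⊆
      (Z : Set P) * (A : Set P) := by
    rintro x ⟨h1, h2⟩
    have h1' : x ∈ (Q : Set P) * (A : Set P) := hprod ▸ h1
    obtain ⟨q, hq, a, ha, rfl⟩ := h1'
    have hqC : q ∈ Subgroup.centralizer ((Q ⊓ A : Subgroup P) : Set P) := by
      have := Subgroup.mul_mem _ h2 (Subgroup.inv_mem _ (hle.trans inf_le_right (Subgroup.mem_sup_right ha)))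
      simpa using this
    have hqB : q ∈ (A ⊓ Q) ⊔ Z := by
      rw [← maxAbelian_centralizer hB, centralizer_sup]
      refine ⟨by rwa [inf_comm A Q], ?_⟩
      rw [hZdef, centralizer_centralizer_eq (CL.large hQ)]
      exact hq
    have hqB' : q ∈ ((A ⊓ Q : Subgroup P) : Set P) * (Z : Set P) := hBprod ▸ hqB
    obtain ⟨b, hb, z, hz, rfl⟩ := hqB'
    refine ⟨z, hz, b * a, A.mul_mem hb.1 ha, ?_⟩
    show z * (b * a) = b * z * a
    rw [← mul_assoc, (hz b hb.2)]
  have heq : (Q ⊔ A) ⊓ Subgroup.centralizer ((Q ⊓ A : Subgroup P) : Set P) = Z ⊔ A :=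
    le_antisymm (fun x hx => prod_subset_sup Z A (hge hx)) hle
  refine ⟨hprod, hX, heq, ?_, ?_⟩
  · rw [inf_eq_right.mpr (show (Z : Set P) ≤ (Q : Set P) from fun x hx => CL.le hQ hx)]
    exact Set.Subset.antisymm (heq ▸ hge) (prod_subset_sup Z A)
  -- the centralizer of `Z(J)`
  set S := Cfsg.centrallyLargeJoin P
  have hS : Cfsg.IsCentrallyLarge S := centrallyLarge_centrallyLargeJoin
  have hAS : ∀ B ∈ Cfsg.maxAbelianSubgroups P, B ≤ S := fun B hB =>
    le_sup_right.trans (le_centrallyLargeJoin (sup_maxAbelian hS hB).1)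
  have h1 : Subgroup.centralizer (S : Set P) ≤
      Cfsg.thompsonSubgroupA P ⊓ Subgroup.centralizer (Cfsg.thompsonSubgroupA P : Set P) := by
    refine le_inf ?_ (Subgroup.centralizer_le (SetLike.coe_subset_coe.mpr (sSup_le hAS)))
    obtain ⟨B, hB⟩ := exists_maxAbelian (P := P)
    exact ((Subgroup.centralizer_le (SetLike.coe_subset_coe.mpr (hAS B hB))).trans
      (maxAbelian_centralizer hB).le).trans (le_sSup hB)
  exact (Subgroup.centralizer_le (SetLike.coe_subset_coe.mpr h1)).trans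
    (centralizer_centralizer_eq (CL.large hS)).le

end Cfsg.Agent.S3006
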