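import Cfsg.Statements.S3008
import Cfsg.Agent.Lib.CentrallyLarge.Basic
import Cfsg.Agent.Lib.PGroup.Basic

set_option autoImplicit false
open scoped Pointwise
open Cfsg Cfsg.Agent.CentrallyLarge

namespace Cfsg.Agent.S3008

variable {P : Type*} [Group P] [Finite P]

/-- `X` normalises `Q`. -/
def Inv (X Q : Subgroup P) : Prop := ∀ x ∈ X, ∀ q ∈ Q, x * q * x⁻¹ ∈ Q

omit [Finite P] in
theorem Inv.le_normalizer [Finite P] {X Q : Subgroup P} (h : Inv X Q) : X ≤ Subgroup.normalizer (Q : Set P) :=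
  fun x hx => Subgroup.mem_normalizer_fintype (h x hx)

omit [Finite P] in
theorem map_conj_mem {H : Subgroup P} {g x : P} : x ∈ H.map (MulAut.conj g).toMonoidHom ↔ g⁻¹ * x * g ∈ H := by
  constructor
  · rintro ⟨y, hy, rfl⟩
    simpa [MulAut.conj_apply, mul_assoc] using hy
  · intro h
    exact ⟨_, h, by simp [MulAut.conj_apply, mul_assoc]⟩

omit [Finite P] in
theorem map_map_conj (H : Subgroup P) (g h : P) :
    (H.map (MulAut.conj g).toMonoidHom).map (MulAut.conj h).toMonoidHom = H.map (MulAut.conj (h * g)).toMonoidHom := by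
  rw [Subgroup.map_map]
  congr 1
  ext x
  simp [MulAut.conj_apply, mul_assoc]

omit [Finite P] in
theorem map_centralizer (e : MulAut P) (H : Subgroup P) :
    (Subgroup.centralizer (H : Set P)).map e.toMonoidHom =
      Subgroup.centralizer ((H.map e.toMonoidHom : Subgroup P) : Set P) := by
  ext x
  constructor
  · rintro ⟨y, hy, rfl⟩ _ ⟨h, hh, rfl⟩
    rw [← map_mul, ← map_mul, hy h hh]
  · intro hx
    refine ⟨e.symm x, fun h hh => e.injective ?_, e.apply_symm_apply x⟩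
    rw [map_mul, map_mul, e.apply_symm_apply]
    exact hx _ ⟨h, hh, rfl⟩

omit [Finite P] in
theorem centralizerLarge_map {Q : Subgroup P} (hQ : Cfsg.IsCentralizerLarge Q) (e : MulAut P) :
    Cfsg.IsCentralizerLarge (Q.map e.toMonoidHom) := by
  unfold Cfsg.IsCentralizerLarge
  rw [← map_centralizer, Subgroup.card_map_of_injective e.injective, Subgroup.card_map_of_injective e.injective]
  exact hQ

theorem centrallyLarge_map {Q : Subgroup P} (hQ : Cfsg.IsCentrallyLarge Q) (e : MulAut P) :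
    Cfsg.IsCentrallyLarge (Q.map e.toMonoidHom) :=
  centrallyLarge_iff.mpr ⟨centralizerLarge_map (CL.large hQ) e, map_centralizer e Q ▸ Subgroup.map_mono (CL.le hQ)⟩

theorem minimal_map {Q : Subgroup P} (hQ : Cfsg.IsMinimalCentrallyLarge Q) (e : MulAut P) :
    Cfsg.IsMinimalCentrallyLarge (Q.map e.toMonoidHom) := by
  refine ⟨centrallyLarge_map hQ.1 e, fun R hR hRc => ?_⟩
  obtain ⟨R', hR'1, hR'2⟩ := exists_minimal_le hRc
  exact le_antisymm hR ((Subgroup.eq_of_le_of_card_ge (hR'2.trans hR) (by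
    rw [Subgroup.card_map_of_injective e.injective, (minimal_card_eq hR'1 hQ).1])).ge.trans hR'2)

omit [Finite P] in
theorem maxAbelian_map {A : Subgroup P} (hA : A ∈ Cfsg.maxAbelianSubgroups P) (e : MulAut P) :
    A.map e.toMonoidHom ∈ Cfsg.maxAbelianSubgroups P := by
  refine ⟨⟨⟨?_⟩⟩, fun B hB => by rw [Subgroup.card_map_of_injective e.injective]; exact hA.2 B hB⟩
  rintro ⟨_, a, ha, rfl⟩ ⟨_, b, hb, rfl⟩
  apply Subtype.ext
  haveI := hA.1
  have h : a * b = b * a := congrArg Subtype.val (mul_comm' (⟨a, ha⟩ : A) ⟨b, hb⟩)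
  show e a * e b = e b * e a
  rw [← map_mul, ← map_mul, h]

theorem centralizerLarge_sInf {s : Set (Subgroup P)} (hs : s.Nonempty)
    (h : ∀ R ∈ s, Cfsg.IsCentralizerLarge R) : Cfsg.IsCentralizerLarge (sInf s) := by
  obtain ⟨R₀, hR₀⟩ := hs
  obtain ⟨X, hX, hmin⟩ := (Set.toFinite {X : Subgroup P | Cfsg.IsCentralizerLarge X ∧ sInf s ≤ X}).exists_le_minimal
    (show R₀ ∈ _ from ⟨h R₀ hR₀, sInf_le hR₀⟩)
  have h1 : X = sInf s := le_antisymm (le_sInf fun R hR =>
    (hmin.2 ⟨centralizerLarge_inf hmin.1.1 (h R hR), le_inf hmin.1.2 (sInf_le hR)⟩ inf_le_left).trans inf_le_right)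
    hmin.1.2
  exact h1 ▸ hmin.1.1

/-- `Q ⊔ J(P)` is centrally large. -/
theorem sup_thompson {Q : Subgroup P} (hQ : Cfsg.IsCentrallyLarge Q) :
    Cfsg.IsCentrallyLarge (Q ⊔ Cfsg.thompsonSubgroupA P) := by
  obtain ⟨X, hX, hmax⟩ := (Set.toFinite
    {X : Subgroup P | Cfsg.IsCentrallyLarge X ∧ Q ≤ X ∧ X ≤ Q ⊔ Cfsg.thompsonSubgroupA P}).exists_le_maximal
    (show Q ∈ _ from ⟨hQ, le_rfl, le_sup_left⟩)
  have h1 : X = Q ⊔ Cfsg.thompsonSubgroupA P := le_antisymm hmax.1.2.2 (sup_le hmax.1.2.1 (sSup_le fun A hA =>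
    le_sup_right.trans (hmax.2 ⟨(sup_maxAbelian hmax.1.1 hA).1, hmax.1.2.1.trans le_sup_left,
      sup_le hmax.1.2.2 (show A ≤ Q ⊔ Cfsg.thompsonSubgroupA P from le_sup_of_le_right (le_sSup hA))⟩ le_sup_left)))
  exact h1 ▸ hmax.1.1

theorem centralizer_center_thompson_le {Q : Subgroup P} (hQ : Cfsg.IsCentrallyLarge Q) :
    Subgroup.centralizer ((Cfsg.thompsonSubgroupA P ⊓ Subgroup.centralizer (Cfsg.thompsonSubgroupA P : Set P) :
      Subgroup P) : Set P) ≤ Q ⊔ Cfsg.thompsonSubgroupA P := by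
  have hX := sup_thompson hQ
  conv_rhs => rw [← centralizer_centralizer_eq (CL.large hX)]
  refine Subgroup.centralizer_le (SetLike.coe_subset_coe.mpr ?_)
  rw [centralizer_sup]
  refine le_inf ?_ inf_le_right
  obtain ⟨A, hA⟩ := exists_maxAbelian (P := P)
  refine inf_le_right.trans ((Subgroup.centralizer_le (SetLike.coe_subset_coe.mpr (le_sSup hA))).trans ?_)
  exact (maxAbelian_centralizer hA).le.trans (le_sSup hA)

/-! ### the invariant minimal centrally large subgroup -/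

/-- A generator: minimal centrally large, or abelian of largest order. -/
def Gen (R : Subgroup P) : Prop := Cfsg.IsMinimalCentrallyLarge R ∨ R ∈ Cfsg.maxAbelianSubgroups P

/-- Centrally large and spanned by generators. -/
def Good (X : Subgroup P) : Prop := Cfsg.IsCentrallyLarge X ∧ X ≤ sSup {R | Gen R ∧ R ≤ X}

omit [Finite P] in
theorem Gen.mono_span {X Y : Subgroup P} (h : X ≤ Y) :
    sSup {R | Gen R ∧ R ≤ X} ≤ sSup {R | Gen R ∧ R ≤ Y} := sSup_le_sSup fun _ hR => ⟨hR.1, hR.2.trans h⟩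

theorem Good.map {X : Subgroup P} (h : Good X) (e : MulAut P) : Good (X.map e.toMonoidHom) := by
  refine ⟨centrallyLarge_map h.1 e, (Subgroup.map_mono h.2).trans ?_⟩
  rw [Subgroup.map_le_iff_le_comap]
  refine sSup_le fun R hR => Subgroup.map_le_iff_le_comap.mp (le_sSup ⟨?_, Subgroup.map_mono hR.2⟩)
  rcases hR.1 with h' | h'
  · exact Or.inl (minimal_map h' e)
  · exact Or.inr (maxAbelian_map h' e)

/-- The abelian subgroup `G` fits `M ⊔ G = X` and behaves well against minimal centrally large subgroups. -/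
theorem exists_step {X M g₀ : Subgroup P} (hg : Gen g₀) (hgX : g₀ ≤ X) (hgM : ¬ g₀ ≤ M)
    (hMX : M ≤ X) (hM : Good M)
    (hmax : ∀ Y, Good Y → M ≤ Y → Y ≤ X → Y = M ∨ Y = X) :
    ∃ G : Subgroup P, G ≤ X ∧ X ≤ M ⊔ G ∧ G ≤ Subgroup.centralizer (G : Set P) ∧
      ∀ Q : Subgroup P, Cfsg.IsMinimalCentrallyLarge Q → ∃ D ≤ Q, G ≤ Subgroup.centralizer (D : Set P) ∧
        Q ⊓ Subgroup.centralizer (D : Set P) ≤ (Q ⊓ G) ⊔ Subgroup.centralizer (Q : Set P) ∧
        ((Q ⊔ G : Subgroup P) : Set P) = (Q : Set P) * (G : Set P) := by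
  have hY : Cfsg.IsCentrallyLarge (M ⊔ g₀) := by
    rcases hg with hR | hA
    · exact CL.sup hM.1 hR.1
    · exact (sup_maxAbelian hM.1 hA).1
  have hYg : Good (M ⊔ g₀) :=
    ⟨hY, sup_le (hM.2.trans (Gen.mono_span le_sup_left)) (le_sSup ⟨hg, le_sup_right⟩)⟩
  have hXY : X = M ⊔ g₀ := by
    rcases hmax _ hYg le_sup_left (sup_le hMX hgX) with h | h
    · exact absurd (le_sup_right.trans h.le) hgM
    · exact h.symm
  rcases hg with hR | hA
  · refine ⟨Subgroup.centralizer (g₀ : Set P), (CL.le hR.1).trans hgX, ?_,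
      (CL.le hR.1).trans (Subgroup.le_centralizer_iff.mp le_rfl), fun Q hQ => ⟨Q ⊓ g₀, inf_le_left,
      Subgroup.centralizer_le (SetLike.coe_subset_coe.mpr inf_le_right), ?_, ?_⟩⟩
    · rw [hXY]
      refine sup_le le_sup_left ?_
      conv_lhs => rw [← minimal_inf_sup hR hM.1]
      exact sup_le (inf_le_right.trans le_sup_left) le_sup_right
    · rintro q ⟨hq, hqD⟩
      have hq' : q ∈ ((Q ⊓ g₀ : Subgroup P) : Set P) * (Subgroup.centralizer (Q : Set P) : Set P) := by
        rw [← coe_sup_eq_mul (centralizerLarge_inf (CL.large hQ.1) (CL.large hR.1))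
          (centralizerLarge_centralizer (CL.large hQ.1)), minimal_inf_sup hQ hR.1]
        exact hq
      obtain ⟨d, hd, z, hz, rfl⟩ := hq'
      refine Subgroup.mul_mem _ (Subgroup.mem_sup_left ⟨hd.1, ?_⟩) (Subgroup.mem_sup_right hz)
      have hzD : z ∈ Subgroup.centralizer ((Q ⊓ g₀ : Subgroup P) : Set P) :=
        Subgroup.centralizer_le (SetLike.coe_subset_coe.mpr inf_le_left) hz
      have hdD : d ∈ Subgroup.centralizer ((Q ⊓ g₀ : Subgroup P) : Set P) := by
        simpa using Subgroup.mul_mem _ hqD (Subgroup.inv_mem _ hzD)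
      have h1 := minimal_inf_center hR hQ.1
      rw [inf_comm g₀ Q] at h1
      exact (h1.ge ⟨hd, hdD⟩).2
    · exact coe_sup_eq_mul (CL.large hQ.1) (centralizerLarge_centralizer (CL.large hR.1))
  · refine ⟨g₀, hgX, hXY.le, maxAbelian_le_centralizer hA, fun Q hQ => ⟨Q ⊓ g₀, inf_le_left,
      (maxAbelian_le_centralizer hA).trans (Subgroup.centralizer_le (SetLike.coe_subset_coe.mpr inf_le_right)),
      ?_, (sup_maxAbelian hQ.1 hA).2.1⟩⟩
    rintro q ⟨hq, hqD⟩
    have h1 := maxAbelian_centralizer (sup_maxAbelian hQ.1 hA).2.2.1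
    rw [inf_comm Q g₀] at hqD ⊢
    refine h1.le ?_
    rw [centralizer_sup]
    exact ⟨hqD, Subgroup.le_centralizer_iff.mp le_rfl hq⟩

/-- A smaller normal member gives a minimal centrally large subgroup inside it. -/
theorem shrink {Q L₂ : Subgroup P} (hQ : Cfsg.IsMinimalCentrallyLarge Q) (hL₂ : Cfsg.IsCentrallyLarge L₂)
    (hT : Q ⊓ Subgroup.centralizer (L₂ : Set P) ≤ Subgroup.centralizer (Q : Set P)) :
    Cfsg.IsMinimalCentrallyLarge ((Q ⊓ L₂) ⊔ Subgroup.centralizer (L₂ : Set P)) := by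
  set Z := Subgroup.centralizer (Q : Set P) with hZ
  set T := Subgroup.centralizer (L₂ : Set P) with hTd
  have hq := CL.large hQ.1
  have hl := CL.large hL₂
  set Q' := (Q ⊓ L₂) ⊔ T with hQ'
  have hTL : T ≤ L₂ := CL.le hL₂
  have hZQ : Z ≤ Q := CL.le hQ.1
  have hlarge : Cfsg.IsCentralizerLarge Q' :=
    centralizerLarge_sup (centralizerLarge_inf hq hl) (centralizerLarge_centralizer hl)
  have hCQ' : Subgroup.centralizer (Q' : Set P) = (Z ⊓ L₂) ⊔ T := by
    rw [hQ', centralizer_sup, centralizer_inf_eq hq hl, centralizer_centralizer_eq hl]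
    apply le_antisymm
    · rintro x ⟨h1, h2⟩
      have h1' : x ∈ (Z : Set P) * (T : Set P) := (lattice hq hl).2.2.2.1 ▸ h1
      obtain ⟨z, hz, t, ht, rfl⟩ := h1'
      refine Subgroup.mul_mem _ (Subgroup.mem_sup_left ⟨hz, ?_⟩) (Subgroup.mem_sup_right ht)
      simpa using Subgroup.mul_mem _ h2 (Subgroup.inv_mem _ (hTL ht))
    · exact le_inf (sup_le_sup_right inf_le_left _) (sup_le inf_le_right hTL)
  have hCL : Cfsg.IsCentrallyLarge Q' :=
    centrallyLarge_iff.mpr ⟨hlarge, hCQ' ▸ sup_le_sup_right (inf_le_inf_right _ hZQ) _⟩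
  have e1 : Nat.card ↥Q' * Nat.card ↥(Q ⊓ T) = Nat.card ↥(Q ⊓ L₂) * Nat.card T := by
    have h := card_prod_mul (Q ⊓ L₂) T
    rw [← coe_sup_eq_mul (centralizerLarge_inf hq hl) (centralizerLarge_centralizer hl), inf_assoc,
      inf_eq_right.mpr hTL] at h
    exact h
  have e2 : Nat.card ↥(Subgroup.centralizer (Q' : Set P)) * Nat.card ↥(Q ⊓ T) =
      Nat.card ↥(Z ⊓ L₂) * Nat.card T := by
    have h := card_prod_mul (Z ⊓ L₂) T
    have hcoe : (((Z ⊓ L₂) ⊔ T : Subgroup P) : Set P) = ((Z ⊓ L₂ : Subgroup P) : Set P) * (T : Set P) :=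
      coe_sup_eq_mul (centralizerLarge_inf (centralizerLarge_centralizer hq) hl) (centralizerLarge_centralizer hl)
    rw [← hcoe, inf_assoc, inf_eq_right.mpr hTL] at h
    rw [hCQ', show Q ⊓ T = Z ⊓ T from le_antisymm (le_inf hT inf_le_right) (inf_le_inf_right _ hZQ)]
    exact h
  have e3 : Nat.card Q * Nat.card ↥(Z ⊓ L₂) = Nat.card ↥(Q ⊓ L₂) * Nat.card Z := by
    have h := card_prod_mul (Q ⊓ L₂) Z
    rw [← coe_sup_eq_mul (centralizerLarge_inf hq hl) (centralizerLarge_centralizer hq), hZ,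
      minimal_inf_sup hQ hL₂, ← hZ] at h
    rw [← h]
    congr 2
    rw [inf_right_comm, inf_eq_right.mpr hZQ]
  have e4 : Nat.card ↥Q' * Nat.card ↥(Subgroup.centralizer (Q' : Set P)) = Nat.card Q * Nat.card Z :=
    (CL.large hCL).trans hq.symm
  set a := Nat.card ↥(Q ⊓ L₂)
  set b := Nat.card ↥(Z ⊓ L₂)
  set w := Nat.card ↥(Q ⊓ T)
  set t := Nat.card T
  have h5 : Nat.card ↥Q' * Nat.card ↥Q' = Nat.card Q * Nat.card Q := by
    have hb : 0 < b := Nat.card_pos
    have hw : 0 < w := Nat.card_pos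
    refine Nat.eq_of_mul_eq_mul_right (show 0 < b * w * w by positivity) ?_
    calc Nat.card ↥Q' * Nat.card ↥Q' * (b * w * w) = b * ((Nat.card ↥Q' * w) * (Nat.card ↥Q' * w)) := by ring
      _ = a * ((a * t) * (b * t)) := by rw [e1]; ring
      _ = a * ((Nat.card ↥Q' * w) * (Nat.card ↥(Subgroup.centralizer (Q' : Set P)) * w)) := by rw [e1, e2]
      _ = a * w * w * (Nat.card ↥Q' * Nat.card ↥(Subgroup.centralizer (Q' : Set P))) := by ring
      _ = a * w * w * (Nat.card Q * Nat.card Z) := by rw [e4]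
      _ = Nat.card Q * (a * Nat.card Z) * w * w := by ring
      _ = Nat.card Q * Nat.card Q * (b * w * w) := by rw [← e3]; ring
  obtain ⟨R, hR1, hR2⟩ := exists_minimal_le hCL
  have h6 : R = Q' := Subgroup.eq_of_le_of_card_ge hR2
    ((Nat.mul_self_inj.mp h5).trans (minimal_card_eq hQ hR1).1).le
  exact h6 ▸ hR1

theorem exists_invariant {p : ℕ} [Fact p.Prime] (hP : IsPGroup p P) :
    ∀ n, ∀ X : Subgroup P, Nat.card X ≤ n → Good X →
      ∃ Q, Cfsg.IsMinimalCentrallyLarge Q ∧ Q ≤ X ∧ Inv X Q := by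
  intro n
  induction n with
  | zero => intro X hX _; exact absurd hX (not_le.mpr Nat.card_pos)
  | succ n ih =>
    intro X hXn hX
    obtain ⟨R₀, hR₀, hR₀X⟩ := exists_minimal_le hX.1
    by_cases hR₀e : R₀ = X
    · exact ⟨R₀, hR₀, hR₀X, hR₀e ▸ fun x hx q hq => R₀.mul_mem (R₀.mul_mem hx hq) (R₀.inv_mem hx)⟩
    obtain ⟨M, hR₀M, hmax⟩ := (Set.toFinite {M : Subgroup P | Good M ∧ M < X}).exists_le_maximal
      (show R₀ ∈ _ from ⟨⟨hR₀.1, le_sSup ⟨Or.inl hR₀, le_rfl⟩⟩, lt_of_le_of_ne hR₀X hR₀e⟩)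
    obtain ⟨hM, hMX⟩ := hmax.1
    have hmax' : ∀ Y, Good Y → M ≤ Y → Y ≤ X → Y = M ∨ Y = X := fun Y hY hMY hYX =>
      (eq_or_lt_of_le hYX).symm.imp (fun h => le_antisymm (hmax.2 ⟨hY, h⟩ hMY) hMY) id
    have hMinv : Inv X M := by
      intro x hx q hq
      set M' := M.map (MulAut.conj x).toMonoidHom with hM'
      have hM'g : Good M' := hM.map (MulAut.conj x)
      have hM'X : M' ≤ X := by
        rintro _ ⟨m, hm, rfl⟩
        exact X.mul_mem (X.mul_mem hx (hMX.le hm)) (X.inv_mem hx)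
      rcases hmax' (M ⊔ M') ⟨CL.sup hM.1 hM'g.1, sup_le (hM.2.trans (Gen.mono_span le_sup_left))
        (hM'g.2.trans (Gen.mono_span le_sup_right))⟩ le_sup_left (sup_le hMX.le hM'X) with h | h
      · exact (le_sup_right.trans h.le) ⟨q, hq, rfl⟩
      · exfalso
        have h1 : x⁻¹ ∈ (M : Set P) * (M' : Set P) := by
          rw [← coe_sup_eq_mul (CL.large hM.1) (CL.large hM'g.1), h]
          exact X.inv_mem hx
        obtain ⟨m, hm, _, ⟨m', hm', rfl⟩, he⟩ := h1
        have hxM : x ∈ M := by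
          have h2 : m * x * m' = 1 := by
            have := congrArg (· * x) he
            simpa [MulAut.conj_apply, mul_assoc] using this
          rw [show x = m⁻¹ * (m * x * m') * m'⁻¹ by group, h2, mul_one]
          exact M.mul_mem (M.inv_mem hm) (M.inv_mem hm')
        apply hMX.ne
        refine le_antisymm hMX.le (h.ge.trans (sup_le le_rfl ?_))
        rintro _ ⟨m₁, hm₁, rfl⟩
        exact M.mul_mem (M.mul_mem hxM hm₁) (M.inv_mem hxM)
    obtain ⟨g₀, hg, hgX, hgM⟩ : ∃ g₀, Gen g₀ ∧ g₀ ≤ X ∧ ¬ g₀ ≤ M := by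
      by_contra hcon
      push Not at hcon
      exact not_le_of_gt hMX (hX.2.trans (sSup_le fun R hR => hcon R hR.1 hR.2))
    obtain ⟨G, hGX, hXG, hGab, hG⟩ := exists_step hg hgX hgM hMX.le hM hmax'
    have hdec : ∀ x ∈ X, ∃ a ∈ G, ∃ m ∈ M, a * m = x := fun x hx => by
      have h1 := hXG hx
      rw [sup_comm, ← SetLike.mem_coe,
        Subgroup.coe_mul_of_left_le_normalizer_right G M (hGX.trans hMinv.le_normalizer)] at h1
      exact h1
    obtain ⟨Q₁, hQ₁, hQ₁M, hQ₁i⟩ := ih M (by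
      have := lt_of_le_of_ne (Subgroup.card_le_of_le hMX.le)
        (fun h => hMX.ne (Subgroup.eq_of_le_of_card_ge hMX.le h.ge))
      omega) hM
    let cl : Subgroup P → Subgroup P := fun Q => sSup {R | ∃ x ∈ X, Q.map (MulAut.conj x).toMonoidHom = R}
    obtain ⟨Q, ⟨hQ, hQM, hQi⟩, hmin⟩ := Set.exists_min_image
      {Q | Cfsg.IsMinimalCentrallyLarge Q ∧ Q ≤ M ∧ Inv M Q} (fun Q => Nat.card ↥(cl Q)) (Set.toFinite _)
      ⟨Q₁, hQ₁, hQ₁M, hQ₁i⟩
    refine ⟨Q, hQ, hQM.trans hMX.le, ?_⟩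
    obtain ⟨D, hDQ, hGD, hkey, hQG⟩ := hG Q hQ
    set L := cl Q with hL
    set Z := Subgroup.centralizer (Q : Set P) with hZ
    have hq := CL.large hQ.1
    have hZQ : Z ≤ Q := CL.le hQ.1
    have hQL : Q ≤ L := le_sSup ⟨1, X.one_mem, by ext; simp [map_conj_mem]⟩
    by_cases hLQ : L ≤ Q
    · intro x hx q hq'
      exact hLQ ((show Q.map (MulAut.conj x).toMonoidHom ≤ L from le_sSup ⟨x, hx, rfl⟩) ⟨q, hq', rfl⟩)
    exfalso
    have hLi : Inv X L := by
      intro x hx
      have h1 : L ≤ L.comap (MulAut.conj x).toMonoidHom := by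
        refine sSup_le ?_
        rintro R ⟨y, hy, rfl⟩
        rw [← Subgroup.map_le_iff_le_comap, map_map_conj]
        exact le_sSup ⟨x * y, X.mul_mem hx hy, rfl⟩
      exact fun q hq' => h1 hq'
    have hLcl : Cfsg.IsCentrallyLarge L := centrallyLarge_sSup ⟨_, 1, X.one_mem, rfl⟩ (by
      rintro R ⟨x, hx, rfl⟩; exact centrallyLarge_map hQ.1 _)
    have hLM : L ≤ M := by
      refine sSup_le ?_
      rintro R ⟨x, hx, rfl⟩ _ ⟨q, hq', rfl⟩
      exact hMinv x hx q (hQM hq')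
    set I : Subgroup P := sInf {R | ∃ x ∈ X, Q.map (MulAut.conj x).toMonoidHom = R} with hI
    have hmemI : ∀ q, q ∈ I ↔ ∀ x ∈ X, x⁻¹ * q * x ∈ Q := fun q => by
      rw [hI, Subgroup.mem_sInf]
      constructor
      · exact fun h x hx => map_conj_mem.mp (h _ ⟨x, hx, rfl⟩)
      · rintro h _ ⟨x, hx, rfl⟩
        exact map_conj_mem.mpr (h x hx)
    have hIlarge : Cfsg.IsCentralizerLarge I := centralizerLarge_sInf ⟨_, 1, X.one_mem, rfl⟩ (by
      rintro R ⟨x, hx, rfl⟩; exact centralizerLarge_map hq _)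
    have hIQ : I ≤ Q := fun q hq' => by simpa using (hmemI q).mp hq' 1 X.one_mem
    have hIi : Inv X I := by
      intro x hx q hq'
      rw [hmemI]
      intro y hy
      have := (hmemI q).mp hq' (x⁻¹ * y) (X.mul_mem (X.inv_mem hx) hy)
      simpa [mul_assoc] using this
    have hfixI : ∀ q ∈ Q, (∀ a ∈ G, a⁻¹ * q * a ∈ Q) → q ∈ I := by
      intro q hq' hqa
      rw [hmemI]
      intro x hx
      obtain ⟨a, ha, m, hm, rfl⟩ := hdec x hx
      have := hQi m⁻¹ (M.inv_mem hm) _ (hqa a ha)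
      simpa [mul_assoc] using this
    have hfix : ∀ q ∈ Q, (∀ a ∈ G, q * a = a * q) → q ∈ I := fun q hq' hc =>
      hfixI q hq' fun a ha => by rw [mul_assoc, hc a ha, inv_mul_cancel_left]; exact hq'
    have hDI : D ≤ I := fun d hd => hfix d (hDQ hd) fun a ha => hGD ha d hd
    have hGI : Q ⊓ G ≤ I := fun e he => hfix e he.1 fun a ha => hGab ha e he.2
    have hkey' : ∀ q ∈ Q, q ∈ Subgroup.centralizer (D : Set P) → ∃ e ∈ Q ⊓ G, ∃ z ∈ Z, e * z = q := by
      intro q hq' hqD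
      have h1 := hkey ⟨hq', hqD⟩
      rw [← SetLike.mem_coe, Subgroup.coe_mul_of_left_le_normalizer_right] at h1
      · exact h1
      · intro e he
        refine Subgroup.mem_normalizer_fintype fun z hz => ?_
        have h2 : e * z = z * e := hz e he.1
        rwa [h2, mul_inv_cancel_right]
    have hIZ : I ⊔ Z = Q := by
      refine hQ.2 _ (sup_le hIQ hZQ) (centrallyLarge_iff.mpr
        ⟨centralizerLarge_sup hIlarge (centralizerLarge_centralizer hq), ?_⟩)
      rw [centralizer_sup, centralizer_centralizer_eq hq]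
      rintro x ⟨hxI, hxQ⟩
      obtain ⟨e, he, z, hz, rfl⟩ := hkey' x hxQ (Subgroup.centralizer_le (SetLike.coe_subset_coe.mpr hDI) hxI)
      exact Subgroup.mul_mem _ (Subgroup.mem_sup_left (hGI he)) (Subgroup.mem_sup_right hz)
    set W := Subgroup.centralizer (L : Set P) with hW
    have hWi : Inv X W := by
      intro x hx w hw l hl
      have h1 := hLi x⁻¹ (X.inv_mem hx) l hl
      rw [inv_inv] at h1
      calc l * (x * w * x⁻¹) = x * ((x⁻¹ * l * x) * w) * x⁻¹ := by group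
        _ = x * (w * (x⁻¹ * l * x)) * x⁻¹ := by rw [hw _ h1]
        _ = x * w * x⁻¹ * l := by group
    set CI := Subgroup.centralizer (I : Set P) with hCI
    have hCIi : Inv X CI := by
      intro x hx w hw l hl
      have h1 := hIi x⁻¹ (X.inv_mem hx) l hl
      rw [inv_inv] at h1
      calc l * (x * w * x⁻¹) = x * ((x⁻¹ * l * x) * w) * x⁻¹ := by group
        _ = x * (w * (x⁻¹ * l * x)) * x⁻¹ := by rw [hw _ h1]
        _ = x * w * x⁻¹ * l := by group
    have hWQ : W ≤ Z := Subgroup.centralizer_le (SetLike.coe_subset_coe.mpr hQL)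
    have hWI : W ≤ I := fun w hw => (hmemI w).mpr fun x hx => hZQ (hWQ (by
      have := hWi x⁻¹ (X.inv_mem hx) w hw
      rwa [inv_inv] at this))
    have hIZW : I ⊓ Z ≤ W := by
      rw [hW, Subgroup.le_centralizer_iff]
      refine sSup_le ?_
      rintro R ⟨y, hy, rfl⟩ _ ⟨q, hq', rfl⟩ u ⟨hu, huZ⟩
      have hZeq : Z = CI ⊓ Q := by
        conv_lhs => rw [hZ, ← hIZ]
        rw [centralizer_sup, centralizer_centralizer_eq hq]
      have h1 : y⁻¹ * u * y ∈ Z := by
        refine hZeq.ge ⟨?_, (hmemI u).mp hu y hy⟩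
        have := hCIi y⁻¹ (X.inv_mem hy) u (hZeq.le huZ).1
        rwa [inv_inv] at this
      calc u * (y * q * y⁻¹) = y * ((y⁻¹ * u * y) * q) * y⁻¹ := by group
        _ = y * (q * (y⁻¹ * u * y)) * y⁻¹ := by rw [h1 q hq']
        _ = y * q * y⁻¹ * u := by group
    have hQCI : Q ≤ I ⊔ CI := hIZ.ge.trans (sup_le_sup_left (Subgroup.centralizer_le (SetLike.coe_subset_coe.mpr hIQ)) _)
    have hLIC : L ≤ I ⊔ CI := by
      refine sSup_le ?_
      rintro R ⟨y, hy, rfl⟩
      refine (Subgroup.map_mono hQCI).trans ?_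
      rw [Subgroup.map_sup]
      exact sup_le_sup (by rintro _ ⟨q, hq', rfl⟩; exact hIi y hy q hq')
        (by rintro _ ⟨q, hq', rfl⟩; exact hCIi y hy q hq')
    have hICIlarge := centralizerLarge_sup hIlarge (centralizerLarge_centralizer hIlarge)
    have hCIC : Subgroup.centralizer ((I ⊔ CI : Subgroup P) : Set P) = I ⊓ CI := by
      rw [centralizer_sup, hCI, centralizer_centralizer_eq hIlarge, inf_comm]
    have hIW : I ⊓ CI = W := le_antisymm (hCIC ▸ Subgroup.centralizer_le (SetLike.coe_subset_coe.mpr hLIC))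
      (le_inf hWI (hWQ.trans (Subgroup.centralizer_le (SetLike.coe_subset_coe.mpr hIQ))))
    have hLeq : L = I ⊔ CI := by
      rw [← centralizer_centralizer_eq (CL.large hLcl), ← hW, ← hIW, ← hCIC, centralizer_centralizer_eq hICIlarge]
    have hLQG : (L : Set P) ⊆ (Q : Set P) * (G : Set P) := by
      rw [← hQG]
      refine SetLike.coe_subset_coe.mpr (sSup_le ?_)
      rintro R ⟨x, hx, rfl⟩ _ ⟨q, hq', rfl⟩
      obtain ⟨a, ha, m, hm, rfl⟩ := hdec x hx
      show a * m * q * (a * m)⁻¹ ∈ _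
      rw [show a * m * q * (a * m)⁻¹ = a * (m * q * m⁻¹) * a⁻¹ by group]
      exact Subgroup.mul_mem _ (Subgroup.mul_mem _ (Subgroup.mem_sup_right ha)
        (Subgroup.mem_sup_left (hQi m hm q hq'))) (Subgroup.inv_mem _ (Subgroup.mem_sup_right ha))
    set U := ((G ⊓ L) ⊔ W) ⊓ CI with hU
    have hUab : U ≤ Subgroup.centralizer (U : Set P) := by
      refine inf_le_left.trans ((abelian_sup (inf_le_left.trans (hGab.trans (Subgroup.centralizer_le
        (SetLike.coe_subset_coe.mpr inf_le_left)))) ?_ ?_).trans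
        (Subgroup.centralizer_le (SetLike.coe_subset_coe.mpr inf_le_left)))
      · exact ((hWI.trans hIQ).trans hQL).trans (Subgroup.le_centralizer_iff.mp le_rfl)
      · exact Subgroup.centralizer_le (SetLike.coe_subset_coe.mpr inf_le_right)
    have hWU : W ≤ U := le_inf le_sup_right (hIW ▸ inf_le_right)
    have hUL : U ≤ L := inf_le_left.trans (sup_le inf_le_right ((hWI.trans hIQ).trans hQL))
    have hUdec : ∀ y ∈ G, y ∈ L → ∀ q ∈ Q, q * y ∈ CI → q ∈ I → q * y ∈ U := by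
      intro y hy hyL q hq' hqy hqI
      refine ⟨?_, hqy⟩
      have hqD : q ∈ Subgroup.centralizer (D : Set P) := by
        have h2 : q * y ∈ Subgroup.centralizer (D : Set P) :=
          Subgroup.centralizer_le (SetLike.coe_subset_coe.mpr hDI) hqy
        simpa using Subgroup.mul_mem _ h2 (Subgroup.inv_mem _ (hGD hy))
      obtain ⟨e, he, z, hz, rfl⟩ := hkey' q hq' hqD
      have hzI : z ∈ I := by simpa using I.mul_mem (I.inv_mem (hGI he)) hqI
      exact Subgroup.mul_mem _ (Subgroup.mul_mem _ (Subgroup.mem_sup_left ⟨he.2, hQL he.1⟩)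
        (Subgroup.mem_sup_right (hIZW ⟨hzI, hz⟩))) (Subgroup.mem_sup_left ⟨hy, hyL⟩)
    have hLQU : (L : Set P) ⊆ (Q : Set P) * (U : Set P) := by
      intro l hl
      obtain ⟨q, hq', y, hy, rfl⟩ := hLQG hl
      have hyL : y ∈ L := by simpa using L.mul_mem (L.inv_mem (hQL hq')) hl
      have hy' : y ∈ (I : Set P) * (CI : Set P) := by
        rw [← coe_sup_eq_mul hIlarge (centralizerLarge_centralizer hIlarge), ← hLeq]
        exact hyL
      obtain ⟨i, hi, v, hv, he⟩ := hy'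
      subst he
      refine ⟨q * i, Q.mul_mem hq' (hIQ hi), v, ?_, (mul_assoc _ _ _)⟩
      have := hUdec (i * v) hy hyL i⁻¹ (Q.inv_mem (hIQ hi)) (by simpa using hv) (I.inv_mem hi)
      simpa using this
    have hQU : Q ⊓ U = W := by
      refine le_antisymm ?_ (le_inf (hWQ.trans hZQ) hWU)
      rintro u ⟨huQ, huU⟩
      refine hIW.le ⟨?_, huU.2⟩
      have h1 : u ∈ ((G ⊓ L : Subgroup P) : Set P) * (W : Set P) := by
        rw [← Subgroup.coe_mul_of_left_le_normalizer_right (G ⊓ L) W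
          ((inf_le_left.trans hGX).trans hWi.le_normalizer)]
        exact huU.1
      obtain ⟨a, ha, w, hw, rfl⟩ := h1
      refine I.mul_mem (hGI ⟨?_, ha.1⟩) (hWI hw)
      simpa using Q.mul_mem huQ (Q.inv_mem (hIQ (hWI hw)))
    have hUlarge : Cfsg.IsCentralizerLarge U := by
      have e1 : Nat.card L * Nat.card W ≤ Nat.card Q * Nat.card U := by
        rw [← card_prod_mul Q U, hQU]
        exact Nat.mul_le_mul_right _ (Nat.card_mono (Set.toFinite _) hLQU)
      have e2 : Nat.card Q * Nat.card ↥(I ⊓ Z) = Nat.card I * Nat.card Z := by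
        rw [← card_prod_mul I Z, ← coe_sup_eq_mul hIlarge (centralizerLarge_centralizer hq), hIZ]
        rfl
      have hIZW' : I ⊓ Z = W := le_antisymm hIZW (le_inf hWI hWQ)
      have e3 : Nat.card I * Nat.card U ≤ Nat.card ↥(I ⊔ U) * Nat.card W := by
        have h := card_mul_card_le I U
        rwa [show I ⊓ U = W from le_antisymm ((inf_le_inf_left _ inf_le_right).trans hIW.le) (le_inf hWI hWU)] at h
      have e4 : Nat.card L * Nat.card W = Nat.card Q * Nat.card Z := (CL.large hLcl).trans hq.symm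
      rw [hIZW'] at e2
      have hUC : U ≤ Subgroup.centralizer ((I ⊔ U : Subgroup P) : Set P) := by
        rw [centralizer_sup]; exact le_inf inf_le_right hUab
      have hZU : Nat.card Z ≤ Nat.card U :=
        Nat.le_of_mul_le_mul_left (e4 ▸ e1) (show 0 < Nat.card Q from Nat.card_pos)
      have hQIU : Nat.card Q ≤ Nat.card ↥(I ⊔ U) := by
        refine Nat.le_of_mul_le_mul_right ?_ (show 0 < Nat.card W from Nat.card_pos)
        rw [e2]
        exact (Nat.mul_le_mul_left _ hZU).trans e3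
      have e5 : Nat.card ↥(I ⊔ U) * Nat.card U ≤ Cfsg.maxCentralizerProduct P :=
        (Nat.mul_le_mul_left _ (Subgroup.card_le_of_le hUC)).trans (measure_le _)
      have h6 : Cfsg.IsCentralizerLarge (I ⊔ U) := centralizerLarge_of_le (hq.ge.trans
        (Nat.mul_le_mul hQIU (hZU.trans (Subgroup.card_le_of_le hUC))))
      have h7 : U = Subgroup.centralizer ((I ⊔ U : Subgroup P) : Set P) := by
        refine Subgroup.eq_of_le_of_card_ge hUC
          (Nat.le_of_mul_le_mul_left ?_ (show 0 < Nat.card ↥(I ⊔ U) from Nat.card_pos))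
        exact h6.le.trans (hq.ge.trans (Nat.mul_le_mul hQIU hZU))
      rw [h7]
      exact centralizerLarge_centralizer h6
    -- an element of `CI` fixed by `X` modulo `W`
    obtain ⟨v, hvC, hvW, hvfix⟩ : ∃ v ∈ CI, v ∉ W ∧ ∀ x ∈ X, x * v * x⁻¹ * v⁻¹ ∈ W := by
      have hCIX : CI ≤ X := ((le_sup_right.trans hLeq.ge).trans hLM).trans hMX.le
      haveI : (W.subgroupOf X).Normal := ⟨fun w hw x => hWi x x.2 w hw⟩
      haveI hn : (CI.subgroupOf X).Normal := ⟨fun w hw x => hCIi x x.2 w hw⟩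
      set π := QuotientGroup.mk' (W.subgroupOf X)
      haveI : ((CI.subgroupOf X).map π).Normal := hn.map π (QuotientGroup.mk'_surjective _)
      have hne : (CI.subgroupOf X).map π ≠ ⊥ := by
        intro h
        rw [Subgroup.map_eq_bot_iff, QuotientGroup.ker_mk'] at h
        have hZW : Z ≤ W := fun z hz =>
          h (x := ⟨z, hCIX (Subgroup.centralizer_le (SetLike.coe_subset_coe.mpr hIQ) hz)⟩)
            (Subgroup.centralizer_le (SetLike.coe_subset_coe.mpr hIQ) hz)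
        apply hLQ
        rw [← centralizer_centralizer_eq hq, ← centralizer_centralizer_eq (CL.large hLcl), ← hW, ← hZ]
        exact Subgroup.centralizer_le (SetLike.coe_subset_coe.mpr hZW)
      obtain ⟨⟨v', hv'⟩, hv'1⟩ := (Subgroup.ne_bot_iff_exists_ne_one).mp
        (Cfsg.Agent.PGroup.inf_center_ne_bot ((hP.to_subgroup X).to_quotient _) hne)
      obtain ⟨⟨v, hv, rfl⟩, hvc⟩ := hv'
      refine ⟨v, hv, fun hw => hv'1 (Subtype.ext ((QuotientGroup.eq_one_iff v).mpr hw)), fun x hx => ?_⟩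
      obtain ⟨x', rfl⟩ : ∃ x' : ↥X, (x' : P) = x := ⟨⟨x, hx⟩, rfl⟩
      have h1 := Subgroup.mem_center_iff.mp hvc (π x')
      have h2 : π (x' * v * x'⁻¹ * v⁻¹) = 1 := by
        rw [map_mul, map_mul, map_mul, h1, map_inv, map_inv]
        group
      have h3 : x' * v * x'⁻¹ * v⁻¹ ∈ W.subgroupOf X := (QuotientGroup.eq_one_iff _).mp h2
      exact h3
    have hvU : v ∈ U := by
      obtain ⟨q, hq', y, hy, rfl⟩ := hLQG (hLeq.ge (Subgroup.mem_sup_right hvC))
      have hqyL : q * y ∈ L := hLeq.ge (Subgroup.mem_sup_right hvC)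
      refine hUdec y hy (by simpa using L.mul_mem (L.inv_mem (hQL hq')) hqyL) q hq' hvC
        (hfixI q hq' fun a ha => ?_)
      have h1 := hvfix a⁻¹ (X.inv_mem (hGX ha))
      have h2 : a⁻¹ * y = y * a⁻¹ := (hGab (G.inv_mem ha) y hy).symm
      have h3 : a⁻¹ * (q * y) * a⁻¹⁻¹ * (q * y)⁻¹ = a⁻¹ * q * a * q⁻¹ := by
        calc a⁻¹ * (q * y) * a⁻¹⁻¹ * (q * y)⁻¹ = a⁻¹ * q * a * (a⁻¹ * y) * a * y⁻¹ * q⁻¹ := by group
          _ = a⁻¹ * q * a * (y * a⁻¹) * a * y⁻¹ * q⁻¹ := by rw [h2]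
          _ = a⁻¹ * q * a * q⁻¹ := by group
      rw [h3] at h1
      simpa using Q.mul_mem (hIQ (hWI h1)) hq'
    -- the least member containing `W` and `v`
    obtain ⟨T, hTU, hTmin⟩ :=
      (Set.toFinite {T : Subgroup P | Cfsg.IsCentralizerLarge T ∧ W ≤ T ∧ v ∈ T}).exists_le_minimal
        (show U ∈ _ from ⟨hUlarge, hWU, hvU⟩)
    obtain ⟨hTl, hWT, hvT⟩ := hTmin.1
    have hleast : ∀ T', Cfsg.IsCentralizerLarge T' → W ≤ T' → v ∈ T' → T ≤ T' := fun T' h1 h2 h3 =>
      (hTmin.2 ⟨centralizerLarge_inf hTl h1, le_inf hWT h2, hvT, h3⟩ inf_le_left).trans inf_le_right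
    have hTi : Inv X T := by
      intro x hx t ht
      have h1 : T ≤ T.map (MulAut.conj x⁻¹).toMonoidHom := by
        refine hleast _ (centralizerLarge_map hTl _) ?_ ?_
        · intro w hw
          exact map_conj_mem.mpr (hWT (by simpa using hWi x hx w hw))
        · refine map_conj_mem.mpr ?_
          have := T.mul_mem (hWT (hvfix x hx)) hvT
          simpa using this
      simpa using map_conj_mem.mp (h1 ht)
    have hTab : T ≤ Subgroup.centralizer (T : Set P) :=
      hTU.trans (hUab.trans (Subgroup.centralizer_le (SetLike.coe_subset_coe.mpr hTU)))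
    set L₂ := Subgroup.centralizer (T : Set P) ⊓ L with hL₂
    have hCL₂ : Subgroup.centralizer (L₂ : Set P) = T := by
      rw [hL₂, centralizer_inf_eq (centralizerLarge_centralizer hTl) (CL.large hLcl),
        centralizer_centralizer_eq hTl, ← hW, sup_eq_left.mpr hWT]
    have hL₂cl : Cfsg.IsCentrallyLarge L₂ := centrallyLarge_iff.mpr
      ⟨centralizerLarge_inf (centralizerLarge_centralizer hTl) (CL.large hLcl),
        hCL₂.le.trans (le_inf hTab (hTU.trans hUL))⟩
    have hL₂i : Inv X L₂ := by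
      intro x hx u hu
      refine ⟨fun t ht => ?_, hLi x hx u hu.2⟩
      have h1 := hTi x⁻¹ (X.inv_mem hx) t ht
      rw [inv_inv] at h1
      calc t * (x * u * x⁻¹) = x * ((x⁻¹ * t * x) * u) * x⁻¹ := by group
        _ = x * (u * (x⁻¹ * t * x)) * x⁻¹ := by rw [hu.1 _ h1]
        _ = x * u * x⁻¹ * t := by group
    have hQ' : Cfsg.IsMinimalCentrallyLarge ((Q ⊓ L₂) ⊔ Subgroup.centralizer (L₂ : Set P)) :=
      shrink hQ hL₂cl (by rw [hCL₂]; exact ((inf_le_inf_left _ hTU).trans hQU.le).trans hWQ)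
    rw [hCL₂] at hQ'
    have hQ'L₂ : (Q ⊓ L₂) ⊔ T ≤ L₂ := sup_le inf_le_right (hCL₂ ▸ CL.le hL₂cl)
    have hQ'i : Inv M ((Q ⊓ L₂) ⊔ T) := by
      intro m hm
      have h1 : (Q ⊓ L₂) ⊔ T ≤ ((Q ⊓ L₂) ⊔ T).comap (MulAut.conj m).toMonoidHom :=
        sup_le (fun u hu => Subgroup.mem_sup_left ⟨hQi m hm u hu.1, hL₂i m (hMX.le hm) u hu.2⟩)
          (fun u hu => Subgroup.mem_sup_right (hTi m (hMX.le hm) u hu))
      exact fun q hq' => h1 hq'
    have hcl : cl ((Q ⊓ L₂) ⊔ T) ≤ L₂ := by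
      refine sSup_le ?_
      rintro R ⟨x, hx, rfl⟩ _ ⟨u, hu, rfl⟩
      exact hL₂i x hx u (hQ'L₂ hu)
    have hlt : L₂ ≠ L := fun h => hvW (show v ∈ W by rw [hW, ← h, hCL₂]; exact hvT)
    have h8 := hmin _ ⟨hQ', (hQ'L₂.trans inf_le_right).trans hLM, hQ'i⟩
    exact hlt (Subgroup.eq_of_le_of_card_ge inf_le_right (h8.trans (Subgroup.card_le_of_le hcl)))

/-- Let P be a finite p-group, with J(P) generated by its abelian subgroups of largest order and J̃(P) = C_P(Z(J(P))); call R ≤ P centrally large if |R|·|Z(R)| is as large as possible, and let P_MCL be generated by the minimal centrally large subgroups. Then: for every centrally large Q, Q·J(P) ⊇ J̃(P); some minimal centrally large subgroup of P is normalized by both J(P) and P_MCL; if P = J(P) and d(P)² = |P|·|Z(P)|, where d(P) is the largest order of an abelian subgroup, then every minimal centrally large subgroup of P is abelian; and if every minimal centrally large subgroup is abelian then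 J̃(P) = J(P). -/
theorem result {p : ℕ} [Fact p.Prime] (P : Type*) [Group P] [Finite P] (hP : IsPGroup p P) : (∀ Q : Subgroup P, Cfsg.IsCentrallyLarge Q → Subgroup.centralizer ((Cfsg.thompsonSubgroupA P ⊓ Subgroup.centralizer (Cfsg.thompsonSubgroupA P : Set P) : Subgroup P) : Set P) ≤ Q ⊔ Cfsg.thompsonSubgroupA P) ∧ (∃ Q : Subgroup P, Cfsg.IsMinimalCentrallyLarge Q ∧ Cfsg.thompsonSubgroupA P ≤ Subgroup.normalizer (Q : Set P) ∧ Cfsg.minimalCentrallyLargeJoin P ≤ Subgroup.normalizer (Q : Set P)) ∧ (Cfsg.thompsonSubgroupA P = ⊤ → (∀ A ∈ Cfsg.maxAbelianSubgroups P, Nat.card ↥A ^ 2 = Nat.card P * Nat.card ↥(Subgroup.center P)) → ∀ Q : Subgroup P, Cfsg.IsMinimalCentrallyLarge Q → IsMulCommutative ↥Q) ∧ ((∀ Q : Subgroup P, Cfsg.IsMinimalCentrallyLarge Q → IsMulCommutative ↥Q) → Subgroup.centralizer ((Cfsg.thompsonSubgroupA P ⊓ Subgroup.centralizer (Cfsg.thompsonSubgroupA P : Set P) : Subgroup P) : Set P) = Cfsg.thompsonSubgroupA P) := by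
  refine ⟨fun Q hQ => centralizer_center_thompson_le hQ, ?_, ?_, ?_⟩
  · set X := Cfsg.minimalCentrallyLargeJoin P ⊔ Cfsg.thompsonSubgroupA P with hX
    have hgood : Good X := ⟨sup_thompson centrallyLarge_minimalJoin,
      sup_le (sSup_le fun R hR => le_sSup ⟨Or.inl hR, le_sup_of_le_left (le_sSup hR)⟩)
        (sSup_le fun R hR => le_sSup ⟨Or.inr hR, le_sup_of_le_right (le_sSup hR)⟩)⟩
    obtain ⟨Q, hQ, -, hQi⟩ := exists_invariant hP (Nat.card X) X le_rfl hgood
    exact ⟨Q, hQ, le_sup_right.trans hQi.le_normalizer, le_sup_left.trans hQi.le_normalizer⟩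
  · intro hJ hA2
    obtain ⟨A, hA⟩ := exists_maxAbelian (P := P)
    obtain ⟨Q₀, hQ₀⟩ := exists_minimal (P := P)
    have htop : Cfsg.IsCentrallyLarge (⊤ : Subgroup P) := by
      have := sup_thompson hQ₀.1
      rwa [hJ, sup_top_eq] at this
    have hAcl : Cfsg.IsCentrallyLarge A := by
      refine centrallyLarge_iff.mpr ⟨?_, (maxAbelian_centralizer hA).le⟩
      have h1 := CL.large htop
      unfold Cfsg.IsCentralizerLarge at h1 ⊢
      rw [maxAbelian_centralizer hA, ← sq, hA2 A hA, ← h1, Subgroup.coe_top, Subgroup.centralizer_univ,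
        Subgroup.card_top]
    obtain ⟨R, hR, hRA⟩ := exists_minimal_le hAcl
    have hRC : Subgroup.centralizer (R : Set P) = R := le_antisymm (CL.le hR.1)
      (hRA.trans ((maxAbelian_le_centralizer hA).trans (Subgroup.centralizer_le (SetLike.coe_subset_coe.mpr hRA))))
    intro Q hQ
    obtain ⟨e1, e2⟩ := minimal_card_eq hQ hR
    rw [hRC, ← e1] at e2
    refine (abelian_iff Q).mpr (Subgroup.eq_of_le_of_card_ge (CL.le hQ.1) e2.ge).ge
  · intro hab
    obtain ⟨R, hR⟩ := exists_minimal (P := P)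
    have hRC : Subgroup.centralizer (R : Set P) = R := le_antisymm (CL.le hR.1) ((abelian_iff R).mp (hab R hR))
    have hRA : R ∈ Cfsg.maxAbelianSubgroups P := ⟨hab R hR, fun B hB => Nat.mul_self_le_mul_self_iff.mp (by
      calc Nat.card B * Nat.card B ≤ Nat.card B * Nat.card ↥(Subgroup.centralizer (B : Set P)) :=
            Nat.mul_le_mul_left _ (Subgroup.card_le_of_le ((abelian_iff B).mp hB))
        _ ≤ _ := measure_le B
        _ = Nat.card R * Nat.card ↥(Subgroup.centralizer (R : Set P)) := (CL.large hR.1).symm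
        _ = _ := by rw [hRC])⟩
    refine le_antisymm ((centralizer_center_thompson_le hR.1).trans (sup_le (le_sSup hRA) le_rfl)) ?_
    exact Subgroup.le_centralizer_iff.mp inf_le_right

end Cfsg.Agent.S3008
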