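import Cfsg.Statements.S3009
import Cfsg.Agent.Lib.SL2Natural.Basic
import Cfsg.Agent.Lib.SL2Module.Group

set_option autoImplicit false
open Cfsg

namespace Cfsg.Agent.S3009

open Cfsg.Agent
open scoped commutatorElement

/-- Some isomorphism onto `SL₂` carries a given Sylow subgroup onto the upper unitriangular group. -/
theorem exists_equiv_sylow {G F : Type*} [Group G] [Finite G] [Field F] [Finite F] {p n : ℕ} [Fact p.Prime]
    [CharP F p] (hF : Nat.card F = p ^ n) (e₀ : G ≃* Matrix.SpecialLinearGroup (Fin 2) F) (S : Sylow p G) :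
    ∃ e : G ≃* Matrix.SpecialLinearGroup (Fin 2) F, ∀ g, g ∈ S ↔ ∃ a, Quadratic.upperE a = e g := by
  let u : Multiplicative F →* Matrix.SpecialLinearGroup (Fin 2) F :=
    MonoidHom.mk' (fun a => Quadratic.upperE a.toAdd) fun a b => (Quadratic.upperE_mul _ _).symm
  have hu : Nat.card u.range = Nat.card F :=
    (Nat.card_congr (MonoidHom.ofInjective (f := u) fun a b h =>
      Multiplicative.toAdd.injective (Quadratic.upperE_injective h)).toEquiv).symm
  have hup : IsPGroup p u.range := IsPGroup.of_card (hu.trans hF)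
  obtain ⟨P, hP⟩ := hup.exists_le_sylow
  have hPe : u.range = P.toSubgroup := Subgroup.eq_of_le_of_card_ge hP (by
    rw [GLOrder.card_sylow_SL p 2 P, hu]; simp)
  obtain ⟨c, hc⟩ := MulAction.exists_smul_eq (Matrix.SpecialLinearGroup (Fin 2) F)
    (S.mapSurjective (show Function.Surjective e₀.toMonoidHom from e₀.surjective)) P
  refine ⟨e₀.trans (MulAut.conj c), fun g => ?_⟩
  have hPc : P.toSubgroup = (S.toSubgroup.map e₀.toMonoidHom).map (MulAut.conj c).toMonoidHom := by
    rw [← hc, Sylow.coe_subgroup_smul]; rfl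
  constructor
  · intro hg
    have hmem : MulAut.conj c (e₀ g) ∈ u.range := by
      rw [hPe, hPc]; exact Subgroup.mem_map_of_mem _ (Subgroup.mem_map_of_mem _ hg)
    obtain ⟨a, ha⟩ := hmem
    exact ⟨a.toAdd, ha⟩
  · rintro ⟨a, ha⟩
    have hmem : MulAut.conj c (e₀ g) ∈ P.toSubgroup := by
      rw [← hPe]; exact ⟨Multiplicative.ofAdd a, ha⟩
    rw [hPc] at hmem
    obtain ⟨_, ⟨h, hh, rfl⟩, hh'⟩ := hmem
    have : h = g := e₀.injective ((MulAut.conj c).injective hh')
    exact this ▸ hh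

/-- Let p be a prime and let G and V be subgroups of a finite group with V elementary abelian and normalized by G, and G isomorphic to SL₂(F) for a finite field F with pⁿ elements. Suppose G acts irreducibly and nontrivially on V by conjugation (no G-invariant subgroups of V other than 1 and V, and [V, G] ≠ 1), and let S be a Sylow p-subgroup of G and V₀ = C_V(S). If [V, S, S] = 1 or |V| ≤ |V₀|², then G acts on V as SL₂(F) on its natural two-dimensional module; in particular |V| = |F|². -/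
theorem result {X : Type*} [Group X] [Finite X] {p : ℕ} [Fact p.Prime] (G V : Subgroup X) (hV : Cfsg.IsElementaryAbelian p V) (hGV : G ≤ Subgroup.normalizer (V : Set X)) (F : Type) [Field F] [Fintype F] (n : ℕ) (hF : Fintype.card F = p ^ n) (hG : Nonempty (↥G ≃* Matrix.SpecialLinearGroup (Fin 2) F)) (hirr : ∀ U : Subgroup X, U ≤ V → G ≤ Subgroup.normalizer (U : Set X) → U = ⊥ ∨ U = V) (hnt : ⁅V, G⁆ ≠ ⊥) (S : Sylow p ↥G) (hyp : ⁅⁅V, (S : Subgroup ↥G).map G.subtype⁆, (S : Subgroup ↥G).map G.subtype⁆ = ⊥ ∨ Nat.card ↥V ≤ Nat.card ↥(V ⊓ Subgroup.centralizer (((S : Subgroup ↥G).map G.subtype : Subgroup X) : Set X)) ^ 2) : Cfsg.ActsAsSL2OnSection F ⊤ G V ⊥ := by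
  classical
  obtain ⟨e₀⟩ := hG
  have hpp : p.Prime := Fact.out
  have : CharP F p := charP_of_card_eq_prime_pow hF
  have hFn : Nat.card F = p ^ n := by rw [Nat.card_eq_fintype_card, hF]
  obtain ⟨e, he⟩ := exists_equiv_sylow hFn e₀ S
  have hVc : ∀ a ∈ V, ∀ b ∈ V, a * b = b * a := fun a ha b hb =>
    congrArg Subtype.val (hV.1.1.comm (⟨a, ha⟩ : ↥V) ⟨b, hb⟩)
  letI := SL2Module.commGroupOf V hVc
  let α : Matrix.SpecialLinearGroup (Fin 2) F →* MulAut ↥V :=
    ((Subgroup.normalizerMonoidHom V).comp (Subgroup.inclusion hGV)).comp e.symm.toMonoidHom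
  let σ := SL2Module.addRep α
  have hσ : ∀ (g : ↥G) (a : Additive ↥V),
      (((σ (e g) a).toMul : ↥V) : X) = g * (a.toMul : X) * (g : X)⁻¹ := fun g a => by
    show (((Subgroup.normalizerMonoidHom V) (Subgroup.inclusion hGV (e.symm (e g))) a.toMul : ↥V) : X) = _
    rw [MulEquiv.symm_apply_apply]
    rfl
  have hp : ∀ m : Additive ↥V, p • m = 0 := fun m =>
    Additive.toMul.injective (Subtype.ext (hV.2 _ m.toMul.2))
  have hirr' : ∀ N : AddSubgroup (Additive ↥V), (∀ g, ∀ m ∈ N, σ g m ∈ N) → N = ⊥ ∨ N = ⊤ := by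
    intro N hN
    let U : Subgroup X := (AddSubgroup.toSubgroup' N).map V.subtype
    have hUV : U ≤ V := by rintro _ ⟨m, -, rfl⟩; exact m.2
    have hUG : G ≤ Subgroup.normalizer (U : Set X) := fun g hg => Subgroup.mem_normalizer_fintype (by
      rintro _ ⟨m, hm, rfl⟩
      exact ⟨(σ (e ⟨g, hg⟩) (Additive.ofMul m)).toMul, hN _ _ hm, hσ ⟨g, hg⟩ (Additive.ofMul m)⟩)
    rcases hirr U hUV hUG with h | h
    · refine Or.inl ((AddSubgroup.eq_bot_iff_forall N).2 fun m hm => ?_)
      have : (m.toMul : X) ∈ U := ⟨m.toMul, hm, rfl⟩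
      rw [h, Subgroup.mem_bot] at this
      exact Additive.toMul.injective (Subtype.ext this)
    · refine Or.inr (eq_top_iff.2 fun m _ => ?_)
      obtain ⟨m', hm', hmm⟩ := h.ge m.toMul.2
      have : Additive.ofMul m' = m := Additive.toMul.injective (Subtype.ext hmm)
      exact this ▸ hm'
  have hnt' : ∃ g m, σ g m ≠ m := by
    by_contra h
    push Not at h
    refine hnt (Subgroup.commutator_eq_bot_iff_le_centralizer.2 fun a ha g hg => ?_)
    have := hσ ⟨g, hg⟩ (Additive.ofMul ⟨a, ha⟩)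
    rw [h] at this
    exact (eq_mul_inv_iff_mul_eq.1 this).symm
  set S' := (S : Subgroup ↥G).map G.subtype with hS'
  have hS : ∀ t, (((e.symm (Quadratic.upperE t)) : ↥G) : X) ∈ S' := fun t =>
    ⟨_, (he _).2 ⟨t, (e.apply_symm_apply _).symm⟩, rfl⟩
  have hσu : ∀ t (a : Additive ↥V), (((σ (Quadratic.upperE t) a).toMul : ↥V) : X) =
      (e.symm (Quadratic.upperE t) : ↥G) * (a.toMul : X) * ((e.symm (Quadratic.upperE t) : ↥G) : X)⁻¹ :=
    fun t a => by rw [← hσ, e.apply_symm_apply]
  have hyp' : (∀ a b m, σ (Quadratic.upperE a) (σ (Quadratic.upperE b) m - m) = σ (Quadratic.upperE b) m - m) ∨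
      Nat.card (Additive ↥V) ≤ Nat.card ↥(SL2Natural.fixU σ) ^ 2 := by
    rcases hyp with h | h
    · refine Or.inl fun a b m => Additive.toMul.injective (Subtype.ext ?_)
      set s := ((e.symm (Quadratic.upperE a) : ↥G) : X) with hs
      set t := ((e.symm (Quadratic.upperE b) : ↥G) : X) with ht
      set c := (((σ (Quadratic.upperE b) m - m).toMul : ↥V) : X) with hc
      have hcval : c = t * (m.toMul : X) * t⁻¹ * (m.toMul : X)⁻¹ := by
        rw [hc, toMul_sub, div_eq_mul_inv, Subgroup.coe_mul, Subgroup.coe_inv, hσu]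
      have hcm : c ∈ ⁅V, S'⁆ := by
        rw [hcval, Subgroup.commutator_comm]
        exact Subgroup.commutator_mem_commutator (hS b) m.toMul.2
      rw [hσu]
      have h' : ⁅c, s⁆ ∈ (⊥ : Subgroup X) := h ▸ Subgroup.commutator_mem_commutator hcm (hS a)
      rw [Subgroup.mem_bot, commutatorElement_eq_one_iff_mul_comm] at h'
      show s * c * s⁻¹ = c
      rw [← h', mul_inv_cancel_right]
    · refine Or.inr (le_of_le_of_eq h (congrArg (· ^ 2) (Nat.card_congr ?_)))
      refine
        { toFun := fun a => ⟨Additive.ofMul ⟨a.1, a.2.1⟩, fun t => Additive.toMul.injective (Subtype.ext ?_)⟩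
          invFun := fun a => ⟨(a.1.toMul : X), a.1.toMul.2, ?_⟩
          left_inv := fun a => rfl
          right_inv := fun a => rfl }
      · rw [hσu]
        show _ * a.1 * _ = a.1
        rw [a.2.2 _ (hS t), mul_inv_cancel_right]
      · rintro _ ⟨g, hg, rfl⟩
        obtain ⟨t, ht⟩ := (he g).1 hg
        have h2 := congrArg (fun x : Additive ↥V => ((x.toMul : ↥V) : X)) (a.2 t)
        simp only [ht, hσ] at h2
        exact mul_inv_eq_iff_eq_mul.1 h2
  obtain ⟨Φ, hΦ, hΦeq⟩ := SL2Natural.exists_natural (σ := σ) hFn hp hirr' hnt' hyp'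
  let Φe : (Fin 2 → F) ≃+ Additive ↥V := AddEquiv.ofBijective Φ hΦ
  refine ⟨hGV, bot_le, e.toMonoidHom, AddMonoidHom.toMultiplicativeRight Φe.symm.toAddMonoidHom,
    MonoidHom.range_eq_top.2 e.surjective, fun v => ?_, fun u => ?_, fun g u => ?_⟩
  · obtain ⟨u, hu⟩ := Φe.symm.surjective v.toAdd
    exact ⟨u.toMul, hu⟩
  · show Φe.symm (Additive.ofMul u) = 0 ↔ _
    rw [map_eq_zero_iff Φe.symm Φe.symm.injective, Subgroup.mem_bot]
    exact ⟨fun h => congrArg (fun x : Additive ↥V => ((x.toMul : ↥V) : X)) h, fun h => Subtype.ext h⟩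
  · refine ⟨(σ (e g) (Additive.ofMul u)).toMul, hσ g _, ?_⟩
    show Φe.symm (σ (e g) (Additive.ofMul u)) = (e g).1.mulVec (Φe.symm (Additive.ofMul u))
    refine Φe.injective ?_
    rw [AddEquiv.apply_symm_apply]
    show _ = Φ _
    rw [hΦeq]
    exact congrArg (σ (e g)) (Φe.apply_symm_apply _).symm

end Cfsg.Agent.S3009
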