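import Cfsg.Statements.S3011
import Cfsg.Agent.EqLemmas
import Cfsg.Agent.Lib.Involution.BaerSuzuki
import Cfsg.Agent.Lib.Cores.Basic

set_option autoImplicit false
open Cfsg

namespace Cfsg.Agent.S3011

variable {G : Type*} [Group G]

theorem eq_one_of_odd {x : G} (hx : Odd (orderOf x)) (h : x ^ 2 = 1) : x = 1 :=
  orderOf_eq_one_iff.1 (Nat.eq_one_of_dvd_coprimes (Nat.coprime_two_right.2 hx) dvd_rfl
    (orderOf_dvd_of_pow_eq_one h))

theorem not_commute_and_invert {v x : G} (hx : Odd (orderOf x)) (hx1 : x ≠ 1)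
    (hi : v * x * v⁻¹ = x⁻¹) : v * x ≠ x * v := fun h => hx1 (eq_one_of_odd hx (by
  rw [h, mul_inv_cancel_right, eq_inv_iff_mul_eq_one] at hi
  rwa [pow_two]))

/-- Three involutions with the Sidki condition; `y` centralised by `p₁`, `x` by `p₂`. -/
theorem conj_not_commute {p₁ p₂ p₃ x y : G}
    (hsid : ∀ h : G, Odd (orderOf h) → p₃ * h * p₃⁻¹ = h⁻¹ →
      p₁ * h = h * p₁ ∨ p₂ * h = h * p₂ ∨ p₃ * h = h * p₃)
    (hx : Odd (orderOf x)) (hx1 : x ≠ 1) (hy : Odd (orderOf y)) (hy1 : y ≠ 1)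
    (hx2 : p₂ * x = x * p₂) (hxi1 : p₁ * x * p₁⁻¹ = x⁻¹) (hxi3 : p₃ * x * p₃⁻¹ = x⁻¹)
    (hy1c : p₁ * y = y * p₁) (hyi2 : p₂ * y * p₂⁻¹ = y⁻¹) (hyi3 : p₃ * y * p₃⁻¹ = y⁻¹) :
    p₂ * (y * x * y⁻¹) ≠ y * x * y⁻¹ * p₂ := by
  intro h
  have e1 : y⁻¹ * p₂ * y = p₂ * (y * y) := by
    have e : y⁻¹ * p₂ = p₂ * y := by rw [← hyi2, inv_mul_cancel_right]
    rw [e, mul_assoc]
  have e2 : p₂ * (y * y) * x = x * (p₂ * (y * y)) := by
    rw [← e1]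
    calc y⁻¹ * p₂ * y * x = y⁻¹ * (p₂ * (y * x * y⁻¹)) * y := by group
      _ = y⁻¹ * (y * x * y⁻¹ * p₂) * y := by rw [h]
      _ = x * (y⁻¹ * p₂ * y) := by group
  have e3 : Commute (y * y) x := by
    rw [← mul_assoc x, ← hx2] at e2
    simp only [mul_assoc] at e2
    show y * y * x = x * (y * y)
    simpa only [mul_assoc] using mul_left_cancel e2
  have hcxy : Commute x y := by
    obtain ⟨m, hm⟩ := exists_pow_eq_self_of_coprime (Nat.coprime_two_left.2 hy)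
    rw [← hm, pow_two]
    exact (e3.pow_left m).symm
  have hodd : Odd (orderOf (x * y)) :=
    Odd.of_dvd_nat (Odd.of_dvd_nat (hx.mul hy) (Nat.lcm_dvd_mul _ _)) hcxy.orderOf_mul_dvd_lcm
  have hinv : p₃ * (x * y) * p₃⁻¹ = (x * y)⁻¹ := by
    rw [← conj_mul, hxi3, hyi3, mul_inv_rev, (hcxy.inv_inv).eq]
  have key : ∀ v : G, v * (x * y) = x * y * v → v * x * v⁻¹ * (v * y * v⁻¹) = x * y := by
    intro v hv
    rw [conj_mul, hv, mul_inv_cancel_right]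
  rcases hsid (x * y) hodd hinv with h1 | h1 | h1
  · have := key p₁ h1
    rw [hxi1, hy1c, mul_inv_cancel_right] at this
    have h2 := mul_right_cancel this
    exact hx1 (eq_one_of_odd hx (by rw [pow_two]; nth_rw 1 [← h2]; rw [inv_mul_cancel]))
  · have := key p₂ h1
    rw [hyi2, hx2, mul_inv_cancel_right] at this
    have h2 := mul_left_cancel this
    exact hy1 (eq_one_of_odd hy (by rw [pow_two]; nth_rw 1 [← h2]; rw [inv_mul_cancel]))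
  · by_cases hxy : x * y = 1
    · have h2 : y = x⁻¹ := eq_inv_of_mul_eq_one_right hxy
      rw [h2, ← hxi1] at hy1c
      rw [h2] at hy1
      refine not_commute_and_invert hx hx1 hxi1 ?_
      rw [hxi1] at hy1c
      have := congrArg (fun t => x * t * x) hy1c
      simpa [mul_assoc] using this.symm
    · exact not_commute_and_invert hodd hxy hinv h1

/-- Let G be a finite group and V a nontrivial elementary abelian 2-subgroup of G of order at most 4 such that, whenever an element of V inverts an element h of G of odd order, some nontrivial element of V commutes with h. Then V meets O₂(G) nontrivially. (The case of order at most 4 has a short argument from the Baer–Suzuki theorem.) -/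
theorem result {G : Type*} [Group G] [Finite G] (V : Subgroup G) (hV : Cfsg.IsElementaryAbelian 2 V) (hV1 : V ≠ ⊥) (hS : Cfsg.IsSidkiPair V) (h4 : Nat.card V ≤ 4) : V ⊓ Cfsg.pCore 2 G ≠ ⊥ := by
  classical
  intro hbot
  haveI : IsMulCommutative V := hV.1
  have hab : ∀ a ∈ V, ∀ b ∈ V, a * b = b * a := fun a ha b hb =>
    congrArg Subtype.val (mul_comm' (⟨a, ha⟩ : V) ⟨b, hb⟩)
  have hsq : ∀ a ∈ V, a * a = 1 := fun a ha => by rw [← pow_two]; exact hV.2 a ha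
  have hinv : ∀ v ∈ V, v ≠ 1 → ∃ h : G, h ≠ 1 ∧ Odd (orderOf h) ∧ v * h * v⁻¹ = h⁻¹ := by
    intro v hv hv1
    refine Involution.exists_inverted_odd (orderOf_eq_prime (hV.2 v hv) hv1) fun N hN hN2 hvN =>
      hv1 (Subgroup.mem_bot.1 (hbot.le ⟨hv, ?_⟩))
    exact Cores.le_pCore hN hN2 hvN
  -- a nontrivial element and a witness
  obtain ⟨p₁, hp₁, hp₁1⟩ := (Subgroup.bot_or_exists_ne_one V).resolve_left hV1
  obtain ⟨x, hx1, hx, hxi⟩ := hinv p₁ hp₁ hp₁1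
  obtain ⟨p₂, hp₂, hp₂1, hxc⟩ := hS x p₁ hp₁ hx hxi
  have h12 : p₁ ≠ p₂ := fun e => not_commute_and_invert hx hx1 hxi (e ▸ hxc)
  obtain ⟨y, hy1, hy, hyi⟩ := hinv p₂ hp₂ hp₂1
  obtain ⟨w, hw, hw1, hyc⟩ := hS y p₂ hp₂ hy hyi
  have h2w : p₂ ≠ w := fun e => not_commute_and_invert hy hy1 hyi (e ▸ hyc)
  have h121 : p₁ * p₂ ≠ 1 := fun e => h12 (by
    rw [eq_inv_of_mul_eq_one_left e, inv_eq_of_mul_eq_one_right (hsq p₂ hp₂)])
  -- the elements of `V`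
  have hall : ∀ v ∈ V, v ≠ 1 → v = p₁ ∨ v = p₂ ∨ v = p₁ * p₂ := by
    intro v hv hv1
    by_contra hcon
    push Not at hcon
    obtain ⟨n1, n2, n3⟩ := hcon
    have hc : ({1, p₁, p₂, p₁ * p₂, v} : Finset G).card = 5 := by
      rw [Finset.card_insert_of_notMem, Finset.card_insert_of_notMem,
        Finset.card_insert_of_notMem, Finset.card_insert_of_notMem, Finset.card_singleton]
      · simp [Ne.symm n3]
      · simp [Ne.symm n2, hp₁1]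
      · simp [Ne.symm n1, h12, hp₂1]
      · simp [Ne.symm hp₁1, Ne.symm hp₂1, Ne.symm h121, Ne.symm hv1]
    have hsub : (({1, p₁, p₂, p₁ * p₂, v} : Finset G) : Set G) ⊆ (V : Set G) := by
      intro t ht
      simp only [Finset.coe_insert, Finset.coe_singleton, Set.mem_insert_iff,
        Set.mem_singleton_iff] at ht
      rcases ht with rfl | rfl | rfl | rfl | rfl
      · exact one_mem _
      · exact hp₁
      · exact hp₂
      · exact mul_mem hp₁ hp₂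
      · exact hv
    have := Set.ncard_le_ncard hsub (Set.toFinite _)
    rw [Set.ncard_coe_finset, hc, ← Nat.card_coe_set_eq] at this
    exact absurd (this.trans h4) (by norm_num)
  -- the Sidki condition in the form of the lemma
  have hsid3 : ∀ a b c : G, a ∈ V → (∀ v ∈ V, v ≠ 1 → v = b ∨ v = c ∨ v = a) → ∀ h : G,
      Odd (orderOf h) → a * h * a⁻¹ = h⁻¹ → b * h = h * b ∨ c * h = h * c ∨ a * h = h * a := by
    intro a b c ha hcov h hh hi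
    obtain ⟨u, hu, hu1, huc⟩ := hS h a ha hh hi
    rcases hcov u hu hu1 with rfl | rfl | rfl
    · exact Or.inl huc
    · exact Or.inr (Or.inl huc)
    · exact Or.inr (Or.inr huc)
  have hprod : ∀ {a b : G} {z : G}, a * z = z * a → b * z * b⁻¹ = z⁻¹ →
      a * b * z * (a * b)⁻¹ = z⁻¹ := by
    intro a b z h1 h2
    calc a * b * z * (a * b)⁻¹ = a * (b * z * b⁻¹) * a⁻¹ := by group
      _ = a * z⁻¹ * a⁻¹ := by rw [h2]
      _ = (a * z * a⁻¹)⁻¹ := by group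
      _ = z⁻¹ := by rw [h1, mul_inv_cancel_right]
  -- the core: y₀ centralised by q₁, x₀ by q₂
  have core : ∀ q₁ q₂ : G, q₁ ∈ V → q₂ ∈ V → (∀ v ∈ V, v ≠ 1 → v = q₁ ∨ v = q₂ ∨ v = q₁ * q₂) →
      ∀ x₀ y₀ : G, x₀ ≠ 1 → Odd (orderOf x₀) → y₀ ≠ 1 → Odd (orderOf y₀) →
      q₂ * x₀ = x₀ * q₂ → q₁ * x₀ * q₁⁻¹ = x₀⁻¹ →
      q₁ * y₀ = y₀ * q₁ → q₂ * y₀ * q₂⁻¹ = y₀⁻¹ → False := by
    intro q₁ q₂ hq₁ hq₂ hcov x₀ y₀ hx₀1 hx₀ hy₀1 hy₀ hxc₀ hxi₀ hyc₀ hyi₀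
    set q₃ := q₁ * q₂ with hq₃
    have hq₃V : q₃ ∈ V := mul_mem hq₁ hq₂
    have hxi3 : q₃ * x₀ * q₃⁻¹ = x₀⁻¹ := by
      rw [hq₃, hab q₁ hq₁ q₂ hq₂]; exact hprod hxc₀ hxi₀
    have hyi3 : q₃ * y₀ * q₃⁻¹ = y₀⁻¹ := hprod hyc₀ hyi₀
    have hkey : ∀ s : G, Odd (orderOf s) → s ≠ 1 → q₁ * s = s * q₁ →
        q₂ * s * q₂⁻¹ = s⁻¹ → q₃ * s * q₃⁻¹ = s⁻¹ →
        q₃ * (s * x₀ * s⁻¹) = s * x₀ * s⁻¹ * q₃ := by
      intro s hs hs1 hsc hsi2 hsi3
      have hodd : Odd (orderOf (s * x₀ * s⁻¹)) := by rwa [Involution.orderOf_conj]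
      have hne : s * x₀ * s⁻¹ ≠ 1 := fun e => hx₀1 (by simpa using e)
      have hi1 : q₁ * (s * x₀ * s⁻¹) * q₁⁻¹ = (s * x₀ * s⁻¹)⁻¹ := by
        have e1 : q₁ * s * q₁⁻¹ = s := by rw [hsc, mul_inv_cancel_right]
        calc q₁ * (s * x₀ * s⁻¹) * q₁⁻¹ =
            (q₁ * s * q₁⁻¹) * (q₁ * x₀ * q₁⁻¹) * (q₁ * s * q₁⁻¹)⁻¹ := by group
          _ = s * x₀⁻¹ * s⁻¹ := by rw [hxi₀, e1]
          _ = (s * x₀ * s⁻¹)⁻¹ := by group
      rcases hsid3 q₁ q₂ q₃ hq₁ (fun v hv hv1 => by rcases hcov v hv hv1 with h | h | h <;> tauto)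
        _ hodd hi1 with h1 | h1 | h1
      · exact absurd h1 (conj_not_commute (hsid3 q₃ q₁ q₂ hq₃V hcov) hx₀ hx₀1 hs hs1 hxc₀ hxi₀
          hxi3 hsc hsi2 hsi3)
      · exact h1
      · exact absurd h1 (not_commute_and_invert hodd hne hi1)
    have hu := hkey y₀ hy₀ hy₀1 hyc₀ hyi₀ hyi3
    have hy2 : q₁ * (y₀ * y₀) = y₀ * y₀ * q₁ := (Commute.mul_right hyc₀ hyc₀)
    have hinv2 : ∀ q : G, q * y₀ * q⁻¹ = y₀⁻¹ → q * (y₀ * y₀) * q⁻¹ = (y₀ * y₀)⁻¹ := fun q hq => by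
      rw [← conj_mul, hq, mul_inv_rev]
    have hy21 : y₀ * y₀ ≠ 1 := fun e => hy₀1 (eq_one_of_odd hy₀ (by rwa [pow_two]))
    have hy2o : Odd (orderOf (y₀ * y₀)) := by
      rw [← pow_two]; exact Odd.of_dvd_nat hy₀ (orderOf_pow_dvd 2)
    have hu2 := hkey (y₀ * y₀) hy2o hy21 hy2 (hinv2 q₂ hyi₀) (hinv2 q₃ hyi3)
    set u := y₀ * x₀ * y₀⁻¹ with hu_def
    have hodd : Odd (orderOf u) := by rwa [hu_def, Involution.orderOf_conj]
    have hne : u ≠ 1 := fun e => hx₀1 (by simpa [hu_def] using e)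
    have hui1 : q₁ * u * q₁⁻¹ = u⁻¹ := by
      have e1 : q₁ * y₀ * q₁⁻¹ = y₀ := by rw [hyc₀, mul_inv_cancel_right]
      calc q₁ * u * q₁⁻¹ = (q₁ * y₀ * q₁⁻¹) * (q₁ * x₀ * q₁⁻¹) * (q₁ * y₀ * q₁⁻¹)⁻¹ := by
            rw [hu_def]; group
        _ = y₀ * x₀⁻¹ * y₀⁻¹ := by rw [hxi₀, e1]
        _ = u⁻¹ := by rw [hu_def]; group
    have hui2 : q₂ * u * q₂⁻¹ = u⁻¹ := by
      have e : q₂ = q₁⁻¹ * q₃ := by rw [hq₃, inv_mul_cancel_left]
      rw [e]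
      calc q₁⁻¹ * q₃ * u * (q₁⁻¹ * q₃)⁻¹ = q₁⁻¹ * (q₃ * u * q₃⁻¹) * q₁ := by group
        _ = q₁⁻¹ * u * q₁ := by rw [hu, mul_inv_cancel_right]
        _ = q₁⁻¹ * (q₁ * u * q₁⁻¹)⁻¹ * q₁ := by rw [hui1, inv_inv]
        _ = u⁻¹ := by group
    have e : y₀ * u * y₀⁻¹ = (y₀ * y₀) * x₀ * (y₀ * y₀)⁻¹ := by rw [hu_def]; group
    exact conj_not_commute (hsid3 q₂ q₁ q₃ hq₂ (fun v hv hv1 => by
      rcases hcov v hv hv1 with h | h | h <;> tauto)) hodd hne hy₀ hy₀1 hu hui1 hui2 hyc₀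
      hyi3 hyi₀ (e ▸ hu2)
  rcases hall w hw hw1 with rfl | rfl | rfl
  · exact core _ _ hw hp₂ hall x y hx1 hx hy1 hy hxc hxi hyc hyi
  · exact h2w rfl
  · -- y is centralised by p₁ * p₂ and inverted by p₁, p₂
    have hyi1 : p₁ * y * p₁⁻¹ = y⁻¹ := by
      have h1 : p₁ * p₂ * y * (p₁ * p₂)⁻¹ = y := by rw [hyc, mul_inv_cancel_right]
      have h2 : p₁ * y⁻¹ * p₁⁻¹ = y := by
        rw [← hyi]; simpa [mul_assoc] using h1
      have h3 := congrArg (·⁻¹) h2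
      simpa [mul_assoc] using h3
    refine core (p₁ * p₂) p₂ hw hp₂ (fun v hv hv1 => ?_) x y hx1 hx hy1 hy hxc ?_ hyc hyi
    · rcases hall v hv hv1 with h | h | h
      · right; right; rw [h, mul_assoc, hsq p₂ hp₂, mul_one]
      · exact Or.inr (Or.inl h)
      · exact Or.inl h
    · rw [hab p₁ hp₁ p₂ hp₂]; exact hprod hxc hxi

end Cfsg.Agent.S3011
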