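import Cfsg.Statements.S3012
import Cfsg.Agent.EqLemmas

set_option autoImplicit false
open Cfsg

namespace Cfsg.Agent.S3012

/-- Let G be a finite group, V a nontrivial elementary abelian 2-subgroup of G satisfying the Sidki pair condition (every odd-order element inverted by an element of V commutes with a nontrivial element of V), and K a normal subgroup of G with V ∩ K = 1. Then the image of V in G/K satisfies the Sidki pair condition in G/K. -/
theorem result {G : Type*} [Group G] [Finite G] (V K : Subgroup G) [K.Normal] (hV : Cfsg.IsElementaryAbelian 2 V) (hV1 : V ≠ ⊥) (hS : Cfsg.IsSidkiPair V) (hVK : V ⊓ K = ⊥) : Cfsg.IsSidkiPair (V.map (QuotientGroup.mk' K)) := by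
  intro hb vb hvb hodd hinv
  obtain ⟨v, hv, rfl⟩ := hvb
  obtain ⟨h0, rfl⟩ := QuotientGroup.mk'_surjective K hb
  set π := QuotientGroup.mk' K
  have hv2 : v⁻¹ = v := inv_eq_of_mul_eq_one_right (by rw [← pow_two]; exact hV.2 v hv)
  set y := v * h0 * v⁻¹ * h0⁻¹ with hy
  have hyinv : v * y * v⁻¹ = y⁻¹ := by
    rw [hy, hv2]
    have hv3 : v * v = 1 := by rw [← pow_two]; exact hV.2 v hv
    simp only [mul_inv_rev, inv_inv, mul_assoc]
    rw [← mul_assoc v v, hv3, one_mul, hv2]
  have hπy : π y = (π h0)⁻¹ ^ 2 := by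
    rw [hy, map_mul, map_mul, map_mul, map_inv, map_inv, hinv, pow_two]
  obtain ⟨a, d, hd, hn⟩ := Nat.exists_eq_two_pow_mul_odd (orderOf_pos y).ne'
  set z := y ^ (2 ^ a) with hz
  have hzinv : v * z * v⁻¹ = z⁻¹ := by rw [hz, ← conj_pow, hyinv, inv_pow]
  have hzodd : Odd (orderOf z) := by
    apply Odd.of_dvd_nat hd
    apply orderOf_dvd_of_pow_eq_one
    rw [hz, ← pow_mul, ← hn, pow_orderOf_eq_one]
  obtain ⟨w, hw, hw1, hwz⟩ := hS z v hv hzodd hzinv
  refine ⟨π w, Subgroup.mem_map_of_mem _ hw, ?_, ?_⟩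
  · intro h1
    exact hw1 (Subgroup.mem_bot.mp (hVK.le ⟨hw, (QuotientGroup.eq_one_iff w).mp h1⟩))
  · have h2 : Commute (π w) (π z) := Commute.map hwz π
    have h3 : π z = ((π h0) ^ (2 ^ (a + 1)))⁻¹ := by
      rw [hz, map_pow, hπy, ← pow_mul, inv_pow, pow_succ']
    rw [h3, Commute.inv_right_iff] at h2
    obtain ⟨m, hm⟩ := exists_pow_eq_self_of_coprime
      ((Nat.coprime_two_left.mpr hodd).pow_left (a + 1))
    have h4 := h2.pow_right m
    rwa [hm] at h4

end Cfsg.Agent.S3012
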